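import Mathlib
import Groth.Prelude.Def_KGr
import Groth.Agent.Lib.Helper16ChernA
import Groth.Agent.Lib.Helper16ChernB
import Groth.Agent.Lib.Helper16ChernC

/-!
# Helper16: multiplicativity of the Chern character

Leibniz formula for iterated forward differences at `0`, applied to the sequences `j ↦ ψ^j(x)`.
-/

set_option autoImplicit false
set_option linter.style.haveILetI false
set_option linter.unusedSectionVars false
set_option synthInstance.maxHeartbeats 400000
universe v
open scoped TensorProduct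
open LaurentPolynomial

namespace Groth.Agent.Lib.Helper16.Chern
open LambdaRing KGr Finset Groth.Agent.Lib.Helper4 Groth.Agent.Lib.Helper4.LUniv

section Leibniz

/-- structure constants of the Leibniz formula for iterated forward differences. -/
def wcoef (k i l : ℕ) : ℤ :=
  ∑ m ∈ range (k + 1), ((-1 : ℤ) ^ (k - m) * (k.choose m : ℤ)) * ((m.choose i : ℤ) * (m.choose l : ℤ))

/-- the polynomial `m ↦ C(m,i) C(m,l)`. -/
noncomputable def chooseMulPoly (i l : ℕ) : Polynomial ℚ :=
  Polynomial.C (1 / ((i.factorial : ℚ) * (l.factorial : ℚ))) *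
    (descPochhammer ℚ i * descPochhammer ℚ l)

theorem eval_chooseMulPoly (i l m : ℕ) :
    (chooseMulPoly i l).eval (m : ℚ) = (m.choose i : ℚ) * (m.choose l : ℚ) := by
  rw [chooseMulPoly, Polynomial.eval_mul, Polynomial.eval_C, Polynomial.eval_mul,
    Nat.cast_choose_eq_descPochhammer_div, Nat.cast_choose_eq_descPochhammer_div]
  have h1 : (i.factorial : ℚ) ≠ 0 := by positivity
  have h2 : (l.factorial : ℚ) ≠ 0 := by positivity
  field_simp

theorem natDegree_chooseMulPoly (i l : ℕ) : (chooseMulPoly i l).natDegree = i + l := by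
  have h1 : (1 / ((i.factorial : ℚ) * (l.factorial : ℚ))) ≠ 0 := by positivity
  rw [chooseMulPoly, Polynomial.natDegree_C_mul h1,
    Polynomial.natDegree_mul (monic_descPochhammer ℚ i).ne_zero (monic_descPochhammer ℚ l).ne_zero,
    descPochhammer_natDegree, descPochhammer_natDegree]

theorem leadingCoeff_chooseMulPoly (i l : ℕ) :
    (chooseMulPoly i l).leadingCoeff = 1 / ((i.factorial : ℚ) * (l.factorial : ℚ)) := by
  rw [chooseMulPoly, Polynomial.leadingCoeff_mul, Polynomial.leadingCoeff_C,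
    Polynomial.leadingCoeff_mul, (monic_descPochhammer ℚ i).leadingCoeff,
    (monic_descPochhammer ℚ l).leadingCoeff, mul_one, mul_one]

theorem wcoef_cast (k i l : ℕ) :
    ((wcoef k i l : ℤ) : ℚ) = ((fwdDiff (1 : ℚ))^[k] (chooseMulPoly i l).eval) 0 := by
  rw [fwdDiff_iter_eq_sum_shift, wcoef]
  push_cast
  apply sum_congr rfl
  intro m _
  rw [zero_add, nsmul_eq_mul, mul_one, eval_chooseMulPoly, zsmul_eq_mul]
  push_cast
  ring

theorem wcoef_eq_zero (k i l : ℕ) (h : i + l < k) : wcoef k i l = 0 := by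
  have h1 := wcoef_cast k i l
  rw [Polynomial.fwdDiff_iter_eq_zero_of_degree_lt (by rw [natDegree_chooseMulPoly]; exact h),
    Pi.zero_apply] at h1
  exact_mod_cast h1

theorem wcoef_eq_choose (i l : ℕ) : wcoef (i + l) i l = ((i + l).choose i : ℤ) := by
  have h1 := wcoef_cast (i + l) i l
  have h2 := (chooseMulPoly i l).fwdDiff_iter_degree_eq_factorial
  rw [natDegree_chooseMulPoly] at h2
  rw [h2, leadingCoeff_chooseMulPoly] at h1
  have h3 : ((wcoef (i + l) i l : ℤ) : ℚ) = (((i + l).choose i : ℤ) : ℚ) := by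
    rw [h1]
    simp only [Pi.smul_apply, Pi.natCast_apply, smul_eq_mul, Int.cast_natCast]
    rw [Nat.cast_add_choose]
    ring
  exact_mod_cast h3

variable {A : Type*} [CommRing A]

theorem fwdDiff_iter_mul_zero (a b : ℕ → A) (k : ℕ) :
    ((fwdDiff (1 : ℕ))^[k] (fun m => a m * b m)) 0 =
      ∑ i ∈ range (k + 1), ∑ l ∈ range (k + 1),
        (wcoef k i l : A) * (((fwdDiff (1 : ℕ))^[i] a) 0 * ((fwdDiff (1 : ℕ))^[l] b) 0) := by
  have hexp : ∀ (c : ℕ → A) (m : ℕ), m ∈ range (k + 1) →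
      c m = ∑ i ∈ range (k + 1), (m.choose i : A) * ((fwdDiff (1 : ℕ))^[i] c) 0 := by
    intro c m hm
    rw [mem_range] at hm
    have := shift_eq_sum_fwdDiff_iter (1 : ℕ) c m 0
    simp only [smul_eq_mul, mul_one, zero_add, nsmul_eq_mul] at this
    rw [this]
    apply Finset.sum_subset (range_subset_range.2 (by omega))
    intro i hi hi'
    rw [mem_range] at hi hi'
    rw [Nat.choose_eq_zero_of_lt (by omega), Nat.cast_zero, zero_mul]
  rw [fwdDiff_iter_eq_sum_shift]
  simp only [smul_eq_mul, mul_one, zero_add, zsmul_eq_mul]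
  rw [Finset.sum_congr rfl (fun m hm => by rw [hexp a m hm, hexp b m hm])]
  have step : ∀ m ∈ range (k + 1),
      ((((-1 : ℤ) ^ (k - m) * (k.choose m : ℤ) : ℤ) : A)) *
        ((∑ i ∈ range (k + 1), (m.choose i : A) * ((fwdDiff (1 : ℕ))^[i] a) 0) *
          (∑ l ∈ range (k + 1), (m.choose l : A) * ((fwdDiff (1 : ℕ))^[l] b) 0)) =
      ∑ i ∈ range (k + 1), ∑ l ∈ range (k + 1),
        ((((-1 : ℤ) ^ (k - m) * (k.choose m : ℤ) : ℤ) : A)) *
          (((m.choose i : A) * ((fwdDiff (1 : ℕ))^[i] a) 0) *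
            ((m.choose l : A) * ((fwdDiff (1 : ℕ))^[l] b) 0)) := by
    intro m _
    rw [Finset.sum_mul_sum, Finset.mul_sum]
    apply sum_congr rfl
    intro i _
    rw [Finset.mul_sum]
  rw [Finset.sum_congr rfl step, Finset.sum_comm]
  apply sum_congr rfl
  intro i _
  rw [Finset.sum_comm]
  apply sum_congr rfl
  intro l _
  rw [wcoef]
  push_cast
  rw [Finset.sum_mul]
  apply sum_congr rfl
  intro m _
  ring

end Leibniz

section Cls
variable {K : Type v} [CommRing K] [LambdaOps K] (P : PosStructure K)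

theorem cls_eq_zero_of_lt' {d : ℕ} (hd : gammaFiltration P (d + 1) = ⊥) (n : ℕ) (hn : d + 1 ≤ n)
    (x : K) (h : C x * T (-(n : ℤ)) ∈ rees P) : cls P n x h = 0 := by
  have hx := mem_of_mem_rees P n x h
  have := gammaFiltration_anti P hn hx
  rw [hd, AddSubgroup.mem_bot] at this
  exact cls_eq_zero_of_eq_zero P this h

theorem rees_mem_succ (n : ℕ) (z : K) (hz : z ∈ gammaFiltration P (n + 1)) :
    C z * T (-((n : ℤ) + 1)) ∈ rees P := by
  have := rees_mem P (n + 1) z hz
  convert this using 3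
  push_cast
  ring

theorem cls_eq_of_sub_mem' (n : ℕ) (a b : K) (ha : C a * T (-(n : ℤ)) ∈ rees P)
    (hb : C b * T (-(n : ℤ)) ∈ rees P) (hab : a - b ∈ gammaFiltration P (n + 1)) :
    cls P n a ha = cls P n b hb := by
  have hd' : C (a - b) * T (-((n : ℤ) + 1)) ∈ rees P := rees_mem_succ P n _ hab
  have hd0 : C (a - b) * T (-(n : ℤ)) ∈ rees P := by
    rw [map_sub, sub_mul]; exact sub_mem ha hb
  have h0 := cls_eq_zero_of_succ P hd0 hd'
  have e := cls_add P hd0 hb
  rw [h0, zero_add] at e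
  rw [← e]
  exact cls_congr P rfl (by ring) _ _

theorem one_tmul_intCast' (z : ℤ) :
    (1 : ℚ) ⊗ₜ[ℤ] ((z : ℤ) : GrZ P) = algebraMap ℚ (Gr P) (z : ℚ) := by
  rw [Algebra.TensorProduct.algebraMap_apply, ← zsmul_one (z : ℤ), TensorProduct.tmul_smul,
    TensorProduct.smul_tmul']
  simp

theorem cls_sum' (n : ℤ) {ι : Type*} [DecidableEq ι] (s : Finset ι) (f : ι → K) (g : ι → GrZ P)
    (hfg : ∀ i ∈ s, ∃ h : C (f i) * T (-n) ∈ rees P, cls P n (f i) h = g i) :
    ∃ h : C (∑ i ∈ s, f i) * T (-n) ∈ rees P, cls P n (∑ i ∈ s, f i) h = ∑ i ∈ s, g i := by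
  induction s using Finset.induction_on with
  | empty =>
    refine ⟨by rw [sum_empty]; exact rees_mem_zero P n, ?_⟩
    rw [show (∑ i ∈ (∅ : Finset ι), g i) = 0 from sum_empty]
    exact cls_eq_zero_of_eq_zero P sum_empty _
  | insert a s ha ih =>
    obtain ⟨h1, e1⟩ := hfg a (mem_insert_self a s)
    obtain ⟨h2, e2⟩ := ih (fun i hi => hfg i (mem_insert_of_mem hi))
    refine ⟨by rw [sum_insert ha]; exact rees_mem_add P h1 h2, ?_⟩
    rw [show (∑ i ∈ insert a s, g i) = g a + ∑ i ∈ s, g i from sum_insert ha, ← e1, ← e2,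
      ← cls_add P h1 h2]
    exact cls_congr P rfl (sum_insert ha) _ _

end Cls

section Dk
variable {K : Type v} [CommRing K] [LambdaOps K] (P : PosStructure K)

/-- `D_k(x) = Δ^k (j ↦ ψ^j x)(0)`, where `ψ^0 = ε`. -/
noncomputable def Dk (k : ℕ) (x : K) : K := ((fwdDiff (1 : ℕ))^[k] (fun j => adams P j x)) 0

theorem Dk_zero (x : K) : Dk P 0 x = (P.aug x : K) := by
  simp [Dk, adams_zero_eq_aug]

theorem Dk_eq_sum (k : ℕ) (x : K) : Dk P k x =
    ∑ j ∈ range (k + 1), ((((-1 : ℤ) ^ (k - j) * (k.choose j : ℤ) : ℤ)) : K) * adams P j x := by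
  rw [Dk, fwdDiff_iter_eq_sum_shift]
  simp [zsmul_eq_mul]

theorem adams_intCast (j : ℕ) (z : ℤ) : adams P j ((z : ℤ) : K) = z := by
  have : ((z : ℤ) : K) = z • (1 : K) := by simp
  rw [this, ← adamsAddHom_apply, map_zsmul, adamsAddHom_apply, adams_one]

theorem sum_alt_choose (k : ℕ) (hk : 1 ≤ k) :
    ∑ j ∈ range (k + 1), ((-1 : ℤ) ^ (k - j) * (k.choose j : ℤ)) = 0 := by
  have := congrFun (fwdDiff_iter_pow_eq_zero_of_lt (R := ℤ) (j := 0) (n := k) hk) 0
  rw [fwdDiff_iter_eq_sum_shift] at this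
  simpa using this

theorem Dk_eq_pK (k : ℕ) (hk : 1 ≤ k) (x : K) : Dk P k x = pK P k (x - (P.aug x : K)) := by
  rw [Dk_eq_sum, Finset.sum_range_succ', pK]
  have hS := sum_alt_choose k hk
  rw [Finset.sum_range_succ'] at hS
  have hSK := congrArg (Int.cast : ℤ → K) hS
  push_cast at hSK
  have e : ∀ i, k - 1 - i = k - (i + 1) := fun i => by omega
  simp only [adams_sub, adams_intCast, adams_zero_eq_aug, mul_sub, Finset.sum_sub_distrib, e,
    Nat.sub_zero] at hSK ⊢
  rw [← Finset.sum_mul]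
  push_cast
  linear_combination (P.aug x : K) * hSK

theorem Dk_rees_mem (k : ℕ) (x : K) : C (Dk P k x) * T (-(k : ℤ)) ∈ rees P := by
  rcases Nat.eq_zero_or_pos k with rfl | hk
  · rw [Dk_zero]
    simp
  · rw [Dk_eq_pK P k hk]
    exact pK_rees_mem P k _ (aug_sub_aug P x)

theorem Dk_mem (k : ℕ) (x : K) : Dk P k x ∈ gammaFiltration P k :=
  mem_of_mem_rees P k _ (Dk_rees_mem P k x)

theorem Dk_mul_sub_mem {P : PosStructure K} (hK : HasSplitting K P) (k : ℕ) (x y : K) :
    Dk P k (x * y) - ∑ i ∈ range (k + 1), (k.choose i : K) * (Dk P i x * Dk P (k - i) y) ∈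
      gammaFiltration P (k + 1) := by
  have hfun : (fun j => adams P j (x * y)) = fun j => adams P j x * adams P j y :=
    funext fun j => adams_mul hK j x y
  have h1 : Dk P k (x * y) = ∑ i ∈ range (k + 1), ∑ l ∈ range (k + 1),
      (wcoef k i l : K) * (Dk P i x * Dk P l y) := by
    rw [Dk, hfun, fwdDiff_iter_mul_zero]
    rfl
  have h2 : ∀ i ∈ range (k + 1), (k.choose i : K) * (Dk P i x * Dk P (k - i) y) =
      ∑ l ∈ range (k + 1), (if l = k - i then (k.choose i : K) else 0) * (Dk P i x * Dk P l y) := by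
    intro i hi
    rw [mem_range] at hi
    rw [Finset.sum_eq_single (k - i)]
    · rw [if_pos rfl]
    · intro l _ hl
      rw [if_neg hl, zero_mul]
    · intro h
      exfalso
      apply h
      rw [mem_range]
      omega
  rw [h1, Finset.sum_congr rfl h2, ← Finset.sum_sub_distrib]
  apply sum_mem
  intro i hi
  rw [mem_range] at hi
  rw [← Finset.sum_sub_distrib]
  apply sum_mem
  intro l hl
  rw [mem_range] at hl
  rw [← sub_mul]
  rcases lt_trichotomy (i + l) k with h | h | h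
  · rw [wcoef_eq_zero k i l h, if_neg (by omega), Int.cast_zero, sub_zero, zero_mul]
    exact zero_mem _
  · subst h
    rw [wcoef_eq_choose, if_pos (by omega), Int.cast_natCast, sub_self, zero_mul]
    exact zero_mem _
  · exact mul_mem_gammaFiltration_left P _ _ _ (gammaFiltration_anti P (by omega)
      (mul_mem_gammaFiltration P i l _ _ (Dk_mem P i x) (Dk_mem P l y)))

/-- the class of `D_k(x)` in degree `k`. -/
noncomputable def Ek (k : ℕ) (x : K) : GrZ P := cls P k (Dk P k x) (Dk_rees_mem P k x)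

theorem Ek_mul_eq_zero {d : ℕ} (hd : gammaFiltration P (d + 1) = ⊥) (i l : ℕ) (h : d < i + l)
    (x y : K) : Ek P i x * Ek P l y = 0 := by
  rw [Ek, Ek, cls_mul]
  have hmem := rees_mem_mul P (Dk_rees_mem P i x) (Dk_rees_mem P l y)
  have e : ((i : ℤ) + (l : ℤ)) = ((i + l : ℕ) : ℤ) := by push_cast; rfl
  rw [cls_congr P e rfl hmem (by rw [← e]; exact hmem)]
  exact cls_eq_zero_of_lt' P hd (i + l) (by omega) _ _

theorem Ek_mul {P : PosStructure K} (hK : HasSplitting K P) (k : ℕ) (x y : K) :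
    Ek P k (x * y) = ∑ i ∈ range (k + 1), k.choose i • (Ek P i x * Ek P (k - i) y) := by
  have hterm : ∀ i ∈ range (k + 1), ∃ h : C ((k.choose i : K) * (Dk P i x * Dk P (k - i) y)) *
      T (-(k : ℤ)) ∈ rees P,
      cls P k ((k.choose i : K) * (Dk P i x * Dk P (k - i) y)) h =
        k.choose i • (Ek P i x * Ek P (k - i) y) := by
    intro i hi
    rw [mem_range] at hi
    have e : ((i : ℤ) + ((k - i : ℕ) : ℤ)) = (k : ℤ) := by omega
    have hz0 := rees_mem_mul P (Dk_rees_mem P i x) (Dk_rees_mem P (k - i) y)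
    have hz : C (Dk P i x * Dk P (k - i) y) * T (-(k : ℤ)) ∈ rees P := by
      rw [← e]; exact hz0
    refine ⟨rees_mem_natCast_mul P _ hz, ?_⟩
    rw [cls_natCast_mul P _ hz, Ek, Ek, cls_mul]
    congr 1
    exact cls_congr P e.symm rfl _ _
  obtain ⟨h, he⟩ := cls_sum' P (k : ℤ) (range (k + 1))
    (fun i => (k.choose i : K) * (Dk P i x * Dk P (k - i) y))
    (fun i => k.choose i • (Ek P i x * Ek P (k - i) y)) hterm
  rw [← he, Ek]
  exact cls_eq_of_sub_mem' P k _ _ _ _ (Dk_mul_sub_mem hK k x y)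

/-- the Chern character as a sum of classes. -/
theorem chK_eq_sum_Ek (d : ℕ) (x : K) :
    chK P d x = ∑ i ∈ range (d + 1), (1 / (i.factorial : ℚ)) ⊗ₜ[ℤ] Ek P i x := by
  rw [chK_eq, Finset.sum_range_succ', add_comm]
  congr 1
  · apply sum_congr rfl
    intro k _
    congr 1
    rw [Ek]
    exact cls_congr P rfl (Dk_eq_pK P (k + 1) (by omega) x).symm _ _
  · rw [Ek, cls_congr P Nat.cast_zero (Dk_zero P x) _ (rees_mem_intCast P (P.aug x)),
      cls_intCast, ← one_tmul_intCast']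
    simp

theorem pK_arg_zero (k : ℕ) : pK P k (0 : K) = 0 := by
  simp [pK, adams_zero]

theorem chK_one (d : ℕ) : chK P d (1 : K) = 1 := by
  rw [chK_eq]
  have h1 : (1 : K) - ((P.aug (1 : K) : ℤ) : K) = 0 := by simp
  have hsum : ∑ k ∈ range d, (1 / ((k + 1).factorial : ℚ)) ⊗ₜ[ℤ]
      cls P ((k + 1 : ℕ) : ℤ) (pK P (k + 1) ((1 : K) - ((P.aug (1 : K) : ℤ) : K)))
        (pK_rees_mem P (k + 1) _ (aug_sub_aug P 1)) = 0 := by
    apply sum_eq_zero
    intro k _
    rw [cls_eq_zero_of_eq_zero P (by rw [h1, pK_arg_zero]), TensorProduct.tmul_zero]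
  rw [hsum, add_zero, map_one P.aug, Int.cast_one, map_one (algebraMap ℚ (Gr P))]

end Dk

end Groth.Agent.Lib.Helper16.Chern
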