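import Mathlib
import Groth.Agent.Lib.Helper16ClosedEmb
import Groth.Agent.S6857

/-!
# Closed embeddings and sheaves of sets on topological spaces (helper16)

Type-valued (and partly category-generic) analogue of `Helper16ClosedEmb`:
* `pushC_faithful`, `pushC_full`: `i_*` is fully faithful for a closed embedding `i`, for sheaves
  with values in any category.
* `SZT`, `glueZT`, `toZT`, `θT : i_* (toZT H) ≅ H`, `unique_stalk_push`, `szt_of_stalks`,
  `essImage_of_stalksT`.
-/

set_option autoImplicit false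
set_option linter.style.haveILetI false
universe v w u
open CategoryTheory CategoryTheory.Limits Opposite TopologicalSpace

namespace Groth.Agent.Lib.Helper16.ClosedEmbType
open Groth.Agent.Lib.Helper16.ClosedEmb

section General

variable {C : Type w} [Category.{v} C]
variable {Z X : TopCat.{u}} (i : Z ⟶ X) (hi : Topology.IsClosedEmbedding i)

include hi in
/-- `i_*` is faithful for a closed embedding. -/
lemma pushC_faithful : (TopCat.Sheaf.pushforward C i).Faithful := by
  constructor
  intro G G' ψ ψ' h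
  apply Sheaf.hom_ext
  ext W : 2
  have h1 : ((TopCat.Sheaf.pushforward C i).map ψ).hom.app (op (vObj i hi W.unop)) =
      ((TopCat.Sheaf.pushforward C i).map ψ').hom.app (op (vObj i hi W.unop)) := by rw [h]
  change ψ.hom.app (op ((Opens.map i).obj (vObj i hi W.unop))) =
    ψ'.hom.app (op ((Opens.map i).obj (vObj i hi W.unop))) at h1
  have e : (Opens.map i).obj (vObj i hi W.unop) = W.unop := map_vObj i hi W.unop
  have hW : W = op ((Opens.map i).obj (vObj i hi W.unop)) := by rw [e]
  rw [hW]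
  exact h1

/-- clean-typed components of a map `i_* G ⟶ i_* G'`. -/
def cmp {G G' : Z.Sheaf C} (φ : (TopCat.Sheaf.pushforward C i).obj G ⟶ (TopCat.Sheaf.pushforward C i).obj G')
    (V : Opens X) :
    G.obj.obj (op ((Opens.map i).obj V)) ⟶ G'.obj.obj (op ((Opens.map i).obj V)) :=
  φ.hom.app (op V)

lemma cmp_nat {G G' : Z.Sheaf C} (φ : (TopCat.Sheaf.pushforward C i).obj G ⟶ (TopCat.Sheaf.pushforward C i).obj G')
    {V V' : Opens X} (h : V' ≤ V) :
    G.obj.map ((Opens.map i).map (homOfLE h)).op ≫ cmp i φ V' =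
      cmp i φ V ≫ G'.obj.map ((Opens.map i).map (homOfLE h)).op :=
  φ.hom.naturality (homOfLE h).op

/-- the preimage of a map `i_* G ⟶ i_* G'`. -/
noncomputable def preimage {G G' : Z.Sheaf C}
    (φ : (TopCat.Sheaf.pushforward C i).obj G ⟶ (TopCat.Sheaf.pushforward C i).obj G') :
    G ⟶ G' :=
  ⟨{ app := fun W =>
        G.obj.map (eqToHom (congrArg op (map_vObj i hi W.unop).symm)) ≫
          cmp i φ (vObj i hi W.unop) ≫
          G'.obj.map (eqToHom (congrArg op (map_vObj i hi W.unop)))
     naturality := fun W W' f => by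
        have hle : vObj i hi W'.unop ≤ vObj i hi W.unop := vObj_mono i hi f.unop.le
        have nat := cmp_nat i φ hle
        rw [← Category.assoc, ← G.obj.map_comp, Category.assoc, Category.assoc, ← G'.obj.map_comp]
        have e1 : f ≫ eqToHom (congrArg op (map_vObj i hi W'.unop).symm) =
            eqToHom (congrArg op (map_vObj i hi W.unop).symm) ≫
              ((Opens.map i).map (homOfLE hle)).op := Subsingleton.elim _ _
        have e2 : eqToHom (congrArg op (map_vObj i hi W.unop)) ≫ f =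
            ((Opens.map i).map (homOfLE hle)).op ≫
              eqToHom (congrArg op (map_vObj i hi W'.unop)) := Subsingleton.elim _ _
        rw [e1, e2, G.obj.map_comp, G'.obj.map_comp, Category.assoc, ← Category.assoc _ _ (G'.obj.map _),
          nat, Category.assoc] }⟩

lemma map_preimage {G G' : Z.Sheaf C}
    (φ : (TopCat.Sheaf.pushforward C i).obj G ⟶ (TopCat.Sheaf.pushforward C i).obj G') :
    (TopCat.Sheaf.pushforward C i).map (preimage i hi φ) = φ := by
  apply Sheaf.hom_ext
  ext V : 2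
  have hle : V.unop ≤ vObj i hi ((Opens.map i).obj V.unop) := le_vObj_map i hi V.unop
  have nat := cmp_nat i φ hle
  change G.obj.map (eqToHom (congrArg op (map_vObj i hi ((Opens.map i).obj V.unop)).symm)) ≫
      cmp i φ (vObj i hi ((Opens.map i).obj V.unop)) ≫
      G'.obj.map (eqToHom (congrArg op (map_vObj i hi ((Opens.map i).obj V.unop)))) = cmp i φ V.unop
  have e2 : eqToHom (congrArg op (map_vObj i hi ((Opens.map i).obj V.unop))) =
      ((Opens.map i).map (homOfLE hle)).op := Subsingleton.elim _ _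
  rw [e2, ← nat, ← Category.assoc, ← G.obj.map_comp]
  have e3 : eqToHom (congrArg op (map_vObj i hi ((Opens.map i).obj V.unop)).symm) ≫
      ((Opens.map i).map (homOfLE hle)).op = 𝟙 _ := Subsingleton.elim _ _
  rw [e3, G.obj.map_id, Category.id_comp]

include hi in
lemma pushC_full : (TopCat.Sheaf.pushforward C i).Full :=
  ⟨fun φ => ⟨preimage i hi φ, map_preimage i hi φ⟩⟩

end General

section Compl

variable {X : TopCat.{u}} (U : Opens X)

/-- sheaves of sets with exactly one section over every open inside `U`. -/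
def SZT (H : X.Sheaf (Type u)) : Prop :=
  ∀ V : Opens X, V ≤ U → Nonempty (Unique (H.obj.obj (op V)))

lemma unique_of_eq_bot {Y : TopCat.{u}} (G : Y.Sheaf (Type u)) {W : Opens Y} (h : W = ⊥) :
    Nonempty (Unique (G.obj.obj (op W))) := by
  have hT : IsTerminal (G.obj.obj (op W)) := TopCat.Sheaf.isTerminalOfEqEmpty G h
  exact ⟨(Types.isTerminalEquivUnique _).1 hT⟩

lemma map_map_apply {Y : TopCat.{u}} (H : Y.Sheaf (Type u)) {A B C : Opens Y} (f : B ⟶ A) (g : C ⟶ B)
    (h : C ⟶ A) (s : H.obj.obj (op A)) : H.obj.map g.op (H.obj.map f.op s) = H.obj.map h.op s := by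
  have : h = g ≫ f := Subsingleton.elim _ _
  rw [this, op_comp, H.obj.map_comp]
  rfl

/-- gluing for sheaves trivial on `U`: `U` may be added to any cover for free. -/
lemma glueZT (H : X.Sheaf (Type u)) (hH : SZT U H) {ι : Type u} (A : ι → Opens X) (B : Opens X)
    (hUB : U ≤ B) (hAB : ∀ k, A k ≤ B) (hcov : B ≤ U ⊔ ⨆ k, A k)
    (sf : ∀ k, H.obj.obj (op (A k)))
    (hsf : ∀ k l, H.obj.map (homOfLE (inf_le_left : A k ⊓ A l ≤ A k)).op (sf k) =
      H.obj.map (homOfLE (inf_le_right : A k ⊓ A l ≤ A l)).op (sf l)) :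
    ∃! s : H.obj.obj (op B), ∀ k, H.obj.map (homOfLE (hAB k)).op s = sf k := by
  obtain ⟨hUu⟩ := hH U le_rfl
  let cov : Option ι → Opens X := fun o => Option.rec U A o
  let sf' : ∀ o, ToType (H.obj.obj (op (cov o))) := fun o =>
    match o with
    | none => (hUu.default : H.obj.obj (op U))
    | some k => sf k
  have iUV : ∀ o, cov o ⟶ B := fun o => homOfLE (by
    cases o with
    | none => exact hUB
    | some k => exact hAB k)
  have hcover : B ≤ iSup cov := by
    intro x hx
    rcases hcov hx with h | h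
    · exact Opens.mem_iSup.mpr ⟨none, h⟩
    · obtain ⟨k, hk⟩ := Opens.mem_iSup.mp h
      exact Opens.mem_iSup.mpr ⟨some k, hk⟩
  have hcompat : TopCat.Presheaf.IsCompatible H.obj cov sf' := by
    intro o o'
    cases o with
    | none =>
      obtain ⟨hu⟩ := hH (cov none ⊓ cov o') inf_le_left
      exact (hu.uniq _).trans (hu.uniq _).symm
    | some k =>
      cases o' with
      | none =>
        obtain ⟨hu⟩ := hH (cov (some k) ⊓ cov none) inf_le_right
        exact (hu.uniq _).trans (hu.uniq _).symm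
      | some l => exact hsf k l
  obtain ⟨s, hs, huniq⟩ := TopCat.Sheaf.existsUnique_gluing' H cov B iUV hcover sf' hcompat
  refine ⟨s, fun k => hs (some k), fun s' hs' => huniq s' (fun o => ?_)⟩
  cases o with
  | none => exact (hUu.uniq _).trans (hUu.uniq _).symm
  | some k => exact hs' k

/-- the presheaf on `Z` attached to a sheaf on `X`. -/
noncomputable def toZPT (H : X.Sheaf (Type u)) :
    (Opens (TopCat.of ((U : Set X)ᶜ : Set X)))ᵒᵖ ⥤ Type u :=
  (vFun U).op ⋙ H.obj

lemma toZPT_isSheaf (H : X.Sheaf (Type u)) (hH : SZT U H) : TopCat.Presheaf.IsSheaf (toZPT U H) := by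
  rw [TopCat.Presheaf.isSheaf_iff_isSheafUniqueGluing]
  intro ι W sf hsf
  have key := glueZT U H hH (fun k => vObj (iZ U) (hiZ U) (W k)) (vObj (iZ U) (hiZ U) (iSup W))
    (le_vObj U _) (fun k => vObj_mono _ _ (le_iSup W k)) (vObj_iSup_le U W) sf (fun k l => by
      have h1 : H.obj.map ((vFun U).map (Opens.infLELeft (W k) (W l))).op (sf k) =
          H.obj.map ((vFun U).map (Opens.infLERight (W k) (W l))).op (sf l) := hsf k l
      have h2 := congrArg (H.obj.map (homOfLE (vObj_inf U (W k) (W l))).op) h1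
      exact (map_map_apply H ((vFun U).map (Opens.infLELeft (W k) (W l)))
        (homOfLE (vObj_inf U (W k) (W l))) (homOfLE inf_le_left) (sf k)).symm.trans
        (h2.trans (map_map_apply H ((vFun U).map (Opens.infLERight (W k) (W l)))
        (homOfLE (vObj_inf U (W k) (W l))) (homOfLE inf_le_right) (sf l))))
  obtain ⟨s, hs, huniq⟩ := key
  refine ⟨s, fun k => hs k, fun s' hs' => huniq s' (fun k => hs' k)⟩

/-- the sheaf on `Z` attached to a sheaf on `X` trivial on `U`. -/
noncomputable def toZT (H : X.Sheaf (Type u)) (hH : SZT U H) :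
    (TopCat.of ((U : Set X)ᶜ : Set X)).Sheaf (Type u) :=
  ⟨toZPT U H, toZPT_isSheaf U H hH⟩

/-- the comparison `i_* (toZT H) ⟶ H`. -/
noncomputable def θT (H : X.Sheaf (Type u)) (hH : SZT U H) :
    (TopCat.Sheaf.pushforward (Type u) (iZ U)).obj (toZT U H hH) ⟶ H :=
  ⟨{ app := fun V => H.obj.map (homOfLE (le_vObj_map (iZ U) (hiZ U) V.unop)).op
     naturality := fun V V' f => by
        exact (H.obj.map_comp _ _).symm.trans
          ((congrArg H.obj.map (Subsingleton.elim _ _)).trans (H.obj.map_comp _ _)) }⟩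

lemma θT_bijective (H : X.Sheaf (Type u)) (hH : SZT U H) (V : Opens X) :
    Function.Bijective (H.obj.map (homOfLE (le_vObj_map (iZ U) (hiZ U) V)).op) := by
  have hcov : vObj (iZ U) (hiZ U) ((Opens.map (iZ U)).obj V) ≤ U ⊔ ⨆ _ : PUnit.{u+1}, V := by
    intro x hx
    by_cases hxU : x ∈ U
    · exact Or.inl hxU
    · right
      rw [mem_vObj] at hx
      exact Opens.mem_iSup.mpr ⟨PUnit.unit, hx ⟨x, hxU⟩ rfl⟩
  constructor
  · intro s s' hss'
    obtain ⟨t, _, huniq⟩ := glueZT U H hH (fun _ : PUnit.{u+1} => V)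
      (vObj (iZ U) (hiZ U) ((Opens.map (iZ U)).obj V)) (le_vObj U _)
      (fun _ => le_vObj_map (iZ U) (hiZ U) V) hcov
      (fun _ => H.obj.map (homOfLE (le_vObj_map (iZ U) (hiZ U) V)).op s) (fun _ _ => rfl)
    rw [huniq s (fun _ => rfl), huniq s' (fun _ => hss'.symm)]
  · intro t
    obtain ⟨s, hs, _⟩ := glueZT U H hH (fun _ : PUnit.{u+1} => V)
      (vObj (iZ U) (hiZ U) ((Opens.map (iZ U)).obj V)) (le_vObj U _)
      (fun _ => le_vObj_map (iZ U) (hiZ U) V) hcov (fun _ => t) (fun _ _ => rfl)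
    exact ⟨s, hs PUnit.unit⟩

instance θT_isIso (H : X.Sheaf (Type u)) (hH : SZT U H) : IsIso (θT U H hH) := by
  haveI : ∀ V, IsIso ((θT U H hH).hom.app V) := fun V =>
    (isIso_iff_bijective _).2 (θT_bijective U H hH V.unop)
  haveI : IsIso (θT U H hH).hom := NatIso.isIso_of_isIso_app _
  haveI : IsIso ((sheafToPresheaf _ _).map (θT U H hH)) := ‹IsIso (θT U H hH).hom›
  exact isIso_of_fully_faithful (sheafToPresheaf (Opens.grothendieckTopology X) (Type u)) (θT U H hH)

end Compl

section Emb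

open Groth.Agent.S6857

variable {Z X : TopCat.{u}} (i : Z ⟶ X) (hi : Topology.IsClosedEmbedding i)
include hi

/-- stalks of `i_* G` are one-point sets outside the image. -/
lemma unique_stalk_push (G : Z.Sheaf (Type u)) (x : X) (hx : x ∉ Set.range i) :
    Nonempty (Unique (((TopCat.Sheaf.pushforward (Type u) i).obj G).presheaf.stalk x)) := by
  let U : Opens X := ⟨(Set.range i)ᶜ, hi.isClosed_range.isOpen_compl⟩
  have hxU : x ∈ U := hx
  have hbot : ∀ V : Opens X, V ≤ U → (Opens.map i).obj V = ⊥ := by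
    intro V hVU
    ext z
    simp only [Opens.coe_bot, Set.mem_empty_iff_false, iff_false]
    intro hz
    exact hVU (show i z ∈ V from hz) ⟨z, rfl⟩
  obtain ⟨hu⟩ := unique_of_eq_bot G (hbot U le_rfl)
  let P := ((TopCat.Sheaf.pushforward (Type u) i).obj G).presheaf
  let s0 : P.obj (op U) := hu.default
  refine ⟨⟨⟨P.germ U x hxU s0⟩, fun t => ?_⟩⟩
  obtain ⟨V, hVU, hxV, s, rfl⟩ := TopCat.Presheaf.exists_le_germ_eq P t hxU
  obtain ⟨huV⟩ := unique_of_eq_bot G (hbot V hVU)
  have hs : s = P.map (homOfLE hVU).op s0 := (huV.uniq _).trans (huV.uniq _).symm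
  rw [hs]
  exact TopCat.Presheaf.germ_res_apply P (homOfLE hVU) x hxV s0

lemma szt_of_stalks (F : X.Sheaf (Type u))
    (hF : ∀ x : X, x ∉ Set.range i → Nonempty (Unique (F.presheaf.stalk x))) :
    SZT (Uc i hi) F := by
  intro V hV
  have hsub : ∀ W : Opens X, W ≤ Uc i hi → ∀ s t : F.obj.obj (op W), s = t := by
    intro W hW s t
    apply TopCat.Presheaf.section_ext F W
    intro x hx
    obtain ⟨hu⟩ := hF x (hW hx)
    exact (hu.uniq _).trans (hu.uniq _).symm
  -- existence: glue local representatives of the unique germs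
  have hloc : ∀ x : V, ∃ (W : Opens X) (_ : W ≤ V), x.1 ∈ W ∧ Nonempty (F.obj.obj (op W)) := by
    intro x
    obtain ⟨hu⟩ := hF x.1 (hV x.2)
    obtain ⟨W, hWV, hxW, s, -⟩ := TopCat.Presheaf.exists_le_germ_eq F.presheaf hu.default x.2
    exact ⟨W, hWV, hxW, ⟨s⟩⟩
  choose W hWV hxW hne using hloc
  let sf : ∀ x : V, F.obj.obj (op (W x)) := fun x => (hne x).some
  have hcompat : TopCat.Presheaf.IsCompatible F.obj W sf := by
    intro x y
    exact hsub _ (inf_le_left.trans ((hWV x).trans hV)) _ _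
  have hcover : V ≤ iSup W := fun x hx => Opens.mem_iSup.2 ⟨⟨x, hx⟩, hxW ⟨x, hx⟩⟩
  obtain ⟨s, -, -⟩ := TopCat.Sheaf.existsUnique_gluing' F W V (fun x => homOfLE (hWV x)) hcover sf
    hcompat
  exact ⟨⟨⟨s⟩, fun t => hsub V hV t s⟩⟩

lemma essImage_of_stalksT (F : X.Sheaf (Type u))
    (hF : ∀ x : X, x ∉ Set.range i → Nonempty (Unique (F.presheaf.stalk x))) :
    (TopCat.Sheaf.pushforward (Type u) i).essImage F := by
  have hSZ := szt_of_stalks i hi F hF
  let G := toZT (Uc i hi) F hSZ
  let θ' := asIso (θT (Uc i hi) F hSZ)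
  let G' := (TopCat.Sheaf.pushforward (Type u) (eIso i hi).inv).obj G
  have h1 : (eIso i hi).inv ≫ i = iZ (Uc i hi) := by
    have h0 := eIso_hom_comp i hi
    calc (eIso i hi).inv ≫ i = (eIso i hi).inv ≫ (eIso i hi).hom ≫ iZ (Uc i hi) :=
          congrArg (fun t => (eIso i hi).inv ≫ t) h0.symm
      _ = iZ (Uc i hi) := by rw [← Category.assoc, Iso.inv_hom_id, Category.id_comp]
  let e1 : (TopCat.Sheaf.pushforward (Type u) i).obj G' ≅
      (TopCat.Sheaf.pushforward (Type u) ((eIso i hi).inv ≫ i)).obj G := Iso.refl _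
  let e2 : (TopCat.Sheaf.pushforward (Type u) ((eIso i hi).inv ≫ i)).obj G ≅
      (TopCat.Sheaf.pushforward (Type u) (iZ (Uc i hi))).obj G :=
    eqToIso (by rw [h1])
  exact ⟨G', ⟨e1 ≪≫ e2 ≪≫ θ'⟩⟩

end Emb

end Groth.Agent.Lib.Helper16.ClosedEmbType
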