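import Mathlib

/-!
# Contravariant acyclic resolutions (helper16)

For an exact sequence `… → A 2 → A 1 → A 0 → 0` in an abelian category with `Ext^{p+1}(A n, F) = 0`
for all `n`, `p`, the complex `Hom(A •, F)` is exact in positive degrees.
-/

set_option autoImplicit false
set_option linter.dupNamespace false
set_option linter.unusedSectionVars false
set_option linter.style.haveILetI false
universe w v u

open CategoryTheory Limits Abelian

namespace Groth.Agent.Lib.Helper16.CoAcyc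

variable {𝒜 : Type u} [Category.{v} 𝒜] [Abelian 𝒜] [HasExt.{w} 𝒜] (F : 𝒜)

/-- `M` is `F`-coacyclic: `Ext^{p+1}(M, F) = 0` for all `p`. -/
def CoAcyc (M : 𝒜) : Prop := ∀ (p : ℕ) (x : Ext.{w} M F (p + 1)), x = 0

variable {F}

lemma CoAcyc.X₁ {S : ShortComplex 𝒜} (hS : S.ShortExact) (h₂ : CoAcyc.{w} F S.X₂)
    (h₃ : CoAcyc.{w} F S.X₃) : CoAcyc.{w} F S.X₁ := by
  intro p x
  obtain ⟨x₂, hx₂⟩ := Ext.contravariant_sequence_exact₁ hS F x (n₁ := p + 2) (by lia)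
    (h₃ (p + 1) _)
  rw [← hx₂, h₂ p x₂, Ext.comp_zero]

lemma CoAcyc.extend {S : ShortComplex 𝒜} (hS : S.ShortExact) (h₃ : CoAcyc.{w} F S.X₃)
    (φ : S.X₁ ⟶ F) : ∃ ψ : S.X₂ ⟶ F, S.f ≫ ψ = φ := by
  obtain ⟨x₂, hx₂⟩ := Ext.contravariant_sequence_exact₁ hS F (Ext.mk₀ φ) (n₁ := 1) (by lia)
    (h₃ 0 _)
  obtain ⟨ψ, rfl⟩ := Ext.mk₀_bijective S.X₂ F |>.2 x₂
  refine ⟨ψ, ?_⟩
  rw [Ext.mk₀_comp_mk₀] at hx₂
  exact (Ext.mk₀_bijective _ _).1 hx₂

section seq
variable (A : ℕ → 𝒜) (d : ∀ n, A (n + 1) ⟶ A n) (hd : ∀ n, d (n + 1) ≫ d n = 0)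
  (hex : ∀ n, (ShortComplex.mk (d (n + 1)) (d n) (hd n)).Exact) [hepi : Epi (d 0)]

/-- cycles in degree `n + 1` -/
noncomputable abbrev Zc (n : ℕ) : 𝒜 := kernel (d n)

/-- `A (n + 2) ⟶ Z (n + 1)` -/
noncomputable def toZc (n : ℕ) : A (n + 2) ⟶ Zc A d n :=
  kernel.lift _ (d (n + 1)) (hd n)

@[reassoc (attr := simp)]
lemma toZc_ι (n : ℕ) : toZc A d hd n ≫ kernel.ι (d n) = d (n + 1) := kernel.lift_ι _ _ _

include hex in
lemma epi_toZc (n : ℕ) : Epi (toZc A d hd n) := by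
  have := (ShortComplex.exact_iff_epi_kernel_lift _).1 (hex n)
  exact this

/-- `0 → Z 1 → A 1 → A 0 → 0` -/
noncomputable def sc0 : ShortComplex 𝒜 := ShortComplex.mk (kernel.ι (d 0)) (d 0) (kernel.condition _)

include hepi in
lemma sc0_shortExact : (sc0 A d).ShortExact := by
  haveI : Mono (sc0 A d).f := by dsimp [sc0]; infer_instance
  haveI : Epi (sc0 A d).g := hepi
  exact ShortComplex.ShortExact.mk (ShortComplex.exact_of_f_is_kernel _ (kernelIsKernel _))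

/-- `0 → Z (n+2) → A (n+2) → Z (n+1) → 0` -/
noncomputable def scS (n : ℕ) : ShortComplex 𝒜 :=
  ShortComplex.mk (kernel.ι (d (n + 1))) (toZc A d hd n) (by
    rw [← cancel_mono (kernel.ι (d n)), Category.assoc, toZc_ι, kernel.condition, zero_comp])

lemma lift_aux (n : ℕ) {W : 𝒜} (g : W ⟶ A (n + 2)) (hg : g ≫ toZc A d hd n = 0) :
    g ≫ d (n + 1) = 0 := by
  rw [← toZc_ι A d hd n, ← Category.assoc, hg, zero_comp]

lemma uniq_aux (n : ℕ) {W : 𝒜} (g : W ⟶ A (n + 2)) (hg : g ≫ d (n + 1) = 0)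
    (m : W ⟶ kernel (d (n + 1))) (hm : m ≫ kernel.ι (d (n + 1)) = g) : m = kernel.lift _ g hg := by
  rw [← cancel_mono (kernel.ι (d (n + 1))), hm, kernel.lift_ι]

include hex in
lemma scS_shortExact (n : ℕ) : (scS A d hd n).ShortExact := by
  haveI : Mono (scS A d hd n).f := by dsimp [scS]; infer_instance
  haveI : Epi (scS A d hd n).g := epi_toZc A d hd hex n
  refine ShortComplex.ShortExact.mk (ShortComplex.exact_of_f_is_kernel _ ?_)
  refine KernelFork.IsLimit.ofι _ _ (fun g hg => kernel.lift _ g ?_) (fun g hg => kernel.lift_ι _ _ _)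
    (fun g hg m hm => ?_)
  · exact lift_aux A d hd n g hg
  · exact uniq_aux A d n g _ m hm

include hex hepi in
lemma coAcyc_Zc (hA : ∀ n, CoAcyc.{w} F (A n)) : ∀ n, CoAcyc.{w} F (Zc A d n)
  | 0 => CoAcyc.X₁ (sc0_shortExact A d) (hA 1) (hA 0)
  | n + 1 => CoAcyc.X₁ (scS_shortExact A d hd hex n) (hA (n + 2)) (coAcyc_Zc hA n)

include hex hepi in
/-- **Main lemma**: cocycles of `Hom(A •, F)` in positive degree are coboundaries. -/
theorem exists_factor (hA : ∀ n, CoAcyc.{w} F (A n)) (n : ℕ) (φ : A (n + 1) ⟶ F)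
    (hφ : d (n + 1) ≫ φ = 0) : ∃ ψ : A n ⟶ F, d n ≫ ψ = φ := by
  have hι : kernel.ι (d n) ≫ φ = 0 := by
    haveI := epi_toZc A d hd hex n
    rw [← cancel_epi (toZc A d hd n), toZc_ι_assoc, hφ, comp_zero]
  cases n with
  | zero =>
    exact ⟨(sc0_shortExact A d).gIsCokernel.desc (CokernelCofork.ofπ φ hι),
      (sc0_shortExact A d).gIsCokernel.fac (CokernelCofork.ofπ φ hι) WalkingParallelPair.one⟩
  | succ n =>
    let φ' : Zc A d n ⟶ F := (scS_shortExact A d hd hex n).gIsCokernel.desc (CokernelCofork.ofπ φ hι)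
    have hφ' : toZc A d hd n ≫ φ' = φ :=
      (scS_shortExact A d hd hex n).gIsCokernel.fac (CokernelCofork.ofπ φ hι) WalkingParallelPair.one
    have h₃ : ∃ ψ : A (n + 1) ⟶ F, kernel.ι (d n) ≫ ψ = φ' := by
      cases n with
      | zero => exact CoAcyc.extend (sc0_shortExact A d) (hA 0) φ'
      | succ n => exact CoAcyc.extend (scS_shortExact A d hd hex n) (coAcyc_Zc A d hd hex hA n) φ'
    obtain ⟨ψ, hψ⟩ := h₃
    refine ⟨ψ, ?_⟩
    rw [← hφ', ← hψ, toZc_ι_assoc]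

end seq

end Groth.Agent.Lib.Helper16.CoAcyc
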