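import Mathlib

/-!
# A Hartogs-type criterion for maps of finite flat modules (helper16)

Over a Noetherian ring `R`, a linear map `φ : M → N` between finite flat (= finite projective)
modules which is locally bijective at every prime of height `≤ 1` is bijective.  "Locally
bijective at `P`" is phrased elementwise (`LocInj`, `LocSurj`), which makes the hypothesis easy to
check and monotone in the multiplicative set.  The proof localises at a prime `𝔮`, where the
modules are free, compares the ranks at a minimal prime, and shows that the determinant is a unit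
by Krull's principal ideal theorem.
-/

set_option autoImplicit false
set_option linter.style.haveILetI false
set_option linter.unusedSectionVars false

namespace Groth.Agent.Lib.Helper16.CodimOne

open Matrix

variable {R : Type*} [CommRing R] {M N : Type*} [AddCommGroup M] [AddCommGroup N]
  [Module R M] [Module R N]

/-- `φ` is injective after localising at the prime `P` (elementwise form). -/
def LocInj (φ : M →ₗ[R] N) (P : Ideal R) : Prop := ∀ x, φ x = 0 → ∃ s : R, s ∉ P ∧ s • x = 0

/-- `φ` is surjective after localising at the prime `P` (elementwise form). -/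
def LocSurj (φ : M →ₗ[R] N) (P : Ideal R) : Prop :=
  ∀ y, ∃ s : R, s ∉ P ∧ ∃ x, φ x = s • y

theorem exists_common {ι : Type*} [Finite ι] (P : Ideal R) [P.IsPrime] (Q : ι → R → Prop)
    (hQ : ∀ j c s, Q j s → Q j (c * s)) (h : ∀ j, ∃ s : R, s ∉ P ∧ Q j s) :
    ∃ s : R, s ∉ P ∧ ∀ j, Q j s := by
  classical
  haveI := Fintype.ofFinite ι
  choose s hsP hsQ using h
  refine ⟨∏ j, s j, ?_, fun j => ?_⟩
  · rw [Ideal.IsPrime.prod_mem_iff]
    rintro ⟨j, -, hj⟩
    exact hsP j hj
  · rw [← Finset.prod_erase_mul Finset.univ s (Finset.mem_univ j)]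
    exact hQ j _ _ (hsQ j)

section Transfer

variable (S : Submonoid R) (φ : M →ₗ[R] N) (P : Ideal R)

theorem locSurj_map (h : LocSurj φ P) (y' : LocalizedModule S N) :
    ∃ s : R, s ∉ P ∧ ∃ x' : LocalizedModule S M, LocalizedModule.map S φ x' = s • y' := by
  induction y' using LocalizedModule.induction_on with
  | h y t =>
    obtain ⟨s, hs, x, hx⟩ := h y
    refine ⟨s, hs, LocalizedModule.mk x t, ?_⟩
    rw [LocalizedModule.map_mk, hx, LocalizedModule.smul'_mk]

theorem locInj_map (h : LocInj φ P) (x' : LocalizedModule S M)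
    (hx' : LocalizedModule.map S φ x' = 0) : ∃ s : R, s ∉ P ∧ s • x' = 0 := by
  induction x' using LocalizedModule.induction_on with
  | h x t =>
    rw [LocalizedModule.map_mk, ← LocalizedModule.zero_mk (1 : S), LocalizedModule.mk_eq] at hx'
    obtain ⟨u, hu⟩ := hx'
    rw [smul_zero, smul_zero, one_smul] at hu
    have h0 : φ ((u : R) • x) = 0 := by
      rw [map_smul]; exact hu
    obtain ⟨s, hs, hsx⟩ := h _ h0
    refine ⟨s, hs, ?_⟩
    rw [LocalizedModule.smul'_mk, ← LocalizedModule.zero_mk (1 : S), LocalizedModule.mk_eq]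
    refine ⟨u, ?_⟩
    rw [smul_zero, smul_zero, one_smul]
    show (u : R) • s • x = 0
    rw [smul_comm]; exact hsx

end Transfer

section Core

/-- Two rectangular matrices over a field which are mutually inverse up to a nonzero scalar
are square. -/
theorem card_eq_of_mul_eq_smul_one {K : Type*} [Field K] {m n : ℕ}
    (A : Matrix (Fin n) (Fin m) K) (B : Matrix (Fin m) (Fin n) K) (c : K) (hc : c ≠ 0)
    (hAB : A * B = c • (1 : Matrix (Fin n) (Fin n) K))
    (hBA : B * A = c • (1 : Matrix (Fin m) (Fin m) K)) : m = n := by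
  have hunit : ∀ (k : ℕ), IsUnit (c • (1 : Matrix (Fin k) (Fin k) K)) := by
    intro k
    rw [Matrix.isUnit_iff_isUnit_det, Matrix.det_smul, Matrix.det_one, mul_one]
    exact (isUnit_iff_ne_zero.mpr hc).pow _
  apply le_antisymm
  · have h1 := Matrix.rank_of_isUnit _ (hunit m)
    rw [Fintype.card_fin, ← hBA] at h1
    calc m = (B * A).rank := h1.symm
      _ ≤ B.rank := Matrix.rank_mul_le_left _ _
      _ ≤ n := by simpa using Matrix.rank_le_width B
  · have h1 := Matrix.rank_of_isUnit _ (hunit n)
    rw [Fintype.card_fin, ← hAB] at h1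
    calc n = (A * B).rank := h1.symm
      _ ≤ A.rank := Matrix.rank_mul_le_left _ _
      _ ≤ m := by simpa using Matrix.rank_le_width A

variable {R' : Type*} [CommRing R'] [IsLocalRing R'] [IsNoetherianRing R']
  {M' N' : Type*} [AddCommGroup M'] [AddCommGroup N'] [Module R' M'] [Module R' N']

/-- Local core: a map of finite free modules over a Noetherian local ring which is invertible
"up to a scalar outside `P'`" for each prime `P'` of height `≤ 1` is bijective. -/
theorem bijective_of_local_core {m n : ℕ} (bM : Module.Basis (Fin m) R' M')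
    (bN : Module.Basis (Fin n) R' N') (φ' : M' →ₗ[R'] N')
    (step : ∀ (P' : Ideal R'), P'.IsPrime → P'.height ≤ 1 →
      ∃ s : R', s ∉ P' ∧ ∃ β : N' →ₗ[R'] M', φ' ∘ₗ β = s • LinearMap.id ∧
        ∃ s' : R', s' ∉ P' ∧ s' • (s • LinearMap.id - β ∘ₗ φ') = 0) :
    Function.Bijective φ' := by
  classical
  -- the ranks agree
  have hmn : m = n := by
    obtain ⟨P0', hP0'⟩ : ∃ P0' : Ideal R', P0' ∈ minimalPrimes R' := by
      obtain ⟨p, hp, -⟩ := Ideal.exists_minimalPrimes_le
        (bot_le : (⊥ : Ideal R') ≤ IsLocalRing.maximalIdeal R')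
      exact ⟨p, hp⟩
    have hP0prime : P0'.IsPrime := hP0'.1.1
    haveI := hP0prime
    have hP0ht : P0'.height ≤ 1 := by
      have h0 : P0'.height = 0 := Ideal.height_eq_zero_iff.mpr hP0'
      rw [h0]; exact zero_le_one
    obtain ⟨s, hs, β, hβ, s', hs', hβ'⟩ := step P0' hP0prime hP0ht
    let K := FractionRing (R' ⧸ P0')
    let χ : R' →+* K := (algebraMap (R' ⧸ P0') K).comp (Ideal.Quotient.mk P0')
    have hχ : ∀ r : R', r ∉ P0' → χ r ≠ 0 := by
      intro r hr h0
      have h1 : Ideal.Quotient.mk P0' r = 0 :=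
        (IsFractionRing.injective (R' ⧸ P0') K) (h0.trans (map_zero _).symm)
      exact hr (Ideal.Quotient.eq_zero_iff_mem.mp h1)
    let A := LinearMap.toMatrix bM bN φ'
    let Bm := LinearMap.toMatrix bN bM β
    have hAB : A * Bm = s • (1 : Matrix (Fin n) (Fin n) R') := by
      rw [← LinearMap.toMatrix_comp bN bM bN, hβ, map_smul, LinearMap.toMatrix_id]
    have hBA : s' • (s • (1 : Matrix (Fin m) (Fin m) R') - Bm * A) = 0 := by
      have := congrArg (LinearMap.toMatrix bM bM) hβ'
      rw [map_smul, map_sub, map_smul, LinearMap.toMatrix_id, LinearMap.toMatrix_comp bM bN bM,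
        map_zero] at this
      exact this
    have hAB' : A.map χ * Bm.map χ = χ s • (1 : Matrix (Fin n) (Fin n) K) := by
      rw [← Matrix.map_mul, hAB]
      ext i j
      rw [Matrix.map_apply, Matrix.smul_apply, Matrix.smul_apply, Matrix.one_apply,
        Matrix.one_apply, smul_eq_mul, smul_eq_mul, map_mul, apply_ite χ, map_one, map_zero]
    have hBA' : Bm.map χ * A.map χ = χ s • (1 : Matrix (Fin m) (Fin m) K) := by
      have h2 : (s' • (s • (1 : Matrix (Fin m) (Fin m) R') - Bm * A)).map χ = 0 := by
        rw [hBA]; ext i j; simp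
      have h3 : χ s' • (χ s • (1 : Matrix (Fin m) (Fin m) K) - Bm.map χ * A.map χ) = 0 := by
        rw [← h2, ← Matrix.map_mul]
        ext i j
        rw [Matrix.map_apply, Matrix.smul_apply, Matrix.smul_apply, Matrix.sub_apply,
          Matrix.sub_apply, Matrix.smul_apply, Matrix.smul_apply, Matrix.one_apply,
          Matrix.one_apply, Matrix.map_apply, smul_eq_mul, smul_eq_mul, smul_eq_mul, smul_eq_mul,
          map_mul, map_sub, map_mul, apply_ite χ, map_one, map_zero]
      have h4 := (smul_eq_zero.mp h3).resolve_left (hχ _ hs')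
      exact (sub_eq_zero.mp h4).symm
    exact card_eq_of_mul_eq_smul_one (A.map χ) (Bm.map χ) (χ s) (hχ _ hs) hAB' hBA'
  subst hmn
  -- the determinant is a unit
  have hdet : IsUnit (LinearMap.toMatrix bM bN φ').det := by
    by_contra hnu
    set δ := (LinearMap.toMatrix bM bN φ').det with hδ
    have hmem : δ ∈ IsLocalRing.maximalIdeal R' := (IsLocalRing.mem_maximalIdeal _).mpr hnu
    obtain ⟨P', hP'min, -⟩ := Ideal.exists_minimalPrimes_le
      (show Ideal.span {δ} ≤ IsLocalRing.maximalIdeal R' from
        (Ideal.span_singleton_le_iff_mem _).mpr hmem)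
    have hP'prime : P'.IsPrime := hP'min.1.1
    have hP'ht : P'.height ≤ 1 :=
      Ideal.height_le_one_of_isPrincipal_of_mem_minimalPrimes (Ideal.span {δ}) P' hP'min
    have hδP' : δ ∈ P' := hP'min.1.2 (Ideal.mem_span_singleton_self δ)
    obtain ⟨s, hs, β, hβ, -⟩ := step P' hP'prime hP'ht
    have hAB : LinearMap.toMatrix bM bN φ' * LinearMap.toMatrix bN bM β =
        s • (1 : Matrix (Fin m) (Fin m) R') := by
      rw [← LinearMap.toMatrix_comp bN bM bN, hβ, map_smul, LinearMap.toMatrix_id]
    have hdetmul := congrArg Matrix.det hAB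
    rw [Matrix.det_mul, Matrix.det_smul, Matrix.det_one, mul_one, Fintype.card_fin] at hdetmul
    have hpow : s ^ m ∈ P' := by
      rw [← hdetmul]; exact P'.mul_mem_right _ hδP'
    exact hs (hP'prime.mem_of_pow_mem _ hpow)
  have hcoe : ((LinearEquiv.ofIsUnitDet hdet : M' ≃ₗ[R'] N') : M' →ₗ[R'] N') = φ' :=
    LinearEquiv.coe_ofIsUnitDet hdet
  have hbij := (LinearEquiv.ofIsUnitDet hdet).bijective
  have hfun : ⇑(LinearEquiv.ofIsUnitDet hdet) = ⇑φ' := congrArg DFunLike.coe hcoe
  rw [hfun] at hbij
  exact hbij

end Core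

section Main

variable [IsNoetherianRing R] [Module.Finite R M] [Module.Finite R N] [Module.Flat R M]
  [Module.Flat R N] (φ : M →ₗ[R] N)
  (hinj : ∀ P : Ideal R, P.IsPrime → P.height ≤ 1 → LocInj φ P)
  (hsurj : ∀ P : Ideal R, P.IsPrime → P.height ≤ 1 → LocSurj φ P)

include hinj hsurj in
theorem bijective_map_atPrime (𝔮 : Ideal R) [𝔮.IsPrime] :
    Function.Bijective (LocalizedModule.map 𝔮.primeCompl φ) := by
  classical
  set S := 𝔮.primeCompl with hS
  let R' := Localization S
  let M' := LocalizedModule S M
  let N' := LocalizedModule S N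
  haveI : IsLocalRing R' := inferInstanceAs (IsLocalRing (Localization.AtPrime 𝔮))
  haveI : IsNoetherianRing R' := IsLocalization.isNoetherianRing S R' inferInstance
  haveI : Module.Finite R' M' :=
    Module.Finite.of_isLocalizedModule S (LocalizedModule.mkLinearMap S M)
  haveI : Module.Finite R' N' :=
    Module.Finite.of_isLocalizedModule S (LocalizedModule.mkLinearMap S N)
  haveI : Module.Flat R' M' := inferInstance
  haveI : Module.Flat R' N' := inferInstance
  haveI : Module.Free R' M' := Module.free_of_flat_of_isLocalRing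
  haveI : Module.Free R' N' := Module.free_of_flat_of_isLocalRing
  let φ' : M' →ₗ[R'] N' := LocalizedModule.map S φ
  obtain ⟨m, ⟨bM⟩⟩ : ∃ m : ℕ, Nonempty (Module.Basis (Fin m) R' M') :=
    ⟨_, ⟨Module.finBasis R' M'⟩⟩
  obtain ⟨n, ⟨bN⟩⟩ : ∃ n : ℕ, Nonempty (Module.Basis (Fin n) R' N') :=
    ⟨_, ⟨Module.finBasis R' N'⟩⟩
  refine bijective_of_local_core bM bN φ' ?_
  intro P' hP' hht
  haveI := hP'
  let P := P'.under R
  haveI : P.IsPrime := inferInstance
  have hPht : P.height ≤ 1 := by
    rw [IsLocalization.height_under S P']; exact hht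
  -- step A
  have h1 := exists_common P (fun (j : Fin n) (s : R) => ∃ x' : M', φ' x' = s • bN j) ?_
    (fun j => locSurj_map S φ P (hsurj P inferInstance hPht) (bN j))
  swap
  · rintro j c s ⟨x', hx'⟩
    refine ⟨c • x', ?_⟩
    rw [← algebraMap_smul R' c x', map_smul, hx', algebraMap_smul, mul_smul]
  obtain ⟨s, hs, hx⟩ := h1
  choose x' hx' using hx
  have hβ : φ' ∘ₗ (bN.constr R' x') = algebraMap R R' s • LinearMap.id := by
    apply bN.ext
    intro j
    rw [LinearMap.comp_apply, Module.Basis.constr_basis, hx', LinearMap.smul_apply,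
      LinearMap.id_apply, algebraMap_smul]
  set β : N' →ₗ[R'] M' := bN.constr R' x' with hβdef
  refine ⟨algebraMap R R' s, fun h => hs h, β, hβ, ?_⟩
  -- step B
  have hker : ∀ i, φ' (algebraMap R R' s • bM i - β (φ' (bM i))) = 0 := by
    intro i
    have := LinearMap.congr_fun hβ (φ' (bM i))
    rw [LinearMap.comp_apply, LinearMap.smul_apply, LinearMap.id_apply] at this
    rw [map_sub, map_smul, this, sub_self]
  have h2 := exists_common P
    (fun (i : Fin m) (s' : R) => s' • (algebraMap R R' s • bM i - β (φ' (bM i))) = 0) ?_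
    (fun i => locInj_map S φ P (hinj P inferInstance hPht) _ (hker i))
  swap
  · intro i c s' h
    rw [mul_smul, h, smul_zero]
  obtain ⟨s', hs', hx2⟩ := h2
  refine ⟨algebraMap R R' s', fun h => hs' h, ?_⟩
  apply bM.ext
  intro i
  rw [LinearMap.smul_apply, LinearMap.sub_apply, LinearMap.smul_apply, LinearMap.id_apply,
    LinearMap.comp_apply, LinearMap.zero_apply]
  exact (algebraMap_smul R' s' _).trans (hx2 i)

include hinj hsurj in
/-- **Hartogs-type criterion**: a map of finite flat modules over a Noetherian ring which is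
locally bijective at all primes of height `≤ 1` is bijective. -/
theorem bijective_of_height_le_one : Function.Bijective φ :=
  bijective_of_localized_maximal φ fun J _ => bijective_map_atPrime φ hinj hsurj J

end Main

end Groth.Agent.Lib.Helper16.CodimOne
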