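import Mathlib
import Groth.Agent.Lib.Helper16CodimOne
import Groth.Agent.Lib.Helper12FibIsoD

/-!
# Hartogs-type criterion for morphisms of finite flat schemes (helper16)

If `X ⟶ X'` is a morphism of finite flat `S`-schemes over a locally Noetherian scheme `S` which
is an isomorphism over a neighbourhood of every point of codimension `≤ 1`, it is an isomorphism.
-/

set_option autoImplicit false
set_option linter.style.haveILetI false
set_option linter.unusedSectionVars false

universe u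

open AlgebraicGeometry CategoryTheory CategoryTheory.Limits TopologicalSpace

namespace Groth.Agent.Lib.Helper16.CodimOneSch

open Groth.Agent.Lib.Helper16.CodimOne

section Algebra

variable {A B A' B' : Type*} [CommRing A] [CommRing B] [CommRing A'] [CommRing B']

theorem away_inj (φ : A →+* B) (a : A) (ιA : A →+* A') (ιB : B →+* B') (φ' : A' →+* B')
    (hcomm : φ'.comp ιA = ιB.comp φ)
    (hA : @IsLocalization.Away A _ a A' _ ιA.toAlgebra)
    (hφ' : Function.Injective φ') (x : A) (hx : φ x = 0) : ∃ n : ℕ, a ^ n * x = 0 := by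
  letI := ιA.toAlgebra
  have h1 : φ' (ιA x) = 0 := by
    have := RingHom.congr_fun hcomm x
    rw [RingHom.comp_apply, RingHom.comp_apply, hx, map_zero] at this
    exact this
  have h2 : algebraMap A A' x = 0 := hφ' (h1.trans (map_zero φ').symm)
  obtain ⟨m, hm⟩ := (IsLocalization.map_eq_zero_iff (Submonoid.powers a) A' x).mp h2
  obtain ⟨n, hn⟩ := (Submonoid.mem_powers_iff _ _).mp m.2
  exact ⟨n, by rw [hn]; exact hm⟩

theorem away_surj (φ : A →+* B) (a : A) (ιA : A →+* A') (ιB : B →+* B') (φ' : A' →+* B')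
    (hcomm : φ'.comp ιA = ιB.comp φ)
    (hA : @IsLocalization.Away A _ a A' _ ιA.toAlgebra)
    (hB : @IsLocalization.Away B _ (φ a) B' _ ιB.toAlgebra)
    (hφ' : Function.Surjective φ') (y : B) : ∃ (n : ℕ) (x : A), φ x = φ a ^ n * y := by
  letI := ιA.toAlgebra
  letI := ιB.toAlgebra
  obtain ⟨x0, hx0⟩ := hφ' (ιB y)
  obtain ⟨n, x1, hx1⟩ := IsLocalization.Away.surj a x0
  have hc : ∀ z, φ' (ιA z) = ιB (φ z) := fun z => RingHom.congr_fun hcomm z
  have hx1' : ιA x1 = x0 * ιA a ^ n := hx1.symm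
  have h1 : ιB (φ x1 - φ a ^ n * y) = 0 := by
    rw [map_sub, ← hc, hx1', map_mul, map_pow, hc, hx0, map_mul, map_pow, mul_comm, sub_self]
  have h1' : algebraMap B B' (φ x1 - φ a ^ n * y) = 0 := h1
  obtain ⟨m, hm⟩ := (IsLocalization.map_eq_zero_iff (Submonoid.powers (φ a)) B' _).mp h1'
  obtain ⟨k, hk⟩ := (Submonoid.mem_powers_iff _ _).mp m.2
  refine ⟨k + n, a ^ k * x1, ?_⟩
  rw [← hk, mul_sub] at hm
  rw [map_mul, map_pow, sub_eq_zero.mp hm, pow_add, mul_assoc]

theorem bijective_ringHom_of_height_le_one {R : Type*} [CommRing R]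
    [IsNoetherianRing R] (α : R →+* A) (φ : A →+* B) (hα : α.Finite) (hαf : α.Flat)
    (hβ : (φ.comp α).Finite) (hβf : (φ.comp α).Flat)
    (H : ∀ P : Ideal R, P.IsPrime → P.height ≤ 1 → ∃ f : R, f ∉ P ∧
      (∀ x, φ x = 0 → ∃ n : ℕ, α f ^ n * x = 0) ∧
      (∀ y, ∃ (n : ℕ) (x : A), φ x = φ (α f) ^ n * y)) :
    Function.Bijective φ := by
  letI := α.toAlgebra
  letI := (φ.comp α).toAlgebra
  haveI : Module.Finite R A := hα
  haveI : Module.Finite R B := hβ
  haveI : Module.Flat R A := hαf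
  haveI : Module.Flat R B := hβf
  let φl : A →ₗ[R] B :=
    { toFun := φ
      map_add' := map_add φ
      map_smul' := fun r x => by
        simp only [Algebra.smul_def, RingHom.algebraMap_toAlgebra, map_mul, RingHom.comp_apply,
          RingHom.id_apply] }
  have := bijective_of_height_le_one φl ?_ ?_
  · exact this
  · intro P hP hht x hx
    obtain ⟨f, hf, h1, -⟩ := H P hP hht
    obtain ⟨n, hn⟩ := h1 x hx
    refine ⟨f ^ n, fun h => hf (hP.mem_of_pow_mem _ h), ?_⟩
    rw [Algebra.smul_def, RingHom.algebraMap_toAlgebra, map_pow]; exact hn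
  · intro P hP hht y
    obtain ⟨f, hf, -, h2⟩ := H P hP hht
    obtain ⟨n, x, hx⟩ := h2 y
    refine ⟨f ^ n, fun h => hf (hP.mem_of_pow_mem _ h), x, ?_⟩
    rw [Algebra.smul_def, RingHom.algebraMap_toAlgebra, map_pow]; exact hx

end Algebra

theorem isIso_app_of_isIso_restrict {X Y : Scheme.{u}} (f : X ⟶ Y) (U : Y.Opens)
    (hf : IsIso (f ∣_ U)) : IsIso (f.app U) := by
  haveI := hf
  have h1 : IsIso ((f ∣_ U).app ⊤) := inferInstance
  rw [morphismRestrict_app] at h1
  have h3 : IsIso (X.presheaf.map (eqToHom (image_morphismRestrict_preimage f U ⊤)).op) := by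
    rw [eqToHom_op, eqToHom_map]; infer_instance
  have h2 : IsIso (f.app (U.ι ''ᵁ ⊤)) :=
    @IsIso.of_isIso_comp_right _ _ _ _ _ _ _ h3 h1
  have key : ∀ O : Y.Opens, U.ι ''ᵁ ⊤ = O → IsIso (f.app O) := by
    rintro O rfl; exact h2
  exact key U (Scheme.Opens.ι_image_top U)

set_option backward.isDefEq.respectTransparency false in
open Groth.Agent.Lib.Helper12.ComplMorA in
/-- **Hartogs for finite flat schemes**: a morphism `p : X ⟶ X'` of finite flat `S`-schemes, `S`
locally Noetherian, which is an isomorphism over a neighbourhood of each point of codimension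
`≤ 1` of `S`, is an isomorphism. -/
theorem isIso_of_codimOne {S X X' : Scheme.{u}} [IsLocallyNoetherian S] (h : X' ⟶ S) (p : X ⟶ X')
    [IsFinite h] [Flat h] [IsFinite (p ≫ h)] [Flat (p ≫ h)]
    (H : ∀ s : S, ringKrullDim (S.presheaf.stalk s) ≤ 1 →
      ∃ W : S.Opens, s ∈ W ∧ IsIso (p ∣_ h ⁻¹ᵁ W)) : IsIso p := by
  have hcover : ⨆ U : S.affineOpens, h ⁻¹ᵁ U.1 = ⊤ := by
    rw [← Scheme.Hom.preimage_iSup, iSup_affineOpens_eq_top, Scheme.Hom.preimage_top]
  rw [← MorphismProperty.isomorphisms.iff]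
  refine IsZariskiLocalAtTarget.of_iSup_eq_top
    (P := MorphismProperty.isomorphisms Scheme) _ hcover ?_
  rintro ⟨U, hU⟩
  change MorphismProperty.isomorphisms Scheme (p ∣_ h ⁻¹ᵁ U)
  have hV' : IsAffineOpen (h ⁻¹ᵁ U) := hU.preimage h
  have hV : IsAffineOpen (p ⁻¹ᵁ h ⁻¹ᵁ U) := hU.preimage (p ≫ h)
  haveI : IsAffine (h ⁻¹ᵁ U).toScheme := hV'
  rw [HasAffineProperty.iff_of_isAffine (P := MorphismProperty.isomorphisms Scheme)]
  refine ⟨hV, ?_⟩
  rw [morphismRestrict_appTop]
  suffices hsuff : IsIso (p.app (h ⁻¹ᵁ U)) by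
    have key : ∀ O : X'.Opens, h ⁻¹ᵁ U = O → IsIso (p.app O) := by rintro O rfl; exact hsuff
    haveI := key _ (Scheme.Opens.ι_image_top _).symm
    have h3 : IsIso (X.presheaf.map
        (eqToHom (image_morphismRestrict_preimage p (h ⁻¹ᵁ U) ⊤)).op) := by
      rw [eqToHom_op, eqToHom_map]; infer_instance
    haveI := h3
    infer_instance
  rw [ConcreteCategory.isIso_iff_bijective]
  -- ring-level
  haveI : IsNoetherianRing Γ(S, U) := IsLocallyNoetherian.component_noetherian ⟨U, hU⟩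
  refine bijective_ringHom_of_height_le_one (h.app U).hom (p.app (h ⁻¹ᵁ U)).hom
    (h.finite_app U hU) ?_ ?_ ?_ ?_
  · have := h.flat_appLE hU hV' le_rfl
    rwa [← Scheme.Hom.app_eq_appLE] at this
  · exact (p ≫ h).finite_app U hU
  · have := (p ≫ h).flat_appLE hU (V := (p ≫ h) ⁻¹ᵁ U) hV le_rfl
    rw [← Scheme.Hom.app_eq_appLE] at this
    exact this
  · intro P hP hht
    let y : PrimeSpectrum Γ(S, U) := ⟨P, hP⟩
    have hyU : hU.fromSpec y ∈ U := by
      rw [← SetLike.mem_coe, ← hU.range_fromSpec]; exact ⟨y, rfl⟩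
    have hloc := hU.isLocalization_stalk' y hyU
    have hdim : ringKrullDim (S.presheaf.stalk (hU.fromSpec y)) ≤ 1 := by
      letI := TopCat.Presheaf.algebra_section_stalk S.presheaf ⟨hU.fromSpec y, hyU⟩
      rw [IsLocalization.AtPrime.ringKrullDim_eq_height P (S.presheaf.stalk (hU.fromSpec y))]
      exact_mod_cast hht
    obtain ⟨W, hsW, hW⟩ := H _ hdim
    obtain ⟨f, hfW, hsf⟩ := hU.exists_basicOpen_le (V := W) ⟨hU.fromSpec y, hsW⟩ hyU
    have hfP : f ∉ P := by
      have h1 : y ∈ hU.fromSpec ⁻¹ᵁ S.basicOpen f := hsf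
      rw [hU.fromSpec_preimage_basicOpen] at h1
      exact h1
    set f' : Γ(X', h ⁻¹ᵁ U) := (h.app U).hom f with hf'
    have hOeq : h ⁻¹ᵁ S.basicOpen f = X'.basicOpen f' := Scheme.preimage_basicOpen h f
    have hOle : X'.basicOpen f' ≤ h ⁻¹ᵁ W := by
      rw [← hOeq]; exact h.preimage_mono hfW
    have hisoO : IsIso (p ∣_ X'.basicOpen f') :=
      restrict_of_le (MorphismProperty.isomorphisms Scheme.{u}) p hOle hW
    have hisoApp : IsIso (p.app (X'.basicOpen f')) := isIso_app_of_isIso_restrict p _ hisoO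
    have hbij : Function.Bijective (p.app (X'.basicOpen f')).hom :=
      (ConcreteCategory.isIso_iff_bijective _).mp hisoApp
    let iA : X'.basicOpen f' ⟶ h ⁻¹ᵁ U := homOfLE (X'.basicOpen_le f')
    have hcomm : (p.app (X'.basicOpen f')).hom.comp (X'.presheaf.map iA.op).hom =
        (X.presheaf.map ((Opens.map p.base).map iA).op).hom.comp (p.app (h ⁻¹ᵁ U)).hom := by
      have := p.naturality iA.op
      rw [← CommRingCat.hom_comp, ← CommRingCat.hom_comp]
      exact congrArg CommRingCat.Hom.hom this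
    have hA := hV'.isLocalization_of_eq_basicOpen f' iA rfl
    have hB := hV.isLocalization_of_eq_basicOpen ((p.app (h ⁻¹ᵁ U)).hom f')
      ((Opens.map p.base).map iA) (Scheme.preimage_basicOpen p f')
    refine ⟨f, hfP, ?_, ?_⟩
    · exact away_inj (p.app (h ⁻¹ᵁ U)).hom f' _ _ _ hcomm hA hbij.1
    · exact away_surj (p.app (h ⁻¹ᵁ U)).hom f' _ _ _ hcomm hA hB hbij.2

/-- a closed map of schemes whose image contains all points of codimension `≤ 1` (in fact the
generic points suffice) is surjective. -/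
theorem surjective_of_codimOne {S Y : Scheme.{u}} (h : Y ⟶ S) (hcl : IsClosedMap h)
    (H : ∀ s : S, ringKrullDim (S.presheaf.stalk s) ≤ 1 → s ∈ Set.range h) :
    Function.Surjective h := by
  intro x
  obtain ⟨U, hU, hxU, -⟩ := exists_isAffineOpen_mem_and_subset (x := x) (U := ⊤) trivial
  let y : PrimeSpectrum Γ(S, U) := hU.primeIdealOf ⟨x, hxU⟩
  have hyx : hU.fromSpec y = x := hU.fromSpec_primeIdealOf ⟨x, hxU⟩
  obtain ⟨P0, hP0, hP0le⟩ := Ideal.exists_minimalPrimes_le (bot_le : (⊥ : Ideal Γ(S, U)) ≤ y.asIdeal)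
  have hP0prime : P0.IsPrime := hP0.1.1
  let η : PrimeSpectrum Γ(S, U) := ⟨P0, hP0prime⟩
  have hηU : hU.fromSpec η ∈ U := by
    rw [← SetLike.mem_coe, ← hU.range_fromSpec]; exact ⟨η, rfl⟩
  have hloc := hU.isLocalization_stalk' η hηU
  have hdim : ringKrullDim (S.presheaf.stalk (hU.fromSpec η)) ≤ 1 := by
    letI := TopCat.Presheaf.algebra_section_stalk S.presheaf ⟨hU.fromSpec η, hηU⟩
    haveI : IsLocalization.AtPrime (S.presheaf.stalk (hU.fromSpec η)) P0 := hloc
    rw [IsLocalization.AtPrime.ringKrullDim_eq_height P0 (S.presheaf.stalk (hU.fromSpec η))]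
    have h0 : P0.height = 0 := Ideal.height_eq_zero_iff.mpr hP0
    rw [h0]; exact zero_le_one
  have hmem := H _ hdim
  have hspec : η ⤳ y := (PrimeSpectrum.le_iff_specializes η y).mp hP0le
  have hspec' : hU.fromSpec η ⤳ hU.fromSpec y := hspec.map hU.fromSpec.continuous
  rw [hyx] at hspec'
  exact hspec'.mem_closed hcl.isClosed_range hmem

end Groth.Agent.Lib.Helper16.CodimOneSch
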