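import Mathlib
import Groth.Agent.Lib.Helper27CechNat
import Groth.Agent.Lib.Helper21CoprodSec2
import Groth.Agent.Lib.Helper18DirImgSigma
import Groth.Agent.Lib.Helper23QCohAbelian

/-!
# Cohomology of a coproduct of quasi-coherent modules (helper27)

On a scheme with a finite cover whose finite intersections are affine, the higher cohomology of
an arbitrary coproduct of quasi-coherent modules vanishes as soon as that of each summand does
(`subsingleton_HH_coprod`).  The proof is on Čech cochains: a cochain of `∐ F` only involves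
finitely many summands (helper21 `exists_finite_sum`).
-/

set_option autoImplicit false
set_option linter.style.haveILetI false
universe u
open CategoryTheory CategoryTheory.Limits Opposite TopologicalSpace AlgebraicGeometry

namespace Groth.Agent.Lib.Helper27CohSum

open Groth.Agent.Lib.Helper16.CechLow Groth.Agent.Lib.Helper27CechNat
  Groth.Agent.Lib.Helper21.CoprodSec Groth.Agent.Lib.Helper18.DirImgColim

variable {X : Scheme.{u}} {J : Type u} (F : J → X.Modules)

theorem exists_finset_prT_eq (W : X.Opens) (hW : IsCompact (W : Set X))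
    (s : (∐ F).val.obj (op W)) :
    ∃ t : Finset J, ∀ T : Finset J, t ⊆ T → (prT F T).val.app (op W) s = s := by
  obtain ⟨t, z, hs⟩ := exists_finite_sum F (hasFinSubcover_of_isCompact W hW) s
  refine ⟨t, fun T hT => ?_⟩
  rw [hs, map_sum]
  refine Finset.sum_congr rfl fun i hi => ?_
  have h3 : (prT F T).val.app (op W) ((Sigma.ι F i).val.app (op W) (z i)) =
      (Sigma.ι F i ≫ prT F T).val.app (op W) (z i) := rfl
  exact h3.trans (congrArg (fun φ : F i ⟶ ∐ F => φ.val.app (op W) (z i)) (ι_prT F T i (hT hi)))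

variable {ι : Type u} (U : ι → X.Opens)

/-- the map of Čech complexes induced by a morphism of modules. -/
noncomputable abbrev cMap {M N : X.Modules} (φ : M ⟶ N) :
    CK U M.presheaf ⟶ CK U N.presheaf :=
  (cechComplexFunctor U).map φ.mapPresheaf

theorem pr_cMap {M N : X.Modules} (φ : M ⟶ N) (n : ℕ) (x : Fin (n + 1) → ι)
    (c : (CK U M.presheaf).X n) :
    pr U N.presheaf n x ((cMap U φ).f n c) =
      φ.mapPresheaf.app (op (Ux U x)) (pr U M.presheaf n x c) :=
  ConcreteCategory.congr_hom (map_pr U φ.mapPresheaf n x) c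

theorem cMap_d {M N : X.Modules} (φ : M ⟶ N) (n : ℕ) (c : (CK U M.presheaf).X n) :
    (CK U N.presheaf).d n (n + 1) ((cMap U φ).f n c) =
      (cMap U φ).f (n + 1) ((CK U M.presheaf).d n (n + 1) c) :=
  ConcreteCategory.congr_hom ((cMap U φ).comm n (n + 1)) c

section Main
variable [Finite ι]

/-- a cochain of the coproduct involves finitely many summands. -/
theorem exists_finset_cMap_prT_eq
    (hc : ∀ (n : ℕ) (x : Fin (n + 1) → ι), IsCompact ((Ux U x : X.Opens) : Set X))
    (n : ℕ) (c : (CK U (∐ F).presheaf).X n) :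
    ∃ T : Finset J, (cMap U (prT F T)).f n c = c := by
  classical
  haveI : Fintype ι := Fintype.ofFinite ι
  choose t ht using fun x : Fin (n + 1) → ι =>
    exists_finset_prT_eq F (Ux U x) (hc n x) (pr U (∐ F).presheaf n x c)
  refine ⟨Finset.univ.biUnion t, ?_⟩
  apply elt_ext
  intro x
  exact (pr_cMap U (prT F (Finset.univ.biUnion t)) n x c).trans
    (ht x _ (Finset.subset_biUnion_of_mem t (Finset.mem_univ x)))

theorem exists_primitive_coprod
    (hc : ∀ (n : ℕ) (x : Fin (n + 1) → ι), IsCompact ((Ux U x : X.Opens) : Set X)) (p : ℕ)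
    (h : ∀ j, IsZero ((CK U (F j).presheaf).homology (p + 1)))
    (c : (CK U (∐ F).presheaf).X (p + 1))
    (hc0 : (CK U (∐ F).presheaf).d (p + 1) (p + 2) c = 0) :
    ∃ b : (CK U (∐ F).presheaf).X p, (CK U (∐ F).presheaf).d p (p + 1) b = c := by
  classical
  obtain ⟨T, hT⟩ := exists_finset_cMap_prT_eq F U hc (p + 1) c
  have hcj : ∀ j, (CK U (F j).presheaf).d (p + 1) (p + 2)
      ((cMap U (Sigma.π F j)).f (p + 1) c) = 0 := by
    intro j
    refine (cMap_d U (Sigma.π F j) (p + 1) c).trans ?_
    exact (congrArg (fun z => (cMap U (Sigma.π F j)).f (p + 2) z) hc0).trans (map_zero _)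
  choose b hb using fun j => exists_of_isZero_homology U (F j).presheaf p (h j) _ (hcj j)
  refine ⟨∑ j ∈ T, (cMap U (Sigma.ι F j)).f p (b j), ?_⟩
  have h1 : ∀ j, (CK U (∐ F).presheaf).d p (p + 1) ((cMap U (Sigma.ι F j)).f p (b j)) =
      (cMap U (Sigma.ι F j)).f (p + 1) ((cMap U (Sigma.π F j)).f (p + 1) c) := by
    intro j
    refine (cMap_d U (Sigma.ι F j) p (b j)).trans ?_
    exact congrArg (fun z => (cMap U (Sigma.ι F j)).f (p + 1) z) (hb j)
  refine (map_sum _ _ _).trans ?_
  refine (Finset.sum_congr rfl (fun j _ => h1 j)).trans ?_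
  refine Eq.trans ?_ hT
  apply elt_ext
  intro x
  refine (map_sum _ _ _).trans ?_
  refine Eq.trans ?_ (pr_cMap U (prT F T) (p + 1) x c).symm
  have h2 : (Scheme.Modules.Hom.mapPresheaf (M := ∐ F) (N := ∐ F) (prT F T)).app (op (Ux U x)) (pr U (∐ F).presheaf (p + 1) x c) =
      ∑ j ∈ T, (Sigma.π F j ≫ Sigma.ι F j).val.app (op (Ux U x))
        (pr U (∐ F).presheaf (p + 1) x c) :=
    sum_val_app T (fun j => Sigma.π F j ≫ Sigma.ι F j) (op (Ux U x)) _
  refine Eq.trans ?_ h2.symm
  refine Finset.sum_congr rfl (fun j _ => ?_)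
  refine (pr_cMap U (Sigma.ι F j) (p + 1) x _).trans ?_
  exact congrArg (fun z => (Sigma.ι F j).mapPresheaf.app (op (Ux U x)) z)
    (pr_cMap U (Sigma.π F j) (p + 1) x c)

theorem isZero_homology_coprod
    (hc : ∀ (n : ℕ) (x : Fin (n + 1) → ι), IsCompact ((Ux U x : X.Opens) : Set X)) (p : ℕ)
    (h : ∀ j, IsZero ((CK U (F j).presheaf).homology (p + 1))) :
    IsZero ((CK U (∐ F).presheaf).homology (p + 1)) := by
  rw [← HomologicalComplex.exactAt_iff_isZero_homology,
    HomologicalComplex.exactAt_iff' _ p (p + 1) (p + 2) (by simp) (by simp),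
    ShortComplex.ab_exact_iff]
  intro c hc0
  exact exists_primitive_coprod F U hc p h c hc0

theorem Ux_eq_iInf {n : ℕ} (x : Fin (n + 1) → ι) : (Ux U x : X.Opens) = ⨅ a, U (x a) := by
  apply le_antisymm
  · exact le_iInf fun a => (Pi.π (U ∘ x) a).le
  · exact (Pi.lift (fun a => homOfLE (iInf_le (fun a => U (x a)) a))).le

theorem isAffineOpen_Ux (hU : ∀ s : Finset ι, s.Nonempty → IsAffineOpen (⨅ i ∈ s, U i))
    {n : ℕ} (x : Fin (n + 1) → ι) : IsAffineOpen (Ux U x : X.Opens) := by
  classical
  rw [Ux_eq_iInf]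
  have := hU (Finset.image x Finset.univ) (Finset.image_nonempty.2 Finset.univ_nonempty)
  have e : (⨅ i ∈ Finset.image x Finset.univ, U i) = iInf fun k => U (x k) := by
    apply le_antisymm
    · refine le_iInf fun k => ?_
      exact iInf₂_le (x k) (Finset.mem_image.2 ⟨k, Finset.mem_univ k, rfl⟩)
    · refine le_iInf₂ fun i hi => ?_
      obtain ⟨k, -, rfl⟩ := Finset.mem_image.1 hi
      exact iInf_le _ k
  rwa [e] at this

/-- **Cohomology of a coproduct**: on a scheme with a finite cover with affine finite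
intersections, `H^{p+1}` of a coproduct of quasi-coherent modules vanishes if it does for every
summand. -/
theorem subsingleton_HH_coprod (hcov : ⨆ i, U i = ⊤)
    (hU : ∀ s : Finset ι, s.Nonempty → IsAffineOpen (⨅ i ∈ s, U i))
    (hF : ∀ j, (F j).IsQuasicoherent) (p : ℕ)
    (h : ∀ j, Subsingleton (Coh.HH X (F j) (p + 1))) :
    Subsingleton (Coh.HH X (∐ F) (p + 1)) := by
  have hc : ∀ (n : ℕ) (x : Fin (n + 1) → ι), IsCompact ((Ux U x : X.Opens) : Set X) :=
    fun n x => (isAffineOpen_Ux U hU x).isCompact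
  haveI hq : (∐ F).IsQuasicoherent :=
    Groth.Agent.Lib.Helper23.QCohLocal.isQuasicoherent_colimit (Discrete.functor F)
      (fun j => hF j.as)
  haveI : Coh.IsQCoh (∐ F) := hq
  have hj : ∀ j, IsZero ((CK U (F j).presheaf).homology (p + 1)) := by
    intro j
    haveI : Coh.IsQCoh (F j) := hF j
    have hb := cmpM_bijective U hcov hU (F j) (p + 1)
    haveI := h j
    have hs : Subsingleton ↑(CohB1.cechH U (F j) (p + 1)) := hb.1.subsingleton
    exact @AddCommGrpCat.isZero_of_subsingleton _ hs
  have h0 := isZero_homology_coprod F U hc p hj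
  have hb := cmpM_bijective U hcov hU (∐ F) (p + 1)
  have hs : Subsingleton ↑(CohB1.cechH U (∐ F) (p + 1)) := AddCommGrpCat.subsingleton_of_isZero h0
  exact @Function.Surjective.subsingleton _ _ _ hs hb.2

end Main

end Groth.Agent.Lib.Helper27CohSum
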