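import Mathlib
import Groth.Prelude.Def_LocCohZ
import Groth.Agent.Lib.Helper23AffOpen4
import Groth.Agent.Lib.Helper27CohSum

set_option autoImplicit false
set_option linter.style.haveILetI false
set_option linter.unusedSectionVars false
universe u
open CategoryTheory CategoryTheory.Limits Opposite TopologicalSpace AlgebraicGeometry Abelian

namespace Groth.Agent.Lib.Helper16.CohCoprod

section Abstract

universe w v' u'
variable {C : Type u'} [Category.{v'} C] [Abelian C] [HasExt.{w} C]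

/-- abstract Mayer–Vietoris for "finitely supported" classes. -/
theorem exists_supp_of_mv_abstract {A₁ A₂ A₃ A₄ : C} (a : A₁ ⟶ A₂) (b : A₁ ⟶ A₃) (c : A₂ ⟶ A₄)
    (d : A₃ ⟶ A₄) (w : biprod.lift a (-b) ≫ biprod.desc c d = 0)
    (hT : (ShortComplex.mk (biprod.lift a (-b)) (biprod.desc c d) w).ShortExact)
    (G : C) {ι : Type*} (e : Finset ι → (G ⟶ G))
    (he : ∀ S T : Finset ι, S ⊆ T → e S ≫ e T = e S) (n : ℕ)
    (h₂ : ∀ β : Ext.{w} A₂ G (n + 1), ∃ S, β.comp (Ext.mk₀ (e S)) (add_zero _) = β)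
    (h₃ : ∀ β : Ext.{w} A₃ G (n + 1), ∃ S, β.comp (Ext.mk₀ (e S)) (add_zero _) = β)
    (h₁ : ∀ γ : Ext.{w} A₁ G n, ∃ S, γ.comp (Ext.mk₀ (e S)) (add_zero _) = γ)
    (α : Ext.{w} A₄ G (n + 1)) : ∃ S, α.comp (Ext.mk₀ (e S)) (add_zero _) = α := by
  classical
  obtain ⟨S₁, hS₁⟩ := h₂ ((Ext.mk₀ c).comp α (zero_add (n + 1)))
  obtain ⟨S₂, hS₂⟩ := h₃ ((Ext.mk₀ d).comp α (zero_add (n + 1)))
  set S := S₁ ∪ S₂ with hS
  set φ : G ⟶ G := 𝟙 G - e S with hφ
  set α' := α.comp (Ext.mk₀ φ) (add_zero (n + 1)) with hα'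
  have hkill : ∀ S' : Finset ι, S' ⊆ S → e S' ≫ φ = 0 := by
    intro S' hS'
    rw [hφ, Preadditive.comp_sub, Category.comp_id, he S' S hS', sub_self]
  have hc : (Ext.mk₀ c).comp α' (zero_add (n + 1)) = 0 := by
    rw [hα', ← Ext.comp_assoc _ _ _ (zero_add (n + 1)) (add_zero (n + 1)) (by omega), ← hS₁,
      Ext.comp_assoc _ _ _ (add_zero (n + 1)) (add_zero 0) (by omega), Ext.mk₀_comp_mk₀,
      hkill S₁ Finset.subset_union_left, Ext.mk₀_zero, Ext.comp_zero]
  have hd : (Ext.mk₀ d).comp α' (zero_add (n + 1)) = 0 := by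
    rw [hα', ← Ext.comp_assoc _ _ _ (zero_add (n + 1)) (add_zero (n + 1)) (by omega), ← hS₂,
      Ext.comp_assoc _ _ _ (add_zero (n + 1)) (add_zero 0) (by omega), Ext.mk₀_comp_mk₀,
      hkill S₂ Finset.subset_union_right, Ext.mk₀_zero, Ext.comp_zero]
  have hg : (Ext.mk₀ (ShortComplex.mk (biprod.lift a (-b)) (biprod.desc c d) w).g).comp α'
      (zero_add (n + 1)) = 0 := by
    apply Ext.biprodAddEquiv.injective
    ext
    · rw [Ext.biprodAddEquiv_apply_fst, Ext.mk₀_comp_mk₀_assoc, map_zero]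
      dsimp
      rw [biprod.inl_desc]
      exact hc
    · rw [Ext.biprodAddEquiv_apply_snd, Ext.mk₀_comp_mk₀_assoc, map_zero]
      dsimp
      rw [biprod.inr_desc]
      exact hd
  obtain ⟨γ, hγ⟩ := Ext.contravariant_sequence_exact₃ hT G α' hg (add_comm 1 n)
  obtain ⟨S₃, hS₃⟩ := h₁ γ
  have hα'S₃ : α'.comp (Ext.mk₀ (e S₃)) (add_zero (n + 1)) = α' := by
    rw [← hγ, Ext.comp_assoc _ _ _ (add_comm 1 n) (add_zero n) (by omega), hS₃]
  have hsplit : α = α.comp (Ext.mk₀ (e S)) (add_zero (n + 1)) + α' := by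
    rw [hα', ← Ext.comp_add, ← Ext.mk₀_add, hφ, add_sub_cancel, Ext.comp_mk₀_id]
  refine ⟨S ∪ S₃, ?_⟩
  have h1 : (α.comp (Ext.mk₀ (e S)) (add_zero (n + 1))).comp (Ext.mk₀ (e (S ∪ S₃)))
      (add_zero (n + 1)) = α.comp (Ext.mk₀ (e S)) (add_zero (n + 1)) := by
    rw [Ext.comp_assoc _ _ _ (add_zero (n + 1)) (add_zero 0) (by omega), Ext.mk₀_comp_mk₀,
      he S (S ∪ S₃) Finset.subset_union_left]
  have h2 : α'.comp (Ext.mk₀ (e (S ∪ S₃))) (add_zero (n + 1)) = α' := by
    rw [← hα'S₃, Ext.comp_assoc _ _ _ (add_zero (n + 1)) (add_zero 0) (by omega),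
      Ext.mk₀_comp_mk₀, he S₃ (S ∪ S₃) Finset.subset_union_right]
  calc α.comp (Ext.mk₀ (e (S ∪ S₃))) (add_zero (n + 1))
      = (α.comp (Ext.mk₀ (e S)) (add_zero (n + 1)) + α').comp (Ext.mk₀ (e (S ∪ S₃)))
          (add_zero (n + 1)) := by rw [← hsplit]
    _ = α.comp (Ext.mk₀ (e S)) (add_zero (n + 1)) + α' := by rw [Ext.add_comp, h1, h2]
    _ = α := hsplit.symm

end Abstract

section Gen

open Groth.Agent.Lib.Helper21.CoprodSec

variable {C : Type u} [SmallCategory C] {J : GrothendieckTopology C} {R : Sheaf J RingCat.{u}}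
  {ι : Type u} (F : ι → SheafOfModules.{u} R)

lemma prT_comp_gen (S T : Finset ι) (h : S ⊆ T) : prT F S ≫ prT F T = prT F S := by
  classical
  unfold prT
  rw [Preadditive.sum_comp]
  refine Finset.sum_congr rfl (fun i hi => ?_)
  rw [Category.assoc]
  have := ι_prT F T i (h hi)
  unfold prT at this
  rw [this]

end Gen

open Groth.Agent.Lib.Helper23.AffVanish Groth.Agent.Lib.Helper21.CoprodSec
  Groth.Agent.Lib.Helper27CohSum

variable {X : Scheme.{u}} {A : Type u} (F : A → X.Modules)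

/-- the functor to abelian sheaves on morphisms. -/
noncomputable abbrev Φ {M N : X.Modules} (φ : M ⟶ N) : ab' M ⟶ ab' N :=
  (SheafOfModules.toSheaf X.ringCatSheaf).map φ

lemma prT_comp (S T : Finset A) (h : S ⊆ T) : prT F S ≫ prT F T = prT F S :=
  prT_comp_gen F S T h

/-- the projection to the summands indexed by `T`, on abelian sheaves. -/
noncomputable def eT (T : Finset A) : ab' (∐ F) ⟶ ab' (∐ F) := Φ (prT F T)

lemma eT_comp (S T : Finset A) (h : S ⊆ T) : eT F S ≫ eT F T = eT F S := by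
  unfold eT Φ
  exact ((SheafOfModules.toSheaf X.ringCatSheaf).map_comp _ _).symm.trans
    (congrArg (SheafOfModules.toSheaf X.ringCatSheaf).map (prT_comp F S T h))

/-- classes of degree `m` over `W` are supported on finitely many summands. -/
def FS (m : ℕ) (W : X.Opens) : Prop :=
  ∀ α : HE (ab' (∐ F)) m W, ∃ T : Finset A, α.comp (Ext.mk₀ (eT F T)) (add_zero m) = α

lemma h0F'_comp {M N : X.Modules} (φ : M ⟶ N) (V : X.Opens) (x : HE (ab' M) 0 V) :
    h0F' N V (x.comp (Ext.mk₀ (Φ φ)) (add_zero 0)) = φ.val.app (op V) (h0F' M V x) := by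
  obtain ⟨ψ, rfl⟩ := (Ext.mk₀_bijective _ _).2 x
  rw [Ext.mk₀_comp_mk₀]
  change CohFree.evalGen (J X.carrier) V (ab' N) (Ext.addEquiv₀ (Ext.mk₀ _)) =
    φ.val.app (op V) (CohFree.evalGen (J X.carrier) V (ab' M) (Ext.addEquiv₀ (Ext.mk₀ ψ)))
  rw [addEquiv₀_mk₀, addEquiv₀_mk₀]
  rfl

theorem FS_zero (W : X.Opens) (hW : IsCompact (W : Set X)) : FS F 0 W := by
  intro α
  obtain ⟨t, ht⟩ := exists_finset_prT_eq F W hW (h0F' (∐ F) W α)
  refine ⟨t, ?_⟩
  apply (h0F' (∐ F) W).injective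
  exact (h0F'_comp (prT F t) W α).trans (ht t (Finset.Subset.refl t))

theorem FS_bot (m : ℕ) : FS F m (⊥ : X.Opens) := by
  intro α
  refine ⟨∅, ?_⟩
  rw [HE_eq_zero_of_eq_bot _ m rfl α, Ext.zero_comp]

theorem FS_affine (hF : ∀ j, (F j).IsQuasicoherent) {V : X.Opens} (hV : IsAffineOpen V) (m : ℕ) :
    FS F m V := by
  cases m with
  | zero => exact FS_zero F V hV.isCompact
  | succ m =>
    intro α
    haveI hq : (∐ F).IsQuasicoherent :=
      Groth.Agent.Lib.Helper23.QCohLocal.isQuasicoherent_colimit (Discrete.functor F)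
        (fun j => hF j.as)
    haveI := subsingleton_HE_of_isAffineOpen hV (∐ F) m
    exact ⟨∅, Subsingleton.elim _ _⟩

theorem FS_mv (n : ℕ) (U₁ U₂ W : X.Opens) (h₁ : U₁ ≤ W) (h₂ : U₂ ≤ W) (hW : W ≤ U₁ ⊔ U₂)
    (H₁ : FS F (n + 1) U₁) (H₂ : FS F (n + 1) U₂) (H₁₂ : FS F n (U₁ ⊓ U₂)) : FS F (n + 1) W :=
  fun α => exists_supp_of_mv_abstract
    (CohCx.freeSheafMap (J X.carrier) (homOfLE (inf_le_left : U₁ ⊓ U₂ ≤ U₁)))
    (CohCx.freeSheafMap (J X.carrier) (homOfLE (inf_le_right : U₁ ⊓ U₂ ≤ U₂)))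
    (CohCx.freeSheafMap (J X.carrier) (homOfLE h₁)) (CohCx.freeSheafMap (J X.carrier) (homOfLE h₂))
    (mvSquare U₁ U₂ W h₁ h₂ hW).shortComplex.zero
    (mvSquare U₁ U₂ W h₁ h₂ hW).shortComplex_shortExact (ab' (∐ F)) (eT F) (eT_comp F) n
    H₁ H₂ H₁₂ α

lemma isCompact_supList (l : List X.Opens) (hl : ∀ V ∈ l, IsCompact (V : Set X)) :
    IsCompact ((supList l : X.Opens) : Set X) := by
  induction l with
  | nil =>
    have : ((supList ([] : List X.Opens) : X.Opens) : Set X) = ∅ := rfl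
    rw [this]
    exact isCompact_empty
  | cons V l ih =>
    rw [supList_cons, Opens.coe_sup]
    exact (hl V List.mem_cons_self).union (ih fun V' hV' => hl V' (List.mem_cons_of_mem _ hV'))

theorem FS_of_list_class (hF : ∀ j, (F j).IsQuasicoherent) (𝒞 : Set X.Opens)
    (hC : ∀ V ∈ 𝒞, IsAffineOpen V) (hCi : ∀ V ∈ 𝒞, ∀ W ∈ 𝒞, V ⊓ W ∈ 𝒞) :
    ∀ (l : List X.Opens), (∀ V ∈ l, V ∈ 𝒞) → ∀ m : ℕ, FS F m (supList l) := by
  suffices H : ∀ (k : ℕ) (l : List X.Opens), l.length = k → (∀ V ∈ l, V ∈ 𝒞) → ∀ m : ℕ,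
      FS F m (supList l) from fun l hl m => H l.length l rfl hl m
  intro k
  induction k with
  | zero =>
    intro l hk _ m
    have : l = [] := List.length_eq_zero_iff.1 hk
    subst this
    exact FS_bot F m
  | succ k ih =>
    intro l hk hl m
    obtain ⟨V, l, rfl⟩ : ∃ V l', l = V :: l' := by
      cases l with
      | nil => simp at hk
      | cons V l' => exact ⟨V, l', rfl⟩
    have hk' : l.length = k := by simpa using hk
    have hV : V ∈ 𝒞 := hl V List.mem_cons_self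
    have hl' : ∀ W ∈ l, W ∈ 𝒞 := fun W hW => hl W (List.mem_cons_of_mem _ hW)
    cases m with
    | zero =>
      exact FS_zero F _ (isCompact_supList _ (fun W hW => (hC W (hl W hW)).isCompact))
    | succ n =>
      refine FS_mv F n V (supList l) (supList (V :: l)) le_sup_left le_sup_right le_rfl
        (FS_affine F hF (hC V hV) (n + 1)) (ih l hk' hl' (n + 1)) ?_
      rw [inf_supList]
      apply ih (l.map (V ⊓ ·)) (by simpa using hk')
      intro W hW
      obtain ⟨W', hW', rfl⟩ := List.mem_map.1 hW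
      exact hCi V hV W' (hl' W' hW')

theorem FS_of_isCompact_le_affine (hF : ∀ j, (F j).IsQuasicoherent) {U : X.Opens}
    (hU : IsAffineOpen U) (W : X.Opens) (hWU : W ≤ U) (hW : IsCompact (W : Set X)) (m : ℕ) :
    FS F m W := by
  have hloc : ∀ x : W, ∃ f : Γ(X, U), X.basicOpen f ≤ W ∧ (x : X) ∈ X.basicOpen f :=
    fun x => hU.exists_basicOpen_le (V := W) x (hWU x.2)
  choose f hfW hxf using hloc
  obtain ⟨s, hs⟩ := hW.elim_finite_subcover (fun x : W => (X.basicOpen (f x) : Set X))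
    (fun x => (X.basicOpen (f x)).2) (fun y hy => Set.mem_iUnion.2 ⟨⟨y, hy⟩, hxf ⟨y, hy⟩⟩)
  let l : List X.Opens := s.toList.map (fun x => X.basicOpen (f x))
  have hl : supList l = W := by
    apply le_antisymm
    · apply supList_le
      intro V hV
      obtain ⟨x, _, rfl⟩ := List.mem_map.1 hV
      exact hfW x
    · intro y hy
      obtain ⟨x, hx⟩ := Set.mem_iUnion.1 (hs hy)
      obtain ⟨hxs, hyx⟩ := Set.mem_iUnion.1 hx
      exact le_supList_of_mem (List.mem_map.2 ⟨x, Finset.mem_toList.2 hxs, rfl⟩) hyx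
  rw [← hl]
  refine FS_of_list_class F hF (Set.range (X.basicOpen : Γ(X, U) → X.Opens)) ?_ ?_ l ?_ m
  · rintro _ ⟨g, rfl⟩
    exact hU.basicOpen g
  · rintro _ ⟨g, rfl⟩ _ ⟨g', rfl⟩
    exact ⟨g * g', X.basicOpen_mul g g'⟩
  · intro V hV
    obtain ⟨x, _, rfl⟩ := List.mem_map.1 hV
    exact ⟨f x, rfl⟩

theorem FS_of_isCompact [QuasiSeparatedSpace X] (hF : ∀ j, (F j).IsQuasicoherent) (W : X.Opens)
    (hW : IsCompact (W : Set X)) : ∀ m : ℕ, FS F m W := by
  refine compact_open_induction_on (P := fun W : X.Opens => ∀ m : ℕ, FS F m W) W hW ?_ ?_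
  · exact fun m => FS_bot F m
  · rintro S hS U hSm m
    have hSU : IsCompact ((S ⊓ U.1 : X.Opens) : Set X) :=
      QuasiSeparatedSpace.inter_isCompact _ _ S.2 hS U.1.2 U.2.isCompact
    cases m with
    | zero => 
      have : IsCompact ((S ⊔ U.1 : X.Opens) : Set X) := by
        rw [Opens.coe_sup]
        exact hS.union U.2.isCompact
      exact FS_zero F _ this
    | succ n =>
      exact FS_mv F n S U.1 (S ⊔ U.1) le_sup_left le_sup_right le_rfl (hSm (n + 1))
        (FS_affine F hF U.2 (n + 1))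
        (FS_of_isCompact_le_affine F hF U.2 (S ⊓ U.1) inf_le_right hSU n)

lemma eT_empty : eT F ∅ = 0 := by
  unfold eT Φ prT
  rw [Finset.sum_empty]
  exact (SheafOfModules.toSheaf X.ringCatSheaf).map_zero _ _

open Classical in
lemma eT_insert (a : A) (T : Finset A) (ha : a ∉ T) :
    eT F (insert a T) = Φ (Sigma.π F a) ≫ Φ (Sigma.ι F a) + eT F T := by
  unfold eT Φ prT
  rw [Finset.sum_insert ha]
  exact ((SheafOfModules.toSheaf X.ringCatSheaf).map_add).trans
    (congrArg (· + _) ((SheafOfModules.toSheaf X.ringCatSheaf).map_comp _ _))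

/-- **Cohomology of a coproduct on a qcqs scheme**: `H^m` of a coproduct of quasi-coherent
modules vanishes if it does for every summand. -/
theorem subsingleton_HH_coprod_qcqs [CompactSpace X] [QuasiSeparatedSpace X]
    (hF : ∀ j, (F j).IsQuasicoherent) (m : ℕ) (h : ∀ j, Subsingleton (Coh.HH X (F j) m)) :
    Subsingleton (Coh.HH X (∐ F) m) := by
  have hFS := FS_of_isCompact F hF ⊤ isCompact_univ m
  have hz : ∀ j, ∀ β : HE (ab' (F j)) m ⊤, β = 0 := fun j β => by
    haveI := h j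
    haveI : Subsingleton (HE (ab' (F j)) m ⊤) :=
      (HETopEquivH X.carrier (ab' (F j)) m).subsingleton
    exact Subsingleton.elim _ _
  have key : ∀ α : HE (ab' (∐ F)) m ⊤, α = 0 := by
    intro α
    obtain ⟨T, hT⟩ := hFS α
    rw [← hT]
    have : ∀ T : Finset A, α.comp (Ext.mk₀ (eT F T)) (add_zero m) = 0 := by
      classical
      intro T
      induction T using Finset.induction_on with
      | empty => rw [eT_empty, Ext.mk₀_zero, Ext.comp_zero]
      | insert a T ha ih =>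
        rw [eT_insert F a T ha, Ext.mk₀_add, Ext.comp_add, ih, add_zero,
          ← Ext.mk₀_comp_mk₀, ← Ext.comp_assoc _ _ _ (add_zero m) (add_zero 0) (by omega),
          hz a (α.comp (Ext.mk₀ (Φ (Sigma.π F a))) (add_zero m)), Ext.zero_comp]
    exact this T
  haveI : Subsingleton (HE (ab' (∐ F)) m ⊤) := ⟨fun a b => (key a).trans (key b).symm⟩
  exact (HETopEquivH X.carrier (ab' (∐ F)) m).symm.subsingleton

end Groth.Agent.Lib.Helper16.CohCoprod
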