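import Mathlib

/-!
# Common factor after a finite birational extension (one-dimensional Noetherian local rings)

Helper lemmas for S1834: a unit-coefficient homogeneous relation via lengths, an integrality lemma
for the coefficients of a polynomial relation, and semilocal bookkeeping.
-/

set_option autoImplicit false
set_option linter.style.haveILetI false
set_option linter.unusedSectionVars false

universe u

namespace Groth.Agent.Lib.Helper16.CommonFactor


section Redundant

variable {R : Type u} [CommRing R] {V : Type*} [AddCommGroup V] [Module R V]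

/-- In a module of length at most `d`, among `d + 1` elements one lies in the span of the
previous ones. -/
lemma exists_mem_span_lt (d : ℕ) (hV : Module.length R V ≤ d) (g : Fin (d + 1) → V) :
    ∃ i : Fin (d + 1), g i ∈ Submodule.span R (g '' {j | j.val < i.val}) := by
  by_contra hcon
  push Not at hcon
  let W : Fin (d + 1 + 1) → Submodule R V := fun k => Submodule.span R (g '' {j | j.val < k.val})
  have hW : StrictMono W := by
    rw [Fin.strictMono_iff_lt_succ]
    intro i
    refine lt_of_le_of_ne ?_ ?_
    · refine Submodule.span_mono (Set.image_mono ?_)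
      intro j hj
      simp only [Set.mem_ofPred_eq, Fin.val_castSucc, Fin.val_succ] at hj ⊢
      omega
    · intro heq
      apply hcon i
      have h1 : g i ∈ W i.succ := by
        refine Submodule.subset_span ⟨i, ?_, rfl⟩
        simp only [Set.mem_ofPred_eq, Fin.val_succ]
        omega
      rw [← heq] at h1
      simpa [W] using h1
  let p : LTSeries (Submodule R V) := LTSeries.mk (d + 1) W hW
  have h1 := Order.LTSeries.length_le_krullDim p
  rw [← Module.coe_length] at h1
  have h2 : ((d + 1 : ℕ) : ℕ∞) ≤ Module.length R V := by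
    have : ((p.length : ℕ∞) : WithBot ℕ∞) ≤ (Module.length R V : WithBot ℕ∞) := by exact_mod_cast h1
    exact_mod_cast this
  have h3 := h2.trans hV
  have : (d + 1 : ℕ) ≤ d := by exact_mod_cast h3
  omega

end Redundant

section StepA

variable {R : Type u} [CommRing R] [IsNoetherianRing R] [IsLocalRing R]

lemma isArtinianRing_quot (hR : ringKrullDim R = 1) {s : R} (hs : s ∈ nonZeroDivisors R) :
    IsArtinianRing (R ⧸ Ideal.span {s}) := by
  rw [isArtinianRing_iff_krullDimLE_zero, Ring.krullDimLE_iff]
  have h := ringKrullDim_quotient_succ_le_of_nonZeroDivisor hs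
  rw [hR] at h
  generalize ringKrullDim (R ⧸ Ideal.span {s}) = n at h ⊢
  cases n with
  | bot => exact bot_le
  | coe n =>
    have h' : n + 1 ≤ 1 := by exact_mod_cast h
    have : n = 0 := by
      by_contra hn
      have : 1 ≤ n := Order.one_le_iff_ne_zero.mpr hn
      have h2 : (1 : ℕ∞) + 1 ≤ n + 1 := by gcongr
      have := h2.trans h'
      exact absurd this (by decide)
    rw [this]
    rfl

lemma length_quot_ne_top (I : Ideal R) [IsArtinianRing (R ⧸ I)] :
    Module.length R (R ⧸ I) ≠ ⊤ := by
  rw [Module.length_eq_of_surjective (S := R) (R := R ⧸ I) (M := R ⧸ I)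
    Ideal.Quotient.mk_surjective]
  exact Module.length_ne_top

/-- For a nonzerodivisor `a` and an ideal `J` of finite colength, `J / aJ` has the same length as
`R / aR`. -/
lemma length_ker_factor (a : R) (ha : a ∈ nonZeroDivisors R) (J : Ideal R)
    (hJ : Module.length R (R ⧸ J) ≠ ⊤) :
    Module.length R (LinearMap.ker (Submodule.factor
      (show Ideal.span {a} * J ≤ J from Ideal.mul_le_right))) =
      Module.length R (R ⧸ Ideal.span {a}) := by
  set K : Ideal R := Ideal.span {a} * J with hK
  have hKJ : K ≤ J := Ideal.mul_le_right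
  have hKa : K ≤ Ideal.span {a} := Ideal.mul_le_left
  let g' : (R ⧸ K) →ₗ[R] (R ⧸ J) := Submodule.factor hKJ
  have h1 := Module.length_eq_add_of_exact (LinearMap.ker g').subtype g'
    (Submodule.subtype_injective _) (Submodule.factor_surjective hKJ)
    (LinearMap.exact_subtype_ker_map g')
  have hle : J ≤ Submodule.comap (LinearMap.mulLeft R a) K := by
    intro x hx
    exact Ideal.mul_mem_mul (Ideal.mem_span_singleton_self a) hx
  let f : (R ⧸ J) →ₗ[R] (R ⧸ K) := Submodule.mapQ J K (LinearMap.mulLeft R a) hle
  let g : (R ⧸ K) →ₗ[R] (R ⧸ Ideal.span {a}) := Submodule.factor hKa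
  have hf : Function.Injective f := by
    rw [← LinearMap.ker_eq_bot, LinearMap.ker_eq_bot']
    intro y hy
    obtain ⟨s, rfl⟩ := Submodule.Quotient.mk_surjective _ y
    have h0 : Submodule.Quotient.mk (p := K) (a * s) = 0 := hy
    rw [Submodule.Quotient.mk_eq_zero, hK, Ideal.mem_span_singleton_mul] at h0
    obtain ⟨z, hz, hza⟩ := h0
    have : z = s := by
      have h2 : a * (z - s) = 0 := by rw [mul_sub, hza, sub_self]
      have := (mul_left_mem_nonZeroDivisors_eq_zero_iff ha).mp h2
      exact sub_eq_zero.mp this
    rw [Submodule.Quotient.mk_eq_zero, ← this]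
    exact hz
  have hg : Function.Surjective g := Submodule.factor_surjective hKa
  have hex : Function.Exact f g := by
    intro y
    obtain ⟨r, rfl⟩ := Submodule.Quotient.mk_surjective _ y
    constructor
    · intro h0
      have h0' : Submodule.Quotient.mk (p := Ideal.span {a}) r = 0 := h0
      rw [Submodule.Quotient.mk_eq_zero] at h0'
      obtain ⟨s, hs⟩ := Ideal.mem_span_singleton'.mp h0'
      refine ⟨Submodule.Quotient.mk s, ?_⟩
      change Submodule.Quotient.mk (a * s) = _
      rw [mul_comm, hs]
    · rintro ⟨y', hy'⟩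
      obtain ⟨s, rfl⟩ := Submodule.Quotient.mk_surjective _ y'
      rw [← hy']
      change Submodule.Quotient.mk (p := Ideal.span {a}) (a * s) = 0
      rw [Submodule.Quotient.mk_eq_zero]
      exact Ideal.mul_mem_right _ _ (Ideal.mem_span_singleton_self a)
  have h2 := Module.length_eq_add_of_exact f g hf hg hex
  rw [h1, add_comm] at h2
  exact (ENat.add_right_injective_of_ne_top hJ) h2

/-- In a one-dimensional Noetherian local ring, for a nonzerodivisor `a` in the maximal ideal and
any `b`, some homogeneous relation `∑ c_i a^i b^(d-i) = 0` has a unit coefficient. -/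
theorem exists_unit_coeff_relation (hR : ringKrullDim R = 1) (a b : R)
    (ha : a ∈ nonZeroDivisors R) (ham : a ∈ IsLocalRing.maximalIdeal R) :
    ∃ (d : ℕ) (c : Fin (d + 1) → R), (∃ i, IsUnit (c i)) ∧
      ∑ i, c i * (a ^ (i : ℕ) * b ^ (d - (i : ℕ))) = 0 := by
  classical
  haveI := isArtinianRing_quot hR ha
  have hℓ : Module.length R (R ⧸ Ideal.span {a}) ≠ ⊤ := length_quot_ne_top _
  obtain ⟨d, hd⟩ := ENat.ne_top_iff_exists.mp hℓ
  refine ⟨d, ?_⟩
  let g : Fin (d + 1) → R := fun i => a ^ (i : ℕ) * b ^ (d - (i : ℕ))
  let J : Ideal R := Ideal.span (Set.range g)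
  have hgJ : ∀ i, g i ∈ J := fun i => Ideal.subset_span ⟨i, rfl⟩
  have hadJ : a ^ d ∈ J := by
    have := hgJ (Fin.last d)
    simpa [g] using this
  have hJfin : Module.length R (R ⧸ J) ≠ ⊤ := by
    haveI := isArtinianRing_quot hR (pow_mem ha d)
    have h1 : Module.length R (R ⧸ Ideal.span {a ^ d}) ≠ ⊤ := length_quot_ne_top _
    have hle : Ideal.span {a ^ d} ≤ J := (Ideal.span_singleton_le_iff_mem _).mpr hadJ
    have h2 := Module.length_le_of_surjective (Submodule.factor hle)
      (Submodule.factor_surjective hle)
    exact ne_top_of_le_ne_top h1 h2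
  have hlen := length_ker_factor a ha J hJfin
  set K : Ideal R := Ideal.span {a} * J with hK
  have hKJ : K ≤ J := Ideal.mul_le_right
  let N := LinearMap.ker (Submodule.factor hKJ)
  let gb : Fin (d + 1) → N := fun i => ⟨Submodule.Quotient.mk (g i), by
    change Submodule.Quotient.mk (p := J) (g i) = 0
    rw [Submodule.Quotient.mk_eq_zero]
    exact hgJ i⟩
  have hNlen : Module.length R N ≤ d := by
    change Module.length R (LinearMap.ker (Submodule.factor hKJ)) ≤ d
    rw [hlen, ← hd]
  obtain ⟨i, hi⟩ := exists_mem_span_lt d hNlen gb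
  rw [Finsupp.mem_span_image_iff_linearCombination] at hi
  obtain ⟨l, hl, hli⟩ := hi
  have hli0 : l i = 0 := by
    rw [← Finsupp.notMem_support_iff]
    intro hmem
    have := hl hmem
    simp at this
  -- pass to `R ⧸ K`
  have h1 : Submodule.Quotient.mk (p := K) (∑ j, l j * g j) = Submodule.Quotient.mk (g i) := by
    have h2 := congrArg (Subtype.val) hli
    rw [Finsupp.linearCombination_apply, Finsupp.sum_fintype l (fun j r => r • gb j) (fun _ => zero_smul _ _)] at h2
    simp only [Submodule.coe_sum, Submodule.coe_smul, gb] at h2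
    rw [← h2, ← Submodule.mkQ_apply, map_sum]
    refine Finset.sum_congr rfl fun j _ => ?_
    rw [← smul_eq_mul, map_smul]
    rfl
  rw [eq_comm, ← sub_eq_zero, ← Submodule.Quotient.mk_sub, Submodule.Quotient.mk_eq_zero, hK,
    Ideal.mem_span_singleton_mul] at h1
  obtain ⟨z, hzJ, hz⟩ := h1
  obtain ⟨s, hs⟩ := (Submodule.mem_span_range_iff_exists_fun R).mp hzJ
  refine ⟨fun j => (if j = i then 1 else 0) - l j - a * s j, ⟨i, ?_⟩, ?_⟩
  · simp only [if_true, hli0, sub_zero]
    apply IsLocalRing.isUnit_one_sub_self_of_mem_nonunits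
    exact Ideal.mul_mem_right _ _ ham
  · change ∑ j, ((if j = i then 1 else 0) - l j - a * s j) * g j = 0
    have e1 : ∀ j, ((if j = i then (1 : R) else 0) - l j - a * s j) * g j =
        (if j = i then g j else 0) - l j * g j - a * (s j • g j) := by
      intro j
      split_ifs <;> simp only [smul_eq_mul] <;> ring
    rw [Finset.sum_congr rfl (fun j _ => e1 j), Finset.sum_sub_distrib, Finset.sum_sub_distrib,
      ← Finset.mul_sum, hs, hz]
    simp

end StepA



section StepB

open Polynomial

variable {R : Type u} [CommRing R] {S : Type*} [CommRing S] [Algebra R S]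

local notation "T" => integralClosure R S

lemma coeff_eq_add_mul (x : S) : ∀ (n : ℕ) (P : (integralClosure R S)[X]), P.natDegree ≤ n →
    aeval x P = 0 →
    ∀ i, ∃ u v : integralClosure R S, (u : S) * x ∈ integralClosure R S ∧
      (v : S) * x ∈ integralClosure R S ∧ ((P.coeff i : integralClosure R S) : S) = u + v * x := by
  intro n
  induction n with
  | zero =>
    intro P hdeg hP i
    have hC := Polynomial.eq_C_of_natDegree_le_zero hdeg
    rw [hC, aeval_C] at hP
    have h0 : P.coeff 0 = 0 := by
      apply Subtype.ext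
      exact hP
    refine ⟨0, 0, by simp, by simp, ?_⟩
    rw [hC, h0]
    simp
  | succ n IH =>
    intro P hdeg hP i
    by_cases hle : P.natDegree ≤ n
    · exact IH P hle hP i
    have hnd : P.natDegree = n + 1 := by omega
    set c : T := P.leadingCoeff with hc
    have hcx : IsIntegral T (c • x) := isIntegral_leadingCoeff_smul P x hP
    have hcx' : (c : S) * x ∈ T := by
      have h1 : IsIntegral R (c • x) := isIntegral_trans (R := R) (A := T) _ hcx
      exact h1
    let w : T := ⟨(c : S) * x, hcx'⟩
    let P' : T[X] := P.eraseLead + C w * X ^ n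
    have hdeg' : P'.natDegree ≤ n := by
      refine (natDegree_add_le _ _).trans (max_le ?_ (natDegree_C_mul_X_pow_le _ _))
      have := Polynomial.eraseLead_natDegree_le P
      omega
    have hid := Polynomial.eraseLead_add_C_mul_X_pow P
    rw [hnd] at hid
    have hP' : aeval x P' = 0 := by
      have h1 : aeval x P.eraseLead + (c : S) * x ^ (n + 1) = 0 := by
        have := congrArg (aeval x) hid
        rw [map_add, hP, map_mul, aeval_C, map_pow, aeval_X] at this
        exact this
      have h2 : aeval x P' = aeval x P.eraseLead + ((c : S) * x) * x ^ n := by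
        simp only [P', map_add, map_mul, aeval_C, map_pow, aeval_X]
        rfl
      rw [h2, ← h1]
      ring
    obtain ⟨u, v, hu, hv, huv⟩ := IH P' hdeg' hP' i
    have hcoef : P.coeff i = P.eraseLead.coeff i + (if i = n + 1 then c else 0) := by
      conv_lhs => rw [← hid]
      rw [coeff_add, coeff_C_mul_X_pow]
    have hcoef' : P'.coeff i = P.eraseLead.coeff i + (if i = n then w else 0) := by
      simp only [P', coeff_add, coeff_C_mul_X_pow]
    by_cases h1 : i = n + 1
    · refine ⟨u + c, v, ?_, hv, ?_⟩
      · have : ((u + c : T) : S) * x = (u : S) * x + (c : S) * x := by push_cast; ring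
        rw [this]
        exact Subalgebra.add_mem _ hu hcx'
      · have hne : i ≠ n := by omega
        rw [hcoef, if_pos h1]
        rw [hcoef', if_neg hne, add_zero] at huv
        push_cast
        rw [huv]
        ring
    · by_cases h2 : i = n
      · refine ⟨u, v - c, hu, ?_, ?_⟩
        · have : ((v - c : T) : S) * x = (v : S) * x - (c : S) * x := by push_cast; ring
          rw [this]
          exact Subalgebra.sub_mem _ hv hcx'
        · rw [hcoef, if_neg h1, add_zero]
          rw [hcoef', if_pos h2] at huv
          have h3 : ((P.eraseLead.coeff i : T) : S) + (c : S) * x = u + v * x := by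
            rw [← huv]
            push_cast
            rfl
          push_cast
          linear_combination h3
      · refine ⟨u, v, hu, hv, ?_⟩
        rw [hcoef, if_neg h1, add_zero]
        rw [hcoef', if_neg h2, add_zero] at huv
        exact huv

theorem exists_integral_pair (x : S) (P : R[X]) (hP : aeval x P = 0) (i : ℕ)
    (hi : IsUnit (P.coeff i)) :
    ∃ u v : S, IsIntegral R u ∧ IsIntegral R v ∧ IsIntegral R (u * x) ∧ IsIntegral R (v * x) ∧
      u + v * x = 1 := by
  have hP' : aeval x (P.map (algebraMap R T)) = 0 := by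
    rw [aeval_map_algebraMap]
    exact hP
  obtain ⟨u, v, hu, hv, huv⟩ := coeff_eq_add_mul x _ (P.map (algebraMap R T)) le_rfl hP' i
  obtain ⟨e, he⟩ := hi.exists_left_inv
  rw [coeff_map] at huv
  have h1 : ((algebraMap R T (P.coeff i) : T) : S) = algebraMap R S (P.coeff i) := rfl
  rw [h1] at huv
  refine ⟨algebraMap R S e * u, algebraMap R S e * v, ?_, ?_, ?_, ?_, ?_⟩
  · exact (isIntegral_algebraMap).mul u.2
  · exact (isIntegral_algebraMap).mul v.2
  · rw [mul_assoc]
    exact (isIntegral_algebraMap).mul hu
  · rw [mul_assoc]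
    exact (isIntegral_algebraMap).mul hv
  · have : algebraMap R S e * (u + v * x) = 1 := by
      rw [← huv, ← map_mul, he, map_one]
    rw [← this]
    ring

end StepB



section StepD

variable {R : Type u} [CommRing R] [IsNoetherianRing R] [IsLocalRing R]

lemma exists_pow_le_span (hR : ringKrullDim R = 1) {s : R} (hs : s ∈ nonZeroDivisors R) :
    ∃ n : ℕ, IsLocalRing.maximalIdeal R ^ n ≤ Ideal.span {s} := by
  haveI := isArtinianRing_quot hR hs
  apply Ideal.exists_pow_le_of_le_radical_of_fg _ (IsNoetherian.noetherian _)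
  rw [Ideal.radical_eq_sInf]
  refine le_sInf ?_
  rintro p ⟨hsp, hp⟩
  have hker : RingHom.ker (Ideal.Quotient.mk (Ideal.span {s})) ≤ p := by
    rw [Ideal.mk_ker]; exact hsp
  haveI := Ideal.map_isPrime_of_surjective Ideal.Quotient.mk_surjective hker
  haveI hmax : (p.map (Ideal.Quotient.mk (Ideal.span {s}))).IsMaximal :=
    IsArtinianRing.isMaximal_of_isPrime _
  have h1 : (p.map (Ideal.Quotient.mk (Ideal.span {s}))).comap
      (Ideal.Quotient.mk (Ideal.span {s})) = p := by
    rw [Ideal.comap_map_of_surjective' _ Ideal.Quotient.mk_surjective, sup_eq_left]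
    exact hker
  have h2 : p.IsMaximal := by
    rw [← h1]
    exact Ideal.comap_isMaximal_of_surjective _ Ideal.Quotient.mk_surjective
  rw [IsLocalRing.eq_maximalIdeal h2]

omit [IsNoetherianRing R] in
lemma finite_maximals {R' : Type*} [CommRing R'] [Algebra R R'] [Module.Finite R R'] :
    {I : Ideal R' | I.IsMaximal}.Finite := by
  haveI : Algebra.IsIntegral R R' := Algebra.IsIntegral.of_finite R R'
  refine (Algebra.QuasiFinite.finite_primesOver (R := R) (S := R')
    (IsLocalRing.maximalIdeal R)).subset ?_
  intro I hI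
  haveI : I.IsMaximal := hI
  refine ⟨hI.isPrime, ⟨?_⟩⟩
  have := Ideal.isMaximal_comap_of_isIntegral_of_isMaximal (R := R) I
  exact (IsLocalRing.eq_maximalIdeal this).symm

end StepD



section StepE

variable {R' : Type*} [CommRing R']

/-- In a semilocal ring, if `(a, b) * (U, V) = (b)` via the relations below with `b` a
nonzerodivisor, then `a` and `b` have a common factor `t` with coprime cofactors. -/
theorem exists_common_factor_of_relations (hf : {I : Ideal R' | I.IsMaximal}.Finite)
    (aR bR U V UX VX : R') (e1 : UX * bR = U * aR) (e2 : VX * bR = V * aR) (e3 : U + VX = 1)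
    (haRnzd : aR ∈ nonZeroDivisors R') (hbRnzd : bR ∈ nonZeroDivisors R') :
    ∃ t a' b' : R', t ∈ nonZeroDivisors R' ∧ a' ∈ nonZeroDivisors R' ∧
      b' ∈ nonZeroDivisors R' ∧ aR = t * a' ∧ bR = t * b' ∧ Ideal.span {a', b'} = ⊤ := by
  let J : Ideal R' := Ideal.span {aR, bR}
  let G : Ideal R' := Ideal.span {U, V}
  have hJG : J * G = Ideal.span {bR} := by
    apply le_antisymm
    · rw [Ideal.span_pair_mul_span_pair, Ideal.span_le]
      intro y hy
      simp only [Set.mem_insert_iff, Set.mem_singleton_iff] at hy
      rcases hy with rfl | rfl | rfl | rfl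
      · rw [SetLike.mem_coe, Ideal.mem_span_singleton']
        exact ⟨UX, by rw [e1, mul_comm]⟩
      · rw [SetLike.mem_coe, Ideal.mem_span_singleton']
        exact ⟨VX, by rw [e2, mul_comm]⟩
      · rw [SetLike.mem_coe, Ideal.mem_span_singleton']
        exact ⟨U, by rw [mul_comm]⟩
      · rw [SetLike.mem_coe, Ideal.mem_span_singleton']
        exact ⟨V, by rw [mul_comm]⟩
    · rw [Ideal.span_singleton_le_iff_mem]
      have h1 : bR = bR * U + aR * V := by
        have : bR = bR * (U + VX) := by rw [e3, mul_one]
        rw [mul_add, mul_comm bR VX, e2, mul_comm V aR] at this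
        exact this
      rw [h1]
      refine Ideal.add_mem _ (Ideal.mul_mem_mul ?_ ?_) (Ideal.mul_mem_mul ?_ ?_)
      · exact Ideal.subset_span (by simp)
      · exact Ideal.subset_span (by simp)
      · exact Ideal.subset_span (by simp)
      · exact Ideal.subset_span (by simp)
  have hJunit : IsUnit (J : FractionalIdeal (nonZeroDivisors R') (FractionRing R')) := by
    have h1 : (J : FractionalIdeal (nonZeroDivisors R') (FractionRing R')) *
        (G : FractionalIdeal (nonZeroDivisors R') (FractionRing R')) =
        FractionalIdeal.spanSingleton _ (algebraMap R' (FractionRing R') bR) := by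
      rw [← FractionalIdeal.coeIdeal_mul, hJG, FractionalIdeal.coeIdeal_span_singleton]
    have h2 : IsUnit (FractionalIdeal.spanSingleton (nonZeroDivisors R')
        (algebraMap R' (FractionRing R') bR)) := by
      have hbu' : IsUnit (algebraMap R' (FractionRing R') bR) :=
        IsLocalization.map_units (FractionRing R') (⟨bR, hbRnzd⟩ : nonZeroDivisors R')
      obtain ⟨w, hw⟩ := hbu'.exists_right_inv
      refine IsUnit.of_mul_eq_one (FractionalIdeal.spanSingleton _ w) ?_
      rw [FractionalIdeal.spanSingleton_mul_spanSingleton, hw, FractionalIdeal.spanSingleton_one]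
    rw [← h1] at h2
    exact isUnit_of_mul_isUnit_left h2
  have hprinc : J.IsPrincipal := Ideal.IsPrincipal.of_finite_maximals_of_isUnit hf hJunit
  obtain ⟨t, ht⟩ := hprinc.principal
  have htJ : J = Ideal.span {t} := ht
  have haJ : aR ∈ J := Ideal.subset_span (by simp)
  have hbJ : bR ∈ J := Ideal.subset_span (by simp)
  rw [htJ] at haJ hbJ
  obtain ⟨a', ha'⟩ := Ideal.mem_span_singleton'.mp haJ
  obtain ⟨b', hb'⟩ := Ideal.mem_span_singleton'.mp hbJ
  have htmem : t ∈ J := by rw [htJ]; exact Ideal.mem_span_singleton_self t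
  obtain ⟨α, β, hαβ⟩ := Ideal.mem_span_pair.mp htmem
  have htnzd : t ∈ nonZeroDivisors R' := by
    have : a' * t ∈ nonZeroDivisors R' := ha' ▸ haRnzd
    exact (mul_mem_nonZeroDivisors.mp this).2
  have ha'nzd : a' ∈ nonZeroDivisors R' := by
    have : a' * t ∈ nonZeroDivisors R' := ha' ▸ haRnzd
    exact (mul_mem_nonZeroDivisors.mp this).1
  have hb'nzd : b' ∈ nonZeroDivisors R' := by
    have : b' * t ∈ nonZeroDivisors R' := hb' ▸ hbRnzd
    exact (mul_mem_nonZeroDivisors.mp this).1
  refine ⟨t, a', b', htnzd, ha'nzd, hb'nzd, ?_, ?_, ?_⟩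
  · rw [mul_comm]; exact ha'.symm
  · rw [mul_comm]; exact hb'.symm
  · rw [Ideal.eq_top_iff_one]
    have h1 : t * (α * a' + β * b') = t * 1 := by
      rw [mul_one]
      conv_rhs => rw [← hαβ, ← ha', ← hb']
      ring
    have h2 : α * a' + β * b' = 1 := by
      have := (mul_right_mem_nonZeroDivisors_eq_zero_iff htnzd).mp
        (show (α * a' + β * b' - 1) * t = 0 by rw [mul_comm, mul_sub, h1, sub_self])
      exact sub_eq_zero.mp this
    rw [← h2]
    exact Ideal.add_mem _ (Ideal.mul_mem_left _ _ (Ideal.subset_span (by simp)))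
      (Ideal.mul_mem_left _ _ (Ideal.subset_span (by simp)))

end StepE


end Groth.Agent.Lib.Helper16.CommonFactor
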