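import Mathlib
import Groth.Prelude.Def_W4c3severiratdpLat

set_option autoImplicit false
set_option linter.style.haveILetI false
set_option linter.unusedSectionVars false

namespace Groth.Agent.Lib.Helper16E8

open W4c3severiratdp

variable {δ : ℕ}

theorem form_add_left (u v w : DP δ) : form (u + v) w = form u w + form v w := by
  simp only [form, Pi.add_apply, add_mul, Finset.sum_add_distrib]
  ring

theorem form_smul_left (n : ℤ) (v w : DP δ) : form (n • v) w = n * form v w := by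
  simp only [form, Pi.smul_apply, smul_eq_mul, mul_assoc, ← Finset.mul_sum]
  ring

theorem form_comm (v w : DP δ) : form v w = form w v := by
  simp only [form, mul_comm]

theorem form_add_right (u v w : DP δ) : form u (v + w) = form u v + form u w := by
  rw [form_comm, form_add_left, form_comm v, form_comm w]

theorem form_smul_right (n : ℤ) (v w : DP δ) : form v (n • w) = n * form v w := by
  rw [form_comm, form_smul_left, form_comm]

theorem form_neg_left (v w : DP δ) : form (-v) w = -form v w := by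
  have := form_smul_left (-1) v w
  simpa using this

theorem form_neg_right (v w : DP δ) : form v (-w) = -form v w := by
  rw [form_comm, form_neg_left, form_comm]

theorem form_sub_left (u v w : DP δ) : form (u - v) w = form u w - form v w := by
  rw [sub_eq_add_neg, form_add_left, form_neg_left, sub_eq_add_neg]

theorem form_sub_right (u v w : DP δ) : form u (v - w) = form u v - form u w := by
  rw [form_comm, form_sub_left, form_comm v, form_comm w]

theorem form_zero_left (w : DP δ) : form (0 : DP δ) w = 0 := by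
  simp [form]

theorem form_single_zero_right (v : DP δ) (x : ℤ) : form v (Pi.single 0 x) = v 0 * x := by
  simp [form, Pi.single_apply, Fin.succ_ne_zero]

theorem form_single_succ_right (v : DP δ) (i : Fin δ) (x : ℤ) :
    form v (Pi.single i.succ x) = -(v i.succ * x) := by
  simp [form, Pi.single_apply, Fin.succ_inj, (Fin.succ_ne_zero i).symm]

theorem canon_zero : canon δ 0 = -3 := rfl

theorem canon_succ (i : Fin δ) : canon δ i.succ = -1 := rfl

theorem form_canon (v : DP δ) : form (canon δ) v = -3 * v 0 + ∑ i : Fin δ, v i.succ := by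
  simp [form, canon_zero, canon_succ]

/-! ### Reflections -/

/-- The reflection `v ↦ v + (v·γ) γ` in a vector of norm `-2`. -/
def reflFun (γ : DP δ) (v : DP δ) : DP δ := v + form v γ • γ

theorem reflFun_reflFun (γ : DP δ) (hγ : form γ γ = -2) (v : DP δ) :
    reflFun γ (reflFun γ v) = v := by
  unfold reflFun
  rw [form_add_left, form_smul_left, hγ]
  ext m
  simp only [Pi.add_apply, Pi.smul_apply, smul_eq_mul]
  ring

/-- The reflection as a linear equivalence. -/
def refl (γ : DP δ) (hγ : form γ γ = -2) : DP δ ≃ₗ[ℤ] DP δ where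
  toFun := reflFun γ
  map_add' v w := by
    unfold reflFun
    rw [form_add_left, add_smul]
    abel
  map_smul' n v := by
    unfold reflFun
    rw [form_smul_left]
    ext m
    simp only [Pi.add_apply, Pi.smul_apply, smul_eq_mul, RingHom.id_apply]
    ring
  invFun := reflFun γ
  left_inv := reflFun_reflFun γ hγ
  right_inv := reflFun_reflFun γ hγ

theorem refl_apply (γ : DP δ) (hγ : form γ γ = -2) (v : DP δ) :
    refl γ hγ v = v + form v γ • γ := rfl

theorem isWeyl_refl (γ : DP δ) (hγ : form γ γ = -2) (hK : form (canon δ) γ = 0) :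
    IsWeyl (refl γ hγ) := by
  constructor
  · intro v w
    simp only [refl_apply, form_add_left, form_add_right, form_smul_left, form_smul_right, hγ]
    rw [form_comm γ w]
    ring
  · rw [refl_apply, hK, zero_smul, add_zero]

theorem isWeyl_id : IsWeyl (LinearEquiv.refl ℤ (DP δ)) :=
  ⟨fun _ _ => rfl, rfl⟩

theorem isWeyl_trans {g h : DP δ ≃ₗ[ℤ] DP δ} (hg : IsWeyl g) (hh : IsWeyl h) :
    IsWeyl (g.trans h) := by
  constructor
  · intro v w
    rw [LinearEquiv.trans_apply, LinearEquiv.trans_apply, hh.1, hg.1]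
  · rw [LinearEquiv.trans_apply, hg.2, hh.2]

theorem isWeyl_symm {g : DP δ ≃ₗ[ℤ] DP δ} (hg : IsWeyl g) : IsWeyl g.symm := by
  constructor
  · intro v w
    have := hg.1 (g.symm v) (g.symm w)
    rw [LinearEquiv.apply_symm_apply, LinearEquiv.apply_symm_apply] at this
    exact this.symm
  · rw [LinearEquiv.symm_apply_eq, hg.2]

theorem isWeyl_form_canon {g : DP δ ≃ₗ[ℤ] DP δ} (hg : IsWeyl g) (v : DP δ) :
    form (canon δ) (g v) = form (canon δ) v := by
  conv_lhs => rw [← hg.2]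
  exact hg.1 _ _

theorem isWeyl_isExc {g : DP δ ≃ₗ[ℤ] DP δ} (hg : IsWeyl g) {v : DP δ} (hv : IsExc v) :
    IsExc (g v) :=
  ⟨by rw [hg.1]; exact hv.1, by rw [isWeyl_form_canon hg]; exact hv.2⟩

/-! ### Roots -/

/-- The root `ℓ - e_i - e_j - e_k`. -/
def gam (i j k : Fin δ) : DP δ :=
  Pi.single 0 1 + Pi.single i.succ 1 + Pi.single j.succ 1 + Pi.single k.succ 1

theorem form_gam_right (v : DP δ) (i j k : Fin δ) :
    form v (gam i j k) = v 0 - v i.succ - v j.succ - v k.succ := by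
  simp only [gam, form_add_right, form_single_zero_right, form_single_succ_right]
  ring

theorem gam_zero (i j k : Fin δ) : gam i j k 0 = 1 := by
  simp [gam, Pi.single_apply, (Fin.succ_ne_zero _).symm]

theorem gam_succ (i j k l : Fin δ) :
    gam i j k l.succ = (if l = i then 1 else 0) + (if l = j then 1 else 0) +
      (if l = k then 1 else 0) := by
  simp [gam, Pi.single_apply, Fin.succ_inj, Fin.succ_ne_zero]

theorem form_gam_gam (i j k : Fin δ) (hij : i ≠ j) (hik : i ≠ k) (hjk : j ≠ k) :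
    form (gam i j k) (gam i j k) = -2 := by
  rw [form_gam_right, gam_zero, gam_succ, gam_succ, gam_succ]
  simp [hij, hik, hjk, hij.symm, hik.symm, hjk.symm]

theorem form_canon_gam (i j k : Fin δ) : form (canon δ) (gam i j k) = 0 := by
  rw [form_gam_right, canon_zero, canon_succ, canon_succ, canon_succ]
  norm_num

/-- The root `e_j - e_i` (as a vector: `b_i = 1`, `b_j = -1`). -/
def rho (i j : Fin δ) : DP δ := Pi.single i.succ 1 - Pi.single j.succ 1

theorem form_rho_right (v : DP δ) (i j : Fin δ) :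
    form v (rho i j) = v j.succ - v i.succ := by
  simp only [rho, form_sub_right, form_single_succ_right]
  ring

theorem rho_zero (i j : Fin δ) : rho i j 0 = 0 := by
  simp [rho, Pi.single_apply, (Fin.succ_ne_zero _).symm]

theorem rho_succ (i j l : Fin δ) :
    rho i j l.succ = (if l = i then 1 else 0) - (if l = j then 1 else 0) := by
  simp [rho, Pi.single_apply, Fin.succ_inj]

theorem form_rho_rho (i j : Fin δ) (hij : i ≠ j) : form (rho i j) (rho i j) = -2 := by
  rw [form_rho_right, rho_succ, rho_succ]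
  simp [hij, hij.symm]

theorem form_canon_rho (i j : Fin δ) : form (canon δ) (rho i j) = 0 := by
  rw [form_rho_right, canon_succ, canon_succ]
  norm_num

theorem refl_gam_zero (i j k : Fin δ) (h : form (gam i j k) (gam i j k) = -2) (v : DP δ) :
    refl (gam i j k) h v 0 = 2 * v 0 - v i.succ - v j.succ - v k.succ := by
  rw [refl_apply, Pi.add_apply, Pi.smul_apply, form_gam_right, gam_zero]
  simp only [smul_eq_mul]
  ring

theorem refl_gam_succ (i j k : Fin δ) (h : form (gam i j k) (gam i j k) = -2) (v : DP δ)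
    (l : Fin δ) :
    refl (gam i j k) h v l.succ = v l.succ + (v 0 - v i.succ - v j.succ - v k.succ) *
      ((if l = i then 1 else 0) + (if l = j then 1 else 0) + (if l = k then 1 else 0)) := by
  rw [refl_apply, Pi.add_apply, Pi.smul_apply, form_gam_right, gam_succ]
  simp only [smul_eq_mul]

theorem refl_rho_zero (i j : Fin δ) (h : form (rho i j) (rho i j) = -2) (v : DP δ) :
    refl (rho i j) h v 0 = v 0 := by
  rw [refl_apply, Pi.add_apply, Pi.smul_apply, rho_zero]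
  simp

theorem refl_rho_succ (i j : Fin δ) (h : form (rho i j) (rho i j) = -2) (v : DP δ)
    (l : Fin δ) :
    refl (rho i j) h v l.succ = v l.succ + (v j.succ - v i.succ) *
      ((if l = i then 1 else 0) - (if l = j then 1 else 0)) := by
  rw [refl_apply, Pi.add_apply, Pi.smul_apply, form_rho_right, rho_succ]
  simp only [smul_eq_mul]

/-! ### Admissible Weyl elements relative to an index set -/

/-- Weyl elements fixing the classes `e_l` for `l ∉ J`. -/
def Adm (J : Finset (Fin δ)) (g : DP δ ≃ₗ[ℤ] DP δ) : Prop :=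
  IsWeyl g ∧ ∀ l, l ∉ J → g (Pi.single l.succ 1) = Pi.single l.succ 1

theorem adm_id (J : Finset (Fin δ)) : Adm J (LinearEquiv.refl ℤ (DP δ)) :=
  ⟨isWeyl_id, fun _ _ => rfl⟩

theorem adm_trans {J : Finset (Fin δ)} {g h : DP δ ≃ₗ[ℤ] DP δ} (hg : Adm J g) (hh : Adm J h) :
    Adm J (g.trans h) :=
  ⟨isWeyl_trans hg.1 hh.1, fun l hl => by
    rw [LinearEquiv.trans_apply, hg.2 l hl, hh.2 l hl]⟩

theorem adm_symm {J : Finset (Fin δ)} {g : DP δ ≃ₗ[ℤ] DP δ} (hg : Adm J g) : Adm J g.symm :=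
  ⟨isWeyl_symm hg.1, fun l hl => by rw [LinearEquiv.symm_apply_eq, hg.2 l hl]⟩

theorem adm_coord {J : Finset (Fin δ)} {g : DP δ ≃ₗ[ℤ] DP δ} (hg : Adm J g) (v : DP δ)
    (l : Fin δ) (hl : l ∉ J) : g v l.succ = v l.succ := by
  have h1 := hg.1.1 v (Pi.single l.succ 1)
  rw [hg.2 l hl, form_single_succ_right, form_single_succ_right] at h1
  linarith

theorem adm_refl_gam {J : Finset (Fin δ)} (i j k : Fin δ) (hi : i ∈ J) (hj : j ∈ J) (hk : k ∈ J)
    (h : form (gam i j k) (gam i j k) = -2) : Adm J (refl (gam i j k) h) := by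
  refine ⟨isWeyl_refl _ h (form_canon_gam i j k), fun l hl => ?_⟩
  have hli : i ≠ l := fun e => hl (e ▸ hi)
  have hlj : j ≠ l := fun e => hl (e ▸ hj)
  have hlk : k ≠ l := fun e => hl (e ▸ hk)
  rw [refl_apply, form_gam_right]
  simp [Pi.single_apply, Fin.succ_inj, (Fin.succ_ne_zero _).symm, hli, hlj, hlk]

theorem adm_refl_rho {J : Finset (Fin δ)} (i j : Fin δ) (hi : i ∈ J) (hj : j ∈ J)
    (h : form (rho i j) (rho i j) = -2) : Adm J (refl (rho i j) h) := by
  refine ⟨isWeyl_refl _ h (form_canon_rho i j), fun l hl => ?_⟩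
  have hli : i ≠ l := fun e => hl (e ▸ hi)
  have hlj : j ≠ l := fun e => hl (e ▸ hj)
  rw [refl_apply, form_rho_right]
  simp [Pi.single_apply, Fin.succ_inj, hli, hlj]

theorem adm_mono {J J' : Finset (Fin δ)} (hJ : J ⊆ J') {g : DP δ ≃ₗ[ℤ] DP δ} (hg : Adm J g) :
    Adm J' g :=
  ⟨hg.1, fun l hl => hg.2 l (fun h => hl (hJ h))⟩

/-! ### Numerical facts about exceptional classes -/

theorem isExc_iff (v : DP δ) : IsExc v ↔
    (∑ i : Fin δ, v i.succ ^ 2 = v 0 ^ 2 + 1) ∧ (∑ i : Fin δ, v i.succ = 3 * v 0 - 1) := by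
  unfold IsExc
  rw [form_canon]
  simp only [form, pow_two]
  constructor
  · rintro ⟨h1, h2⟩
    exact ⟨by linarith, by linarith⟩
  · rintro ⟨h1, h2⟩
    exact ⟨by linarith, by linarith⟩

theorem exc_nonneg (hδ : δ ≤ 8) (v : DP δ) (hv : IsExc v) : 0 ≤ v 0 := by
  obtain ⟨hQ, hS⟩ := (isExc_iff v).mp hv
  have cs := sq_sum_le_card_mul_sum_sq (s := (Finset.univ : Finset (Fin δ)))
    (f := fun i => v i.succ)
  rw [hS, hQ, Finset.card_univ, Fintype.card_fin] at cs
  have hδ' : (δ : ℤ) ≤ 8 := by exact_mod_cast hδ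
  have hpos : 0 ≤ ∑ i : Fin δ, (v i.succ ^ 2 + v i.succ) :=
    Finset.sum_nonneg fun i _ => by nlinarith [sq_nonneg (2 * v i.succ + 1)]
  rw [Finset.sum_add_distrib, hQ, hS] at hpos
  have cs' : v 0 ^ 2 - 6 * v 0 - 7 ≤ 0 := by
    nlinarith [mul_nonneg (sub_nonneg.mpr hδ') (by positivity : (0 : ℤ) ≤ v 0 ^ 2 + 1)]
  by_contra hneg
  push Not at hneg
  linarith

theorem exc_zero (v : DP δ) (hv : IsExc v) (h0 : v 0 = 0) :
    ∃ i : Fin δ, v = Pi.single i.succ (-1) := by
  obtain ⟨hQ, hS⟩ := (isExc_iff v).mp hv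
  rw [h0] at hQ hS
  have hterm : ∀ i : Fin δ, 0 ≤ v i.succ ^ 2 + v i.succ := fun i => by
    nlinarith [sq_nonneg (2 * v i.succ + 1)]
  have hsum : ∑ i : Fin δ, (v i.succ ^ 2 + v i.succ) = 0 := by
    rw [Finset.sum_add_distrib, hQ, hS]
    norm_num
  have hz : ∀ i : Fin δ, v i.succ ^ 2 + v i.succ = 0 := fun i =>
    (Finset.sum_eq_zero_iff_of_nonneg (fun i _ => hterm i)).mp hsum i (Finset.mem_univ i)
  have hb : ∀ i : Fin δ, v i.succ = 0 ∨ v i.succ = -1 := fun i => by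
    have h1 : v i.succ * (v i.succ + 1) = 0 := by
      have := hz i
      linarith [this, sq (v i.succ)]
    rcases mul_eq_zero.mp h1 with h | h
    · exact Or.inl h
    · exact Or.inr (by linarith)
  have hex : ∃ i : Fin δ, v i.succ = -1 := by
    by_contra hcon
    push Not at hcon
    have hall : ∀ i : Fin δ, v i.succ = 0 := fun i => (hb i).resolve_right (hcon i)
    simp [hall] at hS
  obtain ⟨i, hi⟩ := hex
  refine ⟨i, ?_⟩
  have hrest : ∑ j ∈ Finset.univ.erase i, v j.succ = 0 := by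
    have := Finset.add_sum_erase Finset.univ (fun j : Fin δ => v j.succ) (Finset.mem_univ i)
    rw [hS, hi] at this
    linarith
  have hnp : ∀ j ∈ Finset.univ.erase i, v j.succ ≤ 0 := fun j _ => by
    rcases hb j with h | h <;> rw [h] <;> norm_num
  have hz' : ∀ j ∈ Finset.univ.erase i, v j.succ = 0 :=
    (Finset.sum_eq_zero_iff_of_nonpos hnp).mp hrest
  funext m
  refine Fin.cases ?_ (fun j => ?_) m
  · rw [h0]
    simp [Pi.single_apply, (Fin.succ_ne_zero _).symm]
  · by_cases hji : j = i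
    · subst hji
      rw [hi]
      simp
    · rw [hz' j (Finset.mem_erase.mpr ⟨hji, Finset.mem_univ j⟩)]
      simp [Pi.single_apply, Fin.succ_inj, hji]

theorem exc_coord_nonneg (hδ : δ ≤ 8) (v : DP δ) (hv : IsExc v) (h1 : 1 ≤ v 0) (m : Fin δ) :
    0 ≤ v m.succ := by
  obtain ⟨hQ, hS⟩ := (isExc_iff v).mp hv
  by_contra hneg
  push Not at hneg
  have cs := sq_sum_le_card_mul_sum_sq (s := Finset.univ.erase m) (f := fun i : Fin δ => v i.succ)
  have e1 := Finset.add_sum_erase Finset.univ (fun j : Fin δ => v j.succ) (Finset.mem_univ m)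
  have e2 := Finset.add_sum_erase Finset.univ (fun j : Fin δ => v j.succ ^ 2) (Finset.mem_univ m)
  rw [hS] at e1
  rw [hQ] at e2
  have hcard : (((Finset.univ.erase m : Finset (Fin δ)).card : ℕ) : ℤ) ≤ 7 := by
    rw [Finset.card_erase_of_mem (Finset.mem_univ m), Finset.card_univ, Fintype.card_fin]
    have : δ - 1 ≤ 7 := by omega
    exact_mod_cast this
  have hS' : ∑ i ∈ Finset.univ.erase m, v i.succ = 3 * v 0 - 1 - v m.succ := by linarith
  have hQ' : ∑ i ∈ Finset.univ.erase m, v i.succ ^ 2 = v 0 ^ 2 + 1 - v m.succ ^ 2 := by linarith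
  have hQnn : 0 ≤ v 0 ^ 2 + 1 - v m.succ ^ 2 := by
    rw [← hQ']
    exact Finset.sum_nonneg fun i _ => sq_nonneg _
  rw [hS', hQ'] at cs
  have ht : 0 ≤ -v m.succ - 1 := by linarith
  nlinarith [mul_nonneg (sub_nonneg.mpr hcard) hQnn, mul_nonneg (sub_nonneg.mpr h1) ht,
    sq_nonneg (v m.succ + 1), sq_nonneg (v 0 - 1), mul_nonneg ht ht]

/-! ### The Noether inequality and descent -/

theorem top_three (hδ : δ ≤ 8) (f : Fin δ → ℤ) (J : Finset (Fin δ)) (hJ : 3 ≤ J.card)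
    (hf : ∀ l ∈ J, 0 ≤ f l) (a : ℤ)
    (hno : ∀ i ∈ J, ∀ j ∈ J, ∀ k ∈ J, i ≠ j → i ≠ k → j ≠ k → f i + f j + f k ≤ a) :
    ∃ x y z R : ℤ, z ≤ y ∧ y ≤ x ∧ 0 ≤ z ∧ 0 ≤ R ∧ R ≤ 5 * z ∧ x + y + z ≤ a ∧
      ∑ l ∈ J, f l = x + y + z + R ∧ ∑ l ∈ J, f l ^ 2 ≤ x ^ 2 + y ^ 2 + z ^ 2 + z * R := by
  have hne : J.Nonempty := Finset.card_pos.mp (by omega)
  obtain ⟨i₁, hi₁, hm₁⟩ := Finset.exists_max_image J f hne
  have hc1 : (J.erase i₁).card = J.card - 1 := Finset.card_erase_of_mem hi₁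
  have hne1 : (J.erase i₁).Nonempty := Finset.card_pos.mp (by omega)
  obtain ⟨i₂, hi₂, hm₂⟩ := Finset.exists_max_image (J.erase i₁) f hne1
  have hc2 : ((J.erase i₁).erase i₂).card = J.card - 2 := by
    rw [Finset.card_erase_of_mem hi₂, hc1]
    omega
  have hne2 : ((J.erase i₁).erase i₂).Nonempty := Finset.card_pos.mp (by omega)
  obtain ⟨i₃, hi₃, hm₃⟩ := Finset.exists_max_image ((J.erase i₁).erase i₂) f hne2
  have hJδ : J.card ≤ δ := by simpa using Finset.card_le_univ J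
  have hc3 : ((((J.erase i₁).erase i₂).erase i₃).card : ℤ) ≤ 5 := by
    rw [Finset.card_erase_of_mem hi₃, hc2]
    have : J.card - 2 - 1 ≤ 5 := by omega
    exact_mod_cast this
  have h2J : i₂ ∈ J := Finset.mem_of_mem_erase hi₂
  have h21 : i₂ ≠ i₁ := Finset.ne_of_mem_erase hi₂
  have h3' : i₃ ∈ J.erase i₁ := Finset.mem_of_mem_erase hi₃
  have h3J : i₃ ∈ J := Finset.mem_of_mem_erase h3'
  have h32 : i₃ ≠ i₂ := Finset.ne_of_mem_erase hi₃
  have h31 : i₃ ≠ i₁ := Finset.ne_of_mem_erase h3'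
  have hrJ : ∀ l ∈ ((J.erase i₁).erase i₂).erase i₃, l ∈ J := fun l hl =>
    Finset.mem_of_mem_erase (Finset.mem_of_mem_erase (Finset.mem_of_mem_erase hl))
  refine ⟨f i₁, f i₂, f i₃, ∑ l ∈ ((J.erase i₁).erase i₂).erase i₃, f l, hm₂ i₃ h3', hm₁ i₂ h2J,
    hf i₃ h3J, ?_, ?_, ?_, ?_, ?_⟩
  · exact Finset.sum_nonneg fun l hl => hf l (hrJ l hl)
  · calc ∑ l ∈ ((J.erase i₁).erase i₂).erase i₃, f l
        ≤ ∑ _l ∈ ((J.erase i₁).erase i₂).erase i₃, f i₃ :=
          Finset.sum_le_sum fun l hl => hm₃ l (Finset.mem_of_mem_erase hl)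
      _ = ((((J.erase i₁).erase i₂).erase i₃).card : ℤ) * f i₃ := by
          rw [Finset.sum_const, nsmul_eq_mul]
      _ ≤ 5 * f i₃ := mul_le_mul_of_nonneg_right hc3 (hf i₃ h3J)
  · exact hno i₁ hi₁ i₂ h2J i₃ h3J h21.symm h31.symm h32.symm
  · rw [← Finset.add_sum_erase J f hi₁, ← Finset.add_sum_erase _ f hi₂,
      ← Finset.add_sum_erase _ f hi₃]
    ring
  · rw [← Finset.add_sum_erase J (fun l => f l ^ 2) hi₁,
      ← Finset.add_sum_erase _ (fun l => f l ^ 2) hi₂,
      ← Finset.add_sum_erase _ (fun l => f l ^ 2) hi₃]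
    have : ∑ l ∈ ((J.erase i₁).erase i₂).erase i₃, f l ^ 2 ≤
        f i₃ * ∑ l ∈ ((J.erase i₁).erase i₂).erase i₃, f l := by
      rw [Finset.mul_sum]
      refine Finset.sum_le_sum fun l hl => ?_
      have hl3 := hm₃ l (Finset.mem_of_mem_erase hl)
      have hl0 := hf l (hrJ l hl)
      nlinarith
    linarith

theorem exists_triple (hδ : δ ≤ 8) (v : DP δ) (hv : IsExc v) (J : Finset (Fin δ))
    (hJ : 3 ≤ J.card) (c' c'' : ℤ) (hc' : ∑ l ∈ Jᶜ, v l.succ = c')
    (hc'' : ∑ l ∈ Jᶜ, v l.succ ^ 2 = c'')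
    (hcc : (c' = 0 ∧ c'' = 0 ∧ 1 ≤ v 0) ∨ (c' = 1 ∧ c'' = 1 ∧ 2 ≤ v 0)) :
    ∃ i ∈ J, ∃ j ∈ J, ∃ k ∈ J, i ≠ j ∧ i ≠ k ∧ j ≠ k ∧
      v 0 < v i.succ + v j.succ + v k.succ := by
  by_contra hcon
  push Not at hcon
  have h1 : 1 ≤ v 0 := by
    rcases hcc with h | h <;> linarith [h.2.2]
  obtain ⟨hQ, hS⟩ := (isExc_iff v).mp hv
  obtain ⟨x, y, z, R, hzy, hyx, hz, hR, hR5, hxyz, hSJ, hQJ⟩ :=
    top_three hδ (fun l => v l.succ) J hJ (fun l _ => exc_coord_nonneg hδ v hv h1 l) (v 0)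
      (fun i hi j hj k hk hij hik hjk => hcon i hi j hj k hk hij hik hjk)
  have eS : ∑ l ∈ J, v l.succ + ∑ l ∈ Jᶜ, v l.succ = ∑ l : Fin δ, v l.succ :=
    Finset.sum_add_sum_compl J _
  have eQ : ∑ l ∈ J, v l.succ ^ 2 + ∑ l ∈ Jᶜ, v l.succ ^ 2 = ∑ l : Fin δ, v l.succ ^ 2 :=
    Finset.sum_add_sum_compl J _
  rw [hc', hS] at eS
  rw [hc'', hQ] at eQ
  have he : 0 ≤ v 0 - x - y - z := by linarith
  have hy0 : 0 ≤ y := le_trans hz hzy
  have p1 : 0 ≤ (x - z) * y := mul_nonneg (by linarith) hy0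
  have p2 : 0 ≤ z * (y - z) := mul_nonneg hz (by linarith)
  have p3 : 0 ≤ (v 0 - x - y - z) * (2 * x + 2 * y - z) := mul_nonneg he (by linarith)
  have p4 : 0 ≤ (v 0 - x - y - z) ^ 2 := sq_nonneg _
  rcases hcc with ⟨rfl, rfl, _⟩ | ⟨rfl, rfl, h2⟩
  · have hR' : R = 3 * v 0 - 1 - x - y - z := by linarith
    subst hR'
    nlinarith
  · have hR' : R = 3 * v 0 - 2 - x - y - z := by linarith
    subst hR'
    have key : 2 * ((x - z) * y) + 2 * (z * (y - z)) +
        (v 0 - x - y - z) * (2 * x + 2 * y - z) + (v 0 - x - y - z) ^ 2 + 2 * z ≤ 0 := by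
      nlinarith
    have hz0 : z = 0 := by linarith
    subst hz0
    have he0 : v 0 - x - y - 0 = 0 := by
      have : (v 0 - x - y - 0) ^ 2 ≤ 0 := by linarith
      exact pow_eq_zero_iff (two_ne_zero) |>.mp (le_antisymm this (sq_nonneg _))
    have hy00 : y = 0 := by
      by_contra hne
      have hy1 : 1 ≤ y := by omega
      have : 0 < (x - 0) * y := mul_pos (by linarith) (by linarith)
      linarith
    linarith

theorem descent (hδ : δ ≤ 8) (J : Finset (Fin δ)) (hJ : 3 ≤ J.card) (c' c'' : ℤ)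
    (hcc : (c' = 0 ∧ c'' = 0) ∨ (c' = 1 ∧ c'' = 1)) :
    ∀ n : ℕ, ∀ v : DP δ, IsExc v → v 0 = n → ∑ l ∈ Jᶜ, v l.succ = c' →
      ∑ l ∈ Jᶜ, v l.succ ^ 2 = c'' → ∃ g, Adm J g ∧ g v 0 = c' := by
  intro n
  induction n using Nat.strong_induction_on with
  | _ n ih =>
    intro v hv hn hc' hc''
    by_cases hterm : v 0 = c'
    · exact ⟨LinearEquiv.refl ℤ _, adm_id J, by simpa using hterm⟩
    · have h0 := exc_nonneg hδ v hv
      have hgt : c' + 1 ≤ v 0 := by
        rcases hcc with ⟨rfl, rfl⟩ | ⟨rfl, rfl⟩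
        · omega
        · have hne0 : v 0 ≠ 0 := by
            intro h00
            obtain ⟨i, rfl⟩ := exc_zero v hv h00
            have : ∑ l ∈ Jᶜ, (Pi.single i.succ (-1) : DP δ) l.succ ≤ 0 :=
              Finset.sum_nonpos fun l _ => by
                simp only [Pi.single_apply]
                split_ifs <;> norm_num
            linarith
          omega
      obtain ⟨i, hi, j, hj, k, hk, hij, hik, hjk, hlt⟩ :=
        exists_triple hδ v hv J hJ c' c'' hc' hc'' (by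
          rcases hcc with ⟨rfl, rfl⟩ | ⟨rfl, rfl⟩
          · exact Or.inl ⟨rfl, rfl, by linarith⟩
          · exact Or.inr ⟨rfl, rfl, by linarith⟩)
      have hγ := form_gam_gam i j k hij hik hjk
      have hs : Adm J (refl (gam i j k) hγ) := adm_refl_gam i j k hi hj hk hγ
      have hv' : IsExc (refl (gam i j k) hγ v) := isWeyl_isExc hs.1 hv
      have h0' := exc_nonneg hδ _ hv'
      have hlt' : refl (gam i j k) hγ v 0 < v 0 := by
        rw [refl_gam_zero]
        linarith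
      have hc1 : ∑ l ∈ Jᶜ, (refl (gam i j k) hγ v) l.succ = c' := by
        rw [← hc']
        exact Finset.sum_congr rfl fun l hl => adm_coord hs v l (Finset.mem_compl.mp hl)
      have hc2 : ∑ l ∈ Jᶜ, (refl (gam i j k) hγ v) l.succ ^ 2 = c'' := by
        rw [← hc'']
        exact Finset.sum_congr rfl fun l hl => by
          rw [adm_coord hs v l (Finset.mem_compl.mp hl)]
      obtain ⟨g, hg, hgv⟩ := ih (refl (gam i j k) hγ v 0).toNat (by omega)
        (refl (gam i j k) hγ v) hv' (Int.toNat_of_nonneg h0').symm hc1 hc2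
      exact ⟨(refl (gam i j k) hγ).trans g, adm_trans hs hg, hgv⟩

theorem refl_rho_swap (i j : Fin δ) (hij : i ≠ j) (v : DP δ) :
    refl (rho i j) (form_rho_rho i j hij) v 0 = v 0 ∧
    refl (rho i j) (form_rho_rho i j hij) v i.succ = v j.succ ∧
    refl (rho i j) (form_rho_rho i j hij) v j.succ = v i.succ ∧
    ∀ l, l ≠ i → l ≠ j → refl (rho i j) (form_rho_rho i j hij) v l.succ = v l.succ := by
  refine ⟨refl_rho_zero i j _ v, ?_, ?_, fun l hli hlj => ?_⟩
  · rw [refl_rho_succ]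
    simp [hij]
  · rw [refl_rho_succ]
    simp [hij.symm]
  · rw [refl_rho_succ]
    simp [hli, hlj]

/-- Normal form, terminal height `0`: the class is moved to `e_t`. -/
theorem normal_form_zero (hδ : δ ≤ 8) (J : Finset (Fin δ)) (hJ : 3 ≤ J.card) (t : Fin δ)
    (ht : t ∈ J) (v : DP δ) (hv : IsExc v) (hc' : ∑ l ∈ Jᶜ, v l.succ = 0)
    (hc'' : ∑ l ∈ Jᶜ, v l.succ ^ 2 = 0) :
    ∃ g, Adm J g ∧ g v 0 = 0 ∧ g v t.succ = -1 ∧ ∀ l ∈ J, l ≠ t → g v l.succ = 0 := by
  obtain ⟨g, hg, hgv⟩ := descent hδ J hJ 0 0 (Or.inl ⟨rfl, rfl⟩) (v 0).toNat v hv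
    (Int.toNat_of_nonneg (exc_nonneg hδ v hv)).symm hc' hc''
  obtain ⟨i, hi⟩ := exc_zero (g v) (isWeyl_isExc hg.1 hv) hgv
  have hiJ : i ∈ J := by
    by_contra hiJ
    have h1 : ∑ l ∈ Jᶜ, (g v) l.succ ^ 2 = 0 := by
      rw [← hc'']
      exact Finset.sum_congr rfl fun l hl => by rw [adm_coord hg v l (Finset.mem_compl.mp hl)]
    have h2 := (Finset.sum_eq_zero_iff_of_nonneg (fun l _ => sq_nonneg ((g v) l.succ))).mp h1 i
      (Finset.mem_compl.mpr hiJ)
    rw [hi] at h2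
    simp at h2
  by_cases hit : i = t
  · subst hit
    refine ⟨g, hg, hgv, ?_, fun l _ hl => ?_⟩
    · rw [hi]
      simp
    · rw [hi]
      simp [Pi.single_apply, Fin.succ_inj, hl]
  · obtain ⟨s0, si, st, sl⟩ := refl_rho_swap i t hit (g v)
    refine ⟨g.trans (refl (rho i t) (form_rho_rho i t hit)),
      adm_trans hg (adm_refl_rho i t hiJ ht _), ?_, ?_, fun l _ hl => ?_⟩
    · rw [LinearEquiv.trans_apply, s0, hgv]
    · rw [LinearEquiv.trans_apply, st, hi]
      simp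
    · rw [LinearEquiv.trans_apply]
      by_cases hli : l = i
      · subst hli
        rw [si, hi]
        simp [Pi.single_apply, Fin.succ_inj, Ne.symm hit]
      · rw [sl l hli hl, hi]
        simp [Pi.single_apply, Fin.succ_inj, hli]

theorem exc_one_form (hδ : δ ≤ 8) (v : DP δ) (hv : IsExc v) (h1 : v 0 = 1) (J : Finset (Fin δ))
    (hc' : ∑ l ∈ Jᶜ, v l.succ = 1) (hc'' : ∑ l ∈ Jᶜ, v l.succ ^ 2 = 1) :
    ∃ i ∈ J, v i.succ = 1 ∧ ∀ l ∈ J, l ≠ i → v l.succ = 0 := by
  obtain ⟨hQ, hS⟩ := (isExc_iff v).mp hv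
  have eS : ∑ l ∈ J, v l.succ + ∑ l ∈ Jᶜ, v l.succ = ∑ l : Fin δ, v l.succ :=
    Finset.sum_add_sum_compl J _
  have eQ : ∑ l ∈ J, v l.succ ^ 2 + ∑ l ∈ Jᶜ, v l.succ ^ 2 = ∑ l : Fin δ, v l.succ ^ 2 :=
    Finset.sum_add_sum_compl J _
  rw [hc', hS, h1] at eS
  rw [hc'', hQ, h1] at eQ
  have hSJ : ∑ l ∈ J, v l.succ = 1 := by linarith
  have hQJ : ∑ l ∈ J, v l.succ ^ 2 = 1 := by linarith
  have hnn : ∀ l : Fin δ, 0 ≤ v l.succ := fun l =>
    exc_coord_nonneg hδ v hv (by rw [h1]) l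
  have hterm : ∀ l ∈ J, 0 ≤ v l.succ ^ 2 - v l.succ := fun l _ => by
    nlinarith [sq_nonneg (2 * v l.succ - 1)]
  have hsum : ∑ l ∈ J, (v l.succ ^ 2 - v l.succ) = 0 := by
    rw [Finset.sum_sub_distrib, hQJ, hSJ]
    norm_num
  have hz := (Finset.sum_eq_zero_iff_of_nonneg hterm).mp hsum
  have hex : ∃ i ∈ J, v i.succ ≠ 0 := by
    by_contra hcon
    push Not at hcon
    rw [Finset.sum_eq_zero hcon] at hSJ
    norm_num at hSJ
  obtain ⟨i, hiJ, hi0⟩ := hex
  have hi1 : v i.succ = 1 := by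
    have h2 := hz i hiJ
    have h3 : v i.succ * (v i.succ - 1) = 0 := by linarith [sq (v i.succ)]
    rcases mul_eq_zero.mp h3 with h | h
    · exact absurd h hi0
    · linarith
  refine ⟨i, hiJ, hi1, ?_⟩
  have hrest : ∑ l ∈ J.erase i, v l.succ = 0 := by
    have := Finset.add_sum_erase J (fun l : Fin δ => v l.succ) hiJ
    rw [hSJ, hi1] at this
    linarith
  have := (Finset.sum_eq_zero_iff_of_nonneg (fun l _ => hnn l)).mp hrest
  exact fun l hl hli => this l (Finset.mem_erase.mpr ⟨hli, hl⟩)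

/-- Normal form, terminal height `1`: the class is moved to `ℓ - e_t - (frozen part)`. -/
theorem normal_form_one (hδ : δ ≤ 8) (J : Finset (Fin δ)) (hJ : 3 ≤ J.card) (t : Fin δ)
    (ht : t ∈ J) (v : DP δ) (hv : IsExc v) (hc' : ∑ l ∈ Jᶜ, v l.succ = 1)
    (hc'' : ∑ l ∈ Jᶜ, v l.succ ^ 2 = 1) :
    ∃ g, Adm J g ∧ g v 0 = 1 ∧ g v t.succ = 1 ∧ ∀ l ∈ J, l ≠ t → g v l.succ = 0 := by
  obtain ⟨g, hg, hgv⟩ := descent hδ J hJ 1 1 (Or.inr ⟨rfl, rfl⟩) (v 0).toNat v hv
    (Int.toNat_of_nonneg (exc_nonneg hδ v hv)).symm hc' hc''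
  have h1 : ∑ l ∈ Jᶜ, (g v) l.succ = 1 := by
    rw [← hc']
    exact Finset.sum_congr rfl fun l hl => adm_coord hg v l (Finset.mem_compl.mp hl)
  have h2 : ∑ l ∈ Jᶜ, (g v) l.succ ^ 2 = 1 := by
    rw [← hc'']
    exact Finset.sum_congr rfl fun l hl => by rw [adm_coord hg v l (Finset.mem_compl.mp hl)]
  obtain ⟨i, hiJ, hi1, hi0⟩ := exc_one_form hδ (g v) (isWeyl_isExc hg.1 hv) hgv J h1 h2
  by_cases hit : i = t
  · subst hit
    exact ⟨g, hg, hgv, hi1, hi0⟩
  · obtain ⟨s0, si, st, sl⟩ := refl_rho_swap i t hit (g v)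
    refine ⟨g.trans (refl (rho i t) (form_rho_rho i t hit)),
      adm_trans hg (adm_refl_rho i t hiJ ht _), ?_, ?_, fun l hlJ hl => ?_⟩
    · rw [LinearEquiv.trans_apply, s0, hgv]
    · rw [LinearEquiv.trans_apply, st, hi1]
    · rw [LinearEquiv.trans_apply]
      by_cases hli : l = i
      · subst hli
        rw [si]
        exact hi0 t ht (Ne.symm hit)
      · rw [sl l hli hl]
        exact hi0 l hlJ hli

/-! ### Negative definiteness of the orthogonal complement of the canonical class -/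

theorem form_self_nonpos_of_orth (hδ : δ ≤ 8) (v : DP δ) (hK : form (canon δ) v = 0) :
    form v v ≤ 0 ∧ (form v v = 0 → v = 0) := by
  rw [form_canon] at hK
  have cs := sq_sum_le_card_mul_sum_sq (s := (Finset.univ : Finset (Fin δ)))
    (f := fun i => v i.succ)
  rw [Finset.card_univ, Fintype.card_fin] at cs
  have hδ' : (δ : ℤ) ≤ 8 := by exact_mod_cast hδ
  have hQnn : 0 ≤ ∑ i : Fin δ, v i.succ ^ 2 := Finset.sum_nonneg fun i _ => sq_nonneg _
  have hS : ∑ i : Fin δ, v i.succ = 3 * v 0 := by linarith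
  rw [hS] at cs
  have hform : form v v = v 0 ^ 2 - ∑ i : Fin δ, v i.succ ^ 2 := by
    simp only [form, pow_two]
  have h9 : 9 * form v v ≤ -∑ i : Fin δ, v i.succ ^ 2 := by
    rw [hform]
    nlinarith [mul_nonneg (sub_nonneg.mpr hδ') hQnn]
  refine ⟨by linarith, fun h0 => ?_⟩
  rw [h0] at h9
  have hQ0 : ∑ i : Fin δ, v i.succ ^ 2 = 0 := by linarith
  have hz := (Finset.sum_eq_zero_iff_of_nonneg (fun i _ => sq_nonneg (v i.succ))).mp hQ0
  have hb : ∀ i : Fin δ, v i.succ = 0 := fun i =>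
    pow_eq_zero_iff (two_ne_zero) |>.mp (hz i (Finset.mem_univ i))
  have ha : v 0 = 0 := by
    rw [hform, hQ0] at h0
    have : v 0 ^ 2 = 0 := by linarith
    exact pow_eq_zero_iff (two_ne_zero) |>.mp this
  funext m
  refine Fin.cases ?_ (fun j => ?_) m
  · exact ha
  · exact hb j

end Groth.Agent.Lib.Helper16E8
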