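import Mathlib
import Groth.Prelude.Def_W4c3severiratdpLat
import Groth.Agent.Lib.Helper16E8

set_option autoImplicit false
set_option linter.style.haveILetI false
set_option linter.unusedSectionVars false

/-!
Conic classes in the del Pezzo lattices: transitivity of the Weyl group, descent for pairs of
conic classes relative to the stabilizer of `ℓ - e_t`, and classification of terminal forms.
-/

namespace Groth.Agent.Lib.Helper16Conic

open W4c3severiratdp Groth.Agent.Lib.Helper16E8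

variable {δ : ℕ}

/-! ### Basics on conic classes -/

theorem isConic_iff (v : DP δ) : IsConic v ↔
    (∑ i : Fin δ, v i.succ ^ 2 = v 0 ^ 2) ∧ (∑ i : Fin δ, v i.succ = 3 * v 0 - 2) := by
  unfold IsConic
  rw [form_canon]
  simp only [form, pow_two]
  constructor
  · rintro ⟨h1, h2⟩
    exact ⟨by linarith, by linarith⟩
  · rintro ⟨h1, h2⟩
    exact ⟨by linarith, by linarith⟩

theorem isWeyl_isConic {g : DP δ ≃ₗ[ℤ] DP δ} (hg : IsWeyl g) {v : DP δ} (hv : IsConic v) :
    IsConic (g v) :=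
  ⟨by rw [hg.1]; exact hv.1, by rw [isWeyl_form_canon hg]; exact hv.2⟩

theorem conic_pos (hδ : δ ≤ 8) (v : DP δ) (hv : IsConic v) : 1 ≤ v 0 := by
  obtain ⟨hQ, hS⟩ := (isConic_iff v).mp hv
  have cs := sq_sum_le_card_mul_sum_sq (s := (Finset.univ : Finset (Fin δ)))
    (f := fun i => v i.succ)
  rw [hS, hQ, Finset.card_univ, Fintype.card_fin] at cs
  have hδ' : (δ : ℤ) ≤ 8 := by exact_mod_cast hδ
  by_contra hneg
  push Not at hneg
  have h0 : v 0 ≤ 0 := by omega
  nlinarith [mul_nonneg (sub_nonneg.mpr hδ') (sq_nonneg (v 0))]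

theorem conic_coord_nonneg (hδ : δ ≤ 8) (v : DP δ) (hv : IsConic v) (m : Fin δ) :
    0 ≤ v m.succ := by
  obtain ⟨hQ, hS⟩ := (isConic_iff v).mp hv
  have h1 := conic_pos hδ v hv
  by_contra hneg
  push Not at hneg
  have cs := sq_sum_le_card_mul_sum_sq (s := Finset.univ.erase m) (f := fun i : Fin δ => v i.succ)
  have e1 := Finset.add_sum_erase Finset.univ (fun j : Fin δ => v j.succ) (Finset.mem_univ m)
  have e2 := Finset.add_sum_erase Finset.univ (fun j : Fin δ => v j.succ ^ 2) (Finset.mem_univ m)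
  rw [hS] at e1
  rw [hQ] at e2
  have hcard : (((Finset.univ.erase m : Finset (Fin δ)).card : ℕ) : ℤ) ≤ 7 := by
    rw [Finset.card_erase_of_mem (Finset.mem_univ m), Finset.card_univ, Fintype.card_fin]
    have : δ - 1 ≤ 7 := by omega
    exact_mod_cast this
  have hS' : ∑ i ∈ Finset.univ.erase m, v i.succ = 3 * v 0 - 2 - v m.succ := by linarith
  have hQ' : ∑ i ∈ Finset.univ.erase m, v i.succ ^ 2 = v 0 ^ 2 - v m.succ ^ 2 := by linarith
  have hQnn : 0 ≤ v 0 ^ 2 - v m.succ ^ 2 := by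
    rw [← hQ']
    exact Finset.sum_nonneg fun i _ => sq_nonneg _
  rw [hS', hQ'] at cs
  have ht : 0 ≤ -v m.succ - 1 := by linarith
  nlinarith [mul_nonneg (sub_nonneg.mpr hcard) hQnn, mul_nonneg (sub_nonneg.mpr h1) ht,
    sq_nonneg (v m.succ + 1), sq_nonneg (v 0 - 1), mul_nonneg ht ht, sq_nonneg (2 * v 0 - 3)]

/-! ### Noether inequality for conic classes and transitivity -/

theorem conic_exists_triple (hδ : δ ≤ 8) (v : DP δ) (hv : IsConic v) (h2 : 2 ≤ v 0) :
    ∃ i j k : Fin δ, i ≠ j ∧ i ≠ k ∧ j ≠ k ∧ v 0 < v i.succ + v j.succ + v k.succ := by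
  obtain ⟨hQ, hS⟩ := (isConic_iff v).mp hv
  have h3 : 3 ≤ δ := by
    by_contra h3
    push Not at h3
    have cs := sq_sum_le_card_mul_sum_sq (s := (Finset.univ : Finset (Fin δ)))
      (f := fun i => v i.succ)
    rw [hS, hQ, Finset.card_univ, Fintype.card_fin] at cs
    have hδ' : (δ : ℤ) ≤ 2 := by exact_mod_cast (by omega : δ ≤ 2)
    nlinarith [mul_nonneg (sub_nonneg.mpr hδ') (sq_nonneg (v 0)),
      mul_nonneg (sub_nonneg.mpr h2) (sub_nonneg.mpr h2)]
  by_contra hcon
  push Not at hcon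
  obtain ⟨x, y, z, R, hzy, hyx, hz, hR, hR5, hxyz, hSJ, hQJ⟩ :=
    top_three hδ (fun l => v l.succ) Finset.univ
      (by rw [Finset.card_univ, Fintype.card_fin]; exact h3)
      (fun l _ => conic_coord_nonneg hδ v hv l) (v 0)
      (fun i _ j _ k _ hij hik hjk => hcon i j k hij hik hjk)
  have hSJ' : x + y + z + R = 3 * v 0 - 2 := by
    rw [← hS]
    exact hSJ.symm
  have hQJ' : v 0 ^ 2 ≤ x ^ 2 + y ^ 2 + z ^ 2 + z * R := by
    rw [← hQ]
    exact hQJ
  have hR' : R = 3 * v 0 - 2 - x - y - z := by linarith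
  subst hR'
  have hy0 : 0 ≤ y := le_trans hz hzy
  have p1 : 0 ≤ y * (x - y) := mul_nonneg hy0 (by linarith)
  have p2 : 0 ≤ (x - z) * (v 0 - z - x - y) := mul_nonneg (by linarith) (by linarith)
  have p3 : 0 ≤ (v 0 - z) * (v 0 - 2 * z - x) := mul_nonneg (by linarith) (by linarith)
  have p4 : 0 ≤ z * (v 0 + 2 - 3 * z) := mul_nonneg hz (by linarith)
  have key : z * (v 0 + 2 - 3 * z) + y * (x - y) + (x - z) * (v 0 - z - x - y) +
      (v 0 - z) * (v 0 - 2 * z - x) ≤ 0 := by
    nlinarith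
  have hz0 : z = 0 := by
    by_contra hne
    have hz1 : 1 ≤ z := by omega
    have : 0 < z * (v 0 + 2 - 3 * z) := mul_pos (by linarith) (by linarith)
    linarith
  subst hz0
  linarith

theorem conic_one (v : DP δ) (hv : IsConic v) (h1 : v 0 = 1) :
    ∃ i : Fin δ, v = Pi.single 0 1 + Pi.single i.succ 1 := by
  obtain ⟨hQ, hS⟩ := (isConic_iff v).mp hv
  rw [h1] at hQ hS
  have hterm : ∀ l ∈ (Finset.univ : Finset (Fin δ)), 0 ≤ v l.succ ^ 2 - v l.succ := fun l _ => by
    nlinarith [sq_nonneg (2 * v l.succ - 1)]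
  have hsum : ∑ l : Fin δ, (v l.succ ^ 2 - v l.succ) = 0 := by
    rw [Finset.sum_sub_distrib, hQ, hS]
    norm_num
  have hz := (Finset.sum_eq_zero_iff_of_nonneg hterm).mp hsum
  have hex : ∃ i : Fin δ, v i.succ ≠ 0 := by
    by_contra hcon
    push Not at hcon
    rw [Finset.sum_eq_zero (fun l _ => hcon l)] at hS
    norm_num at hS
  obtain ⟨i, hi0⟩ := hex
  have hi1 : v i.succ = 1 := by
    have h2 := hz i (Finset.mem_univ i)
    have h3 : v i.succ * (v i.succ - 1) = 0 := by linarith [sq (v i.succ)]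
    rcases mul_eq_zero.mp h3 with h | h
    · exact absurd h hi0
    · linarith
  refine ⟨i, ?_⟩
  have hrest : ∑ l ∈ Finset.univ.erase i, v l.succ ^ 2 = 0 := by
    have := Finset.add_sum_erase Finset.univ (fun l : Fin δ => v l.succ ^ 2) (Finset.mem_univ i)
    rw [hQ, hi1] at this
    linarith
  have hz' := (Finset.sum_eq_zero_iff_of_nonneg (fun l _ => sq_nonneg (v l.succ))).mp hrest
  funext m
  refine Fin.cases ?_ (fun j => ?_) m
  · rw [h1]
    simp [Pi.single_apply, (Fin.succ_ne_zero _).symm]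
  · by_cases hji : j = i
    · subst hji
      rw [hi1]
      simp [Pi.single_apply, Fin.succ_ne_zero]
    · have := hz' j (Finset.mem_erase.mpr ⟨hji, Finset.mem_univ j⟩)
      rw [pow_eq_zero_iff two_ne_zero] at this
      rw [this]
      simp [Pi.single_apply, Fin.succ_inj, hji, Fin.succ_ne_zero]

/-- The conic class `ℓ - e_t`. -/
def qVec (t : Fin δ) : DP δ := Pi.single 0 1 + Pi.single t.succ 1

theorem qVec_zero (t : Fin δ) : qVec t 0 = 1 := by
  simp [qVec, Pi.single_apply, (Fin.succ_ne_zero _).symm]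

theorem qVec_succ (t l : Fin δ) : qVec t l.succ = if l = t then 1 else 0 := by
  simp [qVec, Pi.single_apply, Fin.succ_inj, Fin.succ_ne_zero]

theorem form_qVec_right (v : DP δ) (t : Fin δ) : form v (qVec t) = v 0 - v t.succ := by
  simp only [qVec, form_add_right, form_single_zero_right, form_single_succ_right]
  ring

theorem conic_descent (hδ : δ ≤ 8) : ∀ n : ℕ, ∀ v : DP δ, IsConic v → v 0 = n →
    ∃ g : DP δ ≃ₗ[ℤ] DP δ, IsWeyl g ∧ g v 0 = 1 := by
  intro n
  induction n using Nat.strong_induction_on with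
  | _ n ih =>
    intro v hv hn
    have h1 := conic_pos hδ v hv
    by_cases hterm : v 0 = 1
    · exact ⟨LinearEquiv.refl ℤ _, isWeyl_id, by simpa using hterm⟩
    · have h2 : 2 ≤ v 0 := by omega
      obtain ⟨i, j, k, hij, hik, hjk, hlt⟩ := conic_exists_triple hδ v hv h2
      have hγ := form_gam_gam i j k hij hik hjk
      have hs : IsWeyl (refl (gam i j k) hγ) := isWeyl_refl _ hγ (form_canon_gam i j k)
      have hv' : IsConic (refl (gam i j k) hγ v) := isWeyl_isConic hs hv
      have h1' := conic_pos hδ _ hv'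
      have hlt' : refl (gam i j k) hγ v 0 < v 0 := by
        rw [refl_gam_zero]
        linarith
      obtain ⟨g, hg, hgv⟩ := ih (refl (gam i j k) hγ v 0).toNat (by omega)
        (refl (gam i j k) hγ v) hv' (Int.toNat_of_nonneg (by linarith)).symm
      exact ⟨(refl (gam i j k) hγ).trans g, isWeyl_trans hs hg, hgv⟩

theorem conic_to_qVec (hδ : δ ≤ 8) (t : Fin δ) (v : DP δ) (hv : IsConic v) :
    ∃ g : DP δ ≃ₗ[ℤ] DP δ, IsWeyl g ∧ g v = qVec t := by
  obtain ⟨g, hg, hgv⟩ := conic_descent hδ (v 0).toNat v hv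
    (Int.toNat_of_nonneg (by linarith [conic_pos hδ v hv])).symm
  obtain ⟨i, hi⟩ := conic_one (g v) (isWeyl_isConic hg hv) hgv
  by_cases hit : i = t
  · subst hit
    exact ⟨g, hg, hi⟩
  · refine ⟨g.trans (refl (rho i t) (form_rho_rho i t hit)),
      isWeyl_trans hg (isWeyl_refl _ _ (form_canon_rho i t)), ?_⟩
    rw [LinearEquiv.trans_apply, hi, refl_apply, form_rho_right]
    have e1 : (Pi.single 0 1 + Pi.single i.succ 1 : DP δ) t.succ = 0 := by
      simp [Pi.single_apply, Fin.succ_inj, Ne.symm hit, Fin.succ_ne_zero]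
    have e2 : (Pi.single 0 1 + Pi.single i.succ 1 : DP δ) i.succ = 1 := by
      simp [Pi.single_apply, Fin.succ_ne_zero]
    rw [e1, e2]
    unfold rho qVec
    simp only [zero_sub, neg_smul, one_smul]
    abel

/-! ### Permutation Weyl elements -/

/-- The permutation of `Fin (δ+1)` fixing `0` and acting by `σ` on the successors. -/
def extPerm (σ : Equiv.Perm (Fin δ)) : Equiv.Perm (Fin (δ + 1)) :=
  (finSuccEquiv δ).trans ((Equiv.optionCongr σ).trans (finSuccEquiv δ).symm)

theorem extPerm_zero (σ : Equiv.Perm (Fin δ)) : extPerm σ 0 = 0 := by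
  simp [extPerm]

theorem extPerm_succ (σ : Equiv.Perm (Fin δ)) (i : Fin δ) : extPerm σ i.succ = (σ i).succ := by
  simp [extPerm]

/-- The lattice automorphism permuting the exceptional coordinates. -/
def permEquiv (σ : Equiv.Perm (Fin δ)) : DP δ ≃ₗ[ℤ] DP δ :=
  LinearEquiv.funCongrLeft ℤ ℤ (extPerm σ)

theorem permEquiv_apply (σ : Equiv.Perm (Fin δ)) (v : DP δ) (k : Fin (δ + 1)) :
    permEquiv σ v k = v (extPerm σ k) := rfl

theorem permEquiv_zero (σ : Equiv.Perm (Fin δ)) (v : DP δ) : permEquiv σ v 0 = v 0 := by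
  rw [permEquiv_apply, extPerm_zero]

theorem permEquiv_succ (σ : Equiv.Perm (Fin δ)) (v : DP δ) (i : Fin δ) :
    permEquiv σ v i.succ = v (σ i).succ := by
  rw [permEquiv_apply, extPerm_succ]

theorem isWeyl_permEquiv (σ : Equiv.Perm (Fin δ)) : IsWeyl (permEquiv σ) := by
  constructor
  · intro v w
    simp only [form, permEquiv_zero, permEquiv_succ]
    congr 1
    exact Equiv.sum_comp σ (fun i => v i.succ * w i.succ)
  · funext m
    refine Fin.cases ?_ (fun j => ?_) m
    · rw [permEquiv_zero]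
    · rw [permEquiv_succ, canon_succ, canon_succ]

theorem permEquiv_qVec (σ : Equiv.Perm (Fin δ)) (t : Fin δ) (hσ : σ t = t) :
    permEquiv σ (qVec t) = qVec t := by
  funext k
  refine Fin.cases ?_ (fun a => ?_) k
  · rw [permEquiv_zero]
  · rw [permEquiv_succ, qVec_succ, qVec_succ]
    have : σ a = t ↔ a = t := by
      constructor
      · intro h
        exact σ.injective (h.trans hσ.symm)
      · intro h
        rw [h, hσ]
    simp only [this]

theorem exists_perm_of_card_fiber_eq {α β : Type*} [Fintype α] [DecidableEq α] [DecidableEq β]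
    (f g : α → β)
    (h : ∀ b, (Finset.univ.filter (fun a => f a = b)).card =
      (Finset.univ.filter (fun a => g a = b)).card) :
    ∃ σ : Equiv.Perm α, ∀ a, g (σ a) = f a := by
  have e : ∀ b, {a // f a = b} ≃ {a // g a = b} := fun b =>
    Fintype.equivOfCardEq (by rw [Fintype.card_subtype, Fintype.card_subtype]; exact h b)
  refine ⟨(Equiv.sigmaFiberEquiv f).symm.trans
    ((Equiv.sigmaCongrRight e).trans (Equiv.sigmaFiberEquiv g)), fun a => ?_⟩
  exact ((e (f a)) ⟨a, rfl⟩).2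

/-! ### Descent for pairs -/

theorem refl_gam_qVec (i j t : Fin δ) (hi : i ≠ t) (hj : j ≠ t)
    (h : form (gam i j t) (gam i j t) = -2) : refl (gam i j t) h (qVec t) = qVec t := by
  rw [refl_apply, form_gam_right, qVec_zero, qVec_succ, qVec_succ, qVec_succ]
  simp [hi, hj]

theorem pair_descent (hδ : δ ≤ 8) (t : Fin δ) : ∀ n : ℕ, ∀ v : DP δ, IsConic v → v 0 = n →
    ∃ g : DP δ ≃ₗ[ℤ] DP δ, IsWeyl g ∧ g (qVec t) = qVec t ∧
      ∀ i j : Fin δ, i ≠ t → j ≠ t → i ≠ j → g v i.succ + g v j.succ ≤ form v (qVec t) := by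
  intro n
  induction n using Nat.strong_induction_on with
  | _ n ih =>
    intro v hv hn
    by_cases hterm : ∀ i j : Fin δ, i ≠ t → j ≠ t → i ≠ j →
        v i.succ + v j.succ ≤ form v (qVec t)
    · exact ⟨LinearEquiv.refl ℤ _, isWeyl_id, rfl, hterm⟩
    · push Not at hterm
      obtain ⟨i, j, hi, hj, hij, hlt⟩ := hterm
      have hγ := form_gam_gam i j t hij hi hj
      have hs : IsWeyl (refl (gam i j t) hγ) := isWeyl_refl _ hγ (form_canon_gam i j t)
      have hq : refl (gam i j t) hγ (qVec t) = qVec t := refl_gam_qVec i j t hi hj hγ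
      have hv' := isWeyl_isConic hs hv
      have h1' := conic_pos hδ _ hv'
      have hlt' : refl (gam i j t) hγ v 0 < v 0 := by
        rw [refl_gam_zero]
        rw [form_qVec_right] at hlt
        linarith
      obtain ⟨g, hg, hgq, hgt⟩ := ih (refl (gam i j t) hγ v 0).toNat (by omega)
        (refl (gam i j t) hγ v) hv' (Int.toNat_of_nonneg (by linarith)).symm
      have e : form (refl (gam i j t) hγ v) (qVec t) = form v (qVec t) := by
        calc form (refl (gam i j t) hγ v) (qVec t)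
            = form (refl (gam i j t) hγ v) (refl (gam i j t) hγ (qVec t)) := by rw [hq]
          _ = form v (qVec t) := hs.1 _ _
      refine ⟨(refl (gam i j t) hγ).trans g, isWeyl_trans hs hg, ?_, ?_⟩
      · rw [LinearEquiv.trans_apply, hq, hgq]
      · intro i' j' hi' hj' hij'
        have := hgt i' j' hi' hj' hij'
        rw [LinearEquiv.trans_apply, ← e]
        exact this

/-! ### Sums over the free coordinates -/

theorem card_erase_cast (t : Fin δ) :
    (((Finset.univ.erase t : Finset (Fin δ)).card : ℕ) : ℤ) = (δ : ℤ) - 1 := by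
  rw [Finset.card_erase_of_mem (Finset.mem_univ t), Finset.card_univ, Fintype.card_fin]
  have : 1 ≤ δ := by
    have := t.2
    omega
  rw [Nat.cast_sub this]
  simp

theorem terminal_sq_sum (t : Fin δ) (v : DP δ) (hv : IsConic v) (m : ℤ)
    (hm : form v (qVec t) = m) :
    ∑ l ∈ Finset.univ.erase t, (m - 2 * v l.succ) ^ 2 = 8 * m - (9 - (δ : ℤ)) * m ^ 2 := by
  obtain ⟨hQ, hS⟩ := (isConic_iff v).mp hv
  rw [form_qVec_right] at hm
  have e1 := Finset.add_sum_erase Finset.univ (fun j : Fin δ => v j.succ) (Finset.mem_univ t)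
  have e2 := Finset.add_sum_erase Finset.univ (fun j : Fin δ => v j.succ ^ 2) (Finset.mem_univ t)
  rw [hS] at e1
  rw [hQ] at e2
  have hS' : ∑ i ∈ Finset.univ.erase t, v i.succ = 3 * v 0 - 2 - v t.succ := by linarith
  have hQ' : ∑ i ∈ Finset.univ.erase t, v i.succ ^ 2 = v 0 ^ 2 - v t.succ ^ 2 := by linarith
  calc ∑ l ∈ Finset.univ.erase t, (m - 2 * v l.succ) ^ 2
      = ∑ l ∈ Finset.univ.erase t, (m ^ 2 - 4 * m * v l.succ + 4 * v l.succ ^ 2) :=
        Finset.sum_congr rfl fun l _ => by ring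
    _ = ((δ : ℤ) - 1) * m ^ 2 - 4 * m * (3 * v 0 - 2 - v t.succ) +
          4 * (v 0 ^ 2 - v t.succ ^ 2) := by
        rw [Finset.sum_add_distrib, Finset.sum_sub_distrib, Finset.sum_const, ← Finset.mul_sum,
          ← Finset.mul_sum, nsmul_eq_mul, card_erase_cast, hS', hQ']
    _ = 8 * m - (9 - (δ : ℤ)) * m ^ 2 := by
        have : v t.succ = v 0 - m := by linarith
        rw [this]
        ring

theorem terminal_lin_sum (t : Fin δ) (v : DP δ) (hv : IsConic v) (m : ℤ)
    (hm : form v (qVec t) = m) :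
    ∑ l ∈ Finset.univ.erase t, (m - 2 * v l.succ) = ((δ : ℤ) - 3) * m - 4 * v 0 + 4 := by
  obtain ⟨hQ, hS⟩ := (isConic_iff v).mp hv
  rw [form_qVec_right] at hm
  have e1 := Finset.add_sum_erase Finset.univ (fun j : Fin δ => v j.succ) (Finset.mem_univ t)
  rw [hS] at e1
  have hS' : ∑ i ∈ Finset.univ.erase t, v i.succ = 3 * v 0 - 2 - v t.succ := by linarith
  rw [Finset.sum_sub_distrib, Finset.sum_const, ← Finset.mul_sum, nsmul_eq_mul, card_erase_cast,
    hS']
  have : v t.succ = v 0 - m := by linarith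
  rw [this]
  ring

/-! ### Counting -/

theorem sum_eq_count {ι : Type*} (J : Finset ι) (y : ι → ℤ) (V : Finset ℤ)
    (hV : ∀ l ∈ J, y l ∈ V) (F : ℤ → ℤ) :
    ∑ l ∈ J, F (y l) = ∑ c ∈ V, ((J.filter (fun l => y l = c)).card : ℤ) * F c := by
  rw [← Finset.sum_fiberwise_of_maps_to hV (fun l => F (y l))]
  refine Finset.sum_congr rfl fun c _ => ?_
  rw [Finset.sum_congr rfl (fun l hl => by rw [(Finset.mem_filter.mp hl).2] :
    ∀ l ∈ J.filter (fun l => y l = c), F (y l) = F c), Finset.sum_const, nsmul_eq_mul]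

theorem sum_V (G : ℤ → ℤ) : ∑ c ∈ ({-1, 0, 1, 2, 3, 4} : Finset ℤ), G c =
    G (-1) + G 0 + G 1 + G 2 + G 3 + G 4 := by
  rw [Finset.sum_insert (by decide), Finset.sum_insert (by decide),
    Finset.sum_insert (by decide), Finset.sum_insert (by decide),
    Finset.sum_insert (by decide), Finset.sum_singleton]
  ring

theorem num_bounds (n m N : ℤ) (hn1 : 1 ≤ n) (hn7 : n ≤ 7) (hN : N = 8 * m - (8 - n) * m ^ 2)
    (hN0 : 0 ≤ N) :
    0 ≤ m ∧ m ≤ 8 ∧ N ≤ 16 ∧ N < 9 * n ∧ (¬ (n = 7 ∧ m = 4) → N ≤ 15) ∧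
      (m % 2 = 0 → N < 4 * n) := by
  have h8n : 0 ≤ 7 - n := by linarith
  have hm0 : 0 ≤ m := by
    by_contra h
    push Not at h
    nlinarith [mul_nonneg (by linarith : (0 : ℤ) ≤ 8 - n) (sq_nonneg m)]
  have hm8 : m ≤ 8 := by
    by_contra h
    push Not at h
    nlinarith [mul_nonneg h8n (sq_nonneg m)]
  interval_cases m <;> norm_num at hN <;> refine ⟨?_, ?_, ?_, ?_, ?_, ?_⟩ <;> omega

/-- Number of indices `l ≠ t` with `m - 2 b_l = c`. -/
def cnt (t : Fin δ) (v : DP δ) (m c : ℤ) : ℤ :=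
  (((Finset.univ.erase t).filter (fun l => m - 2 * v l.succ = c)).card : ℤ)

theorem cnt_nonneg (t : Fin δ) (v : DP δ) (m c : ℤ) : 0 ≤ cnt t v m c := Nat.cast_nonneg _

/-- Numerical facts about a terminal form. -/
structure Facts (t : Fin δ) (v : DP δ) (m : ℤ) : Prop where
  mem : ∀ l, l ≠ t → m - 2 * v l.succ ∈ ({-1, 0, 1, 2, 3, 4} : Finset ℤ)
  neg_le : cnt t v m (-1) ≤ 1
  card : cnt t v m (-1) + cnt t v m 0 + cnt t v m 1 + cnt t v m 2 + cnt t v m 3 + cnt t v m 4 =
    (δ : ℤ) - 1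
  sq : cnt t v m (-1) + cnt t v m 1 + 4 * cnt t v m 2 + 9 * cnt t v m 3 + 16 * cnt t v m 4 =
    8 * m - (9 - (δ : ℤ)) * m ^ 2
  lin : -cnt t v m (-1) + cnt t v m 1 + 2 * cnt t v m 2 + 3 * cnt t v m 3 + 4 * cnt t v m 4 =
    ((δ : ℤ) - 3) * m - 4 * v 0 + 4
  odd : m % 2 = 1 → cnt t v m 0 = 0 ∧ cnt t v m 2 = 0 ∧ cnt t v m 4 = 0
  even : m % 2 = 0 → cnt t v m (-1) = 0 ∧ cnt t v m 1 = 0 ∧ cnt t v m 3 = 0
  bound : ¬ (δ = 8 ∧ m = 4) → 8 * m - (9 - (δ : ℤ)) * m ^ 2 ≤ 15
  bound16 : 8 * m - (9 - (δ : ℤ)) * m ^ 2 ≤ 16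

set_option maxHeartbeats 2000000 in
theorem terminal_facts (h2 : 2 ≤ δ) (hδ : δ ≤ 8) (t : Fin δ) (v : DP δ) (hv : IsConic v)
    (m : ℤ) (hm : form v (qVec t) = m)
    (hterm : ∀ i j : Fin δ, i ≠ t → j ≠ t → i ≠ j → v i.succ + v j.succ ≤ m) :
    Facts t v m := by
  have hJmem : ∀ l, l ∈ Finset.univ.erase t ↔ l ≠ t := fun l => by simp
  have hsq := terminal_sq_sum t v hv m hm
  have hlin := terminal_lin_sum t v hv m hm
  have hcard := card_erase_cast t
  obtain ⟨N, hN⟩ : ∃ N : ℤ, N = 8 * m - (9 - (δ : ℤ)) * m ^ 2 := ⟨_, rfl⟩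
  rw [← hN] at hsq
  have hN0 : 0 ≤ N := by
    rw [← hsq]
    exact Finset.sum_nonneg fun l _ => sq_nonneg _
  have hδ2 : (2 : ℤ) ≤ δ := by exact_mod_cast h2
  have hδ8 : (δ : ℤ) ≤ 8 := by exact_mod_cast hδ
  obtain ⟨hm0, hm8, hN16, hN9, hN15, hN4⟩ := num_bounds ((δ : ℤ) - 1) m N (by linarith)
    (by linarith) (by rw [hN]; ring) hN0
  have hle : ∀ l ∈ Finset.univ.erase t, (m - 2 * v l.succ) ^ 2 ≤ N := fun l hl => by
    rw [← hsq]
    exact Finset.single_le_sum (f := fun l => (m - 2 * v l.succ) ^ 2)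
      (fun i _ => sq_nonneg _) hl
  have hup : ∀ l ∈ Finset.univ.erase t, m - 2 * v l.succ ≤ 4 := fun l hl => by
    nlinarith [hle l hl]
  have hty : ∀ i ∈ Finset.univ.erase t, ∀ j ∈ Finset.univ.erase t, i ≠ j →
      0 ≤ (m - 2 * v i.succ) + (m - 2 * v j.succ) := fun i hi j hj hij => by
    have := hterm i j ((hJmem i).mp hi) ((hJmem j).mp hj) hij
    linarith
  have hlow : ∀ l ∈ Finset.univ.erase t, -1 ≤ m - 2 * v l.succ := by
    intro l hl
    by_contra hneg
    push Not at hneg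
    have hall : ∀ l' ∈ Finset.univ.erase t,
        (m - 2 * v l.succ) ^ 2 ≤ (m - 2 * v l'.succ) ^ 2 := by
      intro l' hl'
      by_cases hll : l' = l
      · rw [hll]
      · have := hty l hl l' hl' (Ne.symm hll)
        nlinarith [mul_nonneg this
          (by linarith : 0 ≤ (m - 2 * v l'.succ) - (m - 2 * v l.succ))]
    have hsum : (((Finset.univ.erase t : Finset (Fin δ)).card : ℕ) : ℤ) *
        (m - 2 * v l.succ) ^ 2 ≤ N := by
      rw [← hsq, ← nsmul_eq_mul, ← Finset.sum_const]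
      exact Finset.sum_le_sum hall
    rw [hcard] at hsum
    by_cases h3 : m - 2 * v l.succ ≤ -3
    · nlinarith [mul_nonneg (by linarith : (0 : ℤ) ≤ (δ : ℤ) - 1)
        (by nlinarith : 0 ≤ (m - 2 * v l.succ) ^ 2 - 9)]
    · have h2' : m - 2 * v l.succ = -2 := by omega
      have hpar : m % 2 = 0 := by omega
      have := hN4 hpar
      rw [h2'] at hsum
      linarith
  have hmemV : ∀ l ∈ Finset.univ.erase t,
      (fun l => m - 2 * v l.succ) l ∈ ({-1, 0, 1, 2, 3, 4} : Finset ℤ) := by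
    intro l hl
    have h1 := hlow l hl
    have h2 := hup l hl
    simp only [Finset.mem_insert, Finset.mem_singleton]
    omega
  have c1 := sum_eq_count (Finset.univ.erase t) (fun l => m - 2 * v l.succ) _ hmemV (fun _ => 1)
  have c2 := sum_eq_count (Finset.univ.erase t) (fun l => m - 2 * v l.succ) _ hmemV
    (fun c => c ^ 2)
  have c3 := sum_eq_count (Finset.univ.erase t) (fun l => m - 2 * v l.succ) _ hmemV (fun c => c)
  rw [sum_V] at c1 c2 c3
  beta_reduce at c1 c2 c3
  rw [Finset.sum_const, nsmul_eq_mul, hcard] at c1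
  rw [hsq] at c2
  rw [hlin] at c3
  refine ⟨fun l hl => hmemV l ((hJmem l).mpr hl), ?_, ?_, ?_, ?_, ?_, ?_, ?_, ?_⟩
  · unfold cnt
    have : ((Finset.univ.erase t).filter (fun l => m - 2 * v l.succ = -1)).card ≤ 1 := by
      rw [Finset.card_le_one]
      intro a ha b hb
      by_contra hab
      rw [Finset.mem_filter] at ha hb
      have := hty a ha.1 b hb.1 hab
      rw [ha.2, hb.2] at this
      norm_num at this
    exact_mod_cast this
  · unfold cnt
    linarith
  · unfold cnt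
    rw [← hN]
    linarith
  · unfold cnt
    linarith
  · intro hpar
    unfold cnt
    refine ⟨?_, ?_, ?_⟩ <;>
    · rw [Nat.cast_eq_zero, Finset.card_eq_zero, Finset.filter_eq_empty_iff]
      intro l _ h
      omega
  · intro hpar
    unfold cnt
    refine ⟨?_, ?_, ?_⟩ <;>
    · rw [Nat.cast_eq_zero, Finset.card_eq_zero, Finset.filter_eq_empty_iff]
      intro l _ h
      omega
  · intro hne
    rw [← hN]
    apply hN15
    rintro ⟨h1, h2⟩
    exact hne ⟨by omega, h2⟩
  · rw [← hN]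
    exact hN16

theorem cnt_eq_zero {t : Fin δ} {v : DP δ} {m : ℤ} (F : Facts t v m) (c : ℤ)
    (hc : c ∉ ({-1, 0, 1, 2, 3, 4} : Finset ℤ)) : cnt t v m c = 0 := by
  unfold cnt
  rw [Nat.cast_eq_zero, Finset.card_eq_zero, Finset.filter_eq_empty_iff]
  intro l hl h
  apply hc
  rw [← h]
  exact F.mem l (Finset.ne_of_mem_erase hl)

set_option maxHeartbeats 2000000 in
theorem terminal_perm (h2 : 2 ≤ δ) (hδ : δ ≤ 8) (t : Fin δ) (v v' : DP δ) (hv : IsConic v)
    (hv' : IsConic v') (m : ℤ) (hm : form v (qVec t) = m) (hm' : form v' (qVec t) = m)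
    (hterm : ∀ i j : Fin δ, i ≠ t → j ≠ t → i ≠ j → v i.succ + v j.succ ≤ m)
    (hterm' : ∀ i j : Fin δ, i ≠ t → j ≠ t → i ≠ j → v' i.succ + v' j.succ ≤ m)
    (htype : ¬ (δ = 8 ∧ m = 4) ∨
      ((∃ l, l ≠ t ∧ v l.succ = 0) ↔ (∃ l, l ≠ t ∧ v' l.succ = 0))) :
    ∃ σ : Equiv.Perm (Fin δ), σ t = t ∧ permEquiv σ v = v' := by
  have F := terminal_facts h2 hδ t v hv m hm hterm
  have F' := terminal_facts h2 hδ t v' hv' m hm' hterm'
  have htype' : ¬ (δ = 8 ∧ m = 4) ∨ (1 ≤ cnt t v m 4 ↔ 1 ≤ cnt t v' m 4) := by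
    rcases htype with h | h
    · exact Or.inl h
    · by_cases hex : δ = 8 ∧ m = 4
      · right
        have h4 := hex.2
        have key : ∀ w : DP δ, (1 ≤ cnt t w m 4 ↔ ∃ l, l ≠ t ∧ w l.succ = 0) := by
          intro w
          unfold cnt
          rw [Nat.one_le_cast, Finset.one_le_card]
          constructor
          · rintro ⟨l, hl⟩
            rw [Finset.mem_filter, Finset.mem_erase] at hl
            exact ⟨l, hl.1.1, by have := hl.2; omega⟩
          · rintro ⟨l, hlt, hl0⟩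
            exact ⟨l, Finset.mem_filter.mpr
              ⟨Finset.mem_erase.mpr ⟨hlt, Finset.mem_univ l⟩, by rw [hl0]; omega⟩⟩
        rw [key, key]
        exact h
      · exact Or.inl hex
  obtain ⟨N, hN⟩ : ∃ N : ℤ, N = 8 * m - (9 - (δ : ℤ)) * m ^ 2 := ⟨_, rfl⟩
  obtain ⟨D, hD⟩ : ∃ D : ℤ, D = ((δ : ℤ) - 3) * m := ⟨_, rfl⟩
  have s1 := F.sq
  have s1' := F'.sq
  have b1 := F.bound
  have b16 := F.bound16
  have l1 := F.lin
  have l1' := F'.lin
  rw [← hN] at s1 s1' b1 b16
  rw [← hD] at l1 l1'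
  have hall : cnt t v m (-1) = cnt t v' m (-1) ∧ cnt t v m 0 = cnt t v' m 0 ∧
      cnt t v m 1 = cnt t v' m 1 ∧ cnt t v m 2 = cnt t v' m 2 ∧ cnt t v m 3 = cnt t v' m 3 ∧
      cnt t v m 4 = cnt t v' m 4 ∧ v 0 = v' 0 := by
    have a1 := cnt_nonneg t v m (-1)
    have a2 := cnt_nonneg t v m 0
    have a3 := cnt_nonneg t v m 1
    have a4 := cnt_nonneg t v m 2
    have a5 := cnt_nonneg t v m 3
    have a6 := cnt_nonneg t v m 4
    have a1' := cnt_nonneg t v' m (-1)
    have a2' := cnt_nonneg t v' m 0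
    have a3' := cnt_nonneg t v' m 1
    have a4' := cnt_nonneg t v' m 2
    have a5' := cnt_nonneg t v' m 3
    have a6' := cnt_nonneg t v' m 4
    have c := F.card
    have c' := F'.card
    have nl := F.neg_le
    have nl' := F'.neg_le
    rcases Int.emod_two_eq_zero_or_one m with hpar | hpar
    · obtain ⟨e1, e2, e3⟩ := F.even hpar
      obtain ⟨e1', e2', e3'⟩ := F'.even hpar
      rcases htype' with hne | hty
      · have := b1 hne
        omega
      · omega
    · obtain ⟨o1, o2, o3⟩ := F.odd hpar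
      obtain ⟨o1', o2', o3'⟩ := F'.odd hpar
      omega
  have hcnt : ∀ c : ℤ, cnt t v m c = cnt t v' m c := by
    intro c
    by_cases hc : c ∈ ({-1, 0, 1, 2, 3, 4} : Finset ℤ)
    · simp only [Finset.mem_insert, Finset.mem_singleton] at hc
      obtain ⟨h1, h2, h3, h4, h5, h6, -⟩ := hall
      rcases hc with rfl | rfl | rfl | rfl | rfl | rfl <;> assumption
    · rw [cnt_eq_zero F c hc, cnt_eq_zero F' c hc]
  -- the fibre function
  let f : DP δ → Fin δ → Option ℤ := fun w l => if l = t then none else some (w l.succ)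
  have hfn : ∀ w : DP δ, Finset.univ.filter (fun a => f w a = none) = {t} := by
    intro w
    ext a
    simp only [Finset.mem_filter, Finset.mem_univ, true_and, Finset.mem_singleton, f]
    by_cases hat : a = t
    · simp [hat]
    · simp [hat]
  have hfs : ∀ (w : DP δ) (c : ℤ),
      ((Finset.univ.filter (fun a => f w a = some c)).card : ℤ) = cnt t w m (m - 2 * c) := by
    intro w c
    unfold cnt
    congr 2
    ext a
    simp only [Finset.mem_filter, Finset.mem_univ, true_and, Finset.mem_erase, f]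
    by_cases hat : a = t
    · simp [hat]
    · simp only [hat, if_false, Option.some.injEq, ne_eq, not_false_eq_true, and_true, true_and]
      constructor <;> intro h <;> omega
  have hfib : ∀ b : Option ℤ, (Finset.univ.filter (fun a => f v' a = b)).card =
      (Finset.univ.filter (fun a => f v a = b)).card := by
    intro b
    cases b with
    | none => rw [hfn, hfn]
    | some c =>
      have := hcnt (m - 2 * c)
      rw [← hfs, ← hfs] at this
      exact_mod_cast this.symm
  obtain ⟨σ, hσ⟩ := exists_perm_of_card_fiber_eq (f v') (f v) hfib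
  have hσt : σ t = t := by
    have := hσ t
    simp only [f, if_true] at this
    by_contra hne
    rw [if_neg hne] at this
    exact absurd this (by simp)
  refine ⟨σ, hσt, ?_⟩
  funext k
  refine Fin.cases ?_ (fun a => ?_) k
  · rw [permEquiv_zero]
    exact hall.2.2.2.2.2.2
  · rw [permEquiv_succ]
    by_cases hat : a = t
    · rw [hat, hσt]
      rw [form_qVec_right] at hm hm'
      have := hall.2.2.2.2.2.2
      linarith
    · have := hσ a
      simp only [f, if_neg hat] at this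
      by_cases hσa : σ a = t
      · rw [if_pos hσa] at this
        exact absurd this (by simp)
      · rw [if_neg hσa] at this
        exact Option.some.inj this

end Groth.Agent.Lib.Helper16Conic
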