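import Mathlib
import Groth.Prelude.Def_W4c3severiratdpLat
import Groth.Agent.Lib.Helper16E8
import Groth.Agent.Lib.Helper16Conic

set_option autoImplicit false
set_option linter.style.haveILetI false
set_option linter.unusedSectionVars false

/-!
Pairs of conic classes: reduction to terminal forms relative to `ℓ - e_t`.
-/

namespace Groth.Agent.Lib.Helper16ConicB

open W4c3severiratdp Groth.Agent.Lib.Helper16E8 Groth.Agent.Lib.Helper16Conic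

variable {δ : ℕ}

theorem isConic_qVec (t : Fin δ) : IsConic (qVec t) := by
  rw [isConic_iff]
  simp only [qVec_zero, qVec_succ]
  constructor
  · simp
  · simp

theorem pair_to_terminal (h8 : δ ≤ 8) (t : Fin δ) (v₁ v₂ : DP δ) (hv₁ : IsConic v₁)
    (hv₂ : IsConic v₂) :
    ∃ g : DP δ ≃ₗ[ℤ] DP δ, IsWeyl g ∧ g v₁ = qVec t ∧ IsConic (g v₂) ∧
      form (g v₂) (qVec t) = form v₁ v₂ ∧
      ∀ i j : Fin δ, i ≠ t → j ≠ t → i ≠ j → g v₂ i.succ + g v₂ j.succ ≤ form v₁ v₂ := by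
  obtain ⟨g₁, hg₁, hg₁v⟩ := conic_to_qVec h8 t v₁ hv₁
  have hc := isWeyl_isConic hg₁ hv₂
  obtain ⟨g₂, hg₂, hg₂q, hg₂t⟩ := pair_descent h8 t (g₁ v₂ 0).toNat (g₁ v₂) hc
    (Int.toNat_of_nonneg (by linarith [conic_pos h8 _ hc])).symm
  have e1 : form (g₁ v₂) (qVec t) = form v₁ v₂ := by
    rw [← hg₁v, hg₁.1, form_comm]
  refine ⟨g₁.trans g₂, isWeyl_trans hg₁ hg₂, ?_, isWeyl_isConic (isWeyl_trans hg₁ hg₂) hv₂, ?_, ?_⟩
  · rw [LinearEquiv.trans_apply, hg₁v, hg₂q]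
  · rw [LinearEquiv.trans_apply]
    calc form (g₂ (g₁ v₂)) (qVec t) = form (g₂ (g₁ v₂)) (g₂ (qVec t)) := by rw [hg₂q]
      _ = form (g₁ v₂) (qVec t) := hg₂.1 _ _
      _ = form v₁ v₂ := e1
  · intro i j hi hj hij
    rw [LinearEquiv.trans_apply, ← e1]
    exact hg₂t i j hi hj hij

theorem pair_equiv_of_terminal (t : Fin δ) (v₁ v₂ w₁ w₂ : DP δ)
    (g h : DP δ ≃ₗ[ℤ] DP δ) (hg : IsWeyl g) (hh : IsWeyl h) (hg1 : g v₁ = qVec t)
    (hh1 : h w₁ = qVec t) (σ : Equiv.Perm (Fin δ)) (hσ : σ t = t)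
    (hσv : permEquiv σ (g v₂) = h w₂) :
    ∃ k : DP δ ≃ₗ[ℤ] DP δ, IsWeyl k ∧ k v₁ = w₁ ∧ k v₂ = w₂ := by
  refine ⟨(g.trans (permEquiv σ)).trans h.symm,
    isWeyl_trans (isWeyl_trans hg (isWeyl_permEquiv σ)) (isWeyl_symm hh), ?_, ?_⟩
  · rw [LinearEquiv.trans_apply, LinearEquiv.trans_apply, hg1, permEquiv_qVec σ t hσ,
      LinearEquiv.symm_apply_eq, hh1]
  · rw [LinearEquiv.trans_apply, LinearEquiv.trans_apply, hσv, LinearEquiv.symm_apply_apply]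

end Groth.Agent.Lib.Helper16ConicB
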