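import Mathlib

/-!
# Tensor factors of free modules over local rings, and coproducts of subalgebras (helper16)
-/

set_option autoImplicit false
set_option linter.style.haveILetI false
set_option linter.unusedSectionVars false

universe u v w

namespace Groth.Agent.Lib.Helper16.Coprod

open TensorProduct IsLocalRing

section FreeFactor

variable {R : Type u} [CommRing R] [IsLocalRing R] [IsNoetherianRing R]

/-- naturality of `leftComm`. -/
lemma leftComm_natural (K : Type*) (M : Type*) {X Y : Type*} [AddCommGroup K] [Module R K]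
    [AddCommGroup M] [Module R M] [AddCommGroup X] [Module R X] [AddCommGroup Y] [Module R Y]
    (π : X →ₗ[R] Y) (z : K ⊗[R] (M ⊗[R] X)) :
    TensorProduct.leftComm R K M Y ((π.lTensor M).lTensor K z) =
      (π.lTensor K).lTensor M (TensorProduct.leftComm R K M X z) := by
  induction z using TensorProduct.induction_on with
  | zero => simp
  | tmul c y =>
    induction y using TensorProduct.induction_on with
    | zero => simp
    | tmul m x => simp
    | add y y' h h' => simp only [tmul_add, map_add, h, h']
  | add z z' h h' => simp only [map_add, h, h']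

/-- If `M ⊗ N` is free, `N ≠ 0`, all finite over a Noetherian local ring, then `M` is free. -/
theorem free_of_tensor_free (M : Type v) (N : Type w) [AddCommGroup M] [Module R M]
    [Module.Finite R M] [AddCommGroup N] [Module R N] [Module.Finite R N] [Nontrivial N]
    [Module.Free R (M ⊗[R] N)] : Module.Free R M := by
  classical
  let k := ResidueField R
  -- a minimal system of generators of `N`
  let ι := Module.Free.ChooseBasisIndex k (k ⊗[R] N)
  let wb : Module.Basis ι k (k ⊗[R] N) := Module.Free.chooseBasis k (k ⊗[R] N)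
  haveI : Fintype ι := inferInstance
  have hne : Nonempty ι := by
    by_contra hempty
    rw [not_nonempty_iff] at hempty
    haveI : Subsingleton (k ⊗[R] N) := by
      refine ⟨fun a b => ?_⟩
      apply wb.repr.injective
      ext i
      exact (hempty.false i).elim
    have := (IsLocalRing.subsingleton_tensorProduct (R := R) (M := N)).mp this
    exact not_subsingleton N this
  obtain ⟨i₀⟩ := hne
  obtain ⟨v, hv⟩ := (TensorProduct.mk_surjective R N k Ideal.Quotient.mk_surjective).comp_left wb
  have hv' : ∀ i, (1 : k) ⊗ₜ[R] v i = wb i := fun i => congr_fun hv i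
  let π : (ι → R) →ₗ[R] N := Fintype.linearCombination R v
  have hπe : ∀ i, π (Pi.single i 1) = v i := by
    intro i
    simp [π, Fintype.linearCombination_apply_single]
  have hπsurj : Function.Surjective π := by
    rw [← LinearMap.range_eq_top, Fintype.range_linearCombination]
    exact IsLocalRing.span_eq_top_of_tmul_eq_basis v wb hv'
  -- `k ⊗ π` is bijective
  have hkπ : Function.Bijective (π.lTensor k) := by
    let b₁ : Module.Basis ι k (k ⊗[R] (ι → R)) := (Pi.basisFun R ι).baseChange k
    have h1 : (π.baseChange k) = (b₁.equiv wb (Equiv.refl ι)).toLinearMap := by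
      apply b₁.ext
      intro i
      rw [LinearEquiv.coe_coe, Module.Basis.equiv_apply, Equiv.refl_apply,
        Module.Basis.baseChange_apply, LinearMap.baseChange_tmul, Pi.basisFun_apply, hπe, hv']
    have h2 : ⇑(π.lTensor k) = ⇑(π.baseChange k) := rfl
    rw [h2, h1]
    exact (b₁.equiv wb (Equiv.refl ι)).bijective
  -- the surjection `ρ`
  let ρ : M ⊗[R] (ι → R) →ₗ[R] M ⊗[R] N := π.lTensor M
  have hρsurj : Function.Surjective ρ := LinearMap.lTensor_surjective M hπsurj
  have hkρ : Function.Injective (ρ.lTensor k) := by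
    let e : k ⊗[R] (ι → R) ≃ₗ[R] k ⊗[R] N := LinearEquiv.ofBijective (π.lTensor k) hkπ
    intro z z' hzz'
    have h3 := congrArg (TensorProduct.leftComm R k M N) hzz'
    rw [leftComm_natural, leftComm_natural] at h3
    have h4 : Function.Injective ((π.lTensor k).lTensor M) := (e.lTensor M).injective
    exact (TensorProduct.leftComm R k M (ι → R)).injective (h4 h3)
  obtain ⟨s, hs⟩ := Module.projective_lifting_property ρ LinearMap.id hρsurj
  -- the kernel is zero
  haveI : IsNoetherian R (M ⊗[R] (ι → R)) := isNoetherian_of_isNoetherianRing_of_finite R _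
  let Q := LinearMap.ker ρ
  haveI : Module.Finite R Q := Module.IsNoetherian.finite R Q
  let q : M ⊗[R] (ι → R) →ₗ[R] Q :=
    (LinearMap.id - s ∘ₗ ρ).codRestrict Q (by
      intro z
      rw [LinearMap.mem_ker, LinearMap.sub_apply, map_sub, LinearMap.id_apply,
        LinearMap.comp_apply]
      have := LinearMap.congr_fun hs (ρ z)
      simp only [LinearMap.comp_apply, LinearMap.id_apply] at this
      rw [this, sub_self])
  have hqj : q ∘ₗ Q.subtype = LinearMap.id := by
    apply LinearMap.ext
    rintro ⟨z, hz⟩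
    apply Subtype.ext
    change z - s (ρ z) = z
    rw [LinearMap.mem_ker.mp hz, map_zero, sub_zero]
  have hQ : Subsingleton Q := by
    rw [← IsLocalRing.subsingleton_tensorProduct (R := R) (M := Q)]
    refine ⟨fun a b => ?_⟩
    have hinj : Function.Injective (Q.subtype.lTensor k) := by
      apply Function.LeftInverse.injective (g := q.lTensor k)
      intro z
      rw [← LinearMap.comp_apply, ← LinearMap.lTensor_comp, hqj, LinearMap.lTensor_id,
        LinearMap.id_apply]
    have hzero : ∀ z, Q.subtype.lTensor k z = 0 := by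
      intro z
      apply hkρ
      rw [← LinearMap.comp_apply, ← LinearMap.lTensor_comp, map_zero]
      have : ρ ∘ₗ Q.subtype = 0 := by
        apply LinearMap.ext
        rintro ⟨y, hy⟩
        exact LinearMap.mem_ker.mp hy
      rw [this, LinearMap.lTensor_zero, LinearMap.zero_apply]
    apply hinj
    rw [hzero, hzero]
  have hρinj : Function.Injective ρ := by
    rw [← LinearMap.ker_eq_bot]
    exact Submodule.eq_bot_of_subsingleton
  let eρ : M ⊗[R] (ι → R) ≃ₗ[R] M ⊗[R] N := LinearEquiv.ofBijective ρ ⟨hρinj, hρsurj⟩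
  haveI : Module.Free R (M ⊗[R] (ι → R)) := Module.Free.of_equiv eρ.symm
  -- `M` is a retract
  let i₁ : M →ₗ[R] M ⊗[R] (ι → R) := (TensorProduct.mk R M (ι → R)).flip (Pi.single i₀ 1)
  let r₁ : M ⊗[R] (ι → R) →ₗ[R] M :=
    (TensorProduct.rid R M).toLinearMap ∘ₗ (LinearMap.proj i₀ : (ι → R) →ₗ[R] R).lTensor M
  have hr : r₁ ∘ₗ i₁ = LinearMap.id := by
    apply LinearMap.ext
    intro m
    simp [i₁, r₁]
  haveI : Module.Projective R M := Module.Projective.of_split i₁ r₁ hr
  exact Module.free_of_flat_of_isLocalRing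

end FreeFactor

section Split

variable {R : Type u} [CommRing R] {A : Type v} [CommRing A] [Algebra R A]
  {ι : Type} [Fintype ι] [DecidableEq ι] (Bs : ι → Subalgebra R A)

/-- The tensor product of the factors other than `i`. -/
abbrev TT (i : ι) : Type (max u v) := ⨂[R] (j : {j : ι // j ≠ i}), Bs j

/-- The multiplication map `⨂_{j ≠ i} B_j → A`. -/
noncomputable def muT (i : ι) : TT Bs i →ₐ[R] A :=
  PiTensorProduct.liftAlgHom
    ((MultilinearMap.mkPiAlgebra R {j : ι // j ≠ i} A).compLinearMap
      (fun j => (Bs j).val.toLinearMap))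
    (by
      rw [MultilinearMap.compLinearMap_apply, MultilinearMap.mkPiAlgebra_apply]
      simp)
    (by
      intro x y
      simp only [MultilinearMap.compLinearMap_apply, MultilinearMap.mkPiAlgebra_apply]
      rw [← Finset.prod_mul_distrib]
      refine Finset.prod_congr rfl fun j _ => ?_
      simp)

lemma muT_single (i : ι) (j : {j : ι // j ≠ i}) (x : Bs j) :
    muT Bs i (PiTensorProduct.singleAlgHom j x) = x := by
  rw [muT, PiTensorProduct.singleAlgHom_apply, PiTensorProduct.liftAlgHom_apply,
    PiTensorProduct.lift.tprod]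
  simp only [MultilinearMap.compLinearMap_apply, AlgHom.toLinearMap_apply, Subalgebra.coe_val,
    MultilinearMap.mkPiAlgebra_apply]
  rw [Finset.prod_eq_single j]
  · simp
  · intro k _ hk
    simp [MonoidHom.mulSingle_apply, Pi.mulSingle_eq_of_ne hk]
  · intro h
    exact absurd (Finset.mem_univ _) h

@[simp] lemma muT_tprod_mulSingle (i : ι) (j : {j : ι // j ≠ i}) (x : Bs j) :
    muT Bs i (PiTensorProduct.tprod R (Pi.mulSingle j x)) = x :=
  muT_single Bs i j x

/-- The multiplication map `B_i ⊗ ⨂_{j ≠ i} B_j → A`. -/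
noncomputable def Theta (i : ι) : Bs i ⊗[R] TT Bs i →ₐ[R] A :=
  Algebra.TensorProduct.productMap (Bs i).val (muT Bs i)

lemma Theta_tmul (i : ι) (x : Bs i) (y : TT Bs i) :
    Theta Bs i (x ⊗ₜ[R] y) = (x : A) * muT Bs i y := rfl

lemma Theta_smul (i : ι) (b : Bs i) (z : Bs i ⊗[R] TT Bs i) :
    Theta Bs i (b • z) = (b : A) * Theta Bs i z := by
  induction z using TensorProduct.induction_on with
  | zero => simp
  | tmul x y =>
    rw [TensorProduct.smul_tmul', Theta_tmul, Theta_tmul, smul_eq_mul, Subalgebra.coe_mul,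
      mul_assoc]
  | add z z' h h' => rw [smul_add, map_add, map_add, h, h', mul_add]

/-- `Θ` as a `B_i`-linear map. -/
noncomputable def ThetaLin (i : ι) : Bs i ⊗[R] TT Bs i →ₗ[Bs i] A where
  toFun := Theta Bs i
  map_add' := map_add _
  map_smul' b z := by
    rw [Theta_smul, RingHom.id_apply, Subalgebra.smul_def, smul_eq_mul]

@[simp] lemma ThetaLin_apply (i : ι) (z : Bs i ⊗[R] TT Bs i) :
    ThetaLin Bs i z = Theta Bs i z := rfl

/-- `A` is the coproduct of the subalgebras `Bs i` in commutative `R`-algebras. -/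
def IsCoprod : Prop :=
  ∀ (C : Type (max u v)) [CommRing C] [Algebra R C] (φ : ∀ i, Bs i →ₐ[R] C),
    ∃! ψ : A →ₐ[R] C, ∀ i (x : Bs i), ψ x = φ i x

/-- The family of maps into `B_i ⊗ ⨂_{j ≠ i} B_j`. -/
noncomputable def phiFam (i : ι) : ∀ j, Bs j →ₐ[R] (Bs i ⊗[R] TT Bs i) := fun j =>
  if h : j = i then
    (Algebra.TensorProduct.includeLeft : Bs i →ₐ[R] Bs i ⊗[R] TT Bs i).comp
      (Subalgebra.inclusion (le_of_eq (congrArg Bs h)))
  else
    (Algebra.TensorProduct.includeRight : TT Bs i →ₐ[R] Bs i ⊗[R] TT Bs i).comp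
      (PiTensorProduct.singleAlgHom (R := R) (A := fun j : {j : ι // j ≠ i} => Bs j) ⟨j, h⟩)

lemma Theta_phiFam (i j : ι) (x : Bs j) : Theta Bs i (phiFam Bs i j x) = x := by
  unfold phiFam
  split_ifs with h
  · subst h
    simp [Theta]
  · simp [Theta, muT_single]

theorem theta_bijective (hco : IsCoprod Bs) (i : ι) : Function.Bijective (Theta Bs i) := by
  obtain ⟨ψ, hψ, -⟩ := hco (Bs i ⊗[R] TT Bs i) (phiFam Bs i)
  -- `Θ ∘ ψ = id`
  have h1 : ∀ a : A, Theta Bs i (ψ a) = a := by
    obtain ⟨ψ', -, huniq⟩ := hco (ULift.{u} A)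
      (fun j => (ULift.algEquiv (R := R) (A := A)).symm.toAlgHom.comp (Bs j).val)
    have e1 := huniq ((ULift.algEquiv (R := R) (A := A)).symm.toAlgHom.comp
      ((Theta Bs i).comp ψ)) (by
        intro j x
        simp only [AlgHom.comp_apply]
        rw [hψ j x, Theta_phiFam]
        rfl)
    have e2 := huniq ((ULift.algEquiv (R := R) (A := A)).symm.toAlgHom) (by
      intro j x
      rfl)
    intro a
    have := AlgHom.congr_fun (e1.trans e2.symm) a
    exact (ULift.algEquiv (R := R) (A := A)).symm.injective this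
  -- `ψ ∘ Θ = id`
  have h2 : ψ.comp (Theta Bs i) = AlgHom.id R _ := by
    apply Algebra.TensorProduct.ext
    · ext x
      simp only [AlgHom.comp_apply, Algebra.TensorProduct.includeLeft_apply, AlgHom.id_apply]
      have h3 : Theta Bs i (x ⊗ₜ[R] 1) = x := by simp [Theta]
      rw [h3, hψ i x]
      simp [phiFam]
    · apply PiTensorProduct.algHom_ext
      intro j
      ext x
      simp only [AlgHom.comp_apply, AlgHom.restrictScalars_apply,
        Algebra.TensorProduct.includeRight_apply, AlgHom.id_apply]
      have h3 : Theta Bs i (1 ⊗ₜ[R] PiTensorProduct.singleAlgHom j x) = x := by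
        simp [Theta, muT_single]
      rw [h3, hψ j.1 x]
      simp [phiFam, j.2]
  refine ⟨?_, fun a => ⟨ψ a, h1 a⟩⟩
  intro z z' hzz'
  have := congrArg ψ hzz'
  have h4 : ∀ y, ψ (Theta Bs i y) = y := fun y => AlgHom.congr_fun h2 y
  rwa [h4, h4] at this

end Split

end Groth.Agent.Lib.Helper16.Coprod
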