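import Mathlib

/-!
# Full-rank sublattices over a PID: length of the quotient is the order of the determinant;
discriminant of a full-rank subalgebra.
-/

namespace Groth.Agent.Lib.Helper24Crimp

open Module

section PID

variable {R : Type*} [CommRing R] [IsDomain R] [IsPrincipalIdealRing R]
variable {M : Type*} [AddCommGroup M] [Module R M]
variable {ι : Type*} [Fintype ι] [DecidableEq ι]

theorem finrank_eq (b : Basis ι R M) (N : Submodule R M) (bN : Basis ι R N) :
    finrank R N = finrank R M := by
  rw [finrank_eq_card_basis b, finrank_eq_card_basis bN]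

theorem toMatrix_id_det_isUnit {M' : Type*} [AddCommGroup M'] [Module R M']
    (b b' : Basis ι R M') :
    IsUnit (LinearMap.toMatrix b b' LinearMap.id).det := by
  have h : LinearMap.toMatrix b b' LinearMap.id * LinearMap.toMatrix b' b LinearMap.id = 1 := by
    rw [← LinearMap.toMatrix_comp, LinearMap.id_comp, LinearMap.toMatrix_id]
  have := congrArg Matrix.det h
  rw [Matrix.det_mul, Matrix.det_one] at this
  exact IsUnit.of_mul_eq_one _ this

/-- the determinant of the inclusion matrix is associated to the product of the Smith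
coefficients. -/
theorem det_assoc (b : Basis ι R M) (N : Submodule R M) (bN : Basis ι R N) :
    Associated (b.toMatrix (fun i => (bN i : M))).det
      (∏ i, Submodule.smithNormalFormCoeffs b (finrank_eq b N bN) i) := by
  set h := finrank_eq b N bN
  set b' := Submodule.smithNormalFormTopBasis b h
  set ab := Submodule.smithNormalFormBotBasis b h
  set a := Submodule.smithNormalFormCoeffs b h
  have hab : ∀ i, (ab i : M) = a i • b' i := Submodule.smithNormalFormBotBasis_def b h
  have e1 : b.toMatrix (fun i => (bN i : M)) = LinearMap.toMatrix bN b N.subtype := by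
    ext i j
    rw [Basis.toMatrix_apply, LinearMap.toMatrix_apply]
    rfl
  have e2 : LinearMap.toMatrix bN b N.subtype =
      LinearMap.toMatrix b' b LinearMap.id * LinearMap.toMatrix ab b' N.subtype *
        LinearMap.toMatrix bN ab LinearMap.id := by
    rw [← LinearMap.toMatrix_comp, ← LinearMap.toMatrix_comp, LinearMap.id_comp,
      LinearMap.comp_id]
  have e3 : LinearMap.toMatrix ab b' N.subtype = Matrix.diagonal a := by
    ext i j
    rw [LinearMap.toMatrix_apply, Submodule.subtype_apply, hab, map_smul, Finsupp.smul_apply,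
      Basis.repr_self, Matrix.diagonal_apply, smul_eq_mul]
    by_cases hij : i = j
    · subst hij; simp
    · rw [if_neg hij, Finsupp.single_apply, if_neg (Ne.symm hij), mul_zero]
  rw [e1, e2, e3, Matrix.det_mul, Matrix.det_mul, Matrix.det_diagonal]
  obtain ⟨u1, hu1⟩ := toMatrix_id_det_isUnit b' b
  obtain ⟨u2, hu2⟩ := toMatrix_id_det_isUnit bN ab
  rw [← hu1, ← hu2]
  refine ⟨u1⁻¹ * u2⁻¹, ?_⟩
  simp only [Units.val_mul]
  calc (u1 : R) * (∏ i, a i) * u2 * (↑u1⁻¹ * ↑u2⁻¹)
      = (∏ i, a i) * ((u1 : R) * ↑u1⁻¹) * ((u2 : R) * ↑u2⁻¹) := by ring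
    _ = ∏ i, a i := by rw [Units.mul_inv, Units.mul_inv, mul_one, mul_one]

theorem ord_prod (s : Finset ι) (a : ι → R) (ha : ∀ i, a i ≠ 0) :
    Ring.ord R (∏ i ∈ s, a i) = ∑ i ∈ s, Ring.ord R (a i) := by
  induction s using Finset.induction_on with
  | empty => simp
  | insert j s hj ih =>
    rw [Finset.prod_insert hj, Finset.sum_insert hj, ← ih]
    apply Ring.ord_mul
    rw [mem_nonZeroDivisors_iff_ne_zero]
    exact Finset.prod_ne_zero_iff.mpr fun i _ => ha i

/-- length of the quotient by a full-rank sublattice is the order of the determinant. -/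
theorem length_quotient (b : Basis ι R M) (N : Submodule R M) (bN : Basis ι R N) :
    Module.length R (M ⧸ N) = Ring.ord R (b.toMatrix (fun i => (bN i : M))).det := by
  rw [Ring.ord_eq_of_associated (det_assoc b N bN),
    (Submodule.quotientEquivPiSpan N b (finrank_eq b N bN)).length_eq,
    Module.length_pi_of_fintype, ord_prod _ _ (Submodule.smithNormalFormCoeffs_ne_zero b _)]
  rfl

/-- the determinant kills the quotient. -/
theorem det_smul_quotient (b : Basis ι R M) (N : Submodule R M) (bN : Basis ι R N)
    (q : M ⧸ N) : (b.toMatrix (fun i => (bN i : M))).det • q = 0 := by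
  apply (Submodule.quotientEquivPiSpan N b (finrank_eq b N bN)).injective
  rw [map_smul, map_zero]
  funext i
  rw [Pi.smul_apply, Pi.zero_apply]
  obtain ⟨y, hy⟩ := Ideal.Quotient.mk_surjective
    ((Submodule.quotientEquivPiSpan N b (finrank_eq b N bN)) q i)
  rw [← hy, ← Ideal.Quotient.mk_eq_mk, ← Submodule.Quotient.mk_smul, Ideal.Quotient.mk_eq_mk,
    Ideal.Quotient.eq_zero_iff_mem, smul_eq_mul]
  apply Ideal.mul_mem_right
  rw [Ideal.mem_span_singleton]
  obtain ⟨u, hu⟩ := (det_assoc b N bN).symm
  rw [← hu]
  exact Dvd.dvd.mul_right (Finset.dvd_prod_of_mem _ (Finset.mem_univ i)) _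

end PID

section Trace

variable {R : Type*} [CommRing R] [IsDomain R]
variable {ι : Type*} [Fintype ι] [DecidableEq ι]

/-- conjugate matrices over a domain (by a matrix of nonzero determinant) have the same trace. -/
theorem trace_conj (P T T' : Matrix ι ι R) (h : P * T = T' * P) (hP : P.det ≠ 0) :
    T.trace = T'.trace := by
  let K := FractionRing R
  let φ : R →+* K := algebraMap R K
  have hφ : Function.Injective φ := IsFractionRing.injective R K
  apply hφ
  have hmap : ∀ A : Matrix ι ι R, φ A.trace = (φ.mapMatrix A).trace := by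
    intro A
    simp only [Matrix.trace, map_sum]
    rfl
  rw [hmap, hmap]
  have h' : φ.mapMatrix P * φ.mapMatrix T = φ.mapMatrix T' * φ.mapMatrix P := by
    rw [← map_mul, ← map_mul, h]
  have hdet : IsUnit (φ.mapMatrix P).det := by
    rw [← RingHom.map_det, isUnit_iff_ne_zero]
    intro h0
    exact hP (hφ (by rw [h0, map_zero]))
  have hT : φ.mapMatrix T = (φ.mapMatrix P)⁻¹ * (φ.mapMatrix T' * φ.mapMatrix P) := by
    rw [← h', ← mul_assoc, Matrix.nonsing_inv_mul _ hdet, one_mul]
  rw [hT, Matrix.trace_mul_comm, mul_assoc, Matrix.mul_nonsing_inv _ hdet, mul_one]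

variable [IsPrincipalIdealRing R]
variable {St : Type*} [CommRing St] [Algebra R St]

theorem det_ne_zero (bt : Basis ι R St) (S : Subalgebra R St)
    (bS : Basis ι R (Subalgebra.toSubmodule S)) :
    (bt.toMatrix (fun i => (bS i : St))).det ≠ 0 := by
  intro h0
  have := det_assoc bt (Subalgebra.toSubmodule S) bS
  rw [h0] at this
  have h1 := (Associated.symm this).eq_zero_iff.mpr rfl  -- placeholder
  exact absurd h1 (Finset.prod_ne_zero_iff.mpr fun i _ =>
    Submodule.smithNormalFormCoeffs_ne_zero bt _ i)

/-- reinterpret a basis of a subalgebra as a basis of the underlying submodule. -/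
def subBasis (S : Subalgebra R St) (bS : Basis ι R S) : Basis ι R (Subalgebra.toSubmodule S) := bS

theorem subBasis_apply (S : Subalgebra R St) (bS : Basis ι R S) (i : ι) :
    ((subBasis S bS i : Subalgebra.toSubmodule S) : St) = (bS i : St) := rfl

/-- the trace of an element of a full-rank subalgebra is the trace in the big algebra. -/
theorem trace_eq (bt : Basis ι R St) (S : Subalgebra R St) (bS : Basis ι R S) (s : S) :
    Algebra.trace R S s = Algebra.trace R St (s : St) := by
  rw [Algebra.trace_eq_matrix_trace bS, Algebra.trace_eq_matrix_trace bt]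
  set P := LinearMap.toMatrix bS bt S.val.toLinearMap with hPdef
  have hP : P = bt.toMatrix (fun i => (subBasis S bS i : St)) := by
    ext i j
    rw [hPdef, LinearMap.toMatrix_apply, Basis.toMatrix_apply]
    rfl
  apply trace_conj P
  · rw [Algebra.leftMulMatrix_apply, Algebra.leftMulMatrix_apply, hPdef,
      ← LinearMap.toMatrix_comp, ← LinearMap.toMatrix_comp]
    congr 1
  · rw [hP]
    exact det_ne_zero bt S (subBasis S bS)

/-- the discriminant of a full-rank subalgebra. -/
theorem discr_eq (bt : Basis ι R St) (S : Subalgebra R St) (bS : Basis ι R S) :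
    Algebra.discr R bS =
      (bt.toMatrix (fun i => (bS i : St))).det ^ 2 * Algebra.discr R bt := by
  have h1 : Algebra.discr R bS = Algebra.discr R (fun i => (bS i : St)) := by
    rw [Algebra.discr_def, Algebra.discr_def]
    congr 1
    ext i j
    rw [Algebra.traceMatrix_apply, Algebra.traceMatrix_apply, Algebra.traceForm_apply,
      Algebra.traceForm_apply, trace_eq bt S bS]
    rfl
  rw [h1, ← Algebra.discr_of_matrix_vecMul]
  congr 1
  funext j
  rw [Matrix.vecMul, dotProduct]
  simp only [Matrix.map_apply, Basis.toMatrix_apply]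
  conv_lhs => rw [← bt.sum_repr (bS j : St)]
  apply Finset.sum_congr rfl
  intro i _
  rw [Algebra.smul_def, mul_comm]

end Trace

section Main

open PowerSeries

theorem main {k : Type*} [Field k] {St : Type*} [CommRing St] [Algebra (PowerSeries k) St]
    (d a b : ℕ) (bt : Basis (Fin d) (PowerSeries k) St)
    (ha : Ideal.span {Algebra.discr (PowerSeries k) ⇑bt} =
      Ideal.span {(PowerSeries.X : PowerSeries k) ^ a})
    (S : Subalgebra (PowerSeries k) St) (bS : Basis (Fin d) (PowerSeries k) S)
    (hb : Ideal.span {Algebra.discr (PowerSeries k) ⇑bS} =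
      Ideal.span {(PowerSeries.X : PowerSeries k) ^ b}) :
    (∀ q : St ⧸ Subalgebra.toSubmodule S, ((PowerSeries.X : PowerSeries k) ^ b) • q = 0) ∧
    2 * Module.length (PowerSeries k) (St ⧸ Subalgebra.toSubmodule S) + (a : ℕ∞) = (b : ℕ∞) := by
  set D := (bt.toMatrix (fun i => (bS i : St))).det with hD
  have hD0 : D ≠ 0 := det_ne_zero bt S (subBasis S bS)
  have hdisc : Algebra.discr (PowerSeries k) bS = D ^ 2 * Algebra.discr (PowerSeries k) bt :=
    discr_eq bt S bS
  have ha' : Associated (Algebra.discr (PowerSeries k) bt) ((X : PowerSeries k) ^ a) :=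
    Ideal.span_singleton_eq_span_singleton.mp ha
  have hb' : Associated (Algebra.discr (PowerSeries k) bS) ((X : PowerSeries k) ^ b) :=
    Ideal.span_singleton_eq_span_singleton.mp hb
  have hassoc : Associated (D ^ 2 * (X : PowerSeries k) ^ a) ((X : PowerSeries k) ^ b) := by
    refine Associated.trans ?_ hb'
    rw [hdisc]
    exact (Associated.mul_left (D ^ 2) ha').symm
  have hlen : Module.length (PowerSeries k) (St ⧸ Subalgebra.toSubmodule S) =
      Ring.ord (PowerSeries k) D :=
    length_quotient bt (Subalgebra.toSubmodule S) (subBasis S bS)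
  have hkill : ∀ q : St ⧸ Subalgebra.toSubmodule S, D • q = 0 :=
    det_smul_quotient bt (Subalgebra.toSubmodule S) (subBasis S bS)
  constructor
  · intro q
    obtain ⟨u, hu⟩ := hassoc
    have : (X : PowerSeries k) ^ b = (D * (X : PowerSeries k) ^ a * u) * D := by
      rw [← hu]; ring
    rw [this, mul_smul, hkill, smul_zero]
  · have hXnz : (X : PowerSeries k) ∈ nonZeroDivisors (PowerSeries k) :=
      mem_nonZeroDivisors_iff_ne_zero.mpr X_ne_zero
    have hDnz : D ∈ nonZeroDivisors (PowerSeries k) := mem_nonZeroDivisors_iff_ne_zero.mpr hD0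
    have hordX : Ring.ord (PowerSeries k) (X : PowerSeries k) = 1 :=
      Ring.ord_of_irreducible X_irreducible
    have h1 := Ring.ord_eq_of_associated hassoc
    rw [Ring.ord_mul _ (pow_mem hXnz a), Ring.ord_pow hDnz, Ring.ord_pow hXnz, Ring.ord_pow hXnz,
      hordX] at h1
    rw [hlen]
    simpa using h1

end Main

end Groth.Agent.Lib.Helper24Crimp
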