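import Mathlib
import Groth.Agent.Lib.Helper24Crimp

set_option autoImplicit false
set_option linter.style.haveILetI false
set_option linter.unusedSectionVars false

/-!
Rank-two algebras `St = R·1 ⊕ R·ε` with `ε² = δ` over `R = k⟦t⟧`: the subalgebras which are free of
rank two are `R·1 + t^n St`; their discriminant is `4 t^(2n) δ` and they are `R[y]/(y² - t^(2n) δ)`.
-/

namespace Groth.Agent.Lib.Helper16Crimp2

open Module PowerSeries Groth.Agent.Lib.Helper24Crimp

section
variable {k : Type*} [Field k]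

lemma X_pow_assoc_inj {a b : ℕ}
    (h : Associated ((X : PowerSeries k) ^ a) ((X : PowerSeries k) ^ b)) : a = b := by
  obtain ⟨u, hu⟩ := h
  have h1 := congrArg PowerSeries.order hu
  rw [order_mul, order_X_pow, order_X_pow, order_zero_of_unit u.isUnit, add_zero] at h1
  exact_mod_cast h1

variable {St : Type*} [CommRing St] [Algebra (PowerSeries k) St]

/-- the standard submodule `R·1 + t^n St`. -/
noncomputable def Sn (k : Type*) [Field k] (St : Type*) [CommRing St] [Algebra (PowerSeries k) St] (n : ℕ) :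
    Submodule (PowerSeries k) St :=
  Submodule.span (PowerSeries k) {(1 : St)} ⊔
    Ideal.span {(X : PowerSeries k) ^ n} • (⊤ : Submodule (PowerSeries k) St)

variable (bt : Basis (Fin 2) (PowerSeries k) St) (h0 : bt 0 = 1)
include h0

lemma repr_decomp (s : St) : s = bt.repr s 0 • (1 : St) + bt.repr s 1 • bt 1 := by
  conv_lhs => rw [← bt.sum_repr s, Fin.sum_univ_two, h0]

lemma mem_Sn_iff (n : ℕ) (s : St) : s ∈ Sn k St n ↔ (X : PowerSeries k) ^ n ∣ bt.repr s 1 := by
  constructor
  · intro hs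
    rw [Sn, Submodule.ideal_span_singleton_smul] at hs
    obtain ⟨y, hy, z, hz, rfl⟩ := Submodule.mem_sup.mp hs
    obtain ⟨a, rfl⟩ := Submodule.mem_span_singleton.mp hy
    obtain ⟨w, -, rfl⟩ := (Submodule.mem_smul_pointwise_iff_exists _ _ _).mp hz
    rw [map_add, map_smul, map_smul, ← h0, Basis.repr_self]
    simp only [Finsupp.coe_add, Finsupp.coe_smul, Pi.add_apply, Pi.smul_apply, smul_eq_mul]
    rw [Finsupp.single_apply, if_neg (by decide), mul_zero, zero_add]
    exact Dvd.intro _ rfl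
  · rintro ⟨c, hc⟩
    rw [repr_decomp bt h0 s, hc, Sn, Submodule.ideal_span_singleton_smul]
    refine Submodule.add_mem_sup (Submodule.smul_mem _ _ (Submodule.mem_span_singleton_self _)) ?_
    rw [mul_smul]
    exact Submodule.smul_mem_pointwise_smul _ _ _ Submodule.mem_top

lemma X_pow_smul_mem_Sn (n : ℕ) : (X : PowerSeries k) ^ n • bt 1 ∈ Sn k St n := by
  rw [mem_Sn_iff bt h0, map_smul, Basis.repr_self]
  simp

/-- a rank-two subalgebra is `R·1 + t^n St`. -/
theorem exists_eq_Sn (S : Subalgebra (PowerSeries k) St) (bS : Basis (Fin 2) (PowerSeries k) S) :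
    ∃ n : ℕ, Subalgebra.toSubmodule S = Sn k St n := by
  set I : Ideal (PowerSeries k) := Submodule.map (bt.coord 1) (Subalgebra.toSubmodule S) with hI
  have hD := det_ne_zero bt S (subBasis S bS)
  have hIne : I ≠ ⊥ := by
    intro hbot
    apply hD
    apply Matrix.det_eq_zero_of_row_eq_zero 1
    intro j
    rw [Basis.toMatrix_apply]
    have : bt.coord 1 ((subBasis S bS j : Subalgebra.toSubmodule S) : St) ∈ I :=
      Submodule.mem_map_of_mem (subBasis S bS j).2
    rw [hbot] at this
    exact this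
  obtain ⟨n, hn⟩ := IsDiscreteValuationRing.ideal_eq_span_pow_irreducible hIne
    (PowerSeries.X_irreducible (R := k))
  refine ⟨n, ?_⟩
  have hXn : (X : PowerSeries k) ^ n • bt 1 ∈ S := by
    have : (X : PowerSeries k) ^ n ∈ I := by rw [hn]; exact Ideal.mem_span_singleton_self _
    obtain ⟨s₀, hs₀, hs₀'⟩ := this
    have hdec := repr_decomp bt h0 s₀
    have hcoord : bt.repr s₀ 1 = (X : PowerSeries k) ^ n := hs₀'
    rw [hcoord] at hdec
    have : (X : PowerSeries k) ^ n • bt 1 = s₀ - bt.repr s₀ 0 • (1 : St) := by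
      rw [eq_sub_iff_add_eq, add_comm]; exact hdec.symm
    rw [this]
    exact S.sub_mem hs₀ (S.smul_mem S.one_mem _)
  apply le_antisymm
  · intro s hs
    rw [mem_Sn_iff bt h0]
    have : bt.coord 1 s ∈ I := Submodule.mem_map_of_mem hs
    rw [hn, Ideal.mem_span_singleton] at this
    exact this
  · intro s hs
    obtain ⟨c, hc⟩ := (mem_Sn_iff bt h0 n s).mp hs
    rw [repr_decomp bt h0 s, hc, mul_comm, mul_smul]
    exact S.add_mem (S.smul_mem S.one_mem _) (S.smul_mem hXn _)

/-- the standard basis `(1, t^n ε)` of a subalgebra equal to `R·1 + t^n St`. -/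
theorem exists_basis (S : Subalgebra (PowerSeries k) St) (n : ℕ)
    (hS : Subalgebra.toSubmodule S = Sn k St n) :
    ∃ b' : Basis (Fin 2) (PowerSeries k) S,
      ((b' 0 : S) : St) = 1 ∧ ((b' 1 : S) : St) = (X : PowerSeries k) ^ n • bt 1 := by
  have hmem : (X : PowerSeries k) ^ n • bt 1 ∈ S := by
    have := X_pow_smul_mem_Sn bt h0 n
    rw [← hS] at this
    exact this
  let v : Fin 2 → S := ![1, ⟨(X : PowerSeries k) ^ n • bt 1, hmem⟩]
  have hli : LinearIndependent (PowerSeries k) v := by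
    rw [Fintype.linearIndependent_iff]
    intro c hc
    rw [Fin.sum_univ_two] at hc
    have hc' : c 0 • bt 0 + (c 1 * (X : PowerSeries k) ^ n) • bt 1 = 0 := by
      have := congrArg (Subtype.val : S → St) hc
      simp only [v, Matrix.cons_val_zero, Matrix.cons_val_one, Subalgebra.coe_add,
        Subalgebra.coe_smul, Subalgebra.coe_one, Subalgebra.coe_zero] at this
      rw [h0, mul_smul]; exact this
    have h := congrArg bt.repr hc'
    rw [map_add, map_smul, map_smul, Basis.repr_self, Basis.repr_self, map_zero] at h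
    have e0 := DFunLike.congr_fun h 0
    have e1 := DFunLike.congr_fun h 1
    simp at e0 e1
    intro i
    fin_cases i
    · exact e0
    · exact e1
  have hsp : ⊤ ≤ Submodule.span (PowerSeries k) (Set.range v) := by
    intro s _
    have hs : (s : St) ∈ Sn k St n := by rw [← hS]; exact s.2
    obtain ⟨c, hc⟩ := (mem_Sn_iff bt h0 n s).mp hs
    have : s = bt.repr (s : St) 0 • v 0 + c • v 1 := by
      apply Subtype.ext
      simp only [v, Matrix.cons_val_zero, Matrix.cons_val_one, Subalgebra.coe_add,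
        Subalgebra.coe_smul, Subalgebra.coe_one]
      conv_lhs => rw [repr_decomp bt h0 (s : St), hc, mul_comm, mul_smul]
    rw [this]
    exact Submodule.add_mem _ (Submodule.smul_mem _ _ (Submodule.subset_span ⟨0, rfl⟩))
      (Submodule.smul_mem _ _ (Submodule.subset_span ⟨1, rfl⟩))
  refine ⟨Basis.mk hli hsp, ?_, ?_⟩
  · rw [Basis.mk_apply]; rfl
  · rw [Basis.mk_apply]; rfl

variable (δ : PowerSeries k) (hε : bt 1 * bt 1 = algebraMap (PowerSeries k) St δ)
include hε

lemma trace_bt_one : Algebra.trace (PowerSeries k) St (bt 1) = 0 := by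
  rw [Algebra.trace_eq_matrix_trace bt, Matrix.trace_fin_two, Algebra.leftMulMatrix_eq_repr_mul,
    Algebra.leftMulMatrix_eq_repr_mul, hε, h0, mul_one, Basis.repr_self,
    Algebra.algebraMap_eq_smul_one, ← h0, map_smul, Basis.repr_self]
  simp

lemma discr_bt : Algebra.discr (PowerSeries k) bt = 4 * δ := by
  have t00 : Algebra.trace (PowerSeries k) St (bt 0 * bt 0) = 2 := by
    rw [h0, mul_one, ← map_one (algebraMap (PowerSeries k) St),
      Algebra.trace_algebraMap_of_basis bt]
    simp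
  have t01 : Algebra.trace (PowerSeries k) St (bt 0 * bt 1) = 0 := by
    rw [h0, one_mul]; exact trace_bt_one bt h0 δ hε
  have t10 : Algebra.trace (PowerSeries k) St (bt 1 * bt 0) = 0 := by
    rw [h0, mul_one]; exact trace_bt_one bt h0 δ hε
  have t11 : Algebra.trace (PowerSeries k) St (bt 1 * bt 1) = 2 * δ := by
    rw [hε, Algebra.trace_algebraMap_of_basis bt]
    simp
  rw [Algebra.discr_def, Matrix.det_fin_two]
  simp only [Algebra.traceMatrix_apply, Algebra.traceForm_apply, t00, t01, t10, t11]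
  ring

lemma discr_of_basis (S : Subalgebra (PowerSeries k) St) (n : ℕ)
    (b' : Basis (Fin 2) (PowerSeries k) S) (hb0 : ((b' 0 : S) : St) = 1)
    (hb1 : ((b' 1 : S) : St) = (X : PowerSeries k) ^ n • bt 1) :
    Algebra.discr (PowerSeries k) b' = ((X : PowerSeries k) ^ n) ^ 2 * (4 * δ) := by
  rw [discr_eq bt S b', discr_bt bt h0 δ hε, Matrix.det_fin_two]
  simp only [Basis.toMatrix_apply, hb0, hb1, map_smul]
  rw [← h0, Basis.repr_self, Basis.repr_self]
  simp

theorem discr_assoc [CharZero k] (S : Subalgebra (PowerSeries k) St)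
    (bS : Basis (Fin 2) (PowerSeries k) S) (n : ℕ) (hS : Subalgebra.toSubmodule S = Sn k St n) :
    Associated (Algebra.discr (PowerSeries k) bS) ((X : PowerSeries k) ^ (2 * n) * δ) := by
  obtain ⟨b', hb0, hb1⟩ := exists_basis bt h0 S n hS
  have h1 : Algebra.discr (PowerSeries k) bS =
      (b'.toMatrix bS).det ^ 2 * Algebra.discr (PowerSeries k) b' := by
    rw [← Algebra.discr_of_matrix_vecMul, Basis.toMatrix_map_vecMul]
  have hu : IsUnit (b'.toMatrix bS).det := by
    have h : b'.toMatrix bS * bS.toMatrix b' = 1 := Basis.toMatrix_mul_toMatrix_flip b' bS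
    have := congrArg Matrix.det h
    rw [Matrix.det_mul, Matrix.det_one] at this
    exact IsUnit.of_mul_eq_one _ this
  have h4 : IsUnit (4 : PowerSeries k) := by
    rw [PowerSeries.isUnit_iff_constantCoeff]
    have : (4 : PowerSeries k) = C (4 : k) := (map_ofNat C 4).symm
    rw [this, constantCoeff_C]
    exact isUnit_iff_ne_zero.mpr (by norm_num)
  rw [h1, discr_of_basis bt h0 δ hε S n b' hb0 hb1]
  obtain ⟨u, hu'⟩ := hu
  obtain ⟨w, hw⟩ := h4
  refine ⟨(u⁻¹) ^ 2 * w⁻¹, ?_⟩
  rw [← hu', ← hw]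
  have e1 : (u : PowerSeries k) * ↑u⁻¹ = 1 := Units.mul_inv u
  have e2 : (w : PowerSeries k) * ↑w⁻¹ = 1 := Units.mul_inv w
  simp only [Units.val_mul, Units.val_pow_eq_pow_val]
  rw [pow_mul]
  linear_combination ((X : PowerSeries k) ^ 2) ^ n * δ *
    ((w : PowerSeries k) * ↑w⁻¹ * ((u : PowerSeries k) * ↑u⁻¹ + 1) * e1 + e2)

theorem nonempty_algEquiv (S : Subalgebra (PowerSeries k) St) (n : ℕ)
    (hS : Subalgebra.toSubmodule S = Sn k St n) :
    Nonempty (S ≃ₐ[PowerSeries k]
      AdjoinRoot (Polynomial.X ^ 2 - Polynomial.C ((X : PowerSeries k) ^ (2 * n) * δ))) := by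
  obtain ⟨b', hb0, hb1⟩ := exists_basis bt h0 S n hS
  set c : PowerSeries k := (X : PowerSeries k) ^ (2 * n) * δ with hc
  set f : Polynomial (PowerSeries k) := Polynomial.X ^ 2 - Polynomial.C c with hf
  have hb0' : b' 0 = 1 := Subtype.ext hb0
  have hηη : b' 1 * b' 1 = algebraMap (PowerSeries k) S c := by
    apply Subtype.ext
    rw [Subalgebra.coe_mul, hb1, Subalgebra.coe_algebraMap, smul_mul_smul_comm, hε, hc, map_mul,
      ← pow_two, ← pow_mul, mul_comm n 2, Algebra.smul_def]
  have hev : f.eval₂ (Algebra.ofId (PowerSeries k) S) (b' 1) = 0 := by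
    rw [hf, Polynomial.eval₂_sub, Polynomial.eval₂_pow, Polynomial.eval₂_X, Polynomial.eval₂_C,
      pow_two, hηη]
    exact sub_self _
  let φ : AdjoinRoot f →ₐ[PowerSeries k] S :=
    AdjoinRoot.liftAlgHom f (Algebra.ofId (PowerSeries k) S) (b' 1) hev
  have hmonic : f.Monic := by
    rw [hf]; exact Polynomial.monic_X_pow_sub_C c (by norm_num)
  have hrep : ∀ z : AdjoinRoot f, ∃ a d : PowerSeries k,
      z = AdjoinRoot.of f a + AdjoinRoot.of f d * AdjoinRoot.root f := by
    intro z
    obtain ⟨P, rfl⟩ := AdjoinRoot.mk_surjective z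
    have h1 : AdjoinRoot.mk f P = AdjoinRoot.mk f (P %ₘ f) := by
      rw [AdjoinRoot.mk_eq_mk]
      exact ⟨P /ₘ f, by linear_combination -(Polynomial.modByMonic_add_div P f)⟩
    have hdeg : (P %ₘ f).natDegree ≤ 1 := by
      have h2 : f.natDegree = 2 := by
        rw [hf]; exact Polynomial.natDegree_X_pow_sub_C
      by_cases hf1 : f = 1
      · exfalso; rw [hf1, Polynomial.natDegree_one] at h2; omega
      have := Polynomial.natDegree_modByMonic_lt P hmonic hf1
      omega
    refine ⟨(P %ₘ f).coeff 0, (P %ₘ f).coeff 1, ?_⟩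
    rw [h1]
    conv_lhs => rw [Polynomial.eq_X_add_C_of_natDegree_le_one hdeg]
    rw [map_add, map_mul, AdjoinRoot.mk_C, AdjoinRoot.mk_C, AdjoinRoot.mk_X, add_comm]
  have hφ : ∀ a d : PowerSeries k,
      φ (AdjoinRoot.of f a + AdjoinRoot.of f d * AdjoinRoot.root f) = a • b' 0 + d • b' 1 := by
    intro a d
    rw [map_add, map_mul, AdjoinRoot.liftAlgHom_of, AdjoinRoot.liftAlgHom_of,
      AdjoinRoot.liftAlgHom_root, hb0', Algebra.smul_def, Algebra.smul_def, mul_one]
    rfl
  have hinj : Function.Injective φ := by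
    rw [injective_iff_map_eq_zero]
    intro z hz
    obtain ⟨a, d, rfl⟩ := hrep z
    rw [hφ] at hz
    have hli := Fintype.linearIndependent_iff.mp b'.linearIndependent ![a, d]
      (by rw [Fin.sum_univ_two]; simpa using hz)
    have ha : a = 0 := by simpa using hli 0
    have hd : d = 0 := by simpa using hli 1
    rw [ha, hd, map_zero, zero_mul, add_zero]
  have hsurj : Function.Surjective φ := by
    intro s
    refine ⟨AdjoinRoot.of f (b'.repr s 0) + AdjoinRoot.of f (b'.repr s 1) * AdjoinRoot.root f, ?_⟩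
    rw [hφ]
    conv_rhs => rw [← b'.sum_repr s, Fin.sum_univ_two]
  exact ⟨(AlgEquiv.ofBijective φ ⟨hinj, hsurj⟩).symm⟩

theorem final [CharZero k] (e : ℕ) (hδ : δ = (X : PowerSeries k) ^ e) (b : ℕ)
    (S : Subalgebra (PowerSeries k) St) :
    ((∃ bS : Basis (Fin 2) (PowerSeries k) S,
      Ideal.span {Algebra.discr (PowerSeries k) ⇑bS} = Ideal.span {(X : PowerSeries k) ^ b}) ↔
    ∃ n : ℕ, b = 2 * n + e ∧
      Subalgebra.toSubmodule S = Submodule.span (PowerSeries k) {(1 : St)} ⊔
        Ideal.span {(X : PowerSeries k) ^ n} • (⊤ : Submodule (PowerSeries k) St)) ∧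
    (∀ n : ℕ, Subalgebra.toSubmodule S = Submodule.span (PowerSeries k) {(1 : St)} ⊔
        Ideal.span {(X : PowerSeries k) ^ n} • (⊤ : Submodule (PowerSeries k) St) →
      Nonempty (S ≃ₐ[PowerSeries k]
        AdjoinRoot (Polynomial.X ^ 2 - Polynomial.C ((X : PowerSeries k) ^ (2 * n + e))))) := by
  refine ⟨⟨?_, ?_⟩, ?_⟩
  · rintro ⟨bS, hdisc⟩
    obtain ⟨n, hn⟩ := exists_eq_Sn bt h0 S bS
    refine ⟨n, ?_, hn⟩
    have h1 := discr_assoc bt h0 δ hε S bS n hn
    have h2 : Associated (Algebra.discr (PowerSeries k) bS) ((X : PowerSeries k) ^ b) :=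
      Ideal.span_singleton_eq_span_singleton.mp hdisc
    rw [hδ, ← pow_add] at h1
    exact X_pow_assoc_inj (h2.symm.trans h1)
  · rintro ⟨n, hb, hS⟩
    obtain ⟨b', -, -⟩ := exists_basis bt h0 S n hS
    refine ⟨b', Ideal.span_singleton_eq_span_singleton.mpr ?_⟩
    have h1 := discr_assoc bt h0 δ hε S b' n hS
    rw [hδ, ← pow_add, ← hb] at h1
    exact h1
  · intro n hS
    have := nonempty_algEquiv bt h0 δ hε S n hS
    rw [hδ, ← pow_add] at this
    exact this

end

end Groth.Agent.Lib.Helper16Crimp2
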