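import Mathlib

/-!
# A weight-graded diamond lemma for commutative polynomial rings (helper16)

Rewriting rules `monomial (μ s) 1 → f s` where every monomial of `f s` has strictly smaller
weight than `μ s` (for an additive weight `ω`).  If all pairs of rules are resolvable
(`Resolvable`), the normal monomials are linearly independent modulo the ideal generated by
the rule polynomials `gg s = monomial (μ s) 1 - f s`; they always span.
-/

set_option autoImplicit false
set_option linter.style.haveILetI false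
set_option linter.unusedSectionVars false

namespace Helper16Diamond

open MvPolynomial

variable {σ : Type*} {R : Type*} [CommRing R] {S : Type*}
variable (μ : S → σ →₀ ℕ) (f : S → MvPolynomial σ R) (ω : (σ →₀ ℕ) →+ ℕ)

/-- the rule polynomials -/
noncomputable def gg (s : S) : MvPolynomial σ R := monomial (μ s) 1 - f s

/-- bounded-weight part of the rule ideal -/
noncomputable def Ilt (w : ℕ) : Submodule R (MvPolynomial σ R) :=
  Submodule.span R {q | ∃ ν s, ω ν + ω (μ s) < w ∧ q = monomial ν 1 * gg μ f s}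

/-- normal monomials -/
def Normal (ν : σ →₀ ℕ) : Prop := ∀ s, ¬ μ s ≤ ν

/-- span of normal monomials -/
noncomputable def Nspan : Submodule R (MvPolynomial σ R) :=
  Submodule.span R {q | ∃ ν, Normal μ ν ∧ q = monomial ν 1}

/-- resolvability of a pair of rules -/
def Resolvable (s t : S) : Prop :=
  ∀ κ, μ s ≤ κ → μ t ≤ κ →
    monomial (κ - μ s) 1 * f s - monomial (κ - μ t) 1 * f t ∈ Ilt μ f ω (ω κ)

theorem Ilt_mono {w w' : ℕ} (h : w ≤ w') : Ilt μ f ω w ≤ Ilt μ f ω w' := by
  refine Submodule.span_mono ?_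
  rintro q ⟨ν, s, hw, rfl⟩
  exact ⟨ν, s, lt_of_lt_of_le hw h, rfl⟩

theorem monomial_mul_mem {w : ℕ} {q : MvPolynomial σ R} (hq : q ∈ Ilt μ f ω w) (τ : σ →₀ ℕ) :
    monomial τ 1 * q ∈ Ilt μ f ω (ω τ + w) := by
  unfold Ilt at hq ⊢
  induction hq using Submodule.span_induction with
  | mem x hx =>
    obtain ⟨ν, s, hw, rfl⟩ := hx
    refine Submodule.subset_span ⟨τ + ν, s, ?_, ?_⟩
    · rw [map_add]; omega
    · rw [← mul_assoc, monomial_mul, one_mul]
  | zero => rw [mul_zero]; exact zero_mem _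
  | add x y _ _ hx hy => rw [mul_add]; exact add_mem hx hy
  | smul a x _ hx => rw [mul_smul_comm]; exact Submodule.smul_mem _ _ hx

theorem term_mem (a : R) (ν : σ →₀ ℕ) (s : S) (b : ℕ) (h : ω ν + ω (μ s) < b) :
    C a * (monomial ν 1 * gg μ f s) ∈ Ilt μ f ω b := by
  rw [C_mul']
  exact Submodule.smul_mem _ _ (Submodule.subset_span ⟨ν, s, h, rfl⟩)

theorem mul_gg_mem (p : MvPolynomial σ R) (s : S) (b : ℕ)
    (hp : ∀ κ ∈ p.support, ω κ + ω (μ s) < b) : p * gg μ f s ∈ Ilt μ f ω b := by
  have h1 : p * gg μ f s = ∑ κ ∈ p.support, coeff κ p • (monomial κ 1 * gg μ f s) := by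
    conv_lhs => rw [p.as_sum, Finset.sum_mul]
    refine Finset.sum_congr rfl fun κ _ => ?_
    rw [← smul_mul_assoc, smul_monomial, smul_eq_mul, mul_one]
  rw [h1]
  refine Submodule.sum_mem _ fun κ hκ => ?_
  exact Submodule.smul_mem _ _ (Submodule.subset_span ⟨κ, s, hp κ hκ, rfl⟩)

theorem resolvable_of_eq {s t : S} (hμ : μ s = μ t) (hf : f s = f t) : Resolvable μ f ω s t := by
  intro κ _ _
  rw [hμ, hf, sub_self]; exact zero_mem _

theorem Resolvable.symm {s t : S} (h : Resolvable μ f ω s t) : Resolvable μ f ω t s := by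
  intro κ h1 h2
  have := h κ h2 h1
  rw [← neg_sub]; exact neg_mem this

theorem resolvable_congr_left {s s' t : S} (hμ : μ s = μ s') (hf : f s = f s')
    (h : Resolvable μ f ω s t) : Resolvable μ f ω s' t := by
  intro κ h1 h2
  rw [← hμ, ← hf]
  exact h κ (hμ ▸ h1) h2

theorem resolvable_congr_right {s t t' : S} (hμ : μ t = μ t') (hf : f t = f t')
    (h : Resolvable μ f ω s t) : Resolvable μ f ω s t' := by
  intro κ h1 h2
  rw [← hμ, ← hf]
  exact h κ h1 (hμ ▸ h2)

theorem resolvable_of_lcm {s t : S} (α β : σ →₀ ℕ) (hαβ : α + μ s = β + μ t)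
    (hl : ∀ κ, μ s ≤ κ → μ t ≤ κ → α + μ s ≤ κ)
    (hS : monomial α 1 * f s - monomial β 1 * f t ∈ Ilt μ f ω (ω (α + μ s))) :
    Resolvable μ f ω s t := by
  intro κ h1 h2
  have hle := hl κ h1 h2
  obtain ⟨τ, hτ⟩ : ∃ τ, κ = τ + (α + μ s) := ⟨κ - (α + μ s), (tsub_add_cancel_of_le hle).symm⟩
  have e1 : κ - μ s = τ + α := by rw [hτ, ← add_assoc, add_tsub_cancel_right]
  have e2 : κ - μ t = τ + β := by rw [hτ, hαβ, ← add_assoc, add_tsub_cancel_right]
  rw [e1, e2]
  have := monomial_mul_mem μ f ω hS τ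
  have e3 : ω κ = ω τ + ω (α + μ s) := by rw [hτ, map_add]
  rw [e3]
  convert this using 1
  rw [mul_sub, ← mul_assoc, ← mul_assoc, monomial_mul, monomial_mul, one_mul]

theorem resolvable_of_coprime (hf : ∀ s, ∀ κ ∈ (f s).support, ω κ < ω (μ s)) {s t : S}
    (hco : ∀ y, μ s y = 0 ∨ μ t y = 0) : Resolvable μ f ω s t := by
  refine resolvable_of_lcm μ f ω (μ t) (μ s) (add_comm _ _) ?_ ?_
  · intro κ h1 h2
    rw [Finsupp.le_def] at h1 h2 ⊢
    intro y
    rw [Finsupp.add_apply]
    rcases hco y with h | h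
    · rw [h, add_zero]; exact h2 y
    · rw [h, zero_add]; exact h1 y
  · have : monomial (μ t) 1 * f s - monomial (μ s) 1 * f t =
        f s * gg μ f t - f t * gg μ f s := by
      unfold gg; ring
    rw [this]
    refine sub_mem (mul_gg_mem μ f ω _ _ _ ?_) (mul_gg_mem μ f ω _ _ _ ?_)
    · intro κ hκ; have := hf s κ hκ; rw [map_add]; omega
    · intro κ hκ; have := hf t κ hκ; rw [map_add]; omega

theorem weight_lt_of_mem_support_monomial_mul
    (hf : ∀ s, ∀ κ ∈ (f s).support, ω κ < ω (μ s)) (ν : σ →₀ ℕ) (s : S)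
    {κ : σ →₀ ℕ} (hκ : κ ∈ (monomial ν (1 : R) * f s).support) : ω κ < ω ν + ω (μ s) := by
  classical
  have h1 := MvPolynomial.support_mul (monomial ν (1 : R)) (f s) hκ
  rw [Finset.mem_add] at h1
  obtain ⟨x, hx, y, hy, rfl⟩ := h1
  have hx' : x = ν := by
    have := MvPolynomial.support_monomial_subset hx
    simpa using this
  rw [map_add, hx']
  have := hf s y hy
  omega

theorem map_eq_of_support_lt (ρ ρ' : MvPolynomial σ R →ₗ[R] MvPolynomial σ R) (w : ℕ)
    (h : ∀ κ, ω κ < w → ρ' (monomial κ 1) = ρ (monomial κ 1)) (p : MvPolynomial σ R)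
    (hp : ∀ κ ∈ p.support, ω κ < w) : ρ' p = ρ p := by
  have h1 : p = ∑ κ ∈ p.support, coeff κ p • monomial κ (1 : R) := by
    conv_lhs => rw [p.as_sum]
    refine Finset.sum_congr rfl fun κ _ => ?_
    rw [smul_monomial, smul_eq_mul, mul_one]
  rw [h1, map_sum, map_sum]
  refine Finset.sum_congr rfl fun κ hκ => ?_
  rw [map_smul, map_smul, h κ (hp κ hκ)]

theorem exists_rho (hf : ∀ s, ∀ κ ∈ (f s).support, ω κ < ω (μ s))
    (hres : ∀ s t, Resolvable μ f ω s t) (w : ℕ) :
    ∃ ρ : MvPolynomial σ R →ₗ[R] MvPolynomial σ R,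
      (∀ ν, Normal μ ν → ρ (monomial ν 1) = monomial ν 1) ∧ ∀ q ∈ Ilt μ f ω w, ρ q = 0 := by
  classical
  induction w with
  | zero =>
    refine ⟨LinearMap.id, fun _ _ => rfl, ?_⟩
    intro q hq
    have : Ilt μ f ω 0 = ⊥ := by
      unfold Ilt
      rw [Submodule.span_eq_bot]
      rintro q ⟨ν, s, hw, -⟩
      exact absurd hw (Nat.not_lt_zero _)
    rw [this] at hq
    simpa using hq
  | succ w ih =>
    obtain ⟨ρ, hN, hK⟩ := ih
    let val : (σ →₀ ℕ) → MvPolynomial σ R := fun κ =>
      if h : ω κ = w ∧ ∃ s, μ s ≤ κ then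
        ρ (monomial (κ - μ h.2.choose) 1 * f h.2.choose) else ρ (monomial κ 1)
    let ρ' : MvPolynomial σ R →ₗ[R] MvPolynomial σ R := (basisMonomials σ R).constr R val
    have hρ' : ∀ κ, ρ' (monomial κ 1) = val κ := fun κ => by
      have := (basisMonomials σ R).constr_basis R val κ
      rwa [coe_basisMonomials] at this
    have hlow : ∀ κ, ω κ < w → ρ' (monomial κ 1) = ρ (monomial κ 1) := by
      intro κ hκ
      rw [hρ']
      simp only [val]
      rw [dif_neg]
      rintro ⟨h1, -⟩
      omega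
    refine ⟨ρ', ?_, ?_⟩
    · intro ν hν
      rw [hρ']
      simp only [val]
      rw [dif_neg]
      · exact hN ν hν
      · rintro ⟨-, s, hs⟩
        exact hν s hs
    · intro q hq
      have hle : Ilt μ f ω (w + 1) ≤ LinearMap.ker ρ' := by
        unfold Ilt
        rw [Submodule.span_le]
        rintro q ⟨ν, s, hw, rfl⟩
        rw [SetLike.mem_coe, LinearMap.mem_ker]
        have hexp : monomial ν 1 * gg μ f s = monomial (ν + μ s) 1 - monomial ν 1 * f s := by
          unfold gg
          rw [mul_sub, monomial_mul, one_mul]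
        have hsupp : ∀ κ ∈ (monomial ν (1 : R) * f s).support, ω κ < ω ν + ω (μ s) :=
          fun κ hκ => weight_lt_of_mem_support_monomial_mul μ f ω hf ν s hκ
        have h2 : ρ' (monomial ν 1 * f s) = ρ (monomial ν 1 * f s) := by
          refine map_eq_of_support_lt ω ρ ρ' w hlow _ ?_
          intro κ hκ
          have := hsupp κ hκ
          omega
        rw [hexp, map_sub, h2]
        by_cases hcase : ω ν + ω (μ s) < w
        · rw [hlow _ (by rw [map_add]; exact hcase), ← map_sub, ← hexp]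
          exact hK _ (Submodule.subset_span ⟨ν, s, hcase, rfl⟩)
        · have hw' : ω (ν + μ s) = w := by rw [map_add]; omega
          have hex : ∃ s', μ s' ≤ ν + μ s := ⟨s, le_add_self⟩
          rw [hρ']
          simp only [val]
          rw [dif_pos ⟨hw', hex⟩, ← map_sub]
          have h0 : μ hex.choose ≤ ν + μ s := hex.choose_spec
          have := hres hex.choose s (ν + μ s) h0 le_add_self
          rw [add_tsub_cancel_right, hw'] at this
          exact hK _ this
      exact hle hq

theorem mem_Ilt_of_mem_span {p : MvPolynomial σ R}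
    (hp : p ∈ Ideal.span (Set.range (gg μ f))) : ∃ w, p ∈ Ilt μ f ω w := by
  classical
  induction hp using Submodule.span_induction with
  | mem x hx =>
    obtain ⟨s, rfl⟩ := hx
    refine ⟨ω 0 + ω (μ s) + 1, Submodule.subset_span ⟨0, s, Nat.lt_succ_self _, ?_⟩⟩
    simp
  | zero => exact ⟨0, zero_mem _⟩
  | add x y _ _ hx hy =>
    obtain ⟨w1, h1⟩ := hx
    obtain ⟨w2, h2⟩ := hy
    exact ⟨max w1 w2, add_mem (Ilt_mono μ f ω (le_max_left _ _) h1)
      (Ilt_mono μ f ω (le_max_right _ _) h2)⟩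
  | smul a x _ hx =>
    obtain ⟨w, hw⟩ := hx
    refine ⟨a.support.sup ω + w, ?_⟩
    have h1 : a • x = ∑ τ ∈ a.support, coeff τ a • (monomial τ 1 * x) := by
      rw [smul_eq_mul]
      conv_lhs => rw [a.as_sum, Finset.sum_mul]
      refine Finset.sum_congr rfl fun κ _ => ?_
      rw [← smul_mul_assoc, smul_monomial, smul_eq_mul, mul_one]
    rw [h1]
    refine Submodule.sum_mem _ fun τ hτ => Submodule.smul_mem _ _ ?_
    refine Ilt_mono μ f ω ?_ (monomial_mul_mem μ f ω hw τ)
    exact Nat.add_le_add_right (Finset.le_sup hτ) _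

/-- **Diamond lemma**: a combination of normal monomials lying in the rule ideal vanishes. -/
theorem eq_zero_of_mem (hf : ∀ s, ∀ κ ∈ (f s).support, ω κ < ω (μ s))
    (hres : ∀ s t, Resolvable μ f ω s t) {p : MvPolynomial σ R}
    (hpN : p ∈ Nspan (R := R) μ) (hpI : p ∈ Ideal.span (Set.range (gg μ f))) : p = 0 := by
  obtain ⟨w, hw⟩ := mem_Ilt_of_mem_span μ f ω hpI
  obtain ⟨ρ, hN, hK⟩ := exists_rho μ f ω hf hres w
  have h1 : ρ p = p := by
    have : Set.EqOn ρ (LinearMap.id : MvPolynomial σ R →ₗ[R] MvPolynomial σ R)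
        (Nspan (R := R) μ) := by
      refine LinearMap.eqOn_span ?_
      rintro _ ⟨ν, hν, rfl⟩
      exact hN ν hν
    exact this hpN
  rw [← h1]; exact hK p hw

/-- Normal monomials span modulo the rule ideal. -/
theorem exists_rep (hf : ∀ s, ∀ κ ∈ (f s).support, ω κ < ω (μ s)) (p : MvPolynomial σ R) :
    ∃ r ∈ Nspan (R := R) μ, p - r ∈ Ideal.span (Set.range (gg μ f)) := by
  classical
  let M : Submodule R (MvPolynomial σ R) :=
    Nspan (R := R) μ ⊔ (Ideal.span (Set.range (gg μ f))).restrictScalars R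
  have key : ∀ n : ℕ, ∀ κ, ω κ < n → monomial κ (1 : R) ∈ M := by
    intro n
    induction n with
    | zero => intro κ h; exact absurd h (Nat.not_lt_zero _)
    | succ n ih =>
      intro κ hκ
      by_cases hn : Normal μ κ
      · exact Submodule.mem_sup_left (Submodule.subset_span ⟨κ, hn, rfl⟩)
      · unfold Normal at hn
        push Not at hn
        obtain ⟨s, hs⟩ := hn
        have e : monomial κ (1 : R) =
            monomial (κ - μ s) 1 * gg μ f s + monomial (κ - μ s) 1 * f s := by
          unfold gg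
          rw [mul_sub, monomial_mul, one_mul, tsub_add_cancel_of_le hs]
          ring
        rw [e]
        refine add_mem (Submodule.mem_sup_right ?_) ?_
        · exact Ideal.mul_mem_left _ _ (Ideal.subset_span ⟨s, rfl⟩)
        · have h1 : monomial (κ - μ s) (1 : R) * f s =
              ∑ κ' ∈ (monomial (κ - μ s) (1 : R) * f s).support,
                coeff κ' (monomial (κ - μ s) (1 : R) * f s) • monomial κ' (1 : R) := by
            conv_lhs => rw [(monomial (κ - μ s) (1 : R) * f s).as_sum]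
            refine Finset.sum_congr rfl fun κ _ => ?_
            rw [smul_monomial, smul_eq_mul, mul_one]
          rw [h1]
          refine Submodule.sum_mem _ fun κ' hκ' => Submodule.smul_mem _ _ (ih κ' ?_)
          have := weight_lt_of_mem_support_monomial_mul μ f ω hf (κ - μ s) s hκ'
          have h2 : ω (κ - μ s) + ω (μ s) = ω κ := by
            rw [← map_add, tsub_add_cancel_of_le hs]
          omega
  have hp : p ∈ M := by
    have h1 : p = ∑ κ ∈ p.support, coeff κ p • monomial κ (1 : R) := by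
      conv_lhs => rw [p.as_sum]
      refine Finset.sum_congr rfl fun κ _ => ?_
      rw [smul_monomial, smul_eq_mul, mul_one]
    rw [h1]
    exact Submodule.sum_mem _ fun κ _ => Submodule.smul_mem _ _ (key (ω κ + 1) κ (Nat.lt_succ_self _))
  obtain ⟨r, hr, i, hi, hri⟩ := Submodule.mem_sup.1 hp
  refine ⟨r, hr, ?_⟩
  have : p - r = i := by rw [← hri]; ring
  rw [this]
  exact hi

end Helper16Diamond
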