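import Mathlib
import Groth.Prelude.Def_W4c5m1nsnscurvesC
import Groth.Agent.Lib.Helper16Diamond

set_option autoImplicit false
set_option linter.style.haveILetI false
set_option linter.unusedSectionVars false
universe u
open W4c5m1nsnscurves

namespace Helper16CurveGB

open MvPolynomial Helper16Diamond Finsupp

/-- rewriting rules of the curve algebra -/
inductive Rule (m : ℕ) : Type
  | A (i : Fin m) : Rule m
  | B (i : Fin m) : Rule m
  | D (i j : Fin m) (h : i ≠ j) : Rule m
  | E : Rule m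

variable {R : Type u} [CommRing R] {m : ℕ}

/-- leading monomials -/
noncomputable def mu : Rule m → (CVar m →₀ ℕ)
  | .A i => single .x2 1 + single (.xi i) 1
  | .B i => single .x3 1 + single (.xi i) 1
  | .D i j _ => single (.xi i) 1 + single (.xi j) 1
  | .E => single .x2 1 + single .x3 2

variable (v : UGen m → R) (d : R)

/-- right-hand sides -/
noncomputable def ff : Rule m → MvPolynomial (CVar m) R
  | .A i => X .x2 * X .x3 + C (v (.ci i)) * X (.xi i) + C (v (.cbi i)) * X .x2 - C (v .c)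
  | .B i => X .x2 * X .x3 + C (v .a + v (.ci i) + v (.cbi i)) * (X (.xi i) - C (v (.cbi i))) +
      C (v .cb) - C (v .c)
  | .D i j h => X .x2 * X .x3 + C (v (.cij i j h)) * X (.xi j) +
      C (v (.cij j i h.symm)) * X (.xi i) - C (v .c)
  | .E => X .x2 ^ 2 * X .x3 + C (v .a) * (X .x2 * X .x3) + C (v .cb - v .c) * X .x2 +
      C (v .c) * X .x3 + C d

/-- variable weights -/
def wv : CVar m → ℕ
  | .x2 => 1
  | .x3 => 2
  | .xi _ => 3

/-- monomial weight -/
noncomputable def om : (CVar m →₀ ℕ) →+ ℕ := Finsupp.weight wv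

theorem om_single (y : CVar m) (k : ℕ) : om (single y k) = k * wv y := by
  rw [om, Finsupp.weight_single, smul_eq_mul]

/-- polynomials of weight at most `b` -/
noncomputable def WLE (b : ℕ) : Submodule R (MvPolynomial (CVar m) R) where
  carrier := {p | ∀ κ ∈ p.support, om κ ≤ b}
  zero_mem' := by simp
  add_mem' := fun {p q} hp hq κ hκ => by
    classical
    exact (Finset.mem_union.1 (MvPolynomial.support_add hκ)).elim (hp κ) (hq κ)
  smul_mem' := fun a p hp κ hκ => hp κ (MvPolynomial.support_smul hκ)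

theorem mem_WLE {b : ℕ} {p : MvPolynomial (CVar m) R} :
    p ∈ WLE (R := R) (m := m) b ↔ ∀ κ ∈ p.support, om κ ≤ b := Iff.rfl

theorem WLE_mono {b b' : ℕ} (h : b ≤ b') {p : MvPolynomial (CVar m) R}
    (hp : p ∈ WLE (R := R) (m := m) b) : p ∈ WLE (R := R) (m := m) b' :=
  fun κ hκ => le_trans (hp κ hκ) h

theorem C_mem_WLE (a : R) (b : ℕ) : (C a : MvPolynomial (CVar m) R) ∈ WLE b := by
  classical
  intro κ hκ
  have := MvPolynomial.support_monomial_subset (R := R) hκ
  rw [Finset.mem_singleton] at this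
  rw [this, map_zero]
  exact Nat.zero_le _

theorem X_mem_WLE (y : CVar m) : (X y : MvPolynomial (CVar m) R) ∈ WLE (wv y) := by
  classical
  intro κ hκ
  have := MvPolynomial.support_monomial_subset (R := R) (s := single y 1) (a := 1) hκ
  rw [Finset.mem_singleton] at this
  rw [this, om_single, one_mul]

theorem mul_mem_WLE {b1 b2 : ℕ} {p q : MvPolynomial (CVar m) R}
    (hp : p ∈ WLE (R := R) (m := m) b1) (hq : q ∈ WLE (R := R) (m := m) b2) :
    p * q ∈ WLE (R := R) (m := m) (b1 + b2) := by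
  classical
  intro κ hκ
  have h1 := MvPolynomial.support_mul p q hκ
  rw [Finset.mem_add] at h1
  obtain ⟨x, hx, y, hy, rfl⟩ := h1
  rw [map_add]
  exact Nat.add_le_add (hp x hx) (hq y hy)

theorem ff_mem_WLE (s : Rule m) : ff v d s ∈ WLE (R := R) (m := m) (om (mu s) - 1) := by
  rcases s with i | i | ⟨i, j, h⟩ | _
  · have e : om (mu (Rule.A i : Rule m)) - 1 = 3 := by
      simp [mu, om_single, wv]
    rw [e]
    unfold ff
    refine sub_mem (add_mem (add_mem ?_ ?_) ?_) ?_
    · exact WLE_mono (by simp [wv]) (mul_mem_WLE (X_mem_WLE _) (X_mem_WLE _))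
    · exact WLE_mono (by simp [wv]) (mul_mem_WLE (C_mem_WLE _ 0) (X_mem_WLE _))
    · exact WLE_mono (by simp [wv]) (mul_mem_WLE (C_mem_WLE _ 0) (X_mem_WLE _))
    · exact C_mem_WLE _ _
  · have e : om (mu (Rule.B i : Rule m)) - 1 = 4 := by
      simp [mu, om_single, wv]
    rw [e]
    unfold ff
    refine sub_mem (add_mem (add_mem ?_ ?_) ?_) ?_
    · exact WLE_mono (by simp [wv]) (mul_mem_WLE (X_mem_WLE _) (X_mem_WLE _))
    · exact WLE_mono (by simp [wv]) (mul_mem_WLE (C_mem_WLE _ 0)
        (sub_mem (X_mem_WLE _) (C_mem_WLE _ _)))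
    · exact C_mem_WLE _ _
    · exact C_mem_WLE _ _
  · have e : om (mu (Rule.D i j h : Rule m)) - 1 = 5 := by
      simp [mu, om_single, wv]
    rw [e]
    unfold ff
    refine sub_mem (add_mem (add_mem ?_ ?_) ?_) ?_
    · exact WLE_mono (by simp [wv]) (mul_mem_WLE (X_mem_WLE _) (X_mem_WLE _))
    · exact WLE_mono (by simp [wv]) (mul_mem_WLE (C_mem_WLE _ 0) (X_mem_WLE _))
    · exact WLE_mono (by simp [wv]) (mul_mem_WLE (C_mem_WLE _ 0) (X_mem_WLE _))
    · exact C_mem_WLE _ _
  · have e : om (mu (Rule.E : Rule m)) - 1 = 4 := by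
      simp [mu, om_single, wv]
    rw [e]
    unfold ff
    refine add_mem (add_mem (add_mem (add_mem ?_ ?_) ?_) ?_) ?_
    · rw [pow_two]
      exact WLE_mono (by simp [wv])
        (mul_mem_WLE (mul_mem_WLE (X_mem_WLE _) (X_mem_WLE _)) (X_mem_WLE _))
    · exact WLE_mono (by simp [wv])
        (mul_mem_WLE (C_mem_WLE _ 0) (mul_mem_WLE (X_mem_WLE _) (X_mem_WLE _)))
    · exact WLE_mono (by simp [wv]) (mul_mem_WLE (C_mem_WLE _ 0) (X_mem_WLE _))
    · exact WLE_mono (by simp [wv]) (mul_mem_WLE (C_mem_WLE _ 0) (X_mem_WLE _))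
    · exact C_mem_WLE _ _

theorem om_mu_pos (s : Rule m) : 0 < om (mu s) := by
  rcases s with i | i | ⟨i, j, h⟩ | _ <;> simp [mu, om_single, wv]

theorem hf_ff : ∀ s : Rule m, ∀ κ ∈ (ff v d s).support, om κ < om (mu s) := by
  intro s κ hκ
  have h1 := ff_mem_WLE v d s κ hκ
  have h2 := om_mu_pos (m := m) s
  omega

section le_lemmas
variable {σ : Type*}

theorem single2_le_iff {y y' : σ} (hne : y ≠ y') (p q : ℕ) (ν : σ →₀ ℕ) :
    single y p + single y' q ≤ ν ↔ p ≤ ν y ∧ q ≤ ν y' := by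
  classical
  rw [Finsupp.le_def]
  constructor
  · intro h
    have h1 := h y
    have h2 := h y'
    simp only [Finsupp.add_apply, Finsupp.single_apply, if_true, if_neg hne,
      if_neg hne.symm, add_zero, zero_add] at h1 h2
    exact ⟨h1, h2⟩
  · rintro ⟨h1, h2⟩ z
    simp only [Finsupp.add_apply, Finsupp.single_apply]
    by_cases hz : y = z
    · subst hz
      rw [if_pos rfl, if_neg hne.symm, add_zero]; exact h1
    · by_cases hz' : y' = z
      · subst hz'
        rw [if_neg hz, if_pos rfl, zero_add]; exact h2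
      · rw [if_neg hz, if_neg hz']; exact Nat.zero_le _

theorem single3_le_iff {y y' y'' : σ} (h1 : y ≠ y') (h2 : y ≠ y'') (h3 : y' ≠ y'') (p q r : ℕ)
    (ν : σ →₀ ℕ) :
    single y p + single y' q + single y'' r ≤ ν ↔ p ≤ ν y ∧ q ≤ ν y' ∧ r ≤ ν y'' := by
  classical
  rw [Finsupp.le_def]
  constructor
  · intro h
    have e1 := h y
    have e2 := h y'
    have e3 := h y''
    simp only [Finsupp.add_apply, Finsupp.single_apply, if_true, if_neg h1,
      if_neg h1.symm, if_neg h2, if_neg h2.symm, if_neg h3, if_neg h3.symm,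
      add_zero, zero_add] at e1 e2 e3
    exact ⟨e1, e2, e3⟩
  · rintro ⟨e1, e2, e3⟩ z
    simp only [Finsupp.add_apply, Finsupp.single_apply]
    by_cases hz : y = z
    · subst hz
      rw [if_pos rfl, if_neg h1.symm, if_neg h2.symm, add_zero, add_zero]; exact e1
    · by_cases hz' : y' = z
      · subst hz'
        rw [if_neg hz, if_pos rfl, if_neg h3.symm, zero_add, add_zero]; exact e2
      · by_cases hz'' : y'' = z
        · subst hz''
          rw [if_neg hz, if_neg hz', if_pos rfl, zero_add, zero_add]; exact e3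
        · rw [if_neg hz, if_neg hz', if_neg hz'']; exact Nat.zero_le _

end le_lemmas

theorem xi_ne {i j : Fin m} (h : i ≠ j) : (CVar.xi i : CVar m) ≠ CVar.xi j := by
  intro e; exact h (CVar.xi.inj e)

theorem mu_A_le (i : Fin m) (ν : CVar m →₀ ℕ) :
    mu (Rule.A i) ≤ ν ↔ 1 ≤ ν .x2 ∧ 1 ≤ ν (.xi i) :=
  single2_le_iff (by simp) 1 1 ν

theorem mu_B_le (i : Fin m) (ν : CVar m →₀ ℕ) :
    mu (Rule.B i) ≤ ν ↔ 1 ≤ ν .x3 ∧ 1 ≤ ν (.xi i) :=
  single2_le_iff (by simp) 1 1 ν

theorem mu_D_le (i j : Fin m) (h : i ≠ j) (ν : CVar m →₀ ℕ) :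
    mu (Rule.D i j h) ≤ ν ↔ 1 ≤ ν (.xi i) ∧ 1 ≤ ν (.xi j) :=
  single2_le_iff (xi_ne h) 1 1 ν

theorem mu_E_le (ν : CVar m →₀ ℕ) :
    mu (Rule.E : Rule m) ≤ ν ↔ 1 ≤ ν .x2 ∧ 2 ≤ ν .x3 :=
  single2_le_iff (by simp) 1 2 ν

/-- exponents of the standard monomials -/
noncomputable def Eidx : Option (ℕ ⊕ (CVar m × ℕ)) → (CVar m →₀ ℕ)
  | none => 0
  | Option.some (Sum.inl k) => single .x2 (k + 1) + single .x3 1
  | Option.some (Sum.inr (y, k)) => single y (k + 1)

theorem normal_Eidx (n : Option (ℕ ⊕ (CVar m × ℕ))) : Normal (mu (m := m)) (Eidx n) := by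
  classical
  intro s hs
  rcases n with _ | k | ⟨y, k⟩
  · rcases s with i | i | ⟨i, j, h⟩ | _
    · rw [mu_A_le] at hs; simp [Eidx] at hs
    · rw [mu_B_le] at hs; simp [Eidx] at hs
    · rw [mu_D_le] at hs; simp [Eidx] at hs
    · rw [mu_E_le] at hs; simp [Eidx] at hs
  · rcases s with i | i | ⟨i, j, h⟩ | _
    · rw [mu_A_le] at hs; simp [Eidx, Finsupp.single_apply] at hs
    · rw [mu_B_le] at hs; simp [Eidx, Finsupp.single_apply] at hs
    · rw [mu_D_le] at hs; simp [Eidx, Finsupp.single_apply] at hs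
    · rw [mu_E_le] at hs; simp [Eidx, Finsupp.single_apply] at hs
  · rcases s with i | i | ⟨i, j, h⟩ | _
    · rw [mu_A_le] at hs
      simp only [Eidx, Finsupp.single_apply] at hs
      obtain ⟨h1, h2⟩ := hs
      by_cases e1 : y = CVar.x2
      · subst e1; simp at h2
      · simp [e1] at h1
    · rw [mu_B_le] at hs
      simp only [Eidx, Finsupp.single_apply] at hs
      obtain ⟨h1, h2⟩ := hs
      by_cases e1 : y = CVar.x3
      · subst e1; simp at h2
      · simp [e1] at h1
    · rw [mu_D_le] at hs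
      simp only [Eidx, Finsupp.single_apply] at hs
      obtain ⟨h1, h2⟩ := hs
      by_cases e1 : y = CVar.xi i
      · subst e1
        rw [if_neg (xi_ne h)] at h2
        exact absurd h2 (by norm_num)
      · simp [e1] at h1
    · rw [mu_E_le] at hs
      simp only [Eidx, Finsupp.single_apply] at hs
      obtain ⟨h1, h2⟩ := hs
      by_cases e1 : y = CVar.x2
      · subst e1; simp at h2
      · simp [e1] at h1

theorem Eidx_none (y : CVar m) : Eidx (none : Option (ℕ ⊕ (CVar m × ℕ))) y = 0 := rfl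

theorem Eidx_inl_x2 (k : ℕ) : Eidx (m := m) (Option.some (Sum.inl k)) .x2 = k + 1 := by
  classical
  simp [Eidx, Finsupp.single_apply]

theorem Eidx_inl_x3 (k : ℕ) : Eidx (m := m) (Option.some (Sum.inl k)) .x3 = 1 := by
  classical
  simp [Eidx, Finsupp.single_apply]

theorem Eidx_inl_xi (k : ℕ) (i : Fin m) : Eidx (m := m) (Option.some (Sum.inl k)) (.xi i) = 0 := by
  classical
  simp [Eidx, Finsupp.single_apply]

theorem Eidx_inr (y z : CVar m) (k : ℕ) [Decidable (y = z)] :
    Eidx (m := m) (Option.some (Sum.inr (y, k))) z = if y = z then k + 1 else 0 := by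
  simp only [Eidx, Finsupp.single_apply]

theorem finsupp_ext_cvar {ν ν' : CVar m →₀ ℕ} (h2 : ν .x2 = ν' .x2) (h3 : ν .x3 = ν' .x3)
    (hi : ∀ i, ν (.xi i) = ν' (.xi i)) : ν = ν' := by
  ext y
  rcases y with _ | _ | i
  · exact h2
  · exact h3
  · exact hi i

theorem exists_Eidx_of_normal (ν : CVar m →₀ ℕ) (hν : Normal (mu (m := m)) ν) :
    ∃ n, Eidx n = ν := by
  classical
  have hA : ∀ i, ¬(1 ≤ ν .x2 ∧ 1 ≤ ν (.xi i)) := fun i h => hν (.A i) ((mu_A_le i ν).2 h)
  have hB : ∀ i, ¬(1 ≤ ν .x3 ∧ 1 ≤ ν (.xi i)) := fun i h => hν (.B i) ((mu_B_le i ν).2 h)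
  have hD : ∀ i j (h : i ≠ j), ¬(1 ≤ ν (.xi i) ∧ 1 ≤ ν (.xi j)) :=
    fun i j h h' => hν (.D i j h) ((mu_D_le i j h ν).2 h')
  have hE : ¬(1 ≤ ν .x2 ∧ 2 ≤ ν .x3) := fun h => hν .E ((mu_E_le ν).2 h)
  by_cases hx : ∃ i, ν (.xi i) ≠ 0
  · obtain ⟨i, hi⟩ := hx
    have h2 : ν .x2 = 0 := by
      by_contra h; exact hA i ⟨by omega, by omega⟩
    have h3 : ν .x3 = 0 := by
      by_contra h; exact hB i ⟨by omega, by omega⟩
    have hj : ∀ j, j ≠ i → ν (.xi j) = 0 := fun j hji => by
      by_contra h; exact hD j i hji ⟨by omega, by omega⟩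
    refine ⟨Option.some (Sum.inr (.xi i, ν (.xi i) - 1)), ?_⟩
    refine finsupp_ext_cvar ?_ ?_ ?_
    · rw [Eidx_inr, if_neg (by simp), h2]
    · rw [Eidx_inr, if_neg (by simp), h3]
    · intro j
      rw [Eidx_inr]
      by_cases hji : j = i
      · subst hji; rw [if_pos rfl]; omega
      · rw [if_neg (fun e => hji (CVar.xi.inj e).symm), hj j hji]
  · push Not at hx
    by_cases h3 : ν .x3 = 0
    · by_cases h2 : ν .x2 = 0
      · refine ⟨none, ?_⟩
        refine finsupp_ext_cvar ?_ ?_ ?_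
        · rw [Eidx_none, h2]
        · rw [Eidx_none, h3]
        · intro j; rw [Eidx_none, hx j]
      · refine ⟨Option.some (Sum.inr (.x2, ν .x2 - 1)), ?_⟩
        refine finsupp_ext_cvar ?_ ?_ ?_
        · rw [Eidx_inr, if_pos rfl]; omega
        · rw [Eidx_inr, if_neg (by simp), h3]
        · intro j; rw [Eidx_inr, if_neg (by simp), hx j]
    · by_cases h2 : ν .x2 = 0
      · refine ⟨Option.some (Sum.inr (.x3, ν .x3 - 1)), ?_⟩
        refine finsupp_ext_cvar ?_ ?_ ?_
        · rw [Eidx_inr, if_neg (by simp), h2]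
        · rw [Eidx_inr, if_pos rfl]; omega
        · intro j; rw [Eidx_inr, if_neg (by simp), hx j]
      · have h31 : ν .x3 = 1 := by
          by_contra h; exact hE ⟨by omega, by omega⟩
        refine ⟨Option.some (Sum.inl (ν .x2 - 1)), ?_⟩
        refine finsupp_ext_cvar ?_ ?_ ?_
        · rw [Eidx_inl_x2]; omega
        · rw [Eidx_inl_x3, h31]
        · intro j; rw [Eidx_inl_xi, hx j]

theorem Eidx_injective : Function.Injective (Eidx (m := m)) := by
  classical
  intro n n' h
  have hv : ∀ y, Eidx n y = Eidx n' y := fun y => by rw [h]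
  rcases n with _ | k | ⟨y, k⟩ <;> rcases n' with _ | k' | ⟨y', k'⟩
  · rfl
  · have := hv .x3; rw [Eidx_none, Eidx_inl_x3] at this; omega
  · have := hv y'; rw [Eidx_none, Eidx_inr, if_pos rfl] at this; omega
  · have := hv .x3; rw [Eidx_none, Eidx_inl_x3] at this; omega
  · have := hv .x2; rw [Eidx_inl_x2, Eidx_inl_x2] at this
    have : k = k' := by omega
    rw [this]
  · have h2 := hv .x2
    have h3 := hv .x3
    rw [Eidx_inl_x2, Eidx_inr] at h2
    rw [Eidx_inl_x3, Eidx_inr] at h3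
    by_cases e : y' = CVar.x2
    · subst e; simp at h3
    · rw [if_neg e] at h2; omega
  · have := hv y; rw [Eidx_none, Eidx_inr, if_pos rfl] at this; omega
  · have h2 := hv .x2
    have h3 := hv .x3
    rw [Eidx_inl_x2, Eidx_inr] at h2
    rw [Eidx_inl_x3, Eidx_inr] at h3
    by_cases e : y = CVar.x2
    · subst e; simp at h3
    · rw [if_neg e] at h2; omega
  · have h1 := hv y
    rw [Eidx_inr, Eidx_inr, if_pos rfl] at h1
    by_cases e : y' = y
    · subst e
      rw [if_pos rfl] at h1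
      have : k = k' := by omega
      rw [this]
    · rw [if_neg e] at h1; omega

theorem cmon_eq (n : Option (ℕ ⊕ (CVar m × ℕ))) :
    cmon R m v n = Ideal.Quotient.mk (Ideal.span (CRel R m v)) (monomial (Eidx n) 1) := by
  rcases n with _ | k | ⟨y, k⟩
  · simp [cmon, Eidx]
  · simp only [cmon, Eidx]
    congr 1
    rw [X_pow_eq_monomial, X, monomial_mul, one_mul]
  · simp only [cmon, Eidx]
    congr 1
    rw [X_pow_eq_monomial]

theorem Nspan_eq : Nspan (R := R) (mu (m := m)) =
    Submodule.span R (Set.range fun n : Option (ℕ ⊕ (CVar m × ℕ)) =>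
      (monomial (Eidx n) (1 : R) : MvPolynomial (CVar m) R)) := by
  unfold Nspan
  congr 1
  ext q
  constructor
  · rintro ⟨ν, hν, rfl⟩
    obtain ⟨n, rfl⟩ := exists_Eidx_of_normal ν hν
    exact ⟨n, rfl⟩
  · rintro ⟨n, rfl⟩
    exact ⟨Eidx n, normal_Eidx n, rfl⟩

theorem mono1 (y : CVar m) : (monomial (single y 1) (1 : R) : MvPolynomial (CVar m) R) = X y := rfl

theorem mono2 (y : CVar m) :
    (monomial (single y 2) (1 : R) : MvPolynomial (CVar m) R) = X y ^ 2 :=
  (X_pow_eq_monomial ..).symm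

theorem mono0 : (monomial (0 : CVar m →₀ ℕ) (1 : R) : MvPolynomial (CVar m) R) = 1 := rfl

theorem mono_add (ν ν' : CVar m →₀ ℕ) :
    (monomial (ν + ν') (1 : R) : MvPolynomial (CVar m) R) = monomial ν 1 * monomial ν' 1 := by
  rw [monomial_mul, one_mul]

/-- the constant of the cubic rule determined by the index `i` -/
def dd (i : Fin m) : R :=
  v (.ci i) * v (.cbi i) * (v .a + v (.ci i) + v (.cbi i)) - v (.ci i) * v .cb -
    (v .a + v (.cbi i)) * v .c

/-- the relations of `U_n` on the values `v` (and the compatibility of `d`) -/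
structure Hyp : Prop where
  lam : ∀ i j (h : i ≠ j), v (.cij i j h) + v (.cij j i h.symm) -
    (v .a + v (.ci i) + v (.cbi i) + v (.ci j) + v (.cbi j)) = 0
  kap : ∀ i j (h : i ≠ j), v (.cij j i h.symm) * v (.ci j) + v (.cij i j h) * v (.ci i) -
    v (.ci i) * v (.ci j) - v .c = 0
  bet : ∀ i j (h : i ≠ j), v (.cij j i h.symm) * v (.cbi i) + v (.cij i j h) * v (.cbi j) -
    v (.cbi i) * v (.cbi j) - v .cb = 0
  gam : ∀ i j k (h1 : i ≠ j) (h2 : j ≠ k) (h3 : i ≠ k),
    v (.cij i j h1) * v (.cij j k h2) + v (.cij j i h1.symm) * v (.cij i k h3) -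
      v (.cij i k h3) * v (.cij j k h2) + (v .a + v (.ci k) + v (.cbi k)) * v (.ci k) - v .c = 0
  dD : ∀ i, d - (v (.ci i) * v (.cbi i) * (v .a + v (.ci i) + v (.cbi i)) - v (.ci i) * v .cb -
    (v .a + v (.cbi i)) * v .c) = 0

theorem ident_AA (i : Fin m) (j : Fin m) (hij : i ≠ j) :
    monomial (single (CVar.xi j) 1) 1 * ff v d (Rule.A i) -
      monomial (single (CVar.xi i) 1) 1 * ff v d (Rule.A j) =
      C (1) * (monomial (single CVar.x3 1) 1 * gg mu (ff v d) (Rule.A j)) +
      C (v (.ci i) - v (.ci j)) * (monomial 0 1 * gg mu (ff v d) (Rule.D i j hij)) +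
      C (v (.cbi i)) * (monomial 0 1 * gg mu (ff v d) (Rule.A j)) +
      C (-1) * (monomial (single CVar.x3 1) 1 * gg mu (ff v d) (Rule.A i)) +
      C (-v (.cbi j)) * (monomial 0 1 * gg mu (ff v d) (Rule.A i)) +
      C (v (.ci j)) * (monomial 0 1 * gg mu (ff v d) (Rule.B j)) +
      C (-v (.ci i)) * (monomial 0 1 * gg mu (ff v d) (Rule.B i)) +
      C (-v .c + v .a * v (.ci j) + v (.cbi i) * v (.ci j) + v (.cbi j) * v (.ci j) + v (.ci i) * v (.cij i j hij) - v (.ci j) * v (.cij i j hij) + v (.ci j) * v (.ci j)) * (X (CVar.xi j)) +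
      C (v .c - v .a * v (.ci i) - v (.cbi i) * v (.ci i) - v (.cbi j) * v (.ci i) + v (.ci i) * v (.cij j i hij.symm) - v (.ci i) * v (.ci i) - v (.ci j) * v (.cij j i hij.symm)) * (X (CVar.xi i)) +
      C (-v (.cbi i) * v .c + v (.cbi j) * v .c - v (.ci i) * v .cb + v (.ci j) * v .cb + v .a * v (.cbi i) * v (.ci i) - v .a * v (.cbi j) * v (.ci j) + v (.cbi i) * v (.ci i) * v (.ci i) + v (.cbi i) * v (.cbi i) * v (.ci i) - v (.cbi j) * v (.ci j) * v (.ci j) - v (.cbi j) * v (.cbi j) * v (.ci j)) * 1 := by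
  simp only [gg, ff, mu, mono_add, mono1, mono2, mono0, map_add, map_sub, map_mul, map_neg, map_one]
  ring

theorem cert_AA (H : Hyp v d) (i : Fin m) (j : Fin m) (hij : i ≠ j) :
    monomial (single (CVar.xi j) 1) 1 * ff v d (Rule.A i) -
      monomial (single (CVar.xi i) 1) 1 * ff v d (Rule.A j) ∈
      Ilt mu (ff v d) om (om ((single (CVar.xi j) 1) + mu (Rule.A i))) := by
  have hr0 : -v .c + v .a * v (.ci j) + v (.cbi i) * v (.ci j) + v (.cbi j) * v (.ci j) + v (.ci i) * v (.cij i j hij) - v (.ci j) * v (.cij i j hij) + v (.ci j) * v (.ci j) = 0 := by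
    linear_combination (-v (.ci j)) * H.lam i j hij + (1) * H.kap i j hij
  have hr1 : v .c - v .a * v (.ci i) - v (.cbi i) * v (.ci i) - v (.cbi j) * v (.ci i) + v (.ci i) * v (.cij j i hij.symm) - v (.ci i) * v (.ci i) - v (.ci j) * v (.cij j i hij.symm) = 0 := by
    linear_combination (v (.ci i)) * H.lam i j hij + (-1) * H.kap i j hij
  have hr2 : -v (.cbi i) * v .c + v (.cbi j) * v .c - v (.ci i) * v .cb + v (.ci j) * v .cb + v .a * v (.cbi i) * v (.ci i) - v .a * v (.cbi j) * v (.ci j) + v (.cbi i) * v (.ci i) * v (.ci i) + v (.cbi i) * v (.cbi i) * v (.ci i) - v (.cbi j) * v (.ci j) * v (.ci j) - v (.cbi j) * v (.cbi j) * v (.ci j) = 0 := by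
    linear_combination (-v (.cbi i) * v (.ci i) + v (.cbi j) * v (.ci j)) * H.lam i j hij + (v (.cbi i) - v (.cbi j)) * H.kap i j hij + (v (.ci i) - v (.ci j)) * H.bet i j hij
  rw [ident_AA v d i j hij, hr0, hr1, hr2]
  simp only [map_zero, zero_mul, add_zero]
  exact (add_mem (add_mem (add_mem (add_mem (add_mem (add_mem (term_mem mu (ff v d) om _ _ _ _ (by simp only [mu, map_add, om_single, wv, map_zero]; norm_num)) (term_mem mu (ff v d) om _ _ _ _ (by simp only [mu, map_add, om_single, wv, map_zero]; norm_num))) (term_mem mu (ff v d) om _ _ _ _ (by simp only [mu, map_add, om_single, wv, map_zero]; norm_num))) (term_mem mu (ff v d) om _ _ _ _ (by simp only [mu, map_add, om_single, wv, map_zero]; norm_num))) (term_mem mu (ff v d) om _ _ _ _ (by simp only [mu, map_add, om_single, wv, map_zero]; norm_num))) (term_mem mu (ff v d) om _ _ _ _ (by simp only [mu, map_add, om_single, wv, map_zero]; norm_num))) (term_mem mu (ff v d) om _ _ _ _ (by simp only [mu, map_add, om_single,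 wv, map_zero]; norm_num)))

theorem ident_AB (i : Fin m)  :
    monomial (single CVar.x3 1) 1 * ff v d (Rule.A i) -
      monomial (single CVar.x2 1) 1 * ff v d (Rule.B i) =
      C (1) * (monomial 0 1 * gg mu (ff v d) Rule.E) +
      C (v (.ci i)) * (monomial 0 1 * gg mu (ff v d) (Rule.B i)) +
      C (-v .a - v (.cbi i) - v (.ci i)) * (monomial 0 1 * gg mu (ff v d) (Rule.A i)) +
      C (d + v .a * v .c + v (.cbi i) * v .c + v (.ci i) * v .cb - v .a * v (.cbi i) * v (.ci i) - v (.cbi i) * v (.ci i) * v (.ci i) - v (.cbi i) * v (.cbi i) * v (.ci i)) * 1 := by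
  simp only [gg, ff, mu, mono_add, mono1, mono2, mono0, map_add, map_sub, map_mul, map_neg, map_one]
  ring

theorem cert_AB (H : Hyp v d) (i : Fin m)  :
    monomial (single CVar.x3 1) 1 * ff v d (Rule.A i) -
      monomial (single CVar.x2 1) 1 * ff v d (Rule.B i) ∈
      Ilt mu (ff v d) om (om ((single CVar.x3 1) + mu (Rule.A i))) := by
  have hr0 : d + v .a * v .c + v (.cbi i) * v .c + v (.ci i) * v .cb - v .a * v (.cbi i) * v (.ci i) - v (.cbi i) * v (.ci i) * v (.ci i) - v (.cbi i) * v (.cbi i) * v (.ci i) = 0 := by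
    linear_combination (1) * H.dD i
  rw [ident_AB v d i, hr0]
  simp only [map_zero, zero_mul, add_zero]
  exact (add_mem (add_mem (term_mem mu (ff v d) om _ _ _ _ (by simp only [mu, map_add, om_single, wv, map_zero]; norm_num)) (term_mem mu (ff v d) om _ _ _ _ (by simp only [mu, map_add, om_single, wv, map_zero]; norm_num))) (term_mem mu (ff v d) om _ _ _ _ (by simp only [mu, map_add, om_single, wv, map_zero]; norm_num)))

theorem ident_AD (i : Fin m) (j : Fin m) (hij : i ≠ j) :
    monomial (single (CVar.xi j) 1) 1 * ff v d (Rule.A i) -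
      monomial (single CVar.x2 1) 1 * ff v d (Rule.D i j hij) =
      C (1) * (monomial (single CVar.x3 1) 1 * gg mu (ff v d) (Rule.A j)) +
      C (v (.ci i)) * (monomial 0 1 * gg mu (ff v d) (Rule.D i j hij)) +
      C (v (.cbi i) - v (.cij i j hij)) * (monomial 0 1 * gg mu (ff v d) (Rule.A j)) +
      C (-v (.cij j i hij.symm)) * (monomial 0 1 * gg mu (ff v d) (Rule.A i)) +
      C (1) * (monomial 0 1 * gg mu (ff v d) Rule.E) +
      C (v (.ci j)) * (monomial 0 1 * gg mu (ff v d) (Rule.B j)) +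
      C (-v .c + v .a * v (.ci j) + v (.cbi i) * v (.ci j) + v (.cbi j) * v (.ci j) + v (.ci i) * v (.cij i j hij) - v (.ci j) * v (.cij i j hij) + v (.ci j) * v (.ci j)) * (X (CVar.xi j)) +
      C (v .a + v (.cbi i) + v (.cbi j) + v (.ci i) + v (.ci j) - v (.cij i j hij) - v (.cij j i hij.symm)) * (X CVar.x2 * X CVar.x3) +
      C (d - v (.cbi i) * v .c - v .c * v (.ci i) - v .c * v (.ci j) + v .c * v (.cij i j hij) + v .c * v (.cij j i hij.symm) + v (.ci j) * v .cb - v .a * v (.cbi j) * v (.ci j) - v (.cbi j) * v (.ci j) * v (.ci j) - v (.cbi j) * v (.cbi j) * v (.ci j)) * 1 +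
      C (v .cb + v (.cbi i) * v (.cbi j) - v (.cbi i) * v (.cij j i hij.symm) - v (.cbi j) * v (.cij i j hij)) * (X CVar.x2) := by
  simp only [gg, ff, mu, mono_add, mono1, mono2, mono0, map_add, map_sub, map_mul, map_neg, map_one]
  ring

theorem cert_AD (H : Hyp v d) (i : Fin m) (j : Fin m) (hij : i ≠ j) :
    monomial (single (CVar.xi j) 1) 1 * ff v d (Rule.A i) -
      monomial (single CVar.x2 1) 1 * ff v d (Rule.D i j hij) ∈
      Ilt mu (ff v d) om (om ((single (CVar.xi j) 1) + mu (Rule.A i))) := by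
  have hr0 : -v .c + v .a * v (.ci j) + v (.cbi i) * v (.ci j) + v (.cbi j) * v (.ci j) + v (.ci i) * v (.cij i j hij) - v (.ci j) * v (.cij i j hij) + v (.ci j) * v (.ci j) = 0 := by
    linear_combination (-v (.ci j)) * H.lam i j hij + (1) * H.kap i j hij
  have hr1 : v .a + v (.cbi i) + v (.cbi j) + v (.ci i) + v (.ci j) - v (.cij i j hij) - v (.cij j i hij.symm) = 0 := by
    linear_combination (-1) * H.lam i j hij
  have hr2 : d - v (.cbi i) * v .c - v .c * v (.ci i) - v .c * v (.ci j) + v .c * v (.cij i j hij) + v .c * v (.cij j i hij.symm) + v (.ci j) * v .cb - v .a * v (.cbi j) * v (.ci j) - v (.cbi j) * v (.ci j) * v (.ci j) - v (.cbi j) * v (.cbi j) * v (.ci j) = 0 := by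
    linear_combination (v .c - v (.cbi i) * v (.ci i) + v (.cbi j) * v (.ci j)) * H.lam i j hij + (v (.cbi i) - v (.cbi j)) * H.kap i j hij + (v (.ci i) - v (.ci j)) * H.bet i j hij + (1) * H.dD i
  have hr3 : v .cb + v (.cbi i) * v (.cbi j) - v (.cbi i) * v (.cij j i hij.symm) - v (.cbi j) * v (.cij i j hij) = 0 := by
    linear_combination (-1) * H.bet i j hij
  rw [ident_AD v d i j hij, hr0, hr1, hr2, hr3]
  simp only [map_zero, zero_mul, add_zero]
  exact (add_mem (add_mem (add_mem (add_mem (add_mem (term_mem mu (ff v d) om _ _ _ _ (by simp only [mu, map_add, om_single, wv, map_zero]; norm_num)) (term_mem mu (ff v d) om _ _ _ _ (by simp only [mu, map_add, om_single, wv, map_zero]; norm_num))) (term_mem mu (ff v d) om _ _ _ _ (by simp only [mu, map_add, om_single, wv, map_zero]; norm_num))) (term_mem mu (ff v d) om _ _ _ _ (by simp only [mu, map_add, om_single, wv, map_zero]; norm_num))) (term_mem mu (ff v d) om _ _ _ _ (by simp only [mu, map_add, om_single, wv, map_zero];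 norm_num))) (term_mem mu (ff v d) om _ _ _ _ (by simp only [mu, map_add, om_single, wv, map_zero]; norm_num)))

theorem ident_AE (i : Fin m)  :
    monomial (single CVar.x3 2) 1 * ff v d (Rule.A i) -
      monomial (single (CVar.xi i) 1) 1 * ff v d Rule.E =
      C (1) * (monomial (single CVar.x3 1) 1 * gg mu (ff v d) Rule.E) +
      C (v (.ci i)) * (monomial (single CVar.x3 1) 1 * gg mu (ff v d) (Rule.B i)) +
      C (v (.cbi i)) * (monomial 0 1 * gg mu (ff v d) Rule.E) +
      C (-1) * (monomial (single CVar.x2 1 + single CVar.x3 1) 1 * gg mu (ff v d) (Rule.A i)) +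
      C (-v .a - v (.ci i)) * (monomial (single CVar.x3 1) 1 * gg mu (ff v d) (Rule.A i)) +
      C (v .c - v .cb) * (monomial 0 1 * gg mu (ff v d) (Rule.A i)) +
      C (-v .c + v (.cbi i) * v (.ci i)) * (monomial 0 1 * gg mu (ff v d) (Rule.B i)) +
      C (-d - v .a * v .c - v (.cbi i) * v .c - v (.ci i) * v .cb + v .a * v (.cbi i) * v (.ci i) + v (.cbi i) * v (.ci i) * v (.ci i) + v (.cbi i) * v (.cbi i) * v (.ci i)) * (X (CVar.xi i)) +
      C (d + v .a * v .c + v (.cbi i) * v .c + v (.ci i) * v .cb - v .a * v (.cbi i) * v (.ci i) - v (.cbi i) * v (.ci i) * v (.ci i) - v (.cbi i) * v (.cbi i) * v (.ci i)) * (X CVar.x3) +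
      C (v (.cbi i) * d + v .a * v (.cbi i) * v .c + v (.cbi i) * v (.ci i) * v .cb + v (.cbi i) * v (.cbi i) * v .c - v .a * v (.cbi i) * v (.cbi i) * v (.ci i) - v (.cbi i) * v (.cbi i) * v (.ci i) * v (.ci i) - v (.cbi i) * v (.cbi i) * v (.cbi i) * v (.ci i)) * 1 := by
  simp only [gg, ff, mu, mono_add, mono1, mono2, mono0, map_add, map_sub, map_mul, map_neg, map_one]
  ring

theorem cert_AE (H : Hyp v d) (i : Fin m)  :
    monomial (single CVar.x3 2) 1 * ff v d (Rule.A i) -
      monomial (single (CVar.xi i) 1) 1 * ff v d Rule.E ∈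
      Ilt mu (ff v d) om (om ((single CVar.x3 2) + mu (Rule.A i))) := by
  have hr0 : -d - v .a * v .c - v (.cbi i) * v .c - v (.ci i) * v .cb + v .a * v (.cbi i) * v (.ci i) + v (.cbi i) * v (.ci i) * v (.ci i) + v (.cbi i) * v (.cbi i) * v (.ci i) = 0 := by
    linear_combination (-1) * H.dD i
  have hr1 : d + v .a * v .c + v (.cbi i) * v .c + v (.ci i) * v .cb - v .a * v (.cbi i) * v (.ci i) - v (.cbi i) * v (.ci i) * v (.ci i) - v (.cbi i) * v (.cbi i) * v (.ci i) = 0 := by
    linear_combination (1) * H.dD i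
  have hr2 : v (.cbi i) * d + v .a * v (.cbi i) * v .c + v (.cbi i) * v (.ci i) * v .cb + v (.cbi i) * v (.cbi i) * v .c - v .a * v (.cbi i) * v (.cbi i) * v (.ci i) - v (.cbi i) * v (.cbi i) * v (.ci i) * v (.ci i) - v (.cbi i) * v (.cbi i) * v (.cbi i) * v (.ci i) = 0 := by
    linear_combination (v (.cbi i)) * H.dD i
  rw [ident_AE v d i, hr0, hr1, hr2]
  simp only [map_zero, zero_mul, add_zero]
  exact (add_mem (add_mem (add_mem (add_mem (add_mem (add_mem (term_mem mu (ff v d) om _ _ _ _ (by simp only [mu, map_add, om_single, wv, map_zero]; norm_num)) (term_mem mu (ff v d) om _ _ _ _ (by simp only [mu, map_add, om_single, wv, map_zero]; norm_num))) (term_mem mu (ff v d) om _ _ _ _ (by simp only [mu, map_add, om_single, wv, map_zero]; norm_num))) (term_mem mu (ff v d) om _ _ _ _ (by simp only [mu, map_add, om_single, wv, map_zero]; norm_num))) (term_mem mu (ff v d) om _ _ _ _ (by simp only [mu, map_add, om_single, wv, map_zero]; norm_num))) (term_mem mu (ff v d) om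 _ _ _ _ (by simp only [mu, map_add, om_single, wv, map_zero]; norm_num))) (term_mem mu (ff v d) om _ _ _ _ (by simp only [mu, map_add, om_single, wv, map_zero]; norm_num)))

theorem ident_BB (i : Fin m) (j : Fin m) (hij : i ≠ j) :
    monomial (single (CVar.xi j) 1) 1 * ff v d (Rule.B i) -
      monomial (single (CVar.xi i) 1) 1 * ff v d (Rule.B j) =
      C (1) * (monomial (single CVar.x3 1) 1 * gg mu (ff v d) (Rule.A j)) +
      C (v (.cbi i) - v (.cbi j) + v (.ci i) - v (.ci j)) * (monomial 0 1 * gg mu (ff v d) (Rule.D i j hij)) +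
      C (-1) * (monomial (single CVar.x3 1) 1 * gg mu (ff v d) (Rule.A i)) +
      C (v (.ci j)) * (monomial 0 1 * gg mu (ff v d) (Rule.B j)) +
      C (-v (.ci i)) * (monomial 0 1 * gg mu (ff v d) (Rule.B i)) +
      C (-v .c + v .cb - v .a * v (.cbi i) + v .a * v (.ci j) - v (.cbi i) * v (.ci i) + v (.cbi i) * v (.cij i j hij) - v (.cbi i) * v (.cbi i) + v (.cbi j) * v (.ci j) - v (.cbi j) * v (.cij i j hij) + v (.ci i) * v (.cij i j hij) - v (.ci j) * v (.cij i j hij) + v (.ci j) * v (.ci j)) * (X (CVar.xi j)) +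
      C (v .c - v .cb + v .a * v (.cbi j) - v .a * v (.ci i) - v (.cbi i) * v (.ci i) + v (.cbi i) * v (.cij j i hij.symm) + v (.cbi j) * v (.ci j) - v (.cbi j) * v (.cij j i hij.symm) + v (.cbi j) * v (.cbi j) + v (.ci i) * v (.cij j i hij.symm) - v (.ci i) * v (.ci i) - v (.ci j) * v (.cij j i hij.symm)) * (X (CVar.xi i)) +
      C (-v (.cbi i) * v .c + v (.cbi j) * v .c - v (.ci i) * v .cb + v (.ci j) * v .cb + v .a * v (.cbi i) * v (.ci i) - v .a * v (.cbi j) * v (.ci j) + v (.cbi i) * v (.ci i) * v (.ci i) + v (.cbi i) * v (.cbi i) * v (.ci i) - v (.cbi j) * v (.ci j) * v (.ci j) - v (.cbi j) * v (.cbi j) * v (.ci j)) * 1 := by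
  simp only [gg, ff, mu, mono_add, mono1, mono2, mono0, map_add, map_sub, map_mul, map_neg, map_one]
  ring

theorem cert_BB (H : Hyp v d) (i : Fin m) (j : Fin m) (hij : i ≠ j) :
    monomial (single (CVar.xi j) 1) 1 * ff v d (Rule.B i) -
      monomial (single (CVar.xi i) 1) 1 * ff v d (Rule.B j) ∈
      Ilt mu (ff v d) om (om ((single (CVar.xi j) 1) + mu (Rule.B i))) := by
  have hr0 : -v .c + v .cb - v .a * v (.cbi i) + v .a * v (.ci j) - v (.cbi i) * v (.ci i) + v (.cbi i) * v (.cij i j hij) - v (.cbi i) * v (.cbi i) + v (.cbi j) * v (.ci j) - v (.cbi j) * v (.cij i j hij) + v (.ci i) * v (.cij i j hij) - v (.ci j) * v (.cij i j hij) + v (.ci j) * v (.ci j) = 0 := by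
    linear_combination (v (.cbi i) - v (.ci j)) * H.lam i j hij + (1) * H.kap i j hij + (-1) * H.bet i j hij
  have hr1 : v .c - v .cb + v .a * v (.cbi j) - v .a * v (.ci i) - v (.cbi i) * v (.ci i) + v (.cbi i) * v (.cij j i hij.symm) + v (.cbi j) * v (.ci j) - v (.cbi j) * v (.cij j i hij.symm) + v (.cbi j) * v (.cbi j) + v (.ci i) * v (.cij j i hij.symm) - v (.ci i) * v (.ci i) - v (.ci j) * v (.cij j i hij.symm) = 0 := by
    linear_combination (-v (.cbi j) + v (.ci i)) * H.lam i j hij + (-1) * H.kap i j hij + (1) * H.bet i j hij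
  have hr2 : -v (.cbi i) * v .c + v (.cbi j) * v .c - v (.ci i) * v .cb + v (.ci j) * v .cb + v .a * v (.cbi i) * v (.ci i) - v .a * v (.cbi j) * v (.ci j) + v (.cbi i) * v (.ci i) * v (.ci i) + v (.cbi i) * v (.cbi i) * v (.ci i) - v (.cbi j) * v (.ci j) * v (.ci j) - v (.cbi j) * v (.cbi j) * v (.ci j) = 0 := by
    linear_combination (-v (.cbi i) * v (.ci i) + v (.cbi j) * v (.ci j)) * H.lam i j hij + (v (.cbi i) - v (.cbi j)) * H.kap i j hij + (v (.ci i) - v (.ci j)) * H.bet i j hij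
  rw [ident_BB v d i j hij, hr0, hr1, hr2]
  simp only [map_zero, zero_mul, add_zero]
  exact (add_mem (add_mem (add_mem (add_mem (term_mem mu (ff v d) om _ _ _ _ (by simp only [mu, map_add, om_single, wv, map_zero]; norm_num)) (term_mem mu (ff v d) om _ _ _ _ (by simp only [mu, map_add, om_single, wv, map_zero]; norm_num))) (term_mem mu (ff v d) om _ _ _ _ (by simp only [mu, map_add, om_single, wv, map_zero]; norm_num))) (term_mem mu (ff v d) om _ _ _ _ (by simp only [mu, map_add, om_single, wv, map_zero]; norm_num))) (term_mem mu (ff v d) om _ _ _ _ (by simp only [mu, map_add, om_single, wv, map_zero]; norm_num)))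

theorem ident_BD (i : Fin m) (j : Fin m) (hij : i ≠ j) :
    monomial (single (CVar.xi j) 1) 1 * ff v d (Rule.B i) -
      monomial (single CVar.x3 1) 1 * ff v d (Rule.D i j hij) =
      C (1) * (monomial (single CVar.x3 1) 1 * gg mu (ff v d) (Rule.A j)) +
      C (v .a + v (.cbi i) + v (.ci i)) * (monomial 0 1 * gg mu (ff v d) (Rule.D i j hij)) +
      C (v (.ci j) - v (.cij i j hij)) * (monomial 0 1 * gg mu (ff v d) (Rule.B j)) +
      C (-v (.cij j i hij.symm)) * (monomial 0 1 * gg mu (ff v d) (Rule.B i)) +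
      C (-v .c + v .cb - v .a * v (.cbi i) + v .a * v (.ci j) - v (.cbi i) * v (.ci i) + v (.cbi i) * v (.cij i j hij) - v (.cbi i) * v (.cbi i) + v (.cbi j) * v (.ci j) - v (.cbi j) * v (.cij i j hij) + v (.ci i) * v (.cij i j hij) - v (.ci j) * v (.cij i j hij) + v (.ci j) * v (.ci j)) * (X (CVar.xi j)) +
      C (v .a + v (.cbi i) + v (.cbi j) + v (.ci i) + v (.ci j) - v (.cij i j hij) - v (.cij j i hij.symm)) * (X CVar.x2 * X CVar.x3) +
      C (-v .a * v .c - v (.cbi i) * v .c - v .c * v (.ci i) - v .c * v (.ci j) + v .c * v (.cij i j hij) + v .c * v (.cij j i hij.symm) + v (.ci j) * v .cb - v .cb * v (.cij i j hij) - v .cb * v (.cij j i hij.symm) + v .a * v (.cbi i) * v (.cij j i hij.symm) - v .a * v (.cbi j) * v (.ci j) + v .a * v (.cbi j) * v (.cij i j hij) + v (.cbi i) * v (.ci i) * v (.cij j i hij.symm) + v (.cbi i) * v (.cbi i) * v (.cij j i hij.symm) + v (.cbi j) * v (.ci j) * v (.cij i j hij) - v (.cbi j) * v (.ci j) * v (.ci j) - v (.cbi j) * v (.cbi j) *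 v (.ci j) + v (.cbi j) * v (.cbi j) * v (.cij i j hij)) * 1 := by
  simp only [gg, ff, mu, mono_add, mono1, mono2, mono0, map_add, map_sub, map_mul, map_neg, map_one]
  ring

theorem cert_BD (H : Hyp v d) (i : Fin m) (j : Fin m) (hij : i ≠ j) :
    monomial (single (CVar.xi j) 1) 1 * ff v d (Rule.B i) -
      monomial (single CVar.x3 1) 1 * ff v d (Rule.D i j hij) ∈
      Ilt mu (ff v d) om (om ((single (CVar.xi j) 1) + mu (Rule.B i))) := by
  have hr0 : -v .c + v .cb - v .a * v (.cbi i) + v .a * v (.ci j) - v (.cbi i) * v (.ci i) + v (.cbi i) * v (.cij i j hij) - v (.cbi i) * v (.cbi i) + v (.cbi j) * v (.ci j) - v (.cbi j) * v (.cij i j hij) + v (.ci i) * v (.cij i j hij) - v (.ci j) * v (.cij i j hij) + v (.ci j) * v (.ci j) = 0 := by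
    linear_combination (v (.cbi i) - v (.ci j)) * H.lam i j hij + (1) * H.kap i j hij + (-1) * H.bet i j hij
  have hr1 : v .a + v (.cbi i) + v (.cbi j) + v (.ci i) + v (.ci j) - v (.cij i j hij) - v (.cij j i hij.symm) = 0 := by
    linear_combination (-1) * H.lam i j hij
  have hr2 : -v .a * v .c - v (.cbi i) * v .c - v .c * v (.ci i) - v .c * v (.ci j) + v .c * v (.cij i j hij) + v .c * v (.cij j i hij.symm) + v (.ci j) * v .cb - v .cb * v (.cij i j hij) - v .cb * v (.cij j i hij.symm) + v .a * v (.cbi i) * v (.cij j i hij.symm) - v .a * v (.cbi j) * v (.ci j) + v .a * v (.cbi j) * v (.cij i j hij) + v (.cbi i) * v (.ci i) * v (.cij j i hij.symm) + v (.cbi i) * v (.cbi i) * v (.cij j i hij.symm) + v (.cbi j) * v (.ci j) * v (.cij i j hij) - v (.cbi j) * v (.ci j) * v (.ci j) - v (.cbi j) * v (.cbi j) * v (.ci j) + v (.cbi j) * v (.cbi j) * v (.cij i j hij) = 0 := by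
    linear_combination (v .c - v (.cbi i) * v (.cij j i hij.symm) + v (.cbi j) * v (.ci j) - v (.cbi j) * v (.cij i j hij)) * H.lam i j hij + (-v (.cbi j)) * H.kap i j hij + (-v (.ci j) + v (.cij i j hij) + v (.cij j i hij.symm)) * H.bet i j hij
  rw [ident_BD v d i j hij, hr0, hr1, hr2]
  simp only [map_zero, zero_mul, add_zero]
  exact (add_mem (add_mem (add_mem (term_mem mu (ff v d) om _ _ _ _ (by simp only [mu, map_add, om_single, wv, map_zero]; norm_num)) (term_mem mu (ff v d) om _ _ _ _ (by simp only [mu, map_add, om_single, wv, map_zero]; norm_num))) (term_mem mu (ff v d) om _ _ _ _ (by simp only [mu, map_add, om_single, wv, map_zero]; norm_num))) (term_mem mu (ff v d) om _ _ _ _ (by simp only [mu, map_add, om_single, wv, map_zero]; norm_num)))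

theorem ident_BE (i : Fin m)  :
    monomial (single CVar.x2 1 + single CVar.x3 1) 1 * ff v d (Rule.B i) -
      monomial (single (CVar.xi i) 1) 1 * ff v d Rule.E =
      C (v (.cbi i)) * (monomial (single CVar.x3 1) 1 * gg mu (ff v d) (Rule.A i)) +
      C (-1) * (monomial (single CVar.x2 1 + single CVar.x3 1) 1 * gg mu (ff v d) (Rule.A i)) +
      C (v .c - v .cb) * (monomial 0 1 * gg mu (ff v d) (Rule.A i)) +
      C (-v .c + v (.cbi i) * v (.ci i)) * (monomial 0 1 * gg mu (ff v d) (Rule.B i)) +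
      C (v (.cbi i)) * (monomial 0 1 * gg mu (ff v d) Rule.E) +
      C (-d - v .a * v .c - v (.cbi i) * v .c - v (.ci i) * v .cb + v .a * v (.cbi i) * v (.ci i) + v (.cbi i) * v (.ci i) * v (.ci i) + v (.cbi i) * v (.cbi i) * v (.ci i)) * (X (CVar.xi i)) +
      C (v (.cbi i) * d + v .a * v (.cbi i) * v .c + v (.cbi i) * v (.ci i) * v .cb + v (.cbi i) * v (.cbi i) * v .c - v .a * v (.cbi i) * v (.cbi i) * v (.ci i) - v (.cbi i) * v (.cbi i) * v (.ci i) * v (.ci i) - v (.cbi i) * v (.cbi i) * v (.cbi i) * v (.ci i)) * 1 := by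
  simp only [gg, ff, mu, mono_add, mono1, mono2, mono0, map_add, map_sub, map_mul, map_neg, map_one]
  ring

theorem cert_BE (H : Hyp v d) (i : Fin m)  :
    monomial (single CVar.x2 1 + single CVar.x3 1) 1 * ff v d (Rule.B i) -
      monomial (single (CVar.xi i) 1) 1 * ff v d Rule.E ∈
      Ilt mu (ff v d) om (om ((single CVar.x2 1 + single CVar.x3 1) + mu (Rule.B i))) := by
  have hr0 : -d - v .a * v .c - v (.cbi i) * v .c - v (.ci i) * v .cb + v .a * v (.cbi i) * v (.ci i) + v (.cbi i) * v (.ci i) * v (.ci i) + v (.cbi i) * v (.cbi i) * v (.ci i) = 0 := by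
    linear_combination (-1) * H.dD i
  have hr1 : v (.cbi i) * d + v .a * v (.cbi i) * v .c + v (.cbi i) * v (.ci i) * v .cb + v (.cbi i) * v (.cbi i) * v .c - v .a * v (.cbi i) * v (.cbi i) * v (.ci i) - v (.cbi i) * v (.cbi i) * v (.ci i) * v (.ci i) - v (.cbi i) * v (.cbi i) * v (.cbi i) * v (.ci i) = 0 := by
    linear_combination (v (.cbi i)) * H.dD i
  rw [ident_BE v d i, hr0, hr1]
  simp only [map_zero, zero_mul, add_zero]
  exact (add_mem (add_mem (add_mem (add_mem (term_mem mu (ff v d) om _ _ _ _ (by simp only [mu, map_add, om_single, wv, map_zero]; norm_num)) (term_mem mu (ff v d) om _ _ _ _ (by simp only [mu, map_add, om_single, wv, map_zero]; norm_num))) (term_mem mu (ff v d) om _ _ _ _ (by simp only [mu, map_add, om_single, wv, map_zero]; norm_num))) (term_mem mu (ff v d) om _ _ _ _ (by simp only [mu, map_add, om_single, wv, map_zero]; norm_num))) (term_mem mu (ff v d) om _ _ _ _ (by simp only [mu, map_add, om_single, wv, map_zero]; norm_num)))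

theorem ident_DD (i : Fin m) (j : Fin m) (k : Fin m) (hij : i ≠ j) (hik : i ≠ k) (hjk : j ≠ k) :
    monomial (single (CVar.xi k) 1) 1 * ff v d (Rule.D i j hij) -
      monomial (single (CVar.xi i) 1) 1 * ff v d (Rule.D j k hjk) =
      C (1) * (monomial (single CVar.x3 1) 1 * gg mu (ff v d) (Rule.A k)) +
      C (v (.cij i j hij)) * (monomial 0 1 * gg mu (ff v d) (Rule.D j k hjk)) +
      C (v (.cij j i hij.symm) - v (.cij j k hjk)) * (monomial 0 1 * gg mu (ff v d) (Rule.D i k hik)) +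
      C (-1) * (monomial (single CVar.x3 1) 1 * gg mu (ff v d) (Rule.A i)) +
      C (-v (.cij k j hjk.symm)) * (monomial 0 1 * gg mu (ff v d) (Rule.D i j hij)) +
      C (v (.ci k)) * (monomial 0 1 * gg mu (ff v d) (Rule.B k)) +
      C (-v (.ci i)) * (monomial 0 1 * gg mu (ff v d) (Rule.B i)) +
      C (-v .c + v .a * v (.ci k) + v (.cbi k) * v (.ci k) + v (.ci k) * v (.ci k) + v (.cij i j hij) * v (.cij j k hjk) + v (.cij i k hik) * v (.cij j i hij.symm) - v (.cij i k hik) * v (.cij j k hjk)) * (X (CVar.xi k)) +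
      C (v .c - v .a * v (.ci i) - v (.cbi i) * v (.ci i) - v (.ci i) * v (.ci i) + v (.cij j i hij.symm) * v (.cij k i hik.symm) - v (.cij j i hij.symm) * v (.cij k j hjk.symm) - v (.cij j k hjk) * v (.cij k i hik.symm)) * (X (CVar.xi i)) +
      C (-v (.cbi i) + v (.cbi k) - v (.ci i) + v (.ci k) + v (.cij i j hij) + v (.cij j i hij.symm) - v (.cij j k hjk) - v (.cij k j hjk.symm)) * (X CVar.x2 * X CVar.x3) +
      C (v .c * v (.ci i) - v .c * v (.ci k) - v .c * v (.cij i j hij) - v .c * v (.cij j i hij.symm) + v .c * v (.cij j k hjk) + v .c * v (.cij k j hjk.symm) - v (.ci i) * v .cb + v (.ci k) * v .cb + v .a * v (.cbi i) * v (.ci i) - v .a * v (.cbi k) * v (.ci k) + v (.cbi i) * v (.ci i) * v (.ci i) + v (.cbi i) * v (.cbi i) * v (.ci i) - v (.cbi k) * v (.ci k) * v (.ci k) - v (.cbi k) * v (.cbi k) * v (.ci k)) * 1 := by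
  simp only [gg, ff, mu, mono_add, mono1, mono2, mono0, map_add, map_sub, map_mul, map_neg, map_one]
  ring

theorem cert_DD (H : Hyp v d) (i : Fin m) (j : Fin m) (k : Fin m) (hij : i ≠ j) (hik : i ≠ k) (hjk : j ≠ k) :
    monomial (single (CVar.xi k) 1) 1 * ff v d (Rule.D i j hij) -
      monomial (single (CVar.xi i) 1) 1 * ff v d (Rule.D j k hjk) ∈
      Ilt mu (ff v d) om (om ((single (CVar.xi k) 1) + mu (Rule.D i j hij))) := by
  have hr0 : -v .c + v .a * v (.ci k) + v (.cbi k) * v (.ci k) + v (.ci k) * v (.ci k) + v (.cij i j hij) * v (.cij j k hjk) + v (.cij i k hik) * v (.cij j i hij.symm) - v (.cij i k hik) * v (.cij j k hjk) = 0 := by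
    linear_combination (1) * H.gam i j k hij hjk hik
  have hr1 : v .c - v .a * v (.ci i) - v (.cbi i) * v (.ci i) - v (.ci i) * v (.ci i) + v (.cij j i hij.symm) * v (.cij k i hik.symm) - v (.cij j i hij.symm) * v (.cij k j hjk.symm) - v (.cij j k hjk) * v (.cij k i hik.symm) = 0 := by
    linear_combination (-v (.cbi i) + v (.ci j) + v (.cij i k hik) + v (.cij k i hik.symm) - v (.cij k j hjk.symm)) * H.lam i j hij + (-1) * H.kap i j hij + (1) * H.bet i j hij + (v (.cbi i) - v (.cbi k) + v (.ci i) - v (.ci k) - v (.cij i j hij) + v (.cij k j hjk.symm)) * H.lam i k hik + (v (.cbi k) - v (.ci j) + v (.cij i j hij) - v (.cij i k hik) - v (.cij k i hik.symm)) * H.lam j k hjk + (1) * H.kap j k hjk + (-1) * H.bet j k hjk + (-1) * H.gam i j k hij hjk hik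
  have hr2 : -v (.cbi i) + v (.cbi k) - v (.ci i) + v (.ci k) + v (.cij i j hij) + v (.cij j i hij.symm) - v (.cij j k hjk) - v (.cij k j hjk.symm) = 0 := by
    linear_combination (1) * H.lam i j hij + (-1) * H.lam j k hjk
  have hr3 : v .c * v (.ci i) - v .c * v (.ci k) - v .c * v (.cij i j hij) - v .c * v (.cij j i hij.symm) + v .c * v (.cij j k hjk) + v .c * v (.cij k j hjk.symm) - v (.ci i) * v .cb + v (.ci k) * v .cb + v .a * v (.cbi i) * v (.ci i) - v .a * v (.cbi k) * v (.ci k) + v (.cbi i) * v (.ci i) * v (.ci i) + v (.cbi i) * v (.cbi i) * v (.ci i) - v (.cbi k) * v (.ci k) * v (.ci k) - v (.cbi k) * v (.cbi k) * v (.ci k) = 0 := by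
    linear_combination (v (.ci i) * v (.ci k) - v (.ci i) * v (.cij i k hik) - v (.ci k) * v (.cij k i hik.symm)) * H.lam i j hij + (-v (.cbi i) * v (.ci i) + v (.cbi k) * v (.ci k)) * H.lam i k hik + (-v (.ci i) + v (.ci k) + v (.cij i j hij) + v (.cij j i hij.symm) - v (.cij j k hjk) - v (.cij k j hjk.symm)) * H.kap i k hik + (v (.ci i) - v (.ci k)) * H.bet i k hik + (-v (.ci i) * v (.ci k) + v (.ci i) * v (.cij i k hik) + v (.ci k) * v (.cij k i hik.symm)) * H.lam j k hjk
  rw [ident_DD v d i j k hij hik hjk, hr0, hr1, hr2, hr3]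
  simp only [map_zero, zero_mul, add_zero]
  exact (add_mem (add_mem (add_mem (add_mem (add_mem (add_mem (term_mem mu (ff v d) om _ _ _ _ (by simp only [mu, map_add, om_single, wv, map_zero]; norm_num)) (term_mem mu (ff v d) om _ _ _ _ (by simp only [mu, map_add, om_single, wv, map_zero]; norm_num))) (term_mem mu (ff v d) om _ _ _ _ (by simp only [mu, map_add, om_single, wv, map_zero]; norm_num))) (term_mem mu (ff v d) om _ _ _ _ (by simp only [mu, map_add, om_single, wv, map_zero]; norm_num))) (term_mem mu (ff v d) om _ _ _ _ (by simp only [mu, map_add, om_single, wv, map_zero]; norm_num))) (term_mem mu (ff v d) om _ _ _ _ (by simp only [mu, map_add, om_single, wv, map_zero]; norm_num))) (term_mem mu (ff v d) om _ _ _ _ (by simp only [mu, map_add, om_single, wv, map_zero]; norm_num)))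


section coprime
variable {σ : Type*}

theorem coprime2 {a b c e : σ} (h1 : a ≠ c) (h2 : a ≠ e) (h3 : b ≠ c) (h4 : b ≠ e)
    (p q r s : ℕ) (y : σ) :
    (single a p + single b q : σ →₀ ℕ) y = 0 ∨ (single c r + single e s : σ →₀ ℕ) y = 0 := by
  classical
  simp only [Finsupp.add_apply, Finsupp.single_apply]
  by_cases hc : c = y
  · subst hc
    left
    rw [if_neg h1, if_neg h3, add_zero]
  · by_cases he : e = y
    · subst he
      left
      rw [if_neg h2, if_neg h4, add_zero]
    · right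
      rw [if_neg hc, if_neg he, add_zero]

end coprime

variable (H : Hyp v d)
include H

theorem res_AA (i j : Fin m) (hij : i ≠ j) :
    Resolvable mu (ff v d) om (Rule.A i) (Rule.A j) := by
  refine resolvable_of_lcm mu (ff v d) om (single (CVar.xi j) 1) (single (CVar.xi i) 1) ?_ ?_
    (cert_AA v d H i j hij)
  · simp only [mu]; abel
  · intro κ h1 h2
    rw [mu_A_le] at h1 h2
    have e : single (CVar.xi j) 1 + mu (Rule.A i) =
        single CVar.x2 1 + single (CVar.xi i) 1 + single (CVar.xi j) 1 := by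
      simp only [mu]; abel
    rw [e, single3_le_iff (by simp) (by simp) (xi_ne hij)]
    exact ⟨h1.1, h1.2, h2.2⟩

theorem res_AB (i : Fin m) :
    Resolvable mu (ff v d) om (Rule.A i) (Rule.B i) := by
  refine resolvable_of_lcm mu (ff v d) om (single CVar.x3 1) (single CVar.x2 1) ?_ ?_
    (cert_AB v d H i)
  · simp only [mu]; abel
  · intro κ h1 h2
    rw [mu_A_le] at h1
    rw [mu_B_le] at h2
    have e : single CVar.x3 1 + mu (Rule.A i) =
        single CVar.x2 1 + single CVar.x3 1 + single (CVar.xi i) 1 := by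
      simp only [mu]; abel
    rw [e, single3_le_iff (by simp) (by simp) (by simp)]
    exact ⟨h1.1, h2.1, h1.2⟩

theorem res_AD (i j : Fin m) (hij : i ≠ j) :
    Resolvable mu (ff v d) om (Rule.A i) (Rule.D i j hij) := by
  refine resolvable_of_lcm mu (ff v d) om (single (CVar.xi j) 1) (single CVar.x2 1) ?_ ?_
    (cert_AD v d H i j hij)
  · simp only [mu]; abel
  · intro κ h1 h2
    rw [mu_A_le] at h1
    rw [mu_D_le] at h2
    have e : single (CVar.xi j) 1 + mu (Rule.A i) =
        single CVar.x2 1 + single (CVar.xi i) 1 + single (CVar.xi j) 1 := by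
      simp only [mu]; abel
    rw [e, single3_le_iff (by simp) (by simp) (xi_ne hij)]
    exact ⟨h1.1, h1.2, h2.2⟩

theorem res_AE (i : Fin m) :
    Resolvable mu (ff v d) om (Rule.A i) Rule.E := by
  refine resolvable_of_lcm mu (ff v d) om (single CVar.x3 2) (single (CVar.xi i) 1) ?_ ?_
    (cert_AE v d H i)
  · simp only [mu]; abel
  · intro κ h1 h2
    rw [mu_A_le] at h1
    rw [mu_E_le] at h2
    have e : single CVar.x3 2 + mu (Rule.A i) =
        single CVar.x2 1 + single CVar.x3 2 + single (CVar.xi i) 1 := by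
      simp only [mu]; abel
    rw [e, single3_le_iff (by simp) (by simp) (by simp)]
    exact ⟨h1.1, h2.2, h1.2⟩

theorem res_BB (i j : Fin m) (hij : i ≠ j) :
    Resolvable mu (ff v d) om (Rule.B i) (Rule.B j) := by
  refine resolvable_of_lcm mu (ff v d) om (single (CVar.xi j) 1) (single (CVar.xi i) 1) ?_ ?_
    (cert_BB v d H i j hij)
  · simp only [mu]; abel
  · intro κ h1 h2
    rw [mu_B_le] at h1 h2
    have e : single (CVar.xi j) 1 + mu (Rule.B i) =
        single CVar.x3 1 + single (CVar.xi i) 1 + single (CVar.xi j) 1 := by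
      simp only [mu]; abel
    rw [e, single3_le_iff (by simp) (by simp) (xi_ne hij)]
    exact ⟨h1.1, h1.2, h2.2⟩

theorem res_BD (i j : Fin m) (hij : i ≠ j) :
    Resolvable mu (ff v d) om (Rule.B i) (Rule.D i j hij) := by
  refine resolvable_of_lcm mu (ff v d) om (single (CVar.xi j) 1) (single CVar.x3 1) ?_ ?_
    (cert_BD v d H i j hij)
  · simp only [mu]; abel
  · intro κ h1 h2
    rw [mu_B_le] at h1
    rw [mu_D_le] at h2
    have e : single (CVar.xi j) 1 + mu (Rule.B i) =
        single CVar.x3 1 + single (CVar.xi i) 1 + single (CVar.xi j) 1 := by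
      simp only [mu]; abel
    rw [e, single3_le_iff (by simp) (by simp) (xi_ne hij)]
    exact ⟨h1.1, h1.2, h2.2⟩

theorem res_BE (i : Fin m) :
    Resolvable mu (ff v d) om (Rule.B i) Rule.E := by
  have e2 : (single CVar.x3 2 : CVar m →₀ ℕ) = single CVar.x3 1 + single CVar.x3 1 := by
    rw [← single_add]
  refine resolvable_of_lcm mu (ff v d) om (single CVar.x2 1 + single CVar.x3 1)
    (single (CVar.xi i) 1) ?_ ?_ (cert_BE v d H i)
  · simp only [mu, e2]; abel
  · intro κ h1 h2
    rw [mu_B_le] at h1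
    rw [mu_E_le] at h2
    have e : single CVar.x2 1 + single CVar.x3 1 + mu (Rule.B i) =
        single CVar.x2 1 + single CVar.x3 2 + single (CVar.xi i) 1 := by
      simp only [mu, e2]; abel
    rw [e, single3_le_iff (by simp) (by simp) (by simp)]
    exact ⟨h2.1, h2.2, h1.2⟩

theorem res_DD (i j k : Fin m) (hij : i ≠ j) (hik : i ≠ k) (hjk : j ≠ k) :
    Resolvable mu (ff v d) om (Rule.D i j hij) (Rule.D j k hjk) := by
  refine resolvable_of_lcm mu (ff v d) om (single (CVar.xi k) 1) (single (CVar.xi i) 1) ?_ ?_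
    (cert_DD v d H i j k hij hik hjk)
  · simp only [mu]; abel
  · intro κ h1 h2
    rw [mu_D_le] at h1 h2
    have e : single (CVar.xi k) 1 + mu (Rule.D i j hij) =
        single (CVar.xi i) 1 + single (CVar.xi j) 1 + single (CVar.xi k) 1 := by
      simp only [mu]; abel
    rw [e, single3_le_iff (xi_ne hij) (xi_ne hik) (xi_ne hjk)]
    exact ⟨h1.1, h1.2, h2.2⟩

omit H in
theorem mu_D_swap (i j : Fin m) (h : i ≠ j) : mu (Rule.D i j h) = mu (Rule.D j i h.symm) := by
  simp only [mu]; abel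

omit H in
theorem ff_D_swap (i j : Fin m) (h : i ≠ j) :
    ff v d (Rule.D i j h) = ff v d (Rule.D j i h.symm) := by
  simp only [ff]; ring

theorem resolvable_all : ∀ s t : Rule m, Resolvable mu (ff v d) om s t := by
  have hco : ∀ {s t : Rule m}, (∀ y, mu s y = 0 ∨ mu t y = 0) →
      Resolvable mu (ff v d) om s t :=
    fun h => resolvable_of_coprime mu (ff v d) om (hf_ff v d) h
  -- the basic one-directional cases
  have hAB : ∀ i j : Fin m, Resolvable mu (ff v d) om (Rule.A i) (Rule.B j) := by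
    intro i j
    by_cases h : i = j
    · subst h; exact res_AB v d H i
    · exact hco (coprime2 (by simp) (by simp) (by simp) (xi_ne h) 1 1 1 1)
  have hAD : ∀ (i j k : Fin m) (h : j ≠ k),
      Resolvable mu (ff v d) om (Rule.A i) (Rule.D j k h) := by
    intro i j k h
    by_cases h1 : i = j
    · subst h1; exact res_AD v d H i k h
    · by_cases h2 : i = k
      · subst h2
        exact resolvable_congr_right mu (ff v d) om (mu_D_swap i j (Ne.symm h))
          (ff_D_swap v d i j (Ne.symm h)) (res_AD v d H i j (Ne.symm h))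
      · exact hco (coprime2 (by simp) (by simp) (xi_ne h1) (xi_ne h2) 1 1 1 1)
  have hAE : ∀ i : Fin m, Resolvable mu (ff v d) om (Rule.A i) Rule.E := res_AE v d H
  have hBD : ∀ (i j k : Fin m) (h : j ≠ k),
      Resolvable mu (ff v d) om (Rule.B i) (Rule.D j k h) := by
    intro i j k h
    by_cases h1 : i = j
    · subst h1; exact res_BD v d H i k h
    · by_cases h2 : i = k
      · subst h2
        exact resolvable_congr_right mu (ff v d) om (mu_D_swap i j (Ne.symm h))
          (ff_D_swap v d i j (Ne.symm h)) (res_BD v d H i j (Ne.symm h))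
      · exact hco (coprime2 (by simp) (by simp) (xi_ne h1) (xi_ne h2) 1 1 1 1)
  have hBE : ∀ i : Fin m, Resolvable mu (ff v d) om (Rule.B i) Rule.E := res_BE v d H
  have hDE : ∀ (i j : Fin m) (h : i ≠ j),
      Resolvable mu (ff v d) om (Rule.D i j h) Rule.E := by
    intro i j h
    exact hco (coprime2 (by simp) (by simp) (by simp) (by simp) 1 1 1 2)
  have hDD : ∀ (i j k l : Fin m) (h : i ≠ j) (h' : k ≠ l),
      Resolvable mu (ff v d) om (Rule.D i j h) (Rule.D k l h') := by
    intro i j k l h h'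
    by_cases e1 : i = k
    · subst e1
      by_cases e2 : j = l
      · subst e2; exact resolvable_of_eq mu (ff v d) om rfl rfl
      · -- D i j , D i l : from D j i , D i l
        exact resolvable_congr_left mu (ff v d) om (mu_D_swap j i h.symm)
          (ff_D_swap v d j i h.symm) (res_DD v d H j i l h.symm e2 h')
    · by_cases e2 : i = l
      · subst e2
        by_cases e3 : j = k
        · subst e3
          exact resolvable_of_eq mu (ff v d) om (mu_D_swap i j h) (ff_D_swap v d i j h)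
        · -- D i j , D k i : from D j i , D i k
          exact resolvable_congr_left mu (ff v d) om (mu_D_swap j i h.symm)
            (ff_D_swap v d j i h.symm)
            (resolvable_congr_right mu (ff v d) om (mu_D_swap i k h'.symm)
              (ff_D_swap v d i k h'.symm) (res_DD v d H j i k h.symm e3 h'.symm))
      · by_cases e3 : j = k
        · subst e3
          exact res_DD v d H i j l h e2 h'
        · by_cases e4 : j = l
          · subst e4
            -- D i j , D k j : from D i j , D j k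
            exact resolvable_congr_right mu (ff v d) om (mu_D_swap j k h'.symm)
              (ff_D_swap v d j k h'.symm) (res_DD v d H i j k h e1 h'.symm)
          · exact hco (coprime2 (xi_ne e1) (xi_ne e2) (xi_ne e3) (xi_ne e4) 1 1 1 1)
  intro s t
  rcases s with i | i | ⟨i, j, h⟩ | _ <;> rcases t with k | k | ⟨k, l, h'⟩ | _
  · by_cases e : i = k
    · subst e; exact resolvable_of_eq mu (ff v d) om rfl rfl
    · exact res_AA v d H i k e
  · exact hAB i k
  · exact hAD i k l h'
  · exact hAE i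
  · exact (hAB k i).symm
  · by_cases e : i = k
    · subst e; exact resolvable_of_eq mu (ff v d) om rfl rfl
    · exact res_BB v d H i k e
  · exact hBD i k l h'
  · exact hBE i
  · exact (hAD k i j h).symm
  · exact (hBD k i j h).symm
  · exact hDD i j k l h h'
  · exact hDE i j h
  · exact (hAE k).symm
  · exact (hBE k).symm
  · exact (hDE k l h').symm
  · exact resolvable_of_eq mu (ff v d) om rfl rfl

omit H

theorem gg_A (i : Fin m) : gg mu (ff v d) (Rule.A i) =
    X .x2 * X (.xi i) -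
      (X .x2 * X .x3 + C (v (.ci i)) * X (.xi i) + C (v (.cbi i)) * X .x2 - C (v .c)) := by
  simp only [gg, ff, mu, mono_add, mono1]

theorem gg_B (i : Fin m) : gg mu (ff v d) (Rule.B i) =
    X .x3 * X (.xi i) -
      (X .x2 * X .x3 + C (v .a + v (.ci i) + v (.cbi i)) * (X (.xi i) - C (v (.cbi i))) +
        C (v .cb) - C (v .c)) := by
  simp only [gg, ff, mu, mono_add, mono1]

theorem gg_D (i j : Fin m) (h : i ≠ j) : gg mu (ff v d) (Rule.D i j h) =
    X (.xi i) * X (.xi j) -
      (X .x2 * X .x3 + C (v (.cij i j h)) * X (.xi j) +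
        C (v (.cij j i h.symm)) * X (.xi i) - C (v .c)) := by
  simp only [gg, ff, mu, mono_add, mono1]

theorem gg_E_eq (i : Fin m) : gg mu (ff v d) Rule.E =
    - X .x3 * gg mu (ff v d) (Rule.A i) + X .x2 * gg mu (ff v d) (Rule.B i) -
      C (v (.ci i)) * gg mu (ff v d) (Rule.B i) +
      C (v .a + v (.ci i) + v (.cbi i)) * gg mu (ff v d) (Rule.A i) - C (d - dd v i) := by
  simp only [gg, ff, mu, dd, mono_add, mono1, mono2, map_add, map_sub, map_mul]
  ring

theorem gg_A_mem (i : Fin m) : gg mu (ff v d) (Rule.A i) ∈ Ideal.span (CRel R m v) := by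
  rw [gg_A]
  exact Ideal.subset_span (Or.inl (Or.inl ⟨i, rfl⟩))

theorem gg_B_mem (i : Fin m) : gg mu (ff v d) (Rule.B i) ∈ Ideal.span (CRel R m v) := by
  rw [gg_B]
  exact Ideal.subset_span (Or.inl (Or.inr ⟨i, rfl⟩))

theorem gg_D_mem (i j : Fin m) (h : i ≠ j) :
    gg mu (ff v d) (Rule.D i j h) ∈ Ideal.span (CRel R m v) := by
  rw [gg_D]
  exact Ideal.subset_span (Or.inr ⟨⟨(i, j), h⟩, rfl⟩)

theorem span_gg_eq (i0 : Fin m) :
    Ideal.span (Set.range (gg mu (ff v (dd v i0)))) = Ideal.span (CRel R m v) := by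
  apply le_antisymm
  · rw [Ideal.span_le]
    rintro _ ⟨s, rfl⟩
    rcases s with i | i | ⟨i, j, h⟩ | _
    · exact gg_A_mem v _ i
    · exact gg_B_mem v _ i
    · exact gg_D_mem v _ i j h
    · rw [gg_E_eq v _ i0, sub_self, map_zero, sub_zero]
      exact add_mem (sub_mem (add_mem (Ideal.mul_mem_left _ _ (gg_A_mem v _ i0))
        (Ideal.mul_mem_left _ _ (gg_B_mem v _ i0))) (Ideal.mul_mem_left _ _ (gg_B_mem v _ i0)))
        (Ideal.mul_mem_left _ _ (gg_A_mem v _ i0))
  · rw [Ideal.span_le]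
    rintro p ((⟨i, rfl⟩ | ⟨i, rfl⟩) | ⟨⟨⟨i, j⟩, h⟩, rfl⟩)
    · exact Ideal.subset_span ⟨Rule.A i, gg_A v (dd v i0) i⟩
    · exact Ideal.subset_span ⟨Rule.B i, gg_B v (dd v i0) i⟩
    · exact Ideal.subset_span ⟨Rule.D i j h, gg_D v (dd v i0) i j h⟩

/-- the standard monomials as polynomials -/
noncomputable def smon (n : Option (ℕ ⊕ (CVar m × ℕ))) : MvPolynomial (CVar m) R :=
  monomial (Eidx n) 1

theorem mk_linearCombination (l : Option (ℕ ⊕ (CVar m × ℕ)) →₀ R) :
    Ideal.Quotient.mk (Ideal.span (CRel R m v))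
      (Finsupp.linearCombination R (smon (R := R) (m := m)) l) =
    Finsupp.linearCombination R (cmon R m v) l := by
  have h1 := Finsupp.apply_linearCombination R
    (Ideal.Quotient.mkₐ R (Ideal.span (CRel R m v))).toLinearMap (smon (R := R) (m := m)) l
  have h2 : (⇑(Ideal.Quotient.mkₐ R (Ideal.span (CRel R m v))).toLinearMap ∘
      (smon (R := R) (m := m))) = cmon R m v := by
    funext n
    rw [cmon_eq]
    rfl
  rw [h2] at h1
  exact h1

theorem smon_linearIndependent : LinearIndependent R (smon (R := R) (m := m)) := by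
  have h := (basisMonomials (CVar m) R).linearIndependent.comp Eidx Eidx_injective
  have e : (⇑(basisMonomials (CVar m) R) ∘ Eidx) = smon (R := R) (m := m) := by
    funext n
    rw [Function.comp_apply, coe_basisMonomials]
    rfl
  rwa [e] at h

theorem Nspan_eq' : Nspan (R := R) (mu (m := m)) =
    Submodule.span R (Set.range (smon (R := R) (m := m))) := Nspan_eq

/-- If the relations of `U_n` hold, the standard monomials form a basis. -/
theorem basis_of_hyp (i0 : Fin m) (H : Hyp v (dd v i0)) :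
    LinearIndependent R (cmon R m v) ∧ Submodule.span R (Set.range (cmon R m v)) = ⊤ := by
  constructor
  · rw [linearIndependent_iff]
    intro l hl
    have hpN : Finsupp.linearCombination R (smon (R := R) (m := m)) l ∈
        Nspan (R := R) (mu (m := m)) := by
      rw [Nspan_eq', Finsupp.mem_span_range_iff_exists_finsupp]
      exact ⟨l, rfl⟩
    have hpI : Finsupp.linearCombination R (smon (R := R) (m := m)) l ∈
        Ideal.span (Set.range (gg mu (ff v (dd v i0)))) := by
      rw [span_gg_eq, ← Ideal.Quotient.eq_zero_iff_mem, mk_linearCombination, hl]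
    have hp0 := eq_zero_of_mem mu (ff v (dd v i0)) om (hf_ff v _) (resolvable_all v _ H) hpN hpI
    exact (linearIndependent_iff.1 smon_linearIndependent) l hp0
  · rw [eq_top_iff]
    rintro x -
    obtain ⟨p, rfl⟩ := Ideal.Quotient.mk_surjective x
    obtain ⟨r, hr, hpr⟩ := exists_rep mu (ff v (dd v i0)) om (hf_ff v _) p
    rw [span_gg_eq, ← Ideal.Quotient.eq_zero_iff_mem, map_sub, sub_eq_zero] at hpr
    rw [hpr]
    rw [Nspan_eq', Finsupp.mem_span_range_iff_exists_finsupp] at hr
    obtain ⟨l, rfl⟩ := hr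
    rw [← Finsupp.linearCombination_apply, mk_linearCombination,
      Finsupp.mem_span_range_iff_exists_finsupp]
    exact ⟨l, rfl⟩

theorem coeffs_zero (hli : LinearIndependent R (cmon R m v))
    (l : Option (ℕ ⊕ (CVar m × ℕ)) →₀ R)
    (h : Finsupp.linearCombination R (smon (R := R) (m := m)) l ∈ Ideal.span (CRel R m v)) :
    l = 0 := by
  rw [← Ideal.Quotient.eq_zero_iff_mem, mk_linearCombination] at h
  exact (linearIndependent_iff.1 hli) l h

theorem rem4_zero (hli : LinearIndependent R (cmon R m v))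
    {n0 n1 n2 n3 : Option (ℕ ⊕ (CVar m × ℕ))}
    (h01 : n0 ≠ n1) (h02 : n0 ≠ n2) (h03 : n0 ≠ n3) (h12 : n1 ≠ n2) (h13 : n1 ≠ n3)
    (h23 : n2 ≠ n3) (r0 r1 r2 r3 : R) (P0 P1 P2 P3 : MvPolynomial (CVar m) R)
    (e0 : P0 = smon n0) (e1 : P1 = smon n1) (e2 : P2 = smon n2) (e3 : P3 = smon n3)
    (h : C r0 * P0 + C r1 * P1 + C r2 * P2 + C r3 * P3 ∈ Ideal.span (CRel R m v)) :
    r0 = 0 ∧ r1 = 0 ∧ r2 = 0 ∧ r3 = 0 := by
  classical
  subst e0 e1 e2 e3
  have hlc : Finsupp.linearCombination R (smon (R := R) (m := m))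
      (single n0 r0 + single n1 r1 + single n2 r2 + single n3 r3) =
      C r0 * smon n0 + C r1 * smon n1 + C r2 * smon n2 + C r3 * smon n3 := by
    simp only [map_add, Finsupp.linearCombination_single, smul_eq_C_mul]
  have h0 := coeffs_zero v hli _ (by rw [hlc]; exact h)
  have ev : ∀ n, (single n0 r0 + single n1 r1 + single n2 r2 + single n3 r3 :
      Option (ℕ ⊕ (CVar m × ℕ)) →₀ R) n = 0 := fun n => by rw [h0]; rfl
  refine ⟨?_, ?_, ?_, ?_⟩
  · have := ev n0
    simpa [Finsupp.single_apply, h01, h01.symm, h02, h02.symm, h03, h03.symm] using this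
  · have := ev n1
    simpa [Finsupp.single_apply, h01, h01.symm, h12, h12.symm, h13, h13.symm] using this
  · have := ev n2
    simpa [Finsupp.single_apply, h02, h02.symm, h12, h12.symm, h23, h23.symm] using this
  · have := ev n3
    simpa [Finsupp.single_apply, h03, h03.symm, h13, h13.symm, h23, h23.symm] using this

theorem smon_var (y : CVar m) :
    (X y : MvPolynomial (CVar m) R) = smon (Option.some (Sum.inr (y, 0))) := rfl

theorem smon_23 : (X CVar.x2 * X CVar.x3 : MvPolynomial (CVar m) R) =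
    smon (Option.some (Sum.inl 0)) := by
  simp only [smon, Eidx]
  rw [mono_add]
  rfl

theorem smon_one : (1 : MvPolynomial (CVar m) R) = smon none := rfl

theorem remmem_AD (i0 : Fin m) (i : Fin m) (j : Fin m) (hij : i ≠ j) :
    C (-v .c + v .a * v (.ci j) + v (.cbi i) * v (.ci j) + v (.cbi j) * v (.ci j) + v (.ci i) * v (.cij i j hij) - v (.ci j) * v (.cij i j hij) + v (.ci j) * v (.ci j)) * (X (CVar.xi j)) +
      C (v .a + v (.cbi i) + v (.cbi j) + v (.ci i) + v (.ci j) - v (.cij i j hij) - v (.cij j i hij.symm)) * (X CVar.x2 * X CVar.x3) +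
      C (dd v i0 - v (.cbi i) * v .c - v .c * v (.ci i) - v .c * v (.ci j) + v .c * v (.cij i j hij) + v .c * v (.cij j i hij.symm) + v (.ci j) * v .cb - v .a * v (.cbi j) * v (.ci j) - v (.cbi j) * v (.ci j) * v (.ci j) - v (.cbi j) * v (.cbi j) * v (.ci j)) * 1 +
      C (v .cb + v (.cbi i) * v (.cbi j) - v (.cbi i) * v (.cij j i hij.symm) - v (.cbi j) * v (.cij i j hij)) * (X CVar.x2) ∈
      Ideal.span (CRel R m v) := by
  have hI : ∀ s, gg mu (ff v (dd v i0)) s ∈ Ideal.span (CRel R m v) := fun s => by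
    rw [← span_gg_eq v i0]; exact Ideal.subset_span ⟨s, rfl⟩
  have hS : monomial (single (CVar.xi j) 1) 1 * ff v (dd v i0) (Rule.A i) -
      monomial (single CVar.x2 1) 1 * ff v (dd v i0) (Rule.D i j hij) ∈
      Ideal.span (CRel R m v) := by
    have e : monomial (single (CVar.xi j) 1) 1 * ff v (dd v i0) (Rule.A i) -
      monomial (single CVar.x2 1) 1 * ff v (dd v i0) (Rule.D i j hij) =
      -(monomial (single (CVar.xi j) 1) 1 * gg mu (ff v (dd v i0)) (Rule.A i) -
      monomial (single CVar.x2 1) 1 * gg mu (ff v (dd v i0)) (Rule.D i j hij)) := by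
      simp only [gg, mu, mono_add, mono1, mono2, mono0]
      ring
    rw [e]
    exact neg_mem (sub_mem (Ideal.mul_mem_left _ _ (hI _)) (Ideal.mul_mem_left _ _ (hI _)))
  have hc : C (1) * (monomial (single CVar.x3 1) 1 * gg mu (ff v (dd v i0)) (Rule.A j)) +
      C (v (.ci i)) * (monomial 0 1 * gg mu (ff v (dd v i0)) (Rule.D i j hij)) +
      C (v (.cbi i) - v (.cij i j hij)) * (monomial 0 1 * gg mu (ff v (dd v i0)) (Rule.A j)) +
      C (-v (.cij j i hij.symm)) * (monomial 0 1 * gg mu (ff v (dd v i0)) (Rule.A i)) +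
      C (1) * (monomial 0 1 * gg mu (ff v (dd v i0)) Rule.E) +
      C (v (.ci j)) * (monomial 0 1 * gg mu (ff v (dd v i0)) (Rule.B j)) ∈
      Ideal.span (CRel R m v) :=
    (add_mem (add_mem (add_mem (add_mem (add_mem (Ideal.mul_mem_left _ _ (Ideal.mul_mem_left _ _ (hI _))) (Ideal.mul_mem_left _ _ (Ideal.mul_mem_left _ _ (hI _)))) (Ideal.mul_mem_left _ _ (Ideal.mul_mem_left _ _ (hI _)))) (Ideal.mul_mem_left _ _ (Ideal.mul_mem_left _ _ (hI _)))) (Ideal.mul_mem_left _ _ (Ideal.mul_mem_left _ _ (hI _)))) (Ideal.mul_mem_left _ _ (Ideal.mul_mem_left _ _ (hI _))))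
  have e2 := ident_AD v (dd v i0) i j hij
  have e3 : C (-v .c + v .a * v (.ci j) + v (.cbi i) * v (.ci j) + v (.cbi j) * v (.ci j) + v (.ci i) * v (.cij i j hij) - v (.ci j) * v (.cij i j hij) + v (.ci j) * v (.ci j)) * (X (CVar.xi j)) +
      C (v .a + v (.cbi i) + v (.cbi j) + v (.ci i) + v (.ci j) - v (.cij i j hij) - v (.cij j i hij.symm)) * (X CVar.x2 * X CVar.x3) +
      C (dd v i0 - v (.cbi i) * v .c - v .c * v (.ci i) - v .c * v (.ci j) + v .c * v (.cij i j hij) + v .c * v (.cij j i hij.symm) + v (.ci j) * v .cb - v .a * v (.cbi j) * v (.ci j) - v (.cbi j) * v (.ci j) * v (.ci j) - v (.cbi j) * v (.cbi j) * v (.ci j)) * 1 +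
      C (v .cb + v (.cbi i) * v (.cbi j) - v (.cbi i) * v (.cij j i hij.symm) - v (.cbi j) * v (.cij i j hij)) * (X CVar.x2) =
      (monomial (single (CVar.xi j) 1) 1 * ff v (dd v i0) (Rule.A i) -
      monomial (single CVar.x2 1) 1 * ff v (dd v i0) (Rule.D i j hij)) -
      (C (1) * (monomial (single CVar.x3 1) 1 * gg mu (ff v (dd v i0)) (Rule.A j)) +
      C (v (.ci i)) * (monomial 0 1 * gg mu (ff v (dd v i0)) (Rule.D i j hij)) +
      C (v (.cbi i) - v (.cij i j hij)) * (monomial 0 1 * gg mu (ff v (dd v i0)) (Rule.A j)) +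
      C (-v (.cij j i hij.symm)) * (monomial 0 1 * gg mu (ff v (dd v i0)) (Rule.A i)) +
      C (1) * (monomial 0 1 * gg mu (ff v (dd v i0)) Rule.E) +
      C (v (.ci j)) * (monomial 0 1 * gg mu (ff v (dd v i0)) (Rule.B j))) := by
    rw [e2]; abel
  rw [e3]
  exact sub_mem hS hc

theorem remmem_DD (i0 : Fin m) (i : Fin m) (j : Fin m) (k : Fin m) (hij : i ≠ j) (hik : i ≠ k) (hjk : j ≠ k) :
    C (-v .c + v .a * v (.ci k) + v (.cbi k) * v (.ci k) + v (.ci k) * v (.ci k) + v (.cij i j hij) * v (.cij j k hjk) + v (.cij i k hik) * v (.cij j i hij.symm) - v (.cij i k hik) * v (.cij j k hjk)) * (X (CVar.xi k)) +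
      C (v .c - v .a * v (.ci i) - v (.cbi i) * v (.ci i) - v (.ci i) * v (.ci i) + v (.cij j i hij.symm) * v (.cij k i hik.symm) - v (.cij j i hij.symm) * v (.cij k j hjk.symm) - v (.cij j k hjk) * v (.cij k i hik.symm)) * (X (CVar.xi i)) +
      C (-v (.cbi i) + v (.cbi k) - v (.ci i) + v (.ci k) + v (.cij i j hij) + v (.cij j i hij.symm) - v (.cij j k hjk) - v (.cij k j hjk.symm)) * (X CVar.x2 * X CVar.x3) +
      C (v .c * v (.ci i) - v .c * v (.ci k) - v .c * v (.cij i j hij) - v .c * v (.cij j i hij.symm) + v .c * v (.cij j k hjk) + v .c * v (.cij k j hjk.symm) - v (.ci i) * v .cb + v (.ci k) * v .cb + v .a * v (.cbi i) * v (.ci i) - v .a * v (.cbi k) * v (.ci k) + v (.cbi i) * v (.ci i) * v (.ci i) + v (.cbi i) * v (.cbi i) * v (.ci i) - v (.cbi k) * v (.ci k) * v (.ci k) - v (.cbi k) * v (.cbi k) * v (.ci k)) * 1 ∈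
      Ideal.span (CRel R m v) := by
  have hI : ∀ s, gg mu (ff v (dd v i0)) s ∈ Ideal.span (CRel R m v) := fun s => by
    rw [← span_gg_eq v i0]; exact Ideal.subset_span ⟨s, rfl⟩
  have hS : monomial (single (CVar.xi k) 1) 1 * ff v (dd v i0) (Rule.D i j hij) -
      monomial (single (CVar.xi i) 1) 1 * ff v (dd v i0) (Rule.D j k hjk) ∈
      Ideal.span (CRel R m v) := by
    have e : monomial (single (CVar.xi k) 1) 1 * ff v (dd v i0) (Rule.D i j hij) -
      monomial (single (CVar.xi i) 1) 1 * ff v (dd v i0) (Rule.D j k hjk) =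
      -(monomial (single (CVar.xi k) 1) 1 * gg mu (ff v (dd v i0)) (Rule.D i j hij) -
      monomial (single (CVar.xi i) 1) 1 * gg mu (ff v (dd v i0)) (Rule.D j k hjk)) := by
      simp only [gg, mu, mono_add, mono1, mono2, mono0]
      ring
    rw [e]
    exact neg_mem (sub_mem (Ideal.mul_mem_left _ _ (hI _)) (Ideal.mul_mem_left _ _ (hI _)))
  have hc : C (1) * (monomial (single CVar.x3 1) 1 * gg mu (ff v (dd v i0)) (Rule.A k)) +
      C (v (.cij i j hij)) * (monomial 0 1 * gg mu (ff v (dd v i0)) (Rule.D j k hjk)) +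
      C (v (.cij j i hij.symm) - v (.cij j k hjk)) * (monomial 0 1 * gg mu (ff v (dd v i0)) (Rule.D i k hik)) +
      C (-1) * (monomial (single CVar.x3 1) 1 * gg mu (ff v (dd v i0)) (Rule.A i)) +
      C (-v (.cij k j hjk.symm)) * (monomial 0 1 * gg mu (ff v (dd v i0)) (Rule.D i j hij)) +
      C (v (.ci k)) * (monomial 0 1 * gg mu (ff v (dd v i0)) (Rule.B k)) +
      C (-v (.ci i)) * (monomial 0 1 * gg mu (ff v (dd v i0)) (Rule.B i)) ∈
      Ideal.span (CRel R m v) :=
    (add_mem (add_mem (add_mem (add_mem (add_mem (add_mem (Ideal.mul_mem_left _ _ (Ideal.mul_mem_left _ _ (hI _))) (Ideal.mul_mem_left _ _ (Ideal.mul_mem_left _ _ (hI _)))) (Ideal.mul_mem_left _ _ (Ideal.mul_mem_left _ _ (hI _)))) (Ideal.mul_mem_left _ _ (Ideal.mul_mem_left _ _ (hI _)))) (Ideal.mul_mem_left _ _ (Ideal.mul_mem_left _ _ (hI _)))) (Ideal.mul_mem_left _ _ (Ideal.mul_mem_left _ _ (hI _)))) (Ideal.mul_mem_left _ _ (Ideal.mul_mem_left _ _ (hI _))))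
  have e2 := ident_DD v (dd v i0) i j k hij hik hjk
  have e3 : C (-v .c + v .a * v (.ci k) + v (.cbi k) * v (.ci k) + v (.ci k) * v (.ci k) + v (.cij i j hij) * v (.cij j k hjk) + v (.cij i k hik) * v (.cij j i hij.symm) - v (.cij i k hik) * v (.cij j k hjk)) * (X (CVar.xi k)) +
      C (v .c - v .a * v (.ci i) - v (.cbi i) * v (.ci i) - v (.ci i) * v (.ci i) + v (.cij j i hij.symm) * v (.cij k i hik.symm) - v (.cij j i hij.symm) * v (.cij k j hjk.symm) - v (.cij j k hjk) * v (.cij k i hik.symm)) * (X (CVar.xi i)) +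
      C (-v (.cbi i) + v (.cbi k) - v (.ci i) + v (.ci k) + v (.cij i j hij) + v (.cij j i hij.symm) - v (.cij j k hjk) - v (.cij k j hjk.symm)) * (X CVar.x2 * X CVar.x3) +
      C (v .c * v (.ci i) - v .c * v (.ci k) - v .c * v (.cij i j hij) - v .c * v (.cij j i hij.symm) + v .c * v (.cij j k hjk) + v .c * v (.cij k j hjk.symm) - v (.ci i) * v .cb + v (.ci k) * v .cb + v .a * v (.cbi i) * v (.ci i) - v .a * v (.cbi k) * v (.ci k) + v (.cbi i) * v (.ci i) * v (.ci i) + v (.cbi i) * v (.cbi i) * v (.ci i) - v (.cbi k) * v (.ci k) * v (.ci k) - v (.cbi k) * v (.cbi k) * v (.ci k)) * 1 =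
      (monomial (single (CVar.xi k) 1) 1 * ff v (dd v i0) (Rule.D i j hij) -
      monomial (single (CVar.xi i) 1) 1 * ff v (dd v i0) (Rule.D j k hjk)) -
      (C (1) * (monomial (single CVar.x3 1) 1 * gg mu (ff v (dd v i0)) (Rule.A k)) +
      C (v (.cij i j hij)) * (monomial 0 1 * gg mu (ff v (dd v i0)) (Rule.D j k hjk)) +
      C (v (.cij j i hij.symm) - v (.cij j k hjk)) * (monomial 0 1 * gg mu (ff v (dd v i0)) (Rule.D i k hik)) +
      C (-1) * (monomial (single CVar.x3 1) 1 * gg mu (ff v (dd v i0)) (Rule.A i)) +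
      C (-v (.cij k j hjk.symm)) * (monomial 0 1 * gg mu (ff v (dd v i0)) (Rule.D i j hij)) +
      C (v (.ci k)) * (monomial 0 1 * gg mu (ff v (dd v i0)) (Rule.B k)) +
      C (-v (.ci i)) * (monomial 0 1 * gg mu (ff v (dd v i0)) (Rule.B i))) := by
    rw [e2]; abel
  rw [e3]
  exact sub_mem hS hc


/-- Linear independence of the standard monomials forces the relations of `U_n`. -/
theorem rels_of_indep (i0 : Fin m) (hli : LinearIndependent R (cmon R m v)) :
    (∀ i j (h : i ≠ j), v (.cij i j h) + v (.cij j i h.symm) -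
      (v .a + v (.ci i) + v (.cbi i) + v (.ci j) + v (.cbi j)) = 0) ∧
    (∀ i j (h : i ≠ j), v (.cij j i h.symm) * v (.ci j) + v (.cij i j h) * v (.ci i) -
      v (.ci i) * v (.ci j) - v .c = 0) ∧
    (∀ i j (h : i ≠ j), v (.cij j i h.symm) * v (.cbi i) + v (.cij i j h) * v (.cbi j) -
      v (.cbi i) * v (.cbi j) - v .cb = 0) ∧
    (∀ i j k (h1 : i ≠ j) (h2 : j ≠ k) (h3 : i ≠ k),
      v (.cij i j h1) * v (.cij j k h2) + v (.cij j i h1.symm) * v (.cij i k h3) -
        v (.cij i k h3) * v (.cij j k h2) + (v .a + v (.ci k) + v (.cbi k)) * v (.ci k) -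
        v .c = 0) := by
  have hAD := fun (i j : Fin m) (hij : i ≠ j) =>
    rem4_zero v hli (n0 := Option.some (Sum.inr (CVar.xi j, 0))) (n1 := Option.some (Sum.inl 0))
      (n2 := none) (n3 := Option.some (Sum.inr (CVar.x2, 0)))
      (by simp) (by simp) (by simp) (by simp) (by simp) (by simp) _ _ _ _ _ _ _ _
      (smon_var _) smon_23 smon_one (smon_var _) (remmem_AD v i0 i j hij)
  have hDD := fun (i j k : Fin m) (hij : i ≠ j) (hik : i ≠ k) (hjk : j ≠ k) =>
    rem4_zero v hli (n0 := Option.some (Sum.inr (CVar.xi k, 0)))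
      (n1 := Option.some (Sum.inr (CVar.xi i, 0)))
      (n2 := Option.some (Sum.inl 0)) (n3 := none)
      (by intro e; simp at e; exact hik e.symm) (by simp) (by simp) (by simp) (by simp) (by simp)
      _ _ _ _ _ _ _ _
      (smon_var _) (smon_var _) smon_23 smon_one (remmem_DD v i0 i j k hij hik hjk)
  refine ⟨?_, ?_, ?_, ?_⟩
  · intro i j h
    obtain ⟨h0, h1, h2, h3⟩ := hAD i j h
    linear_combination (-1 : R) * h1
  · intro i j h
    obtain ⟨h0, h1, h2, h3⟩ := hAD i j h
    linear_combination h0 - v (.ci j) * h1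
  · intro i j h
    obtain ⟨h0, h1, h2, h3⟩ := hAD i j h
    linear_combination (-1 : R) * h3
  · intro i j k h1 h2 h3
    obtain ⟨e0, e1, e2, e3⟩ := hDD i j k h1 h3 h2
    linear_combination e0

/-- The relations of `U_n` give the hypotheses of the diamond lemma. -/
theorem hyp_of_rels (i0 : Fin m)
    (hl : ∀ i j (h : i ≠ j), v (.cij i j h) + v (.cij j i h.symm) -
      (v .a + v (.ci i) + v (.cbi i) + v (.ci j) + v (.cbi j)) = 0)
    (hk : ∀ i j (h : i ≠ j), v (.cij j i h.symm) * v (.ci j) + v (.cij i j h) * v (.ci i) -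
      v (.ci i) * v (.ci j) - v .c = 0)
    (hb : ∀ i j (h : i ≠ j), v (.cij j i h.symm) * v (.cbi i) + v (.cij i j h) * v (.cbi j) -
      v (.cbi i) * v (.cbi j) - v .cb = 0)
    (hg : ∀ i j k (h1 : i ≠ j) (h2 : j ≠ k) (h3 : i ≠ k),
      v (.cij i j h1) * v (.cij j k h2) + v (.cij j i h1.symm) * v (.cij i k h3) -
        v (.cij i k h3) * v (.cij j k h2) + (v .a + v (.ci k) + v (.cbi k)) * v (.ci k) -
        v .c = 0) : Hyp v (dd v i0) := by
  refine ⟨hl, hk, hb, hg, ?_⟩
  intro i
  by_cases e : i0 = i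
  · subst e
    unfold dd
    ring
  · have e1 := hl i0 i e
    have e2 := hk i0 i e
    have e3 := hb i0 i e
    unfold dd
    linear_combination (-(v (.cbi i0) * v (.ci i0)) + v (.cbi i) * v (.ci i)) * e1 +
      (v (.cbi i0) - v (.cbi i)) * e2 + (v (.ci i0) - v (.ci i)) * e3

/-- The main equivalence. -/
theorem basis_iff (hm : 1 ≤ m) :
    (LinearIndependent R (cmon R m v) ∧ Submodule.span R (Set.range (cmon R m v)) = ⊤) ↔
      (∀ p ∈ URel R m, MvPolynomial.eval v p = 0) := by
  have i0 : Fin m := ⟨0, hm⟩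
  constructor
  · rintro ⟨hli, -⟩
    obtain ⟨hl, hk, hb, hg⟩ := rels_of_indep v i0 hli
    rintro p (((⟨q, rfl⟩ | ⟨q, rfl⟩) | ⟨q, rfl⟩) | ⟨q, rfl⟩)
    · obtain ⟨⟨i, j⟩, h⟩ := q
      simp only [map_sub, map_add, map_mul, eval_X]
      exact hl i j h
    · obtain ⟨⟨i, j⟩, h⟩ := q
      simp only [map_sub, map_add, map_mul, eval_X]
      exact hk i j h
    · obtain ⟨⟨i, j⟩, h⟩ := q
      simp only [map_sub, map_add, map_mul, eval_X]
      exact hb i j h
    · obtain ⟨⟨i, j, k⟩, h1, h2, h3⟩ := q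
      simp only [map_sub, map_add, map_mul, eval_X]
      exact hg i j k h1 h2 h3
  · intro hU
    refine basis_of_hyp v i0 (hyp_of_rels v i0 ?_ ?_ ?_ ?_)
    · intro i j h
      have := hU _ (Or.inl (Or.inl (Or.inl ⟨⟨(i, j), h⟩, rfl⟩)))
      simpa only [map_sub, map_add, map_mul, eval_X] using this
    · intro i j h
      have := hU _ (Or.inl (Or.inl (Or.inr ⟨⟨(i, j), h⟩, rfl⟩)))
      simpa only [map_sub, map_add, map_mul, eval_X] using this
    · intro i j h
      have := hU _ (Or.inl (Or.inr ⟨⟨(i, j), h⟩, rfl⟩))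
      simpa only [map_sub, map_add, map_mul, eval_X] using this
    · intro i j k h1 h2 h3
      have := hU _ (Or.inr ⟨⟨(i, j, k), h1, h2, h3⟩, rfl⟩)
      simpa only [map_sub, map_add, map_mul, eval_X] using this

end Helper16CurveGB
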