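import Mathlib.RingTheory.DividedPowers.RatAlgebra
import Mathlib.RingTheory.DividedPowers.Basic
import Mathlib.Algebra.Polynomial.Coeff
import Mathlib.Algebra.Polynomial.Basic
import Mathlib.Tactic

/-!
# Divided powers from generators: core expansion lemmas (helper16)
-/

set_option autoImplicit false
set_option linter.style.haveILetI false
set_option linter.unusedSectionVars false

namespace Groth.Agent.Lib.Helper16DPow

open Finset Nat

variable {A : Type*} [CommRing A]

/-- the "easy" axioms of a divided power structure -/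
structure PreDP (I : Ideal A) (d : ℕ → A → A) : Prop where
  zero : ∀ x ∈ I, d 0 x = 1
  mem : ∀ (n : ℕ) (x : A), n ≠ 0 → x ∈ I → d n x ∈ I
  add : ∀ (n : ℕ) (x y : A), x ∈ I → y ∈ I →
    d n (x + y) = ∑ k ∈ antidiagonal n, d k.1 x * d k.2 y
  mul : ∀ (n : ℕ) (a x : A), x ∈ I → d n (a * x) = a ^ n * d n x

/-- an element satisfying the product and composition rules -/
def Good (d : ℕ → A → A) (x : A) : Prop :=
  (∀ m n : ℕ, d m x * d n x = ((m + n).choose m : A) * d (m + n) x) ∧
    (∀ m n : ℕ, n ≠ 0 → d m (d n x) = (uniformBell m n : A) * d (m * n) x)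

variable {I : Ideal A} {d : ℕ → A → A}

theorem PreDP.eval_zero (h : PreDP I d) {n : ℕ} (hn : n ≠ 0) : d n 0 = 0 := by
  have := h.mul n 0 0 I.zero_mem
  rw [zero_mul, zero_pow hn, zero_mul] at this
  exact this

theorem PreDP.add' (h : PreDP I d) (n : ℕ) {x y : A} (hx : x ∈ I) (hy : y ∈ I) :
    d n (x + y) = ∑ k ∈ range (n + 1), d k x * d (n - k) y := by
  rw [h.add n x y hx hy, sum_antidiagonal_eq_sum_range_succ_mk]

theorem prod_d (h : PreDP I d) {x : A} (hx : x ∈ I)
    (hmul : ∀ m n : ℕ, d m x * d n x = ((m + n).choose m : A) * d (m + n) x)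
    {ι : Type*} (s : Finset ι) (n : ι → ℕ) :
    (∏ i ∈ s, d (n i) x) = (Nat.multinomial s n : A) * d (s.sum n) x := by
  classical
  induction s using Finset.induction with
  | empty =>
    simp only [prod_empty, multinomial_empty, cast_one, sum_empty, one_mul]
    rw [h.zero x hx]
  | insert a s hi hrec =>
    rw [prod_insert hi, hrec, ← mul_assoc, mul_comm (d (n _) x),
      mul_assoc, hmul, ← sum_insert hi, ← mul_assoc]
    apply congr_arg₂ _ _ rfl
    rw [multinomial_insert hi, mul_comm, cast_mul, sum_insert hi]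

theorem pow_d (h : PreDP I d) {x : A} (hx : x ∈ I)
    (hmul : ∀ m n : ℕ, d m x * d n x = ((m + n).choose m : A) * d (m + n) x) (k c : ℕ) :
    (d k x) ^ c = (Nat.multinomial (range c) (fun _ => k) : A) * d (c * k) x := by
  have := prod_d h hx hmul (range c) (fun _ => k)
  rw [prod_const, card_range, sum_const, card_range, smul_eq_mul] at this
  exact this

/-- coefficient of a single factor in the expansion of `d c (d k x * d (n-k) y)` -/
def phi (n k c : ℕ) : ℕ :=
  if k = n then uniformBell c n else Nat.multinomial (range c) (fun _ => k) * uniformBell c (n - k)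

theorem term (h : PreDP I d) {x y : A} (hx : x ∈ I) (hy : y ∈ I) (gx : Good d x) (gy : Good d y)
    {n : ℕ} (hn : n ≠ 0) {k : ℕ} (hk : k ≤ n) (c : ℕ) :
    d c (d k x * d (n - k) y) = (phi n k c : A) * d (k * c) x * d ((n - k) * c) y := by
  unfold phi
  split_ifs with hkn
  · subst hkn
    rw [Nat.sub_self, h.zero y hy, mul_one, zero_mul, h.zero y hy, mul_one, gx.2 c k hn,
      mul_comm c k]
  · have hnk : n - k ≠ 0 := by omega
    have hmem : d (n - k) y ∈ I := h.mem _ _ hnk hy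
    rw [h.mul c _ _ hmem, pow_d h hx gx.1, gy.2 c _ hnk, mul_comm c k, mul_comm c (n - k)]
    push_cast
    ring

/-- total coefficient attached to a multiset of indices -/
noncomputable def Phi (n m : ℕ) (κ : Sym ℕ m) : ℕ :=
  (∏ k ∈ range (n + 1), phi n k (Multiset.count k (κ : Multiset ℕ))) *
    Nat.multinomial (range (n + 1)) (fun k => k * Multiset.count k (κ : Multiset ℕ)) *
    Nat.multinomial (range (n + 1)) (fun k => (n - k) * Multiset.count k (κ : Multiset ℕ))

/-- weight of a multiset -/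
noncomputable def wt (n m : ℕ) (κ : Sym ℕ m) : ℕ :=
  ∑ k ∈ range (n + 1), k * Multiset.count k (κ : Multiset ℕ)

theorem count_sum {n m : ℕ} {κ : Sym ℕ m} (hκ : κ ∈ (range (n + 1)).sym m) :
    ∑ k ∈ range (n + 1), Multiset.count k (κ : Multiset ℕ) = m := by
  have := Multiset.sum_count_eq_card (s := range (n + 1)) (m := (κ : Multiset ℕ))
    (fun a ha => (mem_sym_iff.mp hκ) a ha)
  exact this.trans κ.2

theorem wt_add {n m : ℕ} {κ : Sym ℕ m} (hκ : κ ∈ (range (n + 1)).sym m) :
    wt n m κ + ∑ k ∈ range (n + 1), (n - k) * Multiset.count k (κ : Multiset ℕ) = m * n := by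
  unfold wt
  rw [← sum_add_distrib]
  have h1 : ∀ k ∈ range (n + 1), k * Multiset.count k (κ : Multiset ℕ) +
      (n - k) * Multiset.count k (κ : Multiset ℕ) = n * Multiset.count k (κ : Multiset ℕ) := by
    intro k hk
    rw [mem_range] at hk
    rw [← add_mul]
    congr 1
    omega
  rw [sum_congr rfl h1, ← mul_sum, count_sum hκ, mul_comm]

theorem wt_le {n m : ℕ} {κ : Sym ℕ m} (hκ : κ ∈ (range (n + 1)).sym m) : wt n m κ ≤ m * n := by
  have := wt_add hκ
  omega

theorem E2 (h : PreDP I d) {x y : A} (hx : x ∈ I) (hy : y ∈ I) (gx : Good d x) (gy : Good d y)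
    {n : ℕ} (hn : n ≠ 0) (m : ℕ) :
    d m (d n (x + y)) = ∑ κ ∈ (range (n + 1)).sym m,
      (Phi n m κ : A) * d (wt n m κ) x * d (m * n - wt n m κ) y := by
  classical
  rw [h.add' n hx hy]
  have hmem : ∀ k ∈ range (n + 1), d k x * d (n - k) y ∈ I := by
    intro k hk
    rw [mem_range] at hk
    by_cases hk0 : k = 0
    · subst hk0
      exact I.mul_mem_left _ (h.mem _ _ (by omega) hy)
    · exact I.mul_mem_right _ (h.mem _ _ hk0 hx)
  rw [DividedPowers.dpow_sum' (I := I.toAddSubmonoid) d (fun hx => h.zero _ hx)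
    (fun hx hy => h.add _ _ _ hx hy) (fun hn => h.eval_zero hn) hmem]
  refine sum_congr rfl (fun κ hκ => ?_)
  have h1 : ∀ k ∈ range (n + 1), d (Multiset.count k (κ : Multiset ℕ)) (d k x * d (n - k) y) =
      (phi n k (Multiset.count k (κ : Multiset ℕ)) : A) *
        d (k * Multiset.count k (κ : Multiset ℕ)) x *
        d ((n - k) * Multiset.count k (κ : Multiset ℕ)) y := by
    intro k hk
    rw [mem_range] at hk
    exact term h hx hy gx gy hn (by omega) _
  rw [prod_congr rfl h1, prod_mul_distrib, prod_mul_distrib, prod_d h hx gx.1, prod_d h hy gy.1]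
  have h2 : ∑ k ∈ range (n + 1), (n - k) * Multiset.count k (κ : Multiset ℕ) =
      m * n - wt n m κ := by
    have := wt_add hκ
    omega
  rw [h2]
  unfold Phi
  change _ = _ * d (∑ k ∈ range (n + 1), k * Multiset.count k (κ : Multiset ℕ)) x * _
  push_cast
  ring

/-- regrouped coefficient -/
noncomputable def C2 (m n u : ℕ) : ℕ :=
  ∑ κ ∈ ((range (n + 1)).sym m).filter (fun κ => wt n m κ = u), Phi n m κ

theorem E2' (h : PreDP I d) {x y : A} (hx : x ∈ I) (hy : y ∈ I) (gx : Good d x) (gy : Good d y)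
    {n : ℕ} (hn : n ≠ 0) (m : ℕ) :
    d m (d n (x + y)) = ∑ u ∈ range (m * n + 1), (C2 m n u : A) * d u x * d (m * n - u) y := by
  classical
  rw [E2 h hx hy gx gy hn m]
  rw [← sum_fiberwise_of_maps_to (g := fun κ => wt n m κ) (t := range (m * n + 1))
    (fun κ hκ => mem_range.mpr (Nat.lt_succ_of_le (wt_le hκ)))]
  refine sum_congr rfl (fun u _ => ?_)
  unfold C2
  rw [cast_sum, sum_mul, sum_mul]
  refine sum_congr rfl (fun κ hκ => ?_)
  rw [(mem_filter.mp hκ).2]

/-- coefficient in the product expansion -/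
def C1 (m n u : ℕ) : ℕ :=
  ∑ p ∈ ((range (m + 1)) ×ˢ (range (n + 1))).filter (fun p => p.1 + p.2 = u),
    (p.1 + p.2).choose p.1 * ((m - p.1) + (n - p.2)).choose (m - p.1)

theorem E1 (h : PreDP I d) {x y : A} (hx : x ∈ I) (hy : y ∈ I) (gx : Good d x) (gy : Good d y)
    (m n : ℕ) :
    d m (x + y) * d n (x + y) =
      ∑ u ∈ range (m + n + 1), (C1 m n u : A) * d u x * d (m + n - u) y := by
  classical
  rw [h.add' m hx hy, h.add' n hx hy, sum_mul_sum, ← sum_product']
  rw [← sum_fiberwise_of_maps_to (g := fun p : ℕ × ℕ => p.1 + p.2) (t := range (m + n + 1))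
    (fun p hp => by
      rw [mem_product, mem_range, mem_range] at hp
      rw [mem_range]; omega)]
  refine sum_congr rfl (fun u _ => ?_)
  unfold C1
  rw [cast_sum, sum_mul, sum_mul]
  refine sum_congr rfl (fun p hp => ?_)
  rw [mem_filter, mem_product, mem_range, mem_range] at hp
  obtain ⟨⟨hp1, hp2⟩, hpu⟩ := hp
  have e1 : d p.1 x * d (m - p.1) y * (d p.2 x * d (n - p.2) y) =
      (d p.1 x * d p.2 x) * (d (m - p.1) y * d (n - p.2) y) := by ring
  rw [e1, gx.1, gy.1]
  have e2 : m - p.1 + (n - p.2) = m + n - u := by omega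
  rw [e2, hpu]
  push_cast
  ring
section Spec

open Polynomial

/-- the divided power structure on the unit ideal of `ℚ[X]` -/
noncomputable def hQ : DividedPowers (⊤ : Ideal ℚ[X]) := by
  classical exact DividedPowers.RatAlgebra.dividedPowers ⊤

theorem hQ_pre : PreDP (⊤ : Ideal ℚ[X]) hQ.dpow where
  zero _ hx := hQ.dpow_zero hx
  mem _ _ hn hx := hQ.dpow_mem hn hx
  add _ _ _ hx hy := hQ.dpow_add hx hy
  mul _ _ _ hx := hQ.dpow_mul hx

theorem hQ_good (x : ℚ[X]) : Good hQ.dpow x :=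
  ⟨fun _ _ => hQ.mul_dpow Submodule.mem_top, fun _ _ hn => hQ.dpow_comp hn Submodule.mem_top⟩

theorem hQ_X (u : ℕ) : hQ.dpow u X = C ((u ! : ℚ)⁻¹) * X ^ u := by
  rw [DividedPowers.RatAlgebra.dpow_eq_inv_fact_smul ⊤ hQ (Submodule.mem_top), Ring.inverse_eq_inv',
    Polynomial.smul_eq_C_mul]

theorem hQ_one (v : ℕ) : hQ.dpow v 1 = C ((v ! : ℚ)⁻¹) := by
  rw [DividedPowers.RatAlgebra.dpow_eq_inv_fact_smul ⊤ hQ (Submodule.mem_top), Ring.inverse_eq_inv',
    Polynomial.smul_eq_C_mul, one_pow, mul_one]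

theorem coeff_expansion (a : ℕ → ℕ) (N u₀ : ℕ) (hu : u₀ ≤ N) :
    (∑ u ∈ range (N + 1), (a u : ℚ[X]) * hQ.dpow u X * hQ.dpow (N - u) 1).coeff u₀ =
      (a u₀ : ℚ) * (u₀ ! : ℚ)⁻¹ * ((N - u₀) ! : ℚ)⁻¹ := by
  rw [finsetSum_coeff, sum_eq_single u₀]
  · rw [hQ_X, hQ_one]
    have : (a u₀ : ℚ[X]) * (C ((u₀ ! : ℚ)⁻¹) * X ^ u₀) * C (((N - u₀) ! : ℚ)⁻¹) =
        C ((a u₀ : ℚ) * (u₀ ! : ℚ)⁻¹ * ((N - u₀) ! : ℚ)⁻¹) * X ^ u₀ := by
      rw [← C_eq_natCast, C_mul, C_mul]; ring
    rw [this, coeff_C_mul, coeff_X_pow, if_pos rfl, mul_one]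
  · intro u _ hne
    rw [hQ_X, hQ_one]
    have : (a u : ℚ[X]) * (C ((u ! : ℚ)⁻¹) * X ^ u) * C (((N - u) ! : ℚ)⁻¹) =
        C ((a u : ℚ) * (u ! : ℚ)⁻¹ * ((N - u) ! : ℚ)⁻¹) * X ^ u := by
      rw [← C_eq_natCast, C_mul, C_mul]; ring
    rw [this, coeff_C_mul, coeff_X_pow, if_neg (Ne.symm hne), mul_zero]
  · intro hnot
    exact absurd (mem_range.mpr (Nat.lt_succ_of_le hu)) hnot

theorem coef_extract (a b : ℕ → ℕ) (N : ℕ)
    (hab : ∑ u ∈ range (N + 1), (a u : ℚ[X]) * hQ.dpow u X * hQ.dpow (N - u) 1 =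
      ∑ u ∈ range (N + 1), (b u : ℚ[X]) * hQ.dpow u X * hQ.dpow (N - u) 1)
    (u₀ : ℕ) (hu : u₀ ≤ N) : a u₀ = b u₀ := by
  have h1 := coeff_expansion a N u₀ hu
  have h2 := coeff_expansion b N u₀ hu
  rw [hab, h2] at h1
  have hf1 : ((u₀ ! : ℚ)⁻¹) ≠ 0 := inv_ne_zero (by exact_mod_cast Nat.factorial_ne_zero _)
  have hf2 : (((N - u₀) ! : ℚ)⁻¹) ≠ 0 := inv_ne_zero (by exact_mod_cast Nat.factorial_ne_zero _)
  have h3 := mul_right_cancel₀ hf1 (mul_right_cancel₀ hf2 h1)
  exact_mod_cast h3.symm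

theorem C2_eq {m n u : ℕ} (hn : n ≠ 0) (hu : u ≤ m * n) : C2 m n u = uniformBell m n := by
  refine coef_extract (C2 m n) (fun _ => uniformBell m n) (m * n) ?_ u hu
  rw [← E2' hQ_pre (x := X) (y := 1) Submodule.mem_top Submodule.mem_top (hQ_good _) (hQ_good _)
    hn m, (hQ_good (X + 1)).2 m n hn, hQ_pre.add' (m * n) (x := X) (y := 1) Submodule.mem_top
    Submodule.mem_top, mul_sum]
  refine sum_congr rfl (fun u _ => ?_)
  ring

theorem C1_eq {m n u : ℕ} (hu : u ≤ m + n) : C1 m n u = (m + n).choose m := by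
  refine coef_extract (C1 m n) (fun _ => (m + n).choose m) (m + n) ?_ u hu
  rw [← E1 hQ_pre (x := X) (y := 1) Submodule.mem_top Submodule.mem_top (hQ_good _) (hQ_good _)
    m n, (hQ_good (X + 1)).1 m n, hQ_pre.add' (m + n) (x := X) (y := 1) Submodule.mem_top
    Submodule.mem_top, mul_sum]
  refine sum_congr rfl (fun u _ => ?_)
  ring

end Spec

section Closure

variable {I : Ideal A} {d : ℕ → A → A}

theorem good_add (h : PreDP I d) {x y : A} (hx : x ∈ I) (hy : y ∈ I) (gx : Good d x)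
    (gy : Good d y) : Good d (x + y) := by
  constructor
  · intro m n
    rw [E1 h hx hy gx gy m n, h.add' (m + n) hx hy, mul_sum]
    refine sum_congr rfl (fun u hu => ?_)
    rw [mem_range] at hu
    rw [C1_eq (by omega)]
    ring
  · intro m n hn
    rw [E2' h hx hy gx gy hn m, h.add' (m * n) hx hy, mul_sum]
    refine sum_congr rfl (fun u hu => ?_)
    rw [mem_range] at hu
    rw [C2_eq hn (by omega)]
    ring

theorem good_smul (h : PreDP I d) {x : A} (hx : x ∈ I) (gx : Good d x) (a : A) :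
    Good d (a * x) := by
  constructor
  · intro m n
    rw [h.mul m a x hx, h.mul n a x hx, h.mul (m + n) a x hx]
    have := gx.1 m n
    calc a ^ m * d m x * (a ^ n * d n x) = a ^ (m + n) * (d m x * d n x) := by rw [pow_add]; ring
      _ = _ := by rw [this]; ring
  · intro m n hn
    rw [h.mul n a x hx, h.mul m _ _ (h.mem n x hn hx), h.mul (m * n) a x hx, gx.2 m n hn,
      ← pow_mul, mul_comm n m]
    ring

theorem good_zero (h : PreDP I d) : Good d 0 := by
  have := good_smul h I.zero_mem (x := 0) ?_ 0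
  · rwa [zero_mul] at this
  · constructor
    · intro m n
      by_cases hmn : m + n = 0
      · have hm : m = 0 := by omega
        have hn : n = 0 := by omega
        subst hm hn
        simp [h.zero 0 I.zero_mem]
      · rw [h.eval_zero hmn, mul_zero]
        by_cases hm : m = 0
        · have hn : n ≠ 0 := by omega
          rw [h.eval_zero hn, mul_zero]
        · rw [h.eval_zero hm, zero_mul]
    · intro m n hn
      rw [h.eval_zero hn]
      by_cases hm : m = 0
      · subst hm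
        rw [zero_mul, h.zero 0 I.zero_mem, uniformBell_zero_left, cast_one, one_mul]
      · rw [h.eval_zero hm, h.eval_zero (Nat.mul_ne_zero hm hn), mul_zero]

theorem good_of_span (h : PreDP I d) (S : Set A) (hS : Ideal.span S = I)
    (hgS : ∀ x ∈ S, Good d x) : ∀ x ∈ I, Good d x := by
  intro x hx
  have hSI : S ⊆ I := by rw [← hS]; exact Ideal.subset_span
  rw [← hS] at hx
  suffices x ∈ I ∧ Good d x from this.2
  induction hx using Submodule.span_induction with
  | mem x hx => exact ⟨hSI hx, hgS x hx⟩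
  | zero => exact ⟨I.zero_mem, good_zero h⟩
  | add x y _ _ hx hy => exact ⟨I.add_mem hx.1 hy.1, good_add h hx.1 hy.1 hx.2 hy.2⟩
  | smul a x _ hx => exact ⟨I.mul_mem_left a hx.1, good_smul h hx.1 hx.2 a⟩

/-- divided power structure from the easy axioms plus product/composition rules on generators -/
noncomputable def ofGens (h : PreDP I d) (h_null : ∀ (n : ℕ) (x : A), x ∉ I → d n x = 0)
    (h_one : ∀ x ∈ I, d 1 x = x) (S : Set A) (hS : Ideal.span S = I)
    (hgS : ∀ x ∈ S, Good d x) : DividedPowers I where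
  dpow := d
  dpow_null hx := h_null _ _ hx
  dpow_zero hx := h.zero _ hx
  dpow_one hx := h_one _ hx
  dpow_mem hn hx := h.mem _ _ hn hx
  dpow_add hx hy := h.add _ _ _ hx hy
  dpow_mul hx := h.mul _ _ _ hx
  mul_dpow hx := (good_of_span h S hS hgS _ hx).1 _ _
  dpow_comp hn hx := (good_of_span h S hS hgS _ hx).2 _ _ hn

end Closure

end Groth.Agent.Lib.Helper16DPow
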