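import Mathlib
import Groth.Agent.Lib.Helper16DPow
import Groth.Agent.S2193

/-!
# Extending divided powers along `A → B` when `I ⊗ B → B` is injective (helper16)
-/

set_option autoImplicit false
set_option linter.style.haveILetI false
set_option linter.unusedSectionVars false
universe u v

namespace Groth.Agent.Lib.Helper16DPExt

open Groth.Agent.Lib.Helper16DPow Groth.Agent.S2193 Finset TensorProduct

variable {A : Type u} {B : Type v} [CommRing A] [CommRing B] [Algebra A B] {I : Ideal A}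

theorem dd_μ' (hinj : Function.Injective (μ (I := I) (B := B))) (γ : DividedPowers I) (n : ℕ)
    (t : ↥I ⊗[A] B) : dd γ n (μ t) = PowerSeries.coeff n (F γ t).toMul := by
  have h : ∃ t' : ↥I ⊗[A] B, μ t' = μ t := ⟨t, rfl⟩
  unfold dd
  rw [dif_pos h, hinj (Classical.choose_spec h)]

theorem dd_pre' (hinj : Function.Injective (μ (I := I) (B := B))) (γ : DividedPowers I) :
    PreDP (I.map (algebraMap A B)) (dd (B := B) γ) where
  zero y hy := by
    obtain ⟨t, rfl⟩ := exists_μ hy
    rw [dd_μ' hinj, coeff_zero_F]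
  mem n y hn hy := by
    obtain ⟨t, rfl⟩ := exists_μ hy
    rw [dd_μ' hinj]
    exact coeff_mem_F γ t n hn
  add n y y' hy hy' := by
    obtain ⟨t, rfl⟩ := exists_μ hy
    obtain ⟨t', rfl⟩ := exists_μ hy'
    rw [← map_add, dd_μ' hinj, F_add, PowerSeries.coeff_mul]
    refine sum_congr rfl (fun p _ => ?_)
    rw [dd_μ' hinj, dd_μ' hinj]
  mul n c y hy := by
    obtain ⟨t, rfl⟩ := exists_μ hy
    rw [← μ_mulLeft, dd_μ' hinj, dd_μ' hinj, F_mulLeft, PowerSeries.coeff_rescale]

theorem dd_alg' (hinj : Function.Injective (μ (I := I) (B := B))) (γ : DividedPowers I) (n : ℕ)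
    {x : A} (hx : x ∈ I) :
    dd (B := B) γ n (algebraMap A B x) = algebraMap A B (γ.dpow n x) := by
  have : algebraMap A B x = μ ((⟨x, hx⟩ : ↥I) ⊗ₜ[A] (1 : B)) := by rw [μ_tmul, mul_one]
  rw [this, dd_μ' hinj, F_tmul, coeff_e, one_pow, mul_one]

theorem exists_ext (γ : DividedPowers I) (hinj : Function.Injective (μ (I := I) (B := B))) :
    ∃ δ : DividedPowers (I.map (algebraMap A B)), γ.IsDPMorphism δ (algebraMap A B) := by
  have hpre := dd_pre' hinj γ
  have hnull : ∀ (n : ℕ) (y : B), y ∉ I.map (algebraMap A B) → dd γ n y = 0 := by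
    intro n y hy
    unfold dd
    rw [dif_neg]
    rintro ⟨t, rfl⟩
    exact hy (μ_mem t)
  have hone : ∀ y ∈ I.map (algebraMap A B), dd γ 1 y = y := by
    intro y hy
    obtain ⟨t, rfl⟩ := exists_μ hy
    rw [dd_μ' hinj, coeff_one_F]
  have hgood : ∀ y ∈ (algebraMap A B) '' (I : Set A), Good (dd (B := B) γ) y := by
    rintro _ ⟨x, hx, rfl⟩
    have hx' : x ∈ I := hx
    constructor
    · intro m n
      rw [dd_alg' hinj γ _ hx', dd_alg' hinj γ _ hx', dd_alg' hinj γ _ hx', ← map_mul,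
        γ.mul_dpow hx', map_mul, map_natCast]
    · intro m n hn
      rw [dd_alg' hinj γ _ hx', dd_alg' hinj γ _ (γ.dpow_mem hn hx'), dd_alg' hinj γ _ hx',
        γ.dpow_comp hn hx', map_mul, map_natCast]
  refine ⟨ofGens hpre hnull hone _ rfl hgood, le_refl _, fun x hx => ?_⟩
  exact dd_alg' hinj γ _ hx

end Groth.Agent.Lib.Helper16DPExt
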