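import Mathlib
import Groth.Agent.Lib.Helper16DPow

/-!
# The ℤ-form of the divided power polynomial algebra inside `ℚ[X]` (helper16)
-/

set_option autoImplicit false
set_option linter.style.haveILetI false
set_option linter.unusedSectionVars false

namespace Groth.Agent.Lib.Helper16DPPoly

open MvPolynomial Nat

variable {σ : Type*}

/-- `e!` -/
def efac (e : σ →₀ ℕ) : ℕ := e.prod fun _ k => k !

theorem efac_pos (e : σ →₀ ℕ) : 0 < efac e :=
  Finset.prod_pos (fun _ _ => Nat.factorial_pos _)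

theorem efac_ne_zero (e : σ →₀ ℕ) : (efac e : ℚ) ≠ 0 := by
  exact_mod_cast (efac_pos e).ne'

/-- structure constants -/
noncomputable def sc (e f : σ →₀ ℕ) : ℕ := (e + f).prod fun i k => k.choose (e i)

theorem efac_eq_of_subset (e : σ →₀ ℕ) (s : Finset σ) (hs : e.support ⊆ s) :
    efac e = ∏ i ∈ s, (e i)! := by
  unfold efac
  exact Finsupp.prod_of_support_subset e hs _ (fun _ _ => rfl)

theorem sc_mul (e f : σ →₀ ℕ) : sc e f * efac e * efac f = efac (e + f) := by
  classical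
  rw [efac_eq_of_subset e (e + f).support (by
      intro i hi
      rw [Finsupp.mem_support_iff] at hi ⊢
      rw [Finsupp.add_apply]; omega),
    efac_eq_of_subset f (e + f).support (by
      intro i hi
      rw [Finsupp.mem_support_iff] at hi ⊢
      rw [Finsupp.add_apply]; omega)]
  unfold sc efac Finsupp.prod
  rw [← Finset.prod_mul_distrib, ← Finset.prod_mul_distrib]
  refine Finset.prod_congr rfl (fun i _ => ?_)
  show ((e + f) i).choose (e i) * (e i)! * (f i)! = ((e + f) i)!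
  rw [Finsupp.add_apply, Nat.choose_symm_add]
  exact Nat.add_choose_mul_factorial_mul_factorial (e i) (f i)

/-- the divided monomial `X^e / e!` -/
noncomputable def m (e : σ →₀ ℕ) : MvPolynomial σ ℚ := monomial e ((efac e : ℚ)⁻¹)

theorem m_zero : m (0 : σ →₀ ℕ) = 1 := by
  unfold m efac
  simp

theorem m_mul (e f : σ →₀ ℕ) : m e * m f = (sc e f : MvPolynomial σ ℚ) * m (e + f) := by
  unfold m
  rw [monomial_mul, ← C_eq_coe_nat, C_mul_monomial]
  congr 1
  have h := sc_mul e f
  have h' : (sc e f : ℚ) * efac e * efac f = efac (e + f) := by exact_mod_cast h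
  have h1 := efac_ne_zero e
  have h2 := efac_ne_zero f
  have h3 := efac_ne_zero (e + f)
  field_simp
  rw [← h']
  ring

/-- ℤ-span of the divided monomials -/
noncomputable def spanM (σ : Type*) : Submodule ℤ (MvPolynomial σ ℚ) :=
  Submodule.span ℤ (Set.range (m (σ := σ)))

theorem m_mem (e : σ →₀ ℕ) : m e ∈ spanM σ := Submodule.subset_span ⟨e, rfl⟩

theorem spanM_mul {a b : MvPolynomial σ ℚ} (ha : a ∈ spanM σ) (hb : b ∈ spanM σ) :
    a * b ∈ spanM σ := by
  induction ha using Submodule.span_induction with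
  | mem a ha =>
    obtain ⟨e, rfl⟩ := ha
    induction hb using Submodule.span_induction with
    | mem b hb =>
      obtain ⟨f, rfl⟩ := hb
      rw [m_mul, ← nsmul_eq_mul]
      exact Submodule.smul_of_tower_mem _ _ (m_mem _)
    | zero => rw [mul_zero]; exact zero_mem _
    | add x y _ _ hx hy => rw [mul_add]; exact add_mem hx hy
    | smul c x _ hx => rw [mul_smul_comm]; exact Submodule.smul_mem _ _ hx
  | zero => rw [zero_mul]; exact zero_mem _
  | add x y _ _ hx hy => rw [add_mul]; exact add_mem hx hy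
  | smul c x _ hx => rw [smul_mul_assoc]; exact Submodule.smul_mem _ _ hx

/-- the ℤ-form of the divided power polynomial algebra -/
noncomputable def DPZ (σ : Type*) : Subring (MvPolynomial σ ℚ) where
  carrier := spanM σ
  mul_mem' ha hb := spanM_mul ha hb
  one_mem' := by rw [← m_zero]; exact m_mem 0
  add_mem' ha hb := add_mem ha hb
  zero_mem' := zero_mem _
  neg_mem' ha := neg_mem ha

theorem mem_DPZ {a : MvPolynomial σ ℚ} : a ∈ DPZ σ ↔ a ∈ spanM σ := Iff.rfl

/-- divided monomials as elements of `DPZ` -/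
noncomputable def mZ (e : σ →₀ ℕ) : DPZ σ := ⟨m e, m_mem e⟩

theorem coe_mZ (e : σ →₀ ℕ) : ((mZ e : DPZ σ) : MvPolynomial σ ℚ) = m e := rfl

theorem mZ_zero : mZ (0 : σ →₀ ℕ) = 1 := Subtype.ext m_zero

theorem mZ_mul (e f : σ →₀ ℕ) : mZ e * mZ f = (sc e f : DPZ σ) * mZ (e + f) := by
  apply Subtype.ext
  simp only [Subring.coe_mul, coe_mZ, m_mul, Subring.coe_natCast]

open Classical in
theorem coeff_m (e f : σ →₀ ℕ) : coeff f (m e) = if e = f then (efac e : ℚ)⁻¹ else 0 := by
  unfold m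
  rw [coeff_monomial]

theorem mZ_linearIndependent : LinearIndependent ℤ (mZ (σ := σ)) := by
  classical
  rw [linearIndependent_iff]
  intro l hl
  ext e
  have h1 := congrArg (fun y : DPZ σ => coeff e (y : MvPolynomial σ ℚ)) hl
  simp only [Finsupp.linearCombination_apply, Finsupp.sum, ZeroMemClass.coe_zero, coeff_zero] at h1
  rw [AddSubmonoidClass.coe_finsetSum, coeff_sum] at h1
  have h3 : ∀ x ∈ l.support, coeff e ((l x • mZ x : DPZ σ) : MvPolynomial σ ℚ) =
      if x = e then (l x : ℚ) * (efac x : ℚ)⁻¹ else 0 := by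
    intro x _
    have : ((l x • mZ x : DPZ σ) : MvPolynomial σ ℚ) = l x • m x := rfl
    rw [this, coeff_smul, coeff_m, zsmul_eq_mul]
    split_ifs <;> simp
  rw [Finset.sum_congr rfl h3, Finset.sum_ite_eq'] at h1
  by_cases hle : l e = 0
  · simpa using hle
  · rw [if_pos (Finsupp.mem_support_iff.mpr hle)] at h1
    have := efac_ne_zero e
    have h2 : (l e : ℚ) = 0 := by
      rcases mul_eq_zero.mp h1 with h | h
      · exact h
      · exact absurd (inv_eq_zero.mp h) this
    exact_mod_cast h2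

theorem mZ_span : ⊤ ≤ Submodule.span ℤ (Set.range (mZ (σ := σ))) := by
  rintro ⟨y, hy⟩ -
  have hy' : y ∈ spanM σ := hy
  refine Submodule.span_induction
    (p := fun y hy => (⟨y, hy⟩ : DPZ σ) ∈ Submodule.span ℤ (Set.range (mZ (σ := σ))))
    ?_ ?_ ?_ ?_ hy'
  · rintro _ ⟨e, rfl⟩
    exact Submodule.subset_span ⟨e, rfl⟩
  · exact zero_mem _
  · intro x y hx hy ihx ihy
    have : (⟨x + y, add_mem hx hy⟩ : DPZ σ) = ⟨x, hx⟩ + ⟨y, hy⟩ := rfl
    rw [this]
    exact add_mem ihx ihy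
  · intro c x hx ih
    have : (⟨c • x, Submodule.smul_mem _ c hx⟩ : DPZ σ) = c • ⟨x, hx⟩ := rfl
    rw [this]
    exact Submodule.smul_mem _ _ ih

/-- the ℤ-basis of divided monomials -/
noncomputable def bZ (σ : Type*) : Module.Basis (σ →₀ ℕ) ℤ (DPZ σ) :=
  Module.Basis.mk mZ_linearIndependent mZ_span

theorem bZ_apply (e : σ →₀ ℕ) : bZ σ e = mZ e := by
  unfold bZ
  rw [Module.Basis.mk_apply]
section Aug

variable (σ : Type*)

/-- the augmentation `DPZ → ℚ` -/
noncomputable def augZ : DPZ σ →+* ℚ := (constantCoeff (R := ℚ) (σ := σ)).comp (DPZ σ).subtype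

/-- the augmentation ideal -/
noncomputable def IZ : Ideal (DPZ σ) := RingHom.ker (augZ σ)

variable {σ}

theorem mem_IZ {y : DPZ σ} : y ∈ IZ σ ↔ constantCoeff (y : MvPolynomial σ ℚ) = 0 := Iff.rfl

theorem augZ_mZ_ne (e : σ →₀ ℕ) (he : e ≠ 0) : mZ e ∈ IZ σ := by
  classical
  rw [mem_IZ, coe_mZ]
  unfold m
  rw [constantCoeff_monomial, if_neg he]

/-- generators of the augmentation ideal -/
def GZ (σ : Type*) : Set (DPZ σ) := {y | ∃ (i : σ) (k : ℕ), 1 ≤ k ∧ y = mZ (Finsupp.single i k)}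

theorem sc_single_erase (e : σ →₀ ℕ) (i : σ) :
    sc (Finsupp.single i (e i)) (e.erase i) = 1 := by
  classical
  unfold sc
  rw [Finsupp.single_add_erase]
  unfold Finsupp.prod
  refine Finset.prod_eq_one (fun j _ => ?_)
  show (e j).choose ((Finsupp.single i (e i)) j) = 1
  by_cases hj : j = i
  · subst hj
    rw [Finsupp.single_eq_same, Nat.choose_self]
  · rw [Finsupp.single_eq_of_ne hj, Nat.choose_zero_right]

theorem mZ_factor (e : σ →₀ ℕ) (i : σ) :
    mZ e = mZ (Finsupp.single i (e i)) * mZ (e.erase i) := by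
  rw [mZ_mul, sc_single_erase, Finsupp.single_add_erase, Nat.cast_one, one_mul]

theorem mZ_mem_span_GZ (e : σ →₀ ℕ) (he : e ≠ 0) : mZ e ∈ Ideal.span (GZ σ) := by
  obtain ⟨i, hi⟩ : ∃ i, e i ≠ 0 := by
    by_contra hcon
    push Not at hcon
    exact he (Finsupp.ext hcon)
  rw [mZ_factor e i]
  exact Ideal.mul_mem_right _ _ (Ideal.subset_span ⟨i, e i, by omega, rfl⟩)

theorem IZ_le_span : IZ σ ≤ Ideal.span (GZ σ) := by
  classical
  intro y hy
  have h1 : y = ∑ e ∈ ((bZ σ).repr y).support, ((bZ σ).repr y e) • mZ e := by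
    conv_lhs => rw [← (bZ σ).linearCombination_repr y]
    rw [Finsupp.linearCombination_apply, Finsupp.sum]
    refine Finset.sum_congr rfl (fun e _ => ?_)
    rw [bZ_apply]
  have h0 : (bZ σ).repr y 0 = 0 := by
    have h2 := congrArg (augZ σ) h1
    rw [show augZ σ y = 0 from hy, map_sum] at h2
    have h3 : ∀ e ∈ ((bZ σ).repr y).support, augZ σ (((bZ σ).repr y e) • mZ e) =
        if e = 0 then (((bZ σ).repr y e : ℤ) : ℚ) else 0 := by
      intro e _
      rw [zsmul_eq_mul, map_mul, map_intCast]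
      split_ifs with he
      · subst he
        rw [mZ_zero, map_one, mul_one]
      · rw [show augZ σ (mZ e) = 0 from augZ_mZ_ne e he, mul_zero]
    rw [Finset.sum_congr rfl h3, Finset.sum_ite_eq'] at h2
    by_contra hne
    rw [if_pos (Finsupp.mem_support_iff.mpr hne)] at h2
    exact hne (by exact_mod_cast h2.symm)
  rw [h1]
  refine Ideal.sum_mem _ (fun e he => ?_)
  have hne : e ≠ 0 := by
    rintro rfl
    exact (Finsupp.mem_support_iff.mp he) h0
  rw [zsmul_eq_mul]
  exact Ideal.mul_mem_left _ _ (mZ_mem_span_GZ e hne)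

theorem span_GZ_le : Ideal.span (GZ σ) ≤ IZ σ := by
  rw [Ideal.span_le]
  rintro _ ⟨i, k, hk, rfl⟩
  refine augZ_mZ_ne _ ?_
  intro h
  have := DFunLike.congr_fun h i
  simp at this
  omega

theorem IZ_eq_span : IZ σ = Ideal.span (GZ σ) := le_antisymm IZ_le_span span_GZ_le

end Aug

section DP

variable {σ : Type*}

/-- the divided powers of `ℚ[X]` -/
noncomputable def hQ (σ : Type*) : DividedPowers (⊤ : Ideal (MvPolynomial σ ℚ)) := by
  classical exact DividedPowers.RatAlgebra.dividedPowers ⊤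

theorem hQ_apply (n : ℕ) (y : MvPolynomial σ ℚ) :
    (hQ σ).dpow n y = C ((n ! : ℚ)⁻¹) * y ^ n := by
  rw [DividedPowers.RatAlgebra.dpow_eq_inv_fact_smul ⊤ (hQ σ) (Submodule.mem_top),
    Ring.inverse_eq_inv', MvPolynomial.smul_eq_C_mul]

theorem hQ_single (n : ℕ) (i : σ) {k : ℕ} (hk : k ≠ 0) :
    (hQ σ).dpow n (m (Finsupp.single i k)) =
      (uniformBell n k : MvPolynomial σ ℚ) * m (Finsupp.single i (n * k)) := by
  rw [hQ_apply]
  unfold m efac
  rw [monomial_pow, C_mul_monomial, ← C_eq_coe_nat, C_mul_monomial, Finsupp.smul_single,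
    smul_eq_mul]
  congr 1
  rw [Finsupp.prod_single_index (by simp), Finsupp.prod_single_index (by simp)]
  have h := Nat.uniformBell_mul_eq n hk
  have h' : (uniformBell n k : ℚ) * (k ! : ℚ) ^ n * (n ! : ℚ) = ((n * k)! : ℚ) := by exact_mod_cast h
  have h1 : (k ! : ℚ) ≠ 0 := by exact_mod_cast Nat.factorial_ne_zero k
  have h2 : (n ! : ℚ) ≠ 0 := by exact_mod_cast Nat.factorial_ne_zero n
  have h3 : ((n * k)! : ℚ) ≠ 0 := by exact_mod_cast Nat.factorial_ne_zero (n * k)
  rw [inv_pow]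
  field_simp
  rw [← h']
  ring

theorem clos (y : DPZ σ) (hy : y ∈ IZ σ) : ∀ n : ℕ, (hQ σ).dpow n (y : MvPolynomial σ ℚ) ∈ DPZ σ := by
  rw [IZ_eq_span] at hy
  induction hy using Submodule.span_induction with
  | mem y hy =>
    obtain ⟨i, k, hk, rfl⟩ := hy
    intro n
    rw [coe_mZ, hQ_single n i (by omega)]
    exact (DPZ σ).mul_mem (natCast_mem _ _) (m_mem _)
  | zero =>
    intro n
    by_cases hn : n = 0
    · subst hn
      rw [ZeroMemClass.coe_zero, (hQ σ).dpow_zero Submodule.mem_top]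
      exact (DPZ σ).one_mem
    · rw [ZeroMemClass.coe_zero, (hQ σ).dpow_eval_zero hn]
      exact (DPZ σ).zero_mem
  | add y y' _ _ hy hy' =>
    intro n
    rw [Subring.coe_add, (hQ σ).dpow_add Submodule.mem_top Submodule.mem_top]
    exact Subring.sum_mem _ (fun p _ => (DPZ σ).mul_mem (hy _) (hy' _))
  | smul a y _ hy =>
    intro n
    rw [smul_eq_mul, Subring.coe_mul, (hQ σ).dpow_mul Submodule.mem_top]
    exact (DPZ σ).mul_mem ((DPZ σ).pow_mem a.2 n) (hy n)

theorem clos_mem (y : DPZ σ) (hy : y ∈ IZ σ) {n : ℕ} (hn : n ≠ 0) :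
    (⟨(hQ σ).dpow n (y : MvPolynomial σ ℚ), clos y hy n⟩ : DPZ σ) ∈ IZ σ := by
  rw [mem_IZ]
  show constantCoeff ((hQ σ).dpow n (y : MvPolynomial σ ℚ)) = 0
  rw [hQ_apply, map_mul, map_pow, mem_IZ.mp hy, zero_pow hn, mul_zero]

open Classical in
/-- the divided powers on the augmentation ideal of `DPZ` -/
noncomputable def dZ (n : ℕ) (y : DPZ σ) : DPZ σ :=
  if hy : y ∈ IZ σ then ⟨(hQ σ).dpow n (y : MvPolynomial σ ℚ), clos y hy n⟩ else 0

theorem coe_dZ {n : ℕ} {y : DPZ σ} (hy : y ∈ IZ σ) :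
    ((dZ n y : DPZ σ) : MvPolynomial σ ℚ) = (hQ σ).dpow n (y : MvPolynomial σ ℚ) := by
  unfold dZ
  rw [dif_pos hy]

theorem dZ_mem {n : ℕ} {y : DPZ σ} (hn : n ≠ 0) (hy : y ∈ IZ σ) : dZ n y ∈ IZ σ := by
  unfold dZ
  rw [dif_pos hy]
  exact clos_mem y hy hn

/-- divided power structure on the augmentation ideal of `DPZ` -/
noncomputable def γZ (σ : Type*) : DividedPowers (IZ σ) where
  dpow := dZ
  dpow_null hy := by unfold dZ; rw [dif_neg hy]
  dpow_zero hy := by
    apply Subtype.ext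
    rw [coe_dZ hy, (hQ σ).dpow_zero Submodule.mem_top]; rfl
  dpow_one hy := by
    apply Subtype.ext
    rw [coe_dZ hy, (hQ σ).dpow_one Submodule.mem_top]
  dpow_mem hn hy := dZ_mem hn hy
  dpow_add {n x y} hx hy := by
    apply Subtype.ext
    rw [coe_dZ ((IZ σ).add_mem hx hy), Subring.coe_add,
      (hQ σ).dpow_add Submodule.mem_top Submodule.mem_top, AddSubmonoidClass.coe_finsetSum]
    refine Finset.sum_congr rfl (fun p _ => ?_)
    rw [Subring.coe_mul, coe_dZ hx, coe_dZ hy]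
  dpow_mul {n a x} hx := by
    apply Subtype.ext
    rw [coe_dZ ((IZ σ).mul_mem_left a hx), Subring.coe_mul, Subring.coe_mul,
      (hQ σ).dpow_mul Submodule.mem_top, coe_dZ hx, Subring.coe_pow]
  mul_dpow {m n x} hx := by
    apply Subtype.ext
    rw [Subring.coe_mul, Subring.coe_mul, coe_dZ hx, coe_dZ hx, coe_dZ hx,
      (hQ σ).mul_dpow Submodule.mem_top, Subring.coe_natCast]
  dpow_comp {m n x} hn hx := by
    apply Subtype.ext
    rw [coe_dZ (dZ_mem hn hx), coe_dZ hx, Subring.coe_mul, coe_dZ hx,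
      (hQ σ).dpow_comp hn Submodule.mem_top, Subring.coe_natCast]

theorem γZ_single (n : ℕ) (i : σ) :
    (γZ σ).dpow n (mZ (Finsupp.single i 1)) = mZ (Finsupp.single i n) := by
  have h1 : mZ (Finsupp.single i 1) ∈ IZ σ := augZ_mZ_ne _ (by
    intro h
    have := DFunLike.congr_fun h i
    simp at this)
  apply Subtype.ext
  show ((dZ n (mZ (Finsupp.single i 1)) : DPZ σ) : MvPolynomial σ ℚ) = _
  rw [coe_dZ h1, coe_mZ, hQ_single n i one_ne_zero, Nat.uniformBell_one_right, Nat.cast_one,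
    one_mul, mul_one, coe_mZ]

end DP

end Groth.Agent.Lib.Helper16DPPoly
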