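import Mathlib
import Groth.Agent.Lib.Helper16DPow
import Groth.Agent.Lib.Helper16DPPoly
import Groth.Agent.Lib.Helper16DPExt
import Groth.Agent.S2193

/-!
# Mapping the ℤ-form of the divided power polynomial algebra to a concrete presentation (helper16)
-/

set_option autoImplicit false
set_option linter.style.haveILetI false
set_option linter.unusedSectionVars false

namespace Groth.Agent.Lib.Helper16DPMap

open Groth.Agent.Lib.Helper16DPow Groth.Agent.Lib.Helper16DPPoly Groth.Agent.Lib.Helper16DPExt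
open Groth.Agent.S2193 TensorProduct

universe u v w

variable {σ : Type w} {R : Type u} {P : Type v} [CommRing R] [CommRing P] [Algebra R P]
  (x : σ → ℕ → P)

/-- the monomials `∏ x i (e i)` -/
noncomputable def bb (e : σ →₀ ℕ) : P := e.prod fun i k => x i k

theorem bb_eq_of_subset (hx0 : ∀ i, x i 0 = 1) (e : σ →₀ ℕ) (s : Finset σ) (hs : e.support ⊆ s) :
    bb x e = ∏ i ∈ s, x i (e i) :=
  Finsupp.prod_of_support_subset e hs _ (fun i _ => hx0 i)

theorem bb_zero : bb x 0 = 1 := Finsupp.prod_zero_index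

theorem bb_single (hx0 : ∀ i, x i 0 = 1) (i : σ) (k : ℕ) : bb x (Finsupp.single i k) = x i k :=
  Finsupp.prod_single_index (hx0 i)

theorem bb_mul (hx0 : ∀ i, x i 0 = 1)
    (hxmul : ∀ i n m, x i n * x i m = ((n + m).choose n : P) * x i (n + m)) (e f : σ →₀ ℕ) :
    bb x e * bb x f = (sc e f : P) * bb x (e + f) := by
  classical
  have he : e.support ⊆ (e + f).support := by
    intro i hi
    rw [Finsupp.mem_support_iff] at hi ⊢
    rw [Finsupp.add_apply]; omega
  have hf : f.support ⊆ (e + f).support := by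
    intro i hi
    rw [Finsupp.mem_support_iff] at hi ⊢
    rw [Finsupp.add_apply]; omega
  rw [bb_eq_of_subset x hx0 e _ he, bb_eq_of_subset x hx0 f _ hf,
    bb_eq_of_subset x hx0 (e + f) _ (le_refl _)]
  unfold sc Finsupp.prod
  rw [Nat.cast_prod, ← Finset.prod_mul_distrib, ← Finset.prod_mul_distrib]
  refine Finset.prod_congr rfl (fun i _ => ?_)
  rw [hxmul, Finsupp.add_apply]

/-- the ℤ-linear map `DPZ σ → P` -/
noncomputable def ψlin : DPZ σ →ₗ[ℤ] P := (bZ σ).constr ℤ (bb x)

theorem ψlin_mZ (e : σ →₀ ℕ) : ψlin x (mZ e) = bb x e := by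
  unfold ψlin
  rw [← bZ_apply, Module.Basis.constr_basis]

theorem ψlin_mul (hx0 : ∀ i, x i 0 = 1)
    (hxmul : ∀ i n m, x i n * x i m = ((n + m).choose n : P) * x i (n + m)) (y y' : DPZ σ) :
    ψlin x (y * y') = ψlin x y * ψlin x y' := by
  have h : (LinearMap.mul ℤ (DPZ σ)).compr₂ (ψlin x) =
      (LinearMap.mul ℤ P).compl₁₂ (ψlin x) (ψlin x) := by
    refine (bZ σ).ext fun e => (bZ σ).ext fun f => ?_
    simp only [LinearMap.compr₂_apply, LinearMap.mul_apply', LinearMap.compl₁₂_apply, bZ_apply]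
    rw [mZ_mul, ψlin_mZ, ψlin_mZ, bb_mul x hx0 hxmul, ← nsmul_eq_mul, map_nsmul, ψlin_mZ,
      nsmul_eq_mul]
  exact LinearMap.congr_fun (LinearMap.congr_fun h y) y'

/-- the ring hom `DPZ σ → P` -/
noncomputable def ψ (hx0 : ∀ i, x i 0 = 1)
    (hxmul : ∀ i n m, x i n * x i m = ((n + m).choose n : P) * x i (n + m)) : DPZ σ →+* P where
  toFun := ψlin x
  map_one' := by rw [← mZ_zero, ψlin_mZ, bb_zero]
  map_mul' := ψlin_mul x hx0 hxmul
  map_zero' := map_zero _
  map_add' := map_add _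

theorem ψ_mZ (hx0 : ∀ i, x i 0 = 1)
    (hxmul : ∀ i n m, x i n * x i m = ((n + m).choose n : P) * x i (n + m)) (e : σ →₀ ℕ) :
    ψ x hx0 hxmul (mZ e) = bb x e := ψlin_mZ x e

section Inj

variable [Algebra (DPZ σ) P] (b : Module.Basis (σ →₀ ℕ) R P)
  (hψ : ∀ e, algebraMap (DPZ σ) P (mZ e) = b e)

open Classical in
/-- `mZ e` as an element of the augmentation ideal (`0` for `e = 0`) -/
noncomputable def g (e : σ →₀ ℕ) : IZ σ := if he : e = 0 then 0 else ⟨mZ e, augZ_mZ_ne e he⟩

theorem g_zero : g (0 : σ →₀ ℕ) = 0 := by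
  unfold g
  rw [dif_pos rfl]

theorem coe_g (e : σ →₀ ℕ) (he : e ≠ 0) : ((g e : IZ σ) : DPZ σ) = mZ e := by
  unfold g
  rw [dif_neg he]

/-- normal forms -/
noncomputable def Φ : ((σ →₀ ℕ) →₀ R) →+ (↥(IZ σ) ⊗[DPZ σ] P) :=
  Finsupp.liftAddHom (fun e =>
    { toFun := fun a => g e ⊗ₜ[DPZ σ] (algebraMap R P a)
      map_zero' := by rw [map_zero, TensorProduct.tmul_zero]
      map_add' := fun a a' => by rw [map_add, TensorProduct.tmul_add] })

theorem Φ_apply (r : (σ →₀ ℕ) →₀ R) :
    Φ (P := P) r = r.sum fun e a => g e ⊗ₜ[DPZ σ] (algebraMap R P a) := rfl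

theorem Φ_single (e : σ →₀ ℕ) (a : R) :
    Φ (P := P) (Finsupp.single e a) = g e ⊗ₜ[DPZ σ] (algebraMap R P a) := by
  rw [Φ_apply, Finsupp.sum_single_index]
  rw [map_zero, TensorProduct.tmul_zero]

include hψ in
theorem lemA (e f : σ →₀ ℕ) (a : R) :
    g e ⊗ₜ[DPZ σ] (a • b f) ∈ (Φ (σ := σ) (R := R) (P := P)).range := by
  by_cases he : e = 0
  · subst he
    rw [g_zero, TensorProduct.zero_tmul]
    exact zero_mem _
  · have hne : f + e ≠ 0 := by
      intro h
      apply he
      ext i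
      have := DFunLike.congr_fun h i
      simp only [Finsupp.add_apply, Finsupp.zero_apply] at this ⊢
      omega
    have h1 : a • b f = mZ f • algebraMap R P a := by
      rw [Algebra.smul_def, Algebra.smul_def, hψ, mul_comm]
    have h2 : mZ f • g e = (sc f e : DPZ σ) • g (f + e) := by
      apply Subtype.ext
      rw [Submodule.coe_smul, Submodule.coe_smul, coe_g e he, coe_g _ hne, smul_eq_mul,
        smul_eq_mul, mZ_mul]
    rw [h1, TensorProduct.tmul_smul, TensorProduct.smul_tmul', h2, TensorProduct.smul_tmul]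
    refine ⟨Finsupp.single (f + e) ((sc f e : R) * a), ?_⟩
    rw [Φ_single, map_mul, map_natCast, Algebra.smul_def, map_natCast]

include hψ in
theorem lemB (e : σ →₀ ℕ) (p : P) :
    g e ⊗ₜ[DPZ σ] p ∈ (Φ (σ := σ) (R := R) (P := P)).range := by
  rw [← b.linearCombination_repr p, Finsupp.linearCombination_apply, Finsupp.sum,
    TensorProduct.tmul_sum]
  exact sum_mem (fun f _ => lemA b hψ e f _)

theorem repr_zero (y : DPZ σ) (hy : y ∈ IZ σ) : (bZ σ).repr y 0 = 0 := by
  classical
  have h1 : y = ∑ e ∈ ((bZ σ).repr y).support, ((bZ σ).repr y e) • mZ e := by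
    conv_lhs => rw [← (bZ σ).linearCombination_repr y]
    rw [Finsupp.linearCombination_apply, Finsupp.sum]
    refine Finset.sum_congr rfl (fun e _ => ?_)
    rw [bZ_apply]
  have h2 := congrArg (augZ σ) h1
  rw [show augZ σ y = 0 from hy, map_sum] at h2
  have h3 : ∀ e ∈ ((bZ σ).repr y).support, augZ σ (((bZ σ).repr y e) • mZ e) =
      if e = 0 then (((bZ σ).repr y e : ℤ) : ℚ) else 0 := by
    intro e _
    rw [zsmul_eq_mul, map_mul, map_intCast]
    split_ifs with he
    · subst he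
      rw [mZ_zero, map_one, mul_one]
    · rw [show augZ σ (mZ e) = 0 from augZ_mZ_ne e he, mul_zero]
  rw [Finset.sum_congr rfl h3, Finset.sum_ite_eq'] at h2
  by_contra hne
  rw [if_pos (Finsupp.mem_support_iff.mpr hne)] at h2
  exact hne (by exact_mod_cast h2.symm)

theorem eq_sum_g (y : IZ σ) :
    y = ∑ e ∈ ((bZ σ).repr y.1).support, (((bZ σ).repr y.1 e : ℤ) : DPZ σ) • g e := by
  classical
  apply Subtype.ext
  rw [AddSubmonoidClass.coe_finsetSum]
  conv_lhs => rw [← (bZ σ).linearCombination_repr y.1]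
  rw [Finsupp.linearCombination_apply, Finsupp.sum]
  refine Finset.sum_congr rfl (fun e he => ?_)
  have hne : e ≠ 0 := by
    rintro rfl
    exact (Finsupp.mem_support_iff.mp he) (repr_zero y.1 y.2)
  rw [Submodule.coe_smul, coe_g e hne, bZ_apply, zsmul_eq_mul, smul_eq_mul]

include hψ in
theorem Φ_surj (t : ↥(IZ σ) ⊗[DPZ σ] P) : t ∈ (Φ (σ := σ) (R := R) (P := P)).range := by
  induction t using TensorProduct.induction_on with
  | zero => exact zero_mem _
  | tmul y p =>
    rw [eq_sum_g y, TensorProduct.sum_tmul]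
    refine sum_mem (fun e _ => ?_)
    rw [TensorProduct.smul_tmul]
    exact lemB b hψ e _
  | add t t' ht ht' => exact add_mem ht ht'

include hψ in
theorem repr_μ_Φ (r : (σ →₀ ℕ) →₀ R) (e : σ →₀ ℕ) (he : e ≠ 0) :
    b.repr (μ (I := IZ σ) (B := P) (Φ r)) e = r e := by
  classical
  rw [Φ_apply, Finsupp.sum, map_sum, map_sum, Finsupp.finsetSum_apply]
  have h3 : ∀ e' ∈ r.support, b.repr (μ (I := IZ σ) (B := P)
      (g e' ⊗ₜ[DPZ σ] (algebraMap R P (r e')))) e = if e' = e then r e' else 0 := by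
    intro e' _
    rw [μ_tmul]
    by_cases he' : e' = 0
    · subst he'
      rw [g_zero, ZeroMemClass.coe_zero, map_zero, zero_mul, map_zero, Finsupp.zero_apply,
        if_neg (Ne.symm he)]
    · rw [coe_g e' he', hψ, mul_comm, ← Algebra.smul_def, map_smul, b.repr_self,
        Finsupp.smul_apply, Finsupp.single_apply, smul_eq_mul]
      split_ifs <;> simp
  rw [Finset.sum_congr rfl h3, Finset.sum_ite_eq']
  split_ifs with h
  · rfl
  · rw [Finsupp.notMem_support_iff.mp h]

include hψ in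
theorem μ_inj : Function.Injective (μ (I := IZ σ) (B := P)) := by
  classical
  rw [injective_iff_map_eq_zero]
  intro t ht
  obtain ⟨r, rfl⟩ := Φ_surj b hψ t
  have hr : ∀ e, e ≠ 0 → r e = 0 := by
    intro e he
    rw [← repr_μ_Φ b hψ r e he, ht, map_zero, Finsupp.zero_apply]
  rw [Φ_apply, Finsupp.sum]
  refine Finset.sum_eq_zero (fun e _ => ?_)
  by_cases he : e = 0
  · subst he
    rw [g_zero, TensorProduct.zero_tmul]
  · rw [hr e he, map_zero, TensorProduct.tmul_zero]

end Inj

end Groth.Agent.Lib.Helper16DPMap
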