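import Mathlib
import Groth.Agent.Lib.Helper16DPow
import Groth.Agent.Lib.Helper16DPPoly
import Groth.Agent.Lib.Helper16DPExt
import Groth.Agent.Lib.Helper16DPMap
import Groth.Agent.S2193

/-!
# Divided powers on the augmentation ideal of a presented divided power polynomial algebra (helper16)
-/

set_option autoImplicit false
set_option linter.style.haveILetI false
set_option linter.unusedSectionVars false

namespace Groth.Agent.Lib.Helper16DPPres

open Groth.Agent.Lib.Helper16DPow Groth.Agent.Lib.Helper16DPPoly Groth.Agent.Lib.Helper16DPExt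
open Groth.Agent.Lib.Helper16DPMap
open Groth.Agent.S2193 TensorProduct

universe u v w

variable {σ : Type w} {R : Type u} {P : Type v} [CommRing R] [CommRing P] [Algebra R P]
  (x : σ → ℕ → P)

/-- the augmentation ideal of the presented algebra -/
abbrev Pplus : Ideal P := Ideal.span {y : P | ∃ (i : σ) (n : ℕ), 1 ≤ n ∧ y = x i n}

theorem x_mem (i : σ) {n : ℕ} (hn : 1 ≤ n) : x i n ∈ Pplus x :=
  Ideal.subset_span ⟨i, n, hn, rfl⟩

theorem map_IZ (hx0 : ∀ i, x i 0 = 1)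
    (hxmul : ∀ i n m, x i n * x i m = ((n + m).choose n : P) * x i (n + m)) :
    (IZ σ).map (ψ x hx0 hxmul) = Pplus x := by
  rw [IZ_eq_span, Ideal.map_span]
  congr 1
  ext y
  constructor
  · rintro ⟨_, ⟨i, k, hk, rfl⟩, rfl⟩
    exact ⟨i, k, hk, by rw [ψ_mZ, bb_single x hx0]⟩
  · rintro ⟨i, k, hk, rfl⟩
    exact ⟨mZ (Finsupp.single i k), ⟨i, k, hk, rfl⟩, by rw [ψ_mZ, bb_single x hx0]⟩

theorem exists_dp (hx0 : ∀ i, x i 0 = 1)
    (hxmul : ∀ i n m, x i n * x i m = ((n + m).choose n : P) * x i (n + m))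
    (b : Module.Basis (σ →₀ ℕ) R P) (hb : ∀ e : σ →₀ ℕ, b e = e.prod (fun i k => x i k)) :
    ∃ δ : DividedPowers (Pplus x), ∀ (i : σ) (n : ℕ), δ.dpow n (x i 1) = x i n := by
  letI : Algebra (DPZ σ) P := (ψ x hx0 hxmul).toAlgebra
  have hψ : ∀ e, algebraMap (DPZ σ) P (mZ e) = b e := fun e => by
    rw [hb]; exact ψ_mZ x hx0 hxmul e
  have hinj := μ_inj b hψ
  have hmap : (IZ σ).map (algebraMap (DPZ σ) P) = Pplus x := map_IZ x hx0 hxmul
  have key : ∃ δ : DividedPowers (Pplus x),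
      (γZ σ).IsDPMorphism δ (algebraMap (DPZ σ) P) := by
    rw [← hmap]; exact exists_ext (γZ σ) hinj
  obtain ⟨δ, hδ⟩ := key
  refine ⟨δ, fun i n => ?_⟩
  have h1 : ∀ k, x i k = algebraMap (DPZ σ) P (mZ (Finsupp.single i k)) := fun k => by
    rw [hψ, hb]; exact (bb_single x hx0 i k).symm
  have hmem : mZ (Finsupp.single i 1) ∈ IZ σ := by
    refine augZ_mZ_ne _ ?_
    intro h
    have := DFunLike.congr_fun h i
    simp at this
  rw [h1 1, hδ.2 _ hmem, γZ_single, ← h1]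

theorem unique_dp (δ δ' : DividedPowers (Pplus x))
    (h : ∀ (i : σ) (n : ℕ), δ.dpow n (x i 1) = x i n)
    (h' : ∀ (i : σ) (n : ℕ), δ'.dpow n (x i 1) = x i n) : δ = δ' := by
  refine DividedPowers.dpow_eq_from_gens δ' δ rfl ?_
  rintro m _ ⟨i, n, hn, rfl⟩
  have hn' : n ≠ 0 := by omega
  rw [← h' i n, δ'.dpow_comp hn' (x_mem x i le_rfl), h' i n, h' i (m * n), ← h i n,
    δ.dpow_comp hn' (x_mem x i le_rfl), h i (m * n)]

end Groth.Agent.Lib.Helper16DPPres
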