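import Mathlib
import Groth.Agent.Lib.Helper16DPPres

/-!
# Coordinates of `I·P` and `P₊` in a presented divided power polynomial algebra (helper16)
-/

set_option autoImplicit false
set_option linter.style.haveILetI false
set_option linter.unusedSectionVars false

namespace Groth.Agent.Lib.Helper16DPPres2

open Groth.Agent.Lib.Helper16DPPoly Groth.Agent.Lib.Helper16DPMap Groth.Agent.Lib.Helper16DPPres

universe u v w

variable {σ : Type w} {R : Type u} {P : Type v} [CommRing R] [CommRing P] [Algebra R P]

theorem repr_mem_of_mem_map {ι : Type*} {I : Ideal R} (b : Module.Basis ι R P) {p : P}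
    (hp : p ∈ I.map (algebraMap R P)) (e : ι) : b.repr p e ∈ I := by
  have hp' : p ∈ I • (⊤ : Submodule R P) := by rw [Ideal.smul_top_eq_map]; exact hp
  refine Submodule.smul_induction_on (p := fun p => b.repr p e ∈ I) hp' ?_ ?_
  · intro a ha q _
    rw [map_smul, Finsupp.smul_apply, smul_eq_mul]; exact I.mul_mem_right _ ha
  · intro y z hy hz
    rw [map_add, Finsupp.add_apply]; exact add_mem hy hz

variable (x : σ → ℕ → P) (hx0 : ∀ i, x i 0 = 1)
  (hxmul : ∀ i n m, x i n * x i m = ((n + m).choose n : P) * x i (n + m))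
  (b : Module.Basis (σ →₀ ℕ) R P) (hb : ∀ e : σ →₀ ℕ, b e = e.prod (fun i k => x i k))

include hx0 hxmul hb in
theorem b_mul (e f : σ →₀ ℕ) : b e * b f = (sc e f : P) * b (e + f) := by
  rw [hb, hb, hb]
  exact bb_mul x hx0 hxmul e f

include hx0 hb in
theorem b_single (l : σ) (n : ℕ) : b (Finsupp.single l n) = x l n := by
  rw [hb]; exact bb_single x hx0 l n

include hx0 hxmul hb in
theorem repr_zero_of_mem_Pplus {p : P} (hp : p ∈ Pplus x) : b.repr p 0 = 0 := by
  classical
  induction hp using Submodule.closure_induction with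
  | zero => simp
  | add y z _ _ hy hz => rw [map_add, Finsupp.add_apply, hy, hz, add_zero]
  | smul_mem c y hy =>
    obtain ⟨l, n, hn, rfl⟩ := hy
    rw [smul_eq_mul, ← b.linearCombination_repr c, Finsupp.linearCombination_apply, Finsupp.sum,
      Finset.sum_mul, map_sum, Finsupp.finsetSum_apply]
    refine Finset.sum_eq_zero (fun f _ => ?_)
    have hne : f + Finsupp.single l n ≠ 0 := by
      intro h
      have := DFunLike.congr_fun h l
      simp only [Finsupp.add_apply, Finsupp.single_eq_same, Finsupp.zero_apply] at this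
      omega
    rw [smul_mul_assoc, map_smul, ← b_single x hx0 b hb, b_mul x hx0 hxmul b hb, ← nsmul_eq_mul,
      map_nsmul, b.repr_self, Finsupp.smul_apply, Finsupp.smul_apply, Finsupp.single_apply,
      if_neg hne, smul_zero, smul_zero]

include hb in
theorem b_mem_Pplus (e : σ →₀ ℕ) (he : e ≠ 0) : b e ∈ Pplus x := by
  obtain ⟨i, hi⟩ : ∃ i, e i ≠ 0 := by
    by_contra hcon
    push Not at hcon
    exact he (Finsupp.ext hcon)
  rw [hb]
  exact Ideal.mem_of_dvd _ (Finset.dvd_prod_of_mem _ (Finsupp.mem_support_iff.mpr hi))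
    (x_mem x i (by omega))

include hx0 hxmul hb in
theorem inf_le_smul (I : Ideal R) :
    I.map (algebraMap R P) ⊓ Pplus x ≤ I.map (algebraMap R P) • Pplus x := by
  intro p hp
  rw [← b.linearCombination_repr p, Finsupp.linearCombination_apply, Finsupp.sum]
  refine sum_mem (fun e he => ?_)
  have hne : e ≠ 0 := by
    rintro rfl
    exact (Finsupp.mem_support_iff.mp he) (repr_zero_of_mem_Pplus x hx0 hxmul b hb hp.2)
  have h1 : (b.repr p e) • b e = algebraMap R P (b.repr p e) • b e := by
    rw [Algebra.smul_def, smul_eq_mul]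
  rw [h1]
  exact Submodule.smul_mem_smul
    (Ideal.mem_map_of_mem (algebraMap R P) (repr_mem_of_mem_map b hp.1 e))
    (b_mem_Pplus x b hb e hne)

end Groth.Agent.Lib.Helper16DPPres2
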