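import Mathlib.RingTheory.DividedPowers.RatAlgebra
import Mathlib.RingTheory.DividedPowers.DPMorphism
import Mathlib.RingTheory.MvPolynomial.Basic
import Mathlib.Algebra.MvPolynomial.CommRing
import Mathlib.LinearAlgebra.Basis.Basic
import Mathlib.NumberTheory.Padics.PadicVal.Basic
import Mathlib.Combinatorics.Enumerative.Bell
import Mathlib.Data.Nat.Prime.Factorial
import Mathlib.Tactic
import Groth.Agent.Lib.Helper16RPoly

/-!
# Divided powers from the `p`-th divided power over a `ℤ_(p)`-algebra (helper16)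
-/

set_option autoImplicit false
set_option linter.style.haveILetI false
set_option linter.unusedSectionVars false

namespace Groth.Agent.Lib.Helper16DPPrime

open Nat

/-! ## Numerics -/

/-- `(p k + a)! / (p!^k k!)` -/
def NN (p a k : ℕ) : ℕ := uniformBell k p * (p * k + 1).ascFactorial a

theorem NN_mul (p a k : ℕ) (hp : p ≠ 0) : NN p a k * (p ! ^ k * k !) = (p * k + a)! := by
  unfold NN
  have h1 := Nat.uniformBell_mul_eq k hp
  have h2 := Nat.factorial_mul_ascFactorial (p * k) a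
  rw [mul_comm k p] at h1
  calc uniformBell k p * (p * k + 1).ascFactorial a * (p ! ^ k * k !)
      = (uniformBell k p * p ! ^ k * k !) * (p * k + 1).ascFactorial a := by ring
    _ = (p * k + a)! := by rw [h1, h2]

theorem NN_cast (p a k : ℕ) (hp : p ≠ 0) :
    (NN p a k : ℚ) = ((p * k + a)! : ℚ) / ((p ! : ℚ) ^ k * (k ! : ℚ)) := by
  have h := NN_mul p a k hp
  have h' : (NN p a k : ℚ) * ((p ! : ℚ) ^ k * (k ! : ℚ)) = ((p * k + a)! : ℚ) := by exact_mod_cast h
  have h1 : (p ! : ℚ) ≠ 0 := by exact_mod_cast Nat.factorial_ne_zero p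
  have h2 : (k ! : ℚ) ≠ 0 := by exact_mod_cast Nat.factorial_ne_zero k
  rw [eq_div_iff (mul_ne_zero (pow_ne_zero _ h1) h2), h']

theorem uB_cast (m k : ℕ) (hk : k ≠ 0) :
    (uniformBell m k : ℚ) = ((m * k)! : ℚ) / ((k ! : ℚ) ^ m * (m ! : ℚ)) := by
  have h := Nat.uniformBell_mul_eq m hk
  have h' : (uniformBell m k : ℚ) * (k ! : ℚ) ^ m * (m ! : ℚ) = ((m * k)! : ℚ) := by exact_mod_cast h
  have h1 : (k ! : ℚ) ≠ 0 := by exact_mod_cast Nat.factorial_ne_zero k
  have h2 : (m ! : ℚ) ≠ 0 := by exact_mod_cast Nat.factorial_ne_zero m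
  rw [eq_div_iff (mul_ne_zero (pow_ne_zero _ h1) h2), ← h']
  ring

theorem uB_not_dvd (p : ℕ) (hp : p.Prime) (k : ℕ) : ¬ p ∣ uniformBell k p := by
  haveI : Fact p.Prime := ⟨hp⟩
  have h1 := Nat.uniformBell_mul_eq k hp.ne_zero
  have hne : uniformBell k p ≠ 0 := by
    intro h0
    rw [h0, zero_mul, zero_mul] at h1
    exact Nat.factorial_ne_zero _ h1.symm
  have h2 : padicValNat p (uniformBell k p * p ! ^ k * k !) = padicValNat p (k * p)! := by rw [h1]
  rw [padicValNat.mul (mul_ne_zero hne (pow_ne_zero _ (Nat.factorial_ne_zero p)))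
    (Nat.factorial_ne_zero k), padicValNat.mul hne (pow_ne_zero _ (Nat.factorial_ne_zero p)),
    padicValNat.pow, mul_comm k p, padicValNat_factorial_mul] at h2
  have h3 : padicValNat p p ! = 1 := by
    have := padicValNat_factorial_mul (p := p) 1
    rw [mul_one, Nat.factorial_one, padicValNat_one_right] at this
    exact this
  rw [h3, mul_one] at h2
  have h4 : padicValNat p (uniformBell k p) = 0 := by omega
  intro hdvd
  have := (dvd_iff_padicValNat_ne_zero hne).mp hdvd
  exact this h4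

theorem asc_not_dvd (p : ℕ) (hp : p.Prime) (k a : ℕ) (ha : a < p) :
    ¬ p ∣ (p * k + 1).ascFactorial a := by
  rw [Nat.ascFactorial_eq_prod_range]
  intro h
  rw [Prime.dvd_finsetProd_iff hp.prime] at h
  obtain ⟨i, hi, hdvd⟩ := h
  rw [Finset.mem_range] at hi
  have h1 : p ∣ 1 + i := by
    have : p * k + 1 + i = p * k + (1 + i) := by ring
    rw [this] at hdvd
    exact (Nat.dvd_add_right (dvd_mul_right p k)).mp hdvd
  have := Nat.le_of_dvd (by omega) h1
  omega

theorem NN_not_dvd (p : ℕ) (hp : p.Prime) (a k : ℕ) (ha : a < p) : ¬ p ∣ NN p a k := by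
  unfold NN
  intro h
  rcases (Nat.Prime.dvd_mul hp).mp h with h | h
  · exact uB_not_dvd p hp k h
  · exact asc_not_dvd p hp k a ha h

theorem NN_zero_zero (p : ℕ) : NN p 0 0 = 1 := by
  unfold NN
  rw [Nat.uniformBell_zero_left, Nat.ascFactorial_zero]

theorem NN_zero_right (p a : ℕ) : NN p a 0 = a ! := by
  unfold NN
  rw [Nat.uniformBell_zero_left, mul_zero, zero_add, Nat.one_ascFactorial, one_mul]

theorem NN_zero_left (p k : ℕ) : NN p 0 k = uniformBell k p := by
  unfold NN
  rw [Nat.ascFactorial_zero, mul_one]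

/-- no-carry identity -/
theorem num_I1 (p a b n' m' : ℕ) (hp : p ≠ 0) :
    (n' + m').choose n' * NN p (a + b) (n' + m') =
      ((p * n' + a) + (p * m' + b)).choose (p * n' + a) * NN p a n' * NN p b m' := by
  have key : (((n' + m').choose n' * NN p (a + b) (n' + m') : ℕ) : ℚ) =
      ((((p * n' + a) + (p * m' + b)).choose (p * n' + a) * NN p a n' * NN p b m' : ℕ) : ℚ) := by
    push_cast
    rw [NN_cast p _ _ hp, NN_cast p _ _ hp, NN_cast p _ _ hp, Nat.cast_add_choose, Nat.cast_add_choose]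
    have e1 : p * (n' + m') + (a + b) = (p * n' + a) + (p * m' + b) := by ring
    rw [e1, pow_add]
    have h1 : (p ! : ℚ) ≠ 0 := by exact_mod_cast Nat.factorial_ne_zero p
    have h2 : (n' ! : ℚ) ≠ 0 := by exact_mod_cast Nat.factorial_ne_zero n'
    have h3 : (m' ! : ℚ) ≠ 0 := by exact_mod_cast Nat.factorial_ne_zero m'
    have h4 : ((n' + m')! : ℚ) ≠ 0 := by exact_mod_cast Nat.factorial_ne_zero _
    have h5 : ((p * n' + a)! : ℚ) ≠ 0 := by exact_mod_cast Nat.factorial_ne_zero _
    have h6 : ((p * m' + b)! : ℚ) ≠ 0 := by exact_mod_cast Nat.factorial_ne_zero _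
    have h7 : ((p ! : ℚ) ^ n') ≠ 0 := pow_ne_zero _ h1
    have h8 : ((p ! : ℚ) ^ m') ≠ 0 := pow_ne_zero _ h1
    field_simp
  exact_mod_cast key

/-- carry identity -/
theorem num_I2 (p a b c n' m' : ℕ) (hp : p ≠ 0) (hc : a + b = p + c) :
    (n' + m').choose n' * p ! * (n' + m' + 1) * NN p c (n' + m' + 1) =
      ((p * n' + a) + (p * m' + b)).choose (p * n' + a) * NN p a n' * NN p b m' := by
  have key : (((n' + m').choose n' * p ! * (n' + m' + 1) * NN p c (n' + m' + 1) : ℕ) : ℚ) =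
      ((((p * n' + a) + (p * m' + b)).choose (p * n' + a) * NN p a n' * NN p b m' : ℕ) : ℚ) := by
    push_cast
    rw [NN_cast p _ _ hp, NN_cast p _ _ hp, NN_cast p _ _ hp, Nat.cast_add_choose, Nat.cast_add_choose]
    have e1 : p * (n' + m' + 1) + c = (p * n' + a) + (p * m' + b) := by
      have : p * (n' + m' + 1) + c = p * n' + p * m' + (p + c) := by ring
      rw [this, ← hc]; ring
    rw [e1, pow_succ, pow_add, Nat.factorial_succ]
    push_cast
    have h1 : (p ! : ℚ) ≠ 0 := by exact_mod_cast Nat.factorial_ne_zero p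
    have h2 : (n' ! : ℚ) ≠ 0 := by exact_mod_cast Nat.factorial_ne_zero n'
    have h3 : (m' ! : ℚ) ≠ 0 := by exact_mod_cast Nat.factorial_ne_zero m'
    have h4 : ((n' + m')! : ℚ) ≠ 0 := by exact_mod_cast Nat.factorial_ne_zero _
    have h5 : ((p * n' + a)! : ℚ) ≠ 0 := by exact_mod_cast Nat.factorial_ne_zero _
    have h6 : ((p * m' + b)! : ℚ) ≠ 0 := by exact_mod_cast Nat.factorial_ne_zero _
    have h7 : ((p ! : ℚ) ^ n') ≠ 0 := pow_ne_zero _ h1
    have h8 : ((p ! : ℚ) ^ m') ≠ 0 := pow_ne_zero _ h1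
    have h9 : ((n' : ℚ) + (m' : ℚ) + 1) ≠ 0 := by positivity
    field_simp
  exact_mod_cast key

/-- identity for `d ∘ g_n`, case `n % p ≠ 0` -/
theorem num_I3 (p a' n' M : ℕ) (hp : p ≠ 0) (hM : M * (n' !) ^ p = (p * n')!) :
    NN p (a' + 1) n' ^ p * uniformBell n' p * uniformBell p (p * n' + (a' + 1)) =
      p ! ^ a' * M * NN p (a' + 1) n' * uniformBell (p * n' + (a' + 1)) p := by
  set n := p * n' + (a' + 1) with hn
  have hn0 : n ≠ 0 := by omega
  have key : ((NN p (a' + 1) n' ^ p * uniformBell n' p * uniformBell p n : ℕ) : ℚ) =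
      ((p ! ^ a' * M * NN p (a' + 1) n' * uniformBell n p : ℕ) : ℚ) := by
    push_cast
    have hM' : (M : ℚ) = ((p * n')! : ℚ) / ((n' ! : ℚ) ^ p) := by
      have h2 : (n' ! : ℚ) ≠ 0 := by exact_mod_cast Nat.factorial_ne_zero n'
      rw [eq_div_iff (pow_ne_zero _ h2)]
      exact_mod_cast hM
    rw [NN_cast p _ _ hp, uB_cast _ _ hp, uB_cast _ _ hn0, uB_cast _ _ hp, hM', ← hn]
    have e1 : n' * p = p * n' := mul_comm _ _
    have e2 : n * p = p * n := mul_comm _ _
    rw [e1, e2]
    have e3 : (p ! : ℚ) ^ n = (p ! : ℚ) ^ (p * n') * (p ! : ℚ) ^ a' * (p ! : ℚ) := by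
      rw [hn, pow_add, pow_succ]; ring
    rw [e3]
    have h1 : (p ! : ℚ) ≠ 0 := by exact_mod_cast Nat.factorial_ne_zero p
    have h2 : (n' ! : ℚ) ≠ 0 := by exact_mod_cast Nat.factorial_ne_zero n'
    have h3 : (n ! : ℚ) ≠ 0 := by exact_mod_cast Nat.factorial_ne_zero n
    have h4 : ((p * n')! : ℚ) ≠ 0 := by exact_mod_cast Nat.factorial_ne_zero _
    have h5 : ((p * n)! : ℚ) ≠ 0 := by exact_mod_cast Nat.factorial_ne_zero _
    have h7 : ((p ! : ℚ) ^ n') ≠ 0 := pow_ne_zero _ h1
    have h8 : ((p ! : ℚ) ^ (p * n')) ≠ 0 := pow_ne_zero _ h1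
    have h9 : ((p ! : ℚ) ^ a') ≠ 0 := pow_ne_zero _ h1
    rw [div_pow, mul_pow, ← pow_mul, mul_comm n' p]
    field_simp
  exact_mod_cast key

/-- identity for `d ∘ g_n`, case `n = p n'` -/
theorem num_I4 (p n' : ℕ) (hp : p ≠ 0) (hn' : n' ≠ 0) :
    uniformBell p n' * uniformBell (p * n') p = uniformBell p (p * n') * uniformBell n' p ^ p := by
  have hn0 : p * n' ≠ 0 := mul_ne_zero hp hn'
  have key : ((uniformBell p n' * uniformBell (p * n') p : ℕ) : ℚ) =
      ((uniformBell p (p * n') * uniformBell n' p ^ p : ℕ) : ℚ) := by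
    push_cast
    rw [uB_cast _ _ hn', uB_cast _ _ hp, uB_cast _ _ hn0, uB_cast _ _ hp]
    have e1 : n' * p = p * n' := mul_comm _ _
    have e2 : p * n' * p = p * (p * n') := by ring
    rw [e1, e2]
    have h1 : (p ! : ℚ) ≠ 0 := by exact_mod_cast Nat.factorial_ne_zero p
    have h2 : (n' ! : ℚ) ≠ 0 := by exact_mod_cast Nat.factorial_ne_zero n'
    have h4 : ((p * n')! : ℚ) ≠ 0 := by exact_mod_cast Nat.factorial_ne_zero _
    have h5 : ((p * (p * n'))! : ℚ) ≠ 0 := by exact_mod_cast Nat.factorial_ne_zero _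
    have h7 : ((p ! : ℚ) ^ n') ≠ 0 := pow_ne_zero _ h1
    have h8 : ((p ! : ℚ) ^ (p * n')) ≠ 0 := pow_ne_zero _ h1
    rw [div_pow, mul_pow, ← pow_mul, mul_comm n' p]
    field_simp
  exact_mod_cast key

/-! ## The candidate divided powers -/

section G

variable {A : Type*} [CommRing A]

/-- the candidate divided powers, by recursion `n ↦ (n % p, n / p)` -/
noncomputable def g (p : ℕ) (d : A → A) : ℕ → A → A
  | n, x => if h : 0 < n ∧ 1 < p then
      Ring.inverse (NN p (n % p) (n / p) : A) * x ^ (n % p) * g p d (n / p) (d x) else 1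
termination_by n => n
decreasing_by exact Nat.div_lt_self h.1 h.2

theorem g_zero (p : ℕ) (d : A → A) (x : A) : g p d 0 x = 1 := by
  rw [g, dif_neg]
  intro h
  exact lt_irrefl _ h.1

theorem g_pos (p : ℕ) (d : A → A) {n : ℕ} (hn : 0 < n) (hp : 1 < p) (x : A) :
    g p d n x = Ring.inverse (NN p (n % p) (n / p) : A) * x ^ (n % p) * g p d (n / p) (d x) := by
  rw [g, dif_pos ⟨hn, hp⟩]

variable (p : ℕ) (hp : p.Prime) (hA : ∀ n : ℕ, ¬ p ∣ n → IsUnit (n : A)) {I : Ideal A} (d : A → A)
  (hdI : ∀ x ∈ I, d x ∈ I) (h1 : ∀ x ∈ I, (p.factorial : A) * d x = x ^ p)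
  (h2 : ∀ (a x : A), x ∈ I → d (a * x) = a ^ p * d x)

include hA in
theorem cancelN {k : ℕ} (hk : ¬ p ∣ k) {X Y : A} (h : (k : A) * X = k * Y) : X = Y :=
  (hA k hk).mul_left_cancel h

include hA in
theorem mem_of_mul_mem {k : ℕ} (hk : ¬ p ∣ k) {X : A} (h : (k : A) * X ∈ I) : X ∈ I := by
  obtain ⟨u, hu⟩ := hA k hk
  have : X = ↑u⁻¹ * ((k : A) * X) := by
    rw [← hu, ← mul_assoc, Units.inv_mul, one_mul]
  rw [this]
  exact I.mul_mem_left _ h

include hp hA in
theorem g_S (n : ℕ) (x : A) :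
    (NN p (n % p) (n / p) : A) * g p d n x = x ^ (n % p) * g p d (n / p) (d x) := by
  rcases Nat.eq_zero_or_pos n with rfl | hn
  · simp [NN_zero_zero, g_zero]
  · rw [g_pos p d hn hp.one_lt]
    have hu : IsUnit (NN p (n % p) (n / p) : A) :=
      hA _ (NN_not_dvd p hp _ _ (Nat.mod_lt _ hp.pos))
    rw [← mul_assoc, ← mul_assoc, Ring.mul_inverse_cancel _ hu, one_mul]

theorem mod_eq' {p : ℕ} (k : ℕ) {a : ℕ} (ha : a < p) : (p * k + a) % p = a := by
  rw [Nat.mul_add_mod, Nat.mod_eq_of_lt ha]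

theorem div_eq' {p : ℕ} (k : ℕ) {a : ℕ} (ha : a < p) : (p * k + a) / p = k := by
  have hp : 0 < p := by omega
  rw [Nat.mul_add_div hp, Nat.div_eq_of_lt ha, add_zero]

include hp hA in
theorem g_S' (k a : ℕ) (ha : a < p) (x : A) :
    (NN p a k : A) * g p d (p * k + a) x = x ^ a * g p d k (d x) := by
  have h := g_S p hp hA d (p * k + a) x
  rw [mod_eq' k ha, div_eq' k ha] at h
  exact h

include hp hA in
theorem g_T (k : ℕ) (x : A) :
    (uniformBell k p : A) * g p d (p * k) x = g p d k (d x) := by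
  have h := g_S' p hp hA d k 0 hp.pos x
  rw [NN_zero_left, add_zero, pow_zero, one_mul] at h
  exact h

include hp hA in
theorem g_one (x : A) : g p d 1 x = x := by
  have h := g_S' p hp hA d 0 1 hp.one_lt x
  rw [NN_zero_right, Nat.factorial_one, Nat.cast_one, one_mul, mul_zero, zero_add, g_zero, pow_one,
    mul_one] at h
  exact h

include hp hA in
theorem g_p (x : A) : g p d p x = d x := by
  have h := g_T p hp hA d 1 x
  rw [Nat.uniformBell_one_left, Nat.cast_one, one_mul, mul_one, g_one p hp hA] at h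
  exact h

theorem exists_div_mod (p : ℕ) (hp : 0 < p) (n : ℕ) : ∃ k a, a < p ∧ n = p * k + a :=
  ⟨n / p, n % p, Nat.mod_lt _ hp, (Nat.div_add_mod n p).symm⟩

theorem lt_aux {p k a : ℕ} (hp : 1 < p) (h : 0 < p * k + a) : k < p * k + a := by
  rcases Nat.eq_zero_or_pos k with rfl | hk
  · simpa using h
  · nlinarith

include hp hA hdI in
theorem g_mem : ∀ (n : ℕ), n ≠ 0 → ∀ x ∈ I, g p d n x ∈ I := by
  intro n
  induction n using Nat.strong_induction_on with
  | _ n ih =>
    intro hn x hx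
    obtain ⟨k, a, ha, rfl⟩ := exists_div_mod p hp.pos n
    refine mem_of_mul_mem p hA (NN_not_dvd p hp a k ha) ?_
    rw [g_S' p hp hA d k a ha x]
    rcases Nat.eq_zero_or_pos a with rfl | ha0
    · have hk : k ≠ 0 := by
        rintro rfl
        exact hn (by simp)
      exact I.mul_mem_left _ (ih k (lt_aux hp.one_lt (Nat.pos_of_ne_zero hn)) hk _ (hdI x hx))
    · exact I.mul_mem_right _ (I.pow_mem_of_mem hx a ha0)

include hp hA hdI h2 in
theorem g_smul : ∀ (n : ℕ) (c : A), ∀ x ∈ I, g p d n (c * x) = c ^ n * g p d n x := by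
  intro n
  induction n using Nat.strong_induction_on with
  | _ n ih =>
    intro c x hx
    rcases Nat.eq_zero_or_pos n with rfl | hn
    · rw [g_zero, g_zero, pow_zero, one_mul]
    obtain ⟨k, a, ha, rfl⟩ := exists_div_mod p hp.pos n
    refine cancelN p hA (NN_not_dvd p hp a k ha) ?_
    rw [g_S' p hp hA d k a ha, h2 c x hx, ih k (lt_aux hp.one_lt hn) _ _ (hdI x hx)]
    have h3 := g_S' p hp hA d k a ha x
    have h4 : c ^ (p * k + a) = c ^ a * (c ^ p) ^ k := by rw [pow_add, pow_mul]; ring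
    rw [h4]
    linear_combination (-(c ^ a * (c ^ p) ^ k)) * h3

include hp hA hdI h1 in
theorem g_mul : ∀ (s n m : ℕ), n + m = s → ∀ x ∈ I,
    g p d n x * g p d m x = ((n + m).choose n : A) * g p d (n + m) x := by
  intro s
  induction s using Nat.strong_induction_on with
  | _ s ih =>
    intro n m hs x hx
    rcases Nat.eq_zero_or_pos n with rfl | hn
    · rw [g_zero, zero_add, Nat.choose_zero_right, Nat.cast_one, one_mul]
    rcases Nat.eq_zero_or_pos m with rfl | hm
    · rw [g_zero, add_zero, Nat.choose_self, Nat.cast_one, one_mul, mul_one]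
      done
    obtain ⟨n', a, ha, rfl⟩ := exists_div_mod p hp.pos n
    obtain ⟨m', b, hb, rfl⟩ := exists_div_mod p hp.pos m
    have hx1 : d x ∈ I := hdI x hx
    have Sn := g_S' p hp hA d n' a ha x
    have Sm := g_S' p hp hA d m' b hb x
    have hlt : n' + m' < s := by
      have := lt_aux hp.one_lt hn
      have := lt_aux hp.one_lt hm
      omega
    have IH1 := ih (n' + m') hlt n' m' rfl (d x) hx1
    rcases Nat.lt_or_ge (a + b) p with hab | hab
    · have e : p * n' + a + (p * m' + b) = p * (n' + m') + (a + b) := by ring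
      have Snm := g_S' p hp hA d (n' + m') (a + b) hab x
      have num := congrArg (Nat.cast : ℕ → A) (num_I1 p a b n' m' hp.ne_zero)
      push_cast at num
      rw [e] at num ⊢
      have hK : ¬ p ∣ NN p a n' * NN p b m' * NN p (a + b) (n' + m') := by
        intro h
        rcases (Nat.Prime.dvd_mul hp).mp h with h | h
        · rcases (Nat.Prime.dvd_mul hp).mp h with h | h
          · exact NN_not_dvd p hp _ _ ha h
          · exact NN_not_dvd p hp _ _ hb h
        · exact NN_not_dvd p hp _ _ hab h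
      refine cancelN p hA hK ?_
      push_cast
      linear_combination ((NN p (a + b) (n' + m') : A) * (NN p b m' : A) * g p d (p * m' + b) x) * Sn +
        ((NN p (a + b) (n' + m') : A) * x ^ a * g p d n' (d x)) * Sm +
        ((NN p (a + b) (n' + m') : A) * x ^ a * x ^ b) * IH1 +
        (x ^ a * x ^ b * g p d (n' + m') (d x)) * num -
        ((NN p a n' : A) * (NN p b m' : A) *
          ((p * (n' + m') + (a + b)).choose (p * n' + a) : A)) * Snm
    · obtain ⟨c, hc⟩ : ∃ c, a + b = p + c := ⟨a + b - p, by omega⟩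
      have hcp : c < p := by omega
      have e : p * n' + a + (p * m' + b) = p * (n' + m' + 1) + c := by
        have : p * n' + a + (p * m' + b) = p * n' + p * m' + (a + b) := by ring
        rw [this, hc]; ring
      have Snm := g_S' p hp hA d (n' + m' + 1) c hcp x
      have num := congrArg (Nat.cast : ℕ → A) (num_I2 p a b c n' m' hp.ne_zero hc)
      push_cast at num
      rw [e] at num ⊢
      have hlt2 : 1 + (n' + m') < s := by
        have h3 : 2 ≤ p := hp.two_le
        have h4 : 2 * (n' + m') ≤ p * (n' + m') := Nat.mul_le_mul_right _ h3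
        have h5 : p * (n' + m') = p * n' + p * m' := by ring
        omega
      have IH2 := ih (1 + (n' + m')) hlt2 1 (n' + m') rfl (d x) hx1
      rw [g_one p hp hA, Nat.add_comm 1 (n' + m'), Nat.choose_one_right] at IH2
      push_cast at IH2
      have h1x := h1 x hx
      have hxx : x ^ a * x ^ b = x ^ c * x ^ p := by
        rw [← pow_add, ← pow_add, hc, add_comm]
      have hK : ¬ p ∣ NN p a n' * NN p b m' * NN p c (n' + m' + 1) := by
        intro h
        rcases (Nat.Prime.dvd_mul hp).mp h with h | h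
        · rcases (Nat.Prime.dvd_mul hp).mp h with h | h
          · exact NN_not_dvd p hp _ _ ha h
          · exact NN_not_dvd p hp _ _ hb h
        · exact NN_not_dvd p hp _ _ hcp h
      refine cancelN p hA hK ?_
      push_cast
      linear_combination ((NN p c (n' + m' + 1) : A) * (NN p b m' : A) * g p d (p * m' + b) x) * Sn +
        ((NN p c (n' + m' + 1) : A) * x ^ a * g p d n' (d x)) * Sm +
        ((NN p c (n' + m' + 1) : A) * x ^ a * x ^ b) * IH1 +
        ((NN p c (n' + m' + 1) : A) * ((n' + m').choose n' : A) * g p d (n' + m') (d x)) * hxx -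
        ((NN p c (n' + m' + 1) : A) * ((n' + m').choose n' : A) * g p d (n' + m') (d x) * x ^ c) * h1x +
        ((NN p c (n' + m' + 1) : A) * ((n' + m').choose n' : A) * x ^ c * (p ! : A)) * IH2 +
        (x ^ c * g p d (n' + m' + 1) (d x)) * num -
        ((NN p a n' : A) * (NN p b m' : A) *
          ((p * (n' + m' + 1) + c).choose (p * n' + a) : A)) * Snm

include hp hA hdI h1 in
theorem g_pow (k : ℕ) (x : A) (hx : x ∈ I) (j : ℕ) :
    ∃ c : ℕ, c * (k !) ^ j = (j * k)! ∧ g p d k x ^ j = (c : A) * g p d (j * k) x := by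
  induction j with
  | zero => exact ⟨1, by simp, by simp [g_zero]⟩
  | succ j ih =>
    obtain ⟨c, hc1, hc2⟩ := ih
    refine ⟨c * (j * k + k).choose (j * k), ?_, ?_⟩
    · have h3 := Nat.add_choose_mul_factorial_mul_factorial (j * k) k
      have h4 : (j * k + k).choose (j * k) = (j * k + k).choose k := Nat.choose_symm_add
      rw [Nat.succ_mul, h4, ← h3, ← hc1, pow_succ]
      ring
    · rw [pow_succ, hc2, mul_assoc, g_mul p hp hA d hdI h1 _ (j * k) k rfl x hx, Nat.succ_mul]
      push_cast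
      ring

include hp hA hdI h1 h2 in
theorem g_d : ∀ (n : ℕ), n ≠ 0 → ∀ x ∈ I,
    d (g p d n x) = (uniformBell p n : A) * g p d (p * n) x := by
  intro n
  induction n using Nat.strong_induction_on with
  | _ n ih =>
    intro hn x hx
    have hx1 : d x ∈ I := hdI x hx
    obtain ⟨n', a, ha, rfl⟩ := exists_div_mod p hp.pos n
    rcases Nat.eq_zero_or_pos a with rfl | ha0
    · -- case `n = p n'`
      rw [add_zero] at hn ih ⊢
      have hn' : n' ≠ 0 := by
        rintro rfl
        exact hn (by simp)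
      have hgI : g p d (p * n') x ∈ I := g_mem p hp hA d hdI _ hn x hx
      have Sn := g_T p hp hA d n' x
      have hd1 := congrArg d Sn
      have hlt : n' < p * n' := by
        have := lt_aux (a := 0) hp.one_lt (by rw [add_zero]; exact Nat.pos_of_ne_zero hn)
        simpa using this
      rw [h2 _ _ hgI, ih n' hlt hn' (d x) hx1] at hd1
      have E5 := g_T p hp hA d (p * n') x
      have num := congrArg (Nat.cast : ℕ → A) (num_I4 p n' hp.ne_zero hn')
      push_cast at num
      have hK : ¬ p ∣ uniformBell n' p ^ p := fun h => uB_not_dvd p hp n' (hp.dvd_of_dvd_pow h)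
      refine cancelN p hA hK ?_
      push_cast
      linear_combination hd1 - (uniformBell p n' : A) * E5 + g p d (p * (p * n')) x * num
    · -- case `n % p ≠ 0`
      obtain ⟨a', rfl⟩ : ∃ a', a = a' + 1 := ⟨a - 1, by omega⟩
      have hgI : g p d (p * n' + (a' + 1)) x ∈ I := g_mem p hp hA d hdI _ hn x hx
      have Sn := g_S' p hp hA d n' (a' + 1) ha x
      have hd1 := congrArg d Sn
      have e : x ^ (a' + 1) * g p d n' (d x) = (x ^ a' * g p d n' (d x)) * x := by ring
      have hxp : (x ^ a') ^ p = ((p ! : A) * d x) ^ a' := by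
        rw [← pow_mul, mul_comm a' p, pow_mul, ← h1 x hx]
      rw [h2 _ _ hgI, e, h2 _ _ hx, mul_pow, hxp] at hd1
      obtain ⟨M, hM1, hM2⟩ := g_pow p hp hA d hdI h1 n' (d x) hx1 p
      have E3 := g_T p hp hA d n' (d x)
      have E4 := g_S' p hp hA d n' (a' + 1) ha (d x)
      have E5 := g_T p hp hA d (p * n' + (a' + 1)) x
      have num := congrArg (Nat.cast : ℕ → A) (num_I3 p a' n' M hp.ne_zero hM1)
      push_cast at num
      have hK : ¬ p ∣ NN p (a' + 1) n' ^ p * uniformBell n' p := by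
        intro h
        rcases (Nat.Prime.dvd_mul hp).mp h with h | h
        · exact NN_not_dvd p hp _ _ ha (hp.dvd_of_dvd_pow h)
        · exact uB_not_dvd p hp n' h
      refine cancelN p hA hK ?_
      push_cast
      linear_combination (uniformBell n' p : A) * hd1 +
        ((uniformBell n' p : A) * ((p ! : A) * d x) ^ a' * d x) * hM2 +
        (((p ! : A) * d x) ^ a' * (M : A) * d x) * E3 -
        ((p ! : A) ^ a' * (M : A)) * E4 -
        ((p ! : A) ^ a' * (M : A) * (NN p (a' + 1) n' : A)) * E5 -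
        g p d (p * (p * n' + (a' + 1))) x * num

end G

/-! ## The structural formula in a divided power ring -/

theorem dp_S {B : Type*} [CommRing B] {J : Ideal B} (ε : DividedPowers J) (p : ℕ) (hp : p ≠ 0)
    (k a : ℕ) {f : B} (hf : f ∈ J) :
    (NN p a k : B) * ε.dpow (p * k + a) f = f ^ a * ε.dpow k (ε.dpow p f) := by
  have h1 := ε.dpow_comp (m := k) hp hf
  have h2 := ε.factorial_mul_dpow_eq_pow (n := a) hf
  have h3 := ε.mul_dpow (m := a) (n := k * p) hf
  have h4 := Nat.ascFactorial_eq_factorial_mul_choose (p * k) a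
  unfold NN
  rw [h4, h1, ← h2]
  have e : a + k * p = p * k + a := by ring
  rw [e] at h3
  push_cast
  linear_combination (-(a ! : B) * (uniformBell k p : B)) * h3

/-! ## Transport from the universal divided power algebra -/

section Theta

open Groth.Agent.Lib.Helper16RPoly

variable {A : Type*} [CommRing A]
variable (p : ℕ) (hp : p.Prime) (hA : ∀ n : ℕ, ¬ p ∣ n → IsUnit (n : A)) {I : Ideal A} (d : A → A)
  (hdI : ∀ x ∈ I, d x ∈ I) (h1 : ∀ x ∈ I, (p.factorial : A) * d x = x ^ p)
  (h2 : ∀ (a x : A), x ∈ I → d (a * x) = a ^ p * d x)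
  (h3 : ∀ x ∈ I, ∀ y ∈ I, d (x + y) = d x + d y +
      ((Finset.antidiagonal p).filter fun k => 0 < k.1 ∧ 0 < k.2).sum
        fun k => Ring.inverse ((k.1.factorial * k.2.factorial : ℕ) : A) * x ^ k.1 * y ^ k.2)
  {σ : Type} (z : σ → A) (hz : ∀ i, z i ∈ I)

/-- the ring hom `DPZ σ → A`, `X_i^[n] ↦ g_n(z_i)` -/
noncomputable def θ : DPZ σ →+* A :=
  ψ (fun i n => g p d n (z i)) (fun i => g_zero p d (z i))
    (fun i n m => g_mul p hp hA d hdI h1 _ n m rfl (z i) (hz i))

theorem θ_single (i : σ) (n : ℕ) :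
    θ p hp hA d hdI h1 z hz (mZ (Finsupp.single i n)) = g p d n (z i) := by
  unfold θ
  rw [ψ_mZ, bb_single _ (fun i => g_zero p d (z i))]

theorem θ_mem (f : DPZ σ) (hf : f ∈ IZ σ) : θ p hp hA d hdI h1 z hz f ∈ I := by
  rw [IZ_eq_span] at hf
  have : Ideal.span (GZ σ) ≤ I.comap (θ p hp hA d hdI h1 z hz) := by
    rw [Ideal.span_le]
    rintro _ ⟨i, k, hk, rfl⟩
    rw [SetLike.mem_coe, Ideal.mem_comap, θ_single]
    exact g_mem p hp hA d hdI k (by omega) _ (hz i)
  exact this hf

theorem single_mem_IZ (i : σ) {k : ℕ} (hk : k ≠ 0) : mZ (Finsupp.single i k) ∈ IZ σ := by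
  refine augZ_mZ_ne _ ?_
  intro h
  have := DFunLike.congr_fun h i
  simp at this
  exact hk this

include hp h2 in
theorem d_zero : d 0 = 0 := by
  have := h2 0 0 I.zero_mem
  rw [mul_zero, zero_pow hp.ne_zero, zero_mul] at this
  exact this

theorem θ_small (i : ℕ) (hi : i < p) (f : DPZ σ) (hf : f ∈ IZ σ) :
    θ p hp hA d hdI h1 z hz ((γZ σ).dpow i f) =
      Ring.inverse (i ! : A) * (θ p hp hA d hdI h1 z hz f) ^ i := by
  have hu : IsUnit (i ! : A) := hA _ (by
    rw [Nat.Prime.dvd_factorial hp]; omega)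
  have h := congrArg (θ p hp hA d hdI h1 z hz) ((γZ σ).factorial_mul_dpow_eq_pow (n := i) hf)
  rw [map_mul, map_natCast, map_pow] at h
  rw [← h, ← mul_assoc, Ring.inverse_mul_cancel _ hu, one_mul]

theorem filter_not_eq (p : ℕ) :
    ((Finset.antidiagonal p).filter fun k => ¬ (0 < k.1 ∧ 0 < k.2)) = {(0, p), (p, 0)} := by
  ext ⟨i, j⟩
  simp only [Finset.mem_filter, Finset.mem_antidiagonal, Finset.mem_insert, Finset.mem_singleton,
    Prod.mk.injEq]
  constructor
  · rintro ⟨h, h'⟩
    by_cases hi : i = 0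
    · left; exact ⟨hi, by omega⟩
    · right
      have : j = 0 := by
        by_contra hj
        exact h' ⟨by omega, by omega⟩
      exact ⟨by omega, this⟩
  · rintro (⟨rfl, rfl⟩ | ⟨rfl, rfl⟩)
    · exact ⟨by omega, by simp⟩
    · exact ⟨by omega, by simp⟩

include h2 h3 in
theorem θ_dp_p (f : DPZ σ) (hf : f ∈ IZ σ) :
    θ p hp hA d hdI h1 z hz ((γZ σ).dpow p f) = d (θ p hp hA d hdI h1 z hz f) := by
  have hf' := hf
  rw [IZ_eq_span] at hf'
  have hle : Ideal.span (GZ σ) ≤ IZ σ := by rw [IZ_eq_span]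
  induction hf' using Submodule.span_induction with
  | mem f hfG =>
    obtain ⟨i, k, hk, rfl⟩ := hfG
    have hk0 : k ≠ 0 := by omega
    have hX : mZ (Finsupp.single i 1) ∈ IZ σ := single_mem_IZ i one_ne_zero
    rw [← γZ_single k i, (γZ σ).dpow_comp hk0 hX, γZ_single, γZ_single, map_mul, map_natCast,
      θ_single, θ_single, g_d p hp hA d hdI h1 h2 k hk0 _ (hz i)]
  | zero =>
    rw [(γZ σ).dpow_eval_zero hp.ne_zero, map_zero, d_zero p hp d h2 (I := I)]
  | add f f' hf1 hf2 ih1 ih2 =>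
    have hfI := hle hf1
    have hfI' := hle hf2
    specialize ih1 hfI
    specialize ih2 hfI'
    rw [(γZ σ).dpow_add hfI hfI', map_sum, map_add,
      h3 _ (θ_mem p hp hA d hdI h1 z hz f hfI) _ (θ_mem p hp hA d hdI h1 z hz f' hfI'),
      ← Finset.sum_filter_add_sum_filter_not (Finset.antidiagonal p)
        (fun k => 0 < k.1 ∧ 0 < k.2), filter_not_eq,
      Finset.sum_pair (by
        intro h
        have := congrArg Prod.fst h
        simp at this
        exact hp.ne_zero this.symm)]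
    simp only [map_mul]
    rw [(γZ σ).dpow_zero hfI, (γZ σ).dpow_zero hfI', map_one, one_mul, mul_one, ih1, ih2]
    have hsum : ∀ k ∈ (Finset.antidiagonal p).filter (fun k => 0 < k.1 ∧ 0 < k.2),
        θ p hp hA d hdI h1 z hz ((γZ σ).dpow k.1 f) * θ p hp hA d hdI h1 z hz ((γZ σ).dpow k.2 f') =
        Ring.inverse ((k.1.factorial * k.2.factorial : ℕ) : A) *
          (θ p hp hA d hdI h1 z hz f) ^ k.1 * (θ p hp hA d hdI h1 z hz f') ^ k.2 := by
      intro k hk
      rw [Finset.mem_filter, Finset.mem_antidiagonal] at hk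
      rw [θ_small p hp hA d hdI h1 z hz k.1 (by omega) f hfI,
        θ_small p hp hA d hdI h1 z hz k.2 (by omega) f' hfI', Nat.cast_mul, Ring.mul_inverse_rev]
      ring
    rw [Finset.sum_congr rfl hsum]
    ring
  | smul c f hf1 ih =>
    have hfI := hle hf1
    specialize ih hfI
    rw [smul_eq_mul, (γZ σ).dpow_mul hfI, map_mul, map_pow, ih, map_mul,
      h2 _ _ (θ_mem p hp hA d hdI h1 z hz f hfI)]

include h2 h3 in
theorem θ_dp : ∀ (n : ℕ) (f : DPZ σ), f ∈ IZ σ →
    θ p hp hA d hdI h1 z hz ((γZ σ).dpow n f) = g p d n (θ p hp hA d hdI h1 z hz f) := by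
  intro n
  induction n using Nat.strong_induction_on with
  | _ n ih =>
    intro f hf
    rcases Nat.eq_zero_or_pos n with rfl | hn
    · rw [(γZ σ).dpow_zero hf, map_one, g_zero]
    obtain ⟨k, a, ha, rfl⟩ := exists_div_mod p hp.pos n
    refine cancelN p hA (NN_not_dvd p hp a k ha) ?_
    have hS := congrArg (θ p hp hA d hdI h1 z hz) (dp_S (γZ σ) p hp.ne_zero k a hf)
    rw [map_mul, map_natCast, map_mul, map_pow,
      ih k (lt_aux hp.one_lt hn) _ ((γZ σ).dpow_mem hp.ne_zero hf),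
      θ_dp_p p hp hA d hdI h1 h2 h3 z hz f hf] at hS
    rw [hS, g_S' p hp hA d k a ha]

end Theta

/-! ## The divided power structure -/

section Main

open Groth.Agent.Lib.Helper16RPoly

variable {A : Type*} [CommRing A]
variable (p : ℕ) (hp : p.Prime) (hA : ∀ n : ℕ, ¬ p ∣ n → IsUnit (n : A)) {I : Ideal A} (d : A → A)
  (hdI : ∀ x ∈ I, d x ∈ I) (h1 : ∀ x ∈ I, (p.factorial : A) * d x = x ^ p)
  (h2 : ∀ (a x : A), x ∈ I → d (a * x) = a ^ p * d x)
  (h3 : ∀ x ∈ I, ∀ y ∈ I, d (x + y) = d x + d y +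
      ((Finset.antidiagonal p).filter fun k => 0 < k.1 ∧ 0 < k.2).sum
        fun k => Ring.inverse ((k.1.factorial * k.2.factorial : ℕ) : A) * x ^ k.1 * y ^ k.2)

include hp hA hdI h1 h2 h3 in
theorem g_add (n : ℕ) (x y : A) (hx : x ∈ I) (hy : y ∈ I) :
    g p d n (x + y) = (Finset.antidiagonal n).sum fun k => g p d k.1 x * g p d k.2 y := by
  let z : Bool → A := fun b => cond b x y
  have hz : ∀ b, z b ∈ I := fun b => by cases b <;> assumption
  have hX : ∀ b : Bool, mZ (Finsupp.single b 1) ∈ IZ Bool := fun b => single_mem_IZ b one_ne_zero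
  have hθX : ∀ b : Bool, θ p hp hA d hdI h1 z hz (mZ (Finsupp.single b 1)) = z b := fun b => by
    rw [θ_single, g_one p hp hA]
  have hxy : x + y = θ p hp hA d hdI h1 z hz
      (mZ (Finsupp.single true 1) + mZ (Finsupp.single false 1)) := by
    rw [map_add, hθX, hθX]
    rfl
  rw [hxy, ← θ_dp p hp hA d hdI h1 h2 h3 z hz n _ ((IZ Bool).add_mem (hX true) (hX false)),
    (γZ Bool).dpow_add (hX true) (hX false), map_sum]
  refine Finset.sum_congr rfl (fun k _ => ?_)
  rw [map_mul, θ_dp p hp hA d hdI h1 h2 h3 z hz _ _ (hX true),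
    θ_dp p hp hA d hdI h1 h2 h3 z hz _ _ (hX false), hθX, hθX]
  rfl

include hp hA hdI h1 h2 h3 in
theorem g_comp (m n : ℕ) (hn : n ≠ 0) (x : A) (hx : x ∈ I) :
    g p d m (g p d n x) = (uniformBell m n : A) * g p d (m * n) x := by
  let z : Unit → A := fun _ => x
  have hz : ∀ b, z b ∈ I := fun _ => hx
  have hX : mZ (Finsupp.single () 1) ∈ IZ Unit := single_mem_IZ () one_ne_zero
  have hθX : θ p hp hA d hdI h1 z hz (mZ (Finsupp.single () 1)) = x := by
    rw [θ_single, g_one p hp hA]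
  have e1 := θ_dp p hp hA d hdI h1 h2 h3 z hz n _ hX
  have e2 := θ_dp p hp hA d hdI h1 h2 h3 z hz m _ ((γZ Unit).dpow_mem hn hX)
  have e3 := θ_dp p hp hA d hdI h1 h2 h3 z hz (m * n) _ hX
  rw [hθX] at e1 e3
  rw [e1, (γZ Unit).dpow_comp hn hX, map_mul, map_natCast, e3] at e2
  exact e2.symm

open Classical in
/-- the divided power structure with `γ_p = d` -/
noncomputable def dp : DividedPowers I where
  dpow n x := if x ∈ I then g p d n x else 0
  dpow_null hx := if_neg hx
  dpow_zero hx := by rw [if_pos hx, g_zero]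
  dpow_one hx := by rw [if_pos hx, g_one p hp hA]
  dpow_mem hn hx := by
    rw [if_pos hx]
    exact g_mem p hp hA d hdI _ hn _ hx
  dpow_add hx hy := by
    rw [if_pos (I.add_mem hx hy), g_add p hp hA d hdI h1 h2 h3 _ _ _ hx hy]
    refine Finset.sum_congr rfl (fun k _ => ?_)
    rw [if_pos hx, if_pos hy]
  dpow_mul hx := by
    rw [if_pos (I.mul_mem_left _ hx), if_pos hx, g_smul p hp hA d hdI h2 _ _ _ hx]
  mul_dpow hx := by
    simp only [if_pos hx]
    exact g_mul p hp hA d hdI h1 _ _ _ rfl _ hx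
  dpow_comp hn hx := by
    simp only [if_pos hx, if_pos (g_mem p hp hA d hdI _ hn _ hx)]
    exact g_comp p hp hA d hdI h1 h2 h3 _ _ hn _ hx

theorem dp_apply {n : ℕ} {x : A} (hx : x ∈ I) :
    (dp p hp hA d hdI h1 h2 h3).dpow n x = g p d n x := by
  unfold dp
  exact if_pos hx

include hp hA in
theorem dpow_eq_g (γ : DividedPowers I) (hγ : ∀ x ∈ I, γ.dpow p x = d x) :
    ∀ (n : ℕ), ∀ x ∈ I, γ.dpow n x = g p d n x := by
  intro n
  induction n using Nat.strong_induction_on with
  | _ n ih =>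
    intro x hx
    rcases Nat.eq_zero_or_pos n with rfl | hn
    · rw [γ.dpow_zero hx, g_zero]
    obtain ⟨k, a, ha, rfl⟩ := exists_div_mod p hp.pos n
    refine cancelN p hA (NN_not_dvd p hp a k ha) ?_
    have hdx : d x ∈ I := by
      rw [← hγ x hx]
      exact γ.dpow_mem hp.ne_zero hx
    rw [dp_S γ p hp.ne_zero k a hx, hγ x hx, ih k (lt_aux hp.one_lt hn) _ hdx,
      g_S' p hp hA d k a ha]

include hp hA hdI h1 h2 h3 in
theorem existsUnique_dp : ∃! γ : DividedPowers I, ∀ x ∈ I, γ.dpow p x = d x := by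
  refine ⟨dp p hp hA d hdI h1 h2 h3, fun x hx => ?_, fun γ hγ => ?_⟩
  · rw [dp_apply p hp hA d hdI h1 h2 h3 hx, g_p p hp hA]
  · ext n x
    by_cases hx : x ∈ I
    · rw [dpow_eq_g p hp hA d γ hγ n x hx, dp_apply p hp hA d hdI h1 h2 h3 hx]
    · rw [γ.dpow_null hx, (dp p hp hA d hdI h1 h2 h3).dpow_null hx]

end Main

end Groth.Agent.Lib.Helper16DPPrime
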