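import Mathlib
import Groth.Agent.Lib.Helper16DPPres2

/-!
# Universal property of a presented divided power polynomial algebra (helper16)
-/

set_option autoImplicit false
set_option linter.style.haveILetI false
set_option linter.unusedSectionVars false

namespace Groth.Agent.Lib.Helper16DPUniv

open Groth.Agent.Lib.Helper16DPPoly Groth.Agent.Lib.Helper16DPMap Groth.Agent.Lib.Helper16DPPres
open Groth.Agent.Lib.Helper16DPPres2

universe u v w w'

variable {σ : Type w} {R : Type u} {P : Type v} [CommRing R] [CommRing P] [Algebra R P]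
  (x : σ → ℕ → P) (hx0 : ∀ i, x i 0 = 1)
  (hxmul : ∀ i n m, x i n * x i m = ((n + m).choose n : P) * x i (n + m))
  (b : Module.Basis (σ →₀ ℕ) R P) (hb : ∀ e : σ →₀ ℕ, b e = e.prod (fun i k => x i k))
  {C : Type w'} [CommRing C] [Algebra R C] (xC : σ → ℕ → C) (hC0 : ∀ i, xC i 0 = 1)
  (hCmul : ∀ i n m, xC i n * xC i m = ((n + m).choose n : C) * xC i (n + m))

/-- the linear map determined by `b e ↦ ∏ xC i (e i)` -/
noncomputable def φlin : P →ₗ[R] C := b.constr R (bb xC)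

theorem φlin_b (e : σ →₀ ℕ) : φlin b xC (b e) = bb xC e := by
  unfold φlin
  rw [Module.Basis.constr_basis]

include hx0 hxmul hb hC0 hCmul in
theorem φlin_mul (y y' : P) : φlin b xC (y * y') = φlin b xC y * φlin b xC y' := by
  have h : (LinearMap.mul R P).compr₂ (φlin b xC) =
      (LinearMap.mul R C).compl₁₂ (φlin b xC) (φlin b xC) := by
    refine b.ext fun e => b.ext fun f => ?_
    simp only [LinearMap.compr₂_apply, LinearMap.mul_apply', LinearMap.compl₁₂_apply]
    rw [b_mul x hx0 hxmul b hb, φlin_b, φlin_b, bb_mul xC hC0 hCmul, ← nsmul_eq_mul, map_nsmul,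
      φlin_b, nsmul_eq_mul]
  exact LinearMap.congr_fun (LinearMap.congr_fun h y) y'

include hb in
theorem b_zero : b 0 = 1 := by
  rw [hb]; exact Finsupp.prod_zero_index

/-- the algebra map determined by `x i n ↦ xC i n` -/
noncomputable def φ : P →ₐ[R] C :=
  AlgHom.ofLinearMap (φlin b xC)
    (by rw [← b_zero x b hb, φlin_b, bb_zero])
    (φlin_mul x hx0 hxmul b hb xC hC0 hCmul)

theorem φ_b (e : σ →₀ ℕ) : φ x hx0 hxmul b hb xC hC0 hCmul (b e) = bb xC e := φlin_b b xC e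

theorem φ_x (i : σ) (n : ℕ) : φ x hx0 hxmul b hb xC hC0 hCmul (x i n) = xC i n := by
  rw [← b_single x hx0 b hb, φ_b, bb_single xC hC0]

include hb in
theorem φ_unique (φ₁ φ₂ : P →ₐ[R] C) (h : ∀ i n, φ₁ (x i n) = φ₂ (x i n)) : φ₁ = φ₂ := by
  apply AlgHom.toLinearMap_injective
  refine b.ext fun e => ?_
  rw [AlgHom.toLinearMap_apply, AlgHom.toLinearMap_apply, hb, map_finsuppProd, map_finsuppProd]
  exact Finsupp.prod_congr (fun i _ => h i _)

theorem J_eq_span (I : Ideal R) : I.map (algebraMap R P) ⊔ Pplus x =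
    Ideal.span ((algebraMap R P) '' (I : Set R) ∪ {y : P | ∃ (i : σ) (n : ℕ), 1 ≤ n ∧ y = x i n}) := by
  rw [Ideal.span_union]
  rfl

theorem isDPMorphism_φ {I : Ideal R} (γ : DividedPowers I)
    (δ : DividedPowers (I.map (algebraMap R P) ⊔ Pplus x))
    (hγδ : γ.IsDPMorphism δ (algebraMap R P)) (hδx : ∀ i n, δ.dpow n (x i 1) = x i n)
    {K : Ideal C} (ε : DividedPowers K) (hε : γ.IsDPMorphism ε (algebraMap R C))
    (k : σ → C) (hk : ∀ i, k i ∈ K) :
    δ.IsDPMorphism ε (φ x hx0 hxmul b hb (fun i n => ε.dpow n (k i))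
      (fun i => ε.dpow_zero (hk i))
      (fun i _ _ => ε.mul_dpow (hk i))).toRingHom := by
  set Φ := φ x hx0 hxmul b hb (fun i n => ε.dpow n (k i))
      (fun i => ε.dpow_zero (hk i)) (fun i _ _ => ε.mul_dpow (hk i)) with hΦ
  have hΦx : ∀ i n, Φ (x i n) = ε.dpow n (k i) := fun i n => φ_x x hx0 hxmul b hb _ _ _ i n
  have hx1 : ∀ i, x i 1 ∈ I.map (algebraMap R P) ⊔ Pplus x := fun i =>
    Ideal.mem_sup_right (x_mem x i le_rfl)
  refine DividedPowers.IsDPMorphism.on_span δ ε (J_eq_span x I) ?_ ?_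
  · rintro s (⟨a, ha, rfl⟩ | ⟨i, n, hn, rfl⟩)
    · show Φ (algebraMap R P a) ∈ K
      rw [AlgHom.commutes]
      exact hε.1 (Ideal.mem_map_of_mem _ ha)
    · show Φ (x i n) ∈ K
      rw [hΦx]
      exact ε.dpow_mem (by omega) (hk i)
  · rintro m s (⟨a, ha, rfl⟩ | ⟨i, n, hn, rfl⟩)
    · show Φ (δ.dpow m (algebraMap R P a)) = ε.dpow m (Φ (algebraMap R P a))
      rw [hγδ.2 a ha, AlgHom.commutes, AlgHom.commutes, hε.2 a ha]
    · show Φ (δ.dpow m (x i n)) = ε.dpow m (Φ (x i n))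
      have hn' : n ≠ 0 := by omega
      rw [hΦx, ← hδx i n, δ.dpow_comp hn' (hx1 i), hδx, map_mul, map_natCast, hΦx,
        ε.dpow_comp hn' (hk i)]

end Groth.Agent.Lib.Helper16DPUniv
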