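import Mathlib
import Groth.Agent.Lib.Helper16DPUniv
import Groth.Agent.S2213

/-!
# The divided power polynomial algebra `A ⊗[ℤ] DPZ σ` with its presentation (helper16)
-/

set_option autoImplicit false
set_option linter.style.haveILetI false
set_option linter.unusedSectionVars false

namespace Groth.Agent.Lib.Helper16DPTens

open Groth.Agent.Lib.Helper16DPPoly Groth.Agent.Lib.Helper16DPMap Groth.Agent.Lib.Helper16DPPres
open Groth.Agent.Lib.Helper16DPPres2 Groth.Agent.Lib.Helper16DPUniv TensorProduct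
open Groth.Agent.S2213

universe u w w'

variable (A : Type u) [CommRing A] (σ : Type w)

/-- the elements `X_i^[n]` -/
noncomputable def xT : σ → ℕ → A ⊗[ℤ] DPZ σ := fun i n =>
  (Algebra.TensorProduct.includeRight : DPZ σ →ₐ[ℤ] A ⊗[ℤ] DPZ σ) (mZ (Finsupp.single i n))

theorem xT0 (i : σ) : xT A σ i 0 = 1 := by
  unfold xT
  rw [Finsupp.single_zero, mZ_zero, map_one]

theorem xTmul (i : σ) (n m : ℕ) :
    xT A σ i n * xT A σ i m = ((n + m).choose n : A ⊗[ℤ] DPZ σ) * xT A σ i (n + m) := by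
  unfold xT
  rw [← map_mul, mZ_single_mul, map_mul, map_natCast]

/-- the monomial basis -/
noncomputable def bT : Module.Basis (σ →₀ ℕ) A (A ⊗[ℤ] DPZ σ) :=
  Algebra.TensorProduct.basis A (bZ σ)

theorem hbT (e : σ →₀ ℕ) : bT A σ e = e.prod (fun i k => xT A σ i k) := by
  unfold bT xT
  rw [Algebra.TensorProduct.basis_apply, bZ_apply, ← map_finsuppProd, ← mZ_eq_prod]
  rfl

section Plus

variable {σ' : Type w} {R : Type u} {P : Type*} [CommRing R] [CommRing P] [Algebra R P]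
  (x : σ' → ℕ → P) (hx0 : ∀ i, x i 0 = 1)
  (hxmul : ∀ i n m, x i n * x i m = ((n + m).choose n : P) * x i (n + m))
  (b : Module.Basis (σ' →₀ ℕ) R P) (hb : ∀ e : σ' →₀ ℕ, b e = e.prod (fun i k => x i k))
  {C : Type w'} [CommRing C] [Algebra R C]

theorem isDPMorphism_φ_plus (δp : DividedPowers (Pplus x))
    (hδx : ∀ i n, δp.dpow n (x i 1) = x i n)
    {K : Ideal C} (ε : DividedPowers K) (k : σ' → C) (hk : ∀ i, k i ∈ K) :
    δp.IsDPMorphism ε (φ x hx0 hxmul b hb (fun i n => ε.dpow n (k i))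
      (fun i => ε.dpow_zero (hk i))
      (fun i _ _ => ε.mul_dpow (hk i))).toRingHom := by
  set Φ := φ x hx0 hxmul b hb (fun i n => ε.dpow n (k i))
      (fun i => ε.dpow_zero (hk i)) (fun i _ _ => ε.mul_dpow (hk i)) with hΦ
  have hΦx : ∀ i n, Φ (x i n) = ε.dpow n (k i) := fun i n => φ_x x hx0 hxmul b hb _ _ _ i n
  refine DividedPowers.IsDPMorphism.on_span δp ε rfl ?_ ?_
  · rintro s ⟨i, n, hn, rfl⟩
    show Φ (x i n) ∈ K
    rw [hΦx]
    exact ε.dpow_mem (by omega) (hk i)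
  · rintro m s ⟨i, n, hn, rfl⟩
    show Φ (δp.dpow m (x i n)) = ε.dpow m (Φ (x i n))
    have hn' : n ≠ 0 := by omega
    rw [hΦx, ← hδx i n, δp.dpow_comp hn' (x_mem x i le_rfl), hδx, map_mul, map_natCast, hΦx,
      ε.dpow_comp hn' (hk i)]

end Plus

end Groth.Agent.Lib.Helper16DPTens
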