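import Mathlib
import Groth.Agent.Lib.Helper16Diamond

/-!
# Degree-controlled normal forms for the weight-graded diamond lemma (helper16)

Supplements `Helper16Diamond`: normal forms of monomials with weight control, and the
consequence that an element of the rule ideal has vanishing coefficients at normal monomials
of top weight.
-/

set_option autoImplicit false
set_option linter.style.haveILetI false
set_option linter.unusedSectionVars false

namespace Helper16Diamond

open MvPolynomial

variable {σ : Type*} {R : Type*} [CommRing R] {S : Type*}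
variable (μ : S → σ →₀ ℕ) (f : S → MvPolynomial σ R) (ω : (σ →₀ ℕ) →+ ℕ)

theorem mem_Nspan_iff {p : MvPolynomial σ R} :
    p ∈ Nspan (R := R) μ ↔ ∀ ν ∈ p.support, Normal μ ν := by
  have h : Nspan (R := R) μ = restrictSupport R {ν | Normal μ ν} := by
    rw [restrictSupport_eq_span]
    unfold Nspan
    congr 1
    ext q
    constructor
    · rintro ⟨ν, hν, rfl⟩
      exact ⟨ν, hν, rfl⟩
    · rintro ⟨ν, hν, rfl⟩
      exact ⟨ν, hν, rfl⟩
  rw [h, mem_restrictSupport_iff]
  constructor
  · intro hs ν hν
    exact hs (Finset.mem_coe.mpr hν)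
  · intro hs ν hν
    exact hs ν (Finset.mem_coe.mp hν)

/-- Controlled normal form of a monomial. -/
theorem exists_rep_monomial (hf : ∀ s, ∀ κ ∈ (f s).support, ω κ < ω (μ s)) (κ : σ →₀ ℕ) :
    ∃ r ∈ Nspan (R := R) μ, monomial κ (1 : R) - r ∈ Ideal.span (Set.range (gg μ f)) ∧
      (Normal μ κ → r = monomial κ 1) ∧
      (¬ Normal μ κ → ∀ κ' ∈ r.support, ω κ' < ω κ) := by
  classical
  induction' h : ω κ using Nat.strong_induction_on with n ih generalizing κ
  by_cases hn : Normal μ κ
  · refine ⟨monomial κ 1, Submodule.subset_span ⟨κ, hn, rfl⟩, ?_, fun _ => rfl,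
      fun h' => absurd hn h'⟩
    rw [sub_self]; exact Submodule.zero_mem _
  · have hn' := hn
    unfold Normal at hn'
    push Not at hn'
    obtain ⟨s, hs⟩ := hn'
    set q := monomial (κ - μ s) (1 : R) * f s with hq
    have hqw : ∀ κ' ∈ q.support, ω κ' < ω κ := by
      intro κ' hκ'
      have := weight_lt_of_mem_support_monomial_mul μ f ω hf (κ - μ s) s hκ'
      rwa [← map_add, tsub_add_cancel_of_le hs] at this
    have hex : ∀ κ' : q.support, ∃ r ∈ Nspan (R := R) μ,
        monomial κ'.1 (1 : R) - r ∈ Ideal.span (Set.range (gg μ f)) ∧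
        (Normal μ κ'.1 → r = monomial κ'.1 1) ∧
        (¬ Normal μ κ'.1 → ∀ κ'' ∈ r.support, ω κ'' < ω κ'.1) := by
      intro κ'
      exact ih (ω κ'.1) (h ▸ hqw κ'.1 κ'.2) κ'.1 rfl
    choose rr hrN hrI hrn hrnn using hex
    refine ⟨∑ κ' : q.support, coeff κ'.1 q • rr κ', ?_, ?_, fun h' => absurd h' hn, ?_⟩
    · exact Submodule.sum_mem _ fun κ' _ => Submodule.smul_mem _ _ (hrN κ')
    · have e : monomial κ (1 : R) =
          monomial (κ - μ s) 1 * gg μ f s + q := by
        rw [hq]
        unfold gg
        rw [mul_sub, monomial_mul, one_mul, tsub_add_cancel_of_le hs]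
        ring
      have hq2 : ∑ κ' : q.support, coeff κ'.1 q • monomial κ'.1 (1 : R) = q := by
        conv_rhs => rw [q.as_sum]
        rw [← Finset.sum_coe_sort q.support (fun κ' => monomial κ' (coeff κ' q))]
        refine Finset.sum_congr rfl fun κ' _ => ?_
        rw [smul_monomial, smul_eq_mul, mul_one]
      have e2 : monomial κ (1 : R) - ∑ κ' : q.support, coeff κ'.1 q • rr κ' =
          monomial (κ - μ s) 1 * gg μ f s +
            ∑ κ' : q.support, coeff κ'.1 q • (monomial κ'.1 (1 : R) - rr κ') := by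
        rw [e]
        simp only [smul_sub, Finset.sum_sub_distrib]
        rw [hq2]
        ring
      rw [e2]
      refine Ideal.add_mem _ (Ideal.mul_mem_left _ _ (Ideal.subset_span ⟨s, rfl⟩)) ?_
      refine Ideal.sum_mem _ fun κ' _ => ?_
      rw [smul_eq_C_mul]
      exact Ideal.mul_mem_left _ _ (hrI κ')
    · intro _ κ'' hκ''
      have h1 := MvPolynomial.support_sum hκ''
      rw [Finset.mem_biUnion] at h1
      obtain ⟨κ', -, hκ'⟩ := h1
      have h2 := MvPolynomial.support_smul hκ'
      have hlt : ω κ'.1 < n := h ▸ hqw κ'.1 κ'.2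
      by_cases hn2 : Normal μ κ'.1
      · rw [hrn κ' hn2] at h2
        have := MvPolynomial.support_monomial_subset h2
        rw [Finset.mem_singleton] at this
        rw [this]; exact hlt
      · exact lt_trans (hrnn κ' hn2 κ'' h2) hlt

/-- An element of the rule ideal all of whose monomials have weight `≤ d` has vanishing
coefficients at the normal monomials of weight `d`. -/
theorem coeff_eq_zero_of_mem_top (hf : ∀ s, ∀ κ ∈ (f s).support, ω κ < ω (μ s))
    (hres : ∀ s t, Resolvable μ f ω s t) {Q : MvPolynomial σ R}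
    (hQ : Q ∈ Ideal.span (Set.range (gg μ f))) (d : ℕ)
    (hd : ∀ κ ∈ Q.support, ω κ ≤ d) (ν : σ →₀ ℕ) (hν : Normal μ ν) (hνd : ω ν = d) :
    coeff ν Q = 0 := by
  classical
  have hex := exists_rep_monomial μ f ω hf
  choose rr hrN hrI hrn hrnn using hex
  set RQ := ∑ κ ∈ Q.support, coeff κ Q • rr κ with hRQ
  have h1 : RQ ∈ Nspan (R := R) μ :=
    Submodule.sum_mem _ fun κ _ => Submodule.smul_mem _ _ (hrN κ)
  have h2 : Q - RQ ∈ Ideal.span (Set.range (gg μ f)) := by
    have e : Q - RQ = ∑ κ ∈ Q.support, coeff κ Q • (monomial κ (1 : R) - rr κ) := by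
      have hq2 : Q = ∑ κ ∈ Q.support, coeff κ Q • monomial κ (1 : R) := by
        conv_lhs => rw [Q.as_sum]
        refine Finset.sum_congr rfl fun κ' _ => ?_
        rw [smul_monomial, smul_eq_mul, mul_one]
      conv_lhs => rw [hq2]
      rw [hRQ]
      simp only [smul_sub, Finset.sum_sub_distrib]
    rw [e]
    refine Ideal.sum_mem _ fun κ _ => ?_
    rw [smul_eq_C_mul]
    exact Ideal.mul_mem_left _ _ (hrI κ)
  have h3 : RQ ∈ Ideal.span (Set.range (gg μ f)) := by
    have : RQ = Q - (Q - RQ) := by ring
    rw [this]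
    exact Ideal.sub_mem _ hQ h2
  have h4 : RQ = 0 := eq_zero_of_mem μ f ω hf hres h1 h3
  have h5 : coeff ν RQ = coeff ν Q := by
    rw [hRQ, coeff_sum]
    simp only [coeff_smul, smul_eq_mul]
    rw [Finset.sum_eq_single ν]
    · rw [hrn ν hν, coeff_monomial, if_pos rfl, mul_one]
    · intro κ hκ hne
      by_cases hn : Normal μ κ
      · rw [hrn κ hn, coeff_monomial, if_neg hne, mul_zero]
      · have : ν ∉ (rr κ).support := by
          intro hmem
          have h6 := hrnn κ hn ν hmem
          have h7 := hd κ hκ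
          omega
        rw [notMem_support_iff.mp this, mul_zero]
    · intro hnot
      rw [notMem_support_iff.mp hnot, zero_mul]
  rw [← h5, h4, coeff_zero]

end Helper16Diamond
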