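import Mathlib
import Groth.Agent.Lib.Helper16E8

set_option autoImplicit false
set_option linter.style.haveILetI false
set_option linter.unusedSectionVars false

namespace Groth.Agent.Lib.Helper16E8b

open W4c3severiratdp Groth.Agent.Lib.Helper16E8

/-- The class `e_i` in `DP 8`. -/
def eVec (i : Fin 8) : DP 8 := Pi.single i.succ (-1)

theorem vec_ext {v w : DP 8} (h0 : v 0 = w 0) (hs : ∀ l : Fin 8, v l.succ = w l.succ) : v = w := by
  funext m
  exact Fin.cases h0 hs m

theorem form_eVec_right (M : DP 8) (i : Fin 8) : form M (eVec i) = M i.succ := by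
  rw [eVec, form_single_succ_right]
  ring

theorem adm_fix_single {J : Finset (Fin 8)} {k : DP 8 ≃ₗ[ℤ] DP 8} (hk : Adm J k) (l : Fin 8)
    (hl : l ∉ J) (x : ℤ) : k (Pi.single l.succ x) = Pi.single l.succ x := by
  have e : (Pi.single l.succ x : DP 8) = x • Pi.single l.succ 1 := by
    ext m
    simp [Pi.single_apply]
  rw [e, map_smul, hk.2 l hl]

theorem eVec_zero (i : Fin 8) : eVec i 0 = 0 := by
  simp [eVec, Pi.single_apply, (Fin.succ_ne_zero _).symm]

theorem eVec_succ (i l : Fin 8) : eVec i l.succ = if l = i then -1 else 0 := by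
  simp [eVec, Pi.single_apply, Fin.succ_inj]

/-- Step A: every exceptional class is conjugate to `e_8`. -/
theorem exists_weyl_to_e8 (L : DP 8) (hL : IsExc L) :
    ∃ g : DP 8 ≃ₗ[ℤ] DP 8, IsWeyl g ∧ g L = eVec (Fin.last 7) := by
  obtain ⟨g₀, hg₀, a0, a1, a2⟩ := normal_form_zero (δ := 8) le_rfl Finset.univ (by simp)
    (Fin.last 7) (Finset.mem_univ _) L hL (by simp) (by simp)
  refine ⟨g₀, hg₀.1, vec_ext ?_ fun l => ?_⟩
  · rw [a0, eVec_zero]
  · rw [eVec_succ]
    by_cases hl : l = Fin.last 7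
    · rw [if_pos hl, hl, a1]
    · rw [if_neg hl, a2 l (Finset.mem_univ _) hl]

/-- Index set with the last coordinate frozen. -/
def J7 : Finset (Fin 8) := Finset.univ.erase (Fin.last 7)

/-- Index set with the last two coordinates frozen. -/
def J6 : Finset (Fin 8) := (Finset.univ.erase (Fin.last 7)).erase 6

theorem mem_J7 (l : Fin 8) : l ∈ J7 ↔ l ≠ Fin.last 7 := by
  simp [J7]

theorem mem_J6 (l : Fin 8) : l ∈ J6 ↔ l ≠ 6 ∧ l ≠ Fin.last 7 := by
  simp [J6]

theorem J7_compl : J7ᶜ = {Fin.last 7} := by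
  ext x
  simp [J7]

theorem J6_compl : J6ᶜ = {6, Fin.last 7} := by
  ext x
  simp only [J6, Finset.mem_compl, Finset.mem_erase, Finset.mem_univ, and_true, not_and,
    Finset.mem_insert, Finset.mem_singleton]
  tauto

theorem J7_card : 3 ≤ J7.card := by decide

theorem J6_card : 3 ≤ J6.card := by decide

/-- `ℓ - e_1 - e_8`. -/
def n1Vec : DP 8 := Pi.single 0 1 + Pi.single (0 : Fin 8).succ 1 + Pi.single (Fin.last 7).succ 1

/-- `ℓ - e_1 - e_7`. -/
def nVec : DP 8 := Pi.single 0 1 + Pi.single (0 : Fin 8).succ 1 + Pi.single (6 : Fin 8).succ 1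

/-- Normalisation of a pair `(L, λ)` with `λ·L = 0`. -/
theorem exists_weyl_pair_zero (L M : DP 8) (hL : IsExc L) (hM : IsExc M) (h : form M L = 0) :
    ∃ g : DP 8 ≃ₗ[ℤ] DP 8, IsWeyl g ∧ g L = eVec (Fin.last 7) ∧ g M = eVec 6 := by
  obtain ⟨g₀, hg₀, hgL⟩ := exists_weyl_to_e8 L hL
  have hM8 : (g₀ M) (Fin.last 7).succ = 0 := by
    rw [← form_eVec_right (g₀ M) (Fin.last 7), ← hgL, hg₀.1, h]
  obtain ⟨k, hk, b0, b1, b2⟩ := normal_form_zero (δ := 8) le_rfl J7 J7_card 6
    ((mem_J7 6).mpr (by decide)) (g₀ M) (isWeyl_isExc hg₀ hM)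
    (by rw [J7_compl, Finset.sum_singleton, hM8])
    (by rw [J7_compl, Finset.sum_singleton, hM8]; norm_num)
  refine ⟨g₀.trans k, isWeyl_trans hg₀ hk.1, ?_, ?_⟩
  · rw [LinearEquiv.trans_apply, hgL]
    exact adm_fix_single hk _ (by simp [J7]) _
  · rw [LinearEquiv.trans_apply]
    refine vec_ext ?_ fun l => ?_
    · rw [b0, eVec_zero]
    · rw [eVec_succ]
      by_cases hl6 : l = 6
      · rw [if_pos hl6, hl6, b1]
      · rw [if_neg hl6]
        by_cases hl7 : l = Fin.last 7
        · rw [hl7, adm_coord hk _ _ (by simp [J7]), hM8]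
        · exact b2 l ((mem_J7 l).mpr hl7) hl6

theorem n1Vec_zero : n1Vec 0 = 1 := by
  simp [n1Vec, Pi.single_apply, (Fin.succ_ne_zero _).symm]

theorem n1Vec_succ (l : Fin 8) :
    n1Vec l.succ = (if l = 0 then 1 else 0) + (if l = Fin.last 7 then 1 else 0) := by
  simp only [n1Vec, Pi.add_apply, Pi.single_apply, Fin.succ_inj, Fin.succ_ne_zero, if_false,
    zero_add]

theorem nVec_zero : nVec 0 = 1 := by
  simp [nVec, Pi.single_apply, (Fin.succ_ne_zero _).symm]

theorem nVec_succ (l : Fin 8) :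
    nVec l.succ = (if l = 0 then 1 else 0) + (if l = 6 then 1 else 0) := by
  simp only [nVec, Pi.add_apply, Pi.single_apply, Fin.succ_inj, Fin.succ_ne_zero, if_false,
    zero_add]

/-- Normalisation of a pair `(L, λ)` with `λ·L = 1`. -/
theorem exists_weyl_pair_one (L M : DP 8) (hL : IsExc L) (hM : IsExc M) (h : form M L = 1) :
    ∃ g : DP 8 ≃ₗ[ℤ] DP 8, IsWeyl g ∧ g L = eVec (Fin.last 7) ∧ g M = n1Vec := by
  obtain ⟨g₀, hg₀, hgL⟩ := exists_weyl_to_e8 L hL
  have hM8 : (g₀ M) (Fin.last 7).succ = 1 := by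
    rw [← form_eVec_right (g₀ M) (Fin.last 7), ← hgL, hg₀.1, h]
  obtain ⟨k, hk, b0, b1, b2⟩ := normal_form_one (δ := 8) le_rfl J7 J7_card 0
    ((mem_J7 0).mpr (by decide)) (g₀ M) (isWeyl_isExc hg₀ hM)
    (by rw [J7_compl, Finset.sum_singleton, hM8])
    (by rw [J7_compl, Finset.sum_singleton, hM8]; norm_num)
  refine ⟨g₀.trans k, isWeyl_trans hg₀ hk.1, ?_, ?_⟩
  · rw [LinearEquiv.trans_apply, hgL]
    exact adm_fix_single hk _ (by simp [J7]) _
  · rw [LinearEquiv.trans_apply]
    refine vec_ext ?_ fun l => ?_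
    · rw [b0, n1Vec_zero]
    · rw [n1Vec_succ]
      by_cases hl0 : l = 0
      · have : (0 : Fin 8) ≠ Fin.last 7 := by decide
        rw [if_pos hl0, hl0, b1, if_neg this]
        norm_num
      · rw [if_neg hl0]
        by_cases hl7 : l = Fin.last 7
        · rw [if_pos hl7, hl7, adm_coord hk _ _ (by simp [J7]), hM8]
          norm_num
        · rw [if_neg hl7, b2 l ((mem_J7 l).mpr hl7) hl0]
          norm_num

/-- Normalisation of a triple `(L, λ₁, λ₂)` with `λ₁·L = λ₂·L = 0`, `λ₁·λ₂ = 1`. -/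
theorem exists_weyl_triple (L M₁ M₂ : DP 8) (hL : IsExc L) (hM₁ : IsExc M₁) (hM₂ : IsExc M₂)
    (h1 : form M₁ L = 0) (h2 : form M₂ L = 0) (h12 : form M₂ M₁ = 1) :
    ∃ g : DP 8 ≃ₗ[ℤ] DP 8, IsWeyl g ∧ g L = eVec (Fin.last 7) ∧ g M₁ = eVec 6 ∧ g M₂ = nVec := by
  obtain ⟨g₀, hg₀, hgL, hgM₁⟩ := exists_weyl_pair_zero L M₁ hL hM₁ h1
  have hM8 : (g₀ M₂) (Fin.last 7).succ = 0 := by
    rw [← form_eVec_right (g₀ M₂) (Fin.last 7), ← hgL, hg₀.1, h2]
  have hM7 : (g₀ M₂) (6 : Fin 8).succ = 1 := by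
    rw [← form_eVec_right (g₀ M₂) 6, ← hgM₁, hg₀.1, h12]
  have h67 : (6 : Fin 8) ≠ Fin.last 7 := by decide
  obtain ⟨k, hk, b0, b1, b2⟩ := normal_form_one (δ := 8) le_rfl J6 J6_card 0
    ((mem_J6 0).mpr (by decide)) (g₀ M₂) (isWeyl_isExc hg₀ hM₂)
    (by rw [J6_compl, Finset.sum_pair h67, hM8, hM7]; norm_num)
    (by rw [J6_compl, Finset.sum_pair h67, hM8, hM7]; norm_num)
  have h6J : (6 : Fin 8) ∉ J6 := by simp [J6]
  have h7J : Fin.last 7 ∉ J6 := by simp [J6]
  refine ⟨g₀.trans k, isWeyl_trans hg₀ hk.1, ?_, ?_, ?_⟩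
  · rw [LinearEquiv.trans_apply, hgL]
    exact adm_fix_single hk _ h7J _
  · rw [LinearEquiv.trans_apply, hgM₁]
    exact adm_fix_single hk _ h6J _
  · rw [LinearEquiv.trans_apply]
    refine vec_ext ?_ fun l => ?_
    · rw [b0, nVec_zero]
    · rw [nVec_succ]
      by_cases hl0 : l = 0
      · have : (0 : Fin 8) ≠ 6 := by decide
        rw [if_pos hl0, hl0, b1, if_neg this]
        norm_num
      · rw [if_neg hl0]
        by_cases hl6 : l = 6
        · rw [if_pos hl6, hl6, adm_coord hk _ _ h6J, hM7]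
          norm_num
        · rw [if_neg hl6]
          by_cases hl7 : l = Fin.last 7
          · rw [hl7, adm_coord hk _ _ h7J, hM8]
            norm_num
          · rw [b2 l ((mem_J6 l).mpr ⟨hl6, hl7⟩) hl0]
            norm_num

/-! ### Bounds on the product of two exceptional classes -/

theorem form_canon_canon : form (canon 8) (canon 8) = 1 := by
  rw [form_canon]
  simp [canon_zero, canon_succ]

theorem exc_pair_bounds (L M : DP 8) (hL : IsExc L) (hM : IsExc M) :
    (-1 ≤ form M L ∧ (form M L = -1 → M = L)) ∧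
      (form M L ≤ 3 ∧ (form M L = 3 → M = -L - (2 : ℤ) • canon 8)) := by
  have hKK := form_canon_canon
  constructor
  · have hK : form (canon 8) (M - L) = 0 := by
      rw [form_sub_right, hM.2, hL.2]
      norm_num
    obtain ⟨hle, heq0⟩ := form_self_nonpos_of_orth (δ := 8) le_rfl (M - L) hK
    have hexp : form (M - L) (M - L) = -2 - 2 * form M L := by
      rw [form_sub_left, form_sub_right, form_sub_right, hM.1, hL.1, form_comm L M]
      ring
    rw [hexp] at hle heq0
    refine ⟨by linarith, fun hc1 => ?_⟩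
    have := heq0 (by rw [hc1]; norm_num)
    exact sub_eq_zero.mp this
  · have hK : form (canon 8) (M + L + (2 : ℤ) • canon 8) = 0 := by
      rw [form_add_right, form_add_right, form_smul_right, hM.2, hL.2, hKK]
      norm_num
    obtain ⟨hle, heq0⟩ := form_self_nonpos_of_orth (δ := 8) le_rfl _ hK
    have hexp : form (M + L + (2 : ℤ) • canon 8) (M + L + (2 : ℤ) • canon 8) =
        2 * form M L - 6 := by
      simp only [form_add_left, form_add_right, form_smul_left, form_smul_right, hM.1, hL.1,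
        hKK, hM.2, hL.2, form_comm L M, form_comm M (canon 8), form_comm L (canon 8)]
      ring
    rw [hexp] at hle heq0
    refine ⟨by linarith, fun hc3 => ?_⟩
    have := heq0 (by rw [hc3]; norm_num)
    rw [← sub_eq_zero, ← this]
    abel

/-! ### Explicit representatives -/

/-- `e_8 - 2K`. -/
def T8 : DP 8 := eVec (Fin.last 7) - 2 • canon 8

/-- First entries of the four representative triples. -/
def R0 : Fin 4 → DP 8 := ![eVec (Fin.last 7), eVec (Fin.last 7), eVec (Fin.last 7), eVec 6]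

/-- Second entries of the four representative triples. -/
def R1 : Fin 4 → DP 8 := ![eVec (Fin.last 7), eVec 6, n1Vec, nVec]

/-- The four representative triples (for `L = e_8`). -/
def R (j : Fin 4) : Fin 3 → DP 8 := ![R0 j, R1 j, T8 - R0 j - R1 j]

theorem isExc_R (j : Fin 4) (i : Fin 3) : IsExc (R j i) := by
  fin_cases j <;> fin_cases i <;> (unfold IsExc form; decide)

/-- The intersection numbers of the representatives with `e_8`. -/
def cval (j : Fin 4) (i : Fin 3) : ℤ := form (R j i) (eVec (Fin.last 7))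

/-- The invariant separating the four orbits. -/
def inv (j : Fin 4) : ℤ := ∑ i : Fin 3, cval j i ^ 2

theorem inv_injective : ∀ j j' : Fin 4, inv j = inv j' → j = j' := by
  unfold inv cval form
  decide

end Groth.Agent.Lib.Helper16E8b
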