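import Mathlib

set_option autoImplicit false
universe u
open CategoryTheory CategoryTheory.Limits TensorProduct

namespace Groth.Agent.Lib.Helper16.EW

variable {A B : Type u} [CommRing A] [CommRing B] (F : ModuleCat.{u} A ⥤ ModuleCat.{u} B) [F.Additive]

/-- `θ_x : A → M`, `a ↦ a • x`. -/
noncomputable abbrev θ {M : ModuleCat.{u} A} (x : M) : ModuleCat.of A A ⟶ M :=
  ModuleCat.ofHom ((LinearMap.ringLmapEquivSelf A A M).symm x)

@[simp] lemma θ_apply {M : ModuleCat.{u} A} (x : M) (a : A) : (θ x).hom a = a • x := by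
  simp [θ]

lemma θ_comp {M N : ModuleCat.{u} A} (x : M) (f : M ⟶ N) : θ x ≫ f = θ (f.hom x) := by
  ext
  simp

lemma θ_add {M : ModuleCat.{u} A} (x x' : M) : θ (x + x') = θ x + θ x' := by
  ext
  simp

lemma θ_zero {M : ModuleCat.{u} A} : θ (0 : M) = 0 := by
  ext
  simp

lemma smul_id_comp_θ {M : ModuleCat.{u} A} (a : A) (x : M) :
    (a • 𝟙 (ModuleCat.of A A)) ≫ θ x = θ (a • x) := by
  ext
  simp

/-- `K = F(A)` as a bare type. -/
def K : Type u := F.obj (ModuleCat.of A A)

noncomputable instance : AddCommGroup (K F) := inferInstanceAs (AddCommGroup (F.obj (ModuleCat.of A A)))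
noncomputable instance : Module B (K F) := inferInstanceAs (Module B (F.obj (ModuleCat.of A A)))

/-- the action of `A` on `K` by functoriality. -/
noncomputable def actHom : A →+* Module.End B (K F) where
  toFun a := (F.map (a • 𝟙 (ModuleCat.of A A))).hom
  map_one' := by
    rw [one_smul, F.map_id]
    rfl
  map_mul' a b := by
    have : (a * b) • 𝟙 (ModuleCat.of A A) = (b • 𝟙 _) ≫ (a • 𝟙 _) := by
      ext
      simp
    rw [this, F.map_comp]
    rfl
  map_zero' := by
    rw [zero_smul, F.map_zero]
    rfl
  map_add' a b := by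
    rw [add_smul, F.map_add]
    rfl

noncomputable instance : Module A (K F) := Module.compHom (K F) (actHom F)

lemma smul_def (a : A) (y : K F) : a • y = (F.map (a • 𝟙 (ModuleCat.of A A))).hom y := rfl

instance : SMulCommClass A B (K F) :=
  ⟨fun a b y => map_smul (F.map (a • 𝟙 (ModuleCat.of A A))).hom b y⟩

/-- the balanced biadditive map `(y, x) ↦ F(θ_x)(y)`. -/
noncomputable def bil (M : ModuleCat.{u} A) : K F →+ M →+ F.obj M :=
  AddMonoidHom.mk' (fun y => AddMonoidHom.mk' (fun x => (F.map (θ x)).hom y)
    (fun x x' => by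
      rw [θ_add, F.map_add]
      rfl))
    (fun y y' => by
      ext x
      exact map_add (F.map (θ x)).hom y y')

lemma bil_apply (M : ModuleCat.{u} A) (y : K F) (x : M) : bil F M y x = (F.map (θ x)).hom y := rfl

lemma bil_balanced (M : ModuleCat.{u} A) (a : A) (y : K F) (x : M) :
    bil F M (a • y) x = bil F M y (a • x) := by
  rw [bil_apply, bil_apply, smul_def, ← smul_id_comp_θ, F.map_comp]
  rfl

/-- the comparison map `K ⊗_A M → F M`. -/
noncomputable def tLin (M : ModuleCat.{u} A) : K F ⊗[A] M →ₗ[B] F.obj M where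
  toFun := TensorProduct.liftAddHom (bil F M) (bil_balanced F M)
  map_add' := map_add _
  map_smul' b z := by
    induction z using TensorProduct.induction_on with
    | zero => simp
    | tmul y x =>
      rw [TensorProduct.smul_tmul', TensorProduct.liftAddHom_tmul, TensorProduct.liftAddHom_tmul,
        bil_apply, bil_apply]
      exact map_smul (F.map (θ x)).hom b y
    | add z z' hz hz' =>
      rw [smul_add, map_add, map_add, hz, hz', smul_add]

lemma tLin_tmul (M : ModuleCat.{u} A) (y : K F) (x : M) :
    tLin F M (y ⊗ₜ x) = (F.map (θ x)).hom y := by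
  change TensorProduct.liftAddHom (bil F M) (bil_balanced F M) (y ⊗ₜ x) = _
  rw [TensorProduct.liftAddHom_tmul, bil_apply]

lemma tLin_nat {M N : ModuleCat.{u} A} (f : M ⟶ N) (z : K F ⊗[A] M) :
    (F.map f).hom (tLin F M z) = tLin F N (LinearMap.lTensor (K F) f.hom z) := by
  induction z using TensorProduct.induction_on with
  | zero => simp
  | tmul y x =>
    rw [tLin_tmul, LinearMap.lTensor_tmul, tLin_tmul, ← θ_comp, F.map_comp]
    rfl
  | add a b ha hb => simp only [map_add, ha, hb]

section Free

variable (L : ModuleCat.{u} A) {ι : Type u} (b : Module.Basis ι A L)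

/-- the coproduct cocone on `L` given by a basis. -/
noncomputable def cofan : Cofan (fun _ : ι => ModuleCat.of A A) :=
  Cofan.mk L (fun i => θ (b i))

noncomputable def isColimitCofan : IsColimit (cofan L b) :=
  Cofan.IsColimit.mk _ (fun s => ModuleCat.ofHom (b.constr A (fun i => (s.inj i).hom 1)))
    (fun s i => by
      ext
      simp [cofan])
    (fun s m hm => by
      ext : 1
      apply b.ext
      intro i
      have h1 : (s.inj i).hom 1 = m.hom (b i) := by
        rw [← hm i]
        change m.hom ((θ (b i)).hom 1) = _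
        rw [θ_apply, one_smul]
      change m.hom (b i) = (b.constr A (fun i => (s.inj i).hom 1)) (b i)
      rw [Module.Basis.constr_basis]
      exact h1.symm)

/-- `y ↦ y ⊗ x` as a `B`-linear map. -/
noncomputable def mkR (M : ModuleCat.{u} A) (x : M) : K F →ₗ[B] K F ⊗[A] M where
  toFun y := y ⊗ₜ x
  map_add' y y' := TensorProduct.add_tmul y y' x
  map_smul' b y := (TensorProduct.smul_tmul' b y x).symm

variable [∀ J : Type u, PreservesColimitsOfShape (Discrete J) F]

noncomputable def invCocone : Cocone (Discrete.functor (fun _ : ι => ModuleCat.of A A) ⋙ F) where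
  pt := ModuleCat.of B (K F ⊗[A] L)
  ι := Discrete.natTrans (fun i => ModuleCat.ofHom (X := K F) (mkR F L (b i.as)))

noncomputable def tInv : F.obj L ⟶ ModuleCat.of B (K F ⊗[A] L) :=
  (isColimitOfPreserves F (isColimitCofan L b)).desc (invCocone F L b)

lemma tInv_fac (i : ι) (y : K F) :
    (tInv F L b).hom ((F.map (θ (b i))).hom y) = y ⊗ₜ (b i) := by
  have h := (isColimitOfPreserves F (isColimitCofan L b)).fac (invCocone F L b) ⟨i⟩
  exact ConcreteCategory.congr_hom h y

lemma tInv_tLin_tmul (x : L) : ∀ y : K F, (tInv F L b).hom (tLin F L (y ⊗ₜ x)) = y ⊗ₜ x := by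
  have hx : x ∈ Submodule.span A (Set.range b) := by
    rw [b.span_eq]
    trivial
  induction hx using Submodule.span_induction with
  | mem x hx =>
    obtain ⟨i, rfl⟩ := hx
    intro y
    rw [tLin_tmul, tInv_fac]
  | zero =>
    intro y
    rw [TensorProduct.tmul_zero, map_zero, map_zero]
  | add x x' _ _ hx hx' =>
    intro y
    rw [TensorProduct.tmul_add, map_add, map_add, hx, hx']
  | smul a x _ hx =>
    intro y
    rw [← TensorProduct.smul_tmul, hx]

lemma tInv_tLin (z : K F ⊗[A] L) : (tInv F L b).hom (tLin F L z) = z := by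
  induction z using TensorProduct.induction_on with
  | zero => simp
  | tmul y x => exact tInv_tLin_tmul F L b x y
  | add z z' hz hz' => rw [map_add, map_add, hz, hz']

lemma tLin_tInv (w : F.obj L) : tLin F L ((tInv F L b).hom w) = w := by
  have : tInv F L b ≫ ModuleCat.ofHom (tLin F L) = 𝟙 _ := by
    apply (isColimitOfPreserves F (isColimitCofan L b)).hom_ext
    rintro ⟨i⟩
    refine ModuleCat.hom_ext (LinearMap.ext fun (y : K F) => ?_)
    change tLin F L ((tInv F L b).hom ((F.map (θ (b i))).hom y)) = (F.map (θ (b i))).hom y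
    rw [tInv_fac F L b i y, tLin_tmul]
  exact ConcreteCategory.congr_hom this w

include b in
lemma tLin_bijective_of_basis : Function.Bijective (tLin F L) :=
  ⟨Function.LeftInverse.injective (tInv_tLin F L b), Function.RightInverse.surjective (tLin_tInv F L b)⟩

lemma tLin_bijective_of_free [Module.Free A L] : Function.Bijective (tLin F L) :=
  tLin_bijective_of_basis F L (Module.Free.chooseBasis A L)

end Free

/-- the standard free cover. -/
noncomputable abbrev freeCover (M : ModuleCat.{u} A) : ModuleCat.of A (M →₀ A) ⟶ M :=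
  ModuleCat.ofHom (Finsupp.linearCombination A (id : M → M))

lemma freeCover_surjective (M : ModuleCat.{u} A) : Function.Surjective (freeCover M).hom := by
  intro x
  exact ⟨Finsupp.single x 1, by simp [freeCover]⟩

section RightExact

variable [∀ J : Type u, PreservesColimitsOfShape (Discrete J) F] [PreservesFiniteColimits F]

lemma tLin_surjective (M : ModuleCat.{u} A) : Function.Surjective (tLin F M) := by
  intro w
  have hp : Epi (freeCover M) := (ModuleCat.epi_iff_surjective _).2 (freeCover_surjective M)
  have : Epi (F.map (freeCover M)) := inferInstance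
  obtain ⟨w', rfl⟩ := (ModuleCat.epi_iff_surjective _).1 this w
  obtain ⟨z', rfl⟩ := (tLin_bijective_of_free F (ModuleCat.of A (M →₀ A))).2 w'
  exact ⟨_, (tLin_nat F (freeCover M) z').symm⟩

lemma tLin_injective (M : ModuleCat.{u} A) : Function.Injective (tLin F M) := by
  rw [injective_iff_map_eq_zero]
  intro z hz
  let p := freeCover M
  have hpS := freeCover_surjective M
  obtain ⟨w, rfl⟩ := LinearMap.lTensor_surjective (K F) hpS z
  let K' : ModuleCat.{u} A := ModuleCat.of A (LinearMap.ker p.hom)
  let ι : K' ⟶ ModuleCat.of A (M →₀ A) := ModuleCat.ofHom (LinearMap.ker p.hom).subtype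
  let q := freeCover K'
  let d := q ≫ ι
  have hd : d ≫ p = 0 := by
    refine ModuleCat.hom_ext (LinearMap.ext fun x => ?_)
    change p.hom (ι.hom (q.hom x)) = 0
    exact (q.hom x).2
  let S : ShortComplex (ModuleCat.{u} A) := ShortComplex.mk d p hd
  have hSex : S.Exact := by
    rw [ShortComplex.moduleCat_exact_iff]
    intro x hx
    obtain ⟨y, hy⟩ := freeCover_surjective K' ⟨x, hx⟩
    refine ⟨y, ?_⟩
    change ι.hom (q.hom y) = x
    rw [hy]
    rfl
  have hSepi : Epi S.g := (ModuleCat.epi_iff_surjective _).2 hpS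
  have htfae := (Functor.preservesFiniteColimits_tfae F).out 3 1
  have hTS := htfae.1 inferInstance S ⟨hSex, hSepi⟩
  have h0 : (F.map p).hom (tLin F _ w) = 0 := by rw [tLin_nat]; exact hz
  obtain ⟨v, hv⟩ := (ShortComplex.moduleCat_exact_iff _).1 hTS.1 (tLin F _ w) h0
  obtain ⟨v', rfl⟩ := (tLin_bijective_of_free F (ModuleCat.of A (K' →₀ A))).2 v
  have hv2 : tLin F _ (LinearMap.lTensor _ d.hom v') = tLin F _ w := by
    rw [← tLin_nat]; exact hv
  have hw : w = LinearMap.lTensor _ d.hom v' :=
    ((tLin_bijective_of_free F (ModuleCat.of A (M →₀ A))).1 hv2).symm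
  rw [hw, ← LinearMap.comp_apply, ← LinearMap.lTensor_comp]
  have : p.hom ∘ₗ d.hom = 0 := by
    have := congrArg ModuleCat.Hom.hom hd
    simpa using this
  rw [this, LinearMap.lTensor_zero, LinearMap.zero_apply]

/-- the Eilenberg–Watts isomorphism. -/
noncomputable def η (M : ModuleCat.{u} A) : (K F ⊗[A] M) ≃ₗ[B] F.obj M :=
  LinearEquiv.ofBijective (tLin F M) ⟨tLin_injective F M, tLin_surjective F M⟩

lemma η_apply (M : ModuleCat.{u} A) (z : K F ⊗[A] M) : η F M z = tLin F M z := rfl

lemma η_nat {M N : ModuleCat.{u} A} (f : M ⟶ N) (z : K F ⊗[A] M) :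
    η F N (LinearMap.lTensor (K F) f.hom z) = (F.map f).hom (η F M z) :=
  (tLin_nat F f z).symm

end RightExact

end Groth.Agent.Lib.Helper16.EW
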