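import Mathlib
import Groth.Prelude.Def_BigSite
import Groth.Agent.Lib.Helper16SmallEtale

set_option autoImplicit false
open CategoryTheory CategoryTheory.Limits AlgebraicGeometry Opposite
universe u w

namespace Groth.Agent.Lib.Helper16.EtGlue

open Groth.Agent.Lib.Helper16.SmallEtale

set_option backward.isDefEq.respectTransparency.types false in
/-- a sheaf of types on the small etale site has at most one section over an empty scheme -/
lemma subsingleton_of_isEmpty {X : Scheme.{u}} (F : X.Etaleᵒᵖ ⥤ Type w)
    (hF : Presieve.IsSheaf X.smallEtaleTopology F) (Z : X.Etale) [IsEmpty Z.left] :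
    Subsingleton (F.obj (op Z)) := by
  have hbot : (⊥ : Sieve Z) ∈ X.smallEtaleTopology Z := by
    rw [mem_smallEtale_iff]
    intro x
    exact (IsEmpty.false x).elim
  constructor
  intro a b
  apply (hF _ hbot).isSeparatedFor.ext
  intro W g hg
  exact hg.elim

set_option backward.isDefEq.respectTransparency.types false in
/-- gluing sections along a disjoint cover by monomorphisms (e.g. open immersions) -/
lemma exists_unique_glue {X : Scheme.{u}} (F : X.Etaleᵒᵖ ⥤ Type w)
    (hF : Presieve.IsSheaf X.smallEtaleTopology F) {μ : Type*} {P : X.Etale}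
    (W : μ → X.Etale) (j : ∀ a, W a ⟶ P) (hmono : ∀ a, Mono (j a).left)
    (hdisj : ∀ a b, a ≠ b → ∀ (x : (W a).left) (y : (W b).left), (j a).left x ≠ (j b).left y)
    (hcov : ∀ p : P.left, ∃ (a : μ) (x : (W a).left), (j a).left x = p)
    (t : ∀ a, F.obj (op (W a))) :
    ∃! s : F.obj (op P), ∀ a, F.map (j a).op s = t a := by
  have hS : Sieve.ofArrows W j ∈ X.smallEtaleTopology P := by
    rw [mem_smallEtale_iff]
    intro p
    obtain ⟨a, x, hx⟩ := hcov p
    exact ⟨W a, j a, x, Sieve.ofArrows_mk _ _ a, hx⟩
  have h1 : Presieve.IsSheafFor F (Presieve.ofArrows W j) :=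
    (Presieve.isSheafFor_iff_generate (Presieve.ofArrows W j)).mpr (hF _ hS)
  rw [Presieve.isSheafFor_arrows_iff] at h1
  apply h1 t
  intro a b Z ga gb hab
  by_cases hne : a = b
  · subst hne
    have : ga = gb := by
      apply MorphismProperty.Over.Hom.ext
      have h2 : ga.left ≫ (j a).left = gb.left ≫ (j a).left := by
        exact congrArg (fun m => m.left) hab
      have := hmono a
      exact (cancel_mono (j a).left).1 h2
    rw [this]
  · have : IsEmpty Z.left := by
      constructor
      intro z
      apply hdisj a b hne (ga.left z) (gb.left z)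
      have h2 : ga.left ≫ (j a).left = gb.left ≫ (j b).left := by
        exact congrArg (fun m => m.left) hab
      have := congrArg (fun m : Z.left ⟶ P.left => m z) h2
      simpa only [Scheme.Hom.comp_apply] using this
    have := subsingleton_of_isEmpty F hF Z
    exact Subsingleton.elim _ _

set_option backward.isDefEq.respectTransparency.types false in
/-- binary version of `exists_unique_glue` -/
lemma exists_glue_binary {X : Scheme.{u}} (F : X.Etaleᵒᵖ ⥤ Type w)
    (hF : Presieve.IsSheaf X.smallEtaleTopology F) {P W1 W2 : X.Etale}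
    (j1 : W1 ⟶ P) (j2 : W2 ⟶ P) (hm1 : Mono j1.left) (hm2 : Mono j2.left)
    (hdisj : ∀ (x : W1.left) (y : W2.left), j1.left x ≠ j2.left y)
    (hcov : ∀ p : P.left, (∃ x : W1.left, j1.left x = p) ∨ (∃ y : W2.left, j2.left y = p))
    (t1 : F.obj (op W1)) (t2 : F.obj (op W2)) :
    ∃ s : F.obj (op P), F.map j1.op s = t1 ∧ F.map j2.op s = t2 := by
  let W : Bool → X.Etale := fun b => match b with
    | true => W1
    | false => W2
  let j : ∀ b, W b ⟶ P := fun b => match b with
    | true => j1
    | false => j2
  let t : ∀ b, F.obj (op (W b)) := fun b => match b with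
    | true => t1
    | false => t2
  obtain ⟨s, hs, -⟩ := exists_unique_glue F hF W j
    (by intro b; cases b <;> assumption)
    (by
      intro a b hab x y
      cases a <;> cases b
      · exact (hab rfl).elim
      · exact fun h => hdisj y x h.symm
      · exact hdisj x y
      · exact (hab rfl).elim)
    (by
      intro p
      rcases hcov p with ⟨x, hx⟩ | ⟨y, hy⟩
      · exact ⟨true, x, hx⟩
      · exact ⟨false, y, hy⟩) t
  exact ⟨s, hs true, hs false⟩

end Groth.Agent.Lib.Helper16.EtGlue
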