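import Mathlib
import Groth.Prelude.Def_EtBase
import Groth.Agent.Lib.Helper16SmallEtale

/-!
# Geometric stalks on the small etale site detect mono/epi (helper16)
-/

set_option autoImplicit false
open CategoryTheory CategoryTheory.Limits AlgebraicGeometry Opposite
universe u

namespace Groth.Agent.Lib.Helper16.EtStalk

open Groth.Agent.Lib.Helper16.SmallEtale

instance ab5 : AB5OfSize.{u, u} AddCommGrpCat.{u + 1} :=
  AB5OfSize_of_univLE.{u, u, u + 1, u + 1} AddCommGrpCat.{u + 1}

instance pfc : PreservesFilteredColimitsOfSize.{u, u} (forget AddCommGrpCat.{u + 1}) :=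
  preservesFilteredColimitsOfSize_shrink.{u, u + 1, u, u + 1} _

set_option backward.isDefEq.respectTransparency.types false in
/-- every point of an etale `X`-scheme is the image of a geometric point -/
lemma exists_geometric_point {X : Scheme.{u}} (U : X.Etale) (p : U.left) :
    ∃ (Ω : Type u) (_ : Field Ω) (_ : IsSepClosed Ω) (ξ : Spec (CommRingCat.of Ω) ⟶ X)
      (x : (Scheme.pointSmallEtale ξ).fiber.obj U),
      (x.left : Spec (CommRingCat.of Ω) ⟶ U.left) (default : Spec (CommRingCat.of Ω)) = p := by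
  let Ω := SeparableClosure (U.left.residueField p)
  let l : Spec (CommRingCat.of Ω) ⟶ U.left :=
    Spec.map (CommRingCat.ofHom (algebraMap (U.left.residueField p) Ω)) ≫
      U.left.fromSpecResidueField p
  refine ⟨Ω, inferInstance, inferInstance, l ≫ U.hom, Over.homMk l rfl, ?_⟩
  change l default = p
  dsimp only [l]
  rw [Scheme.Hom.comp_apply]
  exact Scheme.fromSpecResidueField_apply _ _

set_option backward.isDefEq.respectTransparency.types false in
/-- a map of abelian etale sheaves injective on all geometric stalks is locally injective -/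
lemma isLocallyInjective_of_stalks {X : Scheme.{u}} {F G : EtCoh.Ab X} (a : F ⟶ G)
    (h : ∀ (Ω : Type u) [Field Ω] [IsSepClosed Ω] (ξ : Spec (CommRingCat.of Ω) ⟶ X),
      Function.Injective ((EtCoh.stalk ξ).map a)) :
    Sheaf.IsLocallyInjective a := by
  constructor
  intro U x y hxy
  induction U using Opposite.rec with | _ U => ?_
  rw [mem_smallEtale_iff]
  intro p
  obtain ⟨Ω, _, _, ξ, x₀, hx₀⟩ := exists_geometric_point U p
  let Φ := Scheme.pointSmallEtale ξ
  have e1 : (EtCoh.stalk ξ).map a (Φ.toPresheafFiber U x₀ F.obj x) =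
      (EtCoh.stalk ξ).map a (Φ.toPresheafFiber U x₀ F.obj y) := by
    have n1 := Φ.toPresheafFiber_naturality_apply a.hom U x₀ x
    have n2 := Φ.toPresheafFiber_naturality_apply a.hom U x₀ y
    exact n1.trans ((congrArg _ hxy).trans n2.symm)
  have e2 := h Ω ξ e1
  obtain ⟨W, g, w, hw, hg⟩ := (Φ.toPresheafFiber_eq_iff' U x₀ x y).mp e2
  refine ⟨W, g, (w.left : Spec (CommRingCat.of Ω) ⟶ W.left) (default : Spec (CommRingCat.of Ω)),
    hg, ?_⟩
  have e3 : w.left ≫ g.left = x₀.left := congrArg (fun m => m.left) hw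
  rw [← hx₀]
  exact congrArg (fun m : Spec (CommRingCat.of Ω) ⟶ U.left => m default) e3

set_option backward.isDefEq.respectTransparency.types false in
/-- a map of abelian etale sheaves surjective on all geometric stalks is locally surjective -/
lemma isLocallySurjective_of_stalks {X : Scheme.{u}} {F G : EtCoh.Ab X} (a : F ⟶ G)
    (h : ∀ (Ω : Type u) [Field Ω] [IsSepClosed Ω] (ξ : Spec (CommRingCat.of Ω) ⟶ X),
      Function.Surjective ((EtCoh.stalk ξ).map a)) :
    Sheaf.IsLocallySurjective a := by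
  constructor
  intro U t
  rw [mem_smallEtale_iff]
  intro p
  obtain ⟨Ω, _, _, ξ, x₀, hx₀⟩ := exists_geometric_point U p
  let Φ := Scheme.pointSmallEtale ξ
  obtain ⟨σ, hσ⟩ := h Ω ξ (Φ.toPresheafFiber U x₀ G.obj t)
  obtain ⟨V, v, s, rfl⟩ := Φ.toPresheafFiber_jointly_surjective (P := F.obj) σ
  have n1 : (EtCoh.stalk ξ).map a (Φ.toPresheafFiber V v F.obj s) =
      Φ.toPresheafFiber V v G.obj (a.hom.app (op V) s) :=
    Φ.toPresheafFiber_naturality_apply a.hom V v s
  let m : Φ.fiber.Elements := IsCofiltered.min (⟨V, v⟩ : Φ.fiber.Elements) ⟨U, x₀⟩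
  let gV : m ⟶ ⟨V, v⟩ := IsCofiltered.minToLeft _ _
  let gU : m ⟶ ⟨U, x₀⟩ := IsCofiltered.minToRight _ _
  have hgV : Φ.fiber.map gV.1 m.2 = v := gV.2
  have hgU : Φ.fiber.map gU.1 m.2 = x₀ := gU.2
  have e1 : Φ.toPresheafFiber m.1 m.2 G.obj (G.obj.map gU.1.op t) =
      Φ.toPresheafFiber m.1 m.2 G.obj (G.obj.map gV.1.op (a.hom.app (op V) s)) := by
    rw [Φ.toPresheafFiber_w_apply, Φ.toPresheafFiber_w_apply, hgV, hgU, ← hσ, n1]
  obtain ⟨W', g, w', hw', hg⟩ := (Φ.toPresheafFiber_eq_iff' m.1 m.2 _ _).mp e1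
  refine ⟨W', g ≫ gU.1, (w'.left : Spec (CommRingCat.of Ω) ⟶ W'.left)
    (default : Spec (CommRingCat.of Ω)), ⟨F.obj.map (g ≫ gV.1).op s, ?_⟩, ?_⟩
  · have n2 := NatTrans.naturality_apply a.hom (g ≫ gV.1).op s
    rw [n2]
    rw [op_comp, Functor.map_comp, ConcreteCategory.comp_apply, ← hg,
      ← ConcreteCategory.comp_apply, ← Functor.map_comp, ← op_comp]
  · have e3 : w'.left ≫ (g ≫ gU.1).left = x₀.left := by
      have h1 : Φ.fiber.map (g ≫ gU.1) w' = x₀ := by
        rw [Functor.map_comp]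
        change Φ.fiber.map gU.1 (Φ.fiber.map g w') = x₀
        rw [hw', hgU]
      exact congrArg (fun m => m.left) h1
    rw [← hx₀]
    exact congrArg (fun m : Spec (CommRingCat.of Ω) ⟶ U.left => m default) e3

lemma mono_of_stalks {X : Scheme.{u}} {F G : EtCoh.Ab X} (a : F ⟶ G)
    (h : ∀ (Ω : Type u) [Field Ω] [IsSepClosed Ω] (ξ : Spec (CommRingCat.of Ω) ⟶ X),
      Function.Injective ((EtCoh.stalk ξ).map a)) : Mono a := by
  have := isLocallyInjective_of_stalks a h
  exact Sheaf.mono_of_isLocallyInjective a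

lemma epi_of_stalks {X : Scheme.{u}} {F G : EtCoh.Ab X} (a : F ⟶ G)
    (h : ∀ (Ω : Type u) [Field Ω] [IsSepClosed Ω] (ξ : Spec (CommRingCat.of Ω) ⟶ X),
      Function.Surjective ((EtCoh.stalk ξ).map a)) : Epi a := by
  have := isLocallySurjective_of_stalks a h
  exact Sheaf.epi_of_isLocallySurjective a

/-- an abelian etale sheaf all of whose geometric stalks vanish is zero -/
lemma isZero_of_stalks {X : Scheme.{u}} (H : EtCoh.Ab X)
    (h : ∀ (Ω : Type u) [Field Ω] [IsSepClosed Ω] (ξ : Spec (CommRingCat.of Ω) ⟶ X),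
      IsZero ((EtCoh.stalk ξ).obj H)) : IsZero H := by
  have hm : Mono (0 : H ⟶ H) := by
    apply mono_of_stalks
    intro Ω _ _ ξ x y _
    have := AddCommGrpCat.isZero_iff_subsingleton.mp (h Ω ξ)
    exact Subsingleton.elim x y
  rw [IsZero.iff_id_eq_zero]
  exact (cancel_mono (0 : H ⟶ H)).mp (by simp)

end Groth.Agent.Lib.Helper16.EtStalk
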