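import Mathlib
import Groth.Agent.S0101
import Groth.Agent.Lib.Helper16EtStalk

set_option autoImplicit false
open CategoryTheory CategoryTheory.Limits AlgebraicGeometry Opposite
universe u
open Groth.Agent.Lib.Helper16.EtStalk Groth.Agent.Lib.Helper16.SmallEtale

namespace Groth.Agent.Lib.Helper16.StalkPull

open Groth.Agent.S0100 Groth.Agent.S0101

variable {X Y : Scheme.{u}} (f : X ⟶ Y) {Ω : Type u} [Field Ω] [IsSepClosed Ω]
  (ξ : Spec (CommRingCat.of Ω) ⟶ X)

set_option backward.isDefEq.respectTransparency.types false in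
/-- the basic identity of sheaf morphisms -/
lemma key (G : EtCoh.Ab Y) :
    ((EtCoh.pullPushAdj f).comp
      ((Scheme.pointSmallEtale ξ).skyscraperSheafAdjunction (A := AddCommGrpCat.{u + 1}))).unit.app G ≫
      (skySheafIso f ξ).hom.app _ =
    ((Scheme.pointSmallEtale (ξ ≫ f)).skyscraperSheafAdjunction (A := AddCommGrpCat.{u + 1})).unit.app G ≫
      ((Scheme.pointSmallEtale (ξ ≫ f)).skyscraperSheafFunctor).map ((stalkPullIso f ξ).hom.app G) := by
  have := unit_conjugateEquiv_symm ((EtCoh.pullPushAdj f).comp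
      ((Scheme.pointSmallEtale ξ).skyscraperSheafAdjunction (A := AddCommGrpCat.{u + 1})))
      ((Scheme.pointSmallEtale (ξ ≫ f)).skyscraperSheafAdjunction (A := AddCommGrpCat.{u + 1}))
      (skySheafIso f ξ).hom G
  exact this

/-- germ of a section at a geometric point -/
noncomputable def germ {Z : Scheme.{u}} (ζ : Spec (CommRingCat.of Ω) ⟶ Z) (G : EtCoh.Ab Z) (U : Z.Etale)
    (u : (Scheme.pointSmallEtale ζ).fiber.obj U) : G.obj.obj (op U) ⟶ (EtCoh.stalk ζ).obj G :=
  (Scheme.pointSmallEtale ζ).toPresheafFiber U u G.obj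

set_option backward.isDefEq.respectTransparency.types false in
lemma unit_sky_π {Z : Scheme.{u}} (ζ : Spec (CommRingCat.of Ω) ⟶ Z) (G : EtCoh.Ab Z) (U : Z.Etale)
    (u : (Scheme.pointSmallEtale ζ).fiber.obj U) :
    (((Scheme.pointSmallEtale ζ).skyscraperSheafAdjunction
      (A := AddCommGrpCat.{u + 1})).unit.app G).hom.app (op U) ≫
      Pi.π (fun _ : (Scheme.pointSmallEtale ζ).fiber.obj U => (EtCoh.stalk ζ).obj G) u =
    germ ζ G U u := by
  have h := (Scheme.pointSmallEtale ζ).skyscraperSheafAdjunction_homEquiv_apply_hom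
    (A := AddCommGrpCat.{u + 1}) (F := G) (𝟙 _)
  have e : ((Scheme.pointSmallEtale ζ).skyscraperSheafAdjunction
      (A := AddCommGrpCat.{u + 1})).unit.app G =
      ((Scheme.pointSmallEtale ζ).skyscraperSheafAdjunction
      (A := AddCommGrpCat.{u + 1})).homEquiv G _ (𝟙 _) := (Adjunction.homEquiv_id _ _).symm
  rw [e]
  refine (congrArg (fun m => m.app (op U) ≫
    Pi.π (fun _ : (Scheme.pointSmallEtale ζ).fiber.obj U => (EtCoh.stalk ζ).obj G) u) h).trans ?_
  exact ((Scheme.pointSmallEtale ζ).skyscraperPresheafHomEquiv_app_π _ U u).trans (Category.comp_id _)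

set_option backward.isDefEq.respectTransparency.types false in
lemma skySheafIso_π [EtCoh.BCCont f] (M : AddCommGrpCat.{u + 1}) (U : Y.Etale)
    (u : (Scheme.pointSmallEtale (ξ ≫ f)).fiber.obj U) :
    ((skySheafIso f ξ).hom.app M).hom.app (op U) ≫
      Pi.π (fun _ : (Scheme.pointSmallEtale (ξ ≫ f)).fiber.obj U => M) u =
    Pi.π (fun _ : (Scheme.pointSmallEtale ξ).fiber.obj ((EtCoh.bc f).obj U) => M)
      ((fiberIso f ξ).inv.app U u) := by
  simp [skySheafIso, skyIso]
  exact (Pi.map'_comp_π _ _ _).trans (Category.comp_id _)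

set_option backward.isDefEq.respectTransparency.types false in
lemma skyFunctor_map_π {Z : Scheme.{u}} (ζ : Spec (CommRingCat.of Ω) ⟶ Z) {M N : AddCommGrpCat.{u + 1}}
    (b : M ⟶ N) (U : Z.Etale) (u : (Scheme.pointSmallEtale ζ).fiber.obj U) :
    (((Scheme.pointSmallEtale ζ).skyscraperSheafFunctor).map b).hom.app (op U) ≫
      Pi.π (fun _ : (Scheme.pointSmallEtale ζ).fiber.obj U => N) u =
    Pi.π (fun _ : (Scheme.pointSmallEtale ζ).fiber.obj U => M) u ≫ b := by
  simp only [GrothendieckTopology.Point.skyscraperSheafFunctor_map_hom,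
    GrothendieckTopology.Point.skyscraperPresheafFunctor_map_app]
  exact Pi.map_π _ _

set_option backward.isDefEq.respectTransparency.types false in
/-- compatibility of the stalk isomorphism with germs of sections -/
lemma germ_compat [EtCoh.BCCont f] (G : EtCoh.Ab Y) (U : Y.Etale)
    (u : (Scheme.pointSmallEtale (ξ ≫ f)).fiber.obj U) (σ : G.obj.obj (op U)) :
    (stalkPullIso f ξ).hom.app G (germ (ξ ≫ f) G U u σ) =
      germ ξ ((EtCoh.pull f).obj G) ((EtCoh.bc f).obj U) ((fiberIso f ξ).inv.app U u)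
        (((EtCoh.pullPushAdj f).unit.app G).hom.app (op U) σ) := by
  have k := congrArg (fun m => (Pi.π (fun _ : (Scheme.pointSmallEtale (ξ ≫ f)).fiber.obj U =>
      (EtCoh.stalk ξ).obj ((EtCoh.pull f).obj G)) u) (m.hom.app (op U) σ)) (key f ξ G)
  -- left side
  have hL : (Pi.π (fun _ : (Scheme.pointSmallEtale (ξ ≫ f)).fiber.obj U =>
      (EtCoh.stalk ξ).obj ((EtCoh.pull f).obj G)) u)
      ((((EtCoh.pullPushAdj f).comp
      ((Scheme.pointSmallEtale ξ).skyscraperSheafAdjunction (A := AddCommGrpCat.{u + 1}))).unit.app G ≫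
      (skySheafIso f ξ).hom.app _).hom.app (op U) σ) =
      germ ξ ((EtCoh.pull f).obj G) ((EtCoh.bc f).obj U) ((fiberIso f ξ).inv.app U u)
        (((EtCoh.pullPushAdj f).unit.app G).hom.app (op U) σ) := by
    have e1 := ConcreteCategory.congr_hom (skySheafIso_π f ξ
      ((EtCoh.stalk ξ).obj ((EtCoh.pull f).obj G)) U u)
      ((((EtCoh.pullPushAdj f).comp
      ((Scheme.pointSmallEtale ξ).skyscraperSheafAdjunction (A := AddCommGrpCat.{u + 1}))).unit.app G).hom.app
        (op U) σ)
    refine e1.trans ?_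
    rw [Adjunction.comp_unit_app]
    have e2 := ConcreteCategory.congr_hom (unit_sky_π ξ ((EtCoh.pull f).obj G) ((EtCoh.bc f).obj U)
      ((fiberIso f ξ).inv.app U u)) (((EtCoh.pullPushAdj f).unit.app G).hom.app (op U) σ)
    exact e2
  have hR : (Pi.π (fun _ : (Scheme.pointSmallEtale (ξ ≫ f)).fiber.obj U =>
      (EtCoh.stalk ξ).obj ((EtCoh.pull f).obj G)) u)
      ((((Scheme.pointSmallEtale (ξ ≫ f)).skyscraperSheafAdjunction
        (A := AddCommGrpCat.{u + 1})).unit.app G ≫
      ((Scheme.pointSmallEtale (ξ ≫ f)).skyscraperSheafFunctor).map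
        ((stalkPullIso f ξ).hom.app G)).hom.app (op U) σ) =
      (stalkPullIso f ξ).hom.app G (germ (ξ ≫ f) G U u σ) := by
    have e1 := ConcreteCategory.congr_hom (skyFunctor_map_π (ξ ≫ f)
      ((stalkPullIso f ξ).hom.app G) U u)
      ((((Scheme.pointSmallEtale (ξ ≫ f)).skyscraperSheafAdjunction
        (A := AddCommGrpCat.{u + 1})).unit.app G).hom.app (op U) σ)
    refine e1.trans ?_
    have e2 := ConcreteCategory.congr_hom (unit_sky_π (ξ ≫ f) G U u) σ
    exact congrArg ((stalkPullIso f ξ).hom.app G) e2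
  exact hR.symm.trans (k.symm.trans hL)

end Groth.Agent.Lib.Helper16.StalkPull
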