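import Mathlib
import Groth.Agent.S0102
import Groth.Agent.Lib.Helper16StalkPull

set_option autoImplicit false
open CategoryTheory CategoryTheory.Limits AlgebraicGeometry Opposite
universe u
open Groth.Agent.Lib.Helper16.EtStalk Groth.Agent.Lib.Helper16.SmallEtale

namespace Groth.Agent.Lib.Helper16.EtSupp

open Groth.Agent.Lib.Helper16.StalkPull

variable {S : Scheme.{u}} {Ω : Type u} [Field Ω] [IsSepClosed Ω]

set_option backward.isDefEq.respectTransparency.types false in
/-- a germ vanishes iff the point is outside the support of the section -/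
lemma germ_eq_zero_iff (F : EtCoh.Ab S) (ζ : Spec (CommRingCat.of Ω) ⟶ S) (U : S.Etale)
    (u : (Scheme.pointSmallEtale ζ).fiber.obj U) (σ : F.obj.obj (op U)) (p : U.left)
    (hp : (u.left : Spec (CommRingCat.of Ω) ⟶ U.left) (default : Spec (CommRingCat.of Ω)) = p) :
    germ ζ F U u σ = 0 ↔ p ∉ EtShriek.sectSupp F U σ := by
  let Φ := Scheme.pointSmallEtale ζ
  obtain ⟨ul, hul, huw, hup⟩ : ∃ ul : Spec (CommRingCat.of Ω) ⟶ U.left,
      ul = u.left ∧ ul ≫ U.hom = ζ ∧ ul default = p := ⟨u.left, rfl, Over.w u, hp⟩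
  constructor
  · intro h0 hmem
    have e2 : Φ.toPresheafFiber U u F.obj σ = Φ.toPresheafFiber U u F.obj 0 := by
      rw [map_zero]; exact h0
    obtain ⟨W, g, w, hw, hg⟩ := (Φ.toPresheafFiber_eq_iff' U u σ 0).mp e2
    rw [map_zero] at hg
    refine hmem W g ⟨(w.left : Spec (CommRingCat.of Ω) ⟶ W.left) (default : Spec (CommRingCat.of Ω)), ?_⟩ hg
    have e3 : w.left ≫ g.left = u.left := congrArg (fun m => m.left) hw
    rw [← hp]
    exact congrArg (fun m : Spec (CommRingCat.of Ω) ⟶ U.left => m default) e3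
  · intro hnot
    simp only [EtShriek.sectSupp, Set.mem_ofPred_eq, not_forall, not_not] at hnot
    obtain ⟨W', g, ⟨w, hw⟩, hg⟩ := hnot
    have hw' : g.left w = ul default := by rw [hw, hup]
    obtain ⟨l, hl1, hl2⟩ := Scheme.exists_fac_of_etale_of_isSepClosed g.left ul w hw'
    let w' : Φ.fiber.obj W' := Over.homMk l (by
      change l ≫ W'.hom = ζ
      have e1 : g.left ≫ U.hom = W'.hom := MorphismProperty.Over.w g
      rw [← e1, ← Category.assoc, hl1, huw])
    have hmap : Φ.fiber.map g w' = u := by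
      apply Over.OverMorphism.ext
      change l ≫ g.left = u.left
      rw [hl1, hul]
    change Φ.toPresheafFiber U u F.obj σ = 0
    rw [← hmap, ← Φ.toPresheafFiber_w_apply, hg, map_zero]

set_option backward.isDefEq.respectTransparency.types false in
/-- a section all of whose germs vanish is zero -/
lemma section_eq_zero_of_germs (G : EtCoh.Ab S) (V : S.Etale) (τ : G.obj.obj (op V))
    (h : ∀ (Ω : Type u) [Field Ω] [IsSepClosed Ω] (ζ : Spec (CommRingCat.of Ω) ⟶ S)
      (x : (Scheme.pointSmallEtale ζ).fiber.obj V), germ ζ G V x τ = 0) : τ = 0 := by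
  apply Groth.Agent.S0102.section_eq_zero_of_locally
  intro v
  obtain ⟨Ω, _, _, ζ, x₀, hx₀⟩ := exists_geometric_point V v
  have h0 := (germ_eq_zero_iff G ζ V x₀ τ v hx₀).mp (h Ω ζ x₀)
  simp only [EtShriek.sectSupp, Set.mem_ofPred_eq, not_forall, not_not] at h0
  obtain ⟨W', g, ⟨w, hw⟩, hg⟩ := h0
  exact ⟨W', g, w, hw, hg⟩

end Groth.Agent.Lib.Helper16.EtSupp
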