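import Mathlib
import Groth.Prelude.Def_W4c1famcyclesFFR

/-!
# Determinant of an endomorphism of a module with a finite free resolution (helper16)
-/

set_option autoImplicit false
set_option linter.style.haveILetI false
set_option linter.unusedSectionVars false

namespace Groth.Agent.Lib.Helper16FFRDet

open Polynomial

universe u

section Loc

variable {A : Type u} [CommRing A] (S : Submonoid A)
variable {M : Type u} [AddCommGroup M] [Module A M]

theorem map_exact' {M₀ M₁ M₂ : Type u} [AddCommGroup M₀] [Module A M₀] [AddCommGroup M₁]
    [Module A M₁] [AddCommGroup M₂] [Module A M₂] (g : M₀ →ₗ[A] M₁) (h : M₁ →ₗ[A] M₂)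
    (ex : Function.Exact g h) :
    Function.Exact (LocalizedModule.map S g) (LocalizedModule.map S h) := by
  intro y
  constructor
  · induction y using LocalizedModule.induction_on with
    | _ m s =>
      intro hy
      rw [LocalizedModule.map_mk, ← LocalizedModule.zero_mk 1, LocalizedModule.mk_eq] at hy
      obtain ⟨a, ha⟩ := hy
      rw [one_smul, smul_zero, smul_zero, Submonoid.smul_def, ← map_smul] at ha
      obtain ⟨x, hx⟩ := (ex ((a : A) • m)).1 ha
      refine ⟨LocalizedModule.mk x (a * s), ?_⟩
      rw [LocalizedModule.map_mk, hx, ← Submonoid.smul_def, LocalizedModule.mk_cancel_common_left]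
  · rintro ⟨x, rfl⟩
    induction x using LocalizedModule.induction_on with
    | _ m s =>
      rw [LocalizedModule.map_mk, LocalizedModule.map_mk, (ex (g m)).2 ⟨m, rfl⟩,
        LocalizedModule.zero_mk]

theorem map_comp'' {M₀ M₁ M₂ : Type u} [AddCommGroup M₀] [Module A M₀] [AddCommGroup M₁]
    [Module A M₁] [AddCommGroup M₂] [Module A M₂] (g : M₀ →ₗ[A] M₁) (h : M₁ →ₗ[A] M₂) :
    LocalizedModule.map S (h ∘ₗ g) = LocalizedModule.map S h ∘ₗ LocalizedModule.map S g := by
  apply LinearMap.ext
  intro x
  induction x using LocalizedModule.induction_on with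
  | _ m s =>
    rw [LinearMap.comp_apply, LocalizedModule.map_mk, LocalizedModule.map_mk,
      LocalizedModule.map_mk, LinearMap.comp_apply]

/-- localization of a free module is free -/
theorem free_localized [Module.Free A M] : Module.Free (Localization S) (LocalizedModule S M) :=
  Module.Free.of_basis ((Module.Free.chooseBasis A M).ofIsLocalizedModule (Localization S) S
    (LocalizedModule.mkLinearMap S M))

theorem charpoly_localized [Module.Free A M] [Module.Finite A M] (φ : M →ₗ[A] M) :
    haveI := free_localized S (M := M)
    (LocalizedModule.map S φ).charpoly = φ.charpoly.map (algebraMap A (Localization S)) := by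
  classical
  haveI := free_localized S (M := M)
  let b := Module.Free.chooseBasis A M
  let b' := b.ofIsLocalizedModule (Localization S) S (LocalizedModule.mkLinearMap S M)
  rw [← LinearMap.charpoly_toMatrix (LocalizedModule.map S φ) b', ← LinearMap.charpoly_toMatrix φ b,
    ← Matrix.charpoly_map]
  congr 1
  ext i j
  rw [LinearMap.toMatrix_apply, Matrix.map_apply, LinearMap.toMatrix_apply,
    Module.Basis.ofIsLocalizedModule_apply, LocalizedModule.mkLinearMap_apply,
    LocalizedModule.map_mk, ← LocalizedModule.mkLinearMap_apply,
    Module.Basis.ofIsLocalizedModule_repr_apply]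

theorem finrank_localized [Nontrivial (Localization S)] [Module.Free A M] [Module.Finite A M] :
    Module.finrank (Localization S) (LocalizedModule S M) = Module.finrank A M := by
  classical
  haveI : Nontrivial A := (algebraMap A (Localization S)).domain_nontrivial
  let b := Module.Free.chooseBasis A M
  let b' := b.ofIsLocalizedModule (Localization S) S (LocalizedModule.mkLinearMap S M)
  rw [Module.finrank_eq_card_basis b, Module.finrank_eq_card_basis b']

end Loc

section Exact

variable {R : Type*} [CommRing R] {K F M : Type*} [AddCommGroup K] [Module R K]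
  [AddCommGroup F] [Module R F] [AddCommGroup M] [Module R M]

/-- the splitting `K × M ≃ F` of a short exact sequence with projective cokernel -/
noncomputable def splitEquiv (ι : K →ₗ[R] F) (π : F →ₗ[R] M) (hι : Function.Injective ι)
    (hex : Function.Exact ι π) (s : M →ₗ[R] F) (hs : π ∘ₗ s = LinearMap.id) :
    (K × M) ≃ₗ[R] F :=
  LinearEquiv.ofBijective (ι.coprod s) (by
    have hs' : ∀ y, π (s y) = y := fun y => LinearMap.congr_fun hs y
    have hπι : ∀ x, π (ι x) = 0 := fun x => (hex (ι x)).2 ⟨x, rfl⟩
    constructor
    · rw [injective_iff_map_eq_zero]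
      rintro ⟨x, y⟩ h
      have h' : ι x + s y = 0 := h
      have hy : y = 0 := by
        have := congrArg π h'
        rw [map_add, hπι, hs', zero_add, map_zero] at this
        exact this
      subst hy
      rw [map_zero, add_zero] at h'
      have hx : x = 0 := hι (h'.trans (map_zero ι).symm)
      subst hx
      rfl
    · intro z
      have hz : π (z - s (π z)) = 0 := by rw [map_sub, hs', sub_self]
      obtain ⟨x, hx⟩ := (hex _).1 hz
      refine ⟨(x, π z), ?_⟩
      rw [LinearMap.coprod_apply, hx]
      abel)

theorem splitEquiv_apply (ι : K →ₗ[R] F) (π : F →ₗ[R] M) (hι : Function.Injective ι)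
    (hex : Function.Exact ι π) (s : M →ₗ[R] F) (hs : π ∘ₗ s = LinearMap.id) (v : K × M) :
    splitEquiv ι π hι hex s hs v = ι v.1 + s v.2 := rfl

variable [Module.Free R K] [Module.Finite R K] [Module.Free R F] [Module.Finite R F]
  [Module.Free R M] [Module.Finite R M]

theorem charpoly_mul_of_exact [Nontrivial R] (ι : K →ₗ[R] F) (π : F →ₗ[R] M) (hι : Function.Injective ι)
    (hπ : Function.Surjective π) (hex : Function.Exact ι π)
    (ψ : K →ₗ[R] K) (φ₀ : F →ₗ[R] F) (φ : M →ₗ[R] M)
    (h1 : ι ∘ₗ ψ = φ₀ ∘ₗ ι) (h2 : π ∘ₗ φ₀ = φ ∘ₗ π) :
    φ₀.charpoly = ψ.charpoly * φ.charpoly ∧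
      Module.finrank R F = Module.finrank R K + Module.finrank R M := by
  classical
  obtain ⟨s, hs⟩ := Module.projective_lifting_property π LinearMap.id hπ
  let e := splitEquiv ι π hι hex s hs
  have hs' : ∀ y, π (s y) = y := fun y => LinearMap.congr_fun hs y
  have hπι : ∀ x, π (ι x) = 0 := fun x => (hex (ι x)).2 ⟨x, rfl⟩
  have hπe : ∀ v, π (e v) = v.2 := fun v => by
    rw [splitEquiv_apply, map_add, hπι, hs', zero_add]
  let T : (K × M) →ₗ[R] (K × M) := e.symm.conj φ₀
  have hT : ∀ v, T v = e.symm (φ₀ (e v)) := fun v => by
    simp [T, LinearEquiv.conj_apply]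
  have hT2 : ∀ v, (T v).2 = φ v.2 := fun v => by
    rw [← hπe (T v), hT, LinearEquiv.apply_symm_apply]
    have := LinearMap.congr_fun h2 (e v)
    rw [LinearMap.comp_apply, LinearMap.comp_apply, hπe] at this
    exact this
  have hT1 : ∀ x : K, T (x, 0) = (ψ x, 0) := fun x => by
    rw [hT, LinearEquiv.symm_apply_eq, splitEquiv_apply, splitEquiv_apply]
    simp only [map_zero, add_zero]
    exact (LinearMap.congr_fun h1 x).symm
  refine ⟨?_, ?_⟩
  · have hc : T.charpoly = φ₀.charpoly := LinearEquiv.charpoly_conj e.symm φ₀
    rw [← hc]
    let bK := Module.Free.chooseBasis R K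
    let bM := Module.Free.chooseBasis R M
    have hbl : ∀ j, (bK.prod bM) (Sum.inl j) = (bK j, 0) := fun j => by
      rw [Module.Basis.prod_apply]; rfl
    have hbr : ∀ j, (bK.prod bM) (Sum.inr j) = (0, bM j) := fun j => by
      rw [Module.Basis.prod_apply]; rfl
    have hmat : LinearMap.toMatrix (bK.prod bM) (bK.prod bM) T =
        Matrix.fromBlocks (LinearMap.toMatrix bK bK ψ)
          (LinearMap.toMatrix (bK.prod bM) (bK.prod bM) T).toBlocks₁₂ 0
          (LinearMap.toMatrix bM bM φ) := by
      conv_lhs => rw [← Matrix.fromBlocks_toBlocks (LinearMap.toMatrix (bK.prod bM) (bK.prod bM) T)]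
      congr 1
      · ext i j
        rw [Matrix.toBlocks₁₁, Matrix.of_apply, LinearMap.toMatrix_apply, LinearMap.toMatrix_apply,
          hbl, Module.Basis.prod_repr_inl, hT1]
      · ext i j
        rw [Matrix.toBlocks₂₁, Matrix.of_apply, LinearMap.toMatrix_apply,
          hbl, Module.Basis.prod_repr_inr, hT1]
        simp
      · ext i j
        rw [Matrix.toBlocks₂₂, Matrix.of_apply, LinearMap.toMatrix_apply, LinearMap.toMatrix_apply,
          hbr, Module.Basis.prod_repr_inr, hT2]
    rw [← LinearMap.charpoly_toMatrix T (bK.prod bM), hmat, Matrix.charpoly_fromBlocks_zero₂₁,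
      LinearMap.charpoly_toMatrix, LinearMap.charpoly_toMatrix]
  · rw [← LinearEquiv.finrank_eq e, Module.finrank_prod]

end Exact

section Rvs

variable {R : Type*} [CommRing R] {M : Type*} [AddCommGroup M] [Module R M]
  [Module.Free R M] [Module.Finite R M]

/-- the reflected characteristic polynomial `det(1 - t f)` as a power series -/
noncomputable def rvs (f : M →ₗ[R] M) : PowerSeries R :=
  ((reflect (Module.finrank R M) f.charpoly : R[X]) : PowerSeries R)

theorem rvs_isUnit (f : M →ₗ[R] M) : IsUnit (rvs f) := by
  rcases subsingleton_or_nontrivial R with h | h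
  · exact isUnit_of_subsingleton _
  · rw [PowerSeries.isUnit_iff_constantCoeff]
    have : PowerSeries.constantCoeff (rvs f) = 1 := by
      unfold rvs
      rw [← PowerSeries.coeff_zero_eq_constantCoeff_apply, Polynomial.coeff_coe, coeff_reflect,
        revAt_le (Nat.zero_le _), Nat.sub_zero, ← LinearMap.charpoly_natDegree f,
        (LinearMap.charpoly_monic f).coeff_natDegree]
    rw [this]
    exact isUnit_one

theorem rvs_coeff_top [Nontrivial R] (f : M →ₗ[R] M) :
    PowerSeries.coeff (Module.finrank R M) (rvs f) = f.charpoly.coeff 0 := by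
  unfold rvs
  rw [Polynomial.coeff_coe, coeff_reflect, revAt_le le_rfl, Nat.sub_self]

end Rvs

section RvsLoc

variable {A : Type u} [CommRing A] (S : Submonoid A)
variable {M : Type u} [AddCommGroup M] [Module A M] [Module.Free A M] [Module.Finite A M]

theorem rvs_localized [Nontrivial (Localization S)] (φ : M →ₗ[A] M) :
    haveI := free_localized S (M := M)
    PowerSeries.map (algebraMap A (Localization S)) (rvs φ) = rvs (LocalizedModule.map S φ) := by
  haveI := free_localized S (M := M)
  unfold rvs
  rw [← Polynomial.polynomial_map_coe, ← reflect_map, charpoly_localized, finrank_localized]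

end RvsLoc

section Main

open FamCyc

variable {A : Type u} [CommRing A]

theorem ffr_finite : ∀ (n : ℕ) (M : Type u) [AddCommGroup M] [Module A M],
    HasFiniteFreeResolutionLE A n M → Module.Finite A M := by
  intro n
  induction n with
  | zero =>
    intro M _ _ h
    exact h.2
  | succ n _ =>
    intro M _ _ h
    obtain ⟨k, f, hf, -⟩ := h
    exact Module.Finite.of_surjective f hf

/-- the key existence statement -/
theorem exists_rho : ∀ (n : ℕ) (M : Type u) [AddCommGroup M] [Module A M] (φ : M →ₗ[A] M),
    HasFiniteFreeResolutionLE A n M →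
    ∃ (ρ : PowerSeries A) (r : ℕ), IsUnit ρ ∧
      ∀ (p : Ideal A) [p.IsPrime]
        [Module.Free (Localization.AtPrime p) (LocalizedModule p.primeCompl M)]
        [Module.Finite (Localization.AtPrime p) (LocalizedModule p.primeCompl M)],
        Module.finrank (Localization.AtPrime p) (LocalizedModule p.primeCompl M) = r ∧
        PowerSeries.map (algebraMap A (Localization.AtPrime p)) ρ =
          rvs (LocalizedModule.map p.primeCompl φ) := by
  intro n
  induction n with
  | zero =>
    intro M _ _ φ hM
    haveI := hM.1
    haveI := hM.2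
    refine ⟨rvs φ, Module.finrank A M, rvs_isUnit φ, ?_⟩
    intro p hp hfree hfin
    exact ⟨finrank_localized p.primeCompl, rvs_localized p.primeCompl φ⟩
  | succ n ih =>
    intro M _ _ φ hM
    obtain ⟨k, f, hf, hK⟩ := hM
    obtain ⟨φ₀, hφ₀⟩ := Module.projective_lifting_property f (φ ∘ₗ f) hf
    have hstab : ∀ x ∈ LinearMap.ker f, φ₀ x ∈ LinearMap.ker f := fun x hx => by
      rw [LinearMap.mem_ker] at hx ⊢
      have := LinearMap.congr_fun hφ₀ x
      rw [LinearMap.comp_apply, LinearMap.comp_apply] at this
      rw [this, hx, map_zero]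
    let ψ : LinearMap.ker f →ₗ[A] LinearMap.ker f := φ₀.restrict hstab
    obtain ⟨ρK, rK, hρK, hK'⟩ := ih (LinearMap.ker f) ψ hK
    haveI : Module.Finite A (LinearMap.ker f) := ffr_finite n _ hK
    refine ⟨rvs φ₀ * ↑(hρK.unit⁻¹), k - rK, (rvs_isUnit φ₀).mul (Units.isUnit _), ?_⟩
    intro p hp hfree hfin
    haveI : Nontrivial A := ⟨⟨0, 1, fun h => hp.ne_top ((Ideal.eq_top_iff_one p).mpr (h ▸ p.zero_mem))⟩⟩
    let ιp := LocalizedModule.map p.primeCompl (LinearMap.ker f).subtype
    let πp := LocalizedModule.map p.primeCompl f
    have hιp : Function.Injective ιp :=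
      LocalizedModule.map_injective _ _ (Submodule.injective_subtype _)
    have hπp : Function.Surjective πp := LocalizedModule.map_surjective _ _ hf
    have hexp : Function.Exact ιp πp := map_exact' _ _ _ (LinearMap.exact_subtype_ker_map f)
    haveI : Module.Free (Localization.AtPrime p) (LocalizedModule p.primeCompl (Fin k → A)) :=
      free_localized _
    -- `K_p` is free
    haveI : Module.Free (Localization.AtPrime p) (LocalizedModule p.primeCompl (LinearMap.ker f)) := by
      obtain ⟨s, hs⟩ := Module.projective_lifting_property πp LinearMap.id hπp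
      let e := splitEquiv (R := Localization.AtPrime p) (K := LocalizedModule p.primeCompl (LinearMap.ker f)) (F := LocalizedModule p.primeCompl (Fin k → A)) (M := LocalizedModule p.primeCompl M) ιp πp hιp hexp s hs
      haveI : Module.Projective (Localization.AtPrime p)
          (LocalizedModule p.primeCompl (LinearMap.ker f)) := by
        refine Module.Projective.of_split ιp
          ((LinearMap.fst _ _ _) ∘ₗ e.symm.toLinearMap) ?_
        apply LinearMap.ext
        intro x
        have : e.symm (ιp x) = (x, 0) := by
          rw [LinearEquiv.symm_apply_eq, splitEquiv_apply]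
          simp
        simp [this]
      exact Module.free_of_flat_of_isLocalRing (R := Localization.AtPrime p)
        (P := LocalizedModule p.primeCompl (LinearMap.ker f))
    obtain ⟨hrK, hρKp⟩ := hK' p
    have h1 : ιp ∘ₗ LocalizedModule.map p.primeCompl ψ =
        LocalizedModule.map p.primeCompl φ₀ ∘ₗ ιp := by
      rw [← map_comp'', ← map_comp'']
      congr 1
    have h2 : πp ∘ₗ LocalizedModule.map p.primeCompl φ₀ =
        LocalizedModule.map p.primeCompl φ ∘ₗ πp := by
      rw [← map_comp'', ← map_comp'', hφ₀]
    obtain ⟨hc, hr⟩ := charpoly_mul_of_exact (R := Localization.AtPrime p)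
      (K := LocalizedModule p.primeCompl (LinearMap.ker f))
      (F := LocalizedModule p.primeCompl (Fin k → A)) (M := LocalizedModule p.primeCompl M)
      ιp πp hιp hπp hexp _ _ _ h1 h2
    have hFk : Module.finrank (Localization.AtPrime p)
        (LocalizedModule p.primeCompl (Fin k → A)) = k := by
      rw [finrank_localized, Module.finrank_fin_fun]
    rw [hFk, hrK] at hr
    refine ⟨by omega, ?_⟩
    -- power series identity
    have hmul : rvs (R := Localization.AtPrime p) (M := LocalizedModule p.primeCompl (Fin k → A))
          (LocalizedModule.map p.primeCompl φ₀) =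
        rvs (R := Localization.AtPrime p) (M := LocalizedModule p.primeCompl (LinearMap.ker f))
          (LocalizedModule.map p.primeCompl ψ) *
        rvs (R := Localization.AtPrime p) (M := LocalizedModule p.primeCompl M)
          (LocalizedModule.map p.primeCompl φ) := by
      unfold rvs
      rw [hc, ← Polynomial.coe_mul, hFk, hrK]
      congr 1
      have hr' : k = rK + Module.finrank (Localization.AtPrime p)
          (LocalizedModule p.primeCompl M) := hr
      have key : ∀ N : ℕ, N = rK + Module.finrank (Localization.AtPrime p)
          (LocalizedModule p.primeCompl M) →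
          reflect N ((LinearMap.charpoly (R := Localization.AtPrime p)
              (M := LocalizedModule p.primeCompl (LinearMap.ker f))
              (LocalizedModule.map p.primeCompl ψ)) *
            (LinearMap.charpoly (R := Localization.AtPrime p)
              (M := LocalizedModule p.primeCompl M) (LocalizedModule.map p.primeCompl φ))) =
          reflect rK (LinearMap.charpoly (R := Localization.AtPrime p)
              (M := LocalizedModule p.primeCompl (LinearMap.ker f))
              (LocalizedModule.map p.primeCompl ψ)) *
            reflect (Module.finrank (Localization.AtPrime p) (LocalizedModule p.primeCompl M))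
              (LinearMap.charpoly (R := Localization.AtPrime p)
              (M := LocalizedModule p.primeCompl M) (LocalizedModule.map p.primeCompl φ)) := by
        intro N hN
        subst hN
        refine reflect_mul _ _ ?_ ?_
        · rw [LinearMap.charpoly_natDegree, hrK]
        · rw [LinearMap.charpoly_natDegree]
      exact key k hr'
    have hρ : (rvs φ₀ * ↑(hρK.unit⁻¹)) * ρK = rvs φ₀ := by
      have : ρK = ↑hρK.unit := hρK.unit_spec.symm
      rw [mul_assoc]
      nth_rewrite 2 [this]
      rw [Units.inv_mul, mul_one]
    have hmap := congrArg (PowerSeries.map (algebraMap A (Localization.AtPrime p))) hρ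
    rw [map_mul, hρKp, rvs_localized, hmul, mul_comm] at hmap
    exact (rvs_isUnit _).mul_left_cancel hmap

end Main

section Depth

open TensorProduct IsLocalRing

variable {R : Type*} [CommRing R] [IsLocalRing R]

theorem one_tmul_eq_zero_iff {M : Type*} [AddCommGroup M] [Module R M] (x : M) :
    ((1 : ResidueField R) ⊗ₜ[R] x = 0) ↔ x ∈ (maximalIdeal R) • (⊤ : Submodule R M) := by
  have h := TensorProduct.quotTensorEquivQuotSMul_mk_one_tmul (M := M) (maximalIdeal R) x
  constructor
  · intro hx
    have h0 : (TensorProduct.quotTensorEquivQuotSMul M (maximalIdeal R))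
        ((1 : R ⧸ maximalIdeal R) ⊗ₜ[R] x) = 0 := by
      have : ((1 : R ⧸ maximalIdeal R) ⊗ₜ[R] x) = 0 := hx
      rw [this, map_zero]
    rw [h, Submodule.Quotient.mk_eq_zero] at h0
    exact h0
  · intro hx
    have h0 : (TensorProduct.quotTensorEquivQuotSMul M (maximalIdeal R))
        ((1 : R ⧸ maximalIdeal R) ⊗ₜ[R] x) = 0 := by
      rw [h, Submodule.Quotient.mk_eq_zero]
      exact hx
    exact (LinearEquiv.map_eq_zero_iff _).mp h0

theorem lTensor_injective_of_depth_zero (s : R) (hs : s ≠ 0)
    (hms : ∀ x ∈ maximalIdeal R, x * s = 0)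
    {K F : Type*} [AddCommGroup K] [Module R K] [Module.Free R K]
    [AddCommGroup F] [Module R F] (ι : K →ₗ[R] F) (hι : Function.Injective ι) :
    Function.Injective (ι.lTensor (ResidueField R)) := by
  rw [injective_iff_map_eq_zero]
  intro z hz
  obtain ⟨v, rfl⟩ := TensorProduct.mk_surjective R K (ResidueField R) residue_surjective z
  rw [TensorProduct.mk_apply] at hz ⊢
  rw [LinearMap.lTensor_tmul, one_tmul_eq_zero_iff] at hz
  rw [one_tmul_eq_zero_iff]
  -- `s • ι v = 0`
  have h1 : s • ι v = 0 := by
    refine Submodule.smul_induction_on hz ?_ ?_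
    · intro r hr w _
      rw [smul_smul, mul_comm, hms r hr, zero_smul]
    · intro a b ha hb
      rw [smul_add, ha, hb, add_zero]
  have h2 : s • v = 0 := hι (by rw [map_smul, h1, map_zero])
  let b := Module.Free.chooseBasis R K
  have h3 : ∀ i, b.repr v i ∈ maximalIdeal R := by
    intro i
    by_contra hi
    rw [mem_maximalIdeal, mem_nonunits_iff, not_not] at hi
    have h4 : s * b.repr v i = 0 := by
      have := congrArg (fun w => b.repr w i) h2
      simpa using this
    exact hs (hi.mul_left_eq_zero.mp h4)
  rw [← b.linearCombination_repr v, Finsupp.linearCombination_apply, Finsupp.sum]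
  refine Submodule.sum_mem _ (fun i _ => ?_)
  exact Submodule.smul_mem_smul (h3 i) Submodule.mem_top

end Depth

section Assoc

open FamCyc IsLocalRing

variable {A : Type u} [CommRing A]

theorem free_at_assoc : ∀ (n : ℕ) (M : Type u) [AddCommGroup M] [Module A M],
    HasFiniteFreeResolutionLE A n M → ∀ (P : Ideal A) [P.IsPrime] (y : A),
      P = (⊥ : Submodule A A).colon {y} →
      Module.Free (Localization.AtPrime P) (LocalizedModule P.primeCompl M) := by
  intro n
  induction n with
  | zero =>
    intro M _ _ hM P _ y _
    haveI := hM.1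
    exact free_localized _
  | succ n ih =>
    intro M _ _ hM P hP y hy
    obtain ⟨k, f, hf, hK⟩ := hM
    haveI : Module.Finite A (LinearMap.ker f) := ffr_finite n _ hK
    haveI : Module.Free (Localization.AtPrime P) (LocalizedModule P.primeCompl (LinearMap.ker f)) :=
      ih _ hK P y hy
    haveI : Module.Free (Localization.AtPrime P) (LocalizedModule P.primeCompl (Fin k → A)) :=
      free_localized _
    let ιp : LocalizedModule P.primeCompl (LinearMap.ker f) →ₗ[Localization.AtPrime P]
        LocalizedModule P.primeCompl (Fin k → A) :=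
      LocalizedModule.map P.primeCompl (LinearMap.ker f).subtype
    let πp : LocalizedModule P.primeCompl (Fin k → A) →ₗ[Localization.AtPrime P]
        LocalizedModule P.primeCompl M := LocalizedModule.map P.primeCompl f
    have hιp : Function.Injective ιp :=
      LocalizedModule.map_injective _ _ (Submodule.injective_subtype _)
    have hπp : Function.Surjective πp := LocalizedModule.map_surjective _ _ hf
    have hexp : Function.Exact ιp πp := map_exact' _ _ _ (LinearMap.exact_subtype_ker_map f)
    -- the depth zero element
    have hmem : ∀ a : A, a ∈ P ↔ a * y = 0 := fun a => by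
      rw [hy, Submodule.mem_colon_singleton, Submodule.mem_bot, smul_eq_mul]
    have hs : algebraMap A (Localization.AtPrime P) y ≠ 0 := by
      intro h0
      rw [IsLocalization.map_eq_zero_iff P.primeCompl] at h0
      obtain ⟨t, ht⟩ := h0
      exact t.2 ((hmem _).mpr ht)
    have hms : ∀ x ∈ maximalIdeal (Localization.AtPrime P),
        x * algebraMap A (Localization.AtPrime P) y = 0 := by
      intro x hx
      obtain ⟨a, t, rfl⟩ := IsLocalization.exists_mk'_eq P.primeCompl x
      rw [IsLocalization.AtPrime.mk'_mem_maximal_iff (Localization.AtPrime P) P] at hx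
      rw [hmem] at hx
      rw [← IsLocalization.mk'_one (M := P.primeCompl) (Localization.AtPrime P) y,
        ← IsLocalization.mk'_mul, hx, IsLocalization.mk'_zero]
    have hinj := lTensor_injective_of_depth_zero (R := Localization.AtPrime P)
      (K := LocalizedModule P.primeCompl (LinearMap.ker f))
      (F := LocalizedModule P.primeCompl (Fin k → A)) _ hs hms ιp hιp
    exact Module.free_of_lTensor_residueField_injective (R := Localization.AtPrime P)
      (M := LocalizedModule P.primeCompl (LinearMap.ker f))
      (N := LocalizedModule P.primeCompl (Fin k → A))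
      (P := LocalizedModule P.primeCompl M) ιp πp hπp hexp hinj

end Assoc

section Final

open FamCyc

variable {A : Type u} [CommRing A]

theorem existsUnique_det [IsNoetherianRing A]
    (M : Type u) [AddCommGroup M] [Module A M] (n : ℕ) (hM : HasFiniteFreeResolutionLE A n M)
    (φ : M →ₗ[A] M) :
    ∃! a : A, ∀ (p : Ideal A) [p.IsPrime],
      Module.Free (Localization.AtPrime p) (LocalizedModule p.primeCompl M) →
        algebraMap A (Localization.AtPrime p) a =
          LinearMap.det (LocalizedModule.map p.primeCompl φ) := by
  haveI : Module.Finite A M := ffr_finite n M hM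
  obtain ⟨ρ, r, -, hρ⟩ := exists_rho n M φ hM
  refine ⟨(-1) ^ r * PowerSeries.coeff r ρ, ?_, ?_⟩
  · intro p hp hfree
    haveI := hfree
    obtain ⟨hr, hmap⟩ := hρ p
    rw [LinearMap.det_eq_sign_charpoly_coeff, ← rvs_coeff_top, ← hmap, hr, PowerSeries.coeff_map,
      map_mul, map_pow, map_neg, map_one]
  · intro a' ha'
    by_contra hne
    have hd : a' - (-1) ^ r * PowerSeries.coeff r ρ ≠ 0 := sub_ne_zero.mpr hne
    obtain ⟨P, hP, hle⟩ := exists_le_isAssociatedPrime_of_isNoetherianRing A
      (a' - (-1) ^ r * PowerSeries.coeff r ρ) hd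
    rw [isAssociatedPrime_iff] at hP
    obtain ⟨hPp, y, hy⟩ := hP
    haveI := hPp
    have hfree := free_at_assoc n M hM P y hy
    haveI := hfree
    have e1 := ha' P hfree
    have e2 : algebraMap A (Localization.AtPrime P) ((-1) ^ r * PowerSeries.coeff r ρ) =
        LinearMap.det (LocalizedModule.map P.primeCompl φ) := by
      obtain ⟨hr, hmap⟩ := hρ P
      rw [LinearMap.det_eq_sign_charpoly_coeff, ← rvs_coeff_top, ← hmap, hr, PowerSeries.coeff_map,
        map_mul, map_pow, map_neg, map_one]
    have e3 : algebraMap A (Localization.AtPrime P) (a' - (-1) ^ r * PowerSeries.coeff r ρ) = 0 := by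
      rw [map_sub, e1, e2, sub_self]
    rw [IsLocalization.map_eq_zero_iff P.primeCompl] at e3
    obtain ⟨t, ht⟩ := e3
    have : (t : A) ∈ P := by
      apply hle
      rw [Submodule.mem_colon_singleton, Submodule.mem_bot, smul_eq_mul]
      exact ht
    exact t.2 this

end Final

end Groth.Agent.Lib.Helper16FFRDet
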