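import Groth.Agent.Lib.Helper16Flat
import Mathlib.Algebra.Module.FinitePresentation
import Mathlib.RingTheory.Flat.EquationalCriterion

/-!
# Finite presentation / finite projective modules along a glueing pair (helper16)
-/

set_option autoImplicit false
set_option linter.style.haveILetI false
universe u

namespace Groth.Agent.Lib.Helper16

open TensorProduct

section

variable {R : Type u} [CommRing R]

/-- if `M` is flat and `S ⊗ M` is finitely presented over `S`, then for a surjection
`π : F → M` from a finite module, `S ⊗ ker π` is a finite `S`-module. -/
theorem finite_baseChange_ker (S : Type u) [CommRing S] [Algebra R S] {F M : Type u}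
    [AddCommGroup F] [Module R F] [Module.Finite R F] [AddCommGroup M] [Module R M]
    [Module.Flat R M] [Module.FinitePresentation S (S ⊗[R] M)]
    (π : F →ₗ[R] M) (hπ : Function.Surjective π) :
    Module.Finite S (S ⊗[R] LinearMap.ker π) := by
  let ιb : S ⊗[R] LinearMap.ker π →ₗ[S] S ⊗[R] F := (LinearMap.ker π).subtype.baseChange S
  let πb : S ⊗[R] F →ₗ[S] S ⊗[R] M := π.baseChange S
  have hinj : Function.Injective ιb :=
    LinearMap.lTensor_injective_of_exact_of_flat π hπ (LinearMap.ker π).subtype
      (LinearMap.ker π).subtype_injective (LinearMap.exact_subtype_ker_map π) S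
  have hsurj : Function.Surjective πb := LinearMap.lTensor_surjective S hπ
  have hex : Function.Exact ιb πb :=
    lTensor_exact S (LinearMap.exact_subtype_ker_map π) hπ
  have hfg : (LinearMap.ker πb).FG := Module.FinitePresentation.fg_ker πb hsurj
  have hrange : LinearMap.range ιb = LinearMap.ker πb := (LinearMap.exact_iff.mp hex).symm
  haveI : Module.Finite S (LinearMap.range ιb) := by
    rw [Module.Finite.iff_fg, hrange]
    exact hfg
  exact Module.Finite.equiv (LinearEquiv.ofInjective ιb hinj).symm

end

section Glue

variable {R R' : Type u} [CommRing R] [CommRing R'] [Algebra R R'] {f : R}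
variable {M : Type u} [AddCommGroup M] [Module R M]

/-- finite presentation glues (for flat modules) along a pair with `R/fⁿ ≅ R'/fⁿ` -/
theorem finitePresentation_of_loc_of_tensor (hq : EtGlue.QuotPowBijective R R' f)
    [Module.Flat R M] [Module.FinitePresentation R' (R' ⊗[R] M)]
    [Module.FinitePresentation (Localization.Away f) (LocalizedModule (Submonoid.powers f) M)] :
    Module.FinitePresentation R M := by
  haveI : Module.Finite R M := module_finite_of_loc_of_tensor hq M
  obtain ⟨n, π, hπ⟩ := Module.Finite.exists_fin' R M
  haveI : Module.Finite R' (R' ⊗[R] LinearMap.ker π) := finite_baseChange_ker R' π hπ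
  haveI : Module.FinitePresentation (Localization.Away f) (Localization.Away f ⊗[R] M) :=
    Module.FinitePresentation.of_equiv
      (LocalizedModule.equivTensorProduct (Submonoid.powers f) M)
  haveI : Module.Finite (Localization.Away f) (Localization.Away f ⊗[R] LinearMap.ker π) :=
    finite_baseChange_ker (Localization.Away f) π hπ
  haveI : Module.Finite (Localization.Away f)
      (LocalizedModule (Submonoid.powers f) (LinearMap.ker π)) :=
    Module.Finite.equiv
      (LocalizedModule.equivTensorProduct (Submonoid.powers f) (LinearMap.ker π)).symm
  haveI : Module.Finite R (LinearMap.ker π) := module_finite_of_loc_of_tensor hq _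
  exact Module.finitePresentation_of_surjective π hπ (Module.Finite.iff_fg.mp inferInstance)

/-- finite projective modules glue along a glueing pair -/
theorem finite_projective_of_glueingPair (h : EtGlue.IsGlueingPair R R' f)
    [Module.Finite R' (R' ⊗[R] M)] [Module.Projective R' (R' ⊗[R] M)]
    [Module.Finite (Localization.Away f) (LocalizedModule (Submonoid.powers f) M)]
    [Module.Projective (Localization.Away f) (LocalizedModule (Submonoid.powers f) M)] :
    Module.Finite R M ∧ Module.Projective R M := by
  haveI : Module.Flat R M := flat_of_glueingPair h
  haveI : Module.FinitePresentation R' (R' ⊗[R] M) := Module.finitePresentation_of_projective _ _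
  haveI : Module.FinitePresentation (Localization.Away f)
      (LocalizedModule (Submonoid.powers f) M) := Module.finitePresentation_of_projective _ _
  haveI : Module.FinitePresentation R M := finitePresentation_of_loc_of_tensor h.1
  exact ⟨inferInstance, Module.Flat.projective_of_finitePresentation⟩

end Glue

end Groth.Agent.Lib.Helper16
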