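import Mathlib

/-!
# The category of finitely presented modules (helper16)

Basic structure on `FP A`, the full subcategory of `ModuleCat A` of finitely presented modules:
zero object, binary biproducts, free objects and their coordinate maps, elements as maps from `A`,
and consequences for functors preserving finite colimits (additivity, epis, joint epimorphicity).
-/

set_option autoImplicit false
set_option linter.style.haveILetI false
set_option linter.unusedSectionVars false
universe u v' u'
open CategoryTheory CategoryTheory.Limits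

namespace Groth.Agent.Lib.Helper16.FPMod

variable (A : Type u) [CommRing A]

/-- the property of being finitely presented. -/
abbrev PFP : ObjectProperty (ModuleCat.{u} A) := fun M => Module.FinitePresentation A M

/-- the category of finitely presented modules. -/
abbrev FP := (PFP A).FullSubcategory

instance : (PFP A).ContainsZero where
  exists_zero := ⟨ModuleCat.of A PUnit.{u+1}, ModuleCat.isZero_of_subsingleton _,
    (inferInstance : Module.FinitePresentation A PUnit.{u+1})⟩

example : HasZeroObject (FP A) := inferInstance

variable {A}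

/-- the biproduct bicone in `FP A`. -/
noncomputable def bicone (X Y : FP A) : BinaryBicone X Y where
  pt := ⟨X.obj ⊞ Y.obj, by
    haveI : Module.FinitePresentation A X.obj := X.property
    haveI : Module.FinitePresentation A Y.obj := Y.property
    exact Module.FinitePresentation.of_equiv (ModuleCat.biprodIsoProd X.obj Y.obj).symm.toLinearEquiv⟩
  fst := ObjectProperty.homMk biprod.fst
  snd := ObjectProperty.homMk biprod.snd
  inl := ObjectProperty.homMk biprod.inl
  inr := ObjectProperty.homMk biprod.inr
  inl_fst := by ext : 1; simp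
  inl_snd := by ext : 1; simp
  inr_fst := by ext : 1; simp
  inr_snd := by ext : 1; simp

instance : HasBinaryBiproducts (FP A) where
  has_binary_biproduct X Y := HasBinaryBiproduct.mk
    ⟨bicone X Y, isBinaryBilimitOfTotal _ (by
      apply ObjectProperty.hom_ext
      change biprod.fst ≫ biprod.inl + biprod.snd ≫ biprod.inr = 𝟙 _
      exact biprod.total)⟩

variable (A) in
/-- the ring as a finitely presented module. -/
abbrev one : FP A := ⟨ModuleCat.of A A, inferInstance⟩

variable (A) in
/-- the free module `A^n`. -/
abbrev fr (n : ℕ) : FP A := ⟨ModuleCat.of A (Fin n → A), inferInstance⟩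

/-- an element of `M` as a map `A ⟶ M`. -/
noncomputable def elt {M : FP A} (x : M.obj) : one A ⟶ M :=
  ObjectProperty.homMk (ModuleCat.ofHom (LinearMap.toSpanSingleton A M.obj x))

/-- multiplication by `a`. -/
noncomputable def mulA (a : A) : one A ⟶ one A :=
  ObjectProperty.homMk (ModuleCat.ofHom (LinearMap.lsmul A A a))

/-- coordinate projection. -/
noncomputable def proj {n : ℕ} (j : Fin n) : fr A n ⟶ one A :=
  ObjectProperty.homMk (ModuleCat.ofHom (LinearMap.proj (R := A) (φ := fun _ : Fin n => A) j))

/-- coordinate inclusion. -/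
noncomputable def inj {n : ℕ} (j : Fin n) : one A ⟶ fr A n :=
  ObjectProperty.homMk (ModuleCat.ofHom (LinearMap.single A (fun _ : Fin n => A) j))

lemma hom_ext' {M N : FP A} {f g : M ⟶ N} (h : ∀ x : M.obj, f.hom x = g.hom x) : f = g := by
  apply ObjectProperty.hom_ext
  exact ModuleCat.hom_ext (LinearMap.ext h)

@[simp] lemma elt_apply {M : FP A} (x : M.obj) (a : A) : (elt x).hom a = a • x := rfl

@[simp] lemma mulA_apply (a b : A) : (mulA a).hom b = a * b := rfl

@[simp] lemma proj_apply {n : ℕ} (j : Fin n) (c : Fin n → A) : (proj j).hom c = c j := rfl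

@[simp] lemma inj_apply {n : ℕ} (j : Fin n) (a : A) :
    (inj (A := A) j).hom a = Pi.single j a := rfl

lemma comp_apply' {M N P : FP A} (f : M ⟶ N) (g : N ⟶ P) (x : M.obj) :
    (f ≫ g).hom x = g.hom (f.hom x) := rfl

lemma add_apply' {M N : FP A} (f g : M ⟶ N) (x : M.obj) :
    (f + g).hom x = f.hom x + g.hom x := rfl

lemma elt_one : elt (M := one A) (1 : A) = 𝟙 (one A) := by
  apply hom_ext'
  intro a
  change a • (1 : A) = a
  simp

lemma elt_comp {M N : FP A} (x : M.obj) (g : M ⟶ N) : elt x ≫ g = elt (g.hom x) := by
  apply hom_ext'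
  intro a
  change g.hom (a • x) = a • g.hom x
  exact map_smul g.hom.hom a x

lemma mulA_comp_elt {M : FP A} (a : A) (x : M.obj) : mulA a ≫ elt x = elt (a • x) := by
  apply hom_ext'
  intro b
  change (a * b) • x = b • a • x
  rw [mul_comm, mul_smul]

lemma elt_add {M : FP A} (x y : M.obj) : elt (x + y) = elt x + elt y := by
  apply hom_ext'
  intro a
  change a • (x + y) = a • x + a • y
  exact smul_add a x y

lemma elt_zero {M : FP A} : elt (0 : M.obj) = 0 := by
  apply hom_ext'
  intro a
  change a • (0 : M.obj) = 0
  exact smul_zero a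

lemma inj_eq_elt {n : ℕ} (j : Fin n) : inj (A := A) j = elt (M := fr A n) (Pi.single j 1) := by
  apply hom_ext'
  intro a
  change Pi.single j a = a • Pi.single j (1 : A)
  ext k
  by_cases h : k = j
  · subst h; simp
  · simp [Pi.single_eq_of_ne h]

lemma sum_apply' {M N : FP A} {ι : Type*} (t : Finset ι) (f : ι → (M ⟶ N)) (x : M.obj) :
    (∑ j ∈ t, f j).hom x = ∑ j ∈ t, (f j).hom x := by
  classical
  induction t using Finset.induction_on with
  | empty => simp
  | insert a t ha ih =>
    rw [Finset.sum_insert ha, Finset.sum_insert ha, add_apply', ih]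

lemma sum_proj_inj (n : ℕ) : ∑ j : Fin n, proj (A := A) j ≫ inj j = 𝟙 (fr A n) := by
  apply hom_ext'
  intro c
  rw [sum_apply']
  change ∑ j : Fin n, Pi.single j (c j) = c
  exact Finset.univ_sum_single c

/-- every finitely presented module is a quotient of some `A^n`. -/
lemma exists_surj (M : FP A) : ∃ (n : ℕ) (π : fr A n ⟶ M), Function.Surjective π.hom := by
  haveI : Module.FinitePresentation A M.obj := M.property
  obtain ⟨n, m, f, g, hf, -⟩ := Module.FinitePresentation.exists_fin' A M.obj
  exact ⟨n, ObjectProperty.homMk (ModuleCat.ofHom f), hf⟩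

/-- every finitely presented module has a finite free presentation. -/
lemma exists_pres (M : FP A) : ∃ (n m : ℕ) (R : fr A m ⟶ fr A n) (π : fr A n ⟶ M),
    Function.Surjective π.hom ∧ Function.Exact R.hom π.hom := by
  haveI : Module.FinitePresentation A M.obj := M.property
  obtain ⟨n, m, f, g, hf, hfg⟩ := Module.FinitePresentation.exists_fin' A M.obj
  exact ⟨n, m, ObjectProperty.homMk (ModuleCat.ofHom g), ObjectProperty.homMk (ModuleCat.ofHom f),
    hf, hfg⟩

/-- a right exact sequence in `FP A` gives a cokernel cofork. -/
lemma comp_eq_zero_of_exact {M N P : FP A} (f : M ⟶ N) (g : N ⟶ P)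
    (h : Function.Exact f.hom g.hom) : f ≫ g = 0 := by
  apply hom_ext'
  intro x
  exact h.apply_apply_eq_zero x

/-- a right exact sequence in `FP A` gives a colimit cokernel cofork. -/
noncomputable def isColimitOfExact {M N P : FP A} (f : M ⟶ N) (g : N ⟶ P)
    (hg : Function.Surjective g.hom) (h : Function.Exact f.hom g.hom) :
    IsColimit (CokernelCofork.ofπ g (comp_eq_zero_of_exact f g h)) := by
  let S : ShortComplex (ModuleCat.{u} A) := ShortComplex.mk f.hom g.hom
    (congrArg (fun t => t.hom) (comp_eq_zero_of_exact f g h))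
  have hS : S.Exact := (ShortComplex.ShortExact.moduleCat_exact_iff_function_exact S).2 h
  haveI : Epi S.g := (ModuleCat.epi_iff_surjective _).2 hg
  have hc : IsColimit (CokernelCofork.ofπ S.g S.zero) := hS.gIsCokernel
  apply isColimitOfReflects (PFP A).ι
  exact (CokernelCofork.isColimitMapCoconeEquiv _ _).symm hc

section Functor

variable {B : Type u'} [Category.{v'} B] [Preadditive B] [HasFiniteBiproducts B]
  (F : FP A ⥤ B) [PreservesFiniteColimits F]

lemma additive_of_pfc : F.Additive := by
  haveI : HasZeroObject B := hasZeroObject_of_hasFiniteBiproducts B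
  haveI : F.PreservesZeroMorphisms := Functor.preservesZeroMorphisms_of_preserves_initial_object
  haveI := preservesBinaryBiproducts_of_preservesBinaryCoproducts F
  exact Functor.additive_of_preservesBinaryBiproducts F

lemma epi_map_of_surjective {M N : FP A} (π : M ⟶ N) (hπ : Function.Surjective π.hom) :
    Epi (F.map π) := by
  haveI : Epi ((PFP A).ι.map π) := (ModuleCat.epi_iff_surjective _).2 hπ
  haveI : Epi π := (PFP A).ι.epi_of_epi_map inferInstance
  infer_instance

/-- the maps `F(x̂) : F(A) ⟶ F(M)` are jointly epimorphic. -/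
lemma jointly_epi (M : FP A) {Y : B} (s s' : F.obj M ⟶ Y)
    (h : ∀ x : M.obj, F.map (elt x) ≫ s = F.map (elt x) ≫ s') : s = s' := by
  haveI := additive_of_pfc F
  obtain ⟨n, π, hπ⟩ := exists_surj M
  haveI := epi_map_of_surjective F π hπ
  rw [← cancel_epi (F.map π)]
  have key : ∀ t : F.obj M ⟶ Y, F.map π ≫ t =
      ∑ j : Fin n, F.map (proj j) ≫ F.map (elt (π.hom (Pi.single j 1))) ≫ t := by
    intro t
    have h1 : F.map (𝟙 (fr A n)) ≫ F.map π ≫ t = F.map π ≫ t := by
      rw [F.map_id, Category.id_comp]
    rw [← h1, ← sum_proj_inj, Functor.map_sum, Preadditive.sum_comp]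
    refine Finset.sum_congr rfl (fun j _ => ?_)
    rw [F.map_comp, Category.assoc, ← F.map_comp_assoc (inj j) π, inj_eq_elt, elt_comp]
  rw [key s, key s']
  refine Finset.sum_congr rfl (fun j _ => ?_)
  rw [h]

end Functor

end Groth.Agent.Lib.Helper16.FPMod
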