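import Mathlib

set_option autoImplicit false
set_option linter.style.haveILetI false
set_option linter.unusedSectionVars false

universe u v

open TensorProduct

namespace Groth.Agent.Lib.Helper16.FlatExt

section criterion

variable {A : Type u} [CommRing A] {M : Type v} [AddCommGroup M] [Module A M]

/-- If `M` is flat and `IM ∩ N ⊆ IN` for all f.g. ideals `I`, then `M/N` is flat. -/
theorem flat_quotient_of_inter_le [Module.Flat A M] (N : Submodule A M)
    (h : ∀ I : Ideal A, I.FG → (I • (⊤ : Submodule A M)) ⊓ N ≤ I • N) :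
    Module.Flat A (M ⧸ N) := by
  rw [Module.Flat.iff_lift_lsmul_comp_subtype_injective]
  intro I hI
  rw [injective_iff_map_eq_zero]
  intro tb htb
  -- lift tb to I ⊗ M
  obtain ⟨t, rfl⟩ := LinearMap.lTensor_surjective I N.mkQ_surjective tb
  set μM : I ⊗[A] M →ₗ[A] M := TensorProduct.lift ((LinearMap.lsmul A M).comp I.subtype) with hμM
  set μQ : I ⊗[A] (M ⧸ N) →ₗ[A] (M ⧸ N) :=
    TensorProduct.lift ((LinearMap.lsmul A (M ⧸ N)).comp I.subtype) with hμQ
  have hcomm : ∀ t : I ⊗[A] M, μQ (LinearMap.lTensor I N.mkQ t) = N.mkQ (μM t) := by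
    intro t
    induction t using TensorProduct.induction_on with
    | zero => simp
    | tmul i m => simp [hμQ, hμM]
    | add x y hx hy => simp only [map_add, hx, hy]
  have h1 : μM t ∈ N := by
    have := hcomm t
    rw [htb] at this
    exact (Submodule.Quotient.mk_eq_zero N).mp this.symm
  have h2 : ∀ t : I ⊗[A] M, μM t ∈ I • (⊤ : Submodule A M) := by
    intro t
    induction t using TensorProduct.induction_on with
    | zero => simp
    | tmul i m =>
      simp only [hμM, TensorProduct.lift.tmul, LinearMap.coe_comp, Function.comp_apply,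
        Submodule.subtype_apply, LinearMap.lsmul_apply]
      exact Submodule.smul_mem_smul i.2 trivial
    | add x y hx hy => rw [map_add]; exact Submodule.add_mem _ hx hy
  have h3 : μM t ∈ I • N := h I hI ⟨h2 t, h1⟩
  -- find t' in I ⊗ N
  have h4 : ∀ x ∈ I • N, ∃ t' : I ⊗[A] N, μM (LinearMap.lTensor I N.subtype t') = x := by
    intro x hx
    induction hx using Submodule.smul_induction_on' with
    | smul r hr n hn =>
      exact ⟨(⟨r, hr⟩ : I) ⊗ₜ (⟨n, hn⟩ : N), by simp [hμM]⟩
    | add x hx y hy ihx ihy =>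
      obtain ⟨t1, ht1⟩ := ihx
      obtain ⟨t2, ht2⟩ := ihy
      exact ⟨t1 + t2, by simp [ht1, ht2]⟩
  obtain ⟨t', ht'⟩ := h4 _ h3
  have hinj : Function.Injective μM :=
    Module.Flat.iff_lift_lsmul_comp_subtype_injective.mp inferInstance hI
  have : t = LinearMap.lTensor I N.subtype t' := (hinj ht').symm
  rw [this, ← LinearMap.lTensor_comp_apply]
  have : N.mkQ ∘ₗ N.subtype = 0 := by
    ext n; simp
  rw [this, LinearMap.lTensor_zero, LinearMap.zero_apply]

end criterion

section poly

open Polynomial

variable {S : Type u} [CommRing S]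

/-- A monic polynomial is a nonzerodivisor modulo `𝔟[T]` for any ideal `𝔟` of the coefficients. -/
theorem mem_map_C_of_monic_mul_mem (b : Ideal S) (g h : S[X]) (hg : g.Monic)
    (hh : h * g ∈ Ideal.map (C : S →+* S[X]) b) : h ∈ Ideal.map (C : S →+* S[X]) b := by
  rw [Ideal.mem_map_C_iff] at hh ⊢
  have h1 : (h * g).map (Ideal.Quotient.mk b) = 0 := by
    ext n
    simp only [coeff_map, coeff_zero]
    exact Ideal.Quotient.eq_zero_iff_mem.mpr (hh n)
  rw [Polynomial.map_mul] at h1
  have h2 : (g.map (Ideal.Quotient.mk b)).Monic := hg.map _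
  have h3 : h.map (Ideal.Quotient.mk b) = 0 := by
    by_contra hne
    have := h2.mul_left_ne_zero hne
    exact this h1
  intro n
  have := congrArg (fun p => p.coeff n) h3
  simp only [coeff_map, coeff_zero] at this
  exact Ideal.Quotient.eq_zero_iff_mem.mp this

end poly

section mv

open MvPolynomial

variable (A : Type u) [CommRing A] {σ : Type u} [LinearOrder σ]

/-- inclusion of polynomials in the variables `< a`. -/
noncomputable def inc (a : σ) : MvPolynomial {b : σ // b < a} A →ₐ[A] MvPolynomial σ A :=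
  rename Subtype.val

/-- `S_a[T] → P`, `T ↦ X_a`. -/
noncomputable def theta (a : σ) :
    Polynomial (MvPolynomial {b : σ // b < a} A) →ₐ[A] MvPolynomial σ A :=
  Polynomial.eval₂AlgHom (inc A a) (X a) (fun _ => Commute.all _ _)

/-- `P ≃ P^{(a)}[T]`. -/
noncomputable def Phi (a : σ) :
    MvPolynomial σ A ≃ₐ[A] Polynomial (MvPolynomial {b : σ // b ≠ a} A) :=
  (renameEquiv A (Equiv.optionSubtypeNe a).symm).trans (optionEquivLeft A {b // b ≠ a})

variable {A}

@[simp] theorem inc_X (a : σ) (b : {b : σ // b < a}) : inc A a (X b) = X b.1 := by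
  simp [inc]

@[simp] theorem theta_C (a : σ) (s : MvPolynomial {b : σ // b < a} A) :
    theta A a (Polynomial.C s) = inc A a s := by
  simp [theta]

@[simp] theorem theta_X (a : σ) : theta A a Polynomial.X = X a := by
  simp [theta]

theorem theta_apply (a : σ) (q : Polynomial (MvPolynomial {b : σ // b < a} A)) :
    theta A a q = Polynomial.eval₂ (inc A a).toRingHom (X a) q := rfl

theorem Phi_X_self (a : σ) : Phi A a (X a) = Polynomial.X := by
  simp [Phi]

theorem Phi_X_ne (a : σ) {b : σ} (hb : b ≠ a) :
    Phi A a (X b) = Polynomial.C (X ⟨b, hb⟩) := by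
  simp [Phi, Equiv.optionSubtypeNe_symm_of_ne hb]

theorem Phi_rename (a : σ) (s : MvPolynomial {b : σ // b ≠ a} A) :
    Phi A a (rename Subtype.val s) = Polynomial.C s := by
  have : ((Phi A a).toAlgHom.comp (rename Subtype.val)) =
      (Polynomial.CAlgHom : MvPolynomial {b : σ // b ≠ a} A →ₐ[A] _) := by
    apply MvPolynomial.algHom_ext
    intro i
    simp [Phi_X_ne a i.2]
  exact DFunLike.congr_fun this s

/-- inclusion `{b < a} → {b ≠ a}`. -/
def incl (a : σ) : {b : σ // b < a} → {b : σ // b ≠ a} := fun b => ⟨b.1, b.2.ne⟩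

theorem Phi_theta (a : σ) (q : Polynomial (MvPolynomial {b : σ // b < a} A)) :
    Phi A a (theta A a q) = q.map (rename (incl a) : _ →ₐ[A] _).toRingHom := by
  have : ((Phi A a).toAlgHom.toRingHom.comp (theta A a).toRingHom) =
      Polynomial.mapRingHom (rename (incl a) : _ →ₐ[A] _).toRingHom := by
    apply Polynomial.ringHom_ext
    · intro s
      simp only [AlgHom.toRingHom_eq_coe, RingHom.coe_comp,
        RingHom.coe_coe, AlgHom.coe_coe, Function.comp_apply, theta_C, Polynomial.coe_mapRingHom,
        Polynomial.map_C]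
      have : inc A a s = rename Subtype.val (rename (incl a) s) := by
        rw [rename_rename]; rfl
      rw [this]
      exact Phi_rename a _
    · simp [Phi_X_self]
  exact DFunLike.congr_fun this q

theorem theta_mem_supported (a : σ) (q : Polynomial (MvPolynomial {b : σ // b < a} A)) :
    theta A a q ∈ supported A {b | b ≤ a} := by
  rw [theta_apply, Polynomial.eval₂_eq_sum_range]
  refine Subalgebra.sum_mem _ fun i _ => ?_
  refine Subalgebra.mul_mem _ ?_ (Subalgebra.pow_mem _ ?_ _)
  · have : (inc A a).toRingHom (q.coeff i) ∈ supported A {b | b < a} := by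
      rw [supported_eq_range_rename]
      exact ⟨q.coeff i, rfl⟩
    exact supported_mono (fun b hb => le_of_lt hb) this
  · exact Algebra.subset_adjoin ⟨a, le_refl a, rfl⟩

/-- nonzerodivisor lemma: `theta a g` (`g` monic) is a nonzerodivisor modulo any ideal generated
by polynomials not involving `X_a`. -/
theorem mem_span_of_mul_theta_mem (a : σ) (T₀ : Set (MvPolynomial σ A))
    (hT : ∀ t ∈ T₀, t ∈ supported A {b | b ≠ a})
    (g : Polynomial (MvPolynomial {b : σ // b < a} A)) (hg : g.Monic) (h : MvPolynomial σ A)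
    (hh : h * theta A a g ∈ Ideal.span T₀) : h ∈ Ideal.span T₀ := by
  set T₀' : Set (MvPolynomial {b : σ // b ≠ a} A) := {s | rename Subtype.val s ∈ T₀} with hT₀'
  set b₀ : Ideal (MvPolynomial {b : σ // b ≠ a} A) := Ideal.span T₀' with hb₀
  have himage : (Phi A a) '' T₀ = Polynomial.C '' T₀' := by
    ext y
    constructor
    · rintro ⟨t, ht, rfl⟩
      have := hT t ht
      rw [supported_eq_range_rename] at this
      obtain ⟨s, rfl⟩ := this
      exact ⟨s, ht, (Phi_rename a s).symm⟩
    · rintro ⟨s, hs, rfl⟩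
      exact ⟨rename Subtype.val s, hs, Phi_rename a s⟩
  have hmap : Ideal.map (Phi A a).toRingEquiv.toRingHom (Ideal.span T₀) =
      Ideal.map (Polynomial.C) b₀ := by
    rw [Ideal.map_span, hb₀, Ideal.map_span]
    congr 1
  have h1 : Phi A a h * Phi A a (theta A a g) ∈ Ideal.map (Polynomial.C) b₀ := by
    rw [← hmap, ← map_mul]
    exact Ideal.mem_map_of_mem _ hh
  have hmonic : (Phi A a (theta A a g)).Monic := by
    rw [Phi_theta]; exact hg.map _
  have h2 := mem_map_C_of_monic_mul_mem b₀ _ _ hmonic h1
  rw [← hmap] at h2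
  have h3 : (Phi A a).toRingEquiv.symm ((Phi A a) h) ∈ Ideal.span T₀ := by
    have := Ideal.mem_map_of_mem (Phi A a).toRingEquiv.symm.toRingHom h2
    rw [Ideal.map_map] at this
    have hid : ((Phi A a).toRingEquiv.symm.toRingHom.comp (Phi A a).toRingEquiv.toRingHom) =
        RingHom.id _ := by
      ext x <;> simp
    rw [hid, Ideal.map_id] at this
    exact this
  simpa using h3

end mv

end Groth.Agent.Lib.Helper16.FlatExt
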