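import Mathlib
import Groth.Agent.Lib.Helper16FlatExtA

set_option autoImplicit false
set_option linter.style.haveILetI false
set_option linter.unusedSectionVars false

universe u v

namespace Groth.Agent.Lib.Helper16.FlatExt

section main

open MvPolynomial IsLocalRing

variable (A : Type u) [CommRing A] {K : Type u} [Field K] [Algebra A K]
  {σ : Type u} [LinearOrder σ] (x : σ → K)

/-- evaluation `P → K`. -/
noncomputable def ev : MvPolynomial σ A →ₐ[A] K := aeval x

/-- evaluation `S_a → K`. -/
noncomputable def eva (a : σ) : MvPolynomial {b : σ // b < a} A →ₐ[A] K := aeval (fun b => x b.1)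

theorem ev_inc (a : σ) (s : MvPolynomial {b : σ // b < a} A) : ev A x (inc A a s) = eva A x a s := by
  simp only [ev, inc, eva, aeval_rename]
  rfl

theorem ev_theta (a : σ) (q : Polynomial (MvPolynomial {b : σ // b < a} A)) :
    ev A x (theta A a q) = Polynomial.eval₂ (eva A x a).toRingHom (x a) q := by
  rw [theta_apply]
  have := Polynomial.hom_eval₂ q (inc A a).toRingHom (ev A x).toRingHom (X a)
  have hcomp : (ev A x).toRingHom.comp (inc A a).toRingHom = (eva A x a).toRingHom := by
    apply RingHom.ext
    intro s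
    exact ev_inc A x a s
  have hX : (ev A x).toRingHom (X a : MvPolynomial σ A) = x a := by simp [ev]
  rw [hcomp, hX] at this
  exact this


variable [Algebra.IsIntegral A K]

/-- there is a monic polynomial over `S_a` with root `x a`. -/
theorem exists_deg (a : σ) : ∃ n : ℕ, ∃ g : Polynomial (MvPolynomial {b : σ // b < a} A),
    g.Monic ∧ g.natDegree = n ∧ Polynomial.eval₂ (eva A x a).toRingHom (x a) g = 0 := by
  obtain ⟨p, hp, hroot⟩ := Algebra.IsIntegral.isIntegral (R := A) (x a)
  refine ⟨_, p.map (algebraMap A _), hp.map _, rfl, ?_⟩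
  rw [Polynomial.eval₂_map]
  have : (eva A x a).toRingHom.comp (algebraMap A (MvPolynomial {b : σ // b < a} A)) =
      algebraMap A K := by
    apply RingHom.ext
    intro r
    simp
  rw [this]
  exact hroot

open Classical in
/-- minimal degree. -/
noncomputable def deg (a : σ) : ℕ := Nat.find (exists_deg A x a)

open Classical in
/-- chosen monic polynomial of minimal degree with root `x a`. -/
noncomputable def gh (a : σ) : Polynomial (MvPolynomial {b : σ // b < a} A) :=
  Classical.choose (Nat.find_spec (exists_deg A x a))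

theorem gh_monic (a : σ) : (gh A x a).Monic := by
  classical
  exact (Classical.choose_spec (Nat.find_spec (exists_deg A x a))).1

theorem gh_natDegree (a : σ) : (gh A x a).natDegree = deg A x a := by
  classical
  exact (Classical.choose_spec (Nat.find_spec (exists_deg A x a))).2.1

theorem gh_root (a : σ) : Polynomial.eval₂ (eva A x a).toRingHom (x a) (gh A x a) = 0 := by
  classical
  exact (Classical.choose_spec (Nat.find_spec (exists_deg A x a))).2.2

theorem deg_le (a : σ) (g : Polynomial (MvPolynomial {b : σ // b < a} A)) (hg : g.Monic)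
    (hroot : Polynomial.eval₂ (eva A x a).toRingHom (x a) g = 0) : deg A x a ≤ g.natDegree := by
  classical
  exact Nat.find_min' (exists_deg A x a) ⟨g, hg, rfl, hroot⟩

/-- the range of `eva` is closed under inverses. -/
theorem inv_mem_range (a : σ) (c : K) (hc : c ∈ Set.range (eva A x a)) (h0 : c ≠ 0) :
    c⁻¹ ∈ Set.range (eva A x a) := by
  set L : Subalgebra A K := (eva A x a).range with hL
  have hint : Algebra.IsIntegral L K := Algebra.IsIntegral.tower_top (R := A)
  have hf : IsField L :=
    isField_of_isIntegral_of_isField (R := L) (S := K) Subtype.val_injective (Field.toIsField K)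
  have hcL : c ∈ L := hc
  have hne : (⟨c, hcL⟩ : L) ≠ 0 := by
    intro h
    exact h0 (congrArg Subtype.val h)
  obtain ⟨d, hd⟩ := hf.mul_inv_cancel hne
  have hd' : c * d.1 = 1 := congrArg Subtype.val hd
  have : c⁻¹ = d.1 := by
    field_simp
    exact hd'.symm
  rw [this]
  exact d.2

/-- a polynomial of degree `< deg a` having `x a` as a root has all coefficients in the kernel. -/
theorem coeff_eq_zero_of_lt (a : σ) (r : Polynomial (MvPolynomial {b : σ // b < a} A))
    (hdeg : r.degree < (deg A x a : WithBot ℕ))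
    (hroot : Polynomial.eval₂ (eva A x a).toRingHom (x a) r = 0) :
    r.map (eva A x a).toRingHom = 0 := by
  haveI : Nontrivial A := (algebraMap A K).domain_nontrivial
  by_contra hne
  set r' := r.map (eva A x a).toRingHom with hr'
  have hc0 : r'.leadingCoeff ≠ 0 := Polynomial.leadingCoeff_ne_zero.mpr hne
  have hcr : r'.leadingCoeff ∈ Set.range (eva A x a) := by
    rw [hr', Polynomial.leadingCoeff, Polynomial.coeff_map]
    exact ⟨_, rfl⟩
  obtain ⟨u, hu⟩ := inv_mem_range A x a _ hcr hc0
  set p := Polynomial.C (r'.leadingCoeff)⁻¹ * r' with hp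
  have hpm : p.Monic := by
    rw [hp, Polynomial.Monic, Polynomial.leadingCoeff_mul, Polynomial.leadingCoeff_C]
    exact inv_mul_cancel₀ hc0
  have hplift : p ∈ Polynomial.lifts (eva A x a).toRingHom := by
    rw [Polynomial.mem_lifts]
    refine ⟨Polynomial.C u * r, ?_⟩
    rw [Polynomial.map_mul, Polynomial.map_C, hp, hr']
    congr 2
  obtain ⟨q, hq1, hq2, hq3⟩ := Polynomial.lifts_and_degree_eq_and_monic hplift hpm
  have hqroot : Polynomial.eval₂ (eva A x a).toRingHom (x a) q = 0 := by
    rw [← Polynomial.eval_map, hq1, hp, Polynomial.eval_mul, hr', Polynomial.eval_map, hroot,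
      mul_zero]
  have h1 := deg_le A x a q hq3 hqroot
  have h2 : q.degree ≤ r.degree := by
    rw [hq2, hp]
    calc (Polynomial.C (r'.leadingCoeff)⁻¹ * r').degree ≤ r'.degree := by
          rw [Polynomial.degree_mul, Polynomial.degree_C (inv_ne_zero hc0), zero_add]
      _ ≤ r.degree := Polynomial.degree_map_le
  have h3 : q.degree < (deg A x a : WithBot ℕ) := lt_of_le_of_lt h2 hdeg
  have h4 : q.degree = (q.natDegree : WithBot ℕ) := Polynomial.degree_eq_natDegree hq3.ne_zero
  rw [h4] at h3
  have h5 : q.natDegree < deg A x a := by exact_mod_cast h3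
  omega


/-- the relations. -/
noncomputable def G (a : σ) : MvPolynomial σ A := theta A a (gh A x a)

/-- the ideal of relations. -/
noncomputable def J : Ideal (MvPolynomial σ A) := Ideal.span (Set.range (G A x))

theorem ev_G (a : σ) : ev A x (G A x a) = 0 := by
  rw [G, ev_theta, gh_root]

theorem J_le_ker : J A x ≤ RingHom.ker (ev A x).toRingHom := by
  rw [J, Ideal.span_le]
  rintro _ ⟨a, rfl⟩
  exact ev_G A x a

theorem G_mem_supported (a : σ) : G A x a ∈ supported A {b | b ≤ a} :=
  theta_mem_supported a _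

/-- every polynomial in the variables `≤ a` is in the range of `theta a`. -/
theorem exists_theta_eq (a : σ) (p : MvPolynomial σ A) (hp : p ∈ supported A {c | c ≤ a}) :
    ∃ q, theta A a q = p := by
  have : supported A {c | c ≤ a} ≤ (theta A a).range := by
    rw [supported_eq_adjoin_X]
    apply Algebra.adjoin_le
    rintro _ ⟨c, hc, rfl⟩
    rcases lt_or_eq_of_le (hc : c ≤ a) with h | h
    · exact ⟨Polynomial.C (X ⟨c, h⟩), by simp⟩
    · subst h
      exact ⟨Polynomial.X, by simp⟩
  exact this hp

section kernel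

variable (m : Ideal A) (hker : RingHom.ker (algebraMap A K) = m)

/-- the candidate kernel. -/
noncomputable def aa : Ideal (MvPolynomial σ A) := J A x ⊔ Ideal.map C m

include hker in
theorem C_mem_aa (r : A) (h : ev A x (C r) = 0) : C r ∈ aa A x m := by
  apply Ideal.mem_sup_right
  apply Ideal.mem_map_of_mem
  rw [← hker, RingHom.mem_ker]
  simpa [ev] using h

include hker in
theorem ker_lt (a : σ)
    (ih : ∀ b < a, ∀ p ∈ supported A {c | c ≤ b}, ev A x p = 0 → p ∈ aa A x m) :
    ∀ p ∈ supported A {c | c < a}, ev A x p = 0 → p ∈ aa A x m := by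
  intro p hp hev
  by_cases hne : p.vars.Nonempty
  · set b₀ := p.vars.max' hne with hb₀
    have hb₀mem : b₀ ∈ p.vars := Finset.max'_mem _ _
    have hlt : b₀ < a := (mem_supported.mp hp) hb₀mem
    refine ih b₀ hlt p ?_ hev
    rw [mem_supported]
    intro c hc
    exact Finset.le_max' _ c hc
  · rw [Finset.not_nonempty_iff_eq_empty] at hne
    have : p ∈ supported A (∅ : Set σ) := by
      rw [mem_supported, hne]; simp
    rw [supported_empty, Algebra.mem_bot] at this
    obtain ⟨r, rfl⟩ := this
    exact C_mem_aa A x m hker r hev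

include hker in
theorem ker_step (a : σ)
    (ih : ∀ b < a, ∀ p ∈ supported A {c | c ≤ b}, ev A x p = 0 → p ∈ aa A x m) :
    ∀ p ∈ supported A {c | c ≤ a}, ev A x p = 0 → p ∈ aa A x m := by
  intro p hp hev
  obtain ⟨q, rfl⟩ := exists_theta_eq A a p hp
  haveI : Nontrivial A := (algebraMap A K).domain_nontrivial
  have hdiv := Polynomial.modByMonic_add_div q (gh A x a)
  set r := q %ₘ gh A x a with hr
  have hrdeg : r.degree < (deg A x a : WithBot ℕ) := by
    have h1 := Polynomial.degree_modByMonic_lt q (gh_monic A x a)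
    have h2 : (gh A x a).degree = (deg A x a : WithBot ℕ) := by
      rw [Polynomial.degree_eq_natDegree (gh_monic A x a).ne_zero, gh_natDegree]
    rw [← h2]; exact h1
  have hsplit : theta A a q = theta A a r + G A x a * theta A a (q /ₘ gh A x a) := by
    rw [G, ← map_mul, ← map_add, hdiv]
  have hrroot : Polynomial.eval₂ (eva A x a).toRingHom (x a) r = 0 := by
    rw [← ev_theta]
    have := hev
    rw [hsplit, map_add, map_mul, ev_G, zero_mul, add_zero] at this
    exact this
  have hcoef := coeff_eq_zero_of_lt A x a r hrdeg hrroot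
  have hr_mem : theta A a r ∈ aa A x m := by
    rw [theta_apply, Polynomial.eval₂_eq_sum_range]
    refine Ideal.sum_mem _ fun i _ => ?_
    apply Ideal.mul_mem_right
    apply ker_lt A x m hker a ih
    · rw [supported_eq_range_rename]
      exact ⟨r.coeff i, rfl⟩
    · have := congrArg (fun p => p.coeff i) hcoef
      simp only [Polynomial.coeff_map, Polynomial.coeff_zero] at this
      show ev A x (inc A a (r.coeff i)) = 0
      rw [ev_inc]
      exact this
  rw [hsplit]
  refine Ideal.add_mem _ hr_mem (Ideal.mul_mem_right _ _ ?_)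
  exact Ideal.mem_sup_left (Ideal.subset_span ⟨a, rfl⟩)

include hker in
theorem ker_le [WellFoundedLT σ] : RingHom.ker (ev A x).toRingHom ≤ aa A x m := by
  have H : ∀ a : σ, ∀ p ∈ supported A {c | c ≤ a}, ev A x p = 0 → p ∈ aa A x m := by
    intro a
    induction a using WellFoundedLT.induction with
    | _ a ih => exact ker_step A x m hker a ih
  intro p hp
  have hev : ev A x p = 0 := hp
  by_cases hne : p.vars.Nonempty
  · set b₀ := p.vars.max' hne with hb₀
    refine H b₀ p ?_ hev
    rw [mem_supported]
    intro c hc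
    exact Finset.le_max' _ c hc
  · rw [Finset.not_nonempty_iff_eq_empty] at hne
    have : p ∈ supported A (∅ : Set σ) := by
      rw [mem_supported, hne]; simp
    rw [supported_empty, Algebra.mem_bot] at this
    obtain ⟨r, rfl⟩ := this
    exact C_mem_aa A x m hker r hev

end kernel

section flat

/-- relations of index `≤ a`. -/
noncomputable def Jle (a : σ) : Ideal (MvPolynomial σ A) := Ideal.span (G A x '' {b | b ≤ a})

/-- relations of index `< a`. -/
noncomputable def Jlt (a : σ) : Ideal (MvPolynomial σ A) := Ideal.span (G A x '' {b | b < a})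

theorem Jle_mono {a b : σ} (h : b ≤ a) : Jle A x b ≤ Jle A x a :=
  Ideal.span_mono (Set.image_mono fun _ hc => le_trans hc h)

theorem Jle_le_Jlt {a b : σ} (h : b < a) : Jle A x b ≤ Jlt A x a :=
  Ideal.span_mono (Set.image_mono fun _ hc => lt_of_le_of_lt hc h)

theorem Jlt_le_Jle (a : σ) : Jlt A x a ≤ Jle A x a :=
  Ideal.span_mono (Set.image_mono fun _ hc => le_of_lt hc)

theorem Jle_le_J (a : σ) : Jle A x a ≤ J A x :=
  Ideal.span_mono (Set.image_subset_range _ _)

theorem G_mem_Jle (a : σ) : G A x a ∈ Jle A x a :=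
  Ideal.subset_span ⟨a, le_refl a, rfl⟩

theorem Jle_eq (a : σ) : Jle A x a = Jlt A x a ⊔ Ideal.span {G A x a} := by
  rw [Jle, Jlt, ← Ideal.span_union]
  congr 1
  ext y
  constructor
  · rintro ⟨b, hb, rfl⟩
    rcases lt_or_eq_of_le (hb : b ≤ a) with h | h
    · exact Or.inl ⟨b, h, rfl⟩
    · subst h; exact Or.inr rfl
  · rintro (⟨b, hb, rfl⟩ | h)
    · exact ⟨b, le_of_lt hb, rfl⟩
    · rw [Set.mem_singleton_iff] at h
      subst h
      exact ⟨a, le_refl a, rfl⟩

theorem Jlt_cases (a : σ) (y : MvPolynomial σ A) (hy : y ∈ Jlt A x a) :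
    y = 0 ∨ ∃ b < a, y ∈ Jle A x b := by
  induction hy using Submodule.span_induction with
  | mem y hy =>
    obtain ⟨b, hb, rfl⟩ := hy
    exact Or.inr ⟨b, hb, G_mem_Jle A x b⟩
  | zero => exact Or.inl rfl
  | add y z _ _ hy hz =>
    rcases hy with rfl | ⟨b, hb, hyb⟩
    · rw [zero_add]; exact hz
    · rcases hz with rfl | ⟨c, hc, hzc⟩
      · rw [add_zero]; exact Or.inr ⟨b, hb, hyb⟩
      · refine Or.inr ⟨max b c, max_lt hb hc, Ideal.add_mem _ ?_ ?_⟩
        · exact Jle_mono A x (le_max_left b c) hyb
        · exact Jle_mono A x (le_max_right b c) hzc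
  | smul p y _ hy =>
    rcases hy with rfl | ⟨b, hb, hyb⟩
    · left; simp
    · exact Or.inr ⟨b, hb, Ideal.mul_mem_left _ _ hyb⟩

theorem J_cases (y : MvPolynomial σ A) (hy : y ∈ J A x) :
    y = 0 ∨ ∃ b, y ∈ Jle A x b := by
  induction hy using Submodule.span_induction with
  | mem y hy =>
    obtain ⟨b, rfl⟩ := hy
    exact Or.inr ⟨b, G_mem_Jle A x b⟩
  | zero => exact Or.inl rfl
  | add y z _ _ hy hz =>
    rcases hy with rfl | ⟨b, hyb⟩
    · rw [zero_add]; exact hz
    · rcases hz with rfl | ⟨c, hzc⟩
      · rw [add_zero]; exact Or.inr ⟨b, hyb⟩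
      · refine Or.inr ⟨max b c, Ideal.add_mem _ ?_ ?_⟩
        · exact Jle_mono A x (le_max_left b c) hyb
        · exact Jle_mono A x (le_max_right b c) hzc
  | smul p y _ hy =>
    rcases hy with rfl | ⟨b, hyb⟩
    · left; simp
    · exact Or.inr ⟨b, Ideal.mul_mem_left _ _ hyb⟩

theorem flat_step (I : Ideal A) (a : σ)
    (ih : ∀ b < a, Ideal.map C I ⊓ Jle A x b ≤ Ideal.map C I * Jle A x b) :
    Ideal.map (C : A →+* MvPolynomial σ A) I ⊓ Jle A x a ≤ Ideal.map C I * Jle A x a := by
  have hlt : Ideal.map (C : A →+* MvPolynomial σ A) I ⊓ Jlt A x a ≤ Ideal.map C I * Jlt A x a := by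
    rintro y ⟨hy1, hy2⟩
    rcases Jlt_cases A x a y hy2 with rfl | ⟨b, hb, hyb⟩
    · exact Ideal.zero_mem _
    · exact Ideal.mul_mono_right (Jle_le_Jlt A x hb) (ih b hb ⟨hy1, hyb⟩)
  rintro y ⟨hy1, hy2⟩
  have hy2' : y ∈ Jlt A x a ⊔ Ideal.span {G A x a} := by
    rw [← Jle_eq]; exact hy2
  rw [Submodule.mem_sup] at hy2'
  obtain ⟨j, hj, w, hw, rfl⟩ := hy2'
  obtain ⟨h, rfl⟩ := Ideal.mem_span_singleton'.mp hw
  -- h * G a ∈ map C I ⊔ Jlt a
  have hmem : h * theta A a (gh A x a) ∈
      Ideal.span ((C : A →+* MvPolynomial σ A) '' (I : Set A) ∪ G A x '' {b | b < a}) := by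
    rw [Ideal.span_union]
    have : h * G A x a = (j + h * G A x a) - j := by ring
    show h * G A x a ∈ _
    rw [this]
    exact Ideal.sub_mem _ (Ideal.mem_sup_left hy1) (Ideal.mem_sup_right hj)
  have hsupp : ∀ t ∈ ((C : A →+* MvPolynomial σ A) '' (I : Set A) ∪ G A x '' {b | b < a}),
      t ∈ supported A {b | b ≠ a} := by
    rintro t (⟨r, _, rfl⟩ | ⟨b, hb, rfl⟩)
    · exact (supported A {b | b ≠ a}).algebraMap_mem r
    · exact supported_mono (fun c hc => ne_of_lt (lt_of_le_of_lt hc hb)) (G_mem_supported A x b)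
  have hh := mem_span_of_mul_theta_mem a _ hsupp (gh A x a) (gh_monic A x a) h hmem
  rw [Ideal.span_union, Submodule.mem_sup] at hh
  obtain ⟨i', hi', j', hj', rfl⟩ := hh
  have e : j + (i' + j') * G A x a = (j + j' * G A x a) + i' * G A x a := by ring
  rw [e]
  refine Ideal.add_mem _ ?_ ?_
  · have h1 : j + j' * G A x a ∈ Jlt A x a := Ideal.add_mem _ hj (Ideal.mul_mem_right _ _ hj')
    have h2 : j + j' * G A x a ∈ Ideal.map (C : A →+* MvPolynomial σ A) I := by
      have : j + j' * G A x a = (j + (i' + j') * G A x a) - i' * G A x a := by ring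
      rw [this]
      exact Ideal.sub_mem _ hy1 (Ideal.mul_mem_right _ _ hi')
    exact Ideal.mul_mono_right (Jlt_le_Jle A x a) (hlt ⟨h2, h1⟩)
  · exact Ideal.mul_mem_mul hi' (G_mem_Jle A x a)

theorem inter_le_mul [WellFoundedLT σ] (I : Ideal A) :
    Ideal.map (C : A →+* MvPolynomial σ A) I ⊓ J A x ≤ Ideal.map C I * J A x := by
  have H : ∀ a : σ, Ideal.map (C : A →+* MvPolynomial σ A) I ⊓ Jle A x a ≤
      Ideal.map C I * Jle A x a := by
    intro a
    induction a using WellFoundedLT.induction with
    | _ a ih => exact flat_step A x I a ih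
  rintro y ⟨hy1, hy2⟩
  rcases J_cases A x y hy2 with rfl | ⟨b, hyb⟩
  · exact Ideal.zero_mem _
  · exact Ideal.mul_mono_right (Jle_le_J A x b) (H b ⟨hy1, hyb⟩)

theorem flat_quotient_J [WellFoundedLT σ] : Module.Flat A (MvPolynomial σ A ⧸ J A x) := by
  have h1 : Module.Flat A (MvPolynomial σ A ⧸ (J A x).restrictScalars A) := by
    apply flat_quotient_of_inter_le
    intro I _
    have step1 : ∀ y ∈ I • (⊤ : Submodule A (MvPolynomial σ A)),
        y ∈ Ideal.map (C : A →+* MvPolynomial σ A) I := by
      intro y hy1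
      induction hy1 using Submodule.smul_induction_on' with
      | smul r hr p _ =>
        rw [Algebra.smul_def]
        exact Ideal.mul_mem_right _ _ (Ideal.mem_map_of_mem _ hr)
      | add y _ z _ hy hz => exact Ideal.add_mem _ hy hz
    -- elements of map C I * J are in I • J
    have key : ∀ u ∈ Ideal.map (C : A →+* MvPolynomial σ A) I, ∀ j ∈ J A x,
        u * j ∈ I • (J A x).restrictScalars A := by
      intro u hu
      induction hu using Submodule.span_induction with
      | mem u hu =>
        obtain ⟨r, hr, rfl⟩ := hu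
        intro j hj
        rw [← MvPolynomial.algebraMap_eq, ← Algebra.smul_def]
        exact Submodule.smul_mem_smul hr hj
      | zero => intro j _; simp
      | add u v _ _ hu hv =>
        intro j hj
        rw [add_mul]
        exact Submodule.add_mem _ (hu j hj) (hv j hj)
      | smul p u _ hu =>
        intro j hj
        have : p • u * j = u * (p * j) := by
          rw [smul_eq_mul]; ring
        rw [this]
        exact hu _ (Ideal.mul_mem_left _ _ hj)
    have step2 : ∀ y ∈ Ideal.map (C : A →+* MvPolynomial σ A) I * J A x,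
        y ∈ I • (J A x).restrictScalars A := by
      intro y hy3
      induction hy3 using Submodule.mul_induction_on' with
      | mem_mul_mem u hu j hj => exact key u hu j hj
      | add y _ z _ hy hz => exact Submodule.add_mem _ hy hz
    rintro y ⟨hy1, hy2⟩
    exact step2 y (inter_le_mul A x I ⟨step1 y hy1, hy2⟩)
  exact Module.Flat.of_linearEquiv (Submodule.Quotient.restrictScalarsEquiv A (J A x)).symm

end flat

section integral

theorem isIntegral_mk_X [WellFoundedLT σ] (a : σ) :
    IsIntegral A (Ideal.Quotient.mk (J A x) (X a)) := by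
  induction a using WellFoundedLT.induction with
  | _ a ih =>
    let IC := integralClosure A (MvPolynomial σ A ⧸ J A x)
    let f : MvPolynomial {b : σ // b < a} A →ₐ[A] IC :=
      aeval (fun b => (⟨Ideal.Quotient.mk (J A x) (X b.1), ih b.1 b.2⟩ : IC))
    have hcomp : (IC.val.comp f) =
        (Ideal.Quotient.mkₐ A (J A x)).comp (inc A a) := by
      apply MvPolynomial.algHom_ext
      intro b
      simp [f]
    have hroot : Polynomial.eval₂ (algebraMap IC (MvPolynomial σ A ⧸ J A x))
        (Ideal.Quotient.mk (J A x) (X a)) ((gh A x a).map f.toRingHom) = 0 := by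
      rw [Polynomial.eval₂_map]
      have h1 : (algebraMap IC (MvPolynomial σ A ⧸ J A x)).comp f.toRingHom =
          (Ideal.Quotient.mk (J A x)).comp (inc A a).toRingHom := by
        apply RingHom.ext
        intro s
        exact DFunLike.congr_fun hcomp s
      rw [h1, ← Polynomial.hom_eval₂, ← theta_apply]
      exact Ideal.Quotient.eq_zero_iff_mem.mpr (Ideal.subset_span ⟨a, rfl⟩)
    have h2 : IsIntegral IC (Ideal.Quotient.mk (J A x) (X a)) :=
      ⟨(gh A x a).map f.toRingHom, (gh_monic A x a).map _, hroot⟩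
    exact isIntegral_trans _ h2

theorem isIntegral_quotient_J [WellFoundedLT σ] :
    Algebra.IsIntegral A (MvPolynomial σ A ⧸ J A x) := by
  constructor
  intro y
  obtain ⟨p, rfl⟩ := Ideal.Quotient.mk_surjective y
  induction p using MvPolynomial.induction_on with
  | C r => exact isIntegral_algebraMap
  | add p q hp hq => rw [map_add]; exact hp.add hq
  | mul_X p i hp => rw [map_mul]; exact hp.mul (isIntegral_mk_X A x i)

end integral

end main

open MvPolynomial in
/-- Stage 2: an integral residue extension can be realised by a flat integral extension whose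
closed fibre is the given field. -/
theorem exists_flat_integral_extension (A K : Type u) [CommRing A] [Field K] [Algebra A K]
    [Algebra.IsIntegral A K] (m : Ideal A) (hker : RingHom.ker (algebraMap A K) = m) :
    ∃ (A' : Type u) (_ : CommRing A') (_ : Algebra A A') (φ : A' →ₐ[A] K),
      Module.Flat A A' ∧ Function.Surjective φ ∧
      RingHom.ker φ.toRingHom = m.map (algebraMap A A') ∧ Algebra.IsIntegral A A' := by
  obtain ⟨lo, hwf⟩ := exists_wellFoundedLT K
  let x : K → K := id
  let φ : (MvPolynomial K A ⧸ J A x) →ₐ[A] K :=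
    Ideal.Quotient.liftₐ (J A x) (ev A x) (fun p hp => J_le_ker A x hp)
  have hφ : ∀ p, φ (Ideal.Quotient.mk _ p) = ev A x p := fun p => rfl
  refine ⟨MvPolynomial K A ⧸ J A x, inferInstance, inferInstance, φ, flat_quotient_J A x, ?_, ?_,
    isIntegral_quotient_J A x⟩
  · intro y
    refine ⟨Ideal.Quotient.mk _ (X y), ?_⟩
    rw [hφ]
    simp [ev, x]
  · apply le_antisymm
    · intro y hy
      obtain ⟨p, rfl⟩ := Ideal.Quotient.mk_surjective y
      have hp : ev A x p = 0 := by
        have : φ (Ideal.Quotient.mk _ p) = 0 := hy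
        rw [hφ] at this
        exact this
      have hmem := ker_le A x m hker hp
      rw [aa, Submodule.mem_sup] at hmem
      obtain ⟨j, hj, c, hc, rfl⟩ := hmem
      rw [map_add, Ideal.Quotient.eq_zero_iff_mem.mpr hj, zero_add]
      have : Ideal.map (algebraMap A (MvPolynomial K A ⧸ J A x)) m =
          Ideal.map (Ideal.Quotient.mk (J A x)) (Ideal.map C m) := by
        rw [Ideal.map_map]; rfl
      rw [this]
      exact Ideal.mem_map_of_mem _ hc
    · rw [Ideal.map_le_iff_le_comap]
      intro r hr
      rw [Ideal.mem_comap, RingHom.mem_ker]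
      have : φ.toRingHom (algebraMap A _ r) = algebraMap A K r := φ.commutes r
      rw [this, ← RingHom.mem_ker, hker]
      exact hr

end Groth.Agent.Lib.Helper16.FlatExt
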