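import Mathlib
import Groth.Prelude.Def_W4c5flasquetoriphsGLat
import Groth.Agent.S18675

/-!
# G-lattices: permutation modules are flasque and coflasque; extensions (helper16)
-/

set_option autoImplicit false
set_option linter.style.haveILetI false
set_option linter.unusedSectionVars false
open GLat

namespace Groth.Agent.Lib.Helper16GLat

open Groth.Agent.S18675

variable {G : Type} [Group G]

section Norm

variable {M N : Type} [AddCommGroup M] [AddCommGroup N]

/-- the norm element of a finite subgroup acting on a module -/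
noncomputable def nrm (σ : Representation ℤ G M) (H : Subgroup G) [Fintype H] : M →ₗ[ℤ] M :=
  ∑ h : H, σ (h : G)

theorem nrm_apply (σ : Representation ℤ G M) (H : Subgroup G) [Fintype H] (m : M) :
    nrm σ H m = ∑ h : H, σ (h : G) m := by
  simp [nrm, LinearMap.sum_apply]

theorem finsum_eq_nrm (σ : Representation ℤ G M) (H : Subgroup G) [Fintype H] (m : M) :
    (∑ᶠ h : H, σ (h : G) m) = nrm σ H m := by
  rw [finsum_eq_sum_of_fintype, nrm_apply]

theorem nrm_comp (σ : Representation ℤ G M) (H : Subgroup G) [Fintype H] (h : H) (m : M) :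
    nrm σ H (σ (h : G) m) = nrm σ H m := by
  rw [nrm_apply, nrm_apply]
  refine Fintype.sum_equiv (Equiv.mulRight h) _ _ (fun a => ?_)
  simp only [Equiv.coe_mulRight, Subgroup.coe_mul, map_mul, Module.End.mul_apply]

theorem comp_nrm (σ : Representation ℤ G M) (H : Subgroup G) [Fintype H] (h : H) (m : M) :
    σ (h : G) (nrm σ H m) = nrm σ H m := by
  rw [nrm_apply, map_sum]
  refine Fintype.sum_equiv (Equiv.mulLeft h) _ _ (fun a => ?_)
  simp only [Equiv.coe_mulLeft, Subgroup.coe_mul, map_mul, Module.End.mul_apply]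

theorem map_nrm (σ : Representation ℤ G M) (τ : Representation ℤ G N) (f : M →ₗ[ℤ] N)
    (hf : IsEquivariant σ τ f) (H : Subgroup G) [Fintype H] (m : M) :
    f (nrm σ H m) = nrm τ H (f m) := by
  rw [nrm_apply, nrm_apply, map_sum]
  exact Finset.sum_congr rfl (fun h _ => hf _ _)

/-- augmentation submodule -/
def aug (σ : Representation ℤ G M) (H : Subgroup G) : Submodule ℤ M :=
  Submodule.span ℤ {x : M | ∃ (h : H) (y : M), x = σ (h : G) y - y}

theorem isFlasque_iff (σ : Representation ℤ G M) :
    IsFlasque σ ↔ ∀ (H : Subgroup G) (m : M), (∑ᶠ h : H, σ (h : G) m) = 0 → m ∈ aug σ H :=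
  Iff.rfl

theorem sub_mem_aug (σ : Representation ℤ G M) (H : Subgroup G) (h : H) (y : M) :
    σ (h : G) y - y ∈ aug σ H :=
  Submodule.subset_span ⟨h, y, rfl⟩

theorem nrm_aug (σ : Representation ℤ G M) (H : Subgroup G) [Fintype H] (x : M)
    (hx : x ∈ aug σ H) : nrm σ H x = 0 := by
  induction hx using Submodule.span_induction with
  | mem x hx =>
    obtain ⟨h, y, rfl⟩ := hx
    rw [map_sub, nrm_comp, sub_self]
  | zero => exact map_zero _
  | add x y _ _ hx hy => rw [map_add, hx, hy, add_zero]
  | smul c x _ hx => rw [map_smul, hx, smul_zero]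

theorem map_mem_aug (σ : Representation ℤ G M) (τ : Representation ℤ G N) (f : M →ₗ[ℤ] N)
    (hf : IsEquivariant σ τ f) (H : Subgroup G) (x : M) (hx : x ∈ aug σ H) :
    f x ∈ aug τ H := by
  induction hx using Submodule.span_induction with
  | mem x hx =>
    obtain ⟨h, y, rfl⟩ := hx
    rw [map_sub, hf]
    exact sub_mem_aug τ H h (f y)
  | zero => rw [map_zero]; exact zero_mem _
  | add x y _ _ hx hy => rw [map_add]; exact add_mem hx hy
  | smul c x _ hx => rw [map_smul]; exact Submodule.smul_mem _ _ hx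

theorem aug_le_map (σ : Representation ℤ G M) (τ : Representation ℤ G N) (f : M →ₗ[ℤ] N)
    (hf : IsEquivariant σ τ f) (hsurj : Function.Surjective f) (H : Subgroup G) (y : N)
    (hy : y ∈ aug τ H) : ∃ x ∈ aug σ H, f x = y := by
  induction hy using Submodule.span_induction with
  | mem y hy =>
    obtain ⟨h, z, rfl⟩ := hy
    obtain ⟨z0, rfl⟩ := hsurj z
    exact ⟨σ (h : G) z0 - z0, sub_mem_aug σ H h z0, by rw [map_sub, hf]⟩
  | zero => exact ⟨0, zero_mem _, map_zero _⟩
  | add x y _ _ hx hy =>
    obtain ⟨x0, hx0, rfl⟩ := hx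
    obtain ⟨y0, hy0, rfl⟩ := hy
    exact ⟨x0 + y0, add_mem hx0 hy0, map_add _ _ _⟩
  | smul c x _ hx =>
    obtain ⟨x0, hx0, rfl⟩ := hx
    exact ⟨c • x0, Submodule.smul_mem _ _ hx0, map_smul _ _ _⟩

end Norm

section Perm

variable {X : Type} [MulAction G X]

/-- a permutation module is flasque -/
theorem perm_flasque [Finite G] (H : Subgroup G) (p : X →₀ ℤ)
    (hp : (∑ᶠ h : H, permRep G X (h : G) p) = 0) : p ∈ aug (permRep G X) H := by
  classical
  haveI : Fintype H := Fintype.ofFinite H
  let r : X → X := fun x => (Quotient.mk (MulAction.orbitRel H X) x).out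
  have hr : ∀ x, ∃ d : H, (d : G) • x = r x := by
    intro x
    have h1 : (MulAction.orbitRel H X).r (r x) x := Quotient.mk_out (s := MulAction.orbitRel H X) x
    rw [MulAction.orbitRel_apply] at h1
    obtain ⟨d, hd⟩ := h1
    exact ⟨d, hd⟩
  choose d hd using hr
  have hrorb : ∀ (a : H) (x : X), r ((a : G) • x) = r x := by
    intro a x
    show (Quotient.mk (MulAction.orbitRel H X) ((a : G) • x)).out = _
    have : Quotient.mk (MulAction.orbitRel H X) ((a : G) • x) =
        Quotient.mk (MulAction.orbitRel H X) x := by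
      apply Quotient.sound
      show (MulAction.orbitRel H X).r _ _
      rw [MulAction.orbitRel_apply]
      exact ⟨a, rfl⟩
    rw [this]
  let T : (X →₀ ℤ) →ₗ[ℤ] (X →₀ ℤ) := Finsupp.lmapDomain ℤ ℤ r
  have hTs : ∀ (x : X) (c : ℤ), T (Finsupp.single x c) = Finsupp.single (r x) c := by
    intro x c
    simp [T, Finsupp.lmapDomain_apply, Finsupp.mapDomain_single]
  have hT1 : ∀ q : X →₀ ℤ, q - T q ∈ aug (permRep G X) H := by
    intro q
    induction q using Finsupp.induction_linear with
    | zero => simp
    | add f g hf hg =>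
      have : f + g - T (f + g) = (f - T f) + (g - T g) := by rw [map_add]; abel
      rw [this]
      exact add_mem hf hg
    | single x c =>
      rw [hTs]
      have h1 := sub_mem_aug (permRep G X) H (d x) (Finsupp.single x c)
      rw [permRep_single, hd] at h1
      have h2 := neg_mem h1
      rwa [neg_sub] at h2
  have hT2 : ∀ (h : H) (q : X →₀ ℤ), T (permRep G X (h : G) q) = T q := by
    intro h q
    have : T ∘ₗ permRep G X (h : G) = T := by
      apply Finsupp.lhom_ext
      intro x c
      rw [LinearMap.comp_apply, permRep_single, hTs, hTs, hrorb]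
    exact LinearMap.congr_fun this q
  rw [finsum_eq_sum_of_fintype] at hp
  have h3 : T (∑ h : H, permRep G X (h : G) p) = 0 := by rw [hp, map_zero]
  rw [map_sum] at h3
  simp only [hT2] at h3
  rw [Finset.sum_const, Finset.card_univ] at h3
  have hTp : T p = 0 := by
    ext x
    have := DFunLike.congr_fun h3 x
    simp only [Finsupp.smul_apply, Finsupp.zero_apply, nsmul_eq_mul] at this
    rcases mul_eq_zero.mp this with h | h
    · exfalso
      have : (Fintype.card H : ℤ) ≠ 0 := by exact_mod_cast Fintype.card_ne_zero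
      exact this h
    · simpa using h
  have := hT1 p
  rwa [hTp, sub_zero] at this

end Perm

section Transport

variable {M N : Type} [AddCommGroup M] [AddCommGroup N]

theorem isCoflasque_of_equiv (ρ : Representation ℤ G M) (σ : Representation ℤ G N)
    (e : M ≃ₗ[ℤ] N) (he : ∀ g m, e (ρ g m) = σ g (e m)) (hσ : IsCoflasque σ) : IsCoflasque ρ := by
  intro H f hf
  obtain ⟨n, hn⟩ := hσ H (fun a => e (f a)) (fun a b => by
    show e (f (a * b)) = e (f a) + σ (a : G) (e (f b))
    rw [hf, map_add, he])
  refine ⟨e.symm n, fun a => ?_⟩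
  apply e.injective
  rw [map_sub, he, e.apply_symm_apply]
  exact hn a

theorem isFlasque_of_equiv [Finite G] (ρ : Representation ℤ G M) (σ : Representation ℤ G N)
    (e : M ≃ₗ[ℤ] N) (he : ∀ g m, e (ρ g m) = σ g (e m)) (hσ : IsFlasque σ) : IsFlasque ρ := by
  intro H m hm
  haveI : Fintype H := Fintype.ofFinite H
  have he' : IsEquivariant ρ σ (e : M →ₗ[ℤ] N) := fun g m => he g m
  have hes : IsEquivariant σ ρ (e.symm : N →ₗ[ℤ] M) := by
    intro g n
    apply e.injective
    show e (e.symm (σ g n)) = e (ρ g (e.symm n))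
    rw [he, e.apply_symm_apply, e.apply_symm_apply]
  have h1 : (∑ᶠ h : H, σ (h : G) (e m)) = 0 := by
    rw [finsum_eq_nrm, ← LinearEquiv.coe_coe, ← map_nrm ρ σ _ he', ← finsum_eq_nrm, hm, map_zero]
  have h2 := hσ H (e m) h1
  have h3 := map_mem_aug σ ρ _ hes H _ h2
  have h4 : (e.symm : N →ₗ[ℤ] M) (e m) = m := e.symm_apply_apply m
  rw [h4] at h3
  exact h3

/-- a permutation lattice is isomorphic to a standard permutation module -/
theorem exists_perm_model (ρ : Representation ℤ G M) [Module.Finite ℤ M] (h : IsPermutation ρ) :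
    ∃ (X : Type) (_ : MulAction G X) (_ : Finite X) (e : M ≃ₗ[ℤ] (X →₀ ℤ)),
      ∀ g m, e (ρ g m) = permRep G X g (e m) := by
  classical
  obtain ⟨ι, b, hb⟩ := h
  choose f hf using hb
  haveI : Finite ι := Module.Finite.finite_basis b
  let inst : MulAction G ι :=
    { smul := fun g i => f g i
      one_smul := fun i => by
        apply b.injective
        show b (f 1 i) = b i
        rw [← hf, map_one]
        rfl
      mul_smul := fun g h i => by
        apply b.injective
        show b (f (g * h) i) = b (f g (f h i))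
        rw [← hf, ← hf, ← hf, map_mul]
        rfl }
  refine ⟨ι, inst, inferInstance, b.repr, fun g m => ?_⟩
  have : (b.repr : M →ₗ[ℤ] (ι →₀ ℤ)) ∘ₗ ρ g = permRep G ι g ∘ₗ (b.repr : M →ₗ[ℤ] (ι →₀ ℤ)) := by
    apply b.ext
    intro i
    simp only [LinearMap.comp_apply, LinearEquiv.coe_coe, hf, Module.Basis.repr_self]
    rw [permRep_single]
    rfl
  exact LinearMap.congr_fun this m

theorem isCoflasque_of_isPermutation [Finite G] (ρ : Representation ℤ G M) [Module.Finite ℤ M]
    (h : IsPermutation ρ) : IsCoflasque ρ := by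
  obtain ⟨X, _, _, e, he⟩ := exists_perm_model ρ h
  exact isCoflasque_of_equiv ρ (permRep G X) e he (fun H F hF => perm_h1 H F hF)

theorem isFlasque_of_isPermutation [Finite G] (ρ : Representation ℤ G M) [Module.Finite ℤ M]
    (h : IsPermutation ρ) : IsFlasque ρ := by
  obtain ⟨X, _, _, e, he⟩ := exists_perm_model ρ h
  exact isFlasque_of_equiv ρ (permRep G X) e he (fun H p hp => perm_flasque H p hp)

end Transport

section Ext

variable {Q E P : Type} [AddCommGroup Q] [AddCommGroup E] [AddCommGroup P]

/-- an extension of a coflasque module by a coflasque module is coflasque -/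
theorem coflasque_ext (σQ : Representation ℤ G Q) (σE : Representation ℤ G E)
    (σP : Representation ℤ G P) (i : Q →ₗ[ℤ] E) (π : E →ₗ[ℤ] P)
    (hi : IsEquivariant σQ σE i) (hπ : IsEquivariant σE σP π)
    (hinj : Function.Injective i) (hsurj : Function.Surjective π)
    (hex : LinearMap.range i = LinearMap.ker π)
    (hQ : IsCoflasque σQ) (hP : IsCoflasque σP) : IsCoflasque σE := by
  intro H f hf
  obtain ⟨p, hp⟩ := hP H (fun a => π (f a)) (fun a b => by
    show π (f (a * b)) = π (f a) + σP (a : G) (π (f b))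
    rw [hf, map_add, hπ])
  obtain ⟨e, rfl⟩ := hsurj p
  have hker : ∀ a : H, f a - (σE (a : G) e - e) ∈ LinearMap.range i := by
    intro a
    rw [hex, LinearMap.mem_ker, map_sub, map_sub, hπ]
    have := hp a
    rw [this, sub_self]
  choose q hq using hker
  obtain ⟨q0, hq0⟩ := hQ H q (fun a b => by
    apply hinj
    rw [map_add, hi, hq, hq, hq, hf]
    simp only [Subgroup.coe_mul, map_mul, Module.End.mul_apply, map_sub]
    abel)
  refine ⟨i q0 + e, fun a => ?_⟩
  have h1 := hq a
  rw [hq0 a, map_sub, hi] at h1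
  rw [map_add]
  have : f a = (σE (a : G) (i q0) - i q0) + (σE (a : G) e - e) := by
    rw [h1]; abel
  rw [this]; abel

variable [Finite G]

/-- an extension of a flasque module by a flasque module is flasque -/
theorem flasque_ext (σQ : Representation ℤ G Q) (σE : Representation ℤ G E)
    (σP : Representation ℤ G P) (i : Q →ₗ[ℤ] E) (π : E →ₗ[ℤ] P)
    (hi : IsEquivariant σQ σE i) (hπ : IsEquivariant σE σP π)
    (hinj : Function.Injective i) (hsurj : Function.Surjective π)
    (hex : LinearMap.range i = LinearMap.ker π)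
    (hQ : IsFlasque σQ) (hP : IsFlasque σP) : IsFlasque σE := by
  intro H m hm
  haveI : Fintype H := Fintype.ofFinite H
  rw [finsum_eq_nrm] at hm
  have h1 : (∑ᶠ h : H, σP (h : G) (π m)) = 0 := by
    rw [finsum_eq_nrm, ← map_nrm σE σP π hπ, hm, map_zero]
  have h2 := hP H (π m) h1
  obtain ⟨s, hs, hsm⟩ := aug_le_map σE σP π hπ hsurj H _ h2
  have h3 : m - s ∈ LinearMap.range i := by
    rw [hex, LinearMap.mem_ker, map_sub, hsm, sub_self]
  obtain ⟨q, hq⟩ := h3
  have h4 : nrm σQ H q = 0 := by
    apply hinj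
    rw [map_nrm σQ σE i hi, hq, map_sub, hm, nrm_aug σE H s hs, sub_zero, map_zero]
  have h5 := hQ H q (by rw [finsum_eq_nrm, h4])
  have h6 := map_mem_aug σQ σE i hi H q h5
  rw [hq] at h6
  have : m = (m - s) + s := by abel
  rw [this]
  exact add_mem h6 hs

end Ext

section Quot

variable {P : Type} [AddCommGroup P]

theorem quot_torsionFree (N : Submodule ℤ P)
    (hsat : ∀ (c : ℤ) (p : P), c ≠ 0 → c • p ∈ N → p ∈ N) : Module.IsTorsionFree ℤ (P ⧸ N) := by
  refine ⟨fun r hr m₁ m₂ h => ?_⟩
  have hr0 : r ≠ 0 := hr.ne_zero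
  induction m₁ using Submodule.Quotient.induction_on with
  | _ p₁ =>
  induction m₂ using Submodule.Quotient.induction_on with
  | _ p₂ =>
  simp only at h
  rw [← Submodule.Quotient.mk_smul, ← Submodule.Quotient.mk_smul, Submodule.Quotient.eq,
    ← smul_sub] at h
  rw [Submodule.Quotient.eq]
  exact hsat r _ hr0 h

end Quot

end Groth.Agent.Lib.Helper16GLat
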