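import Mathlib

/-!
# Galois-type product decompositions (helper16)

Abstract lemmas for S15812: pushing Chase–Harrison–Rosenberg dual families down to the invariants
of a subgroup, the reconstruction formula for a product of groups, traces of products, and the
classical fact that elements acting trivially on the residue extension of the inertia-fixed ring lie
in the inertia group (via `Ideal.Quotient.stabilizerHom_surjective`).
-/

set_option autoImplicit false
set_option linter.style.haveILetI false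
set_option linter.unusedSectionVars false

universe u v w

namespace Groth.Agent.Lib.Helper16.GalProd


section PushDown

variable {Γ : Type*} [CommGroup Γ] {A : Type*} [CommRing A] [MulSemiringAction Γ A]
  (Γ' : Subgroup Γ) [Fintype Γ']

/-- The trace over a subgroup. -/
def T (z : A) : A := ∑ ν : Γ', (ν : Γ) • z

lemma smul_T {μ : Γ} (hμ : μ ∈ Γ') (z : A) : μ • T Γ' z = T Γ' z := by
  unfold T
  rw [Finset.smul_sum]
  refine Fintype.sum_equiv (Equiv.mulLeft (⟨μ, hμ⟩ : Γ')) _ _ fun ν => ?_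
  simp [mul_smul]

lemma smul_T_comm (h : Γ) (z : A) : h • T Γ' z = T Γ' (h • z) := by
  unfold T
  rw [Finset.smul_sum]
  refine Finset.sum_congr rfl fun ν _ => ?_
  rw [smul_smul, smul_smul, mul_comm]

theorem pushdown {κ : Type*} [Fintype κ] [DecidableEq Γ] (X Y : κ → A) (t w : A)
    (h0 : ∀ g : Γ, ∑ k, X k * g • Y k = if g = 1 then t else 0)
    (ht : ∀ ν ∈ Γ', ν • t = t) (h : Γ) [Decidable (h ∈ Γ')] :
    ∑ k, T Γ' (w * X k) * h • T Γ' (Y k) = if h ∈ Γ' then t * T Γ' w else 0 := by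
  classical
  have e1 : ∀ k, T Γ' (w * X k) * h • T Γ' (Y k) =
      ∑ ν : Γ', ∑ ν' : Γ', (ν : Γ) • w * (ν : Γ) • (X k * ((ν : Γ)⁻¹ * h * ν') • Y k) := by
    intro k
    unfold T
    rw [Finset.smul_sum, Finset.sum_mul_sum]
    refine Finset.sum_congr rfl fun ν _ => Finset.sum_congr rfl fun ν' _ => ?_
    rw [smul_mul', smul_mul', smul_smul, smul_smul, mul_assoc]
    congr 3
    rw [← mul_assoc, ← mul_assoc, mul_inv_cancel, one_mul]
  rw [Finset.sum_congr rfl (fun k _ => e1 k), Finset.sum_comm]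
  have e2 : ∀ ν : Γ', ∑ k, ∑ ν' : Γ', (ν : Γ) • w * (ν : Γ) • (X k * ((ν : Γ)⁻¹ * h * ν') • Y k) =
      ∑ ν' : Γ', (ν : Γ) • w * (ν : Γ) • (if (ν : Γ)⁻¹ * h * ν' = 1 then t else 0) := by
    intro ν
    rw [Finset.sum_comm]
    refine Finset.sum_congr rfl fun ν' _ => ?_
    rw [← Finset.mul_sum, ← Finset.smul_sum, h0]
  rw [Finset.sum_congr rfl (fun ν _ => e2 ν)]
  split_ifs with hh
  · have e3 : ∀ ν : Γ', ∑ ν' : Γ', (ν : Γ) • w *
        (ν : Γ) • (if (ν : Γ)⁻¹ * h * ν' = 1 then t else 0) = (ν : Γ) • w * t := by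
      intro ν
      rw [Finset.sum_eq_single ((⟨h, hh⟩ : Γ')⁻¹ * ν)]
      · have : (ν : Γ)⁻¹ * h * ((⟨h, hh⟩ : Γ')⁻¹ * ν : Γ') = 1 := by
          push_cast
          rw [mul_comm (ν : Γ)⁻¹ h, mul_assoc, ← mul_assoc (ν : Γ)⁻¹, mul_comm (ν : Γ)⁻¹,
            mul_assoc h⁻¹, inv_mul_cancel, mul_one, mul_inv_cancel]
        rw [if_pos this, ht _ ν.2]
      · intro ν' _ hne
        rw [if_neg, smul_zero, mul_zero]
        intro h1
        apply hne
        apply Subtype.ext
        push_cast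
        have : (ν' : Γ) = h⁻¹ * ν := by
          have h2 : (ν : Γ)⁻¹ * h * ν' = 1 := h1
          calc (ν' : Γ) = h⁻¹ * ν * ((ν : Γ)⁻¹ * h * ν') := by
                rw [← mul_assoc, ← mul_assoc, mul_assoc h⁻¹, mul_inv_cancel, mul_one,
                  inv_mul_cancel, one_mul]
            _ = h⁻¹ * ν := by rw [h2, mul_one]
        exact this
      · intro h1
        exact absurd (Finset.mem_univ _) h1
    rw [Finset.sum_congr rfl (fun ν _ => e3 ν), ← Finset.sum_mul, mul_comm]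
    rfl
  · refine Finset.sum_eq_zero fun ν _ => Finset.sum_eq_zero fun ν' _ => ?_
    rw [if_neg, smul_zero, mul_zero]
    intro h1
    apply hh
    have : h = (ν : Γ) * (ν' : Γ)⁻¹ := by
      have h2 : (ν : Γ)⁻¹ * h * ν' = 1 := h1
      calc h = ν * ((ν : Γ)⁻¹ * h * ν') * (ν' : Γ)⁻¹ := by
            rw [← mul_assoc, ← mul_assoc, mul_inv_cancel, one_mul, mul_assoc, mul_inv_cancel,
              mul_one]
        _ = ν * (ν' : Γ)⁻¹ := by rw [h2, mul_one]
    rw [this]
    exact Γ'.mul_mem ν.2 (Γ'.inv_mem ν'.2)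

end PushDown



section Formula

variable {ι : Type*} [Fintype ι] [DecidableEq ι] {Z : ι → Type*} [∀ j, Group (Z j)]
  [∀ j, Fintype (Z j)] [∀ j, DecidableEq (Z j)] {A : Type*} [CommRing A]
  [MulSemiringAction (∀ j, Z j) A]

theorem formula {κ : ι → Type*} [∀ j, Fintype (κ j)] (x y : ∀ j, κ j → A) (t : ι → A)
    (hb : ∀ (j : ι) (g : ∀ j, Z j), ∑ k, x j k * g • y j k = if g j = 1 then t j else 0)
    (a : A) :
    (∏ j, t j) * a =
      ∑ k : (∀ j, κ j), (∏ j, x j (k j)) * ∑ g : (∀ j, Z j), g • ((∏ j, y j (k j)) * a) := by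
  classical
  have e1 : ∀ k : (∀ j, κ j), (∏ j, x j (k j)) * ∑ g : (∀ j, Z j), g • ((∏ j, y j (k j)) * a) =
      ∑ g : (∀ j, Z j), g • a * ∏ j, (x j (k j) * g • y j (k j)) := by
    intro k
    rw [Finset.mul_sum]
    refine Finset.sum_congr rfl fun g _ => ?_
    rw [smul_mul', Finset.prod_mul_distrib]
    have : g • ∏ j, y j (k j) = ∏ j, g • y j (k j) :=
      map_prod (MulSemiringAction.toRingHom (∀ j, Z j) A g) _ _
    rw [this]
    ring
  rw [Finset.sum_congr rfl (fun k _ => e1 k), Finset.sum_comm]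
  have e2 : ∀ g : (∀ j, Z j), ∑ k : (∀ j, κ j), g • a * ∏ j, (x j (k j) * g • y j (k j)) =
      g • a * if g = 1 then ∏ j, t j else 0 := by
    intro g
    rw [← Finset.mul_sum]
    congr 1
    have h1 := Finset.prod_univ_sum (fun (_ : ι) => (Finset.univ)) (fun j (m : κ j) => x j m * g • y j m)
    rw [Fintype.piFinset_univ] at h1
    rw [← h1]
    rw [Finset.prod_congr rfl (fun j _ => hb j g)]
    rw [Finset.prod_ite_zero]
    congr 1
    simp only [Finset.mem_univ, forall_true_left, eq_iff_iff]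
    constructor
    · intro h
      funext j
      exact h j
    · intro h j
      rw [h]; rfl
  rw [Finset.sum_congr rfl (fun g _ => e2 g)]
  rw [Finset.sum_eq_single (1 : ∀ j, Z j)]
  · rw [if_pos rfl, one_smul, mul_comm]
  · intro g _ hg
    rw [if_neg hg, mul_zero]
  · intro h
    exact absurd (Finset.mem_univ _) h

theorem tr_prod (a : ι → A)
    (hinv : ∀ (j : ι) (g g' : ∀ j, Z j), g j = g' j → g • a j = g' • a j) :
    ∑ g : (∀ j, Z j), g • ∏ j, a j = ∏ j, ∑ h : Z j, (Pi.mulSingle j h : ∀ j, Z j) • a j := by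
  classical
  have h1 := Finset.prod_univ_sum (fun (_ : ι) => (Finset.univ))
    (fun j (h : Z j) => (Pi.mulSingle j h : ∀ j, Z j) • a j)
  rw [Fintype.piFinset_univ] at h1
  rw [h1]
  refine Finset.sum_congr rfl fun g _ => ?_
  have : g • ∏ j, a j = ∏ j, g • a j :=
    map_prod (MulSemiringAction.toRingHom (∀ j, Z j) A g) _ _
  rw [this]
  refine Finset.prod_congr rfl fun j _ => ?_
  exact hinv j _ _ (by simp)

end Formula



section Inertia

open Pointwise

variable {H : Type*} [CommGroup H] [Finite H] {A : Type*} [CommRing A] [MulSemiringAction H A]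
  (E : Subgroup H)

/-- If the inertia group of `P` is contained in `E`, an element acting trivially modulo `P` on the
`E`-invariants lies in `E`. -/
theorem mem_of_trivial_on_fixed (P : Ideal A) [P.IsPrime]
    (hP : ∀ τ : H, (∀ a : A, τ • a - a ∈ P) → τ ∈ E)
    (ν : H) (hν : ∀ d : A, (∀ e : E, e • d = d) → ν • d - d ∈ P) : ν ∈ E := by
  classical
  let D := FixedPoints.subring A ↥E
  haveI : SMulCommClass ↥E ↥D A := ⟨fun e d a => by
    rw [Subring.smul_def, Subring.smul_def, smul_eq_mul, smul_eq_mul, smul_mul', d.2 e]⟩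
  haveI : Algebra.IsInvariant ↥D A ↥E := ⟨fun a ha => ⟨⟨a, ha⟩, rfl⟩⟩
  have hfixsmul : ∀ (μ : H) (d : A), (∀ e : E, e • d = d) → ∀ e : E, e • (μ • d) = μ • d := by
    intro μ d hd e
    rw [Subgroup.smul_def, smul_smul, mul_comm, ← smul_smul, ← Subgroup.smul_def, hd e]
  -- `ν • P` and `P` have the same contraction
  have hunder : (ν • P).under ↥D = P.under ↥D := by
    ext d
    rw [Ideal.under_def, Ideal.under_def, Ideal.mem_comap, Ideal.mem_comap,
      Ideal.mem_pointwise_smul_iff_inv_smul_mem]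
    have h1 := hν (ν⁻¹ • (d : A)) (hfixsmul ν⁻¹ d d.2)
    rw [smul_inv_smul] at h1
    change ν⁻¹ • (d : A) ∈ P ↔ (d : A) ∈ P
    constructor
    · intro h2
      have := P.add_mem h1 h2
      simpa using this
    · intro h2
      have := P.sub_mem h2 h1
      simpa using this
  obtain ⟨g₁, hg₁⟩ := Algebra.IsInvariant.exists_smul_of_under_eq ↥D A ↥E P (ν • P) hunder.symm
  set τ : H := (g₁ : H)⁻¹ * ν with hτ
  have hτP : τ • P = P := by
    rw [hτ, mul_smul, hg₁]
    change (g₁ : H)⁻¹ • ((g₁ : H) • P) = P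
    rw [inv_smul_smul]
  have hτD : ∀ d : A, (∀ e : E, e • d = d) → τ • d - d ∈ P := by
    intro d hd
    rw [hτ, mul_smul]
    have h1 := hfixsmul ν d hd (g₁⁻¹)
    rw [Subgroup.smul_def] at h1
    change (g₁ : H)⁻¹ • ν • d - d ∈ P
    rw [show ((g₁⁻¹ : ↥E) : H) = (g₁ : H)⁻¹ from rfl] at h1
    rw [h1]
    exact hν d hd
  -- the automorphism of `A ⧸ P` induced by `τ`
  have hmap : P = P.map ((MulSemiringAction.toRingEquiv H A τ : A ≃+* A) : A →+* A) := by
    conv_lhs => rw [← hτP]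
    rfl
  let f : (A ⧸ P) ≃+* (A ⧸ P) := Ideal.quotientEquiv P P (MulSemiringAction.toRingEquiv H A τ) hmap
  have hf : ∀ a : A, f (Ideal.Quotient.mk P a) = Ideal.Quotient.mk P (τ • a) := fun a => rfl
  let σ : (A ⧸ P) ≃ₐ[↥D ⧸ P.under ↥D] (A ⧸ P) := AlgEquiv.ofRingEquiv (f := f) (by
    intro x
    obtain ⟨d, rfl⟩ := Ideal.Quotient.mk_surjective x
    rw [Ideal.Quotient.algebraMap_mk_of_liesOver, hf, Ideal.Quotient.eq]
    exact hτD d d.2)
  obtain ⟨g₂, hg₂⟩ := Ideal.Quotient.stabilizerHom_surjective ↥E (P.under ↥D) P σ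
  -- `g₂⁻¹ τ` lies in the inertia group
  have hin : ∀ a : A, (((g₂ : ↥E) : H)⁻¹ * τ) • a - a ∈ P := by
    intro a
    have h1 : Ideal.Quotient.mk P (((g₂ : ↥E) : H) • a) = Ideal.Quotient.mk P (τ • a) := by
      have h0 := congrArg (fun s => s (Ideal.Quotient.mk P a)) hg₂
      have h01 : (Ideal.Quotient.stabilizerHom P (P.under ↥D) ↥E g₂) (Ideal.Quotient.mk P a) =
          Ideal.Quotient.mk P (((g₂ : ↥E) : H) • a) := rfl
      have h02 : σ (Ideal.Quotient.mk P a) = Ideal.Quotient.mk P (τ • a) := rfl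
      exact h01.symm.trans (h0.trans h02)
    rw [Ideal.Quotient.eq] at h1
    have hg₂P : ((g₂ : ↥E) : H) • P = P := g₂.2
    have h2 : ((g₂ : ↥E) : H)⁻¹ • (τ • a - ((g₂ : ↥E) : H) • a) ∈ P := by
      rw [← Ideal.mem_inv_pointwise_smul_iff, inv_inv, hg₂P]
      have := P.neg_mem h1
      simpa using this
    rw [smul_sub, inv_smul_smul, ← mul_smul] at h2
    exact h2
  have h3 := hP _ hin
  have h4 : ν = (g₁ : H) * (((g₂ : ↥E) : H) * ((((g₂ : ↥E) : H))⁻¹ * τ)) := by
    rw [hτ]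
    group
  rw [h4]
  exact E.mul_mem g₁.2 (E.mul_mem (g₂ : ↥E).2 h3)

end Inertia


end Groth.Agent.Lib.Helper16.GalProd
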