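import Mathlib

/-!
# Finite group actions on local domains: non-flatness over the invariants

Helper library (helper16) for `WildQuot.not_flat_fixedPoints_of_ramifiedAtOrigin` (S15794).
-/

set_option autoImplicit false
set_option linter.style.haveILetI false
set_option linter.unusedSectionVars false

universe u v w

namespace Groth.Agent.Lib.Helper16.WildFlat

open IsLocalRing

section Basic

variable {A : Type u} [CommRing A] {G : Type w} [Group G] [MulSemiringAction G A]

/-- Dedekind independence of the characters `c ↦ g • c mod P` when `P` has trivial inertia. -/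
theorem mem_of_sum_mul_smul_mem [Fintype G] (P : Ideal A) [P.IsPrime]
    (hP : ∀ σ : G, (∀ a : A, σ • a - a ∈ P) → σ = 1)
    (u : G → A) (hu : ∀ c : A, ∑ g, u g * g • c ∈ P) : ∀ g, u g ∈ P := by
  classical
  let χ : G → (A →* A ⧸ P) := fun g =>
    ((Ideal.Quotient.mk P).comp (MulSemiringAction.toRingHom G A g) : A →+* A ⧸ P)
  have hχapp : ∀ g c, χ g c = Ideal.Quotient.mk P (g • c) := fun g c => rfl
  have hχ : Function.Injective χ := by
    intro g h hgh
    have h1 : ∀ c : A, g • c - h • c ∈ P := by
      intro c
      have := DFunLike.congr_fun hgh c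
      rw [hχapp, hχapp] at this
      exact Ideal.Quotient.eq.mp this
    have h2 : g * h⁻¹ = 1 := by
      apply hP
      intro a
      have := h1 (h⁻¹ • a)
      rwa [smul_inv_smul, ← mul_smul] at this
    exact mul_inv_eq_one.mp h2
  have hli := (linearIndependent_monoidHom A (A ⧸ P)).comp χ hχ
  rw [Fintype.linearIndependent_iff] at hli
  have h0 := hli (fun g => Ideal.Quotient.mk P (u g)) (by
    funext c
    have := Ideal.Quotient.eq_zero_iff_mem.mpr (hu c)
    rw [map_sum] at this
    simp only [Function.comp_apply, Finset.sum_apply, Pi.smul_apply, smul_eq_mul, Pi.zero_apply]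
    rw [← this]
    refine Finset.sum_congr rfl fun g _ => ?_
    rw [map_mul, hχapp])
  intro g
  exact Ideal.Quotient.eq_zero_iff_mem.mp (h0 g)

/-- The trace `∑ g, g • c`. -/
def tr [Fintype G] (c : A) : A := ∑ g : G, g • c

theorem smul_tr [Fintype G] (h : G) (c : A) : h • tr (G := G) c = tr (G := G) c := by
  unfold tr
  rw [Finset.smul_sum]
  exact Fintype.sum_equiv (Equiv.mulLeft h) _ _ (fun g => by simp [mul_smul])

/-- The trace as an element of the invariant ring. -/
def trB [Fintype G] (c : A) : FixedPoints.subring A G := ⟨tr (G := G) c, fun h => smul_tr h c⟩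

@[simp] theorem coe_trB [Fintype G] (c : A) : ((trB (G := G) c : FixedPoints.subring A G) : A) =
    tr (G := G) c := rfl

theorem tr_fixed_mul [Fintype G] (β : FixedPoints.subring A G) (c : A) :
    tr (G := G) ((β : A) * c) = (β : A) * tr (G := G) c := by
  unfold tr
  rw [Finset.mul_sum]
  refine Finset.sum_congr rfl fun g _ => ?_
  rw [smul_mul', β.2 g]

theorem tr_sum [Fintype G] {ι : Type*} (s : Finset ι) (f : ι → A) :
    tr (G := G) (∑ i ∈ s, f i) = ∑ i ∈ s, tr (G := G) (f i) := by
  unfold tr
  simp_rw [Finset.smul_sum]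
  rw [Finset.sum_comm]

theorem isUnit_fixed_iff (b : FixedPoints.subring A G) : IsUnit b ↔ IsUnit (b : A) := by
  constructor
  · intro h; exact h.map (FixedPoints.subring A G).subtype
  · intro h
    obtain ⟨c, hc⟩ := h.exists_right_inv
    have hcfix : ∀ g : G, g • c = c := by
      intro g
      have h1 : (b : A) * g • c = 1 := by
        have := congrArg (g • ·) hc
        simp only [smul_mul', smul_one] at this
        rwa [b.2 g] at this
      calc g • c = 1 * g • c := (one_mul _).symm
        _ = (c * b) * g • c := by rw [mul_comm c, hc]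
        _ = c * (b * g • c) := by ring
        _ = c := by rw [h1, mul_one]
    exact IsUnit.of_mul_eq_one ⟨c, hcfix⟩ (Subtype.ext hc)

theorem isLocalRing_fixed [IsLocalRing A] : IsLocalRing (FixedPoints.subring A G) := by
  apply IsLocalRing.of_nonunits_add
  intro a b ha hb
  rw [mem_nonunits_iff, isUnit_fixed_iff] at ha hb ⊢
  exact IsLocalRing.nonunits_add ha hb

theorem isLocalHom_fixed : IsLocalHom (algebraMap (FixedPoints.subring A G) A) :=
  ⟨fun b hb => (isUnit_fixed_iff b).mpr hb⟩

theorem faithfullyFlat_fixed [IsLocalRing A] [Module.Flat (FixedPoints.subring A G) A] :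
    Module.FaithfullyFlat (FixedPoints.subring A G) A := by
  haveI := isLocalRing_fixed (A := A) (G := G)
  haveI := isLocalHom_fixed (A := A) (G := G)
  exact Module.FaithfullyFlat.of_flat_of_isLocalHom

theorem isNoetherianRing_fixed [IsNoetherianRing A]
    [Module.FaithfullyFlat (FixedPoints.subring A G) A] :
    IsNoetherianRing (FixedPoints.subring A G) := by
  rw [isNoetherianRing_iff_ideal_fg]
  intro I
  exact Ideal.FG.of_FG_map_of_faithfullyFlat (S := A) (IsNoetherian.noetherian _)

end Basic

section Phi

open TensorProduct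

variable {A : Type u} [CommRing A] {G : Type w} [Group G] [MulSemiringAction G A] [Fintype G]

/-- The map `A ⊗_{A^G} A → ∏_G A`, `a ⊗ b ↦ (a * g • b)_g`. -/
noncomputable def phi : TensorProduct (FixedPoints.subring A G) A A →ₗ[A] (G → A) :=
  TensorProduct.AlgebraTensorModule.lift
    (LinearMap.mk₂' A (FixedPoints.subring A G) (fun (a b : A) => fun g : G => a * g • b)
      (by intro a a' b; funext g; simp [add_mul])
      (by intro c a b; funext g; simp [mul_assoc])
      (by intro a b b'; funext g; simp [mul_add])
      (by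
        intro c a b; funext g
        simp only [Pi.smul_apply]
        rw [Subring.smul_def, smul_eq_mul, smul_mul', c.2 g, Subring.smul_def, smul_eq_mul]
        ring))

theorem phi_tmul (a b : A) (g : G) : phi (A := A) (G := G) (a ⊗ₜ b) g = a * g • b := rfl

theorem phi_injective [IsDomain A] [Module.Flat (FixedPoints.subring A G) A]
    [IsNoetherianRing (FixedPoints.subring A G)]
    (hfaith : ∀ σ : G, (∀ a : A, σ • a = a) → σ = 1) :
    Function.Injective (phi (A := A) (G := G)) := by
  classical
  rw [injective_iff_map_eq_zero]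
  intro x hx
  obtain ⟨s, a, b, rfl⟩ := TensorProduct.exists_sum_tmul_eq x
  have hx' : ∀ g : G, ∑ i, a i * g • b i = 0 := by
    intro g
    have := congr_fun hx g
    rw [map_sum, Finset.sum_apply] at this
    simpa only [phi_tmul, Pi.zero_apply] using this
  have hx'' : ∀ h : G, ∑ i, h • a i * b i = 0 := by
    intro h
    have := congrArg (h • ·) (hx' h⁻¹)
    simpa [Finset.smul_sum, smul_mul', smul_inv_smul] using this
  set B := FixedPoints.subring A G with hB
  let βvec : A → (Fin s →₀ B) := fun c =>
    Finsupp.equivFunOnFinite.symm (fun i => trB (G := G) (c * a i))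
  have hβvec : ∀ c i, βvec c i = trB (G := G) (c * a i) := fun c i => rfl
  let W : Submodule B (Fin s →₀ B) := Submodule.span B (Set.range βvec)
  let xmap : (Fin s →₀ B) →ₗ[B] A := Finsupp.linearCombination B b
  have hxmap : ∀ v : Fin s →₀ B, xmap v = ∑ i, ((v i : B) : A) * b i := by
    intro v
    change Finsupp.linearCombination B b v = _
    rw [Finsupp.linearCombination_apply, Finsupp.sum_fintype _ _ (fun i => by simp)]
    simp [Subring.smul_def]
  have hcomp : xmap ∘ₗ W.subtype = 0 := by
    apply LinearMap.ext
    rintro ⟨w, hw⟩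
    change xmap w = 0
    induction hw using Submodule.span_induction with
    | mem w hw =>
      obtain ⟨c, rfl⟩ := hw
      rw [hxmap]
      simp only [hβvec, coe_trB]
      unfold tr
      simp_rw [Finset.sum_mul, smul_mul']
      rw [Finset.sum_comm]
      refine Finset.sum_eq_zero fun h _ => ?_
      calc ∑ i, h • c * h • a i * b i = h • c * ∑ i, h • a i * b i := by
            rw [Finset.mul_sum]; exact Finset.sum_congr rfl fun i _ => by ring
        _ = 0 := by rw [hx'' h, mul_zero]
    | zero => simp
    | add _ _ _ _ h1 h2 => rw [map_add, h1, h2, add_zero]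
    | smul r _ _ h1 => rw [map_smul, h1, smul_zero]
  haveI : IsNoetherian B (Fin s →₀ B) := isNoetherian_of_isNoetherianRing_of_finite B _
  haveI : Module.Finite B W := Module.IsNoetherian.finite B W
  obtain ⟨k, am, y, hy, ha⟩ := @Module.Flat.exists_factorization_of_comp_eq_zero_of_free B A _ _ _ _ W (Fin s →₀ B) _ _ _ _ _ _ _
    W.subtype xmap hcomp
  -- the coefficients
  let γ : Fin s → Fin k → B := fun i j => am (Finsupp.single i 1) j
  let yj : Fin k → A := fun j => y (Finsupp.single j 1)
  have hyv : ∀ v : Fin k →₀ B, y v = ∑ j, ((v j : B) : A) * yj j := by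
    intro v
    conv_lhs => rw [← Finsupp.univ_sum_single v]
    rw [map_sum]
    refine Finset.sum_congr rfl fun j _ => ?_
    rw [← Finsupp.smul_single_one, map_smul, Subring.smul_def, smul_eq_mul]
  have hamv : ∀ (v : Fin s →₀ B) (j : Fin k), am v j = ∑ i, v i * γ i j := by
    intro v j
    conv_lhs => rw [← Finsupp.univ_sum_single v]
    rw [map_sum, Finsupp.finsetSum_apply]
    refine Finset.sum_congr rfl fun i _ => ?_
    rw [← Finsupp.smul_single_one, map_smul, Finsupp.smul_apply, smul_eq_mul]
  have hb : ∀ i, b i = ∑ j, ((γ i j : B) : A) * yj j := by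
    intro i
    have h1 : xmap (Finsupp.single i 1) = b i := by
      change Finsupp.linearCombination B b (Finsupp.single i 1) = b i
      rw [Finsupp.linearCombination_single, one_smul]
    rw [← h1, hy, LinearMap.comp_apply, hyv]
  -- the new left coefficients
  let a' : Fin k → A := fun j => ∑ i, ((γ i j : B) : A) * a i
  have htr : ∀ (c : A) (j : Fin k), tr (G := G) (c * a' j) = 0 := by
    intro c j
    have h1 : am (βvec c) = 0 := by
      have := LinearMap.congr_fun ha ⟨βvec c, Submodule.subset_span ⟨c, rfl⟩⟩
      simpa using this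
    have h2 := congrArg (fun v : Fin k →₀ B => ((v j : B) : A)) h1
    simp only [hamv, hβvec, Finsupp.coe_zero, Pi.zero_apply, ZeroMemClass.coe_zero] at h2
    rw [← h2]
    change tr (G := G) (c * ∑ i, ((γ i j : B) : A) * a i) = _
    rw [Finset.mul_sum, tr_sum]
    push_cast
    refine Finset.sum_congr rfl fun i _ => ?_
    rw [show c * (((γ i j : B) : A) * a i) = ((γ i j : B) : A) * (c * a i) by ring, tr_fixed_mul,
      coe_trB, mul_comm]
  have ha' : ∀ j, a' j = 0 := by
    intro j
    have h5 := mem_of_sum_mul_smul_mem (⊥ : Ideal A)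
      (fun σ hσ => hfaith σ fun a => sub_eq_zero.mp (by simpa using hσ a))
      (fun g => g • a' j) (by
        intro c
        rw [Ideal.mem_bot, ← htr c j]
        unfold tr
        exact Finset.sum_congr rfl fun g _ => by rw [smul_mul', mul_comm]) 1
    simpa using h5
  -- conclude
  calc ∑ i, a i ⊗ₜ[B] b i = ∑ i, ∑ j, a i ⊗ₜ[B] (((γ i j : B) : A) * yj j) := by
        refine Finset.sum_congr rfl fun i _ => ?_
        rw [hb i, TensorProduct.tmul_sum]
    _ = ∑ i, ∑ j, (((γ i j : B) : A) * a i) ⊗ₜ[B] yj j := by
        refine Finset.sum_congr rfl fun i _ => Finset.sum_congr rfl fun j _ => ?_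
        rw [← smul_eq_mul, ← Subring.smul_def, TensorProduct.tmul_smul,
          TensorProduct.smul_tmul', Subring.smul_def, smul_eq_mul]
    _ = ∑ j, (a' j) ⊗ₜ[B] yj j := by
        rw [Finset.sum_comm]
        refine Finset.sum_congr rfl fun j _ => ?_
        rw [TensorProduct.sum_tmul]
    _ = 0 := by
        refine Finset.sum_eq_zero fun j _ => ?_
        rw [ha' j, TensorProduct.zero_tmul]

theorem finite_of_flat [IsLocalRing A] [IsNoetherianRing A] [IsDomain A]
    [Module.Flat (FixedPoints.subring A G) A]
    (hfaith : ∀ σ : G, (∀ a : A, σ • a = a) → σ = 1) :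
    Module.Finite (FixedPoints.subring A G) A := by
  haveI := faithfullyFlat_fixed (A := A) (G := G)
  haveI := isNoetherianRing_fixed (A := A) (G := G)
  haveI : Module.Finite A (TensorProduct (FixedPoints.subring A G) A A) :=
    Module.Finite.of_injective (phi (A := A) (G := G)) (phi_injective hfaith)
  exact Module.Finite.of_finite_tensorProduct_of_faithfullyFlat A

end Phi

section Main

variable {A : Type u} [CommRing A] {G : Type w} [Group G] [MulSemiringAction G A] [Fintype G]

/-- If `A` is a finite free module over the invariant ring, the action cannot be ramified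
precisely at the closed point of a local Noetherian domain of dimension at least `2`. -/
theorem false_of_free [IsLocalRing A] [IsNoetherianRing A] [IsDomain A]
    (hcard : 2 ≤ Fintype.card G)
    (hres : ∀ (σ : G) (a : A), σ • a - a ∈ maximalIdeal A)
    (hram : ∀ P : Ideal A, P.IsPrime → P ≠ maximalIdeal A →
      ∀ σ : G, (∀ a : A, σ • a - a ∈ P) → σ = 1)
    (hdim : 2 ≤ ringKrullDim A)
    [Module.Finite (FixedPoints.subring A G) A] [Module.Free (FixedPoints.subring A G) A] :
    False := by
  classical
  set B := FixedPoints.subring A G with hB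
  let ι := Module.Free.ChooseBasisIndex B A
  let bs : Module.Basis ι B A := Module.Free.chooseBasis B A
  -- heights
  have hm : (2 : ℕ∞) ≤ (maximalIdeal A).height := by
    have : ((2 : ℕ∞) : WithBot ℕ∞) ≤ ((maximalIdeal A).height : WithBot ℕ∞) := by
      rw [IsLocalRing.maximalIdeal_height_eq_ringKrullDim]; exact hdim
    exact_mod_cast this
  have hbot : (⊥ : Ideal A) ≠ maximalIdeal A := by
    intro h
    rw [← h, Ideal.height_bot] at hm
    exact absurd hm (by norm_num)
  -- rows
  have hrow : ∀ (P : Ideal A), P.IsPrime → P ≠ maximalIdeal A → ∀ u : G → A,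
      (∀ i, ∑ g, u g * g • bs i ∈ P) → ∀ g, u g ∈ P := by
    intro P hP hPm u hu
    haveI := hP
    apply mem_of_sum_mul_smul_mem P (hram P hP hPm) u
    intro c
    obtain ⟨β, hβ⟩ : ∃ β : ι → B, c = ∑ i, ((β i : B) : A) * bs i :=
      ⟨fun i => bs.repr c i, by
        conv_lhs => rw [← bs.sum_repr c]
        simp [Subring.smul_def]⟩
    have hg : ∀ g : G, g • c = ∑ i, ((β i : B) : A) * g • bs i := by
      intro g
      rw [hβ, Finset.smul_sum]
      refine Finset.sum_congr rfl fun i _ => ?_
      rw [smul_mul', (β i).2 g]
    have : ∑ g, u g * g • c = ∑ i, ((β i : B) : A) * ∑ g, u g * g • bs i := by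
      simp_rw [hg, Finset.mul_sum]
      rw [Finset.sum_comm]
      refine Finset.sum_congr rfl fun i _ => Finset.sum_congr rfl fun g _ => by ring
    rw [this]
    exact Ideal.sum_mem _ fun i _ => Ideal.mul_mem_left _ _ (hu i)
  -- columns
  have hcol : ∀ l : ι → A, (∀ g : G, ∑ i, g • bs i * l i = 0) → ∀ i, l i = 0 := by
    intro l hl
    have h1 : ∀ h : G, ∑ i, bs i * h • l i = 0 := by
      intro h
      have := congrArg (h • ·) (hl h⁻¹)
      simpa [Finset.smul_sum, smul_mul', smul_inv_smul] using this
    have h2 : ∀ c : A, ∀ i, tr (G := G) (c * l i) = 0 := by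
      intro c
      have h3 : ∑ i, trB (G := G) (c * l i) • bs i = 0 := by
        simp only [Subring.smul_def, coe_trB, smul_eq_mul]
        unfold tr
        simp_rw [Finset.sum_mul, smul_mul']
        rw [Finset.sum_comm]
        refine Finset.sum_eq_zero fun h _ => ?_
        calc ∑ i, h • c * h • l i * bs i = h • c * ∑ i, bs i * h • l i := by
              rw [Finset.mul_sum]; exact Finset.sum_congr rfl fun i _ => by ring
          _ = 0 := by rw [h1 h, mul_zero]
      have h4 := (Fintype.linearIndependent_iff.mp bs.linearIndependent) _ h3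
      intro i
      exact congrArg Subtype.val (h4 i)
    intro i
    have h5 := mem_of_sum_mul_smul_mem (⊥ : Ideal A) (hram ⊥ Ideal.isPrime_bot hbot)
      (fun g => g • l i) (by
        intro c
        rw [Ideal.mem_bot, ← h2 c i]
        unfold tr
        exact Finset.sum_congr rfl fun g _ => by rw [smul_mul', mul_comm]) 1
    simpa using h5
  -- cardinalities
  have hli1 : LinearIndependent A (fun g : G => (fun i => g • bs i : ι → A)) := by
    rw [Fintype.linearIndependent_iff]
    intro u hu
    have := hrow ⊥ Ideal.isPrime_bot hbot u (fun i => by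
      have := congr_fun hu i
      simpa [Finset.sum_apply] using this)
    intro g
    simpa using this g
  have hli2 : LinearIndependent A (fun i : ι => (fun g => g • bs i : G → A)) := by
    rw [Fintype.linearIndependent_iff]
    intro l hl
    apply hcol l
    intro g
    have := congr_fun hl g
    simp only [Finset.sum_apply, Pi.smul_apply, smul_eq_mul, Pi.zero_apply] at this
    rw [← this]
    exact Finset.sum_congr rfl fun i _ => mul_comm _ _
  have hc1 : Fintype.card G ≤ Fintype.card ι :=
    hli1.fintype_card_le_finrank.trans_eq (Module.finrank_fintype_fun_eq_card A)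
  have hc2 : Fintype.card ι ≤ Fintype.card G :=
    hli2.fintype_card_le_finrank.trans_eq (Module.finrank_fintype_fun_eq_card A)
  let e : ι ≃ G := Fintype.equivOfCardEq (le_antisymm hc2 hc1)
  let N : Matrix G G A := fun g h => g • bs (e.symm h)
  -- the determinant is a unit away from the closed point
  have hdet : ∀ P : Ideal A, P.IsPrime → P ≠ maximalIdeal A → N.det ∉ P := by
    intro P hP hPm hmem
    haveI := hP
    have h0 : ((Ideal.Quotient.mk P).mapMatrix N).det = 0 := by
      rw [← RingHom.map_det]; exact Ideal.Quotient.eq_zero_iff_mem.mpr hmem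
    obtain ⟨v, hv0, hv⟩ := Matrix.exists_vecMul_eq_zero_iff.mpr h0
    have hsurj := Ideal.Quotient.mk_surjective (I := P)
    choose u hu using fun g => hsurj (v g)
    have hall := hrow P hP hPm u (by
      intro i
      have := congr_fun hv (e i)
      rw [← Ideal.Quotient.eq_zero_iff_mem]
      simp only [Matrix.vecMul, dotProduct, RingHom.mapMatrix_apply, Matrix.map_apply,
        Pi.zero_apply] at this
      rw [map_sum, ← this]
      refine Finset.sum_congr rfl fun g _ => ?_
      rw [map_mul, hu g]
      simp [N])
    apply hv0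
    funext g
    rw [← hu g]
    exact Ideal.Quotient.eq_zero_iff_mem.mpr (hall g)
  -- the determinant lies in the maximal ideal
  have hdetm : N.det ∈ maximalIdeal A := by
    obtain ⟨σ, hσ⟩ := Fintype.exists_ne_of_one_lt_card (by omega : 1 < Fintype.card G) (1 : G)
    rw [← Ideal.Quotient.eq_zero_iff_mem, RingHom.map_det]
    apply Matrix.det_zero_of_row_eq hσ
    funext h
    change Ideal.Quotient.mk (maximalIdeal A) (N σ h) = Ideal.Quotient.mk (maximalIdeal A) (N 1 h)
    rw [Ideal.Quotient.eq]
    change σ • bs (e.symm h) - (1 : G) • bs (e.symm h) ∈ _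
    rw [one_smul]
    exact hres σ _
  -- Krull's principal ideal theorem
  have hne : Ideal.span {N.det} ≠ ⊤ := by
    intro h
    rw [Ideal.span_singleton_eq_top] at h
    exact (mem_maximalIdeal _).mp hdetm h
  obtain ⟨P, hP⟩ := Ideal.nonempty_minimalPrimes hne
  have hP1 : P.height ≤ 1 := Ideal.height_le_one_of_isPrincipal_of_mem_minimalPrimes _ P hP
  have hPm : P ≠ maximalIdeal A := by
    rintro rfl
    exact absurd (hm.trans hP1) (by norm_num)
  exact hdet P hP.1.1 hPm (hP.1.2 (Ideal.mem_span_singleton_self _))

end Main

end Groth.Agent.Lib.Helper16.WildFlat
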