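import Mathlib
import Groth.Agent.Lib.Helper16WildFlat

/-!
# Finite group actions with trivial inertia: flatness over the invariants (helper16)

A Chase–Harrison–Rosenberg style argument: if `s₀ ∈ A^G` has a power in each of the ideals
`(σ a - a : a ∈ A)`, `σ ≠ 1`, then there are a `t`, a power of `s₀`, and finite families with
`∑ x_i τ(y_i) = δ_{τ,1} t`.  Consequently `A[1/t]` is a retract of a flat `A^G`-module, hence flat,
and so are the localizations of `A` at primes not containing `t`.
-/

set_option autoImplicit false
set_option linter.style.haveILetI false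
set_option linter.unusedSectionVars false

universe u v w

namespace Groth.Agent.Lib.Helper16.WildEt

open IsLocalRing Groth.Agent.Lib.Helper16.WildFlat

section Galois

variable {A : Type u} [CommRing A] {G : Type w} [Group G] [MulSemiringAction G A]

/-- `hat y = (τ ↦ τ • y)`. -/
def hat : A →+* (G → A) := RingHom.pi (fun τ => MulSemiringAction.toRingHom G A τ)

@[simp] lemma hat_apply (y : A) (τ : G) : hat (G := G) y τ = τ • y := rfl

/-- The `A`-subalgebra of `G → A` generated by the `hat y`. -/
def SS (A : Type u) [CommRing A] (G : Type w) [Group G] [MulSemiringAction G A] :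
    Subalgebra A (G → A) := Algebra.adjoin A (Set.range (hat (A := A) (G := G)))

lemma exists_mem_SS_of_mem_span (σ : G) (z : A)
    (hz : z ∈ Ideal.span (Set.range fun a : A => σ • a - a)) :
    ∃ f ∈ SS A G, f σ = 0 ∧ f 1 = z := by
  induction hz using Submodule.span_induction with
  | mem z hz =>
    obtain ⟨a, rfl⟩ := hz
    refine ⟨algebraMap A (G → A) (σ • a) - hat a, ?_, ?_, ?_⟩
    · exact sub_mem (Subalgebra.algebraMap_mem _ _) (Algebra.subset_adjoin ⟨a, rfl⟩)
    · simp [Pi.algebraMap_apply]
    · simp [Pi.algebraMap_apply]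
  | zero => exact ⟨0, zero_mem _, rfl, rfl⟩
  | add x y _ _ hx hy =>
    obtain ⟨f, hf, hf1, hf2⟩ := hx
    obtain ⟨g, hg, hg1, hg2⟩ := hy
    exact ⟨f + g, add_mem hf hg, by simp [hf1, hg1], by simp [hf2, hg2]⟩
  | smul c x _ hx =>
    obtain ⟨f, hf, hf1, hf2⟩ := hx
    exact ⟨c • f, Subalgebra.smul_mem _ hf c, by simp [hf1], by simp [hf2]⟩

lemma exists_finsupp_of_mem_SS (F : G → A) (hF : F ∈ SS A G) :
    ∃ c : A →₀ A, ∀ τ : G, ∑ y ∈ c.support, c y * τ • y = F τ := by
  have h1 : F ∈ Submodule.span A (Set.range (hat (A := A) (G := G))) := by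
    have h2 : F ∈ Subalgebra.toSubmodule (SS A G) := hF
    rw [SS, Algebra.adjoin_eq_span] at h2
    have h3 : (Submonoid.closure (Set.range (hat (A := A) (G := G))) : Set (G → A)) =
        Set.range (hat (A := A) (G := G)) := by
      have : Set.range (hat (A := A) (G := G)) =
          ((MonoidHom.mrange (hat (A := A) (G := G)).toMonoidHom : Submonoid (G → A)) :
            Set (G → A)) := by
        ext; simp
      rw [this, Submonoid.closure_eq]
    rwa [h3] at h2
  obtain ⟨c, hc⟩ := (Finsupp.mem_span_range_iff_exists_finsupp).mp h1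
  refine ⟨c, fun τ => ?_⟩
  rw [← hc, Finsupp.sum, Finset.sum_apply]
  simp
  
/-- The Chase–Harrison–Rosenberg families. -/
theorem exists_dual_families [Fintype G] [DecidableEq G] (q : Ideal (FixedPoints.subring A G)) [q.IsPrime]
    (s₀ : FixedPoints.subring A G) (hs₀ : s₀ ∉ q)
    (hrad : ∀ σ : G, σ ≠ 1 →
      (s₀ : A) ∈ (Ideal.span (Set.range fun a : A => σ • a - a)).radical) :
    ∃ (t : FixedPoints.subring A G) (_ : t ∉ q) (c : A →₀ A),
      ∀ τ : G, ∑ y ∈ c.support, c y * τ • y = if τ = 1 then (t : A) else 0 := by
  have h1 : ∀ σ : G, ∃ n : ℕ, σ ≠ 1 →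
      (s₀ : A) ^ n ∈ Ideal.span (Set.range fun a : A => σ • a - a) := by
    intro σ
    by_cases hσ : σ = 1
    · exact ⟨0, fun h => absurd hσ h⟩
    · obtain ⟨n, hn⟩ := hrad σ hσ
      exact ⟨n, fun _ => hn⟩
  choose N hN using h1
  have h2 : ∀ σ : G, ∃ f ∈ SS A G, σ ≠ 1 → f σ = 0 ∧ f 1 = (s₀ : A) ^ N σ := by
    intro σ
    by_cases hσ : σ = 1
    · exact ⟨1, one_mem _, fun h => absurd hσ h⟩
    · obtain ⟨f, hf, hf1, hf2⟩ := exists_mem_SS_of_mem_span σ _ (hN σ hσ)
      exact ⟨f, hf, fun _ => ⟨hf1, hf2⟩⟩
  choose f hfS hf using h2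
  set F : G → A := ∏ σ ∈ Finset.univ.erase (1 : G), f σ with hF
  have hFS : F ∈ SS A G := Subalgebra.prod_mem _ fun σ _ => hfS σ
  set t : FixedPoints.subring A G := ∏ σ ∈ Finset.univ.erase (1 : G), s₀ ^ N σ with ht
  have htq : t ∉ q := by
    rw [ht, Ideal.IsPrime.prod_mem_iff]
    rintro ⟨σ, -, hσ⟩
    exact hs₀ (Ideal.IsPrime.mem_of_pow_mem inferInstance _ hσ)
  obtain ⟨c, hc⟩ := exists_finsupp_of_mem_SS F hFS
  refine ⟨t, htq, c, fun τ => ?_⟩
  rw [hc τ, hF, Finset.prod_apply]
  split_ifs with hτ
  · subst hτ
    rw [ht, ← Subring.coe_subtype, map_prod]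
    refine Finset.prod_congr rfl fun σ hσ => ?_
    rw [(hf σ (Finset.ne_of_mem_erase hσ)).2]
    simp
  · exact Finset.prod_eq_zero (Finset.mem_erase.mpr ⟨hτ, Finset.mem_univ τ⟩) (hf τ hτ).1

end Galois

section Retract

variable {A : Type u} [CommRing A] {G : Type w} [Group G] [MulSemiringAction G A] [Fintype G]

local notation "B" => FixedPoints.subring A G

/-- The trace as a linear map over the invariants. -/
def trLin : A →ₗ[FixedPoints.subring A G] FixedPoints.subring A G where
  toFun := trB (G := G)
  map_add' a b := by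
    apply Subtype.ext
    simp only [coe_trB, Subring.coe_add]
    unfold tr
    simp [smul_add, Finset.sum_add_distrib]
  map_smul' b a := by
    apply Subtype.ext
    simp only [coe_trB, RingHom.id_apply, Subring.smul_def, smul_eq_mul, Subring.coe_mul]
    exact tr_fixed_mul b a

@[simp] lemma trLin_apply (a : A) : ((trLin (G := G) a : FixedPoints.subring A G) : A) =
    ∑ τ : G, τ • a := rfl

/-- `A[1/t]` is flat over the invariants when `t` admits Chase–Harrison–Rosenberg families. -/
theorem flat_away [DecidableEq G] (t : FixedPoints.subring A G) (c : A →₀ A)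
    (hc : ∀ τ : G, ∑ y ∈ c.support, c y * τ • y = if τ = 1 then (t : A) else 0) :
    Module.Flat (FixedPoints.subring A G) (Localization.Away (t : A)) := by
  let ι := c.support
  let φ : A →ₗ[B] (ι → B) :=
    LinearMap.pi fun i => (trLin (G := G)).comp (LinearMap.mulLeft B (i : A))
  let ψ : (ι → B) →ₗ[B] A := Fintype.linearCombination B (fun i : ι => c i)
  have hψφ : ψ ∘ₗ φ = t • LinearMap.id := by
    apply LinearMap.ext
    intro a
    change Fintype.linearCombination B (fun i : ι => c i) (φ a) = t • a
    rw [Fintype.linearCombination_apply]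
    have h1 : ∀ i : ι, (φ a i) • c (i : A) = ∑ τ : G, (c (i : A) * τ • (i : A)) * τ • a := by
      intro i
      change (trLin (G := G) ((i : A) * a)) • c (i : A) = _
      rw [Subring.smul_def, trLin_apply, smul_eq_mul, Finset.sum_mul]
      refine Finset.sum_congr rfl fun τ _ => ?_
      rw [smul_mul']
      ring
    simp_rw [h1]
    rw [Finset.sum_comm]
    simp_rw [← Finset.sum_mul]
    have h2 : ∀ τ : G, ∑ i : ι, c (i : A) * τ • (i : A) = if τ = 1 then (t : A) else 0 := by
      intro τ
      rw [← hc τ]
      exact Finset.sum_coe_sort c.support (fun y => c y * τ • y)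
    simp_rw [h2]
    rw [Finset.sum_eq_single (1 : G)]
    · simp [Subring.smul_def]
    · intro τ _ hτ
      simp [hτ]
    · intro h
      exact absurd (Finset.mem_univ _) h
  -- localize
  let T : Submonoid B := Submonoid.powers t
  let ℓ : A →ₗ[B] Localization.Away (t : A) :=
    (IsScalarTower.toAlgHom B A (Localization.Away (t : A))).toLinearMap
  haveI hloc : IsLocalizedModule T ℓ := by
    rw [isLocalizedModule_iff_isLocalization]
    have e : Algebra.algebraMapSubmonoid A T = Submonoid.powers (t : A) := by
      change Submonoid.map (algebraMap B A) (Submonoid.powers t) = _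
      rw [Submonoid.map_powers]
      rfl
    rw [e]
    infer_instance
  let g := LocalizedModule.mkLinearMap T (ι → B)
  let φ' := IsLocalizedModule.map T ℓ g φ
  let ψ' := IsLocalizedModule.map T g ℓ ψ
  have hcomp : ψ' ∘ₗ φ' = t • LinearMap.id := by
    change IsLocalizedModule.map T g ℓ ψ ∘ₗ IsLocalizedModule.map T ℓ g φ = _
    rw [← IsLocalizedModule.map_comp', hψφ, map_smul, IsLocalizedModule.map_id]
  let inv : Localization.Away (t : A) →ₗ[B] Localization.Away (t : A) :=
    LinearMap.mulLeft B (IsLocalization.Away.invSelf (t : A))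
  have hretr : (inv ∘ₗ ψ') ∘ₗ φ' = LinearMap.id := by
    rw [LinearMap.comp_assoc, hcomp]
    apply LinearMap.ext
    intro z
    change IsLocalization.Away.invSelf (t : A) * (t • z) = z
    rw [Algebra.smul_def, IsScalarTower.algebraMap_apply B A (Localization.Away (t : A)),
      ← mul_assoc, mul_comm (IsLocalization.Away.invSelf (t : A))]
    change algebraMap A (Localization.Away (t : A)) (t : A) * _ * z = z
    rw [IsLocalization.Away.mul_invSelf, one_mul]
  haveI : Module.Flat B (LocalizedModule T (ι → B)) := by
    haveI : Module.Flat (Localization T) (LocalizedModule T (ι → B)) := inferInstance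
    haveI : Module.Flat B (Localization T) := IsLocalization.flat _ T
    exact Module.Flat.trans B (Localization T) _
  exact Module.Flat.of_retract (R := B) (M := LocalizedModule T (ι → B))
    (N := Localization.Away (t : A)) φ' (inv ∘ₗ ψ') hretr

end Retract

section Main

variable {A : Type u} [CommRing A] {G : Type w} [Group G] [MulSemiringAction G A] [Fintype G]

local notation "B" => FixedPoints.subring A G

/-- Localizations of `A` at primes not containing `t` are flat over the localization of the
invariants. -/
theorem flat_localization [DecidableEq G] (q : Ideal B) [q.IsPrime] (P : Ideal A) [P.IsPrime]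
    [P.LiesOver q] (t : B) (htq : t ∉ q) (c : A →₀ A)
    (hc : ∀ τ : G, ∑ y ∈ c.support, c y * τ • y = if τ = 1 then (t : A) else 0) :
    letI := Localization.AtPrime.algebraOfLiesOver q P
    Module.Flat (Localization.AtPrime q) (Localization.AtPrime P) := by
  letI := Localization.AtPrime.algebraOfLiesOver q P
  have htP : (t : A) ∉ P := by
    intro h
    apply htq
    rw [Ideal.LiesOver.over (p := q) (P := P)]
    exact h
  have hle : Submonoid.powers (t : A) ≤ P.primeCompl := by
    rw [Submonoid.powers_le]
    exact htP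
  letI alg : Algebra (Localization.Away (t : A)) (Localization.AtPrime P) :=
    IsLocalization.localizationAlgebraOfSubmonoidLe (Localization.Away (t : A))
      (Localization.AtPrime P) (Submonoid.powers (t : A)) P.primeCompl hle
  haveI : IsScalarTower A (Localization.Away (t : A)) (Localization.AtPrime P) :=
    IsLocalization.localization_isScalarTower_of_submonoid_le _ _ _ _ hle
  haveI : IsLocalization (P.primeCompl.map (algebraMap A (Localization.Away (t : A))))
      (Localization.AtPrime P) :=
    IsLocalization.isLocalization_of_submonoid_le _ _ (Submonoid.powers (t : A)) P.primeCompl hle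
  haveI : Module.Flat (Localization.Away (t : A)) (Localization.AtPrime P) :=
    IsLocalization.flat _ (P.primeCompl.map (algebraMap A (Localization.Away (t : A))))
  haveI : IsScalarTower B (Localization.Away (t : A)) (Localization.AtPrime P) :=
    IsScalarTower.to₁₃₄ B A (Localization.Away (t : A)) (Localization.AtPrime P)
  haveI := flat_away t c hc
  have hflat : Module.Flat B (Localization.AtPrime P) :=
    Module.Flat.trans B (Localization.Away (t : A)) (Localization.AtPrime P)
  exact (Module.flat_iff_of_isLocalization (Localization.AtPrime q) q.primeCompl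
    (Localization.AtPrime P)).mpr hflat

end Main

end Groth.Agent.Lib.Helper16.WildEt
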