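import Mathlib
import Groth.Agent.Lib.Helper16GalProd
import Groth.Agent.Lib.Helper16WildEt

set_option autoImplicit false
set_option linter.style.haveILetI false
set_option linter.unusedSectionVars false

universe u v w

namespace Groth.Agent.Lib.Helper16.GalProd

section AbstractLocal

variable {ι : Type*} [Fintype ι] [DecidableEq ι] {Z : ι → Type w} [∀ j, CommGroup (Z j)]
  [∀ j, Fintype (Z j)] [∀ j, DecidableEq (Z j)] {B : Type v} [CommRing B]
  [MulSemiringAction (∀ j, Z j) B] {R : Type u} [CommRing R]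

lemma bij_ker_mulSingle (j : ι) :
    Function.Bijective (fun p : ↥(Pi.evalMonoidHom Z j).ker × Z j =>
      ((p.1 : ∀ j, Z j) * Pi.mulSingle j p.2)) := by
  constructor
  · rintro ⟨ν, h⟩ ⟨ν', h'⟩ heq
    have heq' : (ν : ∀ j, Z j) * Pi.mulSingle j h = (ν' : ∀ j, Z j) * Pi.mulSingle j h' := heq
    have hj := congrFun heq' j
    have hν : (ν : ∀ j, Z j) j = 1 := ν.2
    have hν' : (ν' : ∀ j, Z j) j = 1 := ν'.2
    simp only [Pi.mul_apply, Pi.mulSingle_eq_same, hν, hν', one_mul] at hj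
    subst hj
    have := mul_right_cancel heq'
    exact Prod.ext (Subtype.ext this) rfl
  · intro g
    refine ⟨(⟨g * Pi.mulSingle j (g j)⁻¹, ?_⟩, g j), ?_⟩
    · rw [MonoidHom.mem_ker]
      simp
    · change g * Pi.mulSingle j (g j)⁻¹ * Pi.mulSingle j (g j) = g
      rw [mul_assoc, ← Pi.mulSingle_mul, inv_mul_cancel, Pi.mulSingle_one, mul_one]

theorem exists_local_families (f : R →+* B) (hf : ∀ (g : ∀ j, Z j) (r : R), g • f r = f r)
    (hfixB : ∀ b : B, (∀ g : ∀ j, Z j, g • b = b) → b ∈ Set.range f)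
    (P₀ : Ideal B) [P₀.IsPrime]
    (hs : ∀ σ : ∀ j, Z j, σ ≠ 1 → ∃ s : R, f s ∉ P₀ ∧
      f s ∈ Ideal.span (Set.range fun b : B => σ • b - b)) :
    ∃ t : R, f t ∉ P₀ ∧ ∃ (κ : Type v) (_ : Fintype κ) (x y : ι → κ → B),
      (∀ j k (g : ∀ j, Z j), g j = 1 → g • x j k = x j k) ∧
      (∀ j k (g : ∀ j, Z j), g j = 1 → g • y j k = y j k) ∧
      (∀ j (g : ∀ j, Z j), g j = 1 → ∑ k, x j k * g • y j k = f t) ∧
      (∀ j (g : ∀ j, Z j), g j ≠ 1 → ∑ k, x j k * g • y j k = 0) := by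
  classical
  -- step 1: a common `s₀`
  have h1 : ∀ σ : ∀ j, Z j, ∃ s : R, f s ∉ P₀ ∧ (σ ≠ 1 →
      f s ∈ Ideal.span (Set.range fun b : B => σ • b - b)) := by
    intro σ
    by_cases hσ : σ = 1
    · refine ⟨1, ?_, fun h => absurd hσ h⟩
      rw [map_one]
      exact (Ideal.ne_top_iff_one P₀).mp (Ideal.IsPrime.ne_top inferInstance)
    · obtain ⟨s, hs1, hs2⟩ := hs σ hσ
      exact ⟨s, hs1, fun _ => hs2⟩
  choose s hs1 hs2 using h1
  set s₀ : R := ∏ σ, s σ with hs₀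
  have hs₀P : f s₀ ∉ P₀ := by
    rw [hs₀, map_prod, Ideal.IsPrime.prod_mem_iff]
    rintro ⟨σ, -, hσ⟩
    exact hs1 σ hσ
  have hs₀J : ∀ σ : ∀ j, Z j, σ ≠ 1 →
      f s₀ ∈ Ideal.span (Set.range fun b : B => σ • b - b) := by
    intro σ hσ
    exact Ideal.mem_of_dvd _ (map_dvd f (Finset.dvd_prod_of_mem s (Finset.mem_univ σ))) (hs2 σ hσ)
  -- step 2: Chase–Harrison–Rosenberg
  let F := FixedPoints.subring B (∀ j, Z j)
  let q : Ideal F := Ideal.comap F.subtype P₀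
  haveI : q.IsPrime := Ideal.comap_isPrime _ _
  have hfix_f : ∀ r : R, f r ∈ F := fun r g => hf g r
  obtain ⟨t', ht'q, c, hc⟩ := Groth.Agent.Lib.Helper16.WildEt.exists_dual_families
    (A := B) (G := ∀ j, Z j) q ⟨f s₀, hfix_f s₀⟩ (fun h => hs₀P h)
    (fun σ hσ => Ideal.le_radical (hs₀J σ hσ))
  obtain ⟨t₁, ht₁⟩ := hfixB (t' : B) (fun g => t'.2 g)
  have ht₁P : f t₁ ∉ P₀ := by
    rw [ht₁]; exact ht'q
  -- step 3: the families
  let κ := ↥c.support
  let X : κ → B := fun k => c k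
  let Y : κ → B := fun k => (k : B)
  have h0 : ∀ g : ∀ j, Z j, ∑ k : κ, X k * g • Y k = if g = 1 then f t₁ else 0 := by
    intro g
    rw [ht₁, ← hc g]
    exact Finset.sum_coe_sort c.support (fun y => c y * g • y)
  -- step 4: an element with trace outside `P₀`
  have hk₀ : ∃ k₀ : κ, (∑ g : ∀ j, Z j, g • Y k₀) ∉ P₀ := by
    by_contra hcon
    push Not at hcon
    apply ht₁P
    have h3 : f t₁ = ∑ k : κ, X k * ∑ g : ∀ j, Z j, g • Y k := by
      have h2 : ∑ g : ∀ j, Z j, ∑ k : κ, X k * g • Y k = f t₁ := by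
        rw [Finset.sum_congr rfl (fun g _ => h0 g)]
        simp
      rw [← h2, Finset.sum_comm]
      refine Finset.sum_congr rfl fun k _ => ?_
      rw [Finset.mul_sum]
    rw [h3]
    exact Ideal.sum_mem _ fun k _ => Ideal.mul_mem_left _ _ (hcon k)
  obtain ⟨k₀, hk₀⟩ := hk₀
  set u' : B := ∑ g : ∀ j, Z j, g • Y k₀ with hu'
  have hu'fix : ∀ g : ∀ j, Z j, g • u' = u' := by
    intro g
    rw [hu', Finset.smul_sum]
    exact Fintype.sum_equiv (Equiv.mulLeft g) _ _ (fun γ => (mul_smul g γ _).symm)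
  obtain ⟨u₁, hu₁⟩ := hfixB u' hu'fix
  -- step 5: the subgroups and the elements `w_j`
  let Γ' : ι → Subgroup (∀ j, Z j) := fun j => (Pi.evalMonoidHom Z j).ker
  haveI : ∀ j, Fintype ↥(Γ' j) := fun j => Fintype.ofFinite _
  have hmemΓ' : ∀ j (g : ∀ j, Z j), g ∈ Γ' j ↔ g j = 1 := fun j g => Iff.rfl
  let wj : ι → B := fun j => ∑ h : Z j, (Pi.mulSingle j h : ∀ j, Z j) • Y k₀
  have hTw : ∀ j, T (Γ' j) (wj j) = u' := by
    intro j
    have e1 : T (Γ' j) (wj j) =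
        ∑ ν : ↥(Γ' j), ∑ h : Z j, ((ν : ∀ j, Z j) * Pi.mulSingle j h) • Y k₀ := by
      unfold T
      refine Finset.sum_congr rfl fun ν _ => ?_
      rw [Finset.smul_sum]
      refine Finset.sum_congr rfl fun h _ => ?_
      rw [smul_smul]
    rw [e1, ← Fintype.sum_prod_type'
      (fun (ν : ↥(Γ' j)) (h : Z j) => ((ν : ∀ j, Z j) * Pi.mulSingle j h) • Y k₀)]
    exact Fintype.sum_bijective (fun p : ↥(Γ' j) × Z j => (p.1 : ∀ j, Z j) * Pi.mulSingle j p.2)
      (bij_ker_mulSingle j) _ _ (fun _ => rfl)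
  -- step 6: push down
  have hpush : ∀ j (g : ∀ j, Z j), ∑ k, T (Γ' j) (wj j * X k) * g • T (Γ' j) (Y k) =
      if g ∈ Γ' j then f t₁ * T (Γ' j) (wj j) else 0 := fun j g =>
    pushdown (Γ' j) X Y (f t₁) (wj j) h0 (fun ν _ => hf ν t₁) g
  refine ⟨t₁ * u₁, ?_, κ, inferInstance, fun j k => T (Γ' j) (wj j * X k),
    fun j k => T (Γ' j) (Y k), ?_, ?_, ?_, ?_⟩
  · rw [map_mul]
    intro h
    rcases Ideal.IsPrime.mem_or_mem inferInstance h with h | h
    · exact ht₁P h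
    · rw [hu₁] at h
      exact hk₀ h
  · intro j k g hg
    exact smul_T (Γ' j) ((hmemΓ' j g).mpr hg) _
  · intro j k g hg
    exact smul_T (Γ' j) ((hmemΓ' j g).mpr hg) _
  · intro j g hg
    rw [hpush j g, if_pos ((hmemΓ' j g).mpr hg), hTw j, map_mul, hu₁]
  · intro j g hg
    rw [hpush j g, if_neg (fun h => hg ((hmemΓ' j g).mp h))]

end AbstractLocal

end Groth.Agent.Lib.Helper16.GalProd
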