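import Mathlib
import Groth.Agent.Lib.Helper16GalProd
import Groth.Agent.Lib.Helper16GalProd2

set_option autoImplicit false
set_option linter.style.haveILetI false
set_option linter.unusedSectionVars false

universe u v w

namespace Groth.Agent.Lib.Helper16.GalProd

section Concrete

variable (R : Type u) [CommRing R] {A : Type v} [CommRing A] [Algebra R A]
  {H : Type w} [CommGroup H] [MulSemiringAction H A] [SMulCommClass H R A] {n : ℕ}

/-- The product homomorphism `∏ K_j → H`. -/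
def psi (K : Fin n → Subgroup H) : (∀ j, ↥(K j)) →* H where
  toFun g := ∏ j, (g j : H)
  map_one' := by simp
  map_mul' g g' := by simp [Finset.prod_mul_distrib]

lemma psi_apply (K : Fin n → Subgroup H) (g : ∀ j, ↥(K j)) : psi K g = ∏ j, (g j : H) := rfl

lemma psi_mulSingle (K : Fin n → Subgroup H) (j : Fin n) (h : ↥(K j)) :
    psi K (Pi.mulSingle j h) = (h : H) := by
  rw [psi_apply, Finset.prod_eq_single j]
  · rw [Pi.mulSingle_eq_same]
  · intro l _ hl
    rw [Pi.mulSingle_eq_of_ne hl]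
    rfl
  · intro h
    exact absurd (Finset.mem_univ j) h

/-- The invariants of all `G_l`, `l ≠ j`. -/
def Aj (G : Fin n → Subgroup H) (j : Fin n) : Subalgebra R A where
  carrier := {a | ∀ l, l ≠ j → ∀ g ∈ G l, g • a = a}
  mul_mem' := fun {a b} ha hb l hl g hg => by rw [smul_mul', ha l hl g hg, hb l hl g hg]
  add_mem' := fun {a b} ha hb l hl g hg => by rw [smul_add, ha l hl g hg, hb l hl g hg]
  algebraMap_mem' := fun r l _ g _ => smul_algebraMap g r

lemma mem_Aj {G : Fin n → Subgroup H} {j : Fin n} {a : A} :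
    a ∈ Aj R G j ↔ ∀ l, l ≠ j → ∀ g ∈ G l, g • a = a := Iff.rfl

lemma fixed_eq_Aj (G : Fin n → Subgroup H) (i : Fin n) :
    FixedPoints.subalgebra R A
      ↥(⨆ j ∈ (Finset.univ.erase i : Finset (Fin n)), G j : Subgroup H) = Aj R G i := by
  ext a
  constructor
  · intro ha l hl g hg
    have hg' : g ∈ (⨆ j ∈ (Finset.univ.erase i : Finset (Fin n)), G j : Subgroup H) :=
      (le_iSup₂ (f := fun j (_ : j ∈ (Finset.univ.erase i : Finset (Fin n))) => G j) l
        (Finset.mem_erase.mpr ⟨hl, Finset.mem_univ _⟩)) hg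
    exact ha ⟨g, hg'⟩
  · intro ha k
    have hle : (⨆ j ∈ (Finset.univ.erase i : Finset (Fin n)), G j : Subgroup H) ≤
        MulAction.stabilizer H a := by
      refine iSup₂_le fun l hl g hg => ?_
      exact ha l (Finset.ne_of_mem_erase hl) g hg
    exact hle k.2

/-- The span of the products. -/
def MM (G : Fin n → Subgroup H) : Submodule R A :=
  Submodule.span R {z | ∃ a : Fin n → A, (∀ j, a j ∈ Aj R G j) ∧ z = ∏ j, a j}

lemma MM_le (G : Fin n → Subgroup H) :
    (MM R G : Submodule R A) ≤ Subalgebra.toSubmodule (⨆ j, (Aj R G j : Subalgebra R A)) := by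
  apply Submodule.span_le.mpr
  rintro _ ⟨a, ha, rfl⟩
  exact Subalgebra.prod_mem _ fun j _ =>
    (le_iSup (fun j => (Aj R G j : Subalgebra R A)) j) (ha j)

lemma mul_mem_MM (G : Fin n → Subgroup H) (i : Fin n) {c z : A} (hc : c ∈ Aj R G i)
    (hz : z ∈ MM R G) : c * z ∈ MM R G := by
  induction hz using Submodule.span_induction with
  | mem z hz =>
    obtain ⟨a, ha, rfl⟩ := hz
    refine Submodule.subset_span ⟨fun j => (if j = i then c else 1) * a j, fun j => ?_, ?_⟩
    · beta_reduce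
      by_cases hj : j = i
      · subst hj
        rw [if_pos rfl]
        exact mul_mem hc (ha j)
      · rw [if_neg hj, one_mul]
        exact ha j
    · rw [Finset.prod_mul_distrib, Finset.prod_ite_eq' Finset.univ i (fun _ => c),
        if_pos (Finset.mem_univ i)]
  | zero => rw [mul_zero]; exact zero_mem _
  | add x y _ _ hx hy => rw [mul_add]; exact add_mem hx hy
  | smul r x _ hx => rw [mul_smul_comm]; exact Submodule.smul_mem _ r hx

lemma fixed_of_forall (G : Fin n → Subgroup H) (hsup : (⨆ i, G i) = ⊤) (a : A)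
    (h : ∀ l, ∀ g ∈ G l, g • a = a) (g : H) : g • a = a := by
  have h1 : (⨆ l, G l) ≤ MulAction.stabilizer H a := iSup_le fun l g hg => h l g hg
  rw [hsup] at h1
  exact h1 (Subgroup.mem_top g)

/-- `H` (commutative) acts on the invariants of a subgroup. -/
@[reducible] def actD (E : Subgroup H) :
    MulSemiringAction H ↥(FixedPoints.subalgebra R A ↥E) where
  smul h d := ⟨h • (d : A), fun e => by
    have h1 := d.2 e
    rw [Subgroup.smul_def] at h1 ⊢
    rw [smul_smul, mul_comm, ← smul_smul, h1]⟩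
  one_smul d := Subtype.ext (one_smul H (d : A))
  mul_smul g h d := Subtype.ext (mul_smul g h (d : A))
  smul_zero h := Subtype.ext (smul_zero h)
  smul_add h d d' := Subtype.ext (smul_add h (d : A) (d' : A))
  smul_one h := Subtype.ext (smul_one h)
  smul_mul h d d' := Subtype.ext (smul_mul' h (d : A) (d' : A))

theorem local_families [Finite H] [Algebra.IsIntegral R A]
    (G K : Fin n → Subgroup H) (E : Subgroup H) (𝔭 : Ideal R) [𝔭.IsPrime]
    (hinj : Function.Injective (algebraMap R A))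
    (hfix : ∀ a : A, (∀ h : H, h • a = a) → a ∈ Set.range (algebraMap R A))
    (hsup : (⨆ i, G i) = ⊤)
    (hKG : ∀ l, K l = G l ∨ (K l = ⊥ ∧ G l ≤ E))
    (hinjK : ∀ σ : ∀ j, ↥(K j), psi K σ ∈ E → σ = 1)
    (hP : ∀ P : Ideal A, P.IsPrime → P.comap (algebraMap R A) = 𝔭 →
      ∀ τ : H, (∀ a : A, τ • a - a ∈ P) → τ ∈ E) :
    ∃ t : R, t ∉ 𝔭 ∧ ∃ (κ : Type v) (_ : Fintype κ) (x y : Fin n → κ → A),
      (∀ j k, x j k ∈ Aj R G j) ∧ (∀ j k, y j k ∈ Aj R G j) ∧
      (∀ j (g : ∀ j, ↥(K j)), g j = 1 →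
        ∑ k, x j k * psi K g • y j k = algebraMap R A t) ∧
      (∀ j (g : ∀ j, ↥(K j)), g j ≠ 1 → ∑ k, x j k * psi K g • y j k = 0) := by
  classical
  haveI : ∀ j, Fintype ↥(K j) := fun j => Fintype.ofFinite _
  let D := FixedPoints.subalgebra R A ↥E
  letI actH : MulSemiringAction H ↥D := actD R E
  letI actΓ : MulSemiringAction (∀ j, ↥(K j)) ↥D := MulSemiringAction.compHom ↥D (psi K)
  have hsmul_coe : ∀ (g : ∀ j, ↥(K j)) (d : ↥D), ((g • d : ↥D) : A) = psi K g • (d : A) :=
    fun _ _ => rfl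
  -- a prime over `𝔭`
  obtain ⟨P₀, -, hP₀, hP₀𝔭⟩ := Ideal.exists_ideal_over_prime_of_isIntegral 𝔭 (⊥ : Ideal A) (by
    intro r hr
    rw [Ideal.mem_comap, Ideal.mem_bot] at hr
    have : r = 0 := hinj (by rw [hr, map_zero])
    rw [this]
    exact zero_mem _)
  haveI := hP₀
  let P₀' : Ideal ↥D := Ideal.comap D.val P₀
  haveI : P₀'.IsPrime := Ideal.comap_isPrime _ _
  have hmemP₀' : ∀ s : R, algebraMap R ↥D s ∈ P₀' ↔ s ∈ 𝔭 := by
    intro s
    rw [← hP₀𝔭]
    exact Iff.rfl
  have hf : ∀ (g : ∀ j, ↥(K j)) (r : R), g • algebraMap R ↥D r = algebraMap R ↥D r :=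
    fun g r => Subtype.ext (smul_algebraMap (psi K g) r)
  -- elements fixed by all `K l` and by `E` are fixed by all `G l`
  have hfixG : ∀ d : ↥D, (∀ (l : Fin n) (g : ↥(K l)),
      (Pi.mulSingle l g : ∀ j, ↥(K j)) • d = d) → ∀ l, ∀ g ∈ G l, g • (d : A) = d := by
    intro d hd l g hg
    rcases hKG l with hl | ⟨-, hle⟩
    · have hg' : g ∈ K l := by rw [hl]; exact hg
      have h1 := congrArg Subtype.val (hd l ⟨g, hg'⟩)
      rw [hsmul_coe, psi_mulSingle] at h1
      exact h1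
    · exact d.2 ⟨g, hle hg⟩
  have hfixB : ∀ d : ↥D, (∀ g : ∀ j, ↥(K j), g • d = d) →
      d ∈ Set.range (algebraMap R ↥D) := by
    intro d hd
    obtain ⟨r, hr⟩ := hfix (d : A)
      (fixed_of_forall G hsup (d : A) (hfixG d (fun l g => hd _)))
    exact ⟨r, Subtype.ext hr⟩
  haveI : Algebra.IsIntegral R ↥D := Algebra.IsIntegral.of_injective D.val Subtype.val_injective
  haveI : Algebra.IsIntegral ↥D A := Algebra.IsIntegral.tower_top R
  have hs : ∀ σ : ∀ j, ↥(K j), σ ≠ 1 → ∃ s : R, algebraMap R ↥D s ∉ P₀' ∧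
      algebraMap R ↥D s ∈ Ideal.span (Set.range fun d : ↥D => σ • d - d) := by
    intro σ hσ
    by_contra hcon
    push Not at hcon
    have hJ : (Ideal.span (Set.range fun d : ↥D => σ • d - d)).comap (algebraMap R ↥D) ≤ 𝔭 := by
      intro s hsJ
      by_contra hsp
      exact hcon s (fun hmem => hsp ((hmemP₀' s).mp hmem)) hsJ
    obtain ⟨Q, hJQ, hQ, hQ𝔭⟩ := Ideal.exists_ideal_over_prime_of_isIntegral 𝔭 _ hJ
    haveI := hQ
    obtain ⟨P, -, hPp, hPQ⟩ := Ideal.exists_ideal_over_prime_of_isIntegral Q (⊥ : Ideal A) (by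
      intro d hd
      rw [Ideal.mem_comap, Ideal.mem_bot] at hd
      have : d = 0 := Subtype.ext hd
      rw [this]
      exact zero_mem _)
    haveI := hPp
    have hP𝔭 : P.comap (algebraMap R A) = 𝔭 := by
      rw [← hQ𝔭, ← hPQ, Ideal.comap_comap]
      rfl
    have hν : psi K σ ∈ E := mem_of_trivial_on_fixed E P (hP P hPp hP𝔭) (psi K σ) (fun d hd => by
      have h1 : (σ • (⟨d, hd⟩ : ↥D) - ⟨d, hd⟩ : ↥D) ∈
          Ideal.span (Set.range fun d : ↥D => σ • d - d) := Ideal.subset_span ⟨⟨d, hd⟩, rfl⟩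
      have h2 := hJQ h1
      rw [← hPQ] at h2
      exact h2)
    exact hσ (hinjK σ hν)
  obtain ⟨t, htP, κ, hκ, x, y, hxinv, hyinv, hform1, hform0⟩ :=
    exists_local_families (Z := fun j => ↥(K j)) (B := ↥D) (algebraMap R ↥D) hf hfixB P₀' hs
  have hAj : ∀ (j : Fin n) (d : ↥D), (∀ g : ∀ j, ↥(K j), g j = 1 → g • d = d) →
      (d : A) ∈ Aj R G j := by
    intro j d hd l hl g hg
    rcases hKG l with hl' | ⟨-, hle⟩
    · have hg' : g ∈ K l := by rw [hl']; exact hg
      have h1 := congrArg Subtype.val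
        (hd (Pi.mulSingle l ⟨g, hg'⟩) (Pi.mulSingle_eq_of_ne (Ne.symm hl) _))
      rw [hsmul_coe, psi_mulSingle] at h1
      exact h1
    · exact d.2 ⟨g, hle hg⟩
  refine ⟨t, fun h => htP ((hmemP₀' t).mpr h), κ, hκ, fun j k => (x j k : A),
    fun j k => (y j k : A), fun j k => hAj j _ (hxinv j k), fun j k => hAj j _ (hyinv j k), ?_, ?_⟩
  · intro j g hg
    have h1 := congrArg D.val (hform1 j g hg)
    rw [map_sum] at h1
    exact h1
  · intro j g hg
    have h1 := congrArg D.val (hform0 j g hg)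
    rw [map_sum] at h1
    exact h1

end Concrete

end Groth.Agent.Lib.Helper16.GalProd
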