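import Mathlib
import Groth.Agent.Lib.Helper16GalProd
import Groth.Agent.Lib.Helper16GalProd2
import Groth.Agent.Lib.Helper16GalProd3
import Groth.Agent.Lib.Helper5IntDim
import Groth.Agent.Lib.Helper5RLR3
import Groth.Agent.Lib.Helper28RegLoc
import Groth.Agent.Lib.Helper28DepthDom

set_option autoImplicit false
set_option linter.style.haveILetI false
set_option linter.unusedSectionVars false

universe u v w

namespace Groth.Agent.Lib.Helper16.GalProd

section LocalMem

variable (R : Type u) [CommRing R] {A : Type v} [CommRing A] [Algebra R A]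
  {H : Type w} [CommGroup H] [MulSemiringAction H A] [SMulCommClass H R A] {n : ℕ}

theorem local_mem [Finite H] [Algebra.IsIntegral R A]
    (G K : Fin n → Subgroup H) (E : Subgroup H) (𝔭 : Ideal R) [𝔭.IsPrime]
    (hinj : Function.Injective (algebraMap R A))
    (hfix : ∀ a : A, (∀ h : H, h • a = a) → a ∈ Set.range (algebraMap R A))
    (hsup : (⨆ i, G i) = ⊤)
    (hKG : ∀ l, K l = G l ∨ (K l = ⊥ ∧ G l ≤ E))
    (hinjK : ∀ σ : ∀ j, ↥(K j), psi K σ ∈ E → σ = 1)
    (hP : ∀ P : Ideal A, P.IsPrime → P.comap (algebraMap R A) = 𝔭 →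
      ∀ τ : H, (∀ a : A, τ • a - a ∈ P) → τ ∈ E)
    (hmul : ∀ a : A, (∀ l, ∀ g ∈ K l, g • a = a) → ∀ z ∈ MM R G, a * z ∈ MM R G) :
    ∃ s : R, s ∉ 𝔭 ∧ ∀ a : A, algebraMap R A s * a ∈ MM R G := by
  classical
  haveI : ∀ j, Fintype ↥(K j) := fun j => Fintype.ofFinite _
  obtain ⟨t, ht, κ, hκ, x, y, hx, hy, hform1, hform0⟩ :=
    local_families R G K E 𝔭 hinj hfix hsup hKG hinjK hP
  refine ⟨t ^ n, fun h => ht (Ideal.IsPrime.mem_of_pow_mem inferInstance _ h), fun a => ?_⟩
  letI actΓ : MulSemiringAction (∀ j, ↥(K j)) A := MulSemiringAction.compHom A (psi K)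
  have key := formula (Z := fun j => ↥(K j)) (κ := fun _ => κ) x y (fun _ => algebraMap R A t)
    (fun j g => by
      by_cases hg : g j = 1
      · rw [if_pos hg]; exact hform1 j g hg
      · rw [if_neg hg]; exact hform0 j g hg) a
  rw [Finset.prod_const, Finset.card_univ, Fintype.card_fin, ← map_pow] at key
  rw [key]
  refine Submodule.sum_mem _ fun k _ => ?_
  rw [mul_comm]
  refine hmul _ ?_ _ (Submodule.subset_span ⟨fun j => x j (k j), fun j => hx j (k j), rfl⟩)
  intro l g hg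
  have h1 : g • (∑ γ : ∀ j, ↥(K j), γ • ((∏ j, y j (k j)) * a)) =
      (Pi.mulSingle l ⟨g, hg⟩ : ∀ j, ↥(K j)) • ∑ γ : ∀ j, ↥(K j), γ • ((∏ j, y j (k j)) * a) := by
    have h0 : ∀ c : A, (Pi.mulSingle l ⟨g, hg⟩ : ∀ j, ↥(K j)) • c =
        psi K (Pi.mulSingle l ⟨g, hg⟩) • c := fun _ => rfl
    rw [h0, psi_mulSingle]
  rw [h1, Finset.smul_sum]
  exact Fintype.sum_equiv (Equiv.mulLeft (Pi.mulSingle l ⟨g, hg⟩ : ∀ j, ↥(K j))) _ _
    (fun γ => (mul_smul _ γ _).symm)

lemma psi_surjective (G : Fin n → Subgroup H) (hsup : (⨆ i, G i) = ⊤) :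
    Function.Surjective (psi G) := by
  rw [← MonoidHom.range_eq_top, eq_top_iff, ← hsup]
  refine iSup_le fun l g hg => ?_
  exact ⟨Pi.mulSingle l ⟨g, hg⟩, psi_mulSingle G l ⟨g, hg⟩⟩

lemma psi_bijective [Finite H] (p : ℕ) (G : Fin n → Subgroup H) (hsup : (⨆ i, G i) = ⊤)
    (hcard : Nat.card H = p ^ n) (hG : ∀ i, Nat.card (G i) = p) :
    Function.Bijective (psi G) := by
  apply (psi_surjective G hsup).bijective_of_nat_card_le
  rw [Nat.card_pi, hcard, Finset.prod_congr rfl (fun i _ => hG i), Finset.prod_const,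
    Finset.card_univ, Fintype.card_fin]

lemma eq_one_of_forall_sub_mem_bot [FaithfulSMul H A] (τ : H)
    (h : ∀ a : A, τ • a - a ∈ (⊥ : Ideal A)) : τ = 1 := by
  apply FaithfulSMul.eq_of_smul_eq_smul (α := A)
  intro a
  rw [one_smul]
  exact sub_eq_zero.mp (Ideal.mem_bot.mp (h a))

theorem local_main [IsDomain A] [Finite H] [FaithfulSMul H A] [Algebra.IsIntegral R A]
    (G : Fin n → Subgroup H) (𝔭 : Ideal R) [𝔭.IsPrime] (h𝔭 : 𝔭.height ≤ 1)
    (hinj : Function.Injective (algebraMap R A))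
    (hfix : ∀ a : A, (∀ h : H, h • a = a) → a ∈ Set.range (algebraMap R A))
    (hsup : (⨆ i, G i) = ⊤)
    (hψ : Function.Injective (psi G))
    (hMR3 : ∀ P : Ideal A, P.IsPrime → P.height = 1 → P.inertia H ≠ ⊥ →
      ∃ i, P.inertia H = G i) :
    ∃ s : R, s ∉ 𝔭 ∧ ∀ a : A, algebraMap R A s * a ∈ MM R G := by
  classical
  by_cases hcase : ∀ P : Ideal A, P.IsPrime → P.comap (algebraMap R A) = 𝔭 → P.inertia H = ⊥
  · refine local_mem R G G ⊥ 𝔭 hinj hfix hsup (fun l => Or.inl rfl) ?_ ?_ ?_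
    · intro σ hσ
      rw [Subgroup.mem_bot] at hσ
      exact hψ (hσ.trans (map_one _).symm)
    · intro P hP hP𝔭 τ hτ
      rw [← hcase P hP hP𝔭]
      exact hτ
    · intro a ha z hz
      obtain ⟨r, hr⟩ := hfix a (fixed_of_forall G hsup a ha)
      rw [← hr, ← Algebra.smul_def]
      exact Submodule.smul_mem _ r hz
  · push Not at hcase
    obtain ⟨P₀, hP₀, hP₀𝔭, hne⟩ := hcase
    haveI := hP₀
    have hP₀bot : P₀ ≠ ⊥ := by
      rintro rfl
      apply hne
      rw [eq_bot_iff]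
      intro τ hτ
      rw [Subgroup.mem_bot]
      exact eq_one_of_forall_sub_mem_bot τ hτ
    have hht : P₀.height = 1 := by
      apply le_antisymm
      · have h1 := Groth.Agent.Lib.Helper5.height_le_height_under_of_isIntegral (A := R) P₀
        rw [Ideal.under_def, hP₀𝔭] at h1
        exact h1.trans h𝔭
      · rw [Order.one_le_iff_pos, pos_iff_ne_zero]
        intro h0
        exact hP₀bot (Ideal.height_eq_zero_iff_eq_bot.mp h0)
    obtain ⟨i₀, hi₀⟩ := hMR3 P₀ hP₀ hht hne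
    haveI : Algebra.IsInvariant R A H := ⟨fun a ha => hfix a ha⟩
    have hPall : ∀ P : Ideal A, P.IsPrime → P.comap (algebraMap R A) = 𝔭 →
        ∀ τ : H, (∀ a : A, τ • a - a ∈ P) → τ ∈ G i₀ := by
      intro P hP hP𝔭 τ hτ
      haveI := hP
      obtain ⟨h, hh⟩ := Algebra.IsInvariant.exists_smul_of_under_eq R A H P₀ P
        (by rw [Ideal.under_def, Ideal.under_def, hP₀𝔭, hP𝔭])
      rw [← hi₀]
      intro a
      have h1 := hτ (h • a)
      rw [show τ • h • a - h • a = h • (τ • a - a) by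
        rw [smul_sub, smul_smul, smul_smul, mul_comm], hh,
        Ideal.smul_mem_pointwise_smul_iff] at h1
      exact h1
    have hKne : ∀ l, l ≠ i₀ → Function.update G i₀ ⊥ l = G l := fun l hl =>
      Function.update_of_ne hl _ _
    have hKi₀ : Function.update G i₀ ⊥ i₀ = ⊥ := Function.update_self _ _ _
    have hKle : ∀ l, Function.update G i₀ ⊥ l ≤ G l := by
      intro l
      by_cases hl : l = i₀
      · subst hl
        rw [hKi₀]
        exact bot_le
      · exact le_of_eq (hKne l hl)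
    refine local_mem R G (Function.update G i₀ ⊥) (G i₀) 𝔭 hinj hfix hsup ?_ ?_ hPall ?_
    · intro l
      by_cases hl : l = i₀
      · subst hl
        exact Or.inr ⟨hKi₀, le_rfl⟩
      · exact Or.inl (hKne l hl)
    · intro σ hσ
      let σ' : ∀ j, ↥(G j) := fun j => ⟨σ j, hKle j (σ j).2⟩
      have h1 : psi G σ' = psi (Function.update G i₀ ⊥) σ := rfl
      have h2 : σ' = Pi.mulSingle i₀ ⟨psi (Function.update G i₀ ⊥) σ, hσ⟩ := by
        apply hψ
        rw [psi_mulSingle, h1]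
      funext l
      apply Subtype.ext
      by_cases hl : l = i₀
      · have h3 : Function.update G i₀ ⊥ l ≤ ⊥ := by
          rw [hl, hKi₀]
        exact Subgroup.mem_bot.mp (h3 (σ l).2)
      · have h3 := congrArg (fun τ : ∀ j, ↥(G j) => ((τ l : ↥(G l)) : H)) h2
        simp only [Pi.mulSingle_eq_of_ne hl] at h3
        exact h3
    · intro a ha z hz
      refine mul_mem_MM R G i₀ ?_ hz
      intro l hl g hg
      exact ha l g (by rw [hKne l hl]; exact hg)

end LocalMem

end Groth.Agent.Lib.Helper16.GalProd
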