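import Mathlib
import Groth.Agent.Lib.Helper16GalProd
import Groth.Agent.Lib.Helper16GalProd2
import Groth.Agent.Lib.Helper16GalProd3
import Groth.Agent.Lib.Helper16GalProd4
import Groth.Agent.Lib.Helper5IntDim
import Groth.Agent.Lib.Helper5RLR3
import Groth.Agent.Lib.Helper28RegLoc
import Groth.Agent.Lib.Helper28DepthDom

set_option autoImplicit false
set_option linter.style.haveILetI false
set_option linter.unusedSectionVars false

universe u v w

namespace Groth.Agent.Lib.Helper16.GalProd

section Global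

lemma height_eq_one_of_depth (R : Type u) [CommRing R] [IsRegularLocalRing R] (𝔭 : Ideal R)
    [𝔭.IsPrime]
    (h : LocCoh.depth (Localization.AtPrime 𝔭) (Localization.AtPrime 𝔭) = 1) : 𝔭.height = 1 := by
  haveI := Groth.Agent.Lib.Helper28.isRegularLocalRing_localization_of_isRegularLocalRing R 𝔭
  have hcm := Groth.Agent.Lib.Helper5.isCohenMacaulayLocalRing_of_isRegularLocalRing
    (Localization.AtPrime 𝔭)
  have h1 := hcm.supportDim_eq_depth
  rw [Module.supportDim_self_eq_ringKrullDim, IsLocalization.AtPrime.ringKrullDim_eq_height 𝔭,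
    h] at h1
  exact_mod_cast h1

variable (R : Type u) [CommRing R] {A : Type v} [CommRing A] [Algebra R A]
  {H : Type w} [CommGroup H] [MulSemiringAction H A] [SMulCommClass H R A] {n : ℕ}

theorem global_main [IsDomain A] [Finite H] (p : ℕ) [IsRegularLocalRing R] [Module.Finite R A]
    [FaithfulSMul H A]
    (hinj : Function.Injective (algebraMap R A))
    (hfix : ∀ a : A, (∀ h : H, h • a = a) → a ∈ Set.range (algebraMap R A))
    (hcard : Nat.card H = p ^ n) (G : Fin n → Subgroup H)
    (hG : ∀ i, Nat.card (G i) = p) (hsup : (⨆ i, G i) = ⊤)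
    (hMR3 : ∀ P : Ideal A, P.IsPrime → P.height = 1 → P.inertia H ≠ ⊥ →
      ∃ i, P.inertia H = G i)
    (hfree : ∀ i, Module.Free R ↥(Aj R G i : Subalgebra R A)) :
    (⨆ i, (Aj R G i : Subalgebra R A)) = ⊤ := by
  classical
  haveI : IsDomain R := Function.Injective.isDomain (algebraMap R A) hinj
  haveI : ∀ j, Fintype ↥(G j) := fun j => Fintype.ofFinite _
  have hbij := psi_bijective p G hsup hcard hG
  have hψinj := hbij.1
  have hψsurj := hbij.2
  -- the local statement
  have hloc : ∀ (𝔭 : Ideal R) [𝔭.IsPrime], 𝔭.height ≤ 1 →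
      ∃ s : R, s ∉ 𝔭 ∧ ∀ a : A, algebraMap R A s * a ∈ MM R G :=
    fun 𝔭 _ h𝔭 => local_main R G 𝔭 h𝔭 hinj hfix hsup hψinj hMR3
  -- bases
  haveI : ∀ j, Module.Finite R ↥(Aj (A := A) R G j) := fun j =>
    Module.Finite.of_injective (Aj (A := A) R G j).val.toLinearMap Subtype.val_injective
  let κb : Fin n → Type _ := fun j => Module.Free.ChooseBasisIndex R ↥(Aj (A := A) R G j)
  let b : ∀ j, Module.Basis (κb j) R ↥(Aj (A := A) R G j) := fun j =>
    Module.Free.chooseBasis R ↥(Aj (A := A) R G j)
  let e : (∀ j, κb j) → A := fun k => ∏ j, ((b j (k j) : ↥(Aj (A := A) R G j)) : A)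
  have hMMe : (MM R G : Submodule R A) ≤ Submodule.span R (Set.range e) := by
    apply Submodule.span_le.mpr
    rintro _ ⟨a, ha, rfl⟩
    have h1 : ∀ j, a j = ∑ m, ((b j).repr ⟨a j, ha j⟩ m) • ((b j m : ↥(Aj (A := A) R G j)) : A) := by
      intro j
      have h2 := congrArg (Aj (A := A) R G j).val ((b j).sum_repr ⟨a j, ha j⟩)
      rw [map_sum] at h2
      simp only [map_smul] at h2
      exact h2.symm
    rw [Finset.prod_congr rfl (fun j _ => h1 j), Finset.prod_univ_sum]
    refine Submodule.sum_mem _ fun k _ => ?_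
    rw [Finset.prod_smul]
    exact Submodule.smul_mem _ _ (Submodule.subset_span ⟨k, rfl⟩)
  have he_mem : ∀ k, e k ∈ MM R G := fun k =>
    Submodule.subset_span ⟨fun j => b j (k j), fun j => (b j (k j)).2, rfl⟩
  -- the families at the generic point
  obtain ⟨t₀, ht₀, κ', hκ', x, y, hx, hy, hform1, hform0⟩ :=
    local_families R G G ⊥ (⊥ : Ideal R) hinj hfix hsup (fun l => Or.inl rfl)
      (fun σ hσ => hψinj ((Subgroup.mem_bot.mp hσ).trans (map_one _).symm))
      (fun P hP hP0 τ hτ => by
        have hPbot : P = ⊥ := Ideal.eq_bot_of_comap_eq_bot hP0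
        rw [hPbot] at hτ
        exact Subgroup.mem_bot.mpr (eq_one_of_forall_sub_mem_bot τ hτ))
  have ht₀' : t₀ ≠ 0 := fun h => ht₀ (by rw [h]; exact zero_mem _)
  have hN : t₀ ^ n ≠ 0 := pow_ne_zero _ ht₀'
  -- the trace over `G j`
  let trj : Fin n → (A →ₗ[R] A) := fun j =>
    ∑ h : ↥(G j), DistribSMul.toLinearMap R A (h : H)
  have htrj : ∀ j c, trj j c = ∑ h : ↥(G j), (h : H) • c := by
    intro j c
    simp only [trj, LinearMap.sum_apply]
    exact Finset.sum_congr rfl fun _ _ => rfl
  have htrj_mem : ∀ j c, c ∈ Aj R G j → trj j c ∈ Set.range (algebraMap R A) := by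
    intro j c hc
    apply hfix
    apply fixed_of_forall G hsup
    intro l g hg
    rw [htrj, Finset.smul_sum]
    by_cases hl : l = j
    · subst hl
      exact Fintype.sum_equiv (Equiv.mulLeft (⟨g, hg⟩ : ↥(G l))) _ _
        (fun h => by rw [smul_smul]; rfl)
    · refine Finset.sum_congr rfl fun h _ => ?_
      rw [smul_comm, hc l hl g hg]
  have hrec : ∀ j (a : A), algebraMap R A t₀ * a = ∑ m, x j m * trj j (y j m * a) := by
    intro j a
    have e1 : ∀ m, x j m * trj j (y j m * a) =
        ∑ h : ↥(G j), (h : H) • a * (x j m * (h : H) • y j m) := by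
      intro m
      rw [htrj, Finset.mul_sum]
      refine Finset.sum_congr rfl fun h _ => ?_
      rw [smul_mul']
      ring
    rw [Finset.sum_congr rfl (fun m _ => e1 m), Finset.sum_comm]
    have e2 : ∀ h : ↥(G j), ∑ m, (h : H) • a * (x j m * (h : H) • y j m) =
        (h : H) • a * (if h = 1 then algebraMap R A t₀ else 0) := by
      intro h
      rw [← Finset.mul_sum]
      congr 1
      by_cases hh : h = 1
      · rw [if_pos hh]
        have h3 := hform1 j (Pi.mulSingle j h) (by rw [Pi.mulSingle_eq_same]; exact hh)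
        rw [psi_mulSingle] at h3
        exact h3
      · rw [if_neg hh]
        have h3 := hform0 j (Pi.mulSingle j h) (by rw [Pi.mulSingle_eq_same]; exact hh)
        rw [psi_mulSingle] at h3
        exact h3
    rw [Finset.sum_congr rfl (fun h _ => e2 h), Finset.sum_eq_single (1 : ↥(G j))]
    · rw [if_pos rfl, OneMemClass.coe_one, one_smul, mul_comm]
    · intro h _ hh
      rw [if_neg hh, mul_zero]
    · intro h
      exact absurd (Finset.mem_univ _) h
  have hρ : ∀ j (m : κ') (k : κb j), ∃ r : R,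
      algebraMap R A r = trj j (y j m * ((b j k : ↥(Aj (A := A) R G j)) : A)) := fun j m k =>
    htrj_mem j _ (mul_mem (hy j m) (b j k).2)
  choose ρ hρ using hρ
  have hexp : ∀ j (k : κb j),
      t₀ • b j k = ∑ m, ρ j m k • (⟨x j m, hx j m⟩ : ↥(Aj (A := A) R G j)) := by
    intro j k
    apply Subtype.val_injective
    change (Aj (A := A) R G j).val (t₀ • b j k) =
      (Aj (A := A) R G j).val (∑ m, ρ j m k • (⟨x j m, hx j m⟩ : ↥(Aj (A := A) R G j)))
    rw [map_smul, map_sum]
    simp only [map_smul]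
    change t₀ • ((b j k : ↥(Aj (A := A) R G j)) : A) = ∑ m, ρ j m k • x j m
    rw [Algebra.smul_def, hrec j]
    refine Finset.sum_congr rfl fun m _ => ?_
    rw [← hρ, Algebra.smul_def, mul_comm]
  have hrepr : ∀ j (k k'' : κb j),
      ∑ m, ρ j m k * (b j).repr ⟨x j m, hx j m⟩ k'' = if k = k'' then t₀ else 0 := by
    intro j k k''
    have h1 := congrArg (fun v => (b j).repr v k'') (hexp j k)
    simp only [map_smul, map_sum, Finsupp.smul_apply, Finsupp.coe_finsetSum, Finset.sum_apply,
      Module.Basis.repr_self, Finsupp.single_apply, smul_eq_mul] at h1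
    rw [← h1]
    split_ifs <;> simp
  -- the dual elements
  let z : ∀ j, κb j → A := fun j k'' => ∑ m, ((b j).repr ⟨x j m, hx j m⟩ k'') • y j m
  have hz_mem : ∀ j k'', z j k'' ∈ Aj R G j := fun j k'' =>
    Subalgebra.sum_mem _ fun m _ => Subalgebra.smul_mem _ (hy j m) _
  have hz_tr : ∀ j (k'' k : κb j), trj j (z j k'' * ((b j k : ↥(Aj (A := A) R G j)) : A)) =
      algebraMap R A (if k = k'' then t₀ else 0) := by
    intro j k'' k
    have e1 : z j k'' * ((b j k : ↥(Aj (A := A) R G j)) : A) =
        ∑ m, ((b j).repr ⟨x j m, hx j m⟩ k'') • (y j m * ((b j k : ↥(Aj (A := A) R G j)) : A)) := by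
      simp only [z]
      rw [Finset.sum_mul]
      refine Finset.sum_congr rfl fun m _ => ?_
      rw [smul_mul_assoc]
    rw [e1, map_sum]
    simp only [map_smul]
    rw [← hrepr j k k'', map_sum]
    refine Finset.sum_congr rfl fun m _ => ?_
    rw [← hρ, Algebra.smul_def, map_mul, mul_comm]
  -- the trace over the whole group
  letI actΓ : MulSemiringAction (∀ j, ↥(G j)) A := MulSemiringAction.compHom A (psi G)
  have hpsi_smul : ∀ (j : Fin n) (c : A), c ∈ Aj R G j → ∀ g : ∀ j, ↥(G j),
      psi G g • c = (g j : H) • c := by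
    intro j c hc g
    rw [psi_apply, ← Finset.mul_prod_erase Finset.univ _ (Finset.mem_univ j), mul_smul]
    congr 1
    have : (∏ l ∈ Finset.univ.erase j, (g l : H)) ∈ MulAction.stabilizer H c :=
      Subgroup.prod_mem _ fun l hl => hc l (Finset.ne_of_mem_erase hl) (g l) (g l).2
    exact this
  let Zk : (∀ j, κb j) → A := fun k'' => ∏ j, z j (k'' j)
  let TrΓ : A →ₗ[R] A := ∑ g : ∀ j, ↥(G j), DistribSMul.toLinearMap R A (psi G g)
  have hTrΓ : ∀ c, TrΓ c = ∑ g : ∀ j, ↥(G j), psi G g • c := by
    intro c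
    simp only [TrΓ, LinearMap.sum_apply]
    exact Finset.sum_congr rfl fun _ _ => rfl
  have hTr_e : ∀ k'' k : (∀ j, κb j),
      TrΓ (Zk k'' * e k) = algebraMap R A (if k = k'' then t₀ ^ n else 0) := by
    intro k'' k
    have e1 : Zk k'' * e k = ∏ j, (z j (k'' j) * ((b j (k j) : ↥(Aj (A := A) R G j)) : A)) :=
      (Finset.prod_mul_distrib).symm
    rw [hTrΓ, e1]
    have h2 := tr_prod (Z := fun j => ↥(G j)) (A := A)
      (fun j => z j (k'' j) * ((b j (k j) : ↥(Aj (A := A) R G j)) : A)) (fun j g g' hgg' => by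
        have h0 : ∀ (γ : ∀ j, ↥(G j)) (c : A), γ • c = psi G γ • c := fun _ _ => rfl
        rw [h0, h0, hpsi_smul j _ (mul_mem (hz_mem j _) (b j (k j)).2),
          hpsi_smul j _ (mul_mem (hz_mem j _) (b j (k j)).2), hgg'])
    refine (h2.trans ?_)
    have e3 : ∀ j, ∑ h : ↥(G j), (Pi.mulSingle j h : ∀ j, ↥(G j)) •
        (z j (k'' j) * ((b j (k j) : ↥(Aj (A := A) R G j)) : A)) =
        algebraMap R A (if k j = k'' j then t₀ else 0) := by
      intro j
      rw [← hz_tr j (k'' j) (k j), htrj]
      refine Finset.sum_congr rfl fun h _ => ?_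
      have h0 : ∀ (γ : ∀ j, ↥(G j)) (c : A), γ • c = psi G γ • c := fun _ _ => rfl
      rw [h0, psi_mulSingle]
    rw [Finset.prod_congr rfl (fun j _ => e3 j), ← map_prod, Finset.prod_ite_zero]
    congr 1
    by_cases hkk : k = k''
    · rw [if_pos hkk, if_pos (fun j _ => by rw [hkk]), Finset.prod_const, Finset.card_univ,
        Fintype.card_fin]
    · rw [if_neg hkk, if_neg (fun h => hkk (funext fun j => h j (Finset.mem_univ j)))]
  have hTr_fix : ∀ c : A, TrΓ c ∈ Set.range (algebraMap R A) := by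
    intro c
    apply hfix
    intro h
    obtain ⟨γ, rfl⟩ := hψsurj h
    rw [hTrΓ, Finset.smul_sum]
    exact Fintype.sum_equiv (Equiv.mulLeft γ) _ _ (fun g => by rw [smul_smul, ← map_mul]; rfl)
  have hv : ∀ (k'' : ∀ j, κb j) (a : A), ∃ v : R, algebraMap R A v = TrΓ (Zk k'' * a) :=
    fun k'' a => hTr_fix _
  choose fv hfv using hv
  have hcoef : ∀ (s : R) (a : A) (d : (∀ j, κb j) → R),
      algebraMap R A s * a = ∑ k, d k • e k → ∀ k'', s * fv k'' a = d k'' * t₀ ^ n := by
    intro s a d hsa k''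
    apply hinj
    rw [map_mul, hfv]
    have h1 : TrΓ (Zk k'' * (algebraMap R A s * a)) = algebraMap R A s * TrΓ (Zk k'' * a) := by
      rw [show Zk k'' * (algebraMap R A s * a) = s • (Zk k'' * a) by
        rw [Algebra.smul_def]; ring, map_smul, Algebra.smul_def]
    rw [← h1, hsa, Finset.mul_sum, map_sum]
    have h2 : ∀ k, TrΓ (Zk k'' * d k • e k) =
        algebraMap R A (if k = k'' then d k'' * t₀ ^ n else 0) := by
      intro k
      rw [mul_smul_comm, map_smul, hTr_e, Algebra.smul_def, ← map_mul]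
      congr 1
      by_cases hk : k = k''
      · rw [if_pos hk, if_pos hk, hk]
      · rw [if_neg hk, if_neg hk, mul_zero]
    rw [Finset.sum_congr rfl (fun k _ => h2 k), ← map_sum]
    congr 1
    simp
  have hexpand : ∀ z' : A, z' ∈ MM R G → ∃ d : (∀ j, κb j) → R, z' = ∑ k, d k • e k := by
    intro z' hz'
    have h1 := hMMe hz'
    rw [Submodule.mem_span_range_iff_exists_fun] at h1
    obtain ⟨d, hd⟩ := h1
    exact ⟨d, hd.symm⟩
  -- divisibility of the coefficients
  have hdiv : ∀ (a : A) (k'' : ∀ j, κb j), ∃ r : R, fv k'' a = t₀ ^ n * r := by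
    intro a k''
    have hN0 : algebraMap R (FractionRing R) (t₀ ^ n) ≠ 0 := fun h =>
      hN (IsFractionRing.injective R (FractionRing R) (h.trans (map_zero _).symm))
    have hx := Groth.Agent.Lib.Helper28.mem_range_of_forall_depth_one (A := R)
      (algebraMap R (FractionRing R) (fv k'' a) / algebraMap R (FractionRing R) (t₀ ^ n)) (by
      intro 𝔭 h𝔭 hdepth
      have hht : 𝔭.height ≤ 1 := le_of_eq (height_eq_one_of_depth R 𝔭 hdepth)
      obtain ⟨s, hs, hsa⟩ := hloc 𝔭 hht
      obtain ⟨d, hd⟩ := hexpand _ (hsa a)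
      have h1 := hcoef s a d hd k''
      have hs0 : algebraMap R (FractionRing R) s ≠ 0 := fun h =>
        hs (by
          have : s = 0 := IsFractionRing.injective R (FractionRing R) (h.trans (map_zero _).symm)
          rw [this]; exact zero_mem _)
      refine ⟨IsLocalization.mk' (Localization.AtPrime 𝔭) (d k'') (⟨s, hs⟩ : 𝔭.primeCompl), ?_⟩
      rw [eq_div_iff hN0]
      have h2 : algebraMap (Localization.AtPrime 𝔭) (FractionRing R)
          (IsLocalization.mk' (Localization.AtPrime 𝔭) (d k'') (⟨s, hs⟩ : 𝔭.primeCompl)) *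
          algebraMap R (FractionRing R) s = algebraMap R (FractionRing R) (d k'') := by
        rw [IsScalarTower.algebraMap_apply R (Localization.AtPrime 𝔭) (FractionRing R) s,
          ← map_mul]
        have h3 := IsLocalization.mk'_spec (Localization.AtPrime 𝔭) (d k'')
          (⟨s, hs⟩ : 𝔭.primeCompl)
        rw [h3, ← IsScalarTower.algebraMap_apply]
      apply mul_right_cancel₀ hs0
      calc algebraMap (Localization.AtPrime 𝔭) (FractionRing R)
            (IsLocalization.mk' (Localization.AtPrime 𝔭) (d k'') (⟨s, hs⟩ : 𝔭.primeCompl)) *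
            algebraMap R (FractionRing R) (t₀ ^ n) * algebraMap R (FractionRing R) s
          = (algebraMap (Localization.AtPrime 𝔭) (FractionRing R)
            (IsLocalization.mk' (Localization.AtPrime 𝔭) (d k'') (⟨s, hs⟩ : 𝔭.primeCompl)) *
            algebraMap R (FractionRing R) s) * algebraMap R (FractionRing R) (t₀ ^ n) := by ring
        _ = algebraMap R (FractionRing R) (d k'') * algebraMap R (FractionRing R) (t₀ ^ n) := by
            rw [h2]
        _ = algebraMap R (FractionRing R) (fv k'' a) * algebraMap R (FractionRing R) s := by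
            rw [← map_mul, ← map_mul, ← h1, mul_comm])
    obtain ⟨r, hr⟩ := hx
    refine ⟨r, ?_⟩
    apply IsFractionRing.injective R (FractionRing R)
    rw [map_mul, hr, mul_div_cancel₀ _ hN0]
  -- conclusion
  rw [eq_top_iff]
  intro a _
  have hmem : a ∈ MM R G := by
    choose r hr using hdiv a
    obtain ⟨s₀, hs₀, hs₀a⟩ := hloc ⊥ (by rw [Ideal.height_bot]; exact zero_le_one)
    obtain ⟨c, hc⟩ := hexpand _ (hs₀a a)
    have hs₀' : s₀ ≠ 0 := fun h => hs₀ (by rw [h]; exact zero_mem _)
    have hck : ∀ k, c k = s₀ * r k := by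
      intro k
      have h1 := hcoef s₀ a c hc k
      rw [hr k] at h1
      apply mul_right_cancel₀ hN
      rw [← h1]
      ring
    have ha : a = ∑ k, r k • e k := by
      apply mul_left_cancel₀ (show algebraMap R A s₀ ≠ 0 from fun h =>
        hs₀' (hinj (h.trans (map_zero _).symm)))
      rw [hc, Finset.mul_sum]
      refine Finset.sum_congr rfl fun k _ => ?_
      rw [hck k, mul_smul, Algebra.smul_def s₀]
    rw [ha]
    exact Submodule.sum_mem _ fun k _ => Submodule.smul_mem _ _ (he_mem k)
  exact MM_le R G hmem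

end Global

end Groth.Agent.Lib.Helper16.GalProd
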