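import Mathlib

/-!
# Going down for integral surjective morphisms onto normal schemes; lifting irreducible
components of closed subsets (helper16)
-/

set_option autoImplicit false
set_option linter.style.haveILetI false
set_option linter.unusedSectionVars false
universe u
open CategoryTheory CategoryTheory.Limits AlgebraicGeometry

namespace Groth.Agent.Lib.Helper16GoingDownSch

/-- Sections of an integral scheme with integrally closed stalks over a nonempty affine open are
integrally closed. -/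
theorem isIntegrallyClosed_sections {Y : Scheme.{u}} [IsIntegral Y]
    (hY : ∀ y : Y, IsIntegrallyClosed (Y.presheaf.stalk y))
    (W : Y.Opens) (hW : IsAffineOpen W) [Nonempty W] :
    @IsIntegrallyClosed Γ(Y, W) _ := by
  haveI : IsDomain Γ(Y, W) := IsIntegral.component_integral W
  apply IsIntegrallyClosed.of_localization_maximal
  intro p _ _
  let y : PrimeSpectrum Γ(Y, W) := ⟨p, inferInstance⟩
  have hy : hW.fromSpec y ∈ (W : Set Y) := by
    rw [← hW.range_fromSpec]; exact ⟨y, rfl⟩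
  letI := TopCat.Presheaf.algebra_section_stalk Y.presheaf ⟨hW.fromSpec y, hy⟩
  haveI : IsLocalization p.primeCompl (Y.presheaf.stalk (hW.fromSpec y)) :=
    hW.isLocalization_stalk' y hy
  let e : Localization.AtPrime p ≃ₐ[Γ(Y, W)] Y.presheaf.stalk (hW.fromSpec y) :=
    IsLocalization.algEquiv p.primeCompl _ _
  haveI := hY (hW.fromSpec y)
  exact IsIntegrallyClosed.of_equiv e.symm.toRingEquiv

/-- Going down: an integral surjective morphism from an integral scheme onto a normal integral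
scheme lifts generizations. -/
theorem generalizingMap_of_integral_of_normal {X Y : Scheme.{u}} [IsIntegral X] [IsIntegral Y]
    (hY : ∀ y : Y, IsIntegrallyClosed (Y.presheaf.stalk y))
    (f : X ⟶ Y) [IsIntegralHom f] [Surjective f] : GeneralizingMap f := by
  have := HasRingHomProperty.of_isZariskiLocalAtSource_of_isZariskiLocalAtTarget.{u}
    (topologically GeneralizingMap)
  change topologically GeneralizingMap f
  rw [HasRingHomProperty.iff_appLE (P := topologically GeneralizingMap)]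
  intro U V e
  by_cases hVne : Nonempty V
  · haveI : Nonempty (f ⁻¹ᵁ U.1 : X.Opens) := by
      obtain ⟨v⟩ := hVne
      exact ⟨⟨v.1, e v.2⟩⟩
    haveI : Nonempty U.1 := by
      obtain ⟨v⟩ := hVne
      exact ⟨⟨f v.1, e v.2⟩⟩
    haveI : IsDominant f := inferInstance
    haveI : IsSchemeTheoreticallyDominant f := IsSchemeTheoreticallyDominant.of_isDominant f
    have hinj : Function.Injective (f.app U.1) := f.app_injective U.1
    have hUaff : IsAffineOpen (f ⁻¹ᵁ U.1) := U.2.preimage f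
    -- algebra structures
    letI algAB : Algebra Γ(Y, U.1) Γ(X, f ⁻¹ᵁ U.1) := (f.app U.1).hom.toAlgebra
    letI algBC : Algebra Γ(X, f ⁻¹ᵁ U.1) Γ(X, V.1) := (X.presheaf.map (homOfLE e).op).hom.toAlgebra
    letI algAC : Algebra Γ(Y, U.1) Γ(X, V.1) := (f.appLE U.1 V.1 e).hom.toAlgebra
    haveI : IsScalarTower Γ(Y, U.1) Γ(X, f ⁻¹ᵁ U.1) Γ(X, V.1) :=
      IsScalarTower.of_algebraMap_eq (fun a => rfl)
    haveI : IsDomain Γ(X, f ⁻¹ᵁ U.1) := IsIntegral.component_integral _
    haveI : IsDomain Γ(Y, U.1) := IsIntegral.component_integral _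
    haveI : IsIntegrallyClosed Γ(Y, U.1) := isIntegrallyClosed_sections hY U.1 U.2
    haveI : FaithfulSMul Γ(Y, U.1) Γ(X, f ⁻¹ᵁ U.1) :=
      (faithfulSMul_iff_algebraMap_injective _ _).2 hinj
    haveI : Algebra.IsIntegral Γ(Y, U.1) Γ(X, f ⁻¹ᵁ U.1) := by
      exact ⟨f.isIntegral_app U.1 U.2⟩
    haveI h1 : Algebra.HasGoingDown Γ(Y, U.1) Γ(X, f ⁻¹ᵁ U.1) := inferInstance
    haveI : Module.Flat Γ(X, f ⁻¹ᵁ U.1) Γ(X, V.1) := by
      have h := (𝟙 X : X ⟶ X).flat_appLE hUaff V.2 (show V.1 ≤ (𝟙 X) ⁻¹ᵁ (f ⁻¹ᵁ U.1) from e)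
      have h' : (𝟙 X : X ⟶ X).appLE (f ⁻¹ᵁ U.1) V.1 e = X.presheaf.map (homOfLE e).op := by
        simp only [Scheme.Hom.appLE, Scheme.Hom.id_app]
        exact Category.id_comp _
      rw [h'] at h
      exact h
    haveI h2 : Algebra.HasGoingDown Γ(X, f ⁻¹ᵁ U.1) Γ(X, V.1) := inferInstance
    have h3 : Algebra.HasGoingDown Γ(Y, U.1) Γ(X, V.1) :=
      Algebra.HasGoingDown.trans (R := Γ(Y, U.1)) (S := Γ(X, f ⁻¹ᵁ U.1)) Γ(X, V.1)
    exact Algebra.HasGoingDown.iff_generalizingMap_primeSpectrumComap.mp h3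
  · intro a
    exfalso
    apply hVne
    have hmem : V.2.fromSpec a ∈ (V.1 : Set X) := by
      rw [← V.2.range_fromSpec]; exact ⟨a, rfl⟩
    exact ⟨⟨V.2.fromSpec a, hmem⟩⟩

/-- Incomparability: a locally quasi-finite morphism has no nontrivial specializations inside
a fibre. -/
theorem eq_of_specializes_of_map_eq {X Y : Scheme.{u}} (f : X ⟶ Y) [LocallyQuasiFinite f]
    {x x' : X} (h : x' ⤳ x) (he : f x' = f x) : x' = x := by
  have hd : _root_.IsDiscrete (f ⁻¹' {f x}) := f.isDiscrete_preimage_singleton (f x)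
  rw [isDiscrete_iff_discreteTopology] at hd
  have hx : x ∈ f ⁻¹' {f x} := rfl
  have hx' : x' ∈ f ⁻¹' {f x} := he
  have h2 : (⟨x', hx'⟩ : f ⁻¹' {f x}) ⤳ ⟨x, hx⟩ :=
    (Topology.IsInducing.subtypeVal.specializes_iff).1 h
  have h3 := h2.eq
  exact congrArg Subtype.val h3

/-- Lifting maximal irreducible subsets of a closed set along a closed generalizing map with
incomparability. -/
theorem exists_maximal_irreducible_lift {X Y : Scheme.{u}} (f : X ⟶ Y)
    (hgen : GeneralizingMap f) (hcl : IsClosedMap f)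
    (hinc : ∀ x x' : X, x' ⤳ x → f x' = f x → x' = x)
    (T : Set Y) (hT : IsClosed T) (Δ : Set Y)
    (hΔ : Maximal (fun S : Set Y => IsIrreducible S ∧ S ⊆ T) Δ) (x : X) (hx : f x ∈ Δ) :
    ∃ Γ : Set X, Maximal (fun S : Set X => IsIrreducible S ∧ S ⊆ f ⁻¹' T) Γ ∧ x ∈ Γ ∧
      f '' Γ = Δ := by
  have hΔcl : IsClosed Δ := by
    rw [← closure_subset_iff_isClosed]
    exact hΔ.2 ⟨hΔ.1.1.closure, (hT.closure_subset_iff).2 hΔ.1.2⟩ subset_closure
  obtain ⟨δ, hδ⟩ := QuasiSober.sober hΔ.1.1 hΔcl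
  have hδΔ : δ ∈ Δ := hδ.mem
  have hsp : δ ⤳ f x := by
    rw [specializes_iff_mem_closure, hδ.def]; exact hx
  obtain ⟨γ, hγx, hγδ⟩ := hgen hsp
  have hpreT : IsClosed (f ⁻¹' T) := hT.preimage f.continuous
  have hγT : γ ∈ f ⁻¹' T := by
    change f γ ∈ T
    rw [hγδ]; exact hΔ.1.2 hδΔ
  have himg : f '' closure {γ} = Δ := by
    rw [← hcl.closure_image_eq_of_continuous f.continuous, Set.image_singleton, hγδ, hδ.def]
  refine ⟨closure {γ}, ⟨⟨isIrreducible_singleton.closure, ?_⟩, ?_⟩,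
    specializes_iff_mem_closure.1 hγx, himg⟩
  · exact (hpreT.closure_subset_iff).2 (Set.singleton_subset_iff.2 hγT)
  · rintro S ⟨hSirr, hST⟩ hΓS
    have hScl : closure S ⊆ f ⁻¹' T := (hpreT.closure_subset_iff).2 hST
    obtain ⟨σ, hσ⟩ := QuasiSober.sober hSirr.closure isClosed_closure
    have hγS : γ ∈ closure S := subset_closure (hΓS (subset_closure rfl))
    have hσγ : σ ⤳ γ := by
      rw [specializes_iff_mem_closure, hσ.def]; exact hγS
    have hfσT : f σ ∈ T := hScl hσ.mem
    have h1 : f σ ⤳ δ := hγδ ▸ hσγ.map f.continuous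
    have h2 : closure {f σ} ⊆ Δ := by
      refine hΔ.2 ⟨isIrreducible_singleton.closure, ?_⟩ ?_
      · exact (hT.closure_subset_iff).2 (Set.singleton_subset_iff.2 hfσT)
      · rw [← hδ.def]
        exact h1.closure_subset
    have h3 : δ ⤳ f σ := by
      rw [specializes_iff_mem_closure, hδ.def]
      exact h2 (subset_closure rfl)
    have h4 : f σ = δ := (h1.antisymm h3).eq
    have h5 : σ = γ := hinc γ σ hσγ (h4.trans hγδ.symm)
    calc S ⊆ closure S := subset_closure
      _ = closure {σ} := hσ.def.symm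
      _ = closure {γ} := by rw [h5]

/-- the maximal irreducible subsets of a closed subset of a Noetherian space are finite in
number -/
theorem finite_maximal_irreducible {α : Type*} [TopologicalSpace α] [TopologicalSpace.NoetherianSpace α]
    (T : Set α) (hT : IsClosed T) :
    {Z : Set α | Maximal (fun S : Set α => IsIrreducible S ∧ S ⊆ T) Z}.Finite := by
  obtain ⟨S, hSf, hSc, hSi, hSU⟩ :=
    TopologicalSpace.NoetherianSpace.exists_finite_set_isClosed_irreducible (s := T) hT
  refine hSf.subset ?_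
  intro Z hZ
  have hZT : Z ⊆ ⋃₀ S := hSU ▸ hZ.1.2
  obtain ⟨t, ht, hZt⟩ := (isIrreducible_iff_sUnion_isClosed.1 hZ.1.1) hSf.toFinset
    (fun t ht => hSc t (hSf.mem_toFinset.1 ht)) (by simpa using hZT)
  have ht' : t ∈ S := hSf.mem_toFinset.1 ht
  have : t ⊆ Z := hZ.2 ⟨hSi t ht', hSU ▸ Set.subset_sUnion_of_mem ht'⟩ hZt
  rw [show Z = t from Set.Subset.antisymm hZt this]
  exact ht'

end Groth.Agent.Lib.Helper16GoingDownSch
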