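import Mathlib

set_option autoImplicit false
set_option linter.style.haveILetI false
set_option linter.unusedSectionVars false

namespace Helper16GrBasis

open Module

/-- A homogeneous basis of a graded module computes the ranks of the pieces. -/
theorem finrank_piece_eq {R M : Type*} [CommRing R] [Nontrivial R] [AddCommGroup M] [Module R M]
    (ℳ : ℕ → Submodule R M) (hind : iSupIndep ℳ) {J : Type*} (B : Basis J R M) (deg : J → ℕ)
    (hB : ∀ j, B j ∈ ℳ (deg j)) (d : ℕ) :
    Module.finrank R (ℳ d) = Nat.card {j // deg j = d} := by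
  classical
  let N : ℕ → Submodule R M := fun d => Submodule.span R (Set.range fun j : {j // deg j = d} => B j)
  have h1 : ∀ d, N d ≤ ℳ d := by
    intro d
    rw [Submodule.span_le]
    rintro _ ⟨⟨j, hj⟩, rfl⟩
    have := hB j
    rw [hj] at this
    exact this
  have h2 : ⨆ d, N d = ⊤ := by
    rw [eq_top_iff, ← B.span_eq, Submodule.span_le]
    rintro _ ⟨j, rfl⟩
    exact (le_iSup N (deg j)) (Submodule.subset_span ⟨⟨j, rfl⟩, rfl⟩)
  have h3 : ℳ d ≤ N d := by
    intro x hx
    have hx' : x ∈ ⨆ d, N d := by rw [h2]; trivial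
    rw [iSup_split_single N d, Submodule.mem_sup] at hx'
    obtain ⟨y, hy, z, hz, rfl⟩ := hx'
    have hz' : z ∈ ⨆ (j) (_ : j ≠ d), ℳ j := by
      refine (iSup_mono fun j => iSup_mono fun _ => h1 j) hz
    have hz'' : z ∈ ℳ d := by
      have : z = (y + z) - y := by abel
      rw [this]
      exact sub_mem hx (h1 d hy)
    have hz0 : z = 0 := by
      have hd := hind d
      rw [Submodule.disjoint_def] at hd
      exact hd z hz'' hz'
    rw [hz0, add_zero]
    exact hy
  have h4 : ℳ d = N d := le_antisymm h3 (h1 d)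
  have hli : LinearIndependent R (fun j : {j // deg j = d} => B j) :=
    B.linearIndependent.comp Subtype.val Subtype.val_injective
  rw [h4]
  exact Module.finrank_eq_nat_card_basis (Basis.span hli)

/-- counting pairs by total degree -/
theorem finite_prod_fiber {J K : Type*} (dJ : J → ℕ) (dK : K → ℕ)
    (hJ : ∀ d, Finite {j // dJ j = d}) (hK : ∀ d, Finite {k // dK k = d}) (d : ℕ) :
    Finite {p : J × K // dJ p.1 + dK p.2 = d} ∧
    Nat.card {p : J × K // dJ p.1 + dK p.2 = d} =
      ∑ pq ∈ Finset.HasAntidiagonal.antidiagonal d, Nat.card {j // dJ j = pq.1} * Nat.card {k // dK k = pq.2} := by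
  classical
  let e : {p : J × K // dJ p.1 + dK p.2 = d} ≃
      Σ pq : Finset.HasAntidiagonal.antidiagonal d, {j // dJ j = pq.1.1} × {k // dK k = pq.1.2} :=
    { toFun := fun p => ⟨⟨(dJ p.1.1, dK p.1.2), Finset.HasAntidiagonal.mem_antidiagonal.2 p.2⟩, ⟨p.1.1, rfl⟩, ⟨p.1.2, rfl⟩⟩
      invFun := fun x => ⟨(x.2.1.1, x.2.2.1), by
        have := Finset.HasAntidiagonal.mem_antidiagonal.1 x.1.2
        rw [x.2.1.2, x.2.2.2]; exact this⟩
      left_inv := fun p => rfl
      right_inv := by
        rintro ⟨⟨⟨p, q⟩, hpq⟩, ⟨j, hj⟩, ⟨k, hk⟩⟩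
        simp only at hj hk
        subst hj hk
        rfl }
  haveI : ∀ pq : Finset.HasAntidiagonal.antidiagonal d, Finite ({j // dJ j = pq.1.1} × {k // dK k = pq.1.2}) :=
    fun pq => by
      haveI := hJ pq.1.1
      haveI := hK pq.1.2
      infer_instance
  refine ⟨Finite.of_equiv _ e.symm, ?_⟩
  rw [Nat.card_congr e, Nat.card_sigma]
  rw [← Finset.sum_coe_sort (Finset.HasAntidiagonal.antidiagonal d)
    (fun pq => Nat.card {j // dJ j = pq.1} * Nat.card {k // dK k = pq.2})]
  refine Finset.sum_congr rfl fun pq _ => ?_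
  rw [Nat.card_prod]

/-- counting functions `Fin k → ℕ` by their sum -/
theorem card_fin_fun (k : ℕ) : ∀ d : ℕ,
    Finite {f : Fin k → ℕ // ∑ i, f i = d} ∧
    (Nat.card {f : Fin k → ℕ // ∑ i, f i = d} : ℤ) =
      PowerSeries.coeff d ((PowerSeries.mk fun _ => (1 : ℤ)) ^ k) := by
  induction k with
  | zero =>
    intro d
    constructor
    · infer_instance
    · rw [pow_zero, PowerSeries.coeff_one]
      by_cases hd : d = 0
      · subst hd
        rw [if_pos rfl]
        have : Nat.card {f : Fin 0 → ℕ // ∑ i, f i = 0} = 1 := by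
          rw [Nat.card_eq_one_iff_unique]
          refine ⟨⟨fun a b => Subtype.ext (Subsingleton.elim _ _)⟩, ⟨⟨fun i => i.elim0, by simp⟩⟩⟩
        rw [this]; rfl
      · rw [if_neg hd]
        have : IsEmpty {f : Fin 0 → ℕ // ∑ i, f i = d} := by
          constructor
          rintro ⟨f, hf⟩
          simp at hf
          exact hd hf.symm
        rw [Nat.card_of_isEmpty]; rfl
  | succ k ih =>
    intro d
    have hN : ∀ d, Finite {n : ℕ // id n = d} := fun d =>
      Finite.of_injective (fun _ => ()) (fun a b _ => Subtype.ext (a.2.trans b.2.symm))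
    have hK : ∀ d, Finite {f : Fin k → ℕ // ∑ i, f i = d} := fun d => (ih d).1
    obtain ⟨hfin, hcard⟩ := finite_prod_fiber (J := ℕ) (K := Fin k → ℕ) id (fun f => ∑ i, f i)
      hN hK d
    let e : {f : Fin (k + 1) → ℕ // ∑ i, f i = d} ≃
        {p : ℕ × (Fin k → ℕ) // id p.1 + ∑ i, p.2 i = d} :=
      (Fin.consEquiv (fun _ => ℕ)).symm.subtypeEquiv (by
        intro f
        rw [Fin.sum_univ_succ]
        rfl)
    refine ⟨Finite.of_equiv _ e.symm, ?_⟩
    rw [Nat.card_congr e, hcard, pow_succ', PowerSeries.coeff_mul]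
    push_cast
    refine Finset.sum_congr rfl fun pq _ => ?_
    rw [← (ih pq.2).2, PowerSeries.coeff_mk]
    have : Nat.card {n : ℕ // id n = pq.1} = 1 := by
      rw [Nat.card_eq_one_iff_unique]
      exact ⟨⟨fun a b => Subtype.ext (a.2.trans b.2.symm)⟩, ⟨⟨pq.1, rfl⟩⟩⟩
    rw [this]
    push_cast
    ring

end Helper16GrBasis
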