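import Mathlib

/-!
Hermitian matrices over a commutative ring with involution: conjugate transpose `st`,
congruence `cg v h = (lam v)ᵀ h v`, the sesquilinear form `form`, and the basic splitting step
(orthogonal complement of a vector of unit length).
-/

set_option autoImplicit false
set_option linter.style.haveILetI false
set_option linter.unusedSectionVars false

namespace Groth.Agent.Lib.Helper16Herm

open Matrix

universe v

variable {A : Type v} [CommRing A] (lam : A ≃+* A)
variable {ι : Type} [Fintype ι] [DecidableEq ι]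

/-- conjugate transpose with respect to `lam`. -/
def st (v : Matrix ι ι A) : Matrix ι ι A := (v.map lam).transpose

/-- congruence transform `(lam v)ᵀ h v`. -/
def cg (v h : Matrix ι ι A) : Matrix ι ι A := st lam v * h * v

/-- the sesquilinear form `(x, y) ↦ (lam x)ᵀ h y`. -/
def form (h : Matrix ι ι A) (x y : ι → A) : A := (fun i => lam (x i)) ⬝ᵥ (h *ᵥ y)

/-- `h` is `(ε, lam)`-hermitian. -/
def Herm (ε : A) (h : Matrix ι ι A) : Prop := ε • st lam h = h

theorem st_apply (v : Matrix ι ι A) (i j : ι) : st lam v i j = lam (v j i) := rfl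

theorem st_mul (a b : Matrix ι ι A) : st lam (a * b) = st lam b * st lam a := by
  unfold st
  rw [Matrix.map_mul, Matrix.transpose_mul]

theorem st_one : st lam (1 : Matrix ι ι A) = 1 := by
  ext i j
  rw [st_apply, Matrix.one_apply, Matrix.one_apply]
  by_cases hij : i = j
  · subst hij; simp
  · have : ¬ j = i := fun h => hij h.symm
    simp [hij, this]

theorem st_st (hlam : Function.Involutive lam) (v : Matrix ι ι A) : st lam (st lam v) = v := by
  ext i j
  rw [st_apply, st_apply, hlam]

theorem cg_mul (v₁ v₂ h : Matrix ι ι A) : cg lam (v₁ * v₂) h = cg lam v₂ (cg lam v₁ h) := by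
  unfold cg
  rw [st_mul]
  simp only [Matrix.mul_assoc]

theorem cg_one (h : Matrix ι ι A) : cg lam 1 h = h := by
  unfold cg
  rw [st_one, Matrix.one_mul, Matrix.mul_one]

theorem isUnit_st {v : Matrix ι ι A} (hv : IsUnit v) : IsUnit (st lam v) := by
  rw [Matrix.isUnit_iff_isUnit_det] at hv ⊢
  unfold st
  rw [Matrix.det_transpose]
  have h1 : (v.map lam).det = lam v.det := by
    have := RingHom.map_det (lam : A →+* A) v
    exact this.symm
  rw [h1]
  exact hv.map lam

theorem isUnit_cg {v h : Matrix ι ι A} (hv : IsUnit v) (hh : IsUnit h) :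
    IsUnit (cg lam v h) :=
  ((isUnit_st lam hv).mul hh).mul hv

theorem herm_apply {ε : A} {h : Matrix ι ι A} (hh : Herm lam ε h) (i j : ι) :
    ε * lam (h j i) = h i j := by
  have := congrFun (congrFun hh i) j
  simpa [st] using this

theorem herm_cg (hlam : Function.Involutive lam) {ε : A} {h : Matrix ι ι A}
    (hh : Herm lam ε h) (v : Matrix ι ι A) : Herm lam ε (cg lam v h) := by
  unfold Herm cg
  rw [st_mul, st_mul, st_st lam hlam, ← Matrix.mul_smul, ← Matrix.smul_mul]
  unfold Herm at hh
  rw [hh, Matrix.mul_assoc]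

theorem cg_apply (v h : Matrix ι ι A) (a b : ι) :
    cg lam v h a b = form lam h (fun i => v i a) (fun j => v j b) := by
  unfold cg form
  rw [Matrix.mul_assoc, Matrix.mul_apply]
  simp only [dotProduct, st_apply, Matrix.mul_apply, Matrix.mulVec]

theorem form_add_right (h : Matrix ι ι A) (x y z : ι → A) :
    form lam h x (y + z) = form lam h x y + form lam h x z := by
  unfold form
  rw [Matrix.mulVec_add, dotProduct_add]

theorem form_smul_right (h : Matrix ι ι A) (x : ι → A) (c : A) (y : ι → A) :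
    form lam h x (c • y) = c * form lam h x y := by
  unfold form
  rw [Matrix.mulVec_smul, dotProduct_smul, smul_eq_mul]

theorem form_add_left (h : Matrix ι ι A) (x y z : ι → A) :
    form lam h (x + y) z = form lam h x z + form lam h y z := by
  unfold form
  have : (fun i => lam ((x + y) i)) = (fun i => lam (x i)) + (fun i => lam (y i)) := by
    ext i; simp
  rw [this, add_dotProduct]

theorem form_smul_left (h : Matrix ι ι A) (c : A) (x z : ι → A) :
    form lam h (c • x) z = lam c * form lam h x z := by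
  unfold form
  have : (fun i => lam ((c • x) i)) = lam c • (fun i => lam (x i)) := by
    ext i; simp
  rw [this, smul_dotProduct, smul_eq_mul]

theorem lam_single (a : ι) :
    (fun i => lam ((Pi.single a 1 : ι → A) i)) = Pi.single a 1 := by
  ext i
  by_cases hi : i = a
  · subst hi; simp
  · simp [hi]

theorem form_single_left (h : Matrix ι ι A) (a : ι) (y : ι → A) :
    form lam h (Pi.single a 1) y = ∑ j, h a j * y j := by
  unfold form
  rw [lam_single, single_one_dotProduct]
  rfl

theorem form_single_right (h : Matrix ι ι A) (x : ι → A) (b : ι) :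
    form lam h x (Pi.single b 1) = ∑ i, lam (x i) * h i b := by
  unfold form
  rw [Matrix.mulVec_single_one]
  rfl

theorem form_single_single (h : Matrix ι ι A) (a b : ι) :
    form lam h (Pi.single a 1) (Pi.single b 1) = h a b := by
  rw [form_single_left]
  simp [Pi.single_apply]

theorem form_herm (hlam : Function.Involutive lam) {ε : A} {h : Matrix ι ι A}
    (hh : Herm lam ε h) (x y : ι → A) :
    form lam h y x = ε * lam (form lam h x y) := by
  have e1 : form lam h y x = ∑ i, ∑ j, lam (y j) * (h j i * x i) := by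
    unfold form
    simp only [dotProduct, Matrix.mulVec, Finset.mul_sum]
    exact Finset.sum_comm
  have e2 : ε * lam (form lam h x y)
      = ∑ i, ∑ j, ε * (x i * (lam (h i j) * lam (y j))) := by
    unfold form
    simp only [dotProduct, Matrix.mulVec, map_sum, map_mul, hlam _, Finset.mul_sum]
  rw [e1, e2]
  refine Finset.sum_congr rfl fun i _ => Finset.sum_congr rfl fun j _ => ?_
  rw [← herm_apply lam hh j i]
  ring

/-- `1 + p qᵀ` is invertible when `qᵀ p = 0`. -/
theorem isUnit_one_add_vecMulVec (p q : ι → A) (hpq : q ⬝ᵥ p = 0) :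
    IsUnit (1 + vecMulVec p q : Matrix ι ι A) := by
  rw [Matrix.isUnit_iff_isUnit_det, Matrix.vecMulVec_eq Unit,
    Matrix.det_one_add_replicateCol_mul_replicateRow, hpq, add_zero]
  exact isUnit_one

/-- columns of `1 + p qᵀ`. -/
theorem col_one_add_vecMulVec (p q : ι → A) (b : ι) :
    (fun j => (1 + vecMulVec p q : Matrix ι ι A) j b) = Pi.single b 1 + q b • p := by
  ext j
  simp only [Matrix.add_apply, Matrix.one_apply, Matrix.vecMulVec_apply, Pi.add_apply,
    Pi.single_apply, Pi.smul_apply, smul_eq_mul]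
  ring


/-- Stage A: make a pointed vector `x` the `i₀`-th basis vector. -/
theorem stageA (h : Matrix ι ι A) (x : ι → A) (i₀ : ι) (hx : x i₀ = 1) :
    ∃ v : Matrix ι ι A, IsUnit v ∧
      cg lam v h i₀ i₀ = form lam h x x ∧
      (∀ b, b ≠ i₀ → cg lam v h i₀ b = form lam h x (Pi.single b 1)) ∧
      (∀ a, a ≠ i₀ → cg lam v h a i₀ = form lam h (Pi.single a 1) x) ∧
      (∀ a b, a ≠ i₀ → b ≠ i₀ → cg lam v h a b = h a b) := by
  have hc0 : (fun j => (1 + vecMulVec (x - Pi.single i₀ 1) (Pi.single i₀ 1) : Matrix ι ι A) j i₀)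
      = x := by
    rw [col_one_add_vecMulVec]
    simp
  have hcb : ∀ b, b ≠ i₀ →
      (fun j => (1 + vecMulVec (x - Pi.single i₀ 1) (Pi.single i₀ 1) : Matrix ι ι A) j b)
      = Pi.single b 1 := by
    intro b hb
    rw [col_one_add_vecMulVec]
    simp [hb]
  refine ⟨1 + vecMulVec (x - Pi.single i₀ 1) (Pi.single i₀ 1), ?_, ?_, ?_, ?_, ?_⟩
  · apply isUnit_one_add_vecMulVec
    rw [single_one_dotProduct]
    simp [hx]
  · rw [cg_apply, hc0]
  · intro b hb
    rw [cg_apply, hc0, hcb b hb]
  · intro a ha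
    rw [cg_apply, hc0, hcb a ha]
  · intro a b ha hb
    rw [cg_apply, hcb a ha, hcb b hb, form_single_single]

/-- Stage B: clear the row and column of a unit diagonal entry. -/
theorem stageB {ε : A} {h : Matrix ι ι A}
    (hh : Herm lam ε h) (i₀ : ι) (uinv : A) (hu : h i₀ i₀ * uinv = 1) :
    ∃ v : Matrix ι ι A, IsUnit v ∧ cg lam v h i₀ i₀ = h i₀ i₀ ∧
      (∀ a, a ≠ i₀ → cg lam v h i₀ a = 0 ∧ cg lam v h a i₀ = 0) ∧
      (∀ a b, a ≠ i₀ → b ≠ i₀ → cg lam v h a b = h a b - uinv * h a i₀ * h i₀ b) := by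
  set c' : ι → A := fun b => if b = i₀ then 0 else uinv * h i₀ b with hc'
  have hc0 : c' i₀ = 0 := by simp [hc']
  have hcne : ∀ b, b ≠ i₀ → c' b = uinv * h i₀ b := by
    intro b hb
    simp [hc', hb]
  have hεu : ε * lam (h i₀ i₀) = h i₀ i₀ := herm_apply lam hh i₀ i₀
  have hu' : lam (h i₀ i₀) * lam uinv = 1 := by rw [← map_mul, hu, map_one]
  have hlu : lam uinv = ε * uinv := by
    linear_combination (-uinv * lam uinv) * hεu - lam uinv * hu + ε * uinv * hu'
  have hlc : ∀ a, a ≠ i₀ → lam (c' a) = uinv * h a i₀ := by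
    intro a ha
    rw [hcne a ha, map_mul, hlu, ← herm_apply lam hh a i₀]
    ring
  have key : ∀ a b, cg lam (1 + vecMulVec (Pi.single i₀ 1) (-c')) h a b
      = h a b - c' b * h a i₀ - lam (c' a) * h i₀ b + lam (c' a) * c' b * h i₀ i₀ := by
    intro a b
    rw [cg_apply, col_one_add_vecMulVec, col_one_add_vecMulVec]
    simp only [form_add_left, form_add_right, form_smul_left, form_smul_right,
      form_single_single, Pi.neg_apply, map_neg]
    ring
  refine ⟨1 + vecMulVec (Pi.single i₀ 1) (-c'), ?_, ?_, ?_, ?_⟩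
  · apply isUnit_one_add_vecMulVec
    rw [dotProduct_single_one]
    simp [hc0]
  · rw [key, hc0, map_zero]
    ring
  · intro a ha
    constructor
    · rw [key, hc0, hcne a ha, map_zero]
      linear_combination (-(h i₀ a)) * hu
    · rw [key, hc0, hlc a ha]
      linear_combination (-(h a i₀)) * hu
  · intro a b ha hb
    rw [key, hlc a ha, hcne b hb]
    linear_combination (uinv * h a i₀ * h i₀ b) * hu

/-- The splitting step: a pointed vector of unit length splits off, with an explicit formula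
for the Gram matrix of the orthogonal complement. -/
theorem split (hlam : Function.Involutive lam) {ε : A} {h : Matrix ι ι A}
    (hh : Herm lam ε h) (x : ι → A) (i₀ : ι) (hx : x i₀ = 1) (uinv : A)
    (hu : form lam h x x * uinv = 1) :
    ∃ v : Matrix ι ι A, IsUnit v ∧ cg lam v h i₀ i₀ = form lam h x x ∧
      (∀ a, a ≠ i₀ → cg lam v h i₀ a = 0 ∧ cg lam v h a i₀ = 0) ∧
      (∀ a b, a ≠ i₀ → b ≠ i₀ → cg lam v h a b
        = h a b - uinv * form lam h (Pi.single a 1) x * form lam h x (Pi.single b 1)) := by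
  obtain ⟨va, hva, A1, A2, A3, A4⟩ := stageA lam h x i₀ hx
  have hh₁ : Herm lam ε (cg lam va h) := herm_cg lam hlam hh va
  have hu₁ : cg lam va h i₀ i₀ * uinv = 1 := by rw [A1]; exact hu
  obtain ⟨vb, hvb, B1, B2, B3⟩ := stageB lam hh₁ i₀ uinv hu₁
  refine ⟨va * vb, hva.mul hvb, ?_, ?_, ?_⟩
  · rw [cg_mul, B1, A1]
  · intro a ha
    rw [cg_mul]
    exact B2 a ha
  · intro a b ha hb
    rw [cg_mul, B3 a b ha hb, A4 a b ha hb, A3 a ha, A2 b hb]


/-! ### Jacobson radical facts -/

theorem jac_rad {t : A} (ht : t * t ∈ Ring.jacobson A) : t ∈ Ring.jacobson A := by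
  rw [← Ideal.jacobson_bot] at ht ⊢
  unfold Ideal.jacobson at ht ⊢
  rw [Ideal.mem_sInf] at ht ⊢
  intro M hM
  have h1 := ht hM
  have : M.IsMaximal := hM.2
  exact (this.isPrime.mem_or_mem h1).elim id id

theorem jac_lam (hlam : Function.Involutive lam) {t : A} (ht : t ∈ Ring.jacobson A) :
    lam t ∈ Ring.jacobson A := by
  rw [← Ideal.jacobson_bot, Ideal.mem_jacobson_bot] at ht ⊢
  intro z
  have := (ht (lam z)).map lam
  rwa [map_add, map_mul, hlam, map_one] at this

theorem one_notMem_jac [Nontrivial A] : (1 : A) ∉ Ring.jacobson A := by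
  intro h
  rw [← Ideal.jacobson_bot, Ideal.mem_jacobson_bot] at h
  have := h (-1)
  simp at this

theorem isUnit_add_jac {u e : A} (hu : IsUnit u) (he : e ∈ Ring.jacobson A) :
    IsUnit (u + e) := by
  obtain ⟨w, hw⟩ := hu.exists_right_inv
  rw [← Ideal.jacobson_bot, Ideal.mem_jacobson_bot] at he
  have h1 := he w
  have : u + e = u * (e * w + 1) := by
    calc u + e = u + e * (u * w) := by rw [hw, mul_one]
      _ = u * (e * w + 1) := by ring
  rw [this]
  exact hu.mul h1

theorem not_isUnit_of_mem_jac [Nontrivial A] {t : A} (ht : t ∈ Ring.jacobson A) :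
    ¬ IsUnit t := by
  intro hu
  obtain ⟨w, hw⟩ := hu.exists_right_inv
  apply one_notMem_jac (A := A)
  rw [← hw]
  exact Ideal.mul_mem_right _ _ ht

section Main

variable (hlam : Function.Involutive lam) {ε : A} (hε : ε = 1 ∨ ε = -1)
  (hNm : ∀ t : A, ¬ IsUnit t → t * lam t ∈ Ring.jacobson A)

include hε in
theorem eps_sq : ε * ε = 1 := by
  rcases hε with rfl | rfl <;> simp

include hε in
theorem isUnit_eps : IsUnit ε := by
  rcases hε with rfl | rfl
  · exact isUnit_one
  · exact isUnit_one.neg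

include hε hNm in
theorem mem_of_herm {t : A} (ht : lam t = ε * t) (hnu : ¬ IsUnit t) :
    t ∈ Ring.jacobson A := by
  have h1 := hNm t hnu
  rw [ht] at h1
  apply jac_rad
  have h2 : t * t = ε * (t * (ε * t)) := by
    linear_combination (-(t * t)) * eps_sq hε
  rw [h2]
  exact Ideal.mul_mem_left _ _ h1

include hNm in
theorem mem_of_local (hloc : ∀ c : A, lam c - c ∈ Ring.jacobson A) {t : A}
    (hnu : ¬ IsUnit t) : t ∈ Ring.jacobson A := by
  have h1 := hNm t hnu
  apply jac_rad
  have h2 : t * t = t * lam t - t * (lam t - t) := by ring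
  rw [h2]
  exact sub_mem h1 (Ideal.mul_mem_left _ _ (hloc t))

include hlam hε in
theorem form_self {h : Matrix ι ι A} (hh : Herm lam ε h) (x : ι → A) :
    lam (form lam h x x) = ε * form lam h x x := by
  have := form_herm lam hlam hh x x
  linear_combination (-lam (form lam h x x)) * eps_sq hε - ε * this

/-- `G` is diagonal along the index set `D`. -/
def Diag (D : Finset ι) (G : Matrix ι ι A) : Prop :=
  ∀ a ∈ D, ∀ b, b ≠ a → G a b = 0 ∧ G b a = 0

/-- there is a pointed vector, supported off `D`, of unit length. -/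
def NAp (D : Finset ι) (G : Matrix ι ι A) : Prop :=
  ∃ (x : ι → A) (i₀ : ι), i₀ ∉ D ∧ (∀ a ∈ D, x a = 0) ∧ x i₀ = 1 ∧ IsUnit (form lam G x x)

theorem form_single_left_eq_zero {D : Finset ι} {G : Matrix ι ι A} (hD : Diag D G)
    {x : ι → A} (hx : ∀ a ∈ D, x a = 0) {a : ι} (ha : a ∈ D) :
    form lam G (Pi.single a 1) x = 0 := by
  rw [form_single_left]
  apply Finset.sum_eq_zero
  intro j _
  by_cases hj : j = a
  · subst hj
    rw [hx _ ha, mul_zero]
  · rw [(hD a ha j hj).1, zero_mul]

theorem form_single_right_eq_zero {D : Finset ι} {G : Matrix ι ι A} (hD : Diag D G)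
    {x : ι → A} (hx : ∀ a ∈ D, x a = 0) {a : ι} (ha : a ∈ D) :
    form lam G x (Pi.single a 1) = 0 := by
  rw [form_single_right]
  apply Finset.sum_eq_zero
  intro i _
  by_cases hi : i = a
  · subst hi
    rw [hx _ ha, map_zero, zero_mul]
  · rw [(hD a ha i hi).2, mul_zero]

theorem diag_insert {D : Finset ι} {G : Matrix ι ι A} (hD : Diag D G)
    {x : ι → A} (hx : ∀ a ∈ D, x a = 0) {i₀ : ι} (hi₀ : i₀ ∉ D) (G₁ : Matrix ι ι A) (uinv : A)
    (P2 : ∀ a, a ≠ i₀ → G₁ i₀ a = 0 ∧ G₁ a i₀ = 0)
    (P3 : ∀ a b, a ≠ i₀ → b ≠ i₀ → G₁ a b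
        = G a b - uinv * form lam G (Pi.single a 1) x * form lam G x (Pi.single b 1)) :
    Diag (insert i₀ D) G₁ := by
  intro a ha b hba
  rw [Finset.mem_insert] at ha
  rcases ha with rfl | ha
  · exact P2 b hba
  · have hai : a ≠ i₀ := fun h => hi₀ (h ▸ ha)
    by_cases hb : b = i₀
    · subst hb
      exact ⟨(P2 a hai).2, (P2 a hai).1⟩
    · constructor
      · rw [P3 a b hai hb, form_single_left_eq_zero lam hD hx ha, (hD a ha b hba).1]
        ring
      · rw [P3 b a hb hai, form_single_right_eq_zero lam hD hx ha, (hD a ha b hba).2]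
        ring

include hlam hε hNm in
/-- If no pointed vector off `D` has unit length then the form is alternating modulo the
Jacobson radical off `D`, `ε ≡ -1` and `lam ≡ id`. -/
theorem facts_of_not_nap {D : Finset ι} {G g : Matrix ι ι A} (hg : G * g = 1)
    (hh : Herm lam ε G) (hD : Diag D G) (hN : ¬ NAp lam D G) {i : ι} (hi : i ∉ D) :
    (∀ c : A, c + ε * lam c ∈ Ring.jacobson A) ∧ (∀ j, j ∉ D → G j j ∈ Ring.jacobson A) := by
  -- step 1 : diagonal entries
  have s1 : ∀ j, j ∉ D → G j j ∈ Ring.jacobson A := by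
    intro j hj
    have hnu : ¬ IsUnit (form lam G (Pi.single j 1) (Pi.single j 1)) := by
      intro hu
      apply hN
      refine ⟨Pi.single j 1, j, hj, ?_, by simp, hu⟩
      intro a ha
      have : a ≠ j := fun h => hj (h ▸ ha)
      simp [this]
    have := mem_of_herm lam hε hNm (form_self lam hlam hε hh _) hnu
    rwa [form_single_single] at this
  -- step 2 : off-diagonal entries
  have s2 : ∀ j, j ∉ D → j ≠ i → ∀ c : A, c * G i j + ε * lam (c * G i j) ∈ Ring.jacobson A := by
    intro j hj hji c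
    have hnu : ¬ IsUnit (form lam G (Pi.single i 1 + c • Pi.single j 1)
        (Pi.single i 1 + c • Pi.single j 1)) := by
      intro hu
      apply hN
      refine ⟨Pi.single i 1 + c • Pi.single j 1, i, hi, ?_, ?_, hu⟩
      · intro a ha
        have h1 : a ≠ i := fun h => hi (h ▸ ha)
        have h2 : a ≠ j := fun h => hj (h ▸ ha)
        simp [h1, h2]
      · have : i ≠ j := fun h => hji h.symm
        simp [this]
    have h1 := mem_of_herm lam hε hNm (form_self lam hlam hε hh _) hnu
    have h2 : form lam G (Pi.single i 1 + c • Pi.single j 1)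
        (Pi.single i 1 + c • Pi.single j 1)
        = G i i + lam c * c * G j j + (c * G i j + ε * lam (c * G i j)) := by
      simp only [form_add_left, form_add_right, form_smul_left, form_smul_right,
        form_single_single]
      rw [← herm_apply lam hh j i, map_mul]
      ring
    rw [h2] at h1
    have h3 : G i i + lam c * c * G j j ∈ Ring.jacobson A :=
      add_mem (s1 i hi) (Ideal.mul_mem_left _ _ (s1 j hj))
    have := sub_mem h1 h3
    rwa [add_sub_cancel_left] at this
  refine ⟨?_, s1⟩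
  -- step 3
  intro c
  have hrow : ∑ j, G i j * g j i = 1 := by
    have := congrFun (congrFun hg i) i
    rwa [Matrix.mul_apply, Matrix.one_apply_eq] at this
  have hc : c = ∑ j, (c * g j i) * G i j := by
    calc c = c * ∑ j, G i j * g j i := by rw [hrow, mul_one]
      _ = ∑ j, (c * g j i) * G i j := by
        rw [Finset.mul_sum]
        exact Finset.sum_congr rfl fun j _ => by ring
  have hT : c + ε * lam c
      = ∑ j, ((c * g j i) * G i j + ε * lam ((c * g j i) * G i j)) := by
    rw [Finset.sum_add_distrib, ← Finset.mul_sum, ← map_sum, ← hc]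
  rw [hT]
  apply Ideal.sum_mem
  intro j _
  by_cases hjD : j ∈ D
  · have hij : i ≠ j := fun h => hi (h ▸ hjD)
    rw [(hD j hjD i hij).2]
    simp
  · by_cases hji : j = i
    · subst hji
      have h1 : c * g j j * G j j ∈ Ring.jacobson A := Ideal.mul_mem_left _ _ (s1 j hi)
      exact add_mem h1 (Ideal.mul_mem_left _ _ (jac_lam lam hlam h1))
    · exact s2 j hjD hji _


include hNm in
theorem exists_unit_entry [Nontrivial A] (hloc : ∀ c : A, lam c - c ∈ Ring.jacobson A)
    {D : Finset ι} {G g : Matrix ι ι A} (hg : G * g = 1) (hD : Diag D G) {i : ι}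
    (hi : i ∉ D) : ∃ j, j ∉ D ∧ IsUnit (G i j) := by
  by_contra hcon
  push Not at hcon
  apply one_notMem_jac (A := A)
  have hrow : ∑ j, G i j * g j i = 1 := by
    have := congrFun (congrFun hg i) i
    rwa [Matrix.mul_apply, Matrix.one_apply_eq] at this
  rw [← hrow]
  apply Ideal.sum_mem
  intro j _
  by_cases hjD : j ∈ D
  · have hij : i ≠ j := fun h => hi (h ▸ hjD)
    rw [(hD j hjD i hij).2, zero_mul]
    exact zero_mem _
  · exact Ideal.mul_mem_right _ _ (mem_of_local lam hNm hloc (hcon j hjD))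

include hlam hε hNm in
theorem splitGood [Nontrivial A] {D : Finset ι} {G : Matrix ι ι A} (hG : IsUnit G)
    (hh : Herm lam ε G) (hD : Diag D G) (hN : NAp lam D G) :
    ∃ v : Matrix ι ι A, IsUnit v ∧ ∃ i₀, i₀ ∉ D ∧ Diag (insert i₀ D) (cg lam v G) ∧
      (insert i₀ D = Finset.univ ∨ NAp lam (insert i₀ D) (cg lam v G)) := by
  obtain ⟨x, i₀, hi₀, hx, hxi, hu⟩ := hN
  obtain ⟨uinv, huinv⟩ := hu.exists_right_inv
  obtain ⟨v₁, hv₁, P1, P2, P3⟩ := split lam hlam hh x i₀ hxi uinv huinv
  have hD₁ : Diag (insert i₀ D) (cg lam v₁ G) := diag_insert lam hD hx hi₀ _ uinv P2 P3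
  by_cases hgood : insert i₀ D = Finset.univ ∨ NAp lam (insert i₀ D) (cg lam v₁ G)
  · exact ⟨v₁, hv₁, i₀, hi₀, hD₁, hgood⟩
  · push Not at hgood
    obtain ⟨hne, hnN⟩ := hgood
    have hG₁u : IsUnit (cg lam v₁ G) := isUnit_cg lam hv₁ hG
    have hh₁ : Herm lam ε (cg lam v₁ G) := herm_cg lam hlam hh v₁
    generalize hG₁ : cg lam v₁ G = G₁ at *
    obtain ⟨g₁, hg₁⟩ := hG₁u.exists_right_inv
    obtain ⟨j₁, hj₁⟩ : ∃ j, j ∉ insert i₀ D := by
      by_contra hcon
      push Not at hcon
      exact hne (Finset.eq_univ_iff_forall.mpr hcon)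
    obtain ⟨hT, hdiag⟩ := facts_of_not_nap lam hlam hε hNm hg₁ hh₁ hD₁ hnN hj₁
    have hloc : ∀ c : A, lam c - c ∈ Ring.jacobson A := by
      intro c
      have h1 := hT 1
      have h2 := hT c
      rw [map_one, mul_one] at h1
      have : lam c - c = (1 + ε) * lam c - (c + ε * lam c) := by ring
      rw [this]
      exact sub_mem (Ideal.mul_mem_right _ _ h1) h2
    obtain ⟨j₂, hj₂, hunit⟩ := exists_unit_entry lam hNm hloc hg₁ hD₁ hj₁
    have hj₁i : j₁ ≠ i₀ := fun h => hj₁ (h ▸ Finset.mem_insert_self _ _)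
    have hj₂i : j₂ ≠ i₀ := fun h => hj₂ (h ▸ Finset.mem_insert_self _ _)
    have hj₁D : j₁ ∉ D := fun h => hj₁ (Finset.mem_insert_of_mem h)
    have hx'D : ∀ a ∈ D, (Pi.single i₀ 1 + Pi.single j₁ 1 : ι → A) a = 0 := by
      intro a ha
      have h1 : a ≠ i₀ := fun h => hi₀ (h ▸ ha)
      have h2 : a ≠ j₁ := fun h => hj₁D (h ▸ ha)
      simp [h1, h2]
    have hx'i : (Pi.single i₀ 1 + Pi.single j₁ 1 : ι → A) i₀ = 1 := by
      have : i₀ ≠ j₁ := fun h => hj₁i h.symm
      simp [this]
    have hform : form lam G₁ (Pi.single i₀ 1 + Pi.single j₁ 1) (Pi.single i₀ 1 + Pi.single j₁ 1)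
        = G₁ i₀ i₀ + G₁ j₁ j₁ := by
      simp only [form_add_left, form_add_right, form_single_single]
      rw [(P2 j₁ hj₁i).1, (P2 j₁ hj₁i).2]
      ring
    have hu' : IsUnit (form lam G₁ (Pi.single i₀ 1 + Pi.single j₁ 1)
        (Pi.single i₀ 1 + Pi.single j₁ 1)) := by
      rw [hform, P1]
      exact isUnit_add_jac hu (hdiag j₁ hj₁)
    obtain ⟨uinv', huinv'⟩ := hu'.exists_right_inv
    obtain ⟨v₂, hv₂, Q1, Q2, Q3⟩ := split lam hlam hh₁ _ i₀ hx'i uinv' huinv'
    have hDG₁ : Diag D G₁ := fun a ha => hD₁ a (Finset.mem_insert_of_mem ha)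
    have hD₂ : Diag (insert i₀ D) (cg lam v₂ G₁) :=
      diag_insert lam hDG₁ hx'D hi₀ _ uinv' Q2 Q3
    refine ⟨v₁ * v₂, hv₁.mul hv₂, i₀, hi₀, ?_, Or.inr ?_⟩
    · rw [cg_mul, hG₁]
      exact hD₂
    · rw [cg_mul, hG₁]
      refine ⟨Pi.single j₂ 1, j₂, hj₂, ?_, by simp, ?_⟩
      · intro a ha
        have : a ≠ j₂ := fun h => hj₂ (h ▸ ha)
        simp [this]
      · rw [form_single_single, Q3 j₂ j₂ hj₂i hj₂i]
        have e1 : form lam G₁ (Pi.single j₂ 1) (Pi.single i₀ 1 + Pi.single j₁ 1) = G₁ j₂ j₁ := by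
          simp only [form_add_right, form_single_single]
          rw [(P2 j₂ hj₂i).2, zero_add]
        have e2 : form lam G₁ (Pi.single i₀ 1 + Pi.single j₁ 1) (Pi.single j₂ 1) = G₁ j₁ j₂ := by
          simp only [form_add_left, form_single_single]
          rw [(P2 j₂ hj₂i).1, zero_add]
        rw [e1, e2]
        have hu1 : IsUnit (G₁ j₂ j₁) := by
          rw [← herm_apply lam hh₁ j₂ j₁]
          exact (isUnit_eps hε).mul (hunit.map lam)
        have hu2 : IsUnit uinv' :=
          IsUnit.of_mul_eq_one _ (by rw [mul_comm]; exact huinv')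
        have hu3 : IsUnit (-(uinv' * G₁ j₂ j₁ * G₁ j₁ j₂)) := ((hu2.mul hu1).mul hunit).neg
        have := isUnit_add_jac hu3 (hdiag j₂ hj₂)
        convert this using 1
        ring

theorem diag_of_univ {G : Matrix ι ι A} (hD : Diag Finset.univ G) :
    G = Matrix.diagonal (fun i => G i i) := by
  ext a b
  by_cases hab : a = b
  · subst hab
    simp
  · rw [Matrix.diagonal_apply_ne _ hab]
    exact (hD a (Finset.mem_univ a) b (fun h => hab h.symm)).1

include hlam hε hNm in
theorem diag_aux [Nontrivial A] : ∀ (k : ℕ) (D : Finset ι) (G : Matrix ι ι A),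
    D.card + k = Fintype.card ι → IsUnit G → Herm lam ε G → Diag D G →
    (D = Finset.univ ∨ NAp lam D G) →
    ∃ v : Matrix ι ι A, IsUnit v ∧ ∃ d : ι → A, cg lam v G = Matrix.diagonal d := by
  intro k
  induction k with
  | zero =>
    intro D G hcard _ _ hD _
    have hDu : D = Finset.univ := by
      rw [← Finset.card_eq_iff_eq_univ]
      omega
    subst hDu
    exact ⟨1, isUnit_one, fun i => G i i, by rw [cg_one]; exact diag_of_univ hD⟩
  | succ k ih =>
    intro D G hcard hG hh hD hcase
    rcases hcase with hDu | hN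
    · subst hDu
      exact ⟨1, isUnit_one, fun i => G i i, by rw [cg_one]; exact diag_of_univ hD⟩
    · obtain ⟨v₁, hv₁, i₀, hi₀, hD₁, hcase₁⟩ := splitGood lam hlam hε hNm hG hh hD hN
      have hcard₁ : (insert i₀ D).card + k = Fintype.card ι := by
        rw [Finset.card_insert_of_notMem hi₀]
        omega
      obtain ⟨v₂, hv₂, d, hd⟩ := ih (insert i₀ D) (cg lam v₁ G) hcard₁
        (isUnit_cg lam hv₁ hG) (herm_cg lam hlam hh v₁) hD₁ hcase₁
      exact ⟨v₁ * v₂, hv₁.mul hv₂, d, by rw [cg_mul]; exact hd⟩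

end Main

/-- an alternating matrix of odd size has determinant zero (over any commutative ring). -/
theorem det_eq_zero_of_alternating {R : Type*} [CommRing R] {n : ℕ} (hn : Odd n)
    (M : Matrix (Fin n) (Fin n) R) (hM : ∀ i j, M j i = - M i j) (hd : ∀ i, M i i = 0) :
    M.det = 0 := by
  let G : Matrix (Fin n) (Fin n) (MvPolynomial (Fin n × Fin n) ℤ) := fun i j =>
    if i < j then MvPolynomial.X (i, j) else if j < i then - MvPolynomial.X (j, i) else 0
  have hGa : ∀ i j, G i j = if i < j then MvPolynomial.X (i, j)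
      else if j < i then - MvPolynomial.X (j, i) else 0 := fun i j => rfl
  have hGt : G.transpose = -G := by
    ext i j
    rw [Matrix.transpose_apply, Matrix.neg_apply, hGa, hGa]
    rcases lt_trichotomy i j with h | h | h
    · simp [h, not_lt.mpr h.le]
    · subst h
      simp
    · simp [h, not_lt.mpr h.le]
  have hdet : G.det = 0 := by
    have h1 : G.det = - G.det := by
      calc G.det = G.transpose.det := (Matrix.det_transpose G).symm
        _ = (-G).det := by rw [hGt]
        _ = (-1) ^ Fintype.card (Fin n) * G.det := Matrix.det_neg G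
        _ = - G.det := by rw [Fintype.card_fin, hn.neg_one_pow]; ring
    have h2 : G.det + G.det = 0 := by linear_combination h1
    exact add_self_eq_zero.mp h2
  let φ : MvPolynomial (Fin n × Fin n) ℤ →+* R :=
    MvPolynomial.eval₂Hom (Int.castRingHom R) (fun p => M p.1 p.2)
  have hmap : G.map φ = M := by
    ext i j
    rw [Matrix.map_apply, hGa]
    rcases lt_trichotomy i j with h | h | h
    · simp [h, φ]
    · subst h
      simp [hd]
    · simp [h, not_lt.mpr h.le, φ, hM j i]
  rw [← hmap]
  have := RingHom.map_det φ G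
  rw [hdet, map_zero] at this
  exact this.symm

section Init

variable (hlam : Function.Involutive lam) {ε : A} (hε : ε = 1 ∨ ε = -1)
  (hNm : ∀ t : A, ¬ IsUnit t → t * lam t ∈ Ring.jacobson A)

include hlam hε hNm in
theorem nap_init [Nontrivial A] {n : ℕ} (hn : n ≠ 0) {h : Matrix (Fin n) (Fin n) A}
    (hh : IsUnit h) (herm : Herm lam ε h)
    (hcase : (∃ a : A, lam a - a ∉ Ring.jacobson A) ∨ ε + 1 ∉ Ring.jacobson A ∨ Odd n) :
    NAp lam ∅ h := by
  by_contra hN
  obtain ⟨g, hg⟩ := hh.exists_right_inv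
  have hD : Diag (∅ : Finset (Fin n)) h := fun a ha => absurd ha (Finset.notMem_empty a)
  have i : Fin n := ⟨0, Nat.pos_of_ne_zero hn⟩
  obtain ⟨hT, hdiag⟩ := facts_of_not_nap lam hlam hε hNm hg herm hD hN (Finset.notMem_empty i)
  have h1 : 1 + ε ∈ Ring.jacobson A := by simpa using hT 1
  rcases hcase with ⟨a, ha⟩ | hb | hodd
  · apply ha
    have : lam a - a = (1 + ε) * lam a - (a + ε * lam a) := by ring
    rw [this]
    exact sub_mem (Ideal.mul_mem_right _ _ h1) (hT a)
  · apply hb
    rwa [add_comm]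
  · have hdet : h.det ∈ Ring.jacobson A := by
      have hz : (h.map (Ideal.Quotient.mk (Ring.jacobson A))).det = 0 := by
        apply det_eq_zero_of_alternating hodd
        · intro i j
          simp only [Matrix.map_apply]
          rw [← map_neg, ← sub_eq_zero, ← map_sub, Ideal.Quotient.eq_zero_iff_mem]
          have := hT (h i j)
          rw [herm_apply lam herm j i] at this
          convert this using 1
          ring
        · intro i
          simp only [Matrix.map_apply]
          exact Ideal.Quotient.eq_zero_iff_mem.mpr (hdiag i (Finset.notMem_empty i))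
      have := RingHom.map_det (Ideal.Quotient.mk (Ring.jacobson A)) h
      rw [show ((Ideal.Quotient.mk (Ring.jacobson A)).mapMatrix h)
        = h.map (Ideal.Quotient.mk (Ring.jacobson A)) from rfl, hz] at this
      exact Ideal.Quotient.eq_zero_iff_mem.mp this
    exact not_isUnit_of_mem_jac hdet ((Matrix.isUnit_iff_isUnit_det _).mp hh)

include hlam hε hNm in
/-- Diagonalisation of `(ε, lam)`-hermitian invertible matrices. -/
theorem exists_diag [Nontrivial A] {n : ℕ} {h : Matrix (Fin n) (Fin n) A}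
    (hh : IsUnit h) (herm : Herm lam ε h)
    (hcase : (∃ a : A, lam a - a ∉ Ring.jacobson A) ∨ ε + 1 ∉ Ring.jacobson A ∨ Odd n) :
    ∃ v : Matrix (Fin n) (Fin n) A, IsUnit v ∧ ∃ d : Fin n → A,
      cg lam v h = Matrix.diagonal d := by
  have hD : Diag (∅ : Finset (Fin n)) h := fun a ha => absurd ha (Finset.notMem_empty a)
  apply diag_aux lam hlam hε hNm n ∅ h (by simp) hh herm hD
  by_cases hn : n = 0
  · left
    subst hn
    exact (Finset.univ_eq_empty).symm
  · right
    exact nap_init lam hlam hε hNm hn hh herm hcase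

end Init

end Groth.Agent.Lib.Helper16Herm
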