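import Mathlib

set_option autoImplicit false
set_option linter.style.haveILetI false
set_option linter.unusedSectionVars false

/-!
# Hermite (row-reduced) normal form over `k⟦X⟧` (helper16)
-/

namespace Helper16Hermite

noncomputable section

open PowerSeries Matrix

variable {k : Type*} [Field k] {r : ℕ}

/-- row-reduced form with exponents `e` -/
def IsRR (H : Matrix (Fin r) (Fin r) (PowerSeries k)) (e : Fin r → ℕ) : Prop :=
  (∀ i, H i i = X ^ e i) ∧ (∀ i j, j < i → H i j = 0) ∧
    (∀ i j, i < j → ∀ n, e j ≤ n → coeff n (H i j) = 0)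

lemma X_pow_ne_zero' (n : ℕ) : (X ^ n : PowerSeries k) ≠ 0 := pow_ne_zero _ X_ne_zero

section uniq

variable {H H' U : Matrix (Fin r) (Fin r) (PowerSeries k)} {e e' : Fin r → ℕ}

lemma lower_zero (hH : IsRR H e) (hH' : IsRR H' e') (hU : H' = U * H) :
    ∀ (m : ℕ) (j i : Fin r), (j : ℕ) = m → j < i → U i j = 0 := by
  intro m
  induction m using Nat.strong_induction_on with
  | _ m ih =>
  intro j i hjm hji
  have h0 : H' i j = 0 := hH'.2.1 i j hji
  have h1 : H' i j = ∑ l, U i l * H l j := by rw [hU, Matrix.mul_apply]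
  have h2 : ∑ l, U i l * H l j = U i j * H j j := by
    apply Finset.sum_eq_single j
    · intro l _ hl
      rcases lt_or_gt_of_ne hl with hlt | hgt
      · rw [ih (l : ℕ) (by rw [← hjm]; exact hlt) l i rfl (hlt.trans hji), zero_mul]
      · rw [hH.2.1 l j hgt, mul_zero]
    · intro h; exact absurd (Finset.mem_univ j) h
  rw [h1, h2, hH.1 j] at h0
  rcases mul_eq_zero.mp h0 with h | h
  · exact h
  · exact absurd h (X_pow_ne_zero' _)

lemma diag_eq (hH : IsRR H e) (hH' : IsRR H' e') (hU : H' = U * H) (i : Fin r) :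
    X ^ e' i = U i i * X ^ e i := by
  have h1 : H' i i = ∑ l, U i l * H l i := by rw [hU, Matrix.mul_apply]
  have h2 : ∑ l, U i l * H l i = U i i * H i i := by
    apply Finset.sum_eq_single i
    · intro l _ hl
      rcases lt_or_gt_of_ne hl with hlt | hgt
      · rw [lower_zero hH hH' hU (l : ℕ) l i rfl hlt, zero_mul]
      · rw [hH.2.1 l i hgt, mul_zero]
    · intro h; exact absurd (Finset.mem_univ i) h
  rw [← hH'.1 i, h1, h2, hH.1 i]

theorem uniq {U' : Matrix (Fin r) (Fin r) (PowerSeries k)} (hH : IsRR H e) (hH' : IsRR H' e')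
    (hU : H' = U * H) (hU' : H = U' * H') : H' = H := by
  have hXnu : ¬ IsUnit (X : PowerSeries k) := X_irreducible.not_isUnit
  have hee : ∀ i, e i = e' i := by
    intro i
    have h1 := diag_eq hH hH' hU i
    have h2 := diag_eq hH' hH hU' i
    have h3 : (X : PowerSeries k) ^ e i ∣ X ^ e' i := ⟨U i i, by rw [h1, mul_comm]⟩
    have h4 : (X : PowerSeries k) ^ e' i ∣ X ^ e i := ⟨U' i i, by rw [h2, mul_comm]⟩
    exact le_antisymm ((pow_dvd_pow_iff X_ne_zero hXnu).mp h3) ((pow_dvd_pow_iff X_ne_zero hXnu).mp h4)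
  have hdiag : ∀ i, U i i = 1 := by
    intro i
    have h1 := diag_eq hH hH' hU i
    rw [← hee i] at h1
    have h2 : (1 : PowerSeries k) * X ^ e i = U i i * X ^ e i := by rw [one_mul]; exact h1
    exact (mul_right_cancel₀ (X_pow_ne_zero' _) h2).symm
  have hupper : ∀ (i : Fin r) (m : ℕ) (j : Fin r), (j : ℕ) = m → i < j → U i j = 0 := by
    intro i m
    induction m using Nat.strong_induction_on with
    | _ m ih =>
    intro j hjm hij
    have h1 : H' i j = ∑ l, U i l * H l j := by rw [hU, Matrix.mul_apply]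
    have h2 : ∑ l, U i l * H l j = U i i * H i j + U i j * H j j := by
      apply Finset.sum_eq_add i j hij.ne
      · intro l _ hl
        rcases lt_or_gt_of_ne hl.1 with hlt | hgt
        · rw [lower_zero hH hH' hU (l : ℕ) l i rfl hlt, zero_mul]
        · rcases lt_or_gt_of_ne hl.2 with hlt2 | hgt2
          · rw [ih (l : ℕ) (by rw [← hjm]; exact hlt2) l rfl hgt, zero_mul]
          · rw [hH.2.1 l j hgt2, mul_zero]
      · intro h; exact absurd (Finset.mem_univ i) h
      · intro h; exact absurd (Finset.mem_univ j) h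
    rw [h2, hdiag i, one_mul, hH.1 j] at h1
    ext d
    rw [map_zero, ← coeff_mul_X_pow (U i j) (e j) d]
    have h3 : U i j * X ^ e j = H' i j - H i j := by rw [h1]; ring
    rw [h3, map_sub, hH.2.2 i j hij (d + e j) (by omega),
      hH'.2.2 i j hij (d + e j) (by rw [← hee j]; omega), sub_zero]
  have hU1 : U = 1 := by
    apply Matrix.ext
    intro i j
    rcases lt_trichotomy i j with h | h | h
    · rw [hupper i (j : ℕ) j rfl h, Matrix.one_apply_ne h.ne]
    · rw [h, hdiag j, Matrix.one_apply_eq]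
    · rw [lower_zero hH hH' hU (j : ℕ) j i rfl h, Matrix.one_apply_ne h.ne']
  rw [hU, hU1, one_mul]

end uniq

section exist

variable (M : Matrix (Fin r) (Fin r) (PowerSeries k))

/-- the row lattice of `M` -/
def L : Submodule (PowerSeries k) (Fin r → PowerSeries k) :=
  LinearMap.range (Matrix.vecMulLinear M)

lemma mem_L {v : Fin r → PowerSeries k} : v ∈ L M ↔ ∃ w : Fin r → PowerSeries k, w ᵥ* M = v := by
  rw [L, LinearMap.mem_range]
  rfl

/-- the ideal of `i`-th coordinates of lattice vectors vanishing before `i` -/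
def Iid (i : Fin r) : Ideal (PowerSeries k) where
  carrier := {c | ∃ v ∈ L M, (∀ j, j < i → v j = 0) ∧ v i = c}
  add_mem' := by
    rintro a b ⟨v, hv, hv0, rfl⟩ ⟨w, hw, hw0, rfl⟩
    exact ⟨v + w, add_mem hv hw, fun j hj => by rw [Pi.add_apply, hv0 j hj, hw0 j hj, add_zero], rfl⟩
  zero_mem' := ⟨0, zero_mem _, fun _ _ => rfl, rfl⟩
  smul_mem' := by
    rintro c a ⟨v, hv, hv0, rfl⟩
    exact ⟨c • v, Submodule.smul_mem _ _ hv,
      fun j hj => by rw [Pi.smul_apply, hv0 j hj, smul_zero], rfl⟩

lemma mem_Iid {i : Fin r} {c : PowerSeries k} :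
    c ∈ Iid M i ↔ ∃ v ∈ L M, (∀ j, j < i → v j = 0) ∧ v i = c := Iff.rfl

lemma det_mem_Iid (i : Fin r) : M.det ∈ Iid M i := by
  refine ⟨Pi.single i M.det, ?_, ?_, ?_⟩
  · rw [mem_L]
    refine ⟨M.adjugate i, ?_⟩
    rw [← Matrix.mul_apply_eq_vecMul, Matrix.adjugate_mul]
    funext j
    rw [Matrix.smul_apply, Matrix.one_apply, Pi.single_apply]
    by_cases h : i = j
    · rw [if_pos h, if_pos h.symm, smul_eq_mul, mul_one]
    · rw [if_neg h, if_neg (Ne.symm h), smul_zero]
  · intro j hj
    rw [Pi.single_apply, if_neg hj.ne]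
  · rw [Pi.single_apply, if_pos rfl]

lemma exists_exp (hM : M.det ≠ 0) (i : Fin r) : ∃ e : ℕ, Iid M i = Ideal.span {(X : PowerSeries k) ^ e} := by
  apply IsDiscreteValuationRing.ideal_eq_span_pow_irreducible _ X_irreducible
  intro h
  have := det_mem_Iid M i
  rw [h] at this
  exact hM ((Submodule.mem_bot _).mp this)

/-- reduction of a vector modulo the rows `h j`, `j ≥ s` -/
lemma red (e : Fin r → ℕ) (h : Fin r → Fin r → PowerSeries k) (hh0 : ∀ i j, j < i → h i j = 0)
    (hhd : ∀ i, h i i = X ^ e i) :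
    ∀ (m s : ℕ), s + m = r → ∀ v : Fin r → PowerSeries k,
      ∃ u : Fin r → PowerSeries k, u ∈ Submodule.span (PowerSeries k) (h '' {j | s ≤ (j : ℕ)}) ∧
        (∀ j : Fin r, (j : ℕ) < s → u j = 0) ∧
        ∀ j : Fin r, s ≤ (j : ℕ) → ∀ n, e j ≤ n → coeff n ((v - u) j) = 0 := by
  intro m
  induction m with
  | zero =>
    intro s hs v
    refine ⟨0, zero_mem _, fun _ _ => rfl, fun j hj => ?_⟩
    have := j.isLt
    omega
  | succ m ih =>
    intro s hs v
    have hsr : s < r := by omega
    let js : Fin r := ⟨s, hsr⟩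
    let q : PowerSeries k := PowerSeries.mk fun i => coeff (i + e js) (v js)
    let v' : Fin r → PowerSeries k := v - q • h js
    obtain ⟨u', hu'mem, hu'0, hu'red⟩ := ih (s + 1) (by omega) v'
    refine ⟨q • h js + u', ?_, ?_, ?_⟩
    · refine add_mem (Submodule.smul_mem _ _ (Submodule.subset_span ⟨js, le_refl s, rfl⟩)) ?_
      refine Submodule.span_mono (Set.image_mono ?_) hu'mem
      intro j hj
      exact Nat.le_of_succ_le hj
    · intro j hj
      rw [Pi.add_apply, Pi.smul_apply, hh0 js j hj, smul_zero, zero_add]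
      exact hu'0 j (by omega)
    · intro j hj n hn
      have heq : (v - (q • h js + u')) j = (v' - u') j := by
        simp only [v', Pi.sub_apply, Pi.add_apply]
        ring
      rw [heq]
      rcases Nat.eq_or_lt_of_le hj with hjs | hjs
      · have hj' : j = js := Fin.ext hjs.symm
        rw [hj', Pi.sub_apply, hu'0 js (Nat.lt_succ_self s), sub_zero]
        have h1 : v' js = ((trunc (e js) (v js) : Polynomial k) : PowerSeries k) := by
          have h2 := eq_shift_mul_X_pow_add_trunc (e js) (v js)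
          simp only [v', Pi.sub_apply, Pi.smul_apply, smul_eq_mul, hhd js]
          rw [sub_eq_iff_eq_add]
          rw [add_comm]
          exact h2
        rw [h1, Polynomial.coeff_coe, coeff_trunc, if_neg (by rw [← hj']; omega)]
      · exact hu'red j hjs n hn

/-- every lattice vector vanishing before `s` is a combination of the `H j`, given that the diagonal
entries generate the coordinate ideals -/
lemma span_of (e : Fin r → ℕ) (he : ∀ i, Iid M i = Ideal.span {(X : PowerSeries k) ^ e i})
    (H : Fin r → Fin r → PowerSeries k) (hHL : ∀ i, H i ∈ L M) (hH0 : ∀ i j, j < i → H i j = 0)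
    (hHd : ∀ i, H i i = X ^ e i) :
    ∀ (m s : ℕ), s + m = r → ∀ v ∈ L M, (∀ j : Fin r, (j : ℕ) < s → v j = 0) →
      v ∈ Submodule.span (PowerSeries k) (Set.range H) := by
  intro m
  induction m with
  | zero =>
    intro s hs v _ hv0
    have : v = 0 := by
      funext j
      exact hv0 j (by have := j.isLt; omega)
    rw [this]
    exact zero_mem _
  | succ m ih =>
    intro s hs v hv hv0
    have hsr : s < r := by omega
    let js : Fin r := ⟨s, hsr⟩
    have h1 : v js ∈ Iid M js := ⟨v, hv, fun j hj => hv0 j hj, rfl⟩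
    rw [he js, Ideal.mem_span_singleton] at h1
    obtain ⟨c, hc⟩ := h1
    have h2 : v - c • H js ∈ Submodule.span (PowerSeries k) (Set.range H) := by
      apply ih (s + 1) (by omega) _ (sub_mem hv (Submodule.smul_mem _ _ (hHL js)))
      intro j hj
      rw [Pi.sub_apply, Pi.smul_apply, smul_eq_mul]
      rcases Nat.eq_or_lt_of_le (Nat.le_of_lt_succ hj) with hjs | hjs
      · have hj' : j = js := Fin.ext hjs
        rw [hj', hHd js, hc]
        ring
      · rw [hv0 j hjs, hH0 js j hjs, mul_zero, sub_zero]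
    have h3 := add_mem h2 (Submodule.smul_mem _ c (Submodule.subset_span ⟨js, rfl⟩))
    rwa [sub_add_cancel] at h3

theorem exists_hermite (hM : M.det ≠ 0) :
    ∃ (H : Matrix (Fin r) (Fin r) (PowerSeries k)) (e : Fin r → ℕ), IsRR H e ∧
      (∀ i, Iid M i = Ideal.span {(X : PowerSeries k) ^ e i}) ∧
      ∃ N : Matrix (Fin r) (Fin r) (PowerSeries k), IsUnit N ∧ N * M = H := by
  choose e he using exists_exp M hM
  have hh : ∀ i : Fin r, ∃ v ∈ L M, (∀ j, j < i → v j = 0) ∧ v i = X ^ e i := by
    intro i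
    have : (X : PowerSeries k) ^ e i ∈ Iid M i := by
      rw [he i]; exact Ideal.mem_span_singleton_self _
    exact this
  choose h hhL hh0 hhd using hh
  have hred := fun i : Fin r => red e h hh0 hhd (r - ((i : ℕ) + 1)) ((i : ℕ) + 1)
    (by have := i.isLt; omega) (h i)
  choose u humem hu0 hured using hred
  let H : Fin r → Fin r → PowerSeries k := fun i => h i - u i
  have hspanL : ∀ s : ℕ, Submodule.span (PowerSeries k) (h '' {j | s ≤ (j : ℕ)}) ≤ L M := by
    intro s
    rw [Submodule.span_le]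
    rintro _ ⟨j, _, rfl⟩
    exact hhL j
  have hHL : ∀ i, H i ∈ L M := fun i => sub_mem (hhL i) (hspanL _ (humem i))
  have hH0 : ∀ i j, j < i → H i j = 0 := by
    intro i j hj
    show h i j - u i j = 0
    rw [hh0 i j hj, hu0 i j (by have : (j : ℕ) < (i : ℕ) := hj; omega), sub_zero]
  have hHd : ∀ i, H i i = X ^ e i := by
    intro i
    show h i i - u i i = _
    rw [hhd i, hu0 i i (Nat.lt_succ_self _), sub_zero]
  have hHred : ∀ i j, i < j → ∀ n, e j ≤ n → coeff n (H i j) = 0 := by
    intro i j hij n hn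
    exact hured i j (by have : (i : ℕ) < (j : ℕ) := hij; omega) n hn
  have hN : ∀ i, ∃ w : Fin r → PowerSeries k, w ᵥ* M = H i := fun i => (mem_L M).mp (hHL i)
  choose w hw using hN
  let N : Matrix (Fin r) (Fin r) (PowerSeries k) := Matrix.of w
  let Hm : Matrix (Fin r) (Fin r) (PowerSeries k) := Matrix.of H
  have hNM : N * M = Hm := by
    apply Matrix.ext
    intro i j
    rw [Matrix.mul_apply_eq_vecMul]
    exact congrFun (hw i) j
  -- the rows of M are combinations of the H j
  have hMrow : ∀ i, M i ∈ L M := by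
    intro i
    rw [mem_L]
    refine ⟨(1 : Matrix (Fin r) (Fin r) (PowerSeries k)) i, ?_⟩
    rw [← Matrix.mul_apply_eq_vecMul, one_mul]
  have hMspan : ∀ i, ∃ c : Fin r → PowerSeries k, ∑ j, c j • H j = M i := by
    intro i
    have := span_of M e he H hHL hH0 hHd r 0 (by omega) (M i) (hMrow i) (fun j hj => by omega)
    exact (Submodule.mem_span_range_iff_exists_fun _).mp this
  choose c hc using hMspan
  let N' : Matrix (Fin r) (Fin r) (PowerSeries k) := Matrix.of c
  have hN'H : N' * Hm = M := by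
    apply Matrix.ext
    intro i l
    rw [Matrix.mul_apply, ← hc i, Finset.sum_apply]
    refine Finset.sum_congr rfl (fun j _ => ?_)
    rw [Pi.smul_apply, smul_eq_mul]
    rfl
  have hdetH : Hm.det ≠ 0 := by
    intro h0
    apply hM
    rw [← hN'H, Matrix.det_mul, h0, mul_zero]
  have hunit : IsUnit N := by
    rw [Matrix.isUnit_iff_isUnit_det]
    have h1 : (N * N') * Hm = Hm := by rw [Matrix.mul_assoc, hN'H, hNM]
    have h2 := congrArg Matrix.det h1
    rw [Matrix.det_mul, Matrix.det_mul] at h2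
    have h3 : N.det * N'.det = 1 := by
      have h4 : (N.det * N'.det) * Hm.det = 1 * Hm.det := by rw [h2, one_mul]
      exact mul_right_cancel₀ hdetH h4
    exact IsUnit.of_mul_eq_one _ h3
  exact ⟨Hm, e, ⟨hHd, hH0, hHred⟩, he, N, hunit, hNM⟩

end exist

end

end Helper16Hermite
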