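import Mathlib
import Groth.Agent.Lib.Helper16Hermite

set_option autoImplicit false
set_option linter.style.haveILetI false
set_option linter.unusedSectionVars false

/-!
# Row + `k⟦X^p⟧`-column reduction over `k⟦X⟧` (helper16)
-/

namespace Helper16Hermite

noncomputable section

open PowerSeries Matrix

variable {k : Type*} [Field k] {r : ℕ}

/-- power series in `X^p` -/
def InS (p : ℕ) (f : PowerSeries k) : Prop := ∀ n : ℕ, ¬ p ∣ n → coeff n f = 0

lemma InS.zero (p : ℕ) : InS p (0 : PowerSeries k) := fun n _ => map_zero _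

lemma InS.one (p : ℕ) : InS p (1 : PowerSeries k) := by
  intro n hn
  rw [coeff_one, if_neg]
  rintro rfl
  exact hn (dvd_zero p)

lemma InS.add {p : ℕ} {f g : PowerSeries k} (hf : InS p f) (hg : InS p g) : InS p (f + g) := by
  intro n hn
  rw [map_add, hf n hn, hg n hn, add_zero]

lemma InS.mul {p : ℕ} {f g : PowerSeries k} (hf : InS p f) (hg : InS p g) : InS p (f * g) := by
  intro n hn
  rw [coeff_mul]
  apply Finset.sum_eq_zero
  rintro ⟨a, b⟩ hab
  have hab : a + b = n := Finset.HasAntidiagonal.mem_antidiagonal.mp hab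
  show coeff a f * coeff b g = 0
  by_cases ha : p ∣ a
  · have hb : ¬ p ∣ b := by
      intro hb
      apply hn
      rw [← hab]
      exact dvd_add ha hb
    rw [hg b hb, mul_zero]
  · rw [hf a ha, zero_mul]

lemma InS.sum {p : ℕ} {ι : Type*} (s : Finset ι) (f : ι → PowerSeries k) (hf : ∀ i ∈ s, InS p (f i)) :
    InS p (∑ i ∈ s, f i) := by
  intro n hn
  rw [map_sum]
  exact Finset.sum_eq_zero fun i hi => hf i hi n hn

/-- matrices with entries in `k⟦X^p⟧` -/
def MatInS (p : ℕ) (P : Matrix (Fin r) (Fin r) (PowerSeries k)) : Prop := ∀ i j, InS p (P i j)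

lemma MatInS.one (p : ℕ) : MatInS p (1 : Matrix (Fin r) (Fin r) (PowerSeries k)) := by
  intro i j
  rw [Matrix.one_apply]
  split_ifs
  · exact InS.one p
  · exact InS.zero p

lemma MatInS.mul {p : ℕ} {P Q : Matrix (Fin r) (Fin r) (PowerSeries k)} (hP : MatInS p P)
    (hQ : MatInS p Q) : MatInS p (P * Q) := by
  intro i j
  rw [Matrix.mul_apply]
  exact InS.sum _ _ fun l _ => (hP i l).mul (hQ l j)

lemma exists_unit_of_rows {A B : Matrix (Fin r) (Fin r) (PowerSeries k)} (hdet : A.det ≠ 0)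
    (hB : ∀ i, B i ∈ Submodule.span (PowerSeries k) (Set.range fun l => A l))
    (hA : ∀ i, A i ∈ Submodule.span (PowerSeries k) (Set.range fun l => B l)) :
    ∃ N : Matrix (Fin r) (Fin r) (PowerSeries k), IsUnit N ∧ N * A = B := by
  have h1 : ∀ i, ∃ c : Fin r → PowerSeries k, ∑ j, c j • A j = B i :=
    fun i => (Submodule.mem_span_range_iff_exists_fun _).mp (hB i)
  have h2 : ∀ i, ∃ c : Fin r → PowerSeries k, ∑ j, c j • B j = A i :=
    fun i => (Submodule.mem_span_range_iff_exists_fun _).mp (hA i)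
  choose c hc using h1
  choose c' hc' using h2
  let N : Matrix (Fin r) (Fin r) (PowerSeries k) := Matrix.of c
  let N' : Matrix (Fin r) (Fin r) (PowerSeries k) := Matrix.of c'
  have hNA : N * A = B := by
    apply Matrix.ext
    intro i l
    rw [Matrix.mul_apply, ← hc i, Finset.sum_apply]
    refine Finset.sum_congr rfl (fun j _ => ?_)
    rw [Pi.smul_apply, smul_eq_mul]
    rfl
  have hN'B : N' * B = A := by
    apply Matrix.ext
    intro i l
    rw [Matrix.mul_apply, ← hc' i, Finset.sum_apply]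
    refine Finset.sum_congr rfl (fun j _ => ?_)
    rw [Pi.smul_apply, smul_eq_mul]
    rfl
  refine ⟨N, ?_, hNA⟩
  rw [Matrix.isUnit_iff_isUnit_det]
  have h3 : (N' * N) * A = A := by rw [Matrix.mul_assoc, hNA, hN'B]
  have h4 := congrArg Matrix.det h3
  rw [Matrix.det_mul, Matrix.det_mul] at h4
  have h5 : N'.det * N.det = 1 := by
    have h6 : (N'.det * N.det) * A.det = 1 * A.det := by rw [h4, one_mul]
    exact mul_right_cancel₀ hdet h6
  exact IsUnit.of_mul_eq_one _ (by rw [mul_comm]; exact h5)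

/-- the series in `X^p` cancelling the terms of `G` of degree `≥ a` congruent to `a` mod `p` -/
def cancel (p a : ℕ) (G : PowerSeries k) : PowerSeries k :=
  -(PowerSeries.mk fun d => if p ∣ d then coeff (a + d) G else 0)

lemma cancel_InS (p a : ℕ) (G : PowerSeries k) : InS p (cancel p a G) := by
  intro n hn
  rw [cancel, map_neg, coeff_mk, if_neg hn, neg_zero]

lemma coeff_add_cancel (p a : ℕ) (G : PowerSeries k) (n : ℕ) (hn : a ≤ n) (hmod : n % p = a % p) :
    coeff n (G + X ^ a * cancel p a G) = 0 := by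
  obtain ⟨d, rfl⟩ : ∃ d, n = d + a := ⟨n - a, by omega⟩
  have hd : p ∣ d := by
    have h1 : a ≡ d + a [MOD p] := hmod.symm
    have h2 := (Nat.modEq_iff_dvd' (by omega : a ≤ d + a)).mp h1
    rwa [Nat.add_sub_cancel] at h2
  rw [map_add, coeff_X_pow_mul, cancel, map_neg, coeff_mk, if_pos hd, add_comm a d, add_neg_cancel]

lemma det_ne_zero_of_IsRR {H : Matrix (Fin r) (Fin r) (PowerSeries k)} {e : Fin r → ℕ}
    (hH : IsRR H e) : H.det ≠ 0 := by
  have h1 : H.BlockTriangular id := fun i j hij => hH.2.1 i j hij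
  rw [Matrix.det_of_isUpperTriangular h1]
  simp only [hH.1]
  exact Finset.prod_ne_zero_iff.mpr fun i _ => X_pow_ne_zero' _

/-- the choice of the column operation coefficients -/
lemma choose_c (p : ℕ) {H : Matrix (Fin r) (Fin r) (PowerSeries k)} {e : Fin r → ℕ} (hH : IsRR H e)
    (jj : Fin r) :
    ∃ c : Fin r → PowerSeries k, (∀ a, InS p (c a)) ∧ (∀ a, jj ≤ a → c a = 0) ∧
      ∀ i, i < jj → ∀ n, e i ≤ n → n % p = e i % p →
        coeff n (H i jj + ∑ a, H i a * c a) = 0 := by
  have key : ∀ m : ℕ, m ≤ (jj : ℕ) → ∃ c : Fin r → PowerSeries k, (∀ a, InS p (c a)) ∧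
      (∀ a : Fin r, ((a : ℕ) < (jj : ℕ) - m ∨ jj ≤ a) → c a = 0) ∧
      ∀ i : Fin r, (jj : ℕ) - m ≤ (i : ℕ) → i < jj → ∀ n, e i ≤ n → n % p = e i % p →
        coeff n (H i jj + ∑ a, H i a * c a) = 0 := by
    intro m
    induction m with
    | zero =>
      intro _
      refine ⟨0, fun _ => InS.zero p, fun _ _ => rfl, ?_⟩
      intro i hi hij
      have : (i : ℕ) < (jj : ℕ) := hij
      omega
    | succ m ih =>
      intro hm
      obtain ⟨c, hcS, hc0, hcP⟩ := ih (by omega)
      have hi₀ : (jj : ℕ) - m - 1 < r := by have := jj.isLt; omega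
      let i₀ : Fin r := ⟨(jj : ℕ) - m - 1, hi₀⟩
      have hi₀j : i₀ < jj := by show (jj : ℕ) - m - 1 < (jj : ℕ); omega
      let G : PowerSeries k := H i₀ jj + ∑ a, H i₀ a * c a
      let x : PowerSeries k := cancel p (e i₀) G
      have hci₀ : c i₀ = 0 := hc0 i₀ (Or.inl (by show (jj : ℕ) - m - 1 < (jj : ℕ) - m; omega))
      have hsum : ∀ i : Fin r, ∑ a, H i a * (c + Pi.single i₀ x : Fin r → PowerSeries k) a
          = ∑ a, H i a * c a + H i i₀ * x := by
        intro i
        simp only [Pi.add_apply, mul_add, Finset.sum_add_distrib]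
        congr 1
        rw [Finset.sum_eq_single i₀]
        · rw [Pi.single_eq_same]
        · intro a _ ha
          rw [Pi.single_eq_of_ne ha, mul_zero]
        · intro h; exact absurd (Finset.mem_univ i₀) h
      refine ⟨c + Pi.single i₀ x, ?_, ?_, ?_⟩
      · intro a
        rw [Pi.add_apply]
        refine (hcS a).add ?_
        by_cases ha : a = i₀
        · rw [ha, Pi.single_eq_same]; exact cancel_InS _ _ _
        · rw [Pi.single_eq_of_ne ha]; exact InS.zero p
      · intro a ha
        have hne : a ≠ i₀ := by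
          intro h
          rw [h] at ha
          rcases ha with ha | ha
          · have : ((i₀ : Fin r) : ℕ) = (jj : ℕ) - m - 1 := rfl
            omega
          · exact absurd hi₀j (not_lt.mpr ha)
        rw [Pi.add_apply, Pi.single_eq_of_ne hne, add_zero]
        apply hc0 a
        rcases ha with ha | ha
        · left; omega
        · right; exact ha
      · intro i hi hij n hn hmod
        rw [hsum i]
        rcases Nat.eq_or_lt_of_le hi with hieq | hilt
        · -- i = i₀
          have hii₀ : i = i₀ := Fin.ext (by show (i : ℕ) = (jj : ℕ) - m - 1; omega)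
          rw [hii₀, hH.1 i₀, ← add_assoc]
          rw [hii₀] at hn hmod
          exact coeff_add_cancel p (e i₀) G n hn hmod
        · have hlt : i₀ < i := by show (jj : ℕ) - m - 1 < (i : ℕ); omega
          rw [hH.2.1 i i₀ hlt, zero_mul, add_zero]
          exact hcP i (by omega) hij n hn hmod
  obtain ⟨c, hcS, hc0, hcP⟩ := key (jj : ℕ) le_rfl
  exact ⟨c, hcS, fun a ha => hc0 a (Or.inr ha), fun i hij => hcP i (by omega) hij⟩

lemma det_ne_zero_of_tri {H : Matrix (Fin r) (Fin r) (PowerSeries k)} {e : Fin r → ℕ}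
    (hd : ∀ i, H i i = X ^ e i) (h0 : ∀ i j, j < i → H i j = 0) : H.det ≠ 0 := by
  have h1 : H.BlockTriangular id := fun i j hij => h0 i j hij
  rw [Matrix.det_of_isUpperTriangular h1]
  simp only [hd]
  exact Finset.prod_ne_zero_iff.mpr fun i _ => X_pow_ne_zero' _

/-- congruence condition on the columns `< j` -/
def Cong (p : ℕ) (e : Fin r → ℕ) (H : Matrix (Fin r) (Fin r) (PowerSeries k)) (j : ℕ) : Prop :=
  ∀ i j' : Fin r, i < j' → (j' : ℕ) < j → ∀ n : ℕ, e i ≤ n → n % p = e i % p →
    coeff n (H i j') = 0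

theorem step (p : ℕ) {H : Matrix (Fin r) (Fin r) (PowerSeries k)} {e : Fin r → ℕ} (hH : IsRR H e)
    (jj : Fin r) (hC : Cong p e H (jj : ℕ)) :
    ∃ N₂ P₁ : Matrix (Fin r) (Fin r) (PowerSeries k), IsUnit N₂ ∧ IsUnit P₁ ∧ MatInS p P₁ ∧
      IsRR (N₂ * H * P₁) e ∧ Cong p e (N₂ * H * P₁) ((jj : ℕ) + 1) := by
  classical
  obtain ⟨c, hcS, hc0, hcP⟩ := choose_c p hH jj
  let C : Matrix (Fin r) (Fin r) (PowerSeries k) := Matrix.of fun a b => if b = jj then c a else 0
  have hCapp : ∀ a b, C a b = if b = jj then c a else 0 := fun a b => rfl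
  let P₁ : Matrix (Fin r) (Fin r) (PowerSeries k) := 1 + C
  let H₁ : Matrix (Fin r) (Fin r) (PowerSeries k) := H * P₁
  have hH₁ : ∀ l b, H₁ l b = H l b + if b = jj then ∑ a, H l a * c a else 0 := by
    intro l b
    show (H * (1 + C)) l b = _
    rw [Matrix.mul_add, Matrix.mul_one, Matrix.add_apply, Matrix.mul_apply]
    congr 1
    by_cases hb : b = jj
    · rw [if_pos hb]
      refine Finset.sum_congr rfl (fun a _ => ?_)
      rw [hCapp, if_pos hb]
    · rw [if_neg hb]
      refine Finset.sum_eq_zero (fun a _ => ?_)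
      rw [hCapp, if_neg hb, mul_zero]
  have hsum0 : ∀ l, jj ≤ l → ∑ a, H l a * c a = 0 := by
    intro l hl
    refine Finset.sum_eq_zero (fun a _ => ?_)
    rcases lt_or_ge a l with h | h
    · rw [hH.2.1 l a h, zero_mul]
    · rw [hc0 a (hl.trans h), mul_zero]
  have hH₁row : ∀ l, jj ≤ l → H₁ l = H l := by
    intro l hl
    funext b
    rw [hH₁, hsum0 l hl, ite_self, add_zero]
  have hH₁col : ∀ l b, b ≠ jj → H₁ l b = H l b := by
    intro l b hb
    rw [hH₁, if_neg hb, add_zero]
  have hH₁0 : ∀ i b, b < i → H₁ i b = 0 := by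
    intro i b hb
    by_cases hbj : b = jj
    · rw [hH₁row i (by rw [← hbj]; exact hb.le)]
      exact hH.2.1 i b hb
    · rw [hH₁col i b hbj]
      exact hH.2.1 i b hb
  have hH₁d : ∀ i, H₁ i i = X ^ e i := by
    intro i
    by_cases hij : i = jj
    · rw [hH₁row i (by rw [hij])]
      exact hH.1 i
    · rw [hH₁col i i hij]
      exact hH.1 i
  have hred := fun i : Fin r => red e (fun l => H₁ l) hH₁0 hH₁d (r - (jj : ℕ)) (jj : ℕ)
    (by have := jj.isLt; omega) (H₁ i)
  choose u₀ hu₀mem hu₀0 hu₀red using hred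
  let u : Fin r → Fin r → PowerSeries k := fun i => if i < jj then u₀ i else 0
  have hu_lt : ∀ i, i < jj → u i = u₀ i := fun i hi => if_pos hi
  have hu_ge : ∀ i, ¬ i < jj → u i = 0 := fun i hi => if_neg hi
  have hu_mem : ∀ i, u i ∈ Submodule.span (PowerSeries k)
      ((fun l => H₁ l) '' {l : Fin r | (jj : ℕ) ≤ (l : ℕ)}) := by
    intro i
    by_cases hi : i < jj
    · rw [hu_lt i hi]; exact hu₀mem i
    · rw [hu_ge i hi]; exact zero_mem _
  have hu0 : ∀ i (b : Fin r), (b : ℕ) < (jj : ℕ) → u i b = 0 := by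
    intro i b hb
    by_cases hi : i < jj
    · rw [hu_lt i hi]; exact hu₀0 i b hb
    · rw [hu_ge i hi]; rfl
  have hujj : ∀ i, (X : PowerSeries k) ^ e jj ∣ u i jj := by
    intro i
    have hgen : ∀ w ∈ Submodule.span (PowerSeries k)
        ((fun l => H₁ l) '' {l : Fin r | (jj : ℕ) ≤ (l : ℕ)}), (X : PowerSeries k) ^ e jj ∣ w jj := by
      intro w hw
      induction hw using Submodule.span_induction with
      | mem w hw =>
        obtain ⟨l, hl, rfl⟩ := hw
        rcases Nat.eq_or_lt_of_le hl with h | h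
        · have : l = jj := Fin.ext h.symm
          show X ^ e jj ∣ H₁ l jj
          rw [this, hH₁d jj]
        · show X ^ e jj ∣ H₁ l jj
          rw [hH₁0 l jj h]
          exact dvd_zero _
      | zero => exact dvd_zero _
      | add w w' _ _ h h' => exact dvd_add h h'
      | smul a w _ h => exact Dvd.dvd.mul_left h a
    exact hgen _ (hu_mem i)
  let H' : Matrix (Fin r) (Fin r) (PowerSeries k) := Matrix.of fun i => H₁ i - u i
  have hH'app : ∀ i b, H' i b = H₁ i b - u i b := fun i b => rfl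
  have hH'row : ∀ i, H' i = H₁ i - u i := fun i => rfl
  -- the unit N₂
  have hdet₁ : H₁.det ≠ 0 := det_ne_zero_of_tri hH₁d hH₁0
  obtain ⟨N₂, hN₂, hN₂H⟩ := exists_unit_of_rows (A := H₁) (B := H') hdet₁
    (by
      intro i
      rw [hH'row]
      refine sub_mem (Submodule.subset_span ⟨i, rfl⟩) ?_
      exact Submodule.span_mono (Set.image_subset_range _ _) (hu_mem i))
    (by
      intro i
      have h1 : H₁ i = H' i + u i := by rw [hH'row]; abel
      rw [h1]
      refine add_mem (Submodule.subset_span ⟨i, rfl⟩) ?_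
      refine (Submodule.span_le.mpr ?_) (hu_mem i)
      rintro _ ⟨l, hl, rfl⟩
      have hl' : ¬ l < jj := not_lt.mpr hl
      have h2 : H₁ l = H' l := by rw [hH'row, hu_ge l hl', sub_zero]
      show H₁ l ∈ _
      rw [h2]
      exact Submodule.subset_span ⟨l, rfl⟩)
  have hP₁tri : P₁.BlockTriangular id := by
    intro i b hb
    have hb' : b < i := hb
    show (1 + C) i b = 0
    rw [Matrix.add_apply, Matrix.one_apply_ne hb'.ne', zero_add, hCapp]
    split_ifs with h
    · exact hc0 i (by rw [← h]; exact hb'.le)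
    · rfl
  have hP₁d : ∀ i, P₁ i i = 1 := by
    intro i
    show (1 + C) i i = 1
    rw [Matrix.add_apply, Matrix.one_apply_eq, hCapp]
    split_ifs with h
    · rw [hc0 i (by rw [h]), add_zero]
    · rw [add_zero]
  have hP₁unit : IsUnit P₁ := by
    rw [Matrix.isUnit_iff_isUnit_det, Matrix.det_of_isUpperTriangular hP₁tri]
    simp only [hP₁d, Finset.prod_const_one, isUnit_one]
  have hP₁S : MatInS p P₁ := by
    intro a b
    show InS p ((1 + C) a b)
    rw [Matrix.add_apply]
    refine (MatInS.one p a b).add ?_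
    rw [hCapp]
    split_ifs
    · exact hcS a
    · exact InS.zero p
  have hfinal : N₂ * H * P₁ = H' := by rw [Matrix.mul_assoc]; exact hN₂H
  have hRR' : IsRR H' e := by
    refine ⟨?_, ?_, ?_⟩
    · intro i
      rw [hH'app, hH₁d]
      by_cases hi : i < jj
      · rw [hu0 i i hi, sub_zero]
      · rw [hu_ge i hi]; exact sub_zero _
    · intro i b hb
      rw [hH'app, hH₁0 i b hb]
      by_cases hi : i < jj
      · rw [hu0 i b (lt_trans hb hi), sub_zero]
      · rw [hu_ge i hi]; exact sub_zero _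
    · intro i b hib n hn
      by_cases hi : i < jj
      · by_cases hb : (jj : ℕ) ≤ (b : ℕ)
        · have := hu₀red i b hb n hn
          rw [hH'app, hu_lt i hi]
          exact this
        · push Not at hb
          rw [hH'app, hu0 i b hb, sub_zero, hH₁col i b (fun h => by rw [h] at hb; omega)]
          exact hH.2.2 i b hib n hn
      · rw [hH'app, hu_ge i hi, hH₁row i (not_lt.mp hi)]
        show coeff n (H i b - 0) = 0
        rw [sub_zero]
        exact hH.2.2 i b hib n hn
  refine ⟨N₂, P₁, hN₂, hP₁unit, hP₁S, ?_, ?_⟩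
  · rw [hfinal]; exact hRR'
  · rw [hfinal]
    intro i j' hij' hj' n hn hmod
    rcases Nat.eq_or_lt_of_le (Nat.le_of_lt_succ hj') with hjeq | hjlt
    · have hj'jj : j' = jj := Fin.ext hjeq
      rw [hj'jj] at hij' ⊢
      by_cases hne : e jj ≤ n
      · exact hRR'.2.2 i jj hij' n hne
      · push Not at hne
        rw [hH'app, map_sub, (X_pow_dvd_iff.mp (hujj i)) n hne, sub_zero, hH₁, if_pos rfl]
        exact hcP i hij' n hn hmod
    · rw [hH'app, hu0 i j' hjlt, sub_zero, hH₁col i j' (fun h => by rw [h] at hjlt; omega)]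
      exact hC i j' hij' hjlt n hn hmod

theorem exists_reduced (p : ℕ) (M : Matrix (Fin r) (Fin r) (PowerSeries k)) (hM : M.det ≠ 0) :
    ∃ (N P : Matrix (Fin r) (Fin r) (PowerSeries k)) (e : Fin r → ℕ), IsUnit N ∧ IsUnit P ∧
      MatInS p P ∧ IsRR (N * M * P) e ∧ Cong p e (N * M * P) r := by
  obtain ⟨H, e, hRR, -, N, hN, hNM⟩ := exists_hermite M hM
  have key : ∀ j : ℕ, j ≤ r → ∃ (N P : Matrix (Fin r) (Fin r) (PowerSeries k)), IsUnit N ∧ IsUnit P ∧
      MatInS p P ∧ IsRR (N * M * P) e ∧ Cong p e (N * M * P) j := by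
    intro j
    induction j with
    | zero =>
      intro _
      refine ⟨N, 1, hN, isUnit_one, MatInS.one p, ?_, ?_⟩
      · rw [Matrix.mul_one, hNM]; exact hRR
      · intro i j' _ hj'
        omega
    | succ j ih =>
      intro hj
      obtain ⟨N₀, P₀, hN₀, hP₀, hP₀S, hRR₀, hC₀⟩ := ih (by omega)
      obtain ⟨N₂, P₁, hN₂, hP₁, hP₁S, hRR₁, hC₁⟩ := step p hRR₀ ⟨j, by omega⟩ hC₀
      refine ⟨N₂ * N₀, P₀ * P₁, hN₂.mul hN₀, hP₀.mul hP₁, hP₀S.mul hP₁S, ?_, ?_⟩
      · have : N₂ * N₀ * M * (P₀ * P₁) = N₂ * (N₀ * M * P₀) * P₁ := by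
          simp only [Matrix.mul_assoc]
        rw [this]; exact hRR₁
      · have : N₂ * N₀ * M * (P₀ * P₁) = N₂ * (N₀ * M * P₀) * P₁ := by
          simp only [Matrix.mul_assoc]
        rw [this]; exact hC₁
  obtain ⟨N', P', h1, h2, h3, h4, h5⟩ := key r le_rfl
  exact ⟨N', P', e, h1, h2, h3, h4, h5⟩

end

end Helper16Hermite
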