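import Mathlib

set_option autoImplicit false
set_option linter.style.haveILetI false
set_option linter.unusedSectionVars false
universe u

namespace Groth.Agent.Lib.Helper16.HyperModel

open Polynomial

/-- separability transfers from `F = range (L → K)` to `L`. -/
theorem isSeparable_of_range_eq {k L K : Type*} [Field k] [Field L] [Field K] [Algebra L K]
    [Algebra k K] (F : IntermediateField k K) [Algebra.IsSeparable F K]
    (hF : ∀ a : F, (a : K) ∈ Set.range (algebraMap L K)) :
    Algebra.IsSeparable L K := by
  refine ⟨fun z => ?_⟩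
  have hz : IsSeparable F z := Algebra.IsSeparable.isSeparable F z
  set p := minpoly F z with hp
  have hlift : p.map (algebraMap F K) ∈ Polynomial.lifts (algebraMap L K) := by
    rw [Polynomial.lifts_iff_coeff_lifts]
    intro n
    rw [Polynomial.coeff_map]
    exact hF _
  obtain ⟨q, hq⟩ := hlift
  rw [Polynomial.coe_mapRingHom] at hq
  have hqsep : q.Separable := by
    rw [← Polynomial.separable_map (algebraMap L K), hq]
    exact Polynomial.Separable.map hz
  have hqz : Polynomial.aeval z q = 0 := by
    rw [Polynomial.aeval_def, Polynomial.eval₂_eq_eval_map, hq, ← Polynomial.eval₂_eq_eval_map,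
      ← Polynomial.aeval_def]
    exact minpoly.aeval F z
  exact hqsep.of_dvd (minpoly.dvd L z hqz)

theorem exists_hypersurface_model (k K : Type u) [Field k] [Field K] [Algebra k K]
    [Algebra.EssFiniteType k K]
    (d : ℕ) (s : Fin d → K) (hs : IsTranscendenceBasis k s)
    (hsep : Algebra.IsSeparable ↥(IntermediateField.adjoin k (Set.range s)) K) :
    ∃ (g : Polynomial (MvPolynomial (Fin d) k)), g.Monic ∧
      Irreducible (g.map (algebraMap (MvPolynomial (Fin d) k)
        (FractionRing (MvPolynomial (Fin d) k)))) ∧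
      (g.map (algebraMap (MvPolynomial (Fin d) k)
        (FractionRing (MvPolynomial (Fin d) k)))).Separable ∧
      ∃ ψ : AdjoinRoot g →ₐ[k] K, Function.Injective ψ ∧
        ∀ z : K, ∃ x y : AdjoinRoot g, z = ψ x / ψ y := by
  classical
  let φ₀ : MvPolynomial (Fin d) k →ₐ[k] K := MvPolynomial.aeval s
  have hφ₀ : Function.Injective φ₀ := hs.1
  letI iRK : Algebra (MvPolynomial (Fin d) k) K := φ₀.toRingHom.toAlgebra
  haveI : IsScalarTower k (MvPolynomial (Fin d) k) K :=
    IsScalarTower.of_algebraMap_eq (fun c => (φ₀.commutes c).symm)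
  haveI : FaithfulSMul (MvPolynomial (Fin d) k) K :=
    (faithfulSMul_iff_algebraMap_injective _ K).mpr hφ₀
  letI iLK : Algebra (FractionRing (MvPolynomial (Fin d) k)) K :=
    FractionRing.liftAlgebra (MvPolynomial (Fin d) k) K
  haveI : IsScalarTower (MvPolynomial (Fin d) k) (FractionRing (MvPolynomial (Fin d) k)) K :=
    FractionRing.isScalarTower_liftAlgebra (MvPolynomial (Fin d) k) K
  haveI : IsScalarTower k (FractionRing (MvPolynomial (Fin d) k)) K :=
    IsScalarTower.of_algebraMap_eq (fun c => by
      rw [IsScalarTower.algebraMap_apply k (MvPolynomial (Fin d) k)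
        (FractionRing (MvPolynomial (Fin d) k)),
        ← IsScalarTower.algebraMap_apply (MvPolynomial (Fin d) k)
          (FractionRing (MvPolynomial (Fin d) k)) K,
        ← IsScalarTower.algebraMap_apply k (MvPolynomial (Fin d) k) K])
  have hsi : ∀ i, algebraMap (FractionRing (MvPolynomial (Fin d) k)) K
      (algebraMap (MvPolynomial (Fin d) k) (FractionRing (MvPolynomial (Fin d) k))
        (MvPolynomial.X i)) = s i := by
    intro i
    rw [← IsScalarTower.algebraMap_apply (MvPolynomial (Fin d) k)
      (FractionRing (MvPolynomial (Fin d) k)) K]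
    change φ₀ (MvPolynomial.X i) = s i
    simp [φ₀]
  have hFle : IntermediateField.adjoin k (Set.range s) ≤
      (IsScalarTower.toAlgHom k (FractionRing (MvPolynomial (Fin d) k)) K).fieldRange := by
    rw [IntermediateField.adjoin_le_iff]
    rintro _ ⟨i, rfl⟩
    exact ⟨_, hsi i⟩
  haveI hsepL : Algebra.IsSeparable (FractionRing (MvPolynomial (Fin d) k)) K :=
    isSeparable_of_range_eq (IntermediateField.adjoin k (Set.range s)) (fun a => hFle a.2)
  haveI : Algebra.EssFiniteType (FractionRing (MvPolynomial (Fin d) k)) K :=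
    Algebra.EssFiniteType.of_comp k (FractionRing (MvPolynomial (Fin d) k)) K
  haveI : Algebra.IsAlgebraic (FractionRing (MvPolynomial (Fin d) k)) K :=
    Algebra.IsSeparable.isAlgebraic _ _
  haveI hfinL : Module.Finite (FractionRing (MvPolynomial (Fin d) k)) K :=
    Algebra.finite_of_essFiniteType_of_isAlgebraic
  obtain ⟨α, hα⟩ := Field.exists_primitive_element (FractionRing (MvPolynomial (Fin d) k)) K
  have hαalg : IsAlgebraic (MvPolynomial (Fin d) k) α :=
    (IsFractionRing.isAlgebraic_iff (MvPolynomial (Fin d) k)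
      (FractionRing (MvPolynomial (Fin d) k)) K).mpr (Algebra.IsAlgebraic.isAlgebraic α)
  obtain ⟨c, hc0, hcint⟩ := hαalg.exists_integral_multiple
  set θ : K := c • α with hθ
  have hcK : algebraMap (FractionRing (MvPolynomial (Fin d) k)) K
      (algebraMap (MvPolynomial (Fin d) k) (FractionRing (MvPolynomial (Fin d) k)) c) ≠ 0 := by
    rw [← IsScalarTower.algebraMap_apply (MvPolynomial (Fin d) k)
      (FractionRing (MvPolynomial (Fin d) k)) K]
    exact fun h => hc0 (hφ₀ (h.trans (map_zero _).symm))
  have hθtop : IntermediateField.adjoin (FractionRing (MvPolynomial (Fin d) k)) {θ} = ⊤ := by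
    rw [eq_top_iff, ← hα, IntermediateField.adjoin_simple_le_iff]
    have hθmem : θ ∈ IntermediateField.adjoin (FractionRing (MvPolynomial (Fin d) k)) {θ} :=
      IntermediateField.mem_adjoin_simple_self _ θ
    have hcmem : algebraMap (FractionRing (MvPolynomial (Fin d) k)) K
        (algebraMap (MvPolynomial (Fin d) k) (FractionRing (MvPolynomial (Fin d) k)) c) ∈
        IntermediateField.adjoin (FractionRing (MvPolynomial (Fin d) k)) {θ} :=
      IntermediateField.algebraMap_mem _ _
    have hαeq : α = (algebraMap (FractionRing (MvPolynomial (Fin d) k)) K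
        (algebraMap (MvPolynomial (Fin d) k) (FractionRing (MvPolynomial (Fin d) k)) c))⁻¹ * θ := by
      rw [hθ, Algebra.smul_def, IsScalarTower.algebraMap_apply (MvPolynomial (Fin d) k)
        (FractionRing (MvPolynomial (Fin d) k)) K, inv_mul_cancel_left₀ hcK]
    rw [hαeq]
    exact mul_mem (inv_mem hcmem) hθmem
  have hθintL : IsIntegral (FractionRing (MvPolynomial (Fin d) k)) θ :=
    Algebra.IsIntegral.isIntegral θ
  have hmap : minpoly (FractionRing (MvPolynomial (Fin d) k)) θ =
      (minpoly (MvPolynomial (Fin d) k) θ).map (algebraMap (MvPolynomial (Fin d) k)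
        (FractionRing (MvPolynomial (Fin d) k))) :=
    minpoly.isIntegrallyClosed_eq_field_fractions' (FractionRing (MvPolynomial (Fin d) k)) hcint
  let ψ₀ : AdjoinRoot (minpoly (MvPolynomial (Fin d) k) θ) →ₐ[MvPolynomial (Fin d) k] K :=
    (Subalgebra.val _).comp (minpoly.equivAdjoin hcint).toAlgHom
  have hψ₀inj : Function.Injective ψ₀ := by
    intro a b hab
    exact (minpoly.equivAdjoin hcint).injective (Subtype.val_injective hab)
  have hψ₀root : ψ₀ (AdjoinRoot.root _) = θ := by
    change ((minpoly.equivAdjoin hcint) (AdjoinRoot.root _) : K) = θ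
    rw [minpoly.coe_equivAdjoin]
    simp
  refine ⟨minpoly (MvPolynomial (Fin d) k) θ, minpoly.monic hcint, ?_, ?_,
    ψ₀.restrictScalars k, hψ₀inj, ?_⟩
  · rw [← hmap]
    exact minpoly.irreducible hθintL
  · rw [← hmap]
    exact Algebra.IsSeparable.isSeparable _ θ
  · have hmemR : ∀ a : MvPolynomial (Fin d) k, algebraMap (MvPolynomial (Fin d) k) K a ∈
        IntermediateField.adjoin k (Set.range s ∪ {θ}) := by
      intro a
      apply IntermediateField.algebra_adjoin_le_adjoin k _
      apply Algebra.adjoin_mono (Set.subset_union_left (s := Set.range s) (t := {θ}))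
      rw [Algebra.adjoin_range_eq_range_aeval]
      exact ⟨a, rfl⟩
    have hrange : ∀ l : FractionRing (MvPolynomial (Fin d) k),
        algebraMap (FractionRing (MvPolynomial (Fin d) k)) K l ∈
          IntermediateField.adjoin k (Set.range s ∪ {θ}) := by
      intro l
      obtain ⟨a, b, hb, rfl⟩ := IsFractionRing.div_surjective (A := MvPolynomial (Fin d) k) l
      rw [map_div₀, ← IsScalarTower.algebraMap_apply (MvPolynomial (Fin d) k)
        (FractionRing (MvPolynomial (Fin d) k)) K,
        ← IsScalarTower.algebraMap_apply (MvPolynomial (Fin d) k)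
        (FractionRing (MvPolynomial (Fin d) k)) K]
      exact div_mem (hmemR a) (hmemR b)
    have hEtop : ∀ z : K, z ∈ IntermediateField.adjoin k (Set.range s ∪ {θ}) := by
      intro z
      have hz : z ∈ IntermediateField.adjoin (FractionRing (MvPolynomial (Fin d) k)) {θ} :=
        hθtop ▸ IntermediateField.mem_top
      induction hz using IntermediateField.adjoin_induction with
      | mem x hx =>
        rw [Set.mem_singleton_iff] at hx
        rw [hx]
        exact IntermediateField.subset_adjoin k _ (Or.inr rfl)
      | algebraMap l => exact hrange l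
      | add x y _ _ hx hy => exact add_mem hx hy
      | inv x _ hx => exact inv_mem hx
      | mul x y _ _ hx hy => exact mul_mem hx hy
    intro z
    obtain ⟨x, hx, y, hy, rfl⟩ := IntermediateField.mem_adjoin_iff_div.mp (hEtop z)
    have hle : Algebra.adjoin k (Set.range s ∪ {θ}) ≤ (ψ₀.restrictScalars k).range := by
      apply Algebra.adjoin_le
      rintro w (⟨i, rfl⟩ | hw)
      · refine ⟨AdjoinRoot.of _ (MvPolynomial.X i), ?_⟩
        change ψ₀ (AdjoinRoot.of _ (MvPolynomial.X i)) = s i
        rw [← AdjoinRoot.algebraMap_eq, ψ₀.commutes]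
        change φ₀ (MvPolynomial.X i) = s i
        simp [φ₀]
      · rw [Set.mem_singleton_iff] at hw
        rw [hw]
        exact ⟨AdjoinRoot.root _, hψ₀root⟩
    obtain ⟨x', rfl⟩ := hle hx
    obtain ⟨y', rfl⟩ := hle hy
    exact ⟨x', y', rfl⟩

end Groth.Agent.Lib.Helper16.HyperModel
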