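import Mathlib

/-!
# Helper16Jac: Jacobian determinants and derivations (Piola identity), characteristic `p`

General lemmas on derivations: Leibniz for products and iterates, derivative of a determinant,
the Piola identity (the cofactor vector of a matrix with curl-free rows is divergence free), and the
non-vanishing of `det (diag (t_i^(p-1)) + Jac f)` in characteristic `p`.
-/

set_option autoImplicit false
set_option linter.style.haveILetI false
set_option linter.unusedSectionVars false

namespace Groth.Agent.Lib.Helper16Jac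

open Matrix Finset

section Leibniz

variable {k : Type*} {A : Type*} [CommRing k] [CommRing A] [Algebra k A]

/-- Leibniz rule for finite products. -/
lemma leibniz_prod {ι : Type*} [DecidableEq ι] (D : Derivation k A A) (s : Finset ι) (g : ι → A) :
    D (∏ i ∈ s, g i) = ∑ i ∈ s, (∏ l ∈ s.erase i, g l) * D (g i) := by
  induction s using Finset.induction_on with
  | empty => simp
  | insert a s ha ih =>
    rw [Finset.prod_insert ha, Derivation.leibniz, ih, Finset.sum_insert ha,
      Finset.erase_insert ha, smul_eq_mul, smul_eq_mul, Finset.mul_sum, add_comm]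
    congr 1
    refine Finset.sum_congr rfl fun i hi => ?_
    have hia : i ≠ a := fun h => ha (h ▸ hi)
    rw [Finset.erase_insert_of_ne (Ne.symm hia), Finset.prod_insert, mul_assoc]
    exact fun h => ha (Finset.mem_of_mem_erase h)

/-- General Leibniz rule for iterates of a derivation. -/
lemma iterate_mul (D : Derivation k A A) (n : ℕ) (a b : A) :
    D^[n] (a * b) = ∑ ij ∈ antidiagonal n, n.choose ij.1 • (D^[ij.1] a * D^[ij.2] b) := by
  induction n with
  | zero => simp
  | succ n ih =>
    rw [sum_antidiagonal_choose_succ_nsmul (M := A) (fun i j => D^[i] a * D^[j] b) n]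
    simp only [Function.iterate_succ_apply', ih, map_sum, map_nsmul, Derivation.leibniz,
      smul_eq_mul, smul_add, sum_add_distrib]
    congr 1
    refine sum_congr rfl fun ⟨i, j⟩ hij ↦ ?_
    rw [n.choose_symm_of_eq_add (mem_antidiagonal.1 hij).symm, mul_comm]

/-- In characteristic `p`, the `p`-th iterate of a derivation satisfies the Leibniz rule. -/
lemma iterate_char_mul (p : ℕ) [hp : Fact p.Prime] [CharP A p] (D : Derivation k A A) (a b : A) :
    D^[p] (a * b) = a * D^[p] b + b * D^[p] a := by
  rw [iterate_mul, Nat.sum_antidiagonal_eq_sum_range_succ_mk, Finset.sum_range_succ]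
  have hp0 : 0 < p := hp.out.pos
  rw [Finset.sum_eq_single_of_mem 0 (Finset.mem_range.mpr hp0)]
  · simp [mul_comm]
  · intro i hi hi0
    have hi' : i < p := Finset.mem_range.mp hi
    have hdvd : p ∣ p.choose i := hp.out.dvd_choose_self hi0 hi'
    simp only
    rw [← Nat.cast_smul_eq_nsmul A, (CharP.cast_eq_zero_iff A p _).mpr hdvd, zero_smul]

variable {ι : Type*} [Fintype ι] [DecidableEq ι]

/-- Derivative of a determinant, column by column. -/
lemma deriv_det_col (D : Derivation k A A) (M : Matrix ι ι A) :
    D M.det = ∑ c, (M.updateCol c (fun r => D (M r c))).det := by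
  simp only [Matrix.det_apply', map_sum]
  rw [Finset.sum_comm]
  refine Finset.sum_congr rfl fun σ _ => ?_
  rw [Derivation.leibniz, Derivation.map_intCast, smul_zero, add_zero, smul_eq_mul, leibniz_prod,
    Finset.mul_sum]
  refine Finset.sum_congr rfl fun c _ => ?_
  congr 1
  rw [← Finset.prod_erase_mul _ _ (Finset.mem_univ c)]
  congr 1
  · refine Finset.prod_congr rfl fun i hi => ?_
    rw [Matrix.updateCol_ne (Finset.ne_of_mem_erase hi)]
  · rw [Matrix.updateCol_self]

/-- Derivative of a determinant, row by row. -/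
lemma deriv_det_row (D : Derivation k A A) (M : Matrix ι ι A) :
    D M.det = ∑ r, (M.updateRow r (fun c => D (M r c))).det := by
  rw [← Matrix.det_transpose, deriv_det_col]
  refine Finset.sum_congr rfl fun r _ => ?_
  rw [Matrix.updateCol_transpose, Matrix.det_transpose]
  rfl

end Leibniz

section Piola

variable {k : Type*} {A : Type*} [CommRing k] [CommRing A] [Algebra k A]
variable {ι : Type*} [Fintype ι] [DecidableEq ι]

/-- the doubly-updated matrix -/
def BB (N : Matrix ι ι A) (i₀ i : ι) (j l : ι) : Matrix ι ι A :=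
  (N.updateRow i₀ (Pi.single j 1)).updateRow i (Pi.single l 1)

lemma det_BB_self (N : Matrix ι ι A) {i₀ i : ι} (hi : i ≠ i₀) (j : ι) :
    (BB N i₀ i j j).det = 0 := by
  apply Matrix.det_zero_of_row_eq hi
  unfold BB
  rw [Matrix.updateRow_self, Matrix.updateRow_ne (Ne.symm hi), Matrix.updateRow_self]

lemma det_BB_swap (N : Matrix ι ι A) {i₀ i : ι} (hi : i ≠ i₀) (j l : ι) :
    (BB N i₀ i l j).det = - (BB N i₀ i j l).det := by
  have h : BB N i₀ i l j = (BB N i₀ i j l).submatrix (Equiv.swap i₀ i) id := by
    ext r c
    simp only [Matrix.submatrix_apply, id_eq]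
    unfold BB
    by_cases hr0 : r = i₀
    · subst hr0
      rw [Equiv.swap_apply_left, Matrix.updateRow_self, Matrix.updateRow_ne (Ne.symm hi),
        Matrix.updateRow_self]
    · by_cases hr1 : r = i
      · subst hr1
        rw [Equiv.swap_apply_right, Matrix.updateRow_self, Matrix.updateRow_ne (Ne.symm hi),
          Matrix.updateRow_self]
      · rw [Equiv.swap_apply_of_ne_of_ne hr0 hr1, Matrix.updateRow_ne hr1,
          Matrix.updateRow_ne hr0, Matrix.updateRow_ne hr1, Matrix.updateRow_ne hr0]
  rw [h, Matrix.det_permute, Equiv.Perm.sign_swap (Ne.symm hi)]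
  simp

/-- **Piola identity**: the cofactor vector of a matrix with curl-free rows is divergence-free. -/
lemma piola (δ : ι → Derivation k A A) (N : Matrix ι ι A) (i₀ : ι)
    (hcl : ∀ i, i ≠ i₀ → ∀ j l, δ j (N i l) = δ l (N i j)) :
    ∑ j, δ j (N.updateRow i₀ (Pi.single j 1)).det = 0 := by
  simp only [deriv_det_row]
  rw [Finset.sum_comm]
  refine Finset.sum_eq_zero fun i _ => ?_
  by_cases hi : i = i₀
  · subst hi
    refine Finset.sum_eq_zero fun j _ => ?_
    apply Matrix.det_eq_zero_of_row_eq_zero i
    intro c
    rw [Matrix.updateRow_self, Matrix.updateRow_self]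
    by_cases hc : c = j
    · subst hc; simp
    · simp [Pi.single_eq_of_ne hc]
  · have h1 : ∀ j, ((N.updateRow i₀ (Pi.single j 1)).updateRow i
        (fun c => δ j ((N.updateRow i₀ (Pi.single j 1)) i c))).det =
        ∑ l, δ j (N i l) * (BB N i₀ i j l).det := by
      intro j
      rw [Matrix.det_eq_sum_mul_adjugate_row _ i]
      refine Finset.sum_congr rfl fun l _ => ?_
      rw [Matrix.updateRow_self, Matrix.updateRow_ne hi, Matrix.adjugate_apply,
        Matrix.updateRow_idem]
      rfl
    simp only [h1]
    rw [← Finset.sum_product']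
    refine Finset.sum_involution (fun x _ => (x.2, x.1)) ?_ ?_ ?_ ?_
    · rintro ⟨j, l⟩ _
      simp only
      rw [det_BB_swap N hi j l, hcl i hi l j]
      ring
    · rintro ⟨j, l⟩ _ hne heq
      simp only [Prod.mk.injEq] at heq
      obtain ⟨rfl, -⟩ := heq
      apply hne
      simp only
      rw [det_BB_self N hi, mul_zero]
    · intro x _
      exact Finset.mem_univ _
    · rintro ⟨j, l⟩ _
      rfl

/-- a functional killing all divergences kills the determinant of a matrix with curl-free rows one
of which is a gradient. -/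
lemma R_det_eq_zero (δ : ι → Derivation k A A) (R : A →+ A) (hR : ∀ j a, R (δ j a) = 0)
    (N : Matrix ι ι A) (i₀ : ι) (f : A) (hf : ∀ j, N i₀ j = δ j f)
    (hcl : ∀ i, i ≠ i₀ → ∀ j l, δ j (N i l) = δ l (N i j)) :
    R N.det = 0 := by
  have h1 : N.det = ∑ j, δ j (f * (N.updateRow i₀ (Pi.single j 1)).det) -
      f * ∑ j, δ j (N.updateRow i₀ (Pi.single j 1)).det := by
    rw [Matrix.det_eq_sum_mul_adjugate_row N i₀, Finset.mul_sum, ← Finset.sum_sub_distrib]
    refine Finset.sum_congr rfl fun j _ => ?_
    rw [hf j, Matrix.adjugate_apply, Derivation.leibniz, smul_eq_mul, smul_eq_mul]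
    ring
  rw [h1, piola δ N i₀ hcl, mul_zero, sub_zero, map_sum]
  exact Finset.sum_eq_zero fun j _ => hR j _

end Piola

section Ops

variable {k : Type*} {A : Type*} [CommRing k] [CommRing A] [Algebra k A]
variable {ι : Type*} [Fintype ι] [DecidableEq ι]

variable (δ : ι → Derivation k A A) (t : ι → A)

/-- derivations with `δ j (t i) = δ_ij` commute when derivations are determined by values on `t`. -/
lemma comm_of_ext (hδt : ∀ i j, δ j (t i) = if i = j then 1 else 0)
    (hext : ∀ d : Derivation k A A, (∀ i, d (t i) = 0) → d = 0) (i j : ι) (a : A) :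
    δ i (δ j a) = δ j (δ i a) := by
  have h : ⁅δ i, δ j⁆ = 0 := by
    apply hext
    intro l
    rw [Derivation.commutator_apply, hδt, hδt]
    split_ifs <;> simp
  have h2 := congrArg (fun d : Derivation k A A => d a) h
  simp only [Derivation.commutator_apply, Derivation.zero_apply] at h2
  exact sub_eq_zero.mp h2

/-- `p`-th power of such derivations vanish -/
lemma pow_p_eq_zero (p : ℕ) [hp : Fact p.Prime] [CharP A p]
    (hδt : ∀ i j, δ j (t i) = if i = j then 1 else 0)
    (hext : ∀ d : Derivation k A A, (∀ i, d (t i) = 0) → d = 0) (j : ι) :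
    ((δ j : A →ₗ[k] A) : Module.End k A) ^ p = 0 := by
  set E : Module.End k A := (δ j : A →ₗ[k] A) with hE
  have hEa : ∀ a, (E ^ p) a = (δ j)^[p] a := fun a => by
    rw [Module.End.pow_apply]; rfl
  let d : Derivation k A A := Derivation.mk' (E ^ p) (by
    intro a b
    rw [hEa, hEa, hEa, iterate_char_mul p (δ j) a b, smul_eq_mul, smul_eq_mul])
  have hd : d = 0 := by
    apply hext
    intro l
    change (E ^ p) (t l) = 0
    obtain ⟨q, hq⟩ : ∃ q, p = q + 2 := ⟨p - 2, by have := hp.out.two_le; omega⟩
    rw [hq, pow_succ, pow_succ, Module.End.mul_apply, Module.End.mul_apply]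
    have : E (E (t l)) = 0 := by
      change δ j (δ j (t l)) = 0
      rw [hδt]; split_ifs <;> simp
    rw [this, map_zero]
  ext a
  have := congrArg (fun d : Derivation k A A => d a) hd
  simpa [d] using this

lemma pow_apply_pow_mul (D : Derivation k A A) (x c : A) (hx : D x = 1) (hc : D c = 0) (m : ℕ) :
    (((D : A →ₗ[k] A) : Module.End k A) ^ m) (x ^ m * c) = m.factorial • c := by
  induction m with
  | zero => simp
  | succ m ih =>
    rw [pow_succ, Module.End.mul_apply]
    have h1 : (D : A →ₗ[k] A) (x ^ (m + 1) * c) = (m + 1) • (x ^ m * c) := by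
      change D (x ^ (m + 1) * c) = _
      rw [Derivation.leibniz, hc, Derivation.leibniz_pow, hx]
      simp only [smul_eq_mul, Nat.add_sub_cancel, mul_one, nsmul_eq_mul]
      ring
    rw [h1, map_nsmul, ih, Nat.factorial_succ, mul_nsmul']

end Ops

section Main

variable {k : Type*} {A : Type*} [CommRing k] [CommRing A] [Algebra k A]
variable {ι : Type*} [Fintype ι] [DecidableEq ι]

variable (δ : ι → Derivation k A A)

/-- the endomorphism `δ j` -/
abbrev EE (j : ι) : Module.End k A := (δ j : A →ₗ[k] A)

/-- product of `(p-1)`-st powers over a finset -/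
lemma RS_comm (p : ℕ) (hc : ∀ i j, Commute (EE δ i) (EE δ j)) (s : Finset ι) :
    (s : Set ι).Pairwise (Function.onFun Commute fun j => EE δ j ^ (p - 1)) :=
  fun x _ y _ _ => (hc x y).pow_pow _ _

noncomputable def RS (p : ℕ) (hc : ∀ i j, Commute (EE δ i) (EE δ j)) (s : Finset ι) :
    Module.End k A :=
  s.noncommProd (fun j => EE δ j ^ (p - 1)) (RS_comm δ p hc s)

lemma RS_mul_EE (p : ℕ) (hp : 0 < p) (hc : ∀ i j, Commute (EE δ i) (EE δ j)) (s : Finset ι)
    (j : ι) (hj : j ∈ s) (hpow : EE δ j ^ p = 0) : RS δ p hc s * EE δ j = 0 := by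
  unfold RS
  rw [← Finset.noncommProd_erase_mul s hj, mul_assoc, ← pow_succ, Nat.sub_add_cancel hp, hpow,
    mul_zero]

lemma RS_apply_prod (p : ℕ) (hc : ∀ i j, Commute (EE δ i) (EE δ j)) (t : ι → A)
    (hδt : ∀ i j, δ j (t i) = if i = j then 1 else 0) (s : Finset ι) :
    ∀ c : A, (∀ j ∈ s, δ j c = 0) →
      RS δ p hc s ((∏ i ∈ s, t i ^ (p - 1)) * c) = ((p - 1).factorial ^ s.card) • c := by
  induction s using Finset.induction_on with
  | empty => intro c _; simp [RS]
  | insert a s ha ih =>
    intro c hcz
    have h1 : RS δ p hc (insert a s) = EE δ a ^ (p - 1) * RS δ p hc s := by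
      unfold RS
      rw [Finset.noncommProd_insert_of_notMem _ _ _ _ ha]
    have h2 : (∏ i ∈ insert a s, t i ^ (p - 1)) * c =
        (∏ i ∈ s, t i ^ (p - 1)) * (t a ^ (p - 1) * c) := by
      rw [Finset.prod_insert ha]; ring
    have h3 : ∀ j ∈ s, δ j (t a ^ (p - 1) * c) = 0 := by
      intro j hj
      have hja : a ≠ j := fun h => ha (h ▸ hj)
      rw [Derivation.leibniz, hcz j (Finset.mem_insert_of_mem hj), Derivation.leibniz_pow, hδt,
        if_neg hja]
      simp
    rw [h1, h2, Module.End.mul_apply, ih _ h3, map_nsmul,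
      pow_apply_pow_mul (δ a) (t a) c (by rw [hδt, if_pos rfl])
        (hcz a (Finset.mem_insert_self a s)),
      Finset.card_insert_of_notMem ha, pow_succ, mul_nsmul]
    exact smul_comm _ _ _

/-- **Main theorem**: the Frobenius-lift Jacobian determinant is nonzero. -/
theorem det_ne_zero [IsDomain A] (p : ℕ) [hp : Fact p.Prime] [CharP A p] (t : ι → A)
    (hδt : ∀ i j, δ j (t i) = if i = j then 1 else 0)
    (hext : ∀ d : Derivation k A A, (∀ i, d (t i) = 0) → d = 0) (f : ι → A) :
    (Matrix.of fun i j : ι => (if i = j then t i ^ (p - 1) else 0) + δ j (f i)).det ≠ 0 := by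
  have hcomm := comm_of_ext δ t hδt hext
  have hc : ∀ i j, Commute (EE δ i) (EE δ j) := by
    intro i j
    apply LinearMap.ext
    intro a
    exact hcomm i j a
  have hpow := pow_p_eq_zero δ t p hδt hext
  set R : Module.End k A := RS δ p hc Finset.univ with hRdef
  have hR : ∀ j a, (R : A →ₗ[k] A).toAddMonoidHom (δ j a) = 0 := by
    intro j a
    have := RS_mul_EE δ p hp.out.pos hc Finset.univ j (Finset.mem_univ j) (hpow j)
    have h2 := congrArg (fun E : Module.End k A => E a) this
    simpa [Module.End.mul_apply] using h2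
  -- expansion
  set a : ι → ι → A := fun i j => if i = j then t i ^ (p - 1) else 0 with ha
  set g : ι → ι → A := fun i j => δ j (f i) with hg
  have hM : (Matrix.of fun i j : ι => (if i = j then t i ^ (p - 1) else 0) + δ j (f i)).det =
      ∑ s : Finset ι, (Matrix.of (s.piecewise a g)).det := by
    have := (Matrix.detRowAlternating (R := A) (n := ι)).toMultilinearMap.map_add_univ a g
    exact this
  have hterm : ∀ s : Finset ι, s ≠ Finset.univ →
      (R : A →ₗ[k] A).toAddMonoidHom (Matrix.of (s.piecewise a g)).det = 0 := by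
    intro s hs
    obtain ⟨i₀, hi₀⟩ : ∃ i₀, i₀ ∉ s := by
      by_contra hcon
      push Not at hcon
      exact hs (Finset.eq_univ_iff_forall.mpr hcon)
    refine R_det_eq_zero δ _ hR _ i₀ (f i₀) ?_ ?_
    · intro j
      simp only [Matrix.of_apply, Finset.piecewise_eq_of_notMem _ _ _ hi₀, hg]
    · intro i _ j l
      simp only [Matrix.of_apply]
      by_cases his : i ∈ s
      · simp only [Finset.piecewise_eq_of_mem _ _ _ his, ha]
        by_cases hil : i = l
        · by_cases hij : i = j
          · rw [← hil, ← hij]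
          · rw [if_pos hil, if_neg hij, Derivation.leibniz_pow, hδt, if_neg hij]
            simp
        · by_cases hij : i = j
          · rw [if_neg hil, if_pos hij, Derivation.leibniz_pow, hδt, if_neg hil]
            simp
          · rw [if_neg hil, if_neg hij]
            simp
      · simp only [Finset.piecewise_eq_of_notMem _ _ _ his, hg]
        exact hcomm j l (f i)
  have hdiag : (Matrix.of ((Finset.univ : Finset ι).piecewise a g)).det =
      ∏ i, t i ^ (p - 1) := by
    rw [Finset.piecewise_univ]
    have : Matrix.of a = Matrix.diagonal (fun i => t i ^ (p - 1)) := by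
      ext i j
      simp [ha, Matrix.diagonal_apply]
    rw [this, Matrix.det_diagonal]
  intro hdet
  have h1 : (R : A →ₗ[k] A).toAddMonoidHom
      (Matrix.of fun i j : ι => (if i = j then t i ^ (p - 1) else 0) + δ j (f i)).det =
      ((p - 1).factorial ^ (Finset.univ : Finset ι).card) • (1 : A) := by
    rw [hM, map_sum, Finset.sum_eq_single_of_mem Finset.univ (Finset.mem_univ _)
      (fun s _ hs => hterm s hs), hdiag]
    have := RS_apply_prod δ p hc t hδt Finset.univ 1 (fun j _ => by simp)
    rw [mul_one] at this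
    exact this
  rw [hdet, map_zero] at h1
  have h2 : (((p - 1).factorial ^ (Finset.univ : Finset ι).card : ℕ) : A) ≠ 0 := by
    rw [Nat.cast_pow]
    apply pow_ne_zero
    intro h0
    rw [CharP.cast_eq_zero_iff A p, hp.out.dvd_factorial] at h0
    have := hp.out.pos
    omega
  apply h2
  rw [← nsmul_one]
  exact h1.symm

end Main

end Groth.Agent.Lib.Helper16Jac
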