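import Mathlib

/-!
# Kempf's lemma: maximising `g_min / ‖·‖` on a rational polyhedral cone
-/

set_option autoImplicit false
set_option linter.unusedSectionVars false
set_option linter.style.haveILetI false

namespace Groth.Agent.Lib.Helper16Kempf

universe u

section Mn

variable {E : Type u} [NormedAddCommGroup E] [InnerProductSpace ℝ E] [FiniteDimensional ℝ E]

/-- the minimum of a nonempty finite set of linear functionals -/
noncomputable def mn (F : Finset (Module.Dual ℝ E)) (hF : F.Nonempty) (v : E) : ℝ :=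
  F.inf' hF (fun f => f v)

variable (F : Finset (Module.Dual ℝ E)) (hF : F.Nonempty)

theorem mn_le {f : Module.Dual ℝ E} (hf : f ∈ F) (v : E) : mn F hF v ≤ f v :=
  Finset.inf'_le (fun f => f v) hf

theorem le_mn_iff (a : ℝ) (v : E) : a ≤ mn F hF v ↔ ∀ f ∈ F, a ≤ f v :=
  Finset.le_inf'_iff hF _

theorem lt_mn_iff (a : ℝ) (v : E) : a < mn F hF v ↔ ∀ f ∈ F, a < f v :=
  Finset.lt_inf'_iff hF

theorem exists_mn_eq (v : E) : ∃ f ∈ F, mn F hF v = f v :=
  Finset.exists_mem_eq_inf' hF _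

theorem mn_zero : mn F hF (0 : E) = 0 := by
  obtain ⟨f, _, h⟩ := exists_mn_eq F hF (0 : E)
  rw [h, map_zero]

theorem mn_smul {t : ℝ} (ht : 0 ≤ t) (v : E) : mn F hF (t • v) = t * mn F hF v := by
  apply le_antisymm
  · obtain ⟨f, hf, h⟩ := exists_mn_eq F hF v
    rw [h]
    calc mn F hF (t • v) ≤ f (t • v) := mn_le F hF hf _
      _ = t * f v := by rw [map_smul, smul_eq_mul]
  · rw [le_mn_iff]
    intro f hf
    rw [map_smul, smul_eq_mul]
    exact mul_le_mul_of_nonneg_left (mn_le F hF hf v) ht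

theorem mn_add (v w : E) : mn F hF v + mn F hF w ≤ mn F hF (v + w) := by
  rw [le_mn_iff]
  intro f hf
  rw [map_add]
  exact add_le_add (mn_le F hF hf v) (mn_le F hF hf w)

theorem continuous_mn : Continuous (mn F hF) := by
  unfold mn
  exact Continuous.finset_inf'_apply hF fun f _ => LinearMap.continuous_of_finiteDimensional f

end Mn

section PartA

variable {E : Type u} [NormedAddCommGroup E] [InnerProductSpace ℝ E] [FiniteDimensional ℝ E]
variable (F G : Finset (Module.Dual ℝ E)) (hF : F.Nonempty) (hG : G.Nonempty)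

/-- existence of a unit maximiser -/
theorem exists_unit_max (hpos : ∃ v : E, 0 ≤ mn F hF v ∧ 0 < mn G hG v) :
    ∃ u : E, ‖u‖ = 1 ∧ 0 ≤ mn F hF u ∧ 0 < mn G hG u ∧
      ∀ w : E, ‖w‖ = 1 → 0 ≤ mn F hF w → mn G hG w ≤ mn G hG u := by
  obtain ⟨v, hv1, hv2⟩ := hpos
  have hv0 : v ≠ 0 := by
    rintro rfl
    rw [mn_zero] at hv2
    exact lt_irrefl _ hv2
  have hvn : 0 < ‖v‖ := norm_pos_iff.mpr hv0
  set S : Set E := Metric.sphere (0 : E) 1 ∩ {w | 0 ≤ mn F hF w} with hS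
  have hScompact : IsCompact S := by
    refine (isCompact_sphere (0 : E) 1).inter_right ?_
    exact isClosed_le continuous_const (continuous_mn F hF)
  have hSne : S.Nonempty := by
    refine ⟨‖v‖⁻¹ • v, ?_, ?_⟩
    · rw [mem_sphere_zero_iff_norm, norm_smul, norm_inv, norm_norm, inv_mul_cancel₀ hvn.ne']
    · show 0 ≤ mn F hF (‖v‖⁻¹ • v)
      rw [mn_smul F hF (inv_nonneg.mpr hvn.le)]
      exact mul_nonneg (inv_nonneg.mpr hvn.le) hv1
  obtain ⟨u, huS, humax⟩ := hScompact.exists_isMaxOn hSne (continuous_mn G hG).continuousOn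
  have hu1 : ‖u‖ = 1 := mem_sphere_zero_iff_norm.mp huS.1
  refine ⟨u, hu1, huS.2, ?_, ?_⟩
  · have h1 : mn G hG (‖v‖⁻¹ • v) ≤ mn G hG u := by
      have hmem : ‖v‖⁻¹ • v ∈ S := by
        refine ⟨?_, ?_⟩
        · rw [mem_sphere_zero_iff_norm, norm_smul, norm_inv, norm_norm, inv_mul_cancel₀ hvn.ne']
        · show 0 ≤ mn F hF (‖v‖⁻¹ • v)
          rw [mn_smul F hF (inv_nonneg.mpr hvn.le)]
          exact mul_nonneg (inv_nonneg.mpr hvn.le) hv1
      exact humax hmem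
    rw [mn_smul G hG (inv_nonneg.mpr hvn.le)] at h1
    exact lt_of_lt_of_le (mul_pos (inv_pos.mpr hvn) hv2) h1
  · intro w hw1 hw2
    exact humax ⟨mem_sphere_zero_iff_norm.mpr hw1, hw2⟩

/-- the value of the quotient at any admissible vector is bounded by the value at the unit
maximiser -/
theorem quot_le {u : E} (hmax : ∀ w : E, ‖w‖ = 1 → 0 ≤ mn F hF w → mn G hG w ≤ mn G hG u)
    {v : E} (hv0 : v ≠ 0) (hv : 0 ≤ mn F hF v) : mn G hG v / ‖v‖ ≤ mn G hG u := by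
  have hvn : 0 < ‖v‖ := norm_pos_iff.mpr hv0
  have h1 := hmax (‖v‖⁻¹ • v)
    (by rw [norm_smul, norm_inv, norm_norm, inv_mul_cancel₀ hvn.ne'])
    (by rw [mn_smul F hF (inv_nonneg.mpr hvn.le)]; exact mul_nonneg (inv_nonneg.mpr hvn.le) hv)
  rw [mn_smul G hG (inv_nonneg.mpr hvn.le)] at h1
  rw [div_eq_inv_mul]
  exact h1

/-- uniqueness of the maximising ray -/
theorem ray_unique {u : E} (hu1 : ‖u‖ = 1) (huF : 0 ≤ mn F hF u) (huG : 0 < mn G hG u)
    (hmax : ∀ w : E, ‖w‖ = 1 → 0 ≤ mn F hF w → mn G hG w ≤ mn G hG u)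
    {v : E} (hv0 : v ≠ 0) (hv : 0 ≤ mn F hF v) (hvM : mn G hG v / ‖v‖ = mn G hG u) :
    v = ‖v‖ • u := by
  have hvn : 0 < ‖v‖ := norm_pos_iff.mpr hv0
  set w : E := ‖v‖⁻¹ • v with hw
  have hw1 : ‖w‖ = 1 := by
    rw [hw, norm_smul, norm_inv, norm_norm, inv_mul_cancel₀ hvn.ne']
  have hwF : 0 ≤ mn F hF w := by
    rw [hw, mn_smul F hF (inv_nonneg.mpr hvn.le)]
    exact mul_nonneg (inv_nonneg.mpr hvn.le) hv
  have hwG : mn G hG w = mn G hG u := by
    rw [hw, mn_smul G hG (inv_nonneg.mpr hvn.le), ← div_eq_inv_mul, hvM]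
  suffices hwu : w = u by
    rw [← hwu, hw, smul_smul, mul_inv_cancel₀ hvn.ne', one_smul]
  by_contra hne
  have hray : ¬ SameRay ℝ w u := by
    rw [sameRay_iff_of_norm_eq (hw1.trans hu1.symm)]
    exact hne
  have hlt : ‖w + u‖ < 2 := by
    have := norm_add_lt_of_not_sameRay hray
    rw [hw1, hu1] at this
    linarith
  set z : E := w + u with hz
  have hzG : 2 * mn G hG u ≤ mn G hG z := by
    have := mn_add G hG w u
    rw [hwG] at this
    linarith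
  have hzF : 0 ≤ mn F hF z := le_trans (add_nonneg hwF huF) (mn_add F hF w u)
  have hz0 : z ≠ 0 := by
    intro h0
    rw [h0, mn_zero] at hzG
    linarith
  have hzn : 0 < ‖z‖ := norm_pos_iff.mpr hz0
  have h1 := quot_le F G hF hG hmax hz0 hzF
  rw [div_le_iff₀ hzn] at h1
  nlinarith

end PartA

section Rho

open Module

theorem exists_rho : ∃ ρ : ℝ →ₗ[ℚ] ℝ, (∀ q : ℚ, ρ (q : ℝ) = q) ∧ (∀ x : ℝ, ∃ q : ℚ, ρ x = q) := by
  obtain ⟨g, hg⟩ := LinearMap.exists_leftInverse_of_injective (Algebra.linearMap ℚ ℝ)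
    (LinearMap.ker_eq_bot.mpr (algebraMap ℚ ℝ).injective)
  refine ⟨(Algebra.linearMap ℚ ℝ).comp g, fun q => ?_, fun x => ⟨g x, rfl⟩⟩
  have h1 : g ((q : ℝ)) = q := by
    have := LinearMap.congr_fun hg q
    simpa using this
  show algebraMap ℚ ℝ (g (q : ℝ)) = q
  rw [h1]
  rfl

theorem rho_mul (ρ : ℝ →ₗ[ℚ] ℝ) (q : ℚ) (x : ℝ) : ρ ((q : ℝ) * x) = (q : ℝ) * ρ x := by
  have h : (q : ℝ) * x = q • x := (Rat.smul_def q x).symm
  rw [h, map_smul, Rat.smul_def]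

variable {E : Type u} [AddCommGroup E] [Module ℝ E]
variable {ι : Type*} [Fintype ι]

/-- the `ℚ`-linear "rational part" operator attached to a basis and a retraction `ρ` -/
noncomputable def P (ρ : ℝ →ₗ[ℚ] ℝ) (b : Basis ι ℝ E) (v : E) : E :=
  ∑ i, ρ (b.repr v i) • b i

theorem apply_P (ρ : ℝ →ₗ[ℚ] ℝ) (b : Basis ι ℝ E) (h : E →ₗ[ℝ] ℝ)
    (hh : ∀ i, ∃ q : ℚ, h (b i) = q) (v : E) : h (P ρ b v) = ρ (h v) := by
  choose q hq using hh
  have hv : h v = ∑ i, (q i : ℝ) * b.repr v i := by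
    conv_lhs => rw [← b.sum_repr v]
    rw [map_sum]
    refine Finset.sum_congr rfl fun i _ => ?_
    rw [map_smul, smul_eq_mul, hq, mul_comm]
  rw [hv, map_sum]
  unfold P
  rw [map_sum]
  refine Finset.sum_congr rfl fun i _ => ?_
  rw [map_smul, smul_eq_mul, hq, rho_mul, mul_comm]

theorem exists_int_smul_P_mem (ρ : ℝ →ₗ[ℚ] ℝ) (hρ : ∀ x : ℝ, ∃ q : ℚ, ρ x = q)
    (b : Basis ι ℝ E) (L : Submodule ℤ E) (hb : ∀ i, b i ∈ L) (v : E) :
    ∃ N : ℤ, N ≠ 0 ∧ (N : ℝ) • P ρ b v ∈ L := by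
  choose q hq using fun i => hρ (b.repr v i)
  obtain ⟨N, hN⟩ := IsLocalization.exist_integer_multiples (nonZeroDivisors ℤ)
    (Finset.univ : Finset ι) q
  refine ⟨N, nonZeroDivisors.coe_ne_zero N, ?_⟩
  unfold P
  rw [Finset.smul_sum]
  refine Submodule.sum_mem _ fun i _ => ?_
  obtain ⟨m, hm⟩ := hN i (Finset.mem_univ i)
  rw [smul_smul, hq]
  have h1 : ((N : ℤ) : ℝ) * (q i : ℝ) = (m : ℝ) := by
    have h2 : (m : ℚ) = ((N : ℤ) : ℚ) * q i := by
      rw [← eq_intCast (algebraMap ℤ ℚ) m, hm, zsmul_eq_mul]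
    have h3 := congrArg (fun x : ℚ => (x : ℝ)) h2
    simp only [Rat.cast_intCast, Rat.cast_mul] at h3
    exact h3.symm
  rw [h1, Int.cast_smul_eq_zsmul]
  exact L.smul_mem m (hb i)

end Rho

section KKT

open Module Topology

variable {E : Type u} [NormedAddCommGroup E] [InnerProductSpace ℝ E] [FiniteDimensional ℝ E]

local notation "⟪" x ", " y "⟫" => inner ℝ x y

theorem inner_eq_zero_of_min {w d : E}
    (hmin : ∀ᶠ t : ℝ in 𝓝 0, ‖w‖ ≤ ‖w + t • d‖) : ⟪w, d⟫ = 0 := by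
  have hq : ∀ t : ℝ, ‖w + t • d‖ ^ 2 = ‖w‖ ^ 2 + 2 * t * ⟪w, d⟫ + t ^ 2 * ‖d‖ ^ 2 := by
    intro t
    rw [norm_add_sq_real, real_inner_smul_right, norm_smul, mul_pow, Real.norm_eq_abs, sq_abs]
    ring
  have hlm : IsLocalMin (fun t : ℝ => ‖w‖ ^ 2 + 2 * t * ⟪w, d⟫ + t ^ 2 * ‖d‖ ^ 2) 0 := by
    filter_upwards [hmin] with t ht
    have h1 := pow_le_pow_left₀ (norm_nonneg _) ht 2
    rw [hq t] at h1
    simpa using h1
  have hd : HasDerivAt (fun t : ℝ => ‖w‖ ^ 2 + 2 * t * ⟪w, d⟫ + t ^ 2 * ‖d‖ ^ 2)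
      (2 * ⟪w, d⟫) 0 := by
    have h1 : HasDerivAt (fun t : ℝ => 2 * t * ⟪w, d⟫) (2 * ⟪w, d⟫) 0 := by
      simpa using ((hasDerivAt_id (0 : ℝ)).const_mul 2).mul_const ⟪w, d⟫
    have h2 : HasDerivAt (fun t : ℝ => t ^ 2 * ‖d‖ ^ 2) 0 0 := by
      simpa using (hasDerivAt_pow 2 (0 : ℝ)).mul_const (‖d‖ ^ 2)
    have h3 := ((hasDerivAt_const (0 : ℝ) (‖w‖ ^ 2)).fun_add h1).fun_add h2
    simpa using h3
  have := hlm.hasDerivAt_eq_zero hd
  linarith

theorem eventually_le_apply (h : Module.Dual ℝ E) (c : ℝ) {w d : E} (hc : c ≤ h w)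
    (hd : h w = c → h d = 0) : ∀ᶠ t : ℝ in 𝓝 0, c ≤ h (w + t • d) := by
  have hval : ∀ t : ℝ, h (w + t • d) = h w + t * h d := by
    intro t
    rw [map_add, map_smul, smul_eq_mul]
  rcases hc.eq_or_lt with heq | hlt
  · refine Filter.Eventually.of_forall fun t => ?_
    rw [hval, hd heq.symm, mul_zero, add_zero]
    exact hc
  · have hcont : Continuous fun t : ℝ => h w + t * h d := by fun_prop
    have htend : Filter.Tendsto (fun t : ℝ => h w + t * h d) (𝓝 0) (𝓝 (h w + 0 * h d)) :=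
      hcont.tendsto 0
    have hlt' : c < h w + 0 * h d := by rw [zero_mul, add_zero]; exact hlt
    filter_upwards [htend.eventually (lt_mem_nhds hlt')] with t ht
    rw [hval]
    exact ht.le

variable {ι : Type*} [Fintype ι]

theorem rational_of_min (ρ : ℝ →ₗ[ℚ] ℝ) (hρ1 : ∀ q : ℚ, ρ (q : ℝ) = q)
    (b : Basis ι ℝ E) (hb : ∀ i j, ∃ n : ℤ, ⟪b i, b j⟫ = n)
    (F G : Finset (Module.Dual ℝ E))
    (hFb : ∀ f ∈ F, ∀ i, ∃ n : ℤ, f (b i) = n) (hGb : ∀ g ∈ G, ∀ i, ∃ n : ℤ, g (b i) = n)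
    (w : E) (hwG : ∀ g ∈ G, 1 ≤ g w) (hwF : ∀ f ∈ F, 0 ≤ f w)
    (hmin : ∀ v : E, (∀ g ∈ G, 1 ≤ g v) → (∀ f ∈ F, 0 ≤ f v) → ‖w‖ ≤ ‖v‖) :
    P ρ b w = w := by
  classical
  -- orthogonality
  have hortho : ∀ d : E, (∀ g ∈ G, g w = 1 → g d = 0) → (∀ f ∈ F, f w = 0 → f d = 0) →
      ⟪w, d⟫ = 0 := by
    intro d hdG hdF
    apply inner_eq_zero_of_min
    have h1 : ∀ᶠ t : ℝ in 𝓝 0, ∀ g ∈ G, 1 ≤ g (w + t • d) :=
      (Filter.eventually_all_finset G).mpr fun g hg =>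
        eventually_le_apply g 1 (hwG g hg) (hdG g hg)
    have h2 : ∀ᶠ t : ℝ in 𝓝 0, ∀ f ∈ F, 0 ≤ f (w + t • d) :=
      (Filter.eventually_all_finset F).mpr fun f hf =>
        eventually_le_apply f 0 (hwF f hf) (hdF f hf)
    filter_upwards [h1, h2] with t ht1 ht2
    exact hmin _ ht1 ht2
  -- active constraints
  set H₀ : Finset (Module.Dual ℝ E) :=
    G.filter (fun g => g w = 1) ∪ F.filter (fun f => f w = 0) with hH₀
  have hH₀val : ∀ h ∈ H₀, ∃ q : ℚ, h w = q := by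
    intro h hh
    rw [hH₀, Finset.mem_union, Finset.mem_filter, Finset.mem_filter] at hh
    rcases hh with ⟨_, h1⟩ | ⟨_, h1⟩
    · exact ⟨1, by rw [h1]; norm_num⟩
    · exact ⟨0, by rw [h1]; norm_num⟩
  have hH₀b : ∀ h ∈ H₀, ∀ i, ∃ n : ℤ, h (b i) = n := by
    intro h hh
    rw [hH₀, Finset.mem_union, Finset.mem_filter, Finset.mem_filter] at hh
    rcases hh with ⟨h1, _⟩ | ⟨h1, _⟩
    · exact hGb h h1
    · exact hFb h h1
  have hortho' : ∀ d : E, (∀ h ∈ H₀, h d = 0) → ⟪w, d⟫ = 0 := by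
    intro d hd
    refine hortho d (fun g hg hgw => hd g ?_) (fun f hf hfw => hd f ?_)
    · rw [hH₀, Finset.mem_union, Finset.mem_filter]
      exact Or.inl ⟨hg, hgw⟩
    · rw [hH₀, Finset.mem_union, Finset.mem_filter, Finset.mem_filter]
      exact Or.inr ⟨hf, hfw⟩
  -- Lagrange multipliers
  have hK : innerₗ E w ∈ Submodule.span ℝ (Set.range fun i : H₀ => (i.1 : E →ₗ[ℝ] ℝ)) := by
    apply mem_span_of_iInf_ker_le_ker
    intro d hd
    rw [Submodule.mem_iInf] at hd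
    rw [LinearMap.mem_ker, innerₗ_apply_apply]
    exact hortho' d fun h hh => LinearMap.mem_ker.mp (hd ⟨h, hh⟩)
  obtain ⟨c, hc⟩ := (Submodule.mem_span_range_iff_exists_fun ℝ).mp hK
  set w' : E := P ρ b w with hw'
  have hrat : ∀ h ∈ H₀, ∀ i, ∃ q : ℚ, h (b i) = q := by
    intro h hh i
    obtain ⟨n, hn⟩ := hH₀b h hh i
    exact ⟨n, by rw [hn]; norm_num⟩
  -- (i) the active constraints hold at `w'`
  have hi : ∀ h ∈ H₀, h w' = h w := by
    intro h hh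
    rw [hw', apply_P ρ b h (hrat h hh)]
    obtain ⟨q, hq⟩ := hH₀val h hh
    rw [hq, hρ1]
  -- (ii) the inner product with `w'`
  have hii : innerₗ E w' = ∑ i : H₀, ρ (c i) • (i.1 : E →ₗ[ℝ] ℝ) := by
    apply b.ext
    intro j
    rw [innerₗ_apply_apply, real_inner_comm]
    have h1 : ⟪b j, w'⟫ = ρ ⟪b j, w⟫ := by
      have := apply_P ρ b (innerₗ E (b j))
        (fun i => by
          obtain ⟨n, hn⟩ := hb j i
          exact ⟨n, by rw [innerₗ_apply_apply, hn]; norm_num⟩) w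
      simpa only [innerₗ_apply_apply] using this
    rw [h1]
    have h2 : ⟪b j, w⟫ = ∑ i : H₀, c i * (i.1 : E →ₗ[ℝ] ℝ) (b j) := by
      rw [real_inner_comm, ← innerₗ_apply_apply, ← hc]
      simp [LinearMap.sum_apply]
    rw [h2, map_sum, LinearMap.sum_apply]
    refine Finset.sum_congr rfl fun i _ => ?_
    obtain ⟨n, hn⟩ := hH₀b i.1 i.2 j
    rw [LinearMap.smul_apply, smul_eq_mul, hn]
    have h3 : c i * (n : ℝ) = ((n : ℚ) : ℝ) * c i := by push_cast; ring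
    rw [h3, rho_mul]
    push_cast
    ring
  -- conclusion
  set d : E := w - w' with hd
  have hd0 : ∀ h ∈ H₀, h d = 0 := by
    intro h hh
    rw [hd, map_sub, hi h hh, sub_self]
  have h1 : ⟪w, d⟫ = 0 := hortho' d hd0
  have h2 : ⟪w', d⟫ = 0 := by
    rw [← innerₗ_apply_apply, hii, LinearMap.sum_apply]
    refine Finset.sum_eq_zero fun i _ => ?_
    rw [LinearMap.smul_apply, hd0 i.1 i.2, smul_zero]
  have h3 : ⟪d, d⟫ = 0 := by
    have : ⟪d, d⟫ = ⟪w, d⟫ - ⟪w', d⟫ := by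
      conv_lhs => rw [hd, inner_sub_left]
    rw [this, h1, h2, sub_zero]
  have h4 : d = 0 := inner_self_eq_zero.mp h3
  rw [hd, sub_eq_zero] at h4
  exact h4.symm

end KKT

section Cyclic

variable {E : Type u} [NormedAddCommGroup E] [InnerProductSpace ℝ E]

theorem exists_generator (L : Submodule ℤ E) [DiscreteTopology L] (u : E) (hu : ‖u‖ = 1)
    (t₀ : ℝ) (ht₀ : t₀ ≠ 0) (hmem : t₀ • u ∈ L) :
    ∃ a : ℝ, 0 < a ∧ a • u ∈ L ∧ ∀ t : ℝ, t • u ∈ L → ∃ n : ℤ, t = n * a := by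
  have hu0 : u ≠ 0 := by
    intro h
    rw [h, norm_zero] at hu
    exact zero_ne_one hu
  set S : AddSubgroup ℝ :=
    L.toAddSubgroup.comap (LinearMap.toSpanSingleton ℝ E u).toAddMonoidHom with hS
  have hSmem : ∀ t : ℝ, t ∈ S ↔ t • u ∈ L := fun t => Iff.rfl
  obtain ⟨ε, hε, hball⟩ : ∃ ε > 0, ∀ x ∈ L, ‖x‖ < ε → x = 0 := by
    have hopen : IsOpen ({0} : Set L) := isOpen_discrete _
    obtain ⟨ε, hε, hb⟩ := Metric.isOpen_iff.mp hopen 0 rfl
    refine ⟨ε, hε, fun x hx hlt => ?_⟩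
    have h1 : (⟨x, hx⟩ : L) ∈ Metric.ball (0 : L) ε := by
      rw [Metric.mem_ball, Subtype.dist_eq]
      simpa [dist_zero_right] using hlt
    have h2 := hb h1
    rw [Set.mem_singleton_iff] at h2
    exact congrArg Subtype.val h2
  rcases AddSubgroup.dense_or_cyclic S with hdense | ⟨a, ha⟩
  · exfalso
    obtain ⟨t, htS, ht0, htε⟩ := hdense.exists_between hε
    have h1 : t • u = 0 := by
      apply hball _ ((hSmem t).mp htS)
      rw [norm_smul, hu, mul_one, Real.norm_eq_abs, abs_of_pos ht0]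
      exact htε
    rcases smul_eq_zero.mp h1 with h | h
    · exact ht0.ne' h
    · exact hu0 h
  · have haS : a ∈ S := by
      rw [ha]
      exact AddSubgroup.subset_closure rfl
    have hgenS : ∀ t : ℝ, t ∈ S → ∃ n : ℤ, t = n * a := by
      intro t ht
      rw [ha, AddSubgroup.mem_closure_singleton] at ht
      obtain ⟨n, hn⟩ := ht
      exact ⟨n, by rw [← hn, zsmul_eq_mul]⟩
    have ha0 : a ≠ 0 := by
      intro h
      obtain ⟨n, hn⟩ := hgenS t₀ ((hSmem t₀).mpr hmem)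
      rw [h, mul_zero] at hn
      exact ht₀ hn
    refine ⟨|a|, abs_pos.mpr ha0, ?_, fun t ht => ?_⟩
    · rcases abs_choice a with h | h
      · rw [h]
        exact (hSmem a).mp haS
      · rw [h]
        exact (hSmem (-a)).mp (S.neg_mem haS)
    · obtain ⟨n, hn⟩ := hgenS t ((hSmem t).mpr ht)
      rcases abs_choice a with h | h
      · exact ⟨n, by rw [h, hn]⟩
      · refine ⟨-n, ?_⟩
        rw [h, hn]
        push_cast
        ring

end Cyclic

end Groth.Agent.Lib.Helper16Kempf
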