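import Mathlib
import Groth.Agent.S8604

set_option autoImplicit false
set_option linter.style.haveILetI false
set_option linter.unusedSectionVars false
universe u
namespace Groth.Agent.Lib.Helper16Lang
open TensorProduct

section Core

variable {p : ℕ} [hp : Fact p.Prime] (k : Type u) [Field k] [CharP k p]
    (K : Type u) [Field K] [Algebra k K] [IsAlgClosed K] [CharP K p]
    (E : Type u) [AddCommGroup E] [Module K E] [Module k E] [IsScalarTower k K E]
    [FiniteDimensional K E]
    (Φ : E →+ E) (hΦ : ∀ (a : K) (y : E), Φ (a • y) = a ^ p • Φ y)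
    (W : Submodule (↥(⊥ : Subfield k)) E) (hW : ∀ y, y ∈ W ↔ Φ y = y)

lemma charP_bot : CharP (↥(⊥ : Subfield k)) p :=
  (RingHom.charP_iff _ (algebraMap (↥(⊥ : Subfield k)) k).injective p).mpr inferInstance

lemma smul_eq (c : ↥(⊥ : Subfield k)) (y : E) :
    c • y = algebraMap k K (c : k) • y := by
  rw [Subfield.smul_def, algebraMap_smul]

include hΦ hW in
lemma indep_of_F0 {ι : Type*} [Fintype ι] (g : ι → ↥W)
    (hind : LinearIndependent (↥(⊥ : Subfield k)) g) :
    LinearIndependent K (fun i => ((g i : ↥W) : E)) := by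
  classical
  haveI := charP_bot (p := p) k
  have h2 := (Groth.Agent.S8604.result p K E Φ hΦ).2
  let g' : ι → E := fun i => ((g i : ↥W) : E)
  let s : Finset E := Finset.univ.image g'
  have hmem : ∀ i, g' i ∈ s := fun i => Finset.mem_image_of_mem g' (Finset.mem_univ i)
  let e : ι → s := fun i => ⟨g' i, hmem i⟩
  have hginj : Function.Injective g' := fun i j h => hind.injective (Subtype.ext h)
  have heinj : Function.Injective e := fun i j h =>
    hginj (show g' i = g' j from congrArg (fun x : s => (x : E)) h)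
  have hesurj : Function.Surjective e := by
    rintro ⟨v, hv⟩
    obtain ⟨i, -, rfl⟩ := Finset.mem_image.mp hv
    exact ⟨i, rfl⟩
  have hcast : ∀ (n : ℤ) (y : E), ((n : ℤ) : ↥(⊥ : Subfield k)) • y = n • y := by
    intro n y
    rw [smul_eq k K E, ← Int.cast_smul_eq_zsmul K n y]
    congr 1
    simp
  have hs := h2 s (by
    intro v hv
    obtain ⟨i, -, rfl⟩ := Finset.mem_image.mp hv
    exact (hW _).mp (g i).2) (by
    intro c hc v
    obtain ⟨i, rfl⟩ := hesurj v
    have h0 : ((c (e i) : ℤ) : ↥(⊥ : Subfield k)) = 0 := by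
      refine (Fintype.linearIndependent_iff.mp hind)
        (fun j => ((c (e j) : ℤ) : ↥(⊥ : Subfield k))) ?_ i
      apply Subtype.ext
      rw [Submodule.coe_sum, Submodule.coe_zero, ← hc]
      refine Fintype.sum_equiv (Equiv.ofBijective e ⟨heinj, hesurj⟩) _ _ ?_
      intro j
      rw [Submodule.coe_smul]
      exact hcast (c (e j)) (g' j)
    exact (CharP.intCast_eq_zero_iff (↥(⊥ : Subfield k)) p _).mp h0)
  exact hs.comp e heinj

include hΦ hW in
lemma finite_W : Module.Finite (↥(⊥ : Subfield k)) ↥W := by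
  rw [← Module.rank_lt_aleph0_iff]
  have hle : Module.rank (↥(⊥ : Subfield k)) ↥W ≤ (Module.finrank K E : ℕ) := by
    refine rank_le (n := Module.finrank K E) ?_
    intro s hs
    have h2 := indep_of_F0 k K E Φ hΦ W hW _ hs
    have h3 := h2.fintype_card_le_finrank
    rwa [Fintype.card_coe] at h3
  exact lt_of_le_of_lt hle (Cardinal.natCast_lt_aleph0)

variable (FK : E →ₗ[K] E) (hcomm : ∀ y, Φ (FK y) = FK (Φ y))
  (hnil : ∀ (y : E) (m : ℕ), (⇑Φ)^[m] y = 0 → (⇑FK)^[m] y = 0)

include hΦ hW hcomm hnil in
theorem trace_core (G : ↥W →ₗ[↥(⊥ : Subfield k)] ↥W)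
    (hG : ∀ y : ↥W, ((G y : ↥W) : E) = FK ↑y) :
    algebraMap k K (algebraMap (↥(⊥ : Subfield k)) k
      (LinearMap.trace (↥(⊥ : Subfield k)) ↥W G)) = LinearMap.trace K E FK := by
  classical
  haveI hfin := finite_W k K E Φ hΦ W hW
  let b := Module.finBasis (↥(⊥ : Subfield k)) ↥W
  set g' : Fin (Module.finrank (↥(⊥ : Subfield k)) ↥W) → E := fun i => ((b i : ↥W) : E) with hg'
  have hli : LinearIndependent K g' := indep_of_F0 k K E Φ hΦ W hW b b.linearIndependent
  have hcompl0 := (Groth.Agent.S8604.result p K E Φ hΦ).1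
  -- coordinates
  have hcoe : ∀ w : ↥W, (w : E) = ∑ i, algebraMap k K ((b.repr w i : ↥(⊥ : Subfield k)) : k) • g' i := by
    intro w
    conv_lhs => rw [← b.sum_repr w]
    rw [Submodule.coe_sum]
    refine Finset.sum_congr rfl fun i _ => ?_
    rw [Submodule.coe_smul, smul_eq k K E]
  have hspan : Submodule.span K (Set.range g') = Submodule.span K {v : E | Φ v = v} := by
    apply le_antisymm
    · apply Submodule.span_mono
      rintro _ ⟨i, rfl⟩
      exact (hW _).mp (b i).2
    · apply Submodule.span_le.mpr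
      intro y hy
      have hyW : y ∈ W := (hW y).mpr hy
      have := hcoe ⟨y, hyW⟩
      change y = _ at this
      rw [SetLike.mem_coe, this]
      exact Submodule.sum_mem _ fun i _ =>
        Submodule.smul_mem _ _ (Submodule.subset_span ⟨i, rfl⟩)
  set V0 := Submodule.span K (Set.range g') with hV0
  set Vn := Submodule.span K {v : E | ∃ m : ℕ, (⇑Φ)^[m] v = 0} with hVn
  have hcompl : IsCompl V0 Vn := by rw [hspan]; exact hcompl0
  -- FK on the basis vectors
  have hFKg : ∀ j, FK (g' j) = ∑ i, algebraMap k K ((b.repr (G (b j)) i : ↥(⊥ : Subfield k)) : k) • g' i := by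
    intro j
    rw [← hcoe (G (b j)), hG]
  have hmaps0 : ∀ y ∈ V0, FK y ∈ V0 := by
    intro y hy
    have : V0 ≤ V0.comap FK := by
      apply Submodule.span_le.mpr
      rintro _ ⟨j, rfl⟩
      rw [SetLike.mem_coe, Submodule.mem_comap, hFKg]
      exact Submodule.sum_mem _ fun i _ =>
        Submodule.smul_mem _ _ (Submodule.subset_span ⟨i, rfl⟩)
    exact this hy
  have hiter : ∀ (m : ℕ) (y : E), (⇑Φ)^[m] (FK y) = FK ((⇑Φ)^[m] y) := by
    intro m
    induction m with
    | zero => intro y; rfl
    | succ m ih => intro y; rw [Function.iterate_succ_apply, Function.iterate_succ_apply, hcomm, ih]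
  have hmapsn : ∀ y ∈ Vn, FK y ∈ Vn := by
    intro y hy
    have : Vn ≤ Vn.comap FK := by
      apply Submodule.span_le.mpr
      rintro y ⟨m, hm⟩
      rw [SetLike.mem_coe, Submodule.mem_comap]
      apply Submodule.subset_span
      exact ⟨m, by rw [hiter, hm, map_zero]⟩
    exact this hy
  -- decomposition of the trace
  let A : Bool → Submodule K E := fun c => cond c V0 Vn
  have hint : DirectSum.IsInternal A :=
    (DirectSum.isInternal_submodule_iff_isCompl A (i := true) (j := false) (by decide)
      (by ext c; cases c <;> simp)).mpr hcompl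
  have hfA : ∀ c, Set.MapsTo FK (A c) (A c) := by
    intro c
    cases c
    · exact fun y hy => hmapsn y hy
    · exact fun y hy => hmaps0 y hy
  have htr := LinearMap.trace_eq_sum_trace_restrict hint hfA
  rw [Fintype.sum_bool] at htr
  -- nilpotent part
  have hN : ∀ y ∈ Vn, (FK ^ Module.finrank K E) y = 0 := by
    intro y hy
    have : Vn ≤ LinearMap.ker (FK ^ Module.finrank K E) := by
      apply Submodule.span_le.mpr
      rintro y ⟨m, hm⟩
      have h1 : y ∈ LinearMap.ker (FK ^ m) := by
        rw [LinearMap.mem_ker, Module.End.pow_apply]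
        exact hnil y m hm
      exact Module.End.ker_pow_le_ker_pow_finrank FK m h1
    exact LinearMap.mem_ker.mp (this hy)
  have htrn : LinearMap.trace K (A false) (FK.restrict (hfA false)) = 0 := by
    have hnilp : IsNilpotent (FK.restrict (hfA false)) := by
      refine ⟨Module.finrank K E, ?_⟩
      have hpr := Module.End.pow_restrict (f' := FK) (p := A false) (Module.finrank K E)
        (fun x hx => hfA false hx)
      refine hpr.trans ?_
      ext ⟨y, hy⟩
      change (FK ^ Module.finrank K E) y = 0
      exact hN y hy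
    exact (LinearMap.isNilpotent_trace_of_isNilpotent hnilp).eq_zero
  -- fixed part
  let B : Module.Basis (Fin (Module.finrank (↥(⊥ : Subfield k)) ↥W)) K ↥V0 := Module.Basis.span hli
  have hB : ∀ i, ((B i : ↥V0) : E) = g' i := fun i =>
    congrArg Subtype.val (Module.Basis.span_apply hli i)
  have htr0 : LinearMap.trace K (A true) (FK.restrict (hfA true)) =
      algebraMap k K (algebraMap (↥(⊥ : Subfield k)) k
        (LinearMap.trace (↥(⊥ : Subfield k)) ↥W G)) := by
    change LinearMap.trace K ↥V0 (FK.restrict (hfA true)) = _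
    rw [LinearMap.trace_eq_matrix_trace K B, LinearMap.trace_eq_matrix_trace _ b G, Matrix.trace,
      Matrix.trace, map_sum, map_sum]
    refine Finset.sum_congr rfl fun i _ => ?_
    simp only [Matrix.diag_apply, LinearMap.toMatrix_apply]
    have h1 : (FK.restrict (hfA true)) (B i) =
        ∑ l, algebraMap k K ((b.repr (G (b i)) l : ↥(⊥ : Subfield k)) : k) • B l := by
      apply Subtype.ext
      change FK ((B i : ↥V0) : E) = _
      rw [hB, hFKg, Submodule.coe_sum]
      refine Finset.sum_congr rfl fun l _ => ?_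
      rw [Submodule.coe_smul, hB]
    rw [h1, Module.Basis.repr_sum_self]
    rfl
  rw [htr, htr0, htrn, add_zero]

end Core

end Groth.Agent.Lib.Helper16Lang
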