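import Mathlib
import Groth.Prelude.Def_LocCohZ
import Groth.Agent.Lib.Helper16SectSupp
import Groth.Agent.Lib.Helper16DimShiftNat
import Groth.Agent.Lib.Helper23LocSS

/-!
# Local cohomology sheaves vs cohomology with supports on opens (helper16)

Dimension shifting along the chosen injective resolution: `HZ_succ_iff`, `HZsh_succ_iff`,
`HZsh_zero_iff`, `flasque_Z`, and `HZsh_isZero_iff_HZ`.
-/

set_option autoImplicit false
set_option linter.style.haveILetI false
set_option linter.unusedSectionVars false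
universe u
open CategoryTheory CategoryTheory.Limits TopologicalSpace
open LocCohZ

namespace Groth.Agent.Lib.Helper16.LocCohShift
open Opposite Abelian
open Groth.Agent.Lib.Helper16.SectSupp Groth.Agent.Lib.Helper16.ClosedEmb
  Groth.Agent.Lib.Helper16.DimShift Groth.Agent.Lib.Helper16.Flasque Groth.Agent.Lib.Helper23LocSS

variable {X : TopCat.{u}} (U : Opens X)

/-- the common section-level condition: sections of `G'` over `V` vanishing on `V ⊓ U` lift to
sections of `G` over `V` vanishing on `V ⊓ U`. -/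
def LiftsZ {G G' : CohTop.Ab X} (g : G ⟶ G') (V : Opens X) : Prop :=
  ∀ s' : G'.obj.obj (op V), G'.obj.map (homOfLE (inf_le_left : V ⊓ U ≤ V)).op s' = 0 →
    ∃ s : G.obj.obj (op V), G.obj.map (homOfLE (inf_le_left : V ⊓ U ≤ V)).op s = 0 ∧
      g.hom.app (op V) s = s'

lemma homSurj_iff {G G' : CohTop.Ab X} (g : G ⟶ G') (V : Opens X) :
    Function.Surjective (fun ψ : zq (inf_le_left : V ⊓ U ≤ V) ⟶ G => ψ ≫ g) ↔ LiftsZ U g V := by
  set h : V ⊓ U ≤ V := inf_le_left
  constructor
  · intro hs s' hs'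
    obtain ⟨ψ, hψ⟩ := hs ((homZqEquiv G' h).symm ⟨s', hs'⟩)
    refine ⟨((homZqEquiv G h ψ : sectZ G h) : G.obj.obj (op V)), (homZqEquiv G h ψ).2, ?_⟩
    have h1 := homZqEquiv_comp G G' g h ψ
    have h2 : ψ ≫ g = (homZqEquiv G' h).symm ⟨s', hs'⟩ := hψ
    rw [h2, AddEquiv.apply_symm_apply] at h1
    exact h1.symm
  · intro hl φ
    obtain ⟨s, hs, hgs⟩ := hl ((homZqEquiv G' h φ : sectZ G' h) : G'.obj.obj (op V))
      (homZqEquiv G' h φ).2
    refine ⟨(homZqEquiv G h).symm ⟨s, hs⟩, ?_⟩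
    apply (homZqEquiv G' h).injective
    apply Subtype.ext
    change ((homZqEquiv G' h ((homZqEquiv G h).symm ⟨s, hs⟩ ≫ g) : sectZ G' h) :
      G'.obj.obj (op V)) = _
    rw [homZqEquiv_comp, AddEquiv.apply_symm_apply]
    exact hgs

lemma secSurj_iff {G G' : CohTop.Ab X} (g : G ⟶ G') (V : Opens X) :
    Function.Surjective (((LocCohZ.sectSuppF U).map g).hom.app (op V)) ↔ LiftsZ U g V := by
  have nat : ∀ t : ((LocCohZ.sectSuppF U).obj G).obj.obj (op V),
      (ιΓ U G').hom.app (op V) (((LocCohZ.sectSuppF U).map g).hom.app (op V) t) =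
        g.hom.app (op V) ((ιΓ U G).hom.app (op V) t) := fun t =>
    congrArg (fun m => m.hom.app (op V) t) (ιΓ_nat U g)
  constructor
  · intro hs s' hs'
    obtain ⟨t', ht'⟩ := (exists_sectSupp_iff U G' V s').2 hs'
    obtain ⟨t, ht⟩ := hs t'
    refine ⟨(ιΓ U G).hom.app (op V) t, (exists_sectSupp_iff U G V _).1 ⟨t, rfl⟩, ?_⟩
    rw [← nat, ht, ht']
  · intro hl t'
    obtain ⟨s, hs, hgs⟩ := hl ((ιΓ U G').hom.app (op V) t')
      ((exists_sectSupp_iff U G' V _).1 ⟨t', rfl⟩)
    obtain ⟨t, ht⟩ := (exists_sectSupp_iff U G V s).2 hs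
    refine ⟨t, ?_⟩
    apply ιΓ_injective U G' V
    rw [nat, ht, hgs]


section Res

variable (F : CohTop.Ab X)

/-- the dimension shifting data of the chosen injective resolution. -/
noncomputable abbrev DD : Data (CohTop.Ab X) := ofResolution (injectiveResolution F)

attribute [local instance] Ext.subsingleton_of_injective in
lemma HZ_succ_iff (k : ℕ) (V : Opens X) :
    Subsingleton (LocCohZ.HZ F (k + 1) (inf_le_left : V ⊓ U ≤ V)) ↔
      Function.Surjective (fun ψ : zq (inf_le_left : V ⊓ U ≤ V) ⟶ (DD F).J k => ψ ≫ (DD F).g k) := by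
  set A := zq (inf_le_left : V ⊓ U ≤ V)
  obtain ⟨e⟩ := ds.{u} A k (DD F) (fun j q => by
    haveI : Injective ((DD F).J j) := (injectiveResolution F).injective j
    infer_instance)
  have h1 : Subsingleton (LocCohZ.HZ F (k + 1) (inf_le_left : V ⊓ U ≤ V)) ↔
      Subsingleton ((DD F).Q A k) := e.toEquiv.subsingleton_congr
  rw [h1]
  constructor
  · intro hs φ
    have h2 : (QuotientAddGroup.mk φ : (DD F).Q A k) = 0 := Subsingleton.elim _ _
    rw [QuotientAddGroup.eq_zero_iff] at h2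
    obtain ⟨ψ, hψ⟩ := h2
    exact ⟨ψ, hψ⟩
  · intro hs
    refine ⟨fun a b => ?_⟩
    have h0 : ∀ c : (DD F).Q A k, c = 0 := by
      intro c
      induction c using QuotientAddGroup.induction_on with
      | H φ =>
        rw [QuotientAddGroup.eq_zero_iff]
        obtain ⟨ψ, hψ⟩ := hs φ
        exact ⟨ψ, hψ⟩
    rw [h0 a, h0 b]

lemma HZsh_succ_iff (k : ℕ) :
    IsZero ((LocCohZ.HZsh U (k + 1)).obj F) ↔ Epi ((LocCohZ.sectSuppF U).map ((DD F).g k)) := by
  haveI := sectSuppF_preservesFiniteLimits U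
  rw [Preadditive.epi_iff_isZero_cokernel]
  exact (rightDerivedSuccIso (LocCohZ.sectSuppF U) (injectiveResolution F) k).isZero_iff


lemma isZero_iff_sections (G : CohTop.Ab X) :
    IsZero G ↔ ∀ (V : Opens X) (t : G.obj.obj (op V)), t = 0 := by
  rw [IsZero.iff_id_eq_zero]
  constructor
  · intro h V t
    have := congrArg (fun m : G ⟶ G => m.hom.app (op V) t) h
    exact this
  · intro h
    apply Sheaf.hom_ext
    apply NatTrans.ext
    funext V
    ext t
    exact (h V.unop _).trans (h V.unop _).symm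

lemma isFlasque_of_isZero (G : CohTop.Ab X) (hG : IsZero G) : TopCat.Sheaf.IsFlasque G := by
  constructor
  intro V V' i
  rw [AddCommGrpCat.epi_iff_surjective]
  intro t
  exact ⟨0, by rw [map_zero]; exact ((isZero_iff_sections G).1 hG V'.unop t).symm⟩

lemma isZero_sectSupp_iff :
    IsZero ((LocCohZ.sectSuppF U).obj F) ↔
      ∀ V : Opens X, Subsingleton (LocCohZ.HZ F 0 (inf_le_left : V ⊓ U ≤ V)) := by
  rw [isZero_iff_sections]
  refine forall_congr' fun V => ?_
  rw [(LocCohZ.sect0Equiv F (inf_le_left : V ⊓ U ≤ V)).toEquiv.subsingleton_congr]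
  constructor
  · intro h
    refine ⟨fun a b => ?_⟩
    have h0 : ∀ c : LocCohZ.sectZ F (inf_le_left : V ⊓ U ≤ V), c = 0 := by
      intro c
      obtain ⟨t, ht⟩ := (exists_sectSupp_iff U F V c.1).2 c.2
      apply Subtype.ext
      rw [← ht, h t, map_zero]
      rfl
    rw [h0 a, h0 b]
  · intro h t
    apply ιΓ_injective U F V
    rw [map_zero]
    have hs := (exists_sectSupp_iff U F V _).1 ⟨t, rfl⟩
    have := congrArg Subtype.val
      (Subsingleton.elim (⟨_, hs⟩ : LocCohZ.sectZ F (inf_le_left : V ⊓ U ≤ V)) 0)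
    exact this

lemma HZsh_zero_iff :
    IsZero ((LocCohZ.HZsh U 0).obj F) ↔
      ∀ V : Opens X, Subsingleton (LocCohZ.HZ F 0 (inf_le_left : V ⊓ U ≤ V)) := by
  haveI := sectSuppF_preservesFiniteLimits U
  rw [← isZero_sectSupp_iff]
  exact ((LocCohZ.sectSuppF U).rightDerivedZeroIsoSelf.app F).isZero_iff


/-- the short complex `Γ_Z Z^k → Γ_Z J^k → Γ_Z Z^{k+1}`. -/
noncomputable def SΓ (k : ℕ) : ShortComplex (CohTop.Ab X) :=
  (ShortComplex.mk ((DD F).f k) ((DD F).g k) ((DD F).w k)).map (LocCohZ.sectSuppF U)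

lemma SΓ_shortExact (k : ℕ) (hepi : Epi ((LocCohZ.sectSuppF U).map ((DD F).g k))) :
    (SΓ U F k).ShortExact := by
  haveI := sectSuppF_preservesFiniteLimits U
  haveI := ((DD F).hS k).mono_f
  exact
    { exact := ((DD F).hS k).exact.map_of_mono_of_preservesKernel (LocCohZ.sectSuppF U)
        ((DD F).hS k).mono_f inferInstance
      mono_f := inferInstanceAs (Mono ((LocCohZ.sectSuppF U).map ((DD F).f k)))
      epi_g := hepi }

instance isFlasque_sectSupp_J (k : ℕ) :
    TopCat.Sheaf.IsFlasque ((LocCohZ.sectSuppF U).obj ((DD F).J k)) := by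
  haveI : Injective ((DD F).J k) := (injectiveResolution F).injective k
  haveI : TopCat.Sheaf.IsFlasque ((DD F).J k) := injective_isFlasque _
  exact sectSupp_flasque U _

lemma flasque_Z (n : ℕ) (h : ∀ i : ℕ, i < n → IsZero ((LocCohZ.HZsh U i).obj F)) :
    ∀ k : ℕ, k < n → TopCat.Sheaf.IsFlasque ((LocCohZ.sectSuppF U).obj ((DD F).Z k)) := by
  haveI := sectSuppF_preservesFiniteLimits U
  intro k
  induction k with
  | zero =>
    intro hk
    apply isFlasque_of_isZero
    exact (((LocCohZ.sectSuppF U).rightDerivedZeroIsoSelf.app F).isZero_iff).1 (h 0 hk)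
  | succ k ih =>
    intro hk
    have hepi := (HZsh_succ_iff U F k).1 (h (k + 1) hk)
    have hS := SΓ_shortExact U F k hepi
    haveI : TopCat.Sheaf.IsFlasque (SΓ U F k).X₁ := ih (by omega)
    haveI : TopCat.Sheaf.IsFlasque (SΓ U F k).X₂ := isFlasque_sectSupp_J U F k
    exact TopCat.Sheaf.IsFlasque.of_shortExact_of_isFlasque₁₂ hS

end Res

/-- `ℋ^i_Z(F) = 0` for `i < n` iff `H^i_{Z ∩ V}(V, F) = 0` for all opens `V` and `i < n`. -/
theorem HZsh_isZero_iff_HZ {X : TopCat.{u}} (F : CohTop.Ab X) (U : Opens X) (n : ℕ) :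
    (∀ i : ℕ, i < n → IsZero ((LocCohZ.HZsh U i).obj F)) ↔
      ∀ (V : Opens X) (i : ℕ), i < n → Subsingleton (LocCohZ.HZ F i (inf_le_left : V ⊓ U ≤ V)) := by
  constructor
  · intro h V i hi
    cases i with
    | zero => exact (HZsh_zero_iff U F).1 (h 0 hi) V
    | succ k =>
      have hepi := (HZsh_succ_iff U F k).1 (h (k + 1) hi)
      have hS := SΓ_shortExact U F k hepi
      haveI : TopCat.Sheaf.IsFlasque (SΓ U F k).X₁ := flasque_Z U F n h k (by omega)
      have h1 : Epi ((SΓ U F k).g.1.app (op V)) := TopCat.Sheaf.IsFlasque.epi_of_shortExact hS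
      rw [AddCommGrpCat.epi_iff_surjective] at h1
      exact (HZ_succ_iff U F k V).2 ((homSurj_iff U _ V).2 ((secSurj_iff U _ V).1 h1))
  · intro h i hi
    cases i with
    | zero => exact (HZsh_zero_iff U F).2 (fun V => h V 0 hi)
    | succ k =>
      rw [HZsh_succ_iff]
      haveI : ∀ V, Epi (((LocCohZ.sectSuppF U).map ((DD F).g k)).hom.app V) := by
        intro V
        rw [AddCommGrpCat.epi_iff_surjective]
        exact (secSurj_iff U _ V.unop).2 ((homSurj_iff U _ V.unop).1
          ((HZ_succ_iff U F k V.unop).1 (h V.unop (k + 1) hi)))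
      haveI : Epi ((LocCohZ.sectSuppF U).map ((DD F).g k)).hom := NatTrans.epi_of_epi_app _
      exact Sheaf.Hom.epi_of_presheaf_epi _ _ _

end Groth.Agent.Lib.Helper16.LocCohShift
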