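import Mathlib
import Groth.Prelude.Def_Conn
import Groth.Prelude.Def_W4swconnpcurvhiggsLogLam

set_option autoImplicit false
universe v u
open TensorProduct

namespace Groth.Agent.Lib.Helper24LogConn

variable {A : Type v} {B L E : Type u} [CommRing A] [CommRing B]
    [Algebra A B] [AddCommGroup L] [Module B L] [Module A L] [IsScalarTower A B L]
    [AddCommGroup E] [Module B E] [Module A E] [IsScalarTower A B E]

theorem gen_mem (nabla : E →ₗ[A] E ⊗[B] L) {n : ℕ} (ω : Module.Basis (Fin n) B L)
    (t : Fin n → B) {K J : Finset (Fin n)} (hK : K ⊆ J) (e : E) :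
    (∏ i ∈ J \ K, t i) • LogConn.compProd nabla ω K e ∈ LogConn.piece nabla ω t J := by
  unfold LogConn.piece
  refine Submodule.mem_iSup_of_mem K (Submodule.mem_iSup_of_mem (Finset.mem_powerset.mpr hK) ?_)
  exact LinearMap.mem_range.mpr ⟨e, rfl⟩

theorem piece_le (nabla : E →ₗ[A] E ⊗[B] L) {n : ℕ} (ω : Module.Basis (Fin n) B L)
    (t : Fin n → B) (J : Finset (Fin n)) (N : Submodule A E)
    (h : ∀ K, K ⊆ J → ∀ e, (∏ i ∈ J \ K, t i) • LogConn.compProd nabla ω K e ∈ N) :
    LogConn.piece nabla ω t J ≤ N := by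
  unfold LogConn.piece
  refine iSup₂_le (fun K hK => ?_)
  rintro _ ⟨e, rfl⟩
  exact h K (Finset.mem_powerset.mp hK) e

theorem prod_split {n : ℕ} (t : Fin n → B) {K J' J : Finset (Fin n)} (hK : K ⊆ J') (hJ : J' ⊆ J) :
    (∏ i ∈ J \ J', t i) * (∏ i ∈ J' \ K, t i) = ∏ i ∈ J \ K, t i := by
  have hd : Disjoint (J \ J') (J' \ K) :=
    Finset.disjoint_left.mpr (fun a ha hb => (Finset.mem_sdiff.mp ha).2 (Finset.mem_sdiff.mp hb).1)
  rw [← Finset.prod_union hd, Finset.sdiff_union_sdiff_cancel hJ hK]

theorem smul_piece_mem (nabla : E →ₗ[A] E ⊗[B] L) {n : ℕ} (ω : Module.Basis (Fin n) B L)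
    (t : Fin n → B) {J' J : Finset (Fin n)} (hJ : J' ⊆ J) {x : E}
    (hx : x ∈ LogConn.piece nabla ω t J') :
    (∏ i ∈ J \ J', t i) • x ∈ LogConn.piece nabla ω t J := by
  have h : LogConn.piece nabla ω t J' ≤ (LogConn.piece nabla ω t J).comap
      ((LinearMap.lsmul B E (∏ i ∈ J \ J', t i)).restrictScalars A) := by
    apply piece_le
    intro K hK e
    rw [Submodule.mem_comap]
    show (∏ i ∈ J \ J', t i) • ((∏ i ∈ J' \ K, t i) • LogConn.compProd nabla ω K e) ∈ _
    rw [smul_smul, prod_split t hK hJ]
    exact gen_mem nabla ω t (hK.trans hJ) e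
  exact h hx

theorem compProd_empty (nabla : E →ₗ[A] E ⊗[B] L) {n : ℕ} (ω : Module.Basis (Fin n) B L) :
    LogConn.compProd nabla ω ∅ = LinearMap.id := by
  unfold LogConn.compProd
  rw [Finset.sort_empty]
  rfl

theorem compProd_insert (nabla : E →ₗ[A] E ⊗[B] L) {n : ℕ} (ω : Module.Basis (Fin n) B L)
    (j : Fin n) (K : Finset (Fin n)) (h : ∀ x ∈ K, j < x) :
    LogConn.compProd nabla ω (insert j K) =
      LogConn.comp nabla ω j ∘ₗ LogConn.compProd nabla ω K := by
  have hj : j ∉ K := fun hjK => lt_irrefl j (h j hjK)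
  unfold LogConn.compProd
  rw [Finset.sort_insert (· ≤ ·) (fun b hb => (h b hb).le) hj, List.foldr_cons]

/-- partial derivative along the coordinate `t i` -/
noncomputable def pd {n : ℕ} (bΩ : Module.Basis (Fin n) B (KaehlerDifferential A B)) (i : Fin n) :
    Derivation A B B := (bΩ.coord i).compDer (KaehlerDifferential.D A B)

theorem pd_t {n : ℕ} (t : Fin n → B) (bΩ : Module.Basis (Fin n) B (KaehlerDifferential A B))
    (hbΩ : ∀ i, bΩ i = KaehlerDifferential.D A B (t i)) (i k : Fin n) :
    pd bΩ i (t k) = if k = i then 1 else 0 := by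
  show bΩ.coord i (KaehlerDifferential.D A B (t k)) = _
  rw [← hbΩ k, Module.Basis.coord_apply, Module.Basis.repr_self, Finsupp.single_apply]

theorem pd_prod {n : ℕ} (t : Fin n → B) (bΩ : Module.Basis (Fin n) B (KaehlerDifferential A B))
    (hbΩ : ∀ i, bΩ i = KaehlerDifferential.D A B (t i)) (i : Fin n) (S : Finset (Fin n))
    (hi : i ∉ S) : pd bΩ i (∏ k ∈ S, t k) = 0 := by
  classical
  induction S using Finset.induction_on with
  | empty => rw [Finset.prod_empty]; exact (pd bΩ i).map_one_eq_zero
  | insert a S ha ih =>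
    have hai : ¬ a = i := by rintro rfl; exact hi (Finset.mem_insert_self _ _)
    rw [Finset.prod_insert ha, Derivation.leibniz, ih (fun h => hi (Finset.mem_insert_of_mem h)),
      pd_t t bΩ hbΩ, if_neg hai, smul_zero, smul_zero, add_zero]

section Main

variable (lam : B) {n : ℕ} (t : Fin n → B)
    (bΩ : Module.Basis (Fin n) B (KaehlerDifferential A B))
    (hbΩ : ∀ i, bΩ i = KaehlerDifferential.D A B (t i))
    (ω : Module.Basis (Fin n) B L) (ι : KaehlerDifferential A B →ₗ[B] L)
    (hι : ∀ i, ι (KaehlerDifferential.D A B (t i)) = t i • ω i)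
    (nabla : E →ₗ[A] E ⊗[B] L)
    (hc : Conn.IsLamConn (ι.compDer (KaehlerDifferential.D A B)) lam nabla)

include hbΩ hι hc

theorem comp_smul (i : Fin n) (b : B) (e : E) :
    LogConn.comp nabla ω i (b • e) =
      b • LogConn.comp nabla ω i e + (lam * (pd bΩ i b * t i)) • e := by
  have hcoord : ω.coord i (ι (KaehlerDifferential.D A B b)) = pd bΩ i b * t i := by
    have h1 : ι (KaehlerDifferential.D A B b) =
        ∑ j, (bΩ.repr (KaehlerDifferential.D A B b) j * t j) • ω j := by
      conv_lhs => rw [← bΩ.sum_repr (KaehlerDifferential.D A B b)]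
      rw [map_sum]
      refine Finset.sum_congr rfl (fun j _ => ?_)
      rw [map_smul, hbΩ, hι, smul_smul]
    rw [h1, Module.Basis.coord_apply, ω.repr_sum_self]
    rfl
  unfold LogConn.comp
  rw [Conn.along_apply, Conn.along_apply, hc b e]
  simp only [map_add, map_smul, TensorProduct.map_tmul, TensorProduct.rid_tmul,
    LinearMap.id_apply]
  have hδ : (ι.compDer (KaehlerDifferential.D A B)) b = ι (KaehlerDifferential.D A B b) := rfl
  rw [hδ, hcoord, smul_smul]

theorem comp_piece (j : Fin n) (J' : Finset (Fin n)) (hj : ∀ x ∈ J', j < x) {x : E}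
    (hx : x ∈ LogConn.piece nabla ω t J') :
    LogConn.comp nabla ω j x ∈ LogConn.piece nabla ω t (insert j J') := by
  have hjJ' : j ∉ J' := fun h => lt_irrefl j (hj j h)
  have h : LogConn.piece nabla ω t J' ≤
      (LogConn.piece nabla ω t (insert j J')).comap (LogConn.comp nabla ω j) := by
    apply piece_le
    intro K hK e
    rw [Submodule.mem_comap, comp_smul lam t bΩ hbΩ ω ι hι nabla hc j (∏ i ∈ J' \ K, t i)
      (LogConn.compProd nabla ω K e),
      pd_prod t bΩ hbΩ j (J' \ K) (fun h => hjJ' (Finset.mem_sdiff.mp h).1), zero_mul, mul_zero,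
      zero_smul, add_zero]
    have hKj : ∀ x ∈ K, j < x := fun x hx => hj x (hK hx)
    have e1 : LogConn.comp nabla ω j (LogConn.compProd nabla ω K e) =
        LogConn.compProd nabla ω (insert j K) e := by
      rw [compProd_insert nabla ω j K hKj]; rfl
    have e2 : J' \ K = insert j J' \ insert j K := by
      ext x
      simp only [Finset.mem_sdiff, Finset.mem_insert]
      constructor
      · rintro ⟨h1, h2⟩
        exact ⟨Or.inr h1, fun h => h.elim (fun h3 => hjJ' (h3 ▸ h1)) h2⟩
      · rintro ⟨h1 | h1, h2⟩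
        · exact absurd (Or.inl h1) h2
        · exact ⟨h1, fun h3 => h2 (Or.inr h3)⟩
    rw [e1, e2]
    exact gen_mem nabla ω t (Finset.insert_subset_insert j hK) e
  exact h hx

theorem claimJ (J : Finset (Fin n)) : ∀ (b : B) (e : E),
    b • LogConn.compProd nabla ω J e ∈ LogConn.piece nabla ω t J := by
  classical
  induction J using Finset.induction_on_min with
  | empty =>
    intro b e
    have h := gen_mem nabla ω t (Finset.Subset.refl (∅ : Finset (Fin n))) (b • e)
    rw [Finset.sdiff_self, Finset.prod_empty, one_smul, compProd_empty] at h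
    rw [compProd_empty]
    exact h
  | insert j J' hj ih =>
    intro b e
    have hjJ' : j ∉ J' := fun h => lt_irrefl j (hj j h)
    rw [compProd_insert nabla ω j J' hj, LinearMap.comp_apply]
    obtain ⟨y, hy⟩ : ∃ y, y = LogConn.compProd nabla ω J' e := ⟨_, rfl⟩
    rw [← hy]
    have hL := comp_smul lam t bΩ hbΩ ω ι hι nabla hc j b y
    have hb : b • LogConn.comp nabla ω j y =
        LogConn.comp nabla ω j (b • y) - (lam * (pd bΩ j b * t j)) • y := by
      rw [hL]; abel
    rw [hb]
    apply Submodule.sub_mem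
    · have hby : b • y ∈ LogConn.piece nabla ω t J' := by rw [hy]; exact ih b e
      exact comp_piece lam t bΩ hbΩ ω ι hι nabla hc j J' hj hby
    · have hs : insert j J' \ J' = {j} := by
        ext x
        simp only [Finset.mem_sdiff, Finset.mem_insert, Finset.mem_singleton]
        constructor
        · rintro ⟨h1 | h1, h2⟩
          · exact h1
          · exact absurd h1 h2
        · rintro rfl
          exact ⟨Or.inl rfl, hjJ'⟩
      have h2 : (lam * (pd bΩ j b * t j)) • y =
          (∏ i ∈ insert j J' \ J', t i) • ((lam * pd bΩ j b) • y) := by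
        rw [hs, Finset.prod_singleton, smul_smul]
        congr 1
        ring
      rw [h2]
      exact smul_piece_mem nabla ω t (Finset.subset_insert j J') (by rw [hy]; exact ih _ e)

theorem s16792 (I : Finset (Fin n)) (b : B) (x : E) (hx : x ∈ LogConn.piece nabla ω t I) :
    b • x ∈ LogConn.piece nabla ω t I := by
  have h : LogConn.piece nabla ω t I ≤ (LogConn.piece nabla ω t I).comap
      ((LinearMap.lsmul B E b).restrictScalars A) := by
    apply piece_le
    intro J hJ e
    rw [Submodule.mem_comap]
    show b • ((∏ i ∈ I \ J, t i) • LogConn.compProd nabla ω J e) ∈ _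
    rw [smul_comm]
    exact smul_piece_mem nabla ω t hJ (claimJ lam t bΩ hbΩ ω ι hι nabla hc J b e)
  exact h hx

/-- the `B`-span of the explicit generators -/
noncomputable def G {m : ℕ} (e : Fin m → E) (J : Finset (Fin n)) : Submodule B E :=
  Submodule.span B (⋃ K ∈ J.powerset, Set.range (fun k : Fin m =>
    (∏ i ∈ J \ K, t i) • LogConn.compProd nabla ω K (e k)))

omit hbΩ hι hc in
theorem G_gen_mem {m : ℕ} (e : Fin m → E) {K J : Finset (Fin n)} (hK : K ⊆ J) (k : Fin m) :
    (∏ i ∈ J \ K, t i) • LogConn.compProd nabla ω K (e k) ∈ G t ω nabla e J :=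
  Submodule.subset_span (Set.mem_iUnion₂.mpr ⟨K, Finset.mem_powerset.mpr hK, ⟨k, rfl⟩⟩)

omit hbΩ hι hc in
theorem G_scale {m : ℕ} (e : Fin m → E) {J' J : Finset (Fin n)} (hJ : J' ⊆ J) {x : E}
    (hx : x ∈ G t ω nabla e J') : (∏ i ∈ J \ J', t i) • x ∈ G t ω nabla e J := by
  unfold G at hx
  induction hx using Submodule.span_induction with
  | mem x h =>
    obtain ⟨K, hK, k, rfl⟩ := Set.mem_iUnion₂.mp h
    rw [smul_smul, prod_split t (Finset.mem_powerset.mp hK) hJ]
    exact G_gen_mem t ω nabla e ((Finset.mem_powerset.mp hK).trans hJ) k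
  | zero => rw [smul_zero]; exact Submodule.zero_mem _
  | add x y _ _ ihx ihy => rw [smul_add]; exact Submodule.add_mem _ ihx ihy
  | smul b x _ ih => rw [smul_comm]; exact Submodule.smul_mem _ _ ih

theorem comp_G {m : ℕ} (e : Fin m → E) (j : Fin n) (J' : Finset (Fin n))
    (hj : ∀ x ∈ J', j < x) {x : E} (hx : x ∈ G t ω nabla e J') :
    LogConn.comp nabla ω j x ∈ G t ω nabla e (insert j J') := by
  have hjJ' : j ∉ J' := fun h => lt_irrefl j (hj j h)
  have hs : insert j J' \ J' = {j} := by
    ext x
    simp only [Finset.mem_sdiff, Finset.mem_insert, Finset.mem_singleton]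
    constructor
    · rintro ⟨h1 | h1, h2⟩
      · exact h1
      · exact absurd h1 h2
    · rintro rfl
      exact ⟨Or.inl rfl, hjJ'⟩
  have key : ∀ b : B, LogConn.comp nabla ω j (b • x) ∈ G t ω nabla e (insert j J') := by
    unfold G at hx
    induction hx using Submodule.span_induction with
    | mem x h =>
      intro b
      obtain ⟨K, hK, k, rfl⟩ := Set.mem_iUnion₂.mp h
      have hK' := Finset.mem_powerset.mp hK
      have hKj : ∀ x ∈ K, j < x := fun x hx => hj x (hK' hx)
      rw [smul_smul, comp_smul lam t bΩ hbΩ ω ι hι nabla hc j (b * ∏ i ∈ J' \ K, t i)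
        (LogConn.compProd nabla ω K (e k)), Derivation.leibniz,
        pd_prod t bΩ hbΩ j (J' \ K) (fun h => hjJ' (Finset.mem_sdiff.mp h).1), smul_zero, zero_add]
      apply Submodule.add_mem
      · have e1 : LogConn.comp nabla ω j (LogConn.compProd nabla ω K (e k)) =
            LogConn.compProd nabla ω (insert j K) (e k) := by
          rw [compProd_insert nabla ω j K hKj]; rfl
        have e2 : J' \ K = insert j J' \ insert j K := by
          ext x
          simp only [Finset.mem_sdiff, Finset.mem_insert]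
          constructor
          · rintro ⟨h1, h2⟩
            exact ⟨Or.inr h1, fun h => h.elim (fun h3 => hjJ' (h3 ▸ h1)) h2⟩
          · rintro ⟨h1 | h1, h2⟩
            · exact absurd (Or.inl h1) h2
            · exact ⟨h1, fun h3 => h2 (Or.inr h3)⟩
        rw [e1, ← smul_smul, e2]
        exact Submodule.smul_mem _ _
          (G_gen_mem t ω nabla e (Finset.insert_subset_insert j hK') k)
      · have h3 : (lam * ((∏ i ∈ J' \ K, t i) • pd bΩ j b * t j)) •
            LogConn.compProd nabla ω K (e k) =
            (lam * pd bΩ j b) • ((∏ i ∈ insert j J' \ J', t i) •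
              ((∏ i ∈ J' \ K, t i) • LogConn.compProd nabla ω K (e k))) := by
          rw [hs, Finset.prod_singleton, smul_smul, smul_smul, smul_eq_mul]
          congr 1
          ring
        rw [h3]
        exact Submodule.smul_mem _ _ (G_scale t ω nabla e (Finset.subset_insert j J')
          (G_gen_mem t ω nabla e hK' k))
    | zero =>
      intro b
      rw [smul_zero, map_zero]
      exact Submodule.zero_mem _
    | add x y _ _ ihx ihy =>
      intro b
      rw [smul_add, map_add]
      exact Submodule.add_mem _ (ihx b) (ihy b)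
    | smul b' x _ ih =>
      intro b
      rw [smul_smul]
      exact ih (b * b')
  have := key 1
  rwa [one_smul] at this

theorem compProd_mem_G {m : ℕ} (e : Fin m → E) (he : Submodule.span B (Set.range e) = ⊤)
    (J : Finset (Fin n)) : ∀ e' : E, LogConn.compProd nabla ω J e' ∈ G t ω nabla e J := by
  classical
  induction J using Finset.induction_on_min with
  | empty =>
    intro e'
    have hle : Submodule.span B (Set.range e) ≤ G t ω nabla e ∅ := by
      rw [Submodule.span_le]
      rintro _ ⟨k, rfl⟩
      have h1 := G_gen_mem t ω nabla e (Finset.Subset.refl (∅ : Finset (Fin n))) k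
      rw [Finset.sdiff_self, Finset.prod_empty, one_smul, compProd_empty] at h1
      exact h1
    rw [he] at hle
    rw [compProd_empty]
    exact hle trivial
  | insert j J' hj ih =>
    intro e'
    rw [compProd_insert nabla ω j J' hj, LinearMap.comp_apply]
    exact comp_G lam t bΩ hbΩ ω ι hι nabla hc e j J' hj (ih e')

theorem s16795 {m : ℕ} (e : Fin m → E) (he : Submodule.span B (Set.range e) = ⊤)
    (I : Finset (Fin n)) :
    (Submodule.span B (⋃ J ∈ I.powerset, Set.range (fun k : Fin m =>
        (∏ i ∈ I \ J, t i) • LogConn.compProd nabla ω J (e k)))).restrictScalars A =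
      LogConn.piece nabla ω t I := by
  apply le_antisymm
  · intro x hx
    rw [Submodule.restrictScalars_mem] at hx
    induction hx using Submodule.span_induction with
    | mem x h =>
      obtain ⟨J, hJ, k, rfl⟩ := Set.mem_iUnion₂.mp h
      exact gen_mem nabla ω t (Finset.mem_powerset.mp hJ) (e k)
    | zero => exact Submodule.zero_mem _
    | add x y _ _ ihx ihy => exact Submodule.add_mem _ ihx ihy
    | smul b x _ ih => exact s16792 lam t bΩ hbΩ ω ι hι nabla hc I b x ih
  · apply piece_le
    intro K hK e'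
    rw [Submodule.restrictScalars_mem]
    exact G_scale t ω nabla e hK (compProd_mem_G lam t bΩ hbΩ ω ι hι nabla hc e he K e')

end Main

end Groth.Agent.Lib.Helper24LogConn
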