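import Mathlib
import Groth.Prelude.Def_Conn
import Groth.Prelude.Def_LogDiff
import Groth.Prelude.Def_W4swconnpcurvhiggsLogLam
import Groth.Agent.Lib.Helper24LogConn

set_option autoImplicit false
set_option linter.style.haveILetI false
set_option linter.unusedSectionVars false
universe v u
open TensorProduct

namespace Groth.Agent.Lib.Helper16LogConn

open Set Set.powersetCard exteriorPower

section Ext

variable {B L : Type u} [CommRing B] [AddCommGroup L] [Module B L]

/-- wedging with a one-form is prepending a vector. -/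
lemma wedge_ιMulti (p : ℕ) (v : L) (w : Fin p → L) :
    Conn.wedge p ((oneEquiv B L).symm v) (ιMulti B p w) = ιMulti B (p + 1) (Fin.cons v w) := by
  apply Subtype.ext
  rw [Conn.wedge_apply_coe, oneEquiv_symm_apply, ιMulti_apply_coe, ιMulti_apply_coe,
    ιMulti_apply_coe, ExteriorAlgebra.ιMulti_succ_apply, ExteriorAlgebra.ιMulti_succ_apply,
    ExteriorAlgebra.ιMulti_zero_apply, mul_one, Fin.cons_zero]
  congr 2

/-- coordinates of `ω ∘ f` vanish along `K'` if `K'` is not contained in the range of `f`. -/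
lemma coord_ιMulti_eq_zero {n : ℕ} (ω : Module.Basis (Fin n) B L) (q : ℕ) (f : Fin q → Fin n)
    (K' : powersetCard (Fin n) q) (k : Fin n) (hk : k ∈ K') (hkf : ∀ a, f a ≠ k) :
    (ω.exteriorPower q).coord K' (ιMulti B q (ω ∘ f)) = 0 := by
  rw [basis_coord, ιMultiDual_apply_ιMulti]
  obtain ⟨c, rfl⟩ := (mem_range_ofFinEmbEquiv_symm_iff_mem K' k).mpr hk
  apply Matrix.det_eq_zero_of_column_eq_zero c
  intro a
  simp only [Matrix.of_apply, Module.Basis.coord_apply, Function.comp_apply,
    Module.Basis.repr_self]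
  exact Finsupp.single_eq_of_ne (Ne.symm (hkf a))

lemma cons_comp {n : ℕ} (ω : Module.Basis (Fin n) B L) (p : ℕ) (i : Fin n) (f : Fin p → Fin n) :
    (Fin.cons (ω i) (ω ∘ f) : Fin (p + 1) → L) = ω ∘ (Fin.cons i f : Fin (p + 1) → Fin n) := by
  funext a
  refine Fin.cases ?_ (fun b => ?_) a
  · simp
  · simp

lemma coord_cons_eq_zero {n : ℕ} (ω : Module.Basis (Fin n) B L) (p : ℕ) (i : Fin n)
    (K : powersetCard (Fin n) p) (K' : powersetCard (Fin n) (p + 1))
    (h : (K' : Finset (Fin n)) ≠ insert i (K : Finset (Fin n))) :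
    (ω.exteriorPower (p + 1)).coord K'
      (ιMulti B (p + 1) (ω ∘ (Fin.cons i (ofFinEmbEquiv.symm K) : Fin (p + 1) → Fin n))) = 0 := by
  -- find k ∈ K' not in insert i K
  have hex : ∃ k ∈ (K' : Finset (Fin n)), k ∉ insert i (K : Finset (Fin n)) := by
    by_contra hcon
    push Not at hcon
    have hsub : (K' : Finset (Fin n)) ⊆ insert i (K : Finset (Fin n)) := hcon
    apply h
    apply Finset.eq_of_subset_of_card_le hsub
    rw [powersetCard.card_eq K']
    calc (insert i (K : Finset (Fin n))).card ≤ (K : Finset (Fin n)).card + 1 :=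
          Finset.card_insert_le _ _
      _ = p + 1 := by rw [powersetCard.card_eq K]
  obtain ⟨k, hk, hkn⟩ := hex
  apply coord_ιMulti_eq_zero ω (p + 1) _ K' k (mem_coe_iff.mp hk)
  intro a
  refine Fin.cases ?_ (fun b => ?_) a
  · simp only [Fin.cons_zero]
    intro h1
    exact hkn (h1 ▸ Finset.mem_insert_self _ _)
  · simp only [Fin.cons_succ]
    intro h1
    apply hkn
    apply Finset.mem_insert_of_mem
    rw [mem_coe_iff, ← mem_range_ofFinEmbEquiv_symm_iff_mem]
    exact ⟨b, h1⟩

lemma notMem_of_eq_insert {n : ℕ} (p : ℕ) (i : Fin n)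
    (K : powersetCard (Fin n) p) (K' : powersetCard (Fin n) (p + 1))
    (h : (K' : Finset (Fin n)) = insert i (K : Finset (Fin n))) : i ∉ (K : Finset (Fin n)) := by
  intro hi
  rw [Finset.insert_eq_of_mem hi] at h
  have h1 := powersetCard.card_eq K'
  rw [h, powersetCard.card_eq K] at h1
  omega

end Ext

section Tens

variable {A : Type v} {B L E : Type u} [CommRing A] [CommRing B]
    [Algebra A B] [AddCommGroup L] [Module B L] [Module A L] [IsScalarTower A B L]
    [AddCommGroup E] [Module B E] [Module A E] [IsScalarTower A B E]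

/-- decomposition along a finite basis of the right factor -/
lemma tensor_decomp {κ : Type*} [Fintype κ] {P : Type u} [AddCommGroup P]
    [Module B P] (b : Module.Basis κ B P) (x : E ⊗[B] P) :
    x = ∑ K, (TensorProduct.rid B E (TensorProduct.map LinearMap.id (b.coord K) x)) ⊗ₜ[B] b K := by
  classical
  induction x using TensorProduct.induction_on with
  | zero => simp
  | tmul m η =>
    simp only [TensorProduct.map_tmul, LinearMap.id_apply, TensorProduct.rid_tmul,
      Module.Basis.coord_apply]
    conv_lhs => rw [← b.sum_repr η, TensorProduct.tmul_sum]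
    refine Finset.sum_congr rfl fun K _ => ?_
    rw [TensorProduct.smul_tmul]
  | add x y hx hy =>
    conv_lhs => rw [hx, hy]
    rw [← Finset.sum_add_distrib]
    refine Finset.sum_congr rfl fun K _ => ?_
    rw [map_add, map_add, TensorProduct.add_tmul]

variable (lam : B) {n : ℕ} (t : Fin n → B)
    (ω : Module.Basis (Fin n) B L) (ι : KaehlerDifferential A B →ₗ[B] L)
    (nabla : E →ₗ[A] E ⊗[B] L)
    (d : ∀ p : ℕ, ↥(⋀[B]^p L) →ₗ[A] ↥(⋀[B]^(p + 1) L))
    (hd : LogDiff.IsLogRule (KaehlerDifferential.D A B) ι (⇑ω) d)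
    (nablas : ∀ p : ℕ, E ⊗[B] ↥(⋀[B]^p L) →ₗ[A] E ⊗[B] ↥(⋀[B]^(p + 1) L))
    (hint : Conn.IsIntegrable nabla (fun p => lam • d p) nablas)

lemma nabla_decomp (m : E) :
    nabla m = ∑ i, LogConn.comp nabla ω i m ⊗ₜ[B] ω i := by
  have := tensor_decomp (E := E) ω (nabla m)
  exact this

include hd in
lemma d_ιMulti_eq_zero (p : ℕ) (f : Fin p → Fin n) : d p (ιMulti B p (ω ∘ f)) = 0 := by
  have h := hd p 1 (ω ∘ f) (fun k => Or.inr ⟨f k, rfl⟩)
  rw [one_smul] at h
  rw [h]
  apply AlternatingMap.map_coord_zero _ 0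
  simp

include hd hint in
lemma nablas_ιMulti (p : ℕ) (f : Fin p → Fin n) (m : E) :
    nablas p (m ⊗ₜ[B] ιMulti B p (ω ∘ f)) =
      ∑ i, LogConn.comp nabla ω i m ⊗ₜ[B]
        ιMulti B (p + 1) (ω ∘ (Fin.cons i f : Fin (p + 1) → Fin n)) := by
  rw [hint.1 p m, LinearMap.smul_apply, d_ιMulti_eq_zero ω ι d hd, smul_zero,
    TensorProduct.tmul_zero, add_zero, nabla_decomp ω nabla m, map_sum, map_sum,
    LinearMap.sum_apply]
  refine Finset.sum_congr rfl fun i _ => ?_
  rw [Conn.toOne_tmul, Conn.twedge_tmul, wedge_ιMulti, cons_comp]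


/-- the functional on `Λ² L` reading the `(a,b)` coefficient -/
noncomputable def psi (a b : Fin n) : Module.Dual B ↥(⋀[B]^2 L) :=
  pairingDual B L 2 (ιMulti B 2 ![ω.coord a, ω.coord b])

lemma psi_ιMulti (a b i j : Fin n) :
    psi ω a b (ιMulti B 2 (ω ∘ (Fin.cons i (fun _ : Fin 1 => j) : Fin 2 → Fin n))) =
      (if i = a then 1 else 0) * (if j = b then 1 else 0) -
        (if i = b then 1 else 0) * (if j = a then 1 else 0) := by
  unfold psi
  rw [pairingDual_ιMulti_ιMulti, Matrix.det_fin_two]
  simp [Module.Basis.coord_apply, Module.Basis.repr_self, Finsupp.single_apply]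

include hd hint in
/-- the components of an integrable log connection commute -/
lemma comp_comm (a b : Fin n) (m : E) :
    LogConn.comp nabla ω a (LogConn.comp nabla ω b m) =
      LogConn.comp nabla ω b (LogConn.comp nabla ω a m) := by
  have h0 := hint.2 m
  rw [nabla_decomp ω nabla m, map_sum, map_sum] at h0
  have h1 : ∀ j, nablas 1 (Conn.toOne (LogConn.comp nabla ω j m ⊗ₜ[B] ω j)) =
      ∑ i, LogConn.comp nabla ω i (LogConn.comp nabla ω j m) ⊗ₜ[B]
        ιMulti B 2 (ω ∘ (Fin.cons i (fun _ : Fin 1 => j) : Fin 2 → Fin n)) := by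
    intro j
    rw [Conn.toOne_tmul, oneEquiv_symm_apply]
    exact nablas_ιMulti lam ω ι nabla d hd nablas hint 1 (fun _ => j) _
  simp only [h1] at h0
  have h2 := congrArg (fun y => TensorProduct.rid B E
    (TensorProduct.map LinearMap.id (psi ω a b) y)) h0
  simp only [map_sum, TensorProduct.map_tmul, LinearMap.id_apply, TensorProduct.rid_tmul,
    psi_ιMulti, map_zero] at h2
  simp only [sub_smul, Finset.sum_sub_distrib, ite_mul, one_mul, zero_mul, ite_smul, one_smul,
    zero_smul, Finset.sum_ite_eq', Finset.mem_univ, if_true] at h2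
  exact sub_eq_zero.mp h2

open Groth.Agent.Lib.Helper24LogConn in
include hd hint in
/-- with commuting components, the ordered composite over `insert i K` peels off `∇_i`. -/
lemma compProd_insert' (i : Fin n) (K : Finset (Fin n)) (hi : i ∉ K) :
    LogConn.compProd nabla ω (insert i K) =
      LogConn.comp nabla ω i ∘ₗ LogConn.compProd nabla ω K := by
  classical
  induction K using Finset.induction_on_min with
  | empty => exact compProd_insert nabla ω i ∅ (by simp)
  | insert j K' hj ih =>
    have hij : i ≠ j := fun h => hi (h ▸ Finset.mem_insert_self _ _)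
    have hiK' : i ∉ K' := fun h => hi (Finset.mem_insert_of_mem h)
    rcases lt_or_gt_of_ne hij with h | h
    · apply compProd_insert
      intro x hx
      rcases Finset.mem_insert.mp hx with rfl | hx
      · exact h
      · exact h.trans (hj x hx)
    · rw [Finset.insert_comm, compProd_insert nabla ω j (insert i K') (by
        intro x hx
        rcases Finset.mem_insert.mp hx with rfl | hx
        · exact h
        · exact hj x hx), ih hiK', compProd_insert nabla ω j K' hj]
      ext m
      simp only [LinearMap.comp_apply]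
      exact comp_comm lam ω ι nabla d hd nablas hint j i _

variable (bΩ : Module.Basis (Fin n) B (KaehlerDifferential A B))
    (hbΩ : ∀ i, bΩ i = KaehlerDifferential.D A B (t i))
    (hι : ∀ i, ι (KaehlerDifferential.D A B (t i)) = t i • ω i)
    (hc : Conn.IsLamConn (ι.compDer (KaehlerDifferential.D A B)) lam nabla)

open Groth.Agent.Lib.Helper24LogConn in
include hd hint hbΩ hι hc in
theorem comp_piece' (j : Fin n) (J' : Finset (Fin n)) (hjJ' : j ∉ J') {x : E}
    (hx : x ∈ LogConn.piece nabla ω t J') :
    LogConn.comp nabla ω j x ∈ LogConn.piece nabla ω t (insert j J') := by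
  have h : LogConn.piece nabla ω t J' ≤
      (LogConn.piece nabla ω t (insert j J')).comap (LogConn.comp nabla ω j) := by
    apply piece_le
    intro K hK e
    rw [Submodule.mem_comap, comp_smul lam t bΩ hbΩ ω ι hι nabla hc j (∏ i ∈ J' \ K, t i)
      (LogConn.compProd nabla ω K e),
      pd_prod t bΩ hbΩ j (J' \ K) (fun h => hjJ' (Finset.mem_sdiff.mp h).1), zero_mul, mul_zero,
      zero_smul, add_zero]
    have hjK : j ∉ K := fun h => hjJ' (hK h)
    have e1 : LogConn.comp nabla ω j (LogConn.compProd nabla ω K e) =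
        LogConn.compProd nabla ω (insert j K) e := by
      rw [compProd_insert' lam ω ι nabla d hd nablas hint j K hjK]; rfl
    have e2 : J' \ K = insert j J' \ insert j K := by
      ext x
      simp only [Finset.mem_sdiff, Finset.mem_insert]
      constructor
      · rintro ⟨h1, h2⟩
        exact ⟨Or.inr h1, fun h => h.elim (fun h3 => hjJ' (h3 ▸ h1)) h2⟩
      · rintro ⟨h1 | h1, h2⟩
        · exact absurd (Or.inl h1) h2
        · exact ⟨h1, fun h3 => h2 (Or.inr h3)⟩
    rw [e1, e2]
    exact gen_mem nabla ω t (Finset.insert_subset_insert j hK) e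
  exact h hx

lemma coordE_tmul (p : ℕ) (K : powersetCard (Fin n) p) (m : E) (η : ↥(⋀[B]^p L)) :
    LogConn.coordE (E := E) ω p K (m ⊗ₜ[B] η) = (ω.exteriorPower p).coord K η • m := by
  simp [LogConn.coordE]

open Groth.Agent.Lib.Helper24LogConn in
include hd hint hbΩ hι hc in
/-- **S16797**: the extended connection maps each layer into the next one. -/
theorem nablas_mem_layer (p : ℕ) (x : E ⊗[B] ↥(⋀[B]^p L))
    (hx : x ∈ LogConn.layer nabla ω t p) :
    nablas p x ∈ LogConn.layer nabla ω t (p + 1) := by
  unfold LogConn.layer at hx ⊢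
  rw [Submodule.mem_iInf] at hx ⊢
  intro K'
  rw [Submodule.mem_comap]
  have hdec := tensor_decomp (E := E) (ω.exteriorPower p) x
  rw [hdec, map_sum, map_sum]
  apply Submodule.sum_mem
  intro K _
  have hK : LogConn.coordE (E := E) ω p K x ∈ LogConn.piece nabla ω t K := hx K
  have hK' : TensorProduct.rid B E (TensorProduct.map LinearMap.id ((ω.exteriorPower p).coord K) x)
      = LogConn.coordE (E := E) ω p K x := rfl
  rw [hK', basis_apply, ιMulti_family,
    nablas_ιMulti lam ω ι nabla d hd nablas hint p _ _, map_sum]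
  apply Submodule.sum_mem
  intro i _
  rw [LinearMap.restrictScalars_apply, coordE_tmul]
  by_cases h : (K' : Finset (Fin n)) = insert i (K : Finset (Fin n))
  · have hi := notMem_of_eq_insert p i K K' h
    apply s16792 lam t bΩ hbΩ ω ι hι nabla hc
    rw [h]
    exact comp_piece' lam t ω ι nabla d hd nablas hint bΩ hbΩ hι hc i _ hi hK
  · rw [coord_cons_eq_zero ω p i K K' h, zero_smul]
    exact Submodule.zero_mem _

end Tens

end Groth.Agent.Lib.Helper16LogConn
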