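import Mathlib
import Groth.Prelude.Def_Conn
import Groth.Prelude.Def_LogDiff
import Groth.Prelude.Def_W4swconnpcurvhiggsLogLam
import Groth.Agent.Lib.Helper24LogConn
import Groth.Agent.Lib.Helper16LogConn

set_option autoImplicit false
set_option linter.style.haveILetI false
set_option linter.unusedSectionVars false
universe v u
open TensorProduct

namespace Groth.Agent.Lib.Helper16LogConn2

open Set Set.powersetCard exteriorPower
open Groth.Agent.Lib.Helper24LogConn Groth.Agent.Lib.Helper16LogConn

section Gens

variable {A : Type v} {B L E : Type u} [CommRing A] [CommRing B]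
    [Algebra A B] [AddCommGroup L] [Module B L] [Module A L] [IsScalarTower A B L]
    [AddCommGroup E] [Module B E] [Module A E] [IsScalarTower A B E]

variable (lam : B) {n : ℕ} (t : Fin n → B)
    (bΩ : Module.Basis (Fin n) B (KaehlerDifferential A B))
    (hbΩ : ∀ i, bΩ i = KaehlerDifferential.D A B (t i))
    (ω : Module.Basis (Fin n) B L) (ι : KaehlerDifferential A B →ₗ[B] L)
    (hι : ∀ i, ι (KaehlerDifferential.D A B (t i)) = t i • ω i)
    (nabla : E →ₗ[A] E ⊗[B] L)
    (hc : Conn.IsLamConn (ι.compDer (KaehlerDifferential.D A B)) lam nabla)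

include hbΩ hι in
lemma coord_ι (η : KaehlerDifferential A B) (j : Fin n) :
    ω.coord j (ι η) = bΩ.repr η j * t j := by
  have h1 : ι η = ∑ j, (bΩ.repr η j * t j) • ω j := by
    conv_lhs => rw [← bΩ.sum_repr η]
    rw [map_sum]
    refine Finset.sum_congr rfl (fun j _ => ?_)
    rw [map_smul, hbΩ, hι, smul_smul]
  rw [h1, Module.Basis.coord_apply, ω.repr_sum_self]

/-- product over the enumeration of `K` -/
lemma prod_enum (p : ℕ) (K : powersetCard (Fin n) p) (F : Fin n → B) :
    ∏ c : Fin p, F (ofFinEmbEquiv.symm K c) = ∏ j ∈ (K : Finset (Fin n)), F j := by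
  rw [ofFinEmbEquiv_symm_apply]
  have := Finset.prod_coe_sort (K : Finset (Fin n)) F
  rw [← this]
  exact Fintype.prod_equiv ((K : Finset (Fin n)).orderIsoOfFin K.prop).toEquiv _ _ (fun c => rfl)

include hbΩ hι hc in
/-- generators lie in the layer -/
lemma gens_subset_layer (p : ℕ) : LogConn.gens nabla ω ι p ⊆ LogConn.layer nabla ω t p := by
  classical
  rintro x ⟨I, hIp, e, v, hv1, hv2, rfl⟩
  unfold LogConn.layer
  rw [SetLike.mem_coe, Submodule.mem_iInf]
  intro K
  rw [Submodule.mem_comap, LinearMap.restrictScalars_apply, coordE_tmul, basis_coord,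
    ιMultiDual_apply_ιMulti]
  by_cases hIK : I ⊆ (K : Finset (Fin n))
  · -- factor the determinant
    choose! η hη using hv2
    set enumK := (ofFinEmbEquiv.symm K : Fin p ↪o Fin n) with henumK
    set u : Fin p → B := fun c => if enumK c ∈ I then 1 else t (enumK c) with hu
    set M' : Matrix (Fin p) (Fin p) B := Matrix.of fun a c =>
      if enumK c ∈ I then ω.coord (enumK c) (v a) else
        (if I.card ≤ a.val then bΩ.repr (η a) (enumK c) else 0) with hM'
    have hM : (Matrix.of fun a c => ω.coord (enumK c) (v a)) =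
        Matrix.of fun a c => u c * M' a c := by
      ext a c
      simp only [Matrix.of_apply, hu, hM']
      by_cases hc1 : enumK c ∈ I
      · rw [if_pos hc1, if_pos hc1, one_mul]
      · rw [if_neg hc1, if_neg hc1]
        by_cases ha : I.card ≤ a.val
        · rw [if_pos ha, ← hη a ha, coord_ι t bΩ hbΩ ω ι hι, mul_comm]
        · rw [if_neg ha, mul_zero, hv1 a (not_le.mp ha), Module.Basis.coord_apply,
            Module.Basis.repr_self]
          apply Finsupp.single_eq_of_ne
          intro h
          apply hc1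
          rw [h]
          exact Finset.orderEmbOfFin_mem I rfl _
    rw [hM, Matrix.det_mul_row]
    have hprod : ∏ c, u c = ∏ j ∈ (K : Finset (Fin n)) \ I, t j := by
      rw [hu, henumK, prod_enum p K (fun j => if j ∈ I then 1 else t j),
        Finset.prod_ite, Finset.prod_const_one, one_mul]
      apply Finset.prod_congr _ (fun _ _ => rfl)
      ext j
      simp [Finset.mem_sdiff]
    rw [hprod, mul_comm, mul_smul]
    apply s16792 lam t bΩ hbΩ ω ι hι nabla hc
    exact gen_mem nabla ω t hIK e
  · -- a zero row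
    obtain ⟨j, hjI, hjK⟩ := Finset.not_subset.mp hIK
    have hr : j ∈ Set.range (I.orderEmbOfFin rfl) := by
      rw [Finset.range_orderEmbOfFin]; exact hjI
    obtain ⟨a, ha⟩ := hr
    have hap : a.val < p := lt_of_lt_of_le a.isLt hIp
    rw [Matrix.det_eq_zero_of_row_eq_zero (⟨a.val, hap⟩ : Fin p), zero_smul]
    · exact Submodule.zero_mem _
    · intro c
      simp only [Matrix.of_apply]
      rw [hv1 ⟨a.val, hap⟩ a.isLt, Module.Basis.coord_apply, Module.Basis.repr_self]
      apply Finsupp.single_eq_of_ne
      intro h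
      apply hjK
      rw [← ha]
      have : (ofFinEmbEquiv.symm K) c ∈ K := by
        rw [← mem_range_ofFinEmbEquiv_symm_iff_mem]; exact ⟨c, rfl⟩
      rw [mem_coe_iff]
      convert this using 1
      exact h.symm

/-- product over the enumeration of a finset -/
lemma prod_enum' (q : ℕ) (s : Finset (Fin n)) (hs : s.card = q) (F : Fin n → B) :
    ∏ c : Fin q, F (s.orderEmbOfFin hs c) = ∏ j ∈ s, F j := by
  have := Finset.prod_coe_sort s F
  rw [← this]
  exact Fintype.prod_equiv (s.orderIsoOfFin hs).toEquiv _ _ (fun c => rfl)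

include hι in
/-- the basic elements `t_{K∖J} ∇_J(e) ⊗ ω_K` lie in the span of the generators -/
lemma smul_tmul_basis_mem (p : ℕ) (K : powersetCard (Fin n) p) (J : Finset (Fin n))
    (hJ : J ⊆ (K : Finset (Fin n))) (e : E) :
    ((∏ i ∈ (K : Finset (Fin n)) \ J, t i) • LogConn.compProd nabla ω J e) ⊗ₜ[B]
      (ω.exteriorPower p K) ∈ Submodule.span B (LogConn.gens nabla ω ι p) := by
  classical
  obtain ⟨q, hq⟩ : ∃ q, ((K : Finset (Fin n)) \ J).card = q := ⟨_, rfl⟩
  have hlq : J.card + q = p := by
    have := Finset.card_sdiff_add_card_eq_card hJ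
    rw [powersetCard.card_eq K] at this
    omega
  set eJ := J.orderEmbOfFin rfl with heJ
  set eQ := ((K : Finset (Fin n)) \ J).orderEmbOfFin hq with heQ
  set φ : Fin p ≃ Fin J.card ⊕ Fin q := (finCongr hlq.symm).trans finSumFinEquiv.symm with hφ
  set g : Fin p → Fin n := fun k => Sum.elim eJ eQ (φ k) with hg
  set c : Fin p → B := fun k => Sum.elim (fun _ => (1 : B)) (fun b => t (eQ b)) (φ k) with hcdef
  set v : Fin p → L := fun k => c k • ω (g k) with hv
  have hφl : ∀ (k : Fin p) (hk : k.val < J.card), φ k = Sum.inl ⟨k.val, hk⟩ := by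
    intro k hk
    have : (finCongr hlq.symm) k = Fin.castAdd q ⟨k.val, hk⟩ := Fin.ext rfl
    simp only [hφ, Equiv.trans_apply, this, finSumFinEquiv_symm_apply_castAdd]
  have hφr : ∀ (k : Fin p) (hk : J.card ≤ k.val),
      φ k = Sum.inr ⟨k.val - J.card, by have := k.isLt; omega⟩ := by
    intro k hk
    have : (finCongr hlq.symm) k = Fin.natAdd J.card ⟨k.val - J.card, by have := k.isLt; omega⟩ := by
      apply Fin.ext
      simp only [finCongr_apply, Fin.val_cast, Fin.val_natAdd]
      omega
    simp only [hφ, Equiv.trans_apply, this, finSumFinEquiv_symm_apply_natAdd]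
  have hgen : LogConn.compProd nabla ω J e ⊗ₜ[B] ιMulti B p v ∈ LogConn.gens nabla ω ι p := by
    refine ⟨J, by omega, e, v, ?_, ?_, rfl⟩
    · intro k hk
      simp only [hv, hcdef, hg, hφl k hk, Sum.elim_inl, one_smul]
      rfl
    · intro k hk
      simp only [hv, hcdef, hg, hφr k hk, Sum.elim_inr]
      exact ⟨_, hι _⟩
  -- the multiplier
  have hprod : ∏ k, c k = ∏ i ∈ (K : Finset (Fin n)) \ J, t i := by
    rw [hcdef, Fintype.prod_equiv φ _ (Sum.elim (fun _ => (1 : B)) (fun b => t (eQ b)))
      (fun k => rfl), Fintype.prod_sum_type]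
    simp only [Sum.elim_inl, Sum.elim_inr, Finset.prod_const_one, one_mul]
    exact prod_enum' q _ hq t
  have hmulti : ιMulti B p v = (∏ k, c k) • ιMulti B p (ω ∘ g) :=
    (ιMulti B p).toMultilinearMap.map_smul_univ c (ω ∘ g)
  -- g is injective with values in K
  have hginj : Function.Injective g := by
    have h1 : Function.Injective (Sum.elim eJ eQ) := by
      apply Function.Injective.sumElim eJ.injective eQ.injective
      intro a b hab
      have h2 : eQ b ∈ (K : Finset (Fin n)) \ J := Finset.orderEmbOfFin_mem _ hq b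
      have h3 : eJ a ∈ J := Finset.orderEmbOfFin_mem _ rfl a
      rw [hab] at h3
      exact (Finset.mem_sdiff.mp h2).2 h3
    exact h1.comp φ.injective
  have hgK : ∀ k, g k ∈ K := by
    intro k
    simp only [hg]
    rcases φ k with a | b
    · exact mem_coe_iff.mp (hJ (Finset.orderEmbOfFin_mem _ rfl a))
    · exact mem_coe_iff.mp (Finset.mem_sdiff.mp (Finset.orderEmbOfFin_mem _ hq b)).1
  have hex : ∀ k, ∃ c', (ofFinEmbEquiv.symm K : Fin p ↪o Fin n) c' = g k := fun k =>
    (mem_range_ofFinEmbEquiv_symm_iff_mem K (g k)).mpr (hgK k)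
  choose σf hσf using hex
  have hσinj : Function.Injective σf := by
    intro k k' h
    apply hginj
    rw [← hσf k, ← hσf k', h]
  set σ : Equiv.Perm (Fin p) := Equiv.ofBijective σf (Finite.injective_iff_bijective.mp hσinj)
    with hσ
  have key : ιMulti B p (ω ∘ g) = Equiv.Perm.sign σ • (ω.exteriorPower p K) := by
    rw [basis_apply, ιMulti_family, ← AlternatingMap.map_perm]
    congr 1
    funext k
    simp only [Function.comp_apply, hσ, Equiv.ofBijective_apply, hσf k]
  have hfin : ((∏ i ∈ (K : Finset (Fin n)) \ J, t i) • LogConn.compProd nabla ω J e) ⊗ₜ[B]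
      (ω.exteriorPower p K) =
      ((Equiv.Perm.sign σ : ℤˣ) : ℤ) • (LogConn.compProd nabla ω J e ⊗ₜ[B] ιMulti B p v) := by
    rw [hmulti, key, hprod, Units.smul_def, TensorProduct.tmul_smul, TensorProduct.tmul_smul,
      ← TensorProduct.smul_tmul', smul_comm, smul_smul]
    have : ((Equiv.Perm.sign σ : ℤˣ) : ℤ) * ((Equiv.Perm.sign σ : ℤˣ) : ℤ) = 1 := by
      rw [← Units.val_mul, Int.units_mul_self]; rfl
    rw [this, one_smul]
  rw [hfin]
  exact zsmul_mem (Submodule.subset_span hgen) _

include hbΩ hι hc in
/-- **S16796**: the `B`-span of the generators is the layer. -/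
theorem span_gens_eq_layer (p : ℕ) :
    (Submodule.span B (LogConn.gens nabla ω ι p)).restrictScalars A =
      LogConn.layer nabla ω t p := by
  classical
  apply le_antisymm
  · intro x hx
    rw [Submodule.restrictScalars_mem] at hx
    induction hx using Submodule.span_induction with
    | mem x hx => exact gens_subset_layer lam t bΩ hbΩ ω ι hι nabla hc p hx
    | zero => exact Submodule.zero_mem _
    | add x y _ _ hx hy => exact Submodule.add_mem _ hx hy
    | smul b x _ hx =>
      unfold LogConn.layer at hx ⊢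
      rw [Submodule.mem_iInf] at hx ⊢
      intro K
      have := hx K
      rw [Submodule.mem_comap, LinearMap.restrictScalars_apply] at this ⊢
      rw [map_smul]
      exact s16792 lam t bΩ hbΩ ω ι hι nabla hc _ b _ this
  · intro x hx
    rw [Submodule.restrictScalars_mem]
    unfold LogConn.layer at hx
    rw [Submodule.mem_iInf] at hx
    rw [tensor_decomp (E := E) (ω.exteriorPower p) x]
    apply Submodule.sum_mem
    intro K _
    have hK : LogConn.coordE (E := E) ω p K x ∈ LogConn.piece nabla ω t K := hx K
    have hK' : TensorProduct.rid B E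
        (TensorProduct.map LinearMap.id ((ω.exteriorPower p).coord K) x)
        = LogConn.coordE (E := E) ω p K x := rfl
    rw [hK']
    -- piece K ≤ comap
    let ψ : E →ₗ[A] E ⊗[B] ↥(⋀[B]^p L) :=
      ((TensorProduct.mk B E ↥(⋀[B]^p L)).flip (ω.exteriorPower p K)).restrictScalars A
    have hle : LogConn.piece nabla ω t (K : Finset (Fin n)) ≤
        ((Submodule.span B (LogConn.gens nabla ω ι p)).restrictScalars A).comap ψ := by
      apply piece_le
      intro J hJ e
      rw [Submodule.mem_comap, Submodule.restrictScalars_mem]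
      exact smul_tmul_basis_mem t ω ι hι nabla p K J hJ e
    exact hle hK

end Gens

end Groth.Agent.Lib.Helper16LogConn2
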