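import Mathlib
import Groth.Prelude.Def_Conn
import Groth.Prelude.Def_LogDiff
import Groth.Prelude.Def_W4swconnpcurvhiggsLogLam
import Groth.Agent.Lib.Helper24LogConn
import Groth.Agent.Lib.Helper16LogConn
import Groth.Agent.Lib.Helper16LogConn2

set_option autoImplicit false
set_option linter.style.haveILetI false
set_option linter.unusedSectionVars false
universe v u
open TensorProduct

namespace Groth.Agent.Lib.Helper16LogConn3

open Set Set.powersetCard exteriorPower
open Groth.Agent.Lib.Helper24LogConn Groth.Agent.Lib.Helper16LogConn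
  Groth.Agent.Lib.Helper16LogConn2

section One

variable {A : Type v} {B L E : Type u} [CommRing A] [CommRing B]
    [Algebra A B] [AddCommGroup L] [Module B L] [Module A L] [IsScalarTower A B L]
    [AddCommGroup E] [Module B E] [Module A E] [IsScalarTower A B E]

variable (lam : B) {n : ℕ} (t : Fin n → B)
    (bΩ : Module.Basis (Fin n) B (KaehlerDifferential A B))
    (hbΩ : ∀ i, bΩ i = KaehlerDifferential.D A B (t i))
    (ω : Module.Basis (Fin n) B L) (ι : KaehlerDifferential A B →ₗ[B] L)
    (hι : ∀ i, ι (KaehlerDifferential.D A B (t i)) = t i • ω i)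
    (nabla : E →ₗ[A] E ⊗[B] L)
    (hc : Conn.IsLamConn (ι.compDer (KaehlerDifferential.D A B)) lam nabla)
    (hcomm : ∀ (a b : Fin n) (m : E), LogConn.comp nabla ω a (LogConn.comp nabla ω b m) =
      LogConn.comp nabla ω b (LogConn.comp nabla ω a m))

include hcomm in
lemma compProd_insert2 (i : Fin n) (K : Finset (Fin n)) (hi : i ∉ K) :
    LogConn.compProd nabla ω (insert i K) =
      LogConn.comp nabla ω i ∘ₗ LogConn.compProd nabla ω K := by
  classical
  induction K using Finset.induction_on_min with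
  | empty => exact compProd_insert nabla ω i ∅ (by simp)
  | insert j K' hj ih =>
    have hij : i ≠ j := fun h => hi (h ▸ Finset.mem_insert_self _ _)
    have hiK' : i ∉ K' := fun h => hi (Finset.mem_insert_of_mem h)
    rcases lt_or_gt_of_ne hij with h | h
    · apply compProd_insert
      intro x hx
      rcases Finset.mem_insert.mp hx with rfl | hx
      · exact h
      · exact h.trans (hj x hx)
    · rw [Finset.insert_comm, compProd_insert nabla ω j (insert i K') (by
        intro x hx
        rcases Finset.mem_insert.mp hx with rfl | hx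
        · exact h
        · exact hj x hx), ih hiK', compProd_insert nabla ω j K' hj]
      ext m
      simp only [LinearMap.comp_apply]
      exact hcomm j i _

include hcomm in
lemma comp_compProd_comm (i : Fin n) (J : Finset (Fin n)) (e : E) :
    LogConn.comp nabla ω i (LogConn.compProd nabla ω J e) =
      LogConn.compProd nabla ω J (LogConn.comp nabla ω i e) := by
  classical
  induction J using Finset.induction_on_min generalizing e with
  | empty => rw [compProd_empty]; rfl
  | insert j J' hj ih =>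
    rw [compProd_insert nabla ω j J' hj, LinearMap.comp_apply, LinearMap.comp_apply, hcomm, ih]

include hcomm in
lemma compProd_union (J₁ J₂ : Finset (Fin n)) (hd : Disjoint J₁ J₂) :
    LogConn.compProd nabla ω (J₁ ∪ J₂) =
      LogConn.compProd nabla ω J₁ ∘ₗ LogConn.compProd nabla ω J₂ := by
  classical
  induction J₁ using Finset.induction_on with
  | empty => rw [Finset.empty_union, compProd_empty]; rfl
  | insert a J ha ih =>
    have hd' : Disjoint J J₂ := Finset.disjoint_of_subset_left (Finset.subset_insert a J) hd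
    have haJ₂ : a ∉ J₂ := fun h =>
      (Finset.disjoint_left.mp hd) (Finset.mem_insert_self a J) h
    rw [Finset.insert_union, compProd_insert2 ω nabla hcomm a (J ∪ J₂) (by
      rw [Finset.mem_union]; rintro (h | h); exact ha h; exact haJ₂ h), ih hd',
      compProd_insert2 ω nabla hcomm a J ha]
    rfl

include hbΩ in
lemma pd_prod_mul (i : Fin n) (S : Finset (Fin n)) :
    pd bΩ i (∏ k ∈ S, t k) * t i = (if i ∈ S then 1 else 0) * ∏ k ∈ S, t k := by
  classical
  induction S using Finset.induction_on with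
  | empty => simp [(pd bΩ i).map_one_eq_zero]
  | insert a S ha ih =>
    rw [Finset.prod_insert ha, Derivation.leibniz, smul_eq_mul, smul_eq_mul, add_mul, mul_assoc, ih,
      pd_t t bΩ hbΩ]
    by_cases hai : a = i
    · subst hai
      rw [if_neg ha, if_pos rfl, if_pos (Finset.mem_insert_self _ _)]
      ring
    · rw [if_neg hai]
      by_cases hiS : i ∈ S
      · rw [if_pos hiS, if_pos (Finset.mem_insert_of_mem hiS)]; ring
      · rw [if_neg hiS, if_neg (by
          rw [Finset.mem_insert]; rintro (h | h); exact hai h.symm; exact hiS h)]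
        ring

include hbΩ hι hc hcomm in
/-- each piece is stable under every component of the connection -/
lemma comp_piece_stable (i : Fin n) (I : Finset (Fin n)) {x : E}
    (hx : x ∈ LogConn.piece nabla ω t I) : LogConn.comp nabla ω i x ∈ LogConn.piece nabla ω t I := by
  have h : LogConn.piece nabla ω t I ≤
      (LogConn.piece nabla ω t I).comap (LogConn.comp nabla ω i) := by
    apply piece_le
    intro J hJ e
    rw [Submodule.mem_comap, comp_smul lam t bΩ hbΩ ω ι hι nabla hc i,
      comp_compProd_comm ω nabla hcomm, pd_prod_mul t bΩ hbΩ]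
    apply Submodule.add_mem
    · exact gen_mem nabla ω t hJ _
    · rw [← mul_assoc, mul_smul]
      apply s16792 lam t bΩ hbΩ ω ι hι nabla hc
      exact gen_mem nabla ω t hJ _
  exact h hx

include hbΩ hι hc hcomm in
theorem comp_piece2 (j : Fin n) (J' : Finset (Fin n)) (hjJ' : j ∉ J') {x : E}
    (hx : x ∈ LogConn.piece nabla ω t J') :
    LogConn.comp nabla ω j x ∈ LogConn.piece nabla ω t (insert j J') := by
  have h : LogConn.piece nabla ω t J' ≤
      (LogConn.piece nabla ω t (insert j J')).comap (LogConn.comp nabla ω j) := by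
    apply piece_le
    intro K hK e
    rw [Submodule.mem_comap, comp_smul lam t bΩ hbΩ ω ι hι nabla hc j (∏ i ∈ J' \ K, t i)
      (LogConn.compProd nabla ω K e),
      pd_prod t bΩ hbΩ j (J' \ K) (fun h => hjJ' (Finset.mem_sdiff.mp h).1), zero_mul, mul_zero,
      zero_smul, add_zero]
    have hjK : j ∉ K := fun h => hjJ' (hK h)
    have e1 : LogConn.comp nabla ω j (LogConn.compProd nabla ω K e) =
        LogConn.compProd nabla ω (insert j K) e := by
      rw [compProd_insert2 ω nabla hcomm j K hjK]; rfl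
    have e2 : J' \ K = insert j J' \ insert j K := by
      ext x
      simp only [Finset.mem_sdiff, Finset.mem_insert]
      constructor
      · rintro ⟨h1, h2⟩
        exact ⟨Or.inr h1, fun h => h.elim (fun h3 => hjJ' (h3 ▸ h1)) h2⟩
      · rintro ⟨h1 | h1, h2⟩
        · exact absurd (Or.inl h1) h2
        · exact ⟨h1, fun h3 => h2 (Or.inr h3)⟩
    rw [e1, e2]
    exact gen_mem nabla ω t (Finset.insert_subset_insert j hK) e
  exact h hx

include hbΩ hι hc hcomm in
/-- `t_{K''∖K} • E_K ⊆ E_{K''}` for arbitrary finite index sets. -/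
lemma cross_smul (K K'' : Finset (Fin n)) {x : E} (hx : x ∈ LogConn.piece nabla ω t K) :
    (∏ i ∈ K'' \ K, t i) • x ∈ LogConn.piece nabla ω t K'' := by
  classical
  have h : LogConn.piece nabla ω t K ≤ (LogConn.piece nabla ω t K'').comap
      ((LinearMap.lsmul B E (∏ i ∈ K'' \ K, t i)).restrictScalars A) := by
    apply piece_le
    intro J hJ e
    rw [Submodule.mem_comap]
    show (∏ i ∈ K'' \ K, t i) • ((∏ i ∈ K \ J, t i) • LogConn.compProd nabla ω J e) ∈ _
    -- split J
    have hJsplit : J = (J ∩ K'') ∪ (J \ K'') := by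
      ext a; simp only [Finset.mem_union, Finset.mem_inter, Finset.mem_sdiff]; tauto
    have hdisj : Disjoint (J ∩ K'') (J \ K'') := by
      rw [Finset.disjoint_left]
      intro a ha hb
      exact (Finset.mem_sdiff.mp hb).2 (Finset.mem_inter.mp ha).2
    have hcp : LogConn.compProd nabla ω J e =
        LogConn.compProd nabla ω (J ∩ K'') (LogConn.compProd nabla ω (J \ K'') e) := by
      conv_lhs => rw [hJsplit, compProd_union ω nabla hcomm _ _ hdisj]
      rfl
    have hprod : (∏ i ∈ K'' \ K, t i) * (∏ i ∈ K \ J, t i) =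
        (∏ i ∈ (K \ K'') \ J, t i) * ∏ i ∈ K'' \ (J ∩ K''), t i := by
      have d1 : Disjoint (K'' \ K) (K \ J) := by
        rw [Finset.disjoint_left]
        intro a ha hb
        exact (Finset.mem_sdiff.mp ha).2 (Finset.mem_sdiff.mp hb).1
      have d2 : Disjoint ((K \ K'') \ J) (K'' \ (J ∩ K'')) := by
        rw [Finset.disjoint_left]
        intro a ha hb
        exact (Finset.mem_sdiff.mp (Finset.mem_sdiff.mp ha).1).2 (Finset.mem_sdiff.mp hb).1
      rw [← Finset.prod_union d1, ← Finset.prod_union d2]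
      apply Finset.prod_congr _ (fun _ _ => rfl)
      ext a
      simp only [Finset.mem_union, Finset.mem_sdiff, Finset.mem_inter]
      constructor
      · rintro (⟨h1, h2⟩ | ⟨h1, h2⟩)
        · exact Or.inr ⟨h1, fun h => h2 (hJ h.1)⟩
        · by_cases h3 : a ∈ K''
          · exact Or.inr ⟨h3, fun h => h2 h.1⟩
          · exact Or.inl ⟨⟨h1, h3⟩, h2⟩
      · rintro (⟨⟨h1, h2⟩, h3⟩ | ⟨h1, h2⟩)
        · exact Or.inr ⟨h1, h3⟩
        · by_cases h3 : a ∈ K
          · exact Or.inr ⟨h3, fun h => h2 ⟨h, h1⟩⟩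
          · exact Or.inl ⟨h1, h3⟩
    rw [smul_smul, hprod, mul_smul, hcp]
    apply s16792 lam t bΩ hbΩ ω ι hι nabla hc
    exact gen_mem nabla ω t Finset.inter_subset_right _
  exact h hx

end One

section Two

variable {A : Type v} {B L E : Type u} [CommRing A] [CommRing B]
    [Algebra A B] [AddCommGroup L] [Module B L] [Module A L] [IsScalarTower A B L]
    [AddCommGroup E] [Module B E] [Module A E] [IsScalarTower A B E]

variable (lam : B) {n : ℕ} (t : Fin n → B)
    (bΩ : Module.Basis (Fin n) B (KaehlerDifferential A B))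
    (hbΩ : ∀ i, bΩ i = KaehlerDifferential.D A B (t i))
    (ω : Module.Basis (Fin n) B L) (ι : KaehlerDifferential A B →ₗ[B] L)
    (hι : ∀ i, ι (KaehlerDifferential.D A B (t i)) = t i • ω i)
    (nabla : E →ₗ[A] E ⊗[B] L)
    (hc : Conn.IsLamConn (ι.compDer (KaehlerDifferential.D A B)) lam nabla)
    (hcomm : ∀ (a b : Fin n) (m : E), LogConn.comp nabla ω a (LogConn.comp nabla ω b m) =
      LogConn.comp nabla ω b (LogConn.comp nabla ω a m))
    (t' : Fin n → B)
    (bΩ' : Module.Basis (Fin n) B (KaehlerDifferential A B))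
    (hbΩ' : ∀ i, bΩ' i = KaehlerDifferential.D A B (t' i))
    (ω' : Module.Basis (Fin n) B L)
    (hι' : ∀ i, ι (KaehlerDifferential.D A B (t' i)) = t' i • ω' i)
    (hcomm' : ∀ (a b : Fin n) (m : E), LogConn.comp nabla ω' a (LogConn.comp nabla ω' b m) =
      LogConn.comp nabla ω' b (LogConn.comp nabla ω' a m))
    (w nn : Fin n → Fin n → B) (wt : Fin n → B) (ht : ∀ j, t j = wt j * t' j)
    (H1 : ∀ i j, ω.coord j (ω' i) = (if i = j then 1 else 0) + nn i j * t j)

/-- change of basis for the components of the connection -/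
lemma comp_change (j : Fin n) (m : E) :
    LogConn.comp nabla ω j m = ∑ i, ω.coord j (ω' i) • LogConn.comp nabla ω' i m := by
  unfold LogConn.comp
  rw [Conn.along_apply]
  conv_lhs => rw [nabla_decomp ω' nabla m]
  simp only [map_sum, TensorProduct.map_tmul, LinearMap.id_apply, TensorProduct.rid_tmul]
  rfl

include H1 in
lemma comp_rel (j : Fin n) (m : E) :
    LogConn.comp nabla ω j m = LogConn.comp nabla ω' j m +
      t j • ∑ i, nn i j • LogConn.comp nabla ω' i m := by
  rw [comp_change ω nabla ω' j m]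
  simp only [H1, add_smul, Finset.sum_add_distrib, ite_smul, one_smul, zero_smul,
    Finset.sum_ite_eq', Finset.mem_univ, if_true]
  congr 1
  rw [Finset.smul_sum]
  refine Finset.sum_congr rfl fun i _ => ?_
  rw [smul_smul, mul_comm]

include hbΩ' hι' hc hcomm' ht H1 in
lemma compProd_mem_piece' (J : Finset (Fin n)) : ∀ e : E,
    LogConn.compProd nabla ω J e ∈ LogConn.piece nabla ω' t' J := by
  classical
  induction J using Finset.induction_on_min with
  | empty =>
    intro e
    have h := claimJ lam t' bΩ' hbΩ' ω' ι hι' nabla hc ∅ 1 e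
    rw [one_smul, compProd_empty] at h
    rw [compProd_empty]
    exact h
  | insert j J' hj ih =>
    intro e
    have hjJ' : j ∉ J' := fun h => lt_irrefl j (hj j h)
    rw [compProd_insert nabla ω j J' hj, LinearMap.comp_apply,
      comp_rel t ω nabla ω' nn H1 j]
    have hy := ih e
    apply Submodule.add_mem
    · exact comp_piece2 lam t' bΩ' hbΩ' ω' ι hι' nabla hc hcomm' j J' hjJ' hy
    · have hz : ∑ i, nn i j • LogConn.comp nabla ω' i (LogConn.compProd nabla ω J' e) ∈
          LogConn.piece nabla ω' t' J' := by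
        apply Submodule.sum_mem
        intro i _
        apply s16792 lam t' bΩ' hbΩ' ω' ι hι' nabla hc
        exact comp_piece_stable lam t' bΩ' hbΩ' ω' ι hι' nabla hc hcomm' i J' hy
      have hs : insert j J' \ J' = {j} := by
        ext x
        simp only [Finset.mem_sdiff, Finset.mem_insert, Finset.mem_singleton]
        constructor
        · rintro ⟨h1 | h1, h2⟩
          · exact h1
          · exact absurd h1 h2
        · rintro rfl
          exact ⟨Or.inl rfl, hjJ'⟩
      have h3 := smul_piece_mem nabla ω' t' (Finset.subset_insert j J') hz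
      rw [hs, Finset.prod_singleton] at h3
      rw [ht j, mul_smul]
      exact s16792 lam t' bΩ' hbΩ' ω' ι hι' nabla hc _ _ _ h3

include hbΩ' hι' hc hcomm' ht H1 in
/-- (A): the pieces for the first system are contained in those of the second. -/
lemma piece_le_piece' (I : Finset (Fin n)) :
    LogConn.piece nabla ω t I ≤ LogConn.piece nabla ω' t' I := by
  apply piece_le
  intro J hJ e
  have h1 : ∏ i ∈ I \ J, t i = (∏ i ∈ I \ J, wt i) * ∏ i ∈ I \ J, t' i := by
    rw [← Finset.prod_mul_distrib]
    exact Finset.prod_congr rfl fun i _ => ht i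
  rw [h1, mul_smul]
  apply s16792 lam t' bΩ' hbΩ' ω' ι hι' nabla hc
  exact smul_piece_mem nabla ω' t' hJ
    (compProd_mem_piece' lam t ω ι nabla hc t' bΩ' hbΩ' ω' hι' hcomm' nn wt ht H1 J e)

include H1 in
/-- the minors of the change of basis matrix are divisible by `t_{K''∖K}` -/
lemma coord_basis_factor (p : ℕ) (K K'' : powersetCard (Fin n) p) :
    ∃ D : B, (ω.exteriorPower p).coord K'' (ω'.exteriorPower p K) =
      (∏ i ∈ (K'' : Finset (Fin n)) \ (K : Finset (Fin n)), t i) * D := by
  classical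
  rw [basis_coord, basis_apply, ιMulti_family, ιMultiDual_apply_ιMulti]
  set eK := (ofFinEmbEquiv.symm K : Fin p ↪o Fin n) with heK
  set eK'' := (ofFinEmbEquiv.symm K'' : Fin p ↪o Fin n) with heK''
  set u : Fin p → B := fun c => if eK'' c ∈ (K : Finset (Fin n)) then 1 else t (eK'' c) with hu
  set M' : Matrix (Fin p) (Fin p) B := Matrix.of fun a c =>
    if eK'' c ∈ (K : Finset (Fin n)) then ω.coord (eK'' c) (ω' (eK a)) else nn (eK a) (eK'' c)
    with hM'
  have hM : (Matrix.of fun a c => ω.coord (eK'' c) ((ω' ∘ eK) a)) =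
      Matrix.of fun a c => u c * M' a c := by
    ext a c
    simp only [Matrix.of_apply, hu, hM', Function.comp_apply]
    by_cases hc1 : eK'' c ∈ (K : Finset (Fin n))
    · rw [if_pos hc1, if_pos hc1, one_mul]
    · rw [if_neg hc1, if_neg hc1, H1, if_neg, zero_add, mul_comm]
      intro h
      apply hc1
      rw [← h, mem_coe_iff, ← mem_range_ofFinEmbEquiv_symm_iff_mem]
      exact ⟨a, rfl⟩
  refine ⟨M'.det, ?_⟩
  rw [hM, Matrix.det_mul_row]
  congr 1
  rw [hu, heK'', prod_enum p K'' (fun j => if j ∈ (K : Finset (Fin n)) then 1 else t j),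
    Finset.prod_ite, Finset.prod_const_one, one_mul]
  apply Finset.prod_congr _ (fun _ _ => rfl)
  ext j
  simp [Finset.mem_sdiff]

include hbΩ hι hc hcomm H1 in
/-- (B): if the pieces agree, the layer of the second system is contained in the first. -/
lemma layer'_le_layer (hE : ∀ I, LogConn.piece nabla ω' t' I = LogConn.piece nabla ω t I) (p : ℕ) :
    LogConn.layer nabla ω' t' p ≤ LogConn.layer nabla ω t p := by
  intro x hx
  unfold LogConn.layer at hx ⊢
  rw [Submodule.mem_iInf] at hx ⊢
  intro K''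
  rw [Submodule.mem_comap, LinearMap.restrictScalars_apply]
  rw [tensor_decomp (E := E) (ω'.exteriorPower p) x, map_sum]
  apply Submodule.sum_mem
  intro K _
  have hK : LogConn.coordE (E := E) ω' p K x ∈ LogConn.piece nabla ω' t' K := hx K
  have hK' : TensorProduct.rid B E
      (TensorProduct.map LinearMap.id ((ω'.exteriorPower p).coord K) x)
      = LogConn.coordE (E := E) ω' p K x := rfl
  rw [hK', coordE_tmul]
  obtain ⟨D, hD⟩ := coord_basis_factor t ω ω' nn H1 p K K''
  rw [hD, mul_comm, mul_smul]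
  apply s16792 lam t bΩ hbΩ ω ι hι nabla hc
  rw [hE] at hK
  exact cross_smul lam t bΩ hbΩ ω ι hι nabla hc hcomm _ _ hK

end Two

section Three

variable {A : Type v} {B L E : Type u} [CommRing A] [CommRing B]
    [Algebra A B] [AddCommGroup L] [Module B L] [Module A L] [IsScalarTower A B L]
    [AddCommGroup E] [Module B E] [Module A E] [IsScalarTower A B E]

variable (lam : B) {n : ℕ}
    (ω : Module.Basis (Fin n) B L)
    (nabla : E →ₗ[A] E ⊗[B] L)
    (d : ∀ p : ℕ, ↥(⋀[B]^p L) →ₗ[A] ↥(⋀[B]^(p + 1) L))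
    (hd1 : ∀ j, d 1 (ιMulti B 1 (ω ∘ (fun _ : Fin 1 => j))) = 0)
    (nablas : ∀ p : ℕ, E ⊗[B] ↥(⋀[B]^p L) →ₗ[A] E ⊗[B] ↥(⋀[B]^(p + 1) L))
    (hint : Conn.IsIntegrable nabla (fun p => lam • d p) nablas)

include hd1 hint in
lemma nablas_one (j : Fin n) (m : E) :
    nablas 1 (m ⊗ₜ[B] ιMulti B 1 (ω ∘ (fun _ : Fin 1 => j))) =
      ∑ i, LogConn.comp nabla ω i m ⊗ₜ[B]
        ιMulti B 2 (ω ∘ (Fin.cons i (fun _ : Fin 1 => j) : Fin 2 → Fin n)) := by
  rw [hint.1 1 m, LinearMap.smul_apply, hd1 j, smul_zero,
    TensorProduct.tmul_zero, add_zero, nabla_decomp ω nabla m, map_sum, map_sum,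
    LinearMap.sum_apply]
  refine Finset.sum_congr rfl fun i _ => ?_
  rw [Conn.toOne_tmul, Conn.twedge_tmul, wedge_ιMulti, cons_comp]

include hd1 hint in
/-- the components commute as soon as `d` kills the basis one-forms -/
lemma comp_comm_of_d1 (a b : Fin n) (m : E) :
    LogConn.comp nabla ω a (LogConn.comp nabla ω b m) =
      LogConn.comp nabla ω b (LogConn.comp nabla ω a m) := by
  have h0 := hint.2 m
  rw [nabla_decomp ω nabla m, map_sum, map_sum] at h0
  have h1 : ∀ j, nablas 1 (Conn.toOne (LogConn.comp nabla ω j m ⊗ₜ[B] ω j)) =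
      ∑ i, LogConn.comp nabla ω i (LogConn.comp nabla ω j m) ⊗ₜ[B]
        ιMulti B 2 (ω ∘ (Fin.cons i (fun _ : Fin 1 => j) : Fin 2 → Fin n)) := by
    intro j
    rw [Conn.toOne_tmul, oneEquiv_symm_apply]
    exact nablas_one lam ω nabla d hd1 nablas hint j _
  simp only [h1] at h0
  have h2 := congrArg (fun y => TensorProduct.rid B E
    (TensorProduct.map LinearMap.id (psi ω a b) y)) h0
  simp only [map_sum, TensorProduct.map_tmul, LinearMap.id_apply, TensorProduct.rid_tmul,
    psi_ιMulti, map_zero] at h2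
  simp only [sub_smul, Finset.sum_sub_distrib, ite_mul, one_mul, zero_mul, ite_smul, one_smul,
    zero_smul, Finset.sum_ite_eq', Finset.mem_univ, if_true] at h2
  exact sub_eq_zero.mp h2

end Three

section Final

variable {A : Type v} {B L E : Type u} [CommRing A] [CommRing B]
    [Algebra A B] [AddCommGroup L] [Module B L] [Module A L] [IsScalarTower A B L]
    [AddCommGroup E] [Module B E] [Module A E] [IsScalarTower A B E]

theorem layer_eq_layer
    (lam : B) {n : ℕ} (t : Fin n → B) (bΩ : Module.Basis (Fin n) B (KaehlerDifferential A B))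
    (hbΩ : ∀ i, bΩ i = KaehlerDifferential.D A B (t i))
    (ω : Module.Basis (Fin n) B L) (ι : KaehlerDifferential A B →ₗ[B] L)
    (hι : ∀ i, ι (KaehlerDifferential.D A B (t i)) = t i • ω i)
    (nabla : E →ₗ[A] E ⊗[B] L)
    (hc : Conn.IsLamConn (ι.compDer (KaehlerDifferential.D A B)) lam nabla)
    (d : ∀ p : ℕ, ↥(⋀[B]^p L) →ₗ[A] ↥(⋀[B]^(p + 1) L))
    (hd : LogDiff.IsLogRule (KaehlerDifferential.D A B) ι (⇑ω) d)
    (nablas : ∀ p : ℕ, E ⊗[B] ↥(⋀[B]^p L) →ₗ[A] E ⊗[B] ↥(⋀[B]^(p + 1) L))
    (hint : Conn.IsIntegrable nabla (fun p => lam • d p) nablas)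
    (u : Fin n → Bˣ) (bΩ' : Module.Basis (Fin n) B (KaehlerDifferential A B))
    (hbΩ' : ∀ i, bΩ' i = KaehlerDifferential.D A B ((u i : B) * t i))
    (ω' : Module.Basis (Fin n) B L)
    (hω' : ∀ i, ω' i = ω i + ((u i)⁻¹ : Bˣ).val • ι (KaehlerDifferential.D A B (u i : B)))
    (p : ℕ) :
    LogConn.layer nabla ω t p = LogConn.layer nabla ω' (fun i => (u i : B) * t i) p := by
  classical
  set t' : Fin n → B := fun i => (u i : B) * t i with ht'
  have hι' : ∀ i, ι (KaehlerDifferential.D A B (t' i)) = t' i • ω' i := by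
    intro i
    simp only [ht']
    rw [Derivation.leibniz, map_add, map_smul, map_smul, hι, hω', smul_add, smul_smul, smul_smul]
    congr 2
    rw [mul_comm (u i : B) (t i), mul_assoc, Units.mul_inv, mul_one]
  have hcomm := comp_comm lam ω ι nabla d hd nablas hint
  -- d kills the new basis one-forms
  have hd1 : ∀ j, d 1 (ιMulti B 1 (ω' ∘ (fun _ : Fin 1 => j))) = 0 := by
    intro j
    have e1 : ιMulti B 1 (ω' ∘ (fun _ : Fin 1 => j)) =
        ιMulti B 1 (ω ∘ (fun _ : Fin 1 => j)) + ((u j)⁻¹ : Bˣ).val •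
          ιMulti B 1 (fun _ : Fin 1 => ι (KaehlerDifferential.D A B (u j : B))) := by
      have : ∀ x : L, ιMulti B 1 (fun _ : Fin 1 => x) = (oneEquiv B L).symm x := fun x =>
        (oneEquiv_symm_apply B L x).symm
      have h2 : (ω' ∘ (fun _ : Fin 1 => j)) = fun _ : Fin 1 => ω' j := rfl
      have h3 : (ω ∘ (fun _ : Fin 1 => j)) = fun _ : Fin 1 => ω j := rfl
      rw [h2, h3, this, this, this, hω', map_add, map_smul]
    rw [e1, map_add, d_ιMulti_eq_zero ω ι d hd, zero_add,
      hd 1 _ _ (fun k => Or.inl ⟨_, rfl⟩)]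
    have h4 : KaehlerDifferential.D A B (((u j)⁻¹ : Bˣ).val) =
        -(((u j)⁻¹ : Bˣ).val) ^ 2 • KaehlerDifferential.D A B (u j : B) :=
      Derivation.leibniz_of_mul_eq_one _ (by simp)
    rw [h4, map_smul, ← Fin.update_cons_zero (ι (KaehlerDifferential.D A B (u j : B))),
      AlternatingMap.map_update_smul, Fin.update_cons_zero]
    rw [AlternatingMap.map_eq_zero_of_eq _ _ (i := 0) (j := 1) (by simp) (by simp), smul_zero]
  have hcomm' := comp_comm_of_d1 lam ω' nabla d hd1 nablas hint
  -- coordinates of the new basis in the old one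
  have H1 : ∀ i j, ω.coord j (ω' i) = (if i = j then 1 else 0) +
      (((u i)⁻¹ : Bˣ).val * bΩ.repr (KaehlerDifferential.D A B (u i : B)) j) * t j := by
    intro i j
    rw [hω', map_add, map_smul, coord_ι t bΩ hbΩ ω ι hι, Module.Basis.coord_apply,
      Module.Basis.repr_self, Finsupp.single_apply, smul_eq_mul, mul_assoc]
  have H1' : ∀ i j, ω'.coord j (ω i) = (if i = j then 1 else 0) +
      (-(((u i)⁻¹ : Bˣ).val * bΩ'.repr (KaehlerDifferential.D A B (u i : B)) j)) * t' j := by
    intro i j
    have h5 : ω i = ω' i - ((u i)⁻¹ : Bˣ).val • ι (KaehlerDifferential.D A B (u i : B)) := by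
      rw [hω']; abel
    rw [h5, map_sub, map_smul, coord_ι t' bΩ' hbΩ' ω' ι hι', Module.Basis.coord_apply,
      Module.Basis.repr_self, Finsupp.single_apply, smul_eq_mul]
    ring
  have ht : ∀ j, t j = ((u j)⁻¹ : Bˣ).val * t' j := by
    intro j
    simp only [ht']
    rw [← mul_assoc, Units.inv_mul, one_mul]
  have ht2 : ∀ j, t' j = (u j : B) * t j := fun j => rfl
  have hE1 : ∀ I, LogConn.piece nabla ω t I ≤ LogConn.piece nabla ω' t' I := fun I =>
    piece_le_piece' lam t ω ι nabla hc t' bΩ' hbΩ' ω' hι' hcomm' _ _ ht H1 I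
  have hE2 : ∀ I, LogConn.piece nabla ω' t' I ≤ LogConn.piece nabla ω t I := fun I =>
    piece_le_piece' lam t' ω' ι nabla hc t bΩ hbΩ ω hι hcomm _ _ ht2 H1' I
  have hE : ∀ I, LogConn.piece nabla ω' t' I = LogConn.piece nabla ω t I := fun I =>
    le_antisymm (hE2 I) (hE1 I)
  apply le_antisymm
  · exact layer'_le_layer lam t' bΩ' hbΩ' ω' ι hι' nabla hc hcomm' t ω _ H1'
      (fun I => (hE I).symm) p
  · exact layer'_le_layer lam t bΩ hbΩ ω ι hι nabla hc hcomm t' ω' _ H1 hE p

end Final

end Groth.Agent.Lib.Helper16LogConn3
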