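import Mathlib

set_option autoImplicit false
set_option linter.style.haveILetI false
set_option linter.unusedSectionVars false

namespace Groth.Agent.Lib.Helper16MM

open PiTensorProduct Module TensorProduct

section Rep

variable {n r : ℕ}

/-- sorted representative -/
def rep (w : Fin n → Fin r) : Fin n → Fin r := w ∘ Tuple.sort w

theorem rep_comp_perm (w : Fin n → Fin r) (σ : Equiv.Perm (Fin n)) : rep (w ∘ σ) = rep w :=
  Tuple.comp_perm_comp_sort_eq_comp_sort

theorem rep_rep (w : Fin n → Fin r) : rep (rep w) = rep w := rep_comp_perm w (Tuple.sort w)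

/-- MacMahon coefficient -/
def PP {A : Type*} [CommRing A] (n : ℕ) {r : ℕ} (U : Matrix (Fin r) (Fin r) A) : A :=
  ∑ w : Fin n → Fin r, ∏ i, U (rep w i) (w i)

end Rep

section Trace

variable {A : Type*} [CommRing A] {M : Type*} [AddCommGroup M] [Module A M] {r : ℕ}
  (b : Basis (Fin r) A M) (u : M →ₗ[A] M) (n : ℕ)

/-- the basis of the tensor power -/
noncomputable abbrev BB : Basis (Fin n → Fin r) A (⨂[A] _i : Fin n, M) :=
  Basis.piTensorProduct (fun _ : Fin n => b)

theorem repr_reindex (σ : Equiv.Perm (Fin n)) (x : ⨂[A] _i : Fin n, M) (w : Fin n → Fin r) :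
    (BB b n).repr (PiTensorProduct.reindex A (fun _ : Fin n => M) σ x) w =
      (BB b n).repr x (w ∘ σ) := by
  classical
  have key : (Finsupp.lapply w) ∘ₗ (BB b n).repr.toLinearMap ∘ₗ
      (PiTensorProduct.reindex A (fun _ : Fin n => M) σ).toLinearMap =
      (Finsupp.lapply (w ∘ σ)) ∘ₗ (BB b n).repr.toLinearMap := by
    apply (BB b n).ext
    intro w₀
    simp only [LinearMap.comp_apply, LinearEquiv.coe_coe, Finsupp.lapply_apply,
      Basis.piTensorProduct_apply, PiTensorProduct.reindex_tprod,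
      Basis.piTensorProduct_repr_tprod_apply, Basis.repr_self, Finsupp.single_apply]
    rw [← Equiv.prod_comp σ (fun x => if w₀ ((Equiv.symm σ) x) = w x then (1 : A) else 0)]
    simp
  exact LinearMap.congr_fun key x

/-- symmetric tensors -/
abbrev Gam (A : Type*) [CommRing A] (M : Type*) [AddCommGroup M] [Module A M] (n : ℕ) :
    Submodule A (⨂[A] _i : Fin n, M) :=
  ⨅ σ : Equiv.Perm (Fin n),
    LinearMap.eqLocus ((PiTensorProduct.reindex A (fun _ : Fin n => M) σ).toLinearMap) LinearMap.id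

theorem mem_Gam_iff (x : ⨂[A] _i : Fin n, M) :
    x ∈ Gam A M n ↔ ∀ σ : Equiv.Perm (Fin n),
      PiTensorProduct.reindex A (fun _ : Fin n => M) σ x = x := by
  simp [Gam, Submodule.mem_iInf, LinearMap.mem_eqLocus]

theorem mem_Gam_iff_repr (x : ⨂[A] _i : Fin n, M) :
    x ∈ Gam A M n ↔ ∀ (σ : Equiv.Perm (Fin n)) (w : Fin n → Fin r),
      (BB b n).repr x (w ∘ σ) = (BB b n).repr x w := by
  rw [mem_Gam_iff]
  constructor
  · intro h σ w
    rw [← repr_reindex, h σ]
  · intro h σ
    apply (BB b n).ext_elem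
    intro w
    rw [repr_reindex, h]

theorem repr_rep (x : ⨂[A] _i : Fin n, M) (hx : x ∈ Gam A M n) (w : Fin n → Fin r) :
    (BB b n).repr x (rep w) = (BB b n).repr x w :=
  (mem_Gam_iff_repr b n x).mp hx (Tuple.sort w) w

/-- coordinates on representatives -/
noncomputable def Phi : Gam A M n →ₗ[A] ({v : Fin n → Fin r // rep v = v} → A) :=
  LinearMap.pi fun v => (Finsupp.lapply v.1) ∘ₗ (BB b n).repr.toLinearMap ∘ₗ (Gam A M n).subtype

theorem Phi_apply (x : Gam A M n) (v : {v : Fin n → Fin r // rep v = v}) :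
    Phi b n x v = (BB b n).repr x.1 v.1 := rfl

theorem sum_mem_Gam (f : {v : Fin n → Fin r // rep v = v} → A) :
    (∑ w : Fin n → Fin r, f ⟨rep w, rep_rep w⟩ • BB b n w) ∈ Gam A M n := by
  rw [mem_Gam_iff_repr b n]
  intro σ w
  rw [Basis.repr_sum_self]
  exact congrArg f (Subtype.ext (rep_comp_perm w σ))

/-- orbit sums -/
noncomputable def Psi (f : {v : Fin n → Fin r // rep v = v} → A) : Gam A M n :=
  ⟨∑ w : Fin n → Fin r, f ⟨rep w, rep_rep w⟩ • BB b n w, sum_mem_Gam b n f⟩

theorem Phi_Psi (f : {v : Fin n → Fin r // rep v = v} → A) : Phi b n (Psi b n f) = f := by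
  funext v
  rw [Phi_apply, Psi, Basis.repr_sum_self]
  exact congrArg f (Subtype.ext v.2)

theorem Phi_injective : Function.Injective (Phi b n) := by
  rw [← LinearMap.ker_eq_bot, LinearMap.ker_eq_bot']
  intro x hx
  apply Subtype.ext
  apply (BB b n).ext_elem
  intro w
  rw [← repr_rep b n x.1 x.2 w]
  have := congr_fun hx ⟨rep w, rep_rep w⟩
  rw [Phi_apply] at this
  rw [this]
  simp

/-- the coordinate equivalence -/
noncomputable def PhiEquiv : Gam A M n ≃ₗ[A] ({v : Fin n → Fin r // rep v = v} → A) :=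
  LinearEquiv.ofBijective (Phi b n)
    ⟨Phi_injective b n, fun f => ⟨Psi b n f, Phi_Psi b n f⟩⟩

theorem PhiEquiv_symm (f : {v : Fin n → Fin r // rep v = v} → A) :
    (PhiEquiv b n).symm f = Psi b n f := by
  rw [LinearEquiv.symm_apply_eq]
  exact (Phi_Psi b n f).symm

theorem repr_map_basis (w₀ w : Fin n → Fin r) :
    (BB b n).repr (PiTensorProduct.map (fun _ : Fin n => u) (BB b n w₀)) w =
      ∏ i, LinearMap.toMatrix b b u (w i) (w₀ i) := by
  rw [Basis.piTensorProduct_apply, PiTensorProduct.map_tprod,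
    Basis.piTensorProduct_repr_tprod_apply]
  simp [LinearMap.toMatrix_apply]

theorem trace_gamma (γ : Gam A M n →ₗ[A] Gam A M n)
    (hγ : ∀ x : Gam A M n, ((γ x : Gam A M n) : ⨂[A] _i : Fin n, M) =
      PiTensorProduct.map (fun _ : Fin n => u) (x : ⨂[A] _i : Fin n, M)) :
    LinearMap.trace A _ γ = PP n (LinearMap.toMatrix b b u) := by
  classical
  rw [← LinearMap.trace_conj' γ (PhiEquiv b n),
    LinearMap.trace_eq_matrix_trace A (Pi.basisFun A {v : Fin n → Fin r // rep v = v}),
    Matrix.trace]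
  simp only [Matrix.diag_apply, LinearMap.toMatrix_apply, Pi.basisFun_apply, Pi.basisFun_repr,
    LinearEquiv.conj_apply_apply, PhiEquiv_symm]
  have h1 : ∀ v : {v : Fin n → Fin r // rep v = v},
      (PhiEquiv b n) (γ (Psi b n (Pi.single v 1))) v =
        ∑ w : Fin n → Fin r, (if (⟨rep w, rep_rep w⟩ : {v : Fin n → Fin r // rep v = v}) = v
          then (1 : A) else 0) * ∏ i, LinearMap.toMatrix b b u (v.1 i) (w i) := by
    intro v
    change Phi b n (γ (Psi b n (Pi.single v 1))) v = _
    rw [Phi_apply, hγ, Psi]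
    simp only [map_sum, map_smul, Finsupp.coe_finsetSum, Finsupp.coe_smul, Finset.sum_apply,
      Pi.smul_apply, smul_eq_mul, repr_map_basis, Pi.single_apply]
  rw [Finset.sum_congr rfl (fun v _ => h1 v), Finset.sum_comm, PP]
  refine Finset.sum_congr rfl fun w _ => ?_
  rw [Finset.sum_eq_single (⟨rep w, rep_rep w⟩ : {v : Fin n → Fin r // rep v = v})]
  · rw [if_pos rfl, one_mul]
  · intro v _ hne
    rw [if_neg (Ne.symm hne), zero_mul]
  · intro h
    exact absurd (Finset.mem_univ _) h

end Trace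

end Groth.Agent.Lib.Helper16MM
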