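import Mathlib
import Groth.Agent.Lib.Helper16MM
import Groth.Prelude.Def_SGA4hB

set_option autoImplicit false
set_option linter.style.haveILetI false
set_option linter.unusedSectionVars false

namespace Groth.Agent.Lib.Helper16MM

open PiTensorProduct Module TensorProduct Polynomial

section Det

variable {A : Type*} [CommRing A] {M : Type*} [AddCommGroup M] [Module A M] {r : ℕ}
  (b : Basis (Fin r) A M) (u : M →ₗ[A] M)

theorem det_baseChange :
    LinearMap.det (LinearMap.id - (X : A[X]) • u.baseChange A[X]) =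
      (1 - (X : A[X]) • (LinearMap.toMatrix b b u).map C).det := by
  rw [← LinearMap.det_toMatrix (Algebra.TensorProduct.basis A[X] b)]
  congr 1
  have h1 := map_sub (LinearMap.toMatrix (Algebra.TensorProduct.basis A[X] b)
    (Algebra.TensorProduct.basis A[X] b)) LinearMap.id ((X : A[X]) • u.baseChange A[X])
  rw [h1, map_smul, LinearMap.toMatrix_baseChange, LinearMap.toMatrix_id]
  rfl

end Det

section Tri

variable {A : Type*} [CommRing A] {n r : ℕ}

theorem comp_perm_eq_of_le (w : Fin n → Fin r) (σ : Equiv.Perm (Fin n))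
    (h : ∀ i, w i ≤ w (σ i)) : w ∘ σ = w := by
  have hsum : ∑ i, ((w (σ i) : Fin r) : ℕ) = ∑ i, ((w i : Fin r) : ℕ) :=
    Equiv.sum_comp σ (fun i => ((w i : Fin r) : ℕ))
  have := (Finset.sum_eq_sum_iff_of_le (s := Finset.univ)
    (f := fun i => ((w i : Fin r) : ℕ)) (g := fun i => ((w (σ i) : Fin r) : ℕ))
    (fun i _ => h i)).mp hsum.symm
  funext i
  exact Fin.ext (this i (Finset.mem_univ i)).symm

theorem PP_lowerTriangular (U : Matrix (Fin r) (Fin r) A) (hU : ∀ a b, a < b → U a b = 0)
    (n : ℕ) :
    PP n U = ∑ w : Fin n → Fin r, if rep w = w then ∏ i, U (w i) (w i) else 0 := by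
  rw [PP]
  refine Finset.sum_congr rfl fun w _ => ?_
  split_ifs with h
  · rw [h]
  · by_contra hne
    apply h
    have : ∀ i, w i ≤ w (Tuple.sort w i) := by
      intro i
      by_contra hlt
      push Not at hlt
      apply hne
      exact Finset.prod_eq_zero (Finset.mem_univ i) (hU _ _ hlt)
    exact comp_perm_eq_of_le w (Tuple.sort w) this

end Tri

section SymGen

variable {A : Type*} [CommRing A]

/-- complete homogeneous sums -/
noncomputable def hs (α : Type) [Fintype α] [DecidableEq α] (lam : α → A) (n : ℕ) : A :=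
  ∑ s : Sym α n, (s.1.map lam).prod

theorem hs_zero (α : Type) [Fintype α] [DecidableEq α] (lam : α → A) : hs α lam 0 = 1 := by
  rw [hs]
  simp [Sym.eq_nil_of_card_zero]

theorem hs_equiv {α β : Type} [Fintype α] [DecidableEq α] [Fintype β] [DecidableEq β]
    (e : α ≃ β) (lam : β → A) (n : ℕ) : hs β lam n = hs α (lam ∘ e) n := by
  rw [hs, hs, ← (Sym.equivCongr e).sum_comp]
  refine Finset.sum_congr rfl fun s _ => ?_
  simp [Sym.equivCongr, Multiset.map_map]

theorem hs_empty (α : Type) [Fintype α] [DecidableEq α] [IsEmpty α] (lam : α → A) (n : ℕ) :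
    hs α lam (n + 1) = 0 := by
  rw [hs]
  apply Finset.sum_eq_zero
  intro s _
  exfalso
  obtain ⟨a, _⟩ := Multiset.card_pos_iff_exists_mem.mp (by rw [s.2]; exact Nat.succ_pos n)
  exact isEmptyElim a

theorem hs_option_succ {α : Type} [Fintype α] [DecidableEq α] (lam : Option α → A) (n : ℕ) :
    hs (Option α) lam (n + 1) = lam none * hs (Option α) lam n + hs α (lam ∘ some) (n + 1) := by
  rw [hs, ← Equiv.sum_comp (symOptionSuccEquiv (α := α) (n := n)).symm
    (fun s : Sym (Option α) (n + 1) => (s.1.map lam).prod), Fintype.sum_sum_type]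
  congr 1
  · rw [hs, Finset.mul_sum]
    refine Finset.sum_congr rfl fun s _ => ?_
    simp only [symOptionSuccEquiv, SymOptionSuccEquiv.decode, Equiv.coe_fn_symm_mk]
    change (Multiset.map lam (none ::ₘ (s : Multiset (Option α)))).prod = _
    rw [Multiset.map_cons, Multiset.prod_cons]
    rfl
  · rw [hs]
    refine Finset.sum_congr rfl fun s _ => ?_
    simp [symOptionSuccEquiv, SymOptionSuccEquiv.decode, Multiset.map_map]

theorem hs_gen_aux : ∀ (α : Type) [Finite α], ∀ (i1 : Fintype α) (i2 : DecidableEq α)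
    (lam : α → A), PowerSeries.mk (@hs A _ α i1 i2 lam) *
      ∏ a, (1 - PowerSeries.C (lam a) * PowerSeries.X) = 1 := by
  intro α _
  refine Finite.induction_empty_option (P := fun α => ∀ (i1 : Fintype α) (i2 : DecidableEq α)
    (lam : α → A), PowerSeries.mk (@hs A _ α i1 i2 lam) *
      ∏ a, (1 - PowerSeries.C (lam a) * PowerSeries.X) = 1) ?_ ?_ ?_ α
  · intro α β e h i1 i2 lam
    letI : Fintype α := Fintype.ofEquiv β e.symm
    letI : DecidableEq α := Classical.decEq α
    have h1 := h inferInstance inferInstance (lam ∘ e)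
    have h2 : PowerSeries.mk (hs β lam) = PowerSeries.mk (hs α (lam ∘ e)) := by
      ext n
      rw [PowerSeries.coeff_mk, PowerSeries.coeff_mk, hs_equiv e lam n]
    rw [h2, ← Equiv.prod_comp e (fun b => 1 - PowerSeries.C (lam b) * PowerSeries.X)]
    exact h1
  · intro i1 i2 lam
    have h2 : PowerSeries.mk (hs PEmpty lam) = 1 := by
      ext n
      rcases n with _ | n
      · rw [PowerSeries.coeff_mk, hs_zero]; simp
      · rw [PowerSeries.coeff_mk, hs_empty]; simp
    rw [h2]
    simp
  · intro α inst h i1 i2 lam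
    letI : DecidableEq α := Classical.decEq α
    obtain rfl : i1 = instFintypeOption := Subsingleton.elim _ _
    obtain rfl : i2 = (fun a b => a.instDecidableEq b) := Subsingleton.elim _ _
    have h1 := h inferInstance inferInstance (lam ∘ some)
    have e1 : PowerSeries.mk (hs (Option α) lam) * (1 - PowerSeries.C (lam none) * PowerSeries.X) =
        PowerSeries.mk (hs α (lam ∘ some)) := by
      ext n
      rw [mul_sub, mul_one, map_sub, mul_left_comm, ← mul_assoc, PowerSeries.coeff_mk,
        PowerSeries.coeff_mk]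
      rcases n with _ | n
      · rw [hs_zero, hs_zero]; simp
      · rw [PowerSeries.coeff_succ_mul_X, PowerSeries.coeff_C_mul, PowerSeries.coeff_mk,
          hs_option_succ]
        ring
    rw [Fintype.prod_option, ← mul_assoc, e1]
    exact h1

theorem hs_gen (α : Type) [Fintype α] [DecidableEq α] (lam : α → A) :
    PowerSeries.mk (hs α lam) * ∏ a, (1 - PowerSeries.C (lam a) * PowerSeries.X) = 1 :=
  hs_gen_aux α _ _ lam

end SymGen

section Bij

theorem exists_perm_of_map_eq {n : ℕ} {ι : Type} [DecidableEq ι] (w w' : Fin n → ι)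
    (h : Multiset.map w Finset.univ.val = Multiset.map w' Finset.univ.val) :
    ∃ σ : Equiv.Perm (Fin n), w' = w ∘ σ := by
  have hc : ∀ j, Fintype.card {i // w' i = j} = Fintype.card {i // w i = j} := by
    intro j
    have := congrArg (Multiset.count j) h
    rw [Multiset.count_map, Multiset.count_map] at this
    rw [Fintype.card_subtype, Fintype.card_subtype]
    simp only [Finset.card_def, Finset.filter_val]
    convert this.symm using 2 <;>
    · apply Multiset.filter_congr
      intro i _
      exact eq_comm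
  let e : ∀ j, {i // w' i = j} ≃ {i // w i = j} := fun j => Fintype.equivOfCardEq (hc j)
  let σ : Fin n ≃ Fin n := (Equiv.sigmaFiberEquiv w').symm.trans
    ((Equiv.sigmaCongrRight e).trans (Equiv.sigmaFiberEquiv w))
  refine ⟨σ, funext fun i => ?_⟩
  exact ((e (w' i) ⟨i, rfl⟩).2).symm


theorem sum_rep_eq_hs {A : Type*} [CommRing A] {n r : ℕ} (lam : Fin r → A) :
    (∑ w : Fin n → Fin r, if rep w = w then ∏ i, lam (w i) else 0) = hs (Fin r) lam n := by
  classical
  rw [← Finset.sum_filter, hs]
  refine Finset.sum_bij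
    (fun w _ => (⟨Multiset.map w Finset.univ.val, by simp⟩ : Sym (Fin r) n)) ?_ ?_ ?_ ?_
  · intro w _
    exact Finset.mem_univ _
  · intro w₁ h₁ w₂ h₂ heq
    have h₁' := (Finset.mem_filter.mp h₁).2
    have h₂' := (Finset.mem_filter.mp h₂).2
    have hm : Multiset.map w₁ Finset.univ.val = Multiset.map w₂ Finset.univ.val :=
      congrArg Subtype.val heq
    obtain ⟨σ, hσ⟩ := exists_perm_of_map_eq w₁ w₂ hm
    rw [← h₁', ← h₂', hσ, rep_comp_perm]
  · intro s _
    obtain ⟨l, hl⟩ := Quotient.exists_rep s.1
    have hlen : l.length = n := by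
      have := s.2
      rw [← hl] at this
      exact this
    let w₀ : Fin n → Fin r := fun i => l.get (Fin.cast hlen.symm i)
    have hw₀ : Multiset.map w₀ Finset.univ.val = s.1 := by
      rw [Fin.univ_val_map, ← hl]
      congr 1
      exact (List.ofFn_congr hlen l.get).symm.trans (List.ofFn_get l)
    refine ⟨rep w₀, Finset.mem_filter.mpr ⟨Finset.mem_univ _, rep_rep w₀⟩, ?_⟩
    apply Subtype.ext
    change Multiset.map (w₀ ∘ Tuple.sort w₀) Finset.univ.val = s.1
    rw [← Multiset.map_map, Multiset.map_univ_val_equiv, hw₀]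
  · intro w _
    change ∏ i, lam (w i) = (Multiset.map lam (Multiset.map w Finset.univ.val)).prod
    rw [Multiset.map_map]
    rfl

end Bij


end Groth.Agent.Lib.Helper16MM
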