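import Mathlib
import Groth.Agent.Lib.Helper16MM
import Groth.Agent.Lib.Helper16MM2

set_option autoImplicit false
set_option linter.style.haveILetI false
set_option linter.unusedSectionVars false

universe v

namespace Groth.Agent.Lib.Helper16MM

open PiTensorProduct Module TensorProduct Polynomial

section MMs

variable {A : Type*} [CommRing A] {r : ℕ}

/-- the polynomial `det(1 - tU)` -/
noncomputable def detPoly (U : Matrix (Fin r) (Fin r) A) : A[X] :=
  (1 - (X : A[X]) • U.map C).det

/-- the MacMahon statement -/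
def MMstmt (U : Matrix (Fin r) (Fin r) A) : Prop :=
  ((detPoly U : A[X]) : PowerSeries A) * PowerSeries.mk (fun n => PP n U) = 1

theorem MMstmt_of_lowerTriangular (U : Matrix (Fin r) (Fin r) A)
    (hU : ∀ a b, a < b → U a b = 0) : MMstmt U := by
  have h1 : detPoly U = ∏ j, (1 - C (U j j) * X) := by
    rw [detPoly, Matrix.det_of_isLowerTriangular]
    · refine Finset.prod_congr rfl fun j _ => ?_
      rw [Matrix.sub_apply, Matrix.one_apply_eq, Matrix.smul_apply, Matrix.map_apply,
        smul_eq_mul, mul_comm]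
    · intro i j hij
      have hij' : i < j := hij
      rw [Matrix.sub_apply, Matrix.one_apply_ne hij'.ne, Matrix.smul_apply, Matrix.map_apply,
        hU i j hij']
      simp
  have h2 : (fun n => PP n U) = hs (Fin r) (fun j => U j j) := by
    funext n
    rw [PP_lowerTriangular U hU]
    exact sum_rep_eq_hs (fun j => U j j)
  rw [MMstmt, h1, h2, mul_comm]
  have h3 : ((∏ j, (1 - C (U j j) * X) : A[X]) : PowerSeries A) =
      ∏ j, (1 - PowerSeries.C (U j j) * PowerSeries.X) := by
    change (Polynomial.coeToPowerSeries.ringHom (∏ j, (1 - C (U j j) * X) : A[X])) = _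
    rw [map_prod]
    refine Finset.prod_congr rfl fun j _ => ?_
    simp
  rw [h3]
  exact hs_gen (Fin r) (fun j => U j j)

theorem map_PP {B : Type*} [CommRing B] (f : A →+* B) (U : Matrix (Fin r) (Fin r) A) (n : ℕ) :
    f (PP n U) = PP n (U.map f) := by
  simp [PP, map_sum, map_prod]

theorem map_detPoly {B : Type*} [CommRing B] (f : A →+* B) (U : Matrix (Fin r) (Fin r) A) :
    (detPoly U).map f = detPoly (U.map f) := by
  rw [detPoly, detPoly]
  change Polynomial.mapRingHom f _ = _
  rw [RingHom.map_det]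
  congr 1
  ext i j : 1
  by_cases hij : i = j
  · subst hij
    simp [Matrix.sub_apply, Matrix.smul_apply]
  · simp [Matrix.sub_apply, Matrix.smul_apply, Matrix.one_apply_ne hij]

theorem map_MM_lhs {B : Type*} [CommRing B] (f : A →+* B) (U : Matrix (Fin r) (Fin r) A) :
    PowerSeries.map f (((detPoly U : A[X]) : PowerSeries A) * PowerSeries.mk (fun n => PP n U)) =
      ((detPoly (U.map f) : B[X]) : PowerSeries B) * PowerSeries.mk (fun n => PP n (U.map f)) := by
  rw [map_mul, ← Polynomial.polynomial_map_coe, map_detPoly]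
  congr 1
  ext n
  rw [PowerSeries.coeff_map, PowerSeries.coeff_mk, PowerSeries.coeff_mk, map_PP]

theorem MMstmt_map {B : Type*} [CommRing B] (f : A →+* B) (U : Matrix (Fin r) (Fin r) A)
    (h : MMstmt U) : MMstmt (U.map f) := by
  rw [MMstmt, ← map_MM_lhs, h, map_one]

theorem MMstmt_of_injective {B : Type*} [CommRing B] (f : A →+* B) (hf : Function.Injective f)
    (U : Matrix (Fin r) (Fin r) A) (h : MMstmt (U.map f)) : MMstmt U := by
  rw [MMstmt, ← map_MM_lhs] at h
  rw [MMstmt]
  ext n
  apply hf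
  have := congrArg (PowerSeries.coeff n) h
  rw [PowerSeries.coeff_map] at this
  rw [this, PowerSeries.coeff_one, PowerSeries.coeff_one]
  split_ifs <;> simp

end MMs

section TriBasis

variable {K : Type*} [Field K] [IsAlgClosed K]

theorem exists_triangular_basis : ∀ (n : ℕ) (V : Type v) [AddCommGroup V] [Module K V]
    [FiniteDimensional K V] (f : V →ₗ[K] V), Module.finrank K V = n →
    ∃ b : Basis (Fin n) K V, ∀ i j, i < j → LinearMap.toMatrix b b f i j = 0 := by
  intro n
  induction n with
  | zero =>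
    intro V _ _ _ f h
    haveI : Subsingleton V := Module.finrank_zero_iff.mp h
    exact ⟨Basis.empty V, fun i => i.elim0⟩
  | succ n ih =>
    intro V _ _ _ f h
    haveI : Nontrivial V := Module.nontrivial_of_finrank_pos (R := K) (by omega)
    obtain ⟨μ, hμ⟩ := Module.End.exists_eigenvalue (Module.Dual.transpose (R := K) f)
    obtain ⟨φ, hφ⟩ := hμ.exists_hasEigenvector
    have hφ0 : φ ≠ 0 := hφ.2
    have hφf : ∀ x, φ (f x) = μ * φ x := by
      intro x
      have h1 := hφ.apply_eq_smul
      have h2 := congrArg (fun ψ : Module.Dual K V => ψ x) h1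
      simpa [Module.Dual.transpose_apply] using h2
    have hH : ∀ x ∈ LinearMap.ker φ, f x ∈ LinearMap.ker φ := fun x hx => by
      rw [LinearMap.mem_ker, hφf, LinearMap.mem_ker.mp hx, mul_zero]
    have hHrank : Module.finrank K (LinearMap.ker φ) = n := by
      have := Module.Dual.finrank_ker_add_one_of_ne_zero hφ0
      omega
    obtain ⟨bH, hbH⟩ := ih (LinearMap.ker φ) (f.restrict hH) hHrank
    obtain ⟨y, hy⟩ : ∃ y, φ y ≠ 0 := by
      by_contra hcon
      push Not at hcon
      exact hφ0 (LinearMap.ext hcon)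
    have hli : ∀ (c : K), ∀ x ∈ LinearMap.ker φ, c • y + x = 0 → c = 0 := by
      intro c x hx hc
      have := congrArg φ hc
      rw [map_add, map_smul, LinearMap.mem_ker.mp hx, add_zero, map_zero, smul_eq_mul] at this
      rcases mul_eq_zero.mp this with h0 | h0
      · exact h0
      · exact absurd h0 hy
    have hsp : ∀ z : V, ∃ c : K, z + c • y ∈ LinearMap.ker φ := by
      intro z
      refine ⟨-(φ z / φ y), ?_⟩
      rw [LinearMap.mem_ker, map_add, map_smul, smul_eq_mul, neg_mul, div_mul_cancel₀ _ hy,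
        add_neg_cancel]
    refine ⟨Basis.mkFinCons y bH hli hsp, ?_⟩
    intro i j hij
    rw [LinearMap.toMatrix_apply]
    have hj0 : j ≠ 0 := by
      intro h0
      subst h0
      exact absurd hij (Fin.not_lt_zero i)
    obtain ⟨j', rfl⟩ : ∃ j', Fin.succ j' = j := Fin.exists_succ_eq.mpr hj0
    have hBs : ∀ i' : Fin n, Basis.mkFinCons y bH hli hsp (Fin.succ i') = (bH i' : V) := by
      intro i'
      rw [Basis.coe_mkFinCons, Fin.cons_succ]
      rfl
    have hB0 : Basis.mkFinCons y bH hli hsp 0 = y := by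
      rw [Basis.coe_mkFinCons, Fin.cons_zero]
    set z := (f.restrict hH) (bH j') with hz
    have hzV : f (Basis.mkFinCons y bH hli hsp (Fin.succ j')) = (z : V) := by
      rw [hBs, hz, LinearMap.coe_restrict_apply]
    have hzsum : (z : V) = ∑ i : Fin (n + 1), (Fin.cons 0 (fun i' => bH.repr z i') : Fin (n + 1) → K) i •
        Basis.mkFinCons y bH hli hsp i := by
      rw [Fin.sum_univ_succ, Fin.cons_zero, zero_smul, zero_add]
      simp only [Fin.cons_succ, hBs]
      conv_lhs => rw [← bH.sum_repr z]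
      rw [Submodule.coe_sum]
      rfl
    rw [hzV, hzsum, Basis.repr_sum_self]
    rcases Fin.eq_zero_or_eq_succ i with rfl | ⟨i', rfl⟩
    · rw [Fin.cons_zero]
    · rw [Fin.cons_succ]
      have := hbH i' j' (Fin.succ_lt_succ_iff.mp hij)
      rwa [LinearMap.toMatrix_apply] at this

end TriBasis


section Final

/-- the induced endomorphism of symmetric tensors -/
noncomputable def gam {A : Type*} [CommRing A] {M : Type*} [AddCommGroup M] [Module A M]
    (u : M →ₗ[A] M) (n : ℕ) : Gam A M n →ₗ[A] Gam A M n :=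
  (PiTensorProduct.map (fun _ : Fin n => u)).restrict (p := Gam A M n) (q := Gam A M n) (by
    intro x hx
    rw [mem_Gam_iff] at hx ⊢
    intro σ
    have := PiTensorProduct.map_reindex (R := A) (s := fun _ : Fin n => M)
      (t := fun _ : Fin n => M) (fun _ : Fin n => u) σ x
    rw [← this, hx σ])

theorem gam_coe {A : Type*} [CommRing A] {M : Type*} [AddCommGroup M] [Module A M]
    (u : M →ₗ[A] M) (n : ℕ) (x : Gam A M n) :
    ((gam u n x : Gam A M n) : ⨂[A] _i : Fin n, M) =
      PiTensorProduct.map (fun _ : Fin n => u) (x : ⨂[A] _i : Fin n, M) := rfl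

theorem MMstmt_field {K : Type} [Field K] [IsAlgClosed K] {r : ℕ}
    (U : Matrix (Fin r) (Fin r) K) : MMstmt U := by
  set u : (Fin r → K) →ₗ[K] (Fin r → K) := Matrix.toLin' U with hu
  have hU0 : LinearMap.toMatrix (Pi.basisFun K (Fin r)) (Pi.basisFun K (Fin r)) u = U := by
    rw [LinearMap.toMatrix_eq_toMatrix', hu, LinearMap.toMatrix'_toLin']
  obtain ⟨b₁, hb₁⟩ := exists_triangular_basis r (Fin r → K) u (Module.finrank_fin_fun K)
  have h1 := MMstmt_of_lowerTriangular (LinearMap.toMatrix b₁ b₁ u) hb₁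
  have hP : ∀ n, PP n U = PP n (LinearMap.toMatrix b₁ b₁ u) := by
    intro n
    rw [← trace_gamma b₁ u n (gam u n) (gam_coe u n), ← hU0,
      ← trace_gamma (Pi.basisFun K (Fin r)) u n (gam u n) (gam_coe u n)]
  have hD : detPoly U = detPoly (LinearMap.toMatrix b₁ b₁ u) := by
    rw [detPoly, detPoly, ← det_baseChange b₁ u, ← hU0, ← det_baseChange (Pi.basisFun K (Fin r)) u]
  rw [MMstmt, hD, funext hP]
  exact h1

theorem MMstmt_all {A : Type*} [CommRing A] {r : ℕ} (U : Matrix (Fin r) (Fin r) A) :
    MMstmt U := by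
  let X₀ : Matrix (Fin r) (Fin r) (MvPolynomial (Fin r × Fin r) ℤ) :=
    Matrix.mvPolynomialX (Fin r) (Fin r) ℤ
  let ι₀ : MvPolynomial (Fin r × Fin r) ℤ →+*
      AlgebraicClosure (FractionRing (MvPolynomial (Fin r × Fin r) ℤ)) :=
    (algebraMap (FractionRing (MvPolynomial (Fin r × Fin r) ℤ))
      (AlgebraicClosure (FractionRing (MvPolynomial (Fin r × Fin r) ℤ)))).comp
      (algebraMap (MvPolynomial (Fin r × Fin r) ℤ) (FractionRing (MvPolynomial (Fin r × Fin r) ℤ)))
  have hι : Function.Injective ι₀ :=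
    (algebraMap (FractionRing (MvPolynomial (Fin r × Fin r) ℤ))
      (AlgebraicClosure (FractionRing (MvPolynomial (Fin r × Fin r) ℤ)))).injective.comp
      (IsFractionRing.injective (MvPolynomial (Fin r × Fin r) ℤ) _)
  have h0 : MMstmt X₀ := MMstmt_of_injective ι₀ hι X₀ (MMstmt_field _)
  have hU : X₀.map (MvPolynomial.eval₂Hom (Int.castRingHom A) (fun p => U p.1 p.2)) = U :=
    Matrix.mvPolynomialX_map_eval₂ _ U
  rw [← hU]
  exact MMstmt_map _ X₀ h0

end Final

end Groth.Agent.Lib.Helper16MM
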