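import Mathlib
import Groth.Prelude.Def_W4c2arithlefschetzNode

set_option autoImplicit false
universe u

open MvPowerSeries

namespace Groth.Agent.Lib.Helper22

variable {B : Type u} [CommRing B]

/-- In `B[[x,y]]` over a domain `B`, if `C π * f = (xy - C π) * g` with `π ≠ 0`, then
`f` is a multiple of `xy - C π`. -/
theorem nodeAlg_C_mul_mem [IsDomain B] (π : B) (hπ : π ≠ 0) (f g : MvPowerSeries (Fin 2) B)
    (h : C π * f = (X 0 * X 1 - C π) * g) : ∃ g', f = (X 0 * X 1 - C π) * g' := by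
  classical
  set s : Fin 2 →₀ ℕ := Finsupp.single 0 1 + Finsupp.single 1 1 with hs
  have hX : (X 0 * X 1 : MvPowerSeries (Fin 2) B) = monomial s 1 := by
    rw [X_def, X_def, monomial_mul_monomial, one_mul]
  have h1 : monomial s (1 : B) * g = C π * (f + g) := by
    rw [← hX]; linear_combination -h
  have hg : ∀ n, coeff n g = π * coeff (s + n) (f + g) := by
    intro n
    rw [← coeff_C_mul, ← h1, coeff_add_monomial_mul, one_mul]
  let g' : MvPowerSeries (Fin 2) B := fun n => coeff (s + n) (f + g)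
  refine ⟨g', ?_⟩
  have hg' : g = C π * g' := by
    ext n
    rw [hg n, coeff_C_mul]
    rfl
  have h2 : C π * f = C π * ((X 0 * X 1 - C π) * g') := by
    rw [h]
    conv_lhs => rw [hg']
    ring
  ext n
  have := congrArg (coeff n) h2
  rw [coeff_C_mul, coeff_C_mul] at this
  exact mul_left_cancel₀ hπ this

/-- `π` is a non-zero-divisor in `B[[x,y]]/(xy - π)` for a domain `B` and `π ≠ 0`. -/
theorem nodeAlg_pi_regular [IsDomain B] (π : B) (hπ : π ≠ 0) (x : ArLef.NodeAlg B π)
    (hx : algebraMap B (ArLef.NodeAlg B π) π * x = 0) : x = 0 := by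
  obtain ⟨f, rfl⟩ := Ideal.Quotient.mk_surjective x
  have h1 : algebraMap B (ArLef.NodeAlg B π) π = Ideal.Quotient.mk _ (C π) := rfl
  rw [h1, ← map_mul, Ideal.Quotient.eq_zero_iff_mem, Ideal.mem_span_singleton'] at hx
  obtain ⟨g, hg⟩ := hx
  obtain ⟨g', rfl⟩ := nodeAlg_C_mul_mem π hπ f g (by rw [← hg]; ring)
  rw [Ideal.Quotient.eq_zero_iff_mem, Ideal.mem_span_singleton']
  exact ⟨g', by ring⟩

theorem nodeAlg_pi_pow_regular [IsDomain B] (π : B) (hπ : π ≠ 0) (j : ℕ) (x : ArLef.NodeAlg B π)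
    (hx : algebraMap B (ArLef.NodeAlg B π) π ^ j * x = 0) : x = 0 := by
  induction j with
  | zero => simpa using hx
  | succ j ih =>
    apply ih
    apply nodeAlg_pi_regular π hπ
    rw [← mul_assoc, ← pow_succ']
    exact hx

/-- `t * e = π` in the node algebra. -/
theorem nodeAlg_t_mul_e (π : B) :
    ArLef.NodeAlg.t π * ArLef.NodeAlg.e π = algebraMap B (ArLef.NodeAlg B π) π := by
  have h1 : algebraMap B (ArLef.NodeAlg B π) π = Ideal.Quotient.mk _ (C π) := rfl
  rw [h1, ← sub_eq_zero]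
  unfold ArLef.NodeAlg.t ArLef.NodeAlg.e
  rw [← map_mul, ← map_sub, Ideal.Quotient.eq_zero_iff_mem]
  exact Ideal.mem_span_singleton_self _

/-- The augmentation `B[[x,y]]/(xy - π) → B/π`, sending `x, y ↦ 0`. -/
noncomputable def nodeAlgAug (π : B) : ArLef.NodeAlg B π →+* B ⧸ Ideal.span ({π} : Set B) :=
  Ideal.Quotient.lift _ ((Ideal.Quotient.mk (Ideal.span ({π} : Set B))).comp
    (constantCoeff (σ := Fin 2) (R := B))) (by
      intro a ha
      rw [Ideal.mem_span_singleton'] at ha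
      obtain ⟨c, rfl⟩ := ha
      have : (Ideal.Quotient.mk (Ideal.span ({π} : Set B))) π = 0 :=
        Ideal.Quotient.eq_zero_iff_mem.mpr (Ideal.mem_span_singleton_self π)
      rw [RingHom.comp_apply, map_mul, map_sub, map_mul (constantCoeff (σ := Fin 2) (R := B)),
        constantCoeff_X, constantCoeff_C,
        zero_mul, zero_sub, map_mul, map_neg, this, neg_zero, mul_zero])

theorem nodeAlgAug_t (π : B) : nodeAlgAug π (ArLef.NodeAlg.t π) = 0 := by
  unfold nodeAlgAug ArLef.NodeAlg.t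
  rw [Ideal.Quotient.lift_mk, RingHom.comp_apply, constantCoeff_X, map_zero]

theorem nodeAlgAug_e (π : B) : nodeAlgAug π (ArLef.NodeAlg.e π) = 0 := by
  unfold nodeAlgAug ArLef.NodeAlg.e
  rw [Ideal.Quotient.lift_mk, RingHom.comp_apply, constantCoeff_X, map_zero]

theorem nodeAlgAug_algebraMap (π : B) (b : B) :
    nodeAlgAug π (algebraMap B (ArLef.NodeAlg B π) b) = Ideal.Quotient.mk _ b := by
  have h1 : algebraMap B (ArLef.NodeAlg B π) b = Ideal.Quotient.mk _ (C b) := rfl
  unfold nodeAlgAug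
  rw [h1, Ideal.Quotient.lift_mk, RingHom.comp_apply, constantCoeff_C]

end Groth.Agent.Lib.Helper22
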