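import Mathlib
import Groth.Prelude.Def_W4c2arithlefschetzNode
import Groth.Agent.Lib.Helper22NodeAlg

/-!
# Fixed-point ideals on the node algebra `B[[x,y]]/(xy - π)` (helper16)

`σ r - r ∈ J` for all `r` as soon as it holds for `r = t, e` (`σ` a `B`-algebra endomorphism
preserving `(t, e)`), by density of `B[t,e]` and Krull's intersection theorem.
-/

set_option autoImplicit false
set_option linter.style.haveILetI false
set_option linter.unusedSectionVars false
universe u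

open MvPowerSeries

namespace Groth.Agent.Lib.Helper16NodeFix

variable {B : Type u} [CommRing B] (π : B)

/-- the ideal `(t, e)` of the node algebra -/
noncomputable def mI : Ideal (ArLef.NodeAlg B π) :=
  Ideal.span {ArLef.NodeAlg.t π, ArLef.NodeAlg.e π}

theorem t_mem_mI : ArLef.NodeAlg.t π ∈ mI π := Ideal.subset_span (by simp)
theorem e_mem_mI : ArLef.NodeAlg.e π ∈ mI π := Ideal.subset_span (by simp)

theorem mI_le_jacobson : mI π ≤ Ideal.jacobson (⊥ : Ideal (ArLef.NodeAlg B π)) := by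
  intro x hx
  rw [Ideal.mem_jacobson_bot]
  intro y
  obtain ⟨a, b, rfl⟩ := Ideal.mem_span_pair.mp hx
  obtain ⟨a', rfl⟩ := Ideal.Quotient.mk_surjective a
  obtain ⟨b', rfl⟩ := Ideal.Quotient.mk_surjective b
  obtain ⟨y', rfl⟩ := Ideal.Quotient.mk_surjective y
  have hu : IsUnit ((a' * X 0 + b' * X 1) * y' + 1 : MvPowerSeries (Fin 2) B) := by
    rw [MvPowerSeries.isUnit_iff_constantCoeff]
    simp [map_add, map_mul, constantCoeff_X]
  have := hu.map (Ideal.Quotient.mk (Ideal.span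
    {(MvPowerSeries.X 0 * MvPowerSeries.X 1 - MvPowerSeries.C π : MvPowerSeries (Fin 2) B)}))
  convert this using 1
  simp only [map_add, map_mul, map_one]

theorem mk_coe_mem_adjoin (p : MvPolynomial (Fin 2) B) :
    (Ideal.Quotient.mk (Ideal.span
      {(MvPowerSeries.X 0 * MvPowerSeries.X 1 - MvPowerSeries.C π : MvPowerSeries (Fin 2) B)})
      (p : MvPowerSeries (Fin 2) B) : ArLef.NodeAlg B π) ∈
      Algebra.adjoin B ({ArLef.NodeAlg.t π, ArLef.NodeAlg.e π} : Set (ArLef.NodeAlg B π)) := by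
  induction p using MvPolynomial.induction_on with
  | C a =>
    rw [MvPolynomial.coe_C]
    exact Subalgebra.algebraMap_mem _ a
  | add p q hp hq =>
    rw [MvPolynomial.coe_add, map_add]
    exact add_mem hp hq
  | mul_X p i hp =>
    rw [MvPolynomial.coe_mul, MvPolynomial.coe_X, map_mul]
    refine mul_mem hp ?_
    fin_cases i
    · exact Algebra.subset_adjoin (by simp [ArLef.NodeAlg.t])
    · exact Algebra.subset_adjoin (by simp [ArLef.NodeAlg.e])

theorem exists_approx (r : ArLef.NodeAlg B π) (M : ℕ) :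
    ∃ r₀ ∈ Algebra.adjoin B ({ArLef.NodeAlg.t π, ArLef.NodeAlg.e π} : Set (ArLef.NodeAlg B π)),
      r - r₀ ∈ mI π ^ M := by
  classical
  obtain ⟨F, rfl⟩ := Ideal.Quotient.mk_surjective r
  let n₀ : Fin 2 →₀ ℕ := Finsupp.equivFunOnFinite.symm (fun _ => M)
  let p : MvPolynomial (Fin 2) B := trunc' B n₀ F
  let F₁ : MvPowerSeries (Fin 2) B := fun n => if M < n 0 then coeff n F else 0
  let F₂ : MvPowerSeries (Fin 2) B := fun n => if n 0 ≤ M ∧ M < n 1 then coeff n F else 0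
  have hle : ∀ n : Fin 2 →₀ ℕ, n ≤ n₀ ↔ n 0 ≤ M ∧ n 1 ≤ M := by
    intro n
    rw [Finsupp.le_def, Fin.forall_fin_two]
    simp [n₀]
  have hF : F = (p : MvPowerSeries (Fin 2) B) + F₁ + F₂ := by
    ext n
    rw [map_add, map_add, MvPolynomial.coeff_coe, coeff_trunc']
    have h1 : coeff n F₁ = if M < n 0 then coeff n F else 0 := rfl
    have h2 : coeff n F₂ = if n 0 ≤ M ∧ M < n 1 then coeff n F else 0 := rfl
    rw [h1, h2]
    by_cases c1 : M < n 0
    · rw [if_pos c1, if_neg (fun h => by have := (hle n).1 h; omega), if_neg (by omega)]; simp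
    · by_cases c2 : M < n 1
      · rw [if_neg c1, if_neg (fun h => by have := (hle n).1 h; omega), if_pos ⟨by omega, c2⟩]
        simp
      · rw [if_neg c1, if_pos ((hle n).2 ⟨by omega, by omega⟩), if_neg (by omega)]; simp
  have hd1 : (X 0 : MvPowerSeries (Fin 2) B) ^ (M + 1) ∣ F₁ := by
    rw [X_pow_dvd_iff]
    intro m hm
    exact if_neg (by omega)
  have hd2 : (X 1 : MvPowerSeries (Fin 2) B) ^ (M + 1) ∣ F₂ := by
    rw [X_pow_dvd_iff]
    intro m hm
    exact if_neg (by omega)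
  obtain ⟨G₁, hG₁⟩ := hd1
  obtain ⟨G₂, hG₂⟩ := hd2
  refine ⟨_, mk_coe_mem_adjoin π p, ?_⟩
  rw [← map_sub]
  have : F - (p : MvPowerSeries (Fin 2) B) = X 0 ^ (M + 1) * G₁ + X 1 ^ (M + 1) * G₂ := by
    rw [← hG₁, ← hG₂]
    conv_lhs => rw [hF]
    ring
  rw [this, map_add, map_mul, map_mul, map_pow, map_pow]
  refine Ideal.pow_le_pow_right (Nat.le_succ M) ?_
  refine add_mem (Ideal.mul_mem_right _ _ (Ideal.pow_mem_pow (t_mem_mI π) _))
    (Ideal.mul_mem_right _ _ (Ideal.pow_mem_pow (e_mem_mI π) _))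

variable {π}

theorem sub_mem_of_mem_adjoin (σ : ArLef.NodeAlg B π →ₐ[B] ArLef.NodeAlg B π)
    (J : Ideal (ArLef.NodeAlg B π))
    (ht : σ (ArLef.NodeAlg.t π) - ArLef.NodeAlg.t π ∈ J)
    (he : σ (ArLef.NodeAlg.e π) - ArLef.NodeAlg.e π ∈ J)
    {r : ArLef.NodeAlg B π}
    (hr : r ∈ Algebra.adjoin B ({ArLef.NodeAlg.t π, ArLef.NodeAlg.e π} : Set (ArLef.NodeAlg B π))) :
    σ r - r ∈ J := by
  induction hr using Algebra.adjoin_induction with
  | mem x hx =>
    rcases hx with rfl | hx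
    · exact ht
    · rw [Set.mem_singleton_iff] at hx
      subst hx
      exact he
  | algebraMap b => rw [AlgHom.commutes, sub_self]; exact J.zero_mem
  | add x y _ _ hx hy =>
    have : σ (x + y) - (x + y) = (σ x - x) + (σ y - y) := by rw [map_add]; ring
    rw [this]; exact add_mem hx hy
  | mul x y _ _ hx hy =>
    have : σ (x * y) - x * y = σ x * (σ y - y) + (σ x - x) * y := by rw [map_mul]; ring
    rw [this]
    exact add_mem (J.mul_mem_left _ hy) (J.mul_mem_right _ hx)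

theorem map_pow_mem (σ : ArLef.NodeAlg B π →ₐ[B] ArLef.NodeAlg B π)
    (ht : σ (ArLef.NodeAlg.t π) ∈ mI π) (he : σ (ArLef.NodeAlg.e π) ∈ mI π)
    (M : ℕ) {s : ArLef.NodeAlg B π} (hs : s ∈ mI π ^ M) : σ s ∈ mI π ^ M := by
  have h1 : Ideal.map σ (mI π) ≤ mI π := by
    unfold mI
    rw [Ideal.map_span, Ideal.span_le]
    rintro _ ⟨x, hx, rfl⟩
    rcases hx with rfl | hx
    · exact ht
    · rw [Set.mem_singleton_iff] at hx
      subst hx
      exact he
  have h2 : σ s ∈ Ideal.map σ (mI π ^ M) := Ideal.mem_map_of_mem σ hs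
  rw [Ideal.map_pow] at h2
  exact Ideal.pow_right_mono h1 M h2

/-- Main lemma: a `B`-algebra endomorphism of the node algebra preserving `(t,e)` is the identity
modulo any ideal `J` modulo which it fixes `t` and `e`. -/
theorem sub_mem_of_gens [IsNoetherianRing B]
    (σ : ArLef.NodeAlg B π →ₐ[B] ArLef.NodeAlg B π)
    (ht : σ (ArLef.NodeAlg.t π) ∈ mI π) (he : σ (ArLef.NodeAlg.e π) ∈ mI π)
    (J : Ideal (ArLef.NodeAlg B π))
    (htJ : σ (ArLef.NodeAlg.t π) - ArLef.NodeAlg.t π ∈ J)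
    (heJ : σ (ArLef.NodeAlg.e π) - ArLef.NodeAlg.e π ∈ J)
    (r : ArLef.NodeAlg B π) : σ r - r ∈ J := by
  have hK := Ideal.iInf_pow_smul_eq_bot_of_le_jacobson (M := ArLef.NodeAlg B π ⧸ J) (mI π)
    (mI_le_jacobson π)
  rw [← Ideal.Quotient.eq_zero_iff_mem, ← Submodule.mem_bot (R := ArLef.NodeAlg B π), ← hK,
    Submodule.mem_iInf]
  intro M
  obtain ⟨r₀, hr₀, hs⟩ := exists_approx π r M
  have h1 := sub_mem_of_mem_adjoin σ J htJ heJ hr₀
  have h2 : σ (r - r₀) - (r - r₀) ∈ mI π ^ M :=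
    sub_mem (map_pow_mem σ ht he M hs) hs
  have h3 : Ideal.Quotient.mk J (σ r - r) =
      (σ (r - r₀) - (r - r₀)) • (Ideal.Quotient.mk J 1 : ArLef.NodeAlg B π ⧸ J) := by
    rw [← Ideal.Quotient.eq_zero_iff_mem] at h1
    have e1 : σ r - r = (σ (r - r₀) - (r - r₀)) + (σ r₀ - r₀) := by rw [map_sub]; ring
    rw [e1, map_add, h1, add_zero]
    show _ = Ideal.Quotient.mk J ((σ (r - r₀) - (r - r₀)) * 1)
    rw [mul_one]
  rw [h3]
  exact Submodule.smul_mem_smul h2 Submodule.mem_top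

end Groth.Agent.Lib.Helper16NodeFix
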