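import Mathlib
import Groth.Prelude.Def_W4c2arithlefschetzNode
import Groth.Agent.Lib.Helper22NodeAlg
import Groth.Agent.Lib.Helper16NodeFix

/-!
# More on the node algebra `B[[x,y]]/(xy - π)` (helper16)

* `not_mem_sq`: `α e - t ∉ (t,e)^2` when `π` is not a unit;
* `pi_dvd_of_mul`: `α e - t` is a nonzerodivisor modulo `π` (for `π` prime, `α` a unit).
-/

set_option autoImplicit false
set_option linter.style.haveILetI false
set_option linter.unusedSectionVars false
universe u

open MvPowerSeries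

namespace Groth.Agent.Lib.Helper16NodeFix

variable {B : Type u} [CommRing B]

section general

variable {R : Type u} [CommRing R]

theorem one_le_order_of_mem_span_pair {G : MvPowerSeries (Fin 2) R}
    (hG : G ∈ Ideal.span ({X 0, X 1} : Set (MvPowerSeries (Fin 2) R))) : 1 ≤ G.order := by
  rw [one_le_order_iff_constCoeff_eq_zero]
  obtain ⟨a, b, rfl⟩ := Ideal.mem_span_pair.mp hG
  simp [map_add, map_mul, constantCoeff_X]

theorem two_le_order_of_mem_sq {G : MvPowerSeries (Fin 2) R}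
    (hG : G ∈ Ideal.span ({X 0, X 1} : Set (MvPowerSeries (Fin 2) R)) ^ 2) : 2 ≤ G.order := by
  rw [pow_two] at hG
  refine Submodule.mul_induction_on hG ?_ ?_
  · intro m hm n hn
    have h1 := one_le_order_of_mem_span_pair hm
    have h2 := one_le_order_of_mem_span_pair hn
    calc (2 : ℕ∞) = 1 + 1 := by norm_num
      _ ≤ m.order + n.order := add_le_add h1 h2
      _ ≤ (m * n).order := le_order_mul
  · intro x y hx hy
    exact le_trans (le_min hx hy) min_order_le_add

theorem coeff_single_of_mem_sq {G : MvPowerSeries (Fin 2) R}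
    (hG : G ∈ Ideal.span ({X 0, X 1} : Set (MvPowerSeries (Fin 2) R)) ^ 2) (i : Fin 2) :
    coeff (Finsupp.single i 1) G = 0 := by
  apply coeff_of_lt_order
  refine lt_of_lt_of_le ?_ (two_le_order_of_mem_sq hG)
  rw [Finsupp.degree_single]
  norm_num

theorem dvd_of_dvd_mul_X {s t : Fin 2} (hst : s ≠ t) {φ : MvPowerSeries (Fin 2) R}
    (h : (X s : MvPowerSeries (Fin 2) R) ∣ φ * X t) : (X s : MvPowerSeries (Fin 2) R) ∣ φ := by
  classical
  rw [X_dvd_iff] at h ⊢
  intro m hm
  have := h (m + Finsupp.single t 1) (by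
    rw [Finsupp.add_apply, hm, Finsupp.single_apply, if_neg (Ne.symm hst), add_zero])
  rw [X_def, coeff_add_mul_monomial, mul_one] at this
  exact this

theorem coeff_single_mul_X_of_ne {s t : Fin 2} (hst : s ≠ t) (φ : MvPowerSeries (Fin 2) R) :
    coeff (Finsupp.single s 1) (φ * X t) = 0 := by
  classical
  have h : (X t : MvPowerSeries (Fin 2) R) ∣ φ * X t := Dvd.intro_left φ rfl
  rw [X_dvd_iff] at h
  exact h _ (by rw [Finsupp.single_apply, if_neg hst])

theorem map_surj {S : Type u} [CommRing S] (f : R →+* S) (hf : Function.Surjective f)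
    (g : MvPowerSeries (Fin 2) S) : ∃ G : MvPowerSeries (Fin 2) R, MvPowerSeries.map f G = g := by
  refine ⟨fun m => Function.surjInv hf (coeff m g), ?_⟩
  ext m
  rw [coeff_map]
  exact Function.surjInv_eq hf _

end general

variable (π : B)

/-- `α e - t` is not in `(t, e)^2` (for any `α`) if `π` is not a unit. -/
theorem not_mem_sq (hπ : ¬ IsUnit π) (α : ArLef.NodeAlg B π) :
    α * ArLef.NodeAlg.e π - ArLef.NodeAlg.t π ∉ mI π ^ 2 := by
  classical
  intro hmem
  obtain ⟨U, rfl⟩ := Ideal.Quotient.mk_surjective α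
  have hmap : mI π = Ideal.map (Ideal.Quotient.mk (Ideal.span
      {(MvPowerSeries.X 0 * MvPowerSeries.X 1 - MvPowerSeries.C π : MvPowerSeries (Fin 2) B)}))
      (Ideal.span ({X 0, X 1} : Set (MvPowerSeries (Fin 2) B))) := by
    unfold mI
    rw [Ideal.map_span]
    congr 1
    simp [Set.image_pair]
  rw [hmap, ← Ideal.map_pow] at hmem
  obtain ⟨G, hG, hGeq⟩ := (Ideal.mem_map_iff_of_surjective _ Ideal.Quotient.mk_surjective).mp hmem
  have h1 : G - (U * X 1 - X 0) ∈ Ideal.span
      {(MvPowerSeries.X 0 * MvPowerSeries.X 1 - MvPowerSeries.C π : MvPowerSeries (Fin 2) B)} := by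
    rw [← Ideal.Quotient.eq_zero_iff_mem, map_sub, hGeq, map_sub, map_mul]
    exact sub_self _
  obtain ⟨c, hc⟩ := Ideal.mem_span_singleton'.mp h1
  have h2 := congrArg (coeff (Finsupp.single (0 : Fin 2) 1)) hc
  have e1 : coeff (Finsupp.single (0 : Fin 2) 1) (c * (X 0 * X 1 - C π)) =
      - (coeff (Finsupp.single (0 : Fin 2) 1) c * π) := by
    have : c * (X 0 * X 1 - C π) = (c * X 0) * X 1 - c * C π := by ring
    rw [this, map_sub, coeff_single_mul_X_of_ne (by decide), zero_sub, mul_comm c (C π),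
      coeff_C_mul, mul_comm]
  have e2 : coeff (Finsupp.single (0 : Fin 2) 1) (G - (U * X 1 - X 0)) = 1 := by
    rw [map_sub, map_sub, coeff_single_of_mem_sq hG, coeff_single_mul_X_of_ne (by decide),
      coeff_index_single_X, if_pos rfl]
    ring
  rw [e1, e2] at h2
  apply hπ
  refine IsUnit.of_mul_eq_one (-(coeff (Finsupp.single (0 : Fin 2) 1) c)) ?_
  linear_combination h2

/-- `α e - t` is a nonzerodivisor modulo `π` in the node algebra. -/
theorem pi_dvd_of_mul [IsDomain B] (hπ : Prime π) (α : (ArLef.NodeAlg B π)ˣ)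
    (c w : ArLef.NodeAlg B π)
    (h : c * ((α : ArLef.NodeAlg B π) * ArLef.NodeAlg.e π - ArLef.NodeAlg.t π) =
      algebraMap B (ArLef.NodeAlg B π) π * w) :
    ∃ c', c = algebraMap B (ArLef.NodeAlg B π) π * c' := by
  classical
  haveI : (Ideal.span ({π} : Set B)).IsPrime := (Ideal.span_singleton_prime hπ.ne_zero).2 hπ
  let k := B ⧸ Ideal.span ({π} : Set B)
  let ρ : MvPowerSeries (Fin 2) B →+* MvPowerSeries (Fin 2) k :=
    MvPowerSeries.map (Ideal.Quotient.mk (Ideal.span ({π} : Set B)))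
  have hρπ : ρ (C π) = 0 := by
    show MvPowerSeries.map _ (C π) = 0
    rw [map_C, Ideal.Quotient.eq_zero_iff_mem.2 (Ideal.mem_span_singleton_self π), map_zero]
  have hρX : ∀ i, ρ (X i) = X i := fun i => map_X _ i
  obtain ⟨U, hU⟩ := Ideal.Quotient.mk_surjective (α : ArLef.NodeAlg B π)
  obtain ⟨V, hV⟩ := Ideal.Quotient.mk_surjective ((α⁻¹ : (ArLef.NodeAlg B π)ˣ) : ArLef.NodeAlg B π)
  obtain ⟨C', rfl⟩ := Ideal.Quotient.mk_surjective c
  obtain ⟨W, rfl⟩ := Ideal.Quotient.mk_surjective w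
  -- ρ U is a unit
  have hUV : U * V - 1 ∈ Ideal.span
      {(MvPowerSeries.X 0 * MvPowerSeries.X 1 - MvPowerSeries.C π : MvPowerSeries (Fin 2) B)} := by
    rw [← Ideal.Quotient.eq_zero_iff_mem, map_sub, map_mul, hU, hV, Units.mul_inv, map_one,
      sub_self]
  obtain ⟨Q, hQ⟩ := Ideal.mem_span_singleton'.mp hUV
  have hρU : IsUnit (ρ U) := by
    rw [MvPowerSeries.isUnit_iff_constantCoeff]
    have := congrArg (fun F => constantCoeff (ρ F)) hQ
    simp only [map_mul, map_sub, hρπ, hρX, constantCoeff_X, map_one, mul_zero, sub_zero] at this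
    refine IsUnit.of_mul_eq_one (constantCoeff (ρ V)) ?_
    linear_combination -this
  -- the equation
  have hmem : C' * (U * X 1 - X 0) - C π * W ∈ Ideal.span
      {(MvPowerSeries.X 0 * MvPowerSeries.X 1 - MvPowerSeries.C π : MvPowerSeries (Fin 2) B)} := by
    rw [← Ideal.Quotient.eq_zero_iff_mem, map_sub, map_mul, map_sub, map_mul, hU, sub_eq_zero]
    rw [map_mul]
    exact h
  obtain ⟨D, hD⟩ := Ideal.mem_span_singleton'.mp hmem
  have hρeq : ρ C' * (ρ U * X 1 - X 0) = ρ D * (X 0 * X 1) := by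
    have := congrArg ρ hD
    simp only [map_mul, map_sub, hρπ, hρX, zero_mul, sub_zero] at this
    exact this.symm
  -- X0 ∣ ρ C'
  have hd0 : (X 0 : MvPowerSeries (Fin 2) k) ∣ ρ C' := by
    have h1 : (X 0 : MvPowerSeries (Fin 2) k) ∣ (ρ C' * ρ U) * X 1 :=
      ⟨ρ C' + ρ D * X 1, by linear_combination hρeq⟩
    exact (hρU.dvd_mul_right).1 (dvd_of_dvd_mul_X (by decide) h1)
  obtain ⟨c₁, hc₁⟩ := hd0
  have hX0 : (X 0 : MvPowerSeries (Fin 2) k) ≠ 0 := by
    intro h0
    have := congrArg (coeff (Finsupp.single (0 : Fin 2) 1)) h0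
    rw [coeff_index_single_X, if_pos rfl, map_zero] at this
    exact one_ne_zero this
  have hρeq2 : c₁ * (ρ U * X 1 - X 0) = ρ D * X 1 := by
    apply mul_left_cancel₀ hX0
    rw [hc₁] at hρeq
    linear_combination hρeq
  have hd1 : (X 1 : MvPowerSeries (Fin 2) k) ∣ c₁ := by
    have h1 : (X 1 : MvPowerSeries (Fin 2) k) ∣ c₁ * X 0 :=
      ⟨c₁ * ρ U - ρ D, by linear_combination -hρeq2⟩
    exact dvd_of_dvd_mul_X (by decide) h1
  obtain ⟨c₂, hc₂⟩ := hd1
  obtain ⟨E, hE⟩ := map_surj (Ideal.Quotient.mk (Ideal.span ({π} : Set B)))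
    Ideal.Quotient.mk_surjective c₂
  have hker : ρ (C' - X 0 * X 1 * E) = 0 := by
    rw [map_sub, map_mul, map_mul, hρX, hρX, hc₁, hc₂]
    show _ - X 0 * X 1 * MvPowerSeries.map _ E = 0
    rw [hE]; ring
  have hcoef : ∀ m, ∃ b : B, coeff m (C' - X 0 * X 1 * E) = π * b := by
    intro m
    have := congrArg (coeff m) hker
    rw [show ρ (C' - X 0 * X 1 * E) = MvPowerSeries.map _ (C' - X 0 * X 1 * E) from rfl,
      coeff_map, map_zero, Ideal.Quotient.eq_zero_iff_mem, Ideal.mem_span_singleton'] at this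
    obtain ⟨b, hb⟩ := this
    exact ⟨b, by rw [← hb, mul_comm]⟩
  choose bf hbf using hcoef
  let E' : MvPowerSeries (Fin 2) B := fun m => bf m
  have hC' : C' = X 0 * X 1 * E + C π * E' := by
    have : C' - X 0 * X 1 * E = C π * E' := by
      ext m
      rw [hbf m, coeff_C_mul]
      rfl
    linear_combination this
  refine ⟨Ideal.Quotient.mk _ (E + E'), ?_⟩
  have hπ' : algebraMap B (ArLef.NodeAlg B π) π = Ideal.Quotient.mk _ (C π) := rfl
  rw [hπ', ← map_mul, ← sub_eq_zero, ← map_sub, Ideal.Quotient.eq_zero_iff_mem,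
    Ideal.mem_span_singleton']
  refine ⟨E, ?_⟩
  rw [hC']; ring

end Groth.Agent.Lib.Helper16NodeFix
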