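import Mathlib
import Groth.Prelude.Def_W4c2arithlefschetzNode
import Groth.Agent.Lib.Helper22NodeAlg
import Groth.Agent.Lib.Helper16NodeFix
import Groth.Agent.Lib.Helper16NodeFix2

/-!
# The branches `t`, `e` are prime in the node algebra `B[[x,y]]/(xy - π)` (helper16)
-/

set_option autoImplicit false
set_option linter.style.haveILetI false
set_option linter.unusedSectionVars false
universe u

open MvPowerSeries

namespace Groth.Agent.Lib.Helper16NodeFix

section general

variable {R : Type u} [CommRing R]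

/-- `X s` is prime in a multivariate power series ring over a domain. -/
theorem X_prime' [IsDomain R] {ι : Type*} (s : ι) : Prime (X s : MvPowerSeries ι R) := by
  classical
  let e : {j : ι // j ≠ s} ↪ ι := Function.Embedding.subtype _
  have hs : s ∉ Set.range e := by
    rintro ⟨⟨j, hj⟩, hjs⟩
    exact hj hjs
  have hker : ∀ F : MvPowerSeries ι R, ((X s : MvPowerSeries ι R) ∣ F) ↔ killCompl e F = 0 := by
    intro F
    rw [X_dvd_iff]
    constructor
    · intro h
      ext x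
      rw [coeff_killCompl, map_zero]
      apply h
      exact Finsupp.embDomain_notin_range e x s hs
    · intro h m hm
      have : m ∈ Set.range (Finsupp.embDomain e) := by
        rw [Finsupp.mem_range_embDomain_iff]
        intro j hj
        refine ⟨⟨j, ?_⟩, rfl⟩
        rintro rfl
        exact (Finsupp.mem_support_iff.mp hj) hm
      obtain ⟨x, rfl⟩ := this
      rw [← coeff_killCompl, h, map_zero]
  refine ⟨?_, ?_, ?_⟩
  · intro h0
    have := congrArg (coeff (Finsupp.single s 1)) h0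
    rw [coeff_index_single_X, if_pos rfl, map_zero] at this
    exact one_ne_zero this
  · rw [MvPowerSeries.isUnit_iff_constantCoeff, constantCoeff_X]
    exact not_isUnit_zero
  · intro a b hab
    rw [hker] at hab
    rw [hker, hker]
    rw [map_mul] at hab
    exact mul_eq_zero.mp hab

end general

variable {B : Type u} [CommRing B] (π : B)

/-- reduction mod `π` on power series -/
noncomputable def rho : MvPowerSeries (Fin 2) B →+*
    MvPowerSeries (Fin 2) (B ⧸ Ideal.span ({π} : Set B)) :=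
  MvPowerSeries.map (Ideal.Quotient.mk (Ideal.span ({π} : Set B)))

theorem rho_C_pi : rho π (C π) = 0 := by
  unfold rho
  rw [map_C, Ideal.Quotient.eq_zero_iff_mem.2 (Ideal.mem_span_singleton_self π), map_zero]

theorem rho_X (i : Fin 2) : rho π (X i) = X i := map_X _ i

theorem rho_surj (g : MvPowerSeries (Fin 2) (B ⧸ Ideal.span ({π} : Set B))) :
    ∃ G, rho π G = g :=
  map_surj _ Ideal.Quotient.mk_surjective g

theorem exists_C_mul_of_rho_eq_zero (F : MvPowerSeries (Fin 2) B) (h : rho π F = 0) :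
    ∃ E : MvPowerSeries (Fin 2) B, F = C π * E := by
  have hcoef : ∀ m, ∃ b : B, coeff m F = π * b := by
    intro m
    have := congrArg (coeff m) h
    unfold rho at this
    rw [coeff_map, map_zero, Ideal.Quotient.eq_zero_iff_mem, Ideal.mem_span_singleton'] at this
    obtain ⟨b, hb⟩ := this
    exact ⟨b, by rw [← hb, mul_comm]⟩
  choose bf hbf using hcoef
  refine ⟨fun m => bf m, ?_⟩
  ext m
  rw [hbf m, coeff_C_mul]
  rfl

theorem mk_C_pi : (Ideal.Quotient.mk (Ideal.span
    {(MvPowerSeries.X 0 * MvPowerSeries.X 1 - MvPowerSeries.C π : MvPowerSeries (Fin 2) B)})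
    (C π) : ArLef.NodeAlg B π) = ArLef.NodeAlg.t π * ArLef.NodeAlg.e π := by
  rw [Groth.Agent.Lib.Helper22.nodeAlg_t_mul_e]
  rfl

theorem t_dvd_iff (F : MvPowerSeries (Fin 2) B) :
    ArLef.NodeAlg.t π ∣ (Ideal.Quotient.mk (Ideal.span
    {(MvPowerSeries.X 0 * MvPowerSeries.X 1 - MvPowerSeries.C π : MvPowerSeries (Fin 2) B)}) F :
      ArLef.NodeAlg B π) ↔
      (X 0 : MvPowerSeries (Fin 2) (B ⧸ Ideal.span ({π} : Set B))) ∣ rho π F := by
  constructor
  · rintro ⟨a, ha⟩
    obtain ⟨A, rfl⟩ := Ideal.Quotient.mk_surjective a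
    unfold ArLef.NodeAlg.t at ha
    rw [← map_mul, ← sub_eq_zero, ← map_sub, Ideal.Quotient.eq_zero_iff_mem,
      Ideal.mem_span_singleton'] at ha
    obtain ⟨D, hD⟩ := ha
    have := congrArg (rho π) hD
    simp only [map_mul, map_sub, rho_C_pi, rho_X, sub_zero] at this
    exact ⟨rho π A + rho π D * X 1, by linear_combination -this⟩
  · rintro ⟨g, hg⟩
    obtain ⟨A₁, rfl⟩ := rho_surj π g
    have h0 : rho π (F - X 0 * A₁) = 0 := by
      rw [map_sub, map_mul, rho_X, hg, sub_self]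
    obtain ⟨A₂, hA₂⟩ := exists_C_mul_of_rho_eq_zero π _ h0
    have hF : F = X 0 * A₁ + C π * A₂ := by linear_combination hA₂
    refine ⟨Ideal.Quotient.mk _ A₁ + ArLef.NodeAlg.e π * Ideal.Quotient.mk _ A₂, ?_⟩
    rw [hF, map_add, map_mul, map_mul, mk_C_pi]
    unfold ArLef.NodeAlg.t
    ring

theorem e_dvd_iff (F : MvPowerSeries (Fin 2) B) :
    ArLef.NodeAlg.e π ∣ (Ideal.Quotient.mk (Ideal.span
    {(MvPowerSeries.X 0 * MvPowerSeries.X 1 - MvPowerSeries.C π : MvPowerSeries (Fin 2) B)}) F :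
      ArLef.NodeAlg B π) ↔
      (X 1 : MvPowerSeries (Fin 2) (B ⧸ Ideal.span ({π} : Set B))) ∣ rho π F := by
  constructor
  · rintro ⟨a, ha⟩
    obtain ⟨A, rfl⟩ := Ideal.Quotient.mk_surjective a
    unfold ArLef.NodeAlg.e at ha
    rw [← map_mul, ← sub_eq_zero, ← map_sub, Ideal.Quotient.eq_zero_iff_mem,
      Ideal.mem_span_singleton'] at ha
    obtain ⟨D, hD⟩ := ha
    have := congrArg (rho π) hD
    simp only [map_mul, map_sub, rho_C_pi, rho_X, sub_zero] at this
    exact ⟨rho π A + rho π D * X 0, by linear_combination -this⟩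
  · rintro ⟨g, hg⟩
    obtain ⟨A₁, rfl⟩ := rho_surj π g
    have h0 : rho π (F - X 1 * A₁) = 0 := by
      rw [map_sub, map_mul, rho_X, hg, sub_self]
    obtain ⟨A₂, hA₂⟩ := exists_C_mul_of_rho_eq_zero π _ h0
    have hF : F = X 1 * A₁ + C π * A₂ := by linear_combination hA₂
    refine ⟨Ideal.Quotient.mk _ A₁ + ArLef.NodeAlg.t π * Ideal.Quotient.mk _ A₂, ?_⟩
    rw [hF, map_add, map_mul, map_mul, mk_C_pi]
    unfold ArLef.NodeAlg.e
    ring

theorem nontrivial_quot (hπ : ¬ IsUnit π) : Nontrivial (B ⧸ Ideal.span ({π} : Set B)) := by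
  rw [Ideal.Quotient.nontrivial_iff]
  intro h
  exact hπ (Ideal.span_singleton_eq_top.mp h)

theorem not_isUnit_t (hπ : ¬ IsUnit π) : ¬ IsUnit (ArLef.NodeAlg.t π) := by
  intro h
  haveI := nontrivial_quot π hπ
  have := h.map (Groth.Agent.Lib.Helper22.nodeAlgAug π)
  rw [Groth.Agent.Lib.Helper22.nodeAlgAug_t] at this
  exact not_isUnit_zero this

theorem not_isUnit_e (hπ : ¬ IsUnit π) : ¬ IsUnit (ArLef.NodeAlg.e π) := by
  intro h
  haveI := nontrivial_quot π hπ
  have := h.map (Groth.Agent.Lib.Helper22.nodeAlgAug π)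
  rw [Groth.Agent.Lib.Helper22.nodeAlgAug_e] at this
  exact not_isUnit_zero this

theorem t_regular [IsDomain B] (hπ : π ≠ 0) (z : ArLef.NodeAlg B π)
    (h : ArLef.NodeAlg.t π * z = 0) : z = 0 := by
  apply Groth.Agent.Lib.Helper22.nodeAlg_pi_regular π hπ
  rw [← Groth.Agent.Lib.Helper22.nodeAlg_t_mul_e]
  linear_combination (ArLef.NodeAlg.e π) * h

theorem e_regular [IsDomain B] (hπ : π ≠ 0) (z : ArLef.NodeAlg B π)
    (h : ArLef.NodeAlg.e π * z = 0) : z = 0 := by
  apply Groth.Agent.Lib.Helper22.nodeAlg_pi_regular π hπ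
  rw [← Groth.Agent.Lib.Helper22.nodeAlg_t_mul_e]
  linear_combination (ArLef.NodeAlg.t π) * h

theorem t_prime [IsDomain B] (hπ : Prime π) : Prime (ArLef.NodeAlg.t π) := by
  haveI : (Ideal.span ({π} : Set B)).IsPrime := (Ideal.span_singleton_prime hπ.ne_zero).2 hπ
  refine ⟨?_, not_isUnit_t π hπ.not_unit, ?_⟩
  · intro h0
    apply not_isUnit_t π hπ.not_unit
    have : (1 : ArLef.NodeAlg B π) = 0 := by
      apply Groth.Agent.Lib.Helper22.nodeAlg_pi_regular π hπ.ne_zero
      rw [← Groth.Agent.Lib.Helper22.nodeAlg_t_mul_e, h0]; ring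
    rw [h0, ← this]
    exact isUnit_one
  · intro a b hab
    obtain ⟨F, rfl⟩ := Ideal.Quotient.mk_surjective a
    obtain ⟨G, rfl⟩ := Ideal.Quotient.mk_surjective b
    rw [← map_mul, t_dvd_iff, map_mul] at hab
    rw [t_dvd_iff, t_dvd_iff]
    exact (X_prime' (0 : Fin 2)).dvd_or_dvd hab

theorem e_prime [IsDomain B] (hπ : Prime π) : Prime (ArLef.NodeAlg.e π) := by
  haveI : (Ideal.span ({π} : Set B)).IsPrime := (Ideal.span_singleton_prime hπ.ne_zero).2 hπ
  refine ⟨?_, not_isUnit_e π hπ.not_unit, ?_⟩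
  · intro h0
    apply not_isUnit_e π hπ.not_unit
    have : (1 : ArLef.NodeAlg B π) = 0 := by
      apply Groth.Agent.Lib.Helper22.nodeAlg_pi_regular π hπ.ne_zero
      rw [← Groth.Agent.Lib.Helper22.nodeAlg_t_mul_e, h0]; ring
    rw [h0, ← this]
    exact isUnit_one
  · intro a b hab
    obtain ⟨F, rfl⟩ := Ideal.Quotient.mk_surjective a
    obtain ⟨G, rfl⟩ := Ideal.Quotient.mk_surjective b
    rw [← map_mul, e_dvd_iff, map_mul] at hab
    rw [e_dvd_iff, e_dvd_iff]
    exact (X_prime' (1 : Fin 2)).dvd_or_dvd hab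

theorem not_e_dvd_t (hπ : ¬ IsUnit π) : ¬ ArLef.NodeAlg.e π ∣ ArLef.NodeAlg.t π := by
  classical
  haveI := nontrivial_quot π hπ
  unfold ArLef.NodeAlg.t
  rw [e_dvd_iff, rho_X, X_dvd_iff]
  intro h
  have := h (Finsupp.single 0 1) (by rw [Finsupp.single_apply, if_neg (by decide)])
  rw [coeff_index_single_X, if_pos rfl] at this
  exact one_ne_zero this

theorem not_t_dvd_e (hπ : ¬ IsUnit π) : ¬ ArLef.NodeAlg.t π ∣ ArLef.NodeAlg.e π := by
  classical
  haveI := nontrivial_quot π hπ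
  unfold ArLef.NodeAlg.e
  rw [t_dvd_iff, rho_X, X_dvd_iff]
  intro h
  have := h (Finsupp.single 1 1) (by rw [Finsupp.single_apply, if_neg (by decide)])
  rw [coeff_index_single_X, if_pos rfl] at this
  exact one_ne_zero this

theorem pi_dvd_of_t_dvd_of_e_dvd [IsDomain B] (hπ : Prime π) {y : ArLef.NodeAlg B π}
    (h1 : ArLef.NodeAlg.t π ∣ y) (h2 : ArLef.NodeAlg.e π ∣ y) :
    algebraMap B (ArLef.NodeAlg B π) π ∣ y := by
  obtain ⟨a, rfl⟩ := h1
  rcases (e_prime π hπ).dvd_or_dvd h2 with h | h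
  · exact absurd h (not_e_dvd_t π hπ.not_unit)
  · obtain ⟨a', rfl⟩ := h
    exact ⟨a', by rw [← Groth.Agent.Lib.Helper22.nodeAlg_t_mul_e]; ring⟩

end Groth.Agent.Lib.Helper16NodeFix
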