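import Mathlib
import Groth.Prelude.Def_W4c2arithlefschetzNode
import Groth.Agent.Lib.Helper22NodeAlg
import Groth.Agent.Lib.Helper16NodeFix
import Groth.Agent.Lib.Helper16NodeFix2
import Groth.Agent.Lib.Helper16NodeFix3

/-!
# Lengths over the node algebra (helper16)

* `length_inf_add_sup`: `ℓ(A/(J₁ ⊓ J₂)) + ℓ(A/(J₁ ⊔ J₂)) = ℓ(A/J₁) + ℓ(A/J₂)`;
* `mI_isMaximal`: `(t, e)` is maximal in `B[[x,y]]/(xy - π)` when `(π)` is maximal in `B`;
* `span_t_inf_span_e`: `(t) ⊓ (e) = ⊥` in `B[[x,y]]/(xy)`.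
-/

set_option autoImplicit false
set_option linter.style.haveILetI false
set_option linter.unusedSectionVars false
universe u

open MvPowerSeries

namespace Groth.Agent.Lib.Helper16NodeFix

theorem length_inf_add_sup {A : Type u} [CommRing A] (J₁ J₂ : Ideal A) :
    Module.length A (A ⧸ (J₁ ⊓ J₂)) + Module.length A (A ⧸ (J₁ ⊔ J₂)) =
      Module.length A (A ⧸ J₁) + Module.length A (A ⧸ J₂) := by
  let f₁ : (A ⧸ (J₁ ⊓ J₂)) →ₗ[A] (A ⧸ J₁) :=
    Submodule.mapQ (J₁ ⊓ J₂) J₁ LinearMap.id (by rw [Submodule.comap_id]; exact inf_le_left)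
  let f₂ : (A ⧸ (J₁ ⊓ J₂)) →ₗ[A] (A ⧸ J₂) :=
    Submodule.mapQ (J₁ ⊓ J₂) J₂ LinearMap.id (by rw [Submodule.comap_id]; exact inf_le_right)
  let g₁ : (A ⧸ J₁) →ₗ[A] (A ⧸ (J₁ ⊔ J₂)) :=
    Submodule.mapQ J₁ (J₁ ⊔ J₂) LinearMap.id (by rw [Submodule.comap_id]; exact le_sup_left)
  let g₂ : (A ⧸ J₂) →ₗ[A] (A ⧸ (J₁ ⊔ J₂)) :=
    Submodule.mapQ J₂ (J₁ ⊔ J₂) LinearMap.id (by rw [Submodule.comap_id]; exact le_sup_right)
  let f : (A ⧸ (J₁ ⊓ J₂)) →ₗ[A] (A ⧸ J₁) × (A ⧸ J₂) := f₁.prod f₂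
  let g : (A ⧸ J₁) × (A ⧸ J₂) →ₗ[A] (A ⧸ (J₁ ⊔ J₂)) := g₁.coprod (-g₂)
  have hf : Function.Injective f := by
    rw [← LinearMap.ker_eq_bot, LinearMap.ker_eq_bot']
    intro m hm
    obtain ⟨a, rfl⟩ := Submodule.Quotient.mk_surjective _ m
    have h1 : f₁ (Submodule.Quotient.mk a) = 0 := congrArg Prod.fst hm
    have h2 : f₂ (Submodule.Quotient.mk a) = 0 := congrArg Prod.snd hm
    rw [Submodule.mapQ_apply, Submodule.Quotient.mk_eq_zero] at h1 h2
    rw [Submodule.Quotient.mk_eq_zero]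
    exact ⟨h1, h2⟩
  have hg : Function.Surjective g := by
    intro m
    obtain ⟨a, rfl⟩ := Submodule.Quotient.mk_surjective _ m
    refine ⟨(Submodule.Quotient.mk a, 0), ?_⟩
    show g₁ (Submodule.Quotient.mk a) + (-g₂) 0 = _
    rw [map_zero, add_zero, Submodule.mapQ_apply]
    rfl
  have hex : Function.Exact f g := by
    rintro ⟨m₁, m₂⟩
    obtain ⟨a, rfl⟩ := Submodule.Quotient.mk_surjective _ m₁
    obtain ⟨b, rfl⟩ := Submodule.Quotient.mk_surjective _ m₂
    have hgab : g (Submodule.Quotient.mk a, Submodule.Quotient.mk b) =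
        Submodule.Quotient.mk (a - b) := by
      show g₁ (Submodule.Quotient.mk a) + (-g₂) (Submodule.Quotient.mk b) = _
      rw [LinearMap.neg_apply, Submodule.mapQ_apply, Submodule.mapQ_apply, ← sub_eq_add_neg,
        ← Submodule.Quotient.mk_sub]
      rfl
    rw [hgab, Submodule.Quotient.mk_eq_zero]
    constructor
    · intro hab
      obtain ⟨j₁, hj₁, j₂, hj₂, hj⟩ := Submodule.mem_sup.mp hab
      refine ⟨Submodule.Quotient.mk (a - j₁), ?_⟩
      show (f₁ (Submodule.Quotient.mk (a - j₁)), f₂ (Submodule.Quotient.mk (a - j₁))) = _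
      rw [Submodule.mapQ_apply, Submodule.mapQ_apply]
      refine Prod.ext ?_ ?_
      · show Submodule.Quotient.mk (a - j₁) = Submodule.Quotient.mk a
        rw [Submodule.Quotient.eq]
        have : a - j₁ - a = -j₁ := by ring
        rw [this]; exact J₁.neg_mem hj₁
      · show Submodule.Quotient.mk (a - j₁) = Submodule.Quotient.mk b
        rw [Submodule.Quotient.eq]
        have : a - j₁ - b = j₂ := by linear_combination -hj
        rw [this]; exact hj₂
    · rintro ⟨z, hz⟩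
      obtain ⟨c, rfl⟩ := Submodule.Quotient.mk_surjective _ z
      have h1 : f₁ (Submodule.Quotient.mk c) = Submodule.Quotient.mk a := congrArg Prod.fst hz
      have h2 : f₂ (Submodule.Quotient.mk c) = Submodule.Quotient.mk b := congrArg Prod.snd hz
      rw [Submodule.mapQ_apply, LinearMap.id_apply, Submodule.Quotient.eq] at h1 h2
      have : a - b = -(c - a) + (c - b) := by ring
      rw [this]
      exact add_mem (Ideal.mem_sup_left (J₁.neg_mem h1)) (Ideal.mem_sup_right h2)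
  rw [← Module.length_prod A (A ⧸ J₁) (A ⧸ J₂), Module.length_eq_add_of_exact f g hf hg hex]

variable {B : Type u} [CommRing B] (π : B)

/-- a power series minus its constant term maps into `(t, e)` -/
theorem mk_sub_const_mem_mI (F : MvPowerSeries (Fin 2) B) :
    (Ideal.Quotient.mk (Ideal.span
    {(MvPowerSeries.X 0 * MvPowerSeries.X 1 - MvPowerSeries.C π : MvPowerSeries (Fin 2) B)}) F :
      ArLef.NodeAlg B π) - algebraMap B (ArLef.NodeAlg B π) (constantCoeff F) ∈ mI π := by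
  classical
  let F₁ : MvPowerSeries (Fin 2) B := fun n => if 0 < n 0 then coeff n F else 0
  let F₂ : MvPowerSeries (Fin 2) B := fun n => if n 0 = 0 ∧ 0 < n 1 then coeff n F else 0
  have hF : F = C (constantCoeff F) + F₁ + F₂ := by
    ext n
    rw [map_add, map_add, coeff_C]
    have h1 : coeff n F₁ = if 0 < n 0 then coeff n F else 0 := rfl
    have h2 : coeff n F₂ = if n 0 = 0 ∧ 0 < n 1 then coeff n F else 0 := rfl
    rw [h1, h2]
    by_cases c0 : n = 0
    · subst c0
      simp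
    · rw [if_neg c0]
      by_cases c1 : 0 < n 0
      · rw [if_pos c1, if_neg (by omega)]; simp
      · have c2 : 0 < n 1 := by
          by_contra hc
          apply c0
          ext i
          fin_cases i
          · simpa using c1
          · simpa using hc
        rw [if_neg c1, if_pos ⟨by omega, c2⟩]; simp
  have hd1 : (X 0 : MvPowerSeries (Fin 2) B) ∣ F₁ := by
    rw [X_dvd_iff]
    intro m hm
    exact if_neg (by omega)
  have hd2 : (X 1 : MvPowerSeries (Fin 2) B) ∣ F₂ := by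
    rw [X_dvd_iff]
    intro m hm
    exact if_neg (by omega)
  obtain ⟨G₁, hG₁⟩ := hd1
  obtain ⟨G₂, hG₂⟩ := hd2
  have h0 : algebraMap B (ArLef.NodeAlg B π) (constantCoeff F) =
      Ideal.Quotient.mk _ (C (constantCoeff F)) := rfl
  rw [h0, ← map_sub]
  have : F - C (constantCoeff F) = X 0 * G₁ + X 1 * G₂ := by
    rw [← hG₁, ← hG₂]
    linear_combination hF
  rw [this, map_add, map_mul, map_mul]
  exact add_mem (Ideal.mul_mem_right _ _ (t_mem_mI π)) (Ideal.mul_mem_right _ _ (e_mem_mI π))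

theorem ker_aug_eq_mI : RingHom.ker (Groth.Agent.Lib.Helper22.nodeAlgAug π) = mI π := by
  apply le_antisymm
  · intro x hx
    rw [RingHom.mem_ker] at hx
    obtain ⟨F, rfl⟩ := Ideal.Quotient.mk_surjective x
    have h1 := mk_sub_const_mem_mI π F
    have h2 : Groth.Agent.Lib.Helper22.nodeAlgAug π
        (algebraMap B (ArLef.NodeAlg B π) (constantCoeff F)) = 0 := by
      have := congrArg (Groth.Agent.Lib.Helper22.nodeAlgAug π)
        (sub_sub_cancel (Ideal.Quotient.mk _ F : ArLef.NodeAlg B π)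
          (algebraMap B (ArLef.NodeAlg B π) (constantCoeff F)))
      rw [map_sub, hx, zero_sub] at this
      have h3 : Groth.Agent.Lib.Helper22.nodeAlgAug π
          ((Ideal.Quotient.mk _ F : ArLef.NodeAlg B π) -
            algebraMap B (ArLef.NodeAlg B π) (constantCoeff F)) = 0 := by
        obtain ⟨a, b, hab⟩ := Ideal.mem_span_pair.mp h1
        rw [← hab, map_add, map_mul, map_mul, Groth.Agent.Lib.Helper22.nodeAlgAug_t,
          Groth.Agent.Lib.Helper22.nodeAlgAug_e, mul_zero, mul_zero, add_zero]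
      rw [h3, neg_zero] at this
      exact this.symm
    rw [Groth.Agent.Lib.Helper22.nodeAlgAug_algebraMap, Ideal.Quotient.eq_zero_iff_mem,
      Ideal.mem_span_singleton'] at h2
    obtain ⟨b, hb⟩ := h2
    have h4 : algebraMap B (ArLef.NodeAlg B π) (constantCoeff F) ∈ mI π := by
      rw [← hb, map_mul, ← Groth.Agent.Lib.Helper22.nodeAlg_t_mul_e]
      exact Ideal.mul_mem_left _ _ (Ideal.mul_mem_right _ _ (t_mem_mI π))
    have := add_mem h1 h4
    rwa [sub_add_cancel] at this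
  · unfold mI
    rw [Ideal.span_le]
    rintro x (rfl | hx)
    · exact Groth.Agent.Lib.Helper22.nodeAlgAug_t π
    · rw [Set.mem_singleton_iff] at hx
      subst hx
      exact Groth.Agent.Lib.Helper22.nodeAlgAug_e π

theorem aug_surjective : Function.Surjective (Groth.Agent.Lib.Helper22.nodeAlgAug π) := by
  intro y
  obtain ⟨b, rfl⟩ := Ideal.Quotient.mk_surjective y
  exact ⟨algebraMap B (ArLef.NodeAlg B π) b, Groth.Agent.Lib.Helper22.nodeAlgAug_algebraMap π b⟩

theorem mI_isMaximal [hmax : (Ideal.span ({π} : Set B)).IsMaximal] : (mI π).IsMaximal := by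
  rw [← ker_aug_eq_mI]
  letI := Ideal.Quotient.field (Ideal.span ({π} : Set B))
  exact RingHom.ker_isMaximal_of_surjective _ (aug_surjective π)

/-- `(t) ⊓ (e) = ⊥` in `B[[x,y]]/(xy)` -/
theorem t_mul_eq_e_mul_zero (u v : ArLef.NodeAlg B (0 : B))
    (h : ArLef.NodeAlg.t (0 : B) * u = ArLef.NodeAlg.e (0 : B) * v) :
    ArLef.NodeAlg.t (0 : B) * u = 0 := by
  obtain ⟨F, rfl⟩ := Ideal.Quotient.mk_surjective u
  obtain ⟨G, rfl⟩ := Ideal.Quotient.mk_surjective v
  unfold ArLef.NodeAlg.t ArLef.NodeAlg.e at h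
  rw [← map_mul, ← map_mul, ← sub_eq_zero, ← map_sub, Ideal.Quotient.eq_zero_iff_mem,
    Ideal.mem_span_singleton'] at h
  obtain ⟨D, hD⟩ := h
  rw [map_zero, sub_zero] at hD
  have h1 : (X 0 : MvPowerSeries (Fin 2) B) ∣ (G + D * X 0) * X 1 :=
    ⟨F, by linear_combination hD⟩
  obtain ⟨G₃, hG₃⟩ := dvd_of_dvd_mul_X (by decide) h1
  have h2 : X 0 * F = X 0 * X 1 * G₃ := by
    linear_combination -hD + X 1 * hG₃
  have hte : ArLef.NodeAlg.t (0 : B) * ArLef.NodeAlg.e (0 : B) = 0 :=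
    (Groth.Agent.Lib.Helper22.nodeAlg_t_mul_e (0 : B)).trans (map_zero _)
  have e1 : ArLef.NodeAlg.t (0 : B) * (Ideal.Quotient.mk (Ideal.span
      {(MvPowerSeries.X 0 * MvPowerSeries.X 1 - MvPowerSeries.C (0 : B) :
        MvPowerSeries (Fin 2) B)}) F : ArLef.NodeAlg B (0 : B)) =
      Ideal.Quotient.mk _ (X 0 * F) := (map_mul _ _ _).symm
  have e2 : (Ideal.Quotient.mk (Ideal.span
      {(MvPowerSeries.X 0 * MvPowerSeries.X 1 - MvPowerSeries.C (0 : B) :
        MvPowerSeries (Fin 2) B)}) (X 0 * X 1 * G₃) : ArLef.NodeAlg B (0 : B)) =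
      ArLef.NodeAlg.t (0 : B) * ArLef.NodeAlg.e (0 : B) * Ideal.Quotient.mk _ G₃ := by
    rw [map_mul, map_mul]
  rw [e1, h2, e2, hte, zero_mul]

end Groth.Agent.Lib.Helper16NodeFix
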