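import Mathlib
import Groth.Prelude.Def_W4c2arithlefschetzNode
import Groth.Agent.Lib.Helper22NodeAlg
import Groth.Agent.Lib.Helper16NodeFix
import Groth.Agent.Lib.Helper16NodeFix2
import Groth.Agent.Lib.Helper16NodeFix3
import Groth.Agent.Lib.Helper16NodeFix4
import Groth.Agent.S15315

/-!
# Node algebra: semilinear automorphisms, locality, lengths along `h = α e - t` (helper16)
-/

set_option autoImplicit false
set_option linter.style.haveILetI false
set_option linter.unusedSectionVars false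
universe u

open MvPowerSeries

namespace Groth.Agent.Lib.Helper16NodeFix

variable {B : Type u} [CommRing B] {π : B}

theorem sub_mem_of_mem_adjoin' (σ : ArLef.NodeAlg B π →+* ArLef.NodeAlg B π)
    (J : Ideal (ArLef.NodeAlg B π))
    (hB : ∀ b : B, σ (algebraMap B (ArLef.NodeAlg B π) b) - algebraMap B (ArLef.NodeAlg B π) b ∈ J)
    (ht : σ (ArLef.NodeAlg.t π) - ArLef.NodeAlg.t π ∈ J)
    (he : σ (ArLef.NodeAlg.e π) - ArLef.NodeAlg.e π ∈ J)
    {r : ArLef.NodeAlg B π}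
    (hr : r ∈ Algebra.adjoin B ({ArLef.NodeAlg.t π, ArLef.NodeAlg.e π} : Set (ArLef.NodeAlg B π))) :
    σ r - r ∈ J := by
  induction hr using Algebra.adjoin_induction with
  | mem x hx =>
    rcases hx with rfl | hx
    · exact ht
    · rw [Set.mem_singleton_iff] at hx
      subst hx
      exact he
  | algebraMap b => exact hB b
  | add x y _ _ hx hy =>
    have : σ (x + y) - (x + y) = (σ x - x) + (σ y - y) := by rw [map_add]; ring
    rw [this]; exact add_mem hx hy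
  | mul x y _ _ hx hy =>
    have : σ (x * y) - x * y = σ x * (σ y - y) + (σ x - x) * y := by rw [map_mul]; ring
    rw [this]
    exact add_mem (J.mul_mem_left _ hy) (J.mul_mem_right _ hx)

theorem map_pow_mem' (σ : ArLef.NodeAlg B π →+* ArLef.NodeAlg B π)
    (ht : σ (ArLef.NodeAlg.t π) ∈ mI π) (he : σ (ArLef.NodeAlg.e π) ∈ mI π)
    (M : ℕ) {s : ArLef.NodeAlg B π} (hs : s ∈ mI π ^ M) : σ s ∈ mI π ^ M := by
  have h1 : Ideal.map σ (mI π) ≤ mI π := by
    unfold mI
    rw [Ideal.map_span, Ideal.span_le]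
    rintro _ ⟨x, hx, rfl⟩
    rcases hx with rfl | hx
    · exact ht
    · rw [Set.mem_singleton_iff] at hx
      subst hx
      exact he
  have h2 : σ s ∈ Ideal.map σ (mI π ^ M) := Ideal.mem_map_of_mem σ hs
  rw [Ideal.map_pow] at h2
  exact Ideal.pow_right_mono h1 M h2

/-- Ring-endomorphism version of `sub_mem_of_gens`. -/
theorem sub_mem_of_gens' [IsNoetherianRing B]
    (σ : ArLef.NodeAlg B π →+* ArLef.NodeAlg B π)
    (ht : σ (ArLef.NodeAlg.t π) ∈ mI π) (he : σ (ArLef.NodeAlg.e π) ∈ mI π)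
    (J : Ideal (ArLef.NodeAlg B π))
    (hB : ∀ b : B, σ (algebraMap B (ArLef.NodeAlg B π) b) - algebraMap B (ArLef.NodeAlg B π) b ∈ J)
    (htJ : σ (ArLef.NodeAlg.t π) - ArLef.NodeAlg.t π ∈ J)
    (heJ : σ (ArLef.NodeAlg.e π) - ArLef.NodeAlg.e π ∈ J)
    (r : ArLef.NodeAlg B π) : σ r - r ∈ J := by
  have hK := Ideal.iInf_pow_smul_eq_bot_of_le_jacobson (M := ArLef.NodeAlg B π ⧸ J) (mI π)
    (mI_le_jacobson π)
  rw [← Ideal.Quotient.eq_zero_iff_mem, ← Submodule.mem_bot (R := ArLef.NodeAlg B π), ← hK,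
    Submodule.mem_iInf]
  intro M
  obtain ⟨r₀, hr₀, hs⟩ := exists_approx π r M
  have h1 := sub_mem_of_mem_adjoin' σ J hB htJ heJ hr₀
  have h2 : σ (r - r₀) - (r - r₀) ∈ mI π ^ M :=
    sub_mem (map_pow_mem' σ ht he M hs) hs
  have h3 : Ideal.Quotient.mk J (σ r - r) =
      (σ (r - r₀) - (r - r₀)) • (Ideal.Quotient.mk J 1 : ArLef.NodeAlg B π ⧸ J) := by
    rw [← Ideal.Quotient.eq_zero_iff_mem] at h1
    have e1 : σ r - r = (σ (r - r₀) - (r - r₀)) + (σ r₀ - r₀) := by rw [map_sub]; ring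
    rw [e1, map_add, h1, add_zero]
    show _ = Ideal.Quotient.mk J ((σ (r - r₀) - (r - r₀)) * 1)
    rw [mul_one]
  rw [h3]
  exact Submodule.smul_mem_smul h2 Submodule.mem_top

variable (π)

/-- the node algebra is local with maximal ideal `(t, e)` when `(π)` is maximal -/
theorem isUnit_of_not_mem_mI [hmax : (Ideal.span ({π} : Set B)).IsMaximal]
    {x : ArLef.NodeAlg B π} (hx : x ∉ mI π) : IsUnit x := by
  by_contra hu
  obtain ⟨M, hM, hxM⟩ := exists_max_ideal_of_mem_nonunits (mem_nonunits_iff.mpr hu)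
  have h1 : mI π ≤ M := by
    refine (mI_le_jacobson π).trans ?_
    unfold Ideal.jacobson
    exact sInf_le ⟨bot_le, hM⟩
  have h2 : mI π = M := (mI_isMaximal π).eq_of_le hM.ne_top h1
  exact hx (h2 ▸ hxM)

theorem mI_ne_top [hmax : (Ideal.span ({π} : Set B)).IsMaximal] : mI π ≠ ⊤ :=
  (mI_isMaximal π).ne_top

/-- `π` is regular modulo `h = α e - t`. -/
theorem pi_regular_mod_h [IsDomain B] (hπ : Prime π) (α : (ArLef.NodeAlg B π)ˣ)
    (x : ArLef.NodeAlg B π)
    (hx : algebraMap B (ArLef.NodeAlg B π) π * x ∈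
      Ideal.span {(α : ArLef.NodeAlg B π) * ArLef.NodeAlg.e π - ArLef.NodeAlg.t π}) :
    x ∈ Ideal.span {(α : ArLef.NodeAlg B π) * ArLef.NodeAlg.e π - ArLef.NodeAlg.t π} := by
  rw [Ideal.mem_span_singleton'] at hx ⊢
  obtain ⟨c, hc⟩ := hx
  obtain ⟨c', rfl⟩ := pi_dvd_of_mul π hπ α c x hc
  have h3 : algebraMap B (ArLef.NodeAlg B π) π *
      (x - c' * ((α : ArLef.NodeAlg B π) * ArLef.NodeAlg.e π - ArLef.NodeAlg.t π)) = 0 := by
    linear_combination -hc
  have h4 := Groth.Agent.Lib.Helper22.nodeAlg_pi_regular π hπ.ne_zero _ h3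
  exact ⟨c', (sub_eq_zero.mp h4).symm⟩

theorem pi_pow_regular_mod_h [IsDomain B] (hπ : Prime π) (α : (ArLef.NodeAlg B π)ˣ) (n : ℕ)
    (x : ArLef.NodeAlg B π)
    (hx : algebraMap B (ArLef.NodeAlg B π) π ^ n * x ∈
      Ideal.span {(α : ArLef.NodeAlg B π) * ArLef.NodeAlg.e π - ArLef.NodeAlg.t π}) :
    x ∈ Ideal.span {(α : ArLef.NodeAlg B π) * ArLef.NodeAlg.e π - ArLef.NodeAlg.t π} := by
  induction n with
  | zero => simpa using hx
  | succ n ih =>
    apply ih
    apply pi_regular_mod_h π hπ α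
    rw [← mul_assoc, ← pow_succ']
    exact hx

theorem e_regular_mod_h [IsDomain B] (hπ : Prime π) (α : (ArLef.NodeAlg B π)ˣ)
    (x : ArLef.NodeAlg B π)
    (hx : ArLef.NodeAlg.e π * x ∈
      Ideal.span {(α : ArLef.NodeAlg B π) * ArLef.NodeAlg.e π - ArLef.NodeAlg.t π}) :
    x ∈ Ideal.span {(α : ArLef.NodeAlg B π) * ArLef.NodeAlg.e π - ArLef.NodeAlg.t π} := by
  apply pi_regular_mod_h π hπ α
  rw [← Groth.Agent.Lib.Helper22.nodeAlg_t_mul_e, mul_assoc]
  exact Ideal.mul_mem_left _ _ hx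

theorem isSMulRegular_e_mod_h [IsDomain B] (hπ : Prime π) (α : (ArLef.NodeAlg B π)ˣ) :
    IsSMulRegular (ArLef.NodeAlg B π ⧸ Ideal.span
      {(α : ArLef.NodeAlg B π) * ArLef.NodeAlg.e π - ArLef.NodeAlg.t π}) (ArLef.NodeAlg.e π) := by
  intro x y hxy
  have h0 : ArLef.NodeAlg.e π • (x - y) = 0 := by
    rw [smul_sub, sub_eq_zero]; exact hxy
  obtain ⟨z, hz⟩ := Ideal.Quotient.mk_surjective (x - y)
  have e0 : ArLef.NodeAlg.e π • (Ideal.Quotient.mk (Ideal.span
      {(α : ArLef.NodeAlg B π) * ArLef.NodeAlg.e π - ArLef.NodeAlg.t π}) z) =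
      Ideal.Quotient.mk _ (ArLef.NodeAlg.e π * z) := rfl
  rw [← hz, e0, Ideal.Quotient.eq_zero_iff_mem] at h0
  have h5 : x - y = 0 := by
    rw [← hz, Ideal.Quotient.eq_zero_iff_mem]
    exact e_regular_mod_h π hπ α z h0
  exact sub_eq_zero.mp h5

theorem span_e_h_eq_mI (α : ArLef.NodeAlg B π) :
    Ideal.span {ArLef.NodeAlg.e π, α * ArLef.NodeAlg.e π - ArLef.NodeAlg.t π} = mI π := by
  apply le_antisymm
  · rw [Ideal.span_le]
    rintro x (rfl | hx)
    · exact e_mem_mI π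
    · rw [Set.mem_singleton_iff] at hx
      subst hx
      exact sub_mem (Ideal.mul_mem_left _ _ (e_mem_mI π)) (t_mem_mI π)
  · unfold mI
    rw [Ideal.span_le]
    rintro x (rfl | hx)
    · have : ArLef.NodeAlg.t π = α * ArLef.NodeAlg.e π -
          (α * ArLef.NodeAlg.e π - ArLef.NodeAlg.t π) := by ring
      rw [this]
      exact sub_mem (Ideal.mul_mem_left _ _ (Ideal.subset_span (by simp)))
        (Ideal.subset_span (by simp))
    · rw [Set.mem_singleton_iff] at hx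
      subst hx
      exact Ideal.subset_span (by simp)

theorem length_quot_mI [hmax : (Ideal.span ({π} : Set B)).IsMaximal] :
    Module.length (ArLef.NodeAlg B π) (ArLef.NodeAlg B π ⧸ mI π) = 1 := by
  rw [Module.length_eq_one_iff, isSimpleModule_iff_isCoatom]
  exact Ideal.isMaximal_def.mp (mI_isMaximal π)

/-- `ℓ(N/(e^n, h)) = n` for `h = α e - t`. -/
theorem length_quot_e_pow_h [IsDomain B] [IsNoetherianRing B]
    [hmax : (Ideal.span ({π} : Set B)).IsMaximal] (hπ : Prime π)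
    (α : (ArLef.NodeAlg B π)ˣ) (n : ℕ) :
    Module.length (ArLef.NodeAlg B π) (ArLef.NodeAlg B π ⧸
      (Ideal.span {ArLef.NodeAlg.e π ^ n} ⊔ Ideal.span
        {(α : ArLef.NodeAlg B π) * ArLef.NodeAlg.e π - ArLef.NodeAlg.t π})) = n := by
  induction n with
  | zero =>
    rw [pow_zero, Ideal.span_singleton_one, top_sup_eq]
    simp
  | succ n ih =>
    have key := Groth.Agent.S15315.result (ArLef.NodeAlg B π) (ArLef.NodeAlg.e π)
      ((α : ArLef.NodeAlg B π) * ArLef.NodeAlg.e π - ArLef.NodeAlg.t π)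
      (Ideal.span {ArLef.NodeAlg.e π ^ n}) (isSMulRegular_e_mod_h π hπ α)
    rw [Ideal.span_singleton_mul_span_singleton, ← pow_succ', span_e_h_eq_mI, length_quot_mI,
      ih] at key
    rw [key]
    push_cast
    ring

end Groth.Agent.Lib.Helper16NodeFix
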