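import Mathlib
import Groth.Agent.S15315

/-!
# An abstract length computation for fixed-point ideals at a node (helper16)

`A` Noetherian, `T`, `E` regular prime elements, `m = (T, E)` with `ℓ(A/m) = 1`,
`(1+a)(1+b) = 1 + G (TE)^j'`, `T ∤ b`, `E ∤ a`.  Then
`ℓ(A/(aT, bE, (TE)^(j'+1))) = (j'+1) (ℓ(A/(T,b)) + ℓ(A/(E,a))) + 1`.
-/

set_option autoImplicit false
set_option linter.style.haveILetI false
set_option linter.unusedSectionVars false
universe u

namespace Groth.Agent.Lib.Helper16NodeLen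

variable {A : Type u} [CommRing A]

theorem mem_span_triple {u v w x : A} :
    x ∈ Ideal.span ({u, v, w} : Set A) ↔ ∃ p q r, p * u + q * v + r * w = x := by
  rw [Ideal.mem_span_insert]
  constructor
  · rintro ⟨p, z, hz, rfl⟩
    obtain ⟨q, r, rfl⟩ := Ideal.mem_span_pair.mp hz
    exact ⟨p, q, r, by ring⟩
  · rintro ⟨p, q, r, rfl⟩
    exact ⟨p, q * v + r * w, Ideal.mem_span_pair.mpr ⟨q, r, rfl⟩, by ring⟩

/-- `0 → A/(I:x) → A/I → A/(I + (x)) → 0`. -/
theorem length_colon (I K : Ideal A) (x : A) (hK : ∀ y, y ∈ K ↔ x * y ∈ I) :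
    Module.length A (A ⧸ I) =
      Module.length A (A ⧸ K) + Module.length A (A ⧸ (I ⊔ Ideal.span {x})) := by
  let f : (A ⧸ K) →ₗ[A] (A ⧸ I) := Submodule.mapQ K I (LinearMap.lsmul A A x) (by
    intro y hy
    rw [Submodule.mem_comap]
    simpa using (hK y).1 hy)
  let g : (A ⧸ I) →ₗ[A] (A ⧸ (I ⊔ Ideal.span {x})) :=
    Submodule.mapQ I (I ⊔ Ideal.span {x}) LinearMap.id (by
      rw [Submodule.comap_id]; exact le_sup_left)
  have hf : Function.Injective f := by
    rw [← LinearMap.ker_eq_bot, LinearMap.ker_eq_bot']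
    intro m hm
    obtain ⟨y, rfl⟩ := Submodule.Quotient.mk_surjective _ m
    rw [Submodule.mapQ_apply, Submodule.Quotient.mk_eq_zero] at hm
    rw [Submodule.Quotient.mk_eq_zero]
    exact (hK y).2 (by simpa using hm)
  have hg : Function.Surjective g := by
    intro m
    obtain ⟨y, rfl⟩ := Submodule.Quotient.mk_surjective _ m
    exact ⟨Submodule.Quotient.mk y, by rw [Submodule.mapQ_apply]; rfl⟩
  have hex : Function.Exact f g := by
    intro m
    obtain ⟨z, rfl⟩ := Submodule.Quotient.mk_surjective _ m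
    rw [Submodule.mapQ_apply, Submodule.Quotient.mk_eq_zero, LinearMap.id_apply]
    constructor
    · intro hz
      obtain ⟨i, hi, c, hc, rfl⟩ := Submodule.mem_sup.mp hz
      obtain ⟨c', rfl⟩ := Ideal.mem_span_singleton'.mp hc
      refine ⟨Submodule.Quotient.mk c', ?_⟩
      rw [Submodule.mapQ_apply, Submodule.Quotient.eq]
      have : (LinearMap.lsmul A A x) c' - (i + c' * x) = -i := by
        simp only [LinearMap.lsmul_apply, smul_eq_mul]; ring
      rw [this]; exact I.neg_mem hi
    · rintro ⟨n, hn⟩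
      obtain ⟨c, rfl⟩ := Submodule.Quotient.mk_surjective _ n
      rw [Submodule.mapQ_apply, Submodule.Quotient.eq] at hn
      have : z = -((LinearMap.lsmul A A x) c - z) + c * x := by
        simp only [LinearMap.lsmul_apply, smul_eq_mul]; ring
      rw [this]
      exact add_mem (Ideal.mem_sup_left (I.neg_mem hn))
        (Ideal.mem_sup_right (Ideal.mul_mem_left _ _ (Ideal.mem_span_singleton_self x)))
  exact Module.length_eq_add_of_exact f g hf hg hex

theorem reg_mod (x c : A)
    (h : ∀ y, x * y ∈ Ideal.span ({c} : Set A) → y ∈ Ideal.span ({c} : Set A)) :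
    IsSMulRegular (A ⧸ Ideal.span ({c} : Set A)) x := by
  intro y z hyz
  have h0 : x • (y - z) = 0 := by
    rw [smul_sub, sub_eq_zero]; exact hyz
  obtain ⟨w, hw⟩ := Ideal.Quotient.mk_surjective (y - z)
  have e0 : x • (Ideal.Quotient.mk (Ideal.span ({c} : Set A)) w) =
      Ideal.Quotient.mk _ (x * w) := rfl
  rw [← hw, e0, Ideal.Quotient.eq_zero_iff_mem] at h0
  have h5 : y - z = 0 := by
    rw [← hw, Ideal.Quotient.eq_zero_iff_mem]
    exact h w h0
  exact sub_eq_zero.mp h5

/-- a regular prime `p` not dividing `c` is regular modulo `c` -/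
theorem prime_reg_mod {p c : A} (hp : Prime p) (hpr : ∀ y, p * y = 0 → y = 0) (hpc : ¬ p ∣ c)
    (y : A) (h : p * y ∈ Ideal.span ({c} : Set A)) : y ∈ Ideal.span ({c} : Set A) := by
  rw [Ideal.mem_span_singleton'] at h ⊢
  obtain ⟨d, hd⟩ := h
  have h1 : p ∣ d * c := ⟨y, hd⟩
  rcases hp.dvd_or_dvd h1 with h2 | h2
  · obtain ⟨d', rfl⟩ := h2
    refine ⟨d', ?_⟩
    have : p * (y - d' * c) = 0 := by linear_combination -hd
    exact (sub_eq_zero.mp (hpr _ this)).symm
  · exact absurd h2 hpc

/-- `ℓ(A/(x^n, c)) = n ℓ(A/(x, c))` for `x` regular modulo `c`. -/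
theorem length_pow [IsNoetherianRing A] (x c : A)
    (hx : IsSMulRegular (A ⧸ Ideal.span ({c} : Set A)) x) (n : ℕ) :
    Module.length A (A ⧸ (Ideal.span {x ^ n} ⊔ Ideal.span {c})) =
      (n : ℕ∞) * Module.length A (A ⧸ Ideal.span ({x, c} : Set A)) := by
  induction n with
  | zero =>
    rw [pow_zero, Ideal.span_singleton_one, top_sup_eq]
    simp
  | succ n ih =>
    have key := Groth.Agent.S15315.result A x c (Ideal.span {x ^ n}) hx
    rw [Ideal.span_singleton_mul_span_singleton, ← pow_succ', ih] at key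
    rw [key]
    push_cast
    ring

end Groth.Agent.Lib.Helper16NodeLen
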