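import Mathlib
import Groth.Agent.S15315
import Groth.Agent.Lib.Helper16NodeLen

/-!
# The abstract length formula at a node (helper16)
-/

set_option autoImplicit false
set_option linter.style.haveILetI false
set_option linter.unusedSectionVars false
universe u

namespace Groth.Agent.Lib.Helper16NodeLen

variable {A : Type u} [CommRing A]

theorem span_pair_eq_sup (x y : A) :
    Ideal.span ({x, y} : Set A) = Ideal.span {x} ⊔ Ideal.span {y} := Ideal.span_insert x {y}

theorem length_K2 [IsNoetherianRing A] (T E a b G : A) (j' : ℕ)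
    (hT : Prime T) (hE : Prime E) (hTr : ∀ y, T * y = 0 → y = 0) (hEr : ∀ y, E * y = 0 → y = 0)
    (hα : IsUnit (1 + a)) (hβ : IsUnit (1 + b))
    (rel : a + b + a * b = G * (T * E) ^ j')
    (hTb : ¬ T ∣ b) (hEa : ¬ E ∣ a) :
    Module.length A (A ⧸ Ideal.span ({a, b, (T * E) ^ j'} : Set A)) =
      (j' : ℕ∞) * (Module.length A (A ⧸ Ideal.span ({T, b} : Set A)) +
        Module.length A (A ⧸ Ideal.span ({E, a} : Set A))) := by
  cases j' with
  | zero =>
    have : Ideal.span ({a, b, (T * E) ^ 0} : Set A) = ⊤ := by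
      rw [Ideal.eq_top_iff_one]
      exact Ideal.subset_span (by simp)
    rw [this]
    simp
  | succ j'' =>
    obtain ⟨ua, hua⟩ := hα
    obtain ⟨ub, hub⟩ := hβ
    have hva : ((ua⁻¹ : Aˣ) : A) * (1 + a) = 1 := by rw [← hua]; exact Units.inv_mul ua
    have hvb : ((ub⁻¹ : Aˣ) : A) * (1 + b) = 1 := by rw [← hub]; exact Units.inv_mul ub
    set va : A := ((ua⁻¹ : Aˣ) : A)
    set vb : A := ((ub⁻¹ : Aˣ) : A)
    have hTa : ¬ T ∣ a := by
      intro h
      obtain ⟨a', ha'⟩ := h
      have h1 : T ∣ b * (1 + a) :=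
        ⟨G * E * (T * E) ^ j'' - a', by rw [ha'] at rel ⊢; linear_combination rel⟩
      rcases hT.dvd_or_dvd h1 with h2 | h2
      · exact hTb h2
      · exact hT.not_unit (isUnit_of_dvd_unit h2 (hua ▸ ua.isUnit))
    -- K₂ = ((TE)^j') ⊔ (a)
    have hK2 : Ideal.span ({a, b, (T * E) ^ (j'' + 1)} : Set A) =
        Ideal.span {(T * E) ^ (j'' + 1)} ⊔ Ideal.span {a} := by
      apply le_antisymm
      · rw [Ideal.span_le]
        intro x hx
        simp only [Set.mem_insert_iff, Set.mem_singleton_iff] at hx
        rcases hx with rfl | rfl | rfl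
        · exact Ideal.mem_sup_right (Ideal.mem_span_singleton_self _)
        · have : x = (va * G) * (T * E) ^ (j'' + 1) + (-va) * a := by
            linear_combination (-x) * hva + va * rel
          rw [this]
          exact add_mem (Ideal.mem_sup_left (Ideal.mul_mem_left _ _ (Ideal.mem_span_singleton_self _)))
            (Ideal.mem_sup_right (Ideal.mul_mem_left _ _ (Ideal.mem_span_singleton_self _)))
        · exact Ideal.mem_sup_left (Ideal.mem_span_singleton_self _)
      · refine sup_le ?_ ?_
        · rw [Ideal.span_le, Set.singleton_subset_iff]; exact Ideal.subset_span (by simp)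
        · rw [Ideal.span_le, Set.singleton_subset_iff]; exact Ideal.subset_span (by simp)
    have hregT : IsSMulRegular (A ⧸ Ideal.span ({a} : Set A)) T :=
      reg_mod T a (prime_reg_mod hT hTr hTa)
    have hregTE : IsSMulRegular (A ⧸ Ideal.span ({a} : Set A)) (T * E) :=
      reg_mod (T * E) a (fun y h => prime_reg_mod hE hEr hEa y
        (prime_reg_mod hT hTr hTa (E * y) (by rwa [← mul_assoc])))
    have h1 := length_pow (T * E) a hregTE (j'' + 1)
    have key2 := Groth.Agent.S15315.result A T a (Ideal.span {E}) hregT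
    have hE9 : Ideal.span ({T, a} : Set A) = Ideal.span ({T, b} : Set A) := by
      apply le_antisymm
      · rw [Ideal.span_le]
        intro x hx
        simp only [Set.mem_insert_iff, Set.mem_singleton_iff] at hx
        rcases hx with rfl | rfl
        · exact Ideal.subset_span (by simp)
        · rw [SetLike.mem_coe, Ideal.mem_span_pair]
          exact ⟨vb * G * E * (T * E) ^ j'', -vb, by linear_combination (-vb) * rel + x * hvb⟩
      · rw [Ideal.span_le]
        intro x hx
        simp only [Set.mem_insert_iff, Set.mem_singleton_iff] at hx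
        rcases hx with rfl | rfl
        · exact Ideal.subset_span (by simp)
        · rw [SetLike.mem_coe, Ideal.mem_span_pair]
          exact ⟨G * E * (T * E) ^ j'', -1 - x, by linear_combination -rel⟩
    rw [Ideal.span_singleton_mul_span_singleton, ← span_pair_eq_sup, ← span_pair_eq_sup,
      hE9] at key2
    rw [hK2, h1, key2]

theorem length_main [IsNoetherianRing A] (T E a b G : A) (j' : ℕ)
    (hT : Prime T) (hE : Prime E) (hTr : ∀ y, T * y = 0 → y = 0) (hEr : ∀ y, E * y = 0 → y = 0)
    (hTE : ¬ T ∣ E) (hET : ¬ E ∣ T)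
    (hα : IsUnit (1 + a)) (hβ : IsUnit (1 + b))
    (rel : a + b + a * b = G * (T * E) ^ j')
    (hTb : ¬ T ∣ b) (hEa : ¬ E ∣ a)
    (hm : Module.length A (A ⧸ Ideal.span ({T, E} : Set A)) = 1) :
    Module.length A (A ⧸ Ideal.span ({a * T, b * E, (T * E) ^ (j' + 1)} : Set A)) =
      ((j' + 1 : ℕ) : ℕ∞) * (Module.length A (A ⧸ Ideal.span ({T, b} : Set A)) +
        Module.length A (A ⧸ Ideal.span ({E, a} : Set A))) + 1 := by
  set I : Ideal A := Ideal.span ({a * T, b * E, (T * E) ^ (j' + 1)} : Set A) with hI
  set K₁ : Ideal A := Ideal.span ({a, b * E, T ^ j' * E ^ (j' + 1)} : Set A) with hK₁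
  set K₂ : Ideal A := Ideal.span ({a, b, (T * E) ^ j'} : Set A) with hK₂
  -- Step 1
  have hcol1 : ∀ y, y ∈ K₁ ↔ T * y ∈ I := by
    intro y
    rw [hK₁, hI, mem_span_triple, mem_span_triple]
    constructor
    · rintro ⟨p, q, r, rfl⟩
      exact ⟨p, q * T, r, by ring⟩
    · rintro ⟨p, q, r, h⟩
      have h1 : T ∣ q * (b * E) :=
        ⟨y - p * a - r * (T ^ j' * E ^ (j' + 1)), by linear_combination h⟩
      have h2 : T ∣ q := by
        rcases hT.dvd_or_dvd h1 with h2 | h2
        · exact h2
        · rcases hT.dvd_or_dvd h2 with h3 | h3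
          · exact absurd h3 hTb
          · exact absurd h3 hTE
      obtain ⟨q', rfl⟩ := h2
      refine ⟨p, q', r, ?_⟩
      have : T * (p * a + q' * (b * E) + r * (T ^ j' * E ^ (j' + 1)) - y) = 0 := by
        linear_combination h
      exact sub_eq_zero.mp (hTr _ this)
  have hstep1 := length_colon I K₁ T hcol1
  -- Step 1b
  have hregE : IsSMulRegular (A ⧸ Ideal.span ({T} : Set A)) E := by
    apply reg_mod
    intro y h
    rw [Ideal.mem_span_singleton] at h ⊢
    rcases hT.dvd_or_dvd h with h2 | h2
    · exact absurd h2 hTE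
    · exact h2
  have key1 := Groth.Agent.S15315.result A E T (Ideal.span {b}) hregE
  have hE1 : I ⊔ Ideal.span {T} = Ideal.span {E} * Ideal.span {b} ⊔ Ideal.span {T} := by
    rw [Ideal.span_singleton_mul_span_singleton]
    apply le_antisymm
    · refine sup_le ?_ le_sup_right
      rw [hI, Ideal.span_le]
      intro x hx
      simp only [Set.mem_insert_iff, Set.mem_singleton_iff] at hx
      rcases hx with rfl | rfl | rfl
      · exact Ideal.mem_sup_right (Ideal.mul_mem_left _ _ (Ideal.mem_span_singleton_self _))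
      · rw [mul_comm]; exact Ideal.mem_sup_left (Ideal.mem_span_singleton_self _)
      · have : (T * E) ^ (j' + 1) = (T ^ j' * E ^ (j' + 1)) * T := by ring
        rw [this]
        exact Ideal.mem_sup_right (Ideal.mul_mem_left _ _ (Ideal.mem_span_singleton_self _))
    · refine sup_le ?_ le_sup_right
      rw [Ideal.span_le, Set.singleton_subset_iff, mul_comm]
      exact Ideal.mem_sup_left (Ideal.subset_span (by simp))
  rw [← hE1, Ideal.span_pair_comm, hm, sup_comm (Ideal.span {b}), ← span_pair_eq_sup] at key1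
  -- Step 2
  have hcol2 : ∀ y, y ∈ K₂ ↔ E * y ∈ K₁ := by
    intro y
    rw [hK₁, hK₂, mem_span_triple, mem_span_triple]
    constructor
    · rintro ⟨p, q, r, rfl⟩
      exact ⟨p * E, q, r, by ring⟩
    · rintro ⟨p, q, r, h⟩
      have h1 : E ∣ p * a :=
        ⟨y - q * b - r * (T ^ j' * E ^ j'), by linear_combination h⟩
      have h2 : E ∣ p := by
        rcases hE.dvd_or_dvd h1 with h2 | h2
        · exact h2
        · exact absurd h2 hEa
      obtain ⟨p', rfl⟩ := h2
      refine ⟨p', q, r, ?_⟩
      have : E * (p' * a + q * b + r * (T * E) ^ j' - y) = 0 := by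
        linear_combination h
      exact sub_eq_zero.mp (hEr _ this)
  have hstep2 := length_colon K₁ K₂ E hcol2
  have hE4 : K₁ ⊔ Ideal.span {E} = Ideal.span ({E, a} : Set A) := by
    rw [span_pair_eq_sup]
    apply le_antisymm
    · refine sup_le ?_ le_sup_left
      rw [hK₁, Ideal.span_le]
      intro x hx
      simp only [Set.mem_insert_iff, Set.mem_singleton_iff] at hx
      rcases hx with rfl | rfl | rfl
      · exact Ideal.mem_sup_right (Ideal.mem_span_singleton_self _)
      · exact Ideal.mem_sup_left (Ideal.mul_mem_left _ _ (Ideal.mem_span_singleton_self _))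
      · have : T ^ j' * E ^ (j' + 1) = (T ^ j' * E ^ j') * E := by ring
        rw [this]
        exact Ideal.mem_sup_left (Ideal.mul_mem_left _ _ (Ideal.mem_span_singleton_self _))
    · refine sup_le le_sup_right ?_
      rw [Ideal.span_le, Set.singleton_subset_iff]
      exact Ideal.mem_sup_left (Ideal.subset_span (by simp))
  rw [hE4] at hstep2
  have hstep3 := length_K2 T E a b G j' hT hE hTr hEr hα hβ rel hTb hEa
  rw [hstep1, hstep2, hstep3, key1]
  push_cast
  ring

end Groth.Agent.Lib.Helper16NodeLen
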