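import Mathlib
import Groth.Agent.S15315
import Groth.Agent.Lib.Helper16NodeLen
import Groth.Agent.Lib.Helper16NodeLen2

/-!
# More abstract length formulas at a node (residual fixed-point schemes) (helper16)
-/

set_option autoImplicit false
set_option linter.style.haveILetI false
set_option linter.unusedSectionVars false
universe u

namespace Groth.Agent.Lib.Helper16NodeLen

variable {A : Type u} [CommRing A]

theorem length_split [IsNoetherianRing A] (x y c : A)
    (hx : IsSMulRegular (A ⧸ Ideal.span ({c} : Set A)) x) :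
    Module.length A (A ⧸ Ideal.span ({x * y, c} : Set A)) =
      Module.length A (A ⧸ Ideal.span ({x, c} : Set A)) +
        Module.length A (A ⧸ Ideal.span ({y, c} : Set A)) := by
  have key := Groth.Agent.S15315.result A x c (Ideal.span {y}) hx
  rw [Ideal.span_singleton_mul_span_singleton, ← span_pair_eq_sup, ← span_pair_eq_sup] at key
  exact key

theorem length_pow' [IsNoetherianRing A] (x c : A)
    (hx : IsSMulRegular (A ⧸ Ideal.span ({c} : Set A)) x) (n : ℕ) :
    Module.length A (A ⧸ Ideal.span ({x ^ n, c} : Set A)) =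
      (n : ℕ∞) * Module.length A (A ⧸ Ideal.span ({x, c} : Set A)) := by
  rw [span_pair_eq_sup]
  exact length_pow x c hx n

theorem length_TpEq [IsNoetherianRing A] (T E a : A) (p q : ℕ)
    (hE : IsSMulRegular (A ⧸ Ideal.span ({a} : Set A)) E)
    (hT : p ≠ 0 → IsSMulRegular (A ⧸ Ideal.span ({a} : Set A)) T) :
    Module.length A (A ⧸ Ideal.span ({T ^ p * E ^ q, a} : Set A)) =
      (p : ℕ∞) * Module.length A (A ⧸ Ideal.span ({T, a} : Set A)) +
        (q : ℕ∞) * Module.length A (A ⧸ Ideal.span ({E, a} : Set A)) := by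
  by_cases hp : p = 0
  · subst hp
    rw [pow_zero, one_mul, length_pow' E a hE q]
    simp
  · have hTr := hT hp
    rw [length_split (T ^ p) (E ^ q) a (hTr.pow p), length_pow' T a hTr p, length_pow' E a hE q]

/-- The residual length when both branches have divisorial multiplicity `< j`. -/
theorem length_main2 [IsNoetherianRing A] (T E a b G μ ν : A) (p q : ℕ)
    (hT : Prime T) (hE : Prime E) (hTr : ∀ y, T * y = 0 → y = 0) (hEr : ∀ y, E * y = 0 → y = 0)
    (hTE : ¬ T ∣ E)
    (hμ : IsUnit μ) (hν : IsUnit ν)
    (rel1 : a * μ + b = G * (T ^ p * E ^ q)) (rel2 : b * ν + a = G * (T ^ p * E ^ q))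
    (hTb : ¬ T ∣ b) (hEa : ¬ E ∣ a)
    (hm : Module.length A (A ⧸ Ideal.span ({T, E} : Set A)) = 1) :
    Module.length A (A ⧸ Ideal.span ({a * T, b * E, T ^ (p + 1) * E ^ (q + 1)} : Set A)) =
      1 + ((p + 1 : ℕ) : ℕ∞) * Module.length A (A ⧸ Ideal.span ({T, b} : Set A)) +
        ((q + 1 : ℕ) : ℕ∞) * Module.length A (A ⧸ Ideal.span ({E, a} : Set A)) := by
  set I : Ideal A := Ideal.span ({a * T, b * E, T ^ (p + 1) * E ^ (q + 1)} : Set A) with hI
  set K₁ : Ideal A := Ideal.span ({a, b * E, T ^ p * E ^ (q + 1)} : Set A) with hK₁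
  set K₂ : Ideal A := Ideal.span ({a, b, T ^ p * E ^ q} : Set A) with hK₂
  -- Step 1
  have hcol1 : ∀ y, y ∈ K₁ ↔ T * y ∈ I := by
    intro y
    rw [hK₁, hI, mem_span_triple, mem_span_triple]
    constructor
    · rintro ⟨p', q', r, rfl⟩
      exact ⟨p', q' * T, r, by ring⟩
    · rintro ⟨p', q', r, h⟩
      have h1 : T ∣ q' * (b * E) :=
        ⟨y - p' * a - r * (T ^ p * E ^ (q + 1)), by linear_combination h⟩
      have h2 : T ∣ q' := by
        rcases hT.dvd_or_dvd h1 with h2 | h2
        · exact h2
        · rcases hT.dvd_or_dvd h2 with h3 | h3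
          · exact absurd h3 hTb
          · exact absurd h3 hTE
      obtain ⟨q'', rfl⟩ := h2
      refine ⟨p', q'', r, ?_⟩
      have : T * (p' * a + q'' * (b * E) + r * (T ^ p * E ^ (q + 1)) - y) = 0 := by
        linear_combination h
      exact sub_eq_zero.mp (hTr _ this)
  have hstep1 := length_colon I K₁ T hcol1
  -- Step 1b
  have hregE : IsSMulRegular (A ⧸ Ideal.span ({T} : Set A)) E := by
    apply reg_mod
    intro y h
    rw [Ideal.mem_span_singleton] at h ⊢
    rcases hT.dvd_or_dvd h with h2 | h2
    · exact absurd h2 hTE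
    · exact h2
  have key1 := Groth.Agent.S15315.result A E T (Ideal.span {b}) hregE
  have hE1 : I ⊔ Ideal.span {T} = Ideal.span {E} * Ideal.span {b} ⊔ Ideal.span {T} := by
    rw [Ideal.span_singleton_mul_span_singleton]
    apply le_antisymm
    · refine sup_le ?_ le_sup_right
      rw [hI, Ideal.span_le]
      intro x hx
      simp only [Set.mem_insert_iff, Set.mem_singleton_iff] at hx
      rcases hx with rfl | rfl | rfl
      · exact Ideal.mem_sup_right (Ideal.mul_mem_left _ _ (Ideal.mem_span_singleton_self _))
      · rw [mul_comm]; exact Ideal.mem_sup_left (Ideal.mem_span_singleton_self _)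
      · have : T ^ (p + 1) * E ^ (q + 1) = (T ^ p * E ^ (q + 1)) * T := by ring
        rw [this]
        exact Ideal.mem_sup_right (Ideal.mul_mem_left _ _ (Ideal.mem_span_singleton_self _))
    · refine sup_le ?_ le_sup_right
      rw [Ideal.span_le, Set.singleton_subset_iff, mul_comm]
      exact Ideal.mem_sup_left (Ideal.subset_span (by simp))
  rw [← hE1, Ideal.span_pair_comm, hm, sup_comm (Ideal.span {b}), ← span_pair_eq_sup] at key1
  -- Step 2
  have hcol2 : ∀ y, y ∈ K₂ ↔ E * y ∈ K₁ := by
    intro y
    rw [hK₁, hK₂, mem_span_triple, mem_span_triple]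
    constructor
    · rintro ⟨p', q', r, rfl⟩
      exact ⟨p' * E, q', r, by ring⟩
    · rintro ⟨p', q', r, h⟩
      have h1 : E ∣ p' * a :=
        ⟨y - q' * b - r * (T ^ p * E ^ q), by linear_combination h⟩
      have h2 : E ∣ p' := by
        rcases hE.dvd_or_dvd h1 with h2 | h2
        · exact h2
        · exact absurd h2 hEa
      obtain ⟨p'', rfl⟩ := h2
      refine ⟨p'', q', r, ?_⟩
      have : E * (p'' * a + q' * b + r * (T ^ p * E ^ q) - y) = 0 := by
        linear_combination h
      exact sub_eq_zero.mp (hEr _ this)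
  have hstep2 := length_colon K₁ K₂ E hcol2
  have hE4 : K₁ ⊔ Ideal.span {E} = Ideal.span ({E, a} : Set A) := by
    rw [span_pair_eq_sup]
    apply le_antisymm
    · refine sup_le ?_ le_sup_left
      rw [hK₁, Ideal.span_le]
      intro x hx
      simp only [Set.mem_insert_iff, Set.mem_singleton_iff] at hx
      rcases hx with rfl | rfl | rfl
      · exact Ideal.mem_sup_right (Ideal.mem_span_singleton_self _)
      · exact Ideal.mem_sup_left (Ideal.mul_mem_left _ _ (Ideal.mem_span_singleton_self _))
      · have : T ^ p * E ^ (q + 1) = (T ^ p * E ^ q) * E := by ring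
        rw [this]
        exact Ideal.mem_sup_left (Ideal.mul_mem_left _ _ (Ideal.mem_span_singleton_self _))
    · refine sup_le le_sup_right ?_
      rw [Ideal.span_le, Set.singleton_subset_iff]
      exact Ideal.mem_sup_left (Ideal.subset_span (by simp))
  rw [hE4] at hstep2
  -- Step 3
  obtain ⟨uμ, huμ⟩ := hμ
  obtain ⟨uν, huν⟩ := hν
  have hvμ : ((uμ⁻¹ : Aˣ) : A) * μ = 1 := by rw [← huμ]; exact Units.inv_mul uμ
  have hvν : ((uν⁻¹ : Aˣ) : A) * ν = 1 := by rw [← huν]; exact Units.inv_mul uν
  set vμ : A := ((uμ⁻¹ : Aˣ) : A)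
  set vν : A := ((uν⁻¹ : Aˣ) : A)
  have hK2 : K₂ = Ideal.span ({T ^ p * E ^ q, a} : Set A) := by
    apply le_antisymm
    · rw [hK₂, Ideal.span_le]
      intro x hx
      simp only [Set.mem_insert_iff, Set.mem_singleton_iff] at hx
      rcases hx with rfl | rfl | rfl
      · exact Ideal.subset_span (by simp)
      · rw [SetLike.mem_coe, Ideal.mem_span_pair]
        exact ⟨vν * G, -vν, by linear_combination (-vν) * rel2 + x * hvν⟩
      · exact Ideal.subset_span (by simp)
    · rw [Ideal.span_le]
      intro x hx
      simp only [Set.mem_insert_iff, Set.mem_singleton_iff] at hx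
      rcases hx with rfl | rfl
      · exact Ideal.subset_span (by simp)
      · exact Ideal.subset_span (by simp)
  have hregEa : IsSMulRegular (A ⧸ Ideal.span ({a} : Set A)) E :=
    reg_mod E a (prime_reg_mod hE hEr hEa)
  have hTa : p ≠ 0 → ¬ T ∣ a := by
    intro hp h
    obtain ⟨p', rfl⟩ : ∃ p', p = p' + 1 := ⟨p - 1, by omega⟩
    obtain ⟨a', ha'⟩ := h
    apply hTb
    exact ⟨G * (T ^ p' * E ^ q) - a' * μ, by rw [ha'] at rel1; linear_combination rel1⟩
  have hregTa : p ≠ 0 → IsSMulRegular (A ⧸ Ideal.span ({a} : Set A)) T := fun hp =>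
    reg_mod T a (prime_reg_mod hT hTr (hTa hp))
  have hstep3 := length_TpEq T E a p q hregEa hregTa
  have hE9 : p ≠ 0 → Ideal.span ({T, a} : Set A) = Ideal.span ({T, b} : Set A) := by
    intro hp
    obtain ⟨p', rfl⟩ : ∃ p', p = p' + 1 := ⟨p - 1, by omega⟩
    apply le_antisymm
    · rw [Ideal.span_le]
      intro x hx
      simp only [Set.mem_insert_iff, Set.mem_singleton_iff] at hx
      rcases hx with rfl | rfl
      · exact Ideal.subset_span (by simp)
      · rw [SetLike.mem_coe, Ideal.mem_span_pair]
        exact ⟨vμ * G * (T ^ p' * E ^ q), -vμ, by linear_combination (-vμ) * rel1 + x * hvμ⟩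
    · rw [Ideal.span_le]
      intro x hx
      simp only [Set.mem_insert_iff, Set.mem_singleton_iff] at hx
      rcases hx with rfl | rfl
      · exact Ideal.subset_span (by simp)
      · rw [SetLike.mem_coe, Ideal.mem_span_pair]
        exact ⟨G * (T ^ p' * E ^ q), -μ, by linear_combination -rel1⟩
  have hfinal : (p : ℕ∞) * Module.length A (A ⧸ Ideal.span ({T, a} : Set A)) =
      (p : ℕ∞) * Module.length A (A ⧸ Ideal.span ({T, b} : Set A)) := by
    by_cases hp : p = 0
    · subst hp; simp
    · rw [hE9 hp]
  rw [hstep1, hstep2, hK2, hstep3, hfinal, key1]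
  push_cast
  ring

/-- The residual length when the second branch has maximal divisorial multiplicity. -/
theorem length_main3 [IsNoetherianRing A] (T E a b G α : A) (n : ℕ) (hn : 1 ≤ n)
    (hT : Prime T) (hTr : ∀ y, T * y = 0 → y = 0)
    (hTE : ¬ T ∣ E)
    (hα : IsUnit α)
    (rel : b * α = G * T ^ (n - 1) - E * a)
    (hTb : ¬ T ∣ b)
    (hm : Module.length A (A ⧸ Ideal.span ({T, E} : Set A)) = 1) :
    Module.length A (A ⧸ Ideal.span ({a * T, b, T ^ n} : Set A)) + ((n - 1 : ℕ) : ℕ∞) =
      (n : ℕ∞) * Module.length A (A ⧸ Ideal.span ({T, b} : Set A)) := by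
  obtain ⟨uα, huα⟩ := hα
  have hvα : ((uα⁻¹ : Aˣ) : A) * α = 1 := by rw [← huα]; exact Units.inv_mul uα
  set vα : A := ((uα⁻¹ : Aˣ) : A)
  obtain ⟨m, rfl⟩ : ∃ m, n = m + 1 := ⟨n - 1, by omega⟩
  rw [Nat.add_sub_cancel] at rel ⊢
  cases m with
  | zero =>
    have : Ideal.span ({a * T, b, T ^ (0 + 1)} : Set A) = Ideal.span ({T, b} : Set A) := by
      apply le_antisymm
      · rw [Ideal.span_le]
        intro x hx
        simp only [Set.mem_insert_iff, Set.mem_singleton_iff] at hx
        rcases hx with rfl | rfl | rfl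
        · exact Ideal.mul_mem_left _ _ (Ideal.subset_span (by simp))
        · exact Ideal.subset_span (by simp)
        · rw [zero_add, pow_one]; exact Ideal.subset_span (by simp)
      · rw [Ideal.span_le]
        intro x hx
        simp only [Set.mem_insert_iff, Set.mem_singleton_iff] at hx
        rcases hx with rfl | rfl
        · exact Ideal.subset_span (by simp)
        · exact Ideal.subset_span (by simp)
    rw [this]
    simp
  | succ m =>
    -- n = m + 2
    have hTa : ¬ T ∣ a := by
      rintro ⟨a', ha'⟩
      have h1 : T ∣ b * α :=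
        ⟨G * T ^ m - E * a', by rw [rel, ha']; ring⟩
      rcases hT.dvd_or_dvd h1 with h2 | h2
      · exact hTb h2
      · exact hT.not_unit (isUnit_of_dvd_unit h2 (huα ▸ uα.isUnit))
    set K : Ideal A := Ideal.span ({a * T, b, T ^ (m + 1 + 1)} : Set A) with hK
    set K' : Ideal A := Ideal.span ({a, b, T ^ (m + 1)} : Set A) with hK'
    have hcol : ∀ y, y ∈ K' ↔ T * y ∈ K := by
      intro y
      rw [hK, hK', mem_span_triple, mem_span_triple]
      constructor
      · rintro ⟨p', q', r, rfl⟩
        exact ⟨p', q' * T, r, by ring⟩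
      · rintro ⟨p', q', r, h⟩
        have h1 : T ∣ q' * b :=
          ⟨y - p' * a - r * T ^ (m + 1), by linear_combination h⟩
        have h2 : T ∣ q' := by
          rcases hT.dvd_or_dvd h1 with h2 | h2
          · exact h2
          · exact absurd h2 hTb
        obtain ⟨q'', rfl⟩ := h2
        refine ⟨p', q'', r, ?_⟩
        have : T * (p' * a + q'' * b + r * T ^ (m + 1) - y) = 0 := by
          linear_combination h
        exact sub_eq_zero.mp (hTr _ this)
    have hstep := length_colon K K' T hcol
    have hKT : K ⊔ Ideal.span {T} = Ideal.span ({T, b} : Set A) := by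
      rw [span_pair_eq_sup]
      apply le_antisymm
      · refine sup_le ?_ le_sup_left
        rw [hK, Ideal.span_le]
        intro x hx
        simp only [Set.mem_insert_iff, Set.mem_singleton_iff] at hx
        rcases hx with rfl | rfl | rfl
        · exact Ideal.mem_sup_left (Ideal.mul_mem_left _ _ (Ideal.mem_span_singleton_self _))
        · exact Ideal.mem_sup_right (Ideal.mem_span_singleton_self _)
        · have : T ^ (m + 1 + 1) = T ^ (m + 1) * T := by ring
          rw [this]
          exact Ideal.mem_sup_left (Ideal.mul_mem_left _ _ (Ideal.mem_span_singleton_self _))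
      · refine sup_le le_sup_right ?_
        rw [Ideal.span_le, Set.singleton_subset_iff]
        exact Ideal.mem_sup_left (Ideal.subset_span (by simp))
    rw [hKT] at hstep
    have hK'eq : K' = Ideal.span ({T ^ (m + 1), a} : Set A) := by
      apply le_antisymm
      · rw [hK', Ideal.span_le]
        intro x hx
        simp only [Set.mem_insert_iff, Set.mem_singleton_iff] at hx
        rcases hx with rfl | rfl | rfl
        · exact Ideal.subset_span (by simp)
        · rw [SetLike.mem_coe, Ideal.mem_span_pair]
          exact ⟨vα * G, -vα * E, by linear_combination (-vα) * rel + x * hvα⟩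
        · exact Ideal.subset_span (by simp)
      · rw [Ideal.span_le]
        intro x hx
        simp only [Set.mem_insert_iff, Set.mem_singleton_iff] at hx
        rcases hx with rfl | rfl
        · exact Ideal.subset_span (by simp)
        · exact Ideal.subset_span (by simp)
    have hregTa : IsSMulRegular (A ⧸ Ideal.span ({a} : Set A)) T :=
      reg_mod T a (prime_reg_mod hT hTr hTa)
    have hK'len := length_pow' T a hregTa (m + 1)
    -- s₁ = 1 + ℓ(A/(T,a))
    have hregE : IsSMulRegular (A ⧸ Ideal.span ({T} : Set A)) E := by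
      apply reg_mod
      intro y h
      rw [Ideal.mem_span_singleton] at h ⊢
      rcases hT.dvd_or_dvd h with h2 | h2
      · exact absurd h2 hTE
      · exact h2
    have key1 := length_split E a T hregE
    have hTb_eq : Ideal.span ({T, b} : Set A) = Ideal.span ({E * a, T} : Set A) := by
      apply le_antisymm
      · rw [Ideal.span_le]
        intro x hx
        simp only [Set.mem_insert_iff, Set.mem_singleton_iff] at hx
        rcases hx with rfl | rfl
        · exact Ideal.subset_span (by simp)
        · rw [SetLike.mem_coe, Ideal.mem_span_pair]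
          exact ⟨-vα, vα * G * T ^ m, by linear_combination (-vα) * rel + x * hvα⟩
      · rw [Ideal.span_le]
        intro x hx
        simp only [Set.mem_insert_iff, Set.mem_singleton_iff] at hx
        rcases hx with rfl | rfl
        · rw [SetLike.mem_coe, Ideal.mem_span_pair]
          exact ⟨G * T ^ m, -α, by linear_combination -rel⟩
        · exact Ideal.subset_span (by simp)
    rw [hstep, hK'eq, hK'len, hTb_eq, key1, Ideal.span_pair_comm (x := E), hm,
      Ideal.span_pair_comm (x := a)]
    push_cast
    ring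

end Groth.Agent.Lib.Helper16NodeLen
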