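import Mathlib
import Groth.Prelude.Def_W4c5spincurvestfNode

/-!
# Two-variable power series over a commutative ring, and the node ring `R[[x,y]]/(xy - π)`
over an adically complete ring (helper16)
-/

set_option autoImplicit false
set_option linter.style.haveILetI false
set_option linter.unusedSectionVars false

universe u

namespace Groth.Agent.Lib.Helper16NodeR

open MvPowerSeries

variable {R : Type u} [CommRing R]

/-- exponent `(i, j)` -/
noncomputable def E (i j : ℕ) : Fin 2 →₀ ℕ := Finsupp.single 0 i + Finsupp.single 1 j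

@[simp] lemma E_zero (i j : ℕ) : (E i j) 0 = i := by simp [E]
@[simp] lemma E_one (i j : ℕ) : (E i j) 1 = j := by simp [E]

lemma E_eta (m : Fin 2 →₀ ℕ) : E (m 0) (m 1) = m := by
  ext t
  fin_cases t <;> simp [E]

lemma E_zero_zero : E 0 0 = 0 := by simp [E]

/-- coefficient at `(i, j)` -/
noncomputable def c (f : MvPowerSeries (Fin 2) R) (i j : ℕ) : R := MvPowerSeries.coeff (E i j) f

lemma c_ext {f g : MvPowerSeries (Fin 2) R} (h : ∀ i j, c f i j = c g i j) : f = g := by
  ext m
  rw [← E_eta m]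
  exact h _ _

/-- power series with given coefficients -/
def mkS (φ : ℕ → ℕ → R) : MvPowerSeries (Fin 2) R := fun m => φ (m 0) (m 1)

@[simp] lemma c_mkS (φ : ℕ → ℕ → R) (i j : ℕ) : c (mkS φ) i j = φ i j := by
  simp only [c, mkS, MvPowerSeries.coeff_apply, E_zero, E_one]

lemma c_add (f g : MvPowerSeries (Fin 2) R) (i j : ℕ) : c (f + g) i j = c f i j + c g i j := by
  simp [c]

lemma c_sub (f g : MvPowerSeries (Fin 2) R) (i j : ℕ) : c (f - g) i j = c f i j - c g i j := by
  simp [c]

lemma c_C_mul (a : R) (f : MvPowerSeries (Fin 2) R) (i j : ℕ) :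
    c (MvPowerSeries.C a * f) i j = a * c f i j := by
  simp [c]

lemma c_X0_pow_mul (e : ℕ) (g : MvPowerSeries (Fin 2) R) (i j : ℕ) :
    c ((X 0 : MvPowerSeries (Fin 2) R) ^ e * g) i j = if e ≤ i then c g (i - e) j else 0 := by
  simp only [c]
  rw [X_pow_eq, coeff_monomial_mul]
  have h1 : (Finsupp.single (0 : Fin 2) e ≤ E i j) ↔ e ≤ i := by
    rw [Finsupp.le_def]
    constructor
    · intro h
      simpa using h 0
    · intro h t
      fin_cases t <;> simp [h]
  have h2 : E i j - Finsupp.single (0 : Fin 2) e = E (i - e) j := by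
    ext t
    fin_cases t <;> simp [E]
  by_cases h : e ≤ i
  · rw [if_pos (h1.2 h), if_pos h, h2, one_mul]
  · rw [if_neg (fun h' => h (h1.1 h')), if_neg h]

lemma c_X1_pow_mul (e : ℕ) (g : MvPowerSeries (Fin 2) R) (i j : ℕ) :
    c ((X 1 : MvPowerSeries (Fin 2) R) ^ e * g) i j = if e ≤ j then c g i (j - e) else 0 := by
  simp only [c]
  rw [X_pow_eq, coeff_monomial_mul]
  have h1 : (Finsupp.single (1 : Fin 2) e ≤ E i j) ↔ e ≤ j := by
    rw [Finsupp.le_def]
    constructor
    · intro h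
      simpa using h 1
    · intro h t
      fin_cases t <;> simp [h]
  have h2 : E i j - Finsupp.single (1 : Fin 2) e = E i (j - e) := by
    ext t
    fin_cases t <;> simp [E]
  by_cases h : e ≤ j
  · rw [if_pos (h1.2 h), if_pos h, h2, one_mul]
  · rw [if_neg (fun h' => h (h1.1 h')), if_neg h]

lemma c_XY_mul (g : MvPowerSeries (Fin 2) R) (i j : ℕ) :
    c ((X 0 : MvPowerSeries (Fin 2) R) * X 1 * g) i j
      = if 1 ≤ i ∧ 1 ≤ j then c g (i - 1) (j - 1) else 0 := by
  have : (X 0 : MvPowerSeries (Fin 2) R) * X 1 * g = X 0 ^ 1 * (X 1 ^ 1 * g) := by ring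
  rw [this, c_X0_pow_mul]
  by_cases hi : 1 ≤ i
  · rw [if_pos hi, c_X1_pow_mul]
    by_cases hj : 1 ≤ j
    · rw [if_pos hj, if_pos ⟨hi, hj⟩]
    · rw [if_neg hj, if_neg (fun h => hj h.2)]
  · rw [if_neg hi, if_neg (fun h => hi h.1)]

/-- the node relation -/
noncomputable def eps (π : R) : MvPowerSeries (Fin 2) R := X 0 * X 1 - C π

lemma c_eps_mul (π : R) (q : MvPowerSeries (Fin 2) R) (i j : ℕ) :
    c (eps π * q) i j = (if 1 ≤ i ∧ 1 ≤ j then c q (i - 1) (j - 1) else 0) - π * c q i j := by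
  unfold eps
  rw [sub_mul, c_sub, c_XY_mul, c_C_mul]

lemma c_toX (s : PowerSeries R) (i j : ℕ) :
    c (PowerSeries.toMvPowerSeries (σ := Fin 2) 0 s) i j
      = if j = 0 then PowerSeries.coeff i s else 0 := by
  unfold c
  rw [PowerSeries.toMvPowerSeries_eq_subst, PowerSeries.coeff_subst_single]
  simp only [E_zero]
  by_cases hj : j = 0
  · subst hj
    rw [if_pos rfl, if_pos]
    ext t
    fin_cases t <;> simp [E]
  · rw [if_neg hj, if_neg]
    intro h
    apply hj
    have := congrArg (fun m : Fin 2 →₀ ℕ => m 1) h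
    simpa [E] using this

lemma c_toY (s : PowerSeries R) (i j : ℕ) :
    c (PowerSeries.toMvPowerSeries (σ := Fin 2) 1 s) i j
      = if i = 0 then PowerSeries.coeff j s else 0 := by
  unfold c
  rw [PowerSeries.toMvPowerSeries_eq_subst, PowerSeries.coeff_subst_single]
  simp only [E_one]
  by_cases hi : i = 0
  · subst hi
    rw [if_pos rfl, if_pos]
    ext t
    fin_cases t <;> simp [E]
  · rw [if_neg hi, if_neg]
    intro h
    apply hi
    have := congrArg (fun m : Fin 2 →₀ ℕ => m 0) h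
    simpa [E] using this

/-! ### Adic sums -/

section Adic

variable (I : Ideal R)

/-- partial sums of `∑ π^l a_l` -/
def psum (π : R) (a : ℕ → R) (n : ℕ) : R := ∑ l ∈ Finset.range n, π ^ l * a l

lemma psum_succ' (π : R) (a : ℕ → R) (n : ℕ) :
    psum π a (n + 1) = a 0 + π * psum π (fun l => a (l + 1)) n := by
  unfold psum
  rw [Finset.sum_range_succ', Finset.mul_sum, pow_zero, one_mul, add_comm]
  congr 1
  apply Finset.sum_congr rfl
  intro l _
  rw [pow_succ]
  ring

lemma psum_sub_mem {π : R} (hπ : π ∈ I) (a : ℕ → R) {m n : ℕ} (h : m ≤ n) :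
    psum π a n - psum π a m ∈ I ^ m := by
  unfold psum
  rw [← Finset.sum_range_add_sum_Ico _ h, add_sub_cancel_left]
  apply Ideal.sum_mem
  intro l hl
  rw [Finset.mem_Ico] at hl
  exact Ideal.mul_mem_right _ _ (Ideal.pow_le_pow_right hl.1 (Ideal.pow_mem_pow hπ l))

lemma smodEq_iff (n : ℕ) (x y : R) :
    x ≡ y [SMOD (I ^ n • ⊤ : Submodule R R)] ↔ x - y ∈ I ^ n := by
  rw [SModEq.sub_mem, smul_eq_mul, Ideal.mul_top]

variable [IsAdicComplete I R]

lemma exists_lim {π : R} (hπ : π ∈ I) (a : ℕ → R) :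
    ∃ L : R, ∀ n, L - psum π a n ∈ I ^ n := by
  obtain ⟨L, hL⟩ := IsPrecomplete.prec' (I := I) (M := R) (psum π a) (by
    intro m n h
    rw [smodEq_iff]
    have := psum_sub_mem I hπ a h
    rw [← neg_sub]
    exact (I ^ m).neg_mem this)
  refine ⟨L, fun n => ?_⟩
  have := hL n
  rw [smodEq_iff] at this
  rw [← neg_sub]
  exact (I ^ n).neg_mem this

lemma eq_zero_of_forall_mem (x : R) (h : ∀ n, x ∈ I ^ n) : x = 0 := by
  apply IsHausdorff.haus' (I := I) (M := R)
  intro n
  rw [smodEq_iff, sub_zero]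
  exact h n

open Classical in
/-- the sum `∑ π^l a_l` -/
noncomputable def gsum (π : R) (a : ℕ → R) : R :=
  if h : π ∈ I then Classical.choose (exists_lim I h a) else 0

lemma gsum_spec {π : R} (hπ : π ∈ I) (a : ℕ → R) (n : ℕ) :
    gsum I π a - psum π a n ∈ I ^ n := by
  unfold gsum
  rw [dif_pos hπ]
  exact Classical.choose_spec (exists_lim I hπ a) n

lemma gsum_shift {π : R} (hπ : π ∈ I) (a : ℕ → R) :
    gsum I π a = a 0 + π * gsum I π (fun l => a (l + 1)) := by
  rw [← sub_eq_zero]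
  apply eq_zero_of_forall_mem I
  intro n
  have h1 := gsum_spec I hπ a (n + 1)
  have h2 := gsum_spec I hπ (fun l => a (l + 1)) n
  have e : gsum I π a - (a 0 + π * gsum I π (fun l => a (l + 1)))
      = (gsum I π a - psum π a (n + 1))
        - π * (gsum I π (fun l => a (l + 1)) - psum π (fun l => a (l + 1)) n) := by
    rw [psum_succ']
    ring
  rw [e]
  exact Ideal.sub_mem _ (Ideal.pow_le_pow_right (Nat.le_succ n) h1) (Ideal.mul_mem_left _ _ h2)

end Adic

/-! ### Normal form modulo `xy - π` -/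

section NF

variable (I : Ideal R) [IsAdicComplete I R]

/-- coefficients of the quotient in the division by `xy - π` -/
noncomputable def quo (π : R) (f : MvPowerSeries (Fin 2) R) (i j : ℕ) : R :=
  gsum I π (fun l => c f (i + 1 + l) (j + 1 + l))

lemma quo_eq {π : R} (hπ : π ∈ I) (f : MvPowerSeries (Fin 2) R) (i j : ℕ) :
    quo I π f i j = c f (i + 1) (j + 1) + π * quo I π f (i + 1) (j + 1) := by
  unfold quo
  rw [gsum_shift I hπ]
  have : (fun l => c f (i + 1 + (l + 1)) (j + 1 + (l + 1)))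
      = (fun l => c f (i + 1 + 1 + l) (j + 1 + 1 + l)) := by
    funext l
    rw [show i + 1 + (l + 1) = i + 1 + 1 + l by ring, show j + 1 + (l + 1) = j + 1 + 1 + l by ring]
  rw [this]

/-- the `x`-part of the normal form -/
noncomputable def nfA (π : R) (f : MvPowerSeries (Fin 2) R) : PowerSeries R :=
  PowerSeries.mk fun i => c f i 0 + π * quo I π f i 0

/-- the `y`-part of the normal form -/
noncomputable def nfB (π : R) (f : MvPowerSeries (Fin 2) R) : PowerSeries R :=
  PowerSeries.mk fun j => if j = 0 then 0 else c f 0 j + π * quo I π f 0 j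

lemma coeff_zero_nfB (π : R) (f : MvPowerSeries (Fin 2) R) :
    PowerSeries.coeff 0 (nfB I π f) = 0 := by
  rw [nfB, PowerSeries.coeff_mk, if_pos rfl]

lemma decomp {π : R} (hπ : π ∈ I) (f : MvPowerSeries (Fin 2) R) :
    f = PowerSeries.toMvPowerSeries (σ := Fin 2) 0 (nfA I π f)
      + PowerSeries.toMvPowerSeries (σ := Fin 2) 1 (nfB I π f)
      + eps π * mkS (quo I π f) := by
  apply c_ext
  intro i j
  rw [c_add, c_add, c_toX, c_toY, c_eps_mul]
  simp only [c_mkS]
  rcases Nat.eq_zero_or_pos j with hj | hj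
  · subst hj
    rw [if_pos rfl, if_neg (by omega : ¬ (1 ≤ i ∧ 1 ≤ 0)), nfA, PowerSeries.coeff_mk]
    rcases Nat.eq_zero_or_pos i with hi | hi
    · subst hi
      rw [if_pos rfl, coeff_zero_nfB]
      ring
    · rw [if_neg (by omega : ¬ i = 0)]
      ring
  · rw [if_neg (by omega : ¬ j = 0)]
    rcases Nat.eq_zero_or_pos i with hi | hi
    · subst hi
      rw [if_pos rfl, if_neg (by omega : ¬ (1 ≤ 0 ∧ 1 ≤ j)), nfB, PowerSeries.coeff_mk,
        if_neg (by omega : ¬ j = 0)]
      ring
    · rw [if_neg (by omega : ¬ i = 0), if_pos ⟨hi, hj⟩]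
      have := quo_eq I hπ f (i - 1) (j - 1)
      rw [show i - 1 + 1 = i by omega, show j - 1 + 1 = j by omega] at this
      rw [this]
      ring

lemma uniq0 {π : R} (hπ : π ∈ I) (a b : PowerSeries R) (hb : PowerSeries.coeff 0 b = 0)
    (q : MvPowerSeries (Fin 2) R)
    (h : PowerSeries.toMvPowerSeries (σ := Fin 2) 0 a
      + PowerSeries.toMvPowerSeries (σ := Fin 2) 1 b = eps π * q) : a = 0 ∧ b = 0 := by
  have hc : ∀ i j, (if j = 0 then PowerSeries.coeff i a else 0)
      + (if i = 0 then PowerSeries.coeff j b else 0)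
      = (if 1 ≤ i ∧ 1 ≤ j then c q (i - 1) (j - 1) else 0) - π * c q i j := by
    intro i j
    have := congrArg (fun f => c f i j) h
    simp only [c_add, c_toX, c_toY, c_eps_mul] at this
    exact this
  have hstep : ∀ i j, c q i j = π * c q (i + 1) (j + 1) := by
    intro i j
    have h1 := hc (i + 1) (j + 1)
    rw [if_neg (by omega), if_neg (by omega), if_pos ⟨by omega, by omega⟩, zero_add,
      show i + 1 - 1 = i by omega, show j + 1 - 1 = j by omega] at h1
    exact (sub_eq_zero.1 h1.symm)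
  have hpow : ∀ l i j, c q i j = π ^ l * c q (i + l) (j + l) := by
    intro l
    induction l with
    | zero => intro i j; simp
    | succ l ih =>
      intro i j
      rw [ih, hstep (i + l) (j + l), pow_succ]
      rw [show i + l + 1 = i + (l + 1) by ring, show j + l + 1 = j + (l + 1) by ring]
      ring
  have hq : ∀ i j, c q i j = 0 := by
    intro i j
    apply eq_zero_of_forall_mem I
    intro l
    rw [hpow l]
    exact Ideal.mul_mem_right _ _ (Ideal.pow_mem_pow hπ l)
  constructor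
  · ext i
    have h1 := hc i 0
    have h0 : (if i = 0 then PowerSeries.coeff 0 b else 0) = 0 := by
      split_ifs
      · exact hb
      · rfl
    rw [if_pos rfl, h0, if_neg (by omega : ¬ (1 ≤ i ∧ 1 ≤ 0)), hq, mul_zero, sub_zero, add_zero]
      at h1
    rw [map_zero]
    exact h1
  · ext j
    rw [map_zero]
    rcases Nat.eq_zero_or_pos j with hj | hj
    · subst hj
      exact hb
    · have h1 := hc 0 j
      rw [if_neg (by omega : ¬ j = 0), if_pos rfl, if_neg (by omega : ¬ (1 ≤ 0 ∧ 1 ≤ j)), hq,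
        mul_zero, sub_zero, zero_add] at h1
      exact h1

end NF

/-! ### The node ring -/

section Ring

open SpinCurv

variable (R) (π : R)

lemma mk_eps : Ideal.Quotient.mk (Ideal.span {(X 0 * X 1 - C π : MvPowerSeries (Fin 2) R)})
    (eps π) = 0 :=
  Ideal.Quotient.eq_zero_iff_mem.2 (Ideal.subset_span rfl)

lemma algebraMap_eq (r : R) :
    algebraMap R (NodeRing R π) r = Ideal.Quotient.mk _ (C r : MvPowerSeries (Fin 2) R) := by
  have : algebraMap R (NodeRing R π) r
      = Ideal.Quotient.mk _ (algebraMap R (MvPowerSeries (Fin 2) R) r) := rfl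
  rw [this, MvPowerSeries.algebraMap_apply, Algebra.algebraMap_self, RingHom.id_apply]

lemma xy_eq : NodeRing.x R π * NodeRing.y R π = algebraMap R (NodeRing R π) π := by
  have h := mk_eps R π
  unfold eps at h
  rw [map_sub, map_mul, sub_eq_zero] at h
  rw [algebraMap_eq]
  exact h

lemma ofX_add (f g : PowerSeries R) :
    NodeRing.ofX R π (f + g) = NodeRing.ofX R π f + NodeRing.ofX R π g := by
  unfold NodeRing.ofX
  rw [map_add, map_add]

lemma ofY_add (f g : PowerSeries R) :
    NodeRing.ofY R π (f + g) = NodeRing.ofY R π f + NodeRing.ofY R π g := by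
  unfold NodeRing.ofY
  rw [map_add, map_add]

lemma ofX_sub (f g : PowerSeries R) :
    NodeRing.ofX R π (f - g) = NodeRing.ofX R π f - NodeRing.ofX R π g := by
  unfold NodeRing.ofX
  rw [map_sub, map_sub]

lemma ofY_sub (f g : PowerSeries R) :
    NodeRing.ofY R π (f - g) = NodeRing.ofY R π f - NodeRing.ofY R π g := by
  unfold NodeRing.ofY
  rw [map_sub, map_sub]

lemma ofX_mul (f g : PowerSeries R) :
    NodeRing.ofX R π (f * g) = NodeRing.ofX R π f * NodeRing.ofX R π g := by
  unfold NodeRing.ofX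
  rw [map_mul, map_mul]

lemma ofY_mul (f g : PowerSeries R) :
    NodeRing.ofY R π (f * g) = NodeRing.ofY R π f * NodeRing.ofY R π g := by
  unfold NodeRing.ofY
  rw [map_mul, map_mul]

lemma ofX_zero : NodeRing.ofX R π 0 = 0 := by
  unfold NodeRing.ofX
  rw [map_zero, map_zero]

lemma ofY_zero : NodeRing.ofY R π 0 = 0 := by
  unfold NodeRing.ofY
  rw [map_zero, map_zero]

lemma ofX_X : NodeRing.ofX R π PowerSeries.X = NodeRing.x R π := by
  unfold NodeRing.ofX NodeRing.x
  rw [PowerSeries.toMvPowerSeries_X]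

lemma ofY_X : NodeRing.ofY R π PowerSeries.X = NodeRing.y R π := by
  unfold NodeRing.ofY NodeRing.y
  rw [PowerSeries.toMvPowerSeries_X]

lemma ofX_C (r : R) : NodeRing.ofX R π (PowerSeries.C r) = algebraMap R (NodeRing R π) r := by
  unfold NodeRing.ofX
  rw [PowerSeries.toMvPowerSeries_C, algebraMap_eq]

lemma ofY_C (r : R) : NodeRing.ofY R π (PowerSeries.C r) = algebraMap R (NodeRing R π) r := by
  unfold NodeRing.ofY
  rw [PowerSeries.toMvPowerSeries_C, algebraMap_eq]

variable (I : Ideal R) [IsAdicComplete I R]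

lemma exists_nf {π : R} (hπ : π ∈ I) (z : NodeRing R π) :
    ∃ a b : PowerSeries R, PowerSeries.coeff 0 b = 0 ∧
      z = NodeRing.ofX R π a + NodeRing.ofY R π b := by
  obtain ⟨f, rfl⟩ := Ideal.Quotient.mk_surjective z
  refine ⟨nfA I π f, nfB I π f, coeff_zero_nfB I π f, ?_⟩
  conv_lhs => rw [decomp I hπ f]
  rw [map_add, map_add, map_mul, mk_eps, zero_mul, add_zero]

lemma nf_zero {π : R} (hπ : π ∈ I) (a b : PowerSeries R) (hb : PowerSeries.coeff 0 b = 0)
    (h : NodeRing.ofX R π a + NodeRing.ofY R π b = 0) : a = 0 ∧ b = 0 := by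
  have h1 : Ideal.Quotient.mk (Ideal.span {(X 0 * X 1 - C π : MvPowerSeries (Fin 2) R)})
      (PowerSeries.toMvPowerSeries (σ := Fin 2) 0 a
        + PowerSeries.toMvPowerSeries (σ := Fin 2) 1 b) = 0 := by
    rw [map_add]
    exact h
  rw [Ideal.Quotient.eq_zero_iff_mem, Ideal.mem_span_singleton'] at h1
  obtain ⟨q, hq⟩ := h1
  exact uniq0 I hπ a b hb q (by rw [← hq]; unfold eps; ring)

lemma nf_zero' {π : R} (hπ : π ∈ I) (a b : PowerSeries R)
    (h : NodeRing.ofX R π a + NodeRing.ofY R π b = 0) :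
    a = -PowerSeries.C (PowerSeries.coeff 0 b) ∧ b = PowerSeries.C (PowerSeries.coeff 0 b) := by
  have h1 : NodeRing.ofX R π (a + PowerSeries.C (PowerSeries.coeff 0 b))
      + NodeRing.ofY R π (b - PowerSeries.C (PowerSeries.coeff 0 b)) = 0 := by
    rw [ofX_add, ofY_sub, ofX_C, ofY_C]
    linear_combination h
  obtain ⟨h2, h3⟩ := nf_zero R I hπ _ _ (by simp) h1
  exact ⟨eq_neg_of_add_eq_zero_left h2, sub_eq_zero.1 h3⟩

lemma X_mul_eq_zero (f : PowerSeries R) (h : PowerSeries.X * f = 0) : f = 0 := by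
  ext n
  have := congrArg (PowerSeries.coeff (n + 1)) h
  rw [PowerSeries.coeff_succ_X_mul, map_zero] at this
  rw [this, map_zero]

/-! ### The matrix `α(p, q)` -/

variable (p q : R)

lemma xy_eq' : NodeRing.x R (p * q) * NodeRing.y R (p * q)
    = algebraMap R (NodeRing R (p * q)) p * algebraMap R (NodeRing R (p * q)) q := by
  rw [xy_eq, (algebraMap R (NodeRing R (p * q))).map_mul p q]

lemma alpha_mulVec (w : Fin 2 → NodeRing R (p * q)) :
    Matrix.mulVec (nodeAlpha R p q) w
      = ![NodeRing.x R (p * q) * w 0 + algebraMap R (NodeRing R (p * q)) p * w 1,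
          algebraMap R (NodeRing R (p * q)) q * w 0 + NodeRing.y R (p * q) * w 1] := by
  unfold nodeAlpha
  funext i
  fin_cases i <;> simp [Matrix.mulVec, dotProduct, Fin.sum_univ_two]

lemma alpha_gen1 : Matrix.mulVec (nodeAlpha R p q)
    ![algebraMap R (NodeRing R (p * q)) p, -NodeRing.x R (p * q)] = 0 := by
  rw [alpha_mulVec]
  funext i
  fin_cases i
  · simp only [Matrix.cons_val_zero, Matrix.cons_val_one, Fin.zero_eta, Pi.zero_apply]
    ring
  · simp only [Matrix.cons_val_zero, Matrix.cons_val_one, Fin.mk_one, Pi.zero_apply]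
    linear_combination -(xy_eq' R p q)

lemma alpha_gen2 : Matrix.mulVec (nodeAlpha R p q)
    ![NodeRing.y R (p * q), -algebraMap R (NodeRing R (p * q)) q] = 0 := by
  rw [alpha_mulVec]
  funext i
  fin_cases i
  · simp only [Matrix.cons_val_zero, Matrix.cons_val_one, Fin.zero_eta, Pi.zero_apply]
    linear_combination (xy_eq' R p q)
  · simp only [Matrix.cons_val_zero, Matrix.cons_val_one, Fin.mk_one, Pi.zero_apply]
    ring

/-- reduction of a vector modulo the two kernel generators -/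
lemma reduce (hp : p ∈ I) (w : Fin 2 → NodeRing R (p * q)) :
    ∃ (f g : PowerSeries R) (c d : NodeRing R (p * q)),
      w = ![NodeRing.ofX R (p * q) f, NodeRing.ofY R (p * q) g]
        + c • ![algebraMap R (NodeRing R (p * q)) p, -NodeRing.x R (p * q)]
        + d • ![NodeRing.y R (p * q), -algebraMap R (NodeRing R (p * q)) q] := by
  have hπ : p * q ∈ I := Ideal.mul_mem_right _ _ hp
  obtain ⟨a₁, a₂, ha₂, ha⟩ := exists_nf R I hπ (w 0)
  obtain ⟨b₁, b₂, hb₂, hb⟩ := exists_nf R I hπ (w 1)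
  set a₂' : PowerSeries R := PowerSeries.mk fun n => PowerSeries.coeff (n + 1) a₂ with ha₂'
  have ea₂ : a₂ = PowerSeries.X * a₂' := by
    have := PowerSeries.eq_X_mul_shift_add_const a₂
    rw [← PowerSeries.coeff_zero_eq_constantCoeff_apply, ha₂, map_zero, add_zero] at this
    exact this
  set b₁' : PowerSeries R := PowerSeries.mk fun n => PowerSeries.coeff (n + 1) b₁ with hb₁'
  have eb₁ : b₁ = PowerSeries.X * b₁' + PowerSeries.C (PowerSeries.constantCoeff b₁) :=
    PowerSeries.eq_X_mul_shift_add_const b₁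
  refine ⟨a₁ + PowerSeries.C p * b₁',
    PowerSeries.C (PowerSeries.constantCoeff b₁) + b₂ + PowerSeries.C q * a₂',
    -NodeRing.ofX R (p * q) b₁', NodeRing.ofY R (p * q) a₂', ?_⟩
  funext i
  fin_cases i
  · simp only [Fin.zero_eta, Pi.add_apply, Pi.smul_apply, Matrix.cons_val_zero, smul_eq_mul]
    rw [ha, ea₂, ofX_add, ofX_mul, ofY_mul, ofX_C, ofY_X]
    ring
  · simp only [Fin.mk_one, Pi.add_apply, Pi.smul_apply, Matrix.cons_val_one,
      Matrix.cons_val_fin_one, smul_eq_mul]
    rw [hb]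
    conv_lhs => rw [eb₁]
    rw [ofX_add, ofX_mul, ofX_X, ofX_C, ofY_add, ofY_add, ofY_mul, ofY_C, ofY_C]
    ring

lemma restricted_injective (hp : p ∈ I) (f g : PowerSeries R)
    (h : Matrix.mulVec (nodeAlpha R p q)
      ![NodeRing.ofX R (p * q) f, NodeRing.ofY R (p * q) g] = 0) : f = 0 ∧ g = 0 := by
  have hπ : p * q ∈ I := Ideal.mul_mem_right _ _ hp
  rw [alpha_mulVec] at h
  have h0 := congrFun h 0
  have h1 := congrFun h 1
  simp only [Matrix.cons_val_zero, Matrix.cons_val_one, Pi.zero_apply] at h0 h1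
  have e0 : NodeRing.ofX R (p * q) (PowerSeries.X * f)
      + NodeRing.ofY R (p * q) (PowerSeries.C p * g) = 0 := by
    rw [ofX_mul, ofX_X, ofY_mul, ofY_C]
    exact h0
  obtain ⟨h2, -⟩ := nf_zero' R I hπ _ _ e0
  have hc : PowerSeries.coeff 0 (PowerSeries.C p * g) = 0 := by
    have := congrArg (PowerSeries.coeff 0) h2
    rw [PowerSeries.coeff_zero_X_mul, map_neg, PowerSeries.coeff_zero_C] at this
    exact (neg_eq_zero.1 this.symm)
  rw [hc, map_zero, neg_zero] at h2
  have hf : f = 0 := X_mul_eq_zero R f h2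
  rw [hf, ofX_zero, mul_zero, zero_add] at h1
  have e1 : NodeRing.ofX R (p * q) 0 + NodeRing.ofY R (p * q) (PowerSeries.X * g) = 0 := by
    rw [ofX_zero, zero_add, ofY_mul, ofY_X]
    exact h1
  obtain ⟨-, h3⟩ := nf_zero R I hπ _ _ (PowerSeries.coeff_zero_X_mul g) e1
  exact ⟨hf, X_mul_eq_zero R g h3⟩

end Ring

end Groth.Agent.Lib.Helper16NodeR
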