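import Mathlib
import Groth.Prelude.Def_Tame
import Groth.Agent.Lib.Helper16LocSymDVR

set_option autoImplicit false
set_option linter.style.haveILetI false
set_option linter.unusedSectionVars false

universe u
open CategoryTheory AlgebraicGeometry TopologicalSpace

namespace Helper16OrdOpen

open Helper16LocSym

/-- Mathlib's order of vanishing at a point of coheight one agrees with `CycAlg.ordFrac`. -/
lemma ord_eq_ordFrac (X : Scheme.{u}) [IsIntegral X] [IsLocallyNoetherian X] (z : X)
    (hz : Order.coheight z = 1) (f : X.functionField) :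
    Scheme.ord f z = CycAlg.ordFrac (X.presheaf.stalk z) X.functionField f := by
  rw [Scheme.ord_eq_ordHom_of_coheight_eq_one hz]
  unfold CycAlg.ordFrac
  have h : IsNoetherianRing (X.presheaf.stalk z) ∧ Ring.KrullDimLE 1 (X.presheaf.stalk z) ∧
      Nontrivial (X.presheaf.stalk z) ∧ IsFractionRing (X.presheaf.stalk z) X.functionField :=
    ⟨inferInstance, krullDimLE_of_coheight_le hz.le, inferInstance, inferInstance⟩
  rw [dif_pos h]
  unfold Scheme.ordHom
  haveI := h.2.1
  generalize (Ring.ordFrac (X.presheaf.stalk z) (K := X.functionField)) f = v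
  cases v with
  | zero => rfl
  | coe a => rfl

section openImm

variable {X Y : Scheme.{u}} [IsIntegral X] [IsIntegral Y] (j : Y ⟶ X) [IsOpenImmersion j]

lemma gp_specializes : j (genericPoint Y) ⤳ genericPoint X :=
  specializes_of_eq (genericPoint_eq_of_isOpenImmersion j)

/-- the isomorphism of function fields induced by an open immersion -/
noncomputable def ψ : X.functionField →+* Y.functionField :=
  (j.stalkMap (genericPoint Y)).hom.comp (X.presheaf.stalkSpecializes (gp_specializes j)).hom

lemma ψ_bijective : Function.Bijective (ψ j) := by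
  unfold ψ
  have h1 : Function.Bijective (j.stalkMap (genericPoint Y)).hom :=
    ConcreteCategory.bijective_of_isIso (j.stalkMap (genericPoint Y))
  have hins : Inseparable (j (genericPoint Y)) (genericPoint X) :=
    Inseparable.of_eq (genericPoint_eq_of_isOpenImmersion j)
  have h2 : Function.Bijective (X.presheaf.stalkSpecializes (gp_specializes j)).hom := by
    have : IsIso (X.presheaf.stalkSpecializes (gp_specializes j)) :=
      (inferInstance : IsIso (X.presheaf.stalkCongr hins).inv)
    exact ConcreteCategory.bijective_of_isIso _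
  exact h1.comp h2

lemma ψ_algebraMap (y : Y) (a : X.presheaf.stalk (j y)) :
    ψ j (algebraMap (X.presheaf.stalk (j y)) X.functionField a)
      = algebraMap (Y.presheaf.stalk y) Y.functionField ((j.stalkMap y).hom a) := by
  have hy : genericPoint Y ⤳ y := genericPoint_specializes y
  have h1 := Scheme.Hom.stalkSpecializes_stalkMap_apply j (genericPoint Y) y hy a
  show (j.stalkMap (genericPoint Y)).hom ((X.presheaf.stalkSpecializes (gp_specializes j)).hom
    ((X.presheaf.stalkSpecializes (genericPoint_specializes (j y))).hom a)) =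
    (Y.presheaf.stalkSpecializes hy).hom ((j.stalkMap y).hom a)
  rw [← h1]
  congr 1
  have := TopCat.Presheaf.stalkSpecializes_comp X.presheaf (gp_specializes j)
    (genericPoint_specializes (j y))
  exact congrArg (fun φ => φ.hom a) this

lemma ordFrac_zero {R : Type*} [CommRing R] {K : Type*} [Field K] [Algebra R K] :
    CycAlg.ordFrac R K (0 : K) = 0 := by
  unfold CycAlg.ordFrac
  split_ifs with h
  · haveI := h.1; haveI := h.2.1; haveI := h.2.2.1; haveI := h.2.2.2
    rw [map_zero]
    rfl
  · rfl

theorem ord_ψ [IsLocallyNoetherian X] [IsLocallyNoetherian Y] (y : Y) (hy : Order.coheight y = 1)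
    (hdvr : IsDiscreteValuationRing (X.presheaf.stalk (j y))) (f : X.functionField) :
    Scheme.ord (ψ j f) y = Scheme.ord f (j y) := by
  have hjy : Order.coheight (j y) = 1 := by
    rw [coheight_eq_of_isOpenImmersion]; exact hy
  rw [ord_eq_ordFrac Y y hy, ord_eq_ordFrac X (j y) hjy]
  by_cases hf : f = 0
  · rw [hf, map_zero, ordFrac_zero, ordFrac_zero]
  let e : X.presheaf.stalk (j y) ≃+* Y.presheaf.stalk y :=
    RingEquiv.ofBijective (j.stalkMap y).hom (ConcreteCategory.bijective_of_isIso (j.stalkMap y))
  haveI hdvrY : IsDiscreteValuationRing (Y.presheaf.stalk y) :=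
    IsDiscreteValuationRing.RingEquivClass.isDiscreteValuationRing e
  obtain ⟨ϖ, hϖ⟩ := IsDiscreteValuationRing.exists_irreducible (X.presheaf.stalk (j y))
  obtain ⟨w, n, rfl⟩ := exists_unit_mul_pow (R := X.presheaf.stalk (j y)) ϖ hϖ f hf
  rw [map_mul, map_zpow₀, ψ_algebraMap, ψ_algebraMap, ordFrac_unit_mul_pow w ϖ hϖ n]
  have hϖ' : Irreducible (e ϖ) := (MulEquiv.irreducible_iff e).2 hϖ
  exact ordFrac_unit_mul_pow (Units.map e.toRingHom.toMonoidHom w) (e ϖ) hϖ' n

end openImm

end Helper16OrdOpen
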