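import Mathlib
import Groth.Agent.S15315
import Groth.Agent.Lib.Helper16NodeLen

/-!
# Fixed-point ideals of automorphisms of `B[[X]]` (helper16)
-/

set_option autoImplicit false
set_option linter.style.haveILetI false
set_option linter.unusedSectionVars false
universe u v

open PowerSeries

namespace Groth.Agent.Lib.Helper16PSFix

/-- length of `R/I` is the length of `R'/IR'` for a surjection `R → R'` with kernel inside `I` -/
theorem length_quot_map {R : Type u} {R' : Type v} [CommRing R] [CommRing R'] (ρ : R →+* R')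
    (hρ : Function.Surjective ρ) (I : Ideal R) (hker : RingHom.ker ρ ≤ I) :
    Module.length R (R ⧸ I) = Module.length R' (R' ⧸ I.map ρ) := by
  letI : Algebra R R' := ρ.toAlgebra
  letI : Module R (R' ⧸ I.map ρ) := Module.compHom (R' ⧸ I.map ρ) ρ
  haveI : IsScalarTower R R' (R' ⧸ I.map ρ) := ⟨fun r r' m => by
    show (ρ r * r') • m = ρ r • (r' • m)
    rw [mul_smul]⟩
  have h1 : Module.length R (R' ⧸ I.map ρ) = Module.length R' (R' ⧸ I.map ρ) :=
    Module.length_eq_of_surjective (S := R) (R := R') (M := R' ⧸ I.map ρ) hρ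
  rw [← h1]
  let φ : R →ₗ[R] (R' ⧸ I.map ρ) :=
    { toFun := fun r => Ideal.Quotient.mk (I.map ρ) (ρ r)
      map_add' := fun r s => by rw [map_add, map_add]
      map_smul' := fun r s => by
        show Ideal.Quotient.mk (I.map ρ) (ρ (r * s)) = ρ r • Ideal.Quotient.mk (I.map ρ) (ρ s)
        rw [map_mul, map_mul]
        rfl }
  have hφs : Function.Surjective φ := by
    intro m
    obtain ⟨r', rfl⟩ := Ideal.Quotient.mk_surjective m
    obtain ⟨r, rfl⟩ := hρ r'
    exact ⟨r, rfl⟩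
  have hφk : LinearMap.ker φ = I := by
    ext r
    rw [LinearMap.mem_ker]
    show Ideal.Quotient.mk (I.map ρ) (ρ r) = 0 ↔ r ∈ I
    rw [Ideal.Quotient.eq_zero_iff_mem, Ideal.mem_map_iff_of_surjective ρ hρ]
    constructor
    · rintro ⟨i, hi, hir⟩
      have : r - i ∈ RingHom.ker ρ := by rw [RingHom.mem_ker, map_sub, hir, sub_self]
      have := add_mem (hker this) hi
      rwa [sub_add_cancel] at this
    · intro hr
      exact ⟨r, hr, rfl⟩
  exact ((Submodule.quotEquivOfEq _ _ hφk.symm).trans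
    (φ.quotKerEquivOfSurjective hφs)).length_eq

variable {B : Type u} [CommRing B]

theorem exists_approx (J : Ideal B⟦X⟧) (σ : B⟦X⟧ →+* B⟦X⟧)
    (hB : ∀ b : B, σ (C b) - C b ∈ J) (hX : σ X - X ∈ J) (M : ℕ) :
    ∀ r : B⟦X⟧, ∃ r₀ s : B⟦X⟧, r = r₀ + X ^ M * s ∧ σ r₀ - r₀ ∈ J := by
  induction M with
  | zero =>
    intro r
    exact ⟨0, r, by simp, by simp⟩
  | succ M ih =>
    intro r
    obtain ⟨r₀, s, hr, hr₀⟩ := ih (mk fun p => coeff (p + 1) r)
    refine ⟨X * r₀ + C (constantCoeff r), s, ?_, ?_⟩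
    · conv_lhs => rw [eq_X_mul_shift_add_const r, hr]
      ring
    · have : σ (X * r₀ + C (constantCoeff r)) - (X * r₀ + C (constantCoeff r)) =
          σ X * (σ r₀ - r₀) + (σ X - X) * r₀ + (σ (C (constantCoeff r)) - C (constantCoeff r)) := by
        rw [map_add, map_mul]; ring
      rw [this]
      exact add_mem (add_mem (J.mul_mem_left _ hr₀) (J.mul_mem_right _ hX)) (hB _)

theorem X_mem_maximalIdeal [IsLocalRing B] : (X : B⟦X⟧) ∈ IsLocalRing.maximalIdeal B⟦X⟧ := by
  rw [IsLocalRing.mem_maximalIdeal, mem_nonunits_iff]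
  intro h
  have := isUnit_constantCoeff _ h
  rw [constantCoeff_X] at this
  exact not_isUnit_zero this

theorem sub_mem_of_gens [IsLocalRing B] [IsNoetherianRing B] (σ : B⟦X⟧ ≃+* B⟦X⟧)
    (J : Ideal B⟦X⟧)
    (hB : ∀ b : B, σ (C b) - C b ∈ J) (hX : σ X - X ∈ J) (r : B⟦X⟧) : σ r - r ∈ J := by
  have hne : IsLocalRing.maximalIdeal B⟦X⟧ ≠ ⊤ := Ideal.IsMaximal.ne_top inferInstance
  have hK := Ideal.iInf_pow_smul_eq_bot_of_isLocalRing (M := B⟦X⟧ ⧸ J)
    (IsLocalRing.maximalIdeal B⟦X⟧) hne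
  have hσm : ∀ (M : ℕ) (s : B⟦X⟧), s ∈ IsLocalRing.maximalIdeal B⟦X⟧ ^ M →
      σ s ∈ IsLocalRing.maximalIdeal B⟦X⟧ ^ M := by
    intro M s hs
    have h1 : Ideal.map (σ : B⟦X⟧ →+* B⟦X⟧) (IsLocalRing.maximalIdeal B⟦X⟧) ≤
        IsLocalRing.maximalIdeal B⟦X⟧ := by
      rw [Ideal.map_le_iff_le_comap]
      intro x hx
      rw [Ideal.mem_comap, IsLocalRing.mem_maximalIdeal, mem_nonunits_iff]
      rw [IsLocalRing.mem_maximalIdeal, mem_nonunits_iff] at hx
      intro hu
      apply hx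
      have := hu.map (σ.symm : B⟦X⟧ →+* B⟦X⟧)
      simpa using this
    have h2 : (σ : B⟦X⟧ →+* B⟦X⟧) s ∈ Ideal.map (σ : B⟦X⟧ →+* B⟦X⟧)
        (IsLocalRing.maximalIdeal B⟦X⟧ ^ M) := Ideal.mem_map_of_mem _ hs
    rw [Ideal.map_pow] at h2
    exact Ideal.pow_right_mono h1 M h2
  rw [← Ideal.Quotient.eq_zero_iff_mem, ← Submodule.mem_bot (R := B⟦X⟧), ← hK,
    Submodule.mem_iInf]
  intro M
  obtain ⟨r₀, s, hr, hr₀⟩ := exists_approx J (σ : B⟦X⟧ →+* B⟦X⟧) hB hX M r
  have hs : X ^ M * s ∈ IsLocalRing.maximalIdeal B⟦X⟧ ^ M :=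
    Ideal.mul_mem_right _ _ (Ideal.pow_mem_pow X_mem_maximalIdeal M)
  have h2 : σ (X ^ M * s) - X ^ M * s ∈ IsLocalRing.maximalIdeal B⟦X⟧ ^ M :=
    sub_mem (hσm M _ hs) hs
  have h3 : Ideal.Quotient.mk J (σ r - r) =
      (σ (X ^ M * s) - X ^ M * s) • (Ideal.Quotient.mk J 1 : B⟦X⟧ ⧸ J) := by
    have hr₀' : Ideal.Quotient.mk J (σ r₀ - r₀) = 0 := Ideal.Quotient.eq_zero_iff_mem.2 hr₀
    have e1 : σ r - r = (σ (X ^ M * s) - X ^ M * s) + (σ r₀ - r₀) := by
      conv_lhs => rw [hr]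
      rw [map_add]; ring
    rw [e1, map_add, hr₀', add_zero]
    show _ = Ideal.Quotient.mk J ((σ (X ^ M * s) - X ^ M * s) * 1)
    rw [mul_one]
  rw [h3]
  exact Submodule.smul_mem_smul h2 Submodule.mem_top

section dvr

variable [IsDomain B] [IsDiscreteValuationRing B] (π : B)

theorem map_residue_C_pi (hπ : Irreducible π) :
    PowerSeries.map (IsLocalRing.residue B) (C π) = 0 := by
  rw [map_C]
  have : IsLocalRing.residue B π = 0 := by
    rw [IsLocalRing.residue_eq_zero_iff, hπ.maximalIdeal_eq]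
    exact Ideal.mem_span_singleton_self π
  rw [this, map_zero]

theorem map_residue_surjective :
    Function.Surjective (PowerSeries.map (IsLocalRing.residue B)) :=
  PowerSeries.map_surjective _ IsLocalRing.residue_surjective

theorem exists_C_mul_of_map_eq_zero (hπ : Irreducible π) (g : B⟦X⟧)
    (h : PowerSeries.map (IsLocalRing.residue B) g = 0) : ∃ g', g = C π * g' := by
  have hcoef : ∀ n, ∃ b : B, coeff n g = π * b := by
    intro n
    have := congrArg (coeff n) h
    rw [coeff_map, map_zero, IsLocalRing.residue_eq_zero_iff, hπ.maximalIdeal_eq,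
      Ideal.mem_span_singleton'] at this
    obtain ⟨b, hb⟩ := this
    exact ⟨b, by rw [← hb, mul_comm]⟩
  choose bf hbf using hcoef
  refine ⟨mk bf, ?_⟩
  ext n
  rw [hbf n, coeff_C_mul, coeff_mk]

theorem ker_map_residue (hπ : Irreducible π) :
    RingHom.ker (PowerSeries.map (IsLocalRing.residue B)) = Ideal.span {C π} := by
  ext g
  rw [RingHom.mem_ker, Ideal.mem_span_singleton]
  constructor
  · intro h
    obtain ⟨g', rfl⟩ := exists_C_mul_of_map_eq_zero π hπ g h
    exact Dvd.intro _ rfl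
  · rintro ⟨g', rfl⟩
    rw [map_mul, map_residue_C_pi π hπ, zero_mul]

theorem C_pi_dvd_iff (hπ : Irreducible π) (g : B⟦X⟧) :
    C π ∣ g ↔ PowerSeries.map (IsLocalRing.residue B) g = 0 := by
  rw [← Ideal.mem_span_singleton, ← ker_map_residue π hπ, RingHom.mem_ker]

theorem C_pi_ne_zero (hπ : Irreducible π) : (C π : B⟦X⟧) ≠ 0 := by
  intro h
  have := congrArg constantCoeff h
  rw [constantCoeff_C, map_zero] at this
  exact hπ.ne_zero this

/-- `π` is regular modulo `f` when `π ∤ f`. -/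
theorem isSMulRegular_C_pi (hπ : Irreducible π) (f : B⟦X⟧) (hf : ¬ C π ∣ f) :
    IsSMulRegular (B⟦X⟧ ⧸ Ideal.span ({f} : Set B⟦X⟧)) (C π : B⟦X⟧) := by
  apply Groth.Agent.Lib.Helper16NodeLen.reg_mod
  intro y hy
  rw [Ideal.mem_span_singleton'] at hy ⊢
  obtain ⟨c, hc⟩ := hy
  have h1 := congrArg (PowerSeries.map (IsLocalRing.residue B)) hc
  rw [map_mul, map_mul, map_residue_C_pi π hπ, zero_mul] at h1
  have hf' : PowerSeries.map (IsLocalRing.residue B) f ≠ 0 := by
    rwa [Ne, ← C_pi_dvd_iff π hπ]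
  have h2 : PowerSeries.map (IsLocalRing.residue B) c = 0 := by
    rcases mul_eq_zero.mp h1 with h | h
    · exact h
    · exact absurd h hf'
  obtain ⟨c', rfl⟩ := exists_C_mul_of_map_eq_zero π hπ c h2
  refine ⟨c', ?_⟩
  have : C π * (c' * f - y) = 0 := by linear_combination hc
  rcases mul_eq_zero.mp this with h | h
  · exact absurd h (C_pi_ne_zero π hπ)
  · exact sub_eq_zero.mp h

/-- `ℓ(B[[X]]/(π^n, f)) = n ℓ(k[[X]]/(f mod π))`. -/
theorem length_pow_pi (hπ : Irreducible π) (f : B⟦X⟧) (hf : ¬ C π ∣ f) (n : ℕ) :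
    Module.length B⟦X⟧ (B⟦X⟧ ⧸ (Ideal.span {(C π : B⟦X⟧) ^ n} ⊔ Ideal.span {f})) =
      (n : ℕ∞) * Module.length (PowerSeries (IsLocalRing.ResidueField B))
        (PowerSeries (IsLocalRing.ResidueField B) ⧸
          Ideal.span ({PowerSeries.map (IsLocalRing.residue B) f} :
            Set (PowerSeries (IsLocalRing.ResidueField B)))) := by
  rw [Groth.Agent.Lib.Helper16NodeLen.length_pow (C π : B⟦X⟧) f (isSMulRegular_C_pi π hπ f hf) n]
  congr 1
  rw [length_quot_map (PowerSeries.map (IsLocalRing.residue B)) map_residue_surjective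
    (Ideal.span {C π, f}) (by
      rw [ker_map_residue π hπ]
      exact Ideal.span_mono (by simp))]
  have hspan : Ideal.span ({0, PowerSeries.map (IsLocalRing.residue B) f} :
      Set (PowerSeries (IsLocalRing.ResidueField B))) =
      Ideal.span {PowerSeries.map (IsLocalRing.residue B) f} := by
    apply le_antisymm
    · rw [Ideal.span_le]
      rintro x (rfl | hx)
      · exact Ideal.zero_mem _
      · rw [Set.mem_singleton_iff] at hx
        subst hx
        exact Ideal.mem_span_singleton_self _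
    · exact Ideal.span_mono (by simp)
  rw [Ideal.map_span, Set.image_pair, map_residue_C_pi π hπ, hspan]

end dvr

end Groth.Agent.Lib.Helper16PSFix
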