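import Mathlib

/-!
# Homotopy invariance of the Picard group for normal domains (helper16)

* `coeff_mul_coeff_mem_valuationSubring`, `coeff_mul_coeff_mem_range`: Gauss / Kronecker lemma
  for valuation rings and integrally closed domains.
* `exists_mapAlgebra_eq`: for an integrally closed domain `A`, `Pic A → Pic A[X]` is surjective.
* `free_of_invertible`: `Pic` of a normal graded quotient of a polynomial ring over a field is
  trivial.
-/

set_option autoImplicit false
set_option linter.style.haveILetI false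
set_option linter.unusedSectionVars false

universe u

namespace Groth.Agent.Lib.Helper16.PicPoly

open Polynomial

/-- Gauss's lemma over a valuation ring: if `f * g` has all coefficients in `V`, then so does every
product of a coefficient of `f` and a coefficient of `g`. -/
theorem coeff_mul_coeff_mem_valuationSubring {K : Type*} [Field K] (V : ValuationSubring K)
    (f g : K[X]) (h : ∀ n, (f * g).coeff n ∈ V) (i j : ℕ) : f.coeff i * g.coeff j ∈ V := by
  classical
  by_cases hf : f = 0
  · simp [hf, V.zero_mem]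
  by_cases hg : g = 0
  · simp [hg, V.zero_mem]
  obtain ⟨i₀, hi₀, hmaxf⟩ := Finset.exists_max_image f.support
    (fun i => V.valuation (f.coeff i)) (by
      rw [Finset.nonempty_iff_ne_empty, Ne, support_eq_empty]; exact hf)
  obtain ⟨j₀, hj₀, hmaxg⟩ := Finset.exists_max_image g.support
    (fun i => V.valuation (g.coeff i)) (by
      rw [Finset.nonempty_iff_ne_empty, Ne, support_eq_empty]; exact hg)
  have ha : f.coeff i₀ ≠ 0 := mem_support_iff.mp hi₀
  have hb : g.coeff j₀ ≠ 0 := mem_support_iff.mp hj₀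
  have hva : V.valuation (f.coeff i₀) ≠ 0 := (Valuation.ne_zero_iff _).mpr ha
  have hvb : V.valuation (g.coeff j₀) ≠ 0 := (Valuation.ne_zero_iff _).mpr hb
  have hf₁ : ∀ n, (f.coeff i₀)⁻¹ * f.coeff n ∈ V := by
    intro n
    by_cases hn : n ∈ f.support
    · rw [← V.valuation_le_one_iff, map_mul, map_inv₀]
      have := hmaxf n hn
      rw [inv_mul_le_iff₀ (zero_lt_iff.mpr hva), mul_one]
      exact this
    · rw [notMem_support_iff.mp hn, mul_zero]; exact V.zero_mem
  have hg₁ : ∀ n, (g.coeff j₀)⁻¹ * g.coeff n ∈ V := by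
    intro n
    by_cases hn : n ∈ g.support
    · rw [← V.valuation_le_one_iff, map_mul, map_inv₀]
      have := hmaxg n hn
      rw [inv_mul_le_iff₀ (zero_lt_iff.mpr hvb), mul_one]
      exact this
    · rw [notMem_support_iff.mp hn, mul_zero]; exact V.zero_mem
  obtain ⟨F, hF⟩ : ∃ F : V[X], F.map (algebraMap V K) = C (f.coeff i₀)⁻¹ * f := by
    have : C (f.coeff i₀)⁻¹ * f ∈ lifts (algebraMap V K) := by
      rw [lifts_iff_coeff_lifts]; intro n; rw [coeff_C_mul]; exact ⟨⟨_, hf₁ n⟩, rfl⟩
    exact this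
  obtain ⟨G, hG⟩ : ∃ G : V[X], G.map (algebraMap V K) = C (g.coeff j₀)⁻¹ * g := by
    have : C (g.coeff j₀)⁻¹ * g ∈ lifts (algebraMap V K) := by
      rw [lifts_iff_coeff_lifts]; intro n; rw [coeff_C_mul]; exact ⟨⟨_, hg₁ n⟩, rfl⟩
    exact this
  have hFne : F.map (IsLocalRing.residue V) ≠ 0 := by
    intro h0
    have h1 := congrArg (fun p => p.coeff i₀) h0
    simp only [coeff_map, coeff_zero] at h1
    have h2 : F.coeff i₀ = 1 := by
      apply Subtype.ext
      have h3 := congrArg (fun p => p.coeff i₀) hF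
      simp only [coeff_map, coeff_C_mul] at h3
      rw [inv_mul_cancel₀ ha] at h3
      exact h3
    rw [h2, map_one] at h1
    exact one_ne_zero h1
  have hGne : G.map (IsLocalRing.residue V) ≠ 0 := by
    intro h0
    have h1 := congrArg (fun p => p.coeff j₀) h0
    simp only [coeff_map, coeff_zero] at h1
    have h2 : G.coeff j₀ = 1 := by
      apply Subtype.ext
      have h3 := congrArg (fun p => p.coeff j₀) hG
      simp only [coeff_map, coeff_C_mul] at h3
      rw [inv_mul_cancel₀ hb] at h3
      exact h3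
    rw [h2, map_one] at h1
    exact one_ne_zero h1
  have hFG : (F * G).map (IsLocalRing.residue V) ≠ 0 := by
    rw [Polynomial.map_mul]; exact mul_ne_zero hFne hGne
  obtain ⟨k, hk⟩ : ∃ k, IsLocalRing.residue V ((F * G).coeff k) ≠ 0 := by
    by_contra hcon
    push Not at hcon
    apply hFG
    ext k
    rw [coeff_map, hcon k, coeff_zero]
  have hunit : IsUnit ((F * G).coeff k) := by
    by_contra hnu
    exact hk ((IsLocalRing.residue_eq_zero_iff _).mpr
      ((IsLocalRing.mem_maximalIdeal _).mpr hnu))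
  have hK : (((F * G).coeff k : V) : K) =
      (f.coeff i₀)⁻¹ * (g.coeff j₀)⁻¹ * (f * g).coeff k := by
    have h1 : (F * G).map (algebraMap V K) =
        C ((f.coeff i₀)⁻¹ * (g.coeff j₀)⁻¹) * (f * g) := by
      rw [Polynomial.map_mul, hF, hG, C_mul]; ring
    have h2 : ((F * G).map (algebraMap V K)).coeff k =
        (C ((f.coeff i₀)⁻¹ * (g.coeff j₀)⁻¹) * (f * g)).coeff k := by rw [h1]
    rw [coeff_map, coeff_C_mul] at h2
    exact h2
  have hv1 : V.valuation (((F * G).coeff k : V) : K) = 1 :=
    (V.valuation_eq_one_iff _).mp hunit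
  have hab : f.coeff i₀ * g.coeff j₀ ∈ V := by
    rw [← V.valuation_le_one_iff, map_mul]
    have h3 : (f * g).coeff k = f.coeff i₀ * g.coeff j₀ * (((F * G).coeff k : V) : K) := by
      rw [hK]; field_simp
    have h4 := (V.valuation_le_one_iff _).mpr (h k)
    rw [h3, map_mul, map_mul, hv1, mul_one] at h4
    exact h4
  have hfin : f.coeff i * g.coeff j =
      ((f.coeff i₀)⁻¹ * f.coeff i) * ((g.coeff j₀)⁻¹ * g.coeff j) *
        (f.coeff i₀ * g.coeff j₀) := by
    field_simp
  rw [hfin]
  exact V.mul_mem _ _ (V.mul_mem _ _ (hf₁ i) (hg₁ j)) hab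

/-- Kronecker's theorem for an integrally closed domain: if `f * g` has coefficients in `A`, then so
does every product of a coefficient of `f` and a coefficient of `g`. -/
theorem coeff_mul_coeff_mem_range {A K : Type*} [CommRing A] [IsDomain A] [IsIntegrallyClosed A]
    [Field K] [Algebra A K] [IsFractionRing A K]
    (f g : K[X]) (h : ∀ n, (f * g).coeff n ∈ Set.range (algebraMap A K)) (i j : ℕ) :
    f.coeff i * g.coeff j ∈ Set.range (algebraMap A K) := by
  have hbot : integralClosure A K = ⊥ := IsIntegrallyClosed.integralClosure_eq_bot A K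
  have hmemT : ∀ x : K, x ∈ (integralClosure A K).toSubring ↔ x ∈ Set.range (algebraMap A K) := by
    intro x
    rw [Subalgebra.mem_toSubring, hbot, Algebra.mem_bot]
  have key := Subring.eq_iInf_of_isIntegrallyClosedIn (R := (integralClosure A K).toSubring)
  rw [← hmemT, key, Subring.mem_iInf]
  rintro ⟨V, hV⟩
  apply coeff_mul_coeff_mem_valuationSubring V f g
  intro n
  exact hV ((hmemT _).mpr (h n))


attribute [local instance] Polynomial.algebra

open CommRing Submodule TensorProduct

section Surj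

variable (A : Type u) [CommRing A] [IsDomain A] [IsIntegrallyClosed A]

local notation "K" => FractionRing A

/-- The `A`-submodule of `K` spanned by the coefficients of the elements of `J`. -/
def coeffSub (J : Submodule A[X] K[X]) : Submodule A K :=
  Submodule.span A {x | ∃ f ∈ J, ∃ i, f.coeff i = x}

variable {A}

lemma coeff_mem_coeffSub {J : Submodule A[X] K[X]} {f : K[X]} (hf : f ∈ J) (i : ℕ) :
    f.coeff i ∈ coeffSub A J :=
  Submodule.subset_span ⟨f, hf, i, rfl⟩

lemma mem_one_iff_coeff (h : K[X]) :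
    h ∈ (1 : Submodule A[X] K[X]) ↔ ∀ n, h.coeff n ∈ Set.range (algebraMap A K) := by
  rw [Submodule.mem_one]
  constructor
  · rintro ⟨p, rfl⟩ n
    exact ⟨p.coeff n, by simp [coeff_map]⟩
  · intro hh
    have : h ∈ lifts (algebraMap A K) := (lifts_iff_coeff_lifts h).mpr hh
    obtain ⟨p, hp⟩ := this
    exact ⟨p, hp⟩

lemma coeffSub_mul_coeffSub (J : (Submodule A[X] K[X])ˣ) :
    coeffSub A (J : Submodule A[X] K[X]) * coeffSub A ((J⁻¹ : (Submodule A[X] K[X])ˣ) :
      Submodule A[X] K[X]) = 1 := by
  apply le_antisymm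
  · unfold coeffSub
    rw [Submodule.span_mul_span, Submodule.span_le]
    rintro x ⟨a, ⟨f, hf, i, rfl⟩, b, ⟨g, hg, j, rfl⟩, rfl⟩
    rw [SetLike.mem_coe, Submodule.mem_one]
    have hfg : f * g ∈ (1 : Submodule A[X] K[X]) := by
      have := Submodule.mul_mem_mul hf hg
      rwa [← Units.val_mul, mul_inv_cancel, Units.val_one] at this
    exact coeff_mul_coeff_mem_range f g ((mem_one_iff_coeff _).mp hfg) i j
  · rw [Submodule.one_le]
    have key : ∀ h ∈ (J : Submodule A[X] K[X]) * ((J⁻¹ : (Submodule A[X] K[X])ˣ) :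
        Submodule A[X] K[X]), ∀ n, h.coeff n ∈ coeffSub A (J : Submodule A[X] K[X]) *
          coeffSub A ((J⁻¹ : (Submodule A[X] K[X])ˣ) : Submodule A[X] K[X]) := by
      intro h hh
      refine Submodule.mul_induction_on hh ?_ ?_
      · intro m hm n hn k
        rw [coeff_mul]
        refine Submodule.sum_mem _ fun c _ => ?_
        exact Submodule.mul_mem_mul (coeff_mem_coeffSub hm _) (coeff_mem_coeffSub hn _)
      · intro x y hx hy k
        rw [coeff_add]
        exact Submodule.add_mem _ (hx k) (hy k)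
    have h1 : (1 : K[X]) ∈ (J : Submodule A[X] K[X]) * ((J⁻¹ : (Submodule A[X] K[X])ˣ) :
        Submodule A[X] K[X]) := by
      rw [← Units.val_mul, mul_inv_cancel, Units.val_one]
      exact Submodule.one_le.mp le_rfl
    have := key 1 h1 0
    simpa using this

/-- The unit of `Submodule A K` attached to a unit of `Submodule A[X] K[X]`. -/
noncomputable def coeffUnit (J : (Submodule A[X] K[X])ˣ) : (Submodule A K)ˣ :=
  Units.mkOfMulEqOne _ _ (coeffSub_mul_coeffSub J)

lemma C_mem_of_mem_coeffSub (J : (Submodule A[X] K[X])ˣ) {a : K}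
    (ha : a ∈ coeffSub A (J : Submodule A[X] K[X])) : C a ∈ (J : Submodule A[X] K[X]) := by
  have h1 : ∀ g ∈ ((J⁻¹ : (Submodule A[X] K[X])ˣ) : Submodule A[X] K[X]),
      C a * g ∈ (1 : Submodule A[X] K[X]) := by
    intro g hg
    rw [mem_one_iff_coeff]
    intro n
    rw [coeff_C_mul]
    have h3 : a * g.coeff n ∈ (1 : Submodule A K) := by
      rw [← coeffSub_mul_coeffSub J]
      exact Submodule.mul_mem_mul ha (coeff_mem_coeffSub hg n)
    exact Submodule.mem_one.mp h3
  have key : ∀ h ∈ ((J⁻¹ : (Submodule A[X] K[X])ˣ) : Submodule A[X] K[X]) *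
      (J : Submodule A[X] K[X]), C a * h ∈ (J : Submodule A[X] K[X]) := by
    intro h hh
    refine Submodule.mul_induction_on hh ?_ ?_
    · intro m hm n hn
      obtain ⟨p, hp⟩ := Submodule.mem_one.mp (h1 m hm)
      rw [← mul_assoc, ← hp, ← Algebra.smul_def]
      exact Submodule.smul_mem _ _ hn
    · intro x y hx hy
      rw [mul_add]
      exact Submodule.add_mem _ hx hy
  have h2 : (1 : K[X]) ∈ ((J⁻¹ : (Submodule A[X] K[X])ˣ) : Submodule A[X] K[X]) *
      (J : Submodule A[X] K[X]) := by
    rw [← Units.val_mul, inv_mul_cancel, Units.val_one]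
    exact Submodule.one_le.mp le_rfl
  simpa using key 1 h2

/-- `a ↦ C a` as a linear map from the coefficient module to `J`. -/
noncomputable def cMap (J : (Submodule A[X] K[X])ˣ) :
    ↥(coeffUnit J : Submodule A K) →ₗ[A] ↥(J : Submodule A[X] K[X]) where
  toFun a := ⟨C (a : K), C_mem_of_mem_coeffSub J a.2⟩
  map_add' a b := by
    apply Subtype.ext
    change C (((a + b : ↥(coeffUnit J : Submodule A K)) : K)) = C (a : K) + C (b : K)
    rw [Submodule.coe_add, C_add]
  map_smul' r a := by
    apply Subtype.ext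
    change C (((r • a : ↥(coeffUnit J : Submodule A K)) : K)) = r • C (a : K)
    rw [Submodule.coe_smul, Polynomial.smul_C]

lemma cMap_apply (J : (Submodule A[X] K[X])ˣ) (a : ↥(coeffUnit J : Submodule A K)) :
    ((cMap J a : ↥(J : Submodule A[X] K[X])) : K[X]) = C (a : K) := rfl

lemma liftBaseChange_cMap_surjective (J : (Submodule A[X] K[X])ˣ) :
    Function.Surjective ((cMap J).liftBaseChange A[X]) := by
  rintro ⟨f, hf⟩
  refine ⟨∑ i ∈ f.support, (X ^ i : A[X]) ⊗ₜ[A]
    (⟨f.coeff i, coeff_mem_coeffSub hf i⟩ : ↥(coeffUnit J : Submodule A K)), ?_⟩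
  apply Subtype.ext
  rw [map_sum]
  simp only [LinearMap.liftBaseChange_tmul]
  rw [Submodule.coe_sum]
  simp only [Submodule.coe_smul, cMap_apply]
  conv_rhs => rw [f.as_sum_support_C_mul_X_pow]
  refine Finset.sum_congr rfl fun i _ => ?_
  rw [Algebra.smul_def, Polynomial.algebraMap_def, Polynomial.coe_mapRingHom,
    Polynomial.map_pow, Polynomial.map_X, mul_comm]

theorem exists_mapAlgebra_eq (L : Pic A[X]) : ∃ N : Pic A, Pic.mapAlgebra A A[X] N = L := by
  have hL : L ∈ relPic A[X] K[X] := by rw [relPic_eq_top]; trivial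
  rw [← Submodule.range_unitsToPic] at hL
  obtain ⟨J, rfl⟩ := hL
  refine ⟨unitsToPic A K (coeffUnit J), ?_⟩
  rw [Pic.mapAlgebra_apply, unitsToPic_apply, unitsToPic_apply, Pic.mk_eq_mk_iff]
  exact ⟨AlgebraTensorModule.congr (LinearEquiv.refl A[X] A[X]) (Pic.mk.linearEquiv A _) ≪≫ₗ
    LinearEquiv.ofBijective ((cMap J).liftBaseChange A[X])
      (Module.Invertible.bijective_of_surjective (liftBaseChange_cMap_surjective J))⟩

end Surj


section Cone

variable {k : Type u} [Field k] {n : ℕ} {A : Type u} [CommRing A] [Algebra k A]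
  (π : MvPolynomial (Fin n) k →ₐ[k] A)

/-- The lift of the scaling homotopy `x_i ↦ T x_i`. -/
noncomputable def phiTilde : MvPolynomial (Fin n) k →+* A[X] :=
  MvPolynomial.eval₂Hom ((C : A →+* A[X]).comp (algebraMap k A))
    (fun i => X * C (π (MvPolynomial.X i)))

lemma phiTilde_monomial (m : Fin n →₀ ℕ) (c : k) :
    phiTilde π (MvPolynomial.monomial m c) =
      X ^ (m.degree) * C (π (MvPolynomial.monomial m c)) := by
  unfold phiTilde
  rw [MvPolynomial.eval₂Hom_monomial, MvPolynomial.monomial_eq, map_mul, map_finsuppProd]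
  have h0 : (m.prod fun i b => ((X : A[X]) * C (π (MvPolynomial.X i))) ^ b) =
      m.prod (fun i b => X ^ b * C ((π (MvPolynomial.X i)) ^ b)) :=
    Finsupp.prod_congr (fun i _ => by rw [mul_pow, C_pow])
  have h1 : (m.prod fun (a : Fin n) (b : ℕ) => (X : A[X]) ^ b) = X ^ m.degree := by
    rw [Finsupp.prod, Finset.prod_pow_eq_pow_sum]; rfl
  have h3 : (m.prod fun a b => π (MvPolynomial.X a ^ b)) =
      m.prod (fun a b => (π (MvPolynomial.X a)) ^ b) :=
    Finsupp.prod_congr (fun i _ => by rw [map_pow])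
  rw [h0, Finsupp.prod_mul, h1, h3, C_mul, map_finsuppProd]
  simp only [RingHom.comp_apply]
  have h2 : π (MvPolynomial.C c) = algebraMap k A c := by
    rw [← MvPolynomial.algebraMap_eq, AlgHom.commutes]
  rw [h2]
  ring

lemma phiTilde_of_isHomogeneous {f : MvPolynomial (Fin n) k} {d : ℕ} (hf : f.IsHomogeneous d) :
    phiTilde π f = X ^ d * C (π f) := by
  conv_lhs => rw [← MvPolynomial.support_sum_monomial_coeff f]
  conv_rhs => rw [← MvPolynomial.support_sum_monomial_coeff f]
  rw [map_sum, map_sum, map_sum, Finset.mul_sum]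
  refine Finset.sum_congr rfl fun m hm => ?_
  rw [phiTilde_monomial]
  have hdeg : m.degree = d := by
    have := hf (MvPolynomial.mem_support_iff.mp hm)
    rw [← this, Finsupp.degree_eq_weight_one]; rfl
  rw [hdeg]

variable {π}

lemma phiTilde_eq_zero (hI : ∃ s : Set (MvPolynomial (Fin n) k),
    (∀ f ∈ s, ∃ d : ℕ, f.IsHomogeneous d) ∧ RingHom.ker (π : MvPolynomial (Fin n) k →+* A) =
      Ideal.span s) :
    RingHom.ker (π : MvPolynomial (Fin n) k →+* A) ≤ RingHom.ker (phiTilde π) := by
  obtain ⟨s, hs, hk⟩ := hI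
  rw [hk, Ideal.span_le]
  intro f hf
  obtain ⟨d, hd⟩ := hs f hf
  have hf0 : π f = 0 := by
    have : f ∈ RingHom.ker (π : MvPolynomial (Fin n) k →+* A) := hk ▸ Ideal.subset_span hf
    exact this
  rw [SetLike.mem_coe, RingHom.mem_ker, phiTilde_of_isHomogeneous π hd, hf0, C_0, mul_zero]

lemma constantCoeff_eq_zero [Nontrivial A] (hI : ∃ s : Set (MvPolynomial (Fin n) k),
    (∀ f ∈ s, ∃ d : ℕ, f.IsHomogeneous d) ∧ RingHom.ker (π : MvPolynomial (Fin n) k →+* A) =
      Ideal.span s) :
    RingHom.ker (π : MvPolynomial (Fin n) k →+* A) ≤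
      RingHom.ker (MvPolynomial.constantCoeff (R := k) (σ := Fin n)) := by
  obtain ⟨s, hs, hk⟩ := hI
  rw [hk, Ideal.span_le]
  intro f hf
  obtain ⟨d, hd⟩ := hs f hf
  have hf0 : π f = 0 := by
    have : f ∈ RingHom.ker (π : MvPolynomial (Fin n) k →+* A) := hk ▸ Ideal.subset_span hf
    exact this
  rw [SetLike.mem_coe, RingHom.mem_ker]
  by_cases hd0 : d = 0
  · subst hd0
    have h1 : f.totalDegree = 0 := Nat.le_zero.mp hd.totalDegree_le
    rw [MvPolynomial.totalDegree_eq_zero_iff_eq_C] at h1
    by_contra hc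
    have hu : IsUnit f := by
      rw [h1]
      exact (IsUnit.mk0 _ hc).map MvPolynomial.C
    have := hu.map π
    rw [hf0] at this
    exact not_isUnit_zero this
  · rw [MvPolynomial.constantCoeff_eq]
    apply hd.coeff_eq_zero
    simpa using Ne.symm hd0

end Cone

section Main

variable {k : Type u} [Field k] {n : ℕ} {A : Type u} [CommRing A] [IsDomain A]
  [IsIntegrallyClosed A] [Algebra k A]

/-- Every invertible module over a normal graded quotient of a polynomial ring over a field is
free (homotopy invariance of `Pic` for normal domains plus the scaling homotopy). -/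
theorem free_of_invertible (π : MvPolynomial (Fin n) k →ₐ[k] A) (hπ : Function.Surjective π)
    (hI : ∃ s : Set (MvPolynomial (Fin n) k),
      (∀ f ∈ s, ∃ d : ℕ, f.IsHomogeneous d) ∧ RingHom.ker (π : MvPolynomial (Fin n) k →+* A) =
        Ideal.span s)
    (M : Type u) [AddCommGroup M] [Module A M] [Module.Invertible A M] : Module.Free A M := by
  let πr : MvPolynomial (Fin n) k →+* A := π
  have hπr : Function.Surjective πr := hπ
  let φ : A →+* A[X] := RingHom.liftOfSurjective πr hπr ⟨phiTilde π, phiTilde_eq_zero hI⟩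
  have hφ : ∀ x, φ (πr x) = phiTilde π x := fun x =>
    RingHom.liftOfRightInverse_comp_apply _ _ _ _ x
  let aug : A →+* k := RingHom.liftOfSurjective πr hπr
    ⟨MvPolynomial.constantCoeff, constantCoeff_eq_zero hI⟩
  have haug : ∀ x, aug (πr x) = MvPolynomial.constantCoeff x := fun x =>
    RingHom.liftOfRightInverse_comp_apply _ _ _ _ x
  have hπC : ∀ r : k, πr (MvPolynomial.C r) = algebraMap k A r := by
    intro r
    change π (MvPolynomial.C r) = _
    rw [← MvPolynomial.algebraMap_eq, AlgHom.commutes]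
  have hev1 : (evalRingHom (1 : A)).comp φ = RingHom.id A := by
    apply RingHom.ext
    intro a
    obtain ⟨x, rfl⟩ := hπr a
    rw [RingHom.comp_apply, hφ]
    have h1 : (evalRingHom (1 : A)).comp (phiTilde π) = πr := by
      apply MvPolynomial.ringHom_ext
      · intro r
        simp [phiTilde, hπC]
      · intro i
        simp [phiTilde, πr]
    exact RingHom.congr_fun h1 x
  have hev0 : (evalRingHom (0 : A)).comp φ = (algebraMap k A).comp aug := by
    apply RingHom.ext
    intro a
    obtain ⟨x, rfl⟩ := hπr a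
    rw [RingHom.comp_apply, hφ, RingHom.comp_apply, haug]
    have h1 : (evalRingHom (0 : A)).comp (phiTilde π) =
        (algebraMap k A).comp MvPolynomial.constantCoeff := by
      apply MvPolynomial.ringHom_ext
      · intro r
        simp [phiTilde]
      · intro i
        simp [phiTilde]
    exact RingHom.congr_fun h1 x
  have hC1 : (evalRingHom (1 : A)).comp (algebraMap A A[X]) = RingHom.id A := by
    apply RingHom.ext; intro a; simp
  have hC0 : (evalRingHom (0 : A)).comp (algebraMap A A[X]) = RingHom.id A := by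
    apply RingHom.ext; intro a; simp
  rw [← Pic.mk_eq_one_iff_free]
  obtain ⟨N, hN⟩ := exists_mapAlgebra_eq (Pic.mapRingHom φ (Pic.mk A M))
  rw [← Pic.mapRingHom_algebraMap] at hN
  have h1 := congrArg (Pic.mapRingHom (evalRingHom (1 : A))) hN
  rw [Pic.mapRingHom_mapRingHom, Pic.mapRingHom_mapRingHom, hC1, hev1,
    Pic.mapRingHom_id_apply, Pic.mapRingHom_id_apply] at h1
  have h0 := congrArg (Pic.mapRingHom (evalRingHom (0 : A))) hN
  rw [Pic.mapRingHom_mapRingHom, Pic.mapRingHom_mapRingHom, hC0, hev0,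
    Pic.mapRingHom_id_apply, ← Pic.mapRingHom_mapRingHom,
    Subsingleton.elim (Pic.mapRingHom aug (Pic.mk A M)) 1, map_one] at h0
  rw [← h1, h0]

end Main


end Groth.Agent.Lib.Helper16.PicPoly
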