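import Mathlib
import Groth.Prelude.Def_W4bk4grassmannianPl

/-!
# Plücker quadrics: determinants satisfy them, and a solution is determined by few coordinates
-/

set_option autoImplicit false
set_option linter.unusedSectionVars false
set_option linter.style.haveILetI false

namespace Groth.Agent.Lib.Helper16Plucker

open W4bk4grassmannian MvPolynomial

universe u

section Ext

variable {K : Type u} [Field K] {d n : ℕ}

/-- the image of an index as a finset -/
def img (θ : Idx d n) : Finset (Fin n) := Finset.univ.image θ.1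

theorem card_img (θ : Idx d n) : (img θ).card = d := by
  unfold img
  rw [Finset.card_image_of_injective _ θ.2.injective, Finset.card_univ, Fintype.card_fin]

theorem idx_eq_orderEmb (θ : Idx d n) : θ.1 = (img θ).orderEmbOfFin (card_img θ) := by
  apply Finset.orderEmbOfFin_unique (card_img θ)
  · intro x
    exact Finset.mem_image_of_mem _ (Finset.mem_univ x)
  · exact θ.2

theorem idx_ext {θ φ : Idx d n} (h : img θ = img φ) : θ = φ := by
  apply Subtype.ext
  have h1 : θ.1 = (img φ).orderEmbOfFin (card_img φ) := by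
    apply Finset.orderEmbOfFin_unique (card_img φ)
    · intro x
      rw [← h]
      exact Finset.mem_image_of_mem _ (Finset.mem_univ x)
    · exact θ.2
  rw [h1, ← idx_eq_orderEmb φ]

/-- the index with a given image -/
def ofFin (s : Finset (Fin n)) (h : s.card = d) : Idx d n :=
  ⟨fun t => s.orderEmbOfFin h t, (s.orderEmbOfFin h).strictMono⟩

theorem img_ofFin (s : Finset (Fin n)) (h : s.card = d) : img (ofFin s h) = s := by
  unfold img ofFin
  exact Finset.image_orderEmbOfFin_univ s h

theorem img_sortIdx (a : Fin d → Fin n) (h : (Finset.univ.image a).card = d) :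
    img (sortIdx d n a h) = Finset.univ.image a := by
  unfold img sortIdx
  exact Finset.image_orderEmbOfFin_univ _ h

theorem injective_of_card {a : Fin d → Fin n} (h : (Finset.univ.image a).card = d) :
    Function.Injective a := by
  have h2 : (Finset.univ.image a).card = (Finset.univ : Finset (Fin d)).card := by
    rw [h, Finset.card_univ, Fintype.card_fin]
  have h3 : Set.InjOn a (Finset.univ : Finset (Fin d)) := Finset.card_image_iff.mp h2
  intro x y hxy
  exact h3 (Finset.mem_coe.mpr (Finset.mem_univ x)) (Finset.mem_coe.mpr (Finset.mem_univ y)) hxy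

theorem card_of_injective {a : Fin d → Fin n} (h : Function.Injective a) :
    (Finset.univ.image a).card = d := by
  rw [Finset.card_image_of_injective _ h, Finset.card_univ, Fintype.card_fin]

/-- the signed extension of a Plücker vector to arbitrary tuples -/
noncomputable def ext (g : Idx d n → K) (a : Fin d → Fin n) : K :=
  MvPolynomial.eval g (coord K d n a)

theorem ext_eq (g : Idx d n → K) (a : Fin d → Fin n) :
    ext g a = if h : (Finset.univ.image a).card = d
      then (-1 : K) ^ invCount d n a * g (sortIdx d n a h) else 0 := by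
  unfold ext coord
  split_ifs with h
  · simp
  · simp

theorem ext_congr {g₁ g₂ : Idx d n → K} {a : Fin d → Fin n}
    (h : ∀ h : (Finset.univ.image a).card = d, g₁ (sortIdx d n a h) = g₂ (sortIdx d n a h)) :
    ext g₁ a = ext g₂ a := by
  rw [ext_eq, ext_eq]
  split_ifs with h'
  · rw [h h']
  · rfl

theorem ext_smul (c : K) (g : Idx d n → K) (a : Fin d → Fin n) :
    ext (fun θ => c * g θ) a = c * ext g a := by
  rw [ext_eq, ext_eq]
  split_ifs with h'
  · ring
  · simp

theorem eval_quadric {e : ℕ} (g : Idx (e + 1) n → K) (i' : Idx e n) (j' : Idx (e + 2) n) :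
    MvPolynomial.eval g (quadric K i' j') =
      ∑ h : Fin (e + 2), (-1 : K) ^ (h.val + 1) * ext g (Fin.snoc i'.1 (j'.1 h)) *
        ext g (j'.1 ∘ h.succAbove) := by
  unfold quadric ext
  simp [map_sum]

end Ext

section Det

variable {K : Type u} [Field K] {d n : ℕ}

theorem sign_eq_signAux (σ : Equiv.Perm (Fin d)) :
    Equiv.Perm.sign σ = Equiv.Perm.signAux σ := by
  induction σ using Equiv.Perm.swap_induction_on' with
  | one => simp
  | mul_swap f x y hxy ih =>
    rw [map_mul, Equiv.Perm.signAux_mul, ih, Equiv.Perm.sign_swap hxy,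
      Equiv.Perm.signAux_swap hxy]

/-- the sign of a permutation through its inversions, for a tuple `a = τ ∘ σ` with `τ` strictly
monotone -/
theorem sign_eq_pow_invCount (σ : Equiv.Perm (Fin d)) (τ : Fin d → Fin n) (hτ : StrictMono τ) :
    Equiv.Perm.sign σ = (-1 : ℤˣ) ^ invCount d n (τ ∘ σ) := by
  rw [sign_eq_signAux]
  unfold Equiv.Perm.signAux
  rw [Finset.prod_ite, Finset.prod_const, Finset.prod_const_one, mul_one]
  congr 1
  unfold invCount
  apply Finset.card_bij (fun (x : Σ _ : Fin d, Fin d) _ => ((x.2, x.1) : Fin d × Fin d))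
  · intro x hx
    rw [Finset.mem_filter] at hx
    have h1 : x.2 < x.1 := Equiv.Perm.mem_finPairsLT.mp hx.1
    rw [Finset.mem_filter]
    refine ⟨Finset.mem_univ _, h1, ?_⟩
    show τ (σ x.1) < τ (σ x.2)
    apply hτ
    refine lt_of_le_of_ne hx.2 ?_
    intro h
    exact (ne_of_gt h1) (σ.injective h)
  · intro x _ y _ hxy
    rw [Prod.mk.injEq] at hxy
    exact Sigma.ext hxy.2 (heq_of_eq hxy.1)
  · intro p hp
    rw [Finset.mem_filter] at hp
    refine ⟨⟨p.2, p.1⟩, ?_, rfl⟩
    rw [Finset.mem_filter]
    refine ⟨Equiv.Perm.mem_finPairsLT.mpr hp.2.1, ?_⟩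
    have h2 : τ (σ p.2) < τ (σ p.1) := hp.2.2
    exact (hτ.lt_iff_lt.mp h2).le

/-- the vector of maximal minors of a matrix -/
def minors (A : Matrix (Fin n) (Fin d) K) (θ : Idx d n) : K := (A.submatrix θ.1 id).det

theorem ext_minors (A : Matrix (Fin n) (Fin d) K) (a : Fin d → Fin n) :
    ext (minors A) a = (A.submatrix a id).det := by
  rw [ext_eq]
  split_ifs with h
  · set s := Finset.univ.image a with hs
    have hmem : ∀ t, a t ∈ s := fun t => Finset.mem_image_of_mem a (Finset.mem_univ t)
    have hinj := injective_of_card h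
    let σf : Fin d → Fin d := fun t => (s.orderIsoOfFin h).symm ⟨a t, hmem t⟩
    have hσinj : Function.Injective σf := by
      intro x y hxy
      have h1 := (s.orderIsoOfFin h).symm.injective hxy
      exact hinj (Subtype.ext_iff.mp h1)
    let σ : Equiv.Perm (Fin d) := Equiv.ofBijective σf (Finite.injective_iff_bijective.mp hσinj)
    have hτσ : ∀ t, (sortIdx d n a h).1 (σ t) = a t := by
      intro t
      show s.orderEmbOfFin h (σf t) = a t
      rw [← Finset.coe_orderIsoOfFin_apply]
      simp [σf]
    have h1 : A.submatrix a id = (A.submatrix (sortIdx d n a h).1 id).submatrix σ id := by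
      ext x y
      simp only [Matrix.submatrix_apply, id]
      rw [hτσ]
    have h2 : a = (sortIdx d n a h).1 ∘ σ := by
      funext t
      exact (hτσ t).symm
    rw [h1, Matrix.det_permute, minors]
    congr 1
    rw [sign_eq_pow_invCount σ (sortIdx d n a h).1 (sortIdx d n a h).2, ← h2]
    simp
  · have hninj : ¬ Function.Injective a := fun hi => h (card_of_injective hi)
    rw [Function.Injective] at hninj
    push Not at hninj
    obtain ⟨x, y, hxy, hne⟩ := hninj
    symm
    apply Matrix.det_zero_of_row_eq hne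
    ext t
    simp [Matrix.submatrix_apply, hxy]

end Det

section Relation

variable {K : Type u} [Field K] {n : ℕ}

theorem quadric_minors {e : ℕ} (A : Matrix (Fin n) (Fin (e + 1)) K) (i' : Idx e n)
    (j' : Idx (e + 2) n) : MvPolynomial.eval (minors A) (quadric K i' j') = 0 := by
  rw [eval_quadric]
  simp only [ext_minors]
  set C : Fin (e + 1) → K := fun t => (A.submatrix i'.1 t.succAbove).det with hC
  have hrow : ∀ x : Fin n, (A.submatrix (Fin.snoc i'.1 x : Fin (e + 1) → Fin n) id).det =
      ∑ t : Fin (e + 1), (-1 : K) ^ (e + t.val) * A x t * C t := by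
    intro x
    rw [Matrix.det_succ_row _ (Fin.last e)]
    refine Finset.sum_congr rfl fun t _ => ?_
    have h1 : (A.submatrix (Fin.snoc i'.1 x : Fin (e + 1) → Fin n) id) (Fin.last e) t = A x t := by
      simp [Matrix.submatrix_apply]
    have h2 : (A.submatrix (Fin.snoc i'.1 x : Fin (e + 1) → Fin n) id).submatrix
        (Fin.last e).succAbove t.succAbove = A.submatrix i'.1 t.succAbove := by
      ext r c
      simp [Matrix.submatrix_apply, Fin.succAbove_last]
    rw [h1, h2, Fin.val_last]
  have hcol : ∀ t : Fin (e + 1), ∑ h : Fin (e + 2), (-1 : K) ^ (h.val + 1) * A (j'.1 h) t *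
      (A.submatrix (j'.1 ∘ h.succAbove) id).det = 0 := by
    intro t
    let N : Matrix (Fin (e + 2)) (Fin (e + 2)) K := A.submatrix j'.1 (Fin.cons t id)
    have hN : N.det = 0 := by
      apply Matrix.det_zero_of_column_eq (i := 0) (j := t.succ) (Fin.succ_ne_zero t).symm
      intro k
      simp [N, Matrix.submatrix_apply]
    rw [Matrix.det_succ_column_zero] at hN
    have h3 : ∑ h : Fin (e + 2), (-1 : K) ^ (h.val + 1) * A (j'.1 h) t *
        (A.submatrix (j'.1 ∘ h.succAbove) id).det =
        - ∑ h : Fin (e + 2), (-1 : K) ^ (h : ℕ) * N h 0 *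
          (N.submatrix h.succAbove Fin.succ).det := by
      rw [← Finset.sum_neg_distrib]
      refine Finset.sum_congr rfl fun h _ => ?_
      have h1 : N h 0 = A (j'.1 h) t := by simp [N]
      have h2 : N.submatrix h.succAbove Fin.succ = A.submatrix (j'.1 ∘ h.succAbove) id := by
        ext r c
        simp [N, Matrix.submatrix_apply]
      rw [h1, h2, pow_succ]
      ring
    rw [h3, hN, neg_zero]
  have hterm : ∀ h : Fin (e + 2),
      (-1 : K) ^ (h.val + 1) * (A.submatrix (Fin.snoc i'.1 (j'.1 h) : Fin (e + 1) → Fin n) id).det *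
        (A.submatrix (j'.1 ∘ h.succAbove) id).det =
      ∑ t : Fin (e + 1), ((-1 : K) ^ (e + t.val) * C t) *
        ((-1 : K) ^ (h.val + 1) * A (j'.1 h) t * (A.submatrix (j'.1 ∘ h.succAbove) id).det) := by
    intro h
    rw [hrow, Finset.mul_sum, Finset.sum_mul]
    refine Finset.sum_congr rfl fun t _ => ?_
    ring
  simp_rw [hterm]
  rw [Finset.sum_comm]
  simp_rw [← Finset.mul_sum, hcol, mul_zero]
  simp

end Relation

section Unique

variable {K : Type u} [Field K] {n e : ℕ}

theorem image_snoc (i : Fin e → Fin n) (x : Fin n) :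
    Finset.univ.image (Fin.snoc i x : Fin (e + 1) → Fin n) = insert x (Finset.univ.image i) := by
  ext y
  simp only [Finset.mem_image, Finset.mem_univ, true_and, Finset.mem_insert]
  constructor
  · rintro ⟨t, rfl⟩
    refine Fin.lastCases ?_ (fun t' => ?_) t
    · left
      simp
    · right
      exact ⟨t', by simp⟩
  · rintro (rfl | ⟨t, rfl⟩)
    · exact ⟨Fin.last e, by simp⟩
    · exact ⟨t.castSucc, by simp⟩

theorem image_comp_succAbove {m : ℕ} (j : Fin (m + 1) → Fin n) (hj : Function.Injective j)
    (h : Fin (m + 1)) :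
    Finset.univ.image (j ∘ h.succAbove) = (Finset.univ.image j).erase (j h) := by
  ext y
  simp only [Finset.mem_image, Finset.mem_univ, true_and, Finset.mem_erase, Function.comp_apply]
  constructor
  · rintro ⟨t, rfl⟩
    exact ⟨fun hh => Fin.succAbove_ne h t (hj hh), ⟨_, rfl⟩⟩
  · rintro ⟨hne, t, rfl⟩
    have hth : t ≠ h := fun hh => hne (by rw [hh])
    obtain ⟨t', ht'⟩ := Fin.exists_succAbove_eq hth
    exact ⟨t', by rw [ht']⟩

theorem unique_of_quadrics (g₁ g₂ : Idx (e + 1) n → K)
    (h₁ : ∀ i' j', MvPolynomial.eval g₁ (quadric K i' j') = 0)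
    (h₂ : ∀ i' j', MvPolynomial.eval g₂ (quadric K i' j') = 0)
    (θ₀ : Idx (e + 1) n) (h0 : g₁ θ₀ = g₂ θ₀) (hne : g₁ θ₀ ≠ 0)
    (hbase : ∀ θ : Idx (e + 1) n, (img θ \ img θ₀).card ≤ 1 → g₁ θ = g₂ θ) :
    ∀ θ, g₁ θ = g₂ θ := by
  suffices H : ∀ k : ℕ, ∀ θ : Idx (e + 1) n, (img θ \ img θ₀).card = k → g₁ θ = g₂ θ from
    fun θ => H _ θ rfl
  intro k
  induction k using Nat.strong_induction_on with
  | _ k ih =>
  intro θ hk
  by_cases hk1 : k ≤ 1
  · exact hbase θ (hk ▸ hk1)
  push Not at hk1
  have hpos : 0 < (img θ \ img θ₀).card := by omega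
  obtain ⟨r, hr'⟩ := Finset.card_pos.mp hpos
  have hr := Finset.mem_sdiff.mp hr'
  have hcard_i : ((img θ).erase r).card = e := by
    rw [Finset.card_erase_of_mem hr.1, card_img]
    rfl
  have hcard_j : (insert r (img θ₀)).card = e + 2 := by
    rw [Finset.card_insert_of_notMem hr.2, card_img]
  set i' : Idx e n := ofFin _ hcard_i with hi'
  set j' : Idx (e + 2) n := ofFin _ hcard_j with hj'
  have himg_i : Finset.univ.image i'.1 = (img θ).erase r := img_ofFin _ _
  have himg_j : Finset.univ.image j'.1 = insert r (img θ₀) := img_ofFin _ _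
  obtain ⟨h₀, hh₀⟩ : ∃ h₀, j'.1 h₀ = r := by
    have h3 : r ∈ Finset.univ.image j'.1 := by
      rw [himg_j]
      exact Finset.mem_insert_self _ _
    obtain ⟨h₀, _, hh₀⟩ := Finset.mem_image.mp h3
    exact ⟨h₀, hh₀⟩
  set T : (Idx (e + 1) n → K) → Fin (e + 2) → K := fun g h =>
    (-1 : K) ^ (h.val + 1) * ext g (Fin.snoc i'.1 (j'.1 h)) * ext g (j'.1 ∘ h.succAbove) with hT
  have hsum₁ : ∑ h, T g₁ h = 0 := by
    rw [← h₁ i' j', eval_quadric]
  have hsum₂ : ∑ h, T g₂ h = 0 := by
    rw [← h₂ i' j', eval_quadric]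
  have hagree : ∀ h, h ≠ h₀ → T g₁ h = T g₂ h := by
    intro h hh
    have hjh : j'.1 h ∈ img θ₀ := by
      have h3 : j'.1 h ∈ Finset.univ.image j'.1 := Finset.mem_image_of_mem _ (Finset.mem_univ h)
      rw [himg_j, Finset.mem_insert] at h3
      rcases h3 with h' | h'
      · exfalso
        apply hh
        apply j'.2.injective
        rw [h', hh₀]
      · exact h'
    have hA : ext g₁ (Fin.snoc i'.1 (j'.1 h)) = ext g₂ (Fin.snoc i'.1 (j'.1 h)) := by
      apply ext_congr
      intro hc
      apply ih (k - 1) (by omega)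
      rw [img_sortIdx, image_snoc, himg_i, Finset.insert_sdiff_of_mem _ hjh]
      have h4 : (img θ).erase r \ img θ₀ = (img θ \ img θ₀).erase r := by
        ext y
        simp only [Finset.mem_sdiff, Finset.mem_erase]
        tauto
      rw [h4, Finset.card_erase_of_mem hr', hk]
    have hB : ext g₁ (j'.1 ∘ h.succAbove) = ext g₂ (j'.1 ∘ h.succAbove) := by
      apply ext_congr
      intro hc
      apply hbase
      rw [img_sortIdx, image_comp_succAbove _ j'.2.injective, himg_j]
      have h5 : (insert r (img θ₀)).erase (j'.1 h) \ img θ₀ ⊆ {r} := by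
        intro y hy
        rw [Finset.mem_sdiff, Finset.mem_erase, Finset.mem_insert] at hy
        rcases hy.1.2 with h' | h'
        · exact Finset.mem_singleton.mpr h'
        · exact absurd h' hy.2
      exact (Finset.card_le_card h5).trans (Finset.card_singleton r).le
    simp only [hT]
    rw [hA, hB]
  have hT0 : T g₁ h₀ = T g₂ h₀ := by
    have e1 := Finset.add_sum_erase Finset.univ (T g₁) (Finset.mem_univ h₀)
    have e2 := Finset.add_sum_erase Finset.univ (T g₂) (Finset.mem_univ h₀)
    have e3 : ∑ h ∈ Finset.univ.erase h₀, T g₁ h = ∑ h ∈ Finset.univ.erase h₀, T g₂ h :=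
      Finset.sum_congr rfl fun h hh => hagree h (Finset.ne_of_mem_erase hh)
    rw [hsum₁] at e1
    rw [hsum₂] at e2
    linear_combination e1 - e2 - e3
  have ha₁ : (Finset.univ.image (Fin.snoc i'.1 r : Fin (e + 1) → Fin n)).card = e + 1 := by
    rw [image_snoc, himg_i, Finset.insert_erase hr.1, card_img]
  have hs₁ : sortIdx (e + 1) n (Fin.snoc i'.1 r) ha₁ = θ := by
    apply idx_ext
    rw [img_sortIdx, image_snoc, himg_i, Finset.insert_erase hr.1]
  have ha₂ : (Finset.univ.image (j'.1 ∘ h₀.succAbove)).card = e + 1 := by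
    rw [image_comp_succAbove _ j'.2.injective, himg_j, hh₀, Finset.erase_insert hr.2, card_img]
  have hs₂ : sortIdx (e + 1) n (j'.1 ∘ h₀.succAbove) ha₂ = θ₀ := by
    apply idx_ext
    rw [img_sortIdx, image_comp_succAbove _ j'.2.injective, himg_j, hh₀,
      Finset.erase_insert hr.2]
  simp only [hT, hh₀] at hT0
  rw [ext_eq, ext_eq, ext_eq, ext_eq, dif_pos ha₁, dif_pos ha₂, dif_pos ha₁, dif_pos ha₂,
    hs₁, hs₂, ← h0] at hT0
  have hc : (-1 : K) ^ (h₀.val + 1) * (-1 : K) ^ invCount (e + 1) n (Fin.snoc i'.1 r) *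
      (-1 : K) ^ invCount (e + 1) n (j'.1 ∘ h₀.succAbove) * g₁ θ₀ ≠ 0 := by
    have hm : (-1 : K) ≠ 0 := neg_ne_zero.mpr one_ne_zero
    exact mul_ne_zero (mul_ne_zero (mul_ne_zero (pow_ne_zero _ hm) (pow_ne_zero _ hm))
      (pow_ne_zero _ hm)) hne
  apply mul_left_cancel₀ hc
  linear_combination hT0

end Unique

section Construct

variable {K : Type u} [Field K] {n d : ℕ}

theorem ext_of_not_injective (g : Idx d n → K) {a : Fin d → Fin n}
    (h : ¬ Function.Injective a) : ext g a = 0 := by
  rw [ext_eq, dif_neg]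
  intro hc
  exact h (injective_of_card hc)

theorem invCount_strictMono {a : Fin d → Fin n} (ha : StrictMono a) : invCount d n a = 0 := by
  unfold invCount
  rw [Finset.card_eq_zero, Finset.filter_eq_empty_iff]
  rintro p _ ⟨h1, h2⟩
  exact absurd (ha h1) (not_lt.mpr h2.le)

theorem ext_idx (g : Idx d n → K) (θ : Idx d n) : ext g θ.1 = g θ := by
  have hc : (Finset.univ.image θ.1).card = d := card_img θ
  rw [ext_eq, dif_pos hc, invCount_strictMono θ.2, pow_zero, one_mul]
  congr 1
  apply idx_ext
  rw [img_sortIdx]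
  rfl

theorem image_update {f : Fin d → Fin n} (hf : Function.Injective f) (t : Fin d) (r : Fin n) :
    Finset.univ.image (Function.update f t r) = insert r ((Finset.univ.image f).erase (f t)) := by
  ext z
  simp only [Finset.mem_image, Finset.mem_univ, true_and, Finset.mem_insert, Finset.mem_erase]
  constructor
  · rintro ⟨s, rfl⟩
    by_cases hst : s = t
    · left
      rw [hst, Function.update_self]
    · right
      rw [Function.update_of_ne hst]
      exact ⟨fun h => hst (hf h), s, rfl⟩
  · rintro (rfl | ⟨hne, s, rfl⟩)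
    · exact ⟨t, Function.update_self ..⟩
    · have hst : s ≠ t := fun h => hne (by rw [h])
      exact ⟨s, Function.update_of_ne hst ..⟩

theorem det_one_updateRow (t : Fin d) (c : Fin d → K) :
    ((1 : Matrix (Fin d) (Fin d) K).updateRow t c).det = c t := by
  have h1 : c = ∑ k, c k • (1 : Matrix (Fin d) (Fin d) K) k := by
    funext j
    simp [Finset.sum_apply, Matrix.one_apply]
  conv_lhs => rw [h1]
  rw [Matrix.det_updateRow_sum, Matrix.det_one, smul_eq_mul, mul_one]

theorem exists_matrix_of_quadrics {e : ℕ} (q : Idx (e + 1) n → K) (hq : q ≠ 0)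
    (hquad : ∀ i' j', MvPolynomial.eval q (quadric K i' j') = 0) :
    ∃ A : Matrix (Fin n) (Fin (e + 1)) K, ∀ θ : Idx (e + 1) n, q θ = (A.submatrix θ.1 id).det := by
  obtain ⟨θ₀, hθ₀⟩ := Function.ne_iff.mp hq
  rw [Pi.zero_apply] at hθ₀
  set lam := q θ₀ with hlam
  set g₁ : Idx (e + 1) n → K := fun θ => lam⁻¹ * q θ with hg₁
  have hg₁quad : ∀ i' j', MvPolynomial.eval g₁ (quadric K i' j') = 0 := by
    intro i' j'
    have h := hquad i' j'
    rw [eval_quadric] at h ⊢
    simp only [hg₁, ext_smul]
    have h2 : ∀ h : Fin (e + 2), (-1 : K) ^ (h.val + 1) *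
        (lam⁻¹ * ext q (Fin.snoc i'.1 (j'.1 h))) * (lam⁻¹ * ext q (j'.1 ∘ h.succAbove)) =
        lam⁻¹ * lam⁻¹ * ((-1 : K) ^ (h.val + 1) * ext q (Fin.snoc i'.1 (j'.1 h)) *
          ext q (j'.1 ∘ h.succAbove)) := by
      intro h
      ring
    simp_rw [h2, ← Finset.mul_sum, h, mul_zero]
  set A' : Matrix (Fin n) (Fin (e + 1)) K :=
    fun r t => ext g₁ (Function.update θ₀.1 t r) with hA'
  set g₂ := minors A' with hg₂
  have hg₁0 : g₁ θ₀ = 1 := inv_mul_cancel₀ hθ₀
  have hrow : ∀ s t, A' (θ₀.1 s) t = if s = t then 1 else 0 := by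
    intro s t
    simp only [hA']
    split_ifs with hst
    · subst hst
      rw [Function.update_eq_self, ext_idx, hg₁0]
    · apply ext_of_not_injective
      intro hinj
      apply hst
      have h3 : Function.update θ₀.1 t (θ₀.1 s) s = Function.update θ₀.1 t (θ₀.1 s) t := by
        rw [Function.update_self, Function.update_of_ne hst]
      exact hinj h3
  have hg₂0 : g₂ θ₀ = 1 := by
    simp only [hg₂, minors]
    have h3 : A'.submatrix θ₀.1 id = 1 := by
      ext s t
      rw [Matrix.submatrix_apply, id, hrow, Matrix.one_apply]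
    rw [h3, Matrix.det_one]
  have hbase : ∀ θ : Idx (e + 1) n, (img θ \ img θ₀).card ≤ 1 → g₁ θ = g₂ θ := by
    intro θ hθ
    by_cases hsub : img θ ⊆ img θ₀
    · have h3 : img θ = img θ₀ :=
        Finset.eq_of_subset_of_card_le hsub (by rw [card_img, card_img])
      rw [idx_ext h3, hg₁0, hg₂0]
    · obtain ⟨r, hrθ, hrθ₀⟩ := Finset.not_subset.mp hsub
      have hsd : img θ \ img θ₀ = {r} := by
        have hmem : r ∈ img θ \ img θ₀ := Finset.mem_sdiff.mpr ⟨hrθ, hrθ₀⟩
        exact Finset.eq_singleton_iff_unique_mem.mpr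
          ⟨hmem, fun x hx => Finset.card_le_one.mp hθ x hx r hmem⟩
      have hnsub : ¬ img θ₀ ⊆ img θ := by
        intro h
        have h3 : img θ₀ = img θ := Finset.eq_of_subset_of_card_le h (by rw [card_img, card_img])
        exact hrθ₀ (h3 ▸ hrθ)
      obtain ⟨y, hyθ₀, hyθ⟩ := Finset.not_subset.mp hnsub
      obtain ⟨t, -, rfl⟩ := Finset.mem_image.mp hyθ₀
      set a := Function.update θ₀.1 t r with ha
      have hima : Finset.univ.image a = img θ := by
        rw [ha, image_update θ₀.2.injective]
        symm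
        apply Finset.eq_of_subset_of_card_le
        · intro z hz
          by_cases hz0 : z ∈ img θ₀
          · apply Finset.mem_insert_of_mem
            refine Finset.mem_erase.mpr ⟨?_, hz0⟩
            rintro rfl
            exact hyθ hz
          · have h3 : z ∈ img θ \ img θ₀ := Finset.mem_sdiff.mpr ⟨hz, hz0⟩
            rw [hsd, Finset.mem_singleton] at h3
            rw [h3]
            exact Finset.mem_insert_self _ _
        · have h4 : r ∉ (Finset.univ.image θ₀.1).erase (θ₀.1 t) :=
            fun h => hrθ₀ (Finset.mem_of_mem_erase h)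
          have h5 : (Finset.univ.image θ₀.1).card = e + 1 := card_img θ₀
          have h6 : θ₀.1 t ∈ Finset.univ.image θ₀.1 := hyθ₀
          rw [Finset.card_insert_of_notMem h4, Finset.card_erase_of_mem h6, card_img, h5]
          rfl
      have hca : (Finset.univ.image a).card = e + 1 := by rw [hima, card_img]
      have hsa : sortIdx (e + 1) n a hca = θ := by
        apply idx_ext
        rw [img_sortIdx, hima]
      have h1 : ext g₁ a = (-1 : K) ^ (invCount (e + 1) n a) * g₁ θ := by
        rw [ext_eq, dif_pos hca, hsa]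
      have h2 : ext g₂ a = (-1 : K) ^ (invCount (e + 1) n a) * g₂ θ := by
        rw [ext_eq, dif_pos hca, hsa]
      have h3 : ext g₂ a = ext g₁ a := by
        rw [hg₂, ext_minors]
        have h4 : A'.submatrix a id = (1 : Matrix _ _ K).updateRow t (A' r) := by
          ext s c
          rw [Matrix.submatrix_apply, id, Matrix.updateRow_apply]
          split_ifs with hst
          · rw [hst, ha, Function.update_self]
          · rw [ha, Function.update_of_ne hst, hrow, Matrix.one_apply]
        rw [h4, det_one_updateRow]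
      have hm : (-1 : K) ^ (invCount (e + 1) n a) ≠ 0 :=
        pow_ne_zero _ (neg_ne_zero.mpr one_ne_zero)
      apply mul_left_cancel₀ hm
      rw [← h1, ← h2, h3]
  have huniq := unique_of_quadrics g₁ g₂ hg₁quad (fun i' j' => quadric_minors A' i' j') θ₀
    (by rw [hg₁0, hg₂0]) (by rw [hg₁0]; exact one_ne_zero) hbase
  refine ⟨A' * Matrix.diagonal (fun t : Fin (e + 1) => if t = 0 then lam else 1), fun θ => ?_⟩
  rw [Matrix.submatrix_mul _ _ θ.1 id id Function.bijective_id, Matrix.submatrix_id_id,
    Matrix.det_mul, Matrix.det_diagonal]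
  have h6 : ∏ t : Fin (e + 1), (if t = 0 then lam else 1) = lam := by
    simp [Finset.prod_ite_eq']
  rw [h6]
  have h7 := huniq θ
  simp only [hg₁, hg₂, minors] at h7
  rw [← h7, mul_comm, ← mul_assoc, mul_inv_cancel₀ hθ₀, one_mul]

end Construct

end Groth.Agent.Lib.Helper16Plucker
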