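import Mathlib

set_option autoImplicit false
set_option linter.unusedSectionVars false
open CategoryTheory CategoryTheory.Limits Opposite

universe w v' v u' u v₂ u₂

namespace Groth.Agent.Lib.Helper16.PointSum

open GrothendieckTopology

variable {C : Type u} [Category.{v} C] {J : GrothendieckTopology C}
  {D : Type u₂} [Category.{v₂} D] {K : GrothendieckTopology D}
  (G : C ⥤ D) (Φ : Point.{w} K) {ι : Type w} (Ψ : ι → Point.{w} J)
  (d : ∀ V : C, (Σ u, (Ψ u).fiber.obj V) ≃ Φ.fiber.obj (G.obj V))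
  (hd : ∀ {V V' : C} (g : V ⟶ V') (u : ι) (t : (Ψ u).fiber.obj V),
     d V' ⟨u, (Ψ u).fiber.map g t⟩ = Φ.fiber.map (G.map g) (d V ⟨u, t⟩))
  {A : Type u'} [Category.{v'} A] [HasProducts.{w} A] [HasColimitsOfSize.{w, w} A]

/-- projection from the skyscraper presheaf -/
noncomputable def skyπ (M : A) (W : D) (s : Φ.fiber.obj W) :
    (Φ.skyscraperPresheaf M).obj (op W) ⟶ M :=
  Pi.π (fun _ : Φ.fiber.obj W => M) s

/-- lift to the skyscraper presheaf -/
noncomputable def skyLift (M : A) (W : D) {X : A} (f : Φ.fiber.obj W → (X ⟶ M)) :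
    X ⟶ (Φ.skyscraperPresheaf M).obj (op W) :=
  Pi.lift f

@[reassoc (attr := simp)]
lemma skyLift_π (M : A) (W : D) {X : A} (f : Φ.fiber.obj W → (X ⟶ M)) (s : Φ.fiber.obj W) :
    skyLift Φ M W f ≫ skyπ Φ M W s = f s :=
  Pi.lift_π _ _

lemma sky_hom_ext (M : A) (W : D) {X : A} {f g : X ⟶ (Φ.skyscraperPresheaf M).obj (op W)}
    (h : ∀ s, f ≫ skyπ Φ M W s = g ≫ skyπ Φ M W s) : f = g :=
  Pi.hom_ext _ _ h

@[reassoc (attr := simp)]
lemma sky_map_π (M : A) {W W' : D} (f : W ⟶ W') (s : Φ.fiber.obj W) :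
    (Φ.skyscraperPresheaf M).map f.op ≫ skyπ Φ M W s = skyπ Φ M W' (Φ.fiber.map f s) := by
  simp only [Point.skyscraperPresheafFunctor_obj_map, Quiver.Hom.unop_op]
  exact (Pi.map'_comp_π _ _ _).trans (Category.comp_id _)

@[reassoc (attr := simp)]
lemma sky_functor_map_π {M N : A} (f : M ⟶ N) (W : D) (s : Φ.fiber.obj W) :
    (Φ.skyscraperPresheafFunctor.map f).app (op W) ≫ skyπ Φ N W s = skyπ Φ M W s ≫ f := by
  simp only [Point.skyscraperPresheafFunctor_map_app]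
  exact Pi.map_π _ _

/-- the "total germ" map -/
noncomputable def theta (P : Cᵒᵖ ⥤ A) {M : A}
    (φ : (∐ fun u => (Ψ u).presheafFiber.obj P) ⟶ M) (V : C)
    (p : Σ u, (Ψ u).fiber.obj V) : P.obj (op V) ⟶ M :=
  (Ψ p.1).toPresheafFiber V p.2 P ≫ Sigma.ι (fun u => (Ψ u).presheafFiber.obj P) p.1 ≫ φ

lemma theta_map (P : Cᵒᵖ ⥤ A) {M : A}
    (φ : (∐ fun u => (Ψ u).presheafFiber.obj P) ⟶ M) {V V' : C} (g : V ⟶ V')
    (p : Σ u, (Ψ u).fiber.obj V) :
    P.map g.op ≫ theta Ψ P φ V p = theta Ψ P φ V' ⟨p.1, (Ψ p.1).fiber.map g p.2⟩ := by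
  dsimp only [theta]
  rw [← Category.assoc, Point.toPresheafFiber_w]

include hd in
lemma d_symm_map {V V' : C} (g : V ⟶ V') (s : Φ.fiber.obj (G.obj V)) :
    (d V').symm (Φ.fiber.map (G.map g) s) =
      ⟨((d V).symm s).1, (Ψ ((d V).symm s).1).fiber.map g ((d V).symm s).2⟩ := by
  apply (d V').injective
  rw [Equiv.apply_symm_apply, hd]
  simp

/-- the forward map -/
noncomputable def toFun (P : Cᵒᵖ ⥤ A) {M : A}
    (φ : (∐ fun u => (Ψ u).presheafFiber.obj P) ⟶ M) :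
    P ⟶ G.op ⋙ Φ.skyscraperPresheaf M where
  app V := skyLift Φ M (G.obj V.unop) (fun s => theta Ψ P φ V.unop ((d V.unop).symm s))
  naturality V V' g := by
    induction V using Opposite.rec with | _ V => ?_
    induction V' using Opposite.rec with | _ V' => ?_
    obtain ⟨g, rfl⟩ : ∃ g' : V' ⟶ V, g = g'.op := ⟨g.unop, rfl⟩
    apply sky_hom_ext
    intro s
    dsimp only [Functor.comp_obj, Functor.comp_map, Functor.op_obj, Functor.op_map, unop_op,
      Quiver.Hom.unop_op]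
    rw [Category.assoc, Category.assoc, sky_map_π, skyLift_π, skyLift_π]
    rw [theta_map, d_symm_map G Φ Ψ d hd]

include hd in
lemma invFun_compat (P : Cᵒᵖ ⥤ A) {M : A} (g : P ⟶ G.op ⋙ Φ.skyscraperPresheaf M) (u : ι)
    ⦃V V' : C⦄ (f : V ⟶ V') (t : (Ψ u).fiber.obj V) :
    P.map f.op ≫ g.app (op V) ≫ skyπ Φ M (G.obj V) (d V ⟨u, t⟩) =
      g.app (op V') ≫ skyπ Φ M (G.obj V') (d V' ⟨u, (Ψ u).fiber.map f t⟩) := by
  have h1 := g.naturality f.op
  dsimp only [Functor.comp_obj, Functor.comp_map, Functor.op_obj, Functor.op_map, unop_op,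
    Quiver.Hom.unop_op] at h1
  rw [← Category.assoc, h1, Category.assoc, sky_map_π, hd]

/-- the backward map -/
noncomputable def invFun (P : Cᵒᵖ ⥤ A) {M : A} (g : P ⟶ G.op ⋙ Φ.skyscraperPresheaf M) :
    (∐ fun u => (Ψ u).presheafFiber.obj P) ⟶ M :=
  Sigma.desc (fun u => (Ψ u).presheafFiberDesc
      (fun V t => g.app (op V) ≫ skyπ Φ M (G.obj V) (d V ⟨u, t⟩))
      (invFun_compat G Φ Ψ d hd P g u))

lemma germ_ι_invFun (P : Cᵒᵖ ⥤ A) {M : A} (g : P ⟶ G.op ⋙ Φ.skyscraperPresheaf M) (u : ι)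
    (V : C) (t : (Ψ u).fiber.obj V) :
    (Ψ u).toPresheafFiber V t P ≫ Sigma.ι (fun u => (Ψ u).presheafFiber.obj P) u ≫
      invFun G Φ Ψ d hd P g = g.app (op V) ≫ skyπ Φ M (G.obj V) (d V ⟨u, t⟩) := by
  dsimp only [invFun]
  rw [Sigma.ι_desc]
  exact Point.toPresheafFiber_presheafFiberDesc _ _ (invFun_compat G Φ Ψ d hd P g u) _ _

/-- the hom-set bijection -/
noncomputable def presheafEquiv (P : Cᵒᵖ ⥤ A) (M : A) :
    ((∐ fun u => (Ψ u).presheafFiber.obj P) ⟶ M) ≃ (P ⟶ G.op ⋙ Φ.skyscraperPresheaf M) where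
  toFun φ := toFun G Φ Ψ d hd P φ
  invFun g := invFun G Φ Ψ d hd P g
  left_inv φ := by
    apply Sigma.hom_ext
    intro u
    apply Point.presheafFiber_hom_ext
    intro V t
    rw [germ_ι_invFun]
    dsimp only [toFun]
    rw [skyLift_π, Equiv.symm_apply_apply]
    rfl
  right_inv g := by
    ext V : 2
    induction V using Opposite.rec with | _ V => ?_
    apply sky_hom_ext
    intro s
    dsimp only [toFun, theta]
    rw [skyLift_π, germ_ι_invFun]
    simp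

lemma presheafEquiv_app_π (P : Cᵒᵖ ⥤ A) {M : A}
    (φ : (∐ fun u => (Ψ u).presheafFiber.obj P) ⟶ M) (V : C) (s : Φ.fiber.obj (G.obj V)) :
    (presheafEquiv G Φ Ψ d hd P M φ).app (op V) ≫ skyπ Φ M (G.obj V) s =
      theta Ψ P φ V ((d V).symm s) :=
  skyLift_π _ _ _ _ _

lemma presheafEquiv_naturality (P : Cᵒᵖ ⥤ A) {M N : A}
    (φ : (∐ fun u => (Ψ u).presheafFiber.obj P) ⟶ M) (f : M ⟶ N) :
    presheafEquiv G Φ Ψ d hd P N (φ ≫ f) =
      presheafEquiv G Φ Ψ d hd P M φ ≫ Functor.whiskerLeft G.op (Φ.skyscraperPresheafFunctor.map f) := by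
  ext V : 2
  induction V using Opposite.rec with | _ V => ?_
  apply sky_hom_ext
  intro s
  rw [presheafEquiv_app_π]
  dsimp only [NatTrans.comp_app, Functor.whiskerLeft_app, Functor.op_obj, unop_op]
  rw [Category.assoc, sky_functor_map_π, ← Category.assoc, presheafEquiv_app_π]
  dsimp only [theta]
  simp only [Category.assoc]

section Sheaf

variable [G.IsContinuous J K] [(G.sheafPushforwardContinuous A J K).IsRightAdjoint]

/-- the right adjoint -/
noncomputable abbrev R : A ⥤ Sheaf J A :=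
  Φ.skyscraperSheafFunctor ⋙ G.sheafPushforwardContinuous A J K

/-- the hom-set bijection on sheaves -/
noncomputable def sheafEquiv (F : Sheaf J A) (M : A) :
    ((∐ fun u => (Ψ u).sheafFiber.obj F) ⟶ M) ≃ (F ⟶ (R G Φ).obj M) :=
  (presheafEquiv G Φ Ψ d hd F.obj M).trans
    ((fullyFaithfulSheafToPresheaf J A).homEquiv (X := F) (Y := (R G Φ).obj M)).symm

include d hd in
theorem nonempty_iso (F : Sheaf J A) :
    Nonempty (Φ.sheafFiber.obj ((G.sheafPullback A J K).obj F) ≅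
      ∐ fun u => (Ψ u).sheafFiber.obj F) := by
  let adj1 : G.sheafPullback A J K ⋙ Φ.sheafFiber ⊣ R G Φ :=
    (G.sheafAdjunctionContinuous A J K).comp Φ.skyscraperSheafAdjunction
  have he : ∀ (F : Sheaf J A) (M N : A) (g : M ⟶ N)
      (h : (∐ fun u => (Ψ u).sheafFiber.obj F) ⟶ M),
      sheafEquiv G Φ Ψ d hd F N (h ≫ g) = sheafEquiv G Φ Ψ d hd F M h ≫ (R G Φ).map g := by
    intro F M N g h
    apply Sheaf.hom_ext
    exact presheafEquiv_naturality G Φ Ψ d hd F.obj h g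
  let adj2 := Adjunction.adjunctionOfEquivLeft (sheafEquiv G Φ Ψ d hd) he
  exact ⟨(adj1.leftAdjointUniq adj2).app F⟩

end Sheaf

end Groth.Agent.Lib.Helper16.PointSum
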