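import Mathlib

set_option autoImplicit false
set_option linter.style.haveILetI false
set_option linter.unusedSectionVars false

namespace Groth.Agent.Lib.PolarParts

open Polynomial Finset

variable {k : Type*} [Field k] {ι : Type*} [DecidableEq ι] (r : ι → k) (a : ι → ℕ)

/-- `E_s = ∏_{j∈s} (X - r_j)^{a_j}`. -/
noncomputable def EE (s : Finset ι) : k[X] := ∏ j ∈ s, (X - C (r j)) ^ (a j)
/-- `S_s = ∏_{j∈s} (X - r_j)`. -/
noncomputable def SS (s : Finset ι) : k[X] := ∏ j ∈ s, (X - C (r j))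
/-- `T_s = ∑_{j∈s} a_j ∏_{l∈s, l≠j} (X - r_l)`. -/
noncomputable def TT (s : Finset ι) : k[X] :=
  ∑ j ∈ s, C (a j : k) * ∏ l ∈ s.erase j, (X - C (r l))
/-- `D_s = ∏_{j∈s} (X - r_j)^{a_j+1}`. -/
noncomputable def DD (s : Finset ι) : k[X] := ∏ j ∈ s, (X - C (r j)) ^ (a j + 1)

/-- `Ψ_s(G) = S_s G' - T_s G`. -/
noncomputable def Psi (s : Finset ι) : k[X] →ₗ[k] k[X] :=
  (LinearMap.mulLeft k (SS r s)) ∘ₗ (derivative : k[X] →ₗ[k] k[X]) - LinearMap.mulLeft k (TT r a s)

theorem Psi_apply (s : Finset ι) (G : k[X]) :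
    Psi r a s G = SS r s * derivative G - TT r a s * G := by
  simp [Psi]

theorem EE_insert {s : Finset ι} {i : ι} (hi : i ∉ s) :
    EE r a (insert i s) = (X - C (r i)) ^ (a i) * EE r a s := by
  simp [EE, Finset.prod_insert hi]

theorem SS_insert {s : Finset ι} {i : ι} (hi : i ∉ s) :
    SS r (insert i s) = (X - C (r i)) * SS r s := by
  simp [SS, Finset.prod_insert hi]

theorem DD_insert {s : Finset ι} {i : ι} (hi : i ∉ s) :
    DD r a (insert i s) = (X - C (r i)) ^ (a i + 1) * DD r a s := by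
  simp [DD, Finset.prod_insert hi]

theorem DD_eq (s : Finset ι) : DD r a s = SS r s * EE r a s := by
  simp only [DD, SS, EE, ← Finset.prod_mul_distrib]
  exact Finset.prod_congr rfl fun j _ => by rw [pow_succ']

theorem TT_insert {s : Finset ι} {i : ι} (hi : i ∉ s) :
    TT r a (insert i s) = (X - C (r i)) * TT r a s + C (a i : k) * SS r s := by
  unfold TT SS
  rw [Finset.sum_insert hi, Finset.erase_insert hi, add_comm, Finset.mul_sum]
  congr 1
  refine Finset.sum_congr rfl fun j hj => ?_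
  have hji : j ≠ i := fun h => hi (h ▸ hj)
  rw [Finset.erase_insert_of_ne hji.symm, Finset.prod_insert (fun h => hi (Finset.mem_of_mem_erase h))]
  ring

theorem X_sub_C_mul_derivative_pow (c : k) (n : ℕ) :
    (X - C c) * derivative ((X - C c) ^ n) = C (n : k) * (X - C c) ^ n := by
  rcases n with _ | n
  · simp
  · rw [derivative_X_sub_C_pow, Nat.add_sub_cancel, pow_succ]; ring

theorem logder (s : Finset ι) : SS r s * derivative (EE r a s) = TT r a s * EE r a s := by
  induction s using Finset.induction_on with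
  | empty => simp [SS, EE, TT]
  | insert i s hi ih =>
    rw [SS_insert r hi, EE_insert r a hi, TT_insert r a hi, derivative_mul]
    have h1 := X_sub_C_mul_derivative_pow (r i) (a i)
    linear_combination (SS r s * EE r a s) * h1 + (X - C (r i)) ^ (a i + 1) * ih

theorem Psi_mul (s : Finset ι) (F H : k[X]) :
    Psi r a s (F * H) = SS r s * derivative F * H + F * Psi r a s H := by
  simp only [Psi_apply, derivative_mul]; ring

theorem Psi_EE_mul (s : Finset ι) (Q : k[X]) :
    Psi r a s (EE r a s * Q) = DD r a s * derivative Q := by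
  rw [Psi_mul, Psi_apply, DD_eq]
  linear_combination Q * logder r a s

theorem Psi_EE (s : Finset ι) : Psi r a s (EE r a s) = 0 := by
  have := Psi_EE_mul r a s 1
  simpa using this

theorem Psi_C_mul_EE (s : Finset ι) (c : k) : Psi r a s (C c * EE r a s) = 0 := by
  rw [← smul_eq_C_mul, map_smul, Psi_EE, smul_zero]

theorem Psi_insert_pow {s : Finset ι} {i : ι} (hi : i ∉ s) (n : ℕ) (H : k[X]) :
    Psi r a (insert i s) ((X - C (r i)) ^ n * H) =
      (X - C (r i)) ^ n * ((C (n : k) - C (a i : k)) * SS r s * H + (X - C (r i)) * Psi r a s H) := by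
  rw [Psi_mul, Psi_apply, Psi_apply, SS_insert r hi, TT_insert r a hi]
  have h1 := X_sub_C_mul_derivative_pow (r i) n
  linear_combination (SS r s * H) * h1

theorem Psi_pow_succ (s : Finset ι) (q : k) (n : ℕ) (H : k[X]) :
    Psi r a s ((X - C q) ^ (n + 1) * H) =
      (X - C q) ^ n * (C ((n + 1 : ℕ) : k) * SS r s * H + (X - C q) * Psi r a s H) := by
  rw [Psi_mul, derivative_X_sub_C_pow, Nat.add_sub_cancel, pow_succ]
  ring

theorem Psi_insert_EE_mul {s : Finset ι} {i : ι} (hi : i ∉ s) (Q : k[X]) :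
    Psi r a (insert i s) (EE r a s * Q) =
      DD r a s * ((X - C (r i)) * derivative Q - C (a i : k) * Q) := by
  rw [Psi_apply, SS_insert r hi, TT_insert r a hi, derivative_mul, DD_eq]
  linear_combination ((X - C (r i)) * Q) * logder r a s


/-! ### Degrees -/

theorem mem_degreeLT_iff_coeff {n : ℕ} {f : k[X]} :
    f ∈ degreeLT k n ↔ ∀ m, n ≤ m → f.coeff m = 0 := by
  rw [mem_degreeLT, degree_lt_iff_coeff_zero]

theorem natDegree_le_of_mem_degreeLT {n : ℕ} {f : k[X]} (h : f ∈ degreeLT k (n + 1)) :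
    f.natDegree ≤ n := by
  rw [natDegree_le_iff_coeff_eq_zero]
  intro N hN
  exact (mem_degreeLT_iff_coeff.mp h) N hN

theorem mem_degreeLT_of_natDegree_le {n : ℕ} {f : k[X]} (h : f.natDegree ≤ n) :
    f ∈ degreeLT k (n + 1) := by
  rw [mem_degreeLT_iff_coeff]
  intro m hm
  exact coeff_eq_zero_of_natDegree_lt (by omega)

theorem EE_monic (s : Finset ι) : (EE r a s).Monic :=
  monic_prod_of_monic _ _ fun j _ => (monic_X_sub_C (r j)).pow (a j)

theorem EE_natDegree (s : Finset ι) : (EE r a s).natDegree = ∑ j ∈ s, a j := by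
  unfold EE
  rw [natDegree_prod_of_monic _ _ fun j _ => (monic_X_sub_C (r j)).pow (a j)]
  refine Finset.sum_congr rfl fun j _ => ?_
  rw [natDegree_pow, natDegree_X_sub_C, mul_one]

theorem EE_ne_zero (s : Finset ι) : EE r a s ≠ 0 := (EE_monic r a s).ne_zero

theorem SS_monic (s : Finset ι) : (SS r s).Monic :=
  monic_prod_of_monic _ _ fun j _ => monic_X_sub_C (r j)

theorem SS_natDegree (s : Finset ι) : (SS r s).natDegree = s.card := by
  unfold SS
  rw [natDegree_prod_of_monic _ _ fun j _ => monic_X_sub_C (r j)]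
  simp

theorem X_mul_TT (s : Finset ι) :
    X * TT r a s = ∑ j ∈ s, C (a j : k) * (X * ∏ l ∈ s.erase j, (X - C (r l))) := by
  unfold TT
  rw [Finset.mul_sum]
  exact Finset.sum_congr rfl fun j _ => by ring

theorem aux_monic {s : Finset ι} {j : ι} (hj : j ∈ s) :
    (X * ∏ l ∈ s.erase j, (X - C (r l)) : k[X]).Monic ∧
      (X * ∏ l ∈ s.erase j, (X - C (r l)) : k[X]).natDegree = s.card := by
  have hm : (∏ l ∈ s.erase j, (X - C (r l)) : k[X]).Monic :=
    monic_prod_of_monic _ _ fun l _ => monic_X_sub_C (r l)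
  refine ⟨monic_X.mul hm, ?_⟩
  rw [monic_X.natDegree_mul hm, natDegree_X, natDegree_prod_of_monic _ _ fun l _ => monic_X_sub_C (r l)]
  simp only [natDegree_X_sub_C, Finset.sum_const, smul_eq_mul, mul_one]
  rw [Finset.card_erase_of_mem hj]
  have := Finset.card_pos.mpr ⟨j, hj⟩
  omega

theorem X_mul_TT_natDegree_le (s : Finset ι) : (X * TT r a s).natDegree ≤ s.card := by
  rw [X_mul_TT]
  refine natDegree_sum_le_of_forall_le _ _ fun j hj => ?_
  refine (natDegree_C_mul_le _ _).trans ?_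
  rw [(aux_monic r hj).2]

theorem X_mul_TT_coeff (s : Finset ι) :
    (X * TT r a s).coeff s.card = ((∑ j ∈ s, a j : ℕ) : k) := by
  rw [X_mul_TT, finsetSum_coeff, Nat.cast_sum]
  refine Finset.sum_congr rfl fun j hj => ?_
  rw [coeff_C_mul]
  have h := aux_monic r hj
  have : (X * ∏ l ∈ s.erase j, (X - C (r l)) : k[X]).coeff s.card = 1 := by
    have h1 := h.1.coeff_natDegree
    rwa [h.2] at h1
  rw [this, mul_one]

theorem coeff_X_mul_Psi (s : Finset ι) {g : ℕ} {G : k[X]} (hG : G ∈ degreeLT k (g + 1)) :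
    (X * Psi r a s G).coeff (g + s.card) =
      ((g : k) - ((∑ j ∈ s, a j : ℕ) : k)) * G.coeff g := by
  have hGd : G.natDegree ≤ g := natDegree_le_of_mem_degreeLT hG
  have e : X * Psi r a s G = SS r s * (X * derivative G) - (X * TT r a s) * G := by
    rw [Psi_apply]; ring
  have h1 : (X * derivative G).natDegree ≤ g := by
    rw [natDegree_le_iff_coeff_eq_zero]
    intro N hN
    obtain ⟨N', rfl⟩ : ∃ N', N = N' + 1 := ⟨N - 1, by omega⟩
    rw [coeff_X_mul, coeff_derivative, coeff_eq_zero_of_natDegree_lt (by omega), zero_mul]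
  have h2 : (X * derivative G).coeff g = (g : k) * G.coeff g := by
    rcases g with _ | g
    · simp
    · rw [coeff_X_mul, coeff_derivative]; push_cast; ring
  rw [e, coeff_sub, add_comm g s.card,
    coeff_mul_add_eq_of_natDegree_le (SS_natDegree r s).le h1,
    coeff_mul_add_eq_of_natDegree_le (X_mul_TT_natDegree_le r a s) hGd, X_mul_TT_coeff, h2]
  have : (SS r s).coeff s.card = 1 := by
    have := (SS_monic r s).coeff_natDegree
    rwa [SS_natDegree] at this
  rw [this]; ring

theorem Psi_mem_degreeLT (s : Finset ι) {g : ℕ} {G : k[X]} (hG : G ∈ degreeLT k (g + 1)) :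
    Psi r a s G ∈ degreeLT k (g + s.card) := by
  rw [mem_degreeLT_iff_coeff]
  intro m hm
  have hGd : G.natDegree ≤ g := natDegree_le_of_mem_degreeLT hG
  have e : X * Psi r a s G = SS r s * (X * derivative G) - (X * TT r a s) * G := by
    rw [Psi_apply]; ring
  have h1 : (X * derivative G).natDegree ≤ g := by
    rw [natDegree_le_iff_coeff_eq_zero]
    intro N hN
    obtain ⟨N', rfl⟩ : ∃ N', N = N' + 1 := ⟨N - 1, by omega⟩
    rw [coeff_X_mul, coeff_derivative, coeff_eq_zero_of_natDegree_lt (by omega), zero_mul]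
  have h3 : (X * Psi r a s G).natDegree ≤ s.card + g := by
    rw [e]
    refine (natDegree_sub_le _ _).trans (max_le ?_ ?_)
    · exact natDegree_mul_le.trans (Nat.add_le_add (SS_natDegree r s).le h1)
    · exact natDegree_mul_le.trans (Nat.add_le_add (X_mul_TT_natDegree_le r a s) hGd)
  rw [← coeff_X_mul]
  exact coeff_eq_zero_of_natDegree_lt (by omega)

theorem degree_drop [CharZero k] (s : Finset ι) {g t : ℕ} {G : k[X]} (hG : G ∈ degreeLT k (g + 1))
    (hP : Psi r a s G ∈ degreeLT k t) (ht : t + 1 ≤ g + s.card ∨ g + s.card = 0)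
    (hg : g ≠ ∑ j ∈ s, a j) : G ∈ degreeLT k g := by
  have h0 : (X * Psi r a s G).coeff (g + s.card) = 0 := by
    rcases ht with ht | ht
    · obtain ⟨u, hu⟩ : ∃ u, g + s.card = u + 1 := ⟨g + s.card - 1, by omega⟩
      rw [hu, coeff_X_mul]
      exact (mem_degreeLT_iff_coeff.mp hP) u (by omega)
    · rw [ht, coeff_X_mul_zero]
  rw [coeff_X_mul_Psi r a s hG] at h0
  have hne : ((g : k) - ((∑ j ∈ s, a j : ℕ) : k)) ≠ 0 := by
    rw [sub_ne_zero]
    exact fun h => hg (Nat.cast_injective h)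
  have hc : G.coeff g = 0 := (mul_eq_zero.mp h0).resolve_left hne
  rw [mem_degreeLT_iff_coeff]
  intro m hm
  rcases Nat.eq_or_lt_of_le hm with h | h
  · rw [← h]; exact hc
  · exact (mem_degreeLT_iff_coeff.mp hG) m (by omega)

/-- Descent at infinity. -/
theorem degree_descent [CharZero k] (s : Finset ι) (M : ℕ) (n : ℕ) {G : k[X]}
    (hG : G ∈ degreeLT k (M + 1))
    (hP : Psi r a s G ∈ degreeLT k (M + s.card - n)) :
    ∃ c : k, G - C c * EE r a s ∈ degreeLT k (M + 1 - n) := by
  induction n with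
  | zero => exact ⟨0, by simpa using hG⟩
  | succ n ih =>
    obtain ⟨c, hc⟩ := ih (degreeLT_mono (by omega) hP)
    have hPc : Psi r a s (G - C c * EE r a s) = Psi r a s G := by
      rw [map_sub, Psi_C_mul_EE, sub_zero]
    by_cases hn : M + 1 - n = 0
    · refine ⟨c, ?_⟩
      rw [hn] at hc
      have : G - C c * EE r a s = 0 := by
        rw [mem_degreeLT_iff_coeff] at hc
        ext m
        simpa using hc m (Nat.zero_le _)
      rw [this]; exact Submodule.zero_mem _
    · obtain ⟨g, hg⟩ : ∃ g, M + 1 - n = g + 1 := ⟨M - n, by omega⟩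
      rw [hg] at hc
      have hg' : M + 1 - (n + 1) = g := by omega
      rw [hg']
      by_cases hα : g = ∑ j ∈ s, a j
      · refine ⟨c + (G - C c * EE r a s).coeff g, ?_⟩
        rw [mem_degreeLT_iff_coeff]
        intro m hm
        have e : G - C (c + (G - C c * EE r a s).coeff g) * EE r a s =
            (G - C c * EE r a s) - C ((G - C c * EE r a s).coeff g) * EE r a s := by
          rw [C_add]; ring
        rw [e, coeff_sub, coeff_C_mul]
        rcases Nat.eq_or_lt_of_le hm with h | h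
        · rw [← h]
          have : (EE r a s).coeff g = 1 := by
            have := (EE_monic r a s).coeff_natDegree
            rwa [EE_natDegree, ← hα] at this
          rw [this]; ring
        · have h2 : (EE r a s).coeff m = 0 :=
            coeff_eq_zero_of_natDegree_lt (by rw [EE_natDegree, ← hα]; exact h)
          rw [(mem_degreeLT_iff_coeff.mp hc) m (by omega), h2]
          ring
      · refine ⟨c, ?_⟩
        refine degree_drop r a s hc (t := M + s.card - (n + 1)) (by rw [hPc]; exact hP) ?_ hα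
        omega


/-! ### Integration lemmas -/

theorem derivative_mem_degreeLT {c : ℕ} {q : k[X]} (hq : q ∈ degreeLT k (c + 1)) :
    derivative q ∈ degreeLT k c := by
  rw [mem_degreeLT_iff_coeff] at hq ⊢
  intro m hm
  rw [coeff_derivative, hq (m + 1) (by omega), zero_mul]

theorem coeff_X_mul_derivative (Q : k[X]) (g : ℕ) :
    (X * derivative Q).coeff g = (g : k) * Q.coeff g := by
  rcases g with _ | g
  · simp
  · rw [coeff_X_mul, coeff_derivative]; push_cast; ring

theorem exists_antideriv [CharZero k] {c : ℕ} {P : k[X]} (hP : P ∈ degreeLT k c) :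
    ∃ Q ∈ degreeLT k (c + 1), derivative Q = P := by
  refine ⟨∑ n ∈ Finset.range c, monomial (n + 1) (P.coeff n / ((n : k) + 1)), ?_, ?_⟩
  · refine Submodule.sum_mem _ fun n hn => ?_
    rw [mem_degreeLT]
    refine (degree_monomial_le _ _).trans_lt ?_
    have := Finset.mem_range.mp hn
    exact_mod_cast Nat.succ_lt_succ this
  · ext m
    rw [coeff_derivative, finsetSum_coeff]
    simp only [coeff_monomial]
    by_cases hm : m < c
    · rw [Finset.sum_eq_single m]
      · rw [if_pos rfl]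
        have : ((m : k) + 1) ≠ 0 := by exact_mod_cast Nat.succ_ne_zero m
        field_simp
      · intro b _ hb
        rw [if_neg (by omega)]
      · intro h; exact absurd (Finset.mem_range.mpr hm) h
    · rw [Finset.sum_eq_zero, zero_mul]
      · exact ((mem_degreeLT_iff_coeff.mp hP) m (by omega)).symm
      · intro b hb
        have := Finset.mem_range.mp hb
        rw [if_neg (by omega)]

/-- The operator `Q ↦ (X - c) Q' - n Q`. -/
noncomputable def LL (c : k) (n : ℕ) : k[X] →ₗ[k] k[X] :=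
  (LinearMap.mulLeft k (X - C c)) ∘ₗ (derivative : k[X] →ₗ[k] k[X]) - LinearMap.mulLeft k (C (n : k))

theorem LL_apply (c : k) (n : ℕ) (Q : k[X]) :
    LL c n Q = (X - C c) * derivative Q - C (n : k) * Q := by
  simp [LL]

theorem LL_coeff (c : k) (n : ℕ) (Q : k[X]) (m : ℕ) :
    (LL c n Q).coeff m = ((m : k) - n) * Q.coeff m - c * (Q.coeff (m + 1) * ((m : k) + 1)) := by
  rw [LL_apply, sub_mul, coeff_sub, coeff_sub, coeff_X_mul_derivative, coeff_C_mul, coeff_C_mul,
    coeff_derivative]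
  ring

theorem LL_mem (c : k) (n : ℕ) {Q : k[X]} (hQ : Q ∈ degreeLT k n) : LL c n Q ∈ degreeLT k n := by
  rw [mem_degreeLT_iff_coeff] at hQ ⊢
  intro m hm
  rw [LL_coeff, hQ m hm, hQ (m + 1) (by omega)]
  ring

theorem LL_injOn [CharZero k] (c : k) (n : ℕ) {Q : k[X]} (hQ : Q ∈ degreeLT k n)
    (h0 : LL c n Q = 0) : Q = 0 := by
  by_contra hne
  have hlt : Q.natDegree < n := by
    have := mem_degreeLT.mp hQ
    rwa [degree_eq_natDegree hne, Nat.cast_lt] at this
  have h1 := LL_coeff c n Q Q.natDegree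
  rw [h0, coeff_zero, coeff_eq_zero_of_natDegree_lt (Nat.lt_succ_self _), zero_mul, mul_zero,
    sub_zero] at h1
  have h2 : ((Q.natDegree : k) - n) ≠ 0 := by
    rw [sub_ne_zero]
    exact fun h => (Nat.ne_of_lt hlt) (Nat.cast_injective h)
  have h3 : Q.coeff Q.natDegree ≠ 0 := by
    rwa [coeff_natDegree, leadingCoeff_ne_zero]
  exact mul_ne_zero h2 h3 h1.symm

instance (n : ℕ) : FiniteDimensional k (degreeLT k n) :=
  LinearEquiv.finiteDimensional (degreeLTEquiv k n).symm

theorem finrank_degreeLT (n : ℕ) : Module.finrank k (degreeLT k n) = n := by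
  rw [LinearEquiv.finrank_eq (degreeLTEquiv k n), Module.finrank_fin_fun]

theorem exists_LL [CharZero k] (c : k) (n : ℕ) {P : k[X]} (hP : P ∈ degreeLT k n) :
    ∃ Q ∈ degreeLT k n, LL c n Q = P := by
  let f : degreeLT k n →ₗ[k] degreeLT k n :=
    (LL c n).restrict (fun Q hQ => LL_mem c n hQ)
  have hinj : Function.Injective f := by
    rw [← LinearMap.ker_eq_bot, LinearMap.ker_eq_bot']
    intro Q hQ
    have : LL c n Q.1 = 0 := congrArg Subtype.val hQ
    exact Subtype.ext (LL_injOn c n Q.2 this)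
  obtain ⟨Q, hQ⟩ := (LinearMap.injective_iff_surjective.mp hinj) ⟨P, hP⟩
  exact ⟨Q.1, Q.2, congrArg Subtype.val hQ⟩


/-! ### The space `V_c` as an image of `Ψ` -/

section VV
variable [Fintype ι]

/-- The space `D·k[X]_{<c} + ∑_i D_i·k[X]_{<a_i}`. -/
noncomputable def VV (c : ℕ) : Submodule k k[X] :=
  (degreeLT k c).map (LinearMap.mulLeft k (∏ j, (X - C (r j)) ^ (a j + 1))) ⊔
    ⨆ i, (degreeLT k (a i)).map
      (LinearMap.mulLeft k (∏ j ∈ Finset.univ.erase i, (X - C (r j)) ^ (a j + 1)))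

theorem sum_erase_add (i : ι) : (∑ j ∈ Finset.univ.erase i, a j) + a i = ∑ j, a j := by
  rw [add_comm]; exact Finset.add_sum_erase _ _ (Finset.mem_univ i)

theorem Psi_univ_EE_erase_mul (i : ι) (Q : k[X]) :
    Psi r a Finset.univ (EE r a (Finset.univ.erase i) * Q) =
      DD r a (Finset.univ.erase i) * LL (r i) (a i) Q := by
  have h := Psi_insert_EE_mul r a (Finset.notMem_erase i Finset.univ) Q
  rw [Finset.insert_erase (Finset.mem_univ i)] at h
  rw [h, LL_apply]

theorem EE_erase_mul_mem {i : ι} {Q : k[X]} (hQ : Q ∈ degreeLT k (a i)) (c : ℕ) :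
    EE r a (Finset.univ.erase i) * Q ∈ degreeLT k ((∑ j, a j) + c + 1) := by
  by_cases h0 : Q = 0
  · rw [h0, mul_zero]; exact Submodule.zero_mem _
  · have hlt : Q.natDegree < a i := by
      have := mem_degreeLT.mp hQ
      rwa [degree_eq_natDegree h0, Nat.cast_lt] at this
    refine mem_degreeLT_of_natDegree_le ?_
    refine natDegree_mul_le.trans ?_
    rw [EE_natDegree]
    have := sum_erase_add a i
    omega

theorem VV_le [CharZero k] (c : ℕ) :
    VV r a c ≤ (degreeLT k ((∑ j, a j) + c + 1)).map (Psi r a Finset.univ) := by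
  refine sup_le ?_ (iSup_le fun i => ?_)
  · rintro _ ⟨P, hP, rfl⟩
    obtain ⟨Q, hQ, rfl⟩ := exists_antideriv hP
    refine ⟨EE r a Finset.univ * Q, ?_, ?_⟩
    · refine mem_degreeLT_of_natDegree_le ?_
      refine natDegree_mul_le.trans ?_
      rw [EE_natDegree]
      have := natDegree_le_of_mem_degreeLT hQ
      omega
    · rw [Psi_EE_mul]; rfl
  · rintro _ ⟨P, hP, rfl⟩
    obtain ⟨Q, hQ, rfl⟩ := exists_LL (r i) (a i) hP
    refine ⟨EE r a (Finset.univ.erase i) * Q, EE_erase_mul_mem r a hQ c, ?_⟩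
    rw [Psi_univ_EE_erase_mul]; rfl

theorem le_VV (hr : Function.Injective r) (c : ℕ) :
    (degreeLT k ((∑ j, a j) + c + 1)).map (Psi r a Finset.univ) ≤ VV r a c := by
  rintro _ ⟨G, hG, rfl⟩
  obtain ⟨q, R, hR, hGeq⟩ := eq_quo_mul_prod_add_sum_rem_mul_prod (s := Finset.univ) G
    (g := fun i => (X - C (r i)) ^ (a i)) (fun i _ => (monic_X_sub_C (r i)).pow (a i))
    (fun i _ j _ hij => (isCoprime_X_sub_C_of_isUnit_sub
      (sub_ne_zero.mpr (hr.ne hij)).isUnit).pow)
  have hRmem : ∀ i, R i ∈ degreeLT k (a i) := by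
    intro i
    have := hR i (Finset.mem_univ i)
    rw [mem_degreeLT]
    rwa [degree_pow, degree_X_sub_C, nsmul_eq_mul, mul_one] at this
  have e1 : G = EE r a Finset.univ * q + ∑ i, EE r a (Finset.univ.erase i) * R i := by
    rw [hGeq, mul_comm q]
    congr 1
    exact Finset.sum_congr rfl fun i _ => mul_comm _ _
  have hsum : ∑ i, EE r a (Finset.univ.erase i) * R i ∈ degreeLT k ((∑ j, a j) + c + 1) :=
    Submodule.sum_mem _ fun i _ => EE_erase_mul_mem r a (hRmem i) c
  have hsum' : ∑ i, EE r a (Finset.univ.erase i) * R i ∈ degreeLT k ((∑ j, a j) + 0 + 1) :=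
    Submodule.sum_mem _ fun i _ => EE_erase_mul_mem r a (hRmem i) 0
  have hq : q ∈ degreeLT k (c + 1) := by
    by_cases h0 : q = 0
    · rw [h0]; exact Submodule.zero_mem _
    · have h1 : EE r a Finset.univ * q ∈ degreeLT k ((∑ j, a j) + c + 1) := by
        have : EE r a Finset.univ * q = G - ∑ i, EE r a (Finset.univ.erase i) * R i := by
          rw [e1]; ring
        rw [this]; exact Submodule.sub_mem _ hG hsum
      have h2 := natDegree_le_of_mem_degreeLT h1
      rw [natDegree_mul (EE_ne_zero r a _) h0, EE_natDegree] at h2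
      exact mem_degreeLT_of_natDegree_le (by omega)
  rw [e1, map_add, map_sum, Psi_EE_mul]
  refine Submodule.add_mem _ (Submodule.mem_sup_left ⟨derivative q, derivative_mem_degreeLT hq, rfl⟩)
    (Submodule.mem_sup_right (Submodule.sum_mem _ fun i _ => ?_))
  rw [Psi_univ_EE_erase_mul]
  exact Submodule.mem_iSup_of_mem i ⟨LL (r i) (a i) (R i), LL_mem _ _ (hRmem i), rfl⟩

theorem VV_eq [CharZero k] (hr : Function.Injective r) (c : ℕ) :
    VV r a c = (degreeLT k ((∑ j, a j) + c + 1)).map (Psi r a Finset.univ) :=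
  le_antisymm (VV_le r a c) (le_VV r a hr c)

end VV


/-! ### Local analysis at points of the affine line -/

/-- The `k`-subspace of multiples of `(X - c)^n`. -/
noncomputable def Ipow (c : k) (n : ℕ) : Submodule k k[X] :=
  (Ideal.span {(X - C c) ^ n}).restrictScalars k

theorem mem_Ipow {c : k} {n : ℕ} {G : k[X]} : G ∈ Ipow c n ↔ (X - C c) ^ n ∣ G := by
  unfold Ipow
  rw [Submodule.restrictScalars_mem, Ideal.mem_span_singleton]

theorem eval_SS_ne_zero {s : Finset ι} {q : k} (hq : ∀ j ∈ s, q ≠ r j) : eval q (SS r s) ≠ 0 := by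
  unfold SS
  rw [eval_prod]
  simp only [eval_sub, eval_X, eval_C]
  exact Finset.prod_ne_zero_iff.mpr fun j hj => sub_ne_zero.mpr (hq j hj)

theorem eval_EE_ne_zero {s : Finset ι} {q : k} (hq : ∀ j ∈ s, q ≠ r j) :
    eval q (EE r a s) ≠ 0 := by
  unfold EE
  rw [eval_prod]
  simp only [eval_pow, eval_sub, eval_X, eval_C]
  exact Finset.prod_ne_zero_iff.mpr fun j hj => pow_ne_zero _ (sub_ne_zero.mpr (hq j hj))

theorem not_dvd_SS {s : Finset ι} {q : k} (hq : ∀ j ∈ s, q ≠ r j) : ¬ (X - C q) ∣ SS r s := by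
  rw [dvd_iff_isRoot, IsRoot.def]; exact eval_SS_ne_zero r hq

theorem not_dvd_EE {s : Finset ι} {q : k} (hq : ∀ j ∈ s, q ≠ r j) : ¬ (X - C q) ∣ EE r a s := by
  rw [dvd_iff_isRoot, IsRoot.def]; exact eval_EE_ne_zero r a hq

theorem not_dvd_C {q c : k} (hc : c ≠ 0) : ¬ (X - C q) ∣ (C c : k[X]) := by
  rw [dvd_iff_isRoot, IsRoot.def, eval_C]; exact hc

/-- Key divisibility step: if `(X-q) ∣ c·S·H + (X-q)·Z` with `c ≠ 0` and `q` not a root of `S`,
then `(X-q) ∣ H`. -/
theorem dvd_of_dvd_add {s : Finset ι} {q c : k} (hq : ∀ j ∈ s, q ≠ r j) (hc : c ≠ 0)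
    {H Z : k[X]} (h : (X - C q) ∣ C c * SS r s * H + (X - C q) * Z) : (X - C q) ∣ H := by
  have h1 : (X - C q) ∣ C c * SS r s * H := (dvd_add_left (dvd_mul_right _ _)).mp h
  rcases (prime_X_sub_C q).dvd_or_dvd h1 with h2 | h2
  · rcases (prime_X_sub_C q).dvd_or_dvd h2 with h3 | h3
    · exact absurd h3 (not_dvd_C hc)
    · exact absurd h3 (not_dvd_SS r hq)
  · exact h2

theorem unmarked_step [CharZero k] {s : Finset ι} {q : k} (hq : ∀ j ∈ s, q ≠ r j) (n : ℕ)
    {G : k[X]} (h1 : (X - C q) ^ n ∣ Psi r a s G) (h2 : (X - C q) ∣ G) :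
    (X - C q) ^ (n + 1) ∣ G := by
  induction n with
  | zero => simpa using h2
  | succ n ih =>
    obtain ⟨H, rfl⟩ := ih ((pow_dvd_pow _ (Nat.le_succ n)).trans h1)
    rw [Psi_pow_succ, pow_succ, mul_dvd_mul_iff_left (pow_ne_zero n (X_sub_C_ne_zero q))] at h1
    have hc : ((n + 1 : ℕ) : k) ≠ 0 := by exact_mod_cast Nat.succ_ne_zero n
    have := dvd_of_dvd_add r hq hc h1
    rw [pow_succ (X - C q) (n + 1)]
    exact mul_dvd_mul_left _ this

theorem exists_sub_dvd {s : Finset ι} {q : k} (hq : ∀ j ∈ s, q ≠ r j) (G : k[X]) :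
    ∃ c : k, (X - C q) ∣ G - C c * EE r a s := by
  refine ⟨eval q G / eval q (EE r a s), ?_⟩
  rw [dvd_iff_isRoot, IsRoot.def, eval_sub, eval_mul, eval_C,
    div_mul_cancel₀ _ (eval_EE_ne_zero r a hq), sub_self]

theorem Psi_sub_C_mul_EE (s : Finset ι) (G : k[X]) (c : k) :
    Psi r a s (G - C c * EE r a s) = Psi r a s G := by
  rw [map_sub, Psi_C_mul_EE, sub_zero]

theorem unmarked_fin [CharZero k] {s : Finset ι} {q : k} (hq : ∀ j ∈ s, q ≠ r j) (n : ℕ)
    {G : k[X]} (h1 : (X - C q) ^ n ∣ Psi r a s G) :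
    ∃ c : k, (X - C q) ^ (n + 1) ∣ G - C c * EE r a s := by
  obtain ⟨c, hc⟩ := exists_sub_dvd r a hq G
  exact ⟨c, unmarked_step r a hq n (by rw [Psi_sub_C_mul_EE]; exact h1) hc⟩

theorem Psi_eq_zero_iff [CharZero k] (s : Finset ι) (G : k[X]) :
    Psi r a s G = 0 ↔ ∃ c : k, G = C c * EE r a s := by
  constructor
  · intro h
    classical
    obtain ⟨q, hq'⟩ := Infinite.exists_notMem_finset (s.image r)
    have hq : ∀ j ∈ s, q ≠ r j := fun j hj hqj => hq' (hqj ▸ Finset.mem_image_of_mem r hj)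
    obtain ⟨c, hc1⟩ := exists_sub_dvd r a hq G
    refine ⟨c, ?_⟩
    by_contra hne
    have hne' : G - C c * EE r a s ≠ 0 := sub_ne_zero.mpr hne
    have h2 := unmarked_step r a hq (G - C c * EE r a s).natDegree
      (G := G - C c * EE r a s) (by rw [Psi_sub_C_mul_EE, h]; exact dvd_zero _) hc1
    have h3 := natDegree_le_of_dvd h2 hne'
    rw [natDegree_pow, natDegree_X_sub_C, mul_one] at h3
    omega
  · rintro ⟨c, rfl⟩; exact Psi_C_mul_EE r a s c

theorem marked_step [CharZero k] {s : Finset ι} {i : ι} (hi : i ∉ s) (hr : ∀ j ∈ s, r i ≠ r j)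
    {n t : ℕ} {G : k[X]} (h1 : (X - C (r i)) ^ n ∣ Psi r a (insert i s) G)
    (h2 : (X - C (r i)) ^ t ∣ G) (htn : t < n) (hta : t ≠ a i) :
    (X - C (r i)) ^ (t + 1) ∣ G := by
  obtain ⟨H, rfl⟩ := h2
  have h3 : (X - C (r i)) ^ (t + 1) ∣ Psi r a (insert i s) ((X - C (r i)) ^ t * H) :=
    (pow_dvd_pow _ (by omega)).trans h1
  rw [Psi_insert_pow r a hi, pow_succ,
    mul_dvd_mul_iff_left (pow_ne_zero t (X_sub_C_ne_zero (r i))), ← C_sub] at h3
  have hc : ((t : k) - (a i : k)) ≠ 0 := by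
    rw [sub_ne_zero]; exact fun h => hta (Nat.cast_injective h)
  have := dvd_of_dvd_add r hr hc h3
  rw [pow_succ]
  exact mul_dvd_mul_left _ this

theorem marked_fin [CharZero k] {s : Finset ι} {i : ι} (hi : i ∉ s) (hr : ∀ j ∈ s, r i ≠ r j)
    (n : ℕ) {G : k[X]} (h1 : (X - C (r i)) ^ n ∣ Psi r a (insert i s) G) :
    ∃ c : k, (X - C (r i)) ^ n ∣ G - C c * EE r a (insert i s) := by
  induction n with
  | zero => exact ⟨0, by simp⟩
  | succ n ih =>
    obtain ⟨c, hc⟩ := ih ((pow_dvd_pow _ (Nat.le_succ n)).trans h1)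
    by_cases hn : n = a i
    · obtain ⟨H, hH⟩ := hc
      obtain ⟨c', hc'⟩ := exists_sub_dvd r a hr H
      refine ⟨c + c', ?_⟩
      have e : G - C (c + c') * EE r a (insert i s) =
          (X - C (r i)) ^ n * (H - C c' * EE r a s) := by
        have : G = C c * EE r a (insert i s) + (X - C (r i)) ^ n * H := by
          rw [← hH]; ring
        rw [this, EE_insert r a hi, ← hn, C_add]; ring
      rw [e, pow_succ]
      exact mul_dvd_mul_left _ hc'
    · exact ⟨c, marked_step r a hi hr (by rw [Psi_sub_C_mul_EE]; exact h1) hc (Nat.lt_succ_self n) hn⟩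


/-! ### Image lemmas -/

theorem img_unmarked [CharZero k] {s : Finset ι} {q : k} (hq : ∀ j ∈ s, q ≠ r j)
    (Y : Submodule k k[X]) (hE : EE r a s ∈ Y) (n : ℕ) :
    Y.map (Psi r a s) ⊓ Ipow q n = (Y ⊓ Ipow q (n + 1)).map (Psi r a s) := by
  apply le_antisymm
  · rintro _ ⟨⟨G, hG, rfl⟩, h2⟩
    obtain ⟨c, hc⟩ := unmarked_fin r a hq n (mem_Ipow.mp h2)
    refine ⟨G - C c * EE r a s, ⟨Y.sub_mem hG ?_, mem_Ipow.mpr hc⟩, Psi_sub_C_mul_EE r a s G c⟩
    rw [← smul_eq_C_mul]; exact Y.smul_mem c hE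
  · rintro _ ⟨G, ⟨hG, h2⟩, rfl⟩
    refine ⟨⟨G, hG, rfl⟩, ?_⟩
    obtain ⟨H, rfl⟩ := mem_Ipow.mp h2
    apply mem_Ipow.mpr
    rw [Psi_pow_succ]
    exact dvd_mul_right _ _

theorem img_inf [CharZero k] (s : Finset ι) (M : ℕ) (n : ℕ) :
    (degreeLT k (M + 1)).map (Psi r a s) ⊓ degreeLT k (M + s.card - n) =
      (degreeLT k (M + 1 - n)).map (Psi r a s) := by
  apply le_antisymm
  · rintro _ ⟨⟨G, hG, rfl⟩, h2⟩
    obtain ⟨c, hc⟩ := degree_descent r a s M n hG h2
    exact ⟨G - C c * EE r a s, hc, Psi_sub_C_mul_EE r a s G c⟩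
  · rintro _ ⟨G, hG, rfl⟩
    refine ⟨⟨G, degreeLT_mono (by omega) hG, rfl⟩, ?_⟩
    by_cases hn : M + 1 - n = 0
    · rw [hn] at hG
      have : G = 0 := by
        rw [SetLike.mem_coe, mem_degreeLT_iff_coeff] at hG
        ext m; simpa using hG m (Nat.zero_le _)
      rw [this, map_zero]; exact Submodule.zero_mem _
    · obtain ⟨g, hg⟩ : ∃ g, M + 1 - n = g + 1 := ⟨M - n, by omega⟩
      rw [hg] at hG
      have := Psi_mem_degreeLT r a s hG
      have e : g + s.card = M + s.card - n := by omega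
      rwa [e] at this

section univ
variable [Fintype ι]

theorem Psi_univ_pow (i : ι) (n : ℕ) (H : k[X]) :
    Psi r a Finset.univ ((X - C (r i)) ^ n * H) =
      (X - C (r i)) ^ n * ((C (n : k) - C (a i : k)) * SS r (Finset.univ.erase i) * H +
        (X - C (r i)) * Psi r a (Finset.univ.erase i) H) := by
  have h := Psi_insert_pow r a (Finset.notMem_erase i Finset.univ) n H
  rwa [Finset.insert_erase (Finset.mem_univ i)] at h

theorem marked_fin_univ [CharZero k] (hr : Function.Injective r) (i : ι) (n : ℕ) {G : k[X]}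
    (h1 : (X - C (r i)) ^ n ∣ Psi r a Finset.univ G) :
    ∃ c : k, (X - C (r i)) ^ n ∣ G - C c * EE r a Finset.univ := by
  have h := marked_fin r a (Finset.notMem_erase i Finset.univ)
    (fun j hj => hr.ne (Finset.ne_of_mem_erase hj).symm) n (G := G)
  rw [Finset.insert_erase (Finset.mem_univ i)] at h
  exact h h1

theorem img_marked [CharZero k] (hr : Function.Injective r) (i : ι)
    (Y : Submodule k k[X]) (hE : EE r a Finset.univ ∈ Y) (n : ℕ) :
    Y.map (Psi r a Finset.univ) ⊓ Ipow (r i) n =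
      (Y ⊓ Ipow (r i) n).map (Psi r a Finset.univ) := by
  apply le_antisymm
  · rintro _ ⟨⟨G, hG, rfl⟩, h2⟩
    obtain ⟨c, hc⟩ := marked_fin_univ r a hr i n (mem_Ipow.mp h2)
    refine ⟨G - C c * EE r a Finset.univ, ⟨Y.sub_mem hG ?_, mem_Ipow.mpr hc⟩,
      Psi_sub_C_mul_EE r a _ G c⟩
    rw [← smul_eq_C_mul]; exact Y.smul_mem c hE
  · rintro _ ⟨G, ⟨hG, h2⟩, rfl⟩
    refine ⟨⟨G, hG, rfl⟩, ?_⟩
    obtain ⟨H, rfl⟩ := mem_Ipow.mp h2
    apply mem_Ipow.mpr
    rw [Psi_univ_pow]
    exact dvd_mul_right _ _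

theorem EE_univ_eq (i : ι) :
    EE r a Finset.univ = (X - C (r i)) ^ (a i) * EE r a (Finset.univ.erase i) := by
  have h := EE_insert r a (Finset.notMem_erase i Finset.univ)
  rwa [Finset.insert_erase (Finset.mem_univ i)] at h

theorem pow_dvd_EE_univ_iff (hr : Function.Injective r) (i : ι) (n : ℕ) :
    (X - C (r i)) ^ n ∣ EE r a Finset.univ ↔ n ≤ a i := by
  constructor
  · intro h
    by_contra hlt
    push Not at hlt
    have h1 : (X - C (r i)) ^ (a i + 1) ∣ EE r a Finset.univ := (pow_dvd_pow _ hlt).trans h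
    rw [EE_univ_eq r a i, pow_succ,
      mul_dvd_mul_iff_left (pow_ne_zero _ (X_sub_C_ne_zero (r i)))] at h1
    exact not_dvd_EE r a (fun j hj => hr.ne (Finset.ne_of_mem_erase hj).symm) h1
  · intro h
    rw [EE_univ_eq r a i]
    exact (pow_dvd_pow _ h).trans (dvd_mul_right _ _)

end univ

/-! ### Dimension lemmas -/

theorem finrank_map_Psi_of_mem [CharZero k] (s : Finset ι) (Y : Submodule k k[X])
    [FiniteDimensional k Y] (hE : EE r a s ∈ Y) :
    Module.finrank k (Y.map (Psi r a s)) + 1 = Module.finrank k Y := by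
  let f : Y →ₗ[k] k[X] := (Psi r a s).domRestrict Y
  have hr : LinearMap.range f = Y.map (Psi r a s) := LinearMap.range_domRestrict _ _
  have hk : LinearMap.ker f = Submodule.span k {(⟨EE r a s, hE⟩ : Y)} := by
    ext y
    rw [LinearMap.mem_ker, Submodule.mem_span_singleton]
    change Psi r a s y.1 = 0 ↔ _
    rw [Psi_eq_zero_iff]
    constructor
    · rintro ⟨c, hc⟩
      exact ⟨c, Subtype.ext (by rw [hc, Submodule.coe_smul, smul_eq_C_mul])⟩
    · rintro ⟨c, rfl⟩
      exact ⟨c, by rw [Submodule.coe_smul, smul_eq_C_mul]⟩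
  have h1 := LinearMap.finrank_range_add_finrank_ker f
  rw [hr, hk, finrank_span_singleton] at h1
  · exact h1
  · intro h
    exact EE_ne_zero r a s (congrArg Subtype.val h)

theorem finrank_map_Psi_of_notMem [CharZero k] (s : Finset ι) (Y : Submodule k k[X])
    [FiniteDimensional k Y] (hE : EE r a s ∉ Y) :
    Module.finrank k (Y.map (Psi r a s)) = Module.finrank k Y := by
  let f : Y →ₗ[k] k[X] := (Psi r a s).domRestrict Y
  have hr : LinearMap.range f = Y.map (Psi r a s) := LinearMap.range_domRestrict _ _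
  have hk : LinearMap.ker f = ⊥ := by
    rw [LinearMap.ker_eq_bot']
    intro y hy
    change Psi r a s y.1 = 0 at hy
    rw [Psi_eq_zero_iff] at hy
    obtain ⟨c, hc⟩ := hy
    by_cases h0 : c = 0
    · exact Subtype.ext (by rw [hc, h0]; simp)
    · exfalso
      apply hE
      have : EE r a s = c⁻¹ • y.1 := by
        rw [hc, smul_eq_C_mul, ← mul_assoc, ← C_mul, inv_mul_cancel₀ h0, C_1, one_mul]
      rw [this]
      exact Y.smul_mem _ y.2
  have h1 := LinearMap.finrank_range_add_finrank_ker f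
  rw [hr, hk, finrank_bot, add_zero] at h1
  exact h1

theorem degreeLT_inf_Ipow (c : k) (M n : ℕ) :
    degreeLT k M ⊓ Ipow c n =
      (degreeLT k (M - n)).map (LinearMap.mulLeft k ((X - C c) ^ n)) := by
  have hP : ((X - C c) ^ n : k[X]) ≠ 0 := pow_ne_zero _ (X_sub_C_ne_zero c)
  have hPd : ((X - C c) ^ n : k[X]).natDegree = n := by
    rw [natDegree_pow, natDegree_X_sub_C, mul_one]
  apply le_antisymm
  · rintro G ⟨hG, h2⟩
    obtain ⟨H, rfl⟩ := mem_Ipow.mp h2
    refine ⟨H, ?_, rfl⟩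
    by_cases h0 : H = 0
    · rw [h0]; exact Submodule.zero_mem _
    · have h1 := mem_degreeLT.mp hG
      rw [degree_eq_natDegree (mul_ne_zero hP h0), Nat.cast_lt, natDegree_mul hP h0, hPd] at h1
      rw [SetLike.mem_coe, mem_degreeLT, degree_eq_natDegree h0, Nat.cast_lt]
      omega
  · rintro _ ⟨H, hH, rfl⟩
    refine ⟨?_, mem_Ipow.mpr (dvd_mul_right _ _)⟩
    change (X - C c) ^ n * H ∈ degreeLT k M
    by_cases h0 : H = 0
    · rw [h0, mul_zero]; exact Submodule.zero_mem _
    · have h1 := mem_degreeLT.mp hH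
      rw [degree_eq_natDegree h0, Nat.cast_lt] at h1
      rw [mem_degreeLT, degree_eq_natDegree (mul_ne_zero hP h0), Nat.cast_lt,
        natDegree_mul hP h0, hPd]
      omega

theorem finrank_degreeLT_inf_Ipow (c : k) (M n : ℕ) :
    Module.finrank k ↥(degreeLT k M ⊓ Ipow c n) = M - n := by
  rw [degreeLT_inf_Ipow]
  have hinj : Function.Injective (LinearMap.mulLeft k ((X - C c) ^ n) : k[X] →ₗ[k] k[X]) := by
    intro x y hxy
    exact mul_left_cancel₀ (pow_ne_zero _ (X_sub_C_ne_zero c)) hxy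
  rw [← LinearEquiv.finrank_eq (Submodule.equivMapOfInjective _ hinj (degreeLT k (M - n))),
    finrank_degreeLT]

instance (c : k) (M n : ℕ) : FiniteDimensional k ↥(degreeLT k M ⊓ Ipow c n) :=
  Submodule.finiteDimensional_inf_left _ _

end Groth.Agent.Lib.PolarParts
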