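import Mathlib
import Groth.Agent.Lib.Helper16PolarParts

set_option autoImplicit false
set_option linter.style.haveILetI false
set_option linter.unusedSectionVars false

namespace Groth.Agent.Lib.PolarParts

open Polynomial Finset

variable {k : Type*} [Field k] {ι : Type*} [DecidableEq ι] (r : ι → k) (a : ι → ℕ)

theorem EE_mem_degreeLT_iff (s : Finset ι) (t : ℕ) :
    EE r a s ∈ degreeLT k t ↔ ∑ j ∈ s, a j < t := by
  rw [mem_degreeLT, degree_eq_natDegree (EE_ne_zero r a s), Nat.cast_lt, EE_natDegree]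

theorem X_sub_C_pow_mem_degreeLT (q : k) (n : ℕ) : (X - C q) ^ n ∈ degreeLT k (n + 1) :=
  mem_degreeLT_of_natDegree_le (by rw [natDegree_pow, natDegree_X_sub_C, mul_one])

theorem coeff_X_sub_C_pow_self (q : k) (n : ℕ) : ((X - C q) ^ n).coeff n = 1 := by
  have h := ((monic_X_sub_C q).pow n).coeff_natDegree
  rwa [natDegree_pow, natDegree_X_sub_C, mul_one] at h

theorem coeff_X_sub_C_pow_pred (q : k) (n : ℕ) :
    ((X - C q) ^ (n + 1)).coeff n = -((n + 1 : ℕ) : k) * q := by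
  rw [sub_eq_add_neg, ← C_neg, coeff_X_add_C_pow, Nat.add_sub_cancel_left, pow_one,
    Nat.choose_succ_self_right]
  ring

/-- If a subspace contains all polynomials of degree `≤ N-2`, a polynomial of degree `≤ N-1` with
nonzero coefficient at `N-1`, and a polynomial of degree `≤ N` with nonzero coefficient at `N`,
then it contains all polynomials of degree `≤ N`. -/
theorem top_of_two {N : ℕ} (W₁ : Submodule k k[X]) (h0 : degreeLT k N ≤ W₁)
    {A B : k[X]} (hA : A ∈ W₁) (hA' : A ∈ degreeLT k (N + 2)) (hAc : A.coeff (N + 1) ≠ 0)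
    (hB : B ∈ W₁) (hB' : B ∈ degreeLT k (N + 1)) (hBc : B.coeff N ≠ 0) :
    degreeLT k (N + 2) ≤ W₁ := by
  intro G hG
  set G₁ := G - (G.coeff (N + 1) / A.coeff (N + 1)) • A with hG₁
  have h1 : G₁ ∈ degreeLT k (N + 1) := by
    rw [mem_degreeLT_iff_coeff] at hG hA' ⊢
    intro m hm
    rw [hG₁, coeff_sub, coeff_smul, smul_eq_mul]
    rcases Nat.eq_or_lt_of_le hm with h | h
    · rw [← h]; field_simp; ring
    · rw [hG m (by omega), hA' m (by omega)]; ring
  set G₂ := G₁ - (G₁.coeff N / B.coeff N) • B with hG₂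
  have h2 : G₂ ∈ degreeLT k N := by
    rw [mem_degreeLT_iff_coeff] at h1 hB' ⊢
    intro m hm
    rw [hG₂, coeff_sub, coeff_smul, smul_eq_mul]
    rcases Nat.eq_or_lt_of_le hm with h | h
    · rw [← h]; field_simp; ring
    · rw [h1 m (by omega), hB' m (by omega)]; ring
  have e : G = G₂ + (G₁.coeff N / B.coeff N) • B + (G.coeff (N + 1) / A.coeff (N + 1)) • A := by
    rw [hG₂, hG₁]; ring
  rw [e]
  exact W₁.add_mem (W₁.add_mem (h0 h2) (W₁.smul_mem _ hB)) (W₁.smul_mem _ hA)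

/-- An element of `degreeLT (N+1)` divisible by `(X-q)^N` is a scalar multiple of `(X-q)^N`. -/
theorem eq_smul_of_mem_inf {q : k} {N : ℕ} {G : k[X]} (hG : G ∈ degreeLT k (N + 1) ⊓ Ipow q N) :
    ∃ c : k, G = c • (X - C q) ^ N := by
  rw [degreeLT_inf_Ipow, Nat.add_sub_cancel_left] at hG
  obtain ⟨H, hH, rfl⟩ := hG
  obtain ⟨c, rfl⟩ : ∃ c, H = C c := ⟨_, eq_C_of_natDegree_le_zero (natDegree_le_of_mem_degreeLT hH)⟩
  exact ⟨c, by rw [smul_eq_C_mul, LinearMap.mulLeft_apply, mul_comm]⟩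

section univ
variable [Fintype ι]

/-- The preimage hyperplane `W₁ = W ∩ Ψ⁻¹(V₁)`. -/
noncomputable def WW (N : ℕ) (V₁ : Submodule k k[X]) : Submodule k k[X] :=
  degreeLT k (N + 1) ⊓ V₁.comap (Psi r a Finset.univ)

instance (N : ℕ) (V₁ : Submodule k k[X]) : FiniteDimensional k (WW r a N V₁) :=
  Submodule.finiteDimensional_inf_left _ _

theorem WW_le (N : ℕ) (V₁ : Submodule k k[X]) : WW r a N V₁ ≤ degreeLT k (N + 1) := inf_le_left

theorem EE_mem_WW {N : ℕ} (hN : ∑ j, a j ≤ N) (V₁ : Submodule k k[X]) :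
    EE r a Finset.univ ∈ WW r a N V₁ := by
  refine ⟨mem_degreeLT_of_natDegree_le (by rw [EE_natDegree]; exact hN), ?_⟩
  rw [SetLike.mem_coe, Submodule.mem_comap, Psi_EE]; exact Submodule.zero_mem _

theorem map_WW {N : ℕ} {V₁ : Submodule k k[X]}
    (hV₁ : V₁ ≤ (degreeLT k (N + 1)).map (Psi r a Finset.univ)) :
    (WW r a N V₁).map (Psi r a Finset.univ) = V₁ := by
  apply le_antisymm
  · rintro _ ⟨G, hG, rfl⟩; exact hG.2
  · intro v hv
    obtain ⟨G, hG, rfl⟩ := hV₁ hv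
    exact ⟨G, ⟨hG, hv⟩, rfl⟩

theorem finrank_WW [CharZero k] {N : ℕ} (hN : ∑ j, a j ≤ N) {V₁ : Submodule k k[X]}
    (hV₁ : V₁ ≤ (degreeLT k (N + 1)).map (Psi r a Finset.univ)) :
    Module.finrank k (WW r a N V₁) = Module.finrank k V₁ + 1 := by
  have := finrank_map_Psi_of_mem r a Finset.univ (WW r a N V₁) (EE_mem_WW r a hN V₁)
  rw [map_WW r a hV₁] at this
  exact this.symm

/-- Unmarked points are never `N`-fold ramification points of `V`. -/
theorem unmarked_top_eq_bot [CharZero k] {N : ℕ} (hN : ∑ j, a j ≤ N) {q : k} (hq : ∀ j, q ≠ r j) :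
    (degreeLT k (N + 1)).map (Psi r a Finset.univ) ⊓ Ipow q N = ⊥ := by
  have hE : EE r a Finset.univ ∈ degreeLT k (N + 1) :=
    mem_degreeLT_of_natDegree_le (by rw [EE_natDegree]; exact hN)
  have h1 := img_unmarked r a (s := Finset.univ) (q := q) (fun j _ => hq j)
    (degreeLT k (N + 1)) hE N
  have h2 : degreeLT k (N + 1) ⊓ Ipow q (N + 1) = ⊥ :=
    Submodule.finrank_eq_zero.mp (by rw [finrank_degreeLT_inf_Ipow]; omega)
  rw [h2, Submodule.map_bot] at h1
  exact h1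

end univ

end Groth.Agent.Lib.PolarParts
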