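import Mathlib
import Groth.Agent.Lib.Helper16PolarParts2

set_option autoImplicit false
set_option linter.style.haveILetI false
set_option linter.unusedSectionVars false

namespace Groth.Agent.Lib.PolarParts

open Polynomial Finset

variable {k : Type*} [Field k] {ι : Type*} [DecidableEq ι] (r : ι → k) (a : ι → ℕ)

/-! ### Combinatorics -/

theorem choose_succ_two (n : ℕ) : (n + 1).choose 2 = n + n.choose 2 := by
  rw [Nat.choose_succ_succ' n 1, Nat.choose_one_right]

theorem sum_sub (N' : ℕ) : ∑ n ∈ Finset.range N', (N' - n) = (N' + 1).choose 2 := by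
  induction N' with
  | zero => simp
  | succ N' ih =>
    rw [Finset.sum_range_succ, choose_succ_two]
    have : ∑ n ∈ Finset.range N', (N' + 1 - n) = ∑ n ∈ Finset.range N', (N' - n) + N' := by
      have h1 : ∑ n ∈ Finset.range N', (N' + 1 - n) = ∑ n ∈ Finset.range N', ((N' - n) + 1) := by
        refine Finset.sum_congr rfl fun n hn => ?_
        have := Finset.mem_range.mp hn
        omega
      rw [h1, Finset.sum_add_distrib, Finset.sum_const, Finset.card_range, smul_eq_mul, mul_one]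
    rw [this, ih]; omega

theorem comb (N' c : ℕ) :
    ∑ n ∈ Finset.range N', (if n + 1 ≤ c then N' - n - 1 else N' - n) + min c N' =
      (N' + 1).choose 2 := by
  rw [← sum_sub N']
  have h1 : ∑ n ∈ Finset.range N', (if n < c then 1 else 0) = min c N' := by
    rw [Finset.sum_boole]
    have : (Finset.range N').filter (fun n => n < c) = Finset.range (min c N') := by
      ext n; simp only [Finset.mem_filter, Finset.mem_range]; omega
    rw [this, Finset.card_range]; simp
  rw [← h1, ← Finset.sum_add_distrib]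
  refine Finset.sum_congr rfl fun n hn => ?_
  have := Finset.mem_range.mp hn
  split_ifs <;> omega

theorem sum_range_eq_of_zero (f : ℕ → ℕ) {d K : ℕ}
    (h : ∀ n, (d ≤ n ∧ n < K) ∨ (K ≤ n ∧ n < d) → f n = 0) :
    ∑ n ∈ Finset.range d, f n = ∑ n ∈ Finset.range K, f n := by
  rcases le_total d K with hdK | hdK
  · refine Finset.sum_subset (Finset.range_mono hdK) fun n hn hn' => ?_
    exact h n (Or.inl ⟨by simpa using hn', Finset.mem_range.mp hn⟩)
  · symm
    refine Finset.sum_subset (Finset.range_mono hdK) fun n hn hn' => ?_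
    exact h n (Or.inr ⟨by simpa using hn', Finset.mem_range.mp hn⟩)

/-! ### Hyperplane sections -/

theorem hyp_inf {W W₁ Y : Submodule k k[X]} [FiniteDimensional k W] (hW₁ : W₁ ≤ W)
    (hfr : Module.finrank k W₁ + 1 = Module.finrank k W) (hY : Y ≤ W) (hnot : ¬ Y ≤ W₁) :
    Module.finrank k ↥(W₁ ⊓ Y) + 1 = Module.finrank k Y := by
  haveI : FiniteDimensional k W₁ := Submodule.finiteDimensional_of_le hW₁
  haveI : FiniteDimensional k Y := Submodule.finiteDimensional_of_le hY
  have hsup_le : W₁ ⊔ Y ≤ W := sup_le hW₁ hY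
  haveI : FiniteDimensional k ↥(W₁ ⊔ Y) := Submodule.finiteDimensional_of_le hsup_le
  have hlt : W₁ < W₁ ⊔ Y := lt_of_le_of_ne le_sup_left fun h => hnot (h ▸ le_sup_right)
  have h1 := Submodule.finrank_lt_finrank_of_lt hlt
  have h2 := Submodule.finrank_mono hsup_le
  have h3 := Submodule.finrank_sup_add_finrank_inf_eq W₁ Y
  omega

/-! ### Infinity, general subspace -/

theorem img_inf' [CharZero k] (s : Finset ι) (M : ℕ) (Y : Submodule k k[X])
    (hY : Y ≤ degreeLT k (M + 1)) (hE : EE r a s ∈ Y) (n : ℕ) :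
    Y.map (Psi r a s) ⊓ degreeLT k (M + s.card - n) =
      (Y ⊓ degreeLT k (M + 1 - n)).map (Psi r a s) := by
  apply le_antisymm
  · rintro _ ⟨⟨G, hG, rfl⟩, h2⟩
    obtain ⟨c, hc⟩ := degree_descent r a s M n (hY hG) h2
    refine ⟨G - C c * EE r a s, ⟨Y.sub_mem hG ?_, hc⟩, Psi_sub_C_mul_EE r a s G c⟩
    rw [← smul_eq_C_mul]; exact Y.smul_mem c hE
  · rintro _ ⟨G, ⟨hG, hG2⟩, rfl⟩
    refine ⟨⟨G, hG, rfl⟩, ?_⟩
    have := (img_inf r a s M n).ge (Submodule.mem_map_of_mem hG2)
    exact this.2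

section univ
variable [Fintype ι]

theorem finrank_V_marked [CharZero k] (hr : Function.Injective r) (i : ι) {N : ℕ}
    (hα : ∑ j, a j ≤ N) (n : ℕ) :
    Module.finrank k ↥((degreeLT k (N + 1)).map (Psi r a Finset.univ) ⊓ Ipow (r i) n) =
      if n ≤ a i then N - n else N + 1 - n := by
  have hE : EE r a Finset.univ ∈ degreeLT k (N + 1) :=
    mem_degreeLT_of_natDegree_le (by rw [EE_natDegree]; exact hα)
  rw [img_marked r a hr i (degreeLT k (N + 1)) hE n]
  have hai : a i ≤ N :=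
    (Finset.single_le_sum (f := a) (fun j _ => Nat.zero_le _) (Finset.mem_univ i)).trans hα
  split_ifs with hn
  · have hmem : EE r a Finset.univ ∈ degreeLT k (N + 1) ⊓ Ipow (r i) n :=
      ⟨hE, mem_Ipow.mpr ((pow_dvd_EE_univ_iff r a hr i n).mpr hn)⟩
    have := finrank_map_Psi_of_mem r a Finset.univ _ hmem
    rw [finrank_degreeLT_inf_Ipow] at this
    omega
  · have hmem : EE r a Finset.univ ∉ degreeLT k (N + 1) ⊓ Ipow (r i) n := fun h =>
      hn ((pow_dvd_EE_univ_iff r a hr i n).mp (mem_Ipow.mp h.2))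
    rw [finrank_map_Psi_of_notMem r a Finset.univ _ hmem, finrank_degreeLT_inf_Ipow]

/-- Weight computation at a marked point for a hyperplane. -/
theorem partA [CharZero k] (hr : Function.Injective r) (i : ι) {N' d : ℕ}
    (hα : ∑ j, a j ≤ N' + 1) (hai : a i ≤ N') (hd : N' + 1 ≤ d)
    (W₁ : Submodule k k[X]) (hW₁ : W₁ ≤ degreeLT k (N' + 2)) (hE : EE r a Finset.univ ∈ W₁)
    (hfr : Module.finrank k W₁ = N' + 1)
    (hkey : ¬ ((X - C (r i)) ^ N' ∈ W₁ ∧ (X - C (r i)) ^ (N' + 1) ∈ W₁)) :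
    ∃ ε : ℕ, ε ≤ 1 ∧
      (∑ n ∈ Finset.range d,
        Module.finrank k ↥(W₁.map (Psi r a Finset.univ) ⊓ Ipow (r i) (n + 1))) + 1 =
        N'.choose 2 + (N' + 1 - a i) + ε := by
  set f : ℕ → ℕ := fun n =>
    Module.finrank k ↥(W₁.map (Psi r a Finset.univ) ⊓ Ipow (r i) (n + 1)) with hf
  have hVle : ∀ t, W₁.map (Psi r a Finset.univ) ⊓ Ipow (r i) t ≤
      (degreeLT k (N' + 1 + 1)).map (Psi r a Finset.univ) ⊓ Ipow (r i) t := fun t =>
    inf_le_inf_right _ (Submodule.map_mono hW₁)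
  -- (a)
  have ha' : ∀ n, n < N' → f n = if n + 1 ≤ a i then N' - n - 1 else N' - n := by
    intro n hn
    change Module.finrank k ↥(W₁.map (Psi r a Finset.univ) ⊓ Ipow (r i) (n + 1)) = _
    rw [img_marked r a hr i W₁ hE (n + 1)]
    have hY : degreeLT k (N' + 2) ⊓ Ipow (r i) (n + 1) ≤ degreeLT k (N' + 2) := inf_le_left
    have hnot : ¬ degreeLT k (N' + 2) ⊓ Ipow (r i) (n + 1) ≤ W₁ := by
      intro h
      apply hkey
      refine ⟨h ⟨degreeLT_mono (by omega) (X_sub_C_pow_mem_degreeLT (r i) N'),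
        mem_Ipow.mpr (pow_dvd_pow _ (by omega))⟩,
        h ⟨X_sub_C_pow_mem_degreeLT (r i) (N' + 1), mem_Ipow.mpr (pow_dvd_pow _ (by omega))⟩⟩
    have h1 := hyp_inf hW₁ (by rw [hfr, finrank_degreeLT]) hY hnot
    rw [← inf_assoc, inf_of_le_left hW₁, finrank_degreeLT_inf_Ipow] at h1
    haveI : FiniteDimensional k ↥(W₁ ⊓ Ipow (r i) (n + 1)) :=
      Submodule.finiteDimensional_of_le (inf_le_left.trans hW₁)
    split_ifs with hn'
    · have hmem : EE r a Finset.univ ∈ W₁ ⊓ Ipow (r i) (n + 1) :=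
        ⟨hE, mem_Ipow.mpr ((pow_dvd_EE_univ_iff r a hr i (n + 1)).mpr hn')⟩
      have := finrank_map_Psi_of_mem r a Finset.univ _ hmem
      omega
    · have hmem : EE r a Finset.univ ∉ W₁ ⊓ Ipow (r i) (n + 1) := fun h =>
        hn' ((pow_dvd_EE_univ_iff r a hr i (n + 1)).mp (mem_Ipow.mp h.2))
      rw [finrank_map_Psi_of_notMem r a Finset.univ _ hmem]
      omega
  -- (b)
  have hb' : f N' ≤ 1 := by
    have h1 := Submodule.finrank_mono (hVle (N' + 1))
    rw [finrank_V_marked r a hr i hα, if_neg (by omega)] at h1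
    change Module.finrank k ↥(W₁.map (Psi r a Finset.univ) ⊓ Ipow (r i) (N' + 1)) ≤ 1
    omega
  -- (c)
  have hc' : ∀ n, N' + 1 ≤ n → f n = 0 := by
    intro n hn
    have h1 := Submodule.finrank_mono (hVle (n + 1))
    rw [finrank_V_marked r a hr i hα, if_neg (by omega)] at h1
    change Module.finrank k ↥(W₁.map (Psi r a Finset.univ) ⊓ Ipow (r i) (n + 1)) = 0
    omega
  refine ⟨f N', hb', ?_⟩
  have hsum : ∑ n ∈ Finset.range d, f n = ∑ n ∈ Finset.range (N' + 1), f n := by
    refine sum_range_eq_of_zero f fun n hn => ?_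
    rcases hn with hn | hn
    · omega
    · exact hc' n hn.1
  rw [hsum, Finset.sum_range_succ, Finset.sum_congr rfl fun n hn => ha' n (Finset.mem_range.mp hn)]
  have h1 := comb N' (a i)
  have h2 := choose_succ_two N'
  rw [min_eq_left hai] at h1
  omega

end univ

end Groth.Agent.Lib.PolarParts
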