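import Mathlib
import Groth.Prelude.Def_W4c5spincurvestfNode

/-!
# The polynomial node `R[x, y]/(xy - π)` has an `R`-basis indexed by `ℤ` (helper16)

`e m = x ^ m.toNat * y ^ (-m).toNat` (so `x ^ m` for `m ≥ 0` and `y ^ (-m)` for `m < 0`).
We construct the `R`-linear equivalence `nodeEquiv : R[x,y]/(xy - π) ≃ₗ[R] (ℤ →₀ R)` with
`nodeEquiv.symm (single m c) = c • e m`, and record how an algebra map acts on the `e m`.
-/

set_option autoImplicit false
set_option linter.style.haveILetI false
set_option linter.unusedSectionVars false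
universe u
open SpinCurv

namespace Groth.Agent.Lib.Helper16PolyNode

variable (R : Type u) [CommRing R] (π : R)

/-- the exponent `(1,1)`. -/
noncomputable def m11 : Fin 2 →₀ ℕ := Finsupp.single 0 1 + Finsupp.single 1 1

@[simp] lemma m11_zero : m11 0 = 1 := by simp [m11]
@[simp] lemma m11_one : m11 1 = 1 := by simp [m11]

/-- value of the normal form on a monomial. -/
noncomputable def psiMon (n : Fin 2 →₀ ℕ) : ℤ →₀ R :=
  Finsupp.single ((n 0 : ℤ) - (n 1 : ℤ)) (π ^ (min (n 0) (n 1)))

lemma psiMon_add (n : Fin 2 →₀ ℕ) : psiMon R π (m11 + n) = π • psiMon R π n := by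
  unfold psiMon
  rw [Finsupp.smul_single, smul_eq_mul, Finsupp.add_apply, Finsupp.add_apply, m11_zero, m11_one,
    Nat.add_min_add_left, pow_add, pow_one]
  congr 1
  push_cast
  ring

/-- the normal form map on polynomials. -/
noncomputable def psi : MvPolynomial (Fin 2) R →ₗ[R] (ℤ →₀ R) :=
  (MvPolynomial.basisMonomials (Fin 2) R).constr R (psiMon R π)

lemma psi_monomial (n : Fin 2 →₀ ℕ) (c : R) :
    psi R π (MvPolynomial.monomial n c) = c • psiMon R π n := by
  have h : MvPolynomial.monomial n c = c • (MvPolynomial.basisMonomials (Fin 2) R) n := by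
    rw [MvPolynomial.coe_basisMonomials, MvPolynomial.smul_monomial, smul_eq_mul, mul_one]
  rw [h, map_smul, psi, Module.Basis.constr_basis]

lemma gen_mul_monomial (n : Fin 2 →₀ ℕ) (c : R) :
    (MvPolynomial.X 0 * MvPolynomial.X 1 - MvPolynomial.C π : MvPolynomial (Fin 2) R) *
      MvPolynomial.monomial n c =
    MvPolynomial.monomial (m11 + n) c - MvPolynomial.monomial n (π * c) := by
  rw [sub_mul, MvPolynomial.C_mul_monomial, MvPolynomial.X, MvPolynomial.X,
    MvPolynomial.monomial_mul, MvPolynomial.monomial_mul, one_mul, one_mul, m11]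

lemma psi_gen_mul (P : MvPolynomial (Fin 2) R) :
    psi R π ((MvPolynomial.X 0 * MvPolynomial.X 1 - MvPolynomial.C π) * P) = 0 := by
  have h : (psi R π).comp (LinearMap.mulLeft R
      (MvPolynomial.X 0 * MvPolynomial.X 1 - MvPolynomial.C π : MvPolynomial (Fin 2) R)) = 0 := by
    apply (MvPolynomial.basisMonomials (Fin 2) R).ext
    intro n
    rw [MvPolynomial.coe_basisMonomials, LinearMap.comp_apply, LinearMap.mulLeft_apply,
      gen_mul_monomial, map_sub, psi_monomial, psi_monomial, psiMon_add, LinearMap.zero_apply,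
      one_smul, mul_one, sub_self]
  exact LinearMap.congr_fun h P

lemma span_le_ker_psi :
    (Ideal.span {(MvPolynomial.X 0 * MvPolynomial.X 1 - MvPolynomial.C π :
      MvPolynomial (Fin 2) R)}).restrictScalars R ≤ LinearMap.ker (psi R π) := by
  intro P hP
  rw [Submodule.restrictScalars_mem, Ideal.mem_span_singleton'] at hP
  obtain ⟨Q, rfl⟩ := hP
  rw [LinearMap.mem_ker, mul_comm]
  exact psi_gen_mul R π Q

/-- the normal form map on the quotient. -/
noncomputable def psiBar : SpinCurv.PolyNodeRing R π →ₗ[R] (ℤ →₀ R) :=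
  (Submodule.liftQ _ (psi R π) (span_le_ker_psi R π)).comp
    (Submodule.Quotient.restrictScalarsEquiv R (Ideal.span
      {(MvPolynomial.X 0 * MvPolynomial.X 1 - MvPolynomial.C π :
        MvPolynomial (Fin 2) R)})).symm.toLinearMap

lemma psiBar_mk (P : MvPolynomial (Fin 2) R) :
    psiBar R π (Ideal.Quotient.mk _ P) = psi R π P := rfl

/-- the basis vectors. -/
noncomputable def e (m : ℤ) : SpinCurv.PolyNodeRing R π :=
  SpinCurv.PolyNodeRing.x R π ^ m.toNat * SpinCurv.PolyNodeRing.y R π ^ (-m).toNat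

lemma xy : SpinCurv.PolyNodeRing.x R π * SpinCurv.PolyNodeRing.y R π =
    algebraMap R (SpinCurv.PolyNodeRing R π) π := by
  have : (Ideal.Quotient.mk (Ideal.span {(MvPolynomial.X 0 * MvPolynomial.X 1 - MvPolynomial.C π :
      MvPolynomial (Fin 2) R)})) (MvPolynomial.X 0 * MvPolynomial.X 1 - MvPolynomial.C π) = 0 :=
    Ideal.Quotient.eq_zero_iff_mem.mpr (Ideal.subset_span rfl)
  rw [map_sub, map_mul, sub_eq_zero] at this
  exact this

lemma mk_monomial (n : Fin 2 →₀ ℕ) (c : R) :
    (Ideal.Quotient.mk (Ideal.span {(MvPolynomial.X 0 * MvPolynomial.X 1 - MvPolynomial.C π :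
      MvPolynomial (Fin 2) R)})) (MvPolynomial.monomial n c) =
    c • (SpinCurv.PolyNodeRing.x R π ^ n 0 * SpinCurv.PolyNodeRing.y R π ^ n 1) := by
  have h : MvPolynomial.monomial n c =
      c • (MvPolynomial.X 0 ^ n 0 * MvPolynomial.X 1 ^ n 1 : MvPolynomial (Fin 2) R) := by
    rw [MvPolynomial.monomial_eq, Finsupp.prod_fintype _ _ (fun _ => pow_zero _), Fin.prod_univ_two,
      MvPolynomial.smul_eq_C_mul]
  change (Ideal.Quotient.mkₐ R _) (MvPolynomial.monomial n c) = _
  rw [h, map_smul, map_mul, map_pow, map_pow]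
  rfl

lemma smul_eq (c : R) (b : SpinCurv.PolyNodeRing R π) :
    c • b = algebraMap R (SpinCurv.PolyNodeRing R π) c * b := Algebra.smul_def c b

lemma x_pow_mul_y_pow_aux (a b k : ℕ) :
    SpinCurv.PolyNodeRing.x R π ^ (a + k) * SpinCurv.PolyNodeRing.y R π ^ (b + k) =
      (π ^ k) • (SpinCurv.PolyNodeRing.x R π ^ a * SpinCurv.PolyNodeRing.y R π ^ b) := by
  rw [smul_eq, map_pow, ← xy, mul_pow, pow_add, pow_add]
  ring

lemma x_pow_mul_y_pow (a b : ℕ) :
    SpinCurv.PolyNodeRing.x R π ^ a * SpinCurv.PolyNodeRing.y R π ^ b =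
      (π ^ min a b) • e R π ((a : ℤ) - b) := by
  have h1 : ((a : ℤ) - b).toNat = a - min a b := by omega
  have h2 : (-((a : ℤ) - b)).toNat = b - min a b := by omega
  rw [e, h1, h2, ← x_pow_mul_y_pow_aux, Nat.sub_add_cancel (min_le_left a b),
    Nat.sub_add_cancel (min_le_right a b)]

/-- the inverse of the normal form map. -/
noncomputable def theta : (ℤ →₀ R) →ₗ[R] SpinCurv.PolyNodeRing R π :=
  Finsupp.linearCombination R (e R π)

lemma theta_single (m : ℤ) (c : R) : theta R π (Finsupp.single m c) = c • e R π m := by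
  rw [theta, Finsupp.linearCombination_single]

lemma psiBar_e (m : ℤ) : psiBar R π (e R π m) = Finsupp.single m 1 := by
  have h : e R π m = Ideal.Quotient.mk _ (MvPolynomial.monomial
      (Finsupp.single 0 m.toNat + Finsupp.single 1 (-m).toNat) (1 : R)) := by
    rw [mk_monomial, one_smul, e]
    simp
  rw [h, psiBar_mk, psi_monomial, one_smul, psiMon]
  have h1 : ((Finsupp.single (0 : Fin 2) m.toNat + Finsupp.single 1 (-m).toNat : Fin 2 →₀ ℕ) 0) =
      m.toNat := by simp
  have h2 : ((Finsupp.single (0 : Fin 2) m.toNat + Finsupp.single 1 (-m).toNat : Fin 2 →₀ ℕ) 1) =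
      (-m).toNat := by simp
  rw [h1, h2]
  have h3 : min m.toNat (-m).toNat = 0 := by omega
  have h4 : ((m.toNat : ℤ) - ((-m).toNat : ℤ)) = m := by omega
  rw [h3, h4, pow_zero]

lemma psiBar_theta (a : ℤ →₀ R) : psiBar R π (theta R π a) = a := by
  have h : (psiBar R π).comp (theta R π) = LinearMap.id := by
    apply Finsupp.lhom_ext
    intro m c
    rw [LinearMap.comp_apply, theta_single, map_smul, psiBar_e, LinearMap.id_apply,
      Finsupp.smul_single, smul_eq_mul, mul_one]
  exact LinearMap.congr_fun h a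

lemma theta_psi (P : MvPolynomial (Fin 2) R) :
    theta R π (psi R π P) = Ideal.Quotient.mk _ P := by
  have h : (theta R π).comp (psi R π) =
      (Ideal.Quotient.mkₐ R (Ideal.span {(MvPolynomial.X 0 * MvPolynomial.X 1 - MvPolynomial.C π :
        MvPolynomial (Fin 2) R)})).toLinearMap := by
    apply (MvPolynomial.basisMonomials (Fin 2) R).ext
    intro n
    rw [MvPolynomial.coe_basisMonomials, LinearMap.comp_apply, psi_monomial, one_smul, psiMon,
      theta_single, AlgHom.toLinearMap_apply, Ideal.Quotient.mkₐ_eq_mk, mk_monomial, one_smul,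
      x_pow_mul_y_pow]
  exact LinearMap.congr_fun h P

lemma theta_psiBar (b : SpinCurv.PolyNodeRing R π) : theta R π (psiBar R π b) = b := by
  obtain ⟨P, rfl⟩ := Ideal.Quotient.mk_surjective b
  rw [psiBar_mk, theta_psi]

/-- `R[x,y]/(xy - π)` is free over `R` with basis `e m`, `m : ℤ`. -/
noncomputable def nodeEquiv : SpinCurv.PolyNodeRing R π ≃ₗ[R] (ℤ →₀ R) :=
  LinearEquiv.ofLinearMap (psiBar R π) (theta R π)
    (LinearMap.ext (psiBar_theta R π)) (LinearMap.ext (theta_psiBar R π))

lemma nodeEquiv_symm_single (m : ℤ) (c : R) :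
    (nodeEquiv R π).symm (Finsupp.single m c) = c • e R π m := theta_single R π m c

lemma nodeEquiv_e (m : ℤ) : nodeEquiv R π (e R π m) = Finsupp.single m 1 := psiBar_e R π m

lemma nodeEquiv_symm_apply (a : ℤ →₀ R) : (nodeEquiv R π).symm a = theta R π a := rfl

end Groth.Agent.Lib.Helper16PolyNode
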