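import Mathlib
import Groth.Prelude.Def_W4c5spincurvestfNode
import Groth.Agent.Lib.Helper16PolyNode

/-!
# Compatible pairs of functions on the two charts of the blown-up node (helper16)

`U = R[s, y]/(sy - q)`, `V = R[t, x]/(tx - p)`, glued along `R[T, T⁻¹]` by `s ↦ T`, `y ↦ q T⁻¹`,
`t ↦ T⁻¹`, `x ↦ p T`.  For an integer `n ≥ -1` the pairs `(g, f)` with `g = Tⁿ f` on the overlap
are exactly the image of the injective `R`-linear map `Jmap n : (ℤ →₀ R) → U × V`,
`single M 1 ↦ (p ^ (M - n)⁺ • e M, q ^ (-M)⁺ • e (n - M))`.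
-/

set_option autoImplicit false
set_option linter.style.haveILetI false
set_option linter.unusedSectionVars false
universe u
open SpinCurv

namespace Groth.Agent.Lib.Helper16PolyNode

open LaurentPolynomial

variable (R : Type u) [CommRing R]

lemma algHom_ext {π : R} {C : Type*} [Semiring C] [Algebra R C]
    (φ ψ : SpinCurv.PolyNodeRing R π →ₐ[R] C)
    (hx : φ (SpinCurv.PolyNodeRing.x R π) = ψ (SpinCurv.PolyNodeRing.x R π))
    (hy : φ (SpinCurv.PolyNodeRing.y R π) = ψ (SpinCurv.PolyNodeRing.y R π)) : φ = ψ := by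
  apply Ideal.Quotient.algHom_ext
  apply MvPolynomial.algHom_ext
  intro i
  fin_cases i
  · exact hx
  · exact hy

lemma span_e (π : R) : Submodule.span R (Set.range (e R π)) = ⊤ := by
  rw [← Finsupp.range_linearCombination]
  exact LinearMap.range_eq_top.mpr (nodeEquiv R π).symm.surjective

/-- index-dependent scaling of a finitely supported function. -/
noncomputable def scale (c : ℤ → R) : (ℤ →₀ R) →ₗ[R] (ℤ →₀ R) where
  toFun α := Finsupp.onFinset α.support (fun M => α M * c M) (by
    intro M hM
    rw [Finsupp.mem_support_iff]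
    intro h
    apply hM
    rw [h, zero_mul])
  map_add' α β := by
    ext M
    simp [add_mul]
  map_smul' r α := by
    ext M
    simp [mul_assoc]

@[simp] lemma scale_apply (c : ℤ → R) (α : ℤ →₀ R) (M : ℤ) : scale R c α M = α M * c M := rfl

lemma scale_single (c : ℤ → R) (M : ℤ) (a : R) :
    scale R c (Finsupp.single M a) = Finsupp.single M (a * c M) := by
  ext M'
  rw [scale_apply]
  by_cases h : M = M'
  · subst h; simp
  · simp [Finsupp.single_eq_of_ne (Ne.symm h)]

/-- reflection `i ↦ n - i` on finitely supported functions. -/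
noncomputable def refl (n : ℤ) : (ℤ →₀ R) ≃ₗ[R] (ℤ →₀ R) := Finsupp.domLCongr (Equiv.subLeft n)

@[simp] lemma refl_apply (n : ℤ) (α : ℤ →₀ R) (M : ℤ) : refl R n α M = α (n - M) := by
  rw [refl, Finsupp.domLCongr_apply, Finsupp.domCongr_apply, Finsupp.equivMapDomain_apply]
  congr 1
  simp [Equiv.subLeft]
  ring

lemma refl_single (n : ℤ) (i : ℤ) (c : R) :
    refl R n (Finsupp.single i c) = Finsupp.single (n - i) c := by
  rw [refl, Finsupp.domLCongr_single]
  rfl

/-- finitely supported functions as Laurent polynomials. -/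
noncomputable def lau : (ℤ →₀ R) ≃ₗ[R] LaurentPolynomial R :=
  (AddMonoidAlgebra.coeffLinearEquiv R (S := R) (M := ℤ)).symm

lemma lau_single (M : ℤ) (c : R) : lau R (Finsupp.single M c) = C c * T M := by
  rw [← LaurentPolynomial.single_eq_C_mul_T]
  rfl

variable (p q : R)

lemma gU_e (gU : SpinCurv.PolyNodeRing R q →ₐ[R] LaurentPolynomial R)
    (hgUs : gU (SpinCurv.PolyNodeRing.x R q) = LaurentPolynomial.T 1)
    (hgUy : gU (SpinCurv.PolyNodeRing.y R q) = LaurentPolynomial.C q * LaurentPolynomial.T (-1))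
    (M : ℤ) : gU (e R q M) = C (q ^ (-M).toNat) * T M := by
  rw [e, map_mul, map_pow, map_pow, hgUs, hgUy, mul_pow, T_pow, T_pow, ← map_pow, mul_comm (T _),
    mul_assoc, ← T_add]
  congr 2
  omega

lemma gV_e (gV : SpinCurv.PolyNodeRing R p →ₐ[R] LaurentPolynomial R)
    (hgVt : gV (SpinCurv.PolyNodeRing.x R p) = LaurentPolynomial.T (-1))
    (hgVx : gV (SpinCurv.PolyNodeRing.y R p) = LaurentPolynomial.C p * LaurentPolynomial.T 1)
    (i : ℤ) : gV (e R p i) = C (p ^ (-i).toNat) * T (-i) := by
  rw [e, map_mul, map_pow, map_pow, hgVt, hgVx, mul_pow, T_pow, T_pow, ← map_pow, mul_comm (T _),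
    mul_assoc, ← T_add]
  congr 2
  omega

lemma gU_comp (gU : SpinCurv.PolyNodeRing R q →ₐ[R] LaurentPolynomial R)
    (hgUs : gU (SpinCurv.PolyNodeRing.x R q) = LaurentPolynomial.T 1)
    (hgUy : gU (SpinCurv.PolyNodeRing.y R q) = LaurentPolynomial.C q * LaurentPolynomial.T (-1)) :
    gU.toLinearMap.comp (nodeEquiv R q).symm.toLinearMap =
      (lau R).toLinearMap.comp (scale R (fun M => q ^ (-M).toNat)) := by
  apply Finsupp.lhom_ext
  intro M c
  rw [LinearMap.comp_apply, LinearMap.comp_apply, LinearEquiv.coe_coe, LinearEquiv.coe_coe,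
    nodeEquiv_symm_single, AlgHom.toLinearMap_apply, map_smul, gU_e R q gU hgUs hgUy, scale_single,
    lau_single, smul_eq_C_mul, map_mul, mul_assoc]

lemma gV_comp (n : ℤ) (gV : SpinCurv.PolyNodeRing R p →ₐ[R] LaurentPolynomial R)
    (hgVt : gV (SpinCurv.PolyNodeRing.x R p) = LaurentPolynomial.T (-1))
    (hgVx : gV (SpinCurv.PolyNodeRing.y R p) = LaurentPolynomial.C p * LaurentPolynomial.T 1) :
    ((LinearMap.mulLeft R (T n : LaurentPolynomial R)).comp gV.toLinearMap).comp
        (nodeEquiv R p).symm.toLinearMap =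
      (lau R).toLinearMap.comp ((refl R n).toLinearMap.comp
        (scale R (fun i => p ^ (-i).toNat))) := by
  apply Finsupp.lhom_ext
  intro i c
  rw [LinearMap.comp_apply, LinearMap.comp_apply, LinearMap.comp_apply, LinearMap.comp_apply,
    LinearEquiv.coe_coe, LinearEquiv.coe_coe, LinearEquiv.coe_coe,
    nodeEquiv_symm_single, AlgHom.toLinearMap_apply, map_smul, gV_e R p gV hgVt hgVx, scale_single,
    refl_single, lau_single, smul_eq_C_mul, LinearMap.mulLeft_apply, map_mul, sub_eq_add_neg, T_add]
  ring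

/-- the parametrisation of compatible pairs. -/
noncomputable def Jmap (n : ℤ) :
    (ℤ →₀ R) →ₗ[R] SpinCurv.PolyNodeRing R q × SpinCurv.PolyNodeRing R p :=
  LinearMap.prod ((nodeEquiv R q).symm.toLinearMap.comp (scale R (fun M => p ^ (M - n).toNat)))
    ((nodeEquiv R p).symm.toLinearMap.comp ((refl R n).toLinearMap.comp
      (scale R (fun M => q ^ (-M).toNat))))

lemma Jmap_apply (n : ℤ) (δ : ℤ →₀ R) :
    Jmap R p q n δ = ((nodeEquiv R q).symm (scale R (fun M => p ^ (M - n).toNat) δ),
      (nodeEquiv R p).symm (refl R n (scale R (fun M => q ^ (-M).toNat) δ))) := rfl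

lemma Jmap_single (n M : ℤ) :
    Jmap R p q n (Finsupp.single M 1) =
      (p ^ (M - n).toNat • e R q M, q ^ (-M).toNat • e R p (n - M)) := by
  rw [Jmap_apply, scale_single, scale_single, refl_single, nodeEquiv_symm_single,
    nodeEquiv_symm_single, one_mul, one_mul]

lemma Jmap_injective (n : ℤ) (hn : -1 ≤ n) : Function.Injective (Jmap R p q n) := by
  rw [injective_iff_map_eq_zero]
  intro δ hδ
  rw [Jmap_apply, Prod.mk_eq_zero] at hδ
  have h1 : scale R (fun M => p ^ (M - n).toNat) δ = 0 :=
    (nodeEquiv R q).symm.injective (by rw [hδ.1, map_zero])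
  have h2 : scale R (fun M => q ^ (-M).toNat) δ = 0 := by
    have h3 : refl R n (scale R (fun M => q ^ (-M).toNat) δ) = 0 :=
      (nodeEquiv R p).symm.injective (by rw [hδ.2, map_zero])
    exact (refl R n).injective (by rw [h3, map_zero])
  ext M
  rw [Finsupp.zero_apply]
  by_cases hM : M ≤ n
  · have := DFunLike.congr_fun h1 M
    rw [scale_apply, Finsupp.zero_apply] at this
    have h0 : (M - n).toNat = 0 := by omega
    simpa [h0] using this
  · have := DFunLike.congr_fun h2 M
    rw [scale_apply, Finsupp.zero_apply] at this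
    have h0 : (-M).toNat = 0 := by omega
    simpa [h0] using this

lemma mem_range_Jmap_iff (n : ℤ) (hn : -1 ≤ n)
    (gU : SpinCurv.PolyNodeRing R q →ₐ[R] LaurentPolynomial R)
    (hgUs : gU (SpinCurv.PolyNodeRing.x R q) = LaurentPolynomial.T 1)
    (hgUy : gU (SpinCurv.PolyNodeRing.y R q) = LaurentPolynomial.C q * LaurentPolynomial.T (-1))
    (gV : SpinCurv.PolyNodeRing R p →ₐ[R] LaurentPolynomial R)
    (hgVt : gV (SpinCurv.PolyNodeRing.x R p) = LaurentPolynomial.T (-1))
    (hgVx : gV (SpinCurv.PolyNodeRing.y R p) = LaurentPolynomial.C p * LaurentPolynomial.T 1)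
    (gf : SpinCurv.PolyNodeRing R q × SpinCurv.PolyNodeRing R p) :
    gf ∈ LinearMap.range (Jmap R p q n) ↔ gU gf.1 = T n * gV gf.2 := by
  classical
  have hLform : ∀ (α γ : ℤ →₀ R),
      gU ((nodeEquiv R q).symm α) - T n * gV ((nodeEquiv R p).symm γ) =
      lau R (scale R (fun M => q ^ (-M).toNat) α) -
        lau R (refl R n (scale R (fun i => p ^ (-i).toNat) γ)) := by
    intro α γ
    have h1 := LinearMap.congr_fun (gU_comp R q gU hgUs hgUy) α
    have h2 := LinearMap.congr_fun (gV_comp R p n gV hgVt hgVx) γ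
    simp only [LinearMap.comp_apply, LinearEquiv.coe_coe, AlgHom.toLinearMap_apply,
      LinearMap.mulLeft_apply] at h1 h2
    rw [h1, h2]
  constructor
  · rintro ⟨δ, rfl⟩
    rw [← sub_eq_zero, Jmap_apply, hLform, sub_eq_zero]
    congr 1
    ext M
    rw [scale_apply, scale_apply, refl_apply, scale_apply, refl_apply, scale_apply, sub_sub_cancel]
    have : (-(n - M)).toNat = (M - n).toNat := by congr 1; ring
    simp only [this]
    ring
  · intro hgf
    obtain ⟨g, f⟩ := gf
    set α := nodeEquiv R q g with hα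
    set γ := nodeEquiv R p f with hγ
    have hg : g = (nodeEquiv R q).symm α := by rw [hα, LinearEquiv.symm_apply_apply]
    have hf : f = (nodeEquiv R p).symm γ := by rw [hγ, LinearEquiv.symm_apply_apply]
    change gU g = T n * gV f at hgf
    rw [← sub_eq_zero, hg, hf, hLform, sub_eq_zero] at hgf
    have hstar : ∀ M, α M * q ^ (-M).toNat = γ (n - M) * p ^ (-(n - M)).toNat := by
      intro M
      have := DFunLike.congr_fun ((lau R).injective hgf) M
      rwa [scale_apply, refl_apply, scale_apply] at this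
    let δ : ℤ →₀ R := Finsupp.onFinset (α.support ∪ γ.support.image (fun i => n - i))
      (fun M => if M ≤ n then α M else γ (n - M)) (by
        intro M hM
        rw [Finset.mem_union, Finsupp.mem_support_iff, Finset.mem_image]
        by_cases h : M ≤ n
        · rw [if_pos h] at hM
          exact Or.inl hM
        · rw [if_neg h] at hM
          exact Or.inr ⟨n - M, Finsupp.mem_support_iff.mpr hM, by ring⟩)
    refine ⟨δ, ?_⟩
    have e1 : scale R (fun M => p ^ (M - n).toNat) δ = α := by
      ext M
      rw [scale_apply, Finsupp.onFinset_apply]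
      by_cases h : M ≤ n
      · have h0 : (M - n).toNat = 0 := by omega
        rw [if_pos h]
        simp [h0]
      · have h0 : (-M).toNat = 0 := by omega
        have h1 : (-(n - M)).toNat = (M - n).toNat := by congr 1; ring
        have := hstar M
        rw [h0, pow_zero, mul_one, h1] at this
        rw [if_neg h, this]
    have e2 : refl R n (scale R (fun M => q ^ (-M).toNat) δ) = γ := by
      ext i
      rw [refl_apply, scale_apply, Finsupp.onFinset_apply, sub_sub_cancel]
      by_cases h : n - i ≤ n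
      · rw [if_pos h]
        have := hstar (n - i)
        rw [sub_sub_cancel] at this
        have h0 : (-i).toNat = 0 := by omega
        rw [h0, pow_zero, mul_one] at this
        exact this
      · rw [if_neg h]
        have h0' : (i - n).toNat = 0 := by omega
        simp [h0']
    rw [Jmap_apply, e1, e2, ← hg, ← hf]

end Groth.Agent.Lib.Helper16PolyNode
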