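import Mathlib
import Groth.Prelude.Def_ProEtS
import Groth.Agent.Lib.Helper6AnEpsPull
import Groth.Agent.Lib.Helper9ExtZero
import Groth.Agent.Lib.Helper16BigSmallCoh

/-!
# Helper16: big vs small pro-étale site (restriction is exact, preserves injectives, unit iso)
-/

set_option autoImplicit false
set_option linter.style.haveILetI false
universe u
open CategoryTheory CategoryTheory.Limits AlgebraicGeometry Opposite

namespace Groth.Agent.Lib.Helper16.ProEtBigSmall

variable (S : Scheme.{u})

set_option backward.isDefEq.respectTransparency.types false in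
instance forget_isCocontinuous :
    (Scheme.ProEt.forget S).IsCocontinuous (Scheme.ProEt.topology S)
      (Scheme.proetaleTopology.over S) := by
  have h : Scheme.ProEt.topology S =
      (Scheme.ProEt.forget S).restrictedTopology (Scheme.proetaleTopology.over S) :=
    MorphismProperty.toGrothendieck_comap_forget_eq_restrictedTopology _
      Scheme.proetalePrecoverage_le_precoverage_weaklyEtale
  rw [h]
  infer_instance

/-- restriction from the big to the small pro-étale site -/
noncomputable abbrev res : Sheaf (Scheme.proetaleTopology.over S) AddCommGrpCat.{u + 1} ⥤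
    Sheaf (Scheme.ProEt.topology S) AddCommGrpCat.{u + 1} :=
  (Scheme.ProEt.forget S).sheafPushforwardContinuous AddCommGrpCat.{u + 1}
    (Scheme.ProEt.topology S) (Scheme.proetaleTopology.over S)

noncomputable abbrev pull : Sheaf (Scheme.ProEt.topology S) AddCommGrpCat.{u + 1} ⥤
    Sheaf (Scheme.proetaleTopology.over S) AddCommGrpCat.{u + 1} :=
  (Scheme.ProEt.forget S).sheafPullback AddCommGrpCat.{u + 1}
    (Scheme.ProEt.topology S) (Scheme.proetaleTopology.over S)

noncomputable abbrev adj : pull S ⊣ res S :=
  (Scheme.ProEt.forget S).sheafAdjunctionContinuous AddCommGrpCat.{u + 1}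
    (Scheme.ProEt.topology S) (Scheme.proetaleTopology.over S)

noncomputable abbrev coind : Sheaf (Scheme.ProEt.topology S) AddCommGrpCat.{u + 1} ⥤
    Sheaf (Scheme.proetaleTopology.over S) AddCommGrpCat.{u + 1} :=
  (Scheme.ProEt.forget S).sheafPushforwardCocontinuous AddCommGrpCat.{u + 1}
    (Scheme.ProEt.topology S) (Scheme.proetaleTopology.over S)

noncomputable abbrev adj' : res S ⊣ coind S :=
  (Scheme.ProEt.forget S).sheafAdjunctionCocontinuous AddCommGrpCat.{u + 1}
    (Scheme.ProEt.topology S) (Scheme.proetaleTopology.over S)

set_option backward.isDefEq.respectTransparency.types false in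
theorem isIso_unit : IsIso (adj S).unit := by
  let t : Adjunction.Triple (pull S) (res S) (coind S) := ⟨adj S, adj' S⟩
  rw [t.isIso_unit_iff_isIso_counit]
  have h : ∀ F, IsIso ((adj' S).counit.app F) := by
    intro F
    have h1 : IsIso ((sheafToPresheaf _ _).map ((adj' S).counit.app F)) := by
      have e : (sheafToPresheaf _ _).map ((adj' S).counit.app F) =
          ((Scheme.ProEt.forget S).op.ranAdjunction AddCommGrpCat.{u + 1}).counit.app F.obj :=
        Functor.sheafAdjunctionCocontinuous_counit_app_hom _ _ _ _ F
      have h0 : IsIso (((Scheme.ProEt.forget S).op.ranAdjunction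
          AddCommGrpCat.{u + 1}).counit.app F.obj) := inferInstance
      rw [e]
      exact h0
    exact isIso_of_reflects_iso _ (sheafToPresheaf _ _)
  exact NatIso.isIso_of_isIso_app _

instance res_additive : (res S).Additive where
  map_add := by intros; rfl

instance res_preservesFiniteLimits : PreservesFiniteLimits (res S) := by
  haveI := (adj S).rightAdjoint_preservesLimits
  infer_instance

instance res_preservesFiniteColimits : PreservesFiniteColimits (res S) := by
  haveI := (adj' S).leftAdjoint_preservesColimits
  infer_instance

instance hasExactColimits_costructuredArrow (d : (Over S)ᵒᵖ) :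
    HasExactColimitsOfShape (CostructuredArrow (Scheme.ProEt.forget S).op d)
      AddCommGrpCat.{u + 1} := by
  have : IsFiltered (CostructuredArrow (Scheme.ProEt.forget S).op d) :=
    IsFiltered.of_equivalence (structuredArrowOpEquivalence (Scheme.ProEt.forget S) (unop d))
  have := AB5OfSize_of_univLE.{u, u + 1, u + 1, u + 1} AddCommGrpCat.{u + 1}
  exact AB5OfSize.ofShape _

theorem pull_preservesFiniteLimits : PreservesFiniteLimits (pull S) := by
  have h : PreservesFiniteLimits
      ((Scheme.ProEt.forget S).op.lan : (_ ⥤ _ ⥤ AddCommGrpCat.{u + 1})) :=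
    Groth.Agent.Lib.Helper6.lan_preservesFiniteLimits_of_flat' AddCommGrpCat.{u + 1}
      (Scheme.ProEt.forget S)
  exact Functor.sheafPullbackConstruction.preservesFiniteLimits (Scheme.ProEt.forget S)
    AddCommGrpCat.{u + 1} (Scheme.ProEt.topology S) (Scheme.proetaleTopology.over S)

theorem injective_res (I : Sheaf (Scheme.proetaleTopology.over S) AddCommGrpCat.{u + 1})
    [Injective I] : Injective ((res S).obj I) := by
  haveI := pull_preservesFiniteLimits S
  haveI : (pull S).PreservesMonomorphisms := preservesMonomorphisms_of_preservesLimitsOfShape _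
  exact Injective.injective_of_adjoint (adj S) I

end Groth.Agent.Lib.Helper16.ProEtBigSmall
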