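import Mathlib

set_option autoImplicit false
set_option linter.style.haveILetI false
set_option linter.unusedSectionVars false
universe w v₁ u₁ v₂ u₂ v u
open CategoryTheory CategoryTheory.Limits Opposite

namespace Groth.Agent.Lib.Helper16.PseudoFiltered

section SigmaColim

variable {I : Type w} {D : I → Type u₁} [∀ i, Category.{v₁} (D i)] {A : Type u₂} [Category.{v₂} A]
variable (H : (Σ i, D i) ⥤ A) [∀ i, HasColimit (Sigma.incl i ⋙ H)]

/-- the colimit inclusions, with the source written in terms of `H`. -/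
noncomputable def cι (i : I) (d : D i) : H.obj ⟨i, d⟩ ⟶ colimit (Sigma.incl i ⋙ H) :=
  colimit.ι (Sigma.incl i ⋙ H) d

lemma cι_w (i : I) {d d' : D i} (g : d ⟶ d') :
    H.map (Sigma.SigmaHom.mk g) ≫ cι H i d' = cι H i d :=
  colimit.w (Sigma.incl i ⋙ H) g

lemma cι_desc (i : I) (s : Cocone H) (d : D i) :
    cι H i d ≫ colimit.desc (Sigma.incl i ⋙ H) (s.whisker (Sigma.incl i)) = s.ι.app ⟨i, d⟩ :=
  colimit.ι_desc _ _

lemma cι_ext (i : I) {Z : A} (f g : colimit (Sigma.incl i ⋙ H) ⟶ Z)
    (h : ∀ d, cι H i d ≫ f = cι H i d ≫ g) : f = g :=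
  colimit.hom_ext h

variable [HasCoproduct (fun i => colimit (Sigma.incl i ⋙ H))]

/-- the legs of the cocone. -/
noncomputable def leg (i : I) (d : D i) :
    H.obj ⟨i, d⟩ ⟶ ∐ (fun i => colimit (Sigma.incl i ⋙ H)) :=
  cι H i d ≫ Sigma.ι (fun i => colimit (Sigma.incl i ⋙ H)) i

lemma leg_w (i : I) {d d' : D i} (g : d ⟶ d') :
    H.map (Sigma.SigmaHom.mk g) ≫ leg H i d' = leg H i d := by
  unfold leg
  rw [← Category.assoc, cι_w]

/-- the cocone with point the coproduct of the colimits over the pieces. -/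
noncomputable def sigmaCocone : Cocone H where
  pt := ∐ (fun i => colimit (Sigma.incl i ⋙ H))
  ι :=
    { app := fun x => leg H x.1 x.2
      naturality := by
        rintro ⟨i, d⟩ ⟨i', d'⟩ f
        rcases f with ⟨g⟩
        have h := leg_w H i g
        dsimp
        rw [Category.comp_id]
        exact h }

lemma leg_desc (s : Cocone H) (i : I) (d : D i) :
    leg H i d ≫ Sigma.desc (fun i => colimit.desc (Sigma.incl i ⋙ H) (s.whisker (Sigma.incl i)))
      = s.ι.app ⟨i, d⟩ := by
  unfold leg
  rw [Category.assoc, Sigma.ι_desc, cι_desc]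

/-- it is a colimit cocone. -/
noncomputable def sigmaCoconeIsColimit : IsColimit (sigmaCocone H) where
  desc s := Sigma.desc (fun i => colimit.desc (Sigma.incl i ⋙ H) (s.whisker (Sigma.incl i)))
  fac s := by
    rintro ⟨i, d⟩
    exact leg_desc H s i d
  uniq s m hm := by
    obtain ⟨m', hm'⟩ : ∃ m' : (∐ fun i => colimit (Sigma.incl i ⋙ H)) ⟶ s.pt, m' = m := ⟨m, rfl⟩
    have hm2 : ∀ i d, leg H i d ≫ m' = s.ι.app ⟨i, d⟩ := fun i d => by
      rw [hm']
      exact hm ⟨i, d⟩
    rw [← hm']
    apply Sigma.hom_ext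
    intro i
    apply cι_ext
    intro d
    have h1 := hm2 i d
    have h2 := leg_desc H s i d
    unfold leg at h1 h2
    rw [Category.assoc] at h1 h2
    rw [h1, h2]

end SigmaColim

section Mono

variable {I : Type u} {D : I → Type u} [∀ i, SmallCategory (D i)] [∀ i, IsFiltered (D i)]

lemma cι_colimMap {H H' : (Σ i, D i) ⥤ AddCommGrpCat.{u}} (η : H ⟶ H') (i : I) (d : D i) :
    cι H i d ≫ colimMap (Functor.whiskerLeft (Sigma.incl i) η) = η.app ⟨i, d⟩ ≫ cι H' i d :=
  ι_colimMap _ _

theorem mono_colimMap_sigma {H H' : (Σ i, D i) ⥤ AddCommGrpCat.{u}} (η : H ⟶ H') [Mono η] :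
    Mono (colimMap η) := by
  haveI hη : ∀ x, Mono (η.app x) := fun x => inferInstance
  have hm : ∀ i, Mono (colimMap (Functor.whiskerLeft (Sigma.incl i) η)) := by
    intro i
    haveI : ∀ d, Mono ((Functor.whiskerLeft (Sigma.incl i) η).app d) := fun d => hη _
    haveI : Mono (Functor.whiskerLeft (Sigma.incl i) η) := NatTrans.mono_of_mono_app _
    haveI : PreservesFiniteLimits
        (colim : (D i ⥤ AddCommGrpCat.{u}) ⥤ AddCommGrpCat.{u}) :=
      HasExactColimitsOfShape.preservesFiniteLimits
    exact inferInstanceAs (Mono (colim.map (Functor.whiskerLeft (Sigma.incl i) η)))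
  let m : (∐ fun i => colimit (Sigma.incl i ⋙ H)) ⟶ ∐ fun i => colimit (Sigma.incl i ⋙ H') :=
    Limits.Sigma.map (fun i => colimMap (Functor.whiskerLeft (Sigma.incl i) η))
  haveI : Mono m := inferInstance
  obtain ⟨e, he⟩ : ∃ e : colimit H ≅ ∐ fun i => colimit (Sigma.incl i ⋙ H),
      ∀ i d, colimit.ι H ⟨i, d⟩ ≫ e.hom = leg H i d :=
    ⟨(colimit.isColimit H).coconePointUniqueUpToIso (sigmaCoconeIsColimit H), fun i d =>
      IsColimit.comp_coconePointUniqueUpToIso_hom (colimit.isColimit H)
        (sigmaCoconeIsColimit H) _⟩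
  obtain ⟨e', he'⟩ : ∃ e' : colimit H' ≅ ∐ fun i => colimit (Sigma.incl i ⋙ H'),
      ∀ i d, leg H' i d ≫ e'.inv = colimit.ι H' ⟨i, d⟩ :=
    ⟨(colimit.isColimit H').coconePointUniqueUpToIso (sigmaCoconeIsColimit H'), fun i d =>
      IsColimit.comp_coconePointUniqueUpToIso_inv (colimit.isColimit H')
        (sigmaCoconeIsColimit H') _⟩
  have hleg : ∀ i d, leg H i d ≫ m = η.app ⟨i, d⟩ ≫ leg H' i d := by
    intro i d
    unfold leg
    rw [Category.assoc, Sigma.ι_map, ← Category.assoc, cι_colimMap, Category.assoc]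
  have key : colimMap η = e.hom ≫ m ≫ e'.inv := by
    apply colimit.hom_ext
    rintro ⟨i, d⟩
    rw [ι_colimMap, ← Category.assoc, he, ← Category.assoc, hleg, Category.assoc, he']
  rw [key]
  infer_instance

end Mono

section Components

variable {J : Type u} [SmallCategory J] [∀ c : ConnectedComponents J, IsFiltered c.Component]

theorem mono_colimMap_of_filtered_components {F G : J ⥤ AddCommGrpCat.{u}} (η : F ⟶ G) [Mono η] :
    Mono (colimMap η) := by
  let E := decomposedTo J
  haveI hη : ∀ x, Mono (η.app x) := fun x => inferInstance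
  haveI : ∀ k, Mono ((Functor.whiskerLeft E η).app k) := fun k => hη _
  haveI : Mono (Functor.whiskerLeft E η) := NatTrans.mono_of_mono_app _
  haveI : Mono (colimMap (Functor.whiskerLeft E η)) := mono_colimMap_sigma _
  haveI : IsIso (colimit.pre F E) := inferInstance
  haveI : IsIso (colimit.pre G E) := inferInstance
  have key : colimit.pre F E ≫ colimMap η = colimMap (Functor.whiskerLeft E η) ≫ colimit.pre G E := by
    apply colimit.hom_ext
    intro k
    rw [← Category.assoc, colimit.ι_pre, ι_colimMap, ← Category.assoc, ι_colimMap, Category.assoc,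
      colimit.ι_pre]
    rfl
  have key' : colimMap η = inv (colimit.pre F E) ≫ colimMap (Functor.whiskerLeft E η) ≫
      colimit.pre G E := by
    rw [← key, IsIso.inv_hom_id_assoc]
  rw [key']
  infer_instance

instance hasExactColimitsOfShape_of_filtered_components :
    HasExactColimitsOfShape J AddCommGrpCat.{u} where
  preservesFiniteLimits := by
    haveI : (colim : (J ⥤ AddCommGrpCat.{u}) ⥤ AddCommGrpCat.{u}).PreservesMonomorphisms :=
      ⟨fun η _ => mono_colimMap_of_filtered_components η⟩
    haveI : (colim : (J ⥤ AddCommGrpCat.{u}) ⥤ AddCommGrpCat.{u}).Additive :=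
      Functor.additive_of_preserves_binary_products _
    haveI : (colim : (J ⥤ AddCommGrpCat.{u}) ⥤ AddCommGrpCat.{u}).PreservesHomology :=
      Functor.preservesHomology_of_preservesMonos_and_cokernels _
    exact Functor.preservesFiniteLimits_of_preservesHomology _

end Components

section Connected

variable {J : Type u} [Category.{v} J] [HasPushouts J] [HasCoequalizers J]

/-- two objects related by a zigzag have a common upper bound. -/
theorem exists_cospan_of_zigzag {X Y : J} (h : Zigzag X Y) :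
    ∃ (W : J) (_ : X ⟶ W) (_ : Y ⟶ W), True := by
  induction h with
  | refl => exact ⟨X, 𝟙 X, 𝟙 X, trivial⟩
  | tail _ hzag ih =>
    obtain ⟨W, f, g, -⟩ := ih
    rcases hzag with ⟨⟨k⟩⟩ | ⟨⟨k⟩⟩
    · exact ⟨pushout g k, f ≫ pushout.inl g k, pushout.inr g k, trivial⟩
    · exact ⟨W, f, k ≫ g, trivial⟩

instance isFiltered_component (c : ConnectedComponents J) : IsFiltered c.Component where
  cocone_objs X Y := by
    have hz : Zigzag X.1 Y.1 := Quotient.exact' (X.2.trans Y.2.symm)
    obtain ⟨W, f, g, -⟩ := exists_cospan_of_zigzag hz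
    have hz' : Zigzag W X.1 := Relation.ReflTransGen.single (Or.inr ⟨f⟩)
    have hW : c.objectProperty W :=
      (Quotient.sound' hz' : (Quotient.mk'' W : ConnectedComponents J) = Quotient.mk'' X.1).trans X.2
    exact ⟨⟨W, hW⟩, ObjectProperty.homMk f, ObjectProperty.homMk g, trivial⟩
  cocone_maps X Y f g := by
    have hz' : Zigzag (coequalizer f.hom g.hom) Y.1 :=
      Relation.ReflTransGen.single (Or.inr ⟨coequalizer.π f.hom g.hom⟩)
    have hW : c.objectProperty (coequalizer f.hom g.hom) :=
      (Quotient.sound' hz' : (Quotient.mk'' (coequalizer f.hom g.hom) : ConnectedComponents J) =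
        Quotient.mk'' Y.1).trans Y.2
    refine ⟨⟨coequalizer f.hom g.hom, hW⟩, ObjectProperty.homMk (coequalizer.π f.hom g.hom), ?_⟩
    ext
    exact coequalizer.condition f.hom g.hom

end Connected

end Groth.Agent.Lib.Helper16.PseudoFiltered
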