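import Mathlib
import Groth.Agent.Lib.Helper28Normal
import Groth.Agent.S5783
import Groth.Agent.Lib.Helper16WildEt

set_option autoImplicit false
set_option linter.style.haveILetI false
set_option linter.unusedSectionVars false

universe u v w

namespace Groth.Agent.Lib.Helper16.PurityTwo

open Groth.Agent.Lib.Helper16.WildEt

/-- A two-dimensional normal local domain finite over a regular local subring is free. -/
theorem free_of_normal_dim_two {R : Type u} [CommRing R] [IsRegularLocalRing R] {A : Type v}
    [CommRing A] [IsDomain A] [IsIntegrallyClosed A] [IsLocalRing A] [Algebra R A]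
    [Module.Finite R A] (hinj : Function.Injective (algebraMap R A))
    (hdim : ringKrullDim A = 2) : Module.Free R A := by
  haveI : IsNoetherianRing A := Algebra.FiniteType.isNoetherianRing R A
  let R₀ : Subring A := (algebraMap R A).range
  let e : R ≃+* R₀ := RingEquiv.ofBijective (algebraMap R A).rangeRestrict
    ⟨fun x y h => hinj (congrArg Subtype.val h), (algebraMap R A).rangeRestrict_surjective⟩
  haveI : IsRegularLocalRing R₀ := IsRegularLocalRing.of_ringEquiv e
  letI : Algebra R R₀ := (algebraMap R A).rangeRestrict.toAlgebra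
  haveI : IsScalarTower R R₀ A := IsScalarTower.of_algebraMap_eq fun x => rfl
  haveI : Module.Finite R₀ A := Module.Finite.of_restrictScalars_finite R R₀ A
  haveI : Algebra.IsIntegral R₀ A := Algebra.IsIntegral.of_finite _ _
  haveI : IsLocalHom (algebraMap R₀ A) :=
    RingHom.IsIntegral.isLocalHom (algebraMap_isIntegral_iff.mpr inferInstance)
      Subtype.val_injective
  haveI : LocCoh.IsCohenMacaulayLocalRing A := by
    refine ⟨le_antisymm ?_ Groth.Agent.Lib.Helper5.depth_le_supportDim⟩
    rw [Module.supportDim_self_eq_ringKrullDim, hdim]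
    have h2 := Groth.Agent.Lib.Helper28.two_le_depth_of_isIntegrallyClosed_of_two_le_dim
      (A := A) hdim.ge
    exact WithBot.coe_le_coe.mpr h2
  haveI hfree : Module.Free R₀ A :=
    (Groth.Agent.S5783.result R₀ A).mpr ⟨inferInstance, Subtype.val_injective⟩
  let b := Module.Free.chooseBasis R₀ A
  refine Module.Free.of_basis (b.mapCoeffs e.symm ?_)
  intro c x
  rw [Algebra.smul_def, Subring.smul_def, smul_eq_mul]
  congr 1
  have : (e (e.symm c) : A) = c := by rw [RingEquiv.apply_symm_apply]
  exact this

section Key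

variable {R : Type u} [CommRing R] [IsRegularLocalRing R]
  {A : Type v} [CommRing A] [IsDomain A] [IsIntegrallyClosed A] [IsLocalRing A]
  [Algebra R A] [Module.Finite R A]
  {H : Type w} [Group H] [Finite H] [MulSemiringAction H A] [SMulCommClass H R A]
  [FaithfulSMul H A]

omit [IsRegularLocalRing R] [IsDomain A] [IsIntegrallyClosed A] [Module.Finite R A] [Finite H]
  [FaithfulSMul H A] in
/-- Every group element acts trivially on the residue field. -/
lemma smul_sub_mem_maximalIdeal
    (hres : Function.Surjective (IsLocalRing.residue A ∘ algebraMap R A))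
    (σ : H) (a : A) : σ • a - a ∈ IsLocalRing.maximalIdeal A := by
  obtain ⟨r, hr⟩ := hres (IsLocalRing.residue A a)
  have h1 : a - algebraMap R A r ∈ IsLocalRing.maximalIdeal A := by
    rw [← IsLocalRing.residue_eq_zero_iff, map_sub, sub_eq_zero]
    exact hr.symm
  have h2 : ∀ m : A, m ∈ IsLocalRing.maximalIdeal A → σ • m ∈ IsLocalRing.maximalIdeal A := by
    intro m hm
    rw [IsLocalRing.mem_maximalIdeal, mem_nonunits_iff] at hm ⊢
    intro hu
    apply hm
    have := hu.map (MulSemiringAction.toRingHom H A σ⁻¹)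
    simpa using this
  have h3 : σ • a - a = σ • (a - algebraMap R A r) - (a - algebraMap R A r) := by
    rw [smul_sub, smul_algebraMap]
    ring
  rw [h3]
  exact Ideal.sub_mem _ (h2 _ h1) h1

/-- Galois purity in dimension two: a finite group acting on a two-dimensional normal local domain
`A`, with regular ring of invariants `R` having the same residue field, and with trivial inertia at
all non-maximal primes, is trivial. -/
theorem card_eq_one_of_inertia_trivial
    (hinj : Function.Injective (algebraMap R A))
    (hres : Function.Surjective (IsLocalRing.residue A ∘ algebraMap R A))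
    (hfix : ∀ a : A, (∀ h : H, h • a = a) → a ∈ Set.range (algebraMap R A))
    (hdim : ringKrullDim A = 2)
    (hram : ∀ P : Ideal A, P.IsPrime → P ≠ IsLocalRing.maximalIdeal A → P.inertia H = ⊥) :
    Nat.card H = 1 := by
  classical
  by_contra hne
  haveI : Fintype H := Fintype.ofFinite H
  haveI : IsNoetherianRing A := Algebra.FiniteType.isNoetherianRing R A
  haveI : Algebra.IsIntegral R A := Algebra.IsIntegral.of_finite _ _
  haveI hfree : Module.Free R A := free_of_normal_dim_two hinj hdim
  haveI : FaithfulSMul R A := (faithfulSMul_iff_algebraMap_injective R A).mpr hinj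
  haveI : IsGaloisGroup H R A := ⟨inferInstance, inferInstance, ⟨fun b hb => hfix b hb⟩⟩
  have hcard : Nat.card H = Module.finrank R A := IsGaloisGroup.card_eq_finrank' H R A
  obtain ⟨σ, hσ⟩ : ∃ σ : H, σ ≠ 1 := by
    by_contra hall
    push Not at hall
    apply hne
    haveI : Subsingleton H := ⟨fun a b => by rw [hall a, hall b]⟩
    exact Nat.card_eq_one_iff_unique.mpr ⟨inferInstance, ⟨1⟩⟩
  let e : H ≃ Fin (Module.finrank R A) := Finite.equivFinOfCardEq hcard
  let b : Module.Basis H R A := (Module.finBasis R A).reindex e.symm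
  let M : Matrix H H A := fun τ j => τ • b j
  have hM : ∀ τ j, M τ j = τ • b j := fun _ _ => rfl
  have hdetm : M.det ∈ IsLocalRing.maximalIdeal A := by
    rw [← IsLocalRing.residue_eq_zero_iff, RingHom.map_det]
    refine Matrix.det_zero_of_row_eq hσ ?_
    funext j
    change IsLocalRing.residue A (σ • b j) = IsLocalRing.residue A ((1 : H) • b j)
    rw [one_smul, ← sub_eq_zero, ← map_sub, IsLocalRing.residue_eq_zero_iff]
    exact smul_sub_mem_maximalIdeal hres σ (b j)
  have hinv : ∀ τ : H, τ • (M.det ^ 2) = M.det ^ 2 := by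
    intro τ
    have h1 : τ • M.det = (M.submatrix (Equiv.mulLeft τ) id).det := by
      change MulSemiringAction.toRingHom H A τ M.det = _
      rw [RingHom.map_det]
      congr 1
      ext ρ j
      rw [RingHom.mapMatrix_apply, Matrix.map_apply, Matrix.submatrix_apply, hM, hM]
      simp [mul_smul]
    rw [smul_pow', h1, Matrix.det_permute, mul_pow]
    have : ((↑(↑(Equiv.Perm.sign (Equiv.mulLeft τ)) : ℤ) : A)) ^ 2 = 1 := by
      rcases Int.units_eq_one_or (Equiv.Perm.sign (Equiv.mulLeft τ)) with h | h <;> rw [h] <;> simp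
    rw [this, one_mul]
  obtain ⟨r, hr⟩ := hfix _ hinv
  have hrm : r ∈ IsLocalRing.maximalIdeal R := by
    rw [IsLocalRing.mem_maximalIdeal, mem_nonunits_iff]
    intro hu
    have h1 : IsUnit (M.det ^ 2) := hr ▸ hu.map (algebraMap R A)
    have h2 : IsUnit M.det := (isUnit_pow_iff two_ne_zero).mp h1
    exact (IsLocalRing.mem_maximalIdeal _).mp hdetm h2
  have hne_top : Ideal.span {r} ≠ ⊤ := by
    intro h
    exact (IsLocalRing.maximalIdeal.isMaximal R).ne_top
      (top_le_iff.mp (h ▸ (Ideal.span_singleton_le_iff_mem _).mpr hrm))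
  obtain ⟨⟨q, hq⟩⟩ := Ideal.nonempty_minimalPrimes hne_top
  haveI hqp : q.IsPrime := hq.1.1
  have hqh : q.height ≤ 1 := Ideal.height_le_one_of_isPrincipal_of_mem_minimalPrimes _ q hq
  have hdimR : ringKrullDim R = 2 := by
    rw [← Groth.Agent.Lib.Helper5.ringKrullDim_eq_of_isIntegral_of_injective R A hinj, hdim]
  have hqm : q ≠ IsLocalRing.maximalIdeal R := by
    intro h
    have h2 := IsLocalRing.maximalIdeal_height_eq_ringKrullDim (R := R)
    rw [← h, hdimR] at h2
    have h3 : (q.height : WithBot ℕ∞) ≤ 1 := by exact_mod_cast hqh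
    rw [h2] at h3
    exact absurd h3 (by decide)
  obtain ⟨P, -, hPp, hPq⟩ := Ideal.exists_ideal_over_prime_of_isIntegral q (⊥ : Ideal A) (by
    rw [Ideal.comap_bot_of_injective _ hinj]; exact bot_le)
  haveI := hPp
  have hPm : P ≠ IsLocalRing.maximalIdeal A := by
    intro h
    have hmax : (P.comap (algebraMap R A)).IsMaximal := by
      rw [h]; exact Ideal.isMaximal_comap_of_isIntegral_of_isMaximal _
    rw [hPq] at hmax
    exact hqm (IsLocalRing.eq_maximalIdeal hmax)
  obtain ⟨s, hsm, hsq⟩ : ∃ s ∈ IsLocalRing.maximalIdeal R, s ∉ q := by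
    by_contra hcon
    push Not at hcon
    exact hqm (le_antisymm (IsLocalRing.le_maximalIdeal hqp.ne_top) hcon)
  let qB : Ideal (FixedPoints.subring A H) := P.comap (FixedPoints.subring A H).subtype
  haveI : qB.IsPrime := Ideal.comap_isPrime _ _
  let s₀ : FixedPoints.subring A H := ⟨algebraMap R A s, fun τ => smul_algebraMap τ s⟩
  have hs₀q : s₀ ∉ qB := by
    intro h
    apply hsq
    rw [← hPq]
    exact h
  haveI : IsLocalHom (algebraMap R A) :=
    RingHom.IsIntegral.isLocalHom (algebraMap_isIntegral_iff.mpr inferInstance) hinj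
  have hsA : algebraMap R A s ∈ IsLocalRing.maximalIdeal A := by
    rw [IsLocalRing.mem_maximalIdeal, mem_nonunits_iff]
    intro hu
    exact (IsLocalRing.mem_maximalIdeal _).mp hsm (isUnit_of_map_unit (algebraMap R A) s hu)
  have hrad : ∀ τ : H, τ ≠ 1 →
      (s₀ : A) ∈ (Ideal.span (Set.range fun a : A => τ • a - a)).radical := by
    intro τ hτ
    rw [Ideal.radical_eq_sInf, Ideal.mem_sInf]
    rintro P' ⟨hle, hP'⟩
    have hP'm : P' = IsLocalRing.maximalIdeal A := by
      by_contra hP'm
      have hbot := hram P' hP' hP'm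
      have hmem : τ ∈ P'.inertia H := by
        intro a
        exact hle (Ideal.subset_span ⟨a, rfl⟩)
      rw [hbot, Subgroup.mem_bot] at hmem
      exact hτ hmem
    rw [hP'm]; exact hsA
  obtain ⟨t, htq, c, hc⟩ := exists_dual_families qB s₀ hs₀q hrad
  let wv : H → A := fun j => ∑ y ∈ c.support, c y * algebraMap R A (b.repr y j)
  have hw : ∀ τ : H, ∑ j, wv j * τ • b j = if τ = 1 then (t : A) else 0 := by
    intro τ
    rw [← hc τ]
    simp only [wv, Finset.sum_mul]
    rw [Finset.sum_comm]
    refine Finset.sum_congr rfl fun y _ => ?_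
    have hy : τ • y = ∑ j, algebraMap R A (b.repr y j) * τ • b j := by
      conv_lhs => rw [← b.sum_repr y]
      rw [Finset.smul_sum]
      refine Finset.sum_congr rfl fun j _ => ?_
      rw [Algebra.smul_def, smul_mul', smul_algebraMap]
    rw [hy, Finset.mul_sum]
    refine Finset.sum_congr rfl fun j _ => by ring
  let W : Matrix H H A := fun ρ j => ρ • wv j
  have hW : ∀ τ j, W τ j = τ • wv j := fun _ _ => rfl
  have hWM : W * M.transpose = (t : A) • (1 : Matrix H H A) := by
    ext ρ τ
    rw [Matrix.mul_apply, Matrix.smul_apply, Matrix.one_apply, smul_eq_mul]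
    simp only [Matrix.transpose_apply, hM, hW]
    have h1 : ∑ j, ρ • wv j * τ • b j = ρ • ∑ j, wv j * (ρ⁻¹ * τ) • b j := by
      rw [Finset.smul_sum]
      refine Finset.sum_congr rfl fun j _ => ?_
      rw [smul_mul', ← mul_smul, mul_inv_cancel_left]
    rw [h1, hw]
    by_cases h : ρ = τ
    · subst h
      simp only [inv_mul_cancel, if_true, mul_one]
      exact t.2 ρ
    · have h' : ρ⁻¹ * τ ≠ 1 := by
        intro h'; apply h; rw [inv_mul_eq_one] at h'; exact h'
      simp [h, h']
  have hdet : W.det * M.det = (t : A) ^ Fintype.card H := by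
    have h1 := congrArg Matrix.det hWM
    rw [Matrix.det_mul, Matrix.det_transpose, Matrix.det_smul, Matrix.det_one, mul_one] at h1
    exact h1
  have hMP : M.det ∈ P := by
    have h1 : M.det ^ 2 ∈ P := by
      rw [← hr]
      have h2 : r ∈ P.comap (algebraMap R A) := by
        rw [hPq]; exact hq.1.2 (Ideal.mem_span_singleton_self r)
      exact h2
    exact hPp.mem_of_pow_mem _ h1
  have htP : (t : A) ∈ P := by
    have h1 : (t : A) ^ Fintype.card H ∈ P := by rw [← hdet]; exact P.mul_mem_left _ hMP
    exact hPp.mem_of_pow_mem _ h1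
  exact htq htP

end Key

end Groth.Agent.Lib.Helper16.PurityTwo
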