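import Mathlib
import Groth.Prelude.Def_W4c4chowquasisplitPn

set_option autoImplicit false
set_option linter.style.haveILetI false
set_option linter.unusedSectionVars false

namespace Groth.Agent.Lib.Helper16QsChow

open MvPolynomial QsChow

variable (n : ℕ)

/-- the quotient map -/
noncomputable abbrev mkP : FreeP n →+* P n := Ideal.Quotient.mk (truncIdeal n)

lemma two_eq_zero : (2 : P n) = 0 := by
  have h : (2 : ZMod 2) = 0 := by decide
  have := congrArg (algebraMap (ZMod 2) (P n)) h
  rwa [map_ofNat, map_zero] at this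

lemma add_self (z : P n) : z + z = 0 := by
  have := two_eq_zero n
  linear_combination z * this

lemma eps_succ (i : Fin (numVars n)) : eps n (i.val + 1) = mkP n (X i) := by
  unfold eps
  rw [dif_pos ⟨Nat.succ_pos _, i.isLt⟩]
  congr 2

lemma mem_truncIdeal_iff (f : FreeP n) :
    f ∈ truncIdeal n ↔ ∀ m ∈ f.support, ∃ i, bound n i ≤ m i := by
  have h1 : truncIdeal n = Ideal.span ((fun s => monomial s (1 : ZMod 2)) ''
      (Set.range fun i : Fin (numVars n) => Finsupp.single i (bound n i))) := by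
    unfold truncIdeal
    congr 1
    rw [← Set.range_comp]
    congr 1
    funext i
    simp [X_pow_eq_monomial]
  rw [h1, mem_ideal_span_monomial_image]
  constructor
  · intro h m hm
    obtain ⟨si, ⟨i, rfl⟩, hle⟩ := h m hm
    exact ⟨i, Finsupp.single_le_iff.mp hle⟩
  · intro h m hm
    obtain ⟨i, hi⟩ := h m hm
    refine ⟨_, ⟨i, rfl⟩, ?_⟩
    rw [Finsupp.single_le_iff]
    exact hi


lemma numVars_pos : 0 < numVars n := Nat.succ_pos _

lemma two_le_numVars (hn : 2 ≤ n) : 2 ≤ numVars n := by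
  unfold numVars; omega

/-- index of `ε_1` -/
def i0 : Fin (numVars n) := ⟨0, numVars_pos n⟩

/-- index of `ε_2` -/
def i1 (hn : 2 ≤ n) : Fin (numVars n) := ⟨1, two_le_numVars n hn⟩

lemma eps_one : eps n 1 = mkP n (X (i0 n)) := eps_succ n (i0 n)

lemma eps_two (hn : 2 ≤ n) : eps n 2 = mkP n (X (i1 n hn)) := eps_succ n (i1 n hn)

lemma bound_i0 : bound n (i0 n) = n := by simp [bound, i0]

lemma eps_one_pow_n : eps n 1 ^ n = 0 := by
  rw [eps_one, ← map_pow, Ideal.Quotient.eq_zero_iff_mem]
  apply Ideal.subset_span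
  exact ⟨i0 n, by show X (i0 n) ^ bound n (i0 n) = _; rw [bound_i0]⟩

lemma eps_one_pow_eq_zero {k : ℕ} (hk : n ≤ k) : eps n 1 ^ k = 0 := by
  obtain ⟨d, rfl⟩ := Nat.exists_eq_add_of_le hk
  rw [pow_add, eps_one_pow_n, zero_mul]

/-- the annihilator of `ε_1` is generated by `ε_1^(n-1)`. -/
lemma ann_eps_one (hn : 1 ≤ n) (z : P n) (h : eps n 1 * z = 0) :
    ∃ c : P n, z = eps n 1 ^ (n - 1) * c := by
  obtain ⟨f, rfl⟩ := Ideal.Quotient.mk_surjective z
  rw [eps_one, ← map_mul, Ideal.Quotient.eq_zero_iff_mem, mem_truncIdeal_iff] at h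
  set J' : Ideal (FreeP n) := Ideal.span ((fun s => monomial s (1 : ZMod 2)) ''
    (insert (Finsupp.single (i0 n) (n - 1))
      (Set.range fun i : Fin (numVars n) => Finsupp.single i (bound n i)))) with hJ'
  have hf : f ∈ J' := by
    rw [hJ', mem_ideal_span_monomial_image]
    intro m hm
    have hm' : Finsupp.single (i0 n) 1 + m ∈ (X (i0 n) * f).support := by
      rw [support_X_mul]
      exact Finset.mem_map_of_mem _ hm
    obtain ⟨i, hi⟩ := h _ hm'
    by_cases hi0 : i = i0 n
    · subst hi0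
      refine ⟨_, Set.mem_insert _ _, ?_⟩
      rw [Finsupp.single_le_iff]
      rw [bound_i0] at hi
      simp only [Finsupp.coe_add, Pi.add_apply, Finsupp.single_eq_same] at hi
      omega
    · refine ⟨_, Set.mem_insert_of_mem _ ⟨i, rfl⟩, ?_⟩
      rw [Finsupp.single_le_iff]
      simpa [Finsupp.single_eq_of_ne hi0, Finsupp.single_eq_of_ne (Ne.symm hi0)] using hi
  have hle : J' ≤ Ideal.comap (mkP n) (Ideal.span {eps n 1 ^ (n - 1)}) := by
    rw [hJ', Ideal.span_le]
    rintro _ ⟨s, hs, rfl⟩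
    rcases hs with rfl | ⟨i, rfl⟩
    · rw [SetLike.mem_coe, Ideal.mem_comap]
      show mkP n (monomial _ 1) ∈ _
      rw [← X_pow_eq_monomial, map_pow, ← eps_one]
      exact Ideal.subset_span rfl
    · rw [SetLike.mem_coe, Ideal.mem_comap]
      show mkP n (monomial _ 1) ∈ _
      rw [← X_pow_eq_monomial]
      have : mkP n (X i ^ bound n i) = 0 := by
        rw [Ideal.Quotient.eq_zero_iff_mem]
        exact Ideal.subset_span ⟨i, rfl⟩
      rw [this]
      exact Ideal.zero_mem _
  have := hle hf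
  rw [Ideal.mem_comap, Ideal.mem_span_singleton'] at this
  obtain ⟨c, hc⟩ := this
  exact ⟨c, by rw [← hc, mul_comm]⟩

lemma phi_none : phi n (X none) = eps n 1 ^ (n - 1) * eps n 2 := by
  simp [phi, genImage]

lemma phi_some (i : Fin (numVars n)) : phi n (X (some i)) =
    if i.val = 0 then eps n 1
    else if i.val = 1 then eps n 2 ^ 2 + eps n 1 * eps n 2
    else eps n (i.val + 1) + eps n 1 ^ (2 * (i.val + 1) - 4) * eps n 2 := by
  simp [phi, genImage]

lemma phi_i0 : phi n (X (some (i0 n))) = eps n 1 := by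
  rw [phi_some]; simp [i0]

lemma phi_i1 (hn : 2 ≤ n) : phi n (X (some (i1 n hn))) = eps n 2 ^ 2 + eps n 1 * eps n 2 := by
  rw [phi_some]; simp [i1]

lemma phi_ge (i : Fin (numVars n)) (hi : 2 ≤ i.val) : phi n (X (some i)) =
    eps n (i.val + 1) + eps n 1 ^ (2 * (i.val + 1) - 4) * eps n 2 := by
  rw [phi_some, if_neg (by omega), if_neg (by omega)]

/-- `ε_2^2 = ē_2 + ε_1 ε_2`. -/
lemma eps_two_sq (hn : 2 ≤ n) :
    eps n 2 ^ 2 = phi n (X (some (i1 n hn))) + phi n (X (some (i0 n))) * eps n 2 := by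
  rw [phi_i1, phi_i0]
  linear_combination (- eps n 1 * eps n 2) * two_eq_zero n

lemma eps_ge (i : Fin (numVars n)) (hi : 2 ≤ i.val) :
    eps n (i.val + 1) = phi n (X (some i)) + phi n (X (some (i0 n))) ^ (2 * (i.val + 1) - 4) * eps n 2 := by
  rw [phi_ge n i hi, phi_i0]
  linear_combination (- eps n 1 ^ (2 * (i.val + 1) - 4) * eps n 2) * two_eq_zero n

/-- every element is `α + β ε_2` with `α, β` in the range of `φ`. -/
lemma decomp (hn : 2 ≤ n) (z : P n) :
    ∃ α β : FreeE n, z = phi n α + phi n β * eps n 2 := by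
  obtain ⟨f, rfl⟩ := Ideal.Quotient.mk_surjective z
  induction f using MvPolynomial.induction_on with
  | C a =>
    refine ⟨C a, 0, ?_⟩
    rw [map_zero, zero_mul, add_zero]
    simp only [phi, aeval_C]
    rfl
  | add f g hf hg =>
    obtain ⟨α, β, h1⟩ := hf
    obtain ⟨α', β', h2⟩ := hg
    refine ⟨α + α', β + β', ?_⟩
    rw [map_add, h1, h2, map_add, map_add]; ring
  | mul_X f i hf =>
    obtain ⟨α, β, h1⟩ := hf
    rw [map_mul, h1, ← eps_succ]
    by_cases h0 : i.val = 0
    · refine ⟨α * X (some i), β * X (some i), ?_⟩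
      have : phi n (X (some i)) = eps n (i.val + 1) := by
        rw [phi_some, if_pos h0, h0]
      rw [map_mul, map_mul, this]; ring
    by_cases h1' : i.val = 1
    · refine ⟨β * X (some (i1 n hn)), α + β * X (some (i0 n)), ?_⟩
      have : eps n (i.val + 1) = eps n 2 := by rw [h1']
      rw [this, map_mul, map_add, map_mul]
      linear_combination (phi n β) * eps_two_sq n hn
    · have hi : 2 ≤ i.val := by omega
      set k := 2 * (i.val + 1) - 4 with hk
      refine ⟨α * X (some i) + β * X (some (i0 n)) ^ k * X (some (i1 n hn)),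
        α * X (some (i0 n)) ^ k + β * X (some i) + β * X (some (i0 n)) ^ (k + 1), ?_⟩
      rw [eps_ge n i hi]
      simp only [map_add, map_mul, map_pow]
      linear_combination (phi n β * phi n (X (some (i0 n))) ^ k) * eps_two_sq n hn

section tau

variable (τ : P n →ₐ[ZMod 2] P n) (hτ1 : τ (eps n 1) = eps n 1)
  (hτ : ∀ j : ℕ, 2 ≤ j → j ≤ numVars n → τ (eps n j) = eps n j + eps n 1 ^ (2 * j - 3))

include hτ1 hτ in
lemma tau_eps_two (hn : 2 ≤ n) : τ (eps n 2) = eps n 2 + eps n 1 := by
  have := hτ 2 le_rfl (two_le_numVars n hn)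
  simpa using this

include hτ1 hτ in
/-- elements of the range of `φ` are `τ`-fixed. -/
lemma tau_phi (hn : 2 ≤ n) (q : FreeE n) : τ (phi n q) = phi n q := by
  have h : τ.comp (phi n) = phi n := by
    apply MvPolynomial.algHom_ext
    intro o
    rw [AlgHom.comp_apply]
    cases o with
    | none =>
      rw [phi_none, map_mul, map_pow, hτ1, tau_eps_two n τ hτ1 hτ hn, mul_add, ← pow_succ,
        show n - 1 + 1 = n by omega, eps_one_pow_n, add_zero]
    | some i =>
      by_cases h0 : i.val = 0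
      · rw [phi_some, if_pos h0, hτ1]
      by_cases h1 : i.val = 1
      · rw [phi_some, if_neg h0, if_pos h1, map_add, map_pow, map_mul, hτ1,
          tau_eps_two n τ hτ1 hτ hn]
        linear_combination (eps n 1 * eps n 2 + eps n 1 ^ 2) * two_eq_zero n
      · have hi : 2 ≤ i.val := by omega
        rw [phi_ge n i hi, map_add, map_mul, map_pow, hτ1, tau_eps_two n τ hτ1 hτ hn,
          hτ (i.val + 1) (by omega) i.isLt]
        have e1 : 2 * (i.val + 1) - 3 = (2 * (i.val + 1) - 4) + 1 := by omega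
        rw [e1, pow_succ]
        linear_combination (eps n 1 ^ (2 * (i.val + 1) - 4) * eps n 1) * two_eq_zero n
  exact AlgHom.congr_fun h q

end tau

end Groth.Agent.Lib.Helper16QsChow
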