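import Mathlib
import Groth.Agent.Lib.Helper16QsChow

set_option autoImplicit false
set_option linter.style.haveILetI false
set_option linter.unusedSectionVars false

namespace Groth.Agent.Lib.Helper16QsChow

open MvPolynomial QsChow

/-- help instance search through the abbreviation `P n` (needed for nested quotients). -/
noncomputable instance instCommRingP (n : ℕ) : CommRing (P n) :=
  Ideal.Quotient.commRing (truncIdeal n)

/-! ### numerical facts about `klog` -/

lemma klog_spec (n j : ℕ) (hj : 2 ≤ j) : n ≤ (2 * j - 3) * 2 ^ klog n j := by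
  unfold klog
  have h1 : (2 * n - 1) / (2 * j - 3) < 2 ^ (Nat.log 2 ((2 * n - 1) / (2 * j - 3)) + 1) :=
    Nat.lt_pow_succ_log_self (by norm_num) _
  have hpos : 0 < 2 * j - 3 := by omega
  rw [Nat.div_lt_iff_lt_mul hpos] at h1
  set k := Nat.log 2 ((2 * n - 1) / (2 * j - 3)) with hk
  have h2 : 2 ^ (k + 1) * (2 * j - 3) = 2 * ((2 * j - 3) * 2 ^ k) := by
    rw [pow_succ]; ring
  rw [h2] at h1
  omega

lemma klog_two_pos (n : ℕ) (hn : 2 ≤ n) : 1 ≤ klog n 2 := by
  unfold klog
  have : (2 * n - 1) / (2 * 2 - 3) = 2 * n - 1 := by simp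
  rw [this]
  exact Nat.log_pos (by norm_num) (by omega)

lemma klog_le (n j : ℕ) (hj : 3 ≤ j) : klog n j ≤ klog n 2 - 1 := by
  unfold klog
  have h2 : (2 * n - 1) / (2 * 2 - 3) = 2 * n - 1 := by simp
  rw [h2, ← Nat.log_div_base]
  apply Nat.log_mono_right
  apply Nat.div_le_div_left (by omega) (by norm_num)

lemma klog_two_lt (n : ℕ) (hn : 2 ≤ n) : 2 ^ (klog n 2 - 1) < n := by
  -- 2^K ≤ 2n-1 so 2^(K-1) < n
  have hK := klog_two_pos n hn
  have h1 : 2 ^ klog n 2 ≤ 2 * n - 1 := by
    unfold klog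
    have : (2 * n - 1) / (2 * 2 - 3) = 2 * n - 1 := by simp
    rw [this]
    exact Nat.pow_log_le_self 2 (by omega)
  obtain ⟨K', hK'⟩ : ∃ K', klog n 2 = K' + 1 := ⟨klog n 2 - 1, by omega⟩
  rw [hK'] at h1 ⊢
  simp only [Nat.add_sub_cancel]
  rw [pow_succ] at h1
  omega


/-! ### characteristic two identities -/

section chartwo

variable {R : Type*} [CommRing R]

lemma add_pow_two_pow (h2 : (2 : R) = 0) (a b : R) (k : ℕ) :
    (a + b) ^ 2 ^ k = a ^ 2 ^ k + b ^ 2 ^ k := by
  rcases subsingleton_or_nontrivial R with h | h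
  · exact Subsingleton.elim _ _
  · haveI : CharP R 2 := CharTwo.of_one_ne_zero_of_two_eq_zero one_ne_zero h2
    exact add_pow_char_pow a b 2 k

lemma frob_id (h2 : (2 : R) = 0) (u w : R) (K : ℕ) :
    w ^ 2 ^ K = u ^ (2 ^ K - 1) * w
      + ∑ t ∈ Finset.range K, u ^ (2 ^ K - 2 ^ (t + 1)) * (w ^ 2 + u * w) ^ 2 ^ t := by
  rcases subsingleton_or_nontrivial R with h | h
  · exact Subsingleton.elim _ _
  haveI : CharP R 2 := CharTwo.of_one_ne_zero_of_two_eq_zero one_ne_zero h2
  induction K with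
  | zero => simp
  | succ K ih =>
    rw [pow_succ 2 K, pow_mul, ih, add_pow_char, sum_pow_char, Finset.sum_range_succ']
    have e1 : (u ^ (2 ^ K - 1) * w) ^ 2 = u ^ (2 ^ K * 2 - 1) * w
        + u ^ (2 ^ K * 2 - 2 ^ (0 + 1)) * (w ^ 2 + u * w) ^ 2 ^ 0 := by
      have hK : 1 ≤ 2 ^ K := Nat.one_le_two_pow
      have a1 : 2 ^ K * 2 - 1 = (2 ^ K - 1) * 2 + 1 := by omega
      have a2 : 2 ^ K * 2 - 2 ^ (0 + 1) = (2 ^ K - 1) * 2 := by simp; omega
      rw [a1, a2, pow_zero, pow_one, mul_pow, ← pow_mul, pow_succ]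
      linear_combination (- u ^ ((2 ^ K - 1) * 2) * u * w) * h2
    have e2 : ∑ t ∈ Finset.range K, (u ^ (2 ^ K - 2 ^ (t + 1)) * (w ^ 2 + u * w) ^ 2 ^ t) ^ 2
        = ∑ t ∈ Finset.range K,
          u ^ (2 ^ K * 2 - 2 ^ (t + 1 + 1)) * (w ^ 2 + u * w) ^ 2 ^ (t + 1) := by
      apply Finset.sum_congr rfl
      intro t _
      rw [mul_pow, ← pow_mul, ← pow_mul, ← pow_succ 2 t, pow_succ 2 (t + 1), Nat.sub_mul]
    rw [e1, e2]
    ring

end chartwo


/-! ### the relations hold in `P n` -/

variable (n : ℕ)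

lemma evar_succ (i : Fin (numVars n)) : evar n (i.val + 1) = X (some i) := by
  unfold evar
  rw [dif_pos ⟨Nat.succ_pos _, i.isLt⟩]
  congr 2

lemma evar_one : evar n 1 = X (some (i0 n)) := evar_succ n (i0 n)

lemma evar_two (hn : 2 ≤ n) : evar n 2 = X (some (i1 n hn)) := evar_succ n (i1 n hn)

lemma phi_evar_one : phi n (evar n 1) = eps n 1 := by rw [evar_one, phi_i0]

lemma phi_evar_two (hn : 2 ≤ n) : phi n (evar n 2) = eps n 2 ^ 2 + eps n 1 * eps n 2 := by
  rw [evar_two n hn, phi_i1]

lemma phi_xvar : phi n (xvar n) = eps n 1 ^ (n - 1) * eps n 2 := phi_none n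

lemma eps_pow_bound (i : Fin (numVars n)) : eps n (i.val + 1) ^ bound n i = 0 := by
  rw [eps_succ, ← map_pow, Ideal.Quotient.eq_zero_iff_mem]
  exact Ideal.subset_span ⟨i, rfl⟩

lemma bound_ge (i : Fin (numVars n)) (hi : 1 ≤ i.val) : bound n i = 2 ^ klog n (i.val + 1) := by
  unfold bound
  rw [if_neg (by omega)]

lemma eps_two_pow (hn : 2 ≤ n) : eps n 2 ^ 2 ^ klog n 2 = 0 := by
  have := eps_pow_bound n (i1 n hn)
  rw [bound_ge n (i1 n hn) (by simp [i1])] at this
  exact this

lemma phi_sPoly (hn : 2 ≤ n) (j : ℕ) : phi n (sPoly n j) =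
    ∑ t ∈ Finset.range (klog n j), eps n 1 ^ (2 ^ klog n j - 2 ^ (t + 1))
      * (eps n 2 ^ 2 + eps n 1 * eps n 2) ^ 2 ^ t := by
  unfold sPoly
  rw [map_sum]
  apply Finset.sum_congr rfl
  intro t _
  rw [map_mul, map_pow, map_pow, phi_evar_one, phi_evar_two n hn]

/-- `ε_2^(2^k) = ε_1^(2^k-1) ε_2 + φ(S)` in `P n`. -/
lemma eps_two_pow_eq (hn : 2 ≤ n) (k : ℕ) : eps n 2 ^ 2 ^ k = eps n 1 ^ (2 ^ k - 1) * eps n 2
    + ∑ t ∈ Finset.range k, eps n 1 ^ (2 ^ k - 2 ^ (t + 1))
      * (eps n 2 ^ 2 + eps n 1 * eps n 2) ^ 2 ^ t :=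
  frob_id (two_eq_zero n) (eps n 1) (eps n 2) k

lemma phi_hrel_two (hn : 2 ≤ n) : phi n (hrel n 2) = 0 := by
  unfold hrel
  rw [if_pos rfl, map_add, map_mul, map_pow, phi_evar_one, phi_xvar, phi_sPoly n hn]
  have h1 := eps_two_pow_eq n hn (klog n 2)
  rw [eps_two_pow n hn] at h1
  have h2 : n ≤ 2 ^ klog n 2 := by
    have := klog_spec n 2 le_rfl
    simpa using this
  have e : eps n 1 ^ (2 ^ klog n 2 - n) * (eps n 1 ^ (n - 1) * eps n 2)
      = eps n 1 ^ (2 ^ klog n 2 - 1) * eps n 2 := by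
    rw [← mul_assoc, ← pow_add]
    congr 2
    omega
  rw [e]
  exact h1.symm

lemma phi_hrel_ge (hn : 2 ≤ n) (j : ℕ) (hj : 3 ≤ j) (hjs : j ≤ numVars n) :
    phi n (hrel n j) = 0 := by
  unfold hrel
  rw [if_neg (by omega), if_pos ⟨hj, hjs⟩]
  obtain ⟨i, rfl⟩ : ∃ i : Fin (numVars n), j = i.val + 1 := ⟨⟨j - 1, by omega⟩, by simp; omega⟩
  have hi : 2 ≤ i.val := by omega
  rw [map_add, map_add, map_mul, map_mul, map_pow, map_pow, map_pow, phi_evar_one, phi_xvar,
    phi_sPoly n hn, evar_succ, phi_ge n i hi]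
  set k := klog n (i.val + 1) with hk
  have hb : eps n (i.val + 1) ^ 2 ^ k = 0 := by
    have := eps_pow_bound n i
    rwa [bound_ge n i (by omega)] at this
  rw [add_pow_two_pow (two_eq_zero n), hb, zero_add, mul_pow, ← pow_mul, eps_two_pow_eq n hn k]
  have hspec := klog_spec n (i.val + 1) (by omega)
  rw [← hk] at hspec
  have hk1 : 1 ≤ 2 ^ k := Nat.one_le_two_pow
  have e1 : eps n 1 ^ ((2 * (i.val + 1) - 3) * 2 ^ k - n) * (eps n 1 ^ (n - 1) * eps n 2)
      = eps n 1 ^ ((2 * (i.val + 1) - 4) * 2 ^ k) * (eps n 1 ^ (2 ^ k - 1) * eps n 2) := by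
    rw [← mul_assoc, ← pow_add, ← mul_assoc, ← pow_add]
    congr 2
    have : (2 * (i.val + 1) - 3) * 2 ^ k = (2 * (i.val + 1) - 4) * 2 ^ k + 2 ^ k := by
      have : 2 * (i.val + 1) - 3 = (2 * (i.val + 1) - 4) + 1 := by omega
      rw [this, add_mul, one_mul]
    omega
  rw [e1]
  linear_combination (eps n 1 ^ ((2 * (i.val + 1) - 4) * 2 ^ k) * (eps n 1 ^ (2 ^ k - 1) * eps n 2
    + ∑ t ∈ Finset.range k, eps n 1 ^ (2 ^ k - 2 ^ (t + 1))
      * (eps n 2 ^ 2 + eps n 1 * eps n 2) ^ 2 ^ t)) * two_eq_zero n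

lemma presIdeal_le_ker (hn : 2 ≤ n) : presIdeal n ≤ RingHom.ker (phi n) := by
  unfold presIdeal
  rw [Ideal.span_le]
  rintro g (hg | ⟨i, rfl⟩)
  · rcases hg with rfl | rfl | rfl
    · rw [SetLike.mem_coe, RingHom.mem_ker, map_pow, phi_evar_one, eps_one_pow_n]
    · rw [SetLike.mem_coe, RingHom.mem_ker, map_mul, phi_evar_one, phi_xvar, ← mul_assoc,
        ← pow_succ', show n - 1 + 1 = n by omega, eps_one_pow_n, zero_mul]
    · rw [SetLike.mem_coe, RingHom.mem_ker, map_pow, phi_xvar, mul_pow, ← pow_mul,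
        eps_one_pow_eq_zero n (by omega : n ≤ (n - 1) * 2), zero_mul]
  · rw [SetLike.mem_coe, RingHom.mem_ker]
    show phi n (hrel n (i.val + 1)) = 0
    by_cases h0 : i.val = 0
    · unfold hrel
      rw [if_neg (by omega), if_neg (by omega)]
      exact map_zero _
    by_cases h1 : i.val = 1
    · rw [h1]
      exact phi_hrel_two n hn
    · exact phi_hrel_ge n hn _ (by omega) i.isLt


/-! ### the monomial basis of `P n` -/

/-- exponent vector attached to a bounded exponent function -/
noncomputable def expo (c : (i : Fin (numVars n)) → Fin (bound n i)) : Fin (numVars n) →₀ ℕ :=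
  Finsupp.equivFunOnFinite.symm fun i => (c i : ℕ)

lemma expo_apply (c : (i : Fin (numVars n)) → Fin (bound n i)) (i : Fin (numVars n)) :
    expo n c i = (c i : ℕ) := rfl

lemma expo_injective : Function.Injective (expo n) := by
  intro c c' h
  funext i
  apply Fin.ext
  have := DFunLike.congr_fun h i
  simpa [expo_apply] using this

/-- the monomial family -/
noncomputable def monoFam (c : (i : Fin (numVars n)) → Fin (bound n i)) : P n :=
  mkP n (monomial (expo n c) 1)

lemma monoFam_li : LinearIndependent (ZMod 2) (monoFam n) := by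
  classical
  rw [Fintype.linearIndependent_iff]
  intro g hg c0
  have h1 : ∑ c, g c • monoFam n c = mkP n (∑ c, monomial (expo n c) (g c)) := by
    rw [map_sum]
    apply Finset.sum_congr rfl
    intro c _
    unfold monoFam
    rw [← Ideal.Quotient.mkₐ_eq_mk (ZMod 2), ← map_smul, smul_monomial, smul_eq_mul, mul_one]
  rw [h1, Ideal.Quotient.eq_zero_iff_mem, mem_truncIdeal_iff] at hg
  by_contra hne
  have hcoeff : coeff (expo n c0) (∑ c, monomial (expo n c) (g c)) = g c0 := by
    rw [coeff_sum, Finset.sum_eq_single c0]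
    · simp
    · intro c _ hc
      rw [coeff_monomial, if_neg]
      intro h
      exact hc (expo_injective n h)
    · intro h; exact absurd (Finset.mem_univ _) h
  have hsupp : expo n c0 ∈ (∑ c, monomial (expo n c) (g c)).support := by
    rw [mem_support_iff, hcoeff]; exact hne
  obtain ⟨i, hi⟩ := hg _ hsupp
  rw [expo_apply] at hi
  exact absurd (c0 i).isLt (by omega)

lemma monoFam_span : ⊤ ≤ Submodule.span (ZMod 2) (Set.range (monoFam n)) := by
  classical
  intro z _
  obtain ⟨f, rfl⟩ := Ideal.Quotient.mk_surjective z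
  rw [f.as_sum, map_sum]
  apply Submodule.sum_mem
  intro m _
  have h1 : mkP n (monomial m (coeff m f)) = coeff m f • mkP n (monomial m 1) := by
    rw [← Ideal.Quotient.mkₐ_eq_mk (ZMod 2), ← map_smul, smul_monomial, smul_eq_mul, mul_one]
  show mkP n (monomial m (coeff m f)) ∈ _
  rw [h1]
  apply Submodule.smul_mem
  by_cases hm : ∀ i, m i < bound n i
  · apply Submodule.subset_span
    refine ⟨fun i => ⟨m i, hm i⟩, ?_⟩
    unfold monoFam
    have : expo n (fun i => ⟨m i, hm i⟩) = m := by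
      ext i
      simp [expo_apply]
    rw [this]
  · push Not at hm
    obtain ⟨i, hi⟩ := hm
    have : mkP n (monomial m 1) = 0 := by
      rw [Ideal.Quotient.eq_zero_iff_mem, mem_truncIdeal_iff]
      intro m' hm'
      rw [support_monomial, if_neg one_ne_zero, Finset.mem_singleton] at hm'
      subst hm'
      exact ⟨i, hi⟩
    rw [this]
    exact Submodule.zero_mem _

lemma finrank_P : Module.finrank (ZMod 2) (P n) = ∏ i, bound n i := by
  have b := Module.Basis.mk (monoFam_li n) (monoFam_span n)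
  rw [Module.finrank_eq_card_basis b, Fintype.card_pi]
  simp

instance : Module.Finite (ZMod 2) (P n) :=
  Module.Finite.of_basis (Module.Basis.mk (monoFam_li n) (monoFam_span n))


/-! ### the adapted basis of `P n` -/

/-- indices `≥ 2` (the variables `ε_3, …, ε_s`). -/
abbrev I2 := {i : Fin (numVars n) // 2 ≤ i.val}

/-- index type of the adapted basis -/
abbrev Idx := Fin n × Fin 2 × Fin (2 ^ (klog n 2 - 1)) × ((i : I2 n) → Fin (bound n i.1))

/-- `ē_2` -/
noncomputable def vv (hn : 2 ≤ n) : P n := phi n (X (some (i1 n hn)))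

/-- `ē_j` -/
noncomputable def ee (i : Fin (numVars n)) : P n := phi n (X (some i))

/-- the adapted family `ε_1^a ε_2^b0 ē_2^b1 ∏ ē_j^c_j`. -/
noncomputable def bfam (hn : 2 ≤ n) (k : Idx n) : P n :=
  eps n 1 ^ (k.1 : ℕ) * eps n 2 ^ (k.2.1 : ℕ) * vv n hn ^ (k.2.2.1 : ℕ)
    * ∏ i : I2 n, ee n i.1 ^ (k.2.2.2 i : ℕ)

lemma prod_split (hn : 2 ≤ n) (f : Fin (numVars n) → ℕ) :
    ∏ i, f i = f (i0 n) * f (i1 n hn) * ∏ i : I2 n, f i.1 := by
  classical
  rw [← Finset.mul_prod_erase Finset.univ f (Finset.mem_univ (i0 n)),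
    ← Finset.mul_prod_erase (Finset.univ.erase (i0 n)) f
      (Finset.mem_erase.mpr ⟨(show i1 n hn ≠ i0 n by simp [i0, i1, Fin.ext_iff]),
        Finset.mem_univ _⟩), mul_assoc]
  congr 2
  apply Finset.prod_subtype
  intro x
  simp only [Finset.mem_erase, Finset.mem_univ, and_true, i0, i1, Fin.ext_iff, ne_eq]
  omega

lemma card_Idx (hn : 2 ≤ n) : Fintype.card (Idx n) = ∏ i, bound n i := by
  rw [prod_split n hn, bound_i0, bound_ge n (i1 n hn) (by simp [i1])]
  simp only [Idx, Fintype.card_prod, Fintype.card_fin, Fintype.card_pi]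
  have hK := klog_two_pos n hn
  have : (2 : ℕ) ^ klog n (↑(i1 n hn) + 1) = 2 * 2 ^ (klog n 2 - 1) := by
    have : (i1 n hn).val + 1 = 2 := by simp [i1]
    rw [this, ← pow_succ']
    congr 1
    omega
  rw [this]
  ring

/-- the ideal generated by `ε_1` -/
noncomputable def UU : Ideal (P n) := Ideal.span {eps n 1}

/-- reduction modulo `ε_1` -/
noncomputable abbrev piU : P n →+* P n ⧸ UU n := Ideal.Quotient.mk (UU n)

lemma piU_eps_one : piU n (eps n 1) = 0 := by
  rw [Ideal.Quotient.eq_zero_iff_mem]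
  exact Ideal.subset_span rfl

lemma piU_vv (hn : 2 ≤ n) : piU n (vv n hn) = piU n (eps n 2) ^ 2 := by
  unfold vv
  rw [phi_i1, map_add, map_mul, piU_eps_one, map_pow]
  simp

lemma piU_ee (i : Fin (numVars n)) (hi : 2 ≤ i.val) : piU n (ee n i) = piU n (eps n (i.val + 1)) := by
  unfold ee
  rw [phi_ge n i hi, map_add, map_mul, map_pow, piU_eps_one]
  have : 2 * (i.val + 1) - 4 ≠ 0 := by omega
  simp [this]

/-- the span of the adapted family -/
noncomputable def NN (hn : 2 ≤ n) : Submodule (ZMod 2) (P n) :=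
  Submodule.span (ZMod 2) (Set.range (bfam n hn))

lemma eps_one_mul_bfam (hn : 2 ≤ n) (k : Idx n) : eps n 1 * bfam n hn k ∈ NN n hn := by
  obtain ⟨a, r⟩ := k
  by_cases ha : a.val + 1 < n
  · have : eps n 1 * bfam n hn (a, r) = bfam n hn (⟨a.val + 1, ha⟩, r) := by
      unfold bfam
      simp only [pow_succ]
      ring
    rw [this]
    exact Submodule.subset_span ⟨_, rfl⟩
  · have han : a.val + 1 = n := by omega
    have : eps n 1 * bfam n hn (a, r) = 0 := by
      unfold bfam
      simp only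
      rw [← mul_assoc, ← mul_assoc, ← mul_assoc, ← pow_succ', han, eps_one_pow_n]
      simp
    rw [this]
    exact Submodule.zero_mem _

lemma eps_one_mul_mem (hn : 2 ≤ n) (x : P n) (hx : x ∈ NN n hn) : eps n 1 * x ∈ NN n hn := by
  unfold NN at hx
  induction hx using Submodule.span_induction with
  | mem y hy =>
    obtain ⟨k, rfl⟩ := hy
    exact eps_one_mul_bfam n hn k
  | zero => rw [mul_zero]; exact Submodule.zero_mem _
  | add y z _ _ hy hz => rw [mul_add]; exact Submodule.add_mem _ hy hz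
  | smul c y _ hy => rw [mul_smul_comm]; exact Submodule.smul_mem _ _ hy


lemma piU_bfam (hn : 2 ≤ n) (k : Idx n) : piU n (bfam n hn k) =
    piU n (eps n 1) ^ (k.1 : ℕ) * piU n (eps n 2) ^ ((k.2.1 : ℕ) + 2 * (k.2.2.1 : ℕ))
      * ∏ j : I2 n, piU n (eps n (j.1.val + 1)) ^ (k.2.2.2 j : ℕ) := by
  unfold bfam
  simp only [map_mul, map_pow, map_prod, piU_vv]
  have : ∀ j : I2 n, piU n (ee n j.1) = piU n (eps n (j.1.val + 1)) := fun j => piU_ee n j.1 j.2
  simp only [this]
  rw [pow_add, pow_mul]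
  ring

lemma prod_pow_update {R : Type*} [CommRing R] {ι : Type*} [Fintype ι] [DecidableEq ι]
    (x : ι → R) (e : ι → ℕ) (i' : ι) :
    (∏ j, x j ^ e j) * x i' = ∏ j, x j ^ (Function.update e i' (e i' + 1) j) := by
  rw [← Finset.mul_prod_erase Finset.univ _ (Finset.mem_univ i'),
    ← Finset.mul_prod_erase Finset.univ (fun j => x j ^ (Function.update e i' (e i' + 1) j))
      (Finset.mem_univ i')]
  have : ∏ j ∈ Finset.univ.erase i', x j ^ (Function.update e i' (e i' + 1) j)
      = ∏ j ∈ Finset.univ.erase i', x j ^ e j := by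
    apply Finset.prod_congr rfl
    intro j hj
    rw [Function.update_of_ne (Finset.ne_of_mem_erase hj)]
  rw [this, Function.update_self, pow_succ]
  ring

lemma piU_smul (c : ZMod 2) (x : P n) : piU n (c • x) = piU n (algebraMap (ZMod 2) (P n) c) * piU n x := by
  rw [Algebra.smul_def, map_mul]

/-- multiplication by a variable preserves the image of `NN` modulo `ε_1`. -/
lemma step_mul (hn : 2 ≤ n) (i : Fin (numVars n)) (ν : P n) (hν : ν ∈ NN n hn) :
    ∃ ν' ∈ NN n hn, piU n ν * piU n (eps n (i.val + 1)) = piU n ν' := by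
  classical
  unfold NN at hν
  induction hν using Submodule.span_induction with
  | zero => exact ⟨0, Submodule.zero_mem _, by simp⟩
  | add y z _ _ hy hz =>
    obtain ⟨y', hy', e1⟩ := hy
    obtain ⟨z', hz', e2⟩ := hz
    exact ⟨y' + z', Submodule.add_mem _ hy' hz', by rw [map_add, add_mul, e1, e2, map_add]⟩
  | smul c y _ hy =>
    obtain ⟨y', hy', e1⟩ := hy
    refine ⟨c • y', Submodule.smul_mem _ _ hy', ?_⟩
    rw [piU_smul, piU_smul, mul_assoc, e1]
  | mem y hy =>
    obtain ⟨k, rfl⟩ := hy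
    obtain ⟨a, b0, b1, c⟩ := k
    by_cases ha : a.val = 0
    swap
    · refine ⟨0, Submodule.zero_mem _, ?_⟩
      rw [piU_bfam, piU_eps_one, zero_pow ha]
      simp
    by_cases h0 : i.val = 0
    · refine ⟨0, Submodule.zero_mem _, ?_⟩
      have : eps n (i.val + 1) = eps n 1 := by rw [h0]
      rw [this, piU_eps_one]; simp
    by_cases h1 : i.val = 1
    · have hi2 : eps n (i.val + 1) = eps n 2 := by rw [h1]
      rw [hi2]
      by_cases hb0 : b0.val = 0
      · refine ⟨bfam n hn (a, 1, b1, c), Submodule.subset_span ⟨_, rfl⟩, ?_⟩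
        rw [piU_bfam, piU_bfam]
        simp only [hb0, Fin.val_one, zero_add]
        rw [pow_add, pow_one]
        ring
      · have hb0' : b0.val = 1 := by omega
        by_cases hb1 : b1.val + 1 < 2 ^ (klog n 2 - 1)
        · refine ⟨bfam n hn (a, 0, ⟨b1.val + 1, hb1⟩, c), Submodule.subset_span ⟨_, rfl⟩, ?_⟩
          rw [piU_bfam, piU_bfam]
          simp only [hb0', Fin.val_zero, zero_add]
          have : 2 * (b1.val + 1) = 1 + 2 * b1.val + 1 := by ring
          rw [this, pow_succ]
          ring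
        · refine ⟨0, Submodule.zero_mem _, ?_⟩
          rw [piU_bfam]
          simp only [hb0']
          have hK := klog_two_pos n hn
          have hexp : 1 + 2 * b1.val + 1 = 2 ^ klog n 2 := by
            have hb1' : b1.val + 1 = 2 ^ (klog n 2 - 1) := by
              have := b1.isLt; omega
            have : 2 ^ klog n 2 = 2 * 2 ^ (klog n 2 - 1) := by
              rw [← pow_succ']; congr 1; omega
            omega
          have hz : piU n (eps n 2) ^ (1 + 2 * b1.val) * piU n (eps n 2) = 0 := by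
            rw [← pow_succ, hexp, ← map_pow, eps_two_pow n hn, map_zero]
          rw [map_zero]
          calc _ = piU n (eps n 1) ^ (a : ℕ) * (piU n (eps n 2) ^ (1 + 2 * b1.val) * piU n (eps n 2))
                * ∏ j : I2 n, piU n (eps n (j.1.val + 1)) ^ (c j : ℕ) := by ring
            _ = 0 := by rw [hz]; simp
    · have hi : 2 ≤ i.val := by omega
      set i' : I2 n := ⟨i, hi⟩ with hi'
      rw [piU_bfam]
      try dsimp only
      have hprod := prod_pow_update (fun j : I2 n => piU n (eps n (j.1.val + 1)))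
        (fun j => (c j : ℕ)) i'
      try dsimp only at hprod
      by_cases hc : (c i').val + 1 < bound n i
      · refine ⟨bfam n hn (a, b0, b1, Function.update c i' ⟨(c i').val + 1, hc⟩),
          Submodule.subset_span ⟨_, rfl⟩, ?_⟩
        rw [piU_bfam]
        try dsimp only
        have : ∀ j, ((Function.update c i' ⟨(c i').val + 1, hc⟩ j : Fin (bound n j.1)) : ℕ)
            = Function.update (fun j => (c j : ℕ)) i' ((c i').val + 1) j := by
          intro j
          by_cases hj : j = i'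
          · subst hj; simp
          · simp [Function.update_of_ne hj]
        simp only [this]
        rw [← hprod]
        ring
      · refine ⟨0, Submodule.zero_mem _, ?_⟩
        have hcb : (c i').val + 1 = bound n i := by
          have h3 : (c i').val < bound n i := (c i').isLt
          omega
        have hz : (∏ j : I2 n, piU n (eps n (j.1.val + 1)) ^ (c j : ℕ)) * piU n (eps n (i.val + 1))
            = 0 := by
          rw [hprod]
          apply Finset.prod_eq_zero (Finset.mem_univ i')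
          rw [Function.update_self, hcb, ← map_pow, eps_pow_bound, map_zero]
        rw [map_zero, mul_assoc, hz, mul_zero]

lemma exists_mod (hn : 2 ≤ n) (f : FreeP n) : ∃ ν ∈ NN n hn, piU n (mkP n f) = piU n ν := by
  induction f using MvPolynomial.induction_on with
  | C a =>
    refine ⟨a • bfam n hn (⟨0, by omega⟩, 0, ⟨0, Nat.pos_of_ne_zero (by positivity)⟩,
      fun j => ⟨0, by
        rw [bound_ge n j.1 (by have := j.2; omega)]; positivity⟩),
      Submodule.smul_mem _ _ (Submodule.subset_span ⟨_, rfl⟩), ?_⟩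
    have : bfam n hn (⟨0, by omega⟩, 0, ⟨0, Nat.pos_of_ne_zero (by positivity)⟩,
      fun j => ⟨0, by
        rw [bound_ge n j.1 (by have := j.2; omega)]; positivity⟩) = 1 := by
      unfold bfam; simp
    rw [this, Algebra.smul_def, mul_one]
    rfl
  | add f g hf hg =>
    obtain ⟨y', hy', e1⟩ := hf
    obtain ⟨z', hz', e2⟩ := hg
    exact ⟨y' + z', Submodule.add_mem _ hy' hz', by rw [map_add, map_add, e1, e2, map_add]⟩
  | mul_X f i hf =>
    obtain ⟨ν, hν, e1⟩ := hf
    obtain ⟨ν', hν', e2⟩ := step_mul n hn i ν hν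
    refine ⟨ν', hν', ?_⟩
    rw [map_mul, map_mul, e1, ← eps_succ, e2]

lemma NN_eq_top (hn : 2 ≤ n) : NN n hn = ⊤ := by
  have key : ∀ k : ℕ, ∀ g : P n, ∃ ν ∈ NN n hn, ∃ g' : P n, g = ν + eps n 1 ^ k * g' := by
    intro k
    induction k with
    | zero => intro g; exact ⟨0, Submodule.zero_mem _, g, by simp⟩
    | succ k ih =>
      intro g
      obtain ⟨ν, hν, g', rfl⟩ := ih g
      obtain ⟨f, rfl⟩ := Ideal.Quotient.mk_surjective g'
      obtain ⟨ν2, hν2, e⟩ := exists_mod n hn f
      rw [Ideal.Quotient.eq, UU, Ideal.mem_span_singleton'] at e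
      obtain ⟨g'', hg''⟩ := e
      have hpow : ∀ k : ℕ, ∀ x ∈ NN n hn, eps n 1 ^ k * x ∈ NN n hn := by
        intro k
        induction k with
        | zero => intro x hx; simpa using hx
        | succ k ih2 =>
          intro x hx
          rw [pow_succ', mul_assoc]
          exact eps_one_mul_mem n hn _ (ih2 x hx)
      refine ⟨ν + eps n 1 ^ k * ν2, Submodule.add_mem _ hν (hpow k _ hν2), g'', ?_⟩
      have : mkP n f = ν2 + g'' * eps n 1 := by rw [hg'']; ring
      show ν + eps n 1 ^ k * (mkP n f) = _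
      rw [this, pow_succ]
      ring
  rw [eq_top_iff]
  intro g _
  obtain ⟨ν, hν, g', rfl⟩ := key n g
  rw [eps_one_pow_n, zero_mul, add_zero]
  exact hν

lemma bfam_li (hn : 2 ≤ n) : LinearIndependent (ZMod 2) (bfam n hn) := by
  apply linearIndependent_of_top_le_span_of_card_eq_finrank
  · rw [← NN_eq_top n hn]
    exact le_rfl
  · rw [card_Idx n hn, finrank_P]


/-! ### standard monomials in `FreeE n` modulo `presIdeal n` -/

/-- index type of the standard monomials: `inl a` is `e_1^a` (no `x`), `inr ()` is `x`. -/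
abbrev SIdx := (Fin n ⊕ Unit) × Fin (2 ^ (klog n 2 - 1)) × ((i : I2 n) → Fin (bound n i.1))

/-- exponent of `e_1` -/
def sa : Fin n ⊕ Unit → ℕ
  | Sum.inl a => a.val
  | Sum.inr _ => 0

/-- exponent of `x` -/
def sx : Fin n ⊕ Unit → ℕ
  | Sum.inl _ => 0
  | Sum.inr _ => 1

/-- the standard monomials -/
noncomputable def std (hn : 2 ≤ n) (k : SIdx n) : FreeE n :=
  X (some (i0 n)) ^ sa n k.1 * X none ^ sx n k.1 * X (some (i1 n hn)) ^ (k.2.1 : ℕ)
    * ∏ i : I2 n, X (some i.1) ^ (k.2.2 i : ℕ)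

/-- the corresponding index of the adapted basis -/
def toIdx (hn : 2 ≤ n) (k : SIdx n) : Idx n :=
  match k.1 with
  | Sum.inl a => (a, 0, k.2.1, k.2.2)
  | Sum.inr _ => (⟨n - 1, by omega⟩, 1, k.2.1, k.2.2)

lemma toIdx_injective (hn : 2 ≤ n) : Function.Injective (toIdx n hn) := by
  rintro ⟨s, b, c⟩ ⟨s', b', c'⟩ h
  rcases s with a | u <;> rcases s' with a' | u'
  · simp only [toIdx, Prod.mk.injEq] at h
    obtain ⟨h1, -, h2, h3⟩ := h
    subst h1 h2 h3; rfl
  · simp only [toIdx, Prod.mk.injEq] at h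
    exact absurd h.2.1 (by decide)
  · simp only [toIdx, Prod.mk.injEq] at h
    exact absurd h.2.1 (by decide)
  · simp only [toIdx, Prod.mk.injEq] at h
    obtain ⟨-, -, h2, h3⟩ := h
    subst h2 h3; rfl

lemma phi_std (hn : 2 ≤ n) (k : SIdx n) : phi n (std n hn k) = bfam n hn (toIdx n hn k) := by
  obtain ⟨s, b, c⟩ := k
  rcases s with a | u
  · simp only [std, toIdx, bfam, sa, sx, map_mul, map_pow, map_prod, phi_i0, vv, ee]
    simp
  · simp only [std, toIdx, bfam, sa, sx, map_mul, map_pow, map_prod, phi_i0, vv, ee, phi_none]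
    simp

/-- `presIdeal + span(std)` -/
noncomputable def VV (hn : 2 ≤ n) : Submodule (ZMod 2) (FreeE n) :=
  (presIdeal n).restrictScalars (ZMod 2) ⊔ Submodule.span (ZMod 2) (Set.range (std n hn))

lemma mem_VV_of_mem_presIdeal (hn : 2 ≤ n) {g : FreeE n} (hg : g ∈ presIdeal n) : g ∈ VV n hn :=
  Submodule.mem_sup_left hg

lemma std_mem_VV (hn : 2 ≤ n) (k : SIdx n) : std n hn k ∈ VV n hn :=
  Submodule.mem_sup_right (Submodule.subset_span ⟨k, rfl⟩)

lemma mul_closure (hn : 2 ≤ n) (g : FreeE n) (h : ∀ k, g * std n hn k ∈ VV n hn) :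
    ∀ v ∈ VV n hn, g * v ∈ VV n hn := by
  have h2 : ∀ z ∈ Submodule.span (ZMod 2) (Set.range (std n hn)), g * z ∈ VV n hn := by
    intro z hz
    induction hz using Submodule.span_induction with
    | mem w hw => obtain ⟨k, rfl⟩ := hw; exact h k
    | zero => rw [mul_zero]; exact Submodule.zero_mem _
    | add a b _ _ ha hb =>
      rw [mul_add]
      exact Submodule.add_mem _ ha hb
    | smul c a _ ha =>
      rw [mul_smul_comm]
      exact Submodule.smul_mem _ _ ha
  intro v hv
  obtain ⟨y, hy, z, hz, rfl⟩ := Submodule.mem_sup.mp hv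
  rw [mul_add]
  apply Submodule.add_mem
  · exact mem_VV_of_mem_presIdeal n hn (Ideal.mul_mem_left _ _ hy)
  · exact h2 z hz

lemma pow_closure (hn : 2 ≤ n) (g : FreeE n) (h : ∀ v ∈ VV n hn, g * v ∈ VV n hn) (m : ℕ) :
    ∀ v ∈ VV n hn, g ^ m * v ∈ VV n hn := by
  induction m with
  | zero => intro v hv; simpa using hv
  | succ m ih =>
    intro v hv
    rw [pow_succ', mul_assoc]
    exact h _ (ih v hv)

lemma gen1_mem : (X (some (i0 n)) : FreeE n) ^ n ∈ presIdeal n := by
  apply Ideal.subset_span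
  left
  rw [← evar_one]; simp

lemma gen2_mem : (X (some (i0 n)) : FreeE n) * X none ∈ presIdeal n := by
  apply Ideal.subset_span
  left
  rw [← evar_one]; simp [xvar]

lemma gen3_mem : (X none : FreeE n) ^ 2 ∈ presIdeal n := by
  apply Ideal.subset_span
  left
  simp [xvar]

lemma hrel_mem (i : Fin (numVars n)) : hrel n (i.val + 1) ∈ presIdeal n := by
  apply Ideal.subset_span
  right
  exact ⟨i, rfl⟩

/-- closure under `e_1` -/
lemma closure_e1 (hn : 2 ≤ n) : ∀ v ∈ VV n hn, X (some (i0 n)) * v ∈ VV n hn := by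
  apply mul_closure
  rintro ⟨s, b, c⟩
  rcases s with a | u
  · by_cases ha : a.val + 1 < n
    · have : X (some (i0 n)) * std n hn (Sum.inl a, b, c)
          = std n hn (Sum.inl ⟨a.val + 1, ha⟩, b, c) := by
        simp only [std, sa, sx, pow_succ]; ring
      rw [this]; exact std_mem_VV n hn _
    · apply mem_VV_of_mem_presIdeal
      have han : a.val + 1 = n := by have := a.isLt; omega
      have : X (some (i0 n)) * std n hn (Sum.inl a, b, c)
          = X (some (i0 n)) ^ n * (X none ^ sx n (Sum.inl a) * X (some (i1 n hn)) ^ (b : ℕ)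
            * ∏ i : I2 n, X (some i.1) ^ (c i : ℕ)) := by
        simp only [std, sa]
        have e : (X (some (i0 n)) : FreeE n) ^ n = X (some (i0 n)) ^ (a.val + 1) := by rw [han]
        rw [e, pow_succ]; ring
      rw [this]
      exact Ideal.mul_mem_right _ _ (gen1_mem n)
  · apply mem_VV_of_mem_presIdeal
    have : X (some (i0 n)) * std n hn (Sum.inr u, b, c)
        = (X (some (i0 n)) * X none) * (X (some (i1 n hn)) ^ (b : ℕ)
          * ∏ i : I2 n, X (some i.1) ^ (c i : ℕ)) := by
      simp only [std, sa, sx]; ring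
    rw [this]
    exact Ideal.mul_mem_right _ _ (gen2_mem n)

/-- closure under `x` -/
lemma closure_x (hn : 2 ≤ n) : ∀ v ∈ VV n hn, (X none : FreeE n) * v ∈ VV n hn := by
  apply mul_closure
  rintro ⟨s, b, c⟩
  rcases s with a | u
  · by_cases ha : a.val = 0
    · have : X none * std n hn (Sum.inl a, b, c) = std n hn (Sum.inr (), b, c) := by
        simp only [std, sa, sx, ha]; ring
      rw [this]; exact std_mem_VV n hn _
    · apply mem_VV_of_mem_presIdeal
      obtain ⟨a', ha'⟩ : ∃ a', a.val = a' + 1 := ⟨a.val - 1, by omega⟩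
      have : X none * std n hn (Sum.inl a, b, c)
          = (X (some (i0 n)) * X none) * (X (some (i0 n)) ^ a' * X (some (i1 n hn)) ^ (b : ℕ)
            * ∏ i : I2 n, X (some i.1) ^ (c i : ℕ)) := by
        simp only [std, sa, sx, ha', pow_succ]; ring
      rw [this]
      exact Ideal.mul_mem_right _ _ (gen2_mem n)
  · apply mem_VV_of_mem_presIdeal
    have : X none * std n hn (Sum.inr u, b, c)
        = X none ^ 2 * (X (some (i1 n hn)) ^ (b : ℕ)
          * ∏ i : I2 n, X (some i.1) ^ (c i : ℕ)) := by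
      simp only [std, sa, sx]; ring
    rw [this]
    exact Ideal.mul_mem_right _ _ (gen3_mem n)


lemma two_pow_pred_pos : 0 < 2 ^ (klog n 2 - 1) := by positivity

lemma sPoly_eq (hn : 2 ≤ n) (j : ℕ) : sPoly n j =
    ∑ t ∈ Finset.range (klog n j), (X (some (i0 n)) : FreeE n) ^ (2 ^ klog n j - 2 ^ (t + 1))
      * X (some (i1 n hn)) ^ 2 ^ t := by
  unfold sPoly
  rw [evar_one, evar_two n hn]

/-- `e_2^(2^(K-1))` modulo the relation `h_2`. -/
lemma e2_pow_eq (hn : 2 ≤ n) : (X (some (i1 n hn)) : FreeE n) ^ 2 ^ (klog n 2 - 1) =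
    hrel n 2 - X (some (i0 n)) ^ (2 ^ klog n 2 - n) * X none
      - ∑ t ∈ Finset.range (klog n 2 - 1), (X (some (i0 n)) : FreeE n) ^ (2 ^ klog n 2 - 2 ^ (t + 1))
        * X (some (i1 n hn)) ^ 2 ^ t := by
  have hK := klog_two_pos n hn
  obtain ⟨K', hK'⟩ : ∃ K', klog n 2 = K' + 1 := ⟨klog n 2 - 1, by omega⟩
  have h1 : hrel n 2 = X (some (i0 n)) ^ (2 ^ klog n 2 - n) * X none + sPoly n 2 := by
    unfold hrel
    rw [if_pos rfl, evar_one]
    rfl
  rw [h1, sPoly_eq n hn, hK']
  simp only [Nat.add_sub_cancel]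
  rw [Finset.sum_range_succ]
  simp
  
/-- closure under `e_2` -/
lemma closure_e2 (hn : 2 ≤ n) : ∀ v ∈ VV n hn, X (some (i1 n hn)) * v ∈ VV n hn := by
  apply mul_closure
  rintro ⟨s, b, c⟩
  by_cases hb : b.val + 1 < 2 ^ (klog n 2 - 1)
  · have : X (some (i1 n hn)) * std n hn (s, b, c) = std n hn (s, ⟨b.val + 1, hb⟩, c) := by
      simp only [std, pow_succ]; ring
    rw [this]; exact std_mem_VV n hn _
  · have hb' : b.val + 1 = 2 ^ (klog n 2 - 1) := by have := b.isLt; omega
    set std0 := std n hn (s, ⟨0, two_pow_pred_pos n⟩, c) with hstd0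
    have e1 : X (some (i1 n hn)) * std n hn (s, b, c)
        = X (some (i1 n hn)) ^ 2 ^ (klog n 2 - 1) * std0 := by
      have e : (X (some (i1 n hn)) : FreeE n) ^ 2 ^ (klog n 2 - 1)
          = X (some (i1 n hn)) ^ (b.val + 1) := by rw [hb']
      rw [e, hstd0]
      simp only [std, pow_succ]; ring
    rw [e1, e2_pow_eq n hn, sub_mul, sub_mul, Finset.sum_mul]
    apply Submodule.sub_mem
    apply Submodule.sub_mem
    · apply mem_VV_of_mem_presIdeal
      exact Ideal.mul_mem_right _ _ (hrel_mem n (i1 n hn))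
    · rw [mul_assoc]
      exact pow_closure n hn _ (closure_e1 n hn) _ _ (closure_x n hn _ (std_mem_VV n hn _))
    · apply Submodule.sum_mem
      intro t ht
      rw [mul_assoc]
      apply pow_closure n hn _ (closure_e1 n hn)
      have ht' : 2 ^ t < 2 ^ (klog n 2 - 1) :=
        Nat.pow_lt_pow_right (by norm_num) (Finset.mem_range.mp ht)
      have : X (some (i1 n hn)) ^ 2 ^ t * std0 = std n hn (s, ⟨2 ^ t, ht'⟩, c) := by
        rw [hstd0]; simp only [std]; ring
      rw [this]; exact std_mem_VV n hn _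

lemma prod_pow_update_zero {R : Type*} [CommRing R] {ι : Type*} [Fintype ι] [DecidableEq ι]
    (x : ι → R) (e : ι → ℕ) (i' : ι) :
    ∏ j, x j ^ e j = x i' ^ e i' * ∏ j, x j ^ (Function.update e i' 0 j) := by
  rw [← Finset.mul_prod_erase Finset.univ _ (Finset.mem_univ i'),
    ← Finset.mul_prod_erase Finset.univ (fun j => x j ^ (Function.update e i' 0 j))
      (Finset.mem_univ i')]
  have : ∏ j ∈ Finset.univ.erase i', x j ^ (Function.update e i' 0 j)
      = ∏ j ∈ Finset.univ.erase i', x j ^ e j := by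
    apply Finset.prod_congr rfl
    intro j hj
    rw [Function.update_of_ne (Finset.ne_of_mem_erase hj)]
  rw [this, Function.update_self, pow_zero, one_mul]

lemma bound_pos (i : Fin (numVars n)) (hi : 1 ≤ i.val) : 0 < bound n i := by
  rw [bound_ge n i hi]; positivity

/-- `e_j^(2^k_j)` modulo the relation `h_j`. -/
lemma ei_pow_eq (hn : 2 ≤ n) (i : Fin (numVars n)) (hi : 2 ≤ i.val) :
    (X (some i) : FreeE n) ^ bound n i = hrel n (i.val + 1)
      - X (some (i0 n)) ^ ((2 * (i.val + 1) - 3) * 2 ^ klog n (i.val + 1) - n) * X none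
      - X (some (i0 n)) ^ ((2 * (i.val + 1) - 4) * 2 ^ klog n (i.val + 1)) * sPoly n (i.val + 1) := by
  have h1 : hrel n (i.val + 1) = X (some i) ^ 2 ^ klog n (i.val + 1)
      + X (some (i0 n)) ^ ((2 * (i.val + 1) - 3) * 2 ^ klog n (i.val + 1) - n) * X none
      + X (some (i0 n)) ^ ((2 * (i.val + 1) - 4) * 2 ^ klog n (i.val + 1)) * sPoly n (i.val + 1) := by
    unfold hrel
    rw [if_neg (by omega), if_pos ⟨by omega, i.isLt⟩, evar_one, evar_succ]
    rfl
  rw [h1, bound_ge n i (by omega)]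
  ring

/-- closure under `e_j`, `j ≥ 3`. -/
lemma closure_ei (hn : 2 ≤ n) (i : Fin (numVars n)) (hi : 2 ≤ i.val) :
    ∀ v ∈ VV n hn, X (some i) * v ∈ VV n hn := by
  classical
  apply mul_closure
  rintro ⟨s, b, c⟩
  set i' : I2 n := ⟨i, hi⟩ with hi'
  by_cases hc : (c i').val + 1 < bound n i
  · have hprod := prod_pow_update (fun j : I2 n => (X (some j.1) : FreeE n))
      (fun j => (c j : ℕ)) i'
    have hcoe : ∀ j, ((Function.update c i' ⟨(c i').val + 1, hc⟩ j : Fin (bound n j.1)) : ℕ)
        = Function.update (fun j => (c j : ℕ)) i' ((c i').val + 1) j := by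
      intro j
      by_cases hj : j = i'
      · subst hj; simp
      · simp [Function.update_of_ne hj]
    have : X (some i) * std n hn (s, b, c)
        = std n hn (s, b, Function.update c i' ⟨(c i').val + 1, hc⟩) := by
      simp only [std, hcoe]
      rw [← hprod]
      ring
    rw [this]; exact std_mem_VV n hn _
  · have hcb : (c i').val + 1 = bound n i := by
      have h3 : (c i').val < bound n i := (c i').isLt
      omega
    have hprod := prod_pow_update_zero (fun j : I2 n => (X (some j.1) : FreeE n))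
      (fun j => (c j : ℕ)) i'
    set c0 := Function.update c i' ⟨0, bound_pos n i (by omega)⟩ with hc0
    have hcoe : ∀ j, ((c0 j : Fin (bound n j.1)) : ℕ)
        = Function.update (fun j => (c j : ℕ)) i' 0 j := by
      intro j
      by_cases hj : j = i'
      · subst hj; simp [hc0]
      · simp [hc0, Function.update_of_ne hj]
    set std0 := std n hn (s, b, c0) with hstd0
    have e1 : X (some i) * std n hn (s, b, c) = X (some i) ^ bound n i * std0 := by
      rw [← hcb, hstd0]
      simp only [std, hcoe]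
      rw [hprod, pow_succ]
      ring
    rw [e1, ei_pow_eq n hn i hi, sub_mul, sub_mul]
    apply Submodule.sub_mem
    apply Submodule.sub_mem
    · apply mem_VV_of_mem_presIdeal
      exact Ideal.mul_mem_right _ _ (hrel_mem n i)
    · rw [mul_assoc]
      exact pow_closure n hn _ (closure_e1 n hn) _ _ (closure_x n hn _ (std_mem_VV n hn _))
    · rw [mul_assoc]
      apply pow_closure n hn _ (closure_e1 n hn)
      rw [sPoly_eq n hn, Finset.sum_mul]
      apply Submodule.sum_mem
      intro t _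
      rw [mul_assoc]
      apply pow_closure n hn _ (closure_e1 n hn)
      exact pow_closure n hn _ (closure_e2 n hn) _ _ (std_mem_VV n hn _)

lemma VV_eq_top (hn : 2 ≤ n) : VV n hn = ⊤ := by
  rw [eq_top_iff]
  intro q _
  induction q using MvPolynomial.induction_on with
  | C a =>
    have h1 : std n hn (Sum.inl ⟨0, by omega⟩, ⟨0, two_pow_pred_pos n⟩,
        fun j => ⟨0, bound_pos n j.1 (by have := j.2; omega)⟩) = 1 := by
      simp [std, sa, sx]
    have : (C a : FreeE n) = a • (1 : FreeE n) := by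
      rw [Algebra.smul_def, mul_one]; rfl
    rw [this, ← h1]
    exact Submodule.smul_mem _ _ (std_mem_VV n hn _)
  | add f g hf hg => exact Submodule.add_mem _ (hf trivial) (hg trivial)
  | mul_X f o hf =>
    rw [mul_comm]
    cases o with
    | none => exact closure_x n hn _ (hf trivial)
    | some i =>
      by_cases h0 : i.val = 0
      · have : i = i0 n := Fin.ext h0
        rw [this]; exact closure_e1 n hn _ (hf trivial)
      by_cases h1 : i.val = 1
      · have : i = i1 n hn := Fin.ext h1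
        rw [this]; exact closure_e2 n hn _ (hf trivial)
      · exact closure_ei n hn i (by omega) _ (hf trivial)

/-- the kernel of `φ` is the ideal of relations. -/
lemma ker_phi_eq (hn : 2 ≤ n) : RingHom.ker (phi n) = presIdeal n := by
  apply le_antisymm
  · intro q hq
    rw [RingHom.mem_ker] at hq
    have hqV : q ∈ VV n hn := by rw [VV_eq_top]; trivial
    obtain ⟨y, hy, z, hz, rfl⟩ := Submodule.mem_sup.mp hqV
    obtain ⟨lam, rfl⟩ := (Submodule.mem_span_range_iff_exists_fun (ZMod 2)).mp hz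
    have hy0 : phi n y = 0 := presIdeal_le_ker n hn hy
    rw [map_add, hy0, zero_add, map_sum] at hq
    have hli := (bfam_li n hn).comp (toIdx n hn) (toIdx_injective n hn)
    rw [Fintype.linearIndependent_iff] at hli
    have hlam : ∀ k, lam k = 0 := by
      apply hli
      rw [← hq]
      apply Finset.sum_congr rfl
      intro k _
      rw [map_smul, phi_std]
      rfl
    have : ∑ k, lam k • std n hn k = 0 := by
      apply Finset.sum_eq_zero
      intro k _
      rw [hlam k, zero_smul]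
    rw [this, add_zero]
    exact hy
  · exact presIdeal_le_ker n hn

end Groth.Agent.Lib.Helper16QsChow
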