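import Mathlib
import Groth.Agent.Lib.Helper16QsChow2
import Groth.Prelude.Def_W4c4chowquasisplitPn2

set_option autoImplicit false
set_option linter.style.haveILetI false
set_option linter.unusedSectionVars false

namespace Groth.Agent.Lib.Helper16QsChow

open MvPolynomial QsChow

/-! ### arithmetic for `n = 2^b` -/

lemma klog_two_pow (b : ℕ) (hb : 1 ≤ b) : klog (2 ^ b) 2 = b := by
  have hn : 2 ≤ 2 ^ b := by
    calc 2 = 2 ^ 1 := rfl
      _ ≤ 2 ^ b := Nat.pow_le_pow_right (by norm_num) hb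
  have h1 := klog_spec (2 ^ b) 2 le_rfl
  have h2 := klog_two_lt (2 ^ b) hn
  have hK := klog_two_pos (2 ^ b) hn
  simp only [show 2 * 2 - 3 = 1 by norm_num, one_mul] at h1
  have h3 : b ≤ klog (2 ^ b) 2 := (Nat.pow_le_pow_iff_right (by norm_num)).mp h1
  have h4 : klog (2 ^ b) 2 - 1 < b := (Nat.pow_lt_pow_iff_right (by norm_num)).mp h2
  omega

lemma twoExp_two_pow (b : ℕ) : twoExp (2 ^ b) = b := by
  unfold twoExp
  exact padicValNat.prime_pow b

lemma kprime_one_two_pow (b : ℕ) : kprime (2 ^ b) 1 = b := by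
  unfold kprime
  rw [if_pos rfl, twoExp_two_pow]

lemma kprime_two_two_pow (b : ℕ) : kprime (2 ^ b) 2 = b := by
  unfold kprime
  rw [if_neg (by norm_num), if_pos rfl, Nat.log_pow (by norm_num)]

lemma kprime_ge_two_pow (b j : ℕ) (hj : 3 ≤ j) : kprime (2 ^ b) j = klog (2 ^ b) j := by
  unfold kprime klog
  rw [if_neg (by omega), if_neg (by omega)]
  congr 1
  have hpos : 0 < 2 * 2 ^ b := by positivity
  obtain ⟨M, hM⟩ : ∃ M, 2 * 2 ^ b = M + 1 := ⟨2 * 2 ^ b - 1, by omega⟩
  have : 2 * 2 ^ b - 1 = M := by omega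
  rw [this, hM, Nat.succ_div, if_neg, add_zero]
  rw [← hM, ← pow_succ']
  intro hd
  obtain ⟨m, -, hm⟩ := (Nat.dvd_prime_pow Nat.prime_two).mp hd
  rcases m with _ | m
  · simp at hm; omega
  · have : 2 ∣ 2 * j - 3 := by rw [hm, pow_succ]; exact Dvd.intro_left _ rfl
    omega

lemma two_pow_le_mul (b j : ℕ) (hb : 1 ≤ b) (hj : 3 ≤ j) :
    2 ^ b ≤ (2 * j - 4) * 2 ^ klog (2 ^ b) j ∧ 2 ^ b < (2 * j - 3) * 2 ^ klog (2 ^ b) j := by
  have h1 := klog_spec (2 ^ b) j (by omega)
  have h2 := klog_le (2 ^ b) j hj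
  rw [klog_two_pow b hb] at h2
  set k := klog (2 ^ b) j with hk
  obtain ⟨r, hr⟩ : ∃ r, b = k + (r + 1) := ⟨b - k - 1, by omega⟩
  rw [hr, pow_add] at h1 ⊢
  have h3 : 2 ^ (r + 1) ≤ 2 * j - 3 := by
    have hkpos : 0 < 2 ^ k := by positivity
    rw [mul_comm (2 * j - 3)] at h1
    exact Nat.le_of_mul_le_mul_left h1 hkpos
  have h4 : 2 ^ (r + 1) = 2 * 2 ^ r := by rw [pow_succ']
  have h5 : 2 ^ (r + 1) ≤ 2 * j - 4 := by omega
  have h6 : 2 ^ (r + 1) < 2 * j - 3 := by omega
  constructor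
  · rw [mul_comm (2 ^ k)]
    exact Nat.mul_le_mul_right _ h5
  · rw [mul_comm (2 ^ k)]
    exact Nat.mul_lt_mul_of_pos_right h6 (by positivity)


/-! ### `ψ` and the substitution `x ↦ S` -/

variable (n : ℕ)

lemma psi_X (i : Fin (numVars n)) : psi n (X i) = phi n (X (some i)) := by
  simp [psi, phi]

lemma psi_eq : psi n = (phi n).comp (rename some) := by
  apply MvPolynomial.algHom_ext
  intro i
  rw [AlgHom.comp_apply, rename_X, psi_X]

lemma psi_apply (q : FreeP n) : psi n q = phi n (rename some q) := by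
  rw [psi_eq]; rfl

lemma evarE_succ (i : Fin (numVars n)) : evarE n (i.val + 1) = X i := by
  unfold evarE
  rw [dif_pos ⟨Nat.succ_pos _, i.isLt⟩]
  congr 2

lemma evarE_one : evarE n 1 = X (i0 n) := evarE_succ n (i0 n)

lemma evarE_two (hn : 2 ≤ n) : evarE n 2 = X (i1 n hn) := evarE_succ n (i1 n hn)

/-- the polynomial `S_k(e_1, e_2)` in `FreeP n`. -/
noncomputable def sP (hn : 2 ≤ n) (k : ℕ) : FreeP n :=
  ∑ t ∈ Finset.range k, X (i0 n) ^ (2 ^ k - 2 ^ (t + 1)) * X (i1 n hn) ^ 2 ^ t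

lemma rename_sP (hn : 2 ≤ n) (j : ℕ) : rename some (sP n hn (klog n j)) = sPoly n j := by
  rw [sPoly_eq n hn, sP, map_sum]
  apply Finset.sum_congr rfl
  intro t _
  simp

lemma psi_sP (hn : 2 ≤ n) (k : ℕ) : psi n (sP n hn k) =
    ∑ t ∈ Finset.range k, eps n 1 ^ (2 ^ k - 2 ^ (t + 1))
      * (eps n 2 ^ 2 + eps n 1 * eps n 2) ^ 2 ^ t := by
  rw [sP, map_sum]
  apply Finset.sum_congr rfl
  intro t _
  rw [map_mul, map_pow, map_pow, psi_X, psi_X, phi_i0, phi_i1]

/-- substitution `x ↦ g`. -/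
noncomputable def theta (g : FreeP n) : FreeE n →ₐ[ZMod 2] FreeP n :=
  aeval (fun o : Option (Fin (numVars n)) => match o with
    | some i => X i
    | none => g)

lemma theta_some (g : FreeP n) (i : Fin (numVars n)) : theta n g (X (some i)) = X i := by
  simp [theta]

lemma theta_none (g : FreeP n) : theta n g (X none) = g := by
  simp [theta]

lemma theta_rename (g : FreeP n) (q : FreeP n) : theta n g (rename some q) = q := by
  have : (theta n g).comp (rename some) = AlgHom.id _ _ := by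
    apply MvPolynomial.algHom_ext
    intro i
    rw [AlgHom.comp_apply, rename_X, theta_some]; rfl
  exact AlgHom.congr_fun this q

lemma phi_eq_psi_theta (g : FreeP n) (hg : psi n g = eps n 1 ^ (n - 1) * eps n 2) (q : FreeE n) :
    phi n q = psi n (theta n g q) := by
  have : phi n = (psi n).comp (theta n g) := by
    apply MvPolynomial.algHom_ext
    intro o
    rw [AlgHom.comp_apply]
    cases o with
    | none => rw [theta_none, hg, phi_none]
    | some i => rw [theta_some, psi_X]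
  exact AlgHom.congr_fun this q

lemma range_psi_eq (g : FreeP n) (hg : psi n g = eps n 1 ^ (n - 1) * eps n 2) :
    (psi n).range = (phi n).range := by
  ext z
  rw [AlgHom.mem_range, AlgHom.mem_range]
  constructor
  · rintro ⟨q, rfl⟩; exact ⟨rename some q, (psi_apply n q).symm⟩
  · rintro ⟨q, rfl⟩; exact ⟨theta n g q, (phi_eq_psi_theta n g hg q).symm⟩

lemma ker_psi_le (hn : 2 ≤ n) (g : FreeP n) (J : Ideal (FreeP n))
    (h : ∀ p ∈ ({evar n 1 ^ n, evar n 1 * xvar n, xvar n ^ 2} ∪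
      Set.range fun i : Fin (numVars n) => hrel n (i.val + 1) : Set (FreeE n)), theta n g p ∈ J) :
    RingHom.ker (psi n) ≤ J := by
  intro q hq
  rw [RingHom.mem_ker, psi_apply] at hq
  have h1 : rename some q ∈ presIdeal n := by
    rw [← ker_phi_eq n hn]; exact hq
  have h2 : Ideal.map (theta n g) (presIdeal n) ≤ J := by
    unfold presIdeal
    rw [Ideal.map_span, Ideal.span_le]
    rintro _ ⟨p, hp, rfl⟩
    exact h p hp
  have := h2 (Ideal.mem_map_of_mem _ h1)
  rwa [theta_rename] at this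

end Groth.Agent.Lib.Helper16QsChow
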