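import Mathlib
import Groth.Prelude.Def_LocCohZ
import Groth.Agent.Lib.Helper16ClosedEmb
import Groth.Agent.Lib.Helper23LocSS

set_option autoImplicit false
universe u
open CategoryTheory CategoryTheory.Limits Opposite TopologicalSpace Abelian

namespace Groth.Agent.Lib.Helper23LocSS2

open Groth.Agent.Lib.Helper16.ClosedEmb

variable {X : TopCat.{u}} (U : Opens X)

/-- `Γ_Z` preserves injective sheaves. -/
theorem injective_sectSuppF (Q : CohTop.Ab X) [Injective Q] :
    Injective ((LocCohZ.sectSuppF U).obj Q) := by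
  obtain ⟨adj⟩ := nonempty_push_adj U
  have : PreservesFiniteLimits (CohTop.push (CohCx.inclCompl U)) :=
    push_preservesFiniteLimits _
  have h2' : PreservesLimitsOfShape WalkingCospan (CohTop.push (CohCx.inclCompl U)) :=
    PreservesFiniteLimits.preservesFiniteLimits _
  have : (CohTop.push (CohCx.inclCompl U)).PreservesMonomorphisms :=
    preservesMonomorphisms_of_preservesLimitsOfShape _
  have h1 : Injective ((LocCohZ.sectSuppF U ⋙ CohTop.pull (CohCx.inclCompl U)).obj Q) :=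
    adj.map_injective Q inferInstance
  have := push_preservesInjectiveObjects (CohCx.inclCompl U)
  have h2 : Injective ((CohTop.push (CohCx.inclCompl U)).obj
      ((LocCohZ.sectSuppF U ⋙ CohTop.pull (CohCx.inclCompl U)).obj Q)) :=
    Functor.injective_obj_of_injective _ h1
  have hiso := isIso_unit_of_SZ U _ (sz_sectSupp U Q)
  exact Injective.of_iso (asIso ((adjI U).unit.app _)).symm h2

/-- maps from `ℤ_U` to `Γ_Z F` vanish. -/
theorem freeSheafMap_comp_eq_zero (F : CohTop.Ab X)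
    (ψ : CohCx.freeSheaf (Opens.grothendieckTopology X) (⊤ : Opens X) ⟶ (LocCohZ.sectSuppF U).obj F) :
    CohCx.freeSheafMap (Opens.grothendieckTopology X) (homOfLE (le_top : U ≤ ⊤)) ≫ ψ = 0 := by
  apply (CohFree.homEquivSect _ U ((LocCohZ.sectSuppF U).obj F)).injective
  have : Subsingleton (ToType (((LocCohZ.sectSuppF U).obj F).obj.obj (op U))) :=
    sz_sectSupp U F U le_rfl
  exact Subsingleton.elim _ _

/-- a map `ℤ_X ⟶ F` vanishing on `ℤ_U` is killed by `F ⟶ j_* j⁻¹ F`. -/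
theorem comp_ηJ_eq_zero (F : CohTop.Ab X)
    (φ : CohCx.freeSheaf (Opens.grothendieckTopology X) (⊤ : Opens X) ⟶ F)
    (hφ : CohCx.freeSheafMap (Opens.grothendieckTopology X) (homOfLE (le_top : U ≤ ⊤)) ≫ φ = 0) :
    φ ≫ ηJ U F = 0 := by
  apply (CohFree.homEquivSect _ (⊤ : Opens X) _).injective
  rw [map_zero, CohFree.homEquivSect_apply]
  set s := CohFree.evalGen (Opens.grothendieckTopology X) (⊤ : Opens X) F φ with hs
  have h1 : CohFree.evalGen (Opens.grothendieckTopology X) (⊤ : Opens X) _ (φ ≫ ηJ U F) =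
      ((ηJ U F).hom.app (op ⊤)).hom s := rfl
  rw [h1]
  have h2 : (F.obj.map (homOfLE (le_top : U ≤ ⊤)).op).hom s = 0 := by
    rw [hs, ← CohFree.evalGen_freeSheafMap_comp, hφ, map_zero]
  have nat := ConcreteCategory.congr_hom ((ηJ U F).hom.naturality (homOfLE (le_top : U ≤ ⊤)).op) s
  have nat' : (((CohTop.push (jU U)).obj ((CohTop.pull (jU U)).obj F)).obj.map
      (homOfLE (le_top : U ≤ ⊤)).op).hom (((ηJ U F).hom.app (op ⊤)).hom s) =
      ((ηJ U F).hom.app (op U)).hom ((F.obj.map (homOfLE (le_top : U ≤ ⊤)).op).hom s) := nat.symm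
  rw [h2, map_zero] at nat'
  have heq : (Opens.map (jU U)).obj (⊤ : Opens X) = (Opens.map (jU U)).obj U := by
    ext x
    constructor
    · intro _
      exact x.2
    · intro _
      trivial
  have inj := map_injective_of_eq ((CohTop.pull (jU U)).obj F)
    ((Opens.map (jU U)).map (homOfLE (le_top : U ≤ ⊤))) heq
  exact inj (nat'.trans (map_zero _).symm)

/-- the lift of a map vanishing on `ℤ_U` to `Γ_Z F`. -/
noncomputable def liftΓ (F : CohTop.Ab X)
    (φ : CohCx.freeSheaf (Opens.grothendieckTopology X) (⊤ : Opens X) ⟶ F)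
    (hφ : CohCx.freeSheafMap (Opens.grothendieckTopology X) (homOfLE (le_top : U ≤ ⊤)) ≫ φ = 0) :
    CohCx.freeSheaf (Opens.grothendieckTopology X) (⊤ : Opens X) ⟶ (LocCohZ.sectSuppF U).obj F :=
  kernel.lift (ηJ U F) φ (comp_ηJ_eq_zero U F φ hφ)

theorem liftΓ_ι (F : CohTop.Ab X)
    (φ : CohCx.freeSheaf (Opens.grothendieckTopology X) (⊤ : Opens X) ⟶ F)
    (hφ : CohCx.freeSheafMap (Opens.grothendieckTopology X) (homOfLE (le_top : U ≤ ⊤)) ≫ φ = 0) :
    liftΓ U F φ hφ ≫ ιΓ U F = φ :=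
  kernel.lift_ι _ _ _

/-- `Hom(ℤ_X, Γ_Z F) ≃ Hom(ℤ_X/ℤ_U, F)`. -/
noncomputable def homGammaEquiv (F : CohTop.Ab X) :
    (CohCx.freeSheaf (Opens.grothendieckTopology X) (⊤ : Opens X) ⟶ (LocCohZ.sectSuppF U).obj F) ≃+
      (LocCohZ.zq (le_top : U ≤ ⊤) ⟶ F) where
  toFun ψ := cokernel.desc _ (ψ ≫ ιΓ U F) (by
    rw [← Category.assoc, freeSheafMap_comp_eq_zero, zero_comp])
  invFun χ := liftΓ U F (cokernel.π _ ≫ χ) (by rw [cokernel.condition_assoc, zero_comp])
  left_inv ψ := by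
    apply (cancel_mono (ιΓ U F)).1
    rw [liftΓ_ι, cokernel.π_desc]
  right_inv χ := by
    apply (cancel_epi (cokernel.π _)).1
    rw [cokernel.π_desc, liftΓ_ι]
  map_add' ψ ψ' := by
    apply (cancel_epi (cokernel.π _)).1
    rw [cokernel.π_desc, Preadditive.comp_add, cokernel.π_desc, cokernel.π_desc,
      Preadditive.add_comp]

theorem homGammaEquiv_naturality {F F' : CohTop.Ab X} (α : F ⟶ F')
    (ψ : CohCx.freeSheaf (Opens.grothendieckTopology X) (⊤ : Opens X) ⟶
      (LocCohZ.sectSuppF U).obj F) :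
    homGammaEquiv U F' (ψ ≫ (LocCohZ.sectSuppF U).map α) = homGammaEquiv U F ψ ≫ α := by
  apply (cancel_epi (cokernel.π _)).1
  change cokernel.π _ ≫ cokernel.desc _ _ _ = cokernel.π _ ≫ cokernel.desc _ _ _ ≫ α
  rw [cokernel.π_desc, cokernel.π_desc_assoc, Category.assoc, ιΓ_nat, Category.assoc]

/-- the natural isomorphism `Γ_Z ⋙ Hom(ℤ_X, -) ≅ Hom(ℤ_X/ℤ_U, -)`. -/
noncomputable def gammaCoyonedaIso :
    LocCohZ.sectSuppF U ⋙ preadditiveCoyoneda.obj
        (op (CohCx.freeSheaf (Opens.grothendieckTopology X) (⊤ : Opens X))) ≅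
      preadditiveCoyoneda.obj (op (LocCohZ.zq (le_top : U ≤ ⊤))) :=
  NatIso.ofComponents
    (fun F => AddEquiv.toAddCommGrpIso (X := AddCommGrpCat.of _) (Y := AddCommGrpCat.of _)
      (homGammaEquiv U F))
    (fun {F F'} α => by
      ext ψ
      exact homGammaEquiv_naturality U α ψ)

end Groth.Agent.Lib.Helper23LocSS2
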