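import Mathlib
import Groth.Prelude.Def_LocCohZ
import Groth.Agent.Lib.Helper16ClosedEmb
import Groth.Agent.Lib.Helper16Flasque
import Groth.Agent.Lib.Helper23LocSS2

set_option autoImplicit false
universe u
open CategoryTheory CategoryTheory.Limits Opposite TopologicalSpace

namespace Groth.Agent.Lib.Helper23OpenEmb

open Groth.Agent.Lib.Helper16.ClosedEmb Groth.Agent.Lib.Helper16.Flasque

variable {X : TopCat.{u}} (U : Opens X)

/-- the adjunction `(-)|_U ⊣ j_*` for the inclusion of an open. -/
noncomputable def adjR : CohTop.restrFunctor U ⊣ CohTop.push (CohCx.incl U) :=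
  haveI H : Topology.IsOpenEmbedding (TopCat.Hom.hom (CohCx.incl U)) := U.isOpenEmbedding
  haveI := H.functor_isContinuous
  haveI := instIsContinuousOpensCarrierMapGrothendieckTopology (CohCx.incl U)
  Adjunction.sheafPushforwardContinuous (E := AddCommGrpCat.{u}) (H.isOpenMap.adjunction) _ _

theorem adjR_unit_app_app (F : CohTop.Ab X) (V : Opens X) :
    ((adjR U).unit.app F).hom.app (op V) = F.obj.map (homOfLE (img_map_le U V)).op := by
  rfl

theorem epi_adjR_unit (Q : CohTop.Ab X) [hQ : TopCat.Sheaf.IsFlasque Q] :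
    Epi ((adjR U).unit.app Q) := by
  haveI : ∀ V, Epi (((adjR U).unit.app Q).hom.app V) := fun V => by
    have : ((adjR U).unit.app Q).hom.app V = Q.obj.map (homOfLE (img_map_le U V.unop)).op :=
      adjR_unit_app_app U Q V.unop
    rw [this]
    exact hQ.epi _
  haveI : Epi ((adjR U).unit.app Q).hom := NatTrans.epi_of_epi_app _
  exact Sheaf.Hom.epi_of_presheaf_epi _ _ _

theorem adjR_counit_app_app (G : CohTop.Ab (TopCat.of U)) (W : Opens (TopCat.of U)) :
    ∃ (h : W ≤ (Opens.map (CohCx.incl U)).obj (img U W)),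
      ((adjR U).counit.app G).hom.app (op W) = G.obj.map (homOfLE h).op :=
  ⟨_, rfl⟩

theorem map_img_le (W : Opens (TopCat.of U)) : (Opens.map (CohCx.incl U)).obj (img U W) ≤ W := by
  rintro x ⟨y, hy, hxy⟩
  have : y = x := Subtype.ext hxy
  rw [← this]
  exact hy

theorem isIso_adjR_counit_app (G : CohTop.Ab (TopCat.of U)) : IsIso ((adjR U).counit.app G) := by
  have : ∀ W, IsIso (((adjR U).counit.app G).hom.app W) := fun W => by
    obtain ⟨h, he⟩ := adjR_counit_app_app U G W.unop
    rw [he]
    have h1 : IsIso (homOfLE h) :=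
      ⟨homOfLE (map_img_le U W.unop), Subsingleton.elim _ _, Subsingleton.elim _ _⟩
    have h2 : IsIso (homOfLE h).op := inferInstance
    exact Functor.map_isIso G.obj (homOfLE h).op
  have : IsIso ((adjR U).counit.app G).hom := NatIso.isIso_of_isIso_app _
  have : IsIso ((sheafToPresheaf _ _).map ((adjR U).counit.app G)) := this
  exact isIso_of_reflects_iso ((adjR U).counit.app G) (sheafToPresheaf _ _)

instance isIso_adjR_counit : IsIso (adjR U).counit :=
  haveI := fun G => isIso_adjR_counit_app U G
  NatIso.isIso_of_isIso_app _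

/-- `j_*` is fully faithful for the inclusion of an open. -/
noncomputable def pushFullyFaithful : (CohTop.push (CohCx.incl U)).FullyFaithful :=
  (adjR U).fullyFaithfulROfIsIsoCounit

/-- the unit `Q ⟶ j_* j⁻¹ Q` is an epimorphism for `Q` flasque. -/
theorem epi_ηJ (Q : CohTop.Ab X) [TopCat.Sheaf.IsFlasque Q] : Epi (ηJ U Q) := by
  have h1 := Adjunction.unit_leftAdjointUniq_hom_app (adjR U) (adjJ U) Q
  have h2 : Epi ((adjR U).unit.app Q) := epi_adjR_unit U Q
  have h5 : IsIso (((adjR U).leftAdjointUniq (adjJ U)).hom.app Q) :=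
    (((adjR U).leftAdjointUniq (adjJ U)).app Q).isIso_hom
  have h4 : IsIso ((CohTop.push (CohCx.incl U)).map
      (((adjR U).leftAdjointUniq (adjJ U)).hom.app Q)) :=
    Functor.map_isIso _ _
  have h3 : Epi ((adjR U).unit.app Q ≫ (CohTop.push (CohCx.incl U)).map
      (((adjR U).leftAdjointUniq (adjJ U)).hom.app Q)) := epi_comp _ _
  rw [h1] at h3
  exact h3

/-- the short exact sequence `0 ⟶ Γ_Z Q ⟶ Q ⟶ j_* j⁻¹ Q ⟶ 0` for `Q` flasque. -/
theorem shortExact_of_flasque (Q : CohTop.Ab X) [TopCat.Sheaf.IsFlasque Q] :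
    (ShortComplex.mk (ιΓ U Q) (ηJ U Q) (kernel.condition _)).ShortExact where
  exact := ShortComplex.exact_of_f_is_kernel _ (kernelIsKernel _)
  mono_f := mono_ιΓ U Q
  epi_g := epi_ηJ U Q

theorem injective_push_pull (Q : CohTop.Ab X) [Injective Q] :
    Injective ((CohTop.push (CohCx.incl U)).obj ((CohTop.pull (CohCx.incl U)).obj Q)) := by
  haveI : TopCat.Sheaf.IsFlasque Q := injective_isFlasque Q
  have hS := shortExact_of_flasque U Q
  haveI : Injective (ShortComplex.mk (ιΓ U Q) (ηJ U Q) (kernel.condition _)).X₁ :=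
    Groth.Agent.Lib.Helper23LocSS2.injective_sectSuppF U Q
  let s := hS.splittingOfInjective
  let r : Retract ((CohTop.push (CohCx.incl U)).obj ((CohTop.pull (CohCx.incl U)).obj Q)) Q :=
    { i := s.s, r := ηJ U Q, retract := s.s_g }
  exact r.injective

/-- `j⁻¹` preserves injective sheaves (for the inclusion of an open). -/
theorem injective_pull (Q : CohTop.Ab X) [Injective Q] :
    Injective ((CohTop.pull (CohCx.incl U)).obj Q) := by
  haveI := injective_push_pull U Q
  haveI : PreservesFiniteLimits (CohTop.push (CohCx.incl U)) := push_preservesFiniteLimits _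
  have h2' : PreservesLimitsOfShape WalkingCospan (CohTop.push (CohCx.incl U)) :=
    PreservesFiniteLimits.preservesFiniteLimits _
  haveI : (CohTop.push (CohCx.incl U)).PreservesMonomorphisms :=
    preservesMonomorphisms_of_preservesLimitsOfShape _
  constructor
  intro A B a m hm
  let b' := Injective.factorThru ((CohTop.push (CohCx.incl U)).map a)
    ((CohTop.push (CohCx.incl U)).map m)
  have hb' : (CohTop.push (CohCx.incl U)).map m ≫ b' = (CohTop.push (CohCx.incl U)).map a :=
    Injective.comp_factorThru _ _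
  refine ⟨(pushFullyFaithful U).preimage b', ?_⟩
  apply (pushFullyFaithful U).map_injective
  rw [Functor.map_comp, Functor.FullyFaithful.map_preimage]
  exact hb'

instance : (CohTop.pull (CohCx.incl U)).PreservesInjectiveObjects where
  injective_obj {Q} hQ := by
    haveI := hQ
    exact injective_pull U Q

end Groth.Agent.Lib.Helper23OpenEmb
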