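import Mathlib
import Groth.Agent.Lib.Helper23OpenEmb
import Groth.Agent.Lib.Helper16Restr

/-!
# Restriction to an open preserves injectives and K-injectives (helper16)
-/

set_option autoImplicit false
universe u
open CategoryTheory CategoryTheory.Limits Opposite TopologicalSpace

namespace Groth.Agent.Lib.Helper16.RestrInj

section Abstract

universe v₁ v₂ u₁ u₂

variable {𝒞 : Type u₁} [Category.{v₁} 𝒞] {𝒟 : Type u₂} [Category.{v₂} 𝒟]

/-- if the right adjoint preserves injectives and the target of `L` has enough injectives, `L` preserves
monomorphisms. -/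
lemma preservesMonomorphisms_of_adjunction {L : 𝒞 ⥤ 𝒟} {R : 𝒟 ⥤ 𝒞} (adj : L ⊣ R)
    [R.PreservesInjectiveObjects] [EnoughInjectives 𝒟] : L.PreservesMonomorphisms where
  preserves {A B} m hm := by
    let e := Injective.ι (L.obj A)
    haveI : Injective (R.obj (Injective.under (L.obj A))) := R.injective_obj _
    let b := Injective.factorThru (adj.homEquiv _ _ e) m
    have hb : m ≫ b = adj.homEquiv _ _ e := Injective.comp_factorThru _ _
    have h : L.map m ≫ (adj.homEquiv _ _).symm b = e := by
      rw [← Adjunction.homEquiv_naturality_left_symm, hb, Equiv.symm_apply_apply]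
    haveI : Mono (L.map m ≫ (adj.homEquiv _ _).symm b) := by rw [h]; infer_instance
    exact mono_of_mono (L.map m) ((adj.homEquiv _ _).symm b)

variable [Abelian 𝒞] [Abelian 𝒟]

/-- a right adjoint whose left adjoint is exact preserves K-injective complexes. -/
lemma isKInjective_map_of_adjunction {L : 𝒞 ⥤ 𝒟} {R : 𝒟 ⥤ 𝒞} (adj : L ⊣ R) [L.Additive] [R.Additive]
    [PreservesFiniteLimits L] [PreservesFiniteColimits L] (I : CochainComplex 𝒟 ℤ) [I.IsKInjective] :
    CochainComplex.IsKInjective ((R.mapHomologicalComplex (ComplexShape.up ℤ)).obj I) where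
  nonempty_homotopy_zero {K} f hK := by
    -- typed copies of the components
    let φ : ∀ n, K.X n ⟶ R.obj (I.X n) := fun n => f.f n
    have hφ : ∀ i j, φ i ≫ R.map (I.d i j) = K.d i j ≫ φ j := fun i j => f.comm i j
    -- the adjoint map
    let f' : (L.mapHomologicalComplex (ComplexShape.up ℤ)).obj K ⟶ I :=
      { f := fun n => (adj.homEquiv _ _).symm (φ n)
        comm' := fun i j _ => by
          change (adj.homEquiv _ _).symm (φ i) ≫ I.d i j = L.map (K.d i j) ≫ (adj.homEquiv _ _).symm (φ j)
          rw [← Adjunction.homEquiv_naturality_left_symm, ← Adjunction.homEquiv_naturality_right_symm,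
            hφ] }
    have hLK : ((L.mapHomologicalComplex (ComplexShape.up ℤ)).obj K).Acyclic := by
      intro i
      exact (hK i).map L
    have h := CochainComplex.IsKInjective.homotopyZero f' hLK
    let u : K ⟶ (R.mapHomologicalComplex (ComplexShape.up ℤ)).obj
        ((L.mapHomologicalComplex (ComplexShape.up ℤ)).obj K) :=
      { f := fun n => adj.unit.app (K.X n)
        comm' := fun i j _ => (adj.unit.naturality (K.d i j)).symm }
    have hf : f = u ≫ (R.mapHomologicalComplex (ComplexShape.up ℤ)).map f' := by
      ext n
      change φ n = adj.unit.app _ ≫ R.map ((adj.homEquiv _ _).symm (φ n))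
      exact ((adj.homEquiv _ _).apply_symm_apply (φ n)).symm.trans (adj.homEquiv_unit _ _ _)
    have h2 := (R.mapHomotopy h).compLeft u
    rw [← hf, Functor.map_zero, comp_zero] at h2
    exact ⟨h2⟩

end Abstract

section Top

open Groth.Agent.Lib.Helper16.Restr

variable {X : TopCat.{u}} (U : Opens X)

/-- restriction to an open is Mathlib's pullback along the inclusion. -/
noncomputable def restrIsoPull : CohTop.restrFunctor U ≅ CohTop.pull (CohCx.incl U) :=
  (Groth.Agent.Lib.Helper23OpenEmb.adjR U).leftAdjointUniq
    (TopCat.Sheaf.pullbackPushforwardAdjunction AddCommGrpCat.{u} (CohCx.incl U))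

instance restr_preservesInjectiveObjects : (CohTop.restrFunctor U).PreservesInjectiveObjects where
  injective_obj {Q} hQ := by
    haveI := hQ
    haveI := Groth.Agent.Lib.Helper23OpenEmb.injective_pull U Q
    exact Injective.of_iso ((restrIsoPull U).app Q).symm inferInstance

/-- extension by zero: the left adjoint of restriction to an open. -/
noncomputable def extZero : CohTop.Ab (TopCat.of U) ⥤ CohTop.Ab X :=
  haveI := restr_isRightAdjoint U
  (CohTop.restrFunctor U).leftAdjoint

/-- the adjunction `j_! ⊣ j^*`. -/
noncomputable def adjExt : extZero U ⊣ CohTop.restrFunctor U :=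
  haveI := restr_isRightAdjoint U
  Adjunction.ofIsRightAdjoint (CohTop.restrFunctor U)

instance extZero_additive : (extZero U).Additive := (adjExt U).left_adjoint_additive

instance extZero_preservesMonomorphisms : (extZero U).PreservesMonomorphisms :=
  preservesMonomorphisms_of_adjunction (adjExt U)

instance extZero_preservesFiniteColimits : PreservesFiniteColimits (extZero U) := by
  haveI : PreservesColimitsOfSize.{0, 0} (extZero U) := (adjExt U).leftAdjoint_preservesColimits
  exact PreservesColimitsOfSize.preservesFiniteColimits _

instance extZero_preservesFiniteLimits : PreservesFiniteLimits (extZero U) := by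
  haveI : (extZero U).PreservesHomology :=
    Functor.preservesHomology_of_preservesMonos_and_cokernels _
  exact Functor.preservesFiniteLimits_of_preservesHomology _

/-- restriction to an open preserves K-injective complexes. -/
theorem restr_isKInjective (I : CochainComplex (CohTop.Ab X) ℤ) [I.IsKInjective] :
    CochainComplex.IsKInjective
      (((CohTop.restrFunctor U).mapHomologicalComplex (ComplexShape.up ℤ)).obj I) :=
  isKInjective_map_of_adjunction (adjExt U) I

end Top

end Groth.Agent.Lib.Helper16.RestrInj
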