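import Mathlib
import Groth.Prelude.Def_W4c1hurwitzcptBd

set_option autoImplicit false
set_option linter.style.haveILetI false
set_option linter.unusedSectionVars false

namespace Groth.Agent.Lib.Helper16RootDisk
open PowerSeries W4c1hurwitzcpt

section generic
variable {R N : Type*} [CommRing R] [IsDomain R] [AddCommGroup N] [Module R N]

lemma exists_smul_mem {n : ℕ} (e : Fin n → N) (he : ⊤ ≤ Submodule.span R (Set.range e))
    (M : Submodule R N) (b : Module.Basis (Fin n) R M) : ∃ a : R, a ≠ 0 ∧ ∀ f : N, a • f ∈ M := by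
  classical
  have hA : ∀ i, ∃ c : Fin n → R, ∑ j, c j • e j = (b i : N) := fun i =>
    (Submodule.mem_span_range_iff_exists_fun R).mp (he Submodule.mem_top)
  choose A hA using hA
  let A' : Matrix (Fin n) (Fin n) R := Matrix.of A
  have hdet : A'.det ≠ 0 := by
    intro h0
    obtain ⟨v, hv, hvA⟩ := Matrix.exists_vecMul_eq_zero_iff.mpr h0
    apply hv
    have hsum : ∑ i, v i • b i = 0 := by
      apply Subtype.ext
      rw [Submodule.coe_sum]
      simp only [Submodule.coe_smul, ← hA, Finset.smul_sum, smul_smul, Submodule.coe_zero]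
      rw [Finset.sum_comm]
      simp_rw [← Finset.sum_smul]
      have : ∀ j, ∑ i, v i * A i j = 0 := fun j => by
        have := congrFun hvA j
        simpa [Matrix.vecMul, dotProduct, A'] using this
      simp [this]
    exact funext fun i => (Fintype.linearIndependent_iff.mp b.linearIndependent v hsum i)
  refine ⟨A'.det, hdet, ?_⟩
  have hej : ∀ j, A'.det • e j ∈ M := by
    intro j
    have : A'.det • e j = ∑ i, A'.adjugate j i • (b i : N) := by
      simp_rw [← hA, Finset.smul_sum, smul_smul]
      rw [Finset.sum_comm]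
      simp_rw [← Finset.sum_smul]
      have : ∀ l, ∑ i, A'.adjugate j i * A i l = if j = l then A'.det else 0 := by
        intro l
        have := congrFun (congrFun (Matrix.adjugate_mul A') j) l
        simpa [Matrix.mul_apply, Matrix.smul_apply, Matrix.one_apply, A'] using this
      simp [this]
    rw [this]
    exact M.sum_mem fun i _ => M.smul_mem _ (b i).2
  intro f
  obtain ⟨c, rfl⟩ := (Submodule.mem_span_range_iff_exists_fun R).mp (he (Submodule.mem_top : f ∈ ⊤))
  rw [Finset.smul_sum]
  refine M.sum_mem fun j _ => ?_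
  rw [smul_comm]
  exact M.smul_mem _ (hej j)

end generic

section rd
variable {k : Type*} [Field k] {p : ℕ} [NeZero p]

/-- `x` as an element of `RootDisk p k`. -/
noncomputable def xT : RootDisk p k := RootDisk.val.symm X

lemma val_xT : RootDisk.val (xT : RootDisk p k) = X := rfl

lemma val_smul (r : PowerSeries k) (f : RootDisk p k) :
    RootDisk.val (r • f) = expand p (NeZero.ne p) r * RootDisk.val f := rfl

/-- the `j`-th component of `f` in the decomposition `k⟦x⟧ = ⊕_{j<p} x^j k⟦x^p⟧`. -/
noncomputable def comp (j : ℕ) (f : RootDisk p k) : PowerSeries k :=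
  PowerSeries.mk fun n => coeff (p * n + j) (RootDisk.val f)

lemma decomp (f : RootDisk p k) :
    f = ∑ j ∈ Finset.range p, comp j f • (xT : RootDisk p k) ^ j := by
  apply RootDisk.val.injective
  rw [map_sum]
  ext m
  rw [map_sum]
  have hp : 0 < p := Nat.pos_of_ne_zero (NeZero.ne p)
  rw [Finset.sum_eq_single (m % p)]
  · rw [val_smul, map_pow, val_xT, coeff_mul_X_pow', if_pos (Nat.mod_le m p)]
    have h1 : m - m % p = p * (m / p) := Nat.sub_eq_of_eq_add (Nat.div_add_mod m p).symm
    rw [h1, coeff_expand_mul, comp, coeff_mk, Nat.div_add_mod m p]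
  · intro j hj hne
    rw [val_smul, map_pow, val_xT, coeff_mul_X_pow']
    split_ifs with hjm
    · apply coeff_expand_of_not_dvd
      intro hdvd
      apply hne
      have hj' := Finset.mem_range.mp hj
      obtain ⟨q, hq⟩ := hdvd
      have : m = p * q + j := by omega
      rw [this, Nat.mul_add_mod, Nat.mod_eq_of_lt hj']
    · rfl
  · intro h; exact absurd (Finset.mem_range.mpr (Nat.mod_lt m hp)) h

lemma span_pow_top :
    ⊤ ≤ Submodule.span (PowerSeries k) (Set.range fun j : Fin p => (xT : RootDisk p k) ^ (j : ℕ)) := by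
  intro f _
  rw [decomp f, Finset.sum_range]
  refine Submodule.sum_mem _ fun j _ => Submodule.smul_mem _ _ (Submodule.subset_span ⟨j, rfl⟩)

/-- the `x`-adic order of an element. -/
noncomputable def ord (f : RootDisk p k) : ℕ := (order (RootDisk.val f)).toNat

lemma order_eq_ord {f : RootDisk p k} (hf : f ≠ 0) : order (RootDisk.val f) = (ord f : ℕ∞) := by
  have : RootDisk.val f ≠ 0 := fun h => hf (RootDisk.val.injective (by rw [h, map_zero]))
  rw [ord, ENat.natCast_toNat]
  exact (order_finite_iff_ne_zero.mpr this).ne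

lemma coeff_ord_ne {f : RootDisk p k} (hf : f ≠ 0) : coeff (ord f) (RootDisk.val f) ≠ 0 := by
  have : RootDisk.val f ≠ 0 := fun h => hf (RootDisk.val.injective (by rw [h, map_zero]))
  exact coeff_order this

lemma coeff_lt_ord {f : RootDisk p k} {i : ℕ} (hi : i < ord f) : coeff i (RootDisk.val f) = 0 := by
  by_cases hf : f = 0
  · rw [hf, map_zero, map_zero]
  · apply coeff_of_lt_order
    rw [order_eq_ord hf]; exact_mod_cast hi

lemma reduce (f g : RootDisk p k) (hf : f ≠ 0) (hg : g ≠ 0) (hle : ord g ≤ ord f)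
    (hmod : ord f % p = ord g % p) :
    ∃ r : PowerSeries k, f - r • g = 0 ∨ ord f < ord (f - r • g) := by
  have hp : 0 < p := Nat.pos_of_ne_zero (NeZero.ne p)
  obtain ⟨j, hj⟩ : ∃ j, ord f = ord g + p * j := by
    have h1 : (ord f - ord g) % p = 0 := Nat.sub_mod_eq_zero_of_mod_eq hmod
    obtain ⟨j, hj⟩ := Nat.dvd_of_mod_eq_zero h1
    exact ⟨j, by omega⟩
  set c : k := coeff (ord f) (RootDisk.val f) / coeff (ord g) (RootDisk.val g) with hc
  refine ⟨C c * X ^ j, ?_⟩
  by_cases h0 : f - (C c * X ^ j : PowerSeries k) • g = 0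
  · exact Or.inl h0
  right
  have hle' : ((ord f + 1 : ℕ) : ℕ∞) ≤ order (RootDisk.val (f - (C c * X ^ j : PowerSeries k) • g)) := by
    apply le_order
    intro i hi
    have hi' : i < ord f + 1 := by exact_mod_cast hi
    have hE : expand p (NeZero.ne p) (C c * X ^ j : PowerSeries k) = C c * X ^ (p * j) := by
      rw [map_mul, expand_C, map_pow, expand_X, ← pow_mul]
    rw [map_sub, val_smul, hE, map_sub, mul_assoc, coeff_C_mul, mul_comm (X ^ (p * j)),
      coeff_mul_X_pow']
    rcases Nat.lt_succ_iff_lt_or_eq.mp hi' with hlt | heq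
    · rw [coeff_lt_ord hlt]
      split_ifs with h
      · rw [coeff_lt_ord (by omega), mul_zero, sub_zero]
      · rw [mul_zero, sub_zero]
    · subst heq
      rw [if_pos (by omega)]
      have : ord f - p * j = ord g := by omega
      rw [this, hc, div_mul_cancel₀ _ (coeff_ord_ne hg), sub_self]
  rw [order_eq_ord h0] at hle'
  have : ord f + 1 ≤ ord (f - (C c * X ^ j : PowerSeries k) • g) := by exact_mod_cast hle'
  omega

lemma exists_X_pow_smul_mem (M : Submodule (PowerSeries k) (RootDisk p k))
    (ha : ∃ a : PowerSeries k, a ≠ 0 ∧ ∀ f : RootDisk p k, a • f ∈ M) :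
    ∃ N : ℕ, ∀ f : RootDisk p k, (X ^ N : PowerSeries k) • f ∈ M := by
  obtain ⟨a, ha0, ha⟩ := ha
  obtain ⟨n, u, hu⟩ := IsDiscreteValuationRing.eq_unit_mul_pow_irreducible ha0
    (PowerSeries.X_irreducible (R := k))
  refine ⟨n, fun f => ?_⟩
  have : (X ^ n : PowerSeries k) • f = ((u⁻¹ : (PowerSeries k)ˣ) : PowerSeries k) • (a • f) := by
    rw [smul_smul, hu, ← mul_assoc, Units.inv_mul, one_mul]
  rw [this]
  exact M.smul_mem _ (ha f)

lemma ord_X_pow_smul_xT (N r : ℕ) :
    (X ^ N : PowerSeries k) • (xT : RootDisk p k) ^ r ≠ 0 ∧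
      ord ((X ^ N : PowerSeries k) • (xT : RootDisk p k) ^ r) = p * N + r := by
  have hval : RootDisk.val ((X ^ N : PowerSeries k) • (xT : RootDisk p k) ^ r) = X ^ (p * N + r) := by
    rw [val_smul, map_pow RootDisk.val, val_xT, map_pow, expand_X, ← pow_mul, ← pow_add]
  have hne : (X ^ N : PowerSeries k) • (xT : RootDisk p k) ^ r ≠ 0 := by
    intro h
    rw [h, map_zero] at hval
    exact (pow_ne_zero _ X_ne_zero) hval.symm
  refine ⟨hne, ?_⟩
  rw [ord, hval, order_X_pow]
  rfl

theorem main (M : Submodule (PowerSeries k) (RootDisk p k)) (hfg : M.FG)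
    (ha : ∃ a : PowerSeries k, a ≠ 0 ∧ ∀ f : RootDisk p k, a • f ∈ M) :
    ∃ g : Fin p → RootDisk p k,
      (∀ r, g r ∈ M ∧ g r ≠ 0 ∧ ord (g r) % p = (r : ℕ)) ∧
        Submodule.span (PowerSeries k) (Set.range g) = M := by
  classical
  have hp : 0 < p := Nat.pos_of_ne_zero (NeZero.ne p)
  obtain ⟨N, hN⟩ := exists_X_pow_smul_mem M ha
  have hex : ∀ r : Fin p, ∃ v : ℕ, ∃ m ∈ M, m ≠ 0 ∧ ord m = v ∧ v % p = (r : ℕ) := by
    intro r
    obtain ⟨h1, h2⟩ := ord_X_pow_smul_xT (k := k) (p := p) N r
    refine ⟨p * N + r, _, hN _, h1, h2, ?_⟩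
    rw [Nat.mul_add_mod, Nat.mod_eq_of_lt r.2]
  have hspec : ∀ r : Fin p, ∃ m ∈ M, m ≠ 0 ∧ ord m = Nat.find (hex r) ∧ Nat.find (hex r) % p = (r : ℕ) :=
    fun r => Nat.find_spec (hex r)
  choose g hgM hg0 hgord hgmod using hspec
  have hmin : ∀ (r : Fin p) (m : RootDisk p k), m ∈ M → m ≠ 0 → ord m % p = (r : ℕ) →
      ord (g r) ≤ ord m := by
    intro r m hm hm0 hmr
    rw [hgord r]
    exact Nat.find_min' (hex r) ⟨m, hm, hm0, rfl, hmr⟩
  refine ⟨g, fun r => ⟨hgM r, hg0 r, by rw [hgord r]; exact hgmod r⟩, ?_⟩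
  set L := Submodule.span (PowerSeries k) (Set.range g) with hL
  have hLM : L ≤ M := by
    rw [hL, Submodule.span_le]
    rintro _ ⟨r, rfl⟩
    exact hgM r
  refine le_antisymm hLM ?_
  set B := p * (N + 1) with hB
  have key : ∀ d : ℕ, ∀ m ∈ M, B - ord m ≤ d →
      m ∈ L ⊔ (Ideal.span {(X : PowerSeries k)}) • M := by
    intro d
    induction d with
    | zero =>
      intro m hm hd
      by_cases hm0 : m = 0
      · rw [hm0]; exact Submodule.zero_mem _
      have hBle : B ≤ ord m := by omega
      have hdvd : (X : PowerSeries k) ^ B ∣ RootDisk.val m := by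
        rw [X_pow_dvd_iff]
        intro i hi
        exact coeff_lt_ord (by omega)
      obtain ⟨q, hq⟩ := hdvd
      have hmeq : m = (X : PowerSeries k) • ((X ^ N : PowerSeries k) • (RootDisk.val.symm q)) := by
        apply RootDisk.val.injective
        rw [val_smul, val_smul, hq, expand_X, map_pow, expand_X, ← pow_mul, ← mul_assoc,
          RingEquiv.apply_symm_apply, ← pow_add, hB]
        congr 2
        ring
      rw [hmeq]
      exact Submodule.mem_sup_right (Submodule.smul_mem_smul (Ideal.mem_span_singleton_self X) (hN _))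
    | succ d ih =>
      intro m hm hd
      by_cases hd' : B - ord m ≤ d
      · exact ih m hm hd'
      by_cases hm0 : m = 0
      · rw [hm0]; exact Submodule.zero_mem _
      set r : Fin p := ⟨ord m % p, Nat.mod_lt _ hp⟩ with hr
      have hle := hmin r m hm hm0 rfl
      have hmod : ord m % p = ord (g r) % p := by
        rw [hgord r, hgmod r]
      obtain ⟨c, hc⟩ := reduce m (g r) hm0 (hg0 r) hle hmod
      have hm'M : m - c • g r ∈ M := M.sub_mem hm (M.smul_mem _ (hgM r))
      have hm' : m - c • g r ∈ L ⊔ (Ideal.span {(X : PowerSeries k)}) • M := by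
        rcases hc with hc | hc
        · rw [hc]; exact Submodule.zero_mem _
        · exact ih _ hm'M (by omega)
      have : m = (m - c • g r) + c • g r := by abel
      rw [this]
      refine Submodule.add_mem _ hm' (Submodule.mem_sup_left ?_)
      exact Submodule.smul_mem _ _ (Submodule.subset_span ⟨r, rfl⟩)
  have hle : M ≤ L ⊔ (Ideal.span {(X : PowerSeries k)}) • M := fun m hm => key _ m hm le_rfl
  refine Submodule.le_of_le_smul_of_le_jacobson_bot hfg ?_ hle
  rw [IsLocalRing.jacobson_eq_maximalIdeal ⊥ bot_ne_top, PowerSeries.maximalIdeal_eq_span_X]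

end rd

end Groth.Agent.Lib.Helper16RootDisk
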