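import Mathlib
import Groth.Agent.Lib.Helper16Herm

/-!
Skew-hermitian invertible matrices over a commutative ring with involution `lam ≡ id` modulo
the Jacobson radical (2 invertible): decomposition into hyperbolic `2 × 2` blocks.
-/

set_option autoImplicit false
set_option linter.style.haveILetI false
set_option linter.unusedSectionVars false

namespace Groth.Agent.Lib.Helper16Skew

open Matrix Groth.Agent.Lib.Helper16Herm

universe v

variable {A : Type v} [CommRing A] (lam : A ≃+* A)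

section General

variable {ι : Type} [Fintype ι] [DecidableEq ι]

theorem isUnit_one_add_vecMulVec' (p q : ι → A) (hpq : IsUnit (1 + q ⬝ᵥ p)) :
    IsUnit (1 + vecMulVec p q : Matrix ι ι A) := by
  rw [Matrix.isUnit_iff_isUnit_det, Matrix.vecMulVec_eq Unit,
    Matrix.det_one_add_replicateCol_mul_replicateRow]
  exact hpq

theorem one_add_mul_one_add (p q p' q' : ι → A) (h : q ⬝ᵥ p' = 0) :
    (1 + vecMulVec p q : Matrix ι ι A) * (1 + vecMulVec p' q')
      = 1 + vecMulVec p q + vecMulVec p' q' := by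
  rw [Matrix.mul_add, Matrix.mul_one, Matrix.add_mul, Matrix.one_mul,
    Matrix.vecMulVec_mul_vecMulVec, h, zero_smul]
  have : vecMulVec p (0 : ι → A) = 0 := by
    ext i j
    simp [Matrix.vecMulVec_apply]
  rw [this, add_zero]

theorem col_two (p q p' q' : ι → A) (b : ι) :
    (fun j => (1 + vecMulVec p q + vecMulVec p' q' : Matrix ι ι A) j b)
      = Pi.single b 1 + q b • p + q' b • p' := by
  ext j
  simp only [Matrix.add_apply, Matrix.one_apply, Matrix.vecMulVec_apply, Pi.add_apply,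
    Pi.single_apply, Pi.smul_apply, smul_eq_mul]
  ring

end General

variable {n : ℕ}

/-- the block conditions at the entry `(i, j)`. -/
def Cond (G : Matrix (Fin n) (Fin n) A) (i j : Fin n) : Prop :=
  (i.val / 2 ≠ j.val / 2 → G i j = 0) ∧
  (i.val / 2 = j.val / 2 → (Even i.val ↔ Even j.val) → G i j ∈ Ring.jacobson A) ∧
  (i.val / 2 = j.val / 2 → Even i.val → ¬ Even j.val → G i j - 1 ∈ Ring.jacobson A) ∧
  (i.val / 2 = j.val / 2 → ¬ Even i.val → Even j.val → G i j + 1 ∈ Ring.jacobson A)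

/-- the block conditions hold at all entries touching the first `m` indices. -/
def Blk (m : ℕ) (G : Matrix (Fin n) (Fin n) A) : Prop :=
  ∀ i j : Fin n, (i.val < m ∨ j.val < m) → Cond G i j

theorem cond_zero {G : Matrix (Fin n) (Fin n) A} {i j : Fin n} (h : i.val / 2 ≠ j.val / 2)
    (h0 : G i j = 0) : Cond G i j :=
  ⟨fun _ => h0, fun h' => absurd h' h, fun h' => absurd h' h, fun h' => absurd h' h⟩

theorem cond_diag {G : Matrix (Fin n) (Fin n) A} {i : Fin n}
    (h0 : G i i ∈ Ring.jacobson A) : Cond G i i :=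
  ⟨fun h => absurd rfl h, fun _ _ => h0, fun _ h1 h2 => absurd h1 h2,
    fun _ h1 h2 => absurd h2 h1⟩

theorem cond_up {G : Matrix (Fin n) (Fin n) A} {i j : Fin n} (hij : i.val + 1 = j.val)
    (hi : Even i.val) (h0 : G i j - 1 ∈ Ring.jacobson A) : Cond G i j := by
  have hj : ¬ Even j.val := by
    rw [← hij, Nat.even_add_one]
    exact not_not.mpr hi
  exact ⟨fun h => by rw [Nat.even_iff] at hi; omega, fun _ h => absurd (h.mp hi) hj,
    fun _ _ _ => h0, fun _ h _ => absurd hi h⟩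

theorem cond_down {G : Matrix (Fin n) (Fin n) A} {i j : Fin n} (hij : j.val + 1 = i.val)
    (hj : Even j.val) (h0 : G i j + 1 ∈ Ring.jacobson A) : Cond G i j := by
  have hi : ¬ Even i.val := by
    rw [← hij, Nat.even_add_one]
    exact not_not.mpr hj
  exact ⟨fun h => by rw [Nat.even_iff] at hj; omega, fun _ h => absurd (h.mpr hj) hi,
    fun _ h _ => absurd h hi, fun _ _ _ => h0⟩

/-- Preservation of the block conditions under congruences fixing the first `m` basis vectors
and keeping the other columns supported off the first `m` indices. -/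
theorem blk_cg {m : ℕ} (hm : Even m) {G v : Matrix (Fin n) (Fin n) A} (hB : Blk m G)
    (hv1 : ∀ x : Fin n, x.val < m → (fun z => v z x) = Pi.single x 1)
    (hv2 : ∀ y z : Fin n, m ≤ y.val → z.val < m → v z y = 0) : Blk m (cg lam v G) := by
  obtain ⟨k, hk⟩ := hm
  have hzero : ∀ x z : Fin n, x.val < m → m ≤ z.val → G x z = 0 ∧ G z x = 0 := by
    intro x z hx hz
    exact ⟨(hB x z (Or.inl hx)).1 (by omega), (hB z x (Or.inr hx)).1 (by omega)⟩
  intro i j hij
  by_cases hi : i.val < m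
  · by_cases hj : j.val < m
    · have : cg lam v G i j = G i j := by
        rw [cg_apply, hv1 i hi, hv1 j hj, form_single_single]
      unfold Cond
      rw [this]
      exact hB i j hij
    · push Not at hj
      apply cond_zero (by omega)
      rw [cg_apply, hv1 i hi, form_single_left]
      apply Finset.sum_eq_zero
      intro z _
      by_cases hz : z.val < m
      · rw [hv2 j z hj hz, mul_zero]
      · push Not at hz
        rw [(hzero i z hi hz).1, zero_mul]
  · push Not at hi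
    have hj : j.val < m := by
      rcases hij with h | h
      · omega
      · exact h
    apply cond_zero (by omega)
    rw [cg_apply, hv1 j hj, form_single_right]
    apply Finset.sum_eq_zero
    intro z _
    by_cases hz : z.val < m
    · rw [hv2 i z hi hz, map_zero, zero_mul]
    · push Not at hz
      rw [(hzero j z hj hz).2, mul_zero]

theorem blk_cg_elem {m : ℕ} (hm : Even m) {G : Matrix (Fin n) (Fin n) A} (hB : Blk m G)
    (p q : Fin n → A) (hp : ∀ z : Fin n, z.val < m → p z = 0)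
    (hq : ∀ z : Fin n, z.val < m → q z = 0) :
    Blk m (cg lam (1 + vecMulVec p q) G) := by
  apply blk_cg lam hm hB
  · intro x hx
    rw [col_one_add_vecMulVec, hq x hx, zero_smul, add_zero]
  · intro y z hy hz
    have : z ≠ y := fun h => by rw [h] at hz; omega
    rw [Matrix.add_apply, Matrix.one_apply_ne this, Matrix.vecMulVec_apply, hp z hz]
    ring


section Main

variable (hlam : Function.Involutive lam)
  (hNm : ∀ t : A, ¬ IsUnit t → t * lam t ∈ Ring.jacobson A)
  (hid : ∀ a : A, lam a - a ∈ Ring.jacobson A) (h2 : IsUnit (2 : A))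

include hlam hid h2 in
theorem form_self_mem {G : Matrix (Fin n) (Fin n) A} (hh : Herm lam (-1) G) (x : Fin n → A) :
    form lam G x x ∈ Ring.jacobson A := by
  have h1 := form_self lam hlam (Or.inr rfl) hh x
  obtain ⟨w, hw⟩ := h2.exists_left_inv
  have h3 := hid (form lam G x x)
  rw [h1] at h3
  have : form lam G x x = -w * (-1 * form lam G x x - form lam G x x) := by
    linear_combination (-form lam G x x) * hw
  rw [this]
  exact Ideal.mul_mem_left _ _ h3

/-- Make the entry `(i₀, i₁)` equal to `1`. -/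
theorem pivot {m : ℕ} (hm : Even m) {G : Matrix (Fin n) (Fin n) A} (hB : Blk m G)
    (i₀ i₁ : Fin n) (h01 : i₀ ≠ i₁) (hi₁ : m ≤ i₁.val) (w : Fin n → A) (hw1 : w i₁ = 1)
    (hwD : ∀ z : Fin n, z.val < m → w z = 0) (binv : A)
    (hb : form lam G (Pi.single i₀ 1) w * binv = 1) :
    ∃ v : Matrix (Fin n) (Fin n) A, IsUnit v ∧ Blk m (cg lam v G) ∧ cg lam v G i₀ i₁ = 1 := by
  refine ⟨1 + vecMulVec (binv • w - Pi.single i₁ 1) (Pi.single i₁ 1), ?_, ?_, ?_⟩
  · apply isUnit_one_add_vecMulVec'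
    rw [single_one_dotProduct]
    simp only [Pi.sub_apply, Pi.smul_apply, smul_eq_mul, hw1, mul_one, Pi.single_eq_same,
      add_sub_cancel]
    exact IsUnit.of_mul_eq_one _ (by rw [mul_comm]; exact hb)
  · apply blk_cg_elem lam hm hB
    · intro z hz
      have : z ≠ i₁ := fun h => by rw [h] at hz; omega
      simp [hwD z hz, this]
    · intro z hz
      have : z ≠ i₁ := fun h => by rw [h] at hz; omega
      simp [this]
  · rw [cg_apply, col_one_add_vecMulVec, col_one_add_vecMulVec]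
    have h1 : (Pi.single i₁ 1 : Fin n → A) i₀ = 0 := by simp [h01]
    rw [h1, zero_smul, add_zero]
    have h3 : (Pi.single i₁ 1 : Fin n → A) + (Pi.single i₁ 1 : Fin n → A) i₁ •
        (binv • w - Pi.single i₁ 1) = binv • w := by
      ext z
      simp
    rw [h3, form_smul_right, mul_comm]
    exact hb

include hlam in
/-- Clear the rows and columns of a pair `(i₀, i₁)` with `G i₀ i₁ = 1`. -/
theorem clear2 {m : ℕ} (hm : Even m) {G : Matrix (Fin n) (Fin n) A}
    (hh : Herm lam (-1) G) (hB : Blk m G) (i₀ i₁ : Fin n)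
    (hi₀ : m ≤ i₀.val) (hi₁ : m ≤ i₁.val) (hone : G i₀ i₁ = 1)
    (δ : A) (hδ : (1 + G i₀ i₀ * G i₁ i₁) * δ = 1) :
    ∃ v : Matrix (Fin n) (Fin n) A, IsUnit v ∧ Blk m (cg lam v G) ∧
      cg lam v G i₀ i₀ = G i₀ i₀ ∧ cg lam v G i₀ i₁ = 1 ∧ cg lam v G i₁ i₁ = G i₁ i₁ ∧
      (∀ c, c ≠ i₀ → c ≠ i₁ → cg lam v G i₀ c = 0 ∧ cg lam v G i₁ c = 0) := by
  obtain ⟨k, hk⟩ := hm
  have hmone : G i₁ i₀ = -1 := by
    rw [← herm_apply lam hh i₁ i₀, hone, map_one]
    ring
  set q₀ : Fin n → A := fun c => if c = i₀ ∨ c = i₁ then 0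
    else -(δ * (G i₁ i₁ * G i₀ c - G i₁ c)) with hq₀
  set q₁ : Fin n → A := fun c => if c = i₀ ∨ c = i₁ then 0
    else -(δ * (G i₀ c + G i₀ i₀ * G i₁ c)) with hq₁
  have hq₀0 : q₀ i₀ = 0 := by simp [hq₀]
  have hq₀1 : q₀ i₁ = 0 := by simp [hq₀]
  have hq₁0 : q₁ i₀ = 0 := by simp [hq₁]
  have hq₁1 : q₁ i₁ = 0 := by simp [hq₁]
  have hq₀c : ∀ c, c ≠ i₀ → c ≠ i₁ → q₀ c = -(δ * (G i₁ i₁ * G i₀ c - G i₁ c)) := by
    intro c h0 h1
    simp [hq₀, h0, h1]
  have hq₁c : ∀ c, c ≠ i₀ → c ≠ i₁ → q₁ c = -(δ * (G i₀ c + G i₀ i₀ * G i₁ c)) := by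
    intro c h0 h1
    simp [hq₁, h0, h1]
  have hzero : ∀ x : Fin n, x.val < m → G i₀ x = 0 ∧ G i₁ x = 0 := by
    intro x hx
    exact ⟨(hB i₀ x (Or.inr hx)).1 (by omega), (hB i₁ x (Or.inr hx)).1 (by omega)⟩
  have hq₀D : ∀ x : Fin n, x.val < m → q₀ x = 0 := by
    intro x hx
    have h0 : x ≠ i₀ := fun h => by rw [h] at hx; omega
    have h1 : x ≠ i₁ := fun h => by rw [h] at hx; omega
    rw [hq₀c x h0 h1, (hzero x hx).1, (hzero x hx).2]
    ring
  have hq₁D : ∀ x : Fin n, x.val < m → q₁ x = 0 := by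
    intro x hx
    have h0 : x ≠ i₀ := fun h => by rw [h] at hx; omega
    have h1 : x ≠ i₁ := fun h => by rw [h] at hx; omega
    rw [hq₁c x h0 h1, (hzero x hx).1, (hzero x hx).2]
    ring
  have hrow0 : ∀ y, cg lam (1 + vecMulVec (Pi.single i₀ 1) q₀ + vecMulVec (Pi.single i₁ 1) q₁)
      G i₀ y = G i₀ y + q₀ y * G i₀ i₀ + q₁ y := by
    intro y
    rw [cg_apply, col_two, col_two, hq₀0, hq₁0]
    simp only [zero_smul, add_zero, form_add_right, form_smul_right, form_single_single, hone]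
    ring
  have hrow1 : ∀ y, cg lam (1 + vecMulVec (Pi.single i₀ 1) q₀ + vecMulVec (Pi.single i₁ 1) q₁)
      G i₁ y = G i₁ y - q₀ y + q₁ y * G i₁ i₁ := by
    intro y
    rw [cg_apply, col_two, col_two, hq₀1, hq₁1]
    simp only [zero_smul, add_zero, form_add_right, form_smul_right, form_single_single, hmone]
    ring
  refine ⟨1 + vecMulVec (Pi.single i₀ 1) q₀ + vecMulVec (Pi.single i₁ 1) q₁, ?_, ?_, ?_, ?_,
    ?_, ?_⟩
  · rw [← one_add_mul_one_add _ _ _ _ (by rw [dotProduct_single_one]; exact hq₀1)]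
    apply IsUnit.mul
    · apply isUnit_one_add_vecMulVec
      rw [dotProduct_single_one]
      exact hq₀0
    · apply isUnit_one_add_vecMulVec
      rw [dotProduct_single_one]
      exact hq₁1
  · apply blk_cg lam ⟨k, hk⟩ hB
    · intro x hx
      rw [col_two, hq₀D x hx, hq₁D x hx, zero_smul, zero_smul, add_zero, add_zero]
    · intro y z hy hz
      have h0 : z ≠ i₀ := fun h => by rw [h] at hz; omega
      have h1 : z ≠ i₁ := fun h => by rw [h] at hz; omega
      have h3 : z ≠ y := fun h => by rw [h] at hz; omega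
      simp [Matrix.add_apply, Matrix.one_apply_ne h3, Matrix.vecMulVec_apply, h0, h1]
  · rw [hrow0, hq₀0, hq₁0]
    ring
  · rw [hrow0, hq₀1, hq₁1, hone]
    ring
  · rw [hrow1, hq₀1, hq₁1]
    ring
  · intro c h0 h1
    constructor
    · rw [hrow0, hq₀c c h0 h1, hq₁c c h0 h1]
      linear_combination (-(G i₀ c)) * hδ
    · rw [hrow1, hq₀c c h0 h1, hq₁c c h0 h1]
      linear_combination (-(G i₁ c)) * hδ


include hlam hNm hid h2 in
theorem step [Nontrivial A] (k : ℕ) (hk : 2 * k < n) {G : Matrix (Fin n) (Fin n) A}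
    (hG : IsUnit G) (hh : Herm lam (-1) G) (hB : Blk (2 * k) G) :
    2 * k + 1 < n ∧ ∃ v : Matrix (Fin n) (Fin n) A, IsUnit v ∧ Blk (2 * k + 2) (cg lam v G) := by
  have hloc : ∀ t : A, ¬ IsUnit t → t ∈ Ring.jacobson A := fun t ht =>
    mem_of_local lam hNm hid ht
  have hm : Even (2 * k) := even_two_mul k
  obtain ⟨g, hg⟩ := hG.exists_right_inv
  have hdiagJ : ∀ (G' : Matrix (Fin n) (Fin n) A), Herm lam (-1) G' → ∀ x, G' x x ∈
      Ring.jacobson A := by
    intro G' hh' x
    have := form_self_mem lam hlam hid h2 hh' (Pi.single x 1)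
    rwa [form_single_single] at this
  -- a unit entry in row `2k`
  obtain ⟨j₁, hj₁⟩ : ∃ j, IsUnit (G ⟨2 * k, hk⟩ j) := by
    by_contra hcon
    push Not at hcon
    apply one_notMem_jac (A := A)
    have hrow : ∑ j, G ⟨2 * k, hk⟩ j * g j ⟨2 * k, hk⟩ = 1 := by
      have := congrFun (congrFun hg ⟨2 * k, hk⟩) ⟨2 * k, hk⟩
      rwa [Matrix.mul_apply, Matrix.one_apply_eq] at this
    rw [← hrow]
    exact Ideal.sum_mem _ fun j _ => Ideal.mul_mem_right _ _ (hloc _ (hcon j))
  have hj₁D : 2 * k ≤ j₁.val := by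
    by_contra hlt
    push Not at hlt
    have : G ⟨2 * k, hk⟩ j₁ = 0 := (hB ⟨2 * k, hk⟩ j₁ (Or.inr hlt)).1 (by simp only; omega)
    rw [this] at hj₁
    exact not_isUnit_zero hj₁
  have hj₁i : j₁.val ≠ 2 * k := by
    intro h
    have : j₁ = ⟨2 * k, hk⟩ := Fin.ext h
    rw [this] at hj₁
    exact not_isUnit_of_mem_jac (hdiagJ G hh _) hj₁
  have hk1 : 2 * k + 1 < n := by
    have := j₁.isLt
    omega
  refine ⟨hk1, ?_⟩
  set i₀ : Fin n := ⟨2 * k, hk⟩ with hi₀
  set i₁ : Fin n := ⟨2 * k + 1, hk1⟩ with hi₁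
  have h01 : i₀ ≠ i₁ := by
    intro h
    have := congrArg Fin.val h
    simp [hi₀, hi₁] at this
  -- the vector `w`
  obtain ⟨w, hw1, hwD, hwu⟩ : ∃ w : Fin n → A, w i₁ = 1 ∧ (∀ z : Fin n, z.val < 2 * k → w z = 0) ∧
      IsUnit (form lam G (Pi.single i₀ 1) w) := by
    by_cases hu : IsUnit (G i₀ i₁)
    · refine ⟨Pi.single i₁ 1, by simp, ?_, ?_⟩
      · intro z hz
        have : z ≠ i₁ := fun h => by rw [h, hi₁] at hz; simp at hz
        simp [this]
      · rwa [form_single_single]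
    · have hj1 : j₁ ≠ i₁ := fun h => hu (h ▸ hj₁)
      refine ⟨Pi.single i₁ 1 + Pi.single j₁ 1, ?_, ?_, ?_⟩
      · have : i₁ ≠ j₁ := fun h => hj1 h.symm
        simp [this]
      · intro z hz
        have h1 : z ≠ i₁ := fun h => by rw [h, hi₁] at hz; simp at hz
        have h3 : z ≠ j₁ := fun h => by rw [h] at hz; omega
        simp [h1, h3]
      · rw [form_add_right, form_single_single, form_single_single, add_comm]
        exact isUnit_add_jac hj₁ (hloc _ hu)
  obtain ⟨binv, hb⟩ := hwu.exists_right_inv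
  obtain ⟨v₁, hv₁, hB₁, hone⟩ := pivot lam hm hB i₀ i₁ h01 (by simp [hi₁]) w hw1 hwD binv hb
  have hG₁ : IsUnit (cg lam v₁ G) := isUnit_cg lam hv₁ hG
  have hh₁ : Herm lam (-1) (cg lam v₁ G) := herm_cg lam hlam hh v₁
  generalize hG₁e : cg lam v₁ G = G₁ at *
  have hadJ : G₁ i₀ i₀ * G₁ i₁ i₁ ∈ Ring.jacobson A :=
    Ideal.mul_mem_right _ _ (hdiagJ G₁ hh₁ i₀)
  obtain ⟨δ, hδ⟩ := (isUnit_add_jac isUnit_one hadJ).exists_right_inv
  obtain ⟨v₂, hv₂, hB₂, C00, C01, C11, Crow⟩ := clear2 lam hlam hm hh₁ hB₁ i₀ i₁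
    (by simp [hi₀]) (by simp [hi₁]) hone δ hδ
  have hh₂ : Herm lam (-1) (cg lam v₂ G₁) := herm_cg lam hlam hh₁ v₂
  refine ⟨v₁ * v₂, hv₁.mul hv₂, ?_⟩
  rw [cg_mul, hG₁e]
  generalize cg lam v₂ G₁ = C at *
  have C10 : C i₁ i₀ = -1 := by
    rw [← herm_apply lam hh₂ i₁ i₀, C01, map_one]
    ring
  have Ccol : ∀ c, c ≠ i₀ → c ≠ i₁ → C c i₀ = 0 ∧ C c i₁ = 0 := by
    intro c h0 h1
    constructor
    · rw [← herm_apply lam hh₂ c i₀, (Crow c h0 h1).1, map_zero, mul_zero]
    · rw [← herm_apply lam hh₂ c i₁, (Crow c h0 h1).2, map_zero, mul_zero]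
  intro i j hij
  by_cases hlow : i.val < 2 * k ∨ j.val < 2 * k
  · exact hB₂ i j hlow
  · push Not at hlow
    obtain ⟨hil, hjl⟩ := hlow
    have hcases : ∀ x : Fin n, 2 * k ≤ x.val → x = i₀ ∨ x = i₁ ∨ 2 * k + 2 ≤ x.val := by
      intro x hx
      by_cases h0 : x.val = 2 * k
      · left
        exact Fin.ext h0
      · by_cases h1 : x.val = 2 * k + 1
        · right; left
          exact Fin.ext h1
        · right; right
          omega
    have hv0 : i₀.val = 2 * k := rfl
    have hv1 : i₁.val = 2 * k + 1 := rfl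
    rcases hcases i hil with rfl | rfl | hi
    · rcases hcases j hjl with rfl | rfl | hj
      · exact cond_diag (by rw [C00]; exact hdiagJ G₁ hh₁ _)
      · apply cond_up (by rw [hv0, hv1]) (by rw [hv0]; exact hm)
        rw [C01, sub_self]
        exact zero_mem _
      · have h0 : j ≠ i₀ := fun h => by rw [h, hv0] at hj; omega
        have h1 : j ≠ i₁ := fun h => by rw [h, hv1] at hj; omega
        exact cond_zero (by rw [hv0]; omega) (Crow j h0 h1).1
    · rcases hcases j hjl with rfl | rfl | hj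
      · apply cond_down (by rw [hv0, hv1]) (by rw [hv0]; exact hm)
        rw [C10, neg_add_cancel]
        exact zero_mem _
      · exact cond_diag (by rw [C11]; exact hdiagJ G₁ hh₁ _)
      · have h0 : j ≠ i₀ := fun h => by rw [h, hv0] at hj; omega
        have h1 : j ≠ i₁ := fun h => by rw [h, hv1] at hj; omega
        exact cond_zero (by rw [hv1]; omega) (Crow j h0 h1).2
    · have h0 : i ≠ i₀ := fun h => by rw [h, hv0] at hi; omega
      have h1 : i ≠ i₁ := fun h => by rw [h, hv1] at hi; omega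
      have hj : j.val < 2 * k + 2 := by
        rcases hij with h | h
        · omega
        · exact h
      rcases hcases j hjl with rfl | rfl | hj'
      · exact cond_zero (by rw [hv0]; omega) (Ccol i h0 h1).1
      · exact cond_zero (by rw [hv1]; omega) (Ccol i h0 h1).2
      · omega

include hlam hNm hid h2 in
theorem main [Nontrivial A] {h : Matrix (Fin n) (Fin n) A} (hG : IsUnit h)
    (hh : Herm lam (-1) h) :
    ∀ k : ℕ, 2 * k ≤ n → ∃ v : Matrix (Fin n) (Fin n) A, IsUnit v ∧ Blk (2 * k) (cg lam v h) := by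
  intro k
  induction k with
  | zero =>
    intro _
    refine ⟨1, isUnit_one, ?_⟩
    intro i j hij
    omega
  | succ k ih =>
    intro hk
    obtain ⟨v, hv, hB⟩ := ih (by omega)
    obtain ⟨_, v', hv', hB'⟩ := step lam hlam hNm hid h2 k (by omega) (isUnit_cg lam hv hG)
      (herm_cg lam hlam hh v) hB
    refine ⟨v * v', hv.mul hv', ?_⟩
    rw [cg_mul]
    have : 2 * (k + 1) = 2 * k + 2 := by ring
    rw [this]
    exact hB'

include hlam hNm hid h2 in
theorem even_and_exists [Nontrivial A] {h : Matrix (Fin n) (Fin n) A} (hG : IsUnit h)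
    (hh : Herm lam (-1) h) :
    Even n ∧ ∃ v : Matrix (Fin n) (Fin n) A, IsUnit v ∧ ∀ i j : Fin n, Cond (cg lam v h) i j := by
  have hev : Even n := by
    by_contra hodd
    rw [Nat.not_even_iff_odd] at hodd
    obtain ⟨k, hk⟩ := hodd
    obtain ⟨v, hv, hB⟩ := main lam hlam hNm hid h2 hG hh k (by omega)
    have := (step lam hlam hNm hid h2 k (by omega) (isUnit_cg lam hv hG)
      (herm_cg lam hlam hh v) hB).1
    omega
  refine ⟨hev, ?_⟩
  obtain ⟨k, hk⟩ := hev
  obtain ⟨v, hv, hB⟩ := main lam hlam hNm hid h2 hG hh k (by omega)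
  refine ⟨v, hv, fun i j => hB i j (Or.inl ?_)⟩
  have := i.isLt
  omega

end Main

end Groth.Agent.Lib.Helper16Skew
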