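import Mathlib

set_option autoImplicit false
set_option linter.style.haveILetI false
set_option linter.unusedSectionVars false

universe u

namespace Groth.Agent.Lib.Helper16Stair

open Finset

/-- staircase exponent vectors -/
abbrev Stair (n : ℕ) := (i : Fin n) → Fin (n - (i : ℕ))

/-- staircase monomial in given elements -/
def smon {T : Type*} [CommMonoid T] {n : ℕ} (t : Fin n → T) (d : Stair n) : T :=
  ∏ i, t i ^ ((d i : ℕ))

def stairCons {n : ℕ} (j : Fin (n+1)) (d : Stair n) : Stair (n+1) :=
  fun i => Fin.cases (motive := fun i : Fin (n+1) => Fin (n + 1 - (i : ℕ)))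
    (Fin.cast (by simp) j) (fun i => Fin.cast (by simp) (d i)) i

@[simp] lemma stairCons_zero {n : ℕ} (j : Fin (n+1)) (d : Stair n) :
    ((stairCons j d 0 : Fin _) : ℕ) = j := by
  rfl

@[simp] lemma stairCons_succ {n : ℕ} (j : Fin (n+1)) (d : Stair n) (i : Fin n) :
    ((stairCons j d i.succ : Fin _) : ℕ) = d i := by
  unfold stairCons
  rw [Fin.cases_succ]
  rfl

def stairHead {n : ℕ} (d : Stair (n+1)) : Fin (n+1) := Fin.cast (by simp) (d 0)

def stairTail {n : ℕ} (d : Stair (n+1)) : Stair n := fun i => Fin.cast (by simp) (d i.succ)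

@[simp] lemma stairHead_val {n : ℕ} (d : Stair (n+1)) : ((stairHead d : Fin (n+1)) : ℕ) = d 0 := by
  rfl

@[simp] lemma stairTail_val {n : ℕ} (d : Stair (n+1)) (i : Fin n) :
    ((stairTail d i : Fin _) : ℕ) = d i.succ := by
  rfl

lemma stair_ext {n : ℕ} {d d' : Stair (n+1)} (h0 : stairHead d = stairHead d')
    (h1 : stairTail d = stairTail d') : d = d' := by
  funext i
  refine Fin.cases ?_ (fun i => ?_) i
  · have := congrArg (fun e : Fin (n+1) => (e : ℕ)) h0
    simp only [stairHead_val] at this
    exact Fin.ext this
  · have := congrArg (fun e : Stair n => ((e i : Fin _) : ℕ)) h1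
    simp only [stairTail_val] at this
    exact Fin.ext this

lemma smon_succ {T : Type*} [CommMonoid T] {n : ℕ} (t : Fin (n+1) → T) (d : Stair (n+1)) :
    smon t d = t 0 ^ ((stairHead d : Fin (n+1)) : ℕ) * smon (fun i => t i.succ) (stairTail d) := by
  simp [smon, Fin.prod_univ_succ]

lemma smon_stairCons {T : Type*} [CommMonoid T] {n : ℕ} (t : Fin (n+1) → T) (j : Fin (n+1))
    (d : Stair n) :
    smon t (stairCons j d) = t 0 ^ (j : ℕ) * smon (fun i => t i.succ) d := by
  simp [smon, Fin.prod_univ_succ]

lemma esymm_cons {R : Type*} [CommSemiring R] (a : R) (s : Multiset R) (k : ℕ) :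
    (a ::ₘ s).esymm (k+1) = s.esymm (k+1) + a * s.esymm k := by
  simp only [Multiset.esymm, Multiset.powersetCard_cons, Multiset.map_add, Multiset.sum_add,
    Multiset.map_map]
  congr 1
  rw [← Multiset.sum_map_mul_left]
  congr 1
  apply Multiset.map_congr rfl
  intro x _
  simp

lemma esymm_zero' {R : Type*} [CommSemiring R] (s : Multiset R) : s.esymm 0 = 1 := by
  simp [Multiset.esymm]

lemma esymm_of_card_lt {R : Type*} [CommSemiring R] (s : Multiset R) (k : ℕ)
    (h : Multiset.card s < k) : s.esymm k = 0 := by
  simp [Multiset.esymm, Multiset.powersetCard_eq_empty k h]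

lemma univ_map_succ {T : Type*} {n : ℕ} (t : Fin (n+1) → T) :
    (univ : Finset (Fin (n+1))).val.map t
      = t 0 ::ₘ (univ : Finset (Fin n)).val.map (fun i => t i.succ) := by
  rw [Fin.univ_succ]
  simp [Function.comp_def]

/-! ### The tower model -/

open Polynomial in
/-- auxiliary polynomials: `B 0 = 1`, `B (k+1) = a_k - X * B k`. -/
noncomputable def Bpoly {R : Type u} [CommRing R] {m : ℕ} (a : Fin m → R) : ℕ → Polynomial R
  | 0 => 1
  | k+1 => Polynomial.C (if h : k < m then a ⟨k, h⟩ else 0) - Polynomial.X * Bpoly a k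

open Polynomial in
lemma Bpoly_coeff {R : Type u} [CommRing R] {m : ℕ} (a : Fin m → R) (k : ℕ) :
    (Bpoly a k).coeff k = (-1) ^ k ∧ ∀ j, k < j → (Bpoly a k).coeff j = 0 := by
  induction k with
  | zero =>
    refine ⟨by simp [Bpoly], fun j hj => ?_⟩
    simp only [Bpoly]
    rw [Polynomial.coeff_one]
    simp [Nat.ne_of_gt hj]
  | succ k ih =>
    constructor
    · simp only [Bpoly, Polynomial.coeff_sub, Polynomial.coeff_C_succ, Polynomial.coeff_X_mul,
        ih.1]
      ring
    · intro j hj
      obtain ⟨j', rfl⟩ : ∃ j', j = j' + 1 := ⟨j - 1, by omega⟩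
      simp only [Bpoly, Polynomial.coeff_sub, Polynomial.coeff_C_succ, Polynomial.coeff_X_mul,
        ih.2 j' (by omega)]
      ring

/-- A model of the universal splitting algebra: an `R`-algebra with elements `t i` whose
elementary symmetric functions are the `a i` and whose staircase monomials are independent. -/
structure StairModel (n : ℕ) (R : Type u) [CommRing R] (a : Fin n → R) where
  T : Type u
  [ring : CommRing T]
  [alg : Algebra R T]
  t : Fin n → T
  esymm_eq : ∀ i : Fin n, (Finset.univ.val.map t).esymm ((i : ℕ) + 1) = algebraMap R T (a i)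
  indep : LinearIndependent R (fun d : Stair n => smon t d)

theorem nonempty_stairModel (n : ℕ) : ∀ (R : Type u) [CommRing R] (a : Fin n → R),
    Nonempty (StairModel n R a) := by
  induction n with
  | zero =>
    intro R _ a
    refine ⟨{ T := R, t := fun i => i.elim0, esymm_eq := fun i => i.elim0, indep := ?_ }⟩
    rw [Fintype.linearIndependent_iff]
    intro g hg d
    rw [Fintype.sum_unique] at hg
    have h1 : smon (fun i : Fin 0 => (i.elim0 : R)) (default : Stair 0) = 1 := by
      simp [smon]
    rw [h1, smul_eq_mul, mul_one] at hg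
    rw [Subsingleton.elim d default]
    exact hg
  | succ n ih =>
    intro R _ a
    rcases subsingleton_or_nontrivial R with hR | hR
    · refine ⟨{ T := R, t := 0, esymm_eq := fun i => Subsingleton.elim _ _, indep := ?_ }⟩
      rw [Fintype.linearIndependent_iff]
      intro g _ d
      exact Subsingleton.elim _ _
    · -- the polynomial f
      let f : Polynomial R := ((-1 : R) ^ (n + 1)) • Bpoly a (n + 1)
      have hcoeff : f.coeff (n + 1) = 1 := by
        simp only [f, Polynomial.coeff_smul, (Bpoly_coeff a (n + 1)).1, smul_eq_mul]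
        rw [← mul_pow]; simp
      have hdeg : f.natDegree ≤ (n + 1) := by
        rw [Polynomial.natDegree_le_iff_coeff_eq_zero]
        intro N hN
        simp only [f, Polynomial.coeff_smul, (Bpoly_coeff a (n + 1)).2 N hN, smul_zero]
      have hf : f.Monic := Polynomial.monic_of_natDegree_le_of_coeff_eq_one (n + 1) hdeg hcoeff
      have hdeg' : f.natDegree = (n + 1) :=
        le_antisymm hdeg (Polynomial.le_natDegree_of_ne_zero (by rw [hcoeff]; exact one_ne_zero))
      let A := AdjoinRoot f
      let τ : A := AdjoinRoot.root f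
      let b' : ℕ → A := fun k => AdjoinRoot.mk f (Bpoly a k)
      have hb0 : b' 0 = 1 := by simp [b', Bpoly]
      have hbs : ∀ k, b' (k + 1)
          = algebraMap R A (if h : k < (n + 1) then a ⟨k, h⟩ else 0) - τ * b' k := by
        intro k
        simp only [b', Bpoly, map_sub, map_mul, AdjoinRoot.mk_C, AdjoinRoot.mk_X]
        rfl
      have hbm : b' (n + 1) = 0 := by
        have : Bpoly a (n + 1) = ((-1 : R) ^ (n + 1)) • f := by
          simp only [f, smul_smul]
          rw [← mul_pow]; simp
        simp only [b']
        rw [this, Polynomial.smul_eq_C_mul, map_mul, AdjoinRoot.mk_self, mul_zero]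
      obtain ⟨M⟩ := ih A (fun i : Fin n => b' ((i : ℕ) + 1))
      letI := M.ring
      letI := M.alg
      letI algRT : Algebra R M.T := ((algebraMap A M.T).comp (algebraMap R A)).toAlgebra
      haveI : IsScalarTower R A M.T := IsScalarTower.of_algebraMap_eq (fun x => rfl)
      let τT : M.T := algebraMap A M.T τ
      -- esymm of the tail
      have hE' : ∀ k, k ≤ (n + 1) → (Finset.univ.val.map M.t).esymm k = algebraMap A M.T (b' k) := by
        intro k hk
        rcases Nat.eq_zero_or_pos k with h0 | h0
        · subst h0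
          rw [esymm_zero', hb0, map_one]
        · rcases Nat.lt_or_ge k (n + 1) with h1 | h1
          · have := M.esymm_eq ⟨k - 1, by omega⟩
            simp only at this
            rw [show k - 1 + 1 = k by omega] at this
            exact this
          · have hkm : k = (n + 1) := le_antisymm hk h1
            rw [hkm, hbm, map_zero]
            apply esymm_of_card_lt
            simp
      refine ⟨{ T := M.T, t := Fin.cons τT M.t, esymm_eq := ?_, indep := ?_ }⟩
      · intro i
        rw [univ_map_succ, esymm_cons]
        simp only [Fin.cons_zero, Fin.cons_succ]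
        rw [hE' _ (by omega), hE' _ (by omega), hbs]
        have hi : (i : ℕ) < (n + 1) := i.isLt
        rw [dif_pos hi]
        simp only [τT]
        rw [map_sub, map_mul]
        rw [sub_add_cancel]
        rfl
      · have hb : LinearIndependent R (fun j : Fin (n + 1) => τ ^ (j : ℕ)) := by
          let pb := AdjoinRoot.powerBasis' hf
          have h1 := pb.basis.linearIndependent
          have hd : pb.dim = n + 1 := by
            simp [pb, hdeg']
          have h2 := h1.comp (finCongr hd.symm) (finCongr hd.symm).injective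
          convert h2 using 1
          funext j
          simp [pb, τ]
        have hc := M.indep
        have h3 := linearIndependent_smul hb hc
        have h4 := h3.comp (fun d : Stair (n + 1) => (stairHead d, stairTail d))
          (by
            intro d d' h
            simp only [Prod.mk.injEq] at h
            exact stair_ext h.1 h.2)
        convert h4 using 1
        funext d
        rw [smon_succ]
        simp only [Fin.cons_zero, Fin.cons_succ, Function.comp_apply, τT]
        rw [Algebra.smul_def, map_pow]

/-! ### Abstract spanning -/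

theorem span_stair (n : ℕ) : ∀ (T : Type u) [CommRing T] (S : Subring T) (t : Fin n → T),
    (∀ k, (Finset.univ.val.map t).esymm k ∈ S) →
    ∀ x ∈ Subring.closure ((S : Set T) ∪ Set.range t),
      x ∈ Submodule.span S (Set.range fun d : Stair n => smon t d) := by
  induction n with
  | zero =>
    intro T _ S t hE x hx
    have hr : Set.range t = ∅ := Set.range_eq_empty t
    rw [hr, Set.union_empty, Subring.closure_eq] at hx
    have h1 : smon t (fun i => i.elim0) = 1 := by simp [smon]
    have : x = (⟨x, hx⟩ : S) • smon t (fun i => i.elim0) := by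
      rw [h1, Subring.smul_def]; simp
    rw [this]
    exact Submodule.smul_mem _ _ (Submodule.subset_span ⟨_, rfl⟩)
  | succ n ih =>
    intro T _ S t hE x hx
    obtain ⟨t0, ht0def⟩ : ∃ t0, t0 = t 0 := ⟨_, rfl⟩
    obtain ⟨t', ht'def⟩ : ∃ t' : Fin n → T, t' = fun i => t i.succ := ⟨_, rfl⟩
    let E : ℕ → T := fun k => (Finset.univ.val.map t).esymm k
    let E' : ℕ → T := fun k => (Finset.univ.val.map t').esymm k
    have hrel : ∀ k, E (k+1) = E' (k+1) + t0 * E' k := fun k => by
      simp only [E, E']; rw [univ_map_succ, esymm_cons, ht0def, ht'def]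
    have hE0 : E' 0 = 1 := esymm_zero' _
    have hE00 : E 0 = 1 := esymm_zero' _
    let S' : Subring T := Subring.closure ((S : Set T) ∪ {t0})
    have hSS' : ∀ s ∈ S, s ∈ S' := fun s hs => Subring.subset_closure (Or.inl hs)
    have ht0 : t0 ∈ S' := Subring.subset_closure (Or.inr rfl)
    have hrel' : ∀ k, E' (k+1) = E (k+1) - t0 * E' k := fun k => by rw [hrel]; ring
    have hE'S : ∀ k, E' k ∈ S' := by
      intro k
      induction k with
      | zero => rw [hE0]; exact S'.one_mem
      | succ k ihk =>
        rw [hrel']
        exact S'.sub_mem (hSS' _ (hE _)) (S'.mul_mem ht0 ihk)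
    -- expansion of E'
    have hexp : ∀ k, E' k = ∑ j ∈ Finset.range (k+1), (-t0)^j * E (k - j) := by
      intro k
      induction k with
      | zero => simp [hE0, hE00]
      | succ k ihk =>
        rw [Finset.sum_range_succ', hrel', ihk, Finset.mul_sum]
        simp only [pow_zero, one_mul, Nat.sub_zero, Nat.add_sub_add_right]
        rw [sub_eq_add_neg, add_comm, ← Finset.sum_neg_distrib]
        congr 1
        apply Finset.sum_congr rfl
        intro j _
        ring
    let M0 : Submodule S T := Submodule.span S (Set.range fun j : Fin (n+1) => t0 ^ (j:ℕ))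
    have hpowlt : ∀ j, j < n+1 → t0^j ∈ M0 := fun j hj =>
      Submodule.subset_span ⟨⟨j,hj⟩, rfl⟩
    have hSsmul : ∀ s ∈ S, ∀ y ∈ M0, s * y ∈ M0 := fun s hs y hy => by
      have := M0.smul_mem (⟨s,hs⟩ : S) hy
      rwa [Subring.smul_def, smul_eq_mul] at this
    have hm1 : ∀ j : ℕ, ((-1 : T))^j ∈ S := fun j => S.pow_mem (S.neg_mem S.one_mem) j
    -- top power
    have htop : t0^(n+1) ∈ M0 := by
      have h0 : E' (n+1) = 0 := esymm_of_card_lt _ _ (by simp)
      have h1 := hexp (n+1)
      rw [h0, Finset.sum_range_succ] at h1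
      simp only [Nat.sub_self, hE00, mul_one] at h1
      have h2 : (-t0)^(n+1) = - ∑ j ∈ Finset.range (n+1), (-t0)^j * E (n+1-j) := by
        linear_combination -h1
      have h3 : t0^(n+1) = (-1:T)^(n+1) * (-t0)^(n+1) := by
        rw [← mul_pow]; simp
      rw [h3]
      apply hSsmul _ (hm1 _)
      rw [h2]
      apply M0.neg_mem
      refine M0.sum_mem (fun j hj => ?_)
      have hj' : j < n + 1 := Finset.mem_range.1 hj
      have : (-t0)^j * E (n+1-j) = ((-1:T)^j * E (n+1-j)) * t0^j := by
        rw [neg_pow]; ring
      rw [this]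
      exact hSsmul _ (S.mul_mem (hm1 _) (hE _)) _ (hpowlt j hj')
    have ht0mul : ∀ y ∈ M0, t0 * y ∈ M0 := by
      intro y hy
      induction hy using Submodule.span_induction with
      | mem y hy =>
        obtain ⟨j, rfl⟩ := hy
        rw [← pow_succ']
        by_cases hj : (j : ℕ) + 1 < n + 1
        · exact hpowlt _ hj
        · have : (j : ℕ) + 1 = n + 1 := by omega
          rw [this]; exact htop
      | zero => simp
      | add y z _ _ hy hz => rw [mul_add]; exact M0.add_mem hy hz
      | smul s y _ hy =>
        rw [Subring.smul_def, smul_eq_mul, mul_left_comm]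
        exact hSsmul _ s.2 _ hy
    have hS'M0 : ∀ x ∈ S', x ∈ M0 := by
      have hQ : ∀ x ∈ S', ∀ y ∈ M0, x * y ∈ M0 := by
        intro x hx
        induction hx using Subring.closure_induction with
        | mem x hx =>
          rcases hx with hx | hx
          · exact hSsmul x hx
          · rw [Set.mem_singleton_iff.1 hx]; exact ht0mul
        | zero => intro y _; simp
        | one => intro y hy; simpa using hy
        | add x z _ _ hx hz => intro y hy; rw [add_mul]; exact M0.add_mem (hx y hy) (hz y hy)
        | neg x _ hx => intro y hy; rw [neg_mul]; exact M0.neg_mem (hx y hy)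
        | mul x z _ _ hx hz => intro y hy; rw [mul_assoc]; exact hx _ (hz y hy)
      intro x hx
      have := hQ x hx 1 (by simpa using hpowlt 0 (by omega))
      simpa using this
    have hx' : x ∈ Subring.closure ((S' : Set T) ∪ Set.range t') := by
      refine Subring.closure_mono ?_ hx
      rintro y (hy | ⟨i, rfl⟩)
      · exact Or.inl (hSS' _ hy)
      · refine Fin.cases ?_ (fun i => ?_) i
        · exact Or.inl (ht0def ▸ ht0)
        · exact Or.inr ⟨i, by rw [ht'def]⟩
    have hx'' := ih T S' t' hE'S x hx'
    let N : Submodule S T := Submodule.span S (Set.range fun d : Stair (n+1) => smon t d)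
    have hMN : ∀ d' : Stair n, ∀ y ∈ M0, y * smon t' d' ∈ N := by
      intro d' y hy
      induction hy using Submodule.span_induction with
      | mem y hy =>
        obtain ⟨j, rfl⟩ := hy
        have := smon_stairCons t j d'
        rw [← ht0def, ← ht'def] at this
        rw [← this]
        exact Submodule.subset_span ⟨_, rfl⟩
      | zero => simp
      | add y z _ _ hy hz => rw [add_mul]; exact N.add_mem hy hz
      | smul s y _ hy => rw [smul_mul_assoc]; exact N.smul_mem s hy
    obtain ⟨c, hc⟩ := (Submodule.mem_span_range_iff_exists_fun S').1 hx''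
    rw [← hc]
    refine N.sum_mem (fun d' _ => ?_)
    rw [Subring.smul_def, smul_eq_mul]
    exact hMN d' _ (hS'M0 _ (c d').2)

/-! ### Consequences for `R[t]/(e_i - a_i)` -/

open MvPolynomial in
/-- the ideal generated by `e_{i+1}(t) - a_i`. -/
noncomputable def esIdeal {R : Type u} [CommRing R] {n : ℕ} (a : Fin n → R) :
    Ideal (MvPolynomial (Fin n) R) :=
  Ideal.span (Set.range fun i : Fin n =>
    MvPolynomial.esymm (Fin n) R ((i : ℕ) + 1) - MvPolynomial.C (a i))

lemma map_esymm_eq {R : Type u} [CommRing R] {T : Type*} [CommRing T] {n : ℕ}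
    (φ : MvPolynomial (Fin n) R →+* T) (k : ℕ) :
    φ (MvPolynomial.esymm (Fin n) R k)
      = (Finset.univ.val.map fun i => φ (MvPolynomial.X i)).esymm k := by
  rw [Finset.esymm_map_val]
  simp only [MvPolynomial.esymm, map_sum, map_prod]

lemma map_smon {R : Type u} [CommRing R] {T : Type*} [CommRing T] {n : ℕ}
    (φ : MvPolynomial (Fin n) R →+* T) (d : Stair n) :
    φ (smon (fun i => (MvPolynomial.X i : MvPolynomial (Fin n) R)) d)
      = smon (fun i => φ (MvPolynomial.X i)) d := by
  simp only [smon, map_prod, map_pow]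

theorem indep_mod {R : Type u} [CommRing R] {n : ℕ} (a : Fin n → R) (J : Ideal R)
    (γ : Stair n → R)
    (h : (∑ d : Stair n, MvPolynomial.C (γ d) *
        smon (fun i => (MvPolynomial.X i : MvPolynomial (Fin n) R)) d)
      ∈ esIdeal a ⊔ Ideal.map (MvPolynomial.C : R →+* MvPolynomial (Fin n) R) J) :
    ∀ d, γ d ∈ J := by
  obtain ⟨M⟩ := nonempty_stairModel n (R ⧸ J) (fun i => Ideal.Quotient.mk J (a i))
  letI := M.ring
  letI := M.alg
  let ev : MvPolynomial (Fin n) R →+* M.T :=
    MvPolynomial.eval₂Hom ((algebraMap (R ⧸ J) M.T).comp (Ideal.Quotient.mk J)) M.t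
  have hevC : ∀ r, ev (MvPolynomial.C r) = algebraMap (R ⧸ J) M.T (Ideal.Quotient.mk J r) := by
    intro r; simp [ev]
  have hevX : ∀ i, ev (MvPolynomial.X i) = M.t i := by
    intro i; simp [ev]
  have hker : esIdeal a ⊔ Ideal.map (MvPolynomial.C : R →+* MvPolynomial (Fin n) R) J
      ≤ RingHom.ker ev := by
    refine sup_le (Ideal.span_le.2 ?_) (Ideal.map_le_iff_le_comap.2 ?_)
    · rintro _ ⟨i, rfl⟩
      change ev _ = 0
      rw [map_sub, map_esymm_eq, hevC]
      simp only [hevX]
      rw [M.esymm_eq i, sub_self]
    · intro r hr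
      change ev _ = 0
      rw [hevC, Ideal.Quotient.eq_zero_iff_mem.2 hr, map_zero]
  have h0 := hker h
  change ev _ = 0 at h0
  rw [map_sum] at h0
  have h1 : ∑ d : Stair n, (Ideal.Quotient.mk J (γ d)) • smon M.t d = 0 := by
    rw [← h0]
    apply Finset.sum_congr rfl
    intro d _
    rw [map_mul, hevC, map_smon, Algebra.smul_def]
    simp only [hevX]
  intro d
  have := Fintype.linearIndependent_iff.1 M.indep _ h1 d
  exact Ideal.Quotient.eq_zero_iff_mem.1 this

theorem span_mod {R : Type u} [CommRing R] {n : ℕ} (a : Fin n → R)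
    (x : MvPolynomial (Fin n) R) :
    ∃ c : Stair n → R, x - (∑ d : Stair n, MvPolynomial.C (c d) *
        smon (fun i => (MvPolynomial.X i : MvPolynomial (Fin n) R)) d) ∈ esIdeal a := by
  let I := esIdeal a
  let mk : MvPolynomial (Fin n) R →+* (MvPolynomial (Fin n) R ⧸ I) := Ideal.Quotient.mk I
  let S : Subring (MvPolynomial (Fin n) R ⧸ I) := (mk.comp MvPolynomial.C).range
  let t : Fin n → (MvPolynomial (Fin n) R ⧸ I) := fun i => mk (MvPolynomial.X i)
  have hE : ∀ k, (Finset.univ.val.map t).esymm k ∈ S := by
    intro k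
    have h1 : (Finset.univ.val.map t).esymm k = mk (MvPolynomial.esymm (Fin n) R k) :=
      (map_esymm_eq mk k).symm
    rcases Nat.eq_zero_or_pos k with h0 | h0
    · subst h0
      rw [esymm_zero']
      exact S.one_mem
    · rcases Nat.lt_or_ge n k with hk | hk
      · rw [esymm_of_card_lt _ _ (by simpa using hk)]
        exact S.zero_mem
      · rw [h1]
        have h2 : mk (MvPolynomial.esymm (Fin n) R k) = mk (MvPolynomial.C (a ⟨k - 1, by omega⟩)) := by
          apply (Ideal.Quotient.eq).2
          apply Ideal.subset_span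
          refine ⟨⟨k - 1, by omega⟩, ?_⟩
          simp only
          rw [show k - 1 + 1 = k by omega]
        rw [h2]
        exact ⟨_, rfl⟩
  have hcl : ∀ p : MvPolynomial (Fin n) R,
      mk p ∈ Subring.closure ((S : Set (MvPolynomial (Fin n) R ⧸ I)) ∪ Set.range t) := by
    intro p
    induction p using MvPolynomial.induction_on with
    | C r => exact Subring.subset_closure (Or.inl ⟨r, rfl⟩)
    | add p q hp hq => rw [map_add]; exact Subring.add_mem _ hp hq
    | mul_X p i hp =>
      rw [map_mul]
      exact Subring.mul_mem _ hp (Subring.subset_closure (Or.inr ⟨i, rfl⟩))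
  have h1 := span_stair n _ S t hE (mk x) (hcl x)
  obtain ⟨c, hc⟩ := (Submodule.mem_span_range_iff_exists_fun S).1 h1
  choose r hr using fun d => (c d).2
  refine ⟨r, ?_⟩
  apply (Ideal.Quotient.eq).1
  change mk x = mk _
  rw [← hc, map_sum]
  apply Finset.sum_congr rfl
  intro d _
  rw [map_mul, map_smon, Subring.smul_def, smul_eq_mul, ← hr d]
  rfl

end Groth.Agent.Lib.Helper16Stair
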