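import Mathlib
import Groth.Agent.Lib.Helper27CohSum
import Groth.Agent.Lib.Helper27SerreVan
import Groth.Agent.Lib.Helper23Serre
import Groth.Agent.S9819
import Groth.Agent.S0010

/-!
# Vanishing of quasi-coherent cohomology from vanishing on a generating class (helper27)

* `exists_epi_sigma_ft`: on a qcqs scheme every quasi-coherent module is a quotient of a coproduct of
  quasi-coherent modules of finite type (S9819);
* `vanishing_of_generating`: on a quasi-compact scheme with affine diagonal, if every quasi-coherent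
  module of finite type is a quotient of a quasi-coherent module in a class `PP` whose members have
  no cohomology in degrees `> n`, then no quasi-coherent module has cohomology in degrees `> n`.
-/

set_option autoImplicit false
set_option linter.style.haveILetI false
universe u
open CategoryTheory CategoryTheory.Limits Opposite TopologicalSpace AlgebraicGeometry

namespace Groth.Agent.Lib.Helper27QCohVanish

open Groth.Agent.Lib.Helper27CohSum Groth.Agent.Lib.Helper27SerreVan

variable {X : Scheme.{u}}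

/-- every quasi-coherent module on a qcqs scheme is a quotient of a coproduct of quasi-coherent
modules of finite type. -/
theorem exists_epi_sigma_ft [CompactSpace X] [QuasiSeparatedSpace X] (G : X.Modules)
    [G.IsQuasicoherent] :
    ∃ (A : Type u) (F : A → X.Modules) (i : ∀ a, F a ⟶ G), (∀ a, (F a).IsQuasicoherent) ∧
      (∀ a, CohB1.IsFT (F a)) ∧ Epi (Sigma.desc i) := by
  haveI : Coh.IsQCoh G := ‹G.IsQuasicoherent›
  let A : Type u := Σ U : X.affineOpens, G.val.obj (op (U : X.Opens))
  choose F i hmono hq hft g hg using fun a : A => Groth.Agent.S9819.result G a.1 a.2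
  refine ⟨A, F, i, hq, hft, ?_⟩
  apply Groth.Agent.Lib.Helper23.Serre.epi_of_locally_surjective
  intro V t x hx
  obtain ⟨_, ⟨V', hV', rfl⟩, hxV', hle⟩ :=
    X.isBasis_affineOpens.exists_subset_of_mem_open hx V.isOpen
  let U : X.affineOpens := ⟨V', hV'⟩
  let t' : G.val.obj (op (U : X.Opens)) := G.presheaf.map (homOfLE hle).op t
  let a : A := ⟨U, t'⟩
  refine ⟨V', hle, hxV', (Sigma.ι F a).app V' (g a), ?_⟩
  have h1 : (Sigma.desc i).app V' ((Sigma.ι F a).app V' (g a)) =
      (Sigma.ι F a ≫ Sigma.desc i).app V' (g a) := rfl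
  rw [h1, Sigma.ι_desc]
  exact hg a

theorem isAffineOpen_biInf (hd : ∀ V W : X.Opens, IsAffineOpen V → IsAffineOpen W →
      IsAffineOpen (V ⊓ W)) {ι : Type u} (U : ι → X.Opens) (hU : ∀ i, IsAffineOpen (U i))
    (s : Finset ι) (hs : s.Nonempty) : IsAffineOpen (⨅ i ∈ s, U i) := by
  classical
  induction hs using Finset.Nonempty.cons_induction with
  | singleton a =>
    have : (⨅ i ∈ ({a} : Finset ι), U i) = U a := by simp
    rw [this]
    exact hU a
  | cons a s ha hs ih =>
    have : (⨅ i ∈ Finset.cons a s ha, U i) = U a ⊓ ⨅ i ∈ s, U i := by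
      rw [Finset.cons_eq_insert, Finset.iInf_insert]
    rw [this]
    exact hd _ _ (hU a) ih

theorem epi_desc_comp {A : Type u} {P F : A → X.Modules} {G : X.Modules} (π : ∀ a, P a ⟶ F a)
    (i : ∀ a, F a ⟶ G) (hπ : ∀ a, Epi (π a)) (hi : Epi (Sigma.desc i)) :
    Epi (Sigma.desc (fun a => π a ≫ i a)) := by
  refine ⟨fun {Z} g h hgh => ?_⟩
  haveI := hi
  rw [← cancel_epi (Sigma.desc i)]
  apply Sigma.hom_ext
  intro a
  haveI := hπ a
  rw [← cancel_epi (π a)]
  have := congrArg (fun φ => Sigma.ι P a ≫ φ) hgh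
  simpa using this

/-- **Vanishing from a generating class.** -/
theorem vanishing_of_generating [CompactSpace X] [QuasiSeparatedSpace X]
    (t : ℕ) (U : Fin t → X.Opens) (hU : ∀ i, IsAffineOpen (U i)) (hcov : ⨆ i, U i = ⊤)
    (hd : ∀ V W : X.Opens, IsAffineOpen V → IsAffineOpen W → IsAffineOpen (V ⊓ W))
    (PP : X.Modules → Prop) (n : ℕ)
    (hPP : ∀ P, PP P → P.IsQuasicoherent ∧ ∀ i, n < i → Subsingleton (Coh.HH X P i))
    (hgen : ∀ F : X.Modules, F.IsQuasicoherent → CohB1.IsFT F →
      ∃ (P : X.Modules) (π : P ⟶ F), PP P ∧ Epi π)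
    (G : X.Modules) (hG : G.IsQuasicoherent) (i : ℕ) (hi : n < i) :
    Subsingleton (Coh.HH X G i) := by
  -- the cover reindexed in `Type u`
  let U' : ULift.{u} (Fin t) → X.Opens := fun j => U j.down
  have hcov' : ⨆ j, U' j = ⊤ := by
    apply le_antisymm le_top
    rw [← hcov]
    exact iSup_le fun j => le_iSup U' ⟨j⟩
  have hU' : ∀ s : Finset (ULift.{u} (Fin t)), s.Nonempty → IsAffineOpen (⨅ j ∈ s, U' j) :=
    fun s hs => isAffineOpen_biInf hd U' (fun j => hU j.down) s hs
  suffices key : ∀ k : ℕ, ∀ i : ℕ, n < i → t ≤ i + k → ∀ G : X.Modules, G.IsQuasicoherent →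
      Subsingleton (Coh.HH X G i) from key t i hi (Nat.le_add_left t i) G hG
  intro k
  induction k with
  | zero =>
    intro i _ hti G hG
    haveI : Coh.IsQCoh G := hG
    exact Groth.Agent.S0010.result X t U hU hcov hd G i (by simpa using hti)
  | succ k ih =>
    intro i hi hti G hG
    haveI := hG
    have hQ : ∀ K : X.Modules, K.IsQuasicoherent → Subsingleton (Coh.HH X K (i + 1)) :=
      fun K hK => ih (i + 1) (Nat.lt_succ_of_lt hi) (by omega) K hK
    obtain ⟨A, F, ι, hFq, hFt, hepi⟩ := exists_epi_sigma_ft G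
    choose P π hP hπ using fun a => hgen (F a) (hFq a) (hFt a)
    have hPq : ∀ a, (P a).IsQuasicoherent := fun a => (hPP _ (hP a)).1
    let φ : (∐ P) ⟶ G := Sigma.desc (fun a => π a ≫ ι a)
    haveI hφ : Epi φ := epi_desc_comp π ι hπ hepi
    haveI hq : (∐ P).IsQuasicoherent :=
      Groth.Agent.Lib.Helper23.QCohLocal.isQuasicoherent_colimit (Discrete.functor P)
        (fun j => hPq j.as)
    have hK : (kernel φ).IsQuasicoherent := Groth.Agent.Lib.Helper23.QCohLocal.isQuasicoherent_kernel φ
    let S : ShortComplex X.Modules := ShortComplex.mk (kernel.ι φ) φ (kernel.condition φ)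
    have hS : S.ShortExact :=
      ShortComplex.ShortExact.mk' (ShortComplex.exact_of_f_is_kernel _ (kernelIsKernel φ))
        (inferInstanceAs (Mono (kernel.ι φ))) hφ
    obtain ⟨p, rfl⟩ : ∃ p, i = p + 1 := ⟨i - 1, by omega⟩
    have h2 : Subsingleton (Coh.HH X (∐ P) (p + 1)) :=
      subsingleton_HH_coprod P U' hcov' hU' hPq p (fun a => (hPP _ (hP a)).2 (p + 1) hi)
    exact subsingleton_of_shortExact S hS (p + 1) h2 (hQ _ hK)

end Groth.Agent.Lib.Helper27QCohVanish
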