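import Mathlib
import Groth.Prelude.Def_MoreMor
import Groth.Agent.Lib.Helper16CohCoprod
import Groth.Agent.Lib.Helper27QCohVanish
import Groth.Agent.Lib.Helper27SerreVan
import Groth.Agent.Lib.Helper23QCohAbelian
import Groth.Agent.Lib.Helper11ChevB
import Groth.Agent.Lib.Helper2PullbackSec
import Groth.Agent.S9377
import Groth.Agent.S0012
import Groth.Agent.S0007
import Groth.Agent.S0016
import Groth.Agent.S1435

set_option autoImplicit false
set_option linter.style.haveILetI false
set_option linter.unusedSectionVars false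
universe u
open CategoryTheory CategoryTheory.Limits Opposite TopologicalSpace AlgebraicGeometry Abelian

namespace Groth.Agent.Lib.Helper16.StratCoh

open Groth.Agent.Lib.Helper23.QCohLocal

/-- an immersion from an affine scheme onto an open subset: the open is affine. -/
theorem isAffineOpen_of_immersion_range {X Z : Scheme.{u}} (ι : Z ⟶ X) [IsImmersion ι] [IsAffine Z]
    (U : X.Opens) (hU : Set.range ι = (U : Set X)) : IsAffineOpen U := by
  have hr : Set.range ι ⊆ Set.range U.ι := by rw [Scheme.Opens.range_ι, hU]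
  let ι' : Z ⟶ U.toScheme := IsOpenImmersion.lift U.ι ι hr
  have hfac : ι' ≫ U.ι = ι := IsOpenImmersion.lift_fac _ _ _
  haveI : IsPreimmersion (ι' ≫ U.ι) := by rw [hfac]; infer_instance
  haveI : IsPreimmersion ι' := IsPreimmersion.of_comp ι' U.ι
  have hsurj : Function.Surjective ι' := by
    intro u
    have hu : U.ι u ∈ Set.range ι := by
      rw [hU]
      have : U.ι u ∈ Set.range U.ι := ⟨u, rfl⟩
      rwa [Scheme.Opens.range_ι] at this
    obtain ⟨z, hz⟩ := hu
    refine ⟨z, U.ι.isOpenEmbedding.injective ?_⟩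
    rw [← Scheme.Hom.comp_apply, hfac, hz]
  haveI : IsClosedImmersion ι' :=
    IsClosedImmersion.of_isPreimmersion _ (by rw [hsurj.range_eq]; exact isClosed_univ)
  haveI : Surjective ι' := ⟨hsurj⟩
  exact Groth.Agent.Lib.Helper11.Chev.isAffine_of_isIntegralHom_of_surjective ι'

set_option backward.isDefEq.respectTransparency.types false in
/-- an affine immersion onto an open subset: the inclusion of the open is affine. -/
theorem isAffineHom_ι_of_immersion_range {X Z : Scheme.{u}} (ι : Z ⟶ X) [IsImmersion ι]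
    [IsAffineHom ι] (U : X.Opens) (hU : Set.range ι = (U : Set X)) : IsAffineHom U.ι := by
  apply isAffineHom_of_forall_exists_isAffineOpen
  intro x
  obtain ⟨V, hV, hxV⟩ : ∃ V : X.Opens, IsAffineOpen V ∧ x ∈ V := by
    obtain ⟨_, ⟨V, hV, rfl⟩, hxV, -⟩ :=
      X.isBasis_affineOpens.exists_subset_of_mem_open (Set.mem_univ x) isOpen_univ
    exact ⟨V, hV, hxV⟩
  refine ⟨V, hxV, hV, ?_⟩
  haveI : IsAffine (ι ⁻¹ᵁ V).toScheme := hV.preimage ι
  haveI : IsImmersion (ι ∣_ V) :=
    MorphismProperty.of_isPullback (P := @IsImmersion) (isPullback_morphismRestrict ι V).flip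
      inferInstance
  have hr : Set.range (ι ∣_ V) = ((V.ι ⁻¹ᵁ U : V.toScheme.Opens) : Set V.toScheme) := by
    ext v
    constructor
    · rintro ⟨z, rfl⟩
      change V.ι ((ι ∣_ V) z) ∈ U
      rw [← Scheme.Hom.comp_apply, morphismRestrict_ι, Scheme.Hom.comp_apply]
      have : ι ((ι ⁻¹ᵁ V).ι z) ∈ Set.range ι := ⟨_, rfl⟩
      rwa [hU] at this
    · intro hv
      have hv' : V.ι v ∈ (U : Set X) := hv
      rw [← hU] at hv'
      obtain ⟨z, hz⟩ := hv'
      have hzV : z ∈ ι ⁻¹ᵁ V := by
        change ι z ∈ V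
        rw [hz]
        exact v.2
      refine ⟨⟨z, hzV⟩, Subtype.ext ?_⟩
      rw [morphismRestrict_base_coe]
      exact hz
  have h1 : IsAffineOpen (V.ι ⁻¹ᵁ U) := isAffineOpen_of_immersion_range (ι ∣_ V) _ hr
  have h2 : IsAffineOpen (V.ι ''ᵁ (V.ι ⁻¹ᵁ U)) := h1.image_of_isOpenImmersion V.ι
  rw [Scheme.Hom.image_preimage_eq_opensRange_inf, Scheme.Opens.opensRange_ι] at h2
  rw [← Scheme.Hom.isAffineOpen_iff_of_isOpenImmersion U.ι,
    Scheme.Hom.image_preimage_eq_opensRange_inf, Scheme.Opens.opensRange_ι, inf_comm]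
  exact h2

/-- an affine stratification restricts to closed subschemes supported in a sublevel set. -/
theorem strat_restrict {X : Scheme.{u}} (n : ℕ) (s : X → Fin (n + 1 + 1))
    (hcl : ∀ i : Fin (n + 1 + 1), IsClosed {x : X | s x ≤ i})
    (hst : ∀ i : Fin (n + 1 + 1), ∃ (Z : Scheme.{u}) (ι : Z ⟶ X),
      IsImmersion ι ∧ IsAffine Z ∧ IsAffineHom ι ∧ Set.range ι = {x : X | s x = i})
    (J : X.IdealSheafData)
    (hJ : (J.support : Set X) ⊆ {x : X | s x ≤ Fin.castSucc (Fin.last n)}) :
    MoreMor.HasAffineStratification J.subscheme n := by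
  have hle : ∀ z : J.subscheme, (s (J.subschemeι z)).val < n + 1 := by
    intro z
    have hz : J.subschemeι z ∈ Set.range J.subschemeι := ⟨z, rfl⟩
    rw [Scheme.IdealSheafData.range_subschemeι] at hz
    have := hJ hz
    have h2 : (s (J.subschemeι z)).val ≤ n := by
      have := Fin.le_def.mp this
      simpa using this
    omega
  refine ⟨fun z => ⟨(s (J.subschemeι z)).val, hle z⟩, ?_, ?_⟩
  · intro i
    have : {z : J.subscheme | (⟨(s (J.subschemeι z)).val, hle z⟩ : Fin (n + 1)) ≤ i} =
        J.subschemeι ⁻¹' {x : X | s x ≤ Fin.castSucc i} := by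
      ext z
      change (⟨(s (J.subschemeι z)).val, hle z⟩ : Fin (n + 1)) ≤ i ↔
        s (J.subschemeι z) ≤ Fin.castSucc i
      rw [Fin.le_def, Fin.le_def]
      rfl
    rw [this]
    exact (hcl _).preimage J.subschemeι.continuous
  · intro i
    obtain ⟨Z, ι, h1, h2, h3, h4⟩ := hst (Fin.castSucc i)
    haveI := h1
    haveI := h2
    haveI := h3
    refine ⟨pullback ι J.subschemeι, pullback.snd ι J.subschemeι, inferInstance, inferInstance,
      MorphismProperty.of_isPullback (P := @IsAffineHom)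
        (IsPullback.of_hasPullback ι J.subschemeι) h3, ?_⟩
    rw [Scheme.Pullback.range_snd, h4]
    ext z
    change s (J.subschemeι z) = Fin.castSucc i ↔
      (⟨(s (J.subschemeι z)).val, hle z⟩ : Fin (n + 1)) = i
    rw [Fin.ext_iff, Fin.ext_iff]
    rfl


variable {X : Scheme.{u}}

/-- vanishing of the middle term. -/
theorem subsingleton_mid (S : ShortComplex X.Modules) (hS : S.ShortExact) (i : ℕ)
    (h1 : Subsingleton (Coh.HH X S.X₁ i)) (h3 : Subsingleton (Coh.HH X S.X₃ i)) :
    Subsingleton (Coh.HH X S.X₂ i) := by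
  have key : ∀ x : Coh.HH X S.X₂ i, x = 0 := by
    intro x
    obtain ⟨y, hy⟩ := Ext.covariant_sequence_exact₂ _ (shortExact_toAbF S hS) x
      (Subsingleton.elim (α := Coh.HH X S.X₃ i) _ _)
    have hy0 : y = 0 := @Subsingleton.elim _ h1 _ _
    rw [← hy, hy0, Ext.zero_comp]
    rfl
  exact ⟨fun x y => (key x).trans (key y).symm⟩

/-- vanishing of the left term. -/
theorem subsingleton_left (S : ShortComplex X.Modules) (hS : S.ShortExact) (i : ℕ)
    (h3 : Subsingleton (Coh.HH X S.X₃ i)) (h2 : Subsingleton (Coh.HH X S.X₂ (i + 1))) :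
    Subsingleton (Coh.HH X S.X₁ (i + 1)) := by
  have key : ∀ x : Coh.HH X S.X₁ (i + 1), x = 0 := by
    intro x
    obtain ⟨y, hy⟩ := Ext.covariant_sequence_exact₁ _ (shortExact_toAbF S hS) x
      (Subsingleton.elim (α := Coh.HH X S.X₂ (i + 1)) _ _) rfl
    have hy0 : y = 0 := @Subsingleton.elim _ h3 _ _
    rw [← hy, hy0, Ext.zero_comp]
    rfl
  exact ⟨fun x y => (key x).trans (key y).symm⟩

section Restr

attribute [local instance] Groth.Agent.Lib.Helper23.QCohLocal.restrictFunctor_isRightAdjoint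

variable (U : X.Opens)

/-- restriction to the open `U`. -/
noncomputable abbrev Rf : X.Modules ⥤ U.toScheme.Modules := Scheme.Modules.restrictFunctor U.ι

/-- the unit `F ⟶ j_* j^* F`. -/
noncomputable abbrev ηU (F : X.Modules) :
    F ⟶ (Scheme.Modules.pushforward U.ι).obj ((Rf U).obj F) :=
  (Scheme.Modules.restrictAdjunction U.ι).unit.app F

/-- modules vanishing on `U`. -/
def VanOn (K : X.Modules) : Prop := IsZero ((Rf U).obj K)

theorem isIso_Rf_ηU (F : X.Modules) : IsIso ((Rf U).map (ηU U F)) := by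
  have h := (Scheme.Modules.restrictAdjunction U.ι).left_triangle_components F
  haveI : IsIso ((Rf U).map (ηU U F) ≫
      (Scheme.Modules.restrictAdjunction U.ι).counit.app ((Rf U).obj F)) := by
    rw [h]
    infer_instance
  exact IsIso.of_isIso_comp_right _
    ((Scheme.Modules.restrictAdjunction U.ι).counit.app ((Rf U).obj F))

theorem vanOn_kernel_ηU (F : X.Modules) : VanOn U (kernel (ηU U F)) := by
  haveI := isIso_Rf_ηU U F
  exact (isZero_kernel_of_mono ((Rf U).map (ηU U F))).of_iso (PreservesKernel.iso (Rf U) (ηU U F))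

theorem vanOn_cokernel_ηU (F : X.Modules) : VanOn U (cokernel (ηU U F)) := by
  haveI := isIso_Rf_ηU U F
  exact (isZero_cokernel_of_epi ((Rf U).map (ηU U F))).of_iso
    (PreservesCokernel.iso (Rf U) (ηU U F))

theorem VanOn.of_mono {K K' : X.Modules} (hK : VanOn U K) (i : K' ⟶ K) [Mono i] : VanOn U K' :=
  IsZero.of_mono ((Rf U).map i) hK

theorem vanOn_sigma {A : Type u} (F : A → X.Modules) (h : ∀ a, VanOn U (F a)) : VanOn U (∐ F) := by
  have e : (Rf U).obj (∐ F) ≅ ∐ (fun a => (Rf U).obj (F a)) := PreservesCoproduct.iso (Rf U) F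
  refine IsZero.of_iso ?_ e
  rw [IsZero.iff_id_eq_zero]
  apply Sigma.hom_ext
  intro a
  exact (h a).eq_of_src _ _

theorem eq_zero_of_isZero {Y : Scheme.{u}} (M : Y.Modules) (hM : IsZero M) (V : Y.Opens)
    (s : M.presheaf.obj (op V)) : s = 0 := by
  have h := (IsZero.iff_id_eq_zero M).mp hM
  have h1 : ((𝟙 M : M ⟶ M).app V).hom s = ((0 : M ⟶ M).app V).hom s := by rw [h]
  rw [Scheme.Modules.Hom.zero_app] at h1
  exact h1

theorem subsingleton_stalk_of_vanOn (K : X.Modules) (hK : VanOn U K) (x : X) (hx : x ∈ U) :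
    Subsingleton (K.presheaf.stalk x) := by
  refine ⟨fun a b => ?_⟩
  have key : ∀ t : K.presheaf.stalk x, t = 0 := by
    intro t
    obtain ⟨V, m, s, rfl⟩ := TopCat.Presheaf.exists_germ_eq K.presheaf t
    let W : U.toScheme.Opens := U.ι ⁻¹ᵁ V
    have hle : U.ι ''ᵁ W ≤ V := by
      rw [Scheme.Hom.image_preimage_eq_opensRange_inf]
      exact inf_le_right
    have hxV' : x ∈ U.ι ''ᵁ W := by
      rw [Scheme.Hom.image_preimage_eq_opensRange_inf, Scheme.Opens.opensRange_ι]
      exact ⟨hx, m⟩
    have h0 : K.presheaf.map (homOfLE hle).op s = 0 :=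
      eq_zero_of_isZero ((Rf U).obj K) hK W (K.presheaf.map (homOfLE hle).op s)
    have h1 := TopCat.Presheaf.germ_res_apply K.presheaf (homOfLE hle) x hxV' s
    rw [← h1, h0, map_zero]
  exact (key a).trans (key b).symm

theorem support_subset_of_vanOn (K : X.Modules) (hK : VanOn U K) :
    CohB1.support K ⊆ (U : Set X)ᶜ := by
  intro x hx hxU
  exact hx (subsingleton_stalk_of_vanOn U K hK x hxU)

end Restr

/-- every quasi-coherent module on a qcqs scheme is a quotient of a coproduct of quasi-coherent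
submodules of finite type. -/
theorem exists_epi_sigma_ft_mono [CompactSpace X] [QuasiSeparatedSpace X] (G : X.Modules)
    [G.IsQuasicoherent] :
    ∃ (A : Type u) (F : A → X.Modules) (i : ∀ a, F a ⟶ G), (∀ a, Mono (i a)) ∧
      (∀ a, (F a).IsQuasicoherent) ∧ (∀ a, CohB1.IsFT (F a)) ∧ Epi (Sigma.desc i) := by
  haveI : Coh.IsQCoh G := ‹G.IsQuasicoherent›
  let A : Type u := Σ U : X.affineOpens, G.val.obj (op (U : X.Opens))
  choose F i hmono hq hft g hg using fun a : A => Groth.Agent.S9819.result G a.1 a.2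
  refine ⟨A, F, i, hmono, hq, hft, ?_⟩
  apply Groth.Agent.Lib.Helper23.Serre.epi_of_locally_surjective
  intro V t x hx
  obtain ⟨_, ⟨V', hV', rfl⟩, hxV', hle⟩ :=
    X.isBasis_affineOpens.exists_subset_of_mem_open hx V.isOpen
  let U : X.affineOpens := ⟨V', hV'⟩
  let t' : G.val.obj (op (U : X.Opens)) := G.presheaf.map (homOfLE hle).op t
  let a : A := ⟨U, t'⟩
  refine ⟨V', hle, hxV', (Sigma.ι F a).app V' (g a), ?_⟩
  have h1 : (Sigma.desc i).app V' ((Sigma.ι F a).app V' (g a)) =
      (Sigma.ι F a ≫ Sigma.desc i).app V' (g a) := rfl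
  rw [h1, Sigma.ι_desc]
  exact hg a

section Step

attribute [local instance] Groth.Agent.Lib.Helper23.QCohLocal.restrictFunctor_isRightAdjoint

variable (n : ℕ) [CompactSpace X] [QuasiSeparatedSpace X] (U : X.Opens)
  (IH : ∀ J : X.IdealSheafData, (J.support : Set X) ⊆ (U : Set X)ᶜ →
    ∀ (G : J.subscheme.Modules), G.IsQuasicoherent → ∀ m, n < m →
      Subsingleton (Coh.HH J.subscheme G m))

include IH in
theorem vanish_ft (F' : X.Modules) (hq : F'.IsQuasicoherent) (hft : CohB1.IsFT F')
    (hv : VanOn U F') (m : ℕ) (hm : n < m) : Subsingleton (Coh.HH X F' m) := by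
  obtain ⟨J, -, hiso, -, hsupp⟩ := Groth.Agent.S9377.result X F' hq hft
  have hJ : (J.support : Set X) ⊆ (U : Set X)ᶜ := by
    rw [hsupp]
    exact support_subset_of_vanOn U F' hv
  haveI := hq
  have hG : ((Scheme.Modules.pullback J.subschemeι).obj F').IsQuasicoherent :=
    Groth.Agent.Lib.Helper2.PullbackSec.isQuasicoherent_pullback J.subschemeι F'
  haveI : Coh.IsQCoh ((Scheme.Modules.pullback J.subschemeι).obj F') := hG
  have h1 := IH J hJ _ hG m hm
  obtain ⟨e⟩ := Groth.Agent.S0012.result J.subschemeι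
    ((Scheme.Modules.pullback J.subschemeι).obj F') m
  have h2 : Subsingleton (Coh.HH X ((Coh.push J.subschemeι).obj
      ((Scheme.Modules.pullback J.subschemeι).obj F')) m) := e.symm.toEquiv.subsingleton
  haveI := hiso
  exact Groth.Agent.Lib.Helper27SerreVan.subsingleton_HH_of_iso
    (asIso ((Scheme.Modules.pullbackPushforwardAdjunction J.subschemeι).unit.app F')) m h2

include IH in
theorem vanish_vanOn (K : X.Modules) (hK : K.IsQuasicoherent) (hv : VanOn U K) (m : ℕ)
    (hm : n < m) : Subsingleton (Coh.HH X K m) := by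
  obtain ⟨d, hd⟩ := Groth.Agent.S0016.result X
  suffices key : ∀ k : ℕ, ∀ m : ℕ, n < m → d ≤ m + k → ∀ K : X.Modules, K.IsQuasicoherent →
      VanOn U K → Subsingleton (Coh.HH X K m) from key d m hm (Nat.le_add_left d m) K hK hv
  intro k
  induction k with
  | zero =>
    intro m _ hdm K hK _
    exact hd K hK m (by simpa using hdm)
  | succ k ih =>
    intro m hm hdm K hK hv
    haveI := hK
    obtain ⟨A, F, ι, hmono, hFq, hFt, hepi⟩ := exists_epi_sigma_ft_mono K
    have hFv : ∀ a, VanOn U (F a) := fun a => by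
      haveI := hmono a
      exact hv.of_mono U (ι a)
    let φ : (∐ F) ⟶ K := Sigma.desc ι
    haveI hφ : Epi φ := hepi
    haveI hq : (∐ F).IsQuasicoherent :=
      isQuasicoherent_colimit (Discrete.functor F) (fun j => hFq j.as)
    have hKq : (kernel φ).IsQuasicoherent := isQuasicoherent_kernel φ
    have hKv : VanOn U (kernel φ) := (vanOn_sigma U F hFv).of_mono U (kernel.ι φ)
    let S : ShortComplex X.Modules := ShortComplex.mk (kernel.ι φ) φ (kernel.condition φ)
    have hS : S.ShortExact :=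
      ShortComplex.ShortExact.mk' (ShortComplex.exact_of_f_is_kernel _ (kernelIsKernel φ))
        (inferInstanceAs (Mono (kernel.ι φ))) hφ
    have h2 : Subsingleton (Coh.HH X (∐ F) m) :=
      Groth.Agent.Lib.Helper16.CohCoprod.subsingleton_HH_coprod_qcqs F hFq m
        (fun a => vanish_ft n U IH (F a) (hFq a) (hFt a) (hFv a) m hm)
    have h1 : Subsingleton (Coh.HH X (kernel φ) (m + 1)) :=
      ih (m + 1) (Nat.lt_succ_of_lt hm) (by omega) _ hKq hKv
    exact Groth.Agent.Lib.Helper27SerreVan.subsingleton_of_shortExact S hS m h2 h1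

include IH in
theorem step (hU : IsAffineOpen U) (hUι : IsAffineHom U.ι) (F : X.Modules)
    (hF : F.IsQuasicoherent) (p : ℕ) (hp : n + 1 < p) : Subsingleton (Coh.HH X F p) := by
  haveI := hF
  haveI := hUι
  haveI : IsAffine U.toScheme := hU
  set η := ηU U F with hη
  haveI hRq : ((Rf U).obj F).IsQuasicoherent := Scheme.Modules.isQuasicoherent_restrictFunctor U.ι F
  haveI hTq : ((Scheme.Modules.pushforward U.ι).obj ((Rf U).obj F)).IsQuasicoherent :=
    isQuasicoherent_pushforward U.ι ((Rf U).obj F)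
  have hKq : (kernel η).IsQuasicoherent := isQuasicoherent_kernel η
  have hQq : (cokernel η).IsQuasicoherent := isQuasicoherent_cokernel η
  have hK : Subsingleton (Coh.HH X (kernel η) p) :=
    vanish_vanOn n U IH _ hKq (vanOn_kernel_ηU U F) p (by omega)
  obtain ⟨q, rfl⟩ : ∃ q, p = q + 1 := ⟨p - 1, by omega⟩
  have hQ : Subsingleton (Coh.HH X (cokernel η) q) :=
    vanish_vanOn n U IH _ hQq (vanOn_cokernel_ηU U F) q (by omega)
  have hT : Subsingleton (Coh.HH X ((Scheme.Modules.pushforward U.ι).obj ((Rf U).obj F))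
      (q + 1)) := by
    haveI : Coh.IsQCoh ((Rf U).obj F) := hRq
    obtain ⟨e⟩ := Groth.Agent.S0012.result U.ι ((Rf U).obj F) (q + 1)
    haveI := Groth.Agent.S0007.result U.toScheme ((Rf U).obj F) (q + 1) (Nat.succ_pos q)
    exact e.symm.toEquiv.subsingleton
  -- the two short exact sequences
  let S2 : ShortComplex X.Modules :=
    ShortComplex.mk (kernel.ι (cokernel.π η)) (cokernel.π η) (kernel.condition _)
  have hS2 : S2.ShortExact :=
    ShortComplex.ShortExact.mk'
      (ShortComplex.exact_of_f_is_kernel _ (kernelIsKernel (cokernel.π η)))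
      (inferInstanceAs (Mono (kernel.ι (cokernel.π η)))) (inferInstanceAs (Epi (cokernel.π η)))
  have hIm : Subsingleton (Coh.HH X (Abelian.image η) (q + 1)) := subsingleton_left S2 hS2 q hQ hT
  let S1 : ShortComplex X.Modules :=
    ShortComplex.mk (kernel.ι η) (cokernel.π (kernel.ι η)) (cokernel.condition _)
  have hS1 : S1.ShortExact :=
    ShortComplex.ShortExact.mk'
      (ShortComplex.exact_of_g_is_cokernel _ (cokernelIsCokernel (kernel.ι η)))
      (inferInstanceAs (Mono (kernel.ι η))) (inferInstanceAs (Epi (cokernel.π (kernel.ι η))))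
  have hCoim : Subsingleton (Coh.HH X (Abelian.coimage η) (q + 1)) :=
    Groth.Agent.Lib.Helper27SerreVan.subsingleton_HH_of_iso (Abelian.coimageIsoImage η) (q + 1) hIm
  exact subsingleton_mid S1 hS1 (q + 1) hK hCoim

end Step

/-- **Cohomology vanishes above the affine stratification number.** -/
theorem vanishing_above_strat (n : ℕ) : ∀ (X : Scheme.{u}), MoreMor.HasAffineStratification X n →
    ∀ (F : X.Modules), F.IsQuasicoherent → ∀ p, n < p → Subsingleton (Coh.HH X F p) := by
  induction n with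
  | zero =>
    intro X hX F hF p hp
    obtain ⟨s, hcl, hst⟩ := hX
    obtain ⟨Z, ι, h1, h2, h3, h4⟩ := hst 0
    haveI := h1
    haveI := h2
    have hr : Set.range ι = ((⊤ : X.Opens) : Set X) := by
      rw [h4]
      ext x
      constructor
      · intro _
        trivial
      · intro _
        change s x = 0
        exact Fin.ext (by have := (s x).isLt; simp only [Fin.val_zero]; omega)
    have hA : IsAffineOpen (⊤ : X.Opens) := isAffineOpen_of_immersion_range ι ⊤ hr
    haveI : IsAffine (⊤ : X.Opens).toScheme := hA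
    haveI : IsAffine X := IsAffine.of_isIso X.topIso.inv
    haveI : Coh.IsQCoh F := hF
    exact Groth.Agent.S0007.result X F p hp
  | succ n ih =>
    intro X hX F hF p hp
    obtain ⟨hc, hqs⟩ := Groth.Agent.S1435.qcqs_of_strat X (n + 1) hX
    obtain ⟨s, hcl, hst⟩ := hX
    have hCcl : IsClosed {x : X | s x ≤ Fin.castSucc (Fin.last n)} := hcl _
    let U : X.Opens := ⟨{x : X | s x ≤ Fin.castSucc (Fin.last n)}ᶜ, hCcl.isOpen_compl⟩
    have hUeq : (U : Set X) = {x : X | s x = Fin.last (n + 1)} := by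
      ext x
      change ¬ (s x ≤ Fin.castSucc (Fin.last n)) ↔ s x = Fin.last (n + 1)
      rw [Fin.le_def, Fin.ext_iff]
      have := (s x).isLt
      simp only [Fin.val_castSucc, Fin.val_last]
      omega
    obtain ⟨Z, ι, h1, h2, h3, h4⟩ := hst (Fin.last (n + 1))
    haveI := h1
    haveI := h2
    haveI := h3
    have hr : Set.range ι = (U : Set X) := by rw [h4, hUeq]
    have hUaff := isAffineOpen_of_immersion_range ι U hr
    have hUι := isAffineHom_ι_of_immersion_range ι U hr
    refine step n U ?_ hUaff hUι F hF p hp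
    intro J hJ G hG m hm
    have hJ' : (J.support : Set X) ⊆ {x : X | s x ≤ Fin.castSucc (Fin.last n)} := by
      intro x hx
      by_contra hcon
      exact hJ hx hcon
    exact ih J.subscheme (strat_restrict n s hcl hst J hJ') G hG m hm

end Groth.Agent.Lib.Helper16.StratCoh
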