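import Mathlib

set_option autoImplicit false
set_option linter.style.haveILetI false
set_option linter.unusedSectionVars false

universe u

namespace Groth.Agent.Lib.Helper16Tame

open Module

section Additivity

variable {R V : Type*} [CommRing R] [AddCommGroup V]
    [Module R V] [Module.Finite R V]
    (W : Submodule R V) [Module.Free R W] [Module.Finite R W] [Module.Free R (V ⧸ W)]

open Module.Basis in
/-- Additivity of the trace along a stable submodule. -/
theorem trace_eq_trace_restrict_add_trace_mapQ (e : V →ₗ[R] V) (he : W ≤ W.comap e) :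
    LinearMap.trace R V e =
      LinearMap.trace R W (e.restrict he) + LinearMap.trace R (V ⧸ W) (W.mapQ W e he) := by
  let m := Module.Free.ChooseBasisIndex R W
  let bW : Basis m R W := Module.Free.chooseBasis R W
  let n := Module.Free.ChooseBasisIndex R (V ⧸ W)
  let bQ : Basis n R (V ⧸ W) := Module.Free.chooseBasis R (V ⧸ W)
  let b := sumQuot bW bQ
  let A : Matrix m m R := LinearMap.toMatrix bW bW (e.restrict he)
  let B : Matrix m n R := Matrix.of fun i l ↦
    ((sumQuot bW bQ).repr (e ((sumQuot bW bQ) (Sum.inr l)))) (Sum.inl i)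
  let D : Matrix n n R := LinearMap.toMatrix bQ bQ (W.mapQ W e he)
  suffices LinearMap.toMatrix b b e = Matrix.fromBlocks A B 0 D by
    rw [LinearMap.trace_eq_matrix_trace R b, this, LinearMap.trace_eq_matrix_trace R bW,
      LinearMap.trace_eq_matrix_trace R bQ]
    simp [Matrix.trace, Fintype.sum_sum_type, A, D]
  ext u v
  cases u with
  | inl i =>
    cases v with
    | inl k =>
      simp only [b, sumQuot_inl, Matrix.fromBlocks_apply₁₁, A, LinearMap.toMatrix_apply]
      apply sumQuot_repr_inl_of_mem
    | inr l => simp [b, LinearMap.toMatrix_apply, Matrix.fromBlocks_apply₁₂, B]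
  | inr j =>
    cases v with
    | inl k =>
      suffices W.mkQ (e (bW k)) = 0 by simp [LinearMap.toMatrix_apply, b, this]
      rw [← LinearMap.mem_ker, Submodule.ker_mkQ]
      exact he (Submodule.coe_mem (bW k))
    | inr l =>
      simp only [LinearMap.toMatrix_apply, sumQuot_repr_inr,
        Matrix.fromBlocks_apply₂₂, b, D]
      rw [← sumQuot_inr bW bQ l, W.mapQ_apply]
      simp

end Additivity

section Intertwine

variable {K M N : Type*} [CommRing K] [AddCommGroup M] [Module K M] [AddCommGroup N] [Module K N]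

theorem trace_eq_of_intertwine (E : M ≃ₗ[K] N) (a : M →ₗ[K] M) (b : N →ₗ[K] N)
    (h : ∀ x, E (a x) = b (E x)) : LinearMap.trace K M a = LinearMap.trace K N b := by
  have hb : b = E.conj a := by
    ext y
    rw [LinearEquiv.conj_apply]
    simp only [LinearMap.coe_comp, LinearEquiv.coe_coe, Function.comp_apply]
    rw [h, LinearEquiv.apply_symm_apply]
  rw [hb, LinearMap.trace_conj']

end Intertwine


section Nilp

variable {K : Type*} [Field K]

theorem restrict_pow_apply {V : Type*} [AddCommGroup V] [Module K V] (φ : V →ₗ[K] V)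
    (W : Submodule K V) (h : W ≤ W.comap φ) (n : ℕ) (w : W) :
    (((φ.restrict h) ^ n) w : V) = (φ ^ n) (w : V) := by
  induction n generalizing w with
  | zero => simp
  | succ n ih =>
    rw [pow_succ, pow_succ, Module.End.mul_apply, Module.End.mul_apply, ih]
    rfl

/-- Key induction: if `φ` is nilpotent of order `e`, "free" in the sense that
`ker φ ⊆ range φ^(e-1)`, and `g` commutes with `φ`, then
`trace g = e • trace (g on V / range φ)`. -/
theorem trace_eq_nsmul_trace_mapQ_range (e : ℕ) :
    ∀ (V : Type u) [AddCommGroup V] [Module K V] [FiniteDimensional K V] (φ g : V →ₗ[K] V)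
      (_ : ∀ x, φ (g x) = g (φ x)) (_ : ∀ x, (φ ^ e) x = 0)
      (_ : ∀ x, φ x = 0 → ∃ y, x = (φ ^ (e - 1)) y)
      (hst : LinearMap.range φ ≤ (LinearMap.range φ).comap g),
      LinearMap.trace K V g =
        e • LinearMap.trace K (V ⧸ LinearMap.range φ) ((LinearMap.range φ).mapQ _ g hst) := by
  induction e with
  | zero =>
    intro V _ _ _ φ g hc hnil hker hst
    have hV : ∀ x : V, x = 0 := fun x => by simpa using hnil x
    have hg : g = 0 := by
      ext x
      rw [hV (g x)]
      simp
    rw [zero_nsmul, hg, map_zero]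
  | succ e ih =>
    intro V _ _ _ φ g hc hnil hker hst
    have hφW : LinearMap.range φ ≤ (LinearMap.range φ).comap φ :=
      fun x _ => LinearMap.mem_range_self φ x
    have hc' : ∀ w, (φ.restrict (p := LinearMap.range φ) (q := LinearMap.range φ) hφW) ((g.restrict (p := LinearMap.range φ) (q := LinearMap.range φ) hst) w) = (g.restrict (p := LinearMap.range φ) (q := LinearMap.range φ) hst) ((φ.restrict (p := LinearMap.range φ) (q := LinearMap.range φ) hφW) w) :=
      fun w => Subtype.ext (hc w)
    have hnil' : ∀ w, ((φ.restrict (p := LinearMap.range φ) (q := LinearMap.range φ) hφW) ^ e) w = 0 := by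
      intro w
      obtain ⟨y, hy⟩ := w.2
      apply Subtype.ext
      rw [restrict_pow_apply, ← hy]
      have := hnil y
      rw [pow_succ, Module.End.mul_apply] at this
      exact this
    have hker' : ∀ w, (φ.restrict (p := LinearMap.range φ) (q := LinearMap.range φ) hφW) w = 0 → ∃ y', w = ((φ.restrict (p := LinearMap.range φ) (q := LinearMap.range φ) hφW) ^ (e - 1)) y' := by
      intro w hw
      have hw' : φ (w : V) = 0 := congrArg Subtype.val hw
      obtain ⟨y, hy⟩ := hker _ hw'
      simp only [Nat.add_sub_cancel] at hy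
      rcases Nat.eq_zero_or_pos e with he | he
      · exact ⟨w, by subst he; simp⟩
      · refine ⟨⟨φ y, LinearMap.mem_range_self φ y⟩, Subtype.ext ?_⟩
        rw [restrict_pow_apply, hy]
        conv_lhs => rw [← Nat.sub_add_cancel he, pow_succ, Module.End.mul_apply]
    have hst' : LinearMap.range (φ.restrict (p := LinearMap.range φ) (q := LinearMap.range φ) hφW) ≤
        (LinearMap.range (φ.restrict (p := LinearMap.range φ) (q := LinearMap.range φ) hφW)).comap (g.restrict (p := LinearMap.range φ) (q := LinearMap.range φ) hst) := by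
      rintro _ ⟨w, rfl⟩
      exact ⟨(g.restrict (p := LinearMap.range φ) (q := LinearMap.range φ) hst) w, hc' w⟩
    have IH := ih (LinearMap.range φ) (φ.restrict (p := LinearMap.range φ) (q := LinearMap.range φ) hφW) (g.restrict (p := LinearMap.range φ) (q := LinearMap.range φ) hst) hc' hnil' hker' hst'
    rw [trace_eq_trace_restrict_add_trace_mapQ (LinearMap.range φ) g hst, IH, succ_nsmul]
    congr 1
    rcases Nat.eq_zero_or_pos e with he | he
    · subst he
      simp
    congr 1
    symm
    -- the comparison map `V / range φ → range φ / range φ'`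
    have hle : LinearMap.range φ ≤
        LinearMap.ker ((LinearMap.range (φ.restrict (p := LinearMap.range φ) (q := LinearMap.range φ) hφW)).mkQ ∘ₗ φ.rangeRestrict) := by
      rintro _ ⟨y, rfl⟩
      rw [LinearMap.mem_ker, LinearMap.comp_apply, Submodule.mkQ_apply,
        Submodule.Quotient.mk_eq_zero]
      exact ⟨⟨φ y, LinearMap.mem_range_self φ y⟩, Subtype.ext rfl⟩
    let f : (V ⧸ LinearMap.range φ) →ₗ[K]
        (LinearMap.range φ ⧸ LinearMap.range (φ.restrict (p := LinearMap.range φ) (q := LinearMap.range φ) hφW)) :=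
      (LinearMap.range φ).liftQ _ hle
    have hf : ∀ x : V, f (Submodule.Quotient.mk x) =
        Submodule.Quotient.mk (φ.rangeRestrict x) := fun x => rfl
    have hinj : Function.Injective f := by
      rw [injective_iff_map_eq_zero]
      intro z hz
      induction z using Submodule.Quotient.induction_on with
      | H x =>
        rw [hf, Submodule.Quotient.mk_eq_zero] at hz
        obtain ⟨w, hw⟩ := hz
        have hw' : φ (w : V) = φ x := congrArg Subtype.val hw
        have h0 : φ (x - (w : V)) = 0 := by rw [map_sub, hw', sub_self]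
        obtain ⟨y, hy⟩ := hker _ h0
        simp only [Nat.add_sub_cancel] at hy
        rw [Submodule.Quotient.mk_eq_zero]
        have hx : x = (w : V) + (φ ^ e) y := by rw [← hy]; abel
        rw [hx]
        refine Submodule.add_mem _ w.2 ?_
        rw [← Nat.sub_add_cancel he, pow_succ', Module.End.mul_apply]
        exact LinearMap.mem_range_self φ _
    have hsurj : Function.Surjective f := by
      intro z
      induction z using Submodule.Quotient.induction_on with
      | H w =>
        obtain ⟨y, hy⟩ := w.2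
        exact ⟨Submodule.Quotient.mk y, by rw [hf]; congr 1; exact Subtype.ext hy⟩
    obtain ⟨E, hE⟩ : ∃ E : (V ⧸ LinearMap.range φ) ≃ₗ[K]
        (LinearMap.range φ ⧸ LinearMap.range
          (φ.restrict (p := LinearMap.range φ) (q := LinearMap.range φ) hφW)), ∀ z, E z = f z :=
      ⟨LinearEquiv.ofBijective f ⟨hinj, hsurj⟩, fun z => rfl⟩
    refine trace_eq_of_intertwine E _ _ ?_
    intro z
    induction z using Submodule.Quotient.induction_on with
    | H x =>
      rw [hE, hE, Submodule.mapQ_apply,
        hf, hf, Submodule.mapQ_apply]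
      congr 1
      exact Subtype.ext (hc x)

end Nilp


section Univ

variable {K : Type*} [Field K]

/-- Universal version of `trace_eq_nsmul_trace_mapQ_range`. -/
theorem trace_eq_nsmul_trace_of_quot {V : Type u} {Q : Type*} [AddCommGroup V] [Module K V]
    [FiniteDimensional K V] [AddCommGroup Q] [Module K Q]
    (e : ℕ) (φ g : V →ₗ[K] V) (hc : ∀ x, φ (g x) = g (φ x)) (hnil : ∀ x, (φ ^ e) x = 0)
    (hker : ∀ x, φ x = 0 → ∃ y, x = (φ ^ (e - 1)) y)
    (q : V →ₗ[K] Q) (hq : Function.Surjective q) (hqker : LinearMap.ker q = LinearMap.range φ)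
    (gQ : Q →ₗ[K] Q) (hgQ : ∀ x, q (g x) = gQ (q x)) :
    LinearMap.trace K V g = e • LinearMap.trace K Q gQ := by
  have hst : LinearMap.range φ ≤ (LinearMap.range φ).comap g := by
    rintro _ ⟨y, rfl⟩
    exact ⟨g y, hc y⟩
  rw [trace_eq_nsmul_trace_mapQ_range e V φ g hc hnil hker hst]
  congr 1
  obtain ⟨E, hE⟩ : ∃ E : (V ⧸ LinearMap.range φ) ≃ₗ[K] Q,
      ∀ x : V, E (Submodule.Quotient.mk x) = q x :=
    ⟨(Submodule.quotEquivOfEq _ _ hqker.symm).trans (q.quotKerEquivOfSurjective hq),
      fun x => rfl⟩
  refine trace_eq_of_intertwine E _ _ ?_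
  intro z
  induction z using Submodule.Quotient.induction_on with
  | H x => rw [Submodule.mapQ_apply, hE, hE, hgQ]

/-- Algebra version: `C` a finite `K`-algebra, `ϖ ∈ C` with `ϖ^e = 0`, `Ann ϖ ⊆ (ϖ^(e-1))`,
`q : C → L` surjective with kernel `(ϖ)`.  Then `Tr_{C/K}(c) = e • Tr_{L/K}(q c)`. -/
theorem algebra_trace_eq_nsmul {C : Type u} {L : Type*} [CommRing C] [Algebra K C]
    [FiniteDimensional K C] [CommRing L] [Algebra K L]
    (q : C →ₐ[K] L) (hq : Function.Surjective q) (ϖ : C)
    (hqker : RingHom.ker (q : C →+* L) = Ideal.span {ϖ}) (e : ℕ)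
    (hnil : ϖ ^ e = 0) (hker : ∀ x, ϖ * x = 0 → ∃ y, x = ϖ ^ (e - 1) * y) (c : C) :
    Algebra.trace K C c = e • Algebra.trace K L (q c) := by
  rw [Algebra.trace_apply, Algebra.trace_apply]
  have hpow : ∀ (n : ℕ) (x : C), ((Algebra.lmul K C ϖ) ^ n) x = ϖ ^ n * x := by
    intro n x
    rw [← map_pow]
    rfl
  refine trace_eq_nsmul_trace_of_quot e (Algebra.lmul K C ϖ) (Algebra.lmul K C c) ?_ ?_ ?_
    q.toLinearMap hq ?_ (Algebra.lmul K L (q c)) ?_
  · intro x
    change ϖ * (c * x) = c * (ϖ * x)
    ring
  · intro x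
    rw [hpow, hnil, zero_mul]
  · intro x hx
    obtain ⟨y, hy⟩ := hker x hx
    exact ⟨y, by rw [hpow]; exact hy⟩
  · ext x
    rw [LinearMap.mem_ker, LinearMap.mem_range]
    have h1 : q.toLinearMap x = 0 ↔ x ∈ RingHom.ker (q : C →+* L) := by
      rw [RingHom.mem_ker]
      rfl
    rw [h1, hqker, Ideal.mem_span_singleton']
    constructor
    · rintro ⟨a, ha⟩
      exact ⟨a, by rw [← ha]; exact mul_comm _ _⟩
    · rintro ⟨a, ha⟩
      exact ⟨a, by rw [← ha]; exact mul_comm _ _⟩
  · intro x
    change q (c * x) = q c * q x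
    exact map_mul q c x

end Univ

end Groth.Agent.Lib.Helper16Tame
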