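import Mathlib

set_option autoImplicit false
universe u
open CategoryTheory CategoryTheory.Limits

namespace Groth.Agent.Lib.Helper16.TensorCmp

variable {A : Type u} [CommRing A] (T : ModuleCat.{u} A ⥤ ModuleCat.{u} A) [T.Additive] [T.Linear A]

/-- `θ_x : A → M`, `a ↦ a • x`. -/
noncomputable abbrev θ {M : ModuleCat.{u} A} (x : M) : ModuleCat.of A A ⟶ M :=
  ModuleCat.ofHom ((LinearMap.ringLmapEquivSelf A A M).symm x)

@[simp] lemma θ_apply {M : ModuleCat.{u} A} (x : M) (a : A) : (θ x).hom a = a • x := by
  simp [θ]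

lemma θ_comp {M N : ModuleCat.{u} A} (x : M) (f : M ⟶ N) : θ x ≫ f = θ (f.hom x) := by
  ext
  simp

/-- the comparison map, in the exact form used by the statements. -/
noncomputable abbrev tM (M : ModuleCat.{u} A) :
    TensorProduct A (T.obj (ModuleCat.of A A)) M →ₗ[A] T.obj M :=
  TensorProduct.lift (LinearMap.flip
        ((ModuleCat.homLinearEquiv (S := A)).toLinearMap ∘ₗ Functor.mapLinearMap A T ∘ₗ
          (ModuleCat.homLinearEquiv (S := A)).symm.toLinearMap ∘ₗ
            (LinearMap.ringLmapEquivSelf A A M).symm.toLinearMap))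

lemma tM_tmul (M : ModuleCat.{u} A) (y : T.obj (ModuleCat.of A A)) (x : M) :
    tM T M (y ⊗ₜ x) = (T.map (θ x)).hom y := rfl

lemma tM_nat {M N : ModuleCat.{u} A} (f : M ⟶ N) (z : TensorProduct A (T.obj (ModuleCat.of A A)) M) :
    (T.map f).hom (tM T M z) = tM T N (LinearMap.lTensor _ f.hom z) := by
  induction z using TensorProduct.induction_on with
  | zero => simp
  | tmul y x =>
    rw [tM_tmul, LinearMap.lTensor_tmul, tM_tmul, ← θ_comp, T.map_comp]
    rfl
  | add a b ha hb => simp only [map_add, ha, hb]

section Free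

variable (L : ModuleCat.{u} A) {ι : Type u} (b : Module.Basis ι A L)

/-- the coproduct cocone on `L` given by a basis. -/
noncomputable def cofan : Cofan (fun _ : ι => ModuleCat.of A A) :=
  Cofan.mk L (fun i => θ (b i))

noncomputable def isColimitCofan : IsColimit (cofan L b) :=
  Cofan.IsColimit.mk _ (fun s => ModuleCat.ofHom (b.constr A (fun i => (s.inj i).hom 1)))
    (fun s i => by
      ext
      simp [cofan])
    (fun s m hm => by
      ext : 1
      apply b.ext
      intro i
      have h1 : (s.inj i).hom 1 = m.hom (b i) := by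
        rw [← hm i]
        change m.hom ((θ (b i)).hom 1) = _
        rw [θ_apply, one_smul]
      change m.hom (b i) = (b.constr A (fun i => (s.inj i).hom 1)) (b i)
      rw [Module.Basis.constr_basis]
      exact h1.symm)

variable [∀ J : Type u, PreservesColimitsOfShape (Discrete J) T]

noncomputable def invCocone : Cocone (Discrete.functor (fun _ : ι => ModuleCat.of A A) ⋙ T) where
  pt := ModuleCat.of A (TensorProduct A (T.obj (ModuleCat.of A A)) L)
  ι := Discrete.natTrans (fun i => ModuleCat.ofHom ((TensorProduct.mk A _ L).flip (b i.as)))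

noncomputable def tInv : T.obj L ⟶ ModuleCat.of A (TensorProduct A (T.obj (ModuleCat.of A A)) L) :=
  (isColimitOfPreserves T (isColimitCofan L b)).desc (invCocone T L b)

lemma tInv_fac (i : ι) (y : T.obj (ModuleCat.of A A)) :
    (tInv T L b).hom ((T.map (θ (b i))).hom y) = y ⊗ₜ (b i) := by
  have h := (isColimitOfPreserves T (isColimitCofan L b)).fac (invCocone T L b) ⟨i⟩
  exact ConcreteCategory.congr_hom h y

lemma tInv_tM (z : TensorProduct A (T.obj (ModuleCat.of A A)) L) :
    (tInv T L b).hom (tM T L z) = z := by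
  have : (tInv T L b).hom ∘ₗ tM T L = LinearMap.id := by
    apply TensorProduct.ext
    ext y : 1
    apply b.ext
    intro i
    change (tInv T L b).hom (tM T L (y ⊗ₜ (b i))) = y ⊗ₜ (b i)
    rw [tM_tmul, tInv_fac]
  exact LinearMap.congr_fun this z

lemma tM_tInv (w : T.obj L) : tM T L ((tInv T L b).hom w) = w := by
  have : tInv T L b ≫ ModuleCat.ofHom (tM T L) = 𝟙 _ := by
    apply (isColimitOfPreserves T (isColimitCofan L b)).hom_ext
    rintro ⟨i⟩
    ext y
    change tM T L ((tInv T L b).hom ((T.map (θ (b i))).hom y)) = (T.map (θ (b i))).hom y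
    rw [tInv_fac, tM_tmul]
  exact ConcreteCategory.congr_hom this w

include b in
lemma tM_bijective_of_basis : Function.Bijective (tM T L) :=
  ⟨Function.LeftInverse.injective (tInv_tM T L b), Function.RightInverse.surjective (tM_tInv T L b)⟩

lemma tM_bijective_of_free [Module.Free A L] : Function.Bijective (tM T L) :=
  tM_bijective_of_basis T L (Module.Free.chooseBasis A L)

end Free

end Groth.Agent.Lib.Helper16.TensorCmp
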