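import Mathlib
import Groth.Agent.Lib.Helper16TensorCmp

set_option autoImplicit false
universe u
open CategoryTheory CategoryTheory.Limits MonoidalCategory

namespace Groth.Agent.Lib.Helper16.TensorCmp

variable {A : Type u} [CommRing A] (T : ModuleCat.{u} A ⥤ ModuleCat.{u} A) [T.Additive] [T.Linear A]

/-- the standard free cover. -/
noncomputable abbrev freeCover (M : ModuleCat.{u} A) : ModuleCat.of A (M →₀ A) ⟶ M :=
  ModuleCat.ofHom (Finsupp.linearCombination A (id : M → M))

lemma freeCover_surjective (M : ModuleCat.{u} A) : Function.Surjective (freeCover M).hom := by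
  intro x
  exact ⟨Finsupp.single x 1, by simp [freeCover]⟩

/-- if `t_N` is surjective and `g : M → N` is surjective then `T g` is surjective. -/
lemma map_surjective_of_tM_surjective {M N : ModuleCat.{u} A} (g : M ⟶ N)
    (hg : Function.Surjective g.hom) (hN : Function.Surjective (tM T N)) :
    Function.Surjective (T.map g).hom := by
  intro w
  obtain ⟨z, rfl⟩ := hN w
  obtain ⟨z', rfl⟩ := LinearMap.lTensor_surjective (T.obj (ModuleCat.of A A)) hg z
  exact ⟨tM T M z', tM_nat T g z'⟩

section RightExact

variable [∀ J : Type u, PreservesColimitsOfShape (Discrete J) T]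

lemma tM_surjective_of_pfc [PreservesFiniteColimits T] (M : ModuleCat.{u} A) :
    Function.Surjective (tM T M) := by
  intro w
  have hp : Epi (freeCover M) := (ModuleCat.epi_iff_surjective _).2 (freeCover_surjective M)
  have : Epi (T.map (freeCover M)) := inferInstance
  obtain ⟨w', rfl⟩ := (ModuleCat.epi_iff_surjective _).1 this w
  obtain ⟨z', rfl⟩ := (tM_bijective_of_free T (ModuleCat.of A (M →₀ A))).2 w'
  exact ⟨_, (tM_nat T (freeCover M) z').symm⟩

lemma tM_injective_of_pfc [PreservesFiniteColimits T] (M : ModuleCat.{u} A) :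
    Function.Injective (tM T M) := by
  rw [injective_iff_map_eq_zero]
  intro z hz
  let p := freeCover M
  have hpS := freeCover_surjective M
  obtain ⟨w, rfl⟩ := LinearMap.lTensor_surjective (T.obj (ModuleCat.of A A)) hpS z
  -- the kernel of p and a free cover of it
  let K : ModuleCat.{u} A := ModuleCat.of A (LinearMap.ker p.hom)
  let ι : K ⟶ ModuleCat.of A (M →₀ A) := ModuleCat.ofHom (LinearMap.ker p.hom).subtype
  let q := freeCover K
  let d := q ≫ ι
  have hd : d ≫ p = 0 := by
    refine ModuleCat.hom_ext (LinearMap.ext fun x => ?_)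
    change p.hom (ι.hom (q.hom x)) = 0
    exact (q.hom x).2
  let S : ShortComplex (ModuleCat.{u} A) := ShortComplex.mk d p hd
  have hSex : S.Exact := by
    rw [ShortComplex.moduleCat_exact_iff]
    intro x hx
    obtain ⟨y, hy⟩ := freeCover_surjective K ⟨x, hx⟩
    refine ⟨y, ?_⟩
    change ι.hom (q.hom y) = x
    rw [hy]
    rfl
  have hSepi : Epi S.g := (ModuleCat.epi_iff_surjective _).2 hpS
  have htfae := (Functor.preservesFiniteColimits_tfae T).out 3 1
  have hTS := htfae.1 inferInstance S ⟨hSex, hSepi⟩
  have h0 : (T.map p).hom (tM T _ w) = 0 := by rw [tM_nat]; exact hz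
  obtain ⟨v, hv⟩ := (ShortComplex.moduleCat_exact_iff _).1 hTS.1 (tM T _ w) h0
  obtain ⟨v', rfl⟩ := (tM_bijective_of_free T (ModuleCat.of A (K →₀ A))).2 v
  have hv2 : tM T _ (LinearMap.lTensor _ d.hom v') = tM T _ w := by
    rw [← tM_nat]; exact hv
  have hw : w = LinearMap.lTensor _ d.hom v' :=
    ((tM_bijective_of_free T (ModuleCat.of A (M →₀ A))).1 hv2).symm
  rw [hw, ← LinearMap.comp_apply, ← LinearMap.lTensor_comp]
  have : p.hom ∘ₗ d.hom = 0 := by
    have := congrArg ModuleCat.Hom.hom hd
    simpa using this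
  rw [this, LinearMap.lTensor_zero, LinearMap.zero_apply]

end RightExact

/-- if all `t_M` are bijective then `T ≅ T(A) ⊗ -`. -/
noncomputable def isoTensorLeft (h : ∀ M : ModuleCat.{u} A, Function.Bijective (tM T M)) :
    tensorLeft (T.obj (ModuleCat.of A A)) ≅ T :=
  NatIso.ofComponents (fun M => (LinearEquiv.ofBijective (tM T M) (h M)).toModuleIso)
    (fun {M N} f => by
      ext z
      exact (tM_nat T f z).symm)

lemma pfc_of_bijective (h : ∀ M : ModuleCat.{u} A, Function.Bijective (tM T M)) :
    PreservesFiniteColimits T := by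
  haveI : PreservesColimits (tensorLeft (T.obj (ModuleCat.of A A))) :=
    (ihom.adjunction (T.obj (ModuleCat.of A A))).leftAdjoint_preservesColimits
  exact preservesFiniteColimits_of_natIso (isoTensorLeft T h)

end Groth.Agent.Lib.Helper16.TensorCmp
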