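import Mathlib

/-!
# Tensoring a projective module with a product

For a projective `R`-module `M` and a family `N i` of `R`-modules, the canonical map
`M ⊗ (Π i, N i) → Π i, M ⊗ N i` is injective.
-/

open TensorProduct

namespace Groth.Agent.Lib.Helper16

universe u v w x

variable (R : Type u) [CommRing R] (M : Type v) [AddCommGroup M] [Module R M]
  {ι : Type w} (N : ι → Type x) [∀ i, AddCommGroup (N i)] [∀ i, Module R (N i)]

/-- The canonical map `M ⊗ (Π i, N i) → Π i, M ⊗ N i`. -/
noncomputable def tensorPiMap : M ⊗[R] (Π i, N i) →ₗ[R] Π i, M ⊗[R] N i :=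
  LinearMap.pi fun i => LinearMap.lTensor M (LinearMap.proj i)

@[simp] lemma tensorPiMap_apply (z : M ⊗[R] (Π i, N i)) (i : ι) :
    tensorPiMap R M N z i = LinearMap.lTensor M (LinearMap.proj i) z := rfl

/-- The free case. -/
lemma tensorPiMap_injective_finsupp (I : Type v) :
    Function.Injective (tensorPiMap R (I →₀ R) N) := by
  classical
  rw [injective_iff_map_eq_zero]
  intro z hz
  have key : ∀ (z : (I →₀ R) ⊗[R] (Π i, N i)) (m : I) (i : ι),
      (TensorProduct.finsuppScalarLeft R (Π i, N i) I z) m i =
        (TensorProduct.finsuppScalarLeft R (N i) I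
          (LinearMap.lTensor (I →₀ R) (LinearMap.proj i) z)) m := by
    intro z m i
    induction z using TensorProduct.induction_on with
    | zero => simp
    | tmul f q =>
      simp [TensorProduct.finsuppScalarLeft_apply_tmul_apply]
    | add a b ha hb =>
      simp only [map_add, Finsupp.add_apply, Pi.add_apply, ha, hb]
  apply (TensorProduct.finsuppScalarLeft R (Π i, N i) I).injective
  rw [map_zero]
  ext m i
  rw [key]
  have := congrFun hz i
  rw [tensorPiMap_apply] at this
  rw [this]
  simp

/-- For projective `M`, `M ⊗ (Π i, N i) → Π i, M ⊗ N i` is injective. -/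
theorem tensorPiMap_injective [Module.Projective R M] :
    Function.Injective (tensorPiMap R M N) := by
  obtain ⟨s, hs⟩ := (Module.projective_def' (R := R) (P := M)).1 inferInstance
  rw [injective_iff_map_eq_zero]
  intro z hz
  have h1 : LinearMap.rTensor (Π i, N i) s z = 0 := by
    apply tensorPiMap_injective_finsupp R N M
    rw [map_zero]
    funext i
    rw [tensorPiMap_apply]
    have h2 : LinearMap.lTensor (M →₀ R) (LinearMap.proj i) (LinearMap.rTensor (Π i, N i) s z) =
        LinearMap.rTensor (N i) s (LinearMap.lTensor M (LinearMap.proj i) z) := by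
      rw [← LinearMap.comp_apply, ← LinearMap.comp_apply, LinearMap.lTensor_comp_rTensor,
        LinearMap.rTensor_comp_lTensor]
    rw [h2]
    have := congrFun hz i
    rw [tensorPiMap_apply] at this
    rw [this]
    simp
  have h3 : LinearMap.rTensor (Π i, N i) (Finsupp.linearCombination R id)
      (LinearMap.rTensor (Π i, N i) s z) = z := by
    rw [← LinearMap.comp_apply, ← LinearMap.rTensor_comp, hs]
    simp
  rw [← h3, h1, map_zero]

/-- Variant with a submodule of the product: for projective `M` and a submodule `P ≤ Π i, N i`,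
the map `M ⊗ P → Π i, M ⊗ N i` is injective. -/
theorem tensorPiMap_submodule_injective [Module.Projective R M] (P : Submodule R (Π i, N i)) :
    Function.Injective
      (LinearMap.pi fun i => LinearMap.lTensor M ((LinearMap.proj i).comp P.subtype) :
        M ⊗[R] P →ₗ[R] Π i, M ⊗[R] N i) := by
  have h1 : Function.Injective (LinearMap.lTensor M P.subtype) :=
    Module.Flat.lTensor_preserves_injective_linearMap _ P.injective_subtype
  have h2 := (tensorPiMap_injective R M N).comp h1
  convert h2 using 1
  funext z
  funext i
  simp only [LinearMap.pi_apply, Function.comp_apply, tensorPiMap_apply]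
  rw [LinearMap.lTensor_comp_apply]

section Surjective

variable {R M N}

/-- The `j`-th coordinate `(Fin n → R) ⊗ Q → Q`. -/
noncomputable def finCoord (n : ℕ) (Q : Type x) [AddCommGroup Q] [Module R Q] (j : Fin n) :
    (Fin n → R) ⊗[R] Q →ₗ[R] Q :=
  (TensorProduct.lid R Q).toLinearMap ∘ₗ LinearMap.rTensor Q (LinearMap.proj j)

lemma sum_single_tmul_finCoord (n : ℕ) (Q : Type x) [AddCommGroup Q] [Module R Q]
    (w : (Fin n → R) ⊗[R] Q) :
    ∑ j : Fin n, (Pi.single j (1 : R) : Fin n → R) ⊗ₜ[R] finCoord n Q j w = w := by
  induction w using TensorProduct.induction_on with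
  | zero => simp
  | tmul v q =>
    simp only [finCoord, LinearMap.comp_apply, LinearMap.rTensor_tmul, LinearMap.proj_apply,
      LinearEquiv.coe_coe, TensorProduct.lid_tmul]
    simp only [← TensorProduct.smul_tmul]
    rw [← TensorProduct.sum_tmul]
    congr 1
    funext k
    simp [Finset.sum_apply, Pi.single_apply]
  | add a b ha hb =>
    simp only [map_add, TensorProduct.tmul_add, Finset.sum_add_distrib, ha, hb]

variable (R N) in
/-- The free finite rank case of surjectivity. -/
lemma tensorPiMap_surjective_fin (n : ℕ) :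
    Function.Surjective (tensorPiMap R (Fin n → R) N) := by
  intro y
  refine ⟨∑ j : Fin n, (Pi.single j (1 : R) : Fin n → R) ⊗ₜ[R]
    (fun i => finCoord n (N i) j (y i)), ?_⟩
  funext i
  rw [tensorPiMap_apply, map_sum]
  simp only [LinearMap.lTensor_tmul, LinearMap.proj_apply]
  exact sum_single_tmul_finCoord n (N i) (y i)

variable (R M N) in
/-- For finitely generated projective `M`, `M ⊗ (Π i, N i) → Π i, M ⊗ N i` is surjective. -/
theorem tensorPiMap_surjective [Module.Finite R M] [Module.Projective R M] :
    Function.Surjective (tensorPiMap R M N) := by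
  obtain ⟨n, f, g, -, -, hfg⟩ := Module.Finite.exists_comp_eq_id_of_projective R M
  intro y
  obtain ⟨z', hz'⟩ := tensorPiMap_surjective_fin R N n (fun i => LinearMap.rTensor (N i) g (y i))
  refine ⟨LinearMap.rTensor (Π i, N i) f z', ?_⟩
  funext i
  rw [tensorPiMap_apply]
  have h2 : LinearMap.lTensor M (LinearMap.proj i) (LinearMap.rTensor (Π i, N i) f z') =
      LinearMap.rTensor (N i) f (LinearMap.lTensor (Fin n → R) (LinearMap.proj i) z') := by
    rw [← LinearMap.comp_apply, ← LinearMap.comp_apply, LinearMap.lTensor_comp_rTensor,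
      LinearMap.rTensor_comp_lTensor]
  rw [h2]
  have h3 := congrFun hz' i
  rw [tensorPiMap_apply] at h3
  rw [h3, ← LinearMap.comp_apply, ← LinearMap.rTensor_comp, hfg]
  simp

end Surjective

section Compatible

variable {R M}
variable {N : ℕ → Type x} [∀ i, AddCommGroup (N i)] [∀ i, Module R (N i)]
  (F : ∀ i, N (i + 1) →ₗ[R] N i)

/-- The defect map `x ↦ (F i (x (i+1)) - x i)_i`. -/
noncomputable def defect : (Π i, N i) →ₗ[R] (Π i, N i) :=
  LinearMap.pi fun i => (F i) ∘ₗ LinearMap.proj (i + 1) - LinearMap.proj i

lemma mem_ker_defect (x : Π i, N i) :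
    x ∈ LinearMap.ker (defect F) ↔ ∀ i, F i (x (i + 1)) = x i := by
  rw [LinearMap.mem_ker]
  constructor
  · intro h i
    have := congrFun h i
    simpa [defect, sub_eq_zero] using this
  · intro h
    funext i
    simp [defect, h i]

lemma tensorPiMap_lTensor_defect (z : M ⊗[R] (Π i, N i)) (i : ℕ) :
    tensorPiMap R M N (LinearMap.lTensor M (defect F) z) i =
      LinearMap.lTensor M (F i) (tensorPiMap R M N z (i + 1)) - tensorPiMap R M N z i := by
  induction z using TensorProduct.induction_on with
  | zero => simp
  | tmul m x => simp [defect, TensorProduct.tmul_sub]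
  | add a b ha hb => simp only [map_add, Pi.add_apply, ha, hb]; abel

/-- For finitely generated projective `M`, and `P` the submodule of compatible sequences in
`Π i, N i` (w.r.t. transition maps `F i : N (i+1) → N i`), the image of
`M ⊗ P → Π i, M ⊗ N i` is exactly the set of compatible sequences. -/
theorem mem_range_tensorPi_submodule_iff [Module.Finite R M] [Module.Projective R M]
    (P : Submodule R (Π i, N i)) (hP : ∀ x, x ∈ P ↔ ∀ i, F i (x (i + 1)) = x i)
    (y : Π i, M ⊗[R] N i) :
    y ∈ LinearMap.range
      (LinearMap.pi fun i => LinearMap.lTensor M ((LinearMap.proj i).comp P.subtype) :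
        M ⊗[R] P →ₗ[R] Π i, M ⊗[R] N i) ↔
      ∀ i, LinearMap.lTensor M (F i) (y (i + 1)) = y i := by
  have hPker : P = LinearMap.ker (defect F) := by
    ext x; rw [hP, mem_ker_defect]
  have hcomp : ∀ w : M ⊗[R] P,
      (LinearMap.pi fun i => LinearMap.lTensor M ((LinearMap.proj i).comp P.subtype) :
        M ⊗[R] P →ₗ[R] Π i, M ⊗[R] N i) w =
      tensorPiMap R M N (LinearMap.lTensor M P.subtype w) := by
    intro w
    funext i
    simp only [LinearMap.pi_apply, tensorPiMap_apply]
    rw [LinearMap.lTensor_comp_apply]
  constructor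
  · rintro ⟨w, rfl⟩ i
    rw [hcomp]
    have h1 := tensorPiMap_lTensor_defect (M := M) F (LinearMap.lTensor M P.subtype w) i
    have h2 : LinearMap.lTensor M (defect F) (LinearMap.lTensor M P.subtype w) = 0 := by
      rw [← LinearMap.comp_apply, ← LinearMap.lTensor_comp]
      have : defect F ∘ₗ P.subtype = 0 := by
        ext x : 1
        have hx : (x : Π i, N i) ∈ LinearMap.ker (defect F) := hPker ▸ x.2
        simpa using hx
      rw [this, LinearMap.lTensor_zero, LinearMap.zero_apply]
    rw [h2, map_zero, Pi.zero_apply] at h1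
    exact (sub_eq_zero.1 h1.symm)
  · intro hy
    obtain ⟨z, rfl⟩ := tensorPiMap_surjective R M N y
    have h0 : LinearMap.lTensor M (defect F) z = 0 := by
      apply tensorPiMap_injective R M N
      rw [map_zero]
      funext i
      rw [tensorPiMap_lTensor_defect, hy i, sub_self, Pi.zero_apply]
    have hex := Module.Flat.lTensor_exact M (LinearMap.exact_subtype_ker_map (defect F))
    obtain ⟨w, hw⟩ := (hex z).1 h0
    subst hPker
    exact ⟨w, by rw [hcomp, hw]⟩

end Compatible

end Groth.Agent.Lib.Helper16
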