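import Mathlib

/-!
# Trace of a finite local algebra over a field: `Tr_{A/k} = length(A) · Tr_{k'/k} ∘ residue`
-/

namespace Groth.Agent.Lib.Helper27TraceLen

open Module

section TraceAdd

variable {R V : Type*} [CommRing R] [AddCommGroup V]
    [Module R V] [Module.Finite R V]
    (W : Submodule R V) [Module.Free R W] [Module.Finite R W] [Module.Free R (V ⧸ W)]

open Module.Basis in
theorem trace_eq_trace_add_trace (e : V →ₗ[R] V) (he : W ≤ W.comap e) :
    LinearMap.trace R V e =
      LinearMap.trace R W (e.restrict he) + LinearMap.trace R (V ⧸ W) (W.mapQ W e he) := by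
  classical
  let m := Module.Free.ChooseBasisIndex R W
  let bW : Basis m R W := Module.Free.chooseBasis R W
  let n := Module.Free.ChooseBasisIndex R (V ⧸ W)
  let bQ : Basis n R (V ⧸ W) := Module.Free.chooseBasis R (V ⧸ W)
  let b := sumQuot bW bQ
  let A : Matrix m m R := LinearMap.toMatrix bW bW (e.restrict he)
  let B : Matrix m n R := Matrix.of fun i l ↦
    ((sumQuot bW bQ).repr (e ((sumQuot bW bQ) (Sum.inr l)))) (Sum.inl i)
  let D : Matrix n n R := LinearMap.toMatrix bQ bQ (W.mapQ W e he)
  suffices LinearMap.toMatrix b b e = Matrix.fromBlocks A B 0 D by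
    have htr : (Matrix.fromBlocks A B 0 D).trace = A.trace + D.trace := by
      simp [Matrix.trace, Fintype.sum_sum_type]
    rw [LinearMap.trace_eq_matrix_trace R b, this, htr,
      LinearMap.trace_eq_matrix_trace R bW, LinearMap.trace_eq_matrix_trace R bQ]
  ext u v
  cases u with
  | inl i =>
    cases v with
    | inl k =>
      simp only [b, sumQuot_inl, Matrix.fromBlocks_apply₁₁, A, LinearMap.toMatrix_apply]
      apply sumQuot_repr_inl_of_mem
    | inr l => simp [b, LinearMap.toMatrix_apply, Matrix.fromBlocks_apply₁₂, B]
  | inr j =>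
    cases v with
    | inl k =>
      suffices W.mkQ (e (bW k)) = 0 by simp [LinearMap.toMatrix_apply, b, this]
      rw [← LinearMap.mem_ker, Submodule.ker_mkQ]
      exact he (Submodule.coe_mem (bW k))
    | inr l =>
      simp only [LinearMap.toMatrix_apply, sumQuot_repr_inr,
        Matrix.fromBlocks_apply₂₂, b, D]
      rw [← sumQuot_inr bW bQ l, W.mapQ_apply]
      simp

end TraceAdd

section Main

universe u

variable (k A : Type u) [Field k] [CommRing A] [Algebra k A] [FiniteDimensional k A]
  [IsLocalRing A]

/-- multiplication by `a` as a `k`-linear endomorphism -/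
noncomputable def mulBy (M : Type u) [AddCommGroup M] [Module A M] [Module k M]
    [IsScalarTower k A M] (a : A) : M →ₗ[k] M :=
  (LinearMap.lsmul A M a).restrictScalars k

@[simp] theorem mulBy_apply (M : Type u) [AddCommGroup M] [Module A M] [Module k M]
    [IsScalarTower k A M] (a : A) (x : M) : mulBy k A M a x = a • x := rfl

include k in
theorem exists_socle (M : Type u) [AddCommGroup M] [Module A M] [Nontrivial M] :
    ∃ x : M, x ≠ 0 ∧ ∀ r ∈ IsLocalRing.maximalIdeal A, r • x = 0 := by
  have hart : IsArtinianRing A := IsArtinianRing.of_finite k A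
  have hnil : IsNilpotent (IsLocalRing.maximalIdeal A) := by
    have := IsArtinianRing.isNilpotent_jacobson_bot (R := A)
    rwa [IsLocalRing.jacobson_eq_maximalIdeal ⊥ bot_ne_top] at this
  obtain ⟨n, hn⟩ := hnil
  have hex : ∃ n, (IsLocalRing.maximalIdeal A) ^ n • (⊤ : Submodule A M) = ⊥ :=
    ⟨n, by rw [hn]; simp⟩
  classical
  set n0 := Nat.find hex with hn0
  have h0 : n0 ≠ 0 := by
    intro h
    have := Nat.find_spec hex
    rw [← hn0, h, pow_zero, Ideal.one_eq_top, Submodule.top_smul] at this
    exact top_ne_bot this
  obtain ⟨n', hn'⟩ := Nat.exists_eq_succ_of_ne_zero h0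
  have hne : (IsLocalRing.maximalIdeal A) ^ n' • (⊤ : Submodule A M) ≠ ⊥ :=
    Nat.find_min hex (by omega)
  obtain ⟨x, hx, hx0⟩ := (Submodule.ne_bot_iff _).mp hne
  refine ⟨x, hx0, fun r hr => ?_⟩
  have h1 : r • x ∈ (IsLocalRing.maximalIdeal A) ^ n0 • (⊤ : Submodule A M) := by
    rw [hn', pow_succ', mul_smul]
    exact Submodule.smul_mem_smul hr hx
  rw [Nat.find_spec hex] at h1
  exact (Submodule.mem_bot A).mp h1

theorem key (n : ℕ) : ∀ (M : Type u) [AddCommGroup M] [Module A M] [Module k M]
    [IsScalarTower k A M] [FiniteDimensional k M], finrank k M = n →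
    ∃ ℓ : ℕ, Module.length A M = ℓ ∧ ∀ a : A, LinearMap.trace k M (mulBy k A M a) =
      ℓ • Algebra.trace k (IsLocalRing.ResidueField A) (IsLocalRing.residue A a) := by
  induction n using Nat.strong_induction_on with
  | _ n ih =>
  intro M _ _ _ _ _ hM
  by_cases hsub : Subsingleton M
  · refine ⟨0, ?_, fun a => ?_⟩
    · rw [Module.length_eq_zero]
      rfl
    · have : mulBy k A M a = 0 := by
        ext x
        exact Subsingleton.elim _ _
      rw [this, map_zero, zero_smul]
  · have hnt : Nontrivial M := not_subsingleton_iff_nontrivial.mp hsub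
    obtain ⟨x, hx0, hxm⟩ := exists_socle k A M
    set N : Submodule A M := Submodule.span A {x} with hN
    have htor : Ideal.torsionOf A M x = IsLocalRing.maximalIdeal A := by
      symm
      apply (IsLocalRing.maximalIdeal.isMaximal A).eq_of_le
      · intro h
        have : (1 : A) ∈ Ideal.torsionOf A M x := by rw [h]; trivial
        rw [Ideal.mem_torsionOf_iff, one_smul] at this
        exact hx0 this
      · intro r hr
        rw [Ideal.mem_torsionOf_iff]
        exact hxm r hr
    -- the `A`-linear equivalence `k' ≃ N`
    let e : IsLocalRing.ResidueField A ≃ₗ[A] N :=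
      (Submodule.quotEquivOfEq _ _ htor).symm ≪≫ₗ Ideal.quotTorsionOfEquivSpanSingleton A M x
    have hsimple : IsSimpleModule A N := by
      have h1 : IsSimpleModule A (A ⧸ IsLocalRing.maximalIdeal A) :=
        isSimpleModule_iff_isCoatom.mpr (Ideal.isMaximal_def.mp (IsLocalRing.maximalIdeal.isMaximal A))
      have h2 : IsSimpleModule A (IsLocalRing.ResidueField A) := h1
      exact IsSimpleModule.congr e.symm
    have hlenN : Module.length A N = 1 := Module.length_eq_one A N
    have hlen : Module.length A M = 1 + Module.length A (M ⧸ N) := by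
      rw [← hlenN]
      exact Module.length_eq_add_of_exact N.subtype N.mkQ (Submodule.injective_subtype N)
        (Submodule.mkQ_surjective N) (LinearMap.exact_subtype_mkQ N)
    -- finrank
    set W : Submodule k M := N.restrictScalars k with hW
    have hxW : x ∈ W := Submodule.subset_span rfl
    have hWpos : 0 < finrank k W := by
      rw [Module.finrank_pos_iff]
      exact ⟨⟨⟨x, hxW⟩, 0, fun h => hx0 (congrArg Subtype.val h)⟩⟩
    have hfr : finrank k (M ⧸ N) < n := by
      have h1 := Submodule.finrank_quotient_add_finrank W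
      have h2 : finrank k (M ⧸ W) = finrank k (M ⧸ N) :=
        (Submodule.Quotient.restrictScalarsEquiv k N).finrank_eq
      omega
    obtain ⟨ℓ', hℓ', htr'⟩ := ih _ hfr (M ⧸ N) rfl
    refine ⟨1 + ℓ', ?_, fun a => ?_⟩
    · rw [hlen, hℓ']
      push_cast
      rfl
    · have he : W ≤ W.comap (mulBy k A M a) := by
        intro y hy
        exact N.smul_mem a hy
      rw [trace_eq_trace_add_trace W (mulBy k A M a) he, add_smul, one_smul]
      congr 1
      · -- trace on `W`
        let e2 : W ≃ₗ[A] N := Submodule.restrictScalarsEquiv k A M N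
        let ψ : IsLocalRing.ResidueField A ≃ₗ[k] W := (e ≪≫ₗ e2.symm).restrictScalars k
        have hconj : ψ.conj (Algebra.lmul k (IsLocalRing.ResidueField A)
            (IsLocalRing.residue A a)) = (mulBy k A M a).restrict he := by
          ext y
          rw [LinearEquiv.conj_apply]
          simp only [LinearMap.comp_apply, LinearEquiv.coe_coe]
          have h1 : (Algebra.lmul k (IsLocalRing.ResidueField A) (IsLocalRing.residue A a))
              (ψ.symm y) = a • (ψ.symm y) := by
            rw [Algebra.smul_def]
            rfl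
          rw [h1]
          have h2 : ψ (a • ψ.symm y) = a • ψ (ψ.symm y) := (e ≪≫ₗ e2.symm).map_smul a _
          rw [h2, LinearEquiv.apply_symm_apply]
          rfl
        rw [← hconj, LinearMap.trace_conj', Algebra.trace_apply]
      · -- trace on the quotient
        rw [← htr' a]
        let φ : (M ⧸ W) ≃ₗ[k] (M ⧸ N) := Submodule.Quotient.restrictScalarsEquiv k N
        have hconj : φ.conj (W.mapQ W (mulBy k A M a) he) = mulBy k A (M ⧸ N) a := by
          refine LinearMap.ext (fun y => ?_)
          obtain ⟨z, rfl⟩ := Submodule.Quotient.mk_surjective _ y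
          rw [LinearEquiv.conj_apply]
          simp only [LinearMap.comp_apply, LinearEquiv.coe_coe]
          have h1 : φ.symm (Submodule.Quotient.mk z) = Submodule.Quotient.mk z :=
            Submodule.Quotient.restrictScalarsEquiv_symm_mk k N z
          rw [h1, Submodule.mapQ_apply]
          have h2 : φ (Submodule.Quotient.mk (mulBy k A M a z)) =
              Submodule.Quotient.mk (mulBy k A M a z) :=
            Submodule.Quotient.restrictScalarsEquiv_mk k N _
          rw [h2, mulBy_apply, mulBy_apply, Submodule.Quotient.mk_smul]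
        rw [← hconj, LinearMap.trace_conj']

theorem trace_eq (a : A) : Algebra.trace k A a =
    (Module.length A A).toNat • Algebra.trace k (IsLocalRing.ResidueField A)
      (IsLocalRing.residue A a) := by
  obtain ⟨ℓ, hℓ, htr⟩ := key k A (finrank k A) A rfl
  rw [hℓ, ENat.toNat_natCast, ← htr a, Algebra.trace_apply]
  rfl

include k in
theorem length_toNat_ne_zero : (Module.length A A).toNat ≠ 0 := by
  obtain ⟨ℓ, hℓ, -⟩ := key k A (finrank k A) A rfl
  rw [hℓ, ENat.toNat_natCast]
  intro h0
  have hpos : 0 < Module.length A A := Module.length_pos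
  rw [hℓ, h0] at hpos
  exact lt_irrefl _ hpos

end Main

end Groth.Agent.Lib.Helper27TraceLen
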