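import Mathlib
import Groth.Agent.Lib.Helper27TraceLen

/-!
# Trace of multiplication on modules over a finite-dimensional algebra: additivity along chains
-/

set_option autoImplicit false
set_option linter.unusedSectionVars false

namespace Groth.Agent.Lib.Helper16TraceChain

open Module

universe u

section General

variable (k R : Type u) [Field k] [CommRing R] [Algebra k R]

/-- trace over `k` of multiplication by `y` on the `R`-module `M` -/
noncomputable def τ (M : Type u) [AddCommGroup M] [Module R M] [Module k M]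
    [IsScalarTower k R M] (y : R) : k :=
  LinearMap.trace k M ((LinearMap.lsmul R M y).restrictScalars k)

variable {k R}

theorem τ_congr {M N : Type u} [AddCommGroup M] [Module R M] [Module k M] [IsScalarTower k R M]
    [AddCommGroup N] [Module R N] [Module k N] [IsScalarTower k R N]
    (e : M ≃ₗ[R] N) (y : R) : τ k R M y = τ k R N y := by
  unfold τ
  have hconj : (e.restrictScalars k).conj ((LinearMap.lsmul R M y).restrictScalars k) =
      (LinearMap.lsmul R N y).restrictScalars k := by
    refine LinearMap.ext fun x => ?_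
    rw [LinearEquiv.conj_apply]
    simp
  rw [← hconj, LinearMap.trace_conj']

theorem τ_of_subsingleton {M : Type u} [AddCommGroup M] [Module R M] [Module k M]
    [IsScalarTower k R M] [Subsingleton M] (y : R) : τ k R M y = 0 := by
  unfold τ
  have : (LinearMap.lsmul R M y).restrictScalars k = 0 := by
    refine LinearMap.ext fun x => Subsingleton.elim _ _
  rw [this, map_zero]

theorem τ_add {M : Type u} [AddCommGroup M] [Module R M] [Module k M] [IsScalarTower k R M]
    [FiniteDimensional k M] (N : Submodule R M) (y : R) :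
    τ k R M y = τ k R N y + τ k R (M ⧸ N) y := by
  set W : Submodule k M := N.restrictScalars k with hW
  have he : W ≤ W.comap ((LinearMap.lsmul R M y).restrictScalars k) :=
    fun x hx => N.smul_mem y hx
  unfold τ
  rw [Groth.Agent.Lib.Helper27TraceLen.trace_eq_trace_add_trace W _ he]
  congr 1

theorem τ_quot (m : Ideal R) (y : R) :
    τ k R (R ⧸ m) y = Algebra.trace k (R ⧸ m) (Ideal.Quotient.mk m y) := by
  unfold τ
  rw [Algebra.trace_apply]
  congr 1

theorem τ_top (y : R) : τ k R (⊤ : Ideal R) y = Algebra.trace k R y := by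
  rw [τ_congr (Submodule.topEquiv : (⊤ : Submodule R R) ≃ₗ[R] R) y]
  unfold τ
  rw [Algebra.trace_apply]
  congr 1

theorem τ_step [FiniteDimensional k R] (J J' : Ideal R) (hJ : J' ≤ J) (m : Ideal R) [hmax : m.IsMaximal]
    (a : R) (haJ : a ∈ J) (haJ' : a ∉ J')
    (hm : ∀ r ∈ m, r * a ∈ J') (hspan : J ≤ Ideal.span {a} ⊔ J') (y : R) :
    τ k R J y = τ k R J' y + Algebra.trace k (R ⧸ m) (Ideal.Quotient.mk m y) := by
  have : FiniteDimensional k J :=
    FiniteDimensional.of_injective ((Submodule.subtype J).restrictScalars k) Subtype.val_injective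
  set J'' : Submodule R J := Submodule.comap J.subtype J' with hJ''
  rw [τ_add J'' y, τ_congr (Submodule.comapSubtypeEquivOfLe hJ) y, ← τ_quot m y]
  congr 1
  symm
  set x₀ : (J ⧸ J'') := Submodule.Quotient.mk ⟨a, haJ⟩ with hx₀
  have hsmul : ∀ r : R, r • x₀ = 0 ↔ r * a ∈ J' := by
    intro r
    rw [hx₀, ← Submodule.Quotient.mk_smul, Submodule.Quotient.mk_eq_zero]
    rfl
  have hker : m ≤ LinearMap.ker (LinearMap.toSpanSingleton R (J ⧸ J'') x₀) := by
    intro r hr
    rw [LinearMap.mem_ker, LinearMap.toSpanSingleton_apply]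
    exact (hsmul r).mpr (hm r hr)
  let ψ : (R ⧸ m) →ₗ[R] (J ⧸ J'') := Submodule.liftQ m (LinearMap.toSpanSingleton R _ x₀) hker
  have hψ : ∀ r : R, ψ (Ideal.Quotient.mk m r) = r • x₀ := fun r => rfl
  have hinj : Function.Injective ψ := by
    rw [injective_iff_map_eq_zero]
    intro z hz
    obtain ⟨r, rfl⟩ := Ideal.Quotient.mk_surjective z
    rw [hψ, hsmul] at hz
    rw [Ideal.Quotient.eq_zero_iff_mem]
    by_contra hr
    obtain ⟨s, t, ht, hst⟩ := hmax.exists_inv hr
    apply haJ'
    have : a = s * (r * a) + t * a := by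
      calc a = (s * r + t) * a := by rw [hst, one_mul]
        _ = _ := by ring
    rw [this]
    exact J'.add_mem (J'.mul_mem_left s hz) (hm t ht)
  have hsurj : Function.Surjective ψ := by
    intro z
    obtain ⟨⟨j, hj⟩, rfl⟩ := Submodule.Quotient.mk_surjective _ z
    obtain ⟨b, hb, c, hc, hbc⟩ := Submodule.mem_sup.mp (hspan hj)
    obtain ⟨r, rfl⟩ := Ideal.mem_span_singleton'.mp hb
    refine ⟨Ideal.Quotient.mk m r, ?_⟩
    rw [hψ, hx₀, ← Submodule.Quotient.mk_smul, Submodule.Quotient.eq]
    show (r • (⟨a, haJ⟩ : J) - ⟨j, hj⟩ : J).1 ∈ J'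
    have : (r • (⟨a, haJ⟩ : J) - ⟨j, hj⟩ : J).1 = - c := by
      show r * a - j = -c
      rw [← hbc]; ring
    rw [this]
    exact J'.neg_mem hc
  exact τ_congr (LinearEquiv.ofBijective ψ ⟨hinj, hsurj⟩) y

end General

section Dedekind

theorem exists_gen {B : Type u} [CommRing B] [IsDedekindDomain B] (I Q : Ideal B) (hI : I ≠ ⊥)
    [hQ : Q.IsMaximal] (hQ0 : Q ≠ ⊥) :
    ∃ a ∈ I, a ∉ I * Q ∧ I ≤ Ideal.span {a} ⊔ I * Q := by
  have hlt : I * Q < I := by
    refine lt_of_le_of_ne Ideal.mul_le_left ?_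
    intro h
    have h1 : Q = 1 := (mul_eq_left₀ hI).mp h
    exact hQ.ne_top (by rw [h1, Ideal.one_eq_top])
  obtain ⟨a, haI, haIQ⟩ := SetLike.exists_of_lt hlt
  refine ⟨a, haI, haIQ, ?_⟩
  set K := Ideal.span {a} ⊔ I * Q with hK
  have hKI : K ≤ I := sup_le ((Ideal.span_singleton_le_iff_mem _).mpr haI) Ideal.mul_le_left
  have hIQK : I * Q ≤ K := le_sup_right
  obtain ⟨K', hK'⟩ := Ideal.dvd_iff_le.mpr hKI
  have h2 : I * K' ∣ I * Q := hK' ▸ Ideal.dvd_iff_le.mpr hIQK
  have h3 : K' ∣ Q := (mul_dvd_mul_iff_left hI).mp h2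
  have hirr : Irreducible Q := (Ideal.prime_of_isPrime hQ0 hQ.isPrime).irreducible
  rcases (hirr.dvd_iff).mp h3 with hu | hassoc
  · have h4 : K' = ⊤ := Ideal.isUnit_iff.mp hu
    rw [hK', h4, Ideal.mul_top]
  · have h4 : K' = Q := (associated_iff_eq.mp hassoc).symm
    exfalso
    apply haIQ
    rw [← h4, ← hK']
    exact Ideal.mem_sup_left (Ideal.mem_span_singleton_self a)

end Dedekind

end Groth.Agent.Lib.Helper16TraceChain
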