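import Mathlib
import Groth.Prelude.Def_W4c5m1nsnscurvesC
import Groth.Prelude.Def_W4c5m1nsnscurvesI

set_option autoImplicit false
set_option linter.style.haveILetI false
set_option linter.unusedSectionVars false
universe u
open W4c5m1nsnscurves

namespace Helper16UCurve

open MvPolynomial

section rels
variable (R : Type u) [CommRing R] (m : ℕ)

theorem rel_lin (i j : Fin m) (h : i ≠ j) :
    ugen R m (.cij i j h) + ugen R m (.cij j i h.symm) =
      ugen R m .a + ugen R m (.ci i) + ugen R m (.cbi i) + ugen R m (.ci j) + ugen R m (.cbi j) := by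
  rw [← sub_eq_zero]
  have : (X (.cij i j h) + X (.cij j i h.symm) -
      (X .a + X (.ci i) + X (.cbi i) + X (.ci j) + X (.cbi j)) : MvPolynomial (UGen m) R) ∈
      Ideal.span (URel R m) :=
    Ideal.subset_span (Or.inl (Or.inl (Or.inl ⟨⟨(i, j), h⟩, rfl⟩)))
  have h2 := (Ideal.Quotient.eq_zero_iff_mem).2 this
  simpa [ugen] using h2

theorem rel_c (i j : Fin m) (h : i ≠ j) :
    ugen R m .c = ugen R m (.cij j i h.symm) * ugen R m (.ci j) +
      ugen R m (.cij i j h) * ugen R m (.ci i) - ugen R m (.ci i) * ugen R m (.ci j) := by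
  rw [eq_comm, ← sub_eq_zero]
  have : (X (.cij j i h.symm) * X (.ci j) + X (.cij i j h) * X (.ci i) -
      X (.ci i) * X (.ci j) - X .c : MvPolynomial (UGen m) R) ∈
      Ideal.span (URel R m) :=
    Ideal.subset_span (Or.inl (Or.inl (Or.inr ⟨⟨(i, j), h⟩, rfl⟩)))
  have h2 := (Ideal.Quotient.eq_zero_iff_mem).2 this
  simpa [ugen] using h2

theorem rel_cb (i j : Fin m) (h : i ≠ j) :
    ugen R m .cb = ugen R m (.cij j i h.symm) * ugen R m (.cbi i) +
      ugen R m (.cij i j h) * ugen R m (.cbi j) - ugen R m (.cbi i) * ugen R m (.cbi j) := by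
  rw [eq_comm, ← sub_eq_zero]
  have : (X (.cij j i h.symm) * X (.cbi i) + X (.cij i j h) * X (.cbi j) -
      X (.cbi i) * X (.cbi j) - X .cb : MvPolynomial (UGen m) R) ∈
      Ideal.span (URel R m) :=
    Ideal.subset_span (Or.inl (Or.inr ⟨⟨(i, j), h⟩, rfl⟩))
  have h2 := (Ideal.Quotient.eq_zero_iff_mem).2 this
  simpa [ugen] using h2

theorem rel_cubic (i j l : Fin m) (h1 : i ≠ j) (h2 : j ≠ l) (h3 : i ≠ l) :
    ugen R m (.cij i j h1) * ugen R m (.cij j l h2) +
      ugen R m (.cij j i h1.symm) * ugen R m (.cij i l h3) -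
      ugen R m (.cij i l h3) * ugen R m (.cij j l h2) +
      (ugen R m .a + ugen R m (.ci l) + ugen R m (.cbi l)) * ugen R m (.ci l) = ugen R m .c := by
  rw [← sub_eq_zero]
  have : (X (.cij i j h1) * X (.cij j l h2) +
      X (.cij j i h1.symm) * X (.cij i l h3) -
      X (.cij i l h3) * X (.cij j l h2) +
      (X .a + X (.ci l) + X (.cbi l)) * X (.ci l) - X .c : MvPolynomial (UGen m) R) ∈
      Ideal.span (URel R m) :=
    Ideal.subset_span (Or.inr ⟨⟨(i, j, l), ⟨h1, h2, h3⟩⟩, rfl⟩)
  have h2 := (Ideal.Quotient.eq_zero_iff_mem).2 this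
  simpa [ugen] using h2

theorem uincl_ugen (g : UGen m) : uincl R m (ugen R m g) = ugen R (m + 1) g.castSucc := by
  unfold uincl ugen
  refine (Ideal.Quotient.liftₐ_apply _ _ _ _).trans ?_
  refine (Ideal.Quotient.lift_mk _ _ _).trans ?_
  simp

end rels

section curve
variable (R : Type u) [CommRing R] (m : ℕ)

/-- the curve algebra -/
abbrev CA : Type u := CurveAlg (URing R m) m (ugen R m)

/-- structure map -/
noncomputable def al : URing R m →+* CA R m := algebraMap (URing R m) (CA R m)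

/-- class of a variable -/
noncomputable def xx (v : CVar m) : CA R m :=
  Ideal.Quotient.mk (Ideal.span (CRel (URing R m) m (ugen R m))) (X v)

theorem al_eq (r : URing R m) :
    al R m r = Ideal.Quotient.mk (Ideal.span (CRel (URing R m) m (ugen R m))) (C r) := rfl

theorem crel1 (i : Fin m) :
    xx R m .x2 * xx R m (.xi i) = xx R m .x2 * xx R m .x3 +
      al R m (ugen R m (.ci i)) * xx R m (.xi i) + al R m (ugen R m (.cbi i)) * xx R m .x2 -
      al R m (ugen R m .c) := by
  rw [← sub_eq_zero]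
  have : (X .x2 * X (.xi i) -
      (X .x2 * X .x3 + C (ugen R m (.ci i)) * X (.xi i) + C (ugen R m (.cbi i)) * X .x2 -
        C (ugen R m .c)) : MvPolynomial (CVar m) (URing R m)) ∈
      Ideal.span (CRel (URing R m) m (ugen R m)) :=
    Ideal.subset_span (Or.inl (Or.inl ⟨i, rfl⟩))
  have h2 := (Ideal.Quotient.eq_zero_iff_mem).2 this
  simpa only [xx, al_eq, map_sub, map_add, map_mul] using h2

theorem crel2 (i : Fin m) :
    xx R m .x3 * xx R m (.xi i) = xx R m .x2 * xx R m .x3 +
      (al R m (ugen R m .a) + al R m (ugen R m (.ci i)) + al R m (ugen R m (.cbi i))) *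
        (xx R m (.xi i) - al R m (ugen R m (.cbi i))) +
      al R m (ugen R m .cb) - al R m (ugen R m .c) := by
  rw [← sub_eq_zero]
  have : (X .x3 * X (.xi i) -
      (X .x2 * X .x3 + C (ugen R m .a + ugen R m (.ci i) + ugen R m (.cbi i)) *
        (X (.xi i) - C (ugen R m (.cbi i))) +
        C (ugen R m .cb) - C (ugen R m .c)) : MvPolynomial (CVar m) (URing R m)) ∈
      Ideal.span (CRel (URing R m) m (ugen R m)) :=
    Ideal.subset_span (Or.inl (Or.inr ⟨i, rfl⟩))
  have h2 := (Ideal.Quotient.eq_zero_iff_mem).2 this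
  simpa only [xx, al_eq, map_sub, map_add, map_mul] using h2

theorem crel3 (i j : Fin m) (h : i ≠ j) :
    xx R m (.xi i) * xx R m (.xi j) = xx R m .x2 * xx R m .x3 +
      al R m (ugen R m (.cij i j h)) * xx R m (.xi j) +
      al R m (ugen R m (.cij j i h.symm)) * xx R m (.xi i) - al R m (ugen R m .c) := by
  rw [← sub_eq_zero]
  have : (X (.xi i) * X (.xi j) -
      (X .x2 * X .x3 + C (ugen R m (.cij i j h)) * X (.xi j) +
        C (ugen R m (.cij j i h.symm)) * X (.xi i) - C (ugen R m .c)) :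
        MvPolynomial (CVar m) (URing R m)) ∈
      Ideal.span (CRel (URing R m) m (ugen R m)) :=
    Ideal.subset_span (Or.inr ⟨⟨(i, j), h⟩, rfl⟩)
  have h2 := (Ideal.Quotient.eq_zero_iff_mem).2 this
  simpa only [xx, al_eq, map_sub, map_add, map_mul] using h2

end curve

end Helper16UCurve
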