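import Mathlib

/-!
# Helper16: functors preserving pullbacks preserve finite fibre powers; Čech nerves

* `IsWP f n P b π`: elementary universal property of the `n`-fold fibre power of `f : K' ⟶ K`.
* `IsWP.map`: a functor preserving pullbacks preserves fibre powers.
* `isIso_lift`: the comparison map `G (K' ×_K ⋯ ×_K K') ⟶ G K' ×_{G K} ⋯ ×_{G K} G K'` is an iso.
* `cechNerveIso`: `cechNerve f ⋙ G ≅ cechNerve (G f)`.
-/

set_option autoImplicit false
set_option linter.unusedSectionVars false
set_option linter.unusedVariables false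
universe v v' u u'

open CategoryTheory Limits Opposite

namespace Groth.Agent.Lib.Helper16.WidePB

variable {E : Type u} [Category.{v} E] {E' : Type u'} [Category.{v'} E']

/-- elementary universal property of the `n`-fold fibre power of `f : K' ⟶ K`. -/
structure IsWP {K' K : E} (f : K' ⟶ K) (n : ℕ) (P : E) (b : P ⟶ K) (π : Fin n → (P ⟶ K')) :
    Prop where
  w : ∀ i, π i ≫ f = b
  ex : ∀ (T : E) (t : T ⟶ K) (s : Fin n → (T ⟶ K')), (∀ i, s i ≫ f = t) →
    ∃ l : T ⟶ P, l ≫ b = t ∧ ∀ i, l ≫ π i = s i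
  uniq : ∀ (T : E) (l l' : T ⟶ P), l ≫ b = l' ≫ b → (∀ i, l ≫ π i = l' ≫ π i) → l = l'

variable {K' K : E} (f : K' ⟶ K)

theorem isWP_zero : IsWP f 0 K (𝟙 K) (fun i => i.elim0) where
  w i := i.elim0
  ex T t s _ := ⟨t, Category.comp_id _, fun i => i.elim0⟩
  uniq T l l' h _ := by simpa using h

theorem IsWP.of_iso {n : ℕ} {P : E} {b : P ⟶ K} {π : Fin n → (P ⟶ K')} (h : IsWP f n P b π)
    {P' : E} (e : P' ≅ P) (b' : P' ⟶ K) (π' : Fin n → (P' ⟶ K')) (hb : e.hom ≫ b = b')
    (hπ : ∀ i, e.hom ≫ π i = π' i) : IsWP f n P' b' π' := by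
  subst hb
  obtain rfl : (fun i => e.hom ≫ π i) = π' := funext hπ
  refine ⟨fun i => by rw [Category.assoc, h.w], fun T t s hs => ?_, fun T l l' h1 h2 => ?_⟩
  · obtain ⟨l, hl, hl'⟩ := h.ex T t s hs
    refine ⟨l ≫ e.inv, ?_, fun i => ?_⟩
    · rw [Category.assoc, Iso.inv_hom_id_assoc, hl]
    · rw [Category.assoc, Iso.inv_hom_id_assoc, hl']
  · have : l ≫ e.hom = l' ≫ e.hom :=
      h.uniq T _ _ (by simpa using h1) (fun i => by simpa using h2 i)
    rw [← cancel_mono e.hom]
    exact this

theorem IsWP.unique {n : ℕ} {P : E} {b : P ⟶ K} {π : Fin n → (P ⟶ K')} (h : IsWP f n P b π)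
    {P' : E} {b' : P' ⟶ K} {π' : Fin n → (P' ⟶ K')} (h' : IsWP f n P' b' π') :
    ∃ e : P' ≅ P, e.hom ≫ b = b' ∧ ∀ i, e.hom ≫ π i = π' i := by
  obtain ⟨l, hl, hl'⟩ := h.ex P' b' π' h'.w
  obtain ⟨m, hm, hm'⟩ := h'.ex P b π h.w
  refine ⟨⟨l, m, ?_, ?_⟩, hl, hl'⟩
  · apply h'.uniq
    · rw [Category.assoc, hm, hl, Category.id_comp]
    · intro i
      rw [Category.assoc, hm', hl', Category.id_comp]
  · apply h.uniq
    · rw [Category.assoc, hl, hm, Category.id_comp]
    · intro i
      rw [Category.assoc, hl', hm', Category.id_comp]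

theorem IsWP.succ {n : ℕ} {P : E} {b : P ⟶ K} {π : Fin n → (P ⟶ K')} (h : IsWP f n P b π)
    {Q : E} {q1 : Q ⟶ P} {q2 : Q ⟶ K'} (hQ : IsPullback q1 q2 b f) :
    IsWP f (n + 1) Q (q1 ≫ b)
      (Fin.snoc (α := fun _ => Q ⟶ K') (fun i => q1 ≫ π i) q2) where
  w i := by
    refine Fin.lastCases ?_ (fun j => ?_) i
    · rw [Fin.snoc_last]
      exact hQ.w.symm
    · rw [Fin.snoc_castSucc, Category.assoc, h.w]
  ex T t s hs := by
    obtain ⟨l₀, hl₀, hl₀'⟩ := h.ex T t (fun i => s i.castSucc) (fun i => hs _)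
    obtain ⟨l, hl1, hl2⟩ : ∃ l : T ⟶ Q, l ≫ q1 = l₀ ∧ l ≫ q2 = s (Fin.last n) :=
      ⟨hQ.lift l₀ (s (Fin.last n)) (by rw [hl₀, hs]), hQ.lift_fst _ _ _, hQ.lift_snd _ _ _⟩
    refine ⟨l, by rw [← Category.assoc, hl1, hl₀], fun i => ?_⟩
    refine Fin.lastCases ?_ (fun j => ?_) i
    · rw [Fin.snoc_last, hl2]
    · rw [Fin.snoc_castSucc, ← Category.assoc, hl1, hl₀']
  uniq T l l' h1 h2 := by
    apply hQ.hom_ext
    · apply h.uniq
      · simpa using h1
      · intro i
        have := h2 i.castSucc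
        rw [Fin.snoc_castSucc] at this
        simpa using this
    · have := h2 (Fin.last n)
      rw [Fin.snoc_last] at this
      exact this

theorem isWP_widePullback (n : ℕ) [HasWidePullback K (fun _ : Fin n => K') (fun _ => f)] :
    IsWP f n (widePullback K (fun _ : Fin n => K') (fun _ => f))
      (WidePullback.base (fun _ : Fin n => f)) (fun i => WidePullback.π (fun _ : Fin n => f) i) where
  w i := WidePullback.π_arrow _ i
  ex T t s hs := ⟨WidePullback.lift t s hs, WidePullback.lift_base _ _ _ _,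
    fun i => WidePullback.lift_π _ _ _ _ _⟩
  uniq T l l' h1 h2 := WidePullback.hom_ext _ _ _ h2 h1

theorem IsWP.map (G : E ⥤ E') [HasPullbacks E] [HasFiniteWidePullbacks E]
    [PreservesLimitsOfShape WalkingCospan G] :
    ∀ (n : ℕ) {P : E} {b : P ⟶ K} {π : Fin n → (P ⟶ K')}, IsWP f n P b π →
      IsWP (G.map f) n (G.obj P) (G.map b) (fun i => G.map (π i)) := by
  intro n
  induction n with
  | zero =>
    intro P b π h
    obtain ⟨e, he, -⟩ := (isWP_zero f).unique f h
    exact (isWP_zero (G.map f)).of_iso _ (G.mapIso e) _ _ (by simp [← he]) (fun i => i.elim0)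
  | succ n ih =>
    intro P b π h
    have h₀ := isWP_widePullback f n
    have hQ : IsPullback (pullback.fst (WidePullback.base (fun _ : Fin n => f)) f)
        (pullback.snd (WidePullback.base (fun _ : Fin n => f)) f)
        (WidePullback.base (fun _ : Fin n => f)) f := IsPullback.of_hasPullback _ _
    have h₁ := h₀.succ f hQ
    obtain ⟨e, he, he'⟩ := h₁.unique f h
    have h₂ := (ih h₀).succ (G.map f) (hQ.map G)
    refine h₂.of_iso _ (G.mapIso e) _ _ ?_ ?_
    · rw [Functor.mapIso_hom, ← G.map_comp, ← G.map_comp, he]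
    · intro i
      rw [← he' i]
      refine Fin.lastCases ?_ (fun j => ?_) i
      · simp [Fin.snoc_last]
      · simp [Fin.snoc_castSucc]

theorem isIso_lift (G : E ⥤ E') [HasPullbacks E] [HasFiniteWidePullbacks E]
    [PreservesLimitsOfShape WalkingCospan G] (n : ℕ)
    [HasWidePullback (G.obj K) (fun _ : Fin n => G.obj K') (fun _ => G.map f)] :
    IsIso (WidePullback.lift (G.map (WidePullback.base (fun _ : Fin n => f)))
      (fun i => G.map (WidePullback.π (fun _ : Fin n => f) i))
      (fun i => by rw [← G.map_comp, WidePullback.π_arrow]) :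
        G.obj (widePullback K (fun _ : Fin n => K') (fun _ => f)) ⟶
          widePullback (G.obj K) (fun _ : Fin n => G.obj K') (fun _ => G.map f)) := by
  obtain ⟨e, he, he'⟩ := (isWP_widePullback (G.map f) n).unique _
    ((isWP_widePullback f n).map f G n)
  have : WidePullback.lift (G.map (WidePullback.base (fun _ : Fin n => f)))
      (fun i => G.map (WidePullback.π (fun _ : Fin n => f) i))
      (fun i => by rw [← G.map_comp, WidePullback.π_arrow]) = e.hom := by
    apply WidePullback.hom_ext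
    · intro i
      rw [WidePullback.lift_π, he' i]
    · rw [WidePullback.lift_base, he]
  rw [this]
  infer_instance

section cech

variable [HasPullbacks E] [HasFiniteWidePullbacks E] [HasFiniteWidePullbacks E']
  (G : E ⥤ E') [PreservesLimitsOfShape WalkingCospan G] {K' K : E} (f : K' ⟶ K)

/-- the comparison map `G (Čech nerve of f) ⟶ Čech nerve of G f`. -/
noncomputable def cmp (m : SimplexCategoryᵒᵖ) :
    ((Arrow.mk f).cechNerve ⋙ G).obj m ⟶ (Arrow.mk (G.map f)).cechNerve.obj m :=
  WidePullback.lift (objs := fun _ : Fin (m.unop.len + 1) => G.obj K')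
    (arrows := fun _ : Fin (m.unop.len + 1) => G.map f)
    (G.map (WidePullback.base (fun _ : Fin (m.unop.len + 1) => f)))
    (fun i => G.map (WidePullback.π (fun _ : Fin (m.unop.len + 1) => f) i))
    (fun i => by rw [← G.map_comp, WidePullback.π_arrow])

instance isIso_cmp (m : SimplexCategoryᵒᵖ) : IsIso (cmp G f m) :=
  isIso_lift f G (m.unop.len + 1)

theorem cmp_π (m : SimplexCategoryᵒᵖ) (i : Fin (m.unop.len + 1)) :
    cmp G f m ≫ WidePullback.π (fun _ : Fin (m.unop.len + 1) => G.map f) i =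
      G.map (WidePullback.π (fun _ : Fin (m.unop.len + 1) => f) i) :=
  WidePullback.lift_π _ _ _ _ _

theorem cmp_base (m : SimplexCategoryᵒᵖ) :
    cmp G f m ≫ WidePullback.base (fun _ : Fin (m.unop.len + 1) => G.map f) =
      G.map (WidePullback.base (fun _ : Fin (m.unop.len + 1) => f)) :=
  WidePullback.lift_base _ _ _ _

theorem cmp_naturality {m m' : SimplexCategoryᵒᵖ} (θ : m ⟶ m') :
    ((Arrow.mk f).cechNerve ⋙ G).map θ ≫ cmp G f m' =
      cmp G f m ≫ (Arrow.mk (G.map f)).cechNerve.map θ := by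
  apply WidePullback.hom_ext (fun _ : Fin (m'.unop.len + 1) => G.map f)
  · intro i
    rw [Category.assoc, Category.assoc, cmp_π]
    have h1 : (Arrow.mk (G.map f)).cechNerve.map θ ≫
        WidePullback.π (fun _ : Fin (m'.unop.len + 1) => G.map f) i =
        WidePullback.π (fun _ : Fin (m.unop.len + 1) => G.map f) (θ.unop.toOrderHom i) :=
      WidePullback.lift_π _ _ _ _ _
    have h2 : (Arrow.mk f).cechNerve.map θ ≫
        WidePullback.π (fun _ : Fin (m'.unop.len + 1) => f) i =
        WidePullback.π (fun _ : Fin (m.unop.len + 1) => f) (θ.unop.toOrderHom i) :=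
      WidePullback.lift_π _ _ _ _ _
    rw [h1, cmp_π, Functor.comp_map, ← G.map_comp, h2]
  · rw [Category.assoc, Category.assoc, cmp_base]
    have h1 : (Arrow.mk (G.map f)).cechNerve.map θ ≫
        WidePullback.base (fun _ : Fin (m'.unop.len + 1) => G.map f) =
        WidePullback.base (fun _ : Fin (m.unop.len + 1) => G.map f) :=
      WidePullback.lift_base _ _ _ _
    have h2 : (Arrow.mk f).cechNerve.map θ ≫
        WidePullback.base (fun _ : Fin (m'.unop.len + 1) => f) =
        WidePullback.base (fun _ : Fin (m.unop.len + 1) => f) :=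
      WidePullback.lift_base _ _ _ _
    rw [h1, cmp_base, Functor.comp_map, ← G.map_comp, h2]

/-- a functor preserving pullbacks commutes with Čech nerves. -/
noncomputable def cechNerveIso :
    (Arrow.mk f).cechNerve ⋙ G ≅ (Arrow.mk (G.map f)).cechNerve :=
  NatIso.ofComponents (fun m => asIso (cmp G f m)) (fun θ => cmp_naturality G f θ)

end cech

end Groth.Agent.Lib.Helper16.WidePB
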