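import Mathlib
import Groth.Agent.Lib.Helper16WildFlat

/-!
# Invariants of a finite group acting on a complete local ring with a fixed coefficient field

Helper library (helper16) for `WildQuot.fixedPoints_noetherian_finite_normal_complete_not_regular`
(S15798).
-/

set_option autoImplicit false
set_option linter.style.haveILetI false
set_option linter.unusedSectionVars false

universe u v w

namespace Groth.Agent.Lib.Helper16.WildInv

open IsLocalRing Groth.Agent.Lib.Helper16.WildFlat

section Conv

variable {A : Type u} [CommRing A] [IsLocalRing A] {G : Type w} [Group G] [MulSemiringAction G A]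

theorem smul_mem_maximalIdeal (σ : G) {x : A} (hx : x ∈ maximalIdeal A) :
    σ • x ∈ maximalIdeal A := by
  rw [mem_maximalIdeal, mem_nonunits_iff] at hx ⊢
  intro hu
  apply hx
  have := hu.map (MulSemiringAction.toRingHom G A σ⁻¹)
  simpa using this

theorem smul_mem_pow (σ : G) (j : ℕ) {x : A} (hx : x ∈ maximalIdeal A ^ j) :
    σ • x ∈ maximalIdeal A ^ j := by
  have h1 : Ideal.map (MulSemiringAction.toRingHom G A σ) (maximalIdeal A) ≤ maximalIdeal A := by
    rw [Ideal.map_le_iff_le_comap]
    intro y hy
    exact smul_mem_maximalIdeal σ hy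
  have h2 := Ideal.mem_map_of_mem (MulSemiringAction.toRingHom G A σ) hx
  rw [Ideal.map_pow] at h2
  exact Ideal.pow_right_mono h1 j h2

/-- The maximal ideal of the invariant ring. -/
abbrev mB (A : Type u) [CommRing A] [IsLocalRing A] (G : Type w) [Group G]
    [MulSemiringAction G A] : Ideal (FixedPoints.subring A G) :=
  Ideal.comap (FixedPoints.subring A G).subtype (maximalIdeal A)

theorem coe_mem_pow_of_mem_pow {j : ℕ} {ν : FixedPoints.subring A G} (hν : ν ∈ mB A G ^ j) :
    (ν : A) ∈ maximalIdeal A ^ j := by
  have h1 : Ideal.map (FixedPoints.subring A G).subtype (mB A G) ≤ maximalIdeal A :=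
    Ideal.map_comap_le
  have h2 := Ideal.mem_map_of_mem (FixedPoints.subring A G).subtype hν
  rw [Ideal.map_pow] at h2
  exact Ideal.pow_right_mono h1 j h2

/-- A sequence of invariants which is Cauchy for the `m`-adic topology converges to an
invariant. -/
theorem exists_limit_fixed [IsAdicComplete (maximalIdeal A) A] (s : ℕ → FixedPoints.subring A G)
    (hs : ∀ l, ((s (l + 1) : A) - s l) ∈ maximalIdeal A ^ l) :
    ∃ C : FixedPoints.subring A G, ∀ l, ((C : A) - s l) ∈ maximalIdeal A ^ l := by
  have hcauchy : ∀ m n, m ≤ n → ((s n : A) - s m) ∈ maximalIdeal A ^ m := by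
    intro m n hmn
    induction n, hmn using Nat.le_induction with
    | base => simp
    | succ n hmn ih =>
      have : ((s (n + 1) : A) - s m) = ((s (n + 1) : A) - s n) + ((s n : A) - s m) := by ring
      rw [this]
      exact add_mem (Ideal.pow_le_pow_right hmn (hs n)) ih
  obtain ⟨L, hL⟩ := IsPrecomplete.prec' (I := maximalIdeal A) (fun l => (s l : A)) (by
    intro m n hmn
    rw [SModEq.sub_mem, smul_eq_mul, Ideal.mul_top]
    have := hcauchy m n hmn
    rw [← neg_sub]
    exact neg_mem this)
  have hL' : ∀ l, (L - s l) ∈ maximalIdeal A ^ l := by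
    intro l
    have := hL l
    rw [SModEq.sub_mem, smul_eq_mul, Ideal.mul_top] at this
    rw [← neg_sub]
    exact neg_mem this
  have hfix : ∀ σ : G, σ • L = L := by
    intro σ
    rw [← sub_eq_zero]
    apply IsHausdorff.haus' (I := maximalIdeal A)
    intro l
    rw [SModEq.sub_mem, smul_eq_mul, Ideal.mul_top, sub_zero]
    have h1 : σ • L - L = σ • (L - s l) - (L - s l) := by
      rw [smul_sub, (s l).2 σ]; ring
    rw [h1]
    exact sub_mem (smul_mem_pow σ l (hL' l)) (hL' l)
  exact ⟨⟨L, hfix⟩, hL'⟩

end Conv

section Finite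

open Polynomial in
/-- Every element of `m` has a power in `m_B A`. -/
theorem le_radical_map_mB {A : Type u} [CommRing A] [IsLocalRing A]
    {G : Type w} [Group G] [Fintype G] [MulSemiringAction G A] :
    maximalIdeal A ≤ (Ideal.map (algebraMap (FixedPoints.subring A G) A) (mB A G)).radical := by
  classical
  intro x hx
  set P := MulSemiringAction.charpoly G x with hP
  have hmonic : P.Monic := MulSemiringAction.monic_charpoly G x
  have heval : P.eval x = 0 := MulSemiringAction.eval_charpoly G x
  -- non-leading coefficients lie in `m`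
  have hmap : P.map (Ideal.Quotient.mk (maximalIdeal A)) = X ^ Fintype.card G := by
    rw [hP, MulSemiringAction.charpoly_eq, Polynomial.map_prod]
    have : ∀ g : G, (X - C (g • x)).map (Ideal.Quotient.mk (maximalIdeal A)) = X := by
      intro g
      rw [Polynomial.map_sub, Polynomial.map_X, Polynomial.map_C,
        Ideal.Quotient.eq_zero_iff_mem.mpr (smul_mem_maximalIdeal g hx), C_0, sub_zero]
    simp only [this, Finset.prod_const, Finset.card_univ]
  have hdeg : P.natDegree = Fintype.card G := by
    rw [← hmonic.natDegree_map (Ideal.Quotient.mk (maximalIdeal A)), hmap, natDegree_X_pow]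
  have hcoeff : ∀ i, i < P.natDegree → P.coeff i ∈ maximalIdeal A := by
    intro i hi
    rw [← Ideal.Quotient.eq_zero_iff_mem, ← Polynomial.coeff_map, hmap, coeff_X_pow,
      if_neg (by omega)]
  refine ⟨P.natDegree, ?_⟩
  have hsum := hmonic.as_sum
  have h2 : x ^ P.natDegree = - ∑ i ∈ Finset.range P.natDegree, P.coeff i * x ^ i := by
    have h3 := congrArg (Polynomial.eval x) hsum
    rw [heval] at h3
    simp only [eval_add, eval_pow, eval_X, eval_finsetSum, eval_mul, eval_C] at h3
    rw [eq_neg_iff_add_eq_zero]
    exact h3.symm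
  rw [h2]
  refine neg_mem (Ideal.sum_mem _ fun i hi => Ideal.mul_mem_right _ _ ?_)
  have hfix : ∀ g : G, g • P.coeff i = P.coeff i :=
    fun g => MulSemiringAction.smul_coeff_charpoly x i g
  have hmem : (⟨P.coeff i, hfix⟩ : FixedPoints.subring A G) ∈ mB A G :=
    hcoeff i (Finset.mem_range.mp hi)
  exact Ideal.mem_map_of_mem (algebraMap (FixedPoints.subring A G) A) hmem

variable {A : Type u} [CommRing A] [IsLocalRing A] [IsNoetherianRing A]
  {k : Type v} [Field k] [Algebra k A]

/-- With a coefficient field, `A / m ^ e` is finite-dimensional. -/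
theorem exists_fg_sup_pow_eq_top
    (hk : Function.Surjective (IsLocalRing.residue A ∘ algebraMap k A)) (e : ℕ) :
    ∃ V : Submodule k A, V.FG ∧ V ⊔ (maximalIdeal A ^ e).restrictScalars k = ⊤ := by
  induction e with
  | zero =>
    refine ⟨⊥, Submodule.fg_bot, ?_⟩
    rw [pow_zero, Ideal.one_eq_top, Submodule.restrictScalars_top, bot_sup_eq]
  | succ e ih =>
    obtain ⟨V, hV, hVtop⟩ := ih
    obtain ⟨Y, hY⟩ := (IsNoetherian.noetherian (maximalIdeal A ^ e) : (maximalIdeal A ^ e).FG)
    refine ⟨V ⊔ Submodule.span k (Y : Set A), hV.sup (Submodule.fg_span Y.finite_toSet), ?_⟩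
    have key : (maximalIdeal A ^ e).restrictScalars k ≤
        Submodule.span k (Y : Set A) ⊔ (maximalIdeal A ^ (e + 1)).restrictScalars k := by
      intro x hx
      have hx' : x ∈ Submodule.span A (Y : Set A) := by rw [hY]; exact hx
      clear hx
      induction hx' using Submodule.span_induction with
      | mem y hy => exact Submodule.mem_sup_left (Submodule.subset_span hy)
      | zero => exact zero_mem _
      | add y z _ _ h1 h2 => exact add_mem h1 h2
      | smul a y hy h1 =>
        obtain ⟨c, hc⟩ := hk (residue A a)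
        have ha : a - algebraMap k A c ∈ maximalIdeal A := by
          rw [← residue_eq_zero_iff, map_sub, ← hc]; simp
        have hy' : y ∈ maximalIdeal A ^ e := by rw [← hY]; exact hy
        have : a • y = c • y + (a - algebraMap k A c) * y := by
          rw [smul_eq_mul, Algebra.smul_def]; ring
        rw [this]
        refine add_mem (Submodule.smul_mem _ c h1) (Submodule.mem_sup_right ?_)
        change (a - algebraMap k A c) * y ∈ maximalIdeal A ^ (e + 1)
        rw [pow_succ']
        exact Ideal.mul_mem_mul ha hy'
    rw [eq_top_iff, ← hVtop]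
    refine sup_le (le_sup_of_le_left le_sup_left) (key.trans ?_)
    exact sup_le (le_sup_of_le_left le_sup_right) le_sup_right

example {A : Type u} [CommRing A] {G : Type w} [Group G] [MulSemiringAction G A] :
    algebraMap (FixedPoints.subring A G) A = (FixedPoints.subring A G).subtype := rfl

/-- `A` is a finite module over the invariants (complete local ring, fixed coefficient field). -/
theorem finite_fixed [IsAdicComplete (maximalIdeal A) A]
    (hk : Function.Surjective (IsLocalRing.residue A ∘ algebraMap k A))
    {G : Type w} [Group G] [Finite G] [MulSemiringAction G A]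
    (hGk : ∀ (σ : G) (c : k), σ • algebraMap k A c = algebraMap k A c) :
    Module.Finite (FixedPoints.subring A G) A := by
  classical
  cases nonempty_fintype G
  set B := FixedPoints.subring A G with hB
  set J : Ideal A := Ideal.map (algebraMap B A) (mB A G) with hJ
  obtain ⟨e, he⟩ := Ideal.exists_pow_le_of_le_radical_of_fg
    (le_radical_map_mB (A := A) (G := G)) (IsNoetherian.noetherian _)
  obtain ⟨V, hVfg, hVtop⟩ := exists_fg_sup_pow_eq_top hk e
  obtain ⟨r, b, hb⟩ := Submodule.fg_iff_exists_fin_generating_family.mp hVfg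
  have L0 : ∀ a : A, ∃ β : Fin r → B, a - ∑ i, (β i : A) * b i ∈ J := by
    intro a
    have ha : a ∈ V ⊔ (maximalIdeal A ^ e).restrictScalars k := by rw [hVtop]; trivial
    obtain ⟨v, hv, w, hw, rfl⟩ := Submodule.mem_sup.mp ha
    rw [← hb] at hv
    obtain ⟨c, rfl⟩ := (Submodule.mem_span_range_iff_exists_fun k).mp hv
    refine ⟨fun i => ⟨algebraMap k A (c i), fun g => hGk g (c i)⟩, ?_⟩
    have : ∑ i, c i • b i + w - ∑ i, algebraMap k A (c i) * b i = w := by
      simp [Algebra.smul_def]
    change ∑ i, c i • b i + w - ∑ i, algebraMap k A (c i) * b i ∈ J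
    rw [this]
    exact he hw
  have hJpow : ∀ j, Ideal.map (algebraMap B A) (mB A G ^ j) ≤ maximalIdeal A ^ j := by
    intro j a ha
    rw [Ideal.map_pow] at ha
    exact Ideal.pow_right_mono (Ideal.map_comap_le) j ha
  have L1 : ∀ (j : ℕ) (a : A), a ∈ Ideal.map (algebraMap B A) (mB A G ^ j) →
      ∃ β : Fin r → B, (∀ i, β i ∈ mB A G ^ j) ∧
        a - ∑ i, (β i : A) * b i ∈ Ideal.map (algebraMap B A) (mB A G ^ (j + 1)) := by
    intro j a ha
    have Q : ∀ c : A, ∃ β : Fin r → B, (∀ i, β i ∈ mB A G ^ j) ∧
        c * a - ∑ i, (β i : A) * b i ∈ Ideal.map (algebraMap B A) (mB A G ^ (j + 1)) := by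
      rw [Ideal.map] at ha
      induction ha using Submodule.span_induction with
      | mem a ha =>
        obtain ⟨ν, hν, rfl⟩ := ha
        intro c
        obtain ⟨β, hβ⟩ := L0 c
        refine ⟨fun i => ν * β i, fun i => Ideal.mul_mem_right _ _ hν, ?_⟩
        have : c * algebraMap B A ν - ∑ i, ((ν * β i : B) : A) * b i =
            algebraMap B A ν * (c - ∑ i, (β i : A) * b i) := by
          change c * (ν : A) - ∑ i, ((ν * β i : B) : A) * b i = (ν : A) * (c - ∑ i, (β i : A) * b i)
          simp only [Subring.coe_mul, mul_sub, Finset.mul_sum]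
          rw [mul_comm c]
          congr 1
          exact Finset.sum_congr rfl fun i _ => by ring
        rw [this, pow_succ, Ideal.map_mul]
        refine Ideal.mul_mem_mul (Ideal.mem_map_of_mem _ hν) ?_
        exact hβ
      | zero => intro c; exact ⟨0, fun i => zero_mem _, by simp⟩
      | add a a' _ _ h1 h2 =>
        intro c
        obtain ⟨β, hβ1, hβ2⟩ := h1 c
        obtain ⟨β', hβ1', hβ2'⟩ := h2 c
        refine ⟨β + β', fun i => add_mem (hβ1 i) (hβ1' i), ?_⟩
        have : c * (a + a') - ∑ i, ((β + β') i : A) * b i =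
            (c * a - ∑ i, (β i : A) * b i) + (c * a' - ∑ i, (β' i : A) * b i) := by
          simp only [Pi.add_apply, Subring.coe_add, add_mul, Finset.sum_add_distrib]; ring
        rw [this]; exact add_mem hβ2 hβ2'
      | smul d a _ h1 =>
        intro c
        obtain ⟨β, hβ1, hβ2⟩ := h1 (c * d)
        exact ⟨β, hβ1, by rwa [smul_eq_mul, ← mul_assoc]⟩
    obtain ⟨β, hβ1, hβ2⟩ := Q 1
    exact ⟨β, hβ1, by rwa [one_mul] at hβ2⟩
  choose! β hβ1 hβ2 using L1
  have key : ∀ a : A, a ∈ Submodule.span B (Set.range b) := by
    intro a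
    let x : ℕ → A := fun j => Nat.rec a (fun j xj => xj - ∑ i, (β j xj i : A) * b i) j
    have hx0 : x 0 = a := rfl
    have hxs : ∀ j, x (j + 1) = x j - ∑ i, (β j (x j) i : A) * b i := fun j => rfl
    have hxmem : ∀ j, x j ∈ Ideal.map (algebraMap B A) (mB A G ^ j) := by
      intro j
      induction j with
      | zero => rw [pow_zero, Ideal.one_eq_top, Ideal.map_top]; trivial
      | succ j ih => rw [hxs]; exact hβ2 j (x j) ih
    let S : ℕ → Fin r → B := fun j i => ∑ l ∈ Finset.range j, β l (x l) i
    have hSs : ∀ j i, (S (j + 1) i : A) = (S j i : A) + (β j (x j) i : A) := by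
      intro j i
      simp only [S, Finset.sum_range_succ, Subring.coe_add]
    have hS : ∀ j, a = ∑ i, (S j i : A) * b i + x j := by
      intro j
      induction j with
      | zero => simp [S, hx0]
      | succ j ih =>
        rw [hxs]
        simp_rw [hSs, add_mul, Finset.sum_add_distrib]
        linear_combination ih
    have hcauchy : ∀ i l, ((S (l + 1) i : A) - S l i) ∈ maximalIdeal A ^ l := by
      intro i l
      rw [hSs, add_sub_cancel_left]
      exact coe_mem_pow_of_mem_pow (hβ1 l (x l) (hxmem l) i)
    choose C hC using fun i => exists_limit_fixed (fun l => S l i) (hcauchy i)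
    have haC : a = ∑ i, (C i : A) * b i := by
      rw [← sub_eq_zero]
      apply IsHausdorff.haus' (I := maximalIdeal A)
      intro l
      rw [SModEq.sub_mem, smul_eq_mul, Ideal.mul_top, sub_zero]
      have : a - ∑ i, (C i : A) * b i = x l - ∑ i, ((C i : A) - S l i) * b i := by
        simp_rw [sub_mul, Finset.sum_sub_distrib]
        linear_combination hS l
      rw [this]
      refine sub_mem (hJpow l (hxmem l)) (Ideal.sum_mem _ fun i _ => Ideal.mul_mem_right _ _ (hC i l))
    rw [haC]
    refine Submodule.sum_mem _ fun i _ => ?_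
    have : (C i : A) * b i = C i • b i := by rw [Subring.smul_def, smul_eq_mul]
    rw [this]
    exact Submodule.smul_mem _ _ (Submodule.subset_span ⟨i, rfl⟩)
  rw [Module.finite_def]
  have : (⊤ : Submodule B A) = Submodule.span B (Set.range b) :=
    (eq_top_iff.mpr fun a _ => key a).symm
  rw [this]
  exact Submodule.fg_span (Set.finite_range b)

end Finite

section IntClosed

variable {A : Type u} [CommRing A] [IsDomain A] [IsIntegrallyClosed A]
  {G : Type w} [Group G] [MulSemiringAction G A]

/-- The invariant ring of an integrally closed domain is integrally closed. -/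
theorem isIntegrallyClosed_fixed : IsIntegrallyClosed (FixedPoints.subring A G) := by
  set B := FixedPoints.subring A G with hB
  rw [isIntegrallyClosed_iff (FractionRing B)]
  intro x hx
  -- the map of fraction fields
  let g : B →+* FractionRing A := (algebraMap A (FractionRing A)).comp (algebraMap B A)
  have hg : Function.Injective g :=
    (IsFractionRing.injective A (FractionRing A)).comp Subtype.val_injective
  let φ : FractionRing B →+* FractionRing A := IsFractionRing.lift hg
  have hφ : ∀ b : B, φ (algebraMap B (FractionRing B) b) = g b :=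
    fun b => IsFractionRing.lift_algebraMap hg b
  -- `φ x` is integral over `A`
  have hint : IsIntegral A (φ x) := by
    obtain ⟨p, hp, hpx⟩ := hx
    refine ⟨p.map (algebraMap B A), hp.map _, ?_⟩
    have h1 := congrArg φ hpx
    rw [Polynomial.hom_eval₂, map_zero] at h1
    rw [Polynomial.eval₂_map]
    have h2 : φ.comp (algebraMap B (FractionRing B)) =
        (algebraMap A (FractionRing A)).comp (algebraMap B A) := RingHom.ext hφ
    rw [h2] at h1
    exact h1
  obtain ⟨a, ha⟩ := IsIntegrallyClosed.isIntegral_iff.mp hint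
  -- write `x` as a fraction
  obtain ⟨b1, b2, hb2, hx12⟩ := IsFractionRing.div_surjective (A := B) x
  have hb2K : algebraMap B (FractionRing B) b2 ≠ 0 :=
    IsFractionRing.to_map_ne_zero_of_mem_nonZeroDivisors hb2
  have hxmul : x * algebraMap B (FractionRing B) b2 = algebraMap B (FractionRing B) b1 := by
    rw [← hx12, div_mul_cancel₀ _ hb2K]
  have hb2A : (b2 : A) ≠ 0 := by
    intro h
    apply nonZeroDivisors.ne_zero hb2
    exact Subtype.ext h
  have hab : a * (b2 : A) = (b1 : A) := by
    apply IsFractionRing.injective A (FractionRing A)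
    have h3 := congrArg φ hxmul
    rw [map_mul, hφ, hφ, ← ha] at h3
    rw [map_mul]
    exact h3
  have hafix : ∀ σ : G, σ • a = a := by
    intro σ
    have h4 : σ • a * (b2 : A) = a * (b2 : A) := by
      have := congrArg (σ • ·) hab
      simp only [smul_mul', b2.2 σ, b1.2 σ] at this
      rw [this, hab]
    exact mul_right_cancel₀ hb2A h4
  refine ⟨⟨a, hafix⟩, ?_⟩
  have h5 : (⟨a, hafix⟩ : B) * b2 = b1 := Subtype.ext hab
  apply mul_right_cancel₀ hb2K
  rw [hxmul, ← map_mul, h5]

end IntClosed

section Complete

variable {A : Type u} [CommRing A] [IsLocalRing A] [IsAdicComplete (maximalIdeal A) A]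
  {G : Type w} [Group G] [MulSemiringAction G A]

/-- The invariant ring is complete for the `m ∩ B`-adic topology. -/
theorem isAdicComplete_fixed [IsNoetherianRing (FixedPoints.subring A G)] :
    IsAdicComplete (mB A G) (FixedPoints.subring A G) := by
  classical
  set B := FixedPoints.subring A G with hB
  have hausA : ∀ y : A, (∀ l, y ∈ maximalIdeal A ^ l) → y = 0 := by
    intro y hy
    apply IsHausdorff.haus' (I := maximalIdeal A)
    intro l
    rw [SModEq.sub_mem, smul_eq_mul, Ideal.mul_top, sub_zero]
    exact hy l
  refine { haus' := ?_, prec' := ?_ }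
  · intro x hx
    apply Subtype.ext
    apply hausA
    intro l
    have := hx l
    rw [SModEq.sub_mem, smul_eq_mul, Ideal.mul_top, sub_zero] at this
    exact coe_mem_pow_of_mem_pow this
  · intro f hf
    have hf' : ∀ m n, m ≤ n → f m - f n ∈ mB A G ^ m := by
      intro m n hmn
      have := hf hmn
      rwa [SModEq.sub_mem, smul_eq_mul, Ideal.mul_top] at this
    obtain ⟨L, hL⟩ := exists_limit_fixed f (fun l => by
      have := hf' l (l + 1) (Nat.le_succ l)
      have h2 := coe_mem_pow_of_mem_pow (neg_mem this)
      simpa using h2)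
    refine ⟨L, fun n => ?_⟩
    rw [SModEq.sub_mem, smul_eq_mul, Ideal.mul_top]
    -- generators of `mB ^ n`
    obtain ⟨s, ν, hν⟩ := Submodule.fg_iff_exists_fin_generating_family.mp
      (IsNoetherian.noetherian (mB A G ^ n) : (mB A G ^ n).FG)
    have hstep : ∀ t : ℕ, ∃ c : Fin s → B, (∀ q, c q ∈ mB A G ^ t) ∧
        f (n + t + 1) - f (n + t) = ∑ q, c q * ν q := by
      intro t
      have h1 : f (n + t + 1) - f (n + t) ∈ mB A G ^ t • Submodule.span B (Set.range ν) := by
        rw [hν, smul_eq_mul, ← pow_add, add_comm t n]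
        exact neg_sub (f (n + t)) (f (n + t + 1)) ▸ neg_mem (hf' (n + t) (n + t + 1) (Nat.le_succ _))
      obtain ⟨a, ha, hsum⟩ := (Submodule.mem_ideal_smul_span_iff_exists_sum _ _ _).mp h1
      refine ⟨fun q => a q, ha, ?_⟩
      rw [← hsum, Finsupp.sum_fintype _ _ (fun i => by simp)]
      simp [smul_eq_mul]
    choose c hc1 hc2 using hstep
    let T : ℕ → Fin s → B := fun t q => ∑ t' ∈ Finset.range t, c t' q
    have hTs : ∀ t q, T (t + 1) q = T t q + c t q := by
      intro t q
      simp only [T, Finset.sum_range_succ]
    have hT : ∀ t, f (n + t) - f n = ∑ q, T t q * ν q := by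
      intro t
      induction t with
      | zero => simp [T]
      | succ t ih =>
        simp_rw [hTs, add_mul, Finset.sum_add_distrib]
        rw [← ih, ← hc2 t]
        rw [show n + (t + 1) = n + t + 1 by ring]
        ring
    have hTcauchy : ∀ q l, ((T (l + 1) q : A) - T l q) ∈ maximalIdeal A ^ l := by
      intro q l
      rw [hTs, Subring.coe_add, add_sub_cancel_left]
      exact coe_mem_pow_of_mem_pow (hc1 l q)
    choose C hC using fun q => exists_limit_fixed (fun l => T l q) (hTcauchy q)
    have hLC : L - f n = ∑ q, C q * ν q := by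
      apply Subtype.ext
      rw [← sub_eq_zero]
      apply hausA
      intro t
      have h1 : ((L - f n : B) : A) - ((∑ q, C q * ν q : B) : A) =
          ((L : A) - f (n + t)) - ∑ q, ((C q : A) - T t q) * ν q := by
        have h2 := congrArg (fun z : B => (z : A)) (hT t)
        simp only [AddSubgroupClass.coe_sub, AddSubmonoidClass.coe_finsetSum, Subring.coe_mul] at h2 ⊢
        simp_rw [sub_mul, Finset.sum_sub_distrib]
        linear_combination h2
      rw [h1]
      refine sub_mem (Ideal.pow_le_pow_right (Nat.le_add_left t n) (hL (n + t))) ?_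
      exact Ideal.sum_mem _ fun q _ => Ideal.mul_mem_right _ _ (hC q t)
    have h3 : L - f n ∈ mB A G ^ n := by
      rw [hLC, ← hν]
      refine Submodule.sum_mem _ fun q _ => ?_
      rw [← smul_eq_mul]
      exact Submodule.smul_mem _ _ (Submodule.subset_span ⟨q, rfl⟩)
    rw [← neg_sub]
    exact neg_mem h3

end Complete

end Groth.Agent.Lib.Helper16.WildInv
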