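-- helper17: Noetherian and Artinian objects of an abelian category are closed under
-- "right exact extensions": if `P ⟶ X ⟶ Q ⟶ 0` is exact with `P`, `Q` Noetherian (Artinian) then
-- so is `X`.
import Mathlib.CategoryTheory.Abelian.Refinements
import Mathlib.CategoryTheory.Subobject.Limits
import Mathlib.CategoryTheory.Subobject.Lattice
import Mathlib.CategoryTheory.Subobject.NoetherianObject
import Mathlib.CategoryTheory.Subobject.ArtinianObject
import Mathlib.Order.WellFounded

set_option autoImplicit false
open CategoryTheory CategoryTheory.Limits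

universe v u

namespace Groth.Agent.Lib.Helper17.SubExt

variable {C : Type u} [Category.{v} C] [Abelian C]

section Factors

variable {X : C}

theorem factors_iff_comp_cokernel {T : C} (S : Subobject X) (a : T ⟶ X) :
    S.Factors a ↔ a ≫ cokernel.π S.arrow = 0 := by
  constructor
  · intro h
    rw [← S.factorThru_arrow a h, Category.assoc, cokernel.condition, comp_zero]
  · intro h
    rw [← Abelian.monoLift_comp S.arrow a h]
    exact Subobject.factors_comp_arrow _

theorem factors_of_epi_comp {T T' : C} (S : Subobject X) (π : T' ⟶ T) [Epi π] (a : T ⟶ X)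
    (h : S.Factors (π ≫ a)) : S.Factors a := by
  rw [factors_iff_comp_cokernel] at h ⊢
  rw [Category.assoc] at h
  exact (cancel_epi π).mp (by rw [h, comp_zero])

end Factors

section Phi

variable {P X Q : C} (f : P ⟶ X) (g : X ⟶ Q)

/-- the map `S ↦ (f⁻¹ S, g(S))` on subobject lattices -/
noncomputable def phi (S : Subobject X) : Subobject P × Subobject Q :=
  ((Subobject.pullback f).obj S, imageSubobject (S.arrow ≫ g))

theorem phi_mono : Monotone (phi f g) := by
  intro S S' h
  refine ⟨(Subobject.pullback f).monotone h, ?_⟩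
  change imageSubobject (S.arrow ≫ g) ≤ imageSubobject (S'.arrow ≫ g)
  have : S.arrow ≫ g = Subobject.ofLE S S' h ≫ S'.arrow ≫ g := by
    rw [← Category.assoc, Subobject.ofLE_arrow]
  rw [this]
  exact imageSubobject_comp_le (Subobject.ofLE S S' h) (S'.arrow ≫ g)

theorem le_of_phi_eq (w : f ≫ g = 0) (hex : (ShortComplex.mk f g w).Exact)
    {S S' : Subobject X} (h : S ≤ S') (e : phi f g S = phi f g S') : S' ≤ S := by
  have e1 : (Subobject.pullback f).obj S = (Subobject.pullback f).obj S' := congrArg Prod.fst e
  have e2 : imageSubobject (S.arrow ≫ g) = imageSubobject (S'.arrow ≫ g) := congrArg Prod.snd e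
  -- it suffices to factor `S'.arrow` through `S`
  suffices hfac : S.Factors S'.arrow from
    Subobject.le_of_comm (S.factorThru S'.arrow hfac) (S.factorThru_arrow _ hfac)
  -- `S'.arrow ≫ g` factors through the image of `S`
  have h1 : (imageSubobject (S.arrow ≫ g)).Factors (S'.arrow ≫ g) := by
    rw [e2]
    have h1' : (imageSubobject (S'.arrow ≫ g)).Factors
        (factorThruImageSubobject (S'.arrow ≫ g) ≫ (imageSubobject (S'.arrow ≫ g)).arrow) :=
      Subobject.factors_comp_arrow _
    rw [imageSubobject_arrow_comp] at h1'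
    exact h1'
  let b := (imageSubobject (S.arrow ≫ g)).factorThru (S'.arrow ≫ g) h1
  have hb : b ≫ (imageSubobject (S.arrow ≫ g)).arrow = S'.arrow ≫ g :=
    Subobject.factorThru_arrow _ _ h1
  obtain ⟨T, π, hπ, c, hc⟩ :=
    surjective_up_to_refinements_of_epi (factorThruImageSubobject (S.arrow ≫ g)) b
  have h2 : (π ≫ S'.arrow - c ≫ S.arrow) ≫ g = 0 := by
    rw [Preadditive.sub_comp, Category.assoc, Category.assoc, ← hb, ← Category.assoc, hc,
      Category.assoc, imageSubobject_arrow_comp, sub_self]
  obtain ⟨T', π', hπ', d, hd⟩ := hex.exact_up_to_refinements (π ≫ S'.arrow - c ≫ S.arrow) h2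
  change π' ≫ (π ≫ S'.arrow - c ≫ S.arrow) = d ≫ f at hd
  have h3 : π' ≫ π ≫ S'.arrow = d ≫ f + π' ≫ c ≫ S.arrow := by
    rw [← hd, Preadditive.comp_sub]
    abel
  have hS'1 : S'.Factors (π' ≫ π ≫ S'.arrow) := by
    rw [← Category.assoc]
    exact Subobject.factors_comp_arrow _
  have hS2 : S.Factors (π' ≫ c ≫ S.arrow) := by
    rw [← Category.assoc]
    exact Subobject.factors_comp_arrow _
  have hS'2 : S'.Factors (π' ≫ c ≫ S.arrow) := Subobject.factors_of_le _ h hS2
  have hS'3 : S'.Factors (d ≫ f) := by
    rw [h3] at hS'1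
    exact Subobject.factors_left_of_factors_add _ _ hS'1 hS'2
  have hS3 : S.Factors (d ≫ f) := by
    rw [← Limits.pullback_factors_iff, e1, Limits.pullback_factors_iff]
    exact hS'3
  have hS4 : S.Factors ((π' ≫ π) ≫ S'.arrow) := by
    rw [Category.assoc, h3]
    exact Subobject.factors_add _ _ hS3 hS2
  have : Epi (π' ≫ π) := epi_comp _ _
  exact factors_of_epi_comp S (π' ≫ π) S'.arrow hS4

theorem phi_strictMono (w : f ≫ g = 0) (hex : (ShortComplex.mk f g w).Exact) :
    StrictMono (phi f g) := by
  intro S S' h
  refine lt_of_le_of_ne (phi_mono f g h.le) ?_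
  intro e
  exact absurd (le_of_phi_eq f g w hex h.le e) (not_le_of_gt h)

theorem isNoetherianObject_of_exact (w : f ≫ g = 0) (hex : (ShortComplex.mk f g w).Exact)
    [IsNoetherianObject P] [IsNoetherianObject Q] : IsNoetherianObject X := by
  have : WellFoundedGT (Subobject P × Subobject Q) := inferInstance
  have : WellFoundedGT (Subobject X) := (phi_strictMono f g w hex).wellFoundedGT
  exact ⟨this⟩

theorem isArtinianObject_of_exact (w : f ≫ g = 0) (hex : (ShortComplex.mk f g w).Exact)
    [IsArtinianObject P] [IsArtinianObject Q] : IsArtinianObject X := by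
  have : WellFoundedLT (Subobject P × Subobject Q) := inferInstance
  have : WellFoundedLT (Subobject X) := (phi_strictMono f g w hex).wellFoundedLT
  exact ⟨this⟩

end Phi

end Groth.Agent.Lib.Helper17.SubExt
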