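-- helper17: terms of a `J`-adic projective system inherit properties closed under right exact
-- extensions (Noetherian, Artinian) from the degree zero term.
import Groth.Agent.Lib.Helper17SubExt
import Groth.Prelude.Def_ARSys
import Mathlib.Algebra.Homology.ShortComplex.Exact
import Mathlib.CategoryTheory.Abelian.Exact
import Mathlib.RingTheory.Noetherian.Basic

set_option autoImplicit false
open CategoryTheory CategoryTheory.Limits Opposite

universe w v u

namespace Groth.Agent.Lib.Helper17.ARNoeth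

variable {C : Type u} [Category.{v} C] [Abelian C]

section Gen

variable (Pr : C → Prop) (hiso : ∀ {X Y : C}, (X ≅ Y) → Pr X → Pr Y)
  (hext : ∀ {P X Q : C} (f : P ⟶ X) (g : X ⟶ Q) (w : f ≫ g = 0),
    (ShortComplex.mk f g w).Exact → Pr P → Pr Q → Pr X)

include hiso hext in
theorem prop_of_generators {ι : Type*} {M : C} (hM : Pr M) (l : List ι) :
    ∀ {X' Q : C} (ψ : ι → (M ⟶ X')) (q : X' ⟶ Q) [Epi q],
      (∀ i ∈ l, ψ i ≫ q = 0) →
      (∀ (Y : C) (φ : X' ⟶ Y), (∀ i ∈ l, ψ i ≫ φ = 0) → ∃ χ : Q ⟶ Y, q ≫ χ = φ) →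
      Pr Q → Pr X' := by
  induction l with
  | nil =>
    intro X' Q ψ q _ _ h2 hQ
    obtain ⟨χ, hχ⟩ := h2 X' (𝟙 X') (by simp)
    have : Mono q := mono_of_mono_fac (f := χ) (g := q) (h := 𝟙 X') hχ
    have : IsIso q := isIso_of_mono_of_epi q
    exact hiso (asIso q).symm hQ
  | cons i l ih =>
    intro X' Q ψ q _ h1 h2 hQ
    have hi : ψ i ≫ q = 0 := h1 i (by simp)
    let q' : cokernel (ψ i) ⟶ Q := cokernel.desc (ψ i) q hi
    have hq' : cokernel.π (ψ i) ≫ q' = q := cokernel.π_desc _ _ _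
    have : Epi q' := epi_of_epi_fac hq'
    have hX'' : Pr (cokernel (ψ i)) := by
      refine ih (fun j => ψ j ≫ cokernel.π (ψ i)) q' ?_ ?_ hQ
      · intro j hj
        rw [Category.assoc, hq']
        exact h1 j (List.mem_cons_of_mem _ hj)
      · intro Y φ' hφ'
        obtain ⟨χ, hχ⟩ := h2 Y (cokernel.π (ψ i) ≫ φ') (by
          intro j hj
          rcases List.mem_cons.1 hj with rfl | hj
          · rw [← Category.assoc, cokernel.condition, zero_comp]
          · have := hφ' j hj
            rw [Category.assoc] at this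
            exact this)
        refine ⟨χ, ?_⟩
        rw [← cancel_epi (cokernel.π (ψ i)), ← Category.assoc, hq', hχ]
    exact hext (ψ i) (cokernel.π (ψ i)) (cokernel.condition _)
      (ShortComplex.exact_cokernel (ψ i)) hM hX''

end Gen

section Adic

variable {A : Type w} [CommRing A] [Linear A C]

/-- the ideal of scalars killing a morphism -/
def annHom {X Y : C} (φ : X ⟶ Y) : Ideal A where
  carrier := {a | a • φ = 0}
  add_mem' := by
    intro a b ha hb
    change (a + b) • φ = 0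
    rw [add_smul, ha, hb, add_zero]
  zero_mem' := by
    change (0 : A) • φ = 0
    rw [zero_smul]
  smul_mem' := by
    intro c a ha
    change (c • a) • φ = 0
    rw [smul_assoc, ha, smul_zero]

theorem mem_annHom {X Y : C} (φ : X ⟶ Y) (a : A) : a ∈ annHom φ ↔ a • φ = 0 := Iff.rfl

theorem epi_of_isQuot {I : Ideal A} {X Q : C} {p : X ⟶ Q} (h : ARSys.IsQuot I p) : Epi p := by
  constructor
  intro Y α β e
  have hk : ARSys.HomKilledBy I (p ≫ α) := by
    intro a ha
    have h1 : a • α = (a • 𝟙 Q) ≫ α := by rw [Linear.smul_comp, Category.id_comp]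
    rw [← Linear.comp_smul, h1, h.1 a ha, zero_comp, comp_zero]
  obtain ⟨ψ, -, hu⟩ := h.2 Y (p ≫ α) hk
  rw [hu α rfl, hu β e.symm]

variable [IsNoetherianRing A]
  (Pr : C → Prop) (hiso : ∀ {X Y : C}, (X ≅ Y) → Pr X → Pr Y)
  (hext : ∀ {P X Q : C} (f : P ⟶ X) (g : X ⟶ Q) (w : f ≫ g = 0),
    (ShortComplex.mk f g w).Exact → Pr P → Pr Q → Pr X)

include hiso hext in
theorem prop_of_isAdic (J : Ideal A) (X : ARSys.PS C) (hX : ARSys.IsAdic J X)
    (h0 : Pr (X.obj (op 0))) (n : ℕ) : Pr (X.obj (op n)) := by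
  induction n with
  | zero => exact h0
  | succ n ih =>
    obtain ⟨s, hs⟩ : (J ^ (n + 1)).FG := IsNoetherian.noetherian _
    have hq := hX.2 n (n + 1) (Nat.le_succ n)
    have hq0 := hX.2 0 (n + 1) (Nat.zero_le _)
    have hk := hX.1 (n + 1)
    have hkn := hX.1 n
    have : Epi (ARSys.tr X (Nat.le_succ n)) := epi_of_isQuot hq
    -- scalars of `J ^ (n+1)` act through the degree zero term
    have hkill : ∀ a ∈ J ^ (n + 1), ARSys.HomKilledBy (J ^ (0 + 1))
        (a • 𝟙 (X.obj (op (n + 1)))) := by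
      intro a ha b hb
      rw [smul_smul]
      apply hk
      have : b * a ∈ J ^ (0 + 1) * J ^ (n + 1) := Ideal.mul_mem_mul hb ha
      rwa [← pow_add, show 0 + 1 + (n + 1) = n + 1 + 1 by omega] at this
    have key : ∀ a : A, ∃ ψ : X.obj (op 0) ⟶ X.obj (op (n + 1)), a ∈ J ^ (n + 1) →
        ARSys.tr X (Nat.zero_le (n + 1)) ≫ ψ = a • 𝟙 _ := by
      intro a
      by_cases ha : a ∈ J ^ (n + 1)
      · obtain ⟨ψ, hψ, -⟩ := hq0.2 _ _ (hkill a ha)
        exact ⟨ψ, fun _ => hψ⟩
      · exact ⟨0, fun h => absurd h ha⟩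
    choose ψ hψ using key
    have hsJ : ∀ a ∈ s.toList, a ∈ J ^ (n + 1) := by
      intro a ha
      rw [← hs]
      exact Ideal.subset_span (by simpa using ha)
    refine prop_of_generators Pr hiso hext h0 s.toList ψ (ARSys.tr X (Nat.le_succ n)) ?_ ?_ ih
    · intro a ha
      have haJ := hsJ a ha
      have hz : ARSys.HomKilledBy (J ^ (0 + 1)) (0 : X.obj (op (n + 1)) ⟶ X.obj (op n)) := by
        intro b _
        rw [smul_zero]
      obtain ⟨χ, -, hu⟩ := hq0.2 _ _ hz
      have h1 : ARSys.tr X (Nat.zero_le (n + 1)) ≫ ψ a ≫ ARSys.tr X (Nat.le_succ n) = 0 := by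
        rw [← Category.assoc, hψ a haJ, Linear.smul_comp, Category.id_comp]
        have h2 : a • ARSys.tr X (Nat.le_succ n) =
            ARSys.tr X (Nat.le_succ n) ≫ (a • 𝟙 (X.obj (op n))) := by
          rw [Linear.comp_smul, Category.comp_id]
        rw [h2, hkn a haJ, comp_zero]
      rw [hu _ h1, hu 0 comp_zero]
    · intro Y φ hφ
      have hle : J ^ (n + 1) ≤ annHom φ := by
        rw [← hs, Ideal.span_le]
        intro a ha
        have ha' : a ∈ s.toList := by simpa using ha
        change a • φ = 0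
        have h1 : a • φ = (a • 𝟙 _) ≫ φ := by rw [Linear.smul_comp, Category.id_comp]
        rw [h1, ← hψ a (hsJ a ha'), Category.assoc, hφ a ha', comp_zero]
      obtain ⟨χ, hχ, -⟩ := hq.2 Y φ (fun a ha => hle ha)
      exact ⟨χ, hχ⟩

end Adic

end Groth.Agent.Lib.Helper17.ARNoeth
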