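import Groth.Prelude.Def_ARSys
import Mathlib

/-! Projective systems up to translation: quasi-inverses of AR-isomorphisms (helper17). -/
set_option autoImplicit false
set_option backward.isDefEq.respectTransparency false
set_option backward.isDefEq.respectTransparency.types false
universe w v u
open CategoryTheory CategoryTheory.Limits Opposite

namespace Groth.Agent.Lib.Helper17.ARSys1

section Abstract
variable {𝒜 : Type*} [Category 𝒜] [Abelian 𝒜]

/-- abstract quasi-inverse lemma -/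
theorem exists_quasi_inv (T₁ T₂ : 𝒜 ⥤ 𝒜) [T₁.Additive] [PreservesFiniteLimits T₁]
    [PreservesFiniteColimits T₁]
    (σ₁ : T₁ ⟶ 𝟭 𝒜) (σ₂ : T₂ ⟶ 𝟭 𝒜) {X Y : 𝒜} (u : X ⟶ Y)
    (hk : σ₁.app (kernel u) = 0) (hc : σ₂.app (cokernel u) = 0) :
    ∃ w : T₁.obj (T₂.obj Y) ⟶ X, w ≫ u = σ₁.app (T₂.obj Y) ≫ σ₂.app Y ∧
      T₁.map (T₂.map u) ≫ w = T₁.map (σ₂.app X) ≫ σ₁.app X := by
  have h1 : σ₂.app Y ≫ cokernel.π u = 0 := by
    have := σ₂.naturality (cokernel.π u)
    simp only [Functor.id_obj, Functor.id_map] at this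
    rw [← this, hc, comp_zero]
  let a : T₂.obj Y ⟶ Abelian.image u := kernel.lift (cokernel.π u) (σ₂.app Y) h1
  have ha : a ≫ Abelian.image.ι u = σ₂.app Y := kernel.lift_ι _ _ _
  let p := Abelian.factorThruImage u
  have hp : p ≫ Abelian.image.ι u = u := Abelian.image.fac u
  have hz : kernel.ι u ≫ p = 0 := by
    rw [← cancel_mono (Abelian.image.ι u), Category.assoc, hp, kernel.condition, zero_comp]
  let S : ShortComplex 𝒜 := ShortComplex.mk (kernel.ι u) p hz
  have hS : S.Exact :=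
    S.exact_of_f_is_kernel (isKernelOfComp (Abelian.image.ι u) u (kernelIsKernel u) hz hp)
  have hS' : (S.map T₁).Exact := hS.map T₁
  have : Epi (S.map T₁).g := by
    change Epi (T₁.map p)
    infer_instance
  have h2 : (S.map T₁).f ≫ σ₁.app X = 0 := by
    change T₁.map (kernel.ι u) ≫ σ₁.app X = 0
    have := σ₁.naturality (kernel.ι u)
    simp only [Functor.id_obj, Functor.id_map] at this
    rw [this, hk, zero_comp]
  let b : T₁.obj (Abelian.image u) ⟶ X := hS'.desc (σ₁.app X) h2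
  have hb : T₁.map p ≫ b = σ₁.app X := hS'.g_desc (σ₁.app X) h2
  have hbp : b ≫ p = σ₁.app (Abelian.image u) := by
    have : Epi (T₁.map p) := inferInstance
    rw [← cancel_epi (T₁.map p), ← Category.assoc, hb]
    have := σ₁.naturality p
    simp only [Functor.id_obj, Functor.id_map] at this
    exact this.symm
  refine ⟨T₁.map a ≫ b, ?_, ?_⟩
  · have n1 := σ₁.naturality a
    simp only [Functor.id_obj, Functor.id_map] at n1
    calc (T₁.map a ≫ b) ≫ u = T₁.map a ≫ (b ≫ p) ≫ Abelian.image.ι u := by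
          rw [Category.assoc, Category.assoc, hp]
      _ = (T₁.map a ≫ σ₁.app (Abelian.image u)) ≫ Abelian.image.ι u := by
          rw [hbp, Category.assoc]
      _ = σ₁.app (T₂.obj Y) ≫ σ₂.app Y := by rw [n1, Category.assoc, ha]
  · have h3 : T₂.map u ≫ a = σ₂.app X ≫ p := by
      rw [← cancel_mono (Abelian.image.ι u), Category.assoc, ha, Category.assoc, hp]
      have := σ₂.naturality u
      simp only [Functor.id_obj, Functor.id_map] at this
      exact this
    rw [← Category.assoc, ← T₁.map_comp, h3, T₁.map_comp, Category.assoc, hb]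

end Abstract


section Concrete
variable {C : Type u} [Category.{v} C]

theorem tr_comp (X : ARSys.PS C) {n m k : ℕ} (h₁ : n ≤ m) (h₂ : m ≤ k) :
    ARSys.tr X h₂ ≫ ARSys.tr X h₁ = ARSys.tr X (h₁.trans h₂) := by
  unfold ARSys.tr
  rw [← X.map_comp]
  rfl

theorem tr_self (X : ARSys.PS C) (n : ℕ) (h : n ≤ n) : ARSys.tr X h = 𝟙 _ := by
  unfold ARSys.tr
  have : (homOfLE h).op = 𝟙 (op n) := rfl
  rw [this, X.map_id]

theorem tr_nat {X Y : ARSys.PS C} (f : X ⟶ Y) {n m : ℕ} (h : n ≤ m) :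
    ARSys.tr X h ≫ f.app (op n) = f.app (op m) ≫ ARSys.tr Y h :=
  f.naturality _

/-- every map of a projective system is a `tr`. -/
theorem map_eq_tr (X : ARSys.PS C) {a b : ℕᵒᵖ} (f : a ⟶ b) :
    X.map f = ARSys.tr X (leOfHom f.unop) := by
  unfold ARSys.tr
  congr 1

theorem map_comp_eq (X : ARSys.PS C) {a b c : ℕᵒᵖ} (f : a ⟶ b) (g : b ⟶ c) (h : a ⟶ c) :
    X.map f ≫ X.map g = X.map h := by
  rw [← X.map_comp]
  congr 1

theorem map_comp_eq_map_comp (X : ARSys.PS C) {a b b' c : ℕᵒᵖ} (f : a ⟶ b) (g : b ⟶ c)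
    (f' : a ⟶ b') (g' : b' ⟶ c) : X.map f ≫ X.map g = X.map f' ≫ X.map g' := by
  rw [← X.map_comp, ← X.map_comp]
  congr 1

theorem map_congr (X : ARSys.PS C) {a b : ℕᵒᵖ} (f g : a ⟶ b) : X.map f = X.map g := by
  rw [Subsingleton.elim f g]

/-- the canonical map `X[r] ⟶ X`. -/
def sigma (r : ℕ) : ARSys.shift C r ⟶ 𝟭 (ARSys.PS C) where
  app X :=
    { app := fun n => ARSys.tr X (Nat.le_add_right n.unop r)
      naturality := by
        intro a b f
        exact map_comp_eq_map_comp X _ _ _ _ }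
  naturality := by
    intro X Y f
    ext n
    exact (tr_nat f _).symm

@[simp] theorem sigma_app_app (r : ℕ) (X : ARSys.PS C) (n : ℕ) :
    ((sigma r).app X).app (op n) = ARSys.shiftMap X r n := rfl

@[simp] theorem shift_obj_obj (r : ℕ) (X : ARSys.PS C) (n : ℕ) :
    ((ARSys.shift C r).obj X).obj (op n) = X.obj (op (n + r)) := rfl

@[simp] theorem shift_map_app (r : ℕ) {X Y : ARSys.PS C} (f : X ⟶ Y) (n : ℕ) :
    ((ARSys.shift C r).map f).app (op n) = f.app (op (n + r)) := rfl

theorem shift_obj_tr (r : ℕ) (X : ARSys.PS C) {n m : ℕ} (h : n ≤ m) :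
    ARSys.tr ((ARSys.shift C r).obj X) h = ARSys.tr X (Nat.add_le_add_right h r) := rfl

theorem isARNull_iff_sigma [HasZeroMorphisms C] (X : ARSys.PS C) :
    ARSys.IsARNull X ↔ ∃ r, (sigma r).app X = 0 := by
  constructor
  · rintro ⟨r, hr⟩
    refine ⟨r, ?_⟩
    ext ⟨n⟩
    exact hr n
  · rintro ⟨r, hr⟩
    refine ⟨r, fun n => ?_⟩
    have := congrArg (fun t => t.app (op n)) hr
    exact this

theorem tr_eq_zero_of_le [HasZeroMorphisms C] (X : ARSys.PS C) {r : ℕ}
    (hr : ∀ n : ℕ, ARSys.shiftMap X r n = 0) {n m : ℕ} (h : n + r ≤ m) :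
    ARSys.tr X (show n ≤ m by omega) = 0 := by
  rw [← tr_comp X (Nat.le_add_right n r) h]
  have := hr n
  unfold ARSys.shiftMap at this
  rw [this, comp_zero]

end Concrete

section ConcreteAb
variable {C : Type u} [Category.{v} C] [Abelian C]

instance (r : ℕ) : PreservesFiniteLimits (ARSys.shift C r) :=
  inferInstanceAs (PreservesFiniteLimits ((Functor.whiskeringLeft ℕᵒᵖ ℕᵒᵖ C).obj (ARSys.addF r).op))

instance (r : ℕ) : PreservesFiniteColimits (ARSys.shift C r) :=
  inferInstanceAs (PreservesFiniteColimits ((Functor.whiskeringLeft ℕᵒᵖ ℕᵒᵖ C).obj (ARSys.addF r).op))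

instance (r : ℕ) : (ARSys.shift C r).Additive where
  map_add := by
    intro X Y f g
    ext n
    rfl

/-- An AR-isomorphism has an inverse up to translation. -/
theorem exists_inv_of_isARIso {X Y : ARSys.PS C} (u : X ⟶ Y) (hu : ARSys.IsARIso u) :
    ∃ (r : ℕ) (w : (ARSys.shift C r).obj Y ⟶ X),
      (∀ n, w.app (op n) ≫ u.app (op n) = ARSys.shiftMap Y r n) ∧
      (∀ n, u.app (op (n + r)) ≫ w.app (op n) = ARSys.shiftMap X r n) := by
  obtain ⟨⟨r₁, h₁⟩, ⟨r₂, h₂⟩⟩ := hu
  have hk : (sigma r₁).app (kernel u) = 0 := by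
    ext ⟨n⟩
    exact h₁ n
  have hc : (sigma r₂).app (cokernel u) = 0 := by
    ext ⟨n⟩
    exact h₂ n
  obtain ⟨w, hw1, hw2⟩ := exists_quasi_inv (ARSys.shift C r₁) (ARSys.shift C r₂)
    (sigma r₁) (sigma r₂) u hk hc
  refine ⟨r₂ + r₁, ⟨fun n => ARSys.tr Y (show n.unop + r₁ + r₂ ≤ n.unop + (r₂ + r₁) by omega) ≫
      w.app n, ?_⟩, ?_, ?_⟩
  · intro a b f
    have hn := w.naturality f
    have key : ((ARSys.shift C (r₂ + r₁)).obj Y).map f ≫
        ARSys.tr Y (show b.unop + r₁ + r₂ ≤ b.unop + (r₂ + r₁) by omega) =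
        ARSys.tr Y (show a.unop + r₁ + r₂ ≤ a.unop + (r₂ + r₁) by omega) ≫
          ((ARSys.shift C r₁).obj ((ARSys.shift C r₂).obj Y)).map f :=
      map_comp_eq_map_comp Y _ _ _ _
    calc _ = (((ARSys.shift C (r₂ + r₁)).obj Y).map f ≫ ARSys.tr Y _) ≫ w.app b :=
          (Category.assoc _ _ _).symm
      _ = _ := by rw [key, Category.assoc, hn, Category.assoc]
  · intro n
    have hw1n : w.app (op n) ≫ u.app (op n) =
        ARSys.tr Y (show n + r₂ ≤ n + r₁ + r₂ by omega) ≫ ARSys.tr Y (show n ≤ n + r₂ by omega) :=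
      by
        have := congrArg (fun t => t.app (op n)) hw1
        simp only [NatTrans.comp_app] at this
        exact this
    calc _ = ARSys.tr Y (show n + r₁ + r₂ ≤ n + (r₂ + r₁) by omega) ≫
          w.app (op n) ≫ u.app (op n) := Category.assoc _ _ _
      _ = _ := by
        rw [hw1n, tr_comp, tr_comp]
  · intro n
    have hw2n : u.app (op (n + r₁ + r₂)) ≫ w.app (op n) =
        ARSys.tr X (show n + r₁ ≤ n + r₁ + r₂ by omega) ≫ ARSys.tr X (show n ≤ n + r₁ by omega) :=
      by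
        have := congrArg (fun t => t.app (op n)) hw2
        simp only [NatTrans.comp_app] at this
        exact this
    have e : u.app (op (n + (r₂ + r₁))) ≫ ARSys.tr Y (show n + r₁ + r₂ ≤ n + (r₂ + r₁) by omega)
        = ARSys.tr X (show n + r₁ + r₂ ≤ n + (r₂ + r₁) by omega) ≫ u.app (op (n + r₁ + r₂)) :=
      (tr_nat u _).symm
    calc _ = (u.app (op (n + (r₂ + r₁))) ≫
          ARSys.tr Y (show n + r₁ + r₂ ≤ n + (r₂ + r₁) by omega)) ≫ w.app (op n) :=
          (Category.assoc _ _ _).symm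
      _ = _ := by
        rw [e, Category.assoc, hw2n, tr_comp, tr_comp]

/-- Conversely, a morphism with an inverse up to translation is an AR-isomorphism. -/
theorem isARIso_of_inv {X Y : ARSys.PS C} (u : X ⟶ Y) (r : ℕ)
    (w : (ARSys.shift C r).obj Y ⟶ X)
    (h1 : ∀ n, w.app (op n) ≫ u.app (op n) = ARSys.shiftMap Y r n)
    (h2 : ∀ n, u.app (op (n + r)) ≫ w.app (op n) = ARSys.shiftMap X r n) :
    ARSys.IsARIso u := by
  constructor
  · refine ⟨r, fun n => ?_⟩
    have : Mono ((kernel.ι u).app (op n)) := inferInstance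
    rw [← cancel_mono ((kernel.ι u).app (op n)), zero_comp]
    have e := tr_nat (kernel.ι u) (Nat.le_add_right n r)
    have h2' : u.app (op (n + r)) ≫ w.app (op n) = ARSys.tr X (Nat.le_add_right n r) := h2 n
    have : (kernel.ι u).app (op (n + r)) ≫ u.app (op (n + r)) = 0 := by
      rw [← NatTrans.comp_app, kernel.condition]
      rfl
    calc _ = ARSys.tr (kernel u) (Nat.le_add_right n r) ≫ (kernel.ι u).app (op n) := rfl
      _ = _ := by rw [e, ← h2', ← Category.assoc, this, zero_comp]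
  · refine ⟨r, fun n => ?_⟩
    have : Epi ((cokernel.π u).app (op (n + r))) := inferInstance
    rw [← cancel_epi ((cokernel.π u).app (op (n + r))), comp_zero]
    have e := tr_nat (cokernel.π u) (Nat.le_add_right n r)
    have h1' : w.app (op n) ≫ u.app (op n) = ARSys.tr Y (Nat.le_add_right n r) := h1 n
    have : u.app (op n) ≫ (cokernel.π u).app (op n) = 0 := by
      rw [← NatTrans.comp_app, cokernel.condition]
      rfl
    calc _ = (cokernel.π u).app (op (n + r)) ≫ ARSys.tr (cokernel u) (Nat.le_add_right n r) := rfl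
      _ = _ := by rw [← e, ← h1', Category.assoc, this, comp_zero]

theorem isARIso_iff_exists_inv {X Y : ARSys.PS C} (u : X ⟶ Y) :
    ARSys.IsARIso u ↔ ∃ (r : ℕ) (w : (ARSys.shift C r).obj Y ⟶ X),
      (∀ n, w.app (op n) ≫ u.app (op n) = ARSys.shiftMap Y r n) ∧
      (∀ n, u.app (op (n + r)) ≫ w.app (op n) = ARSys.shiftMap X r n) :=
  ⟨exists_inv_of_isARIso u, fun ⟨r, w, h1, h2⟩ => isARIso_of_inv u r w h1 h2⟩

theorem isIso_limMap_of_isARIso [HasLimitsOfShape ℕᵒᵖ C]
    {X Y : ARSys.PS C} (u : X ⟶ Y) (hu : ARSys.IsARIso u) : IsIso (limMap u) := by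
  obtain ⟨r, w, h1, h2⟩ := exists_inv_of_isARIso u hu
  let c : Cone X :=
    { pt := limit Y
      π :=
        { app := fun n => limit.π Y (op (n.unop + r)) ≫ w.app n
          naturality := by
            intro a b f
            have hn := w.naturality f
            have hw : limit.π Y (op (a.unop + r)) ≫ ((ARSys.shift C r).obj Y).map f =
                limit.π Y (op (b.unop + r)) := limit.w Y ((ARSys.addF r).op.map f)
            calc _ = limit.π Y (op (b.unop + r)) ≫ w.app b := Category.id_comp _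
              _ = _ := by rw [← hw, Category.assoc, hn, Category.assoc] } }
  refine ⟨limit.lift X c, ?_, ?_⟩
  · apply limit.hom_ext
    rintro ⟨n⟩
    rw [Category.assoc, limit.lift_π, Category.id_comp]
    change limMap u ≫ limit.π Y (op (n + r)) ≫ w.app (op n) = _
    rw [← Category.assoc, limMap_π, Category.assoc, h2 n]
    exact limit.w X _
  · apply limit.hom_ext
    rintro ⟨n⟩
    rw [Category.assoc, limMap_π, ← Category.assoc, limit.lift_π, Category.id_comp]
    change (limit.π Y (op (n + r)) ≫ w.app (op n)) ≫ u.app (op n) = _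
    rw [Category.assoc, h1 n]
    exact limit.w Y _

end ConcreteAb

end Groth.Agent.Lib.Helper17.ARSys1
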