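import Groth.Agent.Lib.Helper17ARSys2

/-! Projective systems up to translation, part 10: strict AR-adic systems (helper17). -/
set_option autoImplicit false
set_option backward.isDefEq.respectTransparency false
set_option backward.isDefEq.respectTransparency.types false
universe w v u
open CategoryTheory CategoryTheory.Limits Opposite

namespace Groth.Agent.Lib.Helper17.ARSys10

open Groth.Agent.Lib.Helper17.ARSys1

variable {C : Type u} [Category.{v} C] [Abelian C] {R : Type w} [CommRing R] [Linear R C]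

theorem isStrict_of_isAdic (J : Ideal R) (Y : ARSys.PS C) (hY : ARSys.IsAdic J Y) :
    ARSys.IsStrict Y := fun n m h =>
  Groth.Agent.Lib.Helper4.AR.isQuot_epi (J ^ (n + 1)) _ (hY.2 n m h)

/-- For strict `X` and an adic `Y` with `u : Y ⟶ X` and inverse `w : X[r] ⟶ Y` up to translation,
the components of `w` are quotient maps. -/
theorem isQuot_of_inv (J : Ideal R) {X Y : ARSys.PS C} (hX : ARSys.IsStrict X)
    (hY : ARSys.IsAdic J Y) (u : Y ⟶ X) (r : ℕ) (w : (ARSys.shift C r).obj X ⟶ Y)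
    (h1 : ∀ n, w.app (op n) ≫ u.app (op n) = ARSys.shiftMap X r n)
    (h2 : ∀ n, u.app (op (n + r)) ≫ w.app (op n) = ARSys.shiftMap Y r n) (n : ℕ) :
    ARSys.IsQuot (J ^ (n + 1)) (w.app (op n)) := by
  have hYs := isStrict_of_isAdic J Y hY
  have hwe : Epi (w.app (op n)) := by
    have : Epi (u.app (op (n + r)) ≫ w.app (op n)) := by
      rw [h2 n]; exact hYs n (n + r) _
    exact epi_of_epi (u.app (op (n + r))) _
  have hue : Epi (u.app (op (n + r))) := by
    have : Epi (w.app (op (n + r)) ≫ u.app (op (n + r))) := by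
      rw [h1 (n + r)]; exact hX (n + r) (n + r + r) _
    exact epi_of_epi (w.app (op (n + r))) _
  refine ⟨hY.1 n, fun Z φ hφ => ?_⟩
  have hq := hY.2 n (n + r) (Nat.le_add_right n r)
  obtain ⟨ψ, hψ, -⟩ := hq.2 Z (u.app (op (n + r)) ≫ φ)
    (Groth.Agent.Lib.Helper4.AR.homKilledBy_comp_left _ _ _ hφ)
  have h2' : u.app (op (n + r)) ≫ w.app (op n) = ARSys.tr Y (Nat.le_add_right n r) := h2 n
  have hfac : w.app (op n) ≫ ψ = φ := by
    rw [← cancel_epi (u.app (op (n + r))), ← Category.assoc, h2', hψ]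
  refine ⟨ψ, hfac, fun ψ' hψ' => ?_⟩
  rw [← cancel_epi (w.app (op n)), hfac]
  exact hψ'

theorem isARAdic_iff_of_strict (J : Ideal R) (X : ARSys.PS C) (hX : ARSys.IsStrict X)
    (kX : ARSys.TermKilled J X) :
    ARSys.IsARAdic J X ↔ ∃ (r : ℕ) (Y : ARSys.PS C) (q : (ARSys.shift C r).obj X ⟶ Y),
      (∀ n : ℕ, ARSys.IsQuot (J ^ (n + 1)) (q.app (op n))) ∧ ARSys.IsAdic J Y := by
  constructor
  · rintro ⟨-, Y, u, hY, hu⟩
    obtain ⟨r, w, h1, h2⟩ := exists_inv_of_isARIso u hu
    exact ⟨r, Y, w, isQuot_of_inv J hX hY u r w h1 h2, hY⟩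
  · rintro ⟨r, Y, q, hq, hY⟩
    refine ⟨kX, Y, ?_⟩
    have hqe : ∀ n, Epi (q.app (op n)) := fun n =>
      Groth.Agent.Lib.Helper4.AR.isQuot_epi _ _ (hq n)
    -- the components of `v : Y ⟶ X`
    have hv : ∀ n : ℕ, ∃ v : Y.obj (op n) ⟶ X.obj (op n),
        q.app (op n) ≫ v = ARSys.shiftMap X r n := fun n =>
      ((hq n).2 _ (ARSys.shiftMap X r n)
        (Groth.Agent.Lib.Helper4.AR.homKilledBy_of_killedBy_tgt _ _ (kX n))).exists
    choose v hv using hv
    have hv' : ∀ n : ℕ, q.app (op n) ≫ v n = ARSys.tr X (Nat.le_add_right n r) := hv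
    let V : Y ⟶ X :=
      { app := fun n => v n.unop
        naturality := by
          rintro ⟨a⟩ ⟨b⟩ f
          have := hqe a
          rw [← cancel_epi (q.app (op a))]
          have hn := q.naturality f
          change q.app (op a) ≫ Y.map f ≫ v b = q.app (op a) ≫ v a ≫ X.map f
          rw [← Category.assoc, ← hn, Category.assoc, hv' b, ← Category.assoc, hv' a]
          exact map_comp_eq_map_comp X _ _ _ _ }
    refine ⟨V, hY, isARIso_of_inv V r q hv ?_⟩
    intro n
    have := hqe (n + r)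
    rw [← cancel_epi (q.app (op (n + r))), ← Category.assoc]
    change (q.app (op (n + r)) ≫ v (n + r)) ≫ q.app (op n) = _
    rw [hv' (n + r)]
    exact (tr_nat q (Nat.le_add_right n r))

end Groth.Agent.Lib.Helper17.ARSys10
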