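import Groth.Agent.Lib.Helper17ARSys1

/-! Projective systems up to translation, part 4: calculus of fractions for translation maps
(helper17). -/
set_option autoImplicit false
set_option backward.isDefEq.respectTransparency false
set_option backward.isDefEq.respectTransparency.types false
universe w v u
open CategoryTheory CategoryTheory.Limits Opposite

namespace Groth.Agent.Lib.Helper17.ARSys4

open Groth.Agent.Lib.Helper17.ARSys1

variable {C : Type u} [Category.{v} C]

/-- `X[r'][r] ≅ X[r' + r]`. -/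
def shiftShiftIso (r r' : ℕ) (Z : ARSys.PS C) :
    (ARSys.shift C r).obj ((ARSys.shift C r').obj Z) ≅ (ARSys.shift C (r' + r)).obj Z where
  hom :=
    { app := fun n => ARSys.tr Z (show n.unop + (r' + r) ≤ n.unop + r + r' by omega)
      naturality := by
        intro a b f
        exact map_comp_eq_map_comp Z _ _ _ _ }
  inv :=
    { app := fun n => ARSys.tr Z (show n.unop + r + r' ≤ n.unop + (r' + r) by omega)
      naturality := by
        intro a b f
        exact map_comp_eq_map_comp Z _ _ _ _ }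
  hom_inv_id := by
    ext n
    change ARSys.tr Z _ ≫ ARSys.tr Z _ = 𝟙 _
    rw [tr_comp, tr_self]
  inv_hom_id := by
    ext n
    change ARSys.tr Z _ ≫ ARSys.tr Z _ = 𝟙 _
    rw [tr_comp, tr_self]

theorem trClass_iff {X Y : ARSys.PS C} (f : X ⟶ Y) :
    ARSys.trClass f ↔ ∃ (r : ℕ) (e : X ≅ (ARSys.shift C r).obj Y), f = e.hom ≫ (sigma r).app Y := by
  constructor
  · rintro ⟨r, e, h⟩
    refine ⟨r, e, ?_⟩
    ext ⟨n⟩
    exact h n
  · rintro ⟨r, e, h⟩
    refine ⟨r, e, fun n => ?_⟩
    rw [h]
    rfl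

theorem trClass_sigma (r : ℕ) (Y : ARSys.PS C) : ARSys.trClass ((sigma r).app Y) :=
  (trClass_iff _).2 ⟨r, Iso.refl _, (Category.id_comp _).symm⟩

theorem sigma_shift (r r' : ℕ) (Z : ARSys.PS C) :
    (sigma r).app ((ARSys.shift C r').obj Z) ≫ (sigma r').app Z =
      (shiftShiftIso r r' Z).hom ≫ (sigma (r' + r)).app Z := by
  ext ⟨n⟩
  change ARSys.tr Z _ ≫ ARSys.tr Z _ = ARSys.tr Z _ ≫ ARSys.tr Z _
  rw [tr_comp, tr_comp]

theorem sigma_shift_eq (r : ℕ) (Z : ARSys.PS C) :
    (sigma r).app ((ARSys.shift C r).obj Z) = (ARSys.shift C r).map ((sigma r).app Z) := by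
  ext ⟨n⟩
  exact map_congr Z _ _

instance isIso_sigma_zero (X : ARSys.PS C) : IsIso ((sigma 0).app X) := by
  have : ∀ n : ℕᵒᵖ, IsIso (((sigma 0).app X).app n) := by
    intro n
    have : ((sigma 0).app X).app n = 𝟙 _ := tr_self X _ _
    rw [this]
    infer_instance
  exact NatIso.isIso_of_isIso_app _

instance trClass_isMultiplicative : (ARSys.trClass (C := C)).IsMultiplicative where
  id_mem X := by
    refine (trClass_iff _).2 ⟨0, (asIso ((sigma 0).app X)).symm, ?_⟩
    simp
  comp_mem := by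
    intro X Y Z f g hf hg
    obtain ⟨r, e, rfl⟩ := (trClass_iff f).1 hf
    obtain ⟨r', e', rfl⟩ := (trClass_iff g).1 hg
    refine (trClass_iff _).2 ⟨r' + r, e ≪≫ (ARSys.shift C r).mapIso e' ≪≫ shiftShiftIso r r' Z, ?_⟩
    have n1 := (sigma r).naturality e'.hom
    simp only [Functor.id_obj, Functor.id_map] at n1
    simp only [Iso.trans_hom, Functor.mapIso_hom, Category.assoc]
    rw [← sigma_shift, ← reassoc_of% n1]

theorem trClass_hasRightCalculusOfFractions :
    (ARSys.trClass (C := C)).HasRightCalculusOfFractions where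
  exists_rightFraction := by
    intro X Y φ
    obtain ⟨r, e, he⟩ := (trClass_iff φ.s).1 φ.hs
    refine ⟨⟨(sigma r).app X, trClass_sigma r X, (ARSys.shift C r).map φ.f ≫ e.inv⟩, ?_⟩
    have n1 := (sigma r).naturality φ.f
    simp only [Functor.id_obj, Functor.id_map] at n1
    change (sigma r).app X ≫ φ.f = ((ARSys.shift C r).map φ.f ≫ e.inv) ≫ φ.s
    rw [he, Category.assoc, Iso.inv_hom_id_assoc, n1]
  ext := by
    intro X Y Y' f₁ f₂ s hs h
    obtain ⟨r, e, rfl⟩ := (trClass_iff s).1 hs
    refine ⟨_, (sigma r).app X, trClass_sigma r X, ?_⟩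
    have key : ∀ f : X ⟶ Y, (sigma r).app X ≫ f ≫ e.hom =
        (ARSys.shift C r).map (f ≫ e.hom ≫ (sigma r).app Y') := by
      intro f
      have n1 := (sigma r).naturality (f ≫ e.hom)
      simp only [Functor.id_obj, Functor.id_map] at n1
      rw [← n1, sigma_shift_eq, ← Functor.map_comp, Category.assoc]
    rw [← cancel_mono e.hom, Category.assoc, Category.assoc, key f₁, key f₂, h]

end Groth.Agent.Lib.Helper17.ARSys4
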