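import Groth.Agent.Lib.Helper17ARSys8
import Groth.Agent.Lib.Helper17ARSys4

/-! Projective systems up to translation, part 11: calculus of AR-isomorphisms (helper17). -/
set_option autoImplicit false
set_option backward.isDefEq.respectTransparency false
set_option backward.isDefEq.respectTransparency.types false
universe w v u
open CategoryTheory CategoryTheory.Limits Opposite

namespace Groth.Agent.Lib.Helper17.ARSys11

open Groth.Agent.Lib.Helper17.ARSys1 Groth.Agent.Lib.Helper17.ARSys3
  Groth.Agent.Lib.Helper17.ARSys4 Groth.Agent.Lib.Helper17.ARSys8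

variable {C : Type u} [Category.{v} C] [Abelian C]

/-- natural-transformation form of `exists_inv_of_isARIso`. -/
theorem exists_inv {X Y : ARSys.PS C} (u : X ⟶ Y) (hu : ARSys.IsARIso u) :
    ∃ (r : ℕ) (w : (ARSys.shift C r).obj Y ⟶ X),
      w ≫ u = (sigma r).app Y ∧ (ARSys.shift C r).map u ≫ w = (sigma r).app X := by
  obtain ⟨r, w, h1, h2⟩ := exists_inv_of_isARIso u hu
  refine ⟨r, w, ?_, ?_⟩
  · ext ⟨n⟩
    exact h1 n
  · ext ⟨n⟩
    exact h2 n

/-- natural-transformation form of `isARIso_of_inv`. -/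
theorem isARIso_of_inv' {X Y : ARSys.PS C} (u : X ⟶ Y) (r : ℕ)
    (w : (ARSys.shift C r).obj Y ⟶ X) (h1 : w ≫ u = (sigma r).app Y)
    (h2 : (ARSys.shift C r).map u ≫ w = (sigma r).app X) : ARSys.IsARIso u := by
  refine isARIso_of_inv u r w (fun n => ?_) (fun n => ?_)
  · exact congrArg (fun t => t.app (op n)) h1
  · exact congrArg (fun t => t.app (op n)) h2

theorem isARNull_of_mono {K X : ARSys.PS C} (i : K ⟶ X) [Mono i] (hX : ARSys.IsARNull X) :
    ARSys.IsARNull K := by
  obtain ⟨r, hr⟩ := hX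
  refine ⟨r, fun n => ?_⟩
  have : Mono (i.app (op n)) := inferInstance
  rw [← cancel_mono (i.app (op n)), zero_comp]
  have e := tr_nat i (Nat.le_add_right n r)
  have hr' : ARSys.tr X (Nat.le_add_right n r) = 0 := hr n
  calc _ = ARSys.tr K (Nat.le_add_right n r) ≫ i.app (op n) := rfl
    _ = _ := by rw [e, hr', comp_zero]

theorem isARNull_of_epi {X Q : ARSys.PS C} (p : X ⟶ Q) [Epi p] (hX : ARSys.IsARNull X) :
    ARSys.IsARNull Q := by
  obtain ⟨r, hr⟩ := hX
  refine ⟨r, fun n => ?_⟩
  have : Epi (p.app (op (n + r))) := inferInstance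
  rw [← cancel_epi (p.app (op (n + r))), comp_zero]
  have e := tr_nat p (Nat.le_add_right n r)
  have hr' : ARSys.tr X (Nat.le_add_right n r) = 0 := hr n
  calc _ = p.app (op (n + r)) ≫ ARSys.tr Q (Nat.le_add_right n r) := rfl
    _ = _ := by rw [← e, hr', zero_comp]

theorem isARIso_of_mono_of_cokernel_null {X Y : ARSys.PS C} (u : X ⟶ Y) [Mono u]
    (h : ARSys.IsARNull (cokernel u)) : ARSys.IsARIso u := by
  refine ⟨⟨0, fun n => ?_⟩, h⟩
  have : Mono ((kernel.ι u).app (op n)) := inferInstance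
  rw [← cancel_mono ((kernel.ι u).app (op n)), zero_comp]
  have : kernel.ι u = 0 := kernel.ι_of_mono u
  rw [this]
  exact comp_zero

theorem isARIso_of_epi_of_kernel_null {X Y : ARSys.PS C} (u : X ⟶ Y) [Epi u]
    (h : ARSys.IsARNull (kernel u)) : ARSys.IsARIso u := by
  refine ⟨h, ⟨0, fun n => ?_⟩⟩
  have : Epi ((cokernel.π u).app (op (n + 0))) := inferInstance
  rw [← cancel_epi ((cokernel.π u).app (op (n + 0))), comp_zero]
  have : cokernel.π u = 0 := cokernel.π_of_epi u
  rw [this]
  exact zero_comp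

/-- composition of AR-isomorphisms. -/
theorem isARIso_comp {X Y Z : ARSys.PS C} (u : X ⟶ Y) (v : Y ⟶ Z) (hu : ARSys.IsARIso u)
    (hv : ARSys.IsARIso v) : ARSys.IsARIso (u ≫ v) := by
  obtain ⟨r, w, h1, h2⟩ := exists_inv u hu
  obtain ⟨s, w', h1', h2'⟩ := exists_inv v hv
  refine isARIso_of_inv' (u ≫ v) (s + r)
    ((shiftShiftIso r s Z).inv ≫ (ARSys.shift C r).map w' ≫ w) ?_ ?_
  · have n1 := (sigma r).naturality v
    simp only [Functor.id_obj, Functor.id_map] at n1
    have e2 : (ARSys.shift C r).map ((sigma s).app Z) ≫ (sigma r).app Z =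
        (sigma r).app ((ARSys.shift C s).obj Z) ≫ (sigma s).app Z :=
      ((sigma r).naturality ((sigma s).app Z))
    rw [Category.assoc, Category.assoc, reassoc_of% h1, ← n1, ← Functor.map_comp_assoc, h1', e2,
      sigma_shift, Iso.inv_hom_id_assoc]
  · have e1 : (ARSys.shift C (s + r)).map (u ≫ v) ≫ (shiftShiftIso r s Z).inv =
        (shiftShiftIso r s X).inv ≫ (ARSys.shift C r).map ((ARSys.shift C s).map (u ≫ v)) := by
      ext ⟨n⟩
      exact (tr_nat (u ≫ v) _).symm
    have n1 := (sigma s).naturality u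
    simp only [Functor.id_obj, Functor.id_map] at n1
    have e3 : (ARSys.shift C s).map (u ≫ v) ≫ w' = (sigma s).app X ≫ u := by
      rw [Functor.map_comp, Category.assoc, h2', n1]
    have e2 : (ARSys.shift C r).map ((sigma s).app X) ≫ (sigma r).app X =
        (sigma r).app ((ARSys.shift C s).obj X) ≫ (sigma s).app X :=
      ((sigma r).naturality ((sigma s).app X))
    rw [reassoc_of% e1, ← Functor.map_comp_assoc, e3, Functor.map_comp, Category.assoc, h2, e2,
      sigma_shift, Iso.inv_hom_id_assoc]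

/-- The source of an AR-isomorphism with uniformly Mittag-Leffler target is uniformly
Mittag-Leffler. -/
theorem isMLAR_of_isARIso {X Y : ARSys.PS C} (u : X ⟶ Y) (hu : ARSys.IsARIso u)
    (hY : ARSys.IsMLAR Y) : ARSys.IsMLAR X := by
  obtain ⟨t, w, h1, h2⟩ := exists_inv_of_isARIso u hu
  obtain ⟨r, hr⟩ := hY
  refine ⟨r + t, fun s hs n => le_antisymm (imageSubobject_shiftMap_le X n hs) ?_⟩
  have e3 : imageSubobject (ARSys.tr Y (show n + t ≤ n + (r + t) by omega)) =
      imageSubobject (ARSys.tr Y (show n + t ≤ n + s + t by omega)) := by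
    rw [imageSubobject_tr_of_mlar Y r hr (n + t) (n + (r + t)) _ (by omega),
      imageSubobject_tr_of_mlar Y r hr (n + t) (n + s + t) _ (by omega)]
  obtain ⟨T, π, hπ, y', hy'⟩ := exists_lift_of_imageSubobject_le _ _ e3.le
    (u.app (op (n + (r + t))))
  refine imageSubobject_le_of_lift _ _ π (y' ≫ w.app (op (n + s))) ?_
  have hw : w.app (op (n + s)) ≫ ARSys.tr X (Nat.le_add_right n s) =
      ARSys.tr Y (show n + t ≤ n + s + t by omega) ≫ w.app (op n) :=
    (tr_nat w (Nat.le_add_right n s)).symm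
  have h2' : u.app (op (n + t)) ≫ w.app (op n) = ARSys.tr X (Nat.le_add_right n t) := h2 n
  calc π ≫ ARSys.shiftMap X (r + t) n
      = π ≫ ARSys.tr X (show n + t ≤ n + (r + t) by omega) ≫ ARSys.tr X (Nat.le_add_right n t) := by
        unfold ARSys.shiftMap; rw [tr_comp]
    _ = π ≫ ARSys.tr X (show n + t ≤ n + (r + t) by omega) ≫ u.app (op (n + t)) ≫ w.app (op n) := by
        rw [h2']
    _ = (π ≫ u.app (op (n + (r + t))) ≫ ARSys.tr Y (show n + t ≤ n + (r + t) by omega)) ≫
          w.app (op n) := by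
        rw [← Category.assoc (ARSys.tr X _), tr_nat u]; simp only [Category.assoc]
    _ = (y' ≫ ARSys.tr Y (show n + t ≤ n + s + t by omega)) ≫ w.app (op n) := by rw [hy']
    _ = (y' ≫ w.app (op (n + s))) ≫ ARSys.shiftMap X s n := by
        unfold ARSys.shiftMap
        rw [Category.assoc, Category.assoc, hw]

end Groth.Agent.Lib.Helper17.ARSys11
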