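import Groth.Prelude.Def_ARSys
import Mathlib

/-! Projective systems up to translation (Artin–Rees category): helper lemmas (helper4). -/
set_option autoImplicit false
universe w v u
open CategoryTheory CategoryTheory.Limits Opposite

namespace Groth.Agent.Lib.Helper4.AR

variable {C : Type u} [Category.{v} C]

theorem tr_comp (X : ARSys.PS C) {n m k : ℕ} (h₁ : n ≤ m) (h₂ : m ≤ k) :
    ARSys.tr X h₂ ≫ ARSys.tr X h₁ = ARSys.tr X (h₁.trans h₂) := by
  unfold ARSys.tr
  rw [← X.map_comp]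
  rfl

theorem tr_naturality {X Y : ARSys.PS C} (f : X ⟶ Y) {n m : ℕ} (h : n ≤ m) :
    ARSys.tr X h ≫ f.app (op n) = f.app (op m) ≫ ARSys.tr Y h :=
  f.naturality _

theorem isARNull_iff [HasZeroMorphisms C] (X : ARSys.PS C) :
    ARSys.IsARNull X ↔ ∃ r : ℕ, ∀ n : ℕ, ARSys.tr X (Nat.le_add_right n r) = 0 := Iff.rfl

/-- if the transition by `r` vanishes then so does any transition by at least `r`. -/
theorem tr_eq_zero_of_le [HasZeroMorphisms C] (X : ARSys.PS C) {r : ℕ}
    (hr : ∀ n : ℕ, ARSys.tr X (Nat.le_add_right n r) = 0) {n m : ℕ} (h : n + r ≤ m) :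
    ARSys.tr X (show n ≤ m by omega) = 0 := by
  rw [← tr_comp X (Nat.le_add_right n r) h, hr n, comp_zero]

variable [Abelian C]

theorem shortExact_app (S : ShortComplex (ARSys.PS C)) (hS : S.ShortExact) (n : ℕ) :
    (S.map ((evaluation ℕᵒᵖ C).obj (op n))).ShortExact :=
  hS.map_of_exact _


section Linear
variable {C : Type u} [Category.{v} C] {A : Type w} [CommRing A] [Preadditive C] [Linear A C]

theorem killedBy_of_epi (I : Ideal A) {X Q : C} (p : X ⟶ Q) [Epi p] (h : ARSys.KilledBy I X) :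
    ARSys.KilledBy I Q := by
  intro a ha
  rw [← cancel_epi p, comp_zero, Linear.comp_smul, Category.comp_id, ← Category.id_comp p,
    ← Linear.smul_comp, h a ha, zero_comp]

theorem killedBy_of_mono (I : Ideal A) {X Q : C} (i : X ⟶ Q) [Mono i] (h : ARSys.KilledBy I Q) :
    ARSys.KilledBy I X := by
  intro a ha
  rw [← cancel_mono i, zero_comp, Linear.smul_comp, Category.id_comp, ← Category.comp_id i,
    ← Linear.comp_smul, h a ha, comp_zero]

theorem homKilledBy_comp_left (I : Ideal A) {X Y Z : C} (f : X ⟶ Y) (g : Y ⟶ Z)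
    (h : ARSys.HomKilledBy I g) : ARSys.HomKilledBy I (f ≫ g) := by
  intro a ha
  rw [← Linear.comp_smul, h a ha, comp_zero]

theorem homKilledBy_comp_right (I : Ideal A) {X Y Z : C} (f : X ⟶ Y) (g : Y ⟶ Z)
    (h : ARSys.HomKilledBy I f) : ARSys.HomKilledBy I (f ≫ g) := by
  intro a ha
  rw [← Linear.smul_comp, h a ha, zero_comp]

theorem homKilledBy_of_killedBy_tgt (I : Ideal A) {X Y : C} (f : X ⟶ Y) (h : ARSys.KilledBy I Y) :
    ARSys.HomKilledBy I f := by
  intro a ha
  rw [← Category.comp_id f, ← Linear.comp_smul, h a ha, comp_zero]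

theorem homKilledBy_of_killedBy_src (I : Ideal A) {X Y : C} (f : X ⟶ Y) (h : ARSys.KilledBy I X) :
    ARSys.HomKilledBy I f := by
  intro a ha
  rw [← Category.id_comp f, ← Linear.smul_comp, h a ha, zero_comp]

theorem isQuot_epi (I : Ideal A) {X Q : C} (p : X ⟶ Q) (h : ARSys.IsQuot I p) : Epi p := by
  constructor
  intro Z ψ₁ ψ₂ he
  have hk : ARSys.HomKilledBy I (p ≫ ψ₁) :=
    homKilledBy_comp_left I p ψ₁ (homKilledBy_of_killedBy_src I ψ₁ h.1)
  obtain ⟨ψ, -, huniq⟩ := h.2 Z (p ≫ ψ₁) hk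
  rw [huniq ψ₁ rfl, huniq ψ₂ he.symm]


end Linear

end Groth.Agent.Lib.Helper4.AR
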