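import Groth.Agent.Lib.Helper17ARSys11
import Groth.Agent.S3152

/-! Projective systems up to translation, part 12: quotients of AR-adic systems (helper17). -/
set_option autoImplicit false
set_option backward.isDefEq.respectTransparency false
set_option backward.isDefEq.respectTransparency.types false
universe w v u
open CategoryTheory CategoryTheory.Limits Opposite

namespace Groth.Agent.Lib.Helper17.ARSys12

open Groth.Agent.Lib.Helper17.ARSys1 Groth.Agent.Lib.Helper17.ARSys3
  Groth.Agent.Lib.Helper17.ARSys4 Groth.Agent.Lib.Helper17.ARSys8 Groth.Agent.Lib.Helper17.ARSys11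

variable {C : Type u} [Category.{v} C] [Abelian C] {R : Type w} [CommRing R] [Linear R C]

theorem isARAdic_X₃ (J : Ideal R) (hJ : J.FG ∨ HasCoproducts.{w} C)
    (S : ShortComplex (ARSys.PS C)) (hS : S.ShortExact)
    (k₃ : ARSys.TermKilled J S.X₃) (h₁ : ARSys.IsMLAR S.X₁) (h₂ : ARSys.IsARAdic J S.X₂) :
    ARSys.IsARAdic J S.X₃ := by
  obtain ⟨-, Y, u, hY, hu⟩ := h₂
  obtain ⟨t, w, hw1, hw2⟩ := exists_inv u hu
  have : Mono S.f := hS.mono_f
  have : Epi S.g := hS.epi_g
  set v : Y ⟶ S.X₃ := u ≫ S.g with hv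
  have hk0 : (kernel.ι v ≫ u) ≫ S.g = 0 := by
    rw [Category.assoc]; exact kernel.condition v
  obtain ⟨k, hk⟩ : ∃ k : kernel v ⟶ S.X₁, k ≫ S.f = kernel.ι v ≫ u :=
    ⟨hS.exact.lift _ hk0, hS.exact.lift_f _ hk0⟩
  have nf := (sigma t).naturality S.f
  simp only [Functor.id_obj, Functor.id_map] at nf
  have hwK0 : ((ARSys.shift C t).map S.f ≫ w) ≫ v = 0 := by
    rw [hv, Category.assoc, reassoc_of% hw1, reassoc_of% nf, S.zero, comp_zero]
  obtain ⟨wK, hwK⟩ : ∃ wK : (ARSys.shift C t).obj S.X₁ ⟶ kernel v,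
      wK ≫ kernel.ι v = (ARSys.shift C t).map S.f ≫ w :=
    ⟨kernel.lift v _ hwK0, kernel.lift_ι _ _ _⟩
  have hkiso : ARSys.IsARIso k := by
    refine isARIso_of_inv' k t wK ?_ ?_
    · rw [← cancel_mono S.f, Category.assoc, hk, reassoc_of% hwK, hw1, nf]
    · have nι := (sigma t).naturality (kernel.ι v)
      simp only [Functor.id_obj, Functor.id_map] at nι
      rw [← cancel_mono (kernel.ι v), Category.assoc, hwK, ← Functor.map_comp_assoc, hk,
        Functor.map_comp_assoc, hw2, nι]
  obtain ⟨rK, hrK⟩ := isMLAR_of_isARIso k hkiso h₁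
  set j := univImageι rK (kernel v) with hj
  have hK's : ARSys.IsStrict (univImage rK (kernel v)) := isStrict_univImage _ rK hrK
  have hjnull : ARSys.IsARNull (cokernel j) := (isARIso_univImageι rK _).2
  set i := j ≫ kernel.ι v with hi
  have hS' : (ShortComplex.mk i (cokernel.π i) (cokernel.condition i)).ShortExact :=
    { exact := ShortComplex.exact_cokernel i
      mono_f := by dsimp; infer_instance
      epi_g := by dsimp; infer_instance }
  have hY₃ : ARSys.IsAdic J (cokernel i) := Groth.Agent.S3152.result J hJ _ hS' hK's hY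
  have hiv : i ≫ v = 0 := by rw [hi, Category.assoc, kernel.condition, comp_zero]
  set vbar : cokernel i ⟶ S.X₃ := cokernel.desc i v hiv with hvbar'
  have hvbar : cokernel.π i ≫ vbar = v := cokernel.π_desc _ _ _
  refine ⟨k₃, cokernel i, vbar, hY₃, ?_, ?_⟩
  · have hm0 : j ≫ (kernel.ι v ≫ cokernel.π i) = 0 := by
      rw [← Category.assoc]; exact cokernel.condition i
    set m0 : cokernel j ⟶ cokernel i := cokernel.desc j _ hm0 with hm0'
    have hπm0 : cokernel.π j ≫ m0 = kernel.ι v ≫ cokernel.π i := cokernel.π_desc _ _ _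
    have hm0v : m0 ≫ vbar = 0 := by
      rw [← cancel_epi (cokernel.π j), reassoc_of% hπm0, hvbar, kernel.condition, comp_zero]
    set m : cokernel j ⟶ kernel vbar := kernel.lift vbar m0 hm0v with hm'
    have hm : m ≫ kernel.ι vbar = m0 := kernel.lift_ι _ _ _
    have hme : Epi m := by
      rw [epi_iff_surjective_up_to_refinements]
      intro T y
      obtain ⟨T₁, π₁, hπ₁, y₁, hy₁⟩ :=
        surjective_up_to_refinements_of_epi (cokernel.π i) (y ≫ kernel.ι vbar)
      have hy₁v : y₁ ≫ v = 0 := by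
        rw [← hvbar, ← reassoc_of% hy₁, kernel.condition, comp_zero, comp_zero]
      refine ⟨T₁, π₁, hπ₁, kernel.lift v y₁ hy₁v ≫ cokernel.π j, ?_⟩
      rw [← cancel_mono (kernel.ι vbar), Category.assoc, Category.assoc, Category.assoc, hm, hπm0,
        kernel.lift_ι_assoc, hy₁]
    exact isARNull_of_epi m hjnull
  · have hc0 : u ≫ (S.g ≫ cokernel.π vbar) = 0 := by
      have e : u ≫ S.g = cokernel.π i ≫ vbar := hvbar.symm
      rw [← Category.assoc, e, Category.assoc, cokernel.condition, comp_zero]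
    set c : cokernel u ⟶ cokernel vbar := cokernel.desc u _ hc0 with hc'
    have hce : Epi c := by
      have : Epi (cokernel.π u ≫ c) := by
        rw [cokernel.π_desc]; infer_instance
      exact epi_of_epi (cokernel.π u) c
    exact isARNull_of_epi c hu.2

end Groth.Agent.Lib.Helper17.ARSys12
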