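import Groth.Agent.Lib.Helper17ARSys1

/-! Projective systems up to translation, part 6: the filtration `Fsub` and adapted systems
(helper17). -/
set_option autoImplicit false
set_option backward.isDefEq.respectTransparency false
set_option backward.isDefEq.respectTransparency.types false
universe w v u
open CategoryTheory CategoryTheory.Limits Opposite

namespace Groth.Agent.Lib.Helper17.ARSys6

open Groth.Agent.Lib.Helper17.ARSys1

section Fsub
variable {C : Type u} [Category.{v} C] [Abelian C]

theorem Fsub_zero (X : ARSys.PS C) (n : ℕ) : ARSys.Fsub X 0 n = ⊤ := by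
  unfold ARSys.Fsub; rfl

theorem Fsub_succ_of_le (X : ARSys.PS C) {k n : ℕ} (h : k ≤ n) :
    ARSys.Fsub X (k + 1) n = kernelSubobject (ARSys.tr X h) := by
  unfold ARSys.Fsub
  simp only [dif_pos h]

theorem Fsub_succ_of_not_le (X : ARSys.PS C) {k n : ℕ} (h : ¬ k ≤ n) :
    ARSys.Fsub X (k + 1) n = ⊥ := by
  unfold ARSys.Fsub
  simp only [dif_neg h]

theorem Fsub_antitone (X : ARSys.PS C) (n : ℕ) {q q' : ℕ} (h : q ≤ q') :
    ARSys.Fsub X q' n ≤ ARSys.Fsub X q n := by
  cases q with
  | zero => rw [Fsub_zero]; exact le_top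
  | succ j =>
    obtain ⟨j', rfl⟩ : ∃ j', q' = j' + 1 := ⟨q' - 1, by omega⟩
    have hj : j ≤ j' := by omega
    by_cases hn : j' ≤ n
    · rw [Fsub_succ_of_le X hn, Fsub_succ_of_le X (hj.trans hn), ← tr_comp X hj hn]
      exact kernelSubobject_comp_le _ _
    · rw [Fsub_succ_of_not_le X hn]
      exact bot_le

theorem Fsub_factors_tr (X : ARSys.PS C) {k n : ℕ} (h : k ≤ n) (q : ℕ) (hq : q ≤ k + 1) :
    (ARSys.Fsub X q k).Factors ((ARSys.Fsub X q n).arrow ≫ ARSys.tr X h) := by
  cases q with
  | zero => rw [Fsub_zero]; exact Subobject.top_factors _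
  | succ j =>
    have hj : j ≤ k := by omega
    rw [Fsub_succ_of_le X hj]
    apply kernelSubobject_factors
    rw [Category.assoc, tr_comp, Fsub_succ_of_le X (hj.trans h)]
    exact kernelSubobject_arrow_comp _

end Fsub

section Adapted
variable {C : Type u} [Category.{v} C] [Abelian C] {A : Type w} [CommRing A] [Linear A C]

theorem smul_id_comp (a : A) {X Y : C} (f : X ⟶ Y) : (a • 𝟙 X) ≫ f = f ≫ (a • 𝟙 Y) := by
  rw [Linear.smul_comp, Linear.comp_smul, Category.id_comp, Category.comp_id]

theorem isAdapted_iff (J : Ideal A) (X : ARSys.PS C) :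
    ARSys.IsAdapted J X ↔ ∀ (n p q : ℕ), ∀ a ∈ J ^ p,
      imageSubobject ((ARSys.Fsub X q n).arrow ≫ (a • 𝟙 (X.obj (op n)))) ≤
        ARSys.Fsub X (p + q) n := by
  constructor
  · intro hA n p q a ha
    obtain h0 | ⟨k, hk⟩ : p + q = 0 ∨ ∃ k, p + q = k + 1 := by
      rcases Nat.eq_zero_or_pos (p + q) with h | h
      · exact Or.inl h
      · exact Or.inr ⟨p + q - 1, by omega⟩
    · rw [h0, Fsub_zero]; exact le_top
    · rw [hk]
      by_cases hkn : k ≤ n
      · rw [Fsub_succ_of_le X hkn]
        apply image_le_kernel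
        rw [Category.assoc, smul_id_comp, ← Category.assoc]
        have hf := Fsub_factors_tr X hkn q (by omega)
        rw [← Subobject.factorThru_arrow _ _ hf, Category.assoc]
        have := hA k p (by omega) a ha
        have e : k + 1 - p = q := by omega
        rw [e] at this
        rw [this, comp_zero]
      · rw [Fsub_succ_of_not_le X hkn]
        have hz : (ARSys.Fsub X q n).arrow ≫ (a • 𝟙 (X.obj (op n))) = 0 := by
          have ha' : a ∈ J ^ (min p (n + 1)) := Ideal.pow_le_pow_right (min_le_left _ _) ha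
          have := hA n (min p (n + 1)) (min_le_right _ _) a ha'
          have hle : ARSys.Fsub X q n ≤ ARSys.Fsub X (n + 1 - min p (n + 1)) n :=
            Fsub_antitone X n (by omega)
          rw [← Subobject.ofLE_arrow hle, Category.assoc, this, comp_zero]
        rw [hz, imageSubobject_zero]
  · intro h n p hp a ha
    have := h n p (n + 1 - p) a ha
    have e : p + (n + 1 - p) = n + 1 := by omega
    rw [e, Fsub_succ_of_le X le_rfl] at this
    set f := (ARSys.Fsub X (n + 1 - p) n).arrow ≫ (a • 𝟙 (X.obj (op n))) with hf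
    have h1 : f ≫ ARSys.tr X (le_refl n) = 0 := by
      rw [← imageSubobject_arrow_comp f, ← Subobject.ofLE_arrow this, Category.assoc,
        Category.assoc, kernelSubobject_arrow_comp, comp_zero, comp_zero]
    rw [tr_self, Category.comp_id] at h1
    exact h1

end Adapted

end Groth.Agent.Lib.Helper17.ARSys6
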