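import Groth.Agent.Lib.Helper17ARSys1
import Groth.Agent.Lib.Helper4ARSys

/-! Projective systems up to translation, part 7: quotient maps modulo an ideal in short exact
sequences (helper17). -/
set_option autoImplicit false
set_option backward.isDefEq.respectTransparency false
set_option backward.isDefEq.respectTransparency.types false
universe w v u
open CategoryTheory CategoryTheory.Limits Opposite

namespace Groth.Agent.Lib.Helper17.ARSys7

open Groth.Agent.Lib.Helper17.ARSys1 Groth.Agent.Lib.Helper4.AR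

section Obj
variable {C : Type u} [Category.{v} C] [Abelian C] {R : Type w} [CommRing R] [Linear R C]

/-- In a map of short exact sequences with `B'` killed by `I`, `p` epi and `q` a quotient map
modulo `I`, the map `a` on kernels is an epimorphism. -/
theorem epi_of_ses {A B D A' B' D' : C} (f : A ⟶ B) (g : B ⟶ D) (f' : A' ⟶ B') (g' : B' ⟶ D')
    (a : A ⟶ A') (p : B ⟶ B') (q : D ⟶ D')
    (hfa : f ≫ p = a ≫ f') (hgq : g ≫ q = p ≫ g')
    (w : f ≫ g = 0) (w' : f' ≫ g' = 0) [Epi g] (hex : (ShortComplex.mk f g w).Exact)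
    [Mono f'] (I : Ideal R) [Epi p] (hq : ARSys.IsQuot I q) (hB' : ARSys.KilledBy I B') :
    Epi a := by
  apply Abelian.epi_of_cokernel_π_eq_zero
  set c := cokernel.π a with hc
  have h1 : f ≫ p ≫ pushout.inl f' c = 0 := by
    rw [← Category.assoc, hfa, Category.assoc, pushout.condition, ← Category.assoc,
      cokernel.condition, zero_comp]
  obtain ⟨δ, hδ⟩ : ∃ δ : D ⟶ pushout f' c, g ≫ δ = p ≫ pushout.inl f' c :=
    ⟨hex.desc _ h1, hex.g_desc _ h1⟩
  have hδk : ARSys.HomKilledBy I δ := by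
    intro i hi
    rw [← cancel_epi g, comp_zero, Linear.comp_smul, hδ, ← Linear.smul_comp]
    have : i • p = 0 := homKilledBy_of_killedBy_tgt I p hB' i hi
    rw [this, zero_comp]
  obtain ⟨δ', hδ', -⟩ := hq.2 _ δ hδk
  have h2 : pushout.inl f' c = g' ≫ δ' := by
    rw [← cancel_epi p, ← hδ, ← hδ', ← Category.assoc, hgq, Category.assoc]
  have h3 : c ≫ pushout.inr f' c = 0 := by
    rw [← pushout.condition, h2, ← Category.assoc, w', zero_comp]
  rw [← cancel_mono (pushout.inr f' c), zero_comp]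
  exact h3

/-- In a map of short exact sequences with `B'` killed by `I` and the outer vertical maps
quotient maps modulo `I`, the middle vertical map is a quotient map modulo `I`. -/
theorem isQuot_of_ses {A B D A' B' D' : C} (f : A ⟶ B) (g : B ⟶ D) (f' : A' ⟶ B') (g' : B' ⟶ D')
    (a : A ⟶ A') (p : B ⟶ B') (q : D ⟶ D')
    (hfa : f ≫ p = a ≫ f') (hgq : g ≫ q = p ≫ g')
    (w : f ≫ g = 0) (w' : f' ≫ g' = 0) [Epi g] (hex : (ShortComplex.mk f g w).Exact)
    [Mono f'] [Epi g'] (hex' : (ShortComplex.mk f' g' w').Exact)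
    (I : Ideal R) (ha : ARSys.IsQuot I a) (hq : ARSys.IsQuot I q) (hB' : ARSys.KilledBy I B') :
    ARSys.IsQuot I p := by
  have hae : Epi a := isQuot_epi I a ha
  have hqe : Epi q := isQuot_epi I q hq
  have hpe : Epi p := by
    apply Abelian.epi_of_cokernel_π_eq_zero
    set c := cokernel.π p with hc
    have h1 : f' ≫ c = 0 := by
      rw [← cancel_epi a, comp_zero, ← Category.assoc, ← hfa, Category.assoc,
        cokernel.condition, comp_zero]
    obtain ⟨c', hc'⟩ : ∃ c' : D' ⟶ cokernel p, g' ≫ c' = c := ⟨hex'.desc _ h1, hex'.g_desc _ h1⟩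
    have h2 : q ≫ c' = 0 := by
      rw [← cancel_epi g, comp_zero, ← Category.assoc, hgq, Category.assoc, hc',
        cokernel.condition]
    have h3 : c' = 0 := by
      rw [← cancel_epi q, comp_zero]
      exact h2
    rw [← hc', h3, comp_zero]
  refine ⟨hB', fun Y φ hφ => ?_⟩
  -- uniqueness is clear since `p` is epi
  suffices h : ∃ ψ : B' ⟶ Y, p ≫ ψ = φ by
    obtain ⟨ψ, hψ⟩ := h
    refine ⟨ψ, hψ, fun ψ' hψ' => ?_⟩
    rw [← cancel_epi p, hψ]
    exact hψ'
  obtain ⟨ψA, hψA, -⟩ := ha.2 Y (f ≫ φ) (homKilledBy_comp_left I f φ hφ)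
  have h1 : f ≫ (p ≫ pushout.inl f' ψA - φ ≫ pushout.inr f' ψA) = 0 := by
    rw [Preadditive.comp_sub, ← Category.assoc, hfa, Category.assoc, pushout.condition,
      ← Category.assoc, hψA, Category.assoc, sub_self]
  obtain ⟨δ, hδ⟩ : ∃ δ : D ⟶ pushout f' ψA,
      g ≫ δ = p ≫ pushout.inl f' ψA - φ ≫ pushout.inr f' ψA :=
    ⟨hex.desc _ h1, hex.g_desc _ h1⟩
  have hδk : ARSys.HomKilledBy I δ := by
    intro i hi
    rw [← cancel_epi g, comp_zero, Linear.comp_smul, hδ, smul_sub, ← Linear.smul_comp,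
      ← Linear.smul_comp]
    have e1 : i • p = 0 := homKilledBy_of_killedBy_tgt I p hB' i hi
    rw [e1, hφ i hi, zero_comp, zero_comp, sub_zero]
  obtain ⟨δ', hδ', -⟩ := hq.2 _ δ hδk
  have h2 : p ≫ (pushout.inl f' ψA - g' ≫ δ') = φ ≫ pushout.inr f' ψA := by
    rw [Preadditive.comp_sub, ← Category.assoc, ← hgq, Category.assoc, hδ', hδ]
    abel
  have h3 : (pushout.inl f' ψA - g' ≫ δ') ≫ cokernel.π (pushout.inr f' ψA) = 0 := by
    rw [← cancel_epi p, comp_zero, ← Category.assoc, h2, Category.assoc, cokernel.condition,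
      comp_zero]
  refine ⟨Abelian.monoLift (pushout.inr f' ψA) _ h3, ?_⟩
  rw [← cancel_mono (pushout.inr f' ψA), Category.assoc, Abelian.monoLift_comp, h2]

end Obj

section Sys
variable {C : Type u} [Category.{v} C] [Abelian C] {R : Type w} [CommRing R] [Linear R C]

theorem isAdic_X₂_of_isAdic (J : Ideal R) (S : ShortComplex (ARSys.PS C)) (hS : S.ShortExact)
    (k₂ : ARSys.TermKilled J S.X₂) (h₁ : ARSys.IsAdic J S.X₁) (h₃ : ARSys.IsAdic J S.X₃) :
    ARSys.IsAdic J S.X₂ := by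
  refine ⟨k₂, fun n m h => ?_⟩
  have em := shortExact_app S hS m
  have en := shortExact_app S hS n
  have : Epi (S.g.app (op m)) := em.epi_g
  have : Mono (S.f.app (op n)) := en.mono_f
  have : Epi (S.g.app (op n)) := en.epi_g
  exact isQuot_of_ses (S.f.app (op m)) (S.g.app (op m)) (S.f.app (op n)) (S.g.app (op n))
    (ARSys.tr S.X₁ h) (ARSys.tr S.X₂ h) (ARSys.tr S.X₃ h) (tr_nat S.f h).symm (tr_nat S.g h).symm
    (S.map ((evaluation ℕᵒᵖ C).obj (op m))).zero (S.map ((evaluation ℕᵒᵖ C).obj (op n))).zero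
    em.exact en.exact (J ^ (n + 1)) (h₁.2 n m h) (h₃.2 n m h) (k₂ n)

theorem isStrict_X₁_of_strict_of_isAdic (J : Ideal R) (S : ShortComplex (ARSys.PS C))
    (hS : S.ShortExact) (k₂ : ARSys.TermKilled J S.X₂) (h₂ : ARSys.IsStrict S.X₂)
    (h₃ : ARSys.IsAdic J S.X₃) : ARSys.IsStrict S.X₁ := by
  intro n m h
  have em := shortExact_app S hS m
  have en := shortExact_app S hS n
  have : Epi (S.g.app (op m)) := em.epi_g
  have : Mono (S.f.app (op n)) := en.mono_f
  have : Epi (ARSys.tr S.X₂ h) := h₂ n m h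
  exact epi_of_ses (S.f.app (op m)) (S.g.app (op m)) (S.f.app (op n)) (S.g.app (op n))
    (ARSys.tr S.X₁ h) (ARSys.tr S.X₂ h) (ARSys.tr S.X₃ h) (tr_nat S.f h).symm (tr_nat S.g h).symm
    (S.map ((evaluation ℕᵒᵖ C).obj (op m))).zero (S.map ((evaluation ℕᵒᵖ C).obj (op n))).zero
    em.exact (J ^ (n + 1)) (h₃.2 n m h) (k₂ n)

end Sys

end Groth.Agent.Lib.Helper17.ARSys7
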