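import Groth.Agent.Lib.Helper17ARSys10
import Groth.Agent.Lib.Helper17ARNoeth

/-! Projective systems up to translation, part 14: existence of quotients modulo an ideal and the
criterion `F^n(X_n) ⊆ J^{n-r} X_n` (helper17). -/
set_option autoImplicit false
set_option backward.isDefEq.respectTransparency false
set_option backward.isDefEq.respectTransparency.types false
universe w v u
open CategoryTheory CategoryTheory.Limits Opposite

namespace Groth.Agent.Lib.Helper17.ARSys14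

open Groth.Agent.Lib.Helper17.ARSys1 Groth.Agent.Lib.Helper17.ARNoeth
  Groth.Agent.Lib.Helper17.ARSys10

section Quot
variable {C : Type u} [Category.{v} C] [Abelian C] {R : Type w} [CommRing R] [Linear R C]

theorem isQuot_cokernel {ι : Type*} (g : ι → R) (I : Ideal R)
    (hI : Ideal.span (Set.range g) = I) (X : C) [HasCoproduct (fun _ : ι => X)] :
    ARSys.IsQuot I (cokernel.π (Sigma.desc (fun i => g i • 𝟙 X) : (∐ fun _ : ι => X) ⟶ X)) := by
  set d : (∐ fun _ : ι => X) ⟶ X := Sigma.desc (fun i => g i • 𝟙 X) with hd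
  have hgi : ∀ i, g i • cokernel.π d = 0 := by
    intro i
    have : (g i • 𝟙 X) ≫ cokernel.π d = 0 := by
      rw [← Sigma.ι_desc (fun i => g i • 𝟙 X) i, Category.assoc, cokernel.condition, comp_zero]
    rw [Linear.smul_comp, Category.id_comp] at this
    exact this
  have hI' : I ≤ annHom (cokernel.π d) := by
    rw [← hI]
    refine Ideal.span_le.2 ?_
    rintro _ ⟨i, rfl⟩
    exact hgi i
  refine ⟨fun a ha => ?_, fun Y φ hφ => ?_⟩
  · rw [← cancel_epi (cokernel.π d), comp_zero, Linear.comp_smul, Category.comp_id]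
    exact hI' ha
  · have h0 : d ≫ φ = 0 := by
      apply Sigma.hom_ext
      intro i
      rw [← Category.assoc, Sigma.ι_desc, comp_zero, Linear.smul_comp, Category.id_comp]
      exact hφ _ (hI ▸ Ideal.subset_span ⟨i, rfl⟩)
    refine ⟨cokernel.desc d φ h0, cokernel.π_desc _ _ _, fun ψ hψ => ?_⟩
    rw [← cancel_epi (cokernel.π d), cokernel.π_desc]
    exact hψ

theorem exists_isQuot (I : Ideal R) (hI : I.FG ∨ HasCoproducts.{w} C) (X : C) :
    ∃ (Q : C) (p : X ⟶ Q), ARSys.IsQuot I p := by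
  rcases hI with hI | hI
  · obtain ⟨s, hs⟩ := hI
    exact ⟨_, _, isQuot_cokernel (fun a : s => (a : R)) I (by
      have : (Set.range fun a : s => (a : R)) = ↑s := Subtype.range_coe
      rw [this]; exact hs) X⟩
  · exact ⟨_, _, isQuot_cokernel (fun a : I => (a : R)) I (by
      have : (Set.range fun a : I => (a : R)) = ↑I := Subtype.range_coe
      rw [this]; exact Ideal.span_eq I) X⟩

theorem fg_or_pow (J : Ideal R) (hJ : J.FG ∨ HasCoproducts.{w} C) (k : ℕ) :
    (J ^ k).FG ∨ HasCoproducts.{w} C := by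
  rcases hJ with hJ | hJ
  · exact Or.inl (hJ.pow)
  · exact Or.inr hJ

end Quot

section Crit
variable {C : Type u} [Category.{v} C] [Abelian C] {R : Type w} [CommRing R] [Linear R C]

/-- Under the criterion `F^n(X_n) ⊆ J^{n-r} X_n` for a strict system, a morphism out of `X_{N'+d}`
killed by `J^k` kills the kernel of the transition to `X_{N'}`, as soon as `k + r ≤ N' + 1`. -/
theorem kills_kernel (J : Ideal R) (X : ARSys.PS C) (hX : ARSys.IsStrict X) (r : ℕ)
    (H : ∀ n : ℕ, ARSys.SubLEIdeal (J ^ (n - r)) (ARSys.Fker X n)) (k N' : ℕ)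
    (hk : k + r ≤ N' + 1) :
    ∀ (d : ℕ) (Z : C) (ψ : X.obj (op (N' + d)) ⟶ Z), ARSys.HomKilledBy (J ^ k) ψ →
      kernel.ι (ARSys.tr X (Nat.le_add_right N' d)) ≫ ψ = 0 := by
  intro d
  induction d with
  | zero =>
    intro Z ψ _
    have : ARSys.tr X (Nat.le_add_right N' 0) = 𝟙 _ := tr_self X _ _
    have h0 : kernel.ι (ARSys.tr X (Nat.le_add_right N' 0)) = 0 := by
      have : Mono (ARSys.tr X (Nat.le_add_right N' 0)) := by rw [this]; infer_instance
      exact kernel.ι_of_mono _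
    rw [h0, zero_comp]
  | succ d ih =>
    intro Z ψ hψ
    have hψ' : ARSys.HomKilledBy (J ^ (N' + d + 1 - r)) ψ := fun a ha =>
      hψ a (Ideal.pow_le_pow_right (by omega) ha)
    have h1 := H (N' + d + 1) Z ψ hψ'
    have h2 : kernel.ι (ARSys.tr X (Nat.le_succ (N' + d))) ≫ ψ = 0 := by
      have e : (ARSys.Fker X (N' + d + 1)).arrow =
          (kernelSubobjectIso (ARSys.tr X (Nat.le_succ (N' + d)))).hom ≫
            kernel.ι (ARSys.tr X (Nat.le_succ (N' + d))) := (kernelSubobject_arrow _).symm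
      rw [e, Category.assoc] at h1
      rw [← cancel_epi (kernelSubobjectIso (ARSys.tr X (Nat.le_succ (N' + d)))).hom, comp_zero]
      exact h1
    have he : Epi (ARSys.tr X (Nat.le_succ (N' + d))) := hX _ _ _
    have hfac : ARSys.tr X (Nat.le_succ (N' + d)) ≫
        Abelian.epiDesc (ARSys.tr X (Nat.le_succ (N' + d))) ψ h2 = ψ := Abelian.comp_epiDesc _ _ _
    set ψ' := Abelian.epiDesc (ARSys.tr X (Nat.le_succ (N' + d))) ψ h2 with hψ'def
    have hψ'k : ARSys.HomKilledBy (J ^ k) ψ' := by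
      intro a ha
      rw [← cancel_epi (ARSys.tr X (Nat.le_succ (N' + d))), comp_zero, Linear.comp_smul, hfac]
      exact hψ a ha
    have ih' := ih Z ψ' hψ'k
    have h3 : (kernel.ι (ARSys.tr X (Nat.le_add_right N' (d + 1))) ≫
        ARSys.tr X (Nat.le_succ (N' + d))) ≫ ARSys.tr X (Nat.le_add_right N' d) = 0 := by
      rw [Category.assoc, tr_comp]
      exact kernel.condition _
    calc kernel.ι (ARSys.tr X (Nat.le_add_right N' (d + 1))) ≫ ψ
        = (kernel.ι (ARSys.tr X (Nat.le_add_right N' (d + 1))) ≫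
            ARSys.tr X (Nat.le_succ (N' + d))) ≫ ψ' := by rw [Category.assoc, hfac]
      _ = kernel.lift _ _ h3 ≫ kernel.ι (ARSys.tr X (Nat.le_add_right N' d)) ≫ ψ' := by
          rw [kernel.lift_ι_assoc]
      _ = 0 := by rw [ih', comp_zero]

end Crit

section Tower
variable {C : Type u} [Category.{v} C] [Abelian C] {R : Type w} [CommRing R] [Linear R C]
variable (J : Ideal R) (hJ : J.FG ∨ HasCoproducts.{w} C) (X : ARSys.PS C) (r : ℕ)

/-- the quotient `X_{n+r} / J^{n+1} X_{n+r}`. -/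
noncomputable def Qobj (n : ℕ) : C :=
  (exists_isQuot (J ^ (n + 1)) (fg_or_pow J hJ (n + 1)) (X.obj (op (n + r)))).choose

noncomputable def Qmap (n : ℕ) : X.obj (op (n + r)) ⟶ Qobj J hJ X r n :=
  (exists_isQuot (J ^ (n + 1)) (fg_or_pow J hJ (n + 1)) (X.obj (op (n + r)))).choose_spec.choose

theorem Qmap_isQuot (n : ℕ) : ARSys.IsQuot (J ^ (n + 1)) (Qmap J hJ X r n) :=
  (exists_isQuot (J ^ (n + 1)) (fg_or_pow J hJ (n + 1)) (X.obj (op (n + r)))).choose_spec.choose_spec

instance (n : ℕ) : Epi (Qmap J hJ X r n) :=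
  Groth.Agent.Lib.Helper4.AR.isQuot_epi _ _ (Qmap_isQuot J hJ X r n)

theorem exists_Qtrans (n : ℕ) : ∃ t : Qobj J hJ X r (n + 1) ⟶ Qobj J hJ X r n,
    Qmap J hJ X r (n + 1) ≫ t =
      ARSys.tr X (show n + r ≤ n + 1 + r by omega) ≫ Qmap J hJ X r n := by
  refine ((Qmap_isQuot J hJ X r (n + 1)).2 _ _ ?_).exists
  intro a ha
  have ha' : a ∈ J ^ (n + 1) := Ideal.pow_le_pow_right (by omega) ha
  exact Groth.Agent.Lib.Helper4.AR.homKilledBy_of_killedBy_tgt _ _ (Qmap_isQuot J hJ X r n).1 a ha'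

noncomputable def Qtrans (n : ℕ) : Qobj J hJ X r (n + 1) ⟶ Qobj J hJ X r n :=
  (exists_Qtrans J hJ X r n).choose

theorem Qtrans_spec (n : ℕ) : Qmap J hJ X r (n + 1) ≫ Qtrans J hJ X r n =
    ARSys.tr X (show n + r ≤ n + 1 + r by omega) ≫ Qmap J hJ X r n :=
  (exists_Qtrans J hJ X r n).choose_spec

/-- the system `n ↦ X_{n+r} / J^{n+1} X_{n+r}`. -/
noncomputable def QSys : ARSys.PS C := Functor.ofOpSequence (Qtrans J hJ X r)

/-- the projection `X[r] ⟶ QSys`. -/
noncomputable def Qproj : (ARSys.shift C r).obj X ⟶ QSys J hJ X r :=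
  NatTrans.ofOpSequence (Qmap J hJ X r) (by
    intro n
    have e : (QSys J hJ X r).map (homOfLE (Nat.le_add_right n 1)).op = Qtrans J hJ X r n :=
      Functor.ofOpSequence_map_homOfLE_succ _ n
    rw [e]
    exact (Qtrans_spec J hJ X r n).symm)

theorem Qproj_app (n : ℕ) : (Qproj J hJ X r).app (op n) = Qmap J hJ X r n := rfl

theorem Qproj_isQuot (n : ℕ) : ARSys.IsQuot (J ^ (n + 1)) ((Qproj J hJ X r).app (op n)) :=
  Qmap_isQuot J hJ X r n

theorem QSys_isAdic (hX : ARSys.IsStrict X) (r₀ : ℕ) (hr : r₀ ≤ r)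
    (H : ∀ n : ℕ, ARSys.SubLEIdeal (J ^ (n - r₀)) (ARSys.Fker X n)) :
    ARSys.IsAdic J (QSys J hJ X r) := by
  have hk : ARSys.TermKilled J (QSys J hJ X r) := fun n => (Qmap_isQuot J hJ X r n).1
  refine ⟨hk, fun n m h => ⟨hk n, fun Z φ hφ => ?_⟩⟩
  obtain ⟨d, rfl⟩ : ∃ d, m = n + d := ⟨m - n, by omega⟩
  have hnat : Qmap J hJ X r (n + d) ≫ ARSys.tr (QSys J hJ X r) h =
      ARSys.tr X (show n + r ≤ n + d + r by omega) ≫ Qmap J hJ X r n :=
    (tr_nat (Qproj J hJ X r) h).symm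
  have hte : Epi (ARSys.tr X (show n + r ≤ n + d + r by omega)) := hX _ _ _
  have hYe : Epi (ARSys.tr (QSys J hJ X r) h) := by
    have : Epi (Qmap J hJ X r (n + d) ≫ ARSys.tr (QSys J hJ X r) h) := by
      rw [hnat]; infer_instance
    exact epi_of_epi (Qmap J hJ X r (n + d)) _
  suffices hex : ∃ χ : (QSys J hJ X r).obj (op n) ⟶ Z, ARSys.tr (QSys J hJ X r) h ≫ χ = φ by
    obtain ⟨χ, hχ⟩ := hex
    refine ⟨χ, hχ, fun χ' hχ' => ?_⟩
    rw [← cancel_epi (ARSys.tr (QSys J hJ X r) h), hχ]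
    exact hχ'
  -- the morphism `ψ = q ≫ φ` kills the kernel of the transition map
  have hψk : ARSys.HomKilledBy (J ^ (n + 1)) (Qmap J hJ X r (n + d) ≫ φ) :=
    Groth.Agent.Lib.Helper4.AR.homKilledBy_comp_left _ _ _ hφ
  have e1 : n + d + r = n + r + d := by omega
  have hkk : kernel.ι (ARSys.tr X (show n + r ≤ n + d + r by omega)) ≫
      (Qmap J hJ X r (n + d) ≫ φ) = 0 := by
    have key := kills_kernel J X hX r₀ H (n + 1) (n + r) (by omega) d
    -- transport along `n + d + r = n + r + d`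
    have gen : ∀ (N : ℕ) (hN : N = n + r + d) (hle : n + r ≤ N) (ψ : X.obj (op N) ⟶ Z),
        ARSys.HomKilledBy (J ^ (n + 1)) ψ → kernel.ι (ARSys.tr X hle) ≫ ψ = 0 := by
      intro N hN hle ψ hψ
      subst hN
      exact key Z ψ hψ
    exact gen _ e1 _ _ hψk
  set ψ' := Abelian.epiDesc (ARSys.tr X (show n + r ≤ n + d + r by omega)) _ hkk with hψ'
  have hfac : ARSys.tr X (show n + r ≤ n + d + r by omega) ≫ ψ' = Qmap J hJ X r (n + d) ≫ φ :=
    Abelian.comp_epiDesc _ _ _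
  have hψ'k : ARSys.HomKilledBy (J ^ (n + 1)) ψ' := by
    intro a ha
    rw [← cancel_epi (ARSys.tr X (show n + r ≤ n + d + r by omega)), comp_zero, Linear.comp_smul,
      hfac]
    exact hψk a ha
  obtain ⟨χ, hχ, -⟩ := (Qmap_isQuot J hJ X r n).2 Z ψ' hψ'k
  refine ⟨χ, ?_⟩
  rw [← cancel_epi (Qmap J hJ X r (n + d)), ← Category.assoc, hnat, Category.assoc, hχ, hfac]

include hJ in
theorem isARAdic_iff_fker (hX : ARSys.IsStrict X) (kX : ARSys.TermKilled J X) :
    ARSys.IsARAdic J X ↔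
      ∃ r : ℕ, 0 < r ∧ ∀ n : ℕ, ARSys.SubLEIdeal (J ^ (n - r)) (ARSys.Fker X n) := by
  constructor
  · rintro ⟨-, Y, u, hY, hu⟩
    obtain ⟨r₀, w, h1, h2⟩ := exists_inv_of_isARIso u hu
    refine ⟨r₀ + 1, Nat.succ_pos _, fun n Z φ hφ => ?_⟩
    by_cases hn : n ≤ r₀ + 1
    · have e0 : n - (r₀ + 1) = 0 := by omega
      rw [e0] at hφ
      have h0 : φ = 0 := by
        have := hφ 1 (by simp)
        rwa [one_smul] at this
      rw [h0, comp_zero]
    · obtain ⟨m, rfl⟩ : ∃ m, n = m + r₀ + 1 := ⟨n - r₀ - 1, by omega⟩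
      change (kernelSubobject (ARSys.tr X (Nat.le_succ (m + r₀)))).arrow ≫ φ = 0
      have hue : Epi (u.app (op (m + r₀ + 1))) := by
        have h1' : w.app (op (m + r₀ + 1)) ≫ u.app (op (m + r₀ + 1)) =
            ARSys.tr X (Nat.le_add_right (m + r₀ + 1) r₀) := h1 (m + r₀ + 1)
        have : Epi (w.app (op (m + r₀ + 1)) ≫ u.app (op (m + r₀ + 1))) := by
          rw [h1']; exact hX _ _ _
        exact epi_of_epi (w.app (op (m + r₀ + 1))) _
      obtain ⟨T', π, hπ, y, hy⟩ := surjective_up_to_refinements_of_epi (u.app (op (m + r₀ + 1)))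
        (kernelSubobject (ARSys.tr X (Nat.le_succ (m + r₀)))).arrow
      have hy0 : y ≫ ARSys.tr Y (show m ≤ m + r₀ + 1 by omega) = 0 := by
        have h2' : u.app (op (m + r₀)) ≫ w.app (op m) = ARSys.tr Y (Nat.le_add_right m r₀) := h2 m
        rw [← tr_comp Y (Nat.le_add_right m r₀) (Nat.le_succ (m + r₀)), ← h2',
          ← Category.assoc (ARSys.tr Y _), tr_nat u, ← Category.assoc, ← Category.assoc, ← hy,
          Category.assoc π, kernelSubobject_arrow_comp, comp_zero, zero_comp]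
      have hq := hY.2 m (m + r₀ + 1) (by omega)
      have e1 : m + r₀ + 1 - (r₀ + 1) = m := by omega
      rw [e1] at hφ
      have hk : ARSys.HomKilledBy (J ^ (m + 1)) (u.app (op (m + r₀ + 1)) ≫ φ) := fun a ha =>
        Groth.Agent.Lib.Helper4.AR.homKilledBy_comp_left _ _ _ hφ a
          (Ideal.pow_le_pow_right (Nat.le_succ m) ha)
      obtain ⟨ψ, hψ, -⟩ := hq.2 Z _ hk
      rw [← cancel_epi π, comp_zero, ← Category.assoc, hy, Category.assoc, ← hψ, ← Category.assoc,
        hy0, zero_comp]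
  · rintro ⟨r, -, H⟩
    exact (isARAdic_iff_of_strict J X hX kX).2 ⟨r, QSys J hJ X r, Qproj J hJ X r,
      Qproj_isQuot J hJ X r, QSys_isAdic J hJ X r hX r le_rfl H⟩

end Tower

end Groth.Agent.Lib.Helper17.ARSys14
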