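import Groth.Agent.Lib.Helper17ARSys2

/-! Projective systems up to translation, part 3: the system of universal images (helper17). -/
set_option autoImplicit false
set_option backward.isDefEq.respectTransparency false
set_option backward.isDefEq.respectTransparency.types false
universe w v u
open CategoryTheory CategoryTheory.Limits Opposite

namespace Groth.Agent.Lib.Helper17.ARSys3

open Groth.Agent.Lib.Helper17.ARSys1

section Img
variable {C : Type u} [Category.{v} C] [Abelian C]

theorem imageSubobject_epi_comp {X' X Y : C}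
    (h : X' ⟶ X) [Epi h] (f : X ⟶ Y) : imageSubobject (h ≫ f) = imageSubobject f := by
  apply le_antisymm (imageSubobject_comp_le h f)
  have : IsIso (Subobject.ofLE _ _ (imageSubobject_comp_le h f)) := isIso_of_mono_of_epi _
  refine Subobject.le_of_comm (inv (Subobject.ofLE _ _ (imageSubobject_comp_le h f))) ?_
  rw [IsIso.inv_comp_eq, Subobject.ofLE_arrow]

theorem imageSubobject_epi_mono {A I B : C} (e : A ⟶ I) (m : I ⟶ B) [Epi e] [Mono m] :
    imageSubobject (e ≫ m) = Subobject.mk m := by
  rw [imageSubobject_epi_comp, imageSubobject_mono]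

theorem epi_of_imageSubobject_eq_mk {A I B : C} (a : A ⟶ I) (m : I ⟶ B) [Mono m]
    (h : imageSubobject (a ≫ m) = Subobject.mk m) : Epi a := by
  have e : a = factorThruImageSubobject (a ≫ m) ≫ (Subobject.isoOfEqMk _ m h).hom := by
    rw [← cancel_mono m, Category.assoc, Subobject.isoOfEqMk_hom, Subobject.ofLEMk_comp,
      imageSubobject_arrow_comp]
  rw [e]
  infer_instance

/-- `f ≫ π = 0` with `π` a cokernel of `g` implies `image f ≤ image g`. -/
theorem imageSubobject_le_of_comp_cokernel_eq_zero {A A' B : C} (f : A ⟶ B) (g : A' ⟶ B)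
    (h : f ≫ cokernel.π g = 0) : imageSubobject f ≤ imageSubobject g := by
  have e : imageSubobject g = kernelSubobject (cokernel.π g) :=
    (ShortComplex.mk g (cokernel.π g) (cokernel.condition g)).exact_iff_image_eq_kernel.mp
      (ShortComplex.exact_of_g_is_cokernel _ (cokernelIsCokernel g))
  rw [e]
  exact image_le_kernel f _ h

theorem le_of_comp_isCokernel {A A' B Q : C}
    (f : A ⟶ B) (g : A' ⟶ B) (π : B ⟶ Q) (w : g ≫ π = 0)
    (hπ : IsColimit (CokernelCofork.ofπ π w)) (h : f ≫ π = 0) :
    imageSubobject f ≤ imageSubobject g := by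
  have e : imageSubobject g = kernelSubobject π :=
    (ShortComplex.mk g π w).exact_iff_image_eq_kernel.mp
      (ShortComplex.exact_of_g_is_cokernel _ hπ)
  rw [e]
  exact image_le_kernel f π h

end Img

section UI
variable {C : Type u} [Category.{v} C] [Abelian C]

/-- The system of universal images, assuming uniform Mittag-Leffler with shift `r`. -/
noncomputable def univImage (r : ℕ) (X : ARSys.PS C) : ARSys.PS C :=
  Abelian.image ((sigma r).app X)

noncomputable def univImageι (r : ℕ) (X : ARSys.PS C) : univImage r X ⟶ X :=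
  Abelian.image.ι ((sigma r).app X)

noncomputable def univImageE (r : ℕ) (X : ARSys.PS C) : (ARSys.shift C r).obj X ⟶ univImage r X :=
  Abelian.factorThruImage ((sigma r).app X)

instance (r : ℕ) (X : ARSys.PS C) : Mono (univImageι r X) := by
  unfold univImageι; infer_instance

instance (r : ℕ) (X : ARSys.PS C) : Epi (univImageE r X) := by
  unfold univImageE; infer_instance

instance (r : ℕ) (X : ARSys.PS C) (n : ℕᵒᵖ) : Mono ((univImageι r X).app n) := inferInstance

instance (r : ℕ) (X : ARSys.PS C) (n : ℕᵒᵖ) : Epi ((univImageE r X).app n) := inferInstance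

theorem univImage_fac (r : ℕ) (X : ARSys.PS C) :
    univImageE r X ≫ univImageι r X = (sigma r).app X :=
  Abelian.image.fac _

theorem univImage_fac_app (r : ℕ) (X : ARSys.PS C) (n : ℕ) :
    (univImageE r X).app (op n) ≫ (univImageι r X).app (op n) = ARSys.shiftMap X r n := by
  rw [← NatTrans.comp_app, univImage_fac]
  rfl

theorem imageSubobject_univImageι (r : ℕ) (X : ARSys.PS C) (n : ℕ) :
    imageSubobject ((univImageι r X).app (op n)) = imageSubobject (ARSys.shiftMap X r n) := by
  rw [← univImage_fac_app, imageSubobject_epi_comp]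

theorem isARIso_univImageι (r : ℕ) (X : ARSys.PS C) : ARSys.IsARIso (univImageι r X) := by
  refine isARIso_of_inv _ r (univImageE r X) (univImage_fac_app r X) ?_
  intro n
  rw [← cancel_mono ((univImageι r X).app (op n)), Category.assoc, univImage_fac_app]
  exact (tr_nat (univImageι r X) (Nat.le_add_right n r)).symm

theorem imageSubobject_tr_of_mlar (X : ARSys.PS C) (r : ℕ)
    (hr : ∀ s : ℕ, r ≤ s → ∀ n : ℕ,
      imageSubobject (ARSys.shiftMap X s n) = imageSubobject (ARSys.shiftMap X r n))
    (n k : ℕ) (h : n ≤ k) (hk : n + r ≤ k) :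
    imageSubobject (ARSys.tr X h) = imageSubobject (ARSys.shiftMap X r n) := by
  obtain ⟨s, rfl⟩ : ∃ s, k = n + s := ⟨k - n, by omega⟩
  exact hr s (by omega) n

theorem isStrict_univImage (X : ARSys.PS C) (r : ℕ)
    (hr : ∀ s : ℕ, r ≤ s → ∀ n : ℕ,
      imageSubobject (ARSys.shiftMap X s n) = imageSubobject (ARSys.shiftMap X r n)) :
    ARSys.IsStrict (univImage r X) := by
  intro n m h
  apply epi_of_imageSubobject_eq_mk _ ((univImageι r X).app (op n))
  have e1 : (univImageE r X).app (op m) ≫ ARSys.tr (univImage r X) h ≫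
      (univImageι r X).app (op n) = ARSys.tr X (show n ≤ m + r by omega) := by
    rw [tr_nat (univImageι r X) h, ← Category.assoc, univImage_fac_app]
    unfold ARSys.shiftMap
    rw [tr_comp]
  rw [← imageSubobject_epi_comp ((univImageE r X).app (op m)), e1,
    imageSubobject_tr_of_mlar X r hr n (m + r) _ (by omega), ← imageSubobject_univImageι,
    imageSubobject_mono]

theorem imageSubobject_shiftMap_le (X : ARSys.PS C) (n : ℕ) {r s : ℕ} (h : r ≤ s) :
    imageSubobject (ARSys.shiftMap X s n) ≤ imageSubobject (ARSys.shiftMap X r n) := by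
  have e : ARSys.shiftMap X s n = ARSys.tr X (show n + r ≤ n + s by omega) ≫ ARSys.shiftMap X r n := by
    unfold ARSys.shiftMap
    rw [tr_comp]
  rw [e]
  exact imageSubobject_comp_le _ _

/-- image of `X_{n+r} ⟶ X_n` is contained in the image of `ι_n` if `coker ι` is killed by `r`. -/
theorem imageSubobject_shiftMap_le_of_cokernel_null {X' X : ARSys.PS C} (ι : X' ⟶ X) (r : ℕ)
    (hr : ∀ n : ℕ, ARSys.shiftMap (cokernel ι) r n = 0) (n : ℕ) :
    imageSubobject (ARSys.shiftMap X r n) ≤ imageSubobject (ι.app (op n)) := by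
  have hπ : IsColimit (CokernelCofork.ofπ ((cokernel.π ι).app (op n))
      (by rw [← NatTrans.comp_app, cokernel.condition]; rfl)) :=
    CokernelCofork.mapIsColimit _ (cokernelIsCokernel ι) ((evaluation ℕᵒᵖ C).obj (op n))
  refine le_of_comp_isCokernel _ _ _ _ hπ ?_
  have hnat : ARSys.tr X (Nat.le_add_right n r) ≫ (cokernel.π ι).app (op n) =
      (cokernel.π ι).app (op (n + r)) ≫ ARSys.tr (cokernel ι) (Nat.le_add_right n r) :=
    ((cokernel.π ι).naturality _)
  have hr' : ARSys.tr (cokernel ι) (Nat.le_add_right n r) = 0 := hr n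
  unfold ARSys.shiftMap
  rw [hnat, hr', comp_zero]

theorem isMLAR_of_univ {X' X : ARSys.PS C} (ι : X' ⟶ X)
    (himg : ∀ n : ℕ, ∃ r₀ : ℕ, ∀ r : ℕ, r₀ ≤ r →
      imageSubobject (ι.app (op n)) = imageSubobject (ARSys.shiftMap X r n))
    (hnull : ARSys.IsARNull (cokernel ι)) : ARSys.IsMLAR X := by
  obtain ⟨r, hr⟩ := hnull
  refine ⟨r, fun s hs n => le_antisymm (imageSubobject_shiftMap_le X n hs) ?_⟩
  refine (imageSubobject_shiftMap_le_of_cokernel_null ι r hr n).trans ?_
  obtain ⟨r₀, h₀⟩ := himg n
  rw [h₀ (max r₀ s) (le_max_left _ _)]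
  exact imageSubobject_shiftMap_le X n (le_max_right _ _)

theorem isMLAR_iff_univ (X : ARSys.PS C) :
    ARSys.IsMLAR X ↔ (ARSys.IsML X ∧ ∃ (X' : ARSys.PS C) (ι : X' ⟶ X), Mono ι ∧
      (∀ n : ℕ, ∃ r₀ : ℕ, ∀ r : ℕ, r₀ ≤ r →
        imageSubobject (ι.app (op n)) = imageSubobject (ARSys.shiftMap X r n)) ∧
      ARSys.IsARNull (cokernel ι)) := by
  constructor
  · rintro ⟨r, hr⟩
    refine ⟨fun n => ⟨r, fun s hs => hr s hs n⟩, univImage r X, univImageι r X, inferInstance,
      fun n => ⟨r, fun r' h => ?_⟩, (isARIso_univImageι r X).2⟩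
    rw [imageSubobject_univImageι, hr r' h n]
  · rintro ⟨-, X', ι, -, himg, hnull⟩
    exact isMLAR_of_univ ι himg hnull

end UI

end Groth.Agent.Lib.Helper17.ARSys3
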