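import Groth.Agent.Lib.Helper17ARSys1
import Groth.Agent.Lib.Helper4ARSys

/-! Projective systems up to translation, part 2 (helper17). -/
set_option autoImplicit false
set_option backward.isDefEq.respectTransparency false
set_option backward.isDefEq.respectTransparency.types false
universe w v u
open CategoryTheory CategoryTheory.Limits Opposite

namespace Groth.Agent.Lib.Helper17.ARSys2

open Groth.Agent.Lib.Helper17.ARSys1

variable {C : Type u} [Category.{v} C] [Abelian C]

/-- If `σ_r(Y) ≫ g = v` componentwise with all `shiftMap Y r n` epi and `v` an AR-iso then `g` is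
an AR-iso. -/
theorem isARIso_of_shift_comp {X Y : ARSys.PS C} (r : ℕ) (v : (ARSys.shift C r).obj Y ⟶ X)
    (g : Y ⟶ X) (hg : ∀ n : ℕ, v.app (op n) = ARSys.shiftMap Y r n ≫ g.app (op n))
    (hepi : ∀ n : ℕ, Epi (ARSys.shiftMap Y r n)) (hv : ARSys.IsARIso v) : ARSys.IsARIso g := by
  obtain ⟨s, w, h1, h2⟩ := exists_inv_of_isARIso v hv
  refine isARIso_of_inv g s (w ≫ (sigma r).app Y) ?_ ?_
  · intro n
    have e1 : (w ≫ (sigma r).app Y).app (op n) = w.app (op n) ≫ ARSys.shiftMap Y r n := rfl
    rw [e1, Category.assoc, ← hg n, h1 n]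
  · intro n
    have e1 : (w ≫ (sigma r).app Y).app (op n) = w.app (op n) ≫ ARSys.shiftMap Y r n := rfl
    have := hepi (n + s)
    rw [← cancel_epi (ARSys.shiftMap Y r (n + s)), e1, ← Category.assoc, ← hg (n + s),
      ← Category.assoc]
    have h2' : v.app (op (n + s)) ≫ w.app (op n) =
        ARSys.tr Y (show n + r ≤ n + s + r by omega) := h2 n
    rw [h2']
    unfold ARSys.shiftMap
    rw [tr_comp, tr_comp]

end Groth.Agent.Lib.Helper17.ARSys2
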