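import Groth.Agent.Lib.Helper17ARSys3

/-! Projective systems up to translation, part 8: extensions of uniformly Mittag-Leffler systems
(helper17). -/
set_option autoImplicit false
set_option backward.isDefEq.respectTransparency false
set_option backward.isDefEq.respectTransparency.types false
universe w v u
open CategoryTheory CategoryTheory.Limits Opposite

namespace Groth.Agent.Lib.Helper17.ARSys8

open Groth.Agent.Lib.Helper17.ARSys1 Groth.Agent.Lib.Helper17.ARSys3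

section Img
variable {C : Type u} [Category.{v} C] [Abelian C]

theorem exists_lift_of_imageSubobject_le {A A' B : C} (f : A ⟶ B) (g : A' ⟶ B)
    (h : imageSubobject f ≤ imageSubobject g) {T : C} (x : T ⟶ A) :
    ∃ (T' : C) (π : T' ⟶ T) (_ : Epi π) (y : T' ⟶ A'), π ≫ x ≫ f = y ≫ g := by
  obtain ⟨T', π, hπ, y, hy⟩ := surjective_up_to_refinements_of_epi (factorThruImageSubobject g)
    (x ≫ factorThruImageSubobject f ≫ Subobject.ofLE _ _ h)
  refine ⟨T', π, hπ, y, ?_⟩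
  have := congrArg (fun t => t ≫ (imageSubobject g).arrow) hy
  simp only [Category.assoc, Subobject.ofLE_arrow, imageSubobject_arrow_comp] at this
  exact this

theorem imageSubobject_le_of_lift {A A' B : C} (f : A ⟶ B) (g : A' ⟶ B)
    {T : C} (π : T ⟶ A) [Epi π] (y : T ⟶ A') (h : π ≫ f = y ≫ g) :
    imageSubobject f ≤ imageSubobject g := by
  rw [← imageSubobject_epi_comp π f, h]
  exact imageSubobject_comp_le _ _

end Img

section Ext
variable {C : Type u} [Category.{v} C] [Abelian C]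

theorem isMLAR_X₂ (S : ShortComplex (ARSys.PS C)) (hS : S.ShortExact)
    (hX : ARSys.IsMLAR S.X₁) (hZ : ARSys.IsMLAR S.X₃) : ARSys.IsMLAR S.X₂ := by
  obtain ⟨r₁, h₁⟩ := hX
  obtain ⟨r₃, h₃⟩ := hZ
  refine ⟨r₁ + r₃, fun s hs n => le_antisymm (imageSubobject_shiftMap_le S.X₂ n hs) ?_⟩
  have hmono : ∀ k, Mono (S.f.app (op k)) := fun k => (Groth.Agent.Lib.Helper4.AR.shortExact_app S hS k).mono_f
  have hepi : ∀ k, Epi (S.g.app (op k)) := fun k => (Groth.Agent.Lib.Helper4.AR.shortExact_app S hS k).epi_g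
  -- step 1
  have e3 : imageSubobject (ARSys.tr S.X₃ (show n + r₁ ≤ n + (r₁ + r₃) by omega)) =
      imageSubobject (ARSys.tr S.X₃ (show n + r₁ ≤ n + s by omega)) := by
    rw [imageSubobject_tr_of_mlar S.X₃ r₃ h₃ (n + r₁) (n + (r₁ + r₃)) _ (by omega),
      imageSubobject_tr_of_mlar S.X₃ r₃ h₃ (n + r₁) (n + s) _ (by omega)]
  obtain ⟨T₁, π₁, hπ₁, z, hz⟩ := exists_lift_of_imageSubobject_le _ _ e3.le
    (S.g.app (op (n + (r₁ + r₃))))
  -- step 2
  have := hepi (n + s)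
  obtain ⟨T₂, π₂, hπ₂, x', hx'⟩ := surjective_up_to_refinements_of_epi (S.g.app (op (n + s))) z
  -- step 3
  set d : T₂ ⟶ S.X₂.obj (op (n + r₁)) :=
    π₂ ≫ π₁ ≫ ARSys.tr S.X₂ (show n + r₁ ≤ n + (r₁ + r₃) by omega) -
      x' ≫ ARSys.tr S.X₂ (show n + r₁ ≤ n + s by omega) with hd
  have hdg : d ≫ S.g.app (op (n + r₁)) = 0 := by
    rw [hd, Preadditive.sub_comp, Category.assoc, Category.assoc, Category.assoc,
      tr_nat S.g, tr_nat S.g, hz, ← Category.assoc x', ← hx', Category.assoc, sub_self]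
  have hex := (Groth.Agent.Lib.Helper4.AR.shortExact_app S hS (n + r₁)).exact
  have : Mono (S.map ((evaluation ℕᵒᵖ C).obj (op (n + r₁)))).f := hmono (n + r₁)
  obtain ⟨w, hw⟩ : ∃ w : T₂ ⟶ S.X₁.obj (op (n + r₁)), w ≫ S.f.app (op (n + r₁)) = d :=
    ⟨hex.lift d hdg, hex.lift_f d hdg⟩
  -- step 4
  have e1 : imageSubobject (ARSys.shiftMap S.X₁ r₁ n) =
      imageSubobject (ARSys.tr S.X₁ (show n ≤ n + s by omega)) :=
    (imageSubobject_tr_of_mlar S.X₁ r₁ h₁ n (n + s) _ (by omega)).symm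
  obtain ⟨T₃, π₃, hπ₃, w', hw'0⟩ := exists_lift_of_imageSubobject_le _ _ e1.le w
  have hw' : π₃ ≫ w ≫ ARSys.tr S.X₁ (Nat.le_add_right n r₁) =
      w' ≫ ARSys.tr S.X₁ (show n ≤ n + s by omega) := hw'0
  -- step 5
  have hπ : Epi (π₃ ≫ π₂ ≫ π₁) := inferInstance
  refine imageSubobject_le_of_lift _ _ (π₃ ≫ π₂ ≫ π₁) (π₃ ≫ x' + w' ≫ S.f.app (op (n + s))) ?_
  have hw'' : w' ≫ ARSys.tr S.X₁ (show n ≤ n + s by omega) ≫ S.f.app (op n) =
      π₃ ≫ d ≫ ARSys.tr S.X₂ (show n ≤ n + r₁ by omega) := by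
    rw [← Category.assoc, ← hw', Category.assoc, Category.assoc]
    rw [tr_nat S.f, ← Category.assoc w, hw]
  change (π₃ ≫ π₂ ≫ π₁) ≫ ARSys.tr S.X₂ (Nat.le_add_right n (r₁ + r₃)) =
    (π₃ ≫ x' + w' ≫ S.f.app (op (n + s))) ≫ ARSys.tr S.X₂ (Nat.le_add_right n s)
  rw [Preadditive.add_comp, Category.assoc, Category.assoc w', ← tr_nat S.f, hw'', hd,
    Preadditive.sub_comp, Preadditive.comp_sub]
  simp only [Category.assoc, tr_comp]
  abel

end Ext

end Groth.Agent.Lib.Helper17.ARSys8
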