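import Groth.Agent.Lib.Helper17RDTri1
import Groth.Agent.Lib.Helper23Leray

/-!
# Leray's acyclicity lemma for unbounded total right derived functors (helper17)

`F : C ⥤ D` left exact, `C` with enough injectives.  For a bounded below complex `K` of
`F`-acyclic objects, the unit `Q(F K) ⟶ RΦ(Q K)` of any (pointwise) total right derived functor
of `F` on the unbounded derived category is an isomorphism.  The homological-algebra part is
helper23's `Helper23Leray`.
-/

set_option autoImplicit false

universe w w' v v' u u'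

open CategoryTheory CategoryTheory.Limits

namespace Groth.Agent.Lib.Helper17.AcycPush

open HomologicalComplex Groth.Agent.S12229 Groth.Agent.Lib.Helper23Bridge
  Groth.Agent.Lib.Helper23Acyclic Groth.Agent.Lib.Helper23Leray

variable {C : Type u} [Category.{v} C] [Abelian C] [HasDerivedCategory.{w} C]
    [EnoughInjectives C] {D : Type u'} [Category.{v'} D] [Abelian D] [HasDerivedCategory.{w'} D]
    (F : C ⥤ D) [F.Additive]

open CochainComplex.Plus.modelCategoryQuillen in
/-- a bounded below complex of acyclic objects has a quasi-isomorphism to a bounded below complex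
of injectives which `F` maps to a quasi-isomorphism. -/
theorem exists_resolution_quasiIso_map [PreservesFiniteLimits F] (K : CochainComplex C ℤ) (n : ℤ)
    [K.IsStrictlyGE n] (hac : ∀ m, IsIso (τ F (sgl (K.X m)))) :
    ∃ (J : CochainComplex C ℤ) (q : K ⟶ J), QuasiIso q ∧ (∀ m, Injective (J.X m)) ∧
      J.IsStrictlyGE (n - 1) ∧ QuasiIso ((F.mapHomologicalComplex (ComplexShape.up ℤ)).map q) := by
  obtain ⟨J, q, hqm, hq, hJ, hJb⟩ := exists_mono_quasiIso_injective K (n - 1) n
  let S : ShortComplex (CochainComplex C ℤ) :=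
    ShortComplex.mk q (cokernel.π q) (cokernel.condition q)
  have hS : S.ShortExact :=
    { exact := ShortComplex.exact_cokernel q, mono_f := hqm,
      epi_g := inferInstanceAs (Epi (cokernel.π q)) }
  have hQb : (cokernel q).IsStrictlyGE (n - 1) := by
    rw [CochainComplex.isStrictlyGE_iff]
    intro i hi
    rw [IsZero.iff_id_eq_zero, ← cancel_epi ((cokernel.π q).f i)]
    exact (J.isZero_of_isStrictlyGE (n - 1) i hi).eq_of_src _ _
  have hQ : (cokernel q).Acyclic := hS.acyclic_X₃ hq
  have hk := (HomologicalComplex.shortExact_iff_degreewise_shortExact S).1 hS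
  have hFk : ∀ m, ((S.map (HomologicalComplex.eval C (ComplexShape.up ℤ) m)).map F).ShortExact :=
    fun m => shortExact_map_of_acyclic F _ (hk m) (hac m)
  have hQac : ∀ m, IsIso (τ F (sgl ((cokernel q).X m))) := fun m => by
    have : Injective (J.X m) := hJ m
    exact (twoOfThree_obj F _ (hk m) (hFk m)).1 (hac m) (isIso_τ_sgl_of_injective F (J.X m))
  have hFQ := acyclic_map_of_acyclic F (cokernel q) (n - 1) hQ hQac
  have hFS : (S.map (F.mapHomologicalComplex (ComplexShape.up ℤ))).ShortExact :=
    HomologicalComplex.shortExact_of_degreewise_shortExact _ (fun m => hFk m)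
  have hFq : QuasiIso ((F.mapHomologicalComplex (ComplexShape.up ℤ)).map q) :=
    quasiIso_f_of_acyclic hFS hFQ
  exact ⟨J, q, hq, hJ, hJb, hFq⟩

section Unit

variable (RΦ : DerivedCategory C ⥤ DerivedCategory D)
  (α : (F.mapHomotopyCategory (ComplexShape.up ℤ) ⋙ DerivedCategory.Qh) ⟶
    DerivedCategory.Qh ⋙ RΦ)
  [RΦ.IsRightDerivedFunctor α (HomotopyCategory.quasiIso C (ComplexShape.up ℤ))]
  [(F.mapHomotopyCategory (ComplexShape.up ℤ) ⋙ DerivedCategory.Qh).HasPointwiseRightDerivedFunctor
    (HomotopyCategory.quasiIso C (ComplexShape.up ℤ))]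

/-- **Leray's acyclicity lemma**, unbounded derived functor, unit form. -/
theorem isIso_unit_of_acyclic [PreservesFiniteLimits F] (K : CochainComplex C ℤ) (n : ℤ)
    [K.IsStrictlyGE n]
    (hac : ∀ (m : ℤ) (i : ℕ), 0 < i → IsZero ((F.rightDerived i).obj (K.X m))) :
    IsIso (α.app ((HomotopyCategory.quotient C (ComplexShape.up ℤ)).obj K)) := by
  obtain ⟨J, q, hq, hJ, hJb, hFq⟩ := exists_resolution_quasiIso_map F K n
    (fun m => (acyclic_iff F (K.X m)).2 (hac m))
  haveI : J.IsKInjective := CochainComplex.isKInjective_of_injective J (n - 1)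
  have hJiso := Groth.Agent.Lib.Helper17.RDTri.isIso_app_of_isKInjective
    (F.mapHomotopyCategory (ComplexShape.up ℤ) ⋙ DerivedCategory.Qh) RΦ α J
  have hnat := α.naturality ((HomotopyCategory.quotient C (ComplexShape.up ℤ)).map q)
  have h1 : IsIso ((F.mapHomotopyCategory (ComplexShape.up ℤ) ⋙ DerivedCategory.Qh).map
      ((HomotopyCategory.quotient C (ComplexShape.up ℤ)).map q)) := by
    have h2 : IsIso ((DerivedCategory.Q : _ ⥤ DerivedCategory D).map
        ((F.mapHomologicalComplex (ComplexShape.up ℤ)).map q)) := by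
      rw [DerivedCategory.isIso_Q_map_iff_quasiIso]; exact hFq
    exact h2
  have h3 : IsIso ((DerivedCategory.Qh ⋙ RΦ).map
      ((HomotopyCategory.quotient C (ComplexShape.up ℤ)).map q)) := by
    have h4 : IsIso ((DerivedCategory.Q : _ ⥤ DerivedCategory C).map q) := by
      rw [DerivedCategory.isIso_Q_map_iff_quasiIso]; exact hq
    have h5 : IsIso (DerivedCategory.Qh.map
        ((HomotopyCategory.quotient C (ComplexShape.up ℤ)).map q)) := h4
    rw [Functor.comp_map]
    infer_instance
  have h6 : IsIso (α.app ((HomotopyCategory.quotient C (ComplexShape.up ℤ)).obj K) ≫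
      (DerivedCategory.Qh ⋙ RΦ).map ((HomotopyCategory.quotient C (ComplexShape.up ℤ)).map q)) := by
    rw [← hnat]; infer_instance
  exact IsIso.of_isIso_comp_right _
    ((DerivedCategory.Qh ⋙ RΦ).map ((HomotopyCategory.quotient C (ComplexShape.up ℤ)).map q))

end Unit

end Groth.Agent.Lib.Helper17.AcycPush
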