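import Mathlib.Algebra.Homology.HomologicalComplexAbelian
import Mathlib.Algebra.Homology.HomologySequence
import Mathlib.Algebra.Homology.QuasiIso
import Mathlib.Algebra.Homology.Embedding.CochainComplex

/-!
# Brutal truncation `σ_{≥ m} K ⟶ K` and its cokernel (helper17)

(the construction of `sigmaGE` follows helper1's `Helper1BKF15`; it is repeated here so that this
file only depends on Mathlib.)
-/

set_option autoImplicit false

universe v u

open CategoryTheory CategoryTheory.Limits HomologicalComplex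

namespace Groth.Agent.Lib.Helper17.Brutal

variable {A : Type u} [Category.{v} A] [Abelian A] (K : CochainComplex A ℤ) (m : ℤ)

/-- the endomorphism of `K^q` whose kernel is the `q`-th term of the brutal truncation -/
noncomputable def te (q : ℤ) : K.X q ⟶ K.X q := if m ≤ q then 0 else 𝟙 _

lemma te_of_le {q : ℤ} (h : m ≤ q) : te K m q = 0 := if_pos h

lemma te_of_lt {q : ℤ} (h : q < m) : te K m q = 𝟙 _ := if_neg (by omega)

lemma kernel_ι_te_of_lt {q : ℤ} (h : q < m) : kernel.ι (te K m q) = 0 := by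
  exact (Category.comp_id _).symm.trans
    ((congrArg (fun t => kernel.ι (te K m q) ≫ t) (te_of_lt K m h)).symm.trans
      (kernel.condition _))

lemma ι_d_te (q q' : ℤ) : kernel.ι (te K m q) ≫ K.d q q' ≫ te K m q' = 0 := by
  by_cases hq' : m ≤ q'
  · rw [te_of_le K m hq', comp_zero, comp_zero]
  · by_cases hr : q + 1 = q'
    · rw [kernel_ι_te_of_lt K m (by omega), zero_comp]
    · rw [K.shape _ _ hr, zero_comp, comp_zero]

/-- the brutal truncation `σ_{≥ m} K` -/
noncomputable def sigmaGE : CochainComplex A ℤ where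
  X q := kernel (te K m q)
  d q q' := kernel.lift _ (kernel.ι (te K m q) ≫ K.d q q')
    (by rw [Category.assoc]; exact ι_d_te K m q q')
  shape q q' h := by
    rw [← cancel_mono (kernel.ι _), kernel.lift_ι, K.shape _ _ h, comp_zero, zero_comp]
  d_comp_d' q q' q'' _ _ := by
    rw [← cancel_mono (kernel.ι _), Category.assoc, kernel.lift_ι, kernel.lift_ι_assoc,
      Category.assoc, K.d_comp_d, comp_zero, zero_comp]

/-- the inclusion `σ_{≥ m} K ⟶ K` -/
noncomputable def sigmaGEι : sigmaGE K m ⟶ K where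
  f q := kernel.ι _
  comm' _ _ _ := by
    dsimp [sigmaGE]
    rw [kernel.lift_ι]

instance mono_sigmaGEι : Mono (sigmaGEι K m) :=
  mono_of_mono_f _ (fun _ => inferInstanceAs (Mono (kernel.ι _)))

lemma isIso_sigmaGEι_f {q : ℤ} (h : m ≤ q) : IsIso ((sigmaGEι K m).f q) :=
  kernel.ι_of_zero (te_of_le K m h)

lemma isZero_sigmaGE_X {q : ℤ} (h : q < m) : IsZero ((sigmaGE K m).X q) := by
  have : Mono (te K m q) := by rw [te_of_lt K m h]; infer_instance
  exact isZero_kernel_of_mono _

instance isStrictlyGE_sigmaGE : (sigmaGE K m).IsStrictlyGE m := by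
  rw [CochainComplex.isStrictlyGE_iff]
  intro i hi
  exact isZero_sigmaGE_X K m hi

/-- the terms of `σ_{≥ m} K` in degrees `≥ m`. -/
noncomputable def sigmaGEXIso {q : ℤ} (h : m ≤ q) : (sigmaGE K m).X q ≅ K.X q :=
  haveI := isIso_sigmaGEι_f K m h
  asIso ((sigmaGEι K m).f q)

/-- the quotient `σ_{< m} K = K / σ_{≥ m} K`. -/
noncomputable abbrev sigmaLT : CochainComplex A ℤ := cokernel (sigmaGEι K m)

/-- the projection `K ⟶ σ_{< m} K`. -/
noncomputable abbrev sigmaLTπ : K ⟶ sigmaLT K m := cokernel.π (sigmaGEι K m)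

/-- the short complex `0 ⟶ σ_{≥ m} K ⟶ K ⟶ σ_{< m} K ⟶ 0`. -/
noncomputable abbrev sc : ShortComplex (CochainComplex A ℤ) :=
  ShortComplex.mk (sigmaGEι K m) (sigmaLTπ K m) (cokernel.condition _)

lemma sc_shortExact : (sc K m).ShortExact :=
  { exact := ShortComplex.exact_cokernel _
    mono_f := mono_sigmaGEι K m
    epi_g := inferInstanceAs (Epi (cokernel.π _)) }

lemma isZero_sigmaLT_X {q : ℤ} (h : m ≤ q) : IsZero ((sigmaLT K m).X q) := by
  have hk := (HomologicalComplex.shortExact_iff_degreewise_shortExact (sc K m)).1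
    (sc_shortExact K m) q
  haveI : IsIso ((sc K m).map (HomologicalComplex.eval A (ComplexShape.up ℤ) q)).f :=
    isIso_sigmaGEι_f K m h
  exact hk.isIso_f_iff.1 inferInstance

lemma isIso_sigmaLTπ_f {q : ℤ} (h : q < m) : IsIso ((sigmaLTπ K m).f q) := by
  have hk := (HomologicalComplex.shortExact_iff_degreewise_shortExact (sc K m)).1
    (sc_shortExact K m) q
  exact hk.isIso_g_iff.2 (isZero_sigmaGE_X K m h)

instance isStrictlyLE_sigmaLT : (sigmaLT K m).IsStrictlyLE (m - 1) := by
  rw [CochainComplex.isStrictlyLE_iff]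
  intro i hi
  exact isZero_sigmaLT_X K m (by omega)

/-- the terms of `σ_{< m} K` in degrees `< m`. -/
noncomputable def sigmaLTXIso {q : ℤ} (h : q < m) : K.X q ≅ (sigmaLT K m).X q :=
  haveI := isIso_sigmaLTπ_f K m h
  asIso ((sigmaLTπ K m).f q)

section

variable {K}

/-- a morphism of complexes which is an isomorphism in degrees `≥ k` is a quasi-isomorphism in
degrees `> k`. -/
lemma isIso_homologyMap_of_isIso_f {L : CochainComplex A ℤ} (φ : K ⟶ L) (k n : ℤ) (hn : k < n)
    (h : ∀ q, k ≤ q → IsIso (φ.f q)) : IsIso (homologyMap φ n) := by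
  rw [← quasiIsoAt_iff_isIso_homologyMap,
    quasiIsoAt_iff' φ (n - 1) n (n + 1) (by simp) (by simp)]
  haveI : IsIso ((shortComplexFunctor' A (ComplexShape.up ℤ) (n - 1) n (n + 1)).map φ).τ₁ :=
    h (n - 1) (by omega)
  haveI : IsIso ((shortComplexFunctor' A (ComplexShape.up ℤ) (n - 1) n (n + 1)).map φ).τ₂ :=
    h n (by omega)
  haveI : IsIso ((shortComplexFunctor' A (ComplexShape.up ℤ) (n - 1) n (n + 1)).map φ).τ₃ :=
    h (n + 1) (by omega)
  exact ShortComplex.quasiIso_of_epi_of_isIso_of_mono _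

end

end Groth.Agent.Lib.Helper17.Brutal
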