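import Groth.Agent.Lib.Helper17RpushBound1

/-!
# Uniform vanishing bound for `Rf_*` on `D_QCoh^{≤ a}`, local on the base (helper17)

Same Mayer–Vietoris induction as `Helper17RpushBound1`, keeping track of the amplitude `a`, and
a version over an affine open of a not necessarily quasi-compact base.
-/

set_option autoImplicit false
set_option linter.style.haveILetI false
set_option maxHeartbeats 400000

universe u

open CategoryTheory CategoryTheory.Limits AlgebraicGeometry TopologicalSpace Opposite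
  DerivedCategory Pretriangulated

attribute [local instance] HasDerivedCategory.standard

namespace Groth.Agent.Lib.Helper17.AffPush

open Groth.Agent.Lib.Helper17.MV Groth.Agent.Lib.Helper23.QCohLocal Groth.Agent.Lib.Helper17.QCPush

attribute [local instance] hasRpush

section

variable {X S : Scheme.{u}}

/-- the inductive property, with a bound and an amplitude. -/
def PIndA (f : X ⟶ S) (U : X.Opens) : Prop :=
  ∃ N : ℤ, ∀ (Z : Scheme.{u}) (i : Z ⟶ X) [IsOpenImmersion i], i.opensRange = U →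
    ∀ (K : DCoh.D Z), DCoh.IsQCohD K → ∀ a : ℤ, K.IsLE a → ∀ m : ℤ, N + a ≤ m →
      IsZero (DCoh.HD ((DCoh.Rpush (i ≫ f)).obj K) m)

theorem pIndA_affine [IsAffine S] (f : X ⟶ S) (U : X.Opens) (hU : IsAffineOpen U) :
    PIndA f U := by
  refine ⟨1, ?_⟩
  intro Z i _ hi K hK a hLE m hm
  haveI : IsAffine Z := by
    have h : IsAffineOpen i.opensRange := hi ▸ hU
    haveI : IsAffine (i.opensRange : Scheme.{u}) := h
    exact IsAffine.of_isIso i.isoOpensRange.hom
  obtain ⟨e⟩ := nonempty_HD_rpush_iso (i ≫ f) K hK m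
  haveI := hLE
  exact IsZero.of_iso ((Scheme.Modules.pushforward (i ≫ f)).map_isZero
    (isZero_of_isLE K a m (by omega))) e

theorem pIndA_sup (f : X ⟶ S) (U V : X.Opens) (hU : PIndA f U) (hV : PIndA f V)
    (hUV : PIndA f (U ⊓ V)) : PIndA f (U ⊔ V) := by
  obtain ⟨NU, hU⟩ := hU
  obtain ⟨NV, hV⟩ := hV
  obtain ⟨NUV, hUV⟩ := hUV
  refine ⟨max (max NU NV) (NUV + 1), ?_⟩
  intro Z i _ hi K hK a hLE m hm
  have hcov : i ⁻¹ᵁ U ⊔ i ⁻¹ᵁ V = ⊤ := by
    rw [← Scheme.Hom.preimage_sup, ← hi, Scheme.Hom.preimage_opensRange]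
  obtain ⟨a', b, c, hT⟩ := mv_triangle_push (i ≫ f) (i ⁻¹ᵁ U) (i ⁻¹ᵁ V) hcov K
  have key : ∀ (W : X.Opens) (N : ℤ), W ≤ U ⊔ V →
      (∀ (Z : Scheme.{u}) (i : Z ⟶ X) [IsOpenImmersion i], i.opensRange = W →
        ∀ (K : DCoh.D Z), DCoh.IsQCohD K → ∀ a : ℤ, K.IsLE a → ∀ m : ℤ, N + a ≤ m →
          IsZero (DCoh.HD ((DCoh.Rpush (i ≫ f)).obj K) m)) → ∀ m : ℤ, N + a ≤ m →
      IsZero (DCoh.HD ((DCoh.Rpush ((i ⁻¹ᵁ W).ι ≫ i ≫ f)).obj
        ((DCoh.restrictD (i ⁻¹ᵁ W).ι).obj K)) m) := by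
    intro W N hW hP m hm
    have hr : ((i ⁻¹ᵁ W).ι ≫ i).opensRange = W := by
      rw [Scheme.Hom.opensRange_comp, Scheme.Opens.opensRange_ι,
        Scheme.Hom.image_preimage_eq_opensRange_inf, hi]
      exact inf_eq_right.2 hW
    have h1 := hP _ ((i ⁻¹ᵁ W).ι ≫ i) hr ((DCoh.restrictD (i ⁻¹ᵁ W).ι).obj K)
      (isQCohD_restrictD' _ K hK) a (isLE_restrictD' _ K a hLE) m hm
    exact IsZero.of_iso h1 ((DerivedCategory.homologyFunctor _ m).mapIso
      (rpushCongr (Category.assoc _ _ _) _)).symm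
  have h1max : NU ≤ max (max NU NV) (NUV + 1) := (le_max_left _ _).trans (le_max_left _ _)
  have h2max : NV ≤ max (max NU NV) (NUV + 1) := (le_max_right _ _).trans (le_max_left _ _)
  have h3max : NUV + 1 ≤ max (max NU NV) (NUV + 1) := le_max_right _ _
  refine isZero_HD_obj₁ _ hT m ?_ ?_
  · have h1 := key U NU le_sup_left hU m (by omega)
    have h2 := key V NV le_sup_right hV m (by omega)
    haveI : PreservesBinaryBiproduct
        ((DCoh.Rpush ((i ⁻¹ᵁ U).ι ≫ i ≫ f)).obj ((DCoh.restrictD (i ⁻¹ᵁ U).ι).obj K))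
        ((DCoh.Rpush ((i ⁻¹ᵁ V).ι ≫ i ≫ f)).obj ((DCoh.restrictD (i ⁻¹ᵁ V).ι).obj K))
        (DerivedCategory.homologyFunctor S.Modules m) :=
      preservesBinaryBiproduct_of_preservesBinaryProduct _
    refine IsZero.of_iso ?_ ((DerivedCategory.homologyFunctor S.Modules m).mapBiprod _ _)
    rw [IsZero.iff_id_eq_zero]
    apply biprod.hom_ext
    · exact h1.eq_of_tgt _ _
    · exact h2.eq_of_tgt _ _
  · exact key (U ⊓ V) NUV (inf_le_left.trans le_sup_left) hUV (m - 1) (by omega)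

/-- bound for `S` affine and `X` quasi-compact quasi-separated. -/
theorem exists_boundA_of_isAffine [IsAffine S] [CompactSpace X] [QuasiSeparatedSpace X]
    (f : X ⟶ S) : ∃ N : ℤ, ∀ (K : DCoh.D X), DCoh.IsQCohD K → ∀ a : ℤ, K.IsLE a →
      ∀ m : ℤ, N + a ≤ m → IsZero (DCoh.HD ((DCoh.Rpush f).obj K) m) := by
  obtain ⟨N, h⟩ := Groth.Agent.S0015.result X (PIndA f) (pIndA_affine f)
    (fun U V _ _ hU hV hUV => pIndA_sup f U V hU hV hUV) ⊤ isCompact_univ
  refine ⟨N, fun K hK a hLE m hm => ?_⟩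
  have h1 := h X (𝟙 X) (Scheme.Hom.opensRange_of_isIso _) K hK a hLE m hm
  exact IsZero.of_iso h1 ((DerivedCategory.homologyFunctor _ m).mapIso
    (rpushCongr (Category.id_comp f) _)).symm

/-- bound over an affine open `V` of the base, `f` quasi-compact quasi-separated. -/
theorem exists_bound_local (f : X ⟶ S) [QuasiCompact f] [QuasiSeparated f] (V : S.Opens)
    (hV : IsAffineOpen V) :
    ∃ N : ℤ, ∀ (E : DCoh.D X), DCoh.IsQCohD E → ∀ a : ℤ, E.IsLE a → ∀ m : ℤ, N + a ≤ m →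
      IsZero ((Scheme.Modules.restrictFunctor V.ι).obj (DCoh.HD ((DCoh.Rpush f).obj E) m)) := by
  haveI : IsAffine (V : Scheme.{u}) := hV
  haveI : CompactSpace ((f ⁻¹ᵁ V : X.Opens) : Scheme.{u}) :=
    QuasiCompact.compactSpace_of_compactSpace (f ∣_ V)
  haveI : QuasiSeparatedSpace ((f ⁻¹ᵁ V : X.Opens) : Scheme.{u}) :=
    quasiSeparatedSpace_of_quasiSeparated (f ∣_ V)
  obtain ⟨N, hN⟩ := exists_boundA_of_isAffine (f ∣_ V)
  refine ⟨N, fun E hE a hLE m hm => ?_⟩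
  obtain ⟨e⟩ := Groth.Agent.Lib.Helper1.RpushRes.nonempty_rpush_restrict_iso f V
  have e1 := e.app E
  have h2 := hN ((DCoh.restrictD (f ⁻¹ᵁ V).ι).obj E) (isQCohD_restrictD' _ E hE) a
    (isLE_restrictD' _ E a hLE) m hm
  exact IsZero.of_iso h2
    ((Groth.Agent.Lib.Helper17.AdjWay.homologyIso (Scheme.Modules.restrictFunctor V.ι) _ m).symm ≪≫
      (DerivedCategory.homologyFunctor _ m).mapIso e1)

end

end Groth.Agent.Lib.Helper17.AffPush
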