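import Mathlib

set_option backward.isDefEq.respectTransparency.types false

/-!
# Cohomological functors attached to an exact functor to complexes

`T : A ⥤ CochainComplex B ℤ` additive and exact. Then `H^p ∘ T` is right exact iff `H^{p+1} ∘ T`
is left exact.
-/

set_option autoImplicit false
universe u
open CategoryTheory CategoryTheory.Limits HomologicalComplex ZeroObject

namespace Groth.Agent.Lib.Helper1.BKF

section GA

variable {A B : Type*} [Category A] [Category B] [Abelian A] [Abelian B]
  (T : A ⥤ CochainComplex B ℤ) [T.Additive]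
  (hT : ∀ S : ShortComplex A, S.ShortExact → (S.map T).ShortExact)

/-- `M ↦ H^p(T M)` -/
noncomputable abbrev Hn (p : ℤ) : A ⥤ B :=
  T ⋙ HomologicalComplex.homologyFunctor B (ComplexShape.up ℤ) p

include hT in
lemma exact_map_Hn (S : ShortComplex A) (hS : S.ShortExact) (p : ℤ) :
    (S.map (Hn T p)).Exact :=
  (hT S hS).homology_exact₂ p

include hT in
lemma epi_Hn_iff_mono_Hn (S : ShortComplex A) (hS : S.ShortExact) (p : ℤ) :
    Epi ((Hn T p).map S.g) ↔ Mono ((Hn T (p + 1)).map S.f) := by
  have h3 := (hT S hS).homology_exact₃ p (p + 1) rfl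
  have h1 := (hT S hS).homology_exact₁ p (p + 1) rfl
  have e3 := h3.epi_f_iff
  have e1 := h1.mono_g_iff
  dsimp at e3 e1
  exact e3.trans e1.symm

include hT in
theorem preservesFiniteColimits_Hn_iff (p : ℤ) :
    PreservesFiniteColimits (Hn T p) ↔
      ∀ S : ShortComplex A, S.ShortExact → Epi ((Hn T p).map S.g) := by
  have h03 := (Hn T p).preservesFiniteColimits_tfae.out 0 3
  rw [← h03]
  exact ⟨fun h S hS => (h S hS).2, fun h S hS => ⟨exact_map_Hn T hT S hS p, h S hS⟩⟩

include hT in
theorem preservesFiniteLimits_Hn_iff (p : ℤ) :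
    PreservesFiniteLimits (Hn T p) ↔
      ∀ S : ShortComplex A, S.ShortExact → Mono ((Hn T p).map S.f) := by
  have h03 := (Hn T p).preservesFiniteLimits_tfae.out 0 3
  rw [← h03]
  exact ⟨fun h S hS => (h S hS).2, fun h S hS => ⟨exact_map_Hn T hT S hS p, h S hS⟩⟩

include hT in
theorem preservesFiniteColimits_Hn_iff_preservesFiniteLimits_Hn_succ (p : ℤ) :
    PreservesFiniteColimits (Hn T p) ↔ PreservesFiniteLimits (Hn T (p + 1)) := by
  rw [preservesFiniteColimits_Hn_iff T hT, preservesFiniteLimits_Hn_iff T hT]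
  exact forall₂_congr (fun S hS => epi_Hn_iff_mono_Hn T hT S hS p)

end GA

end Groth.Agent.Lib.Helper1.BKF
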