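import Mathlib
import Groth.Agent.Lib.Helper1LDer2
import Groth.Agent.Lib.Helper1LDer3

set_option backward.isDefEq.respectTransparency.types false

/-!
# The derived tensor product on a ringed site via a K-flat resolution of the fixed factor
-/

set_option autoImplicit false
universe u
open CategoryTheory CategoryTheory.Limits HomologicalComplex ZeroObject

attribute [local instance] HasDerivedCategory.standard

namespace Groth.Agent.Lib.Helper1.BKF

open Groth.Agent.Lib.Helper21.ModTensor3 Groth.Agent.Lib.Helper21.ModTensor5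

variable {C : Type u} [SmallCategory C] {J : GrothendieckTopology C} {O : Sheaf J CommRingCat.{u}}

lemma inverts_tensorCxQ_of_isKFlat (P : CochainComplex (ModSite.Mod O) ℤ) (hP : ModSite.IsKFlat P) :
    (HomologicalComplex.quasiIso (ModSite.Mod O) (ComplexShape.up ℤ)).IsInvertedBy
      (ModSite.tensorCxQ P) := fun X Y f hf => by
  rw [HomologicalComplex.mem_quasiIso_iff] at hf
  haveI := quasiIso_TR_map_of_isKFlat P hP f
  exact inferInstanceAs (IsIso (DerivedCategory.Q.map ((TR (ModSite.tensorBi O) P).map f)))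

open Groth.Agent.Lib.Helper1 in
/-- `- ⊗^L E` is computed by `- ⊗ P` for a K-flat resolution `P → E` -/
theorem nonempty_iso_Q_comp_LTensorCx (E P : CochainComplex (ModSite.Mod O) ℤ) (q : P ⟶ E)
    [QuasiIso q] (hP : ModSite.IsKFlat P) [ModSite.HasLTensorCx E] :
    Nonempty (DerivedCategory.Q ⋙ ModSite.LTensorCx E ≅ ModSite.tensorCxQ P) := by
  obtain ⟨R, ψ, hR⟩ := exists_functorial_kflat_flat_resolution O
  let W := HomologicalComplex.quasiIso (ModSite.Mod O) (ComplexShape.up ℤ)
  let G : DCoh.DMod (ModSite.ringSh O) ⥤ DCoh.DMod (ModSite.ringSh O) :=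
    Localization.lift (ModSite.tensorCxQ P) (inverts_tensorCxQ_of_isKFlat P hP) DerivedCategory.Q
  let e : DerivedCategory.Q ⋙ G ≅ ModSite.tensorCxQ P :=
    Localization.fac (ModSite.tensorCxQ P) (inverts_tensorCxQ_of_isKFlat P hP) DerivedCategory.Q
  let β : DerivedCategory.Q ⋙ G ⟶ ModSite.tensorCxQ E :=
    e.hom ≫ Functor.whiskerRight ((ModSite.tensorCx O).flip.map q) DerivedCategory.Q
  have hβ : ∀ X, ModSite.IsKFlat X → IsIso (β.app X) := fun X hX => by
    haveI := quasiIso_TL_map_of_isKFlat X hX q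
    haveI : IsIso (DerivedCategory.Q.map (((ModSite.tensorCx O).flip.map q).app X)) :=
      inferInstanceAs (IsIso (DerivedCategory.Q.map ((TL (ModSite.tensorBi O) X).map q)))
    simp only [β, NatTrans.comp_app, Functor.whiskerRight_app]
    infer_instance
  haveI : G.IsLeftDerivedFunctor β W :=
    LDerRes.isLeftDerivedFunctor_of_isIso_good DerivedCategory.Q W (ModSite.tensorCxQ E) R ψ
      (fun X => (hR X).2.2.1) (fun X => ModSite.IsKFlat X) (fun X => (hR X).1)
      (fun X Y f hf hX hY => by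
        haveI : QuasiIso f := (HomologicalComplex.mem_quasiIso_iff f).1 hf
        haveI := quasiIso_TR_map_of_isKFlat_of_isKFlat X Y hX hY f E
        exact inferInstanceAs (IsIso (DerivedCategory.Q.map ((TR (ModSite.tensorBi O) E).map f))))
      G β hβ
  exact ⟨Functor.isoWhiskerLeft DerivedCategory.Q
    (Functor.leftDerivedUnique (LF := ModSite.LTensorCx E) (LF' := G)
      (α := (ModSite.tensorCxQ E).totalLeftDerivedCounit DerivedCategory.Q W) (α'₂ := β) W) ≪≫ e⟩

/-- `M ↦ Tot(M[0] ⊗ P)` -/
noncomputable abbrev singleTR (P : CochainComplex (ModSite.Mod O) ℤ) :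
    ModSite.Mod O ⥤ CochainComplex (ModSite.Mod O) ℤ :=
  CochainComplex.singleFunctor (ModSite.Mod O) 0 ⋙ TR (ModSite.tensorBi O) P

/-- `M ↦ H^p(M ⊗^L E)` is `M ↦ H^p(Tot(M[0] ⊗ P))` for a K-flat resolution `P → E` -/
theorem nonempty_iso_single_LTensorCx_homology (E P : CochainComplex (ModSite.Mod O) ℤ)
    (q : P ⟶ E) [QuasiIso q] (hP : ModSite.IsKFlat P) [ModSite.HasLTensorCx E] (p : ℤ) :
    Nonempty (DerivedCategory.singleFunctor (ModSite.Mod O) 0 ⋙ ModSite.LTensorCx E ⋙
        DerivedCategory.homologyFunctor (ModSite.Mod O) p ≅ Hn (singleTR P) p) := by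
  obtain ⟨i⟩ := nonempty_iso_Q_comp_LTensorCx E P q hP
  exact ⟨Functor.isoWhiskerRight (DerivedCategory.singleFunctorIsoCompQ (ModSite.Mod O) 0) _ ≪≫
    Functor.associator _ _ _ ≪≫
    Functor.isoWhiskerLeft _ ((Functor.associator _ _ _).symm ≪≫
      Functor.isoWhiskerRight i _ ≪≫ Functor.associator _ _ _ ≪≫
      Functor.isoWhiskerLeft _ (DerivedCategory.homologyFunctorFactors (ModSite.Mod O) p)) ≪≫
    (Functor.associator _ _ _).symm⟩

/-- `M ↦ Tot(M[0] ⊗ P)` is exact when `P` has flat terms -/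
theorem shortExact_map_singleTR (P : CochainComplex (ModSite.Mod O) ℤ)
    (hP : ∀ n, ModSite.IsFlat (P.X n)) (S : ShortComplex (ModSite.Mod O)) (hS : S.ShortExact) :
    (S.map (singleTR P)).ShortExact := by
  refine TR_shortExact (ModSite.tensorBi O) P
    (S.map (CochainComplex.singleFunctor (ModSite.Mod O) 0)) (fun p q => ?_)
  haveI := (hP q).1
  haveI := (hP q).2
  have h1 : (S.map (CochainComplex.singleFunctor (ModSite.Mod O) 0)).ShortExact :=
    hS.map_of_exact (HomologicalComplex.single (ModSite.Mod O) (ComplexShape.up ℤ) 0)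
  have h2 : ((S.map (CochainComplex.singleFunctor (ModSite.Mod O) 0)).map
      (HomologicalComplex.eval _ _ p)).ShortExact := h1.map_of_exact _
  exact h2.map_of_exact _

end Groth.Agent.Lib.Helper1.BKF
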