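import Mathlib
import Groth.Prelude.Def_DCoh4
import Groth.Agent.Lib.Helper1FLF1
import Groth.Agent.Lib.Helper1KBC6
import Groth.Agent.Lib.Helper1Sky9
import Groth.Agent.Lib.Helper1LDer4
import Groth.Agent.S0960
set_option backward.isDefEq.respectTransparency.types false

/-!
# The derived tensor product of perfect objects is perfect (helper1)
-/

set_option autoImplicit false
set_option linter.style.haveILetI false
universe u
open CategoryTheory
attribute [local instance] HasDerivedCategory.standard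

namespace Groth.Agent.Lib.Helper1.FLF


open Groth.Agent.Lib.Helper1.BKF Groth.Agent.Lib.Helper21.ModTensor3
  Groth.Agent.Lib.Helper21.ModTensor5 in
/-- the derived category class of `A ⊗ B` only depends on the classes of `A` and `B`, when
enough K-flatness is present -/
theorem nonempty_Q_tensor_iso {C : Type u} [SmallCategory C] {J : GrothendieckTopology C}
    {O : Sheaf J CommRingCat.{u}} (A A' B B' : CochainComplex (ModSite.Mod O) ℤ)
    (hB : ModSite.IsKFlat B) (hA' : ModSite.IsKFlat A')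
    (eA : DerivedCategory.Q.obj A ≅ DerivedCategory.Q.obj A')
    (eB : DerivedCategory.Q.obj B ≅ DerivedCategory.Q.obj B') :
    Nonempty (DerivedCategory.Q.obj (((ModSite.tensorCx O).obj A).obj B) ≅
      DerivedCategory.Q.obj (((ModSite.tensorCx O).obj A').obj B')) := by
  let G : ∀ (P : CochainComplex (ModSite.Mod O) ℤ), ModSite.IsKFlat P →
      (DCoh.DMod (ModSite.ringSh O) ⥤ DCoh.DMod (ModSite.ringSh O)) := fun P hP =>
    Localization.lift (ModSite.tensorCxQ P) (inverts_tensorCxQ_of_isKFlat P hP) DerivedCategory.Q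
  let e : ∀ (P : CochainComplex (ModSite.Mod O) ℤ) (hP : ModSite.IsKFlat P),
      DerivedCategory.Q ⋙ G P hP ≅ ModSite.tensorCxQ P := fun P hP =>
    Localization.fac (ModSite.tensorCxQ P) (inverts_tensorCxQ_of_isKFlat P hP) DerivedCategory.Q
  have s1 : DerivedCategory.Q.obj (((ModSite.tensorCx O).obj A).obj B) ≅
      DerivedCategory.Q.obj (((ModSite.tensorCx O).obj A').obj B) :=
    ((e B hB).app A).symm ≪≫ (G B hB).mapIso eA ≪≫ (e B hB).app A'
  have s2 : DerivedCategory.Q.obj (((ModSite.tensorCx O).obj B).obj A') ≅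
      DerivedCategory.Q.obj (((ModSite.tensorCx O).obj B').obj A') :=
    ((e A' hA').app B).symm ≪≫ (G A' hA').mapIso eB ≪≫ (e A' hA').app B'
  exact ⟨s1 ≪≫ DerivedCategory.Q.mapIso (symIso (ModSite.tensorBi O) (brd O) A' B) ≪≫ s2 ≪≫
    DerivedCategory.Q.mapIso (symIso (ModSite.tensorBi O) (brd O) B' A')⟩

open AlgebraicGeometry Groth.Agent.Lib.Helper1.KBC Groth.Agent.Lib.Helper1.Sky in
/-- restricting a local presentation to a smaller open -/
theorem nonempty_restrict_iso {X : Scheme.{u}} (P : CochainComplex X.Modules ℤ)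
    {V1 V : X.Opens} (h : V ≤ V1) (E1 : CochainComplex (V1 : Scheme.{u}).Modules ℤ)
    (hE1 : DCoh.IsKFlat E1)
    (i1 : DerivedCategory.Q.obj ((DCoh.restrictCx V1).obj P) ≅ DerivedCategory.Q.obj E1) :
    Nonempty (DerivedCategory.Q.obj ((pullC V.ι).obj P) ≅
      DerivedCategory.Q.obj ((pullC (X.homOfLE h)).obj E1)) := by
  let j : (V : Scheme.{u}) ⟶ V1 := X.homOfLE h
  have hj : j ≫ V1.ι = V.ι := X.homOfLE_ι h
  haveI : DCoh.HasLpull V.ι := hasLpull _
  haveI : DCoh.HasLpull V1.ι := hasLpull _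
  haveI : DCoh.HasLpull j := hasLpull _
  haveI : DCoh.HasLpull (j ≫ V1.ι) := hasLpull _
  obtain ⟨c1⟩ := nonempty_lpull_comp_iso j V1.ι
  obtain ⟨c2⟩ := nonempty_lpull_congr hj
  exact ⟨(lpullIsoOfExact V.ι P).symm ≪≫ (c2.symm.app _) ≪≫ (c1.symm.app _) ≪≫
    (DCoh.Lpull j).mapIso (lpullOpenIso V1 P ≪≫ i1) ≪≫ lpullIsoK j E1 hE1⟩

open AlgebraicGeometry Groth.Agent.Lib.Helper1.KBC Groth.Agent.Lib.Helper1.Sky
  Groth.Agent.Lib.Helper1.BKF Groth.Agent.Lib.Helper1.PT Groth.Agent.Lib.Helper1.FLF in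
/-- S0962 -/
theorem isPerfect_LTensor {X : Scheme.{u}} (L : CochainComplex X.Modules ℤ) (hL : DCoh.IsKFlat L)
    (hLp : DCoh.IsPerfect (DerivedCategory.Q.obj L)) [DCoh.HasLTensorCx L] (K : DCoh.D X)
    (hK : DCoh.IsPerfect K) :
    DCoh.IsPerfect ((DCoh.LTensorCx L).obj K) := by
  intro x
  obtain ⟨V1, hx1, h1⟩ := hK x
  obtain ⟨V2, hx2, h2⟩ := hLp x
  let V : X.Opens := V1 ⊓ V2
  refine ⟨V, ⟨hx1, hx2⟩, fun F ⟨eF⟩ => ?_⟩
  -- a K-flat representative of `K`
  let F0 := (DerivedCategory.Q (C := X.Modules)).objPreimage K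
  have e0 : DerivedCategory.Q.obj F0 ≅ K := (DerivedCategory.Q (C := X.Modules)).objObjPreimageIso K
  obtain ⟨P, q, hP, -, hq, -⟩ := exists_kflat_flat_resolution (O := X.sheaf) F0
  haveI : QuasiIso q := hq
  have hP' : DCoh.IsKFlat P := hP
  haveI : IsIso (DerivedCategory.Q.map q) := by
    rw [DerivedCategory.isIso_Q_map_iff_quasiIso]; exact hq
  have eK : K ≅ DerivedCategory.Q.obj P := e0.symm ≪≫ (asIso (DerivedCategory.Q.map q)).symm
  obtain ⟨E1, hE1, ⟨i1⟩⟩ := h1 P ⟨eK.symm⟩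
  obtain ⟨E2, hE2, ⟨i2⟩⟩ := h2 L ⟨Iso.refl _⟩
  have hV1 : V ≤ V1 := inf_le_left
  have hV2 : V ≤ V2 := inf_le_right
  obtain ⟨a⟩ := nonempty_restrict_iso P hV1 E1 (kffs_of_isStrictlyPerfect E1 hE1).1 i1
  obtain ⟨b⟩ := nonempty_restrict_iso L hV2 E2 (kffs_of_isStrictlyPerfect E2 hE2).1 i2
  have hE1' := isStrictlyPerfect_pullC (X.homOfLE hV1) E1 hE1
  have hE2' := isStrictlyPerfect_pullC (X.homOfLE hV2) E2 hE2
  -- the derived tensor product
  haveI hI1 : ModSite.HasLTensorCx (O := X.sheaf) L := (inferInstance : DCoh.HasLTensorCx L)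
  have i : (DCoh.LTensorCx L).obj (DerivedCategory.Q.obj P) ≅
      DerivedCategory.Q.obj ((DCoh.tensorCx.obj P).obj L) :=
    lTensorCxIsoOfIsKFlat (O := X.sheaf) L P hP
  have eF' : DerivedCategory.Q.obj F ≅ DerivedCategory.Q.obj ((DCoh.tensorCx.obj P).obj L) :=
    eF ≪≫ (DCoh.LTensorCx L).mapIso eK ≪≫ i
  haveI : DCoh.HasLpull V.ι := hasLpull _
  have r1 : DerivedCategory.Q.obj ((DCoh.restrictCx V).obj F) ≅
      DerivedCategory.Q.obj ((DCoh.restrictCx V).obj ((DCoh.tensorCx.obj P).obj L)) :=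
    (lpullOpenIso V F).symm ≪≫ (DCoh.Lpull V.ι).mapIso eF' ≪≫ lpullOpenIso V _
  obtain ⟨t⟩ := nonempty_pullTotIso V.ι P L
  have hfL : DCoh.IsKFlat ((pullC V.ι).obj L) := Groth.Agent.S0960.isKFlat_pullC V.ι L hL
  obtain ⟨c⟩ := nonempty_Q_tensor_iso (O := (V : Scheme.{u}).sheaf) ((pullC V.ι).obj P)
    ((pullC (X.homOfLE hV1)).obj E1) ((pullC V.ι).obj L) ((pullC (X.homOfLE hV2)).obj E2)
    hfL (kffs_of_isStrictlyPerfect _ hE1').1 a b
  refine ⟨(DCoh.tensorCx.obj ((pullC (X.homOfLE hV1)).obj E1)).obj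
    ((pullC (X.homOfLE hV2)).obj E2), isStrictlyPerfect_tensorCx _ _ hE1' hE2', ⟨?_⟩⟩
  exact r1 ≪≫ DerivedCategory.Q.mapIso ((restrictCxIso V).app _) ≪≫
    DerivedCategory.Q.mapIso t ≪≫ c

end Groth.Agent.Lib.Helper1.FLF
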