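import Mathlib
import Groth.Agent.Lib.Helper1TorH
import Groth.Agent.Lib.Helper1TorF
set_option backward.isDefEq.respectTransparency.types false
set_option autoImplicit false
set_option linter.style.haveILetI false
set_option maxHeartbeats 400000
universe u
open CategoryTheory CategoryTheory.Limits Pretriangulated

attribute [local instance] HasDerivedCategory.standard

namespace Groth.Agent.Lib.Helper1.Tor

open DerivedCategory Groth.Agent.Lib.Helper1.ProjRes

variable {R : Type u} [CommRing R]

/-- ranges of differentials are flat above the exactness bound (flatness only assumed above) -/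
lemma flat_range_d' (K : DRing.Cx R) (b : ℤ) (hb : DRing.VanishesAbove K b) (n : ℤ)
    (hflat : ∀ j : ℤ, n < j → Module.Flat R (K.X j))
    (hex : ∀ j : ℤ, n < j → K.ExactAt j) :
    ∀ i : ℤ, n ≤ i → Module.Flat R (LinearMap.range (K.d i (i + 1)).hom) := by
  have key : ∀ (k : ℕ) (i : ℤ), n ≤ i → b ≤ i + k →
      Module.Flat R (LinearMap.range (K.d i (i + 1)).hom) := by
    intro k
    induction k with
    | zero =>
      intro i _ hbi
      have hz : IsZero (K.X (i + 1)) := hb (i + 1) (by lia)
      have := ModuleCat.subsingleton_of_isZero hz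
      infer_instance
    | succ k ih =>
      intro i hni hbi
      have h1 : Module.Flat R (LinearMap.range (K.d (i + 1) (i + 1 + 1)).hom) :=
        ih (i + 1) (by lia) (by push_cast at hbi; lia)
      have h2 := (exactAt_iff_fexact K i (i + 1) (i + 1 + 1) rfl rfl).1 (hex (i + 1) (by lia))
      have := hflat (i + 1) (by lia)
      exact flat_range_of_exact _ _ h2
  intro i hi
  exact key (b - i).toNat i hi (by lia)

/-- in a bounded acyclic complex vanishing below `a - 1`, all of whose terms but the one in degree
`a` are flat, the term in degree `a` is flat as well -/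
theorem flat_of_acyclic (C : DRing.Cx R) (b a : ℤ) (hb : DRing.VanishesAbove C b)
    (hex : ∀ j : ℤ, C.ExactAt j) (hz : IsZero (C.X (a - 1 - 1)))
    (hfl1 : Module.Flat R (C.X (a - 1)))
    (hfl : ∀ j : ℤ, a < j → Module.Flat R (C.X j)) : Module.Flat R (C.X a) := by
  have h1 : Module.Flat R (LinearMap.range (C.d a (a + 1)).hom) :=
    flat_range_d' C b hb a hfl (fun j _ => hex j) a le_rfl
  have e1 := (exactAt_iff_fexact C (a - 1 - 1) (a - 1) a (by lia) (by lia)).1 (hex (a - 1))
  have e2 := (exactAt_iff_fexact C (a - 1) a (a + 1) (by lia) rfl).1 (hex a)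
  have hinj : Function.Injective (C.d (a - 1) a).hom := by
    rw [injective_iff_map_eq_zero]
    intro x hx
    obtain ⟨y, rfl⟩ := (e1 x).1 hx
    have := ModuleCat.subsingleton_of_isZero hz
    rw [Subsingleton.elim y 0, map_zero]
  refine flat_mid (C.d (a - 1) a).hom (C.d a (a + 1)).hom.rangeRestrict hinj
    (LinearMap.surjective_rangeRestrict _) ?_
  intro z
  rw [← e2 z]
  constructor
  · intro hz'
    exact congrArg Subtype.val hz'
  · intro hz'
    exact Subtype.ext hz'

/-- a bounded complex concentrated in degrees `≥ a`, with flat terms in degrees `> a` and tor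
amplitude in `[a, b]`, has a flat term in degree `a` -/
theorem flat_of_hasTorAmp_of_flat_above (T : DRing.Cx R) (a b bT : ℤ)
    (hTb : DRing.VanishesAbove T bT) (hTa : ∀ i : ℤ, i < a → IsZero (T.X i))
    (hTf : ∀ i : ℤ, a < i → Module.Flat R (T.X i))
    (h : DRing.HasTorAmplitudeIn R a b (DRing.toD T)) : Module.Flat R (T.X a) := by
  have hTle : T.IsStrictlyLE bT := by
    rw [CochainComplex.isStrictlyLE_iff]
    exact hTb
  have hTge : T.IsStrictlyGE a := by
    rw [CochainComplex.isStrictlyGE_iff]
    exact fun i hi => hTa i hi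
  obtain ⟨K, p, hp, hKproj, hKle⟩ := exists_proj_res T bT
  have hKb : DRing.VanishesAbove K bT := fun i hi => K.isZero_of_isStrictlyLE bT i hi
  have hKf : DRing.TermwiseFlat K := termwiseFlat_of_projective K hKproj
  have hpi : IsIso (Q.map p) := (DerivedCategory.isIso_Q_map_iff_quasiIso (φ := p)).2 hp
  obtain ⟨E, hE, hEf, ⟨e⟩⟩ := h
  have htv : TorVan K a b :=
    torVan_of_iso K E bT hKb hKf a b hE hEf (e ≪≫ (asIso (Q.map p)).symm)
  have hK'f : DRing.TermwiseFlat (K.truncGE a) := termwiseFlat_truncGE K hKf a b htv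
  have hK'b : DRing.VanishesAbove (K.truncGE a) (max bT a) := by
    intro i hi
    have hi1 : a < i := lt_of_le_of_lt (le_max_right _ _) hi
    have hi2 : bT < i := lt_of_le_of_lt (le_max_left _ _) hi
    exact (hKb i hi2).of_iso (K.truncGEXIso a i hi1)
  have hK'a : ∀ i : ℤ, i < a → IsZero ((K.truncGE a).X i) := fun i hi =>
    (K.truncGE a).isZero_of_isStrictlyGE a i hi
  let g : K.truncGE a ⟶ T := CochainComplex.truncGEMap p a ≫ inv (T.πTruncGE a)
  have hg1 : QuasiIso (CochainComplex.truncGEMap p a) :=
    (CochainComplex.quasiIso_truncGEMap_iff p a).2 (fun i _ => inferInstance)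
  have hg : QuasiIso g := by
    dsimp only [g]
    infer_instance
  have hgi : IsIso (Q.map g) := (DerivedCategory.isIso_Q_map_iff_quasiIso (φ := g)).2 hg
  have hT := DerivedCategory.mappingCone_triangle_distinguished g
  have hz : IsZero (Q.obj (CochainComplex.mappingCone g)) :=
    (Triangle.isZero₃_iff_isIso₁ _ hT).2 hgi
  have hex : ∀ j : ℤ, (CochainComplex.mappingCone g).ExactAt j := exactAt_of_isZero_Q _ hz
  have hCb := vanishesAbove_mappingCone g (max bT a) bT hK'b hTb
  have hflatC : ∀ j : ℤ, Module.Flat R ((K.truncGE a).X (j + 1)) → Module.Flat R (T.X j) →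
      Module.Flat R ((CochainComplex.mappingCone g).X j) := by
    intro j h1 h2
    have := HomologicalComplex.HasHomotopyCofiber.hasBinaryBiproduct g j (j + 1) rfl
    exact Module.Flat.of_linearEquiv
      (HomologicalComplex.homotopyCofiber.XIsoBiprod g j (j + 1) rfl).toLinearEquiv
  have hCa : Module.Flat R ((CochainComplex.mappingCone g).X a) := by
    refine flat_of_acyclic _ _ a hCb hex ?_ ?_ ?_
    · rw [CochainComplex.mappingCone.isZero_X_iff]
      exact ⟨hK'a _ (by lia), hTa _ (by lia)⟩
    · refine hflatC (a - 1) (hK'f _) ?_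
      have := ModuleCat.subsingleton_of_isZero (hTa (a - 1) (by lia))
      infer_instance
    · intro j hj
      exact hflatC j (hK'f _) (hTf j hj)
  have := HomologicalComplex.HasHomotopyCofiber.hasBinaryBiproduct g a (a + 1) rfl
  let ι : T.X a ⟶ (CochainComplex.mappingCone g).X a :=
    biprod.inr ≫ (HomologicalComplex.homotopyCofiber.XIsoBiprod g a (a + 1) rfl).inv
  let ρ : (CochainComplex.mappingCone g).X a ⟶ T.X a :=
    (HomologicalComplex.homotopyCofiber.XIsoBiprod g a (a + 1) rfl).hom ≫ biprod.snd
  have hιρ : ι ≫ ρ = 𝟙 _ := by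
    dsimp only [ι, ρ]
    simp
  refine Module.Flat.of_retract ι.hom ρ.hom ?_
  have := congrArg ModuleCat.Hom.hom hιρ
  simpa using this

end Groth.Agent.Lib.Helper1.Tor
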