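import Mathlib
set_option backward.isDefEq.respectTransparency.types false
set_option autoImplicit false
set_option linter.style.haveILetI false
set_option maxHeartbeats 400000
universe w v u
open CategoryTheory CategoryTheory.Limits Pretriangulated

namespace Groth.Agent.Lib.Helper1.RelTri

open DerivedCategory

variable {C : Type u} [Category.{v} C] [Abelian C] [HasDerivedCategory.{w} C]

/-- a map from `Q P` to an object of `D^{≥ a}` which is an isomorphism on cohomology in degrees
`≥ a` identifies the target with the canonical truncation of `P` -/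
theorem nonempty_iso_truncGE (P : CochainComplex C ℤ) (K : DerivedCategory C) (a : ℤ)
    (α : Q.obj P ⟶ K) (hα : ∀ i : ℤ, a ≤ i → IsIso ((homologyFunctor C i).map α))
    [K.IsGE a] : Nonempty (Q.obj (P.truncGE a) ≅ K) := by
  have hS := P.shortComplexTruncLE_shortExact (a - 1)
  let ι' : P.truncLE (a - 1) ⟶ P := (P.shortComplexTruncLE (a - 1)).f
  let g' : P ⟶ (P.shortComplexTruncLE (a - 1)).X₃ := (P.shortComplexTruncLE (a - 1)).g
  have hT : Triangle.mk (Q.map ι') (Q.map g') (triangleOfSESδ hS) ∈ distTriang _ :=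
    triangleOfSES_distinguished hS
  have hle : (Q.obj (P.truncLE (a - 1))).IsLE (a - 1) := by
    rw [isLE_Q_obj_iff]
    infer_instance
  have h0 : Q.map ι' ≫ α = 0 := TStructure.t.zero _ (a - 1) a (by lia)
  obtain ⟨γ, hγ⟩ := Triangle.yoneda_exact₂ _ hT α h0
  let φ : (P.shortComplexTruncLE (a - 1)).X₃ ⟶ P.truncGE a :=
    P.shortComplexTruncLEX₃ToTruncGE (a - 1) a (by lia)
  have hφ : IsIso (Q.map φ) := (DerivedCategory.isIso_Q_map_iff_quasiIso (φ := φ)).2 inferInstance
  let β : Q.obj (P.truncGE a) ⟶ K := inv (Q.map φ) ≫ γ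
  have hβ : Q.map (P.πTruncGE a) ≫ β = α := by
    have h1 : g' ≫ φ = P.πTruncGE a := P.g_shortComplexTruncLEX₃ToTruncGE (a - 1) a (by lia)
    rw [← h1, Q.map_comp, Category.assoc]
    dsimp only [β]
    rw [IsIso.hom_inv_id_assoc, hγ]
    rfl
  have hge : (Q.obj (P.truncGE a)).IsGE a := by
    rw [isGE_Q_obj_iff]
    infer_instance
  have hβi : IsIso β := by
    rw [DerivedCategory.isIso_iff]
    intro n
    by_cases hn : a ≤ n
    · have h2 : (homologyFunctor C n).map (Q.map (P.πTruncGE a)) ≫ (homologyFunctor C n).map β =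
          (homologyFunctor C n).map α := by
        rw [← Functor.map_comp, hβ]
      have h3 : IsIso ((homologyFunctor C n).map (Q.map (P.πTruncGE a))) := by
        have hq : QuasiIsoAt (P.πTruncGE a) n := P.quasiIsoAt_πTruncGE a n hn
        rw [quasiIsoAt_iff_isIso_homologyMap] at hq
        exact (NatIso.isIso_map_iff (homologyFunctorFactors C n) (P.πTruncGE a)).2 hq
      have h4 := hα n hn
      rw [← h2] at h4
      exact IsIso.of_isIso_comp_left ((homologyFunctor C n).map (Q.map (P.πTruncGE a))) _
    · have z1 : IsZero ((homologyFunctor C n).obj (Q.obj (P.truncGE a))) :=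
        isZero_of_isGE _ a n (by lia)
      have z2 : IsZero ((homologyFunctor C n).obj K) := isZero_of_isGE _ a n (by lia)
      exact ⟨⟨0, z1.eq_of_src _ _, z2.eq_of_src _ _⟩⟩
  exact ⟨asIso β⟩

end Groth.Agent.Lib.Helper1.RelTri
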