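import Mathlib
import Groth.Agent.Lib.Helper1TQ5
import Groth.Agent.Lib.Helper1KBC6
import Groth.Agent.Lib.Helper1TorI
set_option backward.isDefEq.respectTransparency.types false

/-!
# Flat amplitude descends along flat surjective morphisms (helper1)
-/

set_option autoImplicit false
set_option linter.style.haveILetI false
universe u
open CategoryTheory CategoryTheory.Limits AlgebraicGeometry HomologicalComplex

attribute [local instance] HasDerivedCategory.standard

namespace Groth.Agent.Lib.Helper1.TQ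

open Groth.Agent.Lib.Helper1.Sky Groth.Agent.Lib.Helper1.StalkTensor Groth.Agent.Lib.Helper1.KBC
  Groth.Agent.Lib.Helper1.Tor Groth.Agent.Lib.Helper1.BKF Groth.Agent.Lib.Helper1.CI

variable {X Y : Scheme.{u}}

/-- the complex of stalks of the termwise pullback -/
noncomputable def stalkCPullIso (f : X ⟶ Y) (x : X) (C : CochainComplex Y.Modules ℤ) :
    (stalkC x).obj ((pullC f).obj C) ≅
      ((KBC.ext (f.stalkMap x).hom).mapHomologicalComplex (ComplexShape.up ℤ)).obj
        ((stalkC (f.base x)).obj C) :=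
  HomologicalComplex.Hom.isoOfComponents (fun i => (stalkPullbackIso f x).app (C.X i))
    (fun i j _ => ((stalkPullbackIso f x).hom.naturality (C.d i j)).symm)

/-- S7244: flat amplitude descends along flat surjective morphisms -/
theorem hasFlatAmplitudeIn_of_Lpull (f : X ⟶ Y) [Flat f] [Surjective f] [DCoh.HasLpull f]
    (E : DCoh.D Y) (a b : ℤ) (h : DCoh.HasFlatAmplitudeIn a b ((DCoh.Lpull f).obj E)) :
    DCoh.HasFlatAmplitudeIn a b E := by
  obtain ⟨K, q, hK, -, hq, -⟩ : ∃ (K : CochainComplex Y.Modules ℤ)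
      (q : K ⟶ DerivedCategory.Q.objPreimage E), DCoh.IsKFlat K ∧
      (∀ n : ℤ, ModSite.IsFlat (O := Y.sheaf) (K.X n)) ∧ QuasiIso q ∧ ∀ n : ℤ, Epi (q.f n) :=
    exists_kflat_flat_resolution Y.sheaf (DerivedCategory.Q.objPreimage E)
  have hqi : IsIso (DerivedCategory.Q.map q) := by
    rw [DerivedCategory.isIso_Q_map_iff_quasiIso]; exact hq
  have eK : DCoh.toD Y K ≅ E :=
    asIso (DerivedCategory.Q.map q) ≪≫ DerivedCategory.Q.objObjPreimageIso E
  rw [hasFlatAmplitudeIn_iff_hasTorAmplitudeIn] at h ⊢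
  have h1 : DCoh.HasTorAmplitudeIn a b (DCoh.toD X ((pullC f).obj K)) :=
    hasTorAmplitudeIn_of_iso ((DCoh.Lpull f).mapIso eK.symm ≪≫ lpullIsoK f K hK) a b h
  rw [hasTorAmplitudeIn_iff_stalk] at h1
  refine hasTorAmplitudeIn_of_iso eK a b ?_
  rw [hasTorAmplitudeIn_iff_stalk]
  intro y
  obtain ⟨x, rfl⟩ := Surjective.surj (f := f) y
  letI : Algebra (StalkTensor.Ox (f.base x)) (StalkTensor.Ox x) := (f.stalkMap x).hom.toAlgebra
  haveI : Module.Flat (StalkTensor.Ox (f.base x)) (StalkTensor.Ox x) := Flat.stalkMap f x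
  haveI : IsLocalHom (algebraMap (StalkTensor.Ox (f.base x)) (StalkTensor.Ox x)) :=
    inferInstanceAs (IsLocalHom (f.stalkMap x).hom)
  haveI : Module.FaithfullyFlat (StalkTensor.Ox (f.base x)) (StalkTensor.Ox x) :=
    Module.FaithfullyFlat.of_flat_of_isLocalHom
  refine hasTorAmp_of_extD (R := StalkTensor.Ox (f.base x)) (R' := StalkTensor.Ox x) _ a b ?_
  exact hasTorAmp_of_iso (DerivedCategory.Q.mapIso (stalkCPullIso f x K) ≪≫
    (Groth.Agent.Lib.Helper1.Extend.mapQIso (Groth.Agent.Lib.Helper1.Extend.ext _ _)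
      ((stalkC (f.base x)).obj K)).symm) (h1 x)

end Groth.Agent.Lib.Helper1.TQ
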