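import Mathlib
import Groth.Agent.Lib.Helper1TQ7
import Groth.Agent.Lib.Helper1SPL4
set_option backward.isDefEq.respectTransparency.types false

/-!
# Tor amplitude is local for the Zariski topology (helper1)
-/

set_option autoImplicit false
set_option linter.style.haveILetI false
universe u
open CategoryTheory CategoryTheory.Limits AlgebraicGeometry HomologicalComplex

attribute [local instance] HasDerivedCategory.standard

namespace Groth.Agent.Lib.Helper1.TQ

open Groth.Agent.Lib.Helper1.Sky Groth.Agent.Lib.Helper1.StalkTensor Groth.Agent.Lib.Helper1.KBC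
  Groth.Agent.Lib.Helper1.Tor Groth.Agent.Lib.Helper1.BKF Groth.Agent.Lib.Helper1.CI
  Groth.Agent.Lib.Helper1.SPL Groth.Agent.Lib.Helper1.Extend

variable {X U : Scheme.{u}}

/-- the stalk of a restriction to an open subscheme -/
noncomputable def resStalkIso (j : U ⟶ X) [IsOpenImmersion j] (y : U) :
    Scheme.Modules.restrictFunctor j ⋙ stalkFun y ≅
      stalkFun (j.base y) ⋙ ModuleCat.extendScalars.{u, u, u} (j.stalkMap y).hom :=
  Functor.isoWhiskerRight (Scheme.Modules.restrictFunctorIsoPullback j) (stalkFun y) ≪≫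
    stalkPullbackIso j y

/-- the complex of stalks of a restriction -/
noncomputable def stalkCResIso (j : U ⟶ X) [IsOpenImmersion j] (y : U)
    (C : CochainComplex X.Modules ℤ) :
    (stalkC y).obj ((resC j).obj C) ≅
      ((KBC.ext (j.stalkMap y).hom).mapHomologicalComplex (ComplexShape.up ℤ)).obj
        ((stalkC (j.base y)).obj C) :=
  HomologicalComplex.Hom.isoOfComponents (fun i => (resStalkIso j y).app (C.X i))
    (fun i k _ => ((resStalkIso j y).hom.naturality (C.d i k)).symm)

/-- tor amplitude of the stalks is insensitive to restriction to an open subscheme -/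
theorem hasTorAmp_stalkC_resC_iff (j : U ⟶ X) [IsOpenImmersion j] (y : U)
    (C : CochainComplex X.Modules ℤ) (a b : ℤ) :
    DRing.HasTorAmplitudeIn (StalkTensor.Ox y) a b (DRing.toD ((stalkC y).obj ((resC j).obj C))) ↔
      DRing.HasTorAmplitudeIn (StalkTensor.Ox (j.base y)) a b
        (DRing.toD ((stalkC (j.base y)).obj C)) := by
  letI : Algebra (StalkTensor.Ox (j.base y)) (StalkTensor.Ox y) := (j.stalkMap y).hom.toAlgebra
  have hb : Function.Bijective (j.stalkMap y).hom :=
    ConcreteCategory.bijective_of_isIso (j.stalkMap y)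
  haveI : Module.FaithfullyFlat (StalkTensor.Ox (j.base y)) (StalkTensor.Ox y) := by
    let e : StalkTensor.Ox (j.base y) ≃ₗ[StalkTensor.Ox (j.base y)] StalkTensor.Ox y :=
      { (RingEquiv.ofBijective (j.stalkMap y).hom hb).toAddEquiv with
        map_smul' := fun r x => by
          change (j.stalkMap y).hom (r * x) = (j.stalkMap y).hom r * (j.stalkMap y).hom x
          exact map_mul _ r x }
    exact Module.FaithfullyFlat.of_linearEquiv _ _ e.symm
  have e : DRing.toD ((stalkC y).obj ((resC j).obj C)) ≅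
      (extD (StalkTensor.Ox (j.base y)) (StalkTensor.Ox y)).obj
        (DRing.toD ((stalkC (j.base y)).obj C)) :=
    DerivedCategory.Q.mapIso (stalkCResIso j y C) ≪≫
      (mapQIso (Extend.ext _ _) ((stalkC (j.base y)).obj C)).symm
  constructor
  · intro h
    exact hasTorAmp_of_extD (R := StalkTensor.Ox (j.base y)) (R' := StalkTensor.Ox y) _ a b
      (hasTorAmp_of_iso e h)
  · intro h
    exact hasTorAmp_of_iso e.symm (hasTorAmp_extD _ a b h)

/-- tor amplitude (derived-tensor form) restricts to open subschemes -/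
theorem hasTorAmplitudeIn_resC (j : U ⟶ X) [IsOpenImmersion j] (C : CochainComplex X.Modules ℤ)
    (a b : ℤ) (h : DCoh.HasTorAmplitudeIn a b (DCoh.toD X C)) :
    DCoh.HasTorAmplitudeIn a b (DCoh.toD U ((resC j).obj C)) := by
  rw [hasTorAmplitudeIn_iff_stalk] at h ⊢
  intro y
  exact (hasTorAmp_stalkC_resC_iff j y C a b).2 (h (j.base y))

/-- tor amplitude (derived-tensor form) can be checked on an open cover -/
theorem hasTorAmplitudeIn_of_cover (C : CochainComplex X.Modules ℤ) (a b : ℤ)
    (h : ∀ x : X, ∃ V : X.Opens, x ∈ V ∧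
      DCoh.HasTorAmplitudeIn a b (DCoh.toD (V : Scheme.{u}) ((resC V.ι).obj C))) :
    DCoh.HasTorAmplitudeIn a b (DCoh.toD X C) := by
  rw [hasTorAmplitudeIn_iff_stalk]
  intro x
  obtain ⟨V, hxV, hV⟩ := h x
  rw [hasTorAmplitudeIn_iff_stalk] at hV
  exact (hasTorAmp_stalkC_resC_iff V.ι ⟨x, hxV⟩ C a b).1 (hV ⟨x, hxV⟩)

end Groth.Agent.Lib.Helper1.TQ
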