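import Mathlib
import Groth.Agent.Lib.Helper1TQ17
import Groth.Agent.Lib.Helper1TQ9
import Groth.Agent.Lib.Helper1RelPC
set_option backward.isDefEq.respectTransparency.types false
set_option autoImplicit false
set_option linter.style.haveILetI false
set_option maxHeartbeats 400000
universe u
open CategoryTheory CategoryTheory.Limits AlgebraicGeometry HomologicalComplex

attribute [local instance] HasDerivedCategory.standard

namespace Groth.Agent.Lib.Helper1.TQ

open Groth.Agent.Lib.Helper1.Sky Groth.Agent.Lib.Helper1.StalkTensor Groth.Agent.Lib.Helper1.KBC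
  Groth.Agent.Lib.Helper1.Tor Groth.Agent.Lib.Helper1.BKF Groth.Agent.Lib.Helper1.CI
  Groth.Agent.Lib.Helper1.SPL Groth.Agent.Lib.Helper1.Extend Groth.Agent.Lib.Helper1.RelPC

section Unit

variable {R S : Type u} [CommRing R] [CommRing S] (σ : R →+* S)

/-- for a bijective ring map, the unit `M → S ⊗_R M` is an isomorphism -/
lemma isIso_unit_of_bijective (hσ : Function.Bijective σ) (M : ModuleCat.{u} R) :
    IsIso ((ModuleCat.extendRestrictScalarsAdj σ).unit.app M) := by
  letI : Algebra R S := σ.toAlgebra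
  rw [ConcreteCategory.isIso_iff_bijective]
  let e : R ≃ₗ[R] S :=
    { (RingEquiv.ofBijective σ hσ).toAddEquiv with
      map_smul' := fun r x => by
        change σ (r * x) = σ r * σ x
        exact map_mul σ r x }
  let g : M ≃ₗ[R] TensorProduct R S M :=
    (TensorProduct.lid R M).symm ≪≫ₗ TensorProduct.congr e (LinearEquiv.refl R M)
  have hg : ∀ m : M, ((ModuleCat.extendRestrictScalarsAdj σ).unit.app M).hom m = g m := by
    intro m
    show (1 : S) ⊗ₜ[R] m = TensorProduct.congr e (LinearEquiv.refl R M) ((1 : R) ⊗ₜ[R] m)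
    rw [TensorProduct.congr_tmul]
    show (1 : S) ⊗ₜ[R] m = σ 1 ⊗ₜ[R] m
    rw [map_one]
  have : ⇑(ConcreteCategory.hom ((ModuleCat.extendRestrictScalarsAdj σ).unit.app M)) = ⇑g := by
    funext m
    exact hg m
  rw [this]
  exact g.bijective

/-- `K ≅ res (ext K)` for a bijective ring map -/
noncomputable def unitCxIso (hσ : Function.Bijective σ) (K : DRing.Cx R) :
    K ≅ (DRing.restrictCx σ).obj
      (((KBC.ext σ).mapHomologicalComplex (ComplexShape.up ℤ)).obj K) :=
  HomologicalComplex.Hom.isoOfComponents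
    (fun i => @asIso _ _ _ _ ((ModuleCat.extendRestrictScalarsAdj σ).unit.app (K.X i))
      (isIso_unit_of_bijective σ hσ (K.X i)))
    (fun i j _ => ((ModuleCat.extendRestrictScalarsAdj σ).unit.naturality (K.d i j)).symm)

end Unit

section Src

variable {U X Y : Scheme.{u}}

/-- relative tor amplitude at a point is insensitive to restriction to an open subscheme of the
source -/
theorem hasTorAmplitudeAt_resC_iff (j : U ⟶ X) [IsOpenImmersion j] (f : X ⟶ Y)
    (C : CochainComplex X.Modules ℤ) (a b : ℤ) (y : U) :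
    DerSch.HasTorAmplitudeAt (j ≫ f) a b ((resC j).obj C) y ↔
      DerSch.HasTorAmplitudeAt f a b C (j.base y) := by
  rw [hasTorAmplitudeAt_iff, hasTorAmplitudeAt_iff]
  have hb : Function.Bijective (j.stalkMap y).hom :=
    ConcreteCategory.bijective_of_isIso (j.stalkMap y)
  have hcomp : ((j ≫ f).stalkMap y).hom = (j.stalkMap y).hom.comp (f.stalkMap (j.base y)).hom := by
    rw [Scheme.Hom.stalkMap_comp]
    rfl
  rw [hcomp]
  have e : (DRing.restrictCx ((j.stalkMap y).hom.comp (f.stalkMap (j.base y)).hom)).obj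
      ((stalkC y).obj ((resC j).obj C)) ≅
      (DRing.restrictCx (f.stalkMap (j.base y)).hom).obj ((stalkC (j.base y)).obj C) :=
    (restrictCxCompIso _ _ _).symm ≪≫
      (DRing.restrictCx (f.stalkMap (j.base y)).hom).mapIso
        ((DRing.restrictCx (j.stalkMap y).hom).mapIso (stalkCResIso j y C) ≪≫
          (unitCxIso (j.stalkMap y).hom hb ((stalkC (j.base y)).obj C)).symm)
  exact ⟨hasTorAmp_of_iso (DerivedCategory.Q.mapIso e),
    hasTorAmp_of_iso (DerivedCategory.Q.mapIso e.symm)⟩

/-- relative tor amplitude can be checked on an open cover of the source -/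
theorem hasTorAmplitude_of_cover (f : X ⟶ Y) (C : CochainComplex X.Modules ℤ) (a b : ℤ)
    (h : ∀ x : X, ∃ V : X.Opens, x ∈ V ∧
      DerSch.HasTorAmplitude (V.ι ≫ f) a b ((resC V.ι).obj C)) :
    DerSch.HasTorAmplitude f a b C := by
  intro x
  obtain ⟨V, hxV, hV⟩ := h x
  exact (hasTorAmplitudeAt_resC_iff V.ι f C a b ⟨x, hxV⟩).1 (hV ⟨x, hxV⟩)

/-- relative tor amplitude restricts to open subschemes of the source -/
theorem hasTorAmplitude_resC (j : U ⟶ X) [IsOpenImmersion j] (f : X ⟶ Y)
    (C : CochainComplex X.Modules ℤ) (a b : ℤ) (h : DerSch.HasTorAmplitude f a b C) :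
    DerSch.HasTorAmplitude (j ≫ f) a b ((resC j).obj C) :=
  fun y => (hasTorAmplitudeAt_resC_iff j f C a b y).2 (h (j.base y))

end Src

end Groth.Agent.Lib.Helper1.TQ
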