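import Mathlib
import Groth.Agent.Lib.Helper1TorSrc
import Groth.Agent.Lib.Helper1RelFlatPC
import Groth.Agent.Lib.Helper1RelTriA
import Groth.Agent.Lib.Helper1RelTriB
import Groth.Agent.Lib.Helper1PC6
import Groth.Agent.Lib.Helper1Sky9
set_option backward.isDefEq.respectTransparency.types false
set_option autoImplicit false
set_option linter.style.haveILetI false
set_option maxHeartbeats 400000
universe u
open CategoryTheory CategoryTheory.Limits AlgebraicGeometry HomologicalComplex Pretriangulated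

attribute [local instance] HasDerivedCategory.standard

namespace Groth.Agent.Lib.Helper1.TQ

open Groth.Agent.Lib.Helper1.Sky Groth.Agent.Lib.Helper1.StalkTensor Groth.Agent.Lib.Helper1.KBC
  Groth.Agent.Lib.Helper1.Tor Groth.Agent.Lib.Helper1.BKF Groth.Agent.Lib.Helper1.CI
  Groth.Agent.Lib.Helper1.SPL Groth.Agent.Lib.Helper1.Extend Groth.Agent.Lib.Helper1.RelPC
  Groth.Agent.Lib.Helper1.Restrict Groth.Agent.Lib.Helper1.RelTri Groth.Agent.Lib.Helper1.ChartInd

variable {X Y : Scheme.{u}}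

/-- the derived stalk functor over the base -/
noncomputable abbrev sD (f : X ⟶ Y) (x : X) :
    DCoh.D X ⥤ Dual.D (Y.presheaf.stalk (f.base x)) :=
  (stalkFun x).mapDerivedCategory ⋙ DRing.restrictD (f.stalkMap x).hom

/-- value of the derived stalk functor on a complex -/
noncomputable def sDQIso (f : X ⟶ Y) (x : X) (F : CochainComplex X.Modules ℤ) :
    (sD f x).obj (DCoh.toD X F) ≅
      DRing.toD ((DRing.restrictCx (f.stalkMap x).hom).obj ((stalkC x).obj F)) :=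
  (DRing.restrictD (f.stalkMap x).hom).mapIso ((stalkFun x).mapDerivedCategoryFactors.app F) ≪≫
    restrictQIso (f.stalkMap x).hom ((stalkC x).obj F)

/-- tor amplitude at a point, for an object of the derived category -/
def TAAt (f : X ⟶ Y) (a b : ℤ) (K : DCoh.D X) (x : X) : Prop :=
  DRing.HasTorAmplitudeIn (Y.presheaf.stalk (f.base x)) a b ((sD f x).obj K)

lemma hasTorAmplitudeAt_iff_tAAt (f : X ⟶ Y) (F : CochainComplex X.Modules ℤ) (a b : ℤ) (x : X) :
    DerSch.HasTorAmplitudeAt f a b F x ↔ TAAt f a b (DCoh.toD X F) x := by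
  rw [hasTorAmplitudeAt_iff]
  exact ⟨hasTorAmp_of_iso (sDQIso f x F).symm, hasTorAmp_of_iso (sDQIso f x F)⟩

variable {f : X ⟶ Y} {a b : ℤ} {x : X}

lemma TAAt.of_iso {K K' : DCoh.D X} (e : K ≅ K') (h : TAAt f a b K x) : TAAt f a b K' x :=
  hasTorAmp_of_iso ((sD f x).mapIso e) h

lemma TAAt.mono {K : DCoh.D X} {a' b' : ℤ} (ha : a' ≤ a) (hb : b ≤ b') (h : TAAt f a b K x) :
    TAAt f a' b' K x :=
  hasTorAmp_mono ha hb h

lemma TAAt.shift {K : DCoh.D X} (h : TAAt f a b K x) (n a' b' : ℤ) (ha : a' + n = a)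
    (hb : b' + n = b) : TAAt f a' b' (K⟦n⟧) x :=
  hasTorAmp_of_iso (((sD f x).commShiftIso n).app K).symm (hasTorAmp_shift h n a' b' ha hb)

lemma TAAt.obj₂ (T : Triangle (DCoh.D X)) (hT : T ∈ distTriang _) (h₁ : TAAt f a b T.obj₁ x)
    (h₃ : TAAt f a b T.obj₃ x) : TAAt f a b T.obj₂ x :=
  (hasTorAmp_two_out_of_three a b _ ((sD f x).map_distinguished T hT)).2.1 h₁ h₃

lemma TAAt.of_retract {K L : DCoh.D X} (ι : K ⟶ L) (π : L ⟶ K) (h : ι ≫ π = 𝟙 K)
    (hL : TAAt f a b L x) : TAAt f a b K x :=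
  hasTorAmp_of_retract _ _ ((sD f x).map ι) ((sD f x).map π)
    (by rw [← Functor.map_comp, h, CategoryTheory.Functor.map_id]) a b hL

lemma TAAt.of_isZero {K : DCoh.D X} (hK : IsZero K) : TAAt f a b K x :=
  hasTorAmp_of_isZero _ ((sD f x).map_isZero hK) a b


/-- locally bounded stalkwise tor amplitude over the base -/
def LocTA (f : X ⟶ Y) (K : DCoh.D X) : Prop :=
  ∀ x : X, ∃ (V : X.Opens) (a b : ℤ), x ∈ V ∧ ∀ y ∈ V, TAAt f a b K y

lemma LocTA.of_iso {K K' : DCoh.D X} (e : K ≅ K') (h : LocTA f K) : LocTA f K' := by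
  intro x
  obtain ⟨V, a, b, hxV, hV⟩ := h x
  exact ⟨V, a, b, hxV, fun y hy => (hV y hy).of_iso e⟩

lemma LocTA.shift {K : DCoh.D X} (h : LocTA f K) (n : ℤ) : LocTA f (K⟦n⟧) := by
  intro x
  obtain ⟨V, a, b, hxV, hV⟩ := h x
  exact ⟨V, a - n, b - n, hxV, fun y hy => (hV y hy).shift n _ _ (by lia) (by lia)⟩

lemma LocTA.obj₂ (T : Triangle (DCoh.D X)) (hT : T ∈ distTriang _) (h₁ : LocTA f T.obj₁)
    (h₃ : LocTA f T.obj₃) : LocTA f T.obj₂ := by
  intro x
  obtain ⟨V₁, a₁, b₁, hxV₁, hV₁⟩ := h₁ x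
  obtain ⟨V₃, a₃, b₃, hxV₃, hV₃⟩ := h₃ x
  refine ⟨V₁ ⊓ V₃, min a₁ a₃, max b₁ b₃, ⟨hxV₁, hxV₃⟩, fun y hy => ?_⟩
  exact TAAt.obj₂ T hT ((hV₁ y hy.1).mono (min_le_left _ _) (le_max_left _ _))
    ((hV₃ y hy.2).mono (min_le_right _ _) (le_max_right _ _))

lemma LocTA.of_retract {K L : DCoh.D X} (ι : K ⟶ L) (π : L ⟶ K) (h : ι ≫ π = 𝟙 K)
    (hL : LocTA f L) : LocTA f K := by
  intro x
  obtain ⟨V, a, b, hxV, hV⟩ := hL x
  exact ⟨V, a, b, hxV, fun y hy => (hV y hy).of_retract ι π h⟩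

lemma LocTA.of_isZero {K : DCoh.D X} (hK : IsZero K) : LocTA f K :=
  fun _ => ⟨⊤, 0, 0, trivial, fun _ _ => TAAt.of_isZero hK⟩

/-- locally represented by bounded complexes flat over the base ⟹ locally bounded stalkwise tor
amplitude -/
theorem locTA_of_locHasFiniteRelTorDim (f : X ⟶ Y) (K : DCoh.D X)
    (h : DCoh.LocHasFiniteRelTorDim f K) : LocTA f K := by
  intro x
  obtain ⟨V, a, b, hxV, hV⟩ := h x
  let F₀ : CochainComplex X.Modules ℤ := DerivedCategory.Q.objPreimage K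
  let e₀ : DCoh.toD X F₀ ≅ K := DerivedCategory.Q.objObjPreimageIso K
  obtain ⟨E, hE, hEf, ⟨eE⟩⟩ := hV F₀ ⟨e₀⟩
  refine ⟨V, a, b, hxV, fun y hy => ?_⟩
  have h1 : DerSch.HasTorAmplitude (V.ι ≫ f) a b E :=
    hasTorAmplitude_of_termwise_flat (V.ι ≫ f) E a b hE hEf
  have h2 : DerSch.HasTorAmplitude (V.ι ≫ f) a b ((resC V.ι).obj F₀) :=
    hasTorAmplitude_of_iso (V.ι ≫ f) eE a b h1
  have h3 : DerSch.HasTorAmplitudeAt f a b F₀ y :=
    (hasTorAmplitudeAt_resC_iff V.ι f F₀ a b ⟨y, hy⟩).1 (h2 ⟨y, hy⟩)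
  exact ((hasTorAmplitudeAt_iff_tAAt f F₀ a b y).1 h3).of_iso e₀

/-- finite locally free modules are flat over the base of a flat morphism -/
lemma isFlatOverAt_of_isFinLocFree (g : X ⟶ Y) [Flat g] (M : X.Modules)
    (hM : FlatMod.IsFinLocFree M) (y : X) : FlatMod.IsFlatOverAt g M y := by
  have h1 : Module.Flat (X.presheaf.stalk y) (M.presheaf.stalk y) := isFlat_of_isFinLocFree' M hM y
  have h2 : (g.stalkMap y).hom.Flat := Flat.stalkMap g y
  letI : Algebra (Y.presheaf.stalk (g.base y)) (X.presheaf.stalk y) :=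
    (g.stalkMap y).hom.toAlgebra
  letI := FlatMod.moduleStalkOver g M y
  haveI : IsScalarTower (Y.presheaf.stalk (g.base y)) (X.presheaf.stalk y)
      (M.presheaf.stalk y) := IsScalarTower.of_algebraMap_smul (fun r m => rfl)
  haveI : Module.Flat (Y.presheaf.stalk (g.base y)) (X.presheaf.stalk y) := h2
  exact Module.Flat.trans _ (X.presheaf.stalk y) _

lemma isFlatOverAt_of_isZero (g : X ⟶ Y) (M : X.Modules) (hM : IsZero M) (y : X) :
    FlatMod.IsFlatOverAt g M y := by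
  rw [isFlatOverAt_iff_flat_stalkOver]
  have := ModuleCat.subsingleton_of_isZero ((DerSch.stalkOver g y).map_isZero hM)
  infer_instance

/-- stalkwise tor amplitude `≥ a` forces `K ∈ D^{≥ a}` -/
lemma isGE_of_forall_tAAt (g : X ⟶ Y) (K : DCoh.D X) (a b : ℤ) (hK : ∀ y : X, TAAt g a b K y) :
    K.IsGE a := by
  let F₀ : CochainComplex X.Modules ℤ := DerivedCategory.Q.objPreimage K
  let e₀ : DCoh.toD X F₀ ≅ K := DerivedCategory.Q.objObjPreimageIso K
  have hF : F₀.IsGE a := by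
    rw [CochainComplex.isGE_iff]
    intro i hi
    rw [HomologicalComplex.exactAt_iff_isZero_homology]
    refine isZero_of_forall_isZero_stalk _ (fun y => ?_)
    have h1 : DerSch.HasTorAmplitudeAt g a b F₀ y :=
      (hasTorAmplitudeAt_iff_tAAt g F₀ a b y).2 ((hK y).of_iso e₀.symm)
    rw [hasTorAmplitudeAt_iff] at h1
    obtain ⟨E₀, hE₀, -, ⟨e⟩⟩ := h1
    have h2 : ((DRing.restrictCx (g.stalkMap y).hom).obj ((stalkC y).obj F₀)).ExactAt i :=
      exactAt_of_Q_iso e i (exactAt_of_isZero_X E₀ i (hE₀ i (Or.inl hi)))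
    have h3 : ((stalkC y).obj F₀).ExactAt i := (exactAt_restrict_iff _ _ i).1 h2
    rw [HomologicalComplex.exactAt_iff_isZero_homology] at h3
    exact IsZero.of_iso h3 ((F₀.sc i).mapHomologyIso (stalkFun y)).symm
  have : (DerivedCategory.Q.obj F₀).IsGE a := (DerivedCategory.isGE_Q_obj_iff _ _).2 hF
  exact DerivedCategory.TStructure.t.isGE_of_iso e₀ a

/-- the truncation of a local strictly perfect approximation is a bounded complex of modules
flat over the base -/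
theorem hasRelFlatAmplitudeIn_of_presM (g : X ⟶ Y) [Flat g] (K : DCoh.D X)
    (P : CochainComplex X.Modules ℤ) (hP : DCoh.IsStrictlyPerfect P) (a b : ℤ)
    (α : DerivedCategory.Q.obj P ⟶ K) (hα : PropM (a - 1) α) (hK : ∀ y : X, TAAt g a b K y) :
    ∃ b' : ℤ, DCoh.HasRelFlatAmplitudeIn g a b' K := by
  haveI := isGE_of_forall_tAAt g K a b hK
  obtain ⟨β⟩ := nonempty_iso_truncGE P K a α (fun i hi => hα.1 i (by lia))
  obtain ⟨⟨aP, bP, hPv⟩, hPf⟩ := hP
  have hEv : DCoh.VanishesOutside (P.truncGE a) a (max bP a) := by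
    intro i hi
    rcases hi with hi | hi
    · exact (P.truncGE a).isZero_of_isStrictlyGE a i hi
    · have hi1 : a < i := lt_of_le_of_lt (le_max_right _ _) hi
      have hi2 : bP < i := lt_of_le_of_lt (le_max_left _ _) hi
      exact (hPv i (Or.inr hi2)).of_iso (P.truncGEXIso a i hi1)
  have hTA : ∀ y : X, DerSch.HasTorAmplitudeAt g a b (P.truncGE a) y := fun y =>
    (hasTorAmplitudeAt_iff_tAAt g _ a b y).2 ((hK y).of_iso β.symm)
  have hfl_above : ∀ i : ℤ, a < i → ∀ y : X, FlatMod.IsFlatOverAt g ((P.truncGE a).X i) y :=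
    fun i hi y => Groth.Agent.Lib.Helper26.FlatLim.isFlatOverAt_of_iso g
      (P.truncGEXIso a i hi).symm y (isFlatOverAt_of_isFinLocFree g _ (hPf i) y)
  refine ⟨max bP a, P.truncGE a, hEv, fun i y => ?_, ⟨β⟩⟩
  obtain hi | rfl | hi := lt_trichotomy i a
  · exact isFlatOverAt_of_isZero g _ (hEv i (Or.inl hi)) y
  · rw [isFlatOverAt_iff_flat_stalkOver]
    refine flat_of_hasTorAmp_of_flat_above ((DerSch.stalkCxOver g y).obj (P.truncGE i)) i b
      (max bP i) ?_ ?_ ?_ (hTA y)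
    · intro j hj
      exact (DerSch.stalkOver g y).map_isZero (hEv j (Or.inr hj))
    · intro j hj
      exact (DerSch.stalkOver g y).map_isZero (hEv j (Or.inl hj))
    · intro j hj
      exact (isFlatOverAt_iff_flat_stalkOver g _ y).1 (hfl_above j hj y)
  · exact hfl_above i hi y

end Groth.Agent.Lib.Helper1.TQ
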