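import Mathlib
import Groth.Agent.Lib.Helper1RelTriC
import Groth.Agent.Lib.Helper1PC17
set_option backward.isDefEq.respectTransparency.types false
set_option autoImplicit false
set_option linter.style.haveILetI false
set_option maxHeartbeats 400000
universe u
open CategoryTheory CategoryTheory.Limits AlgebraicGeometry HomologicalComplex Pretriangulated ZeroObject

attribute [local instance] HasDerivedCategory.standard

namespace Groth.Agent.Lib.Helper1.TQ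

open Groth.Agent.Lib.Helper1.Sky Groth.Agent.Lib.Helper1.StalkTensor Groth.Agent.Lib.Helper1.KBC
  Groth.Agent.Lib.Helper1.Tor Groth.Agent.Lib.Helper1.BKF Groth.Agent.Lib.Helper1.CI
  Groth.Agent.Lib.Helper1.SPL Groth.Agent.Lib.Helper1.Extend Groth.Agent.Lib.Helper1.RelPC
  Groth.Agent.Lib.Helper1.Restrict Groth.Agent.Lib.Helper1.RelTri Groth.Agent.Lib.Helper1.ChartInd

variable {X Y : Scheme.{u}}

/-- pseudo-coherent + locally bounded stalkwise tor amplitude ⟹ locally represented by bounded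
complexes of modules flat over the base -/
theorem locHasFiniteRelTorDim_of_locTA (f : X ⟶ Y) [Flat f] (K : DCoh.D X)
    (hpc : ∀ m : ℤ, DCoh.IsPseudoCoherentD m K) (h : LocTA f K) :
    DCoh.LocHasFiniteRelTorDim f K := by
  intro x
  obtain ⟨V, a, b, hxV, hV⟩ := h x
  have hpres : HasPresM (a - 1) K x :=
    (isPseudoCoherentD_iff_hasPresM (a - 1) K).1 (hpc (a - 1)) x
  obtain ⟨V₁, hxV₁, hV₁⟩ := hpres.exists_opens_le
  obtain ⟨P, α, hP, hα⟩ := hV₁ (V ⊓ V₁) inf_le_right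
  let F₀ : CochainComplex X.Modules ℤ := DerivedCategory.Q.objPreimage K
  let e₀ : DCoh.toD X F₀ ≅ K := DerivedCategory.Q.objObjPreimageIso K
  have hK' : ∀ y : ((V ⊓ V₁ : X.Opens) : Scheme.{u}),
      TAAt ((V ⊓ V₁).ι ≫ f) a b ((resD (V ⊓ V₁).ι).obj K) y := by
    intro y
    have h1 : DerSch.HasTorAmplitudeAt f a b F₀ ((V ⊓ V₁).ι.base y) :=
      (hasTorAmplitudeAt_iff_tAAt f F₀ a b _).2 ((hV _ y.2.1).of_iso e₀.symm)
    have h2 := (hasTorAmplitudeAt_resC_iff (V ⊓ V₁).ι f F₀ a b y).2 h1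
    have h3 := (hasTorAmplitudeAt_iff_tAAt ((V ⊓ V₁).ι ≫ f) _ a b y).1 h2
    exact h3.of_iso (((facD (V ⊓ V₁).ι).app F₀).symm ≪≫ (resD (V ⊓ V₁).ι).mapIso e₀)
  obtain ⟨b', E, hE, hEf, ⟨eE⟩⟩ :=
    hasRelFlatAmplitudeIn_of_presM ((V ⊓ V₁).ι ≫ f) _ P hP a b α hα hK'
  refine ⟨V ⊓ V₁, a, b', ⟨hxV, hxV₁⟩, fun F' hF' => ?_⟩
  obtain ⟨eF'⟩ := hF'
  exact ⟨E, hE, hEf,
    ⟨eE ≪≫ (resD (V ⊓ V₁).ι).mapIso eF'.symm ≪≫ (facD (V ⊓ V₁).ι).app F'⟩⟩

/-- for pseudo-coherent objects, `LocHasFiniteRelTorDim` is locally bounded stalkwise tor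
amplitude -/
theorem locHasFiniteRelTorDim_iff_locTA (f : X ⟶ Y) [Flat f] (K : DCoh.D X)
    (hpc : ∀ m : ℤ, DCoh.IsPseudoCoherentD m K) :
    DCoh.LocHasFiniteRelTorDim f K ↔ LocTA f K :=
  ⟨locTA_of_locHasFiniteRelTorDim f K, locHasFiniteRelTorDim_of_locTA f K hpc⟩

lemma isPseudoCoherentD_of_iso' {K K' : DCoh.D X} (e : K ≅ K') (m : ℤ)
    (h : DCoh.IsPseudoCoherentD m K) : DCoh.IsPseudoCoherentD m K' := by
  rw [isPseudoCoherentD_iff_hasPresM] at h ⊢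
  exact fun x => (h x).of_iso e

lemma isPseudoCoherentD_shift' {K : DCoh.D X} (n : ℤ)
    (h : ∀ m : ℤ, DCoh.IsPseudoCoherentD m K) (m : ℤ) : DCoh.IsPseudoCoherentD m (K⟦n⟧) := by
  have h' := h (n + m)
  rw [isPseudoCoherentD_iff_hasPresM] at h' ⊢
  exact fun x => hasPresM_shift (n + m) n m rfl K x (h' x)

lemma isPseudoCoherentD_of_retract' {K L : DCoh.D X} (ι : K ⟶ L) (π : L ⟶ K) (h : ι ≫ π = 𝟙 K)
    (m : ℤ) (hL : DCoh.IsPseudoCoherentD m L) : DCoh.IsPseudoCoherentD m K := by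
  obtain ⟨Z, g, δ, hT⟩ := distinguished_cocone_triangle ι
  haveI : IsSplitMono ι := ⟨⟨⟨π, h⟩⟩⟩
  have h0 : (Triangle.mk ι g δ).mor₃ = 0 :=
    Triangle.mor₃_eq_zero_of_mono₁ _ hT (show Mono ι from inferInstance)
  obtain ⟨e, -, -⟩ := exists_iso_binaryBiproduct_of_distTriang _ hT h0
  exact (isPseudoCoherentD_of_biprod m K Z (isPseudoCoherentD_of_iso' e m hL)).1

/-- S7250: relatively perfect objects form a saturated triangulated subcategory -/
theorem relPerfect_isTriangulated (f : X ⟶ Y) [Flat f] :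
    ObjectProperty.IsTriangulated (fun E : DCoh.D X =>
      (∀ m : ℤ, DCoh.IsPseudoCoherentD m E) ∧ DCoh.LocHasFiniteRelTorDim f E) ∧
    ObjectProperty.IsStableUnderRetracts (fun E : DCoh.D X =>
      (∀ m : ℤ, DCoh.IsPseudoCoherentD m E) ∧ DCoh.LocHasFiniteRelTorDim f E) := by
  refine ⟨{ exists_zero := ?_, isStableUnderShiftBy := fun n => ⟨?_⟩, ext₂' := ?_ }, ⟨?_⟩⟩
  · have hz : IsZero (0 : DCoh.D X) := isZero_zero _
    have hpc : ∀ m : ℤ, DCoh.IsPseudoCoherentD m (0 : DCoh.D X) := fun m =>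
      isPseudoCoherentD_of_isZero_homology _ m
        (fun i _ => (DerivedCategory.homologyFunctor _ i).map_isZero hz)
    exact ⟨0, hz, hpc, locHasFiniteRelTorDim_of_locTA f _ hpc (LocTA.of_isZero hz)⟩
  · intro K hK
    have hpc := isPseudoCoherentD_shift' n hK.1
    exact ⟨hpc, locHasFiniteRelTorDim_of_locTA f _ hpc
      ((locTA_of_locHasFiniteRelTorDim f K hK.2).shift n)⟩
  · intro T hT h₁ h₃
    refine ObjectProperty.le_isoClosure _ _ ?_
    have hpc : ∀ m : ℤ, DCoh.IsPseudoCoherentD m T.obj₂ := fun m =>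
      (isPseudoCoherentD_triangle m T hT).2.1 (h₁.1 m) (h₃.1 m)
    exact ⟨hpc, locHasFiniteRelTorDim_of_locTA f _ hpc
      (LocTA.obj₂ T hT (locTA_of_locHasFiniteRelTorDim f _ h₁.2)
        (locTA_of_locHasFiniteRelTorDim f _ h₃.2))⟩
  · intro K L hr hL
    have hpc : ∀ m : ℤ, DCoh.IsPseudoCoherentD m K := fun m =>
      isPseudoCoherentD_of_retract' hr.i hr.r hr.retract m (hL.1 m)
    exact ⟨hpc, locHasFiniteRelTorDim_of_locTA f _ hpc
      ((locTA_of_locHasFiniteRelTorDim f L hL.2).of_retract hr.i hr.r hr.retract)⟩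

end Groth.Agent.Lib.Helper1.TQ
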