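import Mathlib
import Groth.Agent.Lib.Helper1BKF12
import Groth.Agent.Lib.Helper1PC3
set_option backward.isDefEq.respectTransparency.types false
set_option autoImplicit false
set_option linter.style.haveILetI false
set_option maxHeartbeats 400000
universe w v u u'

/-!
# Degreewise control of cone functors (helper1)

For a functor `G` on cochain complexes which behaves well with respect to cones, the homology
of `G (cone f)` in degree `j` vanishes iff `H^j (G f)` is an epimorphism and `H^{j+1} (G f)` is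
a monomorphism.
-/

open CategoryTheory CategoryTheory.Limits HomologicalComplex

namespace Groth.Agent.Lib.Helper1.KF

section les

variable {C : Type*} [Category C] [Abelian C]

lemma isZero_homology_X₂_iff {S₁ S₂ : ShortComplex (CochainComplex C ℤ)} (φ : S₁ ⟶ S₂)
    (hS₁ : S₁.ShortExact) (hS₂ : S₂.ShortExact)
    (h₁ : ∀ i, IsZero (S₁.X₂.homology i)) [QuasiIso φ.τ₃] (j : ℤ) :
    IsZero (S₂.X₂.homology j) ↔
      Epi (homologyMap φ.τ₁ j) ∧ Mono (homologyMap φ.τ₁ (j + 1)) := by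
  have hr1 : (ComplexShape.up ℤ).Rel (j - 1) j := by simp
  have hr2 : (ComplexShape.up ℤ).Rel j (j + 1) := by simp
  have n1 := HomologySequence.δ_naturality φ hS₁ hS₂ (j - 1) j hr1
  have n2 := HomologySequence.δ_naturality φ hS₁ hS₂ j (j + 1) hr2
  haveI i1 := hS₁.isIso_δ (j - 1) j hr1 (h₁ _) (h₁ _)
  haveI i2 := hS₁.isIso_δ j (j + 1) hr2 (h₁ _) (h₁ _)
  haveI t3 : ∀ k, IsIso (homologyMap φ.τ₃ k) := fun k => by
    rw [← quasiIsoAt_iff_isIso_homologyMap]
    infer_instance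
  have e1 : homologyMap φ.τ₁ j =
      inv (hS₁.δ (j - 1) j hr1) ≫ homologyMap φ.τ₃ (j - 1) ≫ hS₂.δ (j - 1) j hr1 := by
    rw [← n1]; simp
  have e2 : homologyMap φ.τ₁ (j + 1) =
      inv (hS₁.δ j (j + 1) hr2) ≫ homologyMap φ.τ₃ j ≫ hS₂.δ j (j + 1) hr2 := by
    rw [← n2]; simp
  have d1 : hS₂.δ (j - 1) j hr1 =
      inv (homologyMap φ.τ₃ (j - 1)) ≫ hS₁.δ (j - 1) j hr1 ≫ homologyMap φ.τ₁ j := by
    rw [e1]; simp
  have d2 : hS₂.δ j (j + 1) hr2 =
      inv (homologyMap φ.τ₃ j) ≫ hS₁.δ j (j + 1) hr2 ≫ homologyMap φ.τ₁ (j + 1) := by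
    rw [e2]; simp
  constructor
  · intro hz
    haveI := hS₂.epi_δ (j - 1) j hr1 hz
    haveI := hS₂.mono_δ j (j + 1) hr2 hz
    constructor
    · rw [e1]; infer_instance
    · rw [e2]; infer_instance
  · rintro ⟨he, hm⟩
    haveI : Epi (hS₂.δ (j - 1) j hr1) := by rw [d1]; infer_instance
    haveI : Mono (hS₂.δ j (j + 1) hr2) := by rw [d2]; infer_instance
    have z1 : homologyMap S₂.f j = 0 := by
      rw [← cancel_epi (hS₂.δ (j - 1) j hr1), hS₂.δ_comp, comp_zero]
    have z2 : homologyMap S₂.g j = 0 := by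
      rw [← cancel_mono (hS₂.δ j (j + 1) hr2), hS₂.comp_δ, zero_comp]
    exact (hS₂.homology_exact₂ j).isZero_of_both_zeros z1 z2

end les

end Groth.Agent.Lib.Helper1.KF

namespace Groth.Agent.Lib.Helper1.BKF

namespace ConeFunctor

open CochainComplex

variable {A B : Type*} [Category A] [Category B] [Abelian A] [Abelian B]
  {G : CochainComplex A ℤ ⥤ CochainComplex B ℤ} [G.PreservesZeroMorphisms] (hG : ConeFunctor G)
  {X Y : CochainComplex A ℤ} (f : X ⟶ Y)

include hG

/-- degreewise version of `quasiIso_map_of_acyc_cone` and `acyc_cone_of_quasiIso_map` -/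
theorem isZero_homology_cone_iff (j : ℤ) :
    IsZero ((G.obj (mappingCone f)).homology j) ↔
      Epi (homologyMap (G.map f) j) ∧ Mono (homologyMap (G.map f) (j + 1)) := by
  let ψ := G.mapShortComplex.map (coneMap f)
  haveI hτ₃ : QuasiIso ψ.τ₃ := by
    have e : ψ.τ₃ = 𝟙 (G.obj (X⟦(1 : ℤ)⟧)) := by
      show G.map (coneMap f).τ₃ = 𝟙 _
      rw [coneMap_τ₃]
      exact G.map_id _
    have h : QuasiIso (𝟙 (G.obj (X⟦(1 : ℤ)⟧))) := inferInstance
    rw [e]; exact h
  exact KF.isZero_homology_X₂_iff ψ (hG.cone_shortExact (𝟙 X)) (hG.cone_shortExact f)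
    (hG.coneId X) j

end ConeFunctor

end Groth.Agent.Lib.Helper1.BKF
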