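import Mathlib
import Groth.Agent.Lib.Helper1TensPCA
import Groth.Agent.Lib.Helper1LDer2
set_option backward.isDefEq.respectTransparency.types false
set_option autoImplicit false
set_option linter.style.haveILetI false
set_option maxHeartbeats 400000
universe w v u u'

/-!
# Tensoring a presentation with a bounded above K-flat complex (helper1)
-/

open CategoryTheory CategoryTheory.Limits HomologicalComplex

namespace Groth.Agent.Lib.Helper1.BKF

open Groth.Agent.Lib.Helper1.Sky Groth.Agent.Lib.Helper1.SPL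

section abstract

variable {A : Type u'} [Category.{v} A] [Abelian A] [HasDerivedCategory.{w} A]

lemma propM_Q_map_iff {K L : CochainComplex A ℤ} (g : K ⟶ L) (m : ℤ) :
    PropM m (DerivedCategory.Q.map g) ↔
      (∀ i : ℤ, m < i → IsIso (homologyMap g i)) ∧ Epi (homologyMap g m) := by
  have e : ∀ i : ℤ, Arrow.mk ((DerivedCategory.homologyFunctor A i).map (DerivedCategory.Q.map g)) ≅
      Arrow.mk (homologyMap g i) := fun i =>
    Arrow.isoOfNatIso (DerivedCategory.homologyFunctorFactors A i) (Arrow.mk g)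
  have h1 : ∀ i : ℤ, IsIso ((DerivedCategory.homologyFunctor A i).map (DerivedCategory.Q.map g)) ↔
      IsIso (homologyMap g i) := fun i =>
    (MorphismProperty.isomorphisms A).arrow_mk_iso_iff (e i)
  have h2 : ∀ i : ℤ, Epi ((DerivedCategory.homologyFunctor A i).map (DerivedCategory.Q.map g)) ↔
      Epi (homologyMap g i) := fun i =>
    (MorphismProperty.epimorphisms A).arrow_mk_iso_iff (e i)
  constructor
  · rintro ⟨a, b⟩
    exact ⟨fun i hi => (h1 i).1 (a i hi), (h2 m).1 b⟩
  · rintro ⟨a, b⟩
    exact ⟨fun i hi => (h1 i).2 (a i hi), (h2 m).2 b⟩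

lemma propM_iff_of_forall_iff {K L : CochainComplex A ℤ} (g : K ⟶ L) (Z : ℤ → Prop)
    (hZ : ∀ j : ℤ, Z j ↔ Epi (homologyMap g j) ∧ Mono (homologyMap g (j + 1))) (m : ℤ) :
    PropM m (DerivedCategory.Q.map g) ↔ ∀ j : ℤ, m ≤ j → Z j := by
  rw [propM_Q_map_iff]
  constructor
  · rintro ⟨a, b⟩ j hj
    rw [hZ]
    constructor
    · obtain rfl | hj' := eq_or_lt_of_le hj
      · exact b
      · haveI := a j hj'
        infer_instance
    · haveI := a (j + 1) (by omega)
      infer_instance
  · intro h
    refine ⟨fun i hi => ?_, ((hZ m).1 (h m le_rfl)).1⟩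
    haveI : Epi (homologyMap g i) := ((hZ i).1 (h i hi.le)).1
    haveI : Mono (homologyMap g i) := by
      have := ((hZ (i - 1)).1 (h (i - 1) (by omega))).2
      rwa [sub_add_cancel] at this
    exact isIso_of_mono_of_epi _

/-- `f` is an isomorphism on `H^i`, `i > m`, and an epimorphism on `H^m` iff its cone has no
cohomology in degrees `≥ m` -/
theorem propM_iff_isZero_homology_cone {X Y : CochainComplex A ℤ} (f : X ⟶ Y) (m : ℤ) :
    PropM m (DerivedCategory.Q.map f) ↔
      ∀ j : ℤ, m ≤ j → IsZero ((CochainComplex.mappingCone f).homology j) := by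
  refine propM_iff_of_forall_iff f _ (fun j => ?_) m
  haveI := quasiIso_coneMap_τ₃ f
  exact KF.isZero_homology_X₂_iff (coneMap f) (coneSES_shortExact _) (coneSES_shortExact _)
    (acyc_cone_id X) j

end abstract

section conefunctor

variable {A : Type u'} [Category.{v} A] [Abelian A] {B : Type u'} [Category.{v} B] [Abelian B]
  [HasDerivedCategory.{w} B]
  {G : CochainComplex A ℤ ⥤ CochainComplex B ℤ} [G.PreservesZeroMorphisms]

theorem ConeFunctor.propM_iff (hG : ConeFunctor G) {X Y : CochainComplex A ℤ} (f : X ⟶ Y) (m : ℤ) :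
    PropM m (DerivedCategory.Q.map (G.map f)) ↔
      ∀ j : ℤ, m ≤ j → IsZero ((G.obj (CochainComplex.mappingCone f)).homology j) :=
  propM_iff_of_forall_iff (G.map f) _ (fun j => hG.isZero_homology_cone_iff f j) m

end conefunctor

section site

variable {C : Type u} [SmallCategory C] {J : GrothendieckTopology C} (O : Sheaf J CommRingCat.{u})

attribute [local instance] HasDerivedCategory.standard

/-- tensoring with a K-flat complex `E` concentrated in degrees `≤ b` shifts the range of a
presentation by `b` -/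
theorem propM_TL_map (E : CochainComplex (ModSite.Mod O) ℤ) (hE : ModSite.IsKFlat E) (b : ℤ)
    (hEb : ∀ p : ℤ, b < p → IsZero (E.X p)) {P N : CochainComplex (ModSite.Mod O) ℤ} (β : P ⟶ N)
    (m : ℤ) (hβ : PropM m (DerivedCategory.Q.map β)) :
    PropM (m + b) (DerivedCategory.Q.map ((TL (ModSite.tensorBi O) E).map β)) := by
  rw [(coneFunctor_TL_site O E).propM_iff]
  rw [propM_iff_isZero_homology_cone] at hβ
  set Cn := CochainComplex.mappingCone β with hCn
  haveI : Cn.IsLE (m - 1) := by
    rw [CochainComplex.isLE_iff]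
    intro i hi
    rw [exactAt_iff_isZero_homology]
    exact hβ i (by omega)
  haveI hq : QuasiIso (Cn.ιTruncLE (m - 1)) :=
    (CochainComplex.quasiIso_ιTruncLE_iff _ _).2 inferInstance
  have hq2 : QuasiIso ((TL (ModSite.tensorBi O) E).map (Cn.ιTruncLE (m - 1))) :=
    quasiIso_TL_map_of_isKFlat E hE (Cn.ιTruncLE (m - 1))
  intro j hj
  haveI : IsIso (homologyMap ((TL (ModSite.tensorBi O) E).map (Cn.ιTruncLE (m - 1))) j) := by
    rw [← quasiIsoAt_iff_isIso_homologyMap]
    exact hq2.quasiIsoAt j
  refine IsZero.of_iso ?_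
    (asIso (homologyMap ((TL (ModSite.tensorBi O) E).map (Cn.ιTruncLE (m - 1))) j)).symm
  refine ShortComplex.isZero_homology_of_isZero_X₂ _ ?_
  refine prop_mapBifunctor_X (ModSite.tensorBi O) IsZero
    (fun I X c hc h => isZero_of_isColimit_cofan X c hc h) E (Cn.truncLE (m - 1)) j
    (fun p q hpq => ?_)
  by_cases hp : b < p
  · exact ((ModSite.tensorBi O).flip.obj ((Cn.truncLE (m - 1)).X q)).map_isZero (hEb p hp)
  · exact ((ModSite.tensorBi O).obj (E.X p)).map_isZero
      (CochainComplex.isZero_of_isStrictlyLE (Cn.truncLE (m - 1)) (m - 1) q (by omega))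

end site

end Groth.Agent.Lib.Helper1.BKF
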