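import Mathlib
import Groth.Agent.Lib.Helper1TensPCB
import Groth.Agent.Lib.Helper1FLF2
import Groth.Agent.Lib.Helper1PC14
import Groth.Agent.Lib.Helper1TorT5
import Groth.Agent.Lib.Helper1RelTriD
set_option backward.isDefEq.respectTransparency.types false
set_option autoImplicit false
set_option linter.style.haveILetI false
set_option maxHeartbeats 400000
universe u

/-!
# The derived tensor product of a perfect object and a relatively perfect object (helper1)
-/

open CategoryTheory CategoryTheory.Limits AlgebraicGeometry HomologicalComplex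
attribute [local instance] HasDerivedCategory.standard

namespace Groth.Agent.Lib.Helper1.TQ

open Groth.Agent.Lib.Helper1.Sky Groth.Agent.Lib.Helper1.StalkTensor Groth.Agent.Lib.Helper1.KBC
  Groth.Agent.Lib.Helper1.Tor Groth.Agent.Lib.Helper1.BKF Groth.Agent.Lib.Helper1.CI
  Groth.Agent.Lib.Helper1.SPL Groth.Agent.Lib.Helper1.Extend Groth.Agent.Lib.Helper1.RelPC
  Groth.Agent.Lib.Helper1.Restrict Groth.Agent.Lib.Helper1.RelTri Groth.Agent.Lib.Helper1.FLF
  Groth.Agent.Lib.Helper1.PT Groth.Agent.Lib.Helper1.TorT Groth.Agent.Lib.Helper1.LDer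

section site

variable {C : Type u} [SmallCategory C] {J : GrothendieckTopology C} (O : Sheaf J CommRingCat.{u})

/-- the class of `A ⊗ B` only depends on the class of the K-flat complex `A` -/
theorem nonempty_Q_tensor_iso_left_site (A A' B : CochainComplex (ModSite.Mod O) ℤ)
    (hA : ModSite.IsKFlat A) (hA' : ModSite.IsKFlat A')
    (eA : DerivedCategory.Q.obj A ≅ DerivedCategory.Q.obj A') :
    Nonempty (DerivedCategory.Q.obj (((ModSite.tensorCx O).obj A).obj B) ≅
      DerivedCategory.Q.obj (((ModSite.tensorCx O).obj A').obj B)) := by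
  obtain ⟨B₀, q, hB₀, -, hq, -⟩ := exists_kflat_flat_resolution O B
  haveI : QuasiIso q := hq
  have h1 : QuasiIso ((TL (ModSite.tensorBi O) A).map q) := quasiIso_TL_map_of_isKFlat A hA q
  have h2 : QuasiIso ((TL (ModSite.tensorBi O) A').map q) := quasiIso_TL_map_of_isKFlat A' hA' q
  haveI i1 : IsIso (DerivedCategory.Q.map ((TL (ModSite.tensorBi O) A).map q)) := by
    rw [DerivedCategory.isIso_Q_map_iff_quasiIso]; exact h1
  haveI i2 : IsIso (DerivedCategory.Q.map ((TL (ModSite.tensorBi O) A').map q)) := by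
    rw [DerivedCategory.isIso_Q_map_iff_quasiIso]; exact h2
  obtain ⟨c⟩ := nonempty_Q_tensor_iso A A' B₀ B₀ hB₀ hA' eA (Iso.refl _)
  exact ⟨(asIso (DerivedCategory.Q.map ((TL (ModSite.tensorBi O) A).map q))).symm ≪≫ c ≪≫
    asIso (DerivedCategory.Q.map ((TL (ModSite.tensorBi O) A').map q))⟩

end site

variable {Y : Scheme.{u}}

theorem nonempty_Q_tensor_iso_left (A A' B : CochainComplex Y.Modules ℤ)
    (hA : DCoh.IsKFlat A) (hA' : DCoh.IsKFlat A')
    (eA : DerivedCategory.Q.obj A ≅ DerivedCategory.Q.obj A') :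
    Nonempty (DerivedCategory.Q.obj ((DCoh.tensorCx.obj A).obj B) ≅
      DerivedCategory.Q.obj ((DCoh.tensorCx.obj A').obj B)) :=
  nonempty_Q_tensor_iso_left_site Y.sheaf A A' B hA hA' eA

/-- restriction along an open immersion as a pullback, on complexes -/
noncomputable def resCIsoPullC {U : Scheme.{u}} (j : U ⟶ Y) [IsOpenImmersion j] :
    resC j ≅ pullC j :=
  NatIso.mapHomologicalComplex (Scheme.Modules.restrictFunctorIsoPullback j) (ComplexShape.up ℤ)

/-- restriction to an open subscheme commutes with the tensor product of complexes -/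
theorem nonempty_resC_tensor {U : Scheme.{u}} (j : U ⟶ Y) [IsOpenImmersion j]
    (E N : CochainComplex Y.Modules ℤ) :
    Nonempty ((resC j).obj ((DCoh.tensorCx.obj E).obj N) ≅
      (DCoh.tensorCx.obj ((resC j).obj E)).obj ((resC j).obj N)) := by
  obtain ⟨t⟩ := nonempty_pullTotIso j E N
  exact ⟨(resCIsoPullC j).app _ ≪≫ t ≪≫
    (DCoh.tensorCx.mapIso ((resCIsoPullC j).app E).symm).app _ ≪≫
    (DCoh.tensorCx.obj _).mapIso ((resCIsoPullC j).app N).symm⟩

lemma isKFlat_resC {U : Scheme.{u}} (j : U ⟶ Y) [IsOpenImmersion j]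
    (P : CochainComplex Y.Modules ℤ) (hP : DCoh.IsKFlat P) : DCoh.IsKFlat ((resC j).obj P) :=
  isKFlat_of_iso (O := U.sheaf) ((resCIsoPullC j).app P).symm
    (Groth.Agent.S0960.isKFlat_pullC j P hP)

end Groth.Agent.Lib.Helper1.TQ
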