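import Mathlib
import Groth.Agent.Lib.Helper1TensPCC
import Groth.Agent.Lib.Helper1LDer4
import Groth.Agent.Lib.Helper1LDer2
import Groth.Agent.Lib.Helper23QCohAbelian
import Groth.Agent.Lib.Helper23TensorQCoh
set_option backward.isDefEq.respectTransparency.types false

/-!
# helper1: the derived tensor product preserves `D_QCoh` — general tools
-/

set_option autoImplicit false
set_option linter.style.haveILetI false
set_option linter.unusedSectionVars false
set_option maxHeartbeats 400000
universe u
open CategoryTheory CategoryTheory.Limits AlgebraicGeometry HomologicalComplex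

attribute [local instance] HasDerivedCategory.standard

namespace Groth.Agent.Lib.Helper1.TensQC

open Groth.Agent.Lib.Helper1.BKF Groth.Agent.Lib.Helper1.TQ Groth.Agent.Lib.Helper1.SPL
  Groth.Agent.Lib.Helper21.ModTensor3 Groth.Agent.Lib.Helper21.ModTensor5

section site

variable {C : Type u} [SmallCategory C] {J : GrothendieckTopology C} {O : Sheaf J CommRingCat.{u}}

open Groth.Agent.Lib.Helper1 in
/-- the derived tensor product with an arbitrary complex exists -/
theorem hasLTensorCx_site (E : CochainComplex (ModSite.Mod O) ℤ) : ModSite.HasLTensorCx E := by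
  obtain ⟨R, ψ, hR⟩ := exists_functorial_kflat_flat_resolution O
  let W := HomologicalComplex.quasiIso (ModSite.Mod O) (ComplexShape.up ℤ)
  have h2 := Groth.Agent.Lib.Helper1.CI.isLeftDerivedFunctor_res W
    (DerivedCategory.Q : _ ⥤ DCoh.DMod (ModSite.ringSh O)) (ModSite.tensorCxQ E)
    (fun X => ModSite.IsKFlat X) R ψ (fun X => (hR X).1) (fun X => (hR X).2.2.1)
    (fun {X Y} f hX hY hf => by
      haveI : QuasiIso f := (HomologicalComplex.mem_quasiIso_iff f).1 hf
      haveI := quasiIso_TR_map_of_isKFlat_of_isKFlat X Y hX hY f E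
      exact inferInstanceAs (IsIso (DerivedCategory.Q.map ((TR (ModSite.tensorBi O) E).map f))))
  exact @Functor.HasLeftDerivedFunctor.mk' _ _ _ _ _ _ _ _ _ _ _ _ h2

/-- the class of `A ⊗ B` only depends on the class of `B`, for `A` K-flat -/
theorem nonempty_Q_tensor_iso_right_site (A B B' : CochainComplex (ModSite.Mod O) ℤ)
    (hA : ModSite.IsKFlat A)
    (eB : DerivedCategory.Q.obj B ≅ DerivedCategory.Q.obj B') :
    Nonempty (DerivedCategory.Q.obj (((ModSite.tensorCx O).obj A).obj B) ≅
      DerivedCategory.Q.obj (((ModSite.tensorCx O).obj A).obj B')) := by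
  let G : DCoh.DMod (ModSite.ringSh O) ⥤ DCoh.DMod (ModSite.ringSh O) :=
    Localization.lift (ModSite.tensorCxQ A) (inverts_tensorCxQ_of_isKFlat A hA) DerivedCategory.Q
  let e : DerivedCategory.Q ⋙ G ≅ ModSite.tensorCxQ A :=
    Localization.fac (ModSite.tensorCxQ A) (inverts_tensorCxQ_of_isKFlat A hA) DerivedCategory.Q
  have s2 : DerivedCategory.Q.obj (((ModSite.tensorCx O).obj B).obj A) ≅
      DerivedCategory.Q.obj (((ModSite.tensorCx O).obj B').obj A) :=
    (e.app B).symm ≪≫ G.mapIso eB ≪≫ e.app B'
  exact ⟨DerivedCategory.Q.mapIso (symIso (ModSite.tensorBi O) (brd O) A B) ≪≫ s2 ≪≫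
    DerivedCategory.Q.mapIso (symIso (ModSite.tensorBi O) (brd O) B' A)⟩

end site

variable {X : Scheme.{u}}

/-- the derived tensor product with an arbitrary complex exists -/
theorem hasLTensorCx (E : CochainComplex X.Modules ℤ) : DCoh.HasLTensorCx E :=
  hasLTensorCx_site (O := X.sheaf) E

theorem nonempty_Q_tensor_iso_right (A B B' : CochainComplex X.Modules ℤ)
    (hA : DCoh.IsKFlat A) (eB : DerivedCategory.Q.obj B ≅ DerivedCategory.Q.obj B') :
    Nonempty (DerivedCategory.Q.obj ((DCoh.tensorCx.obj A).obj B) ≅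
      DerivedCategory.Q.obj ((DCoh.tensorCx.obj A).obj B')) :=
  nonempty_Q_tensor_iso_right_site (O := X.sheaf) A B B' hA eB

section qcoh

/-- the homology of a complex with quasi-coherent terms is quasi-coherent -/
theorem isQuasicoherent_homology (K : CochainComplex X.Modules ℤ)
    (hK : ∀ n, (K.X n).IsQuasicoherent) (n : ℤ) : (K.homology n).IsQuasicoherent := by
  haveI := hK
  let S := K.sc n
  haveI : S.X₁.IsQuasicoherent := hK _
  haveI : S.X₂.IsQuasicoherent := hK _
  haveI : S.X₃.IsQuasicoherent := hK _
  haveI : (kernel S.g).IsQuasicoherent :=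
    Groth.Agent.Lib.Helper23.QCohLocal.isQuasicoherent_kernel S.g
  have h := Groth.Agent.Lib.Helper23.QCohLocal.isQuasicoherent_cokernel
    (kernel.lift S.g S.f S.zero)
  exact (SheafOfModules.isQuasicoherent X.ringCatSheaf).prop_of_iso
    S.homologyIsoCokernelLift.symm h

/-- a complex with quasi-coherent terms lies in `D_QCoh` -/
theorem isQCohD_Q_of_terms (K : CochainComplex X.Modules ℤ)
    (hK : ∀ n, (K.X n).IsQuasicoherent) : DCoh.IsQCohD (DerivedCategory.Q.obj K) := by
  intro n
  have h := isQuasicoherent_homology K hK n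
  exact (SheafOfModules.isQuasicoherent X.ringCatSheaf).prop_of_iso
    ((DerivedCategory.homologyFunctorFactors X.Modules n).app K).symm h

/-- a coproduct indexed by a set in `Type` of quasi-coherent modules is quasi-coherent -/
theorem isQuasicoherent_of_isColimit_cofan {ι : Type} (F : ι → X.Modules)
    (hF : ∀ i, (F i).IsQuasicoherent) (c : Cofan F) (hc : IsColimit c) : c.pt.IsQuasicoherent := by
  let g : ULift.{u} ι → X.Modules := fun j => F j.down
  have h1 : (∐ g).IsQuasicoherent :=
    Groth.Agent.Lib.Helper23.QCohLocal.isQuasicoherent_colimit (Discrete.functor g)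
      (fun j => hF j.as.down)
  let c' : Cofan g := Cofan.mk c.pt (fun j => c.inj j.down)
  have hc' : IsColimit c' := Cofan.IsColimit.mk c'
    (fun s => Cofan.IsColimit.desc hc (fun i => s.inj ⟨i⟩))
    (fun s j => by
      have := Cofan.IsColimit.fac hc (fun i => s.inj ⟨i⟩) j.down
      exact this)
    (fun s m hm => Cofan.IsColimit.hom_ext hc _ _ (fun i => by
      rw [Cofan.IsColimit.fac]
      exact hm ⟨i⟩))
  exact (SheafOfModules.isQuasicoherent X.ringCatSheaf).prop_of_iso
    ((coproductIsCoproduct g).coconePointUniqueUpToIso hc') h1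

/-- the terms of the tensor product of complexes with quasi-coherent terms are quasi-coherent -/
theorem isQuasicoherent_tensorCx_X (K L : CochainComplex X.Modules ℤ)
    (hK : ∀ n, (K.X n).IsQuasicoherent) (hL : ∀ n, (L.X n).IsQuasicoherent) (n : ℤ) :
    (((DCoh.tensorCx.obj K).obj L).X n).IsQuasicoherent := by
  refine prop_mapBifunctor_X (DCoh.tensorBi (X := X)) (fun M : X.Modules => M.IsQuasicoherent)
    (fun I F c hc hF => isQuasicoherent_of_isColimit_cofan F hF c hc) K L n (fun p q _ => ?_)
  haveI := hK p
  haveI := hL q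
  exact Groth.Agent.Lib.Helper23.TensorQCoh.isQuasicoherent_tensorMod (K.X p) (L.X q)

end qcoh

end Groth.Agent.Lib.Helper1.TensQC
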