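import Groth.Agent.Lib.Helper17AcycPush1
import Groth.Agent.Lib.Helper17Brutal1
import Groth.Agent.Lib.Helper17RpushBound2
import Groth.Agent.Lib.Helper1TensQCA

/-!
# Complexes of `f_*`-acyclic quasi-coherent modules compute `Rf_*` (helper17)

`f : X ⟶ S` quasi-compact quasi-separated, `F` an (unbounded) complex of quasi-coherent
`f_*`-acyclic modules.  Then `f_* F ⟶ Rf_* F` is an isomorphism.
-/

set_option autoImplicit false
set_option linter.style.haveILetI false
set_option maxHeartbeats 400000

universe w w' v v' v'' u u' u''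

open CategoryTheory CategoryTheory.Limits AlgebraicGeometry TopologicalSpace Opposite
  DerivedCategory Pretriangulated

attribute [local instance] HasDerivedCategory.standard

namespace Groth.Agent.Lib.Helper17.AcycPush

section Abstract

variable {C : Type u} [Category.{v} C] [Abelian C] [HasDerivedCategory.{w} C]
  {D : Type u'} [Category.{v'} D] [Abelian D] [HasDerivedCategory.{w'} D]
  {E : Type u''} [Category.{v''} E] [Abelian E]

/-- if `G` is exact and kills `H^{n-1}` and `H^n` of `R(T₃)`, then `G H^n R(T₁ ⟶ T₂)` is an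
isomorphism. -/
theorem isIso_map_homology_mor₁ (R : DerivedCategory C ⥤ DerivedCategory D) [R.CommShift ℤ]
    [R.IsTriangulated] (G : D ⥤ E) [G.Additive] [PreservesFiniteLimits G]
    [PreservesFiniteColimits G]
    (T : Triangle (DerivedCategory C)) (hT : T ∈ distTriang (DerivedCategory C)) (n : ℤ)
    (h₁ : IsZero (G.obj ((homologyFunctor D (n - 1)).obj (R.obj T.obj₃))))
    (h₂ : IsZero (G.obj ((homologyFunctor D n).obj (R.obj T.obj₃)))) :
    IsIso (G.map ((homologyFunctor D n).map (R.map T.mor₁))) := by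
  have hT' := R.map_distinguished T hT
  have e1 := (HomologySequence.exact₁ _ hT' (n - 1) n (by omega)).map G
  have e2 := (HomologySequence.exact₂ _ hT' n).map G
  haveI : Mono (G.map ((homologyFunctor D n).map (R.map T.mor₁))) :=
    e1.mono_g (h₁.eq_of_src _ _)
  haveI : Epi (G.map ((homologyFunctor D n).map (R.map T.mor₁))) :=
    e2.epi_f (h₂.eq_of_tgt _ _)
  exact isIso_of_mono_of_epi _

end Abstract

open Groth.Agent.Lib.Helper17.MV Groth.Agent.Lib.Helper23.QCohLocal Groth.Agent.Lib.Helper17.QCPush
  Groth.Agent.Lib.Helper17.AffPush Groth.Agent.Lib.Helper17.Brutal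

section Sch

variable {X S : Scheme.{u}} (f : X ⟶ S) [HasInjectiveResolutions X.Modules] [DCoh.HasRpush f]

/-- the unit `f_* F ⟶ Rf_* F`. -/
noncomputable abbrev unit (F : CochainComplex X.Modules ℤ) :=
  ((DCoh.pushKh f).totalRightDerivedUnit DerivedCategory.Qh
    (HomotopyCategory.quasiIso X.Modules (ComplexShape.up ℤ))).app
      ((HomotopyCategory.quotient X.Modules (ComplexShape.up ℤ)).obj F)

/-- bounded below complexes of `f_*`-acyclic modules compute `Rf_*`. -/
theorem isIso_unit_of_isStrictlyGE (F : CochainComplex X.Modules ℤ) (k : ℤ) [F.IsStrictlyGE k]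
    (hac : ∀ (n : ℤ) (i : ℕ), 0 < i → IsZero ((Coh.Rpush f i).obj (F.X n))) :
    IsIso (unit f F) := by
  haveI := isGrothendieckAbelian X
  haveI := enoughInjectives X
  haveI := Groth.Agent.Lib.Helper17.RDExist.hasPointwiseRightDerivedFunctor.{u} (DCoh.pushKh f)
  exact isIso_unit_of_acyclic (Scheme.Modules.pushforward f) (DCoh.Rpush f)
    ((DCoh.pushKh f).totalRightDerivedUnit DerivedCategory.Qh
      (HomotopyCategory.quasiIso X.Modules (ComplexShape.up ℤ))) F k hac

variable (F : CochainComplex X.Modules ℤ)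

lemma isIso_unit_sigmaGE (k : ℤ)
    (hac : ∀ (n : ℤ) (i : ℕ), 0 < i → IsZero ((Coh.Rpush f i).obj (F.X n))) :
    IsIso (unit f (sigmaGE F k)) := by
  apply isIso_unit_of_isStrictlyGE f (sigmaGE F k) k
  intro n i hi
  by_cases h : k ≤ n
  · exact IsZero.of_iso (hac n i hi) ((Coh.Rpush f i).mapIso (sigmaGEXIso F k h))
  · exact Functor.map_isZero _ (isZero_sigmaGE_X F k (by omega))

lemma isQCohD_sigmaLT (k : ℤ) (hq : ∀ n : ℤ, Coh.IsQCoh (F.X n)) :
    DCoh.IsQCohD (DerivedCategory.Q.obj (sigmaLT F k)) := by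
  apply Groth.Agent.Lib.Helper1.TensQC.isQCohD_Q_of_terms
  intro n
  by_cases h : n < k
  · exact isQuasicoherent_of_iso (sigmaLTXIso F k h) (hq n)
  · exact isQuasicoherent_of_isZero (isZero_sigmaLT_X F k (by omega))

variable [QuasiCompact f] [QuasiSeparated f]

/-- the local statement: over an affine open `V` of `S`, `H^n` of the unit is an isomorphism. -/
theorem isIso_restrict_homology_unit (hq : ∀ n : ℤ, Coh.IsQCoh (F.X n))
    (hac : ∀ (n : ℤ) (i : ℕ), 0 < i → IsZero ((Coh.Rpush f i).obj (F.X n))) (n : ℤ)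
    (V : S.Opens) (hV : IsAffineOpen V) :
    IsIso ((Scheme.Modules.restrictFunctor V.ι).map
      ((homologyFunctor S.Modules n).map (unit f F))) := by
  haveI := isGrothendieckAbelian X
  obtain ⟨N, hN⟩ := exists_bound_local f V hV
  obtain ⟨k, hkn, hkN⟩ : ∃ k : ℤ, k < n ∧ N + (k - 1) ≤ n - 1 :=
    ⟨n - max N 1, by have := le_max_right N 1; omega, by have := le_max_left N 1; omega⟩
  -- the naturality square of the unit along `σ_{≥ k} F ⟶ F`
  have hnat := ((DCoh.pushKh f).totalRightDerivedUnit DerivedCategory.Qh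
    (HomotopyCategory.quasiIso X.Modules (ComplexShape.up ℤ))).naturality
      ((HomotopyCategory.quotient X.Modules (ComplexShape.up ℤ)).map (sigmaGEι F k))
  have hnat' := congrArg (fun z => (Scheme.Modules.restrictFunctor V.ι).map
    ((homologyFunctor S.Modules n).map z)) hnat
  simp only [Functor.map_comp] at hnat'
  -- (1) the top arrow
  have h1 : IsIso ((homologyFunctor S.Modules n).map ((DCoh.pushKh f).map
      ((HomotopyCategory.quotient X.Modules (ComplexShape.up ℤ)).map (sigmaGEι F k)))) := by
    have h1a : IsIso (HomologicalComplex.homologyMap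
        (((Scheme.Modules.pushforward f).mapHomologicalComplex (ComplexShape.up ℤ)).map
          (sigmaGEι F k)) n) := by
      apply isIso_homologyMap_of_isIso_f _ k n hkn
      intro q hq'
      haveI := isIso_sigmaGEι_f F k hq'
      exact inferInstanceAs (IsIso ((Scheme.Modules.pushforward f).map ((sigmaGEι F k).f q)))
    have h1b : IsIso ((DerivedCategory.Q ⋙ homologyFunctor S.Modules n).map
        (((Scheme.Modules.pushforward f).mapHomologicalComplex (ComplexShape.up ℤ)).map
          (sigmaGEι F k))) :=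
      (NatIso.isIso_map_iff (homologyFunctorFactors S.Modules n) _).2 h1a
    exact h1b
  -- (2) the left arrow
  haveI h2 := isIso_unit_sigmaGE f F k hac
  -- (3) the bottom arrow
  have h3 : IsIso ((Scheme.Modules.restrictFunctor V.ι).map
      ((homologyFunctor S.Modules n).map ((DCoh.Rpush f).map
        ((DerivedCategory.Q : _ ⥤ DCoh.D X).map (sigmaGEι F k))))) := by
    letI := Groth.Agent.Lib.Helper17.RDTri.commShift.{u} (DCoh.pushKh f) (DCoh.Rpush f)
      ((DCoh.pushKh f).totalRightDerivedUnit DerivedCategory.Qh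
        (HomotopyCategory.quasiIso X.Modules (ComplexShape.up ℤ)))
    haveI : (DCoh.Rpush f).IsTriangulated :=
      Groth.Agent.Lib.Helper17.RDTri.isTriangulated.{u} (DCoh.pushKh f) (DCoh.Rpush f)
        ((DCoh.pushKh f).totalRightDerivedUnit DerivedCategory.Qh
          (HomotopyCategory.quasiIso X.Modules (ComplexShape.up ℤ)))
    have hC := isQCohD_sigmaLT F k hq
    haveI : (DerivedCategory.Q.obj (sigmaLT F k) : DCoh.D X).IsLE (k - 1) := inferInstance
    exact isIso_map_homology_mor₁ (DCoh.Rpush f) (Scheme.Modules.restrictFunctor V.ι)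
      (triangleOfSES (sc_shortExact F k)) (triangleOfSES_distinguished _) n
      (hN _ hC (k - 1) inferInstance (n - 1) hkN)
      (hN _ hC (k - 1) inferInstance n (by omega))
  have h4 : IsIso ((Scheme.Modules.restrictFunctor V.ι).map
      ((homologyFunctor S.Modules n).map ((DCoh.pushKh f).map
        ((HomotopyCategory.quotient X.Modules (ComplexShape.up ℤ)).map (sigmaGEι F k)))) ≫
      (Scheme.Modules.restrictFunctor V.ι).map
        ((homologyFunctor S.Modules n).map (unit f F))) := by
    rw [hnat']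
    haveI : IsIso ((Scheme.Modules.restrictFunctor V.ι).map
        ((homologyFunctor S.Modules n).map ((DerivedCategory.Qh ⋙ DCoh.Rpush f).map
          ((HomotopyCategory.quotient X.Modules (ComplexShape.up ℤ)).map (sigmaGEι F k))))) := h3
    infer_instance
  exact IsIso.of_isIso_comp_left ((Scheme.Modules.restrictFunctor V.ι).map
      ((homologyFunctor S.Modules n).map ((DCoh.pushKh f).map
        ((HomotopyCategory.quotient X.Modules (ComplexShape.up ℤ)).map (sigmaGEι F k))))) _

/-- **complexes of `f_*`-acyclic quasi-coherent modules compute `Rf_*`** (`f` qcqs). -/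
theorem isIso_unit (hq : ∀ n : ℤ, Coh.IsQCoh (F.X n))
    (hac : ∀ (n : ℤ) (i : ℕ), 0 < i → IsZero ((Coh.Rpush f i).obj (F.X n))) :
    IsIso (unit f F) := by
  rw [DerivedCategory.isIso_iff]
  intro n
  refine Groth.Agent.Lib.Helper23.ModLocal.isIso_of_isIso_restrict _
    (fun V : S.affineOpens => ((V.1 : S.Opens) : Scheme.{u})) (fun V => V.1.ι) (fun x => ?_)
    (fun V => isIso_restrict_homology_unit f F hq hac n V.1 V.2)
  have hx : x ∈ (⨆ V : S.affineOpens, (V.1 : S.Opens)) := by
    rw [iSup_affineOpens_eq_top]; trivial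
  obtain ⟨V, hV⟩ := Opens.mem_iSup.1 hx
  exact ⟨V, ⟨x, hV⟩, rfl⟩

end Sch

end Groth.Agent.Lib.Helper17.AcycPush
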