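-- helper17: restricted power series over a base ring of class (N) or (V) are flat over the base.
import Groth.Prelude.Def_W4bk4boschfrg79
import Mathlib.RingTheory.AdicCompletion.AsTensorProduct
import Mathlib.RingTheory.Flat.TorsionFree
import Mathlib.RingTheory.Polynomial.Basic

set_option autoImplicit false
open AdicRing
universe u

namespace Groth.Agent.Lib.Helper17.Adic

theorem torsionFree_rpow_aux (R : Type u) [CommRing R] [IsDomain R] (t : R) (ht : t ≠ 0) (n : ℕ)
    (k : ℕ) (x : AdicRing.RPow R (Ideal.span {t}) n) (h : (t ^ k) • x = 0) : x = 0 := by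
  have hJ : (Ideal.span {t}).map (MvPolynomial.C : R →+* MvPolynomial (Fin n) R) =
      Ideal.span {MvPolynomial.C t} := by
    rw [Ideal.map_span, Set.image_singleton]
  have hCt : (MvPolynomial.C t : MvPolynomial (Fin n) R) ≠ 0 := by
    intro h0
    exact ht (MvPolynomial.C_injective (Fin n) R (by simpa using h0))
  apply AdicCompletion.ext
  intro m
  obtain ⟨y, hy⟩ := Submodule.Quotient.mk_surjective _ (x.val (m + k))
  have h1 : ((t ^ k) • x).val (m + k) = 0 := by rw [h]; rfl
  rw [AdicCompletion.val_smul_apply, ← hy, ← Submodule.Quotient.mk_smul,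
    Submodule.Quotient.mk_eq_zero] at h1
  rw [Ideal.smul_eq_mul, Ideal.mul_top, hJ, Ideal.span_singleton_pow,
    Ideal.mem_span_singleton] at h1
  obtain ⟨z, hz⟩ := h1
  have h2 : y = (MvPolynomial.C t) ^ m * z := by
    have h3 : (MvPolynomial.C t : MvPolynomial (Fin n) R) ^ k * y =
        (MvPolynomial.C t) ^ k * ((MvPolynomial.C t) ^ m * z) := by
      rw [← mul_assoc, ← pow_add, add_comm k m, ← hz, Algebra.smul_def]
      simp
    exact mul_left_cancel₀ (pow_ne_zero k hCt) h3
  have h4 := x.property (Nat.le_add_right m k)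
  rw [← h4, ← hy]
  change Submodule.Quotient.mk y = 0
  rw [Submodule.Quotient.mk_eq_zero, Ideal.smul_eq_mul, Ideal.mul_top, hJ,
    Ideal.span_singleton_pow, Ideal.mem_span_singleton]
  exact ⟨z, h2⟩

theorem flat_rpow (R : Type u) [CommRing R] (I : Ideal R) (hR : AdicRing.IsBase R I) (n : ℕ) :
    Module.Flat R (AdicRing.RPow R I n) := by
  obtain ⟨hc, h | h⟩ := hR
  · obtain ⟨hN, -⟩ := h
    have h1 : Module.Flat (MvPolynomial (Fin n) R) (AdicRing.RPow R I n) :=
      AdicCompletion.flat_of_isNoetherian _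
    exact Module.Flat.trans R (MvPolynomial (Fin n) R) (AdicRing.RPow R I n)
  · obtain ⟨hD, hV, -, t, ht, rfl⟩ := h
    have : ValuationRing R := {}
    rw [Module.Flat.flat_iff_torsion_eq_bot_of_isBezout, Submodule.eq_bot_iff]
    intro x hx
    rw [Submodule.mem_torsion_iff] at hx
    obtain ⟨a, ha⟩ := hx
    have ha0 : (a : R) ≠ 0 := nonZeroDivisors.coe_ne_zero a
    have key : ∃ k : ℕ, (a : R) ∣ t ^ k := by
      by_contra hcon
      push Not at hcon
      apply ha0
      have hh : IsHausdorff (Ideal.span {t}) R := hc.toIsHausdorff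
      apply hh.haus'
      intro k
      rw [SModEq.zero, Ideal.smul_eq_mul, Ideal.mul_top, Ideal.span_singleton_pow,
        Ideal.mem_span_singleton]
      exact (ValuationRing.dvd_total (t ^ k) (a : R)).resolve_right (hcon k)
    obtain ⟨k, b, hb⟩ := key
    apply torsionFree_rpow_aux R t ht n k x
    have : (a : R) • x = 0 := ha
    rw [hb, mul_comm, mul_smul, this, smul_zero]

end Groth.Agent.Lib.Helper17.Adic
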