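import Groth.Agent.Lib.Helper17WayOut

/-!
# Way-out arguments for an adjunction `F.mapDerivedCategory ⊣ R` (helper17)

`F : A ⥤ B` exact, `R : D(B) ⥤ D(A)` any right adjoint of `F.mapDerivedCategory`.
* `homologyIso`, `isGE_map`, `isLE_map`: `F.mapDerivedCategory` is t-exact.
* `isGE_right`: `R` is left t-exact.
* `isIso_counit_app_of_isGE`, `isIso_unit_app_of_isGE`: the counit (unit) is an isomorphism on a
  bounded below object as soon as it is on all its cohomology objects.
-/
set_option autoImplicit false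
universe w w' v v' u u'
open CategoryTheory CategoryTheory.Limits CategoryTheory.Pretriangulated

namespace Groth.Agent.Lib.Helper17.AdjWay

open DerivedCategory

variable {A : Type u} [Category.{v} A] [Abelian A] [HasDerivedCategory.{w} A]
  {B : Type u'} [Category.{v'} B] [Abelian B] [HasDerivedCategory.{w'} B]
  (F : A ⥤ B) [F.Additive] [PreservesFiniteLimits F] [PreservesFiniteColimits F]

/-- an exact functor commutes with the cohomology objects of the derived category. -/
noncomputable def homologyIso (X : DerivedCategory A) (i : ℤ) :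
    (homologyFunctor B i).obj (F.mapDerivedCategory.obj X) ≅
      F.obj ((homologyFunctor A i).obj X) :=
  (homologyFunctor B i).mapIso (F.mapDerivedCategory.mapIso (Q.objObjPreimageIso X).symm) ≪≫
  (homologyFunctor B i).mapIso (F.mapDerivedCategoryFactors.app (Q.objPreimage X)) ≪≫
  (homologyFunctorFactors B i).app _ ≪≫
  ((Q.objPreimage X).sc i).mapHomologyIso F ≪≫
  F.mapIso ((homologyFunctorFactors A i).app (Q.objPreimage X)).symm ≪≫
  F.mapIso ((homologyFunctor A i).mapIso (Q.objObjPreimageIso X))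

lemma isGE_map (X : DerivedCategory A) (n : ℤ) [X.IsGE n] :
    (F.mapDerivedCategory.obj X).IsGE n := by
  rw [isGE_iff]
  intro i hi
  exact IsZero.of_iso (F.map_isZero (isZero_of_isGE X n i hi)) (homologyIso F X i)

lemma isLE_map (X : DerivedCategory A) (n : ℤ) [X.IsLE n] :
    (F.mapDerivedCategory.obj X).IsLE n := by
  rw [isLE_iff]
  intro i hi
  exact IsZero.of_iso (F.map_isZero (isZero_of_isLE X n i hi)) (homologyIso F X i)

variable (R : DerivedCategory B ⥤ DerivedCategory A) (adj : F.mapDerivedCategory ⊣ R)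

include adj in
lemma isGE_right (Y : DerivedCategory B) (n : ℤ) [Y.IsGE n] : (R.obj Y).IsGE n := by
  change TStructure.t.IsGE (R.obj Y) n
  rw [TStructure.t.isGE_iff_orthogonal (n - 1) n (by omega)]
  intro Z f hZ
  haveI : Z.IsLE (n - 1) := hZ
  haveI : (F.mapDerivedCategory.obj Z).IsLE (n - 1) := isLE_map F Z (n - 1)
  have h0 : (adj.homEquiv Z Y).symm f = 0 :=
    TStructure.t.zero_of_isLE_of_isGE _ (n - 1) n (by omega) inferInstance inferInstance
  apply (adj.homEquiv Z Y).symm.injective
  rw [h0, Adjunction.homEquiv_counit, Functor.map_zero, zero_comp]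

include adj in
theorem isIso_counit_app_of_isGE (X : DerivedCategory B) (n₀ : ℤ) [X.IsGE n₀]
    (h : ∀ q : ℤ, IsIso (adj.counit.app ((singleFunctor B 0).obj ((homologyFunctor B q).obj X)))) :
    IsIso (adj.counit.app X) := by
  letI : R.CommShift ℤ := adj.rightAdjointCommShift ℤ
  haveI : adj.CommShift ℤ := adj.commShift_of_leftAdjoint ℤ
  haveI : R.IsTriangulated := adj.isTriangulated_rightAdjoint
  let P : ObjectProperty B := fun M => IsIso (adj.counit.app ((singleFunctor B 0).obj M))
  haveI : P.IsClosedUnderIsomorphisms := ⟨fun {M N} e hM => by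
    change IsIso (adj.counit.app ((singleFunctor B 0).obj N))
    have hM' : IsIso (adj.counit.app ((singleFunctor B 0).obj M)) := hM
    exact WayOut.isIso_app_of_iso (R ⋙ F.mapDerivedCategory) (𝟭 _) adj.counit
      ((singleFunctor B 0).mapIso e) hM'⟩
  exact WayOut.isIso_app_of_isGE (R ⋙ F.mapDerivedCategory) (𝟭 _) adj.counit P
    (fun M hM => hM)
    (fun n₁ => ⟨n₁, fun Y hY => by
      haveI : Y.IsGE n₁ := hY
      haveI : (R.obj Y).IsGE n₁ := isGE_right F R adj Y n₁
      exact isGE_map F (R.obj Y) n₁⟩)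
    (fun n₁ => ⟨n₁, fun Y hY => hY⟩) X n₀ h

include adj in
theorem isIso_unit_app_of_isGE (Y : DerivedCategory A) (n₀ : ℤ) [Y.IsGE n₀]
    (h : ∀ q : ℤ, IsIso (adj.unit.app ((singleFunctor A 0).obj ((homologyFunctor A q).obj Y)))) :
    IsIso (adj.unit.app Y) := by
  letI : R.CommShift ℤ := adj.rightAdjointCommShift ℤ
  haveI : adj.CommShift ℤ := adj.commShift_of_leftAdjoint ℤ
  haveI : R.IsTriangulated := adj.isTriangulated_rightAdjoint
  let P : ObjectProperty A := fun M => IsIso (adj.unit.app ((singleFunctor A 0).obj M))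
  haveI : P.IsClosedUnderIsomorphisms := ⟨fun {M N} e hM => by
    change IsIso (adj.unit.app ((singleFunctor A 0).obj N))
    have hM' : IsIso (adj.unit.app ((singleFunctor A 0).obj M)) := hM
    exact WayOut.isIso_app_of_iso (𝟭 _) (F.mapDerivedCategory ⋙ R) adj.unit
      ((singleFunctor A 0).mapIso e) hM'⟩
  exact WayOut.isIso_app_of_isGE (𝟭 _) (F.mapDerivedCategory ⋙ R) adj.unit P
    (fun M hM => hM)
    (fun n₁ => ⟨n₁, fun Y hY => hY⟩)
    (fun n₁ => ⟨n₁, fun Y hY => by
      haveI : Y.IsGE n₁ := hY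
      haveI : (F.mapDerivedCategory.obj Y).IsGE n₁ := isGE_map F Y n₁
      exact isGE_right F R adj _ n₁⟩) Y n₀ h

end Groth.Agent.Lib.Helper17.AdjWay
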