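import Groth.Agent.Lib.Helper17AdjWay1
import Groth.Prelude.Def_WeakSerre

/-!
# Weak Serre subcategories, cohomology in a class, and adjunctions `F.mapDerivedCategory ⊣ R`
(helper17)

* `prop_of_exact₅`: five-term exact sequence lemma for weak Serre subcategories.
* `prop_homology_obj₂`, `cohIn_obj₂`: `D_P` is closed under extensions (cones).
* `plus_equivalence`: Stacks-style equivalence `D^+_{A'} ≃ D^+_A` through `F^* ⊣ R`.
-/
set_option autoImplicit false
universe w w' v v' u u'
open CategoryTheory CategoryTheory.Limits CategoryTheory.Pretriangulated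

namespace Groth.Agent.Lib.Helper17.AdjWay

open DerivedCategory Groth.Agent.S14388

section FiveTerm

variable {C : Type u} [Category.{v} C] [Abelian C] (P : ObjectProperty C) [WSerre.IsWeakSerre P]

theorem prop_of_exact₅ {M₁ M₂ M₃ M₄ M₅ : C} (f : M₁ ⟶ M₂) (g : M₂ ⟶ M₃) (h : M₃ ⟶ M₄)
    (k : M₄ ⟶ M₅) (w₁ : f ≫ g = 0) (w₂ : g ≫ h = 0) (w₃ : h ≫ k = 0)
    (e₁ : (ShortComplex.mk f g w₁).Exact) (e₂ : (ShortComplex.mk g h w₂).Exact)
    (e₃ : (ShortComplex.mk h k w₃).Exact)
    (h₁ : P M₁) (h₂ : P M₂) (h₄ : P M₄) (h₅ : P M₅) : P M₃ := by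
  have hc : P (cokernel f) := P.prop_cokernel f h₁ h₂
  have hk : P (kernel k) := P.prop_kernel k h₄ h₅
  let a : cokernel f ⟶ M₃ := cokernel.desc f g w₁
  let b : M₃ ⟶ kernel k := kernel.lift k h w₃
  have wab : a ≫ b = 0 := by
    apply (cancel_epi (cokernel.π f)).1
    apply (cancel_mono (kernel.ι k)).1
    simp [a, b, w₂]
  haveI : Mono a := (ShortComplex.exact_iff_mono_cokernel_desc (ShortComplex.mk f g w₁)).1 e₁
  haveI : Epi b := (ShortComplex.exact_iff_epi_kernel_lift (ShortComplex.mk h k w₃)).1 e₃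
  -- intermediate complex
  have wah : a ≫ h = 0 := by
    apply (cancel_epi (cokernel.π f)).1
    simp [a, w₂]
  have ex1 : (ShortComplex.mk a h wah).Exact := by
    let φ : ShortComplex.mk g h w₂ ⟶ ShortComplex.mk a h wah :=
      { τ₁ := cokernel.π f, τ₂ := 𝟙 _, τ₃ := 𝟙 _
        comm₁₂ := by simp [a]
        comm₂₃ := by simp }
    exact (ShortComplex.exact_iff_of_epi_of_isIso_of_mono φ).1 e₂
  have ex2 : (ShortComplex.mk a b wab).Exact := by
    let φ : ShortComplex.mk a b wab ⟶ ShortComplex.mk a h wah :=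
      { τ₁ := 𝟙 _, τ₂ := 𝟙 _, τ₃ := kernel.ι k
        comm₁₂ := by simp
        comm₂₃ := by simp [b] }
    exact (ShortComplex.exact_iff_of_epi_of_isIso_of_mono φ).2 ex1
  exact P.prop_X₂_of_shortExact (S := ShortComplex.mk a b wab) ⟨ex2⟩ hc hk

end FiveTerm

section CohIn

variable {C : Type u} [Category.{v} C] [Abelian C] [HasDerivedCategory.{w} C]
  (P : ObjectProperty C) [WSerre.IsWeakSerre P]

theorem prop_homology_obj₂ (T : Triangle (DerivedCategory C)) (hT : T ∈ distTriang _) (i : ℤ)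
    (h₃' : P ((homologyFunctor C (i - 1)).obj T.obj₃)) (h₁ : P ((homologyFunctor C i).obj T.obj₁))
    (h₃ : P ((homologyFunctor C i).obj T.obj₃))
    (h₁' : P ((homologyFunctor C (i + 1)).obj T.obj₁)) :
    P ((homologyFunctor C i).obj T.obj₂) :=
  prop_of_exact₅ P (HomologySequence.δ T (i - 1) i (by omega))
    ((homologyFunctor C i).map T.mor₁) ((homologyFunctor C i).map T.mor₂)
    (HomologySequence.δ T i (i + 1) rfl) _ _ _
    (HomologySequence.exact₁ T hT (i - 1) i (by omega)) (HomologySequence.exact₂ T hT i)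
    (HomologySequence.exact₃ T hT i (i + 1) rfl) h₃' h₁ h₃ h₁'

theorem cohIn_obj₂ (T : Triangle (DerivedCategory C)) (hT : T ∈ distTriang _)
    (h₁ : WSerre.cohIn P T.obj₁) (h₃ : WSerre.cohIn P T.obj₃) : WSerre.cohIn P T.obj₂ :=
  fun i => prop_homology_obj₂ P T hT i (h₃ _) (h₁ _) (h₃ _) (h₁ _)

theorem cohIn_of_iso {X Y : DerivedCategory C} (e : X ≅ Y) (h : WSerre.cohIn P X) :
    WSerre.cohIn P Y :=
  fun i => P.prop_of_iso ((homologyFunctor C i).mapIso e) (h i)

theorem cohIn_of_isZero (X : DerivedCategory C) (h : IsZero X) : WSerre.cohIn P X :=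
  fun i => P.prop_of_isZero ((homologyFunctor C i).map_isZero h)

theorem cohIn_single (M : C) (hM : P M) (j : ℤ) :
    WSerre.cohIn P ((singleFunctor C j).obj M) := by
  intro i
  by_cases h : i = j
  · subst h
    exact P.prop_of_iso ((singleFunctorCompHomologyFunctorIso C i).app M).symm hM
  · rcases lt_or_gt_of_ne h with h | h
    · exact P.prop_of_isZero (isZero_of_isGE _ j i h)
    · exact P.prop_of_isZero (isZero_of_isLE _ j i h)

end CohIn

section Main

variable {A : Type u} [Category.{v} A] [Abelian A] [HasDerivedCategory.{w} A]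
  {B : Type u'} [Category.{v'} B] [Abelian B] [HasDerivedCategory.{w'} B]
  (F : A ⥤ B) [F.Additive] [PreservesFiniteLimits F] [PreservesFiniteColimits F]
  (R : DerivedCategory B ⥤ DerivedCategory A) (adj : F.mapDerivedCategory ⊣ R)
  (PA : ObjectProperty A) [WSerre.IsWeakSerre PA] (PB : ObjectProperty B) [WSerre.IsWeakSerre PB]

theorem cohIn_map (h2a : ∀ M : A, PA M → PB (F.obj M)) (Y : DerivedCategory A)
    (hY : WSerre.cohIn PA Y) : WSerre.cohIn PB (F.mapDerivedCategory.obj Y) :=
  fun i => PB.prop_of_iso (homologyIso F Y i).symm (h2a _ (hY i))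

include adj in
/-- the counit is an isomorphism on `F^*` of an object where the unit is. -/
theorem isIso_counit_app_map (Z : DerivedCategory A) (h : IsIso (adj.unit.app Z)) :
    IsIso (adj.counit.app (F.mapDerivedCategory.obj Z)) := by
  have h1 := adj.left_triangle_components Z
  haveI : IsIso (F.mapDerivedCategory.map (adj.unit.app Z)) := inferInstance
  exact IsIso.of_isIso_fac_left h1

variable (h2c : ∀ N : B, PB N → ∃ M : A, PA M ∧ Nonempty (F.obj M ≅ N))
  (h3 : ∀ M : A, PA M → IsIso (adj.unit.app ((singleFunctor A 0).obj M)))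

include adj h3 in
theorem isIso_unit_single (M : A) (hM : PA M) (j : ℤ) :
    IsIso (adj.unit.app ((singleFunctor A j).obj M)) := by
  letI : R.CommShift ℤ := adj.rightAdjointCommShift ℤ
  haveI : adj.CommShift ℤ := adj.commShift_of_leftAdjoint ℤ
  haveI : R.IsTriangulated := adj.isTriangulated_rightAdjoint
  exact WayOut.isIso_app_single (𝟭 _) (F.mapDerivedCategory ⋙ R) adj.unit M j (h3 M hM)

/-- `N[j] ≅ F^*(M[j])` when `N ≅ F M`. -/
noncomputable def singleIso {M : A} {N : B} (e : F.obj M ≅ N) (j : ℤ) :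
    F.mapDerivedCategory.obj ((singleFunctor A j).obj M) ≅ (singleFunctor B j).obj N :=
  (F.mapDerivedCategorySingleFunctor j).app M ≪≫ (singleFunctor B j).mapIso e

include adj h2c h3 in
theorem isIso_counit_single (N : B) (hN : PB N) :
    IsIso (adj.counit.app ((singleFunctor B 0).obj N)) := by
  obtain ⟨M, hM, ⟨e⟩⟩ := h2c N hN
  letI : R.CommShift ℤ := adj.rightAdjointCommShift ℤ
  haveI : adj.CommShift ℤ := adj.commShift_of_leftAdjoint ℤ
  haveI : R.IsTriangulated := adj.isTriangulated_rightAdjoint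
  exact WayOut.isIso_app_of_iso (R ⋙ F.mapDerivedCategory) (𝟭 _) adj.counit (singleIso F e 0)
    (isIso_counit_app_map F R adj _ (h3 M hM))

include adj h2c h3 in
theorem cohIn_right_single (N : B) (hN : PB N) (j : ℤ) :
    WSerre.cohIn PA (R.obj ((singleFunctor B j).obj N)) := by
  obtain ⟨M, hM, ⟨e⟩⟩ := h2c N hN
  haveI := isIso_unit_single F R adj PA h3 M hM j
  have e' : (singleFunctor A j).obj M ≅ R.obj ((singleFunctor B j).obj N) :=
    asIso (adj.unit.app ((singleFunctor A j).obj M)) ≪≫ R.mapIso (singleIso F e j)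
  exact cohIn_of_iso PA e' (cohIn_single PA M hM j)

include adj h2c h3 in
theorem cohIn_right_bounded (X : DerivedCategory B) (a b : ℤ) [X.IsGE a] [X.IsLE b]
    (hX : WSerre.cohIn PB X) : WSerre.cohIn PA (R.obj X) := by
  letI : R.CommShift ℤ := adj.rightAdjointCommShift ℤ
  haveI : adj.CommShift ℤ := adj.commShift_of_leftAdjoint ℤ
  haveI : R.IsTriangulated := adj.isTriangulated_rightAdjoint
  let Q' : ObjectProperty (DerivedCategory B) := fun K => WSerre.cohIn PA (R.obj K)
  haveI : Q'.IsClosedUnderIsomorphisms := ⟨fun e h => cohIn_of_iso PA (R.mapIso e) h⟩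
  refine Groth.Agent.Lib.Helper1.Devissage.induction_homology' Q'
    (fun K hK => cohIn_of_isZero PA _ (R.map_isZero hK))
    (fun T hT h₁ h₃ => cohIn_obj₂ PA (R.mapTriangle.obj T) (R.map_distinguished T hT) h₁ h₃)
    X a b ?_ ?_
  · rintro i (hi | hi)
    · exact isZero_of_isGE X a i hi
    · exact isZero_of_isLE X b i hi
  · intro j _ _
    exact cohIn_right_single F R adj PA PB h2c h3 _ (hX j) j

include adj h2c h3 in
theorem cohIn_right_of_isGE (X : DerivedCategory B) (a : ℤ) [X.IsGE a]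
    (hX : WSerre.cohIn PB X) : WSerre.cohIn PA (R.obj X) := by
  letI : R.CommShift ℤ := adj.rightAdjointCommShift ℤ
  haveI : adj.CommShift ℤ := adj.commShift_of_leftAdjoint ℤ
  haveI : R.IsTriangulated := adj.isTriangulated_rightAdjoint
  intro j
  have hT := tt.triangleLTGE_distinguished (j + 2) X
  have hT' := R.map_distinguished _ hT
  have hzero : ∀ Z : B, IsZero Z → PB Z := fun Z hZ => PB.prop_of_isZero hZ
  have hbdd : WSerre.cohIn PA (R.obj ((tt.truncLT (j + 2)).obj X)) := by
    haveI : ((tt.truncLT (j + 2)).obj X).IsGE a := inferInstance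
    haveI : ((tt.truncLT (j + 2)).obj X).IsLE (j + 2 - 1) := inferInstance
    exact cohIn_right_bounded F R adj PA PB h2c h3 _ a (j + 2 - 1)
      (WayOut.prop_truncLT PB hzero X (j + 2) hX)
  haveI : (R.obj ((tt.truncGE (j + 2)).obj X)).IsGE (j + 2) := isGE_right F R adj _ (j + 2)
  exact prop_homology_obj₂ PA _ hT' j
    (PA.prop_of_isZero (isZero_of_isGE (R.obj ((tt.truncGE (j + 2)).obj X)) (j + 2) (j - 1)
      (by omega)))
    (hbdd j)
    (PA.prop_of_isZero (isZero_of_isGE (R.obj ((tt.truncGE (j + 2)).obj X)) (j + 2) j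
      (by omega)))
    (hbdd (j + 1))

include adj h2c h3 in
/-- Stacks-style: `F^* : D^+_{PA} → D^+_{PB}` is an equivalence with quasi-inverse `R`. -/
theorem plus_equivalence (h2a : ∀ M : A, PA M → PB (F.obj M)) :
    (∀ Y : DerivedCategory A, WSerre.cohInPlus PA Y →
      WSerre.cohInPlus PB (F.mapDerivedCategory.obj Y) ∧ IsIso (adj.unit.app Y)) ∧
    (∀ X : DerivedCategory B, WSerre.cohInPlus PB X →
      WSerre.cohInPlus PA (R.obj X) ∧ IsIso (adj.counit.app X)) := by
  constructor
  · rintro Y ⟨hY, n, hn⟩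
    haveI : Y.IsGE n := hn
    refine ⟨⟨cohIn_map F PA PB h2a Y hY, n, isGE_map F Y n⟩, ?_⟩
    exact isIso_unit_app_of_isGE F R adj Y n (fun q => h3 _ (hY q))
  · rintro X ⟨hX, n, hn⟩
    haveI : X.IsGE n := hn
    refine ⟨⟨cohIn_right_of_isGE F R adj PA PB h2c h3 X n hX, n, isGE_right F R adj X n⟩, ?_⟩
    exact isIso_counit_app_of_isGE F R adj X n
      (fun q => isIso_counit_single F R adj PA PB h2c h3 _ (hX q))

end Main

end Groth.Agent.Lib.Helper17.AdjWay
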