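import Mathlib
import Groth.Prelude.Def_W4stkfunctorsequivSib

/-!
# Full faithfulness by dévissage (helper21)

General lemmas on a triangulated functor `G : C ⥤ D`: bijectivity of `G.map` on `Hom(K, L)` is
stable under isomorphisms, shifts and the two "five lemma" situations; dévissage along a
t-structure.
-/

universe w v u v' u' v₁ v₂ u₁ u₂
open CategoryTheory Limits Pretriangulated

namespace Groth.Agent.Lib.Helper21.Sib

section General
variable {C : Type u₁} [Category.{v₁} C] [Preadditive C] [HasZeroObject C] [HasShift C ℤ]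
  [∀ n : ℤ, (shiftFunctor C n).Additive] [Pretriangulated C]
  {D : Type u₂} [Category.{v₂} D] [Preadditive D] [HasZeroObject D] [HasShift D ℤ]
  [∀ n : ℤ, (shiftFunctor D n).Additive] [Pretriangulated D]
  (G : C ⥤ D) [G.CommShift ℤ] [G.IsTriangulated]

/-- `G.map` is injective on `Hom(K, L)`. -/
def InjOn (K L : C) : Prop := Function.Injective (G.map : (K ⟶ L) → (G.obj K ⟶ G.obj L))
/-- `G.map` is surjective on `Hom(K, L)`. -/
def SurjOn (K L : C) : Prop := Function.Surjective (G.map : (K ⟶ L) → (G.obj K ⟶ G.obj L))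
/-- `G.map` is bijective on `Hom(K, L)`. -/
def BijOn (K L : C) : Prop := InjOn G K L ∧ SurjOn G K L

variable {G}

lemma injOn_of_iso {K K' L L' : C} (e : K ≅ K') (e' : L ≅ L') (h : InjOn G K L) :
    InjOn G K' L' := by
  intro f g hfg
  have h1 := h (a₁ := e.hom ≫ f ≫ e'.inv) (a₂ := e.hom ≫ g ≫ e'.inv)
    (by simp only [Functor.map_comp, hfg])
  rwa [cancel_epi, cancel_mono] at h1

lemma surjOn_of_iso {K K' L L' : C} (e : K ≅ K') (e' : L ≅ L') (h : SurjOn G K L) :
    SurjOn G K' L' := by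
  intro g
  obtain ⟨f, hf⟩ := h (G.map e.hom ≫ g ≫ G.map e'.inv)
  refine ⟨e.inv ≫ f ≫ e'.hom, ?_⟩
  rw [Functor.map_comp, Functor.map_comp, hf]
  simp [← Functor.map_comp_assoc, ← Functor.map_comp]

lemma bijOn_of_iso {K K' L L' : C} (e : K ≅ K') (e' : L ≅ L') (h : BijOn G K L) :
    BijOn G K' L' := ⟨injOn_of_iso e e' h.1, surjOn_of_iso e e' h.2⟩

lemma map_shift_eq {K L : C} (f : K ⟶ L) (a : ℤ) :
    G.map (f⟦a⟧') = (G.commShiftIso a).hom.app K ≫ (G.map f)⟦a⟧' ≫
      (G.commShiftIso a).inv.app L := by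
  have := G.commShiftIso_hom_naturality f a
  rw [← Category.assoc, ← this, Category.assoc, Iso.hom_inv_id_app]
  exact (Category.comp_id _).symm

lemma injOn_shift {K L : C} (a : ℤ) (h : InjOn G K L) : InjOn G (K⟦a⟧) (L⟦a⟧) := by
  intro f g hfg
  obtain ⟨f₀, rfl⟩ := (shiftFunctor C a).map_surjective f
  obtain ⟨g₀, rfl⟩ := (shiftFunctor C a).map_surjective g
  rw [map_shift_eq, map_shift_eq, cancel_epi, cancel_mono] at hfg
  rw [h ((shiftFunctor D a).map_injective hfg)]

lemma surjOn_shift {K L : C} (a : ℤ) (h : SurjOn G K L) : SurjOn G (K⟦a⟧) (L⟦a⟧) := by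
  intro g
  obtain ⟨g₀, hg₀⟩ := (shiftFunctor D a).map_surjective
    ((G.commShiftIso a).inv.app K ≫ g ≫ (G.commShiftIso a).hom.app L)
  obtain ⟨f₀, rfl⟩ := h g₀
  refine ⟨f₀⟦a⟧', ?_⟩
  rw [map_shift_eq, hg₀]
  simp

lemma bijOn_shift {K L : C} (a : ℤ) (h : BijOn G K L) : BijOn G (K⟦a⟧) (L⟦a⟧) :=
  ⟨injOn_shift a h.1, surjOn_shift a h.2⟩

variable (G) in
/-- `G.map` is bijective on `Hom(K⟦a⟧, L⟦b⟧)` for all `a`, `b`. -/
def Good (K L : C) : Prop := ∀ a b : ℤ, BijOn G (K⟦a⟧) (L⟦b⟧)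

lemma good_of_iso {K K' L L' : C} (e : K ≅ K') (e' : L ≅ L') (h : Good G K L) :
    Good G K' L' := fun a b =>
  bijOn_of_iso ((shiftFunctor C a).mapIso e) ((shiftFunctor C b).mapIso e') (h a b)

lemma good_shift_left {K L : C} (c : ℤ) (h : Good G K L) : Good G (K⟦c⟧) L := fun a b =>
  bijOn_of_iso ((shiftFunctorAdd C c a).app K) (Iso.refl _) (h (c + a) b)

lemma good_shift_right {K L : C} (c : ℤ) (h : Good G K L) : Good G K (L⟦c⟧) := fun a b =>
  bijOn_of_iso (Iso.refl _) ((shiftFunctorAdd C c b).app L) (h a (c + b))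

lemma Good.bijOn {K L : C} (h : Good G K L) : BijOn G K L :=
  bijOn_of_iso ((shiftFunctorZero C ℤ).app K) ((shiftFunctorZero C ℤ).app L) (h 0 0)

/-- If `BijOn G K (L⟦n⟧)` for all `n`, then `Good G K L`. -/
lemma good_of_forall_bijOn {K L : C} (h : ∀ n : ℤ, BijOn G K (L⟦n⟧)) : Good G K L := fun a b =>
  bijOn_of_iso (Iso.refl _) ((shiftFunctorAdd' C (b - a) a b (by omega)).app L).symm
    (bijOn_shift a (h (b - a)))

/-- Data extracted from the inverse rotation of a distinguished triangle, with normalized types. -/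
lemma exists_invRotate_data (T : Triangle C) (hT : T ∈ distTriang C) :
    ∃ w' : T.obj₃⟦(-1 : ℤ)⟧ ⟶ T.obj₁, w' ≫ T.mor₁ = 0 ∧
      (∀ {M : C} (f : T.obj₁ ⟶ M), w' ≫ f = 0 → ∃ g : T.obj₂ ⟶ M, f = T.mor₁ ≫ g) ∧
      (∀ {K : C} (g : K ⟶ T.obj₁), g ≫ T.mor₁ = 0 → ∃ h : K ⟶ T.obj₃⟦(-1 : ℤ)⟧, g = h ≫ w') ∧
      (∀ {K : D} (g : K ⟶ G.obj T.obj₁), g ≫ G.map T.mor₁ = 0 →
        ∃ h : K ⟶ G.obj (T.obj₃⟦(-1 : ℤ)⟧), g = h ≫ G.map w') := by
  have hTi := inv_rot_of_distTriang T hT
  have hGTi := G.map_distinguished _ hTi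
  refine ⟨T.invRotate.mor₁, comp_distTriang_mor_zero₁₂ _ hTi, ?_, ?_, ?_⟩
  · intro M f hf
    exact Triangle.yoneda_exact₂ _ hTi f hf
  · intro K g hg
    exact Triangle.coyoneda_exact₂ _ hTi g hg
  · intro K g hg
    exact Triangle.coyoneda_exact₂ _ hGTi g hg

/-- Five lemma in the first variable. -/
lemma bijOn_obj₂_left (T : Triangle C) (hT : T ∈ distTriang C) (M : C)
    (h1s : SurjOn G (T.obj₁⟦(1 : ℤ)⟧) M) (h3 : BijOn G T.obj₃ M) (h1 : BijOn G T.obj₁ M)
    (h3i : InjOn G (T.obj₃⟦(-1 : ℤ)⟧) M) : BijOn G T.obj₂ M := by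
  have hGT := G.map_distinguished T hT
  constructor
  · -- injectivity
    intro f f' hff'
    have hadd : ∀ {X Y : C} (a b : X ⟶ Y), G.map (a - b) = G.map a - G.map b :=
      fun a b => G.map_sub
    suffices hz : ∀ f : T.obj₂ ⟶ M, G.map f = 0 → f = 0 by
      have := hz (f - f') (by rw [hadd, hff', sub_self])
      exact sub_eq_zero.mp this
    intro f hf
    have h1f : T.mor₁ ≫ f = 0 := by
      apply h1.1
      rw [Functor.map_comp, hf, comp_zero, Functor.map_zero]
    obtain ⟨g, rfl⟩ := Triangle.yoneda_exact₂ T hT f h1f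
    have h2 : (G.mapTriangle.obj T).mor₂ ≫ G.map g = 0 := by
      show G.map T.mor₂ ≫ G.map g = 0
      rw [← Functor.map_comp, hf]
    obtain ⟨h', hh'⟩ := Triangle.yoneda_exact₃ _ hGT (G.map g) h2
    have hh'' : G.map g = G.map T.mor₃ ≫ (G.commShiftIso (1 : ℤ)).hom.app T.obj₁ ≫ h' := by
      rw [hh']
      show (G.map T.mor₃ ≫ (G.commShiftIso (1 : ℤ)).hom.app T.obj₁) ≫ h' = _
      rw [Category.assoc]
    obtain ⟨h₀, hh₀⟩ := h1s ((G.commShiftIso (1 : ℤ)).hom.app T.obj₁ ≫ h')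
    have hg : g = T.mor₃ ≫ h₀ := by
      apply h3.1
      rw [Functor.map_comp, hh₀, hh'']
    rw [hg, ← Category.assoc, comp_distTriang_mor_zero₂₃ T hT, zero_comp]
  · -- surjectivity
    intro g
    obtain ⟨f₁, hf₁⟩ := h1.2 (G.map T.mor₁ ≫ g)
    obtain ⟨w', hw, hex, -, -⟩ := exists_invRotate_data (G := G) T hT
    have h0 : w' ≫ f₁ = 0 := by
      apply h3i
      rw [Functor.map_comp, hf₁, ← Category.assoc, ← Functor.map_comp, hw, Functor.map_zero,
        zero_comp, Functor.map_zero]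
    obtain ⟨f₂, hf₂'⟩ := hex f₁ h0
    have h2 : (G.mapTriangle.obj T).mor₁ ≫ (g - G.map f₂) = 0 := by
      show G.map T.mor₁ ≫ (g - G.map f₂) = 0
      rw [Preadditive.comp_sub, ← hf₁, hf₂', Functor.map_comp, sub_self]
    obtain ⟨h, hh'⟩ : ∃ h : G.obj T.obj₃ ⟶ G.obj M, g - G.map f₂ = G.map T.mor₂ ≫ h :=
      Triangle.yoneda_exact₂ _ hGT _ h2
    obtain ⟨h₀, rfl⟩ := h3.2 h
    refine ⟨f₂ + T.mor₂ ≫ h₀, ?_⟩
    rw [Functor.map_add, Functor.map_comp, ← hh']
    abel

/-- Five lemma in the second variable. -/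
lemma bijOn_obj₂_right (T : Triangle C) (hT : T ∈ distTriang C) (K : C)
    (h3s : SurjOn G K (T.obj₃⟦(-1 : ℤ)⟧)) (h1 : BijOn G K T.obj₁) (h3 : BijOn G K T.obj₃)
    (h1i : InjOn G K (T.obj₁⟦(1 : ℤ)⟧)) : BijOn G K T.obj₂ := by
  have hGT := G.map_distinguished T hT
  obtain ⟨w', hw, -, -, hexG⟩ := exists_invRotate_data (G := G) T hT
  constructor
  · intro f f' hff'
    have hadd : ∀ {X Y : C} (a b : X ⟶ Y), G.map (a - b) = G.map a - G.map b :=
      fun a b => G.map_sub
    suffices hz : ∀ f : K ⟶ T.obj₂, G.map f = 0 → f = 0 by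
      have := hz (f - f') (by rw [hadd, hff', sub_self])
      exact sub_eq_zero.mp this
    intro f hf
    have h3f : f ≫ T.mor₂ = 0 := by
      apply h3.1
      rw [Functor.map_comp, hf, zero_comp, Functor.map_zero]
    obtain ⟨g, rfl⟩ := Triangle.coyoneda_exact₂ T hT f h3f
    have h2 : G.map g ≫ G.map T.mor₁ = 0 := by
      rw [← Functor.map_comp, hf]
    obtain ⟨h', hh''⟩ := hexG (G.map g) h2
    obtain ⟨h₀, rfl⟩ := h3s h'
    have hg : g = h₀ ≫ w' := by
      apply h1.1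
      rw [Functor.map_comp, hh'']
    rw [hg, Category.assoc, hw, comp_zero]
  · intro g
    obtain ⟨f₃, hf₃⟩ := h3.2 (g ≫ G.map T.mor₂)
    have h0 : f₃ ≫ T.mor₃ = 0 := by
      apply h1i
      rw [Functor.map_comp, hf₃, Category.assoc, ← Functor.map_comp,
        comp_distTriang_mor_zero₂₃ T hT, Functor.map_zero, comp_zero, Functor.map_zero]
    obtain ⟨f₂, hf₂⟩ := Triangle.coyoneda_exact₃ T hT f₃ h0
    have h2 : (g - G.map f₂) ≫ (G.mapTriangle.obj T).mor₂ = 0 := by
      show (g - G.map f₂) ≫ G.map T.mor₂ = 0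
      rw [Preadditive.sub_comp, ← hf₃, hf₂, Functor.map_comp, sub_self]
    obtain ⟨h, hh'⟩ : ∃ h : G.obj K ⟶ G.obj T.obj₁, g - G.map f₂ = h ≫ G.map T.mor₁ :=
      Triangle.coyoneda_exact₂ _ hGT _ h2
    obtain ⟨h₀, rfl⟩ := h1.2 h
    refine ⟨f₂ + h₀ ≫ T.mor₁, ?_⟩
    rw [Functor.map_add, Functor.map_comp, ← hh']
    abel

lemma good_obj₂_left (T : Triangle C) (hT : T ∈ distTriang C) (L : C)
    (h1 : Good G T.obj₁ L) (h3 : Good G T.obj₃ L) : Good G T.obj₂ L := by
  intro a b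
  have hT' := Triangle.shift_distinguished T hT a
  refine bijOn_obj₂_left (G := G) _ hT' (L⟦b⟧) ?_ ?_ ?_ ?_
  · exact (good_shift_left a h1 1 b).2
  · exact h3 a b
  · exact h1 a b
  · exact (good_shift_left a h3 (-1) b).1

lemma good_obj₂_right (T : Triangle C) (hT : T ∈ distTriang C) (K : C)
    (h1 : Good G K T.obj₁) (h3 : Good G K T.obj₃) : Good G K T.obj₂ := by
  intro a b
  have hT' := Triangle.shift_distinguished T hT b
  refine bijOn_obj₂_right (G := G) _ hT' (K⟦a⟧) ?_ ?_ ?_ ?_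
  · exact (good_shift_right b h3 a (-1)).2
  · exact h1 a b
  · exact h3 a b
  · exact (good_shift_right b h1 a 1).1

end General

section Devissage
open Triangulated
variable {C : Type u₁} [Category.{v₁} C] [Preadditive C] [HasZeroObject C] [HasShift C ℤ]
  [∀ n : ℤ, (shiftFunctor C n).Additive] [Pretriangulated C] [IsTriangulated C]

/-- Dévissage along a t-structure: a property of objects that is stable under isomorphisms and
extensions and holds for objects concentrated in a single degree holds for all bounded objects. -/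
lemma devissage_aux (t : TStructure C) (P : ObjectProperty C) [P.IsClosedUnderIsomorphisms]
    (hext : ∀ T ∈ distTriang C, P T.obj₁ → P T.obj₃ → P T.obj₂)
    (hheart : ∀ (X : C) (n : ℤ), t.IsGE X n → t.IsLE X n → P X) :
    ∀ (k : ℕ) (X : C) (a b : ℤ), t.IsGE X a → t.IsLE X b → b - a < k → P X := by
  intro k
  induction k with
  | zero =>
    intro X a b ha hb hk
    have hz : IsZero X := t.isZero X b a (by omega)
    exact hheart X 0 (t.isGE_of_isZero hz 0) (t.isLE_of_isZero hz 0)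
  | succ k ih =>
    intro X a b ha hb hk
    have hT := t.triangleLTGE_distinguished b X
    refine hext _ hT ?_ ?_
    · have h1 : t.IsLE ((t.triangleLTGE b).obj X).obj₁ (b - 1) := inferInstance
      have h2 : t.IsGE ((t.triangleLTGE b).obj X).obj₁ a := by
        show t.IsGE ((t.truncLT b).obj X) a
        infer_instance
      exact ih _ a (b - 1) h2 h1 (by omega)
    · have h1 : t.IsGE ((t.triangleLTGE b).obj X).obj₃ b := inferInstance
      have h2 : t.IsLE ((t.triangleLTGE b).obj X).obj₃ b := by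
        show t.IsLE ((t.truncGE b).obj X) b
        infer_instance
      exact hheart _ b h1 h2

lemma devissage (t : TStructure C) (P : ObjectProperty C) [P.IsClosedUnderIsomorphisms]
    (hext : ∀ T ∈ distTriang C, P T.obj₁ → P T.obj₃ → P T.obj₂)
    (hheart : ∀ (X : C) (n : ℤ), t.IsGE X n → t.IsLE X n → P X)
    (X : C) (a b : ℤ) (ha : t.IsGE X a) (hb : t.IsLE X b) : P X :=
  devissage_aux t P hext hheart (b - a + 1).toNat X a b ha hb (by omega)

end Devissage

section Bounded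
open DerivedCategory Triangulated DEquiv
variable {A : Type u} [Category.{v} A] [Abelian A] [HasDerivedCategory.{w} A]

variable (A) in
/-- The canonical t-structure on `D(A)`. -/
noncomputable abbrev tD : TStructure (DerivedCategory A) := DerivedCategory.TStructure.t

variable (A) in
/-- The induced t-structure on `D^b(A)`. -/
noncomputable abbrev tB : TStructure (Bounded A) := (tD A).onBounded

instance : (singleB A).Full :=
  haveI : (singleB A ⋙ Bounded.ι).Full := inferInstanceAs ((singleFunctor A 0).Full)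
  Functor.Full.of_comp_faithful (singleB A) Bounded.ι

instance : (singleB A).Faithful :=
  haveI : (singleB A ⋙ Bounded.ι).Faithful := inferInstanceAs ((singleFunctor A 0).Faithful)
  Functor.Faithful.of_comp (singleB A) Bounded.ι

lemma exists_bounds (K : Bounded A) : ∃ a b : ℤ, (tB A).IsGE K a ∧ (tB A).IsLE K b := by
  obtain ⟨⟨a, ha⟩, ⟨b, hb⟩⟩ := K.property
  exact ⟨a, b, (ObjectProperty.tStructure_isGE_iff _ _ _ _).2 ha,
    (ObjectProperty.tStructure_isLE_iff _ _ _ _).2 hb⟩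

lemma exists_iso_singleB_shift (K : Bounded A) (n : ℤ) (h1 : (tB A).IsGE K n)
    (h2 : (tB A).IsLE K n) : ∃ Y : A, Nonempty (K ≅ ((singleB A).obj Y)⟦-n⟧) := by
  have h1' : (tD A).IsGE K.obj n := (ObjectProperty.tStructure_isGE_iff _ _ _ _).1 h1
  have h2' : (tD A).IsLE K.obj n := (ObjectProperty.tStructure_isLE_iff _ _ _ _).1 h2
  obtain ⟨Y, ⟨e⟩⟩ := exists_iso_singleFunctor_obj_of_isGE_of_isLE K.obj n
  refine ⟨Y, ⟨((tD A).bounded.fullyFaithfulι).preimageIso ?_⟩⟩
  exact e ≪≫ (((singleFunctors A).shiftIso (-n) n 0 (by omega)).app Y).symm ≪≫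
    ((Bounded.ι.commShiftIso (-n)).app ((singleB A).obj Y)).symm

lemma exists_triangle_of_shortExact {S : ShortComplex A} (hS : S.ShortExact) :
    ∃ δ : (singleB A).obj S.X₃ ⟶ ((singleB A).obj S.X₁)⟦(1 : ℤ)⟧,
      Triangle.mk ((singleB A).map S.f) ((singleB A).map S.g) δ ∈ distTriang (Bounded A) := by
  let δ' : Bounded.ι.obj ((singleB A).obj S.X₃) ⟶
      Bounded.ι.obj (((singleB A).obj S.X₁)⟦(1 : ℤ)⟧) :=
    hS.singleδ ≫ (Bounded.ι.commShiftIso (1 : ℤ)).inv.app ((singleB A).obj S.X₁)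
  refine ⟨(tD A).bounded.fullyFaithfulι.preimage δ', ?_⟩
  show Bounded.ι.mapTriangle.obj _ ∈ distTriang _
  refine isomorphic_distinguished _ hS.singleTriangle_distinguished _ ?_
  refine Triangle.isoMk _ _ (Iso.refl _) (Iso.refl _) (Iso.refl _) ?_ ?_ ?_
  · show Bounded.ι.map ((singleB A).map S.f) ≫ 𝟙 _ = 𝟙 _ ≫ (singleFunctor A 0).map S.f
    rw [Category.comp_id, Category.id_comp]; rfl
  · show Bounded.ι.map ((singleB A).map S.g) ≫ 𝟙 _ = 𝟙 _ ≫ (singleFunctor A 0).map S.g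
    rw [Category.comp_id, Category.id_comp]; rfl
  · show (Bounded.ι.map ((tD A).bounded.fullyFaithfulι.preimage δ') ≫
      (Bounded.ι.commShiftIso (1 : ℤ)).hom.app ((singleB A).obj S.X₁)) ≫
        (𝟙 (Bounded.ι.obj ((singleB A).obj S.X₁)))⟦(1 : ℤ)⟧' = 𝟙 _ ≫ hS.singleδ
    have this : Bounded.ι.map ((tD A).bounded.fullyFaithfulι.preimage δ') = δ' :=
      (tD A).bounded.fullyFaithfulι.map_preimage δ'
    have e1 : Bounded.ι.map ((tD A).bounded.fullyFaithfulι.preimage δ') ≫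
      (Bounded.ι.commShiftIso (1 : ℤ)).hom.app ((singleB A).obj S.X₁) = hS.singleδ := by
      rw [this]
      have h4 := (Bounded.ι.commShiftIso (1 : ℤ)).inv_hom_id_app ((singleB A).obj S.X₁)
      show (hS.singleδ ≫ _) ≫ _ = _
      refine (Category.assoc _ _ _).trans ?_
      exact (congrArg (fun z => hS.singleδ ≫ z) h4).trans (Category.comp_id _)
    refine Eq.trans ?_ (Category.id_comp _).symm
    refine Eq.trans ?_ e1
    refine Eq.trans ?_ (Category.comp_id _)
    congr 1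
    exact CategoryTheory.Functor.map_id _ _

/-- Effaceability in `D(A)`: a morphism `L[0] ⟶ M[0]⟦n⟧` with `n ≥ 1` is killed by some
epimorphism `L' ⟶ L`. -/
theorem exists_epi_comp_eq_zero_derived {L M : A} {n : ℤ} (hn : 1 ≤ n)
    (f : (singleFunctor A 0).obj L ⟶ ((singleFunctor A 0).obj M)⟦n⟧) :
    ∃ (L' : A) (p : L' ⟶ L), Epi p ∧ (singleFunctor A 0).map p ≫ f = 0 := by
  let sL : CochainComplex A ℤ := (CochainComplex.singleFunctor A 0).obj L
  let sM : CochainComplex A ℤ := (CochainComplex.singleFunctor A 0).obj M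
  let τ : ((singleFunctor A 0).obj M)⟦n⟧ ≅ Q.obj (sM⟦n⟧) :=
    ((Q.commShiftIso n).app sM).symm
  let f' : Q.obj sL ⟶ Q.obj (sM⟦n⟧) := f ≫ τ.hom
  have : sL.IsStrictlyLE 0 :=
    inferInstanceAs (((CochainComplex.singleFunctor A 0).obj L).IsStrictlyLE 0)
  obtain ⟨X', hX', s, hs, g, hfac⟩ := right_fac_of_isStrictlyLE f' 0
  let ι : (CochainComplex.singleFunctor A 0).obj (X'.X 0) ⟶ X' :=
    HomologicalComplex.mkHomFromSingle (𝟙 (X'.X 0)) (fun k hk =>
      (X'.isZero_of_isStrictlyLE 0 k (by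
        have : (0 : ℤ) + 1 = k := hk
        omega)).eq_of_tgt _ _)
  have hι : IsIso (ι.f 0) := by
    have : ι.f 0 = (HomologicalComplex.singleObjXSelf (ComplexShape.up ℤ) 0 (X'.X 0)).hom ≫ 𝟙 _ :=
      HomologicalComplex.mkHomFromSingle_f _ _
    rw [this, Category.comp_id]
    infer_instance
  obtain ⟨p, hp⟩ : ∃ p : X'.X 0 ⟶ L, (CochainComplex.singleFunctor A 0).map p = ι ≫ s :=
    (HomologicalComplex.single A (ComplexShape.up ℤ) 0).map_surjective (ι ≫ s)
  refine ⟨X'.X 0, p, ?_, ?_⟩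
  · apply Preadditive.epi_of_cancel_zero
    intro T t ht
    have h1 : (ι ≫ s) ≫ (CochainComplex.singleFunctor A 0).map t = 0 := by
      rw [← hp, ← Functor.map_comp, ht, Functor.map_zero]
    have h2 : s ≫ (CochainComplex.singleFunctor A 0).map t = 0 := by
      apply HomologicalComplex.to_single_hom_ext
      have h1' := congrArg (fun φ => HomologicalComplex.Hom.f φ 0) h1
      simp only [HomologicalComplex.comp_f, HomologicalComplex.zero_f, Category.assoc] at h1'
      rw [← cancel_epi (ι.f 0), HomologicalComplex.comp_f, HomologicalComplex.zero_f]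
      exact h1'.trans comp_zero.symm
    have h3 : Q.map ((CochainComplex.singleFunctor A 0).map t) = 0 := by
      rw [← cancel_epi (Q.map s), ← Functor.map_comp, h2, Functor.map_zero, comp_zero]
    have h4 : (singleFunctor A 0).map t = 0 := h3
    apply (singleFunctor A 0).map_injective
    rw [h4, Functor.map_zero]
  · rw [← cancel_mono τ.hom, zero_comp, Category.assoc]
    show Q.map ((CochainComplex.singleFunctor A 0).map p) ≫ f' = 0
    rw [hp, hfac, Functor.map_comp, Category.assoc, IsIso.hom_inv_id_assoc, ← Functor.map_comp]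
    have h0 : ι ≫ g = 0 := by
      apply HomologicalComplex.from_single_hom_ext
      apply IsZero.eq_of_tgt
      show IsZero (sM.X (0 + n))
      exact HomologicalComplex.isZero_single_obj_X _ _ _ _ (by omega)
    rw [h0, Functor.map_zero]

/-- Effaceability in `D^b(A)`. -/
theorem exists_epi_comp_eq_zero (X Y : A) (n : ℤ) (hn : 1 ≤ n)
    (ξ : (singleB A).obj X ⟶ ((singleB A).obj Y)⟦n⟧) :
    ∃ (X' : A) (p : X' ⟶ X), Epi p ∧ (singleB A).map p ≫ ξ = 0 := by
  let f : (singleFunctor A 0).obj X ⟶ ((singleFunctor A 0).obj Y)⟦n⟧ :=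
    Bounded.ι.map ξ ≫ (Bounded.ι.commShiftIso n).hom.app ((singleB A).obj Y)
  obtain ⟨X', p, hp, h⟩ := exists_epi_comp_eq_zero_derived hn f
  refine ⟨X', p, hp, ?_⟩
  apply Bounded.ι.map_injective
  rw [Functor.map_zero, ← cancel_mono ((Bounded.ι.commShiftIso n).hom.app ((singleB A).obj Y)),
    zero_comp, Functor.map_comp, Category.assoc]
  exact h

section SES
variable {D : Type u'} [Category.{v'} D] [Preadditive D] [HasZeroObject D] [HasShift D ℤ]
  [∀ n : ℤ, (shiftFunctor D n).Additive] [Pretriangulated D]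

/-- Exactness data attached to an epimorphism `p : X' ⟶ X` of `A` (with kernel `K`), in normalized
form, for a triangulated functor `G` on `D^b(A)`. -/
lemma exists_ses_data {X' X : A} (p : X' ⟶ X) [Epi p] (G : Bounded A ⥤ D) [G.CommShift ℤ]
    [G.IsTriangulated] :
    ∃ (K : A) (δ : (singleB A).obj X ⟶ ((singleB A).obj K)⟦(1 : ℤ)⟧)
      (ρ : ((singleB A).obj K)⟦(1 : ℤ)⟧ ⟶ ((singleB A).obj X')⟦(1 : ℤ)⟧),
      δ ≫ ρ = 0 ∧
      (∀ {M : Bounded A} (ξ : (singleB A).obj X ⟶ M), (singleB A).map p ≫ ξ = 0 →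
        ∃ η : ((singleB A).obj K)⟦(1 : ℤ)⟧ ⟶ M, ξ = δ ≫ η) ∧
      (∀ {M : D} (g : G.obj ((singleB A).obj X) ⟶ M), G.map ((singleB A).map p) ≫ g = 0 →
        ∃ h : G.obj (((singleB A).obj K)⟦(1 : ℤ)⟧) ⟶ M, g = G.map δ ≫ h) ∧
      (∀ {M : D} (g : G.obj (((singleB A).obj K)⟦(1 : ℤ)⟧) ⟶ M), G.map δ ≫ g = 0 →
        ∃ h : G.obj (((singleB A).obj X')⟦(1 : ℤ)⟧) ⟶ M, g = G.map ρ ≫ h) := by
  let S : ShortComplex A := ShortComplex.mk (kernel.ι p) p (kernel.condition p)
  have hS : S.ShortExact :=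
    { exact := ShortComplex.exact_of_f_is_kernel _ (kernelIsKernel p)
      mono_f := inferInstanceAs (Mono (kernel.ι p))
      epi_g := inferInstanceAs (Epi p) }
  obtain ⟨δ, hT⟩ := exists_triangle_of_shortExact hS
  have hTr := rot_of_distTriang _ hT
  have hGT := G.map_distinguished _ hT
  have hGTr := G.map_distinguished _ hTr
  refine ⟨kernel p, δ, (Triangle.mk ((singleB A).map S.f) ((singleB A).map S.g) δ).rotate.mor₃,
    comp_distTriang_mor_zero₂₃ _ hTr, ?_, ?_, ?_⟩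
  · intro M ξ hξ
    exact Triangle.yoneda_exact₃ _ hT ξ hξ
  · intro M g hg
    obtain ⟨h, hh⟩ := Triangle.yoneda_exact₃ _ hGT g hg
    refine ⟨(G.commShiftIso (1 : ℤ)).hom.app _ ≫ h, ?_⟩
    rw [hh]
    exact Category.assoc _ _ _
  · intro M g hg
    obtain ⟨h, hh⟩ := Triangle.yoneda_exact₃ _ hGTr g hg
    refine ⟨(G.commShiftIso (1 : ℤ)).hom.app _ ≫ h, ?_⟩
    rw [hh]
    exact Category.assoc _ _ _

end SES

section Base
variable {D : Type u'} [Category.{v'} D] [Preadditive D] [HasZeroObject D] [HasShift D ℤ]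
  [∀ n : ℤ, (shiftFunctor D n).Additive] [Pretriangulated D]
  {F F' : DerivedCategory.Bounded A ⥤ D} [F.CommShift ℤ] [F.IsTriangulated]
  [F'.CommShift ℤ] [F'.IsTriangulated] (φ : singleB A ⋙ F ≅ singleB A ⋙ F')

/-- `F'.map` on a morphism between objects of `A`, in terms of `F`. -/
lemma map_singleB_eq {X Y : A} (f : X ⟶ Y) :
    F'.map ((singleB A).map f) = φ.inv.app X ≫ F.map ((singleB A).map f) ≫ φ.hom.app Y := by
  have := φ.hom.naturality f
  simp only [Functor.comp_map] at this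
  rw [this, Iso.inv_hom_id_app_assoc]

/-- The isomorphism `F'(Y[0]⟦n⟧) ≅ F(Y[0]⟦n⟧)`. -/
noncomputable def isoShift (Y : A) (n : ℤ) :
    F'.obj (((singleB A).obj Y)⟦n⟧) ≅ F.obj (((singleB A).obj Y)⟦n⟧) :=
  (F'.commShiftIso n).app ((singleB A).obj Y) ≪≫ (shiftFunctor D n).mapIso (φ.app Y).symm ≪≫
    ((F.commShiftIso n).app ((singleB A).obj Y)).symm

lemma hom_singleB_shift_eq_zero {X Y : A} {n : ℤ} (hn : n < 0)
    (f : (singleB A).obj X ⟶ ((singleB A).obj Y)⟦n⟧) : f = 0 := by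
  have h1 : (tB A).IsLE ((singleB A).obj X) 0 :=
    (ObjectProperty.tStructure_isLE_iff _ _ _ _).2
      (inferInstanceAs ((tD A).IsLE ((singleFunctor A 0).obj X) 0))
  have h2 : (tB A).IsGE ((singleB A).obj Y) 0 :=
    (ObjectProperty.tStructure_isGE_iff _ _ _ _).2
      (inferInstanceAs ((tD A).IsGE ((singleFunctor A 0).obj Y) 0))
  have h3 : (tB A).IsGE (((singleB A).obj Y)⟦n⟧) (-n) :=
    (tB A).isGE_shift ((singleB A).obj Y) 0 n (-n) (by omega)
  exact (tB A).zero_of_isLE_of_isGE f 0 (-n) (by omega) h1 h3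

variable [F.Full] [F.Faithful]
include φ

lemma bijOn_neg {X Y : A} {n : ℤ} (hn : n < 0) :
    BijOn F' ((singleB A).obj X) (((singleB A).obj Y)⟦n⟧) := by
  have htgt : ∀ g : F'.obj ((singleB A).obj X) ⟶ F'.obj (((singleB A).obj Y)⟦n⟧), g = 0 := by
    intro g
    obtain ⟨ξ, hξ⟩ := F.map_surjective (φ.hom.app X ≫ g ≫ (isoShift φ Y n).hom)
    rw [hom_singleB_shift_eq_zero hn ξ, Functor.map_zero] at hξ
    have h1 : g ≫ (isoShift φ Y n).hom = 0 := by
      rw [← cancel_epi (φ.hom.app X), comp_zero]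
      exact hξ.symm
    rw [← cancel_mono (isoShift φ Y n).hom, zero_comp]
    exact h1
  constructor
  · intro f f' _
    rw [hom_singleB_shift_eq_zero hn f, hom_singleB_shift_eq_zero hn f']
  · intro g
    exact ⟨0, by rw [Functor.map_zero, htgt g]⟩

lemma bijOn_zero (X Y : A) : BijOn F' ((singleB A).obj X) ((singleB A).obj Y) := by
  constructor
  · intro f f' hff'
    obtain ⟨f₀, rfl⟩ := (singleB A).map_surjective f
    obtain ⟨f₀', rfl⟩ := (singleB A).map_surjective f'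
    rw [map_singleB_eq φ, map_singleB_eq φ, cancel_epi, cancel_mono] at hff'
    rw [F.map_injective hff']
  · intro g
    obtain ⟨ξ, hξ⟩ := F.map_surjective (φ.hom.app X ≫ g ≫ φ.inv.app Y)
    obtain ⟨f₀, rfl⟩ := (singleB A).map_surjective ξ
    refine ⟨(singleB A).map f₀, ?_⟩
    rw [map_singleB_eq φ, hξ]
    simp

lemma bijOn_pos (n : ℕ) :
    ∀ X Y : A, BijOn F' ((singleB A).obj X) (((singleB A).obj Y)⟦(n : ℤ)⟧) := by
  induction n with
  | zero =>
    intro X Y
    exact bijOn_of_iso (Iso.refl _) ((shiftFunctorZero (Bounded A) ℤ).app _).symm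
      (bijOn_zero φ X Y)
  | succ n ih =>
    intro X Y
    have ih' : ∀ X Y : A, BijOn F' (((singleB A).obj X)⟦(1 : ℤ)⟧)
        (((singleB A).obj Y)⟦((n + 1 : ℕ) : ℤ)⟧) := by
      intro X Y
      exact bijOn_of_iso (Iso.refl _)
        ((shiftFunctorAdd' (Bounded A) (n : ℤ) 1 ((n + 1 : ℕ) : ℤ) (by push_cast; ring)).app _).symm
        (bijOn_shift 1 (ih X Y))
    constructor
    · intro f f' hff'
      suffices hz : ∀ ξ : (singleB A).obj X ⟶ ((singleB A).obj Y)⟦((n + 1 : ℕ) : ℤ)⟧,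
          F'.map ξ = 0 → ξ = 0 by
        have := hz (f - f') (by rw [Functor.map_sub, hff', sub_self])
        exact sub_eq_zero.mp this
      intro ξ hξ
      obtain ⟨X', p, hp, hpξ⟩ := exists_epi_comp_eq_zero X Y _ (by push_cast; omega) ξ
      obtain ⟨K, δ, ρ, hδρ, hex, -, hexG⟩ := exists_ses_data p F'
      obtain ⟨η, rfl⟩ := hex ξ hpξ
      obtain ⟨θ', hθ'⟩ := hexG (F'.map η) (by rw [← Functor.map_comp, hξ])
      obtain ⟨θ₀, rfl⟩ := (ih' X' Y).2 θ'
      have hη : η = ρ ≫ θ₀ := by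
        apply (ih' K Y).1
        rw [Functor.map_comp, hθ']
      rw [hη, ← Category.assoc, hδρ, zero_comp]
    · intro g
      obtain ⟨ξ', hξ'⟩ := F.map_surjective (φ.hom.app X ≫ g ≫ (isoShift φ Y _).hom)
      obtain ⟨X', p, hp, hpξ⟩ := exists_epi_comp_eq_zero X Y _ (by push_cast; omega) ξ'
      obtain ⟨K, δ, ρ, hδρ, -, hexG, -⟩ := exists_ses_data p F'
      have h0 : F'.map ((singleB A).map p) ≫ g = 0 := by
        have h1 : F.map ((singleB A).map p) ≫ φ.hom.app X ≫ g ≫ (isoShift φ Y _).hom = 0 := by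
          rw [← hξ', ← Functor.map_comp, hpξ, Functor.map_zero]
        have h2 := φ.hom.naturality p
        simp only [Functor.comp_map] at h2
        rw [← Category.assoc, h2, Category.assoc] at h1
        rw [← cancel_epi (φ.hom.app X'), ← cancel_mono (isoShift φ Y _).hom, comp_zero, zero_comp,
          Category.assoc, Category.assoc]
        exact h1
      obtain ⟨h, rfl⟩ := hexG g h0
      obtain ⟨η, rfl⟩ := (ih' K Y).2 h
      exact ⟨δ ≫ η, Functor.map_comp _ _ _⟩

/-- Base case: `F'` is fully faithful between shifts of objects of `A`. -/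
lemma good_singleB (X Y : A) : Good F' ((singleB A).obj X) ((singleB A).obj Y) := by
  apply good_of_forall_bijOn
  intro n
  by_cases hn : n < 0
  · exact bijOn_neg φ hn
  · obtain ⟨m, rfl⟩ := Int.eq_ofNat_of_zero_le (not_lt.mp hn)
    exact bijOn_pos φ m X Y

lemma good_singleB_left [IsTriangulated D] (X : A) (L : Bounded A) :
    Good F' ((singleB A).obj X) L := by
  let P : ObjectProperty (Bounded A) := fun L => Good F' ((singleB A).obj X) L
  haveI : P.IsClosedUnderIsomorphisms := ⟨fun e h => good_of_iso (Iso.refl _) e h⟩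
  obtain ⟨a, b, ha, hb⟩ := exists_bounds L
  refine devissage (tB A) P ?_ ?_ L a b ha hb
  · intro T hT h1 h3
    exact good_obj₂_right T hT _ h1 h3
  · intro K n h1 h2
    obtain ⟨Y, ⟨e⟩⟩ := exists_iso_singleB_shift K n h1 h2
    exact good_of_iso (Iso.refl _) e.symm (good_shift_right (-n) (good_singleB φ X Y))

theorem good_all [IsTriangulated D] (K L : Bounded A) : Good F' K L := by
  let P : ObjectProperty (Bounded A) := fun K => Good F' K L
  haveI : P.IsClosedUnderIsomorphisms := ⟨fun e h => good_of_iso e (Iso.refl _) h⟩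
  obtain ⟨a, b, ha, hb⟩ := exists_bounds K
  refine devissage (tB A) P ?_ ?_ K a b ha hb
  · intro T hT h1 h3
    exact good_obj₂_left T hT _ h1 h3
  · intro K' n h1 h2
    obtain ⟨X, ⟨e⟩⟩ := exists_iso_singleB_shift K' n h1 h2
    exact good_of_iso e.symm (Iso.refl _) (good_shift_left (-n) (good_singleB_left φ X L))

theorem full_faithful [IsTriangulated D] : F'.Full ∧ F'.Faithful :=
  ⟨⟨fun {K L} => (good_all φ K L).bijOn.2⟩, ⟨fun {K L} => (good_all φ K L).bijOn.1⟩⟩

end Base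

end Bounded

end Groth.Agent.Lib.Helper21.Sib
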