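import Groth.Agent.Lib.Helper17AdjWay2
import Groth.Agent.Lib.Helper21Sib

/-!
# Bounded equivalence `D^b_{PA}(A) ≃ D^b_{PB}(B)` induced by an exact functor (helper17)

`F : A ⥤ B` exact, `PA`, `PB` weak Serre with `F PA ⊆ PB`, essentially surjective `PA → PB`,
and `F` bijective on all `Hom(M[0], M'[0]⟦n⟧)` for `M, M' ∈ PA`.
-/
set_option autoImplicit false
universe w w' v v' u u'
open CategoryTheory CategoryTheory.Limits CategoryTheory.Pretriangulated ZeroObject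

namespace Groth.Agent.Lib.Helper17.AdjWay

open DerivedCategory Groth.Agent.S14388 Groth.Agent.Lib.Helper21.Sib

section Good

variable {C : Type u} [Category.{v} C] [Preadditive C] [HasZeroObject C] [HasShift C ℤ]
  [∀ n : ℤ, (shiftFunctor C n).Additive] [Pretriangulated C]
  {D : Type u'} [Category.{v'} D] [Preadditive D] [HasZeroObject D] [HasShift D ℤ]
  [∀ n : ℤ, (shiftFunctor D n).Additive] [Pretriangulated D]
  (G : C ⥤ D) [G.CommShift ℤ] [G.IsTriangulated]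

lemma bijOn_of_isZero_right (K L : C) (hL : IsZero L) : BijOn G K L :=
  ⟨fun f g _ => hL.eq_of_tgt f g, fun g => ⟨0, (G.map_isZero hL).eq_of_tgt _ _⟩⟩

lemma bijOn_of_isZero_left (K L : C) (hK : IsZero K) : BijOn G K L :=
  ⟨fun f g _ => hK.eq_of_src f g, fun g => ⟨0, (G.map_isZero hK).eq_of_src _ _⟩⟩

lemma good_of_isZero_right (K L : C) (hL : IsZero L) : Good G K L :=
  fun _ b => bijOn_of_isZero_right G _ _ ((shiftFunctor C b).map_isZero hL)

lemma good_of_isZero_left (K L : C) (hK : IsZero K) : Good G K L :=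
  fun a _ => bijOn_of_isZero_left G _ _ ((shiftFunctor C a).map_isZero hK)

end Good

section Main

variable {A : Type u} [Category.{v} A] [Abelian A] [HasDerivedCategory.{w} A]
  {B : Type u'} [Category.{v'} B] [Abelian B] [HasDerivedCategory.{w'} B]
  (F : A ⥤ B) [F.Additive] [PreservesFiniteLimits F] [PreservesFiniteColimits F]
  (PA : ObjectProperty A) [WSerre.IsWeakSerre PA] (PB : ObjectProperty B) [WSerre.IsWeakSerre PB]

/-- single objects in degree `j` as shifts of those in degree `0`. -/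
noncomputable def singleShiftIso (M : A) (j : ℤ) :
    (shiftFunctor (DerivedCategory A) (-j)).obj ((singleFunctor A 0).obj M) ≅
      (singleFunctor A j).obj M :=
  ((DerivedCategory.singleFunctors A).shiftIso (-j) j 0 (by omega)).app M

variable (h2 : ∀ M M' : A, PA M → PA M' → ∀ n : ℤ,
    Function.Bijective (fun φ : ((singleFunctor A 0).obj M ⟶ ((singleFunctor A 0).obj M')⟦n⟧) =>
      F.mapDerivedCategory.map φ))

include h2 in
lemma good_single (M M' : A) (hM : PA M) (hM' : PA M') (j j' : ℤ) :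
    Good F.mapDerivedCategory ((singleFunctor A j).obj M) ((singleFunctor A j').obj M') := by
  have h0 : Good F.mapDerivedCategory ((singleFunctor A 0).obj M) ((singleFunctor A 0).obj M') :=
    good_of_forall_bijOn (fun n => ⟨(h2 M M' hM hM' n).1, (h2 M M' hM hM' n).2⟩)
  exact good_of_iso (singleShiftIso M j) (singleShiftIso M' j')
    (good_shift_left (-j) (good_shift_right (-j') h0))

include h2 in
lemma good_single_left (M : A) (hM : PA M) (j : ℤ) (X : DerivedCategory A) (a b : ℤ)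
    [X.IsGE a] [X.IsLE b] (hX : WSerre.cohIn PA X) :
    Good F.mapDerivedCategory ((singleFunctor A j).obj M) X := by
  let Q' : ObjectProperty (DerivedCategory A) :=
    fun X => Good F.mapDerivedCategory ((singleFunctor A j).obj M) X
  haveI : Q'.IsClosedUnderIsomorphisms := ⟨fun e h => good_of_iso (Iso.refl _) e h⟩
  refine Groth.Agent.Lib.Helper1.Devissage.induction_homology' Q'
    (fun K hK => good_of_isZero_right _ _ _ hK)
    (fun T hT h₁ h₃ => good_obj₂_right T hT _ h₁ h₃) X a b ?_ ?_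
  · rintro i (hi | hi)
    · exact isZero_of_isGE X a i hi
    · exact isZero_of_isLE X b i hi
  · intro j' _ _
    exact good_single F PA h2 M _ hM (hX j') j j'

include h2 in
theorem good_of_bounded (K X : DerivedCategory A) (a b a' b' : ℤ)
    [K.IsGE a] [K.IsLE b] [X.IsGE a'] [X.IsLE b']
    (hK : WSerre.cohIn PA K) (hX : WSerre.cohIn PA X) : Good F.mapDerivedCategory K X := by
  let Q' : ObjectProperty (DerivedCategory A) := fun K => Good F.mapDerivedCategory K X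
  haveI : Q'.IsClosedUnderIsomorphisms := ⟨fun e h => good_of_iso e (Iso.refl _) h⟩
  refine Groth.Agent.Lib.Helper1.Devissage.induction_homology' Q'
    (fun K hK => good_of_isZero_left _ _ _ hK)
    (fun T hT h₁ h₃ => good_obj₂_left T hT _ h₁ h₃) K a b ?_ ?_
  · rintro i (hi | hi)
    · exact isZero_of_isGE K a i hi
    · exact isZero_of_isLE K b i hi
  · intro j _ _
    exact good_single_left F PA h2 _ (hK j) j X a' b' hX

theorem cohInBdd_map (h1 : ∀ M : A, PA M → PB (F.obj M)) (K : DerivedCategory A)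
    (hK : WSerre.cohInBdd PA K) : WSerre.cohInBdd PB (F.mapDerivedCategory.obj K) := by
  obtain ⟨hK, ⟨a, ha⟩, ⟨b, hb⟩⟩ := hK
  haveI : K.IsGE a := ha
  haveI : K.IsLE b := hb
  exact ⟨cohIn_map F PA PB h1 K hK, ⟨a, isGE_map F K a⟩, ⟨b, isLE_map F K b⟩⟩

variable (h1 : ∀ M : A, PA M → PB (F.obj M))
  (hess : ∀ N : B, PB N → ∃ M : A, PA M ∧ Nonempty (F.obj M ≅ N))

include h2 hess in
theorem exists_preimage_of_bounded (M : DerivedCategory B) (a b : ℤ) [M.IsGE a] [M.IsLE b]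
    (hM : WSerre.cohIn PB M) :
    ∃ K : DerivedCategory A, WSerre.cohInBdd PA K ∧
      Nonempty (F.mapDerivedCategory.obj K ≅ M) := by
  let Q' : ObjectProperty (DerivedCategory B) := fun M =>
    ∃ K : DerivedCategory A, WSerre.cohInBdd PA K ∧ Nonempty (F.mapDerivedCategory.obj K ≅ M)
  haveI : Q'.IsClosedUnderIsomorphisms :=
    ⟨fun e ⟨K, hK, ⟨e'⟩⟩ => ⟨K, hK, ⟨e' ≪≫ e⟩⟩⟩
  refine Groth.Agent.Lib.Helper1.Devissage.induction_homology' Q' ?_ ?_ M a b ?_ ?_
  · intro M hM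
    refine ⟨0, ⟨cohIn_of_isZero PA _ (isZero_zero _), ⟨0, ?_⟩, ⟨0, ?_⟩⟩,
      ⟨(F.mapDerivedCategory.map_isZero (isZero_zero _)).iso hM⟩⟩
    · exact tt.isGE_of_isZero (isZero_zero _) 0
    · exact tt.isLE_of_isZero (isZero_zero _) 0
  · rintro T hT ⟨K₁, hK₁, ⟨e₁⟩⟩ ⟨K₃, hK₃, ⟨e₃⟩⟩
    obtain ⟨hc₁, ⟨a₁, ha₁⟩, ⟨b₁, hb₁⟩⟩ := hK₁
    obtain ⟨hc₃, ⟨a₃, ha₃⟩, ⟨b₃, hb₃⟩⟩ := hK₃
    haveI : K₁.IsGE a₁ := ha₁
    haveI : K₁.IsLE b₁ := hb₁
    haveI : K₃.IsGE a₃ := ha₃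
    haveI : K₃.IsLE b₃ := hb₃
    have hgood : Good F.mapDerivedCategory K₃ K₁ :=
      good_of_bounded F PA h2 K₃ K₁ a₃ b₃ a₁ b₁ hc₃ hc₁
    have hb : BijOn F.mapDerivedCategory K₃ (K₁⟦(1 : ℤ)⟧) :=
      bijOn_of_iso ((shiftFunctorZero _ ℤ).app K₃) (Iso.refl _) (hgood 0 1)
    obtain ⟨φ, hφ⟩ := hb.2 (e₃.hom ≫ T.mor₃ ≫ e₁.inv⟦(1 : ℤ)⟧' ≫
      (F.mapDerivedCategory.commShiftIso (1 : ℤ)).inv.app K₁)
    obtain ⟨K₂, f, g, hT'⟩ := distinguished_cocone_triangle₂ φ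
    have hT'' := F.mapDerivedCategory.map_distinguished _ hT'
    have comm : (F.mapDerivedCategory.mapTriangle.obj (Triangle.mk f g φ)).mor₃ ≫
        e₁.hom⟦(1 : ℤ)⟧' = e₃.hom ≫ T.mor₃ := by
      change (F.mapDerivedCategory.map φ ≫
        (F.mapDerivedCategory.commShiftIso (1 : ℤ)).hom.app K₁) ≫ e₁.hom⟦(1 : ℤ)⟧' = _
      rw [hφ]
      simp only [Category.assoc, Iso.inv_hom_id_app_assoc]
      rw [← Functor.map_comp, e₁.inv_hom_id, CategoryTheory.Functor.map_id, Category.comp_id]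
    obtain ⟨β, hβ₁, hβ₂⟩ := complete_distinguished_triangle_morphism₂ _ _ hT'' hT
      e₁.hom e₃.hom comm
    let ψ : F.mapDerivedCategory.mapTriangle.obj (Triangle.mk f g φ) ⟶ T :=
      { hom₁ := e₁.hom, hom₂ := β, hom₃ := e₃.hom
        comm₁ := hβ₁, comm₂ := hβ₂, comm₃ := comm }
    have hβ : IsIso β := isIso₂_of_isIso₁₃ ψ hT'' hT (by dsimp [ψ]; infer_instance)
      (by dsimp [ψ]; infer_instance)
    refine ⟨K₂, ⟨cohIn_obj₂ PA _ hT' hc₁ hc₃, ⟨min a₁ a₃, ?_⟩, ⟨max b₁ b₃, ?_⟩⟩, ⟨@asIso _ _ _ _ β hβ⟩⟩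
    · exact tt.isGE₂ _ hT' _ (tt.isGE_of_ge K₁ (min a₁ a₃) a₁ (min_le_left _ _))
        (tt.isGE_of_ge K₃ (min a₁ a₃) a₃ (min_le_right _ _))
    · exact tt.isLE₂ _ hT' _ (tt.isLE_of_le K₁ b₁ (max b₁ b₃) (le_max_left _ _))
        (tt.isLE_of_le K₃ b₃ (max b₁ b₃) (le_max_right _ _))
  · rintro i (hi | hi)
    · exact isZero_of_isGE M a i hi
    · exact isZero_of_isLE M b i hi
  · intro j _ _
    obtain ⟨M', hM', ⟨e⟩⟩ := hess _ (hM j)
    exact ⟨(singleFunctor A j).obj M', ⟨cohIn_single PA M' hM' j, ⟨j, inferInstance⟩,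
      ⟨j, inferInstance⟩⟩, ⟨singleIso F e j⟩⟩

include h1 h2 hess in
/-- the bounded equivalence. -/
theorem bounded_equivalence :
    (∀ K : DerivedCategory A, WSerre.cohInBdd PA K →
        WSerre.cohInBdd PB (F.mapDerivedCategory.obj K)) ∧
      (∀ K L : DerivedCategory A, WSerre.cohInBdd PA K → WSerre.cohInBdd PA L →
        Function.Bijective (fun φ : (K ⟶ L) => F.mapDerivedCategory.map φ)) ∧
      (∀ M : DerivedCategory B, WSerre.cohInBdd PB M →
        ∃ K : DerivedCategory A, WSerre.cohInBdd PA K ∧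
          Nonempty (F.mapDerivedCategory.obj K ≅ M)) := by
  refine ⟨fun K hK => cohInBdd_map F PA PB h1 K hK, ?_, ?_⟩
  · rintro K L ⟨hK, ⟨a, ha⟩, ⟨b, hb⟩⟩ ⟨hL, ⟨a', ha'⟩, ⟨b', hb'⟩⟩
    haveI : K.IsGE a := ha
    haveI : K.IsLE b := hb
    haveI : L.IsGE a' := ha'
    haveI : L.IsLE b' := hb'
    have h := (good_of_bounded F PA h2 K L a b a' b' hK hL).bijOn
    exact ⟨h.1, h.2⟩
  · rintro M ⟨hM, ⟨a, ha⟩, ⟨b, hb⟩⟩
    haveI : M.IsGE a := ha
    haveI : M.IsLE b := hb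
    exact exists_preimage_of_bounded F PA PB h2 hess M a b hM

end Main

end Groth.Agent.Lib.Helper17.AdjWay
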