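import Mathlib
import Groth.Prelude.Def_SpSeq
import Groth.Prelude.Def_WeakSerre

/-!
# Helper17: the abutment of a spectral sequence with finite filtrations lies in any weak Serre class
containing the terms of one page.
-/

set_option autoImplicit false
universe v u
open CategoryTheory Limits

namespace Groth.Agent.Lib.Helper17.SSSerre

variable {C : Type u} [Category.{v} C] [Abelian C] (P : ObjectProperty C) [WSerre.IsWeakSerre P]

lemma prop_homology (S : ShortComplex C) (h₁ : P S.X₁) (h₂ : P S.X₂) (h₃ : P S.X₃) :
    P S.homology := by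
  have hc : P S.cycles := P.prop_of_iso S.cyclesIsoKernel.symm (P.prop_kernel S.g h₂ h₃)
  exact P.prop_of_isColimit_cokernelCofork S.homologyIsCokernel h₁ hc

variable {r₀ : ℤ}

/-- if the terms of one page lie in a weak Serre class, so do the terms of all later pages. -/
theorem prop_page (E : CohomologicalSpectralSequence C r₀) (r : ℤ) (hr : r₀ ≤ r)
    (h : ∀ pq, P ((E.page r hr).X pq)) :
    ∀ (k : ℤ) (hk : r ≤ k) (pq : ℤ × ℤ), P ((E.page k (hr.trans hk)).X pq) := by
  intro k hk
  induction k, hk using Int.leInduction with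
  | base => exact h
  | succ k hk ih =>
    intro pq
    exact P.prop_of_iso (E.iso k (k + 1) pq rfl (hr.trans hk))
      (prop_homology P ((E.page k (hr.trans hk)).sc pq) (ih _) (ih _) (ih _))

/-- if the terms of one page lie in a weak Serre class, so do the graded pieces of the abutment. -/
theorem prop_grPiece (E : CohomologicalSpectralSequence C r₀) {H : ℤ → C} (a : SpSeq.Abutment E H)
    (r : ℤ) (hr : r₀ ≤ r) (h : ∀ pq, P ((E.page r hr).X pq)) (n p : ℤ) :
    P (SpSeq.grPiece (a.fil n) (a.anti n) p) := by
  have h1 : P ((E.page (a.rk (p, n - p)) (a.stat (p, n - p)).1).X (p, n - p)) := by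
    by_cases hle : r ≤ a.rk (p, n - p)
    · exact prop_page P E r hr h _ hle _
    · -- going down: the page at `rk` is isomorphic to later pages by stationarity
      rw [not_le] at hle
      have key : ∀ (k : ℤ) (hk : a.rk (p, n - p) ≤ k),
          P ((E.page k ((a.stat (p, n - p)).1.trans hk)).X (p, n - p)) →
          P ((E.page (a.rk (p, n - p)) (a.stat (p, n - p)).1).X (p, n - p)) := by
        intro k hk
        induction k, hk using Int.leInduction with
        | base => exact id
        | succ k hk ih =>
          intro hz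
          apply ih
          obtain ⟨h1, h2⟩ := (a.stat (p, n - p)).2 k ((a.stat (p, n - p)).1.trans hk) hk
          have hprev : (ComplexShape.up' (⟨k, 1 - k⟩ : ℤ × ℤ)).prev (p, n - p) =
              (p, n - p) - (k, 1 - k) :=
            (ComplexShape.up' (⟨k, 1 - k⟩ : ℤ × ℤ)).prev_eq' (by
              change (p, n - p) - (k, 1 - k) + (k, 1 - k) = (p, n - p)
              simp)
          have hnext : (ComplexShape.up' (⟨k, 1 - k⟩ : ℤ × ℤ)).next (p, n - p) =
              (p, n - p) + (k, 1 - k) :=
            (ComplexShape.up' (⟨k, 1 - k⟩ : ℤ × ℤ)).next_eq' (by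
              change (p, n - p) + (k, 1 - k) = (p, n - p) + (k, 1 - k)
              rfl)
          have hf : ((E.page k ((a.stat (p, n - p)).1.trans hk)).sc (p, n - p)).f = 0 := by
            change (E.page k ((a.stat (p, n - p)).1.trans hk)).d
              ((ComplexShape.up' (⟨k, 1 - k⟩ : ℤ × ℤ)).prev (p, n - p)) (p, n - p) = 0
            rw [hprev]; exact h1
          have hg : ((E.page k ((a.stat (p, n - p)).1.trans hk)).sc (p, n - p)).g = 0 := by
            change (E.page k ((a.stat (p, n - p)).1.trans hk)).d (p, n - p)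
              ((ComplexShape.up' (⟨k, 1 - k⟩ : ℤ × ℤ)).next (p, n - p)) = 0
            rw [hnext]; exact h2
          have e : (E.page k ((a.stat (p, n - p)).1.trans hk)).homology (p, n - p) ≅
              (E.page k ((a.stat (p, n - p)).1.trans hk)).X (p, n - p) :=
            (ShortComplex.HomologyData.ofZeros
              ((E.page k ((a.stat (p, n - p)).1.trans hk)).sc (p, n - p)) hf hg).left.homologyIso
          exact P.prop_of_iso
            (e.symm ≪≫ E.iso k (k + 1) (p, n - p) rfl ((a.stat (p, n - p)).1.trans hk)).symm hz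
      exact key r hle.le (h _)
  have h2 := P.prop_of_iso (a.β (p, n - p)) h1
  have e : p + (n - p) = n := by ring
  simp only at h2
  rw [e] at h2
  exact h2

/-- **The abutment lies in the weak Serre class** generated by the terms of a page. -/
theorem prop_abutment (E : CohomologicalSpectralSequence C r₀) {H : ℤ → C} (a : SpSeq.Abutment E H)
    (r : ℤ) (hr : r₀ ≤ r) (h : ∀ pq, P ((E.page r hr).X pq)) (n : ℤ) (hfin : a.IsFinite n) :
    P (H n) := by
  obtain ⟨⟨a₀, ha₀⟩, ⟨b₀, hb₀⟩⟩ := hfin
  let F : ℤ → Subobject (H n) := a.fil n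
  have hanti : Antitone F := a.anti n
  have ha₀' : F a₀ = ⊤ := ha₀
  have hb₀' : F b₀ = ⊥ := hb₀
  set b : ℤ := max a₀ b₀ with hb
  have hFb : F b = ⊥ := le_bot_iff.1 (hb₀' ▸ hanti (le_max_right a₀ b₀))
  have hgr : ∀ p, P (SpSeq.grPiece F hanti p) := fun p => prop_grPiece P E a r hr h n p
  have key : ∀ p : ℤ, p ≤ b → P ((F p : C)) := by
    intro p hp
    induction p, hp using Int.leInductionDown with
    | base =>
      rw [hFb]
      exact P.prop_of_isZero ((Subobject.botCoeIsoZero (B := H n)).isZero_iff.2 (isZero_zero C))
    | pred p hp ih =>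
      have hle : F p ≤ F (p - 1) := hanti (by omega)
      have hg := hgr (p - 1)
      unfold SpSeq.grPiece SpSeq.subquot at hg
      have hS : (ShortComplex.mk ((F (p - 1 + 1)).ofLE (F (p - 1)) (hanti (Int.le_add_one le_rfl)))
          (cokernel.π _) (cokernel.condition _)).ShortExact :=
        { exact := ShortComplex.exact_cokernel _
          mono_f := by dsimp; infer_instance
          epi_g := by dsimp; infer_instance }
      have hp1 : P ((F (p - 1 + 1) : C)) := by rw [sub_add_cancel]; exact ih
      exact P.prop_X₂_of_shortExact hS hp1 hg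
  have htop : P ((F a₀ : C)) := key a₀ (le_max_left a₀ b₀)
  rw [ha₀'] at htop
  exact P.prop_of_iso (asIso (⊤ : Subobject (H n)).arrow) htop

end Groth.Agent.Lib.Helper17.SSSerre
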