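import Groth.Agent.Lib.Helper17Hyp29
import Groth.Agent.Lib.Helper17SSSerre
import Groth.Agent.Lib.Helper17KInjD1

/-!
# Sections of complexes with acyclic terms (helper17)

Abstract setting: an abelian category `A` with a "free sheaf" functor `fr : C ⥤ A` (`LocFr`), a
class `B` of objects of `C` covering everything, a weak Serre class `PA` of objects of `A` such that
`Ext^k(fr V, M) = 0` for `V ∈ B`, `M ∈ PA`, `k > 0`.

* `exists_lift_of_shortExact`: lifting along an epimorphism when `Ext^1` vanishes.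
* `bijective_c₀`: `Hom_{D(A)}(fr U, K) = Hom(fr U, H^0 K)` for `U ∈ B`, `K ∈ D_{PA}(A)`.
* `exists_cycle_lift`, `exists_boundary`: for a quasi-isomorphism `q : F ⟶ I` from a complex with terms
  in `PA` to a K-injective complex, `Γ(U, F) ⟶ Γ(U, I)` is a quasi-isomorphism in degree `0`.
-/

set_option autoImplicit false
set_option linter.style.haveILetI false

universe w w' v v' u u'

open CategoryTheory CategoryTheory.Limits Opposite

namespace Groth.Agent.Lib.Helper17.AffPush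

open DerivedCategory Pretriangulated Groth.Agent.Lib.Helper17.Hyp Groth.Agent.Lib.Helper17.KInj

section Lift

variable {A : Type u} [Category.{v} A] [Abelian A] [HasDerivedCategory.{w} A]

/-- lifting along the epimorphism of a short exact sequence when `Ext^1(P, X₁) = 0`. -/
lemma exists_lift_of_shortExact {S : ShortComplex A} (hS : S.ShortExact) (P : A)
    (hP : Subsingleton (dsgl P ⟶ (dsgl S.X₁)⟦(1 : ℤ)⟧)) (s : P ⟶ S.X₃) :
    ∃ s' : P ⟶ S.X₂, s' ≫ S.g = s := by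
  have hT := hS.singleTriangle_distinguished
  have h0 : (singleFunctor A 0).map s ≫ hS.singleTriangle.mor₃ = 0 := by
    exact @Subsingleton.elim _ hP _ _
  obtain ⟨y, hy⟩ := Triangle.coyoneda_exact₃ _ hT ((singleFunctor A 0).map s) h0
  obtain ⟨s', rfl⟩ := (singleFunctor A 0).map_surjective y
  refine ⟨s', (singleFunctor A 0).map_injective ?_⟩
  rw [Functor.map_comp]
  exact hy.symm

/-- the class of a degree-zero cycle in `H^0`. -/
noncomputable abbrev cyc {P : A} {M : CochainComplex A ℤ} (φ : P ⟶ M.X 0)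
    (hφ : φ ≫ M.d 0 1 = 0) : P ⟶ M.homology 0 :=
  M.liftCycles φ 1 (by simp) hφ ≫ M.homologyπ 0

lemma c₀_fromSingle₀ {P : A} {M : CochainComplex A ℤ} (φ : P ⟶ M.X 0) (hφ : φ ≫ M.d 0 1 = 0) :
    c₀ (Q.map (fromSingle₀ φ hφ)) ≫ (homologyFunctorFactors A 0).hom.app M = cyc φ hφ := by
  rw [c₀_Q_map, homologyMap_fromSingle₀]

lemma fromSingle₀_comp {P : A} {M N : CochainComplex A ℤ} (φ : P ⟶ M.X 0) (hφ : φ ≫ M.d 0 1 = 0)
    (g : M ⟶ N) :
    fromSingle₀ φ hφ ≫ g = fromSingle₀ (φ ≫ g.f 0)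
      (by rw [Category.assoc, g.comm 0 1, reassoc_of% hφ, zero_comp]) := by
  apply HomologicalComplex.from_single_hom_ext
  rw [HomologicalComplex.comp_f, fromSingle₀_f, fromSingle₀_f, Category.assoc]

end Lift

section Data

variable {A : Type (v + 1)} [Category.{v} A] [Abelian A] [HasDerivedCategory.{w} A]
  {C : Type u'} [Category.{v'} C]

/-- the acyclicity data. -/
structure AcycData (J : GrothendieckTopology C) (fr : C ⥤ A) (B : Set C) (PA : ObjectProperty A) :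
    Prop where
  locFr : LocFr J fr
  cover : ∀ U : C, ∃ R : Presieve U, Sieve.generate R ∈ J U ∧
    ∀ ⦃V : C⦄ (g : V ⟶ U), R g → V ∈ B
  van : ∀ V ∈ B, ∀ M : A, PA M → ∀ k : ℕ, 0 < k →
    Subsingleton (dsgl (fr.obj V) ⟶ (dsgl M)⟦(k : ℤ)⟧)

variable {J : GrothendieckTopology C} {fr : C ⥤ A} {B : Set C} {PA : ObjectProperty A}

/-- sections over `U ∈ B` lift along an epimorphism with kernel in `PA`. -/
lemma AcycData.exists_lift (hd : AcycData J fr B PA) {M N : A} (π : M ⟶ N) [Epi π]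
    (hK : PA (kernel π)) {U : C} (hU : U ∈ B) (s : fr.obj U ⟶ N) :
    ∃ s' : fr.obj U ⟶ M, s' ≫ π = s := by
  let S := ShortComplex.mk (kernel.ι π) π (kernel.condition π)
  have hS : S.ShortExact :=
    { exact := S.exact_of_f_is_kernel (kernelIsKernel π)
      mono_f := inferInstanceAs (Mono (kernel.ι π))
      epi_g := inferInstanceAs (Epi π) }
  have h1 := hd.van U hU _ hK 1 one_pos
  simp only [Nat.cast_one] at h1
  exact exists_lift_of_shortExact hS (fr.obj U) h1 s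

variable [WSerre.IsWeakSerre PA]

lemma prop_cycles {F : CochainComplex A ℤ} (hF : ∀ n, PA (F.X n)) (n : ℤ) : PA (F.cycles n) :=
  PA.prop_of_iso (F.sc n).cyclesIsoKernel.symm (PA.prop_kernel (F.sc n).g (hF _) (hF _))

lemma prop_homology {F : CochainComplex A ℤ} (hF : ∀ n, PA (F.X n)) (n : ℤ) :
    PA (F.homology n) :=
  Groth.Agent.Lib.Helper17.SSSerre.prop_homology PA (F.sc n) (hF _) (hF _) (hF _)

lemma cohIn_Q_obj {F : CochainComplex A ℤ} (hF : ∀ n, PA (F.homology n)) :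
    WSerre.cohIn PA (Q.obj F) := fun n =>
  PA.prop_of_iso ((homologyFunctorFactors A n).app F).symm (hF n)

end Data

section Main

variable {A : Type (v + 1)} [Category.{v} A] [Abelian A] [HasDerivedCategory.{w} A]
  [IsGrothendieckAbelian.{w'} A]
  {C : Type u'} [Category.{v'} C]
  {J : GrothendieckTopology C} {fr : C ⥤ A} {B : Set C} {PA : ObjectProperty A}
  [HasLimitsOfShape (Discrete ℕ) (DerivedCategory A)]

/-- `Hom_{D(A)}(fr U, K) = Hom(fr U, H^0 K)` for `U ∈ B` and `K ∈ D_{PA}(A)`. -/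
theorem bijective_c₀ (hd : AcycData J fr B PA) (K : DerivedCategory A) (hK : WSerre.cohIn PA K)
    {U : C} (hU : U ∈ B) :
    Function.Bijective (fun ξ : dsgl (fr.obj U) ⟶ K => c₀ ξ) := by
  have hcm := bijective_cm_of_acyclic.{w, w'} hd.locFr K B hd.cover
    (fun V hV m k hk => hd.van V hV _ (hK (m - k)) k
      (by have h0 : (0 : ℤ) < k := hk
          exact_mod_cast h0)) U hU 0
  let e : K ≅ K⟦(0 : ℤ)⟧ := (shiftFunctorZero (DerivedCategory A) ℤ).symm.app K
  let ι : (homologyFunctor A 0).obj K ≅ (homologyFunctor A 0).obj K :=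
    (homologyFunctor A 0).mapIso e ≪≫ shIso K 0
  have hcomp : (fun ζ : dsgl (fr.obj U) ⟶ K => c₀ ζ ≫ ι.hom) =
      (fun ξ : dsgl (fr.obj U) ⟶ K⟦(0 : ℤ)⟧ => cm ξ) ∘
        (fun ζ : dsgl (fr.obj U) ⟶ K => ζ ≫ e.hom) := by
    funext ζ
    dsimp only [Function.comp, cm, ι, Iso.trans_hom, Functor.mapIso_hom]
    rw [c₀_comp, Category.assoc]
  have h1 : Function.Bijective (fun ζ : dsgl (fr.obj U) ⟶ K => c₀ ζ ≫ ι.hom) := by
    rw [hcomp]
    refine hcm.comp ⟨fun a b hab => ?_, fun y => ⟨y ≫ e.inv, ?_⟩⟩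
    · exact (cancel_mono e.hom).1 hab
    · dsimp only
      rw [Category.assoc, e.inv_hom_id, Category.comp_id]
  refine ⟨fun a b hab => h1.1 ?_, fun y => ?_⟩
  · dsimp only at hab ⊢
    rw [hab]
  · obtain ⟨ζ, hζ⟩ := h1.2 (y ≫ ι.hom)
    exact ⟨ζ, (cancel_mono ι.hom).1 hζ⟩

variable [WSerre.IsWeakSerre PA]

/-- surjectivity of `H^0(Γ(U, F)) ⟶ H^0(Γ(U, I))`. -/
theorem exists_cycle_lift (hd : AcycData J fr B PA) {F I : CochainComplex A ℤ}
    (hF : ∀ n, PA (F.X n)) [I.IsKInjective] (q : F ⟶ I) [QuasiIso q] {U : C} (hU : U ∈ B)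
    (φ : fr.obj U ⟶ I.X 0) (hφ : φ ≫ I.d 0 1 = 0) :
    ∃ (ψ : fr.obj U ⟶ F.X 0) (w : fr.obj U ⟶ I.X (-1)),
      ψ ≫ F.d 0 1 = 0 ∧ φ = ψ ≫ q.f 0 + w ≫ I.d (-1) 0 := by
  haveI : IsIso ((Q : _ ⥤ DerivedCategory A).map q) := by
    rw [isIso_Q_map_iff_quasiIso]; infer_instance
  let ξ : dsgl (fr.obj U) ⟶ Q.obj F := Q.map (fromSingle₀ φ hφ) ≫ inv (Q.map q)
  let s : fr.obj U ⟶ F.homology 0 := c₀ ξ ≫ (homologyFunctorFactors A 0).hom.app F
  have hker : PA (kernel (F.homologyπ 0)) :=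
    PA.prop_kernel _ (prop_cycles hF 0) (prop_homology hF 0)
  obtain ⟨z, hz⟩ := hd.exists_lift (F.homologyπ 0) hker hU s
  have hψ : (z ≫ F.iCycles 0) ≫ F.d 0 1 = 0 := by
    rw [Category.assoc, HomologicalComplex.iCycles_d, comp_zero]
  have hlift : F.liftCycles (z ≫ F.iCycles 0) 1 (by simp) hψ = z := by
    rw [← cancel_mono (F.iCycles 0), HomologicalComplex.liftCycles_i]
  have h1 : c₀ (Q.map (fromSingle₀ (z ≫ F.iCycles 0) hψ)) = c₀ ξ := by
    rw [← cancel_mono ((homologyFunctorFactors A 0).hom.app F), c₀_fromSingle₀]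
    dsimp only [cyc]
    rw [hlift, hz]
    rfl
  have h2 : Q.map (fromSingle₀ (z ≫ F.iCycles 0) hψ) = ξ :=
    (bijective_c₀.{w, w'} hd (Q.obj F) (cohIn_Q_obj (prop_homology hF)) hU).1 h1
  have h3 : (Q : _ ⥤ DerivedCategory A).map (fromSingle₀ (z ≫ F.iCycles 0) hψ ≫ q) =
      Q.map (fromSingle₀ φ hφ) := by
    rw [Functor.map_comp, h2]
    dsimp only [ξ]
    rw [Category.assoc, IsIso.inv_hom_id, Category.comp_id]
  obtain ⟨H⟩ := homotopy_of_Q_map_eq h3
  have hc := H.comm 0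
  rw [dNext_eq _ (show (ComplexShape.up ℤ).Rel 0 1 by simp),
    prevD_eq _ (show (ComplexShape.up ℤ).Rel (-1) 0 by simp), sgl_d, zero_comp, zero_add,
    HomologicalComplex.comp_f, fromSingle₀_f, fromSingle₀_f] at hc
  refine ⟨z ≫ F.iCycles 0,
    -((HomologicalComplex.singleObjXSelf (ComplexShape.up ℤ) 0 (fr.obj U)).inv ≫ H.hom 0 (-1)),
    hψ, ?_⟩
  have hc' := congrArg
    (fun t => (HomologicalComplex.singleObjXSelf (ComplexShape.up ℤ) 0 (fr.obj U)).inv ≫ t) hc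
  rw [Preadditive.comp_add] at hc'
  simp only [Category.assoc, Iso.inv_hom_id_assoc] at hc'
  simp only [Preadditive.neg_comp, Category.assoc]
  rw [hc']
  abel

/-- injectivity of `H^0(Γ(U, F)) ⟶ H^0(Γ(U, I))`. -/
theorem exists_boundary (hd : AcycData J fr B PA) {F I : CochainComplex A ℤ}
    (hF : ∀ n, PA (F.X n)) (q : F ⟶ I) [QuasiIso q] {U : C} (hU : U ∈ B)
    (ψ : fr.obj U ⟶ F.X 0) (hψ : ψ ≫ F.d 0 1 = 0) (w : fr.obj U ⟶ I.X (-1))
    (hw : ψ ≫ q.f 0 = w ≫ I.d (-1) 0) :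
    ∃ v : fr.obj U ⟶ F.X (-1), ψ = v ≫ F.d (-1) 0 := by
  haveI : IsIso ((Q : _ ⥤ DerivedCategory A).map q) := by
    rw [isIso_Q_map_iff_quasiIso]; infer_instance
  have hφ' : (w ≫ I.d (-1) 0) ≫ I.d 0 1 = 0 := by
    rw [Category.assoc, I.d_comp_d, comp_zero]
  have h1 : fromSingle₀ ψ hψ ≫ q = fromSingle₀ (w ≫ I.d (-1) 0) hφ' := by
    rw [fromSingle₀_comp]
    congr 1
  have h2 : (Q : _ ⥤ DerivedCategory A).map (fromSingle₀ ψ hψ) = 0 := by
    rw [← cancel_mono (Q.map q), ← Functor.map_comp, h1, zero_comp,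
      Q_map_eq_of_homotopy (homotopyFromSingle₀ w hφ'), Functor.map_zero]
  have h3 : cyc ψ hψ = 0 := by
    rw [← c₀_fromSingle₀, h2, c₀_zero, zero_comp]
    rfl
  -- the boundaries
  let e : F.X (-1) ⟶ kernel (F.homologyπ 0) :=
    kernel.lift (F.homologyπ 0) (F.toCycles (-1) 0) (F.toCycles_comp_homologyπ (-1) 0)
  haveI : Epi e := by
    let S := ShortComplex.mk (F.toCycles (-1) 0) (F.homologyπ 0) (F.toCycles_comp_homologyπ (-1) 0)
    have hS : S.Exact := S.exact_of_g_is_cokernel (F.homologyIsCokernel (-1) 0 (by simp))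
    exact S.exact_iff_epi_kernel_lift.1 hS
  have hker : PA (kernel (F.homologyπ 0)) :=
    PA.prop_kernel _ (prop_cycles hF 0) (prop_homology hF 0)
  have hker' : PA (kernel e) := PA.prop_kernel _ (hF _) hker
  obtain ⟨v, hv⟩ := hd.exists_lift e hker' hU
    (kernel.lift (F.homologyπ 0) (F.liftCycles ψ 1 (by simp) hψ) h3)
  refine ⟨v, ?_⟩
  have h4 := congrArg (fun t => t ≫ kernel.ι (F.homologyπ 0) ≫ F.iCycles 0) hv
  dsimp only [e] at h4
  simp only [Category.assoc, kernel.lift_ι_assoc, HomologicalComplex.toCycles_i,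
    HomologicalComplex.liftCycles_i] at h4
  exact h4.symm

end Main

end Groth.Agent.Lib.Helper17.AffPush
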