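import Groth.Agent.Lib.Helper17Hyp29

/-!
# Cohomology objects of a derived limit as a limit of cohomology objects (helper17)

Abstract form of S0878 / S0869.
-/

set_option autoImplicit false

universe w w' v v' u u'

open CategoryTheory CategoryTheory.Limits Opposite

namespace Groth.Agent.Lib.Helper17.Hyp

/-- transport of the vanishing of `R^1 lim` along a compatible family of additive bijections. -/
theorem limOneIsZero_of_equiv {G G' : ℕ → Type w'} [∀ n, AddCommGroup (G n)]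
    [∀ n, AddCommGroup (G' n)] (t : ∀ n, G (n + 1) →+ G n) (t' : ∀ n, G' (n + 1) →+ G' n)
    (e : ∀ n, G n →+ G' n) (he : ∀ n, Function.Surjective (e n))
    (hcomm : ∀ n x, e n (t n x) = t' n (e (n + 1) x))
    (h : CohCx.LimOneIsZero G t) : CohCx.LimOneIsZero G' t' := by
  intro b
  choose b₀ hb₀ using fun n => he n (b n)
  obtain ⟨x, hx⟩ := h b₀
  refine ⟨fun n => e n (x n), ?_⟩
  funext n
  have h1 := congrFun hx n
  dsimp only at h1 ⊢
  rw [← hcomm, ← map_sub, h1, hb₀]

/-- variant of `limOneIsZero_of_equiv` with the bijections in the other direction. -/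
theorem limOneIsZero_of_bijective {G G' : ℕ → Type w'} [∀ n, AddCommGroup (G n)]
    [∀ n, AddCommGroup (G' n)] (t : ∀ n, G (n + 1) →+ G n) (t' : ∀ n, G' (n + 1) →+ G' n)
    (e : ∀ n, G' n →+ G n) (he : ∀ n, Function.Bijective (e n))
    (hcomm : ∀ n x, e n (t' n x) = t n (e (n + 1) x))
    (h : CohCx.LimOneIsZero G t) : CohCx.LimOneIsZero G' t' := by
  intro b'
  obtain ⟨x, hx⟩ := h (fun n => e n (b' n))
  choose x' hx' using fun n => (he n).2 (x n)
  refine ⟨x', ?_⟩
  funext n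
  have h1 := congrFun hx n
  dsimp only at h1 ⊢
  apply (he n).1
  rw [map_sub, hcomm, hx', hx', h1]

section Site

variable {A : Type u} [Category.{v} A] [Abelian A] {C : Type u'} [Category.{v'} C]
  {J : GrothendieckTopology C}

/-- the arrows of a covering sieve with source in a covering class generate a covering sieve. -/
lemma generate_inter_mem (B : Set C)
    (hB : ∀ U : C, ∃ R : Presieve U, Sieve.generate R ∈ J U ∧ ∀ ⦃V : C⦄ (g : V ⟶ U), R g → V ∈ B)
    {U : C} (T : Sieve U) (hT : T ∈ J U) :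
    Sieve.generate (fun W (g' : W ⟶ U) => W ∈ B ∧ T g') ∈ J U := by
  choose R₁ hR₁ hR₁B using hB
  refine J.superset_covering ?_ (J.bind_covering hT
    (R := fun W g' _ => Sieve.generate (R₁ W)) (fun W g' _ => hR₁ W))
  rintro W' _ ⟨W, k, g', hg', hk, rfl⟩
  obtain ⟨Z, a, b, hb, rfl⟩ := hk
  refine ⟨Z, a, b ≫ g', ⟨hR₁B W b hb, T.downward_closed hg' _⟩, ?_⟩
  rw [Category.assoc]

end Site

section Main

open DerivedCategory Pretriangulated

variable {A : Type (v + 1)} [Category.{v} A] [Abelian A] [HasDerivedCategory.{w} A]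
  {C : Type u'} [Category.{v'} C] {J : GrothendieckTopology C} {fr : C ⥤ A}

/-- Abstract form of S0878 / S0869. -/
theorem isIso_of_rlim_sections [IsGrothendieckAbelian.{w'} A] (h : LocFr J fr)
    {K : ℕ → DerivedCategory A} {t : ∀ n, K (n + 1) ⟶ K n} [HasProduct K]
    {L : DerivedCategory A} {a : ∀ n, L ⟶ K n} (hL : CohCx.IsRlimVia K t L a)
    (B : Set C)
    (hB : ∀ U : C, ∃ R : Presieve U, Sieve.generate R ∈ J U ∧ ∀ ⦃V : C⦄ (g : V ⟶ U), R g → V ∈ B)
    (q : ℤ)
    (hbij : ∀ V ∈ B, ∀ n, Function.Bijective (fun ξ : dsgl (fr.obj V) ⟶ (K n)⟦q⟧ => cm ξ))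
    (hlim1 : ∀ V ∈ B, CohCx.LimOneIsZero (fun n => dsgl (fr.obj V) ⟶ (K n)⟦q - 1⟧)
      (fun n => Preadditive.rightComp _ ((t n)⟦q - 1⟧')))
    {F : A} (π : ∀ n, F ⟶ (homologyFunctor A q).obj (K n))
    (hπt : ∀ n, π (n + 1) ≫ (homologyFunctor A q).map (t n) = π n)
    (hπ : ∀ {X : A} (s s' : X ⟶ F), (∀ n, s ≫ π n = s' ≫ π n) → s = s')
    (ψ : (homologyFunctor A q).obj L ⟶ F)
    (hψ : ∀ n, ψ ≫ π n = (homologyFunctor A q).map (a n)) :
    IsIso ψ := by
  haveI : Mono ψ := by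
    apply Abelian.mono_of_kernel_ι_eq_zero
    apply h.gen
    intro U s
    obtain ⟨T, hT, hT'⟩ := exists_lift_cm h L q U (s ≫ kernel.ι ψ)
    refine h.zero_of_generate U _ _ (generate_inter_mem B hB T hT) ?_
    rintro V g ⟨hVB, hg⟩
    obtain ⟨ξ, hξ⟩ := hT' g hg
    have hξ0 : ξ = 0 := by
      refine (Groth.Agent.S0943.milnor_general hL (dsgl (fr.obj V)) q).2 (hlim1 V hVB) ξ
        (fun n => ?_)
      apply (hbij V hVB n).1
      dsimp only
      rw [cm_comp, cm_zero, hξ, ← hψ n]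
      simp only [Category.assoc]
      rw [kernel.condition_assoc, zero_comp, comp_zero, comp_zero]
    rw [← hξ, hξ0, cm_zero]
  haveI : Epi ψ := by
    apply epi_of_local_lift h
    intro U s
    obtain ⟨R, hR, hRB⟩ := hB U
    refine ⟨R, hR, fun V g hg => ?_⟩
    have hVB := hRB g hg
    choose ξ hξ using fun n => (hbij V hVB n).2 ((fr.map g ≫ s) ≫ π n)
    dsimp only at hξ
    have hcompat : ∀ n, ξ (n + 1) ≫ (t n)⟦q⟧' = ξ n := by
      intro n
      apply (hbij V hVB n).1
      dsimp only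
      rw [cm_comp, hξ, hξ, Category.assoc, hπt]
    obtain ⟨y, hy⟩ := (Groth.Agent.S0943.milnor_general hL (dsgl (fr.obj V)) q).1 ξ hcompat
    refine ⟨cm y, hπ _ _ (fun n => ?_)⟩
    rw [Category.assoc, hψ, ← cm_comp, hy, hξ]
  exact isIso_of_mono_of_epi ψ

end Main

section Sheaf

open DerivedCategory

variable {C : Type u} [SmallCategory C] {J : GrothendieckTopology C}
  [HasDerivedCategory.{w} (Sheaf J AddCommGrpCat.{u})]

lemma bijective_canonU (K : DerivedCategory (Sheaf J AddCommGrpCat.{u})) (q : ℤ) (U : C)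
    (h : Function.Bijective (fun ξ : dsgl ((frSh J).obj U) ⟶ K⟦q⟧ => cm ξ)) :
    Function.Bijective (canonU K q U) :=
  (CohFree.homEquivSect J U (CohCx.HD K q)).bijective.comp h

lemma canonU_comp {K K' : DerivedCategory (Sheaf J AddCommGrpCat.{u})} (φ : K ⟶ K') (q : ℤ)
    (U : C) (ξ : CohCx.HDU K q U) :
    canonU K' q U (ξ ≫ φ⟦q⟧') =
      (((homologyFunctor (Sheaf J AddCommGrpCat.{u}) q).map φ).hom.app (op U)).hom
        (canonU K q U ξ) := by
  have h1 := cm_comp (P := CohCx.freeSheaf J U) ξ φ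
  exact (congrArg (CohFree.evalGen J U _) h1).trans (evalGen_comp J U _ _)

end Sheaf

end Groth.Agent.Lib.Helper17.Hyp
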