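import Groth.Agent.Lib.Helper17AffPush1
import Groth.Agent.Lib.Helper17Hyp30

/-!
# Pushing forward a resolution of a complex with acyclic terms (helper17)

* `cyc` calculus; local structure of `H^0` of a complex in terms of sections (`exists_cyc`,
  `exists_boundary_of_cyc_eq_zero`).
* `SecData`: a functor `Φ : A ⥤ A'` whose sections are sections of the argument:
  `Hom(fr' V, Φ M) = Hom(fr (u V), M)`.
* `quasiIsoAt_map_zero`: `Φ` sends a quasi-isomorphism from a complex with terms in `PA` to a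
  K-injective complex to a quasi-isomorphism in degree `0`.
-/

set_option autoImplicit false
set_option linter.style.haveILetI false

universe w w' v v' u u' v₂ u₂ v₃ u₃

open CategoryTheory CategoryTheory.Limits Opposite

namespace Groth.Agent.Lib.Helper17.AffPush

open DerivedCategory Groth.Agent.Lib.Helper17.Hyp Groth.Agent.Lib.Helper17.KInj

section Cyc

variable {A : Type u} [Category.{v} A] [Abelian A]

lemma cyc_comp_homologyMap {P : A} {M N : CochainComplex A ℤ} (φ : P ⟶ M.X 0)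
    (hφ : φ ≫ M.d 0 1 = 0) (g : M ⟶ N) :
    cyc φ hφ ≫ HomologicalComplex.homologyMap g 0 =
      cyc (φ ≫ g.f 0) (by rw [Category.assoc, g.comm 0 1, reassoc_of% hφ, zero_comp]) := by
  dsimp only [cyc]
  rw [Category.assoc, HomologicalComplex.homologyπ_naturality, ← Category.assoc]
  congr 1
  rw [← cancel_mono (N.iCycles 0), Category.assoc, HomologicalComplex.cyclesMap_i,
    HomologicalComplex.liftCycles_i_assoc, HomologicalComplex.liftCycles_i]

lemma cyc_precomp {P P' : A} {M : CochainComplex A ℤ} (a : P' ⟶ P) (φ : P ⟶ M.X 0)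
    (hφ : φ ≫ M.d 0 1 = 0) :
    a ≫ cyc φ hφ = cyc (a ≫ φ) (by rw [Category.assoc, hφ, comp_zero]) := by
  dsimp only [cyc]
  rw [← Category.assoc]
  congr 1
  rw [← cancel_mono (M.iCycles 0), Category.assoc, HomologicalComplex.liftCycles_i,
    HomologicalComplex.liftCycles_i]

lemma cyc_boundary {P : A} {M : CochainComplex A ℤ} (w : P ⟶ M.X (-1))
    (h : (w ≫ M.d (-1) 0) ≫ M.d 0 1 = 0) : cyc (w ≫ M.d (-1) 0) h = 0 :=
  M.liftCycles_homologyπ_eq_zero_of_boundary _ 1 (by simp) w rfl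

lemma cyc_congr {P : A} {M : CochainComplex A ℤ} {φ φ' : P ⟶ M.X 0} (h : φ = φ')
    (hφ : φ ≫ M.d 0 1 = 0) : cyc φ hφ = cyc φ' (h ▸ hφ) := by
  subst h; rfl

lemma cyc_add_boundary {P : A} {M : CochainComplex A ℤ} (φ : P ⟶ M.X 0) (hφ : φ ≫ M.d 0 1 = 0)
    (w : P ⟶ M.X (-1))
    (h : (φ + w ≫ M.d (-1) 0) ≫ M.d 0 1 = 0) : cyc (φ + w ≫ M.d (-1) 0) h = cyc φ hφ := by
  have hw : (w ≫ M.d (-1) 0) ≫ M.d 0 1 = 0 := by rw [Category.assoc, M.d_comp_d, comp_zero]
  have h1 : M.liftCycles (φ + w ≫ M.d (-1) 0) 1 (by simp) h =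
      M.liftCycles φ 1 (by simp) hφ + M.liftCycles (w ≫ M.d (-1) 0) 1 (by simp) hw := by
    rw [← cancel_mono (M.iCycles 0), Preadditive.add_comp, HomologicalComplex.liftCycles_i,
      HomologicalComplex.liftCycles_i, HomologicalComplex.liftCycles_i]
  dsimp only [cyc]
  rw [h1, Preadditive.add_comp]
  have := cyc_boundary w hw
  dsimp only [cyc] at this
  rw [this, add_zero]

/-- the boundaries map onto the kernel of `Z^0 ⟶ H^0`. -/
noncomputable def toBoundaries (M : CochainComplex A ℤ) : M.X (-1) ⟶ kernel (M.homologyπ 0) :=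
  kernel.lift (M.homologyπ 0) (M.toCycles (-1) 0) (M.toCycles_comp_homologyπ (-1) 0)

instance (M : CochainComplex A ℤ) : Epi (toBoundaries M) := by
  let S := ShortComplex.mk (M.toCycles (-1) 0) (M.homologyπ 0) (M.toCycles_comp_homologyπ (-1) 0)
  have hS : S.Exact := S.exact_of_g_is_cokernel (M.homologyIsCokernel (-1) 0 (by simp))
  exact S.exact_iff_epi_kernel_lift.1 hS

lemma toBoundaries_ι (M : CochainComplex A ℤ) :
    toBoundaries M ≫ kernel.ι (M.homologyπ 0) ≫ M.iCycles 0 = M.d (-1) 0 := by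
  dsimp only [toBoundaries]
  rw [kernel.lift_ι_assoc, HomologicalComplex.toCycles_i]

variable {C : Type u'} [Category.{v'} C] {J : GrothendieckTopology C} {fr : C ⥤ A}

/-- sections of `H^0` are locally classes of cycles. -/
lemma exists_cyc (h : LocFr J fr) (M : CochainComplex A ℤ) (U : C) (s : fr.obj U ⟶ M.homology 0) :
    ∃ T ∈ J U, ∀ ⦃V : C⦄ (f : V ⟶ U), T f →
      ∃ (φ : fr.obj V ⟶ M.X 0) (hφ : φ ≫ M.d 0 1 = 0), cyc φ hφ = fr.map f ≫ s := by
  obtain ⟨T, hT, hT'⟩ := h.lift (M.homologyπ 0) U s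
  refine ⟨T, hT, fun V f hf => ?_⟩
  obtain ⟨z, hz⟩ := hT' f hf
  have hφ : (z ≫ M.iCycles 0) ≫ M.d 0 1 = 0 := by
    rw [Category.assoc, HomologicalComplex.iCycles_d, comp_zero]
  refine ⟨z ≫ M.iCycles 0, hφ, ?_⟩
  dsimp only [cyc]
  have : M.liftCycles (z ≫ M.iCycles 0) 1 (by simp) hφ = z := by
    rw [← cancel_mono (M.iCycles 0), HomologicalComplex.liftCycles_i]
  rw [this, hz]

/-- a cycle whose class vanishes is locally a boundary. -/
lemma exists_boundary_of_cyc_eq_zero (h : LocFr J fr) (M : CochainComplex A ℤ) (V : C)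
    (φ : fr.obj V ⟶ M.X 0) (hφ : φ ≫ M.d 0 1 = 0) (h0 : cyc φ hφ = 0) :
    ∃ T ∈ J V, ∀ ⦃W : C⦄ (k : W ⟶ V), T k →
      ∃ y : fr.obj W ⟶ M.X (-1), fr.map k ≫ φ = y ≫ M.d (-1) 0 := by
  obtain ⟨T, hT, hT'⟩ := h.lift (toBoundaries M) V
    (kernel.lift (M.homologyπ 0) (M.liftCycles φ 1 (by simp) hφ) h0)
  refine ⟨T, hT, fun W k hk => ?_⟩
  obtain ⟨y, hy⟩ := hT' k hk
  refine ⟨y, ?_⟩
  have h1 := congrArg (fun t => t ≫ kernel.ι (M.homologyπ 0) ≫ M.iCycles 0) hy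
  rw [Category.assoc, toBoundaries_ι] at h1
  simp only [Category.assoc, kernel.lift_ι_assoc, HomologicalComplex.liftCycles_i] at h1
  exact h1.symm

end Cyc

section Sec

variable {A : Type u} [Category.{v} A] [Abelian A]
  {C : Type u'} [Category.{v'} C]
  {A' : Type u₂} [Category.{v₂} A'] [Abelian A']
  {C' : Type u₃} [Category.{v₃} C']

/-- sections of `Φ M` are sections of `M`. -/
structure SecData (Φ : A ⥤ A') (fr : C ⥤ A) (fr' : C' ⥤ A') (B : Set C) (B' : Set C') where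
  u : C' → C
  hu : ∀ V ∈ B', u V ∈ B
  θ : ∀ (V : C') (M : A), (fr'.obj V ⟶ Φ.obj M) ≃+ (fr.obj (u V) ⟶ M)
  nat : ∀ (V : C') {M N : A} (z : fr'.obj V ⟶ Φ.obj M) (g : M ⟶ N),
    θ V N (z ≫ Φ.map g) = θ V M z ≫ g

variable {Φ : A ⥤ A'} {fr : C ⥤ A} {fr' : C' ⥤ A'} {B : Set C} {B' : Set C'}

lemma SecData.symm_nat (sd : SecData Φ fr fr' B B') (V : C') {M N : A} (y : fr.obj (sd.u V) ⟶ M)
    (g : M ⟶ N) : (sd.θ V N).symm (y ≫ g) = (sd.θ V M).symm y ≫ Φ.map g := by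
  apply (sd.θ V N).injective
  rw [AddEquiv.apply_symm_apply, sd.nat, AddEquiv.apply_symm_apply]

variable [Φ.Additive]

local notation "ΦC" => Functor.mapHomologicalComplex Φ (ComplexShape.up ℤ)

/-- `θ` on the terms of a complex. -/
def SecData.θc (sd : SecData Φ fr fr' B B') (V : C') (M : CochainComplex A ℤ) (n : ℤ) :
    (fr'.obj V ⟶ ((ΦC).obj M).X n) ≃+ (fr.obj (sd.u V) ⟶ M.X n) :=
  sd.θ V (M.X n)

lemma SecData.θc_d (sd : SecData Φ fr fr' B B') (V : C') (M : CochainComplex A ℤ) (n m : ℤ)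
    (z : fr'.obj V ⟶ ((ΦC).obj M).X n) :
    sd.θc V M m (z ≫ ((ΦC).obj M).d n m) = sd.θc V M n z ≫ M.d n m :=
  sd.nat V z (M.d n m)

lemma SecData.θc_map (sd : SecData Φ fr fr' B B') (V : C') {M N : CochainComplex A ℤ} (g : M ⟶ N)
    (n : ℤ) (z : fr'.obj V ⟶ ((ΦC).obj M).X n) :
    sd.θc V N n (z ≫ ((ΦC).map g).f n) = sd.θc V M n z ≫ g.f n :=
  sd.nat V z (g.f n)

lemma SecData.θc_symm_d (sd : SecData Φ fr fr' B B') (V : C') (M : CochainComplex A ℤ) (n m : ℤ)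
    (y : fr.obj (sd.u V) ⟶ M.X n) :
    (sd.θc V M m).symm (y ≫ M.d n m) = (sd.θc V M n).symm y ≫ ((ΦC).obj M).d n m :=
  sd.symm_nat V y (M.d n m)

lemma SecData.θc_symm_map (sd : SecData Φ fr fr' B B') (V : C') {M N : CochainComplex A ℤ}
    (g : M ⟶ N) (n : ℤ) (y : fr.obj (sd.u V) ⟶ M.X n) :
    (sd.θc V N n).symm (y ≫ g.f n) = (sd.θc V M n).symm y ≫ ((ΦC).map g).f n :=
  sd.symm_nat V y (g.f n)

end Sec

section Main

variable {A : Type (v + 1)} [Category.{v} A] [Abelian A] [HasDerivedCategory.{w} A]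
  [IsGrothendieckAbelian.{w'} A]
  {C : Type u'} [Category.{v'} C]
  {J : GrothendieckTopology C} {fr : C ⥤ A} {B : Set C} {PA : ObjectProperty A}
  [HasLimitsOfShape (Discrete ℕ) (DerivedCategory A)] [WSerre.IsWeakSerre PA]
  {A' : Type (v₂ + 1)} [Category.{v₂} A'] [Abelian A']
  {C' : Type u₃} [Category.{v₃} C'] {J' : GrothendieckTopology C'} {fr' : C' ⥤ A'} {B' : Set C'}
  {Φ : A ⥤ A'} [Φ.Additive]

local notation "ΦC" => Functor.mapHomologicalComplex Φ (ComplexShape.up ℤ)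

/-- `Φ` sends a quasi-isomorphism from a complex with terms in `PA` to a K-injective complex to a
quasi-isomorphism in degree `0`. -/
theorem quasiIsoAt_map_zero (hd : AcycData J fr B PA) (h' : LocFr J' fr')
    (hB' : ∀ U : C', ∃ R : Presieve U, Sieve.generate R ∈ J' U ∧
      ∀ ⦃V : C'⦄ (g : V ⟶ U), R g → V ∈ B')
    (sd : SecData Φ fr fr' B B') {F I : CochainComplex A ℤ}
    (hF : ∀ n, PA (F.X n)) [I.IsKInjective] (q : F ⟶ I) [QuasiIso q] :
    QuasiIsoAt ((ΦC).map q) 0 := by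
  rw [quasiIsoAt_iff_isIso_homologyMap]
  haveI : Mono (HomologicalComplex.homologyMap ((ΦC).map q) 0) := by
    apply Abelian.mono_of_kernel_ι_eq_zero
    apply h'.gen
    intro U' s₀
    let t := s₀ ≫ kernel.ι (HomologicalComplex.homologyMap ((ΦC).map q) 0)
    have ht : t ≫ HomologicalComplex.homologyMap ((ΦC).map q) 0 = 0 := by
      dsimp only [t]
      rw [Category.assoc, kernel.condition, comp_zero]
    change t = 0
    obtain ⟨T, hT, hT'⟩ := exists_cyc h' ((ΦC).obj F) U' t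
    refine h'.zero_of_generate U' t _ (generate_inter_mem B' hB' T hT) ?_
    rintro V g ⟨hVB, hg⟩
    obtain ⟨ψ', hψ', hcyc⟩ := hT' g hg
    rw [← hcyc]
    -- the image cycle has zero class
    have h1 : cyc (ψ' ≫ ((ΦC).map q).f 0)
        (by rw [Category.assoc, ((ΦC).map q).comm 0 1, reassoc_of% hψ', zero_comp]) = 0 := by
      rw [← cyc_comp_homologyMap ψ' hψ' ((ΦC).map q), hcyc, Category.assoc, ht, comp_zero]
    obtain ⟨T₂, hT₂, hT₂'⟩ := exists_boundary_of_cyc_eq_zero h' ((ΦC).obj I) V _ _ h1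
    refine h'.zero_of_generate V _ _ (generate_inter_mem B' hB' T₂ hT₂) ?_
    rintro W k ⟨hWB, hk⟩
    obtain ⟨y, hy⟩ := hT₂' k hk
    rw [cyc_precomp]
    -- transfer to `A`
    have hψ : sd.θc W F 0 (fr'.map k ≫ ψ') ≫ F.d 0 1 = 0 := by
      rw [← sd.θc_d, Category.assoc, hψ', comp_zero, map_zero]
    have hw : sd.θc W F 0 (fr'.map k ≫ ψ') ≫ q.f 0 = sd.θc W I (-1) y ≫ I.d (-1) 0 := by
      rw [← sd.θc_map, ← sd.θc_d, Category.assoc, hy]
    obtain ⟨v, hv⟩ := exists_boundary.{w, w'} hd hF q (sd.hu W hWB) _ hψ _ hw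
    have h2 : fr'.map k ≫ ψ' = (sd.θc W F (-1)).symm v ≫ ((ΦC).obj F).d (-1) 0 := by
      apply (sd.θc W F 0).injective
      rw [hv, sd.θc_d, AddEquiv.apply_symm_apply]
    rw [cyc_congr h2]
    exact cyc_boundary _ _
  haveI : Epi (HomologicalComplex.homologyMap ((ΦC).map q) 0) := by
    apply epi_of_local_lift h'
    intro U' s
    obtain ⟨T, hT, hT'⟩ := exists_cyc h' ((ΦC).obj I) U' s
    refine ⟨_, generate_inter_mem B' hB' T hT, ?_⟩
    rintro V g ⟨hVB, hg⟩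
    obtain ⟨φ', hφ', hcyc⟩ := hT' g hg
    have hφ : sd.θc V I 0 φ' ≫ I.d 0 1 = 0 := by
      rw [← sd.θc_d, hφ', map_zero]
    obtain ⟨ψ, w, hψ, hφψ⟩ := exists_cycle_lift.{w, w'} hd hF q (sd.hu V hVB) _ hφ
    have hψ' : (sd.θc V F 0).symm ψ ≫ ((ΦC).obj F).d 0 1 = 0 := by
      rw [← sd.θc_symm_d, hψ, map_zero]
    refine ⟨cyc ((sd.θc V F 0).symm ψ) hψ', ?_⟩
    rw [cyc_comp_homologyMap, ← hcyc]
    have h3 : (sd.θc V F 0).symm ψ ≫ ((ΦC).map q).f 0 =
        φ' + (-(sd.θc V I (-1)).symm w) ≫ ((ΦC).obj I).d (-1) 0 := by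
      apply (sd.θc V I 0).injective
      rw [map_add, sd.θc_map, sd.θc_d, map_neg, AddEquiv.apply_symm_apply,
        AddEquiv.apply_symm_apply, hφψ, Preadditive.neg_comp]
      abel
    rw [cyc_congr h3]
    exact cyc_add_boundary _ hφ' _ _
  exact isIso_of_mono_of_epi _

end Main

end Groth.Agent.Lib.Helper17.AffPush
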