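import Groth.Agent.Lib.Helper17AffPush2

/-!
# Pushing forward: all degrees, and the degenerate Leray comparison (helper17)

* `quasiIso_map`: `Φ` sends a quasi-isomorphism from a complex with terms in `PA` to a K-injective
  complex to a quasi-isomorphism.
* `homologyComparison`, `isIso_homologyComparison`: for a K-injective complex `I` with cohomology in
  `PA`, `H^0(Φ I) ≅ Φ(H^0 I)`; `nonempty_homology_iso`: the same in all degrees.
-/

set_option autoImplicit false
set_option linter.style.haveILetI false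

universe w w' v v' u u' v₂ u₂ v₃ u₃

open CategoryTheory CategoryTheory.Limits Opposite

namespace Groth.Agent.Lib.Helper17.AffPush

open DerivedCategory Groth.Agent.Lib.Helper17.Hyp Groth.Agent.Lib.Helper17.KInj

section Shift

variable {A : Type u} [Category.{v} A] [Abelian A] {A' : Type u₂} [Category.{v₂} A'] [Abelian A']
  (Φ : A ⥤ A') [Φ.Additive]

local notation "ΦC" => Functor.mapHomologicalComplex Φ (ComplexShape.up ℤ)

/-- reduction of `QuasiIsoAt ((ΦC).map q) n` to degree `0` of the shifted map. -/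
lemma quasiIsoAt_map_of_shift {F I : CochainComplex A ℤ} (q : F ⟶ I) (n : ℤ)
    (h : QuasiIsoAt ((ΦC).map (q⟦n⟧')) 0) : QuasiIsoAt ((ΦC).map q) n := by
  rw [← CochainComplex.quasiIsoAt_shift_iff ((ΦC).map q) n 0 n (add_zero n)]
  have hnat := ((ΦC).commShiftIso n).hom.naturality q
  dsimp only [Functor.comp_map] at hnat
  haveI : QuasiIsoAt (((ΦC).commShiftIso n).hom.app F ≫ ((ΦC).map q)⟦n⟧') 0 := by
    rw [← hnat]
    infer_instance
  exact quasiIsoAt_of_comp_left (((ΦC).commShiftIso n).hom.app F) _ 0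

/-- `H^n(Φ I) ≅ H^0(Φ (I[n]))`. -/
noncomputable def homologyMapShiftIso (I : CochainComplex A ℤ) (n : ℤ) :
    ((ΦC).obj I).homology n ≅ ((ΦC).obj (I⟦n⟧)).homology 0 :=
  (((HomologicalComplex.homologyFunctor A' (ComplexShape.up ℤ) 0).shiftIso n 0 n
    (add_zero n)).app ((ΦC).obj I)).symm ≪≫
    (HomologicalComplex.homologyFunctor A' (ComplexShape.up ℤ) 0).mapIso
      (((ΦC).commShiftIso n).app I).symm

/-- `H^0(I[n]) ≅ H^n(I)`. -/
noncomputable def homologyShiftIso (I : CochainComplex A ℤ) (n : ℤ) :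
    (I⟦n⟧).homology 0 ≅ I.homology n :=
  ((HomologicalComplex.homologyFunctor A (ComplexShape.up ℤ) 0).shiftIso n 0 n
    (add_zero n)).app I

end Shift

section Main

variable {A : Type (v + 1)} [Category.{v} A] [Abelian A] [HasDerivedCategory.{w} A]
  [IsGrothendieckAbelian.{w'} A]
  {C : Type u'} [Category.{v'} C]
  {J : GrothendieckTopology C} {fr : C ⥤ A} {B : Set C} {PA : ObjectProperty A}
  [HasLimitsOfShape (Discrete ℕ) (DerivedCategory A)] [WSerre.IsWeakSerre PA]
  {A' : Type (v₂ + 1)} [Category.{v₂} A'] [Abelian A']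
  {C' : Type u₃} [Category.{v₃} C'] {J' : GrothendieckTopology C'} {fr' : C' ⥤ A'} {B' : Set C'}
  {Φ : A ⥤ A'} [Φ.Additive]

local notation "ΦC" => Functor.mapHomologicalComplex Φ (ComplexShape.up ℤ)

/-- `Φ` sends a quasi-isomorphism from a complex with terms in `PA` to a K-injective complex to a
quasi-isomorphism. -/
theorem quasiIso_map (hd : AcycData J fr B PA) (h' : LocFr J' fr')
    (hB' : ∀ U : C', ∃ R : Presieve U, Sieve.generate R ∈ J' U ∧
      ∀ ⦃V : C'⦄ (g : V ⟶ U), R g → V ∈ B')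
    (sd : SecData Φ fr fr' B B') {F I : CochainComplex A ℤ}
    (hF : ∀ n, PA (F.X n)) [I.IsKInjective] (q : F ⟶ I) [QuasiIso q] :
    QuasiIso ((ΦC).map q) := by
  rw [quasiIso_iff]
  intro n
  apply quasiIsoAt_map_of_shift
  exact quasiIsoAt_map_zero.{w, w'} hd h' hB' sd (F := F⟦n⟧) (I := I⟦n⟧)
    (fun i => hF (i + n)) (q⟦n⟧')

variable [PreservesFiniteLimits Φ]

/-- `Z^0(Φ M) ⟶ Φ(Z^0 M)` (an isomorphism, as `Φ` is left exact). -/
noncomputable def cyclesComparison (M : CochainComplex A ℤ) :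
    ((ΦC).obj M).cycles 0 ⟶ Φ.obj (M.cycles 0) :=
  (KernelFork.IsLimit.lift'
    (isLimitForkMapOfIsLimit' Φ (M.iCycles_d 0 1) (M.cyclesIsKernel 0 1 (by simp)))
    (((ΦC).obj M).iCycles 0) (((ΦC).obj M).iCycles_d 0 1)).1

lemma cyclesComparison_ι (M : CochainComplex A ℤ) :
    cyclesComparison M ≫ Φ.map (M.iCycles 0) = ((ΦC).obj M).iCycles 0 :=
  (KernelFork.IsLimit.lift'
    (isLimitForkMapOfIsLimit' Φ (M.iCycles_d 0 1) (M.cyclesIsKernel 0 1 (by simp)))
    (((ΦC).obj M).iCycles 0) (((ΦC).obj M).iCycles_d 0 1)).2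

lemma toCycles_cyclesComparison (M : CochainComplex A ℤ) :
    ((ΦC).obj M).toCycles (-1) 0 ≫ cyclesComparison M = Φ.map (M.toCycles (-1) 0) := by
  rw [← cancel_mono (Φ.map (M.iCycles 0)), Category.assoc, cyclesComparison_ι]
  refine (((ΦC).obj M).toCycles_i (-1) 0).trans ?_
  exact (congrArg Φ.map (M.toCycles_i (-1) 0)).symm.trans (Φ.map_comp _ _)

/-- the comparison `H^0(Φ M) ⟶ Φ(H^0 M)`. -/
noncomputable def homologyComparison (M : CochainComplex A ℤ) :
    ((ΦC).obj M).homology 0 ⟶ Φ.obj (M.homology 0) :=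
  (((ΦC).obj M).homologyIsCokernel (-1) 0 (by simp)).desc
    (CokernelCofork.ofπ (cyclesComparison M ≫ Φ.map (M.homologyπ 0)) (by
      rw [← Category.assoc, toCycles_cyclesComparison]
      exact (Φ.map_comp _ _).symm.trans
        (by rw [HomologicalComplex.toCycles_comp_homologyπ, Functor.map_zero]; rfl)))

lemma homologyπ_homologyComparison (M : CochainComplex A ℤ) :
    ((ΦC).obj M).homologyπ 0 ≫ homologyComparison M =
      cyclesComparison M ≫ Φ.map (M.homologyπ 0) :=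
  Cofork.IsColimit.π_desc (((ΦC).obj M).homologyIsCokernel (-1) 0 (by simp))

/-- the key compatibility of the comparison with sections. -/
lemma cyc_homologyComparison (sd : SecData Φ fr fr' B B') (M : CochainComplex A ℤ) (V : C')
    (φ' : fr'.obj V ⟶ ((ΦC).obj M).X 0) (hφ' : φ' ≫ ((ΦC).obj M).d 0 1 = 0)
    (hφ : sd.θc V M 0 φ' ≫ M.d 0 1 = 0) :
    cyc φ' hφ' ≫ homologyComparison M = (sd.θ V (M.homology 0)).symm (cyc (sd.θc V M 0 φ') hφ) := by
  dsimp only [cyc]
  rw [Category.assoc, homologyπ_homologyComparison, ← Category.assoc]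
  let a : fr'.obj V ⟶ Φ.obj (M.cycles 0) :=
    ((ΦC).obj M).liftCycles φ' 1 (by simp) hφ' ≫ cyclesComparison M
  have ha : a ≫ Φ.map (M.iCycles 0) = φ' := by
    dsimp only [a]
    rw [Category.assoc, cyclesComparison_ι]
    exact ((ΦC).obj M).liftCycles_i _ _ _ _
  have h1 : sd.θ V (M.cycles 0) a = M.liftCycles (sd.θc V M 0 φ') 1 (by simp) hφ := by
    rw [← cancel_mono (M.iCycles 0), HomologicalComplex.liftCycles_i, ← sd.nat, ha]
    rfl
  change a ≫ Φ.map (M.homologyπ 0) = _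
  apply (sd.θ V (M.homology 0)).injective
  rw [sd.nat, h1, AddEquiv.apply_symm_apply]

/-- degenerate Leray: `H^0(Φ I) ≅ Φ(H^0 I)` for a K-injective complex with cohomology in `PA`. -/
theorem isIso_homologyComparison (hd : AcycData J fr B PA) (h' : LocFr J' fr')
    (hB' : ∀ U : C', ∃ R : Presieve U, Sieve.generate R ∈ J' U ∧
      ∀ ⦃V : C'⦄ (g : V ⟶ U), R g → V ∈ B')
    (sd : SecData Φ fr fr' B B') (I : CochainComplex A ℤ) [I.IsKInjective]
    (hI : ∀ n, PA (I.homology n)) :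
    IsIso (homologyComparison (Φ := Φ) I) := by
  have hcoh : WSerre.cohIn PA (Q.obj I) := cohIn_Q_obj hI
  -- the class of a cycle determines the derived class
  have key : ∀ (V : C') (hV : V ∈ B') (φ : fr.obj (sd.u V) ⟶ I.X 0) (hφ : φ ≫ I.d 0 1 = 0),
      cyc φ hφ = 0 → ∃ w : fr.obj (sd.u V) ⟶ I.X (-1), φ = w ≫ I.d (-1) 0 := by
    intro V hV φ hφ h0
    have h1 : c₀ (Q.map (fromSingle₀ φ hφ)) = c₀ (0 : dsgl (fr.obj (sd.u V)) ⟶ Q.obj I) := by
      rw [← cancel_mono ((homologyFunctorFactors A 0).hom.app I), c₀_fromSingle₀, h0, c₀_zero,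
        zero_comp]
      rfl
    have h2 : Q.map (fromSingle₀ φ hφ) = (0 : dsgl (fr.obj (sd.u V)) ⟶ Q.obj I) :=
      (bijective_c₀.{w, w'} hd (Q.obj I) hcoh (sd.hu V hV)).1 h1
    rw [← Functor.map_zero (Q : _ ⥤ DerivedCategory A)] at h2
    obtain ⟨H⟩ := homotopy_of_Q_map_eq h2
    have hc := H.comm 0
    rw [dNext_eq _ (show (ComplexShape.up ℤ).Rel 0 1 by simp),
      prevD_eq _ (show (ComplexShape.up ℤ).Rel (-1) 0 by simp), sgl_d, zero_comp, zero_add,
      fromSingle₀_f, HomologicalComplex.zero_f, add_zero] at hc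
    refine ⟨(HomologicalComplex.singleObjXSelf (ComplexShape.up ℤ) 0 (fr.obj (sd.u V))).inv ≫
      H.hom 0 (-1), ?_⟩
    rw [Category.assoc, ← hc, Iso.inv_hom_id_assoc]
  haveI : Mono (homologyComparison (Φ := Φ) I) := by
    apply Abelian.mono_of_kernel_ι_eq_zero
    apply h'.gen
    intro U' s₀
    let t := s₀ ≫ kernel.ι (homologyComparison (Φ := Φ) I)
    have ht : t ≫ homologyComparison (Φ := Φ) I = 0 := by
      dsimp only [t]
      rw [Category.assoc, kernel.condition, comp_zero]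
    change t = 0
    obtain ⟨T, hT, hT'⟩ := exists_cyc h' ((ΦC).obj I) U' t
    refine h'.zero_of_generate U' t _ (generate_inter_mem B' hB' T hT) ?_
    rintro V g ⟨hVB, hg⟩
    obtain ⟨φ', hφ', hcyc⟩ := hT' g hg
    rw [← hcyc]
    have hφ : sd.θc V I 0 φ' ≫ I.d 0 1 = 0 := by
      rw [← sd.θc_d, hφ', map_zero]
    have h1 : cyc (sd.θc V I 0 φ') hφ = 0 := by
      have := cyc_homologyComparison sd I V φ' hφ' hφ
      rw [hcyc, Category.assoc, ht, comp_zero] at this
      have h2 := congrArg (sd.θ V (I.homology 0)) this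
      rw [AddEquiv.apply_symm_apply, map_zero] at h2
      exact h2.symm
    obtain ⟨w, hw⟩ := key V hVB _ hφ h1
    have h2 : φ' = (sd.θc V I (-1)).symm w ≫ ((ΦC).obj I).d (-1) 0 := by
      apply (sd.θc V I 0).injective
      rw [hw, sd.θc_d, AddEquiv.apply_symm_apply]
    rw [cyc_congr h2]
    exact cyc_boundary _ _
  haveI : Epi (homologyComparison (Φ := Φ) I) := by
    apply epi_of_local_lift h'
    intro U' s
    obtain ⟨R, hR, hRB⟩ := hB' U'
    refine ⟨R, hR, fun V g hg => ?_⟩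
    have hVB := hRB g hg
    -- the section of `H^0 I`
    let s' : fr.obj (sd.u V) ⟶ I.homology 0 := sd.θ V _ (fr'.map g ≫ s)
    obtain ⟨ξ, hξ⟩ := (bijective_c₀.{w, w'} hd (Q.obj I) hcoh (sd.hu V hVB)).2
      (s' ≫ (homologyFunctorFactors A 0).inv.app I)
    obtain ⟨gc, rfl⟩ := exists_Q_map_eq ξ
    obtain ⟨φ, hφ, rfl⟩ := eq_fromSingle₀ gc
    have h1 : cyc φ hφ = s' := by
      rw [← c₀_fromSingle₀]
      dsimp only at hξ
      rw [hξ, Category.assoc]
      exact (congrArg (fun t => s' ≫ t) ((homologyFunctorFactors A 0).inv_hom_id_app I)).trans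
        (Category.comp_id _)
    have hφ' : (sd.θc V I 0).symm φ ≫ ((ΦC).obj I).d 0 1 = 0 := by
      rw [← sd.θc_symm_d, hφ, map_zero]
    refine ⟨cyc ((sd.θc V I 0).symm φ) hφ', ?_⟩
    have hφ2 : sd.θc V I 0 ((sd.θc V I 0).symm φ) ≫ I.d 0 1 = 0 := by
      rw [AddEquiv.apply_symm_apply]; exact hφ
    rw [cyc_homologyComparison sd I V _ hφ' hφ2]
    apply (sd.θ V (I.homology 0)).injective
    rw [AddEquiv.apply_symm_apply]
    change _ = s'
    rw [← h1]
    exact cyc_congr (AddEquiv.apply_symm_apply _ _) _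
  exact isIso_of_mono_of_epi _

/-- degenerate Leray in all degrees. -/
theorem nonempty_homology_iso (hd : AcycData J fr B PA) (h' : LocFr J' fr')
    (hB' : ∀ U : C', ∃ R : Presieve U, Sieve.generate R ∈ J' U ∧
      ∀ ⦃V : C'⦄ (g : V ⟶ U), R g → V ∈ B')
    (sd : SecData Φ fr fr' B B') (I : CochainComplex A ℤ) [I.IsKInjective]
    (hI : ∀ n, PA (I.homology n)) (n : ℤ) :
    Nonempty (((ΦC).obj I).homology n ≅ Φ.obj (I.homology n)) := by
  have hIn : ∀ m, PA ((I⟦n⟧).homology m) := fun m =>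
    PA.prop_of_iso (((HomologicalComplex.homologyFunctor A (ComplexShape.up ℤ) 0).shiftIso n m
      (n + m) rfl).app I).symm (hI (n + m))
  haveI := isIso_homologyComparison.{w, w'} (Φ := Φ) hd h' hB' sd (I⟦n⟧) hIn
  exact ⟨homologyMapShiftIso Φ I n ≪≫ asIso (homologyComparison (Φ := Φ) (I⟦n⟧)) ≪≫
    Φ.mapIso (homologyShiftIso I n)⟩

end Main

end Groth.Agent.Lib.Helper17.AffPush
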