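import Groth.Agent.Lib.Helper17Hyp14

/-!
# `E = R lim τ_{≥ -n} E` in `D(O)` for a ringed site (helper17)
-/

set_option autoImplicit false
set_option linter.style.haveILetI false

universe u

open CategoryTheory CategoryTheory.Limits Opposite

namespace Groth.Agent.Lib.Helper17.Hyp

open Groth.Agent.Lib.Helper21 Groth.Agent.Lib.Helper21.FreeAb Groth.Agent.Lib.Helper21.TorsFree

variable {C : Type u} [SmallCategory C] {J : GrothendieckTopology C} (O : Sheaf J CommRingCat.{u})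
  [HasDerivedCategory.{u} (ModSite.Mod O)]

theorem subsingleton_hom_of_HU (W : C) (F : ModSite.Mod O) (k : ℕ)
    (h : Subsingleton (ModSite.HU O F k W)) :
    Subsingleton (dsgl ((frModR (ModSite.ringSh O)).obj W) ⟶
      ((DerivedCategory.singleFunctor (ModSite.Mod O) 0).obj F)⟦(k : ℤ)⟧) := by
  haveI : HasExt.{u} (ModSite.Mod O) := hasExt_of_hasDerivedCategory _
  obtain ⟨e⟩ := nonempty_ext_freeShR_iso (ModSite.ringSh O) (CohCx.freeSheaf J W)
    (TF_freeSheaf W) F k
  have h1 : Subsingleton (Abelian.Ext.{u}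
      ((freeShR (ModSite.ringSh O)).obj (CohCx.freeSheaf J W)) F k) :=
    @Equiv.subsingleton _ _ e.addCommGroupIsoToAddEquiv.toEquiv h
  exact @Equiv.subsingleton _ _ (Abelian.Ext.homEquiv
    (X := (freeShR (ModSite.ringSh O)).obj (CohCx.freeSheaf J W)) (Y := F) (n := k)).symm h1

/-- Abstract form of S9042 / S9043. -/
theorem isRlimVia_truncTower_mod (E : DerivedCategory (ModSite.Mod O))
    [HasProduct (CohCx.truncTower E)]
    (hcov : ∀ U : C, ∃ R : Presieve U, Sieve.generate R ∈ J U ∧ ∀ ⦃V : C⦄ (g : V ⟶ U), R g →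
      ∃ p : ℤ → ℤ, ∀ T ∈ J V, ∃ R' : Presieve V, R' ≤ T ∧ Sieve.generate R' ∈ J V ∧
        ∀ ⦃W : C⦄ (g' : W ⟶ V), R' g' → ∀ (m : ℤ) (k : ℕ), p m < k →
          Subsingleton (ModSite.HU O
            ((DerivedCategory.homologyFunctor (ModSite.Mod O) (m - k)).obj E) k W)) :
    CohCx.IsRlimVia (CohCx.truncTower E) (CohCx.truncTowerMap E) E (CohCx.toTruncTower E) := by
  haveI := Groth.Agent.S0484.result J (ModSite.ringSh O)
  apply isRlimVia_truncTower_of_cofinal.{u, u} (fr := frModR (ModSite.ringSh O))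
    (locFr_frModR (ModSite.ringSh O)) E
  intro U
  obtain ⟨R, hR, hR'⟩ := hcov U
  refine ⟨R, hR, fun V g hg => ?_⟩
  obtain ⟨p, hp⟩ := hR' g hg
  refine ⟨p, fun T hT => ?_⟩
  obtain ⟨R', h1, h2, h3⟩ := hp T hT
  refine ⟨R', h1, h2, fun W g' hg' m k hk => ?_⟩
  exact subsingleton_hom_of_HU O W _ k (h3 g' hg' m k hk)

end Groth.Agent.Lib.Helper17.Hyp
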