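import Groth.Agent.Lib.Helper17Hyp31
import Groth.Agent.Lib.Helper17Hyp15

/-!
# `lim = R lim` for inverse systems of sheaves of modules acyclic on a covering class (helper17)

Module version of `Hyp.rlim_dsgl_of_acyclic`.
-/

set_option autoImplicit false
set_option linter.style.haveILetI false
set_option synthInstance.maxHeartbeats 40000

universe w u

open CategoryTheory CategoryTheory.Limits Opposite

namespace Groth.Agent.Lib.Helper17.Hyp

open Groth.Agent.Lib.Helper21 Groth.Agent.Lib.Helper21.FreeAb Groth.Agent.Lib.Helper21.TorsFree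

/-- variant of `limOneIsZero_of_bijective` with two universes. -/
theorem limOneIsZero_of_bijective' {G : ℕ → Type u} {G' : ℕ → Type w} [∀ n, AddCommGroup (G n)]
    [∀ n, AddCommGroup (G' n)] (t : ∀ n, G (n + 1) →+ G n) (t' : ∀ n, G' (n + 1) →+ G' n)
    (e : ∀ n, G' n →+ G n) (he : ∀ n, Function.Bijective (e n))
    (hcomm : ∀ n x, e n (t' n x) = t n (e (n + 1) x))
    (h : CohCx.LimOneIsZero G t) : CohCx.LimOneIsZero G' t' := by
  intro b'
  obtain ⟨x, hx⟩ := h (fun n => e n (b' n))
  choose x' hx' using fun n => (he n).2 (x n)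
  refine ⟨x', ?_⟩
  funext n
  have h1 := congrFun hx n
  dsimp only at h1 ⊢
  apply (he n).1
  rw [map_sub, hcomm, hx', hx', h1]

section Sec

variable {C : Type u} [SmallCategory C] {J : GrothendieckTopology C} (R : Sheaf J RingCat.{u})

/-- `Hom(R ⊗ ℤ_V, M) ≃+ M(V)`. -/
noncomputable def secAddEquiv (M : SheafOfModules.{u} R) (V : C) :
    ((frModR R).obj V ⟶ M) ≃+ ((SheafOfModules.toSheaf R).obj M).obj.obj (op V) :=
  ((freeShRAdj R).homAddEquiv ((frSh J).obj V) M).trans
    (CohFree.homEquivSect J V ((SheafOfModules.toSheaf R).obj M))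

lemma secAddEquiv_comp {M N : SheafOfModules.{u} R} {V : C} (h : (frModR R).obj V ⟶ M)
    (p : M ⟶ N) :
    secAddEquiv R N V (h ≫ p) =
      (((SheafOfModules.toSheaf R).map p).hom.app (op V)).hom (secAddEquiv R M V h) := by
  change CohFree.evalGen J V _ ((freeShRAdj R).homEquiv ((frSh J).obj V) N (h ≫ p)) = _
  rw [Adjunction.homEquiv_naturality_right]
  rfl

end Sec

section Main

open DerivedCategory Pretriangulated ZeroObject

variable {C : Type u} [SmallCategory C] {J : GrothendieckTopology C} (R : Sheaf J RingCat.{u})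
  [HasDerivedCategory.{w} (SheafOfModules.{u} R)]

/-- `H^q(V, K) → H^q(K)(V)`, module version. -/
noncomputable def canonM (K : DerivedCategory (SheafOfModules.{u} R)) (q : ℤ) (V : C) :
    (dsgl ((frModR R).obj V) ⟶ K⟦q⟧) →+
      ((SheafOfModules.toSheaf R).obj ((homologyFunctor (SheafOfModules.{u} R) q).obj K)).obj.obj
        (op V) :=
  (secAddEquiv R ((homologyFunctor (SheafOfModules.{u} R) q).obj K) V).toAddMonoidHom.comp
    (cmAdd ((frModR R).obj V) K q)

lemma bijective_canonM (K : DerivedCategory (SheafOfModules.{u} R)) (q : ℤ) (V : C)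
    (h : Function.Bijective (fun ξ : dsgl ((frModR R).obj V) ⟶ K⟦q⟧ => cm ξ)) :
    Function.Bijective (canonM R K q V) :=
  (secAddEquiv R _ V).bijective.comp h

lemma canonM_comp {K K' : DerivedCategory (SheafOfModules.{u} R)} (φ : K ⟶ K') (q : ℤ) (V : C)
    (ξ : dsgl ((frModR R).obj V) ⟶ K⟦q⟧) :
    canonM R K' q V (ξ ≫ φ⟦q⟧') =
      (((SheafOfModules.toSheaf R).map
        ((homologyFunctor (SheafOfModules.{u} R) q).map φ)).hom.app (op V)).hom
        (canonM R K q V ξ) := by
  have h1 := cm_comp (P := (frModR R).obj V) ξ φ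
  exact (congrArg (secAddEquiv R _ V) h1).trans (secAddEquiv_comp R _ _)

lemma subsingleton_sections_of_isZero_mod {G : SheafOfModules.{u} R} (hG : IsZero G) (V : C) :
    Subsingleton (((SheafOfModules.toSheaf R).obj G).obj.obj (op V)) :=
  subsingleton_sections_of_isZero ((SheafOfModules.toSheaf R).map_isZero hG) V

lemma e₀_hom_naturality_mod {F F' : SheafOfModules.{u} R} (f : F ⟶ F') :
    (homologyFunctor (SheafOfModules.{u} R) 0).map
      ((singleFunctor (SheafOfModules.{u} R) 0).map f) ≫ (e₀ F').hom = (e₀ F).hom ≫ f :=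
  (e₀NatIso (A := SheafOfModules.{u} R)).hom.naturality f

theorem limOneIsZero_HD_dsgl_mod (F : ℕ → SheafOfModules.{u} R) (t : ∀ n, F (n + 1) ⟶ F n)
    (V : C)
    (h2 : CohCx.LimOneIsZero (fun n => ((SheafOfModules.toSheaf R).obj (F n)).obj.obj (op V))
      (fun n => (((SheafOfModules.toSheaf R).map (t n)).hom.app (op V)).hom)) (j : ℤ) :
    CohCx.LimOneIsZero
      (fun n => ((SheafOfModules.toSheaf R).obj
        ((homologyFunctor (SheafOfModules.{u} R) j).obj (dsgl (F n)))).obj.obj (op V))
      (fun n => (((SheafOfModules.toSheaf R).map ((homologyFunctor (SheafOfModules.{u} R) j).map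
        ((singleFunctor (SheafOfModules.{u} R) 0).map (t n)))).hom.app (op V)).hom) := by
  by_cases hj : j = 0
  · subst hj
    refine limOneIsZero_of_bijective _ _
      (fun n => (((SheafOfModules.toSheaf R).map (e₀ (F n)).hom).hom.app (op V)).hom)
      (fun n => bijective_sections_of_iso ((SheafOfModules.toSheaf R).mapIso (e₀ (F n))) V)
      (fun n x => ?_) h2
    have h3 := congrArg (fun φ => (((SheafOfModules.toSheaf R).map φ).hom.app (op V)).hom x)
      (e₀_hom_naturality_mod R (t n))
    simp only [Functor.map_comp] at h3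
    exact h3
  · exact limOneIsZero_of_subsingleton _
      (fun n => subsingleton_sections_of_isZero_mod R (isZero_homology_dsgl (F n) j hj) V)

end Main

section Main2

open DerivedCategory Pretriangulated ZeroObject

variable {C : Type u} [SmallCategory C] {J : GrothendieckTopology C} (R : Sheaf J RingCat.{u})
  [HasDerivedCategory.{w} (SheafOfModules.{u} R)]

/-- Module version of `rlim_dsgl_of_acyclic`. -/
theorem rlim_dsgl_of_acyclic_mod (F : ℕ → SheafOfModules.{u} R) (t : ∀ n, F (n + 1) ⟶ F n)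
    [HasProduct fun n => (singleFunctor (SheafOfModules.{u} R) 0).obj (F n)] (B : Set C)
    (hB : ∀ U : C, ∃ R' : Presieve U, Sieve.generate R' ∈ J U ∧ ∀ ⦃V : C⦄ (g : V ⟶ U), R' g → V ∈ B)
    (h1 : ∀ U ∈ B, ∀ (k n : ℕ), 0 < k →
      Subsingleton (dsgl ((frModR R).obj U) ⟶ (dsgl (F n))⟦(k : ℤ)⟧))
    (h2 : ∀ U ∈ B, CohCx.LimOneIsZero
      (fun n => ((SheafOfModules.toSheaf R).obj (F n)).obj.obj (op U))
      (fun n => (((SheafOfModules.toSheaf R).map (t n)).hom.app (op U)).hom)) :
    DCoh.IsRlim (fun n => (singleFunctor (SheafOfModules.{u} R) 0).obj (F n))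
      (fun n => (singleFunctor (SheafOfModules.{u} R) 0).map (t n))
      ((singleFunctor (SheafOfModules.{u} R) 0).obj (limit (CohCx.opSequence F t))) ∧
    ∀ U ∈ B, ∀ k : ℕ, 0 < k → Subsingleton (dsgl ((frModR R).obj U) ⟶
      (dsgl (limit (CohCx.opSequence F t)))⟦(k : ℤ)⟧) := by
  classical
  haveI : IsGrothendieckAbelian.{u} (SheafOfModules.{u} R) := Groth.Agent.S0484.result J R
  haveI : HasProducts.{u} (DerivedCategory (SheafOfModules.{u} R)) :=
    Groth.Agent.Lib.Helper17.KInj.hasProducts_derivedCategory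
  haveI : HasLimitsOfShape (Discrete (ULift.{u} ℕ)) (DerivedCategory (SheafOfModules.{u} R)) :=
    inferInstance
  haveI : HasLimitsOfShape (Discrete ℕ) (DerivedCategory (SheafOfModules.{u} R)) :=
    hasLimitsOfShape_of_equivalence (Discrete.equivalence Equiv.ulift.{u, 0})
  let K : ℕ → DerivedCategory (SheafOfModules.{u} R) := fun n =>
    (singleFunctor (SheafOfModules.{u} R) 0).obj (F n)
  let tK : ∀ n, K (n + 1) ⟶ K n := fun n =>
    (singleFunctor (SheafOfModules.{u} R) 0).map (t n)
  have hbij : ∀ (q : ℤ), ∀ V ∈ B, ∀ n, Function.Bijective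
      (fun ξ : dsgl ((frModR R).obj V) ⟶ (K n)⟦q⟧ => cm ξ) := fun q V hV n =>
    bijective_cm_of_acyclic.{w, u} (fr := frModR R) (locFr_frModR R) (K n) B hB
      (fun W hW => vanishAbove_dsgl _ (F n) (fun k hk => h1 W hW k n hk)) V hV q
  have hlim1 : ∀ (q : ℤ), ∀ V ∈ B, CohCx.LimOneIsZero
      (fun n => dsgl ((frModR R).obj V) ⟶ (K n)⟦q - 1⟧)
      (fun n => Preadditive.rightComp _ ((tK n)⟦q - 1⟧')) := fun q V hV =>
    limOneIsZero_of_bijective' _ _ (fun n => canonM R (K n) (q - 1) V)
      (fun n => bijective_canonM R (K n) (q - 1) V (hbij (q - 1) V hV n))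
      (fun n ξ => canonM_comp R (tK n) (q - 1) V ξ)
      (limOneIsZero_HD_dsgl_mod R F t V (h2 V hV) (q - 1))
  obtain ⟨L, a, hL⟩ := exists_isRlimVia K tK
  -- the cohomology of `L` vanishes outside degree zero
  have hz : ∀ q : ℤ, q ≠ 0 → IsZero ((homologyFunctor (SheafOfModules.{u} R) q).obj L) := by
    intro q hq
    have hiso : IsIso (0 : (homologyFunctor (SheafOfModules.{u} R) q).obj L ⟶ 0) :=
      isIso_of_rlim_sections.{w, u} (fr := frModR R) (locFr_frModR R) hL B hB q (hbij q) (hlim1 q)
        (F := 0) (fun n => 0) (fun n => zero_comp) (fun s s' _ => (isZero_zero _).eq_of_tgt _ _) 0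
        (fun n => (isZero_homology_dsgl (F n) q hq).eq_of_tgt _ _)
    exact IsZero.of_iso (isZero_zero _) (asIso (0 : (homologyFunctor _ q).obj L ⟶ 0))
  haveI : L.IsGE 0 := (isGE_iff L 0).2 (fun i hi => hz i (by omega))
  haveI : L.IsLE 0 := (isLE_iff L 0).2 (fun i hi => hz i (by omega))
  obtain ⟨M, ⟨eM⟩⟩ := exists_iso_singleFunctor_obj_of_isGE_of_isLE L 0
  -- `H^0(L)` is the limit
  let D := CohCx.opSequence F t
  have hD : ∀ n, D.map (homOfLE (Nat.le_add_right n 1)).op = t n :=
    fun n => Functor.ofOpSequence_map_homOfLE_succ _ n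
  have hat : ∀ n, (homologyFunctor (SheafOfModules.{u} R) 0).map (a (n + 1)) ≫
      (homologyFunctor (SheafOfModules.{u} R) 0).map (tK n) =
      (homologyFunctor (SheafOfModules.{u} R) 0).map (a n) := fun n => by
    rw [← Functor.map_comp, isRlimVia_comp_t hL]
  let cone : Cone D :=
    { pt := (homologyFunctor (SheafOfModules.{u} R) 0).obj L
      π := NatTrans.ofOpSequence
        (F := (Functor.const _).obj ((homologyFunctor (SheafOfModules.{u} R) 0).obj L)) (G := D)
        (fun n => (homologyFunctor (SheafOfModules.{u} R) 0).map (a n) ≫ (e₀ (F n)).hom)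
        (fun n => by
          dsimp only [Functor.const_obj_obj, Functor.const_obj_map]
          rw [Category.id_comp, hD]
          exact (congrArg (fun x => x ≫ (e₀ (F n)).hom) (hat n).symm).trans
            ((Category.assoc _ _ _).trans
              ((congrArg (fun x => (homologyFunctor (SheafOfModules.{u} R) 0).map (a (n + 1)) ≫ x)
                (e₀_hom_naturality_mod R (t n))).trans (Category.assoc _ _ _).symm))) }
  have hiso : IsIso (limit.lift D cone) := by
    refine isIso_of_rlim_sections.{w, u} (fr := frModR R) (locFr_frModR R) hL B hB 0 (hbij 0)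
      (hlim1 0)
      (fun n => limit.π D (op n) ≫ (e₀ (F n)).inv) (fun n => ?_) (fun s s' hs => ?_) _ (fun n => ?_)
    · have h3 : (e₀ (F (n + 1))).inv ≫ (homologyFunctor (SheafOfModules.{u} R) 0).map (tK n) =
          t n ≫ (e₀ (F n)).inv := (e₀_inv_naturality (t n)).symm
      exact (Category.assoc _ _ _).trans ((congrArg (fun x => limit.π D (op (n + 1)) ≫ x) h3).trans
        ((Category.assoc _ _ _).symm.trans (congrArg (fun x => x ≫ (e₀ (F n)).inv)
          ((congrArg (fun x => limit.π D (op (n + 1)) ≫ x) (hD n).symm).trans (limit.w D _)))))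
    · apply limit.hom_ext
      intro j
      have := hs j.unop
      rw [← Category.assoc, ← Category.assoc, cancel_mono] at this
      exact this
    · rw [limit.lift_π_assoc]
      change ((homologyFunctor (SheafOfModules.{u} R) 0).map (a n) ≫ (e₀ (F n)).hom) ≫
        (e₀ (F n)).inv = _
      exact (Category.assoc _ _ _).trans ((congrArg
        (fun x => (homologyFunctor (SheafOfModules.{u} R) 0).map (a n) ≫ x)
        (e₀ (F n)).hom_inv_id).trans (Category.comp_id _))
  let eM' : M ≅ limit D := (e₀ M).symm ≪≫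
    (homologyFunctor (SheafOfModules.{u} R) 0).mapIso eM.symm ≪≫ asIso (limit.lift D cone)
  let eL : L ≅ dsgl (limit D) :=
    eM ≪≫ (singleFunctor (SheafOfModules.{u} R) 0).mapIso eM'
  refine ⟨?_, ?_⟩
  · obtain ⟨c, hc⟩ := isRlimVia_of_iso hL eL.inv (fun n => eL.inv ≫ a n) (fun n => rfl)
    exact ⟨_, c, hc⟩
  · intro U hU k hk
    have hLk : Subsingleton (dsgl ((frModR R).obj U) ⟶ L⟦(k : ℤ)⟧) := by
      have key : ∀ y : dsgl ((frModR R).obj U) ⟶ L⟦(k : ℤ)⟧, y = 0 := fun y =>
        (Groth.Agent.S0943.milnor_general hL _ (k : ℤ)).2 (hlim1 k U hU) y (fun n => by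
          exact (h1 U hU k n hk).elim _ _)
      exact ⟨fun y y' => by rw [key y, key y']⟩
    exact subsingleton_hom_of_iso ((shiftFunctor _ (k : ℤ)).mapIso eL) hLk

end Main2

end Groth.Agent.Lib.Helper17.Hyp
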