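import Groth.Agent.Lib.Helper17Hyp15
import Groth.Agent.Lib.Helper23AffOpen2
import Groth.Prelude.Def_DCoh2

/-!
# The `Hyp` framework on the category of modules of a scheme (helper17)

* `subsingleton_hom_fr`: `Hom_{D(O_X)}(O_W-free, M[k]) = 0` for `W` affine, `M` quasi-coherent, `k > 0`.
* `isRlimVia_truncTower_X`: `E = R lim τ_{≥ -n} E` for `E ∈ D_QCoh(O_X)`.
-/

set_option autoImplicit false
set_option linter.style.haveILetI false
set_option maxHeartbeats 100000
set_option synthInstance.maxHeartbeats 40000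

universe u

open CategoryTheory CategoryTheory.Limits Opposite AlgebraicGeometry TopologicalSpace

attribute [local instance] HasDerivedCategory.standard

namespace Groth.Agent.Lib.Helper17.HypX

open Groth.Agent.Lib.Helper17.Hyp Groth.Agent.Lib.Helper21 Groth.Agent.Lib.Helper21.FreeAb
  Groth.Agent.Lib.Helper21.TorsFree Groth.Agent.Lib.Helper23.AffVanish

variable (X : Scheme.{u})

/-- `W ↦ O_X ⊗ ℤ_W`, the free module on an open. -/
noncomputable abbrev frX : X.Opens ⥤ X.Modules := frModR X.ringCatSheaf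

variable {X}

theorem subsingleton_hom_fr {W : X.Opens} (hW : IsAffineOpen W) (M : X.Modules)
    [M.IsQuasicoherent] (k : ℕ) (hk : 0 < k) :
    Subsingleton (dsgl ((frX X).obj W) ⟶ (dsgl M)⟦(k : ℤ)⟧) := by
  haveI : IsGrothendieckAbelian.{u} (SheafOfModules.{u} X.ringCatSheaf) :=
    Groth.Agent.S0484.result (Opens.grothendieckTopology X) X.ringCatSheaf
  haveI : EnoughInjectives (SheafOfModules.{u} X.ringCatSheaf) := inferInstance
  haveI : HasExt.{u} (SheafOfModules.{u} X.ringCatSheaf) := hasExt_of_enoughInjectives _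
  haveI : HasExt.{u} X.Modules := ‹HasExt.{u} (SheafOfModules.{u} X.ringCatSheaf)›
  obtain ⟨q, rfl⟩ : ∃ q, k = q + 1 := ⟨k - 1, by omega⟩
  have h : Subsingleton (HE (ab' M) (q + 1) W) := subsingleton_HE_of_isAffineOpen hW M q
  obtain ⟨e⟩ := @nonempty_ext_freeShR_iso _ _ _ X.ringCatSheaf
    ‹HasExt.{u} (SheafOfModules.{u} X.ringCatSheaf)›
    (CohCx.freeSheaf (Opens.grothendieckTopology X) W) (TF_freeSheaf W) M (q + 1)
  have h1 : Subsingleton (Abelian.Ext.{u}
      ((freeShR X.ringCatSheaf).obj (CohCx.freeSheaf (Opens.grothendieckTopology X) W)) M (q + 1)) :=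
    @Equiv.subsingleton _ _ e.addCommGroupIsoToAddEquiv.toEquiv h
  exact @Equiv.subsingleton _ _ (Abelian.Ext.homEquiv
    (X := (freeShR X.ringCatSheaf).obj (CohCx.freeSheaf (Opens.grothendieckTopology X) W))
    (Y := M) (n := q + 1)).symm h1

/-- the presieve of affine opens contained in `U`. -/
def affPresieve (U : X.Opens) : Presieve U := fun V _ => IsAffineOpen V

theorem generate_affPresieve_mem (U : X.Opens) :
    Sieve.generate (affPresieve U) ∈ Opens.grothendieckTopology X U := by
  intro x hx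
  obtain ⟨V, hVaff, hxV, hVU⟩ := Opens.isBasis_iff_nbhd.1 X.isBasis_affineOpens hx
  exact ⟨V, homOfLE hVU, ⟨V, 𝟙 _, homOfLE hVU, hVaff, Category.id_comp _⟩, hxV⟩

/-- refinement of a covering sieve by affine opens. -/
def affRefine {V : X.Opens} (T : Sieve V) : Presieve V := fun W g => T g ∧ IsAffineOpen W

theorem affRefine_le {V : X.Opens} (T : Sieve V) : affRefine T ≤ T := fun _ _ h => h.1

theorem generate_affRefine_mem {V : X.Opens} (T : Sieve V)
    (hT : T ∈ Opens.grothendieckTopology X V) :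
    Sieve.generate (affRefine T) ∈ Opens.grothendieckTopology X V := by
  intro x hx
  obtain ⟨W', g, hg, hxW'⟩ := hT x hx
  obtain ⟨W, hWaff, hxW, hWW'⟩ := Opens.isBasis_iff_nbhd.1 X.isBasis_affineOpens hxW'
  refine ⟨W, homOfLE hWW' ≫ g, ⟨W, 𝟙 _, homOfLE hWW' ≫ g, ⟨T.downward_closed hg _, hWaff⟩,
    Category.id_comp _⟩, hxW⟩

theorem isRlimVia_truncTower_X (E : DCoh.D X) (hE : DCoh.IsQCohD E)
    [HasProduct (CohCx.truncTower E)] :
    CohCx.IsRlimVia (CohCx.truncTower E) (CohCx.truncTowerMap E) E (CohCx.toTruncTower E) := by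
  haveI : IsGrothendieckAbelian.{u} X.Modules :=
    Groth.Agent.S0484.result (Opens.grothendieckTopology X) X.ringCatSheaf
  refine @isRlimVia_truncTower_of_cofinal.{u + 1, u, u, u, u} X.Modules _ _
    (HasDerivedCategory.standard X.Modules) X.Opens _ (Opens.grothendieckTopology X) (frX X) _
    (locFr_frModR X.ringCatSheaf) E _ ?_
  intro U
  refine ⟨affPresieve U, generate_affPresieve_mem U, fun V g _ => ?_⟩
  refine ⟨fun _ => 0, fun T hT => ?_⟩
  refine ⟨affRefine T, affRefine_le T, generate_affRefine_mem T hT, fun W g' hg' m k hk => ?_⟩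
  haveI : ((DerivedCategory.homologyFunctor X.Modules (m - k)).obj E).IsQuasicoherent := hE (m - k)
  have hk' : (0 : ℤ) < k := hk
  exact subsingleton_hom_fr hg'.2 _ k (by exact_mod_cast hk')

end Groth.Agent.Lib.Helper17.HypX
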