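import Mathlib.CategoryTheory.Yoneda
import Mathlib.CategoryTheory.Adjunction.FullyFaithful
import Mathlib.CategoryTheory.Adjunction.Opposites

/-!
# Representability passes to reflective localizations (helper17)

Let `L : T ⥤ S` be left adjoint to `R : S ⥤ T` with invertible counit (so `R` is fully faithful
and `S` is a reflective localization of `T`). If `F : Sᵒᵖ ⥤ Type v` is such that `L.op ⋙ F` is
representable, then `F` is representable.
-/

set_option autoImplicit false

universe v u₁ u₂

open CategoryTheory Opposite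

namespace Groth.Agent.Lib.Helper17.DBrown

variable {T : Type u₁} {S : Type u₂} [Category.{v} T] [Category.{v} S]
  {L : T ⥤ S} {R : S ⥤ T} (adj : L ⊣ R) [IsIso adj.counit]

include adj in
lemma isIso_map_unit_app (N : T) :
    ∃ (i : L.obj (R.obj (L.obj N)) ⟶ L.obj N), L.map (adj.unit.app N) ≫ i = 𝟙 (L.obj N) ∧
      i ≫ L.map (adj.unit.app N) = 𝟙 (L.obj (R.obj (L.obj N))) := by
  have h0 : L.map (adj.unit.app N) ≫ adj.counit.app (L.obj N) = 𝟙 (L.obj N) :=
    adj.left_triangle_components N
  have hi : IsIso (adj.counit.app (L.obj N)) := inferInstance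
  refine ⟨adj.counit.app (L.obj N), h0, ?_⟩
  have h1 : (adj.counit.app (L.obj N) ≫ L.map (adj.unit.app N)) ≫ adj.counit.app (L.obj N) =
      𝟙 (L.obj (R.obj (L.obj N))) ≫ adj.counit.app (L.obj N) :=
    (Category.assoc _ _ _).trans ((congrArg (adj.counit.app (L.obj N) ≫ ·) h0).trans
      ((Category.comp_id _).trans (Category.id_comp _).symm))
  exact (cancel_mono (adj.counit.app (L.obj N))).1 h1

/-- If `Hom(-, N)` factors through `L`, then `N` is local: the unit `N ⟶ R L N` is invertible. -/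
lemma isIso_unit_app_of_iso (F : Sᵒᵖ ⥤ Type v) (N : T) (e : yoneda.obj N ≅ L.op ⋙ F) :
    ∃ (r : R.obj (L.obj N) ⟶ N), adj.unit.app N ≫ r = 𝟙 N ∧
      r ≫ adj.unit.app N = 𝟙 (R.obj (L.obj N)) := by
  obtain ⟨i, hi1, hi2⟩ := isIso_map_unit_app adj N
  obtain ⟨η, hη⟩ : ∃ η : N ⟶ R.obj (L.obj N), η = adj.unit.app N := ⟨_, rfl⟩
  rw [← hη] at hi1 hi2 ⊢
  have hiso : IsIso (L.map η) := ⟨i, hi1, hi2⟩
  have h1 : IsIso ((yoneda.obj N).map η.op) := by
    rw [NatIso.isIso_map_iff e]
    dsimp
    infer_instance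
  obtain ⟨r, hr⟩ := ((isIso_iff_bijective _).1 h1).2 (𝟙 N)
  have hr' : η ≫ r = 𝟙 N := hr
  refine ⟨r, hr', ?_⟩
  have h2 : L.map r ≫ L.map η = 𝟙 _ := by
    have h3 : L.map η ≫ L.map r = 𝟙 _ := by
      rw [← L.map_comp, hr', L.map_id]
    rw [← cancel_epi (L.map η), ← Category.assoc, h3, Category.id_comp,
      Category.comp_id]
  apply (adj.homEquiv _ _).symm.injective
  rw [Adjunction.homEquiv_counit, Adjunction.homEquiv_counit, L.map_comp, h2, L.map_id]

/-- The representability datum attached to a fully faithful functor. -/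
def repByOfFullyFaithful (hR : R.FullyFaithful) (Y : S) :
    (R.op ⋙ yoneda.obj (R.obj Y)).RepresentableBy Y where
  homEquiv {X} := hR.homEquiv
  homEquiv_comp f g := by
    dsimp [Functor.FullyFaithful.homEquiv]
    rw [R.map_comp]

/-- the isomorphism `R.op ⋙ L.op ⋙ F ≅ F` induced by the counit. -/
noncomputable def counitOpIso (F : Sᵒᵖ ⥤ Type v) : R.op ⋙ L.op ⋙ F ≅ F :=
  NatIso.ofComponents (fun X => asIso (F.map (inv (adj.counit.app X.unop)).op))
    (fun {X Y} f => by
      have h := adj.counit.naturality f.unop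
      have h' : inv (adj.counit.app Y.unop) ≫ L.map (R.map f.unop) =
          f.unop ≫ inv (adj.counit.app X.unop) := by
        rw [IsIso.inv_comp_eq, ← Category.assoc, IsIso.eq_comp_inv]
        exact h
      have h'' : (L.map (R.map f.unop)).op ≫ (inv (adj.counit.app Y.unop)).op =
          (inv (adj.counit.app X.unop)).op ≫ f := by
        apply Quiver.Hom.unop_inj
        exact h'
      change F.map (L.map (R.map f.unop)).op ≫ F.map (inv (adj.counit.app Y.unop)).op =
        F.map (inv (adj.counit.app X.unop)).op ≫ F.map f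
      rw [← F.map_comp, ← F.map_comp, h''])

include adj in
theorem isRepresentable_of_reflective (F : Sᵒᵖ ⥤ Type v) [h : (L.op ⋙ F).IsRepresentable] :
    F.IsRepresentable := by
  let N := (L.op ⋙ F).reprX
  let e : yoneda.obj N ≅ L.op ⋙ F := (L.op ⋙ F).reprW
  obtain ⟨r, hr1, hr2⟩ := isIso_unit_app_of_iso adj F N e
  let i : N ≅ R.obj (L.obj N) := ⟨adj.unit.app N, r, hr1, hr2⟩
  let hR : R.FullyFaithful := adj.fullyFaithfulROfIsIsoCounit
  exact (((repByOfFullyFaithful hR (L.obj N)).ofIso
    (Functor.isoWhiskerLeft R.op (yoneda.mapIso i.symm ≪≫ e))).ofIso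
    (counitOpIso adj F)).isRepresentable

end Groth.Agent.Lib.Helper17.DBrown
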