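import Groth.Agent.Lib.Helper17KInjD3

/-!
# Transfer of right derived functors from the homotopy category to complexes, and the
derived adjunction with invertible counit (helper17)
-/

set_option autoImplicit false

universe w w₁ w₂ v v' u u'

open CategoryTheory CategoryTheory.Limits HomologicalComplex MorphismProperty

namespace Groth.Agent.Lib.Helper17.KInj

section Transfer

variable {A : Type u} [Category.{v} A] [Abelian A] {B : Type u'} [Category.{v'} B] [Abelian B]
  [HasDerivedCategory.{w₁} A] [HasDerivedCategory.{w₂} B]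
  (G : B ⥤ A) [G.Additive]
  (RG : DerivedCategory B ⥤ DerivedCategory A)
  (βK : G.mapHomotopyCategory (ComplexShape.up ℤ) ⋙ DerivedCategory.Qh ⟶
    DerivedCategory.Qh ⋙ RG)

/-- `quotient ⋙ (G_K ⋙ Qh) ≅ G• ⋙ Q`. -/
noncomputable def isoF₀ :
    HomotopyCategory.quotient B (ComplexShape.up ℤ) ⋙
      (G.mapHomotopyCategory (ComplexShape.up ℤ) ⋙ DerivedCategory.Qh) ≅
    G.mapHomologicalComplex (ComplexShape.up ℤ) ⋙ DerivedCategory.Q :=
  (Functor.associator _ _ _).symm ≪≫
    Functor.isoWhiskerRight (G.mapHomotopyCategoryFactors _) DerivedCategory.Qh ≪≫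
    Functor.associator _ _ _ ≪≫
    Functor.isoWhiskerLeft _ (DerivedCategory.quotientCompQhIso A)

/-- the unit precomposed with the quotient functor. -/
noncomputable def γOfK :
    HomotopyCategory.quotient B (ComplexShape.up ℤ) ⋙
      (G.mapHomotopyCategory (ComplexShape.up ℤ) ⋙ DerivedCategory.Qh) ⟶
    DerivedCategory.Q ⋙ RG :=
  𝟙 _ ≫ Functor.whiskerLeft (HomotopyCategory.quotient B (ComplexShape.up ℤ)) βK ≫
    (Functor.associator _ _ _).inv ≫
    Functor.whiskerRight (DerivedCategory.quotientCompQhIso B).hom RG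

/-- the unit on the level of complexes. -/
noncomputable def unitOfK :
    G.mapHomologicalComplex (ComplexShape.up ℤ) ⋙ DerivedCategory.Q ⟶
    DerivedCategory.Q ⋙ RG :=
  (isoF₀ G).inv ≫ γOfK G RG βK

instance isRightDerivedFunctor_unitOfK
    [RG.IsRightDerivedFunctor βK (HomotopyCategory.quasiIso B (ComplexShape.up ℤ))] :
    RG.IsRightDerivedFunctor (unitOfK G RG βK)
      (HomologicalComplex.quasiIso B (ComplexShape.up ℤ)) := by
  constructor
  haveI h1 : (G.mapHomotopyCategory (ComplexShape.up ℤ) ⋙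
      DerivedCategory.Qh (C := A)).IsLeftKanExtension
      (𝟙 (HomotopyCategory.quotient B (ComplexShape.up ℤ) ⋙
        (G.mapHomotopyCategory (ComplexShape.up ℤ) ⋙ DerivedCategory.Qh))) :=
    (Functor.isRightDerivedFunctor_of_inverts
      (HomologicalComplex.homotopyEquivalences B (ComplexShape.up ℤ))
      (G.mapHomotopyCategory (ComplexShape.up ℤ) ⋙ DerivedCategory.Qh (C := A))
      (Iso.refl _)).isLeftKanExtension
  haveI h2 : RG.IsLeftKanExtension βK :=
    Functor.IsRightDerivedFunctor.isLeftKanExtension RG βK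
      (HomotopyCategory.quasiIso B (ComplexShape.up ℤ))
  have h3 : RG.IsLeftKanExtension (γOfK G RG βK) :=
    (Functor.isLeftKanExtension_iff_postcompose
      (𝟙 (HomotopyCategory.quotient B (ComplexShape.up ℤ) ⋙
        (G.mapHomotopyCategory (ComplexShape.up ℤ) ⋙ DerivedCategory.Qh)))
      (L' := DerivedCategory.Qh) (L'' := DerivedCategory.Q)
      (DerivedCategory.quotientCompQhIso B) βK (γOfK G RG βK) rfl).1 h2
  exact (Functor.isLeftKanExtension_iff_of_iso₂ (γOfK G RG βK) (unitOfK G RG βK) (isoF₀ G)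
    (Iso.refl RG) (by simp [unitOfK])).1 h3

end Transfer

section Counit

variable {A : Type u} [Category.{v} A] [Abelian A] {B : Type u'} [Category.{v'} B] [Abelian B]
  [IsGrothendieckAbelian.{w} B] [HasDerivedCategory.{w₁} A] [HasDerivedCategory.{w₂} B]
  (F : A ⥤ B) (G : B ⥤ A) (adj : F ⊣ G) [F.Additive] [G.Additive]
  [PreservesFiniteLimits F] [PreservesFiniteColimits F]
  (RG : DerivedCategory B ⥤ DerivedCategory A)
  (β : G.mapHomologicalComplex (ComplexShape.up ℤ) ⋙ DerivedCategory.Q ⟶
    DerivedCategory.Q ⋙ RG)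
  [RG.IsRightDerivedFunctor β (HomologicalComplex.quasiIso B (ComplexShape.up ℤ))]

lemma isIso_counit_app_Q_of_fibrant [IsIso adj.counit] (I : CochainComplex B ℤ)
    (hI : fibrant B I) :
    IsIso ((derivedAdjunction F G adj RG β).counit.app (DerivedCategory.Q.obj I)) := by
  have h := derivedAdjunction_counit_fac F G adj RG β I
  haveI := isIso_app_of_fibrant F G adj RG β I hI
  haveI : IsIso ((SerreLoc.adjHC adj (ComplexShape.up ℤ)).counit.app I) := by
    haveI : ∀ n, IsIso (((SerreLoc.adjHC adj (ComplexShape.up ℤ)).counit.app I).f n) :=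
      fun n => by
        change IsIso (adj.counit.app (I.X n))
        infer_instance
    exact HomologicalComplex.Hom.isIso_of_components _
  have h' : IsIso (F.mapDerivedCategory.map (β.app I) ≫
      (derivedAdjunction F G adj RG β).counit.app (DerivedCategory.Q.obj I)) := by
    rw [h]
    infer_instance
  exact IsIso.of_isIso_comp_left (F.mapDerivedCategory.map (β.app I)) _

instance isIso_counit_derivedAdjunction [IsIso adj.counit] :
    IsIso (derivedAdjunction F G adj RG β).counit := by
  haveI : ∀ Y, IsIso ((derivedAdjunction F G adj RG β).counit.app Y) := fun Y => by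
    obtain ⟨X, ⟨e⟩⟩ : ∃ X : CochainComplex B ℤ, Nonempty (DerivedCategory.Q.obj X ≅ Y) :=
      ⟨_, ⟨DerivedCategory.Q.objObjPreimageIso Y⟩⟩
    have hq : trivCof ((fibReplι₀ B).app X) := trivCof_fibReplι₀ B X
    haveI : QuasiIso ((fibReplι₀ B).app X) := hq.2
    haveI : IsIso (DerivedCategory.Q.map ((fibReplι₀ B).app X)) := by
      rw [DerivedCategory.isIso_Q_map_iff_quasiIso]
      infer_instance
    rw [← NatTrans.isIso_app_iff_of_iso _
      ((asIso (DerivedCategory.Q.map ((fibReplι₀ B).app X))).symm ≪≫ e)]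
    exact isIso_counit_app_Q_of_fibrant F G adj RG β _ (fibrant_fibRepl₀ B X)
  exact NatIso.isIso_of_isIso_app _

end Counit

end Groth.Agent.Lib.Helper17.KInj
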