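import Mathlib.CategoryTheory.Triangulated.Subcategory
import Mathlib.CategoryTheory.Triangulated.Generators
import Mathlib.CategoryTheory.Limits.Shapes.ZeroMorphisms
import Mathlib.CategoryTheory.Adjunction.Limits
import Mathlib.CategoryTheory.Adjunction.Additive
import Groth.Prelude.Def_CohDer

/-!
# Compact objects (`CohDer.IsCompactObject`) in additive / triangulated categories

* `kill X s : ∐ X ⟶ ∐ X` kills the summands with index in the finite set `s`.
* `isCompactObject_iff`: `K` is compact iff every `φ : K ⟶ ∐ X` is killed by some `kill X s`.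
* compact objects are stable under isomorphisms, retracts, left adjoints whose right adjoint
  preserves coproducts, shifts, extensions: `isTriangulated_isCompactObject`.
* `exists_factor_of_isCompactObject`: a map from a compact object to `∐ X` factors through an
  object of any triangulated object property containing the relevant summands.
-/

set_option autoImplicit false
universe w v u u'
open CategoryTheory CategoryTheory.Limits

namespace Groth.Agent.Lib.Helper1.Compact

section Kill

variable {D : Type u} [Category.{v} D] [Preadditive D]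
variable {ι : Type w} (X : ι → D) [HasCoproduct X]

open Classical in
/-- The endomorphism of `∐ X` that kills the summands with index in `s`. -/
noncomputable def kill (s : Finset ι) : ∐ X ⟶ ∐ X :=
  Sigma.desc (fun k => if k ∈ s then 0 else Sigma.ι X k)

open Classical in
@[reassoc]
lemma ι_kill (s : Finset ι) (k : ι) :
    Sigma.ι X k ≫ kill X s = if k ∈ s then 0 else Sigma.ι X k := by
  simp [kill]

@[reassoc]
lemma ι_kill_of_mem {s : Finset ι} {k : ι} (h : k ∈ s) : Sigma.ι X k ≫ kill X s = 0 := by
  rw [ι_kill, if_pos h]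

@[reassoc]
lemma ι_kill_of_notMem {s : Finset ι} {k : ι} (h : k ∉ s) :
    Sigma.ι X k ≫ kill X s = Sigma.ι X k := by
  rw [ι_kill, if_neg h]

open Classical in
lemma kill_comp_kill (s t : Finset ι) : kill X s ≫ kill X t = kill X (s ∪ t) := by
  refine Sigma.hom_ext _ _ (fun k => ?_)
  by_cases hs : k ∈ s
  · rw [ι_kill_of_mem_assoc X hs, zero_comp, ι_kill_of_mem X (Finset.mem_union_left t hs)]
  · rw [ι_kill_of_notMem_assoc X hs]
    by_cases ht : k ∈ t
    · rw [ι_kill_of_mem X ht, ι_kill_of_mem X (Finset.mem_union_right s ht)]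
    · rw [ι_kill_of_notMem X ht, ι_kill_of_notMem X (by simp [hs, ht])]

lemma comp_kill_eq_zero_of_subset {K : D} (φ : K ⟶ ∐ X) {s t : Finset ι} (hst : s ⊆ t)
    (h : φ ≫ kill X s = 0) : φ ≫ kill X t = 0 := by
  classical
  rw [← Finset.union_eq_right.mpr hst, ← kill_comp_kill, ← Category.assoc, h, zero_comp]

lemma kill_add_sum [DecidableEq ι] (s : Finset ι) :
    kill X s + ∑ k ∈ s, Sigma.π X k ≫ Sigma.ι X k = 𝟙 _ := by
  refine Sigma.hom_ext _ _ (fun j => ?_)
  rw [Preadditive.comp_add, Preadditive.comp_sum, Category.comp_id]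
  by_cases hj : j ∈ s
  · rw [ι_kill_of_mem X hj, zero_add, Finset.sum_eq_single j]
    · rw [Sigma.ι_π_eq_id_assoc]
    · intro k _ hkj
      rw [Sigma.ι_π_of_ne_assoc X (Ne.symm hkj), zero_comp]
    · intro h; exact absurd hj h
  · rw [ι_kill_of_notMem X hj, Finset.sum_eq_zero, add_zero]
    intro k hk
    have : j ≠ k := fun h => hj (h ▸ hk)
    rw [Sigma.ι_π_of_ne_assoc X this, zero_comp]

lemma eq_sum_of_comp_kill_eq_zero [DecidableEq ι] {K : D} (φ : K ⟶ ∐ X)
    (s : Finset ι) (hs : φ ≫ kill X s = 0) :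
    φ = ∑ k ∈ s, (φ ≫ Sigma.π X k) ≫ Sigma.ι X k := by
  have := congrArg (fun e => φ ≫ e) (kill_add_sum X s)
  simp only [Preadditive.comp_add, Preadditive.comp_sum, hs, zero_add, Category.comp_id,
    ← Category.assoc] at this
  exact this.symm

/-- `kill` is compatible with reindexing along an equivalence. -/
lemma kill_comp_reindex_hom {ι' : Type*} (e : ι' ≃ ι) [HasCoproduct (X ∘ e)] (s' : Finset ι') :
    kill (X ∘ e) s' ≫ (Sigma.reindex e X).hom =
      (Sigma.reindex e X).hom ≫ kill X (s'.map e.toEmbedding) := by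
  classical
  refine Sigma.hom_ext _ _ (fun k => ?_)
  rw [Sigma.ι_reindex_hom_assoc]
  by_cases hk : k ∈ s'
  · have hk' : e k ∈ s'.map e.toEmbedding := Finset.mem_map_of_mem e.toEmbedding hk
    rw [ι_kill_of_mem_assoc _ hk, zero_comp, ι_kill_of_mem X hk']
  · have hk' : e k ∉ s'.map e.toEmbedding := by simpa using hk
    rw [ι_kill_of_notMem_assoc _ hk, Sigma.ι_reindex_hom, ι_kill_of_notMem X hk']

end Kill

section Char

variable {D : Type u} [Category.{v} D] [Preadditive D] [HasCoproducts.{v} D]

open Classical in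
lemma homSumToHomCoprod_of (K : D) {ι : Type v} (X : ι → D) (i : ι) (f : K ⟶ X i) :
    CohDer.homSumToHomCoprod K X (DirectSum.of (fun i => K ⟶ X i) i f) = f ≫ Sigma.ι X i := by
  unfold CohDer.homSumToHomCoprod
  rw [DirectSum.toAddMonoid_of]
  rfl

open Classical in
lemma homSumToHomCoprod_comp_π (K : D) {ι : Type v} (X : ι → D)
    (x : DirectSum ι (fun i => K ⟶ X i)) (j : ι) :
    CohDer.homSumToHomCoprod K X x ≫ Sigma.π X j = x j := by
  induction x using DirectSum.induction_on with
  | zero => simp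
  | of i f =>
    rw [homSumToHomCoprod_of, Category.assoc]
    by_cases h : i = j
    · subst h
      rw [Sigma.ι_π_eq_id, Category.comp_id, DirectSum.of_eq_same]
    · rw [Sigma.ι_π_of_ne X h, comp_zero, DirectSum.of_eq_of_ne _ _ _ (Ne.symm h)]
  | add x y hx hy =>
    rw [map_add, Preadditive.add_comp, hx, hy]
    rfl

open Classical in
lemma exists_kill_homSumToHomCoprod (K : D) {ι : Type v} (X : ι → D)
    (x : DirectSum ι (fun i => K ⟶ X i)) :
    ∃ s : Finset ι, CohDer.homSumToHomCoprod K X x ≫ kill X s = 0 := by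
  induction x using DirectSum.induction_on with
  | zero => exact ⟨∅, by simp⟩
  | of i f =>
    refine ⟨{i}, ?_⟩
    rw [homSumToHomCoprod_of, Category.assoc, ι_kill_of_mem X (Finset.mem_singleton_self i),
      comp_zero]
  | add x y hx hy =>
    obtain ⟨s, hs⟩ := hx
    obtain ⟨t, ht⟩ := hy
    refine ⟨s ∪ t, ?_⟩
    rw [map_add, Preadditive.add_comp,
      comp_kill_eq_zero_of_subset X _ Finset.subset_union_left hs,
      comp_kill_eq_zero_of_subset X _ Finset.subset_union_right ht, add_zero]

open Classical in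
/-- Characterisation of compact objects: every map to a coproduct is killed by `kill X s` for a
finite set `s` of indices. -/
theorem isCompactObject_iff (K : D) :
    CohDer.IsCompactObject K ↔
      ∀ (ι : Type v) (X : ι → D) (φ : K ⟶ ∐ X), ∃ s : Finset ι, φ ≫ kill X s = 0 := by
  constructor
  · intro hK ι X φ
    obtain ⟨x, rfl⟩ := (hK ι X).2 φ
    exact exists_kill_homSumToHomCoprod K X x
  · intro h ι X
    constructor
    · rw [injective_iff_map_eq_zero]
      intro x hx
      refine DFinsupp.ext (fun j => ?_)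
      rw [← homSumToHomCoprod_comp_π K X x j, hx, zero_comp]
      rfl
    · intro φ
      obtain ⟨s, hs⟩ := h ι X φ
      refine ⟨∑ k ∈ s, DirectSum.of (fun i => K ⟶ X i) k (φ ≫ Sigma.π X k), ?_⟩
      rw [map_sum]
      simp_rw [homSumToHomCoprod_of]
      have := congrArg (fun e => φ ≫ e) (kill_add_sum X s)
      simp only [Preadditive.comp_add, Preadditive.comp_sum, hs, zero_add, Category.comp_id,
        ← Category.assoc] at this
      simpa only [Category.assoc] using this

lemma IsCompactObject.exists_kill {K : D} (hK : CohDer.IsCompactObject K) {ι : Type v}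
    (X : ι → D) (φ : K ⟶ ∐ X) : ∃ s : Finset ι, φ ≫ kill X s = 0 :=
  (isCompactObject_iff K).mp hK ι X φ

/-- Version of `exists_kill` for an index type in any universe equivalent to a `v`-small one
(e.g. `ℕ`). -/
lemma IsCompactObject.exists_kill_of_equiv {K : D} (hK : CohDer.IsCompactObject K) {J : Type w}
    {J' : Type v} (e : J' ≃ J) (X : J → D) [HasCoproduct X] (φ : K ⟶ ∐ X) :
    ∃ s : Finset J, φ ≫ kill X s = 0 := by
  obtain ⟨s', hs'⟩ := IsCompactObject.exists_kill hK (X ∘ e) (φ ≫ (Sigma.reindex e X).inv)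
  refine ⟨s'.map e.toEmbedding, ?_⟩
  have : φ ≫ kill X (s'.map e.toEmbedding) =
      ((φ ≫ (Sigma.reindex e X).inv) ≫ kill (X ∘ e) s') ≫ (Sigma.reindex e X).hom := by
    rw [Category.assoc, kill_comp_reindex_hom, Category.assoc, Iso.inv_hom_id_assoc]
  rw [this, hs', zero_comp]

/-- Version for sequences. -/
lemma IsCompactObject.exists_kill_nat {K : D} (hK : CohDer.IsCompactObject K) (X : ℕ → D)
    [HasCoproduct X] (φ : K ⟶ ∐ X) : ∃ s : Finset ℕ, φ ≫ kill X s = 0 :=
  IsCompactObject.exists_kill_of_equiv hK (Equiv.ulift.{v, 0}) X φ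

end Char

section Closure

variable {D : Type u} [Category.{v} D] [Preadditive D] [HasCoproducts.{v} D]

lemma isCompactObject_of_isZero {K : D} (h : IsZero K) : CohDer.IsCompactObject K := by
  rw [isCompactObject_iff]
  intro ι X φ
  exact ⟨∅, by rw [h.eq_of_src φ 0, zero_comp]⟩

lemma isCompactObject_of_retract {K K' : D} (r : Retract K' K) (h : CohDer.IsCompactObject K) :
    CohDer.IsCompactObject K' := by
  rw [isCompactObject_iff] at h ⊢
  intro ι X φ
  obtain ⟨s, hs⟩ := h ι X (r.r ≫ φ)
  refine ⟨s, ?_⟩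
  have : φ ≫ kill X s = r.i ≫ (r.r ≫ φ) ≫ kill X s := by
    rw [← Category.assoc, ← Category.assoc, r.retract, Category.id_comp]
  rw [this, hs, comp_zero]

lemma isCompactObject_of_iso {K K' : D} (e : K ≅ K') (h : CohDer.IsCompactObject K) :
    CohDer.IsCompactObject K' :=
  isCompactObject_of_retract ⟨e.inv, e.hom, e.inv_hom_id⟩ h

/-- A left adjoint whose right adjoint preserves coproducts preserves compact objects. -/
theorem isCompactObject_of_adjunction {E : Type u'} [Category.{v} E] [Preadditive E]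
    [HasCoproducts.{v} E] {F : D ⥤ E} {G : E ⥤ D} (adj : F ⊣ G) [G.PreservesZeroMorphisms]
    [∀ κ : Type v, PreservesColimitsOfShape (Discrete κ) G] {K : D}
    (hK : CohDer.IsCompactObject K) : CohDer.IsCompactObject (F.obj K) := by
  classical
  rw [isCompactObject_iff]
  intro ι X φ
  obtain ⟨s, hs⟩ := IsCompactObject.exists_kill hK (fun k => G.obj (X k))
    (adj.homEquiv K _ φ ≫ inv (sigmaComparison G X))
  refine ⟨s, ?_⟩
  have hcomm : kill (fun k => G.obj (X k)) s ≫ sigmaComparison G X =
      sigmaComparison G X ≫ G.map (kill X s) := by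
    refine Sigma.hom_ext _ _ (fun k => ?_)
    rw [ι_comp_sigmaComparison_assoc, ← G.map_comp]
    by_cases hk : k ∈ s
    · rw [ι_kill_of_mem_assoc _ hk, zero_comp, ι_kill_of_mem X hk, G.map_zero]
    · rw [ι_kill_of_notMem_assoc _ hk, ι_kill_of_notMem X hk, ι_comp_sigmaComparison]
  apply (adj.homEquiv K _).injective
  rw [Adjunction.homEquiv_naturality_right]
  have h0 : adj.homEquiv K (∐ X) 0 = 0 := by
    rw [Adjunction.homEquiv_unit, G.map_zero, comp_zero]
  rw [h0]
  have : adj.homEquiv K _ φ ≫ G.map (kill X s) =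
      ((adj.homEquiv K _ φ ≫ inv (sigmaComparison G X)) ≫ kill (fun k => G.obj (X k)) s) ≫
        sigmaComparison G X := by
    rw [Category.assoc, hcomm, Category.assoc, IsIso.inv_hom_id_assoc]
  rw [this, hs, zero_comp]

end Closure

section Triangulated

open Pretriangulated ZeroObject

variable {D : Type u} [Category.{v} D] [Preadditive D] [HasZeroObject D] [HasShift D ℤ]
  [∀ n : ℤ, (shiftFunctor D n).Additive] [Pretriangulated D] [HasCoproducts.{v} D]

lemma isCompactObject_shift {K : D} (hK : CohDer.IsCompactObject K) (a : ℤ) :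
    CohDer.IsCompactObject ((shiftFunctor D a).obj K) :=
  isCompactObject_of_adjunction (shiftEquiv D a).toAdjunction hK

/-- Compact objects are closed under extensions. -/
theorem isCompactObject_of_distTriang₂ (T : Triangle D) (hT : T ∈ distTriang D)
    (h₁ : CohDer.IsCompactObject T.obj₁) (h₃ : CohDer.IsCompactObject T.obj₃) :
    CohDer.IsCompactObject T.obj₂ := by
  classical
  rw [isCompactObject_iff]
  intro ι X φ
  obtain ⟨s, hs⟩ := IsCompactObject.exists_kill h₁ X (T.mor₁ ≫ φ)
  obtain ⟨θ, hθ⟩ := Triangle.yoneda_exact₂ T hT (φ ≫ kill X s) (by rw [← Category.assoc, hs])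
  obtain ⟨t, ht⟩ := IsCompactObject.exists_kill h₃ X θ
  refine ⟨s ∪ t, ?_⟩
  rw [← kill_comp_kill, ← Category.assoc, hθ, Category.assoc, ht, comp_zero]

instance isTriangulated_isCompactObject :
    ObjectProperty.IsTriangulated (fun K : D => CohDer.IsCompactObject K) where
  exists_zero := ⟨0, isZero_zero D, isCompactObject_of_isZero (isZero_zero D)⟩
  isStableUnderShiftBy a := ⟨fun _ hK => isCompactObject_shift hK a⟩
  ext₂' T hT h₁ h₃ := ObjectProperty.le_isoClosure _ _ (isCompactObject_of_distTriang₂ T hT h₁ h₃)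

instance : ObjectProperty.IsClosedUnderIsomorphisms (fun K : D => CohDer.IsCompactObject K) where
  of_iso e h := isCompactObject_of_iso e h

instance : ObjectProperty.IsStableUnderRetracts (fun K : D => CohDer.IsCompactObject K) where
  of_retract r h := isCompactObject_of_retract r h

omit [HasCoproducts.{v} D] in
lemma prop_biprod (Q : ObjectProperty D) [Q.IsTriangulated] [Q.IsClosedUnderIsomorphisms]
    {A B : D} (hA : Q A) (hB : Q B) : Q (A ⊞ B) :=
  Q.ext_of_isTriangulatedClosed₂ _ (binaryBiproductTriangle_distinguished A B) hA hB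

open Classical in
theorem exists_factor_of_sum (Q : ObjectProperty D) [Q.IsTriangulated]
    [Q.IsClosedUnderIsomorphisms] {C : D} {ι : Type v} (X : ι → D) (s : Finset ι)
    (hX : ∀ k ∈ s, Q (X k)) (φ : ∀ k, C ⟶ X k) :
    ∃ (E' : D) (g : C ⟶ E') (h : E' ⟶ ∐ X), Q E' ∧ g ≫ h = ∑ k ∈ s, φ k ≫ Sigma.ι X k := by
  induction s using Finset.induction_on with
  | empty =>
    obtain ⟨Z, _, hQZ⟩ := ObjectProperty.ContainsZero.exists_zero (P := Q)
    exact ⟨Z, 0, 0, hQZ, by simp⟩
  | insert k₀ s hk₀ ih =>
    obtain ⟨E', g, h, hE', hgh⟩ := ih (fun k hk => hX k (Finset.mem_insert_of_mem hk))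
    refine ⟨E' ⊞ X k₀, biprod.lift g (φ k₀), biprod.desc h (Sigma.ι X k₀),
      prop_biprod Q hE' (hX k₀ (Finset.mem_insert_self k₀ s)), ?_⟩
    rw [biprod.lift_desc, hgh, Finset.sum_insert hk₀, add_comm]

/-- A map from a compact object to a coproduct factors through an object of any triangulated
object property containing the (finitely many) relevant summands. -/
theorem exists_factor_of_isCompactObject {C : D} (hC : CohDer.IsCompactObject C) {ι : Type v}
    (X : ι → D) (φ : C ⟶ ∐ X) :
    ∃ s : Finset ι, ∀ (Q : ObjectProperty D) [Q.IsTriangulated] [Q.IsClosedUnderIsomorphisms],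
      (∀ k ∈ s, Q (X k)) → ∃ (E' : D) (g : C ⟶ E') (h : E' ⟶ ∐ X), Q E' ∧ g ≫ h = φ := by
  classical
  obtain ⟨s, hs⟩ := IsCompactObject.exists_kill hC X φ
  refine ⟨s, fun Q _ _ hX => ?_⟩
  obtain ⟨E', g, h, hE', hgh⟩ := exists_factor_of_sum Q X s hX (fun k => φ ≫ Sigma.π X k)
  exact ⟨E', g, h, hE', hgh.trans (eq_sum_of_comp_kill_eq_zero X φ s hs).symm⟩

end Triangulated

end Groth.Agent.Lib.Helper1.Compact
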