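import Groth.Agent.Lib.Helper1BrownConstruct

/-!
# Brown representability for perfectly generated triangulated categories
-/

set_option autoImplicit false
set_option linter.unusedSectionVars false
universe w v u
open CategoryTheory CategoryTheory.Limits Opposite

namespace Groth.Agent.Lib.Helper1.Brown

open CategoryTheory.Pretriangulated CategoryTheory.Pretriangulated.Opposite

section Rep

variable {D : Type u} [Category.{v} D] [Preadditive D] [HasZeroObject D] [HasShift D ℤ]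
    [∀ n : ℤ, (shiftFunctor D n).Additive] [Pretriangulated D]
    (H : Dᵒᵖ ⥤ AddCommGrpCat.{v}) {X : D} (π : H.obj (op X))

/-- the comparison map `Hom(W, X) ⟶ H W` is bijective -/
def Q (W : D) : Prop := Function.Bijective (fun φ : W ⟶ X => pb H φ π)

/-- the comparison map is bijective at all shifts of `W` -/
def P (W : D) : Prop := ∀ k : ℤ, Q H π (W⟦k⟧)

variable {H π}

lemma Q_of_iso {W W' : D} (e : W ≅ W') (h : Q H π W) : Q H π W' := by
  constructor
  · intro φ₁ φ₂ h12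
    have h12' : pb H φ₁ π = pb H φ₂ π := h12
    have : e.hom ≫ φ₁ = e.hom ≫ φ₂ := by
      apply h.1
      show pb H (e.hom ≫ φ₁) π = pb H (e.hom ≫ φ₂) π
      rw [pb_comp, pb_comp, h12']
    exact (cancel_epi e.hom).1 this
  · intro x
    obtain ⟨φ, hφ⟩ := h.2 (pb H e.hom x)
    have hφ' : pb H φ π = pb H e.hom x := hφ
    refine ⟨e.inv ≫ φ, ?_⟩
    show pb H (e.inv ≫ φ) π = x
    rw [pb_comp, hφ', ← pb_comp, e.inv_hom_id, pb_id]

lemma Q_cofan {κ : Type w} {W : κ → D} (c : Cofan W) (hc : IsColimit c)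
    [PreservesLimitsOfShape (Discrete κ) H]
    [PreservesLimitsOfShape (Discrete κ) (forget AddCommGrpCat.{v})]
    (h : ∀ a, Q H π (W a)) : Q H π c.pt := by
  constructor
  · intro φ₁ φ₂ h12
    have h12' : pb H φ₁ π = pb H φ₂ π := h12
    apply Cofan.IsColimit.hom_ext hc
    intro a
    apply (h a).1
    show pb H (c.inj a ≫ φ₁) π = pb H (c.inj a ≫ φ₂) π
    rw [pb_comp, pb_comp, h12']
  · intro x
    choose φ hφ using fun a => (h a).2 (pb H (c.inj a) x)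
    refine ⟨Cofan.IsColimit.desc hc φ, ?_⟩
    show pb H (Cofan.IsColimit.desc hc φ) π = x
    apply pb_ext_cofan H c hc
    intro a
    rw [← pb_comp, Cofan.IsColimit.fac]
    exact hφ a

lemma P_sigma {κ : Type w} (W : κ → D) [HasCoproduct W]
    [PreservesLimitsOfShape (Discrete κ) H]
    [PreservesLimitsOfShape (Discrete κ) (forget AddCommGrpCat.{v})]
    (h : ∀ a, P H π (W a)) : P H π (∐ W) := by
  intro k
  have hc : IsColimit (Cofan.mk ((∐ W)⟦k⟧) (fun a => (Sigma.ι W a)⟦k⟧')) :=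
    (isColimitMapCoconeCofanMkEquiv (shiftFunctor D k) W (Sigma.ι W)).1
      (isColimitOfPreserves (shiftFunctor D k) (coproductIsCoproduct W))
  exact Q_cofan (Cofan.mk ((∐ W)⟦k⟧) (fun a => (Sigma.ι W a)⟦k⟧')) hc (fun a => h a k)

lemma P_of_iso {W W' : D} (e : W ≅ W') (h : P H π W) : P H π W' :=
  fun k => Q_of_iso ((shiftFunctor D k).mapIso e) (h k)

lemma P_shift {W : D} (h : P H π W) (m : ℤ) : P H π (W⟦m⟧) :=
  fun k => Q_of_iso ((shiftFunctorAdd' D m k (m + k) rfl).app W) (h (m + k))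

lemma Q_of_P {W : D} (h : P H π W) : Q H π W :=
  Q_of_iso ((shiftFunctorZero D ℤ).app W) (h 0)

variable [H.IsHomological]

lemma exists_pb_mor₃ (T : Triangle D) (hT : T ∈ distTriang D) (x : H.obj (op T.obj₃))
    (hx : pb H T.mor₂ x = 0) : ∃ y : H.obj (op (T.obj₁⟦(1 : ℤ)⟧)), pb H T.mor₃ y = x :=
  exists_pb_of_dist H T.rotate (rot_of_distTriang _ hT) x hx

lemma exists_pb_mor₁_shift (T : Triangle D) (hT : T ∈ distTriang D)
    (x : H.obj (op (T.obj₁⟦(1 : ℤ)⟧)))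
    (hx : pb H T.mor₃ x = 0) : ∃ y : H.obj (op (T.obj₂⟦(1 : ℤ)⟧)), pb H (T.mor₁⟦(1 : ℤ)⟧') y = x := by
  obtain ⟨y, hy'⟩ : ∃ y : H.obj (op (T.obj₂⟦(1 : ℤ)⟧)), pb H (-T.mor₁⟦(1 : ℤ)⟧') y = x :=
    exists_pb_of_dist H T.rotate.rotate (rot_of_distTriang _ (rot_of_distTriang _ hT)) x hx
  refine ⟨-y, ?_⟩
  rw [pb_neg_elt, ← pb_neg_map, hy']

lemma Q_of_dist (T : Triangle D) (hT : T ∈ distTriang D) (hA : Q H π T.obj₁) (hB : Q H π T.obj₂)
    (hA1 : Q H π (T.obj₁⟦(1 : ℤ)⟧)) (hB1 : Q H π (T.obj₂⟦(1 : ℤ)⟧)) : Q H π T.obj₃ := by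
  have inj0 : ∀ φ : T.obj₃ ⟶ X, pb H φ π = 0 → φ = 0 := by
    intro φ hφ
    have h1 : T.mor₂ ≫ φ = 0 := by
      apply hB.1
      show pb H (T.mor₂ ≫ φ) π = pb H 0 π
      rw [pb_comp, hφ, pb_zero_elt, pb_zero_map]
    obtain ⟨φ', hφ'⟩ := Triangle.yoneda_exact₃ _ hT φ h1
    have h2 : pb H T.mor₃ (pb H φ' π) = 0 := by rw [← pb_comp, ← hφ', hφ]
    obtain ⟨y, hy⟩ := exists_pb_mor₁_shift T hT _ h2
    obtain ⟨ψ, hψ⟩ := hB1.2 y
    have hψ' : pb H ψ π = y := hψ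
    have h3 : T.mor₁⟦(1 : ℤ)⟧' ≫ ψ = φ' := by
      apply hA1.1
      show pb H (T.mor₁⟦(1 : ℤ)⟧' ≫ ψ) π = pb H φ' π
      rw [pb_comp, hψ', hy]
    rw [hφ', ← h3, ← Category.assoc, comp_distTriang_mor_zero₃₁ _ hT, zero_comp]
  constructor
  · intro φ₁ φ₂ h12
    have h12' : pb H φ₁ π = pb H φ₂ π := h12
    rw [← sub_eq_zero]
    apply inj0
    rw [pb_sub_map, h12', sub_self]
  · intro x
    obtain ⟨ψ, hψ⟩ := hB.2 (pb H T.mor₂ x)
    have hψ' : pb H ψ π = pb H T.mor₂ x := hψ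
    have h1 : T.mor₁ ≫ ψ = 0 := by
      apply hA.1
      show pb H (T.mor₁ ≫ ψ) π = pb H 0 π
      rw [pb_comp, hψ', ← pb_comp, comp_distTriang_mor_zero₁₂ _ hT, pb_zero_map, pb_zero_map]
    obtain ⟨φ₀, hφ₀⟩ := Triangle.yoneda_exact₂ _ hT ψ h1
    have h2 : pb H T.mor₂ (x - pb H φ₀ π) = 0 := by
      rw [pb_sub_elt, ← pb_comp, ← hφ₀, hψ', sub_self]
    obtain ⟨y, hy⟩ := exists_pb_mor₃ T hT _ h2
    obtain ⟨φ₁, hφ₁⟩ := hA1.2 y
    have hφ₁' : pb H φ₁ π = y := hφ₁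
    refine ⟨φ₀ + T.mor₃ ≫ φ₁, ?_⟩
    show pb H (φ₀ + T.mor₃ ≫ φ₁) π = x
    rw [pb_add_map, pb_comp, hφ₁', hy]
    abel

lemma P_of_dist (T : Triangle D) (hT : T ∈ distTriang D) (hA : P H π T.obj₁) (hB : P H π T.obj₂) :
    P H π T.obj₃ := by
  intro k
  have hT' := Triangle.shift_distinguished T hT k
  exact Q_of_dist _ hT' (hA k) (hB k)
    (Q_of_iso ((shiftFunctorAdd' D k 1 (k + 1) rfl).app T.obj₁) (hA (k + 1)))
    (Q_of_iso ((shiftFunctorAdd' D k 1 (k + 1) rfl).app T.obj₂) (hB (k + 1)))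

end Rep

section Core

variable {D : Type u} [Category.{v} D] [Preadditive D] [HasZeroObject D] [HasShift D ℤ]
    [∀ n : ℤ, (shiftFunctor D n).Additive] [Pretriangulated D]
    [HasCoproducts.{v} D] [HasColimitsOfShape (Discrete ℕ) D]
    {ι : Type v} (E : ι → D)

/-- classes of objects closed under the operations used to build the representing object -/
structure Loc (P' : D → Prop) : Prop where
  coprodE : ∀ {κ : Type v} (j : κ → ι), P' (∐ fun a => E (j a))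
  coprodNat : ∀ (W : ℕ → D), (∀ n, P' (W n)) → P' (∐ W)
  cone : ∀ T ∈ distTriang D, P' T.obj₁ → P' T.obj₂ → P' T.obj₃

theorem exists_rep_on_E (hE : Fac E) (hsh : ∀ i, ∃ i', Nonempty (E i' ≅ (E i)⟦(-1 : ℤ)⟧))
    (H : Dᵒᵖ ⥤ AddCommGrpCat.{v}) [H.IsHomological]
    [∀ κ : Type v, PreservesLimitsOfShape (Discrete κ) H] :
    ∃ (X : D) (π : H.obj (op X)), (∀ i, Q H π (E i)) ∧ ∀ P' : D → Prop, Loc E P' → P' X := by
  have := preservesLimitsOfShape_nat H
  obtain ⟨L⟩ := nonempty_hocolim E H (tower E H)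
  refine ⟨L.pt, L.π, fun i => L.bijective hE hsh i, fun P' hP' => ?_⟩
  have h1 : ∀ n, P' ((tower E H).X n) := tower_prop E H P' hP'.coprodE hP'.cone
  have h2 : P' (∐ (tower E H).X) := hP'.coprodNat _ h1
  exact hP'.cone _ L.dist h2 h2

lemma pb_yoneda {W V V' : D} (f : V' ⟶ V) (x : V ⟶ W) :
    pb (preadditiveYoneda.obj W) f x = f ≫ x := rfl

theorem core (h1 : ∀ X : D, ¬ IsZero X → ∃ (i : ι) (f : E i ⟶ X), f ≠ 0) (hE : Fac E)
    (hsh : ∀ i (k : ℤ), ∃ i', Nonempty (E i' ≅ (E i)⟦k⟧))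
    (H : Dᵒᵖ ⥤ AddCommGrpCat.{v}) [H.IsHomological]
    [∀ κ : Type v, PreservesLimitsOfShape (Discrete κ) H] :
    ∃ (X : D) (π : H.obj (op X)), ∀ W, Q H π W := by
  have hsh' : ∀ i, ∃ i', Nonempty (E i' ≅ (E i)⟦(-1 : ℤ)⟧) := fun i => hsh i (-1)
  obtain ⟨X, π, hQ, -⟩ := exists_rep_on_E E hE hsh' H
  refine ⟨X, π, fun W => ?_⟩
  have hPE : ∀ i, P H π (E i) := by
    intro i k
    obtain ⟨i', ⟨e⟩⟩ := hsh i k
    exact Q_of_iso e (hQ i')
  have hLoc : Loc E (P H π) :=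
    { coprodE := fun j => P_sigma _ (fun a => hPE (j a))
      coprodNat := fun W hW => by
        have := preservesLimitsOfShape_nat H
        exact P_sigma W hW
      cone := fun T hT hA hB => P_of_dist T hT hA hB }
  obtain ⟨XW, p₀, hQW, hLocW⟩ := exists_rep_on_E E hE hsh' (preadditiveYoneda.obj W)
  obtain ⟨p, hp⟩ : ∃ p : XW ⟶ W, p = p₀ := ⟨p₀, rfl⟩
  obtain ⟨C, q, r, hd⟩ := distinguished_cocone_triangle p
  have hC : IsZero C := by
    by_contra hC
    obtain ⟨i, ζ, hζ⟩ := h1 C hC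
    apply hζ
    obtain ⟨i', ⟨e⟩⟩ := hsh' i
    have hrp : r ≫ p⟦(1 : ℤ)⟧' = 0 := comp_distTriang_mor_zero₃₁ _ hd
    have h2 : (e.hom ≫ unshift (ζ ≫ r)) ≫ p = 0 := by
      rw [Category.assoc, ← unshift_comp, Category.assoc, hrp, comp_zero, unshift_zero, comp_zero]
    have h3 : e.hom ≫ unshift (ζ ≫ r) = 0 := by
      apply (hQW i').1
      show pb (preadditiveYoneda.obj W) (e.hom ≫ unshift (ζ ≫ r)) p₀ =
        pb (preadditiveYoneda.obj W) 0 p₀
      rw [← hp, pb_yoneda, pb_yoneda, h2, zero_comp]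
    have h4 : unshift (ζ ≫ r) = 0 := by
      rw [← cancel_epi e.hom, h3, comp_zero]
    have h5 : ζ ≫ r = 0 := eq_zero_of_unshift _ h4
    obtain ⟨ζ', hζ'⟩ : ∃ ζ' : E i ⟶ W, ζ = ζ' ≫ q := Triangle.coyoneda_exact₃ _ hd ζ h5
    obtain ⟨φ, hφ⟩ := (hQW i).2 ζ'
    have hφ' : φ ≫ p = ζ' := by
      have : pb (preadditiveYoneda.obj W) φ p₀ = ζ' := hφ
      rw [← hp, pb_yoneda] at this
      exact this
    have hpq : p ≫ q = 0 := comp_distTriang_mor_zero₁₂ _ hd
    rw [hζ', ← hφ', Category.assoc, hpq, comp_zero]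
  have hiso : IsIso p := (Triangle.isZero₃_iff_isIso₁ _ hd).1 hC
  have hPX : P H π XW := hLocW _ hLoc
  exact Q_of_P (P_of_iso (asIso p) hPX)

/-- representability from bijectivity of the comparison maps -/
theorem isRepresentable_of_Q (H : Dᵒᵖ ⥤ AddCommGrpCat.{v}) {X : D} (π : H.obj (op X))
    (hQ : ∀ W, Q H π W) : (H ⋙ forget AddCommGrpCat.{v}).IsRepresentable :=
  ⟨X, ⟨{ homEquiv := fun {W} => Equiv.ofBijective _ (hQ W)
         homEquiv_comp := fun f g => pb_comp H f g π }⟩⟩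

end Core

section FacEquiv

variable {D : Type u} [Category.{v} D] [Preadditive D]
    [HasColimitsOfShape (Discrete ℕ) D]
    {ι : Type w} (E : ι → D)

lemma fac_equiv (e : D ≌ D) (hE : Fac E) (X : ℕ → D) (i : ι)
    (α : e.functor.obj (E i) ⟶ ∐ X) :
    ∃ (j : ℕ → ι) (β : ∀ n, e.functor.obj (E (j n)) ⟶ X n)
      (γ : e.functor.obj (E i) ⟶ ∐ (fun n => e.functor.obj (E (j n)))),
      α = γ ≫ Limits.Sigma.map β := by
  obtain ⟨j, β, γ, hγ⟩ := hE (fun n => e.inverse.obj (X n)) i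
    (e.unitIso.hom.app (E i) ≫ e.inverse.map α ≫ (PreservesCoproduct.iso e.inverse X).hom)
  refine ⟨j, fun n => e.functor.map (β n) ≫ e.counitIso.hom.app (X n),
    e.functor.map γ ≫ (PreservesCoproduct.iso e.functor (fun n => E (j n))).hom, ?_⟩
  have key : (PreservesCoproduct.iso e.functor (fun n => E (j n))).hom ≫
      Limits.Sigma.map (fun n => e.functor.map (β n) ≫ e.counitIso.hom.app (X n)) =
      e.functor.map (Limits.Sigma.map β ≫ (PreservesCoproduct.iso e.inverse X).inv) ≫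
        e.counitIso.hom.app (∐ X) := by
    rw [← cancel_epi (PreservesCoproduct.iso e.functor (fun n => E (j n))).inv,
      Iso.inv_hom_id_assoc]
    apply Sigma.hom_ext
    intro n
    rw [Sigma.ι_map, PreservesCoproduct.inv_hom, ι_comp_sigmaComparison_assoc,
      ← Functor.map_comp_assoc, Sigma.ι_map_assoc, PreservesCoproduct.inv_hom,
      ι_comp_sigmaComparison, Functor.map_comp, Category.assoc, Category.assoc]
    congr 1
    exact (e.counitIso.hom.naturality (Sigma.ι X n)).symm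
  rw [Category.assoc, key, ← Functor.map_comp_assoc, ← Category.assoc γ, ← hγ]
  simp only [Category.assoc, Iso.hom_inv_id, Category.comp_id, Functor.map_comp]
  have nat := e.counitIso.hom.naturality α
  simp only [Functor.comp_obj, Functor.comp_map, Functor.id_obj, Functor.id_map] at nat
  rw [nat, ← Category.assoc]
  have tri := e.functor_unitIso_comp (E i)
  rw [tri, Category.id_comp]

end FacEquiv

end Groth.Agent.Lib.Helper1.Brown
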