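import Groth.Agent.Lib.Helper17DBrown3
import Groth.Agent.Lib.Helper17DBrown4
import Groth.Agent.Lib.Helper17KInjD4
import Groth.Agent.S0473
import Mathlib.Algebra.Category.ModuleCat.Products
import Mathlib.Algebra.Category.ModuleCat.Projective
import Mathlib.CategoryTheory.Abelian.GrothendieckCategory.ModuleEmbedding.GabrielPopescu

/-!
# Brown representability for the derived category of a Grothendieck abelian category (helper17)
-/

set_option autoImplicit false

universe w w' v u

open CategoryTheory CategoryTheory.Limits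

namespace Groth.Agent.Lib.Helper17.DBrown

open Groth.Agent.Lib.Helper17.KInj Groth.Agent.Lib.Helper1.Compact

section ModuleCat

variable (R : Type v) [Ring R]

lemma isSeparator_of_self : IsSeparator (ModuleCat.of R R) := by
  rw [isSeparator_def]
  intro X Y f g h
  ext x
  have := h (ModuleCat.ofHom (LinearMap.toSpanSingleton R X x))
  have h2 := congrArg (fun φ => φ.hom (1 : R)) this
  simpa using h2

lemma exists_kill_apply_eq_zero {ι : Type v} (X : ι → ModuleCat.{v} R) (x : ↑(∐ X)) :
    ∃ s : Finset ι, (kill X s).hom x = 0 := by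
  classical
  suffices h : ∀ y : DirectSum ι (fun i => X i),
      ∃ s : Finset ι, (kill X s).hom ((ModuleCat.coprodIsoDirectSum X).inv.hom y) = 0 by
    obtain ⟨s, hs⟩ := h ((ModuleCat.coprodIsoDirectSum X).hom.hom x)
    refine ⟨s, ?_⟩
    have : (ModuleCat.coprodIsoDirectSum X).inv.hom ((ModuleCat.coprodIsoDirectSum X).hom.hom x)
        = x := by
      rw [← LinearMap.comp_apply, ← ModuleCat.hom_comp, Iso.hom_inv_id]
      rfl
    rwa [this] at hs
  intro y
  induction y using DirectSum.induction_on with
  | zero => exact ⟨∅, by simp⟩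
  | of i z =>
    refine ⟨{i}, ?_⟩
    have h1 : (ModuleCat.coprodIsoDirectSum X).inv.hom (DirectSum.of (fun i => X i) i z) =
        (Sigma.ι X i).hom z := by
      rw [← ModuleCat.lof_coprodIsoDirectSum_inv X i]
      rfl
    rw [h1, ← LinearMap.comp_apply, ← ModuleCat.hom_comp,
      ι_kill_of_mem X (Finset.mem_singleton_self i)]
    rfl
  | add a b ha hb =>
    obtain ⟨s, hs⟩ := ha
    obtain ⟨t, ht⟩ := hb
    refine ⟨s ∪ t, ?_⟩
    have e1 : kill X (s ∪ t) = kill X s ≫ kill X t := (kill_comp_kill X s t).symm
    have e2 : kill X (s ∪ t) = kill X t ≫ kill X s := by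
      rw [Finset.union_comm]
      exact (kill_comp_kill X t s).symm
    rw [map_add, map_add]
    nth_rewrite 1 [e1]
    rw [e2, ModuleCat.hom_comp, ModuleCat.hom_comp, LinearMap.comp_apply, LinearMap.comp_apply,
      hs, ht, map_zero, map_zero, add_zero]

lemma isCompactObject_of_self : CohDer.IsCompactObject (ModuleCat.of R R) := by
  rw [isCompactObject_iff]
  intro ι X φ
  obtain ⟨s, hs⟩ := exists_kill_apply_eq_zero R X (φ.hom (1 : R))
  refine ⟨s, ?_⟩
  ext
  simpa using hs

end ModuleCat

end Groth.Agent.Lib.Helper17.DBrown
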