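import Groth.Agent.Lib.Helper17Hyp16
import Groth.Agent.Lib.Helper17AdjWay2

/-!
# Bijectivity of `Hom(P, K'[m]) → Hom(P, K[m])` from cohomological conditions (helper17)
-/

set_option autoImplicit false

universe w w' v v' u u'

open CategoryTheory CategoryTheory.Limits Opposite

namespace Groth.Agent.Lib.Helper17.Hyp

section Tri

open Pretriangulated

variable {T : Type u'} [Category.{v'} T] [Preadditive T] [HasZeroObject T] [HasShift T ℤ]
    [∀ n : ℤ, (shiftFunctor T n).Additive] [Pretriangulated T]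

theorem bijective_postcomp_mor₁ (Tr : Triangle T) (hT : Tr ∈ distTriang T) (P : T) (m' m : ℤ)
    (hm : m' + 1 = m)
    (h₃ : Subsingleton (P ⟶ Tr.obj₃⟦m'⟧)) (h₃' : Subsingleton (P ⟶ Tr.obj₃⟦m⟧)) :
    Function.Bijective (fun y : P ⟶ Tr.obj₁⟦m⟧ => y ≫ Tr.mor₁⟦m⟧') := by
  constructor
  · intro y y' hyy
    have h0 : (y - y') ≫ Tr.mor₁⟦m⟧' = 0 := by
      rw [Preadditive.sub_comp]
      exact sub_eq_zero.2 hyy
    let F := preadditiveCoyoneda.obj (op P)
    have hex := (F.homologySequence_exact₁ _ hT m' m hm)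
    rw [ShortComplex.ab_exact_iff] at hex
    obtain ⟨z, hz⟩ := hex (y - y') h0
    haveI : Subsingleton ↑((F.shift m').obj Tr.obj₃) := h₃
    rw [Subsingleton.elim z 0, map_zero] at hz
    exact sub_eq_zero.1 hz.symm
  · intro w
    obtain ⟨x, hx⟩ := exists_of_comp_mor₂_eq_zero Tr hT P m w (Subsingleton.elim _ _)
    exact ⟨x, hx⟩

end Tri

section Der

open DerivedCategory Pretriangulated Groth.Agent.S14388

variable {A : Type u} [Category.{v} A] [Abelian A] [HasDerivedCategory.{w} A]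

/-- dévissage for a bounded below object, against an object of `D^{≤ 0}`. -/
theorem subsingleton_hom_of_boundedBelow (P : DerivedCategory A) [P.IsLE 0] (j : ℤ)
    (Z : DerivedCategory A) (a : ℤ)
    (hZ : ∀ i : ℤ, i < a → IsZero ((homologyFunctor A i).obj Z))
    (h : ∀ q : ℤ, a ≤ q → q ≤ j →
      Subsingleton (P ⟶ ((singleFunctor A 0).obj ((homologyFunctor A q).obj Z))⟦j - q⟧)) :
    Subsingleton (P ⟶ Z⟦j⟧) := by
  let X := (tt.truncLT (j + 1)).obj Z
  let Y := (tt.truncGE (j + 1)).obj Z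
  have hT := tt.triangleLTGE_distinguished (j + 1) Z
  have h3 : Subsingleton (P ⟶ Y⟦j⟧) := by
    haveI : tt.IsGE (Y⟦j⟧) 1 := tt.isGE_shift Y (j + 1) j 1 (by omega)
    exact ⟨fun y y' => by rw [tt.zero y 0 1 (by omega), tt.zero y' 0 1 (by omega)]⟩
  have h1 : Subsingleton (P ⟶ X⟦j⟧) := by
    apply subsingleton_hom_of_bounded P j X a j
    · rintro i (hi | hi)
      · by_cases hij : i < j + 1
        · have := isIso_homology_truncLTι (j + 1) i hij Z
          exact IsZero.of_iso (hZ i hi)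
            (asIso ((homologyFunctor A i).map ((tt.truncLTι (j + 1)).app Z)))
        · exact isZero_of_isLE X (j + 1 - 1) i (by omega)
      · exact isZero_of_isLE X (j + 1 - 1) i (by omega)
    · intro q hq1 hq2
      have := isIso_homology_truncLTι (j + 1) q (by omega) Z
      exact subsingleton_hom_of_iso ((shiftFunctor _ (j - q)).mapIso
        ((singleFunctor A 0).mapIso
          (asIso ((homologyFunctor A q).map ((tt.truncLTι (j + 1)).app Z))).symm)) (h q hq1 hq2)
  exact subsingleton_obj₂ _ hT P j h1 h3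

variable (PA : ObjectProperty A) [WSerre.IsWeakSerre PA]

/-- cohomology of the cone of a morphism between objects of `D_A`. -/
theorem prop_homology_obj₃ (Tr : Triangle (DerivedCategory A)) (hT : Tr ∈ distTriang _) (q : ℤ)
    (h₁ : PA ((homologyFunctor A q).obj Tr.obj₁)) (h₂ : PA ((homologyFunctor A q).obj Tr.obj₂))
    (h₁' : PA ((homologyFunctor A (q + 1)).obj Tr.obj₁))
    (h₂' : PA ((homologyFunctor A (q + 1)).obj Tr.obj₂)) :
    PA ((homologyFunctor A q).obj Tr.obj₃) :=
  Groth.Agent.Lib.Helper17.AdjWay.prop_of_exact₅ PA ((homologyFunctor A q).map Tr.mor₁)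
    ((homologyFunctor A q).map Tr.mor₂) (HomologySequence.δ Tr q (q + 1) rfl)
    ((homologyFunctor A (q + 1)).map Tr.mor₁) _ _ _
    (HomologySequence.exact₂ Tr hT q) (HomologySequence.exact₃ Tr hT q (q + 1) rfl)
    (HomologySequence.exact₁ Tr hT q (q + 1) rfl) h₁ h₂ h₁' h₂'

omit [WSerre.IsWeakSerre PA] in
theorem isZero_homology_obj₃ (Tr : Triangle (DerivedCategory A)) (hT : Tr ∈ distTriang _) (q : ℤ)
    (h : Epi ((homologyFunctor A q).map Tr.mor₁))
    (h' : Mono ((homologyFunctor A (q + 1)).map Tr.mor₁)) :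
    IsZero ((homologyFunctor A q).obj Tr.obj₃) := by
  have e1 := (HomologySequence.epi_homologyMap_mor₁_iff Tr hT q).1 h
  have e2 := (HomologySequence.mono_homologyMap_mor₁_iff Tr hT q (q + 1) rfl).1 h'
  exact (HomologySequence.exact₃ Tr hT q (q + 1) rfl).isZero_of_both_zeros e1 e2

/-- main criterion. -/
theorem bijective_postcomp_of_homology (P : DerivedCategory A) [P.IsLE 0] (d : ℕ)
    (hP : ∀ F : A, PA F → ∀ k : ℕ, d < k →
      Subsingleton (P ⟶ ((singleFunctor A 0).obj F)⟦(k : ℤ)⟧))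
    {K' K : DerivedCategory A} (t : K' ⟶ K) (hK' : WSerre.cohInPlus PA K')
    (hK : WSerre.cohInPlus PA K) (m : ℤ)
    (hiso : ∀ q : ℤ, m - d - 1 ≤ q → q ≤ m + 1 → IsIso ((homologyFunctor A q).map t)) :
    Function.Bijective (fun y : P ⟶ K'⟦m⟧ => y ≫ t⟦m⟧') := by
  obtain ⟨Z, g, h, hT⟩ := distinguished_cocone_triangle t
  obtain ⟨hK'1, b', hb'⟩ := hK'
  obtain ⟨hK1, b, hb⟩ := hK
  have hZA : ∀ q, PA ((homologyFunctor A q).obj Z) := fun q =>
    prop_homology_obj₃ PA _ hT q (hK'1 q) (hK1 q) (hK'1 (q + 1)) (hK1 (q + 1))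
  have hZ0 : ∀ i : ℤ, i < min b (b' - 1) → IsZero ((homologyFunctor A i).obj Z) := by
    intro i hi
    have h1 : i < b := lt_of_lt_of_le hi (min_le_left _ _)
    have h2 : i < b' - 1 := lt_of_lt_of_le hi (min_le_right _ _)
    have z1 : IsZero ((homologyFunctor A i).obj K) := isZero_of_isGE K b i h1
    have z2 : IsZero ((homologyFunctor A (i + 1)).obj K') := isZero_of_isGE K' b' (i + 1) (by omega)
    exact (HomologySequence.exact₃ _ hT i (i + 1) rfl).isZero_of_both_zeros
      (z1.eq_of_src _ _) (z2.eq_of_tgt _ _)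
  have key : ∀ m'' : ℤ, m - 1 ≤ m'' → m'' ≤ m → Subsingleton (P ⟶ Z⟦m''⟧) := by
    intro m'' hm1 hm2
    apply subsingleton_hom_of_boundedBelow P m'' Z (min b (b' - 1)) hZ0
    intro q _ hq2
    by_cases hdq : (d : ℤ) < m'' - q
    · obtain ⟨k, hk⟩ := Int.eq_ofNat_of_zero_le (show 0 ≤ m'' - q by omega)
      rw [hk]
      exact hP _ (hZA q) k (by omega)
    · haveI := hiso q (by omega) (by omega)
      haveI := hiso (q + 1) (by omega) (by omega)
      have hz : IsZero ((homologyFunctor A q).obj Z) :=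
        isZero_homology_obj₃ _ hT q
          (show Epi ((homologyFunctor A q).map t) from inferInstance)
          (show Mono ((homologyFunctor A (q + 1)).map t) from inferInstance)
      exact ⟨fun y y' => ((shiftFunctor _ (m'' - q)).map_isZero
        ((singleFunctor A 0).map_isZero hz)).eq_of_tgt _ _⟩
  exact bijective_postcomp_mor₁ _ hT P (m - 1) m (by omega) (key (m - 1) le_rfl (by omega))
    (key m (by omega) le_rfl)

end Der

end Groth.Agent.Lib.Helper17.Hyp
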