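import Groth.Agent.Lib.Helper17Hyp15
import Groth.Agent.Lib.Helper17Hyp17

/-!
# S9064 in abstract form for `D(O)` of a ringed site (helper17)
-/

set_option autoImplicit false
set_option linter.style.haveILetI false

universe w u

open CategoryTheory CategoryTheory.Limits Opposite

namespace Groth.Agent.Lib.Helper17.Hyp

open Groth.Agent.Lib.Helper21 Groth.Agent.Lib.Helper21.FreeAb Groth.Agent.Lib.Helper21.TorsFree

variable {C : Type u} [SmallCategory C] {J : GrothendieckTopology C} (O : Sheaf J CommRingCat.{u})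
  [HasDerivedCategory.{w} (ModSite.Mod O)]

/-- universe-generic version of `subsingleton_hom_of_HU`. -/
theorem subsingleton_hom_of_HU' (W : C) (F : ModSite.Mod O) (k : ℕ)
    (h : Subsingleton (ModSite.HU O F k W)) :
    Subsingleton (dsgl ((frModR (ModSite.ringSh O)).obj W) ⟶
      ((DerivedCategory.singleFunctor (ModSite.Mod O) 0).obj F)⟦(k : ℤ)⟧) := by
  haveI := Groth.Agent.S0484.result J (ModSite.ringSh O)
  haveI : HasExt.{u} (ModSite.Mod O) := hasExt_of_enoughInjectives _
  obtain ⟨e⟩ := nonempty_ext_freeShR_iso (ModSite.ringSh O) (CohCx.freeSheaf J W)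
    (TF_freeSheaf W) F k
  have h1 : Subsingleton (Abelian.Ext.{u}
      ((freeShR (ModSite.ringSh O)).obj (CohCx.freeSheaf J W)) F k) :=
    @Equiv.subsingleton _ _ e.addCommGroupIsoToAddEquiv.toEquiv h
  exact @Equiv.subsingleton _ _ (Abelian.Ext.homEquiv
    (X := (freeShR (ModSite.ringSh O)).obj (CohCx.freeSheaf J W)) (Y := F) (n := k)).symm h1

end Groth.Agent.Lib.Helper17.Hyp
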