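import Groth.Agent.Lib.Helper17Hyp22
import Groth.Agent.Lib.Helper17Hyp18
import Groth.Agent.Lib.Helper17KInjD1

/-!
# Ringed-site instances for the unbounded equivalence (helper17)
-/

set_option autoImplicit false
set_option linter.style.haveILetI false

universe w u

open CategoryTheory CategoryTheory.Limits Opposite

namespace Groth.Agent.Lib.Helper17.Hyp

open DerivedCategory

variable {C : Type u} [SmallCategory C] {J : GrothendieckTopology C} (O : Sheaf J CommRingCat.{u})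
  [HasDerivedCategory.{w} (ModSite.Mod O)]

theorem hasLimitsOfShape_nat_mod :
    HasLimitsOfShape (Discrete ℕ) (DerivedCategory (ModSite.Mod O)) := by
  haveI := Groth.Agent.S0484.result J (ModSite.ringSh O)
  haveI : HasProducts.{u} (DerivedCategory (ModSite.Mod O)) :=
    Groth.Agent.Lib.Helper17.KInj.hasProducts_derivedCategory
  haveI : HasLimitsOfShape (Discrete (ULift.{u} ℕ)) (DerivedCategory (ModSite.Mod O)) :=
    inferInstance
  exact hasLimitsOfShape_of_equivalence (Discrete.equivalence Equiv.ulift.{u, 0})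

/-- `E = R lim τ_{≥ -n} E` for `E ∈ D_A(O)` under bounded cohomological dimension for `A`. -/
theorem isRlimVia_truncTower_of_wserre (A : ObjectProperty (ModSite.Mod O)) (B : Set C)
    (hB : ∀ U : C, ∃ (ι : Type u) (Y : ι → C) (g : ∀ i, Y i ⟶ U),
      Sieve.ofArrows Y g ∈ J U ∧ ∀ i, Y i ∈ B)
    (hA : ∀ V ∈ B, ∃ d : ℕ, ∀ T ∈ J V, ∃ (ι : Type u) (Y : ι → C) (g : ∀ i, Y i ⟶ V),
      (∀ i, T.arrows (g i)) ∧ Sieve.ofArrows Y g ∈ J V ∧
      ∀ (i : ι) (F : ModSite.Mod O), A F → ∀ k : ℕ, d < k →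
        Subsingleton (ModSite.HU O F k (Y i)))
    (E : DerivedCategory (ModSite.Mod O)) (hE : WSerre.cohIn A E)
    [HasProduct (CohCx.truncTower E)] :
    CohCx.IsRlimVia (CohCx.truncTower E) (CohCx.truncTowerMap E) E (CohCx.toTruncTower E) := by
  haveI := Groth.Agent.S0484.result J (ModSite.ringSh O)
  apply isRlimVia_truncTower_of_cofinal.{_, u} (fr := frModR (ModSite.ringSh O))
    (locFr_frModR (ModSite.ringSh O)) E
  intro U
  obtain ⟨ι, Y₀, g, hcov, hYB⟩ := hB U
  refine ⟨Presieve.ofArrows Y₀ g, hcov, ?_⟩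
  rintro V _ ⟨i⟩
  obtain ⟨d, hd⟩ := hA (Y₀ i) (hYB i)
  refine ⟨fun _ => (d : ℤ), fun T hT => ?_⟩
  obtain ⟨ι', Y₁, g', hg', hcov', hvan⟩ := hd T hT
  refine ⟨Presieve.ofArrows Y₁ g', ?_, hcov', ?_⟩
  · rintro W _ ⟨i'⟩
    exact hg' i'
  · rintro W _ ⟨i'⟩
    intro m k hk
    have hk' : (d : ℤ) < k := hk
    exact subsingleton_hom_of_HU' O (Y₁ i') _ k (hvan i' _ (hE _) k (by exact_mod_cast hk'))

end Groth.Agent.Lib.Helper17.Hyp
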