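import Mathlib
import Groth.Prelude.Def_ModSite

/-!
# Helper23: maps out of `ModSite.freeOn O X = j_{X!} O_X`

`homEquiv O M X : (ModSite.freeOn O X ⟶ M) ≃ M.val.obj (op X)`, natural in `M`
(`homEquiv_comp`, `homEquiv_symm_comp`), built from `extZeroAdj`, `unitHomEquiv` and evaluation
of a section of `M|_X` at the terminal object of `Over X`.
-/

set_option autoImplicit false
universe u
open CategoryTheory Opposite

namespace Groth.Agent.Lib.Helper23FreeOn
variable {C : Type u} [SmallCategory C] {J : GrothendieckTopology C}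
    (O : Sheaf J CommRingCat.{u})

/-- cast -/
noncomputable def toRestr (M : ModSite.Mod O) (X : C) (Y : (Over X)ᵒᵖ)
    (a : M.val.obj (op Y.unop.left)) : ((ModSite.restr O X).obj M).val.obj Y := by
  dsimp [ModSite.restr, SheafOfModules.overFunctor, SheafOfModules.pushforward]
  exact a

lemma restr_map_toRestr (M : ModSite.Mod O) (X : C) {Y Y' : (Over X)ᵒᵖ} (g : Y ⟶ Y')
    (a : M.val.obj (op Y.unop.left)) :
    ((ModSite.restr O X).obj M).val.map g (toRestr O M X Y a) =
      toRestr O M X Y' (M.val.restrictₛₗ g.unop.left.op a) := by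
  dsimp [ModSite.restr, SheafOfModules.overFunctor, SheafOfModules.pushforward, toRestr]
  rfl

lemma restr_comp {R : Cᵒᵖ ⥤ RingCat.{u}} (M : PresheafOfModules.{u} R) {U V W : Cᵒᵖ} (i : U ⟶ V) (j : V ⟶ W)
    (x : M.obj U) : M.restrictₛₗ (i ≫ j) x = M.restrictₛₗ j (M.restrictₛₗ i x) :=
  M.map_comp_apply i j x

/-- the section of `M|_X` attached to `m ∈ M(X)` -/
noncomputable def sec (M : ModSite.Mod O) (X : C) (m : M.val.obj (op X)) :
    ((ModSite.restr O X).obj M).sections :=
  PresheafOfModules.sectionsMk (M := ((ModSite.restr O X).obj M).val)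
    (fun Y => toRestr O M X Y (M.val.restrictₛₗ Y.unop.hom.op m)) (by
      intro Y Y' g
      rw [restr_map_toRestr]
      congr 1
      have h1 : Y'.unop.hom.op = Y.unop.hom.op ≫ g.unop.left.op := by
        rw [← op_comp, Over.w]
      rw [h1, restr_comp])

/-- the morphism `freeOn X ⟶ M` attached to `m ∈ M(X)` -/
noncomputable def toHom (M : ModSite.Mod O) (X : C) (m : M.val.obj (op X)) :
    ModSite.freeOn O X ⟶ M :=
  ((ModSite.extZeroAdj O X).homEquiv _ _).symm
    (((ModSite.restr O X).obj M).unitHomEquiv.symm (sec O M X m))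

lemma restr_map_app_toRestr {M N : ModSite.Mod O} (p : M ⟶ N) (X : C) (Y : (Over X)ᵒᵖ)
    (a : M.val.obj (op Y.unop.left)) :
    ((ModSite.restr O X).map p).val.app Y (toRestr O M X Y a) =
      toRestr O N X Y (p.val.app (op Y.unop.left) a) := by
  dsimp [ModSite.restr, SheafOfModules.overFunctor, SheafOfModules.pushforward, toRestr]
  rfl

lemma sectionsMap_sec {M N : ModSite.Mod O} (p : M ⟶ N) (X : C) (m : M.val.obj (op X)) :
    SheafOfModules.sectionsMap ((ModSite.restr O X).map p) (sec O M X m) =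
      sec O N X (p.val.app (op X) m) := by
  ext Y
  change ((ModSite.restr O X).map p).val.app Y (toRestr O M X Y (M.val.restrictₛₗ Y.unop.hom.op m)) =
    toRestr O N X Y (N.val.restrictₛₗ Y.unop.hom.op (p.val.app (op X) m))
  rw [restr_map_app_toRestr]
  congr 1
  exact PresheafOfModules.naturality_apply p.val Y.unop.hom.op m

lemma toHom_comp {M N : ModSite.Mod O} (p : M ⟶ N) (X : C) (m : M.val.obj (op X)) :
    toHom O M X m ≫ p = toHom O N X (p.val.app (op X) m) := by
  unfold toHom
  rw [← Adjunction.homEquiv_naturality_right_symm, SheafOfModules.unitHomEquiv_symm_comp,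
    sectionsMap_sec]


/-- inverse cast -/
noncomputable def ofRestr (M : ModSite.Mod O) (X : C) (Y : (Over X)ᵒᵖ)
    (a : ((ModSite.restr O X).obj M).val.obj Y) : M.val.obj (op Y.unop.left) := by
  dsimp [ModSite.restr, SheafOfModules.overFunctor, SheafOfModules.pushforward] at a
  exact a

lemma ofRestr_toRestr (M : ModSite.Mod O) (X : C) (Y : (Over X)ᵒᵖ)
    (a : M.val.obj (op Y.unop.left)) : ofRestr O M X Y (toRestr O M X Y a) = a := by
  dsimp [ofRestr, toRestr]
  try rfl

lemma toHom_injective (M : ModSite.Mod O) (X : C) (m m' : M.val.obj (op X))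
    (h : toHom O M X m = toHom O M X m') : m = m' := by
  unfold toHom at h
  have h1 : sec O M X m = sec O M X m' :=
    ((ModSite.restr O X).obj M).unitHomEquiv.symm.injective
      (((ModSite.extZeroAdj O X).homEquiv _ _).symm.injective h)
  have h2 : toRestr O M X (op (Over.mk (𝟙 X))) (M.val.restrictₛₗ (𝟙 (op X)) m) =
      toRestr O M X (op (Over.mk (𝟙 X))) (M.val.restrictₛₗ (𝟙 (op X)) m') :=
    congrArg (fun s : ((ModSite.restr O X).obj M).sections => s.val (op (Over.mk (𝟙 X)))) h1
  replace h2 := congrArg (ofRestr O M X (op (Over.mk (𝟙 X)))) h2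
  rw [ofRestr_toRestr, ofRestr_toRestr] at h2
  have h3 : ∀ a : M.val.obj (op X), M.val.restrictₛₗ (𝟙 (op X)) a = a := by
    intro a
    change M.val.map (𝟙 (op X)) a = a
    rw [M.val.map_id]
    rfl
  exact (h3 m).symm.trans (h2.trans (h3 m'))



lemma toRestr_ofRestr (M : ModSite.Mod O) (X : C) (Y : (Over X)ᵒᵖ)
    (a : ((ModSite.restr O X).obj M).val.obj Y) : toRestr O M X Y (ofRestr O M X Y a) = a := by
  dsimp [ofRestr, toRestr]
  try rfl

lemma restr_map_eq (M : ModSite.Mod O) (X : C) {Y Y' : (Over X)ᵒᵖ} (g : Y ⟶ Y')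
    (a : ((ModSite.restr O X).obj M).val.obj Y) :
    ((ModSite.restr O X).obj M).val.map g a =
      toRestr O M X Y' (M.val.restrictₛₗ g.unop.left.op (ofRestr O M X Y a)) := by
  conv_lhs => rw [← toRestr_ofRestr O M X Y a]
  exact restr_map_toRestr O M X g _

/-- value of a section of `M|_X` at the terminal object -/
noncomputable def evalTop (M : ModSite.Mod O) (X : C)
    (s : ((ModSite.restr O X).obj M).sections) : M.val.obj (op X) :=
  ofRestr O M X (op (Over.mk (𝟙 X))) (s.val (op (Over.mk (𝟙 X))))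

lemma evalTop_sec (M : ModSite.Mod O) (X : C) (m : M.val.obj (op X)) :
    evalTop O M X (sec O M X m) = m := by
  have h2 : (sec O M X m).val (op (Over.mk (𝟙 X))) =
      toRestr O M X (op (Over.mk (𝟙 X))) (M.val.restrictₛₗ (𝟙 (op X)) m) := rfl
  unfold evalTop
  rw [h2, ofRestr_toRestr]
  change M.val.map (𝟙 (op X)) m = m
  rw [M.val.map_id]
  rfl

lemma sec_evalTop (M : ModSite.Mod O) (X : C)
    (s : ((ModSite.restr O X).obj M).sections) : sec O M X (evalTop O M X s) = s := by
  ext Y
  have h2 : (sec O M X (evalTop O M X s)).val Y =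
      toRestr O M X Y (M.val.restrictₛₗ Y.unop.hom.op (evalTop O M X s)) := rfl
  rw [h2]
  let g : (op (Over.mk (𝟙 X)) : (Over X)ᵒᵖ) ⟶ Y := (Over.homMk Y.unop.hom : Y.unop ⟶ Over.mk (𝟙 X)).op
  have h3 := PresheafOfModules.sections_property s g
  rw [restr_map_eq] at h3
  rw [← h3]
  rfl

/-- `Hom(j_{X!} O_X, M) ≃ M(X)`. -/
noncomputable def homEquiv (M : ModSite.Mod O) (X : C) :
    (ModSite.freeOn O X ⟶ M) ≃ M.val.obj (op X) where
  toFun h := evalTop O M X (((ModSite.restr O X).obj M).unitHomEquiv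
    ((ModSite.extZeroAdj O X).homEquiv _ _ h))
  invFun m := toHom O M X m
  left_inv h := by
    beta_reduce
    unfold toHom
    rw [sec_evalTop, Equiv.symm_apply_apply, Equiv.symm_apply_apply]
  right_inv m := by
    beta_reduce
    unfold toHom
    rw [Equiv.apply_symm_apply, Equiv.apply_symm_apply, evalTop_sec]

lemma homEquiv_symm_comp {M N : ModSite.Mod O} (p : M ⟶ N) (X : C) (m : M.val.obj (op X)) :
    (homEquiv O M X).symm m ≫ p = (homEquiv O N X).symm (p.val.app (op X) m) :=
  toHom_comp O p X m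

lemma homEquiv_comp {X : C} {M N : ModSite.Mod O} (h : ModSite.freeOn O X ⟶ M) (p : M ⟶ N) :
    homEquiv O N X (h ≫ p) = p.val.app (op X) (homEquiv O M X h) := by
  apply (homEquiv O N X).symm.injective
  rw [Equiv.symm_apply_apply, ← homEquiv_symm_comp, Equiv.symm_apply_apply]

end Groth.Agent.Lib.Helper23FreeOn
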