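import Groth.Agent.Lib.Helper17Hyp14
import Groth.Agent.S6153

/-!
# `f^*(O_D ⊗ ℤ_X) ≅ O_C ⊗ ℤ_{u X}` (helper17)
-/

set_option autoImplicit false
set_option linter.style.haveILetI false

universe u

open CategoryTheory CategoryTheory.Limits Opposite

namespace Groth.Agent.Lib.Helper17.Hyp

open Groth.Agent.Lib.Helper21 Groth.Agent.Lib.Helper21.FreeAb Groth.Agent.Lib.Helper21.TorsFree

variable {C : Type u} [SmallCategory C] {J : GrothendieckTopology C} (O : Sheaf J CommRingCat.{u})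

/-- `Hom(O ⊗ ℤ_X, M) ≃ M(X)`. -/
noncomputable def secEquiv (M : ModSite.Mod O) (X : C) :
    ((frModR (ModSite.ringSh O)).obj X ⟶ M) ≃ M.val.obj (op X) where
  toFun h :=
    let h' : CohCx.freeSheaf J X ⟶ ModSite.toAb M :=
      (freeShRAdj (ModSite.ringSh O)).homEquiv ((frSh J).obj X) M h
    (CohFree.evalGen J X (ModSite.toAb M) h' : (ModSite.toAb M).obj.obj (op X))
  invFun m :=
    let m' : (ModSite.toAb M).obj.obj (op X) := m
    ((freeShRAdj (ModSite.ringSh O)).homEquiv ((frSh J).obj X) M).symm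
      (CohFree.ofSect J X (ModSite.toAb M) m')
  left_inv h := by
    dsimp only
    rw [CohFree.ofSect_evalGen]
    exact Equiv.symm_apply_apply _ _
  right_inv m := by
    dsimp only
    erw [Equiv.apply_symm_apply]
    exact CohFree.evalGen_ofSect J X (ModSite.toAb M) _

lemma secEquiv_comp {M N : ModSite.Mod O} {X : C} (h : (frModR (ModSite.ringSh O)).obj X ⟶ M)
    (p : M ⟶ N) : secEquiv O N X (h ≫ p) = p.val.app (op X) (secEquiv O M X h) := by
  change CohFree.evalGen J X (ModSite.toAb N)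
      ((freeShRAdj (ModSite.ringSh O)).homEquiv ((frSh J).obj X) N (h ≫ p)) = _
  rw [Adjunction.homEquiv_naturality_right]
  rfl

theorem nonempty_frModR_iso_freeOn (X : C) :
    Nonempty ((frModR (ModSite.ringSh O)).obj X ≅ ModSite.freeOn O X) :=
  Groth.Agent.S6153.iso_of_natural_equiv
    (fun M => (secEquiv O M X).trans (Groth.Agent.Lib.Helper23FreeOn.homEquiv O M X).symm)
    (fun {M M'} h p => by
      dsimp only [Equiv.trans_apply]
      rw [secEquiv_comp, ← Groth.Agent.Lib.Helper23FreeOn.homEquiv_symm_comp])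

variable {D : Type u} [SmallCategory D] {K : GrothendieckTopology D}
  {O_C : Sheaf J CommRingCat.{u}} {O_D : Sheaf K CommRingCat.{u}}

theorem nonempty_pull_frModR_iso (f : ModSite.RMor O_C O_D) (X : D) :
    Nonempty (f.pull.obj ((frModR (ModSite.ringSh O_D)).obj X) ≅
      (frModR (ModSite.ringSh O_C)).obj (f.fn.obj X)) := by
  obtain ⟨e₁⟩ := nonempty_frModR_iso_freeOn O_D X
  obtain ⟨e₂⟩ := Groth.Agent.S6153.result f X
  obtain ⟨e₃⟩ := nonempty_frModR_iso_freeOn O_C (f.fn.obj X)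
  exact ⟨f.pull.mapIso e₁ ≪≫ e₂ ≪≫ e₃.symm⟩

end Groth.Agent.Lib.Helper17.Hyp
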