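import Groth.Agent.Lib.Helper17KInjD2
import Mathlib.CategoryTheory.Functor.Derived.PointwiseLeftDerived

/-!
# The derived adjunction for an exact left adjoint into a Grothendieck abelian category
(helper17)
-/

set_option autoImplicit false

universe w w₁ w₂ v v' u u'

open CategoryTheory CategoryTheory.Limits HomologicalComplex MorphismProperty

namespace Groth.Agent.Lib.Helper17.KInj

section

variable {A : Type u} [Category.{v} A] [Abelian A] {B : Type u'} [Category.{v'} B] [Abelian B]
  [IsGrothendieckAbelian.{w} B] [HasDerivedCategory.{w₁} A] [HasDerivedCategory.{w₂} B]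

lemma isInvertedBy_mapHomologicalComplex_comp_Q (G : B ⥤ A) [G.Additive] :
    (HomologicalComplex.homotopyEquivalences B (ComplexShape.up ℤ)).IsInvertedBy
      (G.mapHomologicalComplex (ComplexShape.up ℤ) ⋙ DerivedCategory.Q) := by
  rintro K L f ⟨e, rfl⟩
  have h1 : HomologicalComplex.homotopyEquivalences A (ComplexShape.up ℤ)
      ((G.mapHomologicalComplex (ComplexShape.up ℤ)).map e.hom) := ⟨G.mapHomotopyEquiv e, rfl⟩
  have h2 := _root_.homotopyEquivalences_le_quasiIso A (ComplexShape.up ℤ) _ h1
  exact Localization.inverts DerivedCategory.Q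
    (HomologicalComplex.quasiIso A (ComplexShape.up ℤ)) _ h2

lemma isInvertedBy_comp {H H' : Type*} [Category H] [Category H'] {W : MorphismProperty
    (CochainComplex B ℤ)} {F' : CochainComplex B ℤ ⥤ H} (h : W.IsInvertedBy F') (E : H ⥤ H') :
    W.IsInvertedBy (F' ⋙ E) := by
  intro K L f hf
  haveI := h f hf
  exact inferInstanceAs (IsIso (E.map (F'.map f)))

variable (F : A ⥤ B) (G : B ⥤ A) (adj : F ⊣ G) [F.Additive] [G.Additive]
  [PreservesFiniteLimits F] [PreservesFiniteColimits F]
  (RG : DerivedCategory B ⥤ DerivedCategory A)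
  (β : G.mapHomologicalComplex (ComplexShape.up ℤ) ⋙ DerivedCategory.Q ⟶
    DerivedCategory.Q ⋙ RG)
  [RG.IsRightDerivedFunctor β (HomologicalComplex.quasiIso B (ComplexShape.up ℤ))]

include adj in
omit [PreservesFiniteLimits F] [PreservesFiniteColimits F] [F.Additive] in
lemma isIso_app_of_fibrant (I : CochainComplex B ℤ) (hI : fibrant B I) : IsIso (β.app I) :=
  (fibLocalizerMorphism_derives _
    (isInvertedBy_mapHomologicalComplex_comp_Q G)).isIso_of_isRightDerivedFunctor β ⟨I, hI⟩

instance isLeftDerivedFunctor_mapDerivedCategory :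
    F.mapDerivedCategory.IsLeftDerivedFunctor F.mapDerivedCategoryFactors.hom
      (HomologicalComplex.quasiIso A (ComplexShape.up ℤ)) :=
  Functor.isLeftDerivedFunctor_of_inverts _ _ _

instance isLeftDerivedFunctor_mapDerivedCategory_comp :
    (F.mapDerivedCategory ⋙ RG).IsLeftDerivedFunctor
      ((Functor.associator _ _ _).inv ≫ Functor.whiskerRight F.mapDerivedCategoryFactors.hom RG)
      (HomologicalComplex.quasiIso A (ComplexShape.up ℤ)) :=
  Functor.isLeftDerivedFunctor_of_inverts _ (F.mapDerivedCategory ⋙ RG)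
    ((Functor.associator _ _ _).symm ≪≫ Functor.isoWhiskerRight F.mapDerivedCategoryFactors RG)

include adj in
lemma isRightDerivedFunctor_comp_mapDerivedCategory :
    (RG ⋙ F.mapDerivedCategory).IsRightDerivedFunctor
      (Functor.whiskerRight β F.mapDerivedCategory ≫ (Functor.associator _ _ _).hom)
      (HomologicalComplex.quasiIso B (ComplexShape.up ℤ)) := by
  refine (fibLocalizerMorphism_derives _ (isInvertedBy_comp
    (isInvertedBy_mapHomologicalComplex_comp_Q G)
    F.mapDerivedCategory)).isRightDerivedFunctor_of_isIso _ (fun I => ?_)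
  haveI := isIso_app_of_fibrant F G adj RG β I.obj I.property
  dsimp
  rw [Category.comp_id]
  change IsIso (F.mapDerivedCategory.map (β.app I.obj))
  infer_instance

/-- the derived adjunction. -/
noncomputable def derivedAdjunction : F.mapDerivedCategory ⊣ RG :=
  haveI := isRightDerivedFunctor_comp_mapDerivedCategory F G adj RG β
  (SerreLoc.adjHC adj (ComplexShape.up ℤ)).derived
    (HomologicalComplex.quasiIso A (ComplexShape.up ℤ))
    (HomologicalComplex.quasiIso B (ComplexShape.up ℤ)) F.mapDerivedCategoryFactors.hom β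

lemma derivedAdjunction_counit_fac (X₂ : CochainComplex B ℤ) :
    F.mapDerivedCategory.map (β.app X₂) ≫
        (derivedAdjunction F G adj RG β).counit.app (DerivedCategory.Q.obj X₂) =
      F.mapDerivedCategoryFactors.hom.app ((G.mapHomologicalComplex _).obj X₂) ≫
        DerivedCategory.Q.map ((SerreLoc.adjHC adj (ComplexShape.up ℤ)).counit.app X₂) := by
  haveI := isRightDerivedFunctor_comp_mapDerivedCategory F G adj RG β
  exact Adjunction.derivedε_fac_app (SerreLoc.adjHC adj (ComplexShape.up ℤ))
    (HomologicalComplex.quasiIso B (ComplexShape.up ℤ)) F.mapDerivedCategoryFactors.hom β X₂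

end

end Groth.Agent.Lib.Helper17.KInj
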