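import Groth.Agent.Lib.Helper17TildeD3
import Groth.Agent.Lib.Helper17HypX
import Groth.Agent.Lib.Helper17Hyp26
import Groth.Agent.Lib.Helper17HypMod
import Groth.Agent.Lib.Helper21UnitHom
import Groth.Agent.Lib.Helper17KInjD3
import Groth.Agent.Lib.Helper17QCSerre
import Groth.Agent.Lib.Helper17DBrown5
import Groth.Agent.Lib.Helper17Hyp23
import Groth.Prelude.Def_DCoh2

/-!
# `D(R) ≃ D_QCoh(O_{Spec R})` (helper17)
-/

set_option autoImplicit false
set_option linter.style.haveILetI false

universe u

open CategoryTheory CategoryTheory.Limits Opposite AlgebraicGeometry TopologicalSpace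

attribute [local instance] HasDerivedCategory.standard

namespace Groth.Agent.Lib.Helper17.TildeD

open DerivedCategory Groth.Agent.Lib.Helper17.Hyp Groth.Agent.Lib.Helper17.HypX
  Groth.Agent.Lib.Helper17.KInj Groth.Agent.Lib.Helper21.UnitHom

section FrTop

variable (X : Scheme.{u})

/-- `Hom(O_X, M) ≃ M(X)`, with values in the underlying abelian group. -/
noncomputable def unitEquiv (M : X.Modules) :
    (SheafOfModules.unit X.ringCatSheaf ⟶ M) ≃
      ((SheafOfModules.toSheaf X.ringCatSheaf).obj M).obj.obj (op (⊤ : X.Opens)) :=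
  (unitHomAddEquiv (R := X.ringCatSheaf) (T := (⊤ : X.Opens)) isTerminalTop M).toEquiv

lemma unitEquiv_comp {M M' : X.Modules} (g : SheafOfModules.unit X.ringCatSheaf ⟶ M)
    (p : M ⟶ M') :
    unitEquiv X M' (g ≫ p) =
      (((SheafOfModules.toSheaf X.ringCatSheaf).map p).hom.app (op ⊤)).hom (unitEquiv X M g) :=
  rfl

/-- `O_X ⊗ ℤ_X ≅ O_X`. -/
theorem nonempty_frX_top_iso :
    Nonempty ((frX X).obj ⊤ ≅ SheafOfModules.unit X.ringCatSheaf) := by
  refine Groth.Agent.S6153.iso_of_natural_equiv
    (fun M => (secAddEquiv X.ringCatSheaf M ⊤).toEquiv.trans (unitEquiv X M).symm) ?_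
  intro M M' h p
  apply (unitEquiv X M').injective
  exact ((unitEquiv X M').apply_symm_apply _).trans
    ((secAddEquiv_comp X.ringCatSheaf h p).trans
      ((congrArg (((SheafOfModules.toSheaf X.ringCatSheaf).map p).hom.app (op ⊤)).hom
        ((unitEquiv X M).apply_symm_apply _).symm).trans (unitEquiv_comp X _ p).symm))

end FrTop

section Spec

variable (R : CommRingCat.{u}) [PreservesFiniteLimits (tilde.functor R)]

lemma isGrothendieckAbelian_modules (X : Scheme.{u}) : IsGrothendieckAbelian.{u} X.Modules :=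
  Groth.Agent.S0484.result (Opens.grothendieckTopology X) X.ringCatSheaf

lemma hasLimitsOfShape_nat_moduleCat :
    HasLimitsOfShape (Discrete ℕ) (DerivedCategory (ModuleCat.{u} R)) := by
  haveI : HasProducts.{u} (DerivedCategory (ModuleCat.{u} R)) := hasProducts_derivedCategory
  haveI : HasLimitsOfShape (Discrete (ULift.{u} ℕ)) (DerivedCategory (ModuleCat.{u} R)) :=
    inferInstance
  exact hasLimitsOfShape_of_equivalence (Discrete.equivalence Equiv.ulift.{u, 0})

lemma hasLimitsOfShape_nat_modules (X : Scheme.{u}) :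
    HasLimitsOfShape (Discrete ℕ) (DerivedCategory X.Modules) := by
  haveI := isGrothendieckAbelian_modules X
  haveI : HasProducts.{u} (DerivedCategory X.Modules) := hasProducts_derivedCategory
  haveI : HasLimitsOfShape (Discrete (ULift.{u} ℕ)) (DerivedCategory X.Modules) :=
    inferInstance
  exact hasLimitsOfShape_of_equivalence (Discrete.equivalence Equiv.ulift.{u, 0})

/-- vanishing of `Ext^k(O_X, M~)` for `k ≠ 0`. -/
theorem subsingleton_hom_tilde (M : ModuleCat.{u} R) (k : ℤ) (hk : k ≠ 0) :
    Subsingleton (dsgl ((tilde.functor R).obj (ModuleCat.of R R)) ⟶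
      (dsgl ((tilde.functor R).obj M))⟦k⟧) := by
  by_cases hk' : k < 0
  · exact subsingleton_hom_of_isGE _ (dsgl ((tilde.functor R).obj M)) 0 k hk'
  · obtain ⟨k', rfl⟩ := Int.eq_ofNat_of_zero_le (show 0 ≤ k by omega)
    obtain ⟨e⟩ := nonempty_frX_top_iso (Spec (CommRingCat.of R))
    have h := subsingleton_hom_fr (X := Spec (CommRingCat.of R)) (isAffineOpen_top _)
      ((tilde.functor R).obj M) k' (by omega)
    exact subsingleton_hom_of_isos
      ((singleFunctor (Spec (CommRingCat.of R)).Modules 0).mapIso (e ≪≫ tildeSelf.symm).symm)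
      (Iso.refl _) h

/-- The equivalence `D(R) ≃ D_QCoh(O_{Spec R})`. -/
theorem tildeD_main :
    ∃ (RG : DerivedCategory (Spec (CommRingCat.of R)).Modules ⥤ DerivedCategory (ModuleCat.{u} R))
      (adj : DCoh.tildeD R ⊣ RG),
      (∀ Y : DerivedCategory (ModuleCat.{u} R),
        DCoh.IsQCohD ((DCoh.tildeD R).obj Y) ∧ IsIso (adj.unit.app Y)) ∧
      (∀ K : DCoh.D (Spec (CommRingCat.of R)), DCoh.IsQCohD K → IsIso (adj.counit.app K)) := by
  haveI := isGrothendieckAbelian_modules (Spec (CommRingCat.of R))
  haveI := hasLimitsOfShape_nat_moduleCat R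
  haveI := hasLimitsOfShape_nat_modules (Spec (CommRingCat.of R))
  let F := tilde.functor R
  let G : (Spec (CommRingCat.of R)).Modules ⥤ ModuleCat.{u} R := moduleSpecΓFunctor
  let adj₀ : F ⊣ G := tilde.adjunction
  haveI : G.Additive := adj₀.right_adjoint_additive
  haveI : PreservesFiniteColimits F := by
    haveI : PreservesColimitsOfSize.{0, 0} F := adj₀.leftAdjoint_preservesColimits
    exact PreservesColimitsOfSize.preservesFiniteColimits _
  let G' := G.mapHomologicalComplex (ComplexShape.up ℤ) ⋙
    (DerivedCategory.Q : _ ⥤ DerivedCategory (ModuleCat.{u} R))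
  haveI : G'.HasPointwiseRightDerivedFunctor
      (HomologicalComplex.quasiIso (Spec (CommRingCat.of R)).Modules (ComplexShape.up ℤ)) :=
    (fibLocalizerMorphism_derives G'
      (isInvertedBy_mapHomologicalComplex_comp_Q G)).hasPointwiseRightDerivedFunctor
  let RG := G'.totalRightDerived
    (DerivedCategory.Q : _ ⥤ DerivedCategory (Spec (CommRingCat.of R)).Modules)
    (HomologicalComplex.quasiIso (Spec (CommRingCat.of R)).Modules (ComplexShape.up ℤ))
  let β := G'.totalRightDerivedUnit
    (DerivedCategory.Q : _ ⥤ DerivedCategory (Spec (CommRingCat.of R)).Modules)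
    (HomologicalComplex.quasiIso (Spec (CommRingCat.of R)).Modules (ComplexShape.up ℤ))
  let dadj : F.mapDerivedCategory ⊣ RG := derivedAdjunction F G adj₀ RG β
  haveI : Projective (ModuleCat.of R R) :=
    ModuleCat.projective_of_categoryTheory_projective (ModuleCat.of R R)
  refine ⟨RG, dadj, ?_⟩
  exact main.{u + 1, u + 1, u} F RG dadj
    (fun M : (Spec (CommRingCat.of R)).Modules => M.IsQuasicoherent)
    (ModuleCat.of R R) (Groth.Agent.Lib.Helper17.DBrown.isSeparator_of_self R)
    (fun M => inferInstance)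
    (fun M N => ⟨fun _ _ h => (tilde.fullyFaithfulFunctor (R := R)).map_injective h,
      fun g => (tilde.fullyFaithfulFunctor (R := R)).map_surjective g⟩)
    (fun N hN => by
      have : (tilde.functor R).essImage N := by rw [essImage_tilde]; exact hN
      obtain ⟨M, ⟨e⟩⟩ := this
      exact ⟨M, ⟨e⟩⟩)
    (subsingleton_hom_tilde R)
    (fun X hX => isRlimVia_truncTower_X X hX)

end Spec

end Groth.Agent.Lib.Helper17.TildeD
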