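import Groth.Agent.Lib.Helper17AffPush3
import Groth.Agent.Lib.Helper17HypX
import Groth.Agent.Lib.Helper17HypMod
import Groth.Agent.Lib.Helper17QCSerre
import Groth.Agent.Lib.Helper17TildeD4

/-!
# The `AffPush` framework for an affine morphism of schemes (helper17)
-/

set_option autoImplicit false
set_option linter.style.haveILetI false
set_option maxHeartbeats 400000
set_option synthInstance.maxHeartbeats 40000

universe u

open CategoryTheory CategoryTheory.Limits Opposite AlgebraicGeometry TopologicalSpace

attribute [local instance] HasDerivedCategory.standard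

namespace Groth.Agent.Lib.Helper17.AffPush

open Groth.Agent.Lib.Helper17.Hyp Groth.Agent.Lib.Helper17.HypX

variable {X S : Scheme.{u}}

/-- the affine opens. -/
def affOpens (X : Scheme.{u}) : Set X.Opens := {U | IsAffineOpen U}

/-- the quasi-coherent modules. -/
abbrev qc (X : Scheme.{u}) : ObjectProperty X.Modules := fun M => M.IsQuasicoherent

theorem cover_affOpens (X : Scheme.{u}) (U : X.Opens) :
    ∃ R : Presieve U, Sieve.generate R ∈ Opens.grothendieckTopology X U ∧
      ∀ ⦃V : X.Opens⦄ (g : V ⟶ U), R g → V ∈ affOpens X :=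
  ⟨affPresieve U, generate_affPresieve_mem U, fun _ _ h => h⟩

/-- the acyclicity data of a scheme: affine opens and quasi-coherent modules. -/
theorem acycData (X : Scheme.{u}) :
    AcycData (Opens.grothendieckTopology X) (frX X) (affOpens X) (qc X) where
  locFr := locFr_frModR X.ringCatSheaf
  cover := cover_affOpens X
  van := fun V hV M hM k hk => by
    haveI : M.IsQuasicoherent := hM
    exact subsingleton_hom_fr hV M k hk

/-- sections of the direct image. -/
noncomputable def secData (f : X ⟶ S) [IsAffineHom f] :
    SecData (Scheme.Modules.pushforward f) (frX X) (frX S) (affOpens X) (affOpens S) where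
  u V := f ⁻¹ᵁ V
  hu V hV := IsAffineOpen.preimage hV f
  θ V M := (secAddEquiv S.ringCatSheaf ((Scheme.Modules.pushforward f).obj M) V).trans
    (secAddEquiv X.ringCatSheaf M (f ⁻¹ᵁ V)).symm
  nat V M N z g := by
    apply (secAddEquiv X.ringCatSheaf N (f ⁻¹ᵁ V)).injective
    refine ((secAddEquiv X.ringCatSheaf N (f ⁻¹ᵁ V)).apply_symm_apply _).trans ?_
    refine (secAddEquiv_comp S.ringCatSheaf z ((Scheme.Modules.pushforward f).map g)).trans ?_
    refine Eq.trans ?_ (secAddEquiv_comp X.ringCatSheaf _ g).symm
    exact congrArg _ ((secAddEquiv X.ringCatSheaf M (f ⁻¹ᵁ V)).apply_symm_apply _).symm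

end Groth.Agent.Lib.Helper17.AffPush
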