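import Groth.Agent.Lib.Helper17AffPush4
import Groth.Agent.Lib.Helper17MV4
import Groth.Agent.Lib.Helper17FFaith5
import Groth.Agent.Lib.Helper23QCohLocal

/-!
# Direct images along affine morphisms on `D_QCoh` (helper17)

* `quasiIso_pushC`: `f_*` of a K-injective resolution of a complex of quasi-coherent modules is a
  quasi-isomorphism (`f` affine).
* `nonempty_HD_rpush_iso`: `H^n(Rf_* K) ≅ f_* H^n(K)` for `K ∈ D_QCoh(O_X)` (`f` affine).
* `isQCohD_rpush_of_isAffineHom`, `isZero_of_isZero_pushforward`.
-/

set_option autoImplicit false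
set_option linter.style.haveILetI false
set_option maxHeartbeats 400000
set_option synthInstance.maxHeartbeats 40000

universe u

open CategoryTheory CategoryTheory.Limits Opposite AlgebraicGeometry TopologicalSpace

attribute [local instance] HasDerivedCategory.standard

namespace Groth.Agent.Lib.Helper17.AffPush

open Groth.Agent.Lib.Helper17.Hyp Groth.Agent.Lib.Helper17.HypX Groth.Agent.Lib.Helper17.MV
  Groth.Agent.Lib.Helper17.TildeD Groth.Agent.Lib.Helper17.KInj

variable {X S : Scheme.{u}}

instance preservesFiniteLimits_pushforward (f : X ⟶ S) :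
    PreservesFiniteLimits (Scheme.Modules.pushforward f) := by
  haveI : PreservesLimitsOfSize.{0, 0} (Scheme.Modules.pushforward f) :=
    (Scheme.Modules.pullbackPushforwardAdjunction f).rightAdjoint_preservesLimits
  exact PreservesLimitsOfSize.preservesFiniteLimits _

/-- `f_*` of a K-injective resolution of a complex of quasi-coherent modules is a
quasi-isomorphism, for `f` affine. -/
theorem quasiIso_pushC (f : X ⟶ S) [IsAffineHom f] {F I : CochainComplex X.Modules ℤ}
    (hF : ∀ n, (F.X n).IsQuasicoherent) [I.IsKInjective] (q : F ⟶ I) [QuasiIso q] :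
    QuasiIso (((Scheme.Modules.pushforward f).mapHomologicalComplex (ComplexShape.up ℤ)).map q) := by
  haveI := isGrothendieckAbelian_modules X
  haveI := hasLimitsOfShape_nat_modules X
  haveI hadd : @Functor.Additive X.Modules S.Modules _ _ Abelian.toPreadditive
      Abelian.toPreadditive (Scheme.Modules.pushforward f) :=
    inferInstanceAs ((Scheme.Modules.pushforward f).Additive)
  exact @quasiIso_map X.Modules _ _ _ _ X.Opens _ (Opens.grothendieckTopology X) (frX X)
    (affOpens X) (qc X) _ _ S.Modules _ _ S.Opens _ (Opens.grothendieckTopology S) (frX S)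
    (affOpens S) (Scheme.Modules.pushforward f) hadd (acycData X) (locFr_frModR S.ringCatSheaf)
    (cover_affOpens S) (secData f) F I hF _ q _

/-- degenerate Leray for an affine morphism, on K-injective complexes. -/
theorem nonempty_homology_pushC_iso (f : X ⟶ S) [IsAffineHom f] (I : CochainComplex X.Modules ℤ)
    [I.IsKInjective] (hI : ∀ n, (I.homology n).IsQuasicoherent) (n : ℤ) :
    Nonempty ((((Scheme.Modules.pushforward f).mapHomologicalComplex (ComplexShape.up ℤ)).obj
      I).homology n ≅ (Scheme.Modules.pushforward f).obj (I.homology n)) := by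
  haveI := isGrothendieckAbelian_modules X
  haveI := hasLimitsOfShape_nat_modules X
  haveI hadd : @Functor.Additive X.Modules S.Modules _ _ Abelian.toPreadditive
      Abelian.toPreadditive (Scheme.Modules.pushforward f) :=
    inferInstanceAs ((Scheme.Modules.pushforward f).Additive)
  exact @nonempty_homology_iso X.Modules _ _ _ _ X.Opens _ (Opens.grothendieckTopology X) (frX X)
    (affOpens X) (qc X) _ _ S.Modules _ _ S.Opens _ (Opens.grothendieckTopology S) (frX S)
    (affOpens S) (Scheme.Modules.pushforward f) hadd _ (acycData X) (locFr_frModR S.ringCatSheaf)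
    (cover_affOpens S) (secData f) I _ hI n

/-- `H^n(Rf_* K) ≅ f_* H^n(K)` for `K ∈ D_QCoh(O_X)` and `f` affine. -/
theorem nonempty_HD_rpush_iso (f : X ⟶ S) [IsAffineHom f] [DCoh.HasRpush f] (K : DCoh.D X)
    (hK : DCoh.IsQCohD K) (n : ℤ) :
    Nonempty (DCoh.HD ((DCoh.Rpush f).obj K) n ≅
      (Scheme.Modules.pushforward f).obj (DCoh.HD K n)) := by
  haveI := isGrothendieckAbelian X
  obtain ⟨I, hIK, -, ⟨e⟩⟩ := exists_model K
  haveI := hIK
  have e1 : ∀ m, DCoh.HD K m ≅ I.homology m := fun m =>
    (DerivedCategory.homologyFunctor X.Modules m).mapIso e ≪≫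
      (DerivedCategory.homologyFunctorFactors X.Modules m).app I
  have hI : ∀ m, (I.homology m).IsQuasicoherent := fun m =>
    (SheafOfModules.isQuasicoherent X.ringCatSheaf).prop_of_iso (e1 m) (hK m)
  obtain ⟨e2⟩ := nonempty_homology_pushC_iso f I hI n
  have e3 : (DCoh.Rpush f).obj K ≅ (DerivedCategory.Q : _ ⥤ DCoh.D S).obj
      (((Scheme.Modules.pushforward f).mapHomologicalComplex (ComplexShape.up ℤ)).obj I) :=
    (DCoh.Rpush f).mapIso e ≪≫ isoOfKInj (Scheme.Modules.pushforward f) I
  exact ⟨(DerivedCategory.homologyFunctor S.Modules n).mapIso e3 ≪≫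
    (DerivedCategory.homologyFunctorFactors S.Modules n).app _ ≪≫ e2 ≪≫
    (Scheme.Modules.pushforward f).mapIso (e1 n).symm⟩

/-- `Rf_*` preserves `D_QCoh` for `f` affine. -/
theorem isQCohD_rpush_of_isAffineHom (f : X ⟶ S) [IsAffineHom f] [DCoh.HasRpush f] (K : DCoh.D X)
    (hK : DCoh.IsQCohD K) : DCoh.IsQCohD ((DCoh.Rpush f).obj K) := by
  intro n
  obtain ⟨e⟩ := nonempty_HD_rpush_iso f K hK n
  haveI : (DCoh.HD K n).IsQuasicoherent := hK n
  exact (SheafOfModules.isQuasicoherent S.ringCatSheaf).prop_of_iso e.symm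
    (Groth.Agent.Lib.Helper23.QCohLocal.isQuasicoherent_pushforward f (DCoh.HD K n))

end Groth.Agent.Lib.Helper17.AffPush
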