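import Groth.Agent.Lib.Helper17AffPush5
import Groth.Agent.Lib.Helper17KInjD5

/-!
# `f_* F ⟶ Rf_* F` is an isomorphism for complexes of quasi-coherent modules, `f` affine (helper17)
-/

set_option autoImplicit false
set_option linter.style.haveILetI false
set_option maxHeartbeats 400000

universe u

open CategoryTheory CategoryTheory.Limits Opposite AlgebraicGeometry TopologicalSpace

attribute [local instance] HasDerivedCategory.standard

namespace Groth.Agent.Lib.Helper17.AffPush

open Groth.Agent.Lib.Helper17.MV Groth.Agent.Lib.Helper17.KInj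

variable {X S : Scheme.{u}}

/-- the unit of `Rf_*` on complexes. -/
noncomputable abbrev rpushUnit (f : X ⟶ S) [DCoh.HasRpush f] :
    (Scheme.Modules.pushforward f).mapHomologicalComplex (ComplexShape.up ℤ) ⋙ DerivedCategory.Q ⟶
      DerivedCategory.Q ⋙ DCoh.Rpush f :=
  unitOfK (Scheme.Modules.pushforward f) (DCoh.Rpush f)
    ((DCoh.pushKh f).totalRightDerivedUnit DerivedCategory.Qh
      (HomotopyCategory.quasiIso X.Modules (ComplexShape.up ℤ)))

/-- the unit on complexes is invertible on complexes of quasi-coherent modules, `f` affine. -/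
theorem isIso_rpushUnit_app (f : X ⟶ S) [IsAffineHom f] [DCoh.HasRpush f]
    (F : CochainComplex X.Modules ℤ) (hq : ∀ n : ℤ, (F.X n).IsQuasicoherent) :
    IsIso ((rpushUnit f).app F) := by
  haveI := isGrothendieckAbelian X
  obtain ⟨I, q, hIK, hq', -, -⟩ := exists_kInjective_resolution.{u} X.Modules F
  haveI := hIK
  haveI := hq'
  haveI : IsIso ((rpushUnit f).app I) := isIso_app_of_isKInjective _ _ (rpushUnit f) I
  haveI : IsIso ((DerivedCategory.Q : _ ⥤ DCoh.D X).map q) := by
    rw [DerivedCategory.isIso_Q_map_iff_quasiIso]; infer_instance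
  haveI : QuasiIso (((Scheme.Modules.pushforward f).mapHomologicalComplex
      (ComplexShape.up ℤ)).map q) := quasiIso_pushC f hq q
  haveI : IsIso ((DerivedCategory.Q : _ ⥤ DCoh.D S).map
      (((Scheme.Modules.pushforward f).mapHomologicalComplex (ComplexShape.up ℤ)).map q)) := by
    rw [DerivedCategory.isIso_Q_map_iff_quasiIso]; infer_instance
  have nat := (rpushUnit f).naturality q
  dsimp only [Functor.comp_map] at nat
  have h : (rpushUnit f).app F = (DerivedCategory.Q : _ ⥤ DCoh.D S).map
      (((Scheme.Modules.pushforward f).mapHomologicalComplex (ComplexShape.up ℤ)).map q) ≫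
      (rpushUnit f).app I ≫ inv ((DCoh.Rpush f).map ((DerivedCategory.Q : _ ⥤ DCoh.D X).map q)) := by
    rw [← Category.assoc, nat, Category.assoc, IsIso.hom_inv_id, Category.comp_id]
  rw [h]
  infer_instance

/-- the unit of the total right derived functor `Rf_*` at a complex of quasi-coherent modules is
invertible, `f` affine. -/
theorem isIso_totalRightDerivedUnit_app (f : X ⟶ S) [IsAffineHom f] [DCoh.HasRpush f]
    (F : CochainComplex X.Modules ℤ) (hq : ∀ n : ℤ, (F.X n).IsQuasicoherent) :
    IsIso (((DCoh.pushKh f).totalRightDerivedUnit DerivedCategory.Qh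
      (HomotopyCategory.quasiIso X.Modules (ComplexShape.up ℤ))).app
      ((HomotopyCategory.quotient X.Modules (ComplexShape.up ℤ)).obj F)) := by
  have h1 := isIso_rpushUnit_app f F hq
  have h2 : (rpushUnit f).app F =
      (isoF₀ (Scheme.Modules.pushforward f)).inv.app F ≫
        ((DCoh.pushKh f).totalRightDerivedUnit DerivedCategory.Qh
          (HomotopyCategory.quasiIso X.Modules (ComplexShape.up ℤ))).app
          ((HomotopyCategory.quotient X.Modules (ComplexShape.up ℤ)).obj F) ≫
        (DCoh.Rpush f).map ((DerivedCategory.quotientCompQhIso X.Modules).hom.app F) := by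
    dsimp only [rpushUnit, unitOfK, γOfK, NatTrans.comp_app, Functor.whiskerLeft_app,
      Functor.whiskerRight_app, NatTrans.id_app, Functor.associator_inv_app]
    rw [Category.id_comp, Category.id_comp]
  rw [h2] at h1
  haveI := h1
  haveI : IsIso (((DCoh.pushKh f).totalRightDerivedUnit DerivedCategory.Qh
      (HomotopyCategory.quasiIso X.Modules (ComplexShape.up ℤ))).app
      ((HomotopyCategory.quotient X.Modules (ComplexShape.up ℤ)).obj F) ≫
      (DCoh.Rpush f).map ((DerivedCategory.quotientCompQhIso X.Modules).hom.app F)) :=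
    IsIso.of_isIso_comp_left ((isoF₀ (Scheme.Modules.pushforward f)).inv.app F) _
  exact IsIso.of_isIso_comp_right _
    ((DCoh.Rpush f).map ((DerivedCategory.quotientCompQhIso X.Modules).hom.app F))

end Groth.Agent.Lib.Helper17.AffPush
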