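import Groth.Agent.Lib.Helper17AffPush5
import Groth.Agent.Lib.Helper17QCPush4

/-!
# `Rf_*` preserves `D_QCoh` for quasi-compact quasi-separated `f` (helper17)

Mayer–Vietoris induction over the quasi-compact opens of the source, the base case being the
degenerate Leray isomorphism for affine morphisms.
-/

set_option autoImplicit false
set_option linter.style.haveILetI false
set_option maxHeartbeats 400000

universe u

open CategoryTheory CategoryTheory.Limits AlgebraicGeometry TopologicalSpace Opposite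
  DerivedCategory Pretriangulated

attribute [local instance] HasDerivedCategory.standard

namespace Groth.Agent.Lib.Helper17.AffPush

open Groth.Agent.Lib.Helper17.MV Groth.Agent.Lib.Helper23.QCohLocal Groth.Agent.Lib.Helper17.QCPush

attribute [local instance] hasRpush

section

variable {X S : Scheme.{u}}

/-- restriction to an open preserves `D_QCoh`. -/
theorem isQCohD_restrictD' {U : Scheme.{u}} (j : U ⟶ X) [IsOpenImmersion j] (K : DCoh.D X)
    (hK : DCoh.IsQCohD K) : DCoh.IsQCohD ((DCoh.restrictD j).obj K) := by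
  intro n
  haveI : (DCoh.HD K n).IsQuasicoherent := hK n
  exact isQuasicoherent_of_iso
    (Groth.Agent.Lib.Helper17.AdjWay.homologyIso (Scheme.Modules.restrictFunctor j) K n).symm
    inferInstance

/-- the inductive property. -/
def PIndD (f : X ⟶ S) (U : X.Opens) : Prop :=
  ∀ (Z : Scheme.{u}) (i : Z ⟶ X) [IsOpenImmersion i], i.opensRange = U →
    ∀ (K : DCoh.D Z), DCoh.IsQCohD K → DCoh.IsQCohD ((DCoh.Rpush (i ≫ f)).obj K)

theorem pIndD_affine [IsAffine S] (f : X ⟶ S) (U : X.Opens) (hU : IsAffineOpen U) :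
    PIndD f U := by
  intro Z i _ hi K hK
  haveI : IsAffine Z := by
    have h : IsAffineOpen i.opensRange := hi ▸ hU
    haveI : IsAffine (i.opensRange : Scheme.{u}) := h
    exact IsAffine.of_isIso i.isoOpensRange.hom
  exact isQCohD_rpush_of_isAffineHom (i ≫ f) K hK

theorem pIndD_sup (f : X ⟶ S) (U V : X.Opens) (hU : PIndD f U) (hV : PIndD f V)
    (hUV : PIndD f (U ⊓ V)) : PIndD f (U ⊔ V) := by
  intro Z i _ hi K hK
  have hcov : i ⁻¹ᵁ U ⊔ i ⁻¹ᵁ V = ⊤ := by
    rw [← Scheme.Hom.preimage_sup, ← hi, Scheme.Hom.preimage_opensRange]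
  obtain ⟨a, b, c, hT⟩ := mv_triangle_push (i ≫ f) (i ⁻¹ᵁ U) (i ⁻¹ᵁ V) hcov K
  have key : ∀ (W : X.Opens), W ≤ U ⊔ V → PIndD f W →
      DCoh.IsQCohD ((DCoh.Rpush ((i ⁻¹ᵁ W).ι ≫ i ≫ f)).obj
        ((DCoh.restrictD (i ⁻¹ᵁ W).ι).obj K)) := by
    intro W hW hP
    have hr : ((i ⁻¹ᵁ W).ι ≫ i).opensRange = W := by
      rw [Scheme.Hom.opensRange_comp, Scheme.Opens.opensRange_ι,
        Scheme.Hom.image_preimage_eq_opensRange_inf, hi]
      exact inf_eq_right.2 hW
    have h1 := hP _ ((i ⁻¹ᵁ W).ι ≫ i) hr ((DCoh.restrictD (i ⁻¹ᵁ W).ι).obj K)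
      (isQCohD_restrictD' _ K hK)
    exact isQCohD_of_iso (rpushCongr (Category.assoc _ _ _) _) h1
  exact isQCohD_obj₁ _ hT
    (isQCohD_biprod (key U le_sup_left hU) (key V le_sup_right hV))
    (key (U ⊓ V) (inf_le_left.trans le_sup_left) hUV)

/-- For `f : X ⟶ S` with `X` quasi-compact quasi-separated and `S` affine, `Rf_*` preserves
`D_QCoh`. -/
theorem isQCohD_rpush_of_isAffine [IsAffine S] [CompactSpace X] [QuasiSeparatedSpace X]
    (f : X ⟶ S) (K : DCoh.D X) (hK : DCoh.IsQCohD K) :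
    DCoh.IsQCohD ((DCoh.Rpush f).obj K) := by
  have h := Groth.Agent.S0015.result X (PIndD f) (pIndD_affine f)
    (fun U V _ _ hU hV hUV => pIndD_sup f U V hU hV hUV) ⊤ isCompact_univ
  have h1 := h X (𝟙 X) (Scheme.Hom.opensRange_of_isIso _) K hK
  exact isQCohD_of_iso (rpushCongr (Category.id_comp f) _) h1

/-- `Rf_*` preserves `D_QCoh` for quasi-compact quasi-separated `f`. -/
theorem isQCohD_rpush (f : X ⟶ S) [QuasiCompact f] [QuasiSeparated f] (K : DCoh.D X)
    (hK : DCoh.IsQCohD K) : DCoh.IsQCohD ((DCoh.Rpush f).obj K) := by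
  intro k
  refine Groth.Agent.Lib.Helper23.FinType.isQuasicoherent_of_open_cover _
    (fun V : S.affineOpens => V.1) (iSup_affineOpens_eq_top S) (fun V => ?_)
  obtain ⟨e⟩ := Groth.Agent.Lib.Helper1.RpushRes.nonempty_rpush_restrict_iso f V.1
  have e1 := e.app K
  haveI : IsAffine (V.1 : Scheme.{u}) := V.2
  haveI : CompactSpace ((f ⁻¹ᵁ V.1 : X.Opens) : Scheme.{u}) :=
    QuasiCompact.compactSpace_of_compactSpace (f ∣_ V.1)
  haveI : QuasiSeparatedSpace ((f ⁻¹ᵁ V.1 : X.Opens) : Scheme.{u}) :=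
    quasiSeparatedSpace_of_quasiSeparated (f ∣_ V.1)
  have h2 := isQCohD_rpush_of_isAffine (f ∣_ V.1)
    ((DCoh.restrictD (f ⁻¹ᵁ V.1).ι).obj K) (isQCohD_restrictD' _ K hK) k
  exact isQuasicoherent_of_iso
    ((DerivedCategory.homologyFunctor _ k).mapIso e1.symm ≪≫
      Groth.Agent.Lib.Helper17.AdjWay.homologyIso (Scheme.Modules.restrictFunctor V.1.ι) _ k) h2

end

end Groth.Agent.Lib.Helper17.AffPush
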