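import Groth.Agent.Lib.Helper17AffPush6
import Groth.Agent.Lib.Helper17Hyp17

/-!
# `Rf_*` reflects isomorphisms on `D_QCoh` for `f` affine (helper17)
-/

set_option autoImplicit false
set_option linter.style.haveILetI false
set_option maxHeartbeats 400000
set_option synthInstance.maxHeartbeats 40000

universe u

open CategoryTheory CategoryTheory.Limits Opposite AlgebraicGeometry TopologicalSpace

attribute [local instance] HasDerivedCategory.standard

namespace Groth.Agent.Lib.Helper17.AffPush

open Groth.Agent.Lib.Helper17.Hyp Groth.Agent.Lib.Helper17.HypX Groth.Agent.Lib.Helper17.MV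
  Groth.Agent.Lib.Helper17.KInj Groth.Agent.Lib.Helper17.FFaith DerivedCategory Pretriangulated

variable {X S : Scheme.{u}}

/-- a quasi-coherent module with vanishing direct image along an affine morphism vanishes. -/
theorem isZero_of_isZero_pushforward (f : X ⟶ S) [IsAffineHom f] (M : X.Modules)
    [M.IsQuasicoherent] (h : IsZero ((Scheme.Modules.pushforward f).obj M)) : IsZero M := by
  have hloc := locFr_frModR X.ringCatSheaf
  rw [IsZero.iff_id_eq_zero]
  apply hloc.gen
  intro U s
  refine (Category.comp_id s).trans ?_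
  let R : Presieve U := fun W _ => Subsingleton ((frX X).obj W ⟶ M)
  have hR : Sieve.generate R ∈ Opens.grothendieckTopology X U := by
    intro x hx
    obtain ⟨V, hVaff, hxV, -⟩ := Opens.isBasis_iff_nbhd.1 S.isBasis_affineOpens
      (show f.base x ∈ (⊤ : S.Opens) from trivial)
    have hU₁ : IsAffineOpen (f ⁻¹ᵁ V) := hVaff.preimage f
    obtain ⟨a, haW, hxa⟩ := hU₁.exists_basicOpen_le (V := U ⊓ f ⁻¹ᵁ V) ⟨x, ⟨hx, hxV⟩⟩ hxV
    refine ⟨X.basicOpen a, homOfLE (haW.trans inf_le_left),
      ⟨_, 𝟙 _, homOfLE (haW.trans inf_le_left), ?_, Category.id_comp _⟩, hxa⟩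
    have h0 : Subsingleton ((frX S).obj V ⟶ (Scheme.Modules.pushforward f).obj M) :=
      ⟨fun a b => h.eq_of_tgt a b⟩
    haveI h1 : Subsingleton Γ(M, f ⁻¹ᵁ V) :=
      @Equiv.subsingleton _ _
        (secAddEquiv S.ringCatSheaf ((Scheme.Modules.pushforward f).obj M) V).symm.toEquiv h0
    haveI := isLocalizedModule_resLin hU₁ M a
    haveI h2 : Subsingleton (RS M (X.basicOpen_le a)) :=
      IsLocalizedModule.subsingleton_of_subsingleton (Submonoid.powers a)
        (resLin M (X.basicOpen_le a))
    have h3 : Subsingleton Γ(M, X.basicOpen a) := h2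
    exact @Equiv.subsingleton _ _ (secAddEquiv X.ringCatSheaf M (X.basicOpen a)).toEquiv h3
  exact hloc.zero_of_generate U s R hR (fun W g hg => @Subsingleton.elim _ hg _ _)

/-- `Rf_*` reflects isomorphisms between objects of `D_QCoh`, for `f` affine. -/
theorem isIso_of_isIso_rpush_map (f : X ⟶ S) [IsAffineHom f] [DCoh.HasRpush f]
    {E F : DCoh.D X} (hE : DCoh.IsQCohD E) (hF : DCoh.IsQCohD F) (α : E ⟶ F)
    (hα : IsIso ((DCoh.Rpush f).map α)) : IsIso α := by
  haveI := isGrothendieckAbelian X
  obtain ⟨IE, hIEK, -, ⟨eE⟩⟩ := exists_model E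
  obtain ⟨IF, hIFK, -, ⟨eF⟩⟩ := exists_model F
  haveI := hIEK
  haveI := hIFK
  obtain ⟨a, ha⟩ := exists_Q_map_eq (eE.inv ≫ α ≫ eF.hom)
  -- it suffices that `Q a` is an isomorphism
  suffices hQa : IsIso ((Q : _ ⥤ DCoh.D X).map a) by
    have : α = eE.hom ≫ (Q : _ ⥤ DCoh.D X).map a ≫ eF.inv := by
      rw [ha]
      simp only [Category.assoc, Iso.hom_inv_id, Category.comp_id, Iso.hom_inv_id_assoc]
    rw [this]
    infer_instance
  let G := (Scheme.Modules.pushforward f).mapHomologicalComplex (ComplexShape.up ℤ)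
  -- `Q (f_* a)` is an isomorphism
  have hpush : IsIso ((Q : _ ⥤ DCoh.D S).map (G.map a)) := by
    haveI : IsIso ((rpushUnit f).app IE) := isIso_app_of_isKInjective _ _ (rpushUnit f) IE
    haveI : IsIso ((rpushUnit f).app IF) := isIso_app_of_isKInjective _ _ (rpushUnit f) IF
    haveI : IsIso ((DCoh.Rpush f).map ((Q : _ ⥤ DCoh.D X).map a)) := by
      rw [ha, Functor.map_comp, Functor.map_comp]
      infer_instance
    have nat := (rpushUnit f).naturality a
    dsimp only [Functor.comp_map] at nat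
    have h : (Q : _ ⥤ DCoh.D S).map (G.map a) = (rpushUnit f).app IE ≫
        (DCoh.Rpush f).map ((Q : _ ⥤ DCoh.D X).map a) ≫ inv ((rpushUnit f).app IF) := by
      rw [← Category.assoc, ← nat, Category.assoc, IsIso.hom_inv_id, Category.comp_id]
    rw [h]
    infer_instance
  -- the cone
  haveI := isKInjective_mappingCone a
  have hTX : (Q : _ ⥤ DCoh.D X).mapTriangle.obj (CochainComplex.mappingCone.triangle a) ∈
      distTriang (DCoh.D X) := (mem_distTriang_iff _).2 ⟨_, _, a, ⟨Iso.refl _⟩⟩
  have hTS : (Q : _ ⥤ DCoh.D S).mapTriangle.obj (CochainComplex.mappingCone.triangle (G.map a)) ∈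
      distTriang (DCoh.D S) := (mem_distTriang_iff _).2 ⟨_, _, G.map a, ⟨Iso.refl _⟩⟩
  have hQE : ∀ n, qc X ((homologyFunctor X.Modules n).obj ((Q : _ ⥤ DCoh.D X).obj IE)) := fun n =>
    (qc X).prop_of_iso ((homologyFunctor X.Modules n).mapIso eE) (hE n)
  have hQF : ∀ n, qc X ((homologyFunctor X.Modules n).obj ((Q : _ ⥤ DCoh.D X).obj IF)) := fun n =>
    (qc X).prop_of_iso ((homologyFunctor X.Modules n).mapIso eF) (hF n)
  have hC : ∀ n, ((CochainComplex.mappingCone a).homology n).IsQuasicoherent := fun n =>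
    (qc X).prop_of_iso ((homologyFunctorFactors X.Modules n).app _)
      (prop_homology_obj₃ (qc X) _ hTX n (hQE n) (hQF n) (hQE (n + 1)) (hQF (n + 1)))
  -- the cone of `f_* a` is zero in `D(S)`
  have hzS : IsZero ((Q : _ ⥤ DCoh.D S).obj (CochainComplex.mappingCone (G.map a))) :=
    (Triangle.isZero₃_iff_isIso₁ _ hTS).2 hpush
  have hzC : ∀ n, IsZero ((CochainComplex.mappingCone a).homology n) := by
    intro n
    haveI := hC n
    apply isZero_of_isZero_pushforward f
    obtain ⟨e⟩ := nonempty_homology_pushC_iso f (CochainComplex.mappingCone a) hC n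
    refine IsZero.of_iso ?_ e.symm
    have e' : (G.obj (CochainComplex.mappingCone a)).homology n ≅
        (homologyFunctor S.Modules n).obj
          ((Q : _ ⥤ DCoh.D S).obj (CochainComplex.mappingCone (G.map a))) :=
      (HomologicalComplex.homologyFunctor S.Modules (ComplexShape.up ℤ) n).mapIso
        (CochainComplex.mappingCone.mapHomologicalComplexIso a
          (Scheme.Modules.pushforward f)) ≪≫
        ((homologyFunctorFactors S.Modules n).app _).symm
    exact IsZero.of_iso ((homologyFunctor S.Modules n).map_isZero hzS) e'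
  have hzX : IsZero ((Q : _ ⥤ DCoh.D X).obj (CochainComplex.mappingCone a)) := by
    rw [IsZero.iff_id_eq_zero]
    haveI : IsIso (0 : (Q : _ ⥤ DCoh.D X).obj (CochainComplex.mappingCone a) ⟶
        (Q : _ ⥤ DCoh.D X).obj (CochainComplex.mappingCone a)) := by
      rw [DerivedCategory.isIso_iff]
      intro n
      have hz := IsZero.of_iso (hzC n) ((homologyFunctorFactors X.Modules n).app
        (CochainComplex.mappingCone a))
      exact ⟨⟨0, hz.eq_of_src _ _, hz.eq_of_src _ _⟩⟩
    rw [← cancel_mono (0 : (Q : _ ⥤ DCoh.D X).obj (CochainComplex.mappingCone a) ⟶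
        (Q : _ ⥤ DCoh.D X).obj (CochainComplex.mappingCone a)), comp_zero, zero_comp]
  exact (Triangle.isZero₃_iff_isIso₁ _ hTX).1 hzX

end Groth.Agent.Lib.Helper17.AffPush
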