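import Groth.Agent.Lib.Helper17MV6
import Groth.Agent.Lib.Helper17Cpt2

/-!
# Objects of `D(O_X)` supported inside an open (helper17)

If `X = U ∪ V` and `E|_V = 0` then `E ≅ Rj_{U*}(E|_U)`.
-/

set_option autoImplicit false

universe w w₁ w₂ v v' u' u

open CategoryTheory CategoryTheory.Limits AlgebraicGeometry TopologicalSpace Opposite
  DerivedCategory Pretriangulated

attribute [local instance] HasDerivedCategory.standard

namespace Groth.Agent.Lib.Helper17.MV

open Groth.Agent.Lib.Helper17.KInj Groth.Agent.Lib.Helper17.Cpt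

section General

variable {A : Type u'} [Category.{v'} A] [Abelian A] {B : Type u} [Category.{v} B] [Abelian B]

/-- an exact functor killing the homology of `K` maps `K` to an acyclic complex. -/
lemma acyclic_map_of_isZero (Ψ : A ⥤ B) [Ψ.Additive] [PreservesFiniteLimits Ψ]
    [PreservesFiniteColimits Ψ] (K : CochainComplex A ℤ)
    (h : ∀ i, IsZero (Ψ.obj (K.homology i))) :
    ((Ψ.mapHomologicalComplex (ComplexShape.up ℤ)).obj K).Acyclic := by
  intro i
  rw [HomologicalComplex.exactAt_iff, ShortComplex.exact_iff_isZero_homology]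
  exact IsZero.of_iso (h i) ((K.sc i).mapHomologyIso Ψ)

/-- an additive functor maps an acyclic K-injective complex to a zero object of the derived
category. -/
lemma isZero_Q_map_of_acyclic_of_isKInjective [HasDerivedCategory.{w₁} B] (G : A ⥤ B) [G.Additive]
    (I : CochainComplex A ℤ) [I.IsKInjective] (hI : I.Acyclic) :
    IsZero ((Q : _ ⥤ DerivedCategory B).obj ((G.mapHomologicalComplex (ComplexShape.up ℤ)).obj I)) := by
  have h := CochainComplex.IsKInjective.homotopyZero (𝟙 I) hI
  have h2 := DerivedCategory.Q_map_eq_of_homotopy (C := B) (G.mapHomotopy h)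
  rw [IsZero.iff_id_eq_zero, ← CategoryTheory.Functor.map_id, ← CategoryTheory.Functor.map_id, h2,
    Functor.map_zero, Functor.map_zero]

end General

section Tri

variable {C : Type u} [Category.{v} C] [HasZeroObject C] [HasShift C ℤ] [Preadditive C]
  [∀ n : ℤ, (shiftFunctor C n).Additive] [Pretriangulated C]

/-- in a distinguished triangle `A₀ ⟶ AU ⊞ AV ⟶ AW ⟶` with `AV` and `AW` zero, `A₀ ≅ AU`. -/
lemma nonempty_iso_of_isZero {A₀ AU AV AW : C} [HasBinaryBiproduct AU AV] (a : A₀ ⟶ AU ⊞ AV)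
    (b : AU ⊞ AV ⟶ AW) (c : AW ⟶ A₀⟦(1 : ℤ)⟧) (hT : Triangle.mk a b c ∈ distTriang C)
    (hV : IsZero AV) (hW : IsZero AW) : Nonempty (A₀ ≅ AU) := by
  haveI : IsIso a := (Triangle.isZero₃_iff_isIso₁ _ hT).1 hW
  refine ⟨asIso a ≪≫ ⟨biprod.fst, biprod.inl, ?_, biprod.inl_fst⟩⟩
  have h := biprod.total (X := AU) (Y := AV)
  rw [hV.eq_of_src (biprod.inr : AV ⟶ AU ⊞ AV) 0, comp_zero, add_zero] at h
  exact h

end Tri

section Sch

variable {X : Scheme.{u}}

lemma isZero_of_stalk_subsingleton (M : X.Modules)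
    (h : ∀ x : X, Subsingleton (M.presheaf.stalk x)) : IsZero M := by
  rw [IsZero.iff_id_eq_zero]
  apply Scheme.Modules.hom_ext
  intro U
  ext m
  have h0 : m = 0 := TopCat.Presheaf.section_ext ⟨M.presheaf, M.isSheaf⟩ U m 0
    (fun x hx => (h x).elim _ _)
  rw [h0, map_zero, map_zero]

/-- a module supported in `T` restricts to zero on an open disjoint from `T`. -/
lemma isZero_restrict_of_support (M : X.Modules) (O : X.Opens) (T : Set X)
    (hM : CohB1.support M ⊆ T) (hO : Disjoint (O : Set X) T) :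
    IsZero ((Scheme.Modules.restrictFunctor O.ι).obj M) := by
  apply isZero_of_stalk_subsingleton
  intro y
  have e := (Scheme.Modules.restrictStalkNatIso O.ι y).app M
  have hs : Subsingleton (M.presheaf.stalk (O.ι y)) := by
    by_contra hns
    exact Set.disjoint_left.1 hO (show (O.ι y) ∈ (O : Set X) from y.2) (hM hns)
  exact @Equiv.subsingleton _ _ e.addCommGroupIsoToAddEquiv.toEquiv hs

/-- if `X = U ∪ V` and the K-injective model `J` of `E` is acyclic on `V` and `U ∩ V`, then
`E ≅ Rj_{U*}(E|_U)`. -/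
theorem nonempty_iso_rpush_restrict (U V : X.Opens) (hUV : U ⊔ V = ⊤) [DCoh.HasRpush U.ι]
    (E : DCoh.D X) (J : CochainComplex X.Modules ℤ) [J.IsKInjective]
    (hJ : ∀ n, Injective (J.X n)) (e : E ≅ (Q : _ ⥤ DCoh.D X).obj J)
    (hV : (((Scheme.Modules.restrictFunctor V.ι).mapHomologicalComplex
      (ComplexShape.up ℤ)).obj J).Acyclic)
    (hW : (((Scheme.Modules.restrictFunctor (U ⊓ V).ι).mapHomologicalComplex
      (ComplexShape.up ℤ)).obj J).Acyclic) :
    Nonempty (E ≅ (DCoh.Rpush U.ι).obj ((DCoh.restrictD U.ι).obj E)) := by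
  obtain ⟨a, b, c, hT⟩ := exists_triangle (𝟭 X.Modules) J U V hUV hJ e
    (vertexIso U (𝟭 _) (Scheme.Modules.pushforward U.ι) (Functor.rightUnitor _).symm J e)
    (Iso.refl _) (Iso.refl _)
  refine nonempty_iso_of_isZero a b c hT ?_ ?_
  · haveI := Groth.Agent.Lib.Helper1.RpushRes.isKInjective_restrict V J
    exact isZero_Q_map_of_acyclic_of_isKInjective (Scheme.Modules.pushforward V.ι)
      (((Scheme.Modules.restrictFunctor V.ι).mapHomologicalComplex (ComplexShape.up ℤ)).obj J) hV
  · haveI := Groth.Agent.Lib.Helper1.RpushRes.isKInjective_restrict (U ⊓ V) J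
    exact isZero_Q_map_of_acyclic_of_isKInjective (Scheme.Modules.pushforward (U ⊓ V).ι)
      (((Scheme.Modules.restrictFunctor (U ⊓ V).ι).mapHomologicalComplex
        (ComplexShape.up ℤ)).obj J) hW

end Sch

end Groth.Agent.Lib.Helper17.MV
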