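import Groth.Agent.Lib.Helper17GammaZTri2
import Groth.Agent.Lib.Helper17AdjWay1
import Groth.Agent.Lib.Helper17MV9

/-!
# Supports of cohomology sheaves and restriction to opens (helper17)
-/

set_option autoImplicit false
set_option linter.style.haveILetI false
set_option maxHeartbeats 400000

universe u

open CategoryTheory CategoryTheory.Limits Opposite AlgebraicGeometry TopologicalSpace
  Pretriangulated ZeroObject

attribute [local instance] HasDerivedCategory.standard

namespace Groth.Agent.Lib.Helper17.SuppRpush

open Groth.Agent.Lib.Helper17.MV Groth.Agent.Lib.Helper17.KInj Groth.Agent.Lib.Helper17.AffPush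
  Groth.Agent.Lib.Helper17.QCPush Groth.Agent.Lib.Helper17.DQAdj DerivedCategory
  Groth.Agent.Lib.Helper17.UnitSupp Groth.Agent.Lib.Helper17.GammaZTri

attribute [local instance] Groth.Agent.Lib.Helper17.QCPush.hasRpush

section Mod

variable {U X : Scheme.{u}} (j : U ⟶ X) [IsOpenImmersion j]

/-- a module supported in `S` restricts to zero along an open immersion with range disjoint from
`S`. -/
lemma isZero_restrict_of_support (M : X.Modules) (S : Set X)
    (hM : CohB1.support M ⊆ S) (hj : Disjoint (Set.range j.base) S) :
    IsZero ((Scheme.Modules.restrictFunctor j).obj M) := by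
  apply Groth.Agent.Lib.Helper17.MV.isZero_of_stalk_subsingleton
  intro y
  have e := (Scheme.Modules.restrictStalkNatIso j y).app M
  have hs : Subsingleton (M.presheaf.stalk (j y)) := by
    by_contra hns
    exact Set.disjoint_left.1 hj ⟨y, rfl⟩ (hM hns)
  exact @Equiv.subsingleton _ _ e.addCommGroupIsoToAddEquiv.toEquiv hs

/-- a module vanishing along `j` is supported on the complement of the range of `j`. -/
lemma support_subset_of_isZero_restrict (M : X.Modules)
    (h : IsZero ((Scheme.Modules.restrictFunctor j).obj M)) :
    CohB1.support M ⊆ (Set.range j.base)ᶜ := by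
  rintro x hx ⟨y, rfl⟩
  apply hx
  have e := (Scheme.Modules.restrictStalkNatIso j y).app M
  have hs := Groth.Agent.Lib.Helper17.GammaZSupp.subsingleton_stalk_of_isZero _ h y
  exact @Equiv.subsingleton _ _ e.symm.addCommGroupIsoToAddEquiv.toEquiv hs

end Mod

section D

variable {U X : Scheme.{u}} (j : U ⟶ X) [IsOpenImmersion j]

lemma isZero_restrictD_of_support (K : DCoh.D X) (S : Set X)
    (hK : ∀ i : ℤ, CohB1.support (DCoh.HD K i) ⊆ S) (hj : Disjoint (Set.range j.base) S) :
    IsZero ((DCoh.restrictD j).obj K) :=
  isZero_of_homology _ (fun n => IsZero.of_iso (isZero_restrict_of_support j _ S (hK n) hj)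
    (Groth.Agent.Lib.Helper17.AdjWay.homologyIso (Scheme.Modules.restrictFunctor j) K n))

lemma support_subset_of_isZero_restrictD (K : DCoh.D X)
    (h : IsZero ((DCoh.restrictD j).obj K)) (i : ℤ) :
    CohB1.support (DCoh.HD K i) ⊆ (Set.range j.base)ᶜ :=
  support_subset_of_isZero_restrict j _ (IsZero.of_iso
    ((DerivedCategory.homologyFunctor (U.Modules) i).map_isZero h)
    (Groth.Agent.Lib.Helper17.AdjWay.homologyIso (Scheme.Modules.restrictFunctor j) K i).symm)

lemma isSuppD_iff (K : DCoh.D X) :
    CxOX.IsSuppD j K ↔ IsZero ((DCoh.restrictD j).obj K) :=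
  ⟨fun h => isZero_restrictD_of_support j K _ h disjoint_compl_right,
    fun h i => support_subset_of_isZero_restrictD j K h i⟩

end D

end Groth.Agent.Lib.Helper17.SuppRpush
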