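import Groth.Agent.Lib.Helper17UnitSupp2
import Groth.Agent.Lib.Helper17SuppRpush1
import Groth.Agent.Lib.Helper1SPL4
import Groth.Agent.Lib.Helper1PC6
import Groth.Agent.Lib.Helper4PerfSupp

/-!
# Extending an approximation by a perfect complex from an open neighbourhood of the support
(helper17)

`U ⊆ X` open, `T ⊆ U` closed in `X`, `P ∈ D(O_U)` perfect and supported on `T`, `α : P ⟶ E|_U`.
Then `Rj_* P` is perfect, supported on `T`, and `Rj_* α` lifts uniquely through the unit
`E ⟶ Rj_* (E|_U)`.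
-/

set_option autoImplicit false
set_option linter.style.haveILetI false
set_option maxHeartbeats 400000

universe u

open CategoryTheory CategoryTheory.Limits Opposite AlgebraicGeometry TopologicalSpace
  Pretriangulated ZeroObject

attribute [local instance] HasDerivedCategory.standard

namespace Groth.Agent.Lib.Helper17.ApproxOpen

open Groth.Agent.Lib.Helper17.MV Groth.Agent.Lib.Helper17.KInj Groth.Agent.Lib.Helper17.AffPush
  Groth.Agent.Lib.Helper17.QCPush Groth.Agent.Lib.Helper17.DQAdj DerivedCategory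
  Groth.Agent.Lib.Helper17.UnitSupp Groth.Agent.Lib.Helper17.SuppRpush
  Groth.Agent.Lib.Helper1.SPL Groth.Agent.Lib.Helper1.Sky

attribute [local instance] Groth.Agent.Lib.Helper17.QCPush.hasRpush

section Perfect

variable {X : Scheme.{u}}

/-- a zero object is perfect. -/
lemma isPerfect_of_isZero {K : DCoh.D X} (hK : IsZero K) : DCoh.IsPerfect K := by
  rw [isPerfect_iff_hasPres]
  intro x
  have hz1 : IsZero ((resD (𝟙 X)).obj K) := (resD (𝟙 X)).map_isZero hK
  have hz2 : IsZero (DerivedCategory.Q.obj (0 : CochainComplex X.Modules ℤ)) :=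
    DerivedCategory.Q.map_isZero (isZero_zero _)
  exact ⟨X, 𝟙 X, inferInstance, by simp, 0, isStrictlyPerfect_zero, ⟨hz1.iso hz2⟩⟩

/-- a local presentation of `K|_U` gives one of `K`. -/
lemma hasPres_of_restrictD {U : Scheme.{u}} (j : U ⟶ X) [IsOpenImmersion j] (K : DCoh.D X)
    (h : DCoh.IsPerfect ((DCoh.restrictD j).obj K)) (y : U) : HasPres K (j y) := by
  obtain ⟨U', i, hi, hy, E', hE', ⟨a⟩⟩ := (isPerfect_iff_hasPres _).1 h y
  haveI := hi
  refine ⟨U', i ≫ j, inferInstance, ?_, E', hE', ⟨(resDComp i j).app K ≪≫ a⟩⟩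
  obtain ⟨z, hz⟩ := hy
  exact ⟨z, by rw [← hz]; simp⟩

/-- perfectness is local for a two-element open cover. -/
theorem isPerfect_of_restrictD {U V : Scheme.{u}} (i : U ⟶ X) (j : V ⟶ X) [IsOpenImmersion i]
    [IsOpenImmersion j] (hcov : ∀ x : X, (∃ y : U, i y = x) ∨ (∃ y : V, j y = x))
    (K : DCoh.D X) (hU : DCoh.IsPerfect ((DCoh.restrictD i).obj K))
    (hV : DCoh.IsPerfect ((DCoh.restrictD j).obj K)) : DCoh.IsPerfect K := by
  rw [isPerfect_iff_hasPres]
  intro x
  rcases hcov x with ⟨y, rfl⟩ | ⟨y, rfl⟩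
  · exact hasPres_of_restrictD i K hU y
  · exact hasPres_of_restrictD j K hV y

end Perfect

end Groth.Agent.Lib.Helper17.ApproxOpen
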