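import Groth.Agent.Lib.Helper17ApproxOpen1

/-!
# Extending an approximation by a perfect complex from an open neighbourhood of the support, II
(helper17)
-/

set_option autoImplicit false
set_option linter.style.haveILetI false
set_option maxHeartbeats 400000

universe u

open CategoryTheory CategoryTheory.Limits Opposite AlgebraicGeometry TopologicalSpace
  Pretriangulated ZeroObject

attribute [local instance] HasDerivedCategory.standard

namespace Groth.Agent.Lib.Helper17.ApproxOpen

open Groth.Agent.Lib.Helper17.MV Groth.Agent.Lib.Helper17.KInj Groth.Agent.Lib.Helper17.AffPush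
  Groth.Agent.Lib.Helper17.QCPush Groth.Agent.Lib.Helper17.DQAdj DerivedCategory
  Groth.Agent.Lib.Helper17.UnitSupp Groth.Agent.Lib.Helper17.SuppRpush
  Groth.Agent.Lib.Helper1.SPL Groth.Agent.Lib.Helper1.Sky

attribute [local instance] Groth.Agent.Lib.Helper17.QCPush.hasRpush

section Hom

variable {X : Scheme.{u}} (U W : X.Opens) (hUW : (U : Set X)ᶜ ⊆ (W : Set X))

include hUW in
/-- morphisms from an object vanishing on `W` to an object vanishing on `U` are zero, if
`U ∪ W = X`. -/
lemma hom_eq_zero_of_isZero_restrictD (A C : DCoh.D X)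
    (hA : IsZero ((DCoh.restrictD W.ι).obj A)) (hC : IsZero ((DCoh.restrictD U.ι).obj C))
    (φ : A ⟶ C) : φ = 0 := by
  haveI : IsIso ((adjD W.ι).unit.app C) :=
    isIso_adjD_unit_app_of_isZero_restrictD W.ι U
      (by rw [Scheme.Opens.range_ι]; exact hUW) C hC
  apply (cancel_mono ((adjD W.ι).unit.app C)).1
  rw [zero_comp]
  apply ((adjD W.ι).homEquiv _ _).symm.injective
  exact hA.eq_of_src _ _

end Hom

section Main

variable {X : Scheme.{u}} (U : X.Opens) (T : Set X) (hT : IsClosed T) (hTU : T ⊆ (U : Set X))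

/-- the open complement of `T`. -/
def compl : X.Opens := ⟨Tᶜ, hT.isOpen_compl⟩

lemma compl_coe : ((compl T hT : X.Opens) : Set X) = Tᶜ := rfl

variable (P : DCoh.D (U : Scheme.{u}))
  (hP : ∀ i : ℤ, CohB1.support (DCoh.HD P i) ⊆ {v : ↥(U : Scheme.{u}) | U.ι.base v ∈ T})

include hP in
/-- `Rj_* P` vanishes outside `T`. -/
lemma isZero_restrictD_rpush_compl :
    IsZero ((DCoh.restrictD (compl T hT).ι).obj ((DCoh.Rpush U.ι).obj P)) := by
  refine isZero_restrictD_rpush U.ι (compl T hT) P ?_
  refine isZero_restrictD_of_support _ P _ hP ?_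
  rw [Scheme.Opens.range_ι, Set.disjoint_left]
  intro v hv hv'
  exact hv hv'

include hT hP in
lemma support_rpush (i : ℤ) : CohB1.support (DCoh.HD ((DCoh.Rpush U.ι).obj P) i) ⊆ T := by
  have h := support_subset_of_isZero_restrictD (compl T hT).ι _
    (isZero_restrictD_rpush_compl U T hT P hP) i
  rw [Scheme.Opens.range_ι, compl_coe, compl_compl] at h
  exact h

include hTU in
lemma cover (x : X) : (∃ y : ↥(U : Scheme.{u}), U.ι y = x) ∨
    (∃ y : ↥((compl T hT : X.Opens) : Scheme.{u}), (compl T hT).ι y = x) := by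
  by_cases hx : x ∈ T
  · exact Or.inl ⟨⟨x, hTU hx⟩, rfl⟩
  · exact Or.inr ⟨⟨x, hx⟩, rfl⟩

include hT hTU hP in
/-- `Rj_* P` is perfect if `P` is perfect and supported on `T`. -/
theorem isPerfect_rpush (hperf : DCoh.IsPerfect P) :
    DCoh.IsPerfect ((DCoh.Rpush U.ι).obj P) := by
  refine isPerfect_of_restrictD U.ι (compl T hT).ι (cover U T hT hTU) _ ?_ ?_
  · exact Groth.Agent.Lib.Helper4.PerfSupp.isPerfect_of_iso
      (asIso ((adjD U.ι).counit.app P)).symm hperf
  · exact isPerfect_of_isZero (isZero_restrictD_rpush_compl U T hT P hP)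

variable (E : DCoh.D X) (α : P ⟶ (DCoh.restrictD U.ι).obj E)

include hT hTU hP in
/-- `Rj_* α` lifts through the unit `E ⟶ Rj_* j^* E`. -/
theorem exists_lift :
    ∃ β : (DCoh.Rpush U.ι).obj P ⟶ E,
      β ≫ (adjD U.ι).unit.app E = (DCoh.Rpush U.ι).map α := by
  obtain ⟨C, g, h, hTr⟩ := distinguished_cocone_triangle ((adjD U.ι).unit.app E)
  have hC : IsZero ((DCoh.restrictD U.ι).obj C) := by
    have hT' := (DCoh.restrictD U.ι).map_distinguished _ hTr
    exact (Triangle.isZero₃_iff_isIso₁ _ hT').2 (isIso_restrictD_map_unit U.ι E)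
  have h0 : (DCoh.Rpush U.ι).map α ≫ g = 0 :=
    hom_eq_zero_of_isZero_restrictD U (compl T hT)
      (by rw [compl_coe]; exact Set.compl_subset_compl.2 hTU) _ _
      (isZero_restrictD_rpush_compl U T hT P hP) hC _
  obtain ⟨β, hβ⟩ := Triangle.coyoneda_exact₂ _ hTr ((DCoh.Rpush U.ι).map α) h0
  exact ⟨β, hβ.symm⟩

/-- the restriction of a lift to `U` is `α` up to the counit isomorphism. -/
lemma restrictD_map_lift (β : (DCoh.Rpush U.ι).obj P ⟶ E)
    (hβ : β ≫ (adjD U.ι).unit.app E = (DCoh.Rpush U.ι).map α) :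
    (DCoh.restrictD U.ι).map β = (adjD U.ι).counit.app P ≫ α := by
  have h1 := (adjD U.ι).left_triangle_components E
  have h2 := (adjD U.ι).counit.naturality α
  dsimp only [Functor.comp_obj, Functor.comp_map, Functor.id_obj, Functor.id_map] at h1 h2
  calc (DCoh.restrictD U.ι).map β
      = (DCoh.restrictD U.ι).map β ≫ (DCoh.restrictD U.ι).map ((adjD U.ι).unit.app E) ≫
          (adjD U.ι).counit.app ((DCoh.restrictD U.ι).obj E) := by rw [h1, Category.comp_id]
    _ = (DCoh.restrictD U.ι).map ((DCoh.Rpush U.ι).map α) ≫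
          (adjD U.ι).counit.app ((DCoh.restrictD U.ι).obj E) := by
        rw [← Category.assoc, ← Functor.map_comp, hβ]
    _ = (adjD U.ι).counit.app P ≫ α := h2

end Main

end Groth.Agent.Lib.Helper17.ApproxOpen
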