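import Groth.Agent.Lib.Helper17ApproxOpen2

/-!
# Extending an approximation by a perfect complex from an open neighbourhood of the support, III
(helper17)
-/

set_option autoImplicit false
set_option linter.style.haveILetI false
set_option maxHeartbeats 400000

universe u v' w' w''

open CategoryTheory CategoryTheory.Limits Opposite AlgebraicGeometry TopologicalSpace
  Pretriangulated ZeroObject

attribute [local instance] HasDerivedCategory.standard

namespace Groth.Agent.Lib.Helper17.ApproxOpen

open Groth.Agent.Lib.Helper17.MV Groth.Agent.Lib.Helper17.KInj Groth.Agent.Lib.Helper17.AffPush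
  Groth.Agent.Lib.Helper17.QCPush Groth.Agent.Lib.Helper17.DQAdj DerivedCategory
  Groth.Agent.Lib.Helper17.UnitSupp Groth.Agent.Lib.Helper17.SuppRpush
  Groth.Agent.Lib.Helper1.SPL Groth.Agent.Lib.Helper1.Sky

attribute [local instance] Groth.Agent.Lib.Helper17.QCPush.hasRpush

section Local

variable {X : Scheme.{u}}

/-- `PropM m` (isomorphism on `H^i`, `i > m`, epimorphism on `H^m`) is local for a two-element
open cover. -/
theorem propM_of_restrictD {U V : Scheme.{u}} (i : U ⟶ X) (j : V ⟶ X) [IsOpenImmersion i]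
    [IsOpenImmersion j] (hcov : ∀ x : X, (∃ y : U, i y = x) ∨ (∃ y : V, j y = x))
    {K L : DCoh.D X} (φ : K ⟶ L) (m : ℤ) (hU : PropM m ((DCoh.restrictD i).map φ))
    (hV : PropM m ((DCoh.restrictD j).map φ)) : PropM m φ := by
  obtain ⟨Z, g, h, hT⟩ := distinguished_cocone_triangle φ
  refine (propM_iff_of_distTriang m _ hT).2 ?_
  intro n hn
  have key : ∀ {W : Scheme.{u}} (k : W ⟶ X) [IsOpenImmersion k],
      PropM m ((DCoh.restrictD k).map φ) →
      IsZero ((Scheme.Modules.restrictFunctor k).obj
        ((DerivedCategory.homologyFunctor X.Modules n).obj Z)) := by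
    intro W k _ hk
    have hT' := (DCoh.restrictD k).map_distinguished _ hT
    have hz := (propM_iff_of_distTriang m _ hT').1 hk n hn
    exact IsZero.of_iso hz
      (Groth.Agent.Lib.Helper17.AdjWay.homologyIso (Scheme.Modules.restrictFunctor k) Z n).symm
  let W : Bool → Scheme.{u} := fun b => cond b U V
  let k : ∀ b, W b ⟶ X := fun b => match b with
    | true => i
    | false => j
  haveI : ∀ b, IsOpenImmersion (k b) := fun b => by
    cases b
    · exact inferInstanceAs (IsOpenImmersion j)
    · exact inferInstanceAs (IsOpenImmersion i)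
  refine Groth.Agent.Lib.Helper23.ModLocal.isZero_of_isZero_restrict W k ?_ ?_
  · intro x
    rcases hcov x with ⟨y, hy⟩ | ⟨y, hy⟩
    · exact ⟨true, y, hy⟩
    · exact ⟨false, y, hy⟩
  · intro b
    cases b
    · exact key j hV
    · exact key i hU

/-- a morphism from a zero object to an object without cohomology in degrees `≥ m`. -/
lemma propM_of_isZero {A : Type v'} [Category.{w'} A] [Abelian A] [HasDerivedCategory.{w''} A]
    {K L : DerivedCategory A} (φ : K ⟶ L) (m : ℤ) (hK : IsZero K)
    (hL : ∀ n : ℤ, m ≤ n → IsZero ((DerivedCategory.homologyFunctor A n).obj L)) :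
    PropM m φ := by
  have hK' : ∀ n : ℤ, IsZero ((DerivedCategory.homologyFunctor A n).obj K) :=
    fun n => (DerivedCategory.homologyFunctor A n).map_isZero hK
  refine ⟨fun n hn => ⟨⟨0, (hK' n).eq_of_src _ _, (hL n hn.le).eq_of_src _ _⟩⟩, ?_⟩
  exact ⟨fun _ _ _ => (hL m le_rfl).eq_of_src _ _⟩

end Local

section Main

variable {X : Scheme.{u}} (U : X.Opens) (T : Set X) (hT : IsClosed T) (hTU : T ⊆ (U : Set X))

include hT hTU in
/-- approximation by a perfect complex on an open neighbourhood `U` of `T` extends to `X`. -/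
theorem approx_of_open (E : DCoh.D X) (m : ℤ)
    (P : DCoh.D (U : Scheme.{u})) (α : P ⟶ (DCoh.restrictD U.ι).obj E)
    (hperf : DCoh.IsPerfect P)
    (hP : ∀ i : ℤ, CohB1.support (DCoh.HD P i) ⊆ {v : ↥(U : Scheme.{u}) | U.ι.base v ∈ T})
    (hα : PropM m α)
    (hsupp : ∀ i : ℤ, m ≤ i → CohB1.support (DCoh.HD E i) ⊆ T) :
    ∃ (P' : DCoh.D X) (β : P' ⟶ E), DCoh.IsPerfect P' ∧
      (∀ i : ℤ, CohB1.support (DCoh.HD P' i) ⊆ T) ∧ PropM m β := by
  obtain ⟨β, hβ⟩ := exists_lift U T hT hTU P hP E α
  refine ⟨(DCoh.Rpush U.ι).obj P, β, isPerfect_rpush U T hT hTU P hP hperf,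
    support_rpush U T hT P hP, ?_⟩
  refine propM_of_restrictD U.ι (compl T hT).ι (cover U T hT hTU) β m ?_ ?_
  · rw [restrictD_map_lift U P E α β hβ]
    refine (propM_iff_of_arrow_iso m ?_).2 hα
    exact Arrow.isoMk (asIso ((adjD U.ι).counit.app P)) (Iso.refl _) (by simp)
  · refine propM_of_isZero _ m (isZero_restrictD_rpush_compl U T hT P hP) (fun n hn => ?_)
    refine IsZero.of_iso ?_
      (Groth.Agent.Lib.Helper17.AdjWay.homologyIso
        (Scheme.Modules.restrictFunctor (compl T hT).ι) E n)
    refine isZero_restrict_of_support (compl T hT).ι _ T (hsupp n hn) ?_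
    rw [Scheme.Opens.range_ι, compl_coe]
    exact disjoint_compl_left

end Main

end Groth.Agent.Lib.Helper17.ApproxOpen
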