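import Groth.Agent.Lib.Helper17LerayTop3
import Groth.Agent.Lib.Helper16Restr
import Groth.Agent.Lib.Helper23QCohLocal
import Groth.Agent.S0012

/-!
# Helper17: vanishing of cohomology over preimages of affines is stable under base change
(towards Stacks-type statements "cohomological dimension of `f_*` is stable under base change").
-/

set_option autoImplicit false
universe u
open AlgebraicGeometry CategoryTheory Opposite Limits TopologicalSpace

namespace Groth.Agent.Lib.Helper17.BCVan

open Groth.Agent.Lib.Helper17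
  Groth.Agent.Lib.Helper23.AffVanish Groth.Agent.Lib.Helper17.LerayTop

/-- `H^n(U, M)` computed on `X` agrees with `H^n(U, M|_U)`. -/
theorem nonempty_HE_equiv_HHon {X : Scheme.{u}} (M : X.Modules) (U : X.Opens) (n : ℕ) :
    Nonempty (HE (ab' M) n U ≃+ Coh.HHon X M U n) := by
  obtain ⟨e2⟩ := Groth.Agent.Lib.Helper16.Restr.nonempty_HU_equiv (X := X.carrier) U (Coh.toAb M) n
  exact ⟨e2⟩

/-- `Coh.HH` is invariant under isomorphisms. -/
theorem nonempty_HH_equiv_of_iso {X : Scheme.{u}} {M N : X.Modules} (e : M ≅ N) (n : ℕ) :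
    Nonempty (Coh.HH X M n ≃+ Coh.HH X N n) :=
  ⟨(extIsoRight _ ((SheafOfModules.toSheaf X.ringCatSheaf).mapIso e) n).addCommGroupIsoToAddEquiv⟩

end Groth.Agent.Lib.Helper17.BCVan
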