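import Groth.Agent.Lib.Helper17BCVan

/-!
# Helper17: vanishing of cohomology over preimages of affines is stable under base change.
-/

set_option autoImplicit false
universe u
open AlgebraicGeometry CategoryTheory Opposite Limits TopologicalSpace

namespace Groth.Agent.Lib.Helper17.BCVan

open Groth.Agent.Lib.Helper17
  Groth.Agent.Lib.Helper23.AffVanish Groth.Agent.Lib.Helper17.LerayTop

/-- the restricted square `f'⁻¹V' → f⁻¹V` over `V' → V` is cartesian. -/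
theorem isPullback_resLE {X Y X' Y' : Scheme.{u}} (f : X ⟶ Y) (g : Y' ⟶ Y) (f' : X' ⟶ Y')
    (g' : X' ⟶ X) (sq : IsPullback g' f' f g) (V : Y.Opens) (V' : Y'.Opens) (hVV' : V' ≤ g ⁻¹ᵁ V)
    (hle : f' ⁻¹ᵁ V' ≤ g' ⁻¹ᵁ (f ⁻¹ᵁ V)) :
    IsPullback (g'.resLE (f ⁻¹ᵁ V) (f' ⁻¹ᵁ V') hle) (f' ∣_ V') (f ∣_ V) (g.resLE V V' hVV') := by
  have hA : IsPullback (f' ⁻¹ᵁ V').ι (f' ∣_ V') f' V'.ι := (isPullback_morphismRestrict f' V').flip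
  have hB : IsPullback (f ⁻¹ᵁ V).ι (f ∣_ V) f V.ι := (isPullback_morphismRestrict f V).flip
  have hs : IsPullback ((f' ⁻¹ᵁ V').ι ≫ g') (f' ∣_ V') f (V'.ι ≫ g) := hA.paste_horiz sq
  have e1 : g'.resLE (f ⁻¹ᵁ V) (f' ⁻¹ᵁ V') hle ≫ (f ⁻¹ᵁ V).ι = (f' ⁻¹ᵁ V').ι ≫ g' :=
    Scheme.Hom.resLE_comp_ι _ _
  have e2 : g.resLE V V' hVV' ≫ V.ι = V'.ι ≫ g := Scheme.Hom.resLE_comp_ι _ _
  have hs' : IsPullback (g'.resLE (f ⁻¹ᵁ V) (f' ⁻¹ᵁ V') hle ≫ (f ⁻¹ᵁ V).ι) (f' ∣_ V') f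
      (g.resLE V V' hVV' ≫ V.ι) := by rw [e1, e2]; exact hs
  refine IsPullback.of_right hs' ?_ hB
  rw [← cancel_mono V.ι, Category.assoc, Category.assoc, e2, morphismRestrict_ι,
    morphismRestrict_ι_assoc, reassoc_of% e1, sq.w]

theorem subsingleton_HE_preimage_baseChange {X Y X' Y' : Scheme.{u}} (f : X ⟶ Y)
    [QuasiCompact f] [QuasiSeparated f] [QuasiSeparatedSpace X] (n : ℕ)
    (hvan : ∀ (M : X.Modules), Coh.IsQCoh M → IsZero ((Coh.RpushAb f n).obj (Coh.toAb M)))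
    (g : Y' ⟶ Y) (f' : X' ⟶ Y') (g' : X' ⟶ X) (sq : IsPullback g' f' f g)
    (M' : X'.Modules) [Coh.IsQCoh M']
    {V : Y.Opens} (hV : IsAffineOpen V) {V' : Y'.Opens} (hV' : IsAffineOpen V')
    (hVV' : V' ≤ g ⁻¹ᵁ V) :
    Subsingleton (HE (ab' M') n (f' ⁻¹ᵁ V')) := by
  have hle : f' ⁻¹ᵁ V' ≤ g' ⁻¹ᵁ (f ⁻¹ᵁ V) := by
    rw [← Scheme.Hom.comp_preimage, sq.w, Scheme.Hom.comp_preimage]
    exact f'.preimage_mono hVV'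
  have hsq := isPullback_resLE f g f' g' sq V V' hVV' hle
  haveI : IsAffine ↑V := hV
  haveI : IsAffine ↑V' := hV'
  haveI : IsAffineHom (g'.resLE (f ⁻¹ᵁ V) (f' ⁻¹ᵁ V') hle) :=
    MorphismProperty.of_isPullback (P := @IsAffineHom) hsq.flip inferInstance
  haveI : Coh.IsQCoh (M'.restrict (f' ⁻¹ᵁ V').ι) :=
    Scheme.Modules.isQuasicoherent_restrictFunctor (f' ⁻¹ᵁ V').ι M'
  haveI : Coh.IsQCoh ((Coh.push (g'.resLE (f ⁻¹ᵁ V) (f' ⁻¹ᵁ V') hle)).obj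
      (M'.restrict (f' ⁻¹ᵁ V').ι)) :=
    Groth.Agent.Lib.Helper23.QCohLocal.isQuasicoherent_pushforward _ _
  haveI : CompactSpace ↑(f ⁻¹ᵁ V) :=
    isCompact_iff_compactSpace.1 (f.isCompact_preimage hV.isCompact)
  haveI : QuasiCompact (f ⁻¹ᵁ V).ι := inferInstance
  haveI : Coh.IsQCoh ((Coh.push (f ⁻¹ᵁ V).ι).obj
      ((Coh.push (g'.resLE (f ⁻¹ᵁ V) (f' ⁻¹ᵁ V') hle)).obj (M'.restrict (f' ⁻¹ᵁ V').ι))) :=
    Groth.Agent.Lib.Helper23.QCohLocal.isQuasicoherent_pushforward _ _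
  obtain ⟨a⟩ := nonempty_HE_equiv_HHon M' (f' ⁻¹ᵁ V') n
  obtain ⟨b⟩ := Groth.Agent.S0012.result (g'.resLE (f ⁻¹ᵁ V) (f' ⁻¹ᵁ V') hle)
    (M'.restrict (f' ⁻¹ᵁ V').ι) n
  obtain ⟨c⟩ := nonempty_HH_equiv_of_iso
    (asIso ((Scheme.Modules.restrictAdjunction (f ⁻¹ᵁ V).ι).counit.app
      ((Coh.push (g'.resLE (f ⁻¹ᵁ V) (f' ⁻¹ᵁ V') hle)).obj (M'.restrict (f' ⁻¹ᵁ V').ι)))) n
  obtain ⟨d⟩ := nonempty_HE_equiv_HHon ((Coh.push (f ⁻¹ᵁ V).ι).obj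
      ((Coh.push (g'.resLE (f ⁻¹ᵁ V) (f' ⁻¹ᵁ V') hle)).obj (M'.restrict (f' ⁻¹ᵁ V').ι)))
    (f ⁻¹ᵁ V) n
  haveI := subsingleton_HE_preimage_of_isZero f _ hV n (hvan ((Coh.push (f ⁻¹ᵁ V).ι).obj
      ((Coh.push (g'.resLE (f ⁻¹ᵁ V) (f' ⁻¹ᵁ V') hle)).obj (M'.restrict (f' ⁻¹ᵁ V').ι)))
    inferInstance)
  exact (a.trans (b.trans (c.symm.trans d.symm))).toEquiv.subsingleton

end Groth.Agent.Lib.Helper17.BCVan
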