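-- helper17: stacks: extension of a fibrewise natural transformation `Φ ⇒ 𝟭` from a class of
-- objects that locally contains every object.
import Groth.Agent.Lib.Helper17StkElem
import Groth.Agent.Lib.Helper17StkLoc

set_option autoImplicit false
set_option backward.isDefEq.respectTransparency false
set_option backward.isDefEq.respectTransparency.types false
open CategoryTheory CategoryTheory.Functor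

universe v₁ u₁ v₂ u₂ v₃ u₃ v₄ u₄ v u

namespace Groth.Agent.Lib.Helper17.GerbExt

open Groth.Agent.Lib.Helper17 Groth.Agent.Lib.Helper17.Elem

section Basic

variable {C : Type u} [Category.{v} C] {𝒳 : BasedCategory.{v₂, u₂} C}

theorem cancel_right (h𝒳 : FibCat.IsFibGrpd 𝒳.p) {W V U : C} (g : W ⟶ V) (f : V ⟶ U)
    {a b c : 𝒳.obj} (α β : a ⟶ b) (κ : b ⟶ c) (hα : 𝒳.p.IsHomLift g α)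
    (hβ : 𝒳.p.IsHomLift g β) (hκ : 𝒳.p.IsHomLift f κ) (e : α ≫ κ = β ≫ κ) : α = β := by
  have sc := IsFibGrpd.isStronglyCartesian_of_isHomLift h𝒳 f κ
  exact IsStronglyCartesian.ext 𝒳.p f κ g e

theorem exists_fac (h𝒳 : FibCat.IsFibGrpd 𝒳.p) {W V U : C} (g : W ⟶ V) (f : V ⟶ U)
    (f' : W ⟶ U) (hf' : f' = g ≫ f) {a b c : 𝒳.obj} (κ : b ⟶ c) (hκ : 𝒳.p.IsHomLift f κ)
    (ψ : a ⟶ c) (hψ : 𝒳.p.IsHomLift f' ψ) :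
    ∃ χ : a ⟶ b, 𝒳.p.IsHomLift g χ ∧ χ ≫ κ = ψ := by
  have sc := IsFibGrpd.isStronglyCartesian_of_isHomLift h𝒳 f κ
  obtain ⟨χ, ⟨h1, h2⟩, -⟩ := IsStronglyCartesian.universal_property 𝒳.p f κ g f' hf' ψ
  exact ⟨χ, h1, h2⟩

theorem isHomLift_of_comp_id {V U : C} (f : V ⟶ U) {a b c : 𝒳.obj} (χ : a ⟶ b) (κ : b ⟶ c)
    (hχ : 𝒳.p.IsHomLift (𝟙 V) χ) (hc : 𝒳.p.IsHomLift f (χ ≫ κ)) : 𝒳.p.IsHomLift f κ := by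
  have hb : 𝒳.p.obj b = V := IsHomLift.codomain_eq 𝒳.p (𝟙 V) χ
  have hcU : 𝒳.p.obj c = U := IsHomLift.codomain_eq 𝒳.p f (χ ≫ κ)
  subst hb hcU
  have e1 := IsHomLift.fac' 𝒳.p (𝟙 (𝒳.p.obj b)) χ
  have e2 := IsHomLift.fac 𝒳.p f (χ ≫ κ)
  apply IsHomLift.of_fac 𝒳.p f κ rfl rfl
  rw [e2, Functor.map_comp, e1]
  simp

end Basic

section Ext

variable {C : Type u} [Category.{v} C] {𝒳 : BasedCategory.{v₂, u₂} C}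
  (Φ : 𝒳 ⥤ᵇ 𝒳) (Q : 𝒳.obj → Prop) (ρ₀ : ∀ x, Q x → (Φ.obj x ⟶ x))

/-- a family of morphisms `Φ x ⟶ x` over identities on the objects satisfying `Q`, natural in all
morphisms between such objects; `Q` is closed under sources of morphisms -/
structure IsGoodFamily : Prop where
  src : ∀ ⦃a x : 𝒳.obj⦄ (_ : a ⟶ x), Q x → Q a
  lift : ∀ x hx, 𝒳.p.IsHomLift (𝟙 (𝒳.p.obj x)) (ρ₀ x hx)
  nat : ∀ ⦃x' x : 𝒳.obj⦄ (f : x' ⟶ x) (hx' : Q x') (hx : Q x),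
    Φ.map f ≫ ρ₀ x hx = ρ₀ x' hx' ≫ f

variable {Φ Q ρ₀}

theorem normalize (h𝒳 : FibCat.IsFibGrpd 𝒳.p) (hG : IsGoodFamily Φ Q ρ₀) {y a : 𝒳.obj}
    (hy : Q y) (χ : a ⟶ Φ.obj y) :
    ∃ (a' : 𝒳.obj) (ha' : Q a') (j : a' ⟶ y) (χ₀ : a ⟶ Φ.obj a'),
      𝒳.p.IsHomLift (𝟙 (𝒳.p.obj a)) χ₀ ∧ χ₀ ≫ Φ.map j = χ ∧
        χ ≫ ρ₀ y hy = χ₀ ≫ ρ₀ a' ha' ≫ j := by
  have hχ : 𝒳.p.IsHomLift (𝒳.p.map χ ≫ eqToHom (Φ.w_obj y)) χ := inferInstance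
  obtain ⟨a', j, hj⟩ := h𝒳.exists_lift (x := y) (𝒳.p.map χ ≫ eqToHom (Φ.w_obj y))
  have hΦj : 𝒳.p.IsHomLift (𝒳.p.map χ ≫ eqToHom (Φ.w_obj y)) (Φ.map j) := inferInstance
  obtain ⟨χ₀, h1, h2⟩ := exists_fac h𝒳 (𝟙 (𝒳.p.obj a)) _ _ (Category.id_comp _).symm
    (Φ.map j) hΦj χ hχ
  have ha' : Q a' := hG.src j hy
  refine ⟨a', ha', j, χ₀, h1, h2, ?_⟩
  rw [← h2, Category.assoc, hG.nat j ha' hy]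

theorem indep_normal (h𝒳 : FibCat.IsFibGrpd 𝒳.p) (hG : IsGoodFamily Φ Q ρ₀) {x a : 𝒳.obj}
    (ψ : a ⟶ Φ.obj x) {y y' : 𝒳.obj} (hy : Q y) (hy' : Q y') (ι : y ⟶ x) (ι' : y' ⟶ x)
    (χ : a ⟶ Φ.obj y) (χ' : a ⟶ Φ.obj y') (hχ : 𝒳.p.IsHomLift (𝟙 (𝒳.p.obj a)) χ)
    (hχ' : 𝒳.p.IsHomLift (𝟙 (𝒳.p.obj a)) χ')
    (e : χ ≫ Φ.map ι = ψ) (e' : χ' ≫ Φ.map ι' = ψ) :
    χ ≫ ρ₀ y hy ≫ ι = χ' ≫ ρ₀ y' hy' ≫ ι' := by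
  have hψ : 𝒳.p.IsHomLift (𝒳.p.map ψ) ψ := inferInstance
  have l1 : 𝒳.p.IsHomLift (𝒳.p.map ψ) (Φ.map ι) :=
    isHomLift_of_comp_id _ χ (Φ.map ι) hχ (by rw [e]; exact hψ)
  have l1' : 𝒳.p.IsHomLift (𝒳.p.map ψ) (Φ.map ι') :=
    isHomLift_of_comp_id _ χ' (Φ.map ι') hχ' (by rw [e']; exact hψ)
  have l2 : 𝒳.p.IsHomLift (𝒳.p.map ψ) ι := (BasedFunctor.isHomLift_iff Φ _ ι).1 l1
  have l2' : 𝒳.p.IsHomLift (𝒳.p.map ψ) ι' := (BasedFunctor.isHomLift_iff Φ _ ι').1 l1'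
  obtain ⟨ε, hε, eε⟩ := IsFibGrpd.exists_iso_of_lifts h𝒳 (𝒳.p.map ψ) ι ι'
  have hΦε : 𝒳.p.IsHomLift (𝟙 (𝒳.p.obj a)) (Φ.map ε.hom) := inferInstance
  have h3 : χ ≫ Φ.map ε.hom = χ' := by
    apply cancel_right h𝒳 (𝟙 (𝒳.p.obj a)) (𝒳.p.map ψ) _ _ (Φ.map ι') ?_ hχ' l1'
    · rw [Category.assoc, ← Φ.toFunctor.map_comp, eε, e, e']
    · have : 𝒳.p.IsHomLift (𝟙 (𝒳.p.obj a) ≫ 𝟙 (𝒳.p.obj a)) (χ ≫ Φ.map ε.hom) := inferInstance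
      simpa using this
  rw [← h3, ← eε, Category.assoc, ← Category.assoc (Φ.map ε.hom), hG.nat ε.hom hy hy',
    Category.assoc]

theorem indep (h𝒳 : FibCat.IsFibGrpd 𝒳.p) (hG : IsGoodFamily Φ Q ρ₀) {x a : 𝒳.obj}
    (ψ : a ⟶ Φ.obj x) {y y' : 𝒳.obj} (hy : Q y) (hy' : Q y') (ι : y ⟶ x) (ι' : y' ⟶ x)
    (χ : a ⟶ Φ.obj y) (χ' : a ⟶ Φ.obj y')
    (e : χ ≫ Φ.map ι = ψ) (e' : χ' ≫ Φ.map ι' = ψ) :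
    χ ≫ ρ₀ y hy ≫ ι = χ' ≫ ρ₀ y' hy' ≫ ι' := by
  obtain ⟨a₁, ha₁, j, χ₀, h1, h2, h3⟩ := normalize h𝒳 hG hy χ
  obtain ⟨a₁', ha₁', j', χ₀', h1', h2', h3'⟩ := normalize h𝒳 hG hy' χ'
  have := indep_normal h𝒳 hG ψ ha₁ ha₁' (j ≫ ι) (j' ≫ ι') χ₀ χ₀' h1 h1'
    (by rw [Φ.toFunctor.map_comp, ← Category.assoc, h2, e])
    (by rw [Φ.toFunctor.map_comp, ← Category.assoc, h2', e'])
  calc χ ≫ ρ₀ y hy ≫ ι = (χ ≫ ρ₀ y hy) ≫ ι := (Category.assoc _ _ _).symm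
    _ = χ₀ ≫ ρ₀ a₁ ha₁ ≫ j ≫ ι := by rw [h3]; simp only [Category.assoc]
    _ = χ₀' ≫ ρ₀ a₁' ha₁' ≫ j' ≫ ι' := this
    _ = (χ' ≫ ρ₀ y' hy') ≫ ι' := by rw [h3']; simp only [Category.assoc]
    _ = χ' ≫ ρ₀ y' hy' ≫ ι' := Category.assoc _ _ _

/-- existence of a datum for a morphism lying over the sieve -/
theorem exists_datum (h𝒳 : FibCat.IsFibGrpd 𝒳.p) (x : 𝒳.obj) (R : Sieve (𝒳.p.obj x))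
    (hq2 : ∀ ⦃V : C⦄ (f : V ⟶ 𝒳.p.obj x), R f → ∀ (a : 𝒳.obj) (ψ : a ⟶ x),
      𝒳.p.IsHomLift f ψ → Q a)
    {a : 𝒳.obj} (ψ : a ⟶ Φ.obj x) {W : C} (f : W ⟶ 𝒳.p.obj x) (hf : R f)
    (hψ : 𝒳.p.IsHomLift f ψ) :
    ∃ (y : 𝒳.obj) (_ : Q y) (ι : y ⟶ x) (χ : a ⟶ Φ.obj y), 𝒳.p.IsHomLift f ι ∧
      𝒳.p.IsHomLift (𝟙 W) χ ∧ χ ≫ Φ.map ι = ψ := by
  obtain ⟨y, ι, hι⟩ := h𝒳.exists_lift (x := x) f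
  have hΦι : 𝒳.p.IsHomLift f (Φ.map ι) := inferInstance
  obtain ⟨χ, h1, h2⟩ := exists_fac h𝒳 (𝟙 W) f f (Category.id_comp _).symm (Φ.map ι) hΦι ψ hψ
  exact ⟨y, hq2 f hf y ι hι, ι, χ, hι, h1, h2⟩

theorem exists_ext_at (J : GrothendieckTopology C) (h𝒳 : Stk.IsStack J 𝒳)
    (hG : IsGoodFamily Φ Q ρ₀) (x : 𝒳.obj) (R : Sieve (𝒳.p.obj x)) (hR : R ∈ J (𝒳.p.obj x))
    (hq2 : ∀ ⦃V : C⦄ (f : V ⟶ 𝒳.p.obj x), R f → ∀ (a : 𝒳.obj) (ψ : a ⟶ x),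
      𝒳.p.IsHomLift f ψ → Q a) :
    ∃ ρ : Φ.obj x ⟶ x, 𝒳.p.IsHomLift (𝟙 (𝒳.p.obj x)) ρ ∧
      ∀ (y : 𝒳.obj) (hy : Q y) (ι : y ⟶ x), Φ.map ι ≫ ρ = ρ₀ y hy ≫ ι := by
  obtain ⟨-, hfu, -⟩ := (isStackFor_iff h𝒳.1).1 (h𝒳.2 R hR)
  have key : ∀ ⦃a : 𝒳.obj⦄ (ψ : a ⟶ Φ.obj x) (_ : OverR R ψ), ∃ μ : a ⟶ x,
      (∀ (y : 𝒳.obj) (hy : Q y) (ι : y ⟶ x) (χ : a ⟶ Φ.obj y), χ ≫ Φ.map ι = ψ →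
        μ = χ ≫ ρ₀ y hy ≫ ι) ∧
      (∀ ⦃W : C⦄ (f : W ⟶ 𝒳.p.obj x), 𝒳.p.IsHomLift f ψ → 𝒳.p.IsHomLift f μ) := by
    intro a ψ hψ
    obtain ⟨W, f, hf, hψ'⟩ := id hψ
    obtain ⟨y, hy, ι, χ, hι, hχ, e⟩ := exists_datum h𝒳.1 x R hq2 ψ f hf hψ'
    refine ⟨χ ≫ ρ₀ y hy ≫ ι, fun y' hy' ι' χ' e' => indep h𝒳.1 hG ψ hy hy' ι ι' χ χ' e e',
      fun W' f' hf' => ?_⟩
    obtain ⟨rfl, e2⟩ := isHomLift_base_unique 𝒳.p ψ f' f hf' hψ'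
    rw [eqToHom_refl, Category.id_comp] at e2
    subst e2
    have hy0 : 𝒳.p.obj y = W' := IsHomLift.domain_eq 𝒳.p f' ι
    have l1 : 𝒳.p.IsHomLift (𝟙 W') (ρ₀ y hy) :=
      isHomLift_id_of_eq 𝒳.p hy0 _ (hφ := hG.lift y hy)
    have : 𝒳.p.IsHomLift (𝟙 W' ≫ 𝟙 W' ≫ f') (χ ≫ ρ₀ y hy ≫ ι) := inferInstance
    simpa using this
  choose m hm hm' using key
  have hΦx : 𝒳.p.obj (Φ.obj x) = 𝒳.p.obj x := Φ.w_obj x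
  have compat : ∀ ⦃a : 𝒳.obj⦄ (ψ : a ⟶ Φ.obj x) (h : OverR R ψ) ⦃a' : 𝒳.obj⦄ (ψ' : a' ⟶ a),
      m (ψ' ≫ ψ) (h.precomp ψ') = ψ' ≫ m ψ h := by
    intro a ψ h a' ψ'
    obtain ⟨W, f, hf, hψ'⟩ := id h
    obtain ⟨y, hy, ι, χ, hι, hχ, e⟩ := exists_datum h𝒳.1 x R hq2 ψ f hf hψ'
    rw [hm ψ h y hy ι χ e, hm (ψ' ≫ ψ) (h.precomp ψ') y hy ι (ψ' ≫ χ)
      (by rw [Category.assoc, e]), Category.assoc]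
  obtain ⟨θ, hθ, eθ⟩ := hfu hΦx rfl m hm' compat
  refine ⟨θ, hθ, fun y hy ι => ?_⟩
  have hfa' := ((isStackFor_iff h𝒳.1).1
    (h𝒳.2 (R.pullback (𝒳.p.map ι)) (J.pullback_stable (𝒳.p.map ι) hR))).1
  have l1 : 𝒳.p.IsHomLift (𝒳.p.map ι) (Φ.map ι ≫ θ) := by
    have : 𝒳.p.IsHomLift (𝒳.p.map ι ≫ 𝟙 (𝒳.p.obj x)) (Φ.map ι ≫ θ) := inferInstance
    simpa using this
  have l2 : 𝒳.p.IsHomLift (𝒳.p.map ι) (ρ₀ y hy ≫ ι) := by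
    have := hG.lift y hy
    have : 𝒳.p.IsHomLift (𝟙 (𝒳.p.obj y) ≫ 𝒳.p.map ι) (ρ₀ y hy ≫ ι) := inferInstance
    simpa using this
  apply hfa'.general h𝒳.1 (𝒳.p.map ι) _ _ l1 l2
  rintro a ψ' ⟨W, h, hh, hψ'⟩
  have hh' : R (h ≫ 𝒳.p.map ι) := hh
  have l3 : 𝒳.p.IsHomLift (h ≫ 𝒳.p.map ι) (ψ' ≫ Φ.map ι) := inferInstance
  have hov : OverR R (ψ' ≫ Φ.map ι) := ⟨W, h ≫ 𝒳.p.map ι, hh', l3⟩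
  rw [← Category.assoc, eθ _ hov, hm _ hov y hy ι ψ' rfl]

theorem ext_natural (J : GrothendieckTopology C) (h𝒳 : Stk.IsStack J 𝒳)
    {x' x : 𝒳.obj} (R : Sieve (𝒳.p.obj x')) (hR : R ∈ J (𝒳.p.obj x'))
    (hq2 : ∀ ⦃V : C⦄ (f : V ⟶ 𝒳.p.obj x'), R f → ∀ (a : 𝒳.obj) (ψ : a ⟶ x'),
      𝒳.p.IsHomLift f ψ → Q a)
    (ρ' : Φ.obj x' ⟶ x') (ρ : Φ.obj x ⟶ x) (hρ' : 𝒳.p.IsHomLift (𝟙 (𝒳.p.obj x')) ρ')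
    (hρ : 𝒳.p.IsHomLift (𝟙 (𝒳.p.obj x)) ρ)
    (cρ' : ∀ (y : 𝒳.obj) (hy : Q y) (ι : y ⟶ x'), Φ.map ι ≫ ρ' = ρ₀ y hy ≫ ι)
    (cρ : ∀ (y : 𝒳.obj) (hy : Q y) (ι : y ⟶ x), Φ.map ι ≫ ρ = ρ₀ y hy ≫ ι) (f : x' ⟶ x) :
    Φ.map f ≫ ρ = ρ' ≫ f := by
  have hfa := ((isStackFor_iff h𝒳.1).1 (h𝒳.2 R hR)).1
  have l1 : 𝒳.p.IsHomLift (𝒳.p.map f) (Φ.map f ≫ ρ) := by
    have : 𝒳.p.IsHomLift (𝒳.p.map f ≫ 𝟙 (𝒳.p.obj x)) (Φ.map f ≫ ρ) := inferInstance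
    simpa using this
  have l2 : 𝒳.p.IsHomLift (𝒳.p.map f) (ρ' ≫ f) := by
    have : 𝒳.p.IsHomLift (𝟙 (𝒳.p.obj x') ≫ 𝒳.p.map f) (ρ' ≫ f) := inferInstance
    simpa using this
  apply hfa.general h𝒳.1 (𝒳.p.map f) _ _ l1 l2
  rintro a ψ' ⟨W, h, hh, hψ'⟩
  obtain ⟨y, hy, ι, χ, hι, hχ, e⟩ := exists_datum h𝒳.1 x' R hq2 ψ' h hh hψ'
  rw [← e, Category.assoc, Category.assoc, ← Category.assoc (Φ.map ι), ← Φ.toFunctor.map_comp,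
    cρ y hy (ι ≫ f), ← Category.assoc (Φ.map ι), cρ' y hy ι, Category.assoc]

/-- **Extension**: a good family extends to a family on all objects, natural in all morphisms. -/
theorem exists_extension (J : GrothendieckTopology C) (h𝒳 : Stk.IsStack J 𝒳)
    (hG : IsGoodFamily Φ Q ρ₀)
    (hq2 : ∀ x : 𝒳.obj, ∃ R ∈ J (𝒳.p.obj x), ∀ ⦃V : C⦄ (f : V ⟶ 𝒳.p.obj x), R f →
      ∀ (a : 𝒳.obj) (ψ : a ⟶ x), 𝒳.p.IsHomLift f ψ → Q a) :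
    ∃ ρ : ∀ x, Φ.obj x ⟶ x, (∀ x, 𝒳.p.IsHomLift (𝟙 (𝒳.p.obj x)) (ρ x)) ∧
      (∀ ⦃x' x : 𝒳.obj⦄ (f : x' ⟶ x), Φ.map f ≫ ρ x = ρ x' ≫ f) ∧
      (∀ y (hy : Q y), ρ y = ρ₀ y hy) := by
  choose R hR hq using hq2
  have key := fun x => exists_ext_at J h𝒳 hG x (R x) (hR x) (hq x)
  choose ρ hρ cρ using key
  refine ⟨ρ, hρ, fun x' x f => ?_, fun y hy => ?_⟩
  · exact ext_natural J h𝒳 (R x') (hR x') (hq x') (ρ x') (ρ x) (hρ x') (hρ x) (cρ x') (cρ x) f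
  · have := cρ y y hy (𝟙 y)
    rw [Φ.toFunctor.map_id, Category.id_comp, Category.comp_id] at this
    exact this

end Ext

end Groth.Agent.Lib.Helper17.GerbExt
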