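-- helper17: relative extension of natural families of automorphisms over identities in a stack
-- (families indexed by objects `x` together with a morphism `p x ⟶ U`).
import Groth.Agent.Lib.Helper17GerbExt
import Groth.Agent.Lib.Helper17FibEquiv

set_option autoImplicit false
set_option backward.isDefEq.respectTransparency false
set_option backward.isDefEq.respectTransparency.types false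
open CategoryTheory CategoryTheory.Functor

universe v₂ u₂ v u

namespace Groth.Agent.Lib.Helper17.Band

open Groth.Agent.Lib.Helper17 Groth.Agent.Lib.Helper17.Elem

variable {C : Type u} [Category.{v} C] {𝒳 : BasedCategory.{v₂, u₂} C} {U : C}
  (Q : ∀ x : 𝒳.obj, (𝒳.p.obj x ⟶ U) → Prop)
  (ρ₀ : ∀ (x : 𝒳.obj) (f : 𝒳.p.obj x ⟶ U), Q x f → (x ⟶ x))

/-- a family of endomorphisms over identities of the objects `(x, f : p x ⟶ U)` satisfying `Q`,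
natural in all morphisms; `Q` is closed under sources of morphisms -/
structure IsGoodFamily : Prop where
  src : ∀ ⦃a x : 𝒳.obj⦄ (φ : a ⟶ x) (f : 𝒳.p.obj x ⟶ U), Q x f → Q a (𝒳.p.map φ ≫ f)
  lift : ∀ x f hx, 𝒳.p.IsHomLift (𝟙 (𝒳.p.obj x)) (ρ₀ x f hx)
  nat : ∀ ⦃x' x : 𝒳.obj⦄ (φ : x' ⟶ x) (f : 𝒳.p.obj x ⟶ U) (f' : 𝒳.p.obj x' ⟶ U)
    (_ : f' = 𝒳.p.map φ ≫ f) (hx' : Q x' f') (hx : Q x f), ρ₀ x' f' hx' ≫ φ = φ ≫ ρ₀ x f hx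

variable {Q ρ₀}

theorem rho_congr (x : 𝒳.obj) {f f' : 𝒳.p.obj x ⟶ U} (e : f = f') (h : Q x f) (h' : Q x f') :
    ρ₀ x f h = ρ₀ x f' h' := by
  subst e; rfl

theorem isHomLift_comp_id_left {W V : C} (f : W ⟶ V) {a b : 𝒳.obj} (ρ : a ⟶ a) (ψ : a ⟶ b)
    (hρ : 𝒳.p.IsHomLift (𝟙 (𝒳.p.obj a)) ρ) (hψ : 𝒳.p.IsHomLift f ψ) :
    𝒳.p.IsHomLift f (ρ ≫ ψ) := by
  have ha : 𝒳.p.obj a = W := IsHomLift.domain_eq 𝒳.p f ψ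
  have : 𝒳.p.IsHomLift (𝟙 W) ρ := isHomLift_id_of_eq 𝒳.p ha ρ
  have : 𝒳.p.IsHomLift (𝟙 W ≫ f) (ρ ≫ ψ) := inferInstance
  simpa using this

theorem isHomLift_comp_id_right {W V : C} (f : W ⟶ V) {a b : 𝒳.obj} (ψ : a ⟶ b) (ρ : b ⟶ b)
    (hρ : 𝒳.p.IsHomLift (𝟙 (𝒳.p.obj b)) ρ) (hψ : 𝒳.p.IsHomLift f ψ) :
    𝒳.p.IsHomLift f (ψ ≫ ρ) := by
  have hb : 𝒳.p.obj b = V := IsHomLift.codomain_eq 𝒳.p f ψ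
  have : 𝒳.p.IsHomLift (𝟙 V) ρ := isHomLift_id_of_eq 𝒳.p hb ρ
  have : 𝒳.p.IsHomLift (f ≫ 𝟙 V) (ψ ≫ ρ) := inferInstance
  simpa using this

theorem exists_ext_at (J : GrothendieckTopology C) (h𝒳 : Stk.IsStack J 𝒳)
    (hG : IsGoodFamily Q ρ₀) (x : 𝒳.obj) (f : 𝒳.p.obj x ⟶ U)
    (R : Sieve (𝒳.p.obj x)) (hR : R ∈ J (𝒳.p.obj x))
    (hq : ∀ ⦃a : 𝒳.obj⦄ (ψ : a ⟶ x), OverR R ψ → Q a (𝒳.p.map ψ ≫ f)) :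
    ∃ ρ : x ⟶ x, 𝒳.p.IsHomLift (𝟙 (𝒳.p.obj x)) ρ ∧
      ∀ (y : 𝒳.obj) (ι : y ⟶ x) (hy : Q y (𝒳.p.map ι ≫ f)), ι ≫ ρ = ρ₀ y _ hy ≫ ι := by
  obtain ⟨-, hfu, -⟩ := (isStackFor_iff h𝒳.1).1 (h𝒳.2 R hR)
  obtain ⟨θ, hθ, eθ⟩ := hfu (x := x) (y := x) rfl rfl
    (fun a ψ h => ρ₀ a (𝒳.p.map ψ ≫ f) (hq ψ h) ≫ ψ)
    (fun a ψ h W f' hf' => isHomLift_comp_id_left f' _ ψ (hG.lift _ _ _) hf')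
    (fun a ψ h a' ψ' => by
      have e : 𝒳.p.map (ψ' ≫ ψ) ≫ f = 𝒳.p.map ψ' ≫ 𝒳.p.map ψ ≫ f := by simp
      have := hG.nat ψ' (𝒳.p.map ψ ≫ f) (𝒳.p.map (ψ' ≫ ψ) ≫ f) e (hq _ (h.precomp ψ')) (hq ψ h)
      rw [← Category.assoc, this, Category.assoc])
  refine ⟨θ, hθ, fun y ι hy => ?_⟩
  have hfa' := ((isStackFor_iff h𝒳.1).1
    (h𝒳.2 (R.pullback (𝒳.p.map ι)) (J.pullback_stable (𝒳.p.map ι) hR))).1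
  have l0 : 𝒳.p.IsHomLift (𝒳.p.map ι) ι := inferInstance
  have l1 : 𝒳.p.IsHomLift (𝒳.p.map ι) (ι ≫ θ) := isHomLift_comp_id_right _ ι θ hθ l0
  have l2 : 𝒳.p.IsHomLift (𝒳.p.map ι) (ρ₀ y _ hy ≫ ι) :=
    isHomLift_comp_id_left _ _ ι (hG.lift _ _ _) l0
  apply hfa'.general h𝒳.1 (𝒳.p.map ι) _ _ l1 l2
  rintro a ψ' ⟨W, h, hh, hψ'⟩
  have hh' : R (h ≫ 𝒳.p.map ι) := hh
  have l3 : 𝒳.p.IsHomLift (h ≫ 𝒳.p.map ι) (ψ' ≫ ι) := inferInstance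
  have hov : OverR R (ψ' ≫ ι) := ⟨W, h ≫ 𝒳.p.map ι, hh', l3⟩
  have e : 𝒳.p.map (ψ' ≫ ι) ≫ f = 𝒳.p.map ψ' ≫ 𝒳.p.map ι ≫ f := by simp
  have := hG.nat ψ' (𝒳.p.map ι ≫ f) (𝒳.p.map (ψ' ≫ ι) ≫ f) e (hq _ hov) hy
  rw [← Category.assoc, eθ _ hov, ← Category.assoc, this, Category.assoc]

theorem ext_natural (J : GrothendieckTopology C) (h𝒳 : Stk.IsStack J 𝒳)
    {x' x : 𝒳.obj} (φ : x' ⟶ x) (f : 𝒳.p.obj x ⟶ U)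
    (R : Sieve (𝒳.p.obj x')) (hR : R ∈ J (𝒳.p.obj x'))
    (hq : ∀ ⦃a : 𝒳.obj⦄ (ψ : a ⟶ x'), OverR R ψ → Q a (𝒳.p.map ψ ≫ 𝒳.p.map φ ≫ f))
    (ρ' : x' ⟶ x') (ρ : x ⟶ x) (hρ' : 𝒳.p.IsHomLift (𝟙 (𝒳.p.obj x')) ρ')
    (hρ : 𝒳.p.IsHomLift (𝟙 (𝒳.p.obj x)) ρ)
    (cρ' : ∀ (y : 𝒳.obj) (ι : y ⟶ x') (hy : Q y (𝒳.p.map ι ≫ 𝒳.p.map φ ≫ f)),
      ι ≫ ρ' = ρ₀ y _ hy ≫ ι)
    (cρ : ∀ (y : 𝒳.obj) (ι : y ⟶ x) (hy : Q y (𝒳.p.map ι ≫ f)), ι ≫ ρ = ρ₀ y _ hy ≫ ι) :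
    ρ' ≫ φ = φ ≫ ρ := by
  have hfa := ((isStackFor_iff h𝒳.1).1 (h𝒳.2 R hR)).1
  have l0 : 𝒳.p.IsHomLift (𝒳.p.map φ) φ := inferInstance
  have l1 : 𝒳.p.IsHomLift (𝒳.p.map φ) (ρ' ≫ φ) := isHomLift_comp_id_left _ ρ' φ hρ' l0
  have l2 : 𝒳.p.IsHomLift (𝒳.p.map φ) (φ ≫ ρ) := isHomLift_comp_id_right _ φ ρ hρ l0
  apply hfa.general h𝒳.1 (𝒳.p.map φ) _ _ l1 l2
  intro a ψ hψ
  have e : 𝒳.p.map (ψ ≫ φ) ≫ f = 𝒳.p.map ψ ≫ 𝒳.p.map φ ≫ f := by simp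
  have hy : Q a (𝒳.p.map (ψ ≫ φ) ≫ f) := e ▸ hq ψ hψ
  calc ψ ≫ ρ' ≫ φ = (ψ ≫ ρ') ≫ φ := by rw [Category.assoc]
    _ = (ρ₀ a _ (hq ψ hψ) ≫ ψ) ≫ φ := by rw [cρ' a ψ (hq ψ hψ)]
    _ = ρ₀ a _ hy ≫ ψ ≫ φ := by
      rw [Category.assoc, rho_congr (ρ₀ := ρ₀) a e hy (hq ψ hψ)]
    _ = (ψ ≫ φ) ≫ ρ := (cρ a (ψ ≫ φ) hy).symm
    _ = ψ ≫ φ ≫ ρ := Category.assoc _ _ _

/-- **Extension** (relative form): a good family extends to a family on all objects `(x, f)`,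
natural in all morphisms. -/
theorem exists_extension (J : GrothendieckTopology C) (h𝒳 : Stk.IsStack J 𝒳)
    (hG : IsGoodFamily Q ρ₀)
    (hq2 : ∀ (x : 𝒳.obj) (f : 𝒳.p.obj x ⟶ U), ∃ R ∈ J (𝒳.p.obj x),
      ∀ ⦃a : 𝒳.obj⦄ (ψ : a ⟶ x), OverR R ψ → Q a (𝒳.p.map ψ ≫ f)) :
    ∃ ρ : ∀ (x : 𝒳.obj) (_ : 𝒳.p.obj x ⟶ U), x ⟶ x,
      (∀ x f, 𝒳.p.IsHomLift (𝟙 (𝒳.p.obj x)) (ρ x f)) ∧
      (∀ ⦃x' x : 𝒳.obj⦄ (φ : x' ⟶ x) (f : 𝒳.p.obj x ⟶ U),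
        ρ x' (𝒳.p.map φ ≫ f) ≫ φ = φ ≫ ρ x f) ∧
      (∀ y f (hy : Q y f), ρ y f = ρ₀ y f hy) := by
  choose R hR hq using hq2
  have key := fun x f => exists_ext_at J h𝒳 hG x f (R x f) (hR x f) (hq x f)
  choose ρ hρ cρ using key
  refine ⟨ρ, hρ, fun x' x φ f => ?_, fun y f hy => ?_⟩
  · exact ext_natural J h𝒳 φ f (R x' _) (hR x' _) (hq x' _) (ρ x' _) (ρ x f) (hρ x' _) (hρ x f)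
      (cρ x' _) (cρ x f)
  · have e : 𝒳.p.map (𝟙 y) ≫ f = f := by simp
    have hy' : Q y (𝒳.p.map (𝟙 y) ≫ f) := e.symm ▸ hy
    have := cρ y f y (𝟙 y) hy'
    rw [Category.id_comp, Category.comp_id] at this
    rw [this]
    exact rho_congr y e hy' hy

/-- uniqueness: two natural families which agree locally agree -/
theorem ext_unique (J : GrothendieckTopology C) (h𝒳 : Stk.IsStack J 𝒳)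
    (ρ ρ' : ∀ (x : 𝒳.obj) (_ : 𝒳.p.obj x ⟶ U), x ⟶ x)
    (hρ : ∀ x f, 𝒳.p.IsHomLift (𝟙 (𝒳.p.obj x)) (ρ x f))
    (hρ' : ∀ x f, 𝒳.p.IsHomLift (𝟙 (𝒳.p.obj x)) (ρ' x f))
    (nρ : ∀ ⦃x' x : 𝒳.obj⦄ (φ : x' ⟶ x) (f : 𝒳.p.obj x ⟶ U),
      ρ x' (𝒳.p.map φ ≫ f) ≫ φ = φ ≫ ρ x f)
    (nρ' : ∀ ⦃x' x : 𝒳.obj⦄ (φ : x' ⟶ x) (f : 𝒳.p.obj x ⟶ U),
      ρ' x' (𝒳.p.map φ ≫ f) ≫ φ = φ ≫ ρ' x f)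
    (x : 𝒳.obj) (f : 𝒳.p.obj x ⟶ U) (R : Sieve (𝒳.p.obj x)) (hR : R ∈ J (𝒳.p.obj x))
    (h : ∀ ⦃a : 𝒳.obj⦄ (ψ : a ⟶ x), OverR R ψ →
      ρ a (𝒳.p.map ψ ≫ f) = ρ' a (𝒳.p.map ψ ≫ f)) : ρ x f = ρ' x f := by
  have hfa := ((isStackFor_iff h𝒳.1).1 (h𝒳.2 R hR)).1
  apply hfa (ρ x f) (ρ' x f) (hρ x f) (hρ' x f)
  intro a ψ hψ
  rw [← nρ ψ f, ← nρ' ψ f, h ψ hψ]

end Groth.Agent.Lib.Helper17.Band
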