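-- helper17: gerbes over a site: invariance under equivalence and base change.
import Groth.Agent.Lib.Helper17SelfOver
import Groth.Prelude.Def_StGerb

set_option autoImplicit false
open CategoryTheory CategoryTheory.Functor

universe v₁ u₁ v₂ u₂ v₃ u₃ v₄ u₄ v u

namespace Groth.Agent.Lib.Helper17

section GerbePrecomp

variable {C : Type u} [Category.{v} C] (J : GrothendieckTopology C)
  {𝒳' : BasedCategory.{v₁, u₁} C} {𝒳 : BasedCategory.{v₂, u₂} C} {𝒴 : BasedCategory.{v₃, u₃} C}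

/-- Precomposing with an equivalence over the base preserves local surjectivity on objects. -/
theorem locSurjObj_precomp (E : 𝒳' ⥤ᵇ 𝒳) (hE : EssSurjOver E) (H : 𝒳 ⥤ᵇ 𝒴)
    (h : Gerb.LocSurjObj J H) : Gerb.LocSurjObj J (BasedFunctor.comp E H) := by
  intro y
  obtain ⟨R, hR, hx⟩ := h y
  refine ⟨R, hR, fun V f hf => ?_⟩
  obtain ⟨x, g, hg⟩ := hx f hf
  obtain ⟨x', α, hα⟩ := hE x
  have hx : 𝒳.p.obj x = V := (H.w_obj x).symm.trans (IsHomLift.domain_eq 𝒴.p f g)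
  have hα' : 𝒳.p.IsHomLift (𝟙 V) α.hom := isHomLift_id_of_eq 𝒳.p hx _
  have hHα : 𝒴.p.IsHomLift (𝟙 V) (H.map α.hom) := BasedFunctor.preserves_isHomLift H _ α.hom
  refine ⟨x', H.map α.hom ≫ g, ?_⟩
  exact IsHomLift.comp_lift_id_left 𝒴.p f g (H.map α.hom)

/-- Precomposing with an equivalence over the base preserves local surjectivity on morphisms. -/
theorem locSurjHom_precomp (E : 𝒳' ⥤ᵇ 𝒳) [E.toFunctor.Full] [E.toFunctor.Faithful]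
    (hE : EssSurjOver E) (H : 𝒳 ⥤ᵇ 𝒴)
    (h : Gerb.LocSurjHom J H) : Gerb.LocSurjHom J (BasedFunctor.comp E H) := by
  intro x₁ x₂ b hb
  have e1 : 𝒳.p.obj (E.obj x₁) = 𝒳'.p.obj x₁ := E.w_obj x₁
  have hb' : 𝒴.p.IsHomLift (𝟙 (𝒳.p.obj (E.obj x₁))) b := isHomLift_id_of_eq 𝒴.p e1.symm b
  obtain ⟨R, hR, hx⟩ := h (E.obj x₁) (E.obj x₂) b hb'
  refine ⟨R.pullback (eqToHom e1.symm), J.pullback_stable _ hR, fun V f hf => ?_⟩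
  obtain ⟨x₀, φ, ψ, hφ, hψ, hw⟩ := hx (f ≫ eqToHom e1.symm) hf
  have hφ' : 𝒳.p.IsHomLift f φ := (IsHomLift.lift_comp_eqToHom_iff (p := 𝒳.p) f φ e1.symm).1 hφ
  have hψ' : 𝒳.p.IsHomLift f ψ := (IsHomLift.lift_comp_eqToHom_iff (p := 𝒳.p) f ψ e1.symm).1 hψ
  obtain ⟨x₀', α, hα⟩ := hE x₀
  have hx₀ : 𝒳.p.obj x₀ = V := IsHomLift.domain_eq 𝒳.p f φ
  have hα' : 𝒳.p.IsHomLift (𝟙 V) α.hom := isHomLift_id_of_eq 𝒳.p hx₀ _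
  have l1 : 𝒳.p.IsHomLift f (α.hom ≫ φ) := IsHomLift.comp_lift_id_left 𝒳.p f φ α.hom
  have l2 : 𝒳.p.IsHomLift f (α.hom ≫ ψ) := IsHomLift.comp_lift_id_left 𝒳.p f ψ α.hom
  let φ' : x₀' ⟶ x₁ := E.toFunctor.preimage (α.hom ≫ φ)
  let ψ' : x₀' ⟶ x₂ := E.toFunctor.preimage (α.hom ≫ ψ)
  have eφ : E.map φ' = α.hom ≫ φ := E.toFunctor.map_preimage _
  have eψ : E.map ψ' = α.hom ≫ ψ := E.toFunctor.map_preimage _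
  refine ⟨x₀', φ', ψ', ?_, ?_, ?_⟩
  · have : 𝒳.p.IsHomLift f (E.map φ') := by rw [eφ]; exact l1
    exact BasedFunctor.isHomLift_map E f φ'
  · have : 𝒳.p.IsHomLift f (E.map ψ') := by rw [eψ]; exact l2
    exact BasedFunctor.isHomLift_map E f ψ'
  · change H.map (E.map φ') ≫ b = H.map (E.map ψ')
    rw [eφ, eψ, H.toFunctor.map_comp, H.toFunctor.map_comp, Category.assoc]
    exact congrArg (fun t => H.map α.hom ≫ t) hw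

theorem isGerbeOver_precomp (E : 𝒳' ⥤ᵇ 𝒳) (hE : FibCat.IsEquivOver E) (H : 𝒳 ⥤ᵇ 𝒴)
    (h : Gerb.IsGerbeOver J H) : Gerb.IsGerbeOver J (BasedFunctor.comp E H) := by
  have := IsEquivOver.isEquivalence E hE
  exact ⟨locSurjObj_precomp J E (IsEquivOver.essSurjOver E hE) H h.1,
    locSurjHom_precomp J E (IsEquivOver.essSurjOver E hE) H h.2⟩

end GerbePrecomp

section GerbeBaseChange

variable {C : Type u} [Category.{v} C] (J : GrothendieckTopology C)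
  {𝒳 : BasedCategory.{v₂, u₂} C} {𝒴 : BasedCategory.{v₃, u₃} C} {𝒴' : BasedCategory.{v₄, u₄} C}
  (F : 𝒳 ⥤ᵇ 𝒴) (G : 𝒴' ⥤ᵇ 𝒴)

theorem locSurjObj_fpFst (h𝒴 : FibCat.IsFibGrpd 𝒴.p) (h𝒴' : FibCat.IsFibGrpd 𝒴'.p)
    (h : Gerb.LocSurjObj J F) : Gerb.LocSurjObj J (FibCat.fpFst G F) := by
  intro y'
  have e1 : 𝒴.p.obj (G.obj y') = 𝒴'.p.obj y' := G.w_obj y'
  obtain ⟨R, hR, hx⟩ := h (G.obj y')
  refine ⟨R.pullback (eqToHom e1.symm), J.pullback_stable _ hR, fun V f hf => ?_⟩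
  obtain ⟨x, g, hg⟩ := hx (f ≫ eqToHom e1.symm) hf
  have hg' : 𝒴.p.IsHomLift f g := (IsHomLift.lift_comp_eqToHom_iff (p := 𝒴.p) f g e1.symm).1 hg
  obtain ⟨y'', c, hc⟩ := h𝒴'.exists_lift (x := y') f
  have hGc : 𝒴.p.IsHomLift f (G.map c) := BasedFunctor.preserves_isHomLift G f c
  have hcart : 𝒴.p.IsStronglyCartesian f (G.map c) :=
    IsFibGrpd.isStronglyCartesian_of_isHomLift h𝒴 f (G.map c)
  let ι' : F.obj x ⟶ G.obj y'' :=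
    IsStronglyCartesian.map 𝒴.p f (G.map c) (g := 𝟙 V) (Category.id_comp f).symm g
  have hι'lift : 𝒴.p.IsHomLift (𝟙 V) ι' :=
    IsStronglyCartesian.map_isHomLift 𝒴.p f (G.map c) (Category.id_comp f).symm g
  have hι'iso : IsIso ι' := IsFibGrpd.isIso_of_isHomLift_id h𝒴 V ι'
  have hy'' : 𝒴'.p.obj y'' = V := IsHomLift.domain_eq 𝒴'.p f c
  have hhom : 𝒴.p.IsHomLift (𝟙 V) (asIso ι').hom := hι'lift
  have hinv : 𝒴.p.IsHomLift (𝟙 V) (asIso ι').inv := IsHomLift.lift_id_inv 𝒴.p V (asIso ι')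
  have hprop : 𝒴.p.IsHomLift (𝟙 (𝒴'.p.obj y'')) (asIso ι').symm.hom :=
    isHomLift_id_of_eq 𝒴.p hy''.symm _ (hφ := hinv)
  let z : (FibCat.fp G F).obj := ⟨⟨y'', x, (asIso ι').symm⟩, hprop⟩
  exact ⟨z, c, hc⟩

theorem aux_gerbe {D : Type*} [Category D] {A B B' X X' Y : D} (i0 : A ⟶ X) (Fφ : X ⟶ B)
    (Fψ : X ⟶ B') (Gc : A ⟶ Y) (ι₁ : Y ≅ B) (Gb : Y ⟶ X') (ι₂ : X' ⟶ B')
    (h1 : i0 ≫ Fφ = Gc ≫ ι₁.hom) (h2 : Fφ ≫ (ι₁.inv ≫ Gb ≫ ι₂) = Fψ) :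
    (Gc ≫ Gb) ≫ ι₂ = i0 ≫ Fψ := by
  rw [← h2, ← Category.assoc, h1]
  simp

theorem locSurjHom_fpFst (h𝒴 : FibCat.IsFibGrpd 𝒴.p) (h𝒴' : FibCat.IsFibGrpd 𝒴'.p)
    (h : Gerb.LocSurjHom J F) : Gerb.LocSurjHom J (FibCat.fpFst G F) := by
  intro z z' b₀ hb
  obtain ⟨b, hbb⟩ : ∃ b : z.obj.fst ⟶ z'.obj.fst, b = b₀ := ⟨b₀, rfl⟩
  have hb0 : 𝒴'.p.IsHomLift (𝟙 (𝒴'.p.obj z.obj.fst)) b := by rw [hbb]; exact hb
  have e1 : 𝒳.p.obj z.obj.snd = 𝒴'.p.obj z.obj.fst := fp_snd_obj G F z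
  have hι₁ : 𝒴.p.IsHomLift (𝟙 (𝒴'.p.obj z.obj.fst)) z.obj.iso.hom := z.property
  have hι₁i : 𝒴.p.IsHomLift (𝟙 (𝒴'.p.obj z.obj.fst)) z.obj.iso.inv :=
    IsHomLift.lift_id_inv 𝒴.p _ z.obj.iso
  have e2 : 𝒴'.p.obj z'.obj.fst = 𝒴'.p.obj z.obj.fst :=
    IsHomLift.codomain_eq 𝒴'.p (𝟙 (𝒴'.p.obj z.obj.fst)) b
  have hι₂ : 𝒴.p.IsHomLift (𝟙 (𝒴'.p.obj z.obj.fst)) z'.obj.iso.hom :=
    fp_iso_isHomLift G F z' e2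
  have hGb : 𝒴.p.IsHomLift (𝟙 (𝒴'.p.obj z.obj.fst)) (G.map b) :=
    BasedFunctor.preserves_isHomLift G _ b
  let b' : F.obj z.obj.snd ⟶ F.obj z'.obj.snd := z.obj.iso.inv ≫ G.map b ≫ z'.obj.iso.hom
  have hb' : 𝒴.p.IsHomLift (𝟙 (𝒴'.p.obj z.obj.fst)) b' :=
    isHomLift_id_comp _ _ _ _ hι₁i (isHomLift_id_comp _ _ _ _ hGb hι₂)
  have hb'' : 𝒴.p.IsHomLift (𝟙 (𝒳.p.obj z.obj.snd)) b' := isHomLift_id_of_eq 𝒴.p e1.symm b'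
  obtain ⟨R, hR, hx⟩ := h z.obj.snd z'.obj.snd b' hb''
  refine ⟨R.pullback (eqToHom e1.symm), J.pullback_stable _ hR, fun V f₀ hf => ?_⟩
  obtain ⟨f, hff⟩ : ∃ f : V ⟶ 𝒴'.p.obj z.obj.fst, f = f₀ := ⟨f₀, rfl⟩
  obtain ⟨x₀, φ₀, ψ₀, hφ₀, hψ₀, hw⟩ := hx (f ≫ eqToHom e1.symm) (by rw [hff]; exact hf)
  have hφ₀' : 𝒳.p.IsHomLift f φ₀ :=
    (IsHomLift.lift_comp_eqToHom_iff (p := 𝒳.p) f φ₀ e1.symm).1 hφ₀
  have hψ₀' : 𝒳.p.IsHomLift f ψ₀ :=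
    (IsHomLift.lift_comp_eqToHom_iff (p := 𝒳.p) f ψ₀ e1.symm).1 hψ₀
  obtain ⟨y₀, c, hc⟩ := h𝒴'.exists_lift (x := z.obj.fst) f
  have hGc : 𝒴.p.IsHomLift f (G.map c) := BasedFunctor.preserves_isHomLift G f c
  have hFφ₀ : 𝒴.p.IsHomLift f (F.map φ₀) := BasedFunctor.preserves_isHomLift F f φ₀
  have hcart : 𝒴.p.IsStronglyCartesian f (F.map φ₀) :=
    IsFibGrpd.isStronglyCartesian_of_isHomLift h𝒴 f (F.map φ₀)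
  have hGcι : 𝒴.p.IsHomLift f (G.map c ≫ z.obj.iso.hom) :=
    IsHomLift.comp_lift_id_right 𝒴.p f (G.map c) z.obj.iso.hom
  let ι₀ : G.obj y₀ ⟶ F.obj x₀ :=
    IsStronglyCartesian.map 𝒴.p f (F.map φ₀) (g := 𝟙 V) (Category.id_comp f).symm
      (G.map c ≫ z.obj.iso.hom)
  have hι₀lift : 𝒴.p.IsHomLift (𝟙 V) ι₀ :=
    IsStronglyCartesian.map_isHomLift 𝒴.p f (F.map φ₀) (Category.id_comp f).symm
      (G.map c ≫ z.obj.iso.hom)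
  have hι₀fac : ι₀ ≫ F.map φ₀ = G.map c ≫ z.obj.iso.hom :=
    IsStronglyCartesian.fac 𝒴.p f (F.map φ₀) (Category.id_comp f).symm (G.map c ≫ z.obj.iso.hom)
  have hι₀iso : IsIso ι₀ := IsFibGrpd.isIso_of_isHomLift_id h𝒴 V ι₀
  have hy₀ : 𝒴'.p.obj y₀ = V := IsHomLift.domain_eq 𝒴'.p f c
  have hprop : 𝒴.p.IsHomLift (𝟙 (𝒴'.p.obj y₀)) (asIso ι₀).hom :=
    isHomLift_id_of_eq 𝒴.p hy₀.symm _ (hφ := hι₀lift)
  let z₀ : (FibCat.fp G F).obj := ⟨⟨y₀, x₀, asIso ι₀⟩, hprop⟩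
  let φ : z₀ ⟶ z := ObjectProperty.homMk ⟨c, φ₀, hι₀fac.symm⟩
  have hcb : 𝒴'.p.IsHomLift f (c ≫ b) := IsHomLift.comp_lift_id_right 𝒴'.p f c b
  have hψw : G.map (c ≫ b) ≫ z'.obj.iso.hom = (asIso ι₀).hom ≫ F.map ψ₀ := by
    rw [G.toFunctor.map_comp]
    exact aux_gerbe ι₀ (F.map φ₀) (F.map ψ₀) (G.map c) z.obj.iso (G.map b) z'.obj.iso.hom
      hι₀fac hw
  let ψ : z₀ ⟶ z' := ObjectProperty.homMk ⟨c ≫ b, ψ₀, hψw⟩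
  refine ⟨z₀, φ, ψ, ?_, ?_, ?_⟩
  · rw [fp_isHomLift_iff, ← hff]; exact hc
  · rw [fp_isHomLift_iff, ← hff]; exact hcb
  · rw [← hbb]; rfl

theorem isGerbeOver_fpFst (h𝒴 : FibCat.IsFibGrpd 𝒴.p) (h𝒴' : FibCat.IsFibGrpd 𝒴'.p)
    (h : Gerb.IsGerbeOver J F) : Gerb.IsGerbeOver J (FibCat.fpFst G F) :=
  ⟨locSurjObj_fpFst J F G h𝒴 h𝒴' h.1, locSurjHom_fpFst J F G h𝒴 h𝒴' h.2⟩

end GerbeBaseChange

end Groth.Agent.Lib.Helper17
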