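-- helper17: gerbes over a site: invariance under 2-isomorphism and equivalence.
import Groth.Agent.Lib.Helper17Gerb

set_option autoImplicit false
open CategoryTheory CategoryTheory.Functor

universe v₁ u₁ v₂ u₂ v₃ u₃ v₄ u₄ v u

namespace Groth.Agent.Lib.Helper17

section GerbeIso

variable {C : Type u} [Category.{v} C] (J : GrothendieckTopology C)
  {𝒳 : BasedCategory.{v₂, u₂} C} {𝒴 : BasedCategory.{v₃, u₃} C}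

theorem locSurjObj_of_iso {H H' : 𝒳 ⥤ᵇ 𝒴} (ε : H ≅ H') (h : Gerb.LocSurjObj J H) :
    Gerb.LocSurjObj J H' := by
  intro y
  obtain ⟨R, hR, hx⟩ := h y
  refine ⟨R, hR, fun V f hf => ?_⟩
  obtain ⟨x, g, hg⟩ := hx f hf
  have hx : 𝒳.p.obj x = V := (H.w_obj x).symm.trans (IsHomLift.domain_eq 𝒴.p f g)
  have hε : 𝒴.p.IsHomLift (𝟙 V) (bApp ε x).inv :=
    isHomLift_id_of_eq 𝒴.p hx _ (hφ := bApp_inv_isHomLift ε x)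
  exact ⟨x, (bApp ε x).inv ≫ g, IsHomLift.comp_lift_id_left 𝒴.p f g (bApp ε x).inv⟩

theorem aux_iso_hom {D : Type*} [Category D] {A A' B B' X X' : D} (e₀ : A ≅ A') (e : B ≅ B')
    (e' : X ≅ X') (Hφ : A ⟶ B) (H'φ : A' ⟶ B') (Hψ : A ⟶ X) (H'ψ : A' ⟶ X') (b : B' ⟶ X')
    (n1 : Hφ ≫ e.hom = e₀.hom ≫ H'φ) (n2 : Hψ ≫ e'.hom = e₀.hom ≫ H'ψ)
    (hw : Hφ ≫ (e.hom ≫ b ≫ e'.inv) = Hψ) : H'φ ≫ b = H'ψ := by
  rw [← cancel_epi e₀.hom, ← n2, ← hw]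
  simp only [Category.assoc, Iso.inv_hom_id, Category.comp_id]
  rw [← Category.assoc, ← n1, Category.assoc]

theorem locSurjHom_of_iso {H H' : 𝒳 ⥤ᵇ 𝒴} (ε : H ≅ H') (h : Gerb.LocSurjHom J H) :
    Gerb.LocSurjHom J H' := by
  intro x x' b hb
  have hx' : 𝒳.p.obj x' = 𝒳.p.obj x :=
    (H'.w_obj x').symm.trans (IsHomLift.codomain_eq 𝒴.p (𝟙 (𝒳.p.obj x)) b)
  have h1 : 𝒴.p.IsHomLift (𝟙 (𝒳.p.obj x)) (bApp ε x).hom := bApp_isHomLift ε x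
  have h2 : 𝒴.p.IsHomLift (𝟙 (𝒳.p.obj x)) (bApp ε x').inv :=
    isHomLift_id_of_eq 𝒴.p hx' _ (hφ := bApp_inv_isHomLift ε x')
  have hb₀ : 𝒴.p.IsHomLift (𝟙 (𝒳.p.obj x)) ((bApp ε x).hom ≫ b ≫ (bApp ε x').inv) :=
    isHomLift_id_comp _ _ _ _ h1 (isHomLift_id_comp _ _ _ _ hb h2)
  obtain ⟨R, hR, hx⟩ := h x x' _ hb₀
  refine ⟨R, hR, fun V f hf => ?_⟩
  obtain ⟨x₀, φ, ψ, hφ, hψ, hw⟩ := hx f hf
  refine ⟨x₀, φ, ψ, hφ, hψ, ?_⟩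
  exact aux_iso_hom (bApp ε x₀) (bApp ε x) (bApp ε x') (H.map φ) (H'.map φ) (H.map ψ) (H'.map ψ) b
    (bApp_naturality ε φ) (bApp_naturality ε ψ) hw

theorem isGerbeOver_of_iso {H H' : 𝒳 ⥤ᵇ 𝒴} (ε : H ≅ H') (h : Gerb.IsGerbeOver J H) :
    Gerb.IsGerbeOver J H' :=
  ⟨locSurjObj_of_iso J ε h.1, locSurjHom_of_iso J ε h.2⟩

end GerbeIso

section GerbeEquiv

variable {C : Type u} [Category.{v} C] (J : GrothendieckTopology C)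
  {𝒮₁ : BasedCategory.{v₂, u₂} C} {𝒮₂ : BasedCategory.{v₃, u₃} C}

theorem isGerbeOver_toSelf_of_isEquivOver (F : 𝒮₁ ⥤ᵇ 𝒮₂) (hF : FibCat.IsEquivOver F)
    (h : Gerb.IsGerbeOver J (FibCat.toSelf 𝒮₂)) : Gerb.IsGerbeOver J (FibCat.toSelf 𝒮₁) :=
  isGerbeOver_of_iso J (selfOverIso _ _) (isGerbeOver_precomp J F hF (FibCat.toSelf 𝒮₂) h)

end GerbeEquiv

end Groth.Agent.Lib.Helper17
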