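-- helper17: gerbes over a site: composition.
import Groth.Agent.Lib.Helper17Gerb2
import Groth.Agent.Lib.Helper17FibCat

set_option autoImplicit false
set_option backward.isDefEq.respectTransparency false
set_option backward.isDefEq.respectTransparency.types false
open CategoryTheory CategoryTheory.Functor

universe v₁ u₁ v₂ u₂ v₃ u₃ v₄ u₄ v u

namespace Groth.Agent.Lib.Helper17

section GerbeComp

variable {C : Type u} [Category.{v} C] (J : GrothendieckTopology C)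
  {𝒳 : BasedCategory.{v₂, u₂} C} {𝒴 : BasedCategory.{v₃, u₃} C} {𝒵 : BasedCategory.{v₄, u₄} C}

/-- local surjectivity on morphisms, with the base object abstracted -/
theorem LocSurjHom.general {F : 𝒳 ⥤ᵇ 𝒴} (h : Gerb.LocSurjHom J F) (x x' : 𝒳.obj)
    (b : F.obj x ⟶ F.obj x') {U : C} (hx : 𝒳.p.obj x = U) (hb : 𝒴.p.IsHomLift (𝟙 U) b) :
    ∃ R ∈ J U, ∀ ⦃V : C⦄ (f : V ⟶ U), R f →
      ∃ (x₀ : 𝒳.obj) (φ : x₀ ⟶ x) (ψ : x₀ ⟶ x'),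
        𝒳.p.IsHomLift f φ ∧ 𝒳.p.IsHomLift f ψ ∧ F.map φ ≫ b = F.map ψ := by
  subst hx
  exact h x x' b hb

theorem locSurjObj_comp (F : 𝒳 ⥤ᵇ 𝒴) (G : 𝒴 ⥤ᵇ 𝒵) (hF : Gerb.LocSurjObj J F)
    (hG : Gerb.LocSurjObj J G) : Gerb.LocSurjObj J (BasedFunctor.comp F G) := by
  intro z
  obtain ⟨R₁, hR₁, h₁⟩ := hG z
  have key : ∀ ⦃V : C⦄ (f : V ⟶ 𝒵.p.obj z) (_ : R₁ f), ∃ S : Sieve V, S ∈ J V ∧
      ∀ ⦃W : C⦄ (g : W ⟶ V), S g → ∃ (x : 𝒳.obj) (k : G.obj (F.obj x) ⟶ z),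
        𝒵.p.IsHomLift (g ≫ f) k := by
    intro V f hf
    obtain ⟨y, g, hg⟩ := h₁ f hf
    have hV : 𝒴.p.obj y = V := (G.w_obj y).symm.trans (IsHomLift.domain_eq 𝒵.p f g)
    subst hV
    obtain ⟨R₂, hR₂, h₂⟩ := hF y
    refine ⟨R₂, hR₂, fun W g' hg' => ?_⟩
    obtain ⟨x, k, hk⟩ := h₂ g' hg'
    refine ⟨x, G.map k ≫ g, ?_⟩
    have : 𝒵.p.IsHomLift g' (G.map k) := inferInstance
    infer_instance
  choose S hS hS' using key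
  refine ⟨Sieve.bind R₁ (fun V f hf => S f hf), J.bind_covering hR₁ (fun V f hf => hS f hf), ?_⟩
  rintro W h ⟨V, g, f, hf, hg, rfl⟩
  exact hS' f hf g hg

theorem locSurjHom_comp (h𝒳 : FibCat.IsFibGrpd 𝒳.p) (h𝒴 : FibCat.IsFibGrpd 𝒴.p)
    (F : 𝒳 ⥤ᵇ 𝒴) (G : 𝒴 ⥤ᵇ 𝒵) (hF : Gerb.LocSurjHom J F)
    (hG : Gerb.LocSurjHom J G) : Gerb.LocSurjHom J (BasedFunctor.comp F G) := by
  intro x x' b hb
  obtain ⟨R₁, hR₁, h₁⟩ := LocSurjHom.general J hG (F.obj x) (F.obj x') b (F.w_obj x) hb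
  have key : ∀ ⦃V : C⦄ (f : V ⟶ 𝒳.p.obj x) (_ : R₁ f), ∃ S : Sieve V, S ∈ J V ∧
      ∀ ⦃W : C⦄ (g : W ⟶ V), S g → ∃ (x₀ : 𝒳.obj) (φ : x₀ ⟶ x) (ψ : x₀ ⟶ x'),
        𝒳.p.IsHomLift (g ≫ f) φ ∧ 𝒳.p.IsHomLift (g ≫ f) ψ ∧
          G.map (F.map φ) ≫ b = G.map (F.map ψ) := by
    intro V f hf
    obtain ⟨y₀, φ, ψ, hφ, hψ, e⟩ := h₁ f hf
    have hx' : 𝒳.p.obj x' = 𝒳.p.obj x :=
      (F.w_obj x').symm.trans (IsHomLift.codomain_eq 𝒴.p f ψ)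
    obtain ⟨x₂, c, hc⟩ := h𝒳.exists_lift (x := x) f
    obtain ⟨x₂', c', hc'⟩ := h𝒳.exists_lift (x := x') (f ≫ eqToHom hx'.symm)
    have hc'2 : 𝒳.p.IsHomLift f c' :=
      (IsHomLift.lift_comp_eqToHom_iff (p := 𝒳.p) f c' hx'.symm).1 hc'
    have lFc : 𝒴.p.IsHomLift f (F.map c) := inferInstance
    have lFc' : 𝒴.p.IsHomLift f (F.map c') := inferInstance
    have sc := IsFibGrpd.isStronglyCartesian_of_isHomLift h𝒴 f (F.map c)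
    have sc' := IsFibGrpd.isStronglyCartesian_of_isHomLift h𝒴 f (F.map c')
    obtain ⟨β, ⟨hβ, eβ⟩, -⟩ := IsStronglyCartesian.universal_property 𝒴.p f (F.map c) (𝟙 V) f
      (Category.id_comp _).symm φ
    obtain ⟨β', ⟨hβ', eβ'⟩, -⟩ := IsStronglyCartesian.universal_property 𝒴.p f (F.map c') (𝟙 V) f
      (Category.id_comp _).symm ψ
    have hβiso : IsIso β := IsFibGrpd.isIso_of_isHomLift_id h𝒴 V β
    have hx₂ : 𝒳.p.obj x₂ = V := IsHomLift.domain_eq 𝒳.p f c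
    have hb₂ : 𝒴.p.IsHomLift (𝟙 V) (inv β ≫ β') := by
      have h1 : 𝒴.p.IsHomLift (𝟙 V) (inv β) := inferInstance
      have : 𝒴.p.IsHomLift (𝟙 V ≫ 𝟙 V) (inv β ≫ β') := inferInstance
      simpa using this
    obtain ⟨R₃, hR₃, h₃⟩ := LocSurjHom.general J hF x₂ x₂' (inv β ≫ β') hx₂ hb₂
    refine ⟨R₃, hR₃, fun W g hg => ?_⟩
    obtain ⟨x₃, φ₃, ψ₃, hφ₃, hψ₃, e₃⟩ := h₃ g hg
    refine ⟨x₃, φ₃ ≫ c, ψ₃ ≫ c', inferInstance, inferInstance, ?_⟩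
    -- `G (F c) ≫ b = G (inv β ≫ β') ≫ G (F c')`
    have e4 : G.map (F.map c) ≫ b = G.map (inv β ≫ β') ≫ G.map (F.map c') := by
      have e5 : G.map β ≫ G.map (F.map c) ≫ b = G.map β' ≫ G.map (F.map c') := by
        rw [← Category.assoc, ← G.map_comp, eβ, e, ← G.map_comp, eβ']
      rw [G.map_comp, Category.assoc, ← e5, ← Category.assoc, ← G.map_comp, IsIso.inv_hom_id]
      simp
    rw [F.map_comp, G.map_comp, Category.assoc, e4, ← Category.assoc, ← G.map_comp, e₃,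
      ← G.map_comp, ← F.map_comp]
  choose S hS hS' using key
  refine ⟨Sieve.bind R₁ (fun V f hf => S f hf), J.bind_covering hR₁ (fun V f hf => hS f hf), ?_⟩
  rintro W h ⟨V, g, f, hf, hg, rfl⟩
  exact hS' f hf g hg

theorem isGerbeOver_comp (h𝒳 : FibCat.IsFibGrpd 𝒳.p) (h𝒴 : FibCat.IsFibGrpd 𝒴.p)
    (F : 𝒳 ⥤ᵇ 𝒴) (G : 𝒴 ⥤ᵇ 𝒵) (hF : Gerb.IsGerbeOver J F) (hG : Gerb.IsGerbeOver J G) :
    Gerb.IsGerbeOver J (BasedFunctor.comp F G) :=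
  ⟨locSurjObj_comp J F G hF.1 hG.1, locSurjHom_comp J h𝒳 h𝒴 F G hF.2 hG.2⟩

end GerbeComp

end Groth.Agent.Lib.Helper17
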