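-- helper17: gerbes with a global object over a terminal object of the base:
-- "good" objects (those mapping to the global object), fibrewise isomorphisms `Φ ⇒ 𝟭`.
import Groth.Agent.Lib.Helper17GerbExt
import Groth.Agent.Lib.Helper17Gerb3
import Groth.Prelude.Def_StGerb2

set_option autoImplicit false
set_option backward.isDefEq.respectTransparency false
set_option backward.isDefEq.respectTransparency.types false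
open CategoryTheory CategoryTheory.Functor CategoryTheory.Limits

universe v₁ u₁ v₂ u₂ v₃ u₃ v₄ u₄ v u

namespace Groth.Agent.Lib.Helper17.GerbGlob

open Groth.Agent.Lib.Helper17 Groth.Agent.Lib.Helper17.Elem Groth.Agent.Lib.Helper17.GerbExt

section Good

variable {C : Type u} [Category.{v} C] {𝒳 : BasedCategory.{v₂, u₂} C}

/-- objects admitting a morphism to `s` -/
def Good (s : 𝒳.obj) (x : 𝒳.obj) : Prop := Nonempty (x ⟶ s)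

theorem Good.src {s a x : 𝒳.obj} (ψ : a ⟶ x) (h : Good s x) : Good s a :=
  h.elim fun c => ⟨ψ ≫ c⟩

/-- two morphisms to an object over a terminal object lie over the same morphism -/
theorem isHomLift_of_terminal {T : C} (hT : IsTerminal T) {s : 𝒳.obj} (hs : 𝒳.p.obj s = T)
    {x x' : 𝒳.obj} (c : x ⟶ s) (c' : x' ⟶ s) (hx : 𝒳.p.obj x' = 𝒳.p.obj x) :
    𝒳.p.IsHomLift (𝒳.p.map c) c' := by
  subst hs
  apply IsHomLift.of_fac 𝒳.p (𝒳.p.map c) c' hx rfl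
  exact hT.hom_ext _ _

theorem exists_iso_of_good (h𝒳 : FibCat.IsFibGrpd 𝒳.p) {T : C} (hT : IsTerminal T)
    {s : 𝒳.obj} (hs : 𝒳.p.obj s = T) {x x' : 𝒳.obj} (c : x ⟶ s) (c' : x' ⟶ s)
    (hx : 𝒳.p.obj x' = 𝒳.p.obj x) :
    ∃ e : x ≅ x', 𝒳.p.IsHomLift (𝟙 (𝒳.p.obj x)) e.hom ∧ e.hom ≫ c' = c := by
  have := isHomLift_of_terminal hT hs c c' hx
  exact IsFibGrpd.exists_iso_of_lifts h𝒳 (𝒳.p.map c) c c'

/-- in a gerbe with a global object every object is locally good -/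
theorem exists_good_sieve (J : GrothendieckTopology C) (h𝒳 : FibCat.IsFibGrpd 𝒳.p)
    (hg : Gerb.LocSurjHom J (FibCat.toSelf 𝒳)) {T : C} (hT : IsTerminal T) {s : 𝒳.obj}
    (hs : 𝒳.p.obj s = T) (x : 𝒳.obj) :
    ∃ R ∈ J (𝒳.p.obj x), ∀ ⦃V : C⦄ (f : V ⟶ 𝒳.p.obj x), R f →
      ∀ (a : 𝒳.obj) (ψ : a ⟶ x), 𝒳.p.IsHomLift f ψ → Good s a := by
  subst hs
  obtain ⟨sU, c₀, hc₀⟩ := h𝒳.exists_lift (x := s) (hT.from (𝒳.p.obj x))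
  have hsU : 𝒳.p.obj sU = 𝒳.p.obj x := IsHomLift.domain_eq 𝒳.p (hT.from (𝒳.p.obj x)) c₀
  have hb : (FibCat.selfOver C).p.IsHomLift (𝟙 (𝒳.p.obj x)) (eqToHom hsU.symm) :=
    IsHomLift.eqToHom_domain_lift_id (p := 𝟭 C) hsU.symm rfl
  obtain ⟨R, hR, h⟩ := hg x sU (eqToHom hsU.symm) hb
  refine ⟨R, hR, fun V f hf a ψ hψ => ?_⟩
  obtain ⟨x₀, φ₀, ψ₀, hφ₀, hψ₀, -⟩ := h f hf
  obtain ⟨ε, -, -⟩ := IsFibGrpd.exists_iso_of_lifts h𝒳 f ψ φ₀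
  exact ⟨ε.hom ≫ ψ₀ ≫ c₀⟩

end Good

section FibrewiseIso

variable {C : Type u} [Category.{v} C] {𝒳 : BasedCategory.{v₂, u₂} C}

/-- the pullback of `g : Φ s ⟶ s` to an object over `s` -/
theorem exists_pull (h𝒳 : FibCat.IsFibGrpd 𝒳.p) (Φ : 𝒳 ⥤ᵇ 𝒳) {s : 𝒳.obj} (g : Φ.obj s ⟶ s)
    (hg : 𝒳.p.IsHomLift (𝟙 (𝒳.p.obj s)) g) {x' : 𝒳.obj} (c : x' ⟶ s) :
    ∃ g' : Φ.obj x' ⟶ x', 𝒳.p.IsHomLift (𝟙 (𝒳.p.obj x')) g' ∧ Φ.map c ≫ g = g' ≫ c := by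
  have l1 : 𝒳.p.IsHomLift (𝒳.p.map c) (Φ.map c ≫ g) := by
    have : 𝒳.p.IsHomLift (𝒳.p.map c ≫ 𝟙 (𝒳.p.obj s)) (Φ.map c ≫ g) := inferInstance
    simpa using this
  obtain ⟨g', h1, h2⟩ := exists_fac h𝒳 (𝟙 (𝒳.p.obj x')) (𝒳.p.map c) (𝒳.p.map c)
    (Category.id_comp _).symm c inferInstance (Φ.map c ≫ g) l1
  exact ⟨g', h1, h2.symm⟩

theorem pull_natural (h𝒳 : FibCat.IsFibGrpd 𝒳.p) {T : C} (hT : IsTerminal T) (Φ : 𝒳 ⥤ᵇ 𝒳)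
    {s : 𝒳.obj} (hs : 𝒳.p.obj s = T) (g : Φ.obj s ⟶ s)
    (hconj : ∀ (x' : 𝒳.obj) (c : x' ⟶ s) (g' : Φ.obj x' ⟶ x'),
      𝒳.p.IsHomLift (𝟙 (𝒳.p.obj x')) g' → Φ.map c ≫ g = g' ≫ c →
        ∀ α : x' ⟶ x', 𝒳.p.IsHomLift (𝟙 (𝒳.p.obj x')) α → Φ.map α ≫ g' = g' ≫ α)
    {x'' x' : 𝒳.obj} (f : x'' ⟶ x') (c' : x' ⟶ s) (c'' : x'' ⟶ s)
    (g' : Φ.obj x' ⟶ x') (g'' : Φ.obj x'' ⟶ x'')
    (hg' : 𝒳.p.IsHomLift (𝟙 (𝒳.p.obj x')) g') (hg'' : 𝒳.p.IsHomLift (𝟙 (𝒳.p.obj x'')) g'')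
    (e' : Φ.map c' ≫ g = g' ≫ c') (e'' : Φ.map c'' ≫ g = g'' ≫ c'') :
    Φ.map f ≫ g' = g'' ≫ f := by
  have l0 : 𝒳.p.IsHomLift (𝒳.p.map c'') (f ≫ c') := isHomLift_of_terminal hT hs c'' (f ≫ c') rfl
  obtain ⟨α, hα, eα⟩ := exists_fac h𝒳 (𝟙 (𝒳.p.obj x'')) (𝒳.p.map c'') (𝒳.p.map c'')
    (Category.id_comp _).symm c'' inferInstance (f ≫ c') l0
  have hc := hconj x'' c'' g'' hg'' e'' α hα
  have l1 : 𝒳.p.IsHomLift (𝒳.p.map f) (Φ.map f ≫ g') := by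
    have : 𝒳.p.IsHomLift (𝒳.p.map f ≫ 𝟙 (𝒳.p.obj x')) (Φ.map f ≫ g') := inferInstance
    simpa using this
  have l2 : 𝒳.p.IsHomLift (𝒳.p.map f) (g'' ≫ f) := by
    have : 𝒳.p.IsHomLift (𝟙 (𝒳.p.obj x'') ≫ 𝒳.p.map f) (g'' ≫ f) := inferInstance
    simpa using this
  apply cancel_right h𝒳 (𝒳.p.map f) (𝒳.p.map c') _ _ c' l1 l2 inferInstance
  calc (Φ.map f ≫ g') ≫ c' = Φ.map f ≫ Φ.map c' ≫ g := by rw [Category.assoc, e']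
    _ = Φ.map (f ≫ c') ≫ g := by rw [Φ.toFunctor.map_comp, Category.assoc]
    _ = Φ.map α ≫ Φ.map c'' ≫ g := by rw [← eα, Φ.toFunctor.map_comp, Category.assoc]
    _ = (Φ.map α ≫ g'') ≫ c'' := by rw [e'', Category.assoc]
    _ = g'' ≫ α ≫ c'' := by rw [hc, Category.assoc]
    _ = (g'' ≫ f) ≫ c' := by rw [eα, Category.assoc]

/-- **Fibrewise isomorphism with the identity** (general site with a terminal object). -/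
theorem exists_fibrewise_iso_id (J : GrothendieckTopology C) (h𝒳 : Gerb.IsGerbe J 𝒳) {T : C}
    (hT : IsTerminal T) (Φ : 𝒳 ⥤ᵇ 𝒳) (s : 𝒳.obj) (hs : 𝒳.p.obj s = T) (g : Φ.obj s ⟶ s)
    (hg : 𝒳.p.IsHomLift (𝟙 (𝒳.p.obj s)) g)
    (hconj : ∀ (x' : 𝒳.obj) (c : x' ⟶ s) (g' : Φ.obj x' ⟶ x'),
      𝒳.p.IsHomLift (𝟙 (𝒳.p.obj x')) g' → Φ.map c ≫ g = g' ≫ c →
        ∀ α : x' ⟶ x', 𝒳.p.IsHomLift (𝟙 (𝒳.p.obj x')) α → Φ.map α ≫ g' = g' ≫ α) :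
    ∃ ρ : ∀ y : 𝒳.obj, Φ.obj y ⟶ y, (∀ y, 𝒳.p.IsHomLift (𝟙 (𝒳.p.obj y)) (ρ y)) ∧
      (∀ ⦃y y' : 𝒳.obj⦄ (f : y ⟶ y'), Φ.map f ≫ ρ y' = ρ y ≫ f) ∧
      (∀ (x' : 𝒳.obj) (c : x' ⟶ s), Φ.map c ≫ g = ρ x' ≫ c) := by
  have hfib := h𝒳.1.1
  have key : ∀ (x' : 𝒳.obj) (_ : Good s x'), ∃ g' : Φ.obj x' ⟶ x',
      𝒳.p.IsHomLift (𝟙 (𝒳.p.obj x')) g' ∧ ∀ c : x' ⟶ s, Φ.map c ≫ g = g' ≫ c := by
    intro x' h
    obtain ⟨c₀⟩ := h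
    obtain ⟨g', h1, h2⟩ := exists_pull hfib Φ g hg c₀
    refine ⟨g', h1, fun c => ?_⟩
    obtain ⟨g₁, h1', h2'⟩ := exists_pull hfib Φ g hg c
    have := pull_natural hfib hT Φ hs g hconj (𝟙 x') c c₀ g₁ g' h1' h1 h2' h2
    rw [Φ.toFunctor.map_id, Category.id_comp, Category.comp_id] at this
    rw [← this]
    exact h2'
  choose ρ₀ hρ₀ eρ₀ using key
  have hG : IsGoodFamily Φ (Good s) ρ₀ :=
    { src := fun a x ψ h => Good.src ψ h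
      lift := hρ₀
      nat := fun x' x f hx' hx => by
        obtain ⟨c⟩ := id hx
        exact pull_natural hfib hT Φ hs g hconj f c (f ≫ c) (ρ₀ x hx) (ρ₀ x' hx')
          (hρ₀ x hx) (hρ₀ x' hx') (eρ₀ x hx c) (eρ₀ x' hx' (f ≫ c)) }
  obtain ⟨ρ, hρ, nρ, eρ⟩ := exists_extension J h𝒳.1 hG
    (fun x => exists_good_sieve J hfib h𝒳.2.2 hT hs x)
  refine ⟨ρ, hρ, nρ, fun x' c => ?_⟩
  rw [eρ x' ⟨c⟩]
  exact eρ₀ x' ⟨c⟩ c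

end FibrewiseIso

section AutO

variable {C : Type u} [Category.{v} C] {𝒳 : BasedCategory.{v₂, u₂} C}

/-- an automorphism over the identity as an element of `Gerb.AutO` -/
noncomputable def autOMk (h𝒳 : FibCat.IsFibGrpd 𝒳.p) (x : 𝒳.obj) (α : x ⟶ x)
    (hα : 𝒳.p.IsHomLift (𝟙 (𝒳.p.obj x)) α) : Gerb.AutO x :=
  have : IsGroupoid (𝒳.p.Fiber (𝒳.p.obj x)) := IsFibGrpd.isGroupoid_fiber h𝒳 _
  asIso (⟨α, hα⟩ : Gerb.fib x ⟶ Gerb.fib x)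

theorem autOMk_hom (h𝒳 : FibCat.IsFibGrpd 𝒳.p) (x : 𝒳.obj) (α : x ⟶ x)
    (hα : 𝒳.p.IsHomLift (𝟙 (𝒳.p.obj x)) α) : (autOMk h𝒳 x α hα).hom.1 = α := rfl

end AutO

end Groth.Agent.Lib.Helper17.GerbGlob
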