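-- helper17: the presheaf of groups of natural families of automorphisms over identities of a
-- based category (the band of an abelian gerbe).
import Groth.Agent.Lib.Helper17Band1
import Groth.Agent.Lib.Helper17GerbGlob
import Groth.Prelude.Def_StGerb

set_option autoImplicit false
set_option backward.isDefEq.respectTransparency false
set_option backward.isDefEq.respectTransparency.types false
open CategoryTheory CategoryTheory.Functor Opposite

universe v₂ u₂ v u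

namespace Groth.Agent.Lib.Helper17.Band

open Groth.Agent.Lib.Helper17 Groth.Agent.Lib.Helper17.Elem

variable {C : Type u} [Category.{v} C] (𝒮 : BasedCategory.{v₂, u₂} C)

theorem autO_mul_hom {x : 𝒮.obj} (α β : Gerb.AutO x) : (α * β).hom.1 = β.hom.1 ≫ α.hom.1 := rfl

theorem autO_one_hom {x : 𝒮.obj} : (1 : Gerb.AutO x).hom.1 = 𝟙 x := rfl

theorem autO_hom_inv {x : 𝒮.obj} (α : Gerb.AutO x) : α.hom.1 ≫ (α⁻¹).hom.1 = 𝟙 x :=
  congrArg Subtype.val α.hom_inv_id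

theorem autO_inv_hom {x : 𝒮.obj} (α : Gerb.AutO x) : (α⁻¹).hom.1 ≫ α.hom.1 = 𝟙 x :=
  congrArg Subtype.val α.inv_hom_id

theorem autO_ext {x : 𝒮.obj} (α β : Gerb.AutO x) (h : α.hom.1 = β.hom.1) : α = β := by
  apply Iso.ext
  apply Fiber.hom_ext
  exact h

theorem autO_isHomLift {x : 𝒮.obj} (α : Gerb.AutO x) :
    𝒮.p.IsHomLift (𝟙 (𝒮.p.obj x)) α.hom.1 := α.hom.2

/-- natural families of automorphisms over identities of the objects `(x, f : p x ⟶ U)` -/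
def natAut (U : C) : Subgroup (∀ (x : 𝒮.obj) (_ : 𝒮.p.obj x ⟶ U), Gerb.AutO x) where
  carrier := {a | ∀ ⦃x' x : 𝒮.obj⦄ (φ : x' ⟶ x) (f : 𝒮.p.obj x ⟶ U),
    (a x' (𝒮.p.map φ ≫ f)).hom.1 ≫ φ = φ ≫ (a x f).hom.1}
  mul_mem' := by
    intro a b ha hb x' x φ f
    change ((a x' _) * (b x' _)).hom.1 ≫ φ = φ ≫ ((a x f) * (b x f)).hom.1
    rw [autO_mul_hom, autO_mul_hom, Category.assoc, ha φ f, ← Category.assoc, hb φ f,
      Category.assoc]
  one_mem' := by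
    intro x' x φ f
    change (1 : Gerb.AutO x').hom.1 ≫ φ = φ ≫ (1 : Gerb.AutO x).hom.1
    rw [autO_one_hom, autO_one_hom, Category.id_comp, Category.comp_id]
  inv_mem' := by
    intro a ha x' x φ f
    change ((a x' _)⁻¹).hom.1 ≫ φ = φ ≫ ((a x f)⁻¹).hom.1
    have h := ha φ f
    calc ((a x' (𝒮.p.map φ ≫ f))⁻¹).hom.1 ≫ φ
        = ((a x' (𝒮.p.map φ ≫ f))⁻¹).hom.1 ≫ φ ≫ (a x f).hom.1 ≫ ((a x f)⁻¹).hom.1 := by
          rw [autO_hom_inv, Category.comp_id]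
      _ = ((a x' (𝒮.p.map φ ≫ f))⁻¹).hom.1 ≫ ((a x' (𝒮.p.map φ ≫ f)).hom.1 ≫ φ) ≫
            ((a x f)⁻¹).hom.1 := by
          rw [h]; simp only [Category.assoc]
      _ = φ ≫ ((a x f)⁻¹).hom.1 := by
          rw [Category.assoc, ← Category.assoc, autO_inv_hom, Category.id_comp]

theorem mem_natAut {U : C} (a : ∀ (x : 𝒮.obj) (_ : 𝒮.p.obj x ⟶ U), Gerb.AutO x) :
    a ∈ natAut 𝒮 U ↔ ∀ ⦃x' x : 𝒮.obj⦄ (φ : x' ⟶ x) (f : 𝒮.p.obj x ⟶ U),
      (a x' (𝒮.p.map φ ≫ f)).hom.1 ≫ φ = φ ≫ (a x f).hom.1 := Iff.rfl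

/-- restriction of natural families along `g : U' ⟶ U` -/
def natAutRes {U' U : C} (g : U' ⟶ U) : natAut 𝒮 U →* natAut 𝒮 U' where
  toFun a := ⟨fun x f => a.1 x (f ≫ g), by
    intro x' x φ f
    have := a.2 φ (f ≫ g)
    rw [← Category.assoc] at this
    exact this⟩
  map_one' := rfl
  map_mul' _ _ := rfl

theorem natAutRes_apply {U' U : C} (g : U' ⟶ U) (a : natAut 𝒮 U) (x : 𝒮.obj)
    (f : 𝒮.p.obj x ⟶ U') : (natAutRes 𝒮 g a).1 x f = a.1 x (f ≫ g) := rfl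

/-- the presheaf of groups of natural families of automorphisms -/
def bandPsh : Cᵒᵖ ⥤ GrpCat.{max u₂ v v₂} where
  obj U := GrpCat.of (natAut 𝒮 U.unop)
  map g := GrpCat.ofHom (natAutRes 𝒮 g.unop)
  map_id U := by
    apply GrpCat.hom_ext
    apply MonoidHom.ext
    intro a
    apply Subtype.ext
    funext x f
    change a.1 x (f ≫ 𝟙 _) = a.1 x f
    rw [Category.comp_id]
  map_comp g g' := by
    apply GrpCat.hom_ext
    apply MonoidHom.ext
    intro a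
    apply Subtype.ext
    funext x f
    change a.1 x (f ≫ g'.unop ≫ g.unop) = a.1 x ((f ≫ g'.unop) ≫ g.unop)
    rw [Category.assoc]

/-- evaluation at an object -/
def evHom (x : 𝒮.obj) : natAut 𝒮 (𝒮.p.obj x) →* Gerb.AutO x where
  toFun a := a.1 x (𝟙 _)
  map_one' := rfl
  map_mul' _ _ := rfl

end Groth.Agent.Lib.Helper17.Band
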