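-- helper17: the band of an abelian gerbe: evaluation isomorphisms and the sheaf property.
import Groth.Agent.Lib.Helper17Band2
import Mathlib.CategoryTheory.Sites.Sheaf
import Mathlib.CategoryTheory.Sites.SheafOfTypes
import Mathlib.Algebra.Category.Grp.Limits

set_option autoImplicit false
set_option backward.isDefEq.respectTransparency false
set_option backward.isDefEq.respectTransparency.types false
open CategoryTheory CategoryTheory.Functor Opposite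

universe v₂ u₂ v u

namespace Groth.Agent.Lib.Helper17.Band

open Groth.Agent.Lib.Helper17 Groth.Agent.Lib.Helper17.Elem Groth.Agent.Lib.Helper17.GerbGlob

section Conn

variable {C : Type u} [Category.{v} C] (J : GrothendieckTopology C)
  {𝒮 : BasedCategory.{v₂, u₂} C}

theorem overR_map {U : C} {R : Sieve U} {a x : 𝒮.obj} {ψ : a ⟶ x} (hx : 𝒮.p.obj x = U)
    (h : OverR R ψ) : R (𝒮.p.map ψ ≫ eqToHom hx) := by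
  subst hx
  obtain ⟨W, k, hk, hψ⟩ := h
  obtain ⟨e, he⟩ := isHomLift_base_unique 𝒮.p ψ (𝒮.p.map ψ) k inferInstance hψ
  subst e
  rw [eqToHom_refl, Category.id_comp] at he
  rw [he, eqToHom_refl, Category.comp_id]
  exact hk

/-- local connectedness of a gerbe -/
theorem exists_conn_sieve (h𝒮 : FibCat.IsFibGrpd 𝒮.p)
    (hg : Gerb.LocSurjHom J (FibCat.toSelf 𝒮)) (x y : 𝒮.obj) (f : 𝒮.p.obj y ⟶ 𝒮.p.obj x) :
    ∃ R ∈ J (𝒮.p.obj y), ∀ ⦃a : 𝒮.obj⦄ (ψ : a ⟶ y), OverR R ψ →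
      ∃ χ : a ⟶ x, 𝒮.p.IsHomLift (𝒮.p.map ψ ≫ f) χ := by
  obtain ⟨x', κ, hκ⟩ := h𝒮.exists_lift (x := x) f
  have hx' : 𝒮.p.obj x' = 𝒮.p.obj y := IsHomLift.domain_eq 𝒮.p f κ
  have hb : (FibCat.selfOver C).p.IsHomLift (𝟙 (𝒮.p.obj y)) (eqToHom hx'.symm) :=
    IsHomLift.eqToHom_domain_lift_id (p := 𝟭 C) hx'.symm rfl
  obtain ⟨R, hR, h⟩ := hg y x' (eqToHom hx'.symm) hb
  refine ⟨R, hR, ?_⟩
  rintro a ψ ⟨W, k, hk, hψ⟩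
  obtain ⟨x₀, φ₀, ψ₀, hφ₀, hψ₀, -⟩ := h k hk
  obtain ⟨ε, hε, -⟩ := IsFibGrpd.exists_iso_of_lifts h𝒮 k ψ φ₀
  obtain ⟨e, he⟩ := isHomLift_base_unique 𝒮.p ψ (𝒮.p.map ψ) k inferInstance hψ
  subst e
  rw [eqToHom_refl, Category.id_comp] at he
  refine ⟨ε.hom ≫ ψ₀ ≫ κ, ?_⟩
  rw [he]
  have : 𝒮.p.IsHomLift (𝟙 _ ≫ k ≫ f) (ε.hom ≫ ψ₀ ≫ κ) := inferInstance
  simpa using this

end Conn

section Ev

variable {C : Type u} [Category.{v} C] (J : GrothendieckTopology C)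
  {𝒮 : BasedCategory.{v₂, u₂} C}

theorem evHom_injective (h𝒮 : Gerb.IsGerbe J 𝒮) (x : 𝒮.obj) :
    Function.Injective (evHom 𝒮 x) := by
  have hfg : FibCat.IsFibGrpd 𝒮.p := h𝒮.1.1
  rw [injective_iff_map_eq_one]
  intro a ha
  apply Subtype.ext
  funext y f
  apply autO_ext
  change (a.1 y f).hom.1 = 𝟙 y
  obtain ⟨R, hR, hconn⟩ := exists_conn_sieve J hfg h𝒮.2.2 x y f
  refine ext_unique J h𝒮.1 (fun y f => (a.1 y f).hom.1) (fun y _ => 𝟙 y)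
    (fun y f => autO_isHomLift 𝒮 _) (fun y f => IsHomLift.id rfl) (fun x' x φ f => a.2 φ f)
    (fun x' x φ f => by simp) y f R hR ?_
  intro a' ψ hψ
  obtain ⟨χ, hχ⟩ := hconn ψ hψ
  have e1 : 𝒮.p.map ψ ≫ f = 𝒮.p.map χ := by
    have := IsHomLift.fac 𝒮.p (𝒮.p.map ψ ≫ f) χ
    simpa using this
  have h1 := a.2 χ (𝟙 (𝒮.p.obj x))
  have h2 : (a.1 x (𝟙 _)).hom.1 = 𝟙 x := by
    have : a.1 x (𝟙 _) = 1 := ha
    rw [this]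
    rfl
  rw [h2] at h1
  simp only [Category.comp_id] at h1
  change (a.1 a' (𝒮.p.map ψ ≫ f)).hom.1 = 𝟙 a'
  rw [e1]
  refine GerbExt.cancel_right hfg (𝟙 _) (𝒮.p.map χ) _ _ χ (autO_isHomLift 𝒮 _)
    (IsHomLift.id rfl) inferInstance ?_
  rw [h1, Category.id_comp]

theorem evHom_surjective (h𝒮 : Gerb.IsGerbe J 𝒮)
    (hcomm : ∀ (x : 𝒮.obj) (α β : Gerb.AutO x), α * β = β * α) (x : 𝒮.obj) :
    Function.Surjective (evHom 𝒮 x) := by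
  have hfg : FibCat.IsFibGrpd 𝒮.p := h𝒮.1.1
  intro α
  have key : ∀ (y : 𝒮.obj) (f : 𝒮.p.obj y ⟶ 𝒮.p.obj x)
      (_ : ∃ ψ : y ⟶ x, 𝒮.p.IsHomLift f ψ), ∃ χ : y ⟶ y, 𝒮.p.IsHomLift (𝟙 (𝒮.p.obj y)) χ ∧
        ∀ ψ : y ⟶ x, 𝒮.p.IsHomLift f ψ → χ ≫ ψ = ψ ≫ α.hom.1 := by
    rintro y f ⟨ψ₀, hψ₀⟩
    have l0 : 𝒮.p.IsHomLift f (ψ₀ ≫ α.hom.1) :=
      isHomLift_comp_id_right f ψ₀ α.hom.1 (autO_isHomLift 𝒮 α) hψ₀
    obtain ⟨χ, hχ, eχ⟩ := GerbExt.exists_fac hfg (𝟙 (𝒮.p.obj y)) f f (Category.id_comp _).symm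
      ψ₀ hψ₀ (ψ₀ ≫ α.hom.1) l0
    refine ⟨χ, hχ, fun ψ hψ => ?_⟩
    obtain ⟨β, hβ, eβ⟩ := IsFibGrpd.exists_iso_of_lifts hfg f ψ ψ₀
    have hc := hcomm y (autOMk hfg y χ hχ) (autOMk hfg y β.hom hβ)
    have hc' : β.hom ≫ χ = χ ≫ β.hom := congrArg (fun t => t.hom.1) hc
    rw [← eβ, ← Category.assoc, ← hc', Category.assoc, eχ, Category.assoc]
  choose ρ₀ hρ₀l hρ₀ using key
  have hG : IsGoodFamily (𝒳 := 𝒮) (U := 𝒮.p.obj x)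
      (fun y f => ∃ ψ : y ⟶ x, 𝒮.p.IsHomLift f ψ) ρ₀ :=
    { src := by
        rintro a y φ f ⟨ψ, hψ⟩
        exact ⟨φ ≫ ψ, inferInstance⟩
      lift := fun y f hy => hρ₀l y f hy
      nat := by
        rintro y' y φ f f' rfl hy' ⟨ψ, hψ⟩
        have l0 : 𝒮.p.IsHomLift (𝒮.p.map φ) φ := inferInstance
        have l1 : 𝒮.p.IsHomLift (𝒮.p.map φ) (ρ₀ y' _ hy' ≫ φ) :=
          isHomLift_comp_id_left _ _ φ (hρ₀l _ _ _) l0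
        have l2 : 𝒮.p.IsHomLift (𝒮.p.map φ) (φ ≫ ρ₀ y f ⟨ψ, hψ⟩) :=
          isHomLift_comp_id_right _ φ _ (hρ₀l _ _ _) l0
        refine GerbExt.cancel_right hfg (𝒮.p.map φ) f _ _ ψ l1 l2 hψ ?_
        have l3 : 𝒮.p.IsHomLift (𝒮.p.map φ ≫ f) (φ ≫ ψ) := inferInstance
        calc (ρ₀ y' _ hy' ≫ φ) ≫ ψ = ρ₀ y' _ hy' ≫ (φ ≫ ψ) := Category.assoc _ _ _
          _ = (φ ≫ ψ) ≫ α.hom.1 := hρ₀ y' _ hy' (φ ≫ ψ) l3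
          _ = φ ≫ (ψ ≫ α.hom.1) := Category.assoc _ _ _
          _ = φ ≫ (ρ₀ y f ⟨ψ, hψ⟩ ≫ ψ) := by rw [hρ₀ y f ⟨ψ, hψ⟩ ψ hψ]
          _ = (φ ≫ ρ₀ y f ⟨ψ, hψ⟩) ≫ ψ := (Category.assoc _ _ _).symm }
  obtain ⟨ρ, hρ, nρ, eρ⟩ := exists_extension J h𝒮.1 hG
    (fun y f => exists_conn_sieve J hfg h𝒮.2.2 x y f)
  refine ⟨⟨fun y f => autOMk hfg y (ρ y f) (hρ y f), fun x' x φ f => nρ φ f⟩, ?_⟩
  apply autO_ext
  change ρ x (𝟙 _) = α.hom.1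
  have hx : ∃ ψ : x ⟶ x, 𝒮.p.IsHomLift (𝟙 (𝒮.p.obj x)) ψ := ⟨𝟙 x, IsHomLift.id rfl⟩
  rw [eρ x (𝟙 _) hx]
  have := hρ₀ x (𝟙 _) hx (𝟙 x) (IsHomLift.id rfl)
  rw [Category.comp_id, Category.id_comp] at this
  exact this

end Ev

end Groth.Agent.Lib.Helper17.Band
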