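-- helper17: the band presheaf of a stack in groupoids is a sheaf; banding of an abelian gerbe.
import Groth.Agent.Lib.Helper17Band3

set_option autoImplicit false
set_option backward.isDefEq.respectTransparency false
set_option backward.isDefEq.respectTransparency.types false
open CategoryTheory CategoryTheory.Functor Opposite

universe v₂ u₂ v u

namespace Groth.Agent.Lib.Helper17.Band

open Groth.Agent.Lib.Helper17 Groth.Agent.Lib.Helper17.Elem Groth.Agent.Lib.Helper17.GerbGlob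

section Sheaf

variable {C : Type u} [Category.{v} C] (J : GrothendieckTopology C)
  {𝒮 : BasedCategory.{v₂, u₂} C}

theorem isSheafFor_bandPsh (h𝒮 : Stk.IsStack J 𝒮) {U : C} (R : Sieve U) (hR : R ∈ J U) :
    Presieve.IsSheafFor (bandPsh 𝒮 ⋙ forget GrpCat) R.arrows := by
  have hfg : FibCat.IsFibGrpd 𝒮.p := h𝒮.1
  intro s hs
  have hsc := (Presieve.compatible_iff_sieveCompatible s).1 hs
  -- the components of the family
  let sv : ∀ ⦃V : C⦄ (g : V ⟶ U), R g → natAut 𝒮 V := fun V g hg => s g hg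
  have hsv : ∀ ⦃V V' : C⦄ (g : V ⟶ U) (k : V' ⟶ V) (hg : R g) (y : 𝒮.obj)
      (f : 𝒮.p.obj y ⟶ V'), (sv (k ≫ g) (R.downward_closed hg k)).1 y f = (sv g hg).1 y (f ≫ k) := by
    intro V V' g k hg y f
    have := hsc g k hg
    have h2 : sv (k ≫ g) (R.downward_closed hg k) = natAutRes 𝒮 k (sv g hg) := this
    rw [h2]
    rfl
  have hG : IsGoodFamily (𝒳 := 𝒮) (U := U) (fun y f => R f)
      (fun y f hf => ((sv f hf).1 y (𝟙 _)).hom.1) :=
    { src := fun a y φ f hf => R.downward_closed hf _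
      lift := fun y f hf => autO_isHomLift 𝒮 _
      nat := by
        rintro y' y φ f f' rfl hy' hy
        have h1 := hsv f (𝒮.p.map φ) hy y' (𝟙 _)
        have h2 := (sv f hy).2 φ (𝟙 _)
        have e : (𝟙 (𝒮.p.obj y') ≫ 𝒮.p.map φ) = 𝒮.p.map φ ≫ 𝟙 _ := by simp
        rw [e] at h1
        change ((sv (𝒮.p.map φ ≫ f) hy').1 y' (𝟙 _)).hom.1 ≫ φ = _
        rw [h1]
        exact h2 }
  obtain ⟨ρ, hρ, nρ, eρ⟩ := exists_extension J h𝒮 hG (fun y f =>
    ⟨R.pullback f, J.pullback_stable f hR, fun a ψ hψ => by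
      have := overR_map (𝒮 := 𝒮) (R := R.pullback f) rfl hψ
      rw [eqToHom_refl, Category.comp_id] at this
      exact this⟩)
  let t : natAut 𝒮 U := ⟨fun y f => autOMk hfg y (ρ y f) (hρ y f), fun x' x φ f => nρ φ f⟩
  have ht : ∀ ⦃V : C⦄ (g : V ⟶ U) (hg : R g), natAutRes 𝒮 g t = sv g hg := by
    intro V g hg
    apply Subtype.ext
    funext y k
    apply autO_ext
    change ρ y (k ≫ g) = ((sv g hg).1 y k).hom.1
    rw [eρ y (k ≫ g) (R.downward_closed hg k), hsv g k hg y (𝟙 _), Category.id_comp]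
  refine ⟨t, fun V g hg => ht g hg, ?_⟩
  intro t' ht'
  have ht'' : ∀ ⦃V : C⦄ (g : V ⟶ U) (hg : R g), natAutRes 𝒮 g t' = sv g hg :=
    fun V g hg => ht' g hg
  apply Subtype.ext
  funext y f
  apply autO_ext
  refine ext_unique J h𝒮 (fun y f => ((t' : natAut 𝒮 U).1 y f).hom.1)
    (fun y f => (t.1 y f).hom.1)
    (fun y f => autO_isHomLift 𝒮 _) (fun y f => autO_isHomLift 𝒮 _)
    (fun x' x φ f => (t' : natAut 𝒮 U).2 φ f) (fun x' x φ f => t.2 φ f) y f (R.pullback f)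
    (J.pullback_stable f hR) ?_
  intro a ψ hψ
  have hr : R (𝒮.p.map ψ ≫ f) := by
    have := overR_map (𝒮 := 𝒮) (R := R.pullback f) rfl hψ
    rw [eqToHom_refl, Category.comp_id] at this
    exact this
  have h1 := congrArg (fun w => (w.1 a (𝟙 _)).hom.1) (ht'' _ hr)
  have h2 := congrArg (fun w => (w.1 a (𝟙 _)).hom.1) (ht _ hr)
  simp only [natAutRes_apply, Category.id_comp] at h1 h2
  change ((t' : natAut 𝒮 U).1 a (𝒮.p.map ψ ≫ f)).hom.1 = (t.1 a (𝒮.p.map ψ ≫ f)).hom.1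
  rw [h1, h2]

theorem isSheaf_bandPsh {𝒮 : BasedCategory.{v, max u v} C} (h𝒮 : Stk.IsStack J 𝒮) :
    Presheaf.IsSheaf J (bandPsh 𝒮) := by
  rw [Presheaf.isSheaf_iff_isSheaf_forget J _ (forget GrpCat), isSheaf_iff_isSheaf_of_type]
  intro U R hR
  exact isSheafFor_bandPsh J h𝒮 R hR

end Sheaf

section Banding

variable {C : Type u} [Category.{v} C] (J : GrothendieckTopology C)
  {𝒮 : BasedCategory.{v₂, u₂} C}

/-- the banding of an abelian gerbe by its band presheaf -/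
noncomputable def banding (h𝒮 : Gerb.IsGerbe J 𝒮)
    (hcomm : ∀ (x : 𝒮.obj) (α β : Gerb.AutO x), α * β = β * α) :
    Gerb.Banding 𝒮 (bandPsh 𝒮) where
  iso x := MulEquiv.ofBijective (evHom 𝒮 x)
    ⟨evHom_injective J h𝒮 x, evHom_surjective J h𝒮 hcomm x⟩
  natural {x' x} φ a := by
    have h1 := (a : natAut 𝒮 (𝒮.p.obj x)).2 φ (𝟙 _)
    have e : (𝟙 (𝒮.p.obj x') ≫ 𝒮.p.map φ) = 𝒮.p.map φ ≫ 𝟙 _ := by simp
    change ((a : natAut 𝒮 (𝒮.p.obj x)).1 x' (𝟙 _ ≫ 𝒮.p.map φ)).hom.1 ≫ φ = _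
    rw [e]
    exact h1

theorem bandPsh_comm (hcomm : ∀ (x : 𝒮.obj) (α β : Gerb.AutO x), α * β = β * α) (U : C)
    (a b : (bandPsh 𝒮).obj (op U)) : a * b = b * a := by
  apply Subtype.ext
  funext y f
  exact hcomm y _ _

end Banding

end Groth.Agent.Lib.Helper17.Band
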