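import Groth.Agent.Lib.Helper17RDer5

/-! Cosplice data, zero-preserving canonical resolutions and the horseshoe lemma with a given
resolution of the subobject (helper17). -/
set_option autoImplicit false
set_option backward.isDefEq.respectTransparency false
universe v u
open CategoryTheory CategoryTheory.Limits

namespace Groth.Agent.Lib.Helper17.CE

open Groth.Agent.Lib.Helper17.RDerLib

variable {C : Type u} [Category.{v} C] [Abelian C]

/-- data of an injective resolution spliced from short exact sequences. -/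
structure CoData (C : Type u) [Category.{v} C] [Abelian C] where
  Z : ℕ → C
  J : ℕ → C
  ι : ∀ n, Z n ⟶ J n
  π : ∀ n, J n ⟶ Z (n + 1)
  hz : ∀ n, ι n ≫ π n = 0
  hS : ∀ n, (ShortComplex.mk (ι n) (π n) (hz n)).ShortExact
  hJ : ∀ n, Injective (J n)

namespace CoData

variable (D : CoData C)

instance (n : ℕ) : Injective (D.J n) := D.hJ n
instance (n : ℕ) : Mono (D.ι n) := (D.hS n).mono_f
instance (n : ℕ) : Epi (D.π n) := (D.hS n).epi_g

/-- the vertical differential. -/
def d (n : ℕ) : D.J n ⟶ D.J (n + 1) := D.π n ≫ D.ι (n + 1)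

lemma d_comp_d (n : ℕ) : D.d n ≫ D.d (n + 1) = 0 := by
  unfold d
  rw [Category.assoc, ← Category.assoc (D.ι (n + 1)), D.hz, zero_comp, comp_zero]

lemma ι_comp_d (n : ℕ) : D.ι n ≫ D.d n = 0 := by
  unfold d
  rw [← Category.assoc, D.hz, zero_comp]

/-- exactness of `ι n, d n`. -/
lemma exact_ι_d (n : ℕ) : (ShortComplex.mk (D.ι n) (D.d n) (D.ι_comp_d n)).Exact := by
  let ψ : ShortComplex.mk (D.ι n) (D.π n) (D.hz n) ⟶ ShortComplex.mk (D.ι n) (D.d n) (D.ι_comp_d n) :=
    ShortComplex.homMk (𝟙 _) (𝟙 _) (D.ι (n + 1)) (by simp) (by simp [d])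
  haveI : Epi ψ.τ₁ := by change Epi (𝟙 _); infer_instance
  haveI : IsIso ψ.τ₂ := by change IsIso (𝟙 _); infer_instance
  haveI : Mono ψ.τ₃ := by change Mono (D.ι (n + 1)); infer_instance
  exact (ShortComplex.exact_iff_of_epi_of_isIso_of_mono ψ).1 (D.hS n).exact

/-- exactness of `d n, d (n+1)`. -/
lemma exact_d_d (n : ℕ) : (ShortComplex.mk (D.d n) (D.d (n + 1)) (D.d_comp_d n)).Exact := by
  let ψ : ShortComplex.mk (D.d n) (D.d (n + 1)) (D.d_comp_d n) ⟶
      ShortComplex.mk (D.ι (n + 1)) (D.d (n + 1)) (D.ι_comp_d (n + 1)) :=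
    ShortComplex.homMk (D.π n) (𝟙 _) (𝟙 _) (by simp [d]) (by simp)
  haveI : Epi ψ.τ₁ := by change Epi (D.π n); infer_instance
  haveI : IsIso ψ.τ₂ := by change IsIso (𝟙 _); infer_instance
  haveI : Mono ψ.τ₃ := by change Mono (𝟙 _); infer_instance
  exact (ShortComplex.exact_iff_of_epi_of_isIso_of_mono ψ).2 (D.exact_ι_d (n + 1))

end CoData

section Eu

variable [EnoughInjectives C]

lemma exists_mono_injective (X : C) :
    ∃ (J : C) (i : X ⟶ J), Injective J ∧ Mono i ∧ (IsZero X → IsZero J) := by
  by_cases h : IsZero X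
  · exact ⟨X, 𝟙 X, ⟨fun {A B} g f _ => ⟨0, h.eq_of_tgt _ _⟩⟩, inferInstance, fun _ => h⟩
  · exact ⟨Injective.under X, Injective.ι X, inferInstance, inferInstance, fun h' => (h h').elim⟩

/-- an injective object containing `X`, zero when `X` is. -/
noncomputable def Eu (X : C) : C := (exists_mono_injective X).choose

/-- the embedding. -/
noncomputable def Eu.ι (X : C) : X ⟶ Eu X := (exists_mono_injective X).choose_spec.choose

instance (X : C) : Injective (Eu X) := (exists_mono_injective X).choose_spec.choose_spec.1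
instance (X : C) : Mono (Eu.ι X) := (exists_mono_injective X).choose_spec.choose_spec.2.1

lemma Eu.isZero {X : C} (h : IsZero X) : IsZero (Eu X) :=
  (exists_mono_injective X).choose_spec.choose_spec.2.2 h

/-- the cosyzygies of the canonical resolution. -/
noncomputable def canZ (X : C) : ℕ → C
  | 0 => X
  | n + 1 => cokernel (Eu.ι (canZ X n))

lemma canZ_isZero {X : C} (h : IsZero X) : ∀ n, IsZero (canZ X n)
  | 0 => h
  | n + 1 => by
    have h1 : IsZero (Eu (canZ X n)) := Eu.isZero (canZ_isZero h n)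
    change IsZero (cokernel (Eu.ι (canZ X n)))
    exact IsZero.of_epi (cokernel.π _) h1

/-- the canonical (zero preserving) resolution data of `X`. -/
noncomputable def can (X : C) : CoData C where
  Z := canZ X
  J n := Eu (canZ X n)
  ι n := Eu.ι (canZ X n)
  π n := cokernel.π (Eu.ι (canZ X n))
  hz n := cokernel.condition _
  hS n := cokernel_ses _
  hJ n := inferInstance

lemma can_J_isZero {X : C} (h : IsZero X) (n : ℕ) : IsZero ((can X).J n) :=
  Eu.isZero (canZ_isZero h n)

end Eu

end Groth.Agent.Lib.Helper17.CE
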