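import Groth.Agent.Lib.Helper17CE1

/-! The horseshoe lemma with a given resolution of the subobject (helper17). -/
set_option autoImplicit false
set_option backward.isDefEq.respectTransparency false
universe v u
open CategoryTheory CategoryTheory.Limits

namespace Groth.Agent.Lib.Helper17.CE

open Groth.Agent.Lib.Helper17.RDerLib

variable {C : Type u} [Category.{v} C] [Abelian C] [EnoughInjectives C]

lemma shortExact_of_iso' {S₁ S₂ : ShortComplex C} (h : S₁.ShortExact) (e₁ : S₁.X₁ ≅ S₂.X₁)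
    (e₂ : S₁.X₂ ≅ S₂.X₂) (e₃ : S₁.X₃ ≅ S₂.X₃) (c₁ : e₁.hom ≫ S₂.f = S₁.f ≫ e₂.hom)
    (c₂ : e₂.hom ≫ S₂.g = S₁.g ≫ e₃.hom) : S₂.ShortExact :=
  ShortComplex.shortExact_of_iso (ShortComplex.isoMk e₁ e₂ e₃ c₁ c₂) h

/-- the iso `Z (n+1) ≅ cokernel (ι n)`. -/
noncomputable def CoData.zIso (D₁ : CoData C) (n : ℕ) : D₁.Z (n + 1) ≅ cokernel (D₁.ι n) :=
  IsColimit.coconePointUniqueUpToIso (D₁.hS n).gIsCokernel
    (colimit.isColimit (parallelPair (D₁.ι n) 0))

lemma CoData.π_zIso_hom (D₁ : CoData C) (n : ℕ) :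
    D₁.π n ≫ (D₁.zIso n).hom = cokernel.π (D₁.ι n) :=
  IsColimit.comp_coconePointUniqueUpToIso_hom (D₁.hS n).gIsCokernel
    (colimit.isColimit (parallelPair (D₁.ι n) 0)) WalkingParallelPair.one

/-- a stage of the construction. -/
structure LStage (D₁ : CoData C) (Y : C) (n : ℕ) where
  X₂ : C
  f : D₁.Z n ⟶ X₂
  g : X₂ ⟶ canZ Y n
  zero : f ≫ g = 0
  hS : (ShortComplex.mk f g zero).ShortExact

namespace LStage

variable {D₁ : CoData C} {Y : C} {n : ℕ}

/-- the injective object. -/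
noncomputable def J₂ (_s : LStage D₁ Y n) : C := D₁.J n ⊞ Eu (canZ Y n)

/-- the split short exact sequence of injectives. -/
noncomputable def JS (_s : LStage D₁ Y n) : ShortComplex C :=
  ShortComplex.mk (biprod.inl : D₁.J n ⟶ D₁.J n ⊞ Eu (canZ Y n)) biprod.snd biprod.inl_snd

variable (s : LStage D₁ Y n)

instance : Mono s.f := s.hS.mono_f
instance : Epi s.g := s.hS.epi_g

/-- the short exact sequence. -/
noncomputable def S : ShortComplex C := ShortComplex.mk s.f s.g s.zero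

instance : Injective s.J₂ := by unfold J₂; infer_instance

theorem JS_shortExact : s.JS.ShortExact :=
  (ShortComplex.Splitting.mk (S := s.JS) biprod.fst biprod.inr biprod.inl_fst biprod.inr_snd
    biprod.total).shortExact

/-- the extension of `Z₁ → J₁` to `X₂`. -/
noncomputable def e : s.X₂ ⟶ D₁.J n := Injective.factorThru (D₁.ι n) s.f

lemma f_e : s.f ≫ s.e = D₁.ι n := Injective.comp_factorThru _ _

/-- the embedding of `X₂`. -/
noncomputable def ι₂ : s.X₂ ⟶ s.J₂ := biprod.lift s.e (s.g ≫ Eu.ι (canZ Y n))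

lemma ι₂_fst : s.ι₂ ≫ biprod.fst = s.e := biprod.lift_fst _ _
lemma ι₂_snd : s.ι₂ ≫ biprod.snd = s.g ≫ Eu.ι (canZ Y n) := biprod.lift_snd _ _

lemma f_ι₂ : s.f ≫ s.ι₂ = D₁.ι n ≫ biprod.inl := by
  apply biprod.hom_ext
  · rw [Category.assoc, ι₂_fst, f_e, Category.assoc, biprod.inl_fst, Category.comp_id]
  · rw [Category.assoc, ι₂_snd, ← Category.assoc, s.zero, zero_comp, Category.assoc,
      biprod.inl_snd, comp_zero]

/-- the morphism of short exact sequences. -/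
noncomputable def φ : s.S ⟶ s.JS :=
  ShortComplex.homMk (D₁.ι n) s.ι₂ (Eu.ι (canZ Y n)) s.f_ι₂.symm s.ι₂_snd

instance : Mono s.φ.τ₁ := by change Mono (D₁.ι n); infer_instance
instance : Mono s.φ.τ₃ := by change Mono (Eu.ι (canZ Y n)); infer_instance
instance mono_ι₂ : Mono s.ι₂ := by
  rw [Preadditive.mono_iff_cancel_zero]
  intro A x hx
  have h1 : x ≫ s.g = 0 := by
    have := congrArg (fun t => t ≫ biprod.snd) hx
    simp only [Category.assoc, ι₂_snd, zero_comp] at this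
    rw [← cancel_mono (Eu.ι (canZ Y n)), Category.assoc, this, zero_comp]
  obtain ⟨y, rfl⟩ : ∃ y : A ⟶ D₁.Z n, y ≫ s.f = x :=
    ⟨s.hS.exact.lift x h1, s.hS.exact.lift_f _ _⟩
  have h2 := congrArg (fun t => t ≫ biprod.fst) hx
  simp only [Category.assoc, ι₂_fst, zero_comp, f_e] at h2
  have h3 : y = 0 := by
    rw [← cancel_mono (D₁.ι n), h2, zero_comp]
  rw [h3, zero_comp]
instance : Mono s.φ.τ₂ := by change Mono s.ι₂; infer_instance


/-- the next `f`. -/
noncomputable def f' : D₁.Z (n + 1) ⟶ cokernel s.ι₂ :=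
  (D₁.zIso n).hom ≫ cokernel.map (D₁.ι n) s.ι₂ s.f biprod.inl s.f_ι₂.symm

/-- the next `g`. -/
noncomputable def g' : cokernel s.ι₂ ⟶ canZ Y (n + 1) :=
  cokernel.map s.ι₂ (Eu.ι (canZ Y n)) s.g biprod.snd s.ι₂_snd

lemma π_f' : D₁.π n ≫ s.f' = biprod.inl ≫ cokernel.π s.ι₂ := by
  unfold f'
  rw [← Category.assoc, D₁.π_zIso_hom, cokernel.π_desc]

lemma π_g' : cokernel.π s.ι₂ ≫ s.g' = biprod.snd ≫ cokernel.π (Eu.ι (canZ Y n)) :=
  cokernel.π_desc _ _ _

lemma f'_g' : s.f' ≫ s.g' = 0 := by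
  rw [← cancel_epi (D₁.π n), ← Category.assoc, π_f', Category.assoc, π_g', ← Category.assoc,
    biprod.inl_snd, zero_comp, comp_zero]

/-- the next stage. -/
noncomputable def next : LStage D₁ Y (n + 1) where
  X₂ := cokernel s.ι₂
  f := s.f'
  g := s.g'
  zero := s.f'_g'
  hS := by
    have h := cokernel_shortExact s.hS s.JS_shortExact s.φ
    refine shortExact_of_iso' (S₂ := ShortComplex.mk s.f' s.g' s.f'_g') h
      (D₁.zIso n).symm (Iso.refl _) (Iso.refl _) ?_ ?_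
    · dsimp only [Iso.symm_hom, Iso.refl_hom]
      unfold f'
      rw [Iso.inv_hom_id_assoc, Category.comp_id]
      rfl
    · dsimp only [Iso.refl_hom]
      rw [Category.id_comp, Category.comp_id]
      rfl

end LStage

section

variable (D₁ : CoData C) {X₂ Y : C} (f : D₁.Z 0 ⟶ X₂) (g : X₂ ⟶ Y) (zero : f ≫ g = 0)
  (hS : (ShortComplex.mk f g zero).ShortExact)

/-- all stages. -/
noncomputable def lstage : ∀ n, LStage D₁ Y n
  | 0 => ⟨X₂, f, g, zero, hS⟩
  | n + 1 => (lstage n).next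

/-- the horseshoe resolution data of the middle term. -/
noncomputable def horseshoeL : CoData C where
  Z n := (lstage D₁ f g zero hS n).X₂
  J n := (lstage D₁ f g zero hS n).J₂
  ι n := (lstage D₁ f g zero hS n).ι₂
  π n := cokernel.π (lstage D₁ f g zero hS n).ι₂
  hz n := cokernel.condition _
  hS n := cokernel_ses _
  hJ n := inferInstance

/-- the maps on cosyzygies. -/
noncomputable def hfZ (n : ℕ) : D₁.Z n ⟶ (horseshoeL D₁ f g zero hS).Z n :=
  (lstage D₁ f g zero hS n).f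

noncomputable def hgZ (n : ℕ) : (horseshoeL D₁ f g zero hS).Z n ⟶ (can Y).Z n :=
  (lstage D₁ f g zero hS n).g

/-- the inclusion of the injectives. -/
noncomputable def hinl (n : ℕ) : D₁.J n ⟶ (horseshoeL D₁ f g zero hS).J n :=
  (biprod.inl : D₁.J n ⟶ D₁.J n ⊞ Eu (canZ Y n))

/-- the projection of the injectives. -/
noncomputable def hsnd (n : ℕ) : (horseshoeL D₁ f g zero hS).J n ⟶ (can Y).J n :=
  (biprod.snd : D₁.J n ⊞ Eu (canZ Y n) ⟶ Eu (canZ Y n))

/-- the retraction. -/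
noncomputable def hfst (n : ℕ) : (horseshoeL D₁ f g zero hS).J n ⟶ D₁.J n :=
  (biprod.fst : D₁.J n ⊞ Eu (canZ Y n) ⟶ D₁.J n)

/-- the section. -/
noncomputable def hinr (n : ℕ) : (can Y).J n ⟶ (horseshoeL D₁ f g zero hS).J n :=
  (biprod.inr : Eu (canZ Y n) ⟶ D₁.J n ⊞ Eu (canZ Y n))

lemma hinl_hsnd (n : ℕ) : hinl D₁ f g zero hS n ≫ hsnd D₁ f g zero hS n = 0 := biprod.inl_snd
lemma hinl_hfst (n : ℕ) : hinl D₁ f g zero hS n ≫ hfst D₁ f g zero hS n = 𝟙 _ := biprod.inl_fst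
lemma hinr_hsnd (n : ℕ) : hinr D₁ f g zero hS n ≫ hsnd D₁ f g zero hS n = 𝟙 _ := biprod.inr_snd
lemma hinr_hfst (n : ℕ) : hinr D₁ f g zero hS n ≫ hfst D₁ f g zero hS n = 0 := biprod.inr_fst
lemma htotal (n : ℕ) : hfst D₁ f g zero hS n ≫ hinl D₁ f g zero hS n +
    hsnd D₁ f g zero hS n ≫ hinr D₁ f g zero hS n = 𝟙 _ := biprod.total

instance (n : ℕ) : Mono (hinl D₁ f g zero hS n) := by unfold hinl; infer_instance
instance (n : ℕ) : Epi (hsnd D₁ f g zero hS n) := by unfold hsnd; infer_instance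

lemma hZ_zero : (horseshoeL D₁ f g zero hS).Z 0 = X₂ := rfl
lemma hfZ_zero : hfZ D₁ f g zero hS 0 = f := rfl
lemma hgZ_zero : hgZ D₁ f g zero hS 0 = g := rfl

lemma hιf (n : ℕ) : D₁.ι n ≫ hinl D₁ f g zero hS n =
    hfZ D₁ f g zero hS n ≫ (horseshoeL D₁ f g zero hS).ι n :=
  ((lstage D₁ f g zero hS n).f_ι₂).symm

lemma hιg (n : ℕ) : (horseshoeL D₁ f g zero hS).ι n ≫ hsnd D₁ f g zero hS n =
    hgZ D₁ f g zero hS n ≫ (can Y).ι n :=
  (lstage D₁ f g zero hS n).ι₂_snd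

lemma hπf (n : ℕ) : D₁.π n ≫ hfZ D₁ f g zero hS (n + 1) =
    hinl D₁ f g zero hS n ≫ (horseshoeL D₁ f g zero hS).π n :=
  (lstage D₁ f g zero hS n).π_f'

lemma hπg (n : ℕ) : (horseshoeL D₁ f g zero hS).π n ≫ hgZ D₁ f g zero hS (n + 1) =
    hsnd D₁ f g zero hS n ≫ (can Y).π n :=
  (lstage D₁ f g zero hS n).π_g'

/-- `inl` commutes with the vertical differentials. -/
lemma hinl_d (n : ℕ) : hinl D₁ f g zero hS n ≫ (horseshoeL D₁ f g zero hS).d n =
    D₁.d n ≫ hinl D₁ f g zero hS (n + 1) := by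
  unfold CoData.d
  rw [← Category.assoc, ← hπf, Category.assoc, Category.assoc, hιf]

/-- `snd` commutes with the vertical differentials. -/
lemma hsnd_d (n : ℕ) : hsnd D₁ f g zero hS n ≫ (can Y).d n =
    (horseshoeL D₁ f g zero hS).d n ≫ hsnd D₁ f g zero hS (n + 1) := by
  unfold CoData.d
  rw [← Category.assoc, ← hπg, Category.assoc, Category.assoc, hιg]

lemma horseshoeL_J_isZero (n : ℕ) (h₁ : IsZero (D₁.J n)) (hY : IsZero Y) :
    IsZero ((horseshoeL D₁ f g zero hS).J n) := by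
  change IsZero (D₁.J n ⊞ Eu (canZ Y n))
  have h₂ : IsZero (Eu (canZ Y n)) := Eu.isZero (canZ_isZero hY n)
  rw [IsZero.iff_id_eq_zero]
  apply biprod.hom_ext
  · exact h₁.eq_of_tgt _ _
  · exact h₂.eq_of_tgt _ _

end

end Groth.Agent.Lib.Helper17.CE
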