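import Groth.Agent.Lib.Helper17CE2

/-! The Cartan–Eilenberg double complex of a cochain complex (helper17). -/
set_option autoImplicit false
set_option backward.isDefEq.respectTransparency false
universe v u
open CategoryTheory CategoryTheory.Limits

namespace Groth.Agent.Lib.Helper17.CE

open Groth.Agent.Lib.Helper17.RDerLib

variable {C : Type u} [Category.{v} C] [Abelian C]

section Basic

variable (K : CochainComplex C ℤ)

/-- the boundaries in degree `j`. -/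
noncomputable def Bd (j : ℤ) : C := kernel (K.homologyπ j)

/-- the inclusion of the boundaries in the cycles. -/
noncomputable def bι (j : ℤ) : Bd K j ⟶ K.cycles j := kernel.ι _

instance (j : ℤ) : Mono (bι K j) := by unfold bι; infer_instance

lemma bι_π (j : ℤ) : bι K j ≫ K.homologyπ j = 0 := kernel.condition _

lemma sesB (j : ℤ) : (ShortComplex.mk (bι K j) (K.homologyπ j) (bι_π K j)).ShortExact :=
  ShortComplex.ShortExact.mk (ShortComplex.exact_of_f_is_kernel _ (kernelIsKernel (K.homologyπ j)))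

/-- the map from `K^j` to the boundaries. -/
noncomputable def gK (j : ℤ) : K.X j ⟶ Bd K (j + 1) :=
  kernel.lift _ (K.toCycles j (j + 1)) (K.toCycles_comp_homologyπ j (j + 1))

lemma gK_bι (j : ℤ) : gK K j ≫ bι K (j + 1) = K.toCycles j (j + 1) := kernel.lift_ι _ _ _

lemma d_fac (j : ℤ) : gK K j ≫ bι K (j + 1) ≫ K.iCycles (j + 1) = K.d j (j + 1) := by
  rw [← Category.assoc, gK_bι, K.toCycles_i]

lemma iCycles_gK (j : ℤ) : K.iCycles j ≫ gK K j = 0 := by
  rw [← cancel_mono (bι K (j + 1)), ← cancel_mono (K.iCycles (j + 1)), Category.assoc,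
    Category.assoc, d_fac, K.iCycles_d, zero_comp, zero_comp]

lemma sesK (j : ℤ) : (ShortComplex.mk (K.iCycles j) (gK K j) (iCycles_gK K j)).ShortExact := by
  have hex : (ShortComplex.mk (K.toCycles j (j + 1)) (K.homologyπ (j + 1))
      (K.toCycles_comp_homologyπ j (j + 1))).Exact :=
    ShortComplex.exact_of_g_is_cokernel _ (K.homologyIsCokernel j (j + 1) (by simp))
  haveI : Epi (gK K j) := by
    rw [epi_iff_surjective_up_to_refinements]
    intro A x
    have h1 : (x ≫ bι K (j + 1)) ≫ K.homologyπ (j + 1) = 0 := by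
      rw [Category.assoc, bι_π, comp_zero]
    obtain ⟨A', π, hπ, x', hx'⟩ := hex.exact_up_to_refinements (x ≫ bι K (j + 1)) h1
    refine ⟨A', π, hπ, x', ?_⟩
    rw [← cancel_mono (bι K (j + 1)), Category.assoc, Category.assoc, gK_bι]
    exact hx'
  refine ShortComplex.ShortExact.mk ?_
  rw [ShortComplex.exact_iff_exact_up_to_refinements]
  intro A y hy
  have hy' : y ≫ gK K j = 0 := hy
  have h2 : y ≫ K.d j (j + 1) = 0 := by
    rw [← d_fac, ← Category.assoc, hy', zero_comp]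
  refine ⟨A, 𝟙 A, inferInstance, K.liftCycles y (j + 1) (by simp) h2, ?_⟩
  change 𝟙 A ≫ y = K.liftCycles y (j + 1) _ h2 ≫ K.iCycles j
  rw [K.liftCycles_i, Category.id_comp]

end Basic

section Data

variable [EnoughInjectives C] (K : CochainComplex C ℤ)

/-- resolution data of the boundaries. -/
noncomputable def DB (j : ℤ) : CoData C := can (Bd K j)

/-- resolution data of the cohomology. -/
noncomputable def DH (j : ℤ) : CoData C := can (K.homology j)

/-- resolution data of the cycles. -/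
noncomputable def DZ (j : ℤ) : CoData C :=
  horseshoeL (DB K j) (X₂ := K.cycles j) (Y := K.homology j) (bι K j) (K.homologyπ j) (bι_π K j)
    (sesB K j)

/-- resolution data of the terms. -/
noncomputable def DK (j : ℤ) : CoData C :=
  horseshoeL (DZ K j) (X₂ := K.X j) (Y := Bd K (j + 1)) (K.iCycles j) (gK K j) (iCycles_gK K j)
    (sesK K j)

noncomputable def inZ (j : ℤ) (n : ℕ) : (DB K j).J n ⟶ (DZ K j).J n :=
  hinl (DB K j) (bι K j) (K.homologyπ j) (bι_π K j) (sesB K j) n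

noncomputable def snZ (j : ℤ) (n : ℕ) : (DZ K j).J n ⟶ (DH K j).J n :=
  hsnd (DB K j) (bι K j) (K.homologyπ j) (bι_π K j) (sesB K j) n

noncomputable def fsZ (j : ℤ) (n : ℕ) : (DZ K j).J n ⟶ (DB K j).J n :=
  hfst (DB K j) (bι K j) (K.homologyπ j) (bι_π K j) (sesB K j) n

noncomputable def irZ (j : ℤ) (n : ℕ) : (DH K j).J n ⟶ (DZ K j).J n :=
  hinr (DB K j) (bι K j) (K.homologyπ j) (bι_π K j) (sesB K j) n

noncomputable def inK (j : ℤ) (n : ℕ) : (DZ K j).J n ⟶ (DK K j).J n :=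
  hinl (DZ K j) (K.iCycles j) (gK K j) (iCycles_gK K j) (sesK K j) n

noncomputable def snK (j : ℤ) (n : ℕ) : (DK K j).J n ⟶ (DB K (j + 1)).J n :=
  hsnd (DZ K j) (K.iCycles j) (gK K j) (iCycles_gK K j) (sesK K j) n

noncomputable def fsK (j : ℤ) (n : ℕ) : (DK K j).J n ⟶ (DZ K j).J n :=
  hfst (DZ K j) (K.iCycles j) (gK K j) (iCycles_gK K j) (sesK K j) n

noncomputable def irK (j : ℤ) (n : ℕ) : (DB K (j + 1)).J n ⟶ (DK K j).J n :=
  hinr (DZ K j) (K.iCycles j) (gK K j) (iCycles_gK K j) (sesK K j) n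

instance (j : ℤ) (n : ℕ) : Mono (inZ K j n) := by unfold inZ; infer_instance
instance (j : ℤ) (n : ℕ) : Mono (inK K j n) := by unfold inK; infer_instance
instance (j : ℤ) (n : ℕ) : Epi (snZ K j n) := by unfold snZ; infer_instance
instance (j : ℤ) (n : ℕ) : Epi (snK K j n) := by unfold snK; infer_instance

lemma inZ_snZ (j : ℤ) (n : ℕ) : inZ K j n ≫ snZ K j n = 0 := hinl_hsnd _ _ _ _ _ n
lemma inK_snK (j : ℤ) (n : ℕ) : inK K j n ≫ snK K j n = 0 := hinl_hsnd _ _ _ _ _ n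
lemma inZ_fsZ (j : ℤ) (n : ℕ) : inZ K j n ≫ fsZ K j n = 𝟙 _ := hinl_hfst _ _ _ _ _ n
lemma inK_fsK (j : ℤ) (n : ℕ) : inK K j n ≫ fsK K j n = 𝟙 _ := hinl_hfst _ _ _ _ _ n
lemma irZ_snZ (j : ℤ) (n : ℕ) : irZ K j n ≫ snZ K j n = 𝟙 _ := hinr_hsnd _ _ _ _ _ n
lemma irK_snK (j : ℤ) (n : ℕ) : irK K j n ≫ snK K j n = 𝟙 _ := hinr_hsnd _ _ _ _ _ n
lemma irZ_fsZ (j : ℤ) (n : ℕ) : irZ K j n ≫ fsZ K j n = 0 := hinr_hfst _ _ _ _ _ n
lemma irK_fsK (j : ℤ) (n : ℕ) : irK K j n ≫ fsK K j n = 0 := hinr_hfst _ _ _ _ _ n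
lemma totalZ (j : ℤ) (n : ℕ) : fsZ K j n ≫ inZ K j n + snZ K j n ≫ irZ K j n = 𝟙 _ :=
  htotal _ _ _ _ _ n
lemma totalK (j : ℤ) (n : ℕ) : fsK K j n ≫ inK K j n + snK K j n ≫ irK K j n = 𝟙 _ :=
  htotal _ _ _ _ _ n

lemma inZ_d (j : ℤ) (n : ℕ) : inZ K j n ≫ (DZ K j).d n = (DB K j).d n ≫ inZ K j (n + 1) :=
  hinl_d _ _ _ _ _ n
lemma inK_d (j : ℤ) (n : ℕ) : inK K j n ≫ (DK K j).d n = (DZ K j).d n ≫ inK K j (n + 1) :=
  hinl_d _ _ _ _ _ n
lemma snZ_d (j : ℤ) (n : ℕ) : snZ K j n ≫ (DH K j).d n = (DZ K j).d n ≫ snZ K j (n + 1) :=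
  hsnd_d _ _ _ _ _ n
lemma snK_d (j : ℤ) (n : ℕ) : snK K j n ≫ (DB K (j + 1)).d n = (DK K j).d n ≫ snK K j (n + 1) :=
  hsnd_d _ _ _ _ _ n

/-- augmentation relations. -/
lemma ιB_inZ (j : ℤ) : (DB K j).ι 0 ≫ inZ K j 0 = bι K j ≫ (DZ K j).ι 0 :=
  hιf _ _ _ _ _ 0
lemma ιZ_inK (j : ℤ) : (DZ K j).ι 0 ≫ inK K j 0 = K.iCycles j ≫ (DK K j).ι 0 :=
  hιf _ _ _ _ _ 0
lemma ιZ_snZ (j : ℤ) : (DZ K j).ι 0 ≫ snZ K j 0 = K.homologyπ j ≫ (DH K j).ι 0 :=
  hιg _ _ _ _ _ 0
lemma ιK_snK (j : ℤ) : (DK K j).ι 0 ≫ snK K j 0 = gK K j ≫ (DB K (j + 1)).ι 0 :=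
  hιg _ _ _ _ _ 0

/-- the horizontal differential. -/
noncomputable def hor (j : ℤ) (n : ℕ) : (DK K j).J n ⟶ (DK K (j + 1)).J n :=
  snK K j n ≫ inZ K (j + 1) n ≫ inK K (j + 1) n

lemma hor_sq (j : ℤ) (n : ℕ) : hor K j n ≫ hor K (j + 1) n = 0 := by
  unfold hor
  simp only [Category.assoc]
  rw [← Category.assoc (inK K (j + 1) n), inK_snK, zero_comp, comp_zero, comp_zero]

lemma hor_d (j : ℤ) (n : ℕ) :
    hor K j n ≫ (DK K (j + 1)).d n = (DK K j).d n ≫ hor K j (n + 1) := by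
  unfold hor
  simp only [Category.assoc]
  rw [inK_d, ← Category.assoc (inZ K (j + 1) n), inZ_d, Category.assoc,
    ← Category.assoc (snK K j n), snK_d, Category.assoc]

lemma ι_hor (j : ℤ) : (DK K j).ι 0 ≫ hor K j 0 = K.d j (j + 1) ≫ (DK K (j + 1)).ι 0 := by
  unfold hor
  rw [← Category.assoc, ιK_snK, Category.assoc, ← Category.assoc ((DB K (j + 1)).ι 0), ιB_inZ,
    Category.assoc, ιZ_inK, ← d_fac]
  simp only [Category.assoc]

/-- the rows of the double complex. -/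
noncomputable def row (n : ℕ) : CochainComplex C ℤ :=
  CochainComplex.of (fun j => (DK K j).J n) (fun j => hor K j n) (fun j => hor_sq K j n)

lemma row_d (n : ℕ) (j : ℤ) : (row K n).d j (j + 1) = hor K j n := by
  change CochainComplex.of.d (fun j => (DK K j).J n) (fun j => hor K j n) j (j + 1) = _
  rw [CochainComplex.of_d]

/-- the vertical maps. -/
noncomputable def vmap (n : ℕ) : row K n ⟶ row K (n + 1) :=
  CochainComplex.ofHom (X := row K n) (Y := row K (n + 1)) (fun j => (DK K j).d n) (fun j => by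
    rw [row_d, row_d]
    exact (hor_d K j n).symm)

lemma vmap_f (n : ℕ) (j : ℤ) : (vmap K n).f j = (DK K j).d n := rfl

lemma vmap_sq (n : ℕ) : vmap K n ≫ vmap K (n + 1) = 0 := by
  ext j
  rw [HomologicalComplex.comp_f, vmap_f, vmap_f, HomologicalComplex.zero_f]
  exact (DK K j).d_comp_d n

/-- the complex of rows. -/
noncomputable def rows : CochainComplex (CochainComplex C ℤ) ℕ :=
  CochainComplex.of (row K) (vmap K) (vmap_sq K)

lemma rows_d (n : ℕ) : (rows K).d n (n + 1) = vmap K n := by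
  change CochainComplex.of.d (row K) (vmap K) n (n + 1) = _
  rw [CochainComplex.of_d]

/-- the augmentation. -/
noncomputable def aug : K ⟶ row K 0 :=
  CochainComplex.ofHom (X := K) (Y := row K 0) (fun j => (DK K j).ι 0) (fun j => by
    rw [row_d]
    exact ι_hor K j)

lemma aug_f (j : ℤ) : (aug K).f j = (DK K j).ι 0 := rfl

lemma aug_vmap : aug K ≫ vmap K 0 = 0 := by
  ext j
  rw [HomologicalComplex.comp_f, vmap_f, aug_f, HomologicalComplex.zero_f]
  exact (DK K j).ι_comp_d 0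

end Data

end Groth.Agent.Lib.Helper17.CE
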