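import Groth.Agent.Lib.Helper17CE3
import Groth.Prelude.Def_CE

/-! Transfer of cosplice data to `CE.IsInjResolutionVia` (helper17). -/
set_option autoImplicit false
set_option backward.isDefEq.respectTransparency false
universe v u v' u'
open CategoryTheory CategoryTheory.Limits

namespace Groth.Agent.Lib.Helper17.CE

variable {C : Type u} [Category.{v} C] [Abelian C]
  {B : Type u'} [Category.{v'} B] [Preadditive B] [HasZeroObject B]

section Transfer

variable (R : CochainComplex B ℕ) (F : B ⥤ C) [F.PreservesZeroMorphisms] (D : CoData C)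
  (e : ∀ n, F.obj (R.X n) ≅ D.J n)
  (he : ∀ n, F.map (R.d n (n + 1)) ≫ (e (n + 1)).hom = (e n).hom ≫ D.d n)

/-- the extended complex. -/
noncomputable abbrev ext : CochainComplex B ℤ := R.extend ComplexShape.embeddingUpNat

/-- the iso in degree `n`. -/
noncomputable def extIso (n : ℕ) (q : ℤ) (hq : (n : ℤ) = q) : (ext R).X q ≅ R.X n :=
  R.extendXIso ComplexShape.embeddingUpNat (by simpa using hq)

lemma ext_d (n : ℕ) (q q' : ℤ) (hq : (n : ℤ) = q) (hq' : ((n + 1 : ℕ) : ℤ) = q') :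
    (ext R).d q q' =
      (extIso R n q hq).hom ≫ R.d n (n + 1) ≫ (extIso R (n + 1) q' hq').inv :=
  R.extend_d_eq ComplexShape.embeddingUpNat _ _

lemma ext_isZero (q : ℤ) (hq : q < 0) : IsZero ((ext R).X q) := by
  apply R.isZero_extend_X
  intro i hi
  simp at hi
  omega

/-- the transferred complex. -/
noncomputable abbrev TT : CochainComplex C ℤ :=
  (F.mapHomologicalComplex (ComplexShape.up ℤ)).obj (ext R)

variable {R F D}

/-- the iso in degree `n`. -/
noncomputable def eT (n : ℕ) (q : ℤ) (hq : (n : ℤ) = q) : (TT R F).X q ≅ D.J n :=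
  F.mapIso (extIso R n q hq) ≪≫ e n

include he in
lemma eT_d (n : ℕ) (q q' : ℤ) (hq : (n : ℤ) = q) (hq' : ((n + 1 : ℕ) : ℤ) = q') :
    (TT R F).d q q' ≫ (eT e (n + 1) q' hq').hom = (eT e n q hq).hom ≫ D.d n := by
  change F.map ((ext R).d q q') ≫ F.map (extIso R (n + 1) q' hq').hom ≫ (e (n + 1)).hom
    = (F.map (extIso R n q hq).hom ≫ (e n).hom) ≫ D.d n
  rw [ext_d R n q q' hq hq']
  simp only [Functor.map_comp, Category.assoc]
  rw [← F.map_comp_assoc (extIso R (n + 1) q' hq').inv, Iso.inv_hom_id, F.map_id,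
    Category.id_comp, he]

lemma TT_isZero (q : ℤ) (hq : q < 0) : IsZero ((TT R F).X q) :=
  F.map_isZero (ext_isZero R q hq)

include he in
theorem isInjResolutionVia_of_coData {M : C} (a : M ⟶ (TT R F).X 0) (ι₀ : M ⟶ D.J 0)
    (ha : a ≫ (eT e 0 0 (by simp)).hom = ι₀) [Mono ι₀] (h0 : ι₀ ≫ D.d 0 = 0)
    (hex : (ShortComplex.mk ι₀ (D.d 0) h0).Exact) :
    CE.IsInjResolutionVia (TT R F) M a := by
  have h01 := eT_d e he 0 0 1 (by simp) (by simp)
  have hz : a ≫ (TT R F).d 0 1 = 0 := by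
    rw [← cancel_mono (eT e 1 1 (by simp)).hom, Category.assoc, h01, ← Category.assoc, ha, h0,
      zero_comp]
  refine ⟨hz, ?_, ?_, ?_, ?_, ?_⟩
  · rw [CochainComplex.isStrictlyGE_iff]
    intro i hi
    exact TT_isZero i hi
  · intro q
    by_cases hq : q < 0
    · exact ⟨fun {X Y} g f _ => ⟨0, (TT_isZero (R := R) (F := F) q hq).eq_of_tgt _ _⟩⟩
    · obtain ⟨n, rfl⟩ : ∃ n : ℕ, (n : ℤ) = q := ⟨q.toNat, by omega⟩
      exact Injective.of_iso (eT e n _ rfl).symm inferInstance
  · intro q hq0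
    by_cases hq : q < 0
    · rw [HomologicalComplex.exactAt_iff]
      exact ShortComplex.exact_of_isZero_X₂ _ (TT_isZero (R := R) (F := F) q hq)
    · obtain ⟨n, hn⟩ : ∃ n : ℕ, ((n + 1 : ℕ) : ℤ) = q := ⟨(q - 1).toNat, by omega⟩
      rw [HomologicalComplex.exactAt_iff' _ (n : ℤ) q ((n + 1 + 1 : ℕ) : ℤ)
        (by simp; omega) (by simp; omega)]
      have h1 := eT_d e he n n q rfl hn
      have h2 := eT_d e he (n + 1) q ((n + 1 + 1 : ℕ) : ℤ) hn rfl
      refine ShortComplex.exact_of_iso (ShortComplex.isoMk (eT e n n rfl) (eT e (n + 1) q hn)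
        (eT e (n + 1 + 1) _ rfl) ?_ ?_).symm (D.exact_d_d n)
      · exact h1.symm
      · exact h2.symm
  · exact mono_of_mono_fac ha
  · refine ShortComplex.exact_of_iso (ShortComplex.isoMk (Iso.refl M) (eT e 0 0 (by simp))
      (eT e 1 1 (by simp)) ?_ ?_).symm hex
    · dsimp only [Iso.refl_hom]
      rw [Category.id_comp]
      exact ha.symm
    · exact h01.symm

end Transfer

end Groth.Agent.Lib.Helper17.CE
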