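import Groth.Agent.Lib.Helper17CE4

/-! Identification of the columns of cycles and cohomology of the Cartan–Eilenberg double complex
(helper17). -/
set_option autoImplicit false
set_option backward.isDefEq.respectTransparency false
universe v u
open CategoryTheory CategoryTheory.Limits

namespace Groth.Agent.Lib.Helper17.CE

variable {C : Type u} [Category.{v} C] [Abelian C]

section Desc

variable (L : CochainComplex C ℤ) (i : ℤ) {A : C} (k : L.cycles (i + 1) ⟶ A)
  (hk : L.toCycles i (i + 1) ≫ k = 0)

/-- descent to the homology. -/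
noncomputable def descH : L.homology (i + 1) ⟶ A :=
  (L.homologyIsCokernel i (i + 1) (by simp)).desc (CokernelCofork.ofπ k hk)

lemma π_descH : L.homologyπ (i + 1) ≫ descH L i k hk = k :=
  (L.homologyIsCokernel i (i + 1) (by simp)).fac (CokernelCofork.ofπ k hk)
    WalkingParallelPair.one

end Desc

variable [EnoughInjectives C] (K : CochainComplex C ℤ)

section Cycles

variable (p : ℤ) (n : ℕ)

instance : Mono (inZ K (p + 1) n ≫ inK K (p + 1) n) := mono_comp _ _

lemma inK_hor : inK K p n ≫ hor K p n = 0 := by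
  unfold hor
  rw [← Category.assoc, inK_snK, zero_comp]

lemma iCycles_snK : (row K n).iCycles p ≫ snK K p n = 0 := by
  have h := (row K n).iCycles_d p (p + 1)
  rw [row_d] at h
  unfold hor at h
  rw [← cancel_mono (inZ K (p + 1) n ≫ inK K (p + 1) n), zero_comp, Category.assoc]
  exact h

/-- inverse of the identification of the cycles. -/
noncomputable def eZinv : (DZ K p).J n ⟶ (row K n).cycles p :=
  (row K n).liftCycles (inK K p n) (p + 1) (by simp) (by rw [row_d]; exact inK_hor K p n)

lemma eZinv_i : eZinv K p n ≫ (row K n).iCycles p = inK K p n :=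
  (row K n).liftCycles_i _ _ _ _

/-- identification of the cycles of the rows. -/
noncomputable def eZ : (row K n).cycles p ≅ (DZ K p).J n where
  hom := (row K n).iCycles p ≫ fsK K p n
  inv := eZinv K p n
  hom_inv_id := by
    rw [← cancel_mono ((row K n).iCycles p), Category.assoc, Category.assoc, eZinv_i,
      Category.id_comp]
    have h2 : (row K n).iCycles p ≫ (fsK K p n ≫ inK K p n + snK K p n ≫ irK K p n) =
        (row K n).iCycles p := by
      rw [totalK]; exact Category.comp_id _
    rw [Preadditive.comp_add, ← Category.assoc _ (snK K p n), iCycles_snK, zero_comp,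
      add_zero] at h2
    exact h2
  inv_hom_id := by
    rw [← Category.assoc, eZinv_i, inK_fsK]

lemma eZ_inv_i : (eZ K p n).inv ≫ (row K n).iCycles p = inK K p n := eZinv_i K p n

lemma eZ_inv_vmap : (eZ K p n).inv ≫ HomologicalComplex.cyclesMap (vmap K n) p =
    (DZ K p).d n ≫ (eZ K p (n + 1)).inv := by
  rw [← cancel_mono ((row K (n + 1)).iCycles p), Category.assoc, Category.assoc,
    HomologicalComplex.cyclesMap_i, ← Category.assoc, eZ_inv_i, eZ_inv_i, vmap_f]
  exact inK_d K p n

lemma eZ_hom_vmap : HomologicalComplex.cyclesMap (vmap K n) p ≫ (eZ K p (n + 1)).hom =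
    (eZ K p n).hom ≫ (DZ K p).d n := by
  rw [← cancel_epi (eZ K p n).inv, ← Category.assoc, eZ_inv_vmap, Category.assoc,
    Iso.inv_hom_id, Category.comp_id, Iso.inv_hom_id_assoc]

lemma cyclesMap_aug_eZ : HomologicalComplex.cyclesMap (aug K) p ≫ (eZ K p 0).hom =
    (DZ K p).ι 0 := by
  rw [← cancel_mono (eZ K p 0).inv, Category.assoc, Iso.hom_inv_id, Category.comp_id,
    ← cancel_mono ((row K 0).iCycles p), Category.assoc, eZ_inv_i,
    HomologicalComplex.cyclesMap_i, aug_f]
  exact (ιZ_inK K p).symm

end Cycles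

section Homology

variable (i : ℤ) (n : ℕ)

lemma toCycles_eZ : (row K n).toCycles i (i + 1) ≫ (eZ K (i + 1) n).hom =
    snK K i n ≫ inZ K (i + 1) n := by
  change (row K n).toCycles i (i + 1) ≫ (row K n).iCycles (i + 1) ≫ fsK K (i + 1) n = _
  rw [← Category.assoc, HomologicalComplex.toCycles_i, row_d]
  unfold hor
  simp only [Category.assoc]
  rw [inK_fsK, Category.comp_id]

lemma snK_inZ_eZinv : snK K i n ≫ inZ K (i + 1) n ≫ (eZ K (i + 1) n).inv =
    (row K n).toCycles i (i + 1) := by
  rw [← Category.assoc, ← toCycles_eZ, Category.assoc, Iso.hom_inv_id, Category.comp_id]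

lemma inZ_eZinv_π : inZ K (i + 1) n ≫ (eZ K (i + 1) n).inv ≫ (row K n).homologyπ (i + 1) = 0 := by
  rw [← cancel_epi (snK K i n), comp_zero, ← Category.assoc, ← Category.assoc,
    Category.assoc (snK K i n), snK_inZ_eZinv, HomologicalComplex.toCycles_comp_homologyπ]

/-- the map from the cycles of the rows. -/
noncomputable def kH : (row K n).cycles (i + 1) ⟶ (DH K (i + 1)).J n :=
  (eZ K (i + 1) n).hom ≫ snZ K (i + 1) n

lemma toCycles_kH : (row K n).toCycles i (i + 1) ≫ kH K i n = 0 := by
  unfold kH
  rw [← Category.assoc, toCycles_eZ, Category.assoc, inZ_snZ, comp_zero]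

/-- identification of the homology of the rows. -/
noncomputable def eH : (row K n).homology (i + 1) ≅ (DH K (i + 1)).J n where
  hom := descH (row K n) i (kH K i n) (toCycles_kH K i n)
  inv := irZ K (i + 1) n ≫ (eZ K (i + 1) n).inv ≫ (row K n).homologyπ (i + 1)
  hom_inv_id := by
    rw [← cancel_epi ((row K n).homologyπ (i + 1)), ← Category.assoc, π_descH, Category.comp_id]
    unfold kH
    have h := totalZ K (i + 1) n
    have h' : snZ K (i + 1) n ≫ irZ K (i + 1) n = 𝟙 _ - fsZ K (i + 1) n ≫ inZ K (i + 1) n := by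
      rw [← h]; abel
    rw [Category.assoc, ← Category.assoc (snZ K (i + 1) n), h', Preadditive.sub_comp,
      Category.id_comp, Category.assoc, inZ_eZinv_π, comp_zero, sub_zero, Iso.hom_inv_id_assoc]
  inv_hom_id := by
    rw [Category.assoc, Category.assoc, π_descH]
    unfold kH
    rw [Iso.inv_hom_id_assoc, irZ_snZ]

lemma π_eH : (row K n).homologyπ (i + 1) ≫ (eH K i n).hom = kH K i n := π_descH _ _ _ _

lemma eH_hom_vmap : HomologicalComplex.homologyMap (vmap K n) (i + 1) ≫ (eH K i (n + 1)).hom =
    (eH K i n).hom ≫ (DH K (i + 1)).d n := by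
  rw [← cancel_epi ((row K n).homologyπ (i + 1)), HomologicalComplex.homologyπ_naturality_assoc,
    π_eH, ← Category.assoc ((row K n).homologyπ (i + 1)), π_eH]
  unfold kH
  rw [← Category.assoc, eZ_hom_vmap, Category.assoc, Category.assoc, snZ_d]

lemma homologyMap_aug_eH : HomologicalComplex.homologyMap (aug K) (i + 1) ≫ (eH K i 0).hom =
    (DH K (i + 1)).ι 0 := by
  rw [← cancel_epi (K.homologyπ (i + 1)), HomologicalComplex.homologyπ_naturality_assoc, π_eH]
  unfold kH
  rw [← Category.assoc, cyclesMap_aug_eZ]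
  exact ιZ_snZ K (i + 1)

end Homology

end Groth.Agent.Lib.Helper17.CE
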