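import Groth.Agent.Lib.Helper17CE5

/-! Existence of Cartan–Eilenberg resolutions (helper17). -/
set_option autoImplicit false
set_option backward.isDefEq.respectTransparency false
universe v u v' u'
open CategoryTheory CategoryTheory.Limits

namespace Groth.Agent.Lib.Helper17.CE

section

variable {C : Type u} [Category.{v} C] [Abelian C]
  {B : Type u'} [Category.{v'} B] [Preadditive B] [HasZeroObject B]
  {R : CochainComplex B ℕ} {F : B ⥤ C} [F.PreservesZeroMorphisms] {D : CoData C}
  (e : ∀ n, F.obj (R.X n) ≅ D.J n)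

lemma map_aug_eT {M' : B} (α : M' ⟶ R.X 0) :
    F.map (α ≫ (extIso R 0 0 (by simp)).inv) ≫ (eT e 0 0 (by simp)).hom =
      F.map α ≫ (e 0).hom := by
  change F.map _ ≫ F.map (extIso R 0 0 _).hom ≫ (e 0).hom = _
  rw [← F.map_comp_assoc, Category.assoc, Iso.inv_hom_id, Category.comp_id]

end

variable {C : Type u} [Category.{v} C] [Abelian C] [EnoughInjectives C]
  (K : CochainComplex C ℤ)

/-- the Cartan–Eilenberg double complex. -/
noncomputable abbrev CEI : CochainComplex (CochainComplex C ℤ) ℤ := ext (rows K)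

/-- its augmentation. -/
noncomputable def CEε : K ⟶ (CEI K).X 0 := aug K ≫ (extIso (rows K) 0 0 (by simp)).inv

lemma CEε_d : CEε K ≫ (CEI K).d 0 1 = 0 := by
  unfold CEε
  rw [ext_d (rows K) 0 0 1 (by simp) (by simp), Category.assoc, Iso.inv_hom_id_assoc,
    rows_d, ← Category.assoc, aug_vmap, zero_comp]

lemma DK_J_isZero (n : ℤ) [K.IsStrictlyGE n] (p : ℤ) (hp : p < n) (m : ℕ) :
    IsZero ((DK K p).J m) := by
  have hX : IsZero (K.X p) := K.isZero_of_isStrictlyGE n p hp
  have hZ : IsZero (K.cycles p) := IsZero.of_mono (K.iCycles p) hX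
  have hH : IsZero (K.homology p) := IsZero.of_epi (K.homologyπ p) hZ
  have hB : IsZero (Bd K p) := IsZero.of_mono (bι K p) hZ
  haveI : Epi (gK K p) := (sesK K p).epi_g
  have hB' : IsZero (Bd K (p + 1)) := IsZero.of_epi (gK K p) hX
  exact horseshoeL_J_isZero _ _ _ _ _ m
    (horseshoeL_J_isZero _ _ _ _ _ m (can_J_isZero hB m) hH) hB'

lemma CEI_isZero (n : ℤ) [K.IsStrictlyGE n] (p q : ℤ) (hp : p < n) :
    IsZero (((CEI K).X q).X p) := by
  by_cases hq : q < 0
  · exact (HomologicalComplex.eval C (ComplexShape.up ℤ) p).map_isZero (ext_isZero (rows K) q hq)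
  · obtain ⟨m, hm⟩ : ∃ m : ℕ, (m : ℤ) = q := ⟨q.toNat, by omega⟩
    exact IsZero.of_iso (DK_J_isZero K n p hp m)
      ((HomologicalComplex.eval C (ComplexShape.up ℤ) p).mapIso (extIso (rows K) m q hm))

theorem CE_eval (p : ℤ) :
    CE.IsInjResolutionVia (((HomologicalComplex.eval C (ComplexShape.up ℤ) p).mapHomologicalComplex
      (ComplexShape.up ℤ)).obj (CEI K)) (K.X p) ((CEε K).f p) := by
  refine isInjResolutionVia_of_coData (R := rows K)
    (F := HomologicalComplex.eval C (ComplexShape.up ℤ) p) (D := DK K p)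
    (fun m => Iso.refl _) ?_ ((CEε K).f p) ((DK K p).ι 0) ?_ ((DK K p).ι_comp_d 0)
    ((DK K p).exact_ι_d 0)
  · intro m
    rw [rows_d]
    dsimp only [Iso.refl_hom]
    rw [Category.comp_id, Category.id_comp]
    rfl
  · have h := map_aug_eT (R := rows K) (F := HomologicalComplex.eval C (ComplexShape.up ℤ) p)
      (D := DK K p) (fun m => Iso.refl _) (aug K)
    refine h.trans ?_
    dsimp only [Iso.refl_hom]
    rw [Category.comp_id]
    rfl

theorem CE_cycles (p : ℤ) :
    CE.IsInjResolutionVia (((HomologicalComplex.cyclesFunctor C (ComplexShape.up ℤ)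
      p).mapHomologicalComplex (ComplexShape.up ℤ)).obj (CEI K)) (K.cycles p)
      (HomologicalComplex.cyclesMap (CEε K) p) := by
  refine isInjResolutionVia_of_coData (R := rows K)
    (F := HomologicalComplex.cyclesFunctor C (ComplexShape.up ℤ) p) (D := DZ K p)
    (fun m => eZ K p m) ?_ (HomologicalComplex.cyclesMap (CEε K) p) ((DZ K p).ι 0) ?_
    ((DZ K p).ι_comp_d 0) ((DZ K p).exact_ι_d 0)
  · intro m
    rw [rows_d]
    exact eZ_hom_vmap K p m
  · have h := map_aug_eT (R := rows K)
      (F := HomologicalComplex.cyclesFunctor C (ComplexShape.up ℤ) p)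
      (D := DZ K p) (fun m => eZ K p m) (aug K)
    refine h.trans ?_
    exact cyclesMap_aug_eZ K p

theorem CE_homology (p : ℤ) :
    CE.IsInjResolutionVia (((HomologicalComplex.homologyFunctor C (ComplexShape.up ℤ)
      p).mapHomologicalComplex (ComplexShape.up ℤ)).obj (CEI K)) (K.homology p)
      (HomologicalComplex.homologyMap (CEε K) p) := by
  obtain ⟨i, rfl⟩ : ∃ i, p = i + 1 := ⟨p - 1, by omega⟩
  refine isInjResolutionVia_of_coData (R := rows K)
    (F := HomologicalComplex.homologyFunctor C (ComplexShape.up ℤ) (i + 1)) (D := DH K (i + 1))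
    (fun m => eH K i m) ?_ (HomologicalComplex.homologyMap (CEε K) (i + 1)) ((DH K (i + 1)).ι 0) ?_
    ((DH K (i + 1)).ι_comp_d 0) ((DH K (i + 1)).exact_ι_d 0)
  · intro m
    rw [rows_d]
    exact eH_hom_vmap K i m
  · have h := map_aug_eT (R := rows K)
      (F := HomologicalComplex.homologyFunctor C (ComplexShape.up ℤ) (i + 1))
      (D := DH K (i + 1)) (fun m => eH K i m) (aug K)
    refine h.trans ?_
    exact homologyMap_aug_eH K i

end Groth.Agent.Lib.Helper17.CE
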