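-- helper17: the functor induced on categorical pullbacks by a morphism of cospans.
import Groth.Prelude.Def_W4stkcategoriessitesFib

set_option autoImplicit false
open CategoryTheory CategoryTheory.Limits

universe v₁ u₁ v₂ u₂ v₃ u₃ v₄ u₄ v₅ u₅ v₆ u₆

namespace Groth.Agent.Lib.Helper17

section CPM

variable {X : Type u₁} {Y : Type u₂} {Z : Type u₃} {A : Type u₄} {B : Type u₅} {C : Type u₆}
  [Category.{v₁} X] [Category.{v₂} Y] [Category.{v₃} Z] [Category.{v₄} A] [Category.{v₅} B]
  [Category.{v₆} C] {H : X ⥤ Z} {I : Y ⥤ Z} {F : A ⥤ C} {G : B ⥤ C}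
  (ψ : CatCospanTransform H I F G)

theorem cpm_obj_fst (x : CategoricalPullback H I) :
    ((FibCat.categoricalPullbackMap ψ).obj x).fst = ψ.left.obj x.fst := rfl

theorem cpm_obj_snd (x : CategoricalPullback H I) :
    ((FibCat.categoricalPullbackMap ψ).obj x).snd = ψ.right.obj x.snd := rfl

theorem cpm_map_fst {x y : CategoricalPullback H I} (f : x ⟶ y) :
    ((FibCat.categoricalPullbackMap ψ).map f).fst = ψ.left.map f.fst := rfl

theorem cpm_map_snd {x y : CategoricalPullback H I} (f : x ⟶ y) :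
    ((FibCat.categoricalPullbackMap ψ).map f).snd = ψ.right.map f.snd := rfl

theorem cpm_obj_iso_hom (x : CategoricalPullback H I) :
    ((FibCat.categoricalPullbackMap ψ).obj x).iso.hom =
      ψ.squareLeft.iso.inv.app x.fst ≫ ψ.base.map x.iso.hom ≫
        ψ.squareRight.iso.hom.app x.snd := by
  simp [FibCat.categoricalPullbackMap]
  rfl

/-- S6420 -/
theorem cpm_faithful [ψ.left.Faithful] [ψ.right.Faithful] :
    (FibCat.categoricalPullbackMap ψ).Faithful := by
  refine ⟨fun {x y} f g h => ?_⟩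
  apply CategoricalPullback.hom_ext
  · apply ψ.left.map_injective
    exact congrArg (fun k => k.fst) h
  · apply ψ.right.map_injective
    exact congrArg (fun k => k.snd) h

/-- fullness -/
theorem cpm_full [ψ.left.Full] [ψ.right.Full] [ψ.base.Faithful] :
    (FibCat.categoricalPullbackMap ψ).Full := by
  refine ⟨fun {x y} k => ?_⟩
  obtain ⟨a, ha⟩ := ψ.left.map_surjective (X := x.fst) (Y := y.fst) k.fst
  obtain ⟨b, hb⟩ := ψ.right.map_surjective (X := x.snd) (Y := y.snd) k.snd
  have w : H.map a ≫ y.iso.hom = x.iso.hom ≫ I.map b := by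
    apply ψ.base.map_injective
    have hw := k.w
    rw [cpm_obj_iso_hom, cpm_obj_iso_hom] at hw
    have n1 := ψ.squareLeft.iso.inv.naturality a
    have n2 := ψ.squareRight.iso.hom.naturality b
    simp only [Functor.comp_map] at n1 n2
    rw [← ha, ← hb] at hw
    have hw' : ψ.squareLeft.iso.inv.app x.fst ≫ ψ.base.map (H.map a) ≫ ψ.base.map y.iso.hom ≫
        ψ.squareRight.iso.hom.app y.snd =
        ψ.squareLeft.iso.inv.app x.fst ≫ ψ.base.map x.iso.hom ≫ ψ.base.map (I.map b) ≫
        ψ.squareRight.iso.hom.app y.snd := by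
      rw [← reassoc_of% n1, n2]
      refine hw.trans ?_
      exact (Category.assoc _ _ _).trans (congrArg _ (Category.assoc _ _ _))
    rw [cancel_epi] at hw'
    simp only [← Category.assoc, cancel_mono] at hw'
    simpa using hw'
  exact ⟨⟨a, b, w⟩, CategoricalPullback.hom_ext ha hb⟩

/-- essential surjectivity -/
theorem cpm_essSurj [ψ.left.EssSurj] [ψ.right.EssSurj] [ψ.base.Full] [ψ.base.Faithful] :
    (FibCat.categoricalPullbackMap ψ).EssSurj := by
  refine ⟨fun t => ?_⟩
  let x := ψ.left.objPreimage t.fst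
  let y := ψ.right.objPreimage t.snd
  let e₁ : ψ.left.obj x ≅ t.fst := ψ.left.objObjPreimageIso t.fst
  let e₂ : ψ.right.obj y ≅ t.snd := ψ.right.objObjPreimageIso t.snd
  let θ : ψ.base.obj (H.obj x) ≅ ψ.base.obj (I.obj y) :=
    ψ.squareLeft.iso.app x ≪≫ F.mapIso e₁ ≪≫ t.iso ≪≫ (G.mapIso e₂).symm ≪≫
      (ψ.squareRight.iso.app y).symm
  let φ : H.obj x ≅ I.obj y := ψ.base.preimageIso θ
  have hφ : ψ.base.map φ.hom = θ.hom := ψ.base.map_preimage θ.hom
  let s : CategoricalPullback H I := ⟨x, y, φ⟩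
  refine ⟨s, ⟨CategoricalPullback.mkIso e₁ e₂ ?_⟩⟩
  rw [cpm_obj_iso_hom]
  change F.map e₁.hom ≫ t.iso.hom = (ψ.squareLeft.iso.inv.app x ≫ ψ.base.map φ.hom ≫
    ψ.squareRight.iso.hom.app y) ≫ G.map e₂.hom
  rw [hφ]
  simp [θ]

theorem cpm_isEquivalence [ψ.left.IsEquivalence] [ψ.right.IsEquivalence] [ψ.base.Full]
    [ψ.base.Faithful] : (FibCat.categoricalPullbackMap ψ).IsEquivalence := by
  have := cpm_faithful ψ
  have := cpm_full ψ
  have := cpm_essSurj ψ
  exact { }

end CPM

end Groth.Agent.Lib.Helper17
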