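-- helper17: the categorical pullback of a fibred category along a functor is fibred.
import Groth.Agent.Lib.Helper17FibCat
import Mathlib.CategoryTheory.Limits.Shapes.Pullback.Categorical.Basic

set_option autoImplicit false
open CategoryTheory CategoryTheory.Functor CategoryTheory.Limits

universe v₁ u₁ v₂ u₂ v₃ u₃

namespace Groth.Agent.Lib.Helper17

section CatPbFib

variable {C : Type u₁} [Category.{v₁} C] {D : Type u₂} [Category.{v₂} D] (u : C ⥤ D)
  {𝒮 : Type u₃} [Category.{v₃} 𝒮] (q : 𝒮 ⥤ D)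

theorem catPb_π₁_isHomLift {t t' : CategoricalPullback u q} (m : t' ⟶ t) :
    (CategoricalPullback.π₁ u q).IsHomLift m.fst m :=
  IsHomLift.map (CategoricalPullback.π₁ u q) m

theorem catPb_fst_eq_of_isHomLift {t t' : CategoricalPullback u q} (m : t' ⟶ t)
    (h : t'.fst ⟶ t.fst) (hm : (CategoricalPullback.π₁ u q).IsHomLift h m) : m.fst = h :=
  @map_eq_of_isHomLift _ _ _ _ (CategoricalPullback.π₁ u q) t' t h m hm

/-- Strongly cartesian lifts in the categorical pullback. -/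
theorem catPb_exists_isStronglyCartesian [q.IsFibered] (t : CategoricalPullback u q) {V : C}
    (f : V ⟶ t.fst) : ∃ (t' : CategoricalPullback u q) (m : t' ⟶ t),
      (CategoricalPullback.π₁ u q).IsStronglyCartesian f m := by
  obtain ⟨y', ψ, hψ⟩ := IsPreFibered.exists_isCartesian' (p := q) (a := t.snd)
    (u.map f ≫ t.iso.hom)
  have hsc : q.IsStronglyCartesian (u.map f ≫ t.iso.hom) ψ := inferInstance
  have hy' : q.obj y' = u.obj V := IsHomLift.domain_eq q (u.map f ≫ t.iso.hom) ψ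
  have hψmap : q.map ψ = eqToHom hy' ≫ u.map f ≫ t.iso.hom := by
    have := IsHomLift.fac' q (u.map f ≫ t.iso.hom) ψ
    simpa using this
  let t' : CategoricalPullback u q := ⟨V, y', eqToIso hy'.symm⟩
  have w : u.map f ≫ t.iso.hom = t'.iso.hom ≫ q.map ψ := by
    rw [hψmap]; simp [t']
  let m : t' ⟶ t := ⟨f, ψ, w⟩
  refine ⟨t', m, ?_⟩
  refine { toIsHomLift := catPb_π₁_isHomLift u q m, universal_property' := ?_ }
  intro t'' h₀ k hk
  have hk1' : k.fst = h₀ ≫ f := catPb_fst_eq_of_isHomLift u q k (h₀ ≫ f) hk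
  obtain ⟨h, hh⟩ : ∃ h : t''.fst ⟶ V, h = h₀ := ⟨h₀, rfl⟩
  have hk1 : k.fst = h ≫ f := by rw [hh]; exact hk1'
  have hk2 : q.map k.snd = (t''.iso.inv ≫ u.map h) ≫ u.map f ≫ t.iso.hom := by
    have := k.w
    rw [hk1, u.map_comp] at this
    rw [Category.assoc, Iso.eq_inv_comp, ← this, Category.assoc]
  have hlift : q.IsHomLift ((t''.iso.inv ≫ u.map h) ≫ u.map f ≫ t.iso.hom) k.snd :=
    IsHomLift.of_fac' q _ k.snd rfl rfl (by simpa using hk2)
  obtain ⟨χ₂, ⟨hχ1, hχ2⟩, hχu⟩ := IsStronglyCartesian.universal_property q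
    (u.map f ≫ t.iso.hom) ψ (t''.iso.inv ≫ u.map h) _ rfl k.snd
  have hχmap : q.map χ₂ = (t''.iso.inv ≫ u.map h) ≫ eqToHom hy'.symm := by
    have := IsHomLift.fac' q (t''.iso.inv ≫ u.map h) χ₂
    simpa using this
  have wχ : u.map h ≫ t'.iso.hom = t''.iso.hom ≫ q.map χ₂ := by
    rw [hχmap]; simp [t']
  refine ⟨⟨h, χ₂, wχ⟩, ⟨?_, ?_⟩, ?_⟩
  · rw [← hh]
    exact catPb_π₁_isHomLift u q (⟨h, χ₂, wχ⟩ : t'' ⟶ t')
  · apply CategoricalPullback.hom_ext
    · exact hk1.symm
    · exact hχ2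
  · rintro χ' ⟨hχ'1, hχ'2⟩
    have e1 : χ'.fst = h := by
      rw [hh]; exact catPb_fst_eq_of_isHomLift u q χ' h₀ hχ'1
    have e2 : χ'.snd ≫ ψ = k.snd := congrArg (fun z => z.snd) hχ'2
    have hχ'map : q.map χ'.snd = (t''.iso.inv ≫ u.map h) ≫ eqToHom hy'.symm := by
      have := χ'.w
      rw [e1] at this
      rw [Category.assoc, Iso.eq_inv_comp, ← this]
      simp [t']
    have hl : q.IsHomLift (t''.iso.inv ≫ u.map h) χ'.snd :=
      IsHomLift.of_fac' q _ χ'.snd rfl hy' (by simpa using hχ'map)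
    apply CategoricalPullback.hom_ext
    · exact e1
    · exact hχu χ'.snd ⟨hl, e2⟩

/-- S12807 -/
theorem catPb_π₁_isFibered [q.IsFibered] : (CategoricalPullback.π₁ u q).IsFibered := by
  apply IsFibered.of_exists_isStronglyCartesian
  intro t V f
  exact catPb_exists_isStronglyCartesian u q t f

end CatPbFib

end Groth.Agent.Lib.Helper17
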