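-- helper17: the categorical pullback of a functor over the base with the identity.
import Groth.Agent.Lib.Helper17FibCat
import Mathlib.CategoryTheory.Limits.Shapes.Pullback.Categorical.Basic

set_option autoImplicit false
open CategoryTheory CategoryTheory.Functor CategoryTheory.Limits

universe v₁ u₁ v₂ u₂ v₃ u₃

namespace Groth.Agent.Lib.Helper17

section CatPbGrpd

variable {S : Type u₁} [Category.{v₁} S] {X : Type u₂} [Category.{v₂} X]
  {Y : Type u₃} [Category.{v₃} Y] (πX : X ⥤ S) (F : Y ⥤ X)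

theorem catPbId_π₂_isHomLift {t t' : CategoricalPullback F (𝟭 X)} (m : t' ⟶ t) :
    (CategoricalPullback.π₂ F (𝟭 X)).IsHomLift m.snd m :=
  IsHomLift.map (CategoricalPullback.π₂ F (𝟭 X)) m

theorem catPbId_snd_eq_of_isHomLift {t t' : CategoricalPullback F (𝟭 X)} (m : t' ⟶ t)
    (h : t'.snd ⟶ t.snd) (hm : (CategoricalPullback.π₂ F (𝟭 X)).IsHomLift h m) : m.snd = h :=
  @map_eq_of_isHomLift _ _ _ _ (CategoricalPullback.π₂ F (𝟭 X)) t' t h m hm

theorem isFibGrpd_catPbId_π₂ (hX : FibCat.IsFibGrpd πX) (hY : FibCat.IsFibGrpd (F ⋙ πX)) :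
    FibCat.IsFibGrpd (CategoricalPullback.π₂ F (𝟭 X)) := by
  refine ⟨?_, ?_⟩
  · intro t x' g₀
    obtain ⟨g, hg⟩ : ∃ g : x' ⟶ t.snd, g = g₀ := ⟨g₀, rfl⟩
    obtain ⟨y', a, ha⟩ := hY.exists_lift (x := t.fst) (πX.map (g ≫ t.iso.inv))
    have ha' : πX.IsHomLift (πX.map (g ≫ t.iso.inv)) (F.map a) :=
      (isHomLift_comp_iff F πX _ a).mp ha
    have hsc : πX.IsStronglyCartesian (πX.map (g ≫ t.iso.inv)) (g ≫ t.iso.inv) :=
      hX.isStronglyCartesian _
    obtain ⟨φ', ⟨hφ'1, hφ'2⟩, -⟩ := IsStronglyCartesian.universal_property πX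
      (πX.map (g ≫ t.iso.inv)) (g ≫ t.iso.inv) (𝟙 (πX.obj x')) (πX.map (g ≫ t.iso.inv))
      (by simp) (F.map a)
    have hiso : IsIso φ' := IsFibGrpd.isIso_of_isHomLift_id hX (πX.obj x') φ'
    let t' : CategoricalPullback F (𝟭 X) := ⟨y', x', asIso φ'⟩
    have w : F.map a ≫ t.iso.hom = t'.iso.hom ≫ (𝟭 X).map g := by
      change F.map a ≫ t.iso.hom = φ' ≫ g
      rw [← hφ'2]; simp
    let m : t' ⟶ t := ⟨a, g, w⟩
    refine ⟨t', m, ?_⟩
    rw [← hg]
    exact catPbId_π₂_isHomLift F m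
  · intro t' t m
    refine { toIsHomLift := inferInstance, universal_property' := ?_ }
    intro t'' c₀ k hk
    obtain ⟨c, hc⟩ : ∃ c : t''.snd ⟶ t'.snd, c = c₀ := ⟨c₀, rfl⟩
    have hk2 : k.snd = c ≫ m.snd := by
      rw [hc]
      exact catPbId_snd_eq_of_isHomLift F k _ hk
    -- the morphism of `X` that the first component must map to
    let τ : F.obj t''.fst ⟶ F.obj t'.fst := t''.iso.hom ≫ c ≫ t'.iso.inv
    have hmw : m.snd ≫ t.iso.inv = t'.iso.inv ≫ F.map m.fst := by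
      have := m.w
      rw [Iso.comp_inv_eq, Category.assoc, Iso.eq_inv_comp]
      exact this.symm
    have hFk : F.map k.fst = τ ≫ F.map m.fst := by
      have := k.w
      have h1 : F.map k.fst = t''.iso.hom ≫ k.snd ≫ t.iso.inv := by
        rw [← Category.assoc, Iso.eq_comp_inv]; exact this
      rw [h1, hk2]
      simp only [τ, Category.assoc, hmw]
    have hsc := hY.isStronglyCartesian m.fst
    have hkl : (F ⋙ πX).IsHomLift (πX.map τ ≫ (F ⋙ πX).map m.fst) k.fst := by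
      have e : πX.map τ ≫ (F ⋙ πX).map m.fst = (F ⋙ πX).map k.fst := by
        simp only [Functor.comp_map, hFk, Functor.map_comp]
      rw [e]; infer_instance
    obtain ⟨χ₁, ⟨hχ1, hχ2⟩, hχu⟩ := IsStronglyCartesian.universal_property (F ⋙ πX)
      ((F ⋙ πX).map m.fst) m.fst (πX.map τ) _ rfl k.fst
    have hscX := hX.isStronglyCartesian (F.map m.fst)
    have hFχ : F.map χ₁ = τ := by
      have k1 : πX.IsHomLift (πX.map τ) (F.map χ₁) := (isHomLift_comp_iff F πX _ χ₁).mp hχ1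
      have k2 : πX.IsHomLift (πX.map τ) τ := inferInstance
      apply IsStronglyCartesian.ext πX (πX.map (F.map m.fst)) (F.map m.fst) (πX.map τ)
      rw [← F.map_comp, hχ2, hFk]
    have wχ : F.map χ₁ ≫ t'.iso.hom = t''.iso.hom ≫ (𝟭 X).map c := by
      rw [hFχ]; simp [τ]
    refine ⟨⟨χ₁, c, wχ⟩, ⟨?_, ?_⟩, ?_⟩
    · rw [← hc]
      exact catPbId_π₂_isHomLift F (⟨χ₁, c, wχ⟩ : t'' ⟶ t')
    · apply CategoricalPullback.hom_ext
      · exact hχ2
      · exact hk2.symm
    · rintro χ' ⟨hχ'1, hχ'2⟩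
      have e2 : χ'.snd = c := by
        rw [hc]; exact catPbId_snd_eq_of_isHomLift F χ' c₀ hχ'1
      have e1 : χ'.fst ≫ m.fst = k.fst := congrArg (fun z => z.fst) hχ'2
      have hFχ' : F.map χ'.fst = τ := by
        have := χ'.w
        rw [e2] at this
        have h2 : F.map χ'.fst = (t''.iso.hom ≫ (𝟭 X).map c) ≫ t'.iso.inv := by
          rw [Iso.eq_comp_inv]; exact this
        rw [h2]; simp [τ]
      have hl : (F ⋙ πX).IsHomLift (πX.map τ) χ'.fst := by
        rw [isHomLift_comp_iff, hFχ']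
        infer_instance
      apply CategoricalPullback.hom_ext
      · exact hχu χ'.fst ⟨hl, e1⟩
      · exact e2

end CatPbGrpd

end Groth.Agent.Lib.Helper17
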