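import Groth.Agent.Lib.Helper17GammaZTri1

/-!
# The universal property of `RΓ_Z K ⟶ K` (helper17)

`RΓ_Z K ⟶ K` is the universal arrow to `K` from objects of `D(O_X)` vanishing on the open complement
of `Z`.
-/

set_option autoImplicit false
set_option linter.style.haveILetI false
set_option maxHeartbeats 400000

universe u

open CategoryTheory CategoryTheory.Limits Opposite AlgebraicGeometry TopologicalSpace
  Pretriangulated ZeroObject

attribute [local instance] HasDerivedCategory.standard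

namespace Groth.Agent.Lib.Helper17.GammaZTri

open Groth.Agent.Lib.Helper17.MV Groth.Agent.Lib.Helper17.KInj Groth.Agent.Lib.Helper17.AffPush
  Groth.Agent.Lib.Helper17.QCPush Groth.Agent.Lib.Helper17.DQAdj DerivedCategory
  Groth.Agent.Lib.Helper17.UnitSupp

attribute [local instance] Groth.Agent.Lib.Helper17.QCPush.hasRpush

section Opens

variable {X : Scheme.{u}} (V : X.Opens)

/-- `Q(j_* j^* I) ≅ Rj_* j^* Q(I)` for `I` K-injective. -/
noncomputable def vIso (I : CochainComplex X.Modules ℤ) [I.IsKInjective] :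
    (Q : _ ⥤ DCoh.D X).obj (((T V).mapHomologicalComplex (ComplexShape.up ℤ)).obj I) ≅
      (DCoh.Rpush V.ι).obj ((DCoh.restrictD V.ι).obj ((Q : _ ⥤ DCoh.D X).obj I)) :=
  ((vertexIso V (𝟭 _) (Scheme.Modules.pushforward V.ι) (Functor.rightUnitor _).symm I
      (Iso.refl _)) ≪≫
    (Q : _ ⥤ DCoh.D X).mapIso
      ((NatIso.mapHomologicalComplex (Functor.rightUnitor (T V)) (ComplexShape.up ℤ)).app I)).symm

theorem isUniv_Q_map_ιC (I : CochainComplex X.Modules ℤ) [I.IsKInjective]
    (hI : ∀ n, Injective (I.X n)) :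
    IsUniv (PZ V) ((Q : _ ⥤ DCoh.D X).map (ιC V.ι I)) := by
  intro A hA
  obtain ⟨δ, hδ⟩ := exists_distinguished V I hI
  exact bijective_postcomp_mor₁' _ hδ A
    (fun φ => by
      have h := hom_rpush_eq_zero V A hA _ (φ ≫ (vIso V I).hom)
      exact (cancel_mono (vIso V I).hom).1 (h.trans zero_comp.symm))
    (fun φ => hom_shift_rpush_eq_zero V A hA _ _ (vIso V I) φ)

variable [CxOX.HasRgammaZ V.ι]

/-- **Universal property of `RΓ_Z K ⟶ K`.** -/
theorem isUniv_RgammaZToId (K : DCoh.D X) :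
    IsUniv (PZ V) ((CxOX.RgammaZToId V.ι).app K) := by
  haveI := isGrothendieckAbelian X
  obtain ⟨I, hIK, hIinj, ⟨e⟩⟩ := exists_model K
  haveI := hIK
  haveI : IsIso ((rgUnit V.ι).app I) :=
    isIso_app_of_isKInjective (DCoh.gammaZ V.ι) _ (rgUnit V.ι) I
  have h1 := rgUnit_RgammaZToId V.ι I
  have nat := (CxOX.RgammaZToId V.ι).naturality e.hom
  have h2 : (CxOX.RgammaZToId V.ι).app K =
      ((CxOX.RgammaZ V.ι).mapIso e ≪≫ (asIso ((rgUnit V.ι).app I)).symm).hom ≫
        ((Q : _ ⥤ DCoh.D X).map (ιC V.ι I)) ≫ e.symm.hom := by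
    rw [← h1]
    simp only [Iso.trans_hom, Functor.mapIso_hom, Iso.symm_hom, asIso_inv, Category.assoc,
      IsIso.inv_hom_id_assoc]
    rw [reassoc_of% nat]
    simp
  rw [h2]
  exact IsUniv.iso_comp _ ((isUniv_Q_map_ιC V I hIinj).comp_iso _ e.symm) _

lemma PZ_RgammaZ (K : DCoh.D X) : PZ V ((CxOX.RgammaZ V.ι).obj K) :=
  isZero_restrictD_RgammaZ V K

end Opens

end Groth.Agent.Lib.Helper17.GammaZTri
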