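import Groth.Agent.Lib.Helper17KosOrth8
import Groth.Agent.Lib.Helper17GammaZTri2
import Groth.Agent.Lib.Helper1ExtCech
import Groth.Agent.Lib.Helper10DCCech

/-!
# The extended alternating Čech complex represents `RΓ_Z` on `Spec A` (helper17)

The augmentation `extCech M fs ⟶ M` becomes, after `tildeD`, the universal arrow to `M~` from the
objects of `D(O_X)` vanishing on `U = X ∖ V(fs)`; so does `RΓ_Z(M~) ⟶ M~`.
-/

set_option autoImplicit false
set_option linter.style.haveILetI false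
set_option maxHeartbeats 400000

universe u

open CategoryTheory CategoryTheory.Limits AlgebraicGeometry DerivedCategory Pretriangulated

attribute [local instance] HasDerivedCategory.standard

namespace Groth.Agent.Lib.Helper17.CechRG

open Groth.Agent.Lib.Helper17.KosOrth Groth.Agent.Lib.Helper17.DQAdj
  Groth.Agent.Lib.Helper17.GammaZTri Groth.Agent.Lib.Helper17.QCPush
  Groth.Agent.Lib.Helper17.AffPush

attribute [local instance] Groth.Agent.Lib.Helper17.QCPush.hasRpush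

variable (A : Type u) [CommRing A]

section Alg

/-- if some `f ∈ FS` acts invertibly on `N`, then `N` is orthogonal to the Koszul complex. -/
theorem hom_Kq_eq_zero_of_isIso_smul (FS : List A) (f : A) (hf : f ∈ FS) (N : DA A)
    (hN : IsIso (f • 𝟙 N)) (m : ℤ) (ψ : Kq A FS ⟶ N⟦m⟧) : ψ = 0 := by
  obtain ⟨k, hk⟩ := exists_pow_smul_id_eq_zero A FS f hf
  have hpow : ∀ k : ℕ, IsIso (f ^ k • 𝟙 N) := by
    intro k
    induction k with
    | zero => rw [pow_zero, one_smul]; infer_instance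
    | succ k ih =>
      have h : f ^ (k + 1) • 𝟙 N = (f ^ k • 𝟙 N) ≫ (f • 𝟙 N) := by
        rw [Linear.smul_comp, Category.id_comp, smul_smul, pow_succ]
      rw [h]
      infer_instance
  haveI := hpow k
  have h1 : f ^ k • ψ = 0 := by
    have : f ^ k • ψ = (f ^ k • 𝟙 (Kq A FS)) ≫ ψ := by rw [Linear.smul_comp, Category.id_comp]
    rw [this, hk, zero_comp]
  have h2 : f ^ k • ψ = ψ ≫ (f ^ k • 𝟙 N)⟦m⟧' := by
    rw [Functor.map_smul, CategoryTheory.Functor.map_id, Linear.comp_smul, Category.comp_id]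
  rw [h2] at h1
  exact (cancel_mono ((f ^ k • 𝟙 N)⟦m⟧')).1 (h1.trans zero_comp.symm)

lemma isIso_smul_Q_obj (f : A) (X : DRing.Cx A) (h : IsIso (f • 𝟙 X)) :
    IsIso (f • 𝟙 ((Q : _ ⥤ DA A).obj X)) := by
  have : f • 𝟙 ((Q : _ ⥤ DA A).obj X) = Q.map (f • 𝟙 X) := by
    rw [Functor.map_smul, CategoryTheory.Functor.map_id]
  rw [this]
  infer_instance

variable (M : ModuleCat.{u} A)

/-- the augmentation `extCech M fs ⟶ M[0]`. -/
noncomputable def aug : (fs : List A) → (DerCA.extCech M fs ⟶ DerCA.extCech M [])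
  | [] => 𝟙 _
  | f :: fs => CochainComplex.mappingCocone.fst
      (DerCA.locCxUnit (Submonoid.powers f) (DerCA.extCech M fs)) ≫ aug fs

lemma torsH_extCech (fs : List A) : ∀ f ∈ fs, TorsH A f ((Q : _ ⥤ DA A).obj (DerCA.extCech M fs)) := by
  intro f hf i x
  let e : (homologyFunctor (ModuleCat.{u} A) i).obj ((Q : _ ⥤ DA A).obj (DerCA.extCech M fs)) ≅
      (DerCA.extCech M fs).homology i := (homologyFunctorFactors (ModuleCat.{u} A) i).app _
  obtain ⟨k, hk⟩ := Groth.Agent.Lib.Helper1.ExtCech.pt_extCechH fs M f hf i (e.hom.hom x)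
  refine ⟨k, ?_⟩
  have hinj : Function.Injective e.hom.hom := (ModuleCat.mono_iff_injective e.hom).1 inferInstance
  apply hinj
  rw [map_smul, hk, map_zero]

end Alg

section Geom

variable [PreservesFiniteLimits (tilde.functor (CommRingCat.of A))] (FS : List A)

lemma isQCohD_tildeD (N : DA A) : DCoh.IsQCohD ((DCoh.tildeD (CommRingCat.of A)).obj N) :=
  ((Groth.Agent.S0997.result (CommRingCat.of A)).2.2 _).2 ⟨N, ⟨Iso.refl _⟩⟩

/-- `N~ ≅ Rj_* j^* N~` when some `f ∈ FS` acts invertibly on `N`. -/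
theorem isIso_unit_tildeD_of_isIso_smul (f : A) (hf : f ∈ FS) (N : DA A) (hN : IsIso (f • 𝟙 N)) :
    IsIso ((adjD (UA A FS).ι).unit.app ((DCoh.tildeD (CommRingCat.of A)).obj N)) := by
  refine isIso_unit_of_orth A FS (adjD (UA A FS).ι) _ (isQCohD_tildeD A N) (fun n => ?_)
  have h := (orth_tildeD_iff A FS N (-n)).2
    (fun ψ => hom_Kq_eq_zero_of_isIso_smul A FS f hf N hN (-n) ψ)
  rwa [neg_neg] at h

theorem isUniv_tildeD_map_fst (f : A) (hf : f ∈ FS) (K : DRing.Cx A) :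
    IsUniv (PZ (UA A FS)) ((DCoh.tildeD (CommRingCat.of A)).map ((Q : _ ⥤ DA A).map
      (CochainComplex.mappingCocone.fst (DerCA.locCxUnit (Submonoid.powers f) K)))) := by
  intro P hP
  have hT := (DCoh.tildeD (CommRingCat.of A)).map_distinguished _
    (DerivedCategory.mappingCocone_triangle_distinguished
      (DerCA.locCxUnit (Submonoid.powers f) K))
  haveI hiso := isIso_unit_tildeD_of_isIso_smul A FS f hf
    ((Q : _ ⥤ DA A).obj ((DerCA.locCx (Submonoid.powers f)).obj K))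
    (isIso_smul_Q_obj A f _ (Groth.Agent.Lib.Helper10.DCCech.isIso_smul_locCx f K))
  let e := asIso ((adjD (UA A FS).ι).unit.app ((DCoh.tildeD (CommRingCat.of A)).obj
    ((Q : _ ⥤ DA A).obj ((DerCA.locCx (Submonoid.powers f)).obj K))))
  refine bijective_postcomp_mor₁' _ hT P (fun φ => ?_) (fun φ => ?_)
  · have h1 := hom_rpush_eq_zero (UA A FS) P hP _ (φ ≫ e.hom)
    exact (cancel_mono e.hom).1 (h1.trans zero_comp.symm)
  · exact hom_shift_rpush_eq_zero (UA A FS) P hP _ _ e φ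

variable (M : ModuleCat.{u} A)

lemma isUniv_id {C : Type*} [Category C] (P : ObjectProperty C) (K : C) : IsUniv P (𝟙 K) := by
  intro Q' _
  have : (fun φ : Q' ⟶ K => φ ≫ 𝟙 K) = id := by
    funext φ
    exact Category.comp_id φ
  rw [this]
  exact Function.bijective_id

lemma IsUniv.comp' {C : Type*} [Category C] (P : ObjectProperty C) {Q₁ Q₂ K : C} {ε₁ : Q₁ ⟶ Q₂}
    {ε₂ : Q₂ ⟶ K} (h₁ : IsUniv P ε₁) (h₂ : IsUniv P ε₂) : IsUniv P (ε₁ ≫ ε₂) := by
  intro Q' hQ'
  have : (fun φ : Q' ⟶ Q₁ => φ ≫ ε₁ ≫ ε₂) = (fun ψ : Q' ⟶ Q₂ => ψ ≫ ε₂) ∘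
      (fun φ : Q' ⟶ Q₁ => φ ≫ ε₁) := by
    funext φ
    exact (Category.assoc _ _ _).symm
  rw [this]
  exact (h₂ Q' hQ').comp (h₁ Q' hQ')

theorem isUniv_tildeD_map_aug : ∀ fs : List A, (∀ f ∈ fs, f ∈ FS) →
    IsUniv (PZ (UA A FS)) ((DCoh.tildeD (CommRingCat.of A)).map
      ((Q : _ ⥤ DA A).map (aug A M fs)))
  | [], _ => by
    have : (DCoh.tildeD (CommRingCat.of A)).map ((Q : _ ⥤ DA A).map (aug A M [])) = 𝟙 _ := by
      change (DCoh.tildeD (CommRingCat.of A)).map ((Q : _ ⥤ DA A).map (𝟙 _)) = 𝟙 _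
      rw [CategoryTheory.Functor.map_id, CategoryTheory.Functor.map_id]
    rw [this]
    exact isUniv_id _ _
  | f :: fs, h => by
    have : (DCoh.tildeD (CommRingCat.of A)).map ((Q : _ ⥤ DA A).map (aug A M (f :: fs))) =
        (DCoh.tildeD (CommRingCat.of A)).map ((Q : _ ⥤ DA A).map
          (CochainComplex.mappingCocone.fst
            (DerCA.locCxUnit (Submonoid.powers f) (DerCA.extCech M fs)))) ≫
        (DCoh.tildeD (CommRingCat.of A)).map ((Q : _ ⥤ DA A).map (aug A M fs)) := by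
      rw [← Functor.map_comp, ← Functor.map_comp]
      rfl
    rw [this]
    exact IsUniv.comp' _ (isUniv_tildeD_map_fst A FS f (h f List.mem_cons_self) _)
      (isUniv_tildeD_map_aug fs (fun g hg => h g (List.mem_cons_of_mem f hg)))

/-- the extended alternating Čech complex represents `RΓ_Z(M~)`. -/
theorem nonempty_tildeD_extCech_iso [CxOX.HasRgammaZ (UA A FS).ι] :
    Nonempty ((DCoh.tildeD (CommRingCat.of A)).obj ((Q : _ ⥤ DA A).obj (DerCA.extCech M FS)) ≅
      (CxOX.RgammaZ (UA A FS).ι).obj ((DCoh.tildeD (CommRingCat.of A)).obj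
        ((Q : _ ⥤ DA A).obj (DerCA.extCech M [])))) := by
  have h1 := isUniv_tildeD_map_aug A FS M FS (fun f hf => hf)
  have h2 := isUniv_RgammaZToId (UA A FS) ((DCoh.tildeD (CommRingCat.of A)).obj
    ((Q : _ ⥤ DA A).obj (DerCA.extCech M [])))
  have hP1 : PZ (UA A FS) ((DCoh.tildeD (CommRingCat.of A)).obj
      ((Q : _ ⥤ DA A).obj (DerCA.extCech M FS))) :=
    (isZero_restrictD_tildeD_iff A FS _).2 (torsH_extCech A M FS)
  have hP2 := PZ_RgammaZ (UA A FS) ((DCoh.tildeD (CommRingCat.of A)).obj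
    ((Q : _ ⥤ DA A).obj (DerCA.extCech M [])))
  obtain ⟨α, hα⟩ := IsUniv.exists_comp_eq (PZ (UA A FS)) _ h2 hP1
  haveI := IsUniv.isIso_of_comp_eq (PZ (UA A FS)) h2 h1 hP2 hP1 α hα
  exact ⟨asIso α⟩

end Geom

end Groth.Agent.Lib.Helper17.CechRG
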