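-- helper17: cleavages (FibCat.Cleavage): comparison morphisms.
import Groth.Prelude.Def_FibClv

set_option autoImplicit false
set_option backward.isDefEq.respectTransparency false
set_option backward.isDefEq.respectTransparency.types false
open CategoryTheory CategoryTheory.Functor

universe v₁ v₂ u₁ u₂

namespace Groth.Agent.Lib.Helper17

section Clv

variable {𝒮 : Type u₁} {𝒳 : Type u₂} [Category.{v₁} 𝒮] [Category.{v₂} 𝒳] {p : 𝒳 ⥤ 𝒮}
  (K : FibCat.Cleavage p)

/-- Composing with the identification of inverse images along equal morphisms and then with the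
chosen lift is composing with the other chosen lift. -/
theorem inverseImageCongr_lift {R S : 𝒮} {f f' : R ⟶ S} (h : f' = f) (a : p.Fiber S) :
    Fiber.fiberInclusion.map ((K.inverseImageCongr h).hom.app a) ≫ K.lift a.2 f =
      K.lift a.2 f' := by
  subst h
  simp [FibCat.Cleavage.inverseImageCongr]

/-- Two morphisms of a fibre into a chosen inverse image agree if they agree after composing
with the chosen lift. -/
theorem fiber_hom_ext_of_comp_lift {R S : 𝒮} (f : R ⟶ S) (a : p.Fiber S) {X : p.Fiber R}
    (m m' : X ⟶ (K.inverseImage f).obj a)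
    (h : Fiber.fiberInclusion.map m ≫ K.lift a.2 f = Fiber.fiberInclusion.map m' ≫ K.lift a.2 f) :
    m = m' := by
  apply Fiber.hom_ext
  exact @IsCartesian.ext 𝒮 𝒳 _ _ p R S _ _ f (K.lift a.2 f) _ _ (Fiber.fiberInclusion.map m)
    (Fiber.fiberInclusion.map m') m.2 m'.2 h

/-- The chosen lift over an identity, as a morphism of the fibre. -/
def liftId {T : 𝒮} (X : p.Fiber T) : (K.inverseImage (𝟙 T)).obj X ⟶ X :=
  ⟨K.lift X.2 (𝟙 T), (K.isCartesian X.2 (𝟙 T)).toIsHomLift⟩

/-- S6014 -/
theorem comp_id_app {S T : 𝒮} (f : T ⟶ S) (a : p.Fiber S) :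
    Fiber.fiberInclusion.map ((K.comp f (𝟙 T)).app a ≫
      (K.inverseImageCongr (Category.id_comp f)).hom.app a) =
      (K.transport (𝟙 T)).app ((K.inverseImage f).obj a) := by
  have : (K.comp f (𝟙 T)).app a ≫ (K.inverseImageCongr (Category.id_comp f)).hom.app a =
      liftId K ((K.inverseImage f).obj a) := by
    apply fiber_hom_ext_of_comp_lift K f a
    rw [Functor.map_comp, Category.assoc, inverseImageCongr_lift, FibCat.Cleavage.comp_app,
      IsCartesian.fac]
    rfl
  rw [this]
  rfl

/-- S6015 -/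
theorem comp_id_left_app {S T : 𝒮} (f : T ⟶ S) (a : p.Fiber S) :
    (K.comp (𝟙 S) f).app a ≫ (K.inverseImageCongr (Category.comp_id f)).hom.app a =
      (K.inverseImage f).map (Fiber.homMk p S (K.lift a.2 (𝟙 S))) := by
  apply fiber_hom_ext_of_comp_lift K f a
  rw [Functor.map_comp, Category.assoc, inverseImageCongr_lift, FibCat.Cleavage.comp_app,
    IsCartesian.fac, FibCat.Cleavage.inverseImage_map, IsCartesian.fac]
  rfl

/-- S6016 -/
theorem comp_cocycle {S T U V : 𝒮} (f : T ⟶ S) (g : U ⟶ T) (h : V ⟶ U) :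
    Functor.whiskerLeft (K.inverseImage f) (K.comp g h) ≫ K.comp f (h ≫ g) ≫
      (K.inverseImageCongr (Category.assoc h g f)).hom =
      Functor.whiskerRight (K.comp f g) (K.inverseImage h) ≫ K.comp (g ≫ f) h := by
  apply NatTrans.ext
  funext a
  apply fiber_hom_ext_of_comp_lift K (h ≫ g ≫ f) a
  simp only [NatTrans.comp_app, Functor.whiskerLeft_app, Functor.whiskerRight_app,
    Functor.map_comp, Category.assoc, inverseImageCongr_lift, FibCat.Cleavage.comp_app,
    IsCartesian.fac, FibCat.Cleavage.inverseImage_map, IsCartesian.fac_assoc]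

end Clv

end Groth.Agent.Lib.Helper17
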