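-- helper17: a normalised cleavage of a pre-fibred category.
import Groth.Prelude.Def_FibClv

set_option autoImplicit false
set_option backward.isDefEq.respectTransparency false
set_option backward.isDefEq.respectTransparency.types false
open CategoryTheory CategoryTheory.Functor

universe v₁ v₂ u₁ u₂

namespace Groth.Agent.Lib.Helper17

section Norm

variable {𝒮 : Type u₁} {𝒳 : Type u₂} [Category.{v₁} 𝒮] [Category.{v₂} 𝒳] (p : 𝒳 ⥤ 𝒮)
  [p.IsPreFibered]

open Classical in
/-- The chosen lift: the identity over identities, Mathlib's choice otherwise. -/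
noncomputable def normPair {R S : 𝒮} {a : 𝒳} (ha : p.obj a = S) (f : R ⟶ S) :
    Σ b : 𝒳, (b ⟶ a) :=
  if _ : ∃ e : R = S, f = eqToHom e then ⟨a, 𝟙 a⟩
  else ⟨IsPreFibered.pullbackObj ha f, IsPreFibered.pullbackMap ha f⟩

theorem normPair_isCartesian {R S : 𝒮} {a : 𝒳} (ha : p.obj a = S) (f : R ⟶ S) :
    p.IsCartesian f (normPair p ha f).2 := by
  by_cases h : ∃ e : R = S, f = eqToHom e
  · have e1 : normPair p ha f = ⟨a, 𝟙 a⟩ := dif_pos h
    rw [e1]
    obtain ⟨e, rfl⟩ := h
    subst e
    simp only [eqToHom_refl]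
    have : p.IsHomLift (𝟙 R) (𝟙 a) := IsHomLift.id ha
    infer_instance
  · have e1 : normPair p ha f =
        ⟨IsPreFibered.pullbackObj ha f, IsPreFibered.pullbackMap ha f⟩ := dif_neg h
    rw [e1]
    infer_instance

theorem normPair_id {S : 𝒮} {a : 𝒳} (ha : p.obj a = S) : normPair p ha (𝟙 S) = ⟨a, 𝟙 a⟩ :=
  dif_pos ⟨rfl, rfl⟩

/-- A cleavage whose chosen lifts over identities are identities. -/
noncomputable def normCleavage : FibCat.Cleavage p where
  obj ha f := (normPair p ha f).1
  lift ha f := (normPair p ha f).2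
  isCartesian ha f := normPair_isCartesian p ha f

theorem normCleavage_isNormalised : (normCleavage p).IsNormalised := by
  intro S a ha
  change ∃ h : (normPair p ha (𝟙 S)).1 = a, (normPair p ha (𝟙 S)).2 = eqToHom h
  rw [normPair_id]
  exact ⟨rfl, rfl⟩

end Norm

end Groth.Agent.Lib.Helper17
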