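-- helper17: inverse images along isomorphisms are equivalences.
import Groth.Agent.Lib.Helper17Clv

set_option autoImplicit false
set_option backward.isDefEq.respectTransparency false
set_option backward.isDefEq.respectTransparency.types false
open CategoryTheory CategoryTheory.Functor

universe v₁ v₂ u₁ u₂

namespace Groth.Agent.Lib.Helper17

section ClvIso

variable {𝒮 : Type u₁} {𝒳 : Type u₂} [Category.{v₁} 𝒮] [Category.{v₂} 𝒳] {p : 𝒳 ⥤ 𝒮}
  [p.IsFibered] (K : FibCat.Cleavage p)

theorem isIso_lift_of_isIso {R S : 𝒮} {a : 𝒳} (ha : p.obj a = S) (f : R ⟶ S) [IsIso f] :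
    IsIso (K.lift ha f) := by
  have : p.IsStronglyCartesian f (K.lift ha f) := inferInstance
  exact IsStronglyCartesian.isIso_of_base_isIso p f (K.lift ha f)

theorem inverseImage_fac {R S : 𝒮} (f : R ⟶ S) {a b : p.Fiber S} (φ : a ⟶ b) :
    Fiber.fiberInclusion.map ((K.inverseImage f).map φ) ≫ K.lift b.2 f =
      K.lift a.2 f ≫ Fiber.fiberInclusion.map φ := by
  rw [FibCat.Cleavage.inverseImage_map, IsCartesian.fac]

/-- S6013 -/
theorem inverseImage_isEquivalence_of_isIso {S T : 𝒮} (f : T ⟶ S) [IsIso f] :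
    (K.inverseImage f).IsEquivalence := by
  have hfaith : (K.inverseImage f).Faithful := by
    refine ⟨fun {a b} φ ψ h => ?_⟩
    have := isIso_lift_of_isIso K a.2 f
    apply Fiber.hom_ext
    rw [← cancel_epi (K.lift a.2 f), ← inverseImage_fac, ← inverseImage_fac, h]
  have hfull : (K.inverseImage f).Full := by
    refine ⟨fun {a b} m => ?_⟩
    have := isIso_lift_of_isIso K a.2 f
    have hm : p.IsHomLift (𝟙 T) (Fiber.fiberInclusion.map m) := inferInstance
    have h1 : p.IsHomLift (inv f) (inv (K.lift a.2 f)) := inferInstance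
    have h2 : p.IsHomLift (𝟙 S)
        (inv (K.lift a.2 f) ≫ Fiber.fiberInclusion.map m ≫ K.lift b.2 f) := by
      have : p.IsHomLift (inv f ≫ 𝟙 T ≫ f)
        (inv (K.lift a.2 f) ≫ Fiber.fiberInclusion.map m ≫ K.lift b.2 f) := inferInstance
      simpa using this
    let φ : a ⟶ b := ⟨inv (K.lift a.2 f) ≫ Fiber.fiberInclusion.map m ≫ K.lift b.2 f, h2⟩
    refine ⟨φ, ?_⟩
    apply fiber_hom_ext_of_comp_lift K f b
    rw [inverseImage_fac]
    change K.lift a.2 f ≫ inv (K.lift a.2 f) ≫ Fiber.fiberInclusion.map m ≫ K.lift b.2 f = _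
    simp
  have hess : (K.inverseImage f).EssSurj := by
    refine ⟨fun b => ?_⟩
    let a : p.Fiber S := ⟨K.obj b.2 (inv f), K.obj_proj b.2 (inv f)⟩
    have i1 := isIso_lift_of_isIso K a.2 f
    have i2 := isIso_lift_of_isIso K b.2 (inv f)
    have h3 : p.IsHomLift (𝟙 T) (K.lift a.2 f ≫ K.lift b.2 (inv f)) := by
      have : p.IsHomLift (f ≫ inv f) (K.lift a.2 f ≫ K.lift b.2 (inv f)) := inferInstance
      simpa using this
    have h4 : p.IsHomLift (𝟙 T) (inv (K.lift a.2 f ≫ K.lift b.2 (inv f))) := inferInstance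
    refine ⟨a, ⟨?_⟩⟩
    exact
      { hom := ⟨K.lift a.2 f ≫ K.lift b.2 (inv f), h3⟩
        inv := ⟨inv (K.lift a.2 f ≫ K.lift b.2 (inv f)), h4⟩
        hom_inv_id := Subtype.ext (IsIso.hom_inv_id _)
        inv_hom_id := Subtype.ext (IsIso.inv_hom_id _) }
  exact { }

end ClvIso

end Groth.Agent.Lib.Helper17
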