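-- helper17: a cloven category is fibred iff the comparison morphisms are isomorphisms.
import Groth.Agent.Lib.Helper17Clv

set_option autoImplicit false
set_option backward.isDefEq.respectTransparency false
set_option backward.isDefEq.respectTransparency.types false
open CategoryTheory CategoryTheory.Functor

universe v₁ v₂ u₁ u₂

namespace Groth.Agent.Lib.Helper17

section ClvFib

variable {𝒮 : Type u₁} {𝒳 : Type u₂} [Category.{v₁} 𝒮] [Category.{v₂} 𝒳] {p : 𝒳 ⥤ 𝒮}
  (K : FibCat.Cleavage p)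

/-- A morphism of a fibre whose underlying morphism is an isomorphism is an isomorphism. -/
theorem fiber_isIso_of_isIso {S : 𝒮} {a b : p.Fiber S} (m : a ⟶ b)
    [h : IsIso (Fiber.fiberInclusion.map m)] : IsIso m := by
  have hm : p.IsHomLift (𝟙 S) (Fiber.fiberInclusion.map m) := inferInstance
  have hinv : p.IsHomLift (𝟙 S) (inv (Fiber.fiberInclusion.map m)) := inferInstance
  refine ⟨⟨⟨inv (Fiber.fiberInclusion.map m), hinv⟩, ?_, ?_⟩⟩
  · apply Fiber.hom_ext
    exact IsIso.hom_inv_id (Fiber.fiberInclusion.map m)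
  · apply Fiber.hom_ext
    exact IsIso.inv_hom_id (Fiber.fiberInclusion.map m)

theorem comp_app_fac {R S T : 𝒮} (f : T ⟶ S) (g : R ⟶ T) (a : p.Fiber S) :
    Fiber.fiberInclusion.map ((K.comp f g).app a) ≫ K.lift a.2 (g ≫ f) =
      K.lift (K.obj_proj a.2 f) g ≫ K.lift a.2 f := by
  rw [FibCat.Cleavage.comp_app, IsCartesian.fac]

theorem isIso_comp_of_isFibered [p.IsFibered] {R S T : 𝒮} (f : T ⟶ S) (g : R ⟶ T) :
    IsIso (K.comp f g) := by
  have : ∀ a, IsIso ((K.comp f g).app a) := by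
    intro a
    have hc : p.IsCartesian (g ≫ f) (K.lift (K.obj_proj a.2 f) g ≫ K.lift a.2 f) :=
      inferInstance
    have : IsIso (Fiber.fiberInclusion.map ((K.comp f g).app a)) := by
      rw [FibCat.Cleavage.comp_app]
      exact (IsCartesian.domainUniqueUpToIso p (g ≫ f) (K.lift a.2 (g ≫ f))
        (K.lift (K.obj_proj a.2 f) g ≫ K.lift a.2 f)).isIso_hom
    exact fiber_isIso_of_isIso _
  exact NatIso.isIso_of_isIso_app _

theorem isFibered_of_isIso_comp
    (h : ∀ (R S T : 𝒮) (f : T ⟶ S) (g : R ⟶ T), IsIso (K.comp f g)) : p.IsFibered := by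
  have := K.isPreFibered
  refine { comp := ?_ }
  intro R S T f g a b c φ ψ hφ hψ
  have hc : p.obj c = T := IsHomLift.codomain_eq p g ψ
  let C : p.Fiber T := ⟨c, hc⟩
  -- compare `ψ` with the chosen lift
  let i : b ≅ K.obj hc g := IsCartesian.domainUniqueUpToIso p g (K.lift hc g) ψ
  have hi : i.hom ≫ K.lift hc g = ψ := IsCartesian.fac p g (K.lift hc g) ψ
  have hi' : p.IsHomLift (𝟙 S) i.hom := inferInstance
  have h1 : p.IsCartesian f (φ ≫ i.hom) := inferInstance
  have hb' : p.obj (K.obj hc g) = S := K.obj_proj hc g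
  let j : a ≅ K.obj hb' f := IsCartesian.domainUniqueUpToIso p f (K.lift hb' f) (φ ≫ i.hom)
  have hj : j.hom ≫ K.lift hb' f = φ ≫ i.hom := IsCartesian.fac p f (K.lift hb' f) (φ ≫ i.hom)
  have hj' : p.IsHomLift (𝟙 R) j.hom := inferInstance
  have hk : IsIso ((K.comp g f).app C) := by
    have := h R T S g f
    infer_instance
  let κ : K.obj hb' f ≅ K.obj hc (f ≫ g) :=
    Fiber.fiberInclusion.mapIso (asIso ((K.comp g f).app C))
  have hκ : κ.hom ≫ K.lift hc (f ≫ g) = K.lift hb' f ≫ K.lift hc g := comp_app_fac K g f C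
  have hκ' : p.IsHomLift (𝟙 R) κ.hom := by
    change p.IsHomLift (𝟙 R) (Fiber.fiberInclusion.map ((K.comp g f).app C))
    infer_instance
  have e : φ ≫ ψ = (j ≪≫ κ).hom ≫ K.lift hc (f ≫ g) := by
    rw [Iso.trans_hom, Category.assoc, hκ, ← Category.assoc, hj, Category.assoc, hi]
  rw [e]
  have : p.IsHomLift (𝟙 R) (j ≪≫ κ).hom := by
    rw [Iso.trans_hom]
    have : p.IsHomLift (𝟙 R ≫ 𝟙 R) (j.hom ≫ κ.hom) := inferInstance
    simpa using this
  infer_instance

/-- S6012 -/
theorem isFibered_iff_isIso_comp :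
    p.IsFibered ↔ ∀ (R S T : 𝒮) (f : T ⟶ S) (g : R ⟶ T), IsIso (K.comp f g) :=
  ⟨fun _ _ _ _ f g => isIso_comp_of_isFibered K f g, isFibered_of_isIso_comp K⟩

end ClvFib

end Groth.Agent.Lib.Helper17
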