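import Groth.Agent.Lib.Helper17DRingAdj1
import Groth.Agent.Lib.Helper17KInj12
import Mathlib.Algebra.Homology.DerivedCategory.ShortExact
import Mathlib.Algebra.Homology.DerivedCategory.Linear
import Mathlib.Algebra.Homology.ShortComplex.ModuleCat

/-!
# The triangle `RHom_A(A/f, ω) ⟶ ω ⟶ ω` for a nonzerodivisor `f` (helper17)

Module-level part: for `B = A/(f)` with `f` a nonzerodivisor and an injective `A`-module `M`,
the sequence `0 ⟶ Hom_A(B, M) ⟶ M ⟶ M ⟶ 0` (evaluation at `1`, multiplication by `f`) is short exact.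
-/

set_option autoImplicit false

universe u

open CategoryTheory CategoryTheory.Limits

namespace Groth.Agent.Lib.Helper17.CoextTri

section Mod

variable {A : Type u} [CommRing A] (f : A)

/-- the quotient map `A ⟶ A/(f)`. -/
abbrev qm : A →+* (A ⧸ Ideal.span {f}) := Ideal.Quotient.mk (Ideal.span {f})

/-- the counit `Hom_A(A/f, M) ⟶ M`, evaluation at `1`. -/
noncomputable abbrev ev (M : ModuleCat.{u} A) :
    (ModuleCat.restrictScalars.{u} (qm f)).obj ((ModuleCat.coextendScalars.{u} (qm f)).obj M) ⟶ M :=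
  (ModuleCat.restrictCoextendScalarsAdj (qm f)).counit.app M

lemma ev_apply (M : ModuleCat.{u} A)
    (g : (ModuleCat.restrictScalars.{u} (qm f)).obj
      ((ModuleCat.coextendScalars.{u} (qm f)).obj M)) :
    (ev f M).hom g = (ModuleCat.CoextendScalars.equiv (qm f) M g) (1 : A ⧸ Ideal.span {f}) := rfl

/-- an `A`-linear map out of `A/(f)` (with the restricted module structure) is determined by its
value at `1`. -/
lemma lin_apply_mk (M : ModuleCat.{u} A)
    (g : ((ModuleCat.restrictScalars.{u} (qm f)).obj (ModuleCat.of _ (A ⧸ Ideal.span {f}))) →ₗ[A] M)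
    (a : A) : g (qm f a) = a • g (1 : A ⧸ Ideal.span {f}) := by
  rw [← map_smul]
  congr 1
  change qm f a = qm f a • (1 : A ⧸ Ideal.span {f})
  simp

lemma ev_injective (M : ModuleCat.{u} A) : Function.Injective (ev f M).hom := by
  intro g g' h
  rw [ev_apply, ev_apply] at h
  apply ModuleCat.CoextendScalars.ext
  refine LinearMap.ext fun b => ?_
  obtain ⟨a, rfl⟩ := Ideal.Quotient.mk_surjective b
  exact (lin_apply_mk f M _ a).trans ((congrArg (a • ·) h).trans (lin_apply_mk f M _ a).symm)

lemma smul_ev (M : ModuleCat.{u} A)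
    (g : (ModuleCat.restrictScalars.{u} (qm f)).obj
      ((ModuleCat.coextendScalars.{u} (qm f)).obj M)) :
    f • (ev f M).hom g = 0 := by
  rw [ev_apply, ← lin_apply_mk f M (ModuleCat.CoextendScalars.equiv (qm f) M g) f]
  have : qm f f = 0 := Ideal.Quotient.eq_zero_iff_mem.2 (Ideal.mem_span_singleton_self f)
  rw [this]
  exact LinearMap.map_zero _

/-- the identity as an `A`-linear map from the restricted module to the quotient module. -/
def idLin : ((ModuleCat.restrictScalars.{u} (qm f)).obj (ModuleCat.of _ (A ⧸ Ideal.span {f})))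
    →ₗ[A] (A ⧸ Ideal.span {f}) where
  toFun b := b
  map_add' _ _ := rfl
  map_smul' a b := by
    obtain ⟨c, rfl⟩ := Ideal.Quotient.mk_surjective b
    change qm f a * qm f c = qm f (a • c)
    rw [smul_eq_mul, map_mul]

lemma exists_ev_eq (M : ModuleCat.{u} A) (x : M) (hx : f • x = 0) :
    ∃ g, (ev f M).hom g = x := by
  have h : Ideal.span {f} ≤ LinearMap.ker (LinearMap.toSpanSingleton A M x) := by
    rw [Ideal.span_le]
    intro a ha
    rw [Set.mem_singleton_iff] at ha
    subst ha
    exact LinearMap.mem_ker.2 (by rw [LinearMap.toSpanSingleton_apply]; exact hx)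
  let g₀ : (A ⧸ Ideal.span {f}) →ₗ[A] M :=
    Submodule.liftQ (Ideal.span {f}) (LinearMap.toSpanSingleton A M x) h
  refine ⟨(ModuleCat.CoextendScalars.equiv (qm f) M).symm (g₀.comp (idLin f)), ?_⟩
  rw [ev_apply, LinearEquiv.apply_symm_apply]
  change g₀ (Submodule.Quotient.mk (1 : A)) = x
  rw [Submodule.liftQ_apply]
  simp

lemma smul_surjective_of_injective (hf : f ∈ nonZeroDivisors A) (M : ModuleCat.{u} A)
    [Injective M] (x : M) : ∃ y : M, f • y = x := by
  let m : ModuleCat.of A A ⟶ ModuleCat.of A A := ModuleCat.ofHom (LinearMap.mulLeft A f)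
  haveI : Mono m := by
    rw [ModuleCat.mono_iff_injective]
    intro a b hab
    have : f * a = f * b := hab
    have h2 : f * (a - b) = 0 := by rw [mul_sub, this, sub_self]
    have := (mem_nonZeroDivisors_iff.1 hf).1 (a - b) h2
    exact sub_eq_zero.1 this
  let g : ModuleCat.of A A ⟶ M := ModuleCat.ofHom (LinearMap.toSpanSingleton A M x)
  refine ⟨(Injective.factorThru g m).hom (1 : A), ?_⟩
  have h1 := Injective.comp_factorThru g m
  have h2 := congrArg (fun k => k.hom (1 : A)) h1
  simp only [ModuleCat.hom_comp, LinearMap.comp_apply] at h2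
  rw [← map_smul]
  have : f • (1 : A) = m.hom (1 : A) := by simp [m]
  rw [this, h2]
  simp [g]

end Mod

end Groth.Agent.Lib.Helper17.CoextTri
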