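import Groth.Agent.Lib.Helper17CoextTri1

/-!
# The triangle `RHom_A(A/f, ω) ⟶ ω ⟶ ω` for a nonzerodivisor `f` (helper17)

Complex-level and derived-category part.
-/

set_option autoImplicit false

universe u

open CategoryTheory CategoryTheory.Limits HomologicalComplex DerivedCategory Pretriangulated

attribute [local instance] HasDerivedCategory.standard

namespace Groth.Agent.Lib.Helper17.CoextTri

open Groth.Agent.Lib.Helper17.KInj Groth.Agent.Lib.Helper17.Cpt Groth.Agent.Lib.Helper17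

variable {A : Type u} [CommRing A] (f : A)

/-- restriction of scalars along `A ⟶ A/(f)`. -/
noncomputable abbrev Fr : ModuleCat.{u} (A ⧸ Ideal.span {f}) ⥤ ModuleCat.{u} A :=
  ModuleCat.restrictScalars.{u} (qm f)

/-- coextension of scalars along `A ⟶ A/(f)`. -/
noncomputable abbrev Gc : ModuleCat.{u} A ⥤ ModuleCat.{u} (A ⧸ Ideal.span {f}) :=
  ModuleCat.coextendScalars.{u} (qm f)

/-- the adjunction. -/
noncomputable abbrev adjFG : Fr f ⊣ Gc f := ModuleCat.restrictCoextendScalarsAdj (qm f)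

instance : (Gc f).Additive := (adjFG f).right_adjoint_additive

/-- the counit on complexes. -/
noncomputable abbrev evCx (J : CochainComplex (ModuleCat.{u} A) ℤ) :
    ((Fr f).mapHomologicalComplex (ComplexShape.up ℤ)).obj
      (((Gc f).mapHomologicalComplex (ComplexShape.up ℤ)).obj J) ⟶ J :=
  (SerreLoc.counitHC (adjFG f) (ComplexShape.up ℤ)).app J

lemma evCx_f (J : CochainComplex (ModuleCat.{u} A) ℤ) (n : ℤ) :
    (evCx f J).f n = ev f (J.X n) := rfl

/-- the short complex `Hom(A/f, J) ⟶ J ⟶ J` of complexes. -/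
noncomputable def sc (J : CochainComplex (ModuleCat.{u} A) ℤ) :
    ShortComplex (CochainComplex (ModuleCat.{u} A) ℤ) :=
  ShortComplex.mk (evCx f J) (f • 𝟙 J) (by
    ext n : 1
    rw [HomologicalComplex.comp_f, HomologicalComplex.smul_f_apply, HomologicalComplex.id_f,
      evCx_f, HomologicalComplex.zero_f]
    refine ModuleCat.hom_ext (LinearMap.ext fun g => ?_)
    rw [Linear.comp_smul, Category.comp_id]
    exact smul_ev f (J.X n) g)

lemma sc_shortExact (hf : f ∈ nonZeroDivisors A) (J : CochainComplex (ModuleCat.{u} A) ℤ)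
    (hJ : ∀ n, Injective (J.X n)) : (sc f J).ShortExact := by
  apply HomologicalComplex.shortExact_of_degreewise_shortExact
  intro n
  haveI := hJ n
  have hmono : Mono ((sc f J).map (HomologicalComplex.eval _ _ n)).f := by
    change Mono ((evCx f J).f n)
    rw [evCx_f, ModuleCat.mono_iff_injective]
    exact ev_injective f (J.X n)
  have hepi : Epi ((sc f J).map (HomologicalComplex.eval _ _ n)).g := by
    change Epi ((f • 𝟙 J : J ⟶ J).f n)
    rw [HomologicalComplex.smul_f_apply, HomologicalComplex.id_f, ModuleCat.epi_iff_surjective]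
    intro x
    obtain ⟨y, hy⟩ := smul_surjective_of_injective f hf (J.X n) x
    exact ⟨y, hy⟩
  refine ShortComplex.ShortExact.mk ?_
  rw [ShortComplex.moduleCat_exact_iff]
  intro x hx
  change ((f • 𝟙 J : J ⟶ J).f n).hom x = 0 at hx
  rw [HomologicalComplex.smul_f_apply, HomologicalComplex.id_f] at hx
  obtain ⟨g, hg⟩ := exists_ev_eq f (J.X n) x hx
  exact ⟨g, hg⟩

/-- `Q ∘ Hom_A(A/f, -)` on complexes. -/
noncomputable abbrev G' : CochainComplex (ModuleCat.{u} A) ℤ ⥤ Dual.D (A ⧸ Ideal.span {f}) :=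
  (Gc f).mapHomologicalComplex (ComplexShape.up ℤ) ⋙ DerivedCategory.Q

instance : (G' f).HasPointwiseRightDerivedFunctor
    (HomologicalComplex.quasiIso (ModuleCat.{u} A) (ComplexShape.up ℤ)) :=
  (fibLocalizerMorphism_derives (G' f)
    (isInvertedBy_mapHomologicalComplex_comp_Q (Gc f))).hasPointwiseRightDerivedFunctor

/-- the right derived functor of coextension of scalars. -/
noncomputable def RG : Dual.D A ⥤ Dual.D (A ⧸ Ideal.span {f}) :=
  (G' f).totalRightDerived (DerivedCategory.Q : _ ⥤ DerivedCategory (ModuleCat.{u} A))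
    (HomologicalComplex.quasiIso (ModuleCat.{u} A) (ComplexShape.up ℤ))

/-- its unit. -/
noncomputable def βG : G' f ⟶ DerivedCategory.Q ⋙ RG f :=
  (G' f).totalRightDerivedUnit (DerivedCategory.Q : _ ⥤ DerivedCategory (ModuleCat.{u} A))
    (HomologicalComplex.quasiIso (ModuleCat.{u} A) (ComplexShape.up ℤ))

instance : (RG f).IsRightDerivedFunctor (βG f)
    (HomologicalComplex.quasiIso (ModuleCat.{u} A) (ComplexShape.up ℤ)) := by
  unfold RG βG
  infer_instance

/-- the derived adjunction. -/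
noncomputable def adjD : DRing.restrictD (qm f) ⊣ RG f :=
  derivedAdjunction (Fr f) (Gc f) (adjFG f) (RG f) (βG f)

/-- For a nonzerodivisor `f`, `B = A/(f)` and any right adjoint `R` of restriction of scalars
`D(B) ⟶ D(A)`, every `ω` in `D(A)` sits in a distinguished triangle `R(ω)|_A ⟶ ω ⟶ ω` whose second
map is multiplication by `f`. -/
theorem exists_triangle (hf : f ∈ nonZeroDivisors A) (ω : Dual.D A)
    (R : Dual.D A ⥤ Dual.D (A ⧸ Ideal.span {f})) (adj : DRing.restrictD (qm f) ⊣ R) :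
    ∃ (u : (DRing.restrictD (qm f)).obj (R.obj ω) ⟶ ω)
      (w : ω ⟶ ((DRing.restrictD (qm f)).obj (R.obj ω))⟦(1 : ℤ)⟧),
      Triangle.mk u (f • 𝟙 ω) w ∈ distTriang (Dual.D A) := by
  obtain ⟨J, q, hJK, hq, -, hJinj⟩ := exists_kInjective_resolution.{u} (ModuleCat.{u} A)
    ((DerivedCategory.Q : _ ⥤ Dual.D A).objPreimage ω)
  haveI := hJK
  haveI := hq
  haveI : IsIso ((DerivedCategory.Q : _ ⥤ Dual.D A).map q) := by
    rw [DerivedCategory.isIso_Q_map_iff_quasiIso]; infer_instance
  have e : (DerivedCategory.Q : _ ⥤ Dual.D A).obj J ≅ ω :=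
    (asIso ((DerivedCategory.Q : _ ⥤ Dual.D A).map q)).symm ≪≫
      (DerivedCategory.Q : _ ⥤ Dual.D A).objObjPreimageIso ω
  haveI := isIso_app_of_isKInjective (Gc f) (RG f) (βG f) J
  have α : (DRing.restrictD (qm f)).obj (R.obj ω) ≅
      (DerivedCategory.Q : _ ⥤ Dual.D A).obj
        (((Fr f).mapHomologicalComplex (ComplexShape.up ℤ)).obj
          (((Gc f).mapHomologicalComplex (ComplexShape.up ℤ)).obj J)) :=
    (DRing.restrictD (qm f)).mapIso ((adj.rightAdjointUniq (adjD f)).app ω ≪≫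
      (RG f).mapIso e.symm ≪≫ (asIso ((βG f).app J)).symm) ≪≫
      (Fr f).mapDerivedCategoryFactors.app _
  have hS := sc_shortExact f hf J hJinj
  have hT := triangleOfSES_distinguished hS
  refine ⟨α.hom ≫ DerivedCategory.Q.map (evCx f J) ≫ e.hom,
    e.inv ≫ triangleOfSESδ hS ≫ α.inv⟦(1 : ℤ)⟧', ?_⟩
  refine isomorphic_distinguished _ hT _ (Triangle.isoMk _ _ α e.symm e.symm ?_ ?_ ?_)
  · change (α.hom ≫ DerivedCategory.Q.map (evCx f J) ≫ e.hom) ≫ e.inv =
      α.hom ≫ DerivedCategory.Q.map (evCx f J)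
    rw [Category.assoc, Category.assoc, e.hom_inv_id, Category.comp_id]
  · change (f • 𝟙 ω) ≫ e.inv = e.inv ≫ DerivedCategory.Q.map (f • 𝟙 J)
    rw [CategoryTheory.Functor.map_smul, CategoryTheory.Functor.map_id, Linear.smul_comp,
      Linear.comp_smul, Category.id_comp, Category.comp_id]
  · change (e.inv ≫ triangleOfSESδ hS ≫ α.inv⟦(1 : ℤ)⟧') ≫ α.hom⟦(1 : ℤ)⟧' =
      e.inv ≫ triangleOfSESδ hS
    have h3 : α.inv⟦(1 : ℤ)⟧' ≫ α.hom⟦(1 : ℤ)⟧' = 𝟙 _ := by
      rw [← Functor.map_comp, α.inv_hom_id, CategoryTheory.Functor.map_id]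
    rw [Category.assoc, Category.assoc]
    erw [h3, Category.comp_id]
    rfl

end Groth.Agent.Lib.Helper17.CoextTri
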