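import Mathlib
import Groth.Prelude.Def_CohDer

/-! Compact objects (`CohDer.IsCompactObject`): finite-support criterion, transport along adjunctions,
faithful coproduct-preserving functors (helper17). -/
set_option autoImplicit false
set_option backward.isDefEq.respectTransparency false
set_option backward.isDefEq.respectTransparency.types false
set_option linter.unusedSectionVars false
universe v v₂ u u₂
open CategoryTheory CategoryTheory.Limits

namespace Groth.Agent.Lib.Helper17.Compact

section Idem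
variable {D : Type u} [Category.{v} D] [Preadditive D]
variable {ι : Type v} {X : ι → D} {P : D} {inj : ∀ i, X i ⟶ P}
  (hc : IsColimit (Cofan.mk P inj))

open Classical in
/-- the idempotent of a coproduct projecting onto the summands indexed by `s`. -/
noncomputable def idem (s : Finset ι) : P ⟶ P :=
  Cofan.IsColimit.desc hc (fun i => if i ∈ s then inj i else 0)

theorem inj_idem_of_mem (s : Finset ι) (i : ι) (h : i ∈ s) : inj i ≫ idem hc s = inj i := by
  classical
  have := Cofan.IsColimit.fac hc (fun i => if i ∈ s then inj i else 0) i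
  rw [if_pos h] at this
  exact this

theorem inj_idem_of_not_mem (s : Finset ι) (i : ι) (h : i ∉ s) : inj i ≫ idem hc s = 0 := by
  classical
  have := Cofan.IsColimit.fac hc (fun i => if i ∈ s then inj i else 0) i
  rw [if_neg h] at this
  exact this

theorem idem_comp_idem {s t : Finset ι} (h : s ⊆ t) : idem hc s ≫ idem hc t = idem hc s := by
  refine Cofan.IsColimit.hom_ext hc _ _ (fun i => ?_)
  show inj i ≫ idem hc s ≫ idem hc t = inj i ≫ idem hc s
  by_cases hi : i ∈ s
  · rw [← Category.assoc, inj_idem_of_mem hc s i hi, inj_idem_of_mem hc t i (h hi)]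
  · rw [← Category.assoc, inj_idem_of_not_mem hc s i hi, zero_comp]

theorem idem_empty : idem hc (∅ : Finset ι) = 0 := by
  refine Cofan.IsColimit.hom_ext hc _ _ (fun i => ?_)
  show inj i ≫ idem hc ∅ = inj i ≫ 0
  rw [inj_idem_of_not_mem hc ∅ i (Finset.notMem_empty i), comp_zero]

variable {D' : Type u₂} [Category.{v} D'] [Preadditive D']

theorem map_idem (L : D ⥤ D') [L.PreservesZeroMorphisms]
    (hc' : IsColimit (Cofan.mk (L.obj P) (fun i => L.map (inj i)))) (s : Finset ι) :
    L.map (idem hc s) = idem hc' s := by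
  refine Cofan.IsColimit.hom_ext hc' _ _ (fun i => ?_)
  show L.map (inj i) ≫ L.map (idem hc s) = L.map (inj i) ≫ idem hc' s
  by_cases hi : i ∈ s
  · rw [← Functor.map_comp, inj_idem_of_mem hc s i hi, inj_idem_of_mem hc' s i hi]
  · rw [← Functor.map_comp, inj_idem_of_not_mem hc s i hi, inj_idem_of_not_mem hc' s i hi,
      Functor.map_zero]

end Idem

section FinSupp
variable {D : Type u} [Category.{v} D] [Preadditive D]
variable {E : Type u₂} [Category.{v} E] [Preadditive E]

/-- every map from `K` to `G` of a coproduct is supported on finitely many summands. -/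
def FinSupp (K : E) (G : D ⥤ E) : Prop :=
  ∀ (ι : Type v) (X : ι → D) (P : D) (inj : ∀ i, X i ⟶ P) (hc : IsColimit (Cofan.mk P inj))
    (φ : K ⟶ G.obj P), ∃ s : Finset ι, φ ≫ G.map (idem hc s) = φ

theorem supp_mono {K : E} (G : D ⥤ E) {ι : Type v} {X : ι → D} {P : D} {inj : ∀ i, X i ⟶ P}
    (hc : IsColimit (Cofan.mk P inj)) (φ : K ⟶ G.obj P) {s t : Finset ι}
    (hs : φ ≫ G.map (idem hc s) = φ) (h : s ⊆ t) : φ ≫ G.map (idem hc t) = φ := by
  calc φ ≫ G.map (idem hc t) = (φ ≫ G.map (idem hc s)) ≫ G.map (idem hc t) := by rw [hs]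
    _ = φ ≫ G.map (idem hc s ≫ idem hc t) := by rw [Category.assoc, ← Functor.map_comp]
    _ = φ := by rw [idem_comp_idem hc h, hs]

theorem finSupp_of_iso {K K' : E} (G : D ⥤ E) (e : K ≅ K') (h : FinSupp K G) : FinSupp K' G := by
  intro ι X P inj hc φ
  obtain ⟨s, hs⟩ := h ι X P inj hc (e.hom ≫ φ)
  refine ⟨s, ?_⟩
  rw [Category.assoc] at hs
  exact (cancel_epi e.hom).1 hs

theorem finSupp_of_natIso {K : E} {G G' : D ⥤ E} (e : G ≅ G') (h : FinSupp K G) :
    FinSupp K G' := by
  intro ι X P inj hc φ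
  obtain ⟨s, hs⟩ := h ι X P inj hc (φ ≫ e.inv.app P)
  refine ⟨s, ?_⟩
  have nat := e.inv.naturality (idem hc s)
  rw [Category.assoc, ← nat, ← Category.assoc] at hs
  exact (cancel_mono (e.inv.app P)).1 hs

/-- transport along an adjunction. -/
theorem finSupp_of_adj {D' : Type u₂} [Category.{v} D'] [Preadditive D'] {L : D ⥤ D'}
    {Rr : D' ⥤ D} (adj : L ⊣ Rr) [L.PreservesZeroMorphisms] (K : D)
    (h : FinSupp (L.obj K) (𝟭 D')) : FinSupp K (L ⋙ Rr) := by
  intro ι X P inj hc φ
  haveI := adj.leftAdjoint_preservesColimits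
  have hc' : IsColimit (Cofan.mk (L.obj P) (fun i => L.map (inj i))) :=
    isColimitCofanMkObjOfIsColimit L X inj hc
  obtain ⟨s, hs⟩ := h ι (fun i => L.obj (X i)) (L.obj P) (fun i => L.map (inj i)) hc'
    ((adj.homEquiv K (L.obj P)).symm φ)
  refine ⟨s, ?_⟩
  have hs' : (adj.homEquiv K (L.obj P)).symm φ ≫ L.map (idem hc s) =
      (adj.homEquiv K (L.obj P)).symm φ := by
    rw [map_idem hc L hc' s]; exact hs
  have := congrArg (adj.homEquiv K (L.obj P)) hs'
  rw [Adjunction.homEquiv_naturality_right, Equiv.apply_symm_apply] at this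
  exact this

/-- reflection along a faithful functor preserving coproducts. -/
theorem finSupp_of_faithful {D' : Type u₂} [Category.{v} D'] [Preadditive D'] (F : D ⥤ D')
    [F.Faithful] [F.PreservesZeroMorphisms] [PreservesColimitsOfSize.{v, v} F] (K : D)
    (h : FinSupp (F.obj K) (𝟭 D')) : FinSupp K (𝟭 D) := by
  intro ι X P inj hc φ
  have hc' : IsColimit (Cofan.mk (F.obj P) (fun i => F.map (inj i))) :=
    isColimitCofanMkObjOfIsColimit F X inj hc
  obtain ⟨s, hs⟩ := h ι (fun i => F.obj (X i)) (F.obj P) (fun i => F.map (inj i)) hc' (F.map φ)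
  refine ⟨s, ?_⟩
  apply F.map_injective
  have hs' : F.map φ ≫ idem hc' s = F.map φ := hs
  show F.map (φ ≫ idem hc s) = F.map φ
  rw [Functor.map_comp, map_idem hc F hc' s, hs']

end FinSupp

section Compact
variable {D : Type u} [Category.{v} D] [Preadditive D] [HasCoproducts.{v} D]

theorem homSum_of (K : D) {ι : Type v} [dec : DecidableEq ι] (X : ι → D) (i : ι)
    (y : K ⟶ X i) :
    CohDer.homSumToHomCoprod K X (DirectSum.of (fun i => K ⟶ X i) i y) = y ≫ Sigma.ι X i := by
  classical
  obtain rfl : dec = fun a b => Classical.propDecidable (a = b) := Subsingleton.elim _ _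
  unfold CohDer.homSumToHomCoprod
  rw [DirectSum.toAddMonoid_of]
  rfl

theorem finSupp_of_compact (K : D) (h : CohDer.IsCompactObject K) : FinSupp K (𝟭 D) := by
  classical
  intro ι X P inj hc φ
  change K ⟶ P at φ
  show ∃ s : Finset ι, φ ≫ idem hc s = φ
  let v : P ⟶ ∐ X := Cofan.IsColimit.desc hc (Sigma.ι X)
  let w : ∐ X ⟶ P := Sigma.desc inj
  have hvw : v ≫ w = 𝟙 P := by
    refine Cofan.IsColimit.hom_ext hc _ _ (fun i => ?_)
    show inj i ≫ v ≫ w = inj i ≫ 𝟙 P
    have h1 : inj i ≫ v = Sigma.ι X i := Cofan.IsColimit.fac hc (Sigma.ι X) i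
    rw [← Category.assoc, h1, Category.comp_id]
    exact Sigma.ι_desc _ _
  obtain ⟨x, hx⟩ := (h ι X).2 (φ ≫ v)
  have key : ∀ x : DirectSum ι (fun i => K ⟶ X i), ∃ s : Finset ι,
      (CohDer.homSumToHomCoprod K X x ≫ w) ≫ idem hc s = CohDer.homSumToHomCoprod K X x ≫ w := by
    intro x
    induction x using DirectSum.induction_on with
    | zero => exact ⟨∅, by rw [(CohDer.homSumToHomCoprod K X).map_zero, zero_comp, zero_comp]⟩
    | of i y =>
      refine ⟨{i}, ?_⟩
      rw [homSum_of]
      have h1 : Sigma.ι X i ≫ w = inj i := Sigma.ι_desc _ _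
      have e : (y ≫ Sigma.ι X i) ≫ w = y ≫ inj i := by rw [Category.assoc, h1]
      rw [e, Category.assoc, inj_idem_of_mem hc {i} i (Finset.mem_singleton_self i)]
    | add x y hx hy =>
      obtain ⟨s, hs⟩ := hx
      obtain ⟨t, ht⟩ := hy
      refine ⟨s ∪ t, ?_⟩
      have hs' := supp_mono (𝟭 D) hc _ hs (Finset.subset_union_left (s₂ := t))
      have ht' := supp_mono (𝟭 D) hc _ ht (Finset.subset_union_right (s₁ := s))
      simp only [Functor.id_map] at hs' ht'
      rw [(CohDer.homSumToHomCoprod K X).map_add, Preadditive.add_comp, Preadditive.add_comp,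
        hs', ht']
  obtain ⟨s, hs⟩ := key x
  refine ⟨s, ?_⟩
  rw [hx] at hs
  have hs2 : φ ≫ (v ≫ w) ≫ idem hc s = φ ≫ (v ≫ w) := by
    simpa only [Category.assoc] using hs
  rw [hvw, Category.id_comp, Category.comp_id] at hs2
  exact hs2

theorem homSum_comp_π (K : D) {ι : Type v} [DecidableEq ι] (X : ι → D)
    (x : DirectSum ι (fun i => K ⟶ X i)) (i : ι) :
    CohDer.homSumToHomCoprod K X x ≫ Sigma.π X i = x i := by
  induction x using DirectSum.induction_on with
  | zero => rw [(CohDer.homSumToHomCoprod K X).map_zero, zero_comp]; rfl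
  | of j y =>
    rw [homSum_of, Category.assoc]
    by_cases hji : j = i
    · subst hji
      rw [Sigma.ι_π_eq_id, Category.comp_id, DirectSum.of_eq_same]
    · rw [Sigma.ι_π_of_ne X hji, comp_zero, DirectSum.of_eq_of_ne _ _ _ (Ne.symm hji)]
  | add x y hx hy =>
    rw [(CohDer.homSumToHomCoprod K X).map_add, Preadditive.add_comp, hx, hy]
    rfl

theorem compact_of_finSupp (K : D) (h : FinSupp K (𝟭 D)) : CohDer.IsCompactObject K := by
  classical
  intro ι X
  constructor
  · rw [injective_iff_map_eq_zero]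
    intro x hx
    ext i
    have := homSum_comp_π K X x i
    rw [hx, zero_comp] at this
    rw [← this]
    rfl
  · intro φ
    obtain ⟨s, hs⟩ := h ι X (∐ X) (Sigma.ι X) (coproductIsCoproduct X) φ
    have hs' : φ ≫ idem (coproductIsCoproduct X) s = φ := hs
    have hid : idem (coproductIsCoproduct X) s = ∑ i ∈ s, Sigma.π X i ≫ Sigma.ι X i := by
      refine Cofan.IsColimit.hom_ext (coproductIsCoproduct X) _ _ (fun j => ?_)
      show Sigma.ι X j ≫ idem (coproductIsCoproduct X) s =
        Sigma.ι X j ≫ ∑ i ∈ s, Sigma.π X i ≫ Sigma.ι X i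
      rw [Preadditive.comp_sum]
      by_cases hj : j ∈ s
      · rw [inj_idem_of_mem _ s j hj, Finset.sum_eq_single_of_mem j hj]
        · rw [← Category.assoc, Sigma.ι_π_eq_id, Category.id_comp]
        · intro i _ hij
          rw [← Category.assoc, Sigma.ι_π_of_ne X (Ne.symm hij), zero_comp]
      · rw [inj_idem_of_not_mem _ s j hj, Finset.sum_eq_zero]
        intro i hi
        have hij : j ≠ i := fun e => hj (e ▸ hi)
        rw [← Category.assoc, Sigma.ι_π_of_ne X hij, zero_comp]
    refine ⟨∑ i ∈ s, DirectSum.of (fun i => K ⟶ X i) i (φ ≫ Sigma.π X i), ?_⟩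
    rw [map_sum]
    simp only [homSum_of]
    rw [← hs']
    conv_rhs => rw [hid, Preadditive.comp_sum]
    refine Finset.sum_congr rfl (fun i _ => ?_)
    rw [hs', Category.assoc]

end Compact

end Groth.Agent.Lib.Helper17.Compact
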