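-- helper17: an extension of a compact group by a compact group is compact (locally compact, second countable).
import Mathlib.Topology.Algebra.Group.OpenMapping
import Mathlib.Topology.Algebra.Group.Basic
import Mathlib.Topology.Bases
import Mathlib.Topology.Compactness.LocallyCompact
import Mathlib.Topology.Algebra.Group.Pointwise
import Mathlib.Topology.Baire.LocallyCompactRegular

open Pointwise

universe u

namespace Groth.Agent.Lib.Helper17

theorem compact_of_ses (A' A A'' : Type u)
    [AddCommGroup A'] [TopologicalSpace A'] [IsTopologicalAddGroup A'] [CompactSpace A']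
    [AddCommGroup A] [TopologicalSpace A] [IsTopologicalAddGroup A] [LocallyCompactSpace A]
    [SecondCountableTopology A] [T2Space A]
    [AddCommGroup A''] [TopologicalSpace A''] [IsTopologicalAddGroup A''] [T2Space A'']
    [CompactSpace A'']
    (f : A' →+ A) (g : A →+ A'') (hf : Continuous f) (hg : Continuous g)
    (hsurj : Function.Surjective g) (hex : g.ker = f.range) :
    CompactSpace A := by
  have hopen : IsOpenMap g := AddMonoidHom.isOpenMap_of_sigmaCompact g hsurj hg
  -- compact neighbourhood of 0
  obtain ⟨K, hK, hK0⟩ := exists_compact_mem_nhds (0 : A)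
  have hint : IsOpen (g '' interior K) := hopen _ isOpen_interior
  have h0 : (0 : A'') ∈ g '' interior K := ⟨0, mem_interior_iff_mem_nhds.2 hK0, map_zero g⟩
  -- cover A'' by translates
  have hcover : ∀ y : A'', ∃ a : A, y ∈ (fun z => g a + z) '' (g '' interior K) := by
    intro y
    obtain ⟨a, rfl⟩ := hsurj y
    exact ⟨a, 0, h0, by simp⟩
  have hopens : ∀ a : A, IsOpen ((fun z => g a + z) '' (g '' interior K)) := fun a =>
    (isOpenMap_add_left (g a)) _ hint
  obtain ⟨t, ht⟩ := isCompact_univ.elim_finite_subcover
    (fun a : A => (fun z => g a + z) '' (g '' interior K)) hopens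
    (fun y _ => Set.mem_iUnion.2 (hcover y))
  -- the kernel is compact
  have hker : IsCompact (Set.range f) := isCompact_range hf
  have hKk : IsCompact (K + Set.range f) := hK.add hker
  have hfin : IsCompact (⋃ a ∈ t, (fun z => a + z) '' (K + Set.range f)) :=
    t.isCompact_biUnion (fun a _ => hKk.image (continuous_const.add continuous_id))
  have hsub : (Set.univ : Set A) ⊆ ⋃ a ∈ t, (fun z => a + z) '' (K + Set.range f) := by
    intro x _
    have hx := ht (Set.mem_univ (g x))
    simp only [Set.mem_iUnion] at hx
    obtain ⟨a, hat, z, ⟨k, hk, rfl⟩, hz⟩ := hx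
    have hmem : x - a - k ∈ g.ker := by
      have hz' : g a + g k = g x := hz
      rw [AddMonoidHom.mem_ker, map_sub, map_sub, sub_sub, sub_eq_zero]
      exact hz'.symm
    rw [hex] at hmem
    obtain ⟨a', ha'⟩ := hmem
    simp only [Set.mem_iUnion]
    refine ⟨a, hat, k + f a', Set.add_mem_add (interior_subset hk) ⟨a', rfl⟩, ?_⟩
    change a + (k + f a') = x
    rw [ha']
    abel
  exact ⟨hfin.of_isClosed_subset isClosed_univ hsub⟩

end Groth.Agent.Lib.Helper17
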