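import Mathlib.CategoryTheory.Triangulated.Pretriangulated
import Mathlib.CategoryTheory.Limits.Preserves.Shapes.Products

/-!
# A coproduct of distinguished triangles is distinguished (helper17)

Dual of Mathlib's `productTriangle_distinguished`.
-/

set_option autoImplicit false

open CategoryTheory CategoryTheory.Limits CategoryTheory.Category CategoryTheory.Pretriangulated

namespace Groth.Agent.Lib.Helper17.CoprodTri

variable {C : Type*} [Category C] [HasZeroObject C] [HasShift C ℤ] [Preadditive C]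
  [∀ n : ℤ, (shiftFunctor C n).Additive] [Pretriangulated C]

variable {J : Type*} (T : J → Triangle C)
  [HasCoproduct (fun j => (T j).obj₁)] [HasCoproduct (fun j => (T j).obj₂)]
  [HasCoproduct (fun j => (T j).obj₃)]

/-- The coproduct of a family of triangles. -/
noncomputable def coproductTriangle : Triangle C :=
  Triangle.mk (Limits.Sigma.map (fun j => (T j).mor₁))
    (Limits.Sigma.map (fun j => (T j).mor₂))
    (Limits.Sigma.desc (fun j => (T j).mor₃ ≫ (Limits.Sigma.ι (fun j => (T j).obj₁) j)⟦(1 : ℤ)⟧'))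

/-- the shift of a coproduct is a coproduct. -/
noncomputable def isColimitShift (X : J → C) [HasCoproduct X] :
    IsColimit (Cofan.mk ((∐ X)⟦(1 : ℤ)⟧) (fun j => (Limits.Sigma.ι X j)⟦(1 : ℤ)⟧')) :=
  isColimitCofanMkObjOfIsColimit (shiftFunctor C (1 : ℤ)) _ _ (coproductIsCoproduct X)

lemma yoneda_exact₁ (Tr : Triangle C) (hT : Tr ∈ distTriang C) {X : C}
    (f : Tr.obj₁⟦(1 : ℤ)⟧ ⟶ X) (hf : Tr.mor₃ ≫ f = 0) :
    ∃ g : Tr.obj₂⟦(1 : ℤ)⟧ ⟶ X, f = Tr.mor₁⟦(1 : ℤ)⟧' ≫ g := by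
  obtain ⟨g, hg⟩ := Triangle.yoneda_exact₃ _ (rot_of_distTriang _ hT) f hf
  let g' : Tr.obj₂⟦(1 : ℤ)⟧ ⟶ X := g
  refine ⟨-g', ?_⟩
  rw [hg]
  change (-(shiftFunctor C (1 : ℤ)).map Tr.mor₁) ≫ g' = _
  rw [Preadditive.neg_comp, Preadditive.comp_neg]

/-- A coproduct of distinguished triangles is distinguished. -/
theorem coproductTriangle_distinguished (hT : ∀ j, T j ∈ distTriang C) :
    coproductTriangle T ∈ distTriang C := by
  let f₁ : (∐ fun j => (T j).obj₁) ⟶ ∐ fun j => (T j).obj₂ :=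
    Limits.Sigma.map (fun j => (T j).mor₁)
  obtain ⟨Z, f₂, f₃, hT'⟩ := distinguished_cocone_triangle f₁
  let T' := Triangle.mk f₁ f₂ f₃
  change T' ∈ distTriang C at hT'
  have hι : ∀ j, (T j).mor₁ ≫ Limits.Sigma.ι (fun j => (T j).obj₂) j =
      Limits.Sigma.ι (fun j => (T j).obj₁) j ≫ f₁ := fun j =>
    (Limits.Sigma.ι_map (f := fun j => (T j).obj₁) (g := fun j => (T j).obj₂)
      (fun j => (T j).mor₁) j).symm
  have hex : ∀ j, ∃ φ₃ : (T j).obj₃ ⟶ Z,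
      (T j).mor₂ ≫ φ₃ = Limits.Sigma.ι (fun j => (T j).obj₂) j ≫ f₂ ∧
      (T j).mor₃ ≫ (Limits.Sigma.ι (fun j => (T j).obj₁) j)⟦(1 : ℤ)⟧' = φ₃ ≫ f₃ := fun j =>
    complete_distinguished_triangle_morphism (T j) T' (hT j) hT'
      (Limits.Sigma.ι (fun j => (T j).obj₁) j) (Limits.Sigma.ι (fun j => (T j).obj₂) j) (hι j)
  choose φ₃ hφ₂ hφ₃ using hex
  let c : (∐ fun j => (T j).obj₃) ⟶ Z := Limits.Sigma.desc φ₃
  have hcι : ∀ j, Limits.Sigma.ι (fun j => (T j).obj₃) j ≫ c = φ₃ j := fun j =>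
    Limits.Sigma.ι_desc _ j
  have hc₂ : Limits.Sigma.map (fun j => (T j).mor₂) ≫ c = f₂ := by
    refine Limits.Sigma.hom_ext _ _ (fun j => ?_)
    rw [Limits.Sigma.ι_map_assoc, hcι, hφ₂]
  let m₃ : (∐ fun j => (T j).obj₃) ⟶ (∐ fun j => (T j).obj₁)⟦(1 : ℤ)⟧ :=
    Limits.Sigma.desc (fun j => (T j).mor₃ ≫ (Limits.Sigma.ι (fun j => (T j).obj₁) j)⟦(1 : ℤ)⟧')
  have hm₃ : ∀ j, Limits.Sigma.ι (fun j => (T j).obj₃) j ≫ m₃ =
      (T j).mor₃ ≫ (Limits.Sigma.ι (fun j => (T j).obj₁) j)⟦(1 : ℤ)⟧' := fun j =>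
    Limits.Sigma.ι_desc _ j
  have hc₃ : c ≫ f₃ = m₃ := by
    refine Limits.Sigma.hom_ext _ _ (fun j => ?_)
    rw [← assoc, hcι, ← hφ₃, hm₃]
  suffices hciso : IsIso c by
    haveI := hciso
    let e : (∐ fun j => (T j).obj₃) ≅ Z := asIso c
    refine isomorphic_distinguished _ hT' _ ?_
    refine Triangle.isoMk (coproductTriangle T) T' (Iso.refl _) (Iso.refl _) e ?_ ?_ ?_
    · change Limits.Sigma.map (fun j => (T j).mor₁) ≫ 𝟙 _ = 𝟙 _ ≫ f₁
      rw [comp_id, id_comp]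
    · change Limits.Sigma.map (fun j => (T j).mor₂) ≫ c = 𝟙 _ ≫ f₂
      rw [id_comp, hc₂]
    · change m₃ ≫ (shiftFunctor C (1 : ℤ)).map (𝟙 _) = c ≫ f₃
      rw [CategoryTheory.Functor.map_id, comp_id, hc₃]
  refine isIso_of_coyoneda_map_bijective _ (fun A => ⟨?_, ?_⟩)
  · -- injectivity
    intro g₁ g₂ hg
    have hg' : c ≫ (g₁ - g₂) = 0 := by
      rw [Preadditive.comp_sub]; exact sub_eq_zero.2 hg
    suffices g₁ - g₂ = 0 from sub_eq_zero.1 this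
    generalize g₁ - g₂ = g at hg'
    have h1 : T'.mor₂ ≫ g = 0 := by
      change f₂ ≫ g = 0
      rw [← hc₂, assoc, hg', comp_zero]
    obtain ⟨h, hh⟩ := Triangle.yoneda_exact₃ T' hT' g h1
    change g = f₃ ≫ h at hh
    have h2 : ∀ j, (T j).mor₃ ≫ ((Limits.Sigma.ι (fun j => (T j).obj₁) j)⟦(1 : ℤ)⟧' ≫ h) = 0 := by
      intro j
      rw [← assoc, hφ₃, assoc, ← hh, ← hcι, assoc, hg', comp_zero]
    choose α hα using fun j => yoneda_exact₁ (T j) (hT j) _ (h2 j)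
    let αα : (∐ (fun j => (T j).obj₂))⟦(1 : ℤ)⟧ ⟶ A :=
      Cofan.IsColimit.desc (isColimitShift (fun j => (T j).obj₂)) α
    have hαα : ∀ j, (Limits.Sigma.ι (fun j => (T j).obj₂) j)⟦(1 : ℤ)⟧' ≫ αα = α j := fun j =>
      Cofan.IsColimit.fac (isColimitShift (fun j => (T j).obj₂)) α j
    have h3 : h = f₁⟦(1 : ℤ)⟧' ≫ αα := by
      refine Cofan.IsColimit.hom_ext (isColimitShift (fun j => (T j).obj₁)) _ _ (fun j => ?_)
      change (Limits.Sigma.ι (fun j => (T j).obj₁) j)⟦(1 : ℤ)⟧' ≫ h =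
        (Limits.Sigma.ι (fun j => (T j).obj₁) j)⟦(1 : ℤ)⟧' ≫ f₁⟦(1 : ℤ)⟧' ≫ αα
      rw [hα j, ← assoc, ← Functor.map_comp, ← hι j, Functor.map_comp, assoc, hαα]
    rw [hh, h3, ← assoc]
    have : f₃ ≫ f₁⟦(1 : ℤ)⟧' = 0 := comp_distTriang_mor_zero₃₁ _ hT'
    rw [this, zero_comp]
  · -- surjectivity
    intro a
    have h1 : T'.mor₁ ≫ (Limits.Sigma.map (fun j => (T j).mor₂) ≫ a) = 0 := by
      change f₁ ≫ (Limits.Sigma.map (fun j => (T j).mor₂) ≫ a) = 0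
      rw [← assoc]
      have : f₁ ≫ Limits.Sigma.map (fun j => (T j).mor₂) = 0 := by
        refine Limits.Sigma.hom_ext _ _ (fun j => ?_)
        rw [Limits.Sigma.ι_map_assoc, Limits.Sigma.ι_map, ← assoc,
          comp_distTriang_mor_zero₁₂ _ (hT j), zero_comp, comp_zero]
      rw [this, zero_comp]
    obtain ⟨a''₀, ha''₀⟩ := Triangle.yoneda_exact₂ T' hT' _ h1
    let a'' : Z ⟶ A := a''₀
    have ha'' : Limits.Sigma.map (fun j => (T j).mor₂) ≫ a = f₂ ≫ a'' := ha''₀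
    have h2 : ∀ j, (T j).mor₂ ≫ (Limits.Sigma.ι (fun j => (T j).obj₃) j ≫ (a - c ≫ a'')) = 0 := by
      intro j
      have e1 : (T j).mor₂ ≫ Limits.Sigma.ι (fun j => (T j).obj₃) j =
          Limits.Sigma.ι (fun j => (T j).obj₂) j ≫ Limits.Sigma.map (fun j => (T j).mor₂) :=
        (Limits.Sigma.ι_map (f := fun j => (T j).obj₂) (g := fun j => (T j).obj₃)
          (fun j => (T j).mor₂) j).symm
      rw [← assoc, e1, assoc, Preadditive.comp_sub, ← assoc _ c, hc₂, ← ha'', sub_self, comp_zero]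
    choose b hb using fun j => Triangle.yoneda_exact₃ (T j) (hT j) _ (h2 j)
    let bb : (∐ (fun j => (T j).obj₁))⟦(1 : ℤ)⟧ ⟶ A :=
      Cofan.IsColimit.desc (isColimitShift (fun j => (T j).obj₁)) b
    have hbb : ∀ j, (Limits.Sigma.ι (fun j => (T j).obj₁) j)⟦(1 : ℤ)⟧' ≫ bb = b j := fun j =>
      Cofan.IsColimit.fac (isColimitShift (fun j => (T j).obj₁)) b j
    have h3 : a - c ≫ a'' = m₃ ≫ bb := by
      refine Limits.Sigma.hom_ext _ _ (fun j => ?_)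
      rw [hb j, ← assoc, hm₃, assoc, hbb]
    refine ⟨a'' + f₃ ≫ bb, ?_⟩
    change c ≫ (a'' + f₃ ≫ bb) = a
    rw [Preadditive.comp_add, ← assoc, hc₃, ← h3]
    abel

end Groth.Agent.Lib.Helper17.CoprodTri
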