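-- helper17: the 2-fibre product `C ×_D 𝒮` of a functor `u : C ⥤ D` and a category fibred in
-- groupoids: fibred in groupoids, charts, elementwise faithfulness of restriction.
import Groth.Agent.Lib.Helper17CatPbFib
import Groth.Agent.Lib.Helper17StkElem
import Groth.Agent.Lib.Helper17GerbExt
import Mathlib.CategoryTheory.Sites.CoverPreserving

set_option autoImplicit false
set_option backward.isDefEq.respectTransparency false
set_option backward.isDefEq.respectTransparency.types false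
open CategoryTheory CategoryTheory.Functor CategoryTheory.Limits

universe v₁ u₁ v₂ u₂ v₃ u₃ v₄ u₄ v u

namespace Groth.Agent.Lib.Helper17.CpStk

open Groth.Agent.Lib.Helper17 Groth.Agent.Lib.Helper17.Elem Groth.Agent.Lib.Helper17.GerbExt

section Basic

variable {C : Type u} [Category.{v} C] {D : Type u₂} [Category.{v₂} D] (u : C ⥤ D)
  (𝒮 : BasedCategory.{v₃, u₃} D)

/-- `C ×_D 𝒮` over `C` -/
abbrev cp := BasedCategory.ofFunctor (CategoricalPullback.π₁ u 𝒮.p)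

variable {u 𝒮}

theorem snd_map_eq {t' t : (cp u 𝒮).obj} (m : t' ⟶ t) :
    𝒮.p.map m.snd = t'.iso.inv ≫ u.map m.fst ≫ t.iso.hom := by
  rw [Iso.eq_inv_comp]; exact m.w.symm

theorem snd_isHomLift {t' t : (cp u 𝒮).obj} (m : t' ⟶ t) :
    𝒮.p.IsHomLift (t'.iso.inv ≫ u.map m.fst ≫ t.iso.hom) m.snd := by
  rw [← snd_map_eq m]; infer_instance

theorem fst_isHomLift {t' t : (cp u 𝒮).obj} (m : t' ⟶ t) : (cp u 𝒮).p.IsHomLift m.fst m :=
  IsHomLift.map (CategoricalPullback.π₁ u 𝒮.p) m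

/-- explicit lifts in `C ×_D 𝒮` -/
theorem exists_lift_explicit (h𝒮 : FibCat.IsFibGrpd 𝒮.p) (t : (cp u 𝒮).obj) {V : C}
    (f : V ⟶ t.fst) :
    ∃ (s' : 𝒮.obj) (i' : u.obj V ≅ 𝒮.p.obj s') (ψ : s' ⟶ t.snd),
      u.map f ≫ t.iso.hom = i'.hom ≫ 𝒮.p.map ψ := by
  obtain ⟨s', ψ, hψ⟩ := h𝒮.exists_lift (x := t.snd) (u.map f ≫ t.iso.hom)
  have hs' : 𝒮.p.obj s' = u.obj V := IsHomLift.domain_eq 𝒮.p (u.map f ≫ t.iso.hom) ψ
  refine ⟨s', eqToIso hs'.symm, ψ, ?_⟩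
  have := IsHomLift.fac' 𝒮.p (u.map f ≫ t.iso.hom) ψ
  rw [this]
  simp

theorem isFibGrpd_cp (h𝒮 : FibCat.IsFibGrpd 𝒮.p) : FibCat.IsFibGrpd (cp u 𝒮).p := by
  have hfib : 𝒮.p.IsFibered := IsFibGrpd.isFibered h𝒮
  have : (cp u 𝒮).p.IsFibered := catPb_π₁_isFibered u 𝒮.p
  apply isFibGrpd_of_isFibered_of_isGroupoid_fiber
  intro c
  refine ⟨fun {X Y} m => ?_⟩
  have hl : (CategoricalPullback.π₁ u 𝒮.p).IsHomLift (𝟙 c) m.1 := m.2
  have h1 : IsIso m.1.fst := by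
    have e := IsHomLift.fac' (CategoricalPullback.π₁ u 𝒮.p) (𝟙 c) m.1
    have : IsIso ((CategoricalPullback.π₁ u 𝒮.p).map m.1) := by
      rw [e]; infer_instance
    exact this
  have h2 : IsIso m.1.snd := by
    have := snd_isHomLift m.1
    have := IsFibGrpd.isStronglyCartesian_of_isHomLift h𝒮
      (X.1.iso.inv ≫ u.map m.1.fst ≫ Y.1.iso.hom) m.1.snd
    exact IsStronglyCartesian.isIso_of_base_isIso 𝒮.p
      (X.1.iso.inv ≫ u.map m.1.fst ≫ Y.1.iso.hom) m.1.snd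
  have h3 : IsIso m.1 := (CategoricalPullback.isIso_iff _ _ m.1).2 ⟨h1, h2⟩
  refine ⟨⟨inv m.1, ?_⟩, ?_, ?_⟩
  · exact IsHomLift.lift_id_inv_isIso (CategoricalPullback.π₁ u 𝒮.p) c m.1
  · exact Subtype.ext (IsIso.hom_inv_id m.1)
  · exact Subtype.ext (IsIso.inv_hom_id m.1)

end Basic

section Charts

variable {C : Type u} [Category.{v} C] {D : Type u₂} [Category.{v₂} D] {u : C ⥤ D}
  {𝒮 : BasedCategory.{v₃, u₃} D}

/-- the sieve on the object under `x.snd` induced by a sieve on `x.fst` -/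
abbrev sieveS (x : (cp u 𝒮).obj) (R : Sieve x.fst) : Sieve (𝒮.p.obj x.snd) :=
  (R.functorPushforward u).pullback x.iso.inv

theorem overR_of_fst {x a : (cp u 𝒮).obj} (R : Sieve x.fst) (φ : a ⟶ x) (h : R φ.fst) :
    OverR R φ := ⟨a.fst, φ.fst, h, fst_isHomLift φ⟩

theorem fst_of_overR {x a : (cp u 𝒮).obj} (R : Sieve x.fst) (φ : a ⟶ x) (h : OverR R φ) :
    R φ.fst := by
  obtain ⟨W, f, hf, hφ⟩ := h
  have hW : a.fst = W := IsHomLift.domain_eq (cp u 𝒮).p f φ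
  subst hW
  have e : f = φ.fst := IsHomLift.eq_of_isHomLift (cp u 𝒮).p f φ
  rw [← e]; exact hf

/-- **Lemma K**: morphisms of `𝒮` over the induced sieve factor through the second components of
morphisms of `C ×_D 𝒮` over the sieve. -/
theorem exists_chart_of_overR (h𝒮 : FibCat.IsFibGrpd 𝒮.p) (x : (cp u 𝒮).obj) (R : Sieve x.fst)
    {b : 𝒮.obj} (ψ : b ⟶ x.snd) (hψ : OverR (sieveS x R) ψ) :
    ∃ (a : (cp u 𝒮).obj) (φ : a ⟶ x) (_ : R φ.fst) (χ : b ⟶ a.snd), χ ≫ φ.snd = ψ := by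
  obtain ⟨W, h, ⟨V, f, k, hf, e⟩, hψ'⟩ := hψ
  obtain ⟨s', i', ψ', w⟩ := exists_lift_explicit h𝒮 x f
  let a : (cp u 𝒮).obj := ⟨V, s', i'⟩
  let φ : a ⟶ x := ⟨f, ψ', w⟩
  have l1 : 𝒮.p.IsHomLift (i'.inv ≫ u.map f ≫ x.iso.hom) ψ' := snd_isHomLift φ
  have e2 : h = (k ≫ i'.hom) ≫ (i'.inv ≫ u.map f ≫ x.iso.hom) := by
    have : h = (h ≫ x.iso.inv) ≫ x.iso.hom := by simp
    rw [this, e]; simp
  obtain ⟨χ, -, eχ⟩ := exists_fac h𝒮 (k ≫ i'.hom) (i'.inv ≫ u.map f ≫ x.iso.hom) h e2 ψ' l1 ψ hψ'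
  exact ⟨a, φ, hf, χ, eχ⟩

theorem sieveS_snd {x a : (cp u 𝒮).obj} (R : Sieve x.fst) (φ : a ⟶ x) (h : R φ.fst) :
    OverR (sieveS x R) φ.snd := by
  refine ⟨_, a.iso.inv ≫ u.map φ.fst ≫ x.iso.hom, ⟨a.fst, φ.fst, a.iso.inv, h, ?_⟩,
    snd_isHomLift φ⟩
  simp

theorem cp_psFaithful {J : GrothendieckTopology C} {K : GrothendieckTopology D}
    (hu : CoverPreserving J K u) (h𝒮 : Stk.IsStack K 𝒮) {U : C} (R : Sieve U) (hR : R ∈ J U) :
    PSFaithful R (cp u 𝒮) := by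
  intro x y θ θ' hθ hθ' hh
  have hx : x.fst = U := IsHomLift.domain_eq (cp u 𝒮).p (𝟙 U) θ
  subst hx
  have e1 : θ.fst = θ'.fst :=
    (IsHomLift.fac' (cp u 𝒮).p (𝟙 x.fst) θ).trans (IsHomLift.fac' (cp u 𝒮).p (𝟙 x.fst) θ').symm
  have hS : sieveS x R ∈ K (𝒮.p.obj x.snd) :=
    K.pullback_stable x.iso.inv (hu.cover_preserve hR)
  have hfa := ((isStackFor_iff h𝒮.1).1 (h𝒮.2 _ hS)).1
  apply CategoricalPullback.hom_ext e1
  have l1 : 𝒮.p.IsHomLift (𝒮.p.map θ.snd) θ'.snd := by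
    rw [snd_map_eq θ, e1]; exact snd_isHomLift θ'
  apply hfa.general h𝒮.1 (𝒮.p.map θ.snd) θ.snd θ'.snd inferInstance l1
  intro b ψ hψ
  obtain ⟨a, φ, hφ, χ, eχ⟩ := exists_chart_of_overR h𝒮.1 x R ψ hψ
  have h2 := congrArg (fun t => t.snd) (hh φ (overR_of_fst R φ hφ))
  have h3 : φ.snd ≫ θ.snd = φ.snd ≫ θ'.snd := h2
  rw [← eχ, Category.assoc, Category.assoc, h3]

end Charts

end Groth.Agent.Lib.Helper17.CpStk
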