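-- helper17: the 2-fibre product `C ×_D 𝒮`: elementwise fullness of restriction to a sieve.
import Groth.Agent.Lib.Helper17CpStk1

set_option autoImplicit false
set_option backward.isDefEq.respectTransparency false
set_option backward.isDefEq.respectTransparency.types false
open CategoryTheory CategoryTheory.Functor CategoryTheory.Limits

universe v₁ u₁ v₂ u₂ v₃ u₃ v₄ u₄ v u

namespace Groth.Agent.Lib.Helper17.CpStk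

open Groth.Agent.Lib.Helper17 Groth.Agent.Lib.Helper17.Elem Groth.Agent.Lib.Helper17.GerbExt

section Full

variable {C : Type u} [Category.{v} C] {D : Type u₂} [Category.{v₂} D] {u : C ⥤ D}
  {𝒮 : BasedCategory.{v₃, u₃} D} [HasPullbacks C] [PreservesLimitsOfShape WalkingCospan u]

theorem M_congr {x y : (cp u 𝒮).obj} {R : Sieve x.fst}
    (M : ∀ ⦃a : (cp u 𝒮).obj⦄ (φ : a ⟶ x), OverR R φ → (a ⟶ y)) {a : (cp u 𝒮).obj}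
    {φ φ' : a ⟶ x} (e : φ = φ') (h : OverR R φ) (h' : OverR R φ') : M φ h = M φ' h' := by
  subst e; rfl

/-- **Lemma I**: independence of the chart. -/
theorem indep_chart (h𝒮 : FibCat.IsFibGrpd 𝒮.p) {x y : (cp u 𝒮).obj} {R : Sieve x.fst}
    (M : ∀ ⦃a : (cp u 𝒮).obj⦄ (φ : a ⟶ x), OverR R φ → (a ⟶ y))
    (hc : ∀ ⦃a : (cp u 𝒮).obj⦄ (φ : a ⟶ x) (h : OverR R φ) ⦃a' : (cp u 𝒮).obj⦄ (ψ : a' ⟶ a),
      M (ψ ≫ φ) (h.precomp ψ) = ψ ≫ M φ h)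
    {a₁ a₂ : (cp u 𝒮).obj} (φ₁ : a₁ ⟶ x) (φ₂ : a₂ ⟶ x) (h₁ : OverR R φ₁) (h₂ : OverR R φ₂)
    {b : 𝒮.obj} (χ₁ : b ⟶ a₁.snd) (χ₂ : b ⟶ a₂.snd) (e : χ₁ ≫ φ₁.snd = χ₂ ≫ φ₂.snd) :
    χ₁ ≫ (M φ₁ h₁).snd = χ₂ ≫ (M φ₂ h₂).snd := by
  -- the pullback
  have hpb : IsPullback (u.map (pullback.fst φ₁.fst φ₂.fst)) (u.map (pullback.snd φ₁.fst φ₂.fst))
      (u.map φ₁.fst) (u.map φ₂.fst) := (IsPullback.of_hasPullback φ₁.fst φ₂.fst).map u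
  obtain ⟨s₁₂, i₁₂, ψ₁₂, w₁₂⟩ := exists_lift_explicit h𝒮 a₁ (pullback.fst φ₁.fst φ₂.fst)
  let a₁₂ : (cp u 𝒮).obj := ⟨pullback φ₁.fst φ₂.fst, s₁₂, i₁₂⟩
  let μ₁ : a₁₂ ⟶ a₁ := ⟨pullback.fst φ₁.fst φ₂.fst, ψ₁₂, w₁₂⟩
  -- the second projection
  have lφ₂ : 𝒮.p.IsHomLift (a₂.iso.inv ≫ u.map φ₂.fst ≫ x.iso.hom) φ₂.snd := snd_isHomLift φ₂
  have lμφ : 𝒮.p.IsHomLift ((i₁₂.inv ≫ u.map (pullback.snd φ₁.fst φ₂.fst) ≫ a₂.iso.hom) ≫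
      (a₂.iso.inv ≫ u.map φ₂.fst ≫ x.iso.hom)) (μ₁ ≫ φ₁).snd := by
    have h0 := snd_isHomLift (μ₁ ≫ φ₁)
    have e0 : (i₁₂.inv ≫ u.map (pullback.snd φ₁.fst φ₂.fst) ≫ a₂.iso.hom) ≫
        (a₂.iso.inv ≫ u.map φ₂.fst ≫ x.iso.hom) =
        a₁₂.iso.inv ≫ u.map (μ₁ ≫ φ₁).fst ≫ x.iso.hom := by
      change _ = i₁₂.inv ≫ u.map (pullback.fst φ₁.fst φ₂.fst ≫ φ₁.fst) ≫ x.iso.hom
      rw [pullback.condition]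
      simp
    rw [e0]; exact h0
  obtain ⟨ν, hν, eν⟩ := exists_fac h𝒮
    (i₁₂.inv ≫ u.map (pullback.snd φ₁.fst φ₂.fst) ≫ a₂.iso.hom)
    (a₂.iso.inv ≫ u.map φ₂.fst ≫ x.iso.hom) _ rfl φ₂.snd lφ₂ (μ₁ ≫ φ₁).snd lμφ
  have wν : u.map (pullback.snd φ₁.fst φ₂.fst) ≫ a₂.iso.hom = a₁₂.iso.hom ≫ 𝒮.p.map ν := by
    have := IsHomLift.eq_of_isHomLift 𝒮.p
      (i₁₂.inv ≫ u.map (pullback.snd φ₁.fst φ₂.fst) ≫ a₂.iso.hom) ν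
    rw [← this]
    change _ = i₁₂.hom ≫ i₁₂.inv ≫ _
    simp
  let μ₂ : a₁₂ ⟶ a₂ := ⟨pullback.snd φ₁.fst φ₂.fst, ν, wν⟩
  have eμ : μ₂ ≫ φ₂ = μ₁ ≫ φ₁ := by
    apply CategoricalPullback.hom_ext
    · exact pullback.condition.symm
    · exact eν
  -- the base arrow
  have ebase : (𝒮.p.map χ₁ ≫ a₁.iso.inv) ≫ u.map φ₁.fst =
      (𝒮.p.map χ₂ ≫ a₂.iso.inv) ≫ u.map φ₂.fst := by
    have h0 := congrArg (fun t => 𝒮.p.map t) e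
    simp only [Functor.map_comp, snd_map_eq] at h0
    rw [← cancel_mono x.iso.hom]
    simpa using h0
  obtain ⟨k₁₂, hk1, hk2⟩ : ∃ k₁₂ : 𝒮.p.obj b ⟶ u.obj (pullback φ₁.fst φ₂.fst),
      k₁₂ ≫ u.map (pullback.fst φ₁.fst φ₂.fst) = 𝒮.p.map χ₁ ≫ a₁.iso.inv ∧
      k₁₂ ≫ u.map (pullback.snd φ₁.fst φ₂.fst) = 𝒮.p.map χ₂ ≫ a₂.iso.inv :=
    ⟨hpb.lift _ _ ebase, hpb.lift_fst _ _ ebase, hpb.lift_snd _ _ ebase⟩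
  -- the refined chart
  have lμ₁ : 𝒮.p.IsHomLift (i₁₂.inv ≫ u.map (pullback.fst φ₁.fst φ₂.fst) ≫ a₁.iso.hom) μ₁.snd :=
    snd_isHomLift μ₁
  have eb1 : 𝒮.p.map χ₁ = (k₁₂ ≫ i₁₂.hom) ≫
      (i₁₂.inv ≫ u.map (pullback.fst φ₁.fst φ₂.fst) ≫ a₁.iso.hom) := by
    simp only [Category.assoc, Iso.hom_inv_id_assoc]
    rw [← Category.assoc, hk1]
    simp
  obtain ⟨χ₁₂, hχ₁₂, eχ₁₂⟩ := exists_fac h𝒮 (k₁₂ ≫ i₁₂.hom)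
    (i₁₂.inv ≫ u.map (pullback.fst φ₁.fst φ₂.fst) ≫ a₁.iso.hom) (𝒮.p.map χ₁) eb1 μ₁.snd lμ₁
    χ₁ inferInstance
  have eb2 : 𝒮.p.map χ₂ = (k₁₂ ≫ i₁₂.hom) ≫
      (i₁₂.inv ≫ u.map (pullback.snd φ₁.fst φ₂.fst) ≫ a₂.iso.hom) := by
    simp only [Category.assoc, Iso.hom_inv_id_assoc]
    rw [← Category.assoc, hk2]
    simp
  have lμ₂ : 𝒮.p.IsHomLift (i₁₂.inv ≫ u.map (pullback.snd φ₁.fst φ₂.fst) ≫ a₂.iso.hom) μ₂.snd :=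
    snd_isHomLift μ₂
  have eχ₂ : χ₁₂ ≫ μ₂.snd = χ₂ := by
    have l3 : 𝒮.p.IsHomLift (𝒮.p.map χ₂) (χ₁₂ ≫ μ₂.snd) := by
      rw [eb2]; infer_instance
    apply cancel_right h𝒮 (𝒮.p.map χ₂) (a₂.iso.inv ≫ u.map φ₂.fst ≫ x.iso.hom) _ _ φ₂.snd l3
      inferInstance lφ₂
    have h5 : μ₂.snd ≫ φ₂.snd = μ₁.snd ≫ φ₁.snd := congrArg (fun t => t.snd) eμ
    rw [Category.assoc, h5, ← Category.assoc, eχ₁₂, e]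
  -- conclusion
  have c1 : M (μ₁ ≫ φ₁) (h₁.precomp μ₁) = μ₁ ≫ M φ₁ h₁ := hc φ₁ h₁ μ₁
  have c2 : M (μ₂ ≫ φ₂) (h₂.precomp μ₂) = μ₂ ≫ M φ₂ h₂ := hc φ₂ h₂ μ₂
  have c3 : M (μ₂ ≫ φ₂) (h₂.precomp μ₂) = M (μ₁ ≫ φ₁) (h₁.precomp μ₁) := M_congr M eμ _ _
  have d1 : μ₁.snd ≫ (M φ₁ h₁).snd = μ₂.snd ≫ (M φ₂ h₂).snd := by
    have := congrArg (fun t => t.snd) (c1.symm.trans (c3.symm.trans c2))
    exact this
  rw [← eχ₁₂, ← eχ₂, Category.assoc, Category.assoc, d1]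

theorem cp_psFull {J : GrothendieckTopology C} {K : GrothendieckTopology D}
    (hu : CoverPreserving J K u) (h𝒮 : Stk.IsStack K 𝒮) {U : C} (R : Sieve U) (hR : R ∈ J U) :
    PSFull R (cp u 𝒮) := by
  intro x y hx hy M hM hc
  have hx' : x.fst = U := hx
  subst hx'
  have hy' : y.fst = x.fst := hy
  have hS : sieveS x R ∈ K (𝒮.p.obj x.snd) :=
    K.pullback_stable x.iso.inv (hu.cover_preserve hR)
  have hfu := ((isStackFor_iff h𝒮.1).1 (h𝒮.2 _ hS)).2.1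
  -- the family on `𝒮`
  have key : ∀ ⦃b : 𝒮.obj⦄ (ψ : b ⟶ x.snd) (_ : OverR (sieveS x R) ψ), ∃ ν : b ⟶ y.snd,
      ∀ (a : (cp u 𝒮).obj) (φ : a ⟶ x) (hφ : OverR R φ) (χ : b ⟶ a.snd), χ ≫ φ.snd = ψ →
        ν = χ ≫ (M φ hφ).snd := by
    intro b ψ hψ
    obtain ⟨a, φ, hφ, χ, eχ⟩ := exists_chart_of_overR h𝒮.1 x R ψ hψ
    refine ⟨χ ≫ (M φ (overR_of_fst R φ hφ)).snd, fun a' φ' hφ' χ' e' => ?_⟩
    exact indep_chart h𝒮.1 M hc φ φ' _ hφ' χ χ' (eχ.trans e'.symm)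
  choose n hn using key
  -- the fst component of `M φ`
  have hMfst : ∀ ⦃a : (cp u 𝒮).obj⦄ (φ : a ⟶ x) (h : OverR R φ),
      (M φ h).fst = φ.fst ≫ eqToHom hy'.symm := by
    intro a φ h
    have l := hM φ h φ.fst (fst_isHomLift φ)
    have := IsHomLift.fac' (cp u 𝒮).p φ.fst (M φ h)
    have e2 : (M φ h).fst = (cp u 𝒮).p.map (M φ h) := rfl
    rw [e2, this]
    simp
  obtain ⟨g, hg⟩ : ∃ g : 𝒮.p.obj x.snd ⟶ 𝒮.p.obj y.snd,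
      g = x.iso.inv ≫ u.map (eqToHom hy'.symm) ≫ y.iso.hom := ⟨_, rfl⟩
  have hbase : ∀ ⦃a : (cp u 𝒮).obj⦄ (φ : a ⟶ x) (h : OverR R φ),
      𝒮.p.map (M φ h).snd = 𝒮.p.map φ.snd ≫ g := by
    intro a φ h
    rw [snd_map_eq, snd_map_eq, hMfst φ h, hg, u.map_comp]
    simp
  have hm : ∀ ⦃b : 𝒮.obj⦄ (ψ : b ⟶ x.snd) (h : OverR (sieveS x R) ψ) ⦃W : D⦄
      (f : W ⟶ 𝒮.p.obj x.snd), 𝒮.p.IsHomLift f ψ → 𝒮.p.IsHomLift (f ≫ g) (n ψ h) := by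
    intro b ψ h W f hf
    obtain ⟨a, φ, hφ, χ, eχ⟩ := exists_chart_of_overR h𝒮.1 x R ψ h
    rw [hn ψ h a φ (overR_of_fst R φ hφ) χ eχ]
    have hW : 𝒮.p.obj b = W := IsHomLift.domain_eq 𝒮.p f ψ
    subst hW
    have ef : f = 𝒮.p.map ψ := IsHomLift.eq_of_isHomLift 𝒮.p f ψ
    have e3 : 𝒮.p.map (χ ≫ (M φ (overR_of_fst R φ hφ)).snd) = f ≫ g := by
      rw [ef, ← eχ, Functor.map_comp, Functor.map_comp, hbase, Category.assoc]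
    rw [← e3]
    infer_instance
  have hcn : ∀ ⦃b : 𝒮.obj⦄ (ψ : b ⟶ x.snd) (h : OverR (sieveS x R) ψ) ⦃b' : 𝒮.obj⦄
      (ψ' : b' ⟶ b), n (ψ' ≫ ψ) (h.precomp ψ') = ψ' ≫ n ψ h := by
    intro b ψ h b' ψ'
    obtain ⟨a, φ, hφ, χ, eχ⟩ := exists_chart_of_overR h𝒮.1 x R ψ h
    rw [hn ψ h a φ (overR_of_fst R φ hφ) χ eχ,
      hn (ψ' ≫ ψ) (h.precomp ψ') a φ (overR_of_fst R φ hφ) (ψ' ≫ χ)
        (by rw [Category.assoc, eχ]), Category.assoc]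
  obtain ⟨θs, hθs, eθs⟩ := hfu.general h𝒮.1 rfl g rfl n hm hcn
  have wθ : u.map (eqToHom hy'.symm) ≫ y.iso.hom = x.iso.hom ≫ 𝒮.p.map θs := by
    have := IsHomLift.eq_of_isHomLift 𝒮.p g θs
    rw [← this, hg]
    simp
  let θ : x ⟶ y := ⟨eqToHom hy'.symm, θs, wθ⟩
  refine ⟨θ, ?_, fun a φ h => ?_⟩
  · apply IsHomLift.of_fac' (cp u 𝒮).p (𝟙 x.fst) θ rfl hy'
    change eqToHom hy'.symm = _
    simp
  · apply CategoricalPullback.hom_ext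
    · exact (hMfst φ h).symm
    · have hR' : R φ.fst := fst_of_overR R φ h
      have h1 := eθs φ.snd (sieveS_snd R φ hR')
      have h2 := hn φ.snd (sieveS_snd R φ hR') a φ h (𝟙 _) (Category.id_comp _)
      change φ.snd ≫ θs = (M φ h).snd
      rw [h1, h2, Category.id_comp]

end Full

end Groth.Agent.Lib.Helper17.CpStk
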