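-- helper17: charts: extending a functor from a sieve of `C` along `u : C ⥤ D` to the generated
-- sieve of `D`, with values in a category fibred in groupoids over `D`.
import Groth.Agent.Lib.Helper17CpStk1

set_option autoImplicit false
set_option backward.isDefEq.respectTransparency false
set_option backward.isDefEq.respectTransparency.types false
open CategoryTheory CategoryTheory.Functor CategoryTheory.Limits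

universe v₁ u₁ v₂ u₂ v₃ u₃ v₄ u₄ v u

namespace Groth.Agent.Lib.Helper17.CpStk

open Groth.Agent.Lib.Helper17 Groth.Agent.Lib.Helper17.Elem Groth.Agent.Lib.Helper17.GerbExt

section Charts2

variable {C : Type u} [Category.{v} C] {D : Type u₂} [Category.{v₂} D] {u : C ⥤ D}
  {𝒮 : BasedCategory.{v₃, u₃} D} {U : C} {R : Sieve U}
  (D₂ : (Stk.sieveCat R).obj ⥤ 𝒮.obj) (j : (Stk.sieveCat R).p ⋙ u ≅ D₂ ⋙ 𝒮.p)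

/-- the arrow to `u U` under the value at `a` -/
def ga (a : (Stk.sieveCat R).obj) : 𝒮.p.obj (D₂.obj a) ⟶ u.obj U :=
  (j.app a).inv ≫ u.map a.obj.hom

variable {D₂}

theorem map_base {a' a : (Stk.sieveCat R).obj} (k : a' ⟶ a) :
    𝒮.p.map (D₂.map k) ≫ (j.app a).inv = (j.app a').inv ≫ u.map k.hom.left := by
  have h := j.hom.naturality k
  have h' : u.map k.hom.left ≫ (j.app a).hom = (j.app a').hom ≫ 𝒮.p.map (D₂.map k) := h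
  rw [Iso.comp_inv_eq, Category.assoc, h', Iso.inv_hom_id_assoc]

theorem map_eq {a' a : (Stk.sieveCat R).obj} (k : a' ⟶ a) :
    𝒮.p.map (D₂.map k) = (j.app a').inv ≫ u.map k.hom.left ≫ (j.app a).hom := by
  have := map_base j k
  rw [Iso.comp_inv_eq] at this
  rw [this, Category.assoc]

theorem map_isHomLift {a' a : (Stk.sieveCat R).obj} (k : a' ⟶ a) :
    𝒮.p.IsHomLift ((j.app a').inv ≫ u.map k.hom.left ≫ (j.app a).hom) (D₂.map k) := by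
  rw [← map_eq j k]; infer_instance

theorem map_ga {a' a : (Stk.sieveCat R).obj} (k : a' ⟶ a) :
    𝒮.p.map (D₂.map k) ≫ ga D₂ j a = ga D₂ j a' := by
  unfold ga
  rw [← Category.assoc, map_base j k, Category.assoc, ← u.map_comp, Over.w k.hom]

variable (D₂)

/-- two charts of `b` have a common refinement -/
def Rel {b : 𝒮.obj} {a₁ a₂ : (Stk.sieveCat R).obj} (κ₁ : b ⟶ D₂.obj a₁) (κ₂ : b ⟶ D₂.obj a₂) :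
    Prop :=
  ∃ (a₁₂ : (Stk.sieveCat R).obj) (α₁ : a₁₂ ⟶ a₁) (α₂ : a₁₂ ⟶ a₂) (κ₁₂ : b ⟶ D₂.obj a₁₂),
    κ₁₂ ≫ D₂.map α₁ = κ₁ ∧ κ₁₂ ≫ D₂.map α₂ = κ₂

variable {D₂}

theorem Rel.refl {b : 𝒮.obj} {a : (Stk.sieveCat R).obj} (κ : b ⟶ D₂.obj a) : Rel D₂ κ κ :=
  ⟨a, 𝟙 a, 𝟙 a, κ, by simp, by simp⟩

theorem Rel.symm {b : 𝒮.obj} {a₁ a₂ : (Stk.sieveCat R).obj} {κ₁ : b ⟶ D₂.obj a₁}
    {κ₂ : b ⟶ D₂.obj a₂} (h : Rel D₂ κ₁ κ₂) : Rel D₂ κ₂ κ₁ := by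
  obtain ⟨a₁₂, α₁, α₂, κ₁₂, e₁, e₂⟩ := h
  exact ⟨a₁₂, α₂, α₁, κ₁₂, e₂, e₁⟩

theorem Rel.precomp {b b' : 𝒮.obj} {a₁ a₂ : (Stk.sieveCat R).obj} {κ₁ : b ⟶ D₂.obj a₁}
    {κ₂ : b ⟶ D₂.obj a₂} (h : Rel D₂ κ₁ κ₂) (ξ : b' ⟶ b) : Rel D₂ (ξ ≫ κ₁) (ξ ≫ κ₂) := by
  obtain ⟨a₁₂, α₁, α₂, κ₁₂, e₁, e₂⟩ := h
  exact ⟨a₁₂, α₁, α₂, ξ ≫ κ₁₂, by rw [Category.assoc, e₁], by rw [Category.assoc, e₂]⟩

theorem Rel.of_map {b : 𝒮.obj} {a' a : (Stk.sieveCat R).obj} (k : a' ⟶ a) (κ : b ⟶ D₂.obj a') :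
    Rel D₂ κ (κ ≫ D₂.map k) :=
  ⟨a', 𝟙 a', k, κ, by simp, rfl⟩

theorem Rel.base {b : 𝒮.obj} {a₁ a₂ : (Stk.sieveCat R).obj} {κ₁ : b ⟶ D₂.obj a₁}
    {κ₂ : b ⟶ D₂.obj a₂} (h : Rel D₂ κ₁ κ₂) :
    𝒮.p.map κ₁ ≫ ga D₂ j a₁ = 𝒮.p.map κ₂ ≫ ga D₂ j a₂ := by
  obtain ⟨a₁₂, α₁, α₂, κ₁₂, e₁, e₂⟩ := h
  rw [← e₁, ← e₂, Functor.map_comp, Functor.map_comp, Category.assoc, Category.assoc,
    map_ga j α₁, map_ga j α₂]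

section Pb

variable [HasPullbacks C] [PreservesLimitsOfShape WalkingCospan u]

/-- the pullback of two objects of the sieve over an object `T` over `U` -/
noncomputable def pbObj (a₁ a₂ : (Stk.sieveCat R).obj) {T : C} (t₁ : a₁.obj.left ⟶ T)
    (t₂ : a₂.obj.left ⟶ T) : (Stk.sieveCat R).obj :=
  sieveObj R (pullback.fst t₁ t₂ ≫ a₁.obj.hom) (R.downward_closed a₁.property _)

noncomputable def pbFst (a₁ a₂ : (Stk.sieveCat R).obj) {T : C} (t₁ : a₁.obj.left ⟶ T)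
    (t₂ : a₂.obj.left ⟶ T) : pbObj a₁ a₂ t₁ t₂ ⟶ a₁ :=
  ObjectProperty.homMk (Over.homMk (pullback.fst t₁ t₂) rfl)

noncomputable def pbSnd (a₁ a₂ : (Stk.sieveCat R).obj) {T : C} (t₁ : a₁.obj.left ⟶ T)
    (t₂ : a₂.obj.left ⟶ T) (t : T ⟶ U) (h₁ : t₁ ≫ t = a₁.obj.hom) (h₂ : t₂ ≫ t = a₂.obj.hom) :
    pbObj a₁ a₂ t₁ t₂ ⟶ a₂ :=
  ObjectProperty.homMk (Over.homMk (pullback.snd t₁ t₂) (by
    change pullback.snd t₁ t₂ ≫ a₂.obj.hom = pullback.fst t₁ t₂ ≫ a₁.obj.hom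
    rw [← h₁, ← h₂, ← Category.assoc, ← Category.assoc, pullback.condition]))

include j

/-- **Core lemma**: lifting a chart to a pullback. -/
theorem exists_lift_pb (h𝒮 : FibCat.IsFibGrpd 𝒮.p) (a₁ a₂ : (Stk.sieveCat R).obj) {T : C}
    (t₁ : a₁.obj.left ⟶ T) (t₂ : a₂.obj.left ⟶ T) (t : T ⟶ U) (h₁ : t₁ ≫ t = a₁.obj.hom)
    (h₂ : t₂ ≫ t = a₂.obj.hom) {b : 𝒮.obj} (κ₁ : b ⟶ D₂.obj a₁)
    (m₂ : 𝒮.p.obj b ⟶ 𝒮.p.obj (D₂.obj a₂))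
    (hm : (𝒮.p.map κ₁ ≫ (j.app a₁).inv) ≫ u.map t₁ = (m₂ ≫ (j.app a₂).inv) ≫ u.map t₂) :
    ∃ κ₁₂ : b ⟶ D₂.obj (pbObj a₁ a₂ t₁ t₂), κ₁₂ ≫ D₂.map (pbFst a₁ a₂ t₁ t₂) = κ₁ ∧
      𝒮.p.map (κ₁₂ ≫ D₂.map (pbSnd a₁ a₂ t₁ t₂ t h₁ h₂)) = m₂ := by
  have hpb : IsPullback (u.map (pullback.fst t₁ t₂)) (u.map (pullback.snd t₁ t₂))
      (u.map t₁) (u.map t₂) := (IsPullback.of_hasPullback t₁ t₂).map u
  obtain ⟨k₁₂, hk1, hk2⟩ : ∃ k₁₂ : 𝒮.p.obj b ⟶ u.obj (pullback t₁ t₂),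
      k₁₂ ≫ u.map (pullback.fst t₁ t₂) = 𝒮.p.map κ₁ ≫ (j.app a₁).inv ∧
      k₁₂ ≫ u.map (pullback.snd t₁ t₂) = m₂ ≫ (j.app a₂).inv :=
    ⟨hpb.lift _ _ hm, hpb.lift_fst _ _ hm, hpb.lift_snd _ _ hm⟩
  have l1 := map_isHomLift j (pbFst a₁ a₂ t₁ t₂)
  have eb1 : 𝒮.p.map κ₁ = (k₁₂ ≫ (j.app (pbObj a₁ a₂ t₁ t₂)).hom) ≫
      ((j.app (pbObj a₁ a₂ t₁ t₂)).inv ≫ u.map (pbFst a₁ a₂ t₁ t₂).hom.left ≫
        (j.app a₁).hom) := by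
    simp only [Category.assoc, Iso.hom_inv_id_assoc]
    change _ = k₁₂ ≫ u.map (pullback.fst t₁ t₂) ≫ _
    rw [← Category.assoc, hk1]
    simp
  obtain ⟨κ₁₂, hκ₁₂, eκ₁₂⟩ := exists_fac h𝒮 (k₁₂ ≫ (j.app (pbObj a₁ a₂ t₁ t₂)).hom) _
    (𝒮.p.map κ₁) eb1 (D₂.map (pbFst a₁ a₂ t₁ t₂)) l1 κ₁ inferInstance
  refine ⟨κ₁₂, eκ₁₂, ?_⟩
  have e1 : 𝒮.p.map κ₁₂ = k₁₂ ≫ (j.app (pbObj a₁ a₂ t₁ t₂)).hom :=
    (IsHomLift.eq_of_isHomLift 𝒮.p _ κ₁₂).symm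
  rw [Functor.map_comp, e1, map_eq j]
  simp only [Category.assoc, Iso.hom_inv_id_assoc]
  change k₁₂ ≫ u.map (pullback.snd t₁ t₂) ≫ _ = m₂
  rw [← Category.assoc, hk2]
  simp

/-- **Core uniqueness**. -/
theorem eq_of_pb (h𝒮 : FibCat.IsFibGrpd 𝒮.p) (a₁ a₂ : (Stk.sieveCat R).obj) {T : C}
    (t₁ : a₁.obj.left ⟶ T) (t₂ : a₂.obj.left ⟶ T) (t : T ⟶ U) (h₁ : t₁ ≫ t = a₁.obj.hom)
    (h₂ : t₂ ≫ t = a₂.obj.hom) {b : 𝒮.obj} (κ κ' : b ⟶ D₂.obj (pbObj a₁ a₂ t₁ t₂))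
    (e₁ : κ ≫ D₂.map (pbFst a₁ a₂ t₁ t₂) = κ' ≫ D₂.map (pbFst a₁ a₂ t₁ t₂))
    (e₂ : 𝒮.p.map (κ ≫ D₂.map (pbSnd a₁ a₂ t₁ t₂ t h₁ h₂)) =
      𝒮.p.map (κ' ≫ D₂.map (pbSnd a₁ a₂ t₁ t₂ t h₁ h₂))) : κ = κ' := by
  have hpb : IsPullback (u.map (pullback.fst t₁ t₂)) (u.map (pullback.snd t₁ t₂))
      (u.map t₁) (u.map t₂) := (IsPullback.of_hasPullback t₁ t₂).map u
  have hp : 𝒮.p.map κ = 𝒮.p.map κ' := by
    rw [← cancel_mono (j.app (pbObj a₁ a₂ t₁ t₂)).inv]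
    apply hpb.hom_ext
    · have h := congrArg (fun z => 𝒮.p.map z ≫ (j.app a₁).inv) e₁
      simp only [Functor.map_comp, Category.assoc, map_base j] at h
      simp only [Category.assoc]
      exact h
    · have h := congrArg (fun z => z ≫ (j.app a₂).inv) e₂
      simp only [Functor.map_comp, Category.assoc, map_base j] at h
      simp only [Category.assoc]
      exact h
  have l1 := map_isHomLift j (pbFst a₁ a₂ t₁ t₂)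
  have l2 : 𝒮.p.IsHomLift (𝒮.p.map κ) κ' := by rw [hp]; infer_instance
  exact cancel_right h𝒮 (𝒮.p.map κ) _ κ κ' (D₂.map (pbFst a₁ a₂ t₁ t₂)) inferInstance l2 l1 e₁

/-- **Transport** of a chart. -/
theorem exists_transport (h𝒮 : FibCat.IsFibGrpd 𝒮.p) {a₁ : (Stk.sieveCat R).obj} {b : 𝒮.obj}
    (κ₁ : b ⟶ D₂.obj a₁) (a₂ : (Stk.sieveCat R).obj) (m₂ : 𝒮.p.obj b ⟶ 𝒮.p.obj (D₂.obj a₂))
    (hm : 𝒮.p.map κ₁ ≫ ga D₂ j a₁ = m₂ ≫ ga D₂ j a₂) :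
    ∃ κ₂ : b ⟶ D₂.obj a₂, 𝒮.p.map κ₂ = m₂ ∧ Rel D₂ κ₁ κ₂ := by
  have hm' : (𝒮.p.map κ₁ ≫ (j.app a₁).inv) ≫ u.map a₁.obj.hom =
      (m₂ ≫ (j.app a₂).inv) ≫ u.map a₂.obj.hom := by
    simpa [ga] using hm
  obtain ⟨κ₁₂, e1, e2⟩ := exists_lift_pb j h𝒮 a₁ a₂ a₁.obj.hom a₂.obj.hom (𝟙 U)
    (Category.comp_id _) (Category.comp_id _) κ₁ m₂ hm'
  exact ⟨_, e2, _, _, _, κ₁₂, e1, rfl⟩

/-- **Uniqueness** of the transported chart. -/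
theorem Rel.unique (h𝒮 : FibCat.IsFibGrpd 𝒮.p) {a₁ a₂ : (Stk.sieveCat R).obj} {b : 𝒮.obj}
    {κ₁ : b ⟶ D₂.obj a₁} {κ₂ κ₂' : b ⟶ D₂.obj a₂} (h : Rel D₂ κ₁ κ₂) (h' : Rel D₂ κ₁ κ₂')
    (hp : 𝒮.p.map κ₂ = 𝒮.p.map κ₂') : κ₂ = κ₂' := by
  obtain ⟨a₁₂, α₁, α₂, κ₁₂, e₁, e₂⟩ := h
  obtain ⟨a₁₂', α₁', α₂', κ₁₂', e₁', e₂'⟩ := h'
  -- the comparison maps to the pullback over `U`
  have c : α₁.hom.left ≫ a₁.obj.hom = α₂.hom.left ≫ a₂.obj.hom := by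
    rw [Over.w α₁.hom, Over.w α₂.hom]
  have c' : α₁'.hom.left ≫ a₁.obj.hom = α₂'.hom.left ≫ a₂.obj.hom := by
    rw [Over.w α₁'.hom, Over.w α₂'.hom]
  let δ : a₁₂ ⟶ pbObj a₁ a₂ a₁.obj.hom a₂.obj.hom :=
    ObjectProperty.homMk (Over.homMk (pullback.lift α₁.hom.left α₂.hom.left c) (by
      change pullback.lift _ _ c ≫ pullback.fst _ _ ≫ a₁.obj.hom = _
      rw [pullback.lift_fst_assoc, Over.w α₁.hom]))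
  let δ' : a₁₂' ⟶ pbObj a₁ a₂ a₁.obj.hom a₂.obj.hom :=
    ObjectProperty.homMk (Over.homMk (pullback.lift α₁'.hom.left α₂'.hom.left c') (by
      change pullback.lift _ _ c' ≫ pullback.fst _ _ ≫ a₁.obj.hom = _
      rw [pullback.lift_fst_assoc, Over.w α₁'.hom]))
  have d1 : δ ≫ pbFst a₁ a₂ a₁.obj.hom a₂.obj.hom = α₁ := by
    apply ObjectProperty.hom_ext; apply Over.OverMorphism.ext
    exact pullback.lift_fst _ _ c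
  have d2 : δ ≫ pbSnd a₁ a₂ a₁.obj.hom a₂.obj.hom (𝟙 U) (Category.comp_id _)
      (Category.comp_id _) = α₂ := by
    apply ObjectProperty.hom_ext; apply Over.OverMorphism.ext
    exact pullback.lift_snd _ _ c
  have d1' : δ' ≫ pbFst a₁ a₂ a₁.obj.hom a₂.obj.hom = α₁' := by
    apply ObjectProperty.hom_ext; apply Over.OverMorphism.ext
    exact pullback.lift_fst _ _ c'
  have d2' : δ' ≫ pbSnd a₁ a₂ a₁.obj.hom a₂.obj.hom (𝟙 U) (Category.comp_id _)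
      (Category.comp_id _) = α₂' := by
    apply ObjectProperty.hom_ext; apply Over.OverMorphism.ext
    exact pullback.lift_snd _ _ c'
  have f1 : (κ₁₂ ≫ D₂.map δ) ≫ D₂.map (pbFst a₁ a₂ a₁.obj.hom a₂.obj.hom) = κ₁ := by
    rw [Category.assoc, ← D₂.map_comp, d1, e₁]
  have f2 : (κ₁₂ ≫ D₂.map δ) ≫ D₂.map (pbSnd a₁ a₂ a₁.obj.hom a₂.obj.hom (𝟙 U)
      (Category.comp_id _) (Category.comp_id _)) = κ₂ := by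
    rw [Category.assoc, ← D₂.map_comp, d2, e₂]
  have f1' : (κ₁₂' ≫ D₂.map δ') ≫ D₂.map (pbFst a₁ a₂ a₁.obj.hom a₂.obj.hom) = κ₁ := by
    rw [Category.assoc, ← D₂.map_comp, d1', e₁']
  have f2' : (κ₁₂' ≫ D₂.map δ') ≫ D₂.map (pbSnd a₁ a₂ a₁.obj.hom a₂.obj.hom (𝟙 U)
      (Category.comp_id _) (Category.comp_id _)) = κ₂' := by
    rw [Category.assoc, ← D₂.map_comp, d2', e₂']
  have key := eq_of_pb j h𝒮 a₁ a₂ a₁.obj.hom a₂.obj.hom (𝟙 U) (Category.comp_id _)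
    (Category.comp_id _) (κ₁₂ ≫ D₂.map δ) (κ₁₂' ≫ D₂.map δ') (f1.trans f1'.symm)
    (by rw [f2, f2', hp])
  rw [← f2, ← f2', key]

/-- **Transitivity** of the refinement relation. -/
theorem Rel.trans (h𝒮 : FibCat.IsFibGrpd 𝒮.p) {a₁ a₂ a₃ : (Stk.sieveCat R).obj} {b : 𝒮.obj}
    {κ₁ : b ⟶ D₂.obj a₁} {κ₂ : b ⟶ D₂.obj a₂} {κ₃ : b ⟶ D₂.obj a₃} (h : Rel D₂ κ₁ κ₂)
    (h' : Rel D₂ κ₂ κ₃) : Rel D₂ κ₁ κ₃ := by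
  obtain ⟨a₁₂, α₁, α₂, κ₁₂, e₁, e₂⟩ := h
  obtain ⟨a₂₃, α₂', α₃, κ₂₃, e₂', e₃⟩ := h'
  have hm : (𝒮.p.map κ₁₂ ≫ (j.app a₁₂).inv) ≫ u.map α₂.hom.left =
      (𝒮.p.map κ₂₃ ≫ (j.app a₂₃).inv) ≫ u.map α₂'.hom.left := by
    rw [Category.assoc, Category.assoc, ← map_base j α₂, ← map_base j α₂', ← Category.assoc,
      ← Category.assoc, ← Functor.map_comp, ← Functor.map_comp, e₂, e₂']
  obtain ⟨κ, f1, f2⟩ := exists_lift_pb j h𝒮 a₁₂ a₂₃ α₂.hom.left α₂'.hom.left a₂.obj.hom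
    (Over.w α₂.hom) (Over.w α₂'.hom) κ₁₂ (𝒮.p.map κ₂₃) hm
  have sq : pbFst a₁₂ a₂₃ α₂.hom.left α₂'.hom.left ≫ α₂ =
      pbSnd a₁₂ a₂₃ α₂.hom.left α₂'.hom.left a₂.obj.hom (Over.w α₂.hom) (Over.w α₂'.hom) ≫ α₂' := by
    apply ObjectProperty.hom_ext; apply Over.OverMorphism.ext
    exact pullback.condition
  have f3 : κ ≫ D₂.map (pbSnd a₁₂ a₂₃ α₂.hom.left α₂'.hom.left a₂.obj.hom (Over.w α₂.hom)
      (Over.w α₂'.hom)) = κ₂₃ := by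
    have l1 := map_isHomLift j α₂'
    have l2 : 𝒮.p.IsHomLift (𝒮.p.map κ₂₃) (κ ≫ D₂.map (pbSnd a₁₂ a₂₃ α₂.hom.left α₂'.hom.left
        a₂.obj.hom (Over.w α₂.hom) (Over.w α₂'.hom))) := by
      rw [← f2]; infer_instance
    apply cancel_right h𝒮 (𝒮.p.map κ₂₃) _ _ _ (D₂.map α₂') l2 inferInstance l1
    rw [Category.assoc, ← D₂.map_comp, ← sq, D₂.map_comp, ← Category.assoc, f1, e₂, e₂']
  refine ⟨_, pbFst a₁₂ a₂₃ α₂.hom.left α₂'.hom.left ≫ α₁,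
    pbSnd a₁₂ a₂₃ α₂.hom.left α₂'.hom.left a₂.obj.hom (Over.w α₂.hom) (Over.w α₂'.hom) ≫ α₃,
    κ, ?_, ?_⟩
  · rw [D₂.map_comp, ← Category.assoc, f1, e₁]
  · rw [D₂.map_comp, ← Category.assoc, f3, e₃]

end Pb

end Charts2

end Groth.Agent.Lib.Helper17.CpStk
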