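-- helper17: extending a functor from a sieve of `C` along `u : C ⥤ D` to the generated sieve of
-- `D`; cocones for `C ×_D 𝒮`.
import Groth.Agent.Lib.Helper17CpStk3

set_option autoImplicit false
set_option backward.isDefEq.respectTransparency false
set_option backward.isDefEq.respectTransparency.types false
open CategoryTheory CategoryTheory.Functor CategoryTheory.Limits

universe v₁ u₁ v₂ u₂ v₃ u₃ v₄ u₄ v u

namespace Groth.Agent.Lib.Helper17.CpStk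

open Groth.Agent.Lib.Helper17 Groth.Agent.Lib.Helper17.Elem Groth.Agent.Lib.Helper17.GerbExt

section Extend

variable {C : Type u} [Category.{v} C] {D : Type u₂} [Category.{v₂} D] {u : C ⥤ D}
  {𝒮 : BasedCategory.{v₃, u₃} D} {U : C} {R : Sieve U}
  [HasPullbacks C] [PreservesLimitsOfShape WalkingCospan u]
  (D₂ : (Stk.sieveCat R).obj ⥤ 𝒮.obj) (j : (Stk.sieveCat R).p ⋙ u ≅ D₂ ⋙ 𝒮.p)

/-- the object of the generated sieve attached to an object of the sieve -/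
def zetaObj (a : (Stk.sieveCat R).obj) : (Stk.sieveCat (R.functorPushforward u)).obj :=
  ⟨Over.mk (ga D₂ j a), ⟨a.obj.left, a.obj.hom, (j.app a).inv, a.property, rfl⟩⟩

theorem zetaObj_hom (a : (Stk.sieveCat R).obj) : (zetaObj D₂ j a).obj.hom = ga D₂ j a := rfl

/-- the morphism of the generated sieve attached to a morphism of the sieve -/
def zetaMap {a' a : (Stk.sieveCat R).obj} (k : a' ⟶ a) : zetaObj D₂ j a' ⟶ zetaObj D₂ j a :=
  ObjectProperty.homMk (Over.homMk (𝒮.p.map (D₂.map k)) (map_ga j k))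

theorem zetaMap_left {a' a : (Stk.sieveCat R).obj} (k : a' ⟶ a) :
    (Stk.sieveCat (R.functorPushforward u)).p.map (zetaMap D₂ j k) = 𝒮.p.map (D₂.map k) := rfl

theorem exists_cocone_abstract (h𝒮 : FibCat.IsFibGrpd 𝒮.p)
    (hco : HasCocone (R.functorPushforward u) 𝒮) :
    ∃ (s : 𝒮.obj) (_ : 𝒮.p.obj s = u.obj U) (γ : ∀ a, D₂.obj a ⟶ s),
      (∀ a, 𝒮.p.IsHomLift (ga D₂ j a) (γ a)) ∧
        ∀ ⦃a' a : (Stk.sieveCat R).obj⦄ (k : a' ⟶ a), D₂.map k ≫ γ a = γ a' := by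
  -- choices
  have key0 : ∀ ζ : (Stk.sieveCat (R.functorPushforward u)).obj,
      ∃ (a : (Stk.sieveCat R).obj) (k : ζ.obj.left ⟶ u.obj a.obj.left),
        ζ.obj.hom = k ≫ u.map a.obj.hom := by
    intro ζ
    obtain ⟨V, f, k, hf, e⟩ := ζ.property
    exact ⟨sieveObj R f hf, k, e⟩
  choose A kk ek using key0
  have key1 : ∀ ζ : (Stk.sieveCat (R.functorPushforward u)).obj,
      ∃ (o : 𝒮.obj) (l : o ⟶ D₂.obj (A ζ)), 𝒮.p.IsHomLift (kk ζ ≫ (j.app (A ζ)).hom) l :=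
    fun ζ => h𝒮.exists_lift (x := D₂.obj (A ζ)) (kk ζ ≫ (j.app (A ζ)).hom)
  choose o l hl using key1
  have ho : ∀ ζ, 𝒮.p.obj (o ζ) = ζ.obj.left := fun ζ =>
    IsHomLift.domain_eq 𝒮.p (kk ζ ≫ (j.app (A ζ)).hom) (l ζ)
  have hlmap : ∀ ζ, 𝒮.p.map (l ζ) = eqToHom (ho ζ) ≫ kk ζ ≫ (j.app (A ζ)).hom := by
    intro ζ
    have := hl ζ
    have h := IsHomLift.fac' 𝒮.p (kk ζ ≫ (j.app (A ζ)).hom) (l ζ)
    rw [h]; simp
  have hlb : ∀ ζ, 𝒮.p.map (l ζ) ≫ ga D₂ j (A ζ) = eqToHom (ho ζ) ≫ ζ.obj.hom := by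
    intro ζ
    rw [hlmap, ek ζ]
    simp [ga]
  -- morphisms
  have keym : ∀ {ζ' ζ : (Stk.sieveCat (R.functorPushforward u)).obj} (w : ζ' ⟶ ζ),
      ∃ ν : o ζ' ⟶ o ζ, 𝒮.p.IsHomLift ((Stk.sieveCat (R.functorPushforward u)).p.map w) ν ∧
        Rel D₂ (l ζ') (ν ≫ l ζ) := by
    intro ζ' ζ w
    have hm : 𝒮.p.map (l ζ') ≫ ga D₂ j (A ζ') =
        (eqToHom (ho ζ') ≫ w.hom.left ≫ kk ζ ≫ (j.app (A ζ)).hom) ≫ ga D₂ j (A ζ) := by
      rw [hlb, ← Over.w w.hom, ek ζ]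
      simp [ga]
    obtain ⟨κ₂, e2, rel⟩ := exists_transport j h𝒮 (l ζ') (A ζ) _ hm
    have l2 : 𝒮.p.IsHomLift (w.hom.left ≫ kk ζ ≫ (j.app (A ζ)).hom) κ₂ := by
      apply IsHomLift.of_fac' 𝒮.p _ κ₂ (ho ζ') rfl
      rw [e2]; simp
    obtain ⟨ν, hν, eν⟩ := exists_fac h𝒮 w.hom.left (kk ζ ≫ (j.app (A ζ)).hom) _ rfl (l ζ) (hl ζ)
      κ₂ l2
    exact ⟨ν, hν, by rw [eν]; exact rel⟩
  choose mm hm1 hm2 using @keym
  have uniq : ∀ {ζ' ζ : (Stk.sieveCat (R.functorPushforward u)).obj} (w : ζ' ⟶ ζ)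
      (ν ν' : o ζ' ⟶ o ζ),
      𝒮.p.IsHomLift ((Stk.sieveCat (R.functorPushforward u)).p.map w) ν →
      𝒮.p.IsHomLift ((Stk.sieveCat (R.functorPushforward u)).p.map w) ν' →
      Rel D₂ (l ζ') (ν ≫ l ζ) → Rel D₂ (l ζ') (ν' ≫ l ζ) → ν = ν' := by
    intro ζ' ζ w ν ν' hν hν' r r'
    have := hl ζ
    have hp : 𝒮.p.map (ν ≫ l ζ) = 𝒮.p.map (ν' ≫ l ζ) :=
      (IsHomLift.fac' 𝒮.p ((Stk.sieveCat (R.functorPushforward u)).p.map w ≫
        kk ζ ≫ (j.app (A ζ)).hom) (ν ≫ l ζ)).trans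
      (IsHomLift.fac' 𝒮.p ((Stk.sieveCat (R.functorPushforward u)).p.map w ≫
        kk ζ ≫ (j.app (A ζ)).hom) (ν' ≫ l ζ)).symm
    have e := Rel.unique j h𝒮 r r' hp
    exact cancel_right h𝒮 _ (kk ζ ≫ (j.app (A ζ)).hom) ν ν' (l ζ) hν hν' (hl ζ) e
  let D' : Stk.sieveCat (R.functorPushforward u) ⥤ᵇ 𝒮 :=
    { toFunctor :=
        { obj := o
          map := fun w => mm w
          map_id := fun ζ => by
            refine uniq (𝟙 ζ) _ _ (hm1 _) ?_ (hm2 _) ?_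
            · rw [CategoryTheory.Functor.map_id]
              exact IsHomLift.id (ho ζ)
            · rw [Category.id_comp]
              exact Rel.refl _
          map_comp := fun {ζ'' ζ' ζ} w w' => by
            refine uniq (w ≫ w') _ _ (hm1 _) ?_ (hm2 _) ?_
            · rw [CategoryTheory.Functor.map_comp]
              have := hm1 w
              have := hm1 w'
              infer_instance
            · have r1 := hm2 w
              have r2 := (hm2 w').precomp (mm w)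
              rw [Category.assoc]
              exact Rel.trans j h𝒮 r1 r2 }
      w := by
        apply CategoryTheory.Functor.ext
        · intro ζ' ζ w
          have := hm1 w
          exact IsHomLift.fac' 𝒮.p ((Stk.sieveCat (R.functorPushforward u)).p.map w) (mm w)
        · intro ζ
          exact ho ζ }
  obtain ⟨s, hs, ⟨c'⟩⟩ := hco D'
  -- the objects of the generated sieve attached to the objects of `R`
  let ζa : (Stk.sieveCat R).obj → (Stk.sieveCat (R.functorPushforward u)).obj := zetaObj D₂ j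
  have key2 : ∀ a : (Stk.sieveCat R).obj, ∃ ε : D₂.obj a ⟶ o (ζa a),
      𝒮.p.IsHomLift (𝟙 (𝒮.p.obj (D₂.obj a))) ε ∧ Rel D₂ (𝟙 (D₂.obj a)) (ε ≫ l (ζa a)) := by
    intro a
    have hm : 𝒮.p.map (𝟙 (D₂.obj a)) ≫ ga D₂ j a =
        (kk (ζa a) ≫ (j.app (A (ζa a))).hom) ≫ ga D₂ j (A (ζa a)) := by
      have h0 : (zetaObj D₂ j a).obj.hom = kk (ζa a) ≫ u.map (A (ζa a)).obj.hom := ek (ζa a)
      rw [CategoryTheory.Functor.map_id, Category.id_comp, ← zetaObj_hom D₂ j a, h0]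
      simp [ga]
    obtain ⟨κa, e2, rel⟩ := exists_transport j h𝒮 (𝟙 (D₂.obj a)) (A (ζa a)) _ hm
    have l2 : 𝒮.p.IsHomLift (kk (ζa a) ≫ (j.app (A (ζa a))).hom) κa := by
      rw [← e2]; infer_instance
    obtain ⟨ε, hε, eε⟩ := exists_fac h𝒮 (𝟙 (𝒮.p.obj (D₂.obj a)))
      (kk (ζa a) ≫ (j.app (A (ζa a))).hom) _ (Category.id_comp _).symm (l (ζa a)) (hl (ζa a))
      κa l2
    exact ⟨ε, hε, by rw [eε]; exact rel⟩
  choose ε hε rε using key2
  refine ⟨s, hs, fun a => ε a ≫ c'.c (ζa a), fun a => ?_, fun a' a k => ?_⟩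
  · have h1 := hε a
    have h2 : 𝒮.p.IsHomLift (ga D₂ j a) (c'.c (ζa a)) := c'.lift (ζa a)
    have : 𝒮.p.IsHomLift (𝟙 (𝒮.p.obj (D₂.obj a)) ≫ ga D₂ j a) (ε a ≫ c'.c (ζa a)) :=
      inferInstance
    simpa using this
  · let w : ζa a' ⟶ ζa a := zetaMap D₂ j k
    have hw : 𝒮.p.IsHomLift (𝒮.p.map (D₂.map k)) (mm w) := hm1 w
    have h1 := hε a
    have h1' := hε a'
    have hα : 𝒮.p.IsHomLift (𝒮.p.map (D₂.map k)) (D₂.map k ≫ ε a) := by
      have : 𝒮.p.IsHomLift (𝒮.p.map (D₂.map k) ≫ 𝟙 (𝒮.p.obj (D₂.obj a))) (D₂.map k ≫ ε a) :=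
        inferInstance
      simpa using this
    have hβ : 𝒮.p.IsHomLift (𝒮.p.map (D₂.map k)) (ε a' ≫ mm w) := by
      have : 𝒮.p.IsHomLift (𝟙 (𝒮.p.obj (D₂.obj a')) ≫ 𝒮.p.map (D₂.map k)) (ε a' ≫ mm w) :=
        inferInstance
      simpa using this
    have hla := hl (ζa a)
    have claim : D₂.map k ≫ ε a = ε a' ≫ mm w := by
      apply cancel_right h𝒮 (𝒮.p.map (D₂.map k)) (kk (ζa a) ≫ (j.app (A (ζa a))).hom) _ _
        (l (ζa a)) hα hβ hla
      have r1 : Rel D₂ (𝟙 (D₂.obj a')) ((D₂.map k ≫ ε a) ≫ l (ζa a)) := by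
        have q1 : Rel D₂ (𝟙 (D₂.obj a')) (𝟙 (D₂.obj a') ≫ D₂.map k) := Rel.of_map k _
        have q2 := (rε a).precomp (D₂.map k)
        rw [Category.comp_id] at q2
        rw [Category.id_comp] at q1
        rw [Category.assoc]
        exact Rel.trans j h𝒮 q1 q2
      have r2 : Rel D₂ (𝟙 (D₂.obj a')) ((ε a' ≫ mm w) ≫ l (ζa a)) := by
        have q1 := rε a'
        have q2 := (hm2 w).precomp (ε a')
        rw [Category.assoc]
        exact Rel.trans j h𝒮 q1 q2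
      have hp : 𝒮.p.map ((D₂.map k ≫ ε a) ≫ l (ζa a)) =
          𝒮.p.map ((ε a' ≫ mm w) ≫ l (ζa a)) :=
        (IsHomLift.fac' 𝒮.p (𝒮.p.map (D₂.map k) ≫ kk (ζa a) ≫ (j.app (A (ζa a))).hom)
          ((D₂.map k ≫ ε a) ≫ l (ζa a))).trans
        (IsHomLift.fac' 𝒮.p (𝒮.p.map (D₂.map k) ≫ kk (ζa a) ≫ (j.app (A (ζa a))).hom)
          ((ε a' ≫ mm w) ≫ l (ζa a))).symm
      exact Rel.unique j h𝒮 r1 r2 hp
    have hn : mm w ≫ c'.c (ζa a) = c'.c (ζa a') := c'.nat w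
    rw [← Category.assoc, claim, Category.assoc, hn]

end Extend

end Groth.Agent.Lib.Helper17.CpStk
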