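-- helper17: cocones for `C ×_D 𝒮`, and the stack property.
import Groth.Agent.Lib.Helper17CpStk4
import Groth.Agent.Lib.Helper17CpStk2

set_option autoImplicit false
set_option backward.isDefEq.respectTransparency false
set_option backward.isDefEq.respectTransparency.types false
open CategoryTheory CategoryTheory.Functor CategoryTheory.Limits

universe v₁ u₁ v₂ u₂ v₃ u₃ v₄ u₄ v u

namespace Groth.Agent.Lib.Helper17.CpStk

open Groth.Agent.Lib.Helper17 Groth.Agent.Lib.Helper17.Elem Groth.Agent.Lib.Helper17.GerbExt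

section Cocone

variable {C : Type u} [Category.{v} C] {D : Type u₂} [Category.{v₂} D] {u : C ⥤ D}
  {𝒮 : BasedCategory.{v₃, u₃} D} {U : C} {R : Sieve U}

/-- the second component of a diagram in `C ×_D 𝒮` -/
def dgSnd (Dg : Stk.sieveCat R ⥤ᵇ cp u 𝒮) : (Stk.sieveCat R).obj ⥤ 𝒮.obj :=
  Dg.toFunctor ⋙ CategoricalPullback.π₂ u 𝒮.p

theorem dg_fst_obj (Dg : Stk.sieveCat R ⥤ᵇ cp u 𝒮) (a : (Stk.sieveCat R).obj) :
    (Dg.obj a).fst = a.obj.left := Dg.w_obj a

theorem dg_fst_map (Dg : Stk.sieveCat R ⥤ᵇ cp u 𝒮) {a' a : (Stk.sieveCat R).obj} (k : a' ⟶ a) :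
    (Dg.map k).fst = eqToHom (dg_fst_obj Dg a') ≫ k.hom.left ≫ eqToHom (dg_fst_obj Dg a).symm := by
  have h := CategoryTheory.Functor.congr_hom Dg.w k
  exact h

/-- the comparison iso for a diagram in `C ×_D 𝒮` -/
def dgIso (Dg : Stk.sieveCat R ⥤ᵇ cp u 𝒮) : (Stk.sieveCat R).p ⋙ u ≅ dgSnd Dg ⋙ 𝒮.p :=
  NatIso.ofComponents
    (fun a => eqToIso (congrArg u.obj (dg_fst_obj Dg a).symm) ≪≫ (Dg.obj a).iso)
    (by
      intro a' a k
      have hw := (Dg.map k).w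
      have h1 := dg_fst_map Dg k
      simp only [CategoryTheory.Functor.comp_obj, CategoryTheory.Functor.comp_map, Iso.trans_hom, eqToIso.hom, Category.assoc]
      change u.map k.hom.left ≫ eqToHom _ ≫ (Dg.obj a).iso.hom =
        eqToHom _ ≫ (Dg.obj a').iso.hom ≫ 𝒮.p.map (Dg.map k).snd
      rw [← hw, h1]
      simp [eqToHom_map])

theorem dgIso_app_inv (Dg : Stk.sieveCat R ⥤ᵇ cp u 𝒮) (a : (Stk.sieveCat R).obj) :
    ((dgIso Dg).app a).inv =
      (Dg.obj a).iso.inv ≫ eqToHom (congrArg u.obj (dg_fst_obj Dg a)) := by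
  simp [dgIso]

theorem cp_hasCocone [HasPullbacks C] [PreservesLimitsOfShape WalkingCospan u]
    {J : GrothendieckTopology C} {K : GrothendieckTopology D}
    (hu : CoverPreserving J K u) (h𝒮 : Stk.IsStack K 𝒮) (R : Sieve U) (hR : R ∈ J U) :
    HasCocone R (cp u 𝒮) := by
  intro Dg
  have hco := ((isStackFor_iff h𝒮.1).1 (h𝒮.2 _ (hu.cover_preserve hR))).2.2
  obtain ⟨s, hs, γ, hγ, nγ⟩ := exists_cocone_abstract (dgSnd Dg) (dgIso Dg) h𝒮.1 hco
  refine ⟨⟨U, s, eqToIso hs.symm⟩, rfl, ⟨?_⟩⟩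
  have hw : ∀ a : (Stk.sieveCat R).obj,
      u.map (eqToHom (dg_fst_obj Dg a) ≫ a.obj.hom) ≫ eqToHom hs.symm =
        (Dg.obj a).iso.hom ≫ 𝒮.p.map (γ a) := by
    intro a
    have e : ga (dgSnd Dg) (dgIso Dg) a =
        (Dg.obj a).iso.inv ≫ eqToHom (congrArg u.obj (dg_fst_obj Dg a)) ≫ u.map a.obj.hom := by
      unfold ga
      rw [dgIso_app_inv, Category.assoc]
    have l : 𝒮.p.IsHomLift
        ((Dg.obj a).iso.inv ≫ eqToHom (congrArg u.obj (dg_fst_obj Dg a)) ≫ u.map a.obj.hom)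
        (γ a) := e ▸ hγ a
    have h := IsHomLift.fac' 𝒮.p
      ((Dg.obj a).iso.inv ≫ eqToHom (congrArg u.obj (dg_fst_obj Dg a)) ≫ u.map a.obj.hom) (γ a)
    rw [h]
    simp [eqToHom_map]
  refine
    { c := fun a => ⟨eqToHom (dg_fst_obj Dg a) ≫ a.obj.hom, γ a, hw a⟩
      lift := ?_
      nat := ?_ }
  · intro a
    apply IsHomLift.of_fac' (cp u 𝒮).p _ _ (dg_fst_obj Dg a) rfl
    simp only [eqToHom_refl, Category.comp_id]
    rfl
  · intro a a' k
    apply CategoricalPullback.hom_ext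
    · change (Dg.map k).fst ≫ eqToHom (dg_fst_obj Dg a') ≫ a'.obj.hom =
        eqToHom (dg_fst_obj Dg a) ≫ a.obj.hom
      rw [dg_fst_map]
      simp
    · exact nγ k

end Cocone

end Groth.Agent.Lib.Helper17.CpStk
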