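import Groth.Agent.Lib.Helper17KInj4
import Mathlib.Algebra.Homology.HomologySequenceLemmas
import Mathlib.CategoryTheory.MorphismProperty.LiftingProperty
import Mathlib.CategoryTheory.Preadditive.Injective.Basic
import Mathlib.CategoryTheory.Abelian.Injective.Basic

/-!
# Disks, spheres and trivial cofibrations (helper17)

A monomorphism of cochain complexes is a quasi-isomorphism iff it has the left lifting
property with respect to the maps `disk E n (n+1) ⟶ sphere E n` for `E` injective.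
-/

set_option autoImplicit false

universe v u

open CategoryTheory CategoryTheory.Limits HomologicalComplex

namespace Groth.Agent.Lib.Helper17.KInj

variable {A : Type u} [Category.{v} A] [Abelian A]

lemma exactAt_iff_sc' (K : CochainComplex A ℤ) (n₀ n₁ n₂ : ℤ) (h₀₁ : n₀ + 1 = n₁)
    (h₁₂ : n₁ + 1 = n₂) : K.ExactAt n₁ ↔ (K.sc' n₀ n₁ n₂).Exact :=
  K.exactAt_iff' n₀ n₁ n₂ (by simp; omega) (by simp; omega)

lemma disk_acyclic (E : A) (n₀ n₁ : ℤ) (h : n₀ + 1 = n₁) : (disk E n₀ n₁ h).Acyclic := by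
  intro i
  by_cases h₀ : i = n₀
  · subst h₀
    rw [exactAt_iff_sc' _ (i - 1) i n₁ (by omega) h,
      ShortComplex.exact_iff_mono _
        ((isZero_disk_X E i n₁ h (i - 1) (by omega) (by omega)).eq_of_src _ _)]
    change Mono ((disk E i n₁ h).d i n₁)
    rw [disk_d]
    infer_instance
  · by_cases h₁ : i = n₁
    · subst h₁
      rw [exactAt_iff_sc' _ n₀ i (i + 1) h rfl,
        ShortComplex.exact_iff_epi _
          ((isZero_disk_X E n₀ i h (i + 1) (by omega) (by omega)).eq_of_tgt _ _)]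
      change Epi ((disk E n₀ i h).d n₀ i)
      rw [disk_d]
      infer_instance
    · exact ShortComplex.exact_of_isZero_X₂ _ (isZero_disk_X E n₀ n₁ h i h₀ h₁)

/-- the sphere complex. -/
noncomputable def sphere (E : A) (n : ℤ) : CochainComplex A ℤ :=
  (HomologicalComplex.single A (ComplexShape.up ℤ) n).obj E

/-- the nonzero term of the sphere. -/
noncomputable def sphereIso (E : A) (n : ℤ) : (sphere E n).X n ≅ E :=
  HomologicalComplex.singleObjXSelf (ComplexShape.up ℤ) n E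

/-- the projection from the disk to the sphere. -/
noncomputable def diskToSphere (E : A) (n₀ n₁ : ℤ) (h : n₀ + 1 = n₁) :
    disk E n₀ n₁ h ⟶ sphere E n₀ :=
  HomologicalComplex.mkHomToSingle (diskIso₀ E n₀ n₁ h).hom (by
    intro i hi
    have hi' : i + 1 = n₀ := hi
    exact (isZero_disk_X E n₀ n₁ h i (by omega) (by omega)).eq_of_src _ _)

lemma diskToSphere_f (E : A) (n₀ n₁ : ℤ) (h : n₀ + 1 = n₁) :
    (diskToSphere E n₀ n₁ h).f n₀ = (diskIso₀ E n₀ n₁ h).hom ≫ (sphereIso E n₀).inv :=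
  HomologicalComplex.mkHomToSingle_f _ _

lemma to_sphere_hom_ext {K : CochainComplex A ℤ} {E : A} {n : ℤ} {f g : K ⟶ sphere E n}
    (h : f.f n = g.f n) : f = g :=
  HomologicalComplex.to_single_hom_ext h

lemma d_comp_to_sphere {K : CochainComplex A ℤ} {E : A} {n : ℤ} (b : K ⟶ sphere E n) (i : ℤ) :
    K.d i n ≫ b.f n = 0 := by
  rw [← b.comm i n]
  have : (sphere E n).d i n = 0 := HomologicalComplex.single_obj_d _ _ _ _ _
  rw [this, comp_zero]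

/-- component of a map to a disk. -/
lemma to_disk_f₀ {K : CochainComplex A ℤ} {E : A} {n₀ n₁ : ℤ} {h : n₀ + 1 = n₁}
    (a : K ⟶ disk E n₀ n₁ h) :
    a.f n₀ ≫ (diskIso₀ E n₀ n₁ h).hom = K.d n₀ n₁ ≫ a.f n₁ ≫ (diskIso₁ E n₀ n₁ h).hom := by
  have := a.comm n₀ n₁
  rw [disk_d] at this
  rw [← Category.assoc, ← this]
  simp

section

variable {S : ShortComplex (CochainComplex A ℤ)} (hS : S.ShortExact)

include hS

lemma shortExact_eval (n : ℤ) :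
    (S.map (HomologicalComplex.eval A (ComplexShape.up ℤ) n)).ShortExact :=
  hS.map_of_exact _

lemma mono_f_f (n : ℤ) : Mono (S.f.f n) := (shortExact_eval hS n).mono_f

lemma epi_g_f (n : ℤ) : Epi (S.g.f n) := (shortExact_eval hS n).epi_g

lemma f_g_f (n : ℤ) : S.f.f n ≫ S.g.f n = 0 := by
  rw [← HomologicalComplex.comp_f, S.zero, HomologicalComplex.zero_f]

/-- descend along `S.g.f n`. -/
lemma exists_desc (n : ℤ) {W : A} (k : S.X₂.X n ⟶ W) (hk : S.f.f n ≫ k = 0) :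
    ∃ c : S.X₃.X n ⟶ W, S.g.f n ≫ c = k := by
  haveI : Epi (S.map (HomologicalComplex.eval A (ComplexShape.up ℤ) n)).g :=
    (shortExact_eval hS n).epi_g
  exact (shortExact_eval hS n).exact.desc' k hk

theorem hasLiftingProperty_diskToSphere (hC : S.X₃.Acyclic) (E : A) [Injective E]
    (n₀ n₁ : ℤ) (h : n₀ + 1 = n₁) : HasLiftingProperty S.f (diskToSphere E n₀ n₁ h) := by
  refine ⟨fun {a b} sq => ?_⟩
  haveI := mono_f_f hS n₁
  haveI := epi_g_f hS (n₀ - 1)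
  have cf : S.f.f n₀ ≫ S.X₂.d n₀ n₁ = S.X₁.d n₀ n₁ ≫ S.f.f n₁ := S.f.comm n₀ n₁
  have cg : S.g.f n₀ ≫ S.X₃.d n₀ n₁ = S.X₂.d n₀ n₁ ≫ S.g.f n₁ := S.g.comm n₀ n₁
  have cg' : S.g.f (n₀ - 1) ≫ S.X₃.d (n₀ - 1) n₀ = S.X₂.d (n₀ - 1) n₀ ≫ S.g.f n₀ :=
    S.g.comm (n₀ - 1) n₀
  obtain ⟨a₁, ha₁⟩ : ∃ a₁ : S.X₁.X n₁ ⟶ E, a₁ = a.f n₁ ≫ (diskIso₁ E n₀ n₁ h).hom := ⟨_, rfl⟩
  obtain ⟨b₀, hb₀⟩ : ∃ b₀ : S.X₂.X n₀ ⟶ E, b₀ = b.f n₀ ≫ (sphereIso E n₀).hom := ⟨_, rfl⟩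
  have F1 : a.f n₀ ≫ (diskIso₀ E n₀ n₁ h).hom = S.X₁.d n₀ n₁ ≫ a₁ := by
    rw [ha₁]
    exact to_disk_f₀ a
  have F2 : a.f n₀ ≫ (diskIso₀ E n₀ n₁ h).hom = S.f.f n₀ ≫ b₀ := by
    have := HomologicalComplex.congr_hom sq.w n₀
    rw [HomologicalComplex.comp_f, HomologicalComplex.comp_f, diskToSphere_f] at this
    have := this =≫ (sphereIso E n₀).hom
    simp only [Category.assoc, Iso.inv_hom_id, Category.comp_id] at this
    rw [hb₀, this]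
  have F3 : S.X₂.d (n₀ - 1) n₀ ≫ b₀ = 0 := by
    rw [hb₀, ← Category.assoc, d_comp_to_sphere, zero_comp]
  obtain ⟨l', hl'₁⟩ : ∃ l' : S.X₂.X n₁ ⟶ E, S.f.f n₁ ≫ l' = a₁ :=
    ⟨Injective.factorThru a₁ (S.f.f n₁), Injective.comp_factorThru _ _⟩
  obtain ⟨r, hr⟩ : ∃ r : S.X₂.X n₀ ⟶ E, r = b₀ - S.X₂.d n₀ n₁ ≫ l' := ⟨_, rfl⟩
  have hr₁ : S.f.f n₀ ≫ r = 0 := by
    rw [hr, Preadditive.comp_sub, ← F2, F1, reassoc_of% cf, hl'₁, sub_self]
  obtain ⟨c, hc⟩ := exists_desc hS n₀ r hr₁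
  have hc₁ : S.X₃.d (n₀ - 1) n₀ ≫ c = 0 := by
    rw [← cancel_epi (S.g.f (n₀ - 1)), comp_zero, reassoc_of% cg', hc,
      hr, Preadditive.comp_sub, F3, HomologicalComplex.d_comp_d_assoc, zero_comp,
      sub_self]
  have hex := (exactAt_iff_sc' S.X₃ (n₀ - 1) n₀ n₁ (by omega) h).1 (hC n₀)
  obtain ⟨c', hc'₁⟩ : ∃ c' : S.X₃.X n₁ ⟶ E, S.X₃.d n₀ n₁ ≫ c' = c :=
    ⟨hex.descToInjective c hc₁, hex.comp_descToInjective c hc₁⟩
  obtain ⟨l₁, hl₁⟩ : ∃ l₁ : S.X₂.X n₁ ⟶ E, l₁ = l' + S.g.f n₁ ≫ c' := ⟨_, rfl⟩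
  have L1 : S.f.f n₁ ≫ l₁ = a₁ := by
    rw [hl₁, Preadditive.comp_add, hl'₁, reassoc_of% (f_g_f hS n₁), zero_comp, add_zero]
  have L2 : S.X₂.d n₀ n₁ ≫ l₁ = b₀ := by
    rw [hl₁, Preadditive.comp_add, ← reassoc_of% cg, hc'₁, hc, hr]
    abel
  refine ⟨⟨{ l := toDisk h l₁, fac_left := ?_, fac_right := ?_ }⟩⟩
  · apply to_disk_hom_ext
    · rw [HomologicalComplex.comp_f, toDisk_f₀, reassoc_of% cf, reassoc_of% L1, ← reassoc_of% F1,
        Iso.hom_inv_id, Category.comp_id]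
    · rw [HomologicalComplex.comp_f, toDisk_f₁, reassoc_of% L1, ha₁, Category.assoc,
        Iso.hom_inv_id, Category.comp_id]
  · apply to_sphere_hom_ext
    rw [HomologicalComplex.comp_f, toDisk_f₀, diskToSphere_f, reassoc_of% L2, hb₀]
    simp

theorem acyclic_X₃_of_hasLiftingProperty [EnoughInjectives A]
    (H : ∀ (E : A) [Injective E] (n₀ n₁ : ℤ) (h : n₀ + 1 = n₁),
      HasLiftingProperty S.f (diskToSphere E n₀ n₁ h)) : S.X₃.Acyclic := by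
  intro n₀
  rw [exactAt_iff_sc' S.X₃ (n₀ - 1) n₀ (n₀ + 1) (by omega) rfl,
    ShortComplex.exact_iff_mono_fromOpcycles]
  haveI := epi_g_f hS n₀
  have cg : S.g.f n₀ ≫ S.X₃.d n₀ (n₀ + 1) = S.X₂.d n₀ (n₀ + 1) ≫ S.g.f (n₀ + 1) :=
    S.g.comm n₀ (n₀ + 1)
  obtain ⟨E, hE, ι, hι⟩ : ∃ (E : A) (_ : Injective E)
      (ι : (S.X₃.sc' (n₀ - 1) n₀ (n₀ + 1)).opcycles ⟶ E), Mono ι :=
    ⟨Injective.under _, inferInstance, Injective.ι _, inferInstance⟩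
  obtain ⟨p, hp⟩ : ∃ p : S.X₃.X n₀ ⟶ (S.X₃.sc' (n₀ - 1) n₀ (n₀ + 1)).opcycles,
      p = (S.X₃.sc' (n₀ - 1) n₀ (n₀ + 1)).pOpcycles := ⟨_, rfl⟩
  have hp₁ : S.X₃.d (n₀ - 1) n₀ ≫ p = 0 := by
    rw [hp]
    exact (S.X₃.sc' (n₀ - 1) n₀ (n₀ + 1)).f_pOpcycles
  have hp₂ : p ≫ (S.X₃.sc' (n₀ - 1) n₀ (n₀ + 1)).fromOpcycles = S.X₃.d n₀ (n₀ + 1) := by
    rw [hp]
    exact (S.X₃.sc' (n₀ - 1) n₀ (n₀ + 1)).p_fromOpcycles
  haveI : Epi p := by
    rw [hp]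
    exact inferInstanceAs (Epi (ShortComplex.pOpcycles _))
  obtain ⟨b₀, hb₀⟩ : ∃ b₀ : S.X₂.X n₀ ⟶ E, b₀ = S.g.f n₀ ≫ p ≫ ι := ⟨_, rfl⟩
  have hb₀' : ∀ i, (ComplexShape.up ℤ).Rel i n₀ → S.X₂.d i n₀ ≫ b₀ = 0 := by
    intro i hi
    obtain rfl : i = n₀ - 1 := by
      have : i + 1 = n₀ := hi
      omega
    have cg' : S.g.f (n₀ - 1) ≫ S.X₃.d (n₀ - 1) n₀ = S.X₂.d (n₀ - 1) n₀ ≫ S.g.f n₀ :=
      S.g.comm (n₀ - 1) n₀
    rw [hb₀, ← reassoc_of% cg', reassoc_of% hp₁, zero_comp, comp_zero]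
  obtain ⟨b, hb⟩ : ∃ b : S.X₂ ⟶ sphere E n₀, b.f n₀ = b₀ ≫ (sphereIso E n₀).inv :=
    ⟨HomologicalComplex.mkHomToSingle b₀ hb₀', HomologicalComplex.mkHomToSingle_f _ _⟩
  have sq : CommSq (0 : S.X₁ ⟶ disk E n₀ (n₀ + 1) rfl) S.f (diskToSphere E n₀ (n₀ + 1) rfl) b :=
    ⟨by
      apply to_sphere_hom_ext
      rw [zero_comp, HomologicalComplex.comp_f, hb, hb₀, HomologicalComplex.zero_f]
      simp only [Category.assoc]
      rw [reassoc_of% (f_g_f hS n₀), zero_comp]⟩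
  haveI := H E n₀ (n₀ + 1) rfl
  obtain ⟨l, hl₁, hl₂⟩ : ∃ l : S.X₂ ⟶ disk E n₀ (n₀ + 1) rfl, S.f ≫ l = 0 ∧
      l ≫ diskToSphere E n₀ (n₀ + 1) rfl = b := ⟨sq.lift, sq.fac_left, sq.fac_right⟩
  obtain ⟨l₁, hl₁'⟩ : ∃ l₁ : S.X₂.X (n₀ + 1) ⟶ E,
      l₁ = l.f (n₀ + 1) ≫ (diskIso₁ E n₀ (n₀ + 1) rfl).hom := ⟨_, rfl⟩
  have L1 : S.f.f (n₀ + 1) ≫ l₁ = 0 := by
    have := HomologicalComplex.congr_hom hl₁ (n₀ + 1)
    rw [HomologicalComplex.comp_f, HomologicalComplex.zero_f] at this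
    rw [hl₁', reassoc_of% this, zero_comp]
  have L2 : S.X₂.d n₀ (n₀ + 1) ≫ l₁ = b₀ := by
    have h1 := to_disk_f₀ l
    have h2 := HomologicalComplex.congr_hom hl₂ n₀
    rw [HomologicalComplex.comp_f, diskToSphere_f, hb] at h2
    have h3 : l.f n₀ ≫ (diskIso₀ E n₀ (n₀ + 1) rfl).hom = b₀ := by
      have := h2 =≫ (sphereIso E n₀).hom
      simpa using this
    rw [hl₁', ← h1, h3]
  obtain ⟨c', hc'⟩ := exists_desc hS (n₀ + 1) l₁ L1
  have e1 : S.X₃.d n₀ (n₀ + 1) ≫ c' = p ≫ ι := by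
    rw [← cancel_epi (S.g.f n₀), reassoc_of% cg, hc', L2, hb₀]
  have key : (S.X₃.sc' (n₀ - 1) n₀ (n₀ + 1)).fromOpcycles ≫ c' = ι :=
    (cancel_epi p).1 (show p ≫ (S.X₃.sc' (n₀ - 1) n₀ (n₀ + 1)).fromOpcycles ≫ c' = p ≫ ι from
      (Category.assoc _ _ _).symm.trans ((congrArg (· ≫ c') hp₂).trans e1))
  exact mono_of_mono_fac key

theorem quasiIso_f_of_acyclic_X₃ (h : S.X₃.Acyclic) : QuasiIso S.f := by
  rw [quasiIso_iff]
  intro j
  rw [quasiIsoAt_iff_isIso_homologyMap]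
  haveI : Mono (HomologicalComplex.homologyMap S.f j) :=
    (hS.homology_exact₁ (j - 1) j (by simp)).mono_g
      ((h (j - 1)).isZero_homology.eq_of_src _ _)
  haveI : Epi (HomologicalComplex.homologyMap S.f j) :=
    (hS.homology_exact₂ j).epi_f ((h j).isZero_homology.eq_of_tgt _ _)
  exact isIso_of_mono_of_epi _

theorem quasiIso_f_iff_acyclic_X₃ : QuasiIso S.f ↔ S.X₃.Acyclic :=
  ⟨fun h => hS.acyclic_X₃ h, quasiIso_f_of_acyclic_X₃ hS⟩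

end

/-- the short exact sequence attached to a monomorphism. -/
lemma shortExact_of_mono {X Y : CochainComplex A ℤ} (f : X ⟶ Y) [Mono f] :
    (ShortComplex.mk f (cokernel.π f) (cokernel.condition f)).ShortExact where
  exact := ShortComplex.exact_of_g_is_cokernel _ (cokernelIsCokernel f)
  mono_f := inferInstanceAs (Mono f)
  epi_g := inferInstanceAs (Epi (cokernel.π f))

/-- trivial cofibrations: monomorphisms which are quasi-isomorphisms. -/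
def trivCof : MorphismProperty (CochainComplex A ℤ) := fun _ _ f => Mono f ∧ QuasiIso f

/-- the maps from disks to spheres on injective objects. -/
inductive diskSphere : MorphismProperty (CochainComplex A ℤ)
  | mk (E : A) [Injective E] (n₀ n₁ : ℤ) (h : n₀ + 1 = n₁) : diskSphere (diskToSphere E n₀ n₁ h)

theorem trivCof_iff [EnoughInjectives A] {X Y : CochainComplex A ℤ} (f : X ⟶ Y) :
    trivCof f ↔ Mono f ∧ (diskSphere (A := A)).llp f := by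
  constructor
  · rintro ⟨hf, hq⟩
    refine ⟨hf, ?_⟩
    rintro _ _ _ ⟨E, n₀, n₁, h⟩
    have hS := shortExact_of_mono f
    exact hasLiftingProperty_diskToSphere hS (hS.acyclic_X₃ hq) E n₀ n₁ h
  · rintro ⟨hf, hl⟩
    refine ⟨hf, ?_⟩
    have hS := shortExact_of_mono f
    exact quasiIso_f_of_acyclic_X₃ hS (acyclic_X₃_of_hasLiftingProperty hS
      (fun E _ n₀ n₁ h => hl _ (diskSphere.mk E n₀ n₁ h)))

theorem trivCof_eq [EnoughInjectives A] :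
    trivCof (A := A) = MorphismProperty.monomorphisms _ ⊓ (diskSphere (A := A)).llp := by
  ext X Y f
  rw [trivCof_iff]
  rfl

end Groth.Agent.Lib.Helper17.KInj
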