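import Mathlib.Algebra.Homology.DerivedCategory.Ext.ExactSequences
import Mathlib.Algebra.Homology.DerivedCategory.Ext.EnoughInjectives
import Groth.Agent.Lib.Helper17KInj5

/-!
# Acyclic complexes of `Hom(P, -)`-acyclic objects (helper17)

Dimension shifting for `Ext^i(P, -)` along an acyclic complex `C` whose terms are acyclic for
`Hom(P, -)`: if `C` is bounded below or `Ext^i(P, -) = 0` for `i > d`, then `Hom(P, C^•)` is exact.
-/

set_option autoImplicit false

universe w v u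

open CategoryTheory CategoryTheory.Limits CategoryTheory.Abelian HomologicalComplex

namespace Groth.Agent.Lib.Helper17.Cpt

variable {A : Type u} [Category.{v} A] [Abelian A] [HasExt.{w} A] (P : A)

/-- `X` is acyclic for `Hom(P, -)`. -/
def ExtAcyc (X : A) : Prop := ∀ (i : ℕ) (x : Ext P X (i + 1)), x = 0

lemma extAcyc_of_injective (X : A) [Injective X] : ExtAcyc P X :=
  fun _ x => Ext.eq_zero_of_injective x

lemma extAcyc_of_isZero {X : A} (hX : IsZero X) : ExtAcyc P X := by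
  haveI := hX.injective
  exact extAcyc_of_injective P X

variable {P}

/-- dimension shifting. -/
lemma ext_eq_zero_of_shortExact {S : ShortComplex A} (hS : S.ShortExact) (h₂ : ExtAcyc P S.X₂)
    (i : ℕ) (h₁ : ∀ x : Ext P S.X₁ (i + 2), x = 0) (x : Ext P S.X₃ (i + 1)) : x = 0 := by
  obtain ⟨x₂, rfl⟩ := Ext.covariant_sequence_exact₃ P hS x (rfl : i + 1 + 1 = i + 2) (h₁ _)
  rw [h₂ i x₂, Ext.zero_comp]

lemma extAcyc_X₃_of_shortExact {S : ShortComplex A} (hS : S.ShortExact) (h₂ : ExtAcyc P S.X₂)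
    (h₁ : ExtAcyc P S.X₁) : ExtAcyc P S.X₃ :=
  fun i x => ext_eq_zero_of_shortExact hS h₂ i (h₁ (i + 1)) x

lemma exists_lift_of_shortExact {S : ShortComplex A} (hS : S.ShortExact)
    (h₁ : ∀ x : Ext P S.X₁ 1, x = 0) (f : P ⟶ S.X₃) : ∃ g : P ⟶ S.X₂, g ≫ S.g = f := by
  obtain ⟨x₂, hx₂⟩ := Ext.covariant_sequence_exact₃ P hS (Ext.mk₀ f) (rfl : 0 + 1 = 1) (h₁ _)
  obtain ⟨g, rfl⟩ := (Ext.mk₀_bijective P S.X₂).2 x₂
  refine ⟨g, ?_⟩
  rw [Ext.mk₀_comp_mk₀] at hx₂
  exact (Ext.mk₀_bijective _ _).1 hx₂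

omit [HasExt.{w} A] in
/-- For an exact `X ⟶ Y ⟶ Z`, the short exact sequence `0 ⟶ ker f ⟶ X ⟶ ker g ⟶ 0`. -/
lemma shortExact_kernel {S : ShortComplex A} (hS : S.Exact) :
    (ShortComplex.mk (kernel.ι S.f) (kernel.lift S.g S.f S.zero)
      (by rw [← cancel_mono (kernel.ι S.g)]; simp)).ShortExact := by
  haveI : Epi (kernel.lift S.g S.f S.zero) := S.exact_iff_epi_kernel_lift.1 hS
  refine ShortComplex.ShortExact.mk' ?_ inferInstance ‹_›
  refine ShortComplex.exact_of_f_is_kernel _ ?_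
  exact isKernelOfComp (kernel.ι S.g) S.f (kernelIsKernel S.f) _ (kernel.lift_ι _ _ _)

section Complex

variable (C : CochainComplex A ℤ)

/-- cycles of a cochain complex. -/
noncomputable abbrev Zc (n : ℤ) : A := kernel (C.d n (n + 1))

/-- the short complex `Z^n ⟶ C^n ⟶ Z^{n+1}`. -/
noncomputable def zSC (n : ℤ) : ShortComplex A :=
  ShortComplex.mk (kernel.ι (C.d n (n + 1)) : Zc C n ⟶ C.X n)
    (kernel.lift (C.d (n + 1) (n + 1 + 1)) (C.d n (n + 1)) (C.d_comp_d _ _ _) : C.X n ⟶ Zc C (n + 1))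
    (by rw [← cancel_mono (kernel.ι _)]; simp)

omit [HasExt.{w} A] in
lemma zSC_shortExact (n : ℤ) (h : C.ExactAt (n + 1)) : (zSC C n).ShortExact :=
  shortExact_kernel (S := C.sc' n (n + 1) (n + 1 + 1))
    ((Groth.Agent.Lib.Helper17.KInj.exactAt_iff_sc' C n (n + 1) (n + 1 + 1) rfl rfl).1 h)

omit [HasExt.{w} A] in
lemma isZero_Zc {n : ℤ} (h : IsZero (C.X n)) : IsZero (Zc C n) :=
  IsZero.of_mono (kernel.ι (C.d n (n + 1))) h

/-- all higher Ext groups from `P` to the cycles of `C` vanish. -/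
theorem ext_Zc_eq_zero (hC : ∀ n, C.ExactAt n) (hX : ∀ n, ExtAcyc P (C.X n))
    (hbd : (∃ a : ℤ, ∀ n < a, IsZero (C.X n)) ∨
      (∃ d : ℕ, ∀ (Y : A) (i : ℕ), d < i → ∀ x : Ext P Y i, x = 0)) (n : ℤ) :
    ExtAcyc P (Zc C n) := by
  have step : ∀ (m : ℤ) (i : ℕ), (∀ x : Ext P (Zc C m) (i + 2), x = 0) →
      ∀ x : Ext P (Zc C (m + 1)) (i + 1), x = 0 := fun m i h x =>
    ext_eq_zero_of_shortExact (zSC_shortExact C m (hC _)) (hX m) i h x
  rcases hbd with ⟨a, ha⟩ | ⟨d, hd⟩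
  · have key : ∀ (k : ℕ) (n : ℤ), n < a + k → ExtAcyc P (Zc C n) := by
      intro k
      induction k with
      | zero =>
        intro n hn
        exact extAcyc_of_isZero P (isZero_Zc C (ha n (by simpa using hn)))
      | succ k ih =>
        intro n hn
        obtain ⟨m, rfl⟩ : ∃ m, n = m + 1 := ⟨n - 1, by omega⟩
        intro i x
        exact step m i (ih m (by push_cast at hn; omega) (i + 1)) x
    exact key (n - a + 1).toNat n (by omega)
  · have key : ∀ (k : ℕ) (n : ℤ) (i : ℕ), d ≤ i + k → ∀ x : Ext P (Zc C n) (i + 1), x = 0 := by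
      intro k
      induction k with
      | zero =>
        intro n i hi x
        exact hd _ _ (by omega) x
      | succ k ih =>
        intro n i hi x
        obtain ⟨m, rfl⟩ : ∃ m, n = m + 1 := ⟨n - 1, by omega⟩
        exact step m i (ih m (i + 1) (by omega)) x
    intro i x
    exact key d n i (by omega) x

/-- `Hom(P, C^•)` is exact. -/
theorem exists_lift_of_cocycle (hC : ∀ n, C.ExactAt n) (hX : ∀ n, ExtAcyc P (C.X n))
    (hbd : (∃ a : ℤ, ∀ n < a, IsZero (C.X n)) ∨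
      (∃ d : ℕ, ∀ (Y : A) (i : ℕ), d < i → ∀ x : Ext P Y i, x = 0))
    (i j k : ℤ) (hij : i + 1 = j) (hjk : j + 1 = k) (f : P ⟶ C.X j) (hf : f ≫ C.d j k = 0) :
    ∃ g : P ⟶ C.X i, g ≫ C.d i j = f := by
  subst hij hjk
  obtain ⟨g, hg⟩ := exists_lift_of_shortExact (zSC_shortExact C i (hC _))
    (ext_Zc_eq_zero C hC hX hbd i 0) (kernel.lift _ f hf)
  refine ⟨g, ?_⟩
  have := hg =≫ kernel.ι _
  simpa [zSC] using this

end Complex

end Groth.Agent.Lib.Helper17.Cpt
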