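import Groth.Agent.Lib.Helper17DBrown1

/-!
# Coproducts in the derived category of a Grothendieck abelian category (helper17)

`Q : Ch(C) ⥤ D(C)` sends coproducts of complexes to coproducts (using K-injective resolutions
of the target), and `D(C)` has coproducts.
-/

set_option autoImplicit false

universe w w' v u

open CategoryTheory CategoryTheory.Limits HomologicalComplex DerivedCategory CochainComplex
  HomComplex

namespace Groth.Agent.Lib.Helper17.DBrown

open Groth.Agent.Lib.Helper17.KInj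

section Sigma

variable {A : Type u} [Category.{v} A] [Abelian A] {T : Type w'} (X : T → CochainComplex A ℤ)
  [HasColimitsOfShape (Discrete T) A]

lemma sigma_desc_exists (Y : A) (q : ℤ) (a : ∀ t, (X t).X q ⟶ Y) :
    ∃ b : (∐ X).X q ⟶ Y, ∀ t, (Sigma.ι X t).f q ≫ b = a t := by
  have hc := isColimitOfPreserves (HomologicalComplex.eval A (ComplexShape.up ℤ) q)
    (coproductIsCoproduct X)
  let c : Cocone (Discrete.functor X ⋙ HomologicalComplex.eval A (ComplexShape.up ℤ) q) :=
    { pt := Y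
      ι := Discrete.natTrans (fun t => a t.as) }
  exact ⟨hc.desc c, fun t => hc.fac c ⟨t⟩⟩

lemma sigma_hom_ext' (Y : A) (q : ℤ) (b b' : (∐ X).X q ⟶ Y)
    (h : ∀ t, (Sigma.ι X t).f q ≫ b = (Sigma.ι X t).f q ≫ b') : b = b' := by
  have hc := isColimitOfPreserves (HomologicalComplex.eval A (ComplexShape.up ℤ) q)
    (coproductIsCoproduct X)
  exact hc.hom_ext (fun ⟨t⟩ => h t)

lemma homotopy_zero_of_sigma {K : CochainComplex A ℤ} (f : ∐ X ⟶ K)
    (h : ∀ t, Nonempty (Homotopy (Sigma.ι X t ≫ f) 0)) : Nonempty (Homotopy f 0) := by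
  classical
  have key : ∀ t, ∃ ht : Cochain (X t) K (-1), δ (-1) 0 ht = Cochain.ofHom (Sigma.ι X t ≫ f) := by
    intro t
    obtain ⟨H0⟩ := h t
    obtain ⟨h0, hh0⟩ := Cochain.equivHomotopy _ _ H0
    simp only [Int.reduceNeg, Cochain.ofHom_zero, add_zero] at hh0
    exact ⟨h0, hh0.symm⟩
  choose ht hht using key
  let hh : Cochain (∐ X) K (-1) := Cochain.mk (fun p q hpq =>
    (sigma_desc_exists X (K.X q) p (fun t => (ht t).v p q hpq)).choose)
  have hfac : ∀ t, (Cochain.ofHom (Sigma.ι X t)).comp hh (zero_add _) = ht t := by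
    intro t
    ext p q hpq
    rw [Cochain.zero_cochain_comp_v, Cochain.ofHom_v, Cochain.mk_v]
    exact (sigma_desc_exists X (K.X q) p (fun t => (ht t).v p q hpq)).choose_spec t
  refine ⟨(Cochain.equivHomotopy f 0).symm ⟨hh, ?_⟩⟩
  rw [Cochain.ofHom_zero, add_zero]
  ext p
  apply sigma_hom_ext' X
  intro t
  have e1 := Cochain.congr_v (congrArg (δ (-1) 0) (hfac t)) p p (add_zero p)
  rw [δ_ofHom_comp, hht t, Cochain.zero_cochain_comp_v, Cochain.ofHom_v, Cochain.ofHom_v] at e1
  simp only [Cochain.ofHom_v]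
  exact e1.symm

lemma homotopy_of_sigma {K : CochainComplex A ℤ} (f g : ∐ X ⟶ K)
    (h : ∀ t, Nonempty (Homotopy (Sigma.ι X t ≫ f) (Sigma.ι X t ≫ g))) :
    Nonempty (Homotopy f g) := by
  obtain ⟨H⟩ := homotopy_zero_of_sigma X (f - g) (fun t => by
    obtain ⟨Ht⟩ := h t
    exact ⟨(Homotopy.ofEq (by simp [sub_eq_add_neg])).trans
      ((Ht.add (Homotopy.refl (-(Sigma.ι X t ≫ g)))).trans (Homotopy.ofEq (by simp)))⟩)
  exact ⟨(Homotopy.ofEq (by simp)).trans ((H.add (Homotopy.refl g)).trans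
    (Homotopy.ofEq (by simp)))⟩

end Sigma

section Coproducts

variable {A : Type u} [Category.{v} A] [Abelian A] [IsGrothendieckAbelian.{v} A]
  [HasDerivedCategory.{w} A]

lemma Q_sigma_key {T : Type v} (X : T → CochainComplex A ℤ)
    (s : Cofan (fun t => (Q : _ ⥤ DerivedCategory A).obj (X t))) :
    ∃ (l : Q.obj (∐ X) ⟶ s.pt), (∀ t, Q.map (Sigma.ι X t) ≫ l = s.inj t) ∧
      ∀ (m : Q.obj (∐ X) ⟶ s.pt), (∀ t, Q.map (Sigma.ι X t) ≫ m = s.inj t) → m = l := by
  obtain ⟨I, hI, ⟨eY⟩⟩ := exists_kInjective_iso A s.pt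
  have hg : ∀ t, ∃ g : X t ⟶ I, Q.map g = s.inj t ≫ eY.hom := fun t => exists_Q_map_eq _
  choose g hg using hg
  refine ⟨Q.map (Sigma.desc g) ≫ eY.inv, fun t => ?_, fun m hm => ?_⟩
  · rw [← Category.assoc, ← Functor.map_comp, Sigma.ι_desc, hg, Category.assoc,
      Iso.hom_inv_id, Category.comp_id]
  · obtain ⟨g', hg'⟩ := exists_Q_map_eq (m ≫ eY.hom)
    obtain ⟨H⟩ := homotopy_of_sigma X g' (Sigma.desc g) (fun t => by
      apply homotopy_of_Q_map_eq (C := A)
      rw [Functor.map_comp, Functor.map_comp, hg', ← Functor.map_comp, Sigma.ι_desc, hg,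
        ← Category.assoc, hm])
    rw [← DerivedCategory.Q_map_eq_of_homotopy A H, hg', Category.assoc, Iso.hom_inv_id,
      Category.comp_id]

/-- `Q` sends the coproduct of a family of complexes to a coproduct. -/
noncomputable def isColimitQSigma {T : Type v} (X : T → CochainComplex A ℤ) :
    IsColimit (Cofan.mk ((Q : _ ⥤ DerivedCategory A).obj (∐ X))
      (fun t => Q.map (Sigma.ι X t))) :=
  mkCofanColimit _ (fun s => (Q_sigma_key X s).choose)
    (fun s t => (Q_sigma_key X s).choose_spec.1 t)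
    (fun s m hm => (Q_sigma_key X s).choose_spec.2 m hm)

theorem hasCoproducts_derivedCategory : HasCoproducts.{v} (DerivedCategory A) := by
  intro J
  constructor
  intro F
  suffices HasColimit (Discrete.functor (F.obj ∘ Discrete.mk)) from
    hasColimit_of_iso (Discrete.natIsoFunctor (F := F))
  change HasCoproduct (fun j => F.obj ⟨j⟩)
  let X' : J → CochainComplex A ℤ := fun j => (Q : _ ⥤ DerivedCategory A).objPreimage (F.obj ⟨j⟩)
  haveI : HasCoproduct (fun j => (Q : _ ⥤ DerivedCategory A).obj (X' j)) :=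
    ⟨⟨⟨_, isColimitQSigma X'⟩⟩⟩
  exact hasCoproduct_of_equiv_of_iso (fun j => (Q : _ ⥤ DerivedCategory A).obj (X' j))
    (fun j => F.obj ⟨j⟩) (Equiv.refl _) (fun j => (Q.objObjPreimageIso (F.obj ⟨j⟩)).symm)

end Coproducts

end Groth.Agent.Lib.Helper17.DBrown
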