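import Groth.Agent.Lib.Helper17Cpt2
import Groth.Agent.Lib.Helper17KInj12
import Groth.Agent.Lib.Helper17DBrown2
import Groth.Agent.Lib.Helper1Compact
import Mathlib.Algebra.Homology.Factorizations.CM5a
import Mathlib.CategoryTheory.Abelian.GrothendieckCategory.EnoughInjectives

/-!
# Compactness of `P[0]` in the derived category of a Grothendieck abelian category (helper17)

If `Hom(P, -)` has finite support on coproducts and coproducts of injectives are `Hom(P, -)`-acyclic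
then maps `P[0] ⟶ ∐ M` in the derived category have finite support provided the `M i` are
uniformly bounded below, or `Hom(P, -)` has finite cohomological dimension.
-/

set_option autoImplicit false

universe w' w v u

open CategoryTheory CategoryTheory.Limits CategoryTheory.Abelian HomologicalComplex
  DerivedCategory

namespace Groth.Agent.Lib.Helper17.Cpt

open Groth.Agent.Lib.Helper17.KInj Groth.Agent.Lib.Helper17.DBrown
open Groth.Agent.Lib.Helper1.Compact

section Defs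

variable {A : Type u} [Category.{v} A] [Abelian A]

/-- every map from `P` to a coproduct is supported on finitely many summands. -/
def FinSupp₀ (P : A) : Prop :=
  ∀ {ι : Type v} (F : ι → A) (c : Cofan F) (_ : IsColimit c) (f : P ⟶ c.pt),
    ∃ s : Finset ι, ∀ (Z : A) (k : c.pt ⟶ Z), (∀ i ∈ s, c.inj i ≫ k = 0) → f ≫ k = 0

/-- coproducts of injectives are `Hom(P, -)`-acyclic. -/
def SumAcyc [HasExt.{w} A] (P : A) : Prop :=
  ∀ {ι : Type v} (F : ι → A) (c : Cofan F) (_ : IsColimit c), (∀ i, Injective (F i)) →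
    ExtAcyc P c.pt

end Defs

section Core

variable {A : Type u} [Category.{v} A] [Abelian A] [IsGrothendieckAbelian.{v} A]
  [HasExt.{w} A] [HasDerivedCategory.{w'} A] {P : A}

theorem exists_kill_Q (h0 : FinSupp₀ P) (hacyc : SumAcyc P) {ι : Type v}
    (X : ι → CochainComplex A ℤ) (hX : ∀ i n, Injective ((X i).X n))
    (J : CochainComplex A ℤ) (j : ∐ X ⟶ J) [Mono j] [QuasiIso j] [J.IsKInjective]
    (hJ : ∀ n, Injective (J.X n))
    (hbd : (∃ a : ℤ, ∀ n < a, IsZero (J.X n)) ∨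
      (∃ d : ℕ, ∀ (Y : A) (i : ℕ), d < i → ∀ x : Ext P Y i, x = 0))
    (φ : (Q : _ ⥤ DerivedCategory A).obj (sphere P 0) ⟶ Q.obj (∐ X)) :
    ∃ s : Finset ι, φ ≫ Q.map (kill X s) = 0 := by
  have hc : ∀ n : ℤ, IsColimit (Cofan.mk ((∐ X).X n) (fun i => (Sigma.ι X i).f n)) := fun n =>
    isColimitCofanMkObjOfIsColimit (HomologicalComplex.eval A (ComplexShape.up ℤ) n) _ _
      (coproductIsCoproduct X)
  have hK : ∀ n, ExtAcyc P ((∐ X).X n) := fun n =>
    hacyc (fun i => (X i).X n) _ (hc n) (fun i => hX i n)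
  obtain ⟨f₀, hf₀, rfl⟩ := exists_fromSphere (∐ X) J j hJ hK hbd φ
  obtain ⟨s, hs⟩ := h0 (fun i => (X i).X 0) _ (hc 0) f₀
  refine ⟨s, ?_⟩
  rw [← Functor.map_comp]
  have : fromSphere (∐ X) f₀ hf₀ ≫ kill X s = 0 := by
    apply from_sphere_hom_ext
    rw [HomologicalComplex.comp_f, fromSphere_f, Category.assoc, HomologicalComplex.zero_f,
      hs _ ((kill X s).f 0) (fun i hi => ?_), comp_zero]
    change (Sigma.ι X i).f 0 ≫ (kill X s).f 0 = 0
    rw [← HomologicalComplex.comp_f, ι_kill_of_mem X hi, HomologicalComplex.zero_f]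
  rw [this, Functor.map_zero]

theorem exists_kill_of_iso (h0 : FinSupp₀ P) (hacyc : SumAcyc P) {ι : Type v}
    (M : ι → DerivedCategory A) [HasCoproduct M]
    (X : ι → CochainComplex A ℤ) (e : ∀ i, M i ≅ Q.obj (X i))
    (hX : ∀ i n, Injective ((X i).X n))
    (J : CochainComplex A ℤ) (j : ∐ X ⟶ J) [Mono j] [QuasiIso j] [J.IsKInjective]
    (hJ : ∀ n, Injective (J.X n))
    (hbd : (∃ a : ℤ, ∀ n < a, IsZero (J.X n)) ∨
      (∃ d : ℕ, ∀ (Y : A) (i : ℕ), d < i → ∀ x : Ext P Y i, x = 0))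
    (φ : (Q : _ ⥤ DerivedCategory A).obj (sphere P 0) ⟶ ∐ M) :
    ∃ s : Finset ι, φ ≫ kill M s = 0 := by
  classical
  let E : ∐ M ⟶ Q.obj (∐ X) := Sigma.desc (fun i => (e i).hom ≫ Q.map (Sigma.ι X i))
  let E' : Q.obj (∐ X) ⟶ ∐ M :=
    (isColimitQSigma X).desc (Cofan.mk (∐ M) (fun i => (e i).inv ≫ Sigma.ι M i))
  have hE' : ∀ i, Q.map (Sigma.ι X i) ≫ E' = (e i).inv ≫ Sigma.ι M i := fun i =>
    (isColimitQSigma X).fac (Cofan.mk (∐ M) (fun i => (e i).inv ≫ Sigma.ι M i)) ⟨i⟩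
  have hEE' : E ≫ E' = 𝟙 _ := by
    refine Sigma.hom_ext _ _ (fun i => ?_)
    simp only [E, Sigma.ι_desc_assoc, Category.assoc, hE', Iso.hom_inv_id_assoc, Category.comp_id]
  obtain ⟨s, hs⟩ := exists_kill_Q h0 hacyc X hX J j hJ hbd (φ ≫ E)
  refine ⟨s, ?_⟩
  have hkE : kill M s ≫ E = E ≫ Q.map (kill X s) := by
    refine Sigma.hom_ext _ _ (fun i => ?_)
    by_cases hi : i ∈ s
    · rw [ι_kill_of_mem_assoc M hi, zero_comp]
      simp only [E, Sigma.ι_desc_assoc, Category.assoc]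
      rw [← Functor.map_comp, ι_kill_of_mem X hi, Functor.map_zero, comp_zero]
    · rw [ι_kill_of_notMem_assoc M hi]
      simp only [E, Sigma.ι_desc_assoc, Sigma.ι_desc, Category.assoc]
      rw [← Functor.map_comp, ι_kill_of_notMem X hi]
  haveI : Mono E := mono_of_mono_fac hEE'
  rw [← cancel_mono E, Category.assoc, hkE, ← Category.assoc, hs, zero_comp]

/-- finite cohomological dimension case. -/
theorem exists_kill_of_cd (h0 : FinSupp₀ P) (hacyc : SumAcyc P) (d : ℕ)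
    (hcd : ∀ (Y : A) (i : ℕ), d < i → ∀ x : Ext P Y i, x = 0) {ι : Type v}
    (M : ι → DerivedCategory A) [HasCoproduct M]
    (φ : (Q : _ ⥤ DerivedCategory A).obj (sphere P 0) ⟶ ∐ M) :
    ∃ s : Finset ι, φ ≫ kill M s = 0 := by
  have hres : ∀ i, ∃ (I : CochainComplex A ℤ), Nonempty (M i ≅ Q.obj I) ∧
      ∀ n, Injective (I.X n) := fun i => by
    obtain ⟨I, f, -, hf, -, hI⟩ := exists_kInjective_resolution.{v} A
      ((Q : _ ⥤ DerivedCategory A).objPreimage (M i))
    haveI : IsIso ((Q : _ ⥤ DerivedCategory A).map f) := by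
      rw [DerivedCategory.isIso_Q_map_iff_quasiIso]; exact hf
    exact ⟨I, ⟨(Q.objObjPreimageIso (M i)).symm ≪≫ asIso (Q.map f)⟩, hI⟩
  choose X e hX using hres
  obtain ⟨J, j, hJK, hjq, hjm, hJ⟩ := exists_kInjective_resolution.{v} A (∐ X)
  haveI : Mono j := HomologicalComplex.mono_of_mono_f j hjm
  exact exists_kill_of_iso h0 hacyc M X (fun i => (e i).some) hX J j hJ (Or.inr ⟨d, hcd⟩) φ

/-- uniformly bounded below case. -/
theorem exists_kill_of_isGE (h0 : FinSupp₀ P) (hacyc : SumAcyc P) {ι : Type v}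
    (M : ι → DerivedCategory A) [HasCoproduct M] (a : ℤ) (hM : ∀ i, (M i).IsGE a)
    (φ : (Q : _ ⥤ DerivedCategory A).obj (sphere P 0) ⟶ ∐ M) :
    ∃ s : Finset ι, φ ≫ kill M s = 0 := by
  have hres : ∀ i, ∃ (I : CochainComplex A ℤ), Nonempty (M i ≅ Q.obj I) ∧
      (∀ n, Injective (I.X n)) ∧ I.IsStrictlyGE (a - 1) := fun i => by
    haveI := hM i
    obtain ⟨K, hK, ⟨eK⟩⟩ := DerivedCategory.exists_iso_Q_obj_of_isGE (M i) a
    obtain ⟨I, f, -, hf, hI, hI'⟩ :=
      CochainComplex.Plus.modelCategoryQuillen.exists_mono_quasiIso_injective K (a - 1) a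
        (by omega)
    haveI : IsIso ((Q : _ ⥤ DerivedCategory A).map f) := by
      rw [DerivedCategory.isIso_Q_map_iff_quasiIso]; exact hf
    exact ⟨I, ⟨eK ≪≫ asIso (Q.map f)⟩, hI, hI'⟩
  choose X e hX hX' using hres
  have hc : ∀ n : ℤ, IsColimit (Cofan.mk ((∐ X).X n) (fun i => (Sigma.ι X i).f n)) := fun n =>
    isColimitCofanMkObjOfIsColimit (HomologicalComplex.eval A (ComplexShape.up ℤ) n) _ _
      (coproductIsCoproduct X)
  haveI : (∐ X).IsStrictlyGE (a - 1) := by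
    rw [CochainComplex.isStrictlyGE_iff]
    intro n hn
    rw [IsZero.iff_id_eq_zero]
    refine (hc n).hom_ext (fun ⟨i⟩ => ?_)
    exact ((X i).isZero_of_isStrictlyGE (a - 1) n hn).eq_of_src _ _
  obtain ⟨J, j, hjm, hjq, hJ, hJ'⟩ :=
    CochainComplex.Plus.modelCategoryQuillen.exists_mono_quasiIso_injective (∐ X) (a - 2) (a - 1)
      (by omega)
  haveI : J.IsKInjective := CochainComplex.isKInjective_of_injective J (a - 2)
  exact exists_kill_of_iso h0 hacyc M X (fun i => (e i).some) hX J j hJ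
    (Or.inl ⟨a - 2, fun n hn => J.isZero_of_isStrictlyGE (a - 2) n hn⟩) φ

end Core

end Groth.Agent.Lib.Helper17.Cpt
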