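import Groth.Agent.Lib.Helper17Cpt3

/-!
# Compactness of `P[0]` from `Ext^p(P, -)` commuting with coproducts (helper17)
-/

set_option autoImplicit false

universe w' w v u

open CategoryTheory CategoryTheory.Limits CategoryTheory.Abelian HomologicalComplex
  DerivedCategory

namespace Groth.Agent.Lib.Helper17.Cpt

open Groth.Agent.Lib.Helper17.KInj Groth.Agent.Lib.Helper17.DBrown
open Groth.Agent.Lib.Helper1.Compact

section Ab

/-- a subgroup of a coproduct of abelian groups containing the images of all summands is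
everything. -/
lemma eq_top_of_isColimit {ι : Type v} {F' : Discrete ι ⥤ AddCommGrpCat.{w}} (t : Cocone F')
    (ht : IsColimit t) (H : AddSubgroup t.pt) (hgen : ∀ (i : Discrete ι) (y : F'.obj i),
      (t.ι.app i).hom y ∈ H) : H = ⊤ := by
  let q : t.pt ⟶ AddCommGrpCat.of (t.pt ⧸ H) := AddCommGrpCat.ofHom (QuotientAddGroup.mk' H)
  have hq : q = 0 := by
    refine ht.hom_ext (fun i => ?_)
    ext y
    change QuotientAddGroup.mk' H ((t.ι.app i).hom y) = 0
    rw [QuotientAddGroup.mk'_apply, QuotientAddGroup.eq_zero_iff]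
    exact hgen i y
  rw [eq_top_iff]
  intro x _
  have : q.hom x = 0 := by rw [hq]; rfl
  change QuotientAddGroup.mk' H x = 0 at this
  rwa [QuotientAddGroup.mk'_apply, QuotientAddGroup.eq_zero_iff] at this

end Ab

section Preserves

variable {A : Type u} [Category.{v} A] [Abelian A] [HasExt.{w} A]

theorem finSupp₀_of_preserves (P : A)
    (h : ∀ ι : Type v, PreservesColimitsOfShape (Discrete ι) (extFunctorObj P 0)) :
    FinSupp₀ P := by
  classical
  intro ι F c hc f
  haveI := h ι
  have ht := isColimitOfPreserves (extFunctorObj P 0) hc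
  let H : AddSubgroup (Ext P c.pt 0) :=
    { carrier := {x | ∃ s : Finset ι, ∀ (Z : A) (k : c.pt ⟶ Z), (∀ i ∈ s, c.inj i ≫ k = 0) →
        x.comp (Ext.mk₀ k) (add_zero 0) = 0}
      zero_mem' := ⟨∅, fun Z k _ => by rw [Ext.zero_comp]⟩
      add_mem' := by
        rintro x y ⟨s, hs⟩ ⟨s', hs'⟩
        refine ⟨s ∪ s', fun Z k hk => ?_⟩
        rw [Ext.add_comp, hs Z k (fun i hi => hk i (Finset.mem_union_left _ hi)),
          hs' Z k (fun i hi => hk i (Finset.mem_union_right _ hi)), add_zero]
      neg_mem' := by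
        rintro x ⟨s, hs⟩
        refine ⟨s, fun Z k hk => ?_⟩
        rw [Ext.neg_comp, hs Z k hk, neg_zero] }
  have hH : H = ⊤ := eq_top_of_isColimit _ ht H (by
    rintro ⟨i⟩ y
    refine ⟨{i}, fun Z k hk => ?_⟩
    change ((y : Ext P (F i) 0).comp (Ext.mk₀ (c.inj i)) (add_zero 0)).comp (Ext.mk₀ k)
      (add_zero 0) = 0
    rw [Ext.comp_assoc_of_third_deg_zero, Ext.mk₀_comp_mk₀, hk i (Finset.mem_singleton_self i),
      Ext.mk₀_zero, Ext.comp_zero])
  have hf : Ext.mk₀ f ∈ H := by rw [hH]; trivial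
  obtain ⟨s, hs⟩ := hf
  refine ⟨s, fun Z k hk => ?_⟩
  have := hs Z k hk
  rw [Ext.mk₀_comp_mk₀] at this
  exact (Ext.mk₀_bijective _ _).1 (this.trans (Ext.mk₀_zero _ _).symm)

theorem sumAcyc_of_preserves (P : A)
    (h : ∀ (p : ℕ) (ι : Type v),
      PreservesColimitsOfShape (Discrete ι) (extFunctorObj P (p + 1))) :
    SumAcyc P := by
  intro ι F c hc hF p x
  haveI := h p ι
  have ht := isColimitOfPreserves (extFunctorObj P (p + 1)) hc
  have hH : (⊥ : AddSubgroup (Ext P c.pt (p + 1))) = ⊤ := eq_top_of_isColimit _ ht ⊥ (by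
    rintro ⟨i⟩ y
    haveI := hF i
    have hy : ∀ z : Ext P (F i) (p + 1), z = 0 := fun z => Ext.eq_zero_of_injective z
    have : y = 0 := hy y
    rw [this, map_zero]
    exact AddSubgroup.zero_mem _)
  have hx : x ∈ (⊥ : AddSubgroup (Ext P c.pt (p + 1))) := by rw [hH]; trivial
  exact (AddSubgroup.mem_bot).1 hx

end Preserves

section Bij

variable {D : Type u} [Category.{v} D] [Preadditive D] [HasCoproducts.{v} D]

open Classical in
lemma bijective_of_exists_kill (K : D) {ι : Type v} (X : ι → D)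
    (h : ∀ φ : K ⟶ ∐ X, ∃ s : Finset ι, φ ≫ kill X s = 0) :
    Function.Bijective (CohDer.homSumToHomCoprod K X) := by
  constructor
  · rw [injective_iff_map_eq_zero]
    intro x hx
    refine DFinsupp.ext (fun j => ?_)
    rw [← homSumToHomCoprod_comp_π K X x j, hx, zero_comp]
    rfl
  · intro φ
    obtain ⟨s, hs⟩ := h φ
    refine ⟨∑ k ∈ s, DirectSum.of (fun i => K ⟶ X i) k (φ ≫ Sigma.π X k), ?_⟩
    rw [map_sum]
    simp_rw [homSumToHomCoprod_of]
    have := congrArg (fun e => φ ≫ e) (kill_add_sum X s)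
    simp only [Preadditive.comp_add, Preadditive.comp_sum, hs, zero_add, Category.comp_id,
      ← Category.assoc] at this
    simpa only [Category.assoc] using this

end Bij

section Final

variable {A : Type u} [Category.{v} A] [Abelian A] [IsGrothendieckAbelian.{v} A]
  [HasExt.{w} A] [HasDerivedCategory.{v} A] {P : A}

/-- the comparison isomorphism between the two models of `P[0]`. -/
noncomputable def sglIso (P : A) :
    (DerivedCategory.singleFunctor A 0).obj P ≅ (Q : _ ⥤ DerivedCategory A).obj (sphere P 0) :=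
  (DerivedCategory.singleFunctorIsoCompQ A 0).app P

theorem isCompactObject_of_cd [HasCoproducts.{v} (DerivedCategory A)]
    (h0 : FinSupp₀ P) (hacyc : SumAcyc P) (d : ℕ)
    (hcd : ∀ (Y : A) (i : ℕ), d < i → ∀ x : Ext P Y i, x = 0) :
    CohDer.IsCompactObject ((DerivedCategory.singleFunctor A 0).obj P) := by
  rw [isCompactObject_iff]
  intro ι M φ
  obtain ⟨s, hs⟩ := exists_kill_of_cd h0 hacyc d hcd M ((sglIso P).inv ≫ φ)
  refine ⟨s, ?_⟩
  rw [Category.assoc] at hs
  exact (cancel_epi (sglIso P).inv).1 (hs.trans comp_zero.symm)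

theorem bijective_homSumToHomCoprod_of_isGE (h0 : FinSupp₀ P) (hacyc : SumAcyc P)
    {ι : Type v} (M : ι → DerivedCategory A) [HasCoproduct M] (a : ℤ) (hM : ∀ i, (M i).IsGE a) :
    Function.Bijective
      (CohDer.homSumToHomCoprod ((DerivedCategory.singleFunctor A 0).obj P) M) := by
  haveI : HasCoproducts.{v} (DerivedCategory A) := hasCoproducts_derivedCategory
  refine bijective_of_exists_kill _ M (fun φ => ?_)
  obtain ⟨s, hs⟩ := exists_kill_of_isGE h0 hacyc M a hM ((sglIso P).inv ≫ φ)
  refine ⟨s, ?_⟩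
  rw [Category.assoc] at hs
  exact (cancel_epi (sglIso P).inv).1 (hs.trans comp_zero.symm)

end Final

end Groth.Agent.Lib.Helper17.Cpt
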