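import Mathlib

/-!
# Helper21: abstract lemmas in abelian categories used for modules "of type A"

* `cokerCompIso t ψ : cokernel (t ≫ cokernel.π ψ) ≅ cokernel (biprod.desc t ψ)`
* `nonempty_kernel_iso_cokernel1`: for `π` epi, `kernel α ≅ cokernel (kernel π ⟶ kernel (π ≫ α))`
* `nonempty_kernel_iso_cokernel2`: `kernel (t ≫ cokernel.π ψ) ≅
    cokernel (kernel ψ ⟶ kernel (biprod.desc t ψ))`
* `nonempty_iso_cokernel_of_exact`: `X₃ ≅ cokernel f` for an exact `X₁ ⟶ X₂ ⟶ X₃` with `g` epi.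
* `exact_changePres`, `exact_horseshoe`: change of presentation / horseshoe for presentations.
-/

set_option autoImplicit false
open CategoryTheory CategoryTheory.Limits

namespace Groth.Agent.Lib.Helper21.TypeA

universe v w
variable {𝒜 : Type w} [Category.{v} 𝒜] [Abelian 𝒜]

theorem nonempty_iso_cokernel_of_exact (S : ShortComplex 𝒜) (hS : S.Exact) [Epi S.g] :
    Nonempty (S.X₃ ≅ cokernel S.f) :=
  ⟨(IsColimit.coconePointUniqueUpToIso (cokernelIsCokernel S.f) hS.gIsCokernel).symm⟩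

section CokerComp

variable {P' P Q : 𝒜} (t : P' ⟶ P) (ψ : Q ⟶ P)

lemma cokerComp_aux1 : ψ ≫ cokernel.π (biprod.desc t ψ) = 0 := by
  have h : ψ ≫ cokernel.π (biprod.desc t ψ) =
      (biprod.inr ≫ biprod.desc t ψ) ≫ cokernel.π (biprod.desc t ψ) := by rw [biprod.inr_desc]
  rw [h, Category.assoc, cokernel.condition, comp_zero]

lemma cokerComp_aux2 : t ≫ cokernel.π (biprod.desc t ψ) = 0 := by
  have h : t ≫ cokernel.π (biprod.desc t ψ) =
      (biprod.inl ≫ biprod.desc t ψ) ≫ cokernel.π (biprod.desc t ψ) := by rw [biprod.inl_desc]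
  rw [h, Category.assoc, cokernel.condition, comp_zero]

/-- `coker (t ≫ π_ψ) ≅ coker (t, ψ)`. -/
noncomputable def cokerCompIso : cokernel (t ≫ cokernel.π ψ) ≅ cokernel (biprod.desc t ψ) where
  hom := cokernel.desc _ (cokernel.desc ψ (cokernel.π (biprod.desc t ψ)) (cokerComp_aux1 t ψ)) (by
    rw [Category.assoc, cokernel.π_desc, cokerComp_aux2])
  inv := cokernel.desc _ (cokernel.π ψ ≫ cokernel.π (t ≫ cokernel.π ψ)) (by
    apply biprod.hom_ext'
    · rw [biprod.inl_desc_assoc, comp_zero, ← Category.assoc, cokernel.condition]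
    · rw [biprod.inr_desc_assoc, comp_zero, cokernel.condition_assoc, zero_comp])
  hom_inv_id := by
    apply coequalizer.hom_ext
    rw [cokernel.π_desc_assoc]
    apply coequalizer.hom_ext
    rw [cokernel.π_desc_assoc, cokernel.π_desc, Category.comp_id]
  inv_hom_id := by
    apply coequalizer.hom_ext
    rw [cokernel.π_desc_assoc, Category.assoc, cokernel.π_desc, cokernel.π_desc, Category.comp_id]

end CokerComp

section Ker1

variable {P F G : 𝒜} (π : P ⟶ F) (α : F ⟶ G)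

/-- `ker π ⟶ ker (π ≫ α)` -/
noncomputable def kerLift1 : kernel π ⟶ kernel (π ≫ α) :=
  kernel.lift _ (kernel.ι π) (by rw [← Category.assoc, kernel.condition, zero_comp])

/-- `ker (π ≫ α) ⟶ ker α` -/
noncomputable def kerMap1 : kernel (π ≫ α) ⟶ kernel α :=
  kernel.lift _ (kernel.ι _ ≫ π) (by rw [Category.assoc, kernel.condition])

@[reassoc (attr := simp)]
lemma kerLift1_ι : kerLift1 π α ≫ kernel.ι (π ≫ α) = kernel.ι π := kernel.lift_ι _ _ _

@[reassoc (attr := simp)]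
lemma kerMap1_ι : kerMap1 π α ≫ kernel.ι α = kernel.ι (π ≫ α) ≫ π := kernel.lift_ι _ _ _

lemma kerLift1_kerMap1 : kerLift1 π α ≫ kerMap1 π α = 0 := by
  apply equalizer.hom_ext
  rw [Category.assoc, kerMap1_ι, kerLift1_ι_assoc, kernel.condition, zero_comp]

theorem exact_ker1 : (ShortComplex.mk _ _ (kerLift1_kerMap1 π α)).Exact := by
  rw [ShortComplex.exact_iff_exact_up_to_refinements]
  intro A x₂ hx₂
  dsimp at x₂ hx₂
  have h1 : (x₂ ≫ kernel.ι (π ≫ α)) ≫ π = 0 := by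
    have := congrArg (fun t => t ≫ kernel.ι α) hx₂
    simpa using this
  refine ⟨A, 𝟙 A, inferInstance, kernel.lift π (x₂ ≫ kernel.ι _) h1, ?_⟩
  dsimp
  apply equalizer.hom_ext
  rw [Category.id_comp, Category.assoc, kerLift1_ι, kernel.lift_ι]

theorem epi_kerMap1 [Epi π] : Epi (kerMap1 π α) := by
  rw [epi_iff_surjective_up_to_refinements]
  intro A y
  obtain ⟨A', p, hp, x, hx⟩ := (epi_iff_surjective_up_to_refinements π).1 inferInstance
    (y ≫ kernel.ι α)
  have h1 : x ≫ π ≫ α = 0 := by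
    rw [← Category.assoc, ← hx, Category.assoc, Category.assoc, kernel.condition, comp_zero,
      comp_zero]
  refine ⟨A', p, hp, kernel.lift _ x h1, ?_⟩
  apply equalizer.hom_ext
  rw [Category.assoc, Category.assoc, kerMap1_ι, kernel.lift_ι_assoc, hx]

theorem nonempty_kernel_iso_cokernel1 [Epi π] :
    Nonempty (kernel α ≅ cokernel (kerLift1 π α)) := by
  haveI := epi_kerMap1 π α
  exact nonempty_iso_cokernel_of_exact (ShortComplex.mk _ _ (kerLift1_kerMap1 π α))
    (exact_ker1 π α)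

end Ker1

section Ker2

variable {P P' Q : 𝒜} (t : P ⟶ P') (ψ : Q ⟶ P')

/-- `ker ψ ⟶ ker (t, ψ)` -/
noncomputable def kerLift2 : kernel ψ ⟶ kernel (biprod.desc t ψ) :=
  kernel.lift _ (kernel.ι ψ ≫ biprod.inr) (by
    rw [Category.assoc, biprod.inr_desc, kernel.condition])

lemma kerMap2_aux : (kernel.ι (biprod.desc t ψ) ≫ biprod.fst) ≫ t ≫ cokernel.π ψ = 0 := by
  have h : biprod.desc t ψ = biprod.fst ≫ t + biprod.snd ≫ ψ := by
    apply biprod.hom_ext' <;> simp
  have h2 : kernel.ι (biprod.desc t ψ) ≫ (biprod.fst ≫ t + biprod.snd ≫ ψ) = 0 := by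
    rw [← h, kernel.condition]
  rw [Preadditive.comp_add] at h2
  have h3 : kernel.ι (biprod.desc t ψ) ≫ biprod.fst ≫ t =
      - (kernel.ι (biprod.desc t ψ) ≫ biprod.snd ≫ ψ) := eq_neg_of_add_eq_zero_left h2
  rw [Category.assoc, ← Category.assoc biprod.fst, ← Category.assoc (kernel.ι _), h3,
    Preadditive.neg_comp, Category.assoc, Category.assoc, cokernel.condition, comp_zero, comp_zero,
    neg_zero]

/-- `ker (t, ψ) ⟶ ker (t ≫ π_ψ)` -/
noncomputable def kerMap2 : kernel (biprod.desc t ψ) ⟶ kernel (t ≫ cokernel.π ψ) :=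
  kernel.lift _ (kernel.ι _ ≫ biprod.fst) (kerMap2_aux t ψ)

@[reassoc (attr := simp)]
lemma kerLift2_ι : kerLift2 t ψ ≫ kernel.ι (biprod.desc t ψ) = kernel.ι ψ ≫ biprod.inr :=
  kernel.lift_ι _ _ _

@[reassoc (attr := simp)]
lemma kerMap2_ι : kerMap2 t ψ ≫ kernel.ι (t ≫ cokernel.π ψ) =
    kernel.ι (biprod.desc t ψ) ≫ biprod.fst := kernel.lift_ι _ _ _

lemma kerLift2_kerMap2 : kerLift2 t ψ ≫ kerMap2 t ψ = 0 := by
  apply equalizer.hom_ext
  rw [Category.assoc, kerMap2_ι, kerLift2_ι_assoc, biprod.inr_fst, comp_zero, zero_comp]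

lemma comp_desc_eq {A : 𝒜} (z : A ⟶ P ⊞ Q) :
    z ≫ biprod.desc t ψ = (z ≫ biprod.fst) ≫ t + (z ≫ biprod.snd) ≫ ψ := by
  rw [biprod.desc_eq]; simp

lemma eq_of_fst_zero {A : 𝒜} (z : A ⟶ P ⊞ Q) (h : z ≫ biprod.fst = 0) :
    z = (z ≫ biprod.snd) ≫ biprod.inr := by
  apply biprod.hom_ext <;> simp [h]

theorem exact_ker2 : (ShortComplex.mk _ _ (kerLift2_kerMap2 t ψ)).Exact := by
  rw [ShortComplex.exact_iff_exact_up_to_refinements]
  intro A x₂ hx₂
  dsimp at x₂ hx₂
  have h1 : (x₂ ≫ kernel.ι (biprod.desc t ψ)) ≫ biprod.fst = 0 := by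
    have := congrArg (fun t' => t' ≫ kernel.ι (t ≫ cokernel.π ψ)) hx₂
    simpa using this
  have hz : (x₂ ≫ kernel.ι (biprod.desc t ψ)) ≫ biprod.desc t ψ = 0 := by
    rw [Category.assoc, kernel.condition, comp_zero]
  have h2 : ((x₂ ≫ kernel.ι (biprod.desc t ψ)) ≫ biprod.snd) ≫ ψ = 0 := by
    rw [comp_desc_eq, h1, zero_comp, zero_add] at hz
    exact hz
  refine ⟨A, 𝟙 A, inferInstance, kernel.lift ψ _ h2, ?_⟩
  dsimp
  apply equalizer.hom_ext
  rw [Category.id_comp, Category.assoc, kerLift2_ι, kernel.lift_ι_assoc]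
  exact eq_of_fst_zero _ h1

theorem epi_kerMap2 : Epi (kerMap2 t ψ) := by
  rw [epi_iff_surjective_up_to_refinements]
  intro A y
  have hex : (ShortComplex.mk ψ (cokernel.π ψ) (cokernel.condition ψ)).Exact :=
    ShortComplex.exact_cokernel ψ
  rw [ShortComplex.exact_iff_exact_up_to_refinements] at hex
  have h0 : ((y ≫ kernel.ι (t ≫ cokernel.π ψ)) ≫ t) ≫ cokernel.π ψ = 0 := by
    rw [Category.assoc, Category.assoc, kernel.condition, comp_zero]
  obtain ⟨A', p, hp, w, hw⟩ := hex ((y ≫ kernel.ι (t ≫ cokernel.π ψ)) ≫ t) h0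
  dsimp at w hw
  have h1 : biprod.lift (p ≫ y ≫ kernel.ι (t ≫ cokernel.π ψ)) (-w) ≫ biprod.desc t ψ = 0 := by
    rw [biprod.lift_desc, Preadditive.neg_comp, ← hw]
    simp
  refine ⟨A', p, hp, kernel.lift _ _ h1, ?_⟩
  apply equalizer.hom_ext
  rw [Category.assoc, Category.assoc, kerMap2_ι, kernel.lift_ι_assoc, biprod.lift_fst]

theorem nonempty_kernel_iso_cokernel2 :
    Nonempty (kernel (t ≫ cokernel.π ψ) ≅ cokernel (kerLift2 t ψ)) := by
  haveI := epi_kerMap2 t ψ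
  exact nonempty_iso_cokernel_of_exact (ShortComplex.mk _ _ (kerLift2_kerMap2 t ψ))
    (exact_ker2 t ψ)

end Ker2

end Groth.Agent.Lib.Helper21.TypeA
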