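import Mathlib
import Groth.Prelude.Def_ModSite
import Groth.Prelude.Def_CohCx
import Groth.Agent.Lib.Helper23FreeOn
import Groth.Agent.Lib.Helper4ModEpi
import Groth.Agent.Lib.Helper21TypeA1
import Groth.Agent.Lib.Helper21TypeA2

/-!
# Helper21: modules of type A on a ringed site

`IsFF O B P`: `P` is a finite direct sum of `j_{U!} O_U` with `U ∈ B`.
`IsTypeA O B F`: `F` is the cokernel of a map between such (literally the form used in the
statements S9114--S9117).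

Main results: local lifting along epimorphisms after a finite refinement (`exists_refine`),
closure of type A under cokernels (`isTypeA_cokernel_of_isTypeA`).
-/

set_option autoImplicit false
universe u
open CategoryTheory CategoryTheory.Limits Opposite

namespace Groth.Agent.Lib.Helper21.TypeA

open Groth.Agent.Lib.Helper23FreeOn

variable {C : Type u} [SmallCategory C] {J : GrothendieckTopology C} (O : Sheaf J CommRingCat.{u})

/-- universal section of `j_{U!} O_U` over `U` -/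
noncomputable def uSec (U : C) : (ModSite.freeOn O U).val.obj (op U) :=
  homEquiv O (ModSite.freeOn O U) U (𝟙 _)

/-- `j_{V!} O_V ⟶ j_{U!} O_U` for `g : V ⟶ U` -/
noncomputable def eMap {V U : C} (g : V ⟶ U) : ModSite.freeOn O V ⟶ ModSite.freeOn O U :=
  (homEquiv O (ModSite.freeOn O U) V).symm ((ModSite.freeOn O U).val.map g.op (uSec O U))

lemma homEquiv_eq (M : ModSite.Mod O) (U : C) (f : ModSite.freeOn O U ⟶ M) :
    homEquiv O M U f = f.val.app (op U) (uSec O U) := by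
  have h := homEquiv_comp O (𝟙 (ModSite.freeOn O U)) f
  rwa [Category.id_comp] at h

lemma homEquiv_eMap_comp {V U : C} (g : V ⟶ U) {M : ModSite.Mod O} (f : ModSite.freeOn O U ⟶ M) :
    homEquiv O M V (eMap O g ≫ f) = M.val.map g.op (homEquiv O M U f) := by
  rw [homEquiv_comp, homEquiv_eq O M U f]
  unfold eMap
  rw [Equiv.apply_symm_apply]
  exact PresheafOfModules.naturality_apply f.val g.op (uSec O U)

theorem exists_lift_of_epi {E M : ModSite.Mod O} (p : E ⟶ M) [Epi p] {U : C}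
    (f : ModSite.freeOn O U ⟶ M) :
    ∃ S : Sieve U, S ∈ J U ∧ ∀ (V : C) (g : V ⟶ U), S g →
      ∃ x : ModSite.freeOn O V ⟶ E, x ≫ p = eMap O g ≫ f := by
  haveI := Groth.Agent.Lib.Helper4.ModEpi.isLocallySurjective_of_epi p
  refine ⟨Presheaf.imageSieve ((PresheafOfModules.toPresheaf _).map p.val) (homEquiv O M U f),
    Presheaf.imageSieve_mem J _ _, ?_⟩
  rintro V g ⟨t, ht⟩
  refine ⟨(homEquiv O E V).symm t, ?_⟩
  rw [homEquiv_symm_comp]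
  apply (homEquiv O M V).injective
  rw [Equiv.apply_symm_apply, homEquiv_eMap_comp]
  exact ht

theorem eMap_jointly_epi {U : C} {κ : Type u} (W : κ → C) (g : ∀ k, W k ⟶ U)
    (h : Sieve.ofArrows W g ∈ J U) {T : ModSite.Mod O} (a b : ModSite.freeOn O U ⟶ T)
    (hab : ∀ k, eMap O (g k) ≫ a = eMap O (g k) ≫ b) : a = b := by
  apply (homEquiv O T U).injective
  have hsep : Presheaf.IsSeparated J T.val.presheaf := Presheaf.IsSheaf.isSeparated T.isSheaf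
  apply hsep U _ h
  rintro Y f ⟨_, c, _, ⟨k⟩, rfl⟩
  have hk := congrArg (homEquiv O T (W k)) (hab k)
  rw [homEquiv_eMap_comp, homEquiv_eMap_comp] at hk
  have h1 : ∀ x : T.val.obj (op U), T.val.presheaf.map (c ≫ g k).op x =
      T.val.map c.op (T.val.map (g k).op x) := by
    intro x
    rw [op_comp]
    exact PresheafOfModules.map_comp_apply T.val (g k).op c.op x
  rw [h1, h1, hk]

variable (B : Set C)

/-- finite direct sum of `j_{U!} O_U`, `U ∈ B` -/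
def IsFF (P : ModSite.Mod O) : Prop :=
  ∃ (ι : Type u) (_ : Finite ι) (U : ι → C), (∀ i, U i ∈ B) ∧
    Nonempty (P ≅ ∐ fun i => ModSite.freeOn O (U i))

/-- module of type A -/
def IsTypeA (F : ModSite.Mod O) : Prop :=
  ∃ (m' n' : ℕ) (V' : Fin m' → C) (U' : Fin n' → C)
    (ψ : (∐ fun j => ModSite.freeOn O (V' j)) ⟶ ∐ fun i => ModSite.freeOn O (U' i)),
    (∀ j, V' j ∈ B) ∧ (∀ i, U' i ∈ B) ∧ Nonempty (F ≅ cokernel ψ)

variable {O B}

theorem IsFF.of_iso {P P' : ModSite.Mod O} (e : P ≅ P') (h : IsFF O B P) : IsFF O B P' := by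
  obtain ⟨ι, hι, U, hU, ⟨i⟩⟩ := h
  exact ⟨ι, hι, U, hU, ⟨e.symm ≪≫ i⟩⟩

theorem isFF_sigma {ι : Type u} [hι : Finite ι] (U : ι → C) (hU : ∀ i, U i ∈ B) :
    IsFF O B (∐ fun i => ModSite.freeOn O (U i)) :=
  ⟨ι, hι, U, hU, ⟨Iso.refl _⟩⟩

theorem isFF_fin {n : ℕ} (U : Fin n → C) (hU : ∀ i, U i ∈ B) :
    IsFF O B (∐ fun i : Fin n => ModSite.freeOn O (U i)) := by
  refine ⟨ULift.{u} (Fin n), inferInstance, fun i => U i.down, fun i => hU _, ⟨?_⟩⟩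
  exact (Sigma.reindex (Equiv.ulift.{u} (α := Fin n)) (fun i : Fin n => ModSite.freeOn O (U i))).symm

theorem IsFF.exists_fin {P : ModSite.Mod O} (h : IsFF O B P) :
    ∃ (n : ℕ) (U : Fin n → C), (∀ i, U i ∈ B) ∧
      Nonempty (P ≅ ∐ fun i : Fin n => ModSite.freeOn O (U i)) := by
  obtain ⟨ι, hι, U, hU, ⟨i⟩⟩ := h
  obtain ⟨n, ⟨e⟩⟩ := Finite.exists_equiv_fin ι
  refine ⟨n, fun k => U (e.symm k), fun k => hU _, ⟨i ≪≫ ?_⟩⟩
  exact (Sigma.reindex e.symm (fun i : ι => ModSite.freeOn O (U i))).symm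

section SumIso

variable {𝒜 : Type*} [Category 𝒜] [Abelian 𝒜] {ι κ : Type u} [Finite ι] [Finite κ]
  (F : ι ⊕ κ → 𝒜)

/-- `(⊕_ι F ∘ inl) ⊞ (⊕_κ F ∘ inr) ≅ ⊕_{ι ⊕ κ} F` -/
noncomputable def sumIso : (∐ fun i => F (Sum.inl i)) ⊞ (∐ fun k => F (Sum.inr k)) ≅ ∐ F where
  hom := biprod.desc (Sigma.desc fun i => Sigma.ι F (Sum.inl i))
    (Sigma.desc fun k => Sigma.ι F (Sum.inr k))
  inv := Sigma.desc (fun s => match s with
    | Sum.inl i => Sigma.ι (fun i => F (Sum.inl i)) i ≫ biprod.inl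
    | Sum.inr k => Sigma.ι (fun k => F (Sum.inr k)) k ≫ biprod.inr)
  hom_inv_id := by
    apply biprod.hom_ext'
    · apply Sigma.hom_ext
      intro i
      simp
    · apply Sigma.hom_ext
      intro k
      simp
  inv_hom_id := by
    apply Sigma.hom_ext
    rintro (i | k) <;> simp

end SumIso

theorem IsFF.biprod {P Q : ModSite.Mod O} (hP : IsFF O B P) (hQ : IsFF O B Q) :
    IsFF O B (P ⊞ Q) := by
  obtain ⟨ι, hι, U, hU, ⟨i⟩⟩ := hP
  obtain ⟨κ, hκ, V, hV, ⟨j⟩⟩ := hQ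
  refine ⟨ι ⊕ κ, inferInstance, Sum.elim U V, ?_, ⟨biprod.mapIso i j ≪≫ ?_⟩⟩
  · rintro (a | b)
    · exact hU a
    · exact hV b
  · exact sumIso (fun s : ι ⊕ κ => ModSite.freeOn O (Sum.elim U V s))

theorem IsTypeA.of_iso {F F' : ModSite.Mod O} (e : F ≅ F') (h : IsTypeA O B F) :
    IsTypeA O B F' := by
  obtain ⟨m, n, V, U, ψ, hV, hU, ⟨i⟩⟩ := h
  exact ⟨m, n, V, U, ψ, hV, hU, ⟨e.symm ≪≫ i⟩⟩

theorem isTypeA_cokernel {Q P : ModSite.Mod O} (hQ : IsFF O B Q) (hP : IsFF O B P) (ψ : Q ⟶ P) :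
    IsTypeA O B (cokernel ψ) := by
  obtain ⟨m, V, hV, ⟨eQ⟩⟩ := hQ.exists_fin
  obtain ⟨n, U, hU, ⟨eP⟩⟩ := hP.exists_fin
  refine ⟨m, n, V, U, eQ.inv ≫ ψ ≫ eP.hom, hV, hU, ⟨?_⟩⟩
  exact cokernel.mapIso ψ (eQ.inv ≫ ψ ≫ eP.hom) eQ eP (by simp)

theorem IsFF.isTypeA {P : ModSite.Mod O} (hP : IsFF O B P) : IsTypeA O B P := by
  have h0 : IsFF O B (∐ fun i : Fin 0 => ModSite.freeOn O ((Fin.elim0 : Fin 0 → C) i)) :=
    isFF_fin _ (fun i => i.elim0)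
  exact (isTypeA_cokernel h0 hP 0).of_iso cokernelZeroIsoTarget

theorem IsTypeA.exists_pres {F : ModSite.Mod O} (h : IsTypeA O B F) :
    ∃ (Q P : ModSite.Mod O) (ψ : Q ⟶ P), IsFF O B Q ∧ IsFF O B P ∧ Nonempty (F ≅ cokernel ψ) := by
  obtain ⟨m, n, V, U, ψ, hV, hU, ⟨i⟩⟩ := h
  exact ⟨_, _, ψ, isFF_fin V hV, isFF_fin U hU, ⟨i⟩⟩

variable (O B)

theorem exists_refine_single
    (hB₁ : ∀ X : C, ∃ (κ : Type u) (Y : κ → C) (g : ∀ k, Y k ⟶ X),
      Sieve.ofArrows Y g ∈ J X ∧ ∀ k, Y k ∈ B)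
    {U : C} (hU : CohCx.IsQcObject (hSh J U)) {E M : ModSite.Mod O} (p : E ⟶ M) [Epi p]
    (f : ModSite.freeOn O U ⟶ M) :
    ∃ (κ : Type u) (_ : Finite κ) (W : κ → C) (g : ∀ k, W k ⟶ U)
      (x : ∀ k, ModSite.freeOn O (W k) ⟶ E),
      (∀ k, W k ∈ B) ∧ Sieve.ofArrows W g ∈ J U ∧ ∀ k, x k ≫ p = eMap O (g k) ≫ f := by
  obtain ⟨S, hS, hS'⟩ := exists_lift_of_epi O p f
  obtain ⟨κ, hκ, W, g, hW, hg, hcov⟩ := exists_finite_cover B hB₁ hU S hS
  choose x hx using fun k => hS' (W k) (g k) (hg k)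
  exact ⟨κ, hκ, W, g, x, hW, hcov, hx⟩

/-- refinement data for a family `U : ι → C` -/
structure RefData (J : GrothendieckTopology C) (B : Set C) {ι : Type u} (U : ι → C) where
  /-- index types -/
  κ : ι → Type u
  /-- finiteness -/
  fin : ∀ i, Finite (κ i)
  /-- covering objects -/
  W : ∀ i, κ i → C
  /-- covering maps -/
  g : ∀ i k, W i k ⟶ U i
  memB : ∀ i k, W i k ∈ B
  cov : ∀ i, Sieve.ofArrows (W i) (g i) ∈ J (U i)

namespace RefData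

variable {B} {ι : Type u} {U : ι → C} (R : RefData J B U)

/-- source of the refinement -/
noncomputable abbrev src : ModSite.Mod O :=
  ∐ fun x : Σ i, R.κ i => ModSite.freeOn O (R.W x.1 x.2)

/-- the refinement map -/
noncomputable def e : R.src O ⟶ ∐ fun i => ModSite.freeOn O (U i) :=
  Sigma.desc fun x : Σ i, R.κ i =>
    eMap O (R.g x.1 x.2) ≫ Sigma.ι (fun i => ModSite.freeOn O (U i)) x.1

@[reassoc]
lemma ι_e (i : ι) (k : R.κ i) :
    Sigma.ι (fun x : Σ i, R.κ i => ModSite.freeOn O (R.W x.1 x.2)) ⟨i, k⟩ ≫ R.e O =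
      eMap O (R.g i k) ≫ Sigma.ι (fun i => ModSite.freeOn O (U i)) i := by
  unfold e
  rw [Sigma.ι_desc]

instance epi_e : Epi (R.e O) := by
  constructor
  intro T a b hab
  apply Sigma.hom_ext
  intro i
  apply eMap_jointly_epi O (R.W i) (R.g i) (R.cov i)
  intro k
  have h := congrArg (fun t => Sigma.ι (fun x : Σ i, R.κ i => ModSite.freeOn O (R.W x.1 x.2))
    ⟨i, k⟩ ≫ t) hab
  dsimp only at h
  rw [ι_e_assoc, ι_e_assoc] at h
  exact h

theorem isFF_src [Finite ι] : IsFF O B (R.src O) := by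
  haveI := R.fin
  exact isFF_sigma (fun x : Σ i, R.κ i => R.W x.1 x.2) (fun x => R.memB x.1 x.2)

end RefData

theorem exists_refine_sigma
    (hB₁ : ∀ X : C, ∃ (κ : Type u) (Y : κ → C) (g : ∀ k, Y k ⟶ X),
      Sieve.ofArrows Y g ∈ J X ∧ ∀ k, Y k ∈ B)
    (hB₂ : ∀ U ∈ B, CohCx.IsQcObject (hSh J U))
    {ι : Type u} (U : ι → C) (hU : ∀ i, U i ∈ B) {E M : ModSite.Mod O} (p : E ⟶ M) [Epi p]
    (f : (∐ fun i => ModSite.freeOn O (U i)) ⟶ M) :
    ∃ (R : RefData J B U) (s : R.src O ⟶ E), s ≫ p = R.e O ≫ f := by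
  choose κ hκ W g x hW hcov hx using fun i =>
    exists_refine_single O B hB₁ (hB₂ (U i) (hU i)) p
      (Sigma.ι (fun i => ModSite.freeOn O (U i)) i ≫ f)
  let R : RefData J B U := ⟨κ, hκ, W, g, hW, hcov⟩
  refine ⟨R, Sigma.desc fun y : Σ i, κ i => x y.1 y.2, ?_⟩
  apply Sigma.hom_ext
  rintro ⟨i, k⟩
  rw [Sigma.ι_desc_assoc, RefData.ι_e_assoc]
  exact hx i k

theorem exists_refine
    (hB₁ : ∀ X : C, ∃ (κ : Type u) (Y : κ → C) (g : ∀ k, Y k ⟶ X),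
      Sieve.ofArrows Y g ∈ J X ∧ ∀ k, Y k ∈ B)
    (hB₂ : ∀ U ∈ B, CohCx.IsQcObject (hSh J U))
    {P : ModSite.Mod O} (hP : IsFF O B P) {E M : ModSite.Mod O} (p : E ⟶ M) [Epi p] (f : P ⟶ M) :
    ∃ (P' : ModSite.Mod O) (_ : IsFF O B P') (e : P' ⟶ P) (_ : Epi e) (s : P' ⟶ E),
      s ≫ p = e ≫ f := by
  obtain ⟨ι, hι, U, hU, ⟨eP⟩⟩ := hP
  obtain ⟨R, s, hs⟩ := exists_refine_sigma O B hB₁ hB₂ U hU p (eP.inv ≫ f)
  refine ⟨R.src O, R.isFF_src O, R.e O ≫ eP.inv, inferInstance, s, ?_⟩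
  rw [hs, Category.assoc]

theorem isTypeA_cokernel_of_isTypeA
    (hB₁ : ∀ X : C, ∃ (κ : Type u) (Y : κ → C) (g : ∀ k, Y k ⟶ X),
      Sieve.ofArrows Y g ∈ J X ∧ ∀ k, Y k ∈ B)
    (hB₂ : ∀ U ∈ B, CohCx.IsQcObject (hSh J U))
    {F G : ModSite.Mod O} (α : F ⟶ G) (hF : IsTypeA O B F) (hG : IsTypeA O B G) :
    IsTypeA O B (cokernel α) := by
  obtain ⟨QF, PF, ψF, hQF, hPF, ⟨iF⟩⟩ := hF.exists_pres
  obtain ⟨QG, PG, ψG, hQG, hPG, ⟨iG⟩⟩ := hG.exists_pres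
  let α' : cokernel ψF ⟶ cokernel ψG := iF.inv ≫ α ≫ iG.hom
  have e1 : cokernel α ≅ cokernel α' := cokernel.mapIso α α' iF iG (by simp [α'])
  obtain ⟨P', hP', e, he, t, ht⟩ := exists_refine O B hB₁ hB₂ hPF (cokernel.π ψG)
    (cokernel.π ψF ≫ α')
  haveI : Epi (e ≫ cokernel.π ψF) := epi_comp _ _
  have e2 : cokernel α' ≅ cokernel ((e ≫ cokernel.π ψF) ≫ α') :=
    (cokernelEpiComp (e ≫ cokernel.π ψF) α').symm
  have e3 : cokernel ((e ≫ cokernel.π ψF) ≫ α') ≅ cokernel (t ≫ cokernel.π ψG) :=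
    cokernelIsoOfEq (by rw [ht, Category.assoc])
  have e4 := cokerCompIso t ψG
  exact (isTypeA_cokernel (hP'.biprod hQG) hPG (biprod.desc t ψG)).of_iso
    (e1 ≪≫ e2 ≪≫ e3 ≪≫ e4).symm

end Groth.Agent.Lib.Helper21.TypeA
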