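import Groth.Agent.Lib.Helper17Cpt4
import Groth.Agent.Lib.Helper21CoprodSec2
import Groth.Agent.Lib.Helper21TypeA3
import Groth.Agent.Lib.Helper21ModTensor3
import Groth.Agent.Lib.Helper4ModEpi
import Groth.Prelude.Def_CohSite

/-!
# `j_{U!} O_U` for weakly contractible quasi-compact `U` (helper17)
-/

set_option autoImplicit false

universe u

open CategoryTheory CategoryTheory.Limits CategoryTheory.Abelian Opposite

namespace Groth.Agent.Lib.Helper17.Cpt

open Groth.Agent.Lib.Helper23FreeOn Groth.Agent.Lib.Helper21.CoprodSec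
  Groth.Agent.Lib.Helper21.TypeA

variable {C : Type u} [SmallCategory C] {J : GrothendieckTopology C} (O : Sheaf J CommRingCat.{u})

theorem projective_freeOn_of_wc (U : C) (hwc : CohSite.IsWeaklyContractible J U) :
    Projective (ModSite.freeOn O U) := by
  refine ⟨fun {E M} f p hp => ?_⟩
  haveI := Groth.Agent.Lib.Helper4.ModEpi.isLocallySurjective_of_epi p
  let φ := (sheafCompose J (forget AddCommGrpCat.{u})).map
    ((SheafOfModules.toSheaf (ModSite.ringSh O)).map p)
  have hφ : Epi φ := by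
    rw [← Sheaf.isLocallySurjective_iff_epi]
    exact (Presheaf.isLocallySurjective_iff_whisker_forget J _).1 ‹_›
  obtain ⟨e, he⟩ := hwc _ _ φ hφ (homEquiv O M U f)
  refine ⟨(homEquiv O E U).symm e, ?_⟩
  rw [homEquiv_symm_comp]
  apply (homEquiv O M U).injective
  rw [Equiv.apply_symm_apply]
  exact he

theorem finSupp₀_freeOn_of_qc (U : C)
    (hqc : CohCx.IsQcObject ((presheafToSheaf J (Type u)).obj (yoneda.obj U))) :
    FinSupp₀ (ModSite.freeOn O U) := by
  classical
  intro ι F c hc f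
  have hW : HasFinSubcover J U := hasFinSubcover_of_isQcObject hqc
  let e : c.pt ≅ ∐ F := hc.coconePointUniqueUpToIso (coproductIsCoproduct F)
  have he : ∀ i, c.inj i ≫ e.hom = Sigma.ι F i := fun i =>
    hc.comp_coconePointUniqueUpToIso_hom (coproductIsCoproduct F) ⟨i⟩
  obtain ⟨t, z, hz⟩ := exists_finite_sum F hW (homEquiv O (∐ F) U (f ≫ e.hom))
  refine ⟨t, fun Z k hk => ?_⟩
  have hf : f ≫ e.hom = ∑ i ∈ t, (homEquiv O (F i) U).symm (z i) ≫ Sigma.ι F i := by
    apply (homEquiv O (∐ F) U).injective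
    rw [hz, homEquiv_eq O (∐ F) U (∑ i ∈ t, _), sum_val_app]
    refine Finset.sum_congr rfl (fun i _ => ?_)
    rw [← homEquiv_eq, homEquiv_comp, Equiv.apply_symm_apply]
  have h1 : f ≫ k = (f ≫ e.hom) ≫ e.inv ≫ k := by
    rw [Category.assoc, e.hom_inv_id_assoc]
  rw [h1, hf, Preadditive.sum_comp]
  refine Finset.sum_eq_zero (fun i hi => ?_)
  rw [Category.assoc, ← he i, Category.assoc, e.hom_inv_id_assoc, hk i hi, comp_zero]

theorem isCompactObject_freeOn [HasDerivedCategory.{u} (ModSite.Mod O)]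
    [HasCoproducts.{u} (DerivedCategory (ModSite.Mod O))] (U : C)
    (hqc : CohCx.IsQcObject ((presheafToSheaf J (Type u)).obj (yoneda.obj U)))
    (hwc : CohSite.IsWeaklyContractible J U) :
    CohDer.IsCompactObject
      ((DerivedCategory.singleFunctor (ModSite.Mod O) 0).obj (ModSite.freeOn O U)) := by
  haveI : IsGrothendieckAbelian.{u} (ModSite.Mod O) :=
    Groth.Agent.Lib.Helper21.ModTensor3.isGrothendieckAbelian O
  haveI : HasExt.{u} (ModSite.Mod O) := hasExt_of_hasDerivedCategory _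
  haveI : Projective (ModSite.freeOn O U) := projective_freeOn_of_wc O U hwc
  refine isCompactObject_of_cd (finSupp₀_freeOn_of_qc O U hqc)
    (fun F c hc hF i x => Ext.eq_zero_of_projective x) 0 (fun Y i hi x => ?_)
  obtain ⟨i, rfl⟩ : ∃ j, i = j + 1 := ⟨i - 1, by omega⟩
  exact Ext.eq_zero_of_projective x

end Groth.Agent.Lib.Helper17.Cpt
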