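import Groth.Agent.Lib.Helper17KInjD1
import Mathlib.CategoryTheory.Localization.LocallySmall

/-!
# Local smallness of the derived category of a Grothendieck abelian category (helper17)

Using K-injective resolutions, the derived category of a Grothendieck abelian category `C`
(with `Category.{v} C`) is locally `v`-small, so that `HasDerivedCategory.{v} C` can be
constructed. Also: `Q` sends coproducts of complexes to coproducts.
-/

set_option autoImplicit false

universe w v u

open CategoryTheory CategoryTheory.Limits HomologicalComplex DerivedCategory CochainComplex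
  HomComplex

namespace Groth.Agent.Lib.Helper17.DBrown

open Groth.Agent.Lib.Helper17.KInj

section Small

variable (C : Type u) [Category.{v} C] [Abelian C] [IsGrothendieckAbelian.{v} C]

lemma exists_kInjective_iso [HasDerivedCategory.{w} C] (Y : DerivedCategory C) :
    ∃ (I : CochainComplex C ℤ), I.IsKInjective ∧ Nonempty (Y ≅ Q.obj I) := by
  obtain ⟨I, f, hI, hf, -, -⟩ := exists_kInjective_resolution.{v} C
    ((Q : _ ⥤ DerivedCategory C).objPreimage Y)
  exact ⟨I, hI, ⟨(Q.objObjPreimageIso Y).symm ≪≫ asIso (Q.map f)⟩⟩

theorem locallySmall_derivedCategory [HasDerivedCategory.{w} C] :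
    LocallySmall.{v} (DerivedCategory C) := by
  refine ⟨fun X Y => ?_⟩
  obtain ⟨I, hI, ⟨eY⟩⟩ := exists_kInjective_iso C Y
  let X' := (Q : _ ⥤ DerivedCategory C).objPreimage X
  let eX : Q.obj X' ≅ X := Q.objObjPreimageIso X
  have hsurj : Function.Surjective
      (fun f : X' ⟶ I => eX.inv ≫ (Q : _ ⥤ DerivedCategory C).map f ≫ eY.inv) := by
    intro y
    obtain ⟨g, hg⟩ := exists_Q_map_eq (eX.hom ≫ y ≫ eY.hom)
    exact ⟨g, by simp [hg]⟩
  exact small_of_surjective hsurj

/-- A derived category with `v`-small morphism types. -/
@[instance_reducible]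
noncomputable def hasDerivedCategorySmall : HasDerivedCategory.{v} C :=
  letI := HasDerivedCategory.standard C
  haveI := locallySmall_derivedCategory.{max u v} C
  MorphismProperty.hasLocalizationOfLocallySmall.{v}
    (HomologicalComplex.quasiIso C (ComplexShape.up ℤ)) (DerivedCategory.Q (C := C))

end Small

end Groth.Agent.Lib.Helper17.DBrown
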