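import Groth.Agent.Lib.Helper17DBrown2
import Groth.Agent.Lib.Helper1Compact
import Mathlib.Algebra.Homology.DerivedCategory.KProjective
import Mathlib.Algebra.Homology.DerivedCategory.TStructure
import Mathlib.CategoryTheory.Limits.Preserves.Shapes.Products

/-!
# A compact projective separator gives compact generators of the derived category (helper17)
-/

set_option autoImplicit false

universe w w' v u

open CategoryTheory CategoryTheory.Limits HomologicalComplex DerivedCategory CochainComplex
  HomComplex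

namespace Groth.Agent.Lib.Helper17.DBrown

open Groth.Agent.Lib.Helper17.KInj Groth.Agent.Lib.Helper1.Compact

section KProj

variable {C : Type u} [Category.{v} C] [Abelian C] [HasDerivedCategory.{w} C]

lemma exists_Q_map_eq_of_isKProjective {K L : CochainComplex C ℤ} [K.IsKProjective]
    (y : Q.obj K ⟶ Q.obj L) : ∃ g : K ⟶ L, Q.map g = y := by
  obtain ⟨g', hg'⟩ := (IsKProjective.Qh_map_bijective K
    ((HomotopyCategory.quotient _ _).obj L)).surjective
      ((quotientCompQhIso C).hom.app K ≫ y ≫ (quotientCompQhIso C).inv.app L)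
  obtain ⟨g, rfl⟩ := (HomotopyCategory.quotient _ _).map_surjective g'
  refine ⟨g, ?_⟩
  have h1 := quotientCompQhIso_hom_naturality g
  rw [hg'] at h1
  simp only [Category.assoc, Iso.inv_hom_id_app, Category.comp_id] at h1
  exact ((cancel_epi ((quotientCompQhIso C).hom.app K)).1 h1).symm

lemma homotopy_of_Q_map_eq_of_isKProjective {K L : CochainComplex C ℤ} [K.IsKProjective]
    {g g' : K ⟶ L} (h : (Q : _ ⥤ DerivedCategory C).map g = Q.map g') :
    Nonempty (Homotopy g g') := by
  have h1 : Qh.map ((HomotopyCategory.quotient _ _).map g) =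
      Qh.map ((HomotopyCategory.quotient _ _).map g') := by
    rw [← cancel_mono ((quotientCompQhIso C).hom.app L), quotientCompQhIso_hom_naturality,
      quotientCompQhIso_hom_naturality, h]
  exact ⟨HomotopyCategory.homotopyOfEq _ _
    ((IsKProjective.Qh_map_bijective K _).injective h1)⟩

omit [HasDerivedCategory.{w} C] in
lemma projective_single_X (P : C) [Projective P] (m n : ℤ) :
    Projective (((HomologicalComplex.single C (ComplexShape.up ℤ) m).obj P).X n) := by
  by_cases h : n = m
  · subst h
    exact Projective.of_iso (HomologicalComplex.singleObjXSelf (ComplexShape.up ℤ) n P).symm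
      inferInstance
  · exact (HomologicalComplex.isZero_single_obj_X (ComplexShape.up ℤ) m P n h).projective

omit [HasDerivedCategory.{w} C] in
instance isKProjective_single (P : C) [Projective P] (m : ℤ) :
    CochainComplex.IsKProjective ((HomologicalComplex.single C (ComplexShape.up ℤ) m).obj P) := by
  haveI := projective_single_X P m
  exact isKProjective_of_projective _ m

/-- If `P` is a projective separator and all maps from the `Q(P[-m])` to `Q(K)` vanish,
then `Q(K)` is zero. -/
lemma isZero_Q_obj_of_forall_single {P : C} [Projective P] (hP : IsSeparator P)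
    (K : CochainComplex C ℤ)
    (h : ∀ (m : ℤ) (g : (Q : _ ⥤ DerivedCategory C).obj
      ((HomologicalComplex.single C (ComplexShape.up ℤ) m).obj P) ⟶ Q.obj K), g = 0) :
    IsZero ((Q : _ ⥤ DerivedCategory C).obj K) := by
  have hex : ∀ m, K.ExactAt m := by
    intro m
    rw [HomologicalComplex.exactAt_iff_isZero_homology]
    have hπ : K.homologyπ m = 0 := by
      apply hP.def
      intro a
      rw [comp_zero]
      obtain ⟨φ, hφ⟩ : ∃ φ : (HomologicalComplex.single C (ComplexShape.up ℤ) m).obj P ⟶ K,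
          φ.f m = (HomologicalComplex.singleObjXSelf (ComplexShape.up ℤ) m P).hom ≫
            a ≫ K.iCycles m :=
        ⟨HomologicalComplex.mkHomFromSingle (a ≫ K.iCycles m) (fun k _ => by
          rw [Category.assoc, HomologicalComplex.iCycles_d, comp_zero]),
          HomologicalComplex.mkHomFromSingle_f _ _⟩
      have h0 : (Q : _ ⥤ DerivedCategory C).map φ = Q.map 0 := by
        rw [h m (Q.map φ), Functor.map_zero]
      obtain ⟨H⟩ := homotopy_of_Q_map_eq_of_isKProjective h0
      have hc := H.comm m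
      rw [dNext_eq H.hom (show (ComplexShape.up ℤ).Rel m (m + 1) from rfl),
        prevD_eq H.hom (show (ComplexShape.up ℤ).Rel (m - 1) m by simp),
        HomologicalComplex.single_obj_d, zero_comp, zero_add, HomologicalComplex.zero_f,
        add_zero, hφ] at hc
      have h2 : a ≫ K.iCycles m =
          ((HomologicalComplex.singleObjXSelf (ComplexShape.up ℤ) m P).inv ≫ H.hom m (m - 1) ≫
            K.toCycles (m - 1) m) ≫ K.iCycles m := by
        rw [Category.assoc, Category.assoc, HomologicalComplex.toCycles_i, ← hc,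
          Iso.inv_hom_id_assoc]
      rw [(cancel_mono (K.iCycles m)).1 h2, Category.assoc, Category.assoc,
        HomologicalComplex.toCycles_comp_homologyπ, comp_zero, comp_zero]
    exact IsZero.of_epi_eq_zero _ hπ
  have h1 : CochainComplex.IsLE K 0 := by
    rw [CochainComplex.isLE_iff]
    exact fun i _ => hex i
  have h2 : CochainComplex.IsGE K 1 := by
    rw [CochainComplex.isGE_iff]
    exact fun i _ => hex i
  have : (Q.obj K).IsLE 0 := (DerivedCategory.isLE_Q_obj_iff _ _).2 h1
  have : (Q.obj K).IsGE 1 := (DerivedCategory.isGE_Q_obj_iff _ _).2 h2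
  exact DerivedCategory.TStructure.t.isZero (Q.obj K) 0 1 (by simp)

end KProj

section ChainCompact

lemma kill_comp_sigmaComparison {D : Type*} {E : Type*} [Category D] [Category E] [Preadditive D]
    [Preadditive E]
    (G : D ⥤ E) [G.PreservesZeroMorphisms] {ι : Type*} (X : ι → D) [HasCoproduct X]
    [HasCoproduct fun j => G.obj (X j)] (s : Finset ι) :
    kill (fun k => G.obj (X k)) s ≫ sigmaComparison G X =
      sigmaComparison G X ≫ G.map (kill X s) := by
  refine Sigma.hom_ext _ _ (fun k => ?_)
  rw [ι_comp_sigmaComparison_assoc, ← G.map_comp]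
  by_cases hk : k ∈ s
  · rw [ι_kill_of_mem_assoc _ hk, zero_comp, ι_kill_of_mem X hk, Functor.map_zero]
  · rw [ι_kill_of_notMem_assoc _ hk, ι_kill_of_notMem X hk, ι_comp_sigmaComparison]

variable {C : Type u} [Category.{v} C] [Abelian C] [HasCoproducts.{v} C]

/-- chain-level compactness of `P[-m]`. -/
lemma exists_kill_of_single {P : C} (hPc : CohDer.IsCompactObject P) (m : ℤ) {ι : Type v}
    (X : ι → CochainComplex C ℤ)
    (g : (HomologicalComplex.single C (ComplexShape.up ℤ) m).obj P ⟶ ∐ X) :
    ∃ s : Finset ι, g ≫ kill X s = 0 := by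
  classical
  obtain ⟨σ, τ, hσ, hτσ⟩ : ∃ (σ : (∐ fun b => (HomologicalComplex.eval C (ComplexShape.up ℤ) m).obj
      (X b)) ⟶ (HomologicalComplex.eval C (ComplexShape.up ℤ) m).obj (∐ X))
      (τ : (HomologicalComplex.eval C (ComplexShape.up ℤ) m).obj (∐ X) ⟶
        (∐ fun b => (HomologicalComplex.eval C (ComplexShape.up ℤ) m).obj (X b))),
      σ = sigmaComparison (HomologicalComplex.eval C (ComplexShape.up ℤ) m) X ∧ τ ≫ σ = 𝟙 _ :=
    ⟨_, inv (sigmaComparison (HomologicalComplex.eval C (ComplexShape.up ℤ) m) X), rfl,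
      IsIso.inv_hom_id _⟩
  obtain ⟨s, hs⟩ := IsCompactObject.exists_kill hPc
    (fun j => (HomologicalComplex.eval C (ComplexShape.up ℤ) m).obj (X j))
    ((HomologicalComplex.singleObjXSelf (ComplexShape.up ℤ) m P).inv ≫ g.f m ≫ τ)
  refine ⟨s, ?_⟩
  apply HomologicalComplex.from_single_hom_ext
  rw [HomologicalComplex.comp_f, HomologicalComplex.zero_f]
  have h1 : (HomologicalComplex.eval C (ComplexShape.up ℤ) m).map (kill X s) =
      τ ≫ kill (fun k => (HomologicalComplex.eval C
      (ComplexShape.up ℤ) m).obj (X k)) s ≫ σ := by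
    rw [hσ, kill_comp_sigmaComparison, ← hσ, ← Category.assoc, hτσ, Category.id_comp]
  have h2 : (kill X s).f m = τ ≫ kill (fun k => (HomologicalComplex.eval C
      (ComplexShape.up ℤ) m).obj (X k)) s ≫ σ := h1
  have hs' : (HomologicalComplex.singleObjXSelf (ComplexShape.up ℤ) m P).inv ≫ g.f m ≫ τ ≫
      kill (fun k => (HomologicalComplex.eval C (ComplexShape.up ℤ) m).obj (X k)) s = 0 := by
    simpa only [Category.assoc] using hs
  rw [h2, ← cancel_epi (HomologicalComplex.singleObjXSelf (ComplexShape.up ℤ) m P).inv,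
    comp_zero]
  calc _ = ((HomologicalComplex.singleObjXSelf (ComplexShape.up ℤ) m P).inv ≫ g.f m ≫ τ ≫
      kill (fun k => (HomologicalComplex.eval C (ComplexShape.up ℤ) m).obj (X k)) s) ≫ σ := by
        simp only [Category.assoc]
        rfl
    _ = 0 := by rw [hs', zero_comp]

end ChainCompact

section Compact

variable {C : Type u} [Category.{v} C] [Abelian C] [IsGrothendieckAbelian.{v} C]
  [HasDerivedCategory.{v} C] [HasCoproducts.{v} (DerivedCategory C)] [HasCoproducts.{v} C]

theorem isCompactObject_Q_single {P : C} [Projective P] (hPc : CohDer.IsCompactObject P) (m : ℤ) :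
    CohDer.IsCompactObject ((Q : _ ⥤ DerivedCategory C).obj
      ((HomologicalComplex.single C (ComplexShape.up ℤ) m).obj P)) := by
  classical
  rw [isCompactObject_iff]
  intro ι X φ
  let X' : ι → CochainComplex C ℤ := fun j => (Q : _ ⥤ DerivedCategory C).objPreimage (X j)
  let e : ∀ j, Q.obj (X' j) ≅ X j := fun j => Q.objObjPreimageIso (X j)
  let ψ : ∐ X ⟶ Q.obj (∐ X') := Sigma.desc (fun j => (e j).inv ≫ Q.map (Sigma.ι X' j))
  let ψ' : Q.obj (∐ X') ⟶ ∐ X :=
    (isColimitQSigma X').desc (Cofan.mk (∐ X) (fun j => (e j).hom ≫ Sigma.ι X j))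
  have hψ' : ∀ j, Q.map (Sigma.ι X' j) ≫ ψ' = (e j).hom ≫ Sigma.ι X j := fun j =>
    (isColimitQSigma X').fac (Cofan.mk (∐ X) (fun j => (e j).hom ≫ Sigma.ι X j)) ⟨j⟩
  have hψψ' : ψ ≫ ψ' = 𝟙 _ := by
    refine Sigma.hom_ext _ _ (fun j => ?_)
    rw [Sigma.ι_desc_assoc, Category.assoc, hψ', Iso.inv_hom_id_assoc, Category.comp_id]
  obtain ⟨g, hg⟩ := exists_Q_map_eq_of_isKProjective (φ ≫ ψ)
  obtain ⟨s, hs⟩ := exists_kill_of_single hPc m X' g
  refine ⟨s, ?_⟩
  have hkill : ψ' ≫ kill X s = Q.map (kill X' s) ≫ ψ' := by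
    refine (isColimitQSigma X').hom_ext (fun ⟨j⟩ => ?_)
    change Q.map (Sigma.ι X' j) ≫ ψ' ≫ kill X s = Q.map (Sigma.ι X' j) ≫ Q.map (kill X' s) ≫ ψ'
    rw [← Category.assoc, hψ', Category.assoc, ← Category.assoc (Q.map _), ← Functor.map_comp]
    by_cases hj : j ∈ s
    · rw [ι_kill_of_mem X hj, ι_kill_of_mem X' hj, comp_zero, Functor.map_zero, zero_comp]
    · rw [ι_kill_of_notMem X hj, ι_kill_of_notMem X' hj, hψ']
  have h1 : φ = Q.map g ≫ ψ' := by
    rw [hg, Category.assoc, hψψ', Category.comp_id]
  rw [h1, Category.assoc, hkill, ← Category.assoc, ← Functor.map_comp, hs, Functor.map_zero,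
    zero_comp]

theorem isCompactlyGenerated_derivedCategory {P : C} [Projective P] (hP : IsSeparator P)
    (hPc : CohDer.IsCompactObject P) : CohDer.IsCompactlyGenerated (DerivedCategory C) := by
  refine ⟨ULift.{v} ℤ, fun m => (Q : _ ⥤ DerivedCategory C).obj
    ((HomologicalComplex.single C (ComplexShape.up ℤ) m.down).obj P),
    fun m => isCompactObject_Q_single hPc m.down, fun K hK => ?_⟩
  let K' := (Q : _ ⥤ DerivedCategory C).objPreimage K
  let e : Q.obj K' ≅ K := Q.objObjPreimageIso K
  refine IsZero.of_iso (isZero_Q_obj_of_forall_single hP K' (fun m g => ?_)) e.symm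
  have h0 := hK ⟨m⟩ 0 (g ≫ e.hom ≫ (shiftFunctorZero (DerivedCategory C) ℤ).inv.app K)
  rw [← Category.assoc] at h0
  have h1 : g ≫ e.hom = 0 := by
    rw [← cancel_mono ((shiftFunctorZero (DerivedCategory C) ℤ).inv.app K), h0, zero_comp]
  rw [← cancel_mono e.hom, h1, zero_comp]

end Compact

end Groth.Agent.Lib.Helper17.DBrown
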