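import Groth.Agent.Lib.Helper17DBrown5

/-!
# Brown representability for the derived category of a Grothendieck abelian category (helper17)
-/

set_option autoImplicit false

universe w w' v u

open CategoryTheory CategoryTheory.Limits

namespace Groth.Agent.Lib.Helper17.DBrown

open Groth.Agent.Lib.Helper17.KInj Groth.Agent.Lib.Helper1.Compact

section Main

open CategoryTheory.Pretriangulated.Opposite

variable {A : Type u} [Category.{v} A] [Abelian A] [IsGrothendieckAbelian.{v} A]
  [HasDerivedCategory.{v} A]

theorem brown_derivedCategory (H : (DerivedCategory A)ᵒᵖ ⥤ AddCommGrpCat.{v}) [H.IsHomological]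
    [∀ (ι : Type v), PreservesLimitsOfShape (Discrete ι) H] :
    (H ⋙ forget AddCommGrpCat.{v}).IsRepresentable := by
  have hU : IsSeparator (separator A) := isSeparator_separator A
  obtain ⟨U, hU'⟩ : ∃ U : A, U = separator A := ⟨_, rfl⟩
  rw [← hU'] at hU
  letI hM : HasDerivedCategory.{v} (ModuleCat.{v} (End U)ᵐᵒᵖ) :=
    hasDerivedCategorySmall (ModuleCat.{v} (End U)ᵐᵒᵖ)
  haveI : PreservesFiniteLimits (IsGrothendieckAbelian.tensorObj U) :=
    IsGrothendieckAbelian.GabrielPopescu.preservesFiniteLimits U hU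
  haveI : PreservesFiniteColimits (IsGrothendieckAbelian.tensorObj U) := by
    haveI : PreservesColimitsOfSize.{0, 0} (IsGrothendieckAbelian.tensorObj U) :=
      (IsGrothendieckAbelian.tensorObjPreadditiveCoyonedaObjAdjunction U).leftAdjoint_preservesColimits
    infer_instance
  haveI : (IsGrothendieckAbelian.tensorObj U).Additive :=
    Functor.additive_of_preserves_binary_products _
  haveI : (preadditiveCoyonedaObj U).Full := IsGrothendieckAbelian.GabrielPopescu.full U hU
  haveI : (preadditiveCoyonedaObj U).Faithful :=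
    (isSeparator_iff_faithful_preadditiveCoyonedaObj U).1 hU
  haveI : IsIso (IsGrothendieckAbelian.tensorObjPreadditiveCoyonedaObjAdjunction U).counit :=
    inferInstance
  have hder : (fibLocalizerMorphism A).Derives
      ((preadditiveCoyonedaObj U).mapHomologicalComplex (ComplexShape.up ℤ) ⋙
        (DerivedCategory.Q : _ ⥤ DerivedCategory (ModuleCat.{v} (End U)ᵐᵒᵖ))) :=
    fibLocalizerMorphism_derives _ (isInvertedBy_mapHomologicalComplex_comp_Q _)
  haveI := hder.hasPointwiseRightDerivedFunctor
  obtain ⟨RG, β, hβ⟩ : ∃ (RG : DerivedCategory A ⥤ DerivedCategory (ModuleCat.{v} (End U)ᵐᵒᵖ))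
      (β : (preadditiveCoyonedaObj U).mapHomologicalComplex (ComplexShape.up ℤ) ⋙
        DerivedCategory.Q ⟶ DerivedCategory.Q ⋙ RG),
      RG.IsRightDerivedFunctor β (HomologicalComplex.quasiIso A (ComplexShape.up ℤ)) :=
    ⟨_, ((preadditiveCoyonedaObj U).mapHomologicalComplex (ComplexShape.up ℤ) ⋙
      (DerivedCategory.Q : _ ⥤ DerivedCategory (ModuleCat.{v} (End U)ᵐᵒᵖ))).totalRightDerivedUnit
        DerivedCategory.Q (HomologicalComplex.quasiIso A (ComplexShape.up ℤ)), inferInstance⟩
  haveI := hβ
  let dadj := derivedAdjunction.{v} (IsGrothendieckAbelian.tensorObj U)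
    (preadditiveCoyonedaObj U) (IsGrothendieckAbelian.tensorObjPreadditiveCoyonedaObjAdjunction U)
    RG β
  haveI : IsIso dadj.counit := isIso_counit_derivedAdjunction.{v} (IsGrothendieckAbelian.tensorObj U)
    (preadditiveCoyonedaObj U) (IsGrothendieckAbelian.tensorObjPreadditiveCoyonedaObjAdjunction U)
    RG β
  haveI : HasCoproducts.{v} (DerivedCategory (ModuleCat.{v} (End U)ᵐᵒᵖ)) :=
    hasCoproducts_derivedCategory
  haveI : HasCoproducts.{v} (ModuleCat.{v} (End U)ᵐᵒᵖ) := fun J => inferInstance
  have hD : CohDer.IsCompactlyGenerated (DerivedCategory (ModuleCat.{v} (End U)ᵐᵒᵖ)) :=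
    isCompactlyGenerated_derivedCategory (P := ModuleCat.of (End U)ᵐᵒᵖ (End U)ᵐᵒᵖ)
      (isSeparator_of_self _) (isCompactObject_of_self _)
  have hpres : ∀ (κ : Type v), PreservesLimitsOfShape (Discrete κ)
      (IsGrothendieckAbelian.tensorObj U).mapDerivedCategory.op := by
    intro κ
    haveI : PreservesColimitsOfSize.{v, v} (IsGrothendieckAbelian.tensorObj U).mapDerivedCategory :=
      dadj.leftAdjoint_preservesColimits
    have : PreservesColimitsOfShape (Discrete κ)ᵒᵖ
        (IsGrothendieckAbelian.tensorObj U).mapDerivedCategory :=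
      preservesColimitsOfShape_of_equiv (Discrete.opposite κ).symm _
    exact preservesLimitsOfShape_op (Discrete κ) _
  have hpres' : ∀ (κ : Type v), PreservesLimitsOfShape (Discrete κ)
      ((IsGrothendieckAbelian.tensorObj U).mapDerivedCategory.op ⋙ H) := fun κ => inferInstance
  have hhom : ((IsGrothendieckAbelian.tensorObj U).mapDerivedCategory.op ⋙ H).IsHomological :=
    inferInstance
  haveI : ((IsGrothendieckAbelian.tensorObj U).mapDerivedCategory.op ⋙
      (H ⋙ forget AddCommGrpCat.{v})).IsRepresentable :=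
    Groth.Agent.S0473.result hD ((IsGrothendieckAbelian.tensorObj U).mapDerivedCategory.op ⋙ H)
  exact isRepresentable_of_reflective dadj (H ⋙ forget AddCommGrpCat.{v})

end Main

end Groth.Agent.Lib.Helper17.DBrown
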