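import Mathlib.Algebra.Homology.DerivedCategory.ExactFunctor
import Mathlib.CategoryTheory.Localization.Predicate

/-!
# Comparing the derived categories attached to two `HasDerivedCategory` instances (helper17)

For an abelian category `C` and two instances `h₁ h₂ : HasDerivedCategory C` (possibly with
different universes of morphisms), the two derived categories are equivalent by a triangulated
equivalence which is compatible with the localization functors.

In order to avoid any ambiguity in instance resolution, we introduce a type synonym
`DC C h` for the derived category attached to `h : HasDerivedCategory C`, on which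
all the structures are keyed on the explicit argument `h`.
-/

set_option autoImplicit false

universe w w₁ w₂ v u

open CategoryTheory CategoryTheory.Limits

namespace Groth.Agent.Lib.Helper17.DCompare

section Synonym

variable (C : Type u) [Category.{v} C] [Abelian C] (h : HasDerivedCategory.{w} C)

/-- the derived category attached to `h`. -/
def DC : Type (max u v) := @DerivedCategory C _ _ h

noncomputable instance : Category.{w} (DC C h) :=
  inferInstanceAs (Category (@DerivedCategory C _ _ h))

noncomputable instance : Preadditive (DC C h) :=
  inferInstanceAs (Preadditive (@DerivedCategory C _ _ h))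

noncomputable instance : HasZeroObject (DC C h) :=
  inferInstanceAs (HasZeroObject (@DerivedCategory C _ _ h))

noncomputable instance : HasShift (DC C h) ℤ :=
  inferInstanceAs (HasShift (@DerivedCategory C _ _ h) ℤ)

noncomputable instance (n : ℤ) : (shiftFunctor (DC C h) n).Additive :=
  inferInstanceAs ((shiftFunctor (@DerivedCategory C _ _ h) n).Additive)

noncomputable instance : Pretriangulated (DC C h) :=
  inferInstanceAs (Pretriangulated (@DerivedCategory C _ _ h))

noncomputable instance : IsTriangulated (DC C h) :=
  inferInstanceAs (IsTriangulated (@DerivedCategory C _ _ h))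

/-- the localization functor from the homotopy category. -/
noncomputable def Qh' : HomotopyCategory C (ComplexShape.up ℤ) ⥤ DC C h :=
  @DerivedCategory.Qh C _ _ h

/-- the localization functor from the category of complexes. -/
noncomputable def Q' : CochainComplex C ℤ ⥤ DC C h :=
  @DerivedCategory.Q C _ _ h

noncomputable instance :
    (Qh' C h).IsLocalization (HomotopyCategory.quasiIso C (ComplexShape.up ℤ)) :=
  inferInstanceAs ((@DerivedCategory.Qh C _ _ h).IsLocalization _)

noncomputable instance : (Qh' C h).Additive :=
  inferInstanceAs ((@DerivedCategory.Qh C _ _ h).Additive)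

noncomputable instance : (Qh' C h).CommShift ℤ :=
  inferInstanceAs ((@DerivedCategory.Qh C _ _ h).CommShift ℤ)

noncomputable instance : (Qh' C h).IsTriangulated :=
  inferInstanceAs ((@DerivedCategory.Qh C _ _ h).IsTriangulated)

noncomputable instance : (Qh' C h).mapArrow.EssSurj :=
  inferInstanceAs ((@DerivedCategory.Qh C _ _ h).mapArrow.EssSurj)

/-- the compatibility of the two localization functors. -/
noncomputable def quotientCompQh'Iso :
    HomotopyCategory.quotient C (ComplexShape.up ℤ) ⋙ Qh' C h ≅ Q' C h :=
  @DerivedCategory.quotientCompQhIso C _ _ h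

end Synonym

section Compare

variable (C : Type u) [Category.{v} C] [Abelian C]
  (h₁ : HasDerivedCategory.{w₁} C) (h₂ : HasDerivedCategory.{w₂} C)

/-- the comparison equivalence. -/
noncomputable def compEquiv : DC C h₁ ≌ DC C h₂ :=
  Localization.uniq (Qh' C h₁) (Qh' C h₂) (HomotopyCategory.quasiIso C (ComplexShape.up ℤ))

/-- the comparison functor. -/
noncomputable def compFunctor : DC C h₁ ⥤ DC C h₂ := (compEquiv C h₁ h₂).functor

instance : (compFunctor C h₁ h₂).IsEquivalence := by
  unfold compFunctor; infer_instance

/-- the compatibility with the localization functors from the homotopy category. -/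
noncomputable def compFunctorFactorsh : Qh' C h₁ ⋙ compFunctor C h₁ h₂ ≅ Qh' C h₂ :=
  Localization.compUniqFunctor _ _ _

noncomputable instance : Localization.Lifting (Qh' C h₁)
    (HomotopyCategory.quasiIso C (ComplexShape.up ℤ)) (Qh' C h₂) (compFunctor C h₁ h₂) :=
  ⟨compFunctorFactorsh C h₁ h₂⟩

noncomputable instance : (compFunctor C h₁ h₂).CommShift ℤ :=
  Functor.commShiftOfLocalization (Qh' C h₁)
    (HomotopyCategory.quasiIso C (ComplexShape.up ℤ)) ℤ (Qh' C h₂) (compFunctor C h₁ h₂)

instance : NatTrans.CommShift (compFunctorFactorsh C h₁ h₂).hom ℤ :=
  inferInstanceAs (NatTrans.CommShift (Localization.Lifting.iso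
    (Qh' C h₁) (HomotopyCategory.quasiIso C (ComplexShape.up ℤ))
    (Qh' C h₂) (compFunctor C h₁ h₂)).hom ℤ)

instance : (compFunctor C h₁ h₂).IsTriangulated :=
  Functor.isTriangulated_of_precomp_iso (compFunctorFactorsh C h₁ h₂)

instance : (compFunctor C h₁ h₂).Additive := inferInstance

/-- the compatibility with the localization functors from the category of complexes. -/
noncomputable def compFunctorFactors : Q' C h₁ ⋙ compFunctor C h₁ h₂ ≅ Q' C h₂ :=
  Functor.isoWhiskerRight (quotientCompQh'Iso C h₁).symm _ ≪≫
    Functor.associator _ _ _ ≪≫ Functor.isoWhiskerLeft _ (compFunctorFactorsh C h₁ h₂) ≪≫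
    quotientCompQh'Iso C h₂

lemma compEquiv_inverse : (compEquiv C h₁ h₂).inverse = compFunctor C h₂ h₁ := rfl

end Compare

end Groth.Agent.Lib.Helper17.DCompare
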