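import Mathlib.CategoryTheory.Abelian.GrothendieckAxioms.Colim
import Mathlib.CategoryTheory.Abelian.FunctorCategory
import Mathlib.CategoryTheory.Functor.OfSequence
import Mathlib.CategoryTheory.Limits.Shapes.ZeroMorphisms
import Mathlib.Algebra.Homology.ShortComplex.ShortExact
import Groth.Prelude.Def_DerLim

/-!
# The telescope short exact sequence `0 → ⨁ Fₙ → ⨁ Fₙ → colim F → 0`

For a sequence `F : ℕ ⥤ A` in an abelian category with exact colimits of shape `ℕ`.
-/

set_option autoImplicit false
universe v u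
open CategoryTheory CategoryTheory.Limits

namespace Groth.Agent.Lib.Helper1

section Kill

variable {A : Type u} [Category.{v} A] [Preadditive A] (K : ℕ → A) [HasCoproduct K]

/-- The endomorphism of `∐ K` that kills the summands of index `< N`. -/
noncomputable def kill (N : ℕ) : ∐ K ⟶ ∐ K :=
  Sigma.desc (fun n => if n < N then 0 else Sigma.ι K n)

@[reassoc]
lemma ι_kill (N n : ℕ) : Sigma.ι K n ≫ kill K N = if n < N then 0 else Sigma.ι K n := by
  simp [kill]

lemma ι_kill_of_lt {N n : ℕ} (h : n < N) : Sigma.ι K n ≫ kill K N = 0 := by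
  rw [ι_kill, if_pos h]

lemma ι_kill_of_ge {N n : ℕ} (h : N ≤ n) : Sigma.ι K n ≫ kill K N = Sigma.ι K n := by
  rw [ι_kill, if_neg (by omega)]

lemma kill_zero : kill K 0 = 𝟙 _ := by
  refine Sigma.hom_ext _ _ (fun n => ?_)
  rw [ι_kill_of_ge K (Nat.zero_le n), Category.comp_id]

lemma kill_comp_kill {a b : ℕ} (h : a ≤ b) : kill K a ≫ kill K b = kill K b := by
  refine Sigma.hom_ext _ _ (fun n => ?_)
  by_cases hn : n < a
  · rw [← Category.assoc, ι_kill_of_lt K hn, zero_comp, ι_kill_of_lt K (by omega)]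
  · rw [← Category.assoc, ι_kill_of_ge K (by omega)]

lemma kill_π (N n : ℕ) : kill K N ≫ Sigma.π K n = if n < N then 0 else Sigma.π K n := by
  refine Sigma.hom_ext _ _ (fun m => ?_)
  by_cases hm : m < N
  · rw [← Category.assoc, ι_kill_of_lt K hm, zero_comp]
    split_ifs with hn
    · rw [comp_zero]
    · rw [Sigma.ι_π_of_ne K (by omega)]
  · rw [← Category.assoc, ι_kill_of_ge K (by omega)]
    split_ifs with hn
    · rw [comp_zero, Sigma.ι_π_of_ne K (by omega)]
    · rfl

lemma kill_succ (N : ℕ) : kill K (N + 1) = kill K N - kill K N ≫ Sigma.π K N ≫ Sigma.ι K N := by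
  refine Sigma.hom_ext _ _ (fun m => ?_)
  rw [Preadditive.comp_sub]
  by_cases hm : m < N
  · rw [ι_kill_of_lt K (show m < N + 1 by omega), ← Category.assoc, ι_kill_of_lt K hm, zero_comp,
      sub_zero]
  · rw [← Category.assoc (Sigma.ι K m), ι_kill_of_ge K (show N ≤ m by omega)]
    by_cases hm' : m = N
    · subst hm'
      rw [ι_kill_of_lt K (Nat.lt_succ_self m), Sigma.ι_π_eq_id_assoc, sub_self]
    · rw [ι_kill_of_ge K (show N + 1 ≤ m by omega), Sigma.ι_π_of_ne_assoc K hm', zero_comp, sub_zero]

/-- If all the "coordinates" of `y` vanish and `y` is killed by `kill N`, then `y = 0`. -/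
lemma eq_zero_of_comp_kill_eq_zero {Y : A} (y : Y ⟶ ∐ K) (hy : ∀ n, y ≫ Sigma.π K n = 0)
    (N : ℕ) (hN : y ≫ kill K N = 0) : y = 0 := by
  induction N with
  | zero => rwa [kill_zero, Category.comp_id] at hN
  | succ N ih =>
    apply ih
    rw [kill_succ, Preadditive.comp_sub, sub_eq_zero] at hN
    rw [hN, ← Category.assoc, ← Category.assoc, Category.assoc y, kill_π, if_neg (lt_irrefl N), hy,
      zero_comp]

variable (f : ∀ n, K n ⟶ K (n + 1))

omit [Preadditive A] in
@[reassoc]
lemma ι_shiftMap (n : ℕ) : Sigma.ι K n ≫ DerLim.shiftMap K f = f n ≫ Sigma.ι K (n + 1) := by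
  simp [DerLim.shiftMap]

lemma shiftMap_π_zero : DerLim.shiftMap K f ≫ Sigma.π K 0 = 0 := by
  refine Sigma.hom_ext _ _ (fun m => ?_)
  rw [ι_shiftMap_assoc, Sigma.ι_π_of_ne K (by omega), comp_zero, comp_zero]

lemma shiftMap_π_succ (n : ℕ) :
    DerLim.shiftMap K f ≫ Sigma.π K (n + 1) = Sigma.π K n ≫ f n := by
  refine Sigma.hom_ext _ _ (fun m => ?_)
  rw [ι_shiftMap_assoc]
  by_cases hm : m = n
  · subst hm
    rw [Sigma.ι_π_eq_id, Category.comp_id, Sigma.ι_π_eq_id_assoc]
  · rw [Sigma.ι_π_of_ne K (by omega), comp_zero, Sigma.ι_π_of_ne_assoc K hm, zero_comp]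

/-- If `y ≫ (1 - shift) = 0`, then all the coordinates of `y` vanish. -/
lemma comp_π_eq_zero_of_comp_one_sub_shiftMap {Y : A} (y : Y ⟶ ∐ K)
    (hy : y ≫ (𝟙 _ - DerLim.shiftMap K f) = 0) (n : ℕ) : y ≫ Sigma.π K n = 0 := by
  rw [Preadditive.comp_sub, Category.comp_id, sub_eq_zero] at hy
  induction n with
  | zero => rw [hy, Category.assoc, shiftMap_π_zero, comp_zero]
  | succ n ih => rw [hy, Category.assoc, shiftMap_π_succ, ← Category.assoc, ih, zero_comp]

end Kill

section Mono

variable {A : Type u} [Category.{v} A] [Abelian A] [HasColimitsOfShape ℕ A]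
  [HasExactColimitsOfShape ℕ A] (K : ℕ → A) [HasCoproduct K]

/-- The sequence `∐ K ⟶ ∐ K ⟶ ⋯` with transition maps `kill`; its colimit is zero. -/
noncomputable def killSeq : ℕ ⥤ A where
  obj _ := ∐ K
  map {a b} _ := if a = b then 𝟙 _ else kill K b
  map_id a := by simp
  map_comp {a b c} g h := by
    have hab : a ≤ b := leOfHom g
    have hbc : b ≤ c := leOfHom h
    by_cases h1 : a = b
    · subst h1; simp
    · by_cases h2 : b = c
      · subst h2; simp [h1]
      · rw [if_neg h1, if_neg h2, if_neg (by omega), kill_comp_kill K hbc]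

omit [HasColimitsOfShape ℕ A] [HasExactColimitsOfShape ℕ A] in
lemma killSeq_map_of_lt {a b : ℕ} (h : a < b) : (killSeq K).map (homOfLE h.le) = kill K b := by
  dsimp [killSeq]
  rw [if_neg (by omega)]

omit [HasColimitsOfShape ℕ A] [HasExactColimitsOfShape ℕ A] in
lemma killSeq_cocone_ι_eq_zero (c : Cocone (killSeq K)) (N : ℕ) : c.ι.app N = 0 := by
  let g : ∀ _ : ℕ, (∐ K ⟶ c.pt) := fun M => c.ι.app M
  have hg : ∀ M, N < M → kill K M ≫ g M = g N := fun M h => by
    have := c.w (homOfLE h.le)
    rw [killSeq_map_of_lt K h] at this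
    exact this
  change g N = 0
  refine Sigma.hom_ext _ _ (fun n => ?_)
  rw [← hg (max N n + 1) (by omega), ← Category.assoc, ι_kill_of_lt K (by omega), zero_comp, comp_zero]

attribute [local instance] IsFiltered.isConnected in
/-- In an abelian category with exact colimits of shape `ℕ`, the map `1 - shift : ∐ K ⟶ ∐ K`
is a monomorphism. -/
theorem mono_one_sub_shiftMap (f : ∀ n, K n ⟶ K (n + 1)) :
    Mono (𝟙 (∐ K) - DerLim.shiftMap K f) := by
  apply Preadditive.mono_of_cancel_zero
  intro Y k hk
  let φ : (Functor.const ℕ).obj Y ⟶ killSeq K :=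
    { app := fun N => k ≫ kill K N
      naturality := by
        intro a b g
        have hab : a ≤ b := leOfHom g
        dsimp [killSeq]
        rw [Category.id_comp]
        by_cases h1 : a = b
        · subst h1; simp
        · rw [if_neg h1, Category.assoc, kill_comp_kill K hab] }
  let S : ShortComplex (ℕ ⥤ A) := ShortComplex.mk (kernel.ι φ) φ (kernel.condition φ)
  have hS : S.Exact := ShortComplex.exact_of_f_is_kernel _ (kernelIsKernel φ)
  have hy : ∀ N, (kernel.ι φ).app N ≫ k = 0 := by
    intro N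
    apply eq_zero_of_comp_kill_eq_zero K _ _ N
    · have := congr_app (kernel.condition φ) N
      rw [NatTrans.comp_app] at this
      rw [Category.assoc]
      exact this
    · intro n
      apply comp_π_eq_zero_of_comp_one_sub_shiftMap K f
      rw [Category.assoc, hk, comp_zero]
  let c₁ := colimit.cocone (kernel φ)
  let p : c₁.pt ⟶ Y := colimit.desc (kernel φ) (Cocone.mk Y (kernel.ι φ))
  have hex := colim.exact_mapShortComplex (S := S) hS (colimit.isColimit (kernel φ))
    (isColimitConstCocone ℕ Y) (colimit.isColimit (killSeq K)) p 0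
    (fun j => (colimit.ι_desc (Cocone.mk Y (kernel.ι φ)) j).trans
      (Category.comp_id ((kernel.ι φ).app j)).symm)
    (fun j => by
      have h0 : colimit.ι (killSeq K) j = 0 :=
        killSeq_cocone_ι_eq_zero K (colimit.cocone (killSeq K)) j
      dsimp
      rw [h0, comp_zero, comp_zero])
  have hepi : Epi p := hex.epi_f rfl
  rw [← cancel_epi p, comp_zero]
  apply colimit.hom_ext
  intro N
  dsimp [p]
  rw [colimit.ι_desc_assoc, comp_zero]
  exact hy N

end Mono

section Functor

variable {A : Type u} [Category.{v} A] [Preadditive A] [HasColimitsOfShape ℕ A]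
  (F : ℕ ⥤ A) [HasCoproduct F.obj]

lemma one_sub_shiftMap_comp_desc :
    (𝟙 (∐ F.obj) - DerLim.shiftMap F.obj (fun n => F.map (homOfLE (Nat.le_succ n)))) ≫
      Sigma.desc (fun n => colimit.ι F n) = 0 := by
  refine Sigma.hom_ext _ _ (fun n => ?_)
  rw [Preadditive.sub_comp, Category.id_comp, Preadditive.comp_sub, ι_shiftMap_assoc,
    Sigma.ι_desc, Sigma.ι_desc, colimit.w, sub_self, comp_zero]

instance epi_desc_colimit_ι : Epi (Sigma.desc (fun n => colimit.ι F n)) where
  left_cancellation g h e := by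
    apply colimit.hom_ext
    intro n
    have := congrArg (fun t => Sigma.ι F.obj n ≫ t) e
    simpa using this

/-- `colimit F` is the cokernel of `1 - shift`. -/
noncomputable def isColimitCokernelCofork :
    IsColimit (CokernelCofork.ofπ (Sigma.desc (fun n => colimit.ι F n))
      (one_sub_shiftMap_comp_desc F)) :=
  CokernelCofork.IsColimit.ofπ _ _
    (fun {Z} t ht => colimit.desc F (Cocone.mk Z (NatTrans.ofSequence (F := F) (G := (Functor.const ℕ).obj Z)
      (fun n => Sigma.ι F.obj n ≫ t) (fun n => by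
        dsimp
        rw [Category.comp_id]
        rw [Preadditive.sub_comp, Category.id_comp, sub_eq_zero] at ht
        conv_rhs => rw [ht]
        rw [ι_shiftMap_assoc]))))
    (fun {Z} t ht => by
      refine Sigma.hom_ext _ _ (fun n => ?_)
      rw [Sigma.ι_desc_assoc, colimit.ι_desc]
      rfl)
    (fun {Z} t ht m hm => by
      subst hm
      apply colimit.hom_ext
      intro n
      rw [colimit.ι_desc]
      dsimp
      rw [NatTrans.ofSequence_app, Sigma.ι_desc_assoc])

end Functor

/-- The telescope short exact sequence. -/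
theorem telescope_shortExact {A : Type u} [Category.{v} A] [Abelian A]
    [HasColimitsOfShape ℕ A] [HasExactColimitsOfShape ℕ A] (F : ℕ ⥤ A) [HasCoproduct F.obj] :
    (ShortComplex.mk _ _ (one_sub_shiftMap_comp_desc F)).ShortExact :=
  { exact := ShortComplex.exact_of_g_is_cokernel _ (isColimitCokernelCofork F)
    mono_f := mono_one_sub_shiftMap F.obj _
    epi_g := epi_desc_colimit_ι F }

end Groth.Agent.Lib.Helper1
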