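import Groth.Agent.Lib.Helper1Compact
import Groth.Agent.Lib.Helper1Telescope
import Groth.Prelude.Def_DerLim

/-!
# Compact objects and homotopy colimits

* `eq_zero_of_comp_one_sub_shiftMap`: `1 - shift` is injective on maps from a compact object.
* `exists_lift_of_isCompactObject`: a map from a compact object to a homotopy colimit factors
  through a finite stage.
* `isIso_of_bijective_on`: a morphism inducing bijections on `Hom(T, -)` for `T` in a generating
  shift-stable class is an isomorphism.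
-/

set_option autoImplicit false
universe v u
open CategoryTheory CategoryTheory.Limits CategoryTheory.Pretriangulated

namespace Groth.Agent.Lib.Helper1.Compact

set_option linter.unusedSectionVars false

variable {D : Type u} [Category.{v} D] [Preadditive D] [HasZeroObject D] [HasShift D ℤ]
  [∀ n : ℤ, (shiftFunctor D n).Additive] [Pretriangulated D] [HasCoproducts.{v} D]

section Hocolim

variable (K : ℕ → D) (f : ∀ n, K n ⟶ K (n + 1)) [HasCoproduct K]

lemma eq_zero_of_comp_one_sub_shiftMap {T : D} (hT : CohDer.IsCompactObject T) (u : T ⟶ ∐ K)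
    (hu : u ≫ (𝟙 _ - DerLim.shiftMap K f) = 0) : u = 0 := by
  classical
  obtain ⟨s, hs⟩ := IsCompactObject.exists_kill_nat hT K u
  rw [eq_sum_of_comp_kill_eq_zero K u s hs]
  refine Finset.sum_eq_zero (fun k _ => ?_)
  rw [Groth.Agent.Lib.Helper1.comp_π_eq_zero_of_comp_one_sub_shiftMap K f u hu k, zero_comp]

variable {K f} {L : D} {p : ∐ K ⟶ L} {c : L ⟶ (shiftFunctor D (1 : ℤ)).obj (∐ K)}
  (hT : Triangle.mk (𝟙 _ - DerLim.shiftMap K f) p c ∈ distTriang D)

include hT

lemma ι_comp_p (n : ℕ) : Sigma.ι K n ≫ p = f n ≫ Sigma.ι K (n + 1) ≫ p := by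
  have h0 : (𝟙 _ - DerLim.shiftMap K f) ≫ p = 0 := comp_distTriang_mor_zero₁₂ _ hT
  have := congrArg (fun e => Sigma.ι K n ≫ e) h0
  simp only [Preadditive.sub_comp, Preadditive.comp_sub, Category.id_comp, comp_zero,
    Groth.Agent.Lib.Helper1.ι_shiftMap_assoc] at this
  exact sub_eq_zero.mp this

lemma exists_raise (n d : ℕ) :
    ∃ g : K n ⟶ K (n + d), Sigma.ι K n ≫ p = g ≫ Sigma.ι K (n + d) ≫ p := by
  induction d with
  | zero => exact ⟨𝟙 _, by simp⟩
  | succ d ih =>
    obtain ⟨g, hg⟩ := ih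
    refine ⟨g ≫ f (n + d), ?_⟩
    rw [hg, ι_comp_p hT (n + d), Category.assoc]
    rfl

lemma exists_raise_le {n N : ℕ} (h : n ≤ N) :
    ∃ g : K n ⟶ K N, Sigma.ι K n ≫ p = g ≫ Sigma.ι K N ≫ p := by
  obtain ⟨d, rfl⟩ := Nat.exists_eq_add_of_le h
  exact exists_raise hT n d

lemma exists_lift_of_sum {T : D} (s : Finset ℕ) (u : ∀ k, T ⟶ K k) :
    ∃ (N : ℕ) (tN : T ⟶ K N), (∑ k ∈ s, u k ≫ Sigma.ι K k) ≫ p = tN ≫ Sigma.ι K N ≫ p := by
  classical
  induction s using Finset.induction_on with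
  | empty => exact ⟨0, 0, by simp⟩
  | insert k₀ s hk₀ ih =>
    obtain ⟨N, tN, htN⟩ := ih
    obtain ⟨g₁, hg₁⟩ := exists_raise_le hT (le_max_left N k₀)
    obtain ⟨g₂, hg₂⟩ := exists_raise_le hT (le_max_right N k₀)
    refine ⟨max N k₀, tN ≫ g₁ + u k₀ ≫ g₂, ?_⟩
    rw [Finset.sum_insert hk₀, Preadditive.add_comp, htN, hg₁, Category.assoc, hg₂,
      Preadditive.add_comp, add_comm]
    simp only [Category.assoc]

/-- A map from a compact object to a homotopy colimit factors through a finite stage. -/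
theorem exists_lift_of_isCompactObject {T : D} (hTc : CohDer.IsCompactObject T) (t : T ⟶ L) :
    ∃ (n : ℕ) (tn : T ⟶ K n), t = tn ≫ Sigma.ι K n ≫ p := by
  classical
  have adj : shiftFunctor D (-1 : ℤ) ⊣ shiftFunctor D (1 : ℤ) :=
    (shiftEquiv' D (-1 : ℤ) 1 (by norm_num)).toAdjunction
  have h0adj : ∀ (A B : D), adj.homEquiv A B 0 = 0 := by
    intro A B
    rw [Adjunction.homEquiv_unit, Functor.map_zero, comp_zero]
  -- `t ≫ c = 0`
  have htc : t ≫ c = 0 := by
    have hv : (adj.homEquiv T _).symm (t ≫ c) = 0 := by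
      apply eq_zero_of_comp_one_sub_shiftMap K f (isCompactObject_shift hTc (-1))
      apply (adj.homEquiv _ _).injective
      rw [Adjunction.homEquiv_naturality_right, Equiv.apply_symm_apply, h0adj, Category.assoc]
      have : c ≫ (shiftFunctor D (1 : ℤ)).map (𝟙 _ - DerLim.shiftMap K f) = 0 :=
        comp_distTriang_mor_zero₃₁ _ hT
      rw [this, comp_zero]
    have := congrArg (adj.homEquiv T _) hv
    rwa [Equiv.apply_symm_apply, h0adj] at this
  obtain ⟨u, hu⟩ : ∃ u : T ⟶ ∐ K, t = u ≫ p := Triangle.coyoneda_exact₃ _ hT t htc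
  obtain ⟨s, hs⟩ := IsCompactObject.exists_kill_nat hTc K u
  obtain ⟨N, tN, htN⟩ := exists_lift_of_sum hT s (fun k => u ≫ Sigma.π K k)
  refine ⟨N, tN, ?_⟩
  rw [hu, ← htN, ← eq_sum_of_comp_kill_eq_zero K u s hs]

end Hocolim

/-- A map from a compact object to a homotopy colimit (in the sense of `DerLim.IsHocolim`)
factors through a finite stage. -/
theorem IsHocolim.exists_lift {K : ℕ → D} {f : ∀ n, K n ⟶ K (n + 1)} [HasCoproduct K] {L : D}
    {i : ∀ n, K n ⟶ L} (h : DerLim.IsHocolim K f L i) {T : D} (hTc : CohDer.IsCompactObject T)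
    (t : T ⟶ L) : ∃ (n : ℕ) (tn : T ⟶ K n), t = tn ≫ i n := by
  obtain ⟨c, hT⟩ := h
  obtain ⟨n, tn, htn⟩ := exists_lift_of_isCompactObject hT hTc t
  exact ⟨n, tn, by rw [htn, Sigma.ι_desc]⟩

section Generators

/-- A morphism inducing bijections on `Hom(T, -)` for all `T` in a shift-stable class detecting
zero objects is an isomorphism. -/
theorem isIso_of_bijective_on (𝒯 : ObjectProperty D) [𝒯.IsStableUnderShift ℤ]
    (hgen : ∀ K : D, (∀ T, 𝒯 T → ∀ g : T ⟶ K, g = 0) → IsZero K) {L X : D} (lam : L ⟶ X)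
    (hinj : ∀ T, 𝒯 T → ∀ a : T ⟶ L, a ≫ lam = 0 → a = 0)
    (hsurj : ∀ T, 𝒯 T → ∀ b : T ⟶ X, ∃ a : T ⟶ L, a ≫ lam = b) : IsIso lam := by
  obtain ⟨Z, g, h, hT⟩ := distinguished_cocone_triangle lam
  have adj : shiftFunctor D (-1 : ℤ) ⊣ shiftFunctor D (1 : ℤ) :=
    (shiftEquiv' D (-1 : ℤ) 1 (by norm_num)).toAdjunction
  have h0adj : ∀ (A B : D), adj.homEquiv A B 0 = 0 := by
    intro A B
    rw [Adjunction.homEquiv_unit, Functor.map_zero, comp_zero]
  have hZ : IsZero Z := by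
    apply hgen
    intro T hT𝒯 g'
    have hw : (adj.homEquiv T L).symm (g' ≫ h) = 0 := by
      apply hinj _ (𝒯.le_shift (-1 : ℤ) _ hT𝒯)
      apply (adj.homEquiv _ _).injective
      rw [Adjunction.homEquiv_naturality_right, Equiv.apply_symm_apply, h0adj, Category.assoc]
      have : h ≫ (shiftFunctor D (1 : ℤ)).map lam = 0 := comp_distTriang_mor_zero₃₁ _ hT
      rw [this, comp_zero]
    have hg'h : g' ≫ h = 0 := by
      have := congrArg (adj.homEquiv T L) hw
      rwa [Equiv.apply_symm_apply, h0adj] at this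
    obtain ⟨b, hb⟩ : ∃ b : T ⟶ X, g' = b ≫ g := Triangle.coyoneda_exact₃ _ hT g' hg'h
    obtain ⟨a, ha⟩ := hsurj T hT𝒯 b
    have : lam ≫ g = 0 := comp_distTriang_mor_zero₁₂ _ hT
    rw [hb, ← ha, Category.assoc, this, comp_zero]
  exact (Triangle.isZero₃_iff_isIso₁ _ hT).mp hZ

variable {ι : Type*} (E : ι → D)

/-- the class of objects isomorphic to a shift of a member of the family -/
def shiftsOf : ObjectProperty D := fun T => ∃ (i : ι) (m : ℤ), Nonempty (T ≅ (shiftFunctor D m).obj (E i))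

lemma shiftsOf_shift (i : ι) (m : ℤ) : shiftsOf E ((shiftFunctor D m).obj (E i)) :=
  ⟨i, m, ⟨Iso.refl _⟩⟩

instance : (shiftsOf E).IsStableUnderShift ℤ where
  isStableUnderShiftBy a := ⟨by
    rintro T ⟨i, m, ⟨e⟩⟩
    exact ⟨i, m + a, ⟨(shiftFunctor D a).mapIso e ≪≫ ((shiftFunctorAdd D m a).app (E i)).symm⟩⟩⟩

instance : (shiftsOf E).IsClosedUnderIsomorphisms where
  of_iso := by
    rintro T T' e ⟨i, m, ⟨e'⟩⟩
    exact ⟨i, m, ⟨e.symm ≪≫ e'⟩⟩

lemma isZero_of_generates (hg : CohDer.Generates E) (K : D)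
    (h : ∀ T, shiftsOf E T → ∀ g : T ⟶ K, g = 0) : IsZero K := by
  apply hg
  intro i n g
  have adj : shiftFunctor D (-n) ⊣ shiftFunctor D n :=
    (shiftEquiv' D (-n) n (by simp)).toAdjunction
  have h1 := h _ (shiftsOf_shift E i (-n)) ((adj.homEquiv _ _).symm g)
  have := congrArg (adj.homEquiv _ _) h1
  rw [Equiv.apply_symm_apply] at this
  rw [this, Adjunction.homEquiv_unit, Functor.map_zero, comp_zero]

lemma isCompactObject_of_shiftsOf (hc : ∀ i, CohDer.IsCompactObject (E i)) {T : D}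
    (hT : shiftsOf E T) : CohDer.IsCompactObject T := by
  obtain ⟨i, m, ⟨e⟩⟩ := hT
  exact isCompactObject_of_iso e.symm (isCompactObject_shift (hc i) m)

end Generators

end Groth.Agent.Lib.Helper1.Compact
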