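import Groth.Agent.Lib.Helper1Telescope
import Mathlib.CategoryTheory.Limits.Preserves.Shapes.Products
import Mathlib.CategoryTheory.Preadditive.AdditiveFunctor

/-!
# Additive functors and the map `1 - shift` on a countable coproduct
-/

set_option autoImplicit false
universe v v' u u'
open CategoryTheory CategoryTheory.Limits

namespace Groth.Agent.Lib.Helper1

section

variable {C : Type u} [Category.{v} C] {D : Type u'} [Category.{v'} D]
  (G : C ⥤ D) (K : ℕ → C) [HasCoproduct K]

lemma hasCoproduct_of_preserves [PreservesColimit (Discrete.functor K) G] :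
    HasCoproduct (fun n => G.obj (K n)) :=
  ⟨⟨⟨_, isColimitCofanMkObjOfIsColimit G K _ (coproductIsCoproduct K)⟩⟩⟩

variable [Preadditive C] [Preadditive D] [G.Additive] (f : ∀ n, K n ⟶ K (n + 1))
  [HasCoproduct (fun n => G.obj (K n))]

lemma sigmaComparison_map_one_sub_shiftMap :
    sigmaComparison G K ≫ G.map (𝟙 _ - DerLim.shiftMap K f) =
      (𝟙 _ - DerLim.shiftMap (fun n => G.obj (K n)) (fun n => G.map (f n))) ≫
        sigmaComparison G K := by
  refine Sigma.hom_ext _ _ (fun n => ?_)
  rw [ι_comp_sigmaComparison_assoc, ← G.map_comp, Preadditive.comp_sub, Category.comp_id,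
    ι_shiftMap, G.map_sub, G.map_comp, Preadditive.sub_comp, Category.id_comp,
    Preadditive.comp_sub, ι_shiftMap_assoc, ι_comp_sigmaComparison, ι_comp_sigmaComparison]

end

/-- An additive functor to an abelian category with exact colimits of shape `ℕ`, which preserves
the coproduct of `K`, sends `1 - shift` to a monomorphism. -/
theorem mono_map_one_sub_shiftMap {C : Type u} [Category.{v} C] [Preadditive C]
    {A : Type u'} [Category.{v'} A] [Abelian A] [HasColimitsOfShape ℕ A]
    [HasExactColimitsOfShape ℕ A] (G : C ⥤ A) [G.Additive] (K : ℕ → C) [HasCoproduct K]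
    [PreservesColimit (Discrete.functor K) G] (f : ∀ n, K n ⟶ K (n + 1)) :
    Mono (G.map (𝟙 _ - DerLim.shiftMap K f)) := by
  have := hasCoproduct_of_preserves G K
  have h := sigmaComparison_map_one_sub_shiftMap G K f
  have hm : Mono (𝟙 _ - DerLim.shiftMap (fun n => G.obj (K n)) (fun n => G.map (f n))) :=
    mono_one_sub_shiftMap _ _
  have : G.map (𝟙 _ - DerLim.shiftMap K f) =
      inv (sigmaComparison G K) ≫
        (𝟙 _ - DerLim.shiftMap (fun n => G.obj (K n)) (fun n => G.map (f n))) ≫
          sigmaComparison G K := by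
    rw [← h, IsIso.inv_hom_id_assoc]
  rw [this]
  infer_instance

section Sequence

variable {A : Type u} [Category.{v} A] [Preadditive A] [HasColimitsOfShape ℕ A]
  (K : ℕ → A) (f : ∀ n, K n ⟶ K (n + 1)) [HasCoproduct K]

lemma one_sub_shiftMap_comp_desc' :
    (𝟙 (∐ K) - DerLim.shiftMap K f) ≫
      Sigma.desc (f := K) (fun n => colimit.ι (Functor.ofSequence f) n) = 0 := by
  refine Sigma.hom_ext _ _ (fun n => ?_)
  rw [Preadditive.sub_comp, Category.id_comp, Preadditive.comp_sub, ι_shiftMap_assoc,
    Sigma.ι_desc, Sigma.ι_desc, comp_zero, sub_eq_zero]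
  have := colimit.w (Functor.ofSequence f) (homOfLE (Nat.le_add_right n 1))
  rw [Functor.ofSequence_map_homOfLE_succ] at this
  exact this.symm

/-- `colimit (Functor.ofSequence f)` is the cokernel of `1 - shift`. -/
noncomputable def isColimitCokernelCofork' :
    IsColimit (CokernelCofork.ofπ
      (Sigma.desc (f := K) (fun n => colimit.ι (Functor.ofSequence f) n))
      (one_sub_shiftMap_comp_desc' K f)) :=
  CokernelCofork.IsColimit.ofπ _ _
    (fun {Z} t ht => colimit.desc (Functor.ofSequence f)
      (Cocone.mk Z (NatTrans.ofSequence (F := Functor.ofSequence f) (G := (Functor.const ℕ).obj Z)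
      (fun n => Sigma.ι K n ≫ t) (fun n => by
        dsimp
        rw [Category.comp_id, Functor.ofSequence_map_homOfLE_succ]
        rw [Preadditive.sub_comp, Category.id_comp, sub_eq_zero] at ht
        change (f n ≫ Sigma.ι K (n + 1) ≫ t : K n ⟶ Z) = Sigma.ι K n ≫ t
        conv_rhs => rw [ht]
        rw [ι_shiftMap_assoc]))))
    (fun {Z} t ht => by
      refine Sigma.hom_ext _ _ (fun n => ?_)
      rw [Sigma.ι_desc_assoc]
      erw [colimit.ι_desc]
      rfl)
    (fun {Z} t ht m hm => by
      subst hm
      apply colimit.hom_ext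
      intro n
      rw [colimit.ι_desc]
      dsimp
      rw [NatTrans.ofSequence_app]
      change _ = (Sigma.ι K n ≫ Sigma.desc (f := K) (fun n => colimit.ι (Functor.ofSequence f) n) ≫ m :
        K n ⟶ Z)
      rw [Sigma.ι_desc_assoc]
      rfl)

end Sequence

/-- If an additive functor `G` preserves the coproduct of `K`, and `π` is a cokernel of
`G.map (1 - shift)`, then the target of `π` is the colimit of the sequence `G.map (f n)`. -/
theorem exists_iso_colimit_of_isColimit_cokernelCofork
    {C : Type u} [Category.{v} C] [Preadditive C]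
    {A : Type u'} [Category.{v'} A] [Preadditive A] [HasColimitsOfShape ℕ A]
    (G : C ⥤ A) [G.Additive] (K : ℕ → C) [HasCoproduct K]
    [PreservesColimit (Discrete.functor K) G] (f : ∀ n, K n ⟶ K (n + 1))
    {Z : A} (π : G.obj (∐ K) ⟶ Z) (w : G.map (𝟙 _ - DerLim.shiftMap K f) ≫ π = 0)
    (hπ : IsColimit (CokernelCofork.ofπ π w)) :
    ∃ e : colimit (Functor.ofSequence (fun n => G.map (f n))) ≅ Z,
      ∀ n : ℕ, colimit.ι (Functor.ofSequence (fun n => G.map (f n))) n ≫ e.hom =
        G.map (Sigma.ι K n) ≫ π := by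
  have := hasCoproduct_of_preserves G K
  let φ : Arrow.mk (𝟙 (∐ (fun n => G.obj (K n))) -
      DerLim.shiftMap (fun n => G.obj (K n)) (fun n => G.map (f n))) ≅
      Arrow.mk (G.map (𝟙 _ - DerLim.shiftMap K f)) :=
    Arrow.isoMk (asIso (sigmaComparison G K)) (asIso (sigmaComparison G K))
      (sigmaComparison_map_one_sub_shiftMap G K f)
  refine ⟨CokernelCofork.mapIsoOfIsColimit
    (isColimitCokernelCofork' (fun n => G.obj (K n)) (fun n => G.map (f n))) hπ φ, fun n => ?_⟩
  have h1 : colimit.ι (Functor.ofSequence (fun n => G.map (f n))) n =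
      Sigma.ι (fun n => G.obj (K n)) n ≫
        Sigma.desc (f := fun n => G.obj (K n))
          (fun n => colimit.ι (Functor.ofSequence (fun n => G.map (f n))) n) := by
    rw [Sigma.ι_desc]
  have h2 := CokernelCofork.π_mapOfIsColimit
    (isColimitCokernelCofork' (fun n => G.obj (K n)) (fun n => G.map (f n)))
    (CokernelCofork.ofπ π w) φ.hom
  rw [h1]
  erw [Category.assoc, h2]
  change (Sigma.ι (fun n => G.obj (K n)) n ≫ sigmaComparison G K ≫ π : G.obj (K n) ⟶ Z) = _
  rw [ι_comp_sigmaComparison_assoc]

end Groth.Agent.Lib.Helper1
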