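import Mathlib
import Groth.Agent.Lib.Helper1Compact
import Groth.Agent.Lib.Helper1CompactHocolim
import Groth.Agent.Lib.Helper1Telescope
import Groth.Agent.Lib.Helper1Hocolim
import Groth.Prelude.Def_DerLim

/-!
# Countably compact objects and homotopy colimits (helper1)

`NatCompact T`: every map from `T` to a countable coproduct `∐ X` (indexed by `ℕ`) is killed by
`kill X s` for some finite `s`.  Unlike `CohDer.IsCompactObject` this needs no `HasCoproducts`
hypothesis on the category.
-/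

set_option autoImplicit false
universe w v u u'
open CategoryTheory CategoryTheory.Limits

namespace Groth.Agent.Lib.Helper1.NatCompact

open Groth.Agent.Lib.Helper1.Compact

section Basic

variable {D : Type u} [Category.{v} D] [Preadditive D]

/-- countable compactness, in `kill` form -/
def IsNatCompact (T : D) : Prop :=
  ∀ (X : ℕ → D) [HasCoproduct X] (φ : T ⟶ ∐ X), ∃ s : Finset ℕ, φ ≫ Compact.kill X s = 0

open Classical in
lemma homSumToHomCoprod_of' (K : D) {ι : Type v} (X : ι → D) [HasCoproduct X] (i : ι)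
    (f : K ⟶ X i) :
    CohDer.homSumToHomCoprod K X (DirectSum.of (fun i => K ⟶ X i) i f) = f ≫ Sigma.ι X i := by
  unfold CohDer.homSumToHomCoprod
  rw [DirectSum.toAddMonoid_of]
  rfl

open Classical in
lemma exists_kill_homSumToHomCoprod' (K : D) {ι : Type v} (X : ι → D) [HasCoproduct X]
    (x : DirectSum ι (fun i => K ⟶ X i)) :
    ∃ s : Finset ι, CohDer.homSumToHomCoprod K X x ≫ Compact.kill X s = 0 := by
  induction x using DirectSum.induction_on with
  | zero => exact ⟨∅, by simp⟩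
  | of i f =>
    refine ⟨{i}, ?_⟩
    rw [homSumToHomCoprod_of', Category.assoc, ι_kill_of_mem X (Finset.mem_singleton_self i),
      comp_zero]
  | add x y hx hy =>
    obtain ⟨s, hs⟩ := hx
    obtain ⟨t, ht⟩ := hy
    refine ⟨s ∪ t, ?_⟩
    rw [map_add, Preadditive.add_comp,
      comp_kill_eq_zero_of_subset X _ Finset.subset_union_left hs,
      comp_kill_eq_zero_of_subset X _ Finset.subset_union_right ht, add_zero]

/-- countable compactness from surjectivity of the canonical map for `ULift ℕ`-indexed sums -/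
theorem natCompact_of_surjective (T : D)
    (h : ∀ (E : ℕ → D) [HasCoproduct fun i : ULift.{v} ℕ => E i.down],
      Function.Surjective (CohDer.homSumToHomCoprod T (fun i : ULift.{v} ℕ => E i.down))) :
    IsNatCompact T := by
  intro X _ φ
  let e : ULift.{v} ℕ ≃ ℕ := Equiv.ulift
  haveI : HasCoproduct (fun i : ULift.{v} ℕ => X i.down) :=
    hasCoproduct_of_equiv_of_iso X _ e (fun _ => Iso.refl _)
  haveI : HasCoproduct (X ∘ e) := this
  obtain ⟨x, hx⟩ := h X (φ ≫ (Sigma.reindex e X).inv)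
  obtain ⟨s', hs'⟩ := exists_kill_homSumToHomCoprod' T (fun i : ULift.{v} ℕ => X i.down) x
  rw [hx] at hs'
  refine ⟨s'.map e.toEmbedding, ?_⟩
  have : φ ≫ Compact.kill X (s'.map e.toEmbedding) =
      ((φ ≫ (Sigma.reindex e X).inv) ≫ Compact.kill (X ∘ e) s') ≫ (Sigma.reindex e X).hom := by
    rw [Category.assoc, kill_comp_reindex_hom, Category.assoc, Iso.inv_hom_id_assoc]
  rw [this]
  have hs'' : (φ ≫ (Sigma.reindex e X).inv) ≫ Compact.kill (X ∘ e) s' = 0 := hs'
  rw [hs'', zero_comp]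

/-- A left adjoint whose right adjoint preserves countable coproducts preserves countably compact
objects. -/
theorem isNatCompact_of_adjunction {E : Type u'} [Category.{v} E] [Preadditive E]
    {F : D ⥤ E} {G : E ⥤ D} (adj : F ⊣ G) [G.PreservesZeroMorphisms]
    [PreservesColimitsOfShape (Discrete ℕ) G] {K : D}
    (hK : IsNatCompact K) : IsNatCompact (F.obj K) := by
  classical
  intro X _ φ
  haveI : HasCoproduct (fun k => G.obj (X k)) := hasCoproduct_of_preserves G X
  obtain ⟨s, hs⟩ := hK (fun k => G.obj (X k))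
    (adj.homEquiv K _ φ ≫ inv (sigmaComparison G X))
  refine ⟨s, ?_⟩
  have hcomm : Compact.kill (fun k => G.obj (X k)) s ≫ sigmaComparison G X =
      sigmaComparison G X ≫ G.map (Compact.kill X s) := by
    refine Sigma.hom_ext _ _ (fun k => ?_)
    rw [ι_comp_sigmaComparison_assoc, ← G.map_comp]
    by_cases hk : k ∈ s
    · rw [ι_kill_of_mem_assoc _ hk, zero_comp, ι_kill_of_mem X hk, G.map_zero]
    · rw [ι_kill_of_notMem_assoc _ hk, ι_kill_of_notMem X hk, ι_comp_sigmaComparison]
  apply (adj.homEquiv K _).injective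
  rw [Adjunction.homEquiv_naturality_right]
  have h0 : adj.homEquiv K (∐ X) 0 = 0 := by
    rw [Adjunction.homEquiv_unit, G.map_zero, comp_zero]
  rw [h0]
  have : adj.homEquiv K _ φ ≫ G.map (Compact.kill X s) =
      ((adj.homEquiv K _ φ ≫ inv (sigmaComparison G X)) ≫
        Compact.kill (fun k => G.obj (X k)) s) ≫ sigmaComparison G X := by
    rw [Category.assoc, hcomm, Category.assoc, IsIso.inv_hom_id_assoc]
  rw [this, hs, zero_comp]

end Basic

section Triangulated

open Pretriangulated ZeroObject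

variable {D : Type u} [Category.{v} D] [Preadditive D] [HasZeroObject D] [HasShift D ℤ]
  [∀ n : ℤ, (shiftFunctor D n).Additive] [Pretriangulated D]

lemma isNatCompact_shift {K : D} (hK : IsNatCompact K) (a : ℤ) :
    IsNatCompact ((shiftFunctor D a).obj K) :=
  isNatCompact_of_adjunction (shiftEquiv D a).toAdjunction hK

variable (K : ℕ → D) (f : ∀ n, K n ⟶ K (n + 1)) [HasCoproduct K]

lemma eq_zero_of_comp_one_sub_shiftMap {T : D} (hT : IsNatCompact T) (u : T ⟶ ∐ K)
    (hu : u ≫ (𝟙 _ - DerLim.shiftMap K f) = 0) : u = 0 := by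
  classical
  obtain ⟨s, hs⟩ := hT K u
  rw [eq_sum_of_comp_kill_eq_zero K u s hs]
  refine Finset.sum_eq_zero (fun k _ => ?_)
  rw [Groth.Agent.Lib.Helper1.comp_π_eq_zero_of_comp_one_sub_shiftMap K f u hu k, zero_comp]

variable {K f} {L : D} {p : ∐ K ⟶ L} {c : L ⟶ (shiftFunctor D (1 : ℤ)).obj (∐ K)}
  (hT : Triangle.mk (𝟙 _ - DerLim.shiftMap K f) p c ∈ distTriang D)

include hT

lemma ι_comp_p (n : ℕ) : Sigma.ι K n ≫ p = f n ≫ Sigma.ι K (n + 1) ≫ p := by
  have h0 : (𝟙 _ - DerLim.shiftMap K f) ≫ p = 0 := comp_distTriang_mor_zero₁₂ _ hT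
  have := congrArg (fun e => Sigma.ι K n ≫ e) h0
  simp only [Preadditive.sub_comp, Preadditive.comp_sub, Category.id_comp, comp_zero,
    Groth.Agent.Lib.Helper1.ι_shiftMap_assoc] at this
  exact sub_eq_zero.mp this

lemma exists_raise (n d : ℕ) :
    ∃ g : K n ⟶ K (n + d), Sigma.ι K n ≫ p = g ≫ Sigma.ι K (n + d) ≫ p := by
  induction d with
  | zero => exact ⟨𝟙 _, by simp⟩
  | succ d ih =>
    obtain ⟨g, hg⟩ := ih
    refine ⟨g ≫ f (n + d), ?_⟩
    rw [hg, ι_comp_p hT (n + d), Category.assoc]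
    rfl

lemma exists_raise_le {n N : ℕ} (h : n ≤ N) :
    ∃ g : K n ⟶ K N, Sigma.ι K n ≫ p = g ≫ Sigma.ι K N ≫ p := by
  obtain ⟨d, rfl⟩ := Nat.exists_eq_add_of_le h
  exact exists_raise hT n d

lemma exists_lift_of_sum {T : D} (s : Finset ℕ) (u : ∀ k, T ⟶ K k) :
    ∃ (N : ℕ) (tN : T ⟶ K N), (∑ k ∈ s, u k ≫ Sigma.ι K k) ≫ p = tN ≫ Sigma.ι K N ≫ p := by
  classical
  induction s using Finset.induction_on with
  | empty => exact ⟨0, 0, by simp⟩
  | insert k₀ s hk₀ ih =>
    obtain ⟨N, tN, htN⟩ := ih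
    obtain ⟨g₁, hg₁⟩ := exists_raise_le hT (le_max_left N k₀)
    obtain ⟨g₂, hg₂⟩ := exists_raise_le hT (le_max_right N k₀)
    refine ⟨max N k₀, tN ≫ g₁ + u k₀ ≫ g₂, ?_⟩
    rw [Finset.sum_insert hk₀, Preadditive.add_comp, htN, hg₁, Category.assoc, hg₂,
      Preadditive.add_comp, add_comm]
    simp only [Category.assoc]

/-- A map from a countably compact object to a homotopy colimit factors through a finite stage. -/
theorem exists_lift_of_isNatCompact {T : D} (hTc : IsNatCompact T) (t : T ⟶ L) :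
    ∃ (n : ℕ) (tn : T ⟶ K n), t = tn ≫ Sigma.ι K n ≫ p := by
  classical
  have adj : shiftFunctor D (-1 : ℤ) ⊣ shiftFunctor D (1 : ℤ) :=
    (shiftEquiv' D (-1 : ℤ) 1 (by norm_num)).toAdjunction
  have h0adj : ∀ (A B : D), adj.homEquiv A B 0 = 0 := by
    intro A B
    rw [Adjunction.homEquiv_unit, Functor.map_zero, comp_zero]
  have htc : t ≫ c = 0 := by
    have hv : (adj.homEquiv T _).symm (t ≫ c) = 0 := by
      apply eq_zero_of_comp_one_sub_shiftMap K f (isNatCompact_shift hTc (-1))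
      apply (adj.homEquiv _ _).injective
      rw [Adjunction.homEquiv_naturality_right, Equiv.apply_symm_apply, h0adj, Category.assoc]
      have : c ≫ (shiftFunctor D (1 : ℤ)).map (𝟙 _ - DerLim.shiftMap K f) = 0 :=
        comp_distTriang_mor_zero₃₁ _ hT
      rw [this, comp_zero]
    have := congrArg (adj.homEquiv T _) hv
    rwa [Equiv.apply_symm_apply, h0adj] at this
  obtain ⟨u, hu⟩ : ∃ u : T ⟶ ∐ K, t = u ≫ p := Triangle.coyoneda_exact₃ _ hT t htc
  obtain ⟨s, hs⟩ := hTc K u
  obtain ⟨N, tN, htN⟩ := exists_lift_of_sum hT s (fun k => u ≫ Sigma.π K k)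
  refine ⟨N, tN, ?_⟩
  rw [hu, ← htN, ← eq_sum_of_comp_kill_eq_zero K u s hs]

omit hT in
/-- iterated transition maps -/
noncomputable def transIter (f : ∀ n, K n ⟶ K (n + 1)) (n : ℕ) : ∀ d : ℕ, K n ⟶ K (n + d)
  | 0 => 𝟙 _
  | d + 1 => transIter f n d ≫ f (n + d)

/-- A map from a countably compact object to a stage of a homotopy colimit which vanishes in the
homotopy colimit vanishes at a later stage. -/
theorem exists_vanish_of_isNatCompact {T : D} (hTc : IsNatCompact T) (n : ℕ) (y : T ⟶ K n)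
    (hy : y ≫ Sigma.ι K n ≫ p = 0) : ∃ d : ℕ, y ≫ transIter f n d = 0 := by
  classical
  obtain ⟨u, hu⟩ : ∃ u : T ⟶ ∐ K, y ≫ Sigma.ι K n = u ≫ (𝟙 _ - DerLim.shiftMap K f) :=
    Triangle.coyoneda_exact₂ _ hT (y ≫ Sigma.ι K n) ((Category.assoc _ _ _).trans hy)
  obtain ⟨s, hs⟩ := hTc K u
  have hA : ∀ j, j ∉ s → u ≫ Sigma.π K j = 0 := by
    intro j hj
    rw [eq_sum_of_comp_kill_eq_zero K u s hs, Preadditive.sum_comp]
    refine Finset.sum_eq_zero (fun k hk => ?_)
    have hkj : k ≠ j := fun h => hj (h ▸ hk)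
    rw [Category.assoc, Sigma.ι_π_of_ne K hkj, comp_zero]
  have hB0 : u ≫ Sigma.π K 0 = y ≫ Sigma.ι K n ≫ Sigma.π K 0 := by
    have := congrArg (fun e => e ≫ Sigma.π K 0) hu
    simp only [Category.assoc, Preadditive.sub_comp, Preadditive.comp_sub, Category.id_comp,
      Groth.Agent.Lib.Helper1.shiftMap_π_zero, comp_zero, sub_zero] at this
    exact this.symm
  have hBs : ∀ j, u ≫ Sigma.π K (j + 1) =
      y ≫ Sigma.ι K n ≫ Sigma.π K (j + 1) + (u ≫ Sigma.π K j) ≫ f j := by
    intro j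
    have := congrArg (fun e => e ≫ Sigma.π K (j + 1)) hu
    simp only [Category.assoc, Preadditive.sub_comp, Preadditive.comp_sub, Category.id_comp,
      Groth.Agent.Lib.Helper1.shiftMap_π_succ] at this
    rw [this]
    simp
  have hC0 : ∀ j, j < n → u ≫ Sigma.π K j = 0 := by
    intro j
    induction j with
    | zero =>
      intro h0
      rw [hB0, Sigma.ι_π_of_ne K (by omega), comp_zero]
    | succ j ih =>
      intro hj
      rw [hBs, ih (by omega), zero_comp, add_zero, Sigma.ι_π_of_ne K (by omega), comp_zero]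
  have hCn : u ≫ Sigma.π K n = y := by
    rcases n with _ | m
    · rw [hB0, Sigma.ι_π_eq_id, Category.comp_id]
    · rw [hBs, hC0 m (by omega), zero_comp, add_zero, Sigma.ι_π_eq_id, Category.comp_id]
  have hC : ∀ d, u ≫ Sigma.π K (n + d) = y ≫ transIter f n d := by
    intro d
    induction d with
    | zero => rw [transIter, Category.comp_id]; exact hCn
    | succ d ih =>
      have e : u ≫ Sigma.π K (n + (d + 1)) = u ≫ Sigma.π K (n + d + 1) := rfl
      rw [e, hBs, ih, Sigma.ι_π_of_ne K (by omega), comp_zero, zero_add, transIter, Category.assoc]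
  refine ⟨s.sup id + 1, ?_⟩
  rw [← hC]
  apply hA
  intro hmem
  have : n + (s.sup id + 1) ≤ s.sup id := Finset.le_sup (f := id) hmem
  omega

end Triangulated

end Groth.Agent.Lib.Helper1.NatCompact
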