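import Groth.Agent.Lib.Helper17DBrown3
import Groth.Agent.Lib.Helper1NatCompact

/-!
# Transporting compactness along an equivalence between categories with different universes
of morphisms (helper17)
-/

set_option autoImplicit false

universe w v u₁ u₂

open CategoryTheory CategoryTheory.Limits

namespace Groth.Agent.Lib.Helper17.DCompare

open Groth.Agent.Lib.Helper1.Compact Groth.Agent.Lib.Helper1.NatCompact
  Groth.Agent.Lib.Helper17.DBrown

section Generic

variable {D : Type u₁} [Category.{v} D] [Preadditive D]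

open Classical in
lemma homSumToHomCoprod_comp_π' (K : D) {ι : Type v} (X : ι → D) [HasCoproduct X]
    (x : DirectSum ι (fun i => K ⟶ X i)) (j : ι) :
    CohDer.homSumToHomCoprod K X x ≫ Sigma.π X j = x j := by
  induction x using DirectSum.induction_on with
  | zero => simp
  | of i f =>
    rw [homSumToHomCoprod_of', Category.assoc]
    by_cases h : i = j
    · subst h
      rw [Sigma.ι_π_eq_id, Category.comp_id, DirectSum.of_eq_same]
    · rw [Sigma.ι_π_of_ne X h, comp_zero, DirectSum.of_eq_of_ne _ _ _ (Ne.symm h)]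
  | add x y hx hy =>
    rw [map_add, Preadditive.add_comp, hx, hy]
    rfl

open Classical in
/-- per-family characterisation of the bijectivity of `homSumToHomCoprod`. -/
theorem bijective_homSumToHomCoprod_iff (K : D) {ι : Type v} (X : ι → D) [HasCoproduct X] :
    Function.Bijective (CohDer.homSumToHomCoprod K X) ↔
      ∀ (φ : K ⟶ ∐ X), ∃ s : Finset ι, φ ≫ kill X s = 0 := by
  constructor
  · intro hK φ
    obtain ⟨x, rfl⟩ := hK.2 φ
    exact exists_kill_homSumToHomCoprod' K X x
  · intro h
    constructor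
    · rw [injective_iff_map_eq_zero]
      intro x hx
      refine DFinsupp.ext (fun j => ?_)
      rw [← homSumToHomCoprod_comp_π' K X x j, hx, zero_comp]
      rfl
    · intro φ
      obtain ⟨s, hs⟩ := h φ
      refine ⟨∑ k ∈ s, DirectSum.of (fun i => K ⟶ X i) k (φ ≫ Sigma.π X k), ?_⟩
      rw [map_sum]
      simp_rw [homSumToHomCoprod_of']
      have := congrArg (fun e => φ ≫ e) (kill_add_sum X s)
      simp only [Preadditive.comp_add, Preadditive.comp_sum, hs, zero_add, Category.comp_id,
        ← Category.assoc] at this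
      simpa only [Category.assoc] using this

end Generic

section Transport

variable {D₁ : Type u₁} [Category.{v + 1} D₁] [Preadditive D₁]
  {D₂ : Type u₂} [Category.{v} D₂] [Preadditive D₂] [HasCoproducts.{v} D₂]
  (F : D₁ ⥤ D₂) [F.IsEquivalence] [F.Additive]

/-- if `F.obj K` is compact, then `K` is compact with respect to small families. -/
theorem bijective_of_isCompactObject (K : D₁) (hK : CohDer.IsCompactObject (F.obj K))
    (I : Type v) (E : I → D₁) [HasCoproduct fun i : ULift.{v + 1} I => E i.down] :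
    Function.Bijective (CohDer.homSumToHomCoprod K (fun i : ULift.{v + 1} I => E i.down)) := by
  rw [bijective_homSumToHomCoprod_iff]
  intro φ
  obtain ⟨X, hX⟩ : ∃ X : ULift.{v + 1} I → D₁, X = fun i => E i.down := ⟨_, rfl⟩
  subst hX
  haveI : HasCoproduct (fun j : ULift.{v + 1} I => F.obj (E j.down)) :=
    ⟨⟨⟨_, isColimitCofanMkObjOfIsColimit F _ _
      (coproductIsCoproduct (fun i : ULift.{v + 1} I => E i.down))⟩⟩⟩
  haveI : IsIso (sigmaComparison F (fun i : ULift.{v + 1} I => E i.down)) := inferInstance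
  obtain ⟨s, hs⟩ := IsCompactObject.exists_kill_of_equiv hK (Equiv.ulift.{v + 1, v}).symm
    (fun j : ULift.{v + 1} I => F.obj (E j.down))
    (F.map φ ≫ inv (sigmaComparison F (fun i : ULift.{v + 1} I => E i.down)))
  refine ⟨s, ?_⟩
  apply F.map_injective
  rw [Functor.map_zero, Functor.map_comp]
  have h1 := kill_comp_sigmaComparison F (fun i : ULift.{v + 1} I => E i.down) s
  have h2 : F.map (kill (fun i : ULift.{v + 1} I => E i.down) s) =
      inv (sigmaComparison F (fun i : ULift.{v + 1} I => E i.down)) ≫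
        kill (fun j : ULift.{v + 1} I => F.obj (E j.down)) s ≫
        sigmaComparison F (fun i : ULift.{v + 1} I => E i.down) := by
    rw [h1, IsIso.inv_hom_id_assoc]
  rw [h2, ← Category.assoc, ← Category.assoc, hs, zero_comp]

/-- if `K` is compact with respect to small families, then `F.obj K` is compact. -/
theorem isCompactObject_of_bijective (K : D₁)
    (hK : ∀ (I : Type v) (E : I → D₁) [HasCoproduct fun i : ULift.{v + 1} I => E i.down],
      Function.Bijective (CohDer.homSumToHomCoprod K (fun i : ULift.{v + 1} I => E i.down))) :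
    CohDer.IsCompactObject (F.obj K) := by
  rw [isCompactObject_iff]
  intro ι Y ψ
  obtain ⟨G, hG⟩ : ∃ G : D₂ ⥤ D₁, G = F.inv := ⟨_, rfl⟩
  haveI : G.IsEquivalence := by rw [hG]; infer_instance
  haveI : G.Additive := by
    rw [hG]
    haveI : F.asEquivalence.functor.Additive := inferInstanceAs F.Additive
    exact Equivalence.inverse_additive F.asEquivalence
  obtain ⟨η⟩ : Nonempty (𝟭 D₁ ≅ F ⋙ G) := by rw [hG]; exact ⟨F.asEquivalence.unitIso⟩
  haveI hE : HasCoproduct (fun i : ι => G.obj (Y i)) :=
    ⟨⟨⟨_, isColimitCofanMkObjOfIsColimit G _ _ (coproductIsCoproduct Y)⟩⟩⟩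
  haveI : IsIso (sigmaComparison G Y) := inferInstance
  haveI hX : HasCoproduct (fun j : ULift.{v + 1} ι => G.obj (Y j.down)) :=
    hasCoproduct_of_equiv_of_iso (fun i : ι => G.obj (Y i)) _ Equiv.ulift.{v + 1, v}
      (fun _ => Iso.refl _)
  haveI : HasCoproduct ((fun i : ι => G.obj (Y i)) ∘ Equiv.ulift.{v + 1, v}) := hX
  have key := (bijective_homSumToHomCoprod_iff K
    (fun j : ULift.{v + 1} ι => G.obj (Y j.down))).1 (hK ι (fun i => G.obj (Y i)))
  obtain ⟨s, hs⟩ := key (η.hom.app K ≫ G.map ψ ≫ inv (sigmaComparison G Y) ≫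
    (Sigma.reindex Equiv.ulift.{v + 1, v} (fun i : ι => G.obj (Y i))).inv)
  refine ⟨s.map (Equiv.ulift.{v + 1, v}).toEmbedding, ?_⟩
  apply G.map_injective
  rw [Functor.map_zero, Functor.map_comp]
  have h1 := kill_comp_sigmaComparison G Y (s.map (Equiv.ulift.{v + 1, v}).toEmbedding)
  have h2 := kill_comp_reindex_hom (fun i : ι => G.obj (Y i)) Equiv.ulift.{v + 1, v} s
  have h3 : G.map ψ ≫ G.map (kill Y (s.map (Equiv.ulift.{v + 1, v}).toEmbedding)) =
      (η.inv.app K ≫ (η.hom.app K ≫ G.map ψ ≫ inv (sigmaComparison G Y) ≫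
        (Sigma.reindex Equiv.ulift.{v + 1, v} (fun i : ι => G.obj (Y i))).inv) ≫
        kill ((fun i : ι => G.obj (Y i)) ∘ Equiv.ulift.{v + 1, v}) s) ≫
        (Sigma.reindex Equiv.ulift.{v + 1, v} (fun i : ι => G.obj (Y i))).hom ≫
        sigmaComparison G Y := by
    simp only [Category.assoc]
    rw [reassoc_of% h2, h1]
    simp
  rw [h3]
  have hs' : (η.hom.app K ≫ G.map ψ ≫ inv (sigmaComparison G Y) ≫
        (Sigma.reindex Equiv.ulift.{v + 1, v} (fun i : ι => G.obj (Y i))).inv) ≫
        kill ((fun i : ι => G.obj (Y i)) ∘ Equiv.ulift.{v + 1, v}) s = 0 := hs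
  rw [hs', comp_zero, zero_comp]

end Transport

end Groth.Agent.Lib.Helper17.DCompare
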