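import Groth.Agent.Lib.Helper17DBrown5
import Groth.Agent.Lib.Helper17DCompare1

/-!
# The small derived category of modules over a ring: compact generation by the ring (helper17)
-/

set_option autoImplicit false

universe v u

open CategoryTheory CategoryTheory.Limits DerivedCategory

namespace Groth.Agent.Lib.Helper17.DCompare

open Groth.Agent.Lib.Helper17.DBrown Groth.Agent.Lib.Helper1.Compact

section Generates

variable {C : Type u} [Category.{v} C] [Abelian C] [HasDerivedCategory.{v} C]

/-- `Q(P[-m]) ≅ Q(P)[-m]` -/
noncomputable def QSingleIso (P : C) (m : ℤ) :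
    (Q : _ ⥤ DerivedCategory C).obj ((HomologicalComplex.single C (ComplexShape.up ℤ) m).obj P) ≅
      (shiftFunctor (DerivedCategory C) (-m)).obj
        (Q.obj ((HomologicalComplex.single C (ComplexShape.up ℤ) 0).obj P)) :=
  (singleFunctorIsoCompQ C m).symm.app P ≪≫
    ((DerivedCategory.singleFunctors C).shiftIso (-m) m 0 (by omega)).symm.app P ≪≫
    (shiftFunctor (DerivedCategory C) (-m)).mapIso ((singleFunctorIsoCompQ C 0).app P)

lemma generates_of_iso_Q_single {P : C} [Projective P] (hP : IsSeparator P)
    (E : DerivedCategory C)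
    (e : E ≅ (Q : _ ⥤ DerivedCategory C).obj
      ((HomologicalComplex.single C (ComplexShape.up ℤ) 0).obj P)) :
    CohDer.Generates (fun _ : Unit => E) := by
  intro K hK
  obtain ⟨K', ⟨eK⟩⟩ : ∃ K' : CochainComplex C ℤ, Nonempty (Q.obj K' ≅ K) :=
    ⟨_, ⟨Q.objObjPreimageIso K⟩⟩
  refine IsZero.of_iso (isZero_Q_obj_of_forall_single hP K' (fun m g => ?_)) eK.symm
  have h0 := hK () m ((shiftFunctorCompIsoId (DerivedCategory C) (-m) m (by omega)).inv.app E ≫
    (shiftFunctor (DerivedCategory C) m).map
      ((shiftFunctor (DerivedCategory C) (-m)).map e.hom ≫ (QSingleIso P m).inv ≫ g ≫ eK.hom))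
  have h1 : (shiftFunctor (DerivedCategory C) m).map
      ((shiftFunctor (DerivedCategory C) (-m)).map e.hom ≫ (QSingleIso P m).inv ≫ g ≫ eK.hom) =
      0 := by
    rw [← cancel_epi ((shiftFunctorCompIsoId (DerivedCategory C) (-m) m (by omega)).inv.app E),
      h0, comp_zero]
  have h2 : (shiftFunctor (DerivedCategory C) (-m)).map e.hom ≫ (QSingleIso P m).inv ≫ g ≫
      eK.hom = 0 := by
    apply (shiftFunctor (DerivedCategory C) m).map_injective
    rw [h1, Functor.map_zero]
  have h3 : (QSingleIso P m).inv ≫ g ≫ eK.hom = 0 := by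
    rw [← cancel_epi ((shiftFunctor (DerivedCategory C) (-m)).map e.hom), h2, comp_zero]
  have h4 : g ≫ eK.hom = 0 := by
    rw [← cancel_epi (QSingleIso P m).inv, h3, comp_zero]
  rw [← cancel_mono eK.hom, h4, zero_comp]

end Generates

section Ring

variable (R : Type u) [Ring R]

/-- compactness and generation by the ring in the small derived category. -/
theorem small_compact_generator :
    letI := hasDerivedCategorySmall (ModuleCat.{u} R)
    ∃ (_ : HasCoproducts.{u} (DerivedCategory (ModuleCat.{u} R))),
      ∀ (E : DerivedCategory (ModuleCat.{u} R)),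
        (E ≅ (Q : _ ⥤ DerivedCategory (ModuleCat.{u} R)).obj
          ((HomologicalComplex.single (ModuleCat.{u} R) (ComplexShape.up ℤ) 0).obj
            (ModuleCat.of R R))) →
        CohDer.IsCompactObject E ∧ CohDer.Generates (fun _ : Unit => E) := by
  letI := hasDerivedCategorySmall (ModuleCat.{u} R)
  haveI : HasCoproducts.{u} (DerivedCategory (ModuleCat.{u} R)) := hasCoproducts_derivedCategory
  haveI : HasCoproducts.{u} (ModuleCat.{u} R) := fun J => inferInstance
  refine ⟨inferInstance, fun E e => ⟨?_, ?_⟩⟩
  · exact isCompactObject_of_iso e.symm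
      (isCompactObject_Q_single (isCompactObject_of_self R) 0)
  · exact generates_of_iso_Q_single (isSeparator_of_self R) E e

end Ring

end Groth.Agent.Lib.Helper17.DCompare
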