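import Groth.Agent.Lib.Helper17DCompare2
import Groth.Agent.Lib.Helper17DCompare3
import Groth.Agent.S7010
import Groth.Agent.S7019
import Groth.Agent.S7028
import Groth.Agent.S0978

/-!
# Perfect complexes over a ring are the compact objects of the derived category (helper17)
-/

set_option autoImplicit false

universe u

open CategoryTheory CategoryTheory.Limits DerivedCategory Pretriangulated ZeroObject

attribute [local instance] HasDerivedCategory.standard

namespace Groth.Agent.Lib.Helper17.DCompare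

open Groth.Agent.Lib.Helper17.DBrown Groth.Agent.Lib.Helper1.Compact
  Groth.Agent.Lib.Helper1.Cone
  Groth.Agent.Lib.Helper1.PC Groth.Agent.Lib.Helper1.PCTower Groth.Agent.Lib.Helper1.PCBiprod

section Perfect

variable {R : Type u} [CommRing R]

lemma isPerfect_two_out_of_three (T : Triangle (Dual.D R)) (hT : T ∈ distTriang (Dual.D R)) :
    (DRing.IsPerfect R T.obj₁ → DRing.IsPerfect R T.obj₂ → DRing.IsPerfect R T.obj₃) ∧
      (DRing.IsPerfect R T.obj₁ → DRing.IsPerfect R T.obj₃ → DRing.IsPerfect R T.obj₂) ∧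
      (DRing.IsPerfect R T.obj₂ → DRing.IsPerfect R T.obj₃ → DRing.IsPerfect R T.obj₁) := by
  simp only [Groth.Agent.S7028.isPerfect_iff]
  exact Rep.two_out_of_three (fun X h => h.2) Groth.Agent.S7028.FP_iso Groth.Agent.S7028.FP_sum T hT

lemma isPerfect_of_iso {K K' : Dual.D R} (e : K ≅ K') (h : DRing.IsPerfect R K) :
    DRing.IsPerfect R K' := by
  obtain ⟨E, a, b, hE, hfp, ⟨e'⟩⟩ := h
  exact ⟨E, a, b, hE, hfp, ⟨e' ≪≫ e⟩⟩

lemma isPerfect_shift {K : Dual.D R} (h : DRing.IsPerfect R K) (n : ℤ) :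
    DRing.IsPerfect R (K⟦n⟧) := by
  rw [Groth.Agent.S7028.isPerfect_iff] at h ⊢
  exact h.shift n

lemma isPerfect_of_isZero {K : Dual.D R} (h : IsZero K) : DRing.IsPerfect R K := by
  refine ⟨0, 0, 0, fun i _ => ?_, fun i => ?_, ⟨(Functor.map_isZero Q (isZero_zero _)).iso h⟩⟩
  · exact (HomologicalComplex.eval _ _ i).map_isZero (isZero_zero _)
  · have hz : IsZero ((0 : DRing.Cx R).X i) :=
      (HomologicalComplex.eval _ _ i).map_isZero (isZero_zero _)
    haveI := ModuleCat.subsingleton_of_isZero hz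
    exact ⟨inferInstance, inferInstance⟩

/-- retracts of perfect objects are perfect. -/
lemma isPerfect_of_retract' (X K : Dual.D R) (ι : K ⟶ X) (π : X ⟶ K) (hιπ : ι ≫ π = 𝟙 K)
    (hX : DRing.IsPerfect R X) : DRing.IsPerfect R K := by
  obtain ⟨C, g, h, hT⟩ := distinguished_cocone_triangle ι
  have hzero : h = 0 := by
    have h1 : h ≫ ι⟦(1 : ℤ)⟧' = 0 := comp_distTriang_mor_zero₃₁ _ hT
    calc h = h ≫ (ι ≫ π)⟦(1 : ℤ)⟧' := by rw [hιπ, CategoryTheory.Functor.map_id, Category.comp_id]
      _ = 0 := by rw [Functor.map_comp, ← Category.assoc, h1, zero_comp]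
  obtain ⟨e, -, -⟩ := exists_iso_binaryBiproduct_of_distTriang _ hT hzero
  have hX' : DRing.IsPerfect R (K ⊞ C) := isPerfect_of_iso e hX
  have hpc := Groth.Agent.S7019.isPC'_of_isPerfect _ hX'
  have hall : ∀ m : ℤ, DRing.IsPseudoCoherent R m (K ⊞ C) := fun m =>
    Groth.Agent.S6938.isPC_of_pc' _ hpc m
  have hK : DRing.IsPseudoCoherent' R K :=
    isPseudoCoherent'_of_forall K (fun m => (isPC_of_biprod m K C (hall m)).1)
  exact Groth.Agent.S7019.isPerfect_of_retract (K ⊞ C) K biprod.inl biprod.fst biprod.inl_fst hX' hK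

end Perfect

end Groth.Agent.Lib.Helper17.DCompare
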