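import Groth.Agent.Lib.Helper17DCompare4

/-!
# Perfect complexes over a ring are the compact objects of the derived category: main theorem
(helper17)
-/

set_option autoImplicit false

universe u

open CategoryTheory CategoryTheory.Limits DerivedCategory Pretriangulated ZeroObject

attribute [local instance] HasDerivedCategory.standard

namespace Groth.Agent.Lib.Helper17.DCompare

open Groth.Agent.Lib.Helper17.DBrown Groth.Agent.Lib.Helper1.Compact

section Main

variable (R : Type u) [CommRing R]

/-- the small derived category of `R`-modules. -/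
abbrev DS : Type (u + 1) := DC (ModuleCat.{u} R) (hasDerivedCategorySmall (ModuleCat.{u} R))

/-- the comparison functor to the small derived category. -/
noncomputable def toSmall : Dual.D R ⥤ DS R :=
  compFunctor (ModuleCat.{u} R) (HasDerivedCategory.standard _) (hasDerivedCategorySmall _)

/-- the comparison functor from the small derived category. -/
noncomputable def toStd : DS R ⥤ Dual.D R :=
  compFunctor (ModuleCat.{u} R) (hasDerivedCategorySmall _) (HasDerivedCategory.standard _)

instance : (toSmall R).IsEquivalence :=
  inferInstanceAs (compFunctor (ModuleCat.{u} R) (HasDerivedCategory.standard _)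
    (hasDerivedCategorySmall _)).IsEquivalence

instance : (toSmall R).Additive :=
  inferInstanceAs (compFunctor (ModuleCat.{u} R) (HasDerivedCategory.standard _)
    (hasDerivedCategorySmall _)).Additive

noncomputable instance : (toSmall R).CommShift ℤ :=
  inferInstanceAs ((compFunctor (ModuleCat.{u} R) (HasDerivedCategory.standard _)
    (hasDerivedCategorySmall _)).CommShift ℤ)

instance : (toSmall R).IsTriangulated :=
  inferInstanceAs (compFunctor (ModuleCat.{u} R) (HasDerivedCategory.standard _)
    (hasDerivedCategorySmall _)).IsTriangulated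

instance : (toStd R).IsEquivalence :=
  inferInstanceAs (compFunctor (ModuleCat.{u} R) (hasDerivedCategorySmall _)
    (HasDerivedCategory.standard _)).IsEquivalence

instance : (toStd R).Additive :=
  inferInstanceAs (compFunctor (ModuleCat.{u} R) (hasDerivedCategorySmall _)
    (HasDerivedCategory.standard _)).Additive

noncomputable instance : (toStd R).CommShift ℤ :=
  inferInstanceAs ((compFunctor (ModuleCat.{u} R) (hasDerivedCategorySmall _)
    (HasDerivedCategory.standard _)).CommShift ℤ)

instance : (toStd R).IsTriangulated :=
  inferInstanceAs (compFunctor (ModuleCat.{u} R) (hasDerivedCategorySmall _)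
    (HasDerivedCategory.standard _)).IsTriangulated

/-- the unit isomorphism. -/
noncomputable def toSmallToStdIso : 𝟭 (Dual.D R) ≅ toSmall R ⋙ toStd R :=
  (compEquiv (ModuleCat.{u} R) (HasDerivedCategory.standard _) (hasDerivedCategorySmall _)).unitIso

/-- the image of the ring in the small derived category. -/
noncomputable def toSmallRingIso : (toSmall R).obj (Dual.inD R R) ≅
    (Q' (ModuleCat.{u} R) (hasDerivedCategorySmall _)).obj
      ((HomologicalComplex.single (ModuleCat.{u} R) (ComplexShape.up ℤ) 0).obj
        (ModuleCat.of R R)) :=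
  (toSmall R).mapIso ((singleFunctorIsoCompQ (ModuleCat.{u} R) 0).app (ModuleCat.of R R)) ≪≫
    (compFunctorFactors (ModuleCat.{u} R) (HasDerivedCategory.standard _)
      (hasDerivedCategorySmall _)).app _

lemma isPerfect_inD_self : DRing.IsPerfect R (Dual.inD R R) := by
  refine ⟨(HomologicalComplex.single (ModuleCat.{u} R) (ComplexShape.up ℤ) 0).obj
    (ModuleCat.of R R), 0, 0, fun i hi => ?_, fun i => ?_,
    ⟨((singleFunctorIsoCompQ (ModuleCat.{u} R) 0).app (ModuleCat.of R R)).symm⟩⟩
  · exact HomologicalComplex.isZero_single_obj_X _ _ _ _ (by omega)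
  · by_cases hi : i = 0
    · subst hi
      have e := (HomologicalComplex.singleObjXSelf (ComplexShape.up ℤ) (0 : ℤ)
        (ModuleCat.of R R)).toLinearEquiv
      exact ⟨Module.Finite.equiv e.symm, Module.Projective.of_equiv e.symm⟩
    · have hz : IsZero (((HomologicalComplex.single (ModuleCat.{u} R) (ComplexShape.up ℤ) 0).obj
          (ModuleCat.of R R)).X i) := HomologicalComplex.isZero_single_obj_X _ _ _ _ hi
      haveI := ModuleCat.subsingleton_of_isZero hz
      exact ⟨inferInstance, inferInstance⟩

theorem isPerfect_iff_compact (K : Dual.D R) :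
    DRing.IsPerfect R K ↔
      ∀ (I : Type u) (E : I → Dual.D R) [HasCoproduct fun i : ULift.{u + 1} I => E i.down],
        Function.Bijective (CohDer.homSumToHomCoprod K (fun i : ULift.{u + 1} I => E i.down)) := by
  obtain ⟨hcop, hgen⟩ := small_compact_generator R
  haveI : HasCoproducts.{u} (DS R) := hcop
  have hE₀c : CohDer.IsCompactObject ((toSmall R).obj (Dual.inD R R)) :=
    (hgen ((toSmall R).obj (Dual.inD R R)) (toSmallRingIso R)).1
  have hE₀g : CohDer.Generates (fun _ : Unit => (toSmall R).obj (Dual.inD R R)) :=
    (hgen ((toSmall R).obj (Dual.inD R R)) (toSmallRingIso R)).2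
  constructor
  · intro hK I E _
    refine bijective_of_isCompactObject.{u, u + 1, u + 1} (toSmall R) K ?_ I E
    obtain ⟨P, hP⟩ : ∃ P : ObjectProperty (Dual.D R),
        P = fun K => CohDer.IsCompactObject ((toSmall R).obj K) := ⟨_, rfl⟩
    haveI : P.IsClosedUnderIsomorphisms := by
      subst hP
      exact ⟨fun e h => isCompactObject_of_iso ((toSmall R).mapIso e) h⟩
    have key : P K := by
      refine Groth.Agent.S7010.result R P ?_ ?_ ?_ ?_ K hK
      · subst hP; exact hE₀c
      · intro K n hK
        subst hP
        exact isCompactObject_of_iso (((toSmall R).commShiftIso n).app K).symm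
          (isCompactObject_shift hK n)
      · intro T hT h1 h3
        subst hP
        exact isCompactObject_of_distTriang₂ _ ((toSmall R).map_distinguished T hT) h1 h3
      · intro X Y _ h
        subst hP
        exact isCompactObject_of_retract ⟨(toSmall R).map biprod.inl, (toSmall R).map biprod.fst,
          by rw [← Functor.map_comp, biprod.inl_fst, CategoryTheory.Functor.map_id]⟩ h
    subst hP
    exact key
  · intro hK
    have hc : CohDer.IsCompactObject ((toSmall R).obj K) :=
      isCompactObject_of_bijective.{u, u + 1, u + 1} (toSmall R) K hK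
    haveI : HasColimitsOfShape (Discrete ℕ) (DS R) :=
      hasColimitsOfShape_of_equivalence (Discrete.equivalence Equiv.ulift.{u, 0})
    have henv := ((@Groth.Agent.S0978.result.{u, u + 1} (DS R) _ _ _ _ _ _ _ _ _
      ((toSmall R).obj (Dual.inD R R)) hE₀c).1 hE₀g).2 _ hc
    obtain ⟨PG, hPG⟩ : ∃ PG : ObjectProperty (DS R),
        PG = fun X => DRing.IsPerfect R ((toStd R).obj X) := ⟨_, rfl⟩
    haveI : PG.IsClosedUnderIsomorphisms := by
      subst hPG
      exact ⟨fun e h => isPerfect_of_iso ((toStd R).mapIso e) h⟩
    haveI : PG.IsStableUnderRetracts := by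
      subst hPG
      exact ⟨fun {X Y} r h => isPerfect_of_retract' _ _ ((toStd R).map r.i) ((toStd R).map r.r)
        (by rw [← Functor.map_comp, r.retract, CategoryTheory.Functor.map_id]) h⟩
    haveI : PG.ContainsZero := by
      subst hPG
      exact ⟨⟨0, isZero_zero _, isPerfect_of_isZero ((toStd R).map_isZero (isZero_zero _))⟩⟩
    haveI : PG.IsStableUnderShift ℤ := by
      subst hPG
      exact ⟨fun n => ⟨fun X hX => isPerfect_of_iso (((toStd R).commShiftIso n).app X).symm
        (isPerfect_shift hX n)⟩⟩
    haveI : PG.IsTriangulatedClosed₂ := by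
      subst hPG
      exact ObjectProperty.IsTriangulatedClosed₂.mk' (fun T hT h1 h3 =>
        (isPerfect_two_out_of_three _ ((toStd R).map_distinguished T hT)).2.1 h1 h3)
    haveI : PG.IsTriangulated := {}
    have hle : ObjectProperty.triangEnvelope
        (fun Y : DS R => Y = (toSmall R).obj (Dual.inD R R)) ≤ PG := by
      rw [ObjectProperty.triangEnvelope_le_iff]
      rintro Y rfl
      subst hPG
      exact isPerfect_of_iso ((toSmallToStdIso R).app _) (isPerfect_inD_self R)
    have h1 : PG ((toSmall R).obj K) := hle _ henv
    subst hPG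
    exact isPerfect_of_iso ((toSmallToStdIso R).symm.app K) h1

end Main

end Groth.Agent.Lib.Helper17.DCompare
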