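import Mathlib.Algebra.Homology.Refinements
import Mathlib.CategoryTheory.Abelian.SerreClass.Basic
import Mathlib.CategoryTheory.ObjectProperty.Extensions

/-!
# Approximating complexes with cohomology in a Serre class: one step (helper17)
-/

set_option autoImplicit false

universe v u

open CategoryTheory CategoryTheory.Limits

namespace Groth.Agent.Lib.Helper17.DMinus

variable {A : Type u} [Category.{v} A] [Abelian A] (P : ObjectProperty A)
  (K : CochainComplex A ℤ)

/-- a `P`-object mapping to the cycles of `K` in degree `m`. -/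
structure Stage (m : ℤ) where
  /-- the object -/
  Z : A
  hZ : P Z
  /-- the map to `K.X m` -/
  ζ : Z ⟶ K.X m
  hζ : ∀ m' : ℤ, ζ ≫ K.d m m' = 0

/-- the output of one step of the construction. -/
structure StepData {n m : ℤ} (S : Stage P K m) where
  /-- the new term -/
  Y : A
  hY : P Y
  /-- the map to `K` -/
  y : Y ⟶ K.X n
  /-- the differential, to the cycles of the next term -/
  del : Y ⟶ S.Z
  comm : del ≫ S.ζ = y ≫ K.d n m
  monoProp : ∀ ⦃T : A⦄ (x : T ⟶ S.Z) (y₁ : T ⟶ K.X n), x ≫ S.ζ = y₁ ≫ K.d n m →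
    ∃ (T' : A) (π : T' ⟶ T) (_ : Epi π) (x₁ : T' ⟶ Y), π ≫ x = x₁ ≫ del
  epiProp : ∀ ⦃T : A⦄ (z : T ⟶ K.X n), z ≫ K.d n m = 0 → ∀ (n' : ℤ), n' + 1 = n →
    ∃ (T' : A) (π : T' ⟶ T) (_ : Epi π) (x₂ : T' ⟶ Y) (_ : x₂ ≫ del = 0) (c : T' ⟶ K.X n'),
      π ≫ z = x₂ ≫ y + c ≫ K.d n' n

variable {P K}

/-- the next stage. -/
noncomputable def StepData.next [P.IsClosedUnderSubobjects] {n m : ℤ} {S : Stage P K m}
    (D : StepData P K (n := n) S) (h : n + 1 = m) : Stage P K n where
  Z := kernel D.del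
  hZ := P.prop_of_mono (kernel.ι D.del) D.hY
  ζ := kernel.ι D.del ≫ D.y
  hζ m' := by
    by_cases hm : n + 1 = m'
    · obtain rfl : m = m' := by omega
      rw [Category.assoc, ← D.comm, kernel.condition_assoc, zero_comp]
    · rw [K.shape n m' hm, comp_zero]

variable [P.IsSerreClass]

theorem exists_stepData
    (hlift : ∀ (X Y : A) (π : X ⟶ Y), Epi π → P Y →
      ∃ (X' : A) (i : X' ⟶ X), Mono i ∧ P X' ∧ Epi (i ≫ π))
    {n m : ℤ} (h : n + 1 = m) (S : Stage P K m) (hH : P (K.homology n)) :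
    Nonempty (StepData P K (n := n) S) := by
  -- the part hitting the boundaries
  let p₁ : pullback (K.d n m) S.ζ ⟶ K.X n := pullback.fst _ _
  let p₂ : pullback (K.d n m) S.ζ ⟶ S.Z := pullback.snd _ _
  have hp : p₁ ≫ K.d n m = p₂ ≫ S.ζ := pullback.condition
  have hI : P (Abelian.image p₂) := P.prop_of_mono (Abelian.image.ι p₂) S.hZ
  obtain ⟨Y₁, i₁, _, hY₁, hepi₁⟩ := hlift _ _ (Abelian.factorThruImage p₂) inferInstance hI
  -- the part hitting the cohomology
  obtain ⟨Y₂, i₂, _, hY₂, hepi₂⟩ := hlift _ _ (K.homologyπ n) inferInstance hH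
  have hnext : (ComplexShape.up ℤ).next n = m := by simp [h]
  refine ⟨{
    Y := Y₁ ⊞ Y₂
    hY := P.prop_biprod hY₁ hY₂
    y := biprod.desc (i₁ ≫ p₁) (i₂ ≫ K.iCycles n)
    del := biprod.desc (i₁ ≫ p₂) 0
    comm := ?_
    monoProp := ?_
    epiProp := ?_ }⟩
  · apply biprod.hom_ext'
    · simp [hp]
    · simp
  · intro T x y₁ hxy
    obtain ⟨T', π, hπ, w, hw⟩ := surjective_up_to_refinements_of_epi (i₁ ≫ Abelian.factorThruImage p₂)
      (pullback.lift y₁ x hxy.symm ≫ Abelian.factorThruImage p₂)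
    refine ⟨T', π, hπ, w ≫ biprod.inl, ?_⟩
    have := hw =≫ Abelian.image.ι p₂
    simp only [Category.assoc, Abelian.image.fac] at this
    have h₂ : pullback.lift y₁ x hxy.symm ≫ p₂ = x := pullback.lift_snd _ _ _
    rw [h₂] at this
    rw [this]
    simp
  · intro T z hz n' hn'
    have hprev : (ComplexShape.up ℤ).prev n = n' := by simp [← hn']
    obtain ⟨T₁, π₁, hπ₁, w, hw⟩ := surjective_up_to_refinements_of_epi (i₂ ≫ K.homologyπ n)
      (K.liftCycles z m hnext hz ≫ K.homologyπ n)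
    have h0 : (π₁ ≫ K.liftCycles z m hnext hz - w ≫ i₂) ≫ K.homologyπ n = 0 := by
      rw [Preadditive.sub_comp, Category.assoc, Category.assoc, hw, sub_self]
    obtain ⟨T₂, π₂, hπ₂, c, hc⟩ :=
      (K.comp_homologyπ_eq_zero_iff_up_to_refinements n' n hprev _).1 h0
    refine ⟨T₂, π₂ ≫ π₁, epi_comp _ _, π₂ ≫ w ≫ biprod.inr, by simp, c, ?_⟩
    have := hc =≫ K.iCycles n
    simp only [Preadditive.comp_sub, Preadditive.sub_comp, Category.assoc,
      HomologicalComplex.liftCycles_i, HomologicalComplex.toCycles_i] at this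
    rw [sub_eq_iff_eq_add] at this
    rw [Category.assoc, this]
    simp [add_comm]

end Groth.Agent.Lib.Helper17.DMinus
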