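import Mathlib.Algebra.Homology.HomologicalComplex
import Mathlib.Algebra.Homology.Additive

/-!
# Gluing two half-infinite sequences into a cochain complex indexed by `ℤ` (helper17)
-/

set_option autoImplicit false

universe v u

open CategoryTheory CategoryTheory.Limits

namespace Groth.Agent.Lib.Helper17.SerreEss

variable {A : Type u} [Category.{v} A] [HasZeroMorphisms A]

section Glue

variable (Xp : ℕ → A) (fp : ∀ k, Xp k ⟶ Xp (k + 1))
  (Xn : ℕ → A) (gn : ∀ k, Xn (k + 1) ⟶ Xn k) (g₀ : Xn 0 ⟶ Xp 0)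

/-- the objects of the glued complex: `Xp k` in degree `k`, `Xn k` in degree `-(k+1)`. -/
def glueX : ℤ → A
  | Int.ofNat k => Xp k
  | Int.negSucc k => Xn k

/-- the differentials of the glued complex. -/
def glueD : ∀ n : ℤ, glueX Xp Xn n ⟶ glueX Xp Xn (n + 1)
  | Int.ofNat k => fp k
  | Int.negSucc 0 => g₀
  | Int.negSucc (k + 1) => gn k

variable (hp : ∀ k, fp k ≫ fp (k + 1) = 0) (hn : ∀ k, gn (k + 1) ≫ gn k = 0)
  (h₁ : gn 0 ≫ g₀ = 0) (h₀ : g₀ ≫ fp 0 = 0)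

include hp hn h₁ h₀ in
lemma glueD_comp : ∀ n : ℤ, glueD Xp fp Xn gn g₀ n ≫ glueD Xp fp Xn gn g₀ (n + 1) = 0
  | Int.ofNat k => hp k
  | Int.negSucc 0 => h₀
  | Int.negSucc 1 => h₁
  | Int.negSucc (k + 2) => hn k

/-- the glued complex. -/
def glue : CochainComplex A ℤ :=
  CochainComplex.of (glueX Xp Xn) (glueD Xp fp Xn gn g₀) (glueD_comp Xp fp Xn gn g₀ hp hn h₁ h₀)

lemma glue_X (n : ℤ) : (glue Xp fp Xn gn g₀ hp hn h₁ h₀).X n = glueX Xp Xn n := rfl

lemma glue_d (n : ℤ) : (glue Xp fp Xn gn g₀ hp hn h₁ h₀).d n (n + 1) = glueD Xp fp Xn gn g₀ n := by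
  exact CochainComplex.of_d _ _ n

end Glue

end Groth.Agent.Lib.Helper17.SerreEss
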