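import Groth.Agent.Lib.Helper17DMinus1
import Groth.Agent.Lib.Helper17SerreEss3
import Mathlib.CategoryTheory.Abelian.Subcategory
import Mathlib.Algebra.Homology.Embedding.CochainComplex
import Mathlib.Algebra.Homology.QuasiIso
import Mathlib.Algebra.Homology.Additive

/-!
# Approximating complexes with cohomology in a Serre class: the complex (helper17)
-/

set_option autoImplicit false

universe v u

open CategoryTheory CategoryTheory.Limits ZeroObject

namespace Groth.Agent.Lib.Helper17.DMinus

open Groth.Agent.Lib.Helper17.SerreEss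

variable {A : Type u} [Category.{v} A] [Abelian A] (P : ObjectProperty A) [P.IsSerreClass]
  (K : CochainComplex A ℤ)
  (hlift : ∀ (X Y : A) (π : X ⟶ Y), Epi π → P Y →
      ∃ (X' : A) (i : X' ⟶ X), Mono i ∧ P X' ∧ Epi (i ≫ π))
  (hH : ∀ n : ℤ, P (K.homology n))

/-- a choice of step. -/
noncomputable def step {n m : ℤ} (h : n + 1 = m) (S : Stage P K m) : StepData P K (n := n) S :=
  (exists_stepData hlift h S (hH n)).some

/-- the zero stage -/
noncomputable def zeroStage (m : ℤ) : Stage P K m where
  Z := 0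
  hZ := P.prop_zero
  ζ := 0
  hζ _ := zero_comp

/-- the stages: `St k` is a stage in degree `-k`. -/
noncomputable def St : ∀ k : ℕ, Stage P K (Int.negSucc k + 1)
  | 0 => zeroStage P K _
  | k + 1 => (step P K hlift hH (rfl : Int.negSucc k + 1 = Int.negSucc k + 1)
      (St k)).next rfl

/-- the step data in degree `-(k+1)`. -/
noncomputable def Out (k : ℕ) : StepData P K (n := Int.negSucc k) (St P K hlift hH k) :=
  step P K hlift hH rfl (St P K hlift hH k)

/-- the terms of the approximating complex. -/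
noncomputable abbrev Tk (k : ℕ) : A := (Out P K hlift hH k).Y

lemma hTk (k : ℕ) : P (Tk P K hlift hH k) := (Out P K hlift hH k).hY

/-- the differential, with values in the kernel of the next one. -/
noncomputable def delK (k : ℕ) :
    Tk P K hlift hH (k + 1) ⟶ kernel (Out P K hlift hH k).del :=
  (Out P K hlift hH (k + 1)).del

lemma delK_comm (k : ℕ) :
    delK P K hlift hH k ≫ kernel.ι (Out P K hlift hH k).del ≫ (Out P K hlift hH k).y =
      (Out P K hlift hH (k + 1)).y ≫ K.d (Int.negSucc (k + 1)) (Int.negSucc k) :=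
  (Out P K hlift hH (k + 1)).comm

lemma monoPropK (k : ℕ) ⦃T : A⦄ (x : T ⟶ kernel (Out P K hlift hH k).del)
    (y₁ : T ⟶ K.X (Int.negSucc (k + 1)))
    (h : x ≫ kernel.ι (Out P K hlift hH k).del ≫ (Out P K hlift hH k).y =
      y₁ ≫ K.d (Int.negSucc (k + 1)) (Int.negSucc k)) :
    ∃ (T' : A) (π : T' ⟶ T) (_ : Epi π) (x₁ : T' ⟶ Tk P K hlift hH (k + 1)),
      π ≫ x = x₁ ≫ delK P K hlift hH k :=
  (Out P K hlift hH (k + 1)).monoProp x y₁ h

/-- the differentials of the approximating complex. -/
noncomputable def gk (k : ℕ) : Tk P K hlift hH (k + 1) ⟶ Tk P K hlift hH k :=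
  delK P K hlift hH k ≫ kernel.ι (Out P K hlift hH k).del

/-- the maps to `K`. -/
noncomputable abbrev yk (k : ℕ) : Tk P K hlift hH k ⟶ K.X (Int.negSucc k) :=
  (Out P K hlift hH k).y

lemma kernel_ι_delK (k : ℕ) :
    kernel.ι (Out P K hlift hH (k + 1)).del ≫ delK P K hlift hH k = 0 :=
  kernel.condition _

lemma gk_del (k : ℕ) : gk P K hlift hH k ≫ (Out P K hlift hH k).del = 0 := by
  unfold gk
  rw [Category.assoc, kernel.condition, comp_zero]

lemma gk_comp (k : ℕ) : gk P K hlift hH (k + 1) ≫ gk P K hlift hH k = 0 := by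
  unfold gk
  rw [Category.assoc, reassoc_of% (kernel_ι_delK P K hlift hH k), zero_comp, comp_zero]

lemma gk_yk (k : ℕ) : gk P K hlift hH k ≫ yk P K hlift hH k =
    yk P K hlift hH (k + 1) ≫ K.d (Int.negSucc (k + 1)) (Int.negSucc k) := by
  unfold gk
  rw [Category.assoc]
  exact delK_comm P K hlift hH k

end Groth.Agent.Lib.Helper17.DMinus
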