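import Groth.Agent.Lib.Helper17DMinus2

/-!
# Approximating complexes with cohomology in a Serre class: the quasi-isomorphism (helper17)
-/

set_option autoImplicit false

universe v u

open CategoryTheory CategoryTheory.Limits ZeroObject

namespace Groth.Agent.Lib.Helper17.DMinus

open Groth.Agent.Lib.Helper17.SerreEss

variable {A : Type u} [Category.{v} A] [Abelian A] (P : ObjectProperty A) [P.IsSerreClass]
  [P.IsClosedUnderKernels] [P.IsClosedUnderCokernels] [P.IsClosedUnderFiniteProducts]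
  (K : CochainComplex A ℤ)
  (hlift : ∀ (X Y : A) (π : X ⟶ Y), Epi π → P Y →
      ∃ (X' : A) (i : X' ⟶ X), Mono i ∧ P X' ∧ Epi (i ≫ π))
  (hH : ∀ n : ℤ, P (K.homology n))

/-- the terms, as objects of the subcategory. -/
noncomputable def TB (k : ℕ) : P.FullSubcategory := ⟨Tk P K hlift hH k, hTk P K hlift hH k⟩

/-- the differentials, in the subcategory. -/
noncomputable def gB (k : ℕ) : TB P K hlift hH (k + 1) ⟶ TB P K hlift hH k :=
  ObjectProperty.homMk (gk P K hlift hH k)

lemma gB_comp (k : ℕ) : gB P K hlift hH (k + 1) ≫ gB P K hlift hH k = 0 := by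
  ext
  exact gk_comp P K hlift hH k

/-- the approximating complex. -/
noncomputable def YB : CochainComplex P.FullSubcategory ℤ :=
  glue (fun _ => (0 : P.FullSubcategory)) (fun _ => 0) (TB P K hlift hH) (gB P K hlift hH) 0
    (fun _ => zero_comp) (gB_comp P K hlift hH) comp_zero zero_comp

instance : (YB P K hlift hH).IsStrictlyLE (-1) := by
  rw [CochainComplex.isStrictlyLE_iff]
  intro i hi
  match i with
  | Int.ofNat k => exact isZero_zero _
  | Int.negSucc k => exact absurd hi (by have := Int.negSucc_lt_zero k; omega)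

/-- the components of the comparison map. -/
noncomputable def jf : ∀ n : ℤ, P.ι.obj ((YB P K hlift hH).X n) ⟶ K.X n
  | Int.ofNat _ => 0
  | Int.negSucc k => yk P K hlift hH k

lemma YB_d (k : ℕ) : (YB P K hlift hH).d (Int.negSucc (k + 1)) (Int.negSucc k) =
    gB P K hlift hH k :=
  glue_d _ _ _ _ _ _ _ _ _ (Int.negSucc (k + 1))

variable [K.IsStrictlyLE (-1)]

/-- the comparison map. -/
noncomputable def jB : (P.ι.mapHomologicalComplex (ComplexShape.up ℤ)).obj (YB P K hlift hH) ⟶ K where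
  f := jf P K hlift hH
  comm' i j hij := by
    obtain rfl : i + 1 = j := hij
    match i with
    | Int.ofNat k =>
      exact zero_comp.trans comp_zero.symm
    | Int.negSucc 0 =>
      exact (K.isZero_of_isStrictlyLE (-1) 0 (by omega)).eq_of_tgt _ _
    | Int.negSucc (k + 1) =>
      change yk P K hlift hH (k + 1) ≫ K.d (Int.negSucc (k + 1)) (Int.negSucc k) =
        P.ι.map ((YB P K hlift hH).d (Int.negSucc (k + 1)) (Int.negSucc k)) ≫ yk P K hlift hH k
      rw [YB_d]
      exact (gk_yk P K hlift hH k).symm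

lemma jB_f_negSucc (k : ℕ) : (jB P K hlift hH).f (Int.negSucc k) = yk P K hlift hH k := rfl

lemma ιYB_d (k : ℕ) :
    ((P.ι.mapHomologicalComplex (ComplexShape.up ℤ)).obj (YB P K hlift hH)).d
      (Int.negSucc (k + 1)) (Int.negSucc k) = gk P K hlift hH k := by
  change P.ι.map ((YB P K hlift hH).d (Int.negSucc (k + 1)) (Int.negSucc k)) = _
  rw [YB_d]
  rfl

lemma isZero_ιYB_ofNat (m : ℕ) :
    IsZero (((P.ι.mapHomologicalComplex (ComplexShape.up ℤ)).obj (YB P K hlift hH)).X
      (Int.ofNat m)) :=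
  P.ι.map_isZero (isZero_zero _)

/-- a cycle of the approximating complex is killed by the differential of the step data. -/
lemma comp_del_eq_zero : ∀ (k : ℕ) ⦃T : A⦄ (x₂ : T ⟶ Tk P K hlift hH k)
    (_ : x₂ ≫ ((P.ι.mapHomologicalComplex (ComplexShape.up ℤ)).obj (YB P K hlift hH)).d
      (Int.negSucc k) (Int.negSucc k + 1) = 0), x₂ ≫ (Out P K hlift hH k).del = 0
  | 0, T, x₂, _ => (isZero_zero A).eq_of_tgt _ _
  | k + 1, T, x₂, h => by
    have h' : x₂ ≫ gk P K hlift hH k = 0 := by
      rw [← ιYB_d]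
      exact h
    unfold gk at h'
    rw [← Category.assoc] at h'
    have h'' : x₂ ≫ delK P K hlift hH k = 0 := by
      rw [← cancel_mono (kernel.ι (Out P K hlift hH k).del), h', zero_comp]
    exact h''

/-- conversely. -/
lemma comp_d_eq_zero : ∀ (k : ℕ) ⦃T : A⦄ (x₂ : T ⟶ Tk P K hlift hH k)
    (_ : x₂ ≫ (Out P K hlift hH k).del = 0),
    x₂ ≫ ((P.ι.mapHomologicalComplex (ComplexShape.up ℤ)).obj (YB P K hlift hH)).d
      (Int.negSucc k) (Int.negSucc k + 1) = 0
  | 0, T, x₂, _ => (isZero_ιYB_ofNat P K hlift hH 0).eq_of_tgt _ _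
  | k + 1, T, x₂, h => by
    have h' : x₂ ≫ delK P K hlift hH k = 0 := h
    change x₂ ≫ ((P.ι.mapHomologicalComplex (ComplexShape.up ℤ)).obj (YB P K hlift hH)).d
      (Int.negSucc (k + 1)) (Int.negSucc k) = 0
    rw [ιYB_d]
    have e : x₂ ≫ delK P K hlift hH k ≫ kernel.ι (Out P K hlift hH k).del = 0 := by
      rw [reassoc_of% h', zero_comp]
    exact e

lemma mono_homologyMap_jB (n : ℤ) :
    Mono (HomologicalComplex.homologyMap (jB P K hlift hH) n) := by
  match n with
  | Int.ofNat m =>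
    rw [HomologicalComplex.mono_homologyMap_iff_up_to_refinements (jB P K hlift hH)
      (Int.ofNat m - 1) (Int.ofNat m) (Int.ofNat m + 1) (by simp) (by simp)]
    intro T x₂ _ y₁ _
    exact ⟨T, 𝟙 T, inferInstance, 0, (isZero_ιYB_ofNat P K hlift hH m).eq_of_tgt _ _⟩
  | Int.negSucc k =>
    rw [HomologicalComplex.mono_homologyMap_iff_up_to_refinements (jB P K hlift hH)
      (Int.negSucc (k + 1)) (Int.negSucc k) (Int.negSucc k + 1)
      (by simp [Int.negSucc_eq]; omega) (by simp)]
    intro T x₂ hx₂ y₁ hy₁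
    have h₀ := comp_del_eq_zero P K hlift hH k x₂ hx₂
    have hy₁' : kernel.lift (Out P K hlift hH k).del x₂ h₀ ≫
        kernel.ι (Out P K hlift hH k).del ≫ (Out P K hlift hH k).y =
        y₁ ≫ K.d (Int.negSucc (k + 1)) (Int.negSucc k) := by
      rw [kernel.lift_ι_assoc]
      exact hy₁
    obtain ⟨T', π, hπ, x₁, hx₁⟩ := monoPropK P K hlift hH k _ y₁ hy₁'
    refine ⟨T', π, hπ, x₁, ?_⟩
    rw [ιYB_d]
    have e : π ≫ kernel.lift (Out P K hlift hH k).del x₂ h₀ ≫
        kernel.ι (Out P K hlift hH k).del =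
        x₁ ≫ delK P K hlift hH k ≫ kernel.ι (Out P K hlift hH k).del := by
      rw [reassoc_of% hx₁]
    rw [kernel.lift_ι] at e
    exact e

lemma epi_homologyMap_jB (n : ℤ) :
    Epi (HomologicalComplex.homologyMap (jB P K hlift hH) n) := by
  match n with
  | Int.ofNat m =>
    rw [HomologicalComplex.epi_homologyMap_iff_up_to_refinements (jB P K hlift hH)
      (Int.ofNat m - 1) (Int.ofNat m) (Int.ofNat m + 1) (by simp) (by simp)]
    intro T y₂ _
    have hz : IsZero (K.X (Int.ofNat m)) :=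
      K.isZero_of_isStrictlyLE (-1) (Int.ofNat m) (by change (-1 : ℤ) < (m : ℤ); omega)
    exact ⟨T, 𝟙 T, inferInstance, 0, zero_comp, 0, hz.eq_of_tgt _ _⟩
  | Int.negSucc k =>
    rw [HomologicalComplex.epi_homologyMap_iff_up_to_refinements (jB P K hlift hH)
      (Int.negSucc (k + 1)) (Int.negSucc k) (Int.negSucc k + 1)
      (by simp [Int.negSucc_eq]; omega) (by simp)]
    intro T y₂ hy₂
    obtain ⟨T', π, hπ, x₂, hx₂, c, hc⟩ :=
      (Out P K hlift hH k).epiProp y₂ hy₂ (Int.negSucc (k + 1)) rfl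
    exact ⟨T', π, hπ, x₂, comp_d_eq_zero P K hlift hH k x₂ hx₂, c, hc⟩

instance quasiIso_jB : QuasiIso (jB P K hlift hH) where
  quasiIsoAt n := by
    rw [quasiIsoAt_iff_isIso_homologyMap]
    haveI := mono_homologyMap_jB P K hlift hH n
    haveI := epi_homologyMap_jB P K hlift hH n
    exact isIso_of_mono_of_epi _

end Groth.Agent.Lib.Helper17.DMinus
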