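import Groth.Agent.Lib.Helper17DMinus3
import Mathlib.Algebra.Homology.HomotopyCategory.ShiftSequence

/-!
# Approximating complexes with cohomology in a Serre class: arbitrary bounds (helper17)
-/

set_option autoImplicit false

universe v u

open CategoryTheory CategoryTheory.Limits ZeroObject

namespace Groth.Agent.Lib.Helper17.DMinus

variable {A : Type u} [Category.{v} A] [Abelian A] (P : ObjectProperty A) [P.IsSerreClass]
  [P.IsClosedUnderKernels] [P.IsClosedUnderCokernels] [P.IsClosedUnderFiniteProducts]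
  (hlift : ∀ (X Y : A) (π : X ⟶ Y), Epi π → P Y →
      ∃ (X' : A) (i : X' ⟶ X), Mono i ∧ P X' ∧ Epi (i ≫ π))

include hlift in
/-- **Key lemma.** A bounded above complex with cohomology in `P` receives a quasi-isomorphism
from a bounded above complex of objects of `P`. -/
theorem exists_approx (K : CochainComplex A ℤ) (b : ℤ) [K.IsStrictlyLE b]
    (hH : ∀ n : ℤ, P (K.homology n)) :
    ∃ (Y : CochainComplex P.FullSubcategory ℤ) (_ : Y.IsStrictlyLE b)
      (j : (P.ι.mapHomologicalComplex (ComplexShape.up ℤ)).obj Y ⟶ K), QuasiIso j := by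
  haveI : (K⟦b + 1⟧).IsStrictlyLE (-1) := K.isStrictlyLE_shift b (b + 1) (-1) (by omega)
  have hH' : ∀ n : ℤ, P ((K⟦b + 1⟧).homology n) := fun n =>
    P.prop_of_iso ((CochainComplex.ShiftSequence.shiftIso A (b + 1) n (b + 1 + n) rfl).app K).symm
      (hH _)
  let Y' := YB P (K⟦b + 1⟧) hlift hH'
  let j' := jB P (K⟦b + 1⟧) hlift hH'
  haveI : QuasiIso j' := quasiIso_jB P (K⟦b + 1⟧) hlift hH'
  haveI : (Y'⟦-(b + 1)⟧).IsStrictlyLE b := Y'.isStrictlyLE_shift (-1) (-(b + 1)) b (by omega)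
  refine ⟨Y'⟦-(b + 1)⟧, inferInstance,
    (P.ι.mapCochainComplexShiftIso (-(b + 1))).hom.app Y' ≫ j'⟦-(b + 1)⟧' ≫
      (shiftFunctorCompIsoId (CochainComplex A ℤ) (b + 1) (-(b + 1)) (by omega)).hom.app K, ?_⟩
  infer_instance

end Groth.Agent.Lib.Helper17.DMinus
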