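import Groth.Agent.Lib.Helper17SerreLoc2
import Mathlib.CategoryTheory.Abelian.SerreClass.Localization

/-!
# `D(A) ⥤ D(A/P)` as a Verdier quotient when the quotient functor has a section (helper17)
-/

set_option autoImplicit false

universe w w' v v' u u'

open CategoryTheory CategoryTheory.Limits CategoryTheory.Pretriangulated ZeroObject

namespace Groth.Agent.Lib.Helper17.SerreLoc

section

variable {A : Type u} [Category.{v} A] [Abelian A] [HasDerivedCategory.{w} A]

lemma isZero_iff_homology (X : DerivedCategory A) :
    IsZero X ↔ ∀ n : ℤ, IsZero ((DerivedCategory.homologyFunctor A n).obj X) := by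
  constructor
  · intro hX n
    exact (DerivedCategory.homologyFunctor A n).map_isZero hX
  · intro h
    haveI : IsIso (0 : X ⟶ 0) := by
      rw [DerivedCategory.isIso_iff]
      intro n
      exact ⟨⟨0, (h n).eq_of_src _ _,
        ((DerivedCategory.homologyFunctor A n).map_isZero (isZero_zero _)).eq_of_src _ _⟩⟩
    exact IsZero.of_iso (isZero_zero _) (asIso (0 : X ⟶ 0))

variable {Q : Type u'} [Category.{v'} Q] [Abelian Q] [HasDerivedCategory.{w'} Q]
  (F : A ⥤ Q) [F.Additive] [PreservesFiniteLimits F] [PreservesFiniteColimits F]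

/-- homology commutes with the functor induced by an exact functor. -/
noncomputable def homologyMapDerivedCategoryIso (K : CochainComplex A ℤ) (n : ℤ) :
    (DerivedCategory.homologyFunctor Q n).obj
        (F.mapDerivedCategory.obj (DerivedCategory.Q.obj K)) ≅
      F.obj ((DerivedCategory.homologyFunctor A n).obj (DerivedCategory.Q.obj K)) :=
  (DerivedCategory.homologyFunctor Q n).mapIso (F.mapDerivedCategoryFactors.app K) ≪≫
    (DerivedCategory.homologyFunctorFactors Q n).app _ ≪≫
    ((K.sc n).mapHomologyIso F) ≪≫
    F.mapIso ((DerivedCategory.homologyFunctorFactors A n).app K).symm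

end

variable {A : Type u} [Category.{v} A] [Abelian A] [HasDerivedCategory.{w} A]
  (P : ObjectProperty A) [P.IsSerreClass]
  {Q : Type u'} [Category.{v'} Q] [Abelian Q] [HasDerivedCategory.{w'} Q]
  (L : A ⥤ Q) [L.IsLocalization P.isoModSerre] [L.Additive]
  [PreservesFiniteLimits L] [PreservesFiniteColimits L]

/-- complexes with cohomology in `P`. -/
def S : ObjectProperty (DerivedCategory A) :=
  fun X => ∀ n : ℤ, P ((DerivedCategory.homologyFunctor A n).obj X)

instance : (S P).IsClosedUnderIsomorphisms where
  of_iso e h n := P.prop_of_iso ((DerivedCategory.homologyFunctor A n).mapIso e) (h n)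

lemma isZero_mapDerivedCategory_obj_iff (X : DerivedCategory A) :
    IsZero (L.mapDerivedCategory.obj X) ↔ S P X := by
  let e := DerivedCategory.Q.objObjPreimageIso X
  rw [← (S P).prop_iff_of_iso e, ← (L.mapDerivedCategory.mapIso e).isZero_iff,
    isZero_iff_homology]
  refine forall_congr' (fun n => ?_)
  rw [(homologyMapDerivedCategoryIso L _ n).isZero_iff,
    ObjectProperty.SerreClassLocalization.isZero_obj_iff L P]

lemma W₂_eq_trW : W₂ L = (S P).trW := by
  ext X Y f
  obtain ⟨Z, g, h, hT⟩ := distinguished_cocone_triangle f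
  have h₁ : (S P).trW f ↔ S P Z := (S P).trW_iff_of_distinguished _ hT
  have h₂ : IsZero (L.mapDerivedCategory.obj Z) ↔ IsIso (L.mapDerivedCategory.map f) :=
    Triangle.isZero₃_iff_isIso₁ _ (L.mapDerivedCategory.map_distinguished _ hT)
  rw [W₂_iff, ← h₂, h₁, isZero_mapDerivedCategory_obj_iff P L]

variable (G : Q ⥤ A) (adj : G ⊣ L) [IsIso adj.unit]

include adj in
/-- `D(A) ⥤ D(A/P)` is the Verdier quotient by `D_P(A)` when `A ⥤ A/P` has a section. -/
theorem isLocalization_trW : L.mapDerivedCategory.IsLocalization (S P).trW := by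
  rw [← W₂_eq_trW P L]
  exact isLocalization_mapDerivedCategory L G adj

end Groth.Agent.Lib.Helper17.SerreLoc
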