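import Groth.Agent.Lib.Helper17DMinus4
import Groth.Agent.Lib.Helper17SerreLoc3
import Mathlib.Algebra.Homology.DerivedCategory.TStructure

/-!
# `D⁻(P) ≃ D⁻_P(A)` for a Serre class with the lifting property (helper17)
-/

set_option autoImplicit false

universe w w' v u

open CategoryTheory CategoryTheory.Limits ZeroObject CategoryTheory.Pretriangulated

namespace Groth.Agent.Lib.Helper17.DMinus

open Groth.Agent.Lib.Helper17.SerreLoc

variable {A : Type u} [Category.{v} A] [Abelian A] [HasDerivedCategory.{w} A]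
  (P : ObjectProperty A) [P.IsSerreClass]
  [P.IsClosedUnderKernels] [P.IsClosedUnderCokernels] [P.IsClosedUnderFiniteProducts]
  [HasDerivedCategory.{w'} P.FullSubcategory]
  [PreservesFiniteLimits P.ι] [PreservesFiniteColimits P.ι]
  (hlift : ∀ (X Y : A) (π : X ⟶ Y), Epi π → P Y →
      ∃ (X' : A) (i : X' ⟶ X), Mono i ∧ P X' ∧ Epi (i ≫ π))

/-- the homology of the image of a complex of `P`-objects lies in `P`. -/
lemma prop_homology_map (M : CochainComplex P.FullSubcategory ℤ) (n : ℤ) :
    P (((P.ι.mapHomologicalComplex (ComplexShape.up ℤ)).obj M).homology n) :=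
  P.prop_of_iso ((M.sc n).mapHomologyIso P.ι).symm (M.homology n).property

include hlift in
/-- essential surjectivity. -/
theorem exists_preimage (K : DerivedCategory A) (b : ℤ) [K.IsLE b]
    (hK : ∀ n : ℤ, P ((DerivedCategory.homologyFunctor A n).obj K)) :
    ∃ M : DerivedCategory P.FullSubcategory, M.IsLE b ∧
      Nonempty (P.ι.mapDerivedCategory.obj M ≅ K) := by
  obtain ⟨K', hK', ⟨e⟩⟩ := K.exists_iso_Q_obj_of_isLE b
  have hH : ∀ n : ℤ, P (K'.homology n) := fun n =>
    P.prop_of_iso ((DerivedCategory.homologyFunctor A n).mapIso e ≪≫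
      (DerivedCategory.homologyFunctorFactors A n).app K') (hK n)
  obtain ⟨Y, hY, j, hj⟩ := exists_approx P hlift K' b hH
  haveI : IsIso (DerivedCategory.Q.map j) := by
    rw [DerivedCategory.isIso_Q_map_iff_quasiIso]
    exact hj
  exact ⟨DerivedCategory.Q.obj Y, inferInstance,
    ⟨P.ι.mapDerivedCategoryFactors.app Y ≪≫ asIso (DerivedCategory.Q.map j) ≪≫ e.symm⟩⟩

include hlift in
/-- fullness on complexes. -/
theorem map_surjective_Q (M' N' : CochainComplex P.FullSubcategory ℤ) (b : ℤ)
    [M'.IsStrictlyLE b] [N'.IsStrictlyLE b]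
    (ψ : P.ι.mapDerivedCategory.obj (DerivedCategory.Q.obj M') ⟶
      P.ι.mapDerivedCategory.obj (DerivedCategory.Q.obj N')) :
    ∃ φ : DerivedCategory.Q.obj M' ⟶ DerivedCategory.Q.obj N',
      P.ι.mapDerivedCategory.map φ = ψ := by
  let F := P.ι.mapDerivedCategoryFactors
  haveI : CochainComplex.IsStrictlyLE
      ((P.ι.mapHomologicalComplex (ComplexShape.up ℤ)).obj M') b := by
    rw [CochainComplex.isStrictlyLE_mapHomologicalComplex_obj_iff]
    infer_instance
  obtain ⟨K, hK, s, hs, g, hfac⟩ := DerivedCategory.right_fac_of_isStrictlyLE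
    (F.inv.app M' ≫ ψ ≫ F.hom.app N') b
  haveI : QuasiIso s := by
    rw [← DerivedCategory.isIso_Q_map_iff_quasiIso]
    exact hs
  have hH : ∀ n : ℤ, P (K.homology n) := fun n =>
    P.prop_of_iso (asIso (HomologicalComplex.homologyMap s n)).symm (prop_homology_map P M' n)
  obtain ⟨Y, hY, j, hj⟩ := exists_approx P hlift K b hH
  haveI := hj
  let s' : Y ⟶ M' := (P.ι.mapHomologicalComplex (ComplexShape.up ℤ)).preimage (j ≫ s)
  let g' : Y ⟶ N' := (P.ι.mapHomologicalComplex (ComplexShape.up ℤ)).preimage (j ≫ g)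
  have hs' : (P.ι.mapHomologicalComplex (ComplexShape.up ℤ)).map s' = j ≫ s :=
    Functor.map_preimage _ _
  have hg' : (P.ι.mapHomologicalComplex (ComplexShape.up ℤ)).map g' = j ≫ g :=
    Functor.map_preimage _ _
  haveI : QuasiIso s' := by
    rw [← HomologicalComplex.quasiIso_map_iff_of_preservesHomology s' P.ι, hs']
    infer_instance
  haveI : IsIso (DerivedCategory.Q.map s') := by
    rw [DerivedCategory.isIso_Q_map_iff_quasiIso]
    infer_instance
  haveI : IsIso (DerivedCategory.Q.map j) := by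
    rw [DerivedCategory.isIso_Q_map_iff_quasiIso]
    infer_instance
  refine ⟨inv (DerivedCategory.Q.map s') ≫ DerivedCategory.Q.map g', ?_⟩
  have h₁ : P.ι.mapDerivedCategory.map (DerivedCategory.Q.map s') =
      F.hom.app Y ≫ DerivedCategory.Q.map j ≫ DerivedCategory.Q.map s ≫ F.inv.app M' := by
    rw [← cancel_mono (F.hom.app M'), P.ι.mapDerivedCategoryFactors_hom_naturality, hs']
    simp [F]
  have h₂ : P.ι.mapDerivedCategory.map (DerivedCategory.Q.map g') =
      F.hom.app Y ≫ DerivedCategory.Q.map j ≫ DerivedCategory.Q.map g ≫ F.inv.app N' := by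
    rw [← cancel_mono (F.hom.app N'), P.ι.mapDerivedCategoryFactors_hom_naturality, hg']
    simp [F]
  have h₃ : ψ = F.hom.app M' ≫ inv (DerivedCategory.Q.map s) ≫ DerivedCategory.Q.map g ≫
      F.inv.app N' := by
    have := congrArg (fun t => F.hom.app M' ≫ t ≫ F.inv.app N') hfac
    simp only [Category.assoc, Iso.hom_inv_id_app_assoc, Iso.hom_inv_id_app] at this
    exact (Category.comp_id _).symm.trans this
  rw [Functor.map_comp, Functor.map_inv, h₂, h₃, ← cancel_epi
    (P.ι.mapDerivedCategory.map (DerivedCategory.Q.map s')), IsIso.hom_inv_id_assoc, h₁]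
  simp

end Groth.Agent.Lib.Helper17.DMinus
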