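import Groth.Agent.Lib.Helper17DMinus5
import Mathlib.CategoryTheory.Triangulated.TStructure.TruncLTGE

/-!
# `D⁻(P) ≃ D⁻_P(A)` for a Serre class with the lifting property: full faithfulness (helper17)
-/

set_option autoImplicit false

universe w w' v u

open CategoryTheory CategoryTheory.Limits ZeroObject CategoryTheory.Pretriangulated

namespace Groth.Agent.Lib.Helper17.DMinus

open Groth.Agent.Lib.Helper17.SerreLoc

variable {A : Type u} [Category.{v} A] [Abelian A] [HasDerivedCategory.{w} A]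
  (P : ObjectProperty A) [P.IsSerreClass]
  [P.IsClosedUnderKernels] [P.IsClosedUnderCokernels] [P.IsClosedUnderFiniteProducts]
  [HasDerivedCategory.{w'} P.FullSubcategory]
  [PreservesFiniteLimits P.ι] [PreservesFiniteColimits P.ι]
  (hlift : ∀ (X Y : A) (π : X ⟶ Y), Epi π → P Y →
      ∃ (X' : A) (i : X' ⟶ X), Mono i ∧ P X' ∧ Epi (i ≫ π))

include hlift in
/-- fullness on bounded above objects. -/
theorem map_surjective (M N : DerivedCategory P.FullSubcategory) (b : ℤ) [M.IsLE b] [N.IsLE b]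
    (ψ : P.ι.mapDerivedCategory.obj M ⟶ P.ι.mapDerivedCategory.obj N) :
    ∃ φ : M ⟶ N, P.ι.mapDerivedCategory.map φ = ψ := by
  obtain ⟨M', hM', ⟨eM⟩⟩ := M.exists_iso_Q_obj_of_isLE b
  obtain ⟨N', hN', ⟨eN⟩⟩ := N.exists_iso_Q_obj_of_isLE b
  obtain ⟨φ₀, hφ₀⟩ := map_surjective_Q P hlift M' N' b
    (P.ι.mapDerivedCategory.map eM.inv ≫ ψ ≫ P.ι.mapDerivedCategory.map eN.hom)
  refine ⟨eM.hom ≫ φ₀ ≫ eN.inv, ?_⟩
  rw [Functor.map_comp, Functor.map_comp, hφ₀]
  simp only [Category.assoc, ← Functor.map_comp, Iso.hom_inv_id,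
    CategoryTheory.Functor.map_id, Category.comp_id]
  rw [← Functor.map_comp_assoc, Iso.hom_inv_id, CategoryTheory.Functor.map_id, Category.id_comp]

/-- the functor on derived categories reflects zero objects. -/
theorem isZero_of_isZero_obj (X : DerivedCategory P.FullSubcategory)
    (h : IsZero (P.ι.mapDerivedCategory.obj X)) : IsZero X := by
  let e := DerivedCategory.Q.objObjPreimageIso X
  refine IsZero.of_iso ?_ e.symm
  have h' : IsZero (P.ι.mapDerivedCategory.obj (DerivedCategory.Q.obj (DerivedCategory.Q.objPreimage X))) :=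
    IsZero.of_iso h (P.ι.mapDerivedCategory.mapIso e)
  rw [isZero_iff_homology] at h' ⊢
  intro n
  have h₁ : IsZero (P.ι.obj ((DerivedCategory.homologyFunctor P.FullSubcategory n).obj
      (DerivedCategory.Q.obj (DerivedCategory.Q.objPreimage X)))) :=
    IsZero.of_iso (h' n) (homologyMapDerivedCategoryIso P.ι _ n).symm
  rw [IsZero.iff_id_eq_zero] at h₁ ⊢
  apply P.ι.map_injective
  rw [CategoryTheory.Functor.map_id, h₁, Functor.map_zero]

/-- the functor on derived categories reflects isomorphisms. -/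
theorem isIso_of_isIso_map {X Y : DerivedCategory P.FullSubcategory} (u : X ⟶ Y)
    (h : IsIso (P.ι.mapDerivedCategory.map u)) : IsIso u := by
  obtain ⟨W, a, c, hT⟩ := distinguished_cocone_triangle u
  have hT' := P.ι.mapDerivedCategory.map_distinguished _ hT
  have hW : IsZero (P.ι.mapDerivedCategory.obj W) :=
    (Triangle.isZero₃_iff_isIso₁ _ hT').2 h
  exact (Triangle.isZero₃_iff_isIso₁ _ hT).1 (isZero_of_isZero_obj P W hW)

include hlift in
/-- faithfulness on bounded above objects. -/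
theorem map_injective (M N : DerivedCategory P.FullSubcategory) (b : ℤ) [M.IsLE b] [N.IsLE b]
    (φ : M ⟶ N) (hφ : P.ι.mapDerivedCategory.map φ = 0) : φ = 0 := by
  obtain ⟨C, g, c, hT⟩ := distinguished_cocone_triangle φ
  have hT' := P.ι.mapDerivedCategory.map_distinguished _ hT
  -- the cone is bounded above
  haveI : C.IsLE b := by
    haveI : (M⟦(1 : ℤ)⟧).IsLE b := by
      haveI : (M⟦(1 : ℤ)⟧).IsLE (b - 1) :=
        DerivedCategory.TStructure.t.isLE_shift M b 1 (b - 1) (by omega)
      exact DerivedCategory.TStructure.t.isLE_of_le _ (b - 1) b (by omega)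
    exact DerivedCategory.TStructure.t.isLE₂ _ (rot_of_distTriang _ hT) b
      (inferInstanceAs (N.IsLE b)) (inferInstanceAs ((M⟦(1 : ℤ)⟧).IsLE b))
  -- a retraction of the image of `g`
  have h1 : P.ι.mapDerivedCategory.map φ ≫ 𝟙 (P.ι.mapDerivedCategory.obj N) = 0 := by
    rw [hφ, zero_comp]
  obtain ⟨r, hr⟩ : ∃ r : P.ι.mapDerivedCategory.obj C ⟶ P.ι.mapDerivedCategory.obj N,
      𝟙 (P.ι.mapDerivedCategory.obj N) = P.ι.mapDerivedCategory.map g ≫ r :=
    Triangle.yoneda_exact₂ _ hT' (𝟙 (P.ι.mapDerivedCategory.obj N)) h1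
  obtain ⟨r', rfl⟩ := map_surjective P hlift C N b r
  have hu : IsIso (g ≫ r') := by
    apply isIso_of_isIso_map P
    rw [Functor.map_comp, ← hr]
    infer_instance
  have h0 : φ ≫ g = 0 := comp_distTriang_mor_zero₁₂ _ hT
  rw [← cancel_mono (g ≫ r'), reassoc_of% h0, zero_comp, zero_comp]

include hlift in
/-- **Main theorem.** -/
theorem main :
    (∀ (M N : DerivedCategory P.FullSubcategory) (b : ℤ), M.IsLE b → N.IsLE b →
      Function.Bijective (fun φ : M ⟶ N => P.ι.mapDerivedCategory.map φ)) ∧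
    ∀ (K : DerivedCategory A) (b : ℤ), K.IsLE b →
      (∀ n : ℤ, P ((DerivedCategory.homologyFunctor A n).obj K)) →
      ∃ M : DerivedCategory P.FullSubcategory, M.IsLE b ∧
        Nonempty (P.ι.mapDerivedCategory.obj M ≅ K) := by
  refine ⟨fun M N b hM hN => ⟨?_, fun ψ => map_surjective P hlift M N b ψ⟩,
    fun K b hK h => exists_preimage P hlift K b h⟩
  intro φ₁ φ₂ h
  dsimp at h
  rw [← sub_eq_zero]
  apply map_injective P hlift M N b
  rw [Functor.map_sub, h, sub_self]

end Groth.Agent.Lib.Helper17.DMinus
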