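import Mathlib.CategoryTheory.Triangulated.Subcategory
import Mathlib.CategoryTheory.Triangulated.Yoneda
import Mathlib.CategoryTheory.Adjunction.Comma

/-!
# Coreflections onto a triangulated subcategory are closed under cones (helper17)

Let `P` be a full subcategory of a pretriangulated category `C`, stable under shifts and cones.
Say that `ε : Q ⟶ K` is `P`-universal if `Q ∈ P` and composition with `ε` is a bijection
`Hom(Q', Q) → Hom(Q', K)` for every `Q' ∈ P`; say that `K` is *good* if it admits a `P`-universal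
arrow.  Good objects are stable under isomorphisms, shifts and cones.  If every object is good,
the inclusion of `P` has a right adjoint.
-/

set_option autoImplicit false

universe v u

open CategoryTheory CategoryTheory.Limits Pretriangulated

namespace Groth.Agent.Lib.Helper17.DQAdj

variable {C : Type u} [Category.{v} C]

/-- `ε : Q ⟶ K` is `P`-universal: composition with `ε` is bijective on maps from objects of `P`. -/
def IsUniv (P : ObjectProperty C) {Q K : C} (ε : Q ⟶ K) : Prop :=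
  ∀ Q' : C, P Q' → Function.Bijective (fun φ : Q' ⟶ Q => φ ≫ ε)

/-- `K` admits a `P`-universal arrow from an object of `P`. -/
def Good (P : ObjectProperty C) (K : C) : Prop :=
  ∃ (Q : C) (_ : P Q) (ε : Q ⟶ K), IsUniv P ε

lemma IsUniv.comp_iso (P : ObjectProperty C) {Q K K' : C} {ε : Q ⟶ K} (h : IsUniv P ε)
    (e : K ≅ K') : IsUniv P (ε ≫ e.hom) := by
  intro Q' hQ'
  have h1 := h Q' hQ'
  have h2 : (fun φ : Q' ⟶ Q => φ ≫ ε ≫ e.hom) = (fun ψ : Q' ⟶ K => ψ ≫ e.hom) ∘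
      (fun φ : Q' ⟶ Q => φ ≫ ε) := by
    funext φ
    simp
  rw [h2]
  refine Function.Bijective.comp ?_ h1
  exact ⟨fun a b hab => by simpa using hab, fun c => ⟨c ≫ e.inv, by simp⟩⟩

lemma Good.of_iso (P : ObjectProperty C) {K K' : C} (e : K ≅ K') (h : Good P K) : Good P K' := by
  obtain ⟨Q, hQ, ε, hε⟩ := h
  exact ⟨Q, hQ, ε ≫ e.hom, hε.comp_iso P e⟩

section Adj

variable {D : Type*} [Category D]

/-- a right adjoint `G` of a functor `F` sending `P'` into `P` sends `P`-universal arrows to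
`P'`-universal arrows. -/
lemma IsUniv.map_of_adjunction (P : ObjectProperty C) (P' : ObjectProperty D) {F : D ⥤ C}
    {G : C ⥤ D} (adj : F ⊣ G) (hF : ∀ A : D, P' A → P (F.obj A)) {Q K : C} {ε : Q ⟶ K}
    (h : IsUniv P ε) : IsUniv P' (G.map ε) := by
  intro Q' hQ'
  have hb := h (F.obj Q') (hF _ hQ')
  have h2 : (fun φ : Q' ⟶ G.obj Q => φ ≫ G.map ε) = (adj.homEquiv Q' K) ∘
      (fun ψ : F.obj Q' ⟶ Q => ψ ≫ ε) ∘ (adj.homEquiv Q' Q).symm := by
    funext φ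
    have := adj.homEquiv_naturality_right ((adj.homEquiv Q' Q).symm φ) ε
    simp only [Function.comp_apply]
    rw [this, Equiv.apply_symm_apply]
  rw [h2]
  exact (adj.homEquiv Q' K).bijective.comp (hb.comp (adj.homEquiv Q' Q).symm.bijective)

/-- the counit of an adjunction `F ⊣ G` with `F` fully faithful is universal with respect to the
essential image of `F`. -/
lemma isUniv_counit (P : ObjectProperty C) {F : D ⥤ C} {G : C ⥤ D} (adj : F ⊣ G) [F.Full]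
    [F.Faithful] (hP : ∀ Q' : C, P Q' → ∃ M : D, Nonempty (F.obj M ≅ Q')) (L : C) :
    IsUniv P (adj.counit.app L) := by
  intro Q' hQ'
  obtain ⟨M, ⟨e⟩⟩ := hP Q' hQ'
  constructor
  · intro φ φ' h
    change φ ≫ adj.counit.app L = φ' ≫ adj.counit.app L at h
    obtain ⟨g, hg⟩ := F.map_surjective (e.hom ≫ φ)
    obtain ⟨g', hg'⟩ := F.map_surjective (e.hom ≫ φ')
    have h1 : (adj.homEquiv M L).symm g = (adj.homEquiv M L).symm g' := by
      rw [Adjunction.homEquiv_counit, Adjunction.homEquiv_counit, hg, hg', Category.assoc,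
        Category.assoc, h]
    have h2 : g = g' := (adj.homEquiv M L).symm.injective h1
    have h3 : e.hom ≫ φ = e.hom ≫ φ' := by rw [← hg, ← hg', h2]
    exact (cancel_epi e.hom).1 h3
  · intro ψ
    refine ⟨e.inv ≫ F.map (adj.homEquiv M L (e.hom ≫ ψ)), ?_⟩
    change (e.inv ≫ F.map (adj.homEquiv M L (e.hom ≫ ψ))) ≫ adj.counit.app L = ψ
    have h1 : F.map (adj.homEquiv M L (e.hom ≫ ψ)) ≫ adj.counit.app L = e.hom ≫ ψ := by
      have h0 := adj.homEquiv_counit M L (adj.homEquiv M L (e.hom ≫ ψ))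
      rw [Equiv.symm_apply_apply] at h0
      exact h0.symm
    rw [Category.assoc, h1, e.inv_hom_id_assoc]

end Adj

section Shift

variable [Preadditive C] [HasShift C ℤ]

lemma IsUniv.shift (P : ObjectProperty C) (hshift : ∀ (A : C) (n : ℤ), P A → P (A⟦n⟧))
    {Q K : C} {ε : Q ⟶ K} (h : IsUniv P ε) (n : ℤ) : IsUniv P (ε⟦n⟧') :=
  h.map_of_adjunction P P (shiftEquiv C n).symm.toAdjunction (fun A hA => hshift A (-n) hA)

lemma Good.shift (P : ObjectProperty C) (hshift : ∀ (A : C) (n : ℤ), P A → P (A⟦n⟧))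
    {K : C} (h : Good P K) (n : ℤ) : Good P (K⟦n⟧) := by
  obtain ⟨Q, hQ, ε, hε⟩ := h
  exact ⟨Q⟦n⟧, hshift _ _ hQ, ε⟦n⟧', hε.shift P hshift n⟩

end Shift

section Tri

variable [HasZeroObject C] [HasShift C ℤ] [Preadditive C]
  [∀ n : ℤ, (shiftFunctor C n).Additive] [Pretriangulated C]

/-- Good objects are closed under cones. -/
theorem Good.obj₃ (P : ObjectProperty C) (hshift : ∀ (A : C) (n : ℤ), P A → P (A⟦n⟧))
    (hcone : ∀ T : Triangle C, T ∈ distTriang C → P T.obj₁ → P T.obj₂ → P T.obj₃)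
    (T : Triangle C) (hT : T ∈ distTriang C) (h₁ : Good P T.obj₁) (h₂ : Good P T.obj₂) :
    Good P T.obj₃ := by
  obtain ⟨Q₁, hQ₁, ε₁, hε₁⟩ := h₁
  obtain ⟨Q₂, hQ₂, ε₂, hε₂⟩ := h₂
  -- the induced map `u : Q₁ ⟶ Q₂`
  obtain ⟨u, hu⟩ := (hε₂ Q₁ hQ₁).2 (ε₁ ≫ T.mor₁)
  change u ≫ ε₂ = ε₁ ≫ T.mor₁ at hu
  obtain ⟨Q₃, q, w, hTQ⟩ := distinguished_cocone_triangle u
  have hQ₃ : P Q₃ := hcone _ hTQ hQ₁ hQ₂
  obtain ⟨c, hc₁, hc₂⟩ : ∃ c : Q₃ ⟶ T.obj₃, q ≫ c = ε₂ ≫ T.mor₂ ∧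
      w ≫ ε₁⟦(1 : ℤ)⟧' = c ≫ T.mor₃ :=
    complete_distinguished_triangle_morphism _ _ hTQ hT ε₁ ε₂ hu
  have hε₁s := hε₁.shift P hshift 1
  have hε₂s := hε₂.shift P hshift 1
  refine ⟨Q₃, hQ₃, c, fun Q' hQ' => ⟨?_, ?_⟩⟩
  · -- injectivity
    suffices H : ∀ φ₃ : Q' ⟶ Q₃, φ₃ ≫ c = 0 → φ₃ = 0 by
      intro a b hab
      have := H (a - b) (by
        change a ≫ c = b ≫ c at hab
        rw [Preadditive.sub_comp, hab, sub_self])
      exact sub_eq_zero.1 this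
    intro φ₃ h0
    have h1 : φ₃ ≫ w = 0 := by
      apply (hε₁s Q' hQ').1
      change (φ₃ ≫ w) ≫ ε₁⟦(1 : ℤ)⟧' = 0 ≫ ε₁⟦(1 : ℤ)⟧'
      rw [Category.assoc, hc₂, ← Category.assoc, h0, zero_comp, zero_comp]
    obtain ⟨χ', hχ'⟩ : ∃ χ' : Q' ⟶ Q₂, φ₃ = χ' ≫ q := Triangle.coyoneda_exact₃ _ hTQ φ₃ h1
    have h2 : (χ' ≫ ε₂) ≫ T.mor₂ = 0 := by
      rw [Category.assoc, ← hc₁, ← Category.assoc, ← hχ', h0]
    obtain ⟨ξ, hξ⟩ := Triangle.coyoneda_exact₂ _ hT (χ' ≫ ε₂) h2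
    obtain ⟨ξ', hξ'⟩ := (hε₁ Q' hQ').2 ξ
    change ξ' ≫ ε₁ = ξ at hξ'
    have h3 : χ' = ξ' ≫ u := by
      apply (hε₂ Q' hQ').1
      change χ' ≫ ε₂ = (ξ' ≫ u) ≫ ε₂
      rw [Category.assoc, hu, ← Category.assoc, hξ', hξ]
    rw [hχ', h3, Category.assoc]
    have h4 : u ≫ q = 0 := comp_distTriang_mor_zero₁₂ _ hTQ
    rw [h4, comp_zero]
  · -- surjectivity
    intro ψ
    obtain ⟨φ₁', hφ₁'⟩ := (hε₁s Q' hQ').2 (ψ ≫ T.mor₃)
    change φ₁' ≫ ε₁⟦(1 : ℤ)⟧' = ψ ≫ T.mor₃ at hφ₁'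
    have h1 : φ₁' ≫ u⟦(1 : ℤ)⟧' = 0 := by
      apply (hε₂s Q' hQ').1
      change (φ₁' ≫ u⟦(1 : ℤ)⟧') ≫ ε₂⟦(1 : ℤ)⟧' = 0 ≫ ε₂⟦(1 : ℤ)⟧'
      rw [Category.assoc, ← Functor.map_comp, hu, Functor.map_comp, ← Category.assoc, hφ₁',
        Category.assoc, zero_comp]
      have := comp_distTriang_mor_zero₃₁ _ hT
      rw [this, comp_zero]
    obtain ⟨φ₃, hφ₃⟩ : ∃ φ₃ : Q' ⟶ Q₃, φ₁' = φ₃ ≫ w := Triangle.coyoneda_exact₁ _ hTQ φ₁' h1
    have h2 : (φ₃ ≫ c - ψ) ≫ T.mor₃ = 0 := by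
      rw [Preadditive.sub_comp, Category.assoc, ← hc₂, ← Category.assoc, ← hφ₃, hφ₁', sub_self]
    obtain ⟨χ, hχ⟩ := Triangle.coyoneda_exact₃ _ hT _ h2
    obtain ⟨χ', hχ'⟩ := (hε₂ Q' hQ').2 χ
    change χ' ≫ ε₂ = χ at hχ'
    refine ⟨φ₃ - χ' ≫ q, ?_⟩
    change (φ₃ - χ' ≫ q) ≫ c = ψ
    rw [Preadditive.sub_comp, Category.assoc, hc₁, ← Category.assoc, hχ', ← hχ]
    abel

/-- Good objects are closed under binary biproducts. -/
theorem Good.biprod (P : ObjectProperty C) (hshift : ∀ (A : C) (n : ℤ), P A → P (A⟦n⟧))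
    (hcone : ∀ T : Triangle C, T ∈ distTriang C → P T.obj₁ → P T.obj₂ → P T.obj₃)
    {A B : C} [HasBinaryBiproduct A B] (hA : Good P A) (hB : Good P B) : Good P (A ⊞ B) :=
  Good.obj₃ P hshift hcone (binaryBiproductTriangle A B).invRotate
    (inv_rot_of_distTriang _ (binaryBiproductTriangle_distinguished A B))
    (hB.shift P hshift (-1)) hA

/-- Good objects are closed under cocones: if `K₁ ⟶ K₂ ⟶ K₃ ⟶ K₁⟦1⟧` is distinguished and
`K₂`, `K₃` are good, so is `K₁`. -/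
theorem Good.obj₁ (P : ObjectProperty C) (hshift : ∀ (A : C) (n : ℤ), P A → P (A⟦n⟧))
    (hcone : ∀ T : Triangle C, T ∈ distTriang C → P T.obj₁ → P T.obj₂ → P T.obj₃)
    (T : Triangle C) (hT : T ∈ distTriang C) (h₂ : Good P T.obj₂) (h₃ : Good P T.obj₃) :
    Good P T.obj₁ := by
  have h := Good.obj₃ P hshift hcone T.rotate (rot_of_distTriang _ hT) h₂ h₃
  have h' := h.shift P hshift (-1)
  exact Good.of_iso P ((shiftEquiv C (1 : ℤ)).unitIso.app T.obj₁).symm h'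

end Tri

/-- If every object is good, the inclusion of `P` has a right adjoint. -/
theorem isLeftAdjoint_ι_of_good (P : ObjectProperty C) (h : ∀ K : C, Good P K) :
    P.ι.IsLeftAdjoint := by
  rw [isLeftAdjoint_iff_hasTerminal_costructuredArrow]
  intro K
  obtain ⟨Q, hQ, ε, hε⟩ := h K
  let t : CostructuredArrow P.ι K :=
    CostructuredArrow.mk (Y := (⟨Q, hQ⟩ : P.FullSubcategory)) (f := ε)
  have ht : IsTerminal t := by
    refine IsTerminal.ofUniqueHom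
      (fun s => CostructuredArrow.homMk
        (P.homMk ((hε s.left.obj s.left.property).2 s.hom).choose)
        (((hε s.left.obj s.left.property).2 s.hom).choose_spec)) ?_
    intro s m
    apply CostructuredArrow.hom_ext
    apply P.hom_ext
    apply (hε s.left.obj s.left.property).1
    have h1 := CostructuredArrow.w m
    have h2 := ((hε s.left.obj s.left.property).2 s.hom).choose_spec
    exact h1.trans h2.symm
  exact ht.hasTerminal

end Groth.Agent.Lib.Helper17.DQAdj
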