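import Groth.Agent.Lib.Helper17DQAdj1
import Groth.Agent.Lib.Helper17AffPush7
import Groth.Agent.Lib.Helper17AffPush6
import Groth.Agent.Lib.Helper17Hyp19
import Groth.Agent.Lib.Helper17MV4
import Groth.Agent.Lib.Helper17TildeD4
import Groth.Agent.Lib.Helper1KoszulPerf
import Groth.Agent.S0997
import Groth.Agent.S0015

/-!
# The inclusion `D_QCoh(O_X) ⥤ D(O_X)` has a right adjoint, `X` quasi-compact quasi-separated
(helper17)
-/

set_option autoImplicit false
set_option linter.style.haveILetI false
set_option maxHeartbeats 400000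

universe u

open CategoryTheory CategoryTheory.Limits Opposite AlgebraicGeometry TopologicalSpace
  Pretriangulated

attribute [local instance] HasDerivedCategory.standard

namespace Groth.Agent.Lib.Helper17.DQAdj

open Groth.Agent.Lib.Helper17.MV Groth.Agent.Lib.Helper17.KInj Groth.Agent.Lib.Helper17.AffPush
  Groth.Agent.Lib.Helper17.QCPush

attribute [local instance] Groth.Agent.Lib.Helper17.QCPush.hasRpush

section Closure

variable {X : Scheme.{u}}

lemma isQCohD_shift (K : DCoh.D X) (n : ℤ) (h : DCoh.IsQCohD K) : DCoh.IsQCohD (K⟦n⟧) := fun i =>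
  isQuasicoherent_of_iso
    (((DerivedCategory.homologyFunctor X.Modules 0).shiftIso n i (n + i) rfl).app K).symm (h _)

lemma isQCohD_obj₃ (T : Triangle (DCoh.D X)) (hT : T ∈ distTriang (DCoh.D X))
    (h₁ : DCoh.IsQCohD T.obj₁) (h₂ : DCoh.IsQCohD T.obj₂) : DCoh.IsQCohD T.obj₃ := by
  have h := isQCohD_obj₁ T.invRotate (inv_rot_of_distTriang _ hT) h₁ h₂
  have h' := isQCohD_shift _ 1 h
  exact isQCohD_of_iso ((shiftEquiv (DCoh.D X) (1 : ℤ)).counitIso.app T.obj₃) h'

end Closure

section Adj

variable {X U : Scheme.{u}} (j : U ⟶ X) [IsOpenImmersion j]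

/-- the derived adjunction `j^* ⊣ Rj_*` for an open immersion. -/
noncomputable def adjD : DCoh.restrictD j ⊣ DCoh.Rpush j :=
  haveI := isGrothendieckAbelian U
  derivedAdjunction (Scheme.Modules.restrictFunctor j) (Scheme.Modules.pushforward j)
    (Scheme.Modules.restrictAdjunction j) (DCoh.Rpush j) (rpushUnit j)

instance isIso_adjD_counit : IsIso (adjD j).counit := by
  haveI := isGrothendieckAbelian U
  unfold adjD
  infer_instance

/-- `Rj_*` preserves good objects, `j` a quasi-compact open immersion. -/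
theorem good_rpush [QuasiCompact j] (L : DCoh.D U) (hL : Good (DCoh.IsQCohD (X := U)) L) :
    Good (DCoh.IsQCohD (X := X)) ((DCoh.Rpush j).obj L) := by
  obtain ⟨Q, hQ, ε, hε⟩ := hL
  exact ⟨(DCoh.Rpush j).obj Q, isQCohD_rpush j Q hQ, (DCoh.Rpush j).map ε,
    hε.map_of_adjunction _ _ (adjD j) (fun A hA => isQCohD_restrictD' j A hA)⟩

end Adj

end Groth.Agent.Lib.Helper17.DQAdj
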