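import Groth.Agent.Lib.Helper17DQAdj2

/-!
# The inclusion `D_QCoh(O_X) ⥤ D(O_X)` has a right adjoint, `X` quasi-compact quasi-separated
(helper17): transport along isomorphisms, the affine case, the induction
-/

set_option autoImplicit false
set_option linter.style.haveILetI false
set_option maxHeartbeats 400000

universe u

open CategoryTheory CategoryTheory.Limits Opposite AlgebraicGeometry TopologicalSpace
  Pretriangulated

attribute [local instance] HasDerivedCategory.standard

namespace Groth.Agent.Lib.Helper17.DQAdj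

open Groth.Agent.Lib.Helper17.MV Groth.Agent.Lib.Helper17.KInj Groth.Agent.Lib.Helper17.AffPush
  Groth.Agent.Lib.Helper17.QCPush

attribute [local instance] Groth.Agent.Lib.Helper17.QCPush.hasRpush

section Iso

variable {Z Y : Scheme.{u}} (j : Y ⟶ Z) [IsIso j]

lemma isIso_restrictAdjunction_unit : IsIso (Scheme.Modules.restrictAdjunction j).unit := by
  haveI : ∀ M, IsIso ((Scheme.Modules.restrictAdjunction j).unit.app M) := fun M => by
    rw [Scheme.Modules.Hom.isIso_iff_isIso_app]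
    intro O
    rw [Scheme.Modules.restrictAdjunction_unit_app_app]
    have h : j ''ᵁ j ⁻¹ᵁ O = O := by
      rw [Scheme.Hom.image_preimage_eq_opensRange_inf, Scheme.Hom.opensRange_of_isIso]
      exact top_inf_eq O
    exact isIso_presheaf_map_of_eq M _ (le_of_eq h.symm)
  exact NatIso.isIso_of_isIso_app _

/-- restriction along an isomorphism reflects isomorphisms of the derived category. -/
lemma isIso_of_isIso_restrictD_map {K K' : DCoh.D Z} (φ : K ⟶ K')
    (h : IsIso ((DCoh.restrictD j).map φ)) : IsIso φ := by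
  haveI := isIso_restrictAdjunction_unit j
  let ff := (Scheme.Modules.restrictAdjunction j).fullyFaithfulLOfIsIsoUnit
  haveI : (Scheme.Modules.restrictFunctor j).Full := ff.full
  haveI : (Scheme.Modules.restrictFunctor j).Faithful := ff.faithful
  rw [DerivedCategory.isIso_iff]
  intro n
  have h1 : IsIso ((DerivedCategory.homologyFunctor Y.Modules n).map
      ((DCoh.restrictD j).map φ)) := inferInstance
  rw [Groth.Agent.Lib.Helper17.Hyp.isIso_homology_map_iff] at h1
  exact isIso_of_fully_faithful (Scheme.Modules.restrictFunctor j) _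

lemma isIso_adjD_unit_app (K : DCoh.D Z) : IsIso ((adjD j).unit.app K) := by
  apply isIso_of_isIso_restrictD_map j
  have h := (adjD j).left_triangle_components K
  haveI : IsIso ((DCoh.restrictD j).map ((adjD j).unit.app K) ≫
      (adjD j).counit.app ((DCoh.restrictD j).obj K)) := by
    rw [h]; exact IsIso.id _
  exact IsIso.of_isIso_comp_right _ ((adjD j).counit.app ((DCoh.restrictD j).obj K))

/-- goodness transports along isomorphisms of schemes. -/
theorem good_of_isIso {Z Y : Scheme.{u}} (j : Y ⟶ Z) [IsIso j]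
    (h : ∀ L : DCoh.D Y, Good (DCoh.IsQCohD (X := Y)) L) (K : DCoh.D Z) :
    Good (DCoh.IsQCohD (X := Z)) K := by
  haveI := isIso_adjD_unit_app j K
  exact Good.of_iso _ (asIso ((adjD j).unit.app K)).symm (good_rpush j _ (h _))

end Iso

section Affine

/-- every object of `D(O_{Spec R})` is good. -/
theorem good_spec (R : CommRingCat.{u}) (L : DCoh.D (Spec (CommRingCat.of R))) :
    Good (DCoh.IsQCohD (X := Spec (CommRingCat.of R))) L := by
  haveI := Groth.Agent.Lib.Helper1.KoszulPerf.preservesFiniteLimits_tilde_aux R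
  obtain ⟨RG, adj, h1, h2⟩ := Groth.Agent.Lib.Helper17.TildeD.tildeD_main R
  obtain ⟨hfull, hfaith, hess⟩ := Groth.Agent.S0997.result R
  haveI := hfull
  haveI := hfaith
  exact ⟨(DCoh.tildeD R).obj (RG.obj L), (h1 _).1, adj.counit.app L,
    isUniv_counit _ adj (fun Q' hQ' => (hess Q').1 hQ') L⟩

/-- every object of `D(O_Z)` is good, `Z` affine. -/
theorem good_of_isAffine (Z : Scheme.{u}) [IsAffine Z] (K : DCoh.D Z) :
    Good (DCoh.IsQCohD (X := Z)) K :=
  good_of_isIso Z.isoSpec.inv (fun L => good_spec Γ(Z, ⊤) L) K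

end Affine

section Induction

variable {X : Scheme.{u}}

/-- the inductive property. -/
def PIndQ (X : Scheme.{u}) (U : X.Opens) : Prop :=
  ∀ (Z : Scheme.{u}) (i : Z ⟶ X) [IsOpenImmersion i], i.opensRange = U →
    ∀ K : DCoh.D Z, Good (DCoh.IsQCohD (X := Z)) K

theorem pIndQ_affine (U : X.Opens) (hU : IsAffineOpen U) : PIndQ X U := by
  intro Z i _ hi K
  haveI : IsAffine Z := by
    have h : IsAffineOpen i.opensRange := hi ▸ hU
    haveI : IsAffine (i.opensRange : Scheme.{u}) := h
    exact IsAffine.of_isIso i.isoOpensRange.hom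
  exact good_of_isAffine Z K

theorem pIndQ_sup [QuasiSeparatedSpace X] (U V : X.Opens) (hUc : IsCompact (U : Set X))
    (hVc : IsCompact (V : Set X)) (hU : PIndQ X U) (hV : PIndQ X V)
    (hUV : PIndQ X (U ⊓ V)) : PIndQ X (U ⊔ V) := by
  intro Z i _ hi K
  haveI : QuasiSeparatedSpace Z := QuasiSeparatedSpace.of_isOpenEmbedding i.isOpenEmbedding
  have hcov : i ⁻¹ᵁ U ⊔ i ⁻¹ᵁ V = ⊤ := by
    rw [← Scheme.Hom.preimage_sup, ← hi, Scheme.Hom.preimage_opensRange]
  obtain ⟨a, b, c, hT⟩ := mv_triangle (i ⁻¹ᵁ U) (i ⁻¹ᵁ V) hcov K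
  have hshift : ∀ (A : DCoh.D Z) (n : ℤ), DCoh.IsQCohD A → DCoh.IsQCohD (A⟦n⟧) :=
    fun A n hA => isQCohD_shift A n hA
  have hcone : ∀ T : Triangle (DCoh.D Z), T ∈ distTriang (DCoh.D Z) → DCoh.IsQCohD T.obj₁ →
      DCoh.IsQCohD T.obj₂ → DCoh.IsQCohD T.obj₃ := fun T hT h₁ h₂ => isQCohD_obj₃ T hT h₁ h₂
  have key : ∀ (W' : Z.Opens) (W : X.Opens), i ''ᵁ W' = W → IsCompact (W : Set X) → PIndQ X W →
      Good (DCoh.IsQCohD (X := Z)) ((DCoh.Rpush W'.ι).obj ((DCoh.restrictD W'.ι).obj K)) := by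
    intro W' W hW hWc hP
    have hr : (W'.ι ≫ i).opensRange = W := by
      rw [Scheme.Hom.opensRange_comp, Scheme.Opens.opensRange_ι, hW]
    haveI : CompactSpace (W' : Scheme.{u}) := by
      have h1 : IsCompact ((i ''ᵁ W' : X.Opens) : Set X) := hW ▸ hWc
      have h2 : IsCompact (W' : Set Z) := i.isOpenEmbedding.isInducing.isCompact_iff.2 h1
      exact isCompact_iff_compactSpace.1 h2
    exact good_rpush W'.ι _ (hP _ (W'.ι ≫ i) hr _)
  have hU' : i ''ᵁ (i ⁻¹ᵁ U) = U := by
    rw [Scheme.Hom.image_preimage_eq_opensRange_inf, hi]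
    exact inf_eq_right.2 le_sup_left
  have hV' : i ''ᵁ (i ⁻¹ᵁ V) = V := by
    rw [Scheme.Hom.image_preimage_eq_opensRange_inf, hi]
    exact inf_eq_right.2 le_sup_right
  have hUV' : i ''ᵁ (i ⁻¹ᵁ U ⊓ i ⁻¹ᵁ V) = U ⊓ V := by
    rw [← Scheme.Hom.preimage_inf, Scheme.Hom.image_preimage_eq_opensRange_inf, hi]
    exact inf_eq_right.2 (inf_le_left.trans le_sup_left)
  have hUVc : IsCompact ((U ⊓ V : X.Opens) : Set X) :=
    hUc.inter_of_isOpen hVc U.isOpen V.isOpen
  exact Good.obj₁ _ hshift hcone _ hT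
    (Good.biprod _ hshift hcone (key _ U hU' hUc hU) (key _ V hV' hVc hV))
    (key _ (U ⊓ V) hUV' hUVc hUV)

/-- every object of `D(O_X)` is good, `X` quasi-compact quasi-separated. -/
theorem good_of_qcqs [CompactSpace X] [QuasiSeparatedSpace X] (K : DCoh.D X) :
    Good (DCoh.IsQCohD (X := X)) K := by
  have h := Groth.Agent.S0015.result X (PIndQ X) pIndQ_affine
    (fun U V hUc hV hPU hPV hPUV => pIndQ_sup U V hUc hV.isCompact hPU hPV hPUV) ⊤ isCompact_univ
  exact h X (𝟙 X) (Scheme.Hom.opensRange_of_isIso _) K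

/-- the inclusion `D_QCoh(O_X) ⥤ D(O_X)` has a right adjoint. -/
theorem isLeftAdjoint_ι [CompactSpace X] [QuasiSeparatedSpace X] :
    (ObjectProperty.ι (DCoh.IsQCohD (X := X))).IsLeftAdjoint :=
  isLeftAdjoint_ι_of_good _ good_of_qcqs

end Induction

end Groth.Agent.Lib.Helper17.DQAdj
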