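import Groth.Agent.Lib.Helper17DQAdj1
import Mathlib.CategoryTheory.Triangulated.TStructure.TruncLTGE

/-!
# Coreflections onto a triangulated subcategory and amplitude bounds (helper17)

`GoodB t P K a c`: `K` admits a `P`-universal arrow `Q ⟶ K` with `Q ∈ P` and `Q ∈ D^{[a, c]}` for
the t-structure `t`.  Stability under isomorphisms, shifts, biproducts, cocones.
-/

set_option autoImplicit false

universe v u

open CategoryTheory CategoryTheory.Limits Pretriangulated Triangulated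

namespace Groth.Agent.Lib.Helper17.DQBound

open Groth.Agent.Lib.Helper17.DQAdj

section Basic

variable {C : Type u} [Category.{v} C]

/-- universal arrows are unique up to a unique isomorphism. -/
lemma exists_iso_of_isUniv (P : ObjectProperty C) {Q Q' K : C} (hQ : P Q) (hQ' : P Q')
    {ε : Q ⟶ K} {ε' : Q' ⟶ K} (h : IsUniv P ε) (h' : IsUniv P ε') :
    ∃ e : Q ≅ Q', e.hom ≫ ε' = ε := by
  obtain ⟨φ, hφ⟩ := (h' Q hQ).2 ε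
  obtain ⟨ψ, hψ⟩ := (h Q' hQ').2 ε'
  change φ ≫ ε' = ε at hφ
  change ψ ≫ ε = ε' at hψ
  refine ⟨⟨φ, ψ, ?_, ?_⟩, hφ⟩
  · apply (h Q hQ).1
    change (φ ≫ ψ) ≫ ε = 𝟙 Q ≫ ε
    rw [Category.assoc, hψ, hφ, Category.id_comp]
  · apply (h' Q' hQ').1
    change (ψ ≫ φ) ≫ ε' = 𝟙 Q' ≫ ε'
    rw [Category.assoc, hφ, hψ, Category.id_comp]

/-- biproducts of universal arrows are universal. -/
lemma isUniv_biprod_map [Preadditive C] (P : ObjectProperty C) {Q₁ Q₂ K₁ K₂ : C}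
    [HasBinaryBiproduct Q₁ Q₂] [HasBinaryBiproduct K₁ K₂] {ε₁ : Q₁ ⟶ K₁} {ε₂ : Q₂ ⟶ K₂}
    (h₁ : IsUniv P ε₁) (h₂ : IsUniv P ε₂) : IsUniv P (biprod.map ε₁ ε₂) := by
  intro Q' hQ'
  constructor
  · intro φ φ' h
    change φ ≫ biprod.map ε₁ ε₂ = φ' ≫ biprod.map ε₁ ε₂ at h
    apply biprod.hom_ext
    · apply (h₁ Q' hQ').1
      change (φ ≫ biprod.fst) ≫ ε₁ = (φ' ≫ biprod.fst) ≫ ε₁
      have := congrArg (fun t => t ≫ biprod.fst) h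
      simpa only [Category.assoc, biprod.map_fst] using this
    · apply (h₂ Q' hQ').1
      change (φ ≫ biprod.snd) ≫ ε₂ = (φ' ≫ biprod.snd) ≫ ε₂
      have := congrArg (fun t => t ≫ biprod.snd) h
      simpa only [Category.assoc, biprod.map_snd] using this
  · intro ψ
    obtain ⟨φ₁, hφ₁⟩ := (h₁ Q' hQ').2 (ψ ≫ biprod.fst)
    obtain ⟨φ₂, hφ₂⟩ := (h₂ Q' hQ').2 (ψ ≫ biprod.snd)
    change φ₁ ≫ ε₁ = ψ ≫ biprod.fst at hφ₁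
    change φ₂ ≫ ε₂ = ψ ≫ biprod.snd at hφ₂
    refine ⟨biprod.lift φ₁ φ₂, ?_⟩
    change biprod.lift φ₁ φ₂ ≫ biprod.map ε₁ ε₂ = ψ
    apply biprod.hom_ext
    · rw [Category.assoc, biprod.map_fst, biprod.lift_fst_assoc, hφ₁]
    · rw [Category.assoc, biprod.map_snd, biprod.lift_snd_assoc, hφ₂]

end Basic

section Tri

variable {C : Type u} [Category.{v} C] [HasZeroObject C] [HasShift C ℤ] [Preadditive C]
  [∀ n : ℤ, (shiftFunctor C n).Additive] [Pretriangulated C]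

/-- cones of universal arrows: the cone of the induced map between the sources maps universally
to the cone. -/
theorem exists_univ_obj₃ (P : ObjectProperty C) (hshift : ∀ (A : C) (n : ℤ), P A → P (A⟦n⟧))
    (hcone : ∀ T : Triangle C, T ∈ distTriang C → P T.obj₁ → P T.obj₂ → P T.obj₃)
    (T : Triangle C) (hT : T ∈ distTriang C) {Q₁ Q₂ : C} (hQ₁ : P Q₁) (hQ₂ : P Q₂)
    {ε₁ : Q₁ ⟶ T.obj₁} {ε₂ : Q₂ ⟶ T.obj₂} (hε₁ : IsUniv P ε₁) (hε₂ : IsUniv P ε₂) :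
    ∃ (u : Q₁ ⟶ Q₂) (Q₃ : C) (q : Q₂ ⟶ Q₃) (w : Q₃ ⟶ Q₁⟦(1 : ℤ)⟧) (c : Q₃ ⟶ T.obj₃),
      Triangle.mk u q w ∈ distTriang C ∧ P Q₃ ∧ IsUniv P c := by
  -- the induced map `u : Q₁ ⟶ Q₂`
  obtain ⟨u, hu⟩ := (hε₂ Q₁ hQ₁).2 (ε₁ ≫ T.mor₁)
  change u ≫ ε₂ = ε₁ ≫ T.mor₁ at hu
  obtain ⟨Q₃, q, w, hTQ⟩ := distinguished_cocone_triangle u
  have hQ₃ : P Q₃ := hcone _ hTQ hQ₁ hQ₂
  obtain ⟨c, hc₁, hc₂⟩ : ∃ c : Q₃ ⟶ T.obj₃, q ≫ c = ε₂ ≫ T.mor₂ ∧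
      w ≫ ε₁⟦(1 : ℤ)⟧' = c ≫ T.mor₃ :=
    complete_distinguished_triangle_morphism _ _ hTQ hT ε₁ ε₂ hu
  have hε₁s := hε₁.shift P hshift 1
  have hε₂s := hε₂.shift P hshift 1
  refine ⟨u, Q₃, q, w, c, hTQ, hQ₃, fun Q' hQ' => ⟨?_, ?_⟩⟩
  · -- injectivity
    suffices H : ∀ φ₃ : Q' ⟶ Q₃, φ₃ ≫ c = 0 → φ₃ = 0 by
      intro a b hab
      have := H (a - b) (by
        change a ≫ c = b ≫ c at hab
        rw [Preadditive.sub_comp, hab, sub_self])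
      exact sub_eq_zero.1 this
    intro φ₃ h0
    have h1 : φ₃ ≫ w = 0 := by
      apply (hε₁s Q' hQ').1
      change (φ₃ ≫ w) ≫ ε₁⟦(1 : ℤ)⟧' = 0 ≫ ε₁⟦(1 : ℤ)⟧'
      rw [Category.assoc, hc₂, ← Category.assoc, h0, zero_comp, zero_comp]
    obtain ⟨χ', hχ'⟩ : ∃ χ' : Q' ⟶ Q₂, φ₃ = χ' ≫ q := Triangle.coyoneda_exact₃ _ hTQ φ₃ h1
    have h2 : (χ' ≫ ε₂) ≫ T.mor₂ = 0 := by
      rw [Category.assoc, ← hc₁, ← Category.assoc, ← hχ', h0]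
    obtain ⟨ξ, hξ⟩ := Triangle.coyoneda_exact₂ _ hT (χ' ≫ ε₂) h2
    obtain ⟨ξ', hξ'⟩ := (hε₁ Q' hQ').2 ξ
    change ξ' ≫ ε₁ = ξ at hξ'
    have h3 : χ' = ξ' ≫ u := by
      apply (hε₂ Q' hQ').1
      change χ' ≫ ε₂ = (ξ' ≫ u) ≫ ε₂
      rw [Category.assoc, hu, ← Category.assoc, hξ', hξ]
    rw [hχ', h3, Category.assoc]
    have h4 : u ≫ q = 0 := comp_distTriang_mor_zero₁₂ _ hTQ
    rw [h4, comp_zero]
  · -- surjectivity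
    intro ψ
    obtain ⟨φ₁', hφ₁'⟩ := (hε₁s Q' hQ').2 (ψ ≫ T.mor₃)
    change φ₁' ≫ ε₁⟦(1 : ℤ)⟧' = ψ ≫ T.mor₃ at hφ₁'
    have h1 : φ₁' ≫ u⟦(1 : ℤ)⟧' = 0 := by
      apply (hε₂s Q' hQ').1
      change (φ₁' ≫ u⟦(1 : ℤ)⟧') ≫ ε₂⟦(1 : ℤ)⟧' = 0 ≫ ε₂⟦(1 : ℤ)⟧'
      rw [Category.assoc, ← Functor.map_comp, hu, Functor.map_comp, ← Category.assoc, hφ₁',
        Category.assoc, zero_comp]
      have := comp_distTriang_mor_zero₃₁ _ hT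
      rw [this, comp_zero]
    obtain ⟨φ₃, hφ₃⟩ : ∃ φ₃ : Q' ⟶ Q₃, φ₁' = φ₃ ≫ w := Triangle.coyoneda_exact₁ _ hTQ φ₁' h1
    have h2 : (φ₃ ≫ c - ψ) ≫ T.mor₃ = 0 := by
      rw [Preadditive.sub_comp, Category.assoc, ← hc₂, ← Category.assoc, ← hφ₃, hφ₁', sub_self]
    obtain ⟨χ, hχ⟩ := Triangle.coyoneda_exact₃ _ hT _ h2
    obtain ⟨χ', hχ'⟩ := (hε₂ Q' hQ').2 χ
    change χ' ≫ ε₂ = χ at hχ'
    refine ⟨φ₃ - χ' ≫ q, ?_⟩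
    change (φ₃ - χ' ≫ q) ≫ c = ψ
    rw [Preadditive.sub_comp, Category.assoc, hc₁, ← Category.assoc, hχ', ← hχ]
    abel

variable [IsTriangulated C] (t : TStructure C) (P : ObjectProperty C)

/-- `K` admits a `P`-universal arrow from an object of `P` of amplitude `[a, c]`. -/
def GoodB (K : C) (a c : ℤ) : Prop :=
  ∃ (Q : C) (_ : P Q) (ε : Q ⟶ K), IsUniv P ε ∧ t.IsGE Q a ∧ t.IsLE Q c

variable {t P}

lemma GoodB.of_iso {K K' : C} (e : K ≅ K') {a c : ℤ} (h : GoodB t P K a c) :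
    GoodB t P K' a c := by
  obtain ⟨Q, hQ, ε, hε, h1, h2⟩ := h
  exact ⟨Q, hQ, ε ≫ e.hom, hε.comp_iso P e, h1, h2⟩

lemma GoodB.mono {K : C} {a c a' c' : ℤ} (h : GoodB t P K a c) (ha : a' ≤ a) (hc : c ≤ c') :
    GoodB t P K a' c' := by
  obtain ⟨Q, hQ, ε, hε, h1, h2⟩ := h
  exact ⟨Q, hQ, ε, hε, t.isGE_of_ge Q a' a ha, t.isLE_of_le Q c c' hc⟩

lemma GoodB.shift (hshift : ∀ (A : C) (n : ℤ), P A → P (A⟦n⟧)) {K : C} {a c : ℤ}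
    (h : GoodB t P K a c) (n a' c' : ℤ) (ha : n + a' = a) (hc : n + c' = c) :
    GoodB t P (K⟦n⟧) a' c' := by
  obtain ⟨Q, hQ, ε, hε, h1, h2⟩ := h
  exact ⟨Q⟦n⟧, hshift _ _ hQ, ε⟦n⟧', hε.shift P hshift n, t.isGE_shift Q a n a' ha,
    t.isLE_shift Q c n c' hc⟩

/-- every universal arrow to a `GoodB` object has bounded source. -/
lemma GoodB.bounds {K : C} {a c : ℤ} (h : GoodB t P K a c) {Q' : C} (hQ' : P Q') (ε' : Q' ⟶ K)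
    (hε' : IsUniv P ε') : t.IsGE Q' a ∧ t.IsLE Q' c := by
  obtain ⟨Q, hQ, ε, hε, h1, h2⟩ := h
  obtain ⟨e, -⟩ := exists_iso_of_isUniv P hQ hQ' hε hε'
  exact ⟨t.isGE_of_iso e a, t.isLE_of_iso e c⟩

lemma GoodB.biprod (hshift : ∀ (A : C) (n : ℤ), P A → P (A⟦n⟧))
    (hcone : ∀ T : Triangle C, T ∈ distTriang C → P T.obj₁ → P T.obj₂ → P T.obj₃)
    {A B : C} {a c : ℤ} (hA : GoodB t P A a c) (hB : GoodB t P B a c) :
    GoodB t P (A ⊞ B) a c := by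
  obtain ⟨QA, hQA, εA, hεA, hA1, hA2⟩ := hA
  obtain ⟨QB, hQB, εB, hεB, hB1, hB2⟩ := hB
  have hd := binaryBiproductTriangle_distinguished QA QB
  refine ⟨QA ⊞ QB, ?_, biprod.map εA εB, isUniv_biprod_map P hεA hεB, ?_, ?_⟩
  · exact hcone (binaryBiproductTriangle QA QB).invRotate (inv_rot_of_distTriang _ hd)
      (hshift QB (-1) hQB) hQA
  · exact t.isGE₂ _ hd a hA1 hB1
  · exact t.isLE₂ _ hd c hA2 hB2

/-- cones: if `K₁ ⟶ K₂ ⟶ K₃ ⟶ K₁⟦1⟧` is distinguished, `K₁ ∈ GoodB [a, c]` and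
`K₂ ∈ GoodB [a - 1, c]`... we only need the following form. -/
theorem GoodB.obj₃ (hshift : ∀ (A : C) (n : ℤ), P A → P (A⟦n⟧))
    (hcone : ∀ T : Triangle C, T ∈ distTriang C → P T.obj₁ → P T.obj₂ → P T.obj₃)
    (T : Triangle C) (hT : T ∈ distTriang C) {a c : ℤ} (h₁ : GoodB t P T.obj₁ (a + 1) (c + 1))
    (h₂ : GoodB t P T.obj₂ a c) : GoodB t P T.obj₃ a c := by
  obtain ⟨Q₁, hQ₁, ε₁, hε₁, h11, h12⟩ := h₁
  obtain ⟨Q₂, hQ₂, ε₂, hε₂, h21, h22⟩ := h₂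
  obtain ⟨u, Q₃, q, w, c', hTQ, hQ₃, hc'⟩ :=
    exists_univ_obj₃ P hshift hcone T hT hQ₁ hQ₂ hε₁ hε₂
  have hrot := rot_of_distTriang _ hTQ
  refine ⟨Q₃, hQ₃, c', hc', ?_, ?_⟩
  · exact t.isGE₂ _ hrot a h21 (t.isGE_shift Q₁ (a + 1) 1 a (by omega))
  · exact t.isLE₂ _ hrot c h22 (t.isLE_shift Q₁ (c + 1) 1 c (by omega))

/-- cocones: if `K₁ ⟶ K₂ ⟶ K₃ ⟶ K₁⟦1⟧` is distinguished, `K₂ ∈ GoodB [a, c]` and
`K₃ ∈ GoodB [a - 1, c - 1]`, then `K₁ ∈ GoodB [a, c]`. -/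
theorem GoodB.obj₁ (hshift : ∀ (A : C) (n : ℤ), P A → P (A⟦n⟧))
    (hcone : ∀ T : Triangle C, T ∈ distTriang C → P T.obj₁ → P T.obj₂ → P T.obj₃)
    (T : Triangle C) (hT : T ∈ distTriang C) {a c : ℤ} (h₂ : GoodB t P T.obj₂ a c)
    (h₃ : GoodB t P T.obj₃ (a - 1) (c - 1)) : GoodB t P T.obj₁ a c := by
  have h := GoodB.obj₃ hshift hcone T.rotate (rot_of_distTriang _ hT) (a := a - 1) (c := c - 1)
    (h₂.mono (by omega) (by omega)) h₃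
  have h' := h.shift hshift (-1) a c (by omega) (by omega)
  exact GoodB.of_iso ((shiftEquiv C (1 : ℤ)).unitIso.app T.obj₁).symm h'

end Tri

end Groth.Agent.Lib.Helper17.DQBound
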