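import Groth.Agent.Lib.Helper17LocCohVan2

/-!
# Vanishing of local cohomology sheaves above the local number of equations (helper17)
-/

set_option autoImplicit false
set_option linter.style.haveILetI false
set_option maxHeartbeats 400000

universe u

open CategoryTheory CategoryTheory.Limits AlgebraicGeometry TopologicalSpace Opposite
  DerivedCategory Pretriangulated

attribute [local instance] HasDerivedCategory.standard

namespace Groth.Agent.Lib.Helper17.LocCohVan

open Groth.Agent.Lib.Helper17.MV Groth.Agent.Lib.Helper23.QCohLocal Groth.Agent.Lib.Helper17.QCPush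
  Groth.Agent.Lib.Helper17.AffPush Groth.Agent.Lib.Helper17.GammaZ Groth.Agent.Lib.Helper23DerLES

attribute [local instance] Groth.Agent.Lib.Helper17.QCPush.hasRpush

section

variable {X : Scheme.{u}}

lemma isQCohD_inD (M : X.Modules) [M.IsQuasicoherent] : DCoh.IsQCohD (DCoh.inD X M) := by
  intro k
  by_cases hk : k = 0
  · subst hk
    exact isQuasicoherent_of_iso
      ((DerivedCategory.singleFunctorCompHomologyFunctorIso X.Modules 0).app M).symm
      ‹M.IsQuasicoherent›
  · rcases lt_or_gt_of_ne hk with h | h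
    · exact isQuasicoherent_of_isZero (isZero_of_isGE (DCoh.inD X M) 0 k h)
    · exact isQuasicoherent_of_isZero (isZero_of_isLE (DCoh.inD X M) 0 k h)

variable (U : X.Opens) [HasInjectiveResolutions X.Modules]

theorem isZero_rightDerived_gammaZ (c : ℕ)
    (hT : ∀ x : X, ∃ (V : X.Opens) (fs : Finset Γ(X, V)), x ∈ V ∧ fs.card ≤ c ∧
      X.zeroLocus (U := V) (↑fs : Set Γ(X, V)) ∩ (V : Set ↥X) = (U : Set ↥X)ᶜ ∩ (V : Set ↥X))
    (F : X.Modules) (hF : Coh.IsQCoh F) (i : ℕ) (hi : c < i) :
    IsZero (((DCoh.gammaZ U.ι).rightDerived i).obj F) := by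
  haveI : F.IsQuasicoherent := hF
  haveI := enoughInjectives (U : Scheme.{u})
  haveI : HasInjectiveResolutions (U : Scheme.{u}).Modules := inferInstance
  rcases i with _ | _ | n
  · omega
  · -- `i = 1`, so `c = 0` and `U = ⊥`
    have hc : c = 0 := by omega
    subst hc
    haveI : IsEmpty (U : Scheme.{u}) := by
      constructor
      intro y
      obtain ⟨V, fs, hxV, hcard, hz⟩ := hT y.1
      have hfs : fs = ∅ := Finset.card_eq_zero.1 (Nat.le_zero.1 hcard)
      have h1 : y.1 ∈ X.zeroLocus (U := V) (↑fs : Set Γ(X, V)) ∩ (V : Set ↥X) := by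
        refine ⟨?_, hxV⟩
        rw [hfs, Scheme.zeroLocus_def]
        simp
      rw [hz] at h1
      exact h1.1 y.2
    have hz0 : IsZero ((T U).obj F) :=
      (Scheme.Modules.pushforward U.ι).map_isZero
        (Groth.Agent.Lib.Helper17.MV.isZero_of_stalk_subsingleton _ (fun x => isEmptyElim x))
    have hz : IsZero (((𝟭 X.Modules).rightDerived 1).obj F) := isZero_rightDerived_succ_id F 0
    haveI := epi_γ_app (CxOX.gammaZι U.ι) (η U) (w U) (hex U) F hz
    exact IsZero.of_epi_eq_zero ((γ (CxOX.gammaZι U.ι) (η U) (w U) (hex U)).app F)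
      (hz0.eq_of_src _ _)
  · -- `i = n + 2`
    haveI := isIso_δ (CxOX.gammaZι U.ι) (η U) (w U) (hex U) (n + 1)
      (fun X => isZero_rightDerived_succ_id X n) (fun X => isZero_rightDerived_succ_id X (n + 1))
    have e1 := (asIso (δ (CxOX.gammaZι U.ι) (η U) (w U) (hex U) (n + 1))).app F
    have e2 := (Groth.Agent.Lib.Helper23DerComp.compIso (Scheme.Modules.restrictFunctor U.ι)
      (Scheme.Modules.pushforward U.ι) (n + 1)).app F
    obtain ⟨e3⟩ := nonempty_HD_rpush_inD_iso U.ι ((Scheme.Modules.restrictFunctor U.ι).obj F)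
      (n + 1) ((n + 1 : ℕ) : ℤ) rfl
    have hq : ((Scheme.Modules.restrictFunctor U.ι).obj F).IsQuasicoherent := inferInstance
    have h0 := isZero_HD_rpush U c hT
      (DCoh.inD (U : Scheme.{u}) ((Scheme.Modules.restrictFunctor U.ι).obj F))
      (isQCohD_inD _) inferInstance ((n + 1 : ℕ) : ℤ) (by push_cast; omega)
    exact IsZero.of_iso h0 (e1.symm ≪≫ e2 ≪≫ e3.symm)

end

end Groth.Agent.Lib.Helper17.LocCohVan
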