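import Groth.Agent.Lib.Helper17Lsec6

/-!
# The vanishing condition `HypHom` and its restriction to opens (helper17)
-/

set_option autoImplicit false
set_option linter.style.haveILetI false
set_option maxHeartbeats 400000

universe u

open CategoryTheory CategoryTheory.Limits Opposite AlgebraicGeometry TopologicalSpace

attribute [local instance] HasDerivedCategory.standard

namespace Groth.Agent.Lib.Helper17.Lsec

open DerivedCategory Groth.Agent.Lib.Helper17.Hyp Groth.Agent.Lib.Helper17.KInj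
  Groth.Agent.Lib.Helper17.HypX Groth.Agent.Lib.Helper17.MV Groth.Agent.Lib.Helper17.AffPush

variable {X : Scheme.{u}}

/-- all morphisms `O_X ⊗ ℤ_V ⟶ K[n]`, `V` affine open, `n ∉ [a, b]`, vanish. -/
def HypHom (K : DCoh.D X) (a b : ℤ) : Prop :=
  ∀ V : X.Opens, IsAffineOpen V → ∀ n : ℤ, (n < a ∨ b < n) →
    ∀ ξ : dsgl ((frX X).obj V) ⟶ K⟦n⟧, ξ = 0

lemma HypHom.of_iso {K K' : DCoh.D X} {a b : ℤ} (e : K ≅ K') (h : HypHom K a b) :
    HypHom K' a b := by
  intro V hV n hn ξ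
  have h0 := h V hV n hn (ξ ≫ e.inv⟦n⟧')
  have h1 : ξ = (ξ ≫ e.inv⟦n⟧') ≫ e.hom⟦n⟧' := by
    rw [Category.assoc, ← Functor.map_comp, e.inv_hom_id, CategoryTheory.Functor.map_id, Category.comp_id]
  rw [h1, h0, zero_comp]

/-- the condition in terms of derived sections. -/
theorem hypHom_of_isZero_RΓ [∀ U : X.Opens, DCoh.HasRΓ (U : Scheme.{u})] (K : DCoh.D X)
    (a b : ℤ)
    (h : ∀ U : X.Opens, IsAffineOpen U → ∀ i : ℤ, (i < a ∨ b < i) →
      IsZero ((DerivedCategory.homologyFunctor AddCommGrpCat.{u} i).obj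
        ((DCoh.RΓ (U : Scheme.{u})).obj ((DCoh.restrictD U.ι).obj K)))) :
    HypHom K a b :=
  fun V hV n hn ξ => hom_fr_eq_zero_of_isZero_RΓ K V n (h V hV n hn) ξ

/-- `HypHom` restricts to opens. -/
theorem HypHom.restrict {K : DCoh.D X} {a b : ℤ} (h : HypHom K a b) (W : X.Opens) :
    HypHom ((DCoh.restrictD W.ι).obj K) a b := by
  obtain ⟨J, hJK, -, ⟨e⟩⟩ := exists_model K
  haveI := hJK
  haveI := Groth.Agent.Lib.Helper1.RpushRes.isKInjective_restrict W J
  let e' : (DCoh.restrictD W.ι).obj K ≅ (Q : _ ⥤ DCoh.D (W : Scheme.{u})).obj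
      (((Scheme.Modules.restrictFunctor W.ι).mapHomologicalComplex (ComplexShape.up ℤ)).obj J) :=
    (DCoh.restrictD W.ι).mapIso e ≪≫
      (Scheme.Modules.restrictFunctor W.ι).mapDerivedCategoryFactors.app J
  intro V hV n hn ξ
  have hex : (secCx J (W.ι ''ᵁ V)).ExactAt n := by
    refine exactAt_of_hom_eq_zero J _ n (fun ζ => ?_)
    have h0 := h (W.ι ''ᵁ V) (hV.image_of_isOpenImmersion W.ι) n hn (ζ ≫ e.inv⟦n⟧')
    have h1 : ζ = (ζ ≫ e.inv⟦n⟧') ≫ e.hom⟦n⟧' := by
      rw [Category.assoc, ← Functor.map_comp, e.inv_hom_id, CategoryTheory.Functor.map_id, Category.comp_id]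
    rw [h1, h0, zero_comp]
  have hex' : (secCx (((Scheme.Modules.restrictFunctor W.ι).mapHomologicalComplex
      (ComplexShape.up ℤ)).obj J) V).ExactAt n := hex
  have h0 := hom_eq_zero_of_exactAt' _ V n hex' (ξ ≫ e'.hom⟦n⟧')
  rw [← cancel_mono (e'.hom⟦n⟧'), h0, zero_comp]

end Groth.Agent.Lib.Helper17.Lsec
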