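import Groth.Agent.Lib.Helper1Devissage

/-! Way-out functor lemmas (Hartshorne RD I.7.1) (helper17). -/
set_option autoImplicit false
set_option backward.isDefEq.respectTransparency false
set_option backward.isDefEq.respectTransparency.types false
universe w w' v v' u u'
open CategoryTheory CategoryTheory.Limits CategoryTheory.Pretriangulated

namespace Groth.Agent.Lib.Helper17.WayOut

open DerivedCategory Groth.Agent.Lib.Helper1.Devissage Groth.Agent.S14388

variable {A : Type u} [Category.{v} A] [Abelian A] [HasDerivedCategory.{w} A]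
  {B : Type u'} [Category.{v'} B] [Abelian B] [HasDerivedCategory.{w'} B]
  (F G : DerivedCategory A ⥤ DerivedCategory B) [F.CommShift ℤ] [G.CommShift ℤ]
  [F.IsTriangulated] [G.IsTriangulated] (η : F ⟶ G) [NatTrans.CommShift η ℤ]

/-- the morphism of triangles induced by a natural transformation. -/
def triangleMap (T : Triangle (DerivedCategory A)) :
    F.mapTriangle.obj T ⟶ G.mapTriangle.obj T where
  hom₁ := η.app T.obj₁
  hom₂ := η.app T.obj₂
  hom₃ := η.app T.obj₃
  comm₁ := by
    change F.map T.mor₁ ≫ η.app T.obj₂ = η.app T.obj₁ ≫ G.map T.mor₁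
    exact η.naturality _
  comm₂ := by
    change F.map T.mor₂ ≫ η.app T.obj₃ = η.app T.obj₂ ≫ G.map T.mor₂
    exact η.naturality _
  comm₃ := by
    change (F.map T.mor₃ ≫ (F.commShiftIso (1 : ℤ)).hom.app T.obj₁) ≫
      (shiftFunctor (DerivedCategory B) (1 : ℤ)).map (η.app T.obj₁) =
      η.app T.obj₃ ≫ G.map T.mor₃ ≫ (G.commShiftIso (1 : ℤ)).hom.app T.obj₁
    rw [Category.assoc, NatTrans.shift_app_comm η 1 T.obj₁, ← Category.assoc, ← Category.assoc,
      η.naturality]

theorem isIso_app_obj₂ (T : Triangle (DerivedCategory A)) (hT : T ∈ distTriang _)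
    (h₁ : IsIso (η.app T.obj₁)) (h₃ : IsIso (η.app T.obj₃)) : IsIso (η.app T.obj₂) :=
  isIso₂_of_isIso₁₃ (triangleMap F G η T) (F.map_distinguished T hT) (G.map_distinguished T hT)
    h₁ h₃

theorem isIso_app_of_iso {K L : DerivedCategory A} (e : K ≅ L) (h : IsIso (η.app K)) :
    IsIso (η.app L) := by
  have : η.app L = F.map e.inv ≫ η.app K ≫ G.map e.hom := by
    rw [← η.naturality, ← Functor.map_comp_assoc, e.inv_hom_id, CategoryTheory.Functor.map_id, Category.id_comp]
  rw [this]
  infer_instance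

theorem isIso_app_of_isZero (K : DerivedCategory A) (hK : IsZero K) : IsIso (η.app K) :=
  ⟨⟨0, (F.map_isZero hK).eq_of_src _ _, (G.map_isZero hK).eq_of_src _ _⟩⟩

theorem isIso_app_shift (K : DerivedCategory A) (n : ℤ) (h : IsIso (η.app K)) :
    IsIso (η.app (K⟦n⟧)) := by
  rw [NatTrans.app_shift η n K]
  infer_instance

theorem isIso_app_single (X : A) (j : ℤ)
    (h : IsIso (η.app ((DerivedCategory.singleFunctor A 0).obj X))) :
    IsIso (η.app ((DerivedCategory.singleFunctor A j).obj X)) := by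
  have e : (shiftFunctor (DerivedCategory A) (-j)).obj ((DerivedCategory.singleFunctor A 0).obj X) ≅
      (DerivedCategory.singleFunctor A j).obj X :=
    ((DerivedCategory.singleFunctors A).shiftIso (-j) j 0 (by omega)).app X
  exact isIso_app_of_iso F G η e (isIso_app_shift F G η _ (-j) h)

variable (P : ObjectProperty A) [P.IsClosedUnderIsomorphisms]
  (hη : ∀ X : A, P X → IsIso (η.app ((DerivedCategory.singleFunctor A 0).obj X)))

include hη in
/-- S11149. -/
theorem isIso_app_of_bounded (X : DerivedCategory A) (a b : ℤ) [X.IsGE a] [X.IsLE b]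
    (hX : ∀ i : ℤ, P ((DerivedCategory.homologyFunctor A i).obj X)) : IsIso (η.app X) := by
  let Q' : ObjectProperty (DerivedCategory A) := fun K => IsIso (η.app K)
  have : Q'.IsClosedUnderIsomorphisms := ⟨fun e h => isIso_app_of_iso F G η e h⟩
  refine induction_homology' Q' (fun K hK => isIso_app_of_isZero F G η K hK)
    (fun T hT h₁ h₃ => isIso_app_obj₂ F G η T hT h₁ h₃) X a b ?_ ?_
  · rintro i (hi | hi)
    · exact isZero_of_isGE X a i hi
    · exact isZero_of_isLE X b i hi
  · intro j _ _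
    exact isIso_app_single F G η _ j (hη _ (hX j))

omit [P.IsClosedUnderIsomorphisms] in
theorem prop_truncLT [P.IsClosedUnderIsomorphisms] (hP : ∀ Z : A, IsZero Z → P Z)
    (X : DerivedCategory A) (n : ℤ)
    (hX : ∀ i : ℤ, P ((DerivedCategory.homologyFunctor A i).obj X)) (i : ℤ) :
    P ((DerivedCategory.homologyFunctor A i).obj ((tt.truncLT n).obj X)) := by
  by_cases hi : i < n
  · have := isIso_homology_truncLTι n i hi X
    exact P.prop_of_iso
      (asIso ((DerivedCategory.homologyFunctor A i).map ((tt.truncLTι n).app X))).symm (hX i)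
  · exact hP _ (isZero_of_isLE ((tt.truncLT n).obj X) (n - 1) i (by omega))

omit [P.IsClosedUnderIsomorphisms] in
theorem prop_truncGE [P.IsClosedUnderIsomorphisms] (hP : ∀ Z : A, IsZero Z → P Z)
    (X : DerivedCategory A) (n : ℤ)
    (hX : ∀ i : ℤ, P ((DerivedCategory.homologyFunctor A i).obj X)) (i : ℤ) :
    P ((DerivedCategory.homologyFunctor A i).obj ((tt.truncGE n).obj X)) := by
  by_cases hi : n ≤ i
  · have := isIso_homology_truncGEπ n i hi X
    exact P.prop_of_iso
      (asIso ((DerivedCategory.homologyFunctor A i).map ((tt.truncGEπ n).app X))) (hX i)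
  · exact hP _ (isZero_of_isGE ((tt.truncGE n).obj X) n i (by omega))

include hη in
/-- S11150. -/
theorem isIso_app_of_isGE
    (hF : ∀ n₁ : ℤ, ∃ n₂ : ℤ, ∀ Y : DerivedCategory A, Y.IsGE n₂ → (F.obj Y).IsGE n₁)
    (hG : ∀ n₁ : ℤ, ∃ n₂ : ℤ, ∀ Y : DerivedCategory A, Y.IsGE n₂ → (G.obj Y).IsGE n₁)
    (X : DerivedCategory A) (a : ℤ) [X.IsGE a]
    (hX : ∀ i : ℤ, P ((DerivedCategory.homologyFunctor A i).obj X)) : IsIso (η.app X) := by
  have hP : ∀ Z : A, IsZero Z → P Z := fun Z hZ =>
    P.prop_of_iso ((isZero_of_isGE X a (a - 1) (by omega)).iso hZ) (hX (a - 1))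
  rw [DerivedCategory.isIso_iff]
  intro j
  obtain ⟨nF, hnF⟩ := hF (j + 1)
  obtain ⟨nG, hnG⟩ := hG (j + 1)
  obtain ⟨n, hn⟩ : ∃ n : ℤ, n = max nF nG := ⟨_, rfl⟩
  have hT := tt.triangleLTGE_distinguished n X
  have h3F : (F.obj ((tt.truncGE n).obj X)).IsGE (j + 1) :=
    hnF _ (tt.isGE_of_ge _ nF n (by rw [hn]; exact le_max_left _ _))
  have h3G : (G.obj ((tt.truncGE n).obj X)).IsGE (j + 1) :=
    hnG _ (tt.isGE_of_ge _ nG n (by rw [hn]; exact le_max_right _ _))
  have hFι : IsIso ((DerivedCategory.homologyFunctor B j).map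
      (F.map ((tt.truncLTι n).app X))) := by
    have hTF := F.map_distinguished _ hT
    have hm : Mono ((DerivedCategory.homologyFunctor B j).map (F.map ((tt.truncLTι n).app X))) :=
      (HomologySequence.mono_homologyMap_mor₁_iff _ hTF (j - 1) j (by omega)).2
        ((isZero_of_isGE (F.obj ((tt.truncGE n).obj X)) (j + 1) (j - 1) (by omega)).eq_of_src _ _)
    have he : Epi ((DerivedCategory.homologyFunctor B j).map (F.map ((tt.truncLTι n).app X))) :=
      (HomologySequence.epi_homologyMap_mor₁_iff _ hTF j).2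
        ((isZero_of_isGE (F.obj ((tt.truncGE n).obj X)) (j + 1) j (by omega)).eq_of_tgt _ _)
    exact isIso_of_mono_of_epi _
  have hGι : IsIso ((DerivedCategory.homologyFunctor B j).map
      (G.map ((tt.truncLTι n).app X))) := by
    have hTG := G.map_distinguished _ hT
    have hm : Mono ((DerivedCategory.homologyFunctor B j).map (G.map ((tt.truncLTι n).app X))) :=
      (HomologySequence.mono_homologyMap_mor₁_iff _ hTG (j - 1) j (by omega)).2
        ((isZero_of_isGE (G.obj ((tt.truncGE n).obj X)) (j + 1) (j - 1) (by omega)).eq_of_src _ _)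
    have he : Epi ((DerivedCategory.homologyFunctor B j).map (G.map ((tt.truncLTι n).app X))) :=
      (HomologySequence.epi_homologyMap_mor₁_iff _ hTG j).2
        ((isZero_of_isGE (G.obj ((tt.truncGE n).obj X)) (j + 1) j (by omega)).eq_of_tgt _ _)
    exact isIso_of_mono_of_epi _
  have h₁ : IsIso (η.app ((tt.truncLT n).obj X)) := by
    have : ((tt.truncLT n).obj X).IsGE a := inferInstance
    have : ((tt.truncLT n).obj X).IsLE (n - 1) := inferInstance
    exact isIso_app_of_bounded F G η P hη _ a (n - 1) (prop_truncLT P hP X n hX)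
  have sq : (DerivedCategory.homologyFunctor B j).map (F.map ((tt.truncLTι n).app X)) ≫
      (DerivedCategory.homologyFunctor B j).map (η.app X) =
      (DerivedCategory.homologyFunctor B j).map (η.app ((tt.truncLT n).obj X)) ≫
        (DerivedCategory.homologyFunctor B j).map (G.map ((tt.truncLTι n).app X)) := by
    rw [← Functor.map_comp, ← Functor.map_comp]
    exact congrArg _ (η.naturality ((tt.truncLTι n).app X))
  have : IsIso ((DerivedCategory.homologyFunctor B j).map (F.map ((tt.truncLTι n).app X)) ≫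
      (DerivedCategory.homologyFunctor B j).map (η.app X)) := by
    rw [sq]; infer_instance
  exact IsIso.of_isIso_comp_left
    ((DerivedCategory.homologyFunctor B j).map (F.map ((tt.truncLTι n).app X))) _

include hη in
/-- the dual of S11150. -/
theorem isIso_app_of_isLE
    (hF : ∀ n₁ : ℤ, ∃ n₂ : ℤ, ∀ Y : DerivedCategory A, Y.IsLE n₂ → (F.obj Y).IsLE n₁)
    (hG : ∀ n₁ : ℤ, ∃ n₂ : ℤ, ∀ Y : DerivedCategory A, Y.IsLE n₂ → (G.obj Y).IsLE n₁)
    (X : DerivedCategory A) (b : ℤ) [X.IsLE b]
    (hX : ∀ i : ℤ, P ((DerivedCategory.homologyFunctor A i).obj X)) : IsIso (η.app X) := by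
  have hP : ∀ Z : A, IsZero Z → P Z := fun Z hZ =>
    P.prop_of_iso ((isZero_of_isLE X b (b + 1) (by omega)).iso hZ) (hX (b + 1))
  rw [DerivedCategory.isIso_iff]
  intro j
  obtain ⟨nF, hnF⟩ := hF (j - 1)
  obtain ⟨nG, hnG⟩ := hG (j - 1)
  obtain ⟨n, hn⟩ : ∃ n : ℤ, n = min nF nG + 1 := ⟨_, rfl⟩
  have hT := tt.triangleLTGE_distinguished n X
  have h1le : ((tt.truncLT n).obj X).IsLE (n - 1) := inferInstance
  have h1F : (F.obj ((tt.truncLT n).obj X)).IsLE (j - 1) :=
    hnF _ (tt.isLE_of_le _ (n - 1) nF (by rw [hn]; have := min_le_left nF nG; omega))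
  have h1G : (G.obj ((tt.truncLT n).obj X)).IsLE (j - 1) :=
    hnG _ (tt.isLE_of_le _ (n - 1) nG (by rw [hn]; have := min_le_right nF nG; omega))
  have hFπ : IsIso ((DerivedCategory.homologyFunctor B j).map
      (F.map ((tt.truncGEπ n).app X))) := by
    have hTF := F.map_distinguished _ hT
    have hm : Mono ((DerivedCategory.homologyFunctor B j).map (F.map ((tt.truncGEπ n).app X))) :=
      (HomologySequence.mono_homologyMap_mor₂_iff _ hTF j).2
        ((isZero_of_isLE (F.obj ((tt.truncLT n).obj X)) (j - 1) j (by omega)).eq_of_src _ _)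
    have he : Epi ((DerivedCategory.homologyFunctor B j).map (F.map ((tt.truncGEπ n).app X))) :=
      (HomologySequence.epi_homologyMap_mor₂_iff _ hTF j (j + 1) rfl).2
        ((isZero_of_isLE (F.obj ((tt.truncLT n).obj X)) (j - 1) (j + 1) (by omega)).eq_of_tgt _ _)
    exact isIso_of_mono_of_epi _
  have hGπ : IsIso ((DerivedCategory.homologyFunctor B j).map
      (G.map ((tt.truncGEπ n).app X))) := by
    have hTG := G.map_distinguished _ hT
    have hm : Mono ((DerivedCategory.homologyFunctor B j).map (G.map ((tt.truncGEπ n).app X))) :=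
      (HomologySequence.mono_homologyMap_mor₂_iff _ hTG j).2
        ((isZero_of_isLE (G.obj ((tt.truncLT n).obj X)) (j - 1) j (by omega)).eq_of_src _ _)
    have he : Epi ((DerivedCategory.homologyFunctor B j).map (G.map ((tt.truncGEπ n).app X))) :=
      (HomologySequence.epi_homologyMap_mor₂_iff _ hTG j (j + 1) rfl).2
        ((isZero_of_isLE (G.obj ((tt.truncLT n).obj X)) (j - 1) (j + 1) (by omega)).eq_of_tgt _ _)
    exact isIso_of_mono_of_epi _
  have h₃ : IsIso (η.app ((tt.truncGE n).obj X)) := by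
    have : ((tt.truncGE n).obj X).IsGE n := inferInstance
    have : ((tt.truncGE n).obj X).IsLE b := inferInstance
    exact isIso_app_of_bounded F G η P hη _ n b (prop_truncGE P hP X n hX)
  have sq : (DerivedCategory.homologyFunctor B j).map (η.app X) ≫
      (DerivedCategory.homologyFunctor B j).map (G.map ((tt.truncGEπ n).app X)) =
      (DerivedCategory.homologyFunctor B j).map (F.map ((tt.truncGEπ n).app X)) ≫
        (DerivedCategory.homologyFunctor B j).map (η.app ((tt.truncGE n).obj X)) := by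
    rw [← Functor.map_comp, ← Functor.map_comp]
    exact congrArg _ (η.naturality ((tt.truncGEπ n).app X)).symm
  have : IsIso ((DerivedCategory.homologyFunctor B j).map (η.app X) ≫
      (DerivedCategory.homologyFunctor B j).map (G.map ((tt.truncGEπ n).app X))) := by
    rw [sq]; infer_instance
  exact IsIso.of_isIso_comp_right _
    ((DerivedCategory.homologyFunctor B j).map (G.map ((tt.truncGEπ n).app X)))

include hη in
/-- S11151. -/
theorem isIso_app_of_wayOutBoth (hP : ∀ Z : A, IsZero Z → P Z)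
    (hF : ∀ n₁ : ℤ, ∃ n₂ : ℤ, ∀ Y : DerivedCategory A, Y.IsGE n₂ → (F.obj Y).IsGE n₁)
    (hF' : ∀ n₁ : ℤ, ∃ n₂ : ℤ, ∀ Y : DerivedCategory A, Y.IsLE n₂ → (F.obj Y).IsLE n₁)
    (hG : ∀ n₁ : ℤ, ∃ n₂ : ℤ, ∀ Y : DerivedCategory A, Y.IsGE n₂ → (G.obj Y).IsGE n₁)
    (hG' : ∀ n₁ : ℤ, ∃ n₂ : ℤ, ∀ Y : DerivedCategory A, Y.IsLE n₂ → (G.obj Y).IsLE n₁)
    (X : DerivedCategory A)
    (hX : ∀ i : ℤ, P ((DerivedCategory.homologyFunctor A i).obj X)) : IsIso (η.app X) := by
  have hT := tt.triangleLTGE_distinguished 0 X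
  have h₁ : IsIso (η.app ((tt.truncLT 0).obj X)) := by
    have : ((tt.truncLT 0).obj X).IsLE (0 - 1) := inferInstance
    exact isIso_app_of_isLE F G η P hη hF' hG' _ (0 - 1) (prop_truncLT P hP X 0 hX)
  have h₃ : IsIso (η.app ((tt.truncGE 0).obj X)) := by
    have : ((tt.truncGE 0).obj X).IsGE 0 := inferInstance
    exact isIso_app_of_isGE F G η P hη hF hG _ 0 (prop_truncGE P hP X 0 hX)
  exact isIso_app_obj₂ F G η _ hT h₁ h₃

end Groth.Agent.Lib.Helper17.WayOut
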