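import Groth.Agent.Lib.Helper17RpushBound2
import Groth.Agent.Lib.Helper17WayOut

/-!
# The right adjoint of `Rf_*` on `D_QCoh` is bounded below (helper17)
-/

set_option autoImplicit false
set_option linter.style.haveILetI false
set_option maxHeartbeats 400000

universe u

open CategoryTheory CategoryTheory.Limits Opposite AlgebraicGeometry TopologicalSpace
  Pretriangulated ZeroObject

attribute [local instance] HasDerivedCategory.standard

namespace Groth.Agent.Lib.Helper17.RAdjBound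

open Groth.Agent.Lib.Helper17.MV Groth.Agent.Lib.Helper17.KInj Groth.Agent.Lib.Helper17.AffPush
  Groth.Agent.Lib.Helper17.QCPush DerivedCategory Groth.Agent.S14388
  Groth.Agent.Lib.Helper17.WayOut

attribute [local instance] Groth.Agent.Lib.Helper17.QCPush.hasRpush

section Bound

variable {X S : Scheme.{u}}

/-- uniform vanishing bound for `Rf_*` (with an arbitrary upper bound on the source), `f`
quasi-compact quasi-separated, `S` quasi-compact. -/
theorem exists_boundS (f : X ⟶ S) [QuasiCompact f] [QuasiSeparated f] [CompactSpace S] :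
    ∃ N : ℤ, ∀ (E : DCoh.D X), DCoh.IsQCohD E → ∀ a : ℤ, E.IsLE a → ∀ m : ℤ, N + a ≤ m →
      IsZero (DCoh.HD ((DCoh.Rpush f).obj E) m) := by
  obtain ⟨t, ht⟩ := isCompact_univ.elim_finite_subcover
    (fun V : S.affineOpens => ((V.1 : S.Opens) : Set S)) (fun V => V.1.isOpen)
    (fun x _ => by
      have hx : x ∈ (⨆ V : S.affineOpens, (V.1 : S.Opens)) := by
        rw [iSup_affineOpens_eq_top]; trivial
      obtain ⟨V, hV⟩ := Opens.mem_iSup.1 hx
      exact Set.mem_iUnion.2 ⟨V, hV⟩)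
  have hb : ∀ V : S.affineOpens, ∃ N : ℤ, ∀ (E : DCoh.D X), DCoh.IsQCohD E → ∀ a : ℤ,
      E.IsLE a → ∀ m : ℤ, N + a ≤ m →
      IsZero ((Scheme.Modules.restrictFunctor V.1.ι).obj (DCoh.HD ((DCoh.Rpush f).obj E) m)) :=
    fun V => exists_bound_local f V.1 V.2
  choose N hN using hb
  obtain ⟨M, hM⟩ := (t.image N).exists_le
  refine ⟨M, fun E hE a hLE m hm => ?_⟩
  refine Groth.Agent.Lib.Helper23.ModLocal.isZero_of_isZero_restrict
    (fun V : t => ((V.1.1 : S.Opens) : Scheme.{u})) (fun V => V.1.1.ι) (fun x => ?_) (fun V => ?_)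
  · have hx : x ∈ ⋃ V ∈ t, ((V.1 : S.Opens) : Set S) := ht (Set.mem_univ x)
    obtain ⟨V, hV⟩ := Set.mem_iUnion.1 hx
    obtain ⟨hVt, hxV⟩ := Set.mem_iUnion.1 hV
    exact ⟨⟨V, hVt⟩, ⟨x, hxV⟩, rfl⟩
  · have h1 := hM _ (Finset.mem_image_of_mem N V.2)
    exact hN V.1 E hE a hLE m (by omega)

end Bound

section Main

variable (X Y : Scheme.{u}) [CompactSpace X] [QuasiSeparatedSpace X] [CompactSpace Y]
  [QuasiSeparatedSpace Y] (f : X ⟶ Y)
  (h : ∀ K : DCoh.D X, DCoh.IsQCohD K → DCoh.IsQCohD ((DCoh.Rpush f).obj K))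
  (a : DCoh.DQCoh Y ⥤ DCoh.DQCoh X)
  (adj : (ObjectProperty.lift DCoh.IsQCohD (ObjectProperty.ι DCoh.IsQCohD ⋙ DCoh.Rpush f)
    (fun K => h K.obj K.property)) ⊣ a)

include adj in
theorem rightAdjoint_bounded :
    ∃ N : ℕ, ∀ (K : DCoh.DQCoh Y) (c : ℤ), (∀ i : ℤ, i ≤ c → IsZero (DCoh.HD K.obj i)) →
      ∀ i : ℤ, i ≤ c - N → IsZero (DCoh.HD (a.obj K).obj i) := by
  haveI : QuasiCompact f := inferInstance
  haveI : QuasiSeparated f := inferInstance
  obtain ⟨N₀, hN₀⟩ := exists_boundS f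
  refine ⟨N₀.toNat, fun K c hK i hi => ?_⟩
  have hMq : DCoh.IsQCohD (a.obj K).obj := (a.obj K).property
  obtain ⟨n, hn⟩ : ∃ n : ℤ, n = c - N₀.toNat := ⟨_, rfl⟩
  have hLq : DCoh.IsQCohD ((tt.truncLT (n + 1)).obj (a.obj K).obj) := fun i =>
    prop_truncLT (P := fun M : X.Modules => Coh.IsQCoh M)
      (fun Z hZ => isQuasicoherent_of_isZero hZ) _ (n + 1) hMq i
  have hLle : ((tt.truncLT (n + 1)).obj (a.obj K).obj).IsLE n :=
    inferInstanceAs (tt.IsLE ((tt.truncLT (n + 1)).obj (a.obj K).obj) n)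
  have hR : ((DCoh.Rpush f).obj ((tt.truncLT (n + 1)).obj (a.obj K).obj)).IsLE c := by
    rw [DerivedCategory.isLE_iff]
    intro m hm
    refine hN₀ _ hLq n hLle m ?_
    have := Int.self_le_toNat N₀
    omega
  have hKge : K.obj.IsGE (c + 1) := by
    rw [DerivedCategory.isGE_iff]
    intro i hi
    exact hK i (by omega)
  have hsub : ∀ φ ψ : (ObjectProperty.lift DCoh.IsQCohD
      (ObjectProperty.ι DCoh.IsQCohD ⋙ DCoh.Rpush f) (fun K => h K.obj K.property)).obj
        ⟨(tt.truncLT (n + 1)).obj (a.obj K).obj, hLq⟩ ⟶ K, φ = ψ := by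
    intro φ ψ
    apply ObjectProperty.hom_ext
    have h1 : ∀ χ : (DCoh.Rpush f).obj ((tt.truncLT (n + 1)).obj (a.obj K).obj) ⟶ K.obj,
        χ = 0 := fun χ => tt.zero_of_isLE_of_isGE χ c (c + 1) (by omega) hR hKge
    exact (h1 _).trans (h1 _).symm
  have hι : (tt.truncLTι (n + 1)).app (a.obj K).obj = 0 := by
    have h2 : (ObjectProperty.homMk ((tt.truncLTι (n + 1)).app (a.obj K).obj) :
        (⟨(tt.truncLT (n + 1)).obj (a.obj K).obj, hLq⟩ : DCoh.DQCoh X) ⟶ a.obj K) =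
        ObjectProperty.homMk 0 := by
      apply (adj.homEquiv _ _).symm.injective
      exact hsub _ _
    exact congrArg (fun φ => φ.hom) h2
  haveI := isIso_homology_truncLTι (n + 1) i (by omega) (a.obj K).obj
  rw [hι, Functor.map_zero] at this
  rw [IsZero.iff_id_eq_zero]
  have h3 := IsIso.inv_hom_id (0 : (DerivedCategory.homologyFunctor X.Modules i).obj
    ((tt.truncLT (n + 1)).obj (a.obj K).obj) ⟶
      (DerivedCategory.homologyFunctor X.Modules i).obj (a.obj K).obj)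
  rw [comp_zero] at h3
  exact h3.symm

end Main

end Groth.Agent.Lib.Helper17.RAdjBound
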