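import Groth.Agent.Lib.Helper17DQBound1
import Groth.Agent.Lib.Helper17DQAdj3
import Groth.Agent.Lib.Helper17RAdjBound
import Groth.Agent.Lib.Helper17Lsec7
import Groth.Agent.Lib.Helper17AffPush8
import Groth.Agent.Lib.Helper17AdjWay1
import Groth.Agent.Lib.Helper17LocCohVan3
import Groth.Agent.Lib.Helper23Serre

/-!
# Amplitude of `DQ_X(K)` (helper17): the affine case and `Rj_*`
-/

set_option autoImplicit false
set_option linter.style.haveILetI false
set_option maxHeartbeats 400000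
set_option synthInstance.maxHeartbeats 40000

universe u

open CategoryTheory CategoryTheory.Limits Opposite AlgebraicGeometry TopologicalSpace
  Pretriangulated Triangulated

attribute [local instance] HasDerivedCategory.standard

namespace Groth.Agent.Lib.Helper17.DQBound

open Groth.Agent.Lib.Helper17.MV Groth.Agent.Lib.Helper17.KInj Groth.Agent.Lib.Helper17.AffPush
  Groth.Agent.Lib.Helper17.QCPush Groth.Agent.Lib.Helper17.DQAdj Groth.Agent.Lib.Helper17.Lsec
  Groth.Agent.Lib.Helper17.Hyp Groth.Agent.Lib.Helper17.HypX DerivedCategory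
  Groth.Agent.Lib.Helper17.TildeD Groth.Agent.Lib.Helper17.FFaith

attribute [local instance] Groth.Agent.Lib.Helper17.QCPush.hasRpush

section Affine

/-- a quasi-coherent module on an affine scheme without global sections vanishes. -/
theorem isZero_of_subsingleton_top (Z : Scheme.{u}) [IsAffine Z] (M : Z.Modules)
    [M.IsQuasicoherent] (h : Subsingleton ((frX Z).obj ⊤ ⟶ M)) : IsZero M := by
  have hloc := locFr_frModR Z.ringCatSheaf
  rw [IsZero.iff_id_eq_zero]
  apply hloc.gen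
  intro U s
  refine (Category.comp_id s).trans ?_
  let R : Presieve U := fun W _ => Subsingleton ((frX Z).obj W ⟶ M)
  have hR : Sieve.generate R ∈ Opens.grothendieckTopology Z U := by
    intro x hx
    have hU₁ : IsAffineOpen (⊤ : Z.Opens) := isAffineOpen_top Z
    obtain ⟨a, haW, hxa⟩ := hU₁.exists_basicOpen_le (V := U) ⟨x, hx⟩ trivial
    refine ⟨Z.basicOpen a, homOfLE haW, ⟨_, 𝟙 _, homOfLE haW, ?_, Category.id_comp _⟩, hxa⟩
    haveI h1 : Subsingleton Γ(M, ⊤) :=
      @Equiv.subsingleton _ _ (secAddEquiv Z.ringCatSheaf M ⊤).symm.toEquiv h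
    haveI := isLocalizedModule_resLin hU₁ M a
    haveI h2 : Subsingleton (RS M (Z.basicOpen_le a)) :=
      IsLocalizedModule.subsingleton_of_subsingleton (Submonoid.powers a)
        (resLin M (Z.basicOpen_le a))
    have h3 : Subsingleton Γ(M, Z.basicOpen a) := h2
    exact @Equiv.subsingleton _ _ (secAddEquiv Z.ringCatSheaf M (Z.basicOpen a)).toEquiv h3
  exact hloc.zero_of_generate U s R hR (fun W g hg => @Subsingleton.elim _ hg _ _)

lemma isQCohD_dsgl_fr_top (Z : Scheme.{u}) : DCoh.IsQCohD (dsgl ((frX Z).obj ⊤)) := by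
  obtain ⟨e⟩ := nonempty_frX_top_iso Z
  haveI : (SheafOfModules.unit Z.ringCatSheaf).IsQuasicoherent :=
    Groth.Agent.Lib.Helper23.Serre.isQuasicoherent_structureModule' Z
  exact isQCohD_of_iso ((singleFunctor Z.Modules 0).mapIso e.symm)
    (Groth.Agent.Lib.Helper17.LocCohVan.isQCohD_inD (SheafOfModules.unit Z.ringCatSheaf))

/-- the affine case: `DQ(K)` has the amplitude of `RΓ(Z, K)`. -/
theorem goodB_of_isAffine (Z : Scheme.{u}) [IsAffine Z] (K : DCoh.D Z) (a b : ℤ)
    (h : HypHom K a b) : GoodB TStructure.t (DCoh.IsQCohD (X := Z)) K a b := by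
  obtain ⟨Q, hQ, ε, hε⟩ := good_of_isAffine Z K
  have key : ∀ n : ℤ, (n < a ∨ b < n) → IsZero (DCoh.HD Q n) := by
    intro n hn
    haveI := isGrothendieckAbelian Z
    haveI := hasLimitsOfShape_nat_modules Z
    have hεn := hε.shift _ (fun A n hA => isQCohD_shift A n hA) n
    have hO : DCoh.IsQCohD (dsgl ((frX Z).obj ⊤)) := isQCohD_dsgl_fr_top Z
    have h1 : ∀ ξ : dsgl ((frX Z).obj ⊤) ⟶ Q⟦n⟧, ξ = 0 := by
      intro ξ
      apply (hεn _ hO).1
      change ξ ≫ ε⟦n⟧' = 0 ≫ ε⟦n⟧'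
      rw [zero_comp]
      exact h ⊤ (isAffineOpen_top Z) n hn _
    have hcoh : WSerre.cohIn (qc Z) (Q⟦n⟧) := isQCohD_shift Q n hQ
    have hb := bijective_c₀.{u + 1, u} (acycData Z) (Q⟦n⟧) hcoh (U := ⊤) (isAffineOpen_top Z)
    have h2 : Subsingleton ((frX Z).obj ⊤ ⟶ (homologyFunctor Z.Modules 0).obj (Q⟦n⟧)) := by
      constructor
      intro s s'
      obtain ⟨ξ, rfl⟩ := hb.2 s
      obtain ⟨ξ', rfl⟩ := hb.2 s'
      rw [h1 ξ, h1 ξ']
    haveI : ((homologyFunctor Z.Modules 0).obj (Q⟦n⟧)).IsQuasicoherent := hcoh 0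
    have h3 := isZero_of_subsingleton_top Z _ h2
    exact IsZero.of_iso h3 (shIso Q n).symm
  refine ⟨Q, hQ, ε, hε, ?_, ?_⟩
  · change Q.IsGE a
    rw [isGE_iff]
    intro i hi
    exact key i (Or.inl hi)
  · change Q.IsLE b
    rw [isLE_iff]
    intro i hi
    exact key i (Or.inr hi)

end Affine

section Rpush

variable {X U : Scheme.{u}} (j : U ⟶ X) [IsOpenImmersion j]

/-- `Rj_*` preserves bounded good objects, with a uniform shift of the upper bound. -/
theorem exists_goodB_rpush [QuasiCompact j] [CompactSpace X] :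
    ∃ M : ℤ, ∀ (L : DCoh.D U) (a c : ℤ), GoodB TStructure.t (DCoh.IsQCohD (X := U)) L a c →
      GoodB TStructure.t (DCoh.IsQCohD (X := X)) ((DCoh.Rpush j).obj L) a (c + M) := by
  obtain ⟨N, hN⟩ := Groth.Agent.Lib.Helper17.RAdjBound.exists_boundS j
  refine ⟨N - 1, fun L a c hL => ?_⟩
  obtain ⟨Q, hQ, ε, hε, h1, h2⟩ := hL
  refine ⟨(DCoh.Rpush j).obj Q, isQCohD_rpush j Q hQ, (DCoh.Rpush j).map ε,
    hε.map_of_adjunction _ _ (adjD j) (fun A hA => isQCohD_restrictD' j A hA), ?_, ?_⟩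
  · haveI : Q.IsGE a := h1
    exact Groth.Agent.Lib.Helper17.AdjWay.isGE_right (Scheme.Modules.restrictFunctor j)
      (DCoh.Rpush j) (adjD j) Q a
  · change ((DCoh.Rpush j).obj Q).IsLE (c + (N - 1))
    rw [isLE_iff]
    intro i hi
    exact hN Q hQ c h2 i (by omega)

end Rpush

end Groth.Agent.Lib.Helper17.DQBound
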