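import Groth.Agent.Lib.Helper17DQBound2

/-!
# Amplitude of `DQ_X(K)` (helper17): the induction
-/

set_option autoImplicit false
set_option linter.style.haveILetI false
set_option maxHeartbeats 400000
set_option synthInstance.maxHeartbeats 40000

universe u

open CategoryTheory CategoryTheory.Limits Opposite AlgebraicGeometry TopologicalSpace
  Pretriangulated Triangulated

attribute [local instance] HasDerivedCategory.standard

namespace Groth.Agent.Lib.Helper17.DQBound

open Groth.Agent.Lib.Helper17.MV Groth.Agent.Lib.Helper17.KInj Groth.Agent.Lib.Helper17.AffPush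
  Groth.Agent.Lib.Helper17.QCPush Groth.Agent.Lib.Helper17.DQAdj Groth.Agent.Lib.Helper17.Lsec
  Groth.Agent.Lib.Helper17.Hyp Groth.Agent.Lib.Helper17.HypX DerivedCategory

attribute [local instance] Groth.Agent.Lib.Helper17.QCPush.hasRpush

variable {X : Scheme.{u}}

/-- the inductive property. -/
def PBound (X : Scheme.{u}) (U : X.Opens) : Prop :=
  ∀ (Z : Scheme.{u}) (i : Z ⟶ X) [IsOpenImmersion i], i.opensRange = U →
    ∃ N : ℤ, ∀ (K : DCoh.D Z) (a b : ℤ), HypHom K a b →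
      GoodB TStructure.t (DCoh.IsQCohD (X := Z)) K a (b + N)

theorem pBound_affine (U : X.Opens) (hU : IsAffineOpen U) : PBound X U := by
  intro Z i _ hi
  haveI : IsAffine Z := by
    have h : IsAffineOpen i.opensRange := hi ▸ hU
    haveI : IsAffine (i.opensRange : Scheme.{u}) := h
    exact IsAffine.of_isIso i.isoOpensRange.hom
  exact ⟨0, fun K a b h => (goodB_of_isAffine Z K a b h).mono le_rfl (by omega)⟩

theorem pBound_sup [QuasiSeparatedSpace X] (U V : X.Opens) (hUc : IsCompact (U : Set X))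
    (hVc : IsCompact (V : Set X)) (hU : PBound X U) (hV : PBound X V)
    (hUV : PBound X (U ⊓ V)) : PBound X (U ⊔ V) := by
  intro Z i _ hi
  haveI : QuasiSeparatedSpace Z := QuasiSeparatedSpace.of_isOpenEmbedding i.isOpenEmbedding
  haveI : CompactSpace Z := by
    have h1 : IsCompact ((i ''ᵁ (⊤ : Z.Opens) : X.Opens) : Set X) := by
      rw [Scheme.Hom.image_top_eq_opensRange, hi]
      exact hUc.union hVc
    have h2 : IsCompact ((⊤ : Z.Opens) : Set Z) := i.isOpenEmbedding.isInducing.isCompact_iff.2 h1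
    exact isCompact_univ_iff.1 h2
  have hcov : i ⁻¹ᵁ U ⊔ i ⁻¹ᵁ V = ⊤ := by
    rw [← Scheme.Hom.preimage_sup, ← hi, Scheme.Hom.preimage_opensRange]
  have hshift : ∀ (A : DCoh.D Z) (n : ℤ), DCoh.IsQCohD A → DCoh.IsQCohD (A⟦n⟧) :=
    fun A n hA => isQCohD_shift A n hA
  have hcone : ∀ T : Triangle (DCoh.D Z), T ∈ distTriang (DCoh.D Z) → DCoh.IsQCohD T.obj₁ →
      DCoh.IsQCohD T.obj₂ → DCoh.IsQCohD T.obj₃ := fun T hT h₁ h₂ => isQCohD_obj₃ T hT h₁ h₂
  have key : ∀ (W' : Z.Opens) (W : X.Opens), i ''ᵁ W' = W → IsCompact (W : Set X) → PBound X W →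
      ∃ N : ℤ, ∀ (K : DCoh.D Z) (a b : ℤ), HypHom K a b →
        GoodB TStructure.t (DCoh.IsQCohD (X := Z))
          ((DCoh.Rpush W'.ι).obj ((DCoh.restrictD W'.ι).obj K)) a (b + N) := by
    intro W' W hW hWc hP
    have hr : (W'.ι ≫ i).opensRange = W := by
      rw [Scheme.Hom.opensRange_comp, Scheme.Opens.opensRange_ι, hW]
    haveI : CompactSpace (W' : Scheme.{u}) := by
      have h1 : IsCompact ((i ''ᵁ W' : X.Opens) : Set X) := hW ▸ hWc
      have h2 : IsCompact (W' : Set Z) := i.isOpenEmbedding.isInducing.isCompact_iff.2 h1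
      exact isCompact_iff_compactSpace.1 h2
    obtain ⟨N₁, hN₁⟩ := hP _ (W'.ι ≫ i) hr
    obtain ⟨M, hM⟩ := exists_goodB_rpush W'.ι
    refine ⟨N₁ + M, fun K a b h => ?_⟩
    have h1 := hM _ a _ (hN₁ _ a b (h.restrict W'))
    exact h1.mono le_rfl (by omega)
  have hU' : i ''ᵁ (i ⁻¹ᵁ U) = U := by
    rw [Scheme.Hom.image_preimage_eq_opensRange_inf, hi]
    exact inf_eq_right.2 le_sup_left
  have hV' : i ''ᵁ (i ⁻¹ᵁ V) = V := by
    rw [Scheme.Hom.image_preimage_eq_opensRange_inf, hi]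
    exact inf_eq_right.2 le_sup_right
  have hUV' : i ''ᵁ (i ⁻¹ᵁ U ⊓ i ⁻¹ᵁ V) = U ⊓ V := by
    rw [← Scheme.Hom.preimage_inf, Scheme.Hom.image_preimage_eq_opensRange_inf, hi]
    exact inf_eq_right.2 (inf_le_left.trans le_sup_left)
  have hUVc : IsCompact ((U ⊓ V : X.Opens) : Set X) :=
    hUc.inter_of_isOpen hVc U.isOpen V.isOpen
  obtain ⟨NU, hNU⟩ := key _ U hU' hUc hU
  obtain ⟨NV, hNV⟩ := key _ V hV' hVc hV
  obtain ⟨NW, hNW⟩ := key _ (U ⊓ V) hUV' hUVc hUV
  refine ⟨max NU (max NV (NW + 1)), fun K a b h => ?_⟩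
  obtain ⟨fa, fb, fc, hT⟩ := mv_triangle (i ⁻¹ᵁ U) (i ⁻¹ᵁ V) hcov K
  have h2 := GoodB.biprod hshift hcone
    ((hNU K a b h).mono le_rfl (show b + NU ≤ b + max NU (max NV (NW + 1)) by
      have := le_max_left NU (max NV (NW + 1)); omega))
    ((hNV K a b h).mono le_rfl (show b + NV ≤ b + max NU (max NV (NW + 1)) by
      have := le_max_left NV (NW + 1)
      have := le_max_right NU (max NV (NW + 1)); omega))
  have h3 := (hNW K a b h).mono (show a - 1 ≤ a by omega)
    (show b + NW ≤ b + max NU (max NV (NW + 1)) - 1 by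
      have := le_max_right NV (NW + 1)
      have := le_max_right NU (max NV (NW + 1)); omega)
  exact GoodB.obj₁ hshift hcone _ hT h2 h3

/-- `X` quasi-compact quasi-separated: `DQ_X(K)` has amplitude in `[a, b + N]` as soon as
`Hom(O_X ⊗ ℤ_V, K[n]) = 0` for `V` affine and `n ∉ [a, b]`. -/
theorem exists_bound (X : Scheme.{u}) [CompactSpace X] [QuasiSeparatedSpace X] :
    ∃ N : ℤ, ∀ (K : DCoh.D X) (a b : ℤ), HypHom K a b →
      GoodB TStructure.t (DCoh.IsQCohD (X := X)) K a (b + N) := by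
  have h := Groth.Agent.S0015.result X (PBound X) pBound_affine
    (fun U V hUc hV hPU hPV hPUV => pBound_sup U V hUc hV.isCompact hPU hPV hPUV) ⊤ isCompact_univ
  exact h X (𝟙 X) (Scheme.Hom.opensRange_of_isIso _)

/-- the statement for the chosen right adjoint. -/
theorem dq_bounded (X : Scheme.{u}) [CompactSpace X] [QuasiSeparatedSpace X]
    [(ObjectProperty.ι (DCoh.IsQCohD (X := X))).IsLeftAdjoint] :
    ∃ N : ℕ, ∀ (K : DCoh.D X) (a b : ℤ), HypHom K a b →
      ∀ i : ℤ, (i < a ∨ b + (N : ℤ) < i) →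
        IsZero (DCoh.HD (((ObjectProperty.ι (DCoh.IsQCohD (X := X))).rightAdjoint.obj K).obj) i) := by
  obtain ⟨N, hN⟩ := exists_bound X
  refine ⟨N.toNat, fun K a b h i hi => ?_⟩
  have hG := (hN K a b h).mono le_rfl (show b + N ≤ b + (N.toNat : ℤ) by
    have := Int.self_le_toNat N; omega)
  let adj := Adjunction.ofIsLeftAdjoint (ObjectProperty.ι (DCoh.IsQCohD (X := X)))
  have huniv : IsUniv (DCoh.IsQCohD (X := X)) (adj.counit.app K) :=
    isUniv_counit _ adj (fun Q' hQ' => ⟨⟨Q', hQ'⟩, ⟨Iso.refl _⟩⟩) K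
  obtain ⟨h1, h2⟩ := hG.bounds
    ((ObjectProperty.ι (DCoh.IsQCohD (X := X))).rightAdjoint.obj K).property
    (adj.counit.app K) huniv
  rcases hi with hi | hi
  · haveI : (((ObjectProperty.ι (DCoh.IsQCohD (X := X))).rightAdjoint.obj K).obj).IsGE a := h1
    exact isZero_of_isGE _ a i hi
  · haveI : (((ObjectProperty.ι (DCoh.IsQCohD (X := X))).rightAdjoint.obj K).obj).IsLE
      (b + (N.toNat : ℤ)) := h2
    exact isZero_of_isLE _ _ i hi

end Groth.Agent.Lib.Helper17.DQBound
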