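import Mathlib.CategoryTheory.ObjectProperty.FullSubcategory
import Mathlib.CategoryTheory.Adjunction.Basic
import Mathlib.CategoryTheory.Yoneda

/-!
# Coreflections commute with right adjoints preserving the subcategories (helper17)

`L ⊣ R` between categories `𝒟_Y`, `𝒟_X`, with full subcategories `P_Y`, `P_X` preserved by `L` and
`R`, whose inclusions have right adjoints `DQ_Y`, `DQ_X`.  Then the comparison
`R (DQ_X K) ⟶ DQ_Y (R K)` is an isomorphism.
-/

set_option autoImplicit false

universe v₁ v₂ u₁ u₂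

open CategoryTheory

namespace Groth.Agent.Lib.Helper17.DQComp

variable {DX : Type u₁} [Category.{v₁} DX] {DY : Type u₂} [Category.{v₂} DY]
  (PX : ObjectProperty DX) (PY : ObjectProperty DY)
  (L : DY ⥤ DX) (R : DX ⥤ DY) (adj : L ⊣ R)
  (hL : ∀ Q : DY, PY Q → PX (L.obj Q)) (hR : ∀ K : DX, PX K → PY (R.obj K))
  {RX : DX ⥤ PX.FullSubcategory} (adjX : PX.ι ⊣ RX)
  {RY : DY ⥤ PY.FullSubcategory} (adjY : PY.ι ⊣ RY)

include adj hL in
theorem isIso_comparison (K : DX) :
    IsIso (adjY.homEquiv (⟨R.obj (RX.obj K).obj, hR _ (RX.obj K).property⟩ : PY.FullSubcategory)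
      (R.obj K) (R.map (adjX.counit.app K))) := by
  apply isIso_of_yoneda_map_bijective
  intro T
  have key : ∀ x : T ⟶ (⟨R.obj (RX.obj K).obj, hR _ (RX.obj K).property⟩ : PY.FullSubcategory),
      x ≫ adjY.homEquiv (⟨R.obj (RX.obj K).obj, hR _ (RX.obj K).property⟩ : PY.FullSubcategory)
        (R.obj K) (R.map (adjX.counit.app K)) =
      adjY.homEquiv T (R.obj K) (PY.ι.map x ≫ R.map (adjX.counit.app K)) := fun x =>
    (adjY.homEquiv_naturality_left x _).symm
  let W : PX.FullSubcategory := ⟨L.obj T.obj, hL _ T.property⟩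
  constructor
  · intro x x' hxx
    dsimp only at hxx
    rw [key, key] at hxx
    have h1 := (adjY.homEquiv T (R.obj K)).injective hxx
    have h2 := congrArg (adj.homEquiv T.obj K).symm h1
    rw [adj.homEquiv_naturality_right_symm, adj.homEquiv_naturality_right_symm] at h2
    -- the two maps `L T ⟶ ι (RX K)` come from the subcategory
    let a : W ⟶ RX.obj K := ObjectProperty.homMk ((adj.homEquiv T.obj _).symm (PY.ι.map x))
    let a' : W ⟶ RX.obj K := ObjectProperty.homMk ((adj.homEquiv T.obj _).symm (PY.ι.map x'))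
    have h3 : (adjX.homEquiv W K).symm a = (adjX.homEquiv W K).symm a' := by
      rw [adjX.homEquiv_counit, adjX.homEquiv_counit]
      exact h2
    have h4 : a = a' := (adjX.homEquiv W K).symm.injective h3
    have h5 : (adj.homEquiv T.obj _).symm (PY.ι.map x) =
        (adj.homEquiv T.obj _).symm (PY.ι.map x') := congrArg (fun t => t.hom) h4
    exact PY.ι.map_injective ((adj.homEquiv T.obj _).symm.injective h5)
  · intro y
    let y₁ : PY.ι.obj T ⟶ R.obj K := (adjY.homEquiv T (R.obj K)).symm y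
    let y₂ : L.obj T.obj ⟶ K := (adj.homEquiv T.obj K).symm y₁
    let y₃ : W ⟶ RX.obj K := adjX.homEquiv W K y₂
    let x₁ : T.obj ⟶ R.obj (RX.obj K).obj := adj.homEquiv T.obj _ (PX.ι.map y₃)
    refine ⟨ObjectProperty.homMk x₁, ?_⟩
    dsimp only
    rw [key]
    have h1 : PY.ι.map (ObjectProperty.homMk x₁ :
        T ⟶ (⟨R.obj (RX.obj K).obj, hR _ (RX.obj K).property⟩ : PY.FullSubcategory)) = x₁ := rfl
    rw [h1]
    have h2 : x₁ ≫ R.map (adjX.counit.app K) = y₁ := by
      dsimp only [x₁]
      rw [← adj.homEquiv_naturality_right]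
      have h3 : PX.ι.map y₃ ≫ adjX.counit.app K = y₂ :=
        (adjX.homEquiv_counit W K y₃).symm.trans ((adjX.homEquiv W K).symm_apply_apply y₂)
      rw [h3]
      exact (adj.homEquiv T.obj K).apply_symm_apply y₁
    rw [h2]
    exact (adjY.homEquiv T (R.obj K)).apply_symm_apply y

end Groth.Agent.Lib.Helper17.DQComp
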