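import Groth.Agent.Lib.Helper17DRingAdj3
import Mathlib.Algebra.Category.ModuleCat.Localization

/-!
# A complex on whose terms `S` acts bijectively is a restriction of scalars from the localization
(helper17)
-/

set_option autoImplicit false

universe u

open CategoryTheory CategoryTheory.Limits HomologicalComplex DerivedCategory

attribute [local instance] HasDerivedCategory.standard

namespace Groth.Agent.Lib.Helper17.DRingAdj

variable {A : Type u} [CommRing A] (S : Submonoid A)

/-- the localization map, with values in the restriction of scalars of the localized module. -/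
noncomputable def locUnitLin (M : ModuleCat.{u} A) :
    M →ₗ[A] ((ModuleCat.restrictScalars.{u} (algebraMap A (Localization S))).obj
      (M.localizedModule S)) where
  toFun := fun m => M.localizedModuleMkLinearMap S m
  map_add' := fun x y => map_add (M.localizedModuleMkLinearMap S) x y
  map_smul' := fun a x => by
    change M.localizedModuleMkLinearMap S (a • x) =
      algebraMap A (Localization S) a • (M.localizedModuleMkLinearMap S x)
    rw [map_smul, algebraMap_smul]

lemma locUnitLin_bijective (M : ModuleCat.{u} A)
    (h : ∀ s : S, Function.Bijective (fun x : M => (s : A) • x)) :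
    Function.Bijective (locUnitLin S M) := by
  constructor
  · intro x y hxy
    have hxy' : M.localizedModuleMkLinearMap S x = M.localizedModuleMkLinearMap S y := hxy
    obtain ⟨c, hc⟩ := IsLocalizedModule.exists_of_eq (S := S) hxy'
    exact (h c).1 hc
  · intro y
    obtain ⟨⟨x, s⟩, hx⟩ := IsLocalizedModule.surj S (M.localizedModuleMkLinearMap S)
      (show M.localizedModule S from y)
    obtain ⟨x', hx'⟩ := (h s).2 x
    refine ⟨x', ?_⟩
    change M.localizedModuleMkLinearMap S x' = _
    apply IsLocalizedModule.smul_injective (M.localizedModuleMkLinearMap S) s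
    dsimp only
    rw [hx, ← hx']
    exact (map_smul (M.localizedModuleMkLinearMap S) (s : A) x').symm

/-- the localization map as a morphism of modules. -/
noncomputable def locUnit (M : ModuleCat.{u} A) :
    M ⟶ (ModuleCat.restrictScalars.{u} (algebraMap A (Localization S))).obj
      (M.localizedModule S) :=
  ConcreteCategory.ofHom (C := ModuleCat.{u} A) (locUnitLin S M)

lemma locUnit_naturality {M N : ModuleCat.{u} A} (g : M ⟶ N) :
    locUnit S M ≫ (ModuleCat.restrictScalars.{u} (algebraMap A (Localization S))).map
      ((ModuleCat.localizedModuleFunctor S).map g) = g ≫ locUnit S N := by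
  apply ModuleCat.hom_ext
  apply LinearMap.ext
  intro x
  change (ModuleCat.localizedModuleMap S g).hom (M.localizedModuleMkLinearMap S x) =
    N.localizedModuleMkLinearMap S (g.hom x)
  rw [ModuleCat.localizedModuleMap_hom_apply]
  exact IsLocalizedModule.map_apply S _ _ _ _

lemma isIso_locUnit (M : ModuleCat.{u} A)
    (h : ∀ s : S, Function.Bijective (fun x : M => (s : A) • x)) : IsIso (locUnit S M) :=
  (ConcreteCategory.isIso_iff_bijective (locUnit S M)).2 (locUnitLin_bijective S M h)

/-- the localized complex. -/
noncomputable def locCx (K : CochainComplex (ModuleCat.{u} A) ℤ) :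
    CochainComplex (ModuleCat.{u} (Localization S)) ℤ :=
  ((ModuleCat.localizedModuleFunctor S).mapHomologicalComplex (ComplexShape.up ℤ)).obj K

/-- `K ≅ res (S⁻¹ K)` when `S` acts bijectively on the terms of `K`. -/
noncomputable def isoRestrictLocCx (K : CochainComplex (ModuleCat.{u} A) ℤ)
    (h : ∀ (i : ℤ) (s : S), Function.Bijective (fun x : K.X i => (s : A) • x)) :
    K ≅ ((ModuleCat.restrictScalars.{u} (algebraMap A (Localization S))).mapHomologicalComplex
      (ComplexShape.up ℤ)).obj (locCx S K) :=
  HomologicalComplex.Hom.isoOfComponents
    (fun i => @asIso _ _ _ _ (locUnit S (K.X i)) (isIso_locUnit S (K.X i) (h i)))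
    (fun i j _ => locUnit_naturality S (K.d i j))

/-- in the derived category. -/
noncomputable def isoRestrictDLocCx (K : CochainComplex (ModuleCat.{u} A) ℤ)
    (h : ∀ (i : ℤ) (s : S), Function.Bijective (fun x : K.X i => (s : A) • x)) :
    (Q : _ ⥤ Dual.D A).obj K ≅
      (DRing.restrictD (algebraMap A (Localization S))).obj
        ((Q : _ ⥤ Dual.D (Localization S)).obj (locCx S K)) :=
  (Q : _ ⥤ Dual.D A).mapIso (isoRestrictLocCx S K h) ≪≫
    ((ModuleCat.restrictScalars.{u}
      (algebraMap A (Localization S))).mapDerivedCategoryFactors.app (locCx S K)).symm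

end Groth.Agent.Lib.Helper17.DRingAdj
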