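import Mathlib.CategoryTheory.Triangulated.LocalizingSubcategory
import Mathlib.CategoryTheory.Localization.DerivabilityStructure.Constructor
import Mathlib.CategoryTheory.Localization.DerivabilityStructure.Derives

/-!
# A right derivability structure from resolutions in a triangulated category (helper17)

Let `A`, `B` be triangulated subcategories of a triangulated category `C` (`B` closed under
isomorphisms) such that every object `X` of `C` admits a morphism `s : X ⟶ Z` in `B.trW` with
`Z` in `A`.  Then the localizer morphism `A.triangulatedLocalizerMorphism B` is a right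
derivability structure.
-/

set_option autoImplicit false
set_option backward.isDefEq.respectTransparency false

universe v u

open CategoryTheory CategoryTheory.Limits CategoryTheory.Pretriangulated

namespace Groth.Agent.Lib.Helper17.DS

variable {C : Type u} [Category.{v} C] [HasZeroObject C] [HasShift C ℤ] [Preadditive C]
  [∀ (n : ℤ), (shiftFunctor C n).Additive] [Pretriangulated C] [IsTriangulated C]
  (A B : ObjectProperty C) [A.IsTriangulated] [B.IsTriangulated] [B.IsClosedUnderIsomorphisms]

/-- the hypothesis that every object has an `A`-resolution. -/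
def HasRes : Prop := ∀ X : C, ∃ (Z : C) (_ : A Z) (s : X ⟶ Z), B.trW s

variable {A B}

include A B in
lemma isVerdierRightLocalizing (hres : HasRes A B) : A.IsVerdierRightLocalizing B := by
  rw [ObjectProperty.isVerdierRightLocalizing_iff]
  intro X Y s hX hs
  obtain ⟨Z, hZ, b, hb⟩ := hres Y
  refine ⟨Z, s ≫ b, b, hZ, ?_, rfl⟩
  have hsb : B.trW (s ≫ b) := B.trW.comp_mem _ _ hs hb
  obtain ⟨W', hW', g', h', hT'⟩ := A.distinguished_cocone_triangle (s ≫ b) hX hZ
  rw [ObjectProperty.trW_iff]
  exact ⟨W', g', h', hT', hW', (B.trW_iff_of_distinguished _ hT').1 hsb⟩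

include A B in
lemma hasRightResolutions (hres : HasRes A B) :
    (A.triangulatedLocalizerMorphism B).HasRightResolutions := by
  intro X
  obtain ⟨Z, hZ, s, hs⟩ := hres X
  exact ⟨{ X₁ := ⟨Z, hZ⟩, w := s, hw := hs }⟩

lemma isLocalizedEquivalence (hres : HasRes A B) :
    (A.triangulatedLocalizerMorphism B).IsLocalizedEquivalence := by
  haveI := isVerdierRightLocalizing hres
  haveI : (A.triangulatedLocalizerMorphism B).HasRightResolutions := hasRightResolutions hres
  let G := (A.triangulatedLocalizerMorphism B).localizedFunctor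
    (B.inverseImage A.ι).trW.Q B.trW.Q
  haveI : ((A.triangulatedLocalizerMorphism B).functor ⋙ B.trW.Q).EssSurj :=
    (A.triangulatedLocalizerMorphism B).essSurj_of_hasRightResolutions B.trW.Q
  have e : (A.triangulatedLocalizerMorphism B).functor ⋙ B.trW.Q ≅
      (B.inverseImage A.ι).trW.Q ⋙ G :=
    ((A.triangulatedLocalizerMorphism B).catCommSq (B.inverseImage A.ι).trW.Q B.trW.Q).iso
  haveI : ((B.inverseImage A.ι).trW.Q ⋙ G).EssSurj := Functor.essSurj_of_iso e
  haveI : G.EssSurj :=
    ⟨fun Y => ⟨(B.inverseImage A.ι).trW.Q.obj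
      (((B.inverseImage A.ι).trW.Q ⋙ G).objPreimage Y),
      ⟨((B.inverseImage A.ι).trW.Q ⋙ G).objObjPreimageIso Y⟩⟩⟩
  haveI : G.IsEquivalence := { }
  exact ⟨inferInstance⟩

lemma isConnected_rightResolution (hres : HasRes A B) (X₂ : C) :
    IsConnected ((A.triangulatedLocalizerMorphism B).RightResolution X₂) := by
  haveI : Nonempty ((A.triangulatedLocalizerMorphism B).RightResolution X₂) :=
    hasRightResolutions hres X₂
  apply zigzag_isConnected
  intro R R'
  obtain ⟨ψ, hψ⟩ := MorphismProperty.HasLeftCalculusOfFractions.exists_leftFraction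
    (W := B.trW) (X := A.ι.obj R.X₁) (Y := A.ι.obj R'.X₁)
    { X' := X₂, s := R.w, hs := R.hw, f := R'.w }
  dsimp at hψ
  obtain ⟨Z, hZ, t, ht⟩ := hres ψ.Y'
  let R'' : (A.triangulatedLocalizerMorphism B).RightResolution X₂ :=
    { X₁ := ⟨Z, hZ⟩
      w := R'.w ≫ ψ.s ≫ t
      hw := B.trW.comp_mem _ _ R'.hw (B.trW.comp_mem _ _ ψ.hs ht) }
  have h₁ : R ⟶ R'' :=
    { f := ObjectProperty.homMk (ψ.f ≫ t)
      comm := by
        change R.w ≫ ψ.f ≫ t = R'.w ≫ ψ.s ≫ t
        rw [← Category.assoc, ← hψ, Category.assoc] }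
  have h₂ : R' ⟶ R'' :=
    { f := ObjectProperty.homMk (ψ.s ≫ t)
      comm := rfl }
  exact (Zigzag.of_hom h₁).trans (Zigzag.of_inv h₂)

lemma hasRightResolutions_arrow (hres : HasRes A B) :
    (A.triangulatedLocalizerMorphism B).arrow.HasRightResolutions := by
  intro f
  obtain ⟨L, hL, i, hi⟩ := hres f.left
  obtain ⟨ψ, hψ⟩ := MorphismProperty.HasLeftCalculusOfFractions.exists_leftFraction
    (W := B.trW) (X := L) (Y := f.right)
    { X' := f.left, s := i, hs := hi, f := f.hom }
  dsimp at hψ
  obtain ⟨L', hL', j, hj⟩ := hres ψ.Y'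
  refine ⟨{ X₁ := Arrow.mk (ObjectProperty.homMk (ψ.f ≫ j) : (⟨L, hL⟩ : A.FullSubcategory) ⟶ ⟨L', hL'⟩)
            w := Arrow.homMk i (ψ.s ≫ j) ?_
            hw := ⟨hi, B.trW.comp_mem _ _ ψ.hs hj⟩ }⟩
  change i ≫ ψ.f ≫ j = f.hom ≫ ψ.s ≫ j
  rw [← Category.assoc, ← hψ, Category.assoc]

/-- **Main result**: the right derivability structure given by `A`-resolutions. -/
theorem isRightDerivabilityStructure (hres : HasRes A B) :
    (A.triangulatedLocalizerMorphism B).IsRightDerivabilityStructure := by
  haveI := isLocalizedEquivalence hres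
  haveI := fun X₂ => isConnected_rightResolution hres X₂
  haveI := hasRightResolutions_arrow hres
  exact LocalizerMorphism.IsRightDerivabilityStructure.mk' _

end Groth.Agent.Lib.Helper17.DS
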