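import Groth.Agent.Lib.Helper17DS1
import Mathlib.Algebra.Homology.HomotopyCategory.Acyclic
import Mathlib.Algebra.Homology.HomotopyCategory.Plus
import Mathlib.Algebra.Homology.DerivedCategory.Basic

/-!
# The right derivability structure on `K(A)` given by complexes with terms in a class `P`
(helper17)
-/

set_option autoImplicit false
set_option backward.isDefEq.respectTransparency false

universe v u

open CategoryTheory CategoryTheory.Limits CategoryTheory.Pretriangulated ZeroObject

namespace Groth.Agent.Lib.Helper17.DS

variable {A : Type u} [Category.{v} A] [Abelian A]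

/-- closure properties of a class of objects needed for the termwise-`P` complexes to form a
triangulated subcategory of the homotopy category. -/
class TermClass (P : ObjectProperty A) : Prop where
  of_iso : ∀ {X Y : A}, (X ≅ Y) → P X → P Y
  of_isZero : ∀ {X : A}, IsZero X → P X
  biprod : ∀ {X Y : A}, P X → P Y → P (X ⊞ Y)

variable (P : ObjectProperty A)

/-- cochain complexes with all terms in `P`. -/
def termwise : ObjectProperty (CochainComplex A ℤ) := fun K => ∀ n, P (K.X n)

/-- objects of the homotopy category whose underlying complex has all terms in `P`. -/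
def hoTermwise : ObjectProperty (HomotopyCategory A (.up ℤ)) :=
  (termwise P).strictMap (HomotopyCategory.quotient _ _)

variable {P} in
@[simp]
lemma hoTermwise_quotient_obj_iff (K : CochainComplex A ℤ) :
    hoTermwise P ((HomotopyCategory.quotient _ _).obj K) ↔ termwise P K := by
  refine ⟨?_, fun h ↦ ⟨_, h⟩⟩
  simp only [hoTermwise, ObjectProperty.strictMap_iff]
  rintro ⟨L, h, hL⟩
  obtain rfl : L = K := congr_arg Quotient.as hL
  exact h

variable [TermClass P]

instance : (hoTermwise P).ContainsZero where
  exists_zero :=
    ⟨(HomotopyCategory.quotient _ _).obj 0, Functor.map_isZero _ (isZero_zero _), by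
      simp only [hoTermwise_quotient_obj_iff]
      intro n
      exact TermClass.of_isZero
        ((HomologicalComplex.eval A (ComplexShape.up ℤ) n).map_isZero (isZero_zero _))⟩

instance : (hoTermwise P).IsStableUnderShift ℤ where
  isStableUnderShiftBy n :=
    { le_shift K hK := by
        obtain ⟨K : CochainComplex _ _, rfl⟩ := K.quotient_obj_surjective
        simp only [hoTermwise_quotient_obj_iff] at hK
        rw [ObjectProperty.prop_shift_iff, HomotopyCategory.shift_quotient_obj,
          hoTermwise_quotient_obj_iff]
        intro i
        exact hK _ }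

instance : (hoTermwise P).IsTriangulatedClosed₃ where
  ext₃' T hT h₁ h₂ := by
    have h₁' : termwise P T.obj₁.as := by rwa [← hoTermwise_quotient_obj_iff]
    have h₂' : termwise P T.obj₂.as := by rwa [← hoTermwise_quotient_obj_iff]
    obtain ⟨f : T.obj₁.as ⟶ T.obj₂.as, hf⟩ := (HomotopyCategory.quotient _ _).map_surjective T.mor₁
    refine ⟨_, ?_,
      ⟨Triangle.π₃.mapIso (isoTriangleOfIso₁₂ T _ hT
        (HomotopyCategory.mappingCone_triangleh_distinguished f)
        (Iso.refl _) (Iso.refl _) ?_)⟩⟩
    · change hoTermwise P ((HomotopyCategory.quotient _ _).obj (CochainComplex.mappingCone f))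
      simp only [hoTermwise_quotient_obj_iff]
      intro i
      exact TermClass.of_iso (HomologicalComplex.homotopyCofiber.XIsoBiprod f i (i + 1) rfl).symm
        (TermClass.biprod (h₁' _) (h₂' _))
    · change T.mor₁ ≫ 𝟙 _ = 𝟙 _ ≫ (HomotopyCategory.quotient _ _).map f
      rw [Category.id_comp, hf, Category.comp_id]

instance : (hoTermwise P).IsTriangulated where
  toIsTriangulatedClosed₂ := .of_isTriangulatedClosed₃

/-- the hypothesis that every complex has a resolution by a complex with terms in `P`. -/
def HasTermwiseRes : Prop :=
  ∀ K : CochainComplex A ℤ, ∃ (L : CochainComplex A ℤ) (f : K ⟶ L), QuasiIso f ∧ ∀ n, P (L.X n)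

variable {P}

lemma hasRes (hres : HasTermwiseRes P) :
    HasRes (hoTermwise P) (HomotopyCategory.subcategoryAcyclic A) := by
  intro X
  obtain ⟨K, rfl⟩ := X.quotient_obj_surjective
  obtain ⟨L, f, hf, hL⟩ := hres K
  refine ⟨(HomotopyCategory.quotient _ _).obj L, (hoTermwise_quotient_obj_iff L).2 hL,
    (HomotopyCategory.quotient _ _).map f, ?_⟩
  rw [← HomotopyCategory.quasiIso_eq_trW_subcategoryAcyclic,
    HomotopyCategory.quotient_map_mem_quasiIso_iff]
  exact hf

variable (P) in
/-- the localizer morphism from termwise-`P` complexes up to homotopy to `K(A)`. -/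
noncomputable abbrev locMor : LocalizerMorphism
    (((HomotopyCategory.subcategoryAcyclic A).inverseImage (hoTermwise P).ι).trW)
    (HomotopyCategory.subcategoryAcyclic A).trW :=
  (hoTermwise P).triangulatedLocalizerMorphism (HomotopyCategory.subcategoryAcyclic A)

theorem isRightDerivabilityStructure_locMor (hres : HasTermwiseRes P) :
    (locMor P).IsRightDerivabilityStructure :=
  isRightDerivabilityStructure (hasRes hres)

section Derives

variable {H : Type*} [Category H] (G : HomotopyCategory A (.up ℤ) ⥤ H)

/-- `G` has a right derived functor as soon as it inverts quasi-isomorphisms between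
termwise-`P` complexes. -/
theorem hasRightDerivedFunctor_of_derives (hres : HasTermwiseRes P)
    (hG : (locMor P).Derives G) :
    G.HasRightDerivedFunctor (HomotopyCategory.quasiIso A (.up ℤ)) := by
  haveI := isRightDerivabilityStructure_locMor hres
  rw [HomotopyCategory.quasiIso_eq_trW_subcategoryAcyclic]
  haveI := hG.hasPointwiseRightDerivedFunctor
  infer_instance

theorem isIso_unit_aux (hres : HasTermwiseRes P)
    (hG : (locMor P).Derives G)
    (W : MorphismProperty (HomotopyCategory A (.up ℤ)))
    (hW : W = (HomotopyCategory.subcategoryAcyclic A).trW)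
    {D : Type*} [Category D] (L : HomotopyCategory A (.up ℤ) ⥤ D)
    [L.IsLocalization W] [G.HasRightDerivedFunctor W]
    (K : CochainComplex A ℤ) (hK : ∀ n, P (K.X n)) :
    IsIso ((G.totalRightDerivedUnit L W).app
      ((HomotopyCategory.quotient A (.up ℤ)).obj K)) := by
  subst hW
  haveI := isRightDerivabilityStructure_locMor hres
  exact hG.isIso_of_isRightDerivedFunctor
    (G.totalRightDerivedUnit L (HomotopyCategory.subcategoryAcyclic A).trW)
    (⟨(HomotopyCategory.quotient A (.up ℤ)).obj K, (hoTermwise_quotient_obj_iff K).2 hK⟩ :
      (hoTermwise P).FullSubcategory)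

/-- the unit of the right derived functor is an isomorphism on termwise-`P` complexes. -/
theorem isIso_unit_of_derives (hres : HasTermwiseRes P)
    (hG : (locMor P).Derives G)
    {D : Type*} [Category D] (L : HomotopyCategory A (.up ℤ) ⥤ D)
    [L.IsLocalization (HomotopyCategory.quasiIso A (.up ℤ))]
    [G.HasRightDerivedFunctor (HomotopyCategory.quasiIso A (.up ℤ))]
    (K : CochainComplex A ℤ) (hK : ∀ n, P (K.X n)) :
    IsIso ((G.totalRightDerivedUnit L (HomotopyCategory.quasiIso A (.up ℤ))).app
      ((HomotopyCategory.quotient A (.up ℤ)).obj K)) :=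
  isIso_unit_aux G hres hG _ (HomotopyCategory.quasiIso_eq_trW_subcategoryAcyclic A) L K hK

end Derives

end Groth.Agent.Lib.Helper17.DS
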