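import Groth.Agent.Lib.Helper17RDer6
import Mathlib.Algebra.Homology.HomologicalComplexAbelian

/-!
# `F`-acyclic objects for a left exact functor of finite cohomological dimension (helper17)
-/

set_option autoImplicit false
set_option backward.isDefEq.respectTransparency false

universe v u v' u'

open CategoryTheory CategoryTheory.Limits

namespace Groth.Agent.Lib.Helper17.DS

open RDer Groth.Agent.Lib.Helper17.RDerLib

section Cycles

variable {C : Type u} [Category.{v} C] [Abelian C] {ι : Type*} {c : ComplexShape ι}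

/-- the short complex `0 ⟶ Z^i ⟶ K^i ⟶ Z^j ⟶ 0`. -/
noncomputable def cyclesSC (K : HomologicalComplex C c) (i j : ι) : ShortComplex C :=
  ShortComplex.mk (K.iCycles i) (K.toCycles i j) (by
    rw [← cancel_mono (K.iCycles j), Category.assoc, HomologicalComplex.toCycles_i,
      HomologicalComplex.iCycles_d, zero_comp])

theorem cyclesSC_shortExact (K : HomologicalComplex C c) (i j : ι) (hij : c.Rel i j)
    (hK : K.ExactAt j) : (cyclesSC K i j).ShortExact where
  exact := ShortComplex.exact_of_f_is_kernel _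
    (isKernelOfComp (K.iCycles j) (K.d i j) (K.cyclesIsKernel i j (c.next_eq' hij)) _
      (K.toCycles_i i j))
  mono_f := inferInstanceAs (Mono (K.iCycles i))
  epi_g := by
    change Epi (K.toCycles i j)
    exact Preadditive.epi_of_isZero_cokernel' _ (K.homologyIsCokernel i j (c.prev_eq' hij))
      hK.isZero_homology

end Cycles

section LES

variable {C : Type u} [Category.{v} C] [Abelian C] [HasInjectiveResolutions C]
  [EnoughInjectives C]
  {D : Type u'} [Category.{v'} D] [Abelian D] (F : C ⥤ D) [F.Additive]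

lemma isZero_rd_X₃ (S : ShortComplex C) (hS : S.ShortExact) (i : ℕ)
    (h₂ : IsZero ((F.rightDerived i).obj S.X₂))
    (h₁ : IsZero ((F.rightDerived (i + 1)).obj S.X₁)) :
    IsZero ((F.rightDerived i).obj S.X₃) := by
  obtain ⟨T⟩ := nonempty_sesRes S hS
  exact (exact₃ F T i (i + 1) rfl).isZero_of_both_zeros (h₂.eq_of_src _ _) (h₁.eq_of_tgt _ _)

lemma isZero_rd_X₁ (S : ShortComplex C) (hS : S.ShortExact) (i : ℕ)
    (h₃ : IsZero ((F.rightDerived i).obj S.X₃))
    (h₂ : IsZero ((F.rightDerived (i + 1)).obj S.X₂)) :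
    IsZero ((F.rightDerived (i + 1)).obj S.X₁) := by
  obtain ⟨T⟩ := nonempty_sesRes S hS
  exact (exact₁ F T i (i + 1) rfl).isZero_of_both_zeros (h₃.eq_of_src _ _) (h₂.eq_of_tgt _ _)

lemma isZero_rd_X₂ (S : ShortComplex C) (hS : S.ShortExact) (i : ℕ)
    (h₁ : IsZero ((F.rightDerived i).obj S.X₁))
    (h₃ : IsZero ((F.rightDerived i).obj S.X₃)) :
    IsZero ((F.rightDerived i).obj S.X₂) := by
  obtain ⟨T⟩ := nonempty_sesRes S hS
  exact (exact₂ F T i).isZero_of_both_zeros (h₁.eq_of_src _ _) (h₃.eq_of_tgt _ _)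

/-- the `F`-acyclic objects. -/
def acyc : ObjectProperty C := fun X => ∀ i : ℕ, 0 < i → IsZero ((F.rightDerived i).obj X)

lemma acyc_of_injective (I : C) [Injective I] : acyc F I := by
  intro i hi
  obtain ⟨j, rfl⟩ : ∃ j, i = j + 1 := ⟨i - 1, by omega⟩
  exact Functor.isZero_rightDerived_obj_injective_succ F j I

/-- vanishing of `RⁿF` implies the vanishing of all higher derived functors. -/
lemma isZero_rd_of_le (n : ℕ) (hn : ∀ X : C, IsZero ((F.rightDerived n).obj X)) :
    ∀ (i : ℕ), n ≤ i → ∀ X : C, IsZero ((F.rightDerived i).obj X) := by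
  intro i hi
  induction i, hi using Nat.le_induction with
  | base => exact hn
  | succ i _ ih =>
    intro X
    have hS := cokernel_ses (Injective.ι X)
    exact isZero_rd_X₁ F _ hS i (ih _) (Functor.isZero_rightDerived_obj_injective_succ F i _)

lemma isZero_biprod {E : Type*} [Category E] [Preadditive E] [HasBinaryBiproducts E] {X Y : E}
    (hX : IsZero X) (hY : IsZero Y) : IsZero (X ⊞ Y) := by
  rw [IsZero.iff_id_eq_zero]
  apply biprod.hom_ext
  · exact hX.eq_of_tgt _ _
  · exact hY.eq_of_tgt _ _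

lemma acyc_of_iso {X Y : C} (e : X ≅ Y) (hX : acyc F X) : acyc F Y := fun i hi =>
  IsZero.of_iso (hX i hi) ((F.rightDerived i).mapIso e.symm)

lemma acyc_of_isZero {X : C} (hX : IsZero X) : acyc F X := fun i _ =>
  (F.rightDerived i).map_isZero hX

lemma acyc_biprod {X Y : C} (hX : acyc F X) (hY : acyc F Y) : acyc F (X ⊞ Y) := fun i hi => by
  haveI : PreservesBinaryBiproducts (F.rightDerived i) :=
    preservesBinaryBiproducts_of_preservesBiproducts _
  exact IsZero.of_iso (isZero_biprod (hX i hi) (hY i hi)) ((F.rightDerived i).mapBiprod X Y)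

lemma acyc_h1 (X : C) : ∃ (Y : C) (i : X ⟶ Y), acyc F Y ∧ Mono i :=
  ⟨Injective.under X, Injective.ι X, acyc_of_injective F _, inferInstance⟩

lemma acyc_h2 (S : ShortComplex C) (hS : S.ShortExact) (h₁ : acyc F S.X₁) :
    acyc F S.X₂ ↔ acyc F S.X₃ :=
  ⟨fun h₂ i hi => isZero_rd_X₃ F S hS i (h₂ i hi) (h₁ (i + 1) (by omega)),
    fun h₃ i hi => isZero_rd_X₂ F S hS i (h₁ i hi) (h₃ i hi)⟩

/-- finite `F`-acyclic dimension. -/
lemma acyc_h3 (N : ℕ) (hN : ∀ (i : ℕ), N ≤ i → ∀ X : C, IsZero ((F.rightDerived i).obj X))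
    (K : CochainComplex C ℕ) (hex : ∀ i : ℕ, 1 ≤ i → i ≤ N → K.ExactAt i)
    (hz : ∀ i : ℕ, N < i → IsZero (K.X i)) (hP : ∀ i : ℕ, i < N → acyc F (K.X i)) :
    acyc F (K.X N) := by
  have key : ∀ i : ℕ, i ≤ N → ∀ j : ℕ, 1 ≤ j →
      IsZero ((F.rightDerived (j + (N - i))).obj (K.cycles i)) := by
    intro i
    induction i with
    | zero =>
      intro _ j _
      exact hN _ (by omega) _
    | succ i ih =>
      intro hi j hj
      have hS := cyclesSC_shortExact K i (i + 1) rfl (hex (i + 1) (by omega) hi)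
      have h₁ := ih (by omega) j hj
      have e : j + (N - i) = j + (N - (i + 1)) + 1 := by omega
      rw [e] at h₁
      exact isZero_rd_X₃ F _ hS _ (hP i (by omega) _ (by omega)) h₁
  have hd : K.d N (N + 1) = 0 := (hz (N + 1) (by omega)).eq_of_tgt _ _
  haveI : IsIso (K.iCycles N) := K.isIso_iCycles N (N + 1) (by simp) hd
  refine acyc_of_iso F (asIso (K.iCycles N)) ?_
  intro j hj
  have := key N le_rfl j hj
  rwa [Nat.sub_self, Nat.add_zero] at this

/-- the cycles of an acyclic complex of `F`-acyclic objects are `F`-acyclic, if `F` has finite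
cohomological dimension. -/
lemma acyc_cycles (N : ℕ) (hN : ∀ (i : ℕ), N ≤ i → ∀ X : C, IsZero ((F.rightDerived i).obj X))
    (W : CochainComplex C ℤ) (hW : W.Acyclic) (hP : ∀ m, acyc F (W.X m)) (m : ℤ) :
    acyc F (W.cycles m) := by
  have key : ∀ k : ℕ, k ≤ N → ∀ (m : ℤ) (j : ℕ), 1 ≤ j →
      IsZero ((F.rightDerived (j + (N - k))).obj (W.cycles m)) := by
    intro k
    induction k with
    | zero =>
      intro _ m j _
      exact hN _ (by omega) _
    | succ k ih =>
      intro hk m j hj
      have hS := cyclesSC_shortExact W (m - 1) m (by simp) (hW m)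
      have h₁ := ih (by omega) (m - 1) j hj
      have e : j + (N - k) = j + (N - (k + 1)) + 1 := by omega
      rw [e] at h₁
      exact isZero_rd_X₃ F _ hS _ (hP (m - 1) _ (by omega)) h₁
  intro j hj
  have := key N le_rfl m j hj
  rwa [Nat.sub_self, Nat.add_zero] at this

section LeftExact

variable [PreservesFiniteLimits F]

lemma epi_map_g (S : ShortComplex C) (hS : S.ShortExact)
    (h₁ : IsZero ((F.rightDerived 1).obj S.X₁)) : Epi (F.map S.g) := by
  obtain ⟨T⟩ := nonempty_sesRes S hS
  have hex := exact₃ F T 0 1 rfl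
  haveI : Epi ((F.rightDerived 0).map S.g) := hex.epi_f (h₁.eq_of_tgt _ _)
  have hnat := F.rightDerivedZeroIsoSelf.hom.naturality S.g
  haveI : Epi (F.rightDerivedZeroIsoSelf.hom.app S.X₂ ≫ F.map S.g) := by
    rw [← hnat]; infer_instance
  exact epi_of_epi (F.rightDerivedZeroIsoSelf.hom.app S.X₂) _

lemma shortExact_map (S : ShortComplex C) (hS : S.ShortExact)
    (h₁ : IsZero ((F.rightDerived 1).obj S.X₁)) : (S.map F).ShortExact := by
  have := epi_map_g F S hS h₁
  have := hS.mono_f
  exact { exact := hS.exact.map_of_mono_of_preservesKernel F inferInstance inferInstance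
          mono_f := by change Mono (F.map S.f); infer_instance
          epi_g := by change Epi (F.map S.g); infer_instance }

/-- a left exact functor of finite cohomological dimension sends acyclic complexes of acyclic
objects to acyclic complexes. -/
theorem acyclic_map (N : ℕ)
    (hN : ∀ (i : ℕ), N ≤ i → ∀ X : C, IsZero ((F.rightDerived i).obj X))
    (W : CochainComplex C ℤ) (hW : W.Acyclic) (hP : ∀ m, acyc F (W.X m)) :
    ((F.mapHomologicalComplex (ComplexShape.up ℤ)).obj W).Acyclic := by
  have hall := acyc_cycles F N hN W hW hP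
  intro j
  rw [HomologicalComplex.exactAt_iff' _ (j - 1) j (j + 1) (by simp) (by simp)]
  have hS := cyclesSC_shortExact W (j - 1) j (by simp) (hW j)
  have hFS := shortExact_map F _ hS (hall (j - 1) 1 (by omega))
  have hepi : Epi (F.map (W.toCycles (j - 1) j)) := hFS.epi_g
  have hker : (ShortComplex.mk (F.map (W.iCycles j)) (F.map (W.d j (j + 1)))
      (by rw [← F.map_comp, HomologicalComplex.iCycles_d, F.map_zero])).Exact :=
    ShortComplex.exact_of_f_is_kernel _
      (KernelFork.mapIsLimit _ (W.cyclesIsKernel j (j + 1) (by simp)) F)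
  let φ : ((F.mapHomologicalComplex (ComplexShape.up ℤ)).obj W).sc' (j - 1) j (j + 1) ⟶
      ShortComplex.mk (F.map (W.iCycles j)) (F.map (W.d j (j + 1)))
        (by rw [← F.map_comp, HomologicalComplex.iCycles_d, F.map_zero]) :=
    { τ₁ := F.map (W.toCycles (j - 1) j)
      τ₂ := 𝟙 _
      τ₃ := 𝟙 _
      comm₁₂ := by
        change F.map (W.toCycles (j - 1) j) ≫ F.map (W.iCycles j) = F.map (W.d (j - 1) j) ≫ 𝟙 _
        rw [Category.comp_id, ← F.map_comp, HomologicalComplex.toCycles_i]
      comm₂₃ := by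
        change 𝟙 _ ≫ F.map (W.d j (j + 1)) = F.map (W.d j (j + 1)) ≫ 𝟙 _
        rw [Category.comp_id, Category.id_comp] }
  have : Epi φ.τ₁ := hepi
  have : IsIso φ.τ₂ := IsIso.id _
  have : Mono φ.τ₃ := by
    have : IsIso φ.τ₃ := IsIso.id _
    infer_instance
  exact (ShortComplex.exact_iff_of_epi_of_isIso_of_mono φ).2 hker

end LeftExact

end LES

end Groth.Agent.Lib.Helper17.DS
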