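import Groth.Agent.Lib.Helper17DS2
import Groth.Agent.Lib.Helper17DS3
import Groth.Agent.S11168
import Mathlib.Algebra.Homology.DerivedCategory.Basic
import Mathlib.Algebra.Homology.HomotopyCategory.Triangulated

/-!
# The unbounded right derived functor of a left exact functor of finite cohomological dimension
(helper17)
-/

set_option autoImplicit false
set_option backward.isDefEq.respectTransparency false

universe w w' v v' u u'

open CategoryTheory CategoryTheory.Limits

namespace Groth.Agent.Lib.Helper17.DS

variable {A : Type u} [Category.{v} A] [Abelian A] [HasInjectiveResolutions A]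
  {B : Type u'} [Category.{v'} B] [Abelian B]
  (F : A ⥤ B) [F.Additive]

lemma enoughInjectives_of_hasInjectiveResolutions : EnoughInjectives A :=
  ⟨fun X => ⟨⟨(injectiveResolution X).cocomplex.X 0, inferInstance,
    (injectiveResolution X).ι.f 0, inferInstance⟩⟩⟩

attribute [local instance] enoughInjectives_of_hasInjectiveResolutions

instance : TermClass (acyc F) where
  of_iso e h := acyc_of_iso F e h
  of_isZero h := acyc_of_isZero F h
  biprod h₁ h₂ := acyc_biprod F h₁ h₂

variable (n : ℕ) (hn : ∀ X : A, IsZero ((F.rightDerived n).obj X))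

include hn in
lemma hasTermwiseRes_acyc : HasTermwiseRes (acyc F) := by
  intro K
  have hN : ∀ (i : ℕ), n + 1 ≤ i → ∀ X : A, IsZero ((F.rightDerived i).obj X) :=
    fun i hi => isZero_rd_of_le F n hn i (by omega)
  exact Groth.Agent.S11168.result (acyc F) (acyc_h1 F) (acyc_h2 F) (n + 1) (by omega)
    (fun K a b _ d => acyc_h3 F (n + 1) hN K a b d) K

section Derived

variable [HasDerivedCategory.{w} A] [HasDerivedCategory.{w'} B] [PreservesFiniteLimits F]

include hn in
lemma derives : (locMor (acyc F)).Derives
    (F.mapHomotopyCategory (ComplexShape.up ℤ) ⋙ DerivedCategory.Qh) := by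
  have hN : ∀ (i : ℕ), n + 1 ≤ i → ∀ X : A, IsZero ((F.rightDerived i).obj X) :=
    fun i hi => isZero_rd_of_le F n hn i (by omega)
  intro X Y f hf
  rw [ObjectProperty.trW_inverseImage_ι_iff, ObjectProperty.trW_iff] at hf
  obtain ⟨Z, g, h, hT, hZ₁, hZ₂⟩ := hf
  change IsIso (DerivedCategory.Qh.map ((F.mapHomotopyCategory (ComplexShape.up ℤ)).map f.hom))
  apply Localization.inverts DerivedCategory.Qh (HomotopyCategory.subcategoryAcyclic B).trW
  rw [ObjectProperty.trW_iff]
  refine ⟨_, _, _, (F.mapHomotopyCategory (ComplexShape.up ℤ)).map_distinguished _ hT, ?_⟩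
  obtain ⟨W, rfl⟩ := Z.quotient_obj_surjective
  rw [hoTermwise_quotient_obj_iff] at hZ₁
  rw [HomotopyCategory.quotient_obj_mem_subcategoryAcyclic_iff_acyclic] at hZ₂
  have hFW := acyclic_map F (n + 1) hN W hZ₂ hZ₁
  exact (HomotopyCategory.subcategoryAcyclic B).prop_of_iso
    ((F.mapHomotopyCategoryFactors (ComplexShape.up ℤ)).app W).symm
    ((HomotopyCategory.quotient_obj_mem_subcategoryAcyclic_iff_acyclic _).2 hFW)

include hn in
/-- **Existence of the unbounded right derived functor.** -/
theorem hasRightDerivedFunctor :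
    (F.mapHomotopyCategory (ComplexShape.up ℤ) ⋙ DerivedCategory.Qh).HasRightDerivedFunctor
      (HomotopyCategory.quasiIso A (ComplexShape.up ℤ)) :=
  hasRightDerivedFunctor_of_derives _ (hasTermwiseRes_acyc F n hn) (derives F n hn)

include hn in
/-- **The unit is an isomorphism on complexes of acyclic objects.** -/
theorem isIso_unit
    [(F.mapHomotopyCategory (ComplexShape.up ℤ) ⋙ DerivedCategory.Qh).HasRightDerivedFunctor
      (HomotopyCategory.quasiIso A (ComplexShape.up ℤ))]
    (K : CochainComplex A ℤ)
    (hK : ∀ (m : ℤ) (i : ℕ), 0 < i → IsZero ((F.rightDerived i).obj (K.X m))) :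
    IsIso (((F.mapHomotopyCategory (ComplexShape.up ℤ) ⋙ DerivedCategory.Qh).totalRightDerivedUnit
      DerivedCategory.Qh (HomotopyCategory.quasiIso A (ComplexShape.up ℤ))).app
        ((HomotopyCategory.quotient A (ComplexShape.up ℤ)).obj K)) :=
  isIso_unit_of_derives _ (hasTermwiseRes_acyc F n hn) (derives F n hn) DerivedCategory.Qh K hK

end Derived

end Groth.Agent.Lib.Helper17.DS
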