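-- helper17: for a fully faithful `i : 𝒳 ⟶ 𝒳'` and `g : 𝒳' ⟶ 𝒴`, the square of diagonals is
-- 2-cartesian.
import Groth.Agent.Lib.Helper17FibEquiv
import Groth.Agent.Lib.Helper17FibFp

set_option autoImplicit false
set_option backward.isDefEq.respectTransparency false
set_option backward.isDefEq.respectTransparency.types false
open CategoryTheory CategoryTheory.Functor

universe v₁ u₁ v₂ u₂ v₃ u₃ v₄ u₄

namespace Groth.Agent.Lib.Helper17.DiagMono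

open Groth.Agent.Lib.Helper17

section

variable {C : Type u₁} [Category.{v₁} C] {𝒳 : BasedCategory.{v₂, u₂} C}
  {𝒳' : BasedCategory.{v₃, u₃} C} {𝒴 : BasedCategory.{v₄, u₄} C} (i : 𝒳 ⥤ᵇ 𝒳') (g : 𝒳' ⥤ᵇ 𝒴)

/-- `i × i : 𝒳 ×_𝒴 𝒳 ⟶ 𝒳' ×_𝒴 𝒳'` -/
abbrev prodMap : FibCat.fp (BasedFunctor.comp i g) (BasedFunctor.comp i g) ⥤ᵇ FibCat.fp g g :=
  FibCat.fpLift (BasedFunctor.comp (FibCat.fpFst (BasedFunctor.comp i g) (BasedFunctor.comp i g)) i)
    (BasedFunctor.comp (FibCat.fpSnd (BasedFunctor.comp i g) (BasedFunctor.comp i g)) i)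
    (FibCat.fpIso (BasedFunctor.comp i g) (BasedFunctor.comp i g))

/-- the comparison functor `𝒳 ⟶ (𝒳 ×_𝒴 𝒳) ×_{𝒳' ×_𝒴 𝒳'} 𝒳'` -/
abbrev cmp : 𝒳 ⥤ᵇ FibCat.fp (prodMap i g) (FibCat.diag g) :=
  FibCat.fpLift (F := prodMap i g) (G := FibCat.diag g) (FibCat.diag (BasedFunctor.comp i g)) i
    (Iso.refl _)

theorem cmp_faithful : (cmp i g).toFunctor.Faithful :=
  ⟨fun {a b} f f' h => congrArg (fun k => k.hom.fst.hom.fst) h⟩

theorem cmp_full [i.toFunctor.Faithful] : (cmp i g).toFunctor.Full :=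
  ⟨fun {a b} k => by
    obtain ⟨k₁, hk₁⟩ : ∃ k₁ : a ⟶ b, k₁ = k.hom.fst.hom.fst := ⟨_, rfl⟩
    obtain ⟨k₂, hk₂⟩ : ∃ k₂ : a ⟶ b, k₂ = k.hom.fst.hom.snd := ⟨_, rfl⟩
    obtain ⟨k₃, hk₃⟩ : ∃ k₃ : i.obj a ⟶ i.obj b, k₃ = k.hom.snd := ⟨_, rfl⟩
    have hw := k.hom.w
    have hw1 : i.map k₁ = k₃ := by
      have : i.map k₁ ≫ 𝟙 _ = 𝟙 _ ≫ k₃ := by
        rw [hk₁, hk₃]
        exact congrArg (fun m => m.hom.fst) hw
      simpa using this
    have hw2 : i.map k₂ = k₃ := by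
      have : i.map k₂ ≫ 𝟙 _ = 𝟙 _ ≫ k₃ := by
        rw [hk₂, hk₃]
        exact congrArg (fun m => m.hom.snd) hw
      simpa using this
    have h12 : k₁ = k₂ := i.toFunctor.map_injective (hw1.trans hw2.symm)
    refine ⟨k₁, ?_⟩
    apply ObjectProperty.hom_ext
    apply Limits.CategoricalPullback.hom_ext
    · apply ObjectProperty.hom_ext
      apply Limits.CategoricalPullback.hom_ext
      · exact hk₁
      · exact h12.trans hk₂
    · exact hw1.trans hk₃⟩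

omit i g in
theorem aux {D : Type u₁} [Category.{v₁} D] {X Y Z : D} (α : X ⟶ Y) (a : X ⟶ Z) (c : Y ⟶ Z)
    (b : Z ⟶ Y) (h : a ≫ 𝟙 _ = α ≫ c) (h2 : c ≫ b = 𝟙 _) : α = a ≫ b := by
  calc α = α ≫ c ≫ b := by rw [h2, Category.comp_id]
  _ = a ≫ b := by rw [← Category.assoc, ← h, Category.comp_id]

theorem cmp_essSurjOver [i.toFunctor.Full] [i.toFunctor.Faithful] : EssSurjOver (cmp i g) := by
  intro η
  let θ₁ : i.obj η.obj.fst.obj.fst ≅ η.obj.snd := (FibCat.fpFst g g).toFunctor.mapIso η.obj.iso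
  let θ₂ : i.obj η.obj.fst.obj.snd ≅ η.obj.snd := (FibCat.fpSnd g g).toFunctor.mapIso η.obj.iso
  have hw : g.map θ₁.hom ≫ 𝟙 _ = η.obj.fst.obj.iso.hom ≫ g.map θ₂.hom := η.obj.iso.hom.hom.w
  let l : η.obj.fst.obj.fst ≅ η.obj.fst.obj.snd := i.toFunctor.preimageIso (θ₁ ≪≫ θ₂.symm)
  have hl : i.map l.hom = θ₁.hom ≫ θ₂.inv := by
    change i.toFunctor.map (i.toFunctor.preimageIso (θ₁ ≪≫ θ₂.symm)).hom = _
    simp
  have w₁ : (BasedFunctor.comp i g).toFunctor.map (Iso.refl η.obj.fst.obj.fst).hom ≫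
      η.obj.fst.obj.iso.hom =
        (((FibCat.diag (BasedFunctor.comp i g)).obj η.obj.fst.obj.fst).obj.iso.hom) ≫
          (BasedFunctor.comp i g).toFunctor.map l.hom := by
    change g.map (i.map (𝟙 _)) ≫ η.obj.fst.obj.iso.hom = 𝟙 _ ≫ g.map (i.map l.hom)
    rw [hl]
    have e : η.obj.fst.obj.iso.hom = g.map θ₁.hom ≫ g.map θ₂.inv := by
      have h2 : g.map θ₂.hom ≫ g.map θ₂.inv = 𝟙 _ := by
        rw [← g.toFunctor.map_comp, θ₂.hom_inv_id, g.toFunctor.map_id]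
      exact aux _ _ _ _ hw h2
    rw [e, i.toFunctor.map_id, g.toFunctor.map_id, Category.id_comp, Category.id_comp,
      g.toFunctor.map_comp]
  let e₁ : ((cmp i g).obj η.obj.fst.obj.fst).obj.fst ≅ η.obj.fst :=
    ObjectProperty.isoMk _ (Limits.CategoricalPullback.mkIso
      (x := ((FibCat.diag (BasedFunctor.comp i g)).obj η.obj.fst.obj.fst).obj) (y := η.obj.fst.obj)
      (Iso.refl η.obj.fst.obj.fst) l w₁)
  have w : (prodMap i g).toFunctor.map e₁.hom ≫ η.obj.iso.hom =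
      ((cmp i g).obj η.obj.fst.obj.fst).obj.iso.hom ≫ (FibCat.diag g).toFunctor.map θ₁.hom := by
    apply ObjectProperty.hom_ext
    apply Limits.CategoricalPullback.hom_ext
    · change i.map (𝟙 _) ≫ θ₁.hom = 𝟙 _ ≫ θ₁.hom
      rw [i.toFunctor.map_id]
    · change i.map l.hom ≫ θ₂.hom = 𝟙 _ ≫ θ₁.hom
      rw [hl]; simp
  refine ⟨η.obj.fst.obj.fst, ObjectProperty.isoMk _ (Limits.CategoricalPullback.mkIso
    (x := ((cmp i g).obj η.obj.fst.obj.fst).obj) (y := η.obj) e₁ θ₁ w), ?_⟩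
  rw [fp_isHomLift_iff, fp_isHomLift_iff]
  change 𝒳.p.IsHomLift (𝟙 (𝒳.p.obj η.obj.fst.obj.fst)) (𝟙 η.obj.fst.obj.fst)
  infer_instance

theorem isEquivOver_cmp [i.toFunctor.Full] [i.toFunctor.Faithful] :
    FibCat.IsEquivOver (cmp i g) := by
  have := cmp_faithful i g
  have := cmp_full i g
  exact isEquivOver_of_fullyFaithful_of_essSurjOver _ (cmp_essSurjOver i g)

end

end Groth.Agent.Lib.Helper17.DiagMono
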