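import Groth.Agent.Lib.Helper17Hull2
import Mathlib.Algebra.Homology.HomologySequenceLemmas
import Mathlib.Algebra.Homology.HomotopyCategory.ShiftSequence
import Mathlib.Algebra.Homology.HomologicalComplexAbelian

/-!
# The syzygy step for hulls of complexes (helper17)

Given object-level hulls `ic Z : Z ⟶ Pc Z` (monomorphisms) in an abelian category, every cochain
complex `Y` embeds in the contractible complex `discObj Pc Y`.  We study the cokernel `syz Y` of this
embedding: there is a quasi-isomorphism `kap : Y⟦1⟧ ⟶ syz Y`, which is an isomorphism in the degrees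
where the hulls are isomorphisms.
-/

set_option backward.isDefEq.respectTransparency false
set_option autoImplicit false

universe v u

open CategoryTheory CategoryTheory.Limits

namespace Groth.Agent.Lib.Helper17.DimRes

open Groth.Agent.Lib.Helper17.Hull

variable {A : Type u} [Category.{v} A] [Abelian A]

local notation "upℤ" => ComplexShape.up ℤ

section Acyclic

variable (Pc : A → A) (Y : CochainComplex A ℤ)

/-- the disc complex is acyclic. -/
lemma discObj_exactAt (m : ℤ) : (discObj Pc Y).ExactAt m := by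
  obtain ⟨k, rfl⟩ : ∃ k, m = k + 1 := ⟨m - 1, by omega⟩
  rw [HomologicalComplex.exactAt_iff' _ k (k + 1) (k + 1 + 1) (by simp) (by simp)]
  -- the split short exact sequence
  let S' : ShortComplex A := ShortComplex.mk
    (biprod.inl : Pc (Y.X (k + 1)) ⟶ Pc (Y.X (k + 1)) ⊞ Pc (Y.X (k + 1 + 1))) biprod.snd (by simp)
  have hS' : S'.Exact := by
    refine (ShortComplex.Splitting.exact (S := S') ?_)
    exact
      { r := biprod.fst
        s := biprod.inr
        f_r := by simp [S']
        s_g := by simp [S']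
        id := by simp [S', biprod.total] }
  -- intermediate complex
  let S'' : ShortComplex A := ShortComplex.mk
    (biprod.inl : Pc (Y.X (k + 1)) ⟶ Pc (Y.X (k + 1)) ⊞ Pc (Y.X (k + 1 + 1)))
    ((discObj Pc Y).d (k + 1) (k + 1 + 1)) (by rw [discObj_d]; simp)
  let φ₁ : S' ⟶ S'' :=
    { τ₁ := 𝟙 _
      τ₂ := 𝟙 _
      τ₃ := (biprod.inl : Pc (Y.X (k + 1 + 1)) ⟶ Pc (Y.X (k + 1 + 1)) ⊞ Pc (Y.X (k + 1 + 1 + 1)))
      comm₁₂ := by simp [S', S'']
      comm₂₃ := by
        dsimp [S', S'']
        rw [discObj_d]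
        simp }
  haveI : Epi φ₁.τ₁ := by dsimp [φ₁]; infer_instance
  haveI : IsIso φ₁.τ₂ := by dsimp [φ₁]; infer_instance
  haveI : Mono φ₁.τ₃ := by dsimp [φ₁]; infer_instance
  have hS'' : S''.Exact := (ShortComplex.exact_iff_of_epi_of_isIso_of_mono φ₁).1 hS'
  let S₀ : ShortComplex A := ShortComplex.mk ((discObj Pc Y).d k (k + 1))
    ((discObj Pc Y).d (k + 1) (k + 1 + 1)) ((discObj Pc Y).d_comp_d _ _ _)
  change S₀.Exact
  let φ₂ : S₀ ⟶ S'' :=
    { τ₁ := (biprod.snd : Pc (Y.X k) ⊞ Pc (Y.X (k + 1)) ⟶ Pc (Y.X (k + 1)))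
      τ₂ := 𝟙 _
      τ₃ := 𝟙 _
      comm₁₂ := by
        dsimp [S'', S₀]
        rw [discObj_d]
        simp
      comm₂₃ := by simp [S'', S₀] }
  haveI : Epi φ₂.τ₁ := by dsimp [φ₂]; infer_instance
  haveI : IsIso φ₂.τ₂ := by dsimp [φ₂]; infer_instance
  haveI : Mono φ₂.τ₃ := by dsimp [φ₂]; infer_instance
  exact (ShortComplex.exact_iff_of_epi_of_isIso_of_mono φ₂).2 hS''

lemma discObj_acyclic : (discObj Pc Y).Acyclic := fun m => discObj_exactAt Pc Y m

end Acyclic

section Step

variable (Pc : A → A) (ic : ∀ Z : A, Z ⟶ Pc Z) [∀ Z, Mono (ic Z)] (Y : CochainComplex A ℤ)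

/-- the cokernel of the embedding in the disc complex. -/
noncomputable def syz : CochainComplex A ℤ := cokernel (discMap Pc ic Y)

/-- the projection from the disc complex. -/
noncomputable def syzπ : discObj Pc Y ⟶ syz Pc ic Y := cokernel.π (discMap Pc ic Y)

instance : Epi (syzπ Pc ic Y) := by unfold syzπ; infer_instance

@[reassoc (attr := simp)]
lemma discMap_syzπ : discMap Pc ic Y ≫ syzπ Pc ic Y = 0 := cokernel.condition _

@[reassoc (attr := simp)]
lemma discMap_f_syzπ_f (k : ℤ) : (discMap Pc ic Y).f k ≫ (syzπ Pc ic Y).f k = 0 := by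
  rw [← HomologicalComplex.comp_f, discMap_syzπ, HomologicalComplex.zero_f]

/-- the short exact sequence `Y → disc → syz`. -/
noncomputable def sesP : ShortComplex (CochainComplex A ℤ) :=
  ShortComplex.mk (discMap Pc ic Y) (syzπ Pc ic Y) (discMap_syzπ Pc ic Y)

lemma sesP_shortExact : (sesP Pc ic Y).ShortExact where
  exact := ShortComplex.exact_of_g_is_cokernel _ (cokernelIsCokernel _)
  mono_f := by dsimp [sesP]; infer_instance
  epi_g := by dsimp [sesP]; infer_instance

lemma sesP_eval_shortExact (k : ℤ) :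
    (ShortComplex.mk ((discMap Pc ic Y).f k) ((syzπ Pc ic Y).f k)
      (discMap_f_syzπ_f Pc ic Y k)).ShortExact :=
  (sesP_shortExact Pc ic Y).map_of_exact (HomologicalComplex.eval A upℤ k)

end Step

end Groth.Agent.Lib.Helper17.DimRes
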