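import Groth.Agent.Lib.Helper17DimRes1

/-!
# The comparison `Y⟦1⟧ ⟶ syz Y` (helper17)
-/

set_option backward.isDefEq.respectTransparency false
set_option autoImplicit false

universe v u

open CategoryTheory CategoryTheory.Limits

namespace Groth.Agent.Lib.Helper17.DimRes

open Groth.Agent.Lib.Helper17.Hull

variable {A : Type u} [Category.{v} A] [Abelian A]

local notation "upℤ" => ComplexShape.up ℤ

lemma splitting_aux (X X' : A) (δ : X ⟶ X') :
    (biprod.fst : X ⊞ X' ⟶ X) ≫ biprod.lift (𝟙 X) (δ ≫ 𝟙 X') +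
      ((biprod.snd : X ⊞ X' ⟶ X') - biprod.fst ≫ δ) ≫ (biprod.inr : X' ⟶ X ⊞ X') = 𝟙 (X ⊞ X') := by
  apply biprod.hom_ext <;> apply biprod.hom_ext' <;> simp

section IdDisc

variable (Y : CochainComplex A ℤ)

/-- the disc complex for the trivial hulls. -/
noncomputable abbrev discId : CochainComplex A ℤ := discObj (fun Z : A => Z) Y

/-- the embedding in the trivial disc. -/
noncomputable abbrev discIdMap : Y ⟶ discId Y :=
  discMap (fun Z : A => Z) (fun Z : A => 𝟙 Z) Y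

lemma discIdMap_f (k : ℤ) :
    (discIdMap Y).f k = biprod.lift (𝟙 (Y.X k)) (Y.d k (k + 1) ≫ 𝟙 (Y.X (k + 1))) := rfl

/-- the projection of the trivial disc to the shift. -/
noncomputable def discIdπ : discId Y ⟶ Y⟦(1 : ℤ)⟧ where
  f k := (biprod.snd : Y.X k ⊞ Y.X (k + 1) ⟶ Y.X (k + 1)) - biprod.fst ≫ Y.d k (k + 1)
  comm' k k' h := by
    obtain rfl : k + 1 = k' := h
    rw [discObj_d, CochainComplex.shiftFunctor_obj_d']
    simp

lemma discIdπ_f (k : ℤ) : (discIdπ Y).f k =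
    (biprod.snd : Y.X k ⊞ Y.X (k + 1) ⟶ Y.X (k + 1)) - biprod.fst ≫ Y.d k (k + 1) := rfl

@[reassoc (attr := simp)]
lemma discIdMap_discIdπ : discIdMap Y ≫ discIdπ Y = 0 := by
  ext k
  rw [HomologicalComplex.comp_f, discIdMap_f, discIdπ_f, HomologicalComplex.zero_f]
  simp

/-- the short complex `Y → discId → Y⟦1⟧`. -/
noncomputable def sesId : ShortComplex (CochainComplex A ℤ) :=
  ShortComplex.mk (discIdMap Y) (discIdπ Y) (discIdMap_discIdπ Y)

lemma sesId_shortExact : (sesId Y).ShortExact := by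
  refine HomologicalComplex.shortExact_of_degreewise_shortExact _ (fun k => ?_)
  refine ShortComplex.Splitting.shortExact (S := (sesId Y).map (HomologicalComplex.eval A upℤ k)) ?_
  exact
    { r := (biprod.fst : Y.X k ⊞ Y.X (k + 1) ⟶ Y.X k)
      s := (biprod.inr : Y.X (k + 1) ⟶ Y.X k ⊞ Y.X (k + 1))
      f_r := by
        change (discIdMap Y).f k ≫ biprod.fst = 𝟙 _
        rw [discIdMap_f]
        simp
      s_g := by
        change biprod.inr ≫ (discIdπ Y).f k = 𝟙 _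
        rw [discIdπ_f]
        simp
      id := splitting_aux _ _ (Y.d k (k + 1)) }

end IdDisc

section Kappa

variable (Pc : A → A) (ic : ∀ Z : A, Z ⟶ Pc Z) [∀ Z, Mono (ic Z)] (Y : CochainComplex A ℤ)

/-- the map between the disc complexes induced by the hulls. -/
noncomputable def discComp : discId Y ⟶ discObj Pc Y where
  f k := biprod.map (ic (Y.X k)) (ic (Y.X (k + 1)))
  comm' k k' h := by
    obtain rfl : k + 1 = k' := h
    rw [discObj_d, discObj_d]
    simp

lemma discComp_f (k : ℤ) :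
    (discComp Pc ic Y).f k = biprod.map (ic (Y.X k)) (ic (Y.X (k + 1))) := rfl

lemma discMap_f' (k : ℤ) : (discMap Pc ic Y).f k =
    biprod.lift (ic (Y.X k)) (Y.d k (k + 1) ≫ ic (Y.X (k + 1))) := rfl

/-- the basic relation in the syzygy. -/
lemma syz_rel (k : ℤ) :
    ic (Y.X k) ≫ (biprod.inl : Pc (Y.X k) ⟶ Pc (Y.X k) ⊞ Pc (Y.X (k + 1))) ≫ (syzπ Pc ic Y).f k =
      - (Y.d k (k + 1) ≫ ic (Y.X (k + 1)) ≫
        (biprod.inr : Pc (Y.X (k + 1)) ⟶ Pc (Y.X k) ⊞ Pc (Y.X (k + 1))) ≫ (syzπ Pc ic Y).f k) := by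
  have h := discMap_f_syzπ_f Pc ic Y k
  rw [discMap_f', biprod.lift_eq, Preadditive.add_comp, Category.assoc, Category.assoc,
    Category.assoc] at h
  exact eq_neg_of_add_eq_zero_left h

/-- the comparison morphism from the shift to the syzygy. -/
noncomputable def kap : Y⟦(1 : ℤ)⟧ ⟶ syz Pc ic Y where
  f k := ic (Y.X (k + 1)) ≫
    (biprod.inr : Pc (Y.X (k + 1)) ⟶ Pc (Y.X k) ⊞ Pc (Y.X (k + 1))) ≫ (syzπ Pc ic Y).f k
  comm' k k' h := by
    obtain rfl : k + 1 = k' := h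
    rw [CochainComplex.shiftFunctor_obj_d']
    simp only [Category.assoc]
    rw [(syzπ Pc ic Y).comm k (k + 1), discObj_d]
    simp only [Category.assoc, biprod.inr_snd_assoc]
    rw [syz_rel]
    simp

lemma kap_f (k : ℤ) : (kap Pc ic Y).f k = ic (Y.X (k + 1)) ≫
    (biprod.inr : Pc (Y.X (k + 1)) ⟶ Pc (Y.X k) ⊞ Pc (Y.X (k + 1))) ≫ (syzπ Pc ic Y).f k := rfl

/-- the morphism of short exact sequences. -/
noncomputable def sesHom : sesId Y ⟶ sesP Pc ic Y where
  τ₁ := 𝟙 Y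
  τ₂ := discComp Pc ic Y
  τ₃ := kap Pc ic Y
  comm₁₂ := by
    dsimp [sesId, sesP]
    ext k
    rw [HomologicalComplex.comp_f, HomologicalComplex.comp_f, discIdMap_f, discComp_f, discMap_f']
    apply biprod.hom_ext <;> simp
  comm₂₃ := by
    dsimp [sesId, sesP]
    ext k
    rw [HomologicalComplex.comp_f, HomologicalComplex.comp_f, discIdπ_f, discComp_f, kap_f]
    apply biprod.hom_ext'
    · simp only [Preadditive.sub_comp, Preadditive.comp_sub, Category.assoc, biprod.inl_snd_assoc,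
        zero_comp, biprod.inl_fst_assoc, zero_sub, biprod.inl_map_assoc]
      rw [syz_rel]
    · simp

lemma quasiIso_discComp : QuasiIso (discComp Pc ic Y) := by
  rw [quasiIso_iff]
  intro k
  rw [quasiIsoAt_iff_exactAt (discComp Pc ic Y) k (discObj_exactAt _ Y k)]
  exact discObj_exactAt Pc Y k

lemma quasiIso_kap : QuasiIso (kap Pc ic Y) := by
  have h₁ : QuasiIso (sesHom Pc ic Y).τ₁ := (inferInstance : QuasiIso (𝟙 Y))
  have h₂ : QuasiIso (sesHom Pc ic Y).τ₂ := quasiIso_discComp Pc ic Y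
  exact HomologicalComplex.HomologySequence.quasiIso_τ₃ (sesHom Pc ic Y) (sesId_shortExact Y)
    (sesP_shortExact Pc ic Y) h₁ h₂

/-- in a morphism of short exact sequences, if the first two maps are isomorphisms, so is the
third. -/
lemma isIso_τ₃_of_shortExact {C : Type*} [Category C] [Abelian C] {S₁ S₂ : ShortComplex C}
    (φ : S₁ ⟶ S₂) (h₁ : S₁.ShortExact) (h₂ : S₂.ShortExact) [IsIso φ.τ₁] [IsIso φ.τ₂] :
    IsIso φ.τ₃ := by
  haveI := h₁.epi_g
  haveI := h₂.epi_g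
  have w : S₂.f ≫ inv φ.τ₂ ≫ S₁.g = 0 := by
    have h : S₂.f = inv φ.τ₁ ≫ S₁.f ≫ φ.τ₂ := by
      rw [← φ.comm₁₂, IsIso.inv_hom_id_assoc]
    rw [h]
    simp
  refine ⟨h₂.exact.desc (inv φ.τ₂ ≫ S₁.g) w, ?_, ?_⟩
  · rw [← cancel_epi S₁.g, ← φ.comm₂₃_assoc, ShortComplex.Exact.g_desc]
    simp
  · rw [← cancel_epi S₂.g, ShortComplex.Exact.g_desc_assoc, Category.assoc, ← φ.comm₂₃]
    simp

lemma isIso_kap_f (k : ℤ) [IsIso (ic (Y.X k))] [IsIso (ic (Y.X (k + 1)))] :
    IsIso ((kap Pc ic Y).f k) := by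
  let φ := (HomologicalComplex.eval A upℤ k).mapShortComplex.map (sesHom Pc ic Y)
  have h₁ := (sesId_shortExact Y).map_of_exact (HomologicalComplex.eval A upℤ k)
  have h₂ := (sesP_shortExact Pc ic Y).map_of_exact (HomologicalComplex.eval A upℤ k)
  haveI : IsIso φ.τ₁ := by
    change IsIso ((𝟙 Y : Y ⟶ Y).f k)
    rw [HomologicalComplex.id_f]
    infer_instance
  haveI : IsIso φ.τ₂ := by
    change IsIso ((discComp Pc ic Y).f k)
    rw [discComp_f]
    exact (biprod.mapIso (asIso (ic (Y.X k))) (asIso (ic (Y.X (k + 1))))).isIso_hom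
  exact isIso_τ₃_of_shortExact φ h₁ h₂

end Kappa

end Groth.Agent.Lib.Helper17.DimRes
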