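import Groth.Agent.Lib.Helper17DimRes2

/-!
# The replacement step `Y ⟶ step Y` (helper17)

`step Y = (syz Y)⟦-1⟧` receives a quasi-isomorphism from `Y`, which is an isomorphism in degree `m`
when the hulls of `Y.X (m - 1)` and `Y.X m` are isomorphisms.
-/

set_option backward.isDefEq.respectTransparency false
set_option autoImplicit false

universe v u

open CategoryTheory CategoryTheory.Limits

namespace Groth.Agent.Lib.Helper17.DimRes

open Groth.Agent.Lib.Helper17.Hull

variable {A : Type u} [Category.{v} A] [Abelian A]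

local notation "upℤ" => ComplexShape.up ℤ

section StepShift

variable (Pc : A → A) (ic : ∀ Z : A, Z ⟶ Pc Z) [∀ Z, Mono (ic Z)] (Y : CochainComplex A ℤ)

/-- the replacement of `Y`. -/
noncomputable def step : CochainComplex A ℤ := (syz Pc ic Y)⟦(-1 : ℤ)⟧

lemma step_X (m : ℤ) : (step Pc ic Y).X m = (syz Pc ic Y).X (m + (-1)) := rfl

/-- the canonical isomorphism `Y ≅ Y⟦1⟧⟦-1⟧`. -/
noncomputable def unshiftIso : Y ≅ (Y⟦(1 : ℤ)⟧)⟦(-1 : ℤ)⟧ :=
  ((shiftFunctorCompIsoId (CochainComplex A ℤ) (1 : ℤ) (-1) (by norm_num)).app Y).symm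

/-- the comparison map. -/
noncomputable def stepι : Y ⟶ step Pc ic Y :=
  (unshiftIso Y).hom ≫ (kap Pc ic Y)⟦(-1 : ℤ)⟧'

lemma quasiIso_stepι : QuasiIso (stepι Pc ic Y) := by
  haveI := quasiIso_kap Pc ic Y
  haveI : QuasiIso ((kap Pc ic Y)⟦(-1 : ℤ)⟧') := by
    rw [CochainComplex.quasiIso_shift_iff]
    infer_instance
  unfold stepι
  infer_instance

lemma isIso_stepι_f (m : ℤ) (h₁ : IsIso (ic (Y.X (m + (-1))))) (h₂ : IsIso (ic (Y.X m))) :
    IsIso ((stepι Pc ic Y).f m) := by
  haveI : IsIso (ic (Y.X (m + (-1) + 1))) := by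
    have e : m + (-1) + 1 = m := by omega
    rw [e]
    exact h₂
  haveI := isIso_kap_f Pc ic Y (m + (-1))
  haveI : IsIso (((kap Pc ic Y)⟦(-1 : ℤ)⟧').f m) := by
    rw [CochainComplex.shiftFunctor_map_f']
    infer_instance
  haveI : IsIso ((unshiftIso Y).hom.f m) :=
    inferInstanceAs (IsIso ((HomologicalComplex.eval A upℤ m).map (unshiftIso Y).hom))
  unfold stepι
  rw [HomologicalComplex.comp_f]
  infer_instance

end StepShift

end Groth.Agent.Lib.Helper17.DimRes
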