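import Groth.Agent.Lib.Helper17Tot4

/-!
# Total complexes: generic isomorphism lemmas and the single-row case
-/

set_option backward.isDefEq.respectTransparency false

universe v u

open CategoryTheory CategoryTheory.Limits ZeroObject

namespace Groth.Agent.Lib.Helper17.Tot

section Generic

variable {C : Type u} [Category.{v} C] [Preadditive C]
  {I₁ I₂ I₁₂ : Type*} {c₁ : ComplexShape I₁} {c₂ : ComplexShape I₂}
  (c₁₂ : ComplexShape I₁₂) [TotalComplexShape c₁ c₂ c₁₂] [DecidableEq I₁₂]

/-- a total complex all of whose summands in degree `n` vanish is zero in degree `n`. -/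
lemma isZero_total_X (K : HomologicalComplex₂ C c₁ c₂) [K.HasTotal c₁₂] (n : I₁₂)
    (h : ∀ p q, ComplexShape.π c₁ c₂ c₁₂ (p, q) = n → IsZero ((K.X p).X q)) :
    IsZero ((K.total c₁₂).X n) := by
  rw [IsZero.iff_id_eq_zero]
  apply HomologicalComplex₂.total.hom_ext
  intro p q hpq
  exact (h p q hpq).eq_of_src _ _

/-- a morphism of double complexes which is componentwise an isomorphism on the antidiagonal `n`
induces an isomorphism in degree `n` on total complexes. -/
lemma isIso_total_map_f {K L : HomologicalComplex₂ C c₁ c₂} [K.HasTotal c₁₂] [L.HasTotal c₁₂]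
    (φ : K ⟶ L) (n : I₁₂)
    (h : ∀ p q, ComplexShape.π c₁ c₂ c₁₂ (p, q) = n → IsIso ((φ.f p).f q)) :
    IsIso ((HomologicalComplex₂.total.map φ c₁₂).f n) := by
  refine ⟨⟨L.totalDesc (fun p q hpq => (@inv _ _ _ _ ((φ.f p).f q) (h p q hpq)) ≫
    K.ιTotal c₁₂ p q n hpq), ?_, ?_⟩⟩
  · apply HomologicalComplex₂.total.hom_ext
    intro p q hpq
    haveI := h p q hpq
    rw [HomologicalComplex₂.ιTotal_map_assoc, HomologicalComplex₂.ι_totalDesc,
      IsIso.hom_inv_id_assoc, Category.comp_id]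
  · apply HomologicalComplex₂.total.hom_ext
    intro p q hpq
    haveI := h p q hpq
    rw [HomologicalComplex₂.ι_totalDesc_assoc, Category.assoc, HomologicalComplex₂.ιTotal_map,
      IsIso.inv_hom_id_assoc, Category.comp_id]

/-- the inclusion of the only nonzero summand is an isomorphism. -/
lemma isIso_ιTotal (K : HomologicalComplex₂ C c₁ c₂) [K.HasTotal c₁₂] (p₀ : I₁) (q₀ : I₂)
    (n : I₁₂) (h : ComplexShape.π c₁ c₂ c₁₂ (p₀, q₀) = n)
    (hz : ∀ p q, ComplexShape.π c₁ c₂ c₁₂ (p, q) = n → ¬ (p = p₀ ∧ q = q₀) →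
      IsZero ((K.X p).X q)) :
    IsIso (K.ιTotal c₁₂ p₀ q₀ n h) := by
  classical
  refine ⟨⟨K.totalDesc (fun p q _ => if h' : p = p₀ ∧ q = q₀ then
    (K.XXIsoOfEq _ _ _ h'.1 h'.2).hom else 0), ?_, ?_⟩⟩
  · rw [HomologicalComplex₂.ι_totalDesc, dif_pos ⟨rfl, rfl⟩]
    rfl
  · apply HomologicalComplex₂.total.hom_ext
    intro p q hpq
    rw [HomologicalComplex₂.ι_totalDesc_assoc, Category.comp_id]
    by_cases h' : p = p₀ ∧ q = q₀
    · rw [dif_pos h', HomologicalComplex₂.XXIsoOfEq_hom_ιTotal]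
    · exact (hz p q hpq h').eq_of_src _ _

end Generic

section ThreeDegrees

variable {C : Type u} [Category.{v} C] [Abelian C]

/-- a morphism of cochain complexes which is an isomorphism in degrees `n - 1`, `n`, `n + 1`
is a quasi-isomorphism in degree `n`. -/
lemma quasiIsoAt_of_isIso_f {K L : CochainComplex C ℤ} (f : K ⟶ L) (n : ℤ)
    (h₁ : IsIso (f.f (n - 1))) (h₂ : IsIso (f.f n)) (h₃ : IsIso (f.f (n + 1))) :
    QuasiIsoAt f n := by
  rw [quasiIsoAt_iff' f (n - 1) n (n + 1) (by simp) (by simp)]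
  haveI : Epi ((HomologicalComplex.shortComplexFunctor' C (ComplexShape.up ℤ)
      (n - 1) n (n + 1)).map f).τ₁ := by
    change Epi (f.f (n - 1)); infer_instance
  haveI : IsIso ((HomologicalComplex.shortComplexFunctor' C (ComplexShape.up ℤ)
      (n - 1) n (n + 1)).map f).τ₂ := by
    change IsIso (f.f n); infer_instance
  haveI : Mono ((HomologicalComplex.shortComplexFunctor' C (ComplexShape.up ℤ)
      (n - 1) n (n + 1)).map f).τ₃ := by
    change Mono (f.f (n + 1)); infer_instance
  exact ShortComplex.quasiIso_of_epi_of_isIso_of_mono _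

/-- a morphism between complexes which vanish in degree `n` is a quasi-isomorphism in degree
`n`. -/
lemma quasiIsoAt_of_isZero {K L : CochainComplex C ℤ} (f : K ⟶ L) (n : ℤ)
    (hK : IsZero (K.X n)) (hL : IsZero (L.X n)) : QuasiIsoAt f n := by
  rw [quasiIsoAt_iff_exactAt f n (ShortComplex.exact_of_isZero_X₂ _ hK)]
  exact ShortComplex.exact_of_isZero_X₂ _ hL

end ThreeDegrees

end Groth.Agent.Lib.Helper17.Tot
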