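import Groth.Agent.Lib.Helper17DimRes3
import Groth.Agent.Lib.Helper17Tot5
import Mathlib.Algebra.Homology.HomologicalComplexLimitsEventuallyConstant
import Mathlib.CategoryTheory.Functor.OfSequence

/-!
# Resolutions for a dimension function (helper17)

Let `d : A → ℕ∞` be a "dimension function" on an abelian category (every object embeds in an object
with `d = 0`, `d` of a biproduct is at most the max, and `d X₃ ≤ max (d X₁ - 1) (d X₂)` in short exact
sequences).  If `K` is a cochain complex with `d (K.X n)` finite and `n + d (K.X n) → -∞` as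
`n → -∞`, then `K` admits a quasi-isomorphism to a complex all of whose terms have `d = 0`.
-/

set_option backward.isDefEq.respectTransparency false
set_option autoImplicit false

universe v u

open CategoryTheory CategoryTheory.Limits

namespace Groth.Agent.Lib.Helper17.DimRes

open Groth.Agent.Lib.Helper17.Hull

variable {A : Type u} [Category.{v} A] [Abelian A]

local notation "upℤ" => ComplexShape.up ℤ

section Dim

variable (d : A → ℕ∞)
  (h1 : ∀ X : A, ∃ (Y : A) (ι : X ⟶ Y), Mono ι ∧ d Y = 0)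

include h1 in
lemma exists_hull (X : A) :
    ∃ (Y : A) (i : X ⟶ Y), Mono i ∧ d Y = 0 ∧ (d X = 0 → IsIso i) := by
  by_cases h : d X = 0
  · exact ⟨X, 𝟙 X, inferInstance, h, fun _ => inferInstance⟩
  · obtain ⟨Y, i, hi, hY⟩ := h1 X
    exact ⟨Y, i, hi, hY, fun h' => absurd h' h⟩

/-- the chosen hull. -/
noncomputable def Pd (X : A) : A := (exists_hull d h1 X).choose

/-- the chosen embedding. -/
noncomputable def jd (X : A) : X ⟶ Pd d h1 X := (exists_hull d h1 X).choose_spec.choose

instance mono_jd (X : A) : Mono (jd d h1 X) := (exists_hull d h1 X).choose_spec.choose_spec.1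

lemma d_Pd (X : A) : d (Pd d h1 X) = 0 := (exists_hull d h1 X).choose_spec.choose_spec.2.1

lemma isIso_jd (X : A) (h : d X = 0) : IsIso (jd d h1 X) :=
  (exists_hull d h1 X).choose_spec.choose_spec.2.2 h

variable (h2 : ∀ X Y : A, d (X ⊞ Y) ≤ max (d X) (d Y))
  (h3 : ∀ S : ShortComplex A, S.ShortExact → d S.X₃ ≤ max (d S.X₁ - 1) (d S.X₂))

include h2 h3 in
lemma d_syz_le (Y : CochainComplex A ℤ) (k : ℤ) :
    d ((syz (Pd d h1) (jd d h1) Y).X k) ≤ d (Y.X k) - 1 := by
  have hS := sesP_eval_shortExact (Pd d h1) (jd d h1) Y k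
  have h := h3 _ hS
  dsimp only at h
  have hD : d ((discObj (Pd d h1) Y).X k) = 0 := by
    have h' := h2 (Pd d h1 (Y.X k)) (Pd d h1 (Y.X (k + 1)))
    rw [d_Pd d h1, d_Pd d h1, max_self] at h'
    exact le_antisymm h' (by simp)
  rw [hD, max_eq_left (by simp)] at h
  exact h

include h2 h3 in
lemma d_step_le (Y : CochainComplex A ℤ) (m : ℤ) :
    d ((step (Pd d h1) (jd d h1) Y).X m) ≤ d (Y.X (m + (-1))) - 1 :=
  d_syz_le d h1 h2 h3 Y (m + (-1))

variable (K : CochainComplex A ℤ)

/-- the sequence of replacements. -/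
noncomputable def seq : ℕ → CochainComplex A ℤ
  | 0 => K
  | i + 1 => step (Pd d h1) (jd d h1) (seq i)

lemma seq_zero : seq d h1 K 0 = K := rfl

lemma seq_succ (i : ℕ) : seq d h1 K (i + 1) = step (Pd d h1) (jd d h1) (seq d h1 K i) := rfl

include h2 h3 in
lemma d_seq_le (i : ℕ) : ∀ m : ℤ, d ((seq d h1 K i).X m) ≤ d (K.X (m - i)) - i := by
  induction i with
  | zero =>
    intro m
    rw [seq_zero]
    simp
  | succ i ih =>
    intro m
    rw [seq_succ]
    refine (d_step_le d h1 h2 h3 _ m).trans ?_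
    refine (tsub_le_tsub_right (ih (m + (-1))) 1).trans ?_
    have e : m + (-1) - (i : ℤ) = m - ((i + 1 : ℕ) : ℤ) := by push_cast; omega
    rw [e, tsub_tsub]
    push_cast
    exact le_rfl

variable (hK : ∀ m : ℤ, ∃ N : ℤ, ∀ n : ℤ, n ≤ N → ∃ k : ℕ, d (K.X n) = k ∧ n + k ≤ m)

include h2 h3 hK in
lemma exists_stab (m : ℤ) : ∃ i₀ : ℕ, ∀ i : ℕ, i₀ ≤ i → d ((seq d h1 K i).X m) = 0 := by
  obtain ⟨N, hN⟩ := hK m
  refine ⟨(m - N).toNat, fun i hi => ?_⟩
  obtain ⟨k, hk, hk'⟩ := hN (m - i) (by omega)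
  have h := d_seq_le d h1 h2 h3 K i m
  rw [hk] at h
  have hki : k ≤ i := by omega
  have : ((k : ℕ∞) - (i : ℕ∞)) = 0 := tsub_eq_zero_of_le (by exact_mod_cast hki)
  rw [this] at h
  exact le_antisymm h (by simp)

end Dim

end Groth.Agent.Lib.Helper17.DimRes
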