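import Groth.Agent.Lib.Helper17DimRes4

/-!
# Resolutions for a dimension function: the colimit (helper17)
-/

set_option backward.isDefEq.respectTransparency false
set_option autoImplicit false

universe v u

open CategoryTheory CategoryTheory.Limits

namespace Groth.Agent.Lib.Helper17.DimRes

open Groth.Agent.Lib.Helper17.Hull

variable {A : Type u} [Category.{v} A] [Abelian A]

local notation "upℤ" => ComplexShape.up ℤ

section Colim

variable (d : A → ℕ∞)
  (h1 : ∀ X : A, ∃ (Y : A) (ι : X ⟶ Y), Mono ι ∧ d Y = 0)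
  (K : CochainComplex A ℤ)

/-- the sequence of replacements as a functor. -/
noncomputable def seqFunctor : ℕ ⥤ CochainComplex A ℤ :=
  Functor.ofSequence (X := seq d h1 K) (fun i => stepι (Pd d h1) (jd d h1) (seq d h1 K i))

lemma seqFunctor_obj (i : ℕ) : (seqFunctor d h1 K).obj i = seq d h1 K i := rfl

lemma seqFunctor_map_succ (i : ℕ) :
    (seqFunctor d h1 K).map (homOfLE (Nat.le_succ i)) =
      stepι (Pd d h1) (jd d h1) (seq d h1 K i) :=
  Functor.ofSequence_map_homOfLE_succ _ i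

lemma quasiIso_seqFunctor_map (i j : ℕ) (f : i ⟶ j) :
    QuasiIso ((seqFunctor d h1 K).map f) := by
  obtain ⟨k, rfl⟩ : ∃ k, j = i + k := ⟨j - i, by have := leOfHom f; omega⟩
  induction k with
  | zero =>
    have : f = 𝟙 i := Subsingleton.elim _ _
    rw [this, CategoryTheory.Functor.map_id]
    infer_instance
  | succ k ih =>
    have : f = homOfLE (by omega : i ≤ i + k) ≫ homOfLE (Nat.le_succ (i + k)) :=
      Subsingleton.elim _ _
    rw [this, Functor.map_comp]
    haveI := ih (homOfLE (by omega))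
    haveI : QuasiIso ((seqFunctor d h1 K).map (homOfLE (Nat.le_succ (i + k)))) := by
      rw [seqFunctor_map_succ]
      exact quasiIso_stepι _ _ _
    infer_instance

lemma isIso_seqFunctor_map_f (m : ℤ) (i₀ : ℕ)
    (hi₀ : ∀ i : ℕ, i₀ ≤ i → d ((seq d h1 K i).X m) = 0 ∧ d ((seq d h1 K i).X (m + (-1))) = 0)
    (i j : ℕ) (hi : i₀ ≤ i) (f : i ⟶ j) :
    IsIso (((seqFunctor d h1 K).map f).f m) := by
  obtain ⟨k, rfl⟩ : ∃ k, j = i + k := ⟨j - i, by have := leOfHom f; omega⟩
  induction k with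
  | zero =>
    have : f = 𝟙 i := Subsingleton.elim _ _
    rw [this, CategoryTheory.Functor.map_id, HomologicalComplex.id_f]
    infer_instance
  | succ k ih =>
    have : f = homOfLE (by omega : i ≤ i + k) ≫ homOfLE (Nat.le_succ (i + k)) :=
      Subsingleton.elim _ _
    rw [this, Functor.map_comp, HomologicalComplex.comp_f]
    haveI := ih (homOfLE (by omega))
    haveI : IsIso (((seqFunctor d h1 K).map (homOfLE (Nat.le_succ (i + k)))).f m) := by
      rw [seqFunctor_map_succ]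
      obtain ⟨ha, hb⟩ := hi₀ (i + k) (by omega)
      exact isIso_stepι_f _ _ _ m (isIso_jd d h1 _ hb) (isIso_jd d h1 _ ha)
    infer_instance

variable (hiso : ∀ ⦃X Y : A⦄, Nonempty (X ≅ Y) → d X = d Y)
  (h2 : ∀ X Y : A, d (X ⊞ Y) ≤ max (d X) (d Y))
  (h3 : ∀ S : ShortComplex A, S.ShortExact → d S.X₃ ≤ max (d S.X₁ - 1) (d S.X₂))
  (hK : ∀ m : ℤ, ∃ N : ℤ, ∀ n : ℤ, n ≤ N → ∃ k : ℕ, d (K.X n) = k ∧ n + k ≤ m)

include h2 h3 hK in
lemma exists_eventuallyConstant (m : ℤ) : ∃ i₀ : ℕ,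
    ((seqFunctor d h1 K) ⋙ HomologicalComplex.eval A upℤ m).IsEventuallyConstantFrom i₀ := by
  obtain ⟨a, ha⟩ := exists_stab d h1 h2 h3 K hK m
  obtain ⟨b, hb⟩ := exists_stab d h1 h2 h3 K hK (m + (-1))
  refine ⟨max a b, fun j f => ?_⟩
  change IsIso (((seqFunctor d h1 K).map f).f m)
  exact isIso_seqFunctor_map_f d h1 K m (max a b)
    (fun i hi => ⟨ha i (le_trans (le_max_left _ _) hi), hb i (le_trans (le_max_right _ _) hi)⟩)
    _ _ le_rfl f

include h1 hiso h2 h3 hK in
/-- **Resolution by objects of dimension zero.** -/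
theorem exists_quasiIso_dim_zero :
    ∃ (L : CochainComplex A ℤ) (f : K ⟶ L), QuasiIso f ∧ ∀ n, d (L.X n) = 0 := by
  haveI : ∀ m : ℤ, HasColimit ((seqFunctor d h1 K) ⋙ HomologicalComplex.eval A upℤ m) :=
    fun m => (exists_eventuallyConstant d h1 K h2 h3 hK m).choose_spec.hasColimit
  let c := colimit.cocone (seqFunctor d h1 K)
  let hc := colimit.isColimit (seqFunctor d h1 K)
  have key : ∀ m : ℤ, ∃ i₀ : ℕ, ∀ j : ℕ, i₀ ≤ j → IsIso ((c.ι.app j).f m) := by
    intro m
    obtain ⟨i₀, h⟩ := exists_eventuallyConstant d h1 K h2 h3 hK m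
    refine ⟨i₀, fun j hj => ?_⟩
    exact (h.postcomp (homOfLE hj)).isIso_ι_of_isColimit
      (isColimitOfPreserves (HomologicalComplex.eval A upℤ m) hc)
  refine ⟨c.pt, c.ι.app 0, ?_, ?_⟩
  · rw [quasiIso_iff]
    intro m
    obtain ⟨a, ha⟩ := key (m - 1)
    obtain ⟨b, hb⟩ := key m
    obtain ⟨e, he⟩ := key (m + 1)
    have hw : c.ι.app 0 =
        (seqFunctor d h1 K).map (homOfLE (Nat.zero_le (max a (max b e)))) ≫
          c.ι.app (max a (max b e)) := (c.w _).symm
    rw [hw]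
    haveI := quasiIso_seqFunctor_map d h1 K _ _ (homOfLE (Nat.zero_le (max a (max b e))))
    haveI : QuasiIsoAt (c.ι.app (max a (max b e))) m :=
      Tot.quasiIsoAt_of_isIso_f _ m (ha _ (le_max_left _ _))
        (hb _ (le_trans (le_max_left _ _) (le_max_right _ _)))
        (he _ (le_trans (le_max_right _ _) (le_max_right _ _)))
    infer_instance
  · intro n
    obtain ⟨i₀, hi₀⟩ := key n
    obtain ⟨i₁, hi₁⟩ := exists_stab d h1 h2 h3 K hK n
    haveI := hi₀ (max i₀ i₁) (le_max_left _ _)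
    have e : d ((seq d h1 K (max i₀ i₁)).X n) = d (c.pt.X n) :=
      hiso ⟨asIso ((c.ι.app (max i₀ i₁)).f n)⟩
    rw [← e]
    exact hi₁ _ (le_max_right _ _)

end Colim

end Groth.Agent.Lib.Helper17.DimRes
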