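import Mathlib.Algebra.Homology.Additive
import Mathlib.CategoryTheory.Adjunction.FullyFaithful

/-!
# Adjunctions induce adjunctions on homological complexes (helper17)
-/

set_option autoImplicit false

universe v v' u u'

open CategoryTheory CategoryTheory.Limits

namespace Groth.Agent.Lib.Helper17.SerreLoc

variable {C : Type u} [Category.{v} C] {D : Type u'} [Category.{v'} D]
  [HasZeroMorphisms C] [HasZeroMorphisms D]
  {F : C ⥤ D} {G : D ⥤ C} (adj : F ⊣ G) [F.PreservesZeroMorphisms] [G.PreservesZeroMorphisms]
  {ι : Type*} (c : ComplexShape ι)

/-- the termwise unit. -/
@[simps]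
def unitHC : 𝟭 (HomologicalComplex C c) ⟶
    F.mapHomologicalComplex c ⋙ G.mapHomologicalComplex c where
  app K :=
    { f := fun i => adj.unit.app (K.X i)
      comm' := fun i j _ => by
        dsimp
        exact (adj.unit.naturality (K.d i j)).symm }
  naturality K L φ := by
    ext i
    dsimp
    exact adj.unit.naturality (φ.f i)

/-- the termwise counit. -/
@[simps]
def counitHC : G.mapHomologicalComplex c ⋙ F.mapHomologicalComplex c ⟶
    𝟭 (HomologicalComplex D c) where
  app K :=
    { f := fun i => adj.counit.app (K.X i)
      comm' := fun i j _ => by
        dsimp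
        exact (adj.counit.naturality (K.d i j)).symm }
  naturality K L φ := by
    ext i
    dsimp
    exact adj.counit.naturality (φ.f i)

/-- the adjunction on homological complexes. -/
def adjHC : F.mapHomologicalComplex c ⊣ G.mapHomologicalComplex c :=
  Adjunction.mkOfUnitCounit
    { unit := unitHC adj c
      counit := counitHC adj c
      left_triangle := by
        ext K i
        dsimp
        rw [Category.id_comp]
        exact adj.left_triangle_components (K.X i)
      right_triangle := by
        ext K i
        dsimp
        rw [Category.id_comp]
        exact adj.right_triangle_components (K.X i) }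

lemma adjHC_unit : (adjHC adj c).unit = unitHC adj c := rfl

instance isIso_adjHC_unit [IsIso adj.unit] : IsIso (adjHC adj c).unit := by
  rw [adjHC_unit]
  haveI : ∀ K : HomologicalComplex C c, IsIso ((unitHC adj c).app K) := fun K => by
    haveI : ∀ i, IsIso (((unitHC adj c).app K).f i) := fun i => by
      change IsIso (adj.unit.app (K.X i))
      infer_instance
    exact HomologicalComplex.Hom.isIso_of_components _
  exact NatIso.isIso_of_isIso_app _

end Groth.Agent.Lib.Helper17.SerreLoc
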