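import Mathlib.Algebra.Homology.DerivedCategory.Ext.Map
import Mathlib.Algebra.Homology.DerivedCategory.Ext.ExactSequences
import Mathlib.Algebra.FiveLemma
import Mathlib.RingTheory.Flat.Basic
import Mathlib.RingTheory.TensorProduct.IsBaseChangeHom
import Mathlib.LinearAlgebra.TensorProduct.Tower

/-!
# `Ext`-groups into an object with a ring action, and base change along a flat ring map (helper17)

`Act R F`: an action of the ring `R` on the object `F` of an abelian category.  Then `Ext P F n`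
is an `R`-module (`EE α P n`), functorially in `P`, with the contravariant long exact sequence.

`Cmp Φ A B F G`: an exact functor `Φ : 𝒜 ⥤ 𝒜'`, an object `F` of `𝒜` with `A`-action, an object `G`
of `𝒜'` with `B`-action and a compatible morphism `Φ F ⟶ G`.  The induced maps
`B ⊗[A] Ext P F n → Ext (Φ P) G n` are bijective for `P₃` as soon as they are for `P₁`, `P₂`
(in all degrees), for a short exact sequence `0 → P₁ → P₂ → P₃ → 0`, when `B` is flat over `A`.
-/

set_option autoImplicit false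
universe w w' v v' u u'

open CategoryTheory Limits Abelian TensorProduct

namespace Groth.Agent.Lib.Helper17.ExtAct

section Act

variable {𝒜 : Type u} [Category.{v} 𝒜] [Abelian 𝒜] [HasExt.{w} 𝒜]

/-- an action of a ring on an object. -/
structure Act (R : Type*) [Semiring R] (F : 𝒜) where
  act : R → (F ⟶ F)
  act_one : act 1 = 𝟙 F
  act_mul : ∀ r s, act (r * s) = act s ≫ act r
  act_add : ∀ r s, act (r + s) = act r + act s
  act_zero : act 0 = 0

variable {R : Type*} [Semiring R] {F : 𝒜} (α : Act R F)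

/-- `Ext P F n`, as a module over the acting ring. -/
def EE (_ : Act R F) (P : 𝒜) (n : ℕ) : Type w := Ext.{w} P F n

noncomputable instance (P : 𝒜) (n : ℕ) : AddCommGroup (EE α P n) := inferInstanceAs (AddCommGroup (Ext.{w} P F n))

/-- the underlying `Ext` class. -/
def EE.toExt {P : 𝒜} {n : ℕ} (x : EE α P n) : Ext.{w} P F n := x

/-- the element of `EE` given by an `Ext` class. -/
def EE.mk {P : 𝒜} {n : ℕ} (x : Ext.{w} P F n) : EE α P n := x

noncomputable instance (P : 𝒜) (n : ℕ) : Module R (EE α P n) where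
  smul r x := (show Ext.{w} P F n from x).comp (Ext.mk₀ (α.act r)) (add_zero n)
  one_smul x := by
    change (show Ext.{w} P F n from x).comp (Ext.mk₀ (α.act 1)) (add_zero n) = x
    rw [α.act_one, Ext.comp_mk₀_id]
  mul_smul r s x := by
    change (show Ext.{w} P F n from x).comp (Ext.mk₀ (α.act (r * s))) (add_zero n) =
      ((show Ext.{w} P F n from x).comp (Ext.mk₀ (α.act s)) (add_zero n)).comp
        (Ext.mk₀ (α.act r)) (add_zero n)
    rw [α.act_mul, Ext.comp_assoc_of_third_deg_zero, Ext.mk₀_comp_mk₀]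
  smul_zero r := by
    change (0 : Ext.{w} P F n).comp (Ext.mk₀ (α.act r)) (add_zero n) = 0
    rw [Ext.zero_comp]
  smul_add r x y := by
    change ((show Ext.{w} P F n from x) + (show Ext.{w} P F n from y)).comp
      (Ext.mk₀ (α.act r)) (add_zero n) = _
    rw [Ext.add_comp]
    rfl
  add_smul r s x := by
    change (show Ext.{w} P F n from x).comp (Ext.mk₀ (α.act (r + s))) (add_zero n) = _
    rw [α.act_add, Ext.mk₀_add, Ext.comp_add]
    rfl
  zero_smul x := by
    change (show Ext.{w} P F n from x).comp (Ext.mk₀ (α.act 0)) (add_zero n) = 0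
    rw [α.act_zero, Ext.mk₀_zero, Ext.comp_zero]

theorem smul_def {P : 𝒜} {n : ℕ} (r : R) (x : EE α P n) :
    r • x = (show Ext.{w} P F n from x).comp (Ext.mk₀ (α.act r)) (add_zero n) := rfl

/-- precomposition. -/
noncomputable def pre {P Q : 𝒜} (f : P ⟶ Q) (n : ℕ) : EE α Q n →ₗ[R] EE α P n where
  toFun x := (Ext.mk₀ f).comp (show Ext.{w} Q F n from x) (zero_add n)
  map_add' x y := Ext.comp_add _ _ _ _
  map_smul' r x := by
    change (Ext.mk₀ f).comp ((show Ext.{w} Q F n from x).comp (Ext.mk₀ (α.act r)) (add_zero n))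
      (zero_add n) = ((Ext.mk₀ f).comp (show Ext.{w} Q F n from x) (zero_add n)).comp
        (Ext.mk₀ (α.act r)) (add_zero n)
    rw [Ext.comp_assoc_of_third_deg_zero]

theorem pre_apply {P Q : 𝒜} (f : P ⟶ Q) (n : ℕ) (x : EE α Q n) :
    pre α f n x = (Ext.mk₀ f).comp (show Ext.{w} Q F n from x) (zero_add n) := rfl

variable {S : ShortComplex 𝒜} (hS : S.ShortExact)

/-- the connecting homomorphism. -/
noncomputable def dlt (n : ℕ) : EE α S.X₁ n →ₗ[R] EE α S.X₃ (n + 1) where
  toFun x := hS.extClass.comp (show Ext.{w} S.X₁ F n from x) (add_comm 1 n)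
  map_add' x y := Ext.comp_add _ _ _ _
  map_smul' r x := by
    change hS.extClass.comp ((show Ext.{w} S.X₁ F n from x).comp (Ext.mk₀ (α.act r)) (add_zero n))
      (add_comm 1 n) = (hS.extClass.comp (show Ext.{w} S.X₁ F n from x) (add_comm 1 n)).comp
        (Ext.mk₀ (α.act r)) (add_zero (n + 1))
    rw [Ext.comp_assoc_of_third_deg_zero]

theorem dlt_apply (n : ℕ) (x : EE α S.X₁ n) :
    dlt α hS n x = hS.extClass.comp (show Ext.{w} S.X₁ F n from x) (add_comm 1 n) := rfl

include hS in
theorem exact_pre_pre (n : ℕ) : Function.Exact (pre α S.g n) (pre α S.f n) := by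
  intro x
  constructor
  · intro hx
    exact Ext.contravariant_sequence_exact₂ hS F (show Ext.{w} S.X₂ F n from x) hx
  · rintro ⟨y, rfl⟩
    change (Ext.mk₀ S.f).comp ((Ext.mk₀ S.g).comp (show Ext.{w} S.X₃ F n from y) (zero_add n))
      (zero_add n) = 0
    rw [← Ext.comp_assoc_of_second_deg_zero, Ext.mk₀_comp_mk₀, S.zero, Ext.mk₀_zero,
      Ext.zero_comp]

theorem exact_pre_dlt (n : ℕ) : Function.Exact (pre α S.f n) (dlt α hS n) := by
  intro x
  constructor
  · intro hx
    exact Ext.contravariant_sequence_exact₁ hS F (show Ext.{w} S.X₁ F n from x) (add_comm 1 n) hx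
  · rintro ⟨y, rfl⟩
    change hS.extClass.comp ((Ext.mk₀ S.f).comp (show Ext.{w} S.X₂ F n from y) (zero_add n))
      (add_comm 1 n) = 0
    rw [← Ext.comp_assoc_of_second_deg_zero, hS.extClass_comp, Ext.zero_comp]

theorem exact_dlt_pre (n : ℕ) : Function.Exact (dlt α hS n) (pre α S.g (n + 1)) := by
  intro x
  constructor
  · intro hx
    exact Ext.contravariant_sequence_exact₃ hS F (show Ext.{w} S.X₃ F (n + 1) from x) hx
      (add_comm 1 n)
  · rintro ⟨y, rfl⟩
    change (Ext.mk₀ S.g).comp (hS.extClass.comp (show Ext.{w} S.X₁ F n from y) (add_comm 1 n))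
      (zero_add (n + 1)) = 0
    rw [← Ext.comp_assoc (Ext.mk₀ S.g) hS.extClass (show Ext.{w} S.X₁ F n from y) (zero_add 1)
      (add_comm 1 n) (by omega), hS.comp_extClass, Ext.zero_comp]

include hS in
theorem pre_g_injective : Function.Injective (pre α S.g 0) := by
  haveI := hS.epi_g
  exact Ext.precomp_mk₀_injective_of_epi F S.g

end Act

section Cmp

variable {𝒜 : Type u} [Category.{v} 𝒜] [Abelian 𝒜] [HasExt.{w} 𝒜]
  {𝒜' : Type u'} [Category.{v'} 𝒜'] [Abelian 𝒜'] [HasExt.{w'} 𝒜']
  (Φ : 𝒜 ⥤ 𝒜') [Φ.Additive] [PreservesFiniteLimits Φ] [PreservesFiniteColimits Φ]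
  (A : Type*) (B : Type*) [CommRing A] [CommRing B] [Algebra A B]

/-- comparison data. -/
structure Cmp (F : 𝒜) (G : 𝒜') where
  α : Act A F
  α' : Act B G
  κ : Φ.obj F ⟶ G
  compat : ∀ a, Φ.map (α.act a) ≫ κ = κ ≫ α'.act (algebraMap A B a)

variable {Φ A B} {F : 𝒜} {G : 𝒜'} (c : Cmp Φ A B F G)

/-- the target groups, as modules over both rings. -/
def EB (c : Cmp Φ A B F G) (Q : 𝒜') (n : ℕ) : Type w' := EE c.α' Q n

noncomputable instance (Q : 𝒜') (n : ℕ) : AddCommGroup (EB c Q n) :=
  inferInstanceAs (AddCommGroup (EE c.α' Q n))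

noncomputable instance (Q : 𝒜') (n : ℕ) : Module B (EB c Q n) :=
  inferInstanceAs (Module B (EE c.α' Q n))

noncomputable instance (Q : 𝒜') (n : ℕ) : Module A (EB c Q n) :=
  Module.compHom _ (algebraMap A B)

instance (Q : 𝒜') (n : ℕ) : IsScalarTower A B (EB c Q n) :=
  IsScalarTower.of_algebraMap_smul (fun _ _ => rfl)

theorem smul_def' {Q : 𝒜'} {n : ℕ} (b : B) (x : EB c Q n) :
    b • x = (show Ext.{w'} Q G n from x).comp (Ext.mk₀ (c.α'.act b)) (add_zero n) := rfl

theorem smulA_def {Q : 𝒜'} {n : ℕ} (a : A) (x : EB c Q n) :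
    a • x = algebraMap A B a • x := rfl

/-- precomposition on the target side. -/
noncomputable def pre' {P Q : 𝒜'} (f : P ⟶ Q) (n : ℕ) : EB c Q n →ₗ[B] EB c P n :=
  pre c.α' f n

/-- the connecting homomorphism on the target side. -/
noncomputable def dlt' {S : ShortComplex 𝒜'} (hS : S.ShortExact) (n : ℕ) :
    EB c S.X₁ n →ₗ[B] EB c S.X₃ (n + 1) :=
  dlt c.α' hS n

/-- the comparison map. -/
noncomputable def phi (P : 𝒜) (n : ℕ) : EE c.α P n →ₗ[A] EB c (Φ.obj P) n where
  toFun x := ((show Ext.{w} P F n from x).mapExactFunctor Φ).comp (Ext.mk₀ c.κ) (add_zero n)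
  map_add' x y := by
    change (((show Ext.{w} P F n from x) + (show Ext.{w} P F n from y)).mapExactFunctor Φ).comp
      (Ext.mk₀ c.κ) (add_zero n) = _
    rw [Ext.mapExactFunctor_add, Ext.add_comp]
    rfl
  map_smul' a x := by
    change (((show Ext.{w} P F n from x).comp (Ext.mk₀ (c.α.act a))
      (add_zero n)).mapExactFunctor Φ).comp (Ext.mk₀ c.κ) (add_zero n) =
      (((show Ext.{w} P F n from x).mapExactFunctor Φ).comp (Ext.mk₀ c.κ) (add_zero n)).comp
        (Ext.mk₀ (c.α'.act (algebraMap A B a))) (add_zero n)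
    rw [Ext.mapExactFunctor_comp, Ext.mapExactFunctor_mk₀, Ext.comp_assoc_of_third_deg_zero,
      Ext.comp_assoc_of_third_deg_zero, Ext.mk₀_comp_mk₀, Ext.mk₀_comp_mk₀, c.compat]

theorem phi_apply (P : 𝒜) (n : ℕ) (x : EE c.α P n) :
    phi c P n x =
      ((show Ext.{w} P F n from x).mapExactFunctor Φ).comp (Ext.mk₀ c.κ) (add_zero n) := rfl

theorem phi_pre {P Q : 𝒜} (f : P ⟶ Q) (n : ℕ) (x : EE c.α Q n) :
    phi c P n (pre c.α f n x) = pre' c (Φ.map f) n (phi c Q n x) := by
  change (((Ext.mk₀ f).comp (show Ext.{w} Q F n from x) (zero_add n)).mapExactFunctor Φ).comp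
    (Ext.mk₀ c.κ) (add_zero n) =
    (Ext.mk₀ (Φ.map f)).comp (((show Ext.{w} Q F n from x).mapExactFunctor Φ).comp
      (Ext.mk₀ c.κ) (add_zero n)) (zero_add n)
  rw [Ext.mapExactFunctor_comp, Ext.mapExactFunctor_mk₀, Ext.comp_assoc_of_third_deg_zero]

theorem phi_dlt {S : ShortComplex 𝒜} (hS : S.ShortExact) (n : ℕ) (x : EE c.α S.X₁ n) :
    phi c S.X₃ (n + 1) (dlt c.α hS n x) =
      dlt' c (hS.map_of_exact Φ) n (phi c S.X₁ n x) := by
  change ((hS.extClass.comp (show Ext.{w} S.X₁ F n from x) (add_comm 1 n)).mapExactFunctor Φ).comp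
    (Ext.mk₀ c.κ) (add_zero (n + 1)) =
    (hS.map_of_exact Φ).extClass.comp (((show Ext.{w} S.X₁ F n from x).mapExactFunctor Φ).comp
      (Ext.mk₀ c.κ) (add_zero n)) (add_comm 1 n)
  rw [Ext.mapExactFunctor_comp, Ext.mapExactFunctor_extClass, Ext.comp_assoc_of_third_deg_zero]
  rfl

/-- the base-changed comparison map. -/
noncomputable def beta (P : 𝒜) (n : ℕ) : B ⊗[A] EE c.α P n →ₗ[B] EB c (Φ.obj P) n :=
  LinearMap.liftBaseChange B (phi c P n)

theorem beta_tmul (P : 𝒜) (n : ℕ) (b : B) (x : EE c.α P n) :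
    beta c P n (b ⊗ₜ x) = b • phi c P n x :=
  LinearMap.liftBaseChange_tmul _ _ _ _

theorem beta_pre {P Q : 𝒜} (f : P ⟶ Q) (n : ℕ) (z : B ⊗[A] EE c.α Q n) :
    beta c P n ((pre c.α f n).lTensor B z) = pre' c (Φ.map f) n (beta c Q n z) := by
  induction z using TensorProduct.induction_on with
  | zero => simp
  | tmul b x =>
    rw [LinearMap.lTensor_tmul, beta_tmul, beta_tmul, phi_pre, map_smul]
  | add x y hx hy => rw [map_add, map_add, hx, hy, map_add, map_add]

theorem beta_dlt {S : ShortComplex 𝒜} (hS : S.ShortExact) (n : ℕ) (z : B ⊗[A] EE c.α S.X₁ n) :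
    beta c S.X₃ (n + 1) ((dlt c.α hS n).lTensor B z) =
      dlt' c (hS.map_of_exact Φ) n (beta c S.X₁ n z) := by
  induction z using TensorProduct.induction_on with
  | zero =>
    rw [map_zero, map_zero]
    exact ((dlt' c (hS.map_of_exact Φ) n).map_zero).symm
  | tmul b x =>
    rw [LinearMap.lTensor_tmul, beta_tmul, beta_tmul, phi_dlt]
    exact ((dlt' c (hS.map_of_exact Φ) n).map_smul b _).symm
  | add x y hx hy =>
    rw [map_add, map_add, hx, hy, map_add]
    exact ((dlt' c (hS.map_of_exact Φ) n).map_add _ _).symm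

/-- the probes for which base change holds in all degrees. -/
def Good (P : 𝒜) : Prop := ∀ n, Function.Bijective (beta c P n)

theorem good_of_iso {P Q : 𝒜} (e : P ≅ Q) (h : Good c P) : Good c Q := by
  intro n
  have h1 : ∀ z, beta c P n ((pre c.α e.hom n).lTensor B z) =
      pre' c (Φ.map e.hom) n (beta c Q n z) := beta_pre c e.hom n
  have hpre : ∀ {P Q : 𝒜} (e : P ≅ Q) (x : EE c.α P n),
      pre c.α e.hom n (pre c.α e.inv n x) = x := by
    intro P Q e x
    change (Ext.mk₀ e.hom).comp ((Ext.mk₀ e.inv).comp (show Ext.{w} P F n from x) (zero_add n))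
      (zero_add n) = x
    rw [← Ext.comp_assoc_of_second_deg_zero, Ext.mk₀_comp_mk₀, e.hom_inv_id, Ext.mk₀_id_comp]
  have hpre' : ∀ {P Q : 𝒜'} (e : P ≅ Q) (x : EB c P n),
      pre' c e.hom n (pre' c e.inv n x) = x := by
    intro P Q e x
    change (Ext.mk₀ e.hom).comp ((Ext.mk₀ e.inv).comp (show Ext.{w'} P G n from x) (zero_add n))
      (zero_add n) = x
    rw [← Ext.comp_assoc_of_second_deg_zero, Ext.mk₀_comp_mk₀, e.hom_inv_id, Ext.mk₀_id_comp]
  have hl : Function.Bijective ((pre c.α e.hom n).lTensor B) := by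
    refine Function.bijective_iff_has_inverse.2 ⟨(pre c.α e.inv n).lTensor B, ?_, ?_⟩
    · intro z
      rw [← LinearMap.comp_apply, ← LinearMap.lTensor_comp]
      have : (pre c.α e.inv n) ∘ₗ (pre c.α e.hom n) = LinearMap.id :=
        LinearMap.ext (fun x => hpre e.symm x)
      rw [this, LinearMap.lTensor_id, LinearMap.id_apply]
    · intro z
      rw [← LinearMap.comp_apply, ← LinearMap.lTensor_comp]
      have : (pre c.α e.hom n) ∘ₗ (pre c.α e.inv n) = LinearMap.id :=
        LinearMap.ext (fun x => hpre e x)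
      rw [this, LinearMap.lTensor_id, LinearMap.id_apply]
  have hr : Function.Bijective (pre' c (Φ.map e.hom) n) := by
    refine Function.bijective_iff_has_inverse.2 ⟨pre' c (Φ.map e.inv) n, ?_, ?_⟩
    · intro x
      exact hpre' (Φ.mapIso e).symm x
    · intro x
      exact hpre' (Φ.mapIso e) x
  have h2 : (pre' c (Φ.map e.hom) n) ∘ (beta c Q n) =
      (beta c P n) ∘ ((pre c.α e.hom n).lTensor B) := by
    funext z
    exact (h1 z).symm
  have h3 : Function.Bijective ((pre' c (Φ.map e.hom) n) ∘ (beta c Q n)) := by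
    rw [h2]
    exact (h n).comp hl
  exact (Function.Bijective.of_comp_iff' hr _).1 h3

section TwoOfThree

variable [Module.Flat A B] {S : ShortComplex 𝒜} (hS : S.ShortExact)

include hS

theorem lT_exact_pre_pre (n : ℕ) :
    Function.Exact ((pre c.α S.g n).lTensor B) ((pre c.α S.f n).lTensor B) :=
  Module.Flat.lTensor_exact B (exact_pre_pre c.α hS n)

theorem lT_exact_pre_dlt (n : ℕ) :
    Function.Exact ((pre c.α S.f n).lTensor B) ((dlt c.α hS n).lTensor B) :=
  Module.Flat.lTensor_exact B (exact_pre_dlt c.α hS n)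

theorem lT_exact_dlt_pre (n : ℕ) :
    Function.Exact ((dlt c.α hS n).lTensor B) ((pre c.α S.g (n + 1)).lTensor B) :=
  Module.Flat.lTensor_exact B (exact_dlt_pre c.α hS n)

theorem lT_pre_g_injective : Function.Injective ((pre c.α S.g 0).lTensor B) :=
  Module.Flat.lTensor_preserves_injective_linearMap _ (pre_g_injective c.α hS)

/-- if base change holds for `X₁` and `X₂` it holds for `X₃`. -/
theorem good_X₃ (h₁ : Good c S.X₁) (h₂ : Good c S.X₂) : Good c S.X₃ := by
  have hS' := hS.map_of_exact Φ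
  intro n
  cases n with
  | zero =>
    exact AddMonoidHom.bijective_of_bijective_of_injective_of_left_exact
      ((pre c.α S.g 0).lTensor B).toAddMonoidHom ((pre c.α S.f 0).lTensor B).toAddMonoidHom
      (pre' c (Φ.map S.g) 0).toAddMonoidHom (pre' c (Φ.map S.f) 0).toAddMonoidHom
      (beta c S.X₃ 0).toAddMonoidHom (beta c S.X₂ 0).toAddMonoidHom (beta c S.X₁ 0).toAddMonoidHom
      (AddMonoidHom.ext fun z => (beta_pre c S.g 0 z).symm)
      (AddMonoidHom.ext fun z => (beta_pre c S.f 0 z).symm)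
      (lT_exact_pre_pre c hS 0) (exact_pre_pre c.α' hS' 0)
      (h₂ 0) (h₁ 0).1 (lT_pre_g_injective c hS) (pre_g_injective c.α' hS')
  | succ n =>
    exact AddMonoidHom.bijective_of_surjective_of_bijective_of_bijective_of_injective
      ((pre c.α S.f n).lTensor B).toAddMonoidHom ((dlt c.α hS n).lTensor B).toAddMonoidHom
      ((pre c.α S.g (n + 1)).lTensor B).toAddMonoidHom
      ((pre c.α S.f (n + 1)).lTensor B).toAddMonoidHom
      (pre' c (Φ.map S.f) n).toAddMonoidHom (dlt' c hS' n).toAddMonoidHom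
      (pre' c (Φ.map S.g) (n + 1)).toAddMonoidHom (pre' c (Φ.map S.f) (n + 1)).toAddMonoidHom
      (beta c S.X₂ n).toAddMonoidHom (beta c S.X₁ n).toAddMonoidHom
      (beta c S.X₃ (n + 1)).toAddMonoidHom (beta c S.X₂ (n + 1)).toAddMonoidHom
      (beta c S.X₁ (n + 1)).toAddMonoidHom
      (AddMonoidHom.ext fun z => (beta_pre c S.f n z).symm)
      (AddMonoidHom.ext fun z => (beta_dlt c hS n z).symm)
      (AddMonoidHom.ext fun z => (beta_pre c S.g (n + 1) z).symm)
      (AddMonoidHom.ext fun z => (beta_pre c S.f (n + 1) z).symm)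
      (lT_exact_pre_dlt c hS n) (lT_exact_dlt_pre c hS n) (lT_exact_pre_pre c hS (n + 1))
      (exact_pre_dlt c.α' hS' n) (exact_dlt_pre c.α' hS' n) (exact_pre_pre c.α' hS' (n + 1))
      (h₂ n).2 (h₁ n) (h₂ (n + 1)) (h₁ (n + 1)).1

/-- if base change holds for `X₁` and `X₃` it holds for `X₂`. -/
theorem good_X₂ (h₁ : Good c S.X₁) (h₃ : Good c S.X₃) : Good c S.X₂ := by
  have hS' := hS.map_of_exact Φ
  intro n
  constructor
  · cases n with
    | zero =>
      rw [injective_iff_map_eq_zero]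
      intro x hx
      have e1 : beta c S.X₁ 0 ((pre c.α S.f 0).lTensor B x) = 0 := by
        rw [beta_pre, hx, map_zero]
      have e2 : (pre c.α S.f 0).lTensor B x = 0 := by
        apply (h₁ 0).1
        rw [e1, map_zero]
      obtain ⟨y, rfl⟩ := (lT_exact_pre_pre c hS 0 x).1 e2
      have e3 : pre' c (Φ.map S.g) 0 (beta c S.X₃ 0 y) = 0 := by
        rw [← beta_pre, hx]
      have e4 : beta c S.X₃ 0 y = 0 := by
        apply pre_g_injective c.α' hS'
        exact e3.trans (map_zero _).symm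
      have e5 : y = 0 := by
        apply (h₃ 0).1
        rw [e4, map_zero]
      rw [e5, map_zero]
    | succ n =>
      exact AddMonoidHom.injective_of_surjective_of_injective_of_injective
        ((dlt c.α hS n).lTensor B).toAddMonoidHom ((pre c.α S.g (n + 1)).lTensor B).toAddMonoidHom
        ((pre c.α S.f (n + 1)).lTensor B).toAddMonoidHom
        (dlt' c hS' n).toAddMonoidHom (pre' c (Φ.map S.g) (n + 1)).toAddMonoidHom
        (pre' c (Φ.map S.f) (n + 1)).toAddMonoidHom
        (beta c S.X₁ n).toAddMonoidHom (beta c S.X₃ (n + 1)).toAddMonoidHom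
        (beta c S.X₂ (n + 1)).toAddMonoidHom (beta c S.X₁ (n + 1)).toAddMonoidHom
        (AddMonoidHom.ext fun z => (beta_dlt c hS n z).symm)
        (AddMonoidHom.ext fun z => (beta_pre c S.g (n + 1) z).symm)
        (AddMonoidHom.ext fun z => (beta_pre c S.f (n + 1) z).symm)
        (lT_exact_dlt_pre c hS n) (lT_exact_pre_pre c hS (n + 1))
        (exact_dlt_pre c.α' hS' n)
        (h₁ n).2 (h₃ (n + 1)).1 (h₁ (n + 1)).1
  · exact AddMonoidHom.surjective_of_surjective_of_surjective_of_injective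
      ((pre c.α S.g n).lTensor B).toAddMonoidHom ((pre c.α S.f n).lTensor B).toAddMonoidHom
      ((dlt c.α hS n).lTensor B).toAddMonoidHom
      (pre' c (Φ.map S.g) n).toAddMonoidHom (pre' c (Φ.map S.f) n).toAddMonoidHom
      (dlt' c hS' n).toAddMonoidHom
      (beta c S.X₃ n).toAddMonoidHom (beta c S.X₂ n).toAddMonoidHom
      (beta c S.X₁ n).toAddMonoidHom (beta c S.X₃ (n + 1)).toAddMonoidHom
      (AddMonoidHom.ext fun z => (beta_pre c S.g n z).symm)
      (AddMonoidHom.ext fun z => (beta_pre c S.f n z).symm)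
      (AddMonoidHom.ext fun z => (beta_dlt c hS n z).symm)
      (lT_exact_pre_dlt c hS n) (exact_pre_pre c.α' hS' n) (exact_pre_dlt c.α' hS' n)
      (h₃ n).2 (h₁ n).2 (h₃ (n + 1)).1

end TwoOfThree

/-- base change for biproducts of probes. -/
theorem good_biprod [Module.Flat A B] {P Q : 𝒜} (hP : Good c P) (hQ : Good c Q) :
    Good c (P ⊞ Q) := by
  have hS : (ShortComplex.mk (biprod.inl : P ⟶ P ⊞ Q) (biprod.snd : P ⊞ Q ⟶ Q)
      biprod.inl_snd).ShortExact :=
    (ShortComplex.Splitting.ofHasBinaryBiproduct P Q).shortExact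
  exact good_X₂ (S := ShortComplex.mk (biprod.inl : P ⟶ P ⊞ Q) (biprod.snd : P ⊞ Q ⟶ Q)
      biprod.inl_snd) c hS hP hQ

end Cmp

end Groth.Agent.Lib.Helper17.ExtAct
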