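import Mathlib

/-!
# `Ext` into a product of acyclic objects (helper17)

Let `C` be an abelian category with enough injectives and a class `𝒵` of test objects detecting
epimorphisms. If `(F i)` is a family of `𝒵`-acyclic objects (`Ext^q(Z, F i) = 0` for `Z ∈ 𝒵`, `q > 0`), then
for every object `Y` the canonical map `Ext^p(Y, ∏ F i) → ∏ Ext^p(Y, F i)` is bijective.
(Dimension shifting; cf. "cohomology commutes with products of sheaves acyclic on a basis".)
-/

set_option autoImplicit false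
universe w w' v u
open CategoryTheory Limits Abelian

namespace Groth.Agent.Lib.Helper17.ExtProd

variable {C : Type u} [Category.{v} C] [Abelian C]

section Inj

variable {ι : Type w'}

theorem injective_pi (c : ι → C) [HasProduct c] (h : ∀ b, Injective (c b)) : Injective (∏ᶜ c) where
  factors g f _ := by
    refine ⟨Pi.lift (fun b => Injective.factorThru (g ≫ Pi.π c b) f), ?_⟩
    apply Pi.hom_ext
    intro b
    rw [Category.assoc, Pi.lift_π, Injective.comp_factorThru]

end Inj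

variable [HasExt.{w} C] [EnoughInjectives C] (𝒵 : C → Prop)

/-- `F` is acyclic for the test objects. -/
def Acyc (F : C) : Prop := ∀ Z, 𝒵 Z → ∀ q : ℕ, Subsingleton (Ext.{w} Z F (q + 1))

/-- the test objects detect epimorphisms. -/
def DetectsEpi : Prop := ∀ ⦃A B : C⦄ (g : A ⟶ B),
  (∀ Z, 𝒵 Z → ∀ φ : Z ⟶ B, ∃ ψ : Z ⟶ A, ψ ≫ g = φ) → Epi g

theorem acyc_of_injective (F : C) [Injective F] : Acyc.{w} 𝒵 F :=
  fun Z _ q => Ext.subsingleton_of_injective Z F q

section One

variable (F : C)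

/-- `0 → F → I → Q → 0` with `I` injective. -/
noncomputable abbrev sc : ShortComplex C :=
  ShortComplex.mk (Injective.ι F) (cokernel.π (Injective.ι F)) (cokernel.condition _)

theorem sc_shortExact : (sc F).ShortExact :=
  { exact := ShortComplex.exact_cokernel _
    mono_f := inferInstanceAs (Mono (Injective.ι F))
    epi_g := inferInstanceAs (Epi (cokernel.π (Injective.ι F))) }

variable {𝒵}

theorem acyc_Q (hF : Acyc.{w} 𝒵 F) : Acyc.{w} 𝒵 (sc F).X₃ := by
  intro Z hZ q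
  refine ⟨fun a b => ?_⟩
  have key : ∀ c : Ext.{w} Z (sc F).X₃ (q + 1), c = 0 := by
    intro c
    have h1 : c.comp (sc_shortExact F).extClass (rfl : q + 1 + 1 = q + 1 + 1) = 0 :=
      @Subsingleton.elim _ (hF Z hZ (q + 1)) _ _
    obtain ⟨x₂, hx₂⟩ := Ext.covariant_sequence_exact₃ Z (sc_shortExact F) c rfl h1
    have : x₂ = 0 := Ext.eq_zero_of_injective (I := Injective.under F) x₂
    rw [← hx₂, this, Ext.zero_comp]
  rw [key a, key b]

theorem lift_Q (hF : Acyc.{w} 𝒵 F) (Z : C) (hZ : 𝒵 Z) (φ : Z ⟶ (sc F).X₃) :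
    ∃ ψ : Z ⟶ (sc F).X₂, ψ ≫ (sc F).g = φ := by
  have h1 : (Ext.mk₀ φ).comp (sc_shortExact F).extClass (zero_add 1) = 0 :=
    @Subsingleton.elim _ (hF Z hZ 0) _ _
  obtain ⟨x₂, hx₂⟩ := Ext.covariant_sequence_exact₃ Z (sc_shortExact F) (Ext.mk₀ φ) (zero_add 1) h1
  obtain ⟨ψ, rfl⟩ := (Ext.mk₀_bijective _ _).2 x₂
  rw [Ext.mk₀_comp_mk₀] at hx₂
  exact ⟨ψ, (Ext.mk₀_bijective _ _).1 hx₂⟩

end One

section Prod

variable {ι : Type w'} (F : ι → C) [∀ G : ι → C, HasProduct G]

/-- the product of the sequences `0 → F i → I i → Q i → 0`. -/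
noncomputable abbrev psc : ShortComplex C :=
  ShortComplex.mk (Limits.Pi.map fun i => (sc (F i)).f) (Limits.Pi.map fun i => (sc (F i)).g) (by
    apply Pi.hom_ext
    intro i
    rw [Category.assoc, Pi.map_π, Pi.map_π_assoc, (sc (F i)).zero, comp_zero, zero_comp])

theorem psc_f_π (i : ι) :
    (psc F).f ≫ Pi.π (fun i => (sc (F i)).X₂) i = Pi.π F i ≫ (sc (F i)).f :=
  Pi.map_π (fun i => (sc (F i)).f) i

theorem psc_g_π (i : ι) :
    (psc F).g ≫ Pi.π (fun i => (sc (F i)).X₃) i =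
      Pi.π (fun i => (sc (F i)).X₂) i ≫ (sc (F i)).g :=
  Pi.map_π (fun i => (sc (F i)).g) i

/-- the projection `psc F ⟶ sc (F i)`. -/
noncomputable abbrev pscπ (i : ι) : psc F ⟶ sc (F i) where
  τ₁ := Pi.π F i
  τ₂ := Pi.π (fun i => (sc (F i)).X₂) i
  τ₃ := Pi.π (fun i => (sc (F i)).X₃) i
  comm₁₂ := (psc_f_π F i).symm
  comm₂₃ := (psc_g_π F i).symm

variable {𝒵}

theorem psc_shortExact (h𝒵 : DetectsEpi 𝒵) (hF : ∀ i, Acyc.{w} 𝒵 (F i)) : (psc F).ShortExact := by
  haveI : Mono (psc F).f := inferInstanceAs (Mono (Limits.Pi.map fun i => (sc (F i)).f))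
  haveI : Epi (psc F).g := by
    apply h𝒵
    intro Z hZ φ
    choose ψ hψ using fun i => lift_Q (F i) (hF i) Z hZ (φ ≫ Pi.π _ i)
    refine ⟨Pi.lift ψ, ?_⟩
    apply Pi.hom_ext
    intro i
    rw [Category.assoc, psc_g_π, Pi.lift_π_assoc, hψ i]
  refine { exact := ?_ }
  refine ShortComplex.exact_of_f_is_kernel _ (KernelFork.IsLimit.ofι _ _
    (fun {T} g hg => Pi.lift (fun i => (sc_shortExact (F i)).exact.lift (g ≫ Pi.π _ i) (by
      have := congrArg (fun k => k ≫ Pi.π (fun i => (sc (F i)).X₃) i) hg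
      simp only [zero_comp, Category.assoc] at this
      rw [psc_g_π] at this
      rw [Category.assoc]
      exact this))) ?_ ?_)
  · intro T g hg
    apply Pi.hom_ext
    intro i
    rw [Category.assoc, psc_f_π, Pi.lift_π_assoc, ShortComplex.Exact.lift_f]
  · intro T g hg m hm
    rw [← cancel_mono (psc F).f, hm]
    apply Pi.hom_ext
    intro i
    rw [Category.assoc, psc_f_π, Pi.lift_π_assoc, ShortComplex.Exact.lift_f]

/-- the comparison map. -/
noncomputable def Φ (Y : C) (p : ℕ) : Ext.{w} Y (∏ᶜ F) p →+ (∀ i, Ext.{w} Y (F i) p) :=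
  AddMonoidHom.pi (fun i => (Ext.mk₀ (Pi.π F i)).postcomp Y (add_zero p))

theorem Φ_apply (Y : C) (p : ℕ) (x : Ext.{w} Y (∏ᶜ F) p) (i : ι) :
    Φ F Y p x i = x.comp (Ext.mk₀ (Pi.π F i)) (add_zero p) := rfl

theorem bijective_Φ_zero (Y : C) : Function.Bijective (Φ.{w} F Y 0) := by
  constructor
  · intro x y hxy
    obtain ⟨f, rfl⟩ := (Ext.mk₀_bijective _ _).2 x
    obtain ⟨g, rfl⟩ := (Ext.mk₀_bijective _ _).2 y
    congr 1
    apply Pi.hom_ext
    intro i
    have := congrFun hxy i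
    rw [Φ_apply, Φ_apply, Ext.mk₀_comp_mk₀, Ext.mk₀_comp_mk₀] at this
    exact (Ext.mk₀_bijective _ _).1 this
  · intro x
    choose f hf using fun i => (Ext.mk₀_bijective _ _).2 (x i)
    refine ⟨Ext.mk₀ (Pi.lift f), ?_⟩
    funext i
    rw [Φ_apply, Ext.mk₀_comp_mk₀, Pi.lift_π, hf i]

theorem bijective_Φ (h𝒵 : DetectsEpi 𝒵) (p : ℕ) : ∀ (F : ι → C), (∀ i, Acyc.{w} 𝒵 (F i)) →
    ∀ Y : C, Function.Bijective (Φ.{w} F Y p) := by
  induction p with
  | zero => exact fun F _ Y => bijective_Φ_zero F Y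
  | succ p ih =>
    intro F hF Y
    have hP := psc_shortExact F h𝒵 hF
    have hS := fun i => sc_shortExact (F i)
    have hQ : ∀ i, Acyc.{w} 𝒵 (sc (F i)).X₃ := fun i => acyc_Q (F i) (hF i)
    have hI : ∀ i, Acyc.{w} 𝒵 (sc (F i)).X₂ := fun i =>
      acyc_of_injective 𝒵 (Injective.under (F i))
    have nat : ∀ i, hP.extClass.comp (Ext.mk₀ (Pi.π F i)) (add_zero 1) =
        (Ext.mk₀ (Pi.π (fun i => (sc (F i)).X₃) i)).comp (hS i).extClass (zero_add 1) := fun i =>
      ShortComplex.ShortExact.extClass_naturality hP (hS i) (pscπ F i)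
    haveI : Injective (psc F).X₂ := injective_pi _ (fun i => inferInstanceAs
      (Injective (Injective.under (F i))))
    constructor
    · rw [injective_iff_map_eq_zero]
      intro z hz
      have hz' : ∀ i, z.comp (Ext.mk₀ (Pi.π F i)) (add_zero (p + 1)) = 0 := fun i => congrFun hz i
      have h1 : z.comp (Ext.mk₀ (psc F).f) (add_zero (p + 1)) = 0 :=
        Ext.eq_zero_of_injective (I := (psc F).X₂) _
      obtain ⟨y, hy⟩ := Ext.covariant_sequence_exact₁ Y hP z h1 rfl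
      have h2 : ∀ i, (y.comp (Ext.mk₀ (Pi.π (fun i => (sc (F i)).X₃) i)) (add_zero p)).comp
          (hS i).extClass rfl = 0 := by
        intro i
        rw [Ext.comp_assoc_of_second_deg_zero, ← nat i, ← Ext.comp_assoc_of_third_deg_zero, hy]
        exact hz' i
      choose v hv using fun i => Ext.covariant_sequence_exact₃ Y (hS i) _ rfl (h2 i)
      obtain ⟨V, hV⟩ := (ih (fun i => (sc (F i)).X₂) hI Y).2 v
      have h3 : V.comp (Ext.mk₀ (psc F).g) (add_zero p) = y := by
        apply (ih (fun i => (sc (F i)).X₃) hQ Y).1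
        funext i
        rw [Φ_apply, Φ_apply, Ext.comp_assoc_of_third_deg_zero, Ext.mk₀_comp_mk₀]
        rw [psc_g_π F i, ← Ext.mk₀_comp_mk₀, ← Ext.comp_assoc_of_third_deg_zero]
        have := congrFun hV i
        rw [Φ_apply] at this
        rw [this, hv i]
      rw [← hy, ← h3, Ext.comp_assoc_of_second_deg_zero, ShortComplex.ShortExact.comp_extClass,
        Ext.comp_zero]
    · intro x
      have h1 : ∀ i, (x i).comp (Ext.mk₀ (sc (F i)).f) (add_zero (p + 1)) = 0 := fun i =>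
        Ext.eq_zero_of_injective (I := Injective.under (F i)) _
      choose y hy using fun i => Ext.covariant_sequence_exact₁ Y (hS i) (x i) (h1 i) rfl
      obtain ⟨y', hy'⟩ := (ih (fun i => (sc (F i)).X₃) hQ Y).2 y
      refine ⟨y'.comp hP.extClass rfl, ?_⟩
      funext i
      rw [Φ_apply, Ext.comp_assoc_of_third_deg_zero, nat i, ← Ext.comp_assoc_of_second_deg_zero]
      have := congrFun hy' i
      rw [Φ_apply] at this
      rw [this, hy i]

theorem acyc_pi (h𝒵 : DetectsEpi 𝒵) (hF : ∀ i, Acyc.{w} 𝒵 (F i)) : Acyc.{w} 𝒵 (∏ᶜ F) := by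
  intro Z hZ q
  refine ⟨fun a b => ?_⟩
  apply (bijective_Φ h𝒵 (q + 1) F hF Z).1
  funext i
  exact @Subsingleton.elim _ (hF i Z hZ q) _ _

end Prod

end Groth.Agent.Lib.Helper17.ExtProd
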