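import Mathlib
import Groth.Agent.Lib.Helper21AcyclicClass

/-!
# Helper21: `Ext^p(A, H F) = 0` from `Ext^p(G A, F) = 0`, for an exact left adjoint `G ⊣ H`
with enough `A` such that `G A` is `F`-acyclic.
-/

universe w w' v v' u u'
open CategoryTheory Limits Abelian

namespace Groth.Agent.Lib.Helper21.AcyclicAdj

variable {𝒜 : Type u} [Category.{v} 𝒜] [Abelian 𝒜] [HasExt.{w} 𝒜]
  {ℬ : Type u'} [Category.{v'} ℬ] [Abelian ℬ] [HasExt.{w'} ℬ]

/-- `Ext`-vanishing is invariant under isomorphisms in the first variable. -/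
theorem ext_eq_zero_of_iso {X X' Y : ℬ} (e : X ≅ X') (n : ℕ)
    (h : ∀ y : Ext.{w'} X' Y n, y = 0) (x : Ext.{w'} X Y n) : x = 0 := by
  have h1 : x = (Ext.mk₀ e.hom).comp ((Ext.mk₀ e.inv).comp x (zero_add n)) (zero_add n) := by
    rw [← Ext.comp_assoc_of_second_deg_zero, Ext.mk₀_comp_mk₀, e.hom_inv_id, Ext.mk₀_id_comp]
  rw [h1, h ((Ext.mk₀ e.inv).comp x (zero_add n)), Ext.comp_zero]

/-- the class of objects `A` with `G A` acyclic for `Hom(-, F)`. -/
def T (G : 𝒜 ⥤ ℬ) (F : ℬ) (A : 𝒜) : Prop := ∀ (p : ℕ) (x : Ext.{w'} (G.obj A) F (p + 1)), x = 0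

variable (G : 𝒜 ⥤ ℬ) (H : ℬ ⥤ 𝒜) (adj : G ⊣ H) [G.Additive] [PreservesFiniteLimits G]
  [PreservesFiniteColimits G] (F : ℬ)

include adj in
theorem ext_eq_zero
    (hcov : ∀ A : 𝒜, ∃ (P : 𝒜) (π : P ⟶ A), Epi π ∧ T.{w'} G F P) :
    ∀ (p : ℕ) (A : 𝒜), T.{w'} G F A → ∀ x : Ext.{w} A (H.obj F) (p + 1), x = 0 := by
  apply AcyclicClass.ext_eq_zero (T.{w'} G F) (H.obj F)
  · -- closed under kernels of epis
    intro P A π hπ hP hA p x
    let S : ShortComplex 𝒜 := ShortComplex.mk (kernel.ι π) π (kernel.condition _)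
    have hS : S.ShortExact :=
      { exact := ShortComplex.exact_kernel _
        mono_f := inferInstanceAs (Mono (kernel.ι _))
        epi_g := hπ }
    have hS' : (S.map G).ShortExact := hS.map_of_exact G
    -- `Ext^{p+1}(G P) → Ext^{p+1}(G ker) → Ext^{p+2}(G A)`
    have h1 : hS'.extClass.comp x (by omega : 1 + (p + 1) = p + 1 + 1) = 0 := hA (p + 1) _
    obtain ⟨y, hy⟩ := Ext.contravariant_sequence_exact₁ hS' F x (by omega) h1
    have hy0 : y = 0 := hP p y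
    rw [← hy, hy0]
    exact Ext.comp_zero (Ext.mk₀ (S.map G).f) F (p + 1) (p + 1) (zero_add _)
  · exact hcov
  · -- splitting
    intro E A i g w hS hA
    let S : ShortComplex 𝒜 := ShortComplex.mk i g w
    have hS' : (S.map G).ShortExact := ShortComplex.ShortExact.map_of_exact (S := S) hS G
    let ε : G.obj (H.obj F) ⟶ F := adj.counit.app F
    have h1 : hS'.extClass.comp (Ext.mk₀ ε) (by omega : 1 + 0 = 1) = 0 := hA 0 _
    obtain ⟨y, hy⟩ := Ext.contravariant_sequence_exact₁ hS' F (Ext.mk₀ ε) (by omega) h1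
    obtain ⟨ψ, rfl⟩ := (Ext.mk₀_bijective _ _).2 y
    rw [Ext.mk₀_comp_mk₀] at hy
    have hψ : G.map i ≫ ψ = ε := (Ext.mk₀_bijective _ _).1 hy
    refine ⟨adj.homEquiv _ _ ψ, ?_⟩
    rw [← adj.homEquiv_naturality_left, hψ]
    change adj.homEquiv _ _ (adj.counit.app F) = 𝟙 _
    rw [Adjunction.homEquiv_unit]
    exact adj.right_triangle_components F

end Groth.Agent.Lib.Helper21.AcyclicAdj
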