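import Mathlib

/-!
# Helper21: abelian sheaves are the commutative group objects in sheaves of sets

`E J : Sheaf J Ab ⥤ CommGrp (Sheaf J Type)` is an equivalence, compatible with pushforward
along continuous functors. Consequence: if the pullback of sheaves of sets along a continuous
functor is exact, so is the pullback of abelian sheaves (`preservesFiniteLimits_pullAb`), and it
commutes with the forgetful functors (`pullAbΦIso`).
-/

universe u
open CategoryTheory Limits MonoidalCategory CartesianMonoidalCategory MonObj Opposite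

namespace Groth.Agent.Lib.Helper21.ShGrp
variable {C : Type u} [SmallCategory C] (J : GrothendieckTopology C)

attribute [-instance] ObjectProperty.fullMonoidalSubcategory ObjectProperty.fullBraidedSubcategory

noncomputable local instance instBraidedShSet : BraidedCategory (Sheaf J (Type u)) :=
  .ofCartesianMonoidalCategory
noncomputable local instance instCartShAb : CartesianMonoidalCategory (Sheaf J AddCommGrpCat.{u}) :=
  .ofHasFiniteProducts
noncomputable local instance instBraidedShAb : BraidedCategory (Sheaf J AddCommGrpCat.{u}) :=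
  .ofCartesianMonoidalCategory

abbrev Φ : Sheaf J AddCommGrpCat.{u} ⥤ Sheaf J (Type u) :=
  sheafCompose J (forget AddCommGrpCat.{u})

noncomputable local instance instBraidedΦ : (Φ J).Braided := .ofChosenFiniteProducts _

/-- abelian sheaves to commutative group objects in sheaves of sets. -/
noncomputable def E : Sheaf J AddCommGrpCat.{u} ⥤ CommGrp (Sheaf J (Type u)) :=
  Preadditive.toCommGrp _ ⋙ (Φ J).mapCommGrp

theorem mu_E (A : Sheaf J AddCommGrpCat.{u}) :
    μ[((E J).obj A).X] = Functor.LaxMonoidal.μ (Φ J) A A ≫ (Φ J).map (fst A A + snd A A) := rfl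

theorem eta_E (A : Sheaf J AddCommGrpCat.{u}) :
    η[((E J).obj A).X] = Functor.LaxMonoidal.ε (Φ J) ≫ (Φ J).map 0 := rfl

theorem mu_E_app (A : Sheaf J AddCommGrpCat.{u}) (U : Cᵒᵖ) (x y : A.obj.obj U) :
    (μ[((E J).obj A).X]).hom.app U ((x, y) : A.obj.obj U × A.obj.obj U) =
      (x + y : A.obj.obj U) := by
  rw [mu_E]
  have h1 : (Functor.LaxMonoidal.μ (Φ J) A A ≫ (Φ J).map (fst A A)) = fst _ _ :=
    Functor.Monoidal.μ_fst _ _ _
  have h2 : (Functor.LaxMonoidal.μ (Φ J) A A ≫ (Φ J).map (snd A A)) = snd _ _ :=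
    Functor.Monoidal.μ_snd _ _ _
  have h1' := congr_fun (congrArg (fun f => (f.hom.app U : _ → _)) h1) (x, y)
  have h2' := congr_fun (congrArg (fun f => (f.hom.app U : _ → _)) h2) (x, y)
  dsimp at h1' h2'
  change ((fst A A + snd A A).hom.app U).hom
    ((Functor.LaxMonoidal.μ (Φ J) A A).hom.app U (x, y)) = x + y
  change ((fst A A).hom.app U).hom ((Functor.LaxMonoidal.μ (Φ J) A A).hom.app U (x, y)) = x at h1'
  change ((snd A A).hom.app U).hom ((Functor.LaxMonoidal.μ (Φ J) A A).hom.app U (x, y)) = y at h2'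
  rw [Sheaf.Hom.add_app, AddCommGrpCat.hom_add, AddMonoidHom.add_apply, h1', h2']

theorem eta_E_app (A : Sheaf J AddCommGrpCat.{u}) (U : Cᵒᵖ) (p : PUnit.{u+1}) :
    (η[((E J).obj A).X]).hom.app U p = (0 : A.obj.obj U) := by
  rw [eta_E]
  change ((0 : 𝟙_ (Sheaf J AddCommGrpCat.{u}) ⟶ A).hom.app U).hom
    ((Functor.LaxMonoidal.ε (Φ J)).hom.app U p) = 0
  rfl

local instance (U : Cᵒᵖ) : PreservesFiniteLimits ((sheafSections J (Type u)).obj U) :=
  inferInstanceAs (PreservesFiniteLimits (sheafToPresheaf J (Type u) ⋙ (evaluation _ _).obj U))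

noncomputable def evL : Cᵒᵖ ⥤ (Sheaf J (Type u) ⥤ₗ Type u) :=
  ObjectProperty.lift _ (sheafSections J (Type u)) (fun U => by
    simp only [leftExactFunctor_iff]; infer_instance)

noncomputable def Npre (G : CommGrp (Sheaf J (Type u))) : Cᵒᵖ ⥤ AddCommGrpCat.{u} :=
  ((evL J ⋙ Functor.mapCommGrpFunctor).flip.obj G) ⋙ commGrpTypeEquivalenceCommGrp.functor ⋙
    commGroupAddCommGroupEquivalence.functor

noncomputable def NpreForgetIso (G : CommGrp (Sheaf J (Type u))) :
    Npre J G ⋙ forget AddCommGrpCat.{u} ≅ G.X.obj :=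
  NatIso.ofComponents (fun U => Equiv.toIso (Additive.toMul (α := G.X.obj.obj U))) (by
    intro U V f
    ext x
    rfl)

theorem isSheaf_Npre (G : CommGrp (Sheaf J (Type u))) : Presheaf.IsSheaf J (Npre J G) := by
  rw [Presheaf.isSheaf_iff_isSheaf_forget J (Npre J G) (forget AddCommGrpCat.{u})]
  exact (Presheaf.isSheaf_of_iso_iff (NpreForgetIso J G)).2 G.X.property

noncomputable def N (G : CommGrp (Sheaf J (Type u))) : Sheaf J AddCommGrpCat.{u} :=
  ⟨Npre J G, isSheaf_Npre J G⟩

noncomputable def ΦNIso (G : CommGrp (Sheaf J (Type u))) : (Φ J).obj (N J G) ≅ G.X :=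
  (fullyFaithfulSheafToPresheaf J (Type u)).preimageIso (NpreForgetIso J G)

theorem ΦNIso_hom_app (G : CommGrp (Sheaf J (Type u))) (U : Cᵒᵖ) (x : (N J G).obj.obj U) :
    (ΦNIso J G).hom.hom.app U x = Additive.toMul (α := G.X.obj.obj U) x := rfl

attribute [local instance] Functor.Braided.ofChosenFiniteProducts in
theorem mu_ev (X Y : Sheaf J (Type u)) (U : Cᵒᵖ) (a : X.obj.obj U) (b : Y.obj.obj U) :
    (Functor.LaxMonoidal.μ ((sheafSections J (Type u)).obj U) X Y)
      ((a, b) : X.obj.obj U × Y.obj.obj U) = ((a, b) : X.obj.obj U × Y.obj.obj U) := by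
  have h1 := ConcreteCategory.congr_hom (CC := fun X ↦ X)
    (Functor.Monoidal.μ_fst ((sheafSections J (Type u)).obj U) X Y)
    ((a, b) : X.obj.obj U × Y.obj.obj U)
  have h2 := ConcreteCategory.congr_hom (CC := fun X ↦ X)
    (Functor.Monoidal.μ_snd ((sheafSections J (Type u)).obj U) X Y)
    ((a, b) : X.obj.obj U × Y.obj.obj U)
  exact Prod.ext h1 h2

attribute [local instance] Functor.Braided.ofChosenFiniteProducts in
theorem add_N (G : CommGrp (Sheaf J (Type u))) (U : Cᵒᵖ) (x y : (N J G).obj.obj U) :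
    Additive.toMul (α := G.X.obj.obj U) (x + y) =
      (μ[G.X]).hom.app U ((Additive.toMul (α := G.X.obj.obj U) x,
        Additive.toMul (α := G.X.obj.obj U) y) : G.X.obj.obj U × G.X.obj.obj U) := by
  change (Functor.LaxMonoidal.μ ((sheafSections J (Type u)).obj U) G.X G.X ≫
    ((sheafSections J (Type u)).obj U).map μ[G.X])
      ((Additive.toMul (α := G.X.obj.obj U) x, Additive.toMul (α := G.X.obj.obj U) y) :
        G.X.obj.obj U × G.X.obj.obj U) = _
  change ((sheafSections J (Type u)).obj U).map μ[G.X]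
    ((Functor.LaxMonoidal.μ ((sheafSections J (Type u)).obj U) G.X G.X) _) = _
  rw [mu_ev]
  rfl

attribute [local instance] Functor.Braided.ofChosenFiniteProducts in
theorem zero_N (G : CommGrp (Sheaf J (Type u))) (U : Cᵒᵖ) :
    Additive.toMul (α := G.X.obj.obj U) (0 : (N J G).obj.obj U) =
      (η[G.X]).hom.app U (PUnit.unit : PUnit.{u+1}) := by
  change (Functor.LaxMonoidal.ε ((sheafSections J (Type u)).obj U) ≫
    ((sheafSections J (Type u)).obj U).map η[G.X]) (PUnit.unit : PUnit.{u+1}) = _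
  rfl

theorem tensorHom_app {X X' Y Y' : Sheaf J (Type u)} (f : X ⟶ X') (g : Y ⟶ Y') (U : Cᵒᵖ)
    (a : X.obj.obj U) (b : Y.obj.obj U) :
    (f ⊗ₘ g).hom.app U ((a, b) : X.obj.obj U × Y.obj.obj U) =
      ((f.hom.app U a, g.hom.app U b) : X'.obj.obj U × Y'.obj.obj U) := rfl

noncomputable def ENIso (G : CommGrp (Sheaf J (Type u))) : (E J).obj (N J G) ≅ G :=
  CommGrp.mkIso (ΦNIso J G)
    (by
      apply Sheaf.hom_ext
      ext U p
      change (ΦNIso J G).hom.hom.app U ((η[((E J).obj (N J G)).X]).hom.app U p) = _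
      rw [eta_E_app, ΦNIso_hom_app, zero_N]
      rfl)
    (by
      apply Sheaf.hom_ext
      ext U ⟨x, y⟩
      change (ΦNIso J G).hom.hom.app U ((μ[((E J).obj (N J G)).X]).hom.app U (x, y)) =
        (μ[G.X]).hom.app U (((ΦNIso J G).hom ⊗ₘ (ΦNIso J G).hom).hom.app U (x, y))
      have h1 := mu_E_app J (N J G) U x y
      have h2 := add_N J G U x y
      have h3 := tensorHom_app J (ΦNIso J G).hom (ΦNIso J G).hom U x y
      exact (congrArg ((ΦNIso J G).hom.hom.app U) h1).trans
        (h2.trans (congrArg ((μ[G.X]).hom.app U) h3.symm)))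

instance : (E J).EssSurj := ⟨fun G => ⟨N J G, ⟨ENIso J G⟩⟩⟩

theorem E_map_hom {A B : Sheaf J AddCommGrpCat.{u}} (f : A ⟶ B) :
    ((E J).map f).hom.hom.hom = (Φ J).map f := rfl

instance : (E J).Faithful where
  map_injective {A B} f g h := by
    have h1 : (Φ J).map f = (Φ J).map g := by
      rw [← E_map_hom, ← E_map_hom, h]
    exact (Φ J).map_injective h1

instance : (E J).Full where
  map_surjective {A B} f := by
    let φ : (Φ J).obj A ⟶ (Φ J).obj B := f.hom.hom.hom
    have hmul : μ[((E J).obj A).X] ≫ φ = (φ ⊗ₘ φ) ≫ μ[((E J).obj B).X] :=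
      IsMonHom.mul_hom (f := f.hom.hom.hom)
    let ψ : ∀ U : Cᵒᵖ, A.obj.obj U → B.obj.obj U := fun U x => φ.hom.app U x
    have hadd : ∀ (U : Cᵒᵖ) (x y : A.obj.obj U), ψ U (x + y) = ψ U x + ψ U y := by
      intro U x y
      have h0 := ConcreteCategory.congr_hom (CC := fun X ↦ X)
        (congr_app (congrArg (fun g => g.hom) hmul) U)
        ((x, y) : A.obj.obj U × A.obj.obj U)
      have h1 := mu_E_app J A U x y
      have h2 := mu_E_app J B U (φ.hom.app U x) (φ.hom.app U y)
      have h3 := tensorHom_app J φ φ U x y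
      exact (congrArg (φ.hom.app U) h1).symm.trans
        (h0.trans ((congrArg ((μ[((E J).obj B).X]).hom.app U) h3).trans h2))
    refine ⟨⟨{ app := fun U => AddCommGrpCat.ofHom (AddMonoidHom.mk' (ψ U) (hadd U))
               naturality := ?_ }⟩, ?_⟩
    · intro U V g
      ext x
      exact ConcreteCategory.congr_hom (CC := fun X ↦ X) (φ.hom.naturality g) x
    · apply CommGrp.hom_ext
      rfl

instance : (E J).IsEquivalence where

theorem E_forget : E J ⋙ CommGrp.forget _ = Φ J := rfl

section Pull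

variable {D : Type u} [SmallCategory D] (K : GrothendieckTopology D) (u : D ⥤ C)
  [u.IsContinuous K J]

abbrev Q : Sheaf J (Type u) ⥤ Sheaf K (Type u) := u.sheafPushforwardContinuous (Type u) K J
noncomputable abbrev P : Sheaf K (Type u) ⥤ Sheaf J (Type u) := u.sheafPullback (Type u) K J
abbrev pushAb : Sheaf J AddCommGrpCat.{u} ⥤ Sheaf K AddCommGrpCat.{u} :=
  u.sheafPushforwardContinuous AddCommGrpCat.{u} K J
noncomputable abbrev pullAb : Sheaf K AddCommGrpCat.{u} ⥤ Sheaf J AddCommGrpCat.{u} :=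
  u.sheafPullback AddCommGrpCat.{u} K J

local instance : PreservesLimitsOfSize.{0, 0} (Q J K u) :=
  (u.sheafAdjunctionContinuous (Type u) K J).rightAdjoint_preservesLimits

noncomputable local instance instBraidedQ : (Q J K u).Braided := .ofChosenFiniteProducts _

theorem mu_Q_app (X Y : Sheaf J (Type u)) (V : Dᵒᵖ) (a : X.obj.obj (u.op.obj V))
    (b : Y.obj.obj (u.op.obj V)) :
    (Functor.LaxMonoidal.μ (Q J K u) X Y).hom.app V
      ((a, b) : X.obj.obj (u.op.obj V) × Y.obj.obj (u.op.obj V)) =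
      ((a, b) : X.obj.obj (u.op.obj V) × Y.obj.obj (u.op.obj V)) := by
  have h1 := ConcreteCategory.congr_hom (CC := fun X ↦ X)
    (congr_app (congrArg (fun g => g.hom) (Functor.Monoidal.μ_fst (Q J K u) X Y)) V)
    ((a, b) : X.obj.obj (u.op.obj V) × Y.obj.obj (u.op.obj V))
  have h2 := ConcreteCategory.congr_hom (CC := fun X ↦ X)
    (congr_app (congrArg (fun g => g.hom) (Functor.Monoidal.μ_snd (Q J K u) X Y)) V)
    ((a, b) : X.obj.obj (u.op.obj V) × Y.obj.obj (u.op.obj V))
  exact Prod.ext h1 h2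

theorem mu_QE_app (A : Sheaf J AddCommGrpCat.{u}) (V : Dᵒᵖ) (x y : A.obj.obj (u.op.obj V)) :
    (μ[((Q J K u).mapCommGrp.obj ((E J).obj A)).X]).hom.app V
      ((x, y) : A.obj.obj (u.op.obj V) × A.obj.obj (u.op.obj V)) =
      (x + y : A.obj.obj (u.op.obj V)) := by
  change ((Q J K u).map μ[((E J).obj A).X]).hom.app V
    ((Functor.LaxMonoidal.μ (Q J K u) _ _).hom.app V
      ((x, y) : A.obj.obj (u.op.obj V) × A.obj.obj (u.op.obj V))) = _
  exact (congrArg (((Q J K u).map μ[((E J).obj A).X]).hom.app V)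
    (mu_Q_app J K u ((E J).obj A).X ((E J).obj A).X V x y)).trans
    (mu_E_app J A (u.op.obj V) x y)

/-- compatibility of `E` with pushforward. -/
noncomputable def pushCompat :
    pushAb J K u ⋙ E K ≅ E J ⋙ (Q J K u).mapCommGrp :=
  NatIso.ofComponents (fun A => CommGrp.mkIso (Iso.refl _)
    (by
      apply Sheaf.hom_ext
      ext V p
      rfl)
    (by
      apply Sheaf.hom_ext
      ext V ⟨x, y⟩
      have h1 := mu_E_app K ((pushAb J K u).obj A) V x y
      have h2 := mu_QE_app J K u A V x y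
      exact h1.trans h2.symm))
    (by
      intro A B f
      apply CommGrp.hom_ext
      rfl)

variable [hu : PreservesFiniteLimits (P J K u)]

noncomputable local instance instBraidedP : (P J K u).Braided := .ofChosenFiniteProducts _

/-- the candidate left adjoint. -/
noncomputable abbrev L : Sheaf K AddCommGrpCat.{u} ⥤ Sheaf J AddCommGrpCat.{u} :=
  (E K).asEquivalence.functor ⋙ (P J K u).mapCommGrp ⋙ (E J).asEquivalence.inverse

noncomputable abbrev R : Sheaf J AddCommGrpCat.{u} ⥤ Sheaf K AddCommGrpCat.{u} :=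
  (E J).asEquivalence.functor ⋙ (Q J K u).mapCommGrp ⋙ (E K).asEquivalence.inverse

noncomputable def adjLR : L J K u ⊣ R J K u :=
  ((E K).asEquivalence.toAdjunction.comp
    ((u.sheafAdjunctionContinuous (Type u) K J).mapCommGrp)).comp
    (E J).asEquivalence.symm.toAdjunction

noncomputable def RIso : R J K u ≅ pushAb J K u :=
  (Functor.associator _ _ _).symm ≪≫
    Functor.isoWhiskerRight (pushCompat J K u).symm (E K).asEquivalence.inverse ≪≫
    Functor.associator _ _ _ ≪≫
    Functor.isoWhiskerLeft (pushAb J K u) (E K).asEquivalence.unitIso.symm ≪≫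
    Functor.rightUnitor _

noncomputable def LIso : L J K u ≅ pullAb J K u :=
  ((adjLR J K u).ofNatIsoRight (RIso J K u)).leftAdjointUniq
    (u.sheafAdjunctionContinuous AddCommGrpCat.{u} K J)

noncomputable def LΦIso : L J K u ⋙ Φ J ≅ Φ K ⋙ P J K u :=
  Functor.isoWhiskerLeft ((E K).asEquivalence.functor ⋙ (P J K u).mapCommGrp)
    (Functor.isoWhiskerLeft (E J).asEquivalence.inverse (Iso.refl (E J ⋙ CommGrp.forget _)) ≪≫
      (Functor.associator _ _ _).symm ≪≫
      Functor.isoWhiskerRight (E J).asEquivalence.counitIso (CommGrp.forget _) ≪≫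
      Functor.leftUnitor _) ≪≫ Iso.refl _

theorem preservesFiniteLimits_pullAb : PreservesFiniteLimits (pullAb J K u) := by
  have : PreservesFiniteLimits (Φ K ⋙ P J K u) := comp_preservesFiniteLimits _ _
  have : PreservesFiniteLimits (L J K u ⋙ Φ J) :=
    preservesFiniteLimits_of_natIso (LΦIso J K u).symm
  have : (Φ J).ReflectsIsomorphisms := inferInstance
  have : PreservesFiniteLimits (L J K u) :=
    ⟨fun I _ _ => by
      have : ReflectsLimitsOfShape I (Φ J) := reflectsLimitsOfShape_of_reflectsIsomorphisms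
      exact preservesLimitsOfShape_of_reflects_of_preserves (L J K u) (Φ J)⟩
  exact preservesFiniteLimits_of_natIso (LIso J K u)

/-- the underlying sheaf of sets of the pullback of an abelian sheaf is the pullback of
the underlying sheaf of sets (when the pullback of sheaves of sets is exact). -/
noncomputable def pullAbΦIso : pullAb J K u ⋙ Φ J ≅ Φ K ⋙ P J K u :=
  Functor.isoWhiskerRight (LIso J K u).symm (Φ J) ≪≫ LΦIso J K u

end Pull

end Groth.Agent.Lib.Helper21.ShGrp
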