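import Mathlib
import Groth.Prelude.Def_CohSite
import Groth.Prelude.Def_CohCx
import Groth.Prelude.Def_FreeSh
import Groth.Agent.Lib.Helper21ShGrp
import Groth.Agent.Lib.Helper21AcyclicAdj

/-!
# Helper21: direct images along a morphism of topoi of sheaves acyclic on all objects

* `ext_sigma_eq_zero` : `Ext^{p+1}(∐ X_i, Y) = 0` if all `Ext^{p+1}(X_i, Y) = 0` (enough injectives);
* `cover A` : the epimorphism `∐_{(V, a)} ℤ_V ⟶ A`;
* `pullFreeSheafIso` : `u⁻¹ ℤ_V ≅ ℤ_{u V}`;
* `subsingleton_HU_push` : if `H^{q+1}(U, F) = 0` for all objects `U`, then `H^{q+1}(V, u_* F) = 0`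
  (`u⁻¹` exact on sheaves of sets).
-/

universe w v' u' u
open CategoryTheory Limits Abelian Opposite

namespace Groth.Agent.Lib.Helper21.PushAcyc

section ExtSigma

variable {𝒜 : Type u'} [Category.{v'} 𝒜] [Abelian 𝒜] [HasExt.{w} 𝒜] [EnoughInjectives 𝒜]

theorem ext_sigma_eq_zero {ι : Type*} (X : ι → 𝒜) [HasCoproduct X] :
    ∀ (p : ℕ) (Y : 𝒜), (∀ i (x : Ext.{w} (X i) Y (p + 1)), x = 0) →
      ∀ x : Ext.{w} (∐ X) Y (p + 1), x = 0 := by
  intro p
  induction p with
  | zero =>
    intro Y h x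
    let S : ShortComplex 𝒜 := ShortComplex.mk (Injective.ι Y) (cokernel.π (Injective.ι Y))
      (cokernel.condition _)
    have hS : S.ShortExact :=
      { exact := ShortComplex.exact_cokernel _
        mono_f := inferInstanceAs (Mono (Injective.ι Y))
        epi_g := inferInstanceAs (Epi (cokernel.π _)) }
    haveI : Injective S.X₂ := inferInstanceAs (Injective (Injective.under Y))
    obtain ⟨x₃, hx₃⟩ := Ext.covariant_sequence_exact₁ (∐ X) hS x
      (Ext.eq_zero_of_injective _) (rfl : 0 + 1 = 1)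
    obtain ⟨f, rfl⟩ := (Ext.mk₀_bijective _ _).2 x₃
    have hl : ∀ i, ∃ g : X i ⟶ S.X₂, g ≫ S.g = Sigma.ι X i ≫ f := by
      intro i
      obtain ⟨y, hy⟩ := Ext.covariant_sequence_exact₃ (X i) hS (Ext.mk₀ (Sigma.ι X i ≫ f))
        (rfl : 0 + 1 = 1) (h i _)
      obtain ⟨g, rfl⟩ := (Ext.mk₀_bijective _ _).2 y
      rw [Ext.mk₀_comp_mk₀] at hy
      exact ⟨g, (Ext.mk₀_bijective _ _).1 hy⟩
    choose g hg using hl
    have hG : Sigma.desc g ≫ S.g = f := by
      apply Sigma.hom_ext
      intro i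
      rw [Sigma.ι_desc_assoc, hg]
    rw [← hx₃, ← hG, ← Ext.mk₀_comp_mk₀, Ext.comp_assoc_of_second_deg_zero,
      hS.comp_extClass, Ext.comp_zero]
  | succ p ih =>
    intro Y h x
    let S : ShortComplex 𝒜 := ShortComplex.mk (Injective.ι Y) (cokernel.π (Injective.ι Y))
      (cokernel.condition _)
    have hS : S.ShortExact :=
      { exact := ShortComplex.exact_cokernel _
        mono_f := inferInstanceAs (Mono (Injective.ι Y))
        epi_g := inferInstanceAs (Epi (cokernel.π _)) }
    haveI : Injective S.X₂ := inferInstanceAs (Injective (Injective.under Y))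
    obtain ⟨x₃, hx₃⟩ := Ext.covariant_sequence_exact₁ (∐ X) hS x
      (Ext.eq_zero_of_injective _) (rfl : (p + 1) + 1 = p + 1 + 1)
    have hQ : ∀ i (y : Ext.{w} (X i) S.X₃ (p + 1)), y = 0 := by
      intro i y
      obtain ⟨y₂, hy₂⟩ := Ext.covariant_sequence_exact₃ (X i) hS y
        (rfl : (p + 1) + 1 = p + 1 + 1) (h i _)
      rw [← hy₂, Ext.eq_zero_of_injective y₂, Ext.zero_comp]
    rw [← hx₃, ih S.X₃ hQ x₃, Ext.zero_comp]

end ExtSigma

section Cover

variable {D : Type u} [SmallCategory D] (K : GrothendieckTopology D)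

theorem ofSect_comp {G G' : Sheaf K AddCommGrpCat.{u}} (a : G ⟶ G') (W : D)
    (s : G.obj.obj (op W)) :
    CohFree.ofSect K W G s ≫ a = CohFree.ofSect K W G' ((a.hom.app (op W)).hom s) := by
  apply (CohFree.homEquivSect K W G').injective
  rw [CohFree.homEquivSect_apply, CohFree.homEquivSect_apply, CohFree.evalGen_ofSect]
  change (a.hom.app (op W)).hom (CohFree.evalGen K W G (CohFree.ofSect K W G s)) = _
  rw [CohFree.evalGen_ofSect]

theorem evalGen_comp {G G' : Sheaf K AddCommGrpCat.{u}} (a : G ⟶ G') (W : D)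
    (φ : CohCx.freeSheaf K W ⟶ G) :
    CohFree.evalGen K W G' (φ ≫ a) = (a.hom.app (op W)).hom (CohFree.evalGen K W G φ) := rfl

/-- index set of all sections of `A`. -/
abbrev Idx (A : Sheaf K AddCommGrpCat.{u}) : Type u := Σ V : D, A.obj.obj (op V)

/-- the canonical epimorphism from a coproduct of free sheaves on objects. -/
noncomputable def cover (A : Sheaf K AddCommGrpCat.{u}) :
    (∐ fun i : Idx K A => CohCx.freeSheaf K i.1) ⟶ A :=
  Sigma.desc (fun i => CohFree.ofSect K i.1 A i.2)

instance epi_cover (A : Sheaf K AddCommGrpCat.{u}) : Epi (cover K A) := by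
  constructor
  intro B g h hgh
  apply Sheaf.hom_ext
  ext V x
  have h1 := congrArg (fun t => Sigma.ι (fun i : Idx K A => CohCx.freeSheaf K i.1)
    ⟨V.unop, x⟩ ≫ t) hgh
  simp only [cover, Sigma.ι_desc_assoc] at h1
  have h2 := congrArg (CohFree.evalGen K V.unop B) h1
  rw [evalGen_comp, evalGen_comp, CohFree.evalGen_ofSect] at h2
  exact h2

end Cover

section Pull

variable {C D : Type u} [SmallCategory C] [SmallCategory D]
    (J : GrothendieckTopology C) (K : GrothendieckTopology D) (u : D ⥤ C)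
    [u.IsContinuous K J]

/-- inverse image of abelian sheaves. -/
noncomputable abbrev pull : Sheaf K AddCommGrpCat.{u} ⥤ Sheaf J AddCommGrpCat.{u} :=
  u.sheafPullback AddCommGrpCat.{u} K J

/-- `u⁻¹ ⊣ u_*`. -/
noncomputable def adjP : pull J K u ⊣ CohSite.push J K u :=
  u.sheafAdjunctionContinuous AddCommGrpCat.{u} K J

/-- `u⁻¹ ℤ_V ≅ ℤ_{u V}`. -/
noncomputable def pullFreeSheafIso (V : D) :
    (pull J K u).obj (CohCx.freeSheaf K V) ≅ CohCx.freeSheaf J (u.obj V) :=
  Coyoneda.ext _ _
    (fun {G} φ => CohFree.ofSect J (u.obj V) G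
      (CohFree.evalGen K V ((CohSite.push J K u).obj G) ((adjP J K u).homEquiv _ _ φ)))
    (fun {G} ψ => ((adjP J K u).homEquiv _ _).symm
      (CohFree.ofSect K V ((CohSite.push J K u).obj G) (CohFree.evalGen J (u.obj V) G ψ)))
    (fun {G} φ => by
      rw [CohFree.evalGen_ofSect]
      have := CohFree.ofSect_evalGen K V ((CohSite.push J K u).obj G)
        ((adjP J K u).homEquiv _ _ φ)
      rw [this, Equiv.symm_apply_apply])
    (fun {G} ψ => by
      rw [Equiv.apply_symm_apply, CohFree.evalGen_ofSect]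
      exact CohFree.ofSect_evalGen J (u.obj V) G ψ)
    (fun {G G'} ψ a => by
      rw [← Adjunction.homEquiv_naturality_right_symm, ofSect_comp]
      rfl)

variable [PreservesFiniteLimits (u.sheafPullback (Type u) K J)]

instance pull_additive : (pull J K u).Additive := (adjP J K u).left_adjoint_additive

instance pull_preservesFiniteLimits : PreservesFiniteLimits (pull J K u) :=
  ShGrp.preservesFiniteLimits_pullAb J K u

instance pull_preservesFiniteColimits : PreservesFiniteColimits (pull J K u) :=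
  haveI : PreservesColimitsOfSize.{0, 0} (pull J K u) :=
    (adjP J K u).leftAdjoint_preservesColimits
  PreservesColimitsOfSize.preservesFiniteColimits.{0, 0} _

instance pull_preservesMonomorphisms : (pull J K u).PreservesMonomorphisms :=
  preservesMonomorphisms_of_preservesLimitsOfShape _

/-- direct images preserve injective objects (when `u⁻¹` is exact). -/
instance push_preservesInjectiveObjects : (CohSite.push J K u).PreservesInjectiveObjects :=
  Functor.preservesInjectiveObjects_of_adjunction_of_preservesMonomorphisms (adjP J K u)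

/-- if `H^{q+1}(U, F) = 0` for all objects `U`, then `Ext^{q+1}(A, u_* F) = 0` for all `A` such
that `u⁻¹ A` is `F`-acyclic. -/
theorem ext_push_eq_zero (F : Sheaf J AddCommGrpCat.{u})
    (hF : ∀ (U : C) (q : ℕ), Subsingleton (CohSite.HU F (q + 1) U)) (q : ℕ)
    (A : Sheaf K AddCommGrpCat.{u}) (hA : AcyclicAdj.T.{u} (pull J K u) F A)
    (x : Ext.{u} A ((CohSite.push J K u).obj F) (q + 1)) : x = 0 := by
  have hF' : ∀ (U : C) (q : ℕ) (x : Ext.{u} (CohCx.freeSheaf J U) F (q + 1)), x = 0 :=
    fun U q x => by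
      haveI := hF U q
      exact Subsingleton.elim (α := CohSite.HU F (q + 1) U) x 0
  have hT1 : ∀ V : D, AcyclicAdj.T.{u} (pull J K u) F (CohCx.freeSheaf K V) := by
    intro V p x
    exact AcyclicAdj.ext_eq_zero_of_iso (pullFreeSheafIso J K u V) (p + 1) (hF' (u.obj V) p) x
  have hT2 : ∀ A : Sheaf K AddCommGrpCat.{u},
      AcyclicAdj.T.{u} (pull J K u) F (∐ fun i : Idx K A => CohCx.freeSheaf K i.1) := by
    intro A p x
    haveI : PreservesColimitsOfSize.{u, u} (pull J K u) :=
      (adjP J K u).leftAdjoint_preservesColimits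
    let e := PreservesCoproduct.iso (pull J K u) (fun i : Idx K A => CohCx.freeSheaf K i.1)
    refine AcyclicAdj.ext_eq_zero_of_iso e (p + 1) ?_ x
    exact ext_sigma_eq_zero _ p F (fun i y => hT1 i.1 p y)
  exact AcyclicAdj.ext_eq_zero.{u, u} (pull J K u) (CohSite.push J K u) (adjP J K u) F
    (fun A => ⟨_, cover K A, inferInstance, hT2 A⟩) q A hA x

theorem T_freeSheaf (F : Sheaf J AddCommGrpCat.{u})
    (hF : ∀ (U : C) (q : ℕ), Subsingleton (CohSite.HU F (q + 1) U)) (V : D) :
    AcyclicAdj.T.{u} (pull J K u) F (CohCx.freeSheaf K V) := by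
  intro p x
  refine AcyclicAdj.ext_eq_zero_of_iso (pullFreeSheafIso J K u V) (p + 1) ?_ x
  intro y
  haveI := hF (u.obj V) p
  exact Subsingleton.elim (α := CohSite.HU F (p + 1) (u.obj V)) y 0

theorem subsingleton_HU_push (F : Sheaf J AddCommGrpCat.{u})
    (hF : ∀ (U : C) (q : ℕ), Subsingleton (CohSite.HU F (q + 1) U)) (V : D) (q : ℕ) :
    Subsingleton (CohSite.HU ((CohSite.push J K u).obj F) (q + 1) V) := by
  have key := ext_push_eq_zero J K u F hF q (CohCx.freeSheaf K V) (T_freeSheaf J K u F hF V)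
  constructor
  intro x y
  exact (key x).trans (key y).symm

end Pull

end Groth.Agent.Lib.Helper21.PushAcyc
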