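import Mathlib
import Groth.Prelude.Def_Coh
import Groth.Prelude.Def_CohSite
import Groth.Agent.Lib.Helper21PushAcyc

/-!
# Helper17: inverse image of the constant sheaf `ℤ` along a continuous map, and exactness of the
inverse image of sheaves of sets (needed to feed `Helper21.LeraySS.leray_general` with a morphism of
schemes).
-/

set_option autoImplicit false
universe u
open CategoryTheory Limits AlgebraicGeometry TopologicalSpace Opposite

namespace Groth.Agent.Lib.Helper17.LerayTop

open Groth.Agent.Lib.Helper21.PushAcyc

/-- `Ext` is invariant under isomorphisms in the first variable. -/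
noncomputable def extIsoLeft {𝒜 : Type*} [Category 𝒜] [Abelian 𝒜] [HasExt.{u} 𝒜] {X X' : 𝒜}
    (e : X ≅ X') (Y : 𝒜) (n : ℕ) :
    AddCommGrpCat.of (Abelian.Ext.{u} X Y n) ≅ AddCommGrpCat.of (Abelian.Ext.{u} X' Y n) :=
  ((Abelian.extFunctor.{u} n).mapIso e.symm.op).app Y

/-- `Ext` is invariant under isomorphisms in the second variable. -/
noncomputable def extIsoRight {𝒜 : Type*} [Category 𝒜] [Abelian 𝒜] [HasExt.{u} 𝒜] (X : 𝒜)
    {Y Y' : 𝒜} (e : Y ≅ Y') (n : ℕ) :
    AddCommGrpCat.of (Abelian.Ext.{u} X Y n) ≅ AddCommGrpCat.of (Abelian.Ext.{u} X Y' n) :=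
  ((Abelian.extFunctor.{u} n).obj (op X)).mapIso e

variable {X S : TopCat.{u}} (f : X ⟶ S)

/-- The inverse image of sheaves of sets along a continuous map is left exact. -/
noncomputable instance preservesFiniteLimits_sheafPullback :
    PreservesFiniteLimits ((Opens.map f).sheafPullback (Type u) (Opens.grothendieckTopology S)
      (Opens.grothendieckTopology X)) := by
  apply CategoryTheory.Functor.SmallCategories.instPreservesFiniteLimitsSheafSheafPullbackOfRepresentablyFlat

/-- the constant sheaf `ℤ`. -/
noncomputable abbrev Zc (X : TopCat.{u}) : Sheaf (Opens.grothendieckTopology X) AddCommGrpCat.{u} :=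
  (constantSheaf (Opens.grothendieckTopology X) AddCommGrpCat.{u}).obj (AddCommGrpCat.of (ULift.{u} ℤ))

/-- global sections of the direct image are global sections. -/
noncomputable def pushSectionsIso :
    CohSite.push (Opens.grothendieckTopology X) (Opens.grothendieckTopology S) (Opens.map f) ⋙
        (sheafSections (Opens.grothendieckTopology S) AddCommGrpCat.{u}).obj (op ⊤) ≅
      (sheafSections (Opens.grothendieckTopology X) AddCommGrpCat.{u}).obj (op ⊤) :=
  NatIso.ofComponents (fun F => Iso.refl _) (by intro F G φ; rfl)

/-- `f⁻¹` of a constant sheaf is the constant sheaf. -/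
noncomputable def pullConstIso :
    constantSheaf (Opens.grothendieckTopology S) AddCommGrpCat.{u} ⋙
        pull (Opens.grothendieckTopology X) (Opens.grothendieckTopology S) (Opens.map f) ≅
      constantSheaf (Opens.grothendieckTopology X) AddCommGrpCat.{u} :=
  Adjunction.leftAdjointUniq
    (((constantSheafAdj (Opens.grothendieckTopology S) AddCommGrpCat.{u} isTerminalTop).comp
      (adjP (Opens.grothendieckTopology X) (Opens.grothendieckTopology S) (Opens.map f))).ofNatIsoRight
        (pushSectionsIso f))
    (constantSheafAdj (Opens.grothendieckTopology X) AddCommGrpCat.{u} isTerminalTop)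

/-- `f⁻¹ ℤ ≅ ℤ`. -/
noncomputable def pullZcIso :
    (pull (Opens.grothendieckTopology X) (Opens.grothendieckTopology S) (Opens.map f)).obj (Zc S) ≅
      Zc X :=
  (pullConstIso f).app _

end Groth.Agent.Lib.Helper17.LerayTop
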