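import Groth.Agent.Lib.Helper17ExtAct
import Groth.Agent.Lib.Helper17LerayTop
import Groth.Agent.Lib.Helper23AffOpen2
import Groth.Agent.Lib.Helper23AffVanish7
import Groth.Agent.S0015

/-!
# Flat base change for the cohomology of quasi-coherent modules: the comparison data (helper17)
-/

set_option autoImplicit false
universe u
open CategoryTheory Limits AlgebraicGeometry TopologicalSpace Opposite

namespace Groth.Agent.Lib.Helper17.FBC

open Groth.Agent.Lib.Helper17.ExtAct Groth.Agent.Lib.Helper21.PushAcyc
  Groth.Agent.Lib.Helper17.LerayTop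

section Act

variable {A : Type u} [CommRing A] {X : Scheme.{u}} (f : X ⟶ Spec (CommRingCat.of A))
  (M : X.Modules)

/-- the action of `A` on the underlying abelian sheaf of an `O_X`-module, `X` over `Spec A`. -/
noncomputable def actOf : Act A (Coh.toAb M) where
  act a := Coh.smulAb M (Coh.toGlobal f a)
  act_one := by rw [map_one, Coh.smulAb_one]
  act_mul r s := by rw [map_mul, Coh.smulAb_mul]
  act_add r s := by rw [map_add, Coh.smulAb_add]
  act_zero := by rw [map_zero, Coh.smulAb_zero]

end Act

section HH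

variable (A : Type u) [CommRing A] (X : Scheme.{u}) [X.Over (Spec (CommRingCat.of A))]
  (M : X.Modules)

/-- `EE` on the constant sheaf is `Coh.HH` with its canonical module structure. -/
noncomputable def eeEquivHH (n : ℕ) :
    EE (actOf (X ↘ Spec (CommRingCat.of A)) M) (Zc (TopCat.of X)) n ≃ₗ[A] Coh.HH X M n where
  toFun x := x
  invFun x := x
  left_inv _ := rfl
  right_inv _ := rfl
  map_add' _ _ := rfl
  map_smul' _ _ := rfl

end HH

section Cmp

variable {A B : Type u} [CommRing A] [CommRing B] [Algebra A B] {X X' : Scheme.{u}}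
  (f : X ⟶ Spec (CommRingCat.of A)) (f' : X' ⟶ Spec (CommRingCat.of B)) (g' : X' ⟶ X)

/-- inverse image of abelian sheaves along `g'`. -/
noncomputable abbrev pullF :
    Sheaf (Opens.grothendieckTopology X) AddCommGrpCat.{u} ⥤
      Sheaf (Opens.grothendieckTopology X') AddCommGrpCat.{u} :=
  pull (Opens.grothendieckTopology X') (Opens.grothendieckTopology X) (Opens.map g'.base)

noncomputable instance : PreservesFiniteLimits (pullF g') :=
  pull_preservesFiniteLimits _ _ _

noncomputable instance : PreservesFiniteColimits (pullF g') :=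
  pull_preservesFiniteColimits _ _ _

instance : (pullF g').Additive := pull_additive _ _ _

variable (M : X.Modules)

/-- the unit `M ⟶ g'_* g'^* M` on underlying abelian sheaves. -/
noncomputable def unitAb : Coh.toAb M ⟶
    (CohSite.push (Opens.grothendieckTopology X') (Opens.grothendieckTopology X)
      (Opens.map g'.base)).obj (Coh.toAb ((Scheme.Modules.pullback g').obj M)) :=
  (SheafOfModules.toSheaf X.ringCatSheaf).map
    ((Scheme.Modules.pullbackPushforwardAdjunction g').unit.app M)

/-- the comparison morphism `g'⁻¹ M ⟶ g'^* M` of abelian sheaves. -/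
noncomputable def kappa : (pullF g').obj (Coh.toAb M) ⟶
    Coh.toAb ((Scheme.Modules.pullback g').obj M) :=
  ((adjP (Opens.grothendieckTopology X') (Opens.grothendieckTopology X)
    (Opens.map g'.base)).homEquiv _ _).symm (unitAb g' M)

/-- the ring map on sections induced by `g'`, in the form used by the module structures. -/
theorem ringMap_resTop (U : (Opens X)ᵒᵖ) (r : Coh.Γtop X) :
    (g'.toRingCatSheafHom.hom.app U).hom (Coh.resTop X U r) =
      Coh.resTop X' ((Opens.map g'.base).op.obj U)
        ((g'.toRingCatSheafHom.hom.app (op ⊤)).hom r) := by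
  have h := g'.toRingCatSheafHom.hom.naturality (homOfLE (le_top (a := U.unop))).op
  exact ConcreteCategory.congr_hom h r

include f f' in
theorem ringMap_toGlobal
    (hw : g' ≫ f = f' ≫ Spec.map (CommRingCat.ofHom (algebraMap A B))) (a : A) :
    (g'.toRingCatSheafHom.hom.app (op ⊤)).hom (Coh.toGlobal f a) =
      Coh.toGlobal f' (algebraMap A B a) := by
  have h1 : f.appTop ≫ g'.appTop =
      (Spec.map (CommRingCat.ofHom (algebraMap A B))).appTop ≫ f'.appTop := by
    rw [← Scheme.Hom.comp_appTop, ← Scheme.Hom.comp_appTop, hw]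
  have h2 := Scheme.ΓSpecIso_inv_naturality (CommRingCat.ofHom (algebraMap A B))
  have e1 := ConcreteCategory.congr_hom h1 ((Scheme.ΓSpecIso (CommRingCat.of A)).inv.hom a)
  have e2 := ConcreteCategory.congr_hom h2 a
  change g'.appTop.hom (f.appTop.hom ((Scheme.ΓSpecIso (CommRingCat.of A)).inv.hom a)) =
    f'.appTop.hom ((Scheme.ΓSpecIso (CommRingCat.of B)).inv.hom (algebraMap A B a))
  refine e1.trans ?_
  exact congrArg f'.appTop.hom e2.symm

include f f' in
theorem unitAb_smul
    (hw : g' ≫ f = f' ≫ Spec.map (CommRingCat.ofHom (algebraMap A B))) (a : A) :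
    Coh.smulAb M (Coh.toGlobal f a) ≫ unitAb g' M =
      unitAb g' M ≫ (CohSite.push (Opens.grothendieckTopology X') (Opens.grothendieckTopology X)
        (Opens.map g'.base)).map
          (Coh.smulAb ((Scheme.Modules.pullback g').obj M)
            (Coh.toGlobal f' (algebraMap A B a))) := by
  ext U m
  change (((Scheme.Modules.pullbackPushforwardAdjunction g').unit.app M).val.app U).hom
      ((Coh.smulAb M (Coh.toGlobal f a)).hom.app U m) =
    (Coh.smulAb ((Scheme.Modules.pullback g').obj M)
      (Coh.toGlobal f' (algebraMap A B a))).hom.app ((Opens.map g'.base).op.obj U)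
        ((((Scheme.Modules.pullbackPushforwardAdjunction g').unit.app M).val.app U).hom m)
  rw [Coh.smulAb_app, Coh.smulAb_app, ← ringMap_toGlobal f f' g' hw a, ← ringMap_resTop]
  exact ((((Scheme.Modules.pullbackPushforwardAdjunction g').unit.app M).val.app U).hom.map_smul
    (Coh.resTop X U (Coh.toGlobal f a)) m)

/-- the comparison data for base change of cohomology along `g'`. -/
noncomputable def cmp
    (hw : g' ≫ f = f' ≫ Spec.map (CommRingCat.ofHom (algebraMap A B))) :
    Cmp (pullF g') A B (Coh.toAb M) (Coh.toAb ((Scheme.Modules.pullback g').obj M)) where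
  α := actOf f M
  α' := actOf f' ((Scheme.Modules.pullback g').obj M)
  κ := kappa g' M
  compat a := by
    apply ((adjP (Opens.grothendieckTopology X') (Opens.grothendieckTopology X)
      (Opens.map g'.base)).homEquiv _ _).injective
    rw [Adjunction.homEquiv_naturality_left, Adjunction.homEquiv_naturality_right]
    unfold kappa
    rw [Equiv.apply_symm_apply]
    exact unitAb_smul f f' g' M hw a

end Cmp

section Induction

open Groth.Agent.Lib.Helper23.AffVanish

variable {A B : Type u} [CommRing A] [CommRing B] [Algebra A B] [Module.Flat A B]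
  {X X' : Scheme.{u}} (g' : X' ⟶ X) {F : Sheaf (Opens.grothendieckTopology X) AddCommGrpCat.{u}}
  {G : Sheaf (Opens.grothendieckTopology X') AddCommGrpCat.{u}} (c : Cmp (pullF g') A B F G)

/-- the Mayer–Vietoris step. -/
theorem good_sup (U V : X.Opens) (hU : Good c (ZU U)) (hV : Good c (ZU V))
    (hUV : Good c (ZU (U ⊓ V))) : Good c (ZU (U ⊔ V)) := by
  have hS := (Opens.mayerVietorisSquare U V).shortComplex_shortExact
  have e1 : (Opens.mayerVietorisSquare U V).shortComplex.X₁ = ZU (U ⊓ V) := rfl
  have e2 : (Opens.mayerVietorisSquare U V).shortComplex.X₂ = (ZU U ⊞ ZU V) := rfl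
  have e3 : (Opens.mayerVietorisSquare U V).shortComplex.X₃ = ZU (U ⊔ V) := rfl
  have h1 : Good c (Opens.mayerVietorisSquare U V).shortComplex.X₁ := by rw [e1]; exact hUV
  have h2 : Good c (Opens.mayerVietorisSquare U V).shortComplex.X₂ := by
    rw [e2]; exact good_biprod c hU hV
  have h3 := good_X₃ c hS h1 h2
  rw [e3] at h3
  exact h3

/-- base change holds for the probe `ℤ_U`, `U` quasi-compact open, if it does for affine opens. -/
theorem good_of_isCompact [CompactSpace X] [QuasiSeparatedSpace X]
    (haff : ∀ U : X.Opens, IsAffineOpen U → Good c (ZU U)) (U : X.Opens)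
    (hU : IsCompact (U : Set X)) : Good c (ZU U) :=
  Groth.Agent.S0015.result X (fun U => Good c (ZU U)) haff
    (fun U V _ _ hU hV hUV => good_sup g' c U V hU hV hUV) U hU

/-- base change holds for the constant sheaf `ℤ`. -/
theorem good_Zc [CompactSpace X] [QuasiSeparatedSpace X]
    (haff : ∀ U : X.Opens, IsAffineOpen U → Good c (ZU U)) : Good c (Zc (TopCat.of X)) := by
  have h1 := good_of_isCompact g' c haff ⊤ isCompact_univ
  haveI : IsIso (wTop (TopCat.of X)) :=
    (isIso_iff_coyoneda_map_bijective _).2 (fun T => wTop_bijective (TopCat.of X) T)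
  exact good_of_iso c (asIso (wTop (TopCat.of X))).symm h1

end Induction

section Final

open Groth.Agent.Lib.Helper23.AffVanish TensorProduct

/-- precomposition with an isomorphism, as a linear equivalence. -/
noncomputable def preEquiv {𝒜 : Type*} [Category 𝒜] [Abelian 𝒜] [HasExt.{u} 𝒜]
    {R : Type*} [Semiring R] {F : 𝒜} (α : Act R F) {P Q : 𝒜} (e : P ≅ Q) (n : ℕ) :
    EE α Q n ≃ₗ[R] EE α P n :=
  LinearEquiv.ofLinear (pre α e.hom n) (pre α e.inv n)
    (LinearMap.ext fun x => by
      change (Abelian.Ext.mk₀ e.hom).comp ((Abelian.Ext.mk₀ e.inv).comp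
        (show Abelian.Ext.{u} P F n from x) (zero_add n)) (zero_add n) = x
      rw [← Abelian.Ext.comp_assoc_of_second_deg_zero, Abelian.Ext.mk₀_comp_mk₀, e.hom_inv_id,
        Abelian.Ext.mk₀_id_comp])
    (LinearMap.ext fun x => by
      change (Abelian.Ext.mk₀ e.inv).comp ((Abelian.Ext.mk₀ e.hom).comp
        (show Abelian.Ext.{u} Q F n from x) (zero_add n)) (zero_add n) = x
      rw [← Abelian.Ext.comp_assoc_of_second_deg_zero, Abelian.Ext.mk₀_comp_mk₀, e.inv_hom_id,
        Abelian.Ext.mk₀_id_comp])

variable {A B : Type u} [CommRing A] [CommRing B] [Algebra A B] [Module.Flat A B]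
  {X X' : Scheme.{u}} [X.Over (Spec (CommRingCat.of A))] [X'.Over (Spec (CommRingCat.of B))]
  (g' : X' ⟶ X)
  (hw : g' ≫ (X ↘ Spec (CommRingCat.of A)) =
    (X' ↘ Spec (CommRingCat.of B)) ≫ Spec.map (CommRingCat.ofHom (algebraMap A B)))
  (M : X.Modules)

/-- flat base change, assuming the affine case. -/
theorem nonempty_linearEquiv_of_affine [CompactSpace X] [QuasiSeparatedSpace X]
    (haff : ∀ U : X.Opens, IsAffineOpen U →
      Good (cmp (X ↘ Spec (CommRingCat.of A)) (X' ↘ Spec (CommRingCat.of B)) g' M hw) (ZU U))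
    (n : ℕ) :
    Nonempty (B ⊗[A] (Coh.HH X M n) ≃ₗ[B] Coh.HH X' ((Scheme.Modules.pullback g').obj M) n) := by
  set c := cmp (X ↘ Spec (CommRingCat.of A)) (X' ↘ Spec (CommRingCat.of B)) g' M hw with hc
  have hgood := good_Zc g' c haff n
  let e₁ : B ⊗[A] (Coh.HH X M n) ≃ₗ[B] B ⊗[A] (EE c.α (Zc (TopCat.of X)) n) :=
    TensorProduct.AlgebraTensorModule.congr (LinearEquiv.refl B B) (eeEquivHH A X M n).symm
  let e₂ : B ⊗[A] (EE c.α (Zc (TopCat.of X)) n) ≃ₗ[B] EB c ((pullF g').obj (Zc (TopCat.of X))) n :=
    LinearEquiv.ofBijective (beta c (Zc (TopCat.of X)) n) hgood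
  let e₃ : EB c ((pullF g').obj (Zc (TopCat.of X))) n ≃ₗ[B] EE c.α' (Zc (TopCat.of X')) n :=
    preEquiv c.α' (pullZcIso g'.base).symm n
  let e₄ : EE c.α' (Zc (TopCat.of X')) n ≃ₗ[B]
      Coh.HH X' ((Scheme.Modules.pullback g').obj M) n :=
    eeEquivHH B X' ((Scheme.Modules.pullback g').obj M) n
  exact ⟨e₁.trans (e₂.trans (e₃.trans e₄))⟩

end Final

end Groth.Agent.Lib.Helper17.FBC
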