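import Groth.Agent.Lib.Helper17GrSysH

/-!
# Cohomology of graded systems of coherent modules in a class with finite cohomology (helper17)

Generalization of `Helper17GrSysH` from proper schemes to an arbitrary class `Pc` of coherent
modules, closed under subobjects and quotients, whose members have finite cohomology (e.g.
coherent modules with support proper over the base).
-/

set_option autoImplicit false
universe u
open CategoryTheory Limits AlgebraicGeometry TopologicalSpace Opposite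

namespace Groth.Agent.Lib.Helper17.GrSysHP

open Groth.Agent.Lib.Helper17.GrSys Groth.Agent.Lib.Helper17.GrSysCoh
  Groth.Agent.Lib.Helper17.HHLes Groth.Agent.Lib.Helper27CohFin Groth.Agent.Lib.Helper4.Dev
  Groth.Agent.Lib.Helper17.GrSysH

/-- a class of coherent modules with finite cohomology, closed under subobjects and quotients. -/
structure FinClass (A : Type u) [CommRing A] {X : Scheme.{u}} [X.Over (Spec (CommRingCat.of A))]
    (Pc : X.Modules → Prop) : Prop where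
  coh : ∀ {N}, Pc N → Coh.IsCoh N
  fin : ∀ {N}, Pc N → ∀ q, Module.Finite A (Coh.HH X N q)
  sub : ∀ {M N : X.Modules} (ι : M ⟶ N) [Mono ι], Coh.IsCoh M → Pc N → Pc M
  quot : ∀ {M N : X.Modules} (π : M ⟶ N) [Epi π], Pc M → Coh.IsCoh N → Pc N

variable (A : Type u) [CommRing A] {X : Scheme.{u}} [X.Over (Spec (CommRingCat.of A))]

variable [IsNoetherianRing A] {Pc : X.Modules → Prop} (hPc : FinClass A Pc)

include hPc

/-- the Hilbert basis theorem applied to the cohomology of a system. -/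
theorem hb_HH {r : ℕ} (G : Sys X.Modules r) (hG : ∀ n, Pc (G.obj n)) (q : ℕ)
    (h : HFT G q) (N : ∀ n, Submodule A (Coh.HH X (G.obj n) q))
    (hN : ∀ i n x, x ∈ N n → Hm (G.T i n) q x ∈ N (n + 1)) :
    ∃ n₁, ∀ n, n₁ ≤ n → ∀ x ∈ N (n + 1),
      ∃ y : Fin r → Coh.HH X (G.obj n) q, (∀ i, y i ∈ N n) ∧ x = ∑ i, Hm (G.T i n) q (y i) := by
  haveI : ∀ n, Module.Finite A (Coh.HH X (G.obj n) q) := fun n =>
    hPc.fin (hG n) q
  exact Groth.Agent.Lib.Helper17.GrHB.hilbert_basis (A := A) (fun n => Coh.HH X (G.obj n) q)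
    (fun i n => Canon.HHlin A (G.T i n) q)
    (fun i j n x => by
      change Hm (G.T j (n + 1)) q (Hm (G.T i n) q x) = Hm (G.T i (n + 1)) q (Hm (G.T j n) q x)
      rw [Hm_comp, Hm_comp, G.comm])
    h N hN

include A

/-- the induction step. -/
theorem hft_step {r : ℕ} [IsLocallyNoetherian X] (F : Sys X.Modules (r + 1))
    (hF : ∀ n, Pc (F.obj n)) (p : ℕ)
    (hC : HFT F.coker p) (hK : HFT F.ker (p + 1)) : HFT F p := by
  have hcK : ∀ n, Pc (F.ker.obj n) := fun n => hPc.sub (kernel.ι (F.L n))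
    (isCoh_kernel (F.L n) (hPc.coh (hF n)) (hPc.coh (hF (n + 1)))) (hF n)
  have hcC : ∀ n, Pc (F.coker.obj n) := fun n => hPc.quot (cokernel.π (F.L n)) (hF (n + 1))
    (isCoh_cokernel (F.L n) (hPc.coh (hF n)) (hPc.coh (hF (n + 1))))
  -- the images of `H^p(F_{n+1})` in `H^p(C_n)`
  obtain ⟨n₃, hn₃⟩ := hb_HH A hPc F.coker hcC p hC
    (fun n => LinearMap.range (Canon.HHlin A (cokernel.π (F.L n)) p))
    (fun i n x hx => by
      obtain ⟨u, rfl⟩ := hx
      refine ⟨Hm (F.T' i (n + 1)) p u, ?_⟩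
      change Hm (cokernel.π (F.L (n + 1))) p (Hm (F.T' i (n + 1)) p u) =
        Hm (F.coker.T i n) p (Hm (cokernel.π (F.L n)) p u)
      rw [Hm_comp, Hm_comp, F.π_cokerT])
  -- the kernels of `H^{p+1}(K_n) → H^{p+1}(F_n)`
  obtain ⟨n₄, hn₄⟩ := hb_HH A hPc F.ker hcK (p + 1) hK
    (fun n => LinearMap.ker (Canon.HHlin A (kernel.ι (F.L n)) (p + 1)))
    (fun i n x hx => by
      rw [LinearMap.mem_ker] at hx ⊢
      change Hm (kernel.ι (F.L (n + 1))) (p + 1) (Hm (F.ker.T i n) (p + 1) x) = 0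
      have hx' : Hm (kernel.ι (F.L n)) (p + 1) x = 0 := hx
      rw [Hm_comp, F.kerT_ι, ← Hm_comp, hx', map_zero])
  refine ⟨max n₃ n₄ + 1, fun n hn x => ?_⟩
  obtain ⟨m, rfl⟩ : ∃ m, n = m + 1 := ⟨n - 1, by omega⟩
  have hm₃ : n₃ ≤ m := by omega
  have hm₄ : n₄ ≤ m := by omega
  -- step 1: modify `x` so that it dies in `H^p(C)`
  obtain ⟨ybar, hybar, e1⟩ := hn₃ m hm₃ (Hm (cokernel.π (F.L (m + 1))) p x) ⟨x, rfl⟩
  choose u hu using hybar
  have hu' : ∀ i, Hm (cokernel.π (F.L m)) p (u i) = ybar i := hu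
  have hx' : Hm (cokernel.π (F.L (m + 1))) p (x - ∑ i, Hm (F.T' i (m + 1)) p (u i)) = 0 := by
    rw [map_sub, map_sum, e1, sub_eq_zero]
    refine Finset.sum_congr rfl (fun i _ => ?_)
    rw [Hm_comp, ← F.π_cokerT, ← Hm_comp, hu' i]
  obtain ⟨z, hz⟩ := exact₂ (F.ses2 (m + 1)) (F.ses2_shortExact (m + 1)) p _ hx'
  -- step 2: modify `z` so that it is killed by the connecting homomorphism
  have hδz : delta (F.ses1 (m + 1)) (F.ses1_shortExact (m + 1)) p z ∈
      LinearMap.ker (Canon.HHlin A (kernel.ι (F.L (m + 1))) (p + 1)) :=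
    LinearMap.mem_ker.2 (Hm_f_delta (F.ses1 (m + 1)) (F.ses1_shortExact (m + 1)) p z)
  obtain ⟨w, hw, e2⟩ := hn₄ m hm₄ _ hδz
  have hv : ∀ i, ∃ v : Coh.HH X (F.im.obj m) p,
      delta (F.ses1 m) (F.ses1_shortExact m) p v = w i := fun i =>
    exact₁ (F.ses1 m) (F.ses1_shortExact m) p (w i) (LinearMap.mem_ker.1 (hw i))
  choose v hv using hv
  have hz' : delta (F.ses1 (m + 1)) (F.ses1_shortExact (m + 1)) p
      (z - ∑ i, Hm (F.im.T i m) p (v i)) = 0 := by
    rw [map_sub, map_sum, e2, sub_eq_zero]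
    refine Finset.sum_congr rfl (fun i _ => ?_)
    have := delta_naturality (F.ses1_shortExact m) (F.ses1_shortExact (m + 1)) (F.ses1Map i m) p
      (v i)
    rw [← hv i]
    exact this.symm
  obtain ⟨v₀, hv₀⟩ := exact₃ (F.ses1 (m + 1)) (F.ses1_shortExact (m + 1)) p _ hz'
  -- assemble
  refine ⟨Fin.lastCases v₀ (fun i => u i + Hm (Abelian.image.ι (F.L m)) p (v i)), ?_⟩
  rw [Fin.sum_univ_castSucc]
  simp only [Fin.lastCases_last, Fin.lastCases_castSucc]
  have h1 : Hm (F.L (m + 1)) p v₀ =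
      Hm (Abelian.image.ι (F.L (m + 1))) p (z - ∑ i, Hm (F.im.T i m) p (v i)) := by
    rw [← hv₀]
    change _ = Hm (Abelian.image.ι (F.L (m + 1))) p
      (Hm (Abelian.factorThruImage (F.L (m + 1))) p v₀)
    rw [Hm_comp, Abelian.image.fac]
  have h2 : Hm (Abelian.image.ι (F.L (m + 1))) p z =
      x - ∑ i, Hm (F.T' i (m + 1)) p (u i) := hz
  change x = ∑ i, Hm (F.T' i (m + 1)) p (u i + Hm (Abelian.image.ι (F.L m)) p (v i)) +
    Hm (F.L (m + 1)) p v₀
  rw [h1, map_sub, h2, map_sum]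
  simp only [map_add, Finset.sum_add_distrib]
  have h3 : ∀ i, Hm (Abelian.image.ι (F.L (m + 1))) p (Hm (F.im.T i m) p (v i)) =
      Hm (F.T' i (m + 1)) p (Hm (Abelian.image.ι (F.L m)) p (v i)) := fun i => by
    rw [Hm_comp, Hm_comp, F.imT_ι]
  simp_rw [h3]
  abel

/-- **Graded finiteness**: the cohomology of a graded system of coherent modules of finite type
on a scheme proper over a Noetherian ring is a graded system of finite type. -/
theorem hft_of_FT [IsNoetherian X] : ∀ {r : ℕ} (F : Sys X.Modules r), (∀ n, Pc (F.obj n)) → F.FT →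
    ∀ p, HFT F p := by
  intro r
  induction r with
  | zero =>
    intro F _ hFT p
    obtain ⟨n₀, hn₀⟩ := hFT
    refine ⟨n₀, fun n hn x => ⟨fun i => i.elim0, ?_⟩⟩
    have h0 : (𝟙 (F.obj (n + 1))) = 0 := hn₀ n hn _ (fun i => i.elim0)
    have hz : IsZero (F.obj (n + 1)) := (IsZero.iff_id_eq_zero _).2 h0
    rw [eq_zero_of_isZero hz p x]
    simp
  | succ r ih =>
    intro F hF hFT p
    have hcK : ∀ n, Pc (F.ker.obj n) := fun n => hPc.sub (kernel.ι (F.L n))
      (isCoh_kernel (F.L n) (hPc.coh (hF n)) (hPc.coh (hF (n + 1)))) (hF n)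
    have hcC : ∀ n, Pc (F.coker.obj n) := fun n => hPc.quot (cokernel.π (F.L n)) (hF (n + 1))
      (isCoh_cokernel (F.L n) (hPc.coh (hF n)) (hPc.coh (hF (n + 1))))
    exact hft_step A hPc F hF p (ih F.coker hcC (F.coker_FT hFT) p)
      (ih F.ker hcK (ker_FT F (fun n => hPc.coh (hF n)) hFT) (p + 1))

end Groth.Agent.Lib.Helper17.GrSysHP
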