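import Groth.Agent.Lib.Helper17FFun
import Groth.Agent.Lib.Helper17GrSysHP

/-!
# The Artin–Rees / Mittag-Leffler package for the theorem on formal functions, for a class of
coherent modules with finite cohomology (helper17)

Generalization of the relevant parts of `Helper17IAdic2` and `Helper17FFun` from proper schemes to a
class `Pc` of coherent modules as in `Helper17GrSysHP.FinClass`.
-/

set_option autoImplicit false
universe u
open CategoryTheory Limits AlgebraicGeometry TopologicalSpace Opposite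

namespace Groth.Agent.Lib.Helper17.FFunP

open Groth.Agent.Lib.Helper17.GrSys Groth.Agent.Lib.Helper17.GrSysH
  Groth.Agent.Lib.Helper17.HHLes Groth.Agent.Lib.Helper27CohFin
  Groth.Agent.Lib.Helper17.IAdic Groth.Agent.Lib.Helper17.GrSysHP
  Groth.Agent.Lib.Helper17.FFun

variable {A : Type u} [CommRing A] {X : Scheme.{u}} [X.Over (Spec (CommRingCat.of A))]
  [IsNoetherianRing A] [IsNoetherian X] {Pc : X.Modules → Prop} (hPc : FinClass A Pc)

include hPc

theorem pc_IM (J : Ideal A) (M : X.Modules) (hM : Pc M) : Pc (IM J M) :=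
  hPc.sub (IMι J M) (isCoh_IM J M (hPc.coh hM)) hM

section Conseq

variable {r : ℕ} (a : Fin r → A) (I : Ideal A) (hI : ∀ i, a i ∈ I)
  (hspan : I = Ideal.span (Set.range a)) (M : X.Modules) (hM : Pc M)

include a hI hspan hM

/-- **Finiteness of `⊕ H^p(X, I^n M)` over the Rees algebra**, in terms of generators of `I`. -/
theorem hft_adicSys (p : ℕ) : HFT (adicSys a I hI M) p :=
  hft_of_FT A hPc (adicSys a I hI M) (fun n => pc_IM hPc (I ^ n) M hM)
    (adicSys_FT a I hI M hspan) p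


/-- the image of `H^p(I^m M) → H^p(I^n M)` lies in `I^(m-n) H^p(I^n M)`, for `n` large. -/
theorem range_incl_le (p : ℕ) : ∃ n₁, ∀ n, n₁ ≤ n → ∀ (m : ℕ) (h : n ≤ m)
    (x : Coh.HH X (IM (I ^ m) M) p),
    Hm (incl I M h) p x ∈ (I ^ (m - n) • ⊤ : Submodule A (Coh.HH X (IM (I ^ n) M) p)) := by
  obtain ⟨n₁, hn₁⟩ := hft_adicSys hPc a I hI hspan M hM p
  refine ⟨n₁, fun n hn m h => ?_⟩
  induction m, h using Nat.le_induction with
  | base =>
    intro x
    rw [Nat.sub_self, pow_zero, Ideal.one_eq_top, Submodule.top_smul]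
    trivial
  | succ m h ih =>
    intro x
    obtain ⟨y, rfl⟩ := hn₁ m (hn.trans h) x
    rw [map_sum]
    refine Submodule.sum_mem _ (fun i _ => ?_)
    have e : (adicSys a I hI M).T i m ≫ incl I M (h.trans (Nat.le_succ m)) =
        Formal.smulMod A (IM (I ^ m) M) (a i) ≫ incl I M h := by
      rw [← incl_comp I M h (Nat.le_succ m), ← Category.assoc, T_incl_succ]
    rw [Hm_comp, e, ← Hm_comp, Hm_smulMod, Hm_smul]
    have h2 : m + 1 - n = (m - n) + 1 := by omega
    rw [h2, pow_succ', mul_smul]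
    exact Submodule.smul_mem_smul (hI i) (ih (y i))

/-- the kernel of `H^p(I^n M) → H^p(M)` dies in `H^p(I^(n-c) M)`. -/
theorem ker_ι_le_ker_incl (p : ℕ) : ∃ c, ∀ (k : ℕ) (x : Coh.HH X (IM (I ^ (c + k)) M) p),
    Hm (IMι (I ^ (c + k)) M) p x = 0 → Hm (incl I M (Nat.le_add_left k c)) p x = 0 := by
  obtain ⟨c, hc⟩ := hb_HH A hPc (adicSys a I hI M) (fun n => pc_IM hPc (I ^ n) M hM) p
    (hft_adicSys hPc a I hI hspan M hM p)
    (fun n => LinearMap.ker (Canon.HHlin A (IMι (I ^ n) M) p))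
    (fun i n x hx => by
      rw [LinearMap.mem_ker] at hx ⊢
      have hx' : Hm (IMι (I ^ n) M) p x = 0 := hx
      change Hm (IMι (I ^ (n + 1)) M) p (Hm ((adicSys a I hI M).T i n) p x) = 0
      rw [Hm_comp, T_ι, ← Hm_comp, hx', map_zero])
  refine ⟨c, fun k => ?_⟩
  induction k with
  | zero =>
    intro x hx
    apply Hm_injective_of_isIso (IMι (I ^ 0) M) p
    rw [Hm_comp, inclTo_ι, map_zero]
    exact hx
  | succ k ih =>
    intro x hx
    obtain ⟨y, hy, rfl⟩ := hc (c + k) (Nat.le_add_right c k) x (LinearMap.mem_ker.2 hx)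
    rw [map_sum]
    refine Finset.sum_eq_zero (fun i _ => ?_)
    have e := T_incl I M a hI i (Nat.le_add_left k c)
    rw [Hm_comp]
    change Hm ((adicSys a I hI M).T i (c + k) ≫
      incl I M (Nat.succ_le_succ (Nat.le_add_left k c))) p (y i) = 0
    rw [e, ← Hm_comp, ih (y i) (LinearMap.mem_ker.1 (hy i)), map_zero]


end Conseq

section Main

variable (I : Ideal A) (M : X.Modules) (hM : Pc M)

include hM

/-- `ker (H^p(M) → H^p(M/I^(n+1)M)) ⊆ I^(n-c) H^p(M)`. -/
theorem ker_toHH_le (p : ℕ) : ∃ c, ∀ n, c ≤ n → ∀ x : Coh.HH X M p,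
    Hm (Formal.modPowπ I (n + 1) M) p x = 0 →
      x ∈ (I ^ (n - c) • ⊤ : Submodule A (Coh.HH X M p)) := by
  obtain ⟨r, a, hI, hspan⟩ := exists_gens I
  obtain ⟨n₁, hn₁⟩ := range_incl_le hPc a I hI hspan M hM p
  refine ⟨n₁, fun n hn x hx => ?_⟩
  obtain ⟨y, rfl⟩ := exact₂ (sesP I M (n + 1)) (sesP_shortExact I M (n + 1)) p x hx
  have h1 := hn₁ n₁ le_rfl (n + 1) (hn.trans (Nat.le_succ n)) y
  have e : incl I M (hn.trans (Nat.le_succ n)) ≫ IMι (I ^ n₁) M = IMι (I ^ (n + 1)) M :=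
    inclTo_ι _ M
  change Hm (IMι (I ^ (n + 1)) M) p y ∈ _
  rw [← e, ← Hm_comp]
  have h2 : (I ^ (n + 1 - n₁) • ⊤ : Submodule A (Coh.HH X (IM (I ^ n₁) M) p)) ≤
      I ^ (n - n₁) • ⊤ :=
    Submodule.smul_mono_left (Ideal.pow_le_pow_right (by omega))
  exact map_mem_smul_top (Canon.HHlin A (IMι (I ^ n₁) M) p) _ _ (h2 h1)

/-- general form of `ker_ι_le_ker_incl`. -/
theorem ker_ι_le_ker_incl' (p : ℕ) : ∃ c, ∀ (m n : ℕ) (h : m ≤ n), m + c ≤ n →
    ∀ x : Coh.HH X (IM (I ^ n) M) p, Hm (IMι (I ^ n) M) p x = 0 → Hm (incl I M h) p x = 0 := by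
  obtain ⟨r, a, hI, hspan⟩ := exists_gens I
  obtain ⟨c, hc⟩ := ker_ι_le_ker_incl hPc a I hI hspan M hM p
  refine ⟨c, fun m n h hmn x hx => ?_⟩
  obtain ⟨k, rfl⟩ := Nat.exists_eq_add_of_le (show c ≤ n by omega)
  have hmk : m ≤ k := by omega
  rw [← incl_comp I M hmk (Nat.le_add_left k c), ← Hm_comp, hc k x hx, map_zero]

/-- uniform Mittag-Leffler: the image of `H^p(M/I^(k+1)M) → H^p(M/I^(n+1)M)` is the image of
`H^p(M)` for `k ≥ n + c`. -/
theorem range_modPowLE (p : ℕ) : ∃ c, ∀ (n k : ℕ) (h : n ≤ k), n + c ≤ k →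
    ∀ x : Coh.HH X (Formal.modPow I (k + 1) M) p, ∃ y : Coh.HH X M p,
      Hm (Formal.modPowπ I (n + 1) M) p y = Hm (Formal2.modPowLE I (Nat.succ_le_succ h) M) p x := by
  obtain ⟨c, hc⟩ := ker_ι_le_ker_incl' hPc I M hM (p + 1)
  refine ⟨c, fun n k h hnk x => ?_⟩
  have hnat := delta_naturality (sesP_shortExact I M (k + 1)) (sesP_shortExact I M (n + 1))
    (sesPMap I M (Nat.succ_le_succ h)) p x
  have h0 := Hm_f_delta (sesP I M (k + 1)) (sesP_shortExact I M (k + 1)) p x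
  have h1 := hc (n + 1) (k + 1) (Nat.succ_le_succ h) (by omega) _ h0
  have h2 : delta (sesP I M (n + 1)) (sesP_shortExact I M (n + 1)) p
      (Hm (Formal2.modPowLE I (Nat.succ_le_succ h) M) p x) = 0 := hnat.trans h1
  exact exact₃ (sesP I M (n + 1)) (sesP_shortExact I M (n + 1)) p _ h2

/-- the package for `AdicLim`. -/
theorem hyp (p : ℕ) : ∃ c, AdicLim.Hyp I (Formal.HHmodPowTrans I M p)
    (Formal.toHHmodPow I M p) c := by
  obtain ⟨c₁, h₁⟩ := ker_toHH_le hPc I M hM p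
  obtain ⟨c₂, h₂⟩ := range_modPowLE hPc I M hM p
  refine ⟨c₁, ⟨?_, ?_, ?_, ?_⟩⟩
  · intro n x
    exact (Formal.HHmap_comp _ _ p x).trans
      (congrArg (fun φ => Hm φ p x) (Formal.modPowπ_trans I (n + 1) M))
  · intro n x hx
    have h3 : (Canon.HHlin A (Formal.modPowπ I (n + 1) M) p) x ∈
        (I ^ (n + 1) • ⊤ : Submodule A (Coh.HH X (Formal.modPow I (n + 1) M) p)) :=
      map_mem_smul_top _ _ _ hx
    have hbot : (I ^ (n + 1) • ⊤ : Submodule A (Coh.HH X (Formal.modPow I (n + 1) M) p)) = ⊥ := by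
      rw [eq_bot_iff]
      refine Submodule.smul_le.2 (fun b hb s _ => ?_)
      rw [smul_HH_modPow I M (n + 1) p b hb s]
      exact Submodule.zero_mem _
    rw [hbot] at h3
    exact (Submodule.mem_bot A).1 h3
  · intro n hn x hx
    exact h₁ n hn x hx
  · intro y hy n
    have key : ∀ k (h : n ≤ k),
        Hm (Formal2.modPowLE I (Nat.succ_le_succ h) M) p (y k) = y n := by
      intro k h
      induction k, h using Nat.le_induction with
      | base => rw [modPowLE_refl, Hm_id]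
      | succ k hk ih =>
        rw [← ih, ← hy k]
        change _ = Hm _ p (Hm (Formal.modPowTrans I (k + 1) M) p (y (k + 1)))
        rw [Hm_comp, modPowTrans_eq, modPowLE_comp]
    obtain ⟨x, hx⟩ := h₂ n (n + c₂) (Nat.le_add_right n c₂) le_rfl (y (n + c₂))
    exact ⟨x, hx.trans (key (n + c₂) (Nat.le_add_right n c₂))⟩

end Main

end Groth.Agent.Lib.Helper17.FFunP
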