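-- helper17: the wide subcategory of strongly cartesian morphisms of a fibred category.
import Groth.Agent.Lib.Helper17FibCat
import Groth.Prelude.Def_W4stkcategoriessitesFib

set_option autoImplicit false
open CategoryTheory CategoryTheory.Functor

universe v₁ u₁ v₂ u₂

namespace Groth.Agent.Lib.Helper17

section CartSub

variable {C : Type u₁} [Category.{v₁} C] {𝒮 : Type u₂} [Category.{v₂} 𝒮]

/-- The wide subcategory of strongly cartesian morphisms of a fibred category is fibred in
groupoids. -/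
theorem isFibGrpd_cartSubProj (p : 𝒮 ⥤ C) [p.IsFibered] :
    FibCat.IsFibGrpd (FibCat.cartSubProj p) := by
  refine ⟨?_, ?_⟩
  · intro x V f
    change V ⟶ p.obj x.obj at f
    obtain ⟨y₀, ψ, hψ⟩ := IsPreFibered.exists_isCartesian' (p := p) (a := x.obj) f
    have hψ' : p.IsStronglyCartesian f ψ := IsFibered.isStronglyCartesian_of_isCartesian p f ψ
    have hcart : FibCat.cartMor p ψ := isStronglyCartesian_map p f ψ
    refine ⟨⟨y₀⟩, ⟨ψ, hcart⟩, ?_⟩
    rw [isHomLift_comp_iff]
    exact (inferInstance : p.IsHomLift f ψ)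
  · intro y x φ
    refine { toIsHomLift := inferInstance, universal_property' := ?_ }
    intro a' g φ' hφ'
    change p.obj a'.obj ⟶ p.obj y.obj at g
    have hφsc : p.IsStronglyCartesian (p.map φ.hom) φ.hom := φ.property
    have hφ'sc : p.IsStronglyCartesian (p.map φ'.hom) φ'.hom := φ'.property
    have h1 : p.IsHomLift (g ≫ p.map φ.hom) φ'.hom :=
      (isHomLift_comp_iff (wideSubcategoryInclusion (FibCat.cartMor p)) p _ φ').mp hφ'
    obtain ⟨χ₀, ⟨hχ1, hχ2⟩, hχu⟩ := IsStronglyCartesian.universal_property p (p.map φ.hom)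
      φ.hom g (g ≫ p.map φ.hom) rfl φ'.hom
    have h2 : p.IsStronglyCartesian (g ≫ p.map φ.hom) (χ₀ ≫ φ.hom) := by
      rw [hχ2]
      exact isStronglyCartesian_of_map p _ φ'.hom
    have h3 : p.IsStronglyCartesian g χ₀ := IsStronglyCartesian.of_comp p (f := g)
      (g := p.map φ.hom) (φ := χ₀) (ψ := φ.hom)
    have hcart : FibCat.cartMor p χ₀ := isStronglyCartesian_map p g χ₀
    refine ⟨⟨χ₀, hcart⟩, ⟨?_, ?_⟩, ?_⟩
    · rw [isHomLift_comp_iff]
      exact hχ1
    · exact WideSubcategory.hom_ext _ hχ2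
    · rintro χ' ⟨hχ'1, hχ'2⟩
      apply WideSubcategory.hom_ext
      apply hχu
      refine ⟨?_, ?_⟩
      · exact (isHomLift_comp_iff (wideSubcategoryInclusion (FibCat.cartMor p)) p _ χ').mp hχ'1
      · have := congrArg InducedWideCategory.Hom.hom hχ'2
        exact this

end CartSub

end Groth.Agent.Lib.Helper17
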