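-- helper17: factorisation of a 1-morphism `F : 𝒳 ⟶ 𝒴` of fibred categories through a fibration:
-- the category of triples `(x, y, f : y ⟶ F x)` with `f` over an identity.
import Mathlib.CategoryTheory.FiberedCategory.BasedCategory
import Mathlib.CategoryTheory.FiberedCategory.Fibered
import Mathlib.CategoryTheory.Adjunction.Basic
import Groth.Prelude.Def_W4stkcategoriessitesFib

set_option autoImplicit false
set_option backward.isDefEq.respectTransparency false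
set_option backward.isDefEq.respectTransparency.types false
open CategoryTheory CategoryTheory.Functor

universe v₂ u₂ v₃ u₃ v u

namespace Groth.Agent.Lib.Helper17.FibFactor

variable {C : Type u} [Category.{v} C] {𝒳 : BasedCategory.{v₂, u₂} C}
  {𝒴 : BasedCategory.{v₃, u₃} C} (F : 𝒳 ⥤ᵇ 𝒴)

/-- objects: triples `(x, y, f : y ⟶ F x)` with `f` over the identity -/
structure CObj where
  x : 𝒳.obj
  y : 𝒴.obj
  f : y ⟶ F.obj x
  hf : 𝒴.p.IsHomLift (𝟙 (𝒳.p.obj x)) f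

variable {F}

/-- morphisms: commuting squares -/
@[ext]
structure CHom (X Y : CObj F) where
  a : X.x ⟶ Y.x
  b : X.y ⟶ Y.y
  w : b ≫ Y.f = X.f ≫ F.map a

instance : Category (CObj F) where
  Hom := CHom
  id X := ⟨𝟙 _, 𝟙 _, by simp⟩
  comp φ ψ := ⟨φ.a ≫ ψ.a, φ.b ≫ ψ.b, by
    rw [Category.assoc, ψ.w, ← Category.assoc, φ.w, Category.assoc, ← F.toFunctor.map_comp]⟩
  id_comp φ := CHom.ext (Category.id_comp _) (Category.id_comp _)
  comp_id φ := CHom.ext (Category.comp_id _) (Category.comp_id _)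
  assoc φ ψ χ := CHom.ext (Category.assoc _ _ _) (Category.assoc _ _ _)

@[ext] theorem hom_ext {X Y : CObj F} {φ ψ : X ⟶ Y} (ha : φ.a = ψ.a) (hb : φ.b = ψ.b) : φ = ψ :=
  CHom.ext ha hb

@[simp] theorem id_a (X : CObj F) : (𝟙 X : X ⟶ X).a = 𝟙 X.x := rfl
@[simp] theorem id_b (X : CObj F) : (𝟙 X : X ⟶ X).b = 𝟙 X.y := rfl
@[simp] theorem comp_a {X Y Z : CObj F} (φ : X ⟶ Y) (ψ : Y ⟶ Z) : (φ ≫ ψ).a = φ.a ≫ ψ.a := rfl
@[simp] theorem comp_b {X Y Z : CObj F} (φ : X ⟶ Y) (ψ : Y ⟶ Z) : (φ ≫ ψ).b = φ.b ≫ ψ.b := rfl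

theorem y_proj (X : CObj F) : 𝒴.p.obj X.y = 𝒳.p.obj X.x :=
  have := X.hf
  IsHomLift.domain_eq 𝒴.p (𝟙 (𝒳.p.obj X.x)) X.f

variable (F)

/-- the comma category as a based category -/
def comma : BasedCategory.{max v₂ v₃, max u₂ u₃ v₃} C where
  obj := CObj F
  p := { obj := fun X => 𝒳.p.obj X.x, map := fun φ => 𝒳.p.map (CHom.a φ) }

variable {F}

theorem comma_p_obj (X : (comma F).obj) : (comma F).p.obj X = 𝒳.p.obj X.x := rfl

theorem comma_p_map {X Y : (comma F).obj} (φ : X ⟶ Y) : (comma F).p.map φ = 𝒳.p.map φ.a := rfl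

section Lifts

theorem isHomLift_of_comp_id_left {𝒵 : Type*} [Category 𝒵] (p : 𝒵 ⥤ C) {R S : C} (g : R ⟶ S)
    {a b c : 𝒵} (χ : a ⟶ b) (κ : b ⟶ c) (hχ : p.IsHomLift (𝟙 R) χ)
    (hc : p.IsHomLift g (χ ≫ κ)) : p.IsHomLift g κ := by
  have hb : p.obj b = R := IsHomLift.codomain_eq p (𝟙 R) χ
  have hcS : p.obj c = S := IsHomLift.codomain_eq p g (χ ≫ κ)
  subst hb hcS
  have e1 := IsHomLift.fac' p (𝟙 (p.obj b)) χ
  have e2 := IsHomLift.fac p g (χ ≫ κ)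
  apply IsHomLift.of_fac p g κ rfl rfl
  rw [e2, Functor.map_comp, e1]
  simp

theorem isHomLift_of_comp_id_right {𝒵 : Type*} [Category 𝒵] (p : 𝒵 ⥤ C) {R S : C} (g : R ⟶ S)
    {a b c : 𝒵} (χ : a ⟶ b) (κ : b ⟶ c) (hκ : p.IsHomLift (𝟙 S) κ)
    (hc : p.IsHomLift g (χ ≫ κ)) : p.IsHomLift g χ := by
  have hb : p.obj b = S := IsHomLift.domain_eq p (𝟙 S) κ
  have haR : p.obj a = R := IsHomLift.domain_eq p g (χ ≫ κ)
  subst hb haR
  have e1 := IsHomLift.fac' p (𝟙 (p.obj b)) κ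
  have e2 := IsHomLift.fac p g (χ ≫ κ)
  apply IsHomLift.of_fac p g χ rfl rfl
  rw [e2, Functor.map_comp, e1]
  simp

theorem isHomLift_id_of_eq' {𝒵 : Type*} [Category 𝒵] (p : 𝒵 ⥤ C) {S S' : C} (h : S = S')
    {a b : 𝒵} (φ : a ⟶ b) (hφ : p.IsHomLift (𝟙 S) φ) : p.IsHomLift (𝟙 S') φ := by
  subst h; exact hφ

/-- the two components of a morphism lie over the same morphisms of the base -/
theorem isHomLift_a_iff_b {X Y : CObj F} (φ : X ⟶ Y) {R S : C} (g : R ⟶ S) :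
    𝒳.p.IsHomLift g φ.a ↔ 𝒴.p.IsHomLift g φ.b := by
  constructor
  · intro h
    have hR : 𝒳.p.obj X.x = R := IsHomLift.domain_eq 𝒳.p g φ.a
    have hS : 𝒳.p.obj Y.x = S := IsHomLift.codomain_eq 𝒳.p g φ.a
    have h1 : 𝒴.p.IsHomLift g (F.map φ.a) := inferInstance
    have h2 : 𝒴.p.IsHomLift (𝟙 R) X.f := isHomLift_id_of_eq' 𝒴.p hR _ X.hf
    have h3 : 𝒴.p.IsHomLift g (X.f ≫ F.map φ.a) := by
      have : 𝒴.p.IsHomLift (𝟙 R ≫ g) (X.f ≫ F.map φ.a) := inferInstance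
      simpa using this
    rw [← φ.w] at h3
    exact isHomLift_of_comp_id_right 𝒴.p g φ.b Y.f (isHomLift_id_of_eq' 𝒴.p hS _ Y.hf) h3
  · intro h
    have hR : 𝒴.p.obj X.y = R := IsHomLift.domain_eq 𝒴.p g φ.b
    have hS : 𝒴.p.obj Y.y = S := IsHomLift.codomain_eq 𝒴.p g φ.b
    have hR' : 𝒳.p.obj X.x = R := (y_proj X).symm.trans hR
    have hS' : 𝒳.p.obj Y.x = S := (y_proj Y).symm.trans hS
    have h2 : 𝒴.p.IsHomLift (𝟙 S) Y.f := isHomLift_id_of_eq' 𝒴.p hS' _ Y.hf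
    have h3 : 𝒴.p.IsHomLift g (φ.b ≫ Y.f) := by
      have : 𝒴.p.IsHomLift (g ≫ 𝟙 S) (φ.b ≫ Y.f) := inferInstance
      simpa using this
    rw [φ.w] at h3
    have h4 : 𝒴.p.IsHomLift g (F.map φ.a) :=
      isHomLift_of_comp_id_left 𝒴.p g X.f (F.map φ.a) (isHomLift_id_of_eq' 𝒴.p hR' _ X.hf) h3
    exact (BasedFunctor.isHomLift_iff F g φ.a).1 h4

theorem isHomLift_comma_iff {X Y : (comma F).obj} (φ : X ⟶ Y) {R S : C} (g : R ⟶ S) :
    (comma F).p.IsHomLift g φ ↔ 𝒳.p.IsHomLift g φ.a := by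
  constructor
  · intro h
    have hR : 𝒳.p.obj X.x = R := IsHomLift.domain_eq (comma F).p g φ
    have hS : 𝒳.p.obj Y.x = S := IsHomLift.codomain_eq (comma F).p g φ
    apply IsHomLift.of_fac 𝒳.p g φ.a hR hS
    exact IsHomLift.fac (comma F).p g φ
  · intro h
    have hR : 𝒳.p.obj X.x = R := IsHomLift.domain_eq 𝒳.p g φ.a
    have hS : 𝒳.p.obj Y.x = S := IsHomLift.codomain_eq 𝒳.p g φ.a
    apply IsHomLift.of_fac (comma F).p g φ hR hS
    exact IsHomLift.fac 𝒳.p g φ.a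

end Lifts

end Groth.Agent.Lib.Helper17.FibFactor
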