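-- helper17: the comma category of a 1-morphism of fibred categories is fibred over the base;
-- strongly cartesian morphisms are those with strongly cartesian components.
import Groth.Agent.Lib.Helper17FibFactor1

set_option autoImplicit false
set_option backward.isDefEq.respectTransparency false
set_option backward.isDefEq.respectTransparency.types false
open CategoryTheory CategoryTheory.Functor

universe v₂ u₂ v₃ u₃ v u

namespace Groth.Agent.Lib.Helper17.FibFactor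

variable {C : Type u} [Category.{v} C] {𝒳 : BasedCategory.{v₂, u₂} C}
  {𝒴 : BasedCategory.{v₃, u₃} C} {F : 𝒳 ⥤ᵇ 𝒴}

theorem isStronglyCartesian_mk {𝒵 : Type*} [Category 𝒵] (p : 𝒵 ⥤ C) {R S : C} (f : R ⟶ S)
    {a b : 𝒵} (φ : a ⟶ b) (h : p.IsHomLift f φ)
    (hu : ∀ {a' : 𝒵} {R' : C} (g : R' ⟶ R) (φ' : a' ⟶ b), p.IsHomLift (g ≫ f) φ' →
      ∃! χ : a' ⟶ a, p.IsHomLift g χ ∧ χ ≫ φ = φ') : p.IsStronglyCartesian f φ :=
  { toIsHomLift := h, universal_property' := fun g φ' hφ' => hu g φ' hφ' }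

theorem isStronglyCartesian_mk' {𝒵 : Type*} [Category 𝒵] {ℬ : Type*} [Category ℬ] (p : 𝒵 ⥤ ℬ)
    {R S : ℬ} (f : R ⟶ S) {a b : 𝒵} (φ : a ⟶ b) (h : p.IsHomLift f φ)
    (hu : ∀ {a' : 𝒵} {R' : ℬ} (g : R' ⟶ R) (φ' : a' ⟶ b), p.IsHomLift (g ≫ f) φ' →
      ∃! χ : a' ⟶ a, p.IsHomLift g χ ∧ χ ≫ φ = φ') : p.IsStronglyCartesian f φ :=
  { toIsHomLift := h, universal_property' := fun g φ' hφ' => hu g φ' hφ' }

/-- K1: a morphism with strongly cartesian components is strongly cartesian -/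
theorem isStronglyCartesian_of_components (hF : FibCat.PreservesStronglyCartesian F)
    {X' X : (comma F).obj} (φ : X' ⟶ X) {R S : C} (g : R ⟶ S)
    (ha : 𝒳.p.IsStronglyCartesian g φ.a) (hb : 𝒴.p.IsStronglyCartesian g φ.b) :
    (comma F).p.IsStronglyCartesian g φ := by
  have hFa : 𝒴.p.IsStronglyCartesian g (F.map φ.a) := hF g φ.a ha
  have hl : 𝒳.p.IsHomLift g φ.a := inferInstance
  refine isStronglyCartesian_mk (comma F).p g φ ((isHomLift_comma_iff φ g).2 hl) ?_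
  intro X₁ R' h φ' hφ'
  have h1 : 𝒳.p.IsHomLift (h ≫ g) φ'.a := (isHomLift_comma_iff φ' _).1 hφ'
  have h2 : 𝒴.p.IsHomLift (h ≫ g) φ'.b := (isHomLift_a_iff_b φ' _).1 h1
  obtain ⟨a₂, ⟨ha₂, ea₂⟩, ua₂⟩ := IsStronglyCartesian.universal_property 𝒳.p g φ.a h (h ≫ g) rfl φ'.a
  obtain ⟨b₂, ⟨hb₂, eb₂⟩, ub₂⟩ := IsStronglyCartesian.universal_property 𝒴.p g φ.b h (h ≫ g) rfl φ'.b
  have hR' : 𝒳.p.obj X₁.x = R' := IsHomLift.domain_eq 𝒳.p h a₂
  have hRx : 𝒳.p.obj X'.x = R := IsHomLift.codomain_eq 𝒳.p h a₂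
  have w : b₂ ≫ X'.f = X₁.f ≫ F.map a₂ := by
    have l1 : 𝒴.p.IsHomLift h (b₂ ≫ X'.f) := by
      have := isHomLift_id_of_eq' 𝒴.p hRx _ X'.hf
      have : 𝒴.p.IsHomLift (h ≫ 𝟙 R) (b₂ ≫ X'.f) := inferInstance
      simpa using this
    have l2 : 𝒴.p.IsHomLift h (X₁.f ≫ F.map a₂) := by
      have := isHomLift_id_of_eq' 𝒴.p hR' _ X₁.hf
      have : 𝒴.p.IsHomLift h (F.map a₂) := inferInstance
      have : 𝒴.p.IsHomLift (𝟙 R' ≫ h) (X₁.f ≫ F.map a₂) := inferInstance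
      simpa using this
    apply IsStronglyCartesian.ext 𝒴.p g (F.map φ.a) h
    rw [Category.assoc, ← φ.w, ← Category.assoc, eb₂, φ'.w, Category.assoc,
      ← F.toFunctor.map_comp, ea₂]
  refine ⟨⟨a₂, b₂, w⟩, ⟨(isHomLift_comma_iff _ h).2 ha₂, hom_ext ea₂ eb₂⟩, ?_⟩
  rintro χ ⟨hχ, eχ⟩
  have hχa : 𝒳.p.IsHomLift h χ.a := (isHomLift_comma_iff χ h).1 hχ
  have hχb : 𝒴.p.IsHomLift h χ.b := (isHomLift_a_iff_b χ h).1 hχa
  apply hom_ext
  · exact ua₂ χ.a ⟨hχa, congrArg CHom.a eχ⟩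
  · exact ub₂ χ.b ⟨hχb, congrArg CHom.b eχ⟩

/-- K2: existence of lifts with strongly cartesian components -/
theorem exists_lift_components [𝒳.p.IsFibered] [𝒴.p.IsFibered]
    (hF : FibCat.PreservesStronglyCartesian F) (X : (comma F).obj) {R : C}
    (g : R ⟶ 𝒳.p.obj X.x) :
    ∃ (X' : (comma F).obj) (φ : X' ⟶ X), 𝒳.p.IsStronglyCartesian g φ.a ∧
      𝒴.p.IsStronglyCartesian g φ.b := by
  obtain ⟨x', a, ha⟩ := IsPreFibered.exists_isCartesian' (p := 𝒳.p) g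
  obtain ⟨y', b, hb⟩ := IsPreFibered.exists_isCartesian 𝒴.p (y_proj X) g
  have hsa : 𝒳.p.IsStronglyCartesian g a := inferInstance
  have hsb : 𝒴.p.IsStronglyCartesian g b := inferInstance
  have hFa : 𝒴.p.IsStronglyCartesian g (F.map a) := hF g a hsa
  have l1 : 𝒴.p.IsHomLift g (b ≫ X.f) := by
    have := X.hf
    have : 𝒴.p.IsHomLift (g ≫ 𝟙 _) (b ≫ X.f) := inferInstance
    simpa using this
  obtain ⟨f', ⟨hf', ef'⟩, -⟩ := IsStronglyCartesian.universal_property 𝒴.p g (F.map a) (𝟙 R) g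
    (Category.id_comp g).symm (b ≫ X.f)
  have hx' : 𝒳.p.obj x' = R := IsHomLift.domain_eq 𝒳.p g a
  exact ⟨⟨x', y', f', isHomLift_id_of_eq' 𝒴.p hx'.symm _ hf'⟩, ⟨a, b, ef'.symm⟩, hsa, hsb⟩

theorem isFibered_comma [𝒳.p.IsFibered] [𝒴.p.IsFibered]
    (hF : FibCat.PreservesStronglyCartesian F) : (comma F).p.IsFibered := by
  apply IsFibered.of_exists_isStronglyCartesian
  intro X R g
  obtain ⟨X', φ, ha, hb⟩ := exists_lift_components hF X g
  exact ⟨X', φ, isStronglyCartesian_of_components hF φ g ha hb⟩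

/-- K3: the components of a strongly cartesian morphism are strongly cartesian -/
theorem components_of_isStronglyCartesian [𝒳.p.IsFibered] [𝒴.p.IsFibered]
    (hF : FibCat.PreservesStronglyCartesian F) {X' X : (comma F).obj} (φ : X' ⟶ X) {R S : C}
    (g : R ⟶ S) (hφ : (comma F).p.IsStronglyCartesian g φ) :
    𝒳.p.IsStronglyCartesian g φ.a ∧ 𝒴.p.IsStronglyCartesian g φ.b := by
  have hS : 𝒳.p.obj X.x = S := IsHomLift.codomain_eq (comma F).p g φ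
  subst hS
  obtain ⟨X₀, φ₀, ha₀, hb₀⟩ := exists_lift_components hF X g
  have hφ₀ := isStronglyCartesian_of_components hF φ₀ g ha₀ hb₀
  let ε := IsCartesian.domainUniqueUpToIso (comma F).p g φ₀ φ
  have hε : (comma F).p.IsHomLift (𝟙 R) ε.hom := inferInstance
  have eε : ε.hom ≫ φ₀ = φ := IsCartesian.fac (comma F).p g φ₀ φ
  have hεa : 𝒳.p.IsHomLift (𝟙 R) ε.hom.a := (isHomLift_comma_iff ε.hom _).1 hε
  have hεb : 𝒴.p.IsHomLift (𝟙 R) ε.hom.b := (isHomLift_a_iff_b ε.hom _).1 hεa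
  let εa : X'.x ≅ X₀.x :=
    ⟨ε.hom.a, ε.inv.a, congrArg CHom.a ε.hom_inv_id, congrArg CHom.a ε.inv_hom_id⟩
  let εb : X'.y ≅ X₀.y :=
    ⟨ε.hom.b, ε.inv.b, congrArg CHom.b ε.hom_inv_id, congrArg CHom.b ε.inv_hom_id⟩
  have hεa' : 𝒳.p.IsHomLift (𝟙 R) εa.hom := hεa
  have hεb' : 𝒴.p.IsHomLift (𝟙 R) εb.hom := hεb
  have ea : φ.a = εa.hom ≫ φ₀.a := (congrArg CHom.a eε).symm
  have eb : φ.b = εb.hom ≫ φ₀.b := (congrArg CHom.b eε).symm
  constructor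
  · rw [ea]
    have hc₀ : 𝒳.p.IsCartesian g φ₀.a := inferInstance
    have : 𝒳.p.IsCartesian g (εa.hom ≫ φ₀.a) := IsCartesian.of_iso_comp 𝒳.p g φ₀.a εa
    infer_instance
  · rw [eb]
    have hc₀ : 𝒴.p.IsCartesian g φ₀.b := inferInstance
    have : 𝒴.p.IsCartesian g (εb.hom ≫ φ₀.b) := IsCartesian.of_iso_comp 𝒴.p g φ₀.b εb
    infer_instance

end Groth.Agent.Lib.Helper17.FibFactor
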