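-- helper17: the functors `u : 𝒳 ⟶ 𝒳'`, `v : 𝒳' ⟶ 𝒴`, `w : 𝒳' ⟶ 𝒳` of the comma factorisation.
import Groth.Agent.Lib.Helper17FibFactor2

set_option autoImplicit false
set_option backward.isDefEq.respectTransparency false
set_option backward.isDefEq.respectTransparency.types false
open CategoryTheory CategoryTheory.Functor

universe v₂ u₂ v₃ u₃ v u

namespace Groth.Agent.Lib.Helper17.FibFactor

variable {C : Type u} [Category.{v} C] {𝒳 : BasedCategory.{v₂, u₂} C}
  {𝒴 : BasedCategory.{v₃, u₃} C} (F : 𝒳 ⥤ᵇ 𝒴)

/-- `x ↦ (x, F x, 𝟙)` -/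
def uFun : 𝒳 ⥤ᵇ comma F where
  toFunctor :=
    { obj := fun x => (⟨x, F.obj x, 𝟙 _, IsHomLift.id (F.w_obj x)⟩ : CObj F)
      map := fun {x x'} a => (⟨a, F.map a, by simp⟩ : CHom _ _)
      map_id := fun x => hom_ext rfl (F.toFunctor.map_id x)
      map_comp := fun a a' => hom_ext rfl (F.toFunctor.map_comp a a') }
  w := rfl

/-- `(x, y, f) ↦ x` -/
def wFun : comma F ⥤ᵇ 𝒳 where
  toFunctor :=
    { obj := fun X => X.x
      map := fun φ => CHom.a φ }
  w := rfl

/-- `(x, y, f) ↦ y` -/
def vFun : comma F ⥤ᵇ 𝒴 where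
  toFunctor :=
    { obj := fun X => X.y
      map := fun φ => CHom.b φ }
  w := by
    refine Functor.ext (fun X => y_proj X) ?_
    intro X Y φ
    have h1 : 𝒳.p.IsHomLift (𝒳.p.map φ.a) φ.a := inferInstance
    have h2 : 𝒴.p.IsHomLift (𝒳.p.map φ.a) φ.b := (isHomLift_a_iff_b φ _).1 h1
    exact IsHomLift.fac' 𝒴.p (𝒳.p.map φ.a) φ.b

theorem uFun_comp_vFun : BasedFunctor.comp (uFun F) (vFun F) = F := rfl

instance uFun_faithful : (uFun F).toFunctor.Faithful where
  map_injective h := congrArg CHom.a h

instance uFun_full : (uFun F).toFunctor.Full where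
  map_surjective := by
    intro x x' φ
    refine ⟨φ.a, ?_⟩
    apply hom_ext
    · rfl
    · have := φ.w
      change φ.b ≫ 𝟙 _ = 𝟙 _ ≫ F.map φ.a at this
      rw [Category.comp_id, Category.id_comp] at this
      exact this.symm

/-- the adjunction `w ⊣ u` -/
def adj : (wFun F).toFunctor ⊣ (uFun F).toFunctor :=
  Adjunction.mkOfHomEquiv
    { homEquiv := fun X x =>
        { toFun := fun a => (⟨a, X.f ≫ F.map a, by
            change (X.f ≫ F.map a) ≫ 𝟙 _ = X.f ≫ F.map a
            rw [Category.comp_id]⟩ : CHom X ((uFun F).obj x))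
          invFun := fun φ => CHom.a φ
          left_inv := fun a => rfl
          right_inv := fun φ => by
            apply hom_ext
            · rfl
            · have := φ.w
              change φ.b ≫ 𝟙 _ = X.f ≫ F.map φ.a at this
              rw [Category.comp_id] at this
              exact this.symm }
      homEquiv_naturality_left_symm := fun _ _ => rfl
      homEquiv_naturality_right := fun {X x x'} a a' => by
        apply hom_ext
        · rfl
        · change X.f ≫ F.map (a ≫ a') = (X.f ≫ F.map a) ≫ F.map a'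
          rw [F.toFunctor.map_comp, Category.assoc] }

variable {F}

theorem preserves_uFun (hF : FibCat.PreservesStronglyCartesian F) :
    FibCat.PreservesStronglyCartesian (uFun F) := by
  intro R S g x x' a ha
  exact isStronglyCartesian_of_components hF ((uFun F).map a) g ha (hF g a ha)

theorem preserves_wFun [𝒳.p.IsFibered] [𝒴.p.IsFibered]
    (hF : FibCat.PreservesStronglyCartesian F) :
    FibCat.PreservesStronglyCartesian (wFun F) := by
  intro R S g X X' φ hφ
  exact (components_of_isStronglyCartesian hF φ g hφ).1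

theorem preserves_vFun [𝒳.p.IsFibered] [𝒴.p.IsFibered]
    (hF : FibCat.PreservesStronglyCartesian F) :
    FibCat.PreservesStronglyCartesian (vFun F) := by
  intro R S g X X' φ hφ
  exact (components_of_isStronglyCartesian hF φ g hφ).2

end Groth.Agent.Lib.Helper17.FibFactor
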