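-- helper17: the projection `v : 𝒳' ⟶ 𝒴` of the comma factorisation is a fibration.
import Groth.Agent.Lib.Helper17FibFactor3

set_option autoImplicit false
set_option backward.isDefEq.respectTransparency false
set_option backward.isDefEq.respectTransparency.types false
open CategoryTheory CategoryTheory.Functor

universe v₂ u₂ v₃ u₃ v u

namespace Groth.Agent.Lib.Helper17.FibFactor

variable {C : Type u} [Category.{v} C] {𝒳 : BasedCategory.{v₂, u₂} C}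
  {𝒴 : BasedCategory.{v₃, u₃} C} {F : 𝒳 ⥤ᵇ 𝒴}

theorem vFun_map {X Y : (comma F).obj} (φ : X ⟶ Y) : (vFun F).toFunctor.map φ = φ.b := rfl

theorem vFun_obj (X : (comma F).obj) : (vFun F).toFunctor.obj X = X.y := rfl

theorem isHomLift_vFun_iff {X Y : (comma F).obj} (φ : X ⟶ Y) (β : X.y ⟶ Y.y) :
    (vFun F).toFunctor.IsHomLift β φ ↔ φ.b = β := by
  constructor
  · intro h
    have := IsHomLift.fac (vFun F).toFunctor β φ
    rw [this]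
    simp [vFun_map]
  · intro h
    subst h
    exact IsHomLift.map (vFun F).toFunctor φ

theorem isFibered_vFun [𝒳.p.IsFibered] [𝒴.p.IsFibered]
    (hF : FibCat.PreservesStronglyCartesian F) : (vFun F).toFunctor.IsFibered := by
  apply IsFibered.of_exists_isStronglyCartesian
  intro X y₁ β
  change y₁ ⟶ X.y at β
  -- the base morphism under `β`
  let g : 𝒴.p.obj y₁ ⟶ 𝒳.p.obj X.x := 𝒴.p.map β ≫ eqToHom (y_proj X)
  have hβ : 𝒴.p.IsHomLift g β := inferInstance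
  obtain ⟨x', a, ha⟩ := IsPreFibered.exists_isCartesian' (p := 𝒳.p) g
  have hsa : 𝒳.p.IsStronglyCartesian g a := inferInstance
  have hFa : 𝒴.p.IsStronglyCartesian g (F.map a) := hF g a hsa
  have l1 : 𝒴.p.IsHomLift g (β ≫ X.f) := by
    have := X.hf
    have : 𝒴.p.IsHomLift (g ≫ 𝟙 _) (β ≫ X.f) := inferInstance
    simpa using this
  obtain ⟨f', ⟨hf', ef'⟩, -⟩ := IsStronglyCartesian.universal_property 𝒴.p g (F.map a)
    (𝟙 (𝒴.p.obj y₁)) g (Category.id_comp g).symm (β ≫ X.f)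
  have hx' : 𝒳.p.obj x' = 𝒴.p.obj y₁ := IsHomLift.domain_eq 𝒳.p g a
  let X' : (comma F).obj := ⟨x', y₁, f', isHomLift_id_of_eq' 𝒴.p hx'.symm _ hf'⟩
  let φ : X' ⟶ X := ⟨a, β, ef'.symm⟩
  refine ⟨X', φ, ?_⟩
  refine isStronglyCartesian_mk' (vFun F).toFunctor β φ ((isHomLift_vFun_iff φ β).2 rfl) ?_
  intro X₂ y₂ γ φ' hφ'
  -- `γ : y₂ ⟶ y₁`, and `φ'` lies over `γ ≫ β`
  have hy₂ : X₂.y = y₂ := IsHomLift.domain_eq (vFun F).toFunctor (γ ≫ β) φ'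
  subst hy₂
  have eb : φ'.b = γ ≫ β := (isHomLift_vFun_iff φ' (γ ≫ β)).1 hφ'
  have hγ : 𝒴.p.IsHomLift (𝒴.p.map γ) γ := inferInstance
  have h2 : 𝒴.p.IsHomLift (𝒴.p.map γ ≫ g) φ'.b := by
    rw [eb]
    infer_instance
  have h1 : 𝒳.p.IsHomLift (𝒴.p.map γ ≫ g) φ'.a := (isHomLift_a_iff_b φ' _).2 h2
  obtain ⟨a₂, ⟨ha₂, ea₂⟩, ua₂⟩ := IsStronglyCartesian.universal_property 𝒳.p g a (𝒴.p.map γ)
    (𝒴.p.map γ ≫ g) rfl φ'.a
  have hR' : 𝒳.p.obj X₂.x = 𝒴.p.obj X₂.y := IsHomLift.domain_eq 𝒳.p (𝒴.p.map γ) a₂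
  have w : γ ≫ X'.f = X₂.f ≫ F.map a₂ := by
    have l1 : 𝒴.p.IsHomLift (𝒴.p.map γ) (γ ≫ f') := by
      have : 𝒴.p.IsHomLift (𝒴.p.map γ ≫ 𝟙 _) (γ ≫ f') := inferInstance
      simpa using this
    have l2 : 𝒴.p.IsHomLift (𝒴.p.map γ) (X₂.f ≫ F.map a₂) := by
      have := isHomLift_id_of_eq' 𝒴.p hR' _ X₂.hf
      have : 𝒴.p.IsHomLift (𝒴.p.map γ) (F.map a₂) := inferInstance
      have : 𝒴.p.IsHomLift (𝟙 _ ≫ 𝒴.p.map γ) (X₂.f ≫ F.map a₂) := inferInstance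
      simpa using this
    apply IsStronglyCartesian.ext 𝒴.p g (F.map a) (𝒴.p.map γ)
    change (γ ≫ f') ≫ F.map a = (X₂.f ≫ F.map a₂) ≫ F.map a
    rw [Category.assoc, ef', ← Category.assoc, ← eb, φ'.w, Category.assoc,
      ← F.toFunctor.map_comp, ea₂]
  let χ₀ : X₂ ⟶ X' := ⟨a₂, γ, w⟩
  refine ⟨χ₀, ⟨(isHomLift_vFun_iff χ₀ γ).2 rfl, hom_ext ea₂ eb.symm⟩, ?_⟩
  rintro χ ⟨hχ, eχ⟩
  have hχb : χ.b = γ := (isHomLift_vFun_iff χ γ).1 hχ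
  have hχb' : 𝒴.p.IsHomLift (𝒴.p.map γ) χ.b := by rw [hχb]; infer_instance
  have hχa : 𝒳.p.IsHomLift (𝒴.p.map γ) χ.a := (isHomLift_a_iff_b χ _).2 hχb'
  apply hom_ext
  · exact ua₂ χ.a ⟨hχa, congrArg CHom.a eχ⟩
  · exact hχb

end Groth.Agent.Lib.Helper17.FibFactor
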