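-- helper17: inertia and fibredness in setoids.
import Groth.Agent.Lib.Helper17FibInertia

set_option autoImplicit false
open CategoryTheory CategoryTheory.Functor

universe v₁ u₁ v₂ u₂ v₃ u₃

namespace Groth.Agent.Lib.Helper17

section Inertia2

variable {C : Type u₁} [Category.{v₁} C] {𝒳 : BasedCategory.{v₂, u₂} C}

/-- If the inertia maps equivalently to `𝒳`, then `𝒳` is fibred in setoids. -/
theorem isFibSetoid_of_isEquivOver_inertiaToBase (h𝒳 : FibCat.IsFibGrpd 𝒳.p)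
    (h : FibCat.IsEquivOver (FibCat.inertiaToBase (FibCat.toSelf 𝒳))) :
    FibCat.IsFibSetoid 𝒳.p := by
  have hequiv := IsEquivOver.isEquivalence _ h
  have key : ∀ (x : 𝒳.obj) (α : x ≅ x), 𝒳.p.IsHomLift (𝟙 (𝒳.p.obj x)) α.hom → α.hom = 𝟙 x := by
    intro x α hα
    have hmap : (FibCat.toSelf 𝒳).map α.hom = 𝟙 ((FibCat.toSelf 𝒳).obj x) :=
      (IsHomLift.eq_of_isHomLift 𝒳.p (𝟙 (𝒳.p.obj x)) α.hom).symm
    let X₁ : FibCat.InertiaObj (FibCat.toSelf 𝒳) := ⟨x, α, hmap⟩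
    let X₂ : FibCat.InertiaObj (FibCat.toSelf 𝒳) := ⟨x, Iso.refl x, (FibCat.toSelf 𝒳).map_id x⟩
    obtain ⟨f, hf⟩ := (FibCat.inertiaToBase (FibCat.toSelf 𝒳)).toFunctor.map_surjective
      (X := X₁) (Y := X₂) (𝟙 x)
    have hf' : f.hom = 𝟙 x := hf
    have hc : α.hom ≫ f.hom = f.hom ≫ 𝟙 x := f.comm
    rw [hf', Category.comp_id, Category.comp_id] at hc
    exact hc
  refine ⟨h𝒳, ?_⟩
  intro U X Y
  refine ⟨fun m₁ m₂ => ?_⟩
  have hl1 : 𝒳.p.IsHomLift (𝟙 U) m₁.1 := m₁.2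
  have hl2 : 𝒳.p.IsHomLift (𝟙 U) m₂.1 := m₂.2
  have hiso1 : IsIso m₁.1 := IsFibGrpd.isIso_of_isHomLift_id h𝒳 U m₁.1
  have hiso2 : IsIso m₂.1 := IsFibGrpd.isIso_of_isHomLift_id h𝒳 U m₂.1
  let α : X.1 ≅ X.1 := asIso m₁.1 ≪≫ (asIso m₂.1).symm
  have hα : 𝒳.p.IsHomLift (𝟙 U) α.hom := by
    change 𝒳.p.IsHomLift (𝟙 U) (m₁.1 ≫ inv m₂.1)
    infer_instance
  have hα' : 𝒳.p.IsHomLift (𝟙 (𝒳.p.obj X.1)) α.hom := isHomLift_id_of_eq 𝒳.p X.2.symm α.hom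
  have e := key X.1 α hα'
  have e' : m₁.1 ≫ inv m₂.1 = 𝟙 X.1 := e
  apply Subtype.ext
  rw [← Category.comp_id m₁.1, ← IsIso.inv_hom_id m₂.1, ← Category.assoc, e', Category.id_comp]

end Inertia2

end Groth.Agent.Lib.Helper17
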