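-- helper17: fibred vs cofibred for a functor that is prefibred and pre-cofibred.
import Mathlib.CategoryTheory.FiberedCategory.Fibered
import Mathlib.CategoryTheory.Opposites

set_option autoImplicit false
open CategoryTheory CategoryTheory.Functor Opposite

universe v₁ u₁ v₂ u₂

namespace Groth.Agent.Lib.Helper17

section FibOp

variable {C : Type u₁} [Category.{v₁} C] {𝒳 : Type u₂} [Category.{v₂} 𝒳] (p : 𝒳 ⥤ C)

theorem isHomLift_op {R S : C} (f : R ⟶ S) {a b : 𝒳} (φ : a ⟶ b) [h : p.IsHomLift f φ] :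
    p.op.IsHomLift f.op φ.op := by
  subst_hom_lift p f φ
  exact IsHomLift.map p.op φ.op

theorem isHomLift_unop {R S : Cᵒᵖ} (f : R ⟶ S) {a b : 𝒳ᵒᵖ} (φ : a ⟶ b) [h : p.op.IsHomLift f φ] :
    p.IsHomLift f.unop φ.unop := by
  subst_hom_lift p.op f φ
  exact IsHomLift.map p φ.unop

/-- A fibred functor whose opposite is prefibred has fibred opposite. -/
theorem isFibered_op_of_isFibered [p.IsFibered] [p.op.IsPreFibered] : p.op.IsFibered := by
  apply IsFibered.of_exists_isStronglyCartesian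
  intro a R f
  obtain ⟨b, φ, hφ⟩ := IsPreFibered.exists_isCartesian' (p := p.op) (a := a) f
  refine ⟨b, φ, ?_⟩
  refine { toIsHomLift := hφ.toIsHomLift, universal_property' := ?_ }
  intro a' g φ' hφ'
  obtain ⟨c', γ, hγ⟩ := IsPreFibered.exists_isCartesian' (p := p) (a := a'.unop) g.unop
  have hγs : p.IsStronglyCartesian g.unop γ :=
    IsFibered.isStronglyCartesian_of_isCartesian p g.unop γ
  have h1 : p.IsHomLift (f.unop ≫ g.unop) φ'.unop := isHomLift_unop p (g ≫ f) φ'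
  let ψ' : a.unop ⟶ c' := IsStronglyCartesian.map p g.unop γ (g := f.unop) rfl φ'.unop
  have hψ' : p.IsHomLift f.unop ψ' := IsStronglyCartesian.map_isHomLift p g.unop γ rfl φ'.unop
  have eψ' : ψ' ≫ γ = φ'.unop := IsStronglyCartesian.fac p g.unop γ rfl φ'.unop
  have h2 : p.op.IsHomLift f ψ'.op := isHomLift_op p f.unop ψ'
  let χ' : op c' ⟶ b := IsCartesian.map p.op f φ ψ'.op
  have hχ' : p.op.IsHomLift (𝟙 R) χ' := IsCartesian.map_isHomLift p.op f φ ψ'.op
  have eχ' : χ' ≫ φ = ψ'.op := IsCartesian.fac p.op f φ ψ'.op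
  have hγop : p.op.IsHomLift g γ.op := isHomLift_op p g.unop γ
  refine ⟨γ.op ≫ χ', ⟨?_, ?_⟩, ?_⟩
  · have : p.op.IsHomLift (g ≫ 𝟙 R) (γ.op ≫ χ') := inferInstance
    simpa using this
  · rw [Category.assoc, eχ', ← op_comp, eψ']
    rfl
  · rintro χ₂ ⟨hχ₂, eχ₂⟩
    have k1 : p.IsHomLift g.unop χ₂.unop := isHomLift_unop p g χ₂
    have k1' : p.IsHomLift (𝟙 R.unop ≫ g.unop) χ₂.unop := by simpa using k1
    let χ₂' : b.unop ⟶ c' := IsStronglyCartesian.map p g.unop γ (g := 𝟙 R.unop) rfl χ₂.unop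
    have hχ₂' : p.IsHomLift (𝟙 R.unop) χ₂' :=
      IsStronglyCartesian.map_isHomLift p g.unop γ rfl χ₂.unop
    have eχ₂' : χ₂' ≫ γ = χ₂.unop := IsStronglyCartesian.fac p g.unop γ rfl χ₂.unop
    have hφu : p.IsHomLift f.unop φ.unop := isHomLift_unop p f φ
    have k2 : p.IsHomLift f.unop (φ.unop ≫ χ₂') := by
      have : p.IsHomLift (f.unop ≫ 𝟙 R.unop) (φ.unop ≫ χ₂') := inferInstance
      simpa using this
    have k3 : φ.unop ≫ χ₂' = ψ' := by
      apply IsStronglyCartesian.ext p g.unop γ f.unop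
      rw [Category.assoc, eχ₂', eψ', ← unop_comp, eχ₂]
    have k4 : p.op.IsHomLift (𝟙 R) χ₂'.op := isHomLift_op p (𝟙 R.unop) χ₂'
    have k5 : χ₂'.op = χ' := by
      apply IsCartesian.map_uniq p.op f φ ψ'.op χ₂'.op
      rw [← k3]
      rfl
    rw [← k5, ← op_comp, eχ₂']
    rfl

/-- A prefibred functor whose opposite is fibred is fibred. -/
theorem isFibered_of_isFibered_op [p.op.IsFibered] [p.IsPreFibered] : p.IsFibered := by
  apply IsFibered.of_exists_isStronglyCartesian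
  intro c S g
  obtain ⟨c', γ, hγ⟩ := IsPreFibered.exists_isCartesian' (p := p) (a := c) g
  refine ⟨c', γ, ?_⟩
  refine { toIsHomLift := hγ.toIsHomLift, universal_property' := ?_ }
  intro a f ψ hψ
  obtain ⟨b, κ, hκ⟩ := IsPreFibered.exists_isCartesian' (p := p.op) (a := op a) f.op
  have hκs : p.op.IsStronglyCartesian f.op κ :=
    IsFibered.isStronglyCartesian_of_isCartesian p.op f.op κ
  have h1 : p.op.IsHomLift (g.op ≫ f.op) ψ.op := isHomLift_op p (f ≫ g) ψ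
  let χ : op c ⟶ b := IsStronglyCartesian.map p.op f.op κ (g := g.op) rfl ψ.op
  have hχ : p.op.IsHomLift g.op χ := IsStronglyCartesian.map_isHomLift p.op f.op κ rfl ψ.op
  have eχ : χ ≫ κ = ψ.op := IsStronglyCartesian.fac p.op f.op κ rfl ψ.op
  have hχu : p.IsHomLift g χ.unop := isHomLift_unop p g.op χ
  let χ' : b.unop ⟶ c' := IsCartesian.map p g γ χ.unop
  have hχ' : p.IsHomLift (𝟙 S) χ' := IsCartesian.map_isHomLift p g γ χ.unop
  have eχ' : χ' ≫ γ = χ.unop := IsCartesian.fac p g γ χ.unop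
  have hκu : p.IsHomLift f κ.unop := isHomLift_unop p f.op κ
  refine ⟨κ.unop ≫ χ', ⟨?_, ?_⟩, ?_⟩
  · have : p.IsHomLift (f ≫ 𝟙 S) (κ.unop ≫ χ') := inferInstance
    simpa using this
  · rw [Category.assoc, eχ', ← unop_comp, eχ]
    rfl
  · rintro ψ₂ ⟨hψ₂, eψ₂⟩
    have k1 : p.op.IsHomLift f.op ψ₂.op := isHomLift_op p f ψ₂
    have k1' : p.op.IsHomLift (𝟙 (op S) ≫ f.op) ψ₂.op := by simpa using k1
    let χ₂ : op c' ⟶ b := IsStronglyCartesian.map p.op f.op κ (g := 𝟙 (op S)) rfl ψ₂.op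
    have hχ₂ : p.op.IsHomLift (𝟙 (op S)) χ₂ :=
      IsStronglyCartesian.map_isHomLift p.op f.op κ rfl ψ₂.op
    have eχ₂ : χ₂ ≫ κ = ψ₂.op := IsStronglyCartesian.fac p.op f.op κ rfl ψ₂.op
    have hγop : p.op.IsHomLift g.op γ.op := isHomLift_op p g γ
    have k2 : p.op.IsHomLift g.op (γ.op ≫ χ₂) := by
      have : p.op.IsHomLift (g.op ≫ 𝟙 (op S)) (γ.op ≫ χ₂) := inferInstance
      simpa using this
    have k3 : γ.op ≫ χ₂ = χ := by
      apply IsStronglyCartesian.ext p.op f.op κ g.op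
      rw [Category.assoc, eχ₂, eχ, ← op_comp, eψ₂]
    have k4 : p.IsHomLift (𝟙 S) χ₂.unop := isHomLift_unop p (𝟙 (op S)) χ₂
    have k5 : χ₂.unop = χ' := by
      apply IsCartesian.map_uniq p g γ χ.unop χ₂.unop
      rw [← k3]
      rfl
    rw [← k5, ← unop_comp, eχ₂]
    rfl

end FibOp

end Groth.Agent.Lib.Helper17
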