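import Groth.Agent.Lib.Helper17KInj12

/-!
# Extension property of K-injective complexes with injective terms (helper17)
-/

set_option autoImplicit false

universe v u

open CategoryTheory CategoryTheory.Limits HomologicalComplex CochainComplex HomComplex ZeroObject

namespace Groth.Agent.Lib.Helper17.KInj

section

variable {A : Type u} [Category.{v} A] [Abelian A]

lemma cochain_eq_zero_of_ofHom_comp {K L M : CochainComplex A ℤ} (g : K ⟶ L)
    [∀ n, Epi (g.f n)] {n : ℤ} (z : Cochain L M n)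
    (h : (Cochain.ofHom g).comp z (zero_add n) = 0) : z = 0 := by
  ext p q hpq
  have := Cochain.congr_v h p q hpq
  rw [Cochain.zero_cochain_comp_v, Cochain.ofHom_v, Cochain.zero_v] at this
  rw [Cochain.zero_v, ← cancel_epi (g.f p), this, comp_zero]

theorem exists_extension_of_isKInjective (I : CochainComplex A ℤ) [I.IsKInjective]
    (hI : ∀ n, Injective (I.X n))
    (S : ShortComplex (CochainComplex A ℤ)) (hS : S.ShortExact) (hac : S.X₃.Acyclic)
    (φ : S.X₁ ⟶ I) : ∃ ψ : S.X₂ ⟶ I, S.f ≫ ψ = φ := by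
  have hSn : ∀ n, (S.map (HomologicalComplex.eval A (ComplexShape.up ℤ) n)).ShortExact :=
    fun n => hS.map_of_exact _
  haveI : ∀ n, Mono (S.f.f n) := fun n => (hSn n).mono_f
  haveI : ∀ n, Epi (S.g.f n) := fun n => (hSn n).epi_g
  obtain ⟨ψ₀, hψ₀⟩ : ∃ ψ₀ : Cochain S.X₂ I 0,
      (Cochain.ofHom S.f).comp ψ₀ (zero_add 0) = Cochain.ofHom φ := by
    refine ⟨Cochain.ofHoms (fun n => Injective.factorThru (φ.f n) (S.f.f n)), ?_⟩
    ext n
    rw [Cochain.zero_cochain_comp_v, Cochain.ofHom_v, Cochain.ofHoms_v, Cochain.ofHom_v,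
      Injective.comp_factorThru]
  have h1 : (Cochain.ofHom S.f).comp (δ 0 1 ψ₀) (zero_add 1) = 0 := by
    rw [← δ_ofHom_comp, hψ₀, δ_ofHom]
  -- factor through `S.g`
  obtain ⟨c, hc⟩ : ∃ c : Cochain S.X₃ I 1,
      (Cochain.ofHom S.g).comp c (zero_add 1) = δ 0 1 ψ₀ := by
    have hk : ∀ (p q : ℤ) (hpq : p + 1 = q), S.f.f p ≫ (δ 0 1 ψ₀).v p q hpq = 0 := by
      intro p q hpq
      have := Cochain.congr_v h1 p q hpq
      rwa [Cochain.zero_cochain_comp_v, Cochain.ofHom_v, Cochain.zero_v] at this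
    haveI : ∀ p, Epi (S.map (HomologicalComplex.eval A (ComplexShape.up ℤ) p)).g :=
      fun p => (hSn p).epi_g
    refine ⟨Cochain.mk (fun p q hpq => (hSn p).exact.desc ((δ 0 1 ψ₀).v p q hpq) (hk p q hpq)), ?_⟩
    ext p q hpq
    rw [Cochain.zero_cochain_comp_v, Cochain.ofHom_v, Cochain.mk_v]
    exact (hSn p).exact.g_desc _ _
  have hδc : δ 1 2 c = 0 := by
    apply cochain_eq_zero_of_ofHom_comp S.g
    rw [← δ_ofHom_comp, hc, δ_δ]
  obtain ⟨x, hx⟩ := IsKInjective.eq_δ_of_cocycle (Cocycle.mk c 2 (by simp) hδc) hac 0 (by simp)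
  have hx' : δ 0 1 x = c := hx
  have hδ : δ 0 1 (ψ₀ - (Cochain.ofHom S.g).comp x (zero_add 0)) = 0 := by
    rw [δ_sub, δ_ofHom_comp, hx', hc, sub_self]
  refine ⟨Cocycle.homOf (Cocycle.mk _ 1 (by simp) hδ), ?_⟩
  apply Cochain.ofHom_injective
  rw [Cochain.ofHom_comp, Cocycle.cochain_ofHom_homOf_eq_coe]
  change (Cochain.ofHom S.f).comp (ψ₀ - (Cochain.ofHom S.g).comp x (zero_add 0)) (zero_add 0) = _
  rw [Cochain.comp_sub, hψ₀, ← Cochain.comp_assoc_of_first_is_zero_cochain,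
    ← Cochain.ofHom_comp, S.zero, Cochain.ofHom_zero, Cochain.zero_comp, sub_zero]

theorem rlp_of_isKInjective (I : CochainComplex A ℤ) [I.IsKInjective]
    (hI : ∀ n, Injective (I.X n)) : (trivCof (A := A)).rlp (0 : I ⟶ 0) := by
  intro X Y f hf
  haveI := hf.1
  have hS := shortExact_of_mono f
  have hac := hS.acyclic_X₃ hf.2
  refine ⟨fun {t b} sq => ?_⟩
  obtain ⟨ψ, hψ⟩ := exists_extension_of_isKInjective I hI _ hS hac t
  exact ⟨⟨{ l := ψ, fac_left := hψ, fac_right := (isZero_zero _).eq_of_tgt _ _ }⟩⟩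

theorem isKInjective_and_injective_iff (I : CochainComplex A ℤ) :
    (I.IsKInjective ∧ ∀ n : ℤ, Injective (I.X n)) ↔
      ∀ (S : ShortComplex (CochainComplex A ℤ)), S.ShortExact → S.X₃.Acyclic →
        ∀ φ : S.X₁ ⟶ I, ∃ ψ : S.X₂ ⟶ I, S.f ≫ ψ = φ := by
  constructor
  · rintro ⟨_, hI⟩ S hS hac φ
    exact exists_extension_of_isKInjective I hI S hS hac φ
  · intro h
    have hI : (trivCof (A := A)).rlp (0 : I ⟶ 0) := by
      intro X Y f hf
      haveI := hf.1
      have hS := shortExact_of_mono f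
      have hac := hS.acyclic_X₃ hf.2
      refine ⟨fun {t b} sq => ?_⟩
      obtain ⟨ψ, hψ⟩ := h _ hS hac t
      exact ⟨⟨{ l := ψ, fac_left := hψ, fac_right := (isZero_zero _).eq_of_tgt _ _ }⟩⟩
    exact ⟨isKInjective_of_rlp hI, fun n => injective_X_of_rlp hI n⟩

end

end Groth.Agent.Lib.Helper17.KInj
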