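import Groth.Agent.Lib.Helper17KInjD5
import Groth.Agent.Lib.Helper17KInjE1
import Mathlib.Algebra.Homology.HomotopyCategory.DegreewiseSplit
import Mathlib.Algebra.Homology.HomologySequenceLemmas

/-!
# Filtered K-injective embeddings: general lemmas (helper17)
-/

set_option autoImplicit false

universe w w' v u

open CategoryTheory CategoryTheory.Limits HomologicalComplex CochainComplex HomComplex

namespace Groth.Agent.Lib.Helper17.FilKInj

open Groth.Agent.Lib.Helper17.KInj Groth.Agent.Lib.Helper17.QProd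

section Abelian

variable {C : Type u} [Category.{v} C] [Abelian C]

lemma injective_cokernel_of_mono {X Y : C} (f : X ⟶ Y) [Mono f] [Injective X] [Injective Y] :
    Injective (cokernel f) := by
  obtain ⟨r, hr⟩ : ∃ r : Y ⟶ X, f ≫ r = 𝟙 X :=
    ⟨Injective.factorThru (𝟙 X) f, Injective.comp_factorThru _ _⟩
  obtain ⟨s, hs⟩ : ∃ s : cokernel f ⟶ Y, cokernel.π f ≫ s = 𝟙 Y - r ≫ f :=
    ⟨cokernel.desc f (𝟙 Y - r ≫ f) (by
      rw [Preadditive.comp_sub, Category.comp_id, ← Category.assoc, hr, Category.id_comp,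
        sub_self]), cokernel.π_desc _ _ _⟩
  have hs' : s ≫ cokernel.π f = 𝟙 _ := by
    rw [← cancel_epi (cokernel.π f), ← Category.assoc, hs, Preadditive.sub_comp,
      Category.id_comp, Category.assoc, cokernel.condition, comp_zero, sub_zero,
      Category.comp_id]
  exact Retract.injective ⟨s, cokernel.π f, hs'⟩

lemma isKInjective_cokernel_of_mono {X Y : CochainComplex C ℤ} (f : X ⟶ Y) [Mono f]
    [X.IsKInjective] [Y.IsKInjective] (hX : ∀ n, Injective (X.X n)) :
    (cokernel f).IsKInjective := by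
  have hS := shortExact_of_mono f
  have hSn : ∀ n, ((ShortComplex.mk f (cokernel.π f) (cokernel.condition f)).map
      (HomologicalComplex.eval C (ComplexShape.up ℤ) n)).ShortExact :=
    fun n => hS.map_of_exact _
  let σ : ∀ n, ((ShortComplex.mk f (cokernel.π f) (cokernel.condition f)).map
      (HomologicalComplex.eval C (ComplexShape.up ℤ) n)).Splitting := fun n =>
    haveI : Injective ((ShortComplex.mk f (cokernel.π f) (cokernel.condition f)).map
      (HomologicalComplex.eval C (ComplexShape.up ℤ) n)).X₁ := hX n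
    (hSn n).splittingOfInjective
  have hT : CochainComplex.trianglehOfDegreewiseSplit _ σ ∈
      distTriang (HomotopyCategory C (ComplexShape.up ℤ)) :=
    (HomotopyCategory.distinguished_iff_iso_trianglehOfDegreewiseSplit _).2
      ⟨_, σ, ⟨Iso.refl _⟩⟩
  rw [isKInjective_iff_rightOrthogonal]
  exact (HomotopyCategory.subcategoryAcyclic C).rightOrthogonal.ext_of_isTriangulatedClosed₃ _
    hT (IsKInjective.rightOrthogonal X) (IsKInjective.rightOrthogonal Y)

lemma exists_quasiIso_cokernel_map {X₁ X₂ Y₁ Y₂ : CochainComplex C ℤ} (f : X₁ ⟶ X₂) [Mono f]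
    (f' : Y₁ ⟶ Y₂) [Mono f'] (a₁ : X₁ ⟶ Y₁) (a₂ : X₂ ⟶ Y₂) (hc : f ≫ a₂ = a₁ ≫ f')
    [QuasiIso a₁] [QuasiIso a₂] :
    ∃ a₃ : cokernel f ⟶ cokernel f', cokernel.π f ≫ a₃ = a₂ ≫ cokernel.π f' ∧ QuasiIso a₃ := by
  obtain ⟨a₃, ha₃⟩ : ∃ a₃ : cokernel f ⟶ cokernel f',
      cokernel.π f ≫ a₃ = a₂ ≫ cokernel.π f' :=
    ⟨cokernel.desc f (a₂ ≫ cokernel.π f') (by
      rw [← Category.assoc, hc, Category.assoc, cokernel.condition, comp_zero]),
      cokernel.π_desc _ _ _⟩
  refine ⟨a₃, ha₃, ?_⟩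
  let φ : ShortComplex.mk f (cokernel.π f) (cokernel.condition f) ⟶
      ShortComplex.mk f' (cokernel.π f') (cokernel.condition f') :=
    { τ₁ := a₁
      τ₂ := a₂
      τ₃ := a₃
      comm₁₂ := hc.symm
      comm₂₃ := ha₃.symm }
  exact HomologicalComplex.HomologySequence.quasiIso_τ₃ φ (shortExact_of_mono f)
    (shortExact_of_mono f') (inferInstanceAs (QuasiIso a₁)) (inferInstanceAs (QuasiIso a₂))

end Abelian

end Groth.Agent.Lib.Helper17.FilKInj
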