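import Groth.Agent.Lib.Helper17FilKInj1
import Mathlib.Algebra.Homology.HomotopyCategory.Pretriangulated

/-!
# Filtered K-injective embeddings: products with contractible factors, cones of identities
(helper17)
-/

set_option autoImplicit false

universe w w' v u

open CategoryTheory CategoryTheory.Limits HomologicalComplex CochainComplex HomComplex

namespace Groth.Agent.Lib.Helper17.FilKInj

open Groth.Agent.Lib.Helper17.KInj Groth.Agent.Lib.Helper17.QProd

section ProdNone

variable {C : Type u} [Category.{v} C] [Abelian C] {T : Type w'}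
  [HasLimitsOfShape (Discrete (Option T)) C]

/-- the components of the section of the projection to the `none` factor. -/
def sComp (X : Option T → CochainComplex C ℤ) : ∀ o : Option T, X none ⟶ X o
  | none => 𝟙 _
  | some _ => 0

lemma quasiIso_prodCxπ_none (X : Option T → CochainComplex C ℤ)
    (hX : ∀ t, Nonempty (Homotopy (𝟙 (X (some t))) 0)) : QuasiIso (prodCxπ X none) := by
  obtain ⟨s, hs⟩ : ∃ s : X none ⟶ prodCx X, ∀ o, s ≫ prodCxπ X o = sComp X o :=
    ⟨(isLimitProdCx X).lift (Fan.mk (X none) (sComp X)),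
      fun o => (isLimitProdCx X).fac (Fan.mk (X none) (sComp X)) ⟨o⟩⟩
  have hs0 : s ≫ prodCxπ X none = 𝟙 _ := hs none
  obtain ⟨H⟩ : Nonempty (Homotopy (𝟙 (prodCx X) - prodCxπ X none ≫ s) 0) := by
    apply homotopy_zero_of_prodCxπ X
    rintro (_ | t)
    · exact ⟨Homotopy.ofEq (by
        rw [Preadditive.sub_comp, Category.assoc, hs0, Category.comp_id, Category.id_comp,
          sub_self])⟩
    · obtain ⟨Ht⟩ := hX t
      have h1 : (𝟙 (prodCx X) - prodCxπ X none ≫ s) ≫ prodCxπ X (some t) =
          prodCxπ X (some t) ≫ 𝟙 _ := by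
        rw [Preadditive.sub_comp, Category.assoc, hs (some t), Category.id_comp,
          Category.comp_id]
        change _ - prodCxπ X none ≫ 0 = _
        rw [comp_zero, sub_zero]
      exact ⟨(Homotopy.ofEq h1).trans ((Ht.compLeft (prodCxπ X (some t))).trans
        (Homotopy.ofEq (by simp)))⟩
  have H' : Homotopy (prodCxπ X none ≫ s) (𝟙 (prodCx X)) :=
    ((Homotopy.ofEq (by simp)).trans ((H.add (Homotopy.refl (prodCxπ X none ≫ s))).trans
      (Homotopy.ofEq (by simp)))).symm
  exact HomotopyEquiv.quasiIso_hom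
    { hom := prodCxπ X none
      inv := s
      homotopyHomInvId := H'
      homotopyInvHomId := Homotopy.ofEq hs0 }

end ProdNone

section Cone

variable {C : Type u} [Category.{v} C] [Abelian C]

/-- the cone of the identity. -/
noncomputable abbrev cId (X : CochainComplex C ℤ) : CochainComplex C ℤ := mappingCone (𝟙 X)

/-- the inclusion in the cone of the identity. -/
noncomputable abbrev tId (X : CochainComplex C ℤ) : X ⟶ cId X := mappingCone.inr (𝟙 X)

instance mono_tId (X : CochainComplex C ℤ) : Mono (tId X) := by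
  haveI : ∀ n, Mono ((tId X).f n) := fun n =>
    mono_of_mono_fac (mappingCone.inr_f_snd_v (𝟙 X) n)
  exact HomologicalComplex.mono_of_mono_f (tId X) this

lemma injective_cId_X (X : CochainComplex C ℤ) (hX : ∀ n, Injective (X.X n)) (n : ℤ) :
    Injective ((cId X).X n) := by
  haveI := hX (n + 1)
  haveI := hX n
  exact Injective.of_iso (homotopyCofiber.XIsoBiprod (𝟙 X) n (n + 1) rfl).symm inferInstance

instance isKInjective_cId (X : CochainComplex C ℤ) [X.IsKInjective] : (cId X).IsKInjective :=
  isKInjective_mappingCone (𝟙 X)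

lemma exists_ext_to_cId {Y Z X : CochainComplex C ℤ} (m : Y ⟶ Z) [Mono m]
    (hX : ∀ n, Injective (X.X n)) (a : Y ⟶ X) : ∃ u : Z ⟶ cId X, m ≫ u = a ≫ tId X := by
  haveI : ∀ n, Mono (m.f n) := fun n => inferInstance
  obtain ⟨g, hg⟩ : ∃ g : Cochain Z X 0,
      (Cochain.ofHom m).comp g (zero_add 0) = Cochain.ofHom a := by
    refine ⟨Cochain.ofHoms (fun n => Injective.factorThru (a.f n) (m.f n)), ?_⟩
    ext n
    rw [Cochain.zero_cochain_comp_v, Cochain.ofHom_v, Cochain.ofHoms_v, Cochain.ofHom_v,
      Injective.comp_factorThru]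
  have hα : δ 1 2 (-(δ 0 1 g)) = 0 := by rw [δ_neg, δ_δ, neg_zero]
  have heq : δ 0 1 g + (Cocycle.mk (-(δ 0 1 g)) 2 (by simp) hα).1.comp
      (Cochain.ofHom (𝟙 X)) (add_zero 1) = 0 := by
    rw [Cocycle.mk_coe, Cochain.comp_id, add_neg_cancel]
  refine ⟨mappingCone.lift (𝟙 X) (Cocycle.mk (-(δ 0 1 g)) 2 (by simp) hα) g heq, ?_⟩
  ext n
  apply mappingCone.ext_to (𝟙 X) n (n + 1) rfl
  · rw [HomologicalComplex.comp_f, HomologicalComplex.comp_f, Category.assoc, Category.assoc,
      mappingCone.lift_f_fst_v, mappingCone.inr_f_fst_v, comp_zero, Cocycle.mk_coe,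
      Cochain.neg_v, Preadditive.comp_neg, neg_eq_zero]
    have h1 := Cochain.congr_v (congrArg (δ 0 1) hg) n (n + 1) rfl
    rw [δ_ofHom_comp, δ_ofHom, Cochain.zero_cochain_comp_v, Cochain.ofHom_v,
      Cochain.zero_v] at h1
    exact h1
  · rw [HomologicalComplex.comp_f, HomologicalComplex.comp_f, Category.assoc, Category.assoc,
      mappingCone.lift_f_snd_v, mappingCone.inr_f_snd_v, Category.comp_id]
    have h1 := Cochain.congr_v hg n n (add_zero n)
    rw [Cochain.zero_cochain_comp_v, Cochain.ofHom_v, Cochain.ofHom_v] at h1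
    exact h1

end Cone

end Groth.Agent.Lib.Helper17.FilKInj
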