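import Groth.Agent.Lib.Helper17FilKInj2
import Groth.Prelude.Def_SpSeq

/-!
# Filtered K-injective embeddings: the abstract assembly (helper17)
-/

set_option autoImplicit false

universe w w' v u

open CategoryTheory CategoryTheory.Limits HomologicalComplex CochainComplex HomComplex

namespace Groth.Agent.Lib.Helper17.FilKInj

open Groth.Agent.Lib.Helper17.KInj Groth.Agent.Lib.Helper17.QProd

section Assembly

variable {A : Type u} [Category.{v} A] [Abelian A]

lemma injective_filX_step (J : SpSeq.FilCx A) (hstep : ∀ p n, Injective ((J.step p).X n))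
    (n p : ℤ) : Injective ((J.XFil n).step p) := by
  haveI := hstep p n
  exact Injective.of_iso (Subobject.underlyingIso ((J.fil p).arrow.f n)).symm inferInstance

theorem assembly (K J : SpSeq.FilCx A) (j : K ⟶ J)
    (hJ : CochainComplex.IsKInjective J.obj) (hJX : ∀ n, Injective (J.obj.X n))
    (hstep : ∀ p, CochainComplex.IsKInjective (J.step p))
    (hstepX : ∀ p n, Injective ((J.step p).X n))
    (hj : QuasiIso j.hom)
    (hjp : ∀ p : ℤ, ∃ jp : K.step p ⟶ J.step p,
      jp ≫ (J.fil p).arrow = (K.fil p).arrow ≫ j.hom ∧ QuasiIso jp) :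
    (∀ n p : ℤ, Injective (J.obj.X n) ∧ Injective ((J.XFil n).step p) ∧
        Injective ((J.XFil n).quot p) ∧
        ∀ (p' : ℤ) (h : p ≤ p'), Injective (cokernel ((J.XFil n).stepLE h))) ∧
      (CochainComplex.IsKInjective J.obj ∧ ∀ p : ℤ, CochainComplex.IsKInjective (J.step p) ∧
        CochainComplex.IsKInjective (J.quot p) ∧
        ∀ (p' : ℤ) (h : p ≤ p'), CochainComplex.IsKInjective (cokernel (J.stepLE h))) ∧
      QuasiIso j.hom ∧
      (∀ p : ℤ, ∃ jp : K.step p ⟶ J.step p,
        jp ≫ (J.fil p).arrow = (K.fil p).arrow ≫ j.hom ∧ QuasiIso jp ∧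
        (∀ (p' : ℤ) (h : p ≤ p'), ∃ (jp' : K.step p' ⟶ J.step p')
          (jg : cokernel (K.stepLE h) ⟶ cokernel (J.stepLE h)),
          jp' ≫ (J.fil p').arrow = (K.fil p').arrow ≫ j.hom ∧
          jp' ≫ J.stepLE h = K.stepLE h ≫ jp ∧
          cokernel.π (K.stepLE h) ≫ jg = jp ≫ cokernel.π (J.stepLE h) ∧ QuasiIso jg)) ∧
      (∀ p : ℤ, ∃ jq : K.quot p ⟶ J.quot p,
        cokernel.π (K.fil p).arrow ≫ jq = j.hom ≫ cokernel.π (J.fil p).arrow ∧ QuasiIso jq) := by
  choose jp hjp1 hjp2 using hjp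
  refine ⟨fun n p => ⟨hJX n, injective_filX_step J hstepX n p, ?_, fun p' h => ?_⟩,
    ⟨hJ, fun p => ⟨hstep p, ?_, fun p' h => ?_⟩⟩, hj, fun p => ⟨jp p, hjp1 p, hjp2 p,
      fun p' h => ?_⟩, fun p => ?_⟩
  · haveI := injective_filX_step J hstepX n p
    haveI : Injective (J.XFil n).obj := hJX n
    exact injective_cokernel_of_mono ((J.XFil n).fil p).arrow
  · haveI := injective_filX_step J hstepX n p
    haveI := injective_filX_step J hstepX n p'
    exact injective_cokernel_of_mono ((J.XFil n).stepLE h)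
  · haveI := hstep p
    exact isKInjective_cokernel_of_mono (J.fil p).arrow (hstepX p)
  · haveI := hstep p
    haveI := hstep p'
    exact isKInjective_cokernel_of_mono (J.stepLE h) (hstepX p')
  · have hc : K.stepLE h ≫ jp p = jp p' ≫ J.stepLE h := by
      rw [← cancel_mono (J.fil p).arrow, Category.assoc, Category.assoc, hjp1 p,
        Subobject.ofLE_arrow, hjp1 p', ← Category.assoc, Subobject.ofLE_arrow]
    haveI := hjp2 p
    haveI := hjp2 p'
    obtain ⟨jg, hjg1, hjg2⟩ := exists_quasiIso_cokernel_map (K.stepLE h) (J.stepLE h)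
      (jp p') (jp p) hc
    exact ⟨jp p', jg, hjp1 p', hc.symm, hjg1, hjg2⟩
  · haveI := hjp2 p
    exact exists_quasiIso_cokernel_map (K.fil p).arrow (J.fil p).arrow (jp p) j.hom
      (hjp1 p).symm

end Assembly

end Groth.Agent.Lib.Helper17.FilKInj
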