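import Groth.Agent.Lib.Helper17FilKInj3

/-!
# Filtered K-injective embeddings: the construction (helper17)
-/

set_option autoImplicit false

universe w w' v u

open CategoryTheory CategoryTheory.Limits HomologicalComplex CochainComplex HomComplex

namespace Groth.Agent.Lib.Helper17.FilKInj

open Groth.Agent.Lib.Helper17.KInj Groth.Agent.Lib.Helper17.QProd

section Construction

variable {A : Type u} [Category.{v} A] [Abelian A] [IsGrothendieckAbelian.{v} A]
  (K : SpSeq.FilCx A)

/-- the resolution of the total complex. -/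
noncomputable def cI : CochainComplex A ℤ := (fibRepl₀ A).obj K.obj

/-- the map to the resolution of the total complex. -/
noncomputable def cι : K.obj ⟶ cI K := (fibReplι₀ A).app K.obj

/-- the resolution of the steps. -/
noncomputable def cIp (p : ℤ) : CochainComplex A ℤ := (fibRepl₀ A).obj (K.step p)

/-- the map to the resolution of the steps. -/
noncomputable def cιp (p : ℤ) : K.step p ⟶ cIp K p := (fibReplι₀ A).app (K.step p)

/-- the map induced by the inclusion of a step. -/
noncomputable def cα (p : ℤ) : cIp K p ⟶ cI K := (fibRepl₀ A).map (K.fil p).arrow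

/-- the map induced by the inclusion between steps. -/
noncomputable def cαLE {p q : ℤ} (h : p ≤ q) : cIp K q ⟶ cIp K p :=
  (fibRepl₀ A).map (K.stepLE h)

lemma cαLE_cα {p q : ℤ} (h : p ≤ q) : cαLE K h ≫ cα K p = cα K q :=
  ((fibRepl₀ A).map_comp (K.stepLE h) (K.fil p).arrow).symm.trans
    (congrArg (fibRepl₀ A).map (Subobject.ofLE_arrow _))

lemma cαLE_refl (p : ℤ) : cαLE K (le_refl p) = 𝟙 _ :=
  (congrArg (fibRepl₀ A).map (Subobject.ofLE_refl _)).trans ((fibRepl₀ A).map_id _)

lemma cαLE_comp {p q r : ℤ} (h : p ≤ q) (h' : q ≤ r) :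
    cαLE K h' ≫ cαLE K h = cαLE K (h.trans h') :=
  ((fibRepl₀ A).map_comp (K.stepLE h') (K.stepLE h)).symm.trans
    (congrArg (fibRepl₀ A).map (Subobject.ofLE_comp_ofLE _ _ _ _ _))

lemma cιp_cα (p : ℤ) : cιp K p ≫ cα K p = (K.fil p).arrow ≫ cι K :=
  ((fibReplι₀ A).naturality (K.fil p).arrow).symm

lemma cιp_cαLE {p q : ℤ} (h : p ≤ q) : cιp K q ≫ cαLE K h = K.stepLE h ≫ cιp K p :=
  ((fibReplι₀ A).naturality (K.stepLE h)).symm

instance : QuasiIso (cι K) := (trivCof_fibReplι₀ A K.obj).2

instance (p : ℤ) : QuasiIso (cιp K p) := (trivCof_fibReplι₀ A (K.step p)).2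

instance : (cI K).IsKInjective := (fibrant_fibRepl₀ A K.obj).isKInjective

instance (p : ℤ) : (cIp K p).IsKInjective := (fibrant_fibRepl₀ A (K.step p)).isKInjective

lemma injective_cI_X (n : ℤ) : Injective ((cI K).X n) :=
  injective_X_of_rlp (fibrant_fibRepl₀ A K.obj) n

lemma injective_cIp_X (p n : ℤ) : Injective ((cIp K p).X n) :=
  injective_X_of_rlp (fibrant_fibRepl₀ A (K.step p)) n

/-- the contractible complexes. -/
noncomputable def cC (q : ℤ) : CochainComplex A ℤ := cId (cIp K q)

/-- the inclusions in the contractible complexes. -/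
noncomputable def ct (q : ℤ) : cIp K q ⟶ cC K q := tId (cIp K q)

instance (q : ℤ) : Mono (ct K q) := mono_tId _

instance (q : ℤ) : (cC K q).IsKInjective := isKInjective_cId _

lemma injective_cC_X (q n : ℤ) : Injective ((cC K q).X n) :=
  injective_cId_X _ (injective_cIp_X K q) n

lemma exists_cu (q : ℤ) : ∃ u : K.obj ⟶ cC K q, (K.fil q).arrow ≫ u = cιp K q ≫ ct K q :=
  exists_ext_to_cId (K.fil q).arrow (injective_cIp_X K q) (cιp K q)

/-- the maps to the contractible complexes. -/
noncomputable def cu (q : ℤ) : K.obj ⟶ cC K q := (exists_cu K q).choose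

lemma arrow_cu (q : ℤ) : (K.fil q).arrow ≫ cu K q = cιp K q ≫ ct K q :=
  (exists_cu K q).choose_spec

end Construction

end Groth.Agent.Lib.Helper17.FilKInj
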