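import Groth.Agent.Lib.Helper17FilKInj4

/-!
# Filtered K-injective embeddings: the products (helper17)
-/

set_option autoImplicit false

universe w w' v u

open CategoryTheory CategoryTheory.Limits HomologicalComplex CochainComplex HomComplex

namespace Groth.Agent.Lib.Helper17.FilKInj

open Groth.Agent.Lib.Helper17.KInj Groth.Agent.Lib.Helper17.QProd

section General

variable {C : Type u} [Category.{v} C] [Abelian C] {T : Type w'}
  [HasLimitsOfShape (Discrete T) C]

lemma injective_prodCx_X (X : T → CochainComplex C ℤ) (hX : ∀ t n, Injective ((X t).X n))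
    (n : ℤ) : Injective ((prodCx X).X n) := by
  haveI : ∀ t, Injective ((X t).X n) := fun t => hX t n
  change Injective (∏ᶜ fun t => (X t).X n)
  infer_instance

end General

section Products

variable {A : Type u} [Category.{v} A] [Abelian A] [IsGrothendieckAbelian.{v} A]
  [HasLimitsOfSize.{0, 0} A] (K : SpSeq.FilCx A)

/-- the family whose product is the total complex. -/
noncomputable def cXJ : Option ℤ → CochainComplex A ℤ
  | none => cI K
  | some q => cC K q

/-- the total complex. -/
noncomputable def cJ : CochainComplex A ℤ := prodCx (cXJ K)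

/-- the projection to the resolution. -/
noncomputable def cπI : cJ K ⟶ cI K := prodCxπ (cXJ K) none

/-- the projection to the contractible factors. -/
noncomputable def cπC (q : ℤ) : cJ K ⟶ cC K q := prodCxπ (cXJ K) (some q)

lemma cJ_hom_ext {T : CochainComplex A ℤ} {f g : T ⟶ cJ K} (h0 : f ≫ cπI K = g ≫ cπI K)
    (h : ∀ q, f ≫ cπC K q = g ≫ cπC K q) : f = g := by
  apply (isLimitProdCx (cXJ K)).hom_ext
  rintro ⟨_ | q⟩
  · exact h0
  · exact h q

/-- components of a map to the total complex. -/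
def cJComp {T : CochainComplex A ℤ} (a : T ⟶ cI K) (c : ∀ q, T ⟶ cC K q) :
    ∀ o, T ⟶ cXJ K o
  | none => a
  | some q => c q

/-- maps to the total complex. -/
noncomputable def cJLift {T : CochainComplex A ℤ} (a : T ⟶ cI K) (c : ∀ q, T ⟶ cC K q) :
    T ⟶ cJ K :=
  (isLimitProdCx (cXJ K)).lift (Fan.mk T (cJComp K a c))

@[reassoc]
lemma cJLift_πI {T : CochainComplex A ℤ} (a : T ⟶ cI K) (c : ∀ q, T ⟶ cC K q) :
    cJLift K a c ≫ cπI K = a :=
  (isLimitProdCx (cXJ K)).fac (Fan.mk T (cJComp K a c)) ⟨none⟩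

@[reassoc]
lemma cJLift_πC {T : CochainComplex A ℤ} (a : T ⟶ cI K) (c : ∀ q, T ⟶ cC K q) (q : ℤ) :
    cJLift K a c ≫ cπC K q = c q :=
  (isLimitProdCx (cXJ K)).fac (Fan.mk T (cJComp K a c)) ⟨some q⟩

instance : (cJ K).IsKInjective := by
  haveI : ∀ o, (cXJ K o).IsKInjective := by
    rintro (_ | q)
    · exact inferInstanceAs (cI K).IsKInjective
    · exact inferInstanceAs (cC K q).IsKInjective
  exact isKInjective_prodCx _

lemma injective_cJ_X (n : ℤ) : Injective ((cJ K).X n) := by
  apply injective_prodCx_X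
  rintro (_ | q) n
  · exact injective_cI_X K n
  · exact injective_cC_X K q n

instance : QuasiIso (cπI K) :=
  quasiIso_prodCxπ_none (cXJ K) (fun q => ⟨mappingCone.homotopyToZeroOfId (cIp K q)⟩)

/-- the family whose product is the `p`-th step. -/
noncomputable def cXP (p : ℤ) : Option {q : ℤ // p < q} → CochainComplex A ℤ
  | none => cIp K p
  | some q => cC K q.1

/-- the model of the `p`-th step. -/
noncomputable def cP (p : ℤ) : CochainComplex A ℤ := prodCx (cXP K p)

/-- the projection to the resolution. -/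
noncomputable def cρI (p : ℤ) : cP K p ⟶ cIp K p := prodCxπ (cXP K p) none

/-- the projection to the contractible factors. -/
noncomputable def cρC (p q : ℤ) (h : p < q) : cP K p ⟶ cC K q :=
  prodCxπ (cXP K p) (some ⟨q, h⟩)

lemma cP_hom_ext {p : ℤ} {T : CochainComplex A ℤ} {f g : T ⟶ cP K p}
    (h0 : f ≫ cρI K p = g ≫ cρI K p)
    (h : ∀ q (hq : p < q), f ≫ cρC K p q hq = g ≫ cρC K p q hq) : f = g := by
  apply (isLimitProdCx (cXP K p)).hom_ext
  rintro ⟨_ | ⟨q, hq⟩⟩
  · exact h0
  · exact h q hq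

/-- components of a map to the model of the `p`-th step. -/
def cPComp {p : ℤ} {T : CochainComplex A ℤ} (a : T ⟶ cIp K p)
    (c : ∀ q, p < q → (T ⟶ cC K q)) : ∀ o, T ⟶ cXP K p o
  | none => a
  | some q => c q.1 q.2

/-- maps to the model of the `p`-th step. -/
noncomputable def cPLift {p : ℤ} {T : CochainComplex A ℤ} (a : T ⟶ cIp K p)
    (c : ∀ q, p < q → (T ⟶ cC K q)) : T ⟶ cP K p :=
  (isLimitProdCx (cXP K p)).lift (Fan.mk T (cPComp K a c))

@[reassoc]
lemma cPLift_ρI {p : ℤ} {T : CochainComplex A ℤ} (a : T ⟶ cIp K p)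
    (c : ∀ q, p < q → (T ⟶ cC K q)) : cPLift K a c ≫ cρI K p = a :=
  (isLimitProdCx (cXP K p)).fac (Fan.mk T (cPComp K a c)) ⟨none⟩

@[reassoc]
lemma cPLift_ρC {p : ℤ} {T : CochainComplex A ℤ} (a : T ⟶ cIp K p)
    (c : ∀ q, p < q → (T ⟶ cC K q)) (q : ℤ) (hq : p < q) :
    cPLift K a c ≫ cρC K p q hq = c q hq :=
  (isLimitProdCx (cXP K p)).fac (Fan.mk T (cPComp K a c)) ⟨some ⟨q, hq⟩⟩

instance (p : ℤ) : (cP K p).IsKInjective := by
  haveI : ∀ o, (cXP K p o).IsKInjective := by
    rintro (_ | q)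
    · exact inferInstanceAs (cIp K p).IsKInjective
    · exact inferInstanceAs (cC K q.1).IsKInjective
  exact isKInjective_prodCx _

lemma injective_cP_X (p n : ℤ) : Injective ((cP K p).X n) := by
  apply injective_prodCx_X
  rintro (_ | q) n
  · exact injective_cIp_X K p n
  · exact injective_cC_X K q.1 n

instance (p : ℤ) : QuasiIso (cρI K p) :=
  quasiIso_prodCxπ_none (cXP K p) (fun q => ⟨mappingCone.homotopyToZeroOfId (cIp K q.1)⟩)

end Products

end Groth.Agent.Lib.Helper17.FilKInj
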