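import Groth.Agent.Lib.Helper17FilKInj5

/-!
# Filtered K-injective embeddings: the maps and the main theorem (helper17)
-/

set_option autoImplicit false

universe w w' v u

open CategoryTheory CategoryTheory.Limits HomologicalComplex CochainComplex HomComplex

namespace Groth.Agent.Lib.Helper17.FilKInj

open Groth.Agent.Lib.Helper17.KInj Groth.Agent.Lib.Helper17.QProd

section Maps

variable {A : Type u} [Category.{v} A] [Abelian A] [IsGrothendieckAbelian.{v} A]
  [HasLimitsOfSize.{0, 0} A] (K : SpSeq.FilCx A)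

/-- the components of the embedding of the model of the `p`-th step. -/
noncomputable def cφC (p q : ℤ) : cP K p ⟶ cC K q :=
  if h : p < q then cρC K p q h else cρI K p ≫ cαLE K (not_lt.1 h) ≫ ct K q

lemma cφC_of_lt {p q : ℤ} (h : p < q) : cφC K p q = cρC K p q h := dif_pos h

lemma cφC_of_le {p q : ℤ} (h : q ≤ p) : cφC K p q = cρI K p ≫ cαLE K h ≫ ct K q :=
  dif_neg (not_lt.2 h)

/-- the embedding of the model of the `p`-th step. -/
noncomputable def cφ (p : ℤ) : cP K p ⟶ cJ K := cJLift K (cρI K p ≫ cα K p) (cφC K p)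

@[reassoc]
lemma cφ_πI (p : ℤ) : cφ K p ≫ cπI K = cρI K p ≫ cα K p := cJLift_πI K _ _

@[reassoc]
lemma cφ_πC (p q : ℤ) : cφ K p ≫ cπC K q = cφC K p q := cJLift_πC K _ _ q

instance mono_cφ (p : ℤ) : Mono (cφ K p) := by
  refine ⟨fun {T} a b hab => ?_⟩
  apply cP_hom_ext
  · have h1 : (a ≫ cφ K p) ≫ cπC K p = (b ≫ cφ K p) ≫ cπC K p := by rw [hab]
    rw [Category.assoc, Category.assoc, cφ_πC, cφC_of_le K (le_refl p), cαLE_refl,
      Category.id_comp, ← Category.assoc, ← Category.assoc] at h1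
    exact (cancel_mono (ct K p)).1 h1
  · intro q hq
    have h1 : (a ≫ cφ K p) ≫ cπC K q = (b ≫ cφ K p) ≫ cπC K q := by rw [hab]
    rw [Category.assoc, Category.assoc, cφ_πC, cφC_of_lt K hq] at h1
    exact h1

/-- the transition maps between the models of the steps. -/
noncomputable def cψ {p p' : ℤ} (h : p ≤ p') : cP K p' ⟶ cP K p :=
  cPLift K (cρI K p' ≫ cαLE K h) (fun q _ => cφC K p' q)

lemma cψ_φ {p p' : ℤ} (h : p ≤ p') : cψ K h ≫ cφ K p = cφ K p' := by
  apply cJ_hom_ext
  · rw [Category.assoc, cφ_πI, cφ_πI, cψ, cPLift_ρI_assoc, Category.assoc, cαLE_cα]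
  · intro q
    rw [Category.assoc, cφ_πC, cφ_πC]
    by_cases hq : p < q
    · rw [cφC_of_lt K hq, cψ, cPLift_ρC]
    · have hq' : q ≤ p := not_lt.1 hq
      rw [cφC_of_le K hq', cψ, cPLift_ρI_assoc, cφC_of_le K (hq'.trans h), Category.assoc,
        ← Category.assoc (cαLE K h), cαLE_comp]

/-- the map to the total complex. -/
noncomputable def cj : K.obj ⟶ cJ K := cJLift K (cι K) (cu K)

/-- the maps to the models of the steps. -/
noncomputable def cjp (p : ℤ) : K.step p ⟶ cP K p :=
  cPLift K (cιp K p) (fun q _ => (K.fil p).arrow ≫ cu K q)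

lemma cjp_φ (p : ℤ) : cjp K p ≫ cφ K p = (K.fil p).arrow ≫ cj K := by
  apply cJ_hom_ext
  · rw [Category.assoc, cφ_πI, cjp, cPLift_ρI_assoc, Category.assoc, cj, cJLift_πI, cιp_cα]
  · intro q
    rw [Category.assoc, cφ_πC, Category.assoc, cj, cJLift_πC]
    by_cases hq : p < q
    · rw [cφC_of_lt K hq, cjp, cPLift_ρC]
    · have hq' : q ≤ p := not_lt.1 hq
      rw [cφC_of_le K hq', cjp, cPLift_ρI_assoc, ← Category.assoc, cιp_cαLE, Category.assoc,
        ← arrow_cu, ← Category.assoc, Subobject.ofLE_arrow]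

instance quasiIso_cj : QuasiIso (cj K) := by
  haveI : QuasiIso (cj K ≫ cπI K) := by
    rw [cj, cJLift_πI]
    infer_instance
  exact quasiIso_of_comp_right (cj K) (cπI K)

instance quasiIso_cjp (p : ℤ) : QuasiIso (cjp K p) := by
  haveI : QuasiIso (cjp K p ≫ cρI K p) := by
    rw [cjp, cPLift_ρI]
    infer_instance
  exact quasiIso_of_comp_right (cjp K p) (cρI K p)

/-- the filtered complex. -/
noncomputable def cFil : SpSeq.FilCx A where
  obj := cJ K
  fil p := Subobject.mk (cφ K p)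
  anti := fun _ _ h => Subobject.mk_le_mk_of_comm (cψ K h) (cψ_φ K h)

/-- the morphism of filtered complexes. -/
noncomputable def cHom : K ⟶ cFil K where
  hom := cj K
  compat p := by
    rw [Subobject.pullback_obj]
    refine Subobject.le_mk_of_comm (pullback.lift
      (cjp K p ≫ (Subobject.underlyingIso (cφ K p)).inv) (K.fil p).arrow ?_)
      (pullback.lift_snd _ _ _)
    exact (Category.assoc _ _ _).trans ((congrArg (cjp K p ≫ ·)
      (Subobject.underlyingIso_arrow (cφ K p))).trans (cjp_φ K p))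

end Maps

section Main

variable {A : Type u} [Category.{v} A] [Abelian A] [IsGrothendieckAbelian.{v} A]

theorem exists_filtered_kInjective_embedding (K : SpSeq.FilCx A) :
    ∃ (J : SpSeq.FilCx A) (j : K ⟶ J),
      (∀ n p : ℤ, Injective (J.obj.X n) ∧ Injective ((J.XFil n).step p) ∧
        Injective ((J.XFil n).quot p) ∧
        ∀ (p' : ℤ) (h : p ≤ p'), Injective (cokernel ((J.XFil n).stepLE h))) ∧
      (CochainComplex.IsKInjective J.obj ∧ ∀ p : ℤ, CochainComplex.IsKInjective (J.step p) ∧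
        CochainComplex.IsKInjective (J.quot p) ∧
        ∀ (p' : ℤ) (h : p ≤ p'), CochainComplex.IsKInjective (cokernel (J.stepLE h))) ∧
      QuasiIso j.hom ∧
      (∀ p : ℤ, ∃ jp : K.step p ⟶ J.step p,
        jp ≫ (J.fil p).arrow = (K.fil p).arrow ≫ j.hom ∧ QuasiIso jp ∧
        (∀ (p' : ℤ) (h : p ≤ p'), ∃ (jp' : K.step p' ⟶ J.step p')
          (jg : cokernel (K.stepLE h) ⟶ cokernel (J.stepLE h)),
          jp' ≫ (J.fil p').arrow = (K.fil p').arrow ≫ j.hom ∧
          jp' ≫ J.stepLE h = K.stepLE h ≫ jp ∧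
          cokernel.π (K.stepLE h) ≫ jg = jp ≫ cokernel.π (J.stepLE h) ∧ QuasiIso jg)) ∧
      (∀ p : ℤ, ∃ jq : K.quot p ⟶ J.quot p,
        cokernel.π (K.fil p).arrow ≫ jq = j.hom ≫ cokernel.π (J.fil p).arrow ∧ QuasiIso jq) := by
  haveI : HasLimitsOfSize.{0, 0} A := hasLimitsOfSizeShrink.{0, 0, v, v} A
  refine ⟨cFil K, cHom K, assembly K (cFil K) (cHom K) (inferInstanceAs (cJ K).IsKInjective)
    (injective_cJ_X K) (fun p => ?_) (fun p n => ?_) (inferInstanceAs (QuasiIso (cj K)))
    (fun p => ⟨cjp K p ≫ (Subobject.underlyingIso (cφ K p)).inv, ?_, ?_⟩)⟩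
  · exact isKInjective_of_iso (Subobject.underlyingIso (cφ K p)).symm
  · have e : (cP K p).X n ≅ ((cFil K).step p).X n :=
      (HomologicalComplex.eval A (ComplexShape.up ℤ) n).mapIso
        (Subobject.underlyingIso (cφ K p)).symm
    exact Injective.of_iso e (injective_cP_X K p n)
  · exact (Category.assoc _ _ _).trans ((congrArg (cjp K p ≫ ·)
      (Subobject.underlyingIso_arrow (cφ K p))).trans (cjp_φ K p))
  · infer_instance

end Main

end Groth.Agent.Lib.Helper17.FilKInj
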