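import Groth.Agent.Lib.Helper17FilKInj3

/-!
# Filtered complexes representing inverse systems in the derived category: generalities (helper17)
-/

set_option autoImplicit false

universe w w' v u

open CategoryTheory CategoryTheory.Limits HomologicalComplex CochainComplex HomComplex

namespace Groth.Agent.Lib.Helper17.FilRep

open Groth.Agent.Lib.Helper17.KInj Groth.Agent.Lib.Helper17.QProd Groth.Agent.Lib.Helper17.FilKInj

section Composites

variable {C : Type u} [Category.{v} C] (G : ℤ → C) (δ : ∀ (p q : ℤ), p + 1 = q → (G q ⟶ G p))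

/-- iterated composites of the transition maps. -/
noncomputable def δn : ∀ (n : ℕ) (p q : ℤ), p + n = q → (G q ⟶ G p)
  | 0, p, q, h => eqToHom (by
      have : q = p := by rw [← h]; simp
      rw [this])
  | n + 1, p, q, h => δ (q - 1) q (by omega) ≫ δn n p (q - 1) (by push_cast at h; omega)

lemma δn_zero (p : ℤ) : δn G δ 0 p p (by simp) = 𝟙 _ := by
  simp [δn]

lemma δn_succ (n : ℕ) (p q q' : ℤ) (h : p + n = q) (hq : q + 1 = q')
    (h' : p + ((n + 1 : ℕ) : ℤ) = q') :
    δn G δ (n + 1) p q' h' = δ q q' hq ≫ δn G δ n p q h := by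
  obtain rfl : q = q' - 1 := by omega
  rfl

lemma δn_congr {n n' : ℕ} (hn : n = n') (p q : ℤ) (h : p + n = q) :
    δn G δ n p q h = δn G δ n' p q (by rw [← hn]; exact h) := by
  subst hn
  rfl

/-- the composite transition maps. -/
noncomputable def δLE {q p : ℤ} (h : q ≤ p) : G p ⟶ G q :=
  δn G δ (p - q).toNat q p (by omega)

lemma δLE_refl (p : ℤ) : δLE G δ (le_refl p) = 𝟙 _ := by
  dsimp only [δLE]
  rw [δn_congr G δ (show (p - p).toNat = 0 by omega) p p (by omega)]
  exact δn_zero G δ p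

lemma δ_δLE {q p p' : ℤ} (h : q ≤ p) (hp : p + 1 = p') :
    δ p p' hp ≫ δLE G δ h = δLE G δ (show q ≤ p' by omega) := by
  dsimp only [δLE]
  rw [δn_congr G δ (show (p' - q).toNat = (p - q).toNat + 1 by omega) q p' (by omega)]
  exact (δn_succ G δ (p - q).toNat q p p' (by omega) hp (by push_cast; omega)).symm

end Composites

section StepDown

variable {C : Type u} [Category.{v} C] [Abelian C]

/-- correcting a map by a homotopy in order to get a strict extension. -/
lemma exists_strict_extension {X Y I : CochainComplex C ℤ} (m : Y ⟶ X) [Mono m]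
    (hI : ∀ n, Injective (I.X n)) (g : Y ⟶ I) (g' : X ⟶ I)
    (H : Homotopy (m ≫ g') g) :
    ∃ g'' : X ⟶ I, m ≫ g'' = g ∧ Nonempty (Homotopy g'' g') := by
  haveI : ∀ n, Mono (m.f n) := fun n => inferInstance
  obtain ⟨h, hh⟩ := Cochain.equivHomotopy _ _ H
  obtain ⟨h', hh'⟩ : ∃ h' : Cochain X I (-1), (Cochain.ofHom m).comp h' (zero_add (-1)) = h := by
    refine ⟨Cochain.mk (fun p q hpq => Injective.factorThru (h.v p q hpq) (m.f p)), ?_⟩
    ext p q hpq
    rw [Cochain.zero_cochain_comp_v, Cochain.ofHom_v, Cochain.mk_v, Injective.comp_factorThru]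
  have hc : δ 0 1 (Cochain.ofHom g' - δ (-1) 0 h') = 0 := by
    rw [δ_sub, δ_ofHom, δ_δ, sub_zero]
  refine ⟨Cocycle.homOf (Cocycle.mk _ 1 (by simp) hc), ?_, ?_⟩
  · apply Cochain.ofHom_injective
    rw [Cochain.ofHom_comp, Cocycle.cochain_ofHom_homOf_eq_coe]
    change (Cochain.ofHom m).comp (Cochain.ofHom g' - δ (-1) 0 h') (zero_add 0) = _
    rw [Cochain.comp_sub, ← Cochain.ofHom_comp, ← δ_ofHom_comp, hh', hh]
    simp
  · refine ⟨(Cochain.equivHomotopy _ _).symm ⟨-h', ?_⟩⟩
    rw [Cocycle.cochain_ofHom_homOf_eq_coe]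
    change Cochain.ofHom g' - δ (-1) 0 h' = _
    rw [δ_neg]
    abel

end StepDown

end Groth.Agent.Lib.Helper17.FilRep
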