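import Groth.Agent.Lib.Helper17FilRep1
import Groth.Agent.Lib.Helper17FilKInj5

/-!
# Filtered complexes representing inverse systems in the derived category: products (helper17)
-/

set_option autoImplicit false

universe w w' v u

open CategoryTheory CategoryTheory.Limits HomologicalComplex CochainComplex HomComplex

namespace Groth.Agent.Lib.Helper17.FilRep

open Groth.Agent.Lib.Helper17.KInj Groth.Agent.Lib.Helper17.QProd Groth.Agent.Lib.Helper17.FilKInj

section Products

variable {A : Type u} [Category.{v} A] [Abelian A] [HasLimitsOfSize.{0, 0} A]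
  (I : CochainComplex A ℤ) (G : ℤ → CochainComplex A ℤ)

/-- the family whose product is the total complex. -/
noncomputable def gXJ : Option ℤ → CochainComplex A ℤ
  | none => I
  | some q => cId (G q)

/-- the total complex. -/
noncomputable def gJ : CochainComplex A ℤ := prodCx (gXJ I G)

/-- the projection to the first factor. -/
noncomputable def gπI : gJ I G ⟶ I := prodCxπ (gXJ I G) none

/-- the projection to the contractible factors. -/
noncomputable def gπC (q : ℤ) : gJ I G ⟶ cId (G q) := prodCxπ (gXJ I G) (some q)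

lemma gJ_hom_ext {T : CochainComplex A ℤ} {f g : T ⟶ gJ I G} (h0 : f ≫ gπI I G = g ≫ gπI I G)
    (h : ∀ q, f ≫ gπC I G q = g ≫ gπC I G q) : f = g := by
  apply (isLimitProdCx (gXJ I G)).hom_ext
  rintro ⟨_ | q⟩
  · exact h0
  · exact h q

/-- components of a map to the total complex. -/
def gJComp {T : CochainComplex A ℤ} (a : T ⟶ I) (c : ∀ q, T ⟶ cId (G q)) :
    ∀ o, T ⟶ gXJ I G o
  | none => a
  | some q => c q

/-- maps to the total complex. -/
noncomputable def gJLift {T : CochainComplex A ℤ} (a : T ⟶ I) (c : ∀ q, T ⟶ cId (G q)) :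
    T ⟶ gJ I G :=
  (isLimitProdCx (gXJ I G)).lift (Fan.mk T (gJComp I G a c))

@[reassoc]
lemma gJLift_πI {T : CochainComplex A ℤ} (a : T ⟶ I) (c : ∀ q, T ⟶ cId (G q)) :
    gJLift I G a c ≫ gπI I G = a :=
  (isLimitProdCx (gXJ I G)).fac (Fan.mk T (gJComp I G a c)) ⟨none⟩

@[reassoc]
lemma gJLift_πC {T : CochainComplex A ℤ} (a : T ⟶ I) (c : ∀ q, T ⟶ cId (G q)) (q : ℤ) :
    gJLift I G a c ≫ gπC I G q = c q :=
  (isLimitProdCx (gXJ I G)).fac (Fan.mk T (gJComp I G a c)) ⟨some q⟩

instance : QuasiIso (gπI I G) :=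
  quasiIso_prodCxπ_none (gXJ I G) (fun q => ⟨mappingCone.homotopyToZeroOfId (G q)⟩)

/-- the family whose product is the `p`-th step. -/
noncomputable def gXP (p : ℤ) : Option {q : ℤ // p < q} → CochainComplex A ℤ
  | none => G p
  | some q => cId (G q.1)

/-- the model of the `p`-th step. -/
noncomputable def gP (p : ℤ) : CochainComplex A ℤ := prodCx (gXP G p)

/-- the projection to the first factor. -/
noncomputable def gρI (p : ℤ) : gP G p ⟶ G p := prodCxπ (gXP G p) none

/-- the projection to the contractible factors. -/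
noncomputable def gρC (p q : ℤ) (h : p < q) : gP G p ⟶ cId (G q) :=
  prodCxπ (gXP G p) (some ⟨q, h⟩)

lemma gP_hom_ext {p : ℤ} {T : CochainComplex A ℤ} {f g : T ⟶ gP G p}
    (h0 : f ≫ gρI G p = g ≫ gρI G p)
    (h : ∀ q (hq : p < q), f ≫ gρC G p q hq = g ≫ gρC G p q hq) : f = g := by
  apply (isLimitProdCx (gXP G p)).hom_ext
  rintro ⟨_ | ⟨q, hq⟩⟩
  · exact h0
  · exact h q hq

/-- components of a map to the model of the `p`-th step. -/
def gPComp {p : ℤ} {T : CochainComplex A ℤ} (a : T ⟶ G p)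
    (c : ∀ q, p < q → (T ⟶ cId (G q))) : ∀ o, T ⟶ gXP G p o
  | none => a
  | some q => c q.1 q.2

/-- maps to the model of the `p`-th step. -/
noncomputable def gPLift {p : ℤ} {T : CochainComplex A ℤ} (a : T ⟶ G p)
    (c : ∀ q, p < q → (T ⟶ cId (G q))) : T ⟶ gP G p :=
  (isLimitProdCx (gXP G p)).lift (Fan.mk T (gPComp G a c))

@[reassoc]
lemma gPLift_ρI {p : ℤ} {T : CochainComplex A ℤ} (a : T ⟶ G p)
    (c : ∀ q, p < q → (T ⟶ cId (G q))) : gPLift G a c ≫ gρI G p = a :=
  (isLimitProdCx (gXP G p)).fac (Fan.mk T (gPComp G a c)) ⟨none⟩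

@[reassoc]
lemma gPLift_ρC {p : ℤ} {T : CochainComplex A ℤ} (a : T ⟶ G p)
    (c : ∀ q, p < q → (T ⟶ cId (G q))) (q : ℤ) (hq : p < q) :
    gPLift G a c ≫ gρC G p q hq = c q hq :=
  (isLimitProdCx (gXP G p)).fac (Fan.mk T (gPComp G a c)) ⟨some ⟨q, hq⟩⟩

instance (p : ℤ) : QuasiIso (gρI G p) :=
  quasiIso_prodCxπ_none (gXP G p) (fun q => ⟨mappingCone.homotopyToZeroOfId (G q.1)⟩)

instance isKInjective_gP [∀ p, (G p).IsKInjective] (p : ℤ) : (gP G p).IsKInjective := by
  haveI : ∀ o, (gXP G p o).IsKInjective := by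
    rintro (_ | q)
    · exact inferInstanceAs (G p).IsKInjective
    · exact inferInstanceAs (cId (G q.1)).IsKInjective
  exact isKInjective_prodCx _

lemma injective_gP_X (hG : ∀ p n, Injective ((G p).X n)) (p n : ℤ) :
    Injective ((gP G p).X n) := by
  apply injective_prodCx_X
  rintro (_ | q) n
  · exact hG p n
  · exact injective_cId_X _ (hG q.1) n

end Products

end Groth.Agent.Lib.Helper17.FilRep
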