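import Groth.Agent.Lib.Helper17FilRep2

/-!
# Filtered complexes representing inverse systems in the derived category: the maps (helper17)
-/

set_option autoImplicit false

universe w w' v u

open CategoryTheory CategoryTheory.Limits HomologicalComplex CochainComplex HomComplex

namespace Groth.Agent.Lib.Helper17.FilRep

open Groth.Agent.Lib.Helper17.KInj Groth.Agent.Lib.Helper17.QProd Groth.Agent.Lib.Helper17.FilKInj

section Maps

variable {A : Type u} [Category.{v} A] [Abelian A] [HasLimitsOfSize.{0, 0} A]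
  (I : CochainComplex A ℤ) (G : ℤ → CochainComplex A ℤ)
  (δ : ∀ (p q : ℤ), p + 1 = q → (G q ⟶ G p))

/-- the components of the embeddings. -/
noncomputable def gφC (p r : ℤ) : gP G p ⟶ cId (G r) :=
  if h : p < r then gρC G p r h else gρI G p ≫ δLE G δ (not_lt.1 h) ≫ tId (G r)

lemma gφC_of_lt {p r : ℤ} (h : p < r) : gφC G δ p r = gρC G p r h := dif_pos h

lemma gφC_of_le {p r : ℤ} (h : r ≤ p) :
    gφC G δ p r = gρI G p ≫ δLE G δ h ≫ tId (G r) := dif_neg (not_lt.2 h)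

/-- the transition maps. -/
noncomputable def gψ (p q : ℤ) (h : p + 1 = q) : gP G q ⟶ gP G p :=
  gPLift G (gρI G q ≫ δ p q h) (fun r _ => gφC G δ q r)

@[reassoc]
lemma gψ_ρI (p q : ℤ) (h : p + 1 = q) : gψ G δ p q h ≫ gρI G p = gρI G q ≫ δ p q h :=
  gPLift_ρI G _ _

@[reassoc]
lemma gψ_ρC (p q : ℤ) (h : p + 1 = q) (r : ℤ) (hr : p < r) :
    gψ G δ p q h ≫ gρC G p r hr = gφC G δ q r :=
  gPLift_ρC G _ _ r hr

instance mono_gψ (p q : ℤ) (h : p + 1 = q) : Mono (gψ G δ p q h) := by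
  refine ⟨fun {T} a b hab => ?_⟩
  apply gP_hom_ext
  · have h1 : (a ≫ gψ G δ p q h) ≫ gρC G p q (by omega) =
        (b ≫ gψ G δ p q h) ≫ gρC G p q (by omega) := by rw [hab]
    rw [Category.assoc, Category.assoc, gψ_ρC, gφC_of_le G δ (le_refl q), δLE_refl,
      Category.id_comp, ← Category.assoc, ← Category.assoc] at h1
    exact (cancel_mono (tId (G q))).1 h1
  · intro r hr
    have h1 : (a ≫ gψ G δ p q h) ≫ gρC G p r (by omega) =
        (b ≫ gψ G δ p q h) ≫ gρC G p r (by omega) := by rw [hab]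
    rw [Category.assoc, Category.assoc, gψ_ρC, gφC_of_lt G δ hr] at h1
    exact h1

lemma gψ_φC (p q : ℤ) (h : p + 1 = q) (r : ℤ) :
    gψ G δ p q h ≫ gφC G δ p r = gφC G δ q r := by
  by_cases hr : p < r
  · rw [gφC_of_lt G δ hr, gψ_ρC]
  · have hr' : r ≤ p := not_lt.1 hr
    rw [gφC_of_le G δ hr', gψ_ρI_assoc, gφC_of_le G δ (show r ≤ q by omega),
      ← Category.assoc (δ p q h), δ_δLE G δ hr' h]

variable (γ : ∀ p, gP G p ⟶ I) (hγ : ∀ (p q : ℤ) (h : p + 1 = q), gψ G δ p q h ≫ γ p = γ q)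

/-- the embeddings. -/
noncomputable def gφ (p : ℤ) : gP G p ⟶ gJ I G := gJLift I G (γ p) (gφC G δ p)

@[reassoc]
lemma gφ_πI (p : ℤ) : gφ I G δ γ p ≫ gπI I G = γ p := gJLift_πI I G _ _

@[reassoc]
lemma gφ_πC (p q : ℤ) : gφ I G δ γ p ≫ gπC I G q = gφC G δ p q := gJLift_πC I G _ _ q

instance mono_gφ (p : ℤ) : Mono (gφ I G δ γ p) := by
  refine ⟨fun {T} a b hab => ?_⟩
  apply gP_hom_ext
  · have h1 : (a ≫ gφ I G δ γ p) ≫ gπC I G p = (b ≫ gφ I G δ γ p) ≫ gπC I G p := by rw [hab]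
    rw [Category.assoc, Category.assoc, gφ_πC, gφC_of_le G δ (le_refl p), δLE_refl,
      Category.id_comp, ← Category.assoc, ← Category.assoc] at h1
    exact (cancel_mono (tId (G p))).1 h1
  · intro q hq
    have h1 : (a ≫ gφ I G δ γ p) ≫ gπC I G q = (b ≫ gφ I G δ γ p) ≫ gπC I G q := by rw [hab]
    rw [Category.assoc, Category.assoc, gφ_πC, gφC_of_lt G δ hq] at h1
    exact h1

include hγ in
lemma gψ_φ (p q : ℤ) (h : p + 1 = q) : gψ G δ p q h ≫ gφ I G δ γ p = gφ I G δ γ q := by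
  apply gJ_hom_ext
  · rw [Category.assoc, gφ_πI, gφ_πI, hγ]
  · intro r
    rw [Category.assoc, gφ_πC, gφ_πC, gψ_φC]

/-- the filtered complex. -/
noncomputable def gFil : SpSeq.FilCx A where
  obj := gJ I G
  fil p := Subobject.mk (gφ I G δ γ p)
  anti := antitone_int_of_succ_le (fun p =>
    Subobject.mk_le_mk_of_comm (gψ G δ p (p + 1) rfl) (gψ_φ I G δ γ hγ p (p + 1) rfl))

/-- the steps of the filtered complex. -/
noncomputable def gFilStepIso (p : ℤ) : (gFil I G δ γ hγ).step p ≅ gP G p :=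
  Subobject.underlyingIso (gφ I G δ γ p)

@[reassoc]
lemma gFilStepIso_hom_φ (p : ℤ) :
    (gFilStepIso I G δ γ hγ p).hom ≫ gφ I G δ γ p = ((gFil I G δ γ hγ).fil p).arrow :=
  Subobject.underlyingIso_hom_comp_eq_mk _

lemma gFil_stepLE (p : ℤ) :
    (gFil I G δ γ hγ).stepLE (le_of_lt (Int.lt_succ_self p)) ≫ (gFilStepIso I G δ γ hγ p).hom =
      (gFilStepIso I G δ γ hγ (p + 1)).hom ≫ gψ G δ p (p + 1) rfl := by
  have h1 : ((gFil I G δ γ hγ).stepLE (le_of_lt (Int.lt_succ_self p)) ≫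
      (gFilStepIso I G δ γ hγ p).hom) ≫ gφ I G δ γ p =
      ((gFil I G δ γ hγ).fil (p + 1)).arrow := by
    rw [Category.assoc, gFilStepIso_hom_φ]
    exact Subobject.ofLE_arrow _
  have h2 : ((gFilStepIso I G δ γ hγ (p + 1)).hom ≫ gψ G δ p (p + 1) rfl) ≫ gφ I G δ γ p =
      ((gFil I G δ γ hγ).fil (p + 1)).arrow := by
    rw [Category.assoc, gψ_φ I G δ γ hγ, gFilStepIso_hom_φ]
  exact (cancel_mono (gφ I G δ γ p)).1 (h1.trans h2.symm)

end Maps

end Groth.Agent.Lib.Helper17.FilRep
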