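import Groth.Agent.Lib.Helper17FilRep3
import Groth.Agent.Lib.Helper17KInjD1

/-!
# Filtered complexes representing inverse systems in the derived category: strictification
(helper17)
-/

set_option autoImplicit false

universe w w' v u

open CategoryTheory CategoryTheory.Limits HomologicalComplex CochainComplex HomComplex
  DerivedCategory

namespace Groth.Agent.Lib.Helper17.FilRep

open Groth.Agent.Lib.Helper17.KInj Groth.Agent.Lib.Helper17.QProd Groth.Agent.Lib.Helper17.FilKInj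

section IntChoice

variable {X : ℤ → Type w'} (R : ∀ p q : ℤ, p + 1 = q → X p → X q → Prop) (x0 : X 0)
  (up : ∀ (p q : ℤ) (h : p + 1 = q) (x : X p), ∃ y : X q, R p q h x y)
  (down : ∀ (p q : ℤ) (h : p + 1 = q) (y : X q), ∃ x : X p, R p q h x y)

/-- the upwards sequence -/
noncomputable def upSeq : ∀ n : ℕ, X (Int.ofNat n)
  | 0 => x0
  | n + 1 => (up (Int.ofNat n) (Int.ofNat (n + 1)) rfl (upSeq n)).choose

lemma upSeq_spec (n : ℕ) :
    R (Int.ofNat n) (Int.ofNat (n + 1)) rfl (upSeq R x0 up n) (upSeq R x0 up (n + 1)) :=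
  (up (Int.ofNat n) (Int.ofNat (n + 1)) rfl (upSeq R x0 up n)).choose_spec

/-- the downwards sequence -/
noncomputable def downSeq : ∀ n : ℕ, X (Int.negSucc n)
  | 0 => (down (Int.negSucc 0) 0 rfl x0).choose
  | n + 1 => (down (Int.negSucc (n + 1)) (Int.negSucc n) rfl (downSeq n)).choose

lemma downSeq_zero_spec :
    R (Int.negSucc 0) 0 rfl (downSeq R x0 down 0) x0 :=
  (down (Int.negSucc 0) 0 rfl x0).choose_spec

lemma downSeq_spec (n : ℕ) :
    R (Int.negSucc (n + 1)) (Int.negSucc n) rfl (downSeq R x0 down (n + 1))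
      (downSeq R x0 down n) :=
  (down (Int.negSucc (n + 1)) (Int.negSucc n) rfl (downSeq R x0 down n)).choose_spec

include x0 up down in
/-- a two-sided dependent choice over the integers. -/
lemma exists_int_family : ∃ f : ∀ p, X p, ∀ p q h, R p q h (f p) (f q) := by
  refine ⟨fun p => match p with
    | Int.ofNat n => upSeq R x0 up n
    | Int.negSucc n => downSeq R x0 down n, ?_⟩
  rintro (n | n) q h
  · obtain rfl : q = Int.ofNat (n + 1) := h.symm
    exact upSeq_spec R x0 up n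
  · cases n with
    | zero =>
      obtain rfl : q = 0 := h.symm
      exact downSeq_zero_spec R x0 down
    | succ n =>
      obtain rfl : q = Int.negSucc n := h.symm
      exact downSeq_spec R x0 down n

end IntChoice

section Strictify

variable {A : Type u} [Category.{v} A] [Abelian A] [HasLimitsOfSize.{0, 0} A]
  [HasDerivedCategory.{w} A]
  (I : CochainComplex A ℤ) [I.IsKInjective] (hI : ∀ n, Injective (I.X n))
  (G : ℤ → CochainComplex A ℤ)
  (δ : ∀ (p q : ℤ), p + 1 = q → (G q ⟶ G p))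
  (c : ∀ p, (Q : _ ⥤ DerivedCategory A).obj (G p) ⟶ Q.obj I)
  (hc : ∀ (p q : ℤ) (h : p + 1 = q), Q.map (δ p q h) ≫ c p = c q)

include hc in
lemma good_up (p q : ℤ) (h : p + 1 = q) (g : gP G p ⟶ I)
    (hg : (Q : _ ⥤ DerivedCategory A).map g = Q.map (gρI G p) ≫ c p) :
    (Q : _ ⥤ DerivedCategory A).map (gψ G δ p q h ≫ g) = Q.map (gρI G q) ≫ c q := by
  rw [Functor.map_comp, hg, ← Category.assoc, ← Functor.map_comp, gψ_ρI, Functor.map_comp,
    Category.assoc, hc]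

include hI hc in
lemma good_down (p q : ℤ) (h : p + 1 = q) (g : gP G q ⟶ I)
    (hg : (Q : _ ⥤ DerivedCategory A).map g = Q.map (gρI G q) ≫ c q) :
    ∃ g'' : gP G p ⟶ I, gψ G δ p q h ≫ g'' = g ∧
      (Q : _ ⥤ DerivedCategory A).map g'' = Q.map (gρI G p) ≫ c p := by
  obtain ⟨g', hg'⟩ := exists_Q_map_eq (K := gP G p) (L := I)
    ((Q : _ ⥤ DerivedCategory A).map (gρI G p) ≫ c p)
  obtain ⟨H⟩ := homotopy_of_Q_map_eq (C := A) (g := gψ G δ p q h ≫ g') (g' := g) (by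
    rw [good_up I G δ c hc p q h g' hg', hg])
  obtain ⟨g'', h1, ⟨H'⟩⟩ := exists_strict_extension (gψ G δ p q h) hI g g' H
  exact ⟨g'', h1, (DerivedCategory.Q_map_eq_of_homotopy A H').trans hg'⟩

include hI hc in
/-- strictification of a homotopy-coherent cocone. -/
theorem exists_strict_cocone :
    ∃ γ : ∀ p, gP G p ⟶ I, (∀ (p q : ℤ) (h : p + 1 = q), gψ G δ p q h ≫ γ p = γ q) ∧
      ∀ p, (Q : _ ⥤ DerivedCategory A).map (γ p) = Q.map (gρI G p) ≫ c p := by
  obtain ⟨g0, hg0⟩ := exists_Q_map_eq (K := gP G 0) (L := I)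
    ((Q : _ ⥤ DerivedCategory A).map (gρI G 0) ≫ c 0)
  obtain ⟨f, hf⟩ := exists_int_family
    (X := fun p => {g : gP G p ⟶ I //
      (Q : _ ⥤ DerivedCategory A).map g = Q.map (gρI G p) ≫ c p})
    (fun p q h x y => gψ G δ p q h ≫ x.1 = y.1) ⟨g0, hg0⟩
    (fun p q h x => ⟨⟨gψ G δ p q h ≫ x.1, good_up I G δ c hc p q h x.1 x.2⟩, rfl⟩)
    (fun p q h y => by
      obtain ⟨g'', h1, h2⟩ := good_down I hI G δ c hc p q h y.1 y.2
      exact ⟨⟨g'', h2⟩, h1⟩)
  exact ⟨fun p => (f p).1, hf, fun p => (f p).2⟩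

end Strictify

section Main

open Groth.Agent.Lib.Helper17.KInj

variable {A : Type u} [Category.{v} A] [Abelian A]
    [IsGrothendieckAbelian.{v} A] [HasDerivedCategory.{w} A]

theorem exists_filtered_complex_representing_system
    (E : DerivedCategory A) (Es : ℤ → DerivedCategory A) (t : ∀ i : ℤ, Es (i + 1) ⟶ Es i)
    (a : ∀ i : ℤ, Es i ⟶ E) (hat : ∀ i : ℤ, t i ≫ a i = a (i + 1)) :
    ∃ (K : SpSeq.FilCx A) (e : DerivedCategory.Q.obj K.obj ≅ E)
      (ei : ∀ i : ℤ, DerivedCategory.Q.obj (K.step i) ≅ Es i),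
      (∀ i : ℤ, DerivedCategory.Q.map (K.fil i).arrow ≫ e.hom = (ei i).hom ≫ a i) ∧
      (∀ i : ℤ, DerivedCategory.Q.map (K.stepLE (le_of_lt (Int.lt_succ_self i))) ≫ (ei i).hom =
        (ei (i + 1)).hom ≫ t i) := by
  haveI : HasLimitsOfSize.{0, 0} A := hasLimitsOfSizeShrink.{0, 0, v, v} A
  obtain ⟨I, f, hIK, hf, -, hI⟩ := exists_kInjective_resolution.{v} A
    ((Q : _ ⥤ DerivedCategory A).objPreimage E)
  obtain ⟨eI⟩ : Nonempty ((Q : _ ⥤ DerivedCategory A).obj I ≅ E) :=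
    ⟨(asIso (Q.map f)).symm ≪≫ Q.objObjPreimageIso E⟩
  choose G fG hGK hfG _ hG using fun p : ℤ => exists_kInjective_resolution.{v} A
    ((Q : _ ⥤ DerivedCategory A).objPreimage (Es p))
  have eG : ∀ p, Nonempty ((Q : _ ⥤ DerivedCategory A).obj (G p) ≅ Es p) := fun p =>
    ⟨(asIso (Q.map (fG p))).symm ≪≫ Q.objObjPreimageIso (Es p)⟩
  replace eG := fun p => (eG p).some
  -- the transition maps
  have htR : ∃ tR : ∀ (p q : ℤ), p + 1 = q → (Es q ⟶ Es p),
      (∀ p q h, tR p q h ≫ a p = a q) ∧ ∀ p, tR p (p + 1) rfl = t p :=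
    ⟨fun p q h => by subst h; exact t p, fun p q h => by subst h; exact hat p, fun p => rfl⟩
  obtain ⟨tR, htRa, htRt⟩ := htR
  choose δ hδ using fun (p q : ℤ) (h : p + 1 = q) =>
    exists_Q_map_eq (K := G q) (L := G p) ((eG q).hom ≫ tR p q h ≫ (eG p).inv)
  obtain ⟨c, hc⟩ : ∃ c : ∀ p, (Q : _ ⥤ DerivedCategory A).obj (G p) ⟶ Q.obj I,
      ∀ p, c p = (eG p).hom ≫ a p ≫ eI.inv := ⟨_, fun _ => rfl⟩
  have hcδ : ∀ (p q : ℤ) (h : p + 1 = q), Q.map (δ p q h) ≫ c p = c q := by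
    intro p q h
    rw [hδ, hc, hc, Category.assoc, Category.assoc, Iso.inv_hom_id_assoc, ← htRa p q h,
      Category.assoc]
  obtain ⟨γ, hγ, hγc⟩ := exists_strict_cocone I hI G δ c hcδ
  obtain ⟨e1, he1⟩ : ∃ e1 : (Q : _ ⥤ DerivedCategory A).obj (gJ I G) ≅ Q.obj I,
      e1.hom = Q.map (gπI I G) := ⟨asIso _, rfl⟩
  obtain ⟨e2, he2⟩ : ∃ e2 : ∀ p, (Q : _ ⥤ DerivedCategory A).obj (gP G p) ≅ Q.obj (G p),
      ∀ p, (e2 p).hom = Q.map (gρI G p) := ⟨fun p => asIso (Q.map (gρI G p)), fun _ => rfl⟩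
  obtain ⟨e3, he3⟩ : ∃ e3 : ∀ p, (Q : _ ⥤ DerivedCategory A).obj ((gFil I G δ γ hγ).step p) ≅
      Q.obj (gP G p), ∀ p, (e3 p).hom = Q.map (gFilStepIso I G δ γ hγ p).hom :=
    ⟨fun p => Q.mapIso (gFilStepIso I G δ γ hγ p), fun _ => rfl⟩
  refine ⟨gFil I G δ γ hγ, e1 ≪≫ eI, fun p => e3 p ≪≫ e2 p ≪≫ eG p, ?_, ?_⟩
  · intro i
    have h1 : ((gFil I G δ γ hγ).fil i).arrow ≫ gπI I G =
        (gFilStepIso I G δ γ hγ i).hom ≫ γ i :=
      (congrArg (· ≫ gπI I G) (gFilStepIso_hom_φ I G δ γ hγ i).symm).trans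
        ((Category.assoc _ _ _).trans (congrArg ((gFilStepIso I G δ γ hγ i).hom ≫ ·)
          (gφ_πI I G δ γ i)))
    have h1' : (Q : _ ⥤ DerivedCategory A).map ((gFil I G δ γ hγ).fil i).arrow ≫ e1.hom =
        (e3 i).hom ≫ (e2 i).hom ≫ c i := by
      rw [he1, he3, he2, ← hγc, ← Functor.map_comp]
      exact ((Q : _ ⥤ DerivedCategory A).map_comp _ _).symm.trans
        (congrArg (Q : _ ⥤ DerivedCategory A).map h1)
    have h1'' : (Q : _ ⥤ DerivedCategory A).map ((gFil I G δ γ hγ).fil i).arrow ≫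
        (e1.hom ≫ eI.hom) = ((e3 i).hom ≫ ((e2 i).hom ≫ (eG i).hom)) ≫ a i := by
      rw [← Category.assoc, h1', hc]
      simp only [Category.assoc, Iso.inv_hom_id, Category.comp_id]
    exact h1''
  · intro i
    have h2 : (Q : _ ⥤ DerivedCategory A).map
          ((gFil I G δ γ hγ).stepLE (le_of_lt (Int.lt_succ_self i))) ≫ (e3 i).hom =
        (e3 (i + 1)).hom ≫ Q.map (gψ G δ i (i + 1) rfl) := by
      rw [he3, he3]
      exact ((Q : _ ⥤ DerivedCategory A).map_comp _ _).symm.trans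
        ((congrArg (Q : _ ⥤ DerivedCategory A).map (gFil_stepLE I G δ γ hγ i)).trans
          ((Q : _ ⥤ DerivedCategory A).map_comp _ _))
    have h3 : (Q : _ ⥤ DerivedCategory A).map (gψ G δ i (i + 1) rfl) ≫
        ((e2 i).hom ≫ (eG i).hom) = ((e2 (i + 1)).hom ≫ (eG (i + 1)).hom) ≫ t i := by
      rw [he2, he2, ← Category.assoc, ← Functor.map_comp, gψ_ρI, Functor.map_comp, hδ, htRt]
      simp only [Category.assoc, Iso.inv_hom_id, Category.comp_id]
    have h4 : (Q : _ ⥤ DerivedCategory A).map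
          ((gFil I G δ γ hγ).stepLE (le_of_lt (Int.lt_succ_self i))) ≫
        ((e3 i).hom ≫ ((e2 i).hom ≫ (eG i).hom)) =
        ((e3 (i + 1)).hom ≫ ((e2 (i + 1)).hom ≫ (eG (i + 1)).hom)) ≫ t i :=
      ((Category.assoc _ _ _).symm.trans (congrArg (· ≫ ((e2 i).hom ≫ (eG i).hom)) h2)).trans
        ((Category.assoc _ _ _).trans ((congrArg ((e3 (i + 1)).hom ≫ ·) h3).trans
          (Category.assoc _ _ _).symm))
    exact h4

end Main

end Groth.Agent.Lib.Helper17.FilRep
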