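import Mathlib

/-!
# Functorial bounded below injective resolutions of diagrams of complexes (helper17)

For a Grothendieck abelian category `A` and a small category `J`, the functor category `J ⥤ A`
is Grothendieck abelian, hence has enough injectives; injective objects of `J ⥤ A` are objectwise
injective.  Consequently a diagram `C : J ⥤ CochainComplex A ℤ` of complexes which are
cohomologically `≥ n` admits a natural quasi-isomorphism to a diagram of strictly bounded below
complexes of injectives.
-/

set_option autoImplicit false

universe w u'

open CategoryTheory CategoryTheory.Limits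

namespace Groth.Agent.Lib.Helper17.FiltRes

section Groth

variable (A : Type u') [Category.{w} A] [Abelian A] [IsGrothendieckAbelian.{w} A]
  (J : Type w) [SmallCategory J]

instance hasSeparator_functor : HasSeparator (J ⥤ A) :=
  HasSeparator.of_equivalence ((opOpEquivalence J).congrLeft (E := A))

instance isGrothendieckAbelian_functor : IsGrothendieckAbelian.{w} (J ⥤ A) where
  locallySmall := inferInstance
  hasFilteredColimitsOfSize := ⟨fun K _ _ => inferInstance⟩
  ab5OfSize := ⟨fun K _ _ => inferInstance⟩
  hasSeparator := inferInstance

end Groth

section Inj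

variable {A : Type u'} [Category.{w} A] [Abelian A] [IsGrothendieckAbelian.{w} A]
  {J : Type w} [SmallCategory J]

lemma mono_sigmaDesc {K : Type w} {d d' : A} (f : d ⟶ d') [Mono f] :
    Mono (Sigma.desc (fun h : K => f ≫ Sigma.ι (fun _ : K => d') h)) := by
  haveI : HasExactColimitsOfShape (Discrete K) A := inferInstance
  haveI : Mono (Discrete.natTrans (fun _ : Discrete K => f) :
      Discrete.functor (fun _ : K => d) ⟶ Discrete.functor (fun _ : K => d')) := by
    apply (config := { allowSynthFailures := true }) NatTrans.mono_of_mono_app
    intro k
    exact inferInstanceAs (Mono f)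
  exact colim.map_mono' (Discrete.natTrans (fun _ : Discrete K => f))
    (colimit.isColimit _) (colimit.isColimit _) _ (by rintro ⟨h⟩; simp)

instance preservesMonomorphisms_evaluationLeftAdjoint (j : J) :
    (evaluationLeftAdjoint A j).PreservesMonomorphisms where
  preserves f _ := by
    apply (config := { allowSynthFailures := true }) NatTrans.mono_of_mono_app
    intro t
    exact mono_sigmaDesc f

/-- injective objects of the functor category are objectwise injective. -/
lemma injective_obj (F : J ⥤ A) [Injective F] (j : J) : Injective (F.obj j) :=
  Injective.injective_of_adjoint (evaluationAdjunctionRight A j) F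

end Inj

section Res

variable {A : Type u'} [Category.{w} A] [Abelian A] {J : Type w} [SmallCategory J]

/-- a diagram of complexes as a complex of diagrams -/
@[simps]
def bigC {ι : Type*} {c : ComplexShape ι} (C : J ⥤ HomologicalComplex A c) :
    HomologicalComplex (J ⥤ A) c where
  X i := C ⋙ HomologicalComplex.eval A c i
  d i i' :=
    { app := fun j => (C.obj j).d i i'
      naturality := fun j j' g => (C.map g).comm i i' }
  shape i i' h := by
    ext j
    exact (C.obj j).shape i i' h
  d_comp_d' i i' i'' _ _ := by
    ext j
    exact (C.obj j).d_comp_d i i' i''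

variable [IsGrothendieckAbelian.{w} A]

/-- **functorial bounded below injective resolutions of diagrams of complexes.** -/
theorem exists_resolution (C : J ⥤ CochainComplex A ℤ) (n : ℤ) (hC : ∀ j, (C.obj j).IsGE n) :
    ∃ (I : J ⥤ CochainComplex A ℤ) (φ : C ⟶ I), (∀ j, QuasiIso (φ.app j)) ∧
      (∀ j m, Injective ((I.obj j).X m)) ∧ ∀ j, (I.obj j).IsStrictlyGE n := by
  let T := (ComplexShape.embeddingUpIntGE n).truncGEFunctor A
  let π : 𝟭 _ ⟶ T := (ComplexShape.embeddingUpIntGE n).πTruncGENatTrans A
  let C' : J ⥤ CochainComplex A ℤ := C ⋙ T
  let K : CochainComplex (J ⥤ A) ℤ := bigC C'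
  haveI : K.IsStrictlyGE n := by
    rw [CochainComplex.isStrictlyGE_iff]
    intro i hi
    apply Functor.isZero
    intro j
    exact ((C.obj j).truncGE n).isZero_of_isStrictlyGE n i hi
  obtain ⟨L, g, hg, hL, hLb⟩ :=
    CochainComplex.Plus.modelCategoryQuillen.exists_quasiIso_injective K n
  let ψ : C' ⟶ L.asFunctor :=
    { app := fun j =>
        { f := fun m => (g.f m).app j
          comm' := fun m m' _ => NatTrans.congr_app (g.comm m m') j }
      naturality := fun j j' a => by
        ext m
        exact (g.f m).naturality a }
  refine ⟨L.asFunctor, Functor.whiskerLeft C π ≫ ψ, fun j => ?_, fun j m => ?_, fun j => ?_⟩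
  · haveI : QuasiIso (π.app (C.obj j)) := by
      haveI := hC j
      exact inferInstanceAs (QuasiIso ((C.obj j).πTruncGE n))
    haveI : QuasiIso (ψ.app j) := by
      have h := (HomologicalComplex.quasiIso_iff_evaluation g).1 hg j
      have e : Arrow.mk ((((evaluation J A).obj j).mapHomologicalComplex
          (ComplexShape.up ℤ)).map g) ≅ Arrow.mk (ψ.app j) :=
        Arrow.isoMk (HomologicalComplex.Hom.isoOfComponents (fun i => Iso.refl _)
            (by intros; dsimp; erw [Category.id_comp, Category.comp_id]; rfl))
          (HomologicalComplex.Hom.isoOfComponents (fun i => Iso.refl _)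
            (by intros; dsimp; erw [Category.id_comp, Category.comp_id]; rfl))
          (by ext i; dsimp; erw [Category.id_comp, Category.comp_id]; rfl)
      exact (quasiIso_iff_of_arrow_mk_iso _ _ e).1 h
    exact inferInstanceAs (QuasiIso (π.app (C.obj j) ≫ ψ.app j))
  · haveI := hL m
    exact injective_obj (L.X m) j
  · rw [CochainComplex.isStrictlyGE_iff]
    intro i hi
    exact (L.isZero_of_isStrictlyGE n i hi).obj j

end Res

end Groth.Agent.Lib.Helper17.FiltRes
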