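import Mathlib
import Groth.Prelude.Def_RelSpec2
import Groth.Agent.Lib.Helper18DirImgQC
import Groth.Agent.Lib.Helper18DirImgColim

set_option autoImplicit false
set_option linter.style.haveILetI false
set_option linter.unusedSectionVars false
universe u
open CategoryTheory CategoryTheory.Limits AlgebraicGeometry Opposite TopologicalSpace

namespace Groth.Agent.Lib.Helper18.DirImgColim

open Groth.Agent.Lib.Helper16.QcSect Groth.Agent.Lib.Helper16.FiltColim

section main
variable {X S : Scheme.{u}} (f : X ⟶ S) [IsAffineHom f]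
  {J : Type u} [Preorder J] [Nonempty J] [IsDirected J (fun a b => a ≤ b)] (D : J ⥤ X.Modules)

theorem isIso_desc_dirImg :
    IsIso (colimit.desc (D ⋙ AMod.dirImg f) ((AMod.dirImg f).mapCocone (colimit.cocone D))) := by
  haveI : IsFiltered J := isFiltered_of_directed_le_nonempty J
  have key : ∀ (j : J) (V : S.Opens) (y : (D.obj j).val.obj (op (f ⁻¹ᵁ V))),
      ((colimit.desc (D ⋙ AMod.dirImg f)
        ((AMod.dirImg f).mapCocone (colimit.cocone D))).val.app (op V)).hom
        (((colimit.ι (D ⋙ AMod.dirImg f) j).val.app (op V)).hom y) =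
      ((colimit.ι D j).val.app (op (f ⁻¹ᵁ V))).hom y := by
    intro j V y
    have h := colimit.ι_desc ((AMod.dirImg f).mapCocone (colimit.cocone D)) j
    exact congrArg (fun φ => (φ.val.app (op V)).hom y) h
  refine isIso_of_bijective_on_basis (T := S.carrier) _ (fun V : S.affineOpens => V.1) ?_ ?_
  · rw [Subtype.range_coe]
    exact S.isBasis_affineOpens
  · rintro ⟨V, hV⟩
    have hV' : IsAffineOpen (f ⁻¹ᵁ V) := hV.preimage f
    constructor
    · rw [injective_iff_map_eq_zero]
      intro x hx
      obtain ⟨j, y, rfl⟩ := colim_surj (T := S.carrier) (D ⋙ AMod.dirImg f) V (qc2_of_isAffineOpen V hV)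
        (colimit.cocone _) (colimit.isColimit _) x
      have h1 := (key j V y).symm.trans hx
      obtain ⟨k, a, hk⟩ := colim_inj (T := X.carrier) D (f ⁻¹ᵁ V) (qc2_of_isAffineOpen _ hV')
        (colimit.cocone _) (colimit.isColimit _) j y h1
      have h2 := colimit.w (D ⋙ AMod.dirImg f) a
      have h3 := congrArg (fun φ => (φ.val.app (op V)).hom y) h2
      refine h3.symm.trans ?_
      change ((colimit.ι (D ⋙ AMod.dirImg f) k).val.app (op V)).hom
        (((D.map a).val.app (op (f ⁻¹ᵁ V))).hom y) = 0
      rw [hk]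
      exact map_zero _
    · intro t
      obtain ⟨j, y, rfl⟩ := colim_surj (T := X.carrier) D (f ⁻¹ᵁ V) (qc2_of_isAffineOpen _ hV')
        (colimit.cocone _) (colimit.isColimit _) t
      exact ⟨_, key j V y⟩

end main

end Groth.Agent.Lib.Helper18.DirImgColim
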