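import Groth.Agent.Lib.Helper17SumPush1
import Groth.Agent.Lib.Helper18DirImgMain

/-!
# Direct images and filtered colimits (helper17)

* `f_*` commutes with filtered colimits of `O_X`-modules for quasi-compact quasi-separated `f`;
* a filtered colimit of injective `O_X`-modules is `f_*`-acyclic.
-/

set_option autoImplicit false
set_option linter.style.haveILetI false
set_option linter.unusedSectionVars false

universe u

open CategoryTheory CategoryTheory.Limits AlgebraicGeometry Opposite TopologicalSpace

namespace Groth.Agent.Lib.Helper17.FiltRes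

open Groth.Agent.Lib.Helper18.DirImgColim Groth.Agent.Lib.Helper16.QcSect
  Groth.Agent.Lib.Helper16.FiltColim

section qc2

lemma qc2_of_isCompact_of_isQuasiSeparated {X : Scheme.{u}} (W : X.Opens)
    (hW : IsCompact (W : Set X)) (hW' : IsQuasiSeparated (W : Set X)) :
    QC2 (Opens.grothendieckTopology X) W := by
  refine qc2_of_basis (X := X.carrier) W hW (fun U => IsAffineOpen U ∧ U ≤ W) ?_ ?_ ?_
  · rintro U ⟨hU, -⟩
    exact hU.isCompact
  · rintro U V ⟨hU, hUW⟩ ⟨hV, hVW⟩
    exact hW' U V hUW U.isOpen hU.isCompact hVW V.isOpen hV.isCompact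
  · intro x U hxU hUW
    obtain ⟨A, hA, hxA, hAU⟩ := (Opens.isBasis_iff_nbhd.1 X.isBasis_affineOpens) hxU
    exact ⟨A, ⟨hA, hAU.trans hUW⟩, hxA, hAU⟩

end qc2

section push

variable {X S : Scheme.{u}} (f : X ⟶ S) [QuasiCompact f] [QuasiSeparated f]
  {J : Type u} [SmallCategory J] [IsFiltered J] (D : J ⥤ X.Modules)

theorem isIso_colimit_post_pushforward :
    IsIso (colimit.post D (Scheme.Modules.pushforward f)) := by
  have key : ∀ (j : J) (V : S.Opens) (y : (D.obj j).val.obj (op (f ⁻¹ᵁ V))),
      ((colimit.post D (Scheme.Modules.pushforward f)).val.app (op V)).hom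
        (((colimit.ι (D ⋙ Scheme.Modules.pushforward f) j).val.app (op V)).hom y) =
      ((colimit.ι D j).val.app (op (f ⁻¹ᵁ V))).hom y := by
    intro j V y
    have h := colimit.ι_post D (Scheme.Modules.pushforward f) j
    exact congrArg (fun φ => (φ.val.app (op V)).hom y) h
  refine isIso_of_bijective_on_basis (T := S.carrier) _ (fun V : S.affineOpens => V.1) ?_ ?_
  · rw [Subtype.range_coe]
    exact S.isBasis_affineOpens
  · rintro ⟨V, hV⟩
    have hV' : QC2 (Opens.grothendieckTopology X) (f ⁻¹ᵁ V) :=
      qc2_of_isCompact_of_isQuasiSeparated _ (f.isCompact_preimage hV.isCompact)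
        (f.isQuasiSeparated_preimage hV.isQuasiSeparated)
    constructor
    · rw [injective_iff_map_eq_zero]
      intro x hx
      obtain ⟨j, y, rfl⟩ := colim_surj (T := S.carrier) (D ⋙ Scheme.Modules.pushforward f) V
        (qc2_of_isAffineOpen V hV) (colimit.cocone _) (colimit.isColimit _) x
      have h1 := (key j V y).symm.trans hx
      obtain ⟨k, a, hk⟩ := colim_inj (T := X.carrier) D (f ⁻¹ᵁ V) hV'
        (colimit.cocone _) (colimit.isColimit _) j y h1
      have h2 := colimit.w (D ⋙ Scheme.Modules.pushforward f) a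
      have h3 := congrArg (fun φ => (φ.val.app (op V)).hom y) h2
      refine h3.symm.trans ?_
      change ((colimit.ι (D ⋙ Scheme.Modules.pushforward f) k).val.app (op V)).hom
        (((D.map a).val.app (op (f ⁻¹ᵁ V))).hom y) = 0
      rw [hk]
      exact map_zero _
    · intro t
      obtain ⟨j, y, rfl⟩ := colim_surj (T := X.carrier) D (f ⁻¹ᵁ V) hV'
        (colimit.cocone _) (colimit.isColimit _) t
      exact ⟨_, key j V y⟩

instance preservesColimit_pushforward : PreservesColimit D (Scheme.Modules.pushforward f) := by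
  haveI := isIso_colimit_post_pushforward f D
  exact preservesColimit_of_isIso_post _ _

instance preservesColimitsOfShape_pushforward :
    PreservesColimitsOfShape J (Scheme.Modules.pushforward f) := ⟨fun {D} => inferInstance⟩

end push

section acyc

variable {X S : Scheme.{u}} (f : X ⟶ S) [QuasiCompact f] [QuasiSeparated f]
  [HasInjectiveResolutions X.Modules]
  {J : Type u} [SmallCategory J] [IsFiltered J]

open Groth.Agent.Lib.Helper17.SumPush in
/-- for `f` quasi-compact and quasi-separated, filtered colimits of injective modules are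
`f_*`-acyclic. -/
theorem isZero_Rpush_of_isColimit_injective (D : J ⥤ X.Modules) (hD : ∀ j, Injective (D.obj j))
    (c : Cocone D) (hc : IsColimit c) (q : ℕ) :
    IsZero ((Coh.Rpush f (q + 1)).obj c.pt) := by
  apply isZero_of_isZero_toAb
  obtain ⟨e⟩ := Groth.Agent.Lib.Helper23.ModAbBridge.nonempty_toAb_Rpush_iso f c.pt (q + 1)
  refine IsZero.of_iso ?_ e
  let G : X.Modules ⥤ Sheaf (Opens.grothendieckTopology S) AddCommGrpCat.{u} :=
    SheafOfModules.toSheaf X.ringCatSheaf ⋙ Coh.RpushAb f (q + 1)
  change IsZero (G.obj c.pt)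
  haveI : PreservesColimitsOfShape J G := by
    haveI := Groth.Agent.S0484.preservesColimitsOfShape_toSheaf
      (Opens.grothendieckTopology X) X.ringCatSheaf J
    haveI := Groth.Agent.Lib.Helper9.TopColim.preservesColimitsOfShape_RpushAb f (q + 1) J
    exact comp_preservesColimitsOfShape (SheafOfModules.toSheaf X.ringCatSheaf)
      (Coh.RpushAb f (q + 1))
  have hc' := isColimitOfPreserves G hc
  rw [IsZero.iff_id_eq_zero]
  apply hc'.hom_ext
  intro j
  haveI := hD j
  exact (Groth.Agent.Lib.Helper23.ModAbBridge.isZero_RpushAb_of_injective f (D.obj j) q).eq_of_src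
    _ _

end acyc

end Groth.Agent.Lib.Helper17.FiltRes
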