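import Groth.Agent.Lib.Helper17FiltRes1
import Groth.Agent.Lib.Helper17FiltRes2
import Groth.Agent.Lib.Helper17AcycPush2
import Groth.Agent.Lib.Helper13HomologyColim

/-!
# `H^i Rf_*` commutes with filtered colimits of uniformly bounded below complexes (helper17)
-/

set_option autoImplicit false
set_option linter.style.haveILetI false
set_option linter.unusedSectionVars false

universe u

open CategoryTheory CategoryTheory.Limits AlgebraicGeometry

attribute [local instance] HasDerivedCategory.standard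

namespace Groth.Agent.Lib.Helper17.FiltRes

section Abstract

universe v₁ u₁ v₂ u₂ v₃ u₃

variable {𝒞 : Type u₁} [Category.{v₁} 𝒞] {𝒟 : Type u₂} [Category.{v₂} 𝒟]
  {J : Type u₃} [Category.{v₃} J]

/-- transport of colimit cocones along a natural transformation of functors and a natural
transformation of diagrams, both invertible where needed. -/
noncomputable def isColimitMapCoconeOfNatTrans {Φ Ψ : 𝒞 ⥤ 𝒟} (α : Ψ ⟶ Φ) {C I : J ⥤ 𝒞}
    (φ : C ⟶ I) (cC : Cocone C) (cI : Cocone I) (φ' : cC.pt ⟶ cI.pt)
    (hφ' : ∀ j, cC.ι.app j ≫ φ' = φ.app j ≫ cI.ι.app j)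
    (h1 : ∀ j, IsIso (Φ.map (φ.app j))) (h2 : IsIso (Φ.map φ'))
    (h3 : ∀ j, IsIso (α.app (I.obj j))) (h4 : IsIso (α.app cI.pt))
    (hΨ : IsColimit (Ψ.mapCocone cI)) : IsColimit (Φ.mapCocone cC) := by
  let e1 : I ⋙ Ψ ≅ I ⋙ Φ := NatIso.ofComponents (fun j => asIso (α.app (I.obj j)))
    (fun g => α.naturality _)
  have hΦI : IsColimit (Φ.mapCocone cI) :=
    (IsColimit.equivOfNatIsoOfIso e1 (Ψ.mapCocone cI) (Φ.mapCocone cI)
      (Cocone.ext (asIso (α.app cI.pt)) (fun j => by
        dsimp [e1]
        rw [Category.assoc, α.naturality, IsIso.inv_hom_id_assoc]))) hΨ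
  let e2 : C ⋙ Φ ≅ I ⋙ Φ := NatIso.ofComponents (fun j => asIso (Φ.map (φ.app j)))
    (fun g => by
      dsimp
      rw [← Φ.map_comp, ← Φ.map_comp, φ.naturality])
  exact (IsColimit.equivOfNatIsoOfIso e2 (Φ.mapCocone cC) (Φ.mapCocone cI)
    (Cocone.ext (asIso (Φ.map φ')) (fun j => by
      dsimp [e2]
      rw [Category.assoc, ← Φ.map_comp, hφ', Φ.map_comp, IsIso.inv_hom_id_assoc]))).symm hΦI

end Abstract

section QuasiIso

universe v₁ u₁ v₃ u₃

variable {A : Type u₁} [Category.{v₁} A] [Abelian A] {J : Type u₃} [Category.{v₃} J]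
  [HasColimitsOfShape J A] [HasExactColimitsOfShape J A] {ι : Type*} {c : ComplexShape ι}

open Groth.Agent.Helper13HomologyColim in
/-- exact colimits of quasi-isomorphisms are quasi-isomorphisms. -/
theorem quasiIso_of_isColimit {C I : J ⥤ HomologicalComplex A c} (φ : C ⟶ I)
    (hφ : ∀ j, QuasiIso (φ.app j)) (cC : Cocone C) (hC : IsColimit cC) (cI : Cocone I)
    (hI : IsColimit cI) (φ' : cC.pt ⟶ cI.pt)
    (hφ' : ∀ j, cC.ι.app j ≫ φ' = φ.app j ≫ cI.ι.app j) : QuasiIso φ' := by
  rw [quasiIso_iff]
  intro k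
  rw [quasiIsoAt_iff_isIso_homologyMap]
  let H := HomologicalComplex.homologyFunctor A c k
  have hC' := isColimitOfPreserves H hC
  have hI' := isColimitOfPreserves H hI
  haveI : ∀ j, IsIso (H.map (φ.app j)) := fun j => by
    haveI := hφ j
    exact inferInstanceAs (IsIso (HomologicalComplex.homologyMap (φ.app j) k))
  let ν : C ⋙ H ≅ I ⋙ H := NatIso.ofComponents (fun j => asIso (H.map (φ.app j)))
    (fun g => by
      dsimp
      rw [← H.map_comp, ← H.map_comp, φ.naturality])
  have h : H.map φ' = (IsColimit.coconePointsIsoOfNatIso hC' hI' ν).hom := by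
    apply hC'.hom_ext
    intro j
    rw [IsColimit.comp_coconePointsIsoOfNatIso_hom]
    dsimp [ν]
    rw [← H.map_comp, hφ', H.map_comp]
  change IsIso (H.map φ')
  rw [h]
  infer_instance

end QuasiIso

section Main

open Groth.Agent.Lib.Helper17.MV Groth.Agent.Lib.Helper17.QCPush Groth.Agent.Lib.Helper17.AcycPush

variable {X S : Scheme.{u}} (f : X ⟶ S) [DCoh.HasRpush f]

/-- `H^i` of the unit `f_* ⟶ Rf_*`, as a natural transformation on complexes. -/
noncomputable def unitH (i : ℤ) :
    ((Scheme.Modules.pushforward f).mapHomologicalComplex (ComplexShape.up ℤ) ⋙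
      DerivedCategory.Q ⋙ DerivedCategory.homologyFunctor S.Modules i) ⟶
    (DerivedCategory.Q ⋙ DCoh.Rpush f ⋙ DerivedCategory.homologyFunctor S.Modules i) where
  app K := (DerivedCategory.homologyFunctor S.Modules i).map
    (((DCoh.pushKh f).totalRightDerivedUnit DerivedCategory.Qh
      (HomotopyCategory.quasiIso X.Modules (ComplexShape.up ℤ))).app
        ((HomotopyCategory.quotient X.Modules (ComplexShape.up ℤ)).obj K))
  naturality K L g := by
    have h := ((DCoh.pushKh f).totalRightDerivedUnit DerivedCategory.Qh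
      (HomotopyCategory.quasiIso X.Modules (ComplexShape.up ℤ))).naturality
        ((HomotopyCategory.quotient X.Modules (ComplexShape.up ℤ)).map g)
    have h' := congrArg (fun t => (DerivedCategory.homologyFunctor S.Modules i).map t) h
    simp only [Functor.map_comp] at h'
    exact h'

variable [QuasiCompact f] [QuasiSeparated f] {J : Type u} [SmallCategory J] [IsFiltered J]

/-- **`H^i Rf_*` commutes with filtered colimits of uniformly bounded below complexes.** -/
theorem nonempty_isColimit_homology_Rpush (C : J ⥤ CochainComplex X.Modules ℤ) (n : ℤ)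
    (hC : ∀ j, (C.obj j).IsGE n) (cC : Cocone C) (hcC : IsColimit cC) (i : ℤ) :
    Nonempty (IsColimit ((DerivedCategory.Q ⋙ DCoh.Rpush f ⋙
      DerivedCategory.homologyFunctor S.Modules i).mapCocone cC)) := by
  haveI := isGrothendieckAbelian X
  haveI := isGrothendieckAbelian S
  haveI := enoughInjectives X
  haveI : HasInjectiveResolutions X.Modules := inferInstance
  obtain ⟨I, φ, hφ, hI, hIb⟩ := exists_resolution C n hC
  let cI := colimit.cocone I
  let φ' : cC.pt ⟶ cI.pt := hcC.desc ((Cocone.precompose φ).obj cI)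
  have hφ' : ∀ j, cC.ι.app j ≫ φ' = φ.app j ≫ cI.ι.app j := fun j => hcC.fac _ j
  have hq : QuasiIso φ' := quasiIso_of_isColimit φ hφ cC hcC cI (colimit.isColimit I) φ' hφ'
  have hev : ∀ m, IsColimit ((HomologicalComplex.eval X.Modules (ComplexShape.up ℤ) m).mapCocone cI) :=
    fun m => isColimitOfPreserves _ (colimit.isColimit I)
  haveI : cI.pt.IsStrictlyGE n := by
    rw [CochainComplex.isStrictlyGE_iff]
    intro m hm
    rw [IsZero.iff_id_eq_zero]
    apply (hev m).hom_ext
    intro j
    haveI := hIb j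
    exact ((I.obj j).isZero_of_isStrictlyGE n m hm).eq_of_src _ _
  have hacI : ∀ (j : J) (m : ℤ) (q : ℕ), 0 < q →
      IsZero ((Coh.Rpush f q).obj ((I.obj j).X m)) := by
    intro j m q hq
    obtain ⟨q, rfl⟩ : ∃ k, q = k + 1 := ⟨q - 1, by omega⟩
    haveI := hI j m
    exact Functor.isZero_rightDerived_obj_injective_succ _ q _
  have hacC : ∀ (m : ℤ) (q : ℕ), 0 < q → IsZero ((Coh.Rpush f q).obj (cI.pt.X m)) := by
    intro m q hq
    obtain ⟨q, rfl⟩ : ∃ k, q = k + 1 := ⟨q - 1, by omega⟩
    exact isZero_Rpush_of_isColimit_injective f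
      (I ⋙ HomologicalComplex.eval X.Modules (ComplexShape.up ℤ) m) (fun j => hI j m) _ (hev m) q
  have hαC := isIso_unit_of_isStrictlyGE f cI.pt n hacC
  have hαI := fun j => by
    haveI := hIb j
    exact isIso_unit_of_isStrictlyGE f (I.obj j) n (hacI j)
  refine ⟨isColimitMapCoconeOfNatTrans (unitH f i) φ cC cI φ' hφ' ?_ ?_ ?_ ?_ ?_⟩
  · intro j
    haveI := hφ j
    haveI : IsIso ((DerivedCategory.Q : _ ⥤ DerivedCategory X.Modules).map (φ.app j)) := by
      rw [DerivedCategory.isIso_Q_map_iff_quasiIso]; infer_instance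
    dsimp only [Functor.comp_map]
    infer_instance
  · haveI : IsIso ((DerivedCategory.Q : _ ⥤ DerivedCategory X.Modules).map φ') := by
      rw [DerivedCategory.isIso_Q_map_iff_quasiIso]; exact hq
    dsimp only [Functor.comp_map]
    infer_instance
  · intro j
    have h := hαI j
    dsimp only [unitH]
    exact @Functor.map_isIso _ _ _ _ _ _ _ _ h
  · have h := hαC
    dsimp only [unitH]
    exact @Functor.map_isIso _ _ _ _ _ _ _ _ h
  · haveI : PreservesColimitsOfShape J ((DerivedCategory.Q : _ ⥤ DerivedCategory S.Modules) ⋙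
        DerivedCategory.homologyFunctor S.Modules i) :=
      preservesColimitsOfShape_of_natIso (DerivedCategory.homologyFunctorFactors S.Modules i).symm
    exact isColimitOfPreserves _ (colimit.isColimit I)

end Main

end Groth.Agent.Lib.Helper17.FiltRes
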