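import Groth.Agent.Lib.Helper17FiltRes3

/-!
# The unit `f_* ⟶ Rf_*` and filtered colimits of uniformly bounded below complexes (helper17)
-/

set_option autoImplicit false
set_option linter.style.haveILetI false
set_option linter.unusedSectionVars false

universe u

open CategoryTheory CategoryTheory.Limits AlgebraicGeometry

attribute [local instance] HasDerivedCategory.standard

namespace Groth.Agent.Lib.Helper17.FiltRes

section Abstract

universe v₁ u₁ v₂ u₂ v₃ u₃

variable {𝒞 : Type u₁} [Category.{v₁} 𝒞] {𝒟 : Type u₂} [Category.{v₂} 𝒟]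
  {J : Type u₃} [Category.{v₃} J]

/-- a natural transformation between functors which both send a cocone to a colimit cocone is
invertible at the point if it is so on the diagram. -/
lemma isIso_app_pt_of_isColimit {Φ Ψ : 𝒞 ⥤ 𝒟} (α : Ψ ⟶ Φ) {C : J ⥤ 𝒞} (cC : Cocone C)
    (hΨ : IsColimit (Ψ.mapCocone cC)) (hΦ : IsColimit (Φ.mapCocone cC))
    (h : ∀ j, IsIso (α.app (C.obj j))) : IsIso (α.app cC.pt) := by
  let ν : C ⋙ Ψ ≅ C ⋙ Φ := NatIso.ofComponents (fun j => asIso (α.app (C.obj j)))
    (fun g => α.naturality _)
  have e : α.app cC.pt = (IsColimit.coconePointsIsoOfNatIso hΨ hΦ ν).hom := by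
    apply hΨ.hom_ext
    intro j
    rw [IsColimit.comp_coconePointsIsoOfNatIso_hom]
    dsimp [ν]
    exact α.naturality _
  rw [e]
  infer_instance

end Abstract

section Main

open Groth.Agent.Lib.Helper17.MV

variable {X S : Scheme.{u}} (f : X ⟶ S) [DCoh.HasRpush f]
  [QuasiCompact f] [QuasiSeparated f] {J : Type u} [SmallCategory J] [IsFiltered J]

/-- if the unit `f_* C_j ⟶ Rf_* C_j` is invertible for all members of a filtered diagram of
uniformly bounded below complexes, then so is the unit of the colimit. -/
theorem isIso_unit_of_isColimit (C : J ⥤ CochainComplex X.Modules ℤ) (n : ℤ)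
    (hC : ∀ j, (C.obj j).IsGE n) (cC : Cocone C) (hcC : IsColimit cC)
    (hac : ∀ j : J, IsIso (((DCoh.pushKh f).totalRightDerivedUnit DerivedCategory.Qh
      (HomotopyCategory.quasiIso X.Modules (ComplexShape.up ℤ))).app
      ((HomotopyCategory.quotient X.Modules (ComplexShape.up ℤ)).obj (C.obj j)))) :
    IsIso (((DCoh.pushKh f).totalRightDerivedUnit DerivedCategory.Qh
      (HomotopyCategory.quasiIso X.Modules (ComplexShape.up ℤ))).app
      ((HomotopyCategory.quotient X.Modules (ComplexShape.up ℤ)).obj cC.pt)) := by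
  haveI := isGrothendieckAbelian X
  haveI := isGrothendieckAbelian S
  rw [DerivedCategory.isIso_iff]
  intro i
  obtain ⟨hΦ⟩ := nonempty_isColimit_homology_Rpush f C n hC cC hcC i
  have hΨ : IsColimit (((Scheme.Modules.pushforward f).mapHomologicalComplex (ComplexShape.up ℤ) ⋙
      DerivedCategory.Q ⋙ DerivedCategory.homologyFunctor S.Modules i).mapCocone cC) := by
    haveI : PreservesColimitsOfShape J ((DerivedCategory.Q : _ ⥤ DerivedCategory S.Modules) ⋙
        DerivedCategory.homologyFunctor S.Modules i) :=
      preservesColimitsOfShape_of_natIso (DerivedCategory.homologyFunctorFactors S.Modules i).symm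
    exact isColimitOfPreserves _ hcC
  exact isIso_app_pt_of_isColimit (unitH f i) cC hΨ hΦ (fun j => by
    have h := hac j
    dsimp only [unitH]
    exact @Functor.map_isIso _ _ _ _ _ _ _ _ h)

end Main

end Groth.Agent.Lib.Helper17.FiltRes
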