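import Groth.Agent.Lib.Helper17IAdic

/-!
# Consequences of the finiteness of `⊕ H^p(X, I^n M)` over the Rees algebra (helper17)
-/

set_option autoImplicit false
universe u
open CategoryTheory Limits AlgebraicGeometry TopologicalSpace Opposite

namespace Groth.Agent.Lib.Helper17.IAdic

open Groth.Agent.Lib.Helper17.GrSys Groth.Agent.Lib.Helper17.GrSysH
  Groth.Agent.Lib.Helper17.HHLes Groth.Agent.Lib.Helper27CohFin

variable {A : Type u} [CommRing A] {X : Scheme.{u}} [X.Over (Spec (CommRingCat.of A))]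

/-- the `A`-module structure on cohomology is induced by the multiplication endomorphisms. -/
theorem Hm_smulMod (N : X.Modules) (a : A) (p : ℕ) (x : Coh.HH X N p) :
    Hm (Formal.smulMod A N a) p x = a • x := rfl

theorem Hm_smul {N N' : X.Modules} (φ : N ⟶ N') (a : A) (p : ℕ) (x : Coh.HH X N p) :
    Hm φ p (a • x) = a • Hm φ p x :=
  (Canon.HHlin A φ p).map_smul a x

section Incl

variable (I : Ideal A) (M : X.Modules)

/-- the inclusion `I^n M ⟶ I^m M`, `m ≤ n`. -/
noncomputable abbrev incl {m n : ℕ} (h : m ≤ n) : IM (I ^ n) M ⟶ IM (I ^ m) M :=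
  inclTo (Ideal.pow_le_pow_right h) M

theorem incl_refl (n : ℕ) : incl I M (le_refl n) = 𝟙 _ := by
  rw [← cancel_mono (IMι (I ^ n) M), inclTo_ι, Category.id_comp]

theorem incl_comp {m n k : ℕ} (h : m ≤ n) (h' : n ≤ k) :
    incl I M h' ≫ incl I M h = incl I M (h.trans h') := by
  rw [← cancel_mono (IMι (I ^ m) M), Category.assoc, inclTo_ι, inclTo_ι, inclTo_ι]

variable {r : ℕ} (a : Fin r → A) (hI : ∀ i, a i ∈ I)

theorem T_incl_succ (i : Fin r) (n : ℕ) :
    (adicSys a I hI M).T i n ≫ incl I M (Nat.le_succ n) = Formal.smulMod A (IM (I ^ n) M) (a i) := by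
  rw [← cancel_mono (IMι (I ^ n) M), Category.assoc, inclTo_ι, mulTo_ι, comp_smulMod]

theorem T_incl (i : Fin r) {k n : ℕ} (h : k ≤ n) :
    (adicSys a I hI M).T i n ≫ incl I M (Nat.succ_le_succ h) =
      incl I M h ≫ (adicSys a I hI M).T i k := by
  rw [← cancel_mono (IMι (I ^ (k + 1)) M), Category.assoc, Category.assoc, inclTo_ι, mulTo_ι,
    mulTo_ι, inclTo_ι_assoc]

theorem T_ι (i : Fin r) (n : ℕ) :
    (adicSys a I hI M).T i n ≫ IMι (I ^ (n + 1)) M = IMι (I ^ n) M ≫ Formal.smulMod A M (a i) :=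
  mulTo_ι (a i) (mul_mem_pow_succ a I hI i n) M

end Incl

section Zero

variable (I : Ideal A) (M : X.Modules)

instance isIso_IMι_zero : IsIso (IMι (I ^ 0) M) := by
  have h1 : (1 : A) ∈ I ^ 0 := by simp
  haveI : IsSplitEpi (IMι (I ^ 0) M) :=
    ⟨⟨⟨toIM (I ^ 0) M 1 h1, by rw [toIM_ι, smulMod_one]⟩⟩⟩
  exact isIso_of_mono_of_isSplitEpi _

theorem Hm_injective_of_isIso {N N' : X.Modules} (φ : N ⟶ N') [IsIso φ] (p : ℕ) :
    Function.Injective (Hm φ p) := by
  intro x y h
  have := congrArg (Hm (inv φ) p) h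
  rwa [Hm_comp, Hm_comp, IsIso.hom_inv_id, Hm_id, Hm_id] at this

end Zero

section Conseq

variable [IsNoetherianRing A] [IsProper (X ↘ Spec (CommRingCat.of A))]
  {r : ℕ} (a : Fin r → A) (I : Ideal A) (hI : ∀ i, a i ∈ I)
  (hspan : I = Ideal.span (Set.range a)) (M : X.Modules) (hM : Coh.IsCoh M)

include a hI hspan hM

/-- the image of `H^p(I^m M) → H^p(I^n M)` lies in `I^(m-n) H^p(I^n M)`, for `n` large. -/
theorem range_incl_le (p : ℕ) : ∃ n₁, ∀ n, n₁ ≤ n → ∀ (m : ℕ) (h : n ≤ m)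
    (x : Coh.HH X (IM (I ^ m) M) p),
    Hm (incl I M h) p x ∈ (I ^ (m - n) • ⊤ : Submodule A (Coh.HH X (IM (I ^ n) M) p)) := by
  obtain ⟨n₁, hn₁⟩ := hft_adicSys a I hI hspan M hM p
  refine ⟨n₁, fun n hn m h => ?_⟩
  induction m, h using Nat.le_induction with
  | base =>
    intro x
    rw [Nat.sub_self, pow_zero, Ideal.one_eq_top, Submodule.top_smul]
    trivial
  | succ m h ih =>
    intro x
    obtain ⟨y, rfl⟩ := hn₁ m (hn.trans h) x
    rw [map_sum]
    refine Submodule.sum_mem _ (fun i _ => ?_)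
    have e : (adicSys a I hI M).T i m ≫ incl I M (h.trans (Nat.le_succ m)) =
        Formal.smulMod A (IM (I ^ m) M) (a i) ≫ incl I M h := by
      rw [← incl_comp I M h (Nat.le_succ m), ← Category.assoc, T_incl_succ]
    rw [Hm_comp, e, ← Hm_comp, Hm_smulMod, Hm_smul]
    have h2 : m + 1 - n = (m - n) + 1 := by omega
    rw [h2, pow_succ', mul_smul]
    exact Submodule.smul_mem_smul (hI i) (ih (y i))

/-- the kernel of `H^p(I^n M) → H^p(M)` dies in `H^p(I^(n-c) M)`. -/
theorem ker_ι_le_ker_incl (p : ℕ) : ∃ c, ∀ (k : ℕ) (x : Coh.HH X (IM (I ^ (c + k)) M) p),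
    Hm (IMι (I ^ (c + k)) M) p x = 0 → Hm (incl I M (Nat.le_add_left k c)) p x = 0 := by
  haveI : IsLocallyNoetherian X :=
    LocallyOfFiniteType.isLocallyNoetherian (X ↘ Spec (CommRingCat.of A))
  obtain ⟨c, hc⟩ := hb_HH A (adicSys a I hI M) (fun n => isCoh_IM (I ^ n) M hM) p
    (hft_adicSys a I hI hspan M hM p)
    (fun n => LinearMap.ker (Canon.HHlin A (IMι (I ^ n) M) p))
    (fun i n x hx => by
      rw [LinearMap.mem_ker] at hx ⊢
      have hx' : Hm (IMι (I ^ n) M) p x = 0 := hx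
      change Hm (IMι (I ^ (n + 1)) M) p (Hm ((adicSys a I hI M).T i n) p x) = 0
      rw [Hm_comp, T_ι, ← Hm_comp, hx', map_zero])
  refine ⟨c, fun k => ?_⟩
  induction k with
  | zero =>
    intro x hx
    apply Hm_injective_of_isIso (IMι (I ^ 0) M) p
    rw [Hm_comp, inclTo_ι, map_zero]
    exact hx
  | succ k ih =>
    intro x hx
    obtain ⟨y, hy, rfl⟩ := hc (c + k) (Nat.le_add_right c k) x (LinearMap.mem_ker.2 hx)
    rw [map_sum]
    refine Finset.sum_eq_zero (fun i _ => ?_)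
    have e := T_incl I M a hI i (Nat.le_add_left k c)
    rw [Hm_comp]
    change Hm ((adicSys a I hI M).T i (c + k) ≫
      incl I M (Nat.succ_le_succ (Nat.le_add_left k c))) p (y i) = 0
    rw [e, ← Hm_comp, ih (y i) (LinearMap.mem_ker.1 (hy i)), map_zero]

end Conseq

section Gens

/-- a finitely generated ideal has a finite generating family. -/
theorem exists_gens [IsNoetherianRing A] (I : Ideal A) :
    ∃ (r : ℕ) (a : Fin r → A), (∀ i, a i ∈ I) ∧ I = Ideal.span (Set.range a) := by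
  obtain ⟨r, a, ha⟩ := Submodule.fg_iff_exists_fin_generating_family.1
    (IsNoetherian.noetherian I : I.FG)
  refine ⟨r, a, fun i => ?_, ha.symm⟩
  rw [← ha]
  exact Submodule.subset_span ⟨i, rfl⟩

theorem Hm_incl_eq_zero_iff (I : Ideal A) (M : X.Modules) {m m' n : ℕ} (e : m = m') (h : m ≤ n)
    (h' : m' ≤ n) (p : ℕ) (x : Coh.HH X (IM (I ^ n) M) p) :
    Hm (incl I M h) p x = 0 ↔ Hm (incl I M h') p x = 0 := by
  subst e; rfl

theorem map_mem_smul_top {N N' : Type*} [AddCommGroup N] [Module A N] [AddCommGroup N']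
    [Module A N'] (f : N →ₗ[A] N') (J : Ideal A) (x : N)
    (hx : x ∈ (J • ⊤ : Submodule A N)) : f x ∈ (J • ⊤ : Submodule A N') := by
  have h1 : f x ∈ (J • ⊤ : Submodule A N).map f := Submodule.mem_map_of_mem hx
  rw [Submodule.map_smul''] at h1
  exact Submodule.smul_mono le_rfl le_top h1

end Gens

end Groth.Agent.Lib.Helper17.IAdic
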