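import Mathlib
import Groth.Agent.Lib.Helper17FFaith10
import Groth.Agent.S0015

set_option autoImplicit false
universe u
open CategoryTheory CategoryTheory.Limits AlgebraicGeometry TopologicalSpace Opposite

namespace Groth.Agent.Lib.Helper17.Spread

open Groth.Agent.Lib.Helper17.FFaith Groth.Agent.Lib.Helper17.FlatDev
  Groth.Agent.Helper18PBUnit

noncomputable section

section glue

variable {X : Scheme.{u}} (F : X.Modules)

/-- binary gluing of sections. -/
theorem exists_glue₂ (U V : X.Opens) (a : Γ(F, U)) (b : Γ(F, V))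
    (h : F.presheaf.map (homOfLE (inf_le_left : U ⊓ V ≤ U)).op a =
      F.presheaf.map (homOfLE (inf_le_right : U ⊓ V ≤ V)).op b) :
    ∃ c : Γ(F, U ⊔ V), F.presheaf.map (homOfLE (le_sup_left : U ≤ U ⊔ V)).op c = a ∧
      F.presheaf.map (homOfLE (le_sup_right : V ≤ U ⊔ V)).op c = b := by
  let cov : Bool → X.Opens := fun i => if i then U else V
  have hcov : U ⊔ V ≤ iSup cov := by
    apply sup_le
    · exact le_iSup cov true
    · exact le_iSup cov false
  let iUV : ∀ i : Bool, cov i ⟶ U ⊔ V := fun i => by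
    cases i
    · exact homOfLE le_sup_right
    · exact homOfLE le_sup_left
  let sf : ∀ i : Bool, ToType ((abSheaf F).1.obj (op (cov i))) := fun i => by
    cases i
    · exact b
    · exact a
  have hcompat : TopCat.Presheaf.IsCompatible (abSheaf F).1 cov sf := by
    intro i j
    cases i <;> cases j
    · rfl
    · have hle : V ⊓ U ≤ U ⊓ V := le_of_eq (inf_comm V U)
      have e1 := res_res (P := F) (inf_le_right : U ⊓ V ≤ V) hle b
      have e2 := res_res (P := F) (inf_le_left : U ⊓ V ≤ U) hle a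
      exact e1.symm.trans ((congrArg _ h.symm).trans e2)
    · exact h
    · rfl
  obtain ⟨c, hc, -⟩ := TopCat.Sheaf.existsUnique_gluing' (abSheaf F) cov (U ⊔ V) iUV hcov sf hcompat
  exact ⟨c, hc true, hc false⟩

theorem eq_zero_of_sup (U V : X.Opens) (c : Γ(F, U ⊔ V))
    (h1 : F.presheaf.map (homOfLE (le_sup_left : U ≤ U ⊔ V)).op c = 0)
    (h2 : F.presheaf.map (homOfLE (le_sup_right : V ≤ U ⊔ V)).op c = 0) : c = 0 := by
  let cov : Bool → X.Opens := fun i => if i then U else V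
  have hcov : U ⊔ V ≤ iSup cov := by
    apply sup_le
    · exact le_iSup cov true
    · exact le_iSup cov false
  let iUV : ∀ i : Bool, cov i ⟶ U ⊔ V := fun i => by
    cases i
    · exact homOfLE le_sup_right
    · exact homOfLE le_sup_left
  refine TopCat.Sheaf.eq_of_locally_eq' (abSheaf F) cov (U ⊔ V) iUV hcov c 0 ?_
  intro i
  cases i
  · exact h2.trans (map_zero _).symm
  · exact h1.trans (map_zero _).symm

end glue

section GQ

variable {A : Type u} [CommRing A] {X : Scheme.{u}} [X.Over (Spec (CommRingCat.of A))]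
  (S : Submonoid A) {P P₂ : X.Modules} (l : P ⟶ P₂)

/-- `l` is, on sections over `U`, a localization at `S` (in elementwise form). -/
def LocOn (U : X.Opens) : Prop :=
  (∀ σ : Γ(P, U), l.app U σ = 0 → ∃ s ∈ S, (ρ U s : Γ(X, U)) • σ = 0) ∧
  (∀ τ : Γ(P₂, U), ∃ s ∈ S, ∃ σ : Γ(P, U), l.app U σ = (ρ U s : Γ(X, U)) • τ)

theorem res_ρ_smul (M : X.Modules) {U V : X.Opens} (h : V ≤ U) (a : A) (σ : Γ(M, U)) :
    M.presheaf.map (homOfLE h).op ((ρ U a : Γ(X, U)) • σ) =
      (ρ V a : Γ(X, V)) • M.presheaf.map (homOfLE h).op σ := by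
  rw [Scheme.Modules.map_smul, ρ_res]

theorem locOn_sup (U V : X.Opens) (hU : LocOn S l U) (hV : LocOn S l V)
    (hUV : LocOn S l (U ⊓ V)) : LocOn S l (U ⊔ V) := by
  constructor
  · intro σ hσ
    obtain ⟨s₁, hs₁, h1⟩ := hU.1 (P.presheaf.map (homOfLE (le_sup_left : U ≤ U ⊔ V)).op σ)
      (by rw [app_res, hσ, map_zero])
    obtain ⟨s₂, hs₂, h2⟩ := hV.1 (P.presheaf.map (homOfLE (le_sup_right : V ≤ U ⊔ V)).op σ)
      (by rw [app_res, hσ, map_zero])
    refine ⟨s₁ * s₂, S.mul_mem hs₁ hs₂, ?_⟩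
    apply eq_zero_of_sup P U V
    · rw [res_ρ_smul, map_mul, mul_comm, mul_smul, h1, smul_zero]
    · rw [res_ρ_smul, map_mul, mul_smul, h2, smul_zero]
  · intro τ
    obtain ⟨s₁, hs₁, a, ha⟩ := hU.2 (P₂.presheaf.map (homOfLE (le_sup_left : U ≤ U ⊔ V)).op τ)
    obtain ⟨s₂, hs₂, b, hb⟩ := hV.2 (P₂.presheaf.map (homOfLE (le_sup_right : V ≤ U ⊔ V)).op τ)
    set W := U ⊓ V with hW
    set aW := P.presheaf.map (homOfLE (inf_le_left : U ⊓ V ≤ U)).op a with haW
    set bW := P.presheaf.map (homOfLE (inf_le_right : U ⊓ V ≤ V)).op b with hbW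
    have hd : l.app (U ⊓ V) ((ρ (U ⊓ V) s₂ : Γ(X, U ⊓ V)) • aW -
        (ρ (U ⊓ V) s₁ : Γ(X, U ⊓ V)) • bW) = 0 := by
      rw [map_sub, Scheme.Modules.Hom.app_smul, Scheme.Modules.Hom.app_smul, haW, hbW, app_res,
        app_res, ha, hb, res_ρ_smul, res_ρ_smul, res_res, res_res, smul_smul, smul_smul, mul_comm,
        sub_self]
    obtain ⟨s₃, hs₃, h3⟩ := hUV.1 _ hd
    obtain ⟨c, hc1, hc2⟩ := exists_glue₂ P U V ((ρ U (s₃ * s₂) : Γ(X, U)) • a)
      ((ρ V (s₃ * s₁) : Γ(X, V)) • b) (by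
        rw [res_ρ_smul, res_ρ_smul, ← sub_eq_zero, map_mul, map_mul, mul_smul, mul_smul,
          ← smul_sub]
        exact h3)
    refine ⟨s₃ * s₂ * s₁, S.mul_mem (S.mul_mem hs₃ hs₂) hs₁, c, ?_⟩
    rw [← sub_eq_zero]
    apply eq_zero_of_sup P₂ U V
    · rw [map_sub, ← app_res, hc1, Scheme.Modules.Hom.app_smul, ha, res_ρ_smul, smul_smul,
        ← map_mul, sub_self]
    · rw [map_sub, ← app_res, hc2, Scheme.Modules.Hom.app_smul, hb, res_ρ_smul, smul_smul,
        ← map_mul, mul_assoc s₃ s₂ s₁, mul_comm s₂ s₁, ← mul_assoc, sub_self]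

theorem locOn_top [CompactSpace X] [QuasiSeparatedSpace X]
    (h : ∀ W : X.Opens, IsAffineOpen W → LocOn S l W) : LocOn S l ⊤ :=
  Groth.Agent.S0015.result X (fun U => LocOn S l U) h
    (fun U V _ _ hU hV hUV => locOn_sup S l U V hU hV hUV) ⊤ isCompact_univ

end GQ

end

end Groth.Agent.Lib.Helper17.Spread
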