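import Mathlib
import Groth.Agent.Lib.Helper17SpreadA
import Groth.Agent.Lib.Helper17FBC3
import Groth.Agent.Lib.Helper13BCAlg
import Groth.Agent.Lib.Helper17HomLift1

set_option autoImplicit false
universe u
open CategoryTheory CategoryTheory.Limits AlgebraicGeometry TopologicalSpace Opposite

namespace Groth.Agent.Lib.Helper17.Spread

open Groth.Agent.Lib.Helper17.FFaith Groth.Agent.Lib.Helper17.FlatDev
  Groth.Agent.Helper18PBUnit Groth.Agent.Lib.Helper1.PT Groth.Agent.Lib.Helper17.GrSysCoh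
  Groth.Agent.Helper13PullbackUnit

noncomputable section

section affine

variable {A R' : Type u} [CommRing A] [CommRing R'] [Algebra A R'] (S : Submonoid A)
  [IsLocalization S R']
  {X X' : Scheme.{u}} [X.Over (Spec (CommRingCat.of A))] [X'.Over (Spec (CommRingCat.of R'))]
  (g' : X' ⟶ X)
  (h : IsPullback g' (X' ↘ Spec (CommRingCat.of R')) (X ↘ Spec (CommRingCat.of A))
    (Spec.map (CommRingCat.ofHom (algebraMap A R'))))
  (G : X.Modules) [G.IsQuasicoherent] {W : X.Opens} (hW : IsAffineOpen W)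

/-- the unit `G ⟶ g'_* g'^* G`. -/
def unitG : G ⟶ (psh g').obj ((plb g').obj G) := (ppAdj g').unit.app G

/-- the image of `S` in `Γ(X, W)`. -/
abbrev SW (W : X.Opens) : Submonoid Γ(X, W) := S.map (ρ (A := A) W)

omit [G.IsQuasicoherent] in
theorem unitSec_le_rfl (x : Γ(G, W)) :
    unitSec g' G (le_refl (g' ⁻¹ᵁ W)) x = ((ppAdj g').unit.app G).app W x := by
  rw [unitSec_apply]
  have e : (homOfLE (le_refl (g' ⁻¹ᵁ W))) = 𝟙 (g' ⁻¹ᵁ W) := Subsingleton.elim _ _
  rw [e, op_id, ((Scheme.Modules.pullback g').obj G).presheaf.map_id]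
  rfl

include h hW in
/-- on an affine open, the unit `G ⟶ g'_* g'^* G` is the localization at `S`. -/
theorem isLocalizedModule_unit :
    IsLocalizedModule (SW S W) (appL (unitG g' G) W) := by
  have hW' : IsAffineOpen (g' ⁻¹ᵁ W) := Groth.Agent.Lib.Helper17.FBC3.isAffineOpen_preimage h hW
  letI a1 : Algebra A Γ(X, W) := (ρ (A := A) W).toAlgebra
  letI a2 : Algebra R' Γ(X', g' ⁻¹ᵁ W) := (ρ (A := R') (g' ⁻¹ᵁ W)).toAlgebra
  letI a3 : Algebra Γ(X, W) Γ(X', g' ⁻¹ᵁ W) := (g'.app W).hom.toAlgebra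
  letI a4 : Algebra A Γ(X', g' ⁻¹ᵁ W) :=
    ((g'.app W).hom.comp (ρ (A := A) W)).toAlgebra
  have hpo := Groth.Agent.Lib.Helper17.FBC3.isPushout_sections h hW
  rw [← Scheme.Hom.app_eq_appLE] at hpo
  haveI t1 : IsScalarTower A Γ(X, W) Γ(X', g' ⁻¹ᵁ W) :=
    IsScalarTower.of_algebraMap_eq (fun a => rfl)
  haveI t2 : IsScalarTower A R' Γ(X', g' ⁻¹ᵁ W) :=
    IsScalarTower.of_algebraMap_eq (fun a => by
      have := congrArg (fun φ => φ.hom a) hpo.w
      exact this.symm)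
  have hpo' : Algebra.IsPushout A R' Γ(X, W) Γ(X', g' ⁻¹ᵁ W) :=
    CommRingCat.isPushout_iff_isPushout.mp hpo
  haveI hloc : IsLocalization (Algebra.algebraMapSubmonoid Γ(X, W) S) Γ(X', g' ⁻¹ᵁ W) :=
    (Algebra.isLocalization_iff_isPushout S R').2 hpo'.symm
  letI m1 : Module Γ(X', g' ⁻¹ᵁ W) Γ((psh g').obj ((plb g').obj G), W) :=
    inferInstanceAs (Module Γ(X', g' ⁻¹ᵁ W) Γ((plb g').obj G, g' ⁻¹ᵁ W))
  haveI t3 : IsScalarTower Γ(X, W) Γ(X', g' ⁻¹ᵁ W) Γ((psh g').obj ((plb g').obj G), W) :=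
    ⟨fun r b y => by
      change ((g'.app W).hom r * b) • (show Γ((plb g').obj G, g' ⁻¹ᵁ W) from y) =
        ((g'.app W).hom r) • (b • (show Γ((plb g').obj G, g' ⁻¹ᵁ W) from y))
      rw [mul_smul]⟩
  have hbc : IsBaseChange Γ(X', g' ⁻¹ᵁ W) (appL (unitG g' G) W) := by
    refine Groth.Agent.Helper13BCAlg.isBaseChange_of_existsUnique _ (fun N _ _ l hl => ?_)
    obtain ⟨l', h1, h2⟩ := existsUnique_lift g' G hW hW' (le_refl (g' ⁻¹ᵁ W)) N l (fun r x => by
      rw [hl r x, ← Scheme.Hom.app_eq_appLE]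
      rfl)
    refine ⟨l', fun m => ?_, fun l'' hl'' => h2 l'' (fun x => ?_)⟩
    · rw [← h1 m, unitSec_le_rfl]
      rfl
    · rw [unitSec_le_rfl]
      exact hl'' x
  exact (isLocalizedModule_iff_isBaseChange (Algebra.algebraMapSubmonoid Γ(X, W) S)
    Γ(X', g' ⁻¹ᵁ W) _).2 hbc

include h hW in
theorem locOn_sHomMap_affine (F : X.Modules) [F.IsQuasicoherent]
    [Module.FinitePresentation Γ(X, W) Γ(F, W)] :
    LocOn S (sHomMap F (unitG g' G)) W := by
  haveI := isLocalizedModule_unit S g' h G hW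
  constructor
  · intro σ hσ
    have h1 : (appL (unitG g' G) W) ∘ₗ (evΓEquiv F G hW σ) =
        (appL (unitG g' G) W) ∘ₗ (0 : Γ(F, W) →ₗ[Γ(X, W)] Γ(G, W)) := by
      rw [← evΓEquiv_sHomMap, hσ, map_zero, LinearMap.comp_zero]
    obtain ⟨s', hs'⟩ := Module.Finite.exists_smul_of_comp_eq_of_isLocalizedModule (SW S W)
      (appL (unitG g' G) W) (evΓEquiv F G hW σ) 0 h1
    obtain ⟨s, hs, hss'⟩ := Submonoid.mem_map.1 s'.2
    refine ⟨s, hs, ?_⟩
    apply (evΓEquiv F G hW).injective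
    rw [map_smul, map_zero, hss']
    rw [smul_zero] at hs'
    exact hs'
  · intro τ
    obtain ⟨k, s', hk⟩ := Module.FinitePresentation.exists_lift_of_isLocalizedModule (SW S W)
      (appL (unitG g' G) W) (evΓEquiv F ((psh g').obj ((plb g').obj G)) hW τ)
    obtain ⟨s, hs, hss'⟩ := Submonoid.mem_map.1 s'.2
    refine ⟨s, hs, (evΓEquiv F G hW).symm k, ?_⟩
    apply (evΓEquiv F ((psh g').obj ((plb g').obj G)) hW).injective
    rw [evΓEquiv_sHomMap, LinearEquiv.apply_symm_apply, hk, map_smul, hss']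
    rfl

end affine

end

end Groth.Agent.Lib.Helper17.Spread
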