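import Mathlib
import Groth.Agent.Lib.Helper17SpreadB
import Groth.Agent.Lib.Helper17FFaith11
import Groth.Agent.S9530

set_option autoImplicit false
universe u
open CategoryTheory CategoryTheory.Limits AlgebraicGeometry TopologicalSpace Opposite

namespace Groth.Agent.Lib.Helper17.Spread

open Groth.Agent.Lib.Helper17.FFaith Groth.Agent.Lib.Helper17.FlatDev
  Groth.Agent.Helper18PBUnit Groth.Agent.Lib.Helper1.PT Groth.Agent.Lib.Helper17.GrSysCoh
  Groth.Agent.Helper13PullbackUnit Groth.Agent.Lib.Helper21.HomI Groth.Agent.Lib.Helper21.HomU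

noncomputable section

section sec

variable {A : Type u} [CommRing A] {X : Scheme.{u}} [X.Over (Spec (CommRingCat.of A))]
  {F N : X.Modules}

/-- the morphism attached to a global section of `ℋom(F, N)`. -/
def homOfSec (σ : Γ(sHom F N, ⊤)) : F ⟶ N := homOfFam (secOut ⊤ σ)

/-- the global section of `ℋom(F, N)` attached to a morphism. -/
def secOfHom (u : F ⟶ N) : Γ(sHom F N, ⊤) := secIn ⊤ (famOfHom u ⊤)

theorem homOfSec_secOfHom (u : F ⟶ N) : homOfSec (secOfHom u) = u := homOfFam_famOfHom u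

theorem secOfHom_homOfSec (σ : Γ(sHom F N, ⊤)) : secOfHom (homOfSec σ) = σ :=
  famOfHom_homOfFam (secOut ⊤ σ)

theorem homOfSec_injective : Function.Injective (homOfSec (F := F) (N := N)) := fun a b hab => by
  rw [← secOfHom_homOfSec a, hab, secOfHom_homOfSec]

theorem homOfSec_sHomMap {N' : X.Modules} (g : N ⟶ N') (σ : Γ(sHom F N, ⊤)) :
    homOfSec ((sHomMap F g).app ⊤ σ) = homOfSec σ ≫ g :=
  homOfFam_postcomp (secOut ⊤ σ) g

theorem homOfSec_zero : homOfSec (0 : Γ(sHom F N, ⊤)) = 0 := by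
  apply SheafOfModules.hom_ext
  apply PresheafOfModules.hom_ext
  intro V
  ext x
  rfl

theorem homOfSec_smul (a : A) (σ : Γ(sHom F N, ⊤)) :
    homOfSec ((ρ ⊤ a : Γ(X, ⊤)) • σ) = homOfSec σ ≫ Formal.smulMod A N a := by
  have h1 : (ρ ⊤ a : Γ(X, ⊤)) • σ = (Formal.smulMod A (sHom F N) a).app ⊤ σ := rfl
  rw [h1, smulMod_sHom_eq, homOfSec_sHomMap]

end sec

section spread

variable {A R' : Type u} [CommRing A] [CommRing R'] [Algebra A R'] (S : Submonoid A)
  [IsLocalization S R']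
  {X X' : Scheme.{u}} [X.Over (Spec (CommRingCat.of A))] [X'.Over (Spec (CommRingCat.of R'))]
  (g' : X' ⟶ X)
  (h : IsPullback g' (X' ↘ Spec (CommRingCat.of R')) (X ↘ Spec (CommRingCat.of A))
    (Spec.map (CommRingCat.ofHom (algebraMap A R'))))
  [CompactSpace X] [QuasiSeparatedSpace X] [IsLocallyNoetherian X]
  (F G : X.Modules) (hF : Coh.IsCoh F) [G.IsQuasicoherent]

include h hF in
theorem locOn_sHomMap_top : LocOn S (sHomMap F (unitG g' G)) ⊤ := by
  haveI : F.IsQuasicoherent := hF.1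
  haveI : SheafOfModules.IsFiniteType (R := X.ringCatSheaf) F := hF.2
  refine locOn_top S _ (fun W hW => ?_)
  haveI : IsNoetherianRing Γ(X, W) := IsLocallyNoetherian.component_noetherian ⟨W, hW⟩
  haveI : Module.Finite Γ(X, W) Γ(F, W) :=
    Groth.Agent.Lib.Helper23.FinType.finite_of_isFiniteType F hW
  haveI : Module.FinitePresentation Γ(X, W) Γ(F, W) := Module.finitePresentation_of_finite _ _
  exact locOn_sHomMap_affine S g' h G hW F

include h hF in
theorem exists_smul_eq_zero (u : F ⟶ G) (hu : u ≫ unitG g' G = 0) :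
    ∃ s ∈ S, u ≫ Formal.smulMod A G s = 0 := by
  have hl := locOn_sHomMap_top S g' h F G hF
  have h0 : (sHomMap F (unitG g' G)).app ⊤ (secOfHom u) = 0 := by
    apply homOfSec_injective
    rw [homOfSec_sHomMap, homOfSec_secOfHom, hu, homOfSec_zero]
  obtain ⟨s, hs, h1⟩ := hl.1 _ h0
  refine ⟨s, hs, ?_⟩
  have := congrArg homOfSec h1
  rw [homOfSec_smul, homOfSec_secOfHom, homOfSec_zero] at this
  exact this

include h hF in
theorem exists_hom_of_hom_unit (w : F ⟶ (psh g').obj ((plb g').obj G)) :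
    ∃ s ∈ S, ∃ u : F ⟶ G, u ≫ unitG g' G = w ≫ Formal.smulMod A _ s := by
  have hl := locOn_sHomMap_top S g' h F G hF
  obtain ⟨s, hs, σ, h1⟩ := hl.2 (secOfHom w)
  refine ⟨s, hs, homOfSec σ, ?_⟩
  have := congrArg homOfSec h1
  rw [homOfSec_sHomMap, homOfSec_smul, homOfSec_secOfHom] at this
  exact this

omit [IsLocalization S R'] [CompactSpace X] [QuasiSeparatedSpace X] [IsLocallyNoetherian X]
  [G.IsQuasicoherent] in
theorem isUnit_ρ_of_le {T : X.Opens} (q c d : A) (hq : q = c * d)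
    (hT : T ≤ X.basicOpen (ρ (A := A) ⊤ q : Γ(X, ⊤))) : IsUnit (ρ (A := A) T c : Γ(X, T)) := by
  have h1 : IsUnit (X.presheaf.map (homOfLE (X.basicOpen_le (ρ (A := A) ⊤ q : Γ(X, ⊤)))).op
      (ρ (A := A) ⊤ q : Γ(X, ⊤))) := RingedSpace.isUnit_res_basicOpen _ _
  have h2 : IsUnit (X.presheaf.map (homOfLE hT).op
      (X.presheaf.map (homOfLE (X.basicOpen_le (ρ (A := A) ⊤ q : Γ(X, ⊤)))).op
        (ρ (A := A) ⊤ q : Γ(X, ⊤)))) := h1.map _
  rw [ρ_res, ρ_res, hq, map_mul] at h2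
  exact isUnit_of_mul_isUnit_left h2

omit [G.IsQuasicoherent] in
include h in
theorem exists_bijective_of_iso (hF : Coh.IsCoh F) (hG : Coh.IsCoh G)
    (e : (plb g').obj F ≅ (plb g').obj G) :
    ∃ q ∈ S, ∃ u : F ⟶ G, ∀ T : X.Opens, T ≤ X.basicOpen (ρ (A := A) ⊤ q : Γ(X, ⊤)) →
      Function.Bijective (u.app T) := by
  haveI : F.IsQuasicoherent := hF.1
  haveI : G.IsQuasicoherent := hG.1
  obtain ⟨s₁, hs₁, u, hu⟩ := exists_hom_of_hom_unit S g' h F G hF
    (unitG g' F ≫ (psh g').map e.hom)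
  obtain ⟨s₂, hs₂, v, hv⟩ := exists_hom_of_hom_unit S g' h G F hG
    (unitG g' G ≫ (psh g').map e.inv)
  have hαβ : (psh g').map e.hom ≫ (psh g').map e.inv = 𝟙 _ := by
    rw [← Functor.map_comp, e.hom_inv_id, CategoryTheory.Functor.map_id]
  have hβα : (psh g').map e.inv ≫ (psh g').map e.hom = 𝟙 _ := by
    rw [← Functor.map_comp, e.inv_hom_id, CategoryTheory.Functor.map_id]
  have huv : (u ≫ v - Formal.smulMod A F s₁ ≫ Formal.smulMod A F s₂) ≫ unitG g' F = 0 := by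
    rw [Preadditive.sub_comp, sub_eq_zero]
    calc (u ≫ v) ≫ unitG g' F = (u ≫ unitG g' G) ≫ (psh g').map e.inv ≫ Formal.smulMod A _ s₂ := by
          rw [Category.assoc, hv, Category.assoc, Category.assoc]
      _ = unitG g' F ≫ (psh g').map e.hom ≫ (Formal.smulMod A _ s₁ ≫ (psh g').map e.inv) ≫
            Formal.smulMod A _ s₂ := by
          rw [hu]
          simp only [Category.assoc]
      _ = unitG g' F ≫ ((psh g').map e.hom ≫ (psh g').map e.inv) ≫ Formal.smulMod A _ s₁ ≫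
            Formal.smulMod A _ s₂ := by
          rw [Groth.Agent.S9530.smulMod_comp ((psh g').map e.inv) s₁]
          simp only [Category.assoc]
      _ = (unitG g' F ≫ Formal.smulMod A _ s₁) ≫ Formal.smulMod A _ s₂ := by
          rw [hαβ, Category.id_comp, Category.assoc]
      _ = Formal.smulMod A F s₁ ≫ (unitG g' F ≫ Formal.smulMod A _ s₂) := by
          rw [← Groth.Agent.S9530.smulMod_comp (unitG g' F) s₁, Category.assoc]
      _ = (Formal.smulMod A F s₁ ≫ Formal.smulMod A F s₂) ≫ unitG g' F := by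
          rw [← Groth.Agent.S9530.smulMod_comp (unitG g' F) s₂, Category.assoc]
  have hvu : (v ≫ u - Formal.smulMod A G s₂ ≫ Formal.smulMod A G s₁) ≫ unitG g' G = 0 := by
    rw [Preadditive.sub_comp, sub_eq_zero]
    calc (v ≫ u) ≫ unitG g' G = (v ≫ unitG g' F) ≫ (psh g').map e.hom ≫ Formal.smulMod A _ s₁ := by
          rw [Category.assoc, hu, Category.assoc, Category.assoc]
      _ = unitG g' G ≫ (psh g').map e.inv ≫ (Formal.smulMod A _ s₂ ≫ (psh g').map e.hom) ≫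
            Formal.smulMod A _ s₁ := by
          rw [hv]
          simp only [Category.assoc]
      _ = unitG g' G ≫ ((psh g').map e.inv ≫ (psh g').map e.hom) ≫ Formal.smulMod A _ s₂ ≫
            Formal.smulMod A _ s₁ := by
          rw [Groth.Agent.S9530.smulMod_comp ((psh g').map e.hom) s₂]
          simp only [Category.assoc]
      _ = (unitG g' G ≫ Formal.smulMod A _ s₂) ≫ Formal.smulMod A _ s₁ := by
          rw [hβα, Category.id_comp, Category.assoc]
      _ = Formal.smulMod A G s₂ ≫ (unitG g' G ≫ Formal.smulMod A _ s₁) := by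
          rw [← Groth.Agent.S9530.smulMod_comp (unitG g' G) s₂, Category.assoc]
      _ = (Formal.smulMod A G s₂ ≫ Formal.smulMod A G s₁) ≫ unitG g' G := by
          rw [← Groth.Agent.S9530.smulMod_comp (unitG g' G) s₁, Category.assoc]
  obtain ⟨s₃, hs₃, h3⟩ := exists_smul_eq_zero S g' h F F hF _ huv
  obtain ⟨s₄, hs₄, h4⟩ := exists_smul_eq_zero S g' h G G hG _ hvu
  refine ⟨s₁ * s₂ * s₃ * s₄, S.mul_mem (S.mul_mem (S.mul_mem hs₁ hs₂) hs₃) hs₄, u, fun T hT => ?_⟩
  have hu1 : IsUnit (ρ (A := A) T s₁ : Γ(X, T)) :=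
    isUnit_ρ_of_le _ s₁ (s₂ * s₃ * s₄) (by ring) hT
  have hu2 : IsUnit (ρ (A := A) T s₂ : Γ(X, T)) :=
    isUnit_ρ_of_le _ s₂ (s₁ * s₃ * s₄) (by ring) hT
  have hu3 : IsUnit (ρ (A := A) T s₃ : Γ(X, T)) :=
    isUnit_ρ_of_le _ s₃ (s₁ * s₂ * s₄) (by ring) hT
  have hu4 : IsUnit (ρ (A := A) T s₄ : Γ(X, T)) :=
    isUnit_ρ_of_le _ s₄ (s₁ * s₂ * s₃) (by ring) hT
  have k3 : ∀ x : Γ(F, T), v.app T (u.app T x) =
      (ρ (A := A) T s₂ : Γ(X, T)) • ((ρ (A := A) T s₁ : Γ(X, T)) • x) := by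
    intro x
    have := congrArg (fun φ : F ⟶ F => φ.app T x) h3
    have h' : (ρ (A := A) T s₃ : Γ(X, T)) • (v.app T (u.app T x) -
        (ρ (A := A) T s₂ : Γ(X, T)) • ((ρ (A := A) T s₁ : Γ(X, T)) • x)) = 0 := this
    rw [hu3.smul_eq_zero, sub_eq_zero] at h'
    exact h'
  have k4 : ∀ y : Γ(G, T), u.app T (v.app T y) =
      (ρ (A := A) T s₁ : Γ(X, T)) • ((ρ (A := A) T s₂ : Γ(X, T)) • y) := by
    intro y
    have := congrArg (fun φ : G ⟶ G => φ.app T y) h4
    have h' : (ρ (A := A) T s₄ : Γ(X, T)) • (u.app T (v.app T y) -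
        (ρ (A := A) T s₁ : Γ(X, T)) • ((ρ (A := A) T s₂ : Γ(X, T)) • y)) = 0 := this
    rw [hu4.smul_eq_zero, sub_eq_zero] at h'
    exact h'
  constructor
  · rw [injective_iff_map_eq_zero]
    intro x hx
    have := k3 x
    rw [hx, map_zero] at this
    rw [eq_comm, hu2.smul_eq_zero, hu1.smul_eq_zero] at this
    exact this
  · intro y
    obtain ⟨w₁, hw₁⟩ := hu1
    obtain ⟨w₂, hw₂⟩ := hu2
    refine ⟨v.app T ((↑w₂⁻¹ : Γ(X, T)) • ((↑w₁⁻¹ : Γ(X, T)) • y)), ?_⟩
    rw [k4, ← hw₁, ← hw₂, smul_smul, smul_smul, smul_smul]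
    have : (w₁ : Γ(X, T)) * ↑w₂ * ↑w₂⁻¹ * ↑w₁⁻¹ = 1 := by
      rw [mul_assoc (w₁ : Γ(X, T)), Units.mul_inv, mul_one, Units.mul_inv]
    rw [this, one_smul]

end spread

end

end Groth.Agent.Lib.Helper17.Spread
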