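import Mathlib
import Groth.Agent.Lib.Helper17SpreadC
import Groth.Agent.Lib.Helper17FFaith5
import Groth.Agent.Lib.Helper6QCohQcqs
import Groth.Agent.Lib.Helper2FPAff
import Groth.Agent.Lib.Helper2LocFree
import Groth.Agent.Lib.Helper21HZB9
import Groth.Agent.Lib.Helper17IAdic2

/-!
# Helper17: a finite locally free module on a qcqs scheme is, up to a power of `f`, a retract of a
free module, when `X_f` is affine (first part: quasi-coherence of `ℋom(F, N)`, dual bases)
-/

set_option autoImplicit false
universe u
open CategoryTheory CategoryTheory.Limits AlgebraicGeometry TopologicalSpace Opposite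

namespace Groth.Agent.Lib.Helper17.PuncAnn

open Groth.Agent.Lib.Helper17.FFaith Groth.Agent.Lib.Helper21.HomI Groth.Agent.Lib.Helper21.HomU

section alg

/-- dual bases of finite projective modules. -/
theorem exists_dual_basis (R P : Type*) [CommRing R] [AddCommGroup P] [Module R P]
    [Module.Finite R P] [Module.Projective R P] :
    ∃ (k : ℕ) (e : Fin k → P) (l : Fin k → (P →ₗ[R] R)), ∀ x : P, ∑ i, l i x • e i = x := by
  obtain ⟨k, f, g, -, -, hfg⟩ := Module.Finite.exists_comp_eq_id_of_projective R P
  refine ⟨k, fun i => f (Pi.single i 1), fun i => LinearMap.proj i ∘ₗ g, fun x => ?_⟩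
  have h1 : f (g x) = x := LinearMap.congr_fun hfg x
  conv_rhs => rw [← h1]
  have h2 : g x = ∑ i, (g x i) • (Pi.single i 1 : Fin k → R) := by
    ext j
    simp [Finset.sum_apply, Pi.single_apply]
  conv_rhs => rw [h2]
  rw [map_sum]
  refine Finset.sum_congr rfl (fun i _ => ?_)
  rw [map_smul]
  rfl

end alg

variable {X : Scheme.{u}}

/-- sections of a finite locally free module over an affine open are finitely presented. -/
theorem finitePresentation_sections_of_isFinLocFree (F : X.Modules) (hF : FlatMod.IsFinLocFree F)
    {U : X.Opens} (hU : IsAffineOpen U) : Module.FinitePresentation Γ(X, U) Γ(F, U) := by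
  haveI : F.IsQuasicoherent := Groth.Agent.Lib.Helper21.HZB.isQuasicoherent_of_isFinLocFree F hF
  haveI := Groth.Agent.Lib.Helper2.LocFree.isFP_of_isFinLocFree F hF
  exact Groth.Agent.Lib.Helper2.FPAff.finitePresentation_sections F hU

/-- sections of a finite locally free module over an affine open are projective. -/
theorem projective_sections_of_isFinLocFree (F : X.Modules) (hF : FlatMod.IsFinLocFree F)
    {U : X.Opens} (hU : IsAffineOpen U) : Module.Projective Γ(X, U) Γ(F, U) := by
  haveI : F.IsQuasicoherent := Groth.Agent.Lib.Helper21.HZB.isQuasicoherent_of_isFinLocFree F hF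
  haveI := finitePresentation_sections_of_isFinLocFree F hF hU
  haveI : Module.Flat Γ(X, U) Γ(F, U) :=
    Groth.Agent.Lib.Helper2.LocFree.flat_sections_of_isFlatAt F hU
      (fun x _ => Groth.Agent.Lib.Helper2.LocFree.isFlat_of_isFinLocFree F hF x)
  exact Module.Flat.projective_of_finitePresentation

/-- `ℋom(F, N)` is quasi-coherent for `F` finite locally free and `N` quasi-coherent. -/
theorem isQuasicoherent_sHom_of_isFinLocFree (F N : X.Modules) (hF : FlatMod.IsFinLocFree F)
    [N.IsQuasicoherent] : (sHom F N).IsQuasicoherent := by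
  haveI : F.IsQuasicoherent := Groth.Agent.Lib.Helper21.HZB.isQuasicoherent_of_isFinLocFree F hF
  apply Groth.Agent.Lib.Helper23.QCohLocal.isQuasicoherent_of_isLocOn
  intro W hW
  haveI := finitePresentation_sections_of_isFinLocFree F hF hW
  exact isLocOn_sHom F N hW

end Groth.Agent.Lib.Helper17.PuncAnn
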