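import Mathlib
import Groth.Agent.Lib.Helper17PuncAnn1

/-!
# Helper17: a finite locally free module on a qcqs scheme over `Spec A` is, up to a power of `f`,
a retract of a free module, when `X_f` is affine
-/

set_option autoImplicit false
universe u
open CategoryTheory CategoryTheory.Limits AlgebraicGeometry TopologicalSpace Opposite

namespace Groth.Agent.Lib.Helper17.PuncAnn

open Groth.Agent.Lib.Helper17.FFaith Groth.Agent.Lib.Helper21.HomI Groth.Agent.Lib.Helper21.HomU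
  Groth.Agent.Lib.Helper17.FlatDev Groth.Agent.Lib.Helper17.Spread Groth.Agent.Lib.Helper6

variable {A : Type u} [CommRing A] {X : Scheme.{u}} [X.Over (Spec (CommRingCat.of A))]

/-- evaluation of the morphism of a global section of `ℋom` on an open. -/
theorem homOfSec_app {F N : X.Modules} (σ : Γ(sHom F N, ⊤)) (W : X.Opens) (x : Γ(F, W)) :
    (homOfSec σ).app W x = evΓ F N (secOut W (res (sHom F N) (le_top : W ≤ ⊤) σ)) x := rfl

theorem resf_ρ_top (W : X.Opens) (f : A) :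
    resf (le_top : W ≤ ⊤) (ρ ⊤ f : Γ(X, ⊤)) = (ρ W f : Γ(X, W)) := by
  change (X.presheaf.map (homOfLE (le_top : W ≤ ⊤)).op).hom
    ((X.presheaf.map (homOfLE (le_top : (⊤ : X.Opens) ≤ ⊤)).op).hom _) = _
  rw [← CommRingCat.comp_apply, ← X.presheaf.map_comp]
  rfl

variable [CompactSpace X] [QuasiSeparatedSpace X]

/-- extension of a linear map over `X_f` to a morphism, up to a power of `f`. -/
theorem exists_hom_of_linearMap (f : A) (hW : IsAffineOpen (X.basicOpen (ρ ⊤ f : Γ(X, ⊤))))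
    (F N : X.Modules) [F.IsQuasicoherent] [(sHom F N).IsQuasicoherent]
    (φ : Γ(F, X.basicOpen (ρ ⊤ f : Γ(X, ⊤))) →ₗ[Γ(X, X.basicOpen (ρ ⊤ f : Γ(X, ⊤)))]
      Γ(N, X.basicOpen (ρ ⊤ f : Γ(X, ⊤)))) :
    ∃ (n : ℕ) (u : F ⟶ N), ∀ x : Γ(F, X.basicOpen (ρ ⊤ f : Γ(X, ⊤))),
      u.app (X.basicOpen (ρ ⊤ f : Γ(X, ⊤))) x =
        (ρ (X.basicOpen (ρ ⊤ f : Γ(X, ⊤))) f : Γ(X, X.basicOpen (ρ ⊤ f : Γ(X, ⊤)))) ^ n • φ x := by
  obtain ⟨t, ht⟩ := evΓ_surjective F N hW φ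
  obtain ⟨n, -, σ, hσ⟩ := exists_extension_top_of_qcqs X (ρ ⊤ f : Γ(X, ⊤)) (sHom F N)
    (secIn _ t)
  refine ⟨n, homOfSec σ, fun x => ?_⟩
  rw [homOfSec_app, hσ, resf_ρ_top]
  change evΓ F N (toRS ((ρ (X.basicOpen (ρ ⊤ f : Γ(X, ⊤))) f :
    Γ(X, X.basicOpen (ρ ⊤ f : Γ(X, ⊤)))) ^ n) • t) x = _
  rw [evΓ_smul, ht]
  rfl

end Groth.Agent.Lib.Helper17.PuncAnn
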