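import Mathlib
import Groth.Agent.Lib.Helper17PuncAnn2
import Groth.Agent.Lib.Helper17HomLift6

/-!
# Helper17: a finite locally free module on a qcqs scheme over `Spec A` is, up to a power of `f`,
a retract of a free module, when `X_f` is affine (main lemma)
-/

set_option autoImplicit false
universe u
open CategoryTheory CategoryTheory.Limits AlgebraicGeometry TopologicalSpace Opposite

namespace Groth.Agent.Lib.Helper17.PuncAnn

open Groth.Agent.Lib.Helper17.FFaith Groth.Agent.Lib.Helper21.HomI Groth.Agent.Lib.Helper21.HomU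
  Groth.Agent.Lib.Helper17.FlatDev Groth.Agent.Lib.Helper17.Spread Groth.Agent.Lib.Helper6

variable {A : Type u} [CommRing A] {X : Scheme.{u}} [X.Over (Spec (CommRingCat.of A))]

theorem sum_app {M N : X.Modules} {ι : Type*} (s : Finset ι) (φ : ι → (M ⟶ N)) (U : X.Opens)
    (x : Γ(M, U)) : (∑ k ∈ s, φ k).app U x = ∑ k ∈ s, (φ k).app U x := by
  classical
  induction s using Finset.induction_on with
  | empty =>
    rw [Finset.sum_empty, Finset.sum_empty, Scheme.Modules.Hom.zero_app]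
    rfl
  | insert a s ha ih =>
    rw [Finset.sum_insert ha, Finset.sum_insert ha, Scheme.Modules.Hom.add_app]
    change (φ a).app U x + (∑ k ∈ s, φ k).app U x = _
    rw [ih]

instance isQuasicoherent_sHom_unit (F : X.Modules) [F.IsQuasicoherent] :
    (sHom (Coh.structureModule X) F).IsQuasicoherent :=
  let e : F ≅ sHom (Coh.structureModule X) F :=
    (Groth.Agent.Lib.Helper17.HomLift.sHomFUnitIso.app F).symm
  Groth.Agent.Lib.Helper23.TensorQCoh.isQuasicoherent_of_iso e

variable [CompactSpace X] [QuasiSeparatedSpace X]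

/-- a morphism vanishing on `X_f` is killed by a power of `f`. -/
theorem exists_pow_comp_eq_zero (f : A) (hW : IsAffineOpen (X.basicOpen (ρ ⊤ f : Γ(X, ⊤))))
    (F N : X.Modules) [F.IsQuasicoherent] [(sHom F N).IsQuasicoherent] (D : F ⟶ N)
    (hD : ∀ x : Γ(F, X.basicOpen (ρ ⊤ f : Γ(X, ⊤))),
      D.app (X.basicOpen (ρ ⊤ f : Γ(X, ⊤))) x = 0) :
    ∃ n : ℕ, D ≫ Formal.smulMod A N (f ^ n) = 0 := by
  have h1 : res (sHom F N) (le_top : X.basicOpen (ρ ⊤ f : Γ(X, ⊤)) ≤ ⊤) (secOfHom D) = 0 := by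
    have h2 : evΓ F N (secOut (X.basicOpen (ρ ⊤ f : Γ(X, ⊤)))
        (res (sHom F N) (le_top : X.basicOpen (ρ ⊤ f : Γ(X, ⊤)) ≤ ⊤) (secOfHom D))) =
        evΓ F N (0 : Fam F N (X.basicOpen (ρ ⊤ f : Γ(X, ⊤)))) := by
      apply LinearMap.ext
      intro x
      rw [← homOfSec_app, homOfSec_secOfHom, hD x]
      rfl
    exact evΓ_injective F N hW h2
  obtain ⟨n, -, hn⟩ := exists_pow_smul_eq_zero_top_of_compactSpace X (ρ ⊤ f : Γ(X, ⊤))
    (sHom F N) (secOfHom D) h1
  refine ⟨n, ?_⟩
  have h3 := homOfSec_smul (F := F) (N := N) (f ^ n) (secOfHom D)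
  rw [homOfSec_secOfHom, map_pow, hn, homOfSec_zero] at h3
  exact h3.symm

/-- **main lemma**: up to a power of `f`, a finite locally free module is a retract of a free
module, when `X_f` is affine. -/
theorem exists_retract_pow (f : A) (hW : IsAffineOpen (X.basicOpen (ρ ⊤ f : Γ(X, ⊤))))
    (F : X.Modules) (hF : FlatMod.IsFinLocFree F) :
    ∃ (k N : ℕ) (s : Fin k → (Coh.structureModule X ⟶ F)) (l : Fin k → (F ⟶ Coh.structureModule X)),
      ∑ i, l i ≫ s i = Formal.smulMod A F (f ^ N) := by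
  haveI : F.IsQuasicoherent := Groth.Agent.Lib.Helper21.HZB.isQuasicoherent_of_isFinLocFree F hF
  haveI : (sHom F (Coh.structureModule X)).IsQuasicoherent :=
    isQuasicoherent_sHom_of_isFinLocFree F _ hF
  haveI : (sHom F F).IsQuasicoherent := isQuasicoherent_sHom_of_isFinLocFree F F hF
  set W : X.Opens := X.basicOpen (ρ ⊤ f : Γ(X, ⊤)) with hWdef
  haveI : Module.Finite Γ(X, W) Γ(F, W) :=
    haveI := finitePresentation_sections_of_isFinLocFree F hF hW
    inferInstance
  haveI : Module.Projective Γ(X, W) Γ(F, W) := projective_sections_of_isFinLocFree F hF hW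
  obtain ⟨k, e, lam, hel⟩ := exists_dual_basis Γ(X, W) Γ(F, W)
  -- the coordinate functionals
  have hl : ∀ i : Fin k, ∃ (m : ℕ) (u : F ⟶ Coh.structureModule X), ∀ x : Γ(F, W),
      u.app W x = ((ρ W f : Γ(X, W)) ^ m * lam i x : Γ(X, W)) := fun i => by
    obtain ⟨m, u, hu⟩ := exists_hom_of_linearMap f hW F (Coh.structureModule X)
      (show Γ(F, W) →ₗ[Γ(X, W)] Γ(Coh.structureModule X, W) from lam i)
    exact ⟨m, u, fun x => hu x⟩
  -- the generators
  have hs : ∀ i : Fin k, ∃ (n : ℕ) (u : Coh.structureModule X ⟶ F), ∀ r : Γ(X, W),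
      u.app W (show Γ(Coh.structureModule X, W) from r) = ((ρ W f : Γ(X, W)) ^ n * r) • e i :=
      fun i => by
    obtain ⟨n, u, hu⟩ := exists_hom_of_linearMap f hW (Coh.structureModule X) F
      (show Γ(Coh.structureModule X, W) →ₗ[Γ(X, W)] Γ(F, W) from
        LinearMap.toSpanSingleton Γ(X, W) Γ(F, W) (e i))
    refine ⟨n, u, fun r => ?_⟩
    rw [hu, mul_smul]
    rfl
  choose m l hl using hl
  choose n s hs using hs
  set M₀ : ℕ := ∑ i, (m i + n i) with hM₀
  have hc : ∀ i, m i + n i ≤ M₀ := fun i =>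
    Finset.single_le_sum (f := fun i => m i + n i) (fun _ _ => Nat.zero_le _) (Finset.mem_univ i)
  set D : F ⟶ F := (∑ i, l i ≫ s i ≫ Formal.smulMod A F (f ^ (M₀ - (m i + n i)))) -
    Formal.smulMod A F (f ^ M₀) with hDdef
  have hD : ∀ x : Γ(F, W), D.app W x = 0 := by
    intro x
    rw [hDdef, Scheme.Modules.Hom.sub_app]
    change (∑ i, l i ≫ s i ≫ Formal.smulMod A F (f ^ (M₀ - (m i + n i)))).app W x -
      (Formal.smulMod A F (f ^ M₀)).app W x = 0
    rw [sum_app, smulMod_app, sub_eq_zero]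
    have h1 : ∀ i : Fin k, (l i ≫ s i ≫ Formal.smulMod A F (f ^ (M₀ - (m i + n i)))).app W x =
        (ρ W (f ^ M₀) : Γ(X, W)) • (lam i x • e i) := by
      intro i
      rw [comp_app_apply, comp_app_apply, smulMod_app, hl i x]
      have h2 := hs i ((ρ W f : Γ(X, W)) ^ m i * lam i x)
      rw [h2, ← mul_smul, ← mul_smul]
      congr 1
      have h3 : M₀ = (M₀ - (m i + n i)) + (n i + m i) := by
        have := hc i
        omega
      conv_rhs => rw [h3]
      rw [map_pow, map_pow, pow_add, pow_add]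
      ring
    rw [Finset.sum_congr rfl (fun i _ => h1 i), ← Finset.smul_sum, hel x]
  obtain ⟨N', hN'⟩ := exists_pow_comp_eq_zero f hW F F D hD
  refine ⟨k, M₀ + N', fun i => s i ≫ Formal.smulMod A F (f ^ (M₀ - (m i + n i))) ≫
    Formal.smulMod A F (f ^ N'), l, ?_⟩
  rw [hDdef, Preadditive.sub_comp, sub_eq_zero, Preadditive.sum_comp] at hN'
  have h4 : Formal.smulMod A F (f ^ M₀) ≫ Formal.smulMod A F (f ^ N') =
      Formal.smulMod A F (f ^ (M₀ + N')) := by
    apply Scheme.Modules.hom_ext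
    intro U
    ext x
    rw [comp_app_apply, smulMod_app, smulMod_app, smulMod_app, ← mul_smul, pow_add, map_mul,
      mul_comm]
  rw [h4] at hN'
  rw [← hN']
  refine Finset.sum_congr rfl (fun i _ => ?_)
  simp only [Category.assoc]

end Groth.Agent.Lib.Helper17.PuncAnn
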