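import Mathlib
import Groth.Agent.Lib.Helper17PuncAnn3
import Groth.Prelude.Def_Wider
import Groth.Agent.Lib.Helper27CoprodFin

/-!
# Helper17: annihilation of the cohomology of finite locally free modules on quasi-affine opens
of `Spec A`
-/

set_option autoImplicit false
universe u
open CategoryTheory CategoryTheory.Limits AlgebraicGeometry TopologicalSpace Opposite

namespace Groth.Agent.Lib.Helper17.PuncAnn

open Groth.Agent.Lib.Helper17.FFaith Groth.Agent.Lib.Helper17.FlatDev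
  Groth.Agent.Lib.Helper17.HHLes Groth.Agent.Lib.Helper17.IAdic

section coh

variable {A : Type u} [CommRing A] {X : Scheme.{u}} [X.Over (Spec (CommRingCat.of A))]

theorem Hm_add' {M N : X.Modules} (φ ψ : M ⟶ N) (p : ℕ) (x : Coh.HH X M p) :
    Hm (φ + ψ) p x = Hm φ p x + Hm ψ p x :=
  (Groth.Agent.Lib.Helper27CoprodFin.evalH (N := N) p x).map_add φ ψ

theorem Hm_sum' {M N : X.Modules} {ι : Type*} (s : Finset ι) (φ : ι → (M ⟶ N)) (p : ℕ)
    (x : Coh.HH X M p) : Hm (∑ k ∈ s, φ k) p x = ∑ k ∈ s, Hm (φ k) p x :=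
  map_sum (Groth.Agent.Lib.Helper27CoprodFin.evalH (N := N) p x) φ s

variable [CompactSpace X] [QuasiSeparatedSpace X]

/-- if `a` kills `H^p(X, O_X)` then `f^N a` kills `H^p(X, F)`, for `F` finite locally free and
`X_f` affine. -/
theorem exists_pow_mul_smul_eq_zero (f : A) (hW : IsAffineOpen (X.basicOpen (ρ ⊤ f : Γ(X, ⊤))))
    (F : X.Modules) (hF : FlatMod.IsFinLocFree F) (p : ℕ) :
    ∃ N : ℕ, ∀ a : A, (∀ y : Coh.HH X (Coh.structureModule X) p, a • y = 0) →
      ∀ x : Coh.HH X F p, (f ^ N * a) • x = 0 := by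
  obtain ⟨k, N, s, l, h⟩ := exists_retract_pow f hW F hF
  refine ⟨N, fun a ha x => ?_⟩
  rw [mul_comm, mul_smul, ← Hm_smulMod F (f ^ N) p x, ← h, Hm_sum', Finset.smul_sum]
  refine Finset.sum_eq_zero (fun i _ => ?_)
  rw [← Hm_comp, ← Hm_smul, ha, map_zero]

end coh

section punctured

variable (A : Type u) [CommRing A] (I : Ideal A)

theorem compactSpace_puncturedOpen (hI : I.FG) :
    CompactSpace ↥(↑(LocCoh.puncturedOpen A I) : Scheme.{u}) := by
  have h : IsCompact ((PrimeSpectrum.zeroLocus (R := A) (I : Set A))ᶜ) :=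
    (PrimeSpectrum.isCompact_isOpen_iff_ideal.mpr ⟨I, hI, rfl⟩).1
  exact isCompact_iff_compactSpace.mp h

instance quasiSeparatedSpace_puncturedOpen :
    QuasiSeparatedSpace ↥(↑(LocCoh.puncturedOpen A I) : Scheme.{u}) :=
  quasiSeparatedSpace_of_quasiSeparated (LocCoh.puncturedOpen A I).ι

end punctured

end Groth.Agent.Lib.Helper17.PuncAnn
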