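import Groth.Agent.Lib.Helper17KosOrth7
import Groth.Agent.Lib.Helper17RAdjBound
import Groth.Agent.Lib.Helper17PuncAnn4

/-!
# Koszul orthogonality on `Spec A`: the cone of the unit `E ⟶ Rj_* j^* E` (helper17)
-/

set_option autoImplicit false
set_option linter.style.haveILetI false
set_option maxHeartbeats 400000

universe u

open CategoryTheory CategoryTheory.Limits AlgebraicGeometry DerivedCategory Pretriangulated

attribute [local instance] HasDerivedCategory.standard

namespace Groth.Agent.Lib.Helper17.KosOrth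

open Groth.Agent.Lib.Helper17.DQAdj Groth.Agent.Lib.Helper17.AffPush
  Groth.Agent.Lib.Helper17.QCPush Groth.Agent.S14388 Groth.Agent.Lib.Helper17.WayOut

variable (A : Type u) [CommRing A] (fs : List A)

instance quasiCompact_ι : QuasiCompact (UA A fs).ι := by
  haveI := Groth.Agent.Lib.Helper17.PuncAnn.compactSpace_puncturedOpen A
    (Ideal.span {a | a ∈ fs}) (Submodule.fg_span (List.finite_toSet fs))
  exact (HasAffineProperty.iff_of_isAffine (P := @QuasiCompact)).2 inferInstance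

section Trunc

variable {X : Scheme.{u}}

lemma isQCohD_truncLT (Y : DCoh.D X) (n : ℤ) (hY : DCoh.IsQCohD Y) :
    DCoh.IsQCohD ((tt.truncLT n).obj Y) := fun i =>
  prop_truncLT (P := fun M : X.Modules => Coh.IsQCoh M)
    (fun Z hZ => isQuasicoherent_of_isZero hZ) _ n hY i

lemma isQCohD_truncLE (Y : DCoh.D X) (n : ℤ) (hY : DCoh.IsQCohD Y) :
    DCoh.IsQCohD ((tt.truncLE n).obj Y) :=
  isQCohD_truncLT Y (n + 1) hY

lemma isQCohD_truncGE (Y : DCoh.D X) (n : ℤ) (hY : DCoh.IsQCohD Y) :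
    DCoh.IsQCohD ((tt.truncGE n).obj Y) := fun i =>
  prop_truncGE (P := fun M : X.Modules => Coh.IsQCoh M)
    (fun Z hZ => isQuasicoherent_of_isZero hZ) _ n hY i

end Trunc

variable [PreservesFiniteLimits (tilde.functor (CommRingCat.of A))]
  [PreservesFiniteLimits (Scheme.Modules.restrictFunctor (UA A fs).ι)]
  [DCoh.HasRpush (UA A fs).ι]
  (adj : DCoh.restrictD (UA A fs).ι ⊣ DCoh.Rpush (UA A fs).ι)

omit [PreservesFiniteLimits (tilde.functor (CommRingCat.of A))] in
include adj in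
lemma isIso_counit : IsIso adj.counit := by
  have ff := (adjD (UA A fs).ι).fullyFaithfulROfIsIsoCounit
  haveI := ff.full
  haveI := ff.faithful
  infer_instance

omit [PreservesFiniteLimits (tilde.functor (CommRingCat.of A))] in
lemma isIso_restrictD_map_unit (E : DCoh.D (Spec (CommRingCat.of A))) :
    IsIso ((DCoh.restrictD (UA A fs).ι).map (adj.unit.app E)) := by
  haveI := isIso_counit A fs adj
  have h := adj.left_triangle_components E
  haveI : IsIso ((DCoh.restrictD (UA A fs).ι).map (adj.unit.app E) ≫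
      adj.counit.app ((DCoh.restrictD (UA A fs).ι).obj E)) := by
    rw [h]
    exact IsIso.id _
  exact IsIso.of_isIso_comp_right _ (adj.counit.app ((DCoh.restrictD (UA A fs).ι).obj E))

omit [PreservesFiniteLimits (tilde.functor (CommRingCat.of A))] in
/-- the cone of the unit is quasi-coherent and restricts to zero on the punctured spectrum. -/
theorem exists_cone (E : DCoh.D (Spec (CommRingCat.of A))) (hE : DCoh.IsQCohD E) :
    ∃ (C : DCoh.D (Spec (CommRingCat.of A)))
      (p : (DCoh.restrictD (UA A fs).ι ⋙ DCoh.Rpush (UA A fs).ι).obj E ⟶ C)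
      (δ : C ⟶ ((𝟭 (DCoh.D (Spec (CommRingCat.of A)))).obj E)⟦(1 : ℤ)⟧),
      Triangle.mk (adj.unit.app E) p δ ∈ distTriang (DCoh.D (Spec (CommRingCat.of A))) ∧
        DCoh.IsQCohD C ∧ IsZero ((DCoh.restrictD (UA A fs).ι).obj C) := by
  obtain ⟨C, p, δ, hT⟩ := distinguished_cocone_triangle (adj.unit.app E)
  refine ⟨C, p, δ, hT, ?_, ?_⟩
  · exact isQCohD_obj₃ _ hT hE (isQCohD_rpush _ _ (isQCohD_restrictD' _ E hE))
  · have hT' := (DCoh.restrictD (UA A fs).ι).map_distinguished _ hT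
    haveI := isIso_restrictD_map_unit A fs adj E
    exact (Triangle.isZero₃_iff_isIso₁ _ hT').2
      (inferInstanceAs (IsIso ((DCoh.restrictD (UA A fs).ι).map (adj.unit.app E))))

variable {A fs} in
/-- `Hom(K⟦k⟧, C) = 0` as soon as `Hom(K⟦k - 1⟧, E) = 0`. -/
theorem orth_cone {E C : DCoh.D (Spec (CommRingCat.of A))}
    {p : (DCoh.restrictD (UA A fs).ι ⋙ DCoh.Rpush (UA A fs).ι).obj E ⟶ C}
    {δ : C ⟶ ((𝟭 (DCoh.D (Spec (CommRingCat.of A)))).obj E)⟦(1 : ℤ)⟧}
    (hT : Triangle.mk (adj.unit.app E) p δ ∈ distTriang (DCoh.D (Spec (CommRingCat.of A))))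
    (k : ℤ) (h : Orth (Kz A fs) (k - 1) E) : Orth (Kz A fs) k C :=
  Orth.obj₃ hT (orth_rpush A fs k _) h

/-- **S1095, first clause.** -/
theorem isIso_truncLE_map_unit (E : DCoh.D (Spec (CommRingCat.of A))) (hE : DCoh.IsQCohD E)
    (a : ℤ) (h : ∀ n : ℤ, n ≤ a → Orth (Kz A fs) (-n) E) :
    IsIso ((tt.truncLE (a - 1)).map (adj.unit.app E)) := by
  obtain ⟨C, p, δ, hT, hC, hz⟩ := exists_cone A fs adj E hE
  have hGE : C.IsGE a := by
    rw [isGE_iff]
    intro m hm
    refine isZero_HD_of_orth A fs C hC hz m (orth_cone adj hT (-m) ?_)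
    have h1 := h (m + 1) (by omega)
    have h2 : -(m + 1) = -m - 1 := by omega
    rw [h2] at h1
    exact h1
  exact tt.isIso₁_truncLE_map_of_isGE _ hT (a - 1) a (by omega) hGE

/-- **S1096, first clause.** -/
theorem isIso_truncGE_map_unit (E : DCoh.D (Spec (CommRingCat.of A))) (hE : DCoh.IsQCohD E)
    (a : ℤ) (h : ∀ n : ℤ, a ≤ n → Orth (Kz A fs) (-n) E) :
    IsIso ((tt.truncGE a).map (adj.unit.app E)) := by
  obtain ⟨C, p, δ, hT, hC, hz⟩ := exists_cone A fs adj E hE
  have hLE : C.IsLE (a - 2) := by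
    rw [isLE_iff]
    intro m hm
    refine isZero_HD_of_orth A fs C hC hz m (orth_cone adj hT (-m) ?_)
    have h1 := h (m + 1) (by omega)
    have h2 : -(m + 1) = -m - 1 := by omega
    rw [h2] at h1
    exact h1
  have h1 : tt.IsLE (C⟦(-1 : ℤ)⟧) (a - 1) := tt.isLE_shift C (a - 2) (-1) (a - 1) (by omega)
  exact tt.isIso₂_truncGE_map_of_isLE _ (inv_rot_of_distTriang _ hT) (a - 1) a (by omega) h1

/-- **S1044, the main implication.** -/
theorem isIso_unit_of_orth (E : DCoh.D (Spec (CommRingCat.of A))) (hE : DCoh.IsQCohD E)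
    (h : ∀ n : ℤ, Orth (Kz A fs) n E) : IsIso (adj.unit.app E) := by
  obtain ⟨C, p, δ, hT, hC, hz⟩ := exists_cone A fs adj E hE
  have h0 : IsZero C := by
    apply Groth.Agent.Lib.Helper17.UnitSupp.isZero_of_homology
    intro m
    exact isZero_HD_of_orth A fs C hC hz m (orth_cone adj hT (-m) (h _))
  exact (Triangle.isZero₃_iff_isIso₁ _ hT).1 h0

/-- **S1095, second clause.** -/
theorem orth_of_isIso_truncLE (E : DCoh.D (Spec (CommRingCat.of A))) (a : ℤ)
    (h : IsIso ((tt.truncLE (a - 1)).map (adj.unit.app E))) (n : ℤ) (hn : n ≤ a - 1) :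
    Orth (Kz A fs) (-n) E := by
  obtain ⟨Z, g, w, hT, hZ⟩ := (tt.isIso_truncLE_map_iff (adj.unit.app E) (a - 1) a (by omega)).1 h
  haveI : Z.IsGE a := hZ
  have h1 : Orth (Kz A fs) (-n) ((tt.truncLE (a - 1)).obj E) := by
    refine Orth.obj₁ (T := Triangle.mk ((tt.truncLEι (a - 1)).app
      ((𝟭 (DCoh.D (Spec (CommRingCat.of A)))).obj E) ≫ adj.unit.app E) g w) hT
      (orth_rpush A fs (-n) _) ?_
    have h2 := orth_of_isGE A fs Z a (n - 1) (by omega)
    have h3 : -(n - 1) = -n + 1 := by omega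
    rw [h3] at h2
    exact h2
  have hT' := tt.triangleLEGE_distinguished (a - 1) a (by omega) E
  refine Orth.obj₂ (T := (tt.triangleLEGE (a - 1) a (by omega)).obj E) hT' h1 ?_
  haveI : ((tt.truncGE a).obj E).IsGE a := inferInstanceAs (tt.IsGE ((tt.truncGE a).obj E) a)
  exact orth_of_isGE A fs ((tt.truncGE a).obj E) a n (by omega)

end Groth.Agent.Lib.Helper17.KosOrth
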