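import Groth.Agent.Lib.Helper17SumPush1
import Groth.Agent.Lib.Helper17AcycPush2
import Groth.Agent.Lib.Helper21DCoprod

/-!
# `Rf_*` commutes with uniformly bounded below coproducts, `f` quasi-compact quasi-separated
(helper17)
-/

set_option autoImplicit false
set_option linter.style.haveILetI false
set_option maxHeartbeats 400000

universe w w' v v' u u'

open CategoryTheory CategoryTheory.Limits AlgebraicGeometry

attribute [local instance] HasDerivedCategory.standard

namespace Groth.Agent.Lib.Helper17.SumPush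

section Cofan

variable {D : Type*} [Category D] {ι : Type*}

/-- transport of a colimit cofan along isomorphisms of the summands and of the point. -/
def isColimitCofanOfIso {Y Z : ι → D} (a : ∀ i, Y i ≅ Z i) {P P' : D} (φ : P ≅ P')
    (y : ∀ i, Y i ⟶ P) (z : ∀ i, Z i ⟶ P') (h : ∀ i, y i ≫ φ.hom = (a i).hom ≫ z i)
    (hy : IsColimit (Cofan.mk P y)) : IsColimit (Cofan.mk P' z) :=
  mkCofanColimit _
    (fun t => φ.inv ≫ Cofan.IsColimit.desc hy (fun i => (a i).hom ≫ t.inj i))
    (fun t i => by
      have hz : z i = (a i).inv ≫ y i ≫ φ.hom := by rw [h i, Iso.inv_hom_id_assoc]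
      change z i ≫ _ = _
      rw [hz, Category.assoc, Category.assoc, Iso.hom_inv_id_assoc]
      erw [Cofan.IsColimit.fac hy]
      rw [Iso.inv_hom_id_assoc])
    (fun t m hm => by
      rw [← cancel_epi φ.hom, Iso.hom_inv_id_assoc]
      refine Cofan.IsColimit.hom_ext hy _ _ (fun i => ?_)
      erw [Cofan.IsColimit.fac hy]
      change y i ≫ φ.hom ≫ m = _
      rw [← Category.assoc, h i, Category.assoc]
      congr 1
      exact hm i)

/-- the comparison map out of the coproduct is an isomorphism when the target cofan is a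
colimit. -/
lemma isIso_sigmaDesc_of_isColimit {Z : ι → D} [HasCoproduct Z] {P : D} (z : ∀ i, Z i ⟶ P)
    (hz : IsColimit (Cofan.mk P z)) : IsIso (Sigma.desc z) := by
  have h : Sigma.desc z =
      ((coproductIsCoproduct Z).coconePointUniqueUpToIso hz).hom := by
    apply Sigma.hom_ext
    intro i
    rw [Sigma.ι_desc]
    exact ((coproductIsCoproduct Z).comp_coconePointUniqueUpToIso_hom hz ⟨i⟩).symm
  rw [h]
  infer_instance

end Cofan

section Abstract

variable {A : Type u} [Category.{v} A] [Abelian A] [HasDerivedCategory.{w} A]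
  {B : Type u'} [Category.{v'} B] [Abelian B] [HasDerivedCategory.{w'} B]
  (F : A ⥤ B) [F.Additive]
  (RΦ : DerivedCategory A ⥤ DerivedCategory B)
  (α : (F.mapHomotopyCategory (ComplexShape.up ℤ) ⋙ DerivedCategory.Qh) ⟶
    DerivedCategory.Qh ⋙ RΦ)

/-- if `Q(F C)` is the coproduct of the `Q(F I_i)` and the unit is an isomorphism at `C` and at
the `I_i`, then `RΦ(Q C)` is the coproduct of the `RΦ(Q I_i)`. -/
noncomputable def isColimitRΦCofan {ι : Type*} (I : ι → CochainComplex A ℤ)
    (C : CochainComplex A ℤ) (inj : ∀ i, I i ⟶ C)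
    (h2 : IsColimit (Cofan.mk
      (DerivedCategory.Q.obj ((F.mapHomologicalComplex (ComplexShape.up ℤ)).obj C))
      (fun i => DerivedCategory.Q.map ((F.mapHomologicalComplex (ComplexShape.up ℤ)).map (inj i)))))
    (hC : IsIso (α.app ((HomotopyCategory.quotient A (ComplexShape.up ℤ)).obj C)))
    (hI : ∀ i, IsIso (α.app ((HomotopyCategory.quotient A (ComplexShape.up ℤ)).obj (I i)))) :
    IsColimit (Cofan.mk (RΦ.obj (DerivedCategory.Q.obj C))
      (fun i => RΦ.map (DerivedCategory.Q.map (inj i)))) := by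
  haveI := hC
  haveI := hI
  refine isColimitCofanOfIso
    (fun i => asIso (α.app ((HomotopyCategory.quotient A (ComplexShape.up ℤ)).obj (I i))))
    (asIso (α.app ((HomotopyCategory.quotient A (ComplexShape.up ℤ)).obj C))) _ _ (fun i => ?_) h2
  exact α.naturality ((HomotopyCategory.quotient A (ComplexShape.up ℤ)).map (inj i))

end Abstract

section Sch

open Groth.Agent.Lib.Helper17.MV Groth.Agent.Lib.Helper17.QCPush Groth.Agent.Lib.Helper17.AcycPush
  Groth.Agent.Lib.Helper21.DCoprod

variable {X S : Scheme.{u}} (f : X ⟶ S) [QuasiCompact f] [QuasiSeparated f] [DCoh.HasRpush f]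

lemma hasExactColimitsOfShape_discrete (Y : Scheme.{u}) (ι : Type u) :
    HasExactColimitsOfShape (Discrete ι) Y.Modules := by
  haveI := isGrothendieckAbelian Y
  haveI : AB4OfSize.{u} Y.Modules := AB4.of_AB5 _
  infer_instance

/-- **`Rf_*` commutes with coproducts of uniformly bounded below objects.** -/
theorem isIso_sigmaDesc_Rpush {ι : Type u} (K : ι → DCoh.D X) (n : ℤ) (hK : ∀ i, (K i).IsGE n)
    [HasCoproduct K] [HasCoproduct (fun i => (DCoh.Rpush f).obj (K i))] :
    IsIso (Sigma.desc (fun i => (DCoh.Rpush f).map (Sigma.ι K i))) := by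
  haveI := isGrothendieckAbelian X
  haveI := isGrothendieckAbelian S
  haveI := enoughInjectives X
  haveI : HasInjectiveResolutions X.Modules := inferInstance
  haveI := hasExactColimitsOfShape_discrete X ι
  haveI := hasExactColimitsOfShape_discrete S ι
  -- bounded below injective models
  have hres : ∀ i, ∃ (I : CochainComplex X.Modules ℤ),
      Nonempty (K i ≅ (DerivedCategory.Q : _ ⥤ DerivedCategory X.Modules).obj I) ∧
      (∀ m, Injective (I.X m)) ∧ I.IsStrictlyGE (n - 1) := fun i => by
    haveI := hK i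
    obtain ⟨K', hK', ⟨eK⟩⟩ := DerivedCategory.exists_iso_Q_obj_of_isGE (K i) n
    obtain ⟨I, g, -, hg, hI, hI'⟩ :=
      CochainComplex.Plus.modelCategoryQuillen.exists_mono_quasiIso_injective K' (n - 1) n
        (by omega)
    haveI : IsIso ((DerivedCategory.Q : _ ⥤ DerivedCategory X.Modules).map g) := by
      rw [DerivedCategory.isIso_Q_map_iff_quasiIso]; exact hg
    exact ⟨I, ⟨eK ≪≫ asIso (DerivedCategory.Q.map g)⟩, hI, hI'⟩
  choose I e₀ hI hI' using hres
  have e : ∀ i, K i ≅ (DerivedCategory.Q : _ ⥤ DerivedCategory X.Modules).obj (I i) :=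
    fun i => (e₀ i).some
  have hcop : IsColimit (Cofan.mk (∐ I) (Sigma.ι I)) := coproductIsCoproduct I
  have hc : ∀ m : ℤ, IsColimit (Cofan.mk ((∐ I).X m) (fun i => (Sigma.ι I i).f m)) := fun m =>
    isColimitCofanMkObjOfIsColimit (HomologicalComplex.eval X.Modules (ComplexShape.up ℤ) m) _ _
      hcop
  haveI : (∐ I).IsStrictlyGE (n - 1) := by
    rw [CochainComplex.isStrictlyGE_iff]
    intro m hm
    rw [IsZero.iff_id_eq_zero]
    refine (hc m).hom_ext (fun ⟨i⟩ => ?_)
    exact ((I i).isZero_of_isStrictlyGE (n - 1) m hm).eq_of_src _ _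
  -- acyclicity of the terms
  have hacC : ∀ (m : ℤ) (q : ℕ), 0 < q → IsZero ((Coh.Rpush f q).obj ((∐ I).X m)) := by
    intro m q hq
    obtain ⟨q, rfl⟩ : ∃ k, q = k + 1 := ⟨q - 1, by omega⟩
    haveI : ∀ i, Injective ((I i).X m) := fun i => hI i m
    exact isZero_Rpush_of_isColimit_cofan f (fun i => (I i).X m) _ (hc m) q
  have hacI : ∀ (i : ι) (m : ℤ) (q : ℕ), 0 < q → IsZero ((Coh.Rpush f q).obj ((I i).X m)) := by
    intro i m q hq
    obtain ⟨q, rfl⟩ : ∃ k, q = k + 1 := ⟨q - 1, by omega⟩
    haveI := hI i m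
    exact Functor.isZero_rightDerived_obj_injective_succ _ q _
  have hαC := isIso_unit_of_isStrictlyGE f (∐ I) (n - 1) hacC
  have hαI := fun i => isIso_unit_of_isStrictlyGE f (I i) (n - 1) (hacI i)
  -- `Q(f_* C)` is the coproduct of the `Q(f_* I_i)`
  have hFc : IsColimit (Cofan.mk
      (((Scheme.Modules.pushforward f).mapHomologicalComplex (ComplexShape.up ℤ)).obj (∐ I))
      (fun i => ((Scheme.Modules.pushforward f).mapHomologicalComplex (ComplexShape.up ℤ)).map
        (Sigma.ι I i))) :=
    (isColimitMapCoconeCofanMkEquiv _ _ _)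
      (isColimitOfPreserves
        ((Scheme.Modules.pushforward f).mapHomologicalComplex (ComplexShape.up ℤ)) hcop)
  have h2 := isColimitQMapCofan _ hFc
  have hR := isColimitRΦCofan (Scheme.Modules.pushforward f) (DCoh.Rpush f)
    ((DCoh.pushKh f).totalRightDerivedUnit DerivedCategory.Qh
      (HomotopyCategory.quasiIso X.Modules (ComplexShape.up ℤ))) I (∐ I) (Sigma.ι I) h2 hαC hαI
  -- `Q C` is the coproduct of the `K_i`
  have h1 := isColimitQMapCofan (Sigma.ι I) hcop
  let ν : Discrete.functor (fun j => (DerivedCategory.Q : _ ⥤ DerivedCategory X.Modules).obj (I j)) ≅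
      Discrete.functor K := Discrete.natIso (fun j => (e j.as).symm)
  let ψ : (DerivedCategory.Q : _ ⥤ DerivedCategory X.Modules).obj (∐ I) ≅ ∐ K :=
    IsColimit.coconePointsIsoOfNatIso h1 (colimit.isColimit _) ν
  have hψ : ∀ i, (DerivedCategory.Q : _ ⥤ DerivedCategory X.Modules).map (Sigma.ι I i) ≫ ψ.hom =
      (e i).inv ≫ Sigma.ι K i := fun i =>
    IsColimit.comp_coconePointsIsoOfNatIso_hom h1 (colimit.isColimit _) ν ⟨i⟩
  have hfin : IsColimit (Cofan.mk ((DCoh.Rpush f).obj (∐ K))
      (fun i => (DCoh.Rpush f).map (Sigma.ι K i))) :=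
    isColimitCofanOfIso (fun i => (DCoh.Rpush f).mapIso (e i).symm) ((DCoh.Rpush f).mapIso ψ) _ _
      (fun i => by
        dsimp only [Functor.mapIso_hom, Iso.symm_hom]
        rw [← Functor.map_comp, ← Functor.map_comp, hψ i]) hR
  exact isIso_sigmaDesc_of_isColimit _ hfin

end Sch

end Groth.Agent.Lib.Helper17.SumPush
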