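import Mathlib
import Groth.Agent.Lib.Helper21DCoprod
set_option backward.isDefEq.respectTransparency.types false

/-!
# Cohomology of a coproduct in the derived category of an AB4 abelian category (helper1)
-/

set_option autoImplicit false
set_option linter.style.haveILetI false
universe w w' v u
open CategoryTheory CategoryTheory.Limits

namespace Groth.Agent.Lib.Helper1.DCoprodH

open Groth.Agent.Lib.Helper21.DCoprod

variable {A : Type u} [Category.{v} A] [Abelian A] [HasDerivedCategory.{w'} A]
  {J : Type w} [HasColimitsOfShape (Discrete J) A] [HasExactColimitsOfShape (Discrete J) A]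

/-- homology of the termwise coproduct of complexes -/
noncomputable def homologySigmaIso (K : J → CochainComplex A ℤ) (i : ℤ) :
    (sigmaK (ComplexShape.up ℤ) K).homology i ≅
      colimit ((bigK (ComplexShape.up ℤ) K).homology i) :=
  ((bigK (ComplexShape.up ℤ) K).sc i).mapHomologyIso (colim : (Discrete J ⥤ A) ⥤ A)

/-- homology of a complex of functors on a discrete category is computed pointwise -/
noncomputable def homologyBigKIso (K : J → CochainComplex A ℤ) (i : ℤ) (j : J) :
    (K j).homology i ≅ ((bigK (ComplexShape.up ℤ) K).homology i).obj ⟨j⟩ :=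
  ((bigK (ComplexShape.up ℤ) K).sc i).mapHomologyIso ((evaluation (Discrete J) A).obj ⟨j⟩)

/-- cohomology of a coproduct in `D(A)`: a property of objects of `A` stable under coproducts
passes from the cohomology of the summands to the cohomology of the coproduct -/
theorem prop_homology_coproduct (PP : ObjectProperty A) [PP.IsClosedUnderIsomorphisms]
    (hPP : ∀ F : Discrete J ⥤ A, (∀ j, PP (F.obj j)) → PP (colimit F))
    (K : J → DerivedCategory A) [HasCoproduct K] (i : ℤ)
    (hK : ∀ j, PP ((DerivedCategory.homologyFunctor A i).obj (K j))) :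
    PP ((DerivedCategory.homologyFunctor A i).obj (∐ K)) := by
  let Kc : J → CochainComplex A ℤ := fun j => DerivedCategory.Q.objPreimage (K j)
  let e : ∀ j, DerivedCategory.Q.obj (Kc j) ≅ K j := fun j =>
    DerivedCategory.Q.objObjPreimageIso (K j)
  have hP : IsColimit (Cofan.mk (DerivedCategory.Q.obj (sigmaK (ComplexShape.up ℤ) Kc))
      (fun j => DerivedCategory.Q.map ((cofanK (ComplexShape.up ℤ) Kc).inj j))) :=
    isColimitQMapCofan _ (isColimitCofanK (ComplexShape.up ℤ) Kc)
  let φ : DerivedCategory.Q.obj (sigmaK (ComplexShape.up ℤ) Kc) ≅ ∐ K :=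
    IsColimit.coconePointsIsoOfNatIso hP (colimit.isColimit _)
      (Discrete.natIso (fun j => e j.as))
  have h1 : ∀ j, PP ((Kc j).homology i) := fun j =>
    PP.prop_of_iso ((DerivedCategory.homologyFunctor A i).mapIso (e j).symm ≪≫
      (DerivedCategory.homologyFunctorFactors A i).app (Kc j)) (hK j)
  have h2 : PP (colimit ((bigK (ComplexShape.up ℤ) Kc).homology i)) :=
    hPP _ (fun ⟨j⟩ => PP.prop_of_iso (homologyBigKIso Kc i j) (h1 j))
  exact PP.prop_of_iso ((homologySigmaIso Kc i).symm ≪≫
    ((DerivedCategory.homologyFunctorFactors A i).app (sigmaK (ComplexShape.up ℤ) Kc)).symm ≪≫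
    (DerivedCategory.homologyFunctor A i).mapIso φ) h2

end Groth.Agent.Lib.Helper1.DCoprodH
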