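import Groth.Agent.Lib.Helper17SumPushQC1
import Groth.Agent.Lib.Helper17SumPush2
import Groth.Agent.Lib.Helper17RpushBound2
import Groth.Agent.Lib.Helper17Hyp19
import Groth.Agent.Lib.Helper23ModLocal
import Groth.Agent.Lib.Helper17KosOrth8
import Groth.Agent.Lib.Helper1DCoprodH
import Groth.Agent.S1040

/-!
# `Rf_*` commutes with coproducts on `D_QCoh` (helper17)

`f : X ⟶ S` quasi-compact quasi-separated.  For a family `K i` of objects of `D_QCoh(O_X)`, the
map `∐ Rf_* K i ⟶ Rf_* (∐ K i)` is an isomorphism.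
-/

set_option autoImplicit false
set_option linter.style.haveILetI false
set_option maxHeartbeats 800000

universe u

open CategoryTheory CategoryTheory.Limits AlgebraicGeometry DerivedCategory Pretriangulated

attribute [local instance] HasDerivedCategory.standard

namespace Groth.Agent.Lib.Helper17.SumPushQC

open Groth.Agent.Lib.Helper17.MV Groth.Agent.Lib.Helper17.QCPush Groth.Agent.Lib.Helper17.AffPush
  Groth.Agent.Lib.Helper17.SumPush Groth.Agent.Lib.Helper21.DCoprod Groth.Agent.S14388
  Groth.Agent.Lib.Helper17.KosOrth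

section Abstract

variable {A : Type*} [Category A] [Abelian A] {B : Type*} [Category B] [Abelian B]

lemma isZero_colimit_discrete {J : Type*} (F : Discrete J ⥤ A) [HasColimit F]
    (h : ∀ j, IsZero (F.obj j)) : IsZero (colimit F) := by
  rw [IsZero.iff_id_eq_zero]
  refine colimit.hom_ext (fun j => ?_)
  exact (h j).eq_of_src _ _

lemma isZero_map_colimit_discrete (R : A ⥤ B) {J : Type*} [PreservesColimitsOfShape (Discrete J) R]
    (F : Discrete J ⥤ A) [HasColimit F]
    (h : ∀ j, IsZero (R.obj (F.obj j))) : IsZero (R.obj (colimit F)) := by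
  haveI : HasColimit (F ⋙ R) := ⟨⟨⟨_, isColimitOfPreserves R (colimit.isColimit F)⟩⟩⟩
  refine IsZero.of_iso (isZero_colimit_discrete (F ⋙ R) h) (preservesColimitIso R F)

end Abstract

section Sch

variable {X S : Scheme.{u}} (f : X ⟶ S) [QuasiCompact f] [QuasiSeparated f] [DCoh.HasRpush f]

/-- the property "zero after applying the exact functor `R`" passes to the cohomology of
coproducts. -/
lemma isZero_map_homology_sigma {Y V : Scheme.{u}} (R : Y.Modules ⥤ V.Modules)
    {ι : Type u} [PreservesColimitsOfShape (Discrete ι) R]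
    (K : ι → DCoh.D Y) [HasCoproduct K] (m : ℤ)
    (h : ∀ i, IsZero (R.obj ((homologyFunctor Y.Modules m).obj (K i)))) :
    IsZero (R.obj ((homologyFunctor Y.Modules m).obj (∐ K))) := by
  haveI := isGrothendieckAbelian Y
  haveI := hasExactColimitsOfShape_discrete Y ι
  let PP : ObjectProperty Y.Modules := fun M => IsZero (R.obj M)
  haveI : PP.IsClosedUnderIsomorphisms := ⟨fun {M N} e hM => IsZero.of_iso hM (R.mapIso e.symm)⟩
  exact Groth.Agent.Lib.Helper1.DCoprodH.prop_homology_coproduct PP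
    (fun F hF => isZero_map_colimit_discrete R F hF) K m h

lemma isLE_sigma {Y : Scheme.{u}} {ι : Type u} (K : ι → DCoh.D Y) [HasCoproduct K] (a : ℤ)
    (h : ∀ i, (K i).IsLE a) : (∐ K).IsLE a := by
  rw [isLE_iff]
  intro m hm
  have := isZero_map_homology_sigma (𝟭 Y.Modules) K m
    (fun i => (isZero_of_isLE (K i) a m hm))
  exact this

theorem isIso_restrict_homology_sigmaComp {ι : Type u} (K : ι → DCoh.D X)
    (hK : ∀ i, DCoh.IsQCohD (K i))
    [HasCoproductsOfShape ι (DCoh.D X)] [HasCoproductsOfShape ι (DCoh.D S)]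
    (V : S.Opens) (hV : IsAffineOpen V) (m : ℤ) :
    IsIso ((Scheme.Modules.restrictFunctor V.ι).map ((homologyFunctor S.Modules m).map
      (sigmaComp (DCoh.Rpush f) K))) := by
  haveI := isGrothendieckAbelian X
  haveI := isGrothendieckAbelian S
  letI := Groth.Agent.Lib.Helper17.RDTri.commShift.{u} (DCoh.pushKh f) (DCoh.Rpush f)
    ((DCoh.pushKh f).totalRightDerivedUnit DerivedCategory.Qh
      (HomotopyCategory.quasiIso X.Modules (ComplexShape.up ℤ)))
  haveI : (DCoh.Rpush f).IsTriangulated :=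
    Groth.Agent.Lib.Helper17.RDTri.isTriangulated.{u} (DCoh.pushKh f) (DCoh.Rpush f)
      ((DCoh.pushKh f).totalRightDerivedUnit DerivedCategory.Qh
        (HomotopyCategory.quasiIso X.Modules (ComplexShape.up ℤ)))
  obtain ⟨N, hN⟩ := exists_bound_local f V hV
  let a : ℤ := m - N
  let R := Scheme.Modules.restrictFunctor V.ι
  let T : ι → Triangle (DCoh.D X) := fun i => (tt.triangleLTGE (a + 1)).obj (K i)
  have hT : ∀ i, T i ∈ distTriang (DCoh.D X) := fun i => tt.triangleLTGE_distinguished (a + 1) (K i)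
  have hA : ∀ i, DCoh.IsQCohD (T i).obj₁ := fun i => isQCohD_truncLT (K i) (a + 1) (hK i)
  have hAle : ∀ i, ((T i).obj₁).IsLE a := fun i =>
    inferInstanceAs (((tt.truncLT (a + 1)).obj (K i)).IsLE a)
  have hLge : ∀ i, ((T i).obj₃).IsGE (a + 1) := fun i =>
    inferInstanceAs (((tt.truncGE (a + 1)).obj (K i)).IsGE (a + 1))
  have hSA : DCoh.IsQCohD (∐ fun i => (T i).obj₁) := Groth.Agent.S1040.result X _ hA
  have hSAle : (∐ fun i => (T i).obj₁).IsLE a := isLE_sigma _ a hAle
  have h₃ : IsIso (sigmaComp (DCoh.Rpush f) (fun i => (T i).obj₃)) :=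
    isIso_sigmaDesc_Rpush f (fun i => (T i).obj₃) (a + 1) hLge
  -- translate the vanishing
  have conv : ∀ (Y : DCoh.D S) (n : ℤ), IsZero (R.obj ((homologyFunctor S.Modules n).obj Y)) →
      IsZero (((homologyFunctor (V : Scheme.{u}).Modules 0).shift n).obj
        ((DCoh.restrictD V.ι).obj Y)) := fun Y n h =>
    IsZero.of_iso h ((Groth.Agent.Lib.Helper17.Hyp.homologyNatIso R n).app Y)
  have key := isIso_shift_map_sigmaComp (DCoh.Rpush f) (DCoh.restrictD V.ι)
    (homologyFunctor (V : Scheme.{u}).Modules 0) T hT m (m + 1) rfl h₃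
    (conv _ m (hN _ hSA a hSAle m (by omega)))
    (conv _ (m + 1) (hN _ hSA a hSAle (m + 1) (by omega)))
    (conv _ m (isZero_map_homology_sigma R _ m
      (fun i => hN _ (hA i) a (hAle i) m (by omega))))
    (conv _ (m + 1) (isZero_map_homology_sigma R _ (m + 1)
      (fun i => hN _ (hA i) a (hAle i) (m + 1) (by omega))))
  exact (Groth.Agent.Lib.Helper17.Hyp.isIso_homology_map_iff R _ m).1 key

/-- **`Rf_*` commutes with coproducts on `D_QCoh`.** -/
theorem isIso_sigmaDesc_Rpush_of_isQCohD {ι : Type u} (K : ι → DCoh.D X)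
    (hK : ∀ i, DCoh.IsQCohD (K i))
    [HasCoproduct K] [HasCoproduct (fun i => (DCoh.Rpush f).obj (K i))] :
    IsIso (Sigma.desc (fun i => (DCoh.Rpush f).map (Sigma.ι K i))) := by
  haveI := isGrothendieckAbelian X
  haveI := isGrothendieckAbelian S
  haveI := hasExactColimitsOfShape_discrete X ι
  haveI := hasExactColimitsOfShape_discrete S ι
  haveI : HasCoproductsOfShape ι (DCoh.D X) := hasCoproductsOfShape_derivedCategory ι
  haveI : HasCoproductsOfShape ι (DCoh.D S) := hasCoproductsOfShape_derivedCategory ι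
  rw [DerivedCategory.isIso_iff]
  intro m
  refine Groth.Agent.Lib.Helper23.ModLocal.isIso_of_isIso_restrict _
    (fun V : S.affineOpens => ((V.1 : S.Opens) : Scheme.{u})) (fun V => V.1.ι) (fun x => ?_)
    (fun V => ?_)
  · have hx : x ∈ (⨆ V : S.affineOpens, (V.1 : S.Opens)) := by
      rw [iSup_affineOpens_eq_top]; trivial
    obtain ⟨V, hV⟩ := TopologicalSpace.Opens.mem_iSup.1 hx
    exact ⟨V, ⟨x, hV⟩, rfl⟩
  · exact isIso_restrict_homology_sigmaComp f K hK V.1 V.2 m

end Sch

end Groth.Agent.Lib.Helper17.SumPushQC
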