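import Groth.Agent.Lib.Helper17FiltRes3
import Groth.Agent.Lib.Helper17SumPushQC2
import Groth.Agent.Lib.Helper23QCohAbelian

/-!
# `H^i Rf_*` commutes with filtered colimits of complexes with quasi-coherent cohomology (helper17)
-/

set_option autoImplicit false
set_option linter.style.haveILetI false
set_option linter.unusedSectionVars false
set_option maxHeartbeats 800000

universe w w' v v' v'' u u' u''

open CategoryTheory CategoryTheory.Limits AlgebraicGeometry DerivedCategory Pretriangulated

attribute [local instance] HasDerivedCategory.standard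

namespace Groth.Agent.Lib.Helper17.FiltRes

section Abstract

variable {C : Type u} [Category.{v} C] [Abelian C] [HasDerivedCategory.{w} C]
  {D : Type u'} [Category.{v'} D] [Abelian D] [HasDerivedCategory.{w'} D]
  {E : Type u''} [Category.{v''} E] [Abelian E]

/-- if `G` is exact and kills `H^n` and `H^{n+1}` of `R(T₁)`, then `G H^n R(T₂ ⟶ T₃)` is an
isomorphism. -/
theorem isIso_map_homology_mor₂ (R : DerivedCategory C ⥤ DerivedCategory D) [R.CommShift ℤ]
    [R.IsTriangulated] (G : D ⥤ E) [G.Additive] [PreservesFiniteLimits G]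
    [PreservesFiniteColimits G]
    (T : Triangle (DerivedCategory C)) (hT : T ∈ distTriang (DerivedCategory C)) (n : ℤ)
    (h₁ : IsZero (G.obj ((homologyFunctor D n).obj (R.obj T.obj₁))))
    (h₂ : IsZero (G.obj ((homologyFunctor D (n + 1)).obj (R.obj T.obj₁)))) :
    IsIso (G.map ((homologyFunctor D n).map (R.map T.mor₂))) := by
  have hT' := R.map_distinguished T hT
  have e2 := (HomologySequence.exact₂ _ hT' n).map G
  have e3 := (HomologySequence.exact₃ _ hT' n (n + 1) rfl).map G
  haveI : Mono (G.map ((homologyFunctor D n).map (R.map T.mor₂))) :=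
    e2.mono_g (h₁.eq_of_src _ _)
  haveI : Epi (G.map ((homologyFunctor D n).map (R.map T.mor₂))) :=
    e3.epi_f (h₂.eq_of_tgt _ _)
  exact isIso_of_mono_of_epi _

end Abstract

section QuasiIsoAt

universe v₁ u₁ v₃ u₃

variable {A : Type u₁} [Category.{v₁} A] [Abelian A] {J : Type u₃} [Category.{v₃} J]
  [HasColimitsOfShape J A] [HasExactColimitsOfShape J A] {ι : Type*} {c : ComplexShape ι}

open Groth.Agent.Helper13HomologyColim in
/-- exact colimits of quasi-isomorphisms in a given degree are quasi-isomorphisms in that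
degree. -/
theorem quasiIsoAt_of_isColimit {C I : J ⥤ HomologicalComplex A c} (φ : C ⟶ I) (k : ι)
    (hφ : ∀ j, QuasiIsoAt (φ.app j) k) (cC : Cocone C) (hC : IsColimit cC) (cI : Cocone I)
    (hI : IsColimit cI) (φ' : cC.pt ⟶ cI.pt)
    (hφ' : ∀ j, cC.ι.app j ≫ φ' = φ.app j ≫ cI.ι.app j) : QuasiIsoAt φ' k := by
  rw [quasiIsoAt_iff_isIso_homologyMap]
  let H := HomologicalComplex.homologyFunctor A c k
  have hC' := isColimitOfPreserves H hC
  have hI' := isColimitOfPreserves H hI
  haveI : ∀ j, IsIso (H.map (φ.app j)) := fun j => by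
    have := hφ j
    rw [quasiIsoAt_iff_isIso_homologyMap] at this
    exact this
  let ν : C ⋙ H ≅ I ⋙ H := NatIso.ofComponents (fun j => asIso (H.map (φ.app j)))
    (fun g => by
      dsimp
      rw [← H.map_comp, ← H.map_comp, φ.naturality])
  have h : H.map φ' = (IsColimit.coconePointsIsoOfNatIso hC' hI' ν).hom := by
    apply hC'.hom_ext
    intro j
    rw [IsColimit.comp_coconePointsIsoOfNatIso_hom]
    dsimp [ν]
    rw [← H.map_comp, hφ', H.map_comp]
  change IsIso (H.map φ')
  rw [h]
  infer_instance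

end QuasiIsoAt

section Sch

open Groth.Agent.Lib.Helper17.MV Groth.Agent.Lib.Helper17.QCPush Groth.Agent.Lib.Helper17.AffPush
  Groth.Agent.Lib.Helper23.QCohLocal

variable {X S : Scheme.{u}} (f : X ⟶ S) [QuasiCompact f] [QuasiSeparated f] [DCoh.HasRpush f]

/-- a morphism of `D_QCoh(O_X)` which is an isomorphism on `H^k` for `k ≥ m`, with target
cohomologically `≥ m`, induces an isomorphism on `H^i Rf_*` over an affine open, for `i` large
with respect to `m`. -/
theorem isIso_restrict_homology_Rpush_map {A B : DCoh.D X} (g : A ⟶ B) (hA : DCoh.IsQCohD A)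
    (m : ℤ) (hg : ∀ k, m ≤ k → IsIso ((homologyFunctor X.Modules k).map g))
    (hB : ∀ k, k < m → IsZero ((homologyFunctor X.Modules k).obj B))
    (V : S.Opens) (N : ℤ)
    (hN : ∀ (E : DCoh.D X), DCoh.IsQCohD E → ∀ a : ℤ, E.IsLE a → ∀ m : ℤ, N + a ≤ m →
      IsZero ((Scheme.Modules.restrictFunctor V.ι).obj (DCoh.HD ((DCoh.Rpush f).obj E) m)))
    (i : ℤ) (hi : N + m ≤ i + 1) :
    IsIso ((Scheme.Modules.restrictFunctor V.ι).map
      ((homologyFunctor S.Modules i).map ((DCoh.Rpush f).map g))) := by
  haveI := isGrothendieckAbelian X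
  haveI := isGrothendieckAbelian S
  letI := Groth.Agent.Lib.Helper17.RDTri.commShift.{u} (DCoh.pushKh f) (DCoh.Rpush f)
    ((DCoh.pushKh f).totalRightDerivedUnit DerivedCategory.Qh
      (HomotopyCategory.quasiIso X.Modules (ComplexShape.up ℤ)))
  haveI : (DCoh.Rpush f).IsTriangulated :=
    Groth.Agent.Lib.Helper17.RDTri.isTriangulated.{u} (DCoh.pushKh f) (DCoh.Rpush f)
      ((DCoh.pushKh f).totalRightDerivedUnit DerivedCategory.Qh
        (HomotopyCategory.quasiIso X.Modules (ComplexShape.up ℤ)))
  have hB' : DCoh.IsQCohD B := fun k => by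
    by_cases hk : m ≤ k
    · haveI := hg k hk
      exact isQuasicoherent_of_iso (asIso ((homologyFunctor X.Modules k).map g)) (hA k)
    · exact isQuasicoherent_of_isZero (hB k (by omega))
  obtain ⟨W, a, b, hT⟩ := distinguished_cocone_triangle₁ g
  have hW : DCoh.IsQCohD W := isQCohD_obj₁ _ hT hA hB'
  have hWle : W.IsLE (m - 1) := by
    rw [isLE_iff]
    intro k hk
    have e1 := HomologySequence.exact₁ _ hT (k - 1) k (by omega)
    refine e1.isZero_of_both_zeros ?_ ?_
    · by_cases hk' : m ≤ k - 1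
      · haveI : IsIso ((homologyFunctor X.Modules (k - 1)).map (Triangle.mk a g b).mor₂) :=
          hg (k - 1) hk'
        exact (HomologySequence.epi_homologyMap_mor₂_iff _ hT (k - 1) k (by omega)).1 inferInstance
      · exact (hB (k - 1) (by omega)).eq_of_src _ _
    · haveI : IsIso ((homologyFunctor X.Modules k).map (Triangle.mk a g b).mor₂) :=
        hg k (by omega)
      exact (HomologySequence.mono_homologyMap_mor₂_iff _ hT k).1 inferInstance
  exact isIso_map_homology_mor₂ (DCoh.Rpush f) (Scheme.Modules.restrictFunctor V.ι)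
    (Triangle.mk a g b) hT i (hN W hW (m - 1) hWle i (by omega))
    (hN W hW (m - 1) hWle (i + 1) (by omega))

variable {J : Type u} [SmallCategory J] [IsFiltered J]

/-- the local statement. -/
theorem nonempty_isColimit_restrict_homology_Rpush (C : J ⥤ CochainComplex X.Modules ℤ)
    (hC : ∀ j, DCoh.IsQCohD (DCoh.toD X (C.obj j))) (cC : Cocone C) (hcC : IsColimit cC) (i : ℤ)
    (V : S.Opens) (hV : IsAffineOpen V) :
    Nonempty (IsColimit (((DerivedCategory.Q ⋙ DCoh.Rpush f ⋙ homologyFunctor S.Modules i) ⋙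
      Scheme.Modules.restrictFunctor V.ι).mapCocone cC)) := by
  haveI := isGrothendieckAbelian X
  haveI := isGrothendieckAbelian S
  -- the colimit has quasi-coherent cohomology
  have hQcolim : DCoh.IsQCohD (DCoh.toD X cC.pt) := by
    intro k
    let H := HomologicalComplex.homologyFunctor X.Modules (ComplexShape.up ℤ) k
    haveI : PreservesColimitsOfShape J H :=
      Groth.Agent.Helper13HomologyColim.preservesColimitsOfShape_homologicalComplex_homologyFunctor
        _ _
    have hc := isColimitOfPreserves H hcC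
    have e : colimit (C ⋙ H) ≅ H.obj cC.pt := (colimit.isColimit _).coconePointUniqueUpToIso hc
    have h1 : (colimit (C ⋙ H)).IsQuasicoherent :=
      Groth.Agent.Lib.Helper23.QCohLocal.isQuasicoherent_colimit _ (fun j =>
        isQuasicoherent_of_iso ((homologyFunctorFactors X.Modules k).app (C.obj j)) (hC j k))
    exact isQuasicoherent_of_iso (e ≪≫ ((homologyFunctorFactors X.Modules k).app cC.pt).symm) h1
  obtain ⟨N, hN⟩ := exists_bound_local f V hV
  let m : ℤ := i + 1 - N
  let T := (ComplexShape.embeddingUpIntGE m).truncGEFunctor X.Modules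
  let π : 𝟭 _ ⟶ T := (ComplexShape.embeddingUpIntGE m).πTruncGENatTrans X.Modules
  let C' : J ⥤ CochainComplex X.Modules ℤ := C ⋙ T
  let cC' := colimit.cocone C'
  let ψ : cC.pt ⟶ cC'.pt := hcC.desc ((Cocone.precompose (Functor.whiskerLeft C π)).obj cC')
  have hψ : ∀ j, cC.ι.app j ≫ ψ = (Functor.whiskerLeft C π).app j ≫ cC'.ι.app j :=
    fun j => hcC.fac _ j
  have hC's : ∀ j, (C'.obj j).IsStrictlyGE m := fun j =>
    inferInstanceAs (((C.obj j).truncGE m).IsStrictlyGE m)
  have hC' : ∀ j, (C'.obj j).IsGE m := fun j =>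
    inferInstanceAs (((C.obj j).truncGE m).IsGE m)
  obtain ⟨hcol⟩ := nonempty_isColimit_homology_Rpush f C' m hC' cC' (colimit.isColimit C') i
  have hπat : ∀ j k, m ≤ k → QuasiIsoAt ((Functor.whiskerLeft C π).app j) k := fun j k hk =>
    (C.obj j).quasiIsoAt_πTruncGE m k hk
  have hπ : ∀ j k, m ≤ k → IsIso ((homologyFunctor X.Modules k).map
      ((DerivedCategory.Q : _ ⥤ DerivedCategory X.Modules).map
        ((Functor.whiskerLeft C π).app j))) := fun j k hk =>
    (NatIso.isIso_map_iff (homologyFunctorFactors X.Modules k) _).2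
      ((quasiIsoAt_iff_isIso_homologyMap _ _).1 (hπat j k hk))
  have hψq : ∀ k, m ≤ k → IsIso ((homologyFunctor X.Modules k).map
      ((DerivedCategory.Q : _ ⥤ DerivedCategory X.Modules).map ψ)) := fun k hk =>
    (NatIso.isIso_map_iff (homologyFunctorFactors X.Modules k) _).2
      ((quasiIsoAt_iff_isIso_homologyMap _ _).1
        (quasiIsoAt_of_isColimit (Functor.whiskerLeft C π) k (fun j => hπat j k hk) cC hcC cC'
          (colimit.isColimit C') ψ hψ))
  have hz1 : ∀ j k, k < m → IsZero ((homologyFunctor X.Modules k).obj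
      ((DerivedCategory.Q : _ ⥤ DerivedCategory X.Modules).obj (C'.obj j))) := fun j k hk => by
    haveI : ((DerivedCategory.Q : _ ⥤ DerivedCategory X.Modules).obj (C'.obj j)).IsGE m :=
      (isGE_Q_obj_iff _ _).2 (hC' j)
    exact isZero_of_isGE _ m k hk
  have hev : ∀ q, IsColimit
      ((HomologicalComplex.eval X.Modules (ComplexShape.up ℤ) q).mapCocone cC') :=
    fun q => isColimitOfPreserves _ (colimit.isColimit C')
  haveI : cC'.pt.IsStrictlyGE m := by
    rw [CochainComplex.isStrictlyGE_iff]
    intro q hq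
    rw [IsZero.iff_id_eq_zero]
    apply (hev q).hom_ext
    intro j
    haveI := hC's j
    exact ((C'.obj j).isZero_of_isStrictlyGE m q hq).eq_of_src _ _
  have hz2 : ∀ k, k < m → IsZero ((homologyFunctor X.Modules k).obj
      ((DerivedCategory.Q : _ ⥤ DerivedCategory X.Modules).obj cC'.pt)) := fun k hk => by
    haveI : ((DerivedCategory.Q : _ ⥤ DerivedCategory X.Modules).obj cC'.pt).IsGE m :=
      (isGE_Q_obj_iff _ _).2 inferInstance
    exact isZero_of_isGE _ m k hk
  refine ⟨isColimitMapCoconeOfNatTrans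
    (𝟙 ((DerivedCategory.Q ⋙ DCoh.Rpush f ⋙ homologyFunctor S.Modules i) ⋙
      Scheme.Modules.restrictFunctor V.ι)) (Functor.whiskerLeft C π) cC cC' ψ hψ ?_ ?_ ?_ ?_ ?_⟩
  · intro j
    exact isIso_restrict_homology_Rpush_map f _ (hC j) m (hπ j) (hz1 j) V N hN i (by omega)
  · exact isIso_restrict_homology_Rpush_map f _ hQcolim m hψq hz2 V N hN i (by omega)
  · intro j
    exact inferInstanceAs (IsIso (𝟙 _))
  · exact inferInstanceAs (IsIso (𝟙 _))
  · exact IsColimit.ofIsoColimit (isColimitOfPreserves (Scheme.Modules.restrictFunctor V.ι) hcol)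
      (Cocone.ext (Iso.refl _) (fun j => by simp))

/-- **`H^i Rf_*` commutes with filtered colimits of complexes with quasi-coherent cohomology.** -/
theorem nonempty_isColimit_homology_Rpush_of_isQCohD (C : J ⥤ CochainComplex X.Modules ℤ)
    (hC : ∀ j, DCoh.IsQCohD (DCoh.toD X (C.obj j))) (cC : Cocone C) (hcC : IsColimit cC) (i : ℤ) :
    Nonempty (IsColimit ((DerivedCategory.Q ⋙ DCoh.Rpush f ⋙
      homologyFunctor S.Modules i).mapCocone cC)) := by
  haveI := isGrothendieckAbelian S
  let Φ := (DerivedCategory.Q : _ ⥤ DerivedCategory X.Modules) ⋙ DCoh.Rpush f ⋙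
    homologyFunctor S.Modules i
  let t := Φ.mapCocone cC
  let P := colimit.isColimit (C ⋙ Φ)
  haveI : IsIso (P.desc t) := by
    refine Groth.Agent.Lib.Helper23.ModLocal.isIso_of_isIso_restrict _
      (fun V : S.affineOpens => ((V.1 : S.Opens) : Scheme.{u})) (fun V => V.1.ι) (fun x => ?_)
      (fun V => ?_)
    · have hx : x ∈ (⨆ V : S.affineOpens, (V.1 : S.Opens)) := by
        rw [iSup_affineOpens_eq_top]; trivial
      obtain ⟨V, hV⟩ := TopologicalSpace.Opens.mem_iSup.1 hx
      exact ⟨V, ⟨x, hV⟩, rfl⟩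
    · obtain ⟨hV⟩ := nonempty_isColimit_restrict_homology_Rpush f C hC cC hcC i V.1 V.2
      let R := Scheme.Modules.restrictFunctor V.1.ι
      have PV : IsColimit (R.mapCocone (colimit.cocone (C ⋙ Φ))) := isColimitOfPreserves R P
      have hV' : IsColimit (R.mapCocone t) :=
        IsColimit.ofIsoColimit hV (Cocone.ext (Iso.refl _) (fun j => by simp [t, Φ, R]))
      have e : R.map (P.desc t) = (PV.coconePointUniqueUpToIso hV').hom := by
        apply PV.hom_ext
        intro j
        rw [IsColimit.comp_coconePointUniqueUpToIso_hom]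
        dsimp only [Functor.mapCocone_ι_app]
        rw [← R.map_comp, P.fac]
      rw [e]
      infer_instance
  exact ⟨IsColimit.ofPointIso P⟩

end Sch

end Groth.Agent.Lib.Helper17.FiltRes
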