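import Groth.Agent.Lib.Helper17LerayTop2
import Groth.Agent.Lib.Helper17FinClosed
import Groth.Agent.Lib.Helper16ClosedEmb
import Groth.Agent.S11918

/-!
# Helper17: the direct image of an injective module has no higher cohomology; over an affine base
`Spec B`, `Γ(Spec B, R^n h_* G) ≅ R^n Γ(W, G)` as `B`-modules for quasi-coherent `G`.
-/

set_option autoImplicit false
universe u
open CategoryTheory Limits AlgebraicGeometry Opposite TopologicalSpace

namespace Groth.Agent.Lib.Helper17.FinAff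

open Groth.Agent.Lib.Helper17.GammaA Groth.Agent.Lib.Helper17.FinClosed
  Groth.Agent.Lib.Helper17.LerayTop Groth.Agent.Lib.Helper17

local instance instEnoughInjectivesModules (X : Scheme.{u}) : EnoughInjectives X.Modules :=
  Groth.Agent.Lib.Helper17.QCPush.enoughInjectives X

theorem ext_eq_zero_of_tgt_isZero {𝒜 : Type*} [Category 𝒜] [Abelian 𝒜] [HasExt.{u} 𝒜] {X Y : 𝒜}
    (hY : IsZero Y) {n : ℕ} (x : Abelian.Ext.{u} X Y n) : x = 0 := by
  have h1 : x = x.comp (Abelian.Ext.mk₀ (𝟙 Y)) (add_zero n) := by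
    rw [Abelian.Ext.comp_mk₀_id]
  rw [h1, hY.eq_of_src (𝟙 Y) 0, Abelian.Ext.mk₀_zero, Abelian.Ext.comp_zero]

variable {W S : Scheme.{u}}

/-- the direct image of an injective module has no higher cohomology. -/
theorem subsingleton_HH_push_injective (h : W ⟶ S) (Q : W.Modules) [hQ : Injective Q] (n : ℕ) :
    Subsingleton (Coh.HH S ((Scheme.Modules.pushforward h).obj Q) (n + 1)) := by
  obtain ⟨E, a, hfin, _, hE2⟩ := leray h Q
  have hz : IsZero (AddCommGrpCat.of PUnit.{u + 1}) := AddCommGrpCat.isZero_of_subsingleton _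
  have hpage : ∀ p q' : ℤ, q' ≠ 0 → IsZero ((E.page 2 le_rfl).X (p, q')) := by
    intro p q' hq
    obtain ⟨e⟩ := hE2 p q'
    refine IsZero.of_iso ?_ e
    by_cases hpq : 0 ≤ p ∧ 0 ≤ q'
    · rw [if_pos hpq]
      obtain ⟨k, hk⟩ : ∃ k : ℕ, q'.toNat = k + 1 := ⟨q'.toNat - 1, by omega⟩
      have h0 : IsZero ((Coh.RpushAb h q'.toNat).obj (Coh.toAb Q)) := by
        rw [hk]
        exact @Groth.Agent.Lib.Helper23.ModAbBridge.isZero_RpushAb_of_injective _ _ h Q hQ k
      haveI : Subsingleton (Abelian.Ext.{u} (Zc (TopCat.of S))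
          ((Coh.RpushAb h q'.toNat).obj (Coh.toAb Q)) p.toNat) :=
        ⟨fun x y => (ext_eq_zero_of_tgt_isZero h0 x).trans
          (ext_eq_zero_of_tgt_isZero h0 y).symm⟩
      exact AddCommGrpCat.isZero_of_subsingleton _
    · rw [if_neg hpq]; exact hz
  obtain ⟨e⟩ := SSColumn.nonempty_iso_of_row_zero E a hfin hpage ((n + 1 : ℕ) : ℤ)
  obtain ⟨e2⟩ := hE2 ((n + 1 : ℕ) : ℤ) 0
  have h1 : (0 : ℤ) ≤ ((n + 1 : ℕ) : ℤ) := Int.natCast_nonneg _
  rw [if_pos ⟨h1, le_rfl⟩] at e2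
  rw [if_pos h1] at e
  have e' := e ≪≫ e2
  rw [Int.toNat_natCast, Int.toNat_zero] at e'
  haveI : PreservesFiniteLimits (Coh.pushAb h) :=
    Groth.Agent.Lib.Helper16.ClosedEmb.push_preservesFiniteLimits h.base
  let e3 : (Coh.RpushAb h 0).obj (Coh.toAb Q) ≅
      Coh.toAb ((Scheme.Modules.pushforward h).obj Q) :=
    (Coh.pushAb h).rightDerivedZeroIsoSelf.app (Coh.toAb Q)
  have e4 := extIsoRight (Zc (TopCat.of S)) e3 (n + 1)
  haveI := subsingleton_HH_injective Q n
  have e5 := (e' ≪≫ e4)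
  exact (e5.symm.addCommGroupIsoToAddEquiv.toEquiv).subsingleton

variable {B : Type u} [CommRing B]

/-- `R^q Γ(Spec B, -)` vanishes on modules without higher cohomology. -/
theorem isZero_rightDerived_gS (N : (Spec (CommRingCat.of B)).Modules) (q : ℕ)
    (hN : Subsingleton (Coh.HH (Spec (CommRingCat.of B)) N q)) :
    IsZero (((gS B).rightDerived q).obj N) := by
  have h1 := isZero_rightDerived_gammaA (𝟙 (Spec (CommRingCat.of B))) N q hN
  let e0 : gammaA (𝟙 (Spec (CommRingCat.of B))) ≅ gS B :=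
    Functor.isoWhiskerRight (Scheme.Modules.pushforwardId _) (gS B) ≪≫ Functor.leftUnitor _
  exact IsZero.of_iso h1 ((Groth.Agent.Lib.Helper21.DerPost.natIsoRightDerived e0 q).app N).symm

/-- **Module-level degeneration of the Leray spectral sequence over an affine base**:
`Γ(Spec B, R^n h_* G) ≅ R^n Γ(W, G)` as `B`-modules, `h` qcqs, `G` quasi-coherent. -/
theorem nonempty_gS_Rpush_iso (h : W ⟶ Spec (CommRingCat.of B)) [QuasiCompact h]
    [QuasiSeparated h] (G : W.Modules) [Coh.IsQCoh G] (n : ℕ) :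
    Nonempty ((gS B).obj ((Coh.Rpush h n).obj G) ≅ ((gammaA h).rightDerived n).obj G) := by
  have hT : ∀ Q : W.Modules, Injective Q → ∀ q : ℕ, 0 < q →
      IsZero (((gS B).rightDerived q).obj ((Scheme.Modules.pushforward h).obj Q)) := by
    intro Q hQ q hq
    obtain ⟨q, rfl⟩ : ∃ k, q = k + 1 := ⟨q - 1, by omega⟩
    exact isZero_rightDerived_gS _ _ (subsingleton_HH_push_injective h Q q)
  obtain ⟨E, a, hfin, _, hE2⟩ := Groth.Agent.S11918.result (Scheme.Modules.pushforward h) (gS B)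
    hT G
  have hpage : ∀ p q' : ℤ, p ≠ 0 → IsZero ((E.page 2 le_rfl).X (p, q')) := by
    intro p q' hp
    obtain ⟨e⟩ := hE2 p q'
    refine IsZero.of_iso ?_ e
    by_cases hpq : 0 ≤ p ∧ 0 ≤ q'
    · rw [if_pos hpq]
      haveI : Coh.IsQCoh ((Coh.Rpush h q'.toNat).obj G) := Groth.Agent.S0030.result h G q'.toNat
      exact isZero_rightDerived_gS _ _
        (Groth.Agent.S0007.result _ ((Coh.Rpush h q'.toNat).obj G) p.toNat (by omega))
    · rw [if_neg hpq]; exact isZero_zero _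
  obtain ⟨e⟩ := SSColumn.nonempty_iso_of_column_zero E a hfin hpage (n : ℤ)
  obtain ⟨e2⟩ := hE2 0 (n : ℤ)
  have h1 : (0 : ℤ) ≤ (n : ℤ) := Int.natCast_nonneg n
  rw [if_pos ⟨le_rfl, h1⟩] at e2
  rw [if_pos h1] at e
  have e' := e ≪≫ e2
  rw [Int.toNat_natCast, Int.toNat_zero] at e'
  exact ⟨((gS B).rightDerivedZeroIsoSelf.app _).symm ≪≫ e'.symm⟩

end Groth.Agent.Lib.Helper17.FinAff
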