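import Mathlib

/-!
# helper4: universally schematically dominant families — nilpotent local base

* `mem_smul_top_of_indep`, `mem_map_of_indep`: for a flat module `B` over `Λ`, elements `m_β ∈ 𝔪^r`
  independent modulo `𝔪^(r+1)` and `∑ m_β b_β ∈ 𝔪^(r+1) B` force `b_β ∈ 𝔪 B`
  (equational criterion of flatness).
* `nil_step`, `nil_claim`: over a local ring `(Λ, 𝔪)` with `𝔪` nilpotent, a family of flat
  `Λ`-algebras which is schematically dominant (on `D(h)`) modulo `𝔪` is schematically dominant.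
-/

set_option autoImplicit false
universe u v w
namespace Groth.Agent.Lib.Helper4.UnivSchDom
open TensorProduct

/-- elements of `I • ⊤` are finite combinations with coefficients in `I`. -/
theorem exists_finsupp_of_mem_smul_top {Λ : Type*} [CommRing Λ] (I : Ideal Λ) {B : Type*}
    [AddCommGroup B] [Module Λ B] {x : B} (hx : x ∈ I • (⊤ : Submodule Λ B)) :
    ∃ (a : B →₀ Λ), (∀ i, a i ∈ I) ∧ (a.sum fun i c => c • i) = x := by
  have h1 : (⊤ : Submodule Λ B) = Submodule.span Λ (Set.range (id : B → B)) := by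
    rw [Set.range_id, Submodule.span_univ]
  rw [h1, Submodule.mem_ideal_smul_span_iff_exists_sum] at hx
  obtain ⟨a, ha, hax⟩ := hx
  exact ⟨a, ha, hax⟩

/-- **Flatness and independence modulo `𝔪^(r+1)`.** -/
theorem mem_smul_top_of_indep {Λ : Type*} [CommRing Λ] (𝔪 : Ideal Λ) (r : ℕ) {B : Type*}
    [AddCommGroup B] [Module Λ B] [Module.Flat Λ B] {ι : Type*} (s : Finset ι) (m : ι → Λ)
    (hind : ∀ c : ι → Λ, ∑ β ∈ s, c β * m β ∈ 𝔪 ^ (r + 1) → ∀ β ∈ s, c β ∈ 𝔪)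
    (b : ι → B) (hb : ∑ β ∈ s, m β • b β ∈ 𝔪 ^ (r + 1) • (⊤ : Submodule Λ B)) :
    ∀ β ∈ s, b β ∈ 𝔪 • (⊤ : Submodule Λ B) := by
  classical
  obtain ⟨a, ha, hax⟩ := exists_finsupp_of_mem_smul_top _ hb
  -- the relation
  let f : ↥s ⊕ ↥a.support → Λ := Sum.elim (fun β => m β.1) (fun γ => - a γ.1)
  let x : ↥s ⊕ ↥a.support → B := Sum.elim (fun β => b β.1) (fun γ => γ.1)
  have hrel : ∑ i, f i • x i = 0 := by
    rw [Fintype.sum_sum_type]
    simp only [f, x, Sum.elim_inl, Sum.elim_inr, neg_smul, Finset.sum_neg_distrib]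
    rw [Finset.sum_coe_sort s (fun β => m β • b β),
      Finset.sum_coe_sort a.support (fun γ => a γ • γ), ← hax, Finsupp.sum, ← sub_eq_add_neg,
      sub_self]
  obtain ⟨k, A, y, hy, hA⟩ := Module.Flat.isTrivialRelation_of_sum_smul_eq_zero hrel
  intro β hβ
  have hyβ := hy (Sum.inl ⟨β, hβ⟩)
  simp only [x, Sum.elim_inl] at hyβ
  rw [hyβ]
  refine Submodule.sum_mem _ fun l _ => ?_
  refine Submodule.smul_mem_smul ?_ Submodule.mem_top
  -- the coefficient lies in `𝔪` by independence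
  have hl := hA l
  rw [Fintype.sum_sum_type] at hl
  simp only [f, Sum.elim_inl, Sum.elim_inr, neg_mul, Finset.sum_neg_distrib] at hl
  have h2 : ∑ β : ↥s, m β.1 * A (Sum.inl β) l = ∑ γ : ↥a.support, a γ.1 * A (Sum.inr γ) l := by
    rw [← sub_eq_zero, sub_eq_add_neg]; exact hl
  -- extend the coefficient function to `ι`
  let c : ι → Λ := fun β' => if h : β' ∈ s then A (Sum.inl ⟨β', h⟩) l else 0
  have hc : ∑ β' ∈ s, c β' * m β' ∈ 𝔪 ^ (r + 1) := by
    have h3 : ∑ β' ∈ s, c β' * m β' = ∑ β : ↥s, m β.1 * A (Sum.inl β) l := by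
      rw [← Finset.sum_coe_sort s (fun β' => c β' * m β')]
      refine Finset.sum_congr rfl fun β' _ => ?_
      simp only [c, dif_pos β'.2, mul_comm]
    rw [h3, h2]
    exact Ideal.sum_mem _ fun γ _ => Ideal.mul_mem_right _ _ (ha γ.1)
  have := hind c hc β hβ
  simpa only [c, dif_pos hβ] using this

/-- ideal form of `mem_smul_top_of_indep` -/
theorem mem_map_of_indep {Λ : Type*} [CommRing Λ] (𝔪 : Ideal Λ) (r : ℕ) {B : Type*}
    [CommRing B] [Algebra Λ B] [Module.Flat Λ B] {ι : Type*} (s : Finset ι) (m : ι → Λ)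
    (hind : ∀ c : ι → Λ, ∑ β ∈ s, c β * m β ∈ 𝔪 ^ (r + 1) → ∀ β ∈ s, c β ∈ 𝔪)
    (b : ι → B) (hb : ∑ β ∈ s, m β • b β ∈ (𝔪 ^ (r + 1)).map (algebraMap Λ B)) :
    ∀ β ∈ s, b β ∈ 𝔪.map (algebraMap Λ B) := by
  have h1 : ∀ (I : Ideal Λ) (x : B), x ∈ I.map (algebraMap Λ B) ↔
      x ∈ I • (⊤ : Submodule Λ B) := by
    intro I x
    rw [Ideal.smul_top_eq_map]
    rfl
  intro β hβ
  rw [h1]
  exact mem_smul_top_of_indep 𝔪 r s m hind b ((h1 _ _).mp hb) β hβ

section nil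
variable {Λ : Type*} [CommRing Λ] (𝔪 : Ideal Λ) {AΛ : Type*} [CommRing AΛ] [Algebra Λ AΛ]
  (h : AΛ) {J : Type*} (B : J → Type*) [∀ j, CommRing (B j)] [∀ j, Algebra Λ (B j)]
  [∀ j, Module.Flat Λ (B j)] (ψ : ∀ j, AΛ →ₐ[Λ] B j)

omit [∀ j, Module.Flat Λ (B j)] in
include 𝔪 in
theorem map_mem_map (k : ℕ) (j : J) {y : AΛ} (hy : y ∈ (𝔪 ^ k).map (algebraMap Λ AΛ)) :
    ψ j y ∈ (𝔪 ^ k).map (algebraMap Λ (B j)) := by
  have h1 : ((𝔪 ^ k).map (algebraMap Λ AΛ)).map (ψ j).toRingHom =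
      (𝔪 ^ k).map (algebraMap Λ (B j)) := by
    rw [Ideal.map_map]
    congr 1
    exact (ψ j).comp_algebraMap
  rw [← h1]
  exact Ideal.mem_map_of_mem _ hy

theorem smul_mem_map_succ (r : ℕ) {m : Λ} (hm : m ∈ 𝔪 ^ r) {y : AΛ}
    (hy : y ∈ 𝔪.map (algebraMap Λ AΛ)) : m • y ∈ (𝔪 ^ (r + 1)).map (algebraMap Λ AΛ) := by
  rw [Algebra.smul_def, pow_succ, Ideal.map_mul]
  exact Ideal.mul_mem_mul (Ideal.mem_map_of_mem _ hm) hy

theorem smul_mem_map_of_mem {I : Ideal Λ} {m : Λ} (hm : m ∈ I) (y : AΛ) :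
    m • y ∈ I.map (algebraMap Λ AΛ) := by
  rw [Algebra.smul_def]
  exact Ideal.mul_mem_right _ _ (Ideal.mem_map_of_mem _ hm)

/-- The inner induction: combinations of `r`-th order elements. -/
theorem nil_step (hunit : ∀ u : Λ, u ∉ 𝔪 → IsUnit u) (r : ℕ)
    (Hm : ∀ τ : AΛ, (∀ j, ∃ n : ℕ, ψ j (h ^ n * τ) ∈ 𝔪.map (algebraMap Λ (B j))) →
      ∃ n : ℕ, h ^ n * τ ∈ 𝔪.map (algebraMap Λ AΛ))
    {ι : Type*} [DecidableEq ι] (s : Finset ι) :
    ∀ (m : ι → Λ) (x : ι → AΛ), (∀ β ∈ s, m β ∈ 𝔪 ^ r) →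
      (∀ j, ∃ n : ℕ, ψ j (h ^ n * ∑ β ∈ s, m β • x β) ∈ (𝔪 ^ (r + 1)).map (algebraMap Λ (B j))) →
      ∃ n : ℕ, h ^ n * ∑ β ∈ s, m β • x β ∈ (𝔪 ^ (r + 1)).map (algebraMap Λ AΛ) := by
  classical
  induction s using Finset.strongInduction with
  | H s ih =>
    intro m x hm hj
    by_cases hind : ∀ c : ι → Λ, ∑ β ∈ s, c β * m β ∈ 𝔪 ^ (r + 1) → ∀ β ∈ s, c β ∈ 𝔪
    · -- independent case
      have h1 : ∀ β ∈ s, ∃ n : ℕ, h ^ n * x β ∈ 𝔪.map (algebraMap Λ AΛ) := by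
        intro β hβ
        refine Hm (x β) fun j => ?_
        obtain ⟨n, hn⟩ := hj j
        refine ⟨n, ?_⟩
        have h2 : ψ j (h ^ n * ∑ β ∈ s, m β • x β) = ∑ β ∈ s, m β • ψ j (h ^ n * x β) := by
          rw [Finset.mul_sum, map_sum]
          refine Finset.sum_congr rfl fun β _ => ?_
          rw [mul_smul_comm, map_smul]
        rw [h2] at hn
        exact mem_map_of_indep 𝔪 r s m hind (fun β => ψ j (h ^ n * x β)) hn β hβ
      choose! n hn using h1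
      refine ⟨∑ β ∈ s, n β, ?_⟩
      rw [Finset.mul_sum]
      refine Ideal.sum_mem _ fun β hβ => ?_
      rw [mul_smul_comm]
      refine smul_mem_map_succ 𝔪 r (hm β hβ) ?_
      have hle : n β ≤ ∑ β ∈ s, n β := Finset.single_le_sum (f := n) (fun _ _ => Nat.zero_le _) hβ
      rw [← Nat.sub_add_cancel hle, pow_add, mul_assoc]
      exact Ideal.mul_mem_left _ _ (hn β hβ)
    · -- dependent case
      push Not at hind
      obtain ⟨c, hc, β₀, hβ₀, hcβ₀⟩ := hind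
      obtain ⟨u, hu⟩ := hunit _ hcβ₀
      set ε : Λ := ↑u⁻¹ * ∑ β ∈ s, c β * m β with hε
      have hεm : ε ∈ 𝔪 ^ (r + 1) := Ideal.mul_mem_left _ _ hc
      let x' : ι → AΛ := fun β => x β - (↑u⁻¹ * c β) • x β₀
      have hid : ∑ β ∈ s, m β • x β = ∑ β ∈ s.erase β₀, m β • x' β + ε • x β₀ := by
        have hε2 : ε = m β₀ + ∑ β ∈ s.erase β₀, (↑u⁻¹ * c β) * m β := by
          rw [hε, ← Finset.add_sum_erase s _ hβ₀, mul_add, ← mul_assoc, ← hu, Units.inv_mul,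
            one_mul, Finset.mul_sum]
          congr 1
          refine Finset.sum_congr rfl fun β _ => ?_
          rw [mul_assoc]
        rw [← Finset.add_sum_erase s _ hβ₀, hε2, add_smul, Finset.sum_smul]
        simp only [x', smul_sub, Finset.sum_sub_distrib]
        have : ∑ β ∈ s.erase β₀, m β • (↑u⁻¹ * c β) • x β₀ =
            ∑ β ∈ s.erase β₀, (↑u⁻¹ * c β * m β) • x β₀ := by
          refine Finset.sum_congr rfl fun β _ => ?_
          rw [smul_smul, mul_comm]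
        rw [this]
        abel
      have hlt : s.erase β₀ ⊂ s := Finset.erase_ssubset hβ₀
      obtain ⟨n, hn⟩ := ih (s.erase β₀) hlt m x'
        (fun β hβ => hm β (Finset.mem_of_mem_erase hβ)) (fun j => by
          obtain ⟨n, hn⟩ := hj j
          refine ⟨n, ?_⟩
          have h3 : ∑ β ∈ s.erase β₀, m β • x' β = ∑ β ∈ s, m β • x β - ε • x β₀ := by
            rw [hid, add_sub_cancel_right]
          rw [h3, mul_sub, map_sub]
          refine Ideal.sub_mem _ hn ?_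
          rw [mul_smul_comm, map_smul]
          exact smul_mem_map_of_mem hεm _)
      refine ⟨n, ?_⟩
      rw [hid, mul_add]
      refine Ideal.add_mem _ hn ?_
      rw [mul_smul_comm]
      exact smul_mem_map_of_mem hεm _

/-- **Nilpotent local base, exponent form.** -/
theorem nil_claim (hunit : ∀ u : Λ, u ∉ 𝔪 → IsUnit u) (N : ℕ) (hnil : 𝔪 ^ N = ⊥)
    (Hm : ∀ τ : AΛ, (∀ j, ∃ n : ℕ, ψ j (h ^ n * τ) ∈ 𝔪.map (algebraMap Λ (B j))) →
      ∃ n : ℕ, h ^ n * τ ∈ 𝔪.map (algebraMap Λ AΛ))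
    (a : AΛ) (ha : ∀ j, ∃ n : ℕ, ψ j (h ^ n * a) = 0) : ∃ n : ℕ, h ^ n * a = 0 := by
  classical
  have P : ∀ r : ℕ, ∃ n : ℕ, h ^ n * a ∈ (𝔪 ^ r).map (algebraMap Λ AΛ) := by
    intro r
    induction r with
    | zero => exact ⟨0, by rw [pow_zero, Ideal.one_eq_top, Ideal.map_top]; trivial⟩
    | succ r ih =>
      obtain ⟨n₀, hn₀⟩ := ih
      have hn₀' : h ^ n₀ * a ∈ (𝔪 ^ r) • (⊤ : Submodule Λ AΛ) := by
        rw [Ideal.smul_top_eq_map]; exact hn₀
      obtain ⟨a', ha', hsum⟩ := exists_finsupp_of_mem_smul_top _ hn₀'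
      have hsum' : ∑ β ∈ a'.support, a' β • (id β : AΛ) = h ^ n₀ * a := hsum
      obtain ⟨n, hn⟩ := nil_step 𝔪 h B ψ hunit r Hm a'.support (fun β => a' β) id
        (fun β _ => ha' β) (fun j => by
          obtain ⟨n, hn⟩ := ha j
          refine ⟨n, ?_⟩
          rw [hsum', mul_left_comm, map_mul, hn, mul_zero]
          exact Ideal.zero_mem _)
      refine ⟨n + n₀, ?_⟩
      rw [hsum'] at hn
      have e : h ^ (n + n₀) * a = h ^ n * (h ^ n₀ * a) := by rw [pow_add, mul_assoc]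
      rw [e]
      exact hn
  obtain ⟨n, hn⟩ := P N
  rw [hnil, Ideal.map_bot, Ideal.mem_bot] at hn
  exact ⟨n, hn⟩

end nil

end Groth.Agent.Lib.Helper4.UnivSchDom
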