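import Mathlib
import Groth.Agent.Lib.Helper4UnivSchDomA
set_option autoImplicit false
universe u v w
namespace Groth.Agent.Lib.Helper4.UnivSchDom
open TensorProduct

/-- For a quotient field `K = Λ/𝔪` (given as an algebra with surjective structure map and kernel
`𝔪`), membership in `𝔪 N` is detected by `K ⊗ N`. -/
theorem one_tmul_eq_zero_iff {Λ : Type*} [CommRing Λ] (𝔪 : Ideal Λ) (K : Type*) [CommRing K]
    [Algebra Λ K] (hsurj : Function.Surjective (algebraMap Λ K))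
    (hker : RingHom.ker (algebraMap Λ K) = 𝔪) {N : Type*} [AddCommGroup N] [Module Λ N] (x : N) :
    (1 : K) ⊗ₜ[Λ] x = 0 ↔ x ∈ 𝔪 • (⊤ : Submodule Λ N) := by
  -- `K ≃ Λ/𝔪`
  let f : Λ →ₐ[Λ] K := Algebra.ofId Λ K
  have hf : Function.Surjective f := hsurj
  have hkerf : RingHom.ker f.toRingHom = 𝔪 := hker
  let e₁ : (Λ ⧸ RingHom.ker f.toRingHom) ≃ₐ[Λ] K := Ideal.quotientKerAlgEquivOfSurjective hf
  let e₂ : (Λ ⧸ 𝔪) ≃ₐ[Λ] (Λ ⧸ RingHom.ker f.toRingHom) := Ideal.quotientEquivAlgOfEq Λ hkerf.symm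
  let e : (Λ ⧸ 𝔪) ≃ₗ[Λ] K := (e₂.trans e₁).toLinearEquiv
  have he1 : e 1 = 1 := map_one (e₂.trans e₁)
  let Φ : K ⊗[Λ] N ≃ₗ[Λ] N ⧸ (𝔪 • (⊤ : Submodule Λ N)) :=
    (TensorProduct.congr e.symm (LinearEquiv.refl Λ N)).trans
      (TensorProduct.quotTensorEquivQuotSMul N 𝔪)
  have hΦ : Φ ((1 : K) ⊗ₜ[Λ] x) = Submodule.Quotient.mk x := by
    have h1 : e.symm 1 = (Ideal.Quotient.mk 𝔪 1) := by
      rw [LinearEquiv.symm_apply_eq, map_one]; exact he1.symm
    simp only [Φ, LinearEquiv.trans_apply, TensorProduct.congr_tmul, LinearEquiv.refl_apply, h1,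
      TensorProduct.quotTensorEquivQuotSMul_mk_tmul, one_smul]
  rw [← Φ.map_eq_zero_iff, hΦ, Submodule.Quotient.mk_eq_zero]

/-- ideal form. -/
theorem one_tmul_eq_zero_iff_mem_map {Λ : Type*} [CommRing Λ] (𝔪 : Ideal Λ) (K : Type*)
    [CommRing K] [Algebra Λ K] (hsurj : Function.Surjective (algebraMap Λ K))
    (hker : RingHom.ker (algebraMap Λ K) = 𝔪) {N : Type*} [CommRing N] [Algebra Λ N] (x : N) :
    (1 : K) ⊗ₜ[Λ] x = 0 ↔ x ∈ 𝔪.map (algebraMap Λ N) := by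
  rw [one_tmul_eq_zero_iff 𝔪 K hsurj hker, Ideal.smul_top_eq_map]
  rfl



section thick
variable {C : Type u} [CommRing C] (𝔭 : Ideal C) [𝔭.IsPrime] (n : ℕ)

/-- The `n`-th infinitesimal neighbourhood of the closed point of `Spec C_𝔭`. -/
abbrev Thick : Type u := Localization.AtPrime 𝔭 ⧸
  (IsLocalRing.maximalIdeal (Localization.AtPrime 𝔭)) ^ (n + 1)

theorem thick_pow_le : (IsLocalRing.maximalIdeal (Localization.AtPrime 𝔭)) ^ (n + 1) ≤
    IsLocalRing.maximalIdeal (Localization.AtPrime 𝔭) := Ideal.pow_le_self (Nat.succ_ne_zero n)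

/-- the projection onto the residue field -/
noncomputable def thickπ : Thick 𝔭 n →+* 𝔭.ResidueField :=
  Ideal.Quotient.lift _ (IsLocalRing.residue (Localization.AtPrime 𝔭))
    (fun a ha => (IsLocalRing.residue_eq_zero_iff a).mpr (thick_pow_le 𝔭 n ha))

noncomputable instance thickAlgebra : Algebra (Thick 𝔭 n) 𝔭.ResidueField := (thickπ 𝔭 n).toAlgebra

instance : IsScalarTower C (Thick 𝔭 n) 𝔭.ResidueField :=
  IsScalarTower.of_algebraMap_eq' (R := C) (S := Thick 𝔭 n) (A := 𝔭.ResidueField) rfl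

end thick

/-- The family `E ⊗ A → E ⊗ B j` is schematically dominant on all principal opens. -/
def SD (C : Type u) [CommRing C] {A : Type u} [CommRing A] [Algebra C A] {J : Type w}
    {B : J → Type u} [∀ j, CommRing (B j)] [∀ j, Algebra C (B j)] (ψ : ∀ j, A →ₐ[C] B j)
    (E : Type u) [CommRing E] [Algebra C E] : Prop :=
  ∀ h τ : E ⊗[C] A, (∀ j, ∃ n : ℕ,
    Algebra.TensorProduct.map (AlgHom.id E E) (ψ j) (h ^ n * τ) = 0) → ∃ n : ℕ, h ^ n * τ = 0


section thick2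
variable {C : Type u} [CommRing C] (𝔭 : Ideal C) [𝔭.IsPrime] (n : ℕ)

/-- the maximal ideal of `Thick 𝔭 n`. -/
noncomputable def thickMax : Ideal (Thick 𝔭 n) :=
  (IsLocalRing.maximalIdeal (Localization.AtPrime 𝔭)).map (Ideal.Quotient.mk _)

theorem mk_mem_thickMax (v : Localization.AtPrime 𝔭) :
    (Ideal.Quotient.mk ((IsLocalRing.maximalIdeal (Localization.AtPrime 𝔭)) ^ (n + 1)) v) ∈
      thickMax 𝔭 n ↔ v ∈ IsLocalRing.maximalIdeal (Localization.AtPrime 𝔭) := by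
  constructor
  · intro hv
    rw [thickMax, Ideal.mem_map_iff_of_surjective _ Ideal.Quotient.mk_surjective] at hv
    obtain ⟨w, hw, hwv⟩ := hv
    have : w - v ∈ (IsLocalRing.maximalIdeal (Localization.AtPrime 𝔭)) ^ (n + 1) := by
      rw [← Ideal.Quotient.eq_zero_iff_mem, map_sub, hwv, sub_self]
    have h2 := thick_pow_le 𝔭 n this
    have h3 : v = w - (w - v) := by ring
    rw [h3]
    exact Ideal.sub_mem _ hw h2
  · intro hv
    exact Ideal.mem_map_of_mem _ hv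

theorem thick_surjective : Function.Surjective (algebraMap (Thick 𝔭 n) 𝔭.ResidueField) :=
  Ideal.Quotient.lift_surjective_of_surjective _ _ IsLocalRing.residue_surjective

theorem thick_ker : RingHom.ker (algebraMap (Thick 𝔭 n) 𝔭.ResidueField) = thickMax 𝔭 n := by
  ext x
  obtain ⟨v, rfl⟩ := Ideal.Quotient.mk_surjective x
  rw [RingHom.mem_ker, mk_mem_thickMax]
  show IsLocalRing.residue (Localization.AtPrime 𝔭) v = 0 ↔ _
  rw [IsLocalRing.residue_eq_zero_iff]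

theorem thick_isUnit (u : Thick 𝔭 n) (hu : u ∉ thickMax 𝔭 n) : IsUnit u := by
  obtain ⟨v, rfl⟩ := Ideal.Quotient.mk_surjective u
  rw [mk_mem_thickMax] at hu
  have : IsUnit v := by
    by_contra hv
    exact hu ((IsLocalRing.mem_maximalIdeal v).mpr hv)
  exact this.map _

theorem thickMax_pow : thickMax 𝔭 n ^ (n + 1) = ⊥ := by
  rw [thickMax, ← Ideal.map_pow, Ideal.map_quotient_self]

end thick2

set_option linter.style.haveILetI false in
set_option maxHeartbeats 800000 in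
/-- Base change to the `n`-th infinitesimal neighbourhood of a prime of the base. -/
theorem nil_fibre_claim {C : Type u} [CommRing C] {A : Type u} [CommRing A] [Algebra C A]
    {J : Type w} {B : J → Type u} [∀ j, CommRing (B j)]
    [∀ j, Algebra C (B j)] [∀ j, Module.Flat C (B j)] (ψ : ∀ j, A →ₐ[C] B j)
    (𝔭 : Ideal C) [𝔭.IsPrime] (FH : SD C ψ 𝔭.ResidueField) (n : ℕ)
    (h t : A) (ht : ∀ j, ∃ m : ℕ, ψ j (h ^ m * t) = 0) :
    ∃ m : ℕ, (1 : Thick 𝔭 n) ⊗ₜ[C] (h ^ m * t) = 0 := by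
  classical
  -- the base changed family
  let ψΛ : ∀ j, Thick 𝔭 n ⊗[C] A →ₐ[Thick 𝔭 n] Thick 𝔭 n ⊗[C] B j := fun j =>
    Algebra.TensorProduct.map (AlgHom.id (Thick 𝔭 n) (Thick 𝔭 n)) (ψ j)
  have key := nil_claim (thickMax 𝔭 n) ((1 : Thick 𝔭 n) ⊗ₜ[C] h) (fun j => Thick 𝔭 n ⊗[C] B j) ψΛ
    (thick_isUnit 𝔭 n) (n + 1) (thickMax_pow 𝔭 n) ?_ ((1 : Thick 𝔭 n) ⊗ₜ[C] t) ?_
  · obtain ⟨m, hm⟩ := key
    refine ⟨m, ?_⟩
    rw [Algebra.TensorProduct.tmul_pow, one_pow, Algebra.TensorProduct.tmul_mul_tmul,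
      one_mul] at hm
    exact hm
  · -- fibre hypothesis
    intro τ hτ
    let ΦA := Algebra.TensorProduct.cancelBaseChange C (Thick 𝔭 n) 𝔭.ResidueField 𝔭.ResidueField A
    let ΦB := fun j =>
      Algebra.TensorProduct.cancelBaseChange C (Thick 𝔭 n) 𝔭.ResidueField 𝔭.ResidueField (B j)
    have hnat : ∀ j (y : Thick 𝔭 n ⊗[C] A), ΦB j ((1 : 𝔭.ResidueField) ⊗ₜ[Thick 𝔭 n] ψΛ j y) =
        Algebra.TensorProduct.map (AlgHom.id 𝔭.ResidueField 𝔭.ResidueField) (ψ j)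
          (ΦA ((1 : 𝔭.ResidueField) ⊗ₜ[Thick 𝔭 n] y)) := by
      intro j y
      induction y using TensorProduct.induction_on with
      | zero => simp
      | tmul l a =>
        simp only [ψΛ, ΦA, ΦB, Algebra.TensorProduct.map_tmul, AlgHom.coe_id, id_eq,
          Algebra.TensorProduct.cancelBaseChange_tmul]
      | add y z hy hz =>
        rw [map_add, TensorProduct.tmul_add, map_add, hy, hz, TensorProduct.tmul_add, map_add,
          map_add]
    have hinc : ∀ y z : Thick 𝔭 n ⊗[C] A,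
        ((1 : 𝔭.ResidueField) ⊗ₜ[Thick 𝔭 n] (y * z) : 𝔭.ResidueField ⊗[Thick 𝔭 n] (Thick 𝔭 n ⊗[C] A)) =
        ((1 : 𝔭.ResidueField) ⊗ₜ[Thick 𝔭 n] y) * ((1 : 𝔭.ResidueField) ⊗ₜ[Thick 𝔭 n] z) := by
      intro y z
      rw [Algebra.TensorProduct.tmul_mul_tmul, one_mul]
    have hincp : ∀ (y : Thick 𝔭 n ⊗[C] A) (m : ℕ),
        ((1 : 𝔭.ResidueField) ⊗ₜ[Thick 𝔭 n] (y ^ m) : 𝔭.ResidueField ⊗[Thick 𝔭 n] (Thick 𝔭 n ⊗[C] A)) =
        ((1 : 𝔭.ResidueField) ⊗ₜ[Thick 𝔭 n] y) ^ m := by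
      intro y m
      rw [Algebra.TensorProduct.tmul_pow, one_pow]
    obtain ⟨m, hm⟩ := FH (ΦA ((1 : 𝔭.ResidueField) ⊗ₜ[Thick 𝔭 n] ((1 : Thick 𝔭 n) ⊗ₜ[C] h)))
      (ΦA ((1 : 𝔭.ResidueField) ⊗ₜ[Thick 𝔭 n] τ))
      (fun j => by
        obtain ⟨m, hm⟩ := hτ j
        refine ⟨m, ?_⟩
        rw [← map_pow, ← map_mul, ← hincp, ← hinc, ← hnat]
        have hm' := (one_tmul_eq_zero_iff_mem_map (thickMax 𝔭 n) 𝔭.ResidueField
          (thick_surjective 𝔭 n) (thick_ker 𝔭 n) (N := Thick 𝔭 n ⊗[C] B j) _).mpr hm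
        rw [hm', map_zero])
    refine ⟨m, ?_⟩
    refine (one_tmul_eq_zero_iff_mem_map (thickMax 𝔭 n) 𝔭.ResidueField (thick_surjective 𝔭 n)
      (thick_ker 𝔭 n) (N := Thick 𝔭 n ⊗[C] A) _).mp ?_
    rw [← map_pow, ← map_mul, ← hincp, ← hinc] at hm
    exact ΦA.injective (by rw [hm, map_zero])
  · intro j
    obtain ⟨m, hm⟩ := ht j
    refine ⟨m, ?_⟩
    rw [Algebra.TensorProduct.tmul_pow, one_pow, Algebra.TensorProduct.tmul_mul_tmul, one_mul]
    simp only [ψΛ, Algebra.TensorProduct.map_tmul, AlgHom.coe_id, id_eq, hm,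
      TensorProduct.tmul_zero]

set_option linter.style.haveILetI false in
set_option maxHeartbeats 800000 in
/-- **Noetherian total space, fibrewise criterion (exponent form).** -/
theorem noeth_fibre_claim {C : Type u} [CommRing C] {A : Type u} [CommRing A] [Algebra C A]
    [IsNoetherianRing A] {J : Type w} {B : J → Type u} [∀ j, CommRing (B j)]
    [∀ j, Algebra C (B j)] [∀ j, Module.Flat C (B j)] (ψ : ∀ j, A →ₐ[C] B j)
    (FH : ∀ (𝔭 : Ideal C) [𝔭.IsPrime], SD C ψ 𝔭.ResidueField)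
    (h t : A) (ht : ∀ j, ∃ n : ℕ, ψ j (h ^ n * t) = 0) : ∃ n : ℕ, h ^ n * t = 0 := by
  classical
  by_contra hne
  push Not at hne
  -- a prime `𝔮` containing the annihilator of `t` and not `h`
  let It : Ideal A := LinearMap.ker (LinearMap.mulRight A t)
  have hIt : ∀ x, x ∈ It ↔ x * t = 0 := fun x => by
    simp only [It, LinearMap.mem_ker, LinearMap.mulRight_apply]
  have hrad : h ∉ It.radical := by
    rintro ⟨n, hn⟩
    exact hne n ((hIt _).mp hn)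
  rw [Ideal.radical_eq_sInf, Ideal.mem_sInf] at hrad
  push Not at hrad
  obtain ⟨𝔮, ⟨hle, h𝔮⟩, hh𝔮⟩ := hrad
  haveI := h𝔮
  have ht0 : algebraMap A (Localization.AtPrime 𝔮) t ≠ 0 := by
    intro h0
    rw [IsLocalization.map_eq_zero_iff 𝔮.primeCompl] at h0
    obtain ⟨m, hm⟩ := h0
    exact m.2 (hle ((hIt _).mpr hm))
  -- the prime of `C`
  let 𝔭 : Ideal C := 𝔮.comap (algebraMap C A)
  haveI : 𝔭.IsPrime := Ideal.comap_isPrime _ _
  let I : Ideal (Localization.AtPrime 𝔮) := 𝔭.map (algebraMap C (Localization.AtPrime 𝔮))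
  have hImax : I ≤ IsLocalRing.maximalIdeal (Localization.AtPrime 𝔮) := by
    rw [Ideal.map_le_iff_le_comap]
    intro c hc
    rw [Ideal.mem_comap, IsScalarTower.algebraMap_apply C A (Localization.AtPrime 𝔮),
      IsLocalization.AtPrime.to_map_mem_maximal_iff (Localization.AtPrime 𝔮) 𝔮]
    exact hc
  have hItop : I ≠ ⊤ := fun h => (IsLocalRing.maximalIdeal.isMaximal _).ne_top
    (top_le_iff.mp (h ▸ hImax))
  have hkrull := Ideal.iInf_pow_eq_bot_of_isLocalRing I hItop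
  have hn : ∃ n : ℕ, algebraMap A (Localization.AtPrime 𝔮) t ∉ I ^ (n + 1) := by
    by_contra hcon
    push Not at hcon
    apply ht0
    have : algebraMap A (Localization.AtPrime 𝔮) t ∈ ⨅ i, I ^ i := by
      rw [Ideal.mem_iInf]
      intro i
      exact Ideal.pow_le_pow_right (Nat.le_succ i) (hcon i)
    rwa [hkrull, Ideal.mem_bot] at this
  obtain ⟨n, hn⟩ := hn
  obtain ⟨m, hm⟩ := nil_fibre_claim ψ 𝔭 (FH 𝔭) n h t ht
  -- the comparison map `Thick 𝔭 n ⊗ A → A_𝔮 / I^(n+1)`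
  let f1r : Localization.AtPrime 𝔭 →+* Localization.AtPrime 𝔮 :=
    Localization.localRingHom 𝔭 𝔮 (algebraMap C A) rfl
  have hf1 : ∀ c : C, f1r (algebraMap C _ c) = algebraMap C (Localization.AtPrime 𝔮) c := by
    intro c
    rw [Localization.localRingHom_to_map, ← IsScalarTower.algebraMap_apply]
  let f1 : Localization.AtPrime 𝔭 →ₐ[C] Localization.AtPrime 𝔮 := { f1r with commutes' := hf1 }
  let f0 : Localization.AtPrime 𝔭 →ₐ[C] (Localization.AtPrime 𝔮 ⧸ I ^ (n + 1)) :=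
    (Ideal.Quotient.mkₐ C (I ^ (n + 1))).comp f1
  have hf0 : ∀ a ∈ (IsLocalRing.maximalIdeal (Localization.AtPrime 𝔭)) ^ (n + 1), f0 a = 0 := by
    intro a ha
    show Ideal.Quotient.mk _ (f1r a) = 0
    rw [Ideal.Quotient.eq_zero_iff_mem]
    have hle2 : (IsLocalRing.maximalIdeal (Localization.AtPrime 𝔭)) ^ (n + 1) ≤
        (I ^ (n + 1)).comap f1r := by
      rw [← IsLocalization.AtPrime.map_eq_maximalIdeal 𝔭 (Localization.AtPrime 𝔭),
        ← Ideal.map_pow, Ideal.map_le_iff_le_comap, Ideal.comap_comap]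
      intro c hc
      rw [Ideal.mem_comap, RingHom.comp_apply, hf1]
      rw [← Ideal.map_pow]
      exact Ideal.mem_map_of_mem _ hc
    exact hle2 ha
  let fT : Thick 𝔭 n →ₐ[C] (Localization.AtPrime 𝔮 ⧸ I ^ (n + 1)) :=
    Ideal.Quotient.liftₐ _ f0 hf0
  let g : A →ₐ[C] (Localization.AtPrime 𝔮 ⧸ I ^ (n + 1)) :=
    (Ideal.Quotient.mkₐ C (I ^ (n + 1))).comp (IsScalarTower.toAlgHom C A (Localization.AtPrime 𝔮))
  let Θ : Thick 𝔭 n ⊗[C] A →ₐ[C] (Localization.AtPrime 𝔮 ⧸ I ^ (n + 1)) :=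
    Algebra.TensorProduct.lift fT g (fun _ _ => Commute.all _ _)
  have hΘ : Θ ((1 : Thick 𝔭 n) ⊗ₜ[C] (h ^ m * t)) =
      Ideal.Quotient.mk _ (algebraMap A (Localization.AtPrime 𝔮) (h ^ m * t)) := by
    rw [Algebra.TensorProduct.lift_tmul, map_one, one_mul]; rfl
  rw [hm, map_zero] at hΘ
  have hmem := Ideal.Quotient.eq_zero_iff_mem.mp hΘ.symm
  rw [map_mul, map_pow] at hmem
  have hunit : IsUnit (algebraMap A (Localization.AtPrime 𝔮) h) :=
    IsLocalization.map_units _ (⟨h, hh𝔮⟩ : 𝔮.primeCompl)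
  exact hn ((Ideal.unit_mul_mem_iff_mem _ (hunit.pow m)).mp hmem)

end Groth.Agent.Lib.Helper4.UnivSchDom
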