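import Mathlib
import Groth.Agent.Lib.Helper4UnivSchDomB
/-!
# helper4: schematically dominant families over a nilpotent base with free graded pieces

* `indep_step`: the "independent" step of `nil_step`, without locality of the base.
* `nil_free_claim`: over a ring `Λ` with a nilpotent ideal `𝔪` such that every `𝔪^r/𝔪^(r+1)` has a
  "basis" over `Λ/𝔪`, a family of flat `Λ`-algebras which is schematically dominant (on `D(h)`)
  modulo `𝔪` is schematically dominant.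
* `exists_basis_lifts`: the "basis" from `Module.Free (A ⧸ J) ((A ⧸ J) ⊗[A] ↥(J ^ r))`.
-/

set_option autoImplicit false
universe u v w
namespace Groth.Agent.Lib.Helper4.NilFree
open TensorProduct Groth.Agent.Lib.Helper4.UnivSchDom

section nil
variable {Λ : Type*} [CommRing Λ] (𝔪 : Ideal Λ) {AΛ : Type*} [CommRing AΛ] [Algebra Λ AΛ]
  (h : AΛ) {J : Type*} (B : J → Type*) [∀ j, CommRing (B j)] [∀ j, Algebra Λ (B j)]
  [∀ j, Module.Flat Λ (B j)] (ψ : ∀ j, AΛ →ₐ[Λ] B j)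

/-- The independent step. -/
theorem indep_step (r : ℕ)
    (Hm : ∀ τ : AΛ, (∀ j, ∃ n : ℕ, ψ j (h ^ n * τ) ∈ 𝔪.map (algebraMap Λ (B j))) →
      ∃ n : ℕ, h ^ n * τ ∈ 𝔪.map (algebraMap Λ AΛ))
    {ι : Type*} (s : Finset ι) (m : ι → Λ) (x : ι → AΛ) (hm : ∀ β ∈ s, m β ∈ 𝔪 ^ r)
    (hind : ∀ c : ι → Λ, ∑ β ∈ s, c β * m β ∈ 𝔪 ^ (r + 1) → ∀ β ∈ s, c β ∈ 𝔪)
    (hj : ∀ j, ∃ n : ℕ, ψ j (h ^ n * ∑ β ∈ s, m β • x β) ∈
      (𝔪 ^ (r + 1)).map (algebraMap Λ (B j))) :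
    ∃ n : ℕ, h ^ n * ∑ β ∈ s, m β • x β ∈ (𝔪 ^ (r + 1)).map (algebraMap Λ AΛ) := by
  classical
  have h1 : ∀ β ∈ s, ∃ n : ℕ, h ^ n * x β ∈ 𝔪.map (algebraMap Λ AΛ) := by
    intro β hβ
    refine Hm (x β) fun j => ?_
    obtain ⟨n, hn⟩ := hj j
    refine ⟨n, ?_⟩
    have h2 : ψ j (h ^ n * ∑ β ∈ s, m β • x β) = ∑ β ∈ s, m β • ψ j (h ^ n * x β) := by
      rw [Finset.mul_sum, map_sum]
      refine Finset.sum_congr rfl fun β _ => ?_
      rw [mul_smul_comm, map_smul]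
    rw [h2] at hn
    exact mem_map_of_indep 𝔪 r s m hind (fun β => ψ j (h ^ n * x β)) hn β hβ
  choose! n hn using h1
  refine ⟨∑ β ∈ s, n β, ?_⟩
  rw [Finset.mul_sum]
  refine Ideal.sum_mem _ fun β hβ => ?_
  rw [mul_smul_comm]
  refine smul_mem_map_succ 𝔪 r (hm β hβ) ?_
  have hle : n β ≤ ∑ β ∈ s, n β := Finset.single_le_sum (f := n) (fun _ _ => Nat.zero_le _) hβ
  rw [← Nat.sub_add_cancel hle, pow_add, mul_assoc]
  exact Ideal.mul_mem_left _ _ (hn β hβ)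

omit [∀ j, Module.Flat Λ (B j)] in
/-- rewriting an element of `𝔪^r A` in terms of the "basis" modulo `𝔪^(r+1) A`. -/
theorem exists_rewrite (r : ℕ) {I : Type*} (e : I → Λ)
    (hspan : ∀ m : Λ, m ∈ 𝔪 ^ r → ∃ (T : Finset I) (c : I → Λ),
      m - ∑ γ ∈ T, c γ * e γ ∈ 𝔪 ^ (r + 1))
    (x : AΛ) (hx : x ∈ (𝔪 ^ r).map (algebraMap Λ AΛ)) :
    ∃ y : I →₀ AΛ, x - (y.sum fun γ z => e γ • z) ∈ (𝔪 ^ (r + 1)).map (algebraMap Λ AΛ) := by
  classical
  have hx' : x ∈ (𝔪 ^ r) • (⊤ : Submodule Λ AΛ) := by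
    rw [Ideal.smul_top_eq_map]; exact hx
  clear hx
  induction hx' using Submodule.smul_induction_on' with
  | smul m hm z _ =>
    obtain ⟨T, c, hc⟩ := hspan m hm
    refine ⟨∑ γ ∈ T, Finsupp.single γ (c γ • z), ?_⟩
    have h1 : ((∑ γ ∈ T, Finsupp.single γ (c γ • z) : I →₀ AΛ).sum fun γ z => e γ • z) =
        (∑ γ ∈ T, c γ * e γ) • z := by
      rw [← Finsupp.sum_finsetSum_index (h_zero := fun γ => smul_zero _)
        (h_add := fun γ z₁ z₂ => smul_add _ _ _), Finset.sum_smul]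
      refine Finset.sum_congr rfl fun γ _ => ?_
      rw [Finsupp.sum_single_index (h := fun γ z => e γ • z) (smul_zero _), smul_smul, mul_comm]
    rw [h1, ← sub_smul]
    exact smul_mem_map_of_mem hc z
  | add x₁ _ x₂ _ ih₁ ih₂ =>
    obtain ⟨y₁, hy₁⟩ := ih₁
    obtain ⟨y₂, hy₂⟩ := ih₂
    refine ⟨y₁ + y₂, ?_⟩
    rw [Finsupp.sum_add_index' (fun γ => smul_zero _) (fun γ z₁ z₂ => smul_add _ _ _)]
    have : x₁ + x₂ - ((y₁.sum fun γ z => e γ • z) + (y₂.sum fun γ z => e γ • z)) =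
        (x₁ - (y₁.sum fun γ z => e γ • z)) + (x₂ - (y₂.sum fun γ z => e γ • z)) := by ring
    rw [this]
    exact Ideal.add_mem _ hy₁ hy₂

/-- **Nilpotent base with free graded pieces, exponent form.** -/
theorem nil_free_claim (N : ℕ) (hnil : 𝔪 ^ N = ⊥) (I : ℕ → Type*) (e : ∀ r, I r → Λ)
    (he : ∀ r γ, e r γ ∈ 𝔪 ^ r)
    (hspan : ∀ r (m : Λ), m ∈ 𝔪 ^ r → ∃ (T : Finset (I r)) (c : I r → Λ),
      m - ∑ γ ∈ T, c γ * e r γ ∈ 𝔪 ^ (r + 1))
    (hind : ∀ r (T : Finset (I r)) (c : I r → Λ), ∑ γ ∈ T, c γ * e r γ ∈ 𝔪 ^ (r + 1) →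
      ∀ γ ∈ T, c γ ∈ 𝔪)
    (Hm : ∀ τ : AΛ, (∀ j, ∃ n : ℕ, ψ j (h ^ n * τ) ∈ 𝔪.map (algebraMap Λ (B j))) →
      ∃ n : ℕ, h ^ n * τ ∈ 𝔪.map (algebraMap Λ AΛ))
    (a : AΛ) (ha : ∀ j, ∃ n : ℕ, ψ j (h ^ n * a) = 0) : ∃ n : ℕ, h ^ n * a = 0 := by
  classical
  have P : ∀ r : ℕ, ∃ n : ℕ, h ^ n * a ∈ (𝔪 ^ r).map (algebraMap Λ AΛ) := by
    intro r
    induction r with
    | zero => exact ⟨0, by rw [pow_zero, Ideal.one_eq_top, Ideal.map_top]; trivial⟩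
    | succ r ih =>
      obtain ⟨n₀, hn₀⟩ := ih
      obtain ⟨y, hy⟩ := exists_rewrite 𝔪 r (e r) (hspan r) _ hn₀
      have hy' : (y.sum fun γ z => e r γ • z) = ∑ γ ∈ y.support, e r γ • y γ := rfl
      rw [hy'] at hy
      obtain ⟨n, hn⟩ := indep_step 𝔪 h B ψ r Hm y.support (e r) (fun γ => y γ)
        (fun γ _ => he r γ) (fun c hc => hind r y.support c hc) (fun j => by
          obtain ⟨n, hn⟩ := ha j
          refine ⟨n, ?_⟩
          have e1 : h ^ n * ∑ γ ∈ y.support, e r γ • y γ =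
              h ^ n₀ * (h ^ n * a) - h ^ n * (h ^ n₀ * a - ∑ γ ∈ y.support, e r γ • y γ) := by
            ring
          rw [e1, map_sub, map_mul (ψ j) (h ^ n₀), hn, mul_zero, zero_sub]
          refine Ideal.neg_mem_iff _ |>.mpr ?_
          exact map_mem_map 𝔪 B ψ (r + 1) j (Ideal.mul_mem_left _ _ hy))
      refine ⟨n + n₀, ?_⟩
      have e2 : h ^ (n + n₀) * a = h ^ n * ∑ γ ∈ y.support, e r γ • y γ +
          h ^ n * (h ^ n₀ * a - ∑ γ ∈ y.support, e r γ • y γ) := by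
        rw [pow_add]; ring
      rw [e2]
      exact Ideal.add_mem _ hn (Ideal.mul_mem_left _ _ hy)
  obtain ⟨n, hn⟩ := P N
  rw [hnil, Ideal.map_bot, Ideal.mem_bot] at hn
  exact ⟨n, hn⟩

end nil

/-- the "basis" of `J^r/J^(r+1)` from freeness of `(A ⧸ J) ⊗[A] ↥(J ^ r)`. -/
theorem exists_basis_lifts {A : Type u} [CommRing A] (J : Ideal A) (r : ℕ)
    [Module.Free (A ⧸ J) ((A ⧸ J) ⊗[A] ↥(J ^ r))] :
    ∃ (I : Type u) (e : I → A), (∀ γ, e γ ∈ J ^ r) ∧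
      (∀ m : A, m ∈ J ^ r → ∃ (T : Finset I) (c : I → A),
        m - ∑ γ ∈ T, c γ * e γ ∈ J ^ (r + 1)) ∧
      (∀ (T : Finset I) (c : I → A), ∑ γ ∈ T, c γ * e γ ∈ J ^ (r + 1) → ∀ γ ∈ T, c γ ∈ J) := by
  classical
  let K := A ⧸ J
  let Q := K ⊗[A] ↥(J ^ r)
  let b := Module.Free.chooseBasis K Q
  -- the key: `1 ⊗ x = 0 ↔ x ∈ J^(r+1)`
  have key : ∀ x : ↥(J ^ r), (1 : K) ⊗ₜ[A] x = 0 ↔ (x : A) ∈ J ^ (r + 1) := by
    intro x
    rw [one_tmul_eq_zero_iff J K Ideal.Quotient.mk_surjective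
      (by rw [Ideal.Quotient.algebraMap_eq, Ideal.mk_ker]), Submodule.mem_smul_top_iff,
      smul_eq_mul, ← pow_succ']
  have hsurj : ∀ q : Q, ∃ x : ↥(J ^ r), (1 : K) ⊗ₜ[A] x = q := by
    intro q
    induction q using TensorProduct.induction_on with
    | zero => exact ⟨0, by simp⟩
    | tmul k x =>
      obtain ⟨a, rfl⟩ := Ideal.Quotient.mk_surjective k
      refine ⟨a • x, ?_⟩
      rw [TensorProduct.tmul_smul, TensorProduct.smul_tmul', Algebra.smul_def, mul_one]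
      rfl
    | add q₁ q₂ h₁ h₂ =>
      obtain ⟨x₁, rfl⟩ := h₁
      obtain ⟨x₂, rfl⟩ := h₂
      exact ⟨x₁ + x₂, TensorProduct.tmul_add _ _ _⟩
  choose lift hlift using hsurj
  have hcomb : ∀ (T : Finset (Module.Free.ChooseBasisIndex K Q))
      (c : Module.Free.ChooseBasisIndex K Q → A),
      (1 : K) ⊗ₜ[A] (∑ γ ∈ T, c γ • lift (b γ)) = ∑ γ ∈ T, (Ideal.Quotient.mk J (c γ)) • b γ := by
    intro T c
    rw [TensorProduct.tmul_sum]
    refine Finset.sum_congr rfl fun γ _ => ?_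
    rw [TensorProduct.tmul_smul, hlift, ← algebraMap_smul K (c γ) (b γ)]
    rfl
  refine ⟨Module.Free.ChooseBasisIndex K Q, fun γ => (lift (b γ) : A), fun γ => (lift (b γ)).2,
    ?_, ?_⟩
  · intro m hm
    let q : Q := (1 : K) ⊗ₜ[A] (⟨m, hm⟩ : ↥(J ^ r))
    refine ⟨(b.repr q).support, fun γ => Quotient.out ((b.repr q) γ), ?_⟩
    have h1 : ((⟨m, hm⟩ - ∑ γ ∈ (b.repr q).support,
        (Quotient.out ((b.repr q) γ) : A) • lift (b γ) : ↥(J ^ r)) : A) =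
        m - ∑ γ ∈ (b.repr q).support, (Quotient.out ((b.repr q) γ) : A) * (lift (b γ) : A) := by
      push_cast
      rfl
    rw [← h1, ← key, TensorProduct.tmul_sub, hcomb]
    have h2 : ∑ γ ∈ (b.repr q).support,
        (Ideal.Quotient.mk J (Quotient.out ((b.repr q) γ))) • b γ = q := by
      conv_rhs => rw [← b.linearCombination_repr q, Finsupp.linearCombination_apply, Finsupp.sum]
      refine Finset.sum_congr rfl fun γ _ => ?_
      congr 1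
      exact Quotient.out_eq _
    rw [h2, sub_self]
  · intro T c hc γ hγ
    have h1 : ((∑ γ ∈ T, c γ • lift (b γ) : ↥(J ^ r)) : A) = ∑ γ ∈ T, c γ * (lift (b γ) : A) := by
      push_cast
      rfl
    rw [← h1, ← key, hcomb] at hc
    have := (linearIndependent_iff'.mp b.linearIndependent) T
      (fun γ => Ideal.Quotient.mk J (c γ)) hc γ hγ
    exact Ideal.Quotient.eq_zero_iff_mem.mp this

end Groth.Agent.Lib.Helper4.NilFree
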