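import Mathlib
import Groth.Agent.Lib.Helper2GenFree

/-!
# helper4: schematically dominant families under flat base change — ring level, Noetherian case

* `exists_colon_decomp`: in a flat algebra, elements killed by a f.g. ideal `I` lie in `(0 : I)·A'`.
* `ModBasis I f v`: `v` is a basis of `A'/IA'` over `A/I` up to powers of `f`;
  `exists_modBasis_of_freeAway` (from helper2's generic freeness predicate `FreeAway`).
* `exists_pow_smul_eq_zero_of_sum_tmul`: relations `∑ bᵢ ⊗ vᵢ = 0` with `I bᵢ = 0` force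
  `fⁿ bᵢ = 0` (equational criterion of flatness).
* `key_lemma`, `noeth_claim`: `A` Noetherian, `A'` flat of finite type, `(B j)` schematically
  dominant on principal opens ⇒ `A' → ∏ B j ⊗ A'` injective.
-/

set_option autoImplicit false
universe u v w
namespace Groth.Agent.Lib.Helper4.SchDom
open TensorProduct Groth.Agent.Lib.Helper2.GenFree

/-- (I1) In a flat algebra, an element killed by a finitely generated ideal `I` is a combination
of elements of `(0 : I)`. -/
theorem exists_colon_decomp {A A' : Type*} [CommRing A] [CommRing A'] [Algebra A A']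
    [Module.Flat A A'] (I : Ideal A) (hI : I.FG) (t : A') (ht : ∀ p ∈ I, p • t = 0) :
    ∃ (k : ℕ) (h : Fin k → A) (x : Fin k → A'), (∀ l, ∀ p ∈ I, p * h l = 0) ∧
      t = ∑ l, h l • x l := by
  classical
  obtain ⟨s, hs⟩ := hI
  -- K = A^s → A → A'
  let f : (s →₀ A) →ₗ[A] A := Finsupp.linearCombination A (fun i : s => (i : A))
  let x : A →ₗ[A] A' := LinearMap.toSpanSingleton A A' t
  have hxf : x ∘ₗ f = 0 := by
    apply Finsupp.lhom_ext'
    intro i
    ext
    simp only [LinearMap.coe_comp, Function.comp_apply, Finsupp.lsingle_apply,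
      LinearMap.zero_comp, LinearMap.zero_apply, f, x, Finsupp.linearCombination_single,
      one_smul, LinearMap.toSpanSingleton_apply]
    exact ht _ (hs ▸ Ideal.subset_span i.2)
  obtain ⟨k, a, y, hya, haf⟩ := Module.Flat.exists_factorization_of_comp_eq_zero_of_free hxf
  refine ⟨k, fun l => a 1 l, fun l => y (Finsupp.single l 1), ?_, ?_⟩
  · intro l p hp
    have h1 : ∀ q ∈ (s : Set A), q * a 1 l = 0 := by
      intro q hq
      have := LinearMap.congr_fun haf (Finsupp.single ⟨q, hq⟩ 1)
      simp only [LinearMap.coe_comp, Function.comp_apply, LinearMap.zero_apply, f,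
        Finsupp.linearCombination_single, one_smul] at this
      have h2 : a q = q • a 1 := by rw [← map_smul, smul_eq_mul, mul_one]
      rw [h2] at this
      have := DFunLike.congr_fun this l
      simpa using this
    rw [← hs] at hp
    refine Submodule.span_induction (p := fun q _ => q * a 1 l = 0) h1 (by simp) ?_ ?_ hp
    · intro u v _ _ hu hv; rw [add_mul, hu, hv, add_zero]
    · intro c u _ hu; rw [smul_eq_mul, mul_assoc, hu, mul_zero]
  · have h1 : t = x 1 := by simp [x]
    rw [h1, hya, LinearMap.comp_apply]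
    conv_lhs => rw [← Finsupp.sum_single (a 1)]
    rw [Finsupp.sum_fintype _ _ (by simp), map_sum]
    refine Finset.sum_congr rfl fun l _ => ?_
    rw [← map_smul, Finsupp.smul_single, smul_eq_mul, mul_one]

/-- `v : ι → A'` is a basis of `A'/IA'` over `A/I` up to powers of `f`. -/
structure ModBasis {A A' : Type*} [CommRing A] [CommRing A'] [Algebra A A'] (I : Ideal A) (f : A)
    {ι : Type*} (v : ι → A') : Prop where
  li : ∀ c : ι →₀ A, Finsupp.linearCombination A v c ∈ I.map (algebraMap A A') → ∀ i, c i ∈ I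
  span : ∀ x : A', ∃ (n : ℕ) (c : ι →₀ A),
    f ^ n • x - Finsupp.linearCombination A v c ∈ I.map (algebraMap A A')

theorem ModBasis.span_fin {A A' : Type*} [CommRing A] [CommRing A'] [Algebra A A'] {I : Ideal A}
    {f : A} {ι : Type*} {v : ι → A'} (hv : ModBasis I f v) {k : ℕ} (y : Fin k → A') :
    ∃ (n : ℕ) (c : Fin k → ι →₀ A), ∀ j,
      f ^ n • y j - Finsupp.linearCombination A v (c j) ∈ I.map (algebraMap A A') := by
  choose n c hc using fun j => hv.span (y j)
  refine ⟨∑ j, n j, fun j => f ^ (∑ j, n j - n j) • c j, fun j => ?_⟩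
  have hle : n j ≤ ∑ j, n j := Finset.single_le_sum (f := n) (fun _ _ => Nat.zero_le _)
    (Finset.mem_univ j)
  have h1 : f ^ (∑ j, n j) • y j - Finsupp.linearCombination A v (f ^ (∑ j, n j - n j) • c j) =
      f ^ (∑ j, n j - n j) • (f ^ n j • y j - Finsupp.linearCombination A v (c j)) := by
    rw [smul_sub, smul_smul, ← pow_add, Nat.sub_add_cancel hle, map_smul]
  rw [h1, Algebra.smul_def]
  exact Ideal.mul_mem_left _ _ (hc j)

theorem exists_pow_smul_eq_zero_of_sum_tmul {A A' : Type*} [CommRing A] [CommRing A']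
    [Algebra A A'] [Module.Flat A A'] {I : Ideal A} {f : A} {ι : Type*} {v : ι → A'}
    (hv : ModBasis I f v) {B : Type*} [AddCommGroup B] [Module A B] (s : Finset ι) (b : ι → B)
    (hb : ∀ i ∈ s, ∀ p ∈ I, p • b i = 0)
    (h0 : ∑ i ∈ s, b i ⊗ₜ[A] v i = 0) : ∃ n : ℕ, ∀ i ∈ s, f ^ n • b i = 0 := by
  classical
  have h0' : ∑ i : ↥s, (fun i : ↥s => b i.1) i ⊗ₜ[A] (fun i : ↥s => v i.1) i = 0 := by
    rw [← h0]
    exact Finset.sum_coe_sort s (fun i => b i ⊗ₜ[A] v i)
  have hm : Function.Injective (LinearMap.rTensor A'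
      (Submodule.span A (Set.range (fun i : ↥s => b i.1))).subtype) :=
    Module.Flat.rTensor_preserves_injective_linearMap _ (Submodule.injective_subtype _)
  obtain ⟨k, a, y, hy, ha⟩ :=
    TensorProduct.vanishesTrivially_of_sum_tmul_eq_zero_of_rTensor_injective A hm h0'
  replace hy : ∀ i : ↥s, v i.1 = ∑ j, a i j • y j := hy
  replace ha : ∀ j, ∑ i : ↥s, a i j • b i.1 = 0 := ha
  obtain ⟨N, c, hc⟩ := hv.span_fin y
  refine ⟨N, fun i'' hi'' => ?_⟩
  -- the coefficient vectors
  let d : ↥s → ι →₀ A := fun i => f ^ N • Finsupp.single i.1 1 - ∑ j, a i j • c j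
  have hd : ∀ i : ↥s, Finsupp.linearCombination A v (d i) ∈ I.map (algebraMap A A') := by
    intro i
    have h1 : Finsupp.linearCombination A v (d i) =
        ∑ j, a i j • (f ^ N • y j - Finsupp.linearCombination A v (c j)) := by
      simp only [d, map_sub, map_smul, map_sum, Finsupp.linearCombination_single, one_smul,
        smul_sub, Finset.sum_sub_distrib]
      congr 1
      rw [hy i, Finset.smul_sum]
      refine Finset.sum_congr rfl fun j _ => ?_
      rw [smul_comm]
    rw [h1]
    refine Ideal.sum_mem _ fun j _ => ?_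
    rw [Algebra.smul_def]
    exact Ideal.mul_mem_left _ _ (hc j)
  have hdI : ∀ i : ↥s, d i i'' ∈ I := fun i => hv.li _ (hd i) i''
  have hsum0 : ∑ i : ↥s, (d i i'') • b i.1 = 0 :=
    Finset.sum_eq_zero fun i _ => hb i.1 i.2 _ (hdI i)
  have hexp : ∑ i : ↥s, (d i i'') • b i.1 = f ^ N • b i'' := by
    have h2 : ∀ i : ↥s, (d i i'') • b i.1 =
        (f ^ N * (Finsupp.single i.1 (1 : A)) i'') • b i.1 -
          ∑ j, (c j i'') • (a i j • b i.1) := by
      intro i
      simp only [d, Finsupp.sub_apply, Finsupp.smul_apply, Finsupp.finsetSum_apply, smul_eq_mul,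
        sub_smul, Finset.sum_smul]
      congr 1
      refine Finset.sum_congr rfl fun j _ => ?_
      rw [smul_smul, mul_comm]
    rw [Finset.sum_congr rfl (fun i _ => h2 i), Finset.sum_sub_distrib]
    have h3 : ∑ i : ↥s, ∑ j, (c j i'') • (a i j • b i.1) = 0 := by
      rw [Finset.sum_comm]
      refine Finset.sum_eq_zero fun j _ => ?_
      rw [← Finset.smul_sum, ha j, smul_zero]
    rw [h3, sub_zero]
    rw [Finset.sum_eq_single (⟨i'', hi''⟩ : ↥s)]
    · simp
    · intro i _ hne
      have : i.1 ≠ i'' := fun h => hne (Subtype.ext h)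
      rw [Finsupp.single_apply, if_neg this, mul_zero, zero_smul]
    · intro h; exact absurd (Finset.mem_univ _) h
  rw [← hexp, hsum0]

theorem exists_modBasis_of_freeAway {A : Type u} {A' : Type v} [CommRing A] [CommRing A']
    [Algebra A A']
    (I : Ideal A) (f : A)
    (h : FreeAway (A ⧸ I) (Ideal.Quotient.mk I f) (A' ⧸ I.map (algebraMap A A'))) :
    ∃ (ι : Type v) (v : ι → A'), ModBasis I f v := by
  classical
  obtain ⟨E, hE, hs⟩ := h
  have hsurj : Function.Surjective (Ideal.Quotient.mk (I.map (algebraMap A A'))) :=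
    Ideal.Quotient.mk_surjective
  let v : E → A' := fun e => Function.surjInv hsurj e.1
  have hv : ∀ e : E, Ideal.Quotient.mk (I.map (algebraMap A A')) (v e) = e.1 := fun e =>
    Function.surjInv_eq hsurj e.1
  -- image of a linear combination
  have hmk : ∀ c : E →₀ A, Ideal.Quotient.mk (I.map (algebraMap A A'))
      (Finsupp.linearCombination A v c) =
      Finsupp.linearCombination (A ⧸ I) ((↑) : E → A' ⧸ I.map (algebraMap A A'))
        (c.mapRange (Ideal.Quotient.mk I) (map_zero _)) := by
    intro c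
    induction c using Finsupp.induction_linear with
    | zero => simp
    | add c₁ c₂ h₁ h₂ =>
      rw [map_add, map_add, h₁, h₂, Finsupp.mapRange_add (by intro a b; exact map_add _ a b),
        map_add]
    | single e a =>
      rw [Finsupp.linearCombination_single, Finsupp.mapRange_single,
        Finsupp.linearCombination_single, Algebra.smul_def, map_mul, hv,
        Algebra.smul_def (Ideal.Quotient.mk I a)]
      rfl
  refine ⟨↥E, v, ⟨?_, ?_⟩⟩
  · intro c hc i
    rw [← Ideal.Quotient.eq_zero_iff_mem, hmk] at hc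
    have := (linearIndependent_iff.mp hE) _ hc
    have h1 := DFunLike.congr_fun this i
    rw [Finsupp.mapRange_apply, Finsupp.zero_apply] at h1
    exact Ideal.Quotient.eq_zero_iff_mem.mp h1
  · intro x
    obtain ⟨n, hn⟩ := hs (Ideal.Quotient.mk _ x)
    -- every element of the span lifts
    have key : ∀ y ∈ Submodule.span (A ⧸ I) (E : Set (A' ⧸ I.map (algebraMap A A'))),
        ∃ c : E →₀ A, Ideal.Quotient.mk (I.map (algebraMap A A'))
          (Finsupp.linearCombination A v c) = y := by
      intro y hy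
      induction hy using Submodule.span_induction with
      | mem y hy => exact ⟨Finsupp.single ⟨y, hy⟩ 1, by simp [hv]⟩
      | zero => exact ⟨0, by simp⟩
      | add y z _ _ hy hz =>
        obtain ⟨c₁, h₁⟩ := hy
        obtain ⟨c₂, h₂⟩ := hz
        exact ⟨c₁ + c₂, by rw [map_add, map_add, h₁, h₂]⟩
      | smul d y _ hy =>
        obtain ⟨c₁, h₁⟩ := hy
        obtain ⟨a, rfl⟩ := Ideal.Quotient.mk_surjective d
        refine ⟨a • c₁, ?_⟩
        rw [map_smul, Algebra.smul_def, map_mul, h₁, Algebra.smul_def,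
          Ideal.Quotient.algebraMap_quotient_map_quotient]
    obtain ⟨c, hc⟩ := key _ hn
    refine ⟨n, c, ?_⟩
    rw [← Ideal.Quotient.eq_zero_iff_mem, map_sub, hc, sub_eq_zero, Algebra.smul_def, map_mul,
      map_pow, Algebra.smul_def ((Ideal.Quotient.mk I) f ^ n),
      map_pow (algebraMap (A ⧸ I) (A' ⧸ I.map (algebraMap A A')))]
    rfl

theorem key_lemma {A A' : Type*} [CommRing A] [CommRing A'] [Algebra A A'] [Module.Flat A A']
    {I : Ideal A} (hI : I.FG) {f : A} {ι : Type*} {v : ι → A'} (hv : ModBasis I f v)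
    {J : Type*} (B : J → Type*) [∀ j, CommRing (B j)] [∀ j, Algebra A (B j)]
    (hsd : ∀ a : A, (∀ p ∈ I, p * a = 0) →
      (∀ j, ∃ n : ℕ, algebraMap A (B j) (f ^ n * a) = 0) → ∃ n : ℕ, f ^ n * a = 0)
    (t : A') (htI : ∀ p ∈ I, p • t = 0) (ht : ∀ j, (1 : B j) ⊗ₜ[A] t = 0) :
    ∃ n : ℕ, f ^ n • t = 0 := by
  classical
  obtain ⟨k, h, x, hh, rfl⟩ := exists_colon_decomp I hI t htI
  obtain ⟨n, c, hc⟩ := hv.span_fin x
  have hkill : ∀ l, ∀ z ∈ I.map (algebraMap A A'), h l • z = 0 := by
    intro l z hz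
    refine Submodule.span_induction (p := fun z _ => h l • z = 0) ?_ (by simp) ?_ ?_ hz
    · rintro _ ⟨p, hp, rfl⟩
      rw [Algebra.smul_def, ← map_mul, mul_comm, hh l p hp, map_zero]
    · intro u w _ _ hu hw; rw [smul_add, hu, hw, add_zero]
    · intro w u _ hu; rw [smul_comm, hu, smul_zero]
  let η : ι →₀ A := ∑ l, h l • c l
  have hη : f ^ n • ∑ l, h l • x l = Finsupp.linearCombination A v η := by
    simp only [η, map_sum, map_smul, Finset.smul_sum]
    refine Finset.sum_congr rfl fun l _ => ?_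
    have := hkill l _ (hc l)
    rw [smul_sub, sub_eq_zero] at this
    rw [smul_comm, this]
  have hηI : ∀ i, ∀ p ∈ I, p * η i = 0 := by
    intro i p hp
    simp only [η, Finsupp.finsetSum_apply, Finsupp.smul_apply, smul_eq_mul, Finset.mul_sum]
    refine Finset.sum_eq_zero fun l _ => ?_
    rw [← mul_assoc, hh l p hp, zero_mul]
  -- each member kills the coefficients up to a power of `f`
  have hj : ∀ j, ∃ m : ℕ, ∀ i ∈ η.support, algebraMap A (B j) (f ^ m * η i) = 0 := by
    intro j
    have h0 : ∑ i ∈ η.support, (algebraMap A (B j) (η i)) ⊗ₜ[A] v i = 0 := by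
      have h1 : (1 : B j) ⊗ₜ[A] (Finsupp.linearCombination A v η) = 0 := by
        rw [← hη, TensorProduct.tmul_smul, ht j, smul_zero]
      rw [Finsupp.linearCombination_apply, Finsupp.sum, TensorProduct.tmul_sum] at h1
      rw [← h1]
      refine Finset.sum_congr rfl fun i _ => ?_
      rw [TensorProduct.tmul_smul, TensorProduct.smul_tmul', Algebra.algebraMap_eq_smul_one]
    obtain ⟨m, hm⟩ := exists_pow_smul_eq_zero_of_sum_tmul hv η.support
      (fun i => algebraMap A (B j) (η i)) (fun i _ p hp => by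
        rw [Algebra.smul_def, ← map_mul, hηI i p hp, map_zero]) h0
    refine ⟨m, fun i hi => ?_⟩
    rw [map_mul, ← Algebra.smul_def]
    exact hm i hi
  choose m hm using hj
  have hi : ∀ i, ∃ r : ℕ, f ^ r * η i = 0 := by
    intro i
    by_cases his : i ∈ η.support
    · exact hsd (η i) (hηI i) (fun j => ⟨m j, hm j i his⟩)
    · exact ⟨0, by rw [Finsupp.notMem_support_iff.mp his, mul_zero]⟩
  choose r hr using hi
  refine ⟨∑ i ∈ η.support, r i + n, ?_⟩
  rw [pow_add, mul_smul, hη, ← map_smul]
  have : f ^ (∑ i ∈ η.support, r i) • η = 0 := by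
    ext i
    rw [Finsupp.smul_apply, Finsupp.zero_apply, smul_eq_mul]
    by_cases his : i ∈ η.support
    · have hle : r i ≤ ∑ i ∈ η.support, r i :=
        Finset.single_le_sum (f := r) (fun _ _ => Nat.zero_le _) his
      rw [← Nat.sub_add_cancel hle, pow_add, mul_assoc, hr i, mul_zero]
    · rw [Finsupp.notMem_support_iff.mp his, mul_zero]
  rw [this, map_zero]

set_option linter.style.haveILetI false in
/-- **Noetherian case.** `A` Noetherian, `A'` flat of finite type, `(B j)` a family of `A`-algebras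
which is schematically dominant on all principal opens.  Then `A' → ∏ B j ⊗ A'` is injective. -/
theorem noeth_claim {A : Type u} {A' : Type v} [CommRing A] [IsNoetherianRing A] [CommRing A']
    [Algebra A A'] [Module.Flat A A'] [Algebra.FiniteType A A']
    {J : Type*} (B : J → Type*) [∀ j, CommRing (B j)] [∀ j, Algebra A (B j)]
    (hsd : ∀ h a : A, (∀ j, ∃ n : ℕ, algebraMap A (B j) (h ^ n * a) = 0) →
      ∃ n : ℕ, h ^ n * a = 0)
    (t : A') (ht : ∀ j, (1 : B j) ⊗ₜ[A] t = 0) : t = 0 := by
  classical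
  by_contra hne
  have hx : (⟨t, Submodule.mem_span_singleton_self t⟩ : Submodule.span A ({t} : Set A')) ≠ 0 :=
    fun h => hne (congrArg Subtype.val h)
  obtain ⟨P, hP, -⟩ := exists_le_isAssociatedPrime_of_isNoetherianRing A _ hx
  rw [isAssociatedPrime_iff] at hP
  obtain ⟨hPprime, y, hy⟩ := hP
  obtain ⟨a, ha⟩ := Submodule.mem_span_singleton.mp y.2
  have hann : ∀ r : A, r ∈ P ↔ r • (a • t) = 0 := by
    intro r
    rw [hy, Submodule.mem_colon_singleton, Submodule.mem_bot, ha]
    constructor
    · intro h; exact congrArg Subtype.val h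
    · intro h; exact Subtype.ext h
  haveI := hPprime
  haveI : Algebra.FiniteType A (A' ⧸ P.map (algebraMap A A')) :=
    Algebra.FiniteType.of_surjective (Ideal.Quotient.mkₐ A (P.map (algebraMap A A')))
      (Ideal.Quotient.mkₐ_surjective A _)
  haveI : Algebra.FiniteType (A ⧸ P) (A' ⧸ P.map (algebraMap A A')) :=
    Algebra.FiniteType.of_restrictScalars_finiteType A _ _
  obtain ⟨fbar, hf0, hfree, -, -, -⟩ :=
    exists_freeAway (A ⧸ P) (A' ⧸ P.map (algebraMap A A')) (A' ⧸ P.map (algebraMap A A'))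
  obtain ⟨f, rfl⟩ := Ideal.Quotient.mk_surjective fbar
  have hfP : f ∉ P := fun h => hf0 (Ideal.Quotient.eq_zero_iff_mem.mpr h)
  obtain ⟨ι, v, hv⟩ := exists_modBasis_of_freeAway P f hfree
  obtain ⟨n, hn⟩ := key_lemma (IsNoetherian.noetherian P) hv B (fun a _ h => hsd f a h) (a • t)
    (fun p hp => (hann p).mp hp) (fun j => by rw [TensorProduct.tmul_smul, ht j, smul_zero])
  have : f ^ n ∈ P := (hann _).mpr hn
  exact hfP (hPprime.mem_of_pow_mem n this)

end Groth.Agent.Lib.Helper4.SchDom
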