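import Mathlib
import Groth.Agent.Lib.Helper4SchDomA
import Groth.Agent.Lib.Helper3FlatModel

/-!
# helper4: schematically dominant families under flat base change — ring level, general case

`general_claim`: `A'` flat of finite presentation over an arbitrary ring `A`, `(B j)` a family of
`A`-algebras schematically dominant on all principal opens ⇒ `A' → ∏ B j ⊗ A'` is injective.
Proof by Noetherian approximation (helper3 `exists_flat_model`) and `noeth_claim`.
-/

set_option autoImplicit false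
universe u v w
namespace Groth.Agent.Lib.Helper4.SchDom
open TensorProduct

set_option linter.style.haveILetI false in
theorem general_claim {A A' : Type u} [CommRing A] [CommRing A'] [Algebra A A'] [Module.Flat A A']
    [Algebra.FinitePresentation A A']
    {J : Type*} (B : J → Type*) [∀ j, CommRing (B j)] [∀ j, Algebra A (B j)]
    (hsd : ∀ h a : A, (∀ j, ∃ n : ℕ, algebraMap A (B j) (h ^ n * a) = 0) →
      ∃ n : ℕ, h ^ n * a = 0)
    (t : A') (ht : ∀ j, (1 : B j) ⊗ₜ[A] t = 0) : t = 0 := by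
  classical
  obtain ⟨A₀, A'₀, _, _, _, _, hft, hfp, hflat, ⟨e⟩⟩ :=
    Groth.Agent.Lib.Helper3.FlatOpen.exists_flat_model A A'
  obtain ⟨S, hS⟩ := TensorProduct.exists_finset (e.symm t)
  let A₁ : Subalgebra A₀ A := Algebra.adjoin A₀ ((S.image Prod.fst : Finset A) : Set A)
  have hmem : ∀ i ∈ S, i.1 ∈ A₁ := fun i hi =>
    Algebra.subset_adjoin (Finset.mem_coe.mpr (Finset.mem_image_of_mem _ hi))
  haveI : Algebra.FiniteType A₀ A₁ :=
    (Subalgebra.fg_iff_finiteType A₁).mp (Subalgebra.fg_adjoin_finset _)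
  haveI : Algebra.FiniteType ℤ A₁ := Algebra.FiniteType.trans hft inferInstance
  haveI : IsNoetherianRing A₁ := Algebra.FiniteType.isNoetherianRing ℤ A₁
  haveI : Algebra.FiniteType A₀ A'₀ := inferInstance
  -- the model element
  let t₁ : A₁ ⊗[A₀] A'₀ := ∑ i ∈ S.attach, (⟨i.1.1, hmem i.1 i.2⟩ : A₁) ⊗ₜ[A₀] i.1.2
  have ht₁ : LinearMap.rTensor A'₀ A₁.val.toLinearMap t₁ = e.symm t := by
    rw [hS, ← Finset.sum_attach S]
    simp only [t₁, map_sum, LinearMap.rTensor_tmul]
    rfl
  suffices h1 : t₁ = 0 by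
    rw [h1, map_zero] at ht₁
    have := congrArg e ht₁
    rw [map_zero, AlgEquiv.apply_symm_apply] at this
    exact this.symm
  refine noeth_claim (A := A₁) (A' := A₁ ⊗[A₀] A'₀) B ?_ t₁ ?_
  · intro h a hj
    obtain ⟨n, hn⟩ := hsd (h : A) (a : A) (fun j => by
      obtain ⟨n, hn⟩ := hj j
      exact ⟨n, hn⟩)
    exact ⟨n, Subtype.ext hn⟩
  · intro j
    letI : Algebra A₀ (B j) := ((algebraMap A (B j)).comp (algebraMap A₀ A)).toAlgebra
    haveI : IsScalarTower A₀ A (B j) := .of_algebraMap_eq' rfl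
    haveI : IsScalarTower A₀ A₁ (B j) := .of_algebraMap_eq' rfl
    let Ψ₁ := TensorProduct.AlgebraTensorModule.cancelBaseChange A₀ A₁ A₁ (B j) A'₀
    let Ψ₂ := TensorProduct.AlgebraTensorModule.cancelBaseChange A₀ A A (B j) A'₀
    have h2 : Ψ₂ ((1 : B j) ⊗ₜ[A] (e.symm t)) = Ψ₁ ((1 : B j) ⊗ₜ[A₁] t₁) := by
      rw [hS, ← Finset.sum_attach S]
      simp only [t₁, TensorProduct.tmul_sum, map_sum, Ψ₁, Ψ₂,
        TensorProduct.AlgebraTensorModule.cancelBaseChange_tmul]
      rfl
    have h3 : (1 : B j) ⊗ₜ[A] (e.symm t) = 0 := by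
      have := congrArg (LinearMap.lTensor (B j) e.symm.toLinearMap) (ht j)
      rw [LinearMap.lTensor_tmul, map_zero] at this
      exact this
    rw [h3, map_zero] at h2
    exact Ψ₁.injective (by rw [← h2, map_zero])

end Groth.Agent.Lib.Helper4.SchDom
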