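import Mathlib
import Groth.Agent.Lib.Helper4SchDomB

/-!
# helper4: flat l.f.p. base change of schematically dominant families (EGA IV 11.10.5 (ii))

* `eq_zero_of_locally_zero`, `tmul_eq_zero_of_isPushout`, `hsd_of_schematicallyDominant`.
* `schematicallyDominant_baseChange`: S4875.
-/

set_option autoImplicit false
universe u v w
namespace Groth.Agent.Lib.Helper4.SchDom
open TensorProduct CategoryTheory CategoryTheory.Limits AlgebraicGeometry

/-- A section vanishing locally vanishes. -/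
theorem eq_zero_of_locally_zero {X : Scheme.{u}} (V : X.Opens) (t : Γ(X, V))
    (h : ∀ x ∈ V, ∃ (W : X.Opens) (hWV : W ≤ V), x ∈ W ∧
      X.presheaf.map (homOfLE hWV).op t = 0) : t = 0 := by
  choose W hWV hxW hW using h
  refine X.sheaf.eq_of_locally_eq' (fun x : V => W x.1 x.2) V (fun x => homOfLE (hWV x.1 x.2))
    ?_ t 0 ?_
  · intro x hx
    exact TopologicalSpace.Opens.mem_iSup.mpr ⟨⟨x, hx⟩, hxW x hx⟩
  · intro x
    rw [map_zero]
    exact hW x.1 x.2

/-- Transfer from a pushout square of rings to the tensor product. -/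
theorem tmul_eq_zero_of_isPushout {A B A' B' : Type u} [CommRing A] [CommRing B] [CommRing A']
    [CommRing B'] [Algebra A B] [Algebra A A'] (χ : B →+* B') (ψ' : A' →+* B')
    (hpo : IsPushout (CommRingCat.ofHom (algebraMap A B)) (CommRingCat.ofHom (algebraMap A A'))
      (CommRingCat.ofHom χ) (CommRingCat.ofHom ψ')) (t : A') (ht : ψ' t = 0) :
    (1 : B) ⊗ₜ[A] t = 0 := by
  let e := (CommRingCat.isPushout_tensorProduct A B A').isoIsPushout _ _ hpo
  have h1 := (CommRingCat.isPushout_tensorProduct A B A').inr_isoIsPushout_hom _ _ hpo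
  have h2 : e.hom ((1 : B) ⊗ₜ[A] t) = ψ' t := congrArg (fun m => m.hom t) h1
  have hinj : Function.Injective e.hom :=
    (ConcreteCategory.bijective_of_isIso e.hom).injective
  apply hinj
  rw [h2, ht, map_zero]

/-- A schematically dominant family (on all opens) is dominant on principal opens of affine opens,
in the elementwise form. -/
theorem hsd_of_schematicallyDominant {X : Scheme.{u}} {ι : Type*} (Z : ι → Scheme.{u})
    (f : ∀ i, Z i ⟶ X)
    (h : ∀ (V : X.Opens) (t : Γ(X, V)), (∀ i, (f i).app V t = 0) → t = 0)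
    {U : X.Opens} (hU : IsAffineOpen U) (r a : Γ(X, U))
    (hj : ∀ (i : ι) (V : (Z i).Opens) (_ : IsAffineOpen V) (e : V ≤ f i ⁻¹ᵁ U),
      ∃ n : ℕ, (f i).appLE U V e (r ^ n * a) = 0) :
    ∃ n : ℕ, r ^ n * a = 0 := by
  apply exists_pow_mul_eq_zero_of_res_basicOpen_eq_zero_of_isAffineOpen X hU a r
  show X.presheaf.map (homOfLE (X.basicOpen_le r)).op a = 0
  apply h
  intro i
  refine eq_zero_of_locally_zero _ _ fun z hz => ?_
  have hz' : (f i) z ∈ X.basicOpen r := hz
  have hzU : z ∈ f i ⁻¹ᵁ U := X.basicOpen_le r hz'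
  obtain ⟨_, ⟨V, hV, rfl⟩, hzV, hVU'⟩ :=
    (Z i).isBasis_affineOpens.exists_subset_of_mem_open hzU (f i ⁻¹ᵁ U).isOpen
  have hVU : V ≤ f i ⁻¹ᵁ U := hVU'
  obtain ⟨n, hn⟩ := hj i V hV hVU
  have hW : (Z i).basicOpen ((f i).appLE U V hVU r) = V ⊓ f i ⁻¹ᵁ X.basicOpen r :=
    Scheme.basicOpen_appLE ..
  have hW1 : (Z i).basicOpen ((f i).appLE U V hVU r) ≤ f i ⁻¹ᵁ X.basicOpen r :=
    hW ▸ inf_le_right
  have hW2 : (Z i).basicOpen ((f i).appLE U V hVU r) ≤ V := hW ▸ inf_le_left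
  refine ⟨(Z i).basicOpen ((f i).appLE U V hVU r), hW1, hW ▸ ⟨hzV, hz'⟩, ?_⟩
  -- both restrictions are `appLE` to `W`
  have e1 : (Z i).presheaf.map (homOfLE hW1).op ((f i).app (X.basicOpen r)
      (X.presheaf.map (homOfLE (X.basicOpen_le r)).op a)) =
      (Z i).presheaf.map (homOfLE hW2).op ((f i).appLE U V hVU a) := by
    have h1 : X.presheaf.map (homOfLE (X.basicOpen_le r)).op ≫ (f i).app (X.basicOpen r) ≫
        (Z i).presheaf.map (homOfLE hW1).op =
        (f i).appLE U V hVU ≫ (Z i).presheaf.map (homOfLE hW2).op := by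
      rw [Scheme.Hom.app_eq_appLE, Scheme.Hom.appLE_map, Scheme.Hom.map_appLE,
        Scheme.Hom.appLE_map]
    exact congrArg (fun m => m.hom a) h1
  rw [e1]
  -- `ψ r` is a unit on `W`
  have hunit : IsUnit ((Z i).presheaf.map (homOfLE hW2).op ((f i).appLE U V hVU r)) :=
    RingedSpace.isUnit_res_basicOpen (Z i).toRingedSpace ((f i).appLE U V hVU r)
  have h2 := congrArg ((Z i).presheaf.map (homOfLE hW2).op) hn
  rw [map_mul, map_mul, map_pow, map_pow, map_zero] at h2
  exact (hunit.pow n).mul_right_eq_zero.mp h2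

set_option linter.style.haveILetI false in
/-- **Flat, locally finitely presented base change of a schematically dominant family**
(EGA IV 11.10.5 (ii)); no quasi-compactness or finiteness assumptions on the family. -/
theorem schematicallyDominant_baseChange {X X' : Scheme.{u}} {ι : Type*} (Z : ι → Scheme.{u})
    (f : ∀ i, Z i ⟶ X) (g : X' ⟶ X) [Flat g] [LocallyOfFinitePresentation g]
    (h : ∀ (V : X.Opens) (t : Γ(X, V)), (∀ i, (f i).app V t = 0) → t = 0) :
    ∀ (V : X'.Opens) (t : Γ(X', V)), (∀ i, (pullback.snd (f i) g).app V t = 0) → t = 0 := by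
  intro V' t' ht'
  refine eq_zero_of_locally_zero V' t' fun x' hx' => ?_
  obtain ⟨_, ⟨U, hU, rfl⟩, hxU, -⟩ :=
    X.isBasis_affineOpens.exists_subset_of_mem_open (Set.mem_univ (g x')) isOpen_univ
  have hx'' : x' ∈ V' ⊓ g ⁻¹ᵁ U := ⟨hx', hxU⟩
  obtain ⟨_, ⟨W', hW', rfl⟩, hxW, hWsub⟩ :=
    X'.isBasis_affineOpens.exists_subset_of_mem_open hx'' (V' ⊓ g ⁻¹ᵁ U).isOpen
  have hWV : W' ≤ V' := fun y hy => (hWsub hy).1
  have hWU : W' ≤ g ⁻¹ᵁ U := fun y hy => (hWsub hy).2
  refine ⟨W', hWV, hxW, ?_⟩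
  letI : Algebra Γ(X, U) Γ(X', W') := (g.appLE U W' hWU).hom.toAlgebra
  haveI : Module.Flat Γ(X, U) Γ(X', W') :=
    HasRingHomProperty.appLE (P := @Flat) g inferInstance ⟨U, hU⟩ ⟨W', hW'⟩ hWU
  haveI : Algebra.FinitePresentation Γ(X, U) Γ(X', W') :=
    HasRingHomProperty.appLE (P := @LocallyOfFinitePresentation) g inferInstance ⟨U, hU⟩
      ⟨W', hW'⟩ hWU
  let J := Σ i : ι, {V : (Z i).Opens // IsAffineOpen V ∧ V ≤ f i ⁻¹ᵁ U}
  letI : ∀ j : J, Algebra Γ(X, U) Γ(Z j.1, j.2.1) := fun j =>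
    ((f j.1).appLE U j.2.1 j.2.2.2).hom.toAlgebra
  refine general_claim (A := Γ(X, U)) (A' := Γ(X', W')) (fun j : J => Γ(Z j.1, j.2.1)) ?_ _ ?_
  · intro r a hj
    exact hsd_of_schematicallyDominant Z f h hU r a (fun i V hV e => hj ⟨i, V, hV, e⟩)
  · intro j
    have H : IsPullback (pullback.fst (f j.1) g) (pullback.snd (f j.1) g) (f j.1) g :=
      IsPullback.of_hasPullback _ _
    have hiso := isIso_pushoutSection_of_isAffineOpen H hWU j.2.2.2 rfl hU hW' j.2.2.1
    have hpo := (isIso_pushoutSection_iff H hWU j.2.2.2 rfl).mp hiso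
    refine tmul_eq_zero_of_isPushout (A := Γ(X, U)) (B := Γ(Z j.1, j.2.1)) (A' := Γ(X', W'))
      _ _ hpo _ ?_
    -- the image of `t'|W'` is the restriction of the pullback of `t'`
    have e1 : X'.presheaf.map (homOfLE hWV).op ≫ (pullback.snd (f j.1) g).appLE W'
        (pullback.fst (f j.1) g ⁻¹ᵁ j.2.1 ⊓ pullback.snd (f j.1) g ⁻¹ᵁ W') inf_le_right =
        (pullback.snd (f j.1) g).app V' ≫ (pullback (f j.1) g).presheaf.map (homOfLE
          (inf_le_right.trans ((pullback.snd (f j.1) g).preimage_mono hWV))).op := by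
      rw [Scheme.Hom.map_appLE, Scheme.Hom.app_eq_appLE, Scheme.Hom.appLE_map]
    have e2 := congrArg (fun m => m.hom t') e1
    simp only [CommRingCat.hom_comp, RingHom.comp_apply] at e2
    rw [ht' j.1, map_zero] at e2
    exact e2

end Groth.Agent.Lib.Helper4.SchDom
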