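import Mathlib
import Groth.Agent.Lib.Helper4SchDomC
import Groth.Agent.Lib.Helper22IdealComap

/-!
# helper4: base change of schematically dominant families over a field (EGA IV 11.10.6)

* `general_claim_away`: version of `general_claim` on a principal open of `Spec A'`.
* `exists_fg_subalgebra_mem_range`, `field_claim_tensor`, `field_claim`: over a field `k`, for an
  arbitrary `k`-algebra `C`, the kernel of `(A ⊗ C)_s → ∏ (B_j ⊗ C)_s` is zero.
* `isAffineOpen_box`, `isPushout_sections_box`.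
* `schematicallyDominant_baseChange_field`: S4877.
-/

set_option autoImplicit false
universe u v w
namespace Groth.Agent.Lib.Helper4.SchDom
open TensorProduct CategoryTheory CategoryTheory.Limits AlgebraicGeometry

set_option linter.style.haveILetI false in
/-- Version of `general_claim` on a principal open of `Spec A'`. -/
theorem general_claim_away {A A' : Type u} [CommRing A] [CommRing A'] [Algebra A A']
    [Module.Flat A A'] [Algebra.FinitePresentation A A']
    {J : Type*} (B : J → Type*) [∀ j, CommRing (B j)] [∀ j, Algebra A (B j)]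
    (hsd : ∀ h a : A, (∀ j, ∃ n : ℕ, algebraMap A (B j) (h ^ n * a) = 0) →
      ∃ n : ℕ, h ^ n * a = 0)
    (s a' : A') (h : ∀ j, ∃ M : ℕ, (1 : B j) ⊗ₜ[A] (s ^ M * a') = 0) :
    ∃ M : ℕ, s ^ M * a' = 0 := by
  haveI : Module.Flat A' (Localization.Away s) := IsLocalization.flat _ (Submonoid.powers s)
  haveI : Module.Flat A (Localization.Away s) := Module.Flat.trans A A' _
  haveI : Algebra.FinitePresentation A' (Localization.Away s) :=
    IsLocalization.Away.finitePresentation s
  haveI : Algebra.FinitePresentation A (Localization.Away s) :=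
    Algebra.FinitePresentation.trans A A' _
  have key : algebraMap A' (Localization.Away s) a' = 0 := by
    refine general_claim (A := A) (A' := Localization.Away s) B hsd _ fun j => ?_
    obtain ⟨M, hM⟩ := h j
    have h1 := congrArg (LinearMap.lTensor (B j)
      (IsScalarTower.toAlgHom A A' (Localization.Away s)).toLinearMap) hM
    rw [LinearMap.lTensor_tmul, map_zero] at h1
    have h1' : (1 : B j) ⊗ₜ[A] (algebraMap A' (Localization.Away s) s ^ M *
        algebraMap A' (Localization.Away s) a') = 0 := by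
      rw [← map_pow, ← map_mul]
      exact h1
    have hu : IsUnit (algebraMap A' (Localization.Away s) s) :=
      IsLocalization.Away.algebraMap_isUnit s
    obtain ⟨u, hu⟩ := hu
    have h2 : ((1 : B j) ⊗ₜ[A] ((↑(u⁻¹) : Localization.Away s) ^ M)) *
        ((1 : B j) ⊗ₜ[A] (algebraMap A' (Localization.Away s) s ^ M *
          algebraMap A' (Localization.Away s) a')) =
        (1 : B j) ⊗ₜ[A] (algebraMap A' (Localization.Away s) a') := by
      rw [Algebra.TensorProduct.tmul_mul_tmul, one_mul, ← mul_assoc, ← mul_pow, ← hu,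
        Units.inv_mul, one_pow, one_mul]
    rw [← h2, h1', mul_zero]
  rw [IsLocalization.map_eq_zero_iff (Submonoid.powers s)] at key
  obtain ⟨⟨_, M, rfl⟩, hM⟩ := key
  exact ⟨M, hM⟩

/-- Every element of `A ⊗ C` comes from `A ⊗ C₀` for a finitely generated subalgebra `C₀`. -/
theorem exists_fg_subalgebra_mem_range {k : Type u} [Field k] {A C : Type u} [CommRing A]
    [CommRing C] [Algebra k A] [Algebra k C] (S : Finset (A ⊗[k] C)) :
    ∃ C₀ : Subalgebra k C, C₀.FG ∧ ∀ x ∈ S,
      x ∈ Set.range (Algebra.TensorProduct.map (AlgHom.id k A) C₀.val) := by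
  classical
  choose F hF using fun x : A ⊗[k] C => TensorProduct.exists_finset x
  let T : Finset C := S.biUnion fun x => (F x).image Prod.snd
  refine ⟨Algebra.adjoin k (T : Set C), Subalgebra.fg_adjoin_finset T, fun x hx => ?_⟩
  have hmem : ∀ i ∈ F x, i.2 ∈ Algebra.adjoin k (T : Set C) := fun i hi =>
    Algebra.subset_adjoin (Finset.mem_coe.mpr (Finset.mem_biUnion.mpr
      ⟨x, hx, Finset.mem_image_of_mem _ hi⟩))
  refine ⟨∑ i ∈ (F x).attach, i.1.1 ⊗ₜ[k] (⟨i.1.2, hmem i.1 i.2⟩ : Algebra.adjoin k (T : Set C)),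
    ?_⟩
  rw [map_sum]
  conv_rhs => rw [hF x, ← Finset.sum_attach]
  refine Finset.sum_congr rfl fun i _ => ?_
  rw [Algebra.TensorProduct.map_tmul]
  rfl

set_option linter.style.haveILetI false in
/-- **Field case, tensor form.** -/
theorem field_claim_tensor {k : Type u} [Field k] {A C : Type u} [CommRing A] [CommRing C]
    [Algebra k A] [Algebra k C]
    {J : Type*} (B : J → Type u) [∀ j, CommRing (B j)] [∀ j, Algebra A (B j)]
    [∀ j, Algebra k (B j)] [∀ j, IsScalarTower k A (B j)]
    (hsd : ∀ h a : A, (∀ j, ∃ n : ℕ, algebraMap A (B j) (h ^ n * a) = 0) →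
      ∃ n : ℕ, h ^ n * a = 0)
    (s a' : A ⊗[k] C)
    (h : ∀ j, ∃ M : ℕ, Algebra.TensorProduct.map (IsScalarTower.toAlgHom k A (B j))
      (AlgHom.id k C) (s ^ M * a') = 0) :
    ∃ M : ℕ, s ^ M * a' = 0 := by
  classical
  obtain ⟨C₀, hC₀, hmem⟩ := exists_fg_subalgebra_mem_range (k := k) ({s, a'} : Finset (A ⊗[k] C))
  obtain ⟨s₀, hs₀⟩ := hmem s (by simp)
  obtain ⟨a₀, ha₀⟩ := hmem a' (by simp)
  haveI : Algebra.FiniteType k C₀ := (Subalgebra.fg_iff_finiteType C₀).mp hC₀
  haveI : Algebra.FinitePresentation k C₀ := Algebra.FinitePresentation.of_finiteType.mp inferInstance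
  -- injectivity of the inclusions
  have hinj : ∀ (D : Type u) [CommRing D] [Algebra k D],
      Function.Injective (Algebra.TensorProduct.map (AlgHom.id k D) C₀.val) := by
    intro D _ _
    have h1 : ⇑(Algebra.TensorProduct.map (AlgHom.id k D) C₀.val) =
        ⇑(LinearMap.lTensor D C₀.val.toLinearMap) := by
      ext x
      induction x using TensorProduct.induction_on with
      | zero => simp
      | tmul a c => simp
      | add x y hx hy => rw [map_add, map_add, hx, hy]
    rw [h1]
    exact Module.Flat.lTensor_preserves_injective_linearMap _ Subtype.val_injective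
  obtain ⟨M, hM⟩ := general_claim_away (A := A) (A' := A ⊗[k] C₀) B hsd s₀ a₀ (fun j => by
    obtain ⟨M, hM⟩ := h j
    refine ⟨M, ?_⟩
    -- naturality
    have hnat : (Algebra.TensorProduct.map (AlgHom.id k (B j)) C₀.val).comp
        (Algebra.TensorProduct.map (IsScalarTower.toAlgHom k A (B j)) (AlgHom.id k C₀)) =
        (Algebra.TensorProduct.map (IsScalarTower.toAlgHom k A (B j)) (AlgHom.id k C)).comp
          (Algebra.TensorProduct.map (AlgHom.id k A) C₀.val) := by
      rw [← Algebra.TensorProduct.map_comp, ← Algebra.TensorProduct.map_comp]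
      rfl
    have h1 : Algebra.TensorProduct.map (IsScalarTower.toAlgHom k A (B j)) (AlgHom.id k C₀)
        (s₀ ^ M * a₀) = 0 := by
      apply hinj (B j)
      have := congrArg (fun m => m (s₀ ^ M * a₀)) hnat
      simp only [AlgHom.comp_apply] at this
      rw [this, map_mul, map_pow, hs₀, ha₀, hM, map_zero]
    -- transfer along `cancelBaseChange`
    let Ψ := TensorProduct.AlgebraTensorModule.cancelBaseChange k A A (B j) C₀
    have hΨ : ∀ x : A ⊗[k] C₀, Ψ ((1 : B j) ⊗ₜ[A] x) =
        Algebra.TensorProduct.map (IsScalarTower.toAlgHom k A (B j)) (AlgHom.id k C₀) x := by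
      intro x
      induction x using TensorProduct.induction_on with
      | zero => simp
      | tmul a c =>
        simp only [Ψ, TensorProduct.AlgebraTensorModule.cancelBaseChange_tmul,
          Algebra.TensorProduct.map_tmul, IsScalarTower.coe_toAlgHom', AlgHom.coe_id, id_eq,
          Algebra.algebraMap_eq_smul_one]
      | add x y hx hy => rw [TensorProduct.tmul_add, map_add, map_add, hx, hy]
    apply Ψ.injective
    rw [hΨ, h1, map_zero])
  refine ⟨M, ?_⟩
  have := congrArg (Algebra.TensorProduct.map (AlgHom.id k A) C₀.val) hM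
  rwa [map_mul, map_pow, hs₀, ha₀, map_zero] at this

set_option linter.style.haveILetI false in
/-- **Field case, pushout form.** -/
theorem field_claim {k : Type u} [Field k] {A C R : CommRingCat.{u}}
    (rA : CommRingCat.of k ⟶ A) (rC : CommRingCat.of k ⟶ C) (φ : A ⟶ R) (γ : C ⟶ R)
    (hR : IsPushout rA rC φ γ)
    {J : Type*} (B R' : J → CommRingCat.{u}) (ψ : ∀ j, A ⟶ B j) (χ : ∀ j, B j ⟶ R' j)
    (γ' : ∀ j, C ⟶ R' j) (hR' : ∀ j, IsPushout (rA ≫ ψ j) rC (χ j) (γ' j))
    (ψ' : ∀ j, R ⟶ R' j) (h1 : ∀ j, φ ≫ ψ' j = ψ j ≫ χ j) (h2 : ∀ j, γ ≫ ψ' j = γ' j)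
    (hsd : ∀ r a : A, (∀ j, ∃ n : ℕ, (ψ j).hom (r ^ n * a) = 0) → ∃ n : ℕ, r ^ n * a = 0)
    (s a' : R) (h : ∀ j, ∃ M : ℕ, (ψ' j).hom (s ^ M * a') = 0) : ∃ M : ℕ, s ^ M * a' = 0 := by
  letI : Algebra k A := rA.hom.toAlgebra
  letI : Algebra k C := rC.hom.toAlgebra
  letI : ∀ j, Algebra A (B j) := fun j => (ψ j).hom.toAlgebra
  letI : ∀ j, Algebra k (B j) := fun j => (rA ≫ ψ j).hom.toAlgebra
  haveI : ∀ j, IsScalarTower k A (B j) := fun j => .of_algebraMap_eq' rfl
  have hT := CommRingCat.isPushout_tensorProduct k A C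
  have hTj := fun j => CommRingCat.isPushout_tensorProduct k (B j) C
  let e := hT.isoIsPushout _ _ hR
  let ej := fun j => (hTj j).isoIsPushout _ _ (hR' j)
  have he1 : CommRingCat.ofHom (Algebra.TensorProduct.includeLeftRingHom (R := k) (A := A)
      (B := C)) ≫ e.hom = φ := hT.inl_isoIsPushout_hom _ _ hR
  have he2 : CommRingCat.ofHom (Algebra.TensorProduct.includeRight (R := k) (A := A)
      (B := C)).toRingHom ≫ e.hom = γ := hT.inr_isoIsPushout_hom _ _ hR
  have hej1 : ∀ j, CommRingCat.ofHom (Algebra.TensorProduct.includeLeftRingHom (R := k)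
      (A := B j) (B := C)) ≫ (ej j).hom = χ j := fun j => (hTj j).inl_isoIsPushout_hom _ _ (hR' j)
  have hej2 : ∀ j, CommRingCat.ofHom (Algebra.TensorProduct.includeRight (R := k) (A := B j)
      (B := C)).toRingHom ≫ (ej j).hom = γ' j := fun j => (hTj j).inr_isoIsPushout_hom _ _ (hR' j)
  -- compatibility of the two isomorphisms
  have hcomp : ∀ j, e.hom ≫ ψ' j = CommRingCat.ofHom (Algebra.TensorProduct.map
      (IsScalarTower.toAlgHom k A (B j)) (AlgHom.id k C)).toRingHom ≫ (ej j).hom := by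
    intro j
    apply hT.hom_ext
    · rw [← Category.assoc, he1, h1 j, ← hej1 j, ← Category.assoc, ← Category.assoc]
      congr 1
    · rw [← Category.assoc, he2, h2 j, ← hej2 j, ← Category.assoc]
      congr 1
      ext c
      simp
  obtain ⟨M, hM⟩ := field_claim_tensor (k := k) (A := A) (C := C) (fun j => B j) hsd
    (e.inv s) (e.inv a') (fun j => by
      obtain ⟨M, hM⟩ := h j
      refine ⟨M, ?_⟩
      have hinj : Function.Injective (ej j).hom :=
        (ConcreteCategory.bijective_of_isIso (ej j).hom).injective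
      apply hinj
      have h3 := congrArg (fun m => m.hom (e.inv s ^ M * e.inv a')) (hcomp j)
      simp only [CommRingCat.hom_comp, RingHom.comp_apply] at h3
      rw [map_zero]
      refine Eq.trans h3.symm ?_
      rw [map_mul, map_pow]
      have hs : e.hom (e.inv s) = s := by
        rw [← CommRingCat.comp_apply, Iso.inv_hom_id, CommRingCat.id_apply]
      have ha : e.hom (e.inv a') = a' := by
        rw [← CommRingCat.comp_apply, Iso.inv_hom_id, CommRingCat.id_apply]
      rw [hs, ha]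
      exact hM)
  refine ⟨M, ?_⟩
  have := congrArg e.hom hM
  rw [map_mul, map_pow, map_zero] at this
  have hs : e.hom (e.inv s) = s := by
    rw [← CommRingCat.comp_apply, Iso.inv_hom_id, CommRingCat.id_apply]
  have ha : e.hom (e.inv a') = a' := by
    rw [← CommRingCat.comp_apply, Iso.inv_hom_id, CommRingCat.id_apply]
  rwa [hs, ha] at this

set_option backward.isDefEq.respectTransparency.types false in
/-- In a pullback square, the "box" over three compatible affine opens is affine. -/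
theorem isAffineOpen_box {X Y S T : Scheme.{u}} {f : T ⟶ S} {g : Y ⟶ X} {iX : X ⟶ S}
    {iY : Y ⟶ T} (H : IsPullback g iY iX f) {US : S.Opens} {UT : T.Opens} {UX : X.Opens}
    (hUST : UT ≤ f ⁻¹ᵁ US) (hUSX : UX ≤ iX ⁻¹ᵁ US) (hUS : IsAffineOpen US)
    (hUT : IsAffineOpen UT) (hUX : IsAffineOpen UX) :
    IsAffineOpen (g ⁻¹ᵁ UX ⊓ iY ⁻¹ᵁ UT) := by
  have : IsAffine _ := hUS
  have : IsAffine _ := hUT
  have : IsAffine _ := hUX
  exact .of_isIso (Scheme.Hom.isPullback_resLE H hUST hUSX rfl).isoPullback.hom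

/-- Sections over a box of `T ×_k S'` form the pushout (tensor product over `k`). -/
theorem isPushout_sections_box {k : Type u} [Field k] {T S' : Scheme.{u}}
    (t : T ⟶ Spec (CommRingCat.of k)) (q : S' ⟶ Spec (CommRingCat.of k))
    {U : T.Opens} (hU : IsAffineOpen U) {W : S'.Opens} (hW : IsAffineOpen W) :
    IsPushout ((Scheme.ΓSpecIso (CommRingCat.of k)).inv ≫ t.appLE ⊤ U le_top)
      ((Scheme.ΓSpecIso (CommRingCat.of k)).inv ≫ q.appLE ⊤ W le_top)
      ((pullback.fst t q).appLE U (pullback.fst t q ⁻¹ᵁ U ⊓ pullback.snd t q ⁻¹ᵁ W) inf_le_left)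
      ((pullback.snd t q).appLE W (pullback.fst t q ⁻¹ᵁ U ⊓ pullback.snd t q ⁻¹ᵁ W)
        inf_le_right) := by
  have H : IsPullback (pullback.fst t q) (pullback.snd t q) t q := IsPullback.of_hasPullback t q
  have hUST : W ≤ q ⁻¹ᵁ ⊤ := le_top
  have hUSX : U ≤ t ⁻¹ᵁ ⊤ := le_top
  have hiso := isIso_pushoutSection_of_isAffineOpen H hUST hUSX rfl (isAffineOpen_top _) hW hU
  have hpo := (isIso_pushoutSection_iff H hUST hUSX rfl).mp hiso
  refine hpo.of_iso (Scheme.ΓSpecIso (CommRingCat.of k)) (Iso.refl _) (Iso.refl _) (Iso.refl _)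
    ?_ ?_ ?_ ?_
  · simp
  · simp
  · simp
  · simp

open Groth.Agent.Lib.Helper22.IdealComap in
set_option linter.style.haveILetI false in
/-- **Base change of a schematically dominant family of `k`-schemes along an arbitrary
`k`-scheme** (EGA IV 11.10.6). -/
theorem schematicallyDominant_baseChange_field {k : Type u} [Field k] {X S' : Scheme.{u}}
    (p : X ⟶ Spec (CommRingCat.of k)) (q : S' ⟶ Spec (CommRingCat.of k))
    {ι : Type*} (Z : ι → Scheme.{u}) (f : ∀ i, Z i ⟶ X)
    (h : ∀ (V : X.Opens) (t : Γ(X, V)), (∀ i, (f i).app V t = 0) → t = 0) :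
    ∀ (V : (pullback p q).Opens) (t : Γ(pullback p q, V)),
      (∀ i, (pullback.map (f i ≫ p) q p q (f i) (𝟙 S') (𝟙 _) (Category.comp_id _)
        ((Category.comp_id _).trans (Category.id_comp _).symm)).app V t = 0) → t = 0 := by
  intro V t ht
  set F : ∀ i, pullback (f i ≫ p) q ⟶ pullback p q := fun i =>
    pullback.map (f i ≫ p) q p q (f i) (𝟙 S') (𝟙 _) (Category.comp_id _)
        ((Category.comp_id _).trans (Category.id_comp _).symm) with hF
  have hF1 : ∀ i, F i ≫ pullback.fst p q = pullback.fst (f i ≫ p) q ≫ f i :=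
    fun i => pullback.lift_fst _ _ _
  have hF2 : ∀ i, F i ≫ pullback.snd p q = pullback.snd (f i ≫ p) q := fun i => by
    rw [hF]
    simp only [pullback.map]
    rw [pullback.lift_snd, Category.comp_id]
  refine eq_zero_of_locally_zero V t fun x' hx' => ?_
  obtain ⟨_, ⟨U, hU, rfl⟩, hxU, -⟩ := X.isBasis_affineOpens.exists_subset_of_mem_open
    (Set.mem_univ (pullback.fst p q x')) isOpen_univ
  obtain ⟨_, ⟨T, hT, rfl⟩, hxT, -⟩ := S'.isBasis_affineOpens.exists_subset_of_mem_open
    (Set.mem_univ (pullback.snd p q x')) isOpen_univ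
  have H : IsPullback (pullback.fst p q) (pullback.snd p q) p q := IsPullback.of_hasPullback p q
  have hP : IsAffineOpen (pullback.fst p q ⁻¹ᵁ U ⊓ pullback.snd p q ⁻¹ᵁ T) :=
    isAffineOpen_box H (US := ⊤) le_top le_top (isAffineOpen_top _) hT hU
  set P := pullback.fst p q ⁻¹ᵁ U ⊓ pullback.snd p q ⁻¹ᵁ T with hPdef
  have hxP : x' ∈ P := ⟨hxU, hxT⟩
  obtain ⟨s, hsV, hxs⟩ := hP.exists_basicOpen_le (V := V) ⟨x', hx'⟩ hxP
  refine ⟨(pullback p q).basicOpen s, hsV, hxs, ?_⟩
  -- write `t|D(s)` as a fraction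
  have hloc := hP.isLocalization_basicOpen s
  obtain ⟨⟨a', ⟨_, N, rfl⟩⟩, hN⟩ := IsLocalization.surj (Submonoid.powers s)
    ((pullback p q).presheaf.map (homOfLE hsV).op t)
  replace hN : (pullback p q).presheaf.map (homOfLE hsV).op t *
      (pullback p q).presheaf.map (homOfLE ((pullback p q).basicOpen_le s)).op (s ^ N) =
      (pullback p q).presheaf.map (homOfLE ((pullback p q).basicOpen_le s)).op a' := hN
  have hunit : IsUnit ((pullback p q).presheaf.map
      (homOfLE ((pullback p q).basicOpen_le s)).op s) :=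
    RingedSpace.isUnit_res_basicOpen (pullback p q).toRingedSpace s
  suffices hM : ∃ M : ℕ, s ^ M * a' = 0 by
    obtain ⟨M, hM⟩ := hM
    have h3 := congrArg ((pullback p q).presheaf.map
      (homOfLE ((pullback p q).basicOpen_le s)).op) hM
    rw [map_mul, ← hN, map_pow, map_pow, map_zero, ← mul_assoc, mul_comm _
      ((pullback p q).presheaf.map (homOfLE hsV).op t), mul_assoc, ← pow_add] at h3
    exact (hunit.pow (M + N)).mul_left_eq_zero.mp h3
  -- apply the ring-level claim
  let J := Σ i : ι, {VZ : (Z i).Opens // IsAffineOpen VZ ∧ VZ ≤ f i ⁻¹ᵁ U}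
  let PJ : ∀ j : J, (pullback (f j.1 ≫ p) q).Opens := fun j =>
    pullback.fst (f j.1 ≫ p) q ⁻¹ᵁ j.2.1 ⊓ pullback.snd (f j.1 ≫ p) q ⁻¹ᵁ T
  have hPJ : ∀ j : J, IsAffineOpen (PJ j) := fun j =>
    isAffineOpen_box (IsPullback.of_hasPullback (f j.1 ≫ p) q) (US := ⊤) le_top le_top
      (isAffineOpen_top _) hT j.2.2.1
  have hle : ∀ j : J, PJ j ≤ F j.1 ⁻¹ᵁ P := fun j => by
    rw [hPdef, Scheme.Hom.preimage_inf, ← Scheme.Hom.comp_preimage, ← Scheme.Hom.comp_preimage,
      hF1, hF2, Scheme.Hom.comp_preimage]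
    exact inf_le_inf ((pullback.fst (f j.1 ≫ p) q).preimage_mono j.2.2.2) le_rfl
  refine field_claim (k := k)
    ((Scheme.ΓSpecIso (CommRingCat.of k)).inv ≫ p.appLE ⊤ U le_top)
    ((Scheme.ΓSpecIso (CommRingCat.of k)).inv ≫ q.appLE ⊤ T le_top)
    ((pullback.fst p q).appLE U P inf_le_left) ((pullback.snd p q).appLE T P inf_le_right)
    (isPushout_sections_box p q hU hT) (J := J)
    (fun j => Γ(Z j.1, j.2.1)) (fun j => Γ(pullback (f j.1 ≫ p) q, PJ j))
    (fun j => (f j.1).appLE U j.2.1 j.2.2.2)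
    (fun j => (pullback.fst (f j.1 ≫ p) q).appLE j.2.1 (PJ j) inf_le_left)
    (fun j => (pullback.snd (f j.1 ≫ p) q).appLE T (PJ j) inf_le_right)
    ?_ (fun j => (F j.1).appLE P (PJ j) (hle j)) ?_ ?_ ?_ s a' ?_
  · intro j
    have := isPushout_sections_box (f j.1 ≫ p) q j.2.2.1 hT
    have e : (Scheme.ΓSpecIso (CommRingCat.of k)).inv ≫ (f j.1 ≫ p).appLE ⊤ j.2.1 le_top =
        ((Scheme.ΓSpecIso (CommRingCat.of k)).inv ≫ p.appLE ⊤ U le_top) ≫
          (f j.1).appLE U j.2.1 j.2.2.2 := by
      rw [Category.assoc]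
      congr 1
      exact ((Scheme.Hom.appLE_comp_appLE _ _ _ _ _ _ _).symm)
    rw [e] at this
    exact this
  · intro j
    refine (Scheme.Hom.appLE_comp_appLE _ _ _ _ _ _ _).trans
      (Eq.trans ?_ (Scheme.Hom.appLE_comp_appLE _ _ _ _ _ _ _).symm)
    exact appLE_congr_hom (hF1 j.1) _ _ _
  · intro j
    exact (Scheme.Hom.appLE_comp_appLE _ _ _ _ _ _ _).trans (appLE_congr_hom (hF2 j.1) _ _ _)
  · intro r a hj
    exact hsd_of_schematicallyDominant Z f h hU r a (fun i VZ hVZ e => hj ⟨i, VZ, hVZ, e⟩)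
  · intro j
    -- vanishing on the basic open of the image of `s`
    have hres : (pullback (f j.1 ≫ p) q).presheaf.map (homOfLE
        ((pullback (f j.1 ≫ p) q).basicOpen_le ((F j.1).appLE P (PJ j) (hle j) s))).op
        ((F j.1).appLE P (PJ j) (hle j) a') = 0 := by
      have hQ : (pullback (f j.1 ≫ p) q).basicOpen ((F j.1).appLE P (PJ j) (hle j) s) =
          PJ j ⊓ F j.1 ⁻¹ᵁ (pullback p q).basicOpen s := Scheme.basicOpen_appLE ..
      have hQ1 : (pullback (f j.1 ≫ p) q).basicOpen ((F j.1).appLE P (PJ j) (hle j) s) ≤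
          F j.1 ⁻¹ᵁ (pullback p q).basicOpen s := hQ ▸ inf_le_right
      have e1 : (F j.1).appLE P (PJ j) (hle j) ≫ (pullback (f j.1 ≫ p) q).presheaf.map (homOfLE
          ((pullback (f j.1 ≫ p) q).basicOpen_le ((F j.1).appLE P (PJ j) (hle j) s))).op =
          (pullback p q).presheaf.map (homOfLE ((pullback p q).basicOpen_le s)).op ≫
            (F j.1).appLE ((pullback p q).basicOpen s) _ hQ1 := by
        rw [Scheme.Hom.appLE_map, Scheme.Hom.map_appLE]
      have e2 : (pullback p q).presheaf.map (homOfLE hsV).op ≫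
          (F j.1).appLE ((pullback p q).basicOpen s) _ hQ1 =
          (F j.1).app V ≫ (pullback (f j.1 ≫ p) q).presheaf.map (homOfLE
            (hQ1.trans ((F j.1).preimage_mono hsV))).op := by
        rw [Scheme.Hom.map_appLE, Scheme.Hom.app_eq_appLE, Scheme.Hom.appLE_map]
      have e1' := congrArg (fun m => m.hom a') e1
      have e2' := congrArg (fun m => m.hom t) e2
      simp only [CommRingCat.hom_comp, RingHom.comp_apply] at e1' e2'
      rw [ht j.1, map_zero] at e2'
      rw [e1', ← hN, map_mul, e2', zero_mul]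
    obtain ⟨n, hn⟩ := exists_pow_mul_eq_zero_of_res_basicOpen_eq_zero_of_isAffineOpen _ (hPJ j)
      ((F j.1).appLE P (PJ j) (hle j) a') ((F j.1).appLE P (PJ j) (hle j) s) hres
    exact ⟨n, by rw [map_mul, map_pow]; exact hn⟩

end Groth.Agent.Lib.Helper4.SchDom
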