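import Mathlib
import Groth.Agent.Lib.Helper4SchDomD
import Groth.Agent.Lib.Helper4UnivSchDomB
/-!
# helper4: universally schematically dominant families — ring level, general base change

* `hsd_transport`: transport of the exponent form of schematic dominance along injective ring maps.
* `SD_field_desc`, `SD_field_ext`, `SD_cancel`: `SD C ψ K` under field extensions / change of base.
* `SD_of_finiteType`, `SD_univ`: for `A` Noetherian and the `B j` flat over `C`, `SD` at the residue
  fields of all primes of `C` implies `SD` for every `C`-algebra (EGA IV 11.10.9, ring level).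
* `SD_residueField_of_ker`: the residue field may be replaced by any field with the right kernel.
-/

set_option autoImplicit false
universe u v w
namespace Groth.Agent.Lib.Helper4.UnivSchDom
open TensorProduct
open Groth.Agent.Lib.Helper4.SchDom

/-- transport of the "hsd" property along an injective ring hom. -/
theorem hsd_transport {A₁ A₂ : Type*} [CommRing A₁] [CommRing A₂] {J : Type*} {B₁ B₂ : J → Type*}
    [∀ j, CommRing (B₁ j)] [∀ j, CommRing (B₂ j)]
    (ψ₁ : ∀ j, A₁ →+* B₁ j) (ψ₂ : ∀ j, A₂ →+* B₂ j) (eA : A₂ →+* A₁) (heA : Function.Injective eA)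
    (eB : ∀ j, B₂ j →+* B₁ j) (hcomm : ∀ j x, ψ₁ j (eA x) = eB j (ψ₂ j x))
    (H : ∀ h a : A₁, (∀ j, ∃ n : ℕ, ψ₁ j (h ^ n * a) = 0) → ∃ n : ℕ, h ^ n * a = 0)
    (h a : A₂) (ha : ∀ j, ∃ n : ℕ, ψ₂ j (h ^ n * a) = 0) : ∃ n : ℕ, h ^ n * a = 0 := by
  obtain ⟨n, hn⟩ := H (eA h) (eA a) (fun j => by
    obtain ⟨n, hn⟩ := ha j
    refine ⟨n, ?_⟩
    rw [← map_pow, ← map_mul, hcomm, hn, map_zero])
  refine ⟨n, heA ?_⟩
  rw [map_mul, map_pow, hn, map_zero]

section
variable {C : Type u} [CommRing C] {A : Type u} [CommRing A] [Algebra C A] {J : Type w}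
    {B : J → Type u} [∀ j, CommRing (B j)] [∀ j, Algebra C (B j)] (ψ : ∀ j, A →ₐ[C] B j)

/-- descent of `SD` along a field extension. -/
theorem SD_field_desc (K K' : Type u) [Field K] [Field K'] [Algebra C K] [Algebra C K']
    [Algebra K K'] [IsScalarTower C K K'] (H : SD C ψ K') : SD C ψ K := by
  intro h τ hτ
  let ι : K →ₐ[C] K' := IsScalarTower.toAlgHom C K K'
  obtain ⟨ρ, hρ⟩ := LinearMap.exists_leftInverse_of_injective (Algebra.linearMap K K')
    (by rw [LinearMap.ker_eq_bot]; exact (algebraMap K K').injective)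
  have hρ' : ∀ k : K, ρ (algebraMap K K' k) = k := fun k => by
    have := congrArg (fun m => m k) hρ
    simpa using this
  have hinj : Function.Injective (Algebra.TensorProduct.map ι (AlgHom.id C A)) := by
    have h1 : ∀ x, ((ρ.restrictScalars C).rTensor A)
        (Algebra.TensorProduct.map ι (AlgHom.id C A) x) = x := by
      intro x
      induction x using TensorProduct.induction_on with
      | zero => simp
      | tmul k a =>
        simp only [Algebra.TensorProduct.map_tmul, AlgHom.coe_id, id_eq, LinearMap.rTensor_tmul,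
          LinearMap.coe_restrictScalars, ι, IsScalarTower.coe_toAlgHom', hρ']
      | add x y hx hy => rw [map_add, map_add, hx, hy]
    exact Function.LeftInverse.injective h1
  refine hsd_transport
    (fun j => (Algebra.TensorProduct.map (AlgHom.id K' K') (ψ j)).toRingHom)
    (fun j => (Algebra.TensorProduct.map (AlgHom.id K K) (ψ j)).toRingHom)
    (Algebra.TensorProduct.map ι (AlgHom.id C A)).toRingHom hinj
    (fun j => (Algebra.TensorProduct.map ι (AlgHom.id C (B j))).toRingHom) ?_ H h τ hτ
  intro j x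
  induction x using TensorProduct.induction_on with
  | zero => simp
  | tmul k a => simp
  | add x y hx hy => rw [map_add, map_add, hx, hy, map_add, map_add]

set_option linter.style.haveILetI false in
/-- ascent of `SD` along a field extension. -/
theorem SD_field_ext (K K' : Type u) [Field K] [Field K'] [Algebra C K] [Algebra C K']
    [Algebra K K'] [IsScalarTower C K K'] (H : SD C ψ K) : SD C ψ K' := by
  intro h τ hτ
  letI : ∀ j, Algebra (K ⊗[C] A) (K ⊗[C] B j) := fun j =>
    (Algebra.TensorProduct.map (AlgHom.id K K) (ψ j)).toRingHom.toAlgebra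
  haveI : ∀ j, IsScalarTower K (K ⊗[C] A) (K ⊗[C] B j) := fun j =>
    IsScalarTower.of_algebraMap_eq
      (fun x => ((Algebra.TensorProduct.map (AlgHom.id K K) (ψ j)).commutes x).symm)
  have key := field_claim_tensor (k := K) (A := K ⊗[C] A) (C := K') (fun j => K ⊗[C] B j) H
  let eM : ∀ (M : Type u) [CommRing M] [Algebra C M], K' ⊗[C] M ≃+* (K ⊗[C] M) ⊗[K] K' :=
    fun M _ _ => (Algebra.TensorProduct.cancelBaseChange C K K' K' M).symm.toRingEquiv.trans
      (Algebra.TensorProduct.comm K K' (K ⊗[C] M)).toRingEquiv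
  have heM : ∀ (M : Type u) [CommRing M] [Algebra C M] (k' : K') (m : M),
      eM M (k' ⊗ₜ[C] m) = ((1 : K) ⊗ₜ[C] m) ⊗ₜ[K] k' := by
    intro M _ _ k' m
    simp [eM]
  refine hsd_transport
    (fun j => (Algebra.TensorProduct.map (IsScalarTower.toAlgHom K (K ⊗[C] A) (K ⊗[C] B j))
      (AlgHom.id K K')).toRingHom)
    (fun j => (Algebra.TensorProduct.map (AlgHom.id K' K') (ψ j)).toRingHom)
    (eM A).toRingHom (eM A).injective
    (fun j => (eM (B j)).toRingHom) ?_ key h τ hτ
  intro j x
  induction x using TensorProduct.induction_on with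
  | zero => simp
  | tmul k a =>
    show (Algebra.TensorProduct.map (IsScalarTower.toAlgHom K (K ⊗[C] A) (K ⊗[C] B j))
      (AlgHom.id K K')) (eM A (k ⊗ₜ[C] a)) = eM (B j)
        (Algebra.TensorProduct.map (AlgHom.id K' K') (ψ j) (k ⊗ₜ[C] a))
    rw [heM, Algebra.TensorProduct.map_tmul, Algebra.TensorProduct.map_tmul, heM]
    rfl
  | add x y hx hy => rw [map_add, map_add, hx, hy, map_add, map_add]

/-- `SD` relative to `C` implies `SD` relative to an intermediate base `E`. -/
theorem SD_cancel (E : Type u) [CommRing E] [Algebra C E] (K' : Type u) [CommRing K']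
    [Algebra C K'] [Algebra E K'] [IsScalarTower C E K'] (H : SD C ψ K') :
    SD E (fun j => Algebra.TensorProduct.map (AlgHom.id E E) (ψ j)) K' := by
  intro h τ hτ
  refine hsd_transport
    (fun j => (Algebra.TensorProduct.map (AlgHom.id K' K') (ψ j)).toRingHom)
    (fun j => (Algebra.TensorProduct.map (AlgHom.id K' K')
      (Algebra.TensorProduct.map (AlgHom.id E E) (ψ j))).toRingHom)
    (Algebra.TensorProduct.cancelBaseChange C E K' K' A).toRingEquiv.toRingHom
    (Algebra.TensorProduct.cancelBaseChange C E K' K' A).injective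
    (fun j => (Algebra.TensorProduct.cancelBaseChange C E K' K' (B j)).toRingEquiv.toRingHom)
    ?_ H h τ hτ
  intro j x
  show (Algebra.TensorProduct.map (AlgHom.id K' K') (ψ j))
    (Algebra.TensorProduct.cancelBaseChange C E K' K' A x) =
    Algebra.TensorProduct.cancelBaseChange C E K' K' (B j)
      (Algebra.TensorProduct.map (AlgHom.id K' K')
        (Algebra.TensorProduct.map (AlgHom.id E E) (ψ j)) x)
  induction x using TensorProduct.induction_on with
  | zero => simp
  | tmul k y =>
    induction y using TensorProduct.induction_on with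
    | zero => simp
    | tmul e a => simp
    | add y z hy hz =>
      rw [TensorProduct.tmul_add, map_add, map_add, hy, hz, map_add, map_add]
  | add x y hx hy => rw [map_add, map_add, hx, hy, map_add, map_add]

omit [∀ j, Algebra C (B j)] in
/-- Every element of `C' ⊗ A` comes from `C₀ ⊗ A` for a finitely generated subalgebra `C₀`. -/
theorem exists_fg_subalgebra_mem_range_left {C' : Type u} [CommRing C'] [Algebra C C']
    (S : Finset (C' ⊗[C] A)) :
    ∃ C₀ : Subalgebra C C', C₀.FG ∧ ∀ x ∈ S,
      x ∈ Set.range (Algebra.TensorProduct.map C₀.val (AlgHom.id C A)) := by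
  classical
  choose F hF using fun x : C' ⊗[C] A => TensorProduct.exists_finset x
  let T : Finset C' := S.biUnion fun x => (F x).image Prod.fst
  refine ⟨Algebra.adjoin C (T : Set C'), Subalgebra.fg_adjoin_finset T, fun x hx => ?_⟩
  have hmem : ∀ i ∈ F x, i.1 ∈ Algebra.adjoin C (T : Set C') := fun i hi =>
    Algebra.subset_adjoin (Finset.mem_coe.mpr (Finset.mem_biUnion.mpr
      ⟨x, hx, Finset.mem_image_of_mem _ hi⟩))
  refine ⟨∑ i ∈ (F x).attach,
    (⟨i.1.1, hmem i.1 i.2⟩ : Algebra.adjoin C (T : Set C')) ⊗ₜ[C] i.1.2, ?_⟩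
  rw [map_sum]
  conv_rhs => rw [hF x, ← Finset.sum_attach]
  refine Finset.sum_congr rfl fun i _ => ?_
  rw [Algebra.TensorProduct.map_tmul]
  rfl

set_option linter.style.haveILetI false in
/-- `SD` for finite type base changes, from the fibres. -/
theorem SD_of_finiteType [IsNoetherianRing A] [∀ j, Module.Flat C (B j)]
    (FH : ∀ (𝔭 : Ideal C) [𝔭.IsPrime], SD C ψ 𝔭.ResidueField)
    (E : Type u) [CommRing E] [Algebra C E] [Algebra.FiniteType C E] : SD C ψ E := by
  intro h τ hτ
  haveI : IsNoetherianRing (A ⊗[C] E) := Algebra.FiniteType.isNoetherianRing A (A ⊗[C] E)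
  haveI : IsNoetherianRing (E ⊗[C] A) :=
    isNoetherianRing_of_ringEquiv (A ⊗[C] E) (Algebra.TensorProduct.comm C A E).toRingEquiv
  refine noeth_fibre_claim (C := E) (A := E ⊗[C] A) (B := fun j => E ⊗[C] B j)
    (fun j => Algebra.TensorProduct.map (AlgHom.id E E) (ψ j)) ?_ h τ hτ
  intro 𝔭' _
  let 𝔭 : Ideal C := 𝔭'.comap (algebraMap C E)
  haveI : 𝔭.IsPrime := Ideal.comap_isPrime _ _
  letI : Algebra 𝔭.ResidueField 𝔭'.ResidueField :=
    (Ideal.ResidueField.map 𝔭 𝔭' (algebraMap C E) rfl).toAlgebra
  haveI : IsScalarTower C 𝔭.ResidueField 𝔭'.ResidueField :=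
    IsScalarTower.of_algebraMap_eq (fun c => by
      show algebraMap C 𝔭'.ResidueField c =
        Ideal.ResidueField.map 𝔭 𝔭' (algebraMap C E) rfl (algebraMap C 𝔭.ResidueField c)
      rw [Ideal.ResidueField.map_algebraMap, ← IsScalarTower.algebraMap_apply])
  exact SD_cancel ψ E 𝔭'.ResidueField (SD_field_ext ψ 𝔭.ResidueField 𝔭'.ResidueField (FH 𝔭))

set_option linter.style.haveILetI false in
/-- **Universal schematic dominance from the fibres (ring level).** -/
theorem SD_univ [IsNoetherianRing A] [∀ j, Module.Flat C (B j)]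
    (FH : ∀ (𝔭 : Ideal C) [𝔭.IsPrime], SD C ψ 𝔭.ResidueField)
    (C' : Type u) [CommRing C'] [Algebra C C'] : SD C ψ C' := by
  classical
  intro h τ hτ
  obtain ⟨C₀, hC₀, hmem⟩ := exists_fg_subalgebra_mem_range_left (C := C) (A := A)
    ({h, τ} : Finset (C' ⊗[C] A))
  obtain ⟨h₀, hh₀⟩ := hmem h (by simp)
  obtain ⟨τ₀, hτ₀⟩ := hmem τ (by simp)
  haveI : Algebra.FiniteType C C₀ := (Subalgebra.fg_iff_finiteType C₀).mp hC₀
  have hinj : ∀ j, Function.Injective (Algebra.TensorProduct.map C₀.val (AlgHom.id C (B j))) := by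
    intro j
    have h1 : ⇑(Algebra.TensorProduct.map C₀.val (AlgHom.id C (B j))) =
        ⇑(LinearMap.rTensor (B j) C₀.val.toLinearMap) := by
      ext x
      induction x using TensorProduct.induction_on with
      | zero => simp
      | tmul a c => simp
      | add x y hx hy => rw [map_add, map_add, hx, hy]
    rw [h1]
    exact Module.Flat.rTensor_preserves_injective_linearMap _ Subtype.val_injective
  have hnat : ∀ j (x : C₀ ⊗[C] A), Algebra.TensorProduct.map C₀.val (AlgHom.id C (B j))
      (Algebra.TensorProduct.map (AlgHom.id C₀ C₀) (ψ j) x) =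
      Algebra.TensorProduct.map (AlgHom.id C' C') (ψ j)
        (Algebra.TensorProduct.map C₀.val (AlgHom.id C A) x) := by
    intro j x
    induction x using TensorProduct.induction_on with
    | zero => simp
    | tmul a c => simp
    | add x y hx hy => rw [map_add, map_add, hx, hy, map_add, map_add]
  obtain ⟨n, hn⟩ := SD_of_finiteType ψ FH C₀ h₀ τ₀ (fun j => by
    obtain ⟨n, hn⟩ := hτ j
    refine ⟨n, hinj j ?_⟩
    rw [hnat, map_mul, map_pow, hh₀, hτ₀, hn, map_zero])
  refine ⟨n, ?_⟩
  have := congrArg (Algebra.TensorProduct.map C₀.val (AlgHom.id C A)) hn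
  rwa [map_mul, map_pow, hh₀, hτ₀, map_zero] at this

set_option linter.style.haveILetI false in
/-- `SD` for the residue field of `𝔭` from `SD` for any field with kernel `𝔭`. -/
theorem SD_residueField_of_ker (𝔭 : Ideal C) [𝔭.IsPrime] (K : Type u) [Field K] [Algebra C K]
    (hker : RingHom.ker (algebraMap C K) = 𝔭) (H : SD C ψ K) : SD C ψ 𝔭.ResidueField := by
  let f : 𝔭.ResidueField →ₐ[C] K := Ideal.ResidueField.liftₐ 𝔭 (Algebra.ofId C K)
    (by rw [← hker]; exact le_rfl)
    (by
      intro c hc
      rw [Submonoid.mem_comap, IsUnit.mem_submonoid_iff]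
      refine IsUnit.mk0 _ (fun h0 => hc ?_)
      rw [← hker]
      exact h0)
  letI : Algebra 𝔭.ResidueField K := f.toRingHom.toAlgebra
  haveI : IsScalarTower C 𝔭.ResidueField K := .of_algebraMap_eq (fun c => (f.commutes c).symm)
  exact SD_field_desc ψ 𝔭.ResidueField K H

end

end Groth.Agent.Lib.Helper4.UnivSchDom
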