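import Mathlib
import Groth.Agent.Lib.Helper4SchDomD
/-!
# helper4: separating families of module homomorphisms (EGA IV 11.9), ring level

* `MHSD A u`: exponent form of "the family `u j : M → N j` is separating on all principal opens".
* `hsd_tsze`: idealization — `MHSD` gives the ring-level schematic dominance of the trivial square
  zero extensions `A ⊕ M → A ⊕ N j`.
* `transfers_fp`: `MHSD` is preserved by flat finitely presented base change (via idealization and
  `Helper4SchDomD.general_claim_away`).
* `transfers_artinian`: `MHSD` over an Artinian ring is preserved by arbitrary flat base change.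
* `transfers_field`: over a field `k`, `MHSD` is preserved by `A → A ⊗[k] C` for any `k`-algebra `C`.
-/

set_option autoImplicit false
universe u v w
namespace Groth.Agent.Lib.Helper4.SepFam
open TensorProduct
open Groth.Agent.Lib.Helper4.SchDom

/-- exponent form of "the family `u j : M → N j` is separating on all principal opens". -/
def MHSD (A : Type*) [CommRing A] {M : Type*} [AddCommGroup M] [Module A M] {J : Type*}
    {N : J → Type*} [∀ j, AddCommGroup (N j)] [∀ j, Module A (N j)] (u : ∀ j, M →ₗ[A] N j) : Prop :=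
  ∀ (h : A) (m : M), (∀ j, ∃ n : ℕ, u j (h ^ n • m) = 0) → ∃ n : ℕ, h ^ n • m = 0

section ideal
variable {A : Type u} [CommRing A] {M : Type v} [AddCommGroup M] [Module A M] [Module Aᵐᵒᵖ M]
  [IsCentralScalar A M] {J : Type w} {N : J → Type v} [∀ j, AddCommGroup (N j)]
  [∀ j, Module A (N j)] [∀ j, Module Aᵐᵒᵖ (N j)] [∀ j, IsCentralScalar A (N j)]
  (u : ∀ j, M →ₗ[A] N j)

/-- **Idealization**: a separating family of module maps gives a schematically dominant family
of trivial square zero extensions. -/
theorem hsd_tsze [Nonempty J] (H : MHSD A u) (h a : TrivSqZeroExt A M)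
    (ha : ∀ j, ∃ n : ℕ, TrivSqZeroExt.map (u j) (h ^ n * a) = 0) : ∃ n : ℕ, h ^ n * a = 0 := by
  obtain ⟨j0⟩ := ‹Nonempty J›
  obtain ⟨n0, hn0⟩ := ha j0
  have e0 : h.fst ^ n0 * a.fst = 0 := by
    have := congrArg TrivSqZeroExt.fst hn0
    simpa only [TrivSqZeroExt.fst_map, TrivSqZeroExt.fst_mul, TrivSqZeroExt.fst_pow,
      TrivSqZeroExt.fst_zero] using this
  have key : ∀ j, ∃ n : ℕ, u j (h.fst ^ n • a.snd) = 0 := by
    intro j
    obtain ⟨n, hn⟩ := ha j
    refine ⟨n0 + 1 + n, ?_⟩
    have h1 := congrArg TrivSqZeroExt.snd hn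
    rw [TrivSqZeroExt.snd_map, TrivSqZeroExt.snd_mul, TrivSqZeroExt.fst_pow,
      TrivSqZeroExt.snd_zero, op_smul_eq_smul] at h1
    have h2 := congrArg (fun z => h.fst ^ (n0 + 1) • z) h1
    simp only [smul_zero] at h2
    rw [← map_smul, smul_add, smul_smul, ← pow_add, smul_smul] at h2
    have e1 : h.fst ^ (n0 + 1) * a.fst = 0 := by
      rw [pow_succ', mul_assoc, e0, mul_zero]
    rw [e1, zero_smul, add_zero] at h2
    exact h2
  obtain ⟨N, hN⟩ := H h.fst a.snd key
  refine ⟨N + n0 + 1, TrivSqZeroExt.ext ?_ ?_⟩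
  · rw [TrivSqZeroExt.fst_mul, TrivSqZeroExt.fst_pow, TrivSqZeroExt.fst_zero,
      show N + n0 + 1 = (N + 1) + n0 by ring, pow_add, mul_assoc, e0, mul_zero]
  · rw [TrivSqZeroExt.snd_mul, TrivSqZeroExt.fst_pow, TrivSqZeroExt.snd_zero, op_smul_eq_smul,
      TrivSqZeroExt.snd_pow]
    have e2 : h.fst ^ (N + n0 + 1) • a.snd = 0 := by
      rw [show N + n0 + 1 = (n0 + 1) + N by ring, pow_add, mul_smul, hN, smul_zero]
    have e3 : a.fst • ((N + n0 + 1) • h.fst ^ (N + n0 + 1).pred • h.snd) = 0 := by
      rw [Nat.pred_succ, smul_comm, smul_smul]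
      have : a.fst * h.fst ^ (N + n0) = 0 := by
        rw [pow_add, mul_comm, mul_assoc, e0, mul_zero]
      rw [this, zero_smul, smul_zero]
    rw [e2, e3, add_zero]

end ideal

set_option linter.style.haveILetI false in
set_option maxHeartbeats 800000 in
/-- **Flat finitely presented base change of a separating family** (EGA IV 11.9.10, ring level),
deduced from the ring version by idealization. -/
theorem transfers_fp {A A' : Type u} [CommRing A] [CommRing A'] [Algebra A A'] [Module.Flat A A']
    [Algebra.FinitePresentation A A'] {M : Type u} [AddCommGroup M] [Module A M] {J : Type w}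
    {N : J → Type u} [∀ j, AddCommGroup (N j)] [∀ j, Module A (N j)] (u : ∀ j, M →ₗ[A] N j)
    (H : MHSD A u) : MHSD A' (fun j => (u j).baseChange A') := by
  classical
  intro s t ht
  by_cases hJ : Nonempty J
  swap
  · have hM : ∀ m : M, m = 0 := fun m => by
      obtain ⟨n, hn⟩ := H 1 m (fun j => (hJ ⟨j⟩).elim)
      simpa using hn
    refine ⟨0, ?_⟩
    rw [pow_zero, one_smul]
    have h0 : ∀ t : A' ⊗[A] M, t = 0 := by
      intro t
      induction t using TensorProduct.induction_on with
      | zero => rfl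
      | tmul a m => rw [hM m, TensorProduct.tmul_zero]
      | add x y hx hy => rw [hx, hy, add_zero]
    exact h0 t
  letI : Module Aᵐᵒᵖ M := Module.compHom M ((RingHom.id A).fromOpposite mul_comm)
  haveI : IsCentralScalar A M := ⟨fun a m => rfl⟩
  letI : ∀ j, Module Aᵐᵒᵖ (N j) := fun j =>
    Module.compHom (N j) ((RingHom.id A).fromOpposite mul_comm)
  haveI : ∀ j, IsCentralScalar A (N j) := fun j => ⟨fun a m => rfl⟩
  letI : ∀ j, Algebra (TrivSqZeroExt A M) (TrivSqZeroExt A (N j)) := fun j =>
    (TrivSqZeroExt.map (u j)).toRingHom.toAlgebra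
  haveI : ∀ j, IsScalarTower A (TrivSqZeroExt A M) (TrivSqZeroExt A (N j)) := fun j =>
    IsScalarTower.of_algebraMap_eq (fun a => ((TrivSqZeroExt.map (u j)).commutes a).symm)
  have hsd : ∀ h a : TrivSqZeroExt A M, (∀ j, ∃ n : ℕ,
      algebraMap (TrivSqZeroExt A M) (TrivSqZeroExt A (N j)) (h ^ n * a) = 0) →
      ∃ n : ℕ, h ^ n * a = 0 := fun h a ha => hsd_tsze u H h a ha
  have key := general_claim_away (A := TrivSqZeroExt A M) (A' := TrivSqZeroExt A M ⊗[A] A')
    (fun j => TrivSqZeroExt A (N j)) hsd
  -- the embeddings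
  let ι : ∀ (P : Type u) [AddCommGroup P] [Module A P] [Module Aᵐᵒᵖ P] [IsCentralScalar A P],
      A' ⊗[A] P →ₗ[A] TrivSqZeroExt A P ⊗[A] A' := fun P _ _ _ _ =>
    (LinearMap.rTensor A' (TrivSqZeroExt.inrHom A P)) ∘ₗ (TensorProduct.comm A A' P).toLinearMap
  let ρ : TrivSqZeroExt A M ⊗[A] A' →ₗ[A] A' ⊗[A] M :=
    (TensorProduct.comm A M A').toLinearMap ∘ₗ (LinearMap.rTensor A' (TrivSqZeroExt.sndHom A M))
  have hρι : ∀ x : A' ⊗[A] M, ρ (ι M x) = x := by
    intro x
    induction x using TensorProduct.induction_on with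
    | zero => simp
    | tmul a m => simp [ι, ρ]
    | add x y hx hy => rw [map_add, map_add, hx, hy]
  have hιmul : ∀ (x : A' ⊗[A] M) (n : ℕ),
      ι M (s ^ n • x) = ((1 : TrivSqZeroExt A M) ⊗ₜ[A] s) ^ n * ι M x := by
    intro x n
    rw [Algebra.TensorProduct.tmul_pow, one_pow]
    induction x using TensorProduct.induction_on with
    | zero => simp
    | tmul a m =>
      simp only [ι, LinearMap.coe_comp, LinearEquiv.coe_coe, Function.comp_apply,
        TensorProduct.smul_tmul', TensorProduct.comm_tmul, LinearMap.rTensor_tmul,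
        Algebra.TensorProduct.tmul_mul_tmul, one_mul, smul_eq_mul]
    | add x y hx hy => rw [smul_add, map_add, hx, hy, map_add, mul_add]
  have hnat : ∀ j (x : A' ⊗[A] M),
      LinearMap.rTensor A' ((TrivSqZeroExt.map (u j)).toLinearMap) (ι M x) =
        ι (N j) ((u j).baseChange A' x) := by
    intro j x
    induction x using TensorProduct.induction_on with
    | zero => simp
    | tmul a m => simp [ι]
    | add x y hx hy => rw [map_add, map_add, hx, hy, map_add, map_add]
  obtain ⟨n, hn⟩ := key ((1 : TrivSqZeroExt A M) ⊗ₜ[A] s) (ι M t) (fun j => by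
    obtain ⟨n, hn⟩ := ht j
    refine ⟨n, ?_⟩
    let Ψ := TensorProduct.AlgebraTensorModule.cancelBaseChange A (TrivSqZeroExt A M)
      (TrivSqZeroExt A M) (TrivSqZeroExt A (N j)) A'
    have hΨ : ∀ x : TrivSqZeroExt A M ⊗[A] A',
        Ψ ((1 : TrivSqZeroExt A (N j)) ⊗ₜ[TrivSqZeroExt A M] x) =
        LinearMap.rTensor A' ((TrivSqZeroExt.map (u j)).toLinearMap) x := by
      intro x
      induction x using TensorProduct.induction_on with
      | zero => simp
      | tmul r c =>
        simp only [Ψ, TensorProduct.AlgebraTensorModule.cancelBaseChange_tmul,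
          LinearMap.rTensor_tmul, AlgHom.toLinearMap_apply, Algebra.smul_def, mul_one]
        rfl
      | add x y hx hy => rw [TensorProduct.tmul_add, map_add, map_add, hx, hy]
    apply Ψ.injective
    rw [hΨ, map_zero, ← hιmul, hnat]
    have hn' : (u j).baseChange A' (s ^ n • t) = 0 := hn
    rw [hn', map_zero])
  refine ⟨n, ?_⟩
  rw [← hιmul] at hn
  rw [← hρι (s ^ n • t), hn, map_zero]

set_option linter.style.haveILetI false in
/-- **Flat base change of a separating family over an Artinian ring** (EGA IV 11.9.9). -/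
theorem transfers_artinian {A : Type u} {A' : Type v} [CommRing A] [IsArtinianRing A] [CommRing A']
    [Algebra A A'] [Module.Flat A A'] {M : Type v} [AddCommGroup M] [Module A M] {J : Type w}
    {N : J → Type v} [∀ j, AddCommGroup (N j)] [∀ j, Module A (N j)] (u : ∀ j, M →ₗ[A] N j)
    (H : MHSD A u) : MHSD A' (fun j => (u j).baseChange A') := by
  classical
  intro s t ht
  -- a finitely generated submodule carrying `t`
  obtain ⟨S, hS⟩ := TensorProduct.exists_finset t
  let M₀ : Submodule A M := Submodule.span A ((S.image Prod.snd : Finset M) : Set M)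
  haveI : IsArtinian A M₀ := isArtinian_span_of_finite A (Finset.finite_toSet _)
  have hmem : ∀ i ∈ S, i.2 ∈ M₀ := fun i hi =>
    Submodule.subset_span (Finset.mem_coe.mpr (Finset.mem_image_of_mem _ hi))
  let t₀ : A' ⊗[A] M₀ := ∑ i ∈ S.attach, i.1.1 ⊗ₜ[A] (⟨i.1.2, hmem i.1 i.2⟩ : M₀)
  have ht₀ : M₀.subtype.baseChange A' t₀ = t := by
    rw [map_sum]
    conv_rhs => rw [hS, ← Finset.sum_attach]
    refine Finset.sum_congr rfl fun i _ => ?_
    rw [LinearMap.baseChange_tmul]
    rfl
  -- a finite separating subfamily on `M₀`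
  let K : Finset J → Submodule A M₀ := fun F =>
    ⨅ j ∈ F, LinearMap.ker ((u j).comp M₀.subtype)
  obtain ⟨K₀, ⟨F, rfl⟩, hmin⟩ := IsArtinian.set_has_minimal (Set.range K) ⟨_, ∅, rfl⟩
  have hF : K F = ⊥ := by
    rw [eq_bot_iff]
    intro m hm
    have hall : ∀ j, u j (m : M) = 0 := fun j => by
      have hle : K (insert j F) ≤ K F := by
        refine le_iInf₂ fun i hi => ?_
        exact iInf₂_le i (Finset.mem_insert_of_mem hi)
      have heq : K (insert j F) = K F := by
        by_contra hne
        exact hmin _ ⟨_, rfl⟩ (lt_of_le_of_ne hle hne)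
      have hm' : m ∈ K (insert j F) := heq ▸ hm
      have hj : m ∈ LinearMap.ker ((u j).comp M₀.subtype) :=
        (iInf₂_le j (Finset.mem_insert_self j F) : K (insert j F) ≤ _) hm'
      exact hj
    obtain ⟨n, hn⟩ := H 1 (m : M) (fun j => ⟨0, by rw [pow_zero, one_smul]; exact hall j⟩)
    rw [one_pow, one_smul] at hn
    rw [Submodule.mem_bot]
    exact Subtype.ext hn
  -- the injection `M₀ → ∏_{j ∈ F} N j`
  let Φ : M₀ →ₗ[A] (∀ j : ↥F, N j.1) := LinearMap.pi (fun j => (u j.1).comp M₀.subtype)
  have hΦ : Function.Injective Φ := by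
    rw [← LinearMap.ker_eq_bot, eq_bot_iff, ← hF]
    intro m hm
    refine (Submodule.mem_iInf _).mpr fun j => (Submodule.mem_iInf _).mpr fun hj => ?_
    exact congrFun hm ⟨j, hj⟩
  have hΦ' : Function.Injective (Φ.baseChange A') := by
    rw [LinearMap.baseChange_eq_ltensor]
    exact Module.Flat.lTensor_preserves_injective_linearMap Φ hΦ
  -- a uniform exponent on `F`
  choose n hn using ht
  let n₀ := F.sup n
  refine ⟨n₀, ?_⟩
  have key : s ^ n₀ • t₀ = 0 := by
    apply hΦ'
    rw [map_zero]
    apply (TensorProduct.piRight A A' A' (fun j : ↥F => N j.1)).injective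
    rw [map_zero]
    funext j
    -- the `j`-th component
    have hcomp : ∀ x : A' ⊗[A] M₀,
        (TensorProduct.piRight A A' A' (fun j : ↥F => N j.1)) (Φ.baseChange A' x) j =
          (u j.1).baseChange A' (M₀.subtype.baseChange A' x) := by
      intro x
      induction x using TensorProduct.induction_on with
      | zero => simp
      | tmul a m =>
        simp only [TensorProduct.piRight_apply,
          TensorProduct.piRightHom_tmul, LinearMap.baseChange_tmul]
        rfl
      | add x y hx hy => simp only [map_add, Pi.add_apply, hx, hy]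
    rw [hcomp, map_smul, ht₀]
    have hle : n j.1 ≤ n₀ := Finset.le_sup j.2
    have e : s ^ n₀ • t = s ^ (n₀ - n j.1) • (s ^ n j.1 • t) := by
      rw [smul_smul, ← pow_add, Nat.sub_add_cancel hle]
    rw [e, map_smul]
    have := hn j.1
    simp only at this
    rw [this, smul_zero]
    rfl
  rw [← ht₀, ← map_smul, key, map_zero]

set_option linter.style.haveILetI false in
set_option maxHeartbeats 800000 in
/-- **Base change of a separating family over a field along an arbitrary algebra**
(EGA IV 11.9.10 bis / 11.10.6 for modules). -/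
theorem transfers_field {k : Type u} [Field k] {A C : Type u} [CommRing A] [CommRing C]
    [Algebra k A] [Algebra k C] {M : Type u} [AddCommGroup M] [Module A M] {J : Type w}
    {N : J → Type u} [∀ j, AddCommGroup (N j)] [∀ j, Module A (N j)] (u : ∀ j, M →ₗ[A] N j)
    (H : MHSD A u) : MHSD (A ⊗[k] C) (fun j => (u j).baseChange (A ⊗[k] C)) := by
  classical
  intro s t ht
  obtain ⟨T, hT⟩ := TensorProduct.exists_finset t
  obtain ⟨C₀, hC₀, hmem⟩ := exists_fg_subalgebra_mem_range (k := k) (A := A) (C := C)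
    (insert s (T.image Prod.fst))
  haveI : Algebra.FiniteType k C₀ := (Subalgebra.fg_iff_finiteType C₀).mp hC₀
  haveI : Algebra.FinitePresentation k C₀ :=
    Algebra.FinitePresentation.of_finiteType.mp inferInstance
  let ι : A ⊗[k] C₀ →ₐ[A] A ⊗[k] C := Algebra.TensorProduct.map (AlgHom.id A A) C₀.val
  have hιr : ∀ x ∈ insert s (T.image Prod.fst), ∃ y : A ⊗[k] C₀, ι y = x := by
    intro x hx
    obtain ⟨y, hy⟩ := hmem x hx
    exact ⟨y, hy⟩
  choose! pre hpre using hιr
  -- a retraction of `ι`
  obtain ⟨ρC, hρC⟩ := LinearMap.exists_leftInverse_of_injective C₀.val.toLinearMap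
    (by rw [LinearMap.ker_eq_bot]; exact Subtype.val_injective)
  let ρ : A ⊗[k] C →ₗ[A] A ⊗[k] C₀ :=
    TensorProduct.AlgebraTensorModule.map (LinearMap.id : A →ₗ[A] A) ρC
  have hρι : ρ ∘ₗ ι.toLinearMap = LinearMap.id := by
    apply TensorProduct.AlgebraTensorModule.curry_injective
    ext c
    have := congrArg (fun m => m c) hρC
    simp only [LinearMap.coe_comp, Function.comp_apply, LinearMap.id_coe, id_eq] at this
    have this' : ρC (c : C) = c := this
    simp [ρ, ι, this']
  have hinj : ∀ (P : Type u) [AddCommGroup P] [Module A P],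
      Function.Injective (LinearMap.rTensor P ι.toLinearMap) := by
    intro P _ _
    have h1 : (LinearMap.rTensor P ρ) ∘ₗ (LinearMap.rTensor P ι.toLinearMap) = LinearMap.id := by
      rw [← LinearMap.rTensor_comp, hρι, LinearMap.rTensor_id]
    exact Function.LeftInverse.injective (fun x => congrArg (fun m => m x) h1)
  have hs : ι (pre s) = s := hpre s (Finset.mem_insert_self _ _)
  let t₀ : (A ⊗[k] C₀) ⊗[A] M := ∑ i ∈ T, pre i.1 ⊗ₜ[A] i.2
  have ht₀ : LinearMap.rTensor M ι.toLinearMap t₀ = t := by
    rw [map_sum, hT]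
    refine Finset.sum_congr rfl fun i hi => ?_
    rw [LinearMap.rTensor_tmul, AlgHom.toLinearMap_apply,
      hpre i.1 (Finset.mem_insert_of_mem (Finset.mem_image_of_mem _ hi))]
  have hsm : ∀ (P : Type u) [AddCommGroup P] [Module A P] (y : A ⊗[k] C₀)
      (x : (A ⊗[k] C₀) ⊗[A] P),
      LinearMap.rTensor P ι.toLinearMap (y • x) = ι y • LinearMap.rTensor P ι.toLinearMap x := by
    intro P _ _ y x
    induction x using TensorProduct.induction_on with
    | zero => simp
    | tmul a m =>
      rw [TensorProduct.smul_tmul', LinearMap.rTensor_tmul, LinearMap.rTensor_tmul,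
        TensorProduct.smul_tmul', AlgHom.toLinearMap_apply, AlgHom.toLinearMap_apply, smul_eq_mul,
        smul_eq_mul, map_mul]
    | add x z hx hz => rw [smul_add, map_add, hx, hz, map_add, smul_add]
  have hnat : ∀ j (x : (A ⊗[k] C₀) ⊗[A] M),
      LinearMap.rTensor (N j) ι.toLinearMap ((u j).baseChange (A ⊗[k] C₀) x) =
        (u j).baseChange (A ⊗[k] C) (LinearMap.rTensor M ι.toLinearMap x) := by
    intro j x
    induction x using TensorProduct.induction_on with
    | zero => simp
    | tmul a m => simp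
    | add x z hx hz => rw [map_add, map_add, hx, hz, map_add, map_add]
  obtain ⟨n, hn⟩ := transfers_fp (A := A) (A' := A ⊗[k] C₀) u H (pre s) t₀ (fun j => by
    obtain ⟨n, hn⟩ := ht j
    refine ⟨n, hinj (N j) ?_⟩
    rw [map_zero, hnat, hsm, map_pow, hs, ht₀]
    exact hn)
  refine ⟨n, ?_⟩
  have := congrArg (LinearMap.rTensor M ι.toLinearMap) hn
  rwa [hsm, map_pow, hs, ht₀, map_zero] at this

end Groth.Agent.Lib.Helper4.SepFam
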