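import Mathlib
import Groth.Agent.Lib.Helper4SepFamA
import Groth.Agent.Lib.Helper13BCAlg
import Groth.Agent.Lib.Helper23PB
import Groth.Agent.Lib.Helper2QcPush
import Groth.Agent.Lib.Helper2FPAff
/-!
# helper4: separating families of homomorphisms of quasi-coherent modules (EGA IV 11.9), glue

* `MHSD_of_universal`: transport of the tensor form of `MHSD` to a model of the base change.
* `Separating`, `appₗ`, `MHSD_of_separating`, `separating_of_MHSD`: a family `u i : F ⟶ G i` of maps
  of quasi-coherent modules is separating iff `MHSD` holds on (enough) affine opens.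
* `separating_pullback_of_MHSD`: the pulled back family along `g : X' ⟶ X` is separating as soon as
  the tensor form of `MHSD` holds for enough pairs of affine opens `U' ≤ g⁻¹ U`.
-/

set_option autoImplicit false
set_option linter.style.haveILetI false
universe u v w
namespace Groth.Agent.Lib.Helper4.SepFam
open TensorProduct CategoryTheory CategoryTheory.Limits AlgebraicGeometry
open Groth.Agent.Helper13PullbackUnit Groth.Agent.Lib.Helper2.FPAff

set_option linter.style.haveILetI false in
/-- transport of the tensor form of `MHSD` to any model of the base change, given by semilinear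
maps with the universal property. -/
theorem MHSD_of_universal {A A' : Type u} [CommRing A] [CommRing A'] [Algebra A A']
    {M M' : Type u} [AddCommGroup M] [Module A M] [AddCommGroup M'] [Module A' M']
    (ηM : M →+ M') (hηM : ∀ (a : A) (m : M), ηM (a • m) = algebraMap A A' a • ηM m)
    (UM : ∀ (P : Type u) [AddCommGroup P] [Module A' P] (l : M →+ P),
      (∀ (a : A) (m : M), l (a • m) = algebraMap A A' a • l m) →
        ∃! l' : M' →ₗ[A'] P, ∀ m, l' (ηM m) = l m)
    {J : Type w} {N N' : J → Type u} [∀ j, AddCommGroup (N j)] [∀ j, Module A (N j)]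
    [∀ j, AddCommGroup (N' j)] [∀ j, Module A' (N' j)]
    (ηN : ∀ j, N j →+ N' j)
    (hηN : ∀ j (a : A) (n : N j), ηN j (a • n) = algebraMap A A' a • ηN j n)
    (UN : ∀ j (P : Type u) [AddCommGroup P] [Module A' P] (l : N j →+ P),
      (∀ (a : A) (n : N j), l (a • n) = algebraMap A A' a • l n) →
        ∃! l' : N' j →ₗ[A'] P, ∀ n, l' (ηN j n) = l n)
    (u : ∀ j, M →ₗ[A] N j) (u' : ∀ j, M' →ₗ[A'] N' j)
    (hcomm : ∀ j m, u' j (ηM m) = ηN j (u j m))
    (T : MHSD A' (fun j => (u j).baseChange A')) : MHSD A' u' := by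
  letI : Module A M' := Module.compHom M' (algebraMap A A')
  haveI : IsScalarTower A A' M' := IsScalarTower.of_algebraMap_smul (fun a m => rfl)
  letI : ∀ j, Module A (N' j) := fun j => Module.compHom (N' j) (algebraMap A A')
  haveI : ∀ j, IsScalarTower A A' (N' j) := fun j =>
    IsScalarTower.of_algebraMap_smul (fun a m => rfl)
  let φM : M →ₗ[A] M' :=
    { toFun := ηM, map_add' := ηM.map_add, map_smul' := fun a m => hηM a m }
  let φN : ∀ j, N j →ₗ[A] N' j := fun j =>
    { toFun := ηN j, map_add' := (ηN j).map_add, map_smul' := fun a m => hηN j a m }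
  have hM : IsBaseChange A' φM :=
    Groth.Agent.Helper13BCAlg.isBaseChange_of_existsUnique φM (fun P _ _ l hl => UM P l hl)
  have hN : ∀ j, IsBaseChange A' (φN j) := fun j =>
    Groth.Agent.Helper13BCAlg.isBaseChange_of_existsUnique (φN j) (fun P _ _ l hl => UN j P l hl)
  intro s m' hm'
  have hc : ∀ j (x : A' ⊗[A] M),
      u' j (hM.equiv x) = (hN j).equiv ((u j).baseChange A' x) := by
    intro j x
    induction x using TensorProduct.induction_on with
    | zero => simp
    | tmul a m =>
      rw [IsBaseChange.equiv_tmul, LinearMap.baseChange_tmul, IsBaseChange.equiv_tmul, map_smul]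
      congr 1
      exact hcomm j m
    | add x y hx hy => rw [map_add, map_add, hx, hy, map_add, map_add]
  obtain ⟨n, hn⟩ := T s (hM.equiv.symm m') (fun j => by
    obtain ⟨n, hn⟩ := hm' j
    refine ⟨n, (hN j).equiv.injective ?_⟩
    rw [← hc, map_smul, LinearEquiv.apply_symm_apply, hn, map_zero])
  refine ⟨n, ?_⟩
  have := congrArg hM.equiv hn
  rwa [map_smul, LinearEquiv.apply_symm_apply, map_zero] at this


section scheme
variable {X : Scheme.{u}}

/-- a morphism of modules on sections, as a linear map. -/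
noncomputable def appₗ {F G : X.Modules} (φ : F ⟶ G) (U : X.Opens) :
    Γ(F, U) →ₗ[Γ(X, U)] Γ(G, U) :=
  { toFun := fun x => φ.app U x
    map_add' := fun x y => map_add _ x y
    map_smul' := fun r x => Scheme.Modules.Hom.app_smul φ r x }

theorem appₗ_apply {F G : X.Modules} (φ : F ⟶ G) (U : X.Opens) (x : Γ(F, U)) :
    appₗ φ U x = φ.app U x := rfl

/-- the family `u i : F ⟶ G i` is separating. -/
def Separating (F : X.Modules) {ι : Type w} (G : ι → X.Modules) (u : ∀ i, F ⟶ G i) : Prop :=
  ∀ (V : X.Opens) (t : Γ(F, V)), (∀ i, (u i).app V t = 0) → t = 0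

theorem app_res {F G : X.Modules} (φ : F ⟶ G) {U V : X.Opens} (h : V ≤ U) (m : Γ(F, U)) :
    φ.app V (F.presheaf.map (homOfLE h).op m) = G.presheaf.map (homOfLE h).op (φ.app U m) := by
  have h1 := (Scheme.Modules.Hom.mapPresheaf φ).naturality (homOfLE h).op
  exact congrArg (fun ψ => ψ m) h1

/-- restriction to a basic open kills exactly the `h`-power torsion (unit part). -/
theorem res_basicOpen_eq_zero_of_pow_smul (G : X.Modules) {U : X.Opens} (h : Γ(X, U)) (y : Γ(G, U))
    (n : ℕ) (hy : h ^ n • y = 0) :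
    G.presheaf.map (homOfLE (X.basicOpen_le h)).op y = 0 := by
  have h1 := congrArg (G.presheaf.map (homOfLE (X.basicOpen_le h)).op) hy
  rw [Scheme.Modules.map_smul, map_zero, map_pow] at h1
  have hunit : IsUnit (X.presheaf.map (homOfLE (X.basicOpen_le h)).op h) :=
    RingedSpace.isUnit_res_basicOpen X.toRingedSpace h
  obtain ⟨w, hw⟩ := (hunit.pow n)
  have h2 := congrArg (fun z => (↑w⁻¹ : Γ(X, X.basicOpen h)) • z) h1
  simp only [smul_zero] at h2
  rw [← hw, smul_smul, Units.inv_mul, one_smul] at h2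
  exact h2

/-- for quasi-coherent `G` on an affine open, a section vanishing on `D(h)` is `h`-power torsion. -/
theorem exists_pow_smul_eq_zero_of_res (G : X.Modules) [G.IsQuasicoherent] {U : X.Opens}
    (hU : IsAffineOpen U) (h : Γ(X, U)) (y : Γ(G, U))
    (hy : G.presheaf.map (homOfLE (X.basicOpen_le h)).op y = 0) : ∃ n : ℕ, h ^ n • y = 0 := by
  letI := moduleRes G (X.basicOpen_le h)
  haveI := isLocalizedModule_basicOpen G hU h
  have h1 : resₗ G (X.basicOpen_le h) y = resₗ G (X.basicOpen_le h) 0 := by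
    rw [map_zero]; exact hy
  obtain ⟨⟨_, n, rfl⟩, hc⟩ := IsLocalizedModule.exists_of_eq (S := Submonoid.powers h) h1
  refine ⟨n, ?_⟩
  rw [smul_zero] at hc
  exact hc

variable (F : X.Modules) [F.IsQuasicoherent] {ι : Type w} (G : ι → X.Modules)
  (u : ∀ i, F ⟶ G i)

/-- a separating family gives `MHSD` on every affine open. -/
theorem MHSD_of_separating (hsep : Separating F G u) {U : X.Opens} (hU : IsAffineOpen U) :
    MHSD Γ(X, U) (fun i => appₗ (u i) U) := by
  intro h m hm
  apply exists_pow_smul_eq_zero_of_res F hU h m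
  apply hsep
  intro i
  rw [app_res]
  obtain ⟨n, hn⟩ := hm i
  have hn' : (u i).app U (h ^ n • m) = 0 := hn
  rw [Scheme.Modules.Hom.app_smul] at hn'
  exact res_basicOpen_eq_zero_of_pow_smul (G i) h _ n hn'

/-- `MHSD` on an affine open cover gives a separating family. -/
theorem separating_of_MHSD [∀ i, (G i).IsQuasicoherent]
    (H : ∀ x : X, ∃ (U : X.Opens) (_ : IsAffineOpen U), x ∈ U ∧
      MHSD Γ(X, U) (fun i => appₗ (u i) U)) : Separating F G u := by
  intro V t ht
  refine Groth.Agent.Lib.Helper2.QcPush.section_eq_zero_of_cover F V t fun x hx => ?_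
  obtain ⟨U, hU, hxU, HU⟩ := H x
  obtain ⟨h, hhV, hxh⟩ := hU.exists_basicOpen_le (V := V) ⟨x, hx⟩ hxU
  refine ⟨X.basicOpen h, hhV, hxh, ?_⟩
  -- write `t|D(h)` as a fraction
  letI := moduleRes F (X.basicOpen_le h)
  haveI := isLocalizedModule_basicOpen F hU h
  obtain ⟨⟨m, ⟨_, n, rfl⟩⟩, hmn⟩ := IsLocalizedModule.surj (Submonoid.powers h)
    (resₗ F (X.basicOpen_le h)) (F.presheaf.map (homOfLE hhV).op t)
  have hmn' : (X.presheaf.map (homOfLE (X.basicOpen_le h)).op (h ^ n)) •
      F.presheaf.map (homOfLE hhV).op t = F.presheaf.map (homOfLE (X.basicOpen_le h)).op m := hmn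
  have hunit : IsUnit (X.presheaf.map (homOfLE (X.basicOpen_le h)).op h) :=
    RingedSpace.isUnit_res_basicOpen X.toRingedSpace h
  -- `m` restricts to zero
  have hm0 : F.presheaf.map (homOfLE (X.basicOpen_le h)).op m = 0 := by
    have key : ∀ i, ∃ k : ℕ, appₗ (u i) U (h ^ k • m) = 0 := by
      intro i
      have h1 : (G i).presheaf.map (homOfLE (X.basicOpen_le h)).op ((u i).app U m) = 0 := by
        rw [← app_res, ← hmn', Scheme.Modules.Hom.app_smul, app_res, ht i, map_zero, smul_zero]
      obtain ⟨k, hk⟩ := exists_pow_smul_eq_zero_of_res (G i) hU h _ h1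
      refine ⟨k, ?_⟩
      rw [appₗ_apply, Scheme.Modules.Hom.app_smul]
      exact hk
    obtain ⟨N, hN⟩ := HU h m key
    exact res_basicOpen_eq_zero_of_pow_smul F h m N hN
  rw [hm0, map_pow] at hmn'
  obtain ⟨w, hw⟩ := (hunit.pow n)
  have h2 := congrArg (fun z => (↑w⁻¹ : Γ(X, X.basicOpen h)) • z) hmn'
  simp only [smul_zero] at h2
  rw [← hw, smul_smul, Units.inv_mul, one_smul] at h2
  exact h2

end scheme

section pull
variable {X X' : Scheme.{u}} (g : X' ⟶ X) (F : X.Modules) [F.IsQuasicoherent] {ι : Type w}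
  (G : ι → X.Modules) [∀ i, (G i).IsQuasicoherent] (u : ∀ i, F ⟶ G i)

/-- **Glue**: the pulled back family is separating as soon as the tensor form of `MHSD` holds on
enough pairs of affine opens. -/
theorem separating_pullback_of_MHSD
    (hT : ∀ x' : X', ∃ (U : X.Opens) (U' : X'.Opens) (_ : IsAffineOpen U) (_ : IsAffineOpen U')
      (hle : U' ≤ g ⁻¹ᵁ U), x' ∈ U' ∧
      (letI := (g.appLE U U' hle).hom.toAlgebra
       MHSD Γ(X', U') (fun i => (appₗ (u i) U).baseChange Γ(X', U')))) :
    Separating ((Scheme.Modules.pullback g).obj F) (fun i => (Scheme.Modules.pullback g).obj (G i))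
      (fun i => (Scheme.Modules.pullback g).map (u i)) := by
  haveI : ((Scheme.Modules.pullback g).obj F).IsQuasicoherent :=
    Groth.Agent.Lib.Helper2.PullbackSec.isQuasicoherent_pullback g F
  haveI : ∀ i, ((Scheme.Modules.pullback g).obj (G i)).IsQuasicoherent := fun i =>
    Groth.Agent.Lib.Helper2.PullbackSec.isQuasicoherent_pullback g (G i)
  refine separating_of_MHSD _ _ _ fun x' => ?_
  obtain ⟨U, U', hU, hU', hle, hx', HT⟩ := hT x'
  refine ⟨U', hU', hx', ?_⟩
  letI := (g.appLE U U' hle).hom.toAlgebra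
  exact MHSD_of_universal (A := Γ(X, U)) (A' := Γ(X', U'))
    (unitSec g F hle) (fun a m => unitSec_smul g F hle a m)
    (fun P _ _ l hl => existsUnique_lift g F hU hU' hle P l hl)
    (fun i => unitSec g (G i) hle) (fun i a m => unitSec_smul g (G i) hle a m)
    (fun i P _ _ l hl => existsUnique_lift g (G i) hU hU' hle P l hl)
    (fun i => appₗ (u i) U) (fun i => appₗ ((Scheme.Modules.pullback g).map (u i)) U')
    (fun i m => Groth.Agent.Lib.Helper23.PB.map_unitSec g (u i) hle m) HT

end pull

end Groth.Agent.Lib.Helper4.SepFam
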