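import Mathlib
import Groth.Agent.Lib.Helper4SepFamB
import Groth.Agent.Lib.Helper4SchDomD
/-!
# helper4: separating families (EGA IV 11.9), base change over a field

* `MHSD_baseChange_of_algEquiv`: the tensor form of `MHSD` only depends on the isomorphism class
  of the algebra.
* `separating_pullback_fst_of_field`: over a field `k`, the pull back of a separating family of
  quasi-coherent modules on `X` to `X ×_k S'` is separating.
-/

set_option autoImplicit false
set_option linter.style.haveILetI false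
universe u v w
namespace Groth.Agent.Lib.Helper4.SepFam
open TensorProduct CategoryTheory CategoryTheory.Limits AlgebraicGeometry
open Groth.Agent.Lib.Helper4.SchDom

/-- the tensor form of `MHSD` is invariant under isomorphisms of the algebra. -/
theorem MHSD_baseChange_of_algEquiv {A : Type u} {A' A'' : Type v} [CommRing A] [CommRing A']
    [CommRing A''] [Algebra A A'] [Algebra A A''] (e : A' ≃ₐ[A] A'')
    {M : Type v} [AddCommGroup M] [Module A M] {J : Type w}
    {N : J → Type v} [∀ j, AddCommGroup (N j)] [∀ j, Module A (N j)] (u : ∀ j, M →ₗ[A] N j)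
    (H : MHSD A' (fun j => (u j).baseChange A')) :
    MHSD A'' (fun j => (u j).baseChange A'') := by
  have hsm : ∀ (P : Type v) [AddCommGroup P] [Module A P] (y : A') (x : A' ⊗[A] P),
      LinearMap.rTensor P e.toLinearMap (y • x) = e y • LinearMap.rTensor P e.toLinearMap x := by
    intro P _ _ y x
    induction x using TensorProduct.induction_on with
    | zero => simp
    | tmul a m =>
      rw [TensorProduct.smul_tmul', LinearMap.rTensor_tmul, LinearMap.rTensor_tmul,
        TensorProduct.smul_tmul', AlgEquiv.toLinearMap_apply, AlgEquiv.toLinearMap_apply,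
        smul_eq_mul, smul_eq_mul, map_mul]
    | add x z hx hz => rw [smul_add, map_add, hx, hz, map_add, smul_add]
  have hnat : ∀ j (x : A' ⊗[A] M),
      LinearMap.rTensor (N j) e.toLinearMap ((u j).baseChange A' x) =
        (u j).baseChange A'' (LinearMap.rTensor M e.toLinearMap x) := by
    intro j x
    induction x using TensorProduct.induction_on with
    | zero => simp
    | tmul a m => simp
    | add x z hx hz => rw [map_add, map_add, hx, hz, map_add, map_add]
  have hinj : ∀ (P : Type v) [AddCommGroup P] [Module A P],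
      Function.Injective (LinearMap.rTensor P e.toLinearMap) := by
    intro P _ _
    have h1 : (LinearMap.rTensor P e.symm.toLinearMap) ∘ₗ (LinearMap.rTensor P e.toLinearMap) =
        LinearMap.id := by
      rw [← LinearMap.rTensor_comp]
      have : e.symm.toLinearMap ∘ₗ e.toLinearMap = LinearMap.id := by
        ext x; simp
      rw [this, LinearMap.rTensor_id]
    exact Function.LeftInverse.injective (fun x => congrArg (fun m => m x) h1)
  have hsurj : ∀ x : A'' ⊗[A] M, ∃ y : A' ⊗[A] M, LinearMap.rTensor M e.toLinearMap y = x := by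
    intro x
    refine ⟨LinearMap.rTensor M e.symm.toLinearMap x, ?_⟩
    have h1 : (LinearMap.rTensor M e.toLinearMap) ∘ₗ (LinearMap.rTensor M e.symm.toLinearMap) =
        LinearMap.id := by
      rw [← LinearMap.rTensor_comp]
      have : e.toLinearMap ∘ₗ e.symm.toLinearMap = LinearMap.id := by
        ext x; simp
      rw [this, LinearMap.rTensor_id]
    exact congrArg (fun m => m x) h1
  intro s t ht
  obtain ⟨t₀, rfl⟩ := hsurj t
  obtain ⟨s₀, rfl⟩ := e.surjective s
  obtain ⟨n, hn⟩ := H s₀ t₀ (fun j => by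
    obtain ⟨n, hn⟩ := ht j
    refine ⟨n, hinj (N j) ?_⟩
    rw [map_zero, hnat, hsm, map_pow]
    exact hn)
  refine ⟨n, ?_⟩
  have := congrArg (LinearMap.rTensor M e.toLinearMap) hn
  rwa [hsm, map_pow, map_zero] at this

section field
variable {k : Type u} [Field k] {X S' : Scheme.{u}}
  (p : X ⟶ Spec (CommRingCat.of k)) (q : S' ⟶ Spec (CommRingCat.of k))
  (F : X.Modules) [F.IsQuasicoherent] {ι : Type w}
  (G : ι → X.Modules) [∀ i, (G i).IsQuasicoherent] (u : ∀ i, F ⟶ G i)

/-- **EGA IV 11.9.10 (case of a field)**: over a field `k`, the pull back of a separating family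
of quasi-coherent modules on `X` to `X ×_k S'` is separating. -/
theorem separating_pullback_fst_of_field (hsep : Separating F G u) :
    Separating ((Scheme.Modules.pullback (pullback.fst p q)).obj F)
      (fun i => (Scheme.Modules.pullback (pullback.fst p q)).obj (G i))
      (fun i => (Scheme.Modules.pullback (pullback.fst p q)).map (u i)) := by
  refine separating_pullback_of_MHSD (pullback.fst p q) F G u (fun x' => ?_)
  obtain ⟨_, ⟨U, hU, rfl⟩, hxU, -⟩ := X.isBasis_affineOpens.exists_subset_of_mem_open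
    (Set.mem_univ (pullback.fst p q x')) isOpen_univ
  obtain ⟨_, ⟨T, hT, rfl⟩, hxT, -⟩ := S'.isBasis_affineOpens.exists_subset_of_mem_open
    (Set.mem_univ (pullback.snd p q x')) isOpen_univ
  have H : IsPullback (pullback.fst p q) (pullback.snd p q) p q := IsPullback.of_hasPullback p q
  have hP : IsAffineOpen (pullback.fst p q ⁻¹ᵁ U ⊓ pullback.snd p q ⁻¹ᵁ T) :=
    isAffineOpen_box H (US := ⊤) le_top le_top (isAffineOpen_top _) hT hU
  refine ⟨U, pullback.fst p q ⁻¹ᵁ U ⊓ pullback.snd p q ⁻¹ᵁ T, hU, hP, inf_le_left, ⟨hxU, hxT⟩, ?_⟩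
  have hpo := isPushout_sections_box p q hU hT
  letI a1 : Algebra k Γ(X, U) :=
    ((Scheme.ΓSpecIso (CommRingCat.of k)).inv ≫ p.appLE ⊤ U le_top).hom.toAlgebra
  letI a2 : Algebra k Γ(S', T) :=
    ((Scheme.ΓSpecIso (CommRingCat.of k)).inv ≫ q.appLE ⊤ T le_top).hom.toAlgebra
  letI a3 : Algebra Γ(X, U) Γ(pullback p q, pullback.fst p q ⁻¹ᵁ U ⊓ pullback.snd p q ⁻¹ᵁ T) :=
    ((pullback.fst p q).appLE U _ inf_le_left).hom.toAlgebra
  letI a4 : Algebra Γ(S', T) Γ(pullback p q, pullback.fst p q ⁻¹ᵁ U ⊓ pullback.snd p q ⁻¹ᵁ T) :=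
    ((pullback.snd p q).appLE T _ inf_le_right).hom.toAlgebra
  letI a5 : Algebra k Γ(pullback p q, pullback.fst p q ⁻¹ᵁ U ⊓ pullback.snd p q ⁻¹ᵁ T) :=
    (((pullback.fst p q).appLE U _ inf_le_left).hom.comp
      ((Scheme.ΓSpecIso (CommRingCat.of k)).inv ≫ p.appLE ⊤ U le_top).hom).toAlgebra
  haveI t1 : IsScalarTower k Γ(X, U)
      Γ(pullback p q, pullback.fst p q ⁻¹ᵁ U ⊓ pullback.snd p q ⁻¹ᵁ T) :=
    IsScalarTower.of_algebraMap_eq (fun a => rfl)
  haveI t2 : IsScalarTower k Γ(S', T)
      Γ(pullback p q, pullback.fst p q ⁻¹ᵁ U ⊓ pullback.snd p q ⁻¹ᵁ T) :=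
    IsScalarTower.of_algebraMap_eq (fun a => by
      have := congrArg (fun m => m.hom a) hpo.w
      exact this)
  haveI hpush : Algebra.IsPushout k Γ(X, U) Γ(S', T)
      Γ(pullback p q, pullback.fst p q ⁻¹ᵁ U ⊓ pullback.snd p q ⁻¹ᵁ T) :=
    CommRingCat.isPushout_iff_isPushout.mp hpo
  exact MHSD_baseChange_of_algEquiv (Algebra.IsPushout.equiv k Γ(X, U) Γ(S', T) _) _
    (transfers_field _ (MHSD_of_separating F G u hsep hU))

end field

end Groth.Agent.Lib.Helper4.SepFam
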