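import Mathlib
import Groth.Agent.Lib.Helper4SepFamA
import Groth.Agent.Lib.Helper4UnivSchDomA
/-!
# helper4: universally separating families of module maps (EGA IV 11.9.16), part A

* `MHSD.of_surjective`, `MHSD.of_injective`: transport of `MHSD` along semilinear maps.
* `MHSD_baseChange_trans`: `MHSD` for an iterated base change.
* `nil_step_mod`, `nil_claim_mod`: module version of `nil_claim`: over a local ring `(Λ, 𝔪)` with
  `𝔪` nilpotent, a family of maps into flat `Λ`-modules, compatible with an operator `h`, which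
  is separating on `D(h)` modulo `𝔪` is separating on `D(h)`.
-/

set_option autoImplicit false
universe u v w
namespace Groth.Agent.Lib.Helper4.UnivSep
open TensorProduct
open Groth.Agent.Lib.Helper4.SepFam Groth.Agent.Lib.Helper4.UnivSchDom

/-- push forward of `MHSD` along surjective semilinear maps. -/
theorem MHSD.of_surjective {A₁ A₂ : Type*} [CommRing A₁] [CommRing A₂] (e : A₁ →+* A₂)
    (he : Function.Surjective e) {M₁ M₂ : Type*} [AddCommGroup M₁] [Module A₁ M₁]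
    [AddCommGroup M₂] [Module A₂ M₂] (eM : M₁ →+ M₂)
    (heM : ∀ (a : A₁) (m : M₁), eM (a • m) = e a • eM m) (hM : Function.Surjective eM)
    {J : Type*} {N₁ N₂ : J → Type*} [∀ j, AddCommGroup (N₁ j)] [∀ j, Module A₁ (N₁ j)]
    [∀ j, AddCommGroup (N₂ j)] [∀ j, Module A₂ (N₂ j)] (eN : ∀ j, N₁ j →+ N₂ j)
    (hN : ∀ j, Function.Injective (eN j)) (u₁ : ∀ j, M₁ →ₗ[A₁] N₁ j) (u₂ : ∀ j, M₂ →ₗ[A₂] N₂ j)
    (hcomm : ∀ j m, u₂ j (eM m) = eN j (u₁ j m)) (H : MHSD A₁ u₁) : MHSD A₂ u₂ := by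
  intro h₂ m₂ hm
  obtain ⟨h₁, rfl⟩ := he h₂
  obtain ⟨m₁, rfl⟩ := hM m₂
  obtain ⟨n, hn⟩ := H h₁ m₁ (fun j => by
    obtain ⟨n, hn⟩ := hm j
    refine ⟨n, hN j ?_⟩
    rw [map_zero, ← hcomm, heM, map_pow]
    exact hn)
  refine ⟨n, ?_⟩
  have := congrArg eM hn
  rwa [heM, map_pow, map_zero] at this

/-- pull back of `MHSD` along injective semilinear maps. -/
theorem MHSD.of_injective {A₁ A₂ : Type*} [CommRing A₁] [CommRing A₂] (e : A₂ →+* A₁)
    {M₁ M₂ : Type*} [AddCommGroup M₁] [Module A₁ M₁]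
    [AddCommGroup M₂] [Module A₂ M₂] (eM : M₂ →+ M₁)
    (heM : ∀ (a : A₂) (m : M₂), eM (a • m) = e a • eM m) (hM : Function.Injective eM)
    {J : Type*} {N₁ N₂ : J → Type*} [∀ j, AddCommGroup (N₁ j)] [∀ j, Module A₁ (N₁ j)]
    [∀ j, AddCommGroup (N₂ j)] [∀ j, Module A₂ (N₂ j)] (eN : ∀ j, N₂ j →+ N₁ j)
    (u₁ : ∀ j, M₁ →ₗ[A₁] N₁ j) (u₂ : ∀ j, M₂ →ₗ[A₂] N₂ j)
    (hcomm : ∀ j m, u₁ j (eM m) = eN j (u₂ j m)) (H : MHSD A₁ u₁) : MHSD A₂ u₂ := by
  intro h₂ m₂ hm
  obtain ⟨n, hn⟩ := H (e h₂) (eM m₂) (fun j => by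
    obtain ⟨n, hn⟩ := hm j
    refine ⟨n, ?_⟩
    rw [← map_pow, ← heM, hcomm, hn, map_zero])
  refine ⟨n, hM ?_⟩
  rw [heM, map_pow, hn, map_zero]

section trans
variable {A : Type*} [CommRing A] {B B' : Type*} [CommRing B] [CommRing B'] [Algebra A B]
  [Algebra B B'] [Algebra A B'] [IsScalarTower A B B']
  {M : Type*} [AddCommGroup M] [Module A M] {J : Type*}
  {N : J → Type*} [∀ j, AddCommGroup (N j)] [∀ j, Module A (N j)] (u : ∀ j, M →ₗ[A] N j)

/-- `MHSD` of an iterated base change. -/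
theorem MHSD_baseChange_trans :
    MHSD B' (fun j => ((u j).baseChange B).baseChange B') ↔
      MHSD B' (fun j => (u j).baseChange B') := by
  have hnat : ∀ j (x : B' ⊗[B] (B ⊗[A] M)),
      (u j).baseChange B' (TensorProduct.AlgebraTensorModule.cancelBaseChange A B B' B' M x) =
      TensorProduct.AlgebraTensorModule.cancelBaseChange A B B' B' (N j)
        (((u j).baseChange B).baseChange B' x) := by
    intro j x
    induction x using TensorProduct.induction_on with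
    | zero => simp
    | tmul b' y =>
      induction y using TensorProduct.induction_on with
      | zero => simp
      | tmul b m => simp
      | add y z hy hz =>
        rw [TensorProduct.tmul_add, map_add, map_add, hy, hz, map_add, map_add]
    | add x y hx hy => rw [map_add, map_add, hx, hy, map_add, map_add]
  constructor
  · intro H
    refine MHSD.of_surjective (RingHom.id B') Function.surjective_id
      (TensorProduct.AlgebraTensorModule.cancelBaseChange A B B' B' M).toLinearMap.toAddMonoidHom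
      (fun a m => by simp)
      (TensorProduct.AlgebraTensorModule.cancelBaseChange A B B' B' M).surjective
      (fun j => (TensorProduct.AlgebraTensorModule.cancelBaseChange A B B' B'
        (N j)).toLinearMap.toAddMonoidHom)
      (fun j => (TensorProduct.AlgebraTensorModule.cancelBaseChange A B B' B' (N j)).injective)
      _ _ (fun j x => hnat j x) H
  · intro H
    refine MHSD.of_injective (RingHom.id B')
      (TensorProduct.AlgebraTensorModule.cancelBaseChange A B B' B' M).toLinearMap.toAddMonoidHom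
      (fun a m => by simp)
      (TensorProduct.AlgebraTensorModule.cancelBaseChange A B B' B' M).injective
      (fun j => (TensorProduct.AlgebraTensorModule.cancelBaseChange A B B' B'
        (N j)).toLinearMap.toAddMonoidHom)
      _ _ (fun j x => hnat j x) H

end trans

section nil
variable {Λ : Type*} [CommRing Λ] (𝔪 : Ideal Λ) {P : Type*} [AddCommGroup P] [Module Λ P]
  (h : Module.End Λ P) {J : Type*} (Q : J → Type*) [∀ j, AddCommGroup (Q j)]
  [∀ j, Module Λ (Q j)] [∀ j, Module.Flat Λ (Q j)] (ψ : ∀ j, P →ₗ[Λ] Q j)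

omit [∀ j, Module.Flat Λ (Q j)] in
theorem map_mem_smul_top {X Y : Type*} [AddCommGroup X] [Module Λ X] [AddCommGroup Y]
    [Module Λ Y] (f : X →ₗ[Λ] Y) (I : Ideal Λ) {x : X} (hx : x ∈ I • (⊤ : Submodule Λ X)) :
    f x ∈ I • (⊤ : Submodule Λ Y) := by
  have : (I • (⊤ : Submodule Λ X)).map f ≤ I • (⊤ : Submodule Λ Y) := by
    rw [Submodule.map_smul'']
    exact Submodule.smul_mono le_rfl le_top
  exact this (Submodule.mem_map_of_mem hx)

omit [∀ j, Module.Flat Λ (Q j)] in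
theorem smul_mem_smul_top_succ (r : ℕ) {m : Λ} (hm : m ∈ 𝔪 ^ r) {y : P}
    (hy : y ∈ 𝔪 • (⊤ : Submodule Λ P)) : m • y ∈ (𝔪 ^ (r + 1)) • (⊤ : Submodule Λ P) := by
  have h1 : (𝔪 ^ (r + 1)) • (⊤ : Submodule Λ P) = (𝔪 ^ r) • (𝔪 • (⊤ : Submodule Λ P)) := by
    rw [pow_succ, Submodule.mul_smul]
  rw [h1]
  exact Submodule.smul_mem_smul hm hy

/-- The inner induction (module version of `nil_step`). -/
theorem nil_step_mod (hunit : ∀ u : Λ, u ∉ 𝔪 → IsUnit u) (r : ℕ)
    (Hm : ∀ τ : P, (∀ j, ∃ n : ℕ, ψ j ((h ^ n) τ) ∈ 𝔪 • (⊤ : Submodule Λ (Q j))) →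
      ∃ n : ℕ, (h ^ n) τ ∈ 𝔪 • (⊤ : Submodule Λ P))
    {ι : Type*} [DecidableEq ι] (s : Finset ι) :
    ∀ (m : ι → Λ) (x : ι → P), (∀ β ∈ s, m β ∈ 𝔪 ^ r) →
      (∀ j, ∃ n : ℕ, ψ j ((h ^ n) (∑ β ∈ s, m β • x β)) ∈
        (𝔪 ^ (r + 1)) • (⊤ : Submodule Λ (Q j))) →
      ∃ n : ℕ, (h ^ n) (∑ β ∈ s, m β • x β) ∈ (𝔪 ^ (r + 1)) • (⊤ : Submodule Λ P) := by
  classical
  induction s using Finset.strongInduction with
  | H s ih =>
    intro m x hm hj
    by_cases hind : ∀ c : ι → Λ, ∑ β ∈ s, c β * m β ∈ 𝔪 ^ (r + 1) → ∀ β ∈ s, c β ∈ 𝔪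
    · -- independent case
      have h1 : ∀ β ∈ s, ∃ n : ℕ, (h ^ n) (x β) ∈ 𝔪 • (⊤ : Submodule Λ P) := by
        intro β hβ
        refine Hm (x β) fun j => ?_
        obtain ⟨n, hn⟩ := hj j
        refine ⟨n, ?_⟩
        have h2 : ψ j ((h ^ n) (∑ β ∈ s, m β • x β)) = ∑ β ∈ s, m β • ψ j ((h ^ n) (x β)) := by
          rw [map_sum, map_sum]
          refine Finset.sum_congr rfl fun β _ => ?_
          rw [map_smul, map_smul]
        rw [h2] at hn
        exact mem_smul_top_of_indep 𝔪 r s m hind (fun β => ψ j ((h ^ n) (x β))) hn β hβ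
      choose! n hn using h1
      refine ⟨∑ β ∈ s, n β, ?_⟩
      rw [map_sum]
      refine Submodule.sum_mem _ fun β hβ => ?_
      rw [map_smul]
      refine smul_mem_smul_top_succ 𝔪 r (hm β hβ) ?_
      have hle : n β ≤ ∑ β ∈ s, n β := Finset.single_le_sum (f := n) (fun _ _ => Nat.zero_le _) hβ
      rw [← Nat.sub_add_cancel hle, pow_add, Module.End.mul_apply]
      exact map_mem_smul_top _ 𝔪 (hn β hβ)
    · -- dependent case
      push Not at hind
      obtain ⟨c, hc, β₀, hβ₀, hcβ₀⟩ := hind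
      obtain ⟨u, hu⟩ := hunit _ hcβ₀
      set ε : Λ := ↑u⁻¹ * ∑ β ∈ s, c β * m β with hε
      have hεm : ε ∈ 𝔪 ^ (r + 1) := Ideal.mul_mem_left _ _ hc
      let x' : ι → P := fun β => x β - (↑u⁻¹ * c β) • x β₀
      have hid : ∑ β ∈ s, m β • x β = ∑ β ∈ s.erase β₀, m β • x' β + ε • x β₀ := by
        have hε2 : ε = m β₀ + ∑ β ∈ s.erase β₀, (↑u⁻¹ * c β) * m β := by
          rw [hε, ← Finset.add_sum_erase s _ hβ₀, mul_add, ← mul_assoc, ← hu, Units.inv_mul,
            one_mul, Finset.mul_sum]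
          congr 1
          refine Finset.sum_congr rfl fun β _ => ?_
          rw [mul_assoc]
        rw [← Finset.add_sum_erase s _ hβ₀, hε2, add_smul, Finset.sum_smul]
        simp only [x', smul_sub, Finset.sum_sub_distrib]
        have : ∑ β ∈ s.erase β₀, m β • (↑u⁻¹ * c β) • x β₀ =
            ∑ β ∈ s.erase β₀, (↑u⁻¹ * c β * m β) • x β₀ := by
          refine Finset.sum_congr rfl fun β _ => ?_
          rw [smul_smul, mul_comm]
        rw [this]
        abel
      have hlt : s.erase β₀ ⊂ s := Finset.erase_ssubset hβ₀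
      have hεx : ∀ (k : ℕ), (h ^ k) (ε • x β₀) ∈ (𝔪 ^ (r + 1)) • (⊤ : Submodule Λ P) := by
        intro k
        rw [map_smul]
        exact Submodule.smul_mem_smul hεm Submodule.mem_top
      obtain ⟨n, hn⟩ := ih (s.erase β₀) hlt m x'
        (fun β hβ => hm β (Finset.mem_of_mem_erase hβ)) (fun j => by
          obtain ⟨n, hn⟩ := hj j
          refine ⟨n, ?_⟩
          have h3 : ∑ β ∈ s.erase β₀, m β • x' β = ∑ β ∈ s, m β • x β - ε • x β₀ := by
            rw [hid, add_sub_cancel_right]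
          rw [h3, map_sub, map_sub]
          exact Submodule.sub_mem _ hn (map_mem_smul_top (ψ j) _ (hεx n)))
      refine ⟨n, ?_⟩
      rw [hid, map_add]
      exact Submodule.add_mem _ hn (hεx n)

/-- **Nilpotent local base, module version.** -/
theorem nil_claim_mod (hunit : ∀ u : Λ, u ∉ 𝔪 → IsUnit u) (N : ℕ) (hnil : 𝔪 ^ N = ⊥)
    (hQ : ∀ j, Module.End Λ (Q j)) (hψ : ∀ j x, ψ j (h x) = hQ j (ψ j x))
    (Hm : ∀ τ : P, (∀ j, ∃ n : ℕ, ψ j ((h ^ n) τ) ∈ 𝔪 • (⊤ : Submodule Λ (Q j))) →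
      ∃ n : ℕ, (h ^ n) τ ∈ 𝔪 • (⊤ : Submodule Λ P))
    (a : P) (ha : ∀ j, ∃ n : ℕ, ψ j ((h ^ n) a) = 0) : ∃ n : ℕ, (h ^ n) a = 0 := by
  classical
  have hψn : ∀ j (k : ℕ) x, ψ j ((h ^ k) x) = (hQ j ^ k) (ψ j x) := by
    intro j k
    induction k with
    | zero => intro x; simp
    | succ k ih =>
      intro x
      rw [pow_succ, Module.End.mul_apply, ih, hψ, pow_succ, Module.End.mul_apply]
  have P' : ∀ r : ℕ, ∃ n : ℕ, (h ^ n) a ∈ (𝔪 ^ r) • (⊤ : Submodule Λ P) := by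
    intro r
    induction r with
    | zero => exact ⟨0, by rw [pow_zero, Ideal.one_eq_top, Submodule.top_smul]; trivial⟩
    | succ r ih =>
      obtain ⟨n₀, hn₀⟩ := ih
      obtain ⟨a', ha', hsum⟩ := exists_finsupp_of_mem_smul_top _ hn₀
      have hsum' : ∑ β ∈ a'.support, a' β • (id β : P) = (h ^ n₀) a := hsum
      obtain ⟨n, hn⟩ := nil_step_mod 𝔪 h Q ψ hunit r Hm a'.support (fun β => a' β) id
        (fun β _ => ha' β) (fun j => by
          obtain ⟨n, hn⟩ := ha j
          refine ⟨n, ?_⟩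
          have e1 : (h ^ n) ((h ^ n₀) a) = (h ^ n₀) ((h ^ n) a) := by
            rw [← Module.End.mul_apply, ← Module.End.mul_apply, ← pow_add, ← pow_add, add_comm]
          rw [hsum', e1, hψn, hn, map_zero]
          exact Submodule.zero_mem _)
      refine ⟨n + n₀, ?_⟩
      rw [hsum'] at hn
      have e2 : (h ^ (n + n₀)) a = (h ^ n) ((h ^ n₀) a) := by
        rw [← Module.End.mul_apply, ← pow_add]
      rw [e2]
      exact hn
  obtain ⟨n, hn⟩ := P' N
  rw [hnil, Submodule.bot_smul, Submodule.mem_bot] at hn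
  exact ⟨n, hn⟩

end nil

end Groth.Agent.Lib.Helper4.UnivSep
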