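import Mathlib
import Groth.Agent.Lib.Helper4UnivSepA
import Groth.Agent.Lib.Helper4UnivSchDomB
/-!
# helper4: universally separating families of module maps (EGA IV 11.9.16), part B

Fibre criterion over a Noetherian total space, `C`-tensor form.

* `hE`, `uE`, `PureSD`: the base change of the data to a `C`-algebra `E`, `C`-tensor form, and the
  separation property on the opens `D(h)`, `h ∈ A`.
* `nil_fibre_mod`: base change to the infinitesimal neighbourhoods of a prime of `C`.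
* `noeth_fibre_mod`: `A` Noetherian, `M` finite, `N j` flat over `C`: `PureSD` at all residue
  fields implies `MHSD A u`.
-/

set_option autoImplicit false
set_option linter.style.haveILetI false
universe u v w
namespace Groth.Agent.Lib.Helper4.UnivSep
open TensorProduct
open Groth.Agent.Lib.Helper4.SepFam Groth.Agent.Lib.Helper4.UnivSchDom

section defs
variable (C : Type*) [CommRing C] {A : Type*} [CommRing A] [Algebra C A]
  (M : Type*) [AddCommGroup M] [Module A M] [Module C M] [IsScalarTower C A M]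
  (E : Type*) [CommRing E] [Algebra C E]

/-- the action of `h ∈ A` on `E ⊗[C] M`. -/
noncomputable def hE (h : A) : Module.End E (E ⊗[C] M) :=
  LinearMap.baseChange E ((LinearMap.lsmul A M h).restrictScalars C)

@[simp]
theorem hE_tmul (h : A) (e : E) (m : M) : hE C M E h (e ⊗ₜ[C] m) = e ⊗ₜ[C] (h • m) := by
  simp [hE]

theorem hE_pow_tmul (h : A) (n : ℕ) (e : E) (m : M) :
    (hE C M E h ^ n) (e ⊗ₜ[C] m) = e ⊗ₜ[C] (h ^ n • m) := by
  induction n generalizing m with
  | zero => simp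
  | succ n ih => rw [pow_succ, Module.End.mul_apply, hE_tmul, ih, pow_succ, mul_smul]

variable {M} {J : Type*} {N : J → Type*} [∀ j, AddCommGroup (N j)] [∀ j, Module A (N j)]
  [∀ j, Module C (N j)] [∀ j, IsScalarTower C A (N j)] (u : ∀ j, M →ₗ[A] N j)

/-- the base change of `u j` to `E`, `C`-tensor form. -/
noncomputable def uE (j : J) : E ⊗[C] M →ₗ[E] E ⊗[C] N j :=
  LinearMap.baseChange E ((u j).restrictScalars C)

@[simp]
theorem uE_tmul (j : J) (e : E) (m : M) : uE C E u j (e ⊗ₜ[C] m) = e ⊗ₜ[C] (u j m) := by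
  simp [uE]

theorem uE_hE (j : J) (h : A) (x : E ⊗[C] M) :
    uE C E u j (hE C M E h x) = hE C (N j) E h (uE C E u j x) := by
  induction x using TensorProduct.induction_on with
  | zero => simp
  | tmul e m => simp
  | add x y hx hy => rw [map_add, map_add, hx, hy, map_add, map_add]

/-- separation on the opens `D(h)`, `h ∈ A`, after base change to `E`. -/
def PureSD : Prop :=
  ∀ (h : A) (τ : E ⊗[C] M), (∀ j, ∃ n : ℕ, uE C E u j ((hE C M E h ^ n) τ) = 0) →
    ∃ n : ℕ, (hE C M E h ^ n) τ = 0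

end defs

section fibre
variable {C : Type u} [CommRing C] {A : Type u} [CommRing A] [Algebra C A]
  {M : Type u} [AddCommGroup M] [Module A M] [Module C M] [IsScalarTower C A M]
  {J : Type w} {N : J → Type u} [∀ j, AddCommGroup (N j)] [∀ j, Module A (N j)]
  [∀ j, Module C (N j)] [∀ j, IsScalarTower C A (N j)] (u : ∀ j, M →ₗ[A] N j)

set_option maxHeartbeats 800000 in
/-- Base change to the `n`-th infinitesimal neighbourhood of a prime of the base. -/
theorem nil_fibre_mod [∀ j, Module.Flat C (N j)] (𝔭 : Ideal C) [𝔭.IsPrime]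
    (FH : PureSD C 𝔭.ResidueField u) (n : ℕ) (h : A) (t : M)
    (ht : ∀ j, ∃ m : ℕ, u j (h ^ m • t) = 0) :
    ∃ m : ℕ, (1 : Thick 𝔭 n) ⊗ₜ[C] (h ^ m • t) = 0 := by
  classical
  have key := nil_claim_mod (thickMax 𝔭 n) (hE C M (Thick 𝔭 n) h)
    (fun j => Thick 𝔭 n ⊗[C] N j) (fun j => uE C (Thick 𝔭 n) u j)
    (thick_isUnit 𝔭 n) (n + 1) (thickMax_pow 𝔭 n) (fun j => hE C (N j) (Thick 𝔭 n) h)
    (fun j x => uE_hE C (Thick 𝔭 n) u j h x) ?_ ((1 : Thick 𝔭 n) ⊗ₜ[C] t) ?_
  · obtain ⟨m, hm⟩ := key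
    refine ⟨m, ?_⟩
    rw [hE_pow_tmul] at hm
    exact hm
  · -- fibre hypothesis
    intro τ hτ
    let ΦM := TensorProduct.AlgebraTensorModule.cancelBaseChange C (Thick 𝔭 n) 𝔭.ResidueField
      𝔭.ResidueField M
    let ΦN := fun j => TensorProduct.AlgebraTensorModule.cancelBaseChange C (Thick 𝔭 n)
      𝔭.ResidueField 𝔭.ResidueField (N j)
    have hnat1 : ∀ (y : Thick 𝔭 n ⊗[C] M),
        ΦM ((1 : 𝔭.ResidueField) ⊗ₜ[Thick 𝔭 n] (hE C M (Thick 𝔭 n) h y)) =
        hE C M 𝔭.ResidueField h (ΦM ((1 : 𝔭.ResidueField) ⊗ₜ[Thick 𝔭 n] y)) := by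
      intro y
      induction y using TensorProduct.induction_on with
      | zero => simp
      | tmul l a =>
        simp only [ΦM, hE_tmul, TensorProduct.AlgebraTensorModule.cancelBaseChange_tmul]
      | add y z hy hz =>
        rw [map_add, TensorProduct.tmul_add, map_add, hy, hz, TensorProduct.tmul_add, map_add,
          map_add]
    have hnat1' : ∀ (k : ℕ) (y : Thick 𝔭 n ⊗[C] M),
        ΦM ((1 : 𝔭.ResidueField) ⊗ₜ[Thick 𝔭 n] ((hE C M (Thick 𝔭 n) h ^ k) y)) =
        (hE C M 𝔭.ResidueField h ^ k) (ΦM ((1 : 𝔭.ResidueField) ⊗ₜ[Thick 𝔭 n] y)) := by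
      intro k
      induction k with
      | zero => intro y; simp
      | succ k ih =>
        intro y
        have e1 : hE C M (Thick 𝔭 n) h ^ (k + 1) =
            hE C M (Thick 𝔭 n) h ^ k * hE C M (Thick 𝔭 n) h := pow_succ _ _
        have e2 : hE C M 𝔭.ResidueField h ^ (k + 1) =
            hE C M 𝔭.ResidueField h ^ k * hE C M 𝔭.ResidueField h := pow_succ _ _
        rw [e1, e2, Module.End.mul_apply, ih, hnat1, Module.End.mul_apply]
    have hnat2 : ∀ j (y : Thick 𝔭 n ⊗[C] M),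
        ΦN j ((1 : 𝔭.ResidueField) ⊗ₜ[Thick 𝔭 n] (uE C (Thick 𝔭 n) u j y)) =
        uE C 𝔭.ResidueField u j (ΦM ((1 : 𝔭.ResidueField) ⊗ₜ[Thick 𝔭 n] y)) := by
      intro j y
      induction y using TensorProduct.induction_on with
      | zero => simp
      | tmul l a =>
        simp only [ΦM, ΦN, uE_tmul, TensorProduct.AlgebraTensorModule.cancelBaseChange_tmul]
      | add y z hy hz =>
        rw [map_add, TensorProduct.tmul_add, map_add, hy, hz, TensorProduct.tmul_add, map_add,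
          map_add]
    obtain ⟨m, hm⟩ := FH h (ΦM ((1 : 𝔭.ResidueField) ⊗ₜ[Thick 𝔭 n] τ)) (fun j => by
      obtain ⟨m, hm⟩ := hτ j
      refine ⟨m, ?_⟩
      rw [← hnat1', ← hnat2]
      have hm' := (one_tmul_eq_zero_iff (thickMax 𝔭 n) 𝔭.ResidueField
        (thick_surjective 𝔭 n) (thick_ker 𝔭 n) (N := Thick 𝔭 n ⊗[C] N j) _).mpr hm
      rw [hm', map_zero])
    refine ⟨m, ?_⟩
    refine (one_tmul_eq_zero_iff (thickMax 𝔭 n) 𝔭.ResidueField (thick_surjective 𝔭 n)
      (thick_ker 𝔭 n) (N := Thick 𝔭 n ⊗[C] M) _).mp ?_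
    rw [← hnat1'] at hm
    exact ΦM.injective (by rw [hm, map_zero])
  · intro j
    obtain ⟨m, hm⟩ := ht j
    refine ⟨m, ?_⟩
    rw [hE_pow_tmul, uE_tmul, hm, TensorProduct.tmul_zero]

set_option maxHeartbeats 800000 in
/-- **Noetherian total space, fibrewise criterion for modules (exponent form).** -/
theorem noeth_fibre_mod [IsNoetherianRing A] [Module.Finite A M] [∀ j, Module.Flat C (N j)]
    (FH : ∀ (𝔭 : Ideal C) [𝔭.IsPrime], PureSD C 𝔭.ResidueField u) : MHSD A u := by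
  classical
  intro h t ht
  by_contra hne
  push Not at hne
  -- a prime `𝔮` containing the annihilator of `t` and not `h`
  let It : Ideal A := LinearMap.ker (LinearMap.toSpanSingleton A M t)
  have hIt : ∀ x, x ∈ It ↔ x • t = 0 := fun x => by
    simp only [It, LinearMap.mem_ker, LinearMap.toSpanSingleton_apply]
  have hrad : h ∉ It.radical := by
    rintro ⟨n, hn⟩
    exact hne n ((hIt _).mp hn)
  rw [Ideal.radical_eq_sInf, Ideal.mem_sInf] at hrad
  push Not at hrad
  obtain ⟨𝔮, ⟨hle, h𝔮⟩, hh𝔮⟩ := hrad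
  haveI := h𝔮
  have ht0 : LocalizedModule.mkLinearMap 𝔮.primeCompl M t ≠ 0 := by
    intro h0
    rw [IsLocalizedModule.eq_zero_iff 𝔮.primeCompl] at h0
    obtain ⟨c, hc⟩ := h0
    exact c.2 (hle ((hIt _).mpr hc))
  -- the prime of `C`
  let 𝔭 : Ideal C := 𝔮.comap (algebraMap C A)
  haveI : 𝔭.IsPrime := Ideal.comap_isPrime _ _
  let I : Ideal (Localization.AtPrime 𝔮) := 𝔭.map (algebraMap C (Localization.AtPrime 𝔮))
  have hImax : I ≤ IsLocalRing.maximalIdeal (Localization.AtPrime 𝔮) := by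
    rw [Ideal.map_le_iff_le_comap]
    intro c hc
    rw [Ideal.mem_comap, IsScalarTower.algebraMap_apply C A (Localization.AtPrime 𝔮),
      IsLocalization.AtPrime.to_map_mem_maximal_iff (Localization.AtPrime 𝔮) 𝔮]
    exact hc
  have hItop : I ≠ ⊤ := fun h => (IsLocalRing.maximalIdeal.isMaximal _).ne_top
    (top_le_iff.mp (h ▸ hImax))
  have hkrull := Ideal.iInf_pow_smul_eq_bot_of_isLocalRing (R := Localization.AtPrime 𝔮)
    (M := LocalizedModule 𝔮.primeCompl M) I hItop
  have hn : ∃ n : ℕ, LocalizedModule.mkLinearMap 𝔮.primeCompl M t ∉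
      I ^ (n + 1) • (⊤ : Submodule (Localization.AtPrime 𝔮) (LocalizedModule 𝔮.primeCompl M)) := by
    by_contra hcon
    push Not at hcon
    apply ht0
    have : LocalizedModule.mkLinearMap 𝔮.primeCompl M t ∈ (⨅ i : ℕ, I ^ i •
        (⊤ : Submodule (Localization.AtPrime 𝔮) (LocalizedModule 𝔮.primeCompl M))) := by
      rw [Submodule.mem_iInf]
      intro i
      exact (Submodule.smul_mono (Ideal.pow_le_pow_right (Nat.le_succ i)) le_rfl) (hcon i)
    rwa [hkrull, Submodule.mem_bot] at this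
  obtain ⟨n, hn⟩ := hn
  obtain ⟨m, hm⟩ := nil_fibre_mod u 𝔭 (FH 𝔭) n h t ht
  -- the comparison map `Thick 𝔭 n → A_𝔮 / I^(n+1)`
  let f1r : Localization.AtPrime 𝔭 →+* Localization.AtPrime 𝔮 :=
    Localization.localRingHom 𝔭 𝔮 (algebraMap C A) rfl
  have hf1 : ∀ c : C, f1r (algebraMap C _ c) = algebraMap C (Localization.AtPrime 𝔮) c := by
    intro c
    rw [Localization.localRingHom_to_map, ← IsScalarTower.algebraMap_apply]
  let f0 : Localization.AtPrime 𝔭 →+* (Localization.AtPrime 𝔮 ⧸ I ^ (n + 1)) :=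
    (Ideal.Quotient.mk (I ^ (n + 1))).comp f1r
  have hf0 : ∀ a ∈ (IsLocalRing.maximalIdeal (Localization.AtPrime 𝔭)) ^ (n + 1), f0 a = 0 := by
    intro a ha
    show Ideal.Quotient.mk _ (f1r a) = 0
    rw [Ideal.Quotient.eq_zero_iff_mem]
    have hle2 : (IsLocalRing.maximalIdeal (Localization.AtPrime 𝔭)) ^ (n + 1) ≤
        (I ^ (n + 1)).comap f1r := by
      rw [← IsLocalization.AtPrime.map_eq_maximalIdeal 𝔭 (Localization.AtPrime 𝔭),
        ← Ideal.map_pow, Ideal.map_le_iff_le_comap, Ideal.comap_comap]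
      intro c hc
      rw [Ideal.mem_comap, RingHom.comp_apply, hf1]
      rw [← Ideal.map_pow]
      exact Ideal.mem_map_of_mem _ hc
    exact hle2 ha
  let fT : Thick 𝔭 n →+* (Localization.AtPrime 𝔮 ⧸ I ^ (n + 1)) :=
    Ideal.Quotient.lift _ f0 hf0
  have hfT : ∀ c : C, fT (algebraMap C (Thick 𝔭 n) c) =
      Ideal.Quotient.mk _ (algebraMap C (Localization.AtPrime 𝔮) c) := by
    intro c
    have : algebraMap C (Thick 𝔭 n) c =
        Ideal.Quotient.mk _ (algebraMap C (Localization.AtPrime 𝔭) c) := rfl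
    rw [this, Ideal.Quotient.lift_mk]
    show Ideal.Quotient.mk _ (f1r _) = _
    rw [hf1]
  -- the map to `M_𝔮 / I^(n+1) M_𝔮`
  let Y := LocalizedModule 𝔮.primeCompl M ⧸
    (I ^ (n + 1) • (⊤ : Submodule (Localization.AtPrime 𝔮) (LocalizedModule 𝔮.primeCompl M)))
  let g : M →+ Y := (Submodule.mkQ _).toAddMonoidHom.comp
    (LocalizedModule.mkLinearMap 𝔮.primeCompl M).toAddMonoidHom
  have hg : ∀ (c : C) (x : M), g (c • x) =
      Ideal.Quotient.mk (I ^ (n + 1)) (algebraMap C (Localization.AtPrime 𝔮) c) • g x := by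
    intro c x
    show Submodule.Quotient.mk (LocalizedModule.mkLinearMap 𝔮.primeCompl M (c • x)) =
      Ideal.Quotient.mk (I ^ (n + 1)) (algebraMap C (Localization.AtPrime 𝔮) c) •
        Submodule.Quotient.mk (LocalizedModule.mkLinearMap 𝔮.primeCompl M x)
    rw [Module.Quotient.mk_smul_mk, ← algebraMap_smul A c x, map_smul,
      IsScalarTower.algebraMap_apply C A (Localization.AtPrime 𝔮),
      algebraMap_smul (Localization.AtPrime 𝔮) (algebraMap C A c)
        (LocalizedModule.mkLinearMap 𝔮.primeCompl M x)]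
  let β : Thick 𝔭 n →+ M →+ Y :=
    ((smulAddHom (Localization.AtPrime 𝔮 ⧸ I ^ (n + 1)) Y).comp fT.toAddMonoidHom).compl₂ g
  have hβ : ∀ (l : Thick 𝔭 n) (x : M), β l x = fT l • g x := fun l x => rfl
  let Θ : Thick 𝔭 n ⊗[C] M →+ Y := TensorProduct.liftAddHom β (fun c l x => by
    rw [hβ, hβ, hg, Algebra.smul_def, map_mul, hfT, mul_comm, mul_smul])
  have hΘ : Θ ((1 : Thick 𝔭 n) ⊗ₜ[C] (h ^ m • t)) = g (h ^ m • t) := by
    show β 1 (h ^ m • t) = _
    rw [hβ, map_one, one_smul]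
  rw [hm, map_zero] at hΘ
  have hmem : LocalizedModule.mkLinearMap 𝔮.primeCompl M (h ^ m • t) ∈
      I ^ (n + 1) • (⊤ : Submodule (Localization.AtPrime 𝔮) (LocalizedModule 𝔮.primeCompl M)) :=
    (Submodule.Quotient.mk_eq_zero _).mp hΘ.symm
  rw [map_smul, ← algebraMap_smul (Localization.AtPrime 𝔮), map_pow] at hmem
  have hunit : IsUnit (algebraMap A (Localization.AtPrime 𝔮) h) :=
    IsLocalization.map_units _ (⟨h, hh𝔮⟩ : 𝔮.primeCompl)
  obtain ⟨w, hw⟩ := hunit.pow m
  apply hn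
  have := Submodule.smul_mem _ (↑w⁻¹ : Localization.AtPrime 𝔮) hmem
  rwa [← hw, smul_smul, Units.inv_mul, one_smul] at this

end fibre

end Groth.Agent.Lib.Helper4.UnivSep
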