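import Mathlib
import Groth.Agent.Lib.Helper4UnivSepB
import Groth.Agent.Lib.Helper4SepFamC
/-!
# helper4: universally separating families (EGA IV 11.9.16), part C
`Sep C u E` (base change form of separation after base change to `E`), `PureSD_of_Sep`,
`ιA`, `eP` (functoriality in `E`) and their compatibilities.
-/

set_option autoImplicit false
set_option linter.style.haveILetI false
universe u v w
namespace Groth.Agent.Lib.Helper4.UnivSep
open TensorProduct
open Groth.Agent.Lib.Helper4.SepFam Groth.Agent.Lib.Helper4.UnivSchDom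

attribute [local instance] Algebra.TensorProduct.rightAlgebra

section sepdef
variable (C : Type u) [CommRing C] {A : Type u} [CommRing A] [Algebra C A]
  {M : Type u} [AddCommGroup M] [Module A M]
  {J : Type w} {N : J → Type u} [∀ j, AddCommGroup (N j)] [∀ j, Module A (N j)]
  (u : ∀ j, M →ₗ[A] N j)

/-- separation after base change to `E`, base change form (`E` on the left). -/
def Sep (E : Type u) [CommRing E] [Algebra C E] : Prop :=
  MHSD (E ⊗[C] A) (fun j => (u j).baseChange (E ⊗[C] A))

end sepdef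

section sep
variable {C : Type u} [CommRing C] {A : Type u} [CommRing A] [Algebra C A]
  {M : Type u} [AddCommGroup M] [Module A M] [Module C M] [IsScalarTower C A M]
  {J : Type w} {N : J → Type u} [∀ j, AddCommGroup (N j)] [∀ j, Module A (N j)]
  [∀ j, Module C (N j)] [∀ j, IsScalarTower C A (N j)] (u : ∀ j, M →ₗ[A] N j)

variable (C) in
theorem cbc_symm_hE (E : Type u) [CommRing E] [Algebra C E] (P : Type u) [AddCommGroup P]
    [Module A P] [Module C P] [IsScalarTower C A P] (h : A) (y : E ⊗[C] P) :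
    (Algebra.IsPushout.cancelBaseChange C E A (E ⊗[C] A) P).symm (hE C P E h y) =
      algebraMap A (E ⊗[C] A) h • (Algebra.IsPushout.cancelBaseChange C E A (E ⊗[C] A) P).symm y := by
  induction y using TensorProduct.induction_on with
  | zero => simp
  | tmul e p =>
    rw [hE_tmul, Algebra.IsPushout.cancelBaseChange_symm_tmul,
      Algebra.IsPushout.cancelBaseChange_symm_tmul, TensorProduct.smul_tmul', smul_eq_mul,
      ← TensorProduct.smul_tmul, Algebra.smul_def]
  | add x y hx hy => rw [map_add, map_add, map_add, hx, hy, smul_add]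

variable (C) in
theorem cbc_symm_hE_pow (E : Type u) [CommRing E] [Algebra C E] (P : Type u) [AddCommGroup P]
    [Module A P] [Module C P] [IsScalarTower C A P] (h : A) (k : ℕ) (y : E ⊗[C] P) :
    (Algebra.IsPushout.cancelBaseChange C E A (E ⊗[C] A) P).symm ((hE C P E h ^ k) y) =
      (algebraMap A (E ⊗[C] A) h) ^ k •
        (Algebra.IsPushout.cancelBaseChange C E A (E ⊗[C] A) P).symm y := by
  induction k generalizing y with
  | zero => simp
  | succ k ih =>
    have e1 : hE C P E h ^ (k + 1) = hE C P E h ^ k * hE C P E h := pow_succ _ _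
    rw [e1, Module.End.mul_apply, ih, cbc_symm_hE, smul_smul, ← pow_succ]

theorem cbc_symm_uE (E : Type u) [CommRing E] [Algebra C E] (j : J) (y : E ⊗[C] M) :
    (Algebra.IsPushout.cancelBaseChange C E A (E ⊗[C] A) (N j)).symm (uE C E u j y) =
      (u j).baseChange (E ⊗[C] A)
        ((Algebra.IsPushout.cancelBaseChange C E A (E ⊗[C] A) M).symm y) := by
  induction y using TensorProduct.induction_on with
  | zero => simp
  | tmul e p =>
    rw [uE_tmul, Algebra.IsPushout.cancelBaseChange_symm_tmul,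
      Algebra.IsPushout.cancelBaseChange_symm_tmul, LinearMap.baseChange_tmul]
  | add x y hx hy => rw [map_add, map_add, map_add, hx, hy, map_add]

/-- from the base change form to the `C`-tensor form. -/
theorem PureSD_of_Sep (E : Type u) [CommRing E] [Algebra C E] (H : Sep C u E) : PureSD C E u := by
  intro h τ hτ
  obtain ⟨n, hn⟩ := H (algebraMap A (E ⊗[C] A) h)
    ((Algebra.IsPushout.cancelBaseChange C E A (E ⊗[C] A) M).symm τ) (fun j => by
      obtain ⟨n, hn⟩ := hτ j
      refine ⟨n, ?_⟩
      rw [← cbc_symm_hE_pow, ← cbc_symm_uE, hn, map_zero])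
  refine ⟨n, ?_⟩
  rw [← cbc_symm_hE_pow] at hn
  exact (LinearEquiv.map_eq_zero_iff _).mp hn

section iota
variable {E₁ E₂ : Type u} [CommRing E₁] [CommRing E₂] [Algebra C E₁] [Algebra C E₂]
  (φ : E₁ →ₐ[C] E₂)

/-- the `A`-algebra map `E₁ ⊗[C] A → E₂ ⊗[C] A` induced by `φ : E₁ →ₐ[C] E₂`. -/
noncomputable def ιA : E₁ ⊗[C] A →ₐ[A] E₂ ⊗[C] A :=
  { (Algebra.TensorProduct.map φ (AlgHom.id C A)).toRingHom with
    commutes' := fun a => by
      show (Algebra.TensorProduct.map φ (AlgHom.id C A)) ((1 : E₁) ⊗ₜ[C] a) = (1 : E₂) ⊗ₜ[C] a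
      simp }

@[simp]
theorem ιA_tmul (e : E₁) (a : A) : ιA φ (e ⊗ₜ[C] a) = φ e ⊗ₜ[C] a := by
  show (Algebra.TensorProduct.map φ (AlgHom.id C A)) (e ⊗ₜ[C] a) = _
  simp

variable (P : Type u) [AddCommGroup P] [Module A P]

/-- the induced map on base changes of modules. -/
noncomputable def eP : (E₁ ⊗[C] A) ⊗[A] P →ₗ[A] (E₂ ⊗[C] A) ⊗[A] P :=
  LinearMap.rTensor P (ιA φ).toLinearMap

@[simp]
theorem eP_tmul (b : E₁ ⊗[C] A) (p : P) : eP φ P (b ⊗ₜ[A] p) = ιA φ b ⊗ₜ[A] p := by
  simp [eP]

theorem eP_smul (b : E₁ ⊗[C] A) (x : (E₁ ⊗[C] A) ⊗[A] P) :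
    eP φ P (b • x) = ιA φ b • eP φ P x := by
  induction x using TensorProduct.induction_on with
  | zero => simp
  | tmul b' p =>
    rw [TensorProduct.smul_tmul', eP_tmul, eP_tmul, TensorProduct.smul_tmul', smul_eq_mul,
      smul_eq_mul, map_mul]
  | add x z hx hz => rw [smul_add, map_add, hx, hz, map_add, smul_add]

omit [Module C M] [IsScalarTower C A M] [∀ j, Module C (N j)] [∀ j, IsScalarTower C A (N j)] in
theorem eP_nat (j : J) (x : (E₁ ⊗[C] A) ⊗[A] M) :
    eP φ (N j) ((u j).baseChange (E₁ ⊗[C] A) x) = (u j).baseChange (E₂ ⊗[C] A) (eP φ M x) := by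
  induction x using TensorProduct.induction_on with
  | zero => simp
  | tmul b m => simp
  | add x z hx hz => rw [map_add, map_add, hx, hz, map_add, map_add]

variable [Module C P] [IsScalarTower C A P]

theorem eP_cbc_symm (y : E₁ ⊗[C] P) :
    eP φ P ((Algebra.IsPushout.cancelBaseChange C E₁ A (E₁ ⊗[C] A) P).symm y) =
      (Algebra.IsPushout.cancelBaseChange C E₂ A (E₂ ⊗[C] A) P).symm
        (LinearMap.rTensor P φ.toLinearMap y) := by
  induction y using TensorProduct.induction_on with
  | zero => simp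
  | tmul e p =>
    rw [Algebra.IsPushout.cancelBaseChange_symm_tmul, eP_tmul, LinearMap.rTensor_tmul,
      Algebra.IsPushout.cancelBaseChange_symm_tmul]
    congr 1
  | add x z hx hz => rw [map_add, map_add, hx, hz, map_add, map_add]

theorem eP_injective (hφ : Function.Injective
    (LinearMap.rTensor (R := C) P φ.toLinearMap)) :
    Function.Injective (eP (A := A) φ P) := by
  intro x y hxy
  obtain ⟨x', rfl⟩ := (Algebra.IsPushout.cancelBaseChange C E₁ A (E₁ ⊗[C] A) P).symm.surjective x
  obtain ⟨y', rfl⟩ := (Algebra.IsPushout.cancelBaseChange C E₁ A (E₁ ⊗[C] A) P).symm.surjective y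
  rw [eP_cbc_symm, eP_cbc_symm] at hxy
  rw [hφ ((LinearEquiv.injective _) hxy)]

end iota

end sep
end Groth.Agent.Lib.Helper4.UnivSep
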