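import Mathlib
import Groth.Agent.Lib.Helper4UnivSepC
/-!
# helper4: universally separating families (EGA IV 11.9.16), part D
`Sep_of_injective`, `Sep_trans` (transitivity), `Sep_field_desc`, `Sep_field_ext`.
-/

set_option autoImplicit false
set_option linter.style.haveILetI false
universe u v w
namespace Groth.Agent.Lib.Helper4.UnivSep
open TensorProduct
open Groth.Agent.Lib.Helper4.SepFam Groth.Agent.Lib.Helper4.UnivSchDom

attribute [local instance] Algebra.TensorProduct.rightAlgebra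

section
variable {C : Type u} [CommRing C] {A : Type u} [CommRing A] [Algebra C A]
  {M : Type u} [AddCommGroup M] [Module A M]
  {J : Type w} {N : J → Type u} [∀ j, AddCommGroup (N j)] [∀ j, Module A (N j)]
  (u : ∀ j, M →ₗ[A] N j)

theorem Sep_of_injective {E₁ E₂ : Type u} [CommRing E₁] [CommRing E₂] [Algebra C E₁]
    [Algebra C E₂] (φ : E₁ →ₐ[C] E₂) (hφ : Function.Injective (eP (A := A) φ M))
    (H : Sep C u E₂) : Sep C u E₁ :=
  MHSD.of_injective (ιA φ).toRingHom (eP φ M).toAddMonoidHom (fun a m => eP_smul φ M a m) hφ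
    (fun j => (eP φ (N j)).toAddMonoidHom) _ _ (fun j m => (eP_nat u φ j m).symm) H

/-- transitivity of base change for `Sep`. -/
theorem Sep_trans (E : Type u) [CommRing E] [Algebra C E] (E' : Type u) [CommRing E']
    [Algebra C E'] [Algebra E E'] [IsScalarTower C E E'] :
    Sep E (fun j => (u j).baseChange (E ⊗[C] A)) E' ↔ Sep C u E' := by
  letI : Algebra A (E' ⊗[E] (E ⊗[C] A)) :=
    ((algebraMap (E ⊗[C] A) (E' ⊗[E] (E ⊗[C] A))).comp (algebraMap A (E ⊗[C] A))).toAlgebra
  haveI : IsScalarTower A (E ⊗[C] A) (E' ⊗[E] (E ⊗[C] A)) :=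
    IsScalarTower.of_algebraMap_eq' rfl
  let e0 : E' ⊗[E] (E ⊗[C] A) ≃ₐ[E'] E' ⊗[C] A :=
    Algebra.TensorProduct.cancelBaseChange C E E' E' A
  let e : E' ⊗[E] (E ⊗[C] A) ≃ₐ[A] E' ⊗[C] A :=
    AlgEquiv.ofRingEquiv (f := e0.toRingEquiv) (fun a => by
      show e0 ((1 : E') ⊗ₜ[E] ((1 : E) ⊗ₜ[C] a)) = (1 : E') ⊗ₜ[C] a
      simp [e0])
  unfold Sep
  rw [MHSD_baseChange_trans (A := A) (B := E ⊗[C] A) (B' := E' ⊗[E] (E ⊗[C] A)) u]
  constructor
  · intro H
    exact MHSD_baseChange_of_algEquiv e u H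
  · intro H
    exact MHSD_baseChange_of_algEquiv e.symm u H

/-- descent of `Sep` along a field extension. -/
theorem Sep_field_desc {K L : Type u} [Field K] [Field L] [Algebra C K] [Algebra C L]
    (φ : K →ₐ[C] L) (H : Sep C u L) : Sep C u K := by
  letI : Module C M := Module.compHom M (algebraMap C A)
  haveI : IsScalarTower C A M := ⟨fun c a m => by
    show (c • a) • m = algebraMap C A c • (a • m)
    rw [Algebra.smul_def, mul_smul]⟩
  refine Sep_of_injective u φ (eP_injective φ M ?_) H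
  letI : Algebra K L := φ.toRingHom.toAlgebra
  haveI : IsScalarTower C K L := IsScalarTower.of_algebraMap_eq (fun c => (φ.commutes c).symm)
  obtain ⟨r, hr⟩ := LinearMap.exists_leftInverse_of_injective (Algebra.linearMap K L)
    (LinearMap.ker_eq_bot.mpr (algebraMap K L).injective)
  have h2 : (r.restrictScalars C) ∘ₗ φ.toLinearMap = LinearMap.id := by
    ext x
    exact LinearMap.congr_fun hr x
  have h1 : (LinearMap.rTensor M (r.restrictScalars C)) ∘ₗ (LinearMap.rTensor M φ.toLinearMap) =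
      LinearMap.id := by
    rw [← LinearMap.rTensor_comp, h2, LinearMap.rTensor_id]
  exact Function.LeftInverse.injective (fun x => LinearMap.congr_fun h1 x)

/-- extension of `Sep` along a field extension. -/
theorem Sep_field_ext {K L : Type u} [Field K] [Field L] [Algebra C K] [Algebra C L]
    (φ : K →ₐ[C] L) (H : Sep C u K) : Sep C u L := by
  letI : Algebra K L := φ.toRingHom.toAlgebra
  haveI : IsScalarTower C K L := IsScalarTower.of_algebraMap_eq (fun c => (φ.commutes c).symm)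
  rw [← Sep_trans u K L]
  have h1 := transfers_field (k := K) (A := K ⊗[C] A) (C := L)
    (fun j => (u j).baseChange (K ⊗[C] A)) H
  let e0 : (K ⊗[C] A) ⊗[K] L ≃ₐ[K] L ⊗[K] (K ⊗[C] A) :=
    Algebra.TensorProduct.comm K (K ⊗[C] A) L
  let e : (K ⊗[C] A) ⊗[K] L ≃ₐ[K ⊗[C] A] L ⊗[K] (K ⊗[C] A) :=
    AlgEquiv.ofRingEquiv (f := e0.toRingEquiv) (fun b => by
      show e0 (b ⊗ₜ[K] (1 : L)) = (1 : L) ⊗ₜ[K] b
      simp [e0])
  exact MHSD_baseChange_of_algEquiv e _ h1

end
end Groth.Agent.Lib.Helper4.UnivSep
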