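import Mathlib
import Groth.Agent.Lib.Helper4UnivSepD
import Groth.Agent.Lib.Helper4UnivSchDomC
/-!
# helper4: universally separating families (EGA IV 11.9.16), part E
`Sep_of_finiteType`, `Sep_univ`, `Sep_residueField_of_ker`, `Sep_univ_of_fields`: for `A`
Noetherian, `M` finite, `N j` flat over `C`: `Sep` on the fibres implies `Sep` for all `E`.
-/

set_option autoImplicit false
set_option linter.style.haveILetI false
universe u v w
namespace Groth.Agent.Lib.Helper4.UnivSep
open TensorProduct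
open Groth.Agent.Lib.Helper4.SepFam Groth.Agent.Lib.Helper4.UnivSchDom

attribute [local instance] Algebra.TensorProduct.rightAlgebra

section
variable {C : Type u} [CommRing C] {A : Type u} [CommRing A] [Algebra C A]
  {M : Type u} [AddCommGroup M] [Module A M]
  {J : Type w} {N : J → Type u} [∀ j, AddCommGroup (N j)] [∀ j, Module A (N j)]
  [∀ j, Module C (N j)] [∀ j, IsScalarTower C A (N j)]
  (u : ∀ j, M →ₗ[A] N j)


/-- `Sep` for finite type base changes, from the fibres. -/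
theorem Sep_of_finiteType [IsNoetherianRing A] [Module.Finite A M] [∀ j, Module.Flat C (N j)]
    (FH : ∀ (𝔭 : Ideal C) [𝔭.IsPrime], Sep C u 𝔭.ResidueField)
    (E : Type u) [CommRing E] [Algebra C E] [Algebra.FiniteType C E] : Sep C u E := by
  haveI : IsNoetherianRing (A ⊗[C] E) := Algebra.FiniteType.isNoetherianRing A (A ⊗[C] E)
  haveI : IsNoetherianRing (E ⊗[C] A) :=
    isNoetherianRing_of_ringEquiv (A ⊗[C] E) (Algebra.TensorProduct.comm C A E).toRingEquiv
  haveI : ∀ j, Module.Flat E ((E ⊗[C] A) ⊗[A] N j) := fun j =>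
    Module.Flat.of_linearEquiv (Algebra.IsPushout.cancelBaseChange C E A (E ⊗[C] A) (N j))
  refine noeth_fibre_mod (C := E) (A := E ⊗[C] A) (M := (E ⊗[C] A) ⊗[A] M)
    (N := fun j => (E ⊗[C] A) ⊗[A] N j) (fun j => (u j).baseChange (E ⊗[C] A)) ?_
  intro 𝔓 _
  refine PureSD_of_Sep _ 𝔓.ResidueField ?_
  rw [Sep_trans u E 𝔓.ResidueField]
  let 𝔭 := 𝔓.comap (algebraMap C E)
  exact Sep_field_ext u (Ideal.ResidueField.mapₐ 𝔭 𝔓 (Algebra.ofId C E) rfl) (FH 𝔭)

omit [∀ j, Module C (N j)] [∀ j, IsScalarTower C A (N j)] in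
/-- elements of the base change to `E` come from a finitely generated subalgebra. -/
theorem exists_fg_subalgebra_mod (E : Type u) [CommRing E] [Algebra C E] (h : E ⊗[C] A)
    (m : (E ⊗[C] A) ⊗[A] M) :
    ∃ E₀ : Subalgebra C E, E₀.FG ∧ (∃ h₀, ιA (A := A) E₀.val h₀ = h) ∧
      ∃ m₀, eP (A := A) E₀.val M m₀ = m := by
  classical
  obtain ⟨T, hT⟩ := TensorProduct.exists_finset m
  obtain ⟨E₀, hfg, hmem⟩ := exists_fg_subalgebra_mem_range_left (C := C) (A := A) (C' := E)
    (insert h (T.image Prod.fst))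
  have hιr : ∀ x ∈ insert h (T.image Prod.fst), ∃ y : E₀ ⊗[C] A, ιA (A := A) E₀.val y = x := by
    intro x hx
    obtain ⟨y, hy⟩ := hmem x hx
    exact ⟨y, hy⟩
  choose! pre hpre using hιr
  refine ⟨E₀, hfg, ⟨pre h, hpre h (Finset.mem_insert_self _ _)⟩,
    ∑ i ∈ T, pre i.1 ⊗ₜ[A] i.2, ?_⟩
  rw [map_sum, hT]
  refine Finset.sum_congr rfl fun i hi => ?_
  rw [eP_tmul, hpre i.1 (Finset.mem_insert_of_mem (Finset.mem_image_of_mem _ hi))]

/-- **Universal separation from the fibres (module level).** -/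
theorem Sep_univ [IsNoetherianRing A] [Module.Finite A M] [∀ j, Module.Flat C (N j)]
    (FH : ∀ (𝔭 : Ideal C) [𝔭.IsPrime], Sep C u 𝔭.ResidueField)
    (E : Type u) [CommRing E] [Algebra C E] : Sep C u E := by
  intro h m hm
  obtain ⟨E₀, hfg, ⟨h₀, hh₀⟩, m₀, hm₀⟩ := exists_fg_subalgebra_mod (C := C) E h m
  haveI : Algebra.FiniteType C E₀ := (Subalgebra.fg_iff_finiteType E₀).mp hfg
  have hinj : ∀ j, Function.Injective (eP (A := A) E₀.val (N j)) := fun j =>
    eP_injective E₀.val (N j)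
      (Module.Flat.rTensor_preserves_injective_linearMap _ Subtype.val_injective)
  obtain ⟨n, hn⟩ := Sep_of_finiteType u FH E₀ h₀ m₀ (fun j => by
    obtain ⟨n, hn⟩ := hm j
    refine ⟨n, hinj j ?_⟩
    rw [map_zero, eP_nat, eP_smul, map_pow, hh₀, hm₀]
    exact hn)
  refine ⟨n, ?_⟩
  have := congrArg (eP (A := A) E₀.val M) hn
  rwa [eP_smul, map_pow, hh₀, hm₀, map_zero] at this

omit [∀ j, Module C (N j)] [∀ j, IsScalarTower C A (N j)] in
/-- `Sep` for the residue field of `𝔭` from `Sep` for any field with kernel `𝔭`. -/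
theorem Sep_residueField_of_ker (𝔭 : Ideal C) [𝔭.IsPrime] (K : Type u) [Field K] [Algebra C K]
    (hker : RingHom.ker (algebraMap C K) = 𝔭) (H : Sep C u K) : Sep C u 𝔭.ResidueField := by
  let f : 𝔭.ResidueField →ₐ[C] K := Ideal.ResidueField.liftₐ 𝔭 (Algebra.ofId C K)
    (by rw [← hker]; exact le_rfl)
    (by
      intro c hc
      rw [Submonoid.mem_comap, IsUnit.mem_submonoid_iff]
      refine IsUnit.mk0 _ (fun h0 => hc ?_)
      rw [← hker]
      exact h0)
  exact Sep_field_desc u f H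

/-- **Universal separation from the fibres, final form.** -/
theorem Sep_univ_of_fields [IsNoetherianRing A] [Module.Finite A M] [∀ j, Module.Flat C (N j)]
    (FH : ∀ (𝔭 : Ideal C) [𝔭.IsPrime], ∃ (K : Type u) (_ : Field K) (_ : Algebra C K),
      RingHom.ker (algebraMap C K) = 𝔭 ∧ Sep C u K)
    (E : Type u) [CommRing E] [Algebra C E] : Sep C u E := by
  refine Sep_univ u (fun 𝔭 _ => ?_) E
  obtain ⟨K, _, _, hker, H⟩ := FH 𝔭
  exact Sep_residueField_of_ker u 𝔭 K hker H

end
end Groth.Agent.Lib.Helper4.UnivSep
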