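import Mathlib
import Groth.Agent.Lib.Helper4UnivSepE
import Groth.Agent.Lib.Helper4NilFreeA
/-!
# helper4: separating families over a nilpotent base with free graded pieces (module version)

* `indep_step_mod`, `exists_rewrite_mod`, `nil_free_claim_mod`: module versions of the lemmas of
  `Helper4NilFreeA`.
* `MHSD_of_Sep_mod_nilpotent`: for `J ⊆ C` nilpotent with `J^k/J^(k+1)` free over `C/J` and `N j`
  flat over `C`, `Sep C u (C ⧸ J)` implies `MHSD A u`.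
* `Sep_of_fg_subalgebras`: for `N j` flat over `C`, `Sep C u E` follows from `Sep C u E₀` for all
  finitely generated subalgebras `E₀ ⊆ E`.
-/

set_option autoImplicit false
set_option linter.style.haveILetI false
universe u v w
namespace Groth.Agent.Lib.Helper4.UnivSep
open TensorProduct
open Groth.Agent.Lib.Helper4.SepFam Groth.Agent.Lib.Helper4.UnivSchDom
open Groth.Agent.Lib.Helper4.NilFree

section nil
variable {Λ : Type*} [CommRing Λ] (𝔪 : Ideal Λ) {P : Type*} [AddCommGroup P] [Module Λ P]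
  (h : Module.End Λ P) {J : Type*} (Q : J → Type*) [∀ j, AddCommGroup (Q j)]
  [∀ j, Module Λ (Q j)] [∀ j, Module.Flat Λ (Q j)] (ψ : ∀ j, P →ₗ[Λ] Q j)

/-- The independent step, module version. -/
theorem indep_step_mod (r : ℕ)
    (Hm : ∀ τ : P, (∀ j, ∃ n : ℕ, ψ j ((h ^ n) τ) ∈ 𝔪 • (⊤ : Submodule Λ (Q j))) →
      ∃ n : ℕ, (h ^ n) τ ∈ 𝔪 • (⊤ : Submodule Λ P))
    {ι : Type*} (s : Finset ι) (m : ι → Λ) (x : ι → P) (hm : ∀ β ∈ s, m β ∈ 𝔪 ^ r)
    (hind : ∀ c : ι → Λ, ∑ β ∈ s, c β * m β ∈ 𝔪 ^ (r + 1) → ∀ β ∈ s, c β ∈ 𝔪)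
    (hj : ∀ j, ∃ n : ℕ, ψ j ((h ^ n) (∑ β ∈ s, m β • x β)) ∈
      (𝔪 ^ (r + 1)) • (⊤ : Submodule Λ (Q j))) :
    ∃ n : ℕ, (h ^ n) (∑ β ∈ s, m β • x β) ∈ (𝔪 ^ (r + 1)) • (⊤ : Submodule Λ P) := by
  classical
  have h1 : ∀ β ∈ s, ∃ n : ℕ, (h ^ n) (x β) ∈ 𝔪 • (⊤ : Submodule Λ P) := by
    intro β hβ
    refine Hm (x β) fun j => ?_
    obtain ⟨n, hn⟩ := hj j
    refine ⟨n, ?_⟩
    have h2 : ψ j ((h ^ n) (∑ β ∈ s, m β • x β)) = ∑ β ∈ s, m β • ψ j ((h ^ n) (x β)) := by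
      rw [map_sum, map_sum]
      refine Finset.sum_congr rfl fun β _ => ?_
      rw [map_smul, map_smul]
    rw [h2] at hn
    exact mem_smul_top_of_indep 𝔪 r s m hind (fun β => ψ j ((h ^ n) (x β))) hn β hβ
  choose! n hn using h1
  refine ⟨∑ β ∈ s, n β, ?_⟩
  rw [map_sum]
  refine Submodule.sum_mem _ fun β hβ => ?_
  rw [map_smul]
  refine smul_mem_smul_top_succ 𝔪 r (hm β hβ) ?_
  have hle : n β ≤ ∑ β ∈ s, n β := Finset.single_le_sum (f := n) (fun _ _ => Nat.zero_le _) hβ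
  rw [← Nat.sub_add_cancel hle, pow_add, Module.End.mul_apply]
  exact map_mem_smul_top _ 𝔪 (hn β hβ)

omit [∀ j, Module.Flat Λ (Q j)] in
/-- rewriting an element of `𝔪^r P` in terms of the "basis" modulo `𝔪^(r+1) P`. -/
theorem exists_rewrite_mod (r : ℕ) {I : Type*} (e : I → Λ)
    (hspan : ∀ m : Λ, m ∈ 𝔪 ^ r → ∃ (T : Finset I) (c : I → Λ),
      m - ∑ γ ∈ T, c γ * e γ ∈ 𝔪 ^ (r + 1))
    (x : P) (hx : x ∈ (𝔪 ^ r) • (⊤ : Submodule Λ P)) :
    ∃ y : I →₀ P, x - (y.sum fun γ z => e γ • z) ∈ (𝔪 ^ (r + 1)) • (⊤ : Submodule Λ P) := by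
  classical
  induction hx using Submodule.smul_induction_on' with
  | smul m hm z _ =>
    obtain ⟨T, c, hc⟩ := hspan m hm
    refine ⟨∑ γ ∈ T, Finsupp.single γ (c γ • z), ?_⟩
    have h1 : ((∑ γ ∈ T, Finsupp.single γ (c γ • z) : I →₀ P).sum fun γ z => e γ • z) =
        (∑ γ ∈ T, c γ * e γ) • z := by
      rw [← Finsupp.sum_finsetSum_index (h_zero := fun γ => smul_zero _)
        (h_add := fun γ z₁ z₂ => smul_add _ _ _), Finset.sum_smul]
      refine Finset.sum_congr rfl fun γ _ => ?_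
      rw [Finsupp.sum_single_index (h := fun γ z => e γ • z) (smul_zero _), smul_smul, mul_comm]
    rw [h1, ← sub_smul]
    exact Submodule.smul_mem_smul hc Submodule.mem_top
  | add x₁ _ x₂ _ ih₁ ih₂ =>
    obtain ⟨y₁, hy₁⟩ := ih₁
    obtain ⟨y₂, hy₂⟩ := ih₂
    refine ⟨y₁ + y₂, ?_⟩
    rw [Finsupp.sum_add_index' (fun γ => smul_zero _) (fun γ z₁ z₂ => smul_add _ _ _)]
    have : x₁ + x₂ - ((y₁.sum fun γ z => e γ • z) + (y₂.sum fun γ z => e γ • z)) =
        (x₁ - (y₁.sum fun γ z => e γ • z)) + (x₂ - (y₂.sum fun γ z => e γ • z)) := by abel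
    rw [this]
    exact Submodule.add_mem _ hy₁ hy₂

/-- **Nilpotent base with free graded pieces, module version.** -/
theorem nil_free_claim_mod (N : ℕ) (hnil : 𝔪 ^ N = ⊥) (I : ℕ → Type*) (e : ∀ r, I r → Λ)
    (he : ∀ r γ, e r γ ∈ 𝔪 ^ r)
    (hspan : ∀ r (m : Λ), m ∈ 𝔪 ^ r → ∃ (T : Finset (I r)) (c : I r → Λ),
      m - ∑ γ ∈ T, c γ * e r γ ∈ 𝔪 ^ (r + 1))
    (hind : ∀ r (T : Finset (I r)) (c : I r → Λ), ∑ γ ∈ T, c γ * e r γ ∈ 𝔪 ^ (r + 1) →
      ∀ γ ∈ T, c γ ∈ 𝔪)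
    (hQ : ∀ j, Module.End Λ (Q j)) (hψ : ∀ j x, ψ j (h x) = hQ j (ψ j x))
    (Hm : ∀ τ : P, (∀ j, ∃ n : ℕ, ψ j ((h ^ n) τ) ∈ 𝔪 • (⊤ : Submodule Λ (Q j))) →
      ∃ n : ℕ, (h ^ n) τ ∈ 𝔪 • (⊤ : Submodule Λ P))
    (a : P) (ha : ∀ j, ∃ n : ℕ, ψ j ((h ^ n) a) = 0) : ∃ n : ℕ, (h ^ n) a = 0 := by
  classical
  have hψn : ∀ j (k : ℕ) x, ψ j ((h ^ k) x) = (hQ j ^ k) (ψ j x) := by
    intro j k
    induction k with
    | zero => intro x; simp
    | succ k ih =>
      intro x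
      rw [pow_succ, Module.End.mul_apply, ih, hψ, pow_succ, Module.End.mul_apply]
  have P' : ∀ r : ℕ, ∃ n : ℕ, (h ^ n) a ∈ (𝔪 ^ r) • (⊤ : Submodule Λ P) := by
    intro r
    induction r with
    | zero => exact ⟨0, by rw [pow_zero, Ideal.one_eq_top, Submodule.top_smul]; trivial⟩
    | succ r ih =>
      obtain ⟨n₀, hn₀⟩ := ih
      obtain ⟨y, hy⟩ := exists_rewrite_mod 𝔪 r (e r) (hspan r) _ hn₀
      have hy' : (y.sum fun γ z => e r γ • z) = ∑ γ ∈ y.support, e r γ • y γ := rfl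
      rw [hy'] at hy
      obtain ⟨n, hn⟩ := indep_step_mod 𝔪 h Q ψ r Hm y.support (e r) (fun γ => y γ)
        (fun γ _ => he r γ) (fun c hc => hind r y.support c hc) (fun j => by
          obtain ⟨n, hn⟩ := ha j
          refine ⟨n, ?_⟩
          have e1 : (h ^ n) (∑ γ ∈ y.support, e r γ • y γ) =
              (h ^ n₀) ((h ^ n) a) - (h ^ n) ((h ^ n₀) a - ∑ γ ∈ y.support, e r γ • y γ) := by
            rw [map_sub, ← Module.End.mul_apply, ← Module.End.mul_apply, ← pow_add, ← pow_add,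
              add_comm n₀ n]
            abel
          rw [e1, map_sub, hψn, hn, map_zero, zero_sub]
          refine Submodule.neg_mem _ ?_
          exact map_mem_smul_top (ψ j) _ (map_mem_smul_top _ _ hy))
      refine ⟨n + n₀, ?_⟩
      have e2 : (h ^ (n + n₀)) a = (h ^ n) (∑ γ ∈ y.support, e r γ • y γ) +
          (h ^ n) ((h ^ n₀) a - ∑ γ ∈ y.support, e r γ • y γ) := by
        rw [← map_add, add_sub_cancel, ← Module.End.mul_apply, ← pow_add]
      rw [e2]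
      exact Submodule.add_mem _ hn (map_mem_smul_top _ _ hy)
  obtain ⟨n, hn⟩ := P' N
  rw [hnil, Submodule.bot_smul, Submodule.mem_bot] at hn
  exact ⟨n, hn⟩

end nil

section app
variable {C : Type u} [CommRing C] {A : Type u} [CommRing A] [Algebra C A]
  {M : Type u} [AddCommGroup M] [Module A M] [Module C M] [IsScalarTower C A M]
  {J' : Type w} {N : J' → Type u} [∀ j, AddCommGroup (N j)] [∀ j, Module A (N j)]
  [∀ j, Module C (N j)] [∀ j, IsScalarTower C A (N j)] (u : ∀ j, M →ₗ[A] N j)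

variable (C) in
/-- multiplication by `h : A` as a `C`-linear endomorphism. -/
def mulEnd (P : Type*) [AddCommGroup P] [Module A P] [Module C P] [IsScalarTower C A P] (h : A) :
    Module.End C P where
  toFun m := h • m
  map_add' := smul_add h
  map_smul' c m := smul_algebra_smul_comm c h m

omit [Module C M] [IsScalarTower C A M] in
theorem mulEnd_pow (P : Type*) [AddCommGroup P] [Module A P] [Module C P] [IsScalarTower C A P]
    (h : A) (n : ℕ) (m : P) : (mulEnd C P h ^ n) m = h ^ n • m := by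
  induction n generalizing m with
  | zero => simp
  | succ n ih =>
    rw [pow_succ, Module.End.mul_apply, ih, pow_succ, mul_smul]
    rfl

/-- **Separation modulo a nilpotent ideal with free graded pieces (ring level).** -/
theorem MHSD_of_Sep_mod_nilpotent [∀ j, Module.Flat C (N j)] (J : Ideal C) (hJ : IsNilpotent J)
    (hfree : ∀ k : ℕ, Module.Free (C ⧸ J) ((C ⧸ J) ⊗[C] ↥(J ^ k))) (H : Sep C u (C ⧸ J)) :
    MHSD A u := by
  classical
  have HP : PureSD C (C ⧸ J) u := PureSD_of_Sep u (C ⧸ J) H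
  obtain ⟨N₀, hN₀⟩ := hJ
  choose I e he hspan hind using fun r => @exists_basis_lifts C _ J r (hfree r)
  have hsurj : Function.Surjective (algebraMap C (C ⧸ J)) := Ideal.Quotient.mk_surjective
  have hker : RingHom.ker (algebraMap C (C ⧸ J)) = J := by
    rw [Ideal.Quotient.algebraMap_eq, Ideal.mk_ker]
  intro h a ha
  have key := nil_free_claim_mod J (mulEnd C M h) N (fun j => (u j).restrictScalars C) N₀
    (by rw [hN₀, Ideal.zero_eq_bot]) I e he hspan hind (fun j => mulEnd C (N j) h)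
    (fun j x => map_smul (u j) h x) ?_ a ?_
  · obtain ⟨n, hn⟩ := key
    exact ⟨n, by rw [← mulEnd_pow (C := C)]; exact hn⟩
  · intro τ hτ
    obtain ⟨n, hn⟩ := HP h ((1 : C ⧸ J) ⊗ₜ[C] τ) (fun j => by
      obtain ⟨n, hn⟩ := hτ j
      refine ⟨n, ?_⟩
      rw [hE_pow_tmul, uE_tmul]
      rw [mulEnd_pow] at hn
      exact (one_tmul_eq_zero_iff J (C ⧸ J) hsurj hker _).mpr hn)
    refine ⟨n, ?_⟩
    rw [hE_pow_tmul] at hn
    rw [mulEnd_pow]
    exact (one_tmul_eq_zero_iff J (C ⧸ J) hsurj hker _).mp hn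
  · intro j
    obtain ⟨n, hn⟩ := ha j
    refine ⟨n, ?_⟩
    rw [mulEnd_pow]
    exact hn

omit [Module C M] [IsScalarTower C A M] in
/-- For `N j` flat over `C`, `Sep C u E` follows from `Sep C u E₀` for all finitely generated
subalgebras `E₀` of `E`. -/
theorem Sep_of_fg_subalgebras [∀ j, Module.Flat C (N j)] (E : Type u) [CommRing E] [Algebra C E]
    (H : ∀ E₀ : Subalgebra C E, E₀.FG → Sep C u E₀) : Sep C u E := by
  intro h m hm
  obtain ⟨E₀, hfg, ⟨h₀, hh₀⟩, m₀, hm₀⟩ := exists_fg_subalgebra_mod (C := C) E h m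
  have hinj : ∀ j, Function.Injective (eP (A := A) E₀.val (N j)) := fun j =>
    eP_injective E₀.val (N j)
      (Module.Flat.rTensor_preserves_injective_linearMap _ Subtype.val_injective)
  obtain ⟨n, hn⟩ := H E₀ hfg h₀ m₀ (fun j => by
    obtain ⟨n, hn⟩ := hm j
    refine ⟨n, hinj j ?_⟩
    rw [map_zero, eP_nat, eP_smul, map_pow, hh₀, hm₀]
    exact hn)
  refine ⟨n, ?_⟩
  have := congrArg (eP (A := A) E₀.val M) hn
  rwa [eP_smul, map_pow, hh₀, hm₀, map_zero] at this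

end app

end Groth.Agent.Lib.Helper4.UnivSep
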