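import Mathlib
import Groth.Agent.Lib.Helper4UnivSchDomC
set_option autoImplicit false
universe u v w
namespace Groth.Agent.Lib.Helper4.UnivSchDom
open TensorProduct CategoryTheory Limits

/-- The exponent form of schematic dominance for a pushout model of the base change to `E`
is equivalent to `SD C ψ E`. -/
theorem hsd_pushout_iff {C A E : Type u} [CommRing C] [CommRing A] [CommRing E] [Algebra C A]
    [Algebra C E] {J : Type w} {B : J → Type u} [∀ j, CommRing (B j)] [∀ j, Algebra C (B j)]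
    (ψ : ∀ j, A →ₐ[C] B j)
    {R : CommRingCat.{u}} (φ : CommRingCat.of A ⟶ R) (γ : CommRingCat.of E ⟶ R)
    (hR : IsPushout (CommRingCat.ofHom (algebraMap C A)) (CommRingCat.ofHom (algebraMap C E)) φ γ)
    {R' : J → CommRingCat.{u}} (χ : ∀ j, CommRingCat.of (B j) ⟶ R' j)
    (γ' : ∀ j, CommRingCat.of E ⟶ R' j)
    (hR' : ∀ j, IsPushout (CommRingCat.ofHom (algebraMap C (B j)))
      (CommRingCat.ofHom (algebraMap C E)) (χ j) (γ' j))
    (ψ' : ∀ j, R ⟶ R' j) (h1 : ∀ j, φ ≫ ψ' j = CommRingCat.ofHom (ψ j).toRingHom ≫ χ j)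
    (h2 : ∀ j, γ ≫ ψ' j = γ' j) :
    (∀ s a' : R, (∀ j, ∃ M : ℕ, (ψ' j).hom (s ^ M * a') = 0) → ∃ M : ℕ, s ^ M * a' = 0) ↔
      SD C ψ E := by
  have hT := (CommRingCat.isPushout_tensorProduct C E A).flip
  have hTj := fun j => (CommRingCat.isPushout_tensorProduct C E (B j)).flip
  let e := hT.isoIsPushout _ _ hR
  let ej := fun j => (hTj j).isoIsPushout _ _ (hR' j)
  have he1 : CommRingCat.ofHom (Algebra.TensorProduct.includeRight (R := C) (A := E)
      (B := A)).toRingHom ≫ e.hom = φ := hT.inl_isoIsPushout_hom _ _ hR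
  have he2 : CommRingCat.ofHom (Algebra.TensorProduct.includeLeftRingHom (R := C) (A := E)
      (B := A)) ≫ e.hom = γ := hT.inr_isoIsPushout_hom _ _ hR
  have hej1 : ∀ j, CommRingCat.ofHom (Algebra.TensorProduct.includeRight (R := C) (A := E)
      (B := B j)).toRingHom ≫ (ej j).hom = χ j :=
    fun j => (hTj j).inl_isoIsPushout_hom _ _ (hR' j)
  have hej2 : ∀ j, CommRingCat.ofHom (Algebra.TensorProduct.includeLeftRingHom (R := C) (A := E)
      (B := B j)) ≫ (ej j).hom = γ' j := fun j => (hTj j).inr_isoIsPushout_hom _ _ (hR' j)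
  have hcomp : ∀ j, e.hom ≫ ψ' j = CommRingCat.ofHom (Algebra.TensorProduct.map
      (AlgHom.id E E) (ψ j)).toRingHom ≫ (ej j).hom := by
    intro j
    apply hT.hom_ext
    · rw [← Category.assoc, he1, h1 j, ← hej1 j, ← Category.assoc, ← Category.assoc]
      congr 1
    · rw [← Category.assoc, he2, h2 j, ← hej2 j, ← Category.assoc]
      congr 1
      ext c
      simp
  have hcomp_apply : ∀ j (x : E ⊗[C] A), (ψ' j).hom (e.hom.hom x) =
      (ej j).hom.hom (Algebra.TensorProduct.map (AlgHom.id E E) (ψ j) x) := by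
    intro j x
    exact congrArg (fun m => m.hom x) (hcomp j)
  have he_inv : ∀ x : R, e.hom.hom (e.inv.hom x) = x := by
    intro x
    rw [← CommRingCat.comp_apply, Iso.inv_hom_id, CommRingCat.id_apply]
  have hej_inv : ∀ j (x : E ⊗[C] B j), (ej j).inv.hom ((ej j).hom.hom x) = x := by
    intro j x
    rw [← CommRingCat.comp_apply, Iso.hom_inv_id, CommRingCat.id_apply]
  constructor
  · intro H
    refine hsd_transport (fun j => (ψ' j).hom)
      (fun j => (Algebra.TensorProduct.map (AlgHom.id E E) (ψ j)).toRingHom) e.hom.hom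
      (ConcreteCategory.bijective_of_isIso e.hom).injective (fun j => (ej j).hom.hom)
      (fun j x => hcomp_apply j x) H
  · intro H
    refine hsd_transport
      (fun j => (Algebra.TensorProduct.map (AlgHom.id E E) (ψ j)).toRingHom) (fun j => (ψ' j).hom)
      e.inv.hom (ConcreteCategory.bijective_of_isIso e.inv).injective (fun j => (ej j).inv.hom)
      (fun j x => ?_) H
    have := hcomp_apply j (e.inv.hom x)
    rw [he_inv] at this
    show (Algebra.TensorProduct.map (AlgHom.id E E) (ψ j)) (e.inv.hom x) = _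
    rw [this, hej_inv]

set_option linter.style.haveILetI false in
/-- **Universal schematic dominance from the fibres, pushout form.** -/
theorem univ_claim {C A E R : CommRingCat.{u}} (rA : C ⟶ A) (rE : C ⟶ E) (φ : A ⟶ R) (γ : E ⟶ R)
    (hR : IsPushout rA rE φ γ) [IsNoetherianRing A]
    {J : Type w} (B R' : J → CommRingCat.{u}) (ψ : ∀ j, A ⟶ B j)
    (hflat : ∀ j, (rA ≫ ψ j).hom.Flat)
    (χ : ∀ j, B j ⟶ R' j) (γ' : ∀ j, E ⟶ R' j) (hR' : ∀ j, IsPushout (rA ≫ ψ j) rE (χ j) (γ' j))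
    (ψ' : ∀ j, R ⟶ R' j) (h1 : ∀ j, φ ≫ ψ' j = ψ j ≫ χ j) (h2 : ∀ j, γ ≫ ψ' j = γ' j)
    (FH : ∀ 𝔭 : Ideal C, 𝔭.IsPrime → ∃ (K : CommRingCat.{u}) (rK : C ⟶ K) (RK : CommRingCat.{u})
      (φK : A ⟶ RK) (γK : K ⟶ RK) (R'K : J → CommRingCat.{u}) (χK : ∀ j, B j ⟶ R'K j)
      (γ'K : ∀ j, K ⟶ R'K j) (ψ'K : ∀ j, RK ⟶ R'K j), IsField K ∧ RingHom.ker rK.hom = 𝔭 ∧
      IsPushout rA rK φK γK ∧ (∀ j, IsPushout (rA ≫ ψ j) rK (χK j) (γ'K j)) ∧
      (∀ j, φK ≫ ψ'K j = ψ j ≫ χK j) ∧ (∀ j, γK ≫ ψ'K j = γ'K j) ∧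
      ∀ s a' : RK, (∀ j, ∃ M : ℕ, (ψ'K j).hom (s ^ M * a') = 0) → ∃ M : ℕ, s ^ M * a' = 0)
    (s a' : R) (h : ∀ j, ∃ M : ℕ, (ψ' j).hom (s ^ M * a') = 0) : ∃ M : ℕ, s ^ M * a' = 0 := by
  letI : Algebra C A := rA.hom.toAlgebra
  letI : Algebra C E := rE.hom.toAlgebra
  letI : ∀ j, Algebra C (B j) := fun j => (rA ≫ ψ j).hom.toAlgebra
  let ψa : ∀ j, A →ₐ[C] B j := fun j => { (ψ j).hom with commutes' := fun _ => rfl }
  haveI : ∀ j, Module.Flat C (B j) := fun j => hflat j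
  have key : SD C ψa E := SD_univ ψa (fun 𝔭 _ => ?_) E
  · exact (hsd_pushout_iff ψa φ γ hR χ γ' hR' ψ' h1 h2).mpr key s a' h
  · obtain ⟨K, rK, RK, φK, γK, R'K, χK, γ'K, ψ'K, hK, hker, hRK, hR'K, h1K, h2K, HK⟩ :=
      FH 𝔭 ‹_›
    letI : Field K := hK.toField
    letI : Algebra C K := rK.hom.toAlgebra
    exact SD_residueField_of_ker ψa 𝔭 K hker
      ((hsd_pushout_iff ψa φK γK hRK χK γ'K hR'K ψ'K h1K h2K).mp HK)

end Groth.Agent.Lib.Helper4.UnivSchDom

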