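import Mathlib
import Groth.Agent.Lib.Helper4UnivSchDomD
/-!
# helper4: universally schematically dominant families — scheme level (EGA IV 11.10.9)

* `hsd_of_schematicallyDominant_cover`, `hsd_box_of_schematicallyDominant`: exponent form of
  schematic dominance on affine boxes of a fibre product.
* `box`, `bcMap`, `isPushout_box`, `isPushout_box_comp`, `box_h1`, `box_h2`: sections over boxes.
* `ker_appLE_fromSpecResidueField`: kernel of `Γ(S, S₀) ⟶ Γ(Spec κ(s), ⊤)`.
* `univ_schematicallyDominant_of_fibres`: fibrewise schematically dominant family of flat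
  `S`-schemes over a locally Noetherian `X` is universally schematically dominant.
-/

set_option autoImplicit false
universe u v w
namespace Groth.Agent.Lib.Helper4.UnivSchDom
open TensorProduct CategoryTheory CategoryTheory.Limits AlgebraicGeometry
open Groth.Agent.Lib.Helper4.SchDom Groth.Agent.Lib.Helper22.IdealComap

/-- generalisation of `hsd_of_schematicallyDominant` to an arbitrary covering family of opens. -/
theorem hsd_of_schematicallyDominant_cover {X : Scheme.{u}} {ι : Type*} (Z : ι → Scheme.{u})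
    (f : ∀ i, Z i ⟶ X)
    (h : ∀ (V : X.Opens) (t : Γ(X, V)), (∀ i, (f i).app V t = 0) → t = 0)
    {U : X.Opens} (hU : IsAffineOpen U) (r a : Γ(X, U))
    (hj : ∀ (i : ι) (z : Z i), z ∈ f i ⁻¹ᵁ U → ∃ (V : (Z i).Opens) (e : V ≤ f i ⁻¹ᵁ U), z ∈ V ∧
      ∃ n : ℕ, (f i).appLE U V e (r ^ n * a) = 0) :
    ∃ n : ℕ, r ^ n * a = 0 := by
  apply exists_pow_mul_eq_zero_of_res_basicOpen_eq_zero_of_isAffineOpen X hU a r
  show X.presheaf.map (homOfLE (X.basicOpen_le r)).op a = 0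
  apply h
  intro i
  refine eq_zero_of_locally_zero _ _ fun z hz => ?_
  have hz' : (f i) z ∈ X.basicOpen r := hz
  have hzU : z ∈ f i ⁻¹ᵁ U := X.basicOpen_le r hz'
  obtain ⟨V, hVU, hzV, n, hn⟩ := hj i z hzU
  have hW : (Z i).basicOpen ((f i).appLE U V hVU r) = V ⊓ f i ⁻¹ᵁ X.basicOpen r :=
    Scheme.basicOpen_appLE ..
  have hW1 : (Z i).basicOpen ((f i).appLE U V hVU r) ≤ f i ⁻¹ᵁ X.basicOpen r :=
    hW ▸ inf_le_right
  have hW2 : (Z i).basicOpen ((f i).appLE U V hVU r) ≤ V := hW ▸ inf_le_left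
  refine ⟨(Z i).basicOpen ((f i).appLE U V hVU r), hW1, hW ▸ ⟨hzV, hz'⟩, ?_⟩
  have e1 : (Z i).presheaf.map (homOfLE hW1).op ((f i).app (X.basicOpen r)
      (X.presheaf.map (homOfLE (X.basicOpen_le r)).op a)) =
      (Z i).presheaf.map (homOfLE hW2).op ((f i).appLE U V hVU a) := by
    have h1 : X.presheaf.map (homOfLE (X.basicOpen_le r)).op ≫ (f i).app (X.basicOpen r) ≫
        (Z i).presheaf.map (homOfLE hW1).op =
        (f i).appLE U V hVU ≫ (Z i).presheaf.map (homOfLE hW2).op := by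
      rw [Scheme.Hom.app_eq_appLE, Scheme.Hom.appLE_map, Scheme.Hom.map_appLE,
        Scheme.Hom.appLE_map]
    exact congrArg (fun m => m.hom a) h1
  rw [e1]
  have hunit : IsUnit ((Z i).presheaf.map (homOfLE hW2).op ((f i).appLE U V hVU r)) :=
    RingedSpace.isUnit_res_basicOpen (Z i).toRingedSpace ((f i).appLE U V hVU r)
  have h2 := congrArg ((Z i).presheaf.map (homOfLE hW2).op) hn
  rw [map_mul, map_mul, map_pow, map_pow, map_zero] at h2
  exact (hunit.pow n).mul_right_eq_zero.mp h2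

section box
variable {X S T : Scheme.{u}} (p : X ⟶ S) (q : T ⟶ S)

/-- the "box" `U ×_S UT` inside `X ×_S T`. -/
noncomputable abbrev box (U : X.Opens) (UT : T.Opens) : (pullback p q).Opens :=
  pullback.fst p q ⁻¹ᵁ U ⊓ pullback.snd p q ⁻¹ᵁ UT

/-- the base change of an `X`-scheme `Z0`, as a morphism to `X ×_S T`. -/
noncomputable abbrev bcMap {Z0 : Scheme.{u}} (f0 : Z0 ⟶ X) : pullback (f0 ≫ p) q ⟶ pullback p q :=
  pullback.map (f0 ≫ p) q p q f0 (𝟙 T) (𝟙 S) (Category.comp_id _)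
    ((Category.comp_id _).trans (Category.id_comp _).symm)

variable {Z0 : Scheme.{u}} (f0 : Z0 ⟶ X)

theorem bcMap_fst : bcMap p q f0 ≫ pullback.fst p q = pullback.fst (f0 ≫ p) q ≫ f0 :=
  pullback.lift_fst _ _ _

theorem bcMap_snd : bcMap p q f0 ≫ pullback.snd p q = pullback.snd (f0 ≫ p) q := by
  simp only [bcMap, pullback.map]
  rw [pullback.lift_snd, Category.comp_id]

theorem box_le {U : X.Opens} {UT : T.Opens} {W : Z0.Opens} (e : W ≤ f0 ⁻¹ᵁ U) :
    box (f0 ≫ p) q W UT ≤ bcMap p q f0 ⁻¹ᵁ box p q U UT := by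
  rw [box, box, Scheme.Hom.preimage_inf, ← Scheme.Hom.comp_preimage, ← Scheme.Hom.comp_preimage,
    bcMap_fst, bcMap_snd, Scheme.Hom.comp_preimage]
  exact inf_le_inf ((pullback.fst (f0 ≫ p) q).preimage_mono e) le_rfl

theorem isPushout_box {US : S.Opens} {UT : T.Opens} {U : X.Opens} (hUST : UT ≤ q ⁻¹ᵁ US)
    (hUSX : U ≤ p ⁻¹ᵁ US) (hUS : IsAffineOpen US) (hUT : IsAffineOpen UT) (hU : IsAffineOpen U) :
    IsPushout (p.appLE US U hUSX) (q.appLE US UT hUST)
      ((pullback.fst p q).appLE U (box p q U UT) inf_le_left)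
      ((pullback.snd p q).appLE UT (box p q U UT) inf_le_right) :=
  (isIso_pushoutSection_iff (IsPullback.of_hasPullback p q) hUST hUSX rfl).mp
    (isIso_pushoutSection_of_isAffineOpen _ hUST hUSX rfl hUS hUT hU)

theorem isPushout_box_comp {US : S.Opens} {UT : T.Opens} {U : X.Opens} {W : Z0.Opens}
    (hUST : UT ≤ q ⁻¹ᵁ US)
    (hUSX : U ≤ p ⁻¹ᵁ US) (e : W ≤ f0 ⁻¹ᵁ U) (hUS : IsAffineOpen US) (hUT : IsAffineOpen UT)
    (hW : IsAffineOpen W) :
    IsPushout (p.appLE US U hUSX ≫ f0.appLE U W e) (q.appLE US UT hUST)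
      ((pullback.fst (f0 ≫ p) q).appLE W (box (f0 ≫ p) q W UT) inf_le_left)
      ((pullback.snd (f0 ≫ p) q).appLE UT (box (f0 ≫ p) q W UT) inf_le_right) := by
  have hle : W ≤ (f0 ≫ p) ⁻¹ᵁ US := by
    rw [Scheme.Hom.comp_preimage]
    exact e.trans (f0.preimage_mono hUSX)
  have := isPushout_box (f0 ≫ p) q hUST hle hUS hUT hW
  have e' : (f0 ≫ p).appLE US W hle = p.appLE US U hUSX ≫ f0.appLE U W e :=
    (Scheme.Hom.appLE_comp_appLE _ _ _ _ _ _ _).symm
  rw [e'] at this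
  exact this

theorem box_h1 {U : X.Opens} {UT : T.Opens} {W : Z0.Opens} (e : W ≤ f0 ⁻¹ᵁ U) :
    (pullback.fst p q).appLE U (box p q U UT) inf_le_left ≫
      (bcMap p q f0).appLE (box p q U UT) (box (f0 ≫ p) q W UT) (box_le p q f0 e) =
    f0.appLE U W e ≫ (pullback.fst (f0 ≫ p) q).appLE W (box (f0 ≫ p) q W UT) inf_le_left := by
  refine (Scheme.Hom.appLE_comp_appLE _ _ _ _ _ _ _).trans
    (Eq.trans ?_ (Scheme.Hom.appLE_comp_appLE _ _ _ _ _ _ _).symm)
  exact appLE_congr_hom (bcMap_fst p q f0) _ _ _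

theorem box_h2 {U : X.Opens} {UT : T.Opens} {W : Z0.Opens} (e : W ≤ f0 ⁻¹ᵁ U) :
    (pullback.snd p q).appLE UT (box p q U UT) inf_le_right ≫
      (bcMap p q f0).appLE (box p q U UT) (box (f0 ≫ p) q W UT) (box_le p q f0 e) =
    (pullback.snd (f0 ≫ p) q).appLE UT (box (f0 ≫ p) q W UT) inf_le_right :=
  (Scheme.Hom.appLE_comp_appLE _ _ _ _ _ _ _).trans (appLE_congr_hom (bcMap_snd p q f0) _ _ _)

end box

/-- **Schematic dominance of a base-changed family, exponent form on a box.** -/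
theorem hsd_box_of_schematicallyDominant {X S T : Scheme.{u}} (p : X ⟶ S) (q : T ⟶ S)
    {ι : Type*} (Z : ι → Scheme.{u}) (f : ∀ i, Z i ⟶ X)
    (h : ∀ (V : (pullback p q).Opens) (t : Γ(pullback p q, V)),
      (∀ i, (bcMap p q (f i)).app V t = 0) → t = 0)
    {U : X.Opens} {UT : T.Opens} (hP : IsAffineOpen (box p q U UT))
    (r a : Γ(pullback p q, box p q U UT))
    (hj : ∀ (i : ι) (W : (Z i).Opens) (_ : IsAffineOpen W) (e : W ≤ f i ⁻¹ᵁ U), ∃ n : ℕ,
      (bcMap p q (f i)).appLE (box p q U UT) (box (f i ≫ p) q W UT) (box_le p q (f i) e)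
        (r ^ n * a) = 0) :
    ∃ n : ℕ, r ^ n * a = 0 := by
  refine hsd_of_schematicallyDominant_cover (fun i => pullback (f i ≫ p) q)
    (fun i => bcMap p q (f i)) h hP r a ?_
  intro i z hz
  have hz1 : pullback.fst (f i ≫ p) q z ∈ f i ⁻¹ᵁ U := by
    have h1 : (bcMap p q (f i) ≫ pullback.fst p q) z ∈ U := hz.1
    rw [bcMap_fst] at h1
    exact h1
  have hz2 : pullback.snd (f i ≫ p) q z ∈ UT := by
    have h1 : (bcMap p q (f i) ≫ pullback.snd p q) z ∈ UT := hz.2
    rw [bcMap_snd] at h1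
    exact h1
  obtain ⟨_, ⟨W, hW, rfl⟩, hzW, hWU'⟩ :=
    (Z i).isBasis_affineOpens.exists_subset_of_mem_open hz1 (f i ⁻¹ᵁ U).isOpen
  have hWU : W ≤ f i ⁻¹ᵁ U := hWU'
  obtain ⟨n, hn⟩ := hj i W hW hWU
  exact ⟨box (f i ≫ p) q W UT, box_le p q (f i) hWU, ⟨hzW, hz2⟩, n, hn⟩

/-- global sections of the spectrum of a residue field form a field. -/
theorem isField_Γ_Spec_residueField {S : Scheme.{u}} (s : S) :
    IsField Γ(Spec (S.residueField s), ⊤) :=
  MulEquiv.isField (Field.toIsField (S.residueField s))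
    (Scheme.ΓSpecIso (S.residueField s)).commRingCatIsoToRingEquiv.toMulEquiv

/-- the kernel of `Γ(S, S₀) ⟶ Γ(Spec κ(s), ⊤)`. -/
theorem ker_appLE_fromSpecResidueField {S : Scheme.{u}} {S₀ : S.Opens} (s : S)
    (hle : ⊤ ≤ S.fromSpecResidueField s ⁻¹ᵁ S₀) (𝔭 : Ideal Γ(S, S₀))
    (h𝔭s : ∀ c : Γ(S, S₀), s ∈ S.basicOpen c ↔ c ∉ 𝔭) :
    RingHom.ker ((S.fromSpecResidueField s).appLE S₀ ⊤ hle).hom = 𝔭 := by
  ext c
  rw [RingHom.mem_ker]
  have hD : (Spec (S.residueField s)).basicOpen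
      (((S.fromSpecResidueField s).appLE S₀ ⊤ hle).hom c) =
      ⊤ ⊓ S.fromSpecResidueField s ⁻¹ᵁ S.basicOpen c := Scheme.basicOpen_appLE ..
  let pt : Spec (S.residueField s) := IsLocalRing.closedPoint (S.residueField s)
  have hpt : S.fromSpecResidueField s pt = s := Scheme.fromSpecResidueField_apply s pt
  constructor
  · intro h0
    by_contra hc
    have hs : s ∈ S.basicOpen c := (h𝔭s c).mpr hc
    rw [h0, Scheme.basicOpen_zero] at hD
    have : pt ∈ (⊤ ⊓ S.fromSpecResidueField s ⁻¹ᵁ S.basicOpen c :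
        (Spec (S.residueField s)).Opens) := ⟨trivial, by
      show S.fromSpecResidueField s pt ∈ S.basicOpen c
      rw [hpt]; exact hs⟩
    rw [← hD] at this
    exact this
  · intro hc
    by_contra h0
    have hunit : IsUnit (((S.fromSpecResidueField s).appLE S₀ ⊤ hle).hom c) := by
      obtain ⟨b, hb⟩ := (isField_Γ_Spec_residueField s).mul_inv_cancel h0
      exact IsUnit.of_mul_eq_one _ hb
    rw [Scheme.basicOpen_of_isUnit _ hunit] at hD
    have : pt ∈ (⊤ ⊓ S.fromSpecResidueField s ⁻¹ᵁ S.basicOpen c :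
        (Spec (S.residueField s)).Opens) := hD ▸ trivial
    have hs : S.fromSpecResidueField s pt ∈ S.basicOpen c := this.2
    rw [hpt] at hs
    exact (h𝔭s c).mp hs hc

set_option linter.style.haveILetI false in
/-- **EGA IV 11.10.9 (i)⇐(ii)**: a family of flat `S`-schemes over a locally Noetherian `X` which
is schematically dominant on all fibres is universally schematically dominant. -/
theorem univ_schematicallyDominant_of_fibres {X S : Scheme.{u}} [IsLocallyNoetherian X]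
    (p : X ⟶ S) {ι : Type*} (Z : ι → Scheme.{u}) (f : ∀ i, Z i ⟶ X) [∀ i, Flat (f i ≫ p)]
    (hfib : ∀ s : S, ∀ (V : (pullback p (S.fromSpecResidueField s)).Opens)
      (t : Γ(pullback p (S.fromSpecResidueField s), V)),
      (∀ i, (bcMap p (S.fromSpecResidueField s) (f i)).app V t = 0) → t = 0)
    {S' : Scheme.{u}} (g : S' ⟶ S) (V : (pullback p g).Opens) (t : Γ(pullback p g, V))
    (ht : ∀ i, (bcMap p g (f i)).app V t = 0) : t = 0 := by
  refine eq_zero_of_locally_zero V t fun x' hx' => ?_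
  -- affine opens
  obtain ⟨_, ⟨S₀, hS₀, rfl⟩, hxS₀, -⟩ := S.isBasis_affineOpens.exists_subset_of_mem_open
    (Set.mem_univ (p (pullback.fst p g x'))) isOpen_univ
  obtain ⟨_, ⟨U, hU, rfl⟩, hxU, hUS'⟩ := X.isBasis_affineOpens.exists_subset_of_mem_open
    (show pullback.fst p g x' ∈ p ⁻¹ᵁ S₀ from hxS₀) (p ⁻¹ᵁ S₀).isOpen
  have hUS : U ≤ p ⁻¹ᵁ S₀ := hUS'
  have hx2 : pullback.snd p g x' ∈ g ⁻¹ᵁ S₀ := by
    show g (pullback.snd p g x') ∈ S₀
    have h1 : (pullback.snd p g ≫ g) x' = (pullback.fst p g ≫ p) x' := by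
      rw [pullback.condition]
    rw [Scheme.Hom.comp_apply, Scheme.Hom.comp_apply] at h1
    rw [h1]
    exact hxS₀
  obtain ⟨_, ⟨T, hT, rfl⟩, hxT, hTS'⟩ := S'.isBasis_affineOpens.exists_subset_of_mem_open
    hx2 (g ⁻¹ᵁ S₀).isOpen
  have hTS : T ≤ g ⁻¹ᵁ S₀ := hTS'
  have H : IsPullback (pullback.fst p g) (pullback.snd p g) p g := IsPullback.of_hasPullback p g
  have hP : IsAffineOpen (box p g U T) := isAffineOpen_box H hTS hUS hS₀ hT hU
  have hxP : x' ∈ box p g U T := ⟨hxU, hxT⟩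
  obtain ⟨s, hsV, hxs⟩ := hP.exists_basicOpen_le (V := V) ⟨x', hx'⟩ hxP
  refine ⟨(pullback p g).basicOpen s, hsV, hxs, ?_⟩
  -- write `t|D(s)` as a fraction
  have hloc := hP.isLocalization_basicOpen s
  obtain ⟨⟨a', ⟨_, N, rfl⟩⟩, hN⟩ := IsLocalization.surj (Submonoid.powers s)
    ((pullback p g).presheaf.map (homOfLE hsV).op t)
  replace hN : (pullback p g).presheaf.map (homOfLE hsV).op t *
      (pullback p g).presheaf.map (homOfLE ((pullback p g).basicOpen_le s)).op (s ^ N) =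
      (pullback p g).presheaf.map (homOfLE ((pullback p g).basicOpen_le s)).op a' := hN
  have hunit : IsUnit ((pullback p g).presheaf.map
      (homOfLE ((pullback p g).basicOpen_le s)).op s) :=
    RingedSpace.isUnit_res_basicOpen (pullback p g).toRingedSpace s
  suffices hM : ∃ M : ℕ, s ^ M * a' = 0 by
    obtain ⟨M, hM⟩ := hM
    have h3 := congrArg ((pullback p g).presheaf.map
      (homOfLE ((pullback p g).basicOpen_le s)).op) hM
    rw [map_mul, ← hN, map_pow, map_pow, map_zero, ← mul_assoc, mul_comm _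
      ((pullback p g).presheaf.map (homOfLE hsV).op t), mul_assoc, ← pow_add] at h3
    exact (hunit.pow (M + N)).mul_left_eq_zero.mp h3
  -- apply the ring-level claim
  let J := Σ i : ι, {VZ : (Z i).Opens // IsAffineOpen VZ ∧ VZ ≤ f i ⁻¹ᵁ U}
  have hPJ : ∀ j : J, IsAffineOpen (box (f j.1 ≫ p) g j.2.1 T) := fun j =>
    isAffineOpen_box (IsPullback.of_hasPullback (f j.1 ≫ p) g) (US := S₀) hTS
      (by
        rw [Scheme.Hom.comp_preimage]
        exact j.2.2.2.trans ((f j.1).preimage_mono hUS)) hS₀ hT j.2.2.1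
  haveI : IsNoetherianRing Γ(X, U) := IsLocallyNoetherian.component_noetherian ⟨U, hU⟩
  refine univ_claim (p.appLE S₀ U hUS) (g.appLE S₀ T hTS)
    ((pullback.fst p g).appLE U (box p g U T) inf_le_left)
    ((pullback.snd p g).appLE T (box p g U T) inf_le_right)
    (isPushout_box p g hTS hUS hS₀ hT hU) (J := J)
    (fun j => Γ(Z j.1, j.2.1)) (fun j => Γ(pullback (f j.1 ≫ p) g, box (f j.1 ≫ p) g j.2.1 T))
    (fun j => (f j.1).appLE U j.2.1 j.2.2.2) ?_
    (fun j => (pullback.fst (f j.1 ≫ p) g).appLE j.2.1 (box (f j.1 ≫ p) g j.2.1 T) inf_le_left)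
    (fun j => (pullback.snd (f j.1 ≫ p) g).appLE T (box (f j.1 ≫ p) g j.2.1 T) inf_le_right)
    (fun j => isPushout_box_comp p g (f j.1) hTS hUS j.2.2.2 hS₀ hT j.2.2.1)
    (fun j => (bcMap p g (f j.1)).appLE (box p g U T) (box (f j.1 ≫ p) g j.2.1 T)
      (box_le p g (f j.1) j.2.2.2))
    (fun j => box_h1 p g (f j.1) j.2.2.2) (fun j => box_h2 p g (f j.1) j.2.2.2) ?_ s a' ?_
  · -- flatness
    intro j
    have hle : j.2.1 ≤ (f j.1 ≫ p) ⁻¹ᵁ S₀ := by
      rw [Scheme.Hom.comp_preimage]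
      exact j.2.2.2.trans ((f j.1).preimage_mono hUS)
    have h1 : ((f j.1 ≫ p).appLE S₀ j.2.1 hle).hom.Flat :=
      HasRingHomProperty.appLE (P := @Flat) _ (inferInstance : Flat (f j.1 ≫ p))
        ⟨S₀, hS₀⟩ ⟨j.2.1, j.2.2.1⟩ hle
    have e' : (f j.1 ≫ p).appLE S₀ j.2.1 hle = p.appLE S₀ U hUS ≫ (f j.1).appLE U j.2.1 j.2.2.2 :=
      (Scheme.Hom.appLE_comp_appLE _ _ _ _ _ _ _).symm
    rw [e'] at h1
    exact h1
  · -- the fibres
    intro 𝔭 h𝔭
    let y : Spec Γ(S, S₀) := ⟨𝔭, h𝔭⟩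
    let σ : S := hS₀.fromSpec y
    have hσS₀ : σ ∈ S₀ := by
      have : σ ∈ Set.range hS₀.fromSpec := Set.mem_range_self y
      rw [hS₀.range_fromSpec] at this
      exact this
    have hle : ⊤ ≤ S.fromSpecResidueField σ ⁻¹ᵁ S₀ := by
      intro pt _
      show S.fromSpecResidueField σ pt ∈ S₀
      rw [Scheme.fromSpecResidueField_apply]
      exact hσS₀
    have h𝔭s : ∀ c : Γ(S, S₀), σ ∈ S.basicOpen c ↔ c ∉ 𝔭 := by
      intro c
      have h1 := hS₀.fromSpec_preimage_basicOpen c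
      show y ∈ hS₀.fromSpec ⁻¹ᵁ S.basicOpen c ↔ _
      rw [h1]
      rfl
    refine ⟨Γ(Spec (S.residueField σ), ⊤), (S.fromSpecResidueField σ).appLE S₀ ⊤ hle,
      Γ(pullback p (S.fromSpecResidueField σ), box p (S.fromSpecResidueField σ) U ⊤),
      (pullback.fst p (S.fromSpecResidueField σ)).appLE U _ inf_le_left,
      (pullback.snd p (S.fromSpecResidueField σ)).appLE ⊤ _ inf_le_right,
      fun j => Γ(pullback (f j.1 ≫ p) (S.fromSpecResidueField σ),
        box (f j.1 ≫ p) (S.fromSpecResidueField σ) j.2.1 ⊤),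
      fun j => (pullback.fst (f j.1 ≫ p) (S.fromSpecResidueField σ)).appLE j.2.1 _ inf_le_left,
      fun j => (pullback.snd (f j.1 ≫ p) (S.fromSpecResidueField σ)).appLE ⊤ _ inf_le_right,
      fun j => (bcMap p (S.fromSpecResidueField σ) (f j.1)).appLE _ _
        (box_le p (S.fromSpecResidueField σ) (f j.1) j.2.2.2),
      isField_Γ_Spec_residueField σ, ker_appLE_fromSpecResidueField σ hle 𝔭 h𝔭s,
      isPushout_box p (S.fromSpecResidueField σ) hle hUS hS₀ (isAffineOpen_top _) hU,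
      fun j => isPushout_box_comp p (S.fromSpecResidueField σ) (f j.1) hle hUS j.2.2.2 hS₀
        (isAffineOpen_top _) j.2.2.1,
      fun j => box_h1 p (S.fromSpecResidueField σ) (f j.1) j.2.2.2,
      fun j => box_h2 p (S.fromSpecResidueField σ) (f j.1) j.2.2.2, ?_⟩
    intro r a hj
    exact hsd_box_of_schematicallyDominant p (S.fromSpecResidueField σ) Z f (hfib σ)
      (isAffineOpen_box (IsPullback.of_hasPullback p (S.fromSpecResidueField σ)) hle hUS hS₀
        (isAffineOpen_top _) hU) r a (fun i W hW e => hj ⟨i, W, hW, e⟩)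
  · intro j
    -- vanishing on the basic open of the image of `s`
    have hle : (box (f j.1 ≫ p) g j.2.1 T) ≤ (bcMap p g (f j.1)) ⁻¹ᵁ (box p g U T) := box_le p g (f j.1) j.2.2.2
    have hres : (pullback (f j.1 ≫ p) g).presheaf.map (homOfLE
        ((pullback (f j.1 ≫ p) g).basicOpen_le ((bcMap p g (f j.1)).appLE (box p g U T) (box (f j.1 ≫ p) g j.2.1 T) hle s))).op
        ((bcMap p g (f j.1)).appLE (box p g U T) (box (f j.1 ≫ p) g j.2.1 T) hle a') = 0 := by
      have hQ : (pullback (f j.1 ≫ p) g).basicOpen ((bcMap p g (f j.1)).appLE (box p g U T) (box (f j.1 ≫ p) g j.2.1 T) hle s) =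
          (box (f j.1 ≫ p) g j.2.1 T) ⊓ (bcMap p g (f j.1)) ⁻¹ᵁ (pullback p g).basicOpen s := Scheme.basicOpen_appLE ..
      have hQ1 : (pullback (f j.1 ≫ p) g).basicOpen ((bcMap p g (f j.1)).appLE (box p g U T) (box (f j.1 ≫ p) g j.2.1 T) hle s) ≤
          (bcMap p g (f j.1)) ⁻¹ᵁ (pullback p g).basicOpen s := hQ ▸ inf_le_right
      have e1 : (bcMap p g (f j.1)).appLE (box p g U T) (box (f j.1 ≫ p) g j.2.1 T) hle ≫ (pullback (f j.1 ≫ p) g).presheaf.map (homOfLE
          ((pullback (f j.1 ≫ p) g).basicOpen_le ((bcMap p g (f j.1)).appLE (box p g U T) (box (f j.1 ≫ p) g j.2.1 T) hle s))).op =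
          (pullback p g).presheaf.map (homOfLE ((pullback p g).basicOpen_le s)).op ≫
            (bcMap p g (f j.1)).appLE ((pullback p g).basicOpen s) _ hQ1 := by
        rw [Scheme.Hom.appLE_map, Scheme.Hom.map_appLE]
      have e2 : (pullback p g).presheaf.map (homOfLE hsV).op ≫
          (bcMap p g (f j.1)).appLE ((pullback p g).basicOpen s) _ hQ1 =
          (bcMap p g (f j.1)).app V ≫ (pullback (f j.1 ≫ p) g).presheaf.map (homOfLE
            (hQ1.trans ((bcMap p g (f j.1)).preimage_mono hsV))).op := by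
        rw [Scheme.Hom.map_appLE, Scheme.Hom.app_eq_appLE, Scheme.Hom.appLE_map]
      have e1' := congrArg (fun m => m.hom a') e1
      have e2' := congrArg (fun m => m.hom t) e2
      simp only [CommRingCat.hom_comp, RingHom.comp_apply] at e1' e2'
      rw [ht j.1, map_zero] at e2'
      rw [e1', ← hN, map_mul, e2', zero_mul]
    obtain ⟨n, hn⟩ := exists_pow_mul_eq_zero_of_res_basicOpen_eq_zero_of_isAffineOpen _ (hPJ j)
      ((bcMap p g (f j.1)).appLE (box p g U T) (box (f j.1 ≫ p) g j.2.1 T) hle a') ((bcMap p g (f j.1)).appLE (box p g U T) (box (f j.1 ≫ p) g j.2.1 T) hle s) hres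
    exact ⟨n, by rw [map_mul, map_pow]; exact hn⟩

end Groth.Agent.Lib.Helper4.UnivSchDom


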