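import Mathlib
import Groth.Agent.Lib.Helper4UnivSepE
import Groth.Agent.Lib.Helper4SepFamB
import Groth.Agent.Lib.Helper4UnivSchDomD
/-!
# helper4: universally separating families (EGA IV 11.9.16), part F
`MHSD_baseChange_of_universal` (converse of `MHSD_of_universal`), `mhsd_pushout_iff`,
`univ_claim_mod` (pushout form of the universal claim).
-/

set_option autoImplicit false
set_option linter.style.haveILetI false
universe u v w
namespace Groth.Agent.Lib.Helper4.UnivSep
open TensorProduct CategoryTheory Limits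
open Groth.Agent.Lib.Helper4.SepFam Groth.Agent.Lib.Helper4.UnivSchDom

attribute [local instance] Algebra.TensorProduct.rightAlgebra

/-- converse of `MHSD_of_universal`: from any model of the base change to the tensor form. -/
theorem MHSD_baseChange_of_universal {A A' : Type u} [CommRing A] [CommRing A'] [Algebra A A']
    {M M' : Type u} [AddCommGroup M] [Module A M] [AddCommGroup M'] [Module A' M']
    (ηM : M →+ M') (hηM : ∀ (a : A) (m : M), ηM (a • m) = algebraMap A A' a • ηM m)
    (UM : ∀ (P : Type u) [AddCommGroup P] [Module A' P] (l : M →+ P),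
      (∀ (a : A) (m : M), l (a • m) = algebraMap A A' a • l m) →
        ∃! l' : M' →ₗ[A'] P, ∀ m, l' (ηM m) = l m)
    {J : Type w} {N N' : J → Type u} [∀ j, AddCommGroup (N j)] [∀ j, Module A (N j)]
    [∀ j, AddCommGroup (N' j)] [∀ j, Module A' (N' j)]
    (ηN : ∀ j, N j →+ N' j)
    (hηN : ∀ j (a : A) (n : N j), ηN j (a • n) = algebraMap A A' a • ηN j n)
    (UN : ∀ j (P : Type u) [AddCommGroup P] [Module A' P] (l : N j →+ P),
      (∀ (a : A) (n : N j), l (a • n) = algebraMap A A' a • l n) →
        ∃! l' : N' j →ₗ[A'] P, ∀ n, l' (ηN j n) = l n)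
    (u : ∀ j, M →ₗ[A] N j) (u' : ∀ j, M' →ₗ[A'] N' j)
    (hcomm : ∀ j m, u' j (ηM m) = ηN j (u j m))
    (T : MHSD A' u') : MHSD A' (fun j => (u j).baseChange A') := by
  letI : Module A M' := Module.compHom M' (algebraMap A A')
  haveI : IsScalarTower A A' M' := IsScalarTower.of_algebraMap_smul (fun a m => rfl)
  letI : ∀ j, Module A (N' j) := fun j => Module.compHom (N' j) (algebraMap A A')
  haveI : ∀ j, IsScalarTower A A' (N' j) := fun j =>
    IsScalarTower.of_algebraMap_smul (fun a m => rfl)
  let φM : M →ₗ[A] M' :=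
    { toFun := ηM, map_add' := ηM.map_add, map_smul' := fun a m => hηM a m }
  let φN : ∀ j, N j →ₗ[A] N' j := fun j =>
    { toFun := ηN j, map_add' := (ηN j).map_add, map_smul' := fun a m => hηN j a m }
  have hM : IsBaseChange A' φM :=
    Groth.Agent.Helper13BCAlg.isBaseChange_of_existsUnique φM (fun P _ _ l hl => UM P l hl)
  have hN : ∀ j, IsBaseChange A' (φN j) := fun j =>
    Groth.Agent.Helper13BCAlg.isBaseChange_of_existsUnique (φN j) (fun P _ _ l hl => UN j P l hl)
  have hc : ∀ j (x : A' ⊗[A] M),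
      u' j (hM.equiv x) = (hN j).equiv ((u j).baseChange A' x) := by
    intro j x
    induction x using TensorProduct.induction_on with
    | zero => simp
    | tmul a m =>
      rw [IsBaseChange.equiv_tmul, LinearMap.baseChange_tmul, IsBaseChange.equiv_tmul, map_smul]
      congr 1
      exact hcomm j m
    | add x y hx hy => rw [map_add, map_add, hx, hy, map_add, map_add]
  intro s x hx
  obtain ⟨n, hn⟩ := T s (hM.equiv x) (fun j => by
    obtain ⟨n, hn⟩ := hx j
    refine ⟨n, ?_⟩
    rw [← map_smul, hc, hn, map_zero])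
  refine ⟨n, hM.equiv.injective ?_⟩
  rw [map_smul, hn, map_zero]

section pushout
variable {C A E : Type u} [CommRing C] [CommRing A] [CommRing E] [Algebra C A] [Algebra C E]
  {M : Type u} [AddCommGroup M] [Module A M]
  {J : Type w} {N : J → Type u} [∀ j, AddCommGroup (N j)] [∀ j, Module A (N j)]
  (u : ∀ j, M →ₗ[A] N j)

/-- `MHSD` for a pushout model of the base change to `E` is equivalent to `Sep C u E`. -/
theorem mhsd_pushout_iff {R : CommRingCat.{u}} (φ : CommRingCat.of A ⟶ R)
    (γ : CommRingCat.of E ⟶ R)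
    (hR : IsPushout (CommRingCat.ofHom (algebraMap C A)) (CommRingCat.ofHom (algebraMap C E)) φ γ) :
    (letI : Algebra A R := φ.hom.toAlgebra
     MHSD R (fun j => (u j).baseChange R)) ↔ Sep C u E := by
  letI : Algebra A R := φ.hom.toAlgebra
  have hT := (CommRingCat.isPushout_tensorProduct C E A).flip
  let e := hT.isoIsPushout _ _ hR
  have he1 : CommRingCat.ofHom (Algebra.TensorProduct.includeRight (R := C) (A := E)
      (B := A)).toRingHom ≫ e.hom = φ := hT.inl_isoIsPushout_hom _ _ hR
  let e' : E ⊗[C] A ≃ₐ[A] R :=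
    AlgEquiv.ofRingEquiv (f := e.commRingCatIsoToRingEquiv) (fun a => by
      show e.hom.hom ((1 : E) ⊗ₜ[C] a) = φ.hom a
      exact congrArg (fun m => m.hom a) he1)
  constructor
  · intro H
    exact MHSD_baseChange_of_algEquiv e'.symm u H
  · intro H
    exact MHSD_baseChange_of_algEquiv e' u H

end pushout

/-- **Universal separation from the fibres, pushout form.** -/
theorem univ_claim_mod {C A E R : CommRingCat.{u}} (rA : C ⟶ A) (rE : C ⟶ E) (φ : A ⟶ R)
    (γ : E ⟶ R) (hR : IsPushout rA rE φ γ) [IsNoetherianRing A]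
    {M : Type u} [AddCommGroup M] [Module A M] [Module.Finite A M]
    {J : Type w} {N : J → Type u} [∀ j, AddCommGroup (N j)] [∀ j, Module A (N j)]
    (u : ∀ j, M →ₗ[A] N j)
    (hflat : ∀ j, @Module.Flat C (N j) _ _ (Module.compHom (N j) rA.hom))
    (FH : ∀ 𝔭 : Ideal C, 𝔭.IsPrime → ∃ (K : CommRingCat.{u}) (rK : C ⟶ K) (RK : CommRingCat.{u})
      (φK : A ⟶ RK) (γK : K ⟶ RK), IsField K ∧ RingHom.ker rK.hom = 𝔭 ∧
      IsPushout rA rK φK γK ∧
      (letI : Algebra A RK := φK.hom.toAlgebra
       MHSD RK (fun j => (u j).baseChange RK))) :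
    letI : Algebra A R := φ.hom.toAlgebra
    MHSD R (fun j => (u j).baseChange R) := by
  letI : Algebra C A := rA.hom.toAlgebra
  letI : Algebra C E := rE.hom.toAlgebra
  letI : ∀ j, Module C (N j) := fun j => Module.compHom (N j) rA.hom
  haveI : ∀ j, IsScalarTower C A (N j) := fun j => ⟨fun c a n => by
    show (c • a) • n = rA.hom c • (a • n)
    rw [Algebra.smul_def, mul_smul]
    rfl⟩
  haveI : ∀ j, Module.Flat C (N j) := hflat
  have key : Sep C u E := Sep_univ_of_fields u (fun 𝔭 _ => ?_) E
  · exact (mhsd_pushout_iff u φ γ hR).mpr key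
  · obtain ⟨K, rK, RK, φK, γK, hK, hker, hRK, HK⟩ := FH 𝔭 ‹_›
    letI : Field K := hK.toField
    letI : Algebra C K := rK.hom.toAlgebra
    exact ⟨K, inferInstance, inferInstance, hker, (mhsd_pushout_iff u φK γK hRK).mp HK⟩

end Groth.Agent.Lib.Helper4.UnivSep
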