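import Mathlib
import Groth.Agent.Lib.Helper4UnivSepF
import Groth.Agent.Lib.Helper4UnivSchDomE
import Groth.Agent.Lib.Helper2FlatOver
import Groth.Agent.Lib.Helper23FinType2
/-!
# helper4: universally separating families (EGA IV 11.9.16), part G
`univ_separating_of_fibres`: scheme level statement.
-/

set_option autoImplicit false
set_option linter.style.haveILetI false
universe u v w
namespace Groth.Agent.Lib.Helper4.UnivSep
open TensorProduct CategoryTheory CategoryTheory.Limits AlgebraicGeometry
open Groth.Agent.Lib.Helper4.SepFam Groth.Agent.Lib.Helper4.UnivSchDom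
open Groth.Agent.Lib.Helper4.SchDom
open Groth.Agent.Helper13PullbackUnit

/-- **EGA IV 11.9.16 (case `Z_λ = X`)**: over a locally Noetherian `X`, a family of maps from a
coherent module to quasi-coherent modules flat over `S` which is separating on all fibres is
universally separating. -/
theorem univ_separating_of_fibres {X S : Scheme.{u}} [IsLocallyNoetherian X]
    (p : X ⟶ S) (F : X.Modules) [F.IsQuasicoherent]
    [SheafOfModules.IsFiniteType (R := X.ringCatSheaf) F]
    {ι : Type w} (G : ι → X.Modules) [∀ i, (G i).IsQuasicoherent]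
    (hG : ∀ i, FlatMod.IsFlatOver p (G i)) (u : ∀ i, F ⟶ G i)
    (hfib : ∀ s : S, Separating
      ((Scheme.Modules.pullback (pullback.fst p (S.fromSpecResidueField s))).obj F)
      (fun i => (Scheme.Modules.pullback (pullback.fst p (S.fromSpecResidueField s))).obj (G i))
      (fun i => (Scheme.Modules.pullback (pullback.fst p (S.fromSpecResidueField s))).map (u i)))
    {S' : Scheme.{u}} (g : S' ⟶ S) :
    Separating ((Scheme.Modules.pullback (pullback.fst p g)).obj F)
      (fun i => (Scheme.Modules.pullback (pullback.fst p g)).obj (G i))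
      (fun i => (Scheme.Modules.pullback (pullback.fst p g)).map (u i)) := by
  refine separating_pullback_of_MHSD (pullback.fst p g) F G u (fun x' => ?_)
  -- affine opens
  obtain ⟨_, ⟨S₀, hS₀, rfl⟩, hxS₀, -⟩ := S.isBasis_affineOpens.exists_subset_of_mem_open
    (Set.mem_univ (p (pullback.fst p g x'))) isOpen_univ
  obtain ⟨_, ⟨U, hU, rfl⟩, hxU, hUS'⟩ := X.isBasis_affineOpens.exists_subset_of_mem_open
    (show pullback.fst p g x' ∈ p ⁻¹ᵁ S₀ from hxS₀) (p ⁻¹ᵁ S₀).isOpen
  have hUS : U ≤ p ⁻¹ᵁ S₀ := hUS'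
  have hx2 : pullback.snd p g x' ∈ g ⁻¹ᵁ S₀ := by
    show g (pullback.snd p g x') ∈ S₀
    have h1 : (pullback.snd p g ≫ g) x' = (pullback.fst p g ≫ p) x' := by
      rw [pullback.condition]
    rw [Scheme.Hom.comp_apply, Scheme.Hom.comp_apply] at h1
    rw [h1]
    exact hxS₀
  obtain ⟨_, ⟨T, hT, rfl⟩, hxT, hTS'⟩ := S'.isBasis_affineOpens.exists_subset_of_mem_open
    hx2 (g ⁻¹ᵁ S₀).isOpen
  have hTS : T ≤ g ⁻¹ᵁ S₀ := hTS'
  have H : IsPullback (pullback.fst p g) (pullback.snd p g) p g := IsPullback.of_hasPullback p g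
  have hP : IsAffineOpen (box p g U T) := isAffineOpen_box H hTS hUS hS₀ hT hU
  refine ⟨U, box p g U T, hU, hP, inf_le_left, ⟨hxU, hxT⟩, ?_⟩
  haveI : IsNoetherianRing Γ(X, U) := IsLocallyNoetherian.component_noetherian ⟨U, hU⟩
  haveI : Module.Finite Γ(X, U) Γ(F, U) :=
    Groth.Agent.Lib.Helper23.FinType.finite_of_isFiniteType F hU
  refine univ_claim_mod (p.appLE S₀ U hUS) (g.appLE S₀ T hTS)
    ((pullback.fst p g).appLE U (box p g U T) inf_le_left)
    ((pullback.snd p g).appLE T (box p g U T) inf_le_right)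
    (isPushout_box p g hTS hUS hS₀ hT hU) (M := Γ(F, U)) (N := fun i => Γ(G i, U))
    (fun i => appₗ (u i) U) ?_ ?_
  · intro i
    exact Groth.Agent.Lib.Helper2.FlatOver.flat_sections_of_isFlatOverAt p (G i) hU hS₀ hUS
      (fun x _ => hG i x)
  · intro 𝔭 h𝔭
    let y : Spec Γ(S, S₀) := ⟨𝔭, h𝔭⟩
    let σ : S := hS₀.fromSpec y
    have hσS₀ : σ ∈ S₀ := by
      have : σ ∈ Set.range hS₀.fromSpec := Set.mem_range_self y
      rw [hS₀.range_fromSpec] at this
      exact this
    have hle : ⊤ ≤ S.fromSpecResidueField σ ⁻¹ᵁ S₀ := by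
      intro pt _
      show S.fromSpecResidueField σ pt ∈ S₀
      rw [Scheme.fromSpecResidueField_apply]
      exact hσS₀
    have h𝔭s : ∀ c : Γ(S, S₀), σ ∈ S.basicOpen c ↔ c ∉ 𝔭 := by
      intro c
      have h1 := hS₀.fromSpec_preimage_basicOpen c
      show y ∈ hS₀.fromSpec ⁻¹ᵁ S.basicOpen c ↔ _
      rw [h1]
      rfl
    have hPσ : IsAffineOpen (box p (S.fromSpecResidueField σ) U ⊤) :=
      isAffineOpen_box (IsPullback.of_hasPullback p (S.fromSpecResidueField σ)) hle hUS hS₀
        (isAffineOpen_top _) hU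
    refine ⟨Γ(Spec (S.residueField σ), ⊤), (S.fromSpecResidueField σ).appLE S₀ ⊤ hle,
      Γ(pullback p (S.fromSpecResidueField σ), box p (S.fromSpecResidueField σ) U ⊤),
      (pullback.fst p (S.fromSpecResidueField σ)).appLE U _ inf_le_left,
      (pullback.snd p (S.fromSpecResidueField σ)).appLE ⊤ _ inf_le_right,
      isField_Γ_Spec_residueField σ, ker_appLE_fromSpecResidueField σ hle 𝔭 h𝔭s,
      isPushout_box p (S.fromSpecResidueField σ) hle hUS hS₀ (isAffineOpen_top _) hU, ?_⟩
    letI := ((pullback.fst p (S.fromSpecResidueField σ)).appLE U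
      (box p (S.fromSpecResidueField σ) U ⊤) inf_le_left).hom.toAlgebra
    have hle' : box p (S.fromSpecResidueField σ) U ⊤ ≤
        pullback.fst p (S.fromSpecResidueField σ) ⁻¹ᵁ U := inf_le_left
    haveI : ((Scheme.Modules.pullback (pullback.fst p (S.fromSpecResidueField σ))).obj
        F).IsQuasicoherent :=
      Groth.Agent.Lib.Helper2.PullbackSec.isQuasicoherent_pullback _ F
    exact MHSD_baseChange_of_universal (A := Γ(X, U))
      (A' := Γ(pullback p (S.fromSpecResidueField σ), box p (S.fromSpecResidueField σ) U ⊤))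
      (unitSec (pullback.fst p (S.fromSpecResidueField σ)) F hle')
      (fun a m => unitSec_smul _ F hle' a m)
      (fun P _ _ l hl => existsUnique_lift _ F hU hPσ hle' P l hl)
      (fun i => unitSec (pullback.fst p (S.fromSpecResidueField σ)) (G i) hle')
      (fun i a m => unitSec_smul _ (G i) hle' a m)
      (fun i P _ _ l hl => existsUnique_lift _ (G i) hU hPσ hle' P l hl)
      (fun i => appₗ (u i) U)
      (fun i => appₗ ((Scheme.Modules.pullback
        (pullback.fst p (S.fromSpecResidueField σ))).map (u i)) _)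
      (fun i m => Groth.Agent.Lib.Helper23.PB.map_unitSec _ (u i) hle' m)
      (MHSD_of_separating _ _ _ (hfib σ) hPσ)

end Groth.Agent.Lib.Helper4.UnivSep
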