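import Mathlib
import Groth.Agent.Lib.Helper4UnivSepG
import Groth.Agent.Lib.Helper4NilFreeModA
/-!
# helper4: separating families over an affine base `Spec A`

For `p : X ⟶ Spec A`, an `A`-algebra `B`, `q = Spec.map (A → B)` and an affine open `U ⊆ X`:

* `isPushout_box_spec`: `Γ(X ×_A B, U ×_A B)` is the pushout of `Γ(X, U)` and `B` over `A`.
* `Sep_of_separating_pullback`: if the pulled back family on `X ×_A B` is separating then
  `Sep A (u on U) B`.
* `separating_pullback_of_Sep`: conversely, `Sep A (u on U) B` for all affine `U` implies that the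
  pulled back family is separating.
* `flat_sections_spec`: sections over `U` of a module flat over `Spec A` are flat over `A`.
* `separating_of_mod_nilpotent`, `separating_pullback_of_fg_subalgebras`.
-/

set_option autoImplicit false
set_option linter.style.haveILetI false
universe u v w
namespace Groth.Agent.Lib.Helper4.UnivSep
open TensorProduct CategoryTheory CategoryTheory.Limits AlgebraicGeometry
open Groth.Agent.Lib.Helper4.SepFam Groth.Agent.Lib.Helper4.UnivSchDom
open Groth.Agent.Lib.Helper4.SchDom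
open Groth.Agent.Helper13PullbackUnit

section spec
variable {X : Scheme.{u}} (A : CommRingCat.{u}) (p : X ⟶ Spec A)

/-- the structure map `A ⟶ Γ(X, U)`. -/
noncomputable abbrev specStr (U : X.Opens) : A ⟶ Γ(X, U) :=
  (Scheme.ΓSpecIso A).inv ≫ p.appLE ⊤ U le_top

variable (B : Type u) [CommRing B] [Algebra ↑A B]

/-- the base change map `Spec B ⟶ Spec A`. -/
noncomputable abbrev specQ : Spec (CommRingCat.of B) ⟶ Spec A :=
  Spec.map (CommRingCat.ofHom (algebraMap ↑A B))

theorem isPushout_box_spec {U : X.Opens} (hU : IsAffineOpen U) :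
    IsPushout (specStr A p U) (CommRingCat.ofHom (algebraMap ↑A B))
      ((pullback.fst p (specQ A B)).appLE U (box p (specQ A B) U ⊤) inf_le_left)
      ((Scheme.ΓSpecIso (CommRingCat.of B)).inv ≫
        (pullback.snd p (specQ A B)).appLE ⊤ (box p (specQ A B) U ⊤) inf_le_right) := by
  let e₁ := Scheme.ΓSpecIso A
  let e₃ := Scheme.ΓSpecIso (CommRingCat.of B)
  have hg : (CommRingCat.ofHom (algebraMap ↑A B) : A ⟶ CommRingCat.of B) ≫ e₃.inv =
      e₁.inv ≫ (specQ A B).appLE ⊤ ⊤ le_top := by
    rw [Scheme.ΓSpecIso_inv_naturality]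
    rfl
  have hpo := isPushout_box p (specQ A B) (US := ⊤) (UT := ⊤) (U := U) le_top le_top
    (isAffineOpen_top _) (isAffineOpen_top _) hU
  refine hpo.of_iso e₁ (Iso.refl _) e₃ (Iso.refl _) ?_ ?_ ?_ ?_
  · show p.appLE ⊤ U le_top ≫ 𝟙 _ = e₁.hom ≫ (e₁.inv ≫ p.appLE ⊤ U le_top)
    rw [Category.comp_id, Iso.hom_inv_id_assoc]
  · show (specQ A B).appLE ⊤ ⊤ le_top ≫ e₃.hom = e₁.hom ≫ CommRingCat.ofHom (algebraMap ↑A B)
    rw [← cancel_mono e₃.inv, Category.assoc, Iso.hom_inv_id, Category.comp_id, Category.assoc,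
      hg, Iso.hom_inv_id_assoc]
  · simp
  · show (pullback.snd p (specQ A B)).appLE ⊤ (box p (specQ A B) U ⊤) inf_le_right ≫ 𝟙 _ =
      e₃.hom ≫ (e₃.inv ≫ (pullback.snd p (specQ A B)).appLE ⊤ (box p (specQ A B) U ⊤) inf_le_right)
    rw [Category.comp_id, Iso.hom_inv_id_assoc]

end spec

section sep
variable {X : Scheme.{u}} (A : CommRingCat.{u}) (p : X ⟶ Spec A) (B : Type u) [CommRing B]
  [Algebra ↑A B] (F : X.Modules) [F.IsQuasicoherent] {ι : Type w} (G : ι → X.Modules)
  [∀ i, (G i).IsQuasicoherent] (u : ∀ i, F ⟶ G i)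

/-- separating after base change to `B` gives `Sep` on every affine open. -/
theorem Sep_of_separating_pullback
    (hsep : Separating ((Scheme.Modules.pullback (pullback.fst p (specQ A B))).obj F)
      (fun i => (Scheme.Modules.pullback (pullback.fst p (specQ A B))).obj (G i))
      (fun i => (Scheme.Modules.pullback (pullback.fst p (specQ A B))).map (u i)))
    {U : X.Opens} (hU : IsAffineOpen U) :
    letI : Algebra ↑A Γ(X, U) := (specStr A p U).hom.toAlgebra
    Sep ↑A (fun i => appₗ (u i) U) B := by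
  letI : Algebra ↑A Γ(X, U) := (specStr A p U).hom.toAlgebra
  have hPσ : IsAffineOpen (box p (specQ A B) U ⊤) :=
    isAffineOpen_box (IsPullback.of_hasPullback p (specQ A B)) (US := ⊤) le_top le_top
      (isAffineOpen_top _) (isAffineOpen_top _) hU
  refine (mhsd_pushout_iff (C := ↑A) (A := Γ(X, U)) (E := B) (fun i => appₗ (u i) U) _ _
    (isPushout_box_spec A p B hU)).mp ?_
  letI := ((pullback.fst p (specQ A B)).appLE U (box p (specQ A B) U ⊤) inf_le_left).hom.toAlgebra
  have hle' : box p (specQ A B) U ⊤ ≤ pullback.fst p (specQ A B) ⁻¹ᵁ U := inf_le_left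
  haveI : ((Scheme.Modules.pullback (pullback.fst p (specQ A B))).obj F).IsQuasicoherent :=
    Groth.Agent.Lib.Helper2.PullbackSec.isQuasicoherent_pullback _ F
  exact MHSD_baseChange_of_universal (A := Γ(X, U))
    (A' := Γ(pullback p (specQ A B), box p (specQ A B) U ⊤))
    (unitSec (pullback.fst p (specQ A B)) F hle')
    (fun a m => unitSec_smul _ F hle' a m)
    (fun P _ _ l hl => existsUnique_lift _ F hU hPσ hle' P l hl)
    (fun i => unitSec (pullback.fst p (specQ A B)) (G i) hle')
    (fun i a m => unitSec_smul _ (G i) hle' a m)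
    (fun i P _ _ l hl => existsUnique_lift _ (G i) hU hPσ hle' P l hl)
    (fun i => appₗ (u i) U)
    (fun i => appₗ ((Scheme.Modules.pullback (pullback.fst p (specQ A B))).map (u i)) _)
    (fun i m => Groth.Agent.Lib.Helper23.PB.map_unitSec _ (u i) hle' m)
    (MHSD_of_separating _ _ _ hsep hPσ)

/-- `Sep` on every affine open gives separating after base change to `B`. -/
theorem separating_pullback_of_Sep
    (H : ∀ (U : X.Opens) (_ : IsAffineOpen U),
      letI : Algebra ↑A Γ(X, U) := (specStr A p U).hom.toAlgebra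
      Sep ↑A (fun i => appₗ (u i) U) B) :
    Separating ((Scheme.Modules.pullback (pullback.fst p (specQ A B))).obj F)
      (fun i => (Scheme.Modules.pullback (pullback.fst p (specQ A B))).obj (G i))
      (fun i => (Scheme.Modules.pullback (pullback.fst p (specQ A B))).map (u i)) := by
  refine separating_pullback_of_MHSD (pullback.fst p (specQ A B)) F G u (fun x' => ?_)
  obtain ⟨_, ⟨U, hU, rfl⟩, hxU, -⟩ := X.isBasis_affineOpens.exists_subset_of_mem_open
    (Set.mem_univ (pullback.fst p (specQ A B) x')) isOpen_univ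
  have hP : IsAffineOpen (box p (specQ A B) U ⊤) :=
    isAffineOpen_box (IsPullback.of_hasPullback p (specQ A B)) (US := ⊤) le_top le_top
      (isAffineOpen_top _) (isAffineOpen_top _) hU
  refine ⟨U, box p (specQ A B) U ⊤, hU, hP, inf_le_left, ⟨hxU, trivial⟩, ?_⟩
  letI : Algebra ↑A Γ(X, U) := (specStr A p U).hom.toAlgebra
  exact (mhsd_pushout_iff (C := ↑A) (A := Γ(X, U)) (E := B) (fun i => appₗ (u i) U) _ _
    (isPushout_box_spec A p B hU)).mpr (H U hU)

omit [F.IsQuasicoherent] in
/-- sections over an affine open of a module flat over `Spec A` are flat over `A`. -/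
theorem flat_sections_spec (Gi : X.Modules) [Gi.IsQuasicoherent] (hG : FlatMod.IsFlatOver p Gi)
    {U : X.Opens} (hU : IsAffineOpen U) :
    @Module.Flat ↑A Γ(Gi, U) _ _ (Module.compHom Γ(Gi, U) (specStr A p U).hom) := by
  have h1 := Groth.Agent.Lib.Helper2.FlatOver.flat_sections_of_isFlatOverAt p Gi hU
    (isAffineOpen_top _) le_top (fun x _ => hG x)
  letI : Algebra ↑A Γ(Spec A, ⊤) := (Scheme.ΓSpecIso A).inv.hom.toAlgebra
  letI : Module Γ(Spec A, ⊤) Γ(Gi, U) := Module.compHom Γ(Gi, U) (p.appLE ⊤ U le_top).hom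
  letI : Module ↑A Γ(Gi, U) := Module.compHom Γ(Gi, U) (specStr A p U).hom
  haveI : IsScalarTower ↑A Γ(Spec A, ⊤) Γ(Gi, U) := ⟨fun a r n => by
    show (p.appLE ⊤ U le_top).hom ((Scheme.ΓSpecIso A).inv.hom a * r) • n =
      (specStr A p U).hom a • ((p.appLE ⊤ U le_top).hom r • n)
    rw [map_mul, mul_smul]
    rfl⟩
  haveI : Module.Flat ↑A Γ(Spec A, ⊤) :=
    RingHom.Flat.of_bijective (ConcreteCategory.bijective_of_isIso (Scheme.ΓSpecIso A).inv)
  haveI : Module.Flat Γ(Spec A, ⊤) Γ(Gi, U) := h1
  exact Module.Flat.trans ↑A Γ(Spec A, ⊤) Γ(Gi, U)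

end sep

section final
variable {X : Scheme.{u}} (A : CommRingCat.{u}) (p : X ⟶ Spec A)
  (F : X.Modules) [F.IsQuasicoherent] {ι : Type w} (G : ι → X.Modules)
  [∀ i, (G i).IsQuasicoherent] (hG : ∀ i, FlatMod.IsFlatOver p (G i)) (u : ∀ i, F ⟶ G i)

include hG in
/-- **EGA IV 11.9.17-ish**: separating modulo a nilpotent ideal with free graded pieces implies
separating (for targets flat over the base). -/
theorem separating_of_mod_nilpotent (J : Ideal ↑A) (hJ : IsNilpotent J)
    (hfree : ∀ k : ℕ, Module.Free (↑A ⧸ J) ((↑A ⧸ J) ⊗[↑A] ↥(J ^ k)))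
    (h0 : Separating ((Scheme.Modules.pullback (pullback.fst p (specQ A (↑A ⧸ J)))).obj F)
      (fun i => (Scheme.Modules.pullback (pullback.fst p (specQ A (↑A ⧸ J)))).obj (G i))
      (fun i => (Scheme.Modules.pullback (pullback.fst p (specQ A (↑A ⧸ J)))).map (u i))) :
    Separating F G u := by
  refine separating_of_MHSD F G u (fun x => ?_)
  obtain ⟨_, ⟨U, hU, rfl⟩, hxU, -⟩ := X.isBasis_affineOpens.exists_subset_of_mem_open
    (Set.mem_univ x) isOpen_univ
  refine ⟨U, hU, hxU, ?_⟩
  letI : Algebra ↑A Γ(X, U) := (specStr A p U).hom.toAlgebra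
  letI : Module ↑A Γ(F, U) := Module.compHom Γ(F, U) (specStr A p U).hom
  haveI : IsScalarTower ↑A Γ(X, U) Γ(F, U) := ⟨fun a b m => by
    show ((specStr A p U).hom a * b) • m = (specStr A p U).hom a • (b • m)
    rw [mul_smul]⟩
  letI : ∀ i, Module ↑A Γ(G i, U) := fun i => Module.compHom Γ(G i, U) (specStr A p U).hom
  haveI : ∀ i, IsScalarTower ↑A Γ(X, U) Γ(G i, U) := fun i => ⟨fun a b m => by
    show ((specStr A p U).hom a * b) • m = (specStr A p U).hom a • (b • m)
    rw [mul_smul]⟩
  haveI : ∀ i, Module.Flat ↑A Γ(G i, U) := fun i => flat_sections_spec A p (G i) (hG i) hU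
  exact MHSD_of_Sep_mod_nilpotent (fun i => appₗ (u i) U) J hJ hfree
    (Sep_of_separating_pullback A p (↑A ⧸ J) F G u h0 hU)

include hG in
/-- **EGA IV 11.9.18-ish**: for targets flat over the base, the pulled back family on `X ×_A B` is
separating as soon as it is on `X ×_A B₀` for all finitely generated subalgebras `B₀ ⊆ B`. -/
theorem separating_pullback_of_fg_subalgebras (B : Type u) [CommRing B] [Algebra ↑A B]
    (hfg : ∀ E₀ : Subalgebra ↑A B, E₀.FG →
      Separating ((Scheme.Modules.pullback (pullback.fst p (specQ A E₀))).obj F)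
        (fun i => (Scheme.Modules.pullback (pullback.fst p (specQ A E₀))).obj (G i))
        (fun i => (Scheme.Modules.pullback (pullback.fst p (specQ A E₀))).map (u i))) :
    Separating ((Scheme.Modules.pullback (pullback.fst p (specQ A B))).obj F)
      (fun i => (Scheme.Modules.pullback (pullback.fst p (specQ A B))).obj (G i))
      (fun i => (Scheme.Modules.pullback (pullback.fst p (specQ A B))).map (u i)) := by
  refine separating_pullback_of_Sep A p B F G u (fun U hU => ?_)
  letI : Algebra ↑A Γ(X, U) := (specStr A p U).hom.toAlgebra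
  letI : ∀ i, Module ↑A Γ(G i, U) := fun i => Module.compHom Γ(G i, U) (specStr A p U).hom
  haveI : ∀ i, IsScalarTower ↑A Γ(X, U) Γ(G i, U) := fun i => ⟨fun a b m => by
    show ((specStr A p U).hom a * b) • m = (specStr A p U).hom a • (b • m)
    rw [mul_smul]⟩
  haveI : ∀ i, Module.Flat ↑A Γ(G i, U) := fun i => flat_sections_spec A p (G i) (hG i) hU
  exact Sep_of_fg_subalgebras (fun i => appₗ (u i) U) B
    (fun E₀ h₀ => Sep_of_separating_pullback A p E₀ F G u (hfg E₀ h₀) hU)

end final

end Groth.Agent.Lib.Helper4.UnivSep
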