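import Groth.Agent.Lib.Helper17FlatDev1
import Groth.Agent.Lib.Helper4SepSpec
import Groth.Agent.Lib.Helper2ModExact

/-!
# The dévissage step for flat quasi-coherent modules (helper17)

`step_shortExact`: for `M` quasi-coherent and flat over `Spec A` (`A` Noetherian), ideals `J ≤ J' = J + (a)` and
`K = (J : a)`, the sequence `0 ⟶ M/KM ⟶ M/JM ⟶ M/J'M ⟶ 0` (first map multiplication by `a`) is short exact.
-/

set_option autoImplicit false
universe u
open CategoryTheory Limits AlgebraicGeometry TopologicalSpace Opposite TensorProduct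

namespace Groth.Agent.Lib.Helper17.FlatDev

open Groth.Agent.Lib.Helper17.IAdic Groth.Agent.Lib.Helper17.GrSys
  Groth.Agent.Lib.Helper17.GrSysCoh Groth.Agent.Lib.Helper23.QCohLocal
  Groth.Agent.Lib.Helper23.FinType

/-- the colon property of flat modules: if `a p ∈ J P` then `p ∈ (J : a) P`. -/
theorem mem_smul_top_of_flat {A P : Type*} [CommRing A] [AddCommGroup P] [Module A P]
    [Module.Flat A P] (J K : Ideal A) (a : A) (hcolon : ∀ x, x * a ∈ J → x ∈ K) (p : P)
    (hp : a • p ∈ (J • ⊤ : Submodule A P)) : p ∈ (K • ⊤ : Submodule A P) := by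
  let ψ : A →ₗ[A] (A ⧸ J) := (Submodule.mkQ J).comp (LinearMap.mulRight A a)
  let K' : Ideal A := LinearMap.ker ψ
  have hK' : K' ≤ K := fun x hx => hcolon x (by
    have h1 : ψ x = 0 := hx
    have h2 : Submodule.Quotient.mk (p := J) (x * a) = 0 := h1
    exact (Submodule.Quotient.mk_eq_zero J).1 h2)
  have hex : Function.Exact K'.subtype ψ := LinearMap.exact_subtype_ker_map ψ
  have hex' := Module.Flat.lTensor_exact P hex
  have h0 : (ψ.lTensor P) (p ⊗ₜ 1) = 0 := by
    rw [LinearMap.lTensor_tmul]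
    have h1 : ψ 1 = a • (Submodule.mkQ J 1) := by
      change Submodule.Quotient.mk (1 * a) = a • Submodule.Quotient.mk 1
      rw [← Submodule.Quotient.mk_smul, smul_eq_mul, mul_comm]
    rw [h1, TensorProduct.tmul_smul]
    have h2 : ∀ q ∈ (J • ⊤ : Submodule A P), q ⊗ₜ[A] (Submodule.mkQ J (1 : A)) = 0 := by
      intro q hq
      refine Submodule.smul_induction_on hq (fun j hj q _ => ?_) (fun x y hx hy => ?_)
      · rw [TensorProduct.smul_tmul]
        have : j • (Submodule.mkQ J (1 : A)) = 0 := by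
          change j • Submodule.Quotient.mk (1 : A) = 0
          rw [← Submodule.Quotient.mk_smul, smul_eq_mul, mul_one]
          exact (Submodule.Quotient.mk_eq_zero J).2 hj
        rw [this, TensorProduct.tmul_zero]
      · rw [TensorProduct.add_tmul, hx, hy, add_zero]
    rw [TensorProduct.smul_tmul']
    exact h2 _ hp
  obtain ⟨t, ht⟩ := (hex' (p ⊗ₜ 1)).1 h0
  have key : ∀ t : P ⊗[A] K',
      TensorProduct.rid A P ((K'.subtype.lTensor P) t) ∈ (K • ⊤ : Submodule A P) := by
    intro t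
    induction t using TensorProduct.induction_on with
    | zero => simp
    | tmul q k =>
      rw [LinearMap.lTensor_tmul, TensorProduct.rid_tmul]
      exact Submodule.smul_mem_smul (hK' k.2) trivial
    | add x y hx hy =>
      rw [map_add, map_add]
      exact add_mem hx hy
  have h3 := key t
  rw [ht, TensorProduct.rid_tmul, one_smul] at h3
  exact h3

variable {A : Type u} [CommRing A] {X : Scheme.{u}} [X.Over (Spec (CommRingCat.of A))]

theorem ρ_eq_specStr (U : X.Opens) :
    (ρ (A := A) U : A →+* Γ(X, U)) =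
      (Groth.Agent.Lib.Helper4.UnivSep.specStr (CommRingCat.of A)
        (X ↘ Spec (CommRingCat.of A)) U).hom := by
  ext a
  rfl

/-- sections over affine opens of a module flat over `Spec A` are flat over `A`. -/
theorem flat_sections (M : X.Modules) [M.IsQuasicoherent]
    (hfl : FlatMod.IsFlatOver (X ↘ Spec (CommRingCat.of A)) M) {U : X.Opens}
    (hU : IsAffineOpen U) :
    @Module.Flat A Γ(M, U) _ _ (Module.compHom Γ(M, U) (ρ (A := A) U)) := by
  rw [ρ_eq_specStr]
  exact Groth.Agent.Lib.Helper4.UnivSep.flat_sections_spec (CommRingCat.of A)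
    (X ↘ Spec (CommRingCat.of A)) M hfl hU

section step

variable [IsNoetherianRing A] (M : X.Modules) [M.IsQuasicoherent]
  (hfl : FlatMod.IsFlatOver (X ↘ Spec (CommRingCat.of A)) M)
  (K J J' : Ideal A) (a : A) (hK : ∀ b ∈ K, a * b ∈ J) (hcolon : ∀ x, x * a ∈ J → x ∈ K)
  (hJ : J ≤ J') (ha : a ∈ J') (hJ' : J' ≤ J ⊔ Ideal.span {a})

include hfl hcolon in
theorem μ_app_injective {U : X.Opens} (hU : IsAffineOpen U) :
    Function.Injective ((μ a hK M).app U) := by
  rw [injective_iff_map_eq_zero]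
  intro sbar hs
  obtain ⟨s, rfl⟩ := πQ_app_surjective K M hU sbar
  rw [← comp_app_apply, πQ_μ, comp_app_apply, smulMod_app] at hs
  obtain ⟨r, c, hc⟩ : ∃ (r : ℕ) (c : Fin r → A), J = Ideal.span (Set.range c) := by
    obtain ⟨r, c, -, hc⟩ := Groth.Agent.Lib.Helper17.IAdic.exists_gens J
    exact ⟨r, c, hc⟩
  obtain ⟨y, hy⟩ := ker_πQ_app c J hc M hU _ hs
  letI : Module A Γ(M, U) := Module.compHom Γ(M, U) (ρ (A := A) U)
  haveI : Module.Flat A Γ(M, U) := flat_sections M hfl hU
  have h1 : a • s ∈ (J • ⊤ : Submodule A Γ(M, U)) := by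
    change (ρ U a : Γ(X, U)) • s ∈ _
    rw [hy]
    refine Submodule.sum_mem _ (fun i _ => ?_)
    exact Submodule.smul_mem_smul (hc ▸ Ideal.subset_span ⟨i, rfl⟩) trivial
  have h2 := mem_smul_top_of_flat J K a hcolon s h1
  refine Submodule.smul_induction_on h2 (fun k hk z _ => ?_) (fun x y hx hy => ?_)
  · exact πQ_app_smul K M k hk U z
  · rw [map_add, hx, hy, add_zero]

include hfl hcolon in
theorem mono_μ : Mono (μ a hK M) :=
  Groth.Agent.Helper18OmLS.mono_of_injective_app_basis (μ a hK M) X.affineOpens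
    X.isBasis_affineOpens (fun U hU => μ_app_injective M hfl K J a hK hcolon hU)

end step

section step2

variable [IsNoetherianRing A] (M : X.Modules) [M.IsQuasicoherent]
  (K J : Ideal A) (a : A) (hK : ∀ b ∈ K, a * b ∈ J)

omit [IsNoetherianRing A] in
theorem mem_sup_span (J : Ideal A) (a : A) : a ∈ J ⊔ Ideal.span {a} :=
  Ideal.mem_sup_right (Ideal.mem_span_singleton_self a)

/-- the short complex `M/KM ⟶ M/JM ⟶ M/(J + (a))M`. -/
noncomputable abbrev stepSC : ShortComplex X.Modules :=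
  ShortComplex.mk (μ a hK M) (Qmap (le_sup_left : J ≤ J ⊔ Ideal.span {a}) M)
    (μ_Qmap a hK le_sup_left (mem_sup_span J a) M)

theorem stepSC_exact : (stepSC M K J a hK).Exact := by
  rw [ShortComplex.exact_iff_epi_kernel_lift]
  haveI : (kernel (Qmap (le_sup_left : J ≤ J ⊔ Ideal.span {a}) M)).IsQuasicoherent :=
    isQuasicoherent_kernel _
  refine Groth.Agent.Helper18OmLS.epi_of_surjective_app_cover _
    (fun i : X.affineOpens => (i : X.Opens)) (iSup_affineOpens_eq_top X) (fun i => i.2)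
    (fun i t => ?_)
  obtain ⟨U, hU⟩ := i
  change IsAffineOpen U at hU
  change Γ(kernel (Qmap (le_sup_left : J ≤ J ⊔ Ideal.span {a}) M), U) at t
  have h1 : (Qmap (le_sup_left : J ≤ J ⊔ Ideal.span {a}) M).app U
      ((kernel.ι (Qmap (le_sup_left : J ≤ J ⊔ Ideal.span {a}) M)).app U t) = 0 := by
    rw [← comp_app_apply, kernel.condition]
    rfl
  obtain ⟨s, hs⟩ := πQ_app_surjective J M hU
    ((kernel.ι (Qmap (le_sup_left : J ≤ J ⊔ Ideal.span {a}) M)).app U t)
  have h2 : (πQ (J ⊔ Ideal.span {a}) M).app U s = 0 := by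
    rw [← πQ_Qmap (le_sup_left : J ≤ J ⊔ Ideal.span {a}) M, comp_app_apply, hs, h1]
  obtain ⟨r, c, -, hc⟩ := Groth.Agent.Lib.Helper17.IAdic.exists_gens J
  have hc' : J ⊔ Ideal.span {a} = Ideal.span (Set.range (Fin.cons a c : Fin (r + 1) → A)) := by
    rw [Fin.range_cons, Ideal.span_insert, ← hc, sup_comm]
  obtain ⟨y, hy⟩ := ker_πQ_app (Fin.cons a c : Fin (r + 1) → A) _ hc' M hU s h2
  rw [Fin.sum_univ_succ] at hy
  simp only [Fin.cons_zero, Fin.cons_succ] at hy
  refine ⟨(πQ K M).app U (y 0), ?_⟩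
  apply Groth.Agent.Lib.Helper2.ModExact.app_injective_of_mono
    (kernel.ι (Qmap (le_sup_left : J ≤ J ⊔ Ideal.span {a}) M)) U
  change (kernel.ι (Qmap (le_sup_left : J ≤ J ⊔ Ideal.span {a}) M)).app U
    ((kernel.lift (Qmap (le_sup_left : J ≤ J ⊔ Ideal.span {a}) M) (μ a hK M)
      (μ_Qmap a hK le_sup_left (mem_sup_span J a) M)).app U ((πQ K M).app U (y 0))) = _
  rw [← comp_app_apply, kernel.lift_ι, ← comp_app_apply, πQ_μ, comp_app_apply, smulMod_app,
    ← hs, hy, map_add, map_sum]
  have h3 : ∀ i : Fin r, (πQ J M).app U ((ρ U (c i) : Γ(X, U)) • y i.succ) = 0 := fun i =>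
    πQ_app_smul J M (c i) (hc ▸ Ideal.subset_span ⟨i, rfl⟩) U _
  rw [Finset.sum_eq_zero (fun i _ => h3 i), add_zero]

variable (hfl : FlatMod.IsFlatOver (X ↘ Spec (CommRingCat.of A)) M)
  (hcolon : ∀ x, x * a ∈ J → x ∈ K)

include hfl hcolon in
/-- **the dévissage step**. -/
theorem stepSC_shortExact : (stepSC M K J a hK).ShortExact where
  exact := stepSC_exact M K J a hK
  mono_f := mono_μ M hfl K J a hK hcolon
  epi_g := inferInstanceAs (Epi (Qmap (le_sup_left : J ≤ J ⊔ Ideal.span {a}) M))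

end step2

end Groth.Agent.Lib.Helper17.FlatDev
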