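import Mathlib

/-!
# Finite connected algebras over an algebraically closed field, and units in limits of rings
(helper17)

* `exists_sub_isNilpotent`: in a finite-dimensional commutative algebra `R` over an algebraically
  closed field `k` without nontrivial idempotents, every element differs from a constant by a
  nilpotent element.
* `const_unique`: the constant is unique when `R` is nontrivial.
* `isUnit_of_const_ne_zero`.
* `isUnit_limit_iff`: an element of a limit of commutative rings is a unit iff all its components are.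
-/

set_option autoImplicit false
universe w v u

open CategoryTheory CategoryTheory.Limits Polynomial

namespace Groth.Agent.Lib.Helper17.FormLocAlg

section Alg

variable {k : Type u} [Field k] [IsAlgClosed k] {R : Type u} [CommRing R] [Algebra k R]

theorem exists_sub_isNilpotent [Module.Finite k R]
    (hR : ∀ e : R, IsIdempotentElem e → e = 0 ∨ e = 1) (a : R) :
    ∃ c : k, IsNilpotent (a - algebraMap k R c) := by
  rcases subsingleton_or_nontrivial R with hs | hn
  · exact ⟨0, ⟨0, Subsingleton.elim _ _⟩⟩
  have hint : IsIntegral k a := Algebra.IsIntegral.isIntegral a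
  set p := minpoly k a with hp
  have hp0 : p ≠ 0 := minpoly.ne_zero hint
  have hdeg : p.degree ≠ 0 := (minpoly.degree_pos hint).ne'
  obtain ⟨c, hc⟩ := IsAlgClosed.exists_root p hdeg
  obtain ⟨g, hpg, hg⟩ := Polynomial.exists_eq_pow_rootMultiplicity_mul_and_not_dvd p hp0 c
  set e := p.rootMultiplicity c with he
  have he0 : 0 < e := (Polynomial.rootMultiplicity_pos hp0).2 hc
  have hcop : IsCoprime ((X - C c) ^ e) g :=
    ((Polynomial.irreducible_X_sub_C c).coprime_iff_not_dvd.2 hg).pow_left
  obtain ⟨u, v, huv⟩ := hcop
  set F : R := (a - algebraMap k R c) ^ e with hF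
  set G : R := aeval a g with hG
  set U : R := aeval a u
  set V : R := aeval a v
  have hFa : aeval a ((X - C c) ^ e) = F := by
    simp [hF]
  have hFG : F * G = 0 := by
    rw [← hFa, hG, ← map_mul, ← hpg, hp, minpoly.aeval]
  have hUV : U * F + V * G = 1 := by
    have := congrArg (aeval a) huv
    rwa [map_add, map_mul, map_mul, hFa, map_one] at this
  have hidem : IsIdempotentElem (U * F) := by
    change U * F * (U * F) = U * F
    have h1 : U * F = 1 - V * G := by rw [← hUV]; ring
    calc U * F * (U * F) = U * F * (1 - V * G) := by rw [← h1]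
      _ = U * F - U * V * (F * G) := by ring
      _ = U * F := by rw [hFG]; ring
  rcases hR _ hidem with h0 | h1
  · -- `V G = 1`, hence `F = 0`
    refine ⟨c, e, ?_⟩
    have hVG : V * G = 1 := by rw [← hUV, h0, zero_add]
    calc F = F * (V * G) := by rw [hVG, mul_one]
      _ = V * (F * G) := by ring
      _ = 0 := by rw [hFG, mul_zero]
  · -- `U F = 1`, hence `G = 0`, contradiction
    exfalso
    have hG0 : G = 0 := by
      calc G = G * (U * F) := by rw [h1, mul_one]
        _ = U * (F * G) := by ring
        _ = 0 := by rw [hFG, mul_zero]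
    have hdvd : p ∣ g := minpoly.dvd k a hG0
    have hg0 : g ≠ 0 := by
      rintro rfl
      exact hp0 (by rw [hpg, mul_zero])
    have hlt : g.natDegree < p.natDegree := by
      have hX : ((X - C c : k[X]) ^ e) ≠ 0 := pow_ne_zero _ (Polynomial.X_sub_C_ne_zero c)
      conv_rhs => rw [hpg]
      rw [Polynomial.natDegree_mul hX hg0, Polynomial.natDegree_pow, Polynomial.natDegree_X_sub_C]
      omega
    exact hg0 (Polynomial.eq_zero_of_dvd_of_natDegree_lt hdvd hlt)

theorem const_unique [Nontrivial R] {a : R} {c c' : k}
    (h : IsNilpotent (a - algebraMap k R c)) (h' : IsNilpotent (a - algebraMap k R c')) : c = c' := by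
  have h1 : IsNilpotent (algebraMap k R (c' - c)) := by
    have : algebraMap k R (c' - c) = (a - algebraMap k R c) - (a - algebraMap k R c') := by
      rw [map_sub]; ring
    rw [this]
    exact (Commute.all _ _).isNilpotent_sub h h'
  obtain ⟨n, hn⟩ := h1
  rw [← map_pow] at hn
  have h2 : (c' - c) ^ n = 0 := (algebraMap k R).injective (by rw [hn, map_zero])
  exact (sub_eq_zero.1 (pow_eq_zero_iff (fun h0 => by subst h0; simp at h2) |>.1 h2)).symm

theorem isUnit_of_const_ne_zero {a : R} {c : k} (h : IsNilpotent (a - algebraMap k R c))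
    (hc : c ≠ 0) : IsUnit a := by
  have h1 : IsUnit (algebraMap k R c) := (IsUnit.mk0 c hc).map (algebraMap k R)
  have : a = algebraMap k R c + (a - algebraMap k R c) := by ring
  rw [this]
  exact h.isUnit_add_left_of_commute h1 (Commute.all _ _)

end Alg

section Lim

variable {J : Type v} [Category.{w} J] (D : J ⥤ CommRingCat.{u}) [HasLimit D]
  [PreservesLimit D (forget CommRingCat.{u})]

/-- Elements of a limit of commutative rings are compatible families. -/
noncomputable def secEquiv : ↑(limit D) ≃ (D ⋙ forget CommRingCat).sections :=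
  Types.isLimitEquivSections (isLimitOfPreserves (forget CommRingCat) (limit.isLimit D))

theorem secEquiv_apply (x : ↑(limit D)) (j : J) :
    ((secEquiv D x : (D ⋙ forget CommRingCat).sections) : ∀ j, (D ⋙ forget CommRingCat).obj j) j =
      (limit.π D j).hom x := rfl

theorem π_secEquiv_symm (s : (D ⋙ forget CommRingCat).sections) (j : J) :
    (limit.π D j).hom ((secEquiv D).symm s) = (s : ∀ j, (D ⋙ forget CommRingCat).obj j) j := by
  have := secEquiv_apply D ((secEquiv D).symm s) j
  rw [Equiv.apply_symm_apply] at this
  exact this.symm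

theorem limit_ext {x y : ↑(limit D)} (h : ∀ j, (limit.π D j).hom x = (limit.π D j).hom y) : x = y := by
  apply (secEquiv D).injective
  apply Subtype.ext
  funext j
  exact h j

theorem π_map (x : ↑(limit D)) {i j : J} (f : i ⟶ j) :
    (D.map f).hom ((limit.π D i).hom x) = (limit.π D j).hom x := by
  have := limit.w D f
  rw [← this]
  rfl

theorem isUnit_limit_iff (x : ↑(limit D)) : IsUnit x ↔ ∀ j, IsUnit ((limit.π D j).hom x) := by
  refine ⟨fun h j => h.map _, fun h => ?_⟩
  choose b hb using fun j => (h j).exists_right_inv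
  have hcompat : ∀ {i j : J} (f : i ⟶ j), (D.map f).hom (b i) = b j := by
    intro i j f
    have h1 : (limit.π D j).hom x * (D.map f).hom (b i) = 1 := by
      rw [← π_map D x f, ← map_mul, hb i, map_one]
    have h2 : (limit.π D j).hom x * b j = 1 := hb j
    calc (D.map f).hom (b i) = (D.map f).hom (b i) * ((limit.π D j).hom x * b j) := by
          rw [h2, mul_one]
      _ = ((limit.π D j).hom x * (D.map f).hom (b i)) * b j := by ring
      _ = b j := by rw [h1, one_mul]
  let s : (D ⋙ forget CommRingCat).sections := ⟨fun j => b j, fun f => hcompat f⟩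
  refine IsUnit.of_mul_eq_one ((secEquiv D).symm s) ?_
  apply limit_ext
  intro j
  rw [map_mul, π_secEquiv_symm, map_one]
  exact hb j

end Lim

section Tower

open Opposite

variable {k : Type u} [Field k] [IsAlgClosed k]

theorem tower (D : ℕᵒᵖ ⥤ CommRingCat.{u}) (φ : ∀ m : ℕ, k →+* D.obj (op m))
    (hφ : ∀ (m : ℕ) (c : k), (D.map (homOfLE (Nat.le_succ m)).op).hom (φ (m + 1) c) = φ m c)
    (hfin : ∀ m, letI := (φ m).toAlgebra; Module.Finite k (D.obj (op m)))
    (hid : ∀ (m : ℕ) (e : D.obj (op m)), IsIdempotentElem e → e = 0 ∨ e = 1)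
    (hnt : ∀ m, Nontrivial (D.obj (op m))) :
    IsLocalRing ↑(limit D) ∧
      ∀ a : ↑(limit D), ∃ c : k, ∀ m, IsNilpotent ((limit.π D (op m)).hom a - φ m c) := by
  have key : ∀ a : ↑(limit D), ∃ c : k, ∀ m, IsNilpotent ((limit.π D (op m)).hom a - φ m c) := by
    intro a
    have h1 : ∀ m, ∃ c : k, IsNilpotent ((limit.π D (op m)).hom a - φ m c) := fun m => by
      letI := (φ m).toAlgebra
      haveI := hfin m
      exact exists_sub_isNilpotent (hid m) _
    choose c hc using h1
    have h2 : ∀ m, c (m + 1) = c m := by
      intro m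
      letI := (φ m).toAlgebra
      haveI := hnt m
      have h3 : IsNilpotent ((limit.π D (op m)).hom a - φ m (c (m + 1))) := by
        have := (hc (m + 1)).map (D.map (homOfLE (Nat.le_succ m)).op).hom
        rwa [map_sub, π_map, hφ] at this
      exact const_unique (R := D.obj (op m)) h3 (hc m)
    have h4 : ∀ m, c m = c 0 := fun m => by
      induction m with
      | zero => rfl
      | succ n ih => rw [h2, ih]
    exact ⟨c 0, fun m => h4 m ▸ hc m⟩
  refine ⟨?_, key⟩
  have hunit : ∀ (a : ↑(limit D)) (c : k), c ≠ 0 →
      (∀ m, IsNilpotent ((limit.π D (op m)).hom a - φ m c)) → IsUnit a := by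
    intro a c hc0 hc
    rw [isUnit_limit_iff]
    rintro ⟨m⟩
    letI := (φ m).toAlgebra
    exact isUnit_of_const_ne_zero (R := D.obj (op m)) (hc m) hc0
  haveI : Nontrivial ↑(limit D) := by
    refine ⟨⟨0, 1, fun h => ?_⟩⟩
    haveI := hnt 0
    have := congrArg (limit.π D (op 0)).hom h
    rw [map_zero, map_one] at this
    exact zero_ne_one this
  refine IsLocalRing.of_isUnit_or_isUnit_one_sub_self fun a => ?_
  obtain ⟨c, hc⟩ := key a
  by_cases hc0 : c = 0
  · right
    refine hunit (1 - a) 1 one_ne_zero fun m => ?_
    have h := (hc m).neg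
    rw [hc0, map_zero, sub_zero] at h
    rw [map_sub, map_one, map_one]
    have : (1 : ↑(D.obj (op m))) - (limit.π D (op m)).hom a - 1 = -(limit.π D (op m)).hom a := by ring
    rw [this]
    exact h
  · left
    exact hunit a c hc0 hc

end Tower

end Groth.Agent.Lib.Helper17.FormLocAlg
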