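import Groth.Statements.S11393
import Groth.Agent.S0002
import Groth.Agent.Lib.Helper4DevI
import Groth.Agent.Lib.Helper17FormLocAlg

/-!
# Formal-regular functions along a connected closed subscheme of a proper scheme over an
algebraically closed field form a local ring (helper17)
-/

set_option autoImplicit false
universe u

open CategoryTheory CategoryTheory.Limits AlgebraicGeometry TopologicalSpace Opposite

namespace Groth.Agent.Lib.Helper17.FormLoc

open Groth.Agent.Lib.Helper17.FormLocAlg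

section Idem

/-- On a quasi-compact preconnected scheme, the only idempotent global functions are `0` and `1`. -/
theorem idem_of_preconnected (Y : Scheme.{u}) [CompactSpace Y] [PreconnectedSpace Y]
    (e : Γ(Y, ⊤)) (he : IsIdempotentElem e) : e = 0 ∨ e = 1 := by
  have hcov : (Y.basicOpen e : Set Y) ∪ (Y.basicOpen (1 - e) : Set Y) = Set.univ := by
    rw [Set.eq_univ_iff_forall]
    intro x
    have hx : x ∈ (⊤ : Y.Opens) := trivial
    have h1 := IsLocalRing.isUnit_or_isUnit_one_sub_self ((Y.presheaf.germ ⊤ x hx).hom e)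
    rcases h1 with h | h
    · exact Or.inl ((Y.mem_basicOpen e x hx).2 h)
    · refine Or.inr ((Y.mem_basicOpen (1 - e) x hx).2 ?_)
      rwa [map_sub, map_one]
  have hdisj : (Y.basicOpen e : Set Y) ∩ (Y.basicOpen (1 - e) : Set Y) = ∅ := by
    have h1 : Y.basicOpen e ⊓ Y.basicOpen (1 - e) = ⊥ := by
      rw [← Scheme.basicOpen_mul, he.mul_one_sub_self, Scheme.basicOpen_zero]
    have := congrArg (fun U : Y.Opens => (U : Set Y)) h1
    simpa using this
  have hpre := isPreconnected_univ (α := Y)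
  have h2 := isPreconnected_iff_subset_of_disjoint.1 hpre (Y.basicOpen e : Set Y)
    (Y.basicOpen (1 - e) : Set Y) (Y.basicOpen e).2 (Y.basicOpen (1 - e)).2 (by rw [hcov])
    (by rw [Set.univ_inter, hdisj])
  rcases h2 with h | h
  · -- `1 - e` nilpotent
    right
    have h3 : Y.basicOpen (1 - e) = ⊥ := by
      apply Opens.ext
      rw [Opens.coe_bot, ← hdisj]
      exact (Set.inter_eq_right.2 (fun x _ => h (Set.mem_univ x))).symm
    have h4 := (Scheme.isNilpotent_iff_basicOpen_eq_bot (1 - e)).2 h3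
    have h5 : 1 - e = 0 := he.one_sub.eq_zero_of_isNilpotent h4
    exact (sub_eq_zero.1 h5).symm
  · left
    have h3 : Y.basicOpen e = ⊥ := by
      apply Opens.ext
      rw [Opens.coe_bot, ← hdisj]
      exact (Set.inter_eq_left.2 (fun x _ => h (Set.mem_univ x))).symm
    have h4 := (Scheme.isNilpotent_iff_basicOpen_eq_bot e).2 h3
    exact he.eq_zero_of_isNilpotent h4

end Idem

section Fin

/-- `H^0(X, M) ≃+ M(X)`. -/
noncomputable def hh0Equiv (X : Scheme.{u}) (M : X.Modules) :
    Coh.HH X M 0 ≃+ (Coh.toAb M).obj.obj (op (⊤ : Opens X)) :=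
  Sheaf.H.equiv₀ (Coh.toAb M) Limits.isTerminalTop

theorem hh0Equiv_smul (X : Scheme.{u}) (M : X.Modules) (r : Coh.Γtop X) (x : Coh.HH X M 0) :
    hh0Equiv X M (r • x) = (Coh.smulAb M r).hom.app (op ⊤) (hh0Equiv X M x) := by
  change Sheaf.H.equiv₀ _ _ (Sheaf.H.map (Coh.smulAb M r) 0 x) = _
  rw [← Sheaf.H.equiv₀_naturality]
  rfl

theorem resTop_top (X : Scheme.{u}) (r : Coh.Γtop X) : Coh.resTop X (op ⊤) r = r := by
  change (X.ringCatSheaf.obj.map (𝟙 (op ⊤))).hom r = r
  rw [CategoryTheory.Functor.map_id]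
  rfl

/-- The structure map `k → Γ(Y, O_Y)` of a scheme over `Spec k`. -/
noncomputable def str {k : Type u} [CommRing k] {Y : Scheme.{u}} (f : Y ⟶ Spec (CommRingCat.of k)) :
    k →+* Γ(Y, ⊤) :=
  f.appTop.hom.comp (Scheme.ΓSpecIso (CommRingCat.of k)).inv.hom

/-- Global functions on a proper scheme over a field form a finite-dimensional algebra. -/
theorem finite_Γ (k : Type u) [Field k] (Y : Scheme.{u}) [Y.Over (Spec (CommRingCat.of k))]
    [IsProper (Y ↘ Spec (CommRingCat.of k))] :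
    letI := (str (Y ↘ Spec (CommRingCat.of k))).toAlgebra
    Module.Finite k Γ(Y, ⊤) := by
  letI := (str (Y ↘ Spec (CommRingCat.of k))).toAlgebra
  have hfin : Module.Finite k (Coh.HH Y (Coh.structureModule Y) 0) :=
    Groth.Agent.S0002.result k Y _ (Groth.Agent.Lib.Helper4.Dev.isCoh_structureModule Y) 0
  let e0 := hh0Equiv Y (Coh.structureModule Y)
  let cc : ↑((Coh.toAb (Coh.structureModule Y)).obj.obj (op ⊤)) ≃+ Γ(Y, ⊤) :=
    { toFun := fun x => x
      invFun := fun x => x
      left_inv := fun _ => rfl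
      right_inv := fun _ => rfl
      map_add' := fun _ _ => rfl }
  let e1 := e0.trans cc
  let e : Coh.HH Y (Coh.structureModule Y) 0 ≃ₗ[k] Γ(Y, ⊤) :=
    { toFun := fun x => e1 x
      invFun := fun y => e1.symm y
      left_inv := fun x => e1.symm_apply_apply x
      right_inv := fun y => e1.apply_symm_apply y
      map_add' := fun x y => e1.map_add x y
      map_smul' := fun c x => by
        change cc (e0 (Coh.toGlobal (Y ↘ Spec (CommRingCat.of k)) c • x)) =
          str (Y ↘ Spec (CommRingCat.of k)) c * cc (e0 x)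
        rw [hh0Equiv_smul, Coh.smulAb_app, resTop_top]
        rfl }
  exact Module.Finite.equiv e

end Fin

section Main

variable (k : Type u) [Field k] [IsAlgClosed k] (X : Scheme.{u})
    [X.Over (Spec (CommRingCat.of k))] [IsProper (X ↘ (Spec (CommRingCat.of k)))]
    (𝓘 : X.IdealSheafData)

/-- The tower of rings of functions on the infinitesimal neighbourhoods. -/
noncomputable abbrev DD : ℕᵒᵖ ⥤ CommRingCat.{u} :=
  Functor.ofOpSequence (X := fun m : ℕ => Γ((𝓘 ^ (m + 1)).subscheme, ⊤))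
    (fun m : ℕ => (Scheme.IdealSheafData.inclusion (Lef.pow_succ_le 𝓘 m)).appTop)

theorem range_ι (m : ℕ) :
    Set.range ((𝓘 ^ (m + 1)).subschemeι) = (𝓘.support : Set X) := by
  rw [Scheme.IdealSheafData.range_subschemeι, Scheme.IdealSheafData.support_pow_succ]

theorem main (hY : _root_.IsConnected (𝓘.support : Set X)) :
    IsLocalRing ↑(limit (DD X 𝓘)) ∧
      ∀ a : ↑(limit (DD X 𝓘)), ∃ c : k, ∀ m : ℕ,
        IsNilpotent (Sub.sub (α := ↑Γ((𝓘 ^ (m + 1)).subscheme, ⊤))
          ((limit.π (DD X 𝓘) (op m)).hom a)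
          (str ((𝓘 ^ (m + 1)).subschemeι ≫ (X ↘ Spec (CommRingCat.of k))) c)) := by
  refine tower (DD X 𝓘)
    (fun m => str ((𝓘 ^ (m + 1)).subschemeι ≫ (X ↘ Spec (CommRingCat.of k)))) ?_ ?_ ?_ ?_
  · intro m c
    rw [Functor.ofOpSequence_map_homOfLE_succ]
    have h1 : (𝓘 ^ (m + 1)).subschemeι ≫ (X ↘ Spec (CommRingCat.of k)) =
        Scheme.IdealSheafData.inclusion (Lef.pow_succ_le 𝓘 m) ≫
          ((𝓘 ^ (m + 1 + 1)).subschemeι ≫ (X ↘ Spec (CommRingCat.of k))) := by
      rw [← Category.assoc, Scheme.IdealSheafData.inclusion_subschemeι]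
    change _ = str ((𝓘 ^ (m + 1)).subschemeι ≫ (X ↘ Spec (CommRingCat.of k))) c
    rw [h1]
    unfold str
    rw [Scheme.Hom.comp_appTop]
    rfl
  · intro m
    letI : ((𝓘 ^ (m + 1)).subscheme).Over (Spec (CommRingCat.of k)) :=
      ⟨(𝓘 ^ (m + 1)).subschemeι ≫ (X ↘ Spec (CommRingCat.of k))⟩
    haveI : IsProper (((𝓘 ^ (m + 1)).subscheme) ↘ Spec (CommRingCat.of k)) := by
      change IsProper ((𝓘 ^ (m + 1)).subschemeι ≫ (X ↘ Spec (CommRingCat.of k)))
      infer_instance
    exact finite_Γ k ((𝓘 ^ (m + 1)).subscheme)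
  · intro m e he
    haveI : CompactSpace ((𝓘 ^ (m + 1)).subscheme) :=
      QuasiCompact.compactSpace_of_compactSpace
        ((𝓘 ^ (m + 1)).subschemeι ≫ (X ↘ Spec (CommRingCat.of k)))
    haveI : PreconnectedSpace ((𝓘 ^ (m + 1)).subscheme) := by
      refine ⟨?_⟩
      have hind : Topology.IsInducing ((𝓘 ^ (m + 1)).subschemeι) :=
        ((𝓘 ^ (m + 1)).subschemeι).isEmbedding.isInducing
      rw [← hind.isPreconnected_image, Set.image_univ, range_ι]
      exact hY.isPreconnected
    exact idem_of_preconnected ((𝓘 ^ (m + 1)).subscheme) e he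
  · intro m
    haveI : Nonempty ((𝓘 ^ (m + 1)).subscheme) := by
      obtain ⟨x, hx⟩ := hY.nonempty
      rw [← range_ι X 𝓘 m] at hx
      obtain ⟨y, -⟩ := hx
      exact ⟨y⟩
    haveI : Nonempty (⊤ : ((𝓘 ^ (m + 1)).subscheme).Opens) :=
      ⟨⟨Classical.arbitrary _, trivial⟩⟩
    change Nontrivial ↑Γ((𝓘 ^ (m + 1)).subscheme, ⊤)
    exact Scheme.component_nontrivial ((𝓘 ^ (m + 1)).subscheme) ⊤

end Main

end Groth.Agent.Lib.Helper17.FormLoc
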