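import Groth.Agent.Lib.Helper17MV2

/-!
# Sections with support: independence of the open immersion (helper17)

For open immersions `j`, `j'` into `Y` with the same range, `Γ_Z` computed with `j` or with `j'`
agree: `DCoh.gammaZ j ≅ DCoh.gammaZ j'`.
-/

set_option autoImplicit false

universe u

open CategoryTheory CategoryTheory.Limits AlgebraicGeometry TopologicalSpace Opposite

namespace Groth.Agent.Lib.Helper17.GammaZ

open Groth.Agent.Lib.Helper17.MV

variable {U U' Y : Scheme.{u}} (j : U ⟶ Y) (j' : U' ⟶ Y) [IsOpenImmersion j] [IsOpenImmersion j']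

lemma unit_app_app (M : Y.Modules) (O : Y.Opens) :
    ((Scheme.Modules.restrictAdjunction j).unit.app M).app O =
      M.presheaf.map (homOfLE (j.image_preimage_le O)).op := rfl

lemma isIso_restrict_unit (h : j'.opensRange ≤ j.opensRange) (M : Y.Modules) :
    IsIso ((Scheme.Modules.restrictFunctor j').map
      ((Scheme.Modules.restrictAdjunction j).unit.app M)) := by
  rw [Scheme.Modules.Hom.isIso_iff_isIso_app]
  intro O'
  change IsIso (((Scheme.Modules.restrictAdjunction j).unit.app M).app (j' ''ᵁ O'))
  rw [unit_app_app]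
  apply isIso_presheaf_map_of_eq
  rw [Scheme.Hom.image_preimage_eq_opensRange_inf]
  exact le_inf ((j'.image_le_opensRange O').trans h) le_rfl

/-- the restriction map `j_* j^* M ⟶ j'_* j'^* M` when the range of `j'` is contained in that of
`j`. -/
noncomputable def ρ' (h : j'.opensRange ≤ j.opensRange) (M : Y.Modules) :
    (Scheme.Modules.restrictFunctor j ⋙ Scheme.Modules.pushforward j).obj M ⟶
      (Scheme.Modules.restrictFunctor j' ⋙ Scheme.Modules.pushforward j').obj M :=
  haveI := isIso_restrict_unit j j' h M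
  (Scheme.Modules.restrictAdjunction j').homEquiv _ _
    (inv ((Scheme.Modules.restrictFunctor j').map
      ((Scheme.Modules.restrictAdjunction j).unit.app M)))

lemma unit_ρ' (h : j'.opensRange ≤ j.opensRange) (M : Y.Modules) :
    (Scheme.Modules.restrictAdjunction j).unit.app M ≫ ρ' j j' h M =
      (Scheme.Modules.restrictAdjunction j').unit.app M := by
  haveI := isIso_restrict_unit j j' h M
  unfold ρ'
  rw [Adjunction.homEquiv_unit]
  have := (Scheme.Modules.restrictAdjunction j').unit.naturality
    ((Scheme.Modules.restrictAdjunction j).unit.app M)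
  dsimp only [Functor.id_obj, Functor.id_map] at this
  rw [← Category.assoc, this, Category.assoc]
  change _ ≫ (Scheme.Modules.pushforward j').map _ ≫ (Scheme.Modules.pushforward j').map _ = _
  rw [← Functor.map_comp, IsIso.hom_inv_id, CategoryTheory.Functor.map_id, Category.comp_id]

/-- the inclusion `Γ_Z M ⟶ M`. -/
noncomputable abbrev ι (M : Y.Modules) : (DCoh.gammaZ j).obj M ⟶ M := (CxOX.gammaZι j).app M

instance (M : Y.Modules) : Mono (ι j M) := by
  change Mono (kernel.ι _)
  infer_instance

lemma ι_unit (M : Y.Modules) : ι j M ≫ (Scheme.Modules.restrictAdjunction j).unit.app M = 0 :=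
  kernel.condition _

lemma ι_naturality {M N : Y.Modules} (φ : M ⟶ N) :
    (DCoh.gammaZ j).map φ ≫ ι j N = ι j M ≫ φ :=
  (CxOX.gammaZι j).naturality φ

/-- lifting a morphism killed by the unit to `Γ_Z`. -/
noncomputable def lift {A M : Y.Modules} (a : A ⟶ M)
    (ha : a ≫ (Scheme.Modules.restrictAdjunction j).unit.app M = 0) :
    A ⟶ (DCoh.gammaZ j).obj M := kernel.lift _ a ha

@[reassoc (attr := simp)]
lemma lift_ι {A M : Y.Modules} (a : A ⟶ M)
    (ha : a ≫ (Scheme.Modules.restrictAdjunction j).unit.app M = 0) :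
    lift j a ha ≫ ι j M = a := kernel.lift_ι _ _ _

lemma ι_unit' (h : j'.opensRange ≤ j.opensRange) (M : Y.Modules) :
    ι j M ≫ (Scheme.Modules.restrictAdjunction j').unit.app M = 0 := by
  rw [← unit_ρ' j j' h M, ← Category.assoc, ι_unit, zero_comp]

/-- comparison `Γ_Z ⟶ Γ_{Z'}` for `Z ⊆ Z'` (complements of the ranges of `j`, `j'`). -/
noncomputable def gammaZMap (h : j'.opensRange ≤ j.opensRange) :
    DCoh.gammaZ j ⟶ DCoh.gammaZ j' where
  app M := lift j' (ι j M) (ι_unit' j j' h M)
  naturality M N φ := by
    rw [← cancel_mono (ι j' N), Category.assoc, lift_ι, Category.assoc, ι_naturality j' φ,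
      lift_ι_assoc, ι_naturality]

@[reassoc (attr := simp)]
lemma gammaZMap_app_ι (h : j'.opensRange ≤ j.opensRange) (M : Y.Modules) :
    (gammaZMap j j' h).app M ≫ ι j' M = ι j M :=
  lift_ι _ _ _

/-- `Γ_Z` only depends on the range of the open immersion. -/
noncomputable def gammaZIso (h : j.opensRange = j'.opensRange) :
    DCoh.gammaZ j ≅ DCoh.gammaZ j' where
  hom := gammaZMap j j' h.ge
  inv := gammaZMap j' j h.le
  hom_inv_id := by
    ext M : 2
    rw [← cancel_mono (ι j M), NatTrans.comp_app, Category.assoc, gammaZMap_app_ι,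
      gammaZMap_app_ι, NatTrans.id_app, Category.id_comp]
  inv_hom_id := by
    ext M : 2
    rw [← cancel_mono (ι j' M), NatTrans.comp_app, Category.assoc, gammaZMap_app_ι,
      gammaZMap_app_ι, NatTrans.id_app, Category.id_comp]

end Groth.Agent.Lib.Helper17.GammaZ
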