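import Groth.Agent.Lib.Helper17GammaZ1
import Groth.Agent.Lib.Helper23DerLES
import Groth.Agent.Lib.Helper23DerComp
import Groth.Agent.Lib.Helper21DerPost

/-!
# Sections with support: left exactness and the long exact sequence (helper17)
-/

set_option autoImplicit false

universe u

open CategoryTheory CategoryTheory.Limits AlgebraicGeometry TopologicalSpace Opposite

namespace Groth.Agent.Lib.Helper17.GammaZ

section General

variable {C D : Type*} [Category C] [Category D] [Abelian C] [Abelian D]

/-- the pointwise kernel of a natural transformation between left exact functors is left exact. -/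
theorem preservesFiniteLimits_of_isKernel (G F P : C ⥤ D) [G.Additive] [F.Additive] [P.Additive]
    [PreservesFiniteLimits F] [PreservesFiniteLimits P] (α : G ⟶ F) (β : F ⟶ P)
    (w : ∀ X, α.app X ≫ β.app X = 0) (hk : ∀ X, IsLimit (KernelFork.ofι (α.app X) (w X))) :
    PreservesFiniteLimits G := by
  rw [Functor.preservesFiniteLimits_iff_forall_exact_map_and_mono]
  intro S hS
  haveI := hS.mono_f
  haveI : ∀ X, Mono (α.app X) := fun X => mono_of_isLimit_fork (hk X)
  have hmono : Mono (G.map S.f) := by
    haveI : Mono (G.map S.f ≫ α.app S.X₂) := by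
      rw [α.naturality]; infer_instance
    exact mono_of_mono (G.map S.f) (α.app S.X₂)
  have hF : (S.map F).Exact :=
    ((Functor.preservesFiniteLimits_iff_forall_exact_map_and_mono F).1 inferInstance S hS).1
  have key : ∀ {A : D} (x₂ : A ⟶ G.obj S.X₂), x₂ ≫ G.map S.g = 0 →
      ∃ (A' : D) (π : A' ⟶ A) (_ : Epi π) (x₁ : A' ⟶ G.obj S.X₁), π ≫ x₂ = x₁ ≫ G.map S.f := by
    intro A x₂ hx₂
    have h1 : (x₂ ≫ α.app S.X₂) ≫ F.map S.g = 0 := by
      rw [Category.assoc, ← α.naturality, ← Category.assoc, hx₂, zero_comp]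
    obtain ⟨A', π, hπ, y₀, hy⟩ := hF.exact_up_to_refinements (x₂ ≫ α.app S.X₂) h1
    obtain ⟨y, hy'⟩ : ∃ y : A' ⟶ F.obj S.X₁, π ≫ x₂ ≫ α.app S.X₂ = y ≫ F.map S.f := ⟨y₀, hy⟩
    have h2 : y ≫ β.app S.X₁ = 0 := by
      haveI : Mono (P.map S.f) := inferInstance
      rw [← cancel_mono (P.map S.f), Category.assoc, ← β.naturality, ← Category.assoc, ← hy',
        Category.assoc, Category.assoc, w, comp_zero, comp_zero, zero_comp]
    let y' : A' ⟶ G.obj S.X₁ := (hk S.X₁).lift (KernelFork.ofι y h2)
    have hy'' : y' ≫ α.app S.X₁ = y := (hk S.X₁).fac _ WalkingParallelPair.zero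
    refine ⟨A', π, hπ, y', ?_⟩
    rw [← cancel_mono (α.app S.X₂), Category.assoc, hy', Category.assoc, α.naturality,
      ← Category.assoc, hy'']
  refine ⟨?_, hmono⟩
  rw [ShortComplex.exact_iff_exact_up_to_refinements]
  intro A x₂ hx₂
  exact key x₂ hx₂

/-- the higher right derived functors of the identity vanish. -/
theorem isZero_rightDerived_succ_id [HasInjectiveResolutions C] (X : C) (n : ℕ) :
    IsZero (((𝟭 C).rightDerived (n + 1)).obj X) := by
  let I := injectiveResolution X
  refine IsZero.of_iso ?_ (I.isoRightDerivedObj (𝟭 C) (n + 1))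
  have h : (I.cocomplex).ExactAt (n + 1) := I.cocomplex_exactAt_succ n
  have h' : (((𝟭 C).mapHomologicalComplex _).obj I.cocomplex).ExactAt (n + 1) :=
    ShortComplex.Exact.map h (𝟭 C)
  exact (HomologicalComplex.exactAt_iff_isZero_homology _ _).1 h'

end General

end Groth.Agent.Lib.Helper17.GammaZ
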