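import Groth.Prelude.Def_CxOX

/-!
# `Γ_Z` only depends on the open range of `j` (helper17)

For an open immersion `j : U ⟶ X`, the functors `DCoh.gammaZ j` and `DCoh.gammaZ j.opensRange.ι`
are naturally isomorphic.
-/

set_option autoImplicit false
set_option linter.style.haveILetI false

universe u

open CategoryTheory CategoryTheory.Limits AlgebraicGeometry

namespace Groth.Agent.Lib.Helper17.GammaZIso

section Abstract

variable {C D₁ D₂ : Type*} [Category C] [Category D₁] [Category D₂]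
  {L₁ : C ⥤ D₁} {P₁ : D₁ ⥤ C} (adj₁ : L₁ ⊣ P₁) {L₂ : C ⥤ D₂} {P₂ : D₂ ⥤ C} (adj₂ : L₂ ⊣ P₂)
  (E : D₂ ⥤ D₁) (iso : L₁ ≅ L₂ ⋙ E)

include iso in
/-- if `L₁` factors through `L₂`, the unit of `L₁ ⊣ P₁` factors through the unit of `L₂ ⊣ P₂`. -/
lemma exists_factor (M : C) :
    ∃ u : P₂.obj (L₂.obj M) ⟶ P₁.obj (L₁.obj M), adj₂.unit.app M ≫ u = adj₁.unit.app M := by
  let θ : L₁.obj (P₂.obj (L₂.obj M)) ⟶ L₁.obj M :=
    iso.hom.app _ ≫ E.map (adj₂.counit.app (L₂.obj M)) ≫ iso.inv.app M
  have hθ : L₁.map (adj₂.unit.app M) ≫ θ = 𝟙 _ := by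
    have h1 : L₁.map (adj₂.unit.app M) ≫ iso.hom.app (P₂.obj (L₂.obj M)) =
        iso.hom.app M ≫ E.map (L₂.map (adj₂.unit.app M)) := iso.hom.naturality (adj₂.unit.app M)
    simp only [θ]
    rw [← Category.assoc, h1, Category.assoc, ← Category.assoc (E.map _), ← E.map_comp]
    have h2 : L₂.map (adj₂.unit.app M) ≫ adj₂.counit.app (L₂.obj M) = 𝟙 _ :=
      adj₂.left_triangle_components M
    erw [h2]
    simp
  refine ⟨adj₁.unit.app _ ≫ P₁.map θ, ?_⟩
  have h3 : adj₂.unit.app M ≫ adj₁.unit.app (P₂.obj (L₂.obj M)) =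
      adj₁.unit.app M ≫ P₁.map (L₁.map (adj₂.unit.app M)) :=
    adj₁.unit.naturality (adj₂.unit.app M)
  rw [← Category.assoc, h3, Category.assoc, ← P₁.map_comp, hθ]
  erw [P₁.map_id]
  exact Category.comp_id _

end Abstract

section Kernel

variable {A : Type*} [Category A] [Abelian A]

/-- two maps out of `M` factoring through each other have isomorphic kernels. -/
noncomputable def kernelIsoOfFactor {M X Y : A} (a : M ⟶ X) (b : M ⟶ Y)
    (hab : ∃ u : X ⟶ Y, a ≫ u = b) (hba : ∃ v : Y ⟶ X, b ≫ v = a) : kernel a ≅ kernel b where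
  hom := kernel.lift b (kernel.ι a) (by
    obtain ⟨u, rfl⟩ := hab
    rw [← Category.assoc, kernel.condition, zero_comp])
  inv := kernel.lift a (kernel.ι b) (by
    obtain ⟨v, rfl⟩ := hba
    rw [← Category.assoc, kernel.condition, zero_comp])
  hom_inv_id := by
    apply equalizer.hom_ext
    simp
  inv_hom_id := by
    apply equalizer.hom_ext
    simp

@[reassoc (attr := simp)]
lemma kernelIsoOfFactor_hom_ι {M X Y : A} (a : M ⟶ X) (b : M ⟶ Y)
    (hab : ∃ u : X ⟶ Y, a ≫ u = b) (hba : ∃ v : Y ⟶ X, b ≫ v = a) :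
    (kernelIsoOfFactor a b hab hba).hom ≫ kernel.ι b = kernel.ι a := by
  simp [kernelIsoOfFactor]

end Kernel

section Sch

variable {U X : Scheme.{u}} (j : U ⟶ X) [IsOpenImmersion j]

lemma exists_factor₁ (M : X.Modules) :
    ∃ u, (Scheme.Modules.restrictAdjunction j.opensRange.ι).unit.app M ≫ u =
      (Scheme.Modules.restrictAdjunction j).unit.app M :=
  exists_factor (Scheme.Modules.restrictAdjunction j)
    (Scheme.Modules.restrictAdjunction j.opensRange.ι)
    (Scheme.Modules.restrictFunctor j.isoOpensRange.hom)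
    (Scheme.Modules.restrictFunctorCongr (j.isoOpensRange_hom_ι).symm ≪≫
      Scheme.Modules.restrictFunctorComp j.isoOpensRange.hom j.opensRange.ι) M

lemma exists_factor₂ (M : X.Modules) :
    ∃ u, (Scheme.Modules.restrictAdjunction j).unit.app M ≫ u =
      (Scheme.Modules.restrictAdjunction j.opensRange.ι).unit.app M :=
  exists_factor (Scheme.Modules.restrictAdjunction j.opensRange.ι)
    (Scheme.Modules.restrictAdjunction j)
    (Scheme.Modules.restrictFunctor j.isoOpensRange.inv)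
    (Scheme.Modules.restrictFunctorCongr (j.isoOpensRange_inv_comp).symm ≪≫
      Scheme.Modules.restrictFunctorComp j.isoOpensRange.inv j) M

/-- `Γ_Z` for `j` and for the inclusion of its open range. -/
noncomputable def gammaZIso : DCoh.gammaZ j ≅ DCoh.gammaZ j.opensRange.ι :=
  NatIso.ofComponents
    (fun M => kernelIsoOfFactor _ _ (exists_factor₂ j M) (exists_factor₁ j M))
    (fun {M N} φ => by
      apply equalizer.hom_ext
      simp [DCoh.gammaZ])

end Sch

end Groth.Agent.Lib.Helper17.GammaZIso
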