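import Groth.Agent.Lib.Helper17GammaZTri3
import Groth.Agent.Lib.Helper17SumPushQC2

/-!
# `RΓ_Z` commutes with coproducts on `D_QCoh` (helper17), case of an open subscheme `V.ι`
-/

set_option autoImplicit false
set_option linter.style.haveILetI false
set_option maxHeartbeats 800000

universe u

open CategoryTheory CategoryTheory.Limits Opposite AlgebraicGeometry TopologicalSpace
  Pretriangulated ZeroObject

attribute [local instance] HasDerivedCategory.standard

namespace Groth.Agent.Lib.Helper17.GammaZSum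

open Groth.Agent.Lib.Helper17.MV Groth.Agent.Lib.Helper17.KInj Groth.Agent.Lib.Helper17.AffPush
  Groth.Agent.Lib.Helper17.QCPush Groth.Agent.Lib.Helper17.DQAdj DerivedCategory
  Groth.Agent.Lib.Helper17.UnitSupp Groth.Agent.Lib.Helper17.GammaZTri
  Groth.Agent.Lib.Helper17.SumPushQC Groth.Agent.Lib.Helper17.SumPush
  Groth.Agent.Lib.Helper17.CoprodTri Groth.Agent.Lib.Helper21.DCoprod

attribute [local instance] Groth.Agent.Lib.Helper17.QCPush.hasRpush

variable {X : Scheme.{u}} (V : X.Opens) [CxOX.HasRgammaZ V.ι]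

/-- the triangle `RΓ_Z K ⟶ K ⟶ C ⟶` with `C ≅ Rj_* j^* K`. -/
theorem exists_triangle (K : DCoh.D X) :
    ∃ (C : DCoh.D X) (g : K ⟶ C) (δ : C ⟶ ((CxOX.RgammaZ V.ι).obj K)⟦(1 : ℤ)⟧),
      Triangle.mk ((CxOX.RgammaZToId V.ι).app K) g δ ∈ distTriang (DCoh.D X) ∧
      Nonempty (C ≅ (DCoh.Rpush V.ι).obj ((DCoh.restrictD V.ι).obj K)) := by
  haveI := isGrothendieckAbelian X
  obtain ⟨I, hIK, hIinj, ⟨e⟩⟩ := exists_model K
  haveI := hIK
  haveI : IsIso ((rgUnit V.ι).app I) :=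
    isIso_app_of_isKInjective (DCoh.gammaZ V.ι) _ (rgUnit V.ι) I
  obtain ⟨δ₀, hδ₀⟩ := exists_distinguished V I hIinj
  obtain ⟨C, g, δ, hT⟩ := distinguished_cocone_triangle ((CxOX.RgammaZToId V.ι).app K)
  have h1 := rgUnit_RgammaZToId V.ι I
  have nat := (CxOX.RgammaZToId V.ι).naturality e.hom
  let a : (CxOX.RgammaZ V.ι).obj K ≅
      (Q : _ ⥤ DCoh.D X).obj (((DCoh.gammaZ V.ι).mapHomologicalComplex (ComplexShape.up ℤ)).obj I) :=
    (CxOX.RgammaZ V.ι).mapIso e ≪≫ (asIso ((rgUnit V.ι).app I)).symm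
  have comm : a.hom ≫ (Q : _ ⥤ DCoh.D X).map (ιC V.ι I) =
      (CxOX.RgammaZToId V.ι).app K ≫ e.hom := by
    rw [← h1]
    simp only [a, Iso.trans_hom, Functor.mapIso_hom, Iso.symm_hom, asIso_inv, Category.assoc,
      IsIso.inv_hom_id_assoc]
    exact nat
  obtain ⟨e', -, -⟩ := exists_iso_of_arrow_iso (Triangle.mk ((CxOX.RgammaZToId V.ι).app K) g δ)
    (Triangle.mk ((Q : _ ⥤ DCoh.D X).map (ιC V.ι I)) ((Q : _ ⥤ DCoh.D X).map (ηC V I)) δ₀) hT hδ₀
    (Arrow.isoMk a e comm)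
  exact ⟨C, g, δ, hT, ⟨Triangle.π₃.mapIso e' ≪≫ vIso V I ≪≫
    (DCoh.Rpush V.ι).mapIso ((DCoh.restrictD V.ι).mapIso e.symm)⟩⟩

lemma PZ_sigma {ι : Type u} (A : ι → DCoh.D X) [HasCoproduct A] (hA : ∀ i, PZ V (A i)) :
    PZ V (∐ A) := by
  haveI := isGrothendieckAbelian X
  apply Groth.Agent.Lib.Helper17.UnitSupp.isZero_of_homology
  intro n
  refine IsZero.of_iso ?_
    ((Groth.Agent.Lib.Helper17.Hyp.homologyNatIso (Scheme.Modules.restrictFunctor V.ι) n).app (∐ A))
  refine isZero_map_homology_sigma (Scheme.Modules.restrictFunctor V.ι) A n (fun i => ?_)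
  refine IsZero.of_iso ?_
    ((Groth.Agent.Lib.Helper17.Hyp.homologyNatIso (Scheme.Modules.restrictFunctor V.ι) n).app
      (A i)).symm
  exact (DerivedCategory.homologyFunctor _ n).map_isZero (hA i)

/-- **`RΓ_Z` commutes with coproducts on `D_QCoh`** (complement of a retrocompact open). -/
theorem isIso_sigmaDesc_RgammaZ [QuasiCompact V.ι] {ι : Type u} (E : ι → DCoh.D X)
    (hE : ∀ i, DCoh.IsQCohD (E i)) [HasCoproduct E]
    [HasCoproduct (fun i => (CxOX.RgammaZ V.ι).obj (E i))] :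
    IsIso (Limits.Sigma.desc (fun i => (CxOX.RgammaZ V.ι).map (Limits.Sigma.ι E i))) := by
  haveI := isGrothendieckAbelian X
  haveI := isGrothendieckAbelian (V : Scheme.{u})
  haveI := hasExactColimitsOfShape_discrete X ι
  haveI := hasExactColimitsOfShape_discrete (V : Scheme.{u}) ι
  haveI : HasCoproductsOfShape ι (DCoh.D X) := hasCoproductsOfShape_derivedCategory ι
  haveI : HasCoproductsOfShape ι (DCoh.D (V : Scheme.{u})) := hasCoproductsOfShape_derivedCategory ι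
  choose C g δ hT hC using fun i => exists_triangle V (E i)
  let T : ι → Triangle (DCoh.D X) := fun i =>
    Triangle.mk ((CxOX.RgammaZToId V.ι).app (E i)) (g i) (δ i)
  have hdist := coproductTriangle_distinguished T hT
  let M : DCoh.D (V : Scheme.{u}) := ∐ fun i => (DCoh.restrictD V.ι).obj (E i)
  haveI hS : IsIso (Limits.Sigma.desc (fun i => (DCoh.Rpush V.ι).map
      (Limits.Sigma.ι (fun i => (DCoh.restrictD V.ι).obj (E i)) i))) :=
    isIso_sigmaDesc_Rpush_of_isQCohD V.ι (fun i => (DCoh.restrictD V.ι).obj (E i))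
      (fun i => isQCohD_restrictD' _ _ (hE i))
  let eC : (∐ fun i => (T i).obj₃) ≅ (DCoh.Rpush V.ι).obj M :=
    Limits.Sigma.mapIso (fun i => (hC i).some) ≪≫
      asIso (Limits.Sigma.desc (fun i => (DCoh.Rpush V.ι).map
        (Limits.Sigma.ι (fun i => (DCoh.restrictD V.ι).obj (E i)) i)))
  have huniv' : IsUniv (PZ V) (coproductTriangle T).mor₁ := by
    intro A hA
    exact bijective_postcomp_mor₁' _ hdist A
      (fun φ => by
        have h := hom_rpush_eq_zero V A hA M (φ ≫ eC.hom)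
        exact (cancel_mono eC.hom).1 (h.trans zero_comp.symm))
      (fun φ => hom_shift_rpush_eq_zero V A hA M _ eC φ)
  have huniv := isUniv_RgammaZToId V (∐ E)
  have hP : PZ V ((CxOX.RgammaZ V.ι).obj (∐ E)) := PZ_RgammaZ V _
  have hP' : PZ V (∐ fun i => (CxOX.RgammaZ V.ι).obj (E i)) :=
    PZ_sigma V _ (fun i => PZ_RgammaZ V (E i))
  refine IsUniv.isIso_of_comp_eq (PZ V) huniv huniv' hP hP' _ ?_
  refine Limits.Sigma.hom_ext _ _ (fun i => ?_)
  have e1 : Limits.Sigma.ι (fun i => (CxOX.RgammaZ V.ι).obj (E i)) i ≫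
      Limits.Sigma.map (f := fun i => (CxOX.RgammaZ V.ι).obj (E i)) (g := E)
        (fun i => (CxOX.RgammaZToId V.ι).app (E i)) =
      (CxOX.RgammaZToId V.ι).app (E i) ≫ Limits.Sigma.ι E i := Limits.Sigma.ι_map _ i
  refine Eq.trans ?_ e1.symm
  have e2 : Limits.Sigma.ι (fun i => (CxOX.RgammaZ V.ι).obj (E i)) i ≫
      Limits.Sigma.desc (fun i => (CxOX.RgammaZ V.ι).map (Limits.Sigma.ι E i)) ≫
        (CxOX.RgammaZToId V.ι).app (∐ E) =
      (CxOX.RgammaZToId V.ι).app (E i) ≫ Limits.Sigma.ι E i := by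
    rw [Limits.Sigma.ι_desc_assoc]
    exact (CxOX.RgammaZToId V.ι).naturality (Limits.Sigma.ι E i)
  exact e2

end Groth.Agent.Lib.Helper17.GammaZSum
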