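import Groth.Agent.Lib.Helper17GammaZSum1
import Groth.Agent.Lib.Helper17GammaZIso1

/-!
# `RΓ_Z` commutes with coproducts on `D_QCoh` (helper17), general quasi-compact open immersion
-/

set_option autoImplicit false
set_option linter.style.haveILetI false
set_option maxHeartbeats 800000

universe u

open CategoryTheory CategoryTheory.Limits AlgebraicGeometry

attribute [local instance] HasDerivedCategory.standard

namespace Groth.Agent.Lib.Helper17.GammaZSum

open Groth.Agent.Lib.Helper17.GammaZIso

section Abstract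

/-- a natural isomorphism of additive functors induces one on homotopy categories. -/
noncomputable def mapHomotopyCategoryIso {V W : Type*} [Category V] [Preadditive V] [Category W]
    [Preadditive W] {ι : Type*} {F G : V ⥤ W} [F.Additive] [G.Additive] (e : F ≅ G)
    (c : ComplexShape ι) : F.mapHomotopyCategory c ≅ G.mapHomotopyCategory c where
  hom := NatTrans.mapHomotopyCategory e.hom c
  inv := NatTrans.mapHomotopyCategory e.inv c
  hom_inv_id := by
    rw [← NatTrans.mapHomotopyCategory_comp, e.hom_inv_id, NatTrans.mapHomotopyCategory_id]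
  inv_hom_id := by
    rw [← NatTrans.mapHomotopyCategory_comp, e.inv_hom_id, NatTrans.mapHomotopyCategory_id]

lemma isIso_sigmaDesc_of_natIso {C D : Type*} [Category C] [Category D] {F F' : C ⥤ D}
    (e : F ≅ F') {ι : Type*} (X : ι → C) [HasCoproduct X] [HasCoproduct (fun i => F.obj (X i))]
    [HasCoproduct (fun i => F'.obj (X i))]
    (h : IsIso (Limits.Sigma.desc (fun i => F'.map (Limits.Sigma.ι X i)))) :
    IsIso (Limits.Sigma.desc (fun i => F.map (Limits.Sigma.ι X i))) := by
  haveI := h
  have e1 : Limits.Sigma.desc (fun i => F.map (Limits.Sigma.ι X i)) =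
      Limits.Sigma.map (fun i => e.hom.app (X i)) ≫
        Limits.Sigma.desc (fun i => F'.map (Limits.Sigma.ι X i)) ≫ e.inv.app (∐ X) := by
    refine Limits.Sigma.hom_ext _ _ (fun i => ?_)
    rw [Limits.Sigma.ι_desc, Limits.Sigma.ι_map_assoc, Limits.Sigma.ι_desc_assoc]
    have := e.inv.naturality (Limits.Sigma.ι X i)
    rw [this, Iso.hom_inv_id_app_assoc]
  haveI : IsIso (Limits.Sigma.map (fun i => e.hom.app (X i))) := by
    refine ⟨Limits.Sigma.map (fun i => e.inv.app (X i)), ?_, ?_⟩
    · refine Limits.Sigma.hom_ext _ _ (fun i => ?_)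
      rw [Limits.Sigma.ι_map_assoc, Limits.Sigma.ι_map, Iso.hom_inv_id_app_assoc,
        Category.comp_id]
    · refine Limits.Sigma.hom_ext _ _ (fun i => ?_)
      rw [Limits.Sigma.ι_map_assoc, Limits.Sigma.ι_map, Iso.inv_hom_id_app_assoc,
        Category.comp_id]
  rw [e1]
  infer_instance

end Abstract

section Sch

variable {U X : Scheme.{u}} (j : U ⟶ X) [IsOpenImmersion j]

/-- `gammaZKh` for `j` and for the inclusion of its open range. -/
noncomputable def gammaZKhIso : CxOX.gammaZKh j ≅ CxOX.gammaZKh j.opensRange.ι :=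
  Functor.isoWhiskerRight (mapHomotopyCategoryIso (gammaZIso j) (ComplexShape.up ℤ))
    DerivedCategory.Qh

lemma hasRgammaZ_opensRange [CxOX.HasRgammaZ j] : CxOX.HasRgammaZ j.opensRange.ι :=
  (Functor.hasRightDerivedFunctor_iff_of_iso (gammaZKhIso j)
    (HomotopyCategory.quasiIso X.Modules (ComplexShape.up ℤ))).1 inferInstance

/-- `RΓ_Z` for `j` and for the inclusion of its open range. -/
noncomputable def RgammaZIso [CxOX.HasRgammaZ j] [CxOX.HasRgammaZ j.opensRange.ι] :
    CxOX.RgammaZ j ≅ CxOX.RgammaZ j.opensRange.ι :=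
  Functor.rightDerivedNatIso (CxOX.RgammaZ j) (CxOX.RgammaZ j.opensRange.ι)
    ((CxOX.gammaZKh j).totalRightDerivedUnit DerivedCategory.Qh
      (HomotopyCategory.quasiIso X.Modules (ComplexShape.up ℤ)))
    ((CxOX.gammaZKh j.opensRange.ι).totalRightDerivedUnit DerivedCategory.Qh
      (HomotopyCategory.quasiIso X.Modules (ComplexShape.up ℤ)))
    (HomotopyCategory.quasiIso X.Modules (ComplexShape.up ℤ)) (gammaZKhIso j)

/-- **`RΓ_Z` commutes with coproducts on `D_QCoh`**, `Z` the complement of a quasi-compact open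
immersion. -/
theorem isIso_sigmaDesc_RgammaZ' [QuasiCompact j] [CxOX.HasRgammaZ j] {ι : Type u}
    (E : ι → DCoh.D X) (hE : ∀ i, DCoh.IsQCohD (E i)) [HasCoproduct E]
    [HasCoproduct (fun i => (CxOX.RgammaZ j).obj (E i))] :
    IsIso (Limits.Sigma.desc (fun i => (CxOX.RgammaZ j).map (Limits.Sigma.ι E i))) := by
  haveI := hasRgammaZ_opensRange j
  haveI : QuasiCompact j.opensRange.ι := by
    rw [← j.isoOpensRange_inv_comp]
    infer_instance
  haveI : HasCoproduct (fun i => (CxOX.RgammaZ j.opensRange.ι).obj (E i)) :=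
    hasColimit_of_iso (F := Discrete.functor (fun i => (CxOX.RgammaZ j).obj (E i)))
      (G := Discrete.functor (fun i => (CxOX.RgammaZ j.opensRange.ι).obj (E i)))
      (Discrete.natIso (fun i => ((RgammaZIso j).app (E i.as)).symm))
  exact isIso_sigmaDesc_of_natIso (RgammaZIso j) E
    (isIso_sigmaDesc_RgammaZ j.opensRange E hE)

end Sch

end Groth.Agent.Lib.Helper17.GammaZSum
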