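import Groth.Agent.Lib.Helper17UnitSupp3
import Groth.Agent.Lib.Helper17GammaZ3

/-!
# The triangle `RΓ_Z K ⟶ K ⟶ Rj_* j^* K` and the universal property of `RΓ_Z K ⟶ K` (helper17)
-/

set_option autoImplicit false
set_option linter.style.haveILetI false
set_option maxHeartbeats 400000

universe u

open CategoryTheory CategoryTheory.Limits Opposite AlgebraicGeometry TopologicalSpace
  Pretriangulated ZeroObject

attribute [local instance] HasDerivedCategory.standard

namespace Groth.Agent.Lib.Helper17.GammaZTri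

open Groth.Agent.Lib.Helper17.MV Groth.Agent.Lib.Helper17.KInj Groth.Agent.Lib.Helper17.AffPush
  Groth.Agent.Lib.Helper17.QCPush Groth.Agent.Lib.Helper17.DQAdj DerivedCategory
  Groth.Agent.Lib.Helper17.UnitSupp

attribute [local instance] Groth.Agent.Lib.Helper17.QCPush.hasRpush

section

variable {U X : Scheme.{u}} (j : U ⟶ X) [IsOpenImmersion j] [CxOX.HasRgammaZ j]

/-- the termwise inclusion `Γ_Z I ⟶ I`. -/
noncomputable def ιC (I : CochainComplex X.Modules ℤ) :
    ((DCoh.gammaZ j).mapHomologicalComplex (ComplexShape.up ℤ)).obj I ⟶ I :=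
  (NatTrans.mapHomologicalComplex (CxOX.gammaZι j) (ComplexShape.up ℤ)).app I ≫
    (Functor.mapHomologicalComplexIdIso X.Modules (ComplexShape.up ℤ)).hom.app I

/-- the unit of `RΓ_Z` on complexes. -/
noncomputable abbrev rgUnit :
    (DCoh.gammaZ j).mapHomologicalComplex (ComplexShape.up ℤ) ⋙ DerivedCategory.Q ⟶
      DerivedCategory.Q ⋙ CxOX.RgammaZ j :=
  unitOfK (DCoh.gammaZ j) (CxOX.RgammaZ j)
    ((CxOX.gammaZKh j).totalRightDerivedUnit DerivedCategory.Qh
      (HomotopyCategory.quasiIso X.Modules (ComplexShape.up ℤ)))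

lemma gammaZKhι_app (I : CochainComplex X.Modules ℤ) :
    (CxOX.gammaZKhι j).app ((HomotopyCategory.quotient X.Modules (ComplexShape.up ℤ)).obj I) =
      Qh.map (((DCoh.gammaZ j).mapHomotopyCategoryFactors (ComplexShape.up ℤ)).hom.app I) ≫
        Qh.map ((HomotopyCategory.quotient X.Modules (ComplexShape.up ℤ)).map (ιC j I)) := by
  unfold CxOX.gammaZKhι ιC
  erw [Quotient.natTransLift_app]
  simp only [NatTrans.comp_app, Functor.whiskerRight_app, Functor.associator_hom_app,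
    Functor.associator_inv_app, Functor.leftUnitor_hom_app, Category.id_comp, Category.comp_id,
    Functor.comp_map, Functor.map_comp]
  erw [Category.id_comp]

/-- the canonical map `RΓ_Z ⟶ 𝟭` on the image of a complex. -/
lemma rgUnit_RgammaZToId (I : CochainComplex X.Modules ℤ) :
    (rgUnit j).app I ≫ (CxOX.RgammaZToId j).app (Q.obj I) = Q.map (ιC j I) := by
  have h := Functor.rightDerived_fac_app (CxOX.RgammaZ j)
    ((CxOX.gammaZKh j).totalRightDerivedUnit DerivedCategory.Qh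
      (HomotopyCategory.quasiIso X.Modules (ComplexShape.up ℤ)))
    (HomotopyCategory.quasiIso X.Modules (ComplexShape.up ℤ)) (𝟭 (DCoh.D X))
    (CxOX.gammaZKhι j ≫ (Functor.rightUnitor _).inv)
    ((HomotopyCategory.quotient X.Modules (ComplexShape.up ℤ)).obj I)
  have nat := (CxOX.RgammaZToId j).naturality ((DerivedCategory.quotientCompQhIso X.Modules).hom.app I)
  dsimp only [rgUnit, unitOfK, γOfK, isoF₀, NatTrans.comp_app, Functor.whiskerLeft_app,
    Functor.whiskerRight_app, Iso.trans_inv, Iso.symm_inv, Functor.associator_hom_app,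
    Functor.associator_inv_app, Functor.isoWhiskerRight_inv, Functor.isoWhiskerLeft_inv,
    NatTrans.id_app, Functor.comp_obj, Functor.id_obj, Functor.id_map, Functor.comp_map] at nat ⊢
  simp only [Category.id_comp, Category.comp_id, Category.assoc]
  rw [nat]
  have h' : ((CxOX.gammaZKh j).totalRightDerivedUnit Qh
      (HomotopyCategory.quasiIso X.Modules (ComplexShape.up ℤ))).app
        ((HomotopyCategory.quotient X.Modules (ComplexShape.up ℤ)).obj I) ≫
      (CxOX.RgammaZToId j).app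
        (Qh.obj ((HomotopyCategory.quotient X.Modules (ComplexShape.up ℤ)).obj I)) =
      (CxOX.gammaZKhι j).app ((HomotopyCategory.quotient X.Modules (ComplexShape.up ℤ)).obj I) := by
    refine Eq.trans h ?_
    simp
  rw [reassoc_of% h']
  rw [gammaZKhι_app]
  simp only [Category.assoc]
  have h3 := quotientCompQhIso_hom_naturality (ιC j I)
  have h4 : Qh.map (((DCoh.gammaZ j).mapHomotopyCategoryFactors (ComplexShape.up ℤ)).inv.app I) ≫
      Qh.map (((DCoh.gammaZ j).mapHomotopyCategoryFactors (ComplexShape.up ℤ)).hom.app I) =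
        𝟙 _ := by
    rw [← Functor.map_comp, Iso.inv_hom_id_app]
    exact CategoryTheory.Functor.map_id _ _
  rw [reassoc_of% h4, h3]
  exact Iso.inv_hom_id_app_assoc _ _ _

end

section Tri

variable {T : Type*} [Category T] [Preadditive T] [HasZeroObject T] [HasShift T ℤ]
    [∀ n : ℤ, (shiftFunctor T n).Additive] [Pretriangulated T]

/-- if `Hom(P, X₃) = 0 = Hom(P, X₃[-1])` then `Hom(P, X₁) ≅ Hom(P, X₂)`. -/
theorem bijective_postcomp_mor₁' (Tr : Triangle T) (hT : Tr ∈ distTriang T) (P : T)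
    (h₃ : ∀ φ : P ⟶ Tr.obj₃, φ = 0) (h₃' : ∀ φ : P ⟶ Tr.obj₃⟦(-1 : ℤ)⟧, φ = 0) :
    Function.Bijective (fun y : P ⟶ Tr.obj₁ => y ≫ Tr.mor₁) := by
  constructor
  · intro y y' hyy
    have h0 : (y - y') ≫ Tr.mor₁ = 0 := by
      rw [Preadditive.sub_comp]
      exact sub_eq_zero.2 hyy
    obtain ⟨z, hz⟩ := Triangle.coyoneda_exact₂ _ (inv_rot_of_distTriang _ hT) (y - y') h0
    have hz0 : z = 0 := h₃' z
    rw [hz0, zero_comp] at hz
    exact sub_eq_zero.1 hz
  · intro w
    obtain ⟨x, hx⟩ := Triangle.coyoneda_exact₂ _ hT w (h₃ _)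
    exact ⟨x, hx.symm⟩

end Tri

section Univ

variable {C : Type*} [Category C]

lemma IsUniv.iso_comp (P : ObjectProperty C) {Q Q₀ K : C} {ε : Q ⟶ K} (h : IsUniv P ε)
    (e : Q₀ ≅ Q) : IsUniv P (e.hom ≫ ε) := by
  intro Q' hQ'
  have h1 := h Q' hQ'
  have h2 : (fun φ : Q' ⟶ Q₀ => φ ≫ e.hom ≫ ε) = (fun ψ : Q' ⟶ Q => ψ ≫ ε) ∘
      (fun φ : Q' ⟶ Q₀ => φ ≫ e.hom) := by
    funext φ
    simp
  rw [h2]
  refine h1.comp ?_
  constructor
  · intro a b hab
    exact (cancel_mono e.hom).1 hab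
  · intro b
    exact ⟨b ≫ e.inv, by simp⟩

/-- two universal arrows from objects of `P` are uniquely isomorphic. -/
lemma IsUniv.isIso_of_comp_eq (P : ObjectProperty C) {Q Q' K : C} {ε : Q ⟶ K} {ε' : Q' ⟶ K}
    (h : IsUniv P ε) (h' : IsUniv P ε') (hQ : P Q) (hQ' : P Q') (α : Q' ⟶ Q)
    (hα : α ≫ ε = ε') : IsIso α := by
  obtain ⟨β, hβ⟩ := (h' Q hQ).2 ε
  dsimp only at hβ
  refine ⟨β, ?_, ?_⟩
  · apply (h' Q' hQ').1
    dsimp only
    rw [Category.assoc, hβ, hα, Category.id_comp]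
  · apply (h Q hQ).1
    dsimp only
    rw [Category.assoc, hα, hβ, Category.id_comp]

lemma IsUniv.exists_comp_eq (P : ObjectProperty C) {Q Q' K : C} {ε : Q ⟶ K} (ε' : Q' ⟶ K)
    (h : IsUniv P ε) (hQ' : P Q') : ∃ α : Q' ⟶ Q, α ≫ ε = ε' :=
  (h Q' hQ').2 ε'

end Univ

section Opens

variable {X : Scheme.{u}} (V : X.Opens)

/-- the termwise unit `I ⟶ j_* j^* I`. -/
noncomputable def ηC (I : CochainComplex X.Modules ℤ) :
    I ⟶ ((T V).mapHomologicalComplex (ComplexShape.up ℤ)).obj I :=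
  (Functor.mapHomologicalComplexIdIso X.Modules (ComplexShape.up ℤ)).inv.app I ≫
    (NatTrans.mapHomologicalComplex (η V) (ComplexShape.up ℤ)).app I

lemma ιC_f (I : CochainComplex X.Modules ℤ) (n : ℤ) :
    (ιC V.ι I).f n = (CxOX.gammaZι V.ι).app (I.X n) := by
  simp only [ιC, Functor.mapHomologicalComplexIdIso, HomologicalComplex.comp_f,
    NatTrans.mapHomologicalComplex_app_f, NatIso.ofComponents_hom_app,
    HomologicalComplex.Hom.isoOfComponents_hom_f, Iso.refl_hom]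
  exact Category.comp_id _

lemma ηC_f (I : CochainComplex X.Modules ℤ) (n : ℤ) :
    (ηC V I).f n = (η V).app (I.X n) := by
  simp only [ηC, Functor.mapHomologicalComplexIdIso, HomologicalComplex.comp_f,
    NatTrans.mapHomologicalComplex_app_f, NatIso.ofComponents_inv_app,
    HomologicalComplex.Hom.isoOfComponents_inv_f, Iso.refl_inv]
  exact Category.id_comp _

lemma ιC_ηC (I : CochainComplex X.Modules ℤ) : ιC V.ι I ≫ ηC V I = 0 := by
  ext n : 1
  rw [HomologicalComplex.comp_f, ιC_f, ηC_f, HomologicalComplex.zero_f]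
  exact Groth.Agent.Lib.Helper17.GammaZ.ι_unit V.ι (I.X n)

theorem shortExact (I : CochainComplex X.Modules ℤ) (hI : ∀ n, Injective (I.X n)) :
    (ShortComplex.mk (ιC V.ι I) (ηC V I) (ιC_ηC V I)).ShortExact := by
  apply HomologicalComplex.shortExact_of_degreewise_shortExact
  intro n
  have h := Groth.Agent.Lib.Helper17.GammaZ.hex V (I.X n) (hI n)
  exact h

/-- the distinguished triangle `Q(Γ_Z I) ⟶ Q(I) ⟶ Q(j_* j^* I) ⟶`. -/
theorem exists_distinguished (I : CochainComplex X.Modules ℤ) (hI : ∀ n, Injective (I.X n)) :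
    ∃ δ : (Q : _ ⥤ DCoh.D X).obj (((T V).mapHomologicalComplex (ComplexShape.up ℤ)).obj I) ⟶
        ((Q : _ ⥤ DCoh.D X).obj
          (((DCoh.gammaZ V.ι).mapHomologicalComplex (ComplexShape.up ℤ)).obj I))⟦(1 : ℤ)⟧,
      Triangle.mk ((Q : _ ⥤ DCoh.D X).map (ιC V.ι I)) ((Q : _ ⥤ DCoh.D X).map (ηC V I)) δ ∈
        distTriang (DCoh.D X) :=
  ⟨_, DerivedCategory.triangleOfSES_distinguished (shortExact V I hI)⟩

/-- objects of `D(X)` vanishing on `V`. -/
def PZ : ObjectProperty (DCoh.D X) := fun A => IsZero ((DCoh.restrictD V.ι).obj A)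

lemma PZ_shift (A : DCoh.D X) (n : ℤ) (hA : PZ V A) : PZ V (A⟦n⟧) := by
  have e := ((DCoh.restrictD V.ι).commShiftIso n).app A
  exact IsZero.of_iso ((shiftFunctor (DCoh.D (V : Scheme.{u})) n).map_isZero hA) e

lemma hom_rpush_eq_zero (A : DCoh.D X) (hA : PZ V A) (M : DCoh.D (V : Scheme.{u}))
    (φ : A ⟶ (DCoh.Rpush V.ι).obj M) : φ = 0 := by
  apply ((adjD V.ι).homEquiv _ _).symm.injective
  exact hA.eq_of_src _ _

lemma hom_shift_rpush_eq_zero (A : DCoh.D X) (hA : PZ V A) (M : DCoh.D (V : Scheme.{u}))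
    (B : DCoh.D X) (e : B ≅ (DCoh.Rpush V.ι).obj M) (φ : A ⟶ B⟦(-1 : ℤ)⟧) : φ = 0 := by
  have h1 : φ⟦(1 : ℤ)⟧' ≫ (shiftEquiv (DCoh.D X) (1 : ℤ)).counitIso.hom.app B ≫ e.hom = 0 :=
    hom_rpush_eq_zero V _ (PZ_shift V A 1 hA) M _
  have h2 : φ⟦(1 : ℤ)⟧' = 0 :=
    (cancel_mono ((shiftEquiv (DCoh.D X) (1 : ℤ)).counitIso.hom.app B ≫ e.hom)).1
      (h1.trans zero_comp.symm)
  exact (shiftFunctor (DCoh.D X) (1 : ℤ)).map_injective (h2.trans (Functor.map_zero _ _ _).symm)

end Opens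

end Groth.Agent.Lib.Helper17.GammaZTri
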