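import Mathlib
import Groth.Agent.Lib.Helper17KInjD5
import Groth.Agent.Lib.Helper1Sky11
import Groth.Agent.Lib.Helper1CI9
import Groth.Agent.Lib.Helper1KBC6
set_option backward.isDefEq.respectTransparency.types false

/-!
# The derived adjunction `Lf^* ⊣ Rf_*` for a morphism of schemes (helper1)
-/

set_option autoImplicit false
set_option linter.style.haveILetI false
universe u
open CategoryTheory CategoryTheory.Limits AlgebraicGeometry HomologicalComplex

attribute [local instance] HasDerivedCategory.standard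

namespace Groth.Agent.Lib.Helper1.DAdj

open Groth.Agent.Lib.Helper1.BKF Groth.Agent.Lib.Helper1.CI Groth.Agent.Lib.Helper1.Sky
  Groth.Agent.Lib.Helper17.KInj Groth.Agent.Lib.Helper1.KBC

variable {X Y : Scheme.{u}} (f : X ⟶ Y)

/-- termwise pushforward -/
noncomputable abbrev pushC : CochainComplex X.Modules ℤ ⥤ CochainComplex Y.Modules ℤ :=
  (Scheme.Modules.pushforward f).mapHomologicalComplex (ComplexShape.up ℤ)

/-- the termwise adjunction -/
noncomputable def adjC : pullC f ⊣ pushC f :=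
  Groth.Agent.Lib.Helper17.SerreLoc.adjHC (Scheme.Modules.pullbackPushforwardAdjunction f)
    (ComplexShape.up ℤ)

section lpull

variable [DCoh.HasLpull f]

omit [DCoh.HasLpull f] in
lemma isIso_Q_map_pullC_map {E E' : CochainComplex Y.Modules ℤ} (q : E ⟶ E') (hE : KFFs E)
    (hE' : KFFs E') (hq : HomologicalComplex.quasiIso Y.Modules (ComplexShape.up ℤ) q) :
    IsIso (DerivedCategory.Q.map ((pullC f).map q)) := by
  have : QuasiIso q := hq
  have h1 : QuasiIso ((pullC f).map q) := quasiIso_pullC_map f q hE hE'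
  rw [DerivedCategory.isIso_Q_map_iff_quasiIso]
  exact h1

instance isLeftDerivedFunctor_lpullNat :
    (DCoh.Lpull f).IsLeftDerivedFunctor (lpullNat f)
      (HomologicalComplex.quasiIso Y.Modules (ComplexShape.up ℤ)) := by
  obtain ⟨R, ψ, h⟩ : ∃ (R : CochainComplex Y.Modules ℤ ⥤ CochainComplex Y.Modules ℤ)
      (ψ : R ⟶ 𝟭 (CochainComplex Y.Modules ℤ)),
      ∀ G : CochainComplex Y.Modules ℤ, ModSite.IsKFlat (O := Y.sheaf) (R.obj G) ∧
        (∀ n : ℤ, ModSite.IsFlat (O := Y.sheaf) ((R.obj G).X n)) ∧ QuasiIso (ψ.app G) ∧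
        ∀ n : ℤ, Epi ((ψ.app G).f n) := exists_functorial_kflat_flat_resolution Y.sheaf
  exact isLeftDerivedFunctor_of_isIso_app
    (HomologicalComplex.quasiIso Y.Modules (ComplexShape.up ℤ)) DerivedCategory.Q
    (pullC f ⋙ DerivedCategory.Q) (fun E => KFFs E) R ψ
    (fun G => ⟨(h G).1, (h G).2.1⟩) (fun G => (h G).2.2.1)
    (fun {E E'} q hE hE' hq => isIso_Q_map_pullC_map f q hE hE' hq)
    (DCoh.Lpull f) (lpullNat f) (fun K hK => isIso_lpullNat_app f K hK)

end lpull

section adjunction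

variable [DCoh.HasLpull f] [DCoh.HasRpush f]

/-- the unit `Q (f_* K) ⟶ Rf_* (Q K)` on complexes -/
noncomputable def rpushNat : pushC f ⋙ DerivedCategory.Q ⟶ DerivedCategory.Q ⋙ DCoh.Rpush f :=
  unitOfK (Scheme.Modules.pushforward f) (DCoh.Rpush f)
    ((DCoh.pushKh f).totalRightDerivedUnit DerivedCategory.Qh
      (HomotopyCategory.quasiIso X.Modules (ComplexShape.up ℤ)))

instance isRightDerivedFunctor_rpushNat :
    (DCoh.Rpush f).IsRightDerivedFunctor (rpushNat f)
      (HomologicalComplex.quasiIso X.Modules (ComplexShape.up ℤ)) := by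
  unfold rpushNat
  infer_instance

instance isLeftDerivedFunctor_lpull_comp_rpush :
    (DCoh.Lpull f ⋙ DCoh.Rpush f).IsLeftDerivedFunctor
      ((Functor.associator _ _ _).inv ≫ Functor.whiskerRight (lpullNat f) (DCoh.Rpush f))
      (HomologicalComplex.quasiIso Y.Modules (ComplexShape.up ℤ)) := by
  obtain ⟨R, ψ, h⟩ : ∃ (R : CochainComplex Y.Modules ℤ ⥤ CochainComplex Y.Modules ℤ)
      (ψ : R ⟶ 𝟭 (CochainComplex Y.Modules ℤ)),
      ∀ G : CochainComplex Y.Modules ℤ, ModSite.IsKFlat (O := Y.sheaf) (R.obj G) ∧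
        (∀ n : ℤ, ModSite.IsFlat (O := Y.sheaf) ((R.obj G).X n)) ∧ QuasiIso (ψ.app G) ∧
        ∀ n : ℤ, Epi ((ψ.app G).f n) := exists_functorial_kflat_flat_resolution Y.sheaf
  refine isLeftDerivedFunctor_of_isIso_app
    (HomologicalComplex.quasiIso Y.Modules (ComplexShape.up ℤ)) DerivedCategory.Q
    ((pullC f ⋙ DerivedCategory.Q) ⋙ DCoh.Rpush f) (fun E => KFFs E) R ψ
    (fun G => ⟨(h G).1, (h G).2.1⟩) (fun G => (h G).2.2.1)
    (fun {E E'} q hE hE' hq => ?_)
    (DCoh.Lpull f ⋙ DCoh.Rpush f) _ (fun K hK => ?_)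
  · haveI := isIso_Q_map_pullC_map f q hE hE' hq
    exact inferInstanceAs (IsIso ((DCoh.Rpush f).map (DerivedCategory.Q.map ((pullC f).map q))))
  · haveI := isIso_lpullNat_app f K hK
    simp only [NatTrans.comp_app, Functor.whiskerRight_app, Functor.associator_inv_app]
    infer_instance

instance isRightDerivedFunctor_rpush_comp_lpull :
    (DCoh.Rpush f ⋙ DCoh.Lpull f).IsRightDerivedFunctor
      (Functor.whiskerRight (rpushNat f) (DCoh.Lpull f) ≫ (Functor.associator _ _ _).hom)
      (HomologicalComplex.quasiIso X.Modules (ComplexShape.up ℤ)) := by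
  haveI : IsGrothendieckAbelian.{u} X.Modules :=
    Groth.Agent.Lib.Helper21.ModTensor3.isGrothendieckAbelian (O := X.sheaf)
  refine (fibLocalizerMorphism_derives _ (isInvertedBy_comp
    (isInvertedBy_mapHomologicalComplex_comp_Q (Scheme.Modules.pushforward f))
    (DCoh.Lpull f))).isRightDerivedFunctor_of_isIso _ (fun I => ?_)
  haveI := isIso_app_of_fibrant' (Scheme.Modules.pushforward f) (DCoh.Rpush f) (rpushNat f)
    I.obj I.property
  dsimp
  rw [Category.comp_id]
  change IsIso ((DCoh.Lpull f).map ((rpushNat f).app I.obj))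
  infer_instance

/-- the derived adjunction `Lf^* ⊣ Rf_*` -/
noncomputable def lpullRpushAdj : DCoh.Lpull f ⊣ DCoh.Rpush f :=
  (adjC f).derived (HomologicalComplex.quasiIso Y.Modules (ComplexShape.up ℤ))
    (HomologicalComplex.quasiIso X.Modules (ComplexShape.up ℤ)) (lpullNat f) (rpushNat f)

end adjunction

end Groth.Agent.Lib.Helper1.DAdj
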