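import Groth.Agent.Lib.Helper17GammaZTri2
import Groth.Agent.Lib.Helper1DAdj

/-!
# `Rf_* RΓ_{f⁻¹Z} ≅ RΓ_Z Rf_*` (helper17)
-/

set_option autoImplicit false
set_option linter.style.haveILetI false
set_option maxHeartbeats 400000

universe u

open CategoryTheory CategoryTheory.Limits Opposite AlgebraicGeometry TopologicalSpace
  Pretriangulated ZeroObject

attribute [local instance] HasDerivedCategory.standard

namespace Groth.Agent.Lib.Helper17.GammaZTri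

open Groth.Agent.Lib.Helper17.MV Groth.Agent.Lib.Helper17.KInj Groth.Agent.Lib.Helper17.AffPush
  Groth.Agent.Lib.Helper17.QCPush Groth.Agent.Lib.Helper17.DQAdj DerivedCategory
  Groth.Agent.Lib.Helper17.UnitSupp

attribute [local instance] Groth.Agent.Lib.Helper17.QCPush.hasRpush

section Adj

variable {C D : Type*} [Category C] [Category D] [HasZeroMorphisms C] [HasZeroMorphisms D]
  {L : C ⥤ D} {R : D ⥤ C}

lemma isZero_leftAdjoint_obj (adj : L ⊣ R) {Z : C} (hZ : IsZero Z) : IsZero (L.obj Z) := by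
  rw [IsZero.iff_id_eq_zero]
  apply (adj.homEquiv _ _).injective
  exact hZ.eq_of_src _ _

lemma isZero_rightAdjoint_obj (adj : L ⊣ R) {Z : D} (hZ : IsZero Z) : IsZero (R.obj Z) := by
  rw [IsZero.iff_id_eq_zero]
  apply (adj.homEquiv _ _).symm.injective
  exact hZ.eq_of_tgt _ _

end Adj

section Lpull

variable {Z : Scheme.{u}}

/-- `Lj^* K ≅ K|_W` for an open `W`. -/
theorem nonempty_lpull_iso_restrictD (W : Z.Opens) [DCoh.HasLpull W.ι] (K : DCoh.D Z) :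
    Nonempty ((DCoh.Lpull W.ι).obj K ≅ (DCoh.restrictD W.ι).obj K) := by
  let E := (DerivedCategory.Q : _ ⥤ DCoh.D Z).objPreimage K
  let e : (DerivedCategory.Q : _ ⥤ DCoh.D Z).obj E ≅ K :=
    (DerivedCategory.Q : _ ⥤ DCoh.D Z).objObjPreimageIso K
  exact ⟨(DCoh.Lpull W.ι).mapIso e.symm ≪≫ Groth.Agent.Lib.Helper1.Sky.lpullOpenIso W E ≪≫
    ((Scheme.Modules.restrictFunctor W.ι).mapDerivedCategoryFactors.app E).symm ≪≫
    (DCoh.restrictD W.ι).mapIso e⟩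

end Lpull

section Push

variable {X Y : Scheme.{u}} (f : X ⟶ Y) (U : Y.Opens)

/-- `(Rf_* F)|_U = 0` if `F|_{f⁻¹U} = 0`. -/
lemma PZ_rpush (F : DCoh.D X) (hF : PZ (f ⁻¹ᵁ U) F) : PZ U ((DCoh.Rpush f).obj F) := by
  haveI : DCoh.HasLpull (f ∣_ U) := Groth.Agent.Lib.Helper1.Sky.hasLpull _
  obtain ⟨e⟩ := Groth.Agent.Lib.Helper1.RpushRes.nonempty_rpush_restrict_iso f U
  exact IsZero.of_iso (isZero_rightAdjoint_obj
    (Groth.Agent.Lib.Helper1.DAdj.lpullRpushAdj (f ∣_ U)) hF) (e.app F)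

/-- `(Lf^* A)|_{f⁻¹U} = 0` if `A|_U = 0`. -/
lemma PZ_lpull [DCoh.HasLpull f] (A : DCoh.D Y) (hA : PZ U A) :
    PZ (f ⁻¹ᵁ U) ((DCoh.Lpull f).obj A) := by
  haveI : DCoh.HasLpull (f ∣_ U) := Groth.Agent.Lib.Helper1.Sky.hasLpull _
  haveI : DCoh.HasLpull U.ι := Groth.Agent.Lib.Helper1.Sky.hasLpull _
  haveI : DCoh.HasLpull (f ⁻¹ᵁ U).ι := Groth.Agent.Lib.Helper1.Sky.hasLpull _
  haveI : DCoh.HasLpull ((f ⁻¹ᵁ U).ι ≫ f) := Groth.Agent.Lib.Helper1.Sky.hasLpull _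
  haveI : DCoh.HasLpull ((f ∣_ U) ≫ U.ι) := Groth.Agent.Lib.Helper1.Sky.hasLpull _
  obtain ⟨c1⟩ := Groth.Agent.Lib.Helper1.Sky.nonempty_lpull_comp_iso (f ⁻¹ᵁ U).ι f
  obtain ⟨c2⟩ := Groth.Agent.Lib.Helper1.Sky.nonempty_lpull_comp_iso (f ∣_ U) U.ι
  obtain ⟨c3⟩ := Groth.Agent.Lib.Helper1.Sky.nonempty_lpull_congr (morphismRestrict_ι f U).symm
  obtain ⟨r1⟩ := nonempty_lpull_iso_restrictD (f ⁻¹ᵁ U) ((DCoh.Lpull f).obj A)
  obtain ⟨r2⟩ := nonempty_lpull_iso_restrictD U A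
  have hz : IsZero ((DCoh.Lpull (f ∣_ U)).obj ((DCoh.Lpull U.ι).obj A)) :=
    isZero_leftAdjoint_obj (Groth.Agent.Lib.Helper1.DAdj.lpullRpushAdj (f ∣_ U))
      (IsZero.of_iso hA r2)
  exact IsZero.of_iso hz (r1.symm ≪≫ c1.app A ≪≫ c3.app A ≪≫ (c2.app A).symm)

variable [CxOX.HasRgammaZ U.ι] [CxOX.HasRgammaZ (f ⁻¹ᵁ U).ι]

/-- `Rf_*(RΓ_{f⁻¹Z} K ⟶ K)` is universal among arrows to `Rf_* K` from objects vanishing on `U`. -/
theorem isUniv_rpush_map (K : DCoh.D X) :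
    IsUniv (PZ U) ((DCoh.Rpush f).map ((CxOX.RgammaZToId (f ⁻¹ᵁ U).ι).app K)) := by
  haveI : DCoh.HasLpull f := Groth.Agent.Lib.Helper1.Sky.hasLpull _
  exact IsUniv.map_of_adjunction (PZ (f ⁻¹ᵁ U)) (PZ U)
    (Groth.Agent.Lib.Helper1.DAdj.lpullRpushAdj f) (fun A hA => PZ_lpull f U A hA)
    (isUniv_RgammaZToId (f ⁻¹ᵁ U) K)

/-- **`Rf_* RΓ_{f⁻¹Z} ≅ RΓ_Z Rf_*`.** -/
theorem rpush_RgammaZ (K : DCoh.D X) :
    (∃ α : (DCoh.Rpush f).obj ((CxOX.RgammaZ (f ⁻¹ᵁ U).ι).obj K) ⟶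
        (CxOX.RgammaZ U.ι).obj ((DCoh.Rpush f).obj K),
        α ≫ (CxOX.RgammaZToId U.ι).app ((DCoh.Rpush f).obj K) =
          (DCoh.Rpush f).map ((CxOX.RgammaZToId (f ⁻¹ᵁ U).ι).app K)) ∧
    ∀ α : (DCoh.Rpush f).obj ((CxOX.RgammaZ (f ⁻¹ᵁ U).ι).obj K) ⟶
        (CxOX.RgammaZ U.ι).obj ((DCoh.Rpush f).obj K),
        α ≫ (CxOX.RgammaZToId U.ι).app ((DCoh.Rpush f).obj K) =
          (DCoh.Rpush f).map ((CxOX.RgammaZToId (f ⁻¹ᵁ U).ι).app K) → IsIso α := by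
  have h1 := isUniv_RgammaZToId U ((DCoh.Rpush f).obj K)
  have h2 := isUniv_rpush_map f U K
  have hP1 : PZ U ((CxOX.RgammaZ U.ι).obj ((DCoh.Rpush f).obj K)) := PZ_RgammaZ U _
  have hP2 : PZ U ((DCoh.Rpush f).obj ((CxOX.RgammaZ (f ⁻¹ᵁ U).ι).obj K)) :=
    PZ_rpush f U _ (PZ_RgammaZ (f ⁻¹ᵁ U) K)
  exact ⟨IsUniv.exists_comp_eq _ _ h1 hP2,
    fun α hα => IsUniv.isIso_of_comp_eq _ h1 h2 hP1 hP2 α hα⟩

end Push

end Groth.Agent.Lib.Helper17.GammaZTri
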