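-- helper17: gerbes over a site: descent along a locally essentially surjective base change.
import Groth.Agent.Lib.Helper17Gerb3
import Groth.Agent.Lib.Helper17FibFp

set_option autoImplicit false
set_option backward.isDefEq.respectTransparency false
set_option backward.isDefEq.respectTransparency.types false
open CategoryTheory CategoryTheory.Functor

universe v₁ u₁ v₂ u₂ v₃ u₃ v₄ u₄ v u

namespace Groth.Agent.Lib.Helper17

section GerbeDescent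

variable {C : Type u} [Category.{v} C] (J : GrothendieckTopology C)
  {𝒳 : BasedCategory.{v₂, u₂} C} {𝒴 : BasedCategory.{v₃, u₃} C} {𝒴' : BasedCategory.{v₄, u₄} C}

/-- local surjectivity on objects, with the base object abstracted -/
theorem LocSurjObj.general {F : 𝒳 ⥤ᵇ 𝒴} (h : Gerb.LocSurjObj J F) (y : 𝒴.obj) {U : C}
    (hy : 𝒴.p.obj y = U) :
    ∃ R ∈ J U, ∀ ⦃V : C⦄ (f : V ⟶ U), R f →
      ∃ (x : 𝒳.obj) (g : F.obj x ⟶ y), 𝒴.p.IsHomLift f g := by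
  subst hy
  exact h y

variable (F : 𝒳 ⥤ᵇ 𝒴) (G : 𝒴' ⥤ᵇ 𝒴)

theorem locSurjObj_of_fpFst (hG : Gerb.LocSurjObj J G)
    (h : Gerb.LocSurjObj J (FibCat.fpFst G F)) : Gerb.LocSurjObj J F := by
  intro y
  obtain ⟨R₁, hR₁, h₁⟩ := hG y
  have key : ∀ ⦃V : C⦄ (f : V ⟶ 𝒴.p.obj y) (_ : R₁ f), ∃ S : Sieve V, S ∈ J V ∧
      ∀ ⦃W : C⦄ (g : W ⟶ V), S g → ∃ (x : 𝒳.obj) (k : F.obj x ⟶ y),
        𝒴.p.IsHomLift (g ≫ f) k := by
    intro V f hf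
    obtain ⟨y', g₁, hg₁⟩ := h₁ f hf
    have hV : 𝒴'.p.obj y' = V := (G.w_obj y').symm.trans (IsHomLift.domain_eq 𝒴.p f g₁)
    subst hV
    obtain ⟨R₂, hR₂, h₂⟩ := h y'
    refine ⟨R₂, hR₂, fun W g hg => ?_⟩
    obtain ⟨P, k, hk⟩ := h₂ g hg
    let k' : P.obj.fst ⟶ y' := k
    have hk' : 𝒴'.p.IsHomLift g k' := hk
    have hW : 𝒴'.p.obj P.obj.fst = W := IsHomLift.domain_eq 𝒴'.p g k'
    have hinv : 𝒴.p.IsHomLift (𝟙 W) P.obj.iso.inv := fp_iso_inv_isHomLift G F P hW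
    have hGk : 𝒴.p.IsHomLift g (G.map k') := inferInstance
    have h3 : 𝒴.p.IsHomLift (g ≫ f) (G.map k' ≫ g₁) := inferInstance
    refine ⟨P.obj.snd, P.obj.iso.inv ≫ G.map k' ≫ g₁, ?_⟩
    exact IsHomLift.comp_lift_id_left 𝒴.p (g ≫ f) (G.map k' ≫ g₁) P.obj.iso.inv
  choose S hS hS' using key
  refine ⟨Sieve.bind R₁ (fun V f hf => S f hf), J.bind_covering hR₁ (fun V f hf => hS f hf), ?_⟩
  rintro W h ⟨V, g, f, hf, hg, rfl⟩
  exact hS' f hf g hg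

theorem locSurjHom_of_fpFst (h𝒳 : FibCat.IsFibGrpd 𝒳.p) (h𝒴 : FibCat.IsFibGrpd 𝒴.p)
    (hG : Gerb.LocSurjObj J G)
    (h : Gerb.LocSurjHom J (FibCat.fpFst G F)) : Gerb.LocSurjHom J F := by
  intro x x' b hb
  obtain ⟨R₁, hR₁, h₁⟩ := LocSurjObj.general J hG (F.obj x) (F.w_obj x)
  have hx' : 𝒳.p.obj x' = 𝒳.p.obj x :=
    (F.w_obj x').symm.trans (IsHomLift.codomain_eq 𝒴.p (𝟙 (𝒳.p.obj x)) b)
  have key : ∀ ⦃V : C⦄ (f : V ⟶ 𝒳.p.obj x) (_ : R₁ f), ∃ S : Sieve V, S ∈ J V ∧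
      ∀ ⦃W : C⦄ (g : W ⟶ V), S g → ∃ (x₀ : 𝒳.obj) (φ : x₀ ⟶ x) (ψ : x₀ ⟶ x'),
        𝒳.p.IsHomLift (g ≫ f) φ ∧ 𝒳.p.IsHomLift (g ≫ f) ψ ∧ F.map φ ≫ b = F.map ψ := by
    intro V f hf
    obtain ⟨y', g, hg⟩ := h₁ f hf
    have hV : 𝒴'.p.obj y' = V := (G.w_obj y').symm.trans (IsHomLift.domain_eq 𝒴.p f g)
    obtain ⟨x₂, c, hc⟩ := h𝒳.exists_lift (x := x) f
    obtain ⟨x₂', c', hc'⟩ := h𝒳.exists_lift (x := x') (f ≫ eqToHom hx'.symm)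
    have hc'2 : 𝒳.p.IsHomLift f c' :=
      (IsHomLift.lift_comp_eqToHom_iff (p := 𝒳.p) f c' hx'.symm).1 hc'
    have lFc : 𝒴.p.IsHomLift f (F.map c) := inferInstance
    have lFc' : 𝒴.p.IsHomLift f (F.map c') := inferInstance
    have sc := IsFibGrpd.isStronglyCartesian_of_isHomLift h𝒴 f (F.map c)
    have sc' := IsFibGrpd.isStronglyCartesian_of_isHomLift h𝒴 f (F.map c')
    have hgb : 𝒴.p.IsHomLift f (g ≫ b) := by
      have : 𝒴.p.IsHomLift (f ≫ 𝟙 (𝒳.p.obj x)) (g ≫ b) := inferInstance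
      simpa using this
    obtain ⟨β, ⟨hβ, eβ⟩, -⟩ := IsStronglyCartesian.universal_property 𝒴.p f (F.map c) (𝟙 V) f
      (Category.id_comp _).symm g
    obtain ⟨β', ⟨hβ', eβ'⟩, -⟩ := IsStronglyCartesian.universal_property 𝒴.p f (F.map c') (𝟙 V) f
      (Category.id_comp _).symm (g ≫ b)
    have hβiso : IsIso β := IsFibGrpd.isIso_of_isHomLift_id h𝒴 V β
    have hβ'iso : IsIso β' := IsFibGrpd.isIso_of_isHomLift_id h𝒴 V β'
    have hp : 𝒴.p.IsHomLift (𝟙 (𝒴'.p.obj y')) (asIso β).hom :=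
      isHomLift_id_of_eq 𝒴.p hV.symm _ (hφ := hβ)
    have hp' : 𝒴.p.IsHomLift (𝟙 (𝒴'.p.obj y')) (asIso β').hom :=
      isHomLift_id_of_eq 𝒴.p hV.symm _ (hφ := hβ')
    let P : (FibCat.fp G F).obj := ⟨⟨y', x₂, asIso β⟩, hp⟩
    let P' : (FibCat.fp G F).obj := ⟨⟨y', x₂', asIso β'⟩, hp'⟩
    have hid : 𝒴'.p.IsHomLift (𝟙 V) (𝟙 y') := by
      subst hV; infer_instance
    obtain ⟨R₃, hR₃, h₃⟩ := LocSurjHom.general J h P P' (𝟙 y') hV hid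
    refine ⟨R₃, hR₃, fun W k hk => ?_⟩
    obtain ⟨P₀, Φ, Ψ, hΦ, hΨ, e₃⟩ := h₃ k hk
    have lΦ : 𝒳.p.IsHomLift k Φ.hom.snd := fp_isHomLift_snd' G F k Φ
    have lΨ : 𝒳.p.IsHomLift k Ψ.hom.snd := fp_isHomLift_snd' G F k Ψ
    refine ⟨P₀.obj.snd, Φ.hom.snd ≫ c, Ψ.hom.snd ≫ c', inferInstance, inferInstance, ?_⟩
    have w1 : G.map Φ.hom.fst ≫ β = P₀.obj.iso.hom ≫ F.map Φ.hom.snd := Φ.hom.w
    have w2 : G.map Ψ.hom.fst ≫ β' = P₀.obj.iso.hom ≫ F.map Ψ.hom.snd := Ψ.hom.w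
    have e4 : Φ.hom.fst = Ψ.hom.fst := by
      have : Φ.hom.fst ≫ 𝟙 y' = Ψ.hom.fst := e₃
      exact (Category.comp_id _).symm.trans this
    rw [← cancel_epi P₀.obj.iso.hom, F.map_comp, F.map_comp, Category.assoc,
      ← Category.assoc P₀.obj.iso.hom, ← w1, ← Category.assoc P₀.obj.iso.hom, ← w2,
      Category.assoc, Category.assoc, eβ', ← Category.assoc β, eβ, e4]
  choose S hS hS' using key
  refine ⟨Sieve.bind R₁ (fun V f hf => S f hf), J.bind_covering hR₁ (fun V f hf => hS f hf), ?_⟩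
  rintro W h ⟨V, g, f, hf, hg, rfl⟩
  exact hS' f hf g hg

theorem isGerbeOver_of_fpFst (h𝒳 : FibCat.IsFibGrpd 𝒳.p) (h𝒴 : FibCat.IsFibGrpd 𝒴.p)
    (hG : Gerb.LocSurjObj J G)
    (h : Gerb.IsGerbeOver J (FibCat.fpFst G F)) : Gerb.IsGerbeOver J F :=
  ⟨locSurjObj_of_fpFst J F G hG h.1, locSurjHom_of_fpFst J F G h𝒳 h𝒴 hG h.2⟩

end GerbeDescent

section CompInv

variable {C : Type u} [Category.{v} C]
  {𝒜 : BasedCategory.{v₂, u₂} C} {ℬ : BasedCategory.{v₃, u₃} C} {𝒟 : BasedCategory.{v₄, u₄} C}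

/-- whiskering a 2-isomorphism `E' ⋙ E ≅ 𝟭` over the base with a functor `H` over the base -/
def compInvIso (E : 𝒜 ⥤ᵇ ℬ) (E' : ℬ ⥤ᵇ 𝒜)
    (β : BasedFunctor.comp E' E ≅ BasedFunctor.id ℬ) (H : ℬ ⥤ᵇ 𝒟) :
    BasedFunctor.comp E' (BasedFunctor.comp E H) ≅ H :=
  BasedNatIso.mkNatIso
    (NatIso.ofComponents (fun P => H.toFunctor.mapIso (bApp β P)) (fun {x y} f => by
      have h := bApp_naturality β f
      change H.map (E.map (E'.map f)) ≫ H.map (bApp β y).hom = H.map (bApp β x).hom ≫ H.map f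
      rw [← H.toFunctor.map_comp, ← H.toFunctor.map_comp]
      exact congrArg H.toFunctor.map h))
    (fun P => by
      have h := bApp_isHomLift β P
      change 𝒟.p.IsHomLift (𝟙 (ℬ.p.obj P)) (H.map (bApp β P).hom)
      infer_instance)

end CompInv

end Groth.Agent.Lib.Helper17
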