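-- helper17: gerbes with a global object: `φ ∘ ψ ≅ 𝟭` fibrewise from `ψ ∘ φ ≅ 𝟭` and surjectivity
-- of `φ` on automorphism groups.
import Groth.Agent.Lib.Helper17GerbGlob

set_option autoImplicit false
set_option backward.isDefEq.respectTransparency false
set_option backward.isDefEq.respectTransparency.types false
open CategoryTheory CategoryTheory.Functor CategoryTheory.Limits

universe v₁ u₁ v₂ u₂ v₃ u₃ v₄ u₄ v u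

namespace Groth.Agent.Lib.Helper17.GerbGlob

open Groth.Agent.Lib.Helper17 Groth.Agent.Lib.Helper17.Elem Groth.Agent.Lib.Helper17.GerbExt

section Comp

variable {C : Type u} [Category.{v} C] {𝒳 : BasedCategory.{v₂, u₂} C}
  {𝒴 : BasedCategory.{v₃, u₃} C}

/-- surjectivity of `Gerb.autMap` in terms of plain morphisms -/
theorem surj_of_autMap_surjective (h𝒴 : FibCat.IsFibGrpd 𝒴.p) (φ : 𝒳 ⥤ᵇ 𝒴) (x' : 𝒳.obj)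
    (h : Function.Surjective (Gerb.autMap φ x')) (β : φ.obj x' ⟶ φ.obj x')
    (hβ : 𝒴.p.IsHomLift (𝟙 (𝒳.p.obj x')) β) :
    ∃ α : x' ⟶ x', 𝒳.p.IsHomLift (𝟙 (𝒳.p.obj x')) α ∧ φ.map α = β := by
  have hβ' : 𝒴.p.IsHomLift (𝟙 (𝒴.p.obj (φ.obj x'))) β :=
    isHomLift_id_of_eq 𝒴.p (φ.w_obj x').symm _ (hφ := hβ)
  obtain ⟨α, hα⟩ := h (autOMk h𝒴 (φ.obj x') β hβ')
  refine ⟨α.hom.1, α.hom.2, ?_⟩
  have := congrArg (fun t : Gerb.AutO (φ.obj x') => t.hom.1) hα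
  exact this

/-- injectivity of `Gerb.autMap` in terms of plain morphisms -/
theorem inj_of_autMap_injective (h𝒳 : FibCat.IsFibGrpd 𝒳.p) (φ : 𝒳 ⥤ᵇ 𝒴) (x' : 𝒳.obj)
    (h : Function.Injective (Gerb.autMap φ x')) (α α' : x' ⟶ x')
    (hα : 𝒳.p.IsHomLift (𝟙 (𝒳.p.obj x')) α) (hα' : 𝒳.p.IsHomLift (𝟙 (𝒳.p.obj x')) α')
    (e : φ.map α = φ.map α') : α = α' := by
  have h1 : Gerb.autMap φ x' (autOMk h𝒳 x' α hα) = Gerb.autMap φ x' (autOMk h𝒳 x' α' hα') := by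
    apply Aut.ext
    apply Functor.Fiber.hom_ext
    exact e
  have := congrArg (fun t : Gerb.AutO x' => t.hom.1) (h h1)
  exact this

/-- `φ` is full on good objects if it is surjective on their automorphism groups -/
theorem exists_preimage_of_good (h𝒳 : FibCat.IsFibGrpd 𝒳.p) (h𝒴 : FibCat.IsFibGrpd 𝒴.p) {T : C}
    (hT : IsTerminal T) (φ : 𝒳 ⥤ᵇ 𝒴) {x : 𝒳.obj} (hx : 𝒳.p.obj x = T)
    (hφ : ∀ (x' : 𝒳.obj) (_ : x' ⟶ x) (β : φ.obj x' ⟶ φ.obj x'),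
      𝒴.p.IsHomLift (𝟙 (𝒳.p.obj x')) β →
        ∃ α : x' ⟶ x', 𝒳.p.IsHomLift (𝟙 (𝒳.p.obj x')) α ∧ φ.map α = β)
    {x₁ x₂ : 𝒳.obj} (c₁ : x₁ ⟶ x) (c₂ : x₂ ⟶ x) (m : φ.obj x₁ ⟶ φ.obj x₂) :
    ∃ κ : x₁ ⟶ x₂, φ.map κ = m := by
  obtain ⟨x'', k, hk⟩ := h𝒳.exists_lift (x := x₂)
    (eqToHom (φ.w_obj x₁).symm ≫ 𝒴.p.map m ≫ eqToHom (φ.w_obj x₂))
  have hφk : 𝒴.p.IsHomLift
      (eqToHom (φ.w_obj x₁).symm ≫ 𝒴.p.map m ≫ eqToHom (φ.w_obj x₂)) (φ.map k) := inferInstance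
  have hm : 𝒴.p.IsHomLift
      (eqToHom (φ.w_obj x₁).symm ≫ 𝒴.p.map m ≫ eqToHom (φ.w_obj x₂)) m := inferInstance
  obtain ⟨β, hβ, eβ⟩ := exists_fac h𝒴 (𝟙 (𝒳.p.obj x₁)) _ _ (Category.id_comp _).symm
    (φ.map k) hφk m hm
  have hx'' : 𝒳.p.obj x'' = 𝒳.p.obj x₁ := IsHomLift.domain_eq 𝒳.p
    (eqToHom (φ.w_obj x₁).symm ≫ 𝒴.p.map m ≫ eqToHom (φ.w_obj x₂)) k
  obtain ⟨e, he, -⟩ := exists_iso_of_good h𝒳 hT hx c₁ (k ≫ c₂) hx''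
  have heinv : 𝒳.p.IsHomLift (𝟙 (𝒳.p.obj x₁)) e.inv := IsHomLift.lift_id_inv 𝒳.p _ e
  have hβ2 : 𝒴.p.IsHomLift (𝟙 (𝒳.p.obj x₁)) (β ≫ φ.map e.inv) := by
    have : 𝒴.p.IsHomLift (𝟙 (𝒳.p.obj x₁) ≫ 𝟙 (𝒳.p.obj x₁)) (β ≫ φ.map e.inv) := inferInstance
    simpa using this
  obtain ⟨α, -, eα⟩ := hφ x₁ c₁ (β ≫ φ.map e.inv) hβ2
  refine ⟨α ≫ e.hom ≫ k, ?_⟩
  rw [φ.toFunctor.map_comp, φ.toFunctor.map_comp, eα, Category.assoc, ← Category.assoc (φ.map e.inv),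
    ← φ.toFunctor.map_comp, e.inv_hom_id, φ.toFunctor.map_id, Category.id_comp, eβ]

/-- a good object of `𝒴` (w.r.t. `φ x`) is isomorphic to the image of a good object of `𝒳` -/
theorem exists_good_preimage (h𝒳 : FibCat.IsFibGrpd 𝒳.p) (h𝒴 : FibCat.IsFibGrpd 𝒴.p)
    (φ : 𝒳 ⥤ᵇ 𝒴) {x : 𝒳.obj} {z : 𝒴.obj} (c : z ⟶ φ.obj x) :
    ∃ (x₁ : 𝒳.obj) (_ : x₁ ⟶ x) (b : z ≅ φ.obj x₁), 𝒴.p.IsHomLift (𝟙 (𝒴.p.obj z)) b.hom := by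
  obtain ⟨x₁, j, hj⟩ := h𝒳.exists_lift (x := x) (𝒴.p.map c ≫ eqToHom (φ.w_obj x))
  have hφj : 𝒴.p.IsHomLift (𝒴.p.map c ≫ eqToHom (φ.w_obj x)) (φ.map j) := inferInstance
  have hc : 𝒴.p.IsHomLift (𝒴.p.map c ≫ eqToHom (φ.w_obj x)) c := inferInstance
  obtain ⟨b, hb, -⟩ := IsFibGrpd.exists_iso_of_lifts h𝒴
    (𝒴.p.map c ≫ eqToHom (φ.w_obj x)) c (φ.map j)
  exact ⟨x₁, j, b, hb⟩

theorem aux_sigma_nat {D : Type*} [Category D] {A A' B B' E E' Z Z' : D}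
    (Ψf : A' ⟶ A) (Ψb : A ⟶ B) (Ψb' : A' ⟶ B') (Ψφκ : B' ⟶ B) (φρ : B ⟶ E) (φρ' : B' ⟶ E')
    (φκ : E' ⟶ E) (binv : E ⟶ Z) (binv' : E' ⟶ Z') (f : Z' ⟶ Z)
    (h1 : Ψf ≫ Ψb = Ψb' ≫ Ψφκ) (h2 : Ψφκ ≫ φρ = φρ' ≫ φκ) (h3 : φκ ≫ binv = binv' ≫ f) :
    Ψf ≫ Ψb ≫ φρ ≫ binv = (Ψb' ≫ φρ' ≫ binv') ≫ f := by
  rw [← Category.assoc, h1, Category.assoc, ← Category.assoc Ψφκ, h2, Category.assoc, h3]
  simp only [Category.assoc]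

/-- **Fibrewise isomorphism of `φ ∘ ψ` with the identity** (general site with a terminal
object). -/
theorem exists_fibrewise_iso_id_comp (J : GrothendieckTopology C) (h𝒳 : FibCat.IsFibGrpd 𝒳.p)
    (h𝒴 : Gerb.IsGerbe J 𝒴) {T : C} (hT : IsTerminal T) (φ : 𝒳 ⥤ᵇ 𝒴) (ψ : 𝒴 ⥤ᵇ 𝒳)
    (x : 𝒳.obj) (hx : 𝒳.p.obj x = T)
    (hφ : ∀ (x' : 𝒳.obj) (_ : x' ⟶ x) (β : φ.obj x' ⟶ φ.obj x'),
      𝒴.p.IsHomLift (𝟙 (𝒳.p.obj x')) β →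
        ∃ α : x' ⟶ x', 𝒳.p.IsHomLift (𝟙 (𝒳.p.obj x')) α ∧ φ.map α = β)
    (ρ : ∀ y : 𝒳.obj, ψ.obj (φ.obj y) ⟶ y) (hρ : ∀ y, 𝒳.p.IsHomLift (𝟙 (𝒳.p.obj y)) (ρ y))
    (nρ : ∀ ⦃y y' : 𝒳.obj⦄ (f : y ⟶ y'), ψ.map (φ.map f) ≫ ρ y' = ρ y ≫ f) :
    ∃ σ : ∀ z : 𝒴.obj, φ.obj (ψ.obj z) ⟶ z, (∀ z, 𝒴.p.IsHomLift (𝟙 (𝒴.p.obj z)) (σ z)) ∧
      (∀ ⦃z z' : 𝒴.obj⦄ (f : z ⟶ z'), φ.map (ψ.map f) ≫ σ z' = σ z ≫ f) := by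
  have hfib := h𝒴.1.1
  have ht : 𝒴.p.obj (φ.obj x) = T := (φ.w_obj x).trans hx
  have key : ∀ (z : 𝒴.obj) (_ : Good (φ.obj x) z), ∃ (x₁ : 𝒳.obj) (_ : x₁ ⟶ x)
      (b : z ≅ φ.obj x₁), 𝒴.p.IsHomLift (𝟙 (𝒴.p.obj z)) b.hom := by
    rintro z ⟨c⟩
    exact exists_good_preimage h𝒳 hfib φ c
  choose x₁ c₁ b hb using key
  let σ₀ : ∀ z, Good (φ.obj x) z → ((BasedFunctor.comp ψ φ).obj z ⟶ z) := fun z hz =>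
    φ.map (ψ.map (b z hz).hom) ≫ φ.map (ρ (x₁ z hz)) ≫ (b z hz).inv
  have hG : IsGoodFamily (BasedFunctor.comp ψ φ) (Good (φ.obj x)) σ₀ :=
    { src := fun a z ψ' h => Good.src ψ' h
      lift := fun z hz => by
        have l0 := hb z hz
        have l1 : 𝒴.p.IsHomLift (𝟙 (𝒴.p.obj z)) (φ.map (ψ.map (b z hz).hom)) := inferInstance
        have e1 : 𝒳.p.obj (x₁ z hz) = 𝒴.p.obj z :=
          (φ.w_obj _).symm.trans (IsHomLift.codomain_eq 𝒴.p (𝟙 (𝒴.p.obj z)) (b z hz).hom)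
        have l2' : 𝒳.p.IsHomLift (𝟙 (𝒴.p.obj z)) (ρ (x₁ z hz)) :=
          isHomLift_id_of_eq 𝒳.p e1 _ (hφ := hρ _)
        have l2 : 𝒴.p.IsHomLift (𝟙 (𝒴.p.obj z)) (φ.map (ρ (x₁ z hz))) := inferInstance
        have l3 : 𝒴.p.IsHomLift (𝟙 (𝒴.p.obj z)) (b z hz).inv :=
          IsHomLift.lift_id_inv 𝒴.p _ (b z hz)
        exact isHomLift_id_comp _ _ _ _ l1 (isHomLift_id_comp _ _ _ _ l2 l3)
      nat := fun z' z f hz' hz => by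
        obtain ⟨κ, eκ⟩ := exists_preimage_of_good h𝒳 hfib hT φ hx hφ (c₁ z' hz') (c₁ z hz)
          ((b z' hz').inv ≫ f ≫ (b z hz).hom)
        have e1 : f ≫ (b z hz).hom = (b z' hz').hom ≫ φ.map κ := by
          rw [eκ, Iso.hom_inv_id_assoc]
        have e3 : φ.map κ ≫ (b z hz).inv = (b z' hz').inv ≫ f := by
          rw [eκ]; simp
        have h1 : φ.map (ψ.map f) ≫ φ.map (ψ.map (b z hz).hom) =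
            φ.map (ψ.map (b z' hz').hom) ≫ φ.map (ψ.map (φ.map κ)) := by
          rw [← φ.toFunctor.map_comp, ← ψ.toFunctor.map_comp, e1, ψ.toFunctor.map_comp,
            φ.toFunctor.map_comp]
        have h2 : φ.map (ψ.map (φ.map κ)) ≫ φ.map (ρ (x₁ z hz)) =
            φ.map (ρ (x₁ z' hz')) ≫ φ.map κ := by
          rw [← φ.toFunctor.map_comp, nρ κ, φ.toFunctor.map_comp]
        exact aux_sigma_nat _ _ _ _ _ _ _ _ _ _ h1 h2 e3 }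
  obtain ⟨σ, hσ, nσ, -⟩ := exists_extension J h𝒴.1 hG
    (fun z => exists_good_sieve J hfib h𝒴.2.2 hT ht z)
  exact ⟨σ, hσ, nσ⟩

end Comp

end Groth.Agent.Lib.Helper17.GerbGlob
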