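-- helper17: gerbes with a global object: a functor inducing bijections on automorphism groups of
-- the pullbacks of the global object is an equivalence.
import Groth.Agent.Lib.Helper17GerbGlob2
import Groth.Agent.Lib.Helper17StkLoc

set_option autoImplicit false
set_option backward.isDefEq.respectTransparency false
set_option backward.isDefEq.respectTransparency.types false
open CategoryTheory CategoryTheory.Functor CategoryTheory.Limits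

universe v₁ u₁ v₂ u₂ v₃ u₃ v₄ u₄ v u

namespace Groth.Agent.Lib.Helper17.GerbGlob

open Groth.Agent.Lib.Helper17 Groth.Agent.Lib.Helper17.Elem Groth.Agent.Lib.Helper17.GerbExt

section Equiv

variable {C : Type u} [Category.{v} C] {𝒳 : BasedCategory.{v₂, u₂} C}
  {𝒴 : BasedCategory.{v₃, u₃} C}

/-- `φ` is faithful on morphisms out of good objects -/
theorem eq_of_map_eq_of_good (h𝒳 : FibCat.IsFibGrpd 𝒳.p) (h𝒴 : FibCat.IsFibGrpd 𝒴.p)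
    (φ : 𝒳 ⥤ᵇ 𝒴) {s : 𝒳.obj}
    (hinj : ∀ (x' : 𝒳.obj) (_ : x' ⟶ s) (α α' : x' ⟶ x'),
      𝒳.p.IsHomLift (𝟙 (𝒳.p.obj x')) α → 𝒳.p.IsHomLift (𝟙 (𝒳.p.obj x')) α' →
        φ.map α = φ.map α' → α = α')
    {a' y : 𝒳.obj} (c : a' ⟶ s) (δ δ' : a' ⟶ y) {V U : C} (g : V ⟶ U)
    (hδ : 𝒳.p.IsHomLift g δ) (hδ' : 𝒳.p.IsHomLift g δ') (e : φ.map δ = φ.map δ') : δ = δ' := by
  have hV : 𝒳.p.obj a' = V := IsHomLift.domain_eq 𝒳.p g δ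
  subst hV
  obtain ⟨α, hα, eα⟩ := exists_fac h𝒳 (𝟙 (𝒳.p.obj a')) g g (Category.id_comp _).symm δ' hδ' δ hδ
  have h1 : 𝒴.p.IsHomLift (𝟙 (𝒳.p.obj a')) (φ.map α) := inferInstance
  have h2 : 𝒴.p.IsHomLift (𝟙 (𝒳.p.obj a')) (φ.map (𝟙 a')) := inferInstance
  have h3 : 𝒴.p.IsHomLift g (φ.map δ') := inferInstance
  have h4 : φ.map α = φ.map (𝟙 a') := by
    apply cancel_right h𝒴 (𝟙 (𝒳.p.obj a')) g _ _ (φ.map δ') h1 h2 h3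
    rw [← φ.toFunctor.map_comp, eα, e, φ.toFunctor.map_id, Category.id_comp]
  have h5 := hinj a' c α (𝟙 a') hα inferInstance h4
  rw [← eα, h5, Category.id_comp]

theorem faithful_of_injective_aut (J : GrothendieckTopology C) (h𝒳 : Gerb.IsGerbe J 𝒳)
    (h𝒴 : FibCat.IsFibGrpd 𝒴.p) {T : C} (hT : IsTerminal T) (φ : 𝒳 ⥤ᵇ 𝒴) {s : 𝒳.obj}
    (hs : 𝒳.p.obj s = T)
    (hinj : ∀ (x' : 𝒳.obj) (_ : x' ⟶ s) (α α' : x' ⟶ x'),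
      𝒳.p.IsHomLift (𝟙 (𝒳.p.obj x')) α → 𝒳.p.IsHomLift (𝟙 (𝒳.p.obj x')) α' →
        φ.map α = φ.map α' → α = α') : φ.toFunctor.Faithful := by
  have hfib := h𝒳.1.1
  refine ⟨fun {x₁ x₂} a b hab => ?_⟩
  obtain ⟨R, hR, hq⟩ := exists_good_sieve J hfib h𝒳.2.2 hT hs x₁
  have hfa := ((isStackFor_iff hfib).1 (h𝒳.1.2 R hR)).1
  have hb : 𝒳.p.IsHomLift (𝒳.p.map a) b := by
    have : 𝒴.p.IsHomLift (𝒳.p.map a) (φ.map a) := inferInstance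
    have hab' : φ.map a = φ.map b := hab
    rw [hab'] at this
    exact (BasedFunctor.isHomLift_iff φ _ b).1 this
  apply hfa.general hfib (𝒳.p.map a) a b inferInstance hb
  rintro a' ψ ⟨W, h, hh, hψ⟩
  obtain ⟨c⟩ := hq h hh a' ψ hψ
  have l1 : 𝒳.p.IsHomLift (h ≫ 𝒳.p.map a) (ψ ≫ a) := inferInstance
  have l2 : 𝒳.p.IsHomLift (h ≫ 𝒳.p.map a) (ψ ≫ b) := inferInstance
  apply eq_of_map_eq_of_good hfib h𝒴 φ hinj c _ _ (h ≫ 𝒳.p.map a) l1 l2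
  have hab' : φ.map a = φ.map b := hab
  rw [φ.toFunctor.map_comp, φ.toFunctor.map_comp]
  exact congrArg (fun t => φ.map ψ ≫ t) hab'

theorem full_of_bijective_aut (J : GrothendieckTopology C) (h𝒳 : Gerb.IsGerbe J 𝒳)
    (h𝒴 : Stk.IsStack J 𝒴) {T : C} (hT : IsTerminal T) (φ : 𝒳 ⥤ᵇ 𝒴) {s : 𝒳.obj}
    (hs : 𝒳.p.obj s = T)
    (hinj : ∀ (x' : 𝒳.obj) (_ : x' ⟶ s) (α α' : x' ⟶ x'),
      𝒳.p.IsHomLift (𝟙 (𝒳.p.obj x')) α → 𝒳.p.IsHomLift (𝟙 (𝒳.p.obj x')) α' →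
        φ.map α = φ.map α' → α = α')
    (hsurj : ∀ (x' : 𝒳.obj) (_ : x' ⟶ s) (β : φ.obj x' ⟶ φ.obj x'),
      𝒴.p.IsHomLift (𝟙 (𝒳.p.obj x')) β →
        ∃ α : x' ⟶ x', 𝒳.p.IsHomLift (𝟙 (𝒳.p.obj x')) α ∧ φ.map α = β) :
    φ.toFunctor.Full := by
  have hfib := h𝒳.1.1
  have hfib' := h𝒴.1
  refine ⟨fun {x₁ x₂} β₀ => ?_⟩
  obtain ⟨β, hβ₀⟩ : ∃ β : φ.obj x₁ ⟶ φ.obj x₂, β = β₀ := ⟨β₀, rfl⟩
  obtain ⟨f, hf⟩ : ∃ f : 𝒳.p.obj x₁ ⟶ 𝒳.p.obj x₂,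
      f = eqToHom (φ.w_obj x₁).symm ≫ 𝒴.p.map β ≫ eqToHom (φ.w_obj x₂) := ⟨_, rfl⟩
  have hβ : 𝒴.p.IsHomLift f β := by rw [hf]; infer_instance
  obtain ⟨R₁, hR₁, hq₁⟩ := exists_good_sieve J hfib h𝒳.2.2 hT hs x₁
  obtain ⟨R₂, hR₂, hq₂⟩ := exists_good_sieve J hfib h𝒳.2.2 hT hs x₂
  have hR : R₁ ⊓ R₂.pullback f ∈ J (𝒳.p.obj x₁) :=
    J.intersection_covering hR₁ (J.pullback_stable f hR₂)
  obtain ⟨-, hfu, -⟩ := (isStackFor_iff hfib).1 (h𝒳.1.2 _ hR)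
  have hfa' := ((isStackFor_iff hfib').1 (h𝒴.2 _ hR)).1
  have key : ∀ ⦃a' : 𝒳.obj⦄ (ψ : a' ⟶ x₁) (_ : OverR (R₁ ⊓ R₂.pullback f) ψ),
      ∃ μ : a' ⟶ x₂, φ.map μ = φ.map ψ ≫ β := by
    rintro a' ψ ⟨W, h, ⟨hh1, hh2⟩, hψ⟩
    obtain ⟨c⟩ := hq₁ h hh1 a' ψ hψ
    obtain ⟨y₂, ι₂, hι₂⟩ := hfib.exists_lift (x := x₂) (h ≫ f)
    have hh2' : R₂ (h ≫ f) := hh2
    obtain ⟨c₂⟩ := hq₂ (h ≫ f) hh2' y₂ ι₂ hι₂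
    have l : 𝒴.p.IsHomLift (h ≫ f) (φ.map ψ ≫ β) := inferInstance
    have l2 : 𝒴.p.IsHomLift (h ≫ f) (φ.map ι₂) := inferInstance
    obtain ⟨χ, -, eχ⟩ := exists_fac hfib' (𝟙 W) (h ≫ f) (h ≫ f) (Category.id_comp _).symm
      (φ.map ι₂) l2 (φ.map ψ ≫ β) l
    obtain ⟨δ, eδ⟩ := exists_preimage_of_good hfib hfib' hT φ hs hsurj c c₂ χ
    exact ⟨δ ≫ ι₂, by rw [φ.toFunctor.map_comp, eδ, eχ]⟩
  choose m hm using key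
  have hml : ∀ ⦃a' : 𝒳.obj⦄ (ψ : a' ⟶ x₁) (h : OverR (R₁ ⊓ R₂.pullback f) ψ) ⦃W : C⦄
      (h' : W ⟶ 𝒳.p.obj x₁), 𝒳.p.IsHomLift h' ψ → 𝒳.p.IsHomLift (h' ≫ f) (m ψ h) := by
    intro a' ψ h W h' hψ
    apply (BasedFunctor.isHomLift_iff φ _ _).1
    rw [hm]
    infer_instance
  have compat : ∀ ⦃a' : 𝒳.obj⦄ (ψ : a' ⟶ x₁) (h : OverR (R₁ ⊓ R₂.pullback f) ψ)
      ⦃a'' : 𝒳.obj⦄ (ψ' : a'' ⟶ a'), m (ψ' ≫ ψ) (h.precomp ψ') = ψ' ≫ m ψ h := by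
    intro a' ψ h a'' ψ'
    obtain ⟨W', h', ⟨hh1', hh2'⟩, hψ''⟩ := id (h.precomp ψ')
    obtain ⟨c⟩ := hq₁ h' hh1' a'' (ψ' ≫ ψ) hψ''
    have l1 := hml (ψ' ≫ ψ) (h.precomp ψ') h' hψ''
    have e1 : φ.map (ψ' ≫ m ψ h) = φ.map (ψ' ≫ ψ) ≫ β := by
      rw [φ.toFunctor.map_comp, hm, φ.toFunctor.map_comp, Category.assoc]
    have l2 : 𝒳.p.IsHomLift (h' ≫ f) (ψ' ≫ m ψ h) := by
      apply (BasedFunctor.isHomLift_iff φ _ _).1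
      rw [e1]
      infer_instance
    apply eq_of_map_eq_of_good hfib hfib' φ hinj c _ _ (h' ≫ f) l1 l2
    rw [hm, e1]
  obtain ⟨θ, hθ, eθ⟩ := hfu.general hfib rfl f rfl m hml compat
  refine ⟨θ, ?_⟩
  rw [← hβ₀]
  have l1 : 𝒴.p.IsHomLift f (φ.map θ) := inferInstance
  apply hfa'.general hfib' f (φ.map θ) β l1 hβ
  rintro b ψ' ⟨W, h, hh, hψ'⟩
  obtain ⟨y₁, ι₁, hι₁⟩ := hfib.exists_lift (x := x₁) h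
  have l2 : 𝒴.p.IsHomLift h (φ.map ι₁) := inferInstance
  obtain ⟨ε, -, eε⟩ := exists_fac hfib' (𝟙 W) h h (Category.id_comp _).symm
    (φ.map ι₁) l2 ψ' hψ'
  have hov : OverR (R₁ ⊓ R₂.pullback f) ι₁ := ⟨W, h, hh, hι₁⟩
  rw [← eε, Category.assoc, Category.assoc, ← φ.toFunctor.map_comp, eθ ι₁ hov, hm]

theorem locEssSurj_of_good (J : GrothendieckTopology C) (h𝒳 : FibCat.IsFibGrpd 𝒳.p)
    (h𝒴 : Gerb.IsGerbe J 𝒴) {T : C} (hT : IsTerminal T) (φ : 𝒳 ⥤ᵇ 𝒴) {s : 𝒳.obj}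
    (hs : 𝒳.p.obj s = T) (y : 𝒴.obj) :
    ∃ R ∈ J (𝒴.p.obj y), ∀ ⦃V : C⦄ (f : V ⟶ 𝒴.p.obj y), R f →
      ∃ (x : 𝒳.obj) (k : φ.obj x ⟶ y), 𝒴.p.IsHomLift f k := by
  have hfib' := h𝒴.1.1
  have ht : 𝒴.p.obj (φ.obj s) = T := (φ.w_obj s).trans hs
  obtain ⟨R, hR, hq⟩ := exists_good_sieve J hfib' h𝒴.2.2 hT ht y
  refine ⟨R, hR, fun V f hf => ?_⟩
  obtain ⟨a, ι, hι⟩ := hfib'.exists_lift (x := y) f
  obtain ⟨c⟩ := hq f hf a ι hι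
  obtain ⟨x₁, -, b, hb⟩ := exists_good_preimage h𝒳 hfib' φ c
  have hV : 𝒴.p.obj a = V := IsHomLift.domain_eq 𝒴.p f ι
  have hb' : 𝒴.p.IsHomLift (𝟙 V) b.hom := isHomLift_id_of_eq 𝒴.p hV _ (hφ := hb)
  have hbinv : 𝒴.p.IsHomLift (𝟙 V) b.inv := IsHomLift.lift_id_inv 𝒴.p _ b
  refine ⟨x₁, b.inv ≫ ι, ?_⟩
  have : 𝒴.p.IsHomLift (𝟙 V ≫ f) (b.inv ≫ ι) := inferInstance
  simpa using this

end Equiv

section Main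

variable {C : Type u} [Category.{v} C] {𝒳 𝒴 : BasedCategory.{v, max u v} C}

/-- **Equivalence criterion** (general site with a terminal object). -/
theorem isEquivOver_of_bijective_aut (J : GrothendieckTopology C) (h𝒳 : Gerb.IsGerbe J 𝒳)
    (h𝒴 : Gerb.IsGerbe J 𝒴) {T : C} (hT : IsTerminal T) (φ : 𝒳 ⥤ᵇ 𝒴) {s : 𝒳.obj}
    (hs : 𝒳.p.obj s = T)
    (hinj : ∀ (x' : 𝒳.obj) (_ : x' ⟶ s) (α α' : x' ⟶ x'),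
      𝒳.p.IsHomLift (𝟙 (𝒳.p.obj x')) α → 𝒳.p.IsHomLift (𝟙 (𝒳.p.obj x')) α' →
        φ.map α = φ.map α' → α = α')
    (hsurj : ∀ (x' : 𝒳.obj) (_ : x' ⟶ s) (β : φ.obj x' ⟶ φ.obj x'),
      𝒴.p.IsHomLift (𝟙 (𝒳.p.obj x')) β →
        ∃ α : x' ⟶ x', 𝒳.p.IsHomLift (𝟙 (𝒳.p.obj x')) α ∧ φ.map α = β) :
    FibCat.IsEquivOver φ := by
  have h1 := faithful_of_injective_aut J h𝒳 h𝒴.1.1 hT φ hs hinj
  have h2 := full_of_bijective_aut J h𝒳 h𝒴.1 hT φ hs hinj hsurj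
  exact (isEquivOver_iff_locally_essSurj J h𝒳.1 h𝒴.1 φ).2
    (fun y => locEssSurj_of_good J h𝒳.1.1 h𝒴 hT φ hs y)

end Main

end Groth.Agent.Lib.Helper17.GerbGlob
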