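-- helper17: a gerbe `F' : 𝒳' ⟶ 𝒴` over a stack, with `F'` fibred in groupoids, is a gerbe over the
-- site `𝒴` with the inherited topology.
import Groth.Agent.Lib.Helper17Gerb4
import Groth.Agent.Lib.Helper17StkOver
import Groth.Agent.Lib.Helper17StkLoc
import Groth.Prelude.Def_StGerb

set_option autoImplicit false
set_option backward.isDefEq.respectTransparency false
set_option backward.isDefEq.respectTransparency.types false
open CategoryTheory CategoryTheory.Functor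

universe v₃ u₃ v₂ u₂ v u

namespace Groth.Agent.Lib.Helper17.GerbRel

open Groth.Agent.Lib.Helper17 Groth.Agent.Lib.Helper17.Elem

variable {C : Type u} [Category.{v} C] (J : GrothendieckTopology C)
  {𝒳 : BasedCategory.{v₂, u₂} C} {𝒴 : BasedCategory.{v₃, u₃} C} (F : 𝒳 ⥤ᵇ 𝒴)

/-- a lift of an object along `F` with prescribed image and map -/
theorem exists_obj_over (h𝒴 : FibCat.IsFibGrpd 𝒴.p) (hF : FibCat.IsFibGrpd F.toFunctor)
    {V y : 𝒴.obj} (f : V ⟶ y) {x : 𝒳.obj} (g : F.obj x ⟶ y) (hg : 𝒴.p.IsHomLift (𝒴.p.map f) g) :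
    ∃ (x' : 𝒳.obj) (ψ : x' ⟶ x) (e : F.obj x' = V), F.map ψ ≫ g = eqToHom e ≫ f := by
  obtain ⟨ε, hε, eε⟩ := IsFibGrpd.exists_iso_of_lifts h𝒴 (𝒴.p.map f) f g
  obtain ⟨x', ψ, hψ⟩ := hF.exists_lift (x := x) ε.hom
  have e : F.obj x' = V := IsHomLift.domain_eq F.toFunctor ε.hom ψ
  refine ⟨x', ψ, e, ?_⟩
  have h1 := IsHomLift.fac' F.toFunctor ε.hom ψ
  change F.map ψ = _ at h1
  rw [h1]
  simp [eε]

theorem locSurjObj_rel (h𝒴 : FibCat.IsFibGrpd 𝒴.p) (hF : FibCat.IsFibGrpd F.toFunctor)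
    (h : Gerb.LocSurjObj J F) :
    Gerb.LocSurjObj (𝒴.p.restrictedTopology J)
      (FibCat.toSelf (BasedCategory.ofFunctor F.toFunctor)) := by
  intro y
  change 𝒴.obj at y
  obtain ⟨R₀, hR₀, h0⟩ := h y
  refine ⟨R₀.functorPullback 𝒴.p, functorPullback_mem_restrictedTopology 𝒴.p h𝒴 J R₀ hR₀, ?_⟩
  intro V f hf
  change V ⟶ y at f
  have hf' : R₀ (𝒴.p.map f) := hf
  obtain ⟨x, g, hg⟩ := h0 (𝒴.p.map f) hf'
  obtain ⟨x', ψ, e, he⟩ := exists_obj_over F h𝒴 hF f g hg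
  refine ⟨x', eqToHom e ≫ f, ?_⟩
  apply IsHomLift.of_fac (𝟭 𝒴.obj) f (eqToHom e ≫ f) e rfl
  simp

theorem locSurjHom_rel (h𝒴 : FibCat.IsFibGrpd 𝒴.p) (hF : FibCat.IsFibGrpd F.toFunctor)
    (h : Gerb.LocSurjHom J F) :
    Gerb.LocSurjHom (𝒴.p.restrictedTopology J)
      (FibCat.toSelf (BasedCategory.ofFunctor F.toFunctor)) := by
  intro x x' b hb
  change 𝒳.obj at x x'
  change F.obj x ⟶ F.obj x' at b
  change (𝟭 𝒴.obj).IsHomLift (𝟙 (F.obj x)) b at hb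
  have hx' : F.obj x' = F.obj x := IsHomLift.codomain_eq (𝟭 𝒴.obj) (𝟙 (F.obj x)) b
  have eb : b = eqToHom hx'.symm := by
    have := IsHomLift.fac' (𝟭 𝒴.obj) (𝟙 (F.obj x)) b
    simpa using this
  have hb' : 𝒴.p.IsHomLift (𝟙 (𝒴.p.obj (F.obj x))) b := by
    rw [eb]
    exact IsHomLift.eqToHom_domain_lift_id hx'.symm rfl
  obtain ⟨R₀, hR₀, h0⟩ := Groth.Agent.Lib.Helper17.LocSurjHom.general J h x x' b (F.w_obj x).symm hb'
  refine ⟨R₀.functorPullback 𝒴.p, functorPullback_mem_restrictedTopology 𝒴.p h𝒴 J R₀ hR₀, ?_⟩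
  intro V f hf
  change V ⟶ F.obj x at f
  have hf' : R₀ (𝒴.p.map f) := hf
  obtain ⟨x₀, φ, ψ, hφ, hψ, hc⟩ := h0 (𝒴.p.map f) hf'
  have hFφ : 𝒴.p.IsHomLift (𝒴.p.map f) (F.map φ) := inferInstance
  obtain ⟨x₁, χ, e, he⟩ := exists_obj_over F h𝒴 hF f (F.map φ) hFφ
  refine ⟨x₁, χ ≫ φ, χ ≫ ψ, ?_, ?_, ?_⟩
  · apply IsHomLift.of_fac' F.toFunctor f (χ ≫ φ) e rfl
    change F.map (χ ≫ φ) = _
    rw [F.toFunctor.map_comp]
    change F.map χ ≫ F.map φ = _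
    rw [he]
    simp
  · apply IsHomLift.of_fac' F.toFunctor f (χ ≫ ψ) e hx'
    change F.map (χ ≫ ψ) = _
    rw [F.toFunctor.map_comp]
    change F.map χ ≫ F.map ψ = _
    rw [← hc, ← Category.assoc, he, eb]
    simp
  · change F.map (χ ≫ φ) ≫ b = F.map (χ ≫ ψ)
    rw [F.toFunctor.map_comp, F.toFunctor.map_comp, Category.assoc]
    change F.map χ ≫ F.map φ ≫ b = F.map χ ≫ F.map ψ
    rw [hc]

theorem isGerbeOver_rel (h𝒴 : FibCat.IsFibGrpd 𝒴.p) (hF : FibCat.IsFibGrpd F.toFunctor)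
    (h : Gerb.IsGerbeOver J F) :
    Gerb.IsGerbeOver (𝒴.p.restrictedTopology J)
      (FibCat.toSelf (BasedCategory.ofFunctor F.toFunctor)) :=
  ⟨locSurjObj_rel J F h𝒴 hF h.1, locSurjHom_rel J F h𝒴 hF h.2⟩

end Groth.Agent.Lib.Helper17.GerbRel
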