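import Mathlib

/-! An abstract Hilbert basis theorem for graded objects with finitely many commuting operators of
degree one in an abelian category (helper17). -/
set_option autoImplicit false
set_option backward.isDefEq.respectTransparency false
set_option backward.isDefEq.respectTransparency.types false
universe v u
open CategoryTheory CategoryTheory.Limits

namespace Groth.Agent.Lib.Helper17.HB

section Basic
variable {𝒜 : Type u} [Category.{v} 𝒜] [Abelian 𝒜]

theorem factors_of_eq {B W : 𝒜} (P : Subobject B) {x : W ⟶ B} (g : W ⟶ (P : 𝒜))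
    (h : g ≫ P.arrow = x) : P.Factors x := by
  rw [← h]; exact Subobject.factors_comp_arrow g

theorem factors_of_epi_comp {B W W' : 𝒜} (P : Subobject B) (π : W' ⟶ W) [Epi π] (x : W ⟶ B)
    (h : P.Factors (π ≫ x)) : P.Factors x := by
  have h0 : x ≫ cokernel.π P.arrow = 0 := by
    rw [← cancel_epi π, comp_zero, ← Category.assoc, ← Subobject.factorThru_arrow _ _ h,
      Category.assoc, cokernel.condition, comp_zero]
  have hk := Abelian.monoIsKernelOfCokernel (f := P.arrow) _ (cokernelIsCokernel P.arrow)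
  exact factors_of_eq P (hk.lift (KernelFork.ofι x h0)) (hk.fac _ WalkingParallelPair.zero)

theorem image_factors_iff {A B W : 𝒜} (f : A ⟶ B) (x : W ⟶ B) :
    (imageSubobject f).Factors x ↔
      ∃ (W' : 𝒜) (π : W' ⟶ W) (_ : Epi π) (y : W' ⟶ A), π ≫ x = y ≫ f := by
  constructor
  · intro h
    obtain ⟨W', π, hπ, y, hy⟩ := surjective_up_to_refinements_of_epi (factorThruImageSubobject f)
      (Subobject.factorThru _ _ h)
    refine ⟨W', π, hπ, y, ?_⟩
    rw [← Subobject.factorThru_arrow _ _ h, ← Category.assoc, hy, Category.assoc,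
      imageSubobject_arrow_comp]
  · rintro ⟨W', π, hπ, y, hy⟩
    apply factors_of_epi_comp _ π
    rw [hy]
    exact imageSubobject_factors_comp_self _ _

theorem factors_neg {B W : 𝒜} (P : Subobject B) (x : W ⟶ B) (h : P.Factors x) :
    P.Factors (-x) :=
  factors_of_eq P (-(Subobject.factorThru _ _ h)) (by
    rw [Preadditive.neg_comp, Subobject.factorThru_arrow])

theorem factors_sub {B W : 𝒜} (P : Subobject B) (x y : W ⟶ B) (hx : P.Factors x)
    (hy : P.Factors y) : P.Factors (x - y) := by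
  rw [sub_eq_add_neg]
  exact Subobject.factors_add _ _ hx (factors_neg P y hy)

theorem factors_sum {B W : 𝒜} (P : Subobject B) {ι : Type*} (s : Finset ι) (f : ι → (W ⟶ B))
    (h : ∀ i ∈ s, P.Factors (f i)) : P.Factors (∑ i ∈ s, f i) := by
  classical
  induction s using Finset.induction_on with
  | empty => rw [Finset.sum_empty]; exact Subobject.factors_zero
  | insert a s ha ih =>
    rw [Finset.sum_insert ha]
    exact Subobject.factors_add _ _ (h a (Finset.mem_insert_self a s))
      (ih (fun i hi => h i (Finset.mem_insert_of_mem hi)))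

theorem le_of_factors_imp {B : 𝒜} (P Q : Subobject B) (h : Q.Factors P.arrow) : P ≤ Q :=
  Subobject.le_of_comm (Subobject.factorThru _ _ h) (Subobject.factorThru_arrow _ _ h)

theorem le_of_pullback_le_of_epi {X Y : 𝒜} (p : X ⟶ Y) [Epi p] (S S' : Subobject Y)
    (h : (Subobject.pullback p).obj S ≤ (Subobject.pullback p).obj S') : S ≤ S' := by
  apply le_of_factors_imp
  obtain ⟨W, π, hπ, y, hy⟩ := surjective_up_to_refinements_of_epi p S.arrow
  apply factors_of_epi_comp _ π
  rw [hy]
  apply (pullback_factors_iff p S' y).1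
  apply Subobject.factors_of_le _ h
  apply (pullback_factors_iff p S y).2
  rw [← hy]
  exact Subobject.factors_of_factors_right _ (Subobject.factors_self _)

theorem isNoetherianObject_of_epi {X Y : 𝒜} (p : X ⟶ Y) [Epi p] [IsNoetherianObject X] :
    IsNoetherianObject Y := by
  rw [isNoetherianObject_iff_monotone_chain_condition]
  intro f
  obtain ⟨n, hn⟩ := monotone_chain_condition_of_isNoetherianObject
    (⟨fun k => (Subobject.pullback p).obj (f k),
      fun k k' h => (Subobject.pullback p).monotone (f.monotone h)⟩ : ℕ →o Subobject X)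
  refine ⟨n, fun m hm => le_antisymm (f.monotone hm) ?_⟩
  exact le_of_pullback_le_of_epi p _ _ (hn m hm).ge

theorem double_chain {L : Type*} [PartialOrder L]
    (hacc : ∀ f : ℕ →o L, ∃ n, ∀ m, n ≤ m → f n = f m) (a : ℕ → ℕ → L)
    (ha1 : ∀ n, Monotone (fun k => a k n)) (ha2 : ∀ k, Monotone (a k)) :
    ∃ K, ∀ m, K ≤ m → ∀ n, a K n = a m n := by
  obtain ⟨k₀, hk₀⟩ := hacc ⟨fun k => a k k, fun k k' h => (ha1 k h).trans (ha2 k' h)⟩
  have hn : ∀ n, ∃ K, ∀ k, K ≤ k → a K n = a k n := fun n => hacc ⟨fun k => a k n, ha1 n⟩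
  choose K hK using hn
  refine ⟨max k₀ ((Finset.range k₀).sup K), fun m hm n => ?_⟩
  set K' := max k₀ ((Finset.range k₀).sup K) with hK'
  by_cases hnk : n < k₀
  · have h1 : K n ≤ K' := le_max_of_le_right (Finset.le_sup (Finset.mem_range.2 hnk))
    rw [← hK n K' h1, hK n m (h1.trans hm)]
  · apply le_antisymm (ha1 n hm)
    have hk₀' : k₀ ≤ K' := le_max_left _ _
    calc a m n ≤ a (max m n) n := ha1 n (le_max_left _ _)
      _ ≤ a (max m n) (max m n) := ha2 _ (le_max_right _ _)
      _ = a k₀ k₀ := (hk₀ (max m n) (le_trans (hk₀'.trans hm) (le_max_left _ _))).symm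
      _ ≤ a K' k₀ := ha1 k₀ hk₀'
      _ ≤ a K' n := ha2 K' (not_lt.1 hnk)

end Basic

section GrOpDef
variable (𝒜 : Type u) [Category.{v} 𝒜] [Abelian 𝒜]

/-- a graded object with `s` commuting operators of degree one, jointly surjective in positive
degrees. -/
structure GrOp (s : ℕ) where
  G : ℕ → 𝒜
  T : Fin s → ∀ q, G q ⟶ G (q + 1)
  comm : ∀ i j q, T i q ≫ T j (q + 1) = T j q ≫ T i (q + 1)
  surj : ∀ (q : ℕ) (W : 𝒜) (x : W ⟶ G (q + 1)), ∃ (W' : 𝒜) (π : W' ⟶ W) (_ : Epi π)
    (y : Fin s → (W' ⟶ G q)), π ≫ x = ∑ i, y i ≫ T i q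

end GrOpDef

namespace GrOp
variable {𝒜 : Type u} [Category.{v} 𝒜] [Abelian 𝒜] {s : ℕ}

/-- a family of subobjects stable under all the operators. -/
def Stable (D : GrOp 𝒜 s) (N : ∀ q, Subobject (D.G q)) : Prop :=
  ∀ i q, (N (q + 1)).Factors ((N q).arrow ≫ D.T i q)

theorem Stable.factors {D : GrOp 𝒜 s} {N : ∀ q, Subobject (D.G q)} (hN : D.Stable N)
    (i : Fin s) (q : ℕ) {W : 𝒜} (x : W ⟶ D.G q) (hx : (N q).Factors x) :
    (N (q + 1)).Factors (x ≫ D.T i q) := by
  rw [← Subobject.factorThru_arrow _ _ hx, Category.assoc]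
  exact Subobject.factors_of_factors_right _ (hN i q)

/-- the ascending chain condition on stable families. -/
def ACC (D : GrOp 𝒜 s) : Prop :=
  ∀ (N : ℕ → ∀ q, Subobject (D.G q)), (∀ j, D.Stable (N j)) → Monotone N →
    ∃ j₀, ∀ j, j₀ ≤ j → N j = N j₀

theorem acc_zero (D : GrOp 𝒜 0) (h : IsNoetherianObject (D.G 0)) : D.ACC := by
  intro N hN hmono
  have hz : ∀ q, IsZero (D.G (q + 1)) := by
    intro q
    rw [IsZero.iff_id_eq_zero]
    obtain ⟨W', π, hπ, y, hy⟩ := D.surj q _ (𝟙 _)
    rw [← cancel_epi π, hy, comp_zero]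
    simp
  obtain ⟨j₀, hj₀⟩ := monotone_chain_condition_of_isNoetherianObject
    (⟨fun j => N j 0, fun j j' hjj => hmono hjj 0⟩ : ℕ →o Subobject (D.G 0))
  refine ⟨j₀, fun j hj => ?_⟩
  funext q
  cases q with
  | zero => exact (hj₀ j hj).symm
  | succ q =>
    apply le_antisymm
    · apply le_of_factors_imp
      have : (N j (q + 1)).arrow = 0 := (hz q).eq_of_tgt _ _
      rw [this]; exact Subobject.factors_zero
    · exact hmono hj (q + 1)

end GrOp

end Groth.Agent.Lib.Helper17.HB
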