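import Mathlib
import Groth.Agent.Lib.Helper17SubExt
import Groth.Agent.Lib.Helper17HB1

/-! Faithful exact left adjoints between abelian categories: basic consequences
(reflection of limits, AB5, subobjects, Noetherian objects). -/

set_option autoImplicit false
set_option backward.isDefEq.respectTransparency false
set_option backward.isDefEq.respectTransparency.types false
universe w u₁ u₂
open CategoryTheory CategoryTheory.Limits

namespace Groth.Agent.Lib.Helper17.GrAdj

section Basic

variable {A : Type u₁} [Category.{w} A] [Abelian A]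
  {B : Type u₂} [Category.{w} B] [Abelian B]
  (F : A ⥤ B) [F.Additive] [F.Faithful] [PreservesFiniteLimits F] [PreservesFiniteColimits F]

include F in
theorem reflectsIsomorphisms : F.ReflectsIsomorphisms :=
  reflectsIsomorphisms_of_reflectsMonomorphisms_of_reflectsEpimorphisms F

theorem reflectsFiniteLimits : ReflectsFiniteLimits F := by
  haveI := reflectsIsomorphisms F
  exact ⟨fun J _ _ => reflectsLimitsOfShape_of_reflectsIsomorphisms⟩

/-- the image of a subobject. -/
noncomputable def mapSub (x : A) (P : Subobject x) : Subobject (F.obj x) :=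
  Subobject.mk (F.map P.arrow)

theorem mapSub_le_iff (x : A) (P Q : Subobject x) : mapSub F x P ≤ mapSub F x Q ↔ P ≤ Q := by
  constructor
  · intro h
    apply HB.le_of_factors_imp
    rw [SubExt.factors_iff_comp_cokernel]
    apply F.map_injective
    rw [F.map_comp, F.map_zero]
    have h1 : (mapSub F x Q).Factors (F.map P.arrow) := by
      apply Subobject.factors_of_le _ h
      exact (Subobject.mk_factors_iff _ _).2 ⟨𝟙 _, Category.id_comp _⟩
    obtain ⟨g, hg⟩ := (Subobject.mk_factors_iff _ _).1 h1
    have hg' : g ≫ F.map Q.arrow = F.map P.arrow := hg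
    rw [← hg', Category.assoc, ← F.map_comp, cokernel.condition, F.map_zero, comp_zero]
  · intro h
    refine Subobject.mk_le_mk_of_comm (F.map (Subobject.ofLE _ _ h)) ?_
    rw [← F.map_comp, Subobject.ofLE_arrow]

theorem mapSub_injective (x : A) : Function.Injective (mapSub F x) := by
  intro P Q h
  exact le_antisymm ((mapSub_le_iff F x P Q).1 h.le) ((mapSub_le_iff F x Q P).1 h.ge)

theorem mapSub_strictMono (x : A) : StrictMono (mapSub F x) := by
  intro P Q h
  exact lt_of_le_of_ne ((mapSub_le_iff F x P Q).2 h.le)
    (fun e => h.ne (mapSub_injective F x e))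

theorem isNoetherianObject_of_map (x : A) [IsNoetherianObject (F.obj x)] :
    IsNoetherianObject x := by
  have : WellFoundedGT (Subobject x) := (mapSub_strictMono F x).wellFoundedGT
  exact ⟨this⟩

include F in
theorem wellPowered [WellPowered.{w} B] : WellPowered.{w} A where
  subobject_small x := small_of_injective (mapSub_injective F x)

end Basic

section AB5

variable {A : Type u₁} [Category.{w} A] [Abelian A] [HasColimitsOfSize.{w, w} A]
  {B : Type u₂} [Category.{w} B] [Abelian B] [HasColimitsOfSize.{w, w} B] [AB5OfSize.{w, w} B]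
  (F : A ⥤ B) (G : B ⥤ A) (adj : F ⊣ G) [F.Additive] [F.Faithful]
  [PreservesFiniteLimits F] [PreservesFiniteColimits F]

include adj in
theorem ab5 : AB5OfSize.{w, w} A := by
  haveI := reflectsFiniteLimits F
  haveI : PreservesColimitsOfSize.{w, w} F := adj.leftAdjoint_preservesColimits
  constructor
  intro J _ _
  exact HasExactColimitsOfShape.domain_of_functor J F

theorem isGrothendieckAbelian_of_family {ι : Type w} (s : ι → B)
    (hsep : ∀ ⦃X Y : B⦄ (f g : X ⟶ Y), (∀ (i : ι) (h : s i ⟶ X), h ≫ f = h ≫ g) → f = g) :
    IsGrothendieckAbelian.{w} B where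
  hasSeparator := ⟨∐ s, (isSeparator_sigma s).2 (fun X Y f g h =>
    hsep f g (fun i k => h (s i) ⟨i⟩ k))⟩

end AB5

section Noeth

variable {B : Type u₂} [Category.{w} B] [Abelian B]

theorem isNoetherianObject_biprod (P Q : B) [IsNoetherianObject P] [IsNoetherianObject Q] :
    IsNoetherianObject (P ⊞ Q) :=
  SubExt.isNoetherianObject_of_exact (biprod.inl : P ⟶ P ⊞ Q) biprod.snd biprod.inl_snd
    (ShortComplex.exact_of_f_is_kernel _ (biprod.isKernelSndKernelFork P Q))

theorem isNoetherianObject_sigma_fin : ∀ (n : ℕ) (Z : Fin n → B),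
    (∀ m, IsNoetherianObject (Z m)) → IsNoetherianObject (∐ Z) := by
  intro n
  induction n with
  | zero =>
    intro Z _
    apply isNoetherianObject_of_isZero
    rw [IsZero.iff_id_eq_zero]
    exact Sigma.hom_ext _ _ (fun m => Fin.elim0 m)
  | succ n ih =>
    intro Z hZ
    haveI := hZ 0
    haveI := ih (fun m => Z m.succ) (fun m => hZ m.succ)
    haveI := isNoetherianObject_biprod (Z 0) (∐ fun m : Fin n => Z m.succ)
    let p : (Z 0) ⊞ (∐ fun m : Fin n => Z m.succ) ⟶ ∐ Z :=
      biprod.desc (Sigma.ι Z 0) (Sigma.desc fun m => Sigma.ι Z m.succ)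
    have : Epi p := by
      apply Preadditive.epi_of_cancel_zero
      intro R g hg
      apply Sigma.hom_ext
      intro m
      rw [comp_zero]
      refine Fin.cases ?_ (fun m => ?_) m
      · have : biprod.inl ≫ p = Sigma.ι Z 0 := biprod.inl_desc _ _
        rw [← this, Category.assoc, hg, comp_zero]
      · have : Sigma.ι (fun m : Fin n => Z m.succ) m ≫ biprod.inr ≫ p = Sigma.ι Z m.succ := by
          rw [biprod.inr_desc, Sigma.ι_desc]
        rw [← this, Category.assoc, Category.assoc, hg, comp_zero, comp_zero]
    exact HB.isNoetherianObject_of_epi p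

end Noeth

end Groth.Agent.Lib.Helper17.GrAdj
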