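import Groth.Agent.Lib.Helper17GrAdj1

/-! Faithful exact left adjoints `F : A ⥤ B` with `B` Grothendieck abelian and the right adjoint
preserving filtered colimits: every object of `A` is exhausted by subobjects `a_j` with
`F a_j` contained in a finitely generated subobject of `F X`. -/

set_option autoImplicit false
set_option backward.isDefEq.respectTransparency false
set_option backward.isDefEq.respectTransparency.types false
universe w u₁ u₂
open CategoryTheory CategoryTheory.Limits

namespace Groth.Agent.Lib.Helper17.GrAdj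

section Core

variable {A : Type u₁} [Category.{w} A] [Abelian A] [HasColimitsOfSize.{w, w} A]
  {B : Type u₂} [Category.{w} B] [Abelian B] [IsGrothendieckAbelian.{w} B]
  (F : A ⥤ B) (G : B ⥤ A) (adj : F ⊣ G) [F.Additive] [F.Faithful]
  [PreservesFiniteLimits F] [PreservesFiniteColimits F]
  [PreservesFilteredColimitsOfSize.{w, w} G]
  {ι : Type w} (s : ι → B)
  (hsep : ∀ ⦃X Y : B⦄ (f g : X ⟶ Y), (∀ (i : ι) (h : s i ⟶ X), h ≫ f = h ≫ g) → f = g)
  (X : A)

/-- maps from the family to `F X`. -/
abbrev Idx : Type w := Σ i : ι, (s i ⟶ F.obj X)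

/-- finite lists of such maps, ordered by containment. -/
structure JJ : Type w where
  /-- the list -/
  l : List (Idx F s X)

instance : Preorder (JJ F s X) where
  le a b := ∀ x ∈ a.l, x ∈ b.l
  le_refl a x hx := hx
  le_trans a b c h1 h2 x hx := h2 x (h1 x hx)

instance : Nonempty (JJ F s X) := ⟨⟨[]⟩⟩

instance : IsDirected (JJ F s X) (· ≤ ·) :=
  ⟨fun a b => ⟨⟨a.l ++ b.l⟩, fun x hx => List.mem_append_left _ hx,
    fun x hx => List.mem_append_right _ hx⟩⟩

/-- the map from the finite coproduct. -/
noncomputable def pS (j : JJ F s X) :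
    (∐ fun m : Fin j.l.length => s (j.l.get m).1) ⟶ F.obj X :=
  Sigma.desc fun m => (j.l.get m).2

/-- its image. -/
noncomputable def β (j : JJ F s X) : Subobject (F.obj X) := imageSubobject (pS F s X j)

theorem ι_pS (j : JJ F s X) (m : Fin j.l.length) :
    Sigma.ι (fun m : Fin j.l.length => s (j.l.get m).1) m ≫ pS F s X j = (j.l.get m).2 := by
  unfold pS
  exact Sigma.ι_desc _ _

theorem β_factors (j : JJ F s X) (x : Idx F s X) (hx : x ∈ j.l) : (β F s X j).Factors x.2 := by
  obtain ⟨m, rfl⟩ := List.mem_iff_get.1 hx
  rw [← ι_pS F s X j m]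
  exact imageSubobject_factors_comp_self _ _

theorem β_mono : Monotone (β F s X) := by
  intro j j' hle
  refine imageSubobject_le _ (Sigma.desc fun m => (β F s X j').factorThru (j.l.get m).2
    (β_factors F s X j' _ (hle _ (List.get_mem _ _)))) ?_
  refine Sigma.hom_ext (f := fun m : Fin j.l.length => s (j.l.get m).1) _ _ (fun m => ?_)
  rw [Sigma.ι_desc_assoc, Subobject.factorThru_arrow, ι_pS]

include hsep in
theorem iSup_β : ⨆ j, β F s X j = ⊤ := by
  set T := ⨆ j, β F s X j with hT
  have h0 : cokernel.π T.arrow = 0 := by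
    apply hsep
    intro i h
    rw [comp_zero]
    have h1 : (β F s X ⟨[⟨i, h⟩]⟩).Factors h := β_factors F s X ⟨[⟨i, h⟩]⟩ ⟨i, h⟩ (by simp)
    have h2 : T.Factors h := Subobject.factors_of_le _ (le_iSup (β F s X) ⟨[⟨i, h⟩]⟩) h1
    exact (SubExt.factors_iff_comp_cokernel T h).1 h2
  have : Epi T.arrow := Abelian.epi_of_cokernel_π_eq_zero _ h0
  have : IsIso T.arrow := isIso_of_mono_of_epi _
  exact Subobject.eq_top_of_isIso_arrow _

/-- the functor of finitely generated subobjects. -/
noncomputable def βF : JJ F s X ⥤ MonoOver (F.obj X) :=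
  (β_mono F s X).functor ⋙ Subobject.representative

theorem βF_hom (j : JJ F s X) : ((βF F s X).obj j).obj.hom = (β F s X j).arrow := rfl

/-- the cocone of inclusions. -/
noncomputable def βCocone : Cocone (βF F s X ⋙ MonoOver.forget _) where
  pt := Over.mk (𝟙 (F.obj X))
  ι :=
    { app := fun j => Over.homMk (β F s X j).arrow
      naturality := fun j j' f => by
        ext
        simp only [Functor.comp_obj, Functor.const_obj_obj, Functor.comp_map, Over.comp_left,
          Over.homMk_left, Functor.const_obj_map, Category.comp_id]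
        exact MonoOver.w ((βF F s X).map f) }

instance : Mono (βCocone F s X).pt.hom := by
  change Mono (𝟙 (F.obj X))
  infer_instance

include hsep in
/-- `F X` is the filtered colimit of its finitely generated subobjects. -/
noncomputable def isColimitβ : IsColimit ((Over.forget _).mapCocone (βCocone F s X)) := by
  apply IsGrothendieckAbelian.isColimitMapCoconeOfSubobjectMkEqISup (βF F s X) (βCocone F s X)
  have h1 : Subobject.mk (βCocone F s X).pt.hom = ⊤ := (Subobject.top_eq_id _).symm
  rw [h1, ← iSup_β F s hsep X]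
  congr 1
  funext j
  exact (Subobject.mk_arrow (β F s X j)).symm

/-- the cocone of the `G β_j` over `G F X`. -/
noncomputable abbrev GCocone : Cocone (((βF F s X ⋙ MonoOver.forget _) ⋙ Over.forget _) ⋙ G) :=
  G.mapCocone ((Over.forget _).mapCocone (βCocone F s X))

include hsep in
/-- it is a colimit cocone. -/
noncomputable def isColimitGβ : IsColimit (GCocone F G s X) :=
  isColimitOfPreserves G (isColimitβ F s hsep X)

theorem GCocone_ι_app (j : JJ F s X) :
    (GCocone F G s X).ι.app j = G.map (β F s X j).arrow := rfl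

/-- the quotients `G F X / G β_j`. -/
noncomputable abbrev Qf : JJ F s X ⥤ A := cokernel (GCocone F G s X).ι

/-- the map `X ⟶ G F X / G β_j`. -/
noncomputable def τ : (Functor.const (JJ F s X)).obj X ⟶ Qf F G s X :=
  (Functor.const (JJ F s X)).map (adj.unit.app X) ≫ cokernel.π (GCocone F G s X).ι

/-- the subobjects `a_j`. -/
noncomputable abbrev aF : JJ F s X ⥤ A := kernel (τ F G adj s X)

/-- the inclusions `a_j ⟶ X`. -/
noncomputable abbrev iS (j : JJ F s X) : (aF F G adj s X).obj j ⟶ X :=
  (kernel.ι (τ F G adj s X)).app j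

include hsep in
theorem isZero_colimit_Qf : IsZero (colimit (Qf F G s X)) := by
  rw [IsZero.iff_id_eq_zero]
  apply colimit.hom_ext
  intro j
  rw [Category.comp_id, comp_zero]
  haveI : Epi ((cokernel.π (GCocone F G s X).ι).app j) := inferInstance
  rw [← cancel_epi ((cokernel.π (GCocone F G s X).ι).app j), comp_zero]
  apply (isColimitGβ F G s hsep X).hom_ext
  intro k
  rw [comp_zero]
  obtain ⟨m, hjm, hkm⟩ := exists_ge_ge j k
  have e1 : (cokernel.π (GCocone F G s X).ι).app j ≫ colimit.ι (Qf F G s X) j =
      (cokernel.π (GCocone F G s X).ι).app m ≫ colimit.ι (Qf F G s X) m := by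
    rw [← colimit.w (Qf F G s X) (homOfLE hjm), ← Category.assoc,
      ← (cokernel.π (GCocone F G s X).ι).naturality (homOfLE hjm)]
    simp
  have e2 : (GCocone F G s X).ι.app k =
      (((βF F s X ⋙ MonoOver.forget _) ⋙ Over.forget _) ⋙ G).map (homOfLE hkm) ≫
        (GCocone F G s X).ι.app m := by
    have := (GCocone F G s X).ι.naturality (homOfLE hkm)
    rw [this]
    simp
  rw [e1, e2, Category.assoc, ← Category.assoc ((GCocone F G s X).ι.app m),
    ← NatTrans.comp_app, cokernel.condition, zero_app, zero_comp, comp_zero]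

attribute [local instance] IsFiltered.isConnected in
include hsep in
theorem jointly_epi {Y : A} (φ : X ⟶ Y) (h : ∀ j, iS F G adj s X j ≫ φ = 0) : φ = 0 := by
  haveI : AB5OfSize.{w, w} A := ab5 F G adj
  let Sτ : ShortComplex (JJ F s X ⥤ A) :=
    ShortComplex.mk (kernel.ι (τ F G adj s X)) (τ F G adj s X) (kernel.condition _)
  have hS : Sτ.Exact := ShortComplex.exact_of_f_is_kernel _ (kernelIsKernel _)
  have hz := isZero_colimit_Qf F G s hsep X
  let f : colimit (aF F G adj s X) ⟶ X :=
    colimit.desc (aF F G adj s X) ⟨X, kernel.ι (τ F G adj s X)⟩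
  have hex := colim.exact_mapShortComplex (S := Sτ) hS (colimit.isColimit (aF F G adj s X))
    (isColimitConstCocone (JJ F s X) X) (colimit.isColimit (Qf F G s X)) f 0
    (fun j => by
      have e1 : colimit.ι (aF F G adj s X) j ≫ f = iS F G adj s X j := colimit.ι_desc _ _
      have e2 : (constCocone (JJ F s X) X).ι.app j = 𝟙 X := rfl
      change colimit.ι (aF F G adj s X) j ≫ f = iS F G adj s X j ≫ _
      rw [e1, e2, Category.comp_id])
    (fun j => hz.eq_of_tgt _ _)
  have hepi : Epi f := hex.epi_f rfl
  rw [← cancel_epi f, comp_zero]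
  apply colimit.hom_ext
  intro j
  rw [comp_zero, ← Category.assoc]
  have : colimit.ι (aF F G adj s X) j ≫ f = iS F G adj s X j := colimit.ι_desc _ _
  rw [this, h]

instance (j : JJ F s X) : Mono (iS F G adj s X j) := by
  unfold iS
  infer_instance

theorem iS_τ (j : JJ F s X) :
    iS F G adj s X j ≫ adj.unit.app X ≫ (cokernel.π (GCocone F G s X).ι).app j = 0 := by
  have := NatTrans.congr_app (kernel.condition (τ F G adj s X)) j
  rw [NatTrans.comp_app, zero_app] at this
  exact this

theorem exact_G (j : JJ F s X) :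
    (ShortComplex.mk (G.map (β F s X j).arrow) ((cokernel.π (GCocone F G s X).ι).app j) (by
      have := NatTrans.congr_app (cokernel.condition (GCocone F G s X).ι) j
      rw [NatTrans.comp_app, zero_app] at this
      exact this)).Exact := by
  have hS : (ShortComplex.mk (GCocone F G s X).ι (cokernel.π (GCocone F G s X).ι)
      (cokernel.condition _)).Exact := ShortComplex.exact_of_g_is_cokernel _ (cokernelIsCokernel _)
  exact hS.map ((evaluation (JJ F s X) A).obj j)

include adj in
theorem mono_G_map {b b' : B} (f : b ⟶ b') [Mono f] : Mono (G.map f) := by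
  haveI : PreservesLimitsOfSize.{0, 0} G := adj.rightAdjoint_preservesLimits
  infer_instance

/-- the map `a_j ⟶ G β_j`. -/
noncomputable def lS (j : JJ F s X) : (aF F G adj s X).obj j ⟶ G.obj (β F s X j : B) :=
  haveI := mono_G_map F G adj (β F s X j).arrow
  (exact_G F G s X j).lift (iS F G adj s X j ≫ adj.unit.app X) (by
    rw [Category.assoc]; exact iS_τ F G adj s X j)

theorem lS_comp (j : JJ F s X) :
    lS F G adj s X j ≫ G.map (β F s X j).arrow = iS F G adj s X j ≫ adj.unit.app X := by
  haveI := mono_G_map F G adj (β F s X j).arrow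
  exact (exact_G F G s X j).lift_f _ _

include adj in
theorem mono_unit : Mono (adj.unit.app X) := by
  constructor
  intro Z g h e
  apply F.map_injective
  have t := adj.left_triangle_components X
  have : F.map g ≫ F.map (adj.unit.app X) ≫ adj.counit.app (F.obj X) =
      F.map h ≫ F.map (adj.unit.app X) ≫ adj.counit.app (F.obj X) := by
    rw [← Category.assoc, ← Category.assoc, ← F.map_comp, ← F.map_comp, e]
  rw [t] at this
  simpa using this

instance (j : JJ F s X) : Mono (lS F G adj s X j) := by
  have := mono_unit F G adj X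
  have : Mono (lS F G adj s X j ≫ G.map (β F s X j).arrow) := by
    rw [lS_comp]
    infer_instance
  exact mono_of_mono _ (G.map (β F s X j).arrow)

/-- the map `F a_j ⟶ β_j`. -/
noncomputable def mS (j : JJ F s X) : F.obj ((aF F G adj s X).obj j) ⟶ (β F s X j : B) :=
  F.map (lS F G adj s X j) ≫ adj.counit.app _

theorem mS_comp (j : JJ F s X) :
    mS F G adj s X j ≫ (β F s X j).arrow = F.map (iS F G adj s X j) := by
  unfold mS
  rw [Category.assoc, ← adj.counit_naturality, ← Category.assoc, ← F.map_comp, lS_comp,
    F.map_comp, Category.assoc, adj.left_triangle_components, Category.comp_id]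

instance (j : JJ F s X) : Mono (mS F G adj s X j) := by
  haveI : Mono (mS F G adj s X j ≫ (β F s X j).arrow) := by
    rw [mS_comp]
    infer_instance
  exact mono_of_mono _ (β F s X j).arrow

theorem iS_mono {j j' : JJ F s X} (h : j ≤ j') :
    (aF F G adj s X).map (homOfLE h) ≫ iS F G adj s X j' = iS F G adj s X j := by
  have := (kernel.ι (τ F G adj s X)).naturality (homOfLE h)
  simpa using this

end Core

end Groth.Agent.Lib.Helper17.GrAdj
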