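import Groth.Agent.Lib.Helper17GrAdj2

/-! Consequences: a small separating family for `A`, and Noetherian objects. -/

set_option autoImplicit false
set_option backward.isDefEq.respectTransparency false
set_option backward.isDefEq.respectTransparency.types false
universe w u₁ u₂
open CategoryTheory CategoryTheory.Limits

namespace Groth.Agent.Lib.Helper17.GrAdj

section Family

variable {A : Type u₁} [Category.{w} A] [Abelian A] [HasColimitsOfSize.{w, w} A]
  {B : Type u₂} [Category.{w} B] [Abelian B] [IsGrothendieckAbelian.{w} B]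
  (F : A ⥤ B) (G : B ⥤ A) (adj : F ⊣ G) [F.Additive] [F.Faithful]
  [PreservesFiniteLimits F] [PreservesFiniteColimits F]
  [PreservesFilteredColimitsOfSize.{w, w} G]
  {ι : Type w} (s : ι → B)
  (hsep : ∀ ⦃X Y : B⦄ (f g : X ⟶ Y), (∀ (i : ι) (h : s i ⟶ X), h ≫ f = h ≫ g) → f = g)

/-- the index type of the family. -/
abbrev Ω : Type (max u₁ u₂ w) :=
  Σ (n : ℕ) (i : Fin n → ι) (K : Subobject (∐ fun m => s (i m))),
    Subobject (G.obj (cokernel K.arrow))

/-- the family. -/
noncomputable def tΩ (ω : Ω G s) : A := (ω.2.2.2 : A)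

/-- an isomorphism between the image and the cokernel of the kernel subobject. -/
noncomputable def imageIso {P Q : B} (p : P ⟶ Q) :
    (imageSubobject p : B) ≅ cokernel (kernelSubobject p).arrow :=
  imageSubobjectIso p ≪≫ (Abelian.coimageIsoImage' p).symm ≪≫
    (cokernelEpiComp (kernelSubobjectIso p).hom (kernel.ι p)).symm ≪≫
    cokernelIsoOfEq (kernelSubobject_arrow p)

variable (X : A)

/-- the index attached to a finitely generated piece. -/
noncomputable def ωOf (j : JJ F s X) : Ω G s :=
  ⟨j.l.length, fun m => (j.l.get m).1, kernelSubobject (pS F s X j),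
    haveI : Mono (G.map (imageIso (pS F s X j)).hom) := inferInstance
    Subobject.mk (lS F G adj s X j ≫ G.map (imageIso (pS F s X j)).hom)⟩

/-- the corresponding object is `a_j`. -/
noncomputable def tΩIso (j : JJ F s X) :
    tΩ G s (ωOf F G adj s X j) ≅ (aF F G adj s X).obj j :=
  haveI : Mono (G.map (imageIso (pS F s X j)).hom) := inferInstance
  Subobject.underlyingIso (lS F G adj s X j ≫ G.map (imageIso (pS F s X j)).hom)

include hsep in
theorem separating_of (P : Ω G s → Prop) (hP : ∀ (X : A) (j : JJ F s X), P (ωOf F G adj s X j))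
    ⦃X Y : A⦄ (f g : X ⟶ Y)
    (h : ∀ (ω : Ω G s) (_ : P ω) (k : tΩ G s ω ⟶ X), k ≫ f = k ≫ g) : f = g := by
  rw [← sub_eq_zero]
  apply jointly_epi F G adj s hsep X
  intro j
  rw [Preadditive.comp_sub, sub_eq_zero, ← cancel_epi (tΩIso F G adj s X j).hom,
    ← Category.assoc, ← Category.assoc]
  exact h _ (hP X j) _

include F in
theorem small_Ω : Small.{w} (Ω G s) := by
  haveI : WellPowered.{w} A := wellPowered F
  infer_instance

include hsep adj in
/-- a small separating family satisfying a given property of the pieces. -/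
theorem exists_small_separating (P : A → Prop)
    (hP : ∀ (X : A) (j : JJ F s X), P ((aF F G adj s X).obj j))
    (hiso : ∀ {a a' : A}, (a ≅ a') → P a → P a') :
    ∃ (κ : Type w) (t : κ → A), (∀ k, P (t k)) ∧
      ∀ ⦃X Y : A⦄ (f g : X ⟶ Y), (∀ (k : κ) (h : t k ⟶ X), h ≫ f = h ≫ g) → f = g := by
  haveI := small_Ω F G s
  let Ω' := {ω : Ω G s // P (tΩ G s ω)}
  refine ⟨Shrink.{w} Ω', fun k => tΩ G s ((equivShrink Ω').symm k).1,
    fun k => ((equivShrink Ω').symm k).2, ?_⟩
  intro X Y f g h
  apply separating_of F G adj s hsep (fun ω => P (tΩ G s ω))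
    (fun X j => hiso (tΩIso F G adj s X j).symm (hP X j)) f g
  intro ω hω k
  obtain ⟨k', hk'⟩ : ∃ k', (equivShrink Ω').symm k' = ⟨ω, hω⟩ :=
    ⟨equivShrink Ω' ⟨ω, hω⟩, by simp⟩
  have := h k'
  beta_reduce at this
  rw [hk'] at this
  exact this k

include hsep adj in
theorem hasSeparator : HasSeparator A := by
  obtain ⟨κ, t, -, ht⟩ := exists_small_separating F G adj s hsep (fun _ => True)
    (fun _ _ => trivial) (fun _ _ => trivial)
  refine ⟨∐ t, (isSeparator_sigma t).2 ?_⟩
  intro X Y f g h
  apply ht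
  intro k l
  exact h (t k) ⟨k⟩ l

end Family

section Groth

variable {A : Type u₁} [Category.{w} A] [Abelian A] [HasColimitsOfSize.{w, w} A]
  {B : Type u₂} [Category.{w} B] [Abelian B] [IsGrothendieckAbelian.{w} B]
  (F : A ⥤ B) (G : B ⥤ A) (adj : F ⊣ G) [F.Additive] [F.Faithful]
  [PreservesFiniteLimits F] [PreservesFiniteColimits F]
  [PreservesFilteredColimitsOfSize.{w, w} G]

include adj in
theorem isGrothendieckAbelian : IsGrothendieckAbelian.{w} A := by
  haveI := ab5 F G adj
  haveI : HasSeparator A := hasSeparator F G adj (fun _ : PUnit.{w + 1} => separator B)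
    (fun X Y f g h => (isSeparator_separator B).def _ _ (fun k => h PUnit.unit k))
  exact {}

end Groth

end Groth.Agent.Lib.Helper17.GrAdj
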