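import Groth.Agent.Lib.Helper17GrAdj3

/-! Noetherian objects along a faithful exact left adjoint. -/

set_option autoImplicit false
set_option backward.isDefEq.respectTransparency false
set_option backward.isDefEq.respectTransparency.types false
universe w u₁ u₂
open CategoryTheory CategoryTheory.Limits

namespace Groth.Agent.Lib.Helper17.GrAdj

section Noeth

variable {A : Type u₁} [Category.{w} A] [Abelian A] [HasColimitsOfSize.{w, w} A]
  {B : Type u₂} [Category.{w} B] [Abelian B] [IsGrothendieckAbelian.{w} B]
  (F : A ⥤ B) (G : B ⥤ A) (adj : F ⊣ G) [F.Additive] [F.Faithful]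
  [PreservesFiniteLimits F] [PreservesFiniteColimits F]
  [PreservesFilteredColimitsOfSize.{w, w} G]
  {ι : Type w} (s : ι → B)
  (hsep : ∀ ⦃X Y : B⦄ (f g : X ⟶ Y), (∀ (i : ι) (h : s i ⟶ X), h ≫ f = h ≫ g) → f = g)
  (hsN : ∀ i, IsNoetherianObject (s i)) (X : A)

include hsN in
theorem isNoetherianObject_β (j : JJ F s X) : IsNoetherianObject (β F s X j : B) := by
  haveI := isNoetherianObject_sigma_fin j.l.length (fun m => s (j.l.get m).1) (fun m => hsN _)
  exact HB.isNoetherianObject_of_epi (factorThruImageSubobject (pS F s X j))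

include hsN in
theorem isNoetherianObject_F_aF (j : JJ F s X) :
    IsNoetherianObject (F.obj ((aF F G adj s X).obj j)) := by
  haveI := isNoetherianObject_β F s hsN X j
  exact isNoetherianObject_of_mono (mS F G adj s X j)

include hsN in
theorem isNoetherianObject_aF (j : JJ F s X) :
    IsNoetherianObject ((aF F G adj s X).obj j) := by
  haveI := isNoetherianObject_F_aF F G adj s hsN X j
  exact isNoetherianObject_of_map F _

include hsN hsep adj in
theorem isNoetherianObject_map [IsNoetherianObject X] : IsNoetherianObject (F.obj X) := by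
  -- a maximal piece
  let S : Set (Subobject X) := Set.range fun j => Subobject.mk (iS F G adj s X j)
  have hne : S.Nonempty := ⟨_, ⟨⟨[]⟩, rfl⟩⟩
  obtain ⟨m, ⟨j₀, rfl⟩, hmax⟩ := (wellFounded_gt (α := Subobject X)).has_min S hne
  have hle : ∀ j, Subobject.mk (iS F G adj s X j) ≤ Subobject.mk (iS F G adj s X j₀) := by
    intro j
    obtain ⟨j', hj, hj₀⟩ := exists_ge_ge j j₀
    have h1 : Subobject.mk (iS F G adj s X j₀) ≤ Subobject.mk (iS F G adj s X j') :=
      Subobject.mk_le_mk_of_comm _ (iS_mono F G adj s X hj₀)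
    have h2 : Subobject.mk (iS F G adj s X j) ≤ Subobject.mk (iS F G adj s X j') :=
      Subobject.mk_le_mk_of_comm _ (iS_mono F G adj s X hj)
    have h3 : ¬ Subobject.mk (iS F G adj s X j') > Subobject.mk (iS F G adj s X j₀) :=
      hmax _ ⟨j', rfl⟩
    have h4 : Subobject.mk (iS F G adj s X j') = Subobject.mk (iS F G adj s X j₀) := by
      by_contra hne'
      exact h3 (lt_of_le_of_ne h1 (Ne.symm hne'))
    rw [← h4]
    exact h2
  have hepi : Epi (iS F G adj s X j₀) := by
    apply Preadditive.epi_of_cancel_zero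
    intro R g hg
    apply jointly_epi F G adj s hsep X
    intro j
    rw [← Subobject.ofMkLEMk_comp (hle j), Category.assoc, hg, comp_zero]
  have hiso : IsIso (iS F G adj s X j₀) := isIso_of_mono_of_epi _
  haveI := isNoetherianObject_F_aF F G adj s hsN X j₀
  exact isNoetherianObject_of_mono (F.map (inv (iS F G adj s X j₀)))

end Noeth

end Groth.Agent.Lib.Helper17.GrAdj
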