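import Mathlib

/-!
# Graded systems with commuting operators in an abelian category (helper17)

`Sys C r`: a sequence of objects `obj n` with `r` commuting operators `T i n : obj n ⟶ obj (n+1)`.
For a system with `r + 1` operators, the kernel, image and cokernel of the last operator are
systems with `r` operators, fitting in two short exact sequences, functorially.
-/

set_option autoImplicit false
universe v u
open CategoryTheory Limits

namespace Groth.Agent.Lib.Helper17.GrSys

/-- a graded system with `r` commuting operators of degree one. -/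
structure Sys (C : Type u) [Category.{v} C] (r : ℕ) where
  obj : ℕ → C
  T : Fin r → ∀ n : ℕ, obj n ⟶ obj (n + 1)
  comm : ∀ (i j : Fin r) (n : ℕ), T i n ≫ T j (n + 1) = T j n ≫ T i (n + 1)

section JE

variable {C : Type u} [Category.{v} C] [Preadditive C]

/-- a family of morphisms with common target is jointly epimorphic. -/
def JE {ι : Type*} {A : ι → C} {B : C} (f : ∀ i, A i ⟶ B) : Prop :=
  ∀ ⦃Z : C⦄ (g : B ⟶ Z), (∀ i, f i ≫ g = 0) → g = 0

theorem je_iff_epi_desc {ι : Type} [Finite ι] [HasFiniteBiproducts C] {A : ι → C} {B : C}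
    (f : ∀ i, A i ⟶ B) : JE f ↔ Epi (biproduct.desc f) := by
  constructor
  · intro h
    refine Preadditive.epi_of_cancel_zero _ (fun {Z} g hg => h g (fun i => ?_))
    rw [← biproduct.ι_desc f i, Category.assoc, hg, comp_zero]
  · intro h Z g hg
    haveI := h
    apply zero_of_epi_comp (biproduct.desc f)
    apply biproduct.hom_ext'
    intro i
    rw [biproduct.ι_desc_assoc, hg i, comp_zero]

end JE

variable {C : Type u} [Category.{v} C] [Abelian C] {r : ℕ}

namespace Sys

/-- finite type: the operators are jointly epimorphic in large degrees. -/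
def FT (F : Sys C r) : Prop := ∃ n₀ : ℕ, ∀ n, n₀ ≤ n → JE (fun i => F.T i n)

variable (F : Sys C (r + 1))

/-- the last operator. -/
abbrev L (n : ℕ) : F.obj n ⟶ F.obj (n + 1) := F.T (Fin.last r) n

/-- the remaining operators. -/
abbrev T' (i : Fin r) (n : ℕ) : F.obj n ⟶ F.obj (n + 1) := F.T i.castSucc n

theorem w (i : Fin r) (n : ℕ) : F.L n ≫ F.T' i (n + 1) = F.T' i n ≫ F.L (n + 1) :=
  F.comm _ _ n

/-- the kernel of the last operator. -/
noncomputable abbrev ker : Sys C r where
  obj n := kernel (F.L n)
  T i n := kernel.map (F.L n) (F.L (n + 1)) (F.T' i n) (F.T' i (n + 1)) (F.w i n)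
  comm i j n := by
    rw [← cancel_mono (kernel.ι _)]
    simp only [Category.assoc, kernel.lift_ι, kernel.lift_ι_assoc]
    rw [F.comm]

/-- the cokernel of the last operator (a quotient of `obj (n+1)`). -/
noncomputable abbrev coker : Sys C r where
  obj n := cokernel (F.L n)
  T i n := cokernel.map (F.L n) (F.L (n + 1)) (F.T' i n) (F.T' i (n + 1)) (F.w i n)
  comm i j n := by
    rw [← cancel_epi (cokernel.π _)]
    simp only [cokernel.π_desc_assoc, Category.assoc, cokernel.π_desc]
    rw [← Category.assoc, ← Category.assoc, F.comm]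

@[reassoc]
theorem π_cokerT (i : Fin r) (n : ℕ) :
    cokernel.π (F.L n) ≫ F.coker.T i n = F.T' i (n + 1) ≫ cokernel.π (F.L (n + 1)) :=
  cokernel.π_desc _ _ _

@[reassoc]
theorem kerT_ι (i : Fin r) (n : ℕ) :
    F.ker.T i n ≫ kernel.ι (F.L (n + 1)) = kernel.ι (F.L n) ≫ F.T' i n :=
  kernel.lift_ι _ _ _

/-- the image of the last operator (a subobject of `obj (n+1)`). -/
noncomputable abbrev im : Sys C r where
  obj n := Abelian.image (F.L n)
  T i n := kernel.map (cokernel.π (F.L n)) (cokernel.π (F.L (n + 1))) (F.T' i (n + 1))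
    (F.coker.T i n) (F.π_cokerT i n)
  comm i j n := by
    rw [← cancel_mono (kernel.ι _)]
    simp only [Category.assoc, kernel.lift_ι, kernel.lift_ι_assoc]
    rw [F.comm]

@[reassoc]
theorem imT_ι (i : Fin r) (n : ℕ) :
    F.im.T i n ≫ Abelian.image.ι (F.L (n + 1)) = Abelian.image.ι (F.L n) ≫ F.T' i (n + 1) :=
  kernel.lift_ι _ _ _

@[reassoc]
theorem factorThruImage_imT (i : Fin r) (n : ℕ) :
    Abelian.factorThruImage (F.L n) ≫ F.im.T i n =
      F.T' i n ≫ Abelian.factorThruImage (F.L (n + 1)) := by
  rw [← cancel_mono (Abelian.image.ι (F.L (n + 1))), Category.assoc, Category.assoc, F.imT_ι,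
    Abelian.image.fac, ← Category.assoc, Abelian.image.fac]
  exact F.w i n

/-- `0 → ker L → obj n → im L → 0`. -/
noncomputable abbrev ses1 (n : ℕ) : ShortComplex C :=
  ShortComplex.mk (kernel.ι (F.L n)) (Abelian.factorThruImage (F.L n)) (by
    rw [← cancel_mono (Abelian.image.ι (F.L n))]
    simp)

/-- `0 → im L → obj (n+1) → coker L → 0`. -/
noncomputable abbrev ses2 (n : ℕ) : ShortComplex C :=
  ShortComplex.mk (Abelian.image.ι (F.L n)) (cokernel.π (F.L n)) (kernel.condition _)

theorem ses2_shortExact (n : ℕ) : (F.ses2 n).ShortExact :=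
  { exact := ShortComplex.exact_of_f_is_kernel _ (kernelIsKernel (cokernel.π (F.L n)))
    mono_f := inferInstanceAs (Mono (Abelian.image.ι (F.L n)))
    epi_g := inferInstanceAs (Epi (cokernel.π (F.L n))) }

theorem ses1_shortExact (n : ℕ) : (F.ses1 n).ShortExact :=
  { exact := by
      refine ShortComplex.exact_of_f_is_kernel _ ?_
      refine KernelFork.IsLimit.ofι _ _
        (fun {W} (g : W ⟶ F.obj n) hg => kernel.lift (F.L n) g (by
          have hg' : g ≫ Abelian.factorThruImage (F.L n) = 0 := hg
          rw [← Abelian.image.fac (F.L n), ← Category.assoc, hg', zero_comp]))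
        (fun g hg => kernel.lift_ι _ _ _)
        (fun g hg m hm => by
          refine (cancel_mono (kernel.ι (F.L n))).1 ?_
          exact hm.trans (kernel.lift_ι _ _ _).symm)
    mono_f := inferInstanceAs (Mono (kernel.ι (F.L n)))
    epi_g := inferInstanceAs (Epi (Abelian.factorThruImage (F.L n))) }

/-- the operators as morphisms of the first short exact sequence. -/
noncomputable def ses1Map (i : Fin r) (n : ℕ) : F.ses1 n ⟶ F.ses1 (n + 1) where
  τ₁ := F.ker.T i n
  τ₂ := F.T' i n
  τ₃ := F.im.T i n
  comm₁₂ := F.kerT_ι i n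
  comm₂₃ := (F.factorThruImage_imT i n).symm

/-- the operators as morphisms of the second short exact sequence. -/
noncomputable def ses2Map (i : Fin r) (n : ℕ) : F.ses2 n ⟶ F.ses2 (n + 1) where
  τ₁ := F.im.T i n
  τ₂ := F.T' i (n + 1)
  τ₃ := F.coker.T i n
  comm₁₂ := F.imT_ι i n
  comm₂₃ := (F.π_cokerT i n).symm

/-- the cokernel system of a system of finite type is of finite type. -/
theorem coker_FT (h : F.FT) : F.coker.FT := by
  obtain ⟨n₀, hn₀⟩ := h
  refine ⟨n₀, fun n hn Z g hg => ?_⟩
  have hg' : ∀ i : Fin r, F.coker.T i n ≫ g = 0 := hg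
  have h1 : cokernel.π (F.L (n + 1)) ≫ g = 0 := by
    apply hn₀ (n + 1) (by omega)
    intro j
    change F.T j (n + 1) ≫ cokernel.π (F.L (n + 1)) ≫ g = 0
    refine Fin.lastCases ?_ (fun i => ?_) j
    · exact (cokernel.condition_assoc (F.L (n + 1)) g).trans zero_comp
    · have := F.π_cokerT_assoc i n g
      rw [hg' i, comp_zero] at this
      exact this.symm
  exact zero_of_epi_comp (cokernel.π (F.L (n + 1))) h1

end Sys

end Groth.Agent.Lib.Helper17.GrSys
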