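import Groth.Agent.Lib.Helper17HOne1
import Groth.Agent.Lib.Helper17Tot5
import Mathlib.Algebra.Homology.TotalComplex
import Mathlib.Algebra.Homology.ComplexShapeSigns

/-!
# First homology of the total complex of a first-quadrant double complex of modules (helper17)
-/

set_option autoImplicit false
set_option backward.isDefEq.respectTransparency false

universe v u

open CategoryTheory CategoryTheory.Limits

namespace Groth.Agent.Lib.Helper17.HOne

variable {R : Type u} [Ring R]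

local notation "𝕔" => ComplexShape.down ℕ

section Formulas

variable (K : HomologicalComplex₂ (ModuleCat.{v} R) 𝕔 𝕔) [K.HasTotal 𝕔]

lemma units_smul_smul {M : Type*} [AddCommGroup M] (ε : ℤˣ) (x : M) : ε • ε • x = x := by
  rw [smul_smul, Int.units_mul_self, one_smul]

lemma units_smul_eq_zero {M : Type*} [AddCommGroup M] (ε : ℤˣ) (x : M) (h : ε • x = 0) :
    x = 0 := by
  rw [← units_smul_smul ε x, h, smul_zero]

lemma sign_cancel {M : Type*} [AddCommGroup M] (e₁ e₂ : ℤˣ) (X : M) :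
    e₁ • X + e₂ • (-(e₂ * e₁)) • X = 0 := by
  rw [smul_smul, mul_neg, ← mul_assoc, Int.units_mul_self, one_mul, Units.neg_smul,
    add_neg_cancel]

lemma total_d_ι (p q n n' : ℕ) (h : ComplexShape.π 𝕔 𝕔 𝕔 (p, q) = n) (x : (K.X p).X q) :
    (K.total 𝕔).d n n' (K.ιTotal 𝕔 p q n h x) = K.d₁ 𝕔 p q n' x + K.d₂ 𝕔 p q n' x := by
  have : K.ιTotal 𝕔 p q n h ≫ (K.total 𝕔).d n n' = K.d₁ 𝕔 p q n' + K.d₂ 𝕔 p q n' := by
    rw [HomologicalComplex₂.total_d, Preadditive.comp_add, HomologicalComplex₂.ι_D₁,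
      HomologicalComplex₂.ι_D₂]
  exact congr($this x)

lemma d₁_zero (q n' : ℕ) : K.d₁ 𝕔 0 q n' = 0 := by
  apply HomologicalComplex₂.d₁_eq_zero
  intro h
  have : (𝕔).next 0 + 1 = 0 := h
  omega

lemma d₂_zero (p n' : ℕ) : K.d₂ 𝕔 p 0 n' = 0 := by
  apply HomologicalComplex₂.d₂_eq_zero
  intro h
  have : (𝕔).next 0 + 1 = 0 := h
  omega

lemma d₁_succ (p q n' : ℕ) (h' : ComplexShape.π 𝕔 𝕔 𝕔 (p, q) = n') (x : (K.X (p + 1)).X q) :
    K.d₁ 𝕔 (p + 1) q n' x = ComplexShape.ε₁ 𝕔 𝕔 𝕔 (p + 1, q) •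
      K.ιTotal 𝕔 p q n' h' ((K.d (p + 1) p).f q x) := by
  have := K.d₁_eq 𝕔 (i₁ := p + 1) (i₁' := p) rfl q n' h'
  exact congr($this x)

lemma d₂_succ (p q n' : ℕ) (h' : ComplexShape.π 𝕔 𝕔 𝕔 (p, q) = n') (x : (K.X p).X (q + 1)) :
    K.d₂ 𝕔 p (q + 1) n' x = ComplexShape.ε₂ 𝕔 𝕔 𝕔 (p, q + 1) •
      K.ιTotal 𝕔 p q n' h' ((K.X p).d (q + 1) q x) := by
  have := K.d₂_eq 𝕔 p (i₂ := q + 1) (i₂' := q) rfl n' h'
  exact congr($this x)

end Formulas

section Decomp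

variable (K : HomologicalComplex₂ (ModuleCat.{v} R) 𝕔 𝕔) [K.HasTotal 𝕔]

/-- an element of total degree one is a sum of its two components. -/
lemma decomp_one (t : (K.total 𝕔).X 1) : ∃ (a : (K.X 1).X 0) (b : (K.X 0).X 1),
    t = K.ιTotal 𝕔 1 0 1 rfl a + K.ιTotal 𝕔 0 1 1 rfl b := by
  let N : Submodule R ((K.total 𝕔).X 1) :=
    LinearMap.range (K.ιTotal 𝕔 1 0 1 rfl).hom ⊔ LinearMap.range (K.ιTotal 𝕔 0 1 1 rfl).hom
  have hN : ModuleCat.ofHom N.mkQ = 0 := by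
    apply HomologicalComplex₂.total.hom_ext
    intro p q hpq
    have hpq' : p + q = 1 := hpq
    rw [comp_zero]
    ext x
    obtain ⟨rfl, rfl⟩ | ⟨rfl, rfl⟩ : (p = 1 ∧ q = 0) ∨ (p = 0 ∧ q = 1) := by omega
    · change N.mkQ (K.ιTotal 𝕔 1 0 1 hpq x) = 0
      rw [Submodule.mkQ_apply, Submodule.Quotient.mk_eq_zero]
      exact Submodule.mem_sup_left ⟨x, rfl⟩
    · change N.mkQ (K.ιTotal 𝕔 0 1 1 hpq x) = 0
      rw [Submodule.mkQ_apply, Submodule.Quotient.mk_eq_zero]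
      exact Submodule.mem_sup_right ⟨x, rfl⟩
  have ht : t ∈ N := by
    have := congr($hN t)
    change N.mkQ t = 0 at this
    rwa [Submodule.mkQ_apply, Submodule.Quotient.mk_eq_zero] at this
  obtain ⟨_, ⟨a, rfl⟩, _, ⟨b, rfl⟩, rfl⟩ := Submodule.mem_sup.mp ht
  exact ⟨a, b, rfl⟩

/-- if the double complex is concentrated in inner degree `0`, the inclusion of the `(n, 0)`
summand is an isomorphism. -/
lemma isIso_ι_of_concentrated (hK : ∀ p q, q ≠ 0 → IsZero ((K.X p).X q)) (n : ℕ) :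
    IsIso (K.ιTotal 𝕔 n 0 n rfl) := by
  apply Tot.isIso_ιTotal
  intro p q hpq hne
  apply hK
  intro hq
  subst hq
  apply hne
  have : p + 0 = n := hpq
  exact ⟨by omega, rfl⟩

lemma bijective_ι_of_concentrated (hK : ∀ p q, q ≠ 0 → IsZero ((K.X p).X q)) (n : ℕ) :
    Function.Bijective (K.ιTotal 𝕔 n 0 n rfl) := by
  haveI := isIso_ι_of_concentrated K hK n
  exact (ConcreteCategory.isIso_iff_bijective _).mp inferInstance

/-- the inclusion of the `(0, 0)` summand is injective. -/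
lemma injective_ι_zero : Function.Injective (K.ιTotal 𝕔 0 0 0 rfl) := by
  haveI : IsIso (K.ιTotal 𝕔 0 0 0 rfl) := by
    apply Tot.isIso_ιTotal
    intro p q hpq hne
    exfalso
    apply hne
    have : p + q = 0 := hpq
    exact ⟨by omega, by omega⟩
  exact ((ConcreteCategory.isIso_iff_bijective _).mp inferInstance).1

end Decomp

section Main

variable {K L : HomologicalComplex₂ (ModuleCat.{v} R) 𝕔 𝕔} [K.HasTotal 𝕔] [L.HasTotal 𝕔]
  (φ : K ⟶ L)

lemma total_map_ι (p q n : ℕ) (h : ComplexShape.π 𝕔 𝕔 𝕔 (p, q) = n) (x : (K.X p).X q) :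
    (HomologicalComplex₂.total.map φ 𝕔).f n (K.ιTotal 𝕔 p q n h x) =
      L.ιTotal 𝕔 p q n h ((φ.f p).f q x) :=
  congr($(HomologicalComplex₂.ιTotal_map K L φ 𝕔 p q n h) x)

lemma φ_comm_h (p p' q : ℕ) (x : (K.X p).X q) :
    (φ.f p').f q ((K.d p p').f q x) = (L.d p p').f q ((φ.f p).f q x) := by
  have h1 : (K.d p p').f q ≫ (φ.f p').f q = (φ.f p).f q ≫ (L.d p p').f q := by
    rw [← HomologicalComplex.comp_f, ← HomologicalComplex.comp_f, φ.comm]
  exact congr($h1 x)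

lemma φ_comm_v (p q q' : ℕ) (x : (K.X p).X q) :
    (φ.f p).f q' ((K.X p).d q q' x) = (L.X p).d q q' ((φ.f p).f q x) :=
  congr($(((φ.f p).comm q q').symm) x)

/-- **Degree-one comparison**: a morphism from a first-quadrant double complex `K` to a double
complex `L` concentrated in inner degree zero, which is a cokernel of the inner differential in
every column, and such that the zeroth column of `K` is exact in inner degree one, induces a
quasi-isomorphism in total degree one. -/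
theorem quasiIsoAt_total_map_one
    (hL : ∀ p q, q ≠ 0 → IsZero ((L.X p).X q))
    (hsurj : ∀ p, Function.Surjective ((φ.f p).f 0))
    (hex : ∀ p, ∀ x : (K.X p).X 0, (φ.f p).f 0 x = 0 → ∃ y : (K.X p).X 1, (K.X p).d 1 0 y = x)
    (h0 : ∀ x : (K.X 0).X 1, (K.X 0).d 1 0 x = 0 → ∃ y : (K.X 0).X 2, (K.X 0).d 2 1 y = x) :
    QuasiIsoAt (HomologicalComplex₂.total.map φ 𝕔) 1 := by
  rw [quasiIsoAt_iff' _ 2 1 0 (by simp) (by simp)]
  have hLz : ∀ p q, q ≠ 0 → ∀ x : (L.X p).X q, x = 0 := by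
    intro p q hq x
    haveI := ModuleCat.subsingleton_of_isZero (hL p q hq)
    exact Subsingleton.elim _ _
  apply quasiIso_of_elements
  · intro x₂ hx₂
    change (L.total 𝕔).d 1 0 x₂ = 0 at hx₂
    obtain ⟨z, rfl⟩ := (bijective_ι_of_concentrated L hL 1).2 x₂
    rw [total_d_ι, d₂_zero, d₁_succ L 0 0 0 rfl] at hx₂
    simp only [ModuleCat.hom_zero, LinearMap.zero_apply, add_zero] at hx₂
    have hz : (L.d 1 0).f 0 z = 0 :=
      injective_ι_zero L (by rw [units_smul_eq_zero _ _ hx₂, map_zero])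
    obtain ⟨z', rfl⟩ := hsurj 1 z
    rw [← φ_comm_h] at hz
    obtain ⟨w₀, hw₀⟩ := hex 0 _ hz
    refine ⟨K.ιTotal 𝕔 1 0 1 rfl z' + K.ιTotal 𝕔 0 1 1 rfl
      ((-(ComplexShape.ε₂ 𝕔 𝕔 𝕔 (0, 0 + 1) * ComplexShape.ε₁ 𝕔 𝕔 𝕔 (0 + 1, 0))) • w₀), ?_, 0, ?_⟩
    · change (K.total 𝕔).d 1 0 _ = 0
      rw [map_add, total_d_ι, total_d_ι, d₂_zero, d₁_zero, d₁_succ K 0 0 0 rfl,
        d₂_succ K 0 0 0 rfl]
      simp only [ModuleCat.hom_zero, LinearMap.zero_apply, add_zero, zero_add]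
      rw [map_zsmul_unit, hw₀, map_zsmul_unit]
      exact sign_cancel _ _ _
    · change (HomologicalComplex₂.total.map φ 𝕔).f 1 _ = _
      rw [map_add, total_map_ι, total_map_ι, map_zero, add_zero,
        hLz 0 1 (by omega) ((φ.f 0).f 1 _), map_zero, add_zero]
  · rintro x₁ hx₁ ⟨s, hs⟩
    change (K.total 𝕔).d 1 0 x₁ = 0 at hx₁
    change (HomologicalComplex₂.total.map φ 𝕔).f 1 x₁ = (L.total 𝕔).d 2 1 s at hs
    change ∃ z : (K.total 𝕔).X 2, (K.total 𝕔).d 2 1 z = x₁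
    obtain ⟨a, b, rfl⟩ := decomp_one K x₁
    obtain ⟨y, rfl⟩ := (bijective_ι_of_concentrated L hL 2).2 s
    rw [map_add, total_map_ι, total_map_ι, hLz 0 1 (by omega) ((φ.f 0).f 1 _), map_zero,
      add_zero, total_d_ι, d₂_zero, d₁_succ L 1 0 1 rfl] at hs
    simp only [ModuleCat.hom_zero, LinearMap.zero_apply, add_zero] at hs
    rw [← map_zsmul_unit] at hs
    have ha := (bijective_ι_of_concentrated L hL 1).1 hs
    obtain ⟨y', rfl⟩ := hsurj 2 y
    rw [← φ_comm_h, ← map_zsmul_unit] at ha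
    have ha' : (φ.f 1).f 0 (a - ComplexShape.ε₁ 𝕔 𝕔 𝕔 (1 + 1, 0) • (K.d 2 1).f 0 y') = 0 := by
      rw [map_sub, ha, sub_self]
    obtain ⟨u, hu⟩ := hex 1 _ ha'
    set e₁ := ComplexShape.ε₁ 𝕔 𝕔 𝕔 (0 + 1, 0 + 1) with he₁
    set e₂ := ComplexShape.ε₂ 𝕔 𝕔 𝕔 (0 + 1, 0 + 1) with he₂
    set T := K.ιTotal 𝕔 2 0 2 rfl y' + K.ιTotal 𝕔 1 1 2 rfl (e₂ • u) with hTdef
    set c := (e₁ * e₂) • (K.d 1 0).f 1 u with hc
    have hT : (K.total 𝕔).d 2 1 T = K.ιTotal 𝕔 1 0 1 rfl a + K.ιTotal 𝕔 0 1 1 rfl c := by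
      rw [hTdef, map_add, total_d_ι, total_d_ι, d₂_zero, d₁_succ K 1 0 1 rfl,
        d₁_succ K 0 1 1 rfl, d₂_succ K 1 0 1 rfl]
      simp only [ModuleCat.hom_zero, LinearMap.zero_apply, add_zero]
      rw [map_zsmul_unit, map_zsmul_unit, map_zsmul_unit, map_zsmul_unit, hu, smul_smul,
        smul_smul, ← he₁, ← he₂, Int.units_mul_self, one_smul, hc, map_zsmul_unit, map_sub,
        map_zsmul_unit]
      abel
    have hb' : (K.X 0).d 1 0 (b - c) = 0 := by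
      have h2 : (K.total 𝕔).d 1 0 (K.ιTotal 𝕔 0 1 1 rfl (b - c)) = 0 := by
        have h3 : K.ιTotal 𝕔 0 1 1 rfl (b - c) =
            (K.ιTotal 𝕔 1 0 1 rfl a + K.ιTotal 𝕔 0 1 1 rfl b) - (K.total 𝕔).d 2 1 T := by
          rw [hT, map_sub]; abel
        have h4 : (K.total 𝕔).d 1 0 ((K.total 𝕔).d 2 1 T) = 0 :=
          congr($((K.total 𝕔).d_comp_d 2 1 0) T)
        rw [h3, map_sub, hx₁, h4, sub_zero]
      rw [total_d_ι, d₁_zero, d₂_succ K 0 0 0 rfl] at h2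
      simp only [ModuleCat.hom_zero, LinearMap.zero_apply, zero_add] at h2
      exact injective_ι_zero K (by rw [units_smul_eq_zero _ _ h2, map_zero])
    clear_value c T
    obtain ⟨v, hv⟩ := h0 _ hb'
    refine ⟨T + K.ιTotal 𝕔 0 2 2 rfl (ComplexShape.ε₂ 𝕔 𝕔 𝕔 (0, 1 + 1) • v), ?_⟩
    rw [map_add, hT, total_d_ι, d₁_zero, d₂_succ K 0 1 1 rfl]
    simp only [ModuleCat.hom_zero, LinearMap.zero_apply, zero_add]
    have hv' : (K.X 0).d (1 + 1) 1 v = b - c := hv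
    rw [map_zsmul_unit, map_zsmul_unit, units_smul_smul, hv', map_sub]
    abel

end Main

end Groth.Agent.Lib.Helper17.HOne
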