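import Groth.Agent.Lib.Helper17HOne2
import Mathlib.Algebra.Homology.Monoidal
import Mathlib.Algebra.Category.ModuleCat.Monoidal.Basic
import Mathlib.Algebra.Category.ModuleCat.Projective
import Mathlib.CategoryTheory.Preadditive.Projective.Resolution
import Mathlib.RingTheory.Flat.Basic
import Mathlib.LinearAlgebra.TensorProduct.RightExactness

/-!
# `H₁(C ⊗ P) ≅ H₁(C ⊗ G[0])` for a projective resolution `P → G[0]` when `C₀` is flat (helper17)
-/

set_option autoImplicit false
set_option backward.isDefEq.respectTransparency false

universe v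

open CategoryTheory CategoryTheory.Limits MonoidalCategory

namespace Groth.Agent.Lib.Helper17.HOne

variable (R : Type v) [CommRing R]

local notation "𝕔" => ComplexShape.down ℕ

section Resolution

variable {R}
variable (P : ChainComplex (ModuleCat.{v} R) ℕ) (G : ModuleCat.{v} R)
  [∀ q, Module.Projective R (P.X q)]
  (π : P ⟶ (ChainComplex.single₀ (ModuleCat.{v} R)).obj G) [QuasiIso π]

/-- the projective resolution attached to the data. -/
noncomputable def projRes : ProjectiveResolution G where
  complex := P
  projective n := by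
    have : Module.Projective R (ModuleCat.of R (P.X n)) := inferInstanceAs (Module.Projective R (P.X n))
    exact (IsProjective.iff_projective (R := R) (P := P.X n)).mp inferInstance
  π := π

lemma surjective_π_zero : Function.Surjective (π.f 0) := by
  haveI : Epi (π.f 0) := inferInstanceAs (Epi ((projRes P G π).π.f 0))
  exact (ModuleCat.epi_iff_surjective _).mp inferInstance

lemma exact_zero : Function.Exact (P.d 1 0) (π.f 0) := by
  have h : (ShortComplex.mk _ _ (projRes P G π).complex_d_comp_π_f_zero).Exact :=
    ShortComplex.exact_of_g_is_cokernel _ (projRes P G π).isColimitCokernelCofork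
  rw [ShortComplex.moduleCat_exact_iff] at h
  intro y
  constructor
  · intro hy
    obtain ⟨x, hx⟩ := h y hy
    exact ⟨x, hx⟩
  · rintro ⟨x, rfl⟩
    exact congr($((projRes P G π).complex_d_comp_π_f_zero) x)

include π in
lemma exact_one : Function.Exact (P.d 2 1) (P.d 1 0) := by
  have h := (projRes P G π).exact_succ 0
  rw [ShortComplex.moduleCat_exact_iff] at h
  intro y
  constructor
  · intro hy
    obtain ⟨x, hx⟩ := h y hy
    exact ⟨x, hx⟩
  · rintro ⟨x, rfl⟩
    exact congr($(P.d_comp_d 2 1 0) x)

end Resolution

section Main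

variable (C P : ChainComplex (ModuleCat.{v} R) ℕ) (G : ModuleCat.{v} R)
  [Module.Flat R (C.X 0)] [∀ q, Module.Projective R (P.X q)]
  (π : P ⟶ (ChainComplex.single₀ (ModuleCat.{v} R)).obj G) [QuasiIso π]

theorem isIso_homologyMap_whiskerLeft_one :
    IsIso (HomologicalComplex.homologyMap (C ◁ π) 1) := by
  rw [← quasiIsoAt_iff_isIso_homologyMap]
  have : C ◁ π = HomologicalComplex.mapBifunctorMap (𝟙 C) π (curriedTensor _) 𝕔 := rfl
  rw [this]
  unfold HomologicalComplex.mapBifunctorMap
  apply quasiIsoAt_total_map_one
  · intro p q hq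
    change IsZero ((tensorLeft (C.X p)).obj (((ChainComplex.single₀ (ModuleCat.{v} R)).obj G).X q))
    exact Functor.map_isZero _ (HomologicalComplex.isZero_single_obj_X 𝕔 0 G q hq)
  · intro p
    change Function.Surjective ((𝟙 (C.X p)) ▷ P.X 0 ≫ C.X p ◁ π.f 0)
    rw [id_whiskerRight, Category.id_comp]
    exact LinearMap.lTensor_surjective _ (surjective_π_zero P G π)
  · intro p x hx
    change ((𝟙 (C.X p)) ▷ P.X 0 ≫ C.X p ◁ π.f 0) x = 0 at hx
    rw [id_whiskerRight, Category.id_comp] at hx
    have hex := lTensor_exact (C.X p) (exact_zero P G π) (surjective_π_zero P G π)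
    exact (hex x).mp hx
  · intro x hx
    have hex := Module.Flat.lTensor_exact (C.X 0) (exact_one P G π)
    exact (hex x).mp hx

end Main

end Groth.Agent.Lib.Helper17.HOne
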