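import Groth.Agent.Lib.Helper17Brutal1
import Mathlib.CategoryTheory.Functor.OfSequence
import Mathlib.Algebra.Homology.HomologicalComplexLimits

/-!
# Eventually constant sequences and the exhaustion of a complex by its brutal truncations
(helper17)

* `Seq.isColimitOfIsIsoι` : a cocone over `ℕ ⥤ C` whose legs are eventually isomorphisms is a
  colimit cocone;
* `Seq.isIso_ι_of_isColimit` : if the transition maps of `G : ℕ ⥤ C` are isomorphisms from `N` on,
  then the legs of any colimit cocone are isomorphisms from `N` on;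
* `Brutal.seq K : ℕ ⥤ CochainComplex A ℤ`, `n ↦ σ_{≥ -n} K`, and the colimit cocone
  `Brutal.seqCocone K` with point `K`.
-/

set_option autoImplicit false

universe v u

open CategoryTheory CategoryTheory.Limits

namespace Groth.Agent.Lib.Helper17.Seq

variable {C : Type u} [Category.{v} C] (G : ℕ ⥤ C)

/-- a cocone over `ℕ ⥤ C` whose legs are eventually isomorphisms is a colimit cocone -/
noncomputable def isColimitOfIsIsoι (c : Cocone G) (N : ℕ) (h : ∀ n, N ≤ n → IsIso (c.ι.app n)) :
    IsColimit c := by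
  haveI : IsIso (c.ι.app N) := h N le_rfl
  have key : ∀ (s : Cocone G) (m : ℕ) (hm : N ≤ m),
      haveI : IsIso (c.ι.app m) := h m hm
      inv (c.ι.app N) ≫ s.ι.app N = inv (c.ι.app m) ≫ s.ι.app m := by
    intro s m hm
    haveI : IsIso (c.ι.app m) := h m hm
    rw [← cancel_epi (c.ι.app N), IsIso.hom_inv_id_assoc]
    have h1 : c.ι.app N = G.map (homOfLE hm) ≫ c.ι.app m := (c.w (homOfLE hm)).symm
    have h2 : s.ι.app N = G.map (homOfLE hm) ≫ s.ι.app m := (s.w (homOfLE hm)).symm
    rw [h1, Category.assoc, IsIso.hom_inv_id_assoc, h2]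
  exact
    { desc := fun s => inv (c.ι.app N) ≫ s.ι.app N
      fac := fun s n => by
        have hm : N ≤ max n N := le_max_right _ _
        have hn : n ≤ max n N := le_max_left _ _
        haveI : IsIso (c.ι.app (max n N)) := h _ hm
        rw [key s _ hm, ← c.w (homOfLE hn), Category.assoc, IsIso.hom_inv_id_assoc, s.w]
      uniq := fun s m hm => by
        rw [← hm N, IsIso.inv_hom_id_assoc] }

variable {G}

/-- if the transition maps of `G` are isomorphisms from `N` on, so are all the maps
`G n ⟶ G m` for `N ≤ n ≤ m`. -/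
lemma isIso_map_of_isIso_succ (N : ℕ)
    (h : ∀ n, N ≤ n → IsIso (G.map (homOfLE (Nat.le_add_right n 1))))
    {n m : ℕ} (hn : N ≤ n) (hnm : n ≤ m) : IsIso (G.map (homOfLE hnm)) := by
  induction m, hnm using Nat.le_induction with
  | base =>
    have : homOfLE (le_refl n) = 𝟙 n := Subsingleton.elim _ _
    rw [this, G.map_id]; infer_instance
  | succ m hm ih =>
    haveI := ih
    haveI := h m (hn.trans hm)
    have : homOfLE (hm.trans (Nat.le_add_right m 1)) =
        homOfLE hm ≫ homOfLE (Nat.le_add_right m 1) := Subsingleton.elim _ _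
    rw [this, G.map_comp]; infer_instance

variable (G)

/-- the cocone with point `G N` for a sequence which is constant from `N` on. -/
noncomputable def coconeOfIsIso (N : ℕ)
    (h : ∀ n, N ≤ n → IsIso (G.map (homOfLE (Nat.le_add_right n 1)))) : Cocone G where
  pt := G.obj N
  ι :=
    { app := fun n =>
        if hn : n ≤ N then G.map (homOfLE hn) else
          haveI := isIso_map_of_isIso_succ N h le_rfl (le_of_not_ge hn)
          inv (G.map (homOfLE (le_of_not_ge hn)))
      naturality := fun n m φ => by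
        have hnm : n ≤ m := leOfHom φ
        obtain rfl : φ = homOfLE hnm := Subsingleton.elim _ _
        dsimp
        rw [Category.comp_id]
        by_cases hm : m ≤ N
        · rw [dif_pos hm, dif_pos (hnm.trans hm), ← G.map_comp]
          rfl
        · haveI := isIso_map_of_isIso_succ N h le_rfl (le_of_not_ge hm)
          rw [dif_neg hm]
          by_cases hn : n ≤ N
          · rw [dif_pos hn, IsIso.comp_inv_eq, ← G.map_comp]
            rfl
          · haveI := isIso_map_of_isIso_succ N h le_rfl (le_of_not_ge hn)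
            rw [dif_neg hn, IsIso.comp_inv_eq, IsIso.eq_inv_comp, ← G.map_comp]
            rfl }

lemma coconeOfIsIso_ι_app_of_le (N : ℕ)
    (h : ∀ n, N ≤ n → IsIso (G.map (homOfLE (Nat.le_add_right n 1)))) {n : ℕ} (hn : n ≤ N) :
    (coconeOfIsIso G N h).ι.app n = G.map (homOfLE hn) := dif_pos hn

lemma isIso_coconeOfIsIso_ι_app (N : ℕ)
    (h : ∀ n, N ≤ n → IsIso (G.map (homOfLE (Nat.le_add_right n 1)))) {n : ℕ} (hn : N ≤ n) :
    IsIso ((coconeOfIsIso G N h).ι.app n) := by
  by_cases hn' : n ≤ N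
  · obtain rfl : n = N := le_antisymm hn' hn
    rw [coconeOfIsIso_ι_app_of_le G n h le_rfl]
    have : homOfLE (le_refl n) = 𝟙 n := Subsingleton.elim _ _
    rw [this, G.map_id]; exact (inferInstance : IsIso (𝟙 (G.obj n)))
  · haveI := isIso_map_of_isIso_succ N h le_rfl (le_of_not_ge hn')
    have : (coconeOfIsIso G N h).ι.app n = inv (G.map (homOfLE (le_of_not_ge hn'))) :=
      dif_neg hn'
    rw [this]; exact (inferInstance : IsIso (inv (G.map (homOfLE (le_of_not_ge hn')))))

/-- if the transition maps of `G : ℕ ⥤ C` are isomorphisms from `N` on, then the legs of any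
colimit cocone are isomorphisms from `N` on. -/
theorem isIso_ι_of_isColimit (N : ℕ)
    (h : ∀ n, N ≤ n → IsIso (G.map (homOfLE (Nat.le_add_right n 1))))
    (c : Cocone G) (hc : IsColimit c) {n : ℕ} (hn : N ≤ n) : IsIso (c.ι.app n) := by
  have hc' : IsColimit (coconeOfIsIso G N h) :=
    isColimitOfIsIsoι G _ N (fun n hn => isIso_coconeOfIsIso_ι_app G N h hn)
  have h1 := IsColimit.comp_coconePointUniqueUpToIso_hom hc' hc n
  haveI := isIso_coconeOfIsIso_ι_app G N h hn
  rw [← h1]; infer_instance

end Groth.Agent.Lib.Helper17.Seq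

namespace Groth.Agent.Lib.Helper17.Brutal

open HomologicalComplex

variable {A : Type u} [Category.{v} A] [Abelian A] (K : CochainComplex A ℤ)

/-- the inclusion `σ_{≥ m} K ⟶ σ_{≥ m'} K` for `m' ≤ m`, in degree `q`. -/
noncomputable def sigmaGEMapF {m m' : ℤ} (h : m' ≤ m) (q : ℤ) :
    (sigmaGE K m).X q ⟶ (sigmaGE K m').X q :=
  kernel.lift (te K m' q) ((sigmaGEι K m).f q) (by
    by_cases hq : m' ≤ q
    · exact (congrArg (fun t => (sigmaGEι K m).f q ≫ t) (te_of_le K m' hq)).trans comp_zero
    · exact (congrArg (fun t => t ≫ te K m' q) (kernel_ι_te_of_lt K m (by omega))).trans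
        zero_comp)

@[reassoc]
lemma sigmaGEMapF_ι {m m' : ℤ} (h : m' ≤ m) (q : ℤ) :
    sigmaGEMapF K h q ≫ (sigmaGEι K m').f q = (sigmaGEι K m).f q :=
  kernel.lift_ι _ _ _

instance mono_sigmaGEι_f (m q : ℤ) : Mono ((sigmaGEι K m).f q) :=
  inferInstanceAs (Mono (kernel.ι (te K m q)))

/-- the inclusion `σ_{≥ m} K ⟶ σ_{≥ m'} K` for `m' ≤ m`. -/
noncomputable def sigmaGEMap {m m' : ℤ} (h : m' ≤ m) : sigmaGE K m ⟶ sigmaGE K m' where
  f q := sigmaGEMapF K h q
  comm' q q' _ := by
    rw [← cancel_mono ((sigmaGEι K m').f q'), Category.assoc, Category.assoc,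
      sigmaGEMapF_ι, ← (sigmaGEι K m').comm q q', sigmaGEMapF_ι_assoc]
    exact (sigmaGEι K m).comm q q'

@[reassoc (attr := simp)]
lemma sigmaGEMap_ι {m m' : ℤ} (h : m' ≤ m) : sigmaGEMap K h ≫ sigmaGEι K m' = sigmaGEι K m := by
  ext q
  exact sigmaGEMapF_ι K h q

/-- the sequence `n ↦ σ_{≥ -n} K`. -/
noncomputable def seq : ℕ ⥤ CochainComplex A ℤ :=
  Functor.ofSequence (X := fun n : ℕ => sigmaGE K (-(n : ℤ)))
    (fun n => sigmaGEMap K (by push_cast; omega))

lemma seq_obj (n : ℕ) : (seq K).obj n = sigmaGE K (-(n : ℤ)) := rfl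

/-- the cocone `σ_{≥ -n} K ⟶ K`. -/
noncomputable def seqCocone : Cocone (seq K) where
  pt := K
  ι := NatTrans.ofSequence (fun n => sigmaGEι K (-(n : ℤ))) (fun n => by
    dsimp [seq]
    rw [Functor.ofSequence_map_homOfLE_succ, Category.comp_id]
    exact sigmaGEMap_ι K _)

lemma seqCocone_ι_app (n : ℕ) : (seqCocone K).ι.app n = sigmaGEι K (-(n : ℤ)) := rfl

/-- `K` is the colimit of its brutal truncations. -/
noncomputable def isColimitSeqCocone : IsColimit (seqCocone K) :=
  HomologicalComplex.isColimitOfEval _ _ (fun q =>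
    Seq.isColimitOfIsIsoι _ _ (-q).toNat (fun n hn => by
      have : -(n : ℤ) ≤ q := by omega
      exact isIso_sigmaGEι_f K _ this))

end Groth.Agent.Lib.Helper17.Brutal
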