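import Groth.Agent.S0985
import Groth.Agent.S1034
import Groth.Agent.Lib.Helper17AcycPush1
import Groth.Agent.Lib.Helper21DCoprod
import Groth.Agent.Lib.Helper13HomologyColim
import Groth.Agent.Lib.Helper17HocolimUnit1

/-!
# Complexes of acyclic objects compute `RF` when `RF` preserves countable direct sums (helper17)

`A` Grothendieck abelian, `F : A ⥤ Ab` left exact, `RF` the total right derived functor on the
unbounded derived category.  If `RF` preserves countable coproducts, then for every complex `K`
of `F`-acyclic objects the unit `F(K) ⟶ RF(K)` is an isomorphism: `K` is the homotopy colimit of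
its brutal truncations `σ_{≥ -n} K`, on which the unit is an isomorphism by Leray's lemma.
-/

set_option autoImplicit false

universe w w' v u

open CategoryTheory CategoryTheory.Limits CategoryTheory.Pretriangulated

namespace Groth.Agent.Lib.Helper17.HocolimUnit

open Groth.Agent.Lib.Helper17.Brutal

section General

variable {D : Type*} [Category D] [Preadditive D] [HasZeroObject D] [HasShift D ℤ]
  [∀ n : ℤ, (shiftFunctor D n).Additive] [Pretriangulated D]

/-- homotopy colimits are stable under isomorphisms of the cone point. -/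
lemma isHocolim_of_iso (X : ℕ → D) (f : ∀ n, X n ⟶ X (n + 1)) [HasCoproduct X] {L L' : D}
    (i : ∀ n, X n ⟶ L) (i' : ∀ n, X n ⟶ L') (e : L ≅ L') (he : ∀ n, i n ≫ e.hom = i' n)
    (h : DerLim.IsHocolim X f L i) : DerLim.IsHocolim X f L' i' := by
  obtain ⟨c, hc⟩ := h
  refine ⟨e.inv ≫ c, isomorphic_distinguished _ hc _
    (Triangle.isoMk _ _ (Iso.refl _) (Iso.refl _) e.symm ?_ ?_ ?_)⟩
  · change (𝟙 (∐ X) - DerLim.shiftMap X f) ≫ 𝟙 _ = 𝟙 _ ≫ (𝟙 (∐ X) - DerLim.shiftMap X f)
    rw [Category.comp_id, Category.id_comp]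
  · change Sigma.desc i' ≫ e.inv = 𝟙 _ ≫ Sigma.desc i
    rw [Category.id_comp]
    apply Sigma.hom_ext
    intro n
    rw [Sigma.ι_desc_assoc, Sigma.ι_desc, ← he n, Category.assoc, e.hom_inv_id, Category.comp_id]
  · change (e.inv ≫ c) ≫ (shiftFunctor D (1 : ℤ)).map (𝟙 _) = e.inv ≫ c
    rw [CategoryTheory.Functor.map_id, Category.comp_id]

end General

section Homology

variable (B : Type*) [Category B] [Abelian B] [HasDerivedCategory.{w'} B]
  (J : Type*) [HasColimitsOfShape (Discrete J) B] [HasExactColimitsOfShape (Discrete J) B]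

/-- the cohomology functors on `D(B)` commute with exact coproducts. -/
lemma preservesColimitsOfShape_homologyFunctor (i : ℤ) :
    PreservesColimitsOfShape (Discrete J) (DerivedCategory.homologyFunctor B i) := by
  constructor
  intro K'
  let Kc : J → CochainComplex B ℤ := fun j => DerivedCategory.Q.objPreimage (K'.obj ⟨j⟩)
  let e : ∀ j, DerivedCategory.Q.obj (Kc j) ≅ K'.obj ⟨j⟩ := fun j =>
    DerivedCategory.Q.objObjPreimageIso (K'.obj ⟨j⟩)
  have hc : IsColimit (Cofan.mk (∐ Kc) (Sigma.ι Kc)) := coproductIsCoproduct Kc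
  have hQ := Groth.Agent.Lib.Helper21.DCoprod.isColimitQMapCofan (Sigma.ι Kc) hc
  haveI : PreservesColimitsOfShape (Discrete J)
      (DerivedCategory.Q ⋙ DerivedCategory.homologyFunctor B i) :=
    preservesColimitsOfShape_of_natIso (DerivedCategory.homologyFunctorFactors B i).symm
  have h1 := isColimitOfPreserves (DerivedCategory.Q ⋙ DerivedCategory.homologyFunctor B i) hc
  have h2 : IsColimit ((DerivedCategory.homologyFunctor B i).mapCocone
      (Cofan.mk (DerivedCategory.Q.obj (∐ Kc)) (fun j => DerivedCategory.Q.map (Sigma.ι Kc j)))) :=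
    (isColimitMapCoconeCofanMkEquiv (DerivedCategory.homologyFunctor B i)
      (fun j => DerivedCategory.Q.obj (Kc j)) (fun j => DerivedCategory.Q.map (Sigma.ι Kc j))).symm
      ((isColimitMapCoconeCofanMkEquiv
        (DerivedCategory.Q ⋙ DerivedCategory.homologyFunctor B i) Kc (Sigma.ι Kc)) h1)
  haveI : PreservesColimit (Discrete.functor (fun j => DerivedCategory.Q.obj (Kc j)))
      (DerivedCategory.homologyFunctor B i) :=
    preservesColimit_of_preserves_colimit_cocone hQ h2
  exact preservesColimit_of_iso_diagram _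
    (Discrete.natIso (fun ⟨j⟩ => e j) :
      Discrete.functor (fun j => DerivedCategory.Q.obj (Kc j)) ≅ K')

end Homology

variable {A : Type u} [Category.{v} A] [Abelian A] [IsGrothendieckAbelian.{v} A]
  [HasDerivedCategory.{w} A]

lemma hasExactColimitsOfShape_nat : HasExactColimitsOfShape ℕ A := by
  haveI : HasFilteredColimitsOfSize.{0, 0} A := hasFilteredColimitsOfSize_of_univLE.{0, 0, v, v}
  haveI : AB5OfSize.{0, 0} A := AB5OfSize_of_univLE.{0, 0, v, v} A
  infer_instance

section Hocolim

variable [HasColimitsOfShape (Discrete ℕ) (DerivedCategory A)] (K : CochainComplex A ℤ)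

/-- `K` is the homotopy colimit in `D(A)` of its brutal truncations `σ_{≥ -n} K`. -/
theorem isHocolim_seq :
    DerLim.IsHocolim (fun n => DerivedCategory.Q.obj ((seq K).obj n))
      (fun n => DerivedCategory.Q.map ((seq K).map (homOfLE (Nat.le_succ n))))
      (DerivedCategory.Q.obj K) (fun n => DerivedCategory.Q.map (sigmaGEι K (-(n : ℤ)))) := by
  haveI : HasExactColimitsOfShape ℕ A := hasExactColimitsOfShape_nat
  haveI : PreservesColimit (Discrete.functor (seq K).obj)
      (DerivedCategory.Q : CochainComplex A ℤ ⥤ DerivedCategory A) := by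
    have hc : IsColimit (Cofan.mk (∐ (seq K).obj) (Sigma.ι (seq K).obj)) :=
      coproductIsCoproduct (seq K).obj
    exact preservesColimit_of_preserves_colimit_cocone hc
      ((isColimitMapCoconeCofanMkEquiv _ _ _).symm
        (Groth.Agent.Lib.Helper21.DCoprod.isColimitQMapCofan (Sigma.ι (seq K).obj) hc))
  have h := Groth.Agent.S0985.result (seq K)
  let e : colimit (seq K) ≅ K :=
    (colimit.isColimit (seq K)).coconePointUniqueUpToIso (isColimitSeqCocone K)
  refine isHocolim_of_iso _ _ _ _ (DerivedCategory.Q.mapIso e) (fun n => ?_) h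
  dsimp
  rw [← DerivedCategory.Q.map_comp]
  congr 1
  exact IsColimit.comp_coconePointUniqueUpToIso_hom (colimit.isColimit (seq K))
    (isColimitSeqCocone K) n

end Hocolim

end Groth.Agent.Lib.Helper17.HocolimUnit
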