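import Groth.Agent.Lib.Helper17HocolimUnit2
import Groth.Prelude.Def_RDerDelta

/-!
# Complexes of acyclic objects compute `RF` when `RF` preserves countable direct sums: main theorem
(helper17)
-/

set_option autoImplicit false

universe w w' v u

open CategoryTheory CategoryTheory.Limits CategoryTheory.Pretriangulated

namespace Groth.Agent.Lib.Helper17.HocolimUnit

open Groth.Agent.Lib.Helper17.Brutal HomologicalComplex

variable {A : Type u} [Category.{v} A] [Abelian A] [IsGrothendieckAbelian.{v} A]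
  [HasDerivedCategory.{w} A] [HasDerivedCategory.{w'} AddCommGrpCat.{v}]
  (F : A ⥤ AddCommGrpCat.{v}) [F.Additive]

section Stage

variable (K : CochainComplex A ℤ)

/-- the terms of the brutal truncations of a complex of acyclic objects are acyclic. -/
lemma isZero_rightDerived_sigmaGE_X
    (hK : ∀ (m : ℤ) (i : ℕ), 0 < i → IsZero ((F.rightDerived i).obj (K.X m))) (k : ℤ)
    (m : ℤ) (i : ℕ) (hi : 0 < i) : IsZero ((F.rightDerived i).obj ((sigmaGE K k).X m)) := by
  by_cases hm : k ≤ m
  · exact (hK m i hi).of_iso ((F.rightDerived i).mapIso (sigmaGEXIso K k hm))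
  · exact (F.rightDerived i).map_isZero (isZero_sigmaGE_X K k (by omega))

/-- `F(σ_{≥ k} K) ⟶ F(K)` is an isomorphism on `H^i` for `i > k`. -/
lemma isIso_homologyMap_map_sigmaGEι (k i : ℤ) (hi : k < i) :
    IsIso (homologyMap ((F.mapHomologicalComplex (ComplexShape.up ℤ)).map (sigmaGEι K k)) i) :=
  isIso_homologyMap_of_isIso_f _ k i hi (fun q hq => by
    haveI := isIso_sigmaGEι_f K k hq
    exact inferInstanceAs (IsIso (F.map ((sigmaGEι K k).f q))))

end Stage

section Main

variable [PreservesFiniteLimits F]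
  (RΦ : DerivedCategory A ⥤ DerivedCategory AddCommGrpCat.{v})
  (α : (F.mapHomotopyCategory (ComplexShape.up ℤ) ⋙ DerivedCategory.Qh) ⟶
    DerivedCategory.Qh ⋙ RΦ)
  [RΦ.IsRightDerivedFunctor α (HomotopyCategory.quasiIso A (ComplexShape.up ℤ))]
  [HasColimitsOfShape (Discrete ℕ) (DerivedCategory A)]
  [PreservesColimitsOfShape (Discrete ℕ) RΦ]

/-- `H^i` of `(F.mapHomotopyCategory ⋙ Qh).map (quotient.map g)` is `H^i(F g)`. -/
lemma isIso_homology_Φ_map_iff {K L : CochainComplex A ℤ} (g : K ⟶ L) (i : ℤ) :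
    IsIso ((DerivedCategory.homologyFunctor AddCommGrpCat.{v} i).map
      ((F.mapHomotopyCategory (ComplexShape.up ℤ) ⋙ DerivedCategory.Qh).map
        ((HomotopyCategory.quotient A (ComplexShape.up ℤ)).map g))) ↔
    IsIso (homologyMap ((F.mapHomologicalComplex (ComplexShape.up ℤ)).map g) i) :=
  NatIso.isIso_map_iff (DerivedCategory.homologyFunctorFactors AddCommGrpCat.{v} i)
    ((F.mapHomologicalComplex (ComplexShape.up ℤ)).map g)

/-- two out of three for `H^i(F -)`. -/
lemma isIso_homologyMap_map_of_comp {K₁ K₂ K₃ : CochainComplex A ℤ} (g : K₁ ⟶ K₂) (h : K₂ ⟶ K₃)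
    (gh : K₁ ⟶ K₃) (hgh : g ≫ h = gh) (i : ℤ)
    (h1 : IsIso (homologyMap ((F.mapHomologicalComplex (ComplexShape.up ℤ)).map gh) i))
    (h2 : IsIso (homologyMap ((F.mapHomologicalComplex (ComplexShape.up ℤ)).map h) i)) :
    IsIso (homologyMap ((F.mapHomologicalComplex (ComplexShape.up ℤ)).map g) i) := by
  subst hgh
  haveI := h2
  haveI : IsIso (homologyMap ((F.mapHomologicalComplex (ComplexShape.up ℤ)).map g) i ≫
      homologyMap ((F.mapHomologicalComplex (ComplexShape.up ℤ)).map h) i) := by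
    rw [← homologyMap_comp, ← Functor.map_comp]; exact h1
  exact IsIso.of_isIso_comp_right _
    (homologyMap ((F.mapHomologicalComplex (ComplexShape.up ℤ)).map h) i)

/-- naturality of the unit, on `H^i`. -/
lemma homology_unit_naturality {K₁ K₂ : CochainComplex A ℤ} (g : K₁ ⟶ K₂) (i : ℤ) :
    (DerivedCategory.homologyFunctor AddCommGrpCat.{v} i).map
      ((F.mapHomotopyCategory (ComplexShape.up ℤ) ⋙ DerivedCategory.Qh).map
        ((HomotopyCategory.quotient A (ComplexShape.up ℤ)).map g)) ≫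
    (DerivedCategory.homologyFunctor AddCommGrpCat.{v} i).map
      (α.app ((HomotopyCategory.quotient A (ComplexShape.up ℤ)).obj K₂)) =
    (DerivedCategory.homologyFunctor AddCommGrpCat.{v} i).map
      (α.app ((HomotopyCategory.quotient A (ComplexShape.up ℤ)).obj K₁)) ≫
    (RΦ ⋙ DerivedCategory.homologyFunctor AddCommGrpCat.{v} i).map (DerivedCategory.Q.map g) := by
  have h := α.naturality ((HomotopyCategory.quotient A (ComplexShape.up ℤ)).map g)
  rw [← Functor.map_comp, h, Functor.map_comp]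
  rfl

/-- if the unit is an isomorphism at `K₁` and `K₂` and `F g` is an isomorphism on `H^i`, then
`RF(g)` is an isomorphism on `H^i`. -/
lemma isIso_Hi_map {K₁ K₂ : CochainComplex A ℤ} (g : K₁ ⟶ K₂) (i : ℤ)
    (h1 : IsIso (α.app ((HomotopyCategory.quotient A (ComplexShape.up ℤ)).obj K₁)))
    (h2 : IsIso (α.app ((HomotopyCategory.quotient A (ComplexShape.up ℤ)).obj K₂)))
    (hg : IsIso (homologyMap ((F.mapHomologicalComplex (ComplexShape.up ℤ)).map g) i)) :
    IsIso ((RΦ ⋙ DerivedCategory.homologyFunctor AddCommGrpCat.{v} i).map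
      (DerivedCategory.Q.map g)) := by
  have h := homology_unit_naturality F RΦ α g i
  have hA := (isIso_homology_Φ_map_iff F g i).2 hg
  have hB : IsIso ((DerivedCategory.homologyFunctor AddCommGrpCat.{v} i).map
      (α.app ((HomotopyCategory.quotient A (ComplexShape.up ℤ)).obj K₂))) :=
    @Functor.map_isIso _ _ _ _ _ _ _ _ h2
  have hC : IsIso ((DerivedCategory.homologyFunctor AddCommGrpCat.{v} i).map
      (α.app ((HomotopyCategory.quotient A (ComplexShape.up ℤ)).obj K₁))) :=
    @Functor.map_isIso _ _ _ _ _ _ _ _ h1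
  have hAB := @IsIso.comp_isIso _ _ _ _ _ _ _ hA hB
  rw [h] at hAB
  exact @IsIso.of_isIso_comp_left _ _ _ _ _ _ _ hC hAB

/-- if the unit is an isomorphism at `K₁`, and `F g`, `RF g` are isomorphisms on `H^i`, then the
unit at `K₂` is an isomorphism on `H^i`. -/
lemma isIso_homology_unit {K₁ K₂ : CochainComplex A ℤ} (g : K₁ ⟶ K₂) (i : ℤ)
    (h1 : IsIso (α.app ((HomotopyCategory.quotient A (ComplexShape.up ℤ)).obj K₁)))
    (hg : IsIso (homologyMap ((F.mapHomologicalComplex (ComplexShape.up ℤ)).map g) i))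
    (hR : IsIso ((RΦ ⋙ DerivedCategory.homologyFunctor AddCommGrpCat.{v} i).map
      (DerivedCategory.Q.map g))) :
    IsIso ((DerivedCategory.homologyFunctor AddCommGrpCat.{v} i).map
      (α.app ((HomotopyCategory.quotient A (ComplexShape.up ℤ)).obj K₂))) := by
  have h := homology_unit_naturality F RΦ α g i
  have hA := (isIso_homology_Φ_map_iff F g i).2 hg
  have hC : IsIso ((DerivedCategory.homologyFunctor AddCommGrpCat.{v} i).map
      (α.app ((HomotopyCategory.quotient A (ComplexShape.up ℤ)).obj K₁))) :=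
    @Functor.map_isIso _ _ _ _ _ _ _ _ h1
  have hCD := @IsIso.comp_isIso _ _ _ _ _ _ _ hC hR
  have hAB : IsIso ((DerivedCategory.homologyFunctor AddCommGrpCat.{v} i).map
      ((F.mapHomotopyCategory (ComplexShape.up ℤ) ⋙ DerivedCategory.Qh).map
        ((HomotopyCategory.quotient A (ComplexShape.up ℤ)).map g)) ≫
      (DerivedCategory.homologyFunctor AddCommGrpCat.{v} i).map
        (α.app ((HomotopyCategory.quotient A (ComplexShape.up ℤ)).obj K₂))) := by
    rw [h]; exact hCD
  exact @IsIso.of_isIso_comp_left _ _ _ _ _ _ _ hA hAB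

include α in
/-- **if `RF` preserves countable direct sums, complexes of `F`-acyclic objects compute `RF`.** -/
theorem isIso_unit_of_acyclic_terms (K : CochainComplex A ℤ)
    (hK : ∀ (m : ℤ) (i : ℕ), 0 < i → IsZero ((F.rightDerived i).obj (K.X m))) :
    IsIso (α.app ((HomotopyCategory.quotient A (ComplexShape.up ℤ)).obj K)) := by
  haveI := Groth.Agent.Lib.Helper17.RDExist.hasPointwiseRightDerivedFunctor.{v}
    (F.mapHomotopyCategory (ComplexShape.up ℤ) ⋙
      (DerivedCategory.Qh : _ ⥤ DerivedCategory AddCommGrpCat.{v}))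
  letI := Groth.Agent.Lib.Helper17.RDTri.commShift.{v}
    (F.mapHomotopyCategory (ComplexShape.up ℤ) ⋙ DerivedCategory.Qh) RΦ α
  haveI := Groth.Agent.Lib.Helper17.RDTri.isTriangulated.{v}
    (F.mapHomotopyCategory (ComplexShape.up ℤ) ⋙ DerivedCategory.Qh) RΦ α
  rw [DerivedCategory.isIso_iff]
  intro i
  -- Leray's lemma on the stages
  have hL : ∀ n : ℕ, IsIso (α.app ((HomotopyCategory.quotient A (ComplexShape.up ℤ)).obj
      (sigmaGE K (-(n : ℤ))))) := fun n =>
    Groth.Agent.Lib.Helper17.AcycPush.isIso_unit_of_acyclic F RΦ α (sigmaGE K (-(n : ℤ)))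
      (-(n : ℤ)) (isZero_rightDerived_sigmaGE_X F K hK _)
  -- the homological functor
  haveI : HasExactColimitsOfShape ℕ AddCommGrpCat.{v} := hasExactColimitsOfShape_nat
  haveI : PreservesColimitsOfShape (Discrete ℕ)
      (DerivedCategory.homologyFunctor AddCommGrpCat.{v} i) :=
    preservesColimitsOfShape_homologyFunctor AddCommGrpCat.{v} ℕ i
  obtain ⟨e, he⟩ := Groth.Agent.S1034.result
    (RΦ ⋙ DerivedCategory.homologyFunctor AddCommGrpCat.{v} i) _ _ _ _ (isHocolim_seq K)
  -- the index from which everything is constant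
  obtain ⟨N, hN⟩ : ∃ N : ℕ, ∀ n : ℕ, N ≤ n → -(n : ℤ) < i :=
    ⟨(-i).toNat + 1, fun n hn => by omega⟩
  -- the transition maps are isomorphisms from `N` on
  have hT : ∀ n : ℕ, N ≤ n → IsIso ((Functor.ofSequence (fun n =>
      (RΦ ⋙ DerivedCategory.homologyFunctor AddCommGrpCat.{v} i).map
      (DerivedCategory.Q.map ((seq K).map (homOfLE (Nat.le_succ n)))))).map
      (homOfLE (Nat.le_add_right n 1))) := by
    intro n hn
    rw [Functor.ofSequence_map_homOfLE_succ]
    refine isIso_Hi_map F RΦ α ((seq K).map (homOfLE (Nat.le_succ n))) i (hL n) (hL (n + 1)) ?_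
    exact isIso_homologyMap_map_of_comp F ((seq K).map (homOfLE (Nat.le_succ n)))
      ((seqCocone K).ι.app (n + 1)) ((seqCocone K).ι.app n)
      ((seqCocone K).w (homOfLE (Nat.le_succ n))) i
      (isIso_homologyMap_map_sigmaGEι F K (-(n : ℤ)) i (hN n hn))
      (isIso_homologyMap_map_sigmaGEι F K (-((n + 1 : ℕ) : ℤ)) i
        (hN (n + 1) (hn.trans (Nat.le_succ n))))
  -- hence `H^i RF(σ_{≥ -N} K) ⟶ H^i RF(K)` is an isomorphism
  have hι : IsIso ((RΦ ⋙ DerivedCategory.homologyFunctor AddCommGrpCat.{v} i).map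
      (DerivedCategory.Q.map (sigmaGEι K (-(N : ℤ))))) := by
    have h0 : IsIso (colimit.ι (Functor.ofSequence (fun n =>
        (RΦ ⋙ DerivedCategory.homologyFunctor AddCommGrpCat.{v} i).map
        (DerivedCategory.Q.map ((seq K).map (homOfLE (Nat.le_succ n)))))) N) :=
      Groth.Agent.Lib.Helper17.Seq.isIso_ι_of_isColimit _ N hT _
        (colimit.isColimit _) (le_refl N)
    have h := he N
    have h' : IsIso (colimit.ι (Functor.ofSequence (fun n =>
        (RΦ ⋙ DerivedCategory.homologyFunctor AddCommGrpCat.{v} i).map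
        (DerivedCategory.Q.map ((seq K).map (homOfLE (Nat.le_succ n)))))) N ≫ e.hom) :=
      @IsIso.comp_isIso _ _ _ _ _ _ _ h0 inferInstance
    exact h ▸ h'
  exact isIso_homology_unit F RΦ α (sigmaGEι K (-(N : ℤ))) i (hL N)
    (isIso_homologyMap_map_sigmaGEι F K (-(N : ℤ)) i (hN N le_rfl)) hι

end Main

end Groth.Agent.Lib.Helper17.HocolimUnit
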