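import Mathlib.CategoryTheory.Abelian.Injective.Resolution
import Mathlib.Algebra.Homology.Embedding.ExtendHomology
import Mathlib.Algebra.Homology.QuasiIso
import Mathlib.Algebra.Homology.Single

/-!
# Right resolutions along a sequence of hulls (helper17)

In an abelian category `𝒞`, suppose given for every step `j : ℕ` and every object `Y` a monomorphism
`Y ⟶ H.obj j Y`. Iterating "embed, then pass to the cokernel" produces for every object `X` a
cochain complex `res H X` indexed by `ℕ` with terms `H.obj j (Y j)`, and an augmentation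
`(single₀ 𝒞).obj X ⟶ res H X` which is a quasi-isomorphism.
-/

set_option backward.isDefEq.respectTransparency false
set_option autoImplicit false

universe v u

open CategoryTheory CategoryTheory.Limits

namespace Groth.Agent.Lib.Helper17.Hull

variable {𝒞 : Type u} [Category.{v} 𝒞] [Abelian 𝒞]

/-- Hull data: for each step `j` and object `Y`, a monomorphism from `Y`. -/
structure HullData (𝒞 : Type u) [Category.{v} 𝒞] where
  /-- the hull -/
  obj : ℕ → 𝒞 → 𝒞
  /-- the embedding -/
  map : ∀ (j : ℕ) (Y : 𝒞), Y ⟶ obj j Y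
  mono : ∀ (j : ℕ) (Y : 𝒞), Mono (map j Y)

attribute [instance] HullData.mono

variable (H : HullData 𝒞) (X : 𝒞)

/-- the successive cokernels. -/
noncomputable def cok : ℕ → 𝒞
  | 0 => X
  | j + 1 => cokernel (H.map j (cok j))

lemma cok_zero : cok H X 0 = X := rfl

lemma cok_succ (j : ℕ) : cok H X (j + 1) = cokernel (H.map j (cok H X j)) := rfl

/-- the terms of the resolution. -/
noncomputable def term (j : ℕ) : 𝒞 := H.obj j (cok H X j)

/-- the embedding of the cokernel in the term. -/
noncomputable def emb (j : ℕ) : cok H X j ⟶ term H X j := H.map j (cok H X j)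

instance (j : ℕ) : Mono (emb H X j) := by unfold emb; infer_instance

/-- the projection to the next cokernel. -/
noncomputable def proj (j : ℕ) : term H X j ⟶ cok H X (j + 1) := cokernel.π (H.map j (cok H X j))

instance (j : ℕ) : Epi (proj H X j) := by unfold proj; infer_instance

@[reassoc (attr := simp)]
lemma emb_proj (j : ℕ) : emb H X j ≫ proj H X j = 0 := cokernel.condition _

/-- the short complex `cok j ⟶ term j ⟶ cok (j + 1)`. -/
noncomputable def sc (j : ℕ) : ShortComplex 𝒞 := ShortComplex.mk (emb H X j) (proj H X j) (emb_proj H X j)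

lemma sc_shortExact (j : ℕ) : (sc H X j).ShortExact where
  exact := ShortComplex.exact_cokernel (H.map j (cok H X j))
  mono_f := by change Mono (emb H X j); infer_instance
  epi_g := by change Epi (proj H X j); infer_instance

/-- the differential of the resolution. -/
noncomputable def dd (j : ℕ) : term H X j ⟶ term H X (j + 1) := proj H X j ≫ emb H X (j + 1)

@[reassoc (attr := simp)]
lemma dd_dd (j : ℕ) : dd H X j ≫ dd H X (j + 1) = 0 := by
  unfold dd
  rw [Category.assoc, emb_proj_assoc, zero_comp, comp_zero]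

/-- the resolution. -/
noncomputable def res : CochainComplex 𝒞 ℕ := CochainComplex.of (term H X) (dd H X) (dd_dd H X)

lemma res_X (j : ℕ) : (res H X).X j = term H X j := rfl

lemma res_d (j : ℕ) : (res H X).d j (j + 1) = dd H X j := CochainComplex.of_d _ _ _

lemma exact_dd_dd (j : ℕ) : (ShortComplex.mk (dd H X j) (dd H X (j + 1)) (dd_dd H X j)).Exact := by
  -- compare with `emb (j+1), proj (j+1)`
  let S₀ := sc H X (j + 1)
  let S₁ : ShortComplex 𝒞 := ShortComplex.mk (dd H X j) (proj H X (j + 1)) (by
    unfold dd; rw [Category.assoc, emb_proj, comp_zero])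
  let S₂ : ShortComplex 𝒞 := ShortComplex.mk (dd H X j) (dd H X (j + 1)) (dd_dd H X j)
  let α : S₁ ⟶ S₀ :=
    { τ₁ := proj H X j
      τ₂ := 𝟙 _
      τ₃ := 𝟙 _
      comm₁₂ := by
        change proj H X j ≫ emb H X (j + 1) = dd H X j ≫ 𝟙 _
        rw [Category.comp_id]; rfl
      comm₂₃ := by
        change 𝟙 _ ≫ proj H X (j + 1) = proj H X (j + 1) ≫ 𝟙 _
        rw [Category.comp_id, Category.id_comp] }
  let β : S₁ ⟶ S₂ :=
    { τ₁ := 𝟙 _
      τ₂ := 𝟙 _
      τ₃ := emb H X (j + 1 + 1)
      comm₁₂ := by
        change 𝟙 _ ≫ dd H X j = dd H X j ≫ 𝟙 _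
        rw [Category.comp_id, Category.id_comp]
      comm₂₃ := by
        change 𝟙 _ ≫ dd H X (j + 1) = proj H X (j + 1) ≫ emb H X (j + 1 + 1)
        rw [Category.id_comp]; rfl }
  haveI : Epi α.τ₁ := by change Epi (proj H X j); infer_instance
  haveI : IsIso α.τ₂ := by change IsIso (𝟙 _); infer_instance
  haveI : Mono α.τ₃ := by change Mono (𝟙 _); infer_instance
  haveI : Epi β.τ₁ := by change Epi (𝟙 _); infer_instance
  haveI : IsIso β.τ₂ := by change IsIso (𝟙 _); infer_instance
  haveI : Mono β.τ₃ := by change Mono (emb H X (j + 1 + 1)); infer_instance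
  have h₁ : S₁.Exact := (ShortComplex.exact_iff_of_epi_of_isIso_of_mono α).2 (sc_shortExact H X (j + 1)).exact
  exact (ShortComplex.exact_iff_of_epi_of_isIso_of_mono β).1 h₁

lemma res_exactAt_succ (j : ℕ) : (res H X).ExactAt (j + 1) := by
  rw [HomologicalComplex.exactAt_iff' _ j (j + 1) (j + 1 + 1) (by simp) (by simp)]
  refine ShortComplex.exact_of_iso ?_ (exact_dd_dd H X j)
  exact ShortComplex.isoMk (Iso.refl _) (Iso.refl _) (Iso.refl _)
    (by
      change 𝟙 _ ≫ (res H X).d j (j + 1) = dd H X j ≫ 𝟙 _
      rw [res_d, Category.id_comp, Category.comp_id])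
    (by
      change 𝟙 _ ≫ (res H X).d (j + 1) (j + 1 + 1) = dd H X (j + 1) ≫ 𝟙 _
      rw [res_d, Category.id_comp, Category.comp_id])

lemma exact_emb_dd : (ShortComplex.mk (emb H X 0) (dd H X 0) (by
    unfold dd; rw [emb_proj_assoc, zero_comp])).Exact := by
  let S₀ := sc H X 0
  let S₂ : ShortComplex 𝒞 := ShortComplex.mk (emb H X 0) (dd H X 0) (by
    unfold dd; rw [emb_proj_assoc, zero_comp])
  let β : S₀ ⟶ S₂ :=
    { τ₁ := 𝟙 _
      τ₂ := 𝟙 _
      τ₃ := emb H X (0 + 1)
      comm₁₂ := by
        change 𝟙 _ ≫ emb H X 0 = emb H X 0 ≫ 𝟙 _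
        rw [Category.comp_id, Category.id_comp]
      comm₂₃ := by
        change 𝟙 _ ≫ dd H X 0 = proj H X 0 ≫ emb H X (0 + 1)
        rw [Category.id_comp]; rfl }
  haveI : Epi β.τ₁ := by change Epi (𝟙 _); infer_instance
  haveI : IsIso β.τ₂ := by change IsIso (𝟙 _); infer_instance
  haveI : Mono β.τ₃ := by change Mono (emb H X (0 + 1)); infer_instance
  exact (ShortComplex.exact_iff_of_epi_of_isIso_of_mono β).1 (sc_shortExact H X 0).exact

/-- the augmentation. -/
noncomputable def aug : (CochainComplex.single₀ 𝒞).obj X ⟶ res H X :=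
  (CochainComplex.fromSingle₀Equiv _ _).symm ⟨emb H X 0, by
    rw [res_d]; unfold dd; rw [emb_proj_assoc, zero_comp]⟩

lemma aug_f_zero : (aug H X).f 0 = emb H X 0 :=
  CochainComplex.fromSingle₀Equiv_symm_apply_f_zero _ _

instance quasiIso_aug : QuasiIso (aug H X) := ⟨fun n => by
  cases n
  · rw [CochainComplex.quasiIsoAt₀_iff, ShortComplex.quasiIso_iff_of_zeros]
    · refine (ShortComplex.exact_and_mono_f_iff_of_iso ?_).2
        ⟨exact_emb_dd H X, by dsimp; infer_instance⟩
      exact ShortComplex.isoMk (Iso.refl _) (Iso.refl _) (Iso.refl _)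
        (by
          dsimp
          rw [Category.id_comp, Category.comp_id]
          exact (aug_f_zero H X).symm)
        (by
          dsimp
          rw [Category.id_comp, Category.comp_id]
          exact (res_d H X 0).symm)
    all_goals rfl
  · rw [quasiIsoAt_iff_exactAt]
    · apply res_exactAt_succ
    · apply CochainComplex.exactAt_succ_single_obj⟩

/-- if the embedding at step `j` is an isomorphism, the next cokernel vanishes. -/
lemma isZero_cok_succ (j : ℕ) (h : IsIso (H.map j (cok H X j))) : IsZero (cok H X (j + 1)) := by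
  rw [cok_succ]
  exact isZero_cokernel_of_epi _

end Groth.Agent.Lib.Helper17.Hull
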