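import Groth.Agent.Lib.Helper17KInjD5
import Mathlib.Algebra.Homology.DerivedCategory.HomologySequence
import Mathlib.Algebra.Homology.DerivedCategory.TStructure

/-!
# Hypercohomology on objects and cohomology objects (helper17)

Abstract setting: an abelian category `A` with its derived category.  For `P : A` and
`K : D(A)` we study the canonical map
`c₀ : Hom_{D(A)}(P[0], K) → Hom_A(P, H^0 K)`.
-/

set_option autoImplicit false

universe w w' v v' u u'

open CategoryTheory CategoryTheory.Limits HomologicalComplex DerivedCategory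

namespace Groth.Agent.Lib.Helper17.Hyp

section Chain

variable {A : Type u} [Category.{v} A] [Abelian A]

/-- the complex `P[0]`. -/
noncomputable abbrev sgl (P : A) : CochainComplex A ℤ :=
  (HomologicalComplex.single A (ComplexShape.up ℤ) 0).obj P

/-- the chain map `P[0] ⟶ M` attached to a degree-zero cycle. -/
noncomputable abbrev fromSingle₀ {P : A} {M : CochainComplex A ℤ} (φ : P ⟶ M.X 0)
    (hφ : φ ≫ M.d 0 1 = 0) : sgl P ⟶ M :=
  HomologicalComplex.mkHomFromSingle φ (fun k hk => by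
    obtain rfl : k = 1 := by simpa using hk.symm
    exact hφ)

lemma fromSingle₀_f {P : A} {M : CochainComplex A ℤ} (φ : P ⟶ M.X 0)
    (hφ : φ ≫ M.d 0 1 = 0) :
    (fromSingle₀ φ hφ).f 0 = (HomologicalComplex.singleObjXSelf (ComplexShape.up ℤ) 0 P).hom ≫ φ :=
  HomologicalComplex.mkHomFromSingle_f _ _

lemma sgl_d (P : A) (i j : ℤ) : (sgl P).d i j = 0 := rfl

lemma eq_fromSingle₀ {P : A} {M : CochainComplex A ℤ} (g : sgl P ⟶ M) :
    ∃ (φ : P ⟶ M.X 0) (hφ : φ ≫ M.d 0 1 = 0), g = fromSingle₀ φ hφ := by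
  refine ⟨(HomologicalComplex.singleObjXSelf (ComplexShape.up ℤ) 0 P).inv ≫ g.f 0, ?_, ?_⟩
  · rw [Category.assoc, g.comm 0 1, sgl_d, zero_comp, comp_zero]
  · apply HomologicalComplex.from_single_hom_ext
    rw [fromSingle₀_f, Iso.hom_inv_id_assoc]

lemma homologyMap_fromSingle₀ {P : A} {M : CochainComplex A ℤ} (φ : P ⟶ M.X 0)
    (hφ : φ ≫ M.d 0 1 = 0) :
    (HomologicalComplex.singleObjHomologySelfIso (ComplexShape.up ℤ) 0 P).inv ≫
      HomologicalComplex.homologyMap (fromSingle₀ φ hφ) 0 =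
      M.liftCycles φ 1 (by simp) hφ ≫ M.homologyπ 0 := by
  rw [← HomologicalComplex.singleObjCyclesSelfIso_inv_homologyπ, Category.assoc,
    HomologicalComplex.homologyπ_naturality, ← Category.assoc]
  congr 1
  rw [← cancel_mono (M.iCycles 0), Category.assoc, HomologicalComplex.cyclesMap_i,
    HomologicalComplex.liftCycles_i, HomologicalComplex.singleObjCyclesSelfIso_inv_iCycles_assoc,
    fromSingle₀_f, Iso.inv_hom_id_assoc]

/-- a degree-zero cycle which is a boundary gives a null-homotopic map. -/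
noncomputable def homotopyFromSingle₀ {P : A} {M : CochainComplex A ℤ} (w : P ⟶ M.X (-1))
    (hφ : (w ≫ M.d (-1) 0) ≫ M.d 0 1 = 0) : Homotopy (fromSingle₀ (w ≫ M.d (-1) 0) hφ) 0 where
  hom i j := if h : i = 0 ∧ j = -1 then
      (HomologicalComplex.singleObjXIsoOfEq (ComplexShape.up ℤ) 0 P i h.1).hom ≫ w ≫
        (M.XIsoOfEq h.2).inv
    else 0
  zero i j hij := by
    rw [dif_neg]
    rintro ⟨rfl, rfl⟩
    exact hij (by simp)
  comm i := by
    by_cases hi : i = 0
    · subst hi
      rw [fromSingle₀_f]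
      simp only [HomologicalComplex.zero_f, add_zero]
      rw [dNext_eq _ (show (ComplexShape.up ℤ).Rel 0 1 by simp),
        prevD_eq _ (show (ComplexShape.up ℤ).Rel (-1) 0 by simp)]
      rw [sgl_d, zero_comp, zero_add, dif_pos ⟨rfl, rfl⟩]
      simp [HomologicalComplex.singleObjXIsoOfEq, HomologicalComplex.singleObjXSelf]
    · apply (HomologicalComplex.isZero_single_obj_X (ComplexShape.up ℤ) 0 P i hi).eq_of_src

end Chain

section Derived

variable {A : Type u} [Category.{v} A] [Abelian A] [HasDerivedCategory.{w} A]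

/-- `P[0]` as an object of the derived category. -/
noncomputable abbrev dsgl (P : A) : DerivedCategory A := Q.obj (sgl P)

lemma singleFunctor_obj_eq (P : A) : (singleFunctor A 0).obj P = dsgl P := rfl

lemma singleFunctor_map_eq {P P' : A} (f : P ⟶ P') :
    (singleFunctor A 0).map f =
      Q.map ((HomologicalComplex.single A (ComplexShape.up ℤ) 0).map f) := rfl

lemma Q_map_eq_of_homotopy {K L : CochainComplex A ℤ} {f g : K ⟶ L} (h : Homotopy f g) :
    (Q : _ ⥤ DerivedCategory A).map f = Q.map g := by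
  have := HomotopyCategory.eq_of_homotopy f g h
  rw [← cancel_epi ((quotientCompQhIso A).hom.app K), ← quotientCompQhIso_hom_naturality,
    ← quotientCompQhIso_hom_naturality, this]

/-- `H^0(P[0]) ≅ P`, as a natural isomorphism. -/
noncomputable def e₀NatIso :
    HomologicalComplex.single A (ComplexShape.up ℤ) 0 ⋙ Q ⋙ homologyFunctor A 0 ≅ 𝟭 A :=
  Functor.isoWhiskerLeft _ (homologyFunctorFactors A 0) ≪≫
    HomologicalComplex.homologyFunctorSingleIso A (ComplexShape.up ℤ) 0

/-- `H^0(P[0]) ≅ P`. -/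
noncomputable def e₀ (P : A) : (homologyFunctor A 0).obj (dsgl P) ≅ P :=
  (e₀NatIso (A := A)).app P

lemma e₀_inv_eq (P : A) : (e₀ P).inv =
    (HomologicalComplex.singleObjHomologySelfIso (ComplexShape.up ℤ) 0 P).inv ≫
      (homologyFunctorFactors A 0).inv.app (sgl P) := by
  dsimp [e₀, e₀NatIso, HomologicalComplex.homologyFunctorSingleIso]
  rfl

lemma e₀_inv_naturality {P P' : A} (f : P ⟶ P') :
    f ≫ (e₀ P').inv = (e₀ P).inv ≫ (homologyFunctor A 0).map
      (Q.map ((HomologicalComplex.single A (ComplexShape.up ℤ) 0).map f)) :=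
  (e₀NatIso (A := A)).inv.naturality f

/-- the canonical map `Hom_{D(A)}(P[0], K) → Hom_A(P, H^0 K)`. -/
noncomputable def c₀ {P : A} {K : DerivedCategory A} (ξ : dsgl P ⟶ K) :
    P ⟶ (homologyFunctor A 0).obj K :=
  (e₀ P).inv ≫ (homologyFunctor A 0).map ξ

lemma c₀_comp {P : A} {K K' : DerivedCategory A} (ξ : dsgl P ⟶ K) (φ : K ⟶ K') :
    c₀ (ξ ≫ φ) = c₀ ξ ≫ (homologyFunctor A 0).map φ := by
  simp [c₀]

lemma c₀_precomp {P P' : A} {K : DerivedCategory A} (f : P ⟶ P') (ξ : dsgl P' ⟶ K) :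
    c₀ (Q.map ((HomologicalComplex.single A (ComplexShape.up ℤ) 0).map f) ≫ ξ) = f ≫ c₀ ξ := by
  dsimp only [c₀]
  rw [Functor.map_comp, ← Category.assoc, ← e₀_inv_naturality, Category.assoc]

lemma c₀_zero {P : A} {K : DerivedCategory A} : c₀ (0 : dsgl P ⟶ K) = 0 := by
  dsimp only [c₀]
  rw [Functor.map_zero, comp_zero]

lemma c₀_add {P : A} {K : DerivedCategory A} (ξ ξ' : dsgl P ⟶ K) :
    c₀ (ξ + ξ') = c₀ ξ + c₀ ξ' := by
  dsimp only [c₀]
  rw [Functor.map_add, Preadditive.comp_add]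

lemma c₀_Q_map {P : A} {M : CochainComplex A ℤ} (g : sgl P ⟶ M) :
    c₀ (Q.map g) ≫ (homologyFunctorFactors A 0).hom.app M =
      (HomologicalComplex.singleObjHomologySelfIso (ComplexShape.up ℤ) 0 P).inv ≫
        HomologicalComplex.homologyMap g 0 := by
  dsimp only [c₀]
  rw [e₀_inv_eq]
  simp only [Category.assoc]
  congr 1
  have := (homologyFunctorFactors A 0).hom.naturality g
  dsimp only [Functor.comp_map] at this
  rw [this]
  erw [Iso.inv_hom_id_app_assoc]
  rfl

end Derived

end Groth.Agent.Lib.Helper17.Hyp
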