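import Groth.Agent.Lib.Helper17Hyp9

/-!
# `E = R lim τ_{≥ -n} E` under locally bounded vanishing (helper17)
-/

set_option autoImplicit false

universe x w w' v v' u u'

open CategoryTheory CategoryTheory.Limits Opposite

namespace Groth.Agent.Lib.Helper17.Hyp

open DerivedCategory Groth.Agent.S14388

variable {A : Type (v + 1)} [Category.{v} A] [Abelian A] [HasDerivedCategory.{w} A]

/-- `Hom(P, H^{m-k}(E)[k]) = 0` for `k > p(m)`. -/
def VanishAbove (P E : DerivedCategory A) (p : ℤ → ℤ) : Prop :=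
  ∀ (m : ℤ) (k : ℕ), p m < k →
    Subsingleton (P ⟶ ((singleFunctor A 0).obj ((homologyFunctor A (m - k)).obj E))⟦(k : ℤ)⟧)

lemma VanishAbove.at {P E : DerivedCategory A} {p : ℤ → ℤ} (hP : VanishAbove P E p) (a k : ℤ)
    (hk : 0 ≤ k) (hpk : p (a + k) < k) :
    Subsingleton (P ⟶ ((singleFunctor A 0).obj ((homologyFunctor A a).obj E))⟦k⟧) := by
  obtain ⟨k', rfl⟩ := Int.eq_ofNat_of_zero_le hk
  have := hP (a + k') k' hpk
  have e : a + (k' : ℤ) - k' = a := by omega
  rw [e] at this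
  exact this

/-- the index from which the tower `H^m(P, τ_{≥ -n} E)` is constant. -/
noncomputable def Nb (p : ℤ → ℤ) (m : ℤ) : ℕ :=
  max (max (-m - 1).toNat (p m - m).toNat) (p (m + 1) - m - 1).toNat

theorem bijective_truncTowerMap {P E : DerivedCategory A} {p : ℤ → ℤ} (hP : VanishAbove P E p)
    (m : ℤ) (n : ℕ) (hn : Nb p m ≤ n) :
    Function.Bijective (fun y : P ⟶ (CohCx.truncTower E (n + 1))⟦m⟧ =>
      y ≫ (CohCx.truncTowerMap E n)⟦m⟧') := by
  have h1 : (-m - 1).toNat ≤ n := le_trans (le_trans (le_max_left _ _) (le_max_left _ _)) hn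
  have h2 : (p m - m).toNat ≤ n := le_trans (le_trans (le_max_right _ _) (le_max_left _ _)) hn
  have h3 : (p (m + 1) - m - 1).toNat ≤ n := le_trans (le_max_right _ _) hn
  have h1' : -m - 1 ≤ n := by omega
  have h2' : p m - m ≤ n := by omega
  have h3' : p (m + 1) - m - 1 ≤ n := by omega
  refine bijective_postcomp_natTransTruncGE' P E (-((n + 1 : ℕ) : ℤ)) (-(n : ℤ)) m
    (m + n + 1) (m + n + 2) (by push_cast; omega) (by push_cast; omega) (by push_cast; omega) ?_ ?_
  · apply hP.at _ _ (by omega)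
    have : -((n + 1 : ℕ) : ℤ) + (m + n + 1) = m := by push_cast; omega
    rw [this]
    omega
  · apply hP.at _ _ (by omega)
    have : -((n + 1 : ℕ) : ℤ) + (m + n + 2) = m + 1 := by push_cast; omega
    rw [this]
    omega

theorem good_of_vanishAbove {P E : DerivedCategory A} {p : ℤ → ℤ} (hP : VanishAbove P E p)
    (m : ℤ) (nV : ℕ) (hnV : max (Nb p m) (Nb p (m - 1)) ≤ nV) :
    CohCx.LimOneIsZero (fun n => P ⟶ (CohCx.truncTower E n)⟦m - 1⟧)
        (fun n => Preadditive.rightComp _ ((CohCx.truncTowerMap E n)⟦m - 1⟧')) ∧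
      ∀ k : ℕ, Function.Injective (Preadditive.rightComp P
        ((CohCx.transition (CohCx.truncTower E) (CohCx.truncTowerMap E) nV k)⟦m⟧')) := by
  constructor
  · apply limOneIsZero_of_surjective (Nb p (m - 1))
    intro n hn
    exact (bijective_truncTowerMap hP (m - 1) n hn).2
  · intro k
    induction k with
    | zero =>
      intro y y' hyy
      change y ≫ (𝟙 _)⟦m⟧' = y' ≫ (𝟙 _)⟦m⟧' at hyy
      rwa [CategoryTheory.Functor.map_id, Category.comp_id, Category.comp_id] at hyy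
    | succ k ih =>
      intro y y' hyy
      change y ≫ (CohCx.truncTowerMap E (nV + k) ≫
        CohCx.transition (CohCx.truncTower E) (CohCx.truncTowerMap E) nV k)⟦m⟧' =
        y' ≫ (CohCx.truncTowerMap E (nV + k) ≫
        CohCx.transition (CohCx.truncTower E) (CohCx.truncTowerMap E) nV k)⟦m⟧' at hyy
      rw [Functor.map_comp, ← Category.assoc, ← Category.assoc] at hyy
      have h1 := ih hyy
      exact (bijective_truncTowerMap hP m (nV + k)
        (le_trans (le_trans (le_max_left _ _) hnV) (Nat.le_add_right _ _))).1 h1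

variable {C : Type u'} [Category.{v'} C] {J : GrothendieckTopology C} {fr : C ⥤ A}

/-- Abstract form of S0881 / S9043. -/
theorem isRlimVia_truncTower_of_cofinal [IsGrothendieckAbelian.{w'} A] (h : LocFr J fr)
    (E : DerivedCategory A) [HasProduct (CohCx.truncTower E)]
    (hcov : ∀ U : C, ∃ R : Presieve U, Sieve.generate R ∈ J U ∧ ∀ ⦃V : C⦄ (g : V ⟶ U), R g →
      ∃ p : ℤ → ℤ, ∀ T ∈ J V, ∃ R' : Presieve V, R' ≤ T ∧ Sieve.generate R' ∈ J V ∧
        ∀ ⦃W : C⦄ (g' : W ⟶ V), R' g' → VanishAbove (dsgl (fr.obj W)) E p) :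
    CohCx.IsRlimVia (CohCx.truncTower E) (CohCx.truncTowerMap E) E (CohCx.toTruncTower E) := by
  apply isRlimVia_truncTower_of_hloc.{max u' v'} h E
  intro L a hL m U
  obtain ⟨R, hR, hR'⟩ := hcov U
  choose p hp using hR'
  let ι : Type (max u' v') := Σ (V : C), {g : V ⟶ U // R g}
  let n : ι → ℕ := fun i =>
    max (max (Nb (p i.2.1 i.2.2) m) (Nb (p i.2.1 i.2.2) (m - 1))) (-m).toNat
  refine ⟨ι, n, fun i => ?_, fun d hd => ⟨R, hR, fun V g hg => ⟨⟨V, g, hg⟩, ?_⟩⟩⟩
  · have : (-m).toNat ≤ n i := le_max_right _ _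
    omega
  · have hd' := hd ⟨V, g, hg⟩
    refine eq_zero_of_cofinal_good.{w, w'} h hL V m (n ⟨V, g, hg⟩) ?_ _ (by
      rw [Category.assoc, hd', comp_zero])
    intro T hT
    obtain ⟨R', hR'T, hR'J, hR'v⟩ := hp g hg T hT
    refine ⟨R', hR'T, hR'J, fun W g' hg' => ?_⟩
    exact good_of_vanishAbove (hR'v g' hg') m _ (le_max_left _ _)

end Groth.Agent.Lib.Helper17.Hyp
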