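import Groth.Agent.Lib.Helper17Hyp10
import Groth.Prelude.Def_CohTop

/-!
# `E = R lim τ_{≥ -n} E` on a topological space under pointwise bounded vanishing (helper17)
-/

set_option autoImplicit false

universe u

open CategoryTheory CategoryTheory.Limits Opposite TopologicalSpace

namespace Groth.Agent.Lib.Helper17.Hyp

open DerivedCategory

variable {X : TopCat.{u}} [HasDerivedCategory.{u} (CohTop.Ab X)]

/-- Abstract form of S0875 / S6520 / S6521 / S6522. -/
theorem isRlimVia_truncTower_of_pointwise (E : DerivedCategory (CohTop.Ab X))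
    [HasProduct (CohCx.truncTower E)]
    (h : ∀ x : X, ∃ p : ℤ → ℤ, ∀ V : Opens X, x ∈ V → ∃ U : Opens X, x ∈ U ∧ U ≤ V ∧
      VanishAbove (dsgl ((frSh (Opens.grothendieckTopology X)).obj U)) E p) :
    CohCx.IsRlimVia (CohCx.truncTower E) (CohCx.truncTowerMap E) E (CohCx.toTruncTower E) := by
  have hfr := locFr_frSh (Opens.grothendieckTopology X)
  apply isRlimVia_truncTower_of_hloc.{u} hfr E
  intro L a hL m U
  choose p hp using h
  let ι : Type u := {x : X // x ∈ U}
  let n : ι → ℕ := fun i => max (max (Nb (p i.1) m) (Nb (p i.1) (m - 1))) (-m).toNat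
  refine ⟨ι, n, fun i => ?_, fun d hd => ?_⟩
  · have : (-m).toNat ≤ n i := le_max_right _ _
    omega
  · -- for each point choose a good neighbourhood in the lift sieve
    have key : ∀ i : ι, ∃ W : Opens X, i.1 ∈ W ∧ ∃ hW : W ≤ U,
        (frSh (Opens.grothendieckTopology X)).map (homOfLE hW) ≫ d i = 0 := by
      intro i
      have hmem := liftSieve_mem.{u, u} hfr (a (n i)) m (d i) (hd i)
      obtain ⟨W, g, hg, hxW⟩ := hmem i.1 i.2
      obtain ⟨W', hxW', hW'W, hvan⟩ := hp i.1 W hxW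
      have hg' : (liftSieve (frSh (Opens.grothendieckTopology X)) (a (n i)) m (d i)).arrows
          (homOfLE hW'W ≫ g) := Sieve.downward_closed _ hg _
      obtain ⟨ξ, hξ1, hξ2⟩ := hg'
      refine ⟨W', hxW', (homOfLE hW'W ≫ g).le, ?_⟩
      obtain ⟨g1, g2⟩ := good_of_vanishAbove hvan m (n i) (le_max_left _ _)
      have hξ0 : ξ = 0 := eq_zero_of_good hL _ m (n i) g1 g2 ξ hξ2
      rw [hξ0, cm_zero] at hξ1
      have : homOfLE (homOfLE hW'W ≫ g).le = homOfLE hW'W ≫ g := Subsingleton.elim _ _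
      rw [this]
      exact hξ1.symm
    choose W hxW hWU hW0 using key
    refine ⟨Presieve.ofArrows W (fun i => homOfLE (hWU i)), ?_, ?_⟩
    · intro x hx
      exact ⟨W ⟨x, hx⟩, homOfLE (hWU ⟨x, hx⟩),
        Sieve.le_generate _ _ _ (Presieve.ofArrows.mk (ι := ι) ⟨x, hx⟩), hxW ⟨x, hx⟩⟩
    · rintro V g ⟨i⟩
      exact ⟨i, hW0 i⟩

end Groth.Agent.Lib.Helper17.Hyp
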