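import Groth.Agent.Lib.Helper17Hyp11
import Mathlib.Topology.Sheaves.Stalks

/-!
# Stalk injectivity from local vanishing of sections (helper17)
-/

set_option autoImplicit false

universe u

open CategoryTheory CategoryTheory.Limits Opposite TopologicalSpace

namespace Groth.Agent.Lib.Helper17.Hyp

variable {X : TopCat.{u}}

theorem stalk_injective_of_local {F G : CohTop.Ab X} (φ : F ⟶ G) (x : X)
    (hloc : ∀ (W : Opens X) (_ : x ∈ W)
      (s : CohCx.freeSheaf (Opens.grothendieckTopology X) W ⟶ F), s ≫ φ = 0 →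
      ∃ (U : Opens X) (_ : x ∈ U) (hUW : U ≤ W),
        CohCx.freeSheafMap (Opens.grothendieckTopology X) (homOfLE hUW) ≫ s = 0) :
    Function.Injective ((TopCat.Presheaf.stalkFunctor AddCommGrpCat.{u} x).map φ.hom) := by
  rw [injective_iff_map_eq_zero]
  intro z hz
  obtain ⟨V, hxV, σ, rfl⟩ := TopCat.Presheaf.exists_germ_eq _ z
  rw [TopCat.Presheaf.stalkFunctor_map_germ_apply] at hz
  have hz' : (ConcreteCategory.hom (TopCat.Presheaf.germ G.obj V x hxV))
      ((ConcreteCategory.hom (φ.hom.app (Opposite.op V))) σ) =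
      (ConcreteCategory.hom (TopCat.Presheaf.germ G.obj V x hxV)) 0 := by
    rw [hz, map_zero]
    rfl
  obtain ⟨W, hxW, iU, iV, hW⟩ := TopCat.Presheaf.germ_eq _ x hxV hxV _ _ hz'
  let σW : F.obj.obj (Opposite.op W) := F.obj.map iU.op σ
  let s : CohCx.freeSheaf (Opens.grothendieckTopology X) W ⟶ F :=
    CohFree.ofSect _ W _ σW
  have hs : s ≫ φ = 0 := by
    apply (CohFree.homEquivSect _ W _).injective
    rw [CohFree.homEquivSect_apply, evalGen_comp, CohFree.evalGen_ofSect, map_zero]
    have := congrArg (fun f => f σ) (congrArg (fun f => (f.hom : _ → _)) (φ.hom.naturality iU.op))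
    simp only [AddCommGrpCat.hom_comp, AddMonoidHom.coe_comp, Function.comp_apply] at this
    rw [this]
    rw [map_zero] at hW
    exact hW
  obtain ⟨U, hxU, hUW, h3⟩ := hloc W hxW s hs
  have h2 := CohFree.evalGen_freeSheafMap_comp (Opens.grothendieckTopology X) (homOfLE hUW) F s
  rw [h3, map_zero, CohFree.evalGen_ofSect] at h2
  have h4 : F.obj.map (homOfLE hUW ≫ iU).op σ = 0 := by
    rw [op_comp, Functor.map_comp]
    exact h2.symm
  rw [← TopCat.Presheaf.germ_res_apply _ (homOfLE hUW ≫ iU) x hxU σ]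
  erw [h4]
  rw [map_zero]
  rfl

end Groth.Agent.Lib.Helper17.Hyp
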