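import Groth.Agent.Lib.Helper17Hyp10

/-!
# Transport of `LocFr` along an adjunction with faithful exact right adjoint (helper17)
-/

set_option autoImplicit false

universe v v₁ v' u u₁ u'

open CategoryTheory CategoryTheory.Limits

namespace Groth.Agent.Lib.Helper17.Hyp

variable {A : Type u} [Category.{v} A] [Abelian A] {A' : Type u₁} [Category.{v₁} A'] [Abelian A']
  {C : Type u'} [Category.{v'} C] {J : GrothendieckTopology C} {fr' : C ⥤ A'}

theorem LocFr.of_adjunction (h : LocFr J fr') {L : A' ⥤ A} {R : A ⥤ A'} (adj : L ⊣ R)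
    [R.Faithful] [R.PreservesEpimorphisms] [R.PreservesZeroMorphisms] :
    LocFr J (fr' ⋙ L) where
  lift {F G} π _ U s := by
    haveI : Epi (R.map π) := inferInstance
    obtain ⟨T, hT, hT'⟩ := h.lift (R.map π) U (adj.homEquiv _ _ s)
    refine ⟨T, hT, fun V f hf => ?_⟩
    obtain ⟨s', hs'⟩ := hT' f hf
    refine ⟨(adj.homEquiv _ _).symm s', ?_⟩
    apply (adj.homEquiv _ _).injective
    rw [adj.homEquiv_naturality_right, Equiv.apply_symm_apply, hs', Functor.comp_map,
      adj.homEquiv_naturality_left]
  sep {G} U s T hT hs := by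
    apply (adj.homEquiv _ _).injective
    have h0 : adj.homEquiv (fr'.obj U) G 0 = 0 := by
      rw [adj.homEquiv_unit, Functor.map_zero, comp_zero]
    rw [h0]
    apply h.sep U _ T hT
    intro V f hf
    rw [← adj.homEquiv_naturality_left]
    have := hs f hf
    rw [Functor.comp_map] at this
    rw [this, adj.homEquiv_unit, Functor.map_zero, comp_zero]
  gen {G G'} π hπ := by
    apply R.map_injective
    rw [Functor.map_zero]
    apply h.gen
    intro U s
    have := hπ U ((adj.homEquiv _ _).symm s)
    have h2 := congrArg (adj.homEquiv _ _) this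
    rw [adj.homEquiv_naturality_right, Equiv.apply_symm_apply] at h2
    rw [h2, adj.homEquiv_unit, Functor.map_zero, comp_zero]

end Groth.Agent.Lib.Helper17.Hyp
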