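import Groth.Agent.Lib.Helper17Hyp13
import Groth.Agent.Lib.Helper21ModCoh
import Groth.Prelude.Def_ModSite

/-!
# `LocFr` for sheaves of modules on a ringed site, and Ext comparison (helper17)
-/

set_option autoImplicit false
set_option linter.style.haveILetI false

universe u

open CategoryTheory CategoryTheory.Limits Opposite

namespace Groth.Agent.Lib.Helper17.Hyp

open Groth.Agent.Lib.Helper21 Groth.Agent.Lib.Helper21.FreeAb Groth.Agent.Lib.Helper21.TorsFree

variable {C : Type u} [SmallCategory C] {J : GrothendieckTopology C} (R : Sheaf J RingCat.{u})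

/-- `U ↦ R ⊗ ℤ_U`. -/
noncomputable def frModR : C ⥤ SheafOfModules.{u} R := frSh J ⋙ freeShR R

theorem locFr_frModR : LocFr J (frModR R) := by
  haveI : (SheafOfModules.toSheaf.{u} R).PreservesEpimorphisms :=
    preservesEpimorphisms_of_preservesColimitsOfShape _
  exact (locFr_frSh J).of_adjunction (freeShRAdj R)

theorem TF_freeSheaf (U : C) : TF (CohCx.freeSheaf J U) := by
  apply TF_of_mono_nsmul
  intro n hn
  haveI := mono_nsmul_pre (yoneda.obj U) n hn
  have h : (presheafToSheaf J AddCommGrpCat.{u}).map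
      (n • 𝟙 (yoneda.obj U ⋙ AddCommGrpCat.free.{u})) = n • 𝟙 (CohCx.freeSheaf J U) := by
    rw [Functor.map_nsmul]
    congr 1
    exact (presheafToSheaf J AddCommGrpCat.{u}).map_id _
  rw [← h]
  infer_instance

/-- `Ext^n_R(R ⊗ P, M) ≅ Ext^n(P, M_ab)` for `P` torsion-free. -/
theorem nonempty_ext_freeShR_iso [HasExt.{u} (SheafOfModules.{u} R)]
    (P : Sheaf J AddCommGrpCat.{u}) (hP : TF P)
    (M : SheafOfModules.{u} R) (n : ℕ) :
    Nonempty (AddCommGrpCat.of (Abelian.Ext.{u} ((freeShR R).obj P) M n) ≅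
      AddCommGrpCat.of (Abelian.Ext.{u} P ((SheafOfModules.toSheaf R).obj M) n)) := by
  haveI := Groth.Agent.S0484.result J R
  haveI : EnoughInjectives (SheafOfModules.{u} R) := inferInstance
  let E : SheafOfModules.{u} R ⥤ Sheaf J AddCommGrpCat.{u} := SheafOfModules.toSheaf R
  let G : Sheaf J AddCommGrpCat.{u} ⥤ AddCommGrpCat.{u} :=
    preadditiveCoyoneda.obj (op P)
  have hE : ∀ I : SheafOfModules.{u} R, Injective I → ∀ q : ℕ, 0 < q →
      IsZero ((G.rightDerived q).obj (E.obj I)) := by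
    intro Q hQ q hq
    obtain ⟨q, rfl⟩ : ∃ k, q = k + 1 := ⟨q - 1, by lia⟩
    obtain ⟨e⟩ := Groth.Agent.Lib.Helper23ExtRD.rightDerived_coyoneda_iso P (E.obj Q) (q + 1)
    refine IsZero.of_iso ?_ e
    haveI : Subsingleton (Abelian.Ext.{u} P (E.obj Q) (q + 1)) :=
      ⟨fun x y => (ext_toSheaf_eq_zero R Q q _ hP x).trans
        (ext_toSheaf_eq_zero R Q q _ hP y).symm⟩
    exact AddCommGrpCat.isZero_of_subsingleton _
  let iso : E ⋙ G ≅ preadditiveCoyoneda.obj (op ((freeShR R).obj P)) :=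
    adjCoyonedaIso (freeShRAdj R) P
  obtain ⟨e₁⟩ := Groth.Agent.Lib.Helper23ExtRD.rightDerived_coyoneda_iso
    ((freeShR R).obj P) M n
  let e₂ := (Groth.Agent.Lib.Helper23LocSS.rightDerivedIso iso n).app M
  obtain ⟨e₃⟩ := DerAcyc.nonempty_rightDerived_comp_iso E G hE M n
  obtain ⟨e₄⟩ := Groth.Agent.Lib.Helper23ExtRD.rightDerived_coyoneda_iso P (E.obj M) n
  exact ⟨e₁.symm ≪≫ e₂.symm ≪≫ e₃ ≪≫ e₄⟩

end Groth.Agent.Lib.Helper17.Hyp
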