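import Groth.Agent.Lib.Helper17Hyp10

/-!
# Cohomology of a derived limit with eventually constant local cohomology (helper17)
-/

set_option autoImplicit false

universe w w' v v' u u'

open CategoryTheory CategoryTheory.Limits HomologicalComplex DerivedCategory

namespace Groth.Agent.Lib.Helper17.Hyp

/-- compatible sequences through a given element of a tower with eventually surjective maps. -/
theorem exists_compatible : ∀ (N : ℕ) (G : ℕ → Type w') (t : ∀ n, G (n + 1) → G n)
    (_ : ∀ n, N ≤ n → Function.Surjective (t n)) (ξ : G N),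
    ∃ x : ∀ n, G n, (∀ n, t n (x (n + 1)) = x n) ∧ x N = ξ := by
  intro N
  induction N with
  | zero =>
    intro G t h ξ
    choose s hs using fun n => h n (Nat.zero_le n)
    refine ⟨fun n => Nat.rec (motive := fun n => G n) ξ (fun n xn => s n xn) n, fun n => ?_, rfl⟩
    exact hs n _
  | succ N ih =>
    intro G t h ξ
    obtain ⟨x', hx', hx'N⟩ := ih (fun n => G (n + 1)) (fun n => t (n + 1))
      (fun n hn => h (n + 1) (by omega)) ξ
    refine ⟨fun n => match n with
      | 0 => t 0 (x' 0)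
      | n + 1 => x' n, fun n => ?_, hx'N⟩
    cases n with
    | zero => rfl
    | succ n => exact hx' n

section Rlim

open Pretriangulated

variable {T : Type u'} [Category.{v'} T] [Preadditive T] [HasZeroObject T] [HasShift T ℤ]
    [∀ n : ℤ, (shiftFunctor T n).Additive] [Pretriangulated T]
    {K : ℕ → T} {t : ∀ n, K (n + 1) ⟶ K n}

omit [HasZeroObject T] [∀ n : ℤ, (shiftFunctor T n).Additive] [Pretriangulated T] in
/-- the transition maps of the tower `Hom(P, K_n[m])` are bijective from `N` on. -/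
def EvBij (P : T) (K : ℕ → T) (t : ∀ n, K (n + 1) ⟶ K n) (m : ℤ) (N : ℕ) : Prop :=
  ∀ n, N ≤ n → Function.Bijective (fun y : P ⟶ (K (n + 1))⟦m⟧ => y ≫ (t n)⟦m⟧')

omit [HasZeroObject T] [∀ n : ℤ, (shiftFunctor T n).Additive] [Pretriangulated T] in
lemma EvBij.mono {P : T} {m : ℤ} {N N' : ℕ} (h : EvBij P K t m N) (hN : N ≤ N') :
    EvBij P K t m N' := fun n hn => h n (le_trans hN hn)

theorem exists_lift_of_evBij [HasProduct K] {L : T} {a : ∀ n, L ⟶ K n}
    (hL : CohCx.IsRlimVia K t L a) (P : T) (m : ℤ) (N : ℕ)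
    (h : EvBij P K t m N) (ξ : P ⟶ (K N)⟦m⟧) : ∃ y : P ⟶ L⟦m⟧, y ≫ (a N)⟦m⟧' = ξ := by
  obtain ⟨x, hx, hxN⟩ := exists_compatible N (fun n => P ⟶ (K n)⟦m⟧)
    (fun n y => y ≫ (t n)⟦m⟧') (fun n hn => (h n hn).2) ξ
  obtain ⟨y, hy⟩ := (Groth.Agent.S0943.milnor_general hL P m).1 x hx
  exact ⟨y, by rw [hy, hxN]⟩

theorem good_of_evBij (P : T) (m : ℤ) (N : ℕ) (h1 : EvBij P K t (m - 1) N)
    (h2 : EvBij P K t m N) :
    CohCx.LimOneIsZero (fun n => P ⟶ (K n)⟦m - 1⟧)
        (fun n => Preadditive.rightComp _ ((t n)⟦m - 1⟧')) ∧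
      ∀ k : ℕ, Function.Injective (Preadditive.rightComp P
        ((CohCx.transition K t N k)⟦m⟧')) := by
  constructor
  · apply limOneIsZero_of_surjective N
    intro n hn
    exact (h1 n hn).2
  · intro k
    induction k with
    | zero =>
      intro y y' hyy
      change y ≫ (𝟙 _)⟦m⟧' = y' ≫ (𝟙 _)⟦m⟧' at hyy
      rwa [CategoryTheory.Functor.map_id, Category.comp_id, Category.comp_id] at hyy
    | succ k ih =>
      intro y y' hyy
      change y ≫ (t (N + k) ≫ CohCx.transition K t N k)⟦m⟧' =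
        y' ≫ (t (N + k) ≫ CohCx.transition K t N k)⟦m⟧' at hyy
      rw [Functor.map_comp, ← Category.assoc, ← Category.assoc] at hyy
      have h3 := ih hyy
      exact (h2 (N + k) (Nat.le_add_right _ _)).1 h3

end Rlim

variable {A : Type (v + 1)} [Category.{v} A] [Abelian A]
  {C : Type u'} [Category.{v'} C]
  {J : GrothendieckTopology C} {fr : C ⥤ A} [HasDerivedCategory.{w} A]

lemma isIso_homology_transition {K : ℕ → DerivedCategory A} {t : ∀ n, K (n + 1) ⟶ K n}
    (j : ℤ) (n : ℕ) (hiso : ∀ n', n ≤ n' → IsIso ((homologyFunctor A j).map (t n'))) (k : ℕ) :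
    IsIso ((homologyFunctor A j).map (CohCx.transition K t n k)) := by
  induction k with
  | zero =>
    change IsIso ((homologyFunctor A j).map (𝟙 _))
    rw [CategoryTheory.Functor.map_id]
    infer_instance
  | succ k ih =>
    change IsIso ((homologyFunctor A j).map (t (n + k) ≫ CohCx.transition K t n k))
    rw [Functor.map_comp]
    haveI := hiso (n + k) (Nat.le_add_right _ _)
    infer_instance

/-- Abstract form of S9064. -/
theorem isIso_homology_of_evBij [IsGrothendieckAbelian.{w'} A] (h : LocFr J fr)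
    {K : ℕ → DerivedCategory A} {t : ∀ n, K (n + 1) ⟶ K n} [HasProduct K]
    {L : DerivedCategory A} {a : ∀ n, L ⟶ K n} (hL : CohCx.IsRlimVia K t L a)
    (j : ℤ) (n : ℕ) (hiso : ∀ n', n ≤ n' → IsIso ((homologyFunctor A j).map (t n')))
    (hcov : ∀ U : C, ∃ R : Presieve U, Sieve.generate R ∈ J U ∧ ∀ ⦃V : C⦄ (g : V ⟶ U), R g →
      ∃ N : ℕ, n ≤ N ∧ ∀ T ∈ J V, ∃ R' : Presieve V, R' ≤ T ∧ Sieve.generate R' ∈ J V ∧
        ∀ ⦃W : C⦄ (g' : W ⟶ V), R' g' →
          EvBij (dsgl (fr.obj W)) K t (j - 1) N ∧ EvBij (dsgl (fr.obj W)) K t j N) :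
    IsIso ((homologyFunctor A j).map (a n)) := by
  have htr := isIso_homology_transition (K := K) (t := t) j n hiso
  have hfac : ∀ k, (homologyFunctor A j).map (a (n + k)) ≫
      (homologyFunctor A j).map (CohCx.transition K t n k) = (homologyFunctor A j).map (a n) :=
    fun k => by rw [← Functor.map_comp, isRlimVia_comp_transition hL]
  haveI : Mono ((homologyFunctor A j).map (a n)) := by
    apply Abelian.mono_of_kernel_ι_eq_zero
    apply h.gen
    intro U s
    obtain ⟨R, hR, hR'⟩ := hcov U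
    refine h.zero_of_generate U _ R hR ?_
    intro V g hg
    obtain ⟨N, hN, hgood⟩ := hR' g hg
    obtain ⟨k, rfl⟩ := Nat.exists_eq_add_of_le hN
    refine eq_zero_of_cofinal_good.{w, w'} h hL V j (n + k) ?_ _ ?_
    · intro T hT
      obtain ⟨R', h1, h2, h3⟩ := hgood T hT
      refine ⟨R', h1, h2, fun W g' hg' => ?_⟩
      exact good_of_evBij _ j (n + k) (h3 g' hg').1 (h3 g' hg').2
    · haveI := htr k
      rw [← cancel_mono ((homologyFunctor A j).map (CohCx.transition K t n k))]
      simp only [Category.assoc, zero_comp]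
      rw [hfac k, kernel.condition, comp_zero, comp_zero]
  haveI : Epi ((homologyFunctor A j).map (a n)) := by
    apply epi_of_local_lift h
    intro U s
    let S : Sieve U :=
      { arrows := fun W g₂ => ∃ s' : fr.obj W ⟶ (homologyFunctor A j).obj L,
          s' ≫ (homologyFunctor A j).map (a n) = fr.map g₂ ≫ s
        downward_closed := by
          rintro W W' g₂ ⟨s', hs'⟩ k
          exact ⟨fr.map k ≫ s', by rw [Category.assoc, hs', Functor.map_comp, Category.assoc]⟩ }
    suffices hS : S ∈ J U by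
      refine ⟨S.arrows, by rwa [Sieve.generate_sieve], fun V g hg => hg⟩
    obtain ⟨R, hR, hR'⟩ := hcov U
    refine J.transitive hR S ?_
    rintro Y _ ⟨V, k₀, g, hg, rfl⟩
    rw [Sieve.pullback_comp]
    apply J.pullback_stable
    obtain ⟨N, hN, hgood⟩ := hR' g hg
    obtain ⟨k, rfl⟩ := Nat.exists_eq_add_of_le hN
    haveI := htr k
    let sV : fr.obj V ⟶ (homologyFunctor A j).obj (K (n + k)) :=
      fr.map g ≫ s ≫ inv ((homologyFunctor A j).map (CohCx.transition K t n k))
    obtain ⟨T, hT, hT'⟩ := exists_lift_cm h (K (n + k)) j V sV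
    obtain ⟨R', h1, h2, h3⟩ := hgood T hT
    refine J.superset_covering ?_ h2
    rintro W' _ ⟨W, k', g', hg', rfl⟩
    apply Sieve.downward_closed
    obtain ⟨ξ, hξ⟩ := hT' g' (h1 _ _ hg')
    obtain ⟨y, hy⟩ := exists_lift_of_evBij hL _ j (n + k) (h3 g' hg').2 ξ
    refine ⟨cm y, ?_⟩
    rw [← hfac k, ← Category.assoc, ← cm_comp, hy, hξ]
    simp only [sV, Category.assoc, IsIso.inv_hom_id, Category.comp_id, Functor.map_comp]
  exact isIso_of_mono_of_epi _

end Groth.Agent.Lib.Helper17.Hyp
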