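import Groth.Agent.Lib.Helper17Hyp1

/-!
# Local lifting of cohomology classes (helper17)

`LocFr J fr`: a functor `fr : C ⥤ A` from a site to an abelian category behaving like the
"free sheaf on an object" functor.  Then `H^0(K)` is the "sheafification" of
`U ↦ Hom_{D(A)}(fr U [0], K)`: the canonical map `c₀` is locally surjective (`exists_lift_c₀`) and
locally injective (`exists_cover_eq_zero`).
-/

set_option autoImplicit false

universe w w' v v' u u'

open CategoryTheory CategoryTheory.Limits HomologicalComplex DerivedCategory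

namespace Groth.Agent.Lib.Helper17.Hyp

variable {A : Type u} [Category.{v} A] [Abelian A]
  {C : Type u'} [Category.{v'} C]

/-- `fr : C ⥤ A` behaves like the functor "free sheaf on an object" for the topology `J`. -/
structure LocFr (J : GrothendieckTopology C) (fr : C ⥤ A) : Prop where
  lift : ∀ {F G : A} (π : F ⟶ G) [Epi π] (U : C) (s : fr.obj U ⟶ G),
    ∃ T ∈ J U, ∀ ⦃V : C⦄ (f : V ⟶ U), T f → ∃ s' : fr.obj V ⟶ F, s' ≫ π = fr.map f ≫ s
  sep : ∀ {G : A} (U : C) (s : fr.obj U ⟶ G) (T : Sieve U), T ∈ J U →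
    (∀ ⦃V : C⦄ (f : V ⟶ U), T f → fr.map f ≫ s = 0) → s = 0
  gen : ∀ {G G' : A} (π : G ⟶ G'), (∀ (U : C) (s : fr.obj U ⟶ G), s ≫ π = 0) → π = 0

variable {J : GrothendieckTopology C} {fr : C ⥤ A} [HasDerivedCategory.{w} A]

/-- restriction of a class along `f : V ⟶ U`. -/
noncomputable abbrev res (fr : C ⥤ A) {U V : C} (f : V ⟶ U) {K : DerivedCategory A}
    (ξ : dsgl (fr.obj U) ⟶ K) : dsgl (fr.obj V) ⟶ K :=
  Q.map ((HomologicalComplex.single A (ComplexShape.up ℤ) 0).map (fr.map f)) ≫ ξ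

lemma c₀_res {U V : C} (f : V ⟶ U) {K : DerivedCategory A} (ξ : dsgl (fr.obj U) ⟶ K) :
    c₀ (res fr f ξ) = fr.map f ≫ c₀ ξ := c₀_precomp _ _

lemma res_comp {U V : C} (f : V ⟶ U) {K K' : DerivedCategory A} (ξ : dsgl (fr.obj U) ⟶ K)
    (φ : K ⟶ K') : res fr f (ξ ≫ φ) = res fr f ξ ≫ φ := (Category.assoc _ _ _).symm

lemma res_res {U V W : C} (f : V ⟶ U) (g : W ⟶ V) {K : DerivedCategory A}
    (ξ : dsgl (fr.obj U) ⟶ K) : res fr g (res fr f ξ) = res fr (g ≫ f) ξ := by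
  dsimp only [res]
  rw [← Category.assoc, ← Functor.map_comp, ← Functor.map_comp, ← Functor.map_comp]

lemma res_zero {U V : C} (f : V ⟶ U) {K : DerivedCategory A} :
    res fr f (0 : dsgl (fr.obj U) ⟶ K) = 0 := comp_zero

lemma single_map_comp_fromSingle₀ {P P' : A} (f : P ⟶ P') {M : CochainComplex A ℤ}
    (φ : P' ⟶ M.X 0) (hφ : φ ≫ M.d 0 1 = 0) :
    (HomologicalComplex.single A (ComplexShape.up ℤ) 0).map f ≫ fromSingle₀ φ hφ =
      fromSingle₀ (f ≫ φ) (by rw [Category.assoc, hφ, comp_zero]) := by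
  apply HomologicalComplex.from_single_hom_ext
  rw [HomologicalComplex.comp_f, fromSingle₀_f, fromSingle₀_f,
    HomologicalComplex.single_map_f_self, Category.assoc, Category.assoc, Iso.inv_hom_id_assoc]

/-- local surjectivity of `c₀`. -/
theorem exists_lift_c₀ (h : LocFr J fr) (K : DerivedCategory A) (U : C)
    (s : fr.obj U ⟶ (homologyFunctor A 0).obj K) :
    ∃ T ∈ J U, ∀ ⦃V : C⦄ (f : V ⟶ U), T f →
      ∃ ξ : dsgl (fr.obj V) ⟶ K, c₀ ξ = fr.map f ≫ s := by
  let M := Q.objPreimage K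
  let e : Q.obj M ≅ K := Q.objObjPreimageIso K
  let s' : fr.obj U ⟶ M.homology 0 :=
    s ≫ (homologyFunctor A 0).map e.inv ≫ (homologyFunctorFactors A 0).hom.app M
  obtain ⟨T, hT, hT'⟩ := h.lift (M.homologyπ 0) U s'
  refine ⟨T, hT, fun V f hf => ?_⟩
  obtain ⟨z, hz⟩ := hT' f hf
  have hφ : (z ≫ M.iCycles 0) ≫ M.d 0 1 = 0 := by
    rw [Category.assoc, HomologicalComplex.iCycles_d, comp_zero]
  refine ⟨Q.map (fromSingle₀ (z ≫ M.iCycles 0) hφ) ≫ e.hom, ?_⟩
  rw [c₀_comp]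
  have h1 : c₀ (Q.map (fromSingle₀ (z ≫ M.iCycles 0) hφ)) =
      fr.map f ≫ s ≫ (homologyFunctor A 0).map e.inv := by
    rw [← cancel_mono ((homologyFunctorFactors A 0).hom.app M), c₀_Q_map,
      homologyMap_fromSingle₀]
    have : M.liftCycles (z ≫ M.iCycles 0) 1 (by simp) hφ = z := by
      rw [← cancel_mono (M.iCycles 0), HomologicalComplex.liftCycles_i]
    rw [this, hz]
    simp only [s', Category.assoc]
    rfl
  rw [h1, Category.assoc, Category.assoc, ← Functor.map_comp, e.inv_hom_id,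
    CategoryTheory.Functor.map_id, Category.comp_id]

/-- local injectivity of `c₀`. -/
theorem exists_cover_eq_zero [IsGrothendieckAbelian.{w'} A] (h : LocFr J fr)
    (K : DerivedCategory A) (U : C) (ξ : dsgl (fr.obj U) ⟶ K) (hξ : c₀ ξ = 0) :
    ∃ T ∈ J U, ∀ ⦃V : C⦄ (f : V ⟶ U), T f → res fr f ξ = 0 := by
  let M := Q.objPreimage K
  obtain ⟨I, ι, hI, hι, -, -⟩ := KInj.exists_kInjective_resolution.{w'} A M
  haveI := hI
  haveI := hι
  let e : K ≅ Q.obj I := (Q.objObjPreimageIso K).symm ≪≫ asIso (Q.map ι)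
  obtain ⟨g, hg⟩ := KInj.exists_Q_map_eq (ξ ≫ e.hom)
  obtain ⟨φ, hφ, rfl⟩ := eq_fromSingle₀ g
  have h0 : I.liftCycles φ 1 (by simp) hφ ≫ I.homologyπ 0 = 0 := by
    rw [← homologyMap_fromSingle₀, ← c₀_Q_map, hg, c₀_comp, hξ, zero_comp, zero_comp]
    rfl
  -- exactness of `X^{-1} ⟶ Z^0 ⟶ H^0`
  let S : ShortComplex A := ShortComplex.mk (I.toCycles (-1) 0) (I.homologyπ 0) (by simp)
  have hS : S.Exact := S.exact_of_g_is_cokernel (I.homologyIsCokernel (-1) 0 (by simp))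
  haveI : Epi (kernel.lift S.g S.f S.zero) := S.exact_iff_epi_kernel_lift.1 hS
  let z' : fr.obj U ⟶ kernel S.g := kernel.lift S.g (I.liftCycles φ 1 (by simp) hφ) h0
  obtain ⟨T, hT, hT'⟩ := h.lift (kernel.lift S.g S.f S.zero) U z'
  refine ⟨T, hT, fun V f hf => ?_⟩
  obtain ⟨w, hw⟩ := hT' f hf
  have hwd : w ≫ I.d (-1) 0 = fr.map f ≫ φ := by
    have h1 := congrArg (fun x => x ≫ kernel.ι S.g ≫ I.iCycles 0) hw
    simp only [Category.assoc, z'] at h1
    rw [kernel.lift_ι_assoc, kernel.lift_ι_assoc] at h1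
    simpa [S] using h1
  rw [← cancel_mono e.hom, zero_comp]
  dsimp only [res]
  rw [Category.assoc, ← hg, ← Functor.map_comp, single_map_comp_fromSingle₀]
  have h2 : fromSingle₀ (fr.map f ≫ φ) (by rw [Category.assoc, hφ, comp_zero]) =
      fromSingle₀ (w ≫ I.d (-1) 0) (by rw [Category.assoc, I.d_comp_d, comp_zero]) := by
    congr 1
    exact hwd.symm
  rw [h2, Q_map_eq_of_homotopy (homotopyFromSingle₀ w _), Functor.map_zero]

end Groth.Agent.Lib.Helper17.Hyp
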