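import Groth.Agent.Lib.Helper17Hyp19
import Groth.Agent.Lib.Helper17AdjWay2

/-!
# Transport of derived limits along isomorphisms of towers and triangulated functors (helper17)
-/

set_option autoImplicit false

universe w w' v v' u u'

open CategoryTheory CategoryTheory.Limits

namespace Groth.Agent.Lib.Helper17.Hyp

section Tri

open Pretriangulated

variable {T : Type u} [Category.{v} T] [Preadditive T] [HasZeroObject T] [HasShift T ℤ]
    [∀ n : ℤ, (shiftFunctor T n).Additive] [Pretriangulated T]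

theorem isRlimVia_of_tower_iso {K K' : ℕ → T} {t : ∀ n, K (n + 1) ⟶ K n}
    {t' : ∀ n, K' (n + 1) ⟶ K' n} [HasProduct K] [HasProduct K']
    (e : ∀ n, K n ≅ K' n) (he : ∀ n, (e (n + 1)).hom ≫ t' n = t n ≫ (e n).hom)
    {L : T} {a : ∀ n, L ⟶ K n} (hL : CohCx.IsRlimVia K t L a) :
    CohCx.IsRlimVia K' t' L (fun n => a n ≫ (e n).hom) := by
  obtain ⟨c, hc⟩ := hL
  let E : ∏ᶜ K ≅ ∏ᶜ K' :=
    { hom := Limits.Pi.map (fun n => (e n).hom)
      inv := Limits.Pi.map (fun n => (e n).inv)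
      hom_inv_id := by
        apply Pi.hom_ext
        intro n
        simp
      inv_hom_id := by
        apply Pi.hom_ext
        intro n
        simp }
  refine ⟨E.inv ≫ c, isomorphic_distinguished _ hc _
    (Triangle.isoMk _ _ (Iso.refl L) E.symm E.symm ?_ ?_ ?_)⟩
  · change Pi.lift (fun n => a n ≫ (e n).hom) ≫ E.inv = 𝟙 _ ≫ Pi.lift a
    rw [Category.id_comp]
    apply Pi.hom_ext
    intro n
    simp [E]
  · change (Pi.lift fun n => Pi.π K' n - Pi.π K' (n + 1) ≫ t' n) ≫ E.inv =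
      E.inv ≫ (Pi.lift fun n => Pi.π K n - Pi.π K (n + 1) ≫ t n)
    apply Pi.hom_ext
    intro n
    have h1 : t' n ≫ (e n).inv = (e (n + 1)).inv ≫ t n := by
      rw [← cancel_mono (e n).hom, Category.assoc, Iso.inv_hom_id, Category.comp_id,
        Category.assoc, ← he, Iso.inv_hom_id_assoc]
    simp only [E, Category.assoc, Pi.map_π, Pi.lift_π, Preadditive.sub_comp,
      Preadditive.comp_sub, Pi.map_π_assoc, h1]
    rw [Pi.lift_π_assoc, Preadditive.sub_comp, Category.assoc, h1]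
  · change (E.inv ≫ c) ≫ (𝟙 L)⟦(1 : ℤ)⟧' = E.inv ≫ c
    rw [CategoryTheory.Functor.map_id, Category.comp_id]

variable {T' : Type u'} [Category.{v'} T'] [Preadditive T'] [HasZeroObject T'] [HasShift T' ℤ]
    [∀ n : ℤ, (shiftFunctor T' n).Additive] [Pretriangulated T']

theorem isRlimVia_map (G : T ⥤ T') [G.CommShift ℤ] [G.IsTriangulated]
    {K : ℕ → T} {t : ∀ n, K (n + 1) ⟶ K n} [HasProduct K]
    [HasProduct (fun n => G.obj (K n))] [PreservesLimit (Discrete.functor K) G]
    {L : T} {a : ∀ n, L ⟶ K n} (hL : CohCx.IsRlimVia K t L a) :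
    CohCx.IsRlimVia (fun n => G.obj (K n)) (fun n => G.map (t n)) (G.obj L)
      (fun n => G.map (a n)) := by
  obtain ⟨c, hc⟩ := hL
  have hG := G.map_distinguished _ hc
  let E : G.obj (∏ᶜ K) ≅ ∏ᶜ fun n => G.obj (K n) := PreservesProduct.iso G K
  have hE : ∀ n, E.hom ≫ Pi.π (fun n => G.obj (K n)) n = G.map (Pi.π K n) := fun n =>
    piComparison_comp_π G K n
  refine ⟨E.inv ≫ G.map c ≫ (G.commShiftIso (1 : ℤ)).hom.app L,
    isomorphic_distinguished _ hG _
      (Triangle.isoMk _ _ (Iso.refl _) E.symm E.symm ?_ ?_ ?_)⟩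
  · change Pi.lift (fun n => G.map (a n)) ≫ E.inv = 𝟙 _ ≫ G.map (Pi.lift a)
    rw [Category.id_comp, ← cancel_mono E.hom, Category.assoc, Iso.inv_hom_id, Category.comp_id]
    exact (map_lift_piComparison G K L a).symm
  · change (Pi.lift fun n => Pi.π (fun n => G.obj (K n)) n -
        Pi.π (fun n => G.obj (K n)) (n + 1) ≫ G.map (t n)) ≫ E.inv =
      E.inv ≫ G.map (Pi.lift fun n => Pi.π K n - Pi.π K (n + 1) ≫ t n)
    rw [← cancel_mono E.hom, Category.assoc, Iso.inv_hom_id, Category.comp_id, Category.assoc]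
    rw [← cancel_epi E.hom, Iso.hom_inv_id_assoc]
    apply Pi.hom_ext
    intro n
    rw [Category.assoc, Category.assoc, hE, ← Functor.map_comp, Pi.lift_π, Pi.lift_π,
      Functor.map_sub, Functor.map_comp, Preadditive.comp_sub, hE, ← Category.assoc, hE]
  · change (E.inv ≫ G.map c ≫ (G.commShiftIso (1 : ℤ)).hom.app L) ≫ (𝟙 _)⟦(1 : ℤ)⟧' =
      E.inv ≫ G.map c ≫ (G.commShiftIso (1 : ℤ)).hom.app L
    erw [CategoryTheory.Functor.map_id, Category.comp_id]

end Tri

end Groth.Agent.Lib.Helper17.Hyp
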