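import Groth.Agent.Lib.Helper17Hyp20

/-!
# `F^* : D_{PA}(A) ≃ D_{PB}(B) : R` on unbounded derived categories (helper17)

Abstract form of S9070 / S9080.
-/

set_option autoImplicit false

universe w w' v v' u u'

open CategoryTheory CategoryTheory.Limits

namespace Groth.Agent.Lib.Helper17.Hyp

open DerivedCategory Groth.Agent.S14388 Groth.Agent.Lib.Helper17.AdjWay

section

variable {A : Type (v + 1)} [Category.{v} A] [Abelian A] [HasDerivedCategory.{w} A]
  {B : Type (v' + 1)} [Category.{v'} B] [Abelian B] [HasDerivedCategory.{w'} B]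
  (F : A ⥤ B) [F.Additive] [PreservesFiniteLimits F] [PreservesFiniteColimits F]

lemma exists_truncGEMapIso (Y : DerivedCategory A) (a : ℤ) :
    ∃ e : (tt.truncGE a).obj (F.mapDerivedCategory.obj Y) ≅
        F.mapDerivedCategory.obj ((tt.truncGE a).obj Y),
      (tt.truncGEπ a).app (F.mapDerivedCategory.obj Y) ≫ e.hom =
        F.mapDerivedCategory.map ((tt.truncGEπ a).app Y) := by
  haveI : (F.mapDerivedCategory.obj ((tt.truncGE a).obj Y)).IsGE a := isGE_map F _ a
  haveI : IsIso ((tt.truncGE a).map (F.mapDerivedCategory.map ((tt.truncGEπ a).app Y))) := by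
    have hT := F.mapDerivedCategory.map_distinguished _ (tt.triangleLTGE_distinguished a Y)
    haveI : (F.mapDerivedCategory.obj ((tt.truncLT a).obj Y)).IsLE (a - 1) :=
      isLE_map F _ (a - 1)
    exact tt.isIso₂_truncGE_map_of_isLE _ hT (a - 1) a (by omega)
      (show tt.IsLE (F.mapDerivedCategory.obj ((tt.truncLT a).obj Y)) (a - 1) from inferInstance)
  refine ⟨asIso ((tt.truncGE a).map (F.mapDerivedCategory.map ((tt.truncGEπ a).app Y))) ≪≫
    (asIso ((tt.truncGEπ a).app _)).symm, ?_⟩
  change _ ≫ (tt.truncGE a).map _ ≫ inv ((tt.truncGEπ a).app _) = _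
  rw [← Category.assoc, IsIso.comp_inv_eq]
  exact tt.truncGEπ_naturality a _

theorem isRlimVia_map_truncTower (Y : DerivedCategory A)
    [HasProduct (CohCx.truncTower (F.mapDerivedCategory.obj Y))]
    [HasProduct (fun n => F.mapDerivedCategory.obj (CohCx.truncTower Y n))]
    (h : CohCx.IsRlimVia (CohCx.truncTower (F.mapDerivedCategory.obj Y))
      (CohCx.truncTowerMap (F.mapDerivedCategory.obj Y)) (F.mapDerivedCategory.obj Y)
      (CohCx.toTruncTower (F.mapDerivedCategory.obj Y))) :
    CohCx.IsRlimVia (fun n => F.mapDerivedCategory.obj (CohCx.truncTower Y n))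
      (fun n => F.mapDerivedCategory.map (CohCx.truncTowerMap Y n)) (F.mapDerivedCategory.obj Y)
      (fun n => F.mapDerivedCategory.map (CohCx.toTruncTower Y n)) := by
  choose e he using fun n : ℕ => exists_truncGEMapIso F Y (-(n : ℤ))
  have key := isRlimVia_of_tower_iso
    (K' := fun n => F.mapDerivedCategory.obj (CohCx.truncTower Y n))
    (t' := fun n => F.mapDerivedCategory.map (CohCx.truncTowerMap Y n)) e ?_ h
  · have : (fun n => CohCx.toTruncTower (F.mapDerivedCategory.obj Y) n ≫ (e n).hom) =
        fun n => F.mapDerivedCategory.map (CohCx.toTruncTower Y n) := funext he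
    rwa [this] at key
  · intro n
    haveI : (F.mapDerivedCategory.obj (CohCx.truncTower Y n)).IsGE (-(n : ℤ)) :=
      isGE_map F _ _
    haveI : tt.IsGE (F.mapDerivedCategory.obj (CohCx.truncTower Y n)) (-((n + 1 : ℕ) : ℤ)) :=
      tt.isGE_of_ge _ (-((n + 1 : ℕ) : ℤ)) (-(n : ℤ)) (by push_cast; omega)
    apply tt.from_truncGE_obj_ext
    rw [← Category.assoc, he, ← Functor.map_comp, ← Category.assoc]
    have h1 := toTruncTower_comp_truncTowerMap Y n
    have h2 := toTruncTower_comp_truncTowerMap (F.mapDerivedCategory.obj Y) n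
    dsimp only [CohCx.toTruncTower, CohCx.truncTowerMap, CohCx.truncTower] at h1 h2
    rw [h1, h2]
    exact (he n).symm

end

end Groth.Agent.Lib.Helper17.Hyp
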