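import Groth.Agent.Lib.Helper17Hyp21

/-!
# `F^* : D_{PA}(A) ≃ D_{PB}(B) : R` on unbounded derived categories, main theorem (helper17)
-/

set_option autoImplicit false

universe w w' v v' u u'

open CategoryTheory CategoryTheory.Limits

namespace Groth.Agent.Lib.Helper17.Hyp

open DerivedCategory Groth.Agent.S14388 Groth.Agent.Lib.Helper17.AdjWay

section

variable {A : Type (v + 1)} [Category.{v} A] [Abelian A] [HasDerivedCategory.{w} A]
  {B : Type (v' + 1)} [Category.{v'} B] [Abelian B] [HasDerivedCategory.{w'} B]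
  (F : A ⥤ B) [F.Additive] [PreservesFiniteLimits F] [PreservesFiniteColimits F]

omit [HasDerivedCategory.{w} A] [HasDerivedCategory.{w'} B] [PreservesFiniteLimits F]
  [PreservesFiniteColimits F] [F.Additive] [Abelian A] [Abelian B] in
/-- a functor which is fully faithful on a class of objects reflects isomorphisms there. -/
lemma isIso_of_isIso_map (PA : ObjectProperty A)
    (h2b : ∀ M N : A, PA M → PA N → Function.Bijective (fun φ : M ⟶ N => F.map φ))
    {M N : A} (hM : PA M) (hN : PA N) (φ : M ⟶ N) (h : IsIso (F.map φ)) : IsIso φ := by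
  obtain ⟨ψ, hψ⟩ := (h2b N M hN hM).2 (inv (F.map φ))
  dsimp only at hψ
  refine ⟨ψ, (h2b M M hM hM).1 ?_, (h2b N N hN hN).1 ?_⟩
  · dsimp only
    rw [Functor.map_comp, hψ, IsIso.hom_inv_id, CategoryTheory.Functor.map_id]
  · dsimp only
    rw [Functor.map_comp, hψ, IsIso.inv_hom_id, CategoryTheory.Functor.map_id]

lemma cohInPlus_truncTower (P : ObjectProperty A) [WSerre.IsWeakSerre P] (X : DerivedCategory A)
    (hX : WSerre.cohIn P X) (n : ℕ) : WSerre.cohInPlus P (CohCx.truncTower X n) :=
  ⟨fun i => WayOut.prop_truncGE P (fun Z hZ => P.prop_of_isZero hZ) X _ hX i,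
    -(n : ℤ), (inferInstance : tt.IsGE ((tt.truncGE (-(n : ℤ))).obj X) (-(n : ℤ)))⟩

lemma isIso_homology_truncTowerMap (X : DerivedCategory A) (j : ℤ) (n : ℕ) (hn : -(n : ℤ) ≤ j) :
    IsIso ((homologyFunctor A j).map (CohCx.truncTowerMap X n)) := by
  have h1 := toTruncTower_comp_truncTowerMap X n
  haveI := isIso_homology_truncGEπ (-(n : ℤ)) j hn X
  haveI := isIso_homology_truncGEπ (-((n + 1 : ℕ) : ℤ)) j (by push_cast; omega) X
  have h2 : (homologyFunctor A j).map (CohCx.toTruncTower X (n + 1)) ≫
      (homologyFunctor A j).map (CohCx.truncTowerMap X n) =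
      (homologyFunctor A j).map (CohCx.toTruncTower X n) := by
    rw [← Functor.map_comp, h1]
  exact IsIso.of_isIso_fac_left h2

end

section Main

variable {A : Type (v + 1)} [Category.{v} A] [Abelian A] [HasDerivedCategory.{w} A]
  {B : Type (v' + 1)} [Category.{v'} B] [Abelian B] [HasDerivedCategory.{w'} B]
  (F : A ⥤ B) [F.Additive] [PreservesFiniteLimits F] [PreservesFiniteColimits F]
  (R : DerivedCategory B ⥤ DerivedCategory A) (adj : F.mapDerivedCategory ⊣ R)
  (PA : ObjectProperty A) [WSerre.IsWeakSerre PA] (PB : ObjectProperty B) [WSerre.IsWeakSerre PB]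
  [HasLimitsOfShape (Discrete ℕ) (DerivedCategory A)]
  [HasLimitsOfShape (Discrete ℕ) (DerivedCategory B)]

include adj in
/-- Abstract form of S9070 / S9080. -/
theorem unbounded_equivalence
    (h2a : ∀ M : A, PA M → PB (F.obj M))
    (h2c : ∀ N : B, PB N → ∃ M : A, PA M ∧ Nonempty (F.obj M ≅ N))
    (h3 : ∀ M : A, PA M → IsIso (adj.unit.app ((singleFunctor A 0).obj M)))
    (HB : ∀ X : DerivedCategory B, WSerre.cohIn PB X →
      CohCx.IsRlimVia (CohCx.truncTower X) (CohCx.truncTowerMap X) X (CohCx.toTruncTower X))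
    (SA : ∀ (X : ℕ → DerivedCategory B) (t : ∀ n, X (n + 1) ⟶ X n),
      (∀ n, WSerre.cohInPlus PB (X n)) →
      (∀ j : ℤ, ∃ n₀ : ℕ, ∀ n, n₀ ≤ n → IsIso ((homologyFunctor B j).map (t n))) →
      ∀ (L : DerivedCategory A) (a : ∀ n, L ⟶ R.obj (X n)),
        CohCx.IsRlimVia (fun n => R.obj (X n)) (fun n => R.map (t n)) L a →
        ∀ j : ℤ, ∃ n₀ : ℕ, ∀ n, n₀ ≤ n → IsIso ((homologyFunctor A j).map (a n))) :
    (∀ Y : DerivedCategory A, WSerre.cohIn PA Y →
      WSerre.cohIn PB (F.mapDerivedCategory.obj Y) ∧ IsIso (adj.unit.app Y)) ∧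
    (∀ X : DerivedCategory B, WSerre.cohIn PB X →
      WSerre.cohIn PA (R.obj X) ∧ IsIso (adj.counit.app X)) := by
  letI : R.CommShift ℤ := adj.rightAdjointCommShift ℤ
  haveI : adj.CommShift ℤ := adj.commShift_of_leftAdjoint ℤ
  haveI : R.IsTriangulated := adj.isTriangulated_rightAdjoint
  haveI : PreservesLimitsOfSize.{0, 0} R := adj.rightAdjoint_preservesLimits
  obtain ⟨plus1, plus2⟩ := plus_equivalence F R adj PA PB h2c h3 h2a
  constructor
  · intro Y hY
    have hFY : WSerre.cohIn PB (F.mapDerivedCategory.obj Y) := cohIn_map F PA PB h2a Y hY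
    refine ⟨hFY, ?_⟩
    -- the tower
    have hYn : ∀ n, WSerre.cohInPlus PA (CohCx.truncTower Y n) :=
      fun n => cohInPlus_truncTower PA Y hY n
    have hFYn : ∀ n, WSerre.cohInPlus PB (F.mapDerivedCategory.obj (CohCx.truncTower Y n)) :=
      fun n => (plus1 _ (hYn n)).1
    have hη : ∀ n, IsIso (adj.unit.app (CohCx.truncTower Y n)) := fun n => (plus1 _ (hYn n)).2
    have hconst : ∀ j : ℤ, ∃ n₀ : ℕ, ∀ n, n₀ ≤ n → IsIso ((homologyFunctor B j).map
        (F.mapDerivedCategory.map (CohCx.truncTowerMap Y n))) := by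
      intro j
      refine ⟨(-j).toNat, fun n hn => ?_⟩
      rw [isIso_homology_map_iff]
      haveI := isIso_homology_truncTowerMap Y j n (by omega)
      infer_instance
    have h1 := isRlimVia_map_truncTower F Y (HB _ hFY)
    have h2 := isRlimVia_map R h1
    have h3' := SA _ _ hFYn hconst _ _ h2
    rw [DerivedCategory.isIso_iff]
    intro j
    obtain ⟨n₀, hn₀⟩ := h3' j
    let n := max n₀ (-j).toNat
    haveI := hn₀ n (le_max_left _ _)
    haveI := hη n
    haveI := isIso_homology_truncGEπ (-(n : ℤ)) j (by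
      have : (-j).toNat ≤ n := le_max_right _ _
      omega) Y
    have hnat := adj.unit.naturality (CohCx.toTruncTower Y n)
    simp only [Functor.id_map, Functor.comp_map] at hnat
    have hnat' : (homologyFunctor A j).map (adj.unit.app Y) ≫ (homologyFunctor A j).map
        (R.map (F.mapDerivedCategory.map (CohCx.toTruncTower Y n))) =
        (homologyFunctor A j).map (CohCx.toTruncTower Y n) ≫
          (homologyFunctor A j).map (adj.unit.app (CohCx.truncTower Y n)) := by
      rw [← Functor.map_comp, ← Functor.map_comp, hnat]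
    haveI : IsIso ((homologyFunctor A j).map (adj.unit.app Y) ≫ (homologyFunctor A j).map
        (R.map (F.mapDerivedCategory.map (CohCx.toTruncTower Y n)))) := by
      rw [hnat']
      infer_instance
    exact IsIso.of_isIso_comp_right _ ((homologyFunctor A j).map
        (R.map (F.mapDerivedCategory.map (CohCx.toTruncTower Y n))))
  · intro X hX
    have hXn : ∀ n, WSerre.cohInPlus PB (CohCx.truncTower X n) :=
      fun n => cohInPlus_truncTower PB X hX n
    have hRXn : ∀ n, WSerre.cohInPlus PA (R.obj (CohCx.truncTower X n)) :=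
      fun n => (plus2 _ (hXn n)).1
    have hε : ∀ n, IsIso (adj.counit.app (CohCx.truncTower X n)) := fun n => (plus2 _ (hXn n)).2
    have hconst : ∀ j : ℤ, ∃ n₀ : ℕ, ∀ n, n₀ ≤ n → IsIso ((homologyFunctor B j).map
        (CohCx.truncTowerMap X n)) := by
      intro j
      exact ⟨(-j).toNat, fun n hn => isIso_homology_truncTowerMap X j n (by omega)⟩
    have h2 := isRlimVia_map R (HB X hX)
    have h3' := SA _ _ hXn hconst _ _ h2
    constructor
    · intro j
      obtain ⟨n₀, hn₀⟩ := h3' j
      haveI := hn₀ n₀ le_rfl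
      exact PA.prop_of_iso (asIso ((homologyFunctor A j).map
        (R.map (CohCx.toTruncTower X n₀)))).symm ((hRXn n₀).1 j)
    · rw [DerivedCategory.isIso_iff]
      intro j
      obtain ⟨n₀, hn₀⟩ := h3' j
      let n := max n₀ (-j).toNat
      haveI := hn₀ n (le_max_left _ _)
      haveI := hε n
      haveI := isIso_homology_truncGEπ (-(n : ℤ)) j (by
        have : (-j).toNat ≤ n := le_max_right _ _
        omega) X
      have hnat := adj.counit.naturality (CohCx.toTruncTower X n)
      simp only [Functor.id_map, Functor.comp_map] at hnat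
      haveI : IsIso ((homologyFunctor B j).map
          (F.mapDerivedCategory.map (R.map (CohCx.toTruncTower X n)))) := by
        rw [isIso_homology_map_iff]
        infer_instance
      have hnat' : (homologyFunctor B j).map
          (F.mapDerivedCategory.map (R.map (CohCx.toTruncTower X n))) ≫
          (homologyFunctor B j).map (adj.counit.app (CohCx.truncTower X n)) =
          (homologyFunctor B j).map (adj.counit.app X) ≫
            (homologyFunctor B j).map (CohCx.toTruncTower X n) := by
        rw [← Functor.map_comp, ← Functor.map_comp, hnat]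
      haveI : IsIso ((homologyFunctor B j).map (adj.counit.app X) ≫
          (homologyFunctor B j).map (CohCx.toTruncTower X n)) := by
        rw [← hnat']
        infer_instance
      exact IsIso.of_isIso_comp_right _ ((homologyFunctor B j).map (CohCx.toTruncTower X n))

end Main

end Groth.Agent.Lib.Helper17.Hyp
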