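import Groth.Agent.Lib.Helper17Hyp22

/-!
# `R` preserves cohomology isomorphisms between objects of `D^+_{PB}` (helper17)
-/

set_option autoImplicit false

universe w w' v v' u u'

open CategoryTheory CategoryTheory.Limits

namespace Groth.Agent.Lib.Helper17.Hyp

open DerivedCategory Groth.Agent.S14388 Groth.Agent.Lib.Helper17.AdjWay

variable {A : Type (v + 1)} [Category.{v} A] [Abelian A] [HasDerivedCategory.{w} A]
  {B : Type (v' + 1)} [Category.{v'} B] [Abelian B] [HasDerivedCategory.{w'} B]
  (F : A ⥤ B) [F.Additive] [PreservesFiniteLimits F] [PreservesFiniteColimits F]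
  (R : DerivedCategory B ⥤ DerivedCategory A) (adj : F.mapDerivedCategory ⊣ R)
  (PA : ObjectProperty A) [WSerre.IsWeakSerre PA] (PB : ObjectProperty B) [WSerre.IsWeakSerre PB]

include adj in
theorem isIso_homology_right_map
    (h2a : ∀ M : A, PA M → PB (F.obj M))
    (h2b : ∀ M N : A, PA M → PA N → Function.Bijective (fun φ : M ⟶ N => F.map φ))
    (h2c : ∀ N : B, PB N → ∃ M : A, PA M ∧ Nonempty (F.obj M ≅ N))
    (h3 : ∀ M : A, PA M → IsIso (adj.unit.app ((singleFunctor A 0).obj M)))
    {X' X : DerivedCategory B} (hX' : WSerre.cohInPlus PB X') (hX : WSerre.cohInPlus PB X)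
    (t : X' ⟶ X) (j : ℤ) (h : IsIso ((homologyFunctor B j).map t)) :
    IsIso ((homologyFunctor A j).map (R.map t)) := by
  obtain ⟨-, plus2⟩ := plus_equivalence F R adj PA PB h2c h3 h2a
  obtain ⟨hRX', hε'⟩ := plus2 X' hX'
  obtain ⟨hRX, hε⟩ := plus2 X hX
  have hnat := adj.counit.naturality t
  simp only [Functor.id_map, Functor.comp_map] at hnat
  have h1 : IsIso ((homologyFunctor B j).map (F.mapDerivedCategory.map (R.map t))) := by
    have e : (homologyFunctor B j).map (F.mapDerivedCategory.map (R.map t)) =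
        (homologyFunctor B j).map (adj.counit.app X') ≫ (homologyFunctor B j).map t ≫
          inv ((homologyFunctor B j).map (adj.counit.app X)) := by
      rw [← Category.assoc, IsIso.eq_comp_inv, ← Functor.map_comp, ← Functor.map_comp, hnat]
    rw [e]
    infer_instance
  rw [isIso_homology_map_iff] at h1
  exact isIso_of_isIso_map F PA h2b (hRX'.1 j) (hRX.1 j) _ h1

end Groth.Agent.Lib.Helper17.Hyp
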