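import Groth.Agent.Lib.Helper17Hyp16

/-!
# Transport of `EvBij` along an adjunction and along isomorphisms (helper17)
-/

set_option autoImplicit false

universe w w' v v' u u'

open CategoryTheory CategoryTheory.Limits

namespace Groth.Agent.Lib.Helper17.Hyp

section

open Pretriangulated

variable {T : Type u} [Category.{v} T] [Preadditive T] [HasShift T ℤ]
  {T' : Type u'} [Category.{v'} T'] [Preadditive T'] [HasShift T' ℤ]

lemma EvBij.of_iso {P P' : T} (e : P ≅ P') {K : ℕ → T} {t : ∀ n, K (n + 1) ⟶ K n} {m : ℤ}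
    {N : ℕ} (h : EvBij P K t m N) : EvBij P' K t m N := by
  intro n hn
  have hb := h n hn
  constructor
  · intro y y' hyy
    dsimp only at hyy
    have := hb.1 (a₁ := e.hom ≫ y) (a₂ := e.hom ≫ y') (by
      dsimp only
      rw [Category.assoc, Category.assoc, hyy])
    exact (cancel_epi e.hom).1 this
  · intro z
    obtain ⟨y, hy⟩ := hb.2 (e.hom ≫ z)
    dsimp only at hy
    exact ⟨e.inv ≫ y, by
      dsimp only
      rw [Category.assoc, hy, Iso.inv_hom_id_assoc]⟩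

variable {G : T ⥤ T'} {R : T' ⥤ T} (adj : G ⊣ R) [R.CommShift ℤ]

/-- `Hom(P, (R X)[m]) ≃ Hom(G P, X[m])`. -/
noncomputable def adjShiftEquiv (P : T) (X : T') (m : ℤ) :
    (P ⟶ (R.obj X)⟦m⟧) ≃ (G.obj P ⟶ X⟦m⟧) where
  toFun y := (adj.homEquiv P (X⟦m⟧)).symm (y ≫ (R.commShiftIso m).inv.app X)
  invFun z := adj.homEquiv P (X⟦m⟧) z ≫ (R.commShiftIso m).hom.app X
  left_inv y := by
    dsimp only
    rw [Equiv.apply_symm_apply, Category.assoc, Iso.inv_hom_id_app]
    exact Category.comp_id _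
  right_inv z := by
    dsimp only
    rw [Category.assoc, Iso.hom_inv_id_app]
    erw [Category.comp_id]
    rw [Equiv.symm_apply_apply]

lemma adjShiftEquiv_comp (P : T) {X X' : T'} (φ : X ⟶ X') (m : ℤ) (y : P ⟶ (R.obj X)⟦m⟧) :
    adjShiftEquiv adj P X' m (y ≫ (R.map φ)⟦m⟧') = adjShiftEquiv adj P X m y ≫ φ⟦m⟧' := by
  change (adj.homEquiv P (X'⟦m⟧)).symm ((y ≫ (R.map φ)⟦m⟧') ≫ (R.commShiftIso m).inv.app X') =
    (adj.homEquiv P (X⟦m⟧)).symm (y ≫ (R.commShiftIso m).inv.app X) ≫ φ⟦m⟧'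
  rw [← adj.homEquiv_naturality_right_symm, Category.assoc, Category.assoc]
  congr 2
  exact (R.commShiftIso m).inv.naturality φ

include adj in
theorem EvBij.of_adjunction (P : T) {X : ℕ → T'} {t : ∀ n, X (n + 1) ⟶ X n} {m : ℤ} {N : ℕ}
    (h : EvBij (G.obj P) X t m N) :
    EvBij P (fun n => R.obj (X n)) (fun n => R.map (t n)) m N := by
  intro n hn
  have hb := h n hn
  have hfun : (fun y : P ⟶ (R.obj (X (n + 1)))⟦m⟧ => y ≫ (R.map (t n))⟦m⟧') =
      (adjShiftEquiv adj P (X n) m).symm ∘ (fun z : G.obj P ⟶ (X (n + 1))⟦m⟧ => z ≫ (t n)⟦m⟧') ∘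
        (adjShiftEquiv adj P (X (n + 1)) m) := by
    funext y
    dsimp only [Function.comp]
    rw [← adjShiftEquiv_comp, Equiv.symm_apply_apply]
  rw [hfun]
  exact (Equiv.bijective _).comp (hb.comp (Equiv.bijective _))

end

end Groth.Agent.Lib.Helper17.Hyp
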