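import Groth.Agent.Lib.Helper17Hyp23
import Groth.Agent.Lib.Helper17Hyp24
import Groth.Agent.Lib.Helper17Hyp25
import Groth.Agent.Lib.Helper17Hyp26
import Groth.Prelude.Def_SiteCmp

/-!
# S9080: the condition on the target site through the underlying functor (helper17)
-/

set_option autoImplicit false
set_option linter.style.haveILetI false

universe w w' u

open CategoryTheory CategoryTheory.Limits Opposite

namespace Groth.Agent.Lib.Helper17.Hyp

open DerivedCategory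

variable {C : Type u} [SmallCategory C] {J : GrothendieckTopology C} {O_C : Sheaf J CommRingCat.{u}}
  {D : Type u} [SmallCategory D] {K : GrothendieckTopology D} {O_D : Sheaf K CommRingCat.{u}}
  [HasDerivedCategory.{w} (ModSite.Mod O_C)] [HasDerivedCategory.{w'} (ModSite.Mod O_D)]
  (f : ModSite.RMor O_C O_D) [PreservesFiniteLimits f.pull]
  (R : DerivedCategory (ModSite.Mod O_C) ⥤ DerivedCategory (ModSite.Mod O_D))
  (adj : f.pull.mapDerivedCategory ⊣ R)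
  (A : ObjectProperty (ModSite.Mod O_C)) [WSerre.IsWeakSerre A]
  (A' : ObjectProperty (ModSite.Mod O_D)) [WSerre.IsWeakSerre A']

include adj in
theorem isIso_homology_rlim_push
    (h2a : ∀ F' : ModSite.Mod O_D, A' F' → A (f.pull.obj F'))
    (h2b : ∀ F' G' : ModSite.Mod O_D, A' F' → A' G' →
      Function.Bijective (fun φ : F' ⟶ G' => f.pull.map φ))
    (h2c : ∀ F : ModSite.Mod O_C, A F → ∃ F' : ModSite.Mod O_D, A' F' ∧
      Nonempty (f.pull.obj F' ≅ F))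
    (h3 : ∀ F' : ModSite.Mod O_D, A' F' →
      IsIso (adj.unit.app ((singleFunctor (ModSite.Mod O_D) 0).obj F')))
    (B' : Set D)
    (hB' : ∀ U : D, ∃ (ι : Type u) (Y : ι → D) (g : ∀ i, Y i ⟶ U),
      Sieve.ofArrows Y g ∈ K U ∧ ∀ i, Y i ∈ B')
    (hA' : ∀ V ∈ B', ∃ d : ℕ, ∀ T ∈ K V, ∃ (ι : Type u) (Y : ι → D) (g : ∀ i, Y i ⟶ V),
      (∀ i, T.arrows (g i)) ∧ Sieve.ofArrows Y g ∈ K V ∧
      ∀ (i : ι) (F : ModSite.Mod O_C), A F → ∀ k : ℕ, d < k →
        Subsingleton (ModSite.HU O_C F k (f.fn.obj (Y i))))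
    (X : ℕ → DerivedCategory (ModSite.Mod O_C)) (t : ∀ n, X (n + 1) ⟶ X n)
    (hXn : ∀ n, WSerre.cohInPlus A (X n))
    (hconst : ∀ j : ℤ, ∃ n₀ : ℕ, ∀ n, n₀ ≤ n →
      IsIso ((homologyFunctor (ModSite.Mod O_C) j).map (t n)))
    [HasProduct (fun n => R.obj (X n))]
    (L : DerivedCategory (ModSite.Mod O_D)) (a : ∀ n, L ⟶ R.obj (X n))
    (hL : CohCx.IsRlimVia (fun n => R.obj (X n)) (fun n => R.map (t n)) L a) (j : ℤ) :
    ∃ n₀ : ℕ, ∀ n, n₀ ≤ n → IsIso ((homologyFunctor (ModSite.Mod O_D) j).map (a n)) := by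
  haveI := Groth.Agent.S0484.result K (ModSite.ringSh O_D)
  have hfr := locFr_frModR (ModSite.ringSh O_D)
  letI : R.CommShift ℤ := adj.rightAdjointCommShift ℤ
  choose n₀ hn₀ using hconst
  refine ⟨n₀ j, fun n hn => ?_⟩
  apply isIso_homology_of_evBij.{_, u} hfr hL j n (fun n' hn' =>
    isIso_homology_right_map f.pull R adj A' A h2a h2b h2c h3 (hXn (n' + 1)) (hXn n') (t n') j
      (hn₀ j n' (le_trans hn hn')))
  intro U
  obtain ⟨ι, Y₀, g, hcov, hYB⟩ := hB' U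
  refine ⟨Presieve.ofArrows Y₀ g, hcov, ?_⟩
  rintro V _ ⟨i⟩
  obtain ⟨d, hd⟩ := hA' (Y₀ i) (hYB i)
  let N := max n ((Finset.Icc (j - d - 2) (j + 1)).sup n₀)
  have hN : ∀ q : ℤ, j - d - 2 ≤ q → q ≤ j + 1 → n₀ q ≤ N := fun q h1 h2 =>
    le_trans (Finset.le_sup (f := n₀) (Finset.mem_Icc.2 ⟨h1, h2⟩)) (le_max_right _ _)
  refine ⟨N, le_max_left _ _, fun T hT => ?_⟩
  obtain ⟨ι', Y₁, g', hg', hcov', hvan⟩ := hd T hT
  refine ⟨Presieve.ofArrows Y₁ g', ?_, hcov', ?_⟩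
  · rintro W _ ⟨i'⟩
    exact hg' i'
  · rintro W _ ⟨i'⟩
    have hP : ∀ F : ModSite.Mod O_C, A F → ∀ k : ℕ, d < k →
        Subsingleton (dsgl ((frModR (ModSite.ringSh O_C)).obj (f.fn.obj (Y₁ i'))) ⟶
          ((singleFunctor (ModSite.Mod O_C) 0).obj F)⟦(k : ℤ)⟧) :=
      fun F hF k hk => subsingleton_hom_of_HU' O_C (f.fn.obj (Y₁ i')) F k (hvan i' F hF k hk)
    haveI : (dsgl ((frModR (ModSite.ringSh O_C)).obj (f.fn.obj (Y₁ i')))).IsLE 0 :=
      inferInstanceAs (((singleFunctor (ModSite.Mod O_C) 0).obj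
        ((frModR (ModSite.ringSh O_C)).obj (f.fn.obj (Y₁ i')))).IsLE 0)
    have hC : ∀ m : ℤ, (∀ q : ℤ, m - d - 1 ≤ q → q ≤ m + 1 → n₀ q ≤ N) →
        EvBij (dsgl ((frModR (ModSite.ringSh O_C)).obj (f.fn.obj (Y₁ i')))) X t m N :=
      fun m hm n' hn' => bijective_postcomp_of_homology A _ d hP (t n') (hXn _) (hXn _) m
        (fun q h1 h2 => hn₀ q n' (le_trans (hm q h1 h2) hn'))
    obtain ⟨e⟩ := nonempty_pull_frModR_iso f (Y₁ i')
    let eP : f.pull.mapDerivedCategory.obj (dsgl ((frModR (ModSite.ringSh O_D)).obj (Y₁ i'))) ≅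
        dsgl ((frModR (ModSite.ringSh O_C)).obj (f.fn.obj (Y₁ i'))) :=
      (f.pull.mapDerivedCategorySingleFunctor 0).app _ ≪≫
        (singleFunctor (ModSite.Mod O_C) 0).mapIso e
    constructor
    · exact EvBij.of_adjunction adj _
        ((hC (j - 1) (fun q h1 h2 => hN q (by omega) (by omega))).of_iso eP.symm)
    · exact EvBij.of_adjunction adj _
        ((hC j (fun q h1 h2 => hN q (by omega) (by omega))).of_iso eP.symm)

end Groth.Agent.Lib.Helper17.Hyp
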