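import Groth.Agent.Lib.Helper17Hyp2
import Groth.Agent.S0943

/-!
# Sections of the cohomology objects of a derived limit (helper17)

Abstract form of: if `L = R lim K_n`, then `H^m(L)(V) → H^m(K_{n_V})(V)` is injective provided
`V` has a cofinal system of coverings by objects `W` on which `R^1 lim H^{m-1}(W, K_n) = 0` and
`H^m(W, K_n) → H^m(W, K_{n_V})` is injective.
-/

set_option autoImplicit false

universe w w' v v' u u'

open CategoryTheory CategoryTheory.Limits HomologicalComplex DerivedCategory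

namespace Groth.Agent.Lib.Helper17.Hyp

variable {A : Type u} [Category.{v} A] [Abelian A]
  {C : Type u'} [Category.{v'} C]
  {J : GrothendieckTopology C} {fr : C ⥤ A} [HasDerivedCategory.{w} A]

/-- `H^0(K[m]) ≅ H^m(K)`. -/
noncomputable def shIso (K : DerivedCategory A) (m : ℤ) :
    (homologyFunctor A 0).obj (K⟦m⟧) ≅ (homologyFunctor A m).obj K :=
  ((homologyFunctor A 0).shiftIso m 0 m (add_zero m)).app K

lemma shIso_hom_naturality {K K' : DerivedCategory A} (φ : K ⟶ K') (m : ℤ) :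
    (homologyFunctor A 0).map (φ⟦m⟧') ≫ (shIso K' m).hom =
      (shIso K m).hom ≫ (homologyFunctor A m).map φ :=
  (homologyFunctor A 0).shiftIso_hom_naturality m 0 m (add_zero m) φ

/-- the canonical map `Hom_{D(A)}(P[0], K[m]) → Hom_A(P, H^m K)`. -/
noncomputable def cm {P : A} {K : DerivedCategory A} {m : ℤ} (ξ : dsgl P ⟶ K⟦m⟧) :
    P ⟶ (homologyFunctor A m).obj K :=
  c₀ ξ ≫ (shIso K m).hom

lemma cm_comp {P : A} {K K' : DerivedCategory A} {m : ℤ} (ξ : dsgl P ⟶ K⟦m⟧) (φ : K ⟶ K') :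
    cm (ξ ≫ φ⟦m⟧') = cm ξ ≫ (homologyFunctor A m).map φ := by
  dsimp only [cm]
  rw [c₀_comp, Category.assoc, shIso_hom_naturality, Category.assoc]

lemma cm_zero {P : A} {K : DerivedCategory A} {m : ℤ} : cm (0 : dsgl P ⟶ K⟦m⟧) = 0 := by
  dsimp only [cm]
  rw [c₀_zero, zero_comp]

lemma cm_res {U V : C} (f : V ⟶ U) {K : DerivedCategory A} {m : ℤ}
    (ξ : dsgl (fr.obj U) ⟶ K⟦m⟧) : cm (res fr f ξ) = fr.map f ≫ cm ξ := by
  dsimp only [cm]
  rw [c₀_res, Category.assoc]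

/-- local surjectivity of `cm`. -/
theorem exists_lift_cm (h : LocFr J fr) (K : DerivedCategory A) (m : ℤ) (U : C)
    (s : fr.obj U ⟶ (homologyFunctor A m).obj K) :
    ∃ T ∈ J U, ∀ ⦃V : C⦄ (f : V ⟶ U), T f →
      ∃ ξ : dsgl (fr.obj V) ⟶ K⟦m⟧, cm ξ = fr.map f ≫ s := by
  obtain ⟨T, hT, hT'⟩ := exists_lift_c₀ h (K⟦m⟧) U (s ≫ (shIso K m).inv)
  refine ⟨T, hT, fun V f hf => ?_⟩
  obtain ⟨ξ, hξ⟩ := hT' f hf
  refine ⟨ξ, ?_⟩
  dsimp only [cm]
  rw [hξ, Category.assoc, Category.assoc, Iso.inv_hom_id, Category.comp_id]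

/-- local injectivity of `cm`. -/
theorem exists_cover_eq_zero_cm [IsGrothendieckAbelian.{w'} A] (h : LocFr J fr)
    (K : DerivedCategory A) (m : ℤ) (U : C) (ξ : dsgl (fr.obj U) ⟶ K⟦m⟧) (hξ : cm ξ = 0) :
    ∃ T ∈ J U, ∀ ⦃V : C⦄ (f : V ⟶ U), T f → res fr f ξ = 0 := by
  apply exists_cover_eq_zero.{w, w'} h
  dsimp only [cm] at hξ
  rw [← cancel_mono (shIso K m).hom, hξ, zero_comp]

/-- The sieve of arrows `g : W ⟶ V` along which the section `s` of `H^m(L)` lifts to a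
class in `H^m(W, L)` which dies in `H^m(W, K')`. -/
def liftSieve (fr : C ⥤ A) {L K' : DerivedCategory A} (φ : L ⟶ K') (m : ℤ) {V : C}
    (s : fr.obj V ⟶ (homologyFunctor A m).obj L) : Sieve V where
  arrows W g := ∃ ξ : dsgl (fr.obj W) ⟶ L⟦m⟧, cm ξ = fr.map g ≫ s ∧ ξ ≫ φ⟦m⟧' = 0
  downward_closed := by
    rintro W W' g ⟨ξ, h1, h2⟩ k
    refine ⟨res fr k ξ, ?_, ?_⟩
    · rw [cm_res, h1, Functor.map_comp, Category.assoc]
    · rw [← res_comp, h2, res_zero]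

theorem liftSieve_mem [IsGrothendieckAbelian.{w'} A] (h : LocFr J fr)
    {L K' : DerivedCategory A} (φ : L ⟶ K') (m : ℤ) {V : C}
    (s : fr.obj V ⟶ (homologyFunctor A m).obj L) (hs : s ≫ (homologyFunctor A m).map φ = 0) :
    liftSieve fr φ m s ∈ J V := by
  obtain ⟨T, hT, hT'⟩ := exists_lift_cm h L m V s
  choose ξ hξ using hT'
  have key : ∀ ⦃W : C⦄ (g : W ⟶ V) (hg : T g), ∃ R ∈ J W,
      ∀ ⦃W' : C⦄ (k : W' ⟶ W), R k → res fr k (ξ g hg ≫ φ⟦m⟧') = 0 := by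
    intro W g hg
    apply exists_cover_eq_zero_cm.{w, w'} h
    rw [cm_comp, hξ, Category.assoc, hs, comp_zero]
  choose R hR hR' using key
  refine J.superset_covering ?_ (J.bind_covering hT (fun W g hg => hR g hg))
  rintro W' _ ⟨W, k, g, hg, hk, rfl⟩
  refine ⟨res fr k (ξ g hg), ?_, ?_⟩
  · rw [cm_res, hξ, Functor.map_comp, Category.assoc]
  · rw [← res_comp]
    exact hR' g hg k hk

end Groth.Agent.Lib.Helper17.Hyp
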