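import Groth.Agent.Lib.Helper17Hyp30
import Groth.Prelude.Def_DCoh2

/-!
# `lim = R lim` for inverse systems of sheaves acyclic on a covering class (helper17)

Abstract form of S0879 / S0870.
-/

set_option autoImplicit false

universe w w' v v' u u'

open CategoryTheory CategoryTheory.Limits Opposite

namespace Groth.Agent.Lib.Helper17.Hyp

theorem limOneIsZero_of_subsingleton {G : ℕ → Type w'} [∀ n, AddCommGroup (G n)]
    (t : ∀ n, G (n + 1) →+ G n) (h : ∀ n, Subsingleton (G n)) : CohCx.LimOneIsZero G t := by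
  intro b
  exact ⟨fun _ => 0, funext fun n => Subsingleton.elim _ _⟩

section Der

open DerivedCategory Pretriangulated Groth.Agent.S14388

variable {A : Type (v + 1)} [Category.{v} A] [Abelian A] [HasDerivedCategory.{w} A]

lemma isZero_homology_dsgl (F : A) (j : ℤ) (hj : j ≠ 0) :
    IsZero ((homologyFunctor A j).obj (dsgl F)) := by
  haveI : (dsgl F).IsGE 0 := inferInstanceAs (((singleFunctor A 0).obj F).IsGE 0)
  rcases lt_or_gt_of_ne hj with h | h
  · exact isZero_of_isGE (dsgl F) 0 j h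
  · exact isZero_of_isLE (dsgl F) 0 j h

theorem vanishAbove_dsgl (P : DerivedCategory A) (F : A)
    (h : ∀ k : ℕ, 0 < k → Subsingleton (P ⟶ (dsgl F)⟦(k : ℤ)⟧)) :
    VanishAbove P (dsgl F) (fun _ => 0) := by
  intro m k hk
  have hk' : 0 < k := by
    have : (0 : ℤ) < k := hk
    exact_mod_cast this
  by_cases hmk : m - (k : ℤ) = 0
  · rw [hmk]
    exact subsingleton_hom_of_iso ((shiftFunctor _ (k : ℤ)).mapIso
      ((singleFunctor A 0).mapIso (e₀ F).symm)) (h k hk')
  · have hz := isZero_homology_dsgl F (m - (k : ℤ)) hmk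
    exact ⟨fun y y' => ((shiftFunctor _ (k : ℤ)).map_isZero
      ((singleFunctor A 0).map_isZero hz)).eq_of_tgt _ _⟩

end Der

section Sheaf

open DerivedCategory Pretriangulated

variable {C : Type u} [SmallCategory C] {J : GrothendieckTopology C}

lemma subsingleton_sections_of_isZero {G : Sheaf J AddCommGrpCat.{u}} (hG : IsZero G) (V : C) :
    Subsingleton (G.obj.obj (op V)) := by
  have h0 : (𝟙 G : G ⟶ G) = 0 := hG.eq_of_src _ _
  have hx : ∀ z : G.obj.obj (op V), z = 0 := fun z => by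
    have := congrArg (fun φ : G ⟶ G => (φ.hom.app (op V)).hom z) h0
    simpa using this
  exact ⟨fun x y => by rw [hx x, hx y]⟩

lemma bijective_sections_of_iso {G G' : Sheaf J AddCommGrpCat.{u}} (e : G ≅ G') (V : C) :
    Function.Bijective ((e.hom.hom.app (op V)).hom : G.obj.obj (op V) → G'.obj.obj (op V)) := by
  rw [Function.bijective_iff_has_inverse]
  refine ⟨(e.inv.hom.app (op V)).hom, fun x => ?_, fun x => ?_⟩
  · show (((e.hom ≫ e.inv).hom.app (op V)).hom x) = x
    rw [e.hom_inv_id]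
    rfl
  · show (((e.inv ≫ e.hom).hom.app (op V)).hom x) = x
    rw [e.inv_hom_id]
    rfl

variable [HasDerivedCategory.{w} (Sheaf J AddCommGrpCat.{u})]

lemma e₀_hom_naturality {F F' : Sheaf J AddCommGrpCat.{u}} (f : F ⟶ F') :
    (homologyFunctor (Sheaf J AddCommGrpCat.{u}) 0).map
      ((singleFunctor (Sheaf J AddCommGrpCat.{u}) 0).map f) ≫ (e₀ F').hom = (e₀ F).hom ≫ f :=
  (e₀NatIso (A := Sheaf J AddCommGrpCat.{u})).hom.naturality f

theorem limOneIsZero_HD_dsgl (F : ℕ → Sheaf J AddCommGrpCat.{u}) (t : ∀ n, F (n + 1) ⟶ F n)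
    (V : C)
    (h2 : CohCx.LimOneIsZero (fun n => (F n).obj.obj (op V))
      (fun n => ((t n).hom.app (op V)).hom)) (j : ℤ) :
    CohCx.LimOneIsZero (fun n => (CohCx.HD (dsgl (F n)) j).obj.obj (op V))
      (fun n => (((homologyFunctor (Sheaf J AddCommGrpCat.{u}) j).map
        ((singleFunctor (Sheaf J AddCommGrpCat.{u}) 0).map (t n))).hom.app (op V)).hom) := by
  by_cases hj : j = 0
  · subst hj
    refine limOneIsZero_of_bijective _ _ (fun n => ((e₀ (F n)).hom.hom.app (op V)).hom)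
      (fun n => bijective_sections_of_iso (e₀ (F n)) V) (fun n x => ?_) h2
    have := congrArg (fun φ : (homologyFunctor (Sheaf J AddCommGrpCat.{u}) 0).obj (dsgl (F (n + 1))) ⟶
      F n => (φ.hom.app (op V)).hom x) (e₀_hom_naturality (t n))
    exact this
  · exact limOneIsZero_of_subsingleton _
      (fun n => subsingleton_sections_of_isZero (isZero_homology_dsgl (F n) j hj) V)

end Sheaf

section SheafMain

open DerivedCategory Pretriangulated ZeroObject

variable {C : Type u} [SmallCategory C] {J : GrothendieckTopology C}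
  [HasDerivedCategory.{u} (Sheaf J AddCommGrpCat.{u})]

/-- Abstract form of S0879 / S0870. -/
theorem rlim_dsgl_of_acyclic (F : ℕ → Sheaf J AddCommGrpCat.{u}) (t : ∀ n, F (n + 1) ⟶ F n)
    [HasProduct fun n => (singleFunctor (Sheaf J AddCommGrpCat.{u}) 0).obj (F n)] (B : Set C)
    (hB : ∀ U : C, ∃ R : Presieve U, Sieve.generate R ∈ J U ∧ ∀ ⦃V : C⦄ (g : V ⟶ U), R g → V ∈ B)
    (h1 : ∀ U ∈ B, ∀ (k n : ℕ), 0 < k →
      Subsingleton (dsgl (CohCx.freeSheaf J U) ⟶ (dsgl (F n))⟦(k : ℤ)⟧))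
    (h2 : ∀ U ∈ B, CohCx.LimOneIsZero (fun n => (F n).obj.obj (op U))
      (fun n => ((t n).hom.app (op U)).hom)) :
    DCoh.IsRlim (fun n => (singleFunctor (Sheaf J AddCommGrpCat.{u}) 0).obj (F n))
      (fun n => (singleFunctor (Sheaf J AddCommGrpCat.{u}) 0).map (t n))
      ((singleFunctor (Sheaf J AddCommGrpCat.{u}) 0).obj (limit (CohCx.opSequence F t))) ∧
    ∀ U ∈ B, ∀ k : ℕ, 0 < k → Subsingleton (dsgl (CohCx.freeSheaf J U) ⟶
      (dsgl (limit (CohCx.opSequence F t)))⟦(k : ℤ)⟧) := by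
  classical
  haveI : HasProducts.{u} (DerivedCategory (Sheaf J AddCommGrpCat.{u})) :=
    Groth.Agent.Lib.Helper17.KInj.hasProducts_derivedCategory
  haveI : HasLimitsOfShape (Discrete (ULift.{u} ℕ)) (DerivedCategory (Sheaf J AddCommGrpCat.{u})) :=
    inferInstance
  haveI : HasLimitsOfShape (Discrete ℕ) (DerivedCategory (Sheaf J AddCommGrpCat.{u})) :=
    hasLimitsOfShape_of_equivalence (Discrete.equivalence Equiv.ulift.{u, 0})
  let K : ℕ → DerivedCategory (Sheaf J AddCommGrpCat.{u}) := fun n =>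
    (singleFunctor (Sheaf J AddCommGrpCat.{u}) 0).obj (F n)
  let tK : ∀ n, K (n + 1) ⟶ K n := fun n =>
    (singleFunctor (Sheaf J AddCommGrpCat.{u}) 0).map (t n)
  have hbij : ∀ (q : ℤ), ∀ V ∈ B, ∀ n, Function.Bijective
      (fun ξ : dsgl ((frSh J).obj V) ⟶ (K n)⟦q⟧ => cm ξ) := fun q V hV n =>
    bijective_cm_of_acyclic.{u, u} (fr := frSh J) (locFr_frSh J) (K n) B hB
      (fun W hW => vanishAbove_dsgl _ (F n) (fun k hk => h1 W hW k n hk)) V hV q
  have hlim1 : ∀ (q : ℤ), ∀ V ∈ B, CohCx.LimOneIsZero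
      (fun n => dsgl ((frSh J).obj V) ⟶ (K n)⟦q - 1⟧)
      (fun n => Preadditive.rightComp _ ((tK n)⟦q - 1⟧')) := fun q V hV =>
    limOneIsZero_of_bijective _ _ (fun n => canonU (K n) (q - 1) V)
      (fun n => bijective_canonU (K n) (q - 1) V (hbij (q - 1) V hV n))
      (fun n ξ => canonU_comp (tK n) (q - 1) V ξ)
      (limOneIsZero_HD_dsgl F t V (h2 V hV) (q - 1))
  obtain ⟨L, a, hL⟩ := exists_isRlimVia K tK
  -- the cohomology of `L` vanishes outside degree zero
  have hz : ∀ q : ℤ, q ≠ 0 → IsZero ((homologyFunctor (Sheaf J AddCommGrpCat.{u}) q).obj L) := by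
    intro q hq
    have hiso : IsIso (0 : (homologyFunctor (Sheaf J AddCommGrpCat.{u}) q).obj L ⟶ 0) :=
      isIso_of_rlim_sections.{u, u} (fr := frSh J) (locFr_frSh J) hL B hB q (hbij q) (hlim1 q)
        (F := 0) (fun n => 0) (fun n => zero_comp) (fun s s' _ => (isZero_zero _).eq_of_tgt _ _) 0
        (fun n => (isZero_homology_dsgl (F n) q hq).eq_of_tgt _ _)
    exact IsZero.of_iso (isZero_zero _) (asIso (0 : (homologyFunctor _ q).obj L ⟶ 0))
  haveI : L.IsGE 0 := (isGE_iff L 0).2 (fun i hi => hz i (by omega))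
  haveI : L.IsLE 0 := (isLE_iff L 0).2 (fun i hi => hz i (by omega))
  obtain ⟨M, ⟨eM⟩⟩ := exists_iso_singleFunctor_obj_of_isGE_of_isLE L 0
  -- `H^0(L)` is the limit
  let D := CohCx.opSequence F t
  have hD : ∀ n, D.map (homOfLE (Nat.le_add_right n 1)).op = t n :=
    fun n => Functor.ofOpSequence_map_homOfLE_succ _ n
  have hat : ∀ n, (homologyFunctor (Sheaf J AddCommGrpCat.{u}) 0).map (a (n + 1)) ≫
      (homologyFunctor (Sheaf J AddCommGrpCat.{u}) 0).map (tK n) =
      (homologyFunctor (Sheaf J AddCommGrpCat.{u}) 0).map (a n) := fun n => by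
    rw [← Functor.map_comp, isRlimVia_comp_t hL]
  let cone : Cone D :=
    { pt := (homologyFunctor (Sheaf J AddCommGrpCat.{u}) 0).obj L
      π := NatTrans.ofOpSequence
        (F := (Functor.const _).obj ((homologyFunctor (Sheaf J AddCommGrpCat.{u}) 0).obj L)) (G := D)
        (fun n => (homologyFunctor (Sheaf J AddCommGrpCat.{u}) 0).map (a n) ≫ (e₀ (F n)).hom)
        (fun n => by
          dsimp only [Functor.const_obj_obj, Functor.const_obj_map]
          rw [Category.id_comp, hD]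
          exact (congrArg (fun x => x ≫ (e₀ (F n)).hom) (hat n).symm).trans
            ((Category.assoc _ _ _).trans
              ((congrArg (fun x => (homologyFunctor (Sheaf J AddCommGrpCat.{u}) 0).map (a (n + 1)) ≫ x)
                (e₀_hom_naturality (t n))).trans (Category.assoc _ _ _).symm))) }
  have hiso : IsIso (limit.lift D cone) := by
    refine isIso_of_rlim_sections.{u, u} (fr := frSh J) (locFr_frSh J) hL B hB 0 (hbij 0) (hlim1 0)
      (fun n => limit.π D (op n) ≫ (e₀ (F n)).inv) (fun n => ?_) (fun s s' hs => ?_) _ (fun n => ?_)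
    · have h3 : (e₀ (F (n + 1))).inv ≫ (homologyFunctor (Sheaf J AddCommGrpCat.{u}) 0).map (tK n) =
          t n ≫ (e₀ (F n)).inv := (e₀_inv_naturality (t n)).symm
      exact (Category.assoc _ _ _).trans ((congrArg (fun x => limit.π D (op (n + 1)) ≫ x) h3).trans
        ((Category.assoc _ _ _).symm.trans (congrArg (fun x => x ≫ (e₀ (F n)).inv)
          ((congrArg (fun x => limit.π D (op (n + 1)) ≫ x) (hD n).symm).trans (limit.w D _)))))
    · apply limit.hom_ext
      intro j
      have := hs j.unop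
      rw [← Category.assoc, ← Category.assoc, cancel_mono] at this
      exact this
    · rw [limit.lift_π_assoc]
      change ((homologyFunctor (Sheaf J AddCommGrpCat.{u}) 0).map (a n) ≫ (e₀ (F n)).hom) ≫
        (e₀ (F n)).inv = _
      exact (Category.assoc _ _ _).trans ((congrArg
        (fun x => (homologyFunctor (Sheaf J AddCommGrpCat.{u}) 0).map (a n) ≫ x)
        (e₀ (F n)).hom_inv_id).trans (Category.comp_id _))
  let eM' : M ≅ limit D := (e₀ M).symm ≪≫
    (homologyFunctor (Sheaf J AddCommGrpCat.{u}) 0).mapIso eM.symm ≪≫ asIso (limit.lift D cone)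
  let eL : L ≅ dsgl (limit D) :=
    eM ≪≫ (singleFunctor (Sheaf J AddCommGrpCat.{u}) 0).mapIso eM'
  refine ⟨?_, ?_⟩
  · obtain ⟨c, hc⟩ := isRlimVia_of_iso hL eL.inv (fun n => eL.inv ≫ a n) (fun n => rfl)
    exact ⟨_, c, hc⟩
  · intro U hU k hk
    have hLk : Subsingleton (dsgl (CohCx.freeSheaf J U) ⟶ L⟦(k : ℤ)⟧) := by
      have key : ∀ y : dsgl (CohCx.freeSheaf J U) ⟶ L⟦(k : ℤ)⟧, y = 0 := fun y =>
        (Groth.Agent.S0943.milnor_general hL _ (k : ℤ)).2 (hlim1 k U hU) y (fun n => by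
          exact (h1 U hU k n hk).elim _ _)
      exact ⟨fun y y' => by rw [key y, key y']⟩
    exact subsingleton_hom_of_iso ((shiftFunctor _ (k : ℤ)).mapIso eL) hLk

end SheafMain

end Groth.Agent.Lib.Helper17.Hyp
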