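import Groth.Agent.Lib.Helper17Hyp30

/-!
# Vanishing of hypercohomology in negative degrees on a covering class (helper17)
-/

set_option autoImplicit false

universe w w' v v' u u'

open CategoryTheory CategoryTheory.Limits Opposite

namespace Groth.Agent.Lib.Helper17.Hyp

open DerivedCategory Pretriangulated Groth.Agent.S14388

variable {A : Type (v + 1)} [Category.{v} A] [Abelian A] [HasDerivedCategory.{w} A]
  {C : Type u'} [Category.{v'} C] {J : GrothendieckTopology C} {fr : C ⥤ A}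

/-- if `Hom(fr V [0], M[i]) = 0` for `i < n` and all `V` in a covering class then `M ∈ D^{≥ n}`. -/
theorem isGE_of_vanishing (h : LocFr J fr) (M : DerivedCategory A) (B : Set C)
    (hB : ∀ U : C, ∃ R : Presieve U, Sieve.generate R ∈ J U ∧ ∀ ⦃V : C⦄ (g : V ⟶ U), R g → V ∈ B)
    (n : ℤ) (hv : ∀ V ∈ B, ∀ i : ℤ, i < n → Subsingleton (dsgl (fr.obj V) ⟶ M⟦i⟧)) :
    M.IsGE n := by
  rw [isGE_iff]
  intro i hi
  rw [IsZero.iff_id_eq_zero]
  apply h.gen
  intro U s
  rw [Category.comp_id]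
  obtain ⟨T, hT, hT'⟩ := exists_lift_cm h M i U s
  refine h.zero_of_generate U _ _ (generate_inter_mem B hB T hT) ?_
  rintro V g ⟨hVB, hg⟩
  obtain ⟨ξ, hξ⟩ := hT' g hg
  haveI := hv V hVB i hi
  rw [← hξ, Subsingleton.elim ξ 0, cm_zero]

/-- `Hom(P[0], M[i]) = 0` for `i < n` when `M ∈ D^{≥ n}`. -/
theorem subsingleton_hom_of_isGE (P : A) (M : DerivedCategory A) (n : ℤ) [M.IsGE n] (i : ℤ)
    (hi : i < n) : Subsingleton (dsgl P ⟶ M⟦i⟧) := by
  haveI : tt.IsGE (M⟦i⟧) (n - i) := tt.isGE_shift M n i (n - i) (by omega)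
  exact ⟨fun y y' => by rw [tt.zero y 0 (n - i) (by omega), tt.zero y' 0 (n - i) (by omega)]⟩

end Groth.Agent.Lib.Helper17.Hyp
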