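import Groth.Agent.Lib.Helper17Hyp32
import Groth.Agent.Lib.Helper17Hyp25
import Groth.Agent.Lib.Helper17KInjD3
import Groth.Agent.Lib.Helper21PushAcyc
import Mathlib.CategoryTheory.Shift.Adjunction
import Mathlib.Algebra.Homology.DerivedCategory.ExactFunctor

/-!
# Hypercohomology of preimages and the derived direct image (helper17)

Abstract (site) form of S0883.
-/

set_option autoImplicit false

universe w w₁ w₂ v v' u u'

open CategoryTheory CategoryTheory.Limits Opposite

namespace Groth.Agent.Lib.Helper17.Hyp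

section Adj

open Groth.Agent.Lib.Helper17.KInj

variable {A : Type u} [Category.{v} A] [Abelian A] {B : Type u'} [Category.{v'} B] [Abelian B]
  [IsGrothendieckAbelian.{w} B] [HasDerivedCategory.{w₁} A] [HasDerivedCategory.{w₂} B]
  (F : A ⥤ B) (G : B ⥤ A) (adj : F ⊣ G) [F.Additive] [G.Additive]
  [PreservesFiniteLimits F] [PreservesFiniteColimits F]

include adj in
/-- an exact left adjoint into a Grothendieck abelian category has a derived right adjoint. -/
theorem exists_derivedAdjunction :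
    ∃ (RG : DerivedCategory B ⥤ DerivedCategory A), Nonempty (F.mapDerivedCategory ⊣ RG) := by
  let G' := G.mapHomologicalComplex (ComplexShape.up ℤ) ⋙ (DerivedCategory.Q : _ ⥤ DerivedCategory A)
  haveI : G'.HasPointwiseRightDerivedFunctor (HomologicalComplex.quasiIso B (ComplexShape.up ℤ)) :=
    (fibLocalizerMorphism_derives G'
      (isInvertedBy_mapHomologicalComplex_comp_Q G)).hasPointwiseRightDerivedFunctor
  let RG := G'.totalRightDerived (DerivedCategory.Q : _ ⥤ DerivedCategory B)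
    (HomologicalComplex.quasiIso B (ComplexShape.up ℤ))
  let β := G'.totalRightDerivedUnit (DerivedCategory.Q : _ ⥤ DerivedCategory B)
    (HomologicalComplex.quasiIso B (ComplexShape.up ℤ))
  exact ⟨RG, ⟨derivedAdjunction F G adj RG β⟩⟩

end Adj

section Site

open DerivedCategory Groth.Agent.Lib.Helper21.PushAcyc

variable {C D : Type u} [SmallCategory C] [SmallCategory D]
    (J : GrothendieckTopology C) (K : GrothendieckTopology D) (u : D ⥤ C)
    [u.IsContinuous K J]

/-- the canonical map `u⁻¹ ℤ_V ⟶ ℤ_{u V}`. -/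
noncomputable def pullFree (V : D) :
    (pull J K u).obj (CohCx.freeSheaf K V) ⟶ CohCx.freeSheaf J (u.obj V) :=
  ((adjP J K u).homEquiv _ _).symm
    (CohFree.ofSect K V ((CohSite.push J K u).obj (CohCx.freeSheaf J (u.obj V)))
      (CohFree.evalGen J (u.obj V) (CohCx.freeSheaf J (u.obj V)) (𝟙 _)))

lemma pullFree_comp (V : D) {T : Sheaf J AddCommGrpCat.{u}}
    (x : CohCx.freeSheaf J (u.obj V) ⟶ T) :
    pullFree J K u V ≫ x = ((adjP J K u).homEquiv _ _).symm
      (CohFree.ofSect K V ((CohSite.push J K u).obj T) (CohFree.evalGen J (u.obj V) T x)) := by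
  dsimp only [pullFree]
  rw [← Adjunction.homEquiv_naturality_right_symm, ofSect_comp]
  congr 2

instance isIso_pullFree (V : D) : IsIso (pullFree J K u V) := by
  apply isIso_of_coyoneda_map_bijective
  intro T
  have hfun : (fun x : CohCx.freeSheaf J (u.obj V) ⟶ T => pullFree J K u V ≫ x) =
      ((adjP J K u).homEquiv _ _).symm ∘
        (CohFree.homEquivSect K V ((CohSite.push J K u).obj T)).symm ∘
          (CohFree.homEquivSect J (u.obj V) T) := by
    funext x
    exact pullFree_comp J K u V x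
  rw [hfun]
  exact (Equiv.bijective _).comp
    ((CohFree.homEquivSect K V ((CohSite.push J K u).obj T)).symm.bijective.comp
      (CohFree.homEquivSect J (u.obj V) T).bijective)

lemma pullFree_naturality {V V' : D} (g : V' ⟶ V) :
    (pull J K u).map (CohCx.freeSheafMap K g) ≫ pullFree J K u V =
      pullFree J K u V' ≫ CohCx.freeSheafMap J (u.map g) := by
  rw [pullFree_comp]
  dsimp only [pullFree]
  rw [← Adjunction.homEquiv_naturality_left_symm]
  congr 1
  apply (CohFree.homEquivSect K V' _).injective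
  rw [CohFree.homEquivSect_apply, CohFree.homEquivSect_apply, CohFree.evalGen_ofSect,
    CohFree.evalGen_freeSheafMap_comp, CohFree.evalGen_ofSect]
  have h2 := CohFree.evalGen_freeSheafMap_comp J (u.map g) (CohCx.freeSheaf J (u.obj V)) (𝟙 _)
  rw [Category.comp_id] at h2
  exact h2.symm

end Site

section SiteMain

open DerivedCategory Groth.Agent.Lib.Helper21.PushAcyc

variable {C D : Type u} [SmallCategory C] [SmallCategory D]
    (J : GrothendieckTopology C) (K : GrothendieckTopology D) (u : D ⥤ C)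
    [u.IsContinuous K J] [PreservesFiniteLimits (pull J K u)]
    [HasDerivedCategory.{w₁} (Sheaf K AddCommGrpCat.{u})]
    [HasDerivedCategory.{u} (Sheaf J AddCommGrpCat.{u})]

/-- Abstract (site) form of S0883. -/
theorem negative_vanishing_and_sheaf (Kx : DerivedCategory (Sheaf J AddCommGrpCat.{u})) (B : Set D)
    (hB : ∀ U : D, ∃ R : Presieve U, Sieve.generate R ∈ K U ∧ ∀ ⦃V : D⦄ (g : V ⟶ U), R g → V ∈ B)
    (h : ∀ V ∈ B, ∀ i : ℤ, i < 0 → Subsingleton (CohCx.HDU Kx i (u.obj V))) :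
    (∀ (V : D) (i : ℤ), i < 0 → Subsingleton (CohCx.HDU Kx i (u.obj V))) ∧
      Presheaf.IsSheaf K (u.op ⋙ CohCx.HDUPresheaf Kx 0) := by
  classical
  let F := pull J K u
  let G := CohSite.push J K u
  let adj : F ⊣ G := adjP J K u
  haveI : F.Additive := adj.left_adjoint_additive
  haveI : PreservesFiniteColimits F := by
    haveI : PreservesColimitsOfSize.{0, 0} F := adj.leftAdjoint_preservesColimits
    exact PreservesColimitsOfSize.preservesFiniteColimits _
  obtain ⟨RG, ⟨dadj⟩⟩ := exists_derivedAdjunction.{u} F G adj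
  letI : RG.CommShift ℤ := dadj.rightAdjointCommShift ℤ
  let L := F.mapDerivedCategory
  let M := RG.obj Kx
  let sY : ∀ {V V' : D} (g : V' ⟶ V), dsgl (CohCx.freeSheaf K V') ⟶ dsgl (CohCx.freeSheaf K V) :=
    fun g => (singleFunctor (Sheaf K AddCommGrpCat.{u}) 0).map (CohCx.freeSheafMap K g)
  let sX : ∀ {W W' : C} (g : W' ⟶ W), dsgl (CohCx.freeSheaf J W') ⟶ dsgl (CohCx.freeSheaf J W) :=
    fun g => (singleFunctor (Sheaf J AddCommGrpCat.{u}) 0).map (CohCx.freeSheafMap J g)
  let θ : ∀ V : D, L.obj (dsgl (CohCx.freeSheaf K V)) ≅ dsgl (CohCx.freeSheaf J (u.obj V)) :=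
    fun V => (F.mapDerivedCategorySingleFunctor 0).app (CohCx.freeSheaf K V) ≪≫
      (singleFunctor (Sheaf J AddCommGrpCat.{u}) 0).mapIso (asIso (pullFree J K u V))
  have hθ : ∀ {V V' : D} (g : V' ⟶ V), L.map (sY g) ≫ (θ V).hom = (θ V').hom ≫ sX (u.map g) := by
    intro V V' g
    have h1 := (F.mapDerivedCategorySingleFunctor 0).hom.naturality (CohCx.freeSheafMap K g)
    have h2 := congrArg (singleFunctor (Sheaf J AddCommGrpCat.{u}) 0).map
      (pullFree_naturality J K u g)
    rw [Functor.map_comp, Functor.map_comp] at h2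
    exact (Category.assoc _ _ _).symm.trans ((congrArg (fun x => x ≫
      (singleFunctor (Sheaf J AddCommGrpCat.{u}) 0).map (pullFree J K u V)) h1).trans
      ((Category.assoc _ _ _).trans ((congrArg (fun x =>
        (F.mapDerivedCategorySingleFunctor 0).hom.app (CohCx.freeSheaf K V') ≫ x) h2).trans
        (Category.assoc _ _ _).symm)))
  let Ψ : ∀ (V : D) (i : ℤ), (dsgl (CohCx.freeSheaf J (u.obj V)) ⟶ Kx⟦i⟧) ≃
      (dsgl (CohCx.freeSheaf K V) ⟶ M⟦i⟧) := fun V i =>
    ((θ V).symm.homFromEquiv).trans (adjShiftEquiv dadj (dsgl (CohCx.freeSheaf K V)) Kx i).symm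
  have hΨ : ∀ (V : D) (i : ℤ) (y : dsgl (CohCx.freeSheaf J (u.obj V)) ⟶ Kx⟦i⟧),
      Ψ V i y = dadj.homEquiv _ _ ((θ V).hom ≫ y) ≫ (RG.commShiftIso i).hom.app Kx :=
    fun V i y => rfl
  have hΨnat : ∀ {V V' : D} (g : V' ⟶ V) (i : ℤ)
      (y : dsgl (CohCx.freeSheaf J (u.obj V)) ⟶ Kx⟦i⟧),
      Ψ V' i (sX (u.map g) ≫ y) = sY g ≫ Ψ V i y := by
    intro V V' g i y
    rw [hΨ, hΨ, ← Category.assoc, ← hθ, Category.assoc, Adjunction.homEquiv_naturality_left,
      Category.assoc]
  have hvan : ∀ V ∈ B, ∀ i : ℤ, i < 0 →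
      Subsingleton (dsgl ((frSh K).obj V) ⟶ M⟦i⟧) := fun V hV i hi =>
    @Equiv.subsingleton _ _ (Ψ V i).symm (h V hV i hi)
  haveI : M.IsGE 0 := isGE_of_vanishing (locFr_frSh K) M B hB 0 hvan
  refine ⟨fun V i hi => @Equiv.subsingleton _ _ (Ψ V i)
    (subsingleton_hom_of_isGE (CohCx.freeSheaf K V) M 0 i hi), ?_⟩
  -- the presheaf `V ↦ H^0(u V, Kx)` is isomorphic to the sheaf `H^0(M)`
  have hcan : ∀ V : D, Function.Bijective (canonU M 0 V) := fun V =>
    bijective_canonU M 0 V (bijective_cm_of_isGE (CohCx.freeSheaf K V) M 0)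
  let ΨAdd : ∀ V : D, (dsgl (CohCx.freeSheaf J (u.obj V)) ⟶ Kx⟦(0 : ℤ)⟧) →+
      (dsgl (CohCx.freeSheaf K V) ⟶ M⟦(0 : ℤ)⟧) := fun V =>
    (Preadditive.rightComp _ ((RG.commShiftIso (0 : ℤ)).hom.app Kx)).comp
      ((dadj.homAddEquiv _ _).toAddMonoidHom.comp (Preadditive.leftComp _ (θ V).hom))
  have hΨAdd : ∀ (V : D) (y : dsgl (CohCx.freeSheaf J (u.obj V)) ⟶ Kx⟦(0 : ℤ)⟧),
      ΨAdd V y = Ψ V 0 y := fun V y => rfl
  let f : ∀ V : D, (dsgl (CohCx.freeSheaf J (u.obj V)) ⟶ Kx⟦(0 : ℤ)⟧) →+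
      (CohCx.HD M 0).obj.obj (op V) := fun V => (canonU M 0 V).comp (ΨAdd V)
  have hf : ∀ V : D, Function.Bijective (f V) := fun V => by
    have h1 : Function.Bijective (ΨAdd V) := by
      rw [show (ΨAdd V : _ → _) = Ψ V 0 from funext (hΨAdd V)]
      exact (Ψ V 0).bijective
    exact (hcan V).comp h1
  let P : Dᵒᵖ ⥤ AddCommGrpCat.{u} := u.op ⋙ CohCx.HDUPresheaf Kx 0
  let e : P ≅ (CohCx.HD M 0).obj :=
    NatIso.ofComponents
      (fun V => (AddEquiv.ofBijective (f V.unop) (hf V.unop)).toAddCommGrpIso) (by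
        intro V V' g
        ext y
        change f V'.unop (sX (u.map g.unop) ≫ y) = ((CohCx.HD M 0).obj.map g).hom (f V.unop y)
        change canonU M 0 V'.unop (ΨAdd V'.unop (sX (u.map g.unop) ≫ y)) =
          ((CohCx.HD M 0).obj.map g).hom (canonU M 0 V.unop (ΨAdd V.unop y))
        rw [hΨAdd, hΨAdd, hΨnat]
        exact canonU_res M 0 g.unop (Ψ V.unop 0 y))
  exact (Presheaf.isSheaf_of_iso_iff e).2 (CohCx.HD M 0).property

end SiteMain

end Groth.Agent.Lib.Helper17.Hyp
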