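import Groth.Agent.Lib.Helper17Hyp5

/-!
# The canonical map `cm` as an additive map; the presheaf map `H^q(-, K) ⟶ H^q(K)` (helper17)
-/

set_option autoImplicit false

universe w w' v v' u u'

open CategoryTheory CategoryTheory.Limits Opposite DerivedCategory

namespace Groth.Agent.Lib.Helper17.Hyp

section

variable {A : Type u} [Category.{v} A] [Abelian A] [HasDerivedCategory.{w} A]

lemma cm_add {P : A} {K : DerivedCategory A} {m : ℤ} (ξ ξ' : dsgl P ⟶ K⟦m⟧) :
    cm (ξ + ξ') = cm ξ + cm ξ' := by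
  dsimp only [cm]
  rw [c₀_add, Preadditive.add_comp]

/-- `cm` as an additive map. -/
noncomputable def cmAdd (P : A) (K : DerivedCategory A) (m : ℤ) :
    (dsgl P ⟶ K⟦m⟧) →+ (P ⟶ (homologyFunctor A m).obj K) where
  toFun := cm
  map_zero' := cm_zero
  map_add' := cm_add

lemma cmAdd_apply {P : A} {K : DerivedCategory A} {m : ℤ} (ξ : dsgl P ⟶ K⟦m⟧) :
    cmAdd P K m ξ = cm ξ := rfl

lemma cm_sub {P : A} {K : DerivedCategory A} {m : ℤ} (ξ ξ' : dsgl P ⟶ K⟦m⟧) :
    cm (ξ - ξ') = cm ξ - cm ξ' := (cmAdd P K m).map_sub ξ ξ'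

end

section Sheaf

variable {C : Type u} [SmallCategory C] {J : GrothendieckTopology C}
  [HasDerivedCategory.{w} (Sheaf J AddCommGrpCat.{u})]

/-- `H^q(U, K) → H^q(K)(U)`. -/
noncomputable def canonU (K : DerivedCategory (Sheaf J AddCommGrpCat.{u})) (q : ℤ) (U : C) :
    CohCx.HDU K q U →+ (CohCx.HD K q).obj.obj (op U) :=
  (CohFree.evalGen J U (CohCx.HD K q)).comp (cmAdd (CohCx.freeSheaf J U) K q)

lemma canonU_apply (K : DerivedCategory (Sheaf J AddCommGrpCat.{u})) (q : ℤ) (U : C)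
    (ξ : CohCx.HDU K q U) :
    canonU K q U ξ = CohFree.evalGen J U (CohCx.HD K q) (cm (P := CohCx.freeSheaf J U) ξ) := rfl

lemma canonU_res (K : DerivedCategory (Sheaf J AddCommGrpCat.{u})) (q : ℤ) {U V : C} (f : V ⟶ U)
    (ξ : CohCx.HDU K q U) :
    canonU K q V (CohCx.HDUres K q f ξ) = ((CohCx.HD K q).obj.map f.op).hom (canonU K q U ξ) := by
  have h1 := cm_res (fr := frSh J) f (K := K) (m := q) ξ
  have h2 := CohFree.evalGen_freeSheafMap_comp J f _ (cm (P := CohCx.freeSheaf J U) (K := K) (m := q) ξ)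
  exact (congrArg (CohFree.evalGen J V _) h1).trans h2

end Sheaf

end Groth.Agent.Lib.Helper17.Hyp
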