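import Groth.Agent.Lib.Helper17Hyp33
import Groth.Agent.Lib.Helper17KInjD5
import Groth.Agent.S0931

/-!
# Cohomology sheaves of the derived direct image as sheafified hypercohomology (helper17)

Site form of S8351: for a K-injective complex `Jc` quasi-isomorphic to `Kc`, the cohomology sheaf
`H^p(u_* Jc)` is the sheafification of `V ↦ H^p(u V, Kc)`.
-/

set_option autoImplicit false

universe u

open CategoryTheory CategoryTheory.Limits Opposite

namespace Groth.Agent.Lib.Helper17.Hyp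

open DerivedCategory Groth.Agent.Lib.Helper21.PushAcyc Groth.Agent.Lib.Helper17.KInj

variable {C D : Type u} [SmallCategory C] [SmallCategory D]
    (J : GrothendieckTopology C) (K : GrothendieckTopology D) (u : D ⥤ C)
    [u.IsContinuous K J] [PreservesFiniteLimits (pull J K u)]
    [HasDerivedCategory.{u} (Sheaf K AddCommGrpCat.{u})]
    [HasDerivedCategory.{u} (Sheaf J AddCommGrpCat.{u})]

theorem nonempty_sheafify_iso_homology_push
    (Kc Jc : CochainComplex (Sheaf J AddCommGrpCat.{u}) ℤ) [Jc.IsKInjective] (q : Kc ⟶ Jc)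
    [QuasiIso q] (p : ℤ) :
    Nonempty ((presheafToSheaf K AddCommGrpCat.{u}).obj
        (u.op ⋙ CohCx.HDUPresheaf ((Q : _ ⥤ DerivedCategory _).obj Kc) p) ≅
      (((CohSite.push J K u).mapHomologicalComplex (ComplexShape.up ℤ)).obj Jc).homology p) := by
  classical
  let F := pull J K u
  let G := CohSite.push J K u
  let adj : F ⊣ G := adjP J K u
  haveI : F.Additive := adj.left_adjoint_additive
  haveI : PreservesFiniteColimits F := by
    haveI : PreservesColimitsOfSize.{0, 0} F := adj.leftAdjoint_preservesColimits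
    exact PreservesColimitsOfSize.preservesFiniteColimits _
  let G' := G.mapHomologicalComplex (ComplexShape.up ℤ) ⋙
    (DerivedCategory.Q : _ ⥤ DerivedCategory (Sheaf K AddCommGrpCat.{u}))
  haveI : G'.HasPointwiseRightDerivedFunctor
      (HomologicalComplex.quasiIso (Sheaf J AddCommGrpCat.{u}) (ComplexShape.up ℤ)) :=
    (fibLocalizerMorphism_derives G'
      (isInvertedBy_mapHomologicalComplex_comp_Q G)).hasPointwiseRightDerivedFunctor
  let RG := G'.totalRightDerived (DerivedCategory.Q : _ ⥤ DerivedCategory (Sheaf J AddCommGrpCat.{u}))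
    (HomologicalComplex.quasiIso (Sheaf J AddCommGrpCat.{u}) (ComplexShape.up ℤ))
  let β := G'.totalRightDerivedUnit
    (DerivedCategory.Q : _ ⥤ DerivedCategory (Sheaf J AddCommGrpCat.{u}))
    (HomologicalComplex.quasiIso (Sheaf J AddCommGrpCat.{u}) (ComplexShape.up ℤ))
  let dadj : F.mapDerivedCategory ⊣ RG := derivedAdjunction F G adj RG β
  letI : RG.CommShift ℤ := dadj.rightAdjointCommShift ℤ
  let Kx : DerivedCategory (Sheaf J AddCommGrpCat.{u}) := Q.obj Kc
  let L := F.mapDerivedCategory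
  let M := RG.obj Kx
  let sY : ∀ {V V' : D} (g : V' ⟶ V), dsgl (CohCx.freeSheaf K V') ⟶ dsgl (CohCx.freeSheaf K V) :=
    fun g => (singleFunctor (Sheaf K AddCommGrpCat.{u}) 0).map (CohCx.freeSheafMap K g)
  let sX : ∀ {W W' : C} (g : W' ⟶ W), dsgl (CohCx.freeSheaf J W') ⟶ dsgl (CohCx.freeSheaf J W) :=
    fun g => (singleFunctor (Sheaf J AddCommGrpCat.{u}) 0).map (CohCx.freeSheafMap J g)
  let θ : ∀ V : D, L.obj (dsgl (CohCx.freeSheaf K V)) ≅ dsgl (CohCx.freeSheaf J (u.obj V)) :=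
    fun V => (F.mapDerivedCategorySingleFunctor 0).app (CohCx.freeSheaf K V) ≪≫
      (singleFunctor (Sheaf J AddCommGrpCat.{u}) 0).mapIso (asIso (pullFree J K u V))
  have hθ : ∀ {V V' : D} (g : V' ⟶ V), L.map (sY g) ≫ (θ V).hom = (θ V').hom ≫ sX (u.map g) := by
    intro V V' g
    have h1 := (F.mapDerivedCategorySingleFunctor 0).hom.naturality (CohCx.freeSheafMap K g)
    have h2 := congrArg (singleFunctor (Sheaf J AddCommGrpCat.{u}) 0).map
      (pullFree_naturality J K u g)
    rw [Functor.map_comp, Functor.map_comp] at h2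
    exact (Category.assoc _ _ _).symm.trans ((congrArg (fun x => x ≫
      (singleFunctor (Sheaf J AddCommGrpCat.{u}) 0).map (pullFree J K u V)) h1).trans
      ((Category.assoc _ _ _).trans ((congrArg (fun x =>
        (F.mapDerivedCategorySingleFunctor 0).hom.app (CohCx.freeSheaf K V') ≫ x) h2).trans
        (Category.assoc _ _ _).symm)))
  -- the additive bijections
  let ΨAdd : ∀ V : D, (dsgl (CohCx.freeSheaf J (u.obj V)) ⟶ Kx⟦p⟧) →+
      (dsgl (CohCx.freeSheaf K V) ⟶ M⟦p⟧) := fun V =>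
    (Preadditive.rightComp _ ((RG.commShiftIso p).hom.app Kx)).comp
      ((dadj.homAddEquiv _ _).toAddMonoidHom.comp (Preadditive.leftComp _ (θ V).hom))
  have hΨ : ∀ (V : D) (y : dsgl (CohCx.freeSheaf J (u.obj V)) ⟶ Kx⟦p⟧),
      ΨAdd V y = dadj.homEquiv _ _ ((θ V).hom ≫ y) ≫ (RG.commShiftIso p).hom.app Kx :=
    fun V y => rfl
  have hΨbij : ∀ V : D, Function.Bijective (ΨAdd V) := fun V => by
    have : (ΨAdd V : _ → _) = ((θ V).symm.homFromEquiv).trans
        (adjShiftEquiv dadj (dsgl (CohCx.freeSheaf K V)) Kx p).symm := rfl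
    rw [this]
    exact Equiv.bijective _
  have hΨnat : ∀ {V V' : D} (g : V' ⟶ V)
      (y : dsgl (CohCx.freeSheaf J (u.obj V)) ⟶ Kx⟦p⟧),
      ΨAdd V' (sX (u.map g) ≫ y) = sY g ≫ ΨAdd V y := by
    intro V V' g y
    rw [hΨ, hΨ, ← Category.assoc, ← hθ, Category.assoc, Adjunction.homEquiv_naturality_left,
      Category.assoc]
  let e1 : u.op ⋙ CohCx.HDUPresheaf Kx p ≅ CohCx.HDUPresheaf M p :=
    NatIso.ofComponents
      (fun V => (AddEquiv.ofBijective (ΨAdd V.unop) (hΨbij V.unop)).toAddCommGrpIso) (by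
        intro V V' g
        ext y
        change ΨAdd V'.unop (sX (u.map g.unop) ≫ y) = sY g.unop ≫ ΨAdd V.unop y
        exact hΨnat g.unop y)
  obtain ⟨e2⟩ := Groth.Agent.S0931.result M p
  -- `H^p(RG(Q Kc)) ≅ H^p(RG(Q Jc)) ≅ H^p(Q(G Jc)) ≅ H^p(G Jc)`
  haveI : IsIso ((Q : _ ⥤ DerivedCategory (Sheaf J AddCommGrpCat.{u})).map q) := by
    rw [DerivedCategory.isIso_Q_map_iff_quasiIso]; infer_instance
  let e3 : M ≅ RG.obj (Q.obj Jc) := RG.mapIso (asIso (Q.map q))
  haveI : IsIso (β.app Jc) := isIso_app_of_isKInjective G RG β Jc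
  let e4 : G'.obj Jc ≅ RG.obj (Q.obj Jc) := asIso (β.app Jc)
  let e5 := (DerivedCategory.homologyFunctorFactors (Sheaf K AddCommGrpCat.{u}) p).app
    ((G.mapHomologicalComplex (ComplexShape.up ℤ)).obj Jc)
  exact ⟨(presheafToSheaf K AddCommGrpCat.{u}).mapIso e1 ≪≫ e2 ≪≫
    (DerivedCategory.homologyFunctor _ p).mapIso (e3 ≪≫ e4.symm) ≪≫ e5⟩

end Groth.Agent.Lib.Helper17.Hyp
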