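import Groth.Agent.Lib.Helper17Hyp3

/-!
# Injectivity on sections of cohomology objects of a derived limit (helper17)
-/

set_option autoImplicit false

universe w w' v v' u u'

open CategoryTheory CategoryTheory.Limits HomologicalComplex DerivedCategory

namespace Groth.Agent.Lib.Helper17.Hyp

section Rlim

open Pretriangulated

variable {T : Type u'} [Category.{v'} T] [Preadditive T] [HasZeroObject T] [HasShift T ℤ]
    [∀ n : ℤ, (shiftFunctor T n).Additive] [Pretriangulated T]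
    {K : ℕ → T} {t : ∀ n, K (n + 1) ⟶ K n} [HasProduct K] {L : T} {a : ∀ n, L ⟶ K n}

lemma isRlimVia_comp_t (hL : CohCx.IsRlimVia K t L a) (n : ℕ) : a (n + 1) ≫ t n = a n := by
  obtain ⟨c, hc⟩ := hL
  have h0 := comp_distTriang_mor_zero₁₂ _ hc
  have h1 : (Pi.lift a ≫ Pi.lift fun n => Pi.π K n - Pi.π K (n + 1) ≫ t n) ≫ Pi.π K n =
      0 ≫ Pi.π K n := congrArg (fun x => x ≫ Pi.π K n) h0
  rw [Category.assoc, Pi.lift_π, Preadditive.comp_sub, Pi.lift_π, Pi.lift_π_assoc, zero_comp] at h1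
  exact (sub_eq_zero.1 h1).symm

lemma isRlimVia_comp_transition (hL : CohCx.IsRlimVia K t L a) (n k : ℕ) :
    a (n + k) ≫ CohCx.transition K t n k = a n := by
  induction k with
  | zero => exact Category.comp_id _
  | succ k ih =>
    change a (n + k + 1) ≫ t (n + k) ≫ CohCx.transition K t n k = a n
    rw [← Category.assoc, isRlimVia_comp_t hL, ih]

/-- Milnor core: a class in `H^m(P, R lim K_n)` which dies in `H^m(P, K_{n_V})` vanishes if
`R^1 lim H^{m-1}(P, K_n) = 0` and the transition maps to `H^m(P, K_{n_V})` are injective. -/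
theorem eq_zero_of_good (hL : CohCx.IsRlimVia K t L a) (P : T) (m : ℤ) (nV : ℕ)
    (h1 : CohCx.LimOneIsZero (fun n => P ⟶ (K n)⟦m - 1⟧)
      (fun n => Preadditive.rightComp _ ((t n)⟦m - 1⟧')))
    (h2 : ∀ k : ℕ, Function.Injective
      (Preadditive.rightComp P ((CohCx.transition K t nV k)⟦m⟧')))
    (y : P ⟶ L⟦m⟧) (hy : y ≫ (a nV)⟦m⟧' = 0) : y = 0 := by
  refine (Groth.Agent.S0943.milnor_general hL P m).2 h1 y (fun n => ?_)
  rcases le_total nV n with hn | hn
  · obtain ⟨k, rfl⟩ := Nat.exists_eq_add_of_le hn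
    apply h2 k
    change (y ≫ (a (nV + k))⟦m⟧') ≫ (CohCx.transition K t nV k)⟦m⟧' =
      0 ≫ (CohCx.transition K t nV k)⟦m⟧'
    rw [Category.assoc, ← Functor.map_comp, isRlimVia_comp_transition hL, hy, zero_comp]
  · obtain ⟨k, rfl⟩ := Nat.exists_eq_add_of_le hn
    rw [← isRlimVia_comp_transition hL n k, Functor.map_comp, ← Category.assoc, hy, zero_comp]

end Rlim

variable {A : Type u} [Category.{v} A] [Abelian A]
  {C : Type u'} [Category.{v'} C]
  {J : GrothendieckTopology C} {fr : C ⥤ A} [HasDerivedCategory.{w} A]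

/-- Abstract form of S0880. -/
theorem eq_zero_of_cofinal_good [IsGrothendieckAbelian.{w'} A] (h : LocFr J fr)
    {K : ℕ → DerivedCategory A} {t : ∀ n, K (n + 1) ⟶ K n} [HasProduct K]
    {L : DerivedCategory A} {a : ∀ n, L ⟶ K n} (hL : CohCx.IsRlimVia K t L a)
    (V : C) (m : ℤ) (nV : ℕ)
    (hV : ∀ T ∈ J V, ∃ R : Presieve V, R ≤ T ∧ Sieve.generate R ∈ J V ∧
      ∀ ⦃W : C⦄ (g : W ⟶ V), R g →
        CohCx.LimOneIsZero (fun n => dsgl (fr.obj W) ⟶ (K n)⟦m - 1⟧)
          (fun n => Preadditive.rightComp _ ((t n)⟦m - 1⟧')) ∧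
        ∀ k : ℕ, Function.Injective
          (Preadditive.rightComp (dsgl (fr.obj W)) ((CohCx.transition K t nV k)⟦m⟧')))
    (s : fr.obj V ⟶ (homologyFunctor A m).obj L)
    (hs : s ≫ (homologyFunctor A m).map (a nV) = 0) : s = 0 := by
  obtain ⟨R, hR, hRJ, hR'⟩ := hV _ (liftSieve_mem.{w, w'} h (a nV) m s hs)
  refine h.sep V s _ hRJ ?_
  rintro W' _ ⟨W, k, g, hg, rfl⟩
  obtain ⟨ξ, hξ1, hξ2⟩ := hR _ _ hg
  obtain ⟨hg1, hg2⟩ := hR' g hg
  have hξ0 : ξ = 0 := eq_zero_of_good hL _ m nV hg1 hg2 ξ hξ2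
  rw [Functor.map_comp, Category.assoc, ← hξ1, hξ0, cm_zero, comp_zero]

end Groth.Agent.Lib.Helper17.Hyp
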