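import Groth.Agent.Lib.Helper17Hyp4
import Groth.Prelude.Def_FreeSh
import Mathlib.CategoryTheory.Sites.EpiMono
import Mathlib.CategoryTheory.Sites.Whiskering

/-!
# `LocFr` for abelian sheaves on a small site (helper17)
-/

set_option autoImplicit false

universe u

open CategoryTheory CategoryTheory.Limits Opposite

namespace Groth.Agent.Lib.Helper17.Hyp

variable {C : Type u} [SmallCategory C] (J : GrothendieckTopology C)

/-- `U ↦ ℤ_U` as a functor. -/
noncomputable def frSh : C ⥤ Sheaf J AddCommGrpCat.{u} where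
  obj U := CohCx.freeSheaf J U
  map f := CohCx.freeSheafMap J f
  map_id U := CohFree.freeSheafMap_id J U
  map_comp f g := CohFree.freeSheafMap_comp J f g

lemma evalGen_comp {G G' : Sheaf J AddCommGrpCat.{u}} (W : C) (ψ : CohCx.freeSheaf J W ⟶ G)
    (φ : G ⟶ G') :
    CohFree.evalGen J W G' (ψ ≫ φ) = (φ.hom.app (op W)).hom (CohFree.evalGen J W G ψ) := rfl

theorem locFr_frSh : LocFr J (frSh J) where
  lift {F G} π _ U s := by
    haveI : Sheaf.IsLocallySurjective π :=
      (Sheaf.isLocallySurjective_iff_epi' (φ := π)).2 inferInstance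
    let s₀ : CohCx.freeSheaf J U ⟶ G := s
    refine ⟨Presheaf.imageSieve π.hom (CohFree.evalGen J U G s₀),
      Presheaf.imageSieve_mem J π.hom _, fun V f ⟨x, hx⟩ => ?_⟩
    refine ⟨CohFree.ofSect J V F x, ?_⟩
    apply (CohFree.homEquivSect J V G).injective
    show CohFree.evalGen J V G (CohFree.ofSect J V F x ≫ π) =
      CohFree.evalGen J V G (CohCx.freeSheafMap J f ≫ s₀)
    rw [evalGen_comp, CohFree.evalGen_ofSect, CohFree.evalGen_freeSheafMap_comp]
    exact hx
  sep {G} U s T hT h := by
    let s₀ : CohCx.freeSheaf J U ⟶ G := s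
    have key : CohFree.evalGen J U G s₀ = 0 := by
      apply G.isSeparated U T hT
      intro V f hf
      have h1 : CohCx.freeSheafMap J f ≫ s₀ = 0 := h f hf
      have h2 := CohFree.evalGen_freeSheafMap_comp J f G s₀
      rw [h1, map_zero] at h2
      show (G.obj.map f.op).hom (CohFree.evalGen J U G s₀) = (G.obj.map f.op).hom 0
      rw [← h2, map_zero]
    show s₀ = 0
    apply (CohFree.homEquivSect J U G).injective
    rw [CohFree.homEquivSect_apply, key, map_zero]
  gen {G G'} π h := by
    apply Sheaf.hom_ext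
    apply NatTrans.ext
    funext ⟨U⟩
    apply AddCommGrpCat.hom_ext
    ext x
    have h1 : CohFree.ofSect J U G x ≫ π = 0 := h U (CohFree.ofSect J U G x)
    have h2 : CohFree.evalGen J U G' (CohFree.ofSect J U G x ≫ π) = 0 := by
      rw [h1, map_zero]
    rw [evalGen_comp, CohFree.evalGen_ofSect] at h2
    exact h2

end Groth.Agent.Lib.Helper17.Hyp
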