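import Groth.Agent.Lib.Helper17Hyp6
import Groth.Agent.Lib.Helper1Devissage
import Mathlib.CategoryTheory.Triangulated.Yoneda
import Mathlib.CategoryTheory.Triangulated.HomologicalFunctor

/-!
# Vanishing and bijectivity lemmas for `Hom(P, -[m])` in a triangulated category (helper17)
-/

set_option autoImplicit false

universe w w' v v' u u'

open CategoryTheory CategoryTheory.Limits Opposite

namespace Groth.Agent.Lib.Helper17.Hyp

section Tri

open Pretriangulated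

variable {T : Type u'} [Category.{v'} T] [Preadditive T] [HasZeroObject T] [HasShift T ℤ]
    [∀ n : ℤ, (shiftFunctor T n).Additive] [Pretriangulated T]

/-- exactness in the middle of `Hom(P, -[m])`. -/
lemma exists_of_comp_mor₂_eq_zero (Tr : Triangle T) (hT : Tr ∈ distTriang T) (P : T) (m : ℤ)
    (y : P ⟶ Tr.obj₂⟦m⟧) (hy : y ≫ Tr.mor₂⟦m⟧' = 0) : ∃ x : P ⟶ Tr.obj₁⟦m⟧, x ≫ Tr.mor₁⟦m⟧' = y := by
  let F := preadditiveCoyoneda.obj (op P)
  have hex := (F.homologySequence_exact₂ _ hT m)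
  rw [ShortComplex.ab_exact_iff] at hex
  obtain ⟨x, hx⟩ := hex y hy
  exact ⟨x, hx⟩

lemma exists_of_comp_δ_eq_zero (Tr : Triangle T) (hT : Tr ∈ distTriang T) (P : T) (m m' : ℤ)
    (h : m + 1 = m') (z : P ⟶ Tr.obj₃⟦m⟧)
    (hz : (preadditiveCoyoneda.obj (op P)).homologySequenceδ Tr m m' h z = 0) :
    ∃ y : P ⟶ Tr.obj₂⟦m⟧, y ≫ Tr.mor₂⟦m⟧' = z := by
  let F := preadditiveCoyoneda.obj (op P)
  have hex := (F.homologySequence_exact₃ _ hT m m' h)
  rw [ShortComplex.ab_exact_iff] at hex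
  obtain ⟨y, hy⟩ := hex z hz
  exact ⟨y, hy⟩

theorem subsingleton_obj₂ (Tr : Triangle T) (hT : Tr ∈ distTriang T) (P : T) (m : ℤ)
    (h₁ : Subsingleton (P ⟶ Tr.obj₁⟦m⟧)) (h₃ : Subsingleton (P ⟶ Tr.obj₃⟦m⟧)) :
    Subsingleton (P ⟶ Tr.obj₂⟦m⟧) := by
  refine ⟨fun y y' => ?_⟩
  have key : ∀ y : P ⟶ Tr.obj₂⟦m⟧, y = 0 := by
    intro y
    obtain ⟨x, rfl⟩ := exists_of_comp_mor₂_eq_zero Tr hT P m y (Subsingleton.elim _ _)
    rw [Subsingleton.elim x 0, zero_comp]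
  rw [key y, key y']

theorem bijective_postcomp_mor₂ (Tr : Triangle T) (hT : Tr ∈ distTriang T) (P : T) (m : ℤ)
    (h₁ : Subsingleton (P ⟶ Tr.obj₁⟦m⟧)) (h₁' : Subsingleton (P ⟶ Tr.obj₁⟦m + 1⟧)) :
    Function.Bijective (fun y : P ⟶ Tr.obj₂⟦m⟧ => y ≫ Tr.mor₂⟦m⟧') := by
  constructor
  · intro y y' hyy
    have h0 : (y - y') ≫ Tr.mor₂⟦m⟧' = 0 := by
      rw [Preadditive.sub_comp]
      exact sub_eq_zero.2 hyy
    obtain ⟨x, hx⟩ := exists_of_comp_mor₂_eq_zero Tr hT P m _ h0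
    rw [Subsingleton.elim x 0, zero_comp] at hx
    exact sub_eq_zero.1 hx.symm
  · intro z
    haveI : Subsingleton ↑(((preadditiveCoyoneda.obj (op P)).shift (m + 1)).obj Tr.obj₁) := h₁'
    exact exists_of_comp_δ_eq_zero Tr hT P m (m + 1) rfl z (Subsingleton.elim _ _)

end Tri

section Der

open DerivedCategory Pretriangulated

variable {A : Type u} [Category.{v} A] [Abelian A] [HasDerivedCategory.{w} A]

/-- `(F[-q])[j] ≅ F[0][j - q]`. -/
noncomputable def singleShiftIso' (F : A) (q j k : ℤ) (h : k + q = j) :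
    ((singleFunctor A q).obj F)⟦j⟧ ≅ ((singleFunctor A 0).obj F)⟦k⟧ :=
  (shiftFunctor _ j).mapIso (((singleFunctors A).shiftIso (-q) q 0 (by omega)).app F).symm ≪≫
    ((shiftFunctorAdd' (DerivedCategory A) (-q) j k (by omega)).app _).symm

/-- dévissage: vanishing of `Hom(P, Z[j])` from the vanishing of `Hom(P, H^q(Z)[j - q])`. -/
theorem subsingleton_hom_of_bounded (P : DerivedCategory A) (j : ℤ) (Z : DerivedCategory A)
    (a b : ℤ) (hZ : ∀ i : ℤ, (i < a ∨ b < i) → IsZero ((homologyFunctor A i).obj Z))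
    (h : ∀ q : ℤ, a ≤ q → q ≤ b →
      Subsingleton (P ⟶ ((singleFunctor A 0).obj ((homologyFunctor A q).obj Z))⟦j - q⟧)) :
    Subsingleton (P ⟶ Z⟦j⟧) := by
  let PP : ObjectProperty (DerivedCategory A) := fun Z => Subsingleton (P ⟶ Z⟦j⟧)
  haveI : PP.IsClosedUnderIsomorphisms := ⟨fun {Z Z'} e (hZ : Subsingleton (P ⟶ Z⟦j⟧)) => by
    change Subsingleton (P ⟶ Z'⟦j⟧)
    exact ⟨fun y y' => by
      rw [← cancel_mono ((shiftFunctor _ j).mapIso e).inv]
      exact Subsingleton.elim _ _⟩⟩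
  refine Groth.Agent.Lib.Helper1.Devissage.induction_homology' PP ?_ ?_ Z a b hZ ?_
  · intro K hK
    exact ⟨fun y y' => ((shiftFunctor _ j).map_isZero hK).eq_of_tgt _ _⟩
  · intro Tr hT h1 h3
    exact subsingleton_obj₂ Tr hT P j h1 h3
  · intro q hq1 hq2
    have := h q hq1 hq2
    change Subsingleton (P ⟶ _)
    exact ⟨fun y y' => by
      rw [← cancel_mono (singleShiftIso' ((homologyFunctor A q).obj Z) q j (j - q) (by omega)).hom]
      exact Subsingleton.elim _ _⟩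

end Der

end Groth.Agent.Lib.Helper17.Hyp
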