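import Groth.Agent.Lib.Helper17Hyp7

/-!
# The tower of truncations: transition maps on `Hom(P, -[m])` (helper17)
-/

set_option autoImplicit false

universe w w' v v' u u'

open CategoryTheory CategoryTheory.Limits Opposite

namespace Groth.Agent.Lib.Helper17.Hyp

open DerivedCategory Pretriangulated Groth.Agent.S14388

variable {A : Type u} [Category.{v} A] [Abelian A] [HasDerivedCategory.{w} A]

lemma subsingleton_hom_of_iso {P X Y : DerivedCategory A} (e : X ≅ Y)
    (h : Subsingleton (P ⟶ X)) : Subsingleton (P ⟶ Y) :=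
  ⟨fun y y' => by
    rw [← cancel_mono e.inv]
    exact Subsingleton.elim _ _⟩

/-- the transition map `τ_{≥ a} E ⟶ τ_{≥ a+1} E` induces a bijection on `Hom(P, -[m])` as soon as
`Hom(P, H^a(E)[m - a]) = 0 = Hom(P, H^a(E)[m + 1 - a])`. -/
theorem bijective_postcomp_natTransTruncGE (P E : DerivedCategory A) (a m : ℤ)
    (h1 : Subsingleton (P ⟶ ((singleFunctor A 0).obj ((homologyFunctor A a).obj E))⟦m - a⟧))
    (h2 : Subsingleton (P ⟶ ((singleFunctor A 0).obj ((homologyFunctor A a).obj E))⟦m + 1 - a⟧)) :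
    Function.Bijective (fun y : P ⟶ ((tt.truncGE a).obj E)⟦m⟧ =>
      y ≫ ((tt.natTransTruncGEOfLE a (a + 1) (by omega)).app E)⟦m⟧') := by
  let Y := (tt.truncGE a).obj E
  let X := (tt.truncLT (a + 1)).obj Y
  have hT := tt.triangleLTGE_distinguished (a + 1) Y
  -- cohomology of `X`
  have hX : ∀ i : ℤ, (i < a ∨ a < i) → IsZero ((homologyFunctor A i).obj X) := by
    rintro i (hi | hi)
    · have := isIso_homology_truncLTι (a + 1) i (by omega) Y
      exact IsZero.of_iso (isZero_of_isGE Y a i hi)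
        (asIso ((homologyFunctor A i).map ((tt.truncLTι (a + 1)).app Y)))
    · exact isZero_of_isLE X a i hi
  have := isIso_homology_truncLTι (a + 1) a (by omega) Y
  have := isIso_homology_truncGEπ a a le_rfl E
  let eH : (homologyFunctor A a).obj X ≅ (homologyFunctor A a).obj E :=
    asIso ((homologyFunctor A a).map ((tt.truncLTι (a + 1)).app Y)) ≪≫
      (asIso ((homologyFunctor A a).map ((tt.truncGEπ a).app E))).symm
  have hX1 : ∀ j : ℤ,
      Subsingleton (P ⟶ ((singleFunctor A 0).obj ((homologyFunctor A a).obj E))⟦j - a⟧) →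
      Subsingleton (P ⟶ X⟦j⟧) := by
    intro j hj
    apply subsingleton_hom_of_bounded P j X a a hX
    intro q hq1 hq2
    obtain rfl : q = a := le_antisymm hq2 hq1
    exact subsingleton_hom_of_iso
      ((shiftFunctor _ (j - q)).mapIso ((singleFunctor A 0).mapIso eH.symm)) hj
  have hbij := bijective_postcomp_mor₂ _ hT P m (hX1 m h1) (hX1 (m + 1) h2)
  -- compare with the transition map
  haveI : IsIso ((tt.truncGE (a + 1)).map ((tt.truncGEπ a).app E)) :=
    tt.isIso_truncGE_map_truncGEπ_app (a + 1) a (by omega) E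
  have hcomp : (tt.natTransTruncGEOfLE a (a + 1) (by omega)).app E ≫
      (tt.truncGE (a + 1)).map ((tt.truncGEπ a).app E) = (tt.truncGEπ (a + 1)).app Y := by
    apply tt.from_truncGE_obj_ext
    have h3 := tt.π_natTransTruncGEOfLE_app a (a + 1) (by omega) E
    rw [← Category.assoc, h3]
    exact ((tt.truncGEπ (a + 1)).naturality ((tt.truncGEπ a).app E)).symm
  let θ := asIso ((tt.truncGE (a + 1)).map ((tt.truncGEπ a).app E))
  have hfun : (fun y : P ⟶ ((tt.truncGE a).obj E)⟦m⟧ =>
      y ≫ ((tt.natTransTruncGEOfLE a (a + 1) (by omega)).app E)⟦m⟧') =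
      (fun z : P ⟶ ((tt.truncGE (a + 1)).obj Y)⟦m⟧ => z ≫ θ.inv⟦m⟧') ∘
        (fun y : P ⟶ Y⟦m⟧ => y ≫ ((tt.truncGEπ (a + 1)).app Y)⟦m⟧') := by
    funext y
    dsimp only [Function.comp]
    rw [← hcomp, Functor.map_comp, Category.assoc, Category.assoc, ← Functor.map_comp]
    have : (tt.truncGE (a + 1)).map ((tt.truncGEπ a).app E) ≫ θ.inv = 𝟙 _ := θ.hom_inv_id
    rw [this]
    erw [CategoryTheory.Functor.map_id, Category.comp_id]
  rw [hfun]
  refine Function.Bijective.comp ?_ hbij
  constructor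
  · intro z z' hz
    dsimp only at hz
    rwa [cancel_mono] at hz
  · intro z
    exact ⟨z ≫ θ.hom⟦m⟧', by
      dsimp only
      rw [Category.assoc, ← Functor.map_comp, θ.hom_inv_id]
      erw [CategoryTheory.Functor.map_id, Category.comp_id]⟩

theorem bijective_postcomp_natTransTruncGE' (P E : DerivedCategory A) (a b m k₁ k₂ : ℤ)
    (hab : a + 1 = b) (hk₁ : k₁ + a = m) (hk₂ : k₂ + a = m + 1)
    (h1 : Subsingleton (P ⟶ ((singleFunctor A 0).obj ((homologyFunctor A a).obj E))⟦k₁⟧))
    (h2 : Subsingleton (P ⟶ ((singleFunctor A 0).obj ((homologyFunctor A a).obj E))⟦k₂⟧)) :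
    Function.Bijective (fun y : P ⟶ ((tt.truncGE a).obj E)⟦m⟧ =>
      y ≫ ((tt.natTransTruncGEOfLE a b (by omega)).app E)⟦m⟧') := by
  subst hab
  obtain rfl : k₁ = m - a := by omega
  obtain rfl : k₂ = m + 1 - a := by omega
  exact bijective_postcomp_natTransTruncGE P E a m h1 h2

/-- an inverse system of abelian groups with eventually surjective transition maps has
vanishing `R^1 lim`. -/
theorem limOneIsZero_of_surjective : ∀ (N : ℕ) (G : ℕ → Type w') [∀ n, AddCommGroup (G n)]
    (t : ∀ n, G (n + 1) →+ G n) (_ : ∀ n, N ≤ n → Function.Surjective (t n)),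
    CohCx.LimOneIsZero G t := by
  intro N
  induction N with
  | zero =>
    intro G _ t h b
    choose s hs using fun n => h n (Nat.zero_le n)
    let a : ∀ n, G n := fun n => Nat.rec (motive := fun n => G n) 0
      (fun n an => s n (an - b n)) n
    refine ⟨a, ?_⟩
    funext n
    change a n - t n (s n (a n - b n)) = b n
    rw [hs]
    abel
  | succ N ih =>
    intro G _ t h b
    obtain ⟨a', ha'⟩ := ih (fun n => G (n + 1)) (fun n => t (n + 1))
      (fun n hn => h (n + 1) (by omega)) (fun n => b (n + 1))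
    let a : ∀ n, G n := fun n => match n with
      | 0 => b 0 + t 0 (a' 0)
      | n + 1 => a' n
    refine ⟨a, ?_⟩
    funext n
    cases n with
    | zero =>
      change b 0 + t 0 (a' 0) - t 0 (a' 0) = b 0
      abel
    | succ n => exact congrFun ha' n

end Groth.Agent.Lib.Helper17.Hyp
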