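import Groth.Agent.Lib.Helper17Hyp8

/-!
# `E = R lim τ_{≥ -n} E` (abstract form) (helper17)
-/

set_option autoImplicit false

universe x w w' v v' u u'

open CategoryTheory CategoryTheory.Limits Opposite

namespace Groth.Agent.Lib.Helper17.Hyp

section Tri

open Pretriangulated

variable {T : Type u'} [Category.{v'} T] [Preadditive T] [HasZeroObject T] [HasShift T ℤ]
    [∀ n : ℤ, (shiftFunctor T n).Additive] [Pretriangulated T]
    {K : ℕ → T} {t : ∀ n, K (n + 1) ⟶ K n} [HasProduct K]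

theorem isRlimVia_of_iso {L : T} {a : ∀ n, L ⟶ K n} (hL : CohCx.IsRlimVia K t L a) {E : T}
    (ψ : E ⟶ L) [IsIso ψ] (b : ∀ n, E ⟶ K n) (hb : ∀ n, ψ ≫ a n = b n) :
    CohCx.IsRlimVia K t E b := by
  obtain ⟨c, hc⟩ := hL
  refine ⟨c ≫ (inv ψ)⟦(1 : ℤ)⟧', isomorphic_distinguished _ hc _
    (Triangle.isoMk _ _ (show E ≅ L from asIso ψ) (Iso.refl _) (Iso.refl _) ?_ ?_ ?_)⟩
  · change Pi.lift b ≫ 𝟙 _ = ψ ≫ Pi.lift a
    rw [Category.comp_id]
    apply Pi.hom_ext
    intro n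
    rw [Pi.lift_π, Category.assoc, Pi.lift_π, hb]
  · change _ ≫ 𝟙 _ = 𝟙 _ ≫ _
    rw [Category.comp_id, Category.id_comp]
    rfl
  · change (c ≫ (inv ψ)⟦(1 : ℤ)⟧') ≫ ψ⟦(1 : ℤ)⟧' = 𝟙 _ ≫ c
    rw [Category.assoc, ← Functor.map_comp, IsIso.inv_hom_id, CategoryTheory.Functor.map_id,
      Category.comp_id, Category.id_comp]

variable (K t) in
theorem exists_isRlimVia : ∃ (L : T) (a : ∀ n, L ⟶ K n), CohCx.IsRlimVia K t L a := by
  obtain ⟨L, f, c, hc⟩ := distinguished_cocone_triangle₁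
    (Pi.lift fun n => Pi.π K n - Pi.π K (n + 1) ≫ t n)
  refine ⟨L, fun n => f ≫ Pi.π K n, c, ?_⟩
  have : Pi.lift (fun n => f ≫ Pi.π K n) = f := by
    apply Pi.hom_ext
    intro n
    rw [Pi.lift_π]
  rw [this]
  exact hc

theorem exists_lift_to_rlim {L : T} {a : ∀ n, L ⟶ K n} (hL : CohCx.IsRlimVia K t L a) {E : T}
    (b : ∀ n, E ⟶ K n) (hb : ∀ n, b (n + 1) ≫ t n = b n) : ∃ ψ : E ⟶ L, ∀ n, ψ ≫ a n = b n := by
  obtain ⟨c, hc⟩ := hL
  have h0 : Pi.lift b ≫ (Pi.lift fun n => Pi.π K n - Pi.π K (n + 1) ≫ t n) = 0 := by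
    apply Pi.hom_ext
    intro n
    rw [Category.assoc, Pi.lift_π, Preadditive.comp_sub, Pi.lift_π, Pi.lift_π_assoc, hb, sub_self,
      zero_comp]
  obtain ⟨ψ, hψ⟩ := Triangle.coyoneda_exact₂ _ hc (Pi.lift b) h0
  change Pi.lift b = ψ ≫ Pi.lift a at hψ
  refine ⟨ψ, fun n => ?_⟩
  have : Pi.lift b ≫ Pi.π K n = (ψ ≫ Pi.lift a) ≫ Pi.π K n := by rw [hψ]
  rw [Pi.lift_π, Category.assoc, Pi.lift_π] at this
  exact this.symm

end Tri

section

open DerivedCategory Groth.Agent.S14388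

variable {A : Type (v + 1)} [Category.{v} A] [Abelian A]
  {C : Type u'} [Category.{v'} C]
  {J : GrothendieckTopology C} {fr : C ⥤ A}

omit [Abelian A] in
theorem LocFr.zero_of_generate [Abelian A] (h : LocFr J fr) {G : A} (U : C) (s : fr.obj U ⟶ G)
    (R : Presieve U) (hR : Sieve.generate R ∈ J U)
    (hs : ∀ ⦃V : C⦄ (g : V ⟶ U), R g → fr.map g ≫ s = 0) : s = 0 := by
  refine h.sep U s _ hR ?_
  rintro W' _ ⟨W, k, g, hg, rfl⟩
  rw [Functor.map_comp, Category.assoc, hs g hg, comp_zero]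

theorem epi_of_local_lift (h : LocFr J fr) {F G : A} (φ : F ⟶ G)
    (hφ : ∀ (U : C) (s : fr.obj U ⟶ G), ∃ R : Presieve U, Sieve.generate R ∈ J U ∧
      ∀ ⦃V : C⦄ (g : V ⟶ U), R g → ∃ s' : fr.obj V ⟶ F, s' ≫ φ = fr.map g ≫ s) : Epi φ := by
  apply Abelian.epi_of_cokernel_π_eq_zero
  apply h.gen
  intro U s
  obtain ⟨R, hR, hR'⟩ := hφ U s
  refine h.zero_of_generate U _ R hR ?_
  intro V g hg
  obtain ⟨s', hs'⟩ := hR' g hg
  rw [← Category.assoc, ← hs', Category.assoc, cokernel.condition, comp_zero]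

variable [HasDerivedCategory.{w} A]

lemma toTruncTower_comp_truncTowerMap (E : DerivedCategory A) (n : ℕ) :
    CohCx.toTruncTower E (n + 1) ≫ CohCx.truncTowerMap E n = CohCx.toTruncTower E n :=
  tt.π_natTransTruncGEOfLE_app _ _ _ E

/-- Abstract criterion for `E = R lim τ_{≥ -n} E`. -/
theorem isRlimVia_truncTower_of_hloc (h : LocFr J fr) (E : DerivedCategory A)
    [HasProduct (CohCx.truncTower E)]
    (hloc : ∀ (L : DerivedCategory A) (a : ∀ n, L ⟶ CohCx.truncTower E n)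
      (_ : CohCx.IsRlimVia (CohCx.truncTower E) (CohCx.truncTowerMap E) L a) (m : ℤ) (U : C),
      ∃ (ι : Type x) (n : ι → ℕ), (∀ i, -(n i : ℤ) ≤ m) ∧
        ∀ d : ι → (fr.obj U ⟶ (homologyFunctor A m).obj L),
          (∀ i, d i ≫ (homologyFunctor A m).map (a (n i)) = 0) →
          ∃ R : Presieve U, Sieve.generate R ∈ J U ∧
            ∀ ⦃V : C⦄ (g : V ⟶ U), R g → ∃ i, fr.map g ≫ d i = 0) :
    CohCx.IsRlimVia (CohCx.truncTower E) (CohCx.truncTowerMap E) E (CohCx.toTruncTower E) := by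
  obtain ⟨L, a, hL⟩ := exists_isRlimVia (CohCx.truncTower E) (CohCx.truncTowerMap E)
  obtain ⟨ψ, hψ⟩ := exists_lift_to_rlim hL (CohCx.toTruncTower E)
    (toTruncTower_comp_truncTowerMap E)
  suffices IsIso ψ from isRlimVia_of_iso hL ψ _ hψ
  rw [DerivedCategory.isIso_iff]
  intro m
  have hγ : ∀ n : ℕ, -(n : ℤ) ≤ m →
      IsIso ((homologyFunctor A m).map (CohCx.toTruncTower E n)) :=
    fun n hn => isIso_homology_truncGEπ (-(n : ℤ)) m hn E
  have hfac : ∀ n : ℕ, (homologyFunctor A m).map ψ ≫ (homologyFunctor A m).map (a n) =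
      (homologyFunctor A m).map (CohCx.toTruncTower E n) := fun n => by
    rw [← Functor.map_comp, hψ]
  haveI : Mono ((homologyFunctor A m).map ψ) := by
    haveI := hγ (-m).toNat (by omega)
    haveI : Mono ((homologyFunctor A m).map ψ ≫ (homologyFunctor A m).map (a (-m).toNat)) := by
      rw [hfac]
      infer_instance
    exact mono_of_mono _ ((homologyFunctor A m).map (a (-m).toNat))
  haveI : Epi ((homologyFunctor A m).map ψ) := by
    apply epi_of_local_lift h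
    intro U s
    obtain ⟨ι, n, hn, hd⟩ := hloc L a hL m U
    let γinv : ∀ i, (homologyFunctor A m).obj (CohCx.truncTower E (n i)) ⟶
        (homologyFunctor A m).obj E := fun i =>
      haveI := hγ (n i) (hn i)
      inv ((homologyFunctor A m).map (CohCx.toTruncTower E (n i)))
    let s' : ι → (fr.obj U ⟶ (homologyFunctor A m).obj E) := fun i =>
      s ≫ (homologyFunctor A m).map (a (n i)) ≫ γinv i
    obtain ⟨R, hR, hR'⟩ := hd (fun i => s' i ≫ (homologyFunctor A m).map ψ - s) (fun i => by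
      haveI := hγ (n i) (hn i)
      rw [Preadditive.sub_comp, Category.assoc, hfac]
      simp only [s', γinv, Category.assoc, IsIso.inv_hom_id, Category.comp_id, sub_self])
    refine ⟨R, hR, fun V g hg => ?_⟩
    obtain ⟨i, hi⟩ := hR' g hg
    refine ⟨fr.map g ≫ s' i, ?_⟩
    rw [Preadditive.comp_sub, sub_eq_zero] at hi
    rw [Category.assoc]
    exact hi
  exact isIso_of_mono_of_epi _

end

end Groth.Agent.Lib.Helper17.Hyp
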