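import Groth.Agent.Lib.Helper17HypX
import Groth.Agent.Lib.Helper17HypMod
import Groth.Agent.Lib.Helper17BCVan
import Groth.Agent.Lib.Helper23FinTypeLocal

/-!
# `lim = R lim` for towers of quasi-coherent modules with surjective transition maps (helper17)
-/

set_option autoImplicit false
set_option linter.style.haveILetI false
set_option synthInstance.maxHeartbeats 40000

universe u

open CategoryTheory CategoryTheory.Limits Opposite AlgebraicGeometry TopologicalSpace

attribute [local instance] HasDerivedCategory.standard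

namespace Groth.Agent.Lib.Helper17.HypX

open Groth.Agent.Lib.Helper17.Hyp Groth.Agent.Lib.Helper21 Groth.Agent.Lib.Helper21.FreeAb
  Groth.Agent.Lib.Helper21.TorsFree Groth.Agent.Lib.Helper23.AffVanish
  Groth.Agent.Lib.Helper23.FinType

variable {X : Scheme.{u}}

/-- converse direction of the dictionary in `subsingleton_hom_fr`. -/
theorem subsingleton_HE_of_hom_fr (W : X.Opens) (M : X.Modules) (k : ℕ)
    (h : Subsingleton (dsgl ((frX X).obj W) ⟶ (dsgl M)⟦(k : ℤ)⟧)) :
    Subsingleton (HE (ab' M) k W) := by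
  haveI : IsGrothendieckAbelian.{u} (SheafOfModules.{u} X.ringCatSheaf) :=
    Groth.Agent.S0484.result (Opens.grothendieckTopology X) X.ringCatSheaf
  haveI : EnoughInjectives (SheafOfModules.{u} X.ringCatSheaf) := inferInstance
  haveI : HasExt.{u} (SheafOfModules.{u} X.ringCatSheaf) := hasExt_of_enoughInjectives _
  haveI : HasExt.{u} X.Modules := ‹HasExt.{u} (SheafOfModules.{u} X.ringCatSheaf)›
  obtain ⟨e⟩ := @nonempty_ext_freeShR_iso _ _ _ X.ringCatSheaf
    ‹HasExt.{u} (SheafOfModules.{u} X.ringCatSheaf)›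
    (CohCx.freeSheaf (Opens.grothendieckTopology X) W) (TF_freeSheaf W) M k
  have h1 : Subsingleton (Abelian.Ext.{u}
      ((freeShR X.ringCatSheaf).obj (CohCx.freeSheaf (Opens.grothendieckTopology X) W)) M k) :=
    @Equiv.subsingleton _ _ (Abelian.Ext.homEquiv
      (X := (freeShR X.ringCatSheaf).obj (CohCx.freeSheaf (Opens.grothendieckTopology X) W))
      (Y := M) (n := k)) h
  exact @Equiv.subsingleton _ _ e.addCommGroupIsoToAddEquiv.symm.toEquiv h1

theorem rlim_tower (F : ℕ → X.Modules) (hF : ∀ n, (F n).IsQuasicoherent)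
    (t : ∀ n, F (n + 1) ⟶ F n) (ht : ∀ n, 1 ≤ n → Epi (t n))
    [HasProduct fun n => DCoh.inD X (F n)] :
    DCoh.IsRlim (fun n => DCoh.inD X (F n))
        (fun n => (DerivedCategory.singleFunctor X.Modules 0).map (t n))
        (DCoh.inD X (Limits.limit (Functor.ofOpSequence t))) ∧
      ∀ (U : X.Opens), IsAffineOpen U → ∀ p : ℕ, 0 < p →
        Subsingleton (Coh.HHon X (Limits.limit (Functor.ofOpSequence t)) U p) := by
  obtain ⟨r1, r2⟩ := @rlim_dsgl_of_acyclic_mod.{u + 1, u} X.Opens _ (Opens.grothendieckTopology X)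
    X.ringCatSheaf (HasDerivedCategory.standard X.Modules) F t
    ‹HasProduct fun n => DCoh.inD X (F n)› {W : X.Opens | IsAffineOpen W}
    (fun U => ⟨affPresieve U, generate_affPresieve_mem U, fun V g hg => hg⟩)
    (fun U hU k n hk => by
      haveI := hF n
      exact subsingleton_hom_fr hU (F n) k hk)
    (fun U hU => by
      refine limOneIsZero_of_surjective 1 _ _ (fun n hn => ?_)
      haveI := hF n
      haveI := hF (n + 1)
      haveI := ht n hn
      exact surjective_app_of_epi (t n) hU)
  refine ⟨r1, fun U hU p hp => ?_⟩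
  obtain ⟨e⟩ := Groth.Agent.Lib.Helper17.BCVan.nonempty_HE_equiv_HHon
    (Limits.limit (Functor.ofOpSequence t)) U p
  haveI := subsingleton_HE_of_hom_fr U (Limits.limit (Functor.ofOpSequence t)) p (r2 U hU p hp)
  exact e.symm.toEquiv.subsingleton

end Groth.Agent.Lib.Helper17.HypX
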