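import Groth.Agent.Lib.Helper17GrSysH
import Groth.Prelude.Def_Formal2
import Groth.Prelude.Def_ega3
import Groth.Prelude.Def_KLin

/-!
# The `I`-adic graded system of an `O_X`-module (helper17)

For `X` over `Spec A`, an ideal `J` of `A` and an `O_X`-module `M`, `IM J M = J · M` (the image of
`∐_{b ∈ J} M ⟶ M`), with the multiplication maps `mulTo a : J · M ⟶ J' · M` (`a J ⊆ J'`) and the
inclusions `inclTo : J · M ⟶ J' · M` (`J ≤ J'`).  For generators `a_1, …, a_r` of `I`, the modules
`I^n · M` with the operators `a_i` form a graded system of finite type (`adicSys`, `adicSys_FT`).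
-/

set_option autoImplicit false
universe u
open CategoryTheory Limits AlgebraicGeometry TopologicalSpace Opposite

namespace Groth.Agent.Lib.Helper17.IAdic

open Groth.Agent.Lib.Helper17.GrSys

variable {A : Type u} [CommRing A] {X : Scheme.{u}} [X.Over (Spec (CommRingCat.of A))]

section SmulMod

variable (M : X.Modules)

theorem smulMod_add (a b : A) :
    Formal.smulMod A M (a + b) = Formal.smulMod A M a + Formal.smulMod A M b := by
  unfold Formal.smulMod
  rw [map_add]
  exact KLin.smulModΓ_add M _ _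

theorem smulMod_zero : Formal.smulMod A M (0 : A) = 0 := by
  unfold Formal.smulMod
  rw [map_zero]
  exact KLin.smulModΓ_zero M

theorem smulMod_one : Formal.smulMod A M (1 : A) = 𝟙 M := by
  unfold Formal.smulMod
  rw [map_one]
  exact KLin.smulModΓ_one M

theorem smulMod_mul (a b : A) :
    Formal.smulMod A M (a * b) = Formal.smulMod A M b ≫ Formal.smulMod A M a :=
  CohIII.smulMod_mul M a b

theorem smulMod_mul' (a b : A) :
    Formal.smulMod A M (a * b) = Formal.smulMod A M a ≫ Formal.smulMod A M b := by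
  rw [mul_comm, smulMod_mul]

variable {M}

theorem comp_smulMod {N : X.Modules} (f : M ⟶ N) (a : A) :
    f ≫ Formal.smulMod A N a = Formal.smulMod A M a ≫ f :=
  KLin.comp_smulModΓ f _

end SmulMod

section IM

variable (J : Ideal A) (M : X.Modules)

/-- `J · M`. -/
noncomputable abbrev IM : X.Modules := Abelian.image (Formal.smulFamily J M)

/-- the inclusion `J · M ⟶ M`. -/
noncomputable abbrev IMι : IM J M ⟶ M := Abelian.image.ι (Formal.smulFamily J M)

/-- multiplication by `c ∈ J`, as a morphism `M ⟶ J · M`. -/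
noncomputable def toIM (c : A) (hc : c ∈ J) : M ⟶ IM J M :=
  Sigma.ι (fun _ : J => M) ⟨c, hc⟩ ≫ Abelian.factorThruImage (Formal.smulFamily J M)

@[reassoc (attr := simp)]
theorem toIM_ι (c : A) (hc : c ∈ J) : toIM J M c hc ≫ IMι J M = Formal.smulMod A M c := by
  unfold toIM
  rw [Category.assoc, Abelian.image.fac]
  simp [Formal.smulFamily]

variable {J M}

/-- morphisms out of `J · M` are determined by their composites with the `toIM c`. -/
theorem IM_hom_ext {Z : X.Modules} {g h : IM J M ⟶ Z}
    (w : ∀ (c : A) (hc : c ∈ J), toIM J M c hc ≫ g = toIM J M c hc ≫ h) : g = h := by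
  rw [← cancel_epi (Abelian.factorThruImage (Formal.smulFamily J M))]
  apply Sigma.hom_ext
  intro b
  have := w b.1 b.2
  unfold toIM at this
  simpa only [Category.assoc] using this

theorem toIM_congr {c c' : A} (h : c = c') (hc : c ∈ J) : toIM J M c hc = toIM J M c' (h ▸ hc) := by
  subst h; rfl

theorem toIM_add (c c' : A) (hc : c ∈ J) (hc' : c' ∈ J) :
    toIM J M (c + c') (J.add_mem hc hc') = toIM J M c hc + toIM J M c' hc' := by
  rw [← cancel_mono (IMι J M), Preadditive.add_comp, toIM_ι, toIM_ι, toIM_ι, smulMod_add]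

theorem toIM_zero : toIM J M 0 J.zero_mem = 0 := by
  rw [← cancel_mono (IMι J M), zero_comp, toIM_ι, smulMod_zero]

/-- multiplication by `a`, as a morphism `J · M ⟶ J' · M` when `a J ⊆ J'`. -/
noncomputable def mulTo (a : A) {J J' : Ideal A} (h : ∀ b ∈ J, a * b ∈ J') (M : X.Modules) :
    IM J M ⟶ IM J' M :=
  kernel.lift _ (IMι J M ≫ Formal.smulMod A M a) (by
    apply IM_hom_ext
    intro c hc
    rw [comp_zero, Category.assoc, toIM_ι_assoc, ← Category.assoc, ← smulMod_mul,
      ← toIM_ι J' M (a * c) (h c hc), Category.assoc]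
    erw [kernel.condition]
    rw [comp_zero])

@[reassoc (attr := simp)]
theorem mulTo_ι (a : A) {J J' : Ideal A} (h : ∀ b ∈ J, a * b ∈ J') (M : X.Modules) :
    mulTo a h M ≫ IMι J' M = IMι J M ≫ Formal.smulMod A M a :=
  kernel.lift_ι _ _ _

/-- the inclusion `J · M ⟶ J' · M` for `J ≤ J'`. -/
noncomputable def inclTo {J J' : Ideal A} (h : J ≤ J') (M : X.Modules) : IM J M ⟶ IM J' M :=
  kernel.lift _ (IMι J M) (by
    apply IM_hom_ext
    intro c hc
    rw [comp_zero, toIM_ι_assoc, ← toIM_ι J' M c (h hc), Category.assoc]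
    erw [kernel.condition]
    rw [comp_zero])

@[reassoc (attr := simp)]
theorem inclTo_ι {J J' : Ideal A} (h : J ≤ J') (M : X.Modules) :
    inclTo h M ≫ IMι J' M = IMι J M :=
  kernel.lift_ι _ _ _

theorem toIM_mulTo (a : A) {J J' : Ideal A} (h : ∀ b ∈ J, a * b ∈ J') (M : X.Modules) (c : A)
    (hc : c ∈ J) : toIM J M c hc ≫ mulTo a h M = toIM J' M (a * c) (h c hc) := by
  rw [← cancel_mono (IMι J' M), Category.assoc, mulTo_ι, toIM_ι_assoc, toIM_ι, smulMod_mul]

end IM

section AdicSys

variable {r : ℕ} (a : Fin r → A) (I : Ideal A) (hI : ∀ i, a i ∈ I) (M : X.Modules)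

include hI in
theorem mul_mem_pow_succ (i : Fin r) (n : ℕ) : ∀ b ∈ I ^ n, a i * b ∈ I ^ (n + 1) := fun b hb => by
  rw [pow_succ']
  exact Ideal.mul_mem_mul (hI i) hb

/-- the graded system `(I^n · M)_n` with the operators `a_i`. -/
noncomputable abbrev adicSys : Sys X.Modules r where
  obj n := IM (I ^ n) M
  T i n := mulTo (a i) (mul_mem_pow_succ a I hI i n) M
  comm i j n := by
    rw [← cancel_mono (IMι (I ^ (n + 1 + 1)) M)]
    simp only [Category.assoc, mulTo_ι, mulTo_ι_assoc]
    rw [← smulMod_mul', ← smulMod_mul', mul_comm]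

variable (hspan : I = Ideal.span (Set.range a))

include hspan in
/-- the `I`-adic system is of finite type. -/
theorem adicSys_FT : (adicSys a I hI M).FT := by
  refine ⟨0, fun n _ Z g hg => ?_⟩
  suffices H : ∀ g : IM (I ^ (n + 1)) M ⟶ Z,
      (∀ i, mulTo (a i) (mul_mem_pow_succ a I hI i n) M ≫ g = 0) → g = 0 from H g hg
  clear hg g
  intro g hg'
  -- reduce to the generators
  have key : ∀ x ∈ I, ∀ y (hy : y ∈ I ^ n) (hxy : x * y ∈ I ^ (n + 1)),
      toIM (I ^ (n + 1)) M (x * y) hxy ≫ g = 0 := by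
    intro x hx
    rw [hspan] at hx
    induction hx using Submodule.span_induction with
    | mem x hx =>
      obtain ⟨i, rfl⟩ := hx
      intro y hy hxy
      rw [← toIM_mulTo (a i) (mul_mem_pow_succ a I hI i n) M y hy, Category.assoc, hg' i,
        comp_zero]
    | zero =>
      intro y hy hxy
      rw [toIM_congr (zero_mul y) hxy, toIM_zero, zero_comp]
    | add x x' hx hx' ih ih' =>
      intro y hy hxy
      have h1 : x * y ∈ I ^ (n + 1) := by
        rw [pow_succ']; exact Ideal.mul_mem_mul (hspan ▸ hx) hy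
      have h2 : x' * y ∈ I ^ (n + 1) := by
        rw [pow_succ']; exact Ideal.mul_mem_mul (hspan ▸ hx') hy
      rw [toIM_congr (add_mul x x' y) hxy, toIM_add _ _ h1 h2, Preadditive.add_comp,
        ih y hy h1, ih' y hy h2, add_zero]
    | smul c x hx ih =>
      intro y hy hxy
      have h1 : x * (c * y) ∈ I ^ (n + 1) := by
        rw [pow_succ']; exact Ideal.mul_mem_mul (hspan ▸ hx) (Ideal.mul_mem_left _ c hy)
      rw [toIM_congr (show c • x * y = x * (c * y) by rw [smul_eq_mul]; ring) hxy]
      exact ih (c * y) (Ideal.mul_mem_left _ c hy) h1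
  apply IM_hom_ext
  intro c hc
  rw [comp_zero]
  have hc' : c ∈ I * I ^ n := by rw [← pow_succ']; exact hc
  have H : ∀ c, c ∈ I * I ^ n → ∃ hc : c ∈ I ^ (n + 1), toIM (I ^ (n + 1)) M c hc ≫ g = 0 := by
    intro c hc'
    refine Submodule.mul_induction_on hc' (fun x hx y hy => ?_) (fun x y ihx ihy => ?_)
    · have hxy : x * y ∈ I ^ (n + 1) := by rw [pow_succ']; exact Ideal.mul_mem_mul hx hy
      exact ⟨hxy, key x hx y hy hxy⟩
    · obtain ⟨hx, ex⟩ := ihx
      obtain ⟨hy, ey⟩ := ihy
      exact ⟨add_mem hx hy, by rw [toIM_add _ _ hx hy, Preadditive.add_comp, ex, ey, add_zero]⟩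
  obtain ⟨_, e⟩ := H c hc'
  exact e

end AdicSys

section Coh

open Groth.Agent.Lib.Helper23.QCohLocal Groth.Agent.Lib.Helper23.FinType
  Groth.Agent.Lib.Helper4.Dev

theorem isCoh_quot (J : Ideal A) (M : X.Modules) (hM : Coh.IsCoh M) :
    Coh.IsCoh (cokernel (Formal.smulFamily J M)) := by
  haveI : M.IsQuasicoherent := hM.1
  haveI : SheafOfModules.IsFiniteType (R := X.ringCatSheaf) M := hM.2
  haveI : (∐ fun _ : J => M).IsQuasicoherent :=
    isQuasicoherent_colimit (Discrete.functor fun _ : J => M) (fun _ => hM.1)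
  haveI : (cokernel (Formal.smulFamily J M)).IsQuasicoherent :=
    isQuasicoherent_cokernel (Formal.smulFamily J M)
  exact ⟨inferInstance, isFiniteType_of_epi (cokernel.π (Formal.smulFamily J M))⟩

theorem isCoh_IM [IsLocallyNoetherian X] (J : Ideal A) (M : X.Modules) (hM : Coh.IsCoh M) :
    Coh.IsCoh (IM J M) :=
  isCoh_kernel (cokernel.π (Formal.smulFamily J M)) hM (isCoh_quot J M hM)

end Coh

section KL

open Groth.Agent.Lib.Helper17.GrSysH Groth.Agent.Lib.Helper17.HHLes

variable [IsNoetherianRing A] [IsProper (X ↘ Spec (CommRingCat.of A))]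
  {r : ℕ} (a : Fin r → A) (I : Ideal A) (hI : ∀ i, a i ∈ I)
  (hspan : I = Ideal.span (Set.range a)) (M : X.Modules) (hM : Coh.IsCoh M)

include hspan hM in
/-- **Finiteness of `⊕ H^p(X, I^n M)` over the Rees algebra**, in terms of generators of `I`. -/
theorem hft_adicSys (p : ℕ) : HFT (adicSys a I hI M) p := by
  haveI : IsLocallyNoetherian X :=
    LocallyOfFiniteType.isLocallyNoetherian (X ↘ Spec (CommRingCat.of A))
  exact hft_of_FT A (adicSys a I hI M) (fun n => isCoh_IM (I ^ n) M hM)
    (adicSys_FT a I hI M hspan) p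

end KL

end Groth.Agent.Lib.Helper17.IAdic
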