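-- helper17: the equalizer construction behind representability of the diagonal.
import Groth.Agent.Lib.Helper17DiagRep
import Mathlib.CategoryTheory.Limits.Constructions.Equalizers

set_option autoImplicit false
open CategoryTheory CategoryTheory.Functor

universe v₂ u₂ v u

namespace Groth.Agent.Lib.Helper17

section IsomEq

variable {C : Type u} [Category.{v} C] [Limits.HasEqualizers C] {W : C}
  {𝒮 : BasedCategory.{v₂, u₂} C}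

omit [Limits.HasEqualizers C] in
theorem over_isHomLift_left {x y : Over W} (φ : x ⟶ y) : (Over.forget W).IsHomLift φ.left φ :=
  IsHomLift.map (Over.forget W) φ

omit [Limits.HasEqualizers C] in
theorem over_left_of_isHomLift' {x y : Over W} (φ : x ⟶ y) (f : x.left ⟶ y.left)
    (h : (Over.forget W).IsHomLift f φ) : φ.left = f := by
  have := IsHomLift.fac' (Over.forget W) f φ
  simpa using this

theorem exists_isomEqualizer (h𝒮 : FibCat.IsFibGrpd 𝒮.p) (a b : FibCat.overCat W ⥤ᵇ 𝒮)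
    (w₁ : Over W) (h₂ : w₁.left ⟶ W) (θ : a.obj w₁ ≅ b.obj (Over.mk h₂))
    (hθ : 𝒮.p.IsHomLift (𝟙 w₁.left) θ.hom)
    (hterm : ∀ ρ : (FibCat.fp a b).obj,
      Nonempty (Unique (ρ ⟶ (⟨⟨w₁, Over.mk h₂, θ⟩, hθ⟩ : (FibCat.fp a b).obj)))) :
    ∃ (w0 : Over W) (θ' : a.obj w0 ≅ b.obj w0), 𝒮.p.IsHomLift (𝟙 w0.left) θ'.hom ∧
      ∀ (w : Over W) (θw : a.obj w ≅ b.obj w), 𝒮.p.IsHomLift (𝟙 w.left) θw.hom →
        ∃! γ : w ⟶ w0, a.map γ ≫ θ'.hom = θw.hom ≫ b.map γ := by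
  let τ : (FibCat.fp a b).obj := ⟨⟨w₁, Over.mk h₂, θ⟩, hθ⟩
  let Z' : C := Limits.equalizer w₁.hom h₂
  let j : Z' ⟶ w₁.left := Limits.equalizer.ι w₁.hom h₂
  have hj : j ≫ w₁.hom = j ≫ h₂ := Limits.equalizer.condition w₁.hom h₂
  let w0 : Over W := Over.mk (j ≫ w₁.hom)
  let α₀ : w0 ⟶ w₁ := Over.homMk j rfl
  let β₀ : w0 ⟶ Over.mk h₂ := Over.homMk j hj.symm
  have hα₀ : (FibCat.overCat W).p.IsHomLift j α₀ := over_isHomLift_left α₀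
  have hβ₀ : (FibCat.overCat W).p.IsHomLift j β₀ := over_isHomLift_left β₀
  have haα₀ : 𝒮.p.IsHomLift j (a.map α₀) := BasedFunctor.preserves_isHomLift a j α₀
  have hbβ₀ : 𝒮.p.IsHomLift j (b.map β₀) := BasedFunctor.preserves_isHomLift b j β₀
  have hcart : 𝒮.p.IsStronglyCartesian j (b.map β₀) :=
    IsFibGrpd.isStronglyCartesian_of_isHomLift h𝒮 j (b.map β₀)
  have hφ' : 𝒮.p.IsHomLift j (a.map α₀ ≫ θ.hom) :=
    IsHomLift.comp_lift_id_right 𝒮.p j (a.map α₀) θ.hom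
  let t' : a.obj w0 ⟶ b.obj w0 :=
    IsStronglyCartesian.map 𝒮.p j (b.map β₀) (g := 𝟙 Z') (Category.id_comp j).symm
      (a.map α₀ ≫ θ.hom)
  have ht'lift : 𝒮.p.IsHomLift (𝟙 Z') t' :=
    IsStronglyCartesian.map_isHomLift 𝒮.p j (b.map β₀) (Category.id_comp j).symm (a.map α₀ ≫ θ.hom)
  have ht'fac : t' ≫ b.map β₀ = a.map α₀ ≫ θ.hom :=
    IsStronglyCartesian.fac 𝒮.p j (b.map β₀) (Category.id_comp j).symm (a.map α₀ ≫ θ.hom)
  have ht'iso : IsIso t' := IsFibGrpd.isIso_of_isHomLift_id h𝒮 Z' t'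
  refine ⟨w0, asIso t', ht'lift, ?_⟩
  intro w θw hθw
  -- the object of the fibre product attached to `(w, θw)` and its morphism to the terminal object
  let ρ : (FibCat.fp a b).obj := ⟨⟨w, w, θw⟩, hθw⟩
  obtain ⟨uρ⟩ := hterm ρ
  let μ : ρ ⟶ τ := uρ.default
  have hμuniq : ∀ μ' : ρ ⟶ τ, μ' = μ := fun μ' => uρ.uniq μ'
  obtain ⟨μ₁, hμ₁⟩ : ∃ m : w ⟶ w₁, m = μ.hom.fst := ⟨_, rfl⟩
  obtain ⟨μ₂, hμ₂⟩ : ∃ m : w ⟶ Over.mk h₂, m = μ.hom.snd := ⟨_, rfl⟩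
  have hμw : a.map μ₁ ≫ θ.hom = θw.hom ≫ b.map μ₂ := by
    rw [hμ₁, hμ₂]; exact μ.hom.w
  have hμ₂l : μ₂.left = μ₁.left := by
    have hl : (Over.forget W).IsHomLift ((FibCat.fp a b).p.map μ) μ.hom.snd :=
      FibCat.fp_isHomLift_snd _ _ μ
    rw [hμ₁, hμ₂]
    exact over_left_of_isHomLift' μ.hom.snd μ.hom.fst.left hl
  have e1 : μ₁.left ≫ w₁.hom = w.hom := Over.w μ₁
  have e2 : μ₁.left ≫ h₂ = w.hom := by
    rw [← hμ₂l]; exact Over.w μ₂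
  let k : w.left ⟶ Z' := Limits.equalizer.lift μ₁.left (e1.trans e2.symm)
  have hk : k ≫ j = μ₁.left := Limits.equalizer.lift_ι _ _
  let γ : w ⟶ w0 := Over.homMk k (by
    change k ≫ j ≫ w₁.hom = w.hom
    rw [← Category.assoc, hk, e1])
  have hγα : γ ≫ α₀ = μ₁ := by
    apply Over.OverMorphism.ext
    exact hk
  have hγβ : γ ≫ β₀ = μ₂ := by
    apply Over.OverMorphism.ext
    exact hk.trans hμ₂l.symm
  have hγlift : (FibCat.overCat W).p.IsHomLift k γ := over_isHomLift_left γ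
  -- a morphism `γ'` satisfying the compatibility gives a morphism to the terminal object
  have key : ∀ γ' : w ⟶ w0, a.map γ' ≫ t' = θw.hom ≫ b.map γ' →
      γ' ≫ α₀ = μ₁ := by
    intro γ' hγ'
    have hw' : a.map (γ' ≫ α₀) ≫ θ.hom = θw.hom ≫ b.map (γ' ≫ β₀) := by
      rw [a.toFunctor.map_comp, b.toFunctor.map_comp, Category.assoc, ← ht'fac, ← Category.assoc,
        hγ', Category.assoc]
    let μ' : ρ ⟶ τ := ObjectProperty.homMk ⟨γ' ≫ α₀, γ' ≫ β₀, hw'⟩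
    have := hμuniq μ'
    have h3 : μ'.hom.fst = μ.hom.fst := congrArg (fun t => t.hom.fst) this
    exact h3.trans hμ₁.symm
  refine ⟨γ, ?_, ?_⟩
  · -- compatibility of `γ`
    change a.map γ ≫ t' = θw.hom ≫ b.map γ
    have haγ : 𝒮.p.IsHomLift k (a.map γ) := BasedFunctor.preserves_isHomLift a k γ
    have l1 : 𝒮.p.IsHomLift k (a.map γ ≫ t') :=
      IsHomLift.comp_lift_id_right 𝒮.p k (a.map γ) t'
    have hbγ : 𝒮.p.IsHomLift k (b.map γ) := BasedFunctor.preserves_isHomLift b k γ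
    have l2 : 𝒮.p.IsHomLift k (θw.hom ≫ b.map γ) :=
      IsHomLift.comp_lift_id_left 𝒮.p k (b.map γ) θw.hom
    apply IsStronglyCartesian.ext 𝒮.p j (b.map β₀) k
    have c1 : a.map γ ≫ a.map α₀ = a.map μ₁ := by
      rw [← a.toFunctor.map_comp]; exact congrArg a.toFunctor.map hγα
    have c2 : b.map γ ≫ b.map β₀ = b.map μ₂ := by
      rw [← b.toFunctor.map_comp]; exact congrArg b.toFunctor.map hγβ
    rw [Category.assoc, ht'fac, ← Category.assoc, c1, Category.assoc, c2]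
    exact hμw
  · intro γ' hγ'
    have h1 := key γ' hγ'
    apply Over.OverMorphism.ext
    have h2 : γ'.left ≫ j = γ.left ≫ j := by
      have e3 : (γ' ≫ α₀).left = (γ ≫ α₀).left := by rw [h1, hγα]
      exact e3
    have : Mono j := Limits.equalizer.ι_mono
    exact (cancel_mono j).1 h2

theorem exists_isomEqualizer' (h𝒮 : FibCat.IsFibGrpd 𝒮.p) (a b : FibCat.overCat W ⥤ᵇ 𝒮)
    (τ : (FibCat.fp a b).obj) (hterm : ∀ ρ : (FibCat.fp a b).obj, Nonempty (Unique (ρ ⟶ τ))) :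
    ∃ (w0 : Over W) (θ' : a.obj w0 ≅ b.obj w0), 𝒮.p.IsHomLift (𝟙 w0.left) θ'.hom ∧
      ∀ (w : Over W) (θw : a.obj w ≅ b.obj w), 𝒮.p.IsHomLift (𝟙 w.left) θw.hom →
        ∃! γ : w ⟶ w0, a.map γ ≫ θ'.hom = θw.hom ≫ b.map γ := by
  obtain ⟨⟨w₁, w₂, θ⟩, hθ⟩ := τ
  have hθ' : 𝒮.p.IsHomLift (𝟙 w₁.left) θ.hom := hθ
  have ε : w₂.left = w₁.left :=
    (b.w_obj w₂).symm.trans (IsHomLift.codomain_eq 𝒮.p (𝟙 w₁.left) θ.hom)
  obtain ⟨Z₂, ⟨⟨⟩⟩, h₂⟩ := w₂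
  change Z₂ = w₁.left at ε
  subst ε
  exact exists_isomEqualizer h𝒮 a b w₁ h₂ θ hθ' hterm

end IsomEq

section DiagRepBackward

variable {C : Type u} [Category.{v} C] [Limits.HasBinaryProducts C] [Limits.HasPullbacks C]
  {𝒮 : BasedCategory.{v, max u v} C}

theorem isRepresentable1_diag_of_forall (h𝒮 : FibCat.IsFibGrpd 𝒮.p)
    (hall : ∀ (U : C) (G : FibCat.overCat U ⥤ᵇ 𝒮), FibCat.IsRepresentable1 G) :
    FibCat.IsRepresentable1 (FibCat.diag (FibCat.toSelf 𝒮)) := by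
  intro W Hh
  have : Limits.HasEqualizers C := Limits.hasEqualizers_of_hasPullbacks_and_binary_products (C := C)
  let a : FibCat.overCat W ⥤ᵇ 𝒮 :=
    BasedFunctor.comp Hh (FibCat.fpFst (FibCat.toSelf 𝒮) (FibCat.toSelf 𝒮))
  let b : FibCat.overCat W ⥤ᵇ 𝒮 :=
    BasedFunctor.comp Hh (FibCat.fpSnd (FibCat.toSelf 𝒮) (FibCat.toSelf 𝒮))
  have hrep : FibCat.IsRepresentable (FibCat.fp a b) := hall W b W a
  have hover : FibCat.IsFibGrpd (FibCat.overCat W).p := (isFibSet_overForget W).1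
  have hfp : FibCat.IsFibGrpd (FibCat.fp a b).p := isFibGrpd_fp a b hover hover h𝒮
  have hfib1 : (FibCat.fp a b).p.IsFibered := IsFibGrpd.isFibered hfp
  obtain ⟨-, τ, hτ⟩ := (isRepresentable_iff (𝒳 := FibCat.fp a b)).1 hrep
  obtain ⟨w0, θ', hθ', huniv⟩ := exists_isomEqualizer' h𝒮 a b τ hτ
  have hP : FibCat.IsFibGrpd (FibCat.fp (FibCat.toSelf 𝒮) (FibCat.toSelf 𝒮)).p :=
    isFibGrpd_fp _ _ h𝒮 h𝒮 (isFibGrpd_selfOver C)
  have hfp2 : FibCat.IsFibGrpd (FibCat.fp Hh (FibCat.diag (FibCat.toSelf 𝒮))).p :=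
    isFibGrpd_fp _ _ hover h𝒮 hP
  have hfib2 : (FibCat.fp Hh (FibCat.diag (FibCat.toSelf 𝒮))).p.IsFibered := IsFibGrpd.isFibered hfp2
  rw [isRepresentable_iff]
  refine ⟨hfp2, ?_⟩
  -- the terminal object
  have hthin : (FibCat.toSelf 𝒮).map θ'.hom ≫
      ((FibCat.diag (FibCat.toSelf 𝒮)).obj (b.obj w0)).obj.iso.hom =
      (Hh.obj w0).obj.iso.hom ≫ (FibCat.toSelf 𝒮).map (Iso.refl (b.obj w0)).hom := by
    apply selfOver_hom_ext (R := w0.left)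
    · refine isHomLift_id_comp _ _ _ _ ?_ ?_
      · exact BasedFunctor.preserves_isHomLift (FibCat.toSelf 𝒮) _ θ'.hom
      · exact fp_iso_isHomLift (FibCat.toSelf 𝒮) (FibCat.toSelf 𝒮) _ (b.w_obj w0)
    · refine isHomLift_id_comp _ _ _ _ ?_ ?_
      · exact fp_iso_isHomLift (FibCat.toSelf 𝒮) (FibCat.toSelf 𝒮) _ (a.w_obj w0)
      · have : 𝒮.p.IsHomLift (𝟙 w0.left) (𝟙 (b.obj w0)) := IsHomLift.id (b.w_obj w0)
        exact BasedFunctor.preserves_isHomLift (FibCat.toSelf 𝒮) _ (𝟙 (b.obj w0))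
  let κ0 : Hh.obj w0 ≅ (FibCat.diag (FibCat.toSelf 𝒮)).obj (b.obj w0) :=
    ObjectProperty.isoMk _ (Limits.CategoricalPullback.mkIso (x := (Hh.obj w0).obj)
      (y := ((FibCat.diag (FibCat.toSelf 𝒮)).obj (b.obj w0)).obj) θ' (Iso.refl _) hthin)
  have hκ0 : (FibCat.fp (FibCat.toSelf 𝒮) (FibCat.toSelf 𝒮)).p.IsHomLift (𝟙 w0.left) κ0.hom := by
    rw [fp_isHomLift_iff]
    exact hθ'
  let ξ : (FibCat.fp Hh (FibCat.diag (FibCat.toSelf 𝒮))).obj := ⟨⟨w0, b.obj w0, κ0⟩, hκ0⟩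
  refine ⟨ξ, fun ρ => ?_⟩
  have hκ : (FibCat.fp (FibCat.toSelf 𝒮) (FibCat.toSelf 𝒮)).p.IsHomLift
      (𝟙 ρ.obj.fst.left) ρ.obj.iso.hom := ρ.property
  let κ₁ : a.obj ρ.obj.fst ≅ ρ.obj.snd :=
    (FibCat.fpFst (FibCat.toSelf 𝒮) (FibCat.toSelf 𝒮)).toFunctor.mapIso ρ.obj.iso
  let κ₂ : b.obj ρ.obj.fst ≅ ρ.obj.snd :=
    (FibCat.fpSnd (FibCat.toSelf 𝒮) (FibCat.toSelf 𝒮)).toFunctor.mapIso ρ.obj.iso
  have hκ₁ : 𝒮.p.IsHomLift (𝟙 ρ.obj.fst.left) κ₁.hom :=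
    fp_isHomLift_fst' (FibCat.toSelf 𝒮) (FibCat.toSelf 𝒮) _ ρ.obj.iso.hom
  have hκ₂ : 𝒮.p.IsHomLift (𝟙 ρ.obj.fst.left) κ₂.hom :=
    fp_isHomLift_snd' (FibCat.toSelf 𝒮) (FibCat.toSelf 𝒮) _ ρ.obj.iso.hom
  have hκ₂i : 𝒮.p.IsHomLift (𝟙 ρ.obj.fst.left) κ₂.inv := IsHomLift.lift_id_inv 𝒮.p _ κ₂
  let θw : a.obj ρ.obj.fst ≅ b.obj ρ.obj.fst := κ₁ ≪≫ κ₂.symm
  have hθw : 𝒮.p.IsHomLift (𝟙 ρ.obj.fst.left) θw.hom := isHomLift_id_comp _ _ _ _ hκ₁ hκ₂i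
  obtain ⟨γ, hγ, hγuniq⟩ := huniv ρ.obj.fst θw hθw
  have hγ' : a.map γ ≫ θ'.hom = (κ₁.hom ≫ κ₂.inv) ≫ b.map γ := hγ
  let σ : ρ.obj.snd ⟶ b.obj w0 := κ₂.inv ≫ b.map γ
  have hcompat : Hh.map γ ≫ κ0.hom = ρ.obj.iso.hom ≫ (FibCat.diag (FibCat.toSelf 𝒮)).map σ := by
    apply ObjectProperty.hom_ext
    apply Limits.CategoricalPullback.hom_ext
    · change a.map γ ≫ θ'.hom = κ₁.hom ≫ κ₂.inv ≫ b.map γ
      rw [hγ', Category.assoc]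
    · change b.map γ ≫ 𝟙 _ = κ₂.hom ≫ κ₂.inv ≫ b.map γ
      rw [Category.comp_id, Iso.hom_inv_id_assoc]
  let m : ρ ⟶ ξ := ObjectProperty.homMk ⟨γ, σ, hcompat⟩
  refine ⟨{ default := m, uniq := ?_ }⟩
  intro m'
  obtain ⟨γ', hγ'def⟩ : ∃ g : ρ.obj.fst ⟶ w0, g = m'.hom.fst := ⟨_, rfl⟩
  obtain ⟨σ', hσ'def⟩ : ∃ g : ρ.obj.snd ⟶ b.obj w0, g = m'.hom.snd := ⟨_, rfl⟩
  have hw' : Hh.map γ' ≫ κ0.hom = ρ.obj.iso.hom ≫ (FibCat.diag (FibCat.toSelf 𝒮)).map σ' := by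
    rw [hγ'def, hσ'def]; exact m'.hom.w
  have c1 : a.map γ' ≫ θ'.hom = κ₁.hom ≫ σ' := congrArg (fun t => t.hom.fst) hw'
  have c2 : b.map γ' ≫ 𝟙 _ = κ₂.hom ≫ σ' := congrArg (fun t => t.hom.snd) hw'
  have hσ' : σ' = κ₂.inv ≫ b.map γ' := by
    rw [Category.comp_id] at c2
    rw [c2, Iso.inv_hom_id_assoc]
  have hγ'eq : γ' = γ := by
    apply hγuniq
    change a.map γ' ≫ θ'.hom = (κ₁.hom ≫ κ₂.inv) ≫ b.map γ'
    rw [c1, hσ', Category.assoc]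
  apply ObjectProperty.hom_ext
  apply Limits.CategoricalPullback.hom_ext
  · exact hγ'def.symm.trans hγ'eq
  · change m'.hom.snd = κ₂.inv ≫ b.map γ
    rw [← hσ'def, hσ', hγ'eq]

end DiagRepBackward

end Groth.Agent.Lib.Helper17
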