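import Groth.Agent.Lib.Helper17K0d
import Groth.Prelude.Def_DRing2
import Mathlib.Algebra.BigOperators.Intervals
import Mathlib.Data.Int.Interval

/-!
# Euler characteristic of bounded complexes of finite projective modules (helper17)
-/

set_option autoImplicit false

universe u

open CategoryTheory CategoryTheory.Limits

namespace Groth.Agent.Lib.Helper17.K0Perf

open KZero Groth.Agent.Lib.Helper17.K0a Groth.Agent.Lib.Helper17.K0d

variable (R : Type u) [CommRing R]

/-- finite projective modules. -/
abbrev PP : ObjectProperty (ModuleCat.{u} R) :=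
  fun M => Module.Finite R M ∧ Module.Projective R M

instance : (PP R).IsClosedUnderIsomorphisms where
  of_iso {M N} e h := by
    obtain ⟨h₁, h₂⟩ := h
    exact ⟨Module.Finite.equiv e.toLinearEquiv, Module.Projective.of_equiv e.toLinearEquiv⟩

lemma pp_of_subsingleton (M : ModuleCat.{u} R) [Subsingleton M] : PP R M :=
  ⟨inferInstance, inferInstance⟩

instance : (PP R).ContainsZero where
  exists_zero := ⟨ModuleCat.of R PUnit, ModuleCat.isZero_of_subsingleton _,
    pp_of_subsingleton R _⟩

variable {R}

lemma pp_of_isZero {M : ModuleCat.{u} R} (h : IsZero M) : PP R M :=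
  (PP R).prop_of_isZero h

/-- the Euler characteristic as a finite sum over all integers. -/
noncomputable def chiF (E : DRing.Cx R) : K0sub (PP R) :=
  ∑ᶠ i : ℤ, (i.negOnePow : ℤ) • clSub (PP R) (E.X i)

lemma bdd_clSub (E : DRing.Cx R) (a b : ℤ) (hE : DRing.VanishesOutside E a b) :
    Bdd (fun i => clSub (PP R) (E.X i)) :=
  ⟨a, b, fun i hi => clSub_of_isZero (PP R) (hE i hi)⟩

lemma chiF_eq_sum (E : DRing.Cx R) (a b : ℤ) (hE : DRing.VanishesOutside E a b) :
    chiF E = (Finset.Icc a b).sum (fun i => (i.negOnePow : ℤ) • clSub (PP R) (E.X i)) := by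
  unfold chiF
  refine finsum_eq_sum_of_support_subset _ (fun i hi => ?_)
  rw [Finset.coe_Icc, Set.mem_Icc]
  by_contra hc
  refine hi ?_
  have : clSub (PP R) (E.X i) = 0 := clSub_of_isZero (PP R) (hE i (by omega))
  simp [this]

/-- termwise additivity. -/
lemma chiF_add (E₁ E₂ E₃ : DRing.Cx R) (a b : ℤ) (h₁ : DRing.VanishesOutside E₁ a b)
    (h₃ : DRing.VanishesOutside E₃ a b)
    (h : ∀ i, clSub (PP R) (E₂.X i) = clSub (PP R) (E₁.X i) + clSub (PP R) (E₃.X i)) :
    chiF E₂ = chiF E₁ + chiF E₃ := by
  unfold chiF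
  rw [← finsum_add_distrib (bdd_clSub E₁ a b h₁).smul.finite (bdd_clSub E₃ a b h₃).smul.finite]
  refine finsum_congr (fun i => ?_)
  rw [h, smul_add]

/-- shifted sums. -/
lemma finsum_negOnePow_shift {G : Type*} [AddCommGroup G] (f : ℤ → G) :
    ∑ᶠ i : ℤ, (i.negOnePow : ℤ) • f (i + 1) = - ∑ᶠ i : ℤ, (i.negOnePow : ℤ) • f i := by
  rw [← finsum_shift (fun i => (i.negOnePow : ℤ) • f i), ← finsum_neg_distrib]
  refine finsum_congr (fun i => ?_)
  simp [Int.negOnePow_succ]

section Modules

variable {M N : Type u} [AddCommGroup M] [AddCommGroup N] [Module R M] [Module R N]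

lemma finite_projective_ker (f : M →ₗ[R] N) (hf : Function.Surjective f) [Module.Finite R M]
    [Module.Projective R M] [Module.Projective R N] :
    Module.Finite R (LinearMap.ker f) ∧ Module.Projective R (LinearMap.ker f) := by
  obtain ⟨s, hs⟩ := Module.projective_lifting_property f LinearMap.id hf
  have hs' : ∀ n, f (s n) = n := fun n => by
    have := LinearMap.congr_fun hs n
    simpa using this
  let π : M →ₗ[R] LinearMap.ker f :=
    (LinearMap.id - s.comp f).codRestrict (LinearMap.ker f) (fun m => by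
      simp [hs'])
  have hπ : π.comp (LinearMap.ker f).subtype = LinearMap.id := by
    ext ⟨k, hk⟩
    have hk' : f k = 0 := hk
    simp [π, hk']
  have hsurj : Function.Surjective π := fun k => ⟨k.1, LinearMap.congr_fun hπ k⟩
  exact ⟨Module.Finite.of_surjective π hsurj,
    Module.Projective.of_split (LinearMap.ker f).subtype π hπ⟩

lemma clSub_eq_ker_add (f : M →ₗ[R] N) (hf : Function.Surjective f) [Module.Finite R M]
    [Module.Projective R M] [Module.Finite R N] [Module.Projective R N] :
    clSub (PP R) (ModuleCat.of R M) =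
      clSub (PP R) (ModuleCat.of R (LinearMap.ker f)) + clSub (PP R) (ModuleCat.of R N) := by
  obtain ⟨h₁, h₂⟩ := finite_projective_ker f hf
  exact clSub_shortExact (PP R) _ (f.shortExact_shortComplexKer hf) ⟨h₁, h₂⟩
    ⟨inferInstance, inferInstance⟩ ⟨inferInstance, inferInstance⟩

end Modules

end Groth.Agent.Lib.Helper17.K0Perf
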