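import Groth.Agent.Lib.Helper17K0Perf1

/-!
# The Euler characteristic of an acyclic bounded complex of finite projective modules (helper17)
-/

set_option autoImplicit false

universe u

open CategoryTheory CategoryTheory.Limits

namespace Groth.Agent.Lib.Helper17.K0Perf

open KZero Groth.Agent.Lib.Helper17.K0a Groth.Agent.Lib.Helper17.K0d

variable {R : Type u} [CommRing R]

section

variable (E : DRing.Cx R)

/-- the cocycles. -/
def ZZ (i : ℤ) : Submodule R (E.X i) := LinearMap.ker (E.d i (i + 1)).hom

/-- the differential corestricted to the cocycles. -/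
def dZ (i : ℤ) : E.X i →ₗ[R] ZZ E (i + 1) :=
  (E.d i (i + 1)).hom.codRestrict (ZZ E (i + 1)) (fun x => by
    change (E.d (i + 1) (i + 1 + 1)).hom ((E.d i (i + 1)).hom x) = 0
    have := E.d_comp_d i (i + 1) (i + 1 + 1)
    rw [← ModuleCat.comp_apply, this]
    rfl)

lemma ker_dZ (i : ℤ) : LinearMap.ker (dZ E i) = ZZ E i := by
  unfold dZ
  rw [LinearMap.ker_codRestrict]
  rfl

lemma dZ_surjective (hac : ∀ i, E.ExactAt i) (i : ℤ) : Function.Surjective (dZ E i) := by
  rintro ⟨y, hy⟩
  have h := (E.exactAt_iff' i (i + 1) (i + 1 + 1) (by simp) (by simp)).1 (hac (i + 1))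
  rw [ShortComplex.moduleCat_exact_iff] at h
  obtain ⟨x, hx⟩ := h y hy
  exact ⟨x, Subtype.ext hx⟩

lemma subsingleton_ZZ (i : ℤ) (h : IsZero (E.X i)) : Subsingleton (ZZ E i) := by
  haveI : Subsingleton (E.X i) := ModuleCat.subsingleton_of_isZero h
  infer_instance

variable {E}

lemma pp_ZZ (a b : ℤ) (hE : DRing.VanishesOutside E a b) (hP : DRing.TermwiseFiniteProjective E)
    (hac : ∀ i, E.ExactAt i) : ∀ i : ℤ, PP R (ModuleCat.of R (ZZ E i)) := by
  have key : ∀ i : ℤ, i ≤ b + 1 → PP R (ModuleCat.of R (ZZ E i)) := by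
    intro i hi
    induction i, hi using Int.le_induction_down with
    | base =>
      haveI := subsingleton_ZZ E (b + 1) (hE _ (by omega))
      exact pp_of_subsingleton R _
    | pred n hn ih =>
      obtain ⟨h₁, h₂⟩ := ih
      haveI : Module.Finite R (E.X (n - 1)) := (hP (n - 1)).1
      haveI : Module.Projective R (E.X (n - 1)) := (hP (n - 1)).2
      have e : n - 1 + 1 = n := by omega
      have h₂' : Module.Projective R (ZZ E (n - 1 + 1)) := by rw [e]; exact h₂
      have := finite_projective_ker (dZ E (n - 1)) (dZ_surjective E hac (n - 1))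
      rw [ker_dZ] at this
      exact this
  intro i
  by_cases hi : i ≤ b + 1
  · exact key i hi
  · haveI := subsingleton_ZZ E i (hE _ (by omega))
    exact pp_of_subsingleton R _

theorem chiF_eq_zero_of_acyclic (a b : ℤ) (hE : DRing.VanishesOutside E a b)
    (hP : DRing.TermwiseFiniteProjective E) (hac : ∀ i, E.ExactAt i) : chiF E = 0 := by
  have hZ := pp_ZZ a b hE hP hac
  let z : ℤ → K0sub (PP R) := fun i => clSub (PP R) (ModuleCat.of R (ZZ E i))
  have hz : Bdd z := ⟨a, b, fun i hi => by
    haveI := subsingleton_ZZ E i (hE i hi)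
    exact clSub_of_isZero (PP R) (ModuleCat.isZero_of_subsingleton _)⟩
  have rel : ∀ i, clSub (PP R) (E.X i) = z i + z (i + 1) := by
    intro i
    haveI : Module.Finite R (E.X i) := (hP i).1
    haveI : Module.Projective R (E.X i) := (hP i).2
    haveI : Module.Finite R (ZZ E (i + 1)) := (hZ (i + 1)).1
    haveI : Module.Projective R (ZZ E (i + 1)) := (hZ (i + 1)).2
    have h := clSub_eq_ker_add (dZ E i) (dZ_surjective E hac i)
    rw [ker_dZ] at h
    exact h
  unfold chiF
  have h1 : ∀ i : ℤ, (i.negOnePow : ℤ) • clSub (PP R) (E.X i) =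
      (i.negOnePow : ℤ) • z i + (i.negOnePow : ℤ) • z (i + 1) := fun i => by
    rw [rel, smul_add]
  rw [finsum_congr h1, finsum_add_distrib hz.smul.finite, finsum_negOnePow_shift, add_neg_cancel]
  have : Bdd (fun i => z (i + 1)) := hz.shift
  exact this.smul.finite

end

end Groth.Agent.Lib.Helper17.K0Perf
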