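import Groth.Agent.Lib.Helper17K0Perf2
import Mathlib.Algebra.Homology.HomotopyCategory.MappingCone

/-!
# The Euler characteristic of a mapping cone (helper17)
-/

set_option autoImplicit false

universe u

open CategoryTheory CategoryTheory.Limits

namespace Groth.Agent.Lib.Helper17.K0Perf

open KZero Groth.Agent.Lib.Helper17.K0a Groth.Agent.Lib.Helper17.K0d CochainComplex

variable {R : Type u} [CommRing R] {E E' : DRing.Cx R} (f : E ⟶ E')

/-- the termwise short complex of the mapping cone. -/
noncomputable def coneSC (i : ℤ) : ShortComplex (ModuleCat.{u} R) :=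
  ShortComplex.mk ((mappingCone.inr f).f i) ((mappingCone.fst f).1.v i (i + 1) rfl)
    (mappingCone.inr_f_fst_v f i (i + 1) rfl)

/-- the termwise splitting of the mapping cone. -/
noncomputable def coneSplitting (i : ℤ) : (coneSC f i).Splitting where
  r := (mappingCone.snd f).v i i (add_zero i)
  s := (mappingCone.inl f).v (i + 1) i (by omega)
  f_r := mappingCone.inr_f_snd_v f i
  s_g := mappingCone.inl_v_fst_v f (i + 1) i rfl
  id := by
    rw [add_comm]
    exact mappingCone.id_X f i (i + 1) rfl

lemma coneSC_shortExact (i : ℤ) : (coneSC f i).ShortExact := (coneSplitting f i).shortExact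

lemma isZero_cone_X (i : ℤ) (h₁ : IsZero (E'.X i)) (h₂ : IsZero (E.X (i + 1))) :
    IsZero ((mappingCone f).X i) := by
  rw [IsZero.iff_id_eq_zero, ← mappingCone.id_X f i (i + 1) rfl,
    h₂.eq_of_tgt ((mappingCone.fst f).1.v i (i + 1) rfl) 0,
    h₁.eq_of_tgt ((mappingCone.snd f).v i i (add_zero i)) 0, zero_comp, zero_comp, add_zero]

lemma pp_cone_X (i : ℤ) (h₁ : PP R (E'.X i)) (h₂ : PP R (E.X (i + 1))) :
    PP R ((mappingCone f).X i) := by
  obtain ⟨h₁f, h₁p⟩ := h₁
  obtain ⟨h₂f, h₂p⟩ := h₂
  let j : (mappingCone f).X i →ₗ[R] (E'.X i × E.X (i + 1)) :=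
    LinearMap.prod ((mappingCone.snd f).v i i (add_zero i)).hom
      ((mappingCone.fst f).1.v i (i + 1) rfl).hom
  let p : (E'.X i × E.X (i + 1)) →ₗ[R] (mappingCone f).X i :=
    LinearMap.coprod ((mappingCone.inr f).f i).hom
      ((mappingCone.inl f).v (i + 1) i (by omega)).hom
  have hpj : p.comp j = LinearMap.id := by
    ext x
    have h := congrArg (fun φ => φ.hom x) (mappingCone.id_X f i (i + 1) rfl)
    simp only [ModuleCat.hom_add, LinearMap.add_apply, ModuleCat.hom_comp,
      LinearMap.comp_apply, ModuleCat.hom_id, LinearMap.id_apply] at h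
    simp only [p, j, LinearMap.comp_apply, LinearMap.prod_apply, Pi.prod, LinearMap.coprod_apply,
      LinearMap.id_apply]
    rw [add_comm]
    exact h
  have hsurj : Function.Surjective p := fun x => ⟨j x, LinearMap.congr_fun hpj x⟩
  exact ⟨Module.Finite.of_surjective p hsurj, Module.Projective.of_split j p hpj⟩

lemma cone_vanishesOutside (a b : ℤ) (hE : DRing.VanishesOutside E a b)
    (hE' : DRing.VanishesOutside E' a b) : DRing.VanishesOutside (mappingCone f) (a - 1) b :=
  fun i hi => isZero_cone_X f i (hE' i (by omega)) (hE (i + 1) (by omega))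

lemma cone_tfp (hE : DRing.TermwiseFiniteProjective E)
    (hE' : DRing.TermwiseFiniteProjective E') :
    DRing.TermwiseFiniteProjective (mappingCone f) :=
  fun i => pp_cone_X f i (hE' i) (hE (i + 1))

theorem chiF_cone (a b : ℤ) (hE : DRing.VanishesOutside E a b)
    (hE' : DRing.VanishesOutside E' a b) (hP : DRing.TermwiseFiniteProjective E)
    (hP' : DRing.TermwiseFiniteProjective E') :
    chiF (mappingCone f) = chiF E' - chiF E := by
  have rel : ∀ i, clSub (PP R) ((mappingCone f).X i) =
      clSub (PP R) (E'.X i) + clSub (PP R) (E.X (i + 1)) := fun i =>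
    clSub_shortExact (PP R) _ (coneSC_shortExact f i) (hP' i) (pp_cone_X f i (hP' i) (hP (i + 1)))
      (hP (i + 1))
  have hb := bdd_clSub E a b hE
  have hb' := bdd_clSub E' a b hE'
  unfold chiF
  have h1 : ∀ i : ℤ, (i.negOnePow : ℤ) • clSub (PP R) ((mappingCone f).X i) =
      (i.negOnePow : ℤ) • clSub (PP R) (E'.X i) +
        (i.negOnePow : ℤ) • clSub (PP R) (E.X (i + 1)) := fun i => by
    rw [rel, smul_add]
  rw [finsum_congr h1, finsum_add_distrib hb'.smul.finite,
    finsum_negOnePow_shift (fun i => clSub (PP R) (E.X i)), sub_eq_add_neg]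
  have : Bdd (fun i => clSub (PP R) (E.X (i + 1))) := hb.shift
  exact this.smul.finite

end Groth.Agent.Lib.Helper17.K0Perf
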