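import Groth.Agent.Lib.Helper17K0Perf3
import Mathlib.Algebra.Homology.DerivedCategory.KProjective

/-!
# The Euler characteristic of a perfect object of `D(R)` (helper17)
-/

set_option autoImplicit false

universe u

open CategoryTheory CategoryTheory.Limits CategoryTheory.Pretriangulated

attribute [local instance] HasDerivedCategory.standard

namespace Groth.Agent.Lib.Helper17.K0Perf

open KZero Groth.Agent.Lib.Helper17.K0a Groth.Agent.Lib.Helper17.K0d CochainComplex
  DerivedCategory

variable {R : Type u} [CommRing R]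

lemma isKProjective_of_tfp (E : DRing.Cx R) (a b : ℤ) (hE : DRing.VanishesOutside E a b)
    (hP : DRing.TermwiseFiniteProjective E) : E.IsKProjective := by
  haveI : E.IsStrictlyLE b := by
    rw [CochainComplex.isStrictlyLE_iff]
    intro i hi
    exact hE i (Or.inr hi)
  haveI : ∀ n, Projective (E.X n) := fun n => by
    haveI := (hP n).2
    infer_instance
  exact CochainComplex.isKProjective_of_projective E b

lemma exists_Q_map_eq (E E' : DRing.Cx R) [E.IsKProjective] (α : Q.obj E ⟶ Q.obj E') :
    ∃ f : E ⟶ E', Q.map f = α := by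
  obtain ⟨g, hg⟩ := (CochainComplex.IsKProjective.Qh_map_bijective E
    ((HomotopyCategory.quotient _ _).obj E')).surjective
      ((quotientCompQhIso _).hom.app E ≫ α ≫ (quotientCompQhIso _).inv.app E')
  obtain ⟨f, rfl⟩ := (HomotopyCategory.quotient _ _).map_surjective g
  refine ⟨f, ?_⟩
  have h := quotientCompQhIso_hom_naturality f
  rw [hg, Category.assoc, Category.assoc, Iso.inv_hom_id_app, Category.comp_id] at h
  exact ((cancel_epi _).1 h).symm

/-- the mapping cone of a quasi-isomorphism is acyclic. -/
lemma exactAt_cone_of_isIso {E E' : DRing.Cx R} (f : E ⟶ E') (hf : IsIso (Q.map f)) (i : ℤ) :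
    (mappingCone f).ExactAt i := by
  have hT := mappingCone_triangle_distinguished f
  have hZ : IsZero (Q.obj (mappingCone f)) :=
    (Triangle.isZero₃_iff_isIso₁ _ hT).2 hf
  rw [HomologicalComplex.exactAt_iff_isZero_homology]
  have h : IsZero ((DerivedCategory.homologyFunctor (ModuleCat.{u} R) i).obj
      (Q.obj (mappingCone f))) := Functor.map_isZero _ hZ
  exact IsZero.of_iso h ((homologyFunctorFactors (ModuleCat.{u} R) i).app (mappingCone f)).symm

theorem chiF_eq_of_iso (E E' : DRing.Cx R) (a b a' b' : ℤ) (hE : DRing.VanishesOutside E a b)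
    (hE' : DRing.VanishesOutside E' a' b') (hP : DRing.TermwiseFiniteProjective E)
    (hP' : DRing.TermwiseFiniteProjective E') (e : DRing.toD E ≅ DRing.toD E') :
    chiF E = chiF E' := by
  haveI := isKProjective_of_tfp E a b hE hP
  obtain ⟨f, hf⟩ := exists_Q_map_eq E E' e.hom
  have hiso : IsIso (Q.map f) := by rw [hf]; infer_instance
  have hE₂ : DRing.VanishesOutside E (min a a') (max b b') := fun i hi =>
    hE i (by omega)
  have hE₂' : DRing.VanishesOutside E' (min a a') (max b b') := fun i hi =>
    hE' i (by omega)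
  have h := chiF_cone f _ _ hE₂ hE₂' hP hP'
  rw [chiF_eq_zero_of_acyclic _ _ (cone_vanishesOutside f _ _ hE₂ hE₂') (cone_tfp f hP hP')
    (exactAt_cone_of_isIso f hiso)] at h
  exact (sub_eq_zero.1 h.symm).symm

end Groth.Agent.Lib.Helper17.K0Perf
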