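import Groth.Prelude.Def_KZero
import Mathlib.CategoryTheory.Triangulated.Pretriangulated
import Mathlib.CategoryTheory.ObjectProperty.ContainsZero
import Mathlib.CategoryTheory.ObjectProperty.ClosedUnderIsomorphisms

/-! K₀ of a class of objects of a pretriangulated category: basic relations (helper17). -/
set_option autoImplicit false
set_option backward.isDefEq.respectTransparency false
set_option backward.isDefEq.respectTransparency.types false
universe v u
open CategoryTheory CategoryTheory.Limits ZeroObject CategoryTheory.Pretriangulated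

namespace Groth.Agent.Lib.Helper17.K0b

open KZero

variable {D : Type u} [Category.{v} D] [Preadditive D] [HasZeroObject D] [HasShift D ℤ]
  [∀ n : ℤ, (shiftFunctor D n).Additive] [Pretriangulated D] (Q : ObjectProperty D)

theorem clTr_of_prop {X : D} (h : Q X) :
    clTr Q X = QuotientAddGroup.mk (FreeAbelianGroup.of ⟨X, h⟩) := by
  classical
  unfold clTr
  rw [dif_pos h]

theorem clTr_distTriang (T : Triangle D) (hT : T ∈ distTriang D) (h₁ : Q T.obj₁) (h₂ : Q T.obj₂)
    (h₃ : Q T.obj₃) : clTr Q T.obj₂ = clTr Q T.obj₁ + clTr Q T.obj₃ := by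
  rw [clTr_of_prop Q h₁, clTr_of_prop Q h₂, clTr_of_prop Q h₃]
  have hmem : (FreeAbelianGroup.of (⟨T.obj₂, h₂⟩ : Subtype Q) - FreeAbelianGroup.of ⟨T.obj₁, h₁⟩ -
      FreeAbelianGroup.of ⟨T.obj₃, h₃⟩) ∈ relTr Q :=
    AddSubgroup.subset_closure ⟨T, h₁, h₂, h₃, hT, rfl⟩
  have h0 := (QuotientAddGroup.eq_zero_iff _).2 hmem
  rw [QuotientAddGroup.mk_sub, QuotientAddGroup.mk_sub, sub_sub, sub_eq_zero] at h0
  exact h0

variable [Q.IsClosedUnderIsomorphisms] [Q.ContainsZero]

theorem clTr_zero : clTr Q (0 : D) = 0 := by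
  have h0 : Q (0 : D) := Q.prop_of_isZero (isZero_zero D)
  have h := clTr_distTriang Q _ (contractible_distinguished (0 : D)) h0 h0 h0
  have h' : clTr Q (0 : D) = clTr Q (0 : D) + clTr Q (0 : D) := h
  have := congrArg (fun t => t - clTr Q (0 : D)) h'
  simpa using this.symm

theorem clTr_of_iso {X Y : D} (e : X ≅ Y) (hX : Q X) : clTr Q X = clTr Q Y := by
  have hY : Q Y := Q.prop_of_iso e hX
  have h0 : Q (0 : D) := Q.prop_of_isZero (isZero_zero D)
  have hT : Triangle.mk e.hom (0 : Y ⟶ 0) 0 ∈ distTriang D := by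
    refine isomorphic_distinguished _ (contractible_distinguished X) _ ?_
    exact Triangle.isoMk _ _ (Iso.refl _) e.symm (Iso.refl _)
      (by
        change e.hom ≫ e.inv = 𝟙 X ≫ 𝟙 X
        rw [Category.id_comp, e.hom_inv_id]) (by simp) (by simp)
  have h := clTr_distTriang Q _ hT hX hY h0
  have h' : clTr Q Y = clTr Q X + clTr Q (0 : D) := h
  rw [clTr_zero, add_zero] at h'
  exact h'.symm

theorem clTr_of_isZero {X : D} (hX : IsZero X) : clTr Q X = 0 := by
  rw [clTr_of_iso Q (hX.iso (isZero_zero D)) (Q.prop_of_isZero hX), clTr_zero]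

theorem clTr_shift_one (X : D) (hX : Q X) (hX1 : Q (X⟦(1 : ℤ)⟧)) :
    clTr Q (X⟦(1 : ℤ)⟧) = - clTr Q X := by
  have h0 : Q (0 : D) := Q.prop_of_isZero (isZero_zero D)
  have h := clTr_distTriang Q _ (contractible_distinguished₂ X) hX h0 hX1
  have h' : clTr Q (0 : D) = clTr Q X + clTr Q (X⟦(1 : ℤ)⟧) := h
  rw [clTr_zero] at h'
  exact (neg_eq_of_add_eq_zero_right h'.symm).symm

end Groth.Agent.Lib.Helper17.K0b
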