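import Groth.Agent.Lib.Helper17K0Perf4
import Groth.Agent.Lib.Helper17K0b
import Mathlib.Algebra.Homology.DerivedCategory.SingleTriangle

/-!
# The maps between `K₀(R)` and `K₀(D_perf(R))` (helper17)
-/

set_option autoImplicit false

universe u

open CategoryTheory CategoryTheory.Limits CategoryTheory.Pretriangulated ZeroObject

attribute [local instance] HasDerivedCategory.standard

namespace Groth.Agent.Lib.Helper17.K0Perf

open KZero Groth.Agent.Lib.Helper17.K0a Groth.Agent.Lib.Helper17.K0b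
  Groth.Agent.Lib.Helper17.K0d CochainComplex DerivedCategory

variable (R : Type u) [CommRing R]

/-- perfect objects. -/
abbrev Perf : ObjectProperty (Dual.D R) := fun K => DRing.IsPerfect R K

instance : (Perf R).IsClosedUnderIsomorphisms where
  of_iso {K K'} e h := by
    obtain ⟨E, a, b, h₁, h₂, ⟨e'⟩⟩ := h
    exact ⟨E, a, b, h₁, h₂, ⟨e' ≪≫ e⟩⟩

instance : (Perf R).ContainsZero where
  exists_zero := by
    refine ⟨Q.obj (0 : DRing.Cx R), Functor.map_isZero _ (isZero_zero _), (0 : DRing.Cx R), 0, 0,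
      fun i _ => ?_, fun i => ?_, ⟨Iso.refl _⟩⟩
    · exact Functor.map_isZero (HomologicalComplex.eval _ _ i) (isZero_zero _)
    · exact pp_of_isZero (Functor.map_isZero (HomologicalComplex.eval _ _ i) (isZero_zero _))

variable {R}

/-- single complexes. -/
noncomputable abbrev sgl (M : ModuleCat.{u} R) (j : ℤ) : DRing.Cx R :=
  (HomologicalComplex.single (ModuleCat.{u} R) (ComplexShape.up ℤ) j).obj M

lemma sgl_vanishesOutside (M : ModuleCat.{u} R) (j : ℤ) : DRing.VanishesOutside (sgl M j) j j :=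
  fun i hi => HomologicalComplex.isZero_single_obj_X _ j M i (by omega)

lemma sgl_tfp (M : ModuleCat.{u} R) (hM : PP R M) (j : ℤ) :
    DRing.TermwiseFiniteProjective (sgl M j) := by
  intro i
  by_cases hi : i = j
  · subst hi
    exact (PP R).prop_of_iso (HomologicalComplex.singleObjXSelf (ComplexShape.up ℤ) i M).symm hM
  · exact pp_of_isZero (HomologicalComplex.isZero_single_obj_X _ j M i hi)

/-- the image of a single complex. -/
noncomputable def toDSglIso (M : ModuleCat.{u} R) (j : ℤ) :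
    DRing.toD (sgl M j) ≅ (DerivedCategory.singleFunctor (ModuleCat.{u} R) j).obj M :=
  ((singleFunctorIsoCompQ (ModuleCat.{u} R) j).app M).symm

lemma perf_single (M : ModuleCat.{u} R) (hM : PP R M) (j : ℤ) :
    Perf R ((DerivedCategory.singleFunctor (ModuleCat.{u} R) j).obj M) :=
  ⟨sgl M j, j, j, sgl_vanishesOutside M j, sgl_tfp M hM j, ⟨toDSglIso M j⟩⟩

lemma chiF_sgl (M : ModuleCat.{u} R) (hM : PP R M) (j : ℤ) :
    chiF (sgl M j) = (j.negOnePow : ℤ) • clSub (PP R) M := by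
  unfold chiF
  rw [finsum_eq_single _ j (fun i hi => by
    rw [clSub_of_isZero (PP R) (HomologicalComplex.isZero_single_obj_X _ j M i hi), smul_zero])]
  rw [← clSub_of_iso (PP R) (HomologicalComplex.singleObjXSelf (ComplexShape.up ℤ) j M).symm hM]

/-- the Euler characteristic of a perfect object. -/
noncomputable def psi0 (K : Subtype (Perf R)) : K0sub (PP R) := chiF K.2.choose

lemma psi0_eq (K : Dual.D R) (hK : Perf R K) (E : DRing.Cx R) (a b : ℤ)
    (hE : DRing.VanishesOutside E a b) (hP : DRing.TermwiseFiniteProjective E)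
    (e : DRing.toD E ≅ K) : psi0 ⟨K, hK⟩ = chiF E := by
  obtain ⟨a', b', h₁, h₂, ⟨e'⟩⟩ := hK.choose_spec
  exact chiF_eq_of_iso _ _ a' b' a b h₁ hE h₂ hP (e' ≪≫ e.symm)

lemma psi0_distTriang (T : Triangle (Dual.D R)) (hT : T ∈ distTriang _) (h₁ : Perf R T.obj₁)
    (h₂ : Perf R T.obj₂) (h₃ : Perf R T.obj₃) :
    psi0 ⟨T.obj₂, h₂⟩ = psi0 ⟨T.obj₁, h₁⟩ + psi0 ⟨T.obj₃, h₃⟩ := by
  obtain ⟨E₁, a₁, b₁, hE₁, hP₁, ⟨e₁⟩⟩ := h₁
  obtain ⟨E₂, a₂, b₂, hE₂, hP₂, ⟨e₂⟩⟩ := h₂
  haveI := isKProjective_of_tfp E₁ a₁ b₁ hE₁ hP₁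
  obtain ⟨f, hf⟩ := exists_Q_map_eq E₁ E₂ (e₁.hom ≫ T.mor₁ ≫ e₂.inv)
  have hT' := mappingCone_triangle_distinguished f
  have iso := isoTriangleOfIso₁₂ _ _ hT' hT e₁ e₂ (by
    change Q.map f ≫ e₂.hom = e₁.hom ≫ T.mor₁
    rw [hf]; simp)
  have e₃ : DRing.toD (mappingCone f) ≅ T.obj₃ := Triangle.π₃.mapIso iso
  have hE₁' : DRing.VanishesOutside E₁ (min a₁ a₂) (max b₁ b₂) := fun i hi => hE₁ i (by omega)
  have hE₂' : DRing.VanishesOutside E₂ (min a₁ a₂) (max b₁ b₂) := fun i hi => hE₂ i (by omega)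
  rw [psi0_eq _ _ E₁ a₁ b₁ hE₁ hP₁ e₁, psi0_eq _ _ E₂ a₂ b₂ hE₂ hP₂ e₂,
    psi0_eq _ _ (mappingCone f) _ _ (cone_vanishesOutside f _ _ hE₁' hE₂')
      (cone_tfp f hP₁ hP₂) e₃, chiF_cone f _ _ hE₁' hE₂' hP₁ hP₂]
  abel

/-- `[K] ↦ χ(K)`. -/
noncomputable def psi : K0tr (Perf R) →+ K0sub (PP R) :=
  QuotientAddGroup.lift (relTr (Perf R)) (FreeAbelianGroup.lift psi0) (by
    rw [relTr, AddSubgroup.closure_le]
    rintro x ⟨T, h₁, h₂, h₃, hT, rfl⟩
    rw [SetLike.mem_coe, AddMonoidHom.mem_ker, map_sub, map_sub, FreeAbelianGroup.lift_apply_of,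
      FreeAbelianGroup.lift_apply_of, FreeAbelianGroup.lift_apply_of,
      psi0_distTriang T hT h₁ h₂ h₃]
    abel)

theorem psi_clTr (K : Dual.D R) (hK : Perf R K) : psi (clTr (Perf R) K) = psi0 ⟨K, hK⟩ := by
  rw [clTr_of_prop (Perf R) hK]
  unfold psi
  rw [QuotientAddGroup.lift_mk, FreeAbelianGroup.lift_apply_of]

/-- `[M] ↦ [M[0]]`. -/
noncomputable def phi : K0sub (PP R) →+ K0tr (Perf R) :=
  QuotientAddGroup.lift (relSub (PP R))
    (FreeAbelianGroup.lift (fun M : Subtype (PP R) =>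
      clTr (Perf R) ((DerivedCategory.singleFunctor (ModuleCat.{u} R) 0).obj M.1))) (by
    rw [relSub, AddSubgroup.closure_le]
    rintro x ⟨S, h₁, h₂, h₃, hS, rfl⟩
    rw [SetLike.mem_coe, AddMonoidHom.mem_ker, map_sub, map_sub, FreeAbelianGroup.lift_apply_of,
      FreeAbelianGroup.lift_apply_of, FreeAbelianGroup.lift_apply_of]
    have := clTr_distTriang (Perf R) hS.singleTriangle hS.singleTriangle_distinguished
      (perf_single _ h₁ 0) (perf_single _ h₂ 0) (perf_single _ h₃ 0)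
    have h' : clTr (Perf R) ((DerivedCategory.singleFunctor (ModuleCat.{u} R) 0).obj S.X₂) =
        clTr (Perf R) ((DerivedCategory.singleFunctor (ModuleCat.{u} R) 0).obj S.X₁) +
          clTr (Perf R) ((DerivedCategory.singleFunctor (ModuleCat.{u} R) 0).obj S.X₃) := this
    rw [h']
    abel)

theorem phi_clSub (M : ModuleCat.{u} R) (hM : PP R M) :
    phi (clSub (PP R) M) =
      clTr (Perf R) ((DerivedCategory.singleFunctor (ModuleCat.{u} R) 0).obj M) := by
  rw [clSub_of_prop (PP R) hM]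
  unfold phi
  rw [QuotientAddGroup.lift_mk, FreeAbelianGroup.lift_apply_of]

theorem psi_phi (x : K0sub (PP R)) : psi (phi x) = x := by
  induction x using QuotientAddGroup.induction_on with
  | H z =>
    induction z using FreeAbelianGroup.induction_on with
    | zero => simp
    | of X =>
      have h1 : ((FreeAbelianGroup.of X : FreeAbelianGroup (Subtype (PP R))) : K0sub (PP R)) =
          clSub (PP R) X.1 := (clSub_of_prop (PP R) X.2).symm
      rw [h1, phi_clSub X.1 X.2, psi_clTr _ (perf_single X.1 X.2 0),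
        psi0_eq _ _ (sgl X.1 0) 0 0 (sgl_vanishesOutside _ _) (sgl_tfp _ X.2 _) (toDSglIso _ _),
        chiF_sgl _ X.2]
      simp
    | neg X ih =>
      rw [QuotientAddGroup.mk_neg, map_neg, map_neg, ih]
    | add x y hx hy =>
      rw [QuotientAddGroup.mk_add, map_add, map_add, hx, hy]

end Groth.Agent.Lib.Helper17.K0Perf
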