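import Groth.Agent.Lib.Helper17K0a
import Mathlib.CategoryTheory.Abelian.Exact
import Mathlib.Algebra.Homology.ShortComplex.Abelian

/-! K₀ of an abelian category: Euler characteristic relations (helper17). -/
set_option autoImplicit false
set_option backward.isDefEq.respectTransparency false
set_option backward.isDefEq.respectTransparency.types false
universe v u
open CategoryTheory CategoryTheory.Limits ZeroObject

namespace Groth.Agent.Lib.Helper17.K0Serre

open KZero Groth.Agent.Lib.Helper17.K0a

variable {A : Type u} [Category.{v} A] [Abelian A]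

theorem cl_shortExact (S : ShortComplex A) (hS : S.ShortExact) :
    cl S.X₂ = cl S.X₁ + cl S.X₃ := by
  have hmem : (FreeAbelianGroup.of S.X₂ - FreeAbelianGroup.of S.X₁ - FreeAbelianGroup.of S.X₃) ∈
      relAb A := AddSubgroup.subset_closure ⟨S, hS, rfl⟩
  have h0 := (QuotientAddGroup.eq_zero_iff _).2 hmem
  rw [QuotientAddGroup.mk_sub, QuotientAddGroup.mk_sub, sub_sub, sub_eq_zero] at h0
  exact h0

theorem cl_of_isZero {X : A} (hX : IsZero X) : cl X = 0 := by
  let S : ShortComplex A := ShortComplex.mk (0 : X ⟶ X) (0 : X ⟶ X) (by simp)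
  have hS : S.ShortExact :=
    { exact := ShortComplex.exact_of_isZero_X₂ _ hX
      mono_f := ⟨fun _ _ _ => hX.eq_of_tgt _ _⟩
      epi_g := ⟨fun _ _ _ => hX.eq_of_src _ _⟩ }
  have h' : cl X = cl X + cl X := cl_shortExact S hS
  have := congrArg (fun t => t - cl X) h'
  simpa using this.symm

theorem cl_of_iso {X Y : A} (e : X ≅ Y) : cl X = cl Y := by
  let S : ShortComplex A := ShortComplex.mk e.hom (0 : Y ⟶ 0) (by simp)
  have hS : S.ShortExact :=
    { exact := by
        have : Epi S.f := by dsimp [S]; infer_instance
        exact (ShortComplex.exact_iff_epi _ rfl).2 this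
      mono_f := by dsimp [S]; infer_instance
      epi_g := ⟨fun _ _ _ => (isZero_zero A).eq_of_src _ _⟩ }
  have h : cl Y = cl X + cl (0 : A) := cl_shortExact S hS
  rw [cl_of_isZero (isZero_zero A), add_zero] at h
  exact h.symm

/-- `[X] = [ker f] + [coim f]`. -/
theorem cl_kernel_add_coimage {X Y : A} (f : X ⟶ Y) :
    cl X = cl (kernel f) + cl (Abelian.coimage f) := by
  let S : ShortComplex A := ShortComplex.mk (kernel.ι f) (cokernel.π (kernel.ι f)) (by simp)
  have hS : S.ShortExact :=
    { exact := ShortComplex.exact_cokernel _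
      mono_f := by dsimp [S]; infer_instance
      epi_g := by dsimp [S]; infer_instance }
  exact cl_shortExact S hS

/-- `[Y] = [im f] + [coker f]`. -/
theorem cl_image_add_cokernel {X Y : A} (f : X ⟶ Y) :
    cl Y = cl (Abelian.image f) + cl (cokernel f) := by
  let S : ShortComplex A := ShortComplex.mk (kernel.ι (cokernel.π f)) (cokernel.π f) (by simp)
  have hS : S.ShortExact :=
    { exact := ShortComplex.exact_kernel _
      mono_f := by dsimp [S]; infer_instance
      epi_g := by dsimp [S]; infer_instance }
  exact cl_shortExact S hS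

/-- the Euler characteristic of a morphism. -/
theorem cl_euler {X Y : A} (f : X ⟶ Y) :
    cl X + cl (cokernel f) = cl Y + cl (kernel f) := by
  rw [cl_kernel_add_coimage f, cl_image_add_cokernel f,
    cl_of_iso (Abelian.coimageIsoImage f)]
  abel

theorem cl_biprod (X Y : A) : cl (X ⊞ Y) = cl X + cl Y := by
  let S : ShortComplex A := ShortComplex.mk (biprod.inl : X ⟶ X ⊞ Y) biprod.snd (by simp)
  have hS : S.ShortExact :=
    { exact := (ShortComplex.Splitting.ofHasBinaryBiproduct X Y).exact
      mono_f := by dsimp [S]; infer_instance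
      epi_g := by dsimp [S]; infer_instance }
  exact cl_shortExact S hS

/-- the class of the homology of a short complex. -/
theorem cl_homology (S : ShortComplex A) :
    cl S.homology + cl S.X₁ = cl (kernel S.f) + cl (kernel S.g) := by
  have h := cl_euler S.toCycles
  have e₁ : cokernel S.toCycles ≅ S.homology :=
    (S.homologyIsCokernel.coconePointUniqueUpToIso (colimit.isColimit _)).symm
  have e₂ : kernel S.f ≅ kernel S.toCycles :=
    kernelIsoOfEq S.toCycles_i.symm ≪≫ kernelCompMono S.toCycles S.iCycles
  rw [cl_of_iso e₁, ← cl_of_iso e₂, cl_of_iso S.cyclesIsoKernel] at h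
  rw [add_comm, h, add_comm]

end Groth.Agent.Lib.Helper17.K0Serre
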