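import Groth.Agent.Lib.Helper17K0Serre2
import Mathlib.Algebra.Homology.ShortComplex.Preadditive

/-! Two-periodic complexes and direct sums of short complexes (helper17). -/
set_option autoImplicit false
set_option backward.isDefEq.respectTransparency false
set_option backward.isDefEq.respectTransparency.types false
universe v v' u u'
open CategoryTheory CategoryTheory.Limits ZeroObject

namespace Groth.Agent.Lib.Helper17.K0Serre

open KZero Groth.Agent.Lib.Helper17.K0a

variable {A : Type u} [Category.{v} A] [Abelian A]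

/-- the class in `K₀(A)` of `H⁰ - H¹` of a 2-periodic complex vanishes. -/
theorem iota_periodic_eq_zero (P : ObjectProperty A) {M : A} (φ ψ : M ⟶ M) (h₁ : φ ≫ ψ = 0)
    (h₂ : ψ ≫ φ = 0)
    (hP₁ : P (ShortComplex.mk φ ψ h₁).homology) (hP₂ : P (ShortComplex.mk ψ φ h₂).homology) :
    iota P (clSub P (ShortComplex.mk φ ψ h₁).homology -
      clSub P (ShortComplex.mk ψ φ h₂).homology) = 0 := by
  rw [map_sub, iota_clSub P hP₁, iota_clSub P hP₂, sub_eq_zero]
  have e₁ : cl (ShortComplex.mk φ ψ h₁).homology + cl M = cl (kernel φ) + cl (kernel ψ) :=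
    cl_homology (ShortComplex.mk φ ψ h₁)
  have e₂ : cl (ShortComplex.mk ψ φ h₂).homology + cl M = cl (kernel ψ) + cl (kernel φ) :=
    cl_homology (ShortComplex.mk ψ φ h₂)
  exact add_right_cancel (e₁.trans ((add_comm _ _).trans e₂.symm))

/-- the explicit direct sum of two short complexes. -/
@[simps]
noncomputable def biprodSC (S S' : ShortComplex A) : ShortComplex A :=
  ShortComplex.mk (biprod.map S.f S'.f) (biprod.map S.g S'.g) (by
    ext <;> simp)

/-- the inclusion of the first summand -/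
@[simps]
noncomputable def inlSC (S S' : ShortComplex A) : S ⟶ biprodSC S S' where
  τ₁ := biprod.inl
  τ₂ := biprod.inl
  τ₃ := biprod.inl

/-- the inclusion of the second summand -/
@[simps]
noncomputable def inrSC (S S' : ShortComplex A) : S' ⟶ biprodSC S S' where
  τ₁ := biprod.inr
  τ₂ := biprod.inr
  τ₃ := biprod.inr

/-- the projection to the first summand -/
@[simps]
noncomputable def fstSC (S S' : ShortComplex A) : biprodSC S S' ⟶ S where
  τ₁ := biprod.fst
  τ₂ := biprod.fst
  τ₃ := biprod.fst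

/-- the projection to the second summand -/
@[simps]
noncomputable def sndSC (S S' : ShortComplex A) : biprodSC S S' ⟶ S' where
  τ₁ := biprod.snd
  τ₂ := biprod.snd
  τ₃ := biprod.snd

lemma inl_fstSC (S S' : ShortComplex A) : inlSC S S' ≫ fstSC S S' = 𝟙 S := by
  ext <;> simp

lemma totalSC (S S' : ShortComplex A) :
    fstSC S S' ≫ inlSC S S' + sndSC S S' ≫ inrSC S S' = 𝟙 (biprodSC S S') := by
  ext <;> exact biprod.total

/-- adding an exact short complex does not change the homology. -/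
noncomputable def homologyBiprodSCIso (S S' : ShortComplex A) (hS' : S'.Exact) :
    (biprodSC S S').homology ≅ S.homology where
  hom := ShortComplex.homologyMap (fstSC S S')
  inv := ShortComplex.homologyMap (inlSC S S')
  hom_inv_id := by
    have hz : ShortComplex.homologyMap (sndSC S S') = 0 :=
      ((ShortComplex.exact_iff_isZero_homology _).1 hS').eq_of_tgt _ _
    rw [← ShortComplex.homologyMap_comp, ← ShortComplex.homologyMap_id, ← totalSC S S',
      ShortComplex.homologyMap_add, ShortComplex.homologyMap_comp (sndSC S S'), hz, zero_comp,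
      add_zero]
  inv_hom_id := by
    rw [← ShortComplex.homologyMap_comp, inl_fstSC, ShortComplex.homologyMap_id]

lemma exact_biprodSC (S S' : ShortComplex A) (hS : S.Exact) (hS' : S'.Exact) :
    (biprodSC S S').Exact := by
  rw [ShortComplex.exact_iff_isZero_homology]
  exact IsZero.of_iso ((ShortComplex.exact_iff_isZero_homology _).1 hS) (homologyBiprodSCIso S S' hS')

/-- the homology of `0 ⊞ f, 0 ⊞ g` for an exact pair `f, g`. -/
noncomputable def homologyZeroBiprodIso {B₁ B₂ B₃ : A} (S' : ShortComplex A) (hS' : S'.Exact) :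
    (ShortComplex.mk (biprod.map (0 : B₁ ⟶ B₂) S'.f) (biprod.map (0 : B₂ ⟶ B₃) S'.g) (by
      apply biprod.hom_ext' <;> apply biprod.hom_ext <;> simp)).homology ≅ B₂ :=
  homologyBiprodSCIso (ShortComplex.mk (0 : B₁ ⟶ B₂) (0 : B₂ ⟶ B₃) zero_comp) S' hS' ≪≫
    (ShortComplex.HomologyData.ofZeros _ rfl rfl).left.homologyIso

/-- the existence of an exact two-periodic complex `X ⇄ X'`. -/
def IsPer2 (X X' : A) : Prop :=
  ∃ (φ : X ⟶ X') (ψ : X' ⟶ X) (h₁ : φ ≫ ψ = 0) (h₂ : ψ ≫ φ = 0),
    (ShortComplex.mk φ ψ h₁).Exact ∧ (ShortComplex.mk ψ φ h₂).Exact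

lemma IsPer2.symm {X X' : A} (h : IsPer2 X X') : IsPer2 X' X := by
  obtain ⟨φ, ψ, h₁, h₂, e₁, e₂⟩ := h
  exact ⟨ψ, φ, h₂, h₁, e₂, e₁⟩

lemma isPer2_id (C : A) : IsPer2 C C := by
  refine ⟨𝟙 C, 0, by simp, by simp, ?_, ?_⟩
  · exact (ShortComplex.exact_iff_epi _ rfl).2 (by dsimp; infer_instance)
  · exact (ShortComplex.exact_iff_mono _ rfl).2 (by dsimp; infer_instance)

lemma IsPer2.biprod {X X' Y Y' : A} (h : IsPer2 X X') (h' : IsPer2 Y Y') :
    IsPer2 (X ⊞ Y) (X' ⊞ Y') := by
  obtain ⟨φ, ψ, h₁, h₂, e₁, e₂⟩ := h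
  obtain ⟨φ', ψ', h₁', h₂', e₁', e₂'⟩ := h'
  exact ⟨biprod.map φ φ', biprod.map ψ ψ', by ext <;> simp [h₁, h₁'], by ext <;> simp [h₂, h₂'],
    exact_biprodSC _ _ e₁ e₁', exact_biprodSC _ _ e₂ e₂'⟩

lemma isPer2_of_shortExact (S : ShortComplex A) (hS : S.ShortExact) :
    IsPer2 (S.X₁ ⊞ S.X₃) S.X₂ := by
  haveI := hS.mono_f
  haveI := hS.epi_g
  refine ⟨biprod.desc S.f 0, biprod.lift 0 S.g, by ext <;> simp, by simp, ?_, ?_⟩
  · -- exactness at `S.X₂`
    rw [ShortComplex.exact_iff_exact_up_to_refinements]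
    intro W x hx
    dsimp at x hx
    have hx' : x ≫ S.g = 0 := by
      have := hx =≫ biprod.snd
      simpa using this
    obtain ⟨W', π, hπ, y, hy⟩ := hS.exact.exact_up_to_refinements x hx'
    exact ⟨W', π, hπ, y ≫ biprod.inl, by simpa using hy⟩
  · -- exactness at `S.X₁ ⊞ S.X₃`
    rw [ShortComplex.exact_iff_exact_up_to_refinements]
    intro W x hx
    dsimp at x hx
    have hx₁ : x ≫ biprod.fst = 0 := by
      rw [← cancel_mono S.f, zero_comp]
      have : x = x ≫ biprod.fst ≫ biprod.inl + x ≫ biprod.snd ≫ biprod.inr := by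
        rw [← Preadditive.comp_add, biprod.total, Category.comp_id]
      rw [this] at hx
      simpa using hx
    obtain ⟨W', π, hπ, y, hy⟩ := surjective_up_to_refinements_of_epi S.g (x ≫ biprod.snd)
    refine ⟨W', π, hπ, y, ?_⟩
    dsimp
    ext
    · simp [hx₁]
    · simpa using hy

end Groth.Agent.Lib.Helper17.K0Serre
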