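import Groth.Agent.Lib.Helper17K0Serre3
import Mathlib.GroupTheory.MonoidLocalization.GrothendieckGroup
import Mathlib.CategoryTheory.IsomorphismClasses

/-! The kernel of `K₀(P) → K₀(A)` via two-periodic complexes (helper17). -/
set_option autoImplicit false
set_option backward.isDefEq.respectTransparency false
set_option backward.isDefEq.respectTransparency.types false
universe v v' u u'
open CategoryTheory CategoryTheory.Limits ZeroObject

namespace Groth.Agent.Lib.Helper17.K0Serre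

open KZero Groth.Agent.Lib.Helper17.K0a

variable (A : Type u) [Category.{v} A] [Abelian A]

/-- the commutative monoid of isomorphism classes of objects under direct sum. -/
def Mon : Type u := Quotient (isIsomorphicSetoid A)

variable {A}

/-- the isomorphism class of an object. -/
def Mon.mk (X : A) : Mon A := Quotient.mk _ X

lemma Mon.mk_eq_iff (X Y : A) : Mon.mk X = Mon.mk Y ↔ Nonempty (X ≅ Y) :=
  Quotient.eq (r := isIsomorphicSetoid A)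

noncomputable instance : Zero (Mon A) := ⟨Mon.mk 0⟩

noncomputable instance : Add (Mon A) :=
  ⟨Quotient.map₂ (fun X Y => X ⊞ Y) (by
    rintro X X' ⟨e⟩ Y Y' ⟨e'⟩
    exact ⟨biprod.mapIso e e'⟩)⟩

lemma Mon.mk_biprod (X Y : A) : Mon.mk (X ⊞ Y) = Mon.mk X + Mon.mk Y := rfl

lemma Mon.mk_zero : Mon.mk (0 : A) = 0 := rfl

noncomputable instance : AddCommMonoid (Mon A) where
  add_assoc := by
    rintro ⟨X⟩ ⟨Y⟩ ⟨Z⟩
    exact Quotient.sound ⟨biprod.associator X Y Z⟩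
  zero_add := by
    rintro ⟨X⟩
    exact Quotient.sound ⟨(isoZeroBiprod (isZero_zero A)).symm⟩
  add_zero := by
    rintro ⟨X⟩
    exact Quotient.sound ⟨(isoBiprodZero (isZero_zero A)).symm⟩
  add_comm := by
    rintro ⟨X⟩ ⟨Y⟩
    exact Quotient.sound ⟨biprod.braiding X Y⟩
  nsmul := nsmulRec

/-- the class of an object in the Grothendieck group of `Mon A`. -/
noncomputable def gcl (X : A) : Algebra.GrothendieckAddGroup (Mon A) :=
  Algebra.GrothendieckAddGroup.of (Mon.mk X)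

lemma gcl_biprod (X Y : A) : gcl (X ⊞ Y) = gcl X + gcl Y := by
  unfold gcl
  rw [Mon.mk_biprod, map_add]

lemma gcl_zero : gcl (0 : A) = 0 := by
  unfold gcl
  rw [Mon.mk_zero, map_zero]

lemma exists_iso_of_gcl_eq {X Y : A} (h : gcl X = gcl Y) :
    ∃ C : A, Nonempty (C ⊞ X ≅ C ⊞ Y) := by
  obtain ⟨⟨c, _⟩, hc⟩ := (AddLocalization.addMonoidOf (⊤ : AddSubmonoid (Mon A))).eq_iff_exists.1 h
  obtain ⟨C, rfl⟩ := Quotient.exists_rep c
  exact ⟨C, (Mon.mk_eq_iff _ _).1 hc⟩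

/-- the homomorphism from the free abelian group on objects. -/
noncomputable def gam : FreeAbelianGroup A →+ Algebra.GrothendieckAddGroup (Mon A) :=
  FreeAbelianGroup.lift gcl

lemma gam_of (X : A) : gam (FreeAbelianGroup.of X) = gcl X :=
  FreeAbelianGroup.lift_apply_of _ _

/-- differences of the classes of the two objects of an exact two-periodic complex. -/
def Good (g : Algebra.GrothendieckAddGroup (Mon A)) : Prop :=
  ∃ (X X' : A), IsPer2 X X' ∧ g = gcl X' - gcl X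

lemma good_zero : Good (0 : Algebra.GrothendieckAddGroup (Mon A)) :=
  ⟨0, 0, isPer2_id 0, by simp⟩

lemma Good.neg {g : Algebra.GrothendieckAddGroup (Mon A)} (h : Good g) : Good (-g) := by
  obtain ⟨X, X', hX, rfl⟩ := h
  exact ⟨X', X, hX.symm, by abel⟩

lemma Good.add {g g' : Algebra.GrothendieckAddGroup (Mon A)} (h : Good g) (h' : Good g') :
    Good (g + g') := by
  obtain ⟨X, X', hX, rfl⟩ := h
  obtain ⟨Y, Y', hY, rfl⟩ := h'
  exact ⟨X ⊞ Y, X' ⊞ Y', hX.biprod hY, by rw [gcl_biprod, gcl_biprod]; abel⟩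

lemma good_of_mem_relAb (z : FreeAbelianGroup A) (hz : z ∈ relAb A) : Good (gam z) := by
  unfold relAb at hz
  induction hz using AddSubgroup.closure_induction with
  | mem x hx =>
    obtain ⟨S, hS, rfl⟩ := hx
    refine ⟨S.X₁ ⊞ S.X₃, S.X₂, isPer2_of_shortExact S hS, ?_⟩
    rw [map_sub, map_sub, gam_of, gam_of, gam_of, gcl_biprod]
    abel
  | zero => rw [map_zero]; exact good_zero
  | add x y _ _ hx hy => rw [map_add]; exact hx.add hy
  | neg x _ hx => rw [map_neg]; exact hx.neg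

/-- the key construction: from an exact two-periodic complex `Y ⇄ Y'` and an isomorphism
`A₀ ⊞ Y ≅ A₀' ⊞ Y'`, a two-periodic complex on one object with cohomology `A₀` and `A₀'`. -/
lemma exists_periodic_of_iso {A₀ A₀' Y Y' : A} (hY : IsPer2 Y Y') (e : A₀ ⊞ Y ≅ A₀' ⊞ Y') :
    ∃ (M : A) (φ ψ : M ⟶ M) (h₁ : φ ≫ ψ = 0) (h₂ : ψ ≫ φ = 0),
      Nonempty ((ShortComplex.mk φ ψ h₁).homology ≅ A₀) ∧
      Nonempty ((ShortComplex.mk ψ φ h₂).homology ≅ A₀') := by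
  obtain ⟨φ₀, ψ₀, k₁, k₂, e₁, e₂⟩ := hY
  have hΦΨ : biprod.map (0 : A₀ ⟶ A₀') φ₀ ≫ biprod.map (0 : A₀' ⟶ A₀) ψ₀ = 0 := by
    apply biprod.hom_ext' <;> apply biprod.hom_ext <;> simp [k₁]
  have hΨΦ : biprod.map (0 : A₀' ⟶ A₀) ψ₀ ≫ biprod.map (0 : A₀ ⟶ A₀') φ₀ = 0 := by
    apply biprod.hom_ext' <;> apply biprod.hom_ext <;> simp [k₂]
  have h₁ : (e.hom ≫ biprod.map (0 : A₀' ⟶ A₀) ψ₀) ≫ (biprod.map (0 : A₀ ⟶ A₀') φ₀ ≫ e.inv) = 0 := by
    rw [Category.assoc, reassoc_of% hΨΦ, zero_comp, comp_zero]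
  have h₂ : (biprod.map (0 : A₀ ⟶ A₀') φ₀ ≫ e.inv) ≫ (e.hom ≫ biprod.map (0 : A₀' ⟶ A₀) ψ₀) = 0 := by
    rw [Category.assoc, Iso.inv_hom_id_assoc, hΦΨ]
  let S₁ : ShortComplex A := ShortComplex.mk (e.hom ≫ biprod.map (0 : A₀' ⟶ A₀) ψ₀)
    (biprod.map (0 : A₀ ⟶ A₀') φ₀ ≫ e.inv) h₁
  let T₁ : ShortComplex A := ShortComplex.mk (biprod.map (0 : A₀' ⟶ A₀) ψ₀)
    (biprod.map (0 : A₀ ⟶ A₀') φ₀) hΨΦ
  let S₂ : ShortComplex A := ShortComplex.mk (biprod.map (0 : A₀ ⟶ A₀') φ₀ ≫ e.inv)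
    (e.hom ≫ biprod.map (0 : A₀' ⟶ A₀) ψ₀) h₂
  let T₂ : ShortComplex A := ShortComplex.mk (biprod.map (0 : A₀ ⟶ A₀') φ₀)
    (biprod.map (0 : A₀' ⟶ A₀) ψ₀) hΦΨ
  let i₁ : S₁ ≅ T₁ := ShortComplex.isoMk e (Iso.refl _) e (by simp [S₁, T₁]) (by simp [S₁, T₁])
  let i₂ : S₂ ≅ T₂ := ShortComplex.isoMk (Iso.refl _) e (Iso.refl _) (by simp [S₂, T₂])
    (by simp [S₂, T₂])
  refine ⟨A₀ ⊞ Y, e.hom ≫ biprod.map (0 : A₀' ⟶ A₀) ψ₀, biprod.map (0 : A₀ ⟶ A₀') φ₀ ≫ e.inv,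
    h₁, h₂, ⟨?_⟩, ⟨?_⟩⟩
  · exact ShortComplex.homologyMapIso i₁ ≪≫
      homologyZeroBiprodIso (ShortComplex.mk ψ₀ φ₀ k₂) e₂
  · exact ShortComplex.homologyMapIso i₂ ≪≫
      homologyZeroBiprodIso (ShortComplex.mk φ₀ ψ₀ k₁) e₁

/-- if `[A₀] - [A₀']` is a relation in `K₀(A)`, then there is a two-periodic complex with
cohomology `A₀` and `A₀'`. -/
theorem exists_periodic_of_mem_relAb (A₀ A₀' : A)
    (h : FreeAbelianGroup.of A₀ - FreeAbelianGroup.of A₀' ∈ relAb A) :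
    ∃ (M : A) (φ ψ : M ⟶ M) (h₁ : φ ≫ ψ = 0) (h₂ : ψ ≫ φ = 0),
      Nonempty ((ShortComplex.mk φ ψ h₁).homology ≅ A₀) ∧
      Nonempty ((ShortComplex.mk ψ φ h₂).homology ≅ A₀') := by
  obtain ⟨X, X', hX, hg⟩ := good_of_mem_relAb _ h
  rw [map_sub, gam_of, gam_of] at hg
  have hg' : gcl (A₀ ⊞ X) = gcl (A₀' ⊞ X') := by
    rw [gcl_biprod, gcl_biprod, sub_eq_sub_iff_add_eq_add.1 hg, add_comm]
  obtain ⟨C, ⟨i⟩⟩ := exists_iso_of_gcl_eq hg'
  have hm : Mon.mk (A₀ ⊞ (X ⊞ C)) = Mon.mk (A₀' ⊞ (X' ⊞ C)) := by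
    have := (Mon.mk_eq_iff _ _).2 ⟨i⟩
    simp only [Mon.mk_biprod] at this ⊢
    calc Mon.mk A₀ + (Mon.mk X + Mon.mk C) = Mon.mk C + (Mon.mk A₀ + Mon.mk X) := by abel
      _ = Mon.mk C + (Mon.mk A₀' + Mon.mk X') := this
      _ = Mon.mk A₀' + (Mon.mk X' + Mon.mk C) := by abel
  obtain ⟨e⟩ := (Mon.mk_eq_iff _ _).1 hm
  exact exists_periodic_of_iso (hX.biprod (isPer2_id C)) e

end Groth.Agent.Lib.Helper17.K0Serre
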