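import Groth.Agent.Lib.Helper17K0Serre4

/-! K₀ of a Serre quotient: the main theorem (helper17). -/
set_option autoImplicit false
set_option backward.isDefEq.respectTransparency false
set_option backward.isDefEq.respectTransparency.types false
universe v v' u u'
open CategoryTheory CategoryTheory.Limits ZeroObject

namespace Groth.Agent.Lib.Helper17.K0Serre

open KZero Groth.Agent.Lib.Helper17.K0a

variable {A : Type u} [Category.{v} A] [Abelian A] (P : ObjectProperty A) [P.IsSerreClass]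

theorem clSub_biprod {X Y : A} (hX : P X) (hY : P Y) :
    clSub P (X ⊞ Y) = clSub P X + clSub P Y := by
  let S : ShortComplex A := ShortComplex.mk (biprod.inl : X ⟶ X ⊞ Y) biprod.snd (by simp)
  have hS : S.ShortExact :=
    { exact := (ShortComplex.Splitting.ofHasBinaryBiproduct X Y).exact
      mono_f := by dsimp [S]; infer_instance
      epi_g := by dsimp [S]; infer_instance }
  exact clSub_shortExact P S hS hX (P.prop_biprod hX hY) hY

theorem exists_eq_clSub_sub (x : K0sub P) :
    ∃ (X X' : A) (_ : P X) (_ : P X'), x = clSub P X - clSub P X' := by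
  have h0 : P (0 : A) := P.prop_zero
  have c0 : clSub P (0 : A) = 0 := clSub_of_isZero P (isZero_zero A)
  induction x using QuotientAddGroup.induction_on with
  | H z =>
    induction z using FreeAbelianGroup.induction_on with
    | zero => exact ⟨0, 0, h0, h0, by rw [sub_self]; rfl⟩
    | of X =>
      obtain ⟨X, hX⟩ := X
      exact ⟨X, 0, hX, h0, by rw [c0, sub_zero, clSub_of_prop P hX]⟩
    | neg X hX =>
      obtain ⟨Y, Y', hY, hY', h⟩ := hX
      refine ⟨Y', Y, hY', hY, ?_⟩
      rw [QuotientAddGroup.mk_neg, h, neg_sub]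
    | add x y hx hy =>
      obtain ⟨X, X', hX, hX', h⟩ := hx
      obtain ⟨Y, Y', hY, hY', h'⟩ := hy
      refine ⟨X ⊞ Y, X' ⊞ Y', P.prop_biprod hX hY, P.prop_biprod hX' hY', ?_⟩
      rw [QuotientAddGroup.mk_add, h, h', clSub_biprod P hX hY, clSub_biprod P hX' hY']
      abel

theorem iota_eq_zero_iff (x : K0sub P) :
    iota P x = 0 ↔
      ∃ (M : A) (φ ψ : M ⟶ M) (h₁ : φ ≫ ψ = 0) (h₂ : ψ ≫ φ = 0),
        P (ShortComplex.mk φ ψ h₁).homology ∧ P (ShortComplex.mk ψ φ h₂).homology ∧
        x = clSub P (ShortComplex.mk φ ψ h₁).homology -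
          clSub P (ShortComplex.mk ψ φ h₂).homology := by
  constructor
  · intro hx
    obtain ⟨X, X', hX, hX', rfl⟩ := exists_eq_clSub_sub P x
    rw [map_sub, iota_clSub P hX, iota_clSub P hX'] at hx
    have hmem : FreeAbelianGroup.of X - FreeAbelianGroup.of X' ∈ relAb A := by
      rw [← QuotientAddGroup.eq_zero_iff, QuotientAddGroup.mk_sub]
      exact hx
    obtain ⟨M, φ, ψ, h₁, h₂, ⟨i₁⟩, ⟨i₂⟩⟩ := exists_periodic_of_mem_relAb X X' hmem
    have p₁ := P.prop_of_iso i₁.symm hX
    have p₂ := P.prop_of_iso i₂.symm hX'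
    exact ⟨M, φ, ψ, h₁, h₂, p₁, p₂, by rw [clSub_of_iso P i₁ p₁, clSub_of_iso P i₂ p₂]⟩
  · rintro ⟨M, φ, ψ, h₁, h₂, p₁, p₂, rfl⟩
    exact iota_periodic_eq_zero P φ ψ h₁ h₂ p₁ p₂

end Groth.Agent.Lib.Helper17.K0Serre
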