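import Groth.Agent.Lib.Helper17K0a
import Groth.Agent.Lib.Helper17K0b
import Groth.Agent.Lib.Helper17WayOut

/-! K₀(P) ≃ K₀(D^b_P(C)) for a thick class `P` of objects of an abelian category (helper17). -/
set_option autoImplicit false
set_option backward.isDefEq.respectTransparency false
set_option backward.isDefEq.respectTransparency.types false
universe w v u
open CategoryTheory CategoryTheory.Limits ZeroObject CategoryTheory.Pretriangulated

namespace Groth.Agent.Lib.Helper17.K0c

open KZero DerivedCategory Groth.Agent.S14388 Groth.Agent.Lib.Helper17.K0a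
  Groth.Agent.Lib.Helper17.K0b Groth.Agent.Lib.Helper17.WayOut

variable {C : Type u} [Category.{v} C] [Abelian C] [HasDerivedCategory.{w} C]
  (P : ObjectProperty C)

/-- bounded objects of the derived category with cohomology in `P`. -/
def DbP : ObjectProperty (DerivedCategory C) := fun K =>
  (∀ i : ℤ, P ((DerivedCategory.homologyFunctor C i).obj K)) ∧
    ∃ a b : ℤ, (DerivedCategory.TStructure.t (C := C)).IsGE K a ∧
      (DerivedCategory.TStructure.t (C := C)).IsLE K b

variable [P.IsClosedUnderIsomorphisms] [P.ContainsZero]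

instance : (DbP P).IsClosedUnderIsomorphisms where
  of_iso := by
    rintro K L e ⟨h, a, b, ha, hb⟩
    refine ⟨fun i => P.prop_of_iso ((DerivedCategory.homologyFunctor C i).mapIso e) (h i), a, b,
      ?_, ?_⟩
    · exact tt.isGE_of_iso e a
    · exact tt.isLE_of_iso e b

theorem dbP_of_isZero (K : DerivedCategory C) (hK : IsZero K) : DbP P K :=
  ⟨fun i => P.prop_of_isZero ((DerivedCategory.homologyFunctor C i).map_isZero hK), 0, 0,
    tt.isGE_of_isZero hK 0, tt.isLE_of_isZero hK 0⟩

instance : (DbP P).ContainsZero where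
  exists_zero := ⟨0, isZero_zero _, dbP_of_isZero P _ (isZero_zero _)⟩

theorem isZero_homology_singleFunctor (X : C) (j i : ℤ) (h : i ≠ j) :
    IsZero ((DerivedCategory.homologyFunctor C i).obj ((DerivedCategory.singleFunctor C j).obj X)) := by
  rcases lt_or_gt_of_ne h with h | h
  · exact isZero_of_isGE _ j i h
  · exact isZero_of_isLE _ j i h

theorem dbP_single (X : C) (hX : P X) (j : ℤ) :
    DbP P ((DerivedCategory.singleFunctor C j).obj X) := by
  refine ⟨fun i => ?_, j, j, inferInstance, inferInstance⟩
  by_cases h : i = j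
  · subst h
    exact P.prop_of_iso ((singleFunctorCompHomologyFunctorIso C i).app X).symm hX
  · exact P.prop_of_isZero (isZero_homology_singleFunctor X j i h)

theorem dbP_truncLT (K : DerivedCategory C) (hK : DbP P K) (n : ℤ) :
    DbP P ((tt.truncLT n).obj K) := by
  obtain ⟨h, a, b, ha, hb⟩ := hK
  refine ⟨prop_truncLT P (fun Z hZ => P.prop_of_isZero hZ) K n h, a, n - 1, ?_, ?_⟩
  · have : K.IsGE a := ha
    exact (inferInstance : ((tt.truncLT n).obj K).IsGE a)
  · exact (inferInstance : ((tt.truncLT n).obj K).IsLE (n - 1))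

theorem dbP_truncGE (K : DerivedCategory C) (hK : DbP P K) (n : ℤ) :
    DbP P ((tt.truncGE n).obj K) := by
  obtain ⟨h, a, b, ha, hb⟩ := hK
  refine ⟨prop_truncGE P (fun Z hZ => P.prop_of_isZero hZ) K n h, n, b, ?_, ?_⟩
  · exact (inferInstance : ((tt.truncGE n).obj K).IsGE n)
  · have : K.IsLE b := hb
    exact (inferInstance : ((tt.truncGE n).obj K).IsLE b)

/-- the classes of the shifted singles. -/
theorem clTr_single_succ (X : C) (hX : P X) (j : ℤ) :
    clTr (DbP P) ((DerivedCategory.singleFunctor C (j + 1)).obj X) =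
      - clTr (DbP P) ((DerivedCategory.singleFunctor C j).obj X) := by
  have e : (shiftFunctor (DerivedCategory C) (1 : ℤ)).obj
      ((DerivedCategory.singleFunctor C (j + 1)).obj X) ≅
      (DerivedCategory.singleFunctor C j).obj X :=
    ((DerivedCategory.singleFunctors C).shiftIso 1 j (j + 1) (by omega)).app X
  have h1 : DbP P ((shiftFunctor (DerivedCategory C) (1 : ℤ)).obj
      ((DerivedCategory.singleFunctor C (j + 1)).obj X)) :=
    (DbP P).prop_of_iso e.symm (dbP_single P X hX j)
  have h := clTr_shift_one (DbP P) _ (dbP_single P X hX (j + 1)) h1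
  rw [clTr_of_iso (DbP P) e h1] at h
  rw [h, neg_neg]

theorem clTr_single (X : C) (hX : P X) (j : ℤ) :
    clTr (DbP P) ((DerivedCategory.singleFunctor C j).obj X) =
      (j.negOnePow : ℤ) • clTr (DbP P) ((DerivedCategory.singleFunctor C 0).obj X) := by
  induction j using Int.induction_on with
  | zero => simp
  | succ j ih =>
    rw [clTr_single_succ P X hX j, ih, Int.negOnePow_succ]
    simp
  | pred j ih =>
    have h := clTr_single_succ P X hX (-(j : ℤ) - 1)
    have e : -(j : ℤ) - 1 + 1 = -(j : ℤ) := by ring
    rw [e] at h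
    rw [h] at ih
    have ih' := congrArg (fun t => -t) ih
    simp only [neg_neg] at ih'
    rw [ih', Int.negOnePow_sub]
    simp

end Groth.Agent.Lib.Helper17.K0c
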