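import Groth.Agent.Lib.Helper17K0c

/-! K₀(P) ≃ K₀(D^b_P(C)): the Euler characteristic (helper17). -/
set_option autoImplicit false
set_option backward.isDefEq.respectTransparency false
set_option backward.isDefEq.respectTransparency.types false
universe w v u
open CategoryTheory CategoryTheory.Limits ZeroObject CategoryTheory.Pretriangulated

namespace Groth.Agent.Lib.Helper17.K0d

open KZero DerivedCategory Groth.Agent.S14388 Groth.Agent.Lib.Helper17.K0a
  Groth.Agent.Lib.Helper17.K0b Groth.Agent.Lib.Helper17.WayOut Groth.Agent.Lib.Helper17.K0c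

section Telescope
variable {G : Type*} [AddCommGroup G]

/-- functions `ℤ → G` vanishing outside a bounded interval. -/
def Bdd (f : ℤ → G) : Prop := ∃ a b : ℤ, ∀ i : ℤ, i < a ∨ b < i → f i = 0

theorem Bdd.finite {f : ℤ → G} (h : Bdd f) : (Function.support f).Finite := by
  obtain ⟨a, b, h⟩ := h
  refine (Set.finite_Icc a b).subset (fun i hi => ?_)
  by_contra hc
  rw [Set.mem_Icc] at hc
  exact hi (h i (by omega))

theorem Bdd.smul {f : ℤ → G} (h : Bdd f) : Bdd (fun i => (i.negOnePow : ℤ) • f i) := by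
  obtain ⟨a, b, h⟩ := h
  exact ⟨a, b, fun i hi => by simp [h i hi]⟩

theorem Bdd.shift {f : ℤ → G} (h : Bdd f) : Bdd (fun i => f (i + 1)) := by
  obtain ⟨a, b, h⟩ := h
  exact ⟨a - 1, b - 1, fun i hi => h (i + 1) (by omega)⟩

theorem finsum_shift (f : ℤ → G) : ∑ᶠ i : ℤ, f (i + 1) = ∑ᶠ i : ℤ, f i :=
  finsum_comp_equiv (Equiv.addRight (1 : ℤ)) (f := f)

theorem finsum_telescope (f₁ f₂ f₃ κ γ d : ℤ → G)
    (h₁ : ∀ i, f₁ i = κ i + γ i) (h₂ : ∀ i, f₂ i = γ i + d i) (h₃ : ∀ i, f₃ i = d i + κ (i + 1))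
    (hf₁ : Bdd f₁) (hf₃ : Bdd f₃) (hκ : Bdd κ) :
    ∑ᶠ i : ℤ, (i.negOnePow : ℤ) • f₂ i =
      ∑ᶠ i : ℤ, (i.negOnePow : ℤ) • f₁ i + ∑ᶠ i : ℤ, (i.negOnePow : ℤ) • f₃ i := by
  set s : ℤ → G := fun i => (i.negOnePow : ℤ) • κ i with hs
  have hsb : Bdd s := hκ.smul
  have key : ∀ i : ℤ, (i.negOnePow : ℤ) • f₂ i =
      ((i.negOnePow : ℤ) • f₁ i + (i.negOnePow : ℤ) • f₃ i) - (s i - s (i + 1)) := by
    intro i
    rw [h₁, h₂, h₃]
    simp only [hs, Int.negOnePow_succ, Units.val_neg, neg_smul, smul_add]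
    abel
  rw [finsum_congr key, finsum_sub_distrib, finsum_add_distrib hf₁.smul.finite hf₃.smul.finite,
    finsum_sub_distrib hsb.finite hsb.shift.finite, finsum_shift s, sub_self, sub_zero]
  · exact (Set.Finite.union hf₁.smul.finite hf₃.smul.finite).subset
      (Function.support_add _ _)
  · exact (Set.Finite.union hsb.finite hsb.shift.finite).subset (Function.support_sub _ _)

end Telescope

variable {C : Type u} [Category.{v} C] [Abelian C] [HasDerivedCategory.{w} C]
  (P : ObjectProperty C) [P.IsClosedUnderIsomorphisms] [P.ContainsZero]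

/-- the Euler characteristic. -/
noncomputable def chi (K : DerivedCategory C) : K0sub P :=
  ∑ᶠ i : ℤ, (i.negOnePow : ℤ) • clSub P ((DerivedCategory.homologyFunctor C i).obj K)

theorem bdd_clSub_homology (K : DerivedCategory C) (hK : DbP P K) :
    Bdd (fun i => clSub P ((DerivedCategory.homologyFunctor C i).obj K)) := by
  obtain ⟨_, a, b, ha, hb⟩ := hK
  refine ⟨a, b, fun i hi => clSub_of_isZero P ?_⟩
  rcases hi with hi | hi
  · have : K.IsGE a := ha
    exact isZero_of_isGE K a i hi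
  · have : K.IsLE b := hb
    exact isZero_of_isLE K b i hi

theorem bdd_clSub_kernel (K L : DerivedCategory C) (f : K ⟶ L) (hK : DbP P K) :
    Bdd (fun i => clSub P (kernel ((DerivedCategory.homologyFunctor C i).map f))) := by
  obtain ⟨_, a, b, ha, hb⟩ := hK
  refine ⟨a, b, fun i hi => clSub_of_isZero P (IsZero.of_mono (kernel.ι _) ?_)⟩
  rcases hi with hi | hi
  · have : K.IsGE a := ha
    exact isZero_of_isGE K a i hi
  · have : K.IsLE b := hb
    exact isZero_of_isLE K b i hi

variable [P.IsClosedUnderKernels]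

theorem chi_distTriang (T : Triangle (DerivedCategory C)) (hT : T ∈ distTriang _)
    (h₁ : DbP P T.obj₁) (h₂ : DbP P T.obj₂) (h₃ : DbP P T.obj₃) :
    chi P T.obj₂ = chi P T.obj₁ + chi P T.obj₃ := by
  refine finsum_telescope _ _ _
    (fun i => clSub P (kernel ((DerivedCategory.homologyFunctor C i).map T.mor₁)))
    (fun i => clSub P (kernel ((DerivedCategory.homologyFunctor C i).map T.mor₂)))
    (fun i => clSub P (kernel (HomologySequence.δ T i (i + 1) rfl)))
    (fun i => ?_) (fun i => ?_) (fun i => ?_) (bdd_clSub_homology P _ h₁)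
    (bdd_clSub_homology P _ h₃) (bdd_clSub_kernel P _ _ T.mor₁ h₁)
  · exact clSub_eq_add_of_exact P _ (HomologySequence.exact₂ T hT i) (h₁.1 i) (h₂.1 i) (h₃.1 i)
  · exact clSub_eq_add_of_exact P _ (HomologySequence.exact₃ T hT i (i + 1) rfl) (h₂.1 i) (h₃.1 i)
      (h₁.1 (i + 1))
  · exact clSub_eq_add_of_exact P _ (HomologySequence.exact₁ T hT i (i + 1) rfl) (h₃.1 i)
      (h₁.1 (i + 1)) (h₂.1 (i + 1))

theorem chi_single (X : C) (hX : P X) :
    chi P ((DerivedCategory.singleFunctor C 0).obj X) = clSub P X := by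
  unfold chi
  rw [finsum_eq_single _ (0 : ℤ) (fun i hi => by
    rw [clSub_of_isZero P (isZero_homology_singleFunctor X 0 i hi), smul_zero])]
  have e := (singleFunctorCompHomologyFunctorIso C 0).app X
  have hP : P ((DerivedCategory.homologyFunctor C 0).obj ((DerivedCategory.singleFunctor C 0).obj X)) :=
    P.prop_of_iso e.symm hX
  rw [Int.negOnePow_zero, Units.val_one, one_smul]
  exact clSub_of_iso P e hP

end Groth.Agent.Lib.Helper17.K0d
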