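import Groth.Agent.Lib.Helper17K0e

/-! K₀(A) ≃ K₀(D^b(A)) (helper17). -/
set_option autoImplicit false
set_option backward.isDefEq.respectTransparency false
set_option backward.isDefEq.respectTransparency.types false
universe w v u
open CategoryTheory CategoryTheory.Limits ZeroObject CategoryTheory.Pretriangulated

namespace Groth.Agent.Lib.Helper17.K0f

open KZero DerivedCategory Groth.Agent.S14388 Groth.Agent.Lib.Helper17.K0a
  Groth.Agent.Lib.Helper17.K0b Groth.Agent.Lib.Helper17.WayOut Groth.Agent.Lib.Helper17.K0c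
  Groth.Agent.Lib.Helper17.K0d Groth.Agent.Lib.Helper17.K0e

variable (A : Type u) [Category.{v} A] [Abelian A]

theorem cl_shortExact (S : ShortComplex A) (hS : S.ShortExact) :
    cl S.X₂ = cl S.X₁ + cl S.X₃ := by
  have hmem : (FreeAbelianGroup.of S.X₂ - FreeAbelianGroup.of S.X₁ - FreeAbelianGroup.of S.X₃) ∈
      relAb A := AddSubgroup.subset_closure ⟨S, hS, rfl⟩
  have h0 := (QuotientAddGroup.eq_zero_iff _).2 hmem
  rw [QuotientAddGroup.mk_sub, QuotientAddGroup.mk_sub, sub_sub, sub_eq_zero] at h0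
  exact h0

/-- `K₀(A) → K₀(⊤)`. -/
noncomputable def toSub : K0 A →+ K0sub (⊤ : ObjectProperty A) :=
  QuotientAddGroup.lift (relAb A)
    (FreeAbelianGroup.lift (fun X : A => clSub (⊤ : ObjectProperty A) X)) (by
    rw [relAb, AddSubgroup.closure_le]
    rintro x ⟨S, hS, rfl⟩
    rw [SetLike.mem_coe, AddMonoidHom.mem_ker, map_sub, map_sub, FreeAbelianGroup.lift_apply_of,
      FreeAbelianGroup.lift_apply_of, FreeAbelianGroup.lift_apply_of]
    rw [clSub_shortExact (⊤ : ObjectProperty A) S hS trivial trivial trivial]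
    abel)

/-- `K₀(⊤) → K₀(A)`. -/
noncomputable def ofSub : K0sub (⊤ : ObjectProperty A) →+ K0 A :=
  QuotientAddGroup.lift (relSub (⊤ : ObjectProperty A))
    (FreeAbelianGroup.lift (fun X : Subtype (⊤ : ObjectProperty A) => cl X.1)) (by
    rw [relSub, AddSubgroup.closure_le]
    rintro x ⟨S, h₁, h₂, h₃, hS, rfl⟩
    rw [SetLike.mem_coe, AddMonoidHom.mem_ker, map_sub, map_sub, FreeAbelianGroup.lift_apply_of,
      FreeAbelianGroup.lift_apply_of, FreeAbelianGroup.lift_apply_of]
    change cl S.X₂ - cl S.X₁ - cl S.X₃ = 0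
    rw [cl_shortExact A S hS]
    abel)

theorem toSub_cl (X : A) : toSub A (cl X) = clSub (⊤ : ObjectProperty A) X := by
  unfold toSub cl
  rw [QuotientAddGroup.lift_mk, FreeAbelianGroup.lift_apply_of]

theorem ofSub_clSub (X : A) : ofSub A (clSub (⊤ : ObjectProperty A) X) = cl X := by
  rw [clSub_of_prop (⊤ : ObjectProperty A) (trivial : (⊤ : ObjectProperty A) X)]
  unfold ofSub
  rw [QuotientAddGroup.lift_mk, FreeAbelianGroup.lift_apply_of]

theorem ofSub_toSub (x : K0 A) : ofSub A (toSub A x) = x := by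
  induction x using QuotientAddGroup.induction_on with
  | H z =>
    induction z using FreeAbelianGroup.induction_on with
    | zero => simp
    | of X =>
      have h1 : ((FreeAbelianGroup.of X : FreeAbelianGroup A) : K0 A) = cl X := rfl
      rw [h1, toSub_cl, ofSub_clSub]
    | neg X ih => rw [QuotientAddGroup.mk_neg, map_neg, map_neg, ih]
    | add x y hx hy => rw [QuotientAddGroup.mk_add, map_add, map_add, hx, hy]

theorem toSub_ofSub (x : K0sub (⊤ : ObjectProperty A)) : toSub A (ofSub A x) = x := by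
  induction x using QuotientAddGroup.induction_on with
  | H z =>
    induction z using FreeAbelianGroup.induction_on with
    | zero => simp
    | of X =>
      have h1 : ((FreeAbelianGroup.of X : FreeAbelianGroup (Subtype (⊤ : ObjectProperty A))) :
          K0sub (⊤ : ObjectProperty A)) = clSub (⊤ : ObjectProperty A) X.1 :=
        (clSub_of_prop (⊤ : ObjectProperty A) X.2).symm
      rw [h1, ofSub_clSub, toSub_cl]
    | neg X ih => rw [QuotientAddGroup.mk_neg, map_neg, map_neg, ih]
    | add x y hx hy => rw [QuotientAddGroup.mk_add, map_add, map_add, hx, hy]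

/-- `K₀(A) ≃ K₀(⊤)`. -/
noncomputable def equivSub : K0 A ≃+ K0sub (⊤ : ObjectProperty A) :=
  AddMonoidHom.toAddEquiv (toSub A) (ofSub A)
    (AddMonoidHom.ext (ofSub_toSub A)) (AddMonoidHom.ext (toSub_ofSub A))

variable [HasDerivedCategory.{w} A]

theorem exists_equiv_of_eq (P : ObjectProperty A) [P.IsClosedUnderIsomorphisms] [P.ContainsZero]
    [P.IsClosedUnderKernels] (Q : ObjectProperty (DerivedCategory A)) (hQ : Q = DbP P) :
    ∃ φ : K0sub P ≃+ K0tr Q, ∀ X : A, P X →
      φ (clSub P X) = clTr Q ((DerivedCategory.singleFunctor A 0).obj X) := by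
  subst hQ
  exact exists_equiv P

/-- S0987. -/
theorem exists_equiv_K0 :
    ∃ φ : K0 A ≃+ K0tr (fun X : DerivedCategory A => ∃ a b : ℤ, X.IsGE a ∧ X.IsLE b),
      ∀ X : A, φ (cl X) = clTr (fun X : DerivedCategory A => ∃ a b : ℤ, X.IsGE a ∧ X.IsLE b)
        ((DerivedCategory.singleFunctor A 0).obj X) := by
  have hQ : (fun X : DerivedCategory A => ∃ a b : ℤ, X.IsGE a ∧ X.IsLE b) =
      DbP (⊤ : ObjectProperty A) := by
    funext K
    apply propext
    constructor
    · intro h
      exact ⟨fun _ => trivial, h⟩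
    · intro h
      exact h.2
  obtain ⟨φ, hφ⟩ := exists_equiv_of_eq A (⊤ : ObjectProperty A) _ hQ
  refine ⟨(equivSub A).trans φ, fun X => ?_⟩
  have : (equivSub A) (cl X) = clSub (⊤ : ObjectProperty A) X := toSub_cl A X
  rw [AddEquiv.trans_apply, this]
  exact hφ X trivial

end Groth.Agent.Lib.Helper17.K0f
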