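import Mathlib.CategoryTheory.Abelian.GrothendieckCategory.EnoughInjectives
import Mathlib.CategoryTheory.Limits.Constructions.Filtered
import Mathlib.SetTheory.Cardinal.Arithmetic

/-!
# `κ`-generated objects in a Grothendieck abelian category (helper17)

Preliminaries for the construction of K-injective resolutions.
-/

set_option autoImplicit false

universe w v u

open CategoryTheory CategoryTheory.Limits Cardinal

namespace Groth.Agent.Lib.Helper17.KInj

variable {C : Type u} [Category.{v} C]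

section JointlyEpi

variable [Preadditive C]

/-- a jointly epimorphic family of morphisms (in a preadditive category). -/
def JointlyEpi {ι : Type*} {X : ι → C} {Y : C} (f : ∀ i, X i ⟶ Y) : Prop :=
  ∀ ⦃Z : C⦄ (k : Y ⟶ Z), (∀ i, f i ≫ k = 0) → k = 0

lemma JointlyEpi.comp_epi {ι : Type*} {X : ι → C} {Y Y' : C} {f : ∀ i, X i ⟶ Y}
    (hf : JointlyEpi f) (p : Y ⟶ Y') [Epi p] : JointlyEpi (fun i => f i ≫ p) := by
  intro Z k hk
  have : p ≫ k = 0 := hf _ (fun i => by simpa using hk i)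
  rwa [← cancel_epi p, comp_zero]

lemma JointlyEpi.trans {ι : Type*} {X : ι → C} {Y : C} {f : ∀ i, X i ⟶ Y}
    (hf : JointlyEpi f) {J : ι → Type*} {W : ∀ i, J i → C} (g : ∀ i (j : J i), W i j ⟶ X i)
    (hg : ∀ i, JointlyEpi (g i)) :
    JointlyEpi (fun (x : Σ i, J i) => g x.1 x.2 ≫ f x.1) := by
  intro Z k hk
  refine hf k (fun i => hg i _ (fun j => ?_))
  simpa using hk ⟨i, j⟩

lemma jointlyEpi_of_epi {X Y : C} (p : X ⟶ Y) [Epi p] : JointlyEpi (fun (_ : Unit) => p) := by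
  intro Z k hk
  have := hk ()
  rwa [← cancel_epi p, comp_zero]

lemma jointlyEpi_of_isSeparator {G : C} (hG : IsSeparator G) (X : C) :
    JointlyEpi (fun (g : G ⟶ X) => g) := by
  intro Z k hk
  exact (isSeparator_def G).1 hG k 0 (fun h => by rw [hk h, comp_zero])

lemma jointlyEpi_of_isColimit {J : Type*} [Category J] {F : J ⥤ C} {c : Cocone F}
    (hc : IsColimit c) : JointlyEpi (fun j => c.ι.app j) := by
  intro Z k hk
  exact hc.hom_ext (fun j => by rw [hk j, comp_zero])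

lemma JointlyEpi.epi_desc {ι : Type*} {X : ι → C} {Y : C} {f : ∀ i, X i ⟶ Y}
    (hf : JointlyEpi f) [HasCoproduct X] : Epi (Sigma.desc f) := by
  rw [Preadditive.epi_iff_cancel_zero]
  intro Z k hk
  refine hf k (fun i => ?_)
  rw [← Sigma.ι_desc f i, Category.assoc, hk, comp_zero]

end JointlyEpi

section IsGen

variable [Preadditive C]

/-- `X` is generated by at most `κ` morphisms from `G`. -/
def IsGen (G : C) (κ : Cardinal.{w}) (X : C) : Prop :=
  ∃ (T : Type w) (a : T → (G ⟶ X)), Cardinal.mk T ≤ κ ∧ JointlyEpi a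

variable {G : C} {κ : Cardinal.{w}}

lemma IsGen.of_epi {X Y : C} (hX : IsGen G κ X) (p : X ⟶ Y) [Epi p] : IsGen G κ Y := by
  obtain ⟨T, a, hT, ha⟩ := hX
  exact ⟨T, fun t => a t ≫ p, hT, ha.comp_epi p⟩

lemma IsGen.of_iso {X Y : C} (hX : IsGen G κ X) (e : X ≅ Y) : IsGen G κ Y :=
  hX.of_epi e.hom

lemma IsGen.of_jointlyEpi (hκ : ℵ₀ ≤ κ) {T₀ : Type w} {X : T₀ → C} {Y : C}
    (f : ∀ i, X i ⟶ Y) (hf : JointlyEpi f) (hT₀ : Cardinal.mk T₀ ≤ κ)
    (hX : ∀ i, IsGen G κ (X i)) : IsGen G κ Y := by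
  choose T a hT ha using hX
  refine ⟨Σ i, T i, fun x => a x.1 x.2 ≫ f x.1, ?_, hf.trans a ha⟩
  rw [Cardinal.mk_sigma]
  calc Cardinal.sum (fun i => Cardinal.mk (T i)) ≤ Cardinal.sum (fun (_ : T₀) => κ) :=
        Cardinal.sum_le_sum _ _ hT
    _ = Cardinal.mk T₀ * κ := by simp
    _ ≤ κ * κ := mul_le_mul_left hT₀ _
    _ = κ := Cardinal.mul_eq_self hκ

lemma IsGen.self (hκ : ℵ₀ ≤ κ) : IsGen G κ G :=
  ⟨PUnit, fun _ => 𝟙 G, by simpa using one_le_aleph0.trans hκ, fun Z k hk => by simpa using hk ⟨⟩⟩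

end IsGen

end Groth.Agent.Lib.Helper17.KInj
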