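import Groth.Agent.Lib.Helper17KInj9
import Mathlib.CategoryTheory.Abelian.GrothendieckCategory.EnoughInjectives

/-!
# Trivial cofibrations are transfinite compositions of pushouts of generating ones (helper17)
-/

set_option autoImplicit false

universe w v u

open CategoryTheory CategoryTheory.Limits HomologicalComplex Cardinal MorphismProperty Category

namespace Groth.Agent.Lib.Helper17.KInj

variable {A : Type u} [Category.{v} A] [Abelian A] [IsGrothendieckAbelian.{w} A]
  {U : A} {𝔾 : CochainComplex A ℤ} {κ : Cardinal.{w}}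

lemma trivCof_rlp_llp : (trivCof (A := A)).rlp.llp = trivCof := by
  refine le_antisymm ?_ (le_llp_rlp _)
  have hG := isSeparator_separator (CochainComplex A ℤ)
  have h1 : (trivCof (A := A)).rlp.llp ≤ monomorphisms _ := by
    rw [← IsGrothendieckAbelian.llp_rlp_monomorphisms hG]
    apply antitone_llp
    apply antitone_rlp
    rw [trivCof_eq]
    exact inf_le_left
  have h2 : (trivCof (A := A)).rlp.llp ≤ (diskSphere (A := A)).llp := by
    rw [← llp_rlp_llp (diskSphere (A := A))]
    apply antitone_llp
    apply antitone_rlp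
    rw [trivCof_eq]
    exact inf_le_right
  intro X Y f hf
  rw [trivCof_eq]
  exact ⟨h1 _ hf, h2 _ hf⟩

lemma pushouts_genTrivCof_le : (genTrivCof 𝔾 κ).pushouts ≤ trivCof := by
  rw [pushouts_le_iff]
  exact genTrivCof_le_trivCof

lemma quasiIso_of_transfiniteCompositionOfShape {J : Type w} [LinearOrder J] [OrderBot J]
    [SuccOrder J] [WellFoundedLT J] {X Y : CochainComplex A ℤ} {f : X ⟶ Y}
    (hf : (genTrivCof 𝔾 κ).pushouts.TransfiniteCompositionOfShape J f) : trivCof f := by
  rw [← trivCof_rlp_llp]
  have h1 := transfiniteCompositionsOfShape_le_llp_rlp (genTrivCof 𝔾 κ).pushouts J _ hf.mem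
  refine antitone_llp (antitone_rlp ?_) _ h1
  exact pushouts_genTrivCof_le

lemma isomorphisms_le_pushouts_genTrivCof :
    MorphismProperty.isomorphisms (CochainComplex A ℤ) ≤ (genTrivCof 𝔾 κ).pushouts := by
  refine MorphismProperty.isomorphisms_le_pushouts _ (fun X => ?_)
  let idx : GenIdx 𝔾 κ := ⟨⊤, ⊤⟩
  haveI : IsIso (genMap idx) := by
    dsimp [genMap, idx]
    infer_instance
  exact ⟨_, _, genMap idx, MorphismProperty.ofHoms.mk
    (⟨idx, inferInstance⟩ : {i : GenIdx 𝔾 κ // QuasiIso (genMap i)}), 0, inferInstance⟩

namespace TC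

variable (h : KappaOK U 𝔾 κ) {B : CochainComplex A ℤ}

include h

lemma exists_larger_subobject (S : Subobject B) (hS : QuasiIso S.arrow) (hS' : S ≠ ⊤) :
    ∃ (S' : Subobject B) (hlt : S < S'),
      (genTrivCof 𝔾 κ).pushouts (Subobject.ofLE S S' hlt.le) := by
  induction S using Subobject.ind with | _ f
  have hf : QuasiIso f := by
    rw [← Subobject.underlyingIso_arrow f]
    infer_instance
  obtain ⟨X', i, p', hi, hi', hp', _, fac⟩ := exists_fill_in h f hf
    (by simpa only [Subobject.isIso_iff_mk_eq_top] using hS')
  refine ⟨Subobject.mk p', Subobject.mk_lt_mk_of_comm i fac hi',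
    (MorphismProperty.arrow_mk_iso_iff _ ?_).2 hi⟩
  refine Arrow.isoMk (Subobject.underlyingIso f) (Subobject.underlyingIso p') ?_
  dsimp
  simp only [← cancel_mono p', assoc, fac,
    Subobject.underlyingIso_hom_comp_eq_mk, Subobject.ofLE_arrow]

open scoped Classical in
/-- a larger subobject, obtained by the fill-in lemma. -/
noncomputable def largerSubobject (S : Subobject B) : Subobject B :=
  if hS : QuasiIso S.arrow ∧ S ≠ ⊤ then (exists_larger_subobject h S hS.1 hS.2).choose else ⊤

lemma largerSubobject_top : largerSubobject h (⊤ : Subobject B) = ⊤ :=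
  dif_neg (fun hS => hS.2 rfl)

lemma lt_largerSubobject (S : Subobject B) (hS : S ≠ ⊤) : S < largerSubobject h S := by
  dsimp only [largerSubobject]
  split_ifs with hS'
  · exact (exists_larger_subobject h S hS'.1 hS'.2).choose_spec.choose
  · exact lt_top_iff_ne_top.2 hS

lemma le_largerSubobject (S : Subobject B) : S ≤ largerSubobject h S := by
  by_cases hS : S = ⊤
  · subst hS
    rw [largerSubobject_top]
  · exact (lt_largerSubobject h S hS).le

set_option backward.defeqAttrib.useBackward true in
set_option backward.isDefEq.respectTransparency false in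
lemma pushouts_ofLE_le_largerSubobject (S : Subobject B) (hS : QuasiIso S.arrow) :
    (genTrivCof 𝔾 κ).pushouts (Subobject.ofLE _ _ (le_largerSubobject h S)) := by
  by_cases hS' : S = ⊤
  · subst hS'
    have := (Subobject.isIso_arrow_iff_eq_top (largerSubobject h (⊤ : Subobject B))).2
      (largerSubobject_top h)
    exact (MorphismProperty.arrow_mk_iso_iff _
      (Arrow.isoMk (asIso (Subobject.arrow _)) (asIso (Subobject.arrow _)) (by simp))).2
        (isomorphisms_le_pushouts_genTrivCof (𝟙 B)
          (MorphismProperty.isomorphisms.infer_property _))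
  · refine (MorphismProperty.arrow_mk_iso_iff _ ?_).1
      (exists_larger_subobject h S hS hS').choose_spec.choose_spec
    exact Arrow.isoMk (Iso.refl _)
      (Subobject.isoOfEq _ _ ((by simp [largerSubobject, dif_pos (And.intro hS hS')])))

section

variable (A₀ : Subobject B) (J : Type w) [LinearOrder J] [OrderBot J] [SuccOrder J]
  [WellFoundedLT J]

/-- the functor `J ⥤ MonoOver B` given by the transfinite iteration of `largerSubobject`. -/
@[simps]
noncomputable def functorToMonoOver : J ⥤ MonoOver B where
  obj j := MonoOver.mk (transfiniteIterate (largerSubobject h) j A₀).arrow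
  map {j j'} f := MonoOver.homMk (Subobject.ofLE _ _
      (monotone_transfiniteIterate _ _ (le_largerSubobject h) (leOfHom f)))

/-- the underlying functor to complexes. -/
noncomputable abbrev functor : J ⥤ CochainComplex A ℤ :=
  functorToMonoOver h A₀ J ⋙ MonoOver.forget _ ⋙ Over.forget _

set_option backward.defeqAttrib.useBackward true in
instance : (functor h A₀ J).IsWellOrderContinuous where
  nonempty_isColimit m hm := ⟨by
    have := hm.nonempty_Iio.to_subtype
    let c := (Set.principalSegIio m).cocone (functorToMonoOver h A₀ J ⋙ MonoOver.forget _)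
    have : Mono c.pt.hom := by dsimp [c]; infer_instance
    apply IsGrothendieckAbelian.isColimitMapCoconeOfSubobjectMkEqISup
      ((Set.principalSegIio m).monotone.functor ⋙ functorToMonoOver h A₀ J) c
    dsimp [c]
    simp only [Subobject.mk_arrow]
    exact transfiniteIterate_limit (largerSubobject h) A₀ m hm⟩

set_option backward.isDefEq.respectTransparency.types false in
set_option backward.defeqAttrib.useBackward true in
variable {J} in
/-- the map from the bottom stage to the `j`-th stage is a transfinite composition. -/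
noncomputable def transfiniteCompositionOfShapeMapFromBot (j : J)
    (hj : ∀ k < j, QuasiIso (transfiniteIterate (largerSubobject h) k A₀).arrow) :
    (genTrivCof 𝔾 κ).pushouts.TransfiniteCompositionOfShape (Set.Iic j)
    ((functor h A₀ J).map (homOfLE bot_le : ⊥ ⟶ j)) where
  F := (Set.initialSegIic j).monotone.functor ⋙ functor h A₀ J
  isoBot := Iso.refl _
  incl :=
    { app k := (functor h A₀ J).map (homOfLE k.2)
      naturality k k' h := by simp [MonoOver.forget] }
  isColimit := colimitOfDiagramTerminal isTerminalTop _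
  map_mem k hk := by
    dsimp [MonoOver.forget]
    have hk' : k.1 < j := lt_of_le_of_ne k.2 (fun hkj => hk (by
      rintro ⟨l, hl⟩ _
      exact (hl.trans_eq hkj.symm : l ≤ k.1)))
    convert!
      pushouts_ofLE_le_largerSubobject h (transfiniteIterate (largerSubobject h) k.1 A₀)
        (hj k.1 hk') using 2
    all_goals
      rw [Set.Iic.succ_eq_of_not_isMax hk,
        transfiniteIterate_succ _ _ _ (Set.not_isMax_coe _ hk)]

lemma quasiIso_transfiniteIterate (hA₀ : QuasiIso A₀.arrow) {J : Type w} [LinearOrder J]
    [OrderBot J] [SuccOrder J] [WellFoundedLT J] (j : J) :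
    QuasiIso (transfiniteIterate (largerSubobject h) j A₀).arrow := by
  induction j using WellFoundedLT.induction with | _ j ih
  have h1 := quasiIso_of_transfiniteCompositionOfShape
    (transfiniteCompositionOfShapeMapFromBot h A₀ j ih)
  haveI := h1.2
  have h2 : (functor h A₀ J).map (homOfLE bot_le : ⊥ ⟶ j) ≫
      (transfiniteIterate (largerSubobject h) j A₀).arrow =
      (transfiniteIterate (largerSubobject h) (⊥ : J) A₀).arrow := by
    dsimp [MonoOver.forget]
    exact Subobject.ofLE_arrow _
  haveI : QuasiIso ((functor h A₀ J).map (homOfLE bot_le : ⊥ ⟶ j) ≫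
      (transfiniteIterate (largerSubobject h) j A₀).arrow) := by
    rw [h2]
    have : ∀ (S S' : Subobject B), S = S' → QuasiIso S.arrow → QuasiIso S'.arrow := by
      rintro S _ rfl hS
      exact hS
    exact this _ _ (transfiniteIterate_bot _ _).symm hA₀
  exact quasiIso_of_comp_left ((functor h A₀ J).map (homOfLE bot_le : ⊥ ⟶ j)) _

end

lemma top_mem_range (A₀ : Subobject B) {J : Type w} [LinearOrder J] [OrderBot J] [SuccOrder J]
    [WellFoundedLT J] (hJ : HasCardinalLT (Subobject B) (Cardinal.mk J)) :
    ∃ (j : J), transfiniteIterate (largerSubobject h) j A₀ = ⊤ :=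
  top_mem_range_transfiniteIterate (largerSubobject h) A₀ (lt_largerSubobject h)
    (largerSubobject_top h)
    (fun h' ↦ by simpa [hasCardinalLT_iff_cardinal_mk_lt] using hJ.of_injective _ h')

lemma exists_ordinal (A₀ : Subobject B) :
    ∃ (o : Ordinal.{w}) (j : o.ToType), transfiniteIterate (largerSubobject h) j A₀ = ⊤ := by
  let κ' := Order.succ (Cardinal.mk (Shrink.{w} (Subobject B)))
  have : Nonempty κ'.ord.ToType := by simp [κ']
  have := WellFoundedLT.toOrderBot κ'.ord.ToType
  exact ⟨κ'.ord, top_mem_range h A₀ (lt_of_lt_of_le (Order.lt_succ _) (by simp [κ']))⟩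

variable {X : CochainComplex A ℤ} {f : X ⟶ B} [Mono f]

set_option backward.defeqAttrib.useBackward true in
set_option backward.isDefEq.respectTransparency false in
/-- a trivial cofibration is a transfinite composition of pushouts of generating ones. -/
noncomputable def transfiniteCompositionOfShapeOfEqTop (hf : QuasiIso f)
    {J : Type w} [LinearOrder J] [OrderBot J] [SuccOrder J] [WellFoundedLT J] {j : J}
    (hj : transfiniteIterate (largerSubobject h) j (Subobject.mk f) = ⊤) :
    (genTrivCof 𝔾 κ).pushouts.TransfiniteCompositionOfShape (Set.Iic j) f := by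
  let t := transfiniteIterate (largerSubobject h) j (Subobject.mk f)
  have := (Subobject.isIso_arrow_iff_eq_top t).2 hj
  have hA₀ : QuasiIso (Subobject.mk f).arrow := by
    rw [← Subobject.underlyingIso_hom_comp_eq_mk f]
    infer_instance
  apply (transfiniteCompositionOfShapeMapFromBot h (Subobject.mk f) j
    (fun k _ => quasiIso_transfiniteIterate h _ hA₀ k)).ofArrowIso
  refine Arrow.isoMk ((Subobject.isoOfEq _ _ (transfiniteIterate_bot _ _) ≪≫
    Subobject.underlyingIso f)) (asIso t.arrow) ?_
  dsimp [MonoOver.forget]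
  rw [assoc, Subobject.underlyingIso_hom_comp_eq_mk, Subobject.ofLE_arrow,
    Subobject.ofLE_arrow]

variable (f) in
lemma exists_transfiniteCompositionOfShape (hf : QuasiIso f) :
    ∃ (J : Type w) (_ : LinearOrder J) (_ : OrderBot J) (_ : SuccOrder J)
        (_ : WellFoundedLT J),
    Nonempty ((genTrivCof 𝔾 κ).pushouts.TransfiniteCompositionOfShape J f) := by
  obtain ⟨o, j, hj⟩ := exists_ordinal h (Subobject.mk f)
  have : Nonempty o.ToType := ⟨j⟩
  have : OrderBot o.ToType := WellFoundedLT.toOrderBot _
  exact ⟨_, _, _, _, _, ⟨transfiniteCompositionOfShapeOfEqTop h hf hj⟩⟩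

end TC

theorem genTrivCof_rlp (h : KappaOK U 𝔾 κ) :
    (genTrivCof 𝔾 κ).rlp = (trivCof (A := A)).rlp := by
  apply le_antisymm
  · intro X Y p hp M N i hi
    haveI := hi.1
    obtain ⟨J, _, _, _, _, ⟨t⟩⟩ := TC.exists_transfiniteCompositionOfShape h i hi.2
    exact transfiniteCompositionsOfShape_le_llp_rlp _ _ _ t.mem _ (by simpa)
  · exact antitone_rlp genTrivCof_le_trivCof

end Groth.Agent.Lib.Helper17.KInj
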