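import Groth.Agent.Lib.Helper17KInj10

/-!
# Existence of a suitable cardinal (helper17)
-/

set_option autoImplicit false

universe w v u

open CategoryTheory CategoryTheory.Limits HomologicalComplex Cardinal

namespace Groth.Agent.Lib.Helper17.KInj

/-- the cardinal of a small type. -/
noncomputable def smallCard (X : Type*) [Small.{w} X] : Cardinal.{w} :=
  Cardinal.mk (Shrink.{w} X)

lemma hasCardinalLT_succ_of_smallCard_le (X : Type*) [Small.{w} X] {κ : Cardinal.{w}}
    (h : smallCard.{w} X ≤ κ) : HasCardinalLT X (Order.succ κ) := by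
  rw [hasCardinalLT_iff_of_equiv (equivShrink.{w} X), hasCardinalLT_iff_cardinal_mk_lt,
    Order.lt_succ_iff]
  exact h

section

variable {C : Type u} [Category.{v} C] [Preadditive C] [LocallySmall.{w} C]

lemma isGen_of_smallCard_le {G : C} (hG : IsSeparator G) (V : C) {κ : Cardinal.{w}}
    (h : smallCard.{w} (G ⟶ V) ≤ κ) : IsGen G κ V := by
  refine ⟨Shrink.{w} (G ⟶ V), (equivShrink.{w} (G ⟶ V)).symm, h, ?_⟩
  intro Z k hk
  refine jointlyEpi_of_isSeparator hG V k (fun g => ?_)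
  simpa using hk (equivShrink.{w} (G ⟶ V) g)

end

section

variable {C : Type u} [Category.{v} C] [Abelian C] [IsGrothendieckAbelian.{w} C]

lemma hasCardinalLT_subobject_sigma_of_finite (G : C) {κ : Cardinal.{w}}
    (h : ∀ n : ℕ, smallCard.{w} (Subobject (∐ fun (_ : ULift.{w} (Fin n)) => G)) ≤ κ)
    (α : Type w) [Finite α] :
    HasCardinalLT (Subobject (∐ fun (_ : α) => G)) (Order.succ κ) := by
  obtain ⟨n, ⟨e⟩⟩ := Finite.exists_equiv_fin α
  have e' : α ≃ ULift.{w} (Fin n) := e.trans Equiv.ulift.symm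
  have h1 := hasCardinalLT_succ_of_smallCard_le _ (h n)
  exact Subobject.hasCardinalLT_of_mono h1
    (Sigma.whiskerEquiv (f := fun (_ : α) => G) (g := fun (_ : ULift.{w} (Fin n)) => G) e'
      (fun _ => Iso.refl _)).hom

end

section

variable (A : Type u) [Category.{v} A] [Abelian A] [IsGrothendieckAbelian.{w} A]

theorem exists_kappaOK :
    ∃ κ : Cardinal.{w}, KappaOK (separator A) (separator (CochainComplex A ℤ)) κ := by
  let U := separator A
  let 𝔾 := separator (CochainComplex A ℤ)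
  let c₁ : Cardinal.{w} := smallCard.{w} (Subobject U)
  let c₂ : Cardinal.{w} := smallCard.{w} (Subobject 𝔾)
  let c₃ : ℕ → Cardinal.{w} :=
    fun n => smallCard.{w} (Subobject (∐ fun (_ : ULift.{w} (Fin n)) => U))
  let c₄ : ℕ → Cardinal.{w} :=
    fun n => smallCard.{w} (Subobject (∐ fun (_ : ULift.{w} (Fin n)) => 𝔾))
  let c₅ : ℤ → Cardinal.{w} := fun n => smallCard.{w} (U ⟶ 𝔾.X n)
  let c₆ : ℤ → Cardinal.{w} := fun n => smallCard.{w} (𝔾 ⟶ disk U n (n + 1) rfl)
  let κ : Cardinal.{w} := ℵ₀ + c₁ + c₂ + Cardinal.sum c₃ + Cardinal.sum c₄ + Cardinal.sum c₅ +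
    Cardinal.sum c₆
  have h0 : ℵ₀ ≤ κ := by
    dsimp only [κ]
    simp only [add_assoc]
    exact self_le_add_right _ _
  have h1 : c₁ ≤ κ := by
    dsimp only [κ]
    rw [add_comm ℵ₀ c₁]
    simp only [add_assoc]
    exact self_le_add_right _ _
  have h2 : c₂ ≤ κ := by
    dsimp only [κ]
    rw [add_comm (ℵ₀ + c₁) c₂]
    simp only [add_assoc]
    exact self_le_add_right _ _
  have h3 : ∀ n, c₃ n ≤ κ := fun n => by
    refine (Cardinal.le_sum c₃ n).trans ?_
    dsimp only [κ]
    rw [add_comm (ℵ₀ + c₁ + c₂) (Cardinal.sum c₃)]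
    simp only [add_assoc]
    exact self_le_add_right _ _
  have h4 : ∀ n, c₄ n ≤ κ := fun n => by
    refine (Cardinal.le_sum c₄ n).trans ?_
    dsimp only [κ]
    rw [add_comm (ℵ₀ + c₁ + c₂ + Cardinal.sum c₃) (Cardinal.sum c₄)]
    simp only [add_assoc]
    exact self_le_add_right _ _
  have h5 : ∀ n, c₅ n ≤ κ := fun n => by
    refine (Cardinal.le_sum c₅ n).trans ?_
    dsimp only [κ]
    rw [add_comm (ℵ₀ + c₁ + c₂ + Cardinal.sum c₃ + Cardinal.sum c₄) (Cardinal.sum c₅)]
    simp only [add_assoc]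
    exact self_le_add_right _ _
  have h6 : ∀ n, c₆ n ≤ κ := fun n => by
    refine (Cardinal.le_sum c₆ n).trans ?_
    dsimp only [κ]
    exact self_le_add_left _ _
  have hU : IsSeparator U := isSeparator_separator A
  have h𝔾 : IsSeparator 𝔾 := isSeparator_separator (CochainComplex A ℤ)
  refine ⟨κ, ⟨h0, hU, h𝔾, ?_, ?_, ?_, ?_, ?_, ?_⟩⟩
  · exact hasCardinalLT_succ_of_smallCard_le _ h1
  · exact hasCardinalLT_succ_of_smallCard_le _ h2
  · intro α _
    exact hasCardinalLT_subobject_sigma_of_finite U h3 α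
  · intro α _
    exact hasCardinalLT_subobject_sigma_of_finite 𝔾 h4 α
  · intro n
    exact isGen_of_smallCard_le hU _ (h5 n)
  · rintro n₀ _ rfl
    exact isGen_of_smallCard_le h𝔾 _ (h6 n₀)

end

end Groth.Agent.Lib.Helper17.KInj
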