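import Groth.Agent.Lib.Helper17KInj1

/-!
# `κ`-generated objects: lifting along epimorphisms, subobjects (helper17)
-/

set_option autoImplicit false

universe w v u

open CategoryTheory CategoryTheory.Limits Cardinal

namespace Groth.Agent.Lib.Helper17.KInj

variable {C : Type u} [Category.{v} C] [Abelian C] [IsGrothendieckAbelian.{w} C]
  {G : C} {κ : Cardinal.{w}}

/-- the key selection lemma: the images in `Q` of the morphisms `G ⟶ V ⟶ Q` are realized
by a small family of morphisms `G ⟶ V`. -/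
lemma exists_family_of_hasCardinalLT (hG : IsSeparator G) {V Q : C} (q : V ⟶ Q)
    (hQ : HasCardinalLT (Subobject Q) (Order.succ κ)) :
    ∃ (T : Type w) (σ : T → (G ⟶ V)), Cardinal.mk T ≤ κ ∧
      ∀ ⦃Z : C⦄ (k : Q ⟶ Z), (∀ t, σ t ≫ q ≫ k = 0) → q ≫ k = 0 := by
  let im : (G ⟶ V) → Subobject Q := fun g => imageSubobject (g ≫ q)
  let R : Set (Subobject Q) := Set.range im
  let T : Type w := Shrink.{w} R
  have hsec : ∀ t : T, ∃ g : G ⟶ V, im g = ((equivShrink R).symm t).1 := fun t =>
    ((equivShrink R).symm t).2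
  choose σ hσ using hsec
  refine ⟨T, σ, ?_, ?_⟩
  · have h1 : HasCardinalLT R (Order.succ κ) :=
      hQ.of_injective (f := Subtype.val) Subtype.val_injective
    have h2 : HasCardinalLT T (Order.succ κ) :=
      (hasCardinalLT_iff_of_equiv (equivShrink R) _).1 h1
    rw [hasCardinalLT_iff_cardinal_mk_lt] at h2
    exact Order.lt_succ_iff.1 h2
  · intro Z k hk
    refine jointlyEpi_of_isSeparator hG V (q ≫ k) (fun g => ?_)
    let t : T := equivShrink R ⟨im g, g, rfl⟩
    have ht : im (σ t) = im g := by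
      rw [hσ t]
      simp [t]
    have h0 : (imageSubobject (σ t ≫ q)).arrow ≫ k = 0 := by
      rw [← cancel_epi (factorThruImageSubobject (σ t ≫ q)), imageSubobject_arrow_comp_assoc,
        comp_zero, Category.assoc]
      exact hk t
    have h1 : (imageSubobject (g ≫ q)).arrow ≫ k = 0 := by
      have e : imageSubobject (g ≫ q) = imageSubobject (σ t ≫ q) := ht.symm
      rw [← Subobject.ofLE_arrow (le_of_eq e), Category.assoc, h0, comp_zero]
    rw [← Category.assoc, ← imageSubobject_arrow_comp (g ≫ q), Category.assoc, h1, comp_zero]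

/-- objects with few subobjects are `κ`-generated. -/
lemma IsGen.of_hasCardinalLT (hG : IsSeparator G) {V : C}
    (hV : HasCardinalLT (Subobject V) (Order.succ κ)) : IsGen G κ V := by
  obtain ⟨T, σ, hT, hσ⟩ := exists_family_of_hasCardinalLT hG (𝟙 V) hV
  refine ⟨T, σ, hT, fun Z k hk => ?_⟩
  simpa using hσ k (fun t => by simpa using hk t)

/-- lifting generators along an epimorphism. -/
lemma exists_family_lift (hG : IsSeparator G) (hκ : ℵ₀ ≤ κ)
    (hGκ : HasCardinalLT (Subobject G) (Order.succ κ)) {X Y : C} (p : X ⟶ Y) [Epi p]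
    (hY : IsGen G κ Y) :
    ∃ (T : Type w) (b : T → (G ⟶ X)), Cardinal.mk T ≤ κ ∧ JointlyEpi (fun t => b t ≫ p) := by
  obtain ⟨T₀, u, hT₀, hu⟩ := hY
  have key : ∀ t : T₀, ∃ (T : Type w) (σ : T → (G ⟶ pullback p (u t))), Cardinal.mk T ≤ κ ∧
      ∀ ⦃Z : C⦄ (k : G ⟶ Z), (∀ s, σ s ≫ pullback.snd p (u t) ≫ k = 0) →
        pullback.snd p (u t) ≫ k = 0 := fun t =>
    exists_family_of_hasCardinalLT hG (pullback.snd p (u t)) hGκ
  choose T σ hT hσ using key
  refine ⟨Σ t, T t, fun x => σ x.1 x.2 ≫ pullback.fst p (u x.1), ?_, ?_⟩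
  · rw [Cardinal.mk_sigma]
    calc Cardinal.sum (fun i => Cardinal.mk (T i)) ≤ Cardinal.sum (fun (_ : T₀) => κ) :=
          Cardinal.sum_le_sum _ _ hT
      _ = Cardinal.mk T₀ * κ := by simp
      _ ≤ κ * κ := mul_le_mul_left hT₀ _
      _ = κ := Cardinal.mul_eq_self hκ
  · intro Z k hk
    refine hu k (fun t => ?_)
    haveI : Epi (pullback.snd p (u t)) := Abelian.epi_pullback_of_epi_f p (u t)
    rw [← cancel_epi (pullback.snd p (u t)), comp_zero]
    refine hσ t (u t ≫ k) (fun s => ?_)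
    have := hk ⟨t, s⟩
    simp only [Category.assoc] at this
    rw [← pullback.condition_assoc]
    exact this

/-- the subobject generated by a small family of morphisms from `G`. -/
lemma exists_mono_of_family (hκ : ℵ₀ ≤ κ) {X : C} {T : Type w} (b : T → (G ⟶ X))
    (hT : Cardinal.mk T ≤ κ) :
    ∃ (X' : C) (m : X' ⟶ X) (_ : Mono m) (b' : T → (G ⟶ X')), IsGen G κ X' ∧
      JointlyEpi b' ∧ ∀ t, b' t ≫ m = b t := by
  refine ⟨image (Sigma.desc b), image.ι _, inferInstance,
    fun t => Sigma.ι (fun _ : T => G) t ≫ factorThruImage (Sigma.desc b), ?_, ?_,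
    fun t => by simp⟩
  · refine ⟨T, fun t => Sigma.ι (fun _ : T => G) t ≫ factorThruImage (Sigma.desc b), hT, ?_⟩
    intro Z k hk
    rw [← cancel_epi (factorThruImage (Sigma.desc b)), comp_zero]
    exact Sigma.hom_ext _ _ (fun t => by simpa using hk t)
  · intro Z k hk
    rw [← cancel_epi (factorThruImage (Sigma.desc b)), comp_zero]
    exact Sigma.hom_ext _ _ (fun t => by simpa using hk t)

/-- `κ`-generated subobject surjecting onto a `κ`-generated quotient. -/
lemma exists_mono_lift (hG : IsSeparator G) (hκ : ℵ₀ ≤ κ)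
    (hGκ : HasCardinalLT (Subobject G) (Order.succ κ)) {X Y : C} (p : X ⟶ Y) [Epi p]
    (hY : IsGen G κ Y) :
    ∃ (X' : C) (m : X' ⟶ X) (_ : Mono m), IsGen G κ X' ∧ Epi (m ≫ p) := by
  obtain ⟨T, b, hT, hb⟩ := exists_family_lift hG hκ hGκ p hY
  obtain ⟨X', m, hm, b', hX', hb', hbm⟩ := exists_mono_of_family hκ b hT
  refine ⟨X', m, hm, hX', ?_⟩
  rw [Preadditive.epi_iff_cancel_zero]
  intro Z k hk
  refine hb k (fun t => ?_)
  change (b t ≫ p) ≫ k = 0
  rw [← hbm t, Category.assoc, Category.assoc, ← Category.assoc m, hk, comp_zero]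

end Groth.Agent.Lib.Helper17.KInj
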