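import Groth.Agent.Lib.Helper17KInj2
import Mathlib.CategoryTheory.Limits.FunctorCategory.EpiMono

/-!
# Subobjects of `κ`-generated objects are `κ`-generated (helper17)
-/

set_option autoImplicit false

universe w v u

open CategoryTheory CategoryTheory.Limits Cardinal

namespace Groth.Agent.Lib.Helper17.KInj

lemma mk_finset_le {α : Type w} {κ : Cardinal.{w}} (hκ : ℵ₀ ≤ κ) (hα : Cardinal.mk α ≤ κ) :
    Cardinal.mk (Finset α) ≤ κ := by
  rcases finite_or_infinite α with h | h
  · haveI : Finite (Finset α) := by
      classical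
      haveI := Fintype.ofFinite α
      exact Finite.of_fintype (Finset α)
    exact (Cardinal.lt_aleph0_of_finite _).le.trans hκ
  · rw [Cardinal.mk_finset_of_infinite]
    exact hα

variable {C : Type u} [Category.{v} C] [Abelian C] [IsGrothendieckAbelian.{w} C]
  {G : C} {κ : Cardinal.{w}}

open IsGrothendieckAbelian.IsPresentable in
lemma isGen_of_filtered_colimit_mono (hG : IsSeparator G) (hκ : ℵ₀ ≤ κ)
    {J : Type w} [SmallCategory J] [IsFiltered J] {Y : J ⥤ C} {c : Cocone Y} (hc : IsColimit c)
    {N : C} (z : N ⟶ c.pt) [Mono z] (hJ : Cardinal.mk J ≤ κ)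
    (hY : ∀ j, HasCardinalLT (Subobject (Y.obj j)) (Order.succ κ)) : IsGen G κ N := by
  haveI := surjectivity.epi_f hc z
  refine IsGen.of_jointlyEpi hκ (T₀ := J)
    (fun j => (pullback.snd c.ι ((Functor.const J).map z)).app j) ?_ hJ ?_
  · intro Z k hk
    rw [← cancel_epi (surjectivity.f (c := c) z), comp_zero]
    refine colimit.hom_ext (fun j => ?_)
    rw [← Category.assoc, surjectivity.hf, hk j, comp_zero]
  · intro j
    apply IsGen.of_hasCardinalLT hG
    haveI : Mono ((Functor.const J).map z) := by
      haveI : ∀ j, Mono (((Functor.const J).map z).app j) := fun j => by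
        dsimp
        infer_instance
      exact NatTrans.mono_of_mono_app _
    haveI h1 : Mono (pullback.fst c.ι ((Functor.const J).map z)) := pullback.fst_of_mono
    haveI h2 : Mono ((pullback.fst c.ι ((Functor.const J).map z)).app j) :=
      (NatTrans.mono_iff_mono_app _).1 h1 j
    exact Subobject.hasCardinalLT_of_mono (hY j)
      ((pullback.fst c.ι ((Functor.const J).map z)).app j)

/-- subobjects of `κ`-generated objects are `κ`-generated. -/
lemma IsGen.of_mono (hG : IsSeparator G) (hκ : ℵ₀ ≤ κ)
    (hfin : ∀ (α : Type w) [Finite α],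
      HasCardinalLT (Subobject (∐ fun (_ : α) => G)) (Order.succ κ))
    {N X : C} (m : N ⟶ X) [Mono m] (hX : IsGen G κ X) : IsGen G κ N := by
  obtain ⟨T, a, hT, ha⟩ := hX
  haveI : Epi (Sigma.desc a) := ha.epi_desc
  haveI : Epi (pullback.fst m (Sigma.desc a)) := Abelian.epi_pullback_of_epi_g m (Sigma.desc a)
  suffices IsGen G κ (pullback m (Sigma.desc a)) from this.of_epi (pullback.fst m (Sigma.desc a))
  have hz : Mono (pullback.snd m (Sigma.desc a)) := pullback.snd_of_mono
  refine @isGen_of_filtered_colimit_mono C _ _ _ G κ hG hκ _ _ _ _ _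
    (CoproductsFromFiniteFiltered.isColimitFiniteSubproductsCocone (fun (_ : T) => G)) _
    (pullback.snd m (Sigma.desc a)) hz ?_ (fun j => hfin (↥j))
  refine mk_finset_le hκ ?_
  rw [Cardinal.mk_congr (discreteEquiv (α := T))]
  exact hT

end Groth.Agent.Lib.Helper17.KInj
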