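import Mathlib.Algebra.Homology.Double
import Mathlib.Algebra.Homology.Single
import Mathlib.Algebra.Homology.ShortComplex.Exact
import Mathlib.Algebra.Homology.HomologicalComplexAbelian
import Mathlib.Algebra.Homology.QuasiIso

/-!
# Disk complexes (helper17)

`disk E n₀ n₁` is the cochain complex with `E` in degrees `n₀` and `n₁ = n₀ + 1` and
the identity as differential.
-/

set_option autoImplicit false

universe v u

open CategoryTheory CategoryTheory.Limits HomologicalComplex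

namespace Groth.Agent.Lib.Helper17.KInj

variable {A : Type u} [Category.{v} A] [Abelian A]

/-- the disk complex. -/
noncomputable def disk (E : A) (n₀ n₁ : ℤ) (h : n₀ + 1 = n₁) : CochainComplex A ℤ :=
  double (𝟙 E) (show (ComplexShape.up ℤ).Rel n₀ n₁ from h)

lemma ne_of_succ (n₀ n₁ : ℤ) (h : n₀ + 1 = n₁) : n₀ ≠ n₁ := by omega

section

variable (E : A) (n₀ n₁ : ℤ) (h : n₀ + 1 = n₁)

/-- the degree `n₀` term. -/
noncomputable def diskIso₀ : (disk E n₀ n₁ h).X n₀ ≅ E :=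
  doubleXIso₀ (𝟙 E) (show (ComplexShape.up ℤ).Rel n₀ n₁ from h)

/-- the degree `n₁` term. -/
noncomputable def diskIso₁ : (disk E n₀ n₁ h).X n₁ ≅ E :=
  doubleXIso₁ (𝟙 E) (show (ComplexShape.up ℤ).Rel n₀ n₁ from h) (ne_of_succ n₀ n₁ h)

lemma disk_d : (disk E n₀ n₁ h).d n₀ n₁ = (diskIso₀ E n₀ n₁ h).hom ≫ (diskIso₁ E n₀ n₁ h).inv := by
  have := double_d (𝟙 E) (show (ComplexShape.up ℤ).Rel n₀ n₁ from h) (ne_of_succ n₀ n₁ h)
  rw [Category.id_comp] at this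
  exact this

lemma isZero_disk_X (k : ℤ) (h₀ : k ≠ n₀) (h₁ : k ≠ n₁) : IsZero ((disk E n₀ n₁ h).X k) :=
  isZero_double_X _ _ k h₀ h₁

end

section

variable {E : A} {n₀ n₁ : ℤ} {h : n₀ + 1 = n₁} {K : CochainComplex A ℤ}

lemma from_disk_hom_ext {φ φ' : disk E n₀ n₁ h ⟶ K} (h₀ : φ.f n₀ = φ'.f n₀)
    (h₁ : φ.f n₁ = φ'.f n₁) : φ = φ' :=
  from_double_hom_ext h₀ h₁

lemma to_disk_hom_ext {φ φ' : K ⟶ disk E n₀ n₁ h} (h₀ : φ.f n₀ = φ'.f n₀)
    (h₁ : φ.f n₁ = φ'.f n₁) : φ = φ' :=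
  to_double_hom_ext h₀ h₁

variable (h) in
/-- morphisms from a disk. -/
noncomputable def fromDisk (φ : E ⟶ K.X n₀) : disk E n₀ n₁ h ⟶ K :=
  mkHomFromDouble _ (ne_of_succ n₀ n₁ h) φ (φ ≫ K.d n₀ n₁) (by simp) (by simp)

@[simp]
lemma fromDisk_f₀ (φ : E ⟶ K.X n₀) :
    (fromDisk h φ).f n₀ = (diskIso₀ E n₀ n₁ h).hom ≫ φ := by
  simp [fromDisk, diskIso₀]
  rfl

@[simp]
lemma fromDisk_f₁ (φ : E ⟶ K.X n₀) :
    (fromDisk h φ).f n₁ = (diskIso₁ E n₀ n₁ h).hom ≫ φ ≫ K.d n₀ n₁ := by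
  simp [fromDisk, diskIso₁]
  rfl

open scoped Classical in
variable (h) in
/-- morphisms to a disk. -/
noncomputable def toDisk (k : K.X n₁ ⟶ E) : K ⟶ disk E n₀ n₁ h where
  f i :=
    if hi₀ : i = n₀ then
      eqToHom (by rw [hi₀]) ≫ K.d n₀ n₁ ≫ k ≫ (diskIso₀ E n₀ n₁ h).inv ≫ eqToHom (by rw [hi₀])
    else if hi₁ : i = n₁ then
      eqToHom (by rw [hi₁]) ≫ k ≫ (diskIso₁ E n₀ n₁ h).inv ≫ eqToHom (by rw [hi₁])
    else 0
  comm' i j hij := by
    have hij' : i + 1 = j := hij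
    by_cases hi₀ : i = n₀
    · subst hi₀
      obtain rfl : j = n₁ := by omega
      have hne : j ≠ i := by omega
      simp [dif_neg hne, disk_d]
    · by_cases hi₁ : i = n₁
      · subst hi₁
        apply (isZero_disk_X E n₀ i h j (by omega) (by omega)).eq_of_tgt
      · by_cases hj₀ : j = n₀
        · subst hj₀
          rw [dif_neg hi₀, dif_neg hi₁, dif_pos rfl, zero_comp]
          simp
        · have hj₁ : j ≠ n₁ := by omega
          apply (isZero_disk_X E n₀ n₁ h j hj₀ hj₁).eq_of_tgt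

@[simp]
lemma toDisk_f₀ (k : K.X n₁ ⟶ E) :
    (toDisk h k).f n₀ = K.d n₀ n₁ ≫ k ≫ (diskIso₀ E n₀ n₁ h).inv := by
  simp [toDisk]

@[simp]
lemma toDisk_f₁ (k : K.X n₁ ⟶ E) :
    (toDisk h k).f n₁ = k ≫ (diskIso₁ E n₀ n₁ h).inv := by
  have hne : n₁ ≠ n₀ := by omega
  simp [toDisk, dif_neg hne]

end

end Groth.Agent.Lib.Helper17.KInj
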