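import Groth.Agent.Lib.Helper17KInj1
import Groth.Agent.Lib.Helper17KInj5
import Mathlib.CategoryTheory.Abelian.GrothendieckAxioms.Colim
import Mathlib.Algebra.Homology.HomologicalComplexLimits
import Mathlib.Algebra.Homology.HomologicalComplexAbelian

/-!
# Filtered colimits of complexes and exactness (helper17)
-/

set_option autoImplicit false

universe v u

open CategoryTheory CategoryTheory.Limits HomologicalComplex

namespace Groth.Agent.Lib.Helper17.KInj

attribute [local instance] IsFiltered.isConnected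

section General

variable {C : Type u} [Category.{v} C] [Abelian C] {J : Type*} [Category J] [IsFiltered J]
  [HasColimitsOfShape J C] [HasExactColimitsOfShape J C]

/-- the canonical map from the colimit of the pullbacks. -/
noncomputable def pbColimMap {Y : J ⥤ C} (c : Cocone Y) {X : C} (z : X ⟶ c.pt) :
    colimit (pullback c.ι ((Functor.const J).map z)) ⟶ X :=
  colimit.desc _ (Cocone.mk X
    { app j := (pullback.snd c.ι ((Functor.const _).map z)).app j })

lemma ι_pbColimMap {Y : J ⥤ C} (c : Cocone Y) {X : C} (z : X ⟶ c.pt) (j : J) :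
    colimit.ι (pullback c.ι ((Functor.const J).map z)) j ≫ pbColimMap c z =
      (pullback.snd c.ι ((Functor.const J).map z)).app j :=
  colimit.ι_desc _ _

set_option backward.defeqAttrib.useBackward true in
set_option backward.isDefEq.respectTransparency false in
lemma isIso_pbColimMap {Y : J ⥤ C} {c : Cocone Y} (hc : IsColimit c) {X : C} (z : X ⟶ c.pt) :
    IsIso (pbColimMap c z) := by
  refine ((MorphismProperty.isomorphisms C).arrow_mk_iso_iff ?_).1
    (MorphismProperty.of_isPullback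
      ((IsPullback.of_hasPullback c.ι ((Functor.const _).map z)).map colim) ?_)
  · refine Arrow.isoMk (Iso.refl _)
      (IsColimit.coconePointUniqueUpToIso (colimit.isColimit _) (isColimitConstCocone J X)) ?_
    dsimp
    ext j
    rw [Category.id_comp, ι_colimMap_assoc, colimit.comp_coconePointUniqueUpToIso_hom,
      constCocone_ι, NatTrans.id_app, Category.comp_id]
    apply ι_pbColimMap
  · refine ((MorphismProperty.isomorphisms C).arrow_mk_iso_iff ?_).2
      ((inferInstance : IsIso (𝟙 c.pt)))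
    exact Arrow.isoMk (IsColimit.coconePointUniqueUpToIso (colimit.isColimit Y) hc)
      (IsColimit.coconePointUniqueUpToIso (colimit.isColimit _)
        (isColimitConstCocone J c.pt))

/-- pulling back a filtered colimit cocone along a morphism gives a jointly epimorphic family. -/
lemma exists_jointlyEpi_pullback {Y : J ⥤ C} {c : Cocone Y} (hc : IsColimit c) {X : C}
    (z : X ⟶ c.pt) :
    ∃ (T : J → C) (p : ∀ j, T j ⟶ Y.obj j) (q : ∀ j, T j ⟶ X),
      (∀ j, p j ≫ c.ι.app j = q j ≫ z) ∧ JointlyEpi q := by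
  refine ⟨fun j => (pullback c.ι ((Functor.const J).map z)).obj j,
    fun j => (pullback.fst c.ι ((Functor.const J).map z)).app j,
    fun j => (pullback.snd c.ι ((Functor.const J).map z)).app j, fun j => ?_, ?_⟩
  · have := NatTrans.congr_app (pullback.condition (f := c.ι) (g := (Functor.const J).map z)) j
    simpa using this
  · intro Z k hk
    haveI := isIso_pbColimMap hc z
    rw [← cancel_epi (pbColimMap c z), comp_zero]
    refine colimit.hom_ext (fun j => ?_)
    rw [← Category.assoc, ι_pbColimMap, hk j, comp_zero]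

end General

section Complexes

variable {A : Type u} [Category.{v} A] [Abelian A] {J : Type*} [Category J] [IsFiltered J]
  [HasColimitsOfShape J A] [HasExactColimitsOfShape J A]

/-- exactness of a filtered colimit of complexes (along degreewise monomorphisms) in which
cycles eventually become boundaries. -/
theorem exact_sc'_of_isColimit {Y : J ⥤ CochainComplex A ℤ} {c : Cocone Y} (hc : IsColimit c)
    (n₀ n₁ n₂ : ℤ) (hmono : ∀ j, Mono ((c.ι.app j).f n₂))
    (hb : ∀ (j : J) ⦃T : A⦄ (z : T ⟶ (Y.obj j).X n₁), z ≫ (Y.obj j).d n₁ n₂ = 0 →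
      ∃ (j' : J) (φ : j ⟶ j') (T' : A) (π : T' ⟶ T) (_ : Epi π) (y : T' ⟶ (Y.obj j').X n₀),
        π ≫ z ≫ (Y.map φ).f n₁ = y ≫ (Y.obj j').d n₀ n₁) :
    (c.pt.sc' n₀ n₁ n₂).Exact := by
  rw [ShortComplex.exact_iff_epi_kernel_lift]
  change Epi (kernel.lift (c.pt.d n₁ n₂) (c.pt.d n₀ n₁) (c.pt.d_comp_d n₀ n₁ n₂))
  apply Preadditive.epi_of_cancel_zero
  intro W k hk
  obtain ⟨T, p, q, hpq, hq⟩ : ∃ (T : J → A) (p : ∀ j, T j ⟶ (Y.obj j).X n₁)
      (q : ∀ j, T j ⟶ kernel (c.pt.d n₁ n₂)),
      (∀ j, p j ≫ (c.ι.app j).f n₁ = q j ≫ kernel.ι (c.pt.d n₁ n₂)) ∧ JointlyEpi q :=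
    exists_jointlyEpi_pullback
      (isColimitOfPreserves (HomologicalComplex.eval A (ComplexShape.up ℤ) n₁) hc)
      (kernel.ι (c.pt.d n₁ n₂))
  refine hq k (fun j => ?_)
  have hpq' : p j ≫ (c.ι.app j).f n₁ = q j ≫ kernel.ι (c.pt.d n₁ n₂) := hpq j
  have hz : p j ≫ (Y.obj j).d n₁ n₂ = 0 := by
    haveI := hmono j
    have comm : (c.ι.app j).f n₁ ≫ c.pt.d n₁ n₂ = (Y.obj j).d n₁ n₂ ≫ (c.ι.app j).f n₂ :=
      (c.ι.app j).comm n₁ n₂
    rw [← cancel_mono ((c.ι.app j).f n₂), zero_comp, Category.assoc, ← comm,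
      reassoc_of% hpq', kernel.condition, comp_zero]
  obtain ⟨j', φ, T', π, hπ, y, hy⟩ := hb j (p j) hz
  rw [← cancel_epi π, comp_zero]
  have hw : Y.map φ ≫ c.ι.app j' = c.ι.app j := c.w φ
  have hw' : (Y.map φ).f n₁ ≫ (c.ι.app j').f n₁ = (c.ι.app j).f n₁ := by
    rw [← HomologicalComplex.comp_f, hw]
  have comm' : (c.ι.app j').f n₀ ≫ c.pt.d n₀ n₁ = (Y.obj j').d n₀ n₁ ≫ (c.ι.app j').f n₁ :=
    (c.ι.app j').comm n₀ n₁
  have key : π ≫ q j = y ≫ (c.ι.app j').f n₀ ≫
      kernel.lift (c.pt.d n₁ n₂) (c.pt.d n₀ n₁) (c.pt.d_comp_d n₀ n₁ n₂) := by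
    rw [← cancel_mono (kernel.ι (c.pt.d n₁ n₂))]
    simp only [Category.assoc, kernel.lift_ι]
    rw [← hpq', ← hw', comm', ← reassoc_of% hy]
  rw [reassoc_of% key, hk, comp_zero, comp_zero]

end Complexes

end Groth.Agent.Lib.Helper17.KInj
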