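import Groth.Agent.Lib.Helper17KInj2
import Groth.Agent.Lib.Helper17KInj3
import Groth.Agent.Lib.Helper17KInj6
import Mathlib.Algebra.Homology.GrothendieckAbelian
import Mathlib.CategoryTheory.Functor.OfSequence

/-!
# Acyclic closure of a `κ`-generated subcomplex of an acyclic complex (helper17)
-/

set_option autoImplicit false

universe w v u

open CategoryTheory CategoryTheory.Limits HomologicalComplex Cardinal

namespace Groth.Agent.Lib.Helper17.KInj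

section Transfers

variable {A : Type u} [Category.{v} A] [Abelian A]

lemma jointlyEpi_f_of_jointlyEpi {T : Type*} {X : T → CochainComplex A ℤ}
    {K : CochainComplex A ℤ} (a : ∀ t, X t ⟶ K) (ha : JointlyEpi a) (n : ℤ) :
    JointlyEpi (fun t => (a t).f n) := by
  intro W k' hk'
  have h : (n - 1) + 1 = n := by omega
  have h0 : toDisk h k' = 0 := by
    refine ha _ (fun t => ?_)
    apply to_disk_hom_ext
    · have comm : (a t).f (n - 1) ≫ K.d (n - 1) n = (X t).d (n - 1) n ≫ (a t).f n :=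
        (a t).comm (n - 1) n
      rw [HomologicalComplex.comp_f, toDisk_f₀, reassoc_of% comm, reassoc_of% (hk' t),
        HomologicalComplex.zero_f, zero_comp, comp_zero]
    · rw [HomologicalComplex.comp_f, toDisk_f₁, reassoc_of% (hk' t), HomologicalComplex.zero_f,
        zero_comp]
  have h1 := HomologicalComplex.congr_hom h0 n
  rw [toDisk_f₁, HomologicalComplex.zero_f] at h1
  have h2 := h1 =≫ (diskIso₁ W (n - 1) n h).hom
  simpa using h2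

variable {U : A} {𝔾 : CochainComplex A ℤ} {κ : Cardinal.{w}}

lemma IsGen.X (hκ : ℵ₀ ≤ κ) (hX : ∀ n, IsGen U κ (𝔾.X n)) {K : CochainComplex A ℤ}
    (hK : IsGen 𝔾 κ K) (n : ℤ) : IsGen U κ (K.X n) := by
  obtain ⟨T, a, hT, ha⟩ := hK
  exact IsGen.of_jointlyEpi hκ (fun t => (a t).f n) (jointlyEpi_f_of_jointlyEpi a ha n) hT
    (fun _ => hX n)

/-- the map of disks induced by a morphism. -/
noncomputable def diskMap {E E' : A} (u : E ⟶ E') (n₀ n₁ : ℤ) (h : n₀ + 1 = n₁) :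
    disk E n₀ n₁ h ⟶ disk E' n₀ n₁ h :=
  fromDisk h (u ≫ (diskIso₀ E' n₀ n₁ h).inv)

lemma diskMap_f₀ {E E' : A} (u : E ⟶ E') (n₀ n₁ : ℤ) (h : n₀ + 1 = n₁) :
    (diskMap u n₀ n₁ h).f n₀ = (diskIso₀ E n₀ n₁ h).hom ≫ u ≫ (diskIso₀ E' n₀ n₁ h).inv := by
  rw [diskMap, fromDisk_f₀]

lemma diskMap_f₁ {E E' : A} (u : E ⟶ E') (n₀ n₁ : ℤ) (h : n₀ + 1 = n₁) :
    (diskMap u n₀ n₁ h).f n₁ = (diskIso₁ E n₀ n₁ h).hom ≫ u ≫ (diskIso₁ E' n₀ n₁ h).inv := by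
  rw [diskMap, fromDisk_f₁, disk_d]
  simp

lemma jointlyEpi_diskMap {I : Type*} {X : I → A} {T : A} (a : ∀ i, X i ⟶ T)
    (ha : JointlyEpi a) (n₀ n₁ : ℤ) (h : n₀ + 1 = n₁) :
    JointlyEpi (fun i => diskMap (a i) n₀ n₁ h) := by
  intro Z k hk
  apply from_disk_hom_ext
  · rw [HomologicalComplex.zero_f, ← cancel_epi (diskIso₀ T n₀ n₁ h).inv, comp_zero]
    refine ha _ (fun i => ?_)
    have := HomologicalComplex.congr_hom (hk i) n₀
    rw [HomologicalComplex.comp_f, diskMap_f₀, HomologicalComplex.zero_f] at this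
    have := (diskIso₀ (X i) n₀ n₁ h).inv ≫= this
    simpa using this
  · rw [HomologicalComplex.zero_f, ← cancel_epi (diskIso₁ T n₀ n₁ h).inv, comp_zero]
    refine ha _ (fun i => ?_)
    have := HomologicalComplex.congr_hom (hk i) n₁
    rw [HomologicalComplex.comp_f, diskMap_f₁, HomologicalComplex.zero_f] at this
    have := (diskIso₁ (X i) n₀ n₁ h).inv ≫= this
    simpa using this

lemma IsGen.disk (hκ : ℵ₀ ≤ κ) (n₀ n₁ : ℤ) (h : n₀ + 1 = n₁)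
    (hD : IsGen 𝔾 κ (disk U n₀ n₁ h)) {T : A} (hT : IsGen U κ T) :
    IsGen 𝔾 κ (disk T n₀ n₁ h) := by
  obtain ⟨I, a, hI, ha⟩ := hT
  exact IsGen.of_jointlyEpi hκ (fun i => diskMap (a i) n₀ n₁ h) (jointlyEpi_diskMap a ha n₀ n₁ h)
    hI (fun _ => hD)

end Transfers

section Image

variable {C : Type u} [Category.{v} C] [Abelian C] [IsGrothendieckAbelian.{w} C]
  {G : C} {κ : Cardinal.{w}}

/-- the subobject generated by a small family of morphisms from `κ`-generated objects. -/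
lemma exists_image_of_family (hκ : ℵ₀ ≤ κ) {X : C} {I : Type w} (Z : I → C) (f : ∀ i, Z i ⟶ X)
    (hI : Cardinal.mk I ≤ κ) (hZ : ∀ i, IsGen G κ (Z i)) :
    ∃ (X' : C) (m : X' ⟶ X) (_ : Mono m) (f' : ∀ i, Z i ⟶ X'), IsGen G κ X' ∧
      (∀ i, f' i ≫ m = f i) ∧ JointlyEpi f' := by
  have hje : JointlyEpi (fun i => Sigma.ι Z i ≫ factorThruImage (Sigma.desc f)) := by
    intro W k hk
    rw [← cancel_epi (factorThruImage (Sigma.desc f)), comp_zero]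
    exact Sigma.hom_ext _ _ (fun i => by simpa using hk i)
  exact ⟨image (Sigma.desc f), image.ι _, inferInstance,
    fun i => Sigma.ι Z i ≫ factorThruImage (Sigma.desc f),
    IsGen.of_jointlyEpi hκ _ hje hI hZ, fun i => by simp, hje⟩

end Image

section LemmaA

variable {A : Type u} [Category.{v} A] [Abelian A] [IsGrothendieckAbelian.{w} A]

/-- the conditions on the cardinal `κ`. -/
structure KappaOK (U : A) (𝔾 : CochainComplex A ℤ) (κ : Cardinal.{w}) : Prop where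
  le : ℵ₀ ≤ κ
  sepU : IsSeparator U
  sep𝔾 : IsSeparator 𝔾
  subU : HasCardinalLT (Subobject U) (Order.succ κ)
  sub𝔾 : HasCardinalLT (Subobject 𝔾) (Order.succ κ)
  finU : ∀ (α : Type w) [Finite α],
    HasCardinalLT (Subobject (∐ fun (_ : α) => U)) (Order.succ κ)
  fin𝔾 : ∀ (α : Type w) [Finite α],
    HasCardinalLT (Subobject (∐ fun (_ : α) => 𝔾)) (Order.succ κ)
  genX : ∀ n, IsGen U κ (𝔾.X n)
  genDisk : ∀ (n₀ n₁ : ℤ) (h : n₀ + 1 = n₁), IsGen 𝔾 κ (disk U n₀ n₁ h)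

variable {U : A} {𝔾 : CochainComplex A ℤ} {κ : Cardinal.{w}}

lemma exists_local_step (h : KappaOK U 𝔾 κ) {C : CochainComplex A ℤ} (hC : C.Acyclic)
    {Y : CochainComplex A ℤ} (m : Y ⟶ C) (hY : IsGen 𝔾 κ Y) (n₀ n₁ n₂ : ℤ)
    (h₀₁ : n₀ + 1 = n₁) (h₁₂ : n₁ + 1 = n₂) :
    ∃ (T : A) (e : T ⟶ kernel (Y.d n₁ n₂)) (τ : T ⟶ C.X n₀), IsGen U κ T ∧ Epi e ∧
      τ ≫ C.d n₀ n₁ = e ≫ kernel.ι (Y.d n₁ n₂) ≫ m.f n₁ := by
  have hZ : IsGen U κ (kernel (Y.d n₁ n₂)) :=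
    IsGen.of_mono h.sepU h.le h.finU (kernel.ι _) (IsGen.X h.le h.genX hY n₁)
  have hex := (exactAt_iff_sc' C n₀ n₁ n₂ h₀₁ h₁₂).1 (hC n₁)
  rw [ShortComplex.exact_iff_epi_kernel_lift] at hex
  obtain ⟨ℓ, hℓ, hℓ'⟩ : ∃ ℓ : C.X n₀ ⟶ kernel (C.d n₁ n₂), Epi ℓ ∧
      ℓ ≫ kernel.ι (C.d n₁ n₂) = C.d n₀ n₁ :=
    ⟨kernel.lift (C.d n₁ n₂) (C.d n₀ n₁) (C.d_comp_d n₀ n₁ n₂), hex, kernel.lift_ι _ _ _⟩
  have comm : m.f n₁ ≫ C.d n₁ n₂ = Y.d n₁ n₂ ≫ m.f n₂ := m.comm n₁ n₂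
  obtain ⟨ζ, hζ⟩ : ∃ ζ : kernel (Y.d n₁ n₂) ⟶ kernel (C.d n₁ n₂),
      ζ ≫ kernel.ι (C.d n₁ n₂) = kernel.ι (Y.d n₁ n₂) ≫ m.f n₁ :=
    ⟨kernel.lift _ (kernel.ι (Y.d n₁ n₂) ≫ m.f n₁) (by
      rw [Category.assoc, comm, kernel.condition_assoc, zero_comp]), kernel.lift_ι _ _ _⟩
  haveI : Epi (pullback.snd ℓ ζ) := Abelian.epi_pullback_of_epi_f ℓ ζ
  obtain ⟨T, mT, _, hT, hepi⟩ := exists_mono_lift h.sepU h.le h.subU (pullback.snd ℓ ζ) hZ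
  refine ⟨T, mT ≫ pullback.snd ℓ ζ, mT ≫ pullback.fst ℓ ζ, hT, hepi, ?_⟩
  rw [Category.assoc, ← hℓ', pullback.condition_assoc, hζ]
  simp only [Category.assoc]

variable (𝔾 κ) in
/-- a `κ`-generated subcomplex. -/
structure Stage (C : CochainComplex A ℤ) where
  /-- the subcomplex -/
  Y : CochainComplex A ℤ
  /-- the inclusion -/
  m : Y ⟶ C
  mono : Mono m
  gen : IsGen 𝔾 κ Y

lemma exists_step (h : KappaOK U 𝔾 κ) {C : CochainComplex A ℤ} (hC : C.Acyclic)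
    (S : Stage 𝔾 κ C) :
    ∃ (S' : Stage 𝔾 κ C) (i : S.Y ⟶ S'.Y), i ≫ S'.m = S.m ∧
      ∀ (n₀ n₁ n₂ : ℤ) (_ : n₀ + 1 = n₁) (_ : n₁ + 1 = n₂) ⦃W : A⦄ (z : W ⟶ S.Y.X n₁),
        z ≫ S.Y.d n₁ n₂ = 0 → ∃ (W' : A) (π : W' ⟶ W) (_ : Epi π) (y : W' ⟶ S'.Y.X n₀),
          π ≫ z ≫ i.f n₁ = y ≫ S'.Y.d n₀ n₁ := by
  choose T e τ hT he hτ using
    (fun n₀ : ℤ => exists_local_step h hC S.m S.gen n₀ (n₀ + 1) (n₀ + 1 + 1) rfl rfl)
  let Z : Option (ULift.{w} ℤ) → CochainComplex A ℤ := fun i =>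
    match i with
    | none => S.Y
    | some n => disk (T n.down) n.down (n.down + 1) rfl
  let f : ∀ i, Z i ⟶ C := fun i =>
    match i with
    | none => S.m
    | some n => fromDisk rfl (τ n.down)
  have hI : Cardinal.mk (Option (ULift.{w} ℤ)) ≤ κ := (Cardinal.mk_le_aleph0).trans h.le
  have hZ : ∀ i, IsGen 𝔾 κ (Z i) := by
    rintro (_ | n)
    · exact S.gen
    · exact IsGen.disk h.le _ _ _ (h.genDisk _ _ _) (hT n.down)
  obtain ⟨Y', m', hm', f', hY', hfac, -⟩ := exists_image_of_family h.le Z f hI hZ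
  refine ⟨⟨Y', m', hm', hY'⟩, f' none, hfac none, ?_⟩
  rintro n₀ _ _ rfl rfl W z hz
  haveI := he n₀
  obtain ⟨z', hz'⟩ : ∃ z' : W ⟶ kernel (S.Y.d (n₀ + 1) (n₀ + 1 + 1)),
      z' ≫ kernel.ι _ = z := ⟨kernel.lift _ z hz, kernel.lift_ι _ _ _⟩
  haveI : Epi (pullback.snd (e n₀) z') := Abelian.epi_pullback_of_epi_f (e n₀) z'
  refine ⟨pullback (e n₀) z', pullback.snd (e n₀) z', inferInstance,
    pullback.fst (e n₀) z' ≫ (diskIso₀ (T n₀) n₀ (n₀ + 1) rfl).inv ≫ (f' (some ⟨n₀⟩)).f n₀, ?_⟩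
  haveI : Mono (m'.f (n₀ + 1)) :=
    inferInstanceAs (Mono ((HomologicalComplex.eval A (ComplexShape.up ℤ) (n₀ + 1)).map m'))
  have e1 : (f' (some ⟨n₀⟩)).f n₀ ≫ m'.f n₀ =
      (diskIso₀ (T n₀) n₀ (n₀ + 1) rfl).hom ≫ τ n₀ := by
    rw [← HomologicalComplex.comp_f, hfac (some ⟨n₀⟩)]
    exact fromDisk_f₀ _
  have e2 : (f' none).f (n₀ + 1) ≫ m'.f (n₀ + 1) = S.m.f (n₀ + 1) := by
    rw [← HomologicalComplex.comp_f, hfac none]
  have comm : m'.f n₀ ≫ C.d n₀ (n₀ + 1) = Y'.d n₀ (n₀ + 1) ≫ m'.f (n₀ + 1) := m'.comm _ _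
  rw [← cancel_mono (m'.f (n₀ + 1))]
  simp only [Category.assoc]
  rw [e2, ← comm, reassoc_of% e1, Iso.inv_hom_id_assoc, hτ n₀, pullback.condition_assoc,
    reassoc_of% hz']

end LemmaA

end Groth.Agent.Lib.Helper17.KInj
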