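import Groth.Agent.Lib.Helper17KInj7

/-!
# Acyclic closure: the colimit of the sequence (helper17)
-/

set_option autoImplicit false

universe w v u

open CategoryTheory CategoryTheory.Limits HomologicalComplex Cardinal

namespace Groth.Agent.Lib.Helper17.KInj

attribute [local instance] IsFiltered.isConnected

section Sequence

variable {A : Type u} [Category.{v} A] [Abelian A]
  [HasColimitsOfShape ℕ A] [HasExactColimitsOfShape ℕ A]

theorem acyclic_of_sequence {C : CochainComplex A ℤ} (Y : ℕ → CochainComplex A ℤ)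
    (m : ∀ k, Y k ⟶ C) [∀ k, Mono (m k)] (i : ∀ k, Y k ⟶ Y (k + 1))
    (fac : ∀ k, i k ≫ m (k + 1) = m k)
    (bound : ∀ (k : ℕ) (n₀ n₁ n₂ : ℤ) (_ : n₀ + 1 = n₁) (_ : n₁ + 1 = n₂) ⦃W : A⦄
      (z : W ⟶ (Y k).X n₁), z ≫ (Y k).d n₁ n₂ = 0 →
        ∃ (W' : A) (π : W' ⟶ W) (_ : Epi π) (y : W' ⟶ (Y (k + 1)).X n₀),
          π ≫ z ≫ (i k).f n₁ = y ≫ (Y (k + 1)).d n₀ n₁) :
    ∃ (Y' : CochainComplex A ℤ) (m' : Y' ⟶ C) (_ : Mono m') (ι : ∀ k, Y k ⟶ Y'),
      (∀ k, ι k ≫ m' = m k) ∧ JointlyEpi ι ∧ Y'.Acyclic := by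
  obtain ⟨α, hα⟩ : ∃ α : Functor.ofSequence i ⟶ (Functor.const ℕ).obj C, ∀ k, α.app k = m k :=
    ⟨NatTrans.ofSequence (fun k => m k) (fun k => by
      rw [Functor.ofSequence_map_homOfLE_succ]
      dsimp
      rw [Category.comp_id]
      exact fac k), fun k => rfl⟩
  haveI : ∀ k, Mono (α.app k) := fun k => by
    have := (inferInstance : Mono (m k))
    rw [← hα k] at this
    exact this
  haveI : Mono α := NatTrans.mono_of_mono_app α
  have hc := colimit.isColimit (Functor.ofSequence i)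
  obtain ⟨m', hm'⟩ : ∃ m' : colimit (Functor.ofSequence i) ⟶ C,
      ∀ k, colimit.ι (Functor.ofSequence i) k ≫ m' = m k :=
    ⟨colimit.desc _ (Cocone.mk C α), fun k => by
      rw [colimit.ι_desc]
      exact hα k⟩
  haveI hmono : Mono m' := colim.map_mono' α hc (isColimitConstCocone ℕ C) m' (fun k =>
    (hm' k).trans ((hα k).symm.trans (Category.comp_id _).symm))
  haveI hι : ∀ k, Mono (colimit.ι (Functor.ofSequence i) k) := fun k => by
    haveI : Mono (colimit.ι (Functor.ofSequence i) k ≫ m') := by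
      rw [hm' k]
      exact inferInstanceAs (Mono (m k))
    exact mono_of_mono _ m'
  refine ⟨colimit (Functor.ofSequence i), m', hmono,
    fun k => colimit.ι (Functor.ofSequence i) k, hm', jointlyEpi_of_isColimit hc, ?_⟩
  intro n₁
  rw [exactAt_iff_sc' _ (n₁ - 1) n₁ (n₁ + 1) (by omega) rfl]
  refine exact_sc'_of_isColimit hc (n₁ - 1) n₁ (n₁ + 1) (fun j => ?_) (fun j W z hz => ?_)
  · exact inferInstanceAs (Mono ((HomologicalComplex.eval A (ComplexShape.up ℤ) (n₁ + 1)).map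
      (colimit.ι (Functor.ofSequence i) j)))
  · obtain ⟨W', π, hπ, y, hy⟩ := bound j (n₁ - 1) n₁ (n₁ + 1) (by omega) rfl z hz
    refine ⟨j + 1, homOfLE (Nat.le_add_right j 1), W', π, hπ, y, ?_⟩
    rw [Functor.ofSequence_map_homOfLE_succ]
    exact hy

end Sequence

section LemmaA

variable {A : Type u} [Category.{v} A] [Abelian A] [IsGrothendieckAbelian.{w} A]
  {U : A} {𝔾 : CochainComplex A ℤ} {κ : Cardinal.{w}}

lemma hasColimitsOfShape_nat : HasColimitsOfShape ℕ A := by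
  haveI : HasFilteredColimitsOfSize.{0, 0} A := hasFilteredColimitsOfSize_of_univLE.{0, 0, w, w}
  infer_instance

lemma hasExactColimitsOfShape_nat :
    haveI : HasColimitsOfShape ℕ A := hasColimitsOfShape_nat.{w}
    HasExactColimitsOfShape ℕ A := by
  haveI : HasFilteredColimitsOfSize.{0, 0} A := hasFilteredColimitsOfSize_of_univLE.{0, 0, w, w}
  haveI : AB5OfSize.{0, 0} A := AB5OfSize_of_univLE.{0, 0, w, w} A
  infer_instance

/-- the sequence of stages. -/
noncomputable def stageSeq {C : CochainComplex A ℤ} (next : Stage 𝔾 κ C → Stage 𝔾 κ C)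
    (S₀ : Stage 𝔾 κ C) : ℕ → Stage 𝔾 κ C
  | 0 => S₀
  | k + 1 => next (stageSeq next S₀ k)

/-- **Lemma A**: every `κ`-generated subcomplex of an acyclic complex is contained
in an acyclic `κ`-generated subcomplex. -/
theorem exists_acyclic_stage (h : KappaOK U 𝔾 κ) {C : CochainComplex A ℤ} (hC : C.Acyclic)
    (S₀ : Stage 𝔾 κ C) :
    ∃ (S : Stage 𝔾 κ C) (i : S₀.Y ⟶ S.Y), i ≫ S.m = S₀.m ∧ S.Y.Acyclic := by
  haveI : HasColimitsOfShape ℕ A := hasColimitsOfShape_nat.{w}
  haveI : HasExactColimitsOfShape ℕ A := hasExactColimitsOfShape_nat.{w}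
  choose next i fac bound using exists_step h hC
  haveI : ∀ k, Mono (stageSeq next S₀ k).m := fun k => (stageSeq next S₀ k).mono
  obtain ⟨Y', m', hm', ι, hι, hje, hY'⟩ :=
    acyclic_of_sequence (fun k => (stageSeq next S₀ k).Y) (fun k => (stageSeq next S₀ k).m)
      (fun k => i (stageSeq next S₀ k)) (fun k => fac (stageSeq next S₀ k))
      (fun k => bound (stageSeq next S₀ k))
  refine ⟨⟨Y', m', hm', ?_⟩, ι 0, hι 0, hY'⟩
  refine IsGen.of_jointlyEpi h.le (T₀ := ULift.{w} ℕ) (fun k => ι k.down) ?_ ?_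
    (fun k => (stageSeq next S₀ k.down).gen)
  · intro W k hk
    exact hje k (fun j => hk ⟨j⟩)
  · exact (Cardinal.mk_le_aleph0).trans h.le

end LemmaA

end Groth.Agent.Lib.Helper17.KInj
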