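import Groth.Agent.Lib.Helper17KInj8
import Mathlib.CategoryTheory.Abelian.CommSq

/-!
# The fill-in lemma (helper17)

If `f : X ⟶ B` is a monomorphism and a quasi-isomorphism which is not an isomorphism, then
`f = i ≫ p'` where `i` is a pushout of a generating trivial cofibration, `i` is not an
isomorphism, and `p'` is a monomorphism and a quasi-isomorphism.
-/

set_option autoImplicit false

universe w v u

open CategoryTheory CategoryTheory.Limits HomologicalComplex Cardinal

namespace Groth.Agent.Lib.Helper17.KInj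

section General

variable {C : Type u} [Category.{v} C] [Abelian C] [IsGrothendieckAbelian.{w} C]

/-- the coproduct of `κ` copies of `G`. -/
noncomputable def bigSum (G : C) (κ : Cardinal.{w}) : C := ∐ (fun (_ : κ.out) => G)

variable {G : C} {κ : Cardinal.{w}}

lemma exists_epi_of_isGen {Y : C} (hY : IsGen G κ Y) : ∃ ε : bigSum G κ ⟶ Y, Epi ε := by
  obtain ⟨T, a, hT, ha⟩ := hY
  have hT' : Cardinal.mk T ≤ Cardinal.mk κ.out := by rwa [Cardinal.mk_out]
  obtain ⟨emb⟩ := (Cardinal.le_def _ _).1 hT'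
  let a' : κ.out → (G ⟶ Y) := Function.extend emb a 0
  have ha' : JointlyEpi a' := by
    intro Z k hk
    refine ha k (fun t => ?_)
    have h1 : a' (emb t) = a t := emb.injective.extend_apply a 0 t
    have := hk (emb t)
    rwa [h1] at this
  exact ⟨Sigma.desc a', ha'.epi_desc⟩

variable (G κ) in
/-- the index type for the generating trivial cofibrations. -/
def GenIdx : Type (max u v) := Σ (S : Subobject (bigSum G κ)), Subobject (cokernel S.arrow)

instance : Small.{w} (GenIdx G κ) := by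
  dsimp [GenIdx]
  infer_instance

/-- the monomorphism indexed by `i : GenIdx G κ`. -/
noncomputable def genMap (i : GenIdx G κ) : (i.2 : C) ⟶ cokernel i.1.arrow := i.2.arrow

instance (i : GenIdx G κ) : Mono (genMap i) := by
  dsimp [genMap]
  infer_instance

lemma isGen_cokernel_arrow (hκ : ℵ₀ ≤ κ) (S : Subobject (bigSum G κ)) :
    IsGen G κ (cokernel S.arrow) := by
  have : IsGen G κ (bigSum G κ) :=
    IsGen.of_jointlyEpi hκ (fun i => Sigma.ι (fun (_ : κ.out) => G) i)
      (fun Z k hk => Sigma.hom_ext _ _ (fun i => (hk i).trans comp_zero.symm))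
      (by rw [Cardinal.mk_out]) (fun _ => IsGen.self hκ)
  exact this.of_epi (cokernel.π S.arrow)

lemma exists_genIdx {P Y : C} (j : P ⟶ Y) [Mono j] (hY : IsGen G κ Y) :
    ∃ (i : GenIdx G κ) (e₁ : P ≅ (i.2 : C)) (e₃ : Y ≅ cokernel i.1.arrow),
      j ≫ e₃.hom = e₁.hom ≫ genMap i := by
  obtain ⟨ε, hε⟩ := exists_epi_of_isGen hY
  let S : Subobject (bigSum G κ) := Subobject.mk (kernel.ι ε)
  have hS : S.arrow = (Subobject.underlyingIso (kernel.ι ε)).hom ≫ kernel.ι ε :=
    (Subobject.underlyingIso_hom_comp_eq_mk _).symm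
  have w : S.arrow ≫ ε = 0 := by rw [hS, Category.assoc, kernel.condition, comp_zero]
  have w' : kernel.ι ε ≫ cokernel.π S.arrow = 0 := by
    have : kernel.ι ε = (Subobject.underlyingIso (kernel.ι ε)).inv ≫ S.arrow := by
      rw [hS, Iso.inv_hom_id_assoc]
    rw [this, Category.assoc, cokernel.condition, comp_zero]
  obtain ⟨e⟩ : Nonempty (cokernel S.arrow ≅ Y) := ⟨
    { hom := cokernel.desc S.arrow ε w
      inv := Abelian.epiDesc ε (cokernel.π S.arrow) w'
      hom_inv_id := by
        rw [← cancel_epi (cokernel.π S.arrow), cokernel.π_desc_assoc, Abelian.comp_epiDesc,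
          Category.comp_id]
      inv_hom_id := by
        rw [← cancel_epi ε, Abelian.comp_epiDesc_assoc, cokernel.π_desc, Category.comp_id] }⟩
  haveI : Mono (j ≫ e.inv) := mono_comp _ _
  refine ⟨⟨S, Subobject.mk (j ≫ e.inv)⟩, (Subobject.underlyingIso (j ≫ e.inv)).symm, e.symm, ?_⟩
  dsimp [genMap]
  rw [Subobject.underlyingIso_arrow]

end General

section Pushout

variable {C : Type u} [Category.{v} C] [Abelian C]

lemma fill_in_pushout {X B P Y' : C} {f : X ⟶ B} {mY : Y' ⟶ B} {a : P ⟶ X} {j : P ⟶ Y'}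
    [Mono f] (sq : IsPullback a j f mY) (hr : ∀ r : Y' ⟶ X, r ≫ f ≠ mY) :
    ∃ (X' : C) (i : X ⟶ X') (p' : X' ⟶ B) (b : Y' ⟶ X'), IsPushout a j i b ∧ Mono p' ∧
      i ≫ p' = f ∧ ¬ IsIso i := by
  refine ⟨pushout a j, pushout.inl a j, pushout.desc f mY sq.w, pushout.inr a j,
    IsPushout.of_hasPushout a j, ?_, pushout.inl_desc _ _ _, ?_⟩
  · exact (IsPushout.of_hasPushout a j).mono_of_isPullback_of_mono sq _
      (pushout.inl_desc _ _ _) (pushout.inr_desc _ _ _)
  · intro hi
    refine hr (pushout.inr a j ≫ inv (pushout.inl a j)) ?_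
    have h1 : pushout.inl a j ≫ pushout.desc f mY sq.w = f := pushout.inl_desc _ _ _
    have h2 : pushout.inr a j ≫ pushout.desc f mY sq.w = mY := pushout.inr_desc _ _ _
    have h3 : inv (pushout.inl a j) ≫ f = pushout.desc f mY sq.w := by
      rw [IsIso.inv_comp_eq, h1]
    rw [Category.assoc, h3, h2]

end Pushout

section Complexes

variable {A : Type u} [Category.{v} A] [Abelian A] [IsGrothendieckAbelian.{w} A]
  {U : A} {𝔾 : CochainComplex A ℤ} {κ : Cardinal.{w}}

variable (𝔾 κ) in
/-- the generating trivial cofibrations. -/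
def genTrivCof : MorphismProperty (CochainComplex A ℤ) :=
  MorphismProperty.ofHoms (fun (i : {i : GenIdx 𝔾 κ // QuasiIso (genMap i)}) => genMap i.1)

instance : MorphismProperty.IsSmall.{w} (genTrivCof 𝔾 κ) := by
  dsimp [genTrivCof]
  infer_instance

lemma genTrivCof_le_trivCof : genTrivCof 𝔾 κ ≤ trivCof := by
  rintro _ _ _ ⟨i⟩
  exact ⟨inferInstance, i.2⟩

theorem exists_fill_in_data (h : KappaOK U 𝔾 κ) {X B : CochainComplex A ℤ} (f : X ⟶ B) [Mono f]
    (hq : QuasiIso f) (hf : ¬ IsIso f) :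
    ∃ (P Y' : CochainComplex A ℤ) (j : P ⟶ Y') (a : P ⟶ X) (mY : Y' ⟶ B),
      Mono j ∧ QuasiIso j ∧ IsGen 𝔾 κ Y' ∧ IsPullback a j f mY ∧ ∀ r : Y' ⟶ X, r ≫ f ≠ mY := by
  have hS := shortExact_of_mono f
  have hCc : (cokernel f).Acyclic := hS.acyclic_X₃ hq
  rw [h.sep𝔾.isDetector.isIso_iff_of_mono] at hf
  simp only [ObjectProperty.singleton_iff, Function.Surjective, Functor.flip_obj_map, forall_eq',
    not_forall, not_exists] at hf
  obtain ⟨g, hg⟩ := hf
  let S₀ : Stage 𝔾 κ (cokernel f) :=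
    { Y := image (g ≫ cokernel.π f)
      m := image.ι _
      mono := inferInstance
      gen := (IsGen.self h.le).of_epi (factorThruImage (g ≫ cokernel.π f)) }
  obtain ⟨S, i₀, hi₀, hacyc⟩ := exists_acyclic_stage h hCc S₀
  haveI := S.mono
  haveI : Epi (pullback.snd (cokernel.π f) S.m) := Abelian.epi_pullback_of_epi_f _ _
  haveI : Mono (pullback.fst (cokernel.π f) S.m) := pullback.fst_of_mono
  obtain ⟨Y', mY', hmY', hY', hepi⟩ :=
    exists_mono_lift h.sep𝔾 h.le h.sub𝔾 (pullback.snd (cokernel.π f) S.m) S.gen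
  obtain ⟨mY, hmY⟩ : ∃ mY : Y' ⟶ B, mY = mY' ≫ pullback.fst (cokernel.π f) S.m := ⟨_, rfl⟩
  obtain ⟨q, hq'⟩ : ∃ q : Y' ⟶ S.Y, q = mY' ≫ pullback.snd (cokernel.π f) S.m := ⟨_, rfl⟩
  haveI : Mono mY := by
    rw [hmY]
    exact mono_comp _ _
  haveI : Epi q := by
    rw [hq']
    exact hepi
  have hmq : mY ≫ cokernel.π f = q ≫ S.m := by
    rw [hmY, hq', Category.assoc, Category.assoc, pullback.condition]
  haveI : Mono (pullback.snd f mY) := pullback.snd_of_mono
  have hz : pullback.snd f mY ≫ q = 0 := by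
    rw [← cancel_mono S.m, Category.assoc, ← hmq, ← pullback.condition_assoc,
      cokernel.condition, comp_zero, zero_comp]
  have hT : (ShortComplex.mk (pullback.snd f mY) q hz).ShortExact :=
    { exact := ShortComplex.exact_of_f_is_kernel _
        (KernelFork.IsLimit.ofι _ _
          (fun {W} t ht => pullback.lift (Abelian.monoLift f (t ≫ mY) (by
              rw [Category.assoc, hmq, reassoc_of% ht, zero_comp])) t
              (Abelian.monoLift_comp _ _ _))
          (fun t ht => pullback.lift_snd _ _ _)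
          (fun t ht m hm => by
            rw [← cancel_mono (pullback.snd f mY), hm]
            exact (pullback.lift_snd _ _ _).symm))
      mono_f := inferInstanceAs (Mono (pullback.snd f mY))
      epi_g := inferInstanceAs (Epi q) }
  refine ⟨pullback f mY, Y', pullback.snd f mY, pullback.fst f mY, mY, inferInstance,
    quasiIso_f_of_acyclic_X₃ hT hacyc, hY', IsPullback.of_hasPullback f mY, ?_⟩
  intro r hr
  have h1 : q ≫ S.m = 0 := by
    rw [← hmq, ← hr, Category.assoc, cokernel.condition, comp_zero]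
  have h2 : S.m = 0 := by
    rw [← cancel_epi q, h1, comp_zero]
  have h3 : g ≫ cokernel.π f = 0 := by
    have : image.ι (g ≫ cokernel.π f) = 0 := by
      have := hi₀
      dsimp [S₀] at this
      rw [← this, h2, comp_zero]
    rw [← image.fac (g ≫ cokernel.π f), this, comp_zero]
  exact hg (Abelian.monoLift f g h3) (Abelian.monoLift_comp f g h3)

instance [EnoughInjectives A] :
    (trivCof (A := A)).IsStableUnderCobaseChange := by
  rw [trivCof_eq]
  infer_instance

theorem exists_fill_in (h : KappaOK U 𝔾 κ) {X B : CochainComplex A ℤ} (f : X ⟶ B) [Mono f]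
    (hq : QuasiIso f) (hf : ¬ IsIso f) :
    ∃ (X' : CochainComplex A ℤ) (i : X ⟶ X') (p' : X' ⟶ B),
      (genTrivCof 𝔾 κ).pushouts i ∧ ¬ IsIso i ∧ Mono p' ∧ QuasiIso p' ∧ i ≫ p' = f := by
  obtain ⟨P, Y', j, a, mY, hj, hjq, hY', sq, hr⟩ := exists_fill_in_data h f hq hf
  obtain ⟨X', i, p', b, po, hp', fac, hi⟩ := fill_in_pushout sq hr
  obtain ⟨idx, e₁, e₃, he⟩ := exists_genIdx j hY'
  have hidx : QuasiIso (genMap idx) := by
    have : genMap idx = e₁.inv ≫ j ≫ e₃.hom := by rw [he, Iso.inv_hom_id_assoc]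
    rw [this]
    infer_instance
  have hi' : trivCof i := MorphismProperty.of_isPushout po ⟨hj, hjq⟩
  haveI := hi'.2
  haveI : QuasiIso (i ≫ p') := by rwa [fac]
  refine ⟨X', i, p', ?_, hi, hp', quasiIso_of_comp_left i p', fac⟩
  have po' : IsPushout (e₁.inv ≫ a) (genMap idx) i (e₃.inv ≫ b) :=
    po.of_iso e₁ (Iso.refl _) e₃ (Iso.refl _) (by simp) he (by simp) (by simp)
  exact MorphismProperty.pushouts_mk _ po'
    (MorphismProperty.ofHoms.mk (⟨idx, hidx⟩ : {i : GenIdx 𝔾 κ // QuasiIso (genMap i)}))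

end Complexes

end Groth.Agent.Lib.Helper17.KInj
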