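import Groth.Agent.Lib.Helper17KInj12
import Groth.Agent.Lib.Helper17SerreLoc1
import Mathlib.Algebra.Homology.DerivedCategory.KInjective
import Mathlib.Algebra.Homology.DerivedCategory.ExactFunctor
import Mathlib.CategoryTheory.Localization.DerivabilityStructure.OfFunctorialResolutions
import Mathlib.CategoryTheory.Localization.DerivabilityStructure.Derives
import Mathlib.CategoryTheory.Functor.Derived.Adjunction

/-!
# Fibrant replacement and the derivability structure (helper17)
-/

set_option autoImplicit false

universe w v u

open CategoryTheory CategoryTheory.Limits HomologicalComplex MorphismProperty ZeroObject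

namespace Groth.Agent.Lib.Helper17.KInj

section

variable (A : Type u) [Category.{v} A] [Abelian A] [IsGrothendieckAbelian.{w} A]

instance hasFunctorialFactorization_trivCof :
    HasFunctorialFactorization (trivCof (A := A)) (trivCof (A := A)).rlp := by
  obtain ⟨κ, h⟩ := exists_kappaOK.{w} A
  have := (inferInstance : HasFunctorialFactorization
    (genTrivCof (separator (CochainComplex A ℤ)) κ).rlp.llp
    (genTrivCof (separator (CochainComplex A ℤ)) κ).rlp)
  rwa [genTrivCof_rlp h, trivCof_rlp_llp] at this

/-- fibrant complexes. -/
def fibrant : ObjectProperty (CochainComplex A ℤ) := fun I => (trivCof (A := A)).rlp (0 : I ⟶ 0)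

variable {A} in
lemma fibrant.isKInjective {I : CochainComplex A ℤ} (hI : fibrant A I) : I.IsKInjective :=
  isKInjective_of_rlp hI

/-- objects to arrows to zero. -/
@[simps]
noncomputable def toZeroArrow : CochainComplex A ℤ ⥤ Arrow (CochainComplex A ℤ) where
  obj X := Arrow.mk (0 : X ⟶ 0)
  map f := Arrow.homMk f (𝟙 0) (by simp)

/-- the fibrant replacement functor (to complexes). -/
noncomputable def fibRepl₀ : CochainComplex A ℤ ⥤ CochainComplex A ℤ :=
  toZeroArrow A ⋙ (functorialFactorizationData (trivCof (A := A)) (trivCof (A := A)).rlp).Z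

/-- the map to the fibrant replacement. -/
noncomputable def fibReplι₀ : 𝟭 (CochainComplex A ℤ) ⟶ fibRepl₀ A where
  app X := (functorialFactorizationData (trivCof (A := A)) (trivCof (A := A)).rlp).i.app
    ((toZeroArrow A).obj X)
  naturality X Y f :=
    (functorialFactorizationData (trivCof (A := A)) (trivCof (A := A)).rlp).i.naturality
      ((toZeroArrow A).map f)

lemma trivCof_fibReplι₀ (X : CochainComplex A ℤ) : trivCof ((fibReplι₀ A).app X) :=
  (functorialFactorizationData (trivCof (A := A)) (trivCof (A := A)).rlp).hi _

lemma fibrant_fibRepl₀ (X : CochainComplex A ℤ) : fibrant A ((fibRepl₀ A).obj X) := by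
  have := (functorialFactorizationData (trivCof (A := A)) (trivCof (A := A)).rlp).hp
    ((toZeroArrow A).obj X)
  have h0 : (functorialFactorizationData (trivCof (A := A)) (trivCof (A := A)).rlp).p.app
      ((toZeroArrow A).obj X) = (0 : (fibRepl₀ A).obj X ⟶ 0) := (isZero_zero _).eq_of_tgt _ _
  rw [h0] at this
  exact this

/-- the fibrant replacement functor. -/
noncomputable def fibRepl : CochainComplex A ℤ ⥤ (fibrant A).FullSubcategory :=
  ObjectProperty.lift _ (fibRepl₀ A) (fibrant_fibRepl₀ A)

/-- the map to the fibrant replacement. -/
noncomputable def fibReplι : 𝟭 (CochainComplex A ℤ) ⟶ fibRepl A ⋙ (fibrant A).ι :=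
  fibReplι₀ A

/-- the localizer morphism given by the inclusion of fibrant complexes. -/
def fibLocalizerMorphism :
    LocalizerMorphism ((HomologicalComplex.quasiIso A (ComplexShape.up ℤ)).inverseImage
      (fibrant A).ι) (HomologicalComplex.quasiIso A (ComplexShape.up ℤ)) where
  functor := (fibrant A).ι
  map := le_refl _

instance : (fibLocalizerMorphism A).functor.Full :=
  inferInstanceAs (fibrant A).ι.Full

instance : (fibLocalizerMorphism A).functor.Faithful :=
  inferInstanceAs (fibrant A).ι.Faithful

instance : (fibLocalizerMorphism A).IsRightDerivabilityStructure :=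
  LocalizerMorphism.isRightDerivabilityStructure_of_functorial_resolutions
    (fibLocalizerMorphism A) (ρ := fibRepl A) (fibReplι A)
    (fun X => (trivCof_fibReplι₀ A X).2) rfl

variable {A}

lemma fibLocalizerMorphism_derives {H : Type*} [Category H] (F' : CochainComplex A ℤ ⥤ H)
    (hF' : (HomologicalComplex.homotopyEquivalences A (ComplexShape.up ℤ)).IsInvertedBy F') :
    (fibLocalizerMorphism A).Derives F' := by
  intro I J f hf
  haveI := I.property.isKInjective
  haveI := J.property.isKInjective
  have hf' : QuasiIso f.hom := hf
  exact hF' f.hom ((CochainComplex.IsKInjective.quasiIso_iff f.hom).1 hf')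

end

end Groth.Agent.Lib.Helper17.KInj
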