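import Mathlib.CategoryTheory.Triangulated.Yoneda
import Mathlib.CategoryTheory.Shift.Linear
import Mathlib.CategoryTheory.Linear.LinearFunctor

/-!
# Cones of scalar multiplications in a linear triangulated category (helper17)

`C` a pretriangulated `R`-linear category, `X ⟶ X ⟶ X' ⟶ X⟦1⟧` a distinguished triangle whose first
map is `f • 𝟙 X`.
* `smul_id_obj₃_nilpotent`: if `f ^ k • 𝟙 X = 0` then `f ^ (2 k) • 𝟙 X' = 0`; `f ^ 2 • 𝟙 X' = 0`.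
* `HomTors f X N`: every map `X ⟶ N⟦m⟧` is killed by a power of `f`; passes to `X'`.
* `hom_eq_zero_of_cone`: if `Hom(X', N⟦m⟧) = 0` and `HomTors f X N` then `Hom(X, N⟦m⟧) = 0`.
* `hom_obj₃_eq_zero`: `Hom(X', N⟦m⟧) = 0` if `Hom(X, N⟦m⟧) = 0 = Hom(X, N⟦m - 1⟧)`.
-/

set_option autoImplicit false

universe v u

open CategoryTheory CategoryTheory.Limits Pretriangulated

namespace Groth.Agent.Lib.Helper17.KosOrth

variable {R : Type*} [CommRing R] {C : Type u} [Category.{v} C] [HasZeroObject C] [HasShift C ℤ]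
  [Preadditive C] [∀ n : ℤ, (shiftFunctor C n).Additive] [Pretriangulated C] [Linear R C]
  [∀ n : ℤ, (shiftFunctor C n).Linear R]

/-- maps `X⟦1⟧ ⟶ N⟦m⟧` come from maps `X ⟶ N⟦m - 1⟧`. -/
lemma exists_shift_preimage (X N : C) (m : ℤ) (g : X⟦(1 : ℤ)⟧ ⟶ N⟦m⟧) :
    ∃ g' : X ⟶ N⟦m - 1⟧,
      g = g'⟦(1 : ℤ)⟧' ≫ (shiftFunctorAdd' C (m - 1) 1 m (by omega)).inv.app N := by
  obtain ⟨g', hg'⟩ := (shiftFunctor C (1 : ℤ)).map_surjective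
    (g ≫ (shiftFunctorAdd' C (m - 1) 1 m (by omega)).hom.app N)
  refine ⟨g', ?_⟩
  rw [hg', Category.assoc, Iso.hom_inv_id_app, Category.comp_id]

section Nilp

variable {f : R} {X X' : C} {g₁ : X ⟶ X} {q : X ⟶ X'} {w : X' ⟶ X⟦(1 : ℤ)⟧}

/-- if `a • 𝟙 X = 0` and `a` commutes with the first map (automatic), then `a ^ 2 • 𝟙 X' = 0`. -/
theorem smul_id_obj₃_sq (hT : Triangle.mk g₁ q w ∈ distTriang C) (a : R) (ha : a • 𝟙 X = 0) :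
    (a * a) • 𝟙 X' = 0 := by
  have h1 : (a • 𝟙 X') ≫ w = 0 := by
    rw [Linear.smul_comp, Category.id_comp]
    have : a • w = w ≫ (a • 𝟙 X)⟦(1 : ℤ)⟧' := by
      rw [Functor.map_smul, CategoryTheory.Functor.map_id, Linear.comp_smul, Category.comp_id]
    rw [this, ha, Functor.map_zero, comp_zero]
  obtain ⟨χ, hχ⟩ : ∃ χ : X' ⟶ X, a • 𝟙 X' = χ ≫ q :=
    Triangle.coyoneda_exact₃ _ hT (a • 𝟙 X') h1
  have h2 : (a * a) • 𝟙 X' = a • (a • 𝟙 X') := by rw [mul_smul]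
  rw [h2, hχ]
  have h3 : a • (χ ≫ q) = χ ≫ (a • 𝟙 X) ≫ q := by
    rw [Linear.smul_comp, Category.id_comp, Linear.comp_smul]
  rw [h3, ha, zero_comp, comp_zero]

/-- the cone of `f • 𝟙 X` is killed by `f ^ 2`. -/
theorem smul_id_cone_sq (q : X ⟶ X') (w : X' ⟶ X⟦(1 : ℤ)⟧)
    (hT : Triangle.mk (f • 𝟙 X) q w ∈ distTriang C) : (f * f) • 𝟙 X' = 0 := by
  have h0 : (f • 𝟙 X) ≫ q = 0 := comp_distTriang_mor_zero₁₂ _ hT
  have h1 : (f • 𝟙 X') ≫ w = 0 := by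
    rw [Linear.smul_comp, Category.id_comp]
    have : f • w = w ≫ (f • 𝟙 X)⟦(1 : ℤ)⟧' := by
      rw [Functor.map_smul, CategoryTheory.Functor.map_id, Linear.comp_smul, Category.comp_id]
    rw [this]
    exact comp_distTriang_mor_zero₃₁ _ hT
  obtain ⟨χ, hχ⟩ : ∃ χ : X' ⟶ X, f • 𝟙 X' = χ ≫ q :=
    Triangle.coyoneda_exact₃ _ hT (f • 𝟙 X') h1
  have h2 : (f * f) • 𝟙 X' = f • (f • 𝟙 X') := by rw [mul_smul]
  rw [h2, hχ]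
  have h3 : f • (χ ≫ q) = χ ≫ (f • 𝟙 X) ≫ q := by
    rw [Linear.smul_comp, Category.id_comp, Linear.comp_smul]
  rw [h3, h0, comp_zero]

end Nilp

/-- every map `X ⟶ N⟦m⟧` is killed by a power of `f`. -/
def HomTors (f : R) (X N : C) : Prop :=
  ∀ (m : ℤ) (φ : X ⟶ N⟦m⟧), ∃ k : ℕ, f ^ k • φ = 0

theorem HomTors.obj₃ {f : R} {X X' N : C} {g₁ : X ⟶ X} {q : X ⟶ X'} {w : X' ⟶ X⟦(1 : ℤ)⟧}
    (hT : Triangle.mk g₁ q w ∈ distTriang C) (h : HomTors f X N) : HomTors f X' N := by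
  intro m φ
  obtain ⟨k, hk⟩ := h m (q ≫ φ)
  have h1 : q ≫ (f ^ k • φ) = 0 := by rw [Linear.comp_smul, hk]
  obtain ⟨g, hg⟩ : ∃ g : X⟦(1 : ℤ)⟧ ⟶ N⟦m⟧, f ^ k • φ = w ≫ g :=
    Triangle.yoneda_exact₃ _ hT (f ^ k • φ) h1
  obtain ⟨g', hg'⟩ := exists_shift_preimage X N m g
  obtain ⟨k', hk'⟩ := h (m - 1) g'
  refine ⟨k' + k, ?_⟩
  rw [pow_add, mul_smul, hg, hg']
  have h2 : f ^ k' • (w ≫ g'⟦(1 : ℤ)⟧' ≫ (shiftFunctorAdd' C (m - 1) 1 m (by omega)).inv.app N) =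
      w ≫ (f ^ k' • g')⟦(1 : ℤ)⟧' ≫ (shiftFunctorAdd' C (m - 1) 1 m (by omega)).inv.app N := by
    rw [Functor.map_smul, Linear.smul_comp, Linear.comp_smul]
  rw [h2, hk', Functor.map_zero, zero_comp, comp_zero]

theorem hom_eq_zero_of_cone {f : R} {X X' N : C} {q : X ⟶ X'} {w : X' ⟶ X⟦(1 : ℤ)⟧}
    (hT : Triangle.mk (f • 𝟙 X) q w ∈ distTriang C) (h : HomTors f X N) (m : ℤ)
    (h0 : ∀ φ : X' ⟶ N⟦m⟧, φ = 0) (ψ : X ⟶ N⟦m⟧) : ψ = 0 := by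
  obtain ⟨k, hk⟩ := h m ψ
  induction k with
  | zero => simpa using hk
  | succ k ih =>
    apply ih
    have h1 : (f • 𝟙 X) ≫ (f ^ k • ψ) = 0 := by
      rw [Linear.smul_comp, Category.id_comp, ← mul_smul, ← pow_succ']
      exact hk
    obtain ⟨g, hg⟩ : ∃ g : X' ⟶ N⟦m⟧, f ^ k • ψ = q ≫ g :=
      Triangle.yoneda_exact₂ _ hT (f ^ k • ψ) h1
    rw [hg, h0 g, comp_zero]

theorem hom_obj₃_eq_zero {X X' N : C} {g₁ : X ⟶ X} {q : X ⟶ X'} {w : X' ⟶ X⟦(1 : ℤ)⟧}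
    (hT : Triangle.mk g₁ q w ∈ distTriang C) (m : ℤ) (h1 : ∀ ψ : X ⟶ N⟦m⟧, ψ = 0)
    (h2 : ∀ ψ : X ⟶ N⟦m - 1⟧, ψ = 0) (φ : X' ⟶ N⟦m⟧) : φ = 0 := by
  have h3 : q ≫ φ = 0 := h1 _
  obtain ⟨g, hg⟩ : ∃ g : X⟦(1 : ℤ)⟧ ⟶ N⟦m⟧, φ = w ≫ g :=
    Triangle.yoneda_exact₃ _ hT φ h3
  obtain ⟨g', hg'⟩ := exists_shift_preimage X N m g
  rw [hg, hg', h2 g', Functor.map_zero, zero_comp, comp_zero]

end Groth.Agent.Lib.Helper17.KosOrth
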