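import Groth.Agent.Lib.Helper17Hyp30
import Groth.Agent.Lib.Helper17Hyp32
import Groth.Agent.Lib.Helper17Hyp25
import Groth.Agent.Lib.Helper17Hyp17
import Groth.Agent.Lib.Helper17DBrown3

/-!
# Test objects in a derived category: a projective separator (helper17)

* `locFr_const`: a projective separator `P` of an abelian category `A` gives a `LocFr` structure on the
  one-object site with the trivial topology.
* `isIso_of_bijective_postcomp`: a morphism `φ` of `D(A)` such that `Hom(fr U [0], φ[n])` is bijective for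
  all `U` and `n` is an isomorphism.
* `subsingleton_hom_of_projective`: `Hom(P[0], M[0][k]) = 0` for `P` projective and `k > 0`.
-/

set_option autoImplicit false

universe w w' v v' u u'

open CategoryTheory CategoryTheory.Limits Opposite

namespace Groth.Agent.Lib.Helper17.TildeD

open DerivedCategory Groth.Agent.Lib.Helper17.Hyp

section Const

variable {A : Type u} [Category.{v} A] [Abelian A]

/-- the one-object category. -/
abbrev Pt : Type := Discrete PUnit.{1}

/-- the constant functor at `P`. -/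
abbrev frConst (P : A) : Pt ⥤ A := (Functor.const Pt).obj P

theorem locFr_const (P : A) [Projective P] (hP : IsSeparator P) :
    LocFr (GrothendieckTopology.trivial Pt) (frConst P) where
  lift := by
    intro F G π _ U s
    let s₀ : P ⟶ G := s
    let s₁ : P ⟶ F := Projective.factorThru s₀ π
    have hs₁ : s₁ ≫ π = s₀ := Projective.factorThru_comp s₀ π
    refine ⟨⊤, GrothendieckTopology.top_mem _ _, fun V f _ => ⟨s₁, ?_⟩⟩
    change s₁ ≫ π = 𝟙 P ≫ s₀
    rw [hs₁, Category.id_comp]
  sep := by
    intro G U s T hT hs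
    have hT' : T = ⊤ := (GrothendieckTopology.trivial_covering).1 hT
    have := hs (𝟙 U) (by rw [hT']; trivial)
    change 𝟙 P ≫ s = 0 at this
    rwa [Category.id_comp] at this
  gen := by
    intro G G' π hπ
    apply hP.def
    intro s
    rw [comp_zero]
    exact hπ ⟨PUnit.unit⟩ s

end Const

section Iso

variable {A : Type (v + 1)} [Category.{v} A] [Abelian A] [HasDerivedCategory.{w} A]
  {C : Type u'} [Category.{v'} C] {J : GrothendieckTopology C} {fr : C ⥤ A}

/-- a morphism which induces bijections on `Hom(fr U [0], -[n])` is an isomorphism. -/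
theorem isIso_of_bijective_postcomp [IsGrothendieckAbelian.{w'} A] (h : LocFr J fr)
    {K L : DerivedCategory A} (φ : K ⟶ L)
    (hb : ∀ (U : C) (n : ℤ), Function.Bijective (fun ξ : dsgl (fr.obj U) ⟶ K⟦n⟧ => ξ ≫ φ⟦n⟧')) :
    IsIso φ := by
  rw [DerivedCategory.isIso_iff]
  intro n
  haveI : Mono ((homologyFunctor A n).map φ) := by
    apply Abelian.mono_of_kernel_ι_eq_zero
    apply h.gen
    intro U s
    obtain ⟨T, hT, hT'⟩ := exists_lift_cm h K n U (s ≫ kernel.ι ((homologyFunctor A n).map φ))
    refine h.sep U _ T hT ?_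
    intro V f hf
    obtain ⟨ξ, hξ⟩ := hT' f hf
    have h0 : cm (ξ ≫ φ⟦n⟧') = 0 := by
      rw [cm_comp, hξ]
      simp only [Category.assoc]
      rw [kernel.condition, comp_zero, comp_zero]
    obtain ⟨T', hT'1, hT'2⟩ := exists_cover_eq_zero_cm.{w, w'} h L n V (ξ ≫ φ⟦n⟧') h0
    rw [← hξ]
    refine h.sep V _ T' hT'1 ?_
    intro W g hg
    have h1 := hT'2 g hg
    rw [res_comp] at h1
    have h2 : res fr g ξ = 0 := (hb W n).1 (by dsimp only; rw [h1, zero_comp])
    rw [← cm_res, h2, cm_zero]
  haveI : Epi ((homologyFunctor A n).map φ) := by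
    apply epi_of_local_lift h
    intro U s
    obtain ⟨T, hT, hT'⟩ := exists_lift_cm h L n U s
    refine ⟨T.arrows, by rwa [Sieve.generate_sieve], fun V g hg => ?_⟩
    obtain ⟨ζ, hζ⟩ := hT' g hg
    obtain ⟨ξ, hξ⟩ := (hb V n).2 ζ
    dsimp only at hξ
    exact ⟨cm ξ, by rw [← cm_comp, hξ, hζ]⟩
  exact isIso_of_mono_of_epi _

end Iso

section Proj

variable {A : Type u} [Category.{v} A] [Abelian A] [HasDerivedCategory.{w} A]

/-- `Hom(P[0], M[0][k]) = 0` for `P` projective and `k ≠ 0`. -/
theorem subsingleton_hom_of_projective (P M : A) [Projective P] (k : ℤ) (hk : k ≠ 0) :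
    Subsingleton (dsgl P ⟶ (dsgl M)⟦k⟧) := by
  refine ⟨fun y y' => ?_⟩
  have key : ∀ y : dsgl P ⟶ (dsgl M)⟦k⟧, y = 0 := by
    intro y
    let e : (dsgl M)⟦k⟧ ≅ Q.obj ((sgl M)⟦k⟧) := ((Q : _ ⥤ DerivedCategory A).commShiftIso k).symm.app _
    obtain ⟨g, hg⟩ := Groth.Agent.Lib.Helper17.DBrown.exists_Q_map_eq_of_isKProjective
      (K := sgl P) (L := (sgl M)⟦k⟧) (y ≫ e.hom)
    have hg0 : g = 0 := by
      apply HomologicalComplex.from_single_hom_ext
      apply IsZero.eq_of_tgt
      change IsZero ((sgl M).X (0 + k))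
      exact HomologicalComplex.isZero_single_obj_X (ComplexShape.up ℤ) 0 M (0 + k) (by omega)
    rw [hg0, Functor.map_zero] at hg
    rw [← cancel_mono e.hom, ← hg, zero_comp]
  rw [key y, key y']

end Proj

end Groth.Agent.Lib.Helper17.TildeD
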