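import Groth.Agent.Lib.Helper17KosOrth1
import Groth.Agent.Lib.Helper17TildeD1
import Groth.Agent.Lib.Helper17DBrown5
import Groth.Prelude.Def_Koszul
import Mathlib.Algebra.Homology.DerivedCategory.Linear
import Mathlib.Algebra.Homology.ShortComplex.Linear

/-!
# Koszul complexes in `D(A)` and torsion (helper17)
-/

set_option autoImplicit false
set_option linter.style.haveILetI false

universe u

open CategoryTheory CategoryTheory.Limits DerivedCategory Pretriangulated

attribute [local instance] HasDerivedCategory.standard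

namespace Groth.Agent.Lib.Helper17.KosOrth

open Groth.Agent.Lib.Helper17.Hyp Groth.Agent.Lib.Helper17.TildeD

variable (A : Type u) [CommRing A]

/-- `D(A)`. -/
abbrev DA := DerivedCategory (ModuleCat.{u} A)

/-- the Koszul complex as an object of `D(A)`. -/
noncomputable def Kq (l : List A) : DA A := Q.obj (Koszul.koszul A l)

theorem exists_triangle (f : A) (l : List A) :
    ∃ (q : Kq A l ⟶ Kq A (f :: l)) (w : Kq A (f :: l) ⟶ (Kq A l)⟦(1 : ℤ)⟧),
      Triangle.mk (f • 𝟙 (Kq A l)) q w ∈ distTriang (DA A) := by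
  let φ : Koszul.koszul A l ⟶ Koszul.koszul A l := f • 𝟙 _
  have hT : (Q : _ ⥤ DA A).mapTriangle.obj (CochainComplex.mappingCone.triangle φ) ∈
      distTriang (DA A) := (mem_distTriang_iff _).2 ⟨_, _, φ, ⟨Iso.refl _⟩⟩
  have h1 : (Q : _ ⥤ DA A).map φ = f • 𝟙 (Kq A l) := by
    dsimp only [φ, Kq]
    rw [Functor.map_smul, CategoryTheory.Functor.map_id]
    rfl
  refine ⟨((Q : _ ⥤ DA A).mapTriangle.obj (CochainComplex.mappingCone.triangle φ)).mor₂,
    ((Q : _ ⥤ DA A).mapTriangle.obj (CochainComplex.mappingCone.triangle φ)).mor₃, ?_⟩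
  rw [← h1]
  exact hT

/-- every element of the list acts nilpotently on the Koszul complex in `D(A)`. -/
theorem exists_pow_smul_id_eq_zero :
    ∀ (l : List A) (f : A), f ∈ l → ∃ k : ℕ, f ^ k • 𝟙 (Kq A l) = 0
  | [], f, h => absurd h List.not_mem_nil
  | g :: l, f, h => by
    obtain ⟨q, w, hT⟩ := exists_triangle A g l
    rcases List.mem_cons.1 h with rfl | h'
    · exact ⟨2, by rw [pow_two]; exact smul_id_cone_sq q w hT⟩
    · obtain ⟨k, hk⟩ := exists_pow_smul_id_eq_zero l f h'
      exact ⟨k + k, by rw [pow_add]; exact smul_id_obj₃_sq hT (f ^ k) hk⟩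

end Groth.Agent.Lib.Helper17.KosOrth
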