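import Groth.Agent.Lib.Helper17KosOrth2

/-!
# Koszul complexes in `D(A)`: orthogonality and torsion (helper17)
-/

set_option autoImplicit false
set_option linter.style.haveILetI false

universe u

open CategoryTheory CategoryTheory.Limits DerivedCategory Pretriangulated

attribute [local instance] HasDerivedCategory.standard

namespace Groth.Agent.Lib.Helper17.KosOrth

open Groth.Agent.Lib.Helper17.Hyp Groth.Agent.Lib.Helper17.TildeD

variable (A : Type u) [CommRing A]

section Linear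

lemma homologyMap_smul' {K L : CochainComplex (ModuleCat.{u} A) ℤ}
    (a : A) (φ : K ⟶ L) (i : ℤ) :
    HomologicalComplex.homologyMap (a • φ) i = a • HomologicalComplex.homologyMap φ i := by
  have h : (HomologicalComplex.shortComplexFunctor (ModuleCat.{u} A) (ComplexShape.up ℤ) i).map
      (a • φ) = a • (HomologicalComplex.shortComplexFunctor (ModuleCat.{u} A)
        (ComplexShape.up ℤ) i).map φ := rfl
  change ShortComplex.homologyMap ((HomologicalComplex.shortComplexFunctor (ModuleCat.{u} A)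
    (ComplexShape.up ℤ) i).map (a • φ)) = a • ShortComplex.homologyMap
    ((HomologicalComplex.shortComplexFunctor (ModuleCat.{u} A) (ComplexShape.up ℤ) i).map φ)
  rw [h]
  exact ShortComplex.homologyMap_smul _ _

/-- the cohomology functors of `D(A)` are `A`-linear on scalar multiples of identities. -/
theorem homology_map_smul_id (N : DA A) (a : A) (i : ℤ) :
    (homologyFunctor (ModuleCat.{u} A) i).map (a • 𝟙 N) = a • 𝟙 _ := by
  let K := (Q : CochainComplex (ModuleCat.{u} A) ℤ ⥤ DA A).objPreimage N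
  let e : (Q : CochainComplex (ModuleCat.{u} A) ℤ ⥤ DA A).obj K ≅ N := (Q : CochainComplex (ModuleCat.{u} A) ℤ ⥤ DA A).objObjPreimageIso N
  have h1 : a • 𝟙 N = e.inv ≫ (Q : CochainComplex (ModuleCat.{u} A) ℤ ⥤ DA A).map (a • 𝟙 K) ≫ e.hom := by
    rw [Functor.map_smul, CategoryTheory.Functor.map_id, Linear.smul_comp, Category.id_comp,
      Linear.comp_smul, e.inv_hom_id]
  let e' := (homologyFunctorFactors.{u + 1} (ModuleCat.{u} A) i).app K
  have nat : (homologyFunctor (ModuleCat.{u} A) i).map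
      ((Q : CochainComplex (ModuleCat.{u} A) ℤ ⥤ DA A).map (a • 𝟙 K)) ≫ e'.hom =
        e'.hom ≫ HomologicalComplex.homologyMap (a • 𝟙 K) i :=
    (homologyFunctorFactors.{u + 1} (ModuleCat.{u} A) i).hom.naturality (a • 𝟙 K)
  have h2 : (homologyFunctor (ModuleCat.{u} A) i).map
      ((Q : CochainComplex (ModuleCat.{u} A) ℤ ⥤ DA A).map (a • 𝟙 K)) = a • 𝟙 _ := by
    have h3 : (homologyFunctor (ModuleCat.{u} A) i).map
        ((Q : CochainComplex (ModuleCat.{u} A) ℤ ⥤ DA A).map (a • 𝟙 K)) =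
          e'.hom ≫ HomologicalComplex.homologyMap (a • 𝟙 K) i ≫ e'.inv := by
      rw [← Category.assoc, Iso.eq_comp_inv]
      exact nat
    rw [h3, homologyMap_smul', HomologicalComplex.homologyMap_id]
    have gen : ∀ {X Y : ModuleCat.{u} A} (e : X ≅ Y), e.hom ≫ (a • 𝟙 Y) ≫ e.inv = a • 𝟙 X := by
      intro X Y e
      rw [Linear.smul_comp (R := A), Category.id_comp, Linear.comp_smul (R := A), e.hom_inv_id]
    exact gen e'
  rw [h1, Functor.map_comp, Functor.map_comp, h2, Linear.smul_comp (R := A), Category.id_comp,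
    Linear.comp_smul (R := A), ← Functor.map_comp, e.inv_hom_id, CategoryTheory.Functor.map_id]

end Linear

section Base

/-- the free module of rank one. -/
abbrev PA : ModuleCat.{u} A := ModuleCat.of A A

lemma kq_nil : Kq A [] = dsgl (PA A) := rfl

lemma locFrA : LocFr (GrothendieckTopology.trivial Pt) (frConst (PA A)) :=
  locFr_const (PA A) (Groth.Agent.Lib.Helper17.DBrown.isSeparator_of_self A)

/-- `cm` is injective for the free module of rank one. -/
lemma eq_zero_of_cm_eq_zero (N : DA A) (m : ℤ) (ξ : dsgl (PA A) ⟶ N⟦m⟧) (h : cm ξ = 0) :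
    ξ = 0 := by
  obtain ⟨T, hT, hT'⟩ := exists_cover_eq_zero_cm.{u + 1, u} (locFrA A) N m ⟨PUnit.unit⟩ ξ h
  have hT0 : T = ⊤ := (GrothendieckTopology.trivial_covering).1 hT
  have h1 := hT' (𝟙 _) (by rw [hT0]; trivial)
  dsimp only [res] at h1
  rw [CategoryTheory.Functor.map_id, CategoryTheory.Functor.map_id,
    CategoryTheory.Functor.map_id] at h1
  exact (Category.id_comp ξ).symm.trans h1

/-- `cm` is surjective for the free module of rank one. -/
lemma exists_cm_eq (N : DA A) (m : ℤ)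
    (s : PA A ⟶ (homologyFunctor (ModuleCat.{u} A) m).obj N) :
    ∃ ξ : dsgl (PA A) ⟶ N⟦m⟧, cm ξ = s := by
  obtain ⟨T, hT, hT'⟩ := exists_lift_cm (locFrA A) N m ⟨PUnit.unit⟩ s
  have hT0 : T = ⊤ := (GrothendieckTopology.trivial_covering).1 hT
  obtain ⟨ξ, hξ⟩ := hT' (𝟙 _) (by rw [hT0]; trivial)
  refine ⟨ξ, hξ.trans ?_⟩
  rw [CategoryTheory.Functor.map_id]
  exact Category.id_comp s

theorem isZero_homology_iff (N : DA A) (m : ℤ) :
    IsZero ((homologyFunctor (ModuleCat.{u} A) m).obj N) ↔ ∀ ξ : Kq A [] ⟶ N⟦m⟧, ξ = 0 := by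
  constructor
  · intro hz ξ
    exact eq_zero_of_cm_eq_zero A N m ξ (hz.eq_of_tgt _ _)
  · intro h
    rw [IsZero.iff_id_eq_zero]
    apply (locFrA A).gen
    intro U s
    obtain ⟨ξ, hξ⟩ := exists_cm_eq A N m s
    have h0 : ξ = 0 := h ξ
    rw [Category.comp_id, ← hξ, h0, cm_zero]

/-- the cohomology modules of `N` are `f`-power torsion. -/
def TorsH (f : A) (N : DA A) : Prop :=
  ∀ (i : ℤ) (x : ((homologyFunctor (ModuleCat.{u} A) i).obj N : ModuleCat.{u} A)),
    ∃ k : ℕ, f ^ k • x = 0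

theorem homTors_nil (f : A) (N : DA A) (h : TorsH A f N) : HomTors f (Kq A []) N := by
  intro m ξ
  obtain ⟨k, hk⟩ := h m ((cm (P := PA A) ξ).hom (1 : A))
  refine ⟨k, ?_⟩
  apply eq_zero_of_cm_eq_zero A N m
  have h1 : f ^ k • ξ = ξ ≫ (f ^ k • 𝟙 N)⟦m⟧' := by
    rw [Functor.map_smul, CategoryTheory.Functor.map_id, Linear.comp_smul, Category.comp_id]
  have h2 : cm (P := PA A) (f ^ k • ξ) = cm (P := PA A) (ξ ≫ (f ^ k • 𝟙 N)⟦m⟧') :=
    congrArg (cm (P := PA A)) h1
  rw [h2, cm_comp, homology_map_smul_id, Linear.comp_smul, Category.comp_id]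
  ext
  change (f ^ k • (cm (P := PA A) ξ).hom) (1 : A) = 0
  rw [LinearMap.smul_apply]
  exact hk

end Base

section Induction

/-- torsion of the `Hom` groups out of Koszul complexes. -/
theorem homTors_Kq (f : A) (N : DA A) (h : TorsH A f N) : ∀ l : List A, HomTors f (Kq A l) N
  | [] => homTors_nil A f N h
  | g :: l => by
    obtain ⟨q, w, hT⟩ := exists_triangle A g l
    exact (homTors_Kq f N h l).obj₃ hT

/-- if the cohomology of `N` is torsion for the elements of `l` and `Hom(K(l), N[m]) = 0`, then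
`H^m(N) = 0`. -/
theorem isZero_homology_of_hom_Kq_eq_zero : ∀ (l : List A) (N : DA A),
    (∀ f ∈ l, TorsH A f N) → ∀ m : ℤ, (∀ φ : Kq A l ⟶ N⟦m⟧, φ = 0) →
      IsZero ((homologyFunctor (ModuleCat.{u} A) m).obj N)
  | [], N, _, m, h => (isZero_homology_iff A N m).2 h
  | g :: l, N, ht, m, h => by
    obtain ⟨q, w, hT⟩ := exists_triangle A g l
    have htg : TorsH A g N := ht g List.mem_cons_self
    refine isZero_homology_of_hom_Kq_eq_zero l N
      (fun f hf => ht f (List.mem_cons_of_mem _ hf)) m ?_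
    exact hom_eq_zero_of_cone hT (homTors_Kq A g N htg l) m h

/-- `Hom(K(l), N[m]) = 0` for `N ∈ D^{≤ c}` and `m > c + r`. -/
theorem hom_Kq_eq_zero_of_isLE : ∀ (l : List A) (N : DA A) (c : ℤ), N.IsLE c →
    ∀ m : ℤ, c + (l.length : ℤ) < m → ∀ φ : Kq A l ⟶ N⟦m⟧, φ = 0
  | [], N, c, hN, m, hm => by
    haveI := hN
    exact (isZero_homology_iff A N m).1 (isZero_of_isLE N c m (by simpa using hm))
  | g :: l, N, c, hN, m, hm => by
    obtain ⟨q, w, hT⟩ := exists_triangle A g l
    have hm' : c + (l.length : ℤ) + 1 < m := by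
      have : ((g :: l).length : ℤ) = (l.length : ℤ) + 1 := by simp
      omega
    exact hom_obj₃_eq_zero hT m (hom_Kq_eq_zero_of_isLE l N c hN m (by omega))
      (hom_Kq_eq_zero_of_isLE l N c hN (m - 1) (by omega))

/-- Koszul complexes live in degrees `≤ 0`. -/
theorem isLE_Kq : ∀ l : List A, (Kq A l).IsLE 0
  | [] => by
    change (dsgl (PA A)).IsLE 0
    infer_instance
  | g :: l => by
    obtain ⟨q, w, hT⟩ := exists_triangle A g l
    haveI := isLE_Kq l
    haveI h0 : TStructure.t.IsLE ((Kq A l)⟦(1 : ℤ)⟧) (-1) :=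
      TStructure.t.isLE_shift (Kq A l) 0 1 (-1) (by omega)
    have h1 : TStructure.t.IsLE ((Kq A l)⟦(1 : ℤ)⟧) 0 :=
      TStructure.t.isLE_of_le _ (-1) 0 (by omega)
    exact TStructure.t.isLE₂ _ (rot_of_distTriang _ hT) 0 (isLE_Kq l) h1

end Induction

end Groth.Agent.Lib.Helper17.KosOrth
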