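import Groth.Agent.Lib.Helper17KosOrth3
import Groth.Agent.Lib.Helper23ModLocal
import Groth.Prelude.Def_Wider

/-!
# Torsion modules and restriction to the punctured spectrum (helper17)
-/

set_option autoImplicit false
set_option linter.style.haveILetI false

universe u

open CategoryTheory CategoryTheory.Limits AlgebraicGeometry

namespace Groth.Agent.Lib.Helper17.KosOrth

section General

variable {R : CommRingCat.{u}}

/-- sections of `M~` over opens inside `D(f)` vanish when `M` is `f`-power torsion. -/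
theorem tilde_section_eq_zero (M : ModuleCat.{u} R) (f : R)
    (hM : ∀ m : M, ∃ k : ℕ, f ^ k • m = 0)
    (W : (Spec R).Opens) (hW : W ≤ PrimeSpectrum.basicOpen f)
    (s : Γ(tilde M, W)) : s = 0 := by
  refine Groth.Agent.Lib.Helper2.QcPush.section_eq_zero_of_cover _ W s fun x hx => ?_
  obtain ⟨_, ⟨g, rfl⟩, hxg, hgW⟩ :=
    PrimeSpectrum.isTopologicalBasis_basic_opens.exists_subset_of_mem_open hx W.2
  have hgW' : (PrimeSpectrum.basicOpen g : (Spec R).Opens) ≤ W := hgW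
  refine ⟨PrimeSpectrum.basicOpen g, hgW', hxg, ?_⟩
  obtain ⟨⟨m, c⟩, hmc⟩ := IsLocalizedModule.surj (Submonoid.powers g)
    (tilde.toOpen M (PrimeSpectrum.basicOpen g)).hom ((tilde M).presheaf.map (homOfLE hgW').op s)
  obtain ⟨k, hk⟩ := hM m
  have hregf : IsSMulRegular Γ(tilde M, (PrimeSpectrum.basicOpen g : (Spec R).Opens)) f :=
    Scheme.Modules.isSMulRegular_of_le_basicOpen (hgW'.trans hW)
  have hregg : IsSMulRegular Γ(tilde M, (PrimeSpectrum.basicOpen g : (Spec R).Opens)) g :=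
    Scheme.Modules.isSMulRegular_of_le_basicOpen le_rfl
  have h1 : (tilde.toOpen M (PrimeSpectrum.basicOpen g)).hom m = 0 := by
    refine hregf.pow k ?_
    change f ^ k • _ = f ^ k • (0 : Γ(tilde M, (PrimeSpectrum.basicOpen g : (Spec R).Opens)))
    rw [smul_zero]
    exact ((tilde.toOpen M (PrimeSpectrum.basicOpen g)).hom.map_smul (f ^ k) m).symm.trans
      (by rw [hk, map_zero]; rfl)
  obtain ⟨n, hn⟩ := c.2
  have hn' : g ^ n = (c : R) := hn
  change c • _ = (tilde.toOpen M (PrimeSpectrum.basicOpen g)).hom m at hmc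
  rw [h1, Submonoid.smul_def, ← hn'] at hmc
  refine hregg.pow n ?_
  change g ^ n • _ = g ^ n • (0 : Γ(tilde M, (PrimeSpectrum.basicOpen g : (Spec R).Opens)))
  rw [smul_zero]
  exact hmc

/-- if the image of `m` in `Γ(M~, W)` vanishes and `D(f) ≤ W`, then `m` is `f`-power torsion. -/
theorem tors_of_toOpen_eq_zero (M : ModuleCat.{u} R) (f : R) (m : M) (W : (Spec R).Opens)
    (hle : (PrimeSpectrum.basicOpen f : (Spec R).Opens) ≤ W)
    (h0 : (tilde.toOpen M W).hom m = 0) : ∃ k : ℕ, f ^ k • m = 0 := by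
  have h1 : (tilde.toOpen M (PrimeSpectrum.basicOpen f)).hom m = 0 := by
    have h2 : (tilde.toOpen M (PrimeSpectrum.basicOpen f)).hom m =
        ((modulesSpecToSheaf.obj (tilde M)).presheaf.map (homOfLE hle).op).hom
          ((tilde.toOpen M W).hom m) := rfl
    rw [h2, h0]
    exact (ModuleCat.Hom.hom
      ((modulesSpecToSheaf.obj (tilde M)).presheaf.map (homOfLE hle).op)).map_zero
  obtain ⟨c, hc⟩ := (IsLocalizedModule.eq_zero_iff (Submonoid.powers f)
    (tilde.toOpen M (PrimeSpectrum.basicOpen f)).hom).1 h1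
  obtain ⟨k, hk⟩ := c.2
  refine ⟨k, ?_⟩
  have hk' : f ^ k = (c : R) := hk
  rw [hk']
  exact hc

end General

section Punctured

variable (A : Type u) [CommRing A] (fs : List A)

/-- the punctured spectrum. -/
abbrev UA : (Spec (CommRingCat.of A)).Opens := LocCoh.puncturedOpen A (Ideal.span {a | a ∈ fs})

lemma mem_UA_iff (x : Spec (CommRingCat.of A)) :
    x ∈ UA A fs ↔ ∃ f ∈ fs, x ∈ (PrimeSpectrum.basicOpen f : (Spec (CommRingCat.of A)).Opens) := by
  have h : x ∈ UA A fs ↔ ¬ ((show PrimeSpectrum A from x) ∈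
      PrimeSpectrum.zeroLocus (R := A) ((Ideal.span {a | a ∈ fs} : Ideal A) : Set A)) := Iff.rfl
  rw [h, PrimeSpectrum.zeroLocus_span, PrimeSpectrum.mem_zeroLocus, Set.not_subset]
  constructor
  · rintro ⟨f, hf, hfx⟩
    exact ⟨f, hf, hfx⟩
  · rintro ⟨f, hf, hfx⟩
    exact ⟨f, hf, hfx⟩

lemma basicOpen_le_UA (f : A) (hf : f ∈ fs) :
    (PrimeSpectrum.basicOpen f : (Spec (CommRingCat.of A)).Opens) ≤ UA A fs :=
  fun x hx => (mem_UA_iff A fs x).2 ⟨f, hf, hx⟩

/-- sections of `M~` over opens of the punctured spectrum vanish for a torsion module. -/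
theorem tilde_section_eq_zero_of_le_UA (M : ModuleCat.{u} (CommRingCat.of A))
    (hM : ∀ f ∈ fs, ∀ m : M, ∃ k : ℕ, f ^ k • m = 0)
    (W : (Spec (CommRingCat.of A)).Opens) (hW : W ≤ UA A fs)
    (s : Γ(tilde M, W)) : s = 0 := by
  refine Groth.Agent.Lib.Helper2.QcPush.section_eq_zero_of_cover _ W s fun x hx => ?_
  obtain ⟨f, hf, hxf⟩ := (mem_UA_iff A fs x).1 (hW hx)
  refine ⟨W ⊓ (PrimeSpectrum.basicOpen f : (Spec (CommRingCat.of A)).Opens), inf_le_left,
    ⟨hx, hxf⟩, ?_⟩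
  exact tilde_section_eq_zero M f (hM f hf) _ inf_le_right _

theorem isZero_restrict_tilde_of_tors (M : ModuleCat.{u} (CommRingCat.of A))
    (hM : ∀ f ∈ fs, ∀ m : M, ∃ k : ℕ, f ^ k • m = 0) :
    IsZero ((tilde M).restrict (UA A fs).ι) := by
  refine Groth.Agent.Lib.Helper23.ModLocal.isZero_of_forall_eq_zero fun V s => ?_
  exact tilde_section_eq_zero_of_le_UA A fs M hM ((UA A fs).ι ''ᵁ V) ((UA A fs).ι_image_le V) s

theorem tors_of_isZero_restrict_tilde (M : ModuleCat.{u} (CommRingCat.of A))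
    (h : IsZero ((tilde M).restrict (UA A fs).ι)) :
    ∀ f ∈ fs, ∀ m : M, ∃ k : ℕ, f ^ k • m = 0 := by
  intro f hf m
  have hle : (PrimeSpectrum.basicOpen f : (Spec (CommRingCat.of A)).Opens) ≤
      (UA A fs).ι ''ᵁ ((UA A fs).ι ⁻¹ᵁ (PrimeSpectrum.basicOpen f)) := by
    rw [Scheme.Hom.image_preimage_eq_opensRange_inf, Scheme.Opens.opensRange_ι]
    exact le_inf (basicOpen_le_UA A fs f hf) le_rfl
  have h0 : (tilde.toOpen M ((UA A fs).ι ''ᵁ ((UA A fs).ι ⁻¹ᵁ (PrimeSpectrum.basicOpen f)))).hom m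
      = 0 :=
    Groth.Agent.Lib.Helper23.ModLocal.eq_zero_of_isZero h
      ((UA A fs).ι ⁻¹ᵁ (PrimeSpectrum.basicOpen f)) _
  exact tors_of_toOpen_eq_zero (R := CommRingCat.of A) M f m _ hle h0

end Punctured

end Groth.Agent.Lib.Helper17.KosOrth
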