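import Mathlib.CategoryTheory.Triangulated.Yoneda

/-!
# Vanishing of `Hom(K⟦k⟧, -)` along distinguished triangles (helper17)

`Orth K k Y` says that every morphism `K⟦k⟧ ⟶ Y` vanishes.
-/

set_option autoImplicit false

universe v u

open CategoryTheory CategoryTheory.Limits Pretriangulated

namespace Groth.Agent.Lib.Helper17.KosOrth

variable {C : Type u} [Category.{v} C] [HasZeroObject C] [HasShift C ℤ]
  [Preadditive C] [∀ n : ℤ, (shiftFunctor C n).Additive] [Pretriangulated C]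

/-- every morphism `K⟦k⟧ ⟶ Y` vanishes. -/
def Orth (K : C) (k : ℤ) (Y : C) : Prop := ∀ φ : K⟦k⟧ ⟶ Y, φ = 0

lemma Orth.of_iso {K : C} {k : ℤ} {Y Y' : C} (e : Y ≅ Y') (h : Orth K k Y) : Orth K k Y' := by
  intro φ
  have h1 := h (φ ≫ e.inv)
  rw [← cancel_mono e.inv, h1, zero_comp]

lemma Orth.of_isZero {K : C} {k : ℤ} {Y : C} (h : IsZero Y) : Orth K k Y :=
  fun _ => h.eq_of_tgt _ _

lemma orth_shift_iff (K Y : C) (k s k' : ℤ) (h : k' + s = k) :
    Orth K k (Y⟦s⟧) ↔ Orth K k' Y := by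
  constructor
  · intro hO ψ
    have h1 := hO ((shiftFunctorAdd' C k' s k h).hom.app K ≫ ψ⟦s⟧')
    have h2 : ψ⟦s⟧' = 0 := by
      rw [← cancel_epi ((shiftFunctorAdd' C k' s k h).hom.app K), h1, comp_zero]
    apply (shiftFunctor C s).map_injective
    rw [h2, Functor.map_zero]
  · intro hO φ
    obtain ⟨ψ, hψ⟩ := (shiftFunctor C s).map_surjective
      ((shiftFunctorAdd' C k' s k h).inv.app K ≫ φ)
    have h1 : ψ = 0 := hO ψ
    rw [h1, Functor.map_zero] at hψ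
    rw [← cancel_epi ((shiftFunctorAdd' C k' s k h).inv.app K), ← hψ, comp_zero]

/-- `Orth K k Y` in terms of maps `K ⟶ Y⟦m⟧`, `k + m = 0`. -/
lemma orth_iff (K Y : C) (k m : ℤ) (h : k + m = 0) :
    Orth K k Y ↔ ∀ ψ : K ⟶ Y⟦m⟧, ψ = 0 := by
  rw [← orth_shift_iff K Y 0 m k h]
  constructor
  · intro hO ψ
    have h1 := hO ((shiftFunctorZero C ℤ).hom.app K ≫ ψ)
    rw [← cancel_epi ((shiftFunctorZero C ℤ).hom.app K), h1, comp_zero]
  · intro hV φ
    have h1 := hV ((shiftFunctorZero C ℤ).inv.app K ≫ φ)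
    rw [← cancel_epi ((shiftFunctorZero C ℤ).inv.app K), h1, comp_zero]

variable {K : C} {k : ℤ} {T : Triangle C}

lemma Orth.obj₂ (hT : T ∈ distTriang C) (h1 : Orth K k T.obj₁) (h3 : Orth K k T.obj₃) :
    Orth K k T.obj₂ := by
  intro φ
  obtain ⟨χ, hχ⟩ := Triangle.coyoneda_exact₂ T hT φ (h3 _)
  rw [hχ, h1 χ, zero_comp]

lemma Orth.obj₃ (hT : T ∈ distTriang C) (h2 : Orth K k T.obj₂) (h1 : Orth K (k - 1) T.obj₁) :
    Orth K k T.obj₃ :=
  Orth.obj₂ (T := T.rotate) (rot_of_distTriang _ hT) h2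
    ((orth_shift_iff K T.obj₁ k 1 (k - 1) (by omega)).2 h1)

lemma Orth.obj₁ (hT : T ∈ distTriang C) (h2 : Orth K k T.obj₂) (h3 : Orth K (k + 1) T.obj₃) :
    Orth K k T.obj₁ :=
  Orth.obj₂ (T := T.invRotate) (inv_rot_of_distTriang _ hT)
    ((orth_shift_iff K T.obj₃ k (-1) (k + 1) (by omega)).2 h3) h2

end Groth.Agent.Lib.Helper17.KosOrth
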