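import Groth.Agent.Lib.Helper17DQAdj3
import Groth.Agent.Lib.Helper17GammaZSupp
import Groth.Agent.Lib.Helper1RpushRes
import Groth.Agent.Lib.Helper23ModLocal

/-!
# The unit `E ⟶ Rj_* j^* E` for objects supported inside an open (helper17)
-/

set_option autoImplicit false
set_option linter.style.haveILetI false
set_option maxHeartbeats 400000

universe w w' w'' v v' v'' u u' u''

open CategoryTheory CategoryTheory.Limits Opposite AlgebraicGeometry TopologicalSpace
  Pretriangulated ZeroObject

namespace Groth.Agent.Lib.Helper17.UnitSupp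

section General

open DerivedCategory

variable {A : Type u} [Category.{v} A] [Abelian A] [HasDerivedCategory.{w} A]
  {B : Type u'} [Category.{v'} B] [Abelian B] [HasDerivedCategory.{w'} B]
  {C : Type u''} [Category.{v''} C] [Abelian C] [HasDerivedCategory.{w''} C]

/-- `mapDerivedCategory` is compatible with composition (up to a natural isomorphism). -/
noncomputable def mapDerivedCategoryCompIso (F : A ⥤ B) (G : B ⥤ C) (H : A ⥤ C)
    [F.Additive] [PreservesFiniteLimits F] [PreservesFiniteColimits F]
    [G.Additive] [PreservesFiniteLimits G] [PreservesFiniteColimits G]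
    [H.Additive] [PreservesFiniteLimits H] [PreservesFiniteColimits H] (τ : H ≅ F ⋙ G) :
    H.mapDerivedCategory ≅ F.mapDerivedCategory ⋙ G.mapDerivedCategory :=
  Localization.liftNatIso Q (HomologicalComplex.quasiIso A (ComplexShape.up ℤ))
    (Q ⋙ H.mapDerivedCategory) (Q ⋙ F.mapDerivedCategory ⋙ G.mapDerivedCategory) _ _
    (H.mapDerivedCategoryFactors ≪≫
      Functor.isoWhiskerRight
        (Functor.mapHomologicalComplexCompIso τ.symm (ComplexShape.up ℤ)).symm Q ≪≫
      Functor.associator _ _ _ ≪≫
      Functor.isoWhiskerLeft _ G.mapDerivedCategoryFactors.symm ≪≫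
      (Functor.associator _ _ _).symm ≪≫
      Functor.isoWhiskerRight F.mapDerivedCategoryFactors.symm G.mapDerivedCategory ≪≫
      Functor.associator _ _ _)

lemma isZero_of_homology (X : DerivedCategory A)
    (h : ∀ n : ℤ, IsZero ((DerivedCategory.homologyFunctor A n).obj X)) : IsZero X := by
  haveI : IsIso (0 : X ⟶ 0) := by
    rw [DerivedCategory.isIso_iff]
    intro n
    exact ⟨⟨0, (h n).eq_of_src _ _,
      ((DerivedCategory.homologyFunctor A n).map_isZero (isZero_zero _)).eq_of_src _ _⟩⟩
  exact IsZero.of_iso (isZero_zero _) (asIso (0 : X ⟶ 0))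

end General

attribute [local instance] HasDerivedCategory.standard

open Groth.Agent.Lib.Helper17.MV Groth.Agent.Lib.Helper17.KInj Groth.Agent.Lib.Helper17.AffPush
  Groth.Agent.Lib.Helper17.QCPush Groth.Agent.Lib.Helper17.DQAdj

attribute [local instance] Groth.Agent.Lib.Helper17.QCPush.hasRpush

section Restrict

variable {A B C : Scheme.{u}}

/-- `(f ≫ g)^* ≅ g^* ⋙ f^*` on derived categories, for open immersions. -/
noncomputable def restrictDComp (f : A ⟶ B) (g : B ⟶ C) [IsOpenImmersion f] [IsOpenImmersion g] :
    DCoh.restrictD (f ≫ g) ≅ DCoh.restrictD g ⋙ DCoh.restrictD f :=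
  mapDerivedCategoryCompIso (Scheme.Modules.restrictFunctor g) (Scheme.Modules.restrictFunctor f)
    (Scheme.Modules.restrictFunctor (f ≫ g)) (Scheme.Modules.restrictFunctorComp f g)

/-- restriction only depends on the morphism. -/
noncomputable def restrictDCongr {f f' : A ⟶ B} [IsOpenImmersion f] [IsOpenImmersion f']
    (h : f = f') : DCoh.restrictD f ≅ DCoh.restrictD f' := by
  subst h
  exact Iso.refl _

end Restrict

section Local

variable {X : Scheme.{u}}

/-- a morphism of `D(O_X)` is an isomorphism if its restrictions to the members of a two-element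
open cover (by open immersions) are. -/
theorem isIso_of_isIso_restrictD {U V : Scheme.{u}} (i : U ⟶ X) (j : V ⟶ X) [IsOpenImmersion i]
    [IsOpenImmersion j] (hcov : ∀ x : X, (∃ y : U, i y = x) ∨ (∃ y : V, j y = x))
    {K L : DCoh.D X} (φ : K ⟶ L) (hU : IsIso ((DCoh.restrictD i).map φ))
    (hV : IsIso ((DCoh.restrictD j).map φ)) : IsIso φ := by
  obtain ⟨Z, g, h, hT⟩ := distinguished_cocone_triangle φ
  suffices hZ : IsZero Z from (Triangle.isZero₃_iff_isIso₁ _ hT).1 hZ
  apply isZero_of_homology
  intro n
  have key : ∀ {W : Scheme.{u}} (k : W ⟶ X) [IsOpenImmersion k],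
      IsIso ((DCoh.restrictD k).map φ) →
      IsZero ((Scheme.Modules.restrictFunctor k).obj
        ((DerivedCategory.homologyFunctor X.Modules n).obj Z)) := by
    intro W k _ hk
    have hT' := (DCoh.restrictD k).map_distinguished _ hT
    have hz : IsZero ((DCoh.restrictD k).obj Z) :=
      (Triangle.isZero₃_iff_isIso₁ _ hT').2 hk
    have hz' := (DerivedCategory.homologyFunctor W.Modules n).map_isZero hz
    exact IsZero.of_iso hz'
      (Groth.Agent.Lib.Helper17.AdjWay.homologyIso (Scheme.Modules.restrictFunctor k) Z n).symm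
  let W : Bool → Scheme.{u} := fun b => cond b U V
  let k : ∀ b, W b ⟶ X := fun b => match b with
    | true => i
    | false => j
  haveI : ∀ b, IsOpenImmersion (k b) := fun b => by
    cases b
    · exact inferInstanceAs (IsOpenImmersion j)
    · exact inferInstanceAs (IsOpenImmersion i)
  refine Groth.Agent.Lib.Helper23.ModLocal.isZero_of_isZero_restrict W k ?_ ?_
  · intro x
    rcases hcov x with ⟨y, hy⟩ | ⟨y, hy⟩
    · exact ⟨true, y, hy⟩
    · exact ⟨false, y, hy⟩
  · intro b
    cases b
    · exact key j hV
    · exact key i hU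

end Local

end Groth.Agent.Lib.Helper17.UnitSupp
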