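import Groth.Agent.Lib.Helper17KosOrth4
import Groth.Agent.Lib.Helper17KosOrth5
import Groth.Agent.Lib.Helper17DQAdj2
import Groth.Agent.Lib.Helper17UnitSupp1
import Groth.Agent.Lib.Helper17AdjWay1
import Groth.Agent.S0997

/-!
# The Koszul object on `Spec A` and orthogonality (helper17)
-/

set_option autoImplicit false
set_option linter.style.haveILetI false

universe u

open CategoryTheory CategoryTheory.Limits AlgebraicGeometry DerivedCategory Pretriangulated

attribute [local instance] HasDerivedCategory.standard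

namespace Groth.Agent.Lib.Helper17.KosOrth

open Groth.Agent.Lib.Helper17.DQAdj

variable (A : Type u) [CommRing A] (fs : List A)
  [PreservesFiniteLimits (tilde.functor (CommRingCat.of A))]

/-- the Koszul object of `D(O_X)`, `X = Spec A`. -/
noncomputable def Kz : DCoh.D (Spec (CommRingCat.of A)) :=
  (DCoh.tildeD (CommRingCat.of A)).obj (Kq A fs)

/-- `H^i(N~) = H^i(N)~`. -/
noncomputable def hIso (N : DA A) (i : ℤ) :
    DCoh.HD ((DCoh.tildeD (CommRingCat.of A)).obj N) i ≅
      tilde (R := CommRingCat.of A) ((homologyFunctor (ModuleCat.{u} A) i).obj N) :=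
  Groth.Agent.Lib.Helper17.AdjWay.homologyIso (tilde.functor (CommRingCat.of A)) N i

section Restrict

variable [PreservesFiniteLimits (Scheme.Modules.restrictFunctor (UA A fs).ι)]

/-- `H^i(E|_U) = H^i(E)|_U`. -/
noncomputable def rIso (E : DCoh.D (Spec (CommRingCat.of A))) (i : ℤ) :
    DCoh.HD ((DCoh.restrictD (UA A fs).ι).obj E) i ≅ (DCoh.HD E i).restrict (UA A fs).ι :=
  Groth.Agent.Lib.Helper17.AdjWay.homologyIso (Scheme.Modules.restrictFunctor (UA A fs).ι) E i

/-- `H^i(N~|_U) = H^i(N)~|_U`. -/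
noncomputable def rhIso (N : DA A) (i : ℤ) :
    DCoh.HD ((DCoh.restrictD (UA A fs).ι).obj ((DCoh.tildeD (CommRingCat.of A)).obj N)) i ≅
      (tilde (R := CommRingCat.of A)
        ((homologyFunctor (ModuleCat.{u} A) i).obj N)).restrict (UA A fs).ι :=
  rIso A fs _ i ≪≫ (Scheme.Modules.restrictFunctor (UA A fs).ι).mapIso (hIso A N i)

theorem isZero_restrictD_tildeD_iff (N : DA A) :
    IsZero ((DCoh.restrictD (UA A fs).ι).obj ((DCoh.tildeD (CommRingCat.of A)).obj N)) ↔
      ∀ f ∈ fs, TorsH A f N := by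
  constructor
  · intro hz f hf i x
    have h1 : IsZero (DCoh.HD ((DCoh.restrictD (UA A fs).ι).obj
        ((DCoh.tildeD (CommRingCat.of A)).obj N)) i) := (homologyFunctor _ i).map_isZero hz
    have h2 := IsZero.of_iso h1 (rhIso A fs N i).symm
    exact tors_of_isZero_restrict_tilde A fs _ h2 f hf x
  · intro h
    apply Groth.Agent.Lib.Helper17.UnitSupp.isZero_of_homology
    intro i
    refine IsZero.of_iso ?_ (rhIso A fs N i)
    exact isZero_restrict_tilde_of_tors A fs _ (fun f hf x => h f hf i x)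

omit [PreservesFiniteLimits (tilde.functor (CommRingCat.of A))]
  [PreservesFiniteLimits (Scheme.Modules.restrictFunctor (UA A fs).ι)] in
theorem torsH_Kq : ∀ f ∈ fs, TorsH A f (Kq A fs) := by
  intro f hf i x
  obtain ⟨k, hk⟩ := exists_pow_smul_id_eq_zero A fs f hf
  refine ⟨k, ?_⟩
  have h1 := homology_map_smul_id A (Kq A fs) (f ^ k) i
  rw [hk, Functor.map_zero] at h1
  have h2 := congrArg (fun φ => φ.hom x) h1
  exact h2.symm

theorem isZero_restrictD_Kz : IsZero ((DCoh.restrictD (UA A fs).ι).obj (Kz A fs)) :=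
  (isZero_restrictD_tildeD_iff A fs (Kq A fs)).2 (torsH_Kq A fs)

/-- `Hom(K⟦n⟧, Rj_* M) = 0`. -/
theorem orth_rpush [DCoh.HasRpush (UA A fs).ι] (n : ℤ) (M : DCoh.D ((UA A fs : Scheme.{u}))) :
    Orth (Kz A fs) n ((DCoh.Rpush (UA A fs).ι).obj M) := by
  intro φ
  have hz : IsZero ((DCoh.restrictD (UA A fs).ι).obj ((Kz A fs)⟦n⟧)) :=
    IsZero.of_iso ((shiftFunctor _ n).map_isZero (isZero_restrictD_Kz A fs))
      (((DCoh.restrictD (UA A fs).ι).commShiftIso n).app (Kz A fs))
  exact ((adjD (UA A fs).ι).homEquiv _ _).symm.injective (hz.eq_of_src _ _)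

end Restrict

end Groth.Agent.Lib.Helper17.KosOrth
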