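import Groth.Agent.Lib.Helper17KosOrth6

/-!
# Transfer of Koszul orthogonality between `D(A)` and `D_QCoh(Spec A)` (helper17)
-/

set_option autoImplicit false
set_option linter.style.haveILetI false

universe u

open CategoryTheory CategoryTheory.Limits AlgebraicGeometry DerivedCategory Pretriangulated

attribute [local instance] HasDerivedCategory.standard

namespace Groth.Agent.Lib.Helper17.KosOrth

open Groth.Agent.Lib.Helper17.DQAdj

variable (A : Type u) [CommRing A] (fs : List A)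
  [PreservesFiniteLimits (tilde.functor (CommRingCat.of A))]

/-- transfer of vanishing of `Hom` groups along the fully faithful functor `N ↦ N~`. -/
theorem transfer (N : DA A) (m : ℤ) :
    (∀ ψ : Kq A fs ⟶ N⟦m⟧, ψ = 0) ↔
      (∀ φ : Kz A fs ⟶ ((DCoh.tildeD (CommRingCat.of A)).obj N)⟦m⟧, φ = 0) := by
  obtain ⟨hfull, hfaith, -⟩ := Groth.Agent.S0997.result (CommRingCat.of A)
  haveI := hfull
  haveI := hfaith
  let e := ((DCoh.tildeD (CommRingCat.of A)).commShiftIso m).app N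
  constructor
  · intro h φ
    obtain ⟨ψ, hψ⟩ := (DCoh.tildeD (CommRingCat.of A)).map_surjective (φ ≫ e.inv)
    rw [h ψ, Functor.map_zero] at hψ
    rw [← cancel_mono e.inv]
    exact hψ.symm.trans zero_comp.symm
  · intro h ψ
    have h1 := h ((DCoh.tildeD (CommRingCat.of A)).map ψ ≫ e.hom)
    have h2 : (DCoh.tildeD (CommRingCat.of A)).map ψ = 0 := by
      rw [← cancel_mono e.hom]
      exact h1.trans zero_comp.symm
    apply (DCoh.tildeD (CommRingCat.of A)).map_injective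
    rw [h2, Functor.map_zero]

/-- the same, in terms of `Orth`. -/
theorem orth_tildeD_iff (N : DA A) (m : ℤ) :
    Orth (Kz A fs) (-m) ((DCoh.tildeD (CommRingCat.of A)).obj N) ↔
      ∀ ψ : Kq A fs ⟶ N⟦m⟧, ψ = 0 := by
  rw [orth_iff _ _ (-m) m (by omega)]
  exact (transfer A fs N m).symm

theorem exists_tildeD_iso (Y : DCoh.D (Spec (CommRingCat.of A))) (hY : DCoh.IsQCohD Y) :
    ∃ N : DA A, Nonempty ((DCoh.tildeD (CommRingCat.of A)).obj N ≅ Y) :=
  ((Groth.Agent.S0997.result (CommRingCat.of A)).2.2 Y).1 hY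

omit [PreservesFiniteLimits (tilde.functor (CommRingCat.of A))] in
lemma isZero_of_isZero_tilde (M : ModuleCat.{u} (CommRingCat.of A))
    (h : IsZero ((tilde.functor (CommRingCat.of A)).obj M)) : IsZero M := by
  rw [IsZero.iff_id_eq_zero]
  haveI : (tilde.functor (CommRingCat.of A)).Faithful :=
    (tilde.fullyFaithfulFunctor (R := CommRingCat.of A)).faithful
  apply (tilde.functor (CommRingCat.of A)).map_injective
  rw [CategoryTheory.Functor.map_id, Functor.map_zero]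
  exact (IsZero.iff_id_eq_zero _).1 h

/-- `Hom(K⟦-n⟧, Y) = 0` for `Y ∈ D^{≥ c}`, `n < c`. -/
theorem orth_of_isGE (Y : DCoh.D (Spec (CommRingCat.of A))) (c : ℤ) [Y.IsGE c] (n : ℤ)
    (hn : n < c) : Orth (Kz A fs) (-n) Y := by
  intro φ
  haveI : (Kq A fs).IsLE 0 := isLE_Kq A fs
  haveI h0 : (Kz A fs).IsLE 0 :=
    Groth.Agent.Lib.Helper17.AdjWay.isLE_map (tilde.functor (CommRingCat.of A)) (Kq A fs) 0
  haveI h1 : TStructure.t.IsLE ((Kz A fs)⟦-n⟧) n :=
    TStructure.t.isLE_shift (Kz A fs) 0 (-n) n (by omega)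
  exact TStructure.t.zero_of_isLE_of_isGE φ n c hn h1 inferInstance

/-- `Hom(K⟦-m⟧, Y) = 0` for `Y ∈ D_QCoh^{≤ c}`, `m > c + r`. -/
theorem orth_of_isLE (Y : DCoh.D (Spec (CommRingCat.of A))) (hY : DCoh.IsQCohD Y) (c : ℤ)
    [Y.IsLE c] (m : ℤ) (hm : c + (fs.length : ℤ) < m) : Orth (Kz A fs) (-m) Y := by
  obtain ⟨N, ⟨e⟩⟩ := exists_tildeD_iso A Y hY
  refine Orth.of_iso e ?_
  rw [orth_tildeD_iff]
  have hN : N.IsLE c := by
    rw [isLE_iff]
    intro i hi
    apply isZero_of_isZero_tilde A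
    refine IsZero.of_iso ?_ (hIso A N i).symm
    exact IsZero.of_iso (isZero_of_isLE Y c i hi) ((homologyFunctor _ i).mapIso e)
  exact hom_Kq_eq_zero_of_isLE A fs N c hN m hm

/-- if `C` is quasi-coherent, restricts to zero on the punctured spectrum and
`Hom(K⟦-m⟧, C) = 0`, then `H^m(C) = 0`. -/
theorem isZero_HD_of_orth [PreservesFiniteLimits (Scheme.Modules.restrictFunctor (UA A fs).ι)]
    (C : DCoh.D (Spec (CommRingCat.of A))) (hC : DCoh.IsQCohD C)
    (hz : IsZero ((DCoh.restrictD (UA A fs).ι).obj C)) (m : ℤ) (h : Orth (Kz A fs) (-m) C) :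
    IsZero (DCoh.HD C m) := by
  obtain ⟨N, ⟨e⟩⟩ := exists_tildeD_iso A C hC
  have h1 : ∀ ψ : Kq A fs ⟶ N⟦m⟧, ψ = 0 :=
    (orth_tildeD_iff A fs N m).1 (Orth.of_iso e.symm h)
  have h2 : ∀ f ∈ fs, TorsH A f N :=
    (isZero_restrictD_tildeD_iff A fs N).1
      (IsZero.of_iso hz ((DCoh.restrictD (UA A fs).ι).mapIso e))
  have h3 := isZero_homology_of_hom_Kq_eq_zero A fs N h2 m h1
  refine IsZero.of_iso ?_ ((homologyFunctor _ m).mapIso e.symm ≪≫ hIso A N m)
  exact (tilde.functor (CommRingCat.of A)).map_isZero h3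

end Groth.Agent.Lib.Helper17.KosOrth
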