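import Groth.Agent.Lib.Helper17KosOrth8

/-!
# Koszul orthogonality on `Spec A`: the second clause of the `τ_{≥ a}` statement (helper17)
-/

set_option autoImplicit false
set_option linter.style.haveILetI false
set_option maxHeartbeats 400000

universe u

open CategoryTheory CategoryTheory.Limits AlgebraicGeometry DerivedCategory Pretriangulated

attribute [local instance] HasDerivedCategory.standard

namespace Groth.Agent.Lib.Helper17.KosOrth

open Groth.Agent.Lib.Helper17.DQAdj Groth.Agent.Lib.Helper17.AffPush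
  Groth.Agent.Lib.Helper17.QCPush Groth.Agent.S14388 Groth.Agent.Lib.Helper17.WayOut

variable (A : Type u) [CommRing A] (fs : List A)
  [PreservesFiniteLimits (tilde.functor (CommRingCat.of A))]
  [PreservesFiniteLimits (Scheme.Modules.restrictFunctor (UA A fs).ι)]
  [DCoh.HasRpush (UA A fs).ι]
  (adj : DCoh.restrictD (UA A fs).ι ⊣ DCoh.Rpush (UA A fs).ι)

/-- `Rj_* j^* E`. -/
noncomputable abbrev RE (E : DCoh.D (Spec (CommRingCat.of A))) : DCoh.D (Spec (CommRingCat.of A)) :=
  (DCoh.Rpush (UA A fs).ι).obj ((DCoh.restrictD (UA A fs).ι).obj E)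

omit [PreservesFiniteLimits (tilde.functor (CommRingCat.of A))] in
lemma isQCohD_RE (E : DCoh.D (Spec (CommRingCat.of A))) (hE : DCoh.IsQCohD E) :
    DCoh.IsQCohD (RE A fs E) :=
  isQCohD_rpush _ _ (isQCohD_restrictD' _ E hE)

lemma orth_truncGE_RE (E : DCoh.D (Spec (CommRingCat.of A))) (hE : DCoh.IsQCohD E)
    (a n : ℤ) (hn : a + (fs.length : ℤ) ≤ n) :
    Orth (Kz A fs) (-n) ((tt.truncGE a).obj (RE A fs E)) := by
  have hRle := isQCohD_truncLE _ (a - 1) (isQCohD_RE A fs E hE)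
  have hT' := tt.triangleLEGE_distinguished (a - 1) a (by omega) (RE A fs E)
  refine Orth.obj₃ (T := (tt.triangleLEGE (a - 1) a (by omega)).obj (RE A fs E)) hT'
    (orth_rpush A fs (-n) _) ?_
  haveI : ((tt.truncLE (a - 1)).obj (RE A fs E)).IsLE (a - 1) :=
    inferInstanceAs (tt.IsLE ((tt.truncLE (a - 1)).obj _) (a - 1))
  have h4 := orth_of_isLE A fs _ hRle (a - 1) (n + 1) (by omega)
  have h5 : -(n + 1) = -n - 1 := by omega
  rw [h5] at h4
  exact h4

/-- **S1096, second clause.** -/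
theorem orth_of_isIso_truncGE (E : DCoh.D (Spec (CommRingCat.of A))) (hE : DCoh.IsQCohD E)
    (a : ℤ) (h : IsIso ((tt.truncGE a).map (adj.unit.app E))) (n : ℤ)
    (hn : a + (fs.length : ℤ) ≤ n) : Orth (Kz A fs) (-n) E := by
  obtain ⟨Y, f, w, hT, hY⟩ := (tt.isIso_truncGE_map_iff (adj.unit.app E) (a - 1) a (by omega)).1 h
  haveI : Y.IsLE (a - 1) := hY
  have hRge : DCoh.IsQCohD ((tt.truncGE a).obj (RE A fs E)) :=
    isQCohD_truncGE _ a (isQCohD_RE A fs E hE)
  have hYq : DCoh.IsQCohD Y := isQCohD_obj₁ (Triangle.mk f (adj.unit.app E ≫ (tt.truncGEπ a).app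
    (RE A fs E)) w) hT hE hRge
  have h1 : Orth (Kz A fs) (-n) Y := orth_of_isLE A fs Y hYq (a - 1) n (by omega)
  have h3 := orth_truncGE_RE A fs E hE a n hn
  exact Orth.obj₂ (T := Triangle.mk f (adj.unit.app E ≫ (tt.truncGEπ a).app (RE A fs E)) w)
    hT h1 h3

end Groth.Agent.Lib.Helper17.KosOrth
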