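import Groth.Agent.Lib.Helper17KosOrth3

/-!
# Sections factor through Koszul complexes on powers, in `D(A)` (helper17)
-/

set_option autoImplicit false
set_option linter.style.haveILetI false

universe v u

open CategoryTheory CategoryTheory.Limits DerivedCategory Pretriangulated

attribute [local instance] HasDerivedCategory.standard

namespace Groth.Agent.Lib.Helper17.KosOrth

section General

variable {R : Type*} [CommRing R] {C : Type u} [Category.{v} C] [HasZeroObject C] [HasShift C ℤ]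
  [Preadditive C] [∀ n : ℤ, (shiftFunctor C n).Additive] [Pretriangulated C] [Linear R C]
  [∀ n : ℤ, (shiftFunctor C n).Linear R]

/-- every map `X ⟶ N⟦m⟧` is killed by a power of `f`. -/
def HomTorsAt (f : R) (X N : C) (m : ℤ) : Prop :=
  ∀ φ : X ⟶ N⟦m⟧, ∃ k : ℕ, f ^ k • φ = 0

theorem HomTorsAt.obj₃ {f : R} {X X' N : C} {g₁ : X ⟶ X} {q : X ⟶ X'} {w : X' ⟶ X⟦(1 : ℤ)⟧}
    (hT : Triangle.mk g₁ q w ∈ distTriang C) (m : ℤ) (h : HomTorsAt f X N m)
    (h' : HomTorsAt f X N (m - 1)) : HomTorsAt f X' N m := by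
  intro φ
  obtain ⟨k, hk⟩ := h (q ≫ φ)
  have h1 : q ≫ (f ^ k • φ) = 0 := by rw [Linear.comp_smul, hk]
  obtain ⟨g, hg⟩ : ∃ g : X⟦(1 : ℤ)⟧ ⟶ N⟦m⟧, f ^ k • φ = w ≫ g :=
    Triangle.yoneda_exact₃ _ hT (f ^ k • φ) h1
  obtain ⟨g', hg'⟩ := exists_shift_preimage X N m g
  obtain ⟨k', hk'⟩ := h' g'
  refine ⟨k' + k, ?_⟩
  rw [pow_add, mul_smul, hg, hg']
  have h2 : f ^ k' • (w ≫ g'⟦(1 : ℤ)⟧' ≫ (shiftFunctorAdd' C (m - 1) 1 m (by omega)).inv.app N) =
      w ≫ (f ^ k' • g')⟦(1 : ℤ)⟧' ≫ (shiftFunctorAdd' C (m - 1) 1 m (by omega)).inv.app N := by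
    rw [Functor.map_smul, Linear.smul_comp, Linear.comp_smul]
  rw [h2, hk', Functor.map_zero, zero_comp, comp_zero]

end General

variable (A : Type u) [CommRing A]

/-- the canonical map `K(l) ⟶ K(f :: l)`. -/
noncomputable def qK (f : A) (l : List A) : Kq A l ⟶ Kq A (f :: l) :=
  (Q : CochainComplex (ModuleCat.{u} A) ℤ ⥤ DA A).map
    (CochainComplex.mappingCone.inr (f • 𝟙 (Koszul.koszul A l)))

theorem triangle_qK (f : A) (l : List A) :
    ∃ w : Kq A (f :: l) ⟶ (Kq A l)⟦(1 : ℤ)⟧,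
      Triangle.mk (f • 𝟙 (Kq A l)) (qK A f l) w ∈ distTriang (DA A) := by
  let φ : Koszul.koszul A l ⟶ Koszul.koszul A l := f • 𝟙 _
  have hT : (Q : CochainComplex (ModuleCat.{u} A) ℤ ⥤ DA A).mapTriangle.obj
      (CochainComplex.mappingCone.triangle φ) ∈
      distTriang (DA A) := (mem_distTriang_iff _).2 ⟨_, _, φ, ⟨Iso.refl _⟩⟩
  have h1 : (Q : CochainComplex (ModuleCat.{u} A) ℤ ⥤ DA A).map φ = f • 𝟙 (Kq A l) := by
    dsimp only [φ, Kq]
    rw [Functor.map_smul, CategoryTheory.Functor.map_id]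
    rfl
  refine ⟨((Q : CochainComplex (ModuleCat.{u} A) ℤ ⥤ DA A).mapTriangle.obj
    (CochainComplex.mappingCone.triangle φ)).mor₃, ?_⟩
  rw [← h1]
  exact hT

/-- the canonical map `A = K([]) ⟶ K(l)`. -/
noncomputable def tK : (l : List A) → (Kq A [] ⟶ Kq A l)
  | [] => 𝟙 _
  | f :: l => tK l ≫ qK A f l

lemma tK_cons (f : A) (l : List A) : tK A (f :: l) = tK A l ≫ qK A f l := rfl

/-- `H^i(N)` is `f`-power torsion for `lo ≤ i ≤ hi`. -/
def TorsR (f : A) (N : DA A) (lo hi : ℤ) : Prop :=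
  ∀ i : ℤ, lo ≤ i → i ≤ hi →
    ∀ x : ((homologyFunctor (ModuleCat.{u} A) i).obj N : ModuleCat.{u} A), ∃ k : ℕ, f ^ k • x = 0

theorem homTorsAt_nil (f : A) (N : DA A) (m : ℤ)
    (h : ∀ x : ((homologyFunctor (ModuleCat.{u} A) m).obj N : ModuleCat.{u} A),
      ∃ k : ℕ, f ^ k • x = 0) : HomTorsAt f (Kq A []) N m := by
  intro ξ
  obtain ⟨k, hk⟩ := h ((Groth.Agent.Lib.Helper17.Hyp.cm (P := PA A) ξ).hom (1 : A))
  refine ⟨k, ?_⟩
  apply eq_zero_of_cm_eq_zero A N m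
  have h1 : f ^ k • ξ = ξ ≫ (f ^ k • 𝟙 N)⟦m⟧' := by
    rw [Functor.map_smul, CategoryTheory.Functor.map_id, Linear.comp_smul, Category.comp_id]
  have h2 : Groth.Agent.Lib.Helper17.Hyp.cm (P := PA A) (f ^ k • ξ) =
      Groth.Agent.Lib.Helper17.Hyp.cm (P := PA A) (ξ ≫ (f ^ k • 𝟙 N)⟦m⟧') :=
    congrArg (Groth.Agent.Lib.Helper17.Hyp.cm (P := PA A)) h1
  rw [h2, Groth.Agent.Lib.Helper17.Hyp.cm_comp, homology_map_smul_id, Linear.comp_smul,
    Category.comp_id]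
  ext
  change (f ^ k • (Groth.Agent.Lib.Helper17.Hyp.cm (P := PA A) ξ).hom) (1 : A) = 0
  rw [LinearMap.smul_apply]
  exact hk

/-- maps `K(l) ⟶ N⟦m⟧` are `f`-power torsion as soon as `H^i(N)` is for `m - |l| ≤ i ≤ m`. -/
theorem homTorsAt_Kq (f : A) (N : DA A) : ∀ (l : List A) (m : ℤ),
    TorsR A f N (m - (l.length : ℤ)) m → HomTorsAt f (Kq A l) N m
  | [], m, h => homTorsAt_nil A f N m (h m (by simp) le_rfl)
  | g :: l, m, h => by
    obtain ⟨w, hT⟩ := triangle_qK A g l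
    have hlen : ((g :: l).length : ℤ) = (l.length : ℤ) + 1 := by simp
    refine HomTorsAt.obj₃ hT m (homTorsAt_Kq f N l m ?_) (homTorsAt_Kq f N l (m - 1) ?_)
    · intro i h1 h2
      exact h i (by omega) h2
    · intro i h1 h2
      exact h i (by omega) (by omega)

/-- `l'` is obtained from `l` by raising each entry to some power. -/
inductive IsPow : List A → List A → Prop
  | nil : IsPow [] []
  | cons (f : A) (k : ℕ) {l l' : List A} : IsPow l l' → IsPow (f :: l) (f ^ k :: l')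

variable {A} in
lemma IsPow.length_eq {l l' : List A} (h : IsPow A l l') : l'.length = l.length := by
  induction h with
  | nil => rfl
  | cons f k _ ih => simp [ih]

/-- the entries of `l₁` are multiples of the corresponding entries of `l₂`. -/
inductive IsMul : List A → List A → Prop
  | nil : IsMul [] []
  | cons (a b : A) {l₁ l₂ : List A} : IsMul l₁ l₂ → IsMul (a * b :: l₁) (b :: l₂)

variable {A} in
lemma IsPow.exists_isMul {l l' : List A} (h : IsPow A l l') :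
    ∃ e₀ : ℕ, ∀ e : ℕ, e₀ ≤ e → IsMul A (l.map (fun a => a ^ e)) l' := by
  induction h with
  | nil => exact ⟨0, fun e _ => IsMul.nil⟩
  | cons f k _ ih =>
    obtain ⟨e₀, he₀⟩ := ih
    refine ⟨max e₀ k, fun e he => ?_⟩
    have h1 : f ^ e = f ^ (e - k) * f ^ k := by
      rw [← pow_add, Nat.sub_add_cancel ((le_max_right _ _).trans he)]
    rw [List.map_cons, h1]
    exact IsMul.cons _ _ (he₀ e ((le_max_left _ _).trans he))

variable {A} in
/-- transition maps between Koszul complexes, compatible with the canonical maps from `A`. -/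
theorem IsMul.exists_transition {l₁ l₂ : List A} (h : IsMul A l₁ l₂) :
    ∃ τ : Kq A l₁ ⟶ Kq A l₂, tK A l₁ ≫ τ = tK A l₂ := by
  induction h with
  | nil => exact ⟨𝟙 _, Category.comp_id _⟩
  | @cons a b l₁ l₂ _ ih =>
    obtain ⟨τ, hτ⟩ := ih
    obtain ⟨w₁, hT₁⟩ := triangle_qK A (a * b) l₁
    obtain ⟨w₂, hT₂⟩ := triangle_qK A b l₂
    have comm : ((a * b) • 𝟙 (Kq A l₁)) ≫ τ = (a • τ) ≫ (b • 𝟙 (Kq A l₂)) := by
      rw [Linear.smul_comp, Category.id_comp, Linear.comp_smul, Category.comp_id, ← mul_smul,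
        mul_comm]
    obtain ⟨c, hc⟩ : ∃ c : Kq A (a * b :: l₁) ⟶ Kq A (b :: l₂),
        qK A (a * b) l₁ ≫ c = τ ≫ qK A b l₂ := by
      obtain ⟨c, hc, -⟩ := complete_distinguished_triangle_morphism _ _ hT₁ hT₂ (a • τ) τ comm
      exact ⟨c, hc⟩
    refine ⟨c, ?_⟩
    rw [tK_cons, tK_cons, Category.assoc, hc, ← Category.assoc, hτ]

/-- a map `A ⟶ N⟦m⟧` factors through a Koszul complex on powers of the elements of `l` as soon
as `H^i(N)` is torsion for `m - |l| < i ≤ m`. -/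
theorem exists_factor (N : DA A) (m : ℤ) : ∀ (l : List A),
    (∀ g ∈ l, TorsR A g N (m - (l.length : ℤ) + 1) m) → ∀ s : Kq A [] ⟶ N⟦m⟧,
      ∃ l' : List A, IsPow A l l' ∧ ∃ ψ : Kq A l' ⟶ N⟦m⟧, tK A l' ≫ ψ = s
  | [], _, s => ⟨[], IsPow.nil, s, Category.id_comp s⟩
  | f :: l, h, s => by
    have hlen : ((f :: l).length : ℤ) = (l.length : ℤ) + 1 := by simp
    obtain ⟨l₀, hl₀, ψ₀, hψ₀⟩ := exists_factor N m l (fun g hg i h1 h2 =>
      h g (List.mem_cons_of_mem _ hg) i (by omega) h2) s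
    have hlen₀ : (l₀.length : ℤ) = (l.length : ℤ) := by rw [hl₀.length_eq]
    have htors : HomTorsAt f (Kq A l₀) N m := by
      refine homTorsAt_Kq A f N l₀ m ?_
      intro i h1 h2
      exact h f List.mem_cons_self i (by omega) h2
    obtain ⟨k, hk⟩ := htors ψ₀
    obtain ⟨w, hT⟩ := triangle_qK A (f ^ k) l₀
    have h1 : ((f ^ k) • 𝟙 (Kq A l₀)) ≫ ψ₀ = 0 := by
      rw [Linear.smul_comp, Category.id_comp]
      exact hk
    obtain ⟨ψ, hψ⟩ : ∃ ψ : Kq A (f ^ k :: l₀) ⟶ N⟦m⟧, ψ₀ = qK A (f ^ k) l₀ ≫ ψ :=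
      Triangle.yoneda_exact₂ _ hT ψ₀ h1
    refine ⟨f ^ k :: l₀, IsPow.cons f k hl₀, ψ, ?_⟩
    rw [tK_cons, Category.assoc, ← hψ, hψ₀]

/-- the same with a uniform exponent. -/
theorem exists_factor_pow (N : DA A) (m : ℤ) (l : List A)
    (h : ∀ g ∈ l, TorsR A g N (m - (l.length : ℤ) + 1) m) (s : Kq A [] ⟶ N⟦m⟧) :
    ∃ (e : ℕ) (ψ : Kq A (l.map (fun a => a ^ e)) ⟶ N⟦m⟧),
      tK A (l.map (fun a => a ^ e)) ≫ ψ = s := by
  obtain ⟨l', hl', ψ, hψ⟩ := exists_factor A N m l h s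
  obtain ⟨e₀, he₀⟩ := hl'.exists_isMul
  obtain ⟨τ, hτ⟩ := (he₀ e₀ le_rfl).exists_transition
  exact ⟨e₀, τ ≫ ψ, by rw [← Category.assoc, hτ, hψ]⟩

end Groth.Agent.Lib.Helper17.KosOrth
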