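import Groth.Agent.Lib.Helper17KosPow1
import Groth.Agent.Lib.Helper17KosOrth7

/-!
# Sections factor through Koszul complexes on powers, on `Spec A` (helper17)
-/

set_option autoImplicit false
set_option linter.style.haveILetI false

universe u

open CategoryTheory CategoryTheory.Limits AlgebraicGeometry DerivedCategory Pretriangulated

attribute [local instance] HasDerivedCategory.standard

namespace Groth.Agent.Lib.Helper17.KosOrth

variable (A : Type u) [CommRing A] (fs : List A)
  [PreservesFiniteLimits (tilde.functor (CommRingCat.of A))]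

/-- `O_X` is the image of `A = K([])`. -/
noncomputable def isoO : (DCoh.tildeD (CommRingCat.of A)).obj (Kq A []) ≅
    DCoh.inD (Spec (CommRingCat.of A)) (Coh.structureModule (Spec (CommRingCat.of A))) :=
  ((tilde.functor (CommRingCat.of A)).mapDerivedCategorySingleFunctor 0).app
      (ModuleCat.of (CommRingCat.of A) A) ≪≫
    (DerivedCategory.singleFunctor _ 0).mapIso (tildeSelf (R := CommRingCat.of A))

theorem exists_factor_geom (E : DCoh.D (Spec (CommRingCat.of A))) (hE : DCoh.IsQCohD E)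
    (hU : ∀ i : ℤ, -(fs.length : ℤ) < i → i ≤ 0 →
      IsZero ((DCoh.HD E i).restrict (UA A fs).ι))
    (s : DCoh.inD (Spec (CommRingCat.of A)) (Coh.structureModule (Spec (CommRingCat.of A))) ⟶ E) :
    ∃ (e : ℕ) (ψ : (DCoh.tildeD (CommRingCat.of A)).obj (Kq A (fs.map (fun a => a ^ e))) ⟶ E)
      (t : DCoh.inD (Spec (CommRingCat.of A)) (Coh.structureModule (Spec (CommRingCat.of A))) ⟶
        (DCoh.tildeD (CommRingCat.of A)).obj (Kq A (fs.map (fun a => a ^ e)))),
      t ≫ ψ = s := by
  obtain ⟨hfull, -, -⟩ := Groth.Agent.S0997.result (CommRingCat.of A)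
  haveI := hfull
  obtain ⟨N, ⟨ε⟩⟩ := exists_tildeD_iso A E hE
  obtain ⟨s₀, hs₀⟩ := (DCoh.tildeD (CommRingCat.of A)).map_surjective
    ((isoO A).hom ≫ s ≫ ε.inv)
  have htors : ∀ g ∈ fs, TorsR A g N (0 - (fs.length : ℤ) + 1) 0 := by
    intro g hg i h1 h2 x
    have hz : IsZero ((tilde (R := CommRingCat.of A)
        ((homologyFunctor (ModuleCat.{u} A) i).obj N)).restrict (UA A fs).ι) := by
      refine IsZero.of_iso (hU i (by omega) h2) ?_
      exact (Scheme.Modules.restrictFunctor (UA A fs).ι).mapIso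
        ((hIso A N i).symm ≪≫ (homologyFunctor _ i).mapIso ε)
    exact tors_of_isZero_restrict_tilde A fs _ hz g hg x
  obtain ⟨e, ψ₀, hψ₀⟩ := exists_factor_pow A N 0 fs htors
    (s₀ ≫ (shiftFunctorZero (DA A) ℤ).inv.app N)
  refine ⟨e, (DCoh.tildeD (CommRingCat.of A)).map (ψ₀ ≫ (shiftFunctorZero (DA A) ℤ).hom.app N) ≫
    ε.hom, (isoO A).inv ≫ (DCoh.tildeD (CommRingCat.of A)).map (tK A _), ?_⟩
  have h1 : tK A (fs.map (fun a => a ^ e)) ≫ ψ₀ ≫ (shiftFunctorZero (DA A) ℤ).hom.app N = s₀ := by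
    rw [← Category.assoc, hψ₀, Category.assoc, Iso.inv_hom_id_app]
    exact Category.comp_id s₀
  rw [Category.assoc, ← Category.assoc ((DCoh.tildeD (CommRingCat.of A)).map _),
    ← Functor.map_comp, h1, hs₀]
  simp only [Category.assoc, Iso.inv_hom_id, Category.comp_id, Iso.inv_hom_id_assoc]

end Groth.Agent.Lib.Helper17.KosOrth
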