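import Mathlib.CategoryTheory.Functor.Derived.LeftDerived
import Mathlib.CategoryTheory.Functor.Derived.RightDerived
import Mathlib.CategoryTheory.Localization.Opposite

/-!
# Left derived functors via opposite categories (helper17)

A functor `F' : D ⥤ H` equipped with `α : L ⋙ F' ⟶ F` is a right Kan extension of `F` along `L`
as soon as `F'.op` equipped with `NatTrans.op α` is a left Kan extension of `F.op` along `L.op`.
-/

set_option autoImplicit false

universe v₁ v₂ v₃ u₁ u₂ u₃

open CategoryTheory CategoryTheory.Functor CategoryTheory.Limits Opposite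

namespace Groth.Agent.Lib.Helper17.LDer

variable {C : Type u₁} {D : Type u₂} {H : Type u₃}
  [Category.{v₁} C] [Category.{v₂} D] [Category.{v₃} H]

/-- the natural transformation `F.op ⟶ L.op ⋙ F'.op` attached to `α : L ⋙ F' ⟶ F`. -/
def opTrans {L : C ⥤ D} {F : C ⥤ H} {F' : D ⥤ H} (α : L ⋙ F' ⟶ F) : F.op ⟶ L.op ⋙ F'.op where
  app X := (α.app X.unop).op
  naturality X Y f := Quiver.Hom.unop_inj (by
    dsimp
    exact (α.naturality f.unop).symm)

@[simp]
lemma opTrans_app {L : C ⥤ D} {F : C ⥤ H} {F' : D ⥤ H} (α : L ⋙ F' ⟶ F) (X : Cᵒᵖ) :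
    (opTrans α).app X = (α.app X.unop).op := rfl

/-- A right Kan extension from a left Kan extension in the opposite categories. -/
theorem isRightKanExtension_of_op {L : C ⥤ D} {F : C ⥤ H} (F' : D ⥤ H) (α : L ⋙ F' ⟶ F)
    [F'.op.IsLeftKanExtension (opTrans α)] : F'.IsRightKanExtension α := by
  have key : ∀ (G : D ⥤ H) (β : L ⋙ G ⟶ F), ∃ γ : G ⟶ F', whiskerLeft L γ ≫ α = β := by
    intro G β
    let γ' : F'.op ⟶ G.op := F'.op.descOfIsLeftKanExtension (opTrans α) G.op (opTrans β)
    have hγ' : opTrans α ≫ whiskerLeft L.op γ' = opTrans β :=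
      F'.op.descOfIsLeftKanExtension_fac (opTrans α) G.op (opTrans β)
    refine ⟨NatTrans.removeOp γ', ?_⟩
    ext X
    have := congr_app hγ' (op X)
    dsimp at this ⊢
    exact Quiver.Hom.op_inj this
  have uniq : ∀ (G : D ⥤ H) (γ₁ γ₂ : G ⟶ F'),
      whiskerLeft L γ₁ ≫ α = whiskerLeft L γ₂ ≫ α → γ₁ = γ₂ := by
    intro G γ₁ γ₂ h
    have h' : NatTrans.op γ₁ = NatTrans.op γ₂ := by
      apply F'.op.hom_ext_of_isLeftKanExtension (opTrans α)
      ext X
      have := congr_app h X.unop
      dsimp at this ⊢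
      rw [← op_comp, ← op_comp, this]
    ext X
    have := congr_app h' (op X)
    exact Quiver.Hom.op_inj this
  refine ⟨⟨IsTerminal.ofUniqueHom
    (fun Y => CostructuredArrow.homMk (key Y.left Y.hom).choose (key Y.left Y.hom).choose_spec) ?_⟩⟩
  intro Y m
  apply CostructuredArrow.hom_ext
  apply uniq
  have h1 := (key Y.left Y.hom).choose_spec
  have h2 := CostructuredArrow.w m
  exact h2.trans h1.symm

/-- A left derived functor from a right derived functor in the opposite categories. -/
theorem isLeftDerivedFunctor_of_op {L : C ⥤ D} {F : C ⥤ H} (LF : D ⥤ H) (α : L ⋙ LF ⟶ F)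
    (W : MorphismProperty C) [L.IsLocalization W]
    [LF.op.IsRightDerivedFunctor (opTrans α) W.op] : LF.IsLeftDerivedFunctor α W := by
  haveI : LF.op.IsLeftKanExtension (opTrans α) :=
    Functor.IsRightDerivedFunctor.isLeftKanExtension (RF := LF.op) (α := opTrans α) (W := W.op)
  haveI := isRightKanExtension_of_op LF α
  exact ⟨inferInstance⟩

end Groth.Agent.Lib.Helper17.LDer
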