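import Groth.Agent.Lib.Helper17LDer5

/-!
# Towers for a left exact functor: the edge morphism `F(C n) ⟶ RⁿF(C 0)` (helper17)
-/

set_option autoImplicit false
set_option backward.isDefEq.respectTransparency false

universe v u v' u'

open CategoryTheory CategoryTheory.Limits

namespace Groth.Agent.Lib.Helper17.LDer

open RDer Groth.Agent.Lib.Helper17.RDerLib Groth.Agent.Lib.Helper17.DS

variable {A : Type u} [Category.{v} A] [Abelian A] [HasInjectiveResolutions A] [EnoughInjectives A]
  {B : Type u'} [Category.{v'} B] [Abelian B] (F : A ⥤ B) [F.Additive] [PreservesFiniteLimits F]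

namespace Tower

variable (tw : Tower A)

/-- the edge morphism `F(C n) ⟶ RⁿF(C 0)`. -/
noncomputable def beta (n : ℕ) : F.obj (tw.C n) ⟶ (F.rightDerived n).obj (tw.C 0) :=
  F.toRightDerivedZero.app (tw.C n) ≫ tw.chain F n 0 n (by omega)

variable {tw} in
lemma beta_naturality {tw' : Tower A} (φ : Hom tw tw') (n : ℕ) :
    F.map (φ.c n) ≫ tw'.beta F n = tw.beta F n ≫ (F.rightDerived n).map (φ.c 0) := by
  unfold beta
  rw [← Category.assoc, F.toRightDerivedZero.naturality, Category.assoc,
    chain_naturality F φ n 0 n (by omega), Category.assoc]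

instance isIso_beta_zero : IsIso (tw.beta F 0) := by
  unfold beta
  rw [chain_zero, Category.comp_id]
  infer_instance

section

variable (n : ℕ) (hT : ∀ j, j < n → acyc F (tw.T j))

include hT

lemma epi_beta (j : ℕ) (hj : j + 1 ≤ n) : Epi (tw.beta F (j + 1)) := by
  unfold beta
  haveI := epi_chain_zero F tw n hT j (j + 1) (by omega) hj
  exact epi_comp _ _

omit hT in
lemma map_p_beta (j : ℕ) : F.map (tw.p j) ≫ tw.beta F (j + 1) = 0 := by
  unfold beta
  rw [← Category.assoc, F.toRightDerivedZero.naturality, Category.assoc,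
    map_p_chain F tw j (j + 1) (by omega), comp_zero]

lemma exact_beta (j : ℕ) (hj : j + 1 ≤ n) :
    (ShortComplex.mk (F.map (tw.p j)) (tw.beta F (j + 1)) (map_p_beta F tw j)).Exact := by
  have hex := exact_chain_zero F tw n hT j (j + 1) (by omega) hj
  let e : ShortComplex.mk (F.map (tw.p j)) (tw.beta F (j + 1)) (map_p_beta F tw j) ≅
      ShortComplex.mk ((F.rightDerived 0).map (tw.p j)) (tw.chain F (j + 1) 0 (j + 1) (by omega))
        (map_p_chain F tw j (j + 1) (by omega)) :=
    ShortComplex.isoMk (asIso (F.toRightDerivedZero.app (tw.T j)))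
      (asIso (F.toRightDerivedZero.app (tw.C (j + 1)))) (Iso.refl _)
      (by
        dsimp
        exact (F.toRightDerivedZero.naturality (tw.p j)).symm)
      (by
        dsimp
        rw [Category.comp_id]
        rfl)
  exact (ShortComplex.exact_iff_of_iso e).2 hex

/-- vanishing of `R¹F` on the syzygies below the top. -/
lemma isZero_rd_one_C (hC : ∀ i, i ≠ n → IsZero ((F.rightDerived i).obj (tw.C 0)))
    (j : ℕ) (hj : j + 1 < n) : IsZero ((F.rightDerived 1).obj (tw.C j)) := by
  haveI := isIso_chain F tw n hT j 1 (1 + j) rfl (by omega) le_rfl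
  exact IsZero.of_iso (hC (1 + j) (by omega)) (asIso (tw.chain F j 1 (1 + j) rfl))

lemma epi_map_p (hC : ∀ i, i ≠ n → IsZero ((F.rightDerived i).obj (tw.C 0)))
    (j : ℕ) (hj : j + 1 < n) : Epi (F.map (tw.p j)) :=
  epi_map_g F (tw.sc j) (tw.shortExact j) (isZero_rd_one_C F tw n hT hC j hj)

omit hT in
lemma exact_map_sc (j : ℕ) :
    (ShortComplex.mk (F.map (tw.i j)) (F.map (tw.p j))
      (by rw [← F.map_comp, tw.zero, F.map_zero])).Exact := by
  haveI := (tw.shortExact j).mono_f
  exact (tw.shortExact j).exact.map_of_mono_of_preservesKernel F inferInstance inferInstance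

omit hT in
instance mono_map_i (j : ℕ) : Mono (F.map (tw.i j)) := by
  haveI : Mono (tw.i j) := (tw.shortExact j).mono_f
  infer_instance

omit hT in
lemma isZero_map_C_zero (hn : 0 < n)
    (hC : ∀ i, i ≠ n → IsZero ((F.rightDerived i).obj (tw.C 0))) : IsZero (F.obj (tw.C 0)) :=
  IsZero.of_iso (hC 0 (by omega)) (asIso (F.toRightDerivedZero.app (tw.C 0)))

omit hT in
lemma mono_map_d_zero (hn : 0 < n)
    (hC : ∀ i, i ≠ n → IsZero ((F.rightDerived i).obj (tw.C 0))) :
    Mono (F.map (tw.p 0 ≫ tw.i 1)) := by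
  haveI : Mono (F.map (tw.p 0)) :=
    (exact_map_sc F tw 0).mono_g ((isZero_map_C_zero F tw n hn hC).eq_of_src _ _)
  rw [F.map_comp]
  exact mono_comp _ _

/-- exactness of the complex `F(T •)` below the top. -/
lemma exact_map_d (hC : ∀ i, i ≠ n → IsZero ((F.rightDerived i).obj (tw.C 0)))
    (j : ℕ) (hj : j + 1 < n) :
    (ShortComplex.mk (F.map (tw.p j ≫ tw.i (j + 1))) (F.map (tw.p (j + 1) ≫ tw.i (j + 1 + 1)))
      (by rw [← F.map_comp, Category.assoc, ← Category.assoc (tw.i (j + 1)), tw.zero, zero_comp,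
        comp_zero, F.map_zero])).Exact := by
  haveI := epi_map_p F tw n hT hC j hj
  have h₀ := exact_map_sc F tw (j + 1)
  -- step 1
  let Sb : ShortComplex B := ShortComplex.mk (F.map (tw.p j ≫ tw.i (j + 1))) (F.map (tw.p (j + 1)))
    (by rw [← F.map_comp, Category.assoc, tw.zero, comp_zero, F.map_zero])
  have hb : Sb.Exact := by
    let φ : Sb ⟶ ShortComplex.mk (F.map (tw.i (j + 1))) (F.map (tw.p (j + 1)))
        (by rw [← F.map_comp, tw.zero, F.map_zero]) :=
      { τ₁ := F.map (tw.p j)
        τ₂ := 𝟙 _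
        τ₃ := 𝟙 _
        comm₁₂ := by
          dsimp [Sb]
          rw [Category.comp_id, F.map_comp]
        comm₂₃ := by
          dsimp [Sb]
          rw [Category.comp_id, Category.id_comp] }
    haveI : Epi φ.τ₁ := by dsimp [φ]; infer_instance
    haveI : IsIso φ.τ₂ := by dsimp [φ]; infer_instance
    haveI : Mono φ.τ₃ := by dsimp [φ]; infer_instance
    exact (ShortComplex.exact_iff_of_epi_of_isIso_of_mono φ).2 h₀
  let ψ : Sb ⟶ ShortComplex.mk (F.map (tw.p j ≫ tw.i (j + 1)))
      (F.map (tw.p (j + 1) ≫ tw.i (j + 1 + 1)))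
      (by rw [← F.map_comp, Category.assoc, ← Category.assoc (tw.i (j + 1)), tw.zero, zero_comp,
        comp_zero, F.map_zero]) :=
    { τ₁ := 𝟙 _
      τ₂ := 𝟙 _
      τ₃ := F.map (tw.i (j + 1 + 1))
      comm₁₂ := by
        dsimp [Sb]
        rw [Category.comp_id, Category.id_comp]
      comm₂₃ := by
        dsimp [Sb]
        rw [Category.id_comp, F.map_comp] }
  haveI : Epi ψ.τ₁ := by dsimp [ψ]; infer_instance
  haveI : IsIso ψ.τ₂ := by dsimp [ψ]; infer_instance
  haveI : Mono ψ.τ₃ := by dsimp [ψ]; infer_instance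
  exact (ShortComplex.exact_iff_of_epi_of_isIso_of_mono ψ).1 hb

end

end Tower

end Groth.Agent.Lib.Helper17.LDer
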