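import Groth.Agent.Lib.Helper17LDer8
import Groth.Agent.Lib.Helper17LDer6

/-!
# Truncated injective resolutions of complexes, functorially up to choices (helper17)

For an abelian category `A` with enough injectives and `n : ℕ`, every cochain complex `X` has a
resolution `0 ⟶ X ⟶ I⁰ ⟶ ⋯ ⟶ Iⁿ⁻¹ ⟶ Cⁿ ⟶ 0` in the category of complexes where the `Iʲ` are
discs on injective objects.  Its total complex `JJ X` receives a quasi-isomorphism from `X`, and
any morphism `X ⟶ Y` lifts.
-/

set_option autoImplicit false
set_option backward.isDefEq.respectTransparency false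

universe v u v' u'

open CategoryTheory CategoryTheory.Limits

namespace Groth.Agent.Lib.Helper17.LDer

open Groth.Agent.Lib.Helper17.Hull Groth.Agent.Lib.Helper17.Tot Groth.Agent.Lib.Helper17.DS

variable {A : Type u} [Category.{v} A] [Abelian A] [EnoughInjectives A]

local notation "upℤ" => ComplexShape.up ℤ

variable (n : ℕ)

/-- the hull data: discs on injective hulls for the first `n` steps. -/
noncomputable abbrev HHn : HullData (CochainComplex A ℤ) :=
  truncHull (fun Z : A => Injective.under Z) (fun Z : A => Injective.ι Z) n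

lemma hasLifts_HHn : HasLifts (HHn (A := A) n) := hasLifts_truncHull _ _ n

variable (X : CochainComplex A ℤ)

lemma isIso_emb_ge (j : ℕ) (hj : n ≤ j) : IsIso (emb (HHn n) X j) :=
  truncHull_map_isIso _ _ _ _ _ (by omega)

lemma isZero_cok_gt' (j : ℕ) (hj : n < j) : IsZero (cok (HHn n) X j) := by
  obtain ⟨j', rfl⟩ : ∃ j', j = j' + 1 := ⟨j - 1, by omega⟩
  exact isZero_cok_succ _ _ _ (truncHull_map_isIso _ _ _ _ _ (by omega))

lemma isZero_term_gt' (j : ℕ) (hj : n < j) : IsZero (term (HHn n) X j) := by
  haveI := isIso_emb_ge n X j (by omega)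
  exact IsZero.of_iso (isZero_cok_gt' n X j hj) (asIso (emb (HHn n) X j)).symm

lemma injective_term_lt (j : ℕ) (hj : j < n) (k : ℤ) : Injective ((term (HHn n) X j).X k) := by
  have e : term (HHn n) X j = discObj (fun Z : A => Injective.under Z) (cok (HHn n) X j) :=
    truncHull_obj_lt _ _ _ _ _ hj
  rw [e, discObj_X]
  infer_instance

/-- the truncated resolution of `X`. -/
noncomputable abbrev RRn : CochainComplex (CochainComplex A ℤ) ℕ := res (HHn n) X

/-- the double complex. -/
noncomputable abbrev DDn : HomologicalComplex₂ A upℤ upℤ :=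
  (RRn n X).extend ComplexShape.embeddingUpNat

/-- the identification of the outer terms of the double complex. -/
noncomputable def DDnXIso (j : ℕ) : (DDn n X).X (j : ℤ) ≅ term (HHn n) X j :=
  (RRn n X).extendXIso ComplexShape.embeddingUpNat (i := j) rfl

lemma isZero_DDn_X (p : ℤ) (hp : p < 0 ∨ (n : ℤ) < p) : IsZero ((DDn n X).X p) := by
  by_cases h0 : p < 0
  · apply HomologicalComplex.isZero_extend_X
    intro i hi
    have : (i : ℤ) = p := hi
    omega
  · obtain ⟨j, rfl⟩ : ∃ j : ℕ, (j : ℤ) = p := ⟨p.toNat, by omega⟩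
    exact IsZero.of_iso (isZero_term_gt' n X j (by omega)) (DDnXIso n X j)

instance finSupp_DDn : FinSupp upℤ (DDn n X) :=
  finSupp_of_outer_bounded _ 0 n (isZero_DDn_X n X)

lemma DDn_d (j : ℕ) : (DDn n X).d (j : ℤ) ((j + 1 : ℕ) : ℤ) =
    (DDnXIso n X j).hom ≫ dd (HHn n) X j ≫ (DDnXIso n X (j + 1)).inv := by
  rw [← res_d]
  exact (RRn n X).extend_d_eq ComplexShape.embeddingUpNat rfl rfl

/-- the source double complex: `X` in outer degree `0`. -/
noncomputable abbrev SSn : HomologicalComplex₂ A upℤ upℤ := SS X

/-- the morphism of double complexes. -/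
noncomputable abbrev φφn : SS X ⟶ DDn n X :=
  HomologicalComplex.extendMap (aug (HHn n) X) ComplexShape.embeddingUpNat

/-- the total complex of the truncated resolution. -/
noncomputable abbrev JJ : CochainComplex A ℤ := (DDn n X).total upℤ

/-- the quasi-isomorphism to the total complex. -/
noncomputable def toJJ : X ⟶ JJ n X :=
  (colIso X).hom ≫ colToTotal (SS X) (isZero_SS_X X) ≫
    HomologicalComplex₂.total.map (φφn n X) upℤ

instance quasiIso_toJJ : QuasiIso (toJJ n X) := by
  haveI : QuasiIso (φφn n X) := by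
    unfold φφn
    infer_instance
  haveI := quasiIso_total_map (φφn n X)
  haveI := isIso_colToTotal (SS X) (isZero_SS_X X)
  unfold toJJ
  infer_instance

section Functoriality

variable {X} {Y : CochainComplex A ℤ} (f : X ⟶ Y)

/-- the morphism of truncated resolutions. -/
noncomputable abbrev RRnMap : RRn n X ⟶ RRn n Y := liftRes (hasLifts_HHn n) f

/-- the morphism of double complexes. -/
noncomputable abbrev DDnMap : DDn n X ⟶ DDn n Y :=
  HomologicalComplex.extendMap (RRnMap n f) ComplexShape.embeddingUpNat

/-- the morphism on total complexes. -/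
noncomputable abbrev JJMap : JJ n X ⟶ JJ n Y := HomologicalComplex₂.total.map (DDnMap n f) upℤ

lemma DDnMap_f (j : ℕ) : (DDnMap n f).f (j : ℤ) =
    (DDnXIso n X j).hom ≫ liftT (hasLifts_HHn n) f j ≫ (DDnXIso n Y j).inv := by
  rw [← liftRes_f]
  exact HomologicalComplex.extendMap_f _ _ rfl

end Functoriality

end Groth.Agent.Lib.Helper17.LDer
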