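import Groth.Agent.Lib.Helper17LDer10

/-!
# Naturality of the quasi-isomorphism `X ⟶ JJ n X`, acyclicity of the terms of `JJ n X`
(helper17)
-/

set_option autoImplicit false
set_option backward.isDefEq.respectTransparency false

universe v u v' u'

open CategoryTheory CategoryTheory.Limits

namespace Groth.Agent.Lib.Helper17.LDer

open Groth.Agent.Lib.Helper17.Hull Groth.Agent.Lib.Helper17.Tot Groth.Agent.Lib.Helper17.DS

variable {A : Type u} [Category.{v} A] [Abelian A] [EnoughInjectives A]

local notation "upℤ" => ComplexShape.up ℤ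

section Nat

variable (n : ℕ) {X Y : CochainComplex A ℤ} (f : X ⟶ Y)

/-- the morphism between the source double complexes. -/
noncomputable abbrev SSMap : SS X ⟶ SS Y :=
  HomologicalComplex.extendMap ((CochainComplex.single₀ (CochainComplex A ℤ)).map f)
    ComplexShape.embeddingUpNat

lemma φφn_naturality : φφn n X ≫ DDnMap n f = SSMap f ≫ φφn n Y := by
  unfold φφn DDnMap SSMap
  rw [← HomologicalComplex.extendMap_comp, ← HomologicalComplex.extendMap_comp]
  congr 1
  exact aug_liftRes (hasLifts_HHn n) f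

lemma colIso_naturality : (colIso X).hom ≫ (SSMap f).f 0 = f ≫ (colIso Y).hom := by
  have h := HomologicalComplex.extendMap_f
    ((CochainComplex.single₀ (CochainComplex A ℤ)).map f) ComplexShape.embeddingUpNat
    (i := 0) (i' := 0) rfl
  rw [h]
  unfold colIso
  simp only [Iso.trans_hom, Iso.symm_hom, Category.assoc, Iso.inv_hom_id_assoc]
  erw [HomologicalComplex.single_map_f_self]
  simp only [Category.assoc, Iso.inv_hom_id_assoc]

lemma colToTotal_naturality {S S' : HomologicalComplex₂ A upℤ upℤ} [FinSupp upℤ S]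
    [FinSupp upℤ S'] (hS : ∀ p : ℤ, p ≠ 0 → IsZero (S.X p))
    (hS' : ∀ p : ℤ, p ≠ 0 → IsZero (S'.X p)) (φ : S ⟶ S') :
    φ.f 0 ≫ colToTotal S' hS' = colToTotal S hS ≫ HomologicalComplex₂.total.map φ upℤ := by
  ext k
  change (φ.f 0).f k ≫ S'.ιTotal upℤ 0 k k (zero_add k) =
    S.ιTotal upℤ 0 k k (zero_add k) ≫ (HomologicalComplex₂.total.map φ upℤ).f k
  rw [HomologicalComplex₂.ιTotal_map]

lemma toJJ_naturality : toJJ n X ≫ JJMap n f = f ≫ toJJ n Y := by
  unfold toJJ JJMap
  rw [Category.assoc, Category.assoc, ← HomologicalComplex₂.total.map_comp, φφn_naturality,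
    HomologicalComplex₂.total.map_comp,
    ← Category.assoc (colToTotal (SS X) (isZero_SS_X X)),
    ← colToTotal_naturality (isZero_SS_X X) (isZero_SS_X Y) (SSMap f),
    Category.assoc, ← Category.assoc (colIso X).hom, colIso_naturality, Category.assoc]

end Nat

section Acyc

variable {B : Type u'} [Category.{v'} B] [Abelian B] (F : A ⥤ B) [F.Additive]
  (n : ℕ) (hdim : ∀ (Z : A) (i : ℕ), n < i → IsZero ((F.rightDerived i).obj Z))
  (X : CochainComplex A ℤ)

lemma acyc_term_lt (j : ℕ) (hj : j < n) (k : ℤ) : acyc F ((term (HHn n) X j).X k) := by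
  haveI := injective_term_lt n X j hj k
  exact acyc_of_injective F _

include hdim in
lemma isZero_rd_cok (j : ℕ) (hj : j ≤ n) (k : ℤ) :
    ∀ i : ℕ, 1 ≤ i → n < i + j → IsZero ((F.rightDerived i).obj ((cok (HHn n) X j).X k)) := by
  induction j with
  | zero =>
    intro i _ hi
    exact hdim _ i (by omega)
  | succ j ih =>
    intro i hi1 hi
    have hS := (evalTower (HHn n) X k).shortExact j
    exact isZero_rd_X₃ F _ hS i (acyc_term_lt F n X j (by omega) k i (by omega))
      (ih (by omega) (i + 1) (by omega) (by omega))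

include hdim in
lemma acyc_term (j : ℕ) (k : ℤ) : acyc F ((term (HHn n) X j).X k) := by
  rcases Nat.lt_trichotomy j n with h | h | h
  · exact acyc_term_lt F n X j h k
  · subst h
    haveI := isIso_emb_ge j X j le_rfl
    refine acyc_of_iso F ((HomologicalComplex.eval A upℤ k).mapIso (asIso (emb (HHn j) X j))) ?_
    intro i hi
    exact isZero_rd_cok F j hdim X j le_rfl k i hi (by omega)
  · exact acyc_of_isZero F ((HomologicalComplex.eval A upℤ k).map_isZero
      (isZero_term_gt' n X j h))

include hdim in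
lemma acyc_DDn (p q : ℤ) : acyc F (((DDn n X).X p).X q) := by
  by_cases h0 : p < 0
  · exact acyc_of_isZero F ((HomologicalComplex.eval A upℤ q).map_isZero
      (isZero_DDn_X n X p (Or.inl h0)))
  · obtain ⟨j, rfl⟩ : ∃ j : ℕ, (j : ℤ) = p := ⟨p.toNat, by omega⟩
    exact acyc_of_iso F ((HomologicalComplex.eval A upℤ q).mapIso (DDnXIso n X j)).symm
      (acyc_term F n hdim X j q)

include hdim in
/-- the terms of `JJ n X` are `F`-acyclic. -/
theorem acyc_JJ (m : ℤ) : acyc F ((JJ n X).X m) :=
  prop_total (acyc F) (fun _ h => acyc_of_isZero F h) (fun _ _ e h => acyc_of_iso F e h)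
    (fun S hS h₁ h₃ => (acyc_h2 F S hS h₁).2 h₃) (DDn n X) (acyc_DDn F n hdim X) m

end Acyc

end Groth.Agent.Lib.Helper17.LDer
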