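import Groth.Agent.Lib.Helper17Tot12

/-!
# Total complexes of double complexes with finite antidiagonals commute with additive functors
(helper17)
-/

set_option autoImplicit false
set_option backward.isDefEq.respectTransparency false

universe v u v' u'

open CategoryTheory CategoryTheory.Limits

namespace Groth.Agent.Lib.Helper17.LDer

open Groth.Agent.Lib.Helper17.Tot

variable {C : Type u} [Category.{v} C] [Abelian C] {D : Type u'} [Category.{v'} D] [Abelian D]
  (Φ : C ⥤ D) [Φ.Additive]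

local notation "upℤ" => ComplexShape.up ℤ

/-- the image of a double complex by a functor. -/
noncomputable abbrev mapBi (K : HomologicalComplex₂ C upℤ upℤ) : HomologicalComplex₂ D upℤ upℤ :=
  ((Φ.mapHomologicalComplex upℤ).mapHomologicalComplex upℤ).obj K

/-- the image of a morphism of double complexes by a functor. -/
noncomputable abbrev mapBiMap {K L : HomologicalComplex₂ C upℤ upℤ} (φ : K ⟶ L) :
    mapBi Φ K ⟶ mapBi Φ L :=
  ((Φ.mapHomologicalComplex upℤ).mapHomologicalComplex upℤ).map φ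

instance finSupp_mapBi (K : HomologicalComplex₂ C upℤ upℤ) [FinSupp upℤ K] :
    FinSupp upℤ (mapBi Φ K) where
  fin m := by
    obtain ⟨S, hS⟩ := FinSupp.fin (c₁₂ := upℤ) (K := K) m
    exact ⟨S, fun p q hpq hn => Φ.map_isZero (hS p q hpq hn)⟩

section Proj

variable (K : HomologicalComplex₂ C upℤ upℤ) [FinSupp upℤ K]

/-- the projection of the total complex to a summand. -/
noncomputable def totalProj (p q m : ℤ) : (K.total upℤ).X m ⟶ (K.X p).X q :=
  K.totalDesc (fun p' q' _ => if h : p' = p ∧ q' = q then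
    (K.XXIsoOfEq _ _ _ h.1 h.2).hom else 0)

lemma ι_totalProj_self (p q m : ℤ) (h : p + q = m) :
    K.ιTotal upℤ p q m h ≫ totalProj K p q m = 𝟙 _ := by
  unfold totalProj
  rw [HomologicalComplex₂.ι_totalDesc, dif_pos ⟨rfl, rfl⟩]
  rfl

lemma ι_totalProj_ne (p q p' q' m : ℤ) (h : p' + q' = m) (hne : ¬ (p' = p ∧ q' = q)) :
    K.ιTotal upℤ p' q' m h ≫ totalProj K p q m = 0 := by
  unfold totalProj
  rw [HomologicalComplex₂.ι_totalDesc, dif_neg hne]

lemma sum_totalProj (m : ℤ) (S : Finset (ℤ × ℤ))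
    (hS : ∀ p q, p + q = m → (p, q) ∉ S → IsZero ((K.X p).X q)) :
    ∑ s ∈ S, totalProj K s.1 s.2 m ≫ K.ιTotalOrZero upℤ s.1 s.2 m = 𝟙 _ := by
  apply HomologicalComplex₂.total.hom_ext
  intro p q hpq
  have hpq' : p + q = m := hpq
  rw [Preadditive.comp_sum, Category.comp_id]
  by_cases hmem : (p, q) ∈ S
  · rw [Finset.sum_eq_single (p, q)]
    · dsimp only
      rw [← Category.assoc, ι_totalProj_self K p q m hpq', Category.id_comp,
        K.ιTotalOrZero_eq upℤ p q m hpq]
    · intro s _ hs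
      rw [← Category.assoc, ι_totalProj_ne K s.1 s.2 p q m hpq' (by
        rintro ⟨h1, h2⟩
        exact hs (Prod.ext h1.symm h2.symm)), zero_comp]
    · intro h
      exact absurd hmem h
  · exact (hS p q hpq' hmem).eq_of_src _ _

end Proj

section Comparison

variable (K : HomologicalComplex₂ C upℤ upℤ) [FinSupp upℤ K]

/-- the comparison morphism `Tot (Φ K) ⟶ Φ (Tot K)`. -/
noncomputable def totalComparison :
    (mapBi Φ K).total upℤ ⟶ (Φ.mapHomologicalComplex upℤ).obj (K.total upℤ) where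
  f m := (mapBi Φ K).totalDesc (fun p q h => Φ.map (K.ιTotal upℤ p q m h))
  comm' m m' hm := by
    obtain rfl : m + 1 = m' := hm
    apply HomologicalComplex₂.total.hom_ext
    intro p q hpq
    have hpq' : p + q = m := hpq
    have h1 : (p + 1) + q = m + 1 := by omega
    have h2 : p + (q + 1) = m + 1 := by omega
    have hR : (mapBi Φ K).ιTotal upℤ p q m hpq ≫ ((mapBi Φ K).total upℤ).d m (m + 1) ≫
        (mapBi Φ K).totalDesc (fun p q h => Φ.map (K.ιTotal upℤ p q (m + 1) h)) =
        ComplexShape.ε₁ upℤ upℤ upℤ (p, q) • (Φ.map ((K.d p (p + 1)).f q) ≫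
          Φ.map (K.ιTotal upℤ (p + 1) q (m + 1) h1)) +
        ComplexShape.ε₂ upℤ upℤ upℤ (p, q) • (Φ.map ((K.X p).d q (q + 1)) ≫
          Φ.map (K.ιTotal upℤ p (q + 1) (m + 1) h2)) := by
      rw [HomologicalComplex₂.total_d, Preadditive.add_comp, Preadditive.comp_add,
        HomologicalComplex₂.ι_D₁_assoc, HomologicalComplex₂.ι_D₂_assoc,
        HomologicalComplex₂.d₁_eq _ upℤ (show (upℤ).Rel p (p + 1) from rfl) q (m + 1) h1,
        HomologicalComplex₂.d₂_eq _ upℤ p (show (upℤ).Rel q (q + 1) from rfl) (m + 1) h2,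
        Linear.units_smul_comp, Linear.units_smul_comp, Category.assoc, Category.assoc,
        HomologicalComplex₂.ι_totalDesc, HomologicalComplex₂.ι_totalDesc]
      rfl
    have hL : K.ιTotal upℤ p q m hpq ≫ (K.total upℤ).d m (m + 1) =
        ComplexShape.ε₁ upℤ upℤ upℤ (p, q) • ((K.d p (p + 1)).f q ≫
          K.ιTotal upℤ (p + 1) q (m + 1) h1) +
        ComplexShape.ε₂ upℤ upℤ upℤ (p, q) • ((K.X p).d q (q + 1) ≫
          K.ιTotal upℤ p (q + 1) (m + 1) h2) := by
      rw [HomologicalComplex₂.total_d, Preadditive.comp_add,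
        HomologicalComplex₂.ι_D₁, HomologicalComplex₂.ι_D₂,
        HomologicalComplex₂.d₁_eq _ upℤ (show (upℤ).Rel p (p + 1) from rfl) q (m + 1) h1,
        HomologicalComplex₂.d₂_eq _ upℤ p (show (upℤ).Rel q (q + 1) from rfl) (m + 1) h2]
    rw [hR, HomologicalComplex₂.ι_totalDesc_assoc]
    change Φ.map (K.ιTotal upℤ p q m hpq) ≫ Φ.map ((K.total upℤ).d m (m + 1)) = _
    rw [← Φ.map_comp, hL, Φ.map_add, Φ.map_units_smul, Φ.map_units_smul, Φ.map_comp, Φ.map_comp]

lemma ι_totalComparison_f (p q m : ℤ) (h : p + q = m) :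
    (mapBi Φ K).ιTotal upℤ p q m h ≫ (totalComparison Φ K).f m =
      Φ.map (K.ιTotal upℤ p q m h) := by
  unfold totalComparison
  exact (mapBi Φ K).ι_totalDesc (fun p q h => Φ.map (K.ιTotal upℤ p q m h)) p q h

lemma ιOrZero_totalComparison_f (p q m : ℤ) :
    (mapBi Φ K).ιTotalOrZero upℤ p q m ≫ (totalComparison Φ K).f m =
      Φ.map (K.ιTotalOrZero upℤ p q m) := by
  by_cases h : p + q = m
  · rw [(mapBi Φ K).ιTotalOrZero_eq upℤ p q m h, K.ιTotalOrZero_eq upℤ p q m h,
      ι_totalComparison_f]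
  · rw [(mapBi Φ K).ιTotalOrZero_eq_zero upℤ p q m h, K.ιTotalOrZero_eq_zero upℤ p q m h,
      zero_comp, Φ.map_zero]

instance isIso_totalComparison_f (m : ℤ) : IsIso ((totalComparison Φ K).f m) := by
  obtain ⟨S, hS⟩ := FinSupp.fin (c₁₂ := upℤ) (K := K) m
  have hS' : ∀ p q, p + q = m → (p, q) ∉ S → IsZero ((K.X p).X q) := fun p q h => hS p q h
  refine ⟨⟨∑ s ∈ S, Φ.map (totalProj K s.1 s.2 m) ≫ (mapBi Φ K).ιTotalOrZero upℤ s.1 s.2 m,
    ?_, ?_⟩⟩
  · apply HomologicalComplex₂.total.hom_ext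
    intro p q hpq
    have hpq' : p + q = m := hpq
    rw [← Category.assoc, ι_totalComparison_f Φ K p q m hpq', Preadditive.comp_sum,
      Category.comp_id]
    by_cases hmem : (p, q) ∈ S
    · rw [Finset.sum_eq_single (p, q)]
      · dsimp only
        rw [← Category.assoc, ← Φ.map_comp, ι_totalProj_self K p q m hpq', Φ.map_id]
        exact (Category.id_comp _).trans ((mapBi Φ K).ιTotalOrZero_eq upℤ p q m hpq)
      · intro s _ hs
        rw [← Category.assoc, ← Φ.map_comp, ι_totalProj_ne K s.1 s.2 p q m hpq' (by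
          rintro ⟨h1, h2⟩
          exact hs (Prod.ext h1.symm h2.symm)), Φ.map_zero, zero_comp]
      · intro h
        exact absurd hmem h
    · exact (Φ.map_isZero (hS' p q hpq' hmem)).eq_of_src _ _
  · rw [Preadditive.sum_comp]
    simp only [Category.assoc, ιOrZero_totalComparison_f]
    simp only [← Φ.map_comp]
    rw [← Φ.map_sum, sum_totalProj K m S hS']
    exact Φ.map_id _

instance isIso_totalComparison : IsIso (totalComparison Φ K) :=
  HomologicalComplex.Hom.isIso_of_components _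

variable {K} in
lemma totalComparison_naturality {L : HomologicalComplex₂ C upℤ upℤ} [FinSupp upℤ L]
    (φ : K ⟶ L) :
    HomologicalComplex₂.total.map (mapBiMap Φ φ) upℤ ≫ totalComparison Φ L =
      totalComparison Φ K ≫
        (Φ.mapHomologicalComplex upℤ).map (HomologicalComplex₂.total.map φ upℤ) := by
  refine HomologicalComplex.hom_ext _ _ (fun m => ?_)
  apply HomologicalComplex₂.total.hom_ext
  intro p q hpq
  have hpq' : p + q = m := hpq
  rw [HomologicalComplex.comp_f, HomologicalComplex.comp_f,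
    HomologicalComplex₂.ιTotal_map_assoc, ← Category.assoc (f := (mapBi Φ K).ιTotal upℤ p q m hpq),
    ι_totalComparison_f Φ K p q m hpq', ι_totalComparison_f Φ L p q m hpq']
  change Φ.map ((φ.f p).f q) ≫ Φ.map _ = Φ.map _ ≫ Φ.map _
  rw [← Φ.map_comp, ← Φ.map_comp, HomologicalComplex₂.ιTotal_map]

end Comparison

end Groth.Agent.Lib.Helper17.LDer
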