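import Groth.Agent.Lib.Helper17LDer11
import Groth.Agent.Lib.Helper17LDer9

/-!
# The edge morphism `Tot (F (DDn n X)) ⟶ (RⁿF X)[-n]` (helper17)
-/

set_option autoImplicit false
set_option backward.isDefEq.respectTransparency false

universe v u v' u'

open CategoryTheory CategoryTheory.Limits

namespace Groth.Agent.Lib.Helper17.LDer

open Groth.Agent.Lib.Helper17.Hull Groth.Agent.Lib.Helper17.Tot Groth.Agent.Lib.Helper17.DS

local notation "upℤ" => ComplexShape.up ℤ

section General

variable {B : Type u'} [Category.{v'} B] [Abelian B]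

/-- a criterion for a morphism to a complex concentrated in degree `n` to be a
quasi-isomorphism. -/
lemma quasiIso_of_target_concentrated {K L : CochainComplex B ℤ} (φ : K ⟶ L) (n i : ℤ)
    (hi : i + 1 = n)
    (hL : ∀ m, m ≠ n → IsZero (L.X m)) (hK : ∀ m, m ≠ n → K.ExactAt m)
    (hKn : IsZero (K.X (n + 1))) [Epi (φ.f n)]
    (hex : (ShortComplex.mk (K.d i n) (φ.f n)
      (by rw [← φ.comm, (hL i (by omega)).eq_of_tgt (φ.f i) 0, zero_comp])).Exact) :
    QuasiIso φ := by
  rw [quasiIso_iff]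
  intro m
  by_cases hm : m = n
  · subst hm
    rw [quasiIsoAt_iff' φ i m (m + 1) (by simp; omega) (by simp),
      ShortComplex.quasiIso_iff_of_zeros' _ (hKn.eq_of_tgt _ _)
        ((hL i (by omega)).eq_of_src _ _) ((hL (m + 1) (by omega)).eq_of_tgt _ _)]
    exact ⟨hex, inferInstanceAs (Epi (φ.f m))⟩
  · rw [quasiIsoAt_iff_exactAt' φ m (ShortComplex.exact_of_isZero_X₂ _ (hL m hm))]
    exact hK m hm

end General

variable {A : Type u} [Category.{v} A] [Abelian A] [EnoughInjectives A]
  {B : Type u'} [Category.{v'} B] [Abelian B] (F : A ⥤ B) [F.Additive] [PreservesFiniteLimits F]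
  (n : ℕ) [(F.rightDerived n).Additive]

section Beta

variable (X : CochainComplex A ℤ)

/-- the edge morphism `F(Cⁿ) ⟶ RⁿF(X)` as a morphism of complexes. -/
noncomputable def betaCx :
    (F.mapHomologicalComplex upℤ).obj (cok (HHn n) X n) ⟶
      ((F.rightDerived n).mapHomologicalComplex upℤ).obj X where
  f p := (evalTower (HHn n) X p).beta F n
  comm' p p' _ := (Tower.beta_naturality F (evalTowerD (HHn n) X p p') n).symm

lemma betaCx_f (p : ℤ) : (betaCx F n X).f p = (evalTower (HHn n) X p).beta F n := rfl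

variable {X} in
lemma betaCx_naturality {Y : CochainComplex A ℤ} (f : X ⟶ Y) :
    (F.mapHomologicalComplex upℤ).map (liftC (hasLifts_HHn n) f n) ≫ betaCx F n Y =
      betaCx F n X ≫ ((F.rightDerived n).mapHomologicalComplex upℤ).map f := by
  ext p
  exact Tower.beta_naturality F (evalTowerMap (hasLifts_HHn n) f p) n

/-- the edge morphism from the top term. -/
noncomputable def piTop :
    (F.mapHomologicalComplex upℤ).obj (term (HHn n) X n) ⟶
      ((F.rightDerived n).mapHomologicalComplex upℤ).obj X :=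
  haveI := isIso_emb_ge n X n le_rfl
  (F.mapHomologicalComplex upℤ).map (inv (emb (HHn n) X n)) ≫ betaCx F n X

lemma emb_piTop :
    (F.mapHomologicalComplex upℤ).map (emb (HHn n) X n) ≫ piTop F n X = betaCx F n X := by
  haveI := isIso_emb_ge n X n le_rfl
  unfold piTop
  rw [← Category.assoc, ← Functor.map_comp, IsIso.hom_inv_id, CategoryTheory.Functor.map_id,
    Category.id_comp]

variable {X} in
@[reassoc]
lemma piTop_naturality {Y : CochainComplex A ℤ} (f : X ⟶ Y) :
    (F.mapHomologicalComplex upℤ).map (liftT (hasLifts_HHn n) f n) ≫ piTop F n Y =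
      piTop F n X ≫ ((F.rightDerived n).mapHomologicalComplex upℤ).map f := by
  haveI := isIso_emb_ge n X n le_rfl
  haveI := isIso_emb_ge n Y n le_rfl
  have h : liftT (hasLifts_HHn n) f n ≫ inv (emb (HHn n) Y n) =
      inv (emb (HHn n) X n) ≫ liftC (hasLifts_HHn n) f n := by
    rw [IsIso.comp_inv_eq, Category.assoc, ← emb_liftT, IsIso.inv_hom_id_assoc]
  unfold piTop
  rw [← Category.assoc, ← Functor.map_comp, h, Functor.map_comp, Category.assoc,
    betaCx_naturality, Category.assoc]

lemma map_dd_piTop (j : ℕ) (hj : j + 1 = n) :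
    (F.mapHomologicalComplex upℤ).map (dd (HHn n) X j ≫ eqToHom (by rw [hj])) ≫ piTop F n X =
      0 := by
  subst hj
  rw [eqToHom_refl, Category.comp_id]
  unfold dd
  rw [Functor.map_comp, Category.assoc, emb_piTop]
  ext p
  exact Tower.map_p_beta F (evalTower (HHn (j + 1)) X p) j

end Beta

section Pi

variable (X : CochainComplex A ℤ)

/-- the target double complex: `RⁿF(X)` placed in outer degree `n`. -/
noncomputable abbrev EE : HomologicalComplex₂ B upℤ upℤ :=
  (HomologicalComplex.single (CochainComplex B ℤ) upℤ (n : ℤ)).obj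
    (((F.rightDerived n).mapHomologicalComplex upℤ).obj X)

lemma isZero_EE_X (p : ℤ) (hp : p ≠ (n : ℤ)) : IsZero ((EE F n X).X p) :=
  HomologicalComplex.isZero_single_obj_X upℤ _ _ p hp

instance finSupp_EE : FinSupp upℤ (EE F n X) :=
  finSupp_of_outer_bounded _ n n (fun p hp => isZero_EE_X F n X p (by omega))

/-- the edge morphism from the top column. -/
noncomputable def piTop' : (mapBi F (DDn n X)).X (n : ℤ) ⟶
    ((F.rightDerived n).mapHomologicalComplex upℤ).obj X :=
  ((F.mapHomologicalComplex upℤ).map (DDnXIso n X n).hom ≫ piTop F n X :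
    (F.mapHomologicalComplex upℤ).obj ((DDn n X).X (n : ℤ)) ⟶ _)

lemma piTop'_eq : piTop' F n X =
    ((F.mapHomologicalComplex upℤ).map (DDnXIso n X n).hom ≫ piTop F n X :
    (F.mapHomologicalComplex upℤ).obj ((DDn n X).X (n : ℤ)) ⟶ _) := rfl

lemma d_piTop' (i : ℤ) (hi : i + 1 = (n : ℤ)) :
    (mapBi F (DDn n X)).d i (n : ℤ) ≫ piTop' F n X = 0 := by
  change (F.mapHomologicalComplex upℤ).map ((DDn n X).d i n) ≫
    (F.mapHomologicalComplex upℤ).map (DDnXIso n X n).hom ≫ piTop F n X = 0
  rcases n with _ | j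
  · refine IsZero.eq_of_src ?_ _ _
    exact (F.mapHomologicalComplex upℤ).map_isZero (isZero_DDn_X 0 X i (Or.inl (by
      have : i + 1 = ((0 : ℕ) : ℤ) := hi
      omega)))
  · obtain rfl : i = (j : ℤ) := by
      have : i + 1 = ((j + 1 : ℕ) : ℤ) := hi
      omega
    rw [DDn_d, ← Category.assoc, ← Functor.map_comp, Category.assoc, Category.assoc,
      Iso.inv_hom_id, Category.comp_id, Functor.map_comp, Category.assoc]
    have h := map_dd_piTop F (j + 1) X j rfl
    rw [eqToHom_refl, Category.comp_id] at h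
    rw [h, comp_zero]

variable {X} in
lemma piTop'_naturality {Y : CochainComplex A ℤ} (f : X ⟶ Y) :
    (mapBiMap F (DDnMap n f)).f (n : ℤ) ≫ piTop' F n Y =
      piTop' F n X ≫ ((F.rightDerived n).mapHomologicalComplex upℤ).map f := by
  change (F.mapHomologicalComplex upℤ).map ((DDnMap n f).f (n : ℤ)) ≫
    (F.mapHomologicalComplex upℤ).map (DDnXIso n Y n).hom ≫ piTop F n Y =
    ((F.mapHomologicalComplex upℤ).map (DDnXIso n X n).hom ≫ piTop F n X) ≫ _
  rw [DDnMap_f, ← Category.assoc, ← Functor.map_comp, Category.assoc, Category.assoc,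
    Iso.inv_hom_id, Category.comp_id, Functor.map_comp, Category.assoc, Category.assoc,
    piTop_naturality]

/-- the morphism of double complexes `F(DDn n X) ⟶ EE`. -/
noncomputable def piX : mapBi F (DDn n X) ⟶ EE F n X :=
  HomologicalComplex.mkHomToSingle (piTop' F n X) (fun i hi => d_piTop' F n X i hi)

lemma piX_f_top : (piX F n X).f (n : ℤ) =
    piTop' F n X ≫ (HomologicalComplex.singleObjXSelf upℤ (n : ℤ) _).inv :=
  HomologicalComplex.mkHomToSingle_f _ _

variable {X} in
lemma piX_naturality {Y : CochainComplex A ℤ} (f : X ⟶ Y) :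
    mapBiMap F (DDnMap n f) ≫ piX F n Y =
      piX F n X ≫ (HomologicalComplex.single (CochainComplex B ℤ) upℤ (n : ℤ)).map
        (((F.rightDerived n).mapHomologicalComplex upℤ).map f) := by
  apply HomologicalComplex.to_single_hom_ext
  rw [HomologicalComplex.comp_f, HomologicalComplex.comp_f, piX_f_top, piX_f_top,
    HomologicalComplex.single_map_f_self, ← Category.assoc, piTop'_naturality]
  simp only [Category.assoc, Iso.inv_hom_id_assoc]

end Pi

section Row

variable (X : CochainComplex A ℤ) (q : ℤ)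

/-- identification of the terms of the rows. -/
noncomputable def rowXIso (j : ℕ) :
    (row (mapBi F (DDn n X)) q).X (j : ℤ) ≅ F.obj ((term (HHn n) X j).X q) :=
  F.mapIso ((HomologicalComplex.eval A upℤ q).mapIso (DDnXIso n X j))

lemma row_d (j : ℕ) : (row (mapBi F (DDn n X)) q).d (j : ℤ) ((j + 1 : ℕ) : ℤ) =
    (rowXIso F n X q j).hom ≫ F.map ((dd (HHn n) X j).f q) ≫ (rowXIso F n X q (j + 1)).inv := by
  change F.map (((DDn n X).d (j : ℤ) ((j + 1 : ℕ) : ℤ)).f q) = F.map _ ≫ F.map _ ≫ F.map _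
  rw [DDn_d, ← F.map_comp, ← F.map_comp]
  rfl

lemma isZero_row_X (m : ℤ) (hm : m < 0 ∨ (n : ℤ) < m) :
    IsZero ((row (mapBi F (DDn n X)) q).X m) :=
  F.map_isZero ((HomologicalComplex.eval A upℤ q).map_isZero (isZero_DDn_X n X m hm))

/-- the top component of the morphism of rows. -/
noncomputable def rowTop : (row (mapBi F (DDn n X)) q).X (n : ℤ) ⟶ (row (EE F n X) q).X (n : ℤ) :=
  ((rowXIso F n X q n).hom ≫
      F.map ((HomologicalComplex.eval A upℤ q).map
        (haveI := isIso_emb_ge n X n le_rfl; inv (emb (HHn n) X n))) ≫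
      (evalTower (HHn n) X q).beta F n ≫
        (HomologicalComplex.eval B upℤ q).map
          (HomologicalComplex.singleObjXSelf upℤ (n : ℤ)
            (((F.rightDerived n).mapHomologicalComplex upℤ).obj X)).inv :
    F.obj (((DDn n X).X (n : ℤ)).X q) ⟶ ((EE F n X).X (n : ℤ)).X q)

lemma rowTop_eq : rowTop F n X q =
  ((rowXIso F n X q n).hom ≫
      F.map ((HomologicalComplex.eval A upℤ q).map
        (haveI := isIso_emb_ge n X n le_rfl; inv (emb (HHn n) X n))) ≫
      (evalTower (HHn n) X q).beta F n ≫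
        (HomologicalComplex.eval B upℤ q).map
          (HomologicalComplex.singleObjXSelf upℤ (n : ℤ)
            (((F.rightDerived n).mapHomologicalComplex upℤ).obj X)).inv :
    F.obj (((DDn n X).X (n : ℤ)).X q) ⟶ ((EE F n X).X (n : ℤ)).X q) := rfl

lemma rowMap_piX_f_top : (rowMap (piX F n X) q).f (n : ℤ) = rowTop F n X q := by
  change ((piX F n X).f (n : ℤ)).f q = _
  rw [piX_f_top, piTop'_eq, rowTop_eq]
  unfold piTop
  simp only [HomologicalComplex.comp_f, Category.assoc]
  rfl

variable (hq : ∀ i : ℕ, i ≠ n → IsZero ((F.rightDerived i).obj (X.X q)))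

include hq

lemma row_exactAt_succ (j : ℕ) (hj : j + 1 < n) :
    (row (mapBi F (DDn n X)) q).ExactAt ((j + 1 : ℕ) : ℤ) := by
  rw [HomologicalComplex.exactAt_iff' _ (j : ℤ) ((j + 1 : ℕ) : ℤ) ((j + 1 + 1 : ℕ) : ℤ)
    (by simp) (by simp)]
  have h := Tower.exact_map_d F (evalTower (HHn n) X q) n
    (fun j hj => acyc_term_lt F n X j hj q) hq j hj
  refine (ShortComplex.exact_iff_of_iso ?_).2 h
  refine ShortComplex.isoMk (rowXIso F n X q j) (rowXIso F n X q (j + 1))
    (rowXIso F n X q (j + 1 + 1)) ?_ ?_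
  · change (rowXIso F n X q j).hom ≫ F.map ((dd (HHn n) X j).f q) =
      (row (mapBi F (DDn n X)) q).d (j : ℤ) ((j + 1 : ℕ) : ℤ) ≫ (rowXIso F n X q (j + 1)).hom
    rw [row_d, Category.assoc, Category.assoc, Iso.inv_hom_id, Category.comp_id]
  · change (rowXIso F n X q (j + 1)).hom ≫ F.map ((dd (HHn n) X (j + 1)).f q) =
      (row (mapBi F (DDn n X)) q).d ((j + 1 : ℕ) : ℤ) ((j + 1 + 1 : ℕ) : ℤ) ≫
        (rowXIso F n X q (j + 1 + 1)).hom
    rw [row_d, Category.assoc, Category.assoc, Iso.inv_hom_id, Category.comp_id]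

lemma row_exactAt_zero (hn : 0 < n) :
    (row (mapBi F (DDn n X)) q).ExactAt ((0 : ℕ) : ℤ) := by
  rw [HomologicalComplex.exactAt_iff' _ (-1 : ℤ) ((0 : ℕ) : ℤ) ((0 + 1 : ℕ) : ℤ)
    (by simp) (by simp)]
  rw [ShortComplex.exact_iff_mono _
    ((isZero_row_X F n X q (-1) (Or.inl (by omega))).eq_of_src _ _)]
  change Mono ((row (mapBi F (DDn n X)) q).d ((0 : ℕ) : ℤ) ((0 + 1 : ℕ) : ℤ))
  rw [row_d]
  haveI : Mono (F.map ((dd (HHn n) X 0).f q)) :=
    Tower.mono_map_d_zero F (evalTower (HHn n) X q) n hn hq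
  infer_instance

lemma row_exactAt (m : ℤ) (hm : m ≠ (n : ℤ)) : (row (mapBi F (DDn n X)) q).ExactAt m := by
  by_cases h : m < 0 ∨ (n : ℤ) < m
  · exact ShortComplex.exact_of_isZero_X₂ _ (isZero_row_X F n X q m h)
  · obtain ⟨j, rfl⟩ : ∃ j : ℕ, (j : ℤ) = m := ⟨m.toNat, by omega⟩
    have hj : j < n := by omega
    rcases j with _ | j
    · exact row_exactAt_zero F n X q hq (by omega)
    · exact row_exactAt_succ F n X q hq j hj

lemma epi_rowMap_piX_f_top : Epi ((rowMap (piX F n X) q).f (n : ℤ)) := by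
  rw [rowMap_piX_f_top, rowTop_eq]
  haveI : Epi ((evalTower (HHn n) X q).beta F n) := by
    rcases n with _ | j
    · infer_instance
    · exact Tower.epi_beta F _ (j + 1) (fun j hj => acyc_term_lt F _ X j hj q) j le_rfl
  haveI := isIso_emb_ge n X n le_rfl
  infer_instance

theorem quasiIso_rowMap_piX : QuasiIso (rowMap (piX F n X) q) := by
  haveI := epi_rowMap_piX_f_top F n X q hq
  have hL : ∀ m : ℤ, m ≠ (n : ℤ) → IsZero ((row (EE F n X) q).X m) := fun m hm =>
    (HomologicalComplex.eval B upℤ q).map_isZero (isZero_EE_X F n X m hm)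
  rcases n with _ | j
  · refine quasiIso_of_target_concentrated _ ((0 : ℕ) : ℤ) (-1) (by simp) hL
      (row_exactAt F 0 X q hq) (isZero_row_X F 0 X q _ (Or.inr (by omega))) ?_
    rw [ShortComplex.exact_iff_mono _
      ((isZero_row_X F 0 X q (-1) (Or.inl (by omega))).eq_of_src _ _)]
    change Mono ((rowMap (piX F 0 X) q).f ((0 : ℕ) : ℤ))
    rw [rowMap_piX_f_top, rowTop_eq]
    haveI := isIso_emb_ge 0 X 0 le_rfl
    infer_instance
  · refine quasiIso_of_target_concentrated _ ((j + 1 : ℕ) : ℤ) (j : ℤ) (by simp) hL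
      (row_exactAt F (j + 1) X q hq) (isZero_row_X F (j + 1) X q _ (Or.inr (by omega))) ?_
    have h := Tower.exact_beta F (evalTower (HHn (j + 1)) X q) (j + 1)
      (fun j hj => acyc_term_lt F _ X j hj q) j le_rfl
    refine (ShortComplex.exact_iff_of_iso ?_).2 h
    haveI := isIso_emb_ge (j + 1) X (j + 1) le_rfl
    refine ShortComplex.isoMk (rowXIso F (j + 1) X q j)
      (rowXIso F (j + 1) X q (j + 1) ≪≫ F.mapIso ((HomologicalComplex.eval A upℤ q).mapIso
        (asIso (emb (HHn (j + 1)) X (j + 1))).symm))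
      ((HomologicalComplex.eval B upℤ q).mapIso
        (HomologicalComplex.singleObjXSelf upℤ ((j + 1 : ℕ) : ℤ) _)) ?_ ?_
    · change (rowXIso F (j + 1) X q j).hom ≫ F.map ((proj (HHn (j + 1)) X j).f q) =
        (row (mapBi F (DDn (j + 1) X)) q).d (j : ℤ) ((j + 1 : ℕ) : ℤ) ≫
          (rowXIso F (j + 1) X q (j + 1)).hom ≫
            F.map ((inv (emb (HHn (j + 1)) X (j + 1))).f q)
      rw [row_d, Category.assoc, Category.assoc, Iso.inv_hom_id_assoc, ← F.map_comp]
      congr 2
      unfold dd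
      rw [HomologicalComplex.comp_f, Category.assoc, ← HomologicalComplex.comp_f (emb _ _ _),
        IsIso.hom_inv_id, HomologicalComplex.id_f, Category.comp_id]
    · change ((rowXIso F (j + 1) X q (j + 1)).hom ≫
          F.map ((inv (emb (HHn (j + 1)) X (j + 1))).f q)) ≫
            (evalTower (HHn (j + 1)) X q).beta F (j + 1) =
        (rowMap (piX F (j + 1) X) q).f ((j + 1 : ℕ) : ℤ) ≫
          (HomologicalComplex.eval B upℤ q).map (HomologicalComplex.singleObjXSelf upℤ
            ((j + 1 : ℕ) : ℤ) (((F.rightDerived (j + 1)).mapHomologicalComplex upℤ).obj X)).hom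
      rw [rowMap_piX_f_top, rowTop_eq]
      simp only [Category.assoc]
      rw [← Functor.map_comp, Iso.inv_hom_id, CategoryTheory.Functor.map_id]
      erw [Category.comp_id]
      rfl

end Row

section Total

variable (X : CochainComplex A ℤ)
  (hX : ∀ (q : ℤ) (i : ℕ), i ≠ n → IsZero ((F.rightDerived i).obj (X.X q)))

include hX in
theorem quasiIso_total_piX : QuasiIso (HomologicalComplex₂.total.map (piX F n X) upℤ) :=
  quasiIso_total_map_of_rows _ (fun q => quasiIso_rowMap_piX F n X q (hX q))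

end Total

end Groth.Agent.Lib.Helper17.LDer
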