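import Groth.Agent.Lib.Helper17Tot12
import Mathlib.Algebra.Homology.HomotopyCategory.Shift

/-!
# The total complex of a double complex concentrated in one column, as a shift (helper17)
-/

set_option autoImplicit false
set_option backward.isDefEq.respectTransparency false

universe v u

open CategoryTheory CategoryTheory.Limits

namespace Groth.Agent.Lib.Helper17.LDer

open Groth.Agent.Lib.Helper17.Tot

local notation "upℤ" => ComplexShape.up ℤ

variable {C : Type u} [Category.{v} C] [Abelian C]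

section ColShift

variable (S : HomologicalComplex₂ C upℤ upℤ) [FinSupp upℤ S] (q₀ : ℤ)
  (hS : ∀ p : ℤ, p ≠ q₀ → IsZero (S.X p))

include hS in
lemma isIso_ιTotal_col (k m : ℤ) (h : q₀ + k = m) : IsIso (S.ιTotal upℤ q₀ k m h) := by
  apply isIso_ιTotal
  intro p q hpq hne
  have hp : p ≠ q₀ := by
    intro hp
    apply hne
    have : p + q = m := hpq
    exact ⟨hp, by omega⟩
  exact (HomologicalComplex.eval C upℤ q).map_isZero (hS p hp)

/-- the chain map from the column `q₀` to the shifted total complex. -/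
noncomputable def colToTotalShift : S.X q₀ ⟶ (S.total upℤ)⟦q₀⟧ where
  f k := (S.ιTotal upℤ q₀ k (k + q₀) (add_comm q₀ k) :
    (S.X q₀).X k ⟶ (S.total upℤ).X (k + q₀))
  comm' k k' h := by
    obtain rfl : k + 1 = k' := h
    rw [CochainComplex.shiftFunctor_obj_d']
    change _ ≫ (q₀.negOnePow • (S.total upℤ).d (k + q₀) (k + 1 + q₀)) = _
    rw [Linear.comp_units_smul]
    rw [HomologicalComplex₂.total_d, Preadditive.comp_add, HomologicalComplex₂.ι_D₁,
      HomologicalComplex₂.ι_D₂,
      HomologicalComplex₂.d₂_eq S upℤ q₀ (show (upℤ).Rel k (k + 1) from rfl) (k + 1 + q₀)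
        (by change q₀ + (k + 1) = _; omega)]
    have h1 : S.d₁ upℤ q₀ k (k + 1 + q₀) = 0 := by
      rw [HomologicalComplex₂.d₁_eq' S upℤ (show (upℤ).Rel q₀ (q₀ + 1) from rfl) k (k + 1 + q₀)]
      have : (S.d q₀ (q₀ + 1)).f k = 0 :=
        ((HomologicalComplex.eval C upℤ k).map_isZero (hS (q₀ + 1) (by omega))).eq_of_tgt _ _
      rw [this, zero_comp, smul_zero]
    have h2 : ComplexShape.ε₂ upℤ upℤ upℤ (q₀, k) = q₀.negOnePow := rfl
    rw [h1, zero_add, h2, smul_smul, Int.units_mul_self, one_smul]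

lemma colToTotalShift_f (k : ℤ) : (colToTotalShift S q₀ hS).f k =
    (S.ιTotal upℤ q₀ k (k + q₀) (add_comm q₀ k) :
      (S.X q₀).X k ⟶ (S.total upℤ).X (k + q₀)) := rfl

lemma isIso_colToTotalShift : IsIso (colToTotalShift S q₀ hS) := by
  haveI : ∀ k, IsIso ((colToTotalShift S q₀ hS).f k) := fun k =>
    isIso_ιTotal_col S q₀ hS k (k + q₀) (add_comm q₀ k)
  exact HomologicalComplex.Hom.isIso_of_components _

lemma colToTotalShift_naturality {S' : HomologicalComplex₂ C upℤ upℤ} [FinSupp upℤ S']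
    (hS' : ∀ p : ℤ, p ≠ q₀ → IsZero (S'.X p)) (φ : S ⟶ S') :
    φ.f q₀ ≫ colToTotalShift S' q₀ hS' =
      colToTotalShift S q₀ hS ≫ (HomologicalComplex₂.total.map φ upℤ)⟦q₀⟧' := by
  ext k
  rw [HomologicalComplex.comp_f, HomologicalComplex.comp_f, colToTotalShift_f,
    colToTotalShift_f, CochainComplex.shiftFunctor_map_f']
  exact (HomologicalComplex₂.ιTotal_map S S' φ upℤ q₀ k (k + q₀) (add_comm q₀ k)).symm

end ColShift

end Groth.Agent.Lib.Helper17.LDer
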