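import Groth.Agent.Lib.Helper17RDer6

/-! `R⁰F` is left exact (helper17). -/
set_option autoImplicit false
set_option backward.isDefEq.respectTransparency false
universe v u v' u'
open CategoryTheory CategoryTheory.Limits

namespace Groth.Agent.Lib.Helper17.RDerLib

open RDer

variable {C : Type u} [Category.{v} C] [Abelian C] [HasInjectiveResolutions C]
  {D : Type u'} [Category.{v'} D] [Abelian D] (F : C ⥤ D) [F.Additive]
  {S : ShortComplex C} (T : SESRes S)

include T in
theorem mono_rightDerived_zero_map_f : Mono ((F.rightDerived 0).map S.f) := by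
  have hE := T.map_shortExact F
  haveI : Mono (E F T).f := hE.mono_f
  haveI : Mono ((E F T).f.f 0) := inferInstance
  haveI : Mono (HomologicalComplex.homologyMap (E F T).f 0) :=
    HomologicalComplex.mono_homologyMap_of_mono_of_not_rel (E F T).f 0 (fun i h => by
      simp at h)
  have h := nat_f F T 0
  have h2 : (F.rightDerived 0).map S.f =
      (T.I₁.isoRightDerivedObj F 0).hom ≫ HomologicalComplex.homologyMap (E F T).f 0 ≫
        (T.I₂.isoRightDerivedObj F 0).inv := by
    rw [← Category.assoc, ← h, Category.assoc, Iso.hom_inv_id, Category.comp_id]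
  rw [h2]
  infer_instance

end Groth.Agent.Lib.Helper17.RDerLib

namespace Groth.Agent.Lib.Helper17.RDerLib

variable {C : Type u} [Category.{v} C] [Abelian C] [EnoughInjectives C]
  {D : Type u'} [Category.{v'} D] [Abelian D] (F : C ⥤ D) [F.Additive]

theorem preservesFiniteLimits_rightDerived_zero : PreservesFiniteLimits (F.rightDerived 0) := by
  refine ((F.rightDerived 0).preservesFiniteLimits_tfae.out 3 0).2 ?_
  intro S hS
  obtain ⟨T⟩ := nonempty_sesRes S hS
  exact ⟨exact₂ F T 0, mono_rightDerived_zero_map_f F T⟩

theorem isIso_toRightDerivedZero_iff :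
    IsIso F.toRightDerivedZero ↔ PreservesFiniteLimits F := by
  constructor
  · intro h
    haveI := preservesFiniteLimits_rightDerived_zero F
    exact preservesFiniteLimits_of_natIso (asIso F.toRightDerivedZero).symm
  · intro h
    infer_instance

end Groth.Agent.Lib.Helper17.RDerLib
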