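import Groth.Agent.Lib.Helper17LDer4
import Groth.Agent.Lib.Helper17DS4
import Groth.Agent.Lib.Helper17RDer8

/-!
# Left resolutions by complexes with terms in the class `RⁱF = 0` for `i ≠ n` (helper17)
-/

set_option autoImplicit false
set_option backward.isDefEq.respectTransparency false

universe v u v' u'

open CategoryTheory CategoryTheory.Limits Opposite

namespace Groth.Agent.Lib.Helper17.LDer

open RDer Groth.Agent.Lib.Helper17.RDerLib Groth.Agent.Lib.Helper17.DS

local notation "upℤ" => ComplexShape.up ℤ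

section OpCx

variable {A : Type u} [Category.{v} A] [Abelian A]

/-- the cochain complex in `A` attached to a cochain complex in `Aᵒᵖ`. -/
def unopCx (Y : CochainComplex Aᵒᵖ ℤ) : CochainComplex A ℤ where
  X k := (Y.X (-k)).unop
  d i j := (Y.d (-j) (-i)).unop
  shape i j h := by
    rw [Y.shape, unop_zero]
    intro h'
    apply h
    have : -j + 1 = -i := h'
    change i + 1 = j
    omega
  d_comp_d' i j k _ _ := by rw [← unop_comp, Y.d_comp_d, unop_zero]

/-- functoriality of `unopCx`. -/
def unopCxMap {Y Y' : CochainComplex Aᵒᵖ ℤ} (g : Y ⟶ Y') : unopCx Y' ⟶ unopCx Y where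
  f k := (g.f (-k)).unop
  comm' i j _ := by
    change (g.f (-i)).unop ≫ (Y.d (-j) (-i)).unop = (Y'.d (-j) (-i)).unop ≫ (g.f (-j)).unop
    rw [← unop_comp, ← unop_comp, g.comm]

/-- the cochain complex in `Aᵒᵖ` attached to a cochain complex in `A`. -/
def opCx (X : CochainComplex A ℤ) : CochainComplex Aᵒᵖ ℤ where
  X k := op (X.X (-k))
  d i j := (X.d (-j) (-i)).op
  shape i j h := by
    rw [X.shape, op_zero]
    intro h'
    apply h
    have : -j + 1 = -i := h'
    change i + 1 = j
    omega
  d_comp_d' i j k _ _ := by rw [← op_comp, X.d_comp_d, op_zero]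

/-- the double opposite. -/
def unopOpIso (X : CochainComplex A ℤ) : unopCx (opCx X) ≅ X :=
  HomologicalComplex.Hom.isoOfComponents (fun k => X.XIsoOfEq (neg_neg k)) (fun i j _ => by
    change (X.XIsoOfEq (neg_neg i)).hom ≫ X.d i j = X.d (- -i) (- -j) ≫ (X.XIsoOfEq (neg_neg j)).hom
    rw [HomologicalComplex.XIsoOfEq_hom_comp_d, HomologicalComplex.d_comp_XIsoOfEq_hom])

lemma quasiIso_unopCxMap {Y Y' : CochainComplex Aᵒᵖ ℤ} (g : Y ⟶ Y') [QuasiIso g] :
    QuasiIso (unopCxMap g) := by
  rw [quasiIso_iff]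
  intro k
  rw [quasiIsoAt_iff' (unopCxMap g) (k - 1) k (k + 1) (by simp) (by simp)]
  have h : QuasiIsoAt g (-k) := inferInstance
  rw [quasiIsoAt_iff' g (-(k + 1)) (-k) (-(k - 1)) (by simp; omega) (by simp; omega)] at h
  exact ShortComplex.quasiIso_unopMap
    ((HomologicalComplex.shortComplexFunctor' Aᵒᵖ upℤ (-(k + 1)) (-k) (-(k - 1))).map g)

end OpCx

section Class

variable {A : Type u} [Category.{v} A] [Abelian A] [EnoughInjectives A]
  {B : Type u'} [Category.{v'} B] [Abelian B] (F : A ⥤ B) [F.Additive] (n : ℕ)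

/-- the class of objects with `RⁱF = 0` for all `i ≠ n`. -/
def concClass : ObjectProperty A := fun Y => ∀ i : ℕ, i ≠ n → IsZero ((F.rightDerived i).obj Y)

instance : TermClass (concClass F n) where
  of_iso e h i hi := IsZero.of_iso (h i hi) ((F.rightDerived i).mapIso e.symm)
  of_isZero h i _ := (F.rightDerived i).map_isZero h
  biprod {X Y} h₁ h₂ i hi := by
    haveI : PreservesBinaryBiproducts (F.rightDerived i) :=
      preservesBinaryBiproducts_of_preservesBiproducts _
    exact IsZero.of_iso (isZero_biprod (h₁ i hi) (h₂ i hi)) ((F.rightDerived i).mapBiprod X Y)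

variable (hdim : ∀ (X : A) (i : ℕ), n < i → IsZero ((F.rightDerived i).obj X))

include hdim

lemma concClass_h2 (S : ShortComplex A) (hS : S.ShortExact) (h₃ : concClass F n S.X₃) :
    concClass F n S.X₂ ↔ concClass F n S.X₁ := by
  constructor
  · intro h₂ i hi
    rcases i with _ | i
    · obtain ⟨T⟩ := nonempty_sesRes S hS
      haveI := mono_rightDerived_zero_map_f F T
      exact IsZero.of_mono ((F.rightDerived 0).map S.f) (h₂ 0 hi)
    · by_cases hin : i = n
      · exact hdim _ _ (by omega)
      · exact isZero_rd_X₁ F S hS i (h₃ i hin) (h₂ (i + 1) hi)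
  · intro h₁ i hi
    exact isZero_rd_X₂ F S hS i (h₁ i hi) (h₃ i hi)

lemma concClass_h3 (K : CochainComplex Aᵒᵖ ℕ)
    (hex : ∀ i : ℕ, 1 ≤ i → i ≤ n + 1 → K.ExactAt i)
    (hz : ∀ i : ℕ, n + 1 < i → IsZero (K.X i))
    (hP : ∀ i : ℕ, i < n + 1 → concClass F n (K.X i).unop) :
    concClass F n (K.X (n + 1)).unop := by
  have key : ∀ i : ℕ, i ≤ n + 1 → ∀ j : ℕ, j < i → j < n →
      IsZero ((F.rightDerived j).obj (K.cycles i).unop) := by
    intro i
    induction i with
    | zero =>
      intro _ j hj _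
      omega
    | succ i ih =>
      intro hi j hj hjn
      have hS := (cyclesSC_shortExact K i (i + 1) rfl (hex (i + 1) (by omega) hi)).unop
      rcases j with _ | j
      · obtain ⟨T⟩ := nonempty_sesRes _ hS
        haveI := mono_rightDerived_zero_map_f F T
        exact IsZero.of_mono ((F.rightDerived 0).map (cyclesSC K i (i + 1)).unop.f)
          (hP i (by omega) 0 (by omega))
      · exact isZero_rd_X₁ F _ hS j (ih (by omega) j (by omega) (by omega))
          (hP i (by omega) (j + 1) (by omega))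
  have hd : K.d (n + 1) (n + 1 + 1) = 0 := (hz (n + 1 + 1) (by omega)).eq_of_tgt _ _
  haveI : IsIso (K.iCycles (n + 1)) := K.isIso_iCycles (n + 1) (n + 1 + 1) (by simp) hd
  intro j hj
  refine IsZero.of_iso ?_ ((F.rightDerived j).mapIso (asIso (K.iCycles (n + 1))).unop)
  rcases Nat.lt_or_gt_of_ne hj with h | h
  · exact key (n + 1) le_rfl j (by omega) h
  · exact hdim _ _ h

variable (hP : ∀ X : A, ∃ (Y : A) (p : Y ⟶ X), Epi p ∧ concClass F n Y)

include hP in
/-- every complex has a left resolution by a complex with terms in the class. -/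
theorem hasTermwiseLRes_concClass : HasTermwiseLRes (concClass F n) := by
  intro K
  obtain ⟨I, g, hg, hI⟩ := Groth.Agent.S11168.result (A := Aᵒᵖ) (concClass F n).op
    (fun X => by
      obtain ⟨Y, p, hp, hY⟩ := hP X.unop
      exact ⟨op Y, p.op, hY, inferInstance⟩)
    (fun S hS h₁ => concClass_h2 F n hdim S.unop hS.unop h₁)
    (n + 1) (by omega)
    (fun K a b _ d => concClass_h3 F n hdim K a b d) (opCx K)
  haveI := hg
  haveI := quasiIso_unopCxMap g
  exact ⟨unopCx I, unopCxMap g ≫ (unopOpIso K).hom, inferInstance, fun k => hI (-k)⟩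

end Class

end Groth.Agent.Lib.Helper17.LDer
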