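import Groth.Agent.Lib.Helper17LDer14

/-!
# `RⁿF` inverts quasi-isomorphisms between complexes with terms in the class
`RⁱF = 0` for `i ≠ n` (helper17)
-/

set_option autoImplicit false
set_option backward.isDefEq.respectTransparency false

universe w w' v u v' u'

open CategoryTheory CategoryTheory.Limits Opposite

namespace Groth.Agent.Lib.Helper17.LDer

open RDer Groth.Agent.Lib.Helper17.RDerLib Groth.Agent.Lib.Helper17.DS

local notation "upℤ" => ComplexShape.up ℤ

variable {A : Type u} [Category.{v} A] [Abelian A] [EnoughInjectives A]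
  {B : Type u'} [Category.{v'} B] [Abelian B] (F : A ⥤ B) [F.Additive] (n : ℕ)
  (hdim : ∀ (X : A) (i : ℕ), n < i → IsZero ((F.rightDerived i).obj X))

include hdim

/-- the cycles of an acyclic complex with terms in the class lie in the class. -/
lemma concClass_cycles (W : CochainComplex A ℤ) (hW : W.Acyclic)
    (hP : ∀ m, concClass F n (W.X m)) (m : ℤ) : concClass F n (W.cycles m) := by
  have key : ∀ j : ℕ, j < n → ∀ m : ℤ, IsZero ((F.rightDerived j).obj (W.cycles m)) := by
    intro j
    induction j with
    | zero =>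
      intro h0 m
      have hS := cyclesSC_shortExact W m (m + 1) rfl (hW (m + 1))
      obtain ⟨T⟩ := nonempty_sesRes _ hS
      haveI := mono_rightDerived_zero_map_f F T
      exact IsZero.of_mono ((F.rightDerived 0).map (cyclesSC W m (m + 1)).f) (hP m 0 (by omega))
    | succ j ih =>
      intro hj m
      have hS := cyclesSC_shortExact W m (m + 1) rfl (hW (m + 1))
      exact isZero_rd_X₁ F _ hS j (ih (by omega) (m + 1)) (hP m (j + 1) (by omega))
  intro j hj
  rcases Nat.lt_or_gt_of_ne hj with h | h
  · exact key j h m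
  · exact hdim _ _ h

/-- `RⁿF` is exact on short exact sequences of objects of the class. -/
lemma shortExact_map_rd (S : ShortComplex A) (hS : S.ShortExact)
    (h₁ : concClass F n S.X₁) (h₃ : concClass F n S.X₃) :
    (ShortComplex.mk ((F.rightDerived n).map S.f) ((F.rightDerived n).map S.g)
      (by rw [← Functor.map_comp, S.zero, Functor.map_zero])).ShortExact := by
  obtain ⟨T⟩ := nonempty_sesRes S hS
  refine ShortComplex.ShortExact.mk' (exact₂ F T n) ?_ ?_
  · rcases n with _ | k
    · exact mono_rightDerived_zero_map_f F T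
    · exact (exact₁ F T k (k + 1) rfl).mono_g ((h₃ k (by omega)).eq_of_src _ _)
  · exact (exact₃ F T n (n + 1) rfl).epi_f ((hdim _ _ (by omega)).eq_of_tgt _ _)

/-- `RⁿF` sends acyclic complexes with terms in the class to acyclic complexes. -/
theorem acyclic_map_rd [(F.rightDerived n).Additive] (W : CochainComplex A ℤ) (hW : W.Acyclic)
    (hP : ∀ m, concClass F n (W.X m)) :
    (((F.rightDerived n).mapHomologicalComplex upℤ).obj W).Acyclic := by
  have hall := concClass_cycles F n hdim W hW hP
  intro j
  rw [HomologicalComplex.exactAt_iff' _ (j - 1) j (j + 1) (by simp) (by simp)]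
  have hS₀ := shortExact_map_rd F n hdim _ (cyclesSC_shortExact W (j - 1) j (by simp) (hW j))
    (hall (j - 1)) (hall j)
  have hS₁ := shortExact_map_rd F n hdim _ (cyclesSC_shortExact W j (j + 1) rfl (hW (j + 1)))
    (hall j) (hall (j + 1))
  have hS₂ := shortExact_map_rd F n hdim _
    (cyclesSC_shortExact W (j + 1) (j + 1 + 1) rfl (hW (j + 1 + 1))) (hall (j + 1))
    (hall (j + 1 + 1))
  haveI : Epi ((F.rightDerived n).map (W.toCycles (j - 1) j)) := hS₀.epi_g
  haveI : Mono ((F.rightDerived n).map (W.iCycles (j + 1))) := hS₂.mono_f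
  let G := F.rightDerived n
  -- step 1
  let Sb : ShortComplex B := ShortComplex.mk (G.map (W.d (j - 1) j)) (G.map (W.toCycles j (j + 1)))
    (by
      have h0 : W.d (j - 1) j ≫ W.toCycles j (j + 1) = 0 := by
        rw [← cancel_mono (W.iCycles (j + 1)), Category.assoc, W.toCycles_i, W.d_comp_d,
          zero_comp]
      rw [← G.map_comp, h0, G.map_zero])
  have hb : Sb.Exact := by
    let φ : Sb ⟶ ShortComplex.mk (G.map (W.iCycles j)) (G.map (W.toCycles j (j + 1)))
        (by rw [← G.map_comp]
            exact (congrArg G.map (cyclesSC W j (j + 1)).zero).trans (G.map_zero _ _)) :=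
      { τ₁ := G.map (W.toCycles (j - 1) j)
        τ₂ := 𝟙 _
        τ₃ := 𝟙 _
        comm₁₂ := by
          dsimp [Sb]
          rw [Category.comp_id, ← G.map_comp, W.toCycles_i]
        comm₂₃ := by
          dsimp [Sb]
          rw [Category.comp_id, Category.id_comp] }
    haveI : Epi φ.τ₁ := by dsimp [φ]; infer_instance
    haveI : IsIso φ.τ₂ := by dsimp [φ]; infer_instance
    haveI : Mono φ.τ₃ := by dsimp [φ]; infer_instance
    exact (ShortComplex.exact_iff_of_epi_of_isIso_of_mono φ).2 hS₁.exact
  let ψ : Sb ⟶ (((F.rightDerived n).mapHomologicalComplex upℤ).obj W).sc' (j - 1) j (j + 1) :=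
    { τ₁ := 𝟙 _
      τ₂ := 𝟙 _
      τ₃ := G.map (W.iCycles (j + 1))
      comm₁₂ := by
        dsimp [Sb]
        rw [Category.comp_id, Category.id_comp]
        rfl
      comm₂₃ := by
        dsimp [Sb]
        rw [Category.id_comp, ← G.map_comp, W.toCycles_i]
        rfl }
  haveI : Epi ψ.τ₁ := by dsimp [ψ]; infer_instance
  haveI : IsIso ψ.τ₂ := by dsimp [ψ]; infer_instance
  haveI : Mono ψ.τ₃ := by dsimp [ψ]; infer_instance
  exact (ShortComplex.exact_iff_of_epi_of_isIso_of_mono ψ).1 hb

section Derived

variable [HasDerivedCategory.{w} A] [HasDerivedCategory.{w'} B] [(F.rightDerived n).Additive]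

lemma derives_rd : (locMor (concClass F n)).Derives
    ((F.rightDerived n).mapHomotopyCategory upℤ ⋙ DerivedCategory.Qh) := by
  intro X Y f hf
  rw [ObjectProperty.trW_inverseImage_ι_iff, ObjectProperty.trW_iff] at hf
  obtain ⟨Z, g, h, hT, hZ₁, hZ₂⟩ := hf
  change IsIso (DerivedCategory.Qh.map (((F.rightDerived n).mapHomotopyCategory upℤ).map f.hom))
  apply Localization.inverts DerivedCategory.Qh (HomotopyCategory.subcategoryAcyclic B).trW
  rw [ObjectProperty.trW_iff]
  refine ⟨_, _, _, ((F.rightDerived n).mapHomotopyCategory upℤ).map_distinguished _ hT, ?_⟩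
  obtain ⟨W, rfl⟩ := Z.quotient_obj_surjective
  rw [hoTermwise_quotient_obj_iff] at hZ₁
  rw [HomotopyCategory.quotient_obj_mem_subcategoryAcyclic_iff_acyclic] at hZ₂
  have hFW := acyclic_map_rd F n hdim W hZ₂ hZ₁
  exact (HomotopyCategory.subcategoryAcyclic B).prop_of_iso
    (((F.rightDerived n).mapHomotopyCategoryFactors upℤ).app W).symm
    ((HomotopyCategory.quotient_obj_mem_subcategoryAcyclic_iff_acyclic _).2 hFW)

end Derived

end Groth.Agent.Lib.Helper17.LDer
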