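import Groth.Agent.Lib.Helper17LDer12
import Groth.Agent.Lib.Helper17LDer13
import Groth.Agent.Lib.Helper17LDer15
import Mathlib.Algebra.Homology.DerivedCategory.Basic

/-!
# The comparison `RF(X)[n] ⟶ RⁿF(X)` in the derived category (helper17)

Given `R : D(A) ⥤ D(B)` with `η : F ⋙ Q ⟶ Q ⋙ R` which is an isomorphism on complexes with
`F`-acyclic terms (for `F` left exact of cohomological dimension `≤ n`), we construct a natural
transformation `θ X : (R (Q X))⟦n⟧ ⟶ Q (RⁿF X)` which is an isomorphism when the terms of `X`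
have `RⁱF = 0` for `i ≠ n`.
-/

set_option autoImplicit false
set_option backward.isDefEq.respectTransparency false

universe w w' v u v' u'

open CategoryTheory CategoryTheory.Limits

namespace Groth.Agent.Lib.Helper17.LDer

open Groth.Agent.Lib.Helper17.Hull Groth.Agent.Lib.Helper17.Tot Groth.Agent.Lib.Helper17.DS

local notation "upℤ" => ComplexShape.up ℤ

variable {A : Type u} [Category.{v} A] [Abelian A] [EnoughInjectives A]
  {B : Type u'} [Category.{v'} B] [Abelian B] (F : A ⥤ B) [F.Additive] [PreservesFiniteLimits F]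
  (n : ℕ) [(F.rightDerived n).Additive]
  [HasDerivedCategory.{w} A] [HasDerivedCategory.{w'} B]
  (R : DerivedCategory A ⥤ DerivedCategory B)
  (η : F.mapHomologicalComplex upℤ ⋙ DerivedCategory.Q ⟶ DerivedCategory.Q ⋙ R)

section Defs

variable (X : CochainComplex A ℤ)

/-- the morphism of double complexes `EE X ⟶ EE Y`. -/
noncomputable abbrev EEMap {X Y : CochainComplex A ℤ} (f : X ⟶ Y) : EE F n X ⟶ EE F n Y :=
  (HomologicalComplex.single (CochainComplex B ℤ) upℤ (n : ℤ)).map
    (((F.rightDerived n).mapHomologicalComplex upℤ).map f)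

/-- the identification of `RⁿF(X)` with the shifted total complex of `EE`. -/
noncomputable def wX : ((F.rightDerived n).mapHomologicalComplex upℤ).obj X ⟶
    ((EE F n X).total upℤ)⟦(n : ℤ)⟧ :=
  (HomologicalComplex.singleObjXSelf upℤ (n : ℤ) _).inv ≫
    colToTotalShift (EE F n X) (n : ℤ) (isZero_EE_X F n X)

instance isIso_wX : IsIso (wX F n X) := by
  haveI := isIso_colToTotalShift (EE F n X) (n : ℤ) (isZero_EE_X F n X)
  unfold wX
  infer_instance

variable {X} in
lemma wX_naturality {Y : CochainComplex A ℤ} (f : X ⟶ Y) :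
    ((F.rightDerived n).mapHomologicalComplex upℤ).map f ≫ wX F n Y =
      wX F n X ≫ (HomologicalComplex₂.total.map (EEMap F n f) upℤ)⟦(n : ℤ)⟧' := by
  unfold wX
  rw [Category.assoc, ← colToTotalShift_naturality (EE F n X) (n : ℤ) (isZero_EE_X F n X)
    (isZero_EE_X F n Y) (EEMap F n f), HomologicalComplex.single_map_f_self]
  simp only [Category.assoc, Iso.inv_hom_id_assoc]

end Defs

section Theta

variable (hdim : ∀ (Z : A) (i : ℕ), n < i → IsZero ((F.rightDerived i).obj Z))
  (hη : ∀ K : CochainComplex A ℤ, (∀ m, acyc F (K.X m)) → IsIso (η.app K))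

include hdim hη in
lemma isIso_η_JJ (X : CochainComplex A ℤ) : IsIso (η.app (JJ n X)) :=
  hη _ (acyc_JJ F n hdim X)

variable (X : CochainComplex A ℤ)

/-- the unshifted comparison morphism. -/
noncomputable def thetaZero : R.obj (DerivedCategory.Q.obj X) ⟶
    DerivedCategory.Q.obj ((EE F n X).total upℤ) :=
  haveI := isIso_η_JJ F n R η hdim hη X
  R.map (DerivedCategory.Q.map (toJJ n X)) ≫ inv (η.app (JJ n X)) ≫
    inv (DerivedCategory.Q.map (totalComparison F (DDn n X))) ≫
      DerivedCategory.Q.map (HomologicalComplex₂.total.map (piX F n X) upℤ)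

variable {X} in
lemma thetaZero_naturality {Y : CochainComplex A ℤ} (f : X ⟶ Y) :
    R.map (DerivedCategory.Q.map f) ≫ thetaZero F n R η hdim hη Y =
      thetaZero F n R η hdim hη X ≫
        DerivedCategory.Q.map (HomologicalComplex₂.total.map (EEMap F n f) upℤ) := by
  haveI := isIso_η_JJ F n R η hdim hη X
  haveI := isIso_η_JJ F n R η hdim hη Y
  unfold thetaZero
  have h1 : R.map (DerivedCategory.Q.map f) ≫ R.map (DerivedCategory.Q.map (toJJ n Y)) =
      R.map (DerivedCategory.Q.map (toJJ n X)) ≫ R.map (DerivedCategory.Q.map (JJMap n f)) := by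
    rw [← R.map_comp, ← R.map_comp, ← Functor.map_comp, ← Functor.map_comp, toJJ_naturality]
  have h2 : R.map (DerivedCategory.Q.map (JJMap n f)) ≫ inv (η.app (JJ n Y)) =
      inv (η.app (JJ n X)) ≫
        DerivedCategory.Q.map ((F.mapHomologicalComplex upℤ).map (JJMap n f)) := by
    rw [IsIso.comp_inv_eq, Category.assoc, IsIso.eq_inv_comp]
    exact (η.naturality (JJMap n f)).symm
  have h3 : DerivedCategory.Q.map ((F.mapHomologicalComplex upℤ).map (JJMap n f)) ≫
      inv (DerivedCategory.Q.map (totalComparison F (DDn n Y))) =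
      inv (DerivedCategory.Q.map (totalComparison F (DDn n X))) ≫
        DerivedCategory.Q.map (HomologicalComplex₂.total.map (mapBiMap F (DDnMap n f)) upℤ) := by
    rw [IsIso.comp_inv_eq, Category.assoc, IsIso.eq_inv_comp, ← Functor.map_comp,
      ← Functor.map_comp, totalComparison_naturality]
  have h4 : DerivedCategory.Q.map (HomologicalComplex₂.total.map (mapBiMap F (DDnMap n f)) upℤ) ≫
      DerivedCategory.Q.map (HomologicalComplex₂.total.map (piX F n Y) upℤ) =
      DerivedCategory.Q.map (HomologicalComplex₂.total.map (piX F n X) upℤ) ≫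
        DerivedCategory.Q.map (HomologicalComplex₂.total.map (EEMap F n f) upℤ) := by
    rw [← Functor.map_comp, ← Functor.map_comp, ← HomologicalComplex₂.total.map_comp,
      ← HomologicalComplex₂.total.map_comp, piX_naturality]
  rw [reassoc_of% h1, reassoc_of% h2, reassoc_of% h3, h4]
  simp only [Category.assoc]

/-- the comparison morphism `(R (Q X))⟦n⟧ ⟶ Q (RⁿF X)`. -/
noncomputable def theta : (R.obj (DerivedCategory.Q.obj X))⟦(n : ℤ)⟧ ⟶
    DerivedCategory.Q.obj (((F.rightDerived n).mapHomologicalComplex upℤ).obj X) :=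
  (thetaZero F n R η hdim hη X)⟦(n : ℤ)⟧' ≫
    ((DerivedCategory.Q (C := B)).commShiftIso (n : ℤ)).inv.app _ ≫
      inv (DerivedCategory.Q.map (wX F n X))

variable {X} in
lemma theta_naturality {Y : CochainComplex A ℤ} (f : X ⟶ Y) :
    (R.map (DerivedCategory.Q.map f))⟦(n : ℤ)⟧' ≫ theta F n R η hdim hη Y =
      theta F n R η hdim hη X ≫
        DerivedCategory.Q.map (((F.rightDerived n).mapHomologicalComplex upℤ).map f) := by
  unfold theta
  have h1 : (R.map (DerivedCategory.Q.map f))⟦(n : ℤ)⟧' ≫
      (thetaZero F n R η hdim hη Y)⟦(n : ℤ)⟧' =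
      (thetaZero F n R η hdim hη X)⟦(n : ℤ)⟧' ≫
        (DerivedCategory.Q.map (HomologicalComplex₂.total.map (EEMap F n f) upℤ))⟦(n : ℤ)⟧' := by
    rw [← Functor.map_comp, ← Functor.map_comp, thetaZero_naturality]
  have h2 : (DerivedCategory.Q.map (HomologicalComplex₂.total.map (EEMap F n f) upℤ))⟦(n : ℤ)⟧' ≫
      ((DerivedCategory.Q (C := B)).commShiftIso (n : ℤ)).inv.app _ =
      ((DerivedCategory.Q (C := B)).commShiftIso (n : ℤ)).inv.app _ ≫
        DerivedCategory.Q.map ((HomologicalComplex₂.total.map (EEMap F n f) upℤ)⟦(n : ℤ)⟧') :=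
    ((DerivedCategory.Q (C := B)).commShiftIso (n : ℤ)).inv.naturality
      (HomologicalComplex₂.total.map (EEMap F n f) upℤ)
  have h3 : DerivedCategory.Q.map ((HomologicalComplex₂.total.map (EEMap F n f) upℤ)⟦(n : ℤ)⟧') ≫
      inv (DerivedCategory.Q.map (wX F n Y)) =
      inv (DerivedCategory.Q.map (wX F n X)) ≫
        DerivedCategory.Q.map (((F.rightDerived n).mapHomologicalComplex upℤ).map f) := by
    rw [IsIso.comp_inv_eq, Category.assoc, IsIso.eq_inv_comp, ← Functor.map_comp,
      ← Functor.map_comp, wX_naturality]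
  rw [reassoc_of% h1, reassoc_of% h2, h3]
  simp only [Category.assoc]

include hdim in
lemma isIso_thetaZero (hX : ∀ m, concClass F n (X.X m)) :
    IsIso (thetaZero F n R η hdim hη X) := by
  haveI := isIso_η_JJ F n R η hdim hη X
  haveI := quasiIso_total_piX F n X hX
  unfold thetaZero
  infer_instance

lemma isIso_theta (hX : ∀ m, concClass F n (X.X m)) :
    IsIso (theta F n R η hdim hη X) := by
  haveI := isIso_thetaZero F n R η hdim hη X hX
  unfold theta
  infer_instance

end Theta

end Groth.Agent.Lib.Helper17.LDer
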