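import Groth.Agent.Lib.Helper17LDer16

/-!
# `RF ≅ L(RⁿF)[-n]` for a left exact functor of cohomological dimension `≤ n` (helper17)
-/

set_option autoImplicit false
set_option backward.isDefEq.respectTransparency false

universe w w' v u v' u'

open CategoryTheory CategoryTheory.Limits

namespace Groth.Agent.Lib.Helper17.LDer

open Groth.Agent.Lib.Helper17.Hull Groth.Agent.Lib.Helper17.Tot Groth.Agent.Lib.Helper17.DS

local notation "upℤ" => ComplexShape.up ℤ

section HoLift

variable {A : Type u} [Category.{v} A] [Preadditive A] {ι : Type*} {c : ComplexShape ι}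
  {D : Type*} [Category D]

/-- natural transformations between functors on the homotopy category can be defined on
complexes. -/
def hoLift {F G : HomotopyCategory A c ⥤ D}
    (τ : HomotopyCategory.quotient A c ⋙ F ⟶ HomotopyCategory.quotient A c ⋙ G) : F ⟶ G :=
  Quotient.natTransLift (homotopic A c) τ

lemma hoLift_app {F G : HomotopyCategory A c ⥤ D}
    (τ : HomotopyCategory.quotient A c ⋙ F ⟶ HomotopyCategory.quotient A c ⋙ G)
    (K : HomologicalComplex A c) :
    (hoLift τ).app ((HomotopyCategory.quotient A c).obj K) = τ.app K := rfl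

end HoLift

section Criterion

variable {A : Type u} [Category.{v} A] [Abelian A] [HasDerivedCategory.{w} A]
  {H : Type*} [Category H] (P : ObjectProperty A) [TermClass P]

/-- a criterion for a functor on the derived category to be the left derived functor of a
functor on complexes which inverts quasi-isomorphisms between termwise-`P` complexes. -/
theorem isRightKanExtension_of_isIso_termwise (hres : HasTermwiseLRes P)
    (ΓK : HomotopyCategory A upℤ ⥤ H) (hΓ : (locMor P).Derives ΓK)
    (ΓC : CochainComplex A ℤ ⥤ H) (eF : HomotopyCategory.quotient A upℤ ⋙ ΓK ≅ ΓC)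
    (LF : DerivedCategory A ⥤ H) (ε₀ : DerivedCategory.Q ⋙ LF ⟶ ΓC)
    (hε : ∀ K : CochainComplex A ℤ, (∀ m, P (K.X m)) → IsIso (ε₀.app K)) :
    LF.IsRightKanExtension ε₀ := by
  let eL := DerivedCategory.quotientCompQhIso A
  let τ : HomotopyCategory.quotient A upℤ ⋙ (DerivedCategory.Qh ⋙ LF) ⟶
      HomotopyCategory.quotient A upℤ ⋙ ΓK :=
    (Functor.associator _ _ _).inv ≫ Functor.whiskerRight eL.hom LF ≫ ε₀ ≫ eF.inv
  let ε₁ : DerivedCategory.Qh ⋙ LF ⟶ ΓK := hoLift τ
  have hε₁ : ∀ K : CochainComplex A ℤ, ε₁.app ((HomotopyCategory.quotient A upℤ).obj K) =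
      LF.map (eL.hom.app K) ≫ ε₀.app K ≫ eF.inv.app K := by
    intro K
    change τ.app K = _
    simp [τ]
  haveI : LF.op.IsLeftKanExtension (opTrans ε₁) :=
    isLeftKanExtension_op_of_isIso ΓK hres hΓ DerivedCategory.Qh LF ε₁ (fun K hK => by
      rw [hε₁]
      haveI := hε K hK
      infer_instance)
  exact isRightKanExtension_of_localization_of_op (HomotopyCategory.quotient A upℤ)
    (HomologicalComplex.homotopyEquivalences A upℤ) eL eF LF ε₁ ε₀ (fun K => by
      rw [hε₁]
      simp only [Category.assoc, Iso.inv_hom_id_app, Category.comp_id]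
      rw [← Category.assoc, ← LF.map_comp, Iso.inv_hom_id_app, LF.map_id, Category.id_comp])

end Criterion

variable {A : Type u} [Category.{v} A] [Abelian A] [EnoughInjectives A]
  {B : Type u'} [Category.{v'} B] [Abelian B]
  [HasDerivedCategory.{w} A] [HasDerivedCategory.{w'} B]

/-- the isomorphism `q ⋙ (Φ_K ⋙ Qh) ≅ Φ_C ⋙ Q`. -/
noncomputable def factorsIso (Φ : A ⥤ B) [Φ.Additive] :
    HomotopyCategory.quotient A upℤ ⋙ (Φ.mapHomotopyCategory upℤ ⋙ DerivedCategory.Qh) ≅
      Φ.mapHomologicalComplex upℤ ⋙ DerivedCategory.Q :=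
  (Functor.associator _ _ _).symm ≪≫
    Functor.isoWhiskerRight (Φ.mapHomotopyCategoryFactors upℤ) DerivedCategory.Qh ≪≫
      Functor.associator _ _ _ ≪≫
        Functor.isoWhiskerLeft _ (DerivedCategory.quotientCompQhIso B)

variable (F : A ⥤ B) [F.Additive] [PreservesFiniteLimits F] (n : ℕ)
  (hdim : ∀ (Z : A) (i : ℕ), n < i → IsZero ((F.rightDerived i).obj Z))

include hdim in
/-- the total right derived functor on complexes, with its unit being an isomorphism on
complexes with acyclic terms. -/
theorem exists_rightDerived :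
    ∃ (R : DerivedCategory A ⥤ DerivedCategory B)
      (η : F.mapHomologicalComplex upℤ ⋙ DerivedCategory.Q ⟶ DerivedCategory.Q ⋙ R),
      R.IsLeftKanExtension η ∧
        ∀ K : CochainComplex A ℤ, (∀ m, acyc F (K.X m)) → IsIso (η.app K) := by
  have hn : ∀ X : A, IsZero ((F.rightDerived (n + 1)).obj X) := fun X => hdim X (n + 1) (by omega)
  haveI := DS.hasRightDerivedFunctor F (n + 1) hn
  let ΦK := F.mapHomotopyCategory upℤ ⋙ DerivedCategory.Qh (C := B)
  let WK := HomotopyCategory.quasiIso A upℤ
  let R := ΦK.totalRightDerived DerivedCategory.Qh WK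
  let ηK : ΦK ⟶ DerivedCategory.Qh ⋙ R := ΦK.totalRightDerivedUnit DerivedCategory.Qh WK
  let eL := DerivedCategory.quotientCompQhIso A
  let eF := factorsIso F
  let ηC : F.mapHomologicalComplex upℤ ⋙ DerivedCategory.Q ⟶ DerivedCategory.Q ⋙ R :=
    eF.inv ≫ Functor.whiskerLeft (HomotopyCategory.quotient A upℤ) ηK ≫
      (Functor.associator _ _ _).inv ≫ Functor.whiskerRight eL.hom R
  have hηC : ∀ K : CochainComplex A ℤ, ηC.app K =
      eF.inv.app K ≫ ηK.app ((HomotopyCategory.quotient A upℤ).obj K) ≫ R.map (eL.hom.app K) := by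
    intro K
    simp [ηC]
  haveI : R.IsLeftKanExtension ηK :=
    Functor.IsRightDerivedFunctor.isLeftKanExtension (RF := R) (α := ηK) (W := WK)
  refine ⟨R, ηC, ?_, ?_⟩
  · exact isLeftKanExtension_of_localization (HomotopyCategory.quotient A upℤ)
      (HomologicalComplex.homotopyEquivalences A upℤ) eL eF R ηK ηC hηC
  · intro K hK
    rw [hηC]
    haveI : IsIso (ηK.app ((HomotopyCategory.quotient A upℤ).obj K)) :=
      DS.isIso_unit F (n + 1) hn K hK
    infer_instance

section Left

variable [(F.rightDerived n).Additive]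
  (R : DerivedCategory A ⥤ DerivedCategory B)
  (η : F.mapHomologicalComplex upℤ ⋙ DerivedCategory.Q ⟶ DerivedCategory.Q ⋙ R)
  (hη : ∀ K : CochainComplex A ℤ, (∀ m, acyc F (K.X m)) → IsIso (η.app K))

/-- the comparison as a natural transformation. -/
noncomputable def thetaNat :
    DerivedCategory.Q ⋙ (R ⋙ shiftFunctor (DerivedCategory B) (n : ℤ)) ⟶
      (F.rightDerived n).mapHomologicalComplex upℤ ⋙ DerivedCategory.Q where
  app X := theta F n R η hdim hη X
  naturality _ _ f := theta_naturality F n R η hdim hη f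

variable (hP : ∀ X : A, ∃ (Y : A) (p : Y ⟶ X), Epi p ∧ concClass F n Y)

include hP in
/-- `R[n]` is the total left derived functor of `RⁿF`. -/
theorem isLeftDerivedFunctor_thetaNat :
    (R ⋙ shiftFunctor (DerivedCategory B) (n : ℤ)).IsLeftDerivedFunctor
      (thetaNat F n hdim R η hη) (HomologicalComplex.quasiIso A upℤ) := by
  haveI := isRightKanExtension_of_isIso_termwise (concClass F n)
    (hasTermwiseLRes_concClass F n hdim hP)
    ((F.rightDerived n).mapHomotopyCategory upℤ ⋙ DerivedCategory.Qh)
    (derives_rd F n hdim)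
    ((F.rightDerived n).mapHomologicalComplex upℤ ⋙ DerivedCategory.Q)
    (factorsIso (F.rightDerived n))
    (R ⋙ shiftFunctor (DerivedCategory B) (n : ℤ)) (thetaNat F n hdim R η hη)
    (fun K hK => isIso_theta F n R η hdim hη K hK)
  exact ⟨inferInstance⟩

end Left

end Groth.Agent.Lib.Helper17.LDer
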