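import Groth.Agent.Lib.Helper17LDer1
import Mathlib.CategoryTheory.Functor.Derived.PointwiseRightDerived

/-!
# Kan extensions along a composition of localizations (helper17)

Let `q : C₀ ⥤ C₁` be a localization functor, `L₁ : C₁ ⥤ D`, `L₀ ≅ q ⋙ L₁`, `F₀ ≅ q ⋙ F₁`.
A left (resp. right) Kan extension of `F₁` along `L₁` is a left (resp. right) Kan extension of
`F₀` along `L₀`.
-/

set_option autoImplicit false

universe v₀ v₁ v₂ v₃ u₀ u₁ u₂ u₃

open CategoryTheory CategoryTheory.Functor CategoryTheory.Limits Opposite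

namespace Groth.Agent.Lib.Helper17.LDer

variable {C₀ : Type u₀} {C₁ : Type u₁} {D : Type u₂} {H : Type u₃}
  [Category.{v₀} C₀] [Category.{v₁} C₁] [Category.{v₂} D] [Category.{v₃} H]

section Right

variable (q : C₀ ⥤ C₁) (W₀ : MorphismProperty C₀) [q.IsLocalization W₀]
  {L₁ : C₁ ⥤ D} {L₀ : C₀ ⥤ D} (eL : q ⋙ L₁ ≅ L₀)
  {F₁ : C₁ ⥤ H} {F₀ : C₀ ⥤ H} (eF : q ⋙ F₁ ≅ F₀)
  (RF : D ⥤ H) (η₁ : F₁ ⟶ L₁ ⋙ RF) (η₀ : F₀ ⟶ L₀ ⋙ RF)
  (hη : ∀ K : C₀, η₀.app K = eF.inv.app K ≫ η₁.app (q.obj K) ≫ RF.map (eL.hom.app K))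

include W₀ hη in
/-- transitivity of left Kan extensions along a localization. -/
theorem isLeftKanExtension_of_localization [RF.IsLeftKanExtension η₁] :
    RF.IsLeftKanExtension η₀ := by
  haveI : F₁.IsRightDerivedFunctor eF.inv W₀ := Functor.isRightDerivedFunctor_of_inverts W₀ F₁ eF
  haveI : F₁.IsLeftKanExtension eF.inv :=
    Functor.IsRightDerivedFunctor.isLeftKanExtension (RF := F₁) (α := eF.inv) (W := W₀)
  refine (isLeftKanExtension_iff_postcompose (α := eF.inv) (L' := L₁) L₀ eL η₁ η₀ ?_).1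
    inferInstance
  ext K
  simp [hη K]

end Right

section Left

variable (q : C₀ ⥤ C₁) (W₀ : MorphismProperty C₀) [q.IsLocalization W₀]
  {L₁ : C₁ ⥤ D} {L₀ : C₀ ⥤ D} (eL : q ⋙ L₁ ≅ L₀)
  {F₁ : C₁ ⥤ H} {F₀ : C₀ ⥤ H} (eF : q ⋙ F₁ ≅ F₀)
  (LF : D ⥤ H) (ε₁ : L₁ ⋙ LF ⟶ F₁) (ε₀ : L₀ ⋙ LF ⟶ F₀)
  (hε : ∀ K : C₀, ε₀.app K = LF.map (eL.inv.app K) ≫ ε₁.app (q.obj K) ≫ eF.hom.app K)

/-- the opposite of an isomorphism `L ⋙ F' ≅ F`. -/
def opIso {C D H : Type*} [Category C] [Category D] [Category H]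
    {L : C ⥤ D} {F' : D ⥤ H} {F : C ⥤ H} (e : L ⋙ F' ≅ F) : L.op ⋙ F'.op ≅ F.op :=
  NatIso.ofComponents (fun X => ((e.app X.unop).symm).op) (fun {X Y} f =>
    Quiver.Hom.unop_inj (by
      change (e.inv.app Y.unop) ≫ F'.map (L.map f.unop) = F.map f.unop ≫ e.inv.app X.unop
      exact (e.inv.naturality f.unop).symm))

include W₀ hε in
/-- transitivity of right Kan extensions along a localization, through the opposite categories. -/
theorem isRightKanExtension_of_localization_of_op [LF.op.IsLeftKanExtension (opTrans ε₁)] :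
    LF.IsRightKanExtension ε₀ := by
  haveI : F₁.op.IsRightDerivedFunctor (opIso eF).inv W₀.op :=
    Functor.isRightDerivedFunctor_of_inverts W₀.op F₁.op (opIso eF)
  haveI : F₁.op.IsLeftKanExtension (opIso eF).inv :=
    Functor.IsRightDerivedFunctor.isLeftKanExtension (RF := F₁.op) (α := (opIso eF).inv)
      (W := W₀.op)
  haveI : LF.op.IsLeftKanExtension (opTrans ε₀) := by
    refine (isLeftKanExtension_iff_postcompose (α := (opIso eF).inv) (L' := L₁.op) L₀.op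
      (opIso eL) (opTrans ε₁) (opTrans ε₀) ?_).1 inferInstance
    ext K
    apply Quiver.Hom.unop_inj
    simp [hε K.unop, opIso]
  exact isRightKanExtension_of_op LF ε₀

end Left

end Groth.Agent.Lib.Helper17.LDer
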