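import Groth.Agent.Lib.Helper17DS2
import Groth.Agent.Lib.Helper17LDer2
import Groth.Agent.Lib.Helper17LDer3

/-!
# The left derivability structure on `K(A)` given by complexes with terms in a class `P`
(helper17)
-/

set_option autoImplicit false
set_option backward.isDefEq.respectTransparency false

universe v u

open CategoryTheory CategoryTheory.Limits CategoryTheory.Pretriangulated ZeroObject

namespace Groth.Agent.Lib.Helper17.LDer

open Groth.Agent.Lib.Helper17.DS

variable {A : Type u} [Category.{v} A] [Abelian A] (P : ObjectProperty A) [TermClass P]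

/-- the hypothesis that every complex has a left resolution by a complex with terms in `P`. -/
def HasTermwiseLRes : Prop :=
  ∀ K : CochainComplex A ℤ, ∃ (L : CochainComplex A ℤ) (f : L ⟶ K), QuasiIso f ∧ ∀ n, P (L.X n)

variable {P}

lemma hasLRes (hres : HasTermwiseLRes P) :
    HasLRes (hoTermwise P) (HomotopyCategory.subcategoryAcyclic A) := by
  intro X
  obtain ⟨K, rfl⟩ := X.quotient_obj_surjective
  obtain ⟨L, f, hf, hL⟩ := hres K
  refine ⟨(HomotopyCategory.quotient _ _).obj L, (hoTermwise_quotient_obj_iff L).2 hL,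
    (HomotopyCategory.quotient _ _).map f, ?_⟩
  rw [← HomotopyCategory.quasiIso_eq_trW_subcategoryAcyclic,
    HomotopyCategory.quotient_map_mem_quasiIso_iff]
  exact hf

theorem isLeftDerivabilityStructure_locMor (hres : HasTermwiseLRes P) :
    (locMor P).IsLeftDerivabilityStructure :=
  isLeftDerivabilityStructure (hasLRes hres)

section Derives

variable {H : Type*} [Category H] (G : HomotopyCategory A (.up ℤ) ⥤ H)

theorem isLeftKanExtension_op_aux (hres : HasTermwiseLRes P)
    (hG : (locMor P).Derives G)
    (W : MorphismProperty (HomotopyCategory A (.up ℤ)))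
    (hW : W = (HomotopyCategory.subcategoryAcyclic A).trW)
    {D : Type*} [Category D] (L : HomotopyCategory A (.up ℤ) ⥤ D)
    [L.IsLocalization W] (LF : D ⥤ H) (ε : L ⋙ LF ⟶ G)
    (hε : ∀ K : CochainComplex A ℤ, (∀ n, P (K.X n)) →
      IsIso (ε.app ((HomotopyCategory.quotient A (.up ℤ)).obj K))) :
    LF.op.IsLeftKanExtension (opTrans ε) := by
  subst hW
  haveI := isLeftDerivabilityStructure_locMor hres
  have hG' : (locMor P).op.Derives G.op := by
    intro X Y f hf
    haveI : IsIso (G.map ((locMor P).functor.map f.unop)) := hG f.unop hf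
    change IsIso ((G.map ((locMor P).functor.map f.unop)).op)
    infer_instance
  have hα : ∀ X₁, IsIso ((opTrans ε).app ((locMor P).op.functor.obj X₁)) := by
    intro X₁
    induction X₁ using Opposite.rec with | op X => ?_
    obtain ⟨⟨K⟩, hK⟩ := X
    have hK' : ∀ n, P (K.X n) := (hoTermwise_quotient_obj_iff K).1 hK
    haveI := hε K hK'
    change IsIso ((ε.app ((HomotopyCategory.quotient A (.up ℤ)).obj K)).op)
    infer_instance
  haveI := hG'.isRightDerivedFunctor_of_isIso (L₂ := L.op) (RF := LF.op) (opTrans ε) hα
  exact Functor.IsRightDerivedFunctor.isLeftKanExtension (RF := LF.op) (α := opTrans ε)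
    (W := (HomotopyCategory.subcategoryAcyclic A).trW.op)

/-- if `G` inverts quasi-isomorphisms between termwise-`P` complexes and `ε : L ⋙ LF ⟶ G` is an
isomorphism on termwise-`P` complexes, then `LF.op` is a left Kan extension of `G.op`. -/
theorem isLeftKanExtension_op_of_isIso (hres : HasTermwiseLRes P)
    (hG : (locMor P).Derives G)
    {D : Type*} [Category D] (L : HomotopyCategory A (.up ℤ) ⥤ D)
    [L.IsLocalization (HomotopyCategory.quasiIso A (.up ℤ))] (LF : D ⥤ H) (ε : L ⋙ LF ⟶ G)
    (hε : ∀ K : CochainComplex A ℤ, (∀ n, P (K.X n)) →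
      IsIso (ε.app ((HomotopyCategory.quotient A (.up ℤ)).obj K))) :
    LF.op.IsLeftKanExtension (opTrans ε) :=
  isLeftKanExtension_op_aux G hres hG _ (HomotopyCategory.quasiIso_eq_trW_subcategoryAcyclic A)
    L LF ε hε

end Derives

end Groth.Agent.Lib.Helper17.LDer
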