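import Groth.Agent.Lib.Helper17DS3

/-!
# Towers of short exact sequences and iterated connecting morphisms (helper17)

A tower is a sequence of short exact sequences `0 ⟶ C j ⟶ T j ⟶ C (j + 1) ⟶ 0`.  Iterating the
connecting morphisms of the right derived functors of `F` gives morphisms
`RⁱF(C j) ⟶ R^{i+j}F(C 0)`, isomorphisms for `i ≥ 1` when the `T j` are `F`-acyclic.
-/

set_option autoImplicit false
set_option backward.isDefEq.respectTransparency false

universe v u v' u'

open CategoryTheory CategoryTheory.Limits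

namespace Groth.Agent.Lib.Helper17.LDer

open RDer Groth.Agent.Lib.Helper17.RDerLib Groth.Agent.Lib.Helper17.DS

variable {A : Type u} [Category.{v} A] [Abelian A]

/-- a tower of short exact sequences. -/
structure Tower (A : Type u) [Category.{v} A] [Abelian A] where
  /-- the syzygies -/
  C : ℕ → A
  /-- the middle terms -/
  T : ℕ → A
  /-- the embeddings -/
  i : ∀ j, C j ⟶ T j
  /-- the projections -/
  p : ∀ j, T j ⟶ C (j + 1)
  zero : ∀ j, i j ≫ p j = 0
  shortExact : ∀ j, (ShortComplex.mk (i j) (p j) (zero j)).ShortExact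

namespace Tower

/-- the `j`-th short complex. -/
abbrev sc (tw : Tower A) (j : ℕ) : ShortComplex A := ShortComplex.mk (tw.i j) (tw.p j) (tw.zero j)

/-- morphisms of towers. -/
structure Hom (tw tw' : Tower A) where
  /-- on syzygies -/
  c : ∀ j, tw.C j ⟶ tw'.C j
  /-- on middle terms -/
  t : ∀ j, tw.T j ⟶ tw'.T j
  comm_i : ∀ j, tw.i j ≫ t j = c j ≫ tw'.i j
  comm_p : ∀ j, tw.p j ≫ c (j + 1) = t j ≫ tw'.p j

/-- the morphism of short complexes. -/
def Hom.scHom {tw tw' : Tower A} (φ : Hom tw tw') (j : ℕ) : tw.sc j ⟶ tw'.sc j where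
  τ₁ := φ.c j
  τ₂ := φ.t j
  τ₃ := φ.c (j + 1)
  comm₁₂ := (φ.comm_i j).symm
  comm₂₃ := (φ.comm_p j).symm

end Tower

variable [HasInjectiveResolutions A] [EnoughInjectives A]
  {B : Type u'} [Category.{v'} B] [Abelian B] (F : A ⥤ B) [F.Additive]

/-- the connecting morphism of a short exact sequence (for a chosen resolution). -/
noncomputable def sesδ (S : ShortComplex A) (hS : S.ShortExact) (n₀ n₁ : ℕ) (h : n₀ + 1 = n₁) :
    (F.rightDerived n₀).obj S.X₃ ⟶ (F.rightDerived n₁).obj S.X₁ :=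
  (Classical.choice (nonempty_sesRes S hS)).delta F n₀ n₁ h

lemma sesδ_naturality {S S' : ShortComplex A} (φ : S ⟶ S') (hS : S.ShortExact)
    (hS' : S'.ShortExact) (n₀ n₁ : ℕ) (h : n₀ + 1 = n₁) :
    (F.rightDerived n₀).map φ.τ₃ ≫ sesδ F S' hS' n₀ n₁ h =
      sesδ F S hS n₀ n₁ h ≫ (F.rightDerived n₁).map φ.τ₁ :=
  delta_naturality F φ _ _ n₀ n₁ h

lemma sesδ_exact₃ (S : ShortComplex A) (hS : S.ShortExact) (n₀ n₁ : ℕ) (h : n₀ + 1 = n₁) :
    (ShortComplex.mk ((F.rightDerived n₀).map S.g) (sesδ F S hS n₀ n₁ h)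
      (comp_δ F _ n₀ n₁ h)).Exact :=
  exact₃ F _ n₀ n₁ h

lemma sesδ_exact₁ (S : ShortComplex A) (hS : S.ShortExact) (n₀ n₁ : ℕ) (h : n₀ + 1 = n₁) :
    (ShortComplex.mk (sesδ F S hS n₀ n₁ h) ((F.rightDerived n₁).map S.f)
      (δ_comp F _ n₀ n₁ h)).Exact :=
  exact₁ F _ n₀ n₁ h

lemma mono_sesδ (S : ShortComplex A) (hS : S.ShortExact) (n₀ n₁ : ℕ) (h : n₀ + 1 = n₁)
    (h₂ : IsZero ((F.rightDerived n₀).obj S.X₂)) : Mono (sesδ F S hS n₀ n₁ h) :=
  (sesδ_exact₃ F S hS n₀ n₁ h).mono_g (h₂.eq_of_src _ _)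

lemma epi_sesδ (S : ShortComplex A) (hS : S.ShortExact) (n₀ n₁ : ℕ) (h : n₀ + 1 = n₁)
    (h₂ : IsZero ((F.rightDerived n₁).obj S.X₂)) : Epi (sesδ F S hS n₀ n₁ h) :=
  (sesδ_exact₁ F S hS n₀ n₁ h).epi_f (h₂.eq_of_tgt _ _)

lemma isIso_sesδ (S : ShortComplex A) (hS : S.ShortExact) (n₀ n₁ : ℕ) (h : n₀ + 1 = n₁)
    (h₂ : IsZero ((F.rightDerived n₀).obj S.X₂)) (h₂' : IsZero ((F.rightDerived n₁).obj S.X₂)) :
    IsIso (sesδ F S hS n₀ n₁ h) := by
  haveI := mono_sesδ F S hS n₀ n₁ h h₂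
  haveI := epi_sesδ F S hS n₀ n₁ h h₂'
  exact isIso_of_mono_of_epi _

namespace Tower

variable (tw : Tower A)

/-- the iterated connecting morphism `RⁱF(C j) ⟶ RᵐF(C 0)`, `m = i + j`. -/
noncomputable def chain : ∀ (j i m : ℕ), i + j = m →
    ((F.rightDerived i).obj (tw.C j) ⟶ (F.rightDerived m).obj (tw.C 0))
  | 0, i, m, h => eqToHom (by obtain rfl : i = m := by omega
                              rfl)
  | j + 1, i, m, h => sesδ F (tw.sc j) (tw.shortExact j) i (i + 1) rfl ≫
      chain j (i + 1) m (by omega)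

lemma chain_zero (i : ℕ) : tw.chain F 0 i i rfl = 𝟙 _ := rfl

lemma chain_succ (j i m : ℕ) (h : i + (j + 1) = m) :
    tw.chain F (j + 1) i m h = sesδ F (tw.sc j) (tw.shortExact j) i (i + 1) rfl ≫
      tw.chain F j (i + 1) m (by omega) := rfl

variable {tw}

lemma chain_naturality {tw' : Tower A} (φ : Hom tw tw') :
    ∀ (j i m : ℕ) (h : i + j = m),
      (F.rightDerived i).map (φ.c j) ≫ tw'.chain F j i m h =
        tw.chain F j i m h ≫ (F.rightDerived m).map (φ.c 0) := by
  intro j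
  induction j with
  | zero =>
    intro i m h
    obtain rfl : i = m := by omega
    rw [chain_zero, chain_zero, Category.comp_id, Category.id_comp]
  | succ j ih =>
    intro i m h
    have e := sesδ_naturality F (φ.scHom j) (tw.shortExact j) (tw'.shortExact j) i (i + 1) rfl
    change (F.rightDerived i).map (φ.c (j + 1)) ≫ _ = _ ≫ (F.rightDerived (i + 1)).map (φ.c j) at e
    rw [chain_succ, chain_succ, ← Category.assoc, e, Category.assoc, Category.assoc]
    congr 1
    exact ih (i + 1) m (by omega)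

variable (tw)

/-- the iterated connecting morphisms are isomorphisms in positive degrees when the middle
terms are acyclic. -/
lemma isIso_chain (n : ℕ) (hT : ∀ j, j < n → acyc F (tw.T j)) :
    ∀ (j i m : ℕ) (h : i + j = m), j ≤ n → 1 ≤ i → IsIso (tw.chain F j i m h) := by
  intro j
  induction j with
  | zero =>
    intro i m h _ _
    obtain rfl : i = m := by omega
    rw [chain_zero]
    infer_instance
  | succ j ih =>
    intro i m h hj hi
    rw [chain_succ]
    haveI := ih (i + 1) m (by omega) (by omega) (by omega)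
    haveI := isIso_sesδ F (tw.sc j) (tw.shortExact j) i (i + 1) rfl
      (hT j (by omega) i (by omega)) (hT j (by omega) (i + 1) (by omega))
    infer_instance

lemma epi_chain_zero (n : ℕ) (hT : ∀ j, j < n → acyc F (tw.T j)) (j m : ℕ) (h : 0 + (j + 1) = m)
    (hj : j + 1 ≤ n) : Epi (tw.chain F (j + 1) 0 m h) := by
  rw [chain_succ]
  haveI := isIso_chain F tw n hT j 1 m (by omega) (by omega) le_rfl
  haveI := epi_sesδ F (tw.sc j) (tw.shortExact j) 0 1 rfl (hT j (by omega) 1 Nat.one_pos)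
  exact epi_comp _ _

lemma map_p_chain (j m : ℕ) (h : 0 + (j + 1) = m) :
    (F.rightDerived 0).map (tw.p j) ≫ tw.chain F (j + 1) 0 m h = 0 := by
  rw [chain_succ, ← Category.assoc]
  have := comp_δ F (Classical.choice (nonempty_sesRes (tw.sc j) (tw.shortExact j))) 0 1 rfl
  change (F.rightDerived 0).map (tw.p j) ≫ sesδ F (tw.sc j) (tw.shortExact j) 0 1 rfl = 0 at this
  rw [this, zero_comp]

lemma exact_chain_zero (n : ℕ) (hT : ∀ j, j < n → acyc F (tw.T j)) (j m : ℕ)
    (h : 0 + (j + 1) = m) (hj : j + 1 ≤ n) :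
    (ShortComplex.mk ((F.rightDerived 0).map (tw.p j)) (tw.chain F (j + 1) 0 m h)
      (map_p_chain F tw j m h)).Exact := by
  haveI := isIso_chain F tw n hT j 1 m (by omega) (by omega) le_rfl
  have hex := sesδ_exact₃ F (tw.sc j) (tw.shortExact j) 0 1 rfl
  let φ : ShortComplex.mk ((F.rightDerived 0).map (tw.sc j).g)
        (sesδ F (tw.sc j) (tw.shortExact j) 0 1 rfl) (comp_δ F _ 0 1 rfl) ⟶
      ShortComplex.mk ((F.rightDerived 0).map (tw.p j)) (tw.chain F (j + 1) 0 m h)
        (map_p_chain F tw j m h) :=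
    { τ₁ := 𝟙 _
      τ₂ := 𝟙 _
      τ₃ := tw.chain F j 1 m (by omega)
      comm₁₂ := by
        dsimp
        rw [Category.id_comp, Category.comp_id]
      comm₂₃ := by
        dsimp
        rw [Category.id_comp, chain_succ] }
  haveI : IsIso φ.τ₁ := by dsimp [φ]; infer_instance
  haveI : IsIso φ.τ₂ := by dsimp [φ]; infer_instance
  haveI : IsIso φ.τ₃ := by dsimp [φ]; infer_instance
  exact (ShortComplex.exact_iff_of_epi_of_isIso_of_mono φ).1 hex

end Tower

end Groth.Agent.Lib.Helper17.LDer
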