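import Groth.Agent.Lib.Helper17Hull2
import Groth.Agent.Lib.Helper17LDer5

/-!
# Morphisms of hull resolutions, and the towers obtained by evaluation (helper17)
-/

set_option autoImplicit false
set_option backward.isDefEq.respectTransparency false

universe v u

open CategoryTheory CategoryTheory.Limits

namespace Groth.Agent.Lib.Helper17.LDer

open Groth.Agent.Lib.Helper17.Hull

section General

variable {𝒞 : Type u} [Category.{v} 𝒞] [Abelian 𝒞] (H : HullData 𝒞)

/-- the hulls have the lifting property with respect to each other. -/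
def HasLifts : Prop := ∀ (j : ℕ) (Z Z' : 𝒞) (c : Z ⟶ Z'),
  ∃ t : H.obj j Z ⟶ H.obj j Z', H.map j Z ≫ t = c ≫ H.map j Z'

variable {H} (hl : HasLifts H) {X Y : 𝒞} (f : X ⟶ Y)

/-- a chosen lift. -/
noncomputable def liftT₀ (j : ℕ) {Z Z' : 𝒞} (c : Z ⟶ Z') : H.obj j Z ⟶ H.obj j Z' :=
  (hl j Z Z' c).choose

lemma liftT₀_spec (j : ℕ) {Z Z' : 𝒞} (c : Z ⟶ Z') :
    H.map j Z ≫ liftT₀ hl j c = c ≫ H.map j Z' := (hl j Z Z' c).choose_spec

/-- the induced morphisms on the successive cokernels. -/
noncomputable def liftC : ∀ j : ℕ, cok H X j ⟶ cok H Y j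
  | 0 => f
  | j + 1 => cokernel.map (H.map j (cok H X j)) (H.map j (cok H Y j)) (liftC j)
      (liftT₀ hl j (liftC j)) (liftT₀_spec hl j (liftC j))

/-- the induced morphisms on the terms. -/
noncomputable def liftT (j : ℕ) : term H X j ⟶ term H Y j := liftT₀ hl j (liftC hl f j)

@[simp] lemma liftC_zero : liftC hl f 0 = f := rfl

@[reassoc]
lemma emb_liftT (j : ℕ) : emb H X j ≫ liftT hl f j = liftC hl f j ≫ emb H Y j :=
  liftT₀_spec hl j (liftC hl f j)

@[reassoc]
lemma proj_liftC (j : ℕ) : proj H X j ≫ liftC hl f (j + 1) = liftT hl f j ≫ proj H Y j := by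
  change cokernel.π (H.map j (cok H X j)) ≫ cokernel.map (H.map j (cok H X j))
    (H.map j (cok H Y j)) (liftC hl f j) (liftT₀ hl j (liftC hl f j))
    (liftT₀_spec hl j (liftC hl f j)) = liftT₀ hl j (liftC hl f j) ≫ cokernel.π _
  rw [cokernel.π_desc]

@[reassoc]
lemma liftT_dd (j : ℕ) : liftT hl f j ≫ dd H Y j = dd H X j ≫ liftT hl f (j + 1) := by
  unfold dd
  rw [← Category.assoc, ← proj_liftC, Category.assoc, Category.assoc, emb_liftT]

/-- the morphism of resolutions. -/
noncomputable def liftRes : res H X ⟶ res H Y :=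
  CochainComplex.ofHom (X := res H X) (Y := res H Y) (liftT hl f) (fun j => by
    rw [res_d, res_d]
    exact liftT_dd hl f j)

lemma liftRes_f (j : ℕ) : (liftRes hl f).f j = liftT hl f j := rfl

lemma aug_liftRes :
    aug H X ≫ liftRes hl f = (CochainComplex.single₀ 𝒞).map f ≫ aug H Y := by
  apply HomologicalComplex.from_single_hom_ext
  rw [HomologicalComplex.comp_f, HomologicalComplex.comp_f, aug_f_zero, aug_f_zero, liftRes_f,
    emb_liftT, liftC_zero]
  erw [CochainComplex.single₀_map_f_zero]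

end General

end Groth.Agent.Lib.Helper17.LDer
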