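import Groth.Agent.Lib.Helper17LDer7
import Mathlib.Algebra.Homology.HomologicalComplexLimits

/-!
# Discs on injective objects have the lifting property; evaluation towers (helper17)
-/

set_option autoImplicit false
set_option backward.isDefEq.respectTransparency false

universe v u

open CategoryTheory CategoryTheory.Limits

namespace Groth.Agent.Lib.Helper17.LDer

open Groth.Agent.Lib.Helper17.Hull

variable {A : Type u} [Category.{v} A] [Abelian A]

section Disc

variable (Pc : A → A)

/-- the morphism to the disc complex with given first components. -/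
noncomputable def toDisc {M N : CochainComplex A ℤ} (u : ∀ k, M.X k ⟶ Pc (N.X k)) :
    M ⟶ discObj Pc N where
  f k := (biprod.lift (u k) (M.d k (k + 1) ≫ u (k + 1)) :
    M.X k ⟶ (Pc (N.X k) ⊞ Pc (N.X (k + 1))))
  comm' k k' h := by
    obtain rfl : k + 1 = k' := h
    rw [discObj_d]
    apply biprod.hom_ext
    · simp
    · simp

lemma toDisc_f {M N : CochainComplex A ℤ} (u : ∀ k, M.X k ⟶ Pc (N.X k)) (k : ℤ) :
    (toDisc Pc u).f k = (biprod.lift (u k) (M.d k (k + 1) ≫ u (k + 1)) :
      M.X k ⟶ (Pc (N.X k) ⊞ Pc (N.X (k + 1)))) := rfl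

/-- the first component of a morphism to a disc complex. -/
noncomputable def discFst {M N : CochainComplex A ℤ} (g : M ⟶ discObj Pc N) (k : ℤ) :
    M.X k ⟶ Pc (N.X k) :=
  g.f k ≫ (biprod.fst : (Pc (N.X k) ⊞ Pc (N.X (k + 1))) ⟶ Pc (N.X k))

lemma toDisc_discFst {M N : CochainComplex A ℤ} (g : M ⟶ discObj Pc N) :
    toDisc Pc (discFst Pc g) = g := by
  ext k
  rw [toDisc_f]
  apply biprod.hom_ext
  · rw [biprod.lift_fst]
    rfl
  · rw [biprod.lift_snd]
    have h := g.comm k (k + 1)
    rw [discObj_d] at h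
    have h' := h =≫ (biprod.fst : (Pc (N.X (k + 1)) ⊞ Pc (N.X (k + 1 + 1))) ⟶ Pc (N.X (k + 1)))
    simp only [Category.assoc, biprod.inl_fst, Category.comp_id] at h'
    unfold discFst
    exact h'.symm

lemma comp_toDisc {M M' N : CochainComplex A ℤ} (m : M ⟶ M') (u : ∀ k, M'.X k ⟶ Pc (N.X k)) :
    m ≫ toDisc Pc u = toDisc Pc (fun k => m.f k ≫ u k) := by
  ext k
  rw [HomologicalComplex.comp_f, toDisc_f, toDisc_f]
  apply biprod.hom_ext
  · simp
  · simp

variable [∀ Z, Injective (Pc Z)]

lemma disc_lift {M M' N : CochainComplex A ℤ} (m : M ⟶ M') [Mono m] (g : M ⟶ discObj Pc N) :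
    ∃ h : M' ⟶ discObj Pc N, m ≫ h = g := by
  refine ⟨toDisc Pc (fun k => Injective.factorThru (discFst Pc g k) (m.f k)), ?_⟩
  rw [comp_toDisc]
  conv_rhs => rw [← toDisc_discFst Pc g]
  congr 1
  funext k
  exact Injective.comp_factorThru _ _

variable (ic : ∀ Z : A, Z ⟶ Pc Z) [∀ Z, Mono (ic Z)]

lemma truncHull_map_lt (n j : ℕ) (Y : CochainComplex A ℤ) (h : j < n) :
    (truncHull Pc ic n).map j Y =
      discMap Pc ic Y ≫ eqToHom (truncHull_obj_lt Pc ic n j Y h).symm := dif_pos h

theorem hasLifts_truncHull (n : ℕ) : HasLifts (truncHull Pc ic n) := by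
  intro j Z Z' c
  by_cases h : j < n
  · obtain ⟨t', ht'⟩ := disc_lift Pc (discMap Pc ic Z) (c ≫ discMap Pc ic Z')
    refine ⟨eqToHom (truncHull_obj_lt Pc ic n j Z h) ≫ t' ≫
      eqToHom (truncHull_obj_lt Pc ic n j Z' h).symm, ?_⟩
    rw [truncHull_map_lt Pc ic n j Z h, truncHull_map_lt Pc ic n j Z' h, Category.assoc,
      eqToHom_trans_assoc, eqToHom_refl, Category.id_comp, ← Category.assoc, ht', Category.assoc]
  · haveI := truncHull_map_isIso Pc ic n j Z h
    exact ⟨inv ((truncHull Pc ic n).map j Z) ≫ c ≫ (truncHull Pc ic n).map j Z', by simp⟩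

end Disc

section Eval

variable (H : HullData (CochainComplex A ℤ)) (X : CochainComplex A ℤ)

/-- the tower in `A` obtained by evaluating the hull resolution of `X` in degree `p`. -/
noncomputable def evalTower (p : ℤ) : Tower A where
  C j := (cok H X j).X p
  T j := (term H X j).X p
  i j := (emb H X j).f p
  p j := (proj H X j).f p
  zero j := by
    rw [← HomologicalComplex.comp_f, emb_proj, HomologicalComplex.zero_f]
  shortExact j :=
    (sc_shortExact H X j).map_of_exact (HomologicalComplex.eval A (ComplexShape.up ℤ) p)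

/-- the morphism of towers induced by the differential. -/
noncomputable def evalTowerD (p p' : ℤ) : Tower.Hom (evalTower H X p) (evalTower H X p') where
  c j := (cok H X j).d p p'
  t j := (term H X j).d p p'
  comm_i j := ((emb H X j).comm p p')
  comm_p j := ((proj H X j).comm p p')

variable {H} (hl : HasLifts H) {X} {Y : CochainComplex A ℤ} (f : X ⟶ Y)

/-- the morphism of towers induced by a morphism of complexes. -/
noncomputable def evalTowerMap (p : ℤ) : Tower.Hom (evalTower H X p) (evalTower H Y p) where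
  c j := (liftC hl f j).f p
  t j := (liftT hl f j).f p
  comm_i j := by
    change (emb H X j).f p ≫ (liftT hl f j).f p = (liftC hl f j).f p ≫ (emb H Y j).f p
    rw [← HomologicalComplex.comp_f, ← HomologicalComplex.comp_f, emb_liftT]
  comm_p j := by
    change (proj H X j).f p ≫ (liftC hl f (j + 1)).f p = (liftT hl f j).f p ≫ (proj H Y j).f p
    rw [← HomologicalComplex.comp_f, ← HomologicalComplex.comp_f, proj_liftC]

end Eval

end Groth.Agent.Lib.Helper17.LDer
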