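import Mathlib
import Groth.Prelude.Def_SpSeq
import Groth.Agent.S8347
import Groth.Agent.Lib.Helper10SpSeq

/-!
# Helper17: an `E₂` spectral sequence concentrated in the column `p = 0` (or the row `q = 0`)
identifies its abutment with the surviving terms.
-/

set_option autoImplicit false
universe v u
open CategoryTheory Limits

namespace Groth.Agent.Lib.Helper17.SSColumn

variable {C : Type u} [Category.{v} C] [Abelian C]

/-- If `E₂^{p,q} = 0` for `p ≠ 0` and the abutment filtrations are finite, then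
`H^n ≅ E₂^{0,n}`. -/
theorem nonempty_iso_of_column_zero (E : E₂CohomologicalSpectralSequence C) {H : ℤ → C}
    (a : SpSeq.Abutment E H) (hfin : ∀ n, a.IsFinite n)
    (hpage : ∀ p q : ℤ, p ≠ 0 → IsZero ((E.page 2 le_rfl).X (p, q))) (n : ℤ) :
    Nonempty (H n ≅ (E.page 2 le_rfl).X (0, n)) := by
  have hpage' : ∀ (k : ℤ) (hk : 2 ≤ k) (p q' : ℤ), p ≠ 0 →
      IsZero ((E.page k hk).X (p, q')) := fun k hk p q' hp =>
    (Groth.Agent.S8355.result E 2 le_rfl (p, q') (hpage p q' hp)).1 k hk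
  have hst : SpSeq.StationaryAt E (n - n, n) 2 := by
    refine ⟨le_rfl, fun r' h₀ hr' => ⟨?_, ?_⟩⟩
    · exact (hpage' r' hr' _ _ (by simp only [Prod.fst_sub]; omega)).eq_of_src _ _
    · exact (hpage' r' hr' _ _ (by simp only [Prod.fst_add]; omega)).eq_of_tgt _ _
  obtain ⟨e⟩ := Groth.Agent.S8347.result E a 2 le_rfl (fun m => m)
    (fun m q' hq' => hpage _ _ (by omega)) n (hfin n).2
    (Groth.Agent.Lib.Helper10.SpSeqLib.isExhaustive_of_isFinite _ (hfin n)) hst
  have h0 : n - n = 0 := sub_self n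
  simp only [h0] at e
  exact ⟨e⟩

/-- If `E₂^{p,q} = 0` for `q ≠ 0` and the abutment filtrations are finite, then
`H^n ≅ E₂^{n,0}`. -/
theorem nonempty_iso_of_row_zero (E : E₂CohomologicalSpectralSequence C) {H : ℤ → C}
    (a : SpSeq.Abutment E H) (hfin : ∀ n, a.IsFinite n)
    (hpage : ∀ p q : ℤ, q ≠ 0 → IsZero ((E.page 2 le_rfl).X (p, q))) (n : ℤ) :
    Nonempty (H n ≅ (E.page 2 le_rfl).X (n, 0)) := by
  have hpage' : ∀ (k : ℤ) (hk : 2 ≤ k) (p q' : ℤ), q' ≠ 0 →
      IsZero ((E.page k hk).X (p, q')) := fun k hk p q' hp =>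
    (Groth.Agent.S8355.result E 2 le_rfl (p, q') (hpage p q' hp)).1 k hk
  have hst : SpSeq.StationaryAt E (n - 0, 0) 2 := by
    refine ⟨le_rfl, fun r' h₀ hr' => ⟨?_, ?_⟩⟩
    · exact (hpage' r' hr' _ _ (by simp only [Prod.snd_sub]; omega)).eq_of_src _ _
    · exact (hpage' r' hr' _ _ (by simp only [Prod.snd_add]; omega)).eq_of_tgt _ _
  obtain ⟨e⟩ := Groth.Agent.S8347.result E a 2 le_rfl (fun _ => 0)
    (fun m q' hq' => hpage _ _ hq') n (hfin n).2
    (Groth.Agent.Lib.Helper10.SpSeqLib.isExhaustive_of_isFinite _ (hfin n)) hst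
  have h0 : n - 0 = n := sub_zero n
  simp only [h0] at e
  exact ⟨e⟩

end Groth.Agent.Lib.Helper17.SSColumn
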