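import Mathlib
import Groth.Agent.S11918
import Groth.Agent.Lib.Helper23LocSS
import Groth.Agent.Lib.Helper23Leray
import Groth.Agent.Lib.Helper23Acyclic
import Groth.Agent.Lib.Helper23ExtRD
import Groth.Agent.Lib.Helper21FreeConst
import Groth.Agent.Lib.Helper21PushAcyc

/-!
# Helper21: the Leray spectral sequence `Ext^p(A, R^q u_* M) ⇒ Ext^{p+q}(u⁻¹ A, M)`
-/

universe u
open CategoryTheory Limits Opposite

namespace Groth.Agent.Lib.Helper21.LeraySS

open Groth.Agent.Lib.Helper23SS3 Groth.Agent.Lib.Helper23SS5 Groth.Agent.S12229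
  Groth.Agent.Lib.Helper23Acyclic Groth.Agent.Lib.Helper23Leray Groth.Agent.Lib.Helper23Bridge
  Groth.Agent.Lib.Helper23LocSS Groth.Agent.Lib.Helper23ExtRD
  Groth.Agent.Lib.Helper21.FreeAb Groth.Agent.Lib.Helper21.PushAcyc

theorem leray_general {C D : Type u} [SmallCategory C] [SmallCategory D]
    (J : GrothendieckTopology C) (K : GrothendieckTopology D) (u : D ⥤ C) [u.IsContinuous K J]
    [PreservesFiniteLimits (u.sheafPullback (Type u) K J)] (M : Sheaf J AddCommGrpCat.{u})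
    (A : Sheaf K AddCommGrpCat.{u})
    (H : ℕ → AddCommGrpCat.{u})
    (hH : ∀ n : ℕ, Nonempty (AddCommGrpCat.of (Abelian.Ext.{u} ((pull J K u).obj A) M n) ≅ H n))
    (E2 : ℕ → ℕ → AddCommGrpCat.{u})
    (hE2 : ∀ p q : ℕ, Nonempty (AddCommGrpCat.of
      (Abelian.Ext.{u} A ((CohSite.Rpush J K u q).obj M) p) ≅ E2 p q)) :
    ∃ (E : E₂CohomologicalSpectralSequence AddCommGrpCat.{u})
      (a : SpSeq.Abutment E (fun n : ℤ =>
        if 0 ≤ n then H n.toNat else AddCommGrpCat.of PUnit.{u + 1})),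
      (∀ n, a.IsFinite n) ∧ SpSeq.IsBounded E ∧
      ∀ p q : ℤ, Nonempty ((E.page 2 le_rfl).X (p, q) ≅
        (if 0 ≤ p ∧ 0 ≤ q then E2 p.toNat q.toNat
         else AddCommGrpCat.of PUnit.{u + 1})) := by
  let T : Sheaf J AddCommGrpCat.{u} ⥤ Sheaf K AddCommGrpCat.{u} := CohSite.push J K u
  let S : Sheaf K AddCommGrpCat.{u} ⥤ AddCommGrpCat.{u} :=
    preadditiveCoyoneda.obj (op A)
  have hz : IsZero (AddCommGrpCat.of PUnit.{u + 1}) := AddCommGrpCat.isZero_of_subsingleton _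
  have hT : ∀ Q : Sheaf J AddCommGrpCat.{u}, Injective Q → ∀ q : ℕ, 0 < q →
      IsZero ((S.rightDerived q).obj (T.obj Q)) := by
    intro Q hQ q hq
    obtain ⟨q, rfl⟩ : ∃ k, q = k + 1 := ⟨q - 1, by lia⟩
    haveI : Injective (T.obj Q) := (CohSite.push J K u).injective_obj_of_injective hQ
    exact Functor.isZero_rightDerived_obj_injective_succ S q (T.obj Q)
  have : HasDerivedCategory.{u + 1} (Sheaf J AddCommGrpCat.{u}) := HasDerivedCategory.standard _
  have : HasDerivedCategory.{u + 1} (Sheaf K AddCommGrpCat.{u}) := HasDerivedCategory.standard _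
  have : HasDerivedCategory.{u + 1} AddCommGrpCat.{u} := HasDerivedCategory.standard _
  let I : InjectiveResolution M := injectiveResolution M
  let TI : CochainComplex (Sheaf K AddCommGrpCat.{u}) ℤ :=
    (T.mapHomologicalComplex (ComplexShape.up ℤ)).obj I.cochainComplex
  have hTI : TI.IsStrictlyGE 0 := by dsimp [TI]; infer_instance
  let K' : CochainComplex.Plus (Sheaf K AddCommGrpCat.{u}) := ⟨TI, 0, hTI⟩
  let Y' := DerivedCategory.Plus.Q.obj K'
  have hY : Y'.IsGE 0 := by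
    rw [← DerivedCategory.Plus.isGE_ι_obj_iff]
    show (DerivedCategory.Q.obj TI).IsGE 0
    infer_instance
  have hK : IsIso (τ S K') := leray S K' (fun m => (acyclic_iff S _).2 (hT _ (by
    show Injective (I.cochainComplex.X m); infer_instance)))
  let isoTS : T ⋙ S ≅ preadditiveCoyoneda.obj (op ((pull J K u).obj A)) :=
    adjCoyonedaIso (adjP J K u) A
  have e : ∀ n : ℤ, Nonempty ((DerivedCategory.homologyFunctor AddCommGrpCat.{u} n).obj ((G S).obj Y') ≅
      (if 0 ≤ n then H n.toNat else AddCommGrpCat.of PUnit.{u + 1})) := by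
    intro n
    obtain ⟨e₁⟩ := homology_G_Q S K' hK n
    by_cases h : 0 ≤ n
    · rw [if_pos h]
      obtain ⟨e₂⟩ := homology_map_cochainComplex (T ⋙ S) I n.toNat n (Int.toNat_of_nonneg h)
      let e₃ := (rightDerivedIso isoTS n.toNat).app M
      obtain ⟨e₄⟩ := rightDerived_coyoneda_iso ((pull J K u).obj A) M n.toNat
      obtain ⟨e₅⟩ := hH n.toNat
      exact ⟨e₁ ≪≫ e₂ ≪≫ e₃ ≪≫ e₄ ≪≫ e₅⟩
    · rw [if_neg h]
      exact ⟨e₁ ≪≫ (isZero_homology_map_cochainComplex (T ⋙ S) I n (by lia)).isoZero ≪≫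
        hz.isoZero.symm⟩
  obtain ⟨E, a, ha, hE, hpq⟩ := exists_spectralSequence S Y' _ (fun n => (e n).some)
  refine ⟨E, a, ha, hE, fun p q => ?_⟩
  by_cases h : 0 ≤ p ∧ 0 ≤ q
  · rw [if_pos h]
    obtain ⟨e₁⟩ := (hpq p q).1 p.toNat (Int.toNat_of_nonneg h.1)
    obtain ⟨e₂⟩ := homology_map_cochainComplex T I q.toNat q (Int.toNat_of_nonneg h.2)
    obtain ⟨e₃⟩ := rightDerived_coyoneda_iso A
      ((CohSite.Rpush J K u q.toNat).obj M) p.toNat
    obtain ⟨e₄⟩ := hE2 p.toNat q.toNat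
    exact ⟨e₁ ≪≫ (S.rightDerived p.toNat).mapIso
      ((DerivedCategory.homologyFunctorFactors (Sheaf K AddCommGrpCat.{u}) q).app TI ≪≫ e₂) ≪≫
        e₃ ≪≫ e₄⟩
  · rw [if_neg h]
    exact ⟨((hpq p q).2 h).isoZero ≪≫ hz.isoZero.symm⟩

end Groth.Agent.Lib.Helper21.LeraySS
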