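import Groth.Agent.S0007
import Groth.Agent.S0030
import Groth.Agent.Lib.Helper21LeraySS
import Groth.Agent.Lib.Helper23ModAbBridge
import Groth.Agent.Lib.Helper17LerayTop
import Groth.Agent.Lib.Helper17SSColumn
import Groth.Agent.Lib.Helper17QCPush2

/-!
# Helper17: the Leray spectral sequence of a morphism of schemes, and its degeneration over an
affine base for quasi-coherent modules.
-/

set_option autoImplicit false
universe u
open AlgebraicGeometry CategoryTheory Opposite Limits TopologicalSpace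

namespace Groth.Agent.Lib.Helper17.LerayTop

open Groth.Agent.Lib.Helper17 Groth.Agent.Lib.Helper21

/-- `H^p(S, R^q f_* M) = 0` for `p > 0`, `S` affine, `f` qcqs, `M` quasi-coherent. -/
theorem subsingleton_H_RpushAb {X S : Scheme.{u}} (f : X ⟶ S)
    [QuasiCompact f] [QuasiSeparated f] [IsAffine S] (M : X.Modules) [Coh.IsQCoh M] (p q' : ℕ)
    (hp : 0 < p) :
    Subsingleton (Abelian.Ext.{u} (Zc (TopCat.of S)) ((Coh.RpushAb f q').obj (Coh.toAb M)) p) := by
  haveI : EnoughInjectives X.Modules := QCPush.enoughInjectives X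
  obtain ⟨e⟩ := Groth.Agent.Lib.Helper23.ModAbBridge.nonempty_toAb_Rpush_iso f M q'
  haveI : Coh.IsQCoh ((Coh.Rpush f q').obj M) := Groth.Agent.S0030.result f M q'
  haveI : Subsingleton (Coh.HH S ((Coh.Rpush f q').obj M) p) :=
    Groth.Agent.S0007.result S ((Coh.Rpush f q').obj M) p hp
  exact (extIsoRight (Zc (TopCat.of S)) e p).symm.addCommGroupIsoToAddEquiv.toEquiv.subsingleton

/-- The Leray spectral sequence `H^p(S, R^q f_* M) ⇒ H^{p+q}(X, M)` of a morphism of schemes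
(abelian sheaves). -/
theorem leray {X S : Scheme.{u}} (f : X ⟶ S) (M : X.Modules) :
    ∃ (E : E₂CohomologicalSpectralSequence AddCommGrpCat.{u})
      (a : SpSeq.Abutment E (fun n : ℤ =>
        if 0 ≤ n then AddCommGrpCat.of (Coh.HH X M n.toNat) else AddCommGrpCat.of PUnit.{u + 1})),
      (∀ n, a.IsFinite n) ∧ SpSeq.IsBounded E ∧
      ∀ p q : ℤ, Nonempty ((E.page 2 le_rfl).X (p, q) ≅
        (if 0 ≤ p ∧ 0 ≤ q then AddCommGrpCat.of
          (Abelian.Ext.{u} (Zc (TopCat.of S)) ((Coh.RpushAb f q.toNat).obj (Coh.toAb M)) p.toNat)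
         else AddCommGrpCat.of PUnit.{u + 1})) :=
  LeraySS.leray_general (Opens.grothendieckTopology X)
    (Opens.grothendieckTopology S) (Opens.map f.base) (Coh.toAb M) (Zc (TopCat.of S))
    (fun n => AddCommGrpCat.of (Coh.HH X M n))
    (fun n => ⟨extIsoLeft (pullZcIso f.base) (Coh.toAb M) n⟩)
    (fun p q' => AddCommGrpCat.of
      (Abelian.Ext.{u} (Zc (TopCat.of S)) ((Coh.RpushAb f q').obj (Coh.toAb M)) p))
    (fun p q' => ⟨Iso.refl _⟩)

/-- `H^q(X, M) ≅ H^0(S, R^q f_* M)` for `S` affine, `f` qcqs, `M` quasi-coherent. -/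
theorem nonempty_HH_iso_H0 {X S : Scheme.{u}} (f : X ⟶ S)
    [QuasiCompact f] [QuasiSeparated f] [IsAffine S] (M : X.Modules) [Coh.IsQCoh M] (q : ℕ) :
    Nonempty (AddCommGrpCat.of (Coh.HH X M q) ≅ AddCommGrpCat.of
      (Abelian.Ext.{u} (Zc (TopCat.of S)) ((Coh.RpushAb f q).obj (Coh.toAb M)) 0)) := by
  obtain ⟨E, a, hfin, _, hE2⟩ := leray f M
  have hz : IsZero (AddCommGrpCat.of PUnit.{u + 1}) := AddCommGrpCat.isZero_of_subsingleton _
  have hpage : ∀ p q' : ℤ, p ≠ 0 → IsZero ((E.page 2 le_rfl).X (p, q')) := by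
    intro p q' hp
    obtain ⟨e⟩ := hE2 p q'
    refine IsZero.of_iso ?_ e
    by_cases h : 0 ≤ p ∧ 0 ≤ q'
    · rw [if_pos h]
      haveI := subsingleton_H_RpushAb f M p.toNat q'.toNat (by omega)
      exact AddCommGrpCat.isZero_of_subsingleton _
    · rw [if_neg h]; exact hz
  obtain ⟨e⟩ := SSColumn.nonempty_iso_of_column_zero E a hfin hpage (q : ℤ)
  obtain ⟨e2⟩ := hE2 0 (q : ℤ)
  have h1 : (0 : ℤ) ≤ (q : ℤ) := Int.natCast_nonneg q
  rw [if_pos ⟨le_rfl, h1⟩] at e2
  rw [if_pos h1] at e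
  have e' := e ≪≫ e2
  rw [Int.toNat_natCast, Int.toNat_zero] at e'
  exact ⟨e'⟩

end Groth.Agent.Lib.Helper17.LerayTop
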