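import Groth.Agent.Lib.Helper17LerayTop2
import Groth.Agent.Lib.Helper23AffOpen2

/-!
# Helper17: the Leray spectral sequence of a morphism of schemes over an open `V` of the base,
`H^p(V, R^q f_* M) ⇒ H^{p+q}(f⁻¹V, M)`, and its degeneration for `V` affine, `f` qcqs, `M` qcoh.
-/

set_option autoImplicit false
universe u
open AlgebraicGeometry CategoryTheory Opposite Limits TopologicalSpace

namespace Groth.Agent.Lib.Helper17.LerayTop

open Groth.Agent.Lib.Helper17 Groth.Agent.Lib.Helper21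
  Groth.Agent.Lib.Helper21.PushAcyc Groth.Agent.Lib.Helper23.AffVanish

/-- `H^p(V, R^q f_* M) = 0` for `p > 0`, `V` affine open, `f` qcqs, `M` quasi-coherent. -/
theorem subsingleton_HE_RpushAb {X S : Scheme.{u}} (f : X ⟶ S)
    [QuasiCompact f] [QuasiSeparated f] (M : X.Modules) [Coh.IsQCoh M] {V : S.Opens}
    (hV : IsAffineOpen V) (p q' : ℕ) (hp : 0 < p) :
    Subsingleton (HE ((Coh.RpushAb f q').obj (Coh.toAb M)) p V) := by
  haveI : EnoughInjectives X.Modules := QCPush.enoughInjectives X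
  obtain ⟨e⟩ := Groth.Agent.Lib.Helper23.ModAbBridge.nonempty_toAb_Rpush_iso f M q'
  haveI : Coh.IsQCoh ((Coh.Rpush f q').obj M) := Groth.Agent.S0030.result f M q'
  obtain ⟨p, rfl⟩ : ∃ k, p = k + 1 := ⟨p - 1, by omega⟩
  haveI : Subsingleton (HE (ab' ((Coh.Rpush f q').obj M)) (p + 1) V) :=
    subsingleton_HE_of_isAffineOpen hV ((Coh.Rpush f q').obj M) p
  exact (extIsoRight (ZU V) e (p + 1)).symm.addCommGroupIsoToAddEquiv.toEquiv.subsingleton

/-- The Leray spectral sequence `H^p(V, R^q f_* M) ⇒ H^{p+q}(f⁻¹V, M)`. -/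
theorem lerayOver {X S : Scheme.{u}} (f : X ⟶ S) (M : X.Modules) (V : S.Opens) :
    ∃ (E : E₂CohomologicalSpectralSequence AddCommGrpCat.{u})
      (a : SpSeq.Abutment E (fun n : ℤ =>
        if 0 ≤ n then AddCommGrpCat.of (HE (ab' M) n.toNat (f ⁻¹ᵁ V))
        else AddCommGrpCat.of PUnit.{u + 1})),
      (∀ n, a.IsFinite n) ∧ SpSeq.IsBounded E ∧
      ∀ p q : ℤ, Nonempty ((E.page 2 le_rfl).X (p, q) ≅
        (if 0 ≤ p ∧ 0 ≤ q then AddCommGrpCat.of
          (HE ((Coh.RpushAb f q.toNat).obj (Coh.toAb M)) p.toNat V)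
         else AddCommGrpCat.of PUnit.{u + 1})) :=
  LeraySS.leray_general (Opens.grothendieckTopology X)
    (Opens.grothendieckTopology S) (Opens.map f.base) (Coh.toAb M) (ZU V)
    (fun n => AddCommGrpCat.of (HE (ab' M) n (f ⁻¹ᵁ V)))
    (fun n => ⟨extIsoLeft (pullFreeSheafIso (Opens.grothendieckTopology X)
      (Opens.grothendieckTopology S) (Opens.map f.base) V) (Coh.toAb M) n⟩)
    (fun p q' => AddCommGrpCat.of (HE ((Coh.RpushAb f q').obj (Coh.toAb M)) p V))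
    (fun p q' => ⟨Iso.refl _⟩)

/-- `H^q(f⁻¹V, M) ≅ H^0(V, R^q f_* M)` for `V` affine, `f` qcqs, `M` quasi-coherent. -/
theorem nonempty_HE_preimage_iso {X S : Scheme.{u}} (f : X ⟶ S)
    [QuasiCompact f] [QuasiSeparated f] (M : X.Modules) [Coh.IsQCoh M] {V : S.Opens}
    (hV : IsAffineOpen V) (q : ℕ) :
    Nonempty (AddCommGrpCat.of (HE (ab' M) q (f ⁻¹ᵁ V)) ≅ AddCommGrpCat.of
      (HE ((Coh.RpushAb f q).obj (Coh.toAb M)) 0 V)) := by
  obtain ⟨E, a, hfin, _, hE2⟩ := lerayOver f M V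
  have hz : IsZero (AddCommGrpCat.of PUnit.{u + 1}) := AddCommGrpCat.isZero_of_subsingleton _
  have hpage : ∀ p q' : ℤ, p ≠ 0 → IsZero ((E.page 2 le_rfl).X (p, q')) := by
    intro p q' hp
    obtain ⟨e⟩ := hE2 p q'
    refine IsZero.of_iso ?_ e
    by_cases h : 0 ≤ p ∧ 0 ≤ q'
    · rw [if_pos h]
      haveI := subsingleton_HE_RpushAb f M hV p.toNat q'.toNat (by omega)
      exact AddCommGrpCat.isZero_of_subsingleton _
    · rw [if_neg h]; exact hz
  obtain ⟨e⟩ := SSColumn.nonempty_iso_of_column_zero E a hfin hpage (q : ℤ)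
  obtain ⟨e2⟩ := hE2 0 (q : ℤ)
  have h1 : (0 : ℤ) ≤ (q : ℤ) := Int.natCast_nonneg q
  rw [if_pos ⟨le_rfl, h1⟩] at e2
  rw [if_pos h1] at e
  have e' := e ≪≫ e2
  rw [Int.toNat_natCast, Int.toNat_zero] at e'
  exact ⟨e'⟩

/-- If `R^q f_* M = 0` then `H^q(f⁻¹V, M) = 0` for `V` affine, `f` qcqs, `M` quasi-coherent. -/
theorem subsingleton_HE_preimage_of_isZero {X S : Scheme.{u}} (f : X ⟶ S)
    [QuasiCompact f] [QuasiSeparated f] (M : X.Modules) [Coh.IsQCoh M] {V : S.Opens}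
    (hV : IsAffineOpen V) (q : ℕ) (h : IsZero ((Coh.RpushAb f q).obj (Coh.toAb M))) :
    Subsingleton (HE (ab' M) q (f ⁻¹ᵁ V)) := by
  obtain ⟨e⟩ := nonempty_HE_preimage_iso f M hV q
  haveI : Subsingleton (HE ((Coh.RpushAb f q).obj (Coh.toAb M)) 0 V) :=
    (h0Equiv ((Coh.RpushAb f q).obj (Coh.toAb M)) V).toEquiv.subsingleton_congr.2
      (AddCommGrpCat.subsingleton_of_isZero
        (((sheafSections _ _).obj (op V)).map_isZero h))
  exact e.addCommGroupIsoToAddEquiv.toEquiv.subsingleton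

end Groth.Agent.Lib.Helper17.LerayTop
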