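import Groth.Agent.Lib.Helper17RpushBound1
import Groth.Agent.Lib.Helper17GammaZTri3

/-!
# Explicit vanishing bounds for `Rj_*` along unions of basic opens (helper17)
-/

set_option autoImplicit false
set_option linter.style.haveILetI false
set_option maxHeartbeats 400000

universe u

open CategoryTheory CategoryTheory.Limits AlgebraicGeometry TopologicalSpace Opposite
  DerivedCategory Pretriangulated

attribute [local instance] HasDerivedCategory.standard

namespace Groth.Agent.Lib.Helper17.LocCohVan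

open Groth.Agent.Lib.Helper17.MV Groth.Agent.Lib.Helper23.QCohLocal Groth.Agent.Lib.Helper17.QCPush
  Groth.Agent.Lib.Helper17.AffPush

attribute [local instance] Groth.Agent.Lib.Helper17.QCPush.hasRpush

section

variable {X S : Scheme.{u}}

/-- the inductive property with an explicit bound. -/
def PIndB (f : X ⟶ S) (N : ℤ) (U : X.Opens) : Prop :=
  ∀ (Z : Scheme.{u}) (i : Z ⟶ X) [IsOpenImmersion i], i.opensRange = U →
    ∀ (K : DCoh.D Z), DCoh.IsQCohD K → K.IsLE 0 → ∀ m : ℤ, N ≤ m →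
      IsZero (DCoh.HD ((DCoh.Rpush (i ≫ f)).obj K) m)

lemma PIndB.mono {f : X ⟶ S} {N N' : ℤ} {U : X.Opens} (h : PIndB f N U) (hN : N ≤ N') :
    PIndB f N' U :=
  fun Z i _ hi K hK hLE m hm => h Z i hi K hK hLE m (hN.trans hm)

theorem pIndB_sup (f : X ⟶ S) (U V : X.Opens) (NU NV NUV : ℤ) (hU : PIndB f NU U)
    (hV : PIndB f NV V) (hUV : PIndB f NUV (U ⊓ V)) :
    PIndB f (max (max NU NV) (NUV + 1)) (U ⊔ V) := by
  intro Z i _ hi K hK hLE m hm
  have hcov : i ⁻¹ᵁ U ⊔ i ⁻¹ᵁ V = ⊤ := by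
    rw [← Scheme.Hom.preimage_sup, ← hi, Scheme.Hom.preimage_opensRange]
  obtain ⟨a, b, c, hT⟩ := mv_triangle_push (i ≫ f) (i ⁻¹ᵁ U) (i ⁻¹ᵁ V) hcov K
  have key : ∀ (W : X.Opens) (N : ℤ), W ≤ U ⊔ V → PIndB f N W → ∀ m : ℤ, N ≤ m →
      IsZero (DCoh.HD ((DCoh.Rpush ((i ⁻¹ᵁ W).ι ≫ i ≫ f)).obj
        ((DCoh.restrictD (i ⁻¹ᵁ W).ι).obj K)) m) := by
    intro W N hW hP m hm
    have hr : ((i ⁻¹ᵁ W).ι ≫ i).opensRange = W := by
      rw [Scheme.Hom.opensRange_comp, Scheme.Opens.opensRange_ι,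
        Scheme.Hom.image_preimage_eq_opensRange_inf, hi]
      exact inf_eq_right.2 hW
    have h1 := hP _ ((i ⁻¹ᵁ W).ι ≫ i) hr ((DCoh.restrictD (i ⁻¹ᵁ W).ι).obj K)
      (isQCohD_restrictD' _ K hK) (isLE_restrictD' _ K 0 hLE) m hm
    exact IsZero.of_iso h1 ((DerivedCategory.homologyFunctor _ m).mapIso
      (rpushCongr (Category.assoc _ _ _) _)).symm
  refine isZero_HD_obj₁ _ hT m ?_ ?_
  · have h1 := key U NU le_sup_left hU m (by omega)
    have h2 := key V NV le_sup_right hV m (by omega)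
    haveI : PreservesBinaryBiproduct
        ((DCoh.Rpush ((i ⁻¹ᵁ U).ι ≫ i ≫ f)).obj ((DCoh.restrictD (i ⁻¹ᵁ U).ι).obj K))
        ((DCoh.Rpush ((i ⁻¹ᵁ V).ι ≫ i ≫ f)).obj ((DCoh.restrictD (i ⁻¹ᵁ V).ι).obj K))
        (DerivedCategory.homologyFunctor S.Modules m) :=
      preservesBinaryBiproduct_of_preservesBinaryProduct _
    refine IsZero.of_iso ?_ ((DerivedCategory.homologyFunctor S.Modules m).mapBiprod _ _)
    rw [IsZero.iff_id_eq_zero]
    apply biprod.hom_ext
    · exact h1.eq_of_tgt _ _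
    · exact h2.eq_of_tgt _ _
  · exact key (U ⊓ V) NUV (inf_le_left.trans le_sup_left) hUV (m - 1) (by omega)

theorem pIndB_of_isAffineHom (f : X ⟶ S) (U : X.Opens) [IsAffineHom (U.ι ≫ f)] :
    PIndB f 1 U := by
  intro Z i _ hi K hK hLE m hm
  subst hi
  haveI : IsAffineHom (i ≫ f) := by
    have h : i ≫ f = i.isoOpensRange.hom ≫ i.opensRange.ι ≫ f := by
      rw [← Scheme.Hom.isoOpensRange_inv_comp i, Category.assoc, Iso.hom_inv_id_assoc]
    rw [h]
    infer_instance
  obtain ⟨e⟩ := nonempty_HD_rpush_iso (i ≫ f) K hK m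
  haveI := hLE
  exact IsZero.of_iso ((Scheme.Modules.pushforward (i ≫ f)).map_isZero
    (isZero_of_isLE K 0 m (by omega))) e

/-- modules on the empty scheme vanish. -/
lemma isZero_of_isEmpty (Z : Scheme.{u}) [IsEmpty Z] (K : DCoh.D Z) : IsZero K :=
  Groth.Agent.Lib.Helper17.UnitSupp.isZero_of_homology K (fun n =>
    Groth.Agent.Lib.Helper17.MV.isZero_of_stalk_subsingleton _ (fun x => isEmptyElim x))

theorem pIndB_bot (f : X ⟶ S) (N : ℤ) : PIndB f N ⊥ := by
  intro Z i _ hi K hK hLE m hm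
  haveI : IsEmpty Z := by
    constructor
    intro z
    have h : i z ∈ i.opensRange := ⟨z, rfl⟩
    rw [hi] at h
    exact h
  haveI : DCoh.HasLpull (i ≫ f) := Groth.Agent.Lib.Helper1.Sky.hasLpull _
  exact (DerivedCategory.homologyFunctor S.Modules m).map_isZero
    (Groth.Agent.Lib.Helper17.GammaZTri.isZero_rightAdjoint_obj
      (Groth.Agent.Lib.Helper1.DAdj.lpullRpushAdj (i ≫ f)) (isZero_of_isEmpty Z K))

end

section Basic

variable (X : Scheme.{u})

/-- the union of the basic opens of a finite set of global functions. -/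
noncomputable def basicSup (fs : Finset Γ(X, ⊤)) : X.Opens := ⨆ f ∈ fs, X.basicOpen f

lemma basicSup_insert [DecidableEq Γ(X, ⊤)] (a : Γ(X, ⊤)) (s : Finset Γ(X, ⊤)) :
    basicSup X (insert a s) = X.basicOpen a ⊔ basicSup X s :=
  Finset.iSup_insert a s _

lemma basicOpen_inf_basicSup [DecidableEq Γ(X, ⊤)] (a : Γ(X, ⊤)) (s : Finset Γ(X, ⊤)) :
    X.basicOpen a ⊓ basicSup X s = basicSup X (s.image (fun g => a * g)) := by
  unfold basicSup
  rw [Finset.iSup_finset_image, inf_iSup₂_eq]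
  congr 1
  funext g
  congr 1
  funext _
  rw [Scheme.basicOpen_mul]

theorem pIndB_basicSup_aux (n : ℕ) : ∀ fs : Finset Γ(X, ⊤), fs.Nonempty → fs.card ≤ n →
    PIndB (𝟙 X) (n : ℤ) (basicSup X fs) := by
  classical
  induction n with
  | zero =>
    intro fs hfs hc
    exact absurd (Finset.card_pos.2 hfs) (by omega)
  | succ n ih =>
    intro fs hfs hc
    obtain ⟨a, ha⟩ := hfs
    have hins : fs = insert a (fs.erase a) := (Finset.insert_erase ha).symm
    have hcs : (fs.erase a).card ≤ n := by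
      rw [Finset.card_erase_of_mem ha]; omega
    have h1 : PIndB (𝟙 X) 1 (X.basicOpen a) := pIndB_of_isAffineHom (𝟙 X) (X.basicOpen a)
    rw [hins, basicSup_insert]
    by_cases hs : (fs.erase a).Nonempty
    · have h2 := ih (fs.erase a) hs hcs
      have h3 := ih ((fs.erase a).image (fun g => a * g)) (hs.image _)
        (Finset.card_image_le.trans hcs)
      rw [← basicOpen_inf_basicSup] at h3
      have h4 := pIndB_sup (𝟙 X) _ _ _ _ _ h1 h2 h3
      have hn : 1 ≤ n := (Nat.succ_le_of_lt (Finset.card_pos.2 hs)).trans hcs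
      refine h4.mono ?_
      push_cast
      omega
    · rw [Finset.not_nonempty_iff_eq_empty] at hs
      rw [hs]
      have : basicSup X (∅ : Finset Γ(X, ⊤)) = ⊥ := by simp [basicSup]
      rw [this, sup_bot_eq]
      refine h1.mono ?_
      push_cast
      omega

theorem pIndB_basicSup (fs : Finset Γ(X, ⊤)) (c : ℕ) (hc : fs.card ≤ c) (N : ℤ)
    (hN : (c : ℤ) ≤ N) : PIndB (𝟙 X) N (basicSup X fs) := by
  by_cases hfs : fs.Nonempty
  · exact (pIndB_basicSup_aux X c fs hfs hc).mono hN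
  · rw [Finset.not_nonempty_iff_eq_empty] at hfs
    have : basicSup X fs = ⊥ := by simp [basicSup, hfs]
    rw [this]
    exact pIndB_bot _ _

end Basic

end Groth.Agent.Lib.Helper17.LocCohVan
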