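import Groth.Agent.Lib.Helper17LocCohVan1
import Groth.Agent.Lib.Helper17SuppRpush1

/-!
# Vanishing of `R^m j_*` above the local number of equations of the complement (helper17)
-/

set_option autoImplicit false
set_option linter.style.haveILetI false
set_option maxHeartbeats 400000

universe u

open CategoryTheory CategoryTheory.Limits AlgebraicGeometry TopologicalSpace Opposite
  DerivedCategory Pretriangulated

attribute [local instance] HasDerivedCategory.standard

namespace Groth.Agent.Lib.Helper17.LocCohVan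

open Groth.Agent.Lib.Helper17.MV Groth.Agent.Lib.Helper23.QCohLocal Groth.Agent.Lib.Helper17.QCPush
  Groth.Agent.Lib.Helper17.AffPush

attribute [local instance] Groth.Agent.Lib.Helper17.QCPush.hasRpush

section

variable {X : Scheme.{u}}

/-- a module vanishing on the members of an open cover vanishes. -/
lemma isZero_of_forall_exists_isZero_restrict (M : X.Modules)
    (h : ∀ x : X, ∃ V : X.Opens, x ∈ V ∧ IsZero ((Scheme.Modules.restrictFunctor V.ι).obj M)) :
    IsZero M := by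
  apply Groth.Agent.Lib.Helper17.MV.isZero_of_stalk_subsingleton
  intro x
  obtain ⟨V, hxV, hV⟩ := h x
  have hs := Groth.Agent.Lib.Helper17.SuppRpush.support_subset_of_isZero_restrict V.ι M hV
  by_contra hns
  have h1 : x ∈ (Set.range V.ι.base)ᶜ := hs hns
  rw [Scheme.Opens.range_ι] at h1
  exact h1 hxV

/-- transport of sections over `V` to global sections of the open subscheme `V`. -/
noncomputable def toTop (V : X.Opens) (f : Γ(X, V)) : Γ((V : Scheme.{u}), ⊤) :=
  (V : Scheme.{u}).presheaf.map (eqToHom (by simp : (⊤ : (V : Scheme.{u}).Opens) = V.ι ⁻¹ᵁ V)).op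
    (V.ι.app V f)

lemma basicOpen_toTop (V : X.Opens) (f : Γ(X, V)) :
    (V : Scheme.{u}).basicOpen (toTop V f) = V.ι ⁻¹ᵁ X.basicOpen f := by
  unfold toTop
  rw [Scheme.basicOpen_res_eq, Scheme.preimage_basicOpen]

lemma preimage_eq_basicSup (U V : X.Opens)
    (fs : Finset Γ(X, V)) [DecidableEq Γ((V : Scheme.{u}), ⊤)]
    (h : X.zeroLocus (U := V) (↑fs : Set Γ(X, V)) ∩ (V : Set ↥X) = (U : Set ↥X)ᶜ ∩ (V : Set ↥X)) :
    V.ι ⁻¹ᵁ U = basicSup (V : Scheme.{u}) (fs.image (toTop V)) := by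
  unfold basicSup
  rw [Finset.iSup_finset_image]
  ext y
  simp only [basicOpen_toTop]
  have hy : (V.ι y : X) ∈ (V : Set X) := y.2
  have h1 : (V.ι y ∈ X.zeroLocus (U := V) (↑fs : Set Γ(X, V))) ↔ V.ι y ∉ U := by
    constructor
    · intro hz
      have : V.ι y ∈ (U : Set ↥X)ᶜ ∩ (V : Set ↥X) := h ▸ ⟨hz, hy⟩
      exact this.1
    · intro hu
      have : V.ι y ∈ X.zeroLocus (U := V) (↑fs : Set Γ(X, V)) ∩ (V : Set ↥X) := h.symm ▸ ⟨hu, hy⟩
      exact this.1
  rw [Scheme.zeroLocus_def] at h1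
  simp only [Set.mem_iInter, Set.mem_compl_iff, Finset.mem_coe] at h1
  constructor
  · intro hu
    have : ¬ ∀ f ∈ fs, V.ι y ∉ (X.basicOpen f).carrier := fun hh => (h1.1 hh) hu
    push Not at this
    obtain ⟨f, hf, hfy⟩ := this
    simp only [Opens.mem_iSup, SetLike.mem_coe]
    exact ⟨f, hf, hfy⟩
  · intro hy'
    simp only [Opens.mem_iSup, SetLike.mem_coe] at hy'
    obtain ⟨f, hf, hfy⟩ := hy'
    by_contra hu
    exact (h1.2 hu) f hf hfy

end

section Local

variable {X : Scheme.{u}} (U : X.Opens)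

lemma opensRange_morphismRestrict_ι (V : X.Opens) : (U.ι ∣_ V).opensRange = V.ι ⁻¹ᵁ U := by
  ext y
  constructor
  · rintro ⟨z, rfl⟩
    change ((U.ι ∣_ V) z).1 ∈ U
    rw [morphismRestrict_base_coe]
    exact z.1.2
  · intro hy
    have hyU : (V.ι y : X) ∈ U := hy
    refine ⟨⟨⟨V.ι y, hyU⟩, y.2⟩, ?_⟩
    apply Subtype.ext
    rw [morphismRestrict_base_coe]
    rfl

/-- `R^m j_* K = 0` for `m ≥ c` if locally the complement of `U` is cut out by at most `c`
equations. -/
theorem isZero_HD_rpush (c : ℕ)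
    (hT : ∀ x : X, ∃ (V : X.Opens) (fs : Finset Γ(X, V)), x ∈ V ∧ fs.card ≤ c ∧
      X.zeroLocus (U := V) (↑fs : Set Γ(X, V)) ∩ (V : Set ↥X) = (U : Set ↥X)ᶜ ∩ (V : Set ↥X))
    (K : DCoh.D (U : Scheme.{u})) (hK : DCoh.IsQCohD K) (hLE : K.IsLE 0) (m : ℤ)
    (hm : (c : ℤ) ≤ m) : IsZero (DCoh.HD ((DCoh.Rpush U.ι).obj K) m) := by
  classical
  apply isZero_of_forall_exists_isZero_restrict
  intro x
  obtain ⟨V, fs, hxV, hc, hz⟩ := hT x
  refine ⟨V, hxV, ?_⟩
  obtain ⟨e⟩ := Groth.Agent.Lib.Helper1.RpushRes.nonempty_rpush_restrict_iso U.ι V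
  have hr : (U.ι ∣_ V).opensRange = basicSup (V : Scheme.{u}) (fs.image (toTop V)) :=
    (opensRange_morphismRestrict_ι U V).trans (preimage_eq_basicSup U V fs hz)
  have hP := pIndB_basicSup (V : Scheme.{u}) (fs.image (toTop V)) c
    (Finset.card_image_le.trans hc) c le_rfl
  have h1 := hP _ (U.ι ∣_ V) hr ((DCoh.restrictD (U.ι ⁻¹ᵁ V).ι).obj K)
    (isQCohD_restrictD' _ K hK) (isLE_restrictD' _ K 0 hLE) m hm
  have h2 : IsZero (DCoh.HD ((DCoh.Rpush (U.ι ∣_ V)).obj
      ((DCoh.restrictD (U.ι ⁻¹ᵁ V).ι).obj K)) m) :=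
    IsZero.of_iso h1 ((DerivedCategory.homologyFunctor _ m).mapIso
      (rpushCongr (Category.comp_id _) _)).symm
  have h3 : IsZero (DCoh.HD ((DCoh.restrictD V.ι).obj ((DCoh.Rpush U.ι).obj K)) m) :=
    IsZero.of_iso h2 ((DerivedCategory.homologyFunctor _ m).mapIso (e.app K))
  exact IsZero.of_iso h3
    (Groth.Agent.Lib.Helper17.AdjWay.homologyIso (Scheme.Modules.restrictFunctor V.ι) _ m).symm

end Local

end Groth.Agent.Lib.Helper17.LocCohVan
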