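import Groth.Agent.Lib.Helper17TildeD4
import Groth.Agent.Lib.Helper1Sky11
import Groth.Agent.Lib.Helper5HasLDer
import Groth.Agent.Lib.Helper23QCohLocal
import Groth.Agent.S1055
import Groth.Agent.S9498

/-!
# `Lf^*` preserves `D_QCoh` (helper17)
-/

set_option autoImplicit false
set_option linter.style.haveILetI false

universe u

open CategoryTheory CategoryTheory.Limits Opposite AlgebraicGeometry TopologicalSpace

attribute [local instance] HasDerivedCategory.standard

namespace Groth.Agent.Lib.Helper17.LpullQC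

open DerivedCategory Groth.Agent.Lib.Helper1.Sky Groth.Agent.Lib.Helper17.Hyp

section OpenImm

variable {W X : Scheme.{u}} (j : W ⟶ X) [IsOpenImmersion j]

instance preservesFiniteLimits_pullback_openImmersion :
    PreservesFiniteLimits (Scheme.Modules.pullback j) :=
  Limits.preservesFiniteLimits_of_natIso (Scheme.Modules.restrictFunctorIsoPullback j)

instance preservesFiniteColimits_pullback :
    PreservesFiniteColimits (Scheme.Modules.pullback j) := by
  haveI : PreservesColimitsOfSize.{0, 0} (Scheme.Modules.pullback j) :=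
    (Scheme.Modules.pullbackPushforwardAdjunction j).leftAdjoint_preservesColimits
  exact PreservesColimitsOfSize.preservesFiniteColimits _

/-- `H^i(Lj^* K) ≅ H^i(K)|_W` for an open immersion `j : W ⟶ X`. -/
theorem nonempty_homology_lpull_iso [DCoh.HasLpull j] (K : DCoh.D X) (i : ℤ) :
    Nonempty (DCoh.HD ((DCoh.Lpull j).obj K) i ≅
      (Scheme.Modules.restrictFunctor j).obj (DCoh.HD K i)) := by
  let E : CochainComplex X.Modules ℤ := DerivedCategory.Q.objPreimage K
  let e₀ : DCoh.toD X E ≅ K := DerivedCategory.Q.objObjPreimageIso K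
  haveI : (Scheme.Modules.pullback j).Additive :=
    (Scheme.Modules.pullbackPushforwardAdjunction j).left_adjoint_additive
  refine ⟨(homologyFunctor W.Modules i).mapIso ((DCoh.Lpull j).mapIso e₀.symm ≪≫
      lpullIsoOfExact j E) ≪≫ (homologyFunctorFactors W.Modules i).app _ ≪≫
    (homologyNatIsoCx (Scheme.Modules.pullback j) i).app E ≪≫
    (Scheme.Modules.restrictFunctorIsoPullback j).symm.app _ ≪≫
    (Scheme.Modules.restrictFunctor j).mapIso
      (((homologyFunctorFactors X.Modules i).app E).symm ≪≫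
        (homologyFunctor X.Modules i).mapIso e₀)⟩

/-- `Lj^*` preserves `D_QCoh` for an open immersion `j`. -/
theorem isQCohD_lpull_openImmersion [DCoh.HasLpull j] (K : DCoh.D X) (hK : DCoh.IsQCohD K) :
    DCoh.IsQCohD ((DCoh.Lpull j).obj K) := by
  intro i
  obtain ⟨e⟩ := nonempty_homology_lpull_iso j K i
  haveI : (DCoh.HD K i).IsQuasicoherent := hK i
  exact (SheafOfModules.isQuasicoherent W.ringCatSheaf).prop_of_iso e.symm
    (inferInstanceAs ((Scheme.Modules.restrictFunctor j).obj (DCoh.HD K i)).IsQuasicoherent)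

end OpenImm

section Spec

/-- `IsQCohD` is invariant under isomorphisms. -/
lemma isQCohD_of_iso {X : Scheme.{u}} {K K' : DCoh.D X} (e : K ≅ K') (hK : DCoh.IsQCohD K) :
    DCoh.IsQCohD K' := by
  intro i
  have h : (SheafOfModules.isQuasicoherent X.ringCatSheaf) (DCoh.HD K i) := hK i
  exact (SheafOfModules.isQuasicoherent X.ringCatSheaf).prop_of_iso
    ((DerivedCategory.homologyFunctor X.Modules i).mapIso e) h

/-- `Lg^*` preserves `D_QCoh` for a morphism of affine schemes `g = Spec φ`. -/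
theorem isQCohD_lpull_spec {A B : Type u} [CommRing A] [CommRing B] (φ : A →+* B)
    [DCoh.HasLpull (Spec.map (CommRingCat.ofHom φ))]
    (K : DCoh.D (Spec (CommRingCat.of A))) (hK : DCoh.IsQCohD K) :
    DCoh.IsQCohD ((DCoh.Lpull (Spec.map (CommRingCat.ofHom φ))).obj K) := by
  haveI := (Groth.Agent.S9498.aux (CommRingCat.of A)).1
  haveI := (Groth.Agent.S9498.aux (CommRingCat.of B)).1
  haveI := Groth.Agent.Lib.Helper5.HasLDer.hasLBaseChange φ
  obtain ⟨RG, adj, -, h2⟩ := Groth.Agent.Lib.Helper17.TildeD.tildeD_main (CommRingCat.of A)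
  obtain ⟨RG', adj', h1, -⟩ := Groth.Agent.Lib.Helper17.TildeD.tildeD_main (CommRingCat.of B)
  obtain ⟨e⟩ := Groth.Agent.S1055.result φ
  haveI := h2 K hK
  exact isQCohD_of_iso (e.app (RG.obj K) ≪≫
    (DCoh.Lpull (Spec.map (CommRingCat.ofHom φ))).mapIso (asIso (adj.counit.app K)))
    (h1 _).1

/-- `Lg^*` preserves `D_QCoh` for a morphism `g` of spectra. -/
theorem isQCohD_lpull_of_affine {R S : CommRingCat.{u}} (g : Spec S ⟶ Spec R) [DCoh.HasLpull g]
    (K : DCoh.D (Spec R)) (hK : DCoh.IsQCohD K) : DCoh.IsQCohD ((DCoh.Lpull g).obj K) := by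
  obtain ⟨ψ, rfl⟩ : ∃ ψ : R ⟶ S, Spec.map ψ = g := ⟨Spec.preimage g, Spec.map_preimage g⟩
  exact isQCohD_lpull_spec ψ.hom K hK

end Spec

section Main

variable {X Y : Scheme.{u}} (f : X ⟶ Y)

/-- `Lf^*` preserves `D_QCoh`. -/
theorem isQCohD_lpull [DCoh.HasLpull f] (E : DCoh.D Y) (hE : DCoh.IsQCohD E) :
    DCoh.IsQCohD ((DCoh.Lpull f).obj E) := by
  intro i
  have key : ∀ x : X, ∃ (W : X.Opens) (V : Y.Opens), IsAffineOpen W ∧ IsAffineOpen V ∧ x ∈ W ∧
      W ≤ f ⁻¹ᵁ V := by
    intro x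
    obtain ⟨V, hVaff, hxV, -⟩ := Opens.isBasis_iff_nbhd.1 Y.isBasis_affineOpens
      (show f x ∈ (⊤ : Y.Opens) from trivial)
    obtain ⟨W, hWaff, hxW, hWV⟩ := Opens.isBasis_iff_nbhd.1 X.isBasis_affineOpens
      (show x ∈ f ⁻¹ᵁ V from hxV)
    exact ⟨W, V, hWaff, hVaff, hxW, hWV⟩
  choose W V hW hV hxW hWV using key
  refine Groth.Agent.Lib.Helper23.QCohLocal.isQuasicoherent_of_affine_cover _ W ?_ hW ?_
  · rw [IsOpenCover, eq_top_iff]
    intro x _
    exact Opens.mem_iSup.2 ⟨x, hxW x⟩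
  · intro x
    let jW := (hW x).fromSpec
    let jV := (hV x).fromSpec
    have hrange : Set.range (jW ≫ f) ⊆ Set.range jV := by
      rintro _ ⟨z, rfl⟩
      have hz : jW z ∈ (W x : Set X) := by
        have := (hW x).range_fromSpec
        rw [← this]
        exact ⟨z, rfl⟩
      have hz' : f (jW z) ∈ (V x : Set Y) := hWV x hz
      rw [(hV x).range_fromSpec]
      simpa using hz'
    let g : Spec Γ(X, W x) ⟶ Spec Γ(Y, V x) := IsOpenImmersion.lift jV (jW ≫ f) hrange
    have hg : g ≫ jV = jW ≫ f := IsOpenImmersion.lift_fac _ _ _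
    haveI : DCoh.HasLpull jW := hasLpull _
    haveI : DCoh.HasLpull jV := hasLpull _
    haveI : DCoh.HasLpull g := hasLpull _
    haveI : DCoh.HasLpull (jW ≫ f) := hasLpull _
    haveI : DCoh.HasLpull (g ≫ jV) := hasLpull _
    obtain ⟨c1⟩ := nonempty_lpull_comp_iso jW f
    obtain ⟨c2⟩ := nonempty_lpull_comp_iso g jV
    obtain ⟨c3⟩ := nonempty_lpull_congr hg
    have h1 : DCoh.IsQCohD ((DCoh.Lpull jV).obj E) := isQCohD_lpull_openImmersion jV E hE
    have h2 : DCoh.IsQCohD ((DCoh.Lpull g).obj ((DCoh.Lpull jV).obj E)) :=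
      isQCohD_lpull_of_affine g _ h1
    have h3 : DCoh.IsQCohD ((DCoh.Lpull jW).obj ((DCoh.Lpull f).obj E)) :=
      isQCohD_of_iso (c2.app E ≪≫ c3.app E ≪≫ (c1.app E).symm) h2
    obtain ⟨e1⟩ := nonempty_homology_lpull_iso jW ((DCoh.Lpull f).obj E) i
    have h4 : (SheafOfModules.isQuasicoherent (Spec Γ(X, W x)).ringCatSheaf)
        (DCoh.HD ((DCoh.Lpull jW).obj ((DCoh.Lpull f).obj E)) i) := h3 i
    exact (SheafOfModules.isQuasicoherent (Spec Γ(X, W x)).ringCatSheaf).prop_of_iso e1 h4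

end Main

end Groth.Agent.Lib.Helper17.LpullQC
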