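import Groth.Agent.Lib.Helper17AffPush8

/-!
# Morphisms from free modules into K-injective complexes with exact sections (helper17)

For a K-injective complex `I`, a morphism `P[0] ⟶ I[i]` of the derived category vanishes as soon
as every `i`-cocycle `P ⟶ I^i` is a coboundary.
-/

set_option autoImplicit false
set_option linter.style.haveILetI false
set_option maxHeartbeats 400000

universe w v u

open CategoryTheory CategoryTheory.Limits Opposite

namespace Groth.Agent.Lib.Helper17.Lsec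

open DerivedCategory Groth.Agent.Lib.Helper17.Hyp Groth.Agent.Lib.Helper17.KInj

section Abstract

variable {A : Type u} [Category.{v} A] [Abelian A] [HasDerivedCategory.{w} A]

/-- unshifted version. -/
theorem hom_eq_zero_of_lift (P : A) (I : CochainComplex A ℤ) [I.IsKInjective]
    (h : ∀ φ : P ⟶ I.X 0, φ ≫ I.d 0 1 = 0 → ∃ w : P ⟶ I.X (-1), w ≫ I.d (-1) 0 = φ)
    (ξ : dsgl P ⟶ Q.obj I) : ξ = 0 := by
  obtain ⟨g, hg⟩ := exists_Q_map_eq ξ
  obtain ⟨φ, hφ, rfl⟩ := eq_fromSingle₀ g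
  obtain ⟨w, hw⟩ := h φ hφ
  subst hw
  rw [← hg, Q_map_eq_of_homotopy (homotopyFromSingle₀ w hφ), Functor.map_zero]

/-- shifted version, with the indices produced by the shift. -/
theorem hom_shift_eq_zero_of_lift' (P : A) (I : CochainComplex A ℤ) [I.IsKInjective] (i : ℤ)
    (h : ∀ φ : P ⟶ I.X (0 + i), φ ≫ I.d (0 + i) (1 + i) = 0 →
      ∃ w : P ⟶ I.X (-1 + i), w ≫ I.d (-1 + i) (0 + i) = φ)
    (ξ : dsgl P ⟶ (Q.obj I)⟦i⟧) : ξ = 0 := by
  have key : ∀ ξ' : dsgl P ⟶ Q.obj (I⟦i⟧), ξ' = 0 := by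
    intro ξ'
    refine hom_eq_zero_of_lift P (I⟦i⟧) ?_ ξ'
    intro φ hφ
    obtain ⟨φ₀, hφ₀⟩ : ∃ φ₀ : P ⟶ I.X (0 + i), φ₀ = φ := ⟨φ, rfl⟩
    have hφ' : φ₀ ≫ (i.negOnePow • I.d (0 + i) (1 + i)) = 0 := by rw [hφ₀]; exact hφ
    rw [Linear.comp_units_smul] at hφ'
    obtain ⟨w, hw⟩ := h φ₀ ((smul_eq_zero_iff_eq _).1 hφ')
    have hw' : (i.negOnePow • w) ≫ (i.negOnePow • I.d (-1 + i) (0 + i)) = φ₀ := by
      rw [Linear.units_smul_comp, Linear.comp_units_smul, smul_smul, Int.units_mul_self,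
        one_smul]
      exact hw
    exact ⟨i.negOnePow • w, hw'.trans hφ₀⟩
  have h1 := key (ξ ≫ ((Q.commShiftIso i).app I).inv)
  rw [← cancel_mono ((Q.commShiftIso i).app I).inv, h1, zero_comp]

/-- shifted version. -/
theorem hom_shift_eq_zero_of_lift (P : A) (I : CochainComplex A ℤ) [I.IsKInjective] (j i k : ℤ)
    (hj : j + 1 = i) (hk : i + 1 = k)
    (h : ∀ φ : P ⟶ I.X i, φ ≫ I.d i k = 0 → ∃ w : P ⟶ I.X j, w ≫ I.d j i = φ)
    (ξ : dsgl P ⟶ (Q.obj I)⟦i⟧) : ξ = 0 := by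
  obtain rfl : j = -1 + i := by omega
  obtain rfl : k = 1 + i := by omega
  have hi : i = 0 + i := (zero_add i).symm
  refine hom_shift_eq_zero_of_lift' P I i ?_ ξ
  intro φ hφ
  have : ∀ (i' : ℤ) (hi' : i = i') (φ : P ⟶ I.X i'), φ ≫ I.d i' (1 + i) = 0 →
      ∃ w : P ⟶ I.X (-1 + i), w ≫ I.d (-1 + i) i' = φ := by
    intro i' hi'
    subst hi'
    exact h
  exact this (0 + i) hi φ hφ

end Abstract

end Groth.Agent.Lib.Helper17.Lsec
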