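import Groth.Agent.Lib.Helper17MV5

/-!
# Mayer–Vietoris triangle for `RΓ` (helper17)
-/

set_option autoImplicit false

universe w w₁ w₂ v v' u' u

open CategoryTheory CategoryTheory.Limits AlgebraicGeometry TopologicalSpace Opposite
  DerivedCategory Pretriangulated

attribute [local instance] HasDerivedCategory.standard

namespace Groth.Agent.Lib.Helper17.MV

open Groth.Agent.Lib.Helper17.KInj

section Sch

variable {X : Scheme.{u}}

/-- `Γ(U, M|_U) = Γ(X, j_* j^* M)`. -/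
noncomputable def gammaIso (U : X.Opens) :
    Scheme.Modules.restrictFunctor U.ι ⋙ DCoh.gammaAb (U : Scheme.{u}) ≅ T U ⋙ DCoh.gammaAb X :=
  NatIso.ofComponents (fun M => Iso.refl _) (fun {M N} φ => by
    erw [Category.comp_id])

/-- Mayer–Vietoris triangle for `RΓ`. -/
theorem mv_triangle_gamma (U V : X.Opens) (hUV : U ⊔ V = ⊤)
    [DCoh.HasRΓ X] [DCoh.HasRΓ (U : Scheme.{u})] [DCoh.HasRΓ (V : Scheme.{u})]
    [DCoh.HasRΓ (U ⊓ V : X.Opens)]
    [PreservesFiniteLimits (Scheme.Modules.restrictFunctor U.ι)]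
    [PreservesFiniteLimits (Scheme.Modules.restrictFunctor V.ι)]
    [PreservesFiniteLimits (Scheme.Modules.restrictFunctor (U ⊓ V).ι)] (E : DCoh.D X) :
    ∃ (a : (DCoh.RΓ X).obj E ⟶ ((DCoh.RΓ (U : Scheme.{u})).obj ((DCoh.restrictD U.ι).obj E) ⊞
        (DCoh.RΓ (V : Scheme.{u})).obj ((DCoh.restrictD V.ι).obj E)))
      (b : ((DCoh.RΓ (U : Scheme.{u})).obj ((DCoh.restrictD U.ι).obj E) ⊞
        (DCoh.RΓ (V : Scheme.{u})).obj ((DCoh.restrictD V.ι).obj E)) ⟶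
          (DCoh.RΓ (U ⊓ V : X.Opens)).obj ((DCoh.restrictD (U ⊓ V).ι).obj E))
      (c : (DCoh.RΓ (U ⊓ V : X.Opens)).obj ((DCoh.restrictD (U ⊓ V).ι).obj E) ⟶
        ((DCoh.RΓ X).obj E)⟦(1 : ℤ)⟧),
      Triangle.mk a b c ∈ distTriang (DerivedCategory AddCommGrpCat.{u}) := by
  obtain ⟨J, hJK, hJinj, ⟨e⟩⟩ := exists_model E
  haveI := hJK
  exact exists_triangle (DCoh.gammaAb X) J U V hUV hJinj
    (vertexIso₀ (DCoh.gammaAb X) J e)
    (vertexIso U (DCoh.gammaAb X) (DCoh.gammaAb (U : Scheme.{u})) (gammaIso U) J e)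
    (vertexIso V (DCoh.gammaAb X) (DCoh.gammaAb (V : Scheme.{u})) (gammaIso V) J e)
    (vertexIso (U ⊓ V) (DCoh.gammaAb X) (DCoh.gammaAb ((U ⊓ V : X.Opens) : Scheme.{u}))
      (gammaIso (U ⊓ V)) J e)

end Sch

end Groth.Agent.Lib.Helper17.MV
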