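import Groth.Agent.Lib.Helper17Lsec1
import Groth.Agent.Lib.Helper17MV6

/-!
# Morphisms from free modules into K-injective complexes with exact sections, on schemes
(helper17)
-/

set_option autoImplicit false
set_option linter.style.haveILetI false
set_option maxHeartbeats 400000

universe u

open CategoryTheory CategoryTheory.Limits Opposite AlgebraicGeometry TopologicalSpace

attribute [local instance] HasDerivedCategory.standard

namespace Groth.Agent.Lib.Helper17.Lsec

open DerivedCategory Groth.Agent.Lib.Helper17.Hyp Groth.Agent.Lib.Helper17.KInj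
  Groth.Agent.Lib.Helper17.HypX Groth.Agent.Lib.Helper17.MV

variable {X : Scheme.{u}}

lemma forall_hom_eq_zero_congr {V V' : X.Opens} (h : V = V') {K : DCoh.D X}
    (H : ∀ ξ : dsgl ((frX X).obj V) ⟶ K, ξ = 0) : ∀ ξ : dsgl ((frX X).obj V') ⟶ K, ξ = 0 := by
  subst h
  exact H

lemma image_preimage_top (U : X.Opens) : U.ι ''ᵁ (U.ι ⁻¹ᵁ ⊤) = U := by
  rw [Scheme.Hom.image_preimage_eq_opensRange_inf, Scheme.Opens.opensRange_ι]
  exact inf_top_eq _

/-- if the sections over `U` of a K-injective complex `J` are exact in degree `i`, then every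
morphism `O_X ⊗ ℤ_U ⟶ J[i]` in the derived category vanishes. -/
theorem hom_eq_zero_of_exactAt (J : CochainComplex X.Modules ℤ) [J.IsKInjective] (U : X.Opens)
    (i : ℤ)
    (hex : (((T U ⋙ DCoh.gammaAb X).mapHomologicalComplex (ComplexShape.up ℤ)).obj J).ExactAt i)
    (ξ : dsgl ((frX X).obj U) ⟶ (Q.obj J)⟦i⟧) : ξ = 0 := by
  refine forall_hom_eq_zero_congr (image_preimage_top U) ?_ ξ
  intro ξ
  refine hom_shift_eq_zero_of_lift _ J (i - 1) i (i + 1) (by omega) rfl ?_ ξ
  intro φ hφ
  have hex' := (HomologicalComplex.exactAt_iff' _ (i - 1) i (i + 1) (by simp) (by simp)).1 hex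
  have hab := (ShortComplex.ab_exact_iff _).1 hex'
  have h1 := secAddEquiv_comp X.ringCatSheaf φ (J.d i (i + 1))
  have h2 : secAddEquiv X.ringCatSheaf (J.X (i + 1)) _ (φ ≫ J.d i (i + 1)) = 0 :=
    (congrArg (secAddEquiv X.ringCatSheaf (J.X (i + 1)) _) hφ).trans (map_zero _)
  obtain ⟨t, ht⟩ := hab (secAddEquiv X.ringCatSheaf (J.X i) _ φ) (h1.symm.trans h2)
  refine ⟨(secAddEquiv X.ringCatSheaf (J.X (i - 1)) _).symm t, ?_⟩
  apply (secAddEquiv X.ringCatSheaf (J.X i) _).injective
  refine (secAddEquiv_comp X.ringCatSheaf _ (J.d (i - 1) i)).trans ?_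
  rw [AddEquiv.apply_symm_apply]
  exact ht

end Groth.Agent.Lib.Helper17.Lsec
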