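import Groth.Agent.Lib.Helper17Lsec2
import Groth.Agent.Lib.Helper17UnitSupp1

/-!
# Detecting zero objects and vanishing of morphisms by derived sections over affine opens
(helper17)
-/

set_option autoImplicit false
set_option linter.style.haveILetI false
set_option maxHeartbeats 400000

universe u

open CategoryTheory CategoryTheory.Limits Opposite AlgebraicGeometry TopologicalSpace

attribute [local instance] HasDerivedCategory.standard

namespace Groth.Agent.Lib.Helper17.Lsec

open DerivedCategory Groth.Agent.Lib.Helper17.Hyp Groth.Agent.Lib.Helper17.KInj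
  Groth.Agent.Lib.Helper17.HypX Groth.Agent.Lib.Helper17.MV Groth.Agent.Lib.Helper17.AffPush

variable {X : Scheme.{u}}

/-- an object of `D(O_X)` admitting no nonzero morphism from any shifted free module on an affine
open is zero. -/
theorem isZero_of_hom_fr_eq_zero (C : DCoh.D X)
    (h : ∀ V : X.Opens, IsAffineOpen V → ∀ (i : ℤ) (ξ : dsgl ((frX X).obj V) ⟶ C⟦i⟧), ξ = 0) :
    IsZero C := by
  apply Groth.Agent.Lib.Helper17.UnitSupp.isZero_of_homology
  intro n
  haveI : C.IsGE (n + 1) :=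
    isGE_of_vanishing (locFr_frModR X.ringCatSheaf) C (affOpens X) (cover_affOpens X) (n + 1)
      (fun V hV i _ => ⟨fun a b => (h V hV i a).trans (h V hV i b).symm⟩)
  exact C.isZero_of_isGE (n + 1) n (by omega)

/-- if `H^i(RΓ(V, C|_V)) = 0` then every morphism `O_X ⊗ ℤ_V ⟶ C[i]` vanishes. -/
theorem hom_fr_eq_zero_of_isZero_RΓ (C : DCoh.D X) (V : X.Opens) [DCoh.HasRΓ (V : Scheme.{u})]
    (i : ℤ)
    (hz : IsZero ((DerivedCategory.homologyFunctor AddCommGrpCat.{u} i).obj
      ((DCoh.RΓ (V : Scheme.{u})).obj ((DCoh.restrictD V.ι).obj C))))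
    (ξ : dsgl ((frX X).obj V) ⟶ C⟦i⟧) : ξ = 0 := by
  obtain ⟨J, hJK, -, ⟨e⟩⟩ := exists_model C
  haveI := hJK
  have e1 := vertexIso V (DCoh.gammaAb X) (DCoh.gammaAb (V : Scheme.{u})) (gammaIso V) J e
  have hz2 : IsZero ((((T V ⋙ DCoh.gammaAb X).mapHomologicalComplex (ComplexShape.up ℤ)).obj
      J).homology i) :=
    IsZero.of_iso hz (((DerivedCategory.homologyFunctorFactors AddCommGrpCat.{u} i).app _).symm ≪≫
      (DerivedCategory.homologyFunctor AddCommGrpCat.{u} i).mapIso e1.symm)
  have hex := (HomologicalComplex.exactAt_iff_isZero_homology _ _).2 hz2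
  have h0 := hom_eq_zero_of_exactAt J V i hex (ξ ≫ e.hom⟦i⟧')
  rw [← cancel_mono (e.hom⟦i⟧'), h0, zero_comp]

end Groth.Agent.Lib.Helper17.Lsec
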