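import Groth.Agent.Lib.Helper17Lsec3
import Groth.Agent.Lib.Helper17RDTri1

/-!
# A morphism of `D(O_Y)` is an isomorphism iff it is so after `RΓ(U, -)`, `U` affine (helper17)
-/

set_option autoImplicit false
set_option linter.style.haveILetI false
set_option maxHeartbeats 400000

universe u

open CategoryTheory CategoryTheory.Limits Opposite AlgebraicGeometry TopologicalSpace
  Pretriangulated

attribute [local instance] HasDerivedCategory.standard

namespace Groth.Agent.Lib.Helper17.Lsec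

open DerivedCategory Groth.Agent.Lib.Helper17.Hyp Groth.Agent.Lib.Helper17.KInj
  Groth.Agent.Lib.Helper17.HypX Groth.Agent.Lib.Helper17.MV Groth.Agent.Lib.Helper17.AffPush

variable {Y : Scheme.{u}}

/-- `RΓ(V, (-)|_V)` kills the cone of a morphism it inverts. -/
theorem isZero_RΓ_restrictD_obj₃ (V : Y.Opens) [DCoh.HasRΓ (V : Scheme.{u})]
    (T : Triangle (DCoh.D Y)) (hT : T ∈ distTriang (DCoh.D Y))
    (h : IsIso ((DCoh.RΓ (V : Scheme.{u})).map ((DCoh.restrictD V.ι).map T.mor₁))) :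
    IsZero ((DCoh.RΓ (V : Scheme.{u})).obj ((DCoh.restrictD V.ι).obj T.obj₃)) := by
  haveI := isGrothendieckAbelian (V : Scheme.{u})
  letI := Groth.Agent.Lib.Helper17.RDTri.commShift.{u} (DCoh.gammaKh (V : Scheme.{u}))
    (DCoh.RΓ (V : Scheme.{u}))
    ((DCoh.gammaKh (V : Scheme.{u})).totalRightDerivedUnit DerivedCategory.Qh
      (HomotopyCategory.quasiIso (V : Scheme.{u}).Modules (ComplexShape.up ℤ)))
  haveI : (DCoh.RΓ (V : Scheme.{u})).IsTriangulated :=
    Groth.Agent.Lib.Helper17.RDTri.isTriangulated.{u} (DCoh.gammaKh (V : Scheme.{u}))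
      (DCoh.RΓ (V : Scheme.{u}))
      ((DCoh.gammaKh (V : Scheme.{u})).totalRightDerivedUnit DerivedCategory.Qh
        (HomotopyCategory.quasiIso (V : Scheme.{u}).Modules (ComplexShape.up ℤ)))
  have hT1 := (DCoh.restrictD V.ι).map_distinguished _ hT
  have hT2 := (DCoh.RΓ (V : Scheme.{u})).map_distinguished _ hT1
  exact (Triangle.isZero₃_iff_isIso₁ _ hT2).2 h

theorem isIso_iff_isIso_RΓ [hR : ∀ U : Y.Opens, DCoh.HasRΓ (U : Scheme.{u})] {G₁ G₂ : DCoh.D Y}
    (φ : G₁ ⟶ G₂) :
    IsIso φ ↔ ∀ U : Y.Opens, IsAffineOpen U →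
      IsIso ((DCoh.RΓ (U : Scheme.{u})).map ((DCoh.restrictD U.ι).map φ)) := by
  constructor
  · intro h U _
    infer_instance
  · intro h
    obtain ⟨C, g, k, hT⟩ := distinguished_cocone_triangle φ
    refine (Triangle.isZero₃_iff_isIso₁ _ hT).1 ?_
    refine isZero_of_hom_fr_eq_zero C (fun V hV i ξ => ?_)
    refine hom_fr_eq_zero_of_isZero_RΓ C V i ?_ ξ
    exact (DerivedCategory.homologyFunctor AddCommGrpCat.{u} i).map_isZero
      (isZero_RΓ_restrictD_obj₃ V _ hT (h V hV))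

end Groth.Agent.Lib.Helper17.Lsec
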