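import Groth.Agent.Lib.Helper17Lsec4

/-!
# Sections of K-injective complexes and morphisms from free modules: the converse, and
restriction to opens (helper17)
-/

set_option autoImplicit false
set_option linter.style.haveILetI false
set_option maxHeartbeats 400000

universe w v u

open CategoryTheory CategoryTheory.Limits Opposite AlgebraicGeometry TopologicalSpace

namespace Groth.Agent.Lib.Helper17.Lsec

open DerivedCategory Groth.Agent.Lib.Helper17.Hyp Groth.Agent.Lib.Helper17.KInj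

section Abstract

variable {A : Type u} [Category.{v} A] [Abelian A] [HasDerivedCategory.{w} A]

/-- converse of `hom_eq_zero_of_lift`. -/
theorem exists_lift_of_hom_eq_zero (P : A) (I : CochainComplex A ℤ) [I.IsKInjective]
    (h : ∀ ξ : dsgl P ⟶ Q.obj I, ξ = 0) (φ : P ⟶ I.X 0) (hφ : φ ≫ I.d 0 1 = 0) :
    ∃ w : P ⟶ I.X (-1), w ≫ I.d (-1) 0 = φ := by
  have h3 : (Q : _ ⥤ DerivedCategory A).map (fromSingle₀ φ hφ) = Q.map (0 : sgl P ⟶ I) := by
    rw [h (Q.map (fromSingle₀ φ hφ)), Functor.map_zero]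
  obtain ⟨H⟩ := homotopy_of_Q_map_eq h3
  have hc := H.comm 0
  rw [dNext_eq _ (show (ComplexShape.up ℤ).Rel 0 1 by simp),
    prevD_eq _ (show (ComplexShape.up ℤ).Rel (-1) 0 by simp), sgl_d, zero_comp, zero_add,
    fromSingle₀_f, HomologicalComplex.zero_f, add_zero] at hc
  refine ⟨(HomologicalComplex.singleObjXSelf (ComplexShape.up ℤ) 0 P).inv ≫ H.hom 0 (-1), ?_⟩
  rw [Category.assoc, ← hc, Iso.inv_hom_id_assoc]

/-- shifted converse, with the indices produced by the shift. -/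
theorem exists_lift_of_hom_shift_eq_zero' (P : A) (I : CochainComplex A ℤ) [I.IsKInjective]
    (i : ℤ) (h : ∀ ξ : dsgl P ⟶ (Q.obj I)⟦i⟧, ξ = 0)
    (φ : P ⟶ I.X (0 + i)) (hφ : φ ≫ I.d (0 + i) (1 + i) = 0) :
    ∃ w : P ⟶ I.X (-1 + i), w ≫ I.d (-1 + i) (0 + i) = φ := by
  have h' : ∀ ξ' : dsgl P ⟶ Q.obj (I⟦i⟧), ξ' = 0 := by
    intro ξ'
    have h1 := h (ξ' ≫ ((Q.commShiftIso i).app I).hom)
    rw [← cancel_mono ((Q.commShiftIso i).app I).hom, h1, zero_comp]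
  have hφ'' : φ ≫ (i.negOnePow • I.d (0 + i) (1 + i)) = 0 := by
    rw [Linear.comp_units_smul, hφ, smul_zero]
  have hφ' : (φ : P ⟶ (I⟦i⟧).X 0) ≫ (I⟦i⟧).d 0 1 = 0 := hφ''
  obtain ⟨w', hw'⟩ := exists_lift_of_hom_eq_zero P (I⟦i⟧) h' φ hφ'
  obtain ⟨w₀, hw₀⟩ : ∃ w₀ : P ⟶ I.X (-1 + i), w₀ = w' := ⟨w', rfl⟩
  have hw'' : w₀ ≫ (i.negOnePow • I.d (-1 + i) (0 + i)) = φ := by
    subst hw₀; exact hw'
  refine ⟨i.negOnePow • w₀, ?_⟩
  rw [Linear.units_smul_comp, ← Linear.comp_units_smul]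
  exact hw''

/-- shifted converse. -/
theorem exists_lift_of_hom_shift_eq_zero (P : A) (I : CochainComplex A ℤ) [I.IsKInjective]
    (j i k : ℤ) (hj : j + 1 = i) (hk : i + 1 = k) (h : ∀ ξ : dsgl P ⟶ (Q.obj I)⟦i⟧, ξ = 0)
    (φ : P ⟶ I.X i) (hφ : φ ≫ I.d i k = 0) : ∃ w : P ⟶ I.X j, w ≫ I.d j i = φ := by
  obtain rfl : j = -1 + i := by omega
  obtain rfl : k = 1 + i := by omega
  have hi : i = 0 + i := (zero_add i).symm
  have : ∀ (i' : ℤ) (hi' : i' = i) (φ : P ⟶ I.X i'), φ ≫ I.d i' (1 + i) = 0 →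
      ∃ w : P ⟶ I.X (-1 + i), w ≫ I.d (-1 + i) i' = φ := by
    intro i' hi'
    have h2 := exists_lift_of_hom_shift_eq_zero' P I i h
    rw [← hi] at h2
    subst hi'
    exact h2
  exact this i rfl φ hφ

end Abstract

end Groth.Agent.Lib.Helper17.Lsec
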