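import Groth.Agent.Lib.Helper17Lsec5

/-!
# Sections of K-injective complexes over opens, and the vanishing condition `HypHom` (helper17)
-/

set_option autoImplicit false
set_option linter.style.haveILetI false
set_option maxHeartbeats 400000

universe u

open CategoryTheory CategoryTheory.Limits Opposite AlgebraicGeometry TopologicalSpace

attribute [local instance] HasDerivedCategory.standard

namespace Groth.Agent.Lib.Helper17.Lsec

open DerivedCategory Groth.Agent.Lib.Helper17.Hyp Groth.Agent.Lib.Helper17.KInj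
  Groth.Agent.Lib.Helper17.HypX Groth.Agent.Lib.Helper17.MV Groth.Agent.Lib.Helper17.AffPush

variable {X : Scheme.{u}}

/-- sections over an open. -/
noncomputable def secF (O : X.Opens) : X.Modules ⥤ AddCommGrpCat.{u} :=
  Scheme.Modules.toPresheaf X ⋙ (evaluation _ _).obj (op O)

instance (O : X.Opens) : (secF O).Additive where
  map_add := by intros; rfl

/-- the complex of sections over an open. -/
noncomputable abbrev secCx (J : CochainComplex X.Modules ℤ) (O : X.Opens) :
    CochainComplex AddCommGrpCat.{u} ℤ :=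
  ((secF O).mapHomologicalComplex (ComplexShape.up ℤ)).obj J

lemma exactAt_secCx_congr (J : CochainComplex X.Modules ℤ) {O O' : X.Opens} (h : O = O')
    (i : ℤ) : (secCx J O).ExactAt i ↔ (secCx J O').ExactAt i := by
  subst h
  exact Iff.rfl

/-- exact sections over `O` in degree `i` kill the morphisms `O_X ⊗ ℤ_O ⟶ J[i]`. -/
theorem hom_eq_zero_of_exactAt' (J : CochainComplex X.Modules ℤ) [J.IsKInjective] (O : X.Opens)
    (i : ℤ) (hex : (secCx J O).ExactAt i) (ξ : dsgl ((frX X).obj O) ⟶ (Q.obj J)⟦i⟧) : ξ = 0 := by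
  refine hom_shift_eq_zero_of_lift _ J (i - 1) i (i + 1) (by omega) rfl ?_ ξ
  intro φ hφ
  have hex' := (HomologicalComplex.exactAt_iff' _ (i - 1) i (i + 1) (by simp) (by simp)).1 hex
  have hab := (ShortComplex.ab_exact_iff _).1 hex'
  have h1 := secAddEquiv_comp X.ringCatSheaf φ (J.d i (i + 1))
  have h2 : secAddEquiv X.ringCatSheaf (J.X (i + 1)) _ (φ ≫ J.d i (i + 1)) = 0 :=
    (congrArg (secAddEquiv X.ringCatSheaf (J.X (i + 1)) _) hφ).trans (map_zero _)
  obtain ⟨t, ht⟩ := hab (secAddEquiv X.ringCatSheaf (J.X i) _ φ) (h1.symm.trans h2)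
  refine ⟨(secAddEquiv X.ringCatSheaf (J.X (i - 1)) _).symm t, ?_⟩
  apply (secAddEquiv X.ringCatSheaf (J.X i) _).injective
  refine (secAddEquiv_comp X.ringCatSheaf _ (J.d (i - 1) i)).trans ?_
  rw [AddEquiv.apply_symm_apply]
  exact ht

/-- conversely. -/
theorem exactAt_of_hom_eq_zero (J : CochainComplex X.Modules ℤ) [J.IsKInjective] (O : X.Opens)
    (i : ℤ) (h : ∀ ξ : dsgl ((frX X).obj O) ⟶ (Q.obj J)⟦i⟧, ξ = 0) : (secCx J O).ExactAt i := by
  rw [HomologicalComplex.exactAt_iff' _ (i - 1) i (i + 1) (by simp) (by simp),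
    ShortComplex.ab_exact_iff]
  intro x₂ hx₂
  obtain ⟨φ, hφ⟩ : ∃ φ : (frX X).obj O ⟶ J.X i, secAddEquiv X.ringCatSheaf (J.X i) O φ = x₂ :=
    ⟨(secAddEquiv X.ringCatSheaf (J.X i) O).symm x₂, AddEquiv.apply_symm_apply _ _⟩
  have hφd : φ ≫ J.d i (i + 1) = 0 := by
    apply (secAddEquiv X.ringCatSheaf (J.X (i + 1)) O).injective
    refine (secAddEquiv_comp X.ringCatSheaf φ (J.d i (i + 1))).trans ?_
    rw [hφ]
    exact hx₂.trans (map_zero _).symm
  obtain ⟨w, hw⟩ := exists_lift_of_hom_shift_eq_zero _ J (i - 1) i (i + 1) (by omega) rfl h φ hφd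
  refine ⟨secAddEquiv X.ringCatSheaf (J.X (i - 1)) O w, ?_⟩
  refine (secAddEquiv_comp X.ringCatSheaf w (J.d (i - 1) i)).symm.trans ?_
  exact (congrArg (secAddEquiv X.ringCatSheaf (J.X i) O) hw).trans hφ

end Groth.Agent.Lib.Helper17.Lsec
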