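import Groth.Agent.Lib.Helper10ML
import Groth.Agent.Lib.Helper17AbHom
import Groth.Prelude.Def_DerCA

/-! Homology of a limit of an `ℕ`-indexed Mittag-Leffler system of complexes of abelian groups. -/

set_option autoImplicit false
universe u
open CategoryTheory CategoryTheory.Limits Opposite

namespace Groth.Agent.Lib.Helper17.MLHom

open Groth.Agent.Lib.Helper10 Groth.Agent.Lib.Helper17.AbHom

/-- essentially constant systems of abelian groups are Mittag-Leffler. -/
theorem isMittagLeffler_of_isEssConstant (X : ℕᵒᵖ ⥤ AddCommGrpCat.{u}) (C₀ : AddCommGrpCat.{u})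
    (c : (Functor.const ℕᵒᵖ).obj C₀ ⟶ X) (h : DerCA.IsEssConstant X C₀ c) :
    (X ⋙ forget AddCommGrpCat.{u}).IsMittagLeffler := by
  rw [isMittagLeffler_nat_iff]
  obtain ⟨i, s, hs, hk⟩ := h
  intro j
  obtain ⟨k, hi, hj, htr⟩ := hk j
  refine ⟨k, hj, fun l hl x => ?_⟩
  refine ⟨c.app (op l) (s (ARSys.tr X hi x)), ?_⟩
  have h1 : c.app (op l) ≫ X.map (homOfLE (hj.trans hl)).op = c.app (op j) := by
    have := c.naturality (homOfLE (hj.trans hl)).op
    simp only [Functor.const_obj_obj, Functor.const_obj_map, Category.id_comp] at this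
    exact this.symm
  have h2 : X.map (homOfLE (hj.trans hl)).op (c.app (op l) (s (ARSys.tr X hi x))) =
      c.app (op j) (s (ARSys.tr X hi x)) := by
    rw [← AddCommGrpCat.comp_apply, h1]
  rw [h2]
  have h3 : X.map (homOfLE hj).op x = (ARSys.tr X hi ≫ s ≫ c.app (op j)) x := by
    rw [← htr]
  rw [h3]
  rfl

variable (K : ℕᵒᵖ ⥤ HomologicalComplex AddCommGrpCat.{u} (ComplexShape.up ℤ))

/-- the system of terms. -/
noncomputable abbrev Xs (m : ℤ) : ℕᵒᵖ ⥤ AddCommGrpCat.{u} := K ⋙ HomologicalComplex.eval _ _ m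
/-- the system of cycles. -/
noncomputable abbrev Zs (m : ℤ) : ℕᵒᵖ ⥤ AddCommGrpCat.{u} :=
  K ⋙ HomologicalComplex.cyclesFunctor _ _ m
/-- the system of homologies. -/
noncomputable abbrev Hs (m : ℤ) : ℕᵒᵖ ⥤ AddCommGrpCat.{u} :=
  K ⋙ HomologicalComplex.homologyFunctor _ _ m

/-- differentials. -/
noncomputable def dNat (a b : ℤ) : Xs K a ⟶ Xs K b where
  app i := (K.obj i).d a b
  naturality i j f := ((K.map f).comm a b)

/-- inclusion of cycles. -/
noncomputable def iNat (m : ℤ) : Zs K m ⟶ Xs K m where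
  app i := (K.obj i).iCycles m
  naturality i j f := HomologicalComplex.cyclesMap_i (K.map f) m

/-- toCycles. -/
noncomputable def toCyclesNat (a b : ℤ) : Xs K a ⟶ Zs K b where
  app i := (K.obj i).toCycles a b
  naturality i j f := by
    change (K.map f).f a ≫ (K.obj j).toCycles a b =
      (K.obj i).toCycles a b ≫ HomologicalComplex.cyclesMap (K.map f) b
    rw [← cancel_mono ((K.obj j).iCycles b)]
    simp [HomologicalComplex.cyclesMap_i]

/-- projection to homology. -/
noncomputable def πNat (m : ℤ) : Zs K m ⟶ Hs K m where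
  app i := (K.obj i).homologyπ m
  naturality i j f := (HomologicalComplex.homologyπ_naturality (K.map f) m).symm

theorem isMittagLeffler_Zs (n : ℤ)
    (h2 : ((K ⋙ HomologicalComplex.eval _ _ (n - 2)) ⋙ forget AddCommGrpCat).IsMittagLeffler)
    (hH : (Hs K (n - 1) ⋙ forget AddCommGrpCat.{u}).IsMittagLeffler) :
    (Zs K (n - 1) ⋙ forget AddCommGrpCat.{u}).IsMittagLeffler := by
  refine isMittagLeffler_of_extension (toCyclesNat K (n - 2) (n - 1)) (πNat K (n - 1))
    (fun i => homologyπ_surjective (K.obj i) (n - 1)) (fun i => ?_) h2 hH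
  ext z
  constructor
  · intro hz
    obtain ⟨y, hy⟩ := exists_of_homologyπ_eq_zero (K.obj i) (n - 2) (n - 1) (by simp; ring) z hz
    exact ⟨y, hy⟩
  · rintro ⟨y, rfl⟩
    exact homologyπ_toCycles (K.obj i) (n - 2) (n - 1) y

section Lim

theorem exists_lift (m : ℤ) (s : ∀ i : ℕᵒᵖ, (K.obj i).X m)
    (hs : ∀ ⦃i j : ℕᵒᵖ⦄ (f : i ⟶ j), (K.map f).f m (s i) = s j) :
    ∃ x : (limit K).X m, ∀ i, (limit.π K i).f m x = s i := by
  have hlim := (Types.isLimit_iff _).1
    ⟨isLimitOfPreserves (HomologicalComplex.eval _ _ m ⋙ forget AddCommGrpCat.{u})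
      (limit.isLimit K)⟩
  obtain ⟨x, hx, -⟩ := hlim s (fun {i j} f => hs f)
  exact ⟨x, hx⟩

theorem π_w (m : ℤ) {i j : ℕᵒᵖ} (f : i ⟶ j) (x : (limit K).X m) :
    (K.map f).f m ((limit.π K i).f m x) = (limit.π K j).f m x := by
  rw [← AddCommGrpCat.comp_apply, ← HomologicalComplex.comp_f, limit.w]

theorem ext_lift (m : ℤ) (x y : (limit K).X m)
    (h : ∀ i, (limit.π K i).f m x = (limit.π K i).f m y) : x = y := by
  have hlim := (Types.isLimit_iff _).1
    ⟨isLimitOfPreserves (HomologicalComplex.eval _ _ m ⋙ forget AddCommGrpCat.{u})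
      (limit.isLimit K)⟩
  have hs : (fun i : ℕᵒᵖ => (limit.π K i).f m y) ∈
      (K ⋙ HomologicalComplex.eval _ _ m ⋙ forget AddCommGrpCat.{u}).sections := by
    intro i j f
    exact π_w K m f y
  exact (hlim _ hs).unique h (fun _ => rfl)

theorem π_d (a b : ℤ) (i : ℕᵒᵖ) (x : (limit K).X a) :
    (limit.π K i).f b ((limit K).d a b x) = (K.obj i).d a b ((limit.π K i).f a x) := by
  rw [← AddCommGrpCat.comp_apply, ← AddCommGrpCat.comp_apply, (limit.π K i).comm]

end Lim

theorem post_injective (n : ℤ)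
    (hZ : (Zs K (n - 1) ⋙ forget AddCommGrpCat.{u}).IsMittagLeffler) :
    Function.Injective (limit.post K (HomologicalComplex.homologyFunctor _ _ n)) := by
  rw [injective_iff_map_eq_zero]
  intro h hh
  obtain ⟨z, rfl⟩ := homologyπ_surjective (limit K) n h
  set x := (limit K).iCycles n z with hxdef
  -- projections are boundaries
  have hb : ∀ i : ℕᵒᵖ, ∃ y : (K.obj i).X (n - 1),
      (K.obj i).d (n - 1) n y = (limit.π K i).f n x := by
    intro i
    have h1 : (HomologicalComplex.homologyFunctor _ _ n).map (limit.π K i)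
        ((limit K).homologyπ n z) = 0 := by
      rw [← limit.post_π, AddCommGrpCat.comp_apply, hh, map_zero]
    have h2 : (K.obj i).homologyπ n (HomologicalComplex.cyclesMap (limit.π K i) n z) = 0 := by
      rw [← homologyMap_homologyπ]
      exact h1
    obtain ⟨y, hy⟩ := exists_of_homologyπ_eq_zero (K.obj i) (n - 1) n (by simp) _ h2
    refine ⟨y, ?_⟩
    rw [← iCycles_toCycles, hy, iCycles_cyclesMap]
  obtain ⟨s, hs⟩ := exists_section_of_torsor nat_hcof (iNat K (n - 1)) hZ
    (fun i => {y : (K.obj i).X (n - 1) | (K.obj i).d (n - 1) n y = (limit.π K i).f n x})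
    (by
      intro i j f y hy
      show (K.obj j).d (n - 1) n ((K.map f).f (n - 1) y) = (limit.π K j).f n x
      rw [← AddCommGrpCat.comp_apply, (K.map f).comm, AddCommGrpCat.comp_apply]
      rw [show (K.obj i).d (n - 1) n y = (limit.π K i).f n x from hy, π_w])
    (fun i => hb i)
    (by
      intro i (y : (K.obj i).X (n - 1)) (y' : (K.obj i).X (n - 1)) hy hy'
      have hd : (K.obj i).d (n - 1) n (y - y') = 0 := by
        rw [map_sub, show (K.obj i).d (n - 1) n y = _ from hy,
          show (K.obj i).d (n - 1) n y' = _ from hy', sub_self]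
      exact exists_cycle (K.obj i) (n - 1) n (by simp) _ hd)
    (by
      intro i (y : (K.obj i).X (n - 1)) (w : (K.obj i).cycles (n - 1)) hy
      show (K.obj i).d (n - 1) n (y + (K.obj i).iCycles (n - 1) w) = _
      rw [map_add, d_iCycles, add_zero]
      exact hy)
  obtain ⟨y, hy⟩ := exists_lift K (n - 1) (fun i => s.1 i) (fun i j f => s.2 f)
  have hdy : (limit K).d (n - 1) n y = x := by
    apply ext_lift
    intro i
    rw [π_d, hy]
    exact hs i
  have hz : (limit K).toCycles (n - 1) n y = z := by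
    apply iCycles_injective
    rw [iCycles_toCycles, hdy]
  rw [← hz]
  exact homologyπ_toCycles _ _ _ _

theorem post_surjective (n : ℤ)
    (h1 : ((K ⋙ HomologicalComplex.eval _ _ (n - 1)) ⋙ forget AddCommGrpCat).IsMittagLeffler) :
    Function.Surjective (limit.post K (HomologicalComplex.homologyFunctor _ _ n)) := by
  intro g
  let gi : ∀ i : ℕᵒᵖ, (K.obj i).homology n := fun i =>
    limit.π (K ⋙ HomologicalComplex.homologyFunctor AddCommGrpCat.{u} (ComplexShape.up ℤ) n) i g
  have hg : ∀ ⦃i j : ℕᵒᵖ⦄ (f : i ⟶ j),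
      HomologicalComplex.homologyMap (K.map f) n (gi i) = gi j := by
    intro i j f
    show (K ⋙ HomologicalComplex.homologyFunctor AddCommGrpCat.{u} (ComplexShape.up ℤ) n).map f
      ((limit.π (K ⋙ HomologicalComplex.homologyFunctor AddCommGrpCat.{u}
        (ComplexShape.up ℤ) n) i) g) = (limit.π (K ⋙ HomologicalComplex.homologyFunctor
          AddCommGrpCat.{u} (ComplexShape.up ℤ) n) j) g
    rw [← AddCommGrpCat.comp_apply, limit.w]
  obtain ⟨s, hs⟩ := exists_section_of_torsor nat_hcof (dNat K (n - 1) n) h1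
    (fun i => {x : (K.obj i).X n | ∃ z : (K.obj i).cycles n,
      (K.obj i).iCycles n z = x ∧ (K.obj i).homologyπ n z = gi i})
    (by
      rintro i j f (x : (K.obj i).X n) ⟨z, rfl, hz⟩
      refine ⟨HomologicalComplex.cyclesMap (K.map f) n z, iCycles_cyclesMap _ _ _, ?_⟩
      rw [← homologyMap_homologyπ, hz, hg])
    (by
      intro i
      obtain ⟨z, hz⟩ := homologyπ_surjective (K.obj i) n (gi i)
      exact ⟨_, z, rfl, hz⟩)
    (by
      rintro i (x : (K.obj i).X n) (x' : (K.obj i).X n) ⟨z, rfl, hz⟩ ⟨z', rfl, hz'⟩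
      have h0 : (K.obj i).homologyπ n (z - z') = 0 := by
        rw [map_sub, hz, hz', sub_self]
      obtain ⟨y, hy⟩ := exists_of_homologyπ_eq_zero (K.obj i) (n - 1) n (by simp) _ h0
      refine ⟨y, ?_⟩
      show (K.obj i).d (n - 1) n y = _
      rw [← iCycles_toCycles, hy, map_sub]
      rfl)
    (by
      rintro i (x : (K.obj i).X n) (w : (K.obj i).X (n - 1)) ⟨z, rfl, hz⟩
      refine ⟨z + (K.obj i).toCycles (n - 1) n w, ?_, ?_⟩
      · rw [map_add, iCycles_toCycles]
        rfl
      · rw [map_add, homologyπ_toCycles, add_zero, hz])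
  obtain ⟨x, hx⟩ := exists_lift K n (fun i => s.1 i) (fun i j f => s.2 f)
  have hdx : (limit K).d n (n + 1) x = 0 := by
    apply ext_lift
    intro i
    rw [π_d, hx, map_zero]
    obtain ⟨z, hz, -⟩ := hs i
    rw [← hz, d_iCycles]
  obtain ⟨z, hz⟩ := exists_cycle (limit K) n (n + 1) (by simp) x hdx
  refine ⟨(limit K).homologyπ n z, ?_⟩
  apply Concrete.limit_ext
  intro i
  rw [← AddCommGrpCat.comp_apply, limit.post_π]
  show HomologicalComplex.homologyMap (limit.π K i) n ((limit K).homologyπ n z) = gi i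
  rw [homologyMap_homologyπ]
  obtain ⟨z', hz', hg'⟩ := hs i
  have : HomologicalComplex.cyclesMap (limit.π K i) n z = z' := by
    apply iCycles_injective
    rw [iCycles_cyclesMap, hz, hx, hz']
  rw [this, hg']

theorem post_isIso (n : ℤ)
    (h2 : ((K ⋙ HomologicalComplex.eval _ _ (n - 2)) ⋙ forget AddCommGrpCat).IsMittagLeffler)
    (h1 : ((K ⋙ HomologicalComplex.eval _ _ (n - 1)) ⋙ forget AddCommGrpCat).IsMittagLeffler)
    (hH : ∃ (C₀ : AddCommGrpCat.{u})
      (c : (Functor.const ℕᵒᵖ).obj C₀ ⟶ K ⋙ HomologicalComplex.homologyFunctor _ _ (n - 1)),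
      DerCA.IsEssConstant (K ⋙ HomologicalComplex.homologyFunctor _ _ (n - 1)) C₀ c) :
    IsIso (limit.post K (HomologicalComplex.homologyFunctor _ _ n)) := by
  obtain ⟨C₀, c, hc⟩ := hH
  rw [ConcreteCategory.isIso_iff_bijective]
  exact ⟨post_injective K n (isMittagLeffler_Zs K n h2
    (isMittagLeffler_of_isEssConstant _ C₀ c hc)), post_surjective K n h1⟩

end Groth.Agent.Lib.Helper17.MLHom
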