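import Mathlib
import Groth.Prelude.Def_CxOX

/-!
# Mayer–Vietoris on schemes, module level (helper17)

For an open `O` of a scheme `X` put `T O = j_* j^*` (restriction followed by pushforward) with unit
`η O : 𝟭 ⟶ T O`.  For `W ≤ U` there is a restriction map `ρ : T U ⟶ T W`, and for `U ⊔ V = ⊤` the
square `M → T U M, T V M → T (U ⊓ V) M` is a pullback.
-/

set_option autoImplicit false

universe u

open CategoryTheory CategoryTheory.Limits AlgebraicGeometry TopologicalSpace Opposite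

namespace Groth.Agent.Lib.Helper17.MV

variable {X : Scheme.{u}}

/-- `T O = j_* j^*`. -/
noncomputable abbrev T (O : X.Opens) : X.Modules ⥤ X.Modules :=
  Scheme.Modules.restrictFunctor O.ι ⋙ Scheme.Modules.pushforward O.ι

/-- the unit `𝟭 ⟶ j_* j^*`. -/
noncomputable abbrev η (O : X.Opens) : 𝟭 X.Modules ⟶ T O :=
  (Scheme.Modules.restrictAdjunction O.ι).unit

lemma η_app_app (O : X.Opens) (M : X.Modules) (O' : X.Opens) :
    ((η O).app M).app O' = M.presheaf.map (homOfLE (O.ι.image_preimage_le O')).op := rfl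

lemma image_preimage_eq (O O' : X.Opens) : O.ι ''ᵁ O.ι ⁻¹ᵁ O' = O ⊓ O' := by
  rw [Scheme.Hom.image_preimage_eq_opensRange_inf, Scheme.Opens.opensRange_ι]

lemma isIso_presheaf_map_of_eq (M : X.Modules) {A B : X.Opens} (h : A ≤ B) (h' : B ≤ A) :
    IsIso (M.presheaf.map (homOfLE h).op) := by
  haveI : IsIso (homOfLE h) := ⟨homOfLE h', Subsingleton.elim _ _, Subsingleton.elim _ _⟩
  infer_instance

lemma isIso_restrict_η {U W : X.Opens} (h : W ≤ U) (M : X.Modules) :
    IsIso ((Scheme.Modules.restrictFunctor W.ι).map ((η U).app M)) := by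
  rw [Scheme.Modules.Hom.isIso_iff_isIso_app]
  intro O'
  change IsIso (((η U).app M).app (W.ι ''ᵁ O'))
  rw [η_app_app]
  apply isIso_presheaf_map_of_eq
  rw [image_preimage_eq]
  exact le_inf ((W.ι_image_le O').trans h) le_rfl

/-- the restriction map `T U ⟶ T W` for `W ≤ U`. -/
noncomputable def ρ {U W : X.Opens} (h : W ≤ U) (M : X.Modules) : (T U).obj M ⟶ (T W).obj M :=
  haveI := isIso_restrict_η h M
  (Scheme.Modules.restrictAdjunction W.ι).homEquiv _ _
    (inv ((Scheme.Modules.restrictFunctor W.ι).map ((η U).app M)))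

lemma η_ρ {U W : X.Opens} (h : W ≤ U) (M : X.Modules) :
    (η U).app M ≫ ρ h M = (η W).app M := by
  haveI := isIso_restrict_η h M
  unfold ρ
  rw [Adjunction.homEquiv_unit]
  have := (η W).naturality ((η U).app M)
  dsimp only [Functor.id_obj, Functor.id_map] at this
  rw [← Category.assoc, this, Category.assoc]
  change _ ≫ (Scheme.Modules.pushforward W.ι).map _ ≫ (Scheme.Modules.pushforward W.ι).map _ = _
  rw [← Functor.map_comp, IsIso.hom_inv_id, CategoryTheory.Functor.map_id, Category.comp_id]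

lemma image_preimage_mono {U W : X.Opens} (h : W ≤ U) (O : X.Opens) :
    W.ι ''ᵁ W.ι ⁻¹ᵁ O ≤ U.ι ''ᵁ U.ι ⁻¹ᵁ O := by
  rw [image_preimage_eq, image_preimage_eq]
  exact inf_le_inf_right _ h

lemma ρ_app {U W : X.Opens} (h : W ≤ U) (M : X.Modules) (O : X.Opens) :
    (ρ h M).app O = M.presheaf.map (homOfLE (image_preimage_mono h O)).op := by
  haveI hg := isIso_restrict_η h M
  have hle : U.ι ''ᵁ U.ι ⁻¹ᵁ (W.ι ''ᵁ W.ι ⁻¹ᵁ O) ≤ U.ι ''ᵁ U.ι ⁻¹ᵁ O := by
    rw [image_preimage_eq, image_preimage_eq, image_preimage_eq]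
    exact inf_le_inf_left _ inf_le_right
  have h1 : ((η W).app ((T U).obj M)).app O = M.presheaf.map (homOfLE hle).op := rfl
  have h2 : ((Scheme.Modules.restrictFunctor W.ι).map ((η U).app M)).app (W.ι ⁻¹ᵁ O) =
      M.presheaf.map (homOfLE (U.ι.image_preimage_le (W.ι ''ᵁ W.ι ⁻¹ᵁ O))).op := rfl
  have h3 : (ρ h M).app O = ((η W).app ((T U).obj M)).app O ≫
      (inv ((Scheme.Modules.restrictFunctor W.ι).map ((η U).app M))).app (W.ι ⁻¹ᵁ O) := by
    unfold ρ
    rw [Adjunction.homEquiv_unit]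
    rfl
  rw [h3, Scheme.Modules.inv_app]
  haveI : IsIso (((Scheme.Modules.restrictFunctor W.ι).map ((η U).app M)).app (W.ι ⁻¹ᵁ O)) :=
    inferInstance
  refine (IsIso.comp_inv_eq
    (((Scheme.Modules.restrictFunctor W.ι).map ((η U).app M)).app (W.ι ⁻¹ᵁ O))).2 ?_
  rw [h1, h2]
  exact (M.presheaf.map_comp _ _).symm.trans rfl |>.symm ▸ rfl

lemma ρ_naturality {U W : X.Opens} (h : W ≤ U) {M N : X.Modules} (φ : M ⟶ N) :
    (T U).map φ ≫ ρ h N = ρ h M ≫ (T W).map φ := by
  apply Scheme.Modules.hom_ext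
  intro O
  rw [Scheme.Modules.Hom.comp_app, Scheme.Modules.Hom.comp_app, ρ_app, ρ_app]
  exact (φ.mapPresheaf.naturality (homOfLE (image_preimage_mono h O)).op).symm

/-- `ρ` as a natural transformation. -/
noncomputable def ρNat {U W : X.Opens} (h : W ≤ U) : T U ⟶ T W where
  app M := ρ h M
  naturality _ _ φ := ρ_naturality h φ

/-- the sheaf condition for a cover by two opens, as a pullback square. -/
lemma isPullback_of_sheaf {C : Type*} [Category C] (F : TopCat.Sheaf C X) {O A B I : X.Opens}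
    (hA : A ≤ O) (hB : B ≤ O) (hIA : I ≤ A) (hIB : I ≤ B) (hO : O = A ⊔ B) (hI : I = A ⊓ B) :
    IsPullback (F.1.map (homOfLE hA).op) (F.1.map (homOfLE hB).op) (F.1.map (homOfLE hIA).op)
      (F.1.map (homOfLE hIB).op) := by
  subst hO hI
  exact IsPullback.of_isLimit (TopCat.Sheaf.isLimitPullbackCone F A B)

lemma isPullback_app (U V : X.Opens) (hUV : U ⊔ V = ⊤) (M : X.Modules) (O : X.Opens) :
    IsPullback (((η U).app M).app O) (((η V).app M).app O)
      ((ρ (inf_le_left : U ⊓ V ≤ U) M).app O) ((ρ (inf_le_right : U ⊓ V ≤ V) M).app O) := by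
  rw [ρ_app, ρ_app, η_app_app, η_app_app]
  refine isPullback_of_sheaf (⟨M.presheaf, M.isSheaf⟩ : TopCat.Sheaf Ab X) _ _ _ _ ?_ ?_
  · rw [image_preimage_eq, image_preimage_eq, ← inf_sup_right, hUV, top_inf_eq]
  · rw [image_preimage_eq, image_preimage_eq, image_preimage_eq]
    ext x
    simp only [Opens.coe_inf, Set.mem_inter_iff, SetLike.mem_coe]
    tauto

theorem isPullback_η_ρ (U V : X.Opens) (hUV : U ⊔ V = ⊤) (M : X.Modules) :
    IsPullback ((η U).app M) ((η V).app M)
      (ρ (inf_le_left : U ⊓ V ≤ U) M) (ρ (inf_le_right : U ⊓ V ≤ V) M) := by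
  have comm : (η U).app M ≫ ρ (inf_le_left : U ⊓ V ≤ U) M =
      (η V).app M ≫ ρ (inf_le_right : U ⊓ V ≤ V) M := by rw [η_ρ, η_ρ]
  haveI := reflectsLimit_of_reflectsIsomorphisms
    (cospan (ρ (inf_le_left : U ⊓ V ≤ U) M) (ρ (inf_le_right : U ⊓ V ≤ V) M))
    (Scheme.Modules.toPresheaf X)
  refine IsPullback.of_map (Scheme.Modules.toPresheaf X) comm ?_
  apply IsPullback.of_forall_isPullback_app
  intro O
  exact isPullback_app U V hUV M O.unop

end Groth.Agent.Lib.Helper17.MV
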