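import Mathlib
import Groth.Prelude.Def_ModSite2
import Groth.Agent.Lib.Helper21NullOn3

/-!
# Helper21: for `U` subterminal, the counit `j_!(M|_U) ⟶ M` is a monomorphism and the unit
`Q ⟶ j_*(Q|_U)` is a split epimorphism for `Q` injective
-/

open CategoryTheory Opposite Limits

universe u

namespace Groth.Agent.Lib.Helper21.Subterm

open Groth.Agent.Lib.Helper21.ModTensor2 Groth.Agent.Lib.Helper21.ModTensor3
  Groth.Agent.Lib.Helper21.ModTensor5 Groth.Agent.Lib.Helper21.ExtZeroS
  Groth.Agent.Lib.Helper21.RestrExact Groth.Agent.Lib.Helper21.ModRestr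
  Groth.Agent.Lib.Helper21.ExtZero Groth.Agent.Lib.Helper21.NullOn

section General

variable {𝒜 ℬ : Type*} [Category 𝒜] [Category ℬ] {L : ℬ ⥤ 𝒜} {F : 𝒜 ⥤ ℬ} {R : ℬ ⥤ 𝒜}

/-- for an adjoint triple `L ⊣ F ⊣ R` and `Q` injective, if the counit of `L ⊣ F` at `R F Q` is a
monomorphism, then the unit `Q ⟶ R F Q` has a section. -/
theorem exists_section_unit (adj₁ : L ⊣ F) (adj₂ : F ⊣ R) (Q : 𝒜) [Injective Q]
    [Mono (adj₁.counit.app (R.obj (F.obj Q)))] :
    ∃ s : R.obj (F.obj Q) ⟶ Q, s ≫ adj₂.unit.app Q = 𝟙 _ := by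
  let P := R.obj (F.obj Q)
  let c : F.obj P ⟶ F.obj Q := adj₂.counit.app (F.obj Q)
  let g : L.obj (F.obj P) ⟶ Q := (adj₁.homEquiv _ _).symm c
  let s : P ⟶ Q := Injective.factorThru g (adj₁.counit.app P)
  have hs : adj₁.counit.app P ≫ s = g := Injective.comp_factorThru _ _
  have hg : adj₁.homEquiv _ _ g = c := (adj₁.homEquiv _ _).apply_symm_apply c
  have h1 : F.map s = c := by
    have h2 : adj₁.homEquiv _ _ (adj₁.counit.app P ≫ s) = adj₁.homEquiv _ _ g := by rw [hs]
    rw [Adjunction.homEquiv_naturality_right, Adjunction.homEquiv_unit,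
      adj₁.right_triangle_components, Category.id_comp, hg] at h2
    exact h2
  refine ⟨s, ?_⟩
  apply (adj₂.homEquiv _ _).symm.injective
  rw [Adjunction.homEquiv_counit, Adjunction.homEquiv_counit, Functor.map_comp, Category.assoc,
    adj₂.left_triangle_components, Category.comp_id, h1, CategoryTheory.Functor.map_id,
    Category.id_comp]

end General

variable {C : Type u} [SmallCategory C] {J : GrothendieckTopology C} (O : Sheaf J CommRingCat.{u})
  (U : C)

theorem exists_eq_ιE (hU : ∀ V : C, Subsingleton (V ⟶ U)) (G : PM (O.over U)) (X : Cᵒᵖ)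
    (φ : X.unop ⟶ U) (m : (E (R := RO O) (U := U) G).obj X) :
    ∃ x, m = ιE (R := RO O) (U := U) G X φ x := by
  induction m using E_induction with
  | h0 => exact ⟨0, (map_zero _).symm⟩
  | hι ψ x =>
    obtain rfl : ψ = φ := (hU _).elim _ _
    exact ⟨x, rfl⟩
  | hadd a b ha hb =>
    obtain ⟨x, rfl⟩ := ha
    obtain ⟨y, rfl⟩ := hb
    exact ⟨x + y, (ιE_add _ _ _ _ _).symm⟩

theorem mono_e (hU : ∀ V : C, Subsingleton (V ⟶ U)) (P : PM O) : Mono (e O U P) := by
  apply PresheafOfModules.mono_of_injective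
  intro X
  rw [injective_iff_map_eq_zero]
  intro m hm
  by_cases h : Nonempty (X.unop ⟶ U)
  · obtain ⟨φ⟩ := h
    obtain ⟨x, rfl⟩ := exists_eq_ιE O U hU ((resP O U).obj P) X φ m
    rw [e_app_ιE] at hm
    rw [hm]
    exact map_zero _
  · have hs : Subsingleton (((Es O U).obj ((resP O U).obj P)).obj X) :=
      subsingleton_E_of_isEmpty O U ((resP O U).obj P) X (not_nonempty_iff.1 h)
    exact hs.elim _ _


theorem mono_adj0_counit (hU : ∀ V : C, Subsingleton (V ⟶ U)) (M : ModSite.Mod O) :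
    Mono ((adj0 O U).counit.app M) := by
  rw [adj0_counit_app]
  haveI := mono_e O U hU ((fgt O).obj M)
  haveI : Mono ((shf O).map (e O U ((fgt O).obj M))) := inferInstance
  infer_instance

theorem mono_jShriek_counit (hU : ∀ V : C, Subsingleton (V ⟶ U)) (M : ModSite.Mod O) :
    Mono ((jShriekAdj O U).counit.app M) := by
  have h := Adjunction.map_restrictFullyFaithful_counit_app ((EsAdj O U).comp (adj O))
    (SheafOfModules.fullyFaithfulForget (ModSite.ringSh (O.over U))) (Functor.FullyFaithful.id _)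
    (Functor.rightUnitor _).symm (Functor.leftUnitor _ ≪≫ fgtResIso O U) M
  have h' : (jShriekAdj O U).counit.app M = _ := h
  rw [h']
  haveI i1 : IsIso ((fgt (O.over U) ⋙ Es O U ⋙ shf O).rightUnitor.symm.inv.app
      ((ModSite.restr O U).obj M)) := NatIso.inv_app_isIso _ _
  haveI i2 : IsIso (((fgt O ⋙ resP O U).leftUnitor ≪≫ fgtResIso O U).inv.app M) :=
    NatIso.inv_app_isIso _ _
  haveI i3 : IsIso ((Es O U ⋙ shf O).map
      (((fgt O ⋙ resP O U).leftUnitor ≪≫ fgtResIso O U).inv.app M)) := Functor.map_isIso _ _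
  exact mono_comp' (@IsIso.mono_of_iso _ _ _ _ _ i1)
    (mono_comp' (@IsIso.mono_of_iso _ _ _ _ _ i3) (mono_adj0_counit O U hU M))

theorem mono_ε (hU : ∀ V : C, Subsingleton (V ⟶ U)) (M : ModSite.Mod O) : Mono (ε O U M) := by
  have h := Adjunction.leftAdjointUniq_hom_app_counit (ModSite.extZeroAdj O U) (jShriekAdj O U) M
  have h' : ε O U M = _ := h.symm
  rw [h']
  exact mono_comp' (IsIso.mono_of_iso _) (mono_jShriek_counit O U hU M)

theorem exists_section_unit_of_injective [ModSite.HasPushOver O U]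
    (hU : ∀ V : C, Subsingleton (V ⟶ U)) (Q : ModSite.Mod O) [Injective Q] :
    ∃ s : (ModSite.pushOver O U).obj ((ModSite.restr O U).obj Q) ⟶ Q,
      s ≫ (ModSite.restrPushOverAdj O U).unit.app Q = 𝟙 _ := by
  haveI : Mono ((ModSite.extZeroAdj O U).counit.app
      ((ModSite.pushOver O U).obj ((ModSite.restr O U).obj Q))) := mono_ε O U hU _
  exact exists_section_unit (ModSite.extZeroAdj O U) (ModSite.restrPushOverAdj O U) Q

theorem epi_unit_of_injective [ModSite.HasPushOver O U]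
    (hU : ∀ V : C, Subsingleton (V ⟶ U)) (Q : ModSite.Mod O) [Injective Q] :
    Epi ((ModSite.restrPushOverAdj O U).unit.app Q) := by
  obtain ⟨s, hs⟩ := exists_section_unit_of_injective O U hU Q
  haveI : IsSplitEpi ((ModSite.restrPushOverAdj O U).unit.app Q) := ⟨⟨⟨s, hs⟩⟩⟩
  infer_instance

end Groth.Agent.Lib.Helper21.Subterm
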