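import Groth.Agent.Lib.Helper17MV1
import Groth.Agent.Lib.Helper21Subterm

/-!
# Mayer–Vietoris on schemes, module level II (helper17)

For an injective `O_X`-module `Q` the unit `Q ⟶ j_* j^* Q` is a split epimorphism, hence the
Mayer–Vietoris sequence `0 ⟶ Q ⟶ T U Q ⊞ T V Q ⟶ T (U ⊓ V) Q ⟶ 0` is short exact.
-/

set_option autoImplicit false

universe u

open CategoryTheory CategoryTheory.Limits AlgebraicGeometry TopologicalSpace Opposite

namespace Groth.Agent.Lib.Helper17.MV

variable {X : Scheme.{u}}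

/-- the counit `j_! j^* M ⟶ M` of extension by zero is a monomorphism. -/
theorem mono_extZero_counit (V : X.Opens) (M : X.Modules) :
    Mono ((CxOX.extZeroAdj V.ι).counit.app M) := by
  have h := Adjunction.leftAdjointUniq_hom_app_counit (CxOX.extZeroAdj V.ι)
    ((((Scheme.Modules.overEquiv V).symm.toAdjunction).comp
      (ModSite.extZeroAdj X.sheaf V)).ofNatIsoRight (Scheme.Modules.overFunctorEquiv V)) M
  rw [← h]
  have hm : Mono (((((Scheme.Modules.overEquiv V).symm.toAdjunction).comp
      (ModSite.extZeroAdj X.sheaf V)).ofNatIsoRight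
        (Scheme.Modules.overFunctorEquiv V)).counit.app M) := by
    rw [← Adjunction.homEquiv_symm_id, Adjunction.homEquiv_ofNatIsoRight_symm_apply,
      Category.id_comp, Adjunction.homEquiv_counit, Adjunction.comp_counit_app]
    have hε : Mono ((ModSite.extZeroAdj X.sheaf V).counit.app M) :=
      Groth.Agent.Lib.Helper21.Subterm.mono_ε X.sheaf V (fun _ => inferInstance) M
    haveI i1 : IsIso ((Scheme.Modules.overEquiv V).symm.toAdjunction.counit.app
        ((ModSite.restr X.sheaf V).obj M)) := by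
      rw [Equivalence.toAdjunction_counit]
      infer_instance
    exact mono_comp' (IsIso.mono_of_iso _) (mono_comp' (IsIso.mono_of_iso _) hε)
  exact mono_comp' (IsIso.mono_of_iso _) hm

/-- for `Q` injective, the unit `Q ⟶ j_* j^* Q` has a section. -/
theorem exists_section_η (V : X.Opens) (Q : X.Modules) [Injective Q] :
    ∃ s : (T V).obj Q ⟶ Q, s ≫ (η V).app Q = 𝟙 _ := by
  haveI := mono_extZero_counit V ((Scheme.Modules.pushforward V.ι).obj
    ((Scheme.Modules.restrictFunctor V.ι).obj Q))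
  exact Groth.Agent.Lib.Helper21.Subterm.exists_section_unit (CxOX.extZeroAdj V.ι)
    (Scheme.Modules.restrictAdjunction V.ι) Q

lemma epi_η (V : X.Opens) (Q : X.Modules) [Injective Q] : Epi ((η V).app Q) := by
  obtain ⟨s, hs⟩ := exists_section_η V Q
  haveI : IsSplitEpi ((η V).app Q) := ⟨⟨⟨s, hs⟩⟩⟩
  infer_instance

lemma epi_ρ {U W : X.Opens} (h : W ≤ U) (Q : X.Modules) [Injective Q] : Epi (ρ h Q) := by
  haveI : Epi ((η U).app Q ≫ ρ h Q) := by
    rw [η_ρ]
    exact epi_η W Q
  exact epi_of_epi ((η U).app Q) (ρ h Q)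

/-- the Mayer–Vietoris short complex `M ⟶ T U M ⊞ T V M ⟶ T (U ⊓ V) M`. -/
noncomputable def mvSC (U V : X.Opens) (M : X.Modules) :
    ShortComplex X.Modules :=
  ShortComplex.mk (biprod.lift ((η U).app M) ((η V).app M))
    (biprod.desc (ρ (inf_le_left : U ⊓ V ≤ U) M) (-ρ (inf_le_right : U ⊓ V ≤ V) M)) (by
      rw [biprod.lift_desc, Preadditive.comp_neg, η_ρ, η_ρ, add_neg_cancel])

theorem mvSC_shortExact (U V : X.Opens) (hUV : U ⊔ V = ⊤) (Q : X.Modules) [Injective Q] :
    (mvSC U V Q).ShortExact := by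
  haveI : Mono (mvSC U V Q).f := (isPullback_η_ρ U V hUV Q).mono_shortComplex'_f
  haveI : Epi (mvSC U V Q).g := by
    haveI := epi_ρ (inf_le_left : U ⊓ V ≤ U) Q
    haveI : Epi (biprod.inl ≫ (mvSC U V Q).g) := by
      dsimp only [mvSC]
      rw [biprod.inl_desc]
      infer_instance
    exact epi_of_epi biprod.inl _
  exact ShortComplex.ShortExact.mk (isPullback_η_ρ U V hUV Q).exact_shortComplex'

end Groth.Agent.Lib.Helper17.MV
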