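import Groth.Agent.Lib.Helper17MV2

/-!
# Mayer–Vietoris on schemes, complexes (helper17)

For a complex `J` of injective `O_X`-modules, an additive functor `Φ` and `U ⊔ V = ⊤`, there is a
distinguished triangle `Q(Φ J) ⟶ Q(Φ T_U J) ⊞ Q(Φ T_V J) ⟶ Q(Φ T_{U ⊓ V} J) ⟶`.
-/

set_option autoImplicit false

universe w v' u' u

open CategoryTheory CategoryTheory.Limits AlgebraicGeometry TopologicalSpace Opposite

namespace Groth.Agent.Lib.Helper17.MV

variable {X : Scheme.{u}}

/-- `M ↦ T U M ⊞ T V M`. -/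
noncomputable def TT (U V : X.Opens) : X.Modules ⥤ X.Modules where
  obj M := (T U).obj M ⊞ (T V).obj M
  map f := biprod.map ((T U).map f) ((T V).map f)
  map_id M := by
    apply biprod.hom_ext <;> simp
  map_comp f g := by
    apply biprod.hom_ext <;> simp

instance (U V : X.Opens) : (TT U V).Additive where
  map_add {M N f g} := by
    change biprod.map ((T U).map (f + g)) ((T V).map (f + g)) =
      biprod.map ((T U).map f) ((T V).map f) + biprod.map ((T U).map g) ((T V).map g)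
    apply biprod.hom_ext
    · rw [Preadditive.add_comp, biprod.map_fst, biprod.map_fst, biprod.map_fst, Functor.map_add,
        Preadditive.comp_add]
    · rw [Preadditive.add_comp, biprod.map_snd, biprod.map_snd, biprod.map_snd, Functor.map_add,
        Preadditive.comp_add]

/-- `M ⟶ T U M ⊞ T V M`. -/
noncomputable def aN (U V : X.Opens) : 𝟭 X.Modules ⟶ TT U V where
  app M := biprod.lift ((η U).app M) ((η V).app M)
  naturality M N f := by
    dsimp only [TT, Functor.id_obj, Functor.id_map]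
    apply biprod.hom_ext
    · simp only [Category.assoc, biprod.lift_fst, biprod.map_fst, biprod.lift_fst_assoc]
      exact (η U).naturality f
    · simp only [Category.assoc, biprod.lift_snd, biprod.map_snd, biprod.lift_snd_assoc]
      exact (η V).naturality f

/-- `T U M ⊞ T V M ⟶ T (U ⊓ V) M`. -/
noncomputable def bN (U V : X.Opens) : TT U V ⟶ T (U ⊓ V) where
  app M := biprod.desc (ρ (inf_le_left : U ⊓ V ≤ U) M) (-ρ (inf_le_right : U ⊓ V ≤ V) M)
  naturality M N f := by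
    dsimp only [TT]
    apply biprod.hom_ext'
    · simp only [biprod.inl_map_assoc, biprod.inl_desc, biprod.inl_desc_assoc]
      exact ρ_naturality _ f
    · simp only [biprod.inr_map_assoc, biprod.inr_desc, biprod.inr_desc_assoc,
        Preadditive.comp_neg, Preadditive.neg_comp]
      rw [ρ_naturality]

lemma aN_app (U V : X.Opens) (M : X.Modules) : (aN U V).app M = (mvSC U V M).f := rfl

lemma bN_app (U V : X.Opens) (M : X.Modules) : (bN U V).app M = (mvSC U V M).g := rfl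

/-- the inclusions and projections of `TT`. -/
noncomputable def inlN (U V : X.Opens) : T U ⟶ TT U V where
  app M := biprod.inl
  naturality M N f := by
    dsimp only [TT]
    rw [biprod.inl_map]

noncomputable def inrN (U V : X.Opens) : T V ⟶ TT U V where
  app M := biprod.inr
  naturality M N f := by
    dsimp only [TT]
    rw [biprod.inr_map]

noncomputable def fstN (U V : X.Opens) : TT U V ⟶ T U where
  app M := biprod.fst
  naturality M N f := by
    dsimp only [TT]
    rw [biprod.map_fst]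

noncomputable def sndN (U V : X.Opens) : TT U V ⟶ T V where
  app M := biprod.snd
  naturality M N f := by
    dsimp only [TT]
    rw [biprod.map_snd]

section Cx

variable {𝒜 : Type u'} [Category.{v'} 𝒜] [Abelian 𝒜] (Φ : X.Modules ⥤ 𝒜) [Φ.Additive]
  (J : CochainComplex X.Modules ℤ)

/-- the map of complexes `Φ F J ⟶ Φ G J` induced by a natural transformation `F ⟶ G`. -/
noncomputable def cxMap {F G : X.Modules ⥤ X.Modules} [F.Additive] [G.Additive] (α : F ⟶ G) :
    ((F ⋙ Φ).mapHomologicalComplex (ComplexShape.up ℤ)).obj J ⟶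
      ((G ⋙ Φ).mapHomologicalComplex (ComplexShape.up ℤ)).obj J :=
  (NatTrans.mapHomologicalComplex (Functor.whiskerRight α Φ) _).app J

lemma cxMap_f {F G : X.Modules ⥤ X.Modules} [F.Additive] [G.Additive] (α : F ⟶ G) (n : ℤ) :
    (cxMap Φ J α).f n = Φ.map (α.app (J.X n)) := rfl

/-- the Mayer–Vietoris short complex of complexes. -/
noncomputable def mvCx (U V : X.Opens) : ShortComplex (CochainComplex 𝒜 ℤ) :=
  ShortComplex.mk (cxMap Φ J (aN U V)) (cxMap Φ J (bN U V)) (by
    ext n : 1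
    rw [HomologicalComplex.comp_f, cxMap_f, cxMap_f, HomologicalComplex.zero_f]
    exact (Φ.map_comp _ _).symm.trans
      ((congrArg Φ.map (mvSC U V (J.X n)).zero).trans (Φ.map_zero _ _)))

theorem mvCx_shortExact (U V : X.Opens) (hUV : U ⊔ V = ⊤) (hJ : ∀ n, Injective (J.X n)) :
    (mvCx Φ J U V).ShortExact := by
  apply HomologicalComplex.shortExact_of_degreewise_shortExact
  intro n
  haveI := hJ n
  have h1 := mvSC_shortExact U V hUV (J.X n)
  haveI : Injective (mvSC U V (J.X n)).X₁ := hJ n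
  exact (h1.splittingOfInjective.map Φ).shortExact

lemma cxMap_comp_eq_id {F G : X.Modules ⥤ X.Modules} [F.Additive] [G.Additive] (α : F ⟶ G)
    (β : G ⟶ F) (h : ∀ M, α.app M ≫ β.app M = 𝟙 _) :
    cxMap Φ J α ≫ cxMap Φ J β = 𝟙 _ := by
  ext n : 1
  rw [HomologicalComplex.comp_f, cxMap_f, cxMap_f, HomologicalComplex.id_f]
  exact (Φ.map_comp _ _).symm.trans ((congrArg Φ.map (h _)).trans (Φ.map_id _))

lemma cxMap_comp_eq_zero {F G H : X.Modules ⥤ X.Modules} [F.Additive] [G.Additive] [H.Additive]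
    (α : F ⟶ G) (β : G ⟶ H) (h : ∀ M, α.app M ≫ β.app M = 0) :
    cxMap Φ J α ≫ cxMap Φ J β = 0 := by
  ext n : 1
  rw [HomologicalComplex.comp_f, cxMap_f, cxMap_f, HomologicalComplex.zero_f]
  exact (Φ.map_comp _ _).symm.trans ((congrArg Φ.map (h _)).trans (Φ.map_zero _ _))

/-- the biproduct bicone of complexes `Φ T_U J ← Φ TT J → Φ T_V J`. -/
noncomputable def biconeCx (U V : X.Opens) :
    BinaryBicone (((T U ⋙ Φ).mapHomologicalComplex (ComplexShape.up ℤ)).obj J)
      (((T V ⋙ Φ).mapHomologicalComplex (ComplexShape.up ℤ)).obj J) where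
  pt := ((TT U V ⋙ Φ).mapHomologicalComplex (ComplexShape.up ℤ)).obj J
  fst := cxMap Φ J (fstN U V)
  snd := cxMap Φ J (sndN U V)
  inl := cxMap Φ J (inlN U V)
  inr := cxMap Φ J (inrN U V)
  inl_fst := cxMap_comp_eq_id Φ J _ _ (fun _ => biprod.inl_fst)
  inl_snd := cxMap_comp_eq_zero Φ J _ _ (fun _ => biprod.inl_snd)
  inr_fst := cxMap_comp_eq_zero Φ J _ _ (fun _ => biprod.inr_fst)
  inr_snd := cxMap_comp_eq_id Φ J _ _ (fun _ => biprod.inr_snd)

lemma biconeCx_total (U V : X.Opens) :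
    (biconeCx Φ J U V).fst ≫ (biconeCx Φ J U V).inl +
      (biconeCx Φ J U V).snd ≫ (biconeCx Φ J U V).inr = 𝟙 _ := by
  ext n : 1
  rw [HomologicalComplex.add_f_apply, HomologicalComplex.comp_f, HomologicalComplex.comp_f,
    HomologicalComplex.id_f]
  dsimp only [biconeCx]
  rw [cxMap_f, cxMap_f, cxMap_f, cxMap_f]
  refine ((congrArg₂ (· + ·) (Φ.map_comp _ _).symm (Φ.map_comp _ _).symm).trans
    (Φ.map_add).symm).trans ((congrArg Φ.map ?_).trans (Φ.map_id _))
  exact biprod.total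

end Cx

section Der

open DerivedCategory Pretriangulated

variable {𝒜 : Type u'} [Category.{v'} 𝒜] [Abelian 𝒜] [HasDerivedCategory.{w} 𝒜]
  (Φ : X.Modules ⥤ 𝒜) [Φ.Additive] (J : CochainComplex X.Modules ℤ)

/-- the image under `Q` of the bicone of complexes. -/
noncomputable def biconeD (U V : X.Opens) :
    BinaryBicone ((Q : _ ⥤ DerivedCategory 𝒜).obj
        (((T U ⋙ Φ).mapHomologicalComplex (ComplexShape.up ℤ)).obj J))
      ((Q : _ ⥤ DerivedCategory 𝒜).obj
        (((T V ⋙ Φ).mapHomologicalComplex (ComplexShape.up ℤ)).obj J)) where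
  pt := Q.obj (biconeCx Φ J U V).pt
  fst := Q.map (biconeCx Φ J U V).fst
  snd := Q.map (biconeCx Φ J U V).snd
  inl := Q.map (biconeCx Φ J U V).inl
  inr := Q.map (biconeCx Φ J U V).inr
  inl_fst := by rw [← Functor.map_comp, (biconeCx Φ J U V).inl_fst, CategoryTheory.Functor.map_id]
  inl_snd := by rw [← Functor.map_comp, (biconeCx Φ J U V).inl_snd, Functor.map_zero]
  inr_fst := by rw [← Functor.map_comp, (biconeCx Φ J U V).inr_fst, Functor.map_zero]
  inr_snd := by rw [← Functor.map_comp, (biconeCx Φ J U V).inr_snd, CategoryTheory.Functor.map_id]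

/-- it is a biproduct. -/
noncomputable def biconeDIsBilimit (U V : X.Opens) : (biconeD Φ J U V).IsBilimit :=
  isBinaryBilimitOfTotal _ (by
    change (Q : _ ⥤ DerivedCategory 𝒜).map (biconeCx Φ J U V).fst ≫
        (Q : _ ⥤ DerivedCategory 𝒜).map (biconeCx Φ J U V).inl +
      (Q : _ ⥤ DerivedCategory 𝒜).map (biconeCx Φ J U V).snd ≫
        (Q : _ ⥤ DerivedCategory 𝒜).map (biconeCx Φ J U V).inr =
      𝟙 ((Q : _ ⥤ DerivedCategory 𝒜).obj (biconeCx Φ J U V).pt)
    rw [← Functor.map_comp, ← Functor.map_comp, ← Functor.map_add, biconeCx_total,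
      CategoryTheory.Functor.map_id])

/-- **Mayer–Vietoris triangle**, abstract form: for a complex `J` of injective modules, an additive
functor `Φ` and objects identified with `Q(Φ J)`, `Q(Φ T_U J)`, `Q(Φ T_V J)`, `Q(Φ T_{U ⊓ V} J)`. -/
theorem exists_triangle (U V : X.Opens) (hUV : U ⊔ V = ⊤) (hJ : ∀ n, Injective (J.X n))
    {A₀ AU AV AW : DerivedCategory 𝒜}
    (e₀ : A₀ ≅ (Q : _ ⥤ DerivedCategory 𝒜).obj
      (((𝟭 X.Modules ⋙ Φ).mapHomologicalComplex (ComplexShape.up ℤ)).obj J))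
    (eU : AU ≅ (Q : _ ⥤ DerivedCategory 𝒜).obj
      (((T U ⋙ Φ).mapHomologicalComplex (ComplexShape.up ℤ)).obj J))
    (eV : AV ≅ (Q : _ ⥤ DerivedCategory 𝒜).obj
      (((T V ⋙ Φ).mapHomologicalComplex (ComplexShape.up ℤ)).obj J))
    (eW : AW ≅ (Q : _ ⥤ DerivedCategory 𝒜).obj
      (((T (U ⊓ V) ⋙ Φ).mapHomologicalComplex (ComplexShape.up ℤ)).obj J)) :
    ∃ (a : A₀ ⟶ AU ⊞ AV) (b : AU ⊞ AV ⟶ AW) (c : AW ⟶ A₀⟦(1 : ℤ)⟧),
      Triangle.mk a b c ∈ distTriang (DerivedCategory 𝒜) := by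
  have hS := mvCx_shortExact Φ J U V hUV hJ
  have hT := triangleOfSES_distinguished hS
  have m : AU ⊞ AV ≅ (Q : _ ⥤ DerivedCategory 𝒜).obj
      (((TT U V ⋙ Φ).mapHomologicalComplex (ComplexShape.up ℤ)).obj J) :=
    biprod.mapIso eU eV ≪≫ (biprod.uniqueUpToIso _ _ (biconeDIsBilimit Φ J U V)).symm
  refine ⟨e₀.hom ≫ Q.map (cxMap Φ J (aN U V)) ≫ m.inv,
    m.hom ≫ Q.map (cxMap Φ J (bN U V)) ≫ eW.inv,
    eW.hom ≫ triangleOfSESδ hS ≫ e₀.inv⟦(1 : ℤ)⟧', ?_⟩
  refine isomorphic_distinguished _ hT _ (Triangle.isoMk _ _ e₀ m eW ?_ ?_ ?_)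
  · change (e₀.hom ≫ Q.map (cxMap Φ J (aN U V)) ≫ m.inv) ≫ m.hom =
      e₀.hom ≫ Q.map (cxMap Φ J (aN U V))
    rw [Category.assoc, Category.assoc, m.inv_hom_id, Category.comp_id]
  · change (m.hom ≫ Q.map (cxMap Φ J (bN U V)) ≫ eW.inv) ≫ eW.hom =
      m.hom ≫ Q.map (cxMap Φ J (bN U V))
    rw [Category.assoc, Category.assoc, eW.inv_hom_id, Category.comp_id]
  · change (eW.hom ≫ triangleOfSESδ hS ≫ e₀.inv⟦(1 : ℤ)⟧') ≫ e₀.hom⟦(1 : ℤ)⟧' =
      eW.hom ≫ triangleOfSESδ hS
    have h3 : e₀.inv⟦(1 : ℤ)⟧' ≫ e₀.hom⟦(1 : ℤ)⟧' = 𝟙 _ := by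
      rw [← Functor.map_comp, e₀.inv_hom_id, CategoryTheory.Functor.map_id]
    rw [Category.assoc, Category.assoc]
    erw [h3, Category.comp_id]
    rfl

end Der

end Groth.Agent.Lib.Helper17.MV
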