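import Groth.Agent.Lib.Helper17MV4

/-!
# Mayer–Vietoris triangles for `Rf_*` and `RΓ` (helper17)
-/

set_option autoImplicit false

universe w w₁ w₂ v v' u' u

open CategoryTheory CategoryTheory.Limits AlgebraicGeometry TopologicalSpace Opposite
  DerivedCategory Pretriangulated

attribute [local instance] HasDerivedCategory.standard

namespace Groth.Agent.Lib.Helper17.MV

open Groth.Agent.Lib.Helper17.KInj

section Sch

variable {X : Scheme.{u}}

variable {𝒜 : Type (u + 1)} [Category.{u} 𝒜] [Abelian 𝒜] [HasDerivedCategory.{w₁} 𝒜]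

/-- identification of `RΦ(E)` with `Q(Φ J)`. -/
noncomputable def vertexIso₀ (Φ : X.Modules ⥤ 𝒜) [Φ.Additive]
    [(Φ.mapHomotopyCategory (ComplexShape.up ℤ) ⋙ DerivedCategory.Qh).HasRightDerivedFunctor
      (HomotopyCategory.quasiIso X.Modules (ComplexShape.up ℤ))]
    (J : CochainComplex X.Modules ℤ) [J.IsKInjective] {E : DCoh.D X}
    (e : E ≅ (Q : _ ⥤ DCoh.D X).obj J) :
    ((Φ.mapHomotopyCategory (ComplexShape.up ℤ) ⋙ DerivedCategory.Qh).totalRightDerived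
      DerivedCategory.Qh (HomotopyCategory.quasiIso X.Modules
        (ComplexShape.up ℤ))).obj E ≅
      (Q : _ ⥤ DerivedCategory 𝒜).obj
        (((𝟭 X.Modules ⋙ Φ).mapHomologicalComplex (ComplexShape.up ℤ)).obj J) :=
  haveI := isGrothendieckAbelian X
  Functor.mapIso _ e ≪≫ isoOfKInj Φ J

/-- Mayer–Vietoris triangle for `Rf_*`. -/
theorem mv_triangle_push {Y : Scheme.{u}} (f : X ⟶ Y) (U V : X.Opens) (hUV : U ⊔ V = ⊤)
    [DCoh.HasRpush f] [DCoh.HasRpush (U.ι ≫ f)] [DCoh.HasRpush (V.ι ≫ f)]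
    [DCoh.HasRpush ((U ⊓ V).ι ≫ f)]
    [PreservesFiniteLimits (Scheme.Modules.restrictFunctor U.ι)]
    [PreservesFiniteLimits (Scheme.Modules.restrictFunctor V.ι)]
    [PreservesFiniteLimits (Scheme.Modules.restrictFunctor (U ⊓ V).ι)] (E : DCoh.D X) :
    ∃ (a : (DCoh.Rpush f).obj E ⟶ ((DCoh.Rpush (U.ι ≫ f)).obj ((DCoh.restrictD U.ι).obj E) ⊞
        (DCoh.Rpush (V.ι ≫ f)).obj ((DCoh.restrictD V.ι).obj E)))
      (b : ((DCoh.Rpush (U.ι ≫ f)).obj ((DCoh.restrictD U.ι).obj E) ⊞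
        (DCoh.Rpush (V.ι ≫ f)).obj ((DCoh.restrictD V.ι).obj E)) ⟶
          (DCoh.Rpush ((U ⊓ V).ι ≫ f)).obj ((DCoh.restrictD (U ⊓ V).ι).obj E))
      (c : (DCoh.Rpush ((U ⊓ V).ι ≫ f)).obj ((DCoh.restrictD (U ⊓ V).ι).obj E) ⟶
        ((DCoh.Rpush f).obj E)⟦(1 : ℤ)⟧),
      Triangle.mk a b c ∈ distTriang (DCoh.D Y) := by
  obtain ⟨J, hJK, hJinj, ⟨e⟩⟩ := exists_model E
  haveI := hJK
  exact exists_triangle (Scheme.Modules.pushforward f) J U V hUV hJinj
    (vertexIso₀ (Scheme.Modules.pushforward f) J e)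
    (vertexIso U (Scheme.Modules.pushforward f) (Scheme.Modules.pushforward (U.ι ≫ f))
      (Functor.isoWhiskerLeft _ (Scheme.Modules.pushforwardComp U.ι f).symm ≪≫
        (Functor.associator _ _ _).symm) J e)
    (vertexIso V (Scheme.Modules.pushforward f) (Scheme.Modules.pushforward (V.ι ≫ f))
      (Functor.isoWhiskerLeft _ (Scheme.Modules.pushforwardComp V.ι f).symm ≪≫
        (Functor.associator _ _ _).symm) J e)
    (vertexIso (U ⊓ V) (Scheme.Modules.pushforward f)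
      (Scheme.Modules.pushforward ((U ⊓ V).ι ≫ f))
      (Functor.isoWhiskerLeft _ (Scheme.Modules.pushforwardComp (U ⊓ V).ι f).symm ≪≫
        (Functor.associator _ _ _).symm) J e)

end Sch

end Groth.Agent.Lib.Helper17.MV
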