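import Groth.Agent.Lib.Helper17MV2

/-!
# Mayer–Vietoris for extension by zero, module level (helper17)

`S O = j_! j^*` is left adjoint to `T O = j_* j^*`; the square `S W M → S U M, S V M → M`
(`W = U ⊓ V`, `U ⊔ V = ⊤`) is a pushout, and `0 → S W M → S U M ⊞ S V M → M → 0` is short exact.
-/

set_option autoImplicit false

universe u

open CategoryTheory CategoryTheory.Limits AlgebraicGeometry TopologicalSpace Opposite

namespace Groth.Agent.Lib.Helper17.MV

variable {X : Scheme.{u}}

/-- `S O = j_! j^*`. -/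
noncomputable abbrev S (O : X.Opens) : X.Modules ⥤ X.Modules :=
  Scheme.Modules.restrictFunctor O.ι ⋙ CxOX.extZero O.ι

/-- `j_! j^* ⊣ j_* j^*`. -/
noncomputable def adjST (O : X.Opens) : S O ⊣ T O :=
  (Scheme.Modules.restrictAdjunction O.ι).comp (CxOX.extZeroAdj O.ι)

/-- the counit `j_! j^* ⟶ 𝟭`. -/
noncomputable abbrev ε (O : X.Opens) : S O ⟶ 𝟭 X.Modules := (CxOX.extZeroAdj O.ι).counit

lemma homEquiv_ε (O : X.Opens) (M : X.Modules) :
    (adjST O).homEquiv M M ((ε O).app M) = (η O).app M := by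
  rw [Adjunction.homEquiv_unit]
  unfold adjST
  rw [Adjunction.comp_unit_app]
  dsimp only [Functor.comp_obj, Functor.comp_map]
  rw [Category.assoc, ← Functor.map_comp]
  have := (CxOX.extZeroAdj O.ι).right_triangle_components M
  rw [this, CategoryTheory.Functor.map_id, Category.comp_id]

/-- the map `S W ⟶ S U` for `W ≤ U`, mate of `ρ`. -/
noncomputable def σ {U W : X.Opens} (h : W ≤ U) (M : X.Modules) :
    (S W).obj M ⟶ (S U).obj M :=
  ((adjST W).homEquiv M _).symm ((adjST U).unit.app M ≫ ρ h ((S U).obj M))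

lemma homEquiv_σ_comp {U W : X.Opens} (h : W ≤ U) {M N : X.Modules} (g : (S U).obj M ⟶ N) :
    (adjST W).homEquiv M N (σ h M ≫ g) = (adjST U).homEquiv M N g ≫ ρ h N := by
  rw [Adjunction.homEquiv_naturality_right]
  unfold σ
  rw [Equiv.apply_symm_apply, Category.assoc, ← ρ_naturality, ← Category.assoc,
    ← Adjunction.homEquiv_unit]

lemma σ_naturality {U W : X.Opens} (h : W ≤ U) {M N : X.Modules} (φ : M ⟶ N) :
    (S W).map φ ≫ σ h N = σ h M ≫ (S U).map φ := by
  apply ((adjST W).homEquiv _ _).injective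
  rw [homEquiv_σ_comp, Adjunction.homEquiv_naturality_left]
  unfold σ
  rw [Equiv.apply_symm_apply, Adjunction.homEquiv_unit, ← Category.assoc]
  congr 1
  exact ((adjST U).unit.naturality φ)

/-- `σ` as a natural transformation. -/
noncomputable def σNat {U W : X.Opens} (h : W ≤ U) : S W ⟶ S U where
  app M := σ h M
  naturality _ _ φ := σ_naturality h φ

lemma σ_ε {U W : X.Opens} (h : W ≤ U) (M : X.Modules) :
    σ h M ≫ (ε U).app M = (ε W).app M := by
  apply ((adjST W).homEquiv _ _).injective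
  rw [homEquiv_σ_comp]
  exact (congrArg (· ≫ ρ h M) (homEquiv_ε U M)).trans ((η_ρ h M).trans (homEquiv_ε W M).symm)

instance mono_ε (O : X.Opens) (M : X.Modules) : Mono ((ε O).app M) := mono_extZero_counit O M

lemma mono_σ {U W : X.Opens} (h : W ≤ U) (M : X.Modules) : Mono (σ h M) :=
  mono_of_mono_fac (σ_ε h M)

lemma homEquiv_ε_comp (O : X.Opens) {M N : X.Modules} (m : M ⟶ N) :
    (adjST O).homEquiv M N ((ε O).app M ≫ m) = m ≫ (η O).app N := by
  rw [Adjunction.homEquiv_naturality_right]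
  have h1 := homEquiv_ε O M
  have h2 := (η O).naturality m
  dsimp only [Functor.id_obj, Functor.id_map] at h1 h2
  exact (congrArg (· ≫ (T O).map m) h1).trans h2.symm

theorem isPushout_σ_ε (U V : X.Opens) (hUV : U ⊔ V = ⊤) (M : X.Modules) :
    IsPushout (σ (inf_le_left : U ⊓ V ≤ U) M) (σ (inf_le_right : U ⊓ V ≤ V) M)
      ((ε U).app M) ((ε V).app M) := by
  have comm : σ (inf_le_left : U ⊓ V ≤ U) M ≫ (ε U).app M =
      σ (inf_le_right : U ⊓ V ≤ V) M ≫ (ε V).app M := by rw [σ_ε, σ_ε]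
  refine IsPushout.mk ⟨comm⟩ ⟨PushoutCocone.IsColimit.mk _ (fun s => ?_) (fun s => ?_)
    (fun s => ?_) (fun s m h1 h2 => ?_)⟩
  · refine (isPullback_η_ρ U V hUV s.pt).lift ((adjST U).homEquiv M s.pt s.inl)
      ((adjST V).homEquiv M s.pt s.inr) ?_
    exact (homEquiv_σ_comp _ s.inl).symm.trans
      ((congrArg ((adjST (U ⊓ V)).homEquiv M s.pt) s.condition).trans (homEquiv_σ_comp _ s.inr))
  · apply ((adjST U).homEquiv _ _).injective
    rw [homEquiv_ε_comp, IsPullback.lift_fst]
  · apply ((adjST V).homEquiv _ _).injective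
    rw [homEquiv_ε_comp, IsPullback.lift_snd]
  · apply (isPullback_η_ρ U V hUV s.pt).hom_ext
    · rw [IsPullback.lift_fst]
      exact (homEquiv_ε_comp U m).symm.trans (congrArg _ h1)
    · rw [IsPullback.lift_snd]
      exact (homEquiv_ε_comp V m).symm.trans (congrArg _ h2)

/-- the Mayer–Vietoris short complex `S W M ⟶ S U M ⊞ S V M ⟶ M`. -/
noncomputable def mvSC' (U V : X.Opens) (M : X.Modules) : ShortComplex X.Modules :=
  ShortComplex.mk (biprod.lift (σ (inf_le_left : U ⊓ V ≤ U) M) (-σ (inf_le_right : U ⊓ V ≤ V) M))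
    (biprod.desc ((ε U).app M) ((ε V).app M)) (by
      rw [biprod.lift_desc, Preadditive.neg_comp, σ_ε, σ_ε, add_neg_cancel])

theorem mvSC'_shortExact (U V : X.Opens) (hUV : U ⊔ V = ⊤) (M : X.Modules) :
    (mvSC' U V M).ShortExact := by
  haveI : Epi (mvSC' U V M).g := (isPushout_σ_ε U V hUV M).epi_shortComplex_g
  haveI : Mono (mvSC' U V M).f := by
    haveI := mono_σ (inf_le_left : U ⊓ V ≤ U) M
    haveI : Mono ((mvSC' U V M).f ≫
        (biprod.fst : (S U).obj M ⊞ (S V).obj M ⟶ (S U).obj M)) := by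
      dsimp only [mvSC']
      rw [biprod.lift_fst]
      infer_instance
    exact mono_of_mono (mvSC' U V M).f
      (biprod.fst : (S U).obj M ⊞ (S V).obj M ⟶ (S U).obj M)
  exact ShortComplex.ShortExact.mk (isPushout_σ_ε U V hUV M).exact_shortComplex

end Groth.Agent.Lib.Helper17.MV
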