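import Groth.Agent.Lib.Helper17MV7
import Groth.Agent.Lib.Helper17MV3

/-!
# Mayer–Vietoris for extension by zero, complexes and derived category (helper17)
-/

set_option autoImplicit false

universe w v' u' u

open CategoryTheory CategoryTheory.Limits AlgebraicGeometry TopologicalSpace Opposite

namespace Groth.Agent.Lib.Helper17.MV

variable {X : Scheme.{u}}

/-- `M ↦ F M ⊞ G M`. -/
noncomputable def BB (F G : X.Modules ⥤ X.Modules) : X.Modules ⥤ X.Modules where
  obj M := F.obj M ⊞ G.obj M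
  map f := biprod.map (F.map f) (G.map f)
  map_id M := by
    apply biprod.hom_ext <;> simp
  map_comp f g := by
    apply biprod.hom_ext <;> simp

instance (F G : X.Modules ⥤ X.Modules) [F.Additive] [G.Additive] : (BB F G).Additive where
  map_add {M N f g} := by
    change biprod.map (F.map (f + g)) (G.map (f + g)) =
      biprod.map (F.map f) (G.map f) + biprod.map (F.map g) (G.map g)
    apply biprod.hom_ext
    · rw [Preadditive.add_comp, biprod.map_fst, biprod.map_fst, biprod.map_fst, Functor.map_add,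
        Preadditive.comp_add]
    · rw [Preadditive.add_comp, biprod.map_snd, biprod.map_snd, biprod.map_snd, Functor.map_add,
        Preadditive.comp_add]

noncomputable def inlB (F G : X.Modules ⥤ X.Modules) : F ⟶ BB F G where
  app M := biprod.inl
  naturality M N f := by
    dsimp only [BB]
    rw [biprod.inl_map]

noncomputable def inrB (F G : X.Modules ⥤ X.Modules) : G ⟶ BB F G where
  app M := biprod.inr
  naturality M N f := by
    dsimp only [BB]
    rw [biprod.inr_map]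

noncomputable def fstB (F G : X.Modules ⥤ X.Modules) : BB F G ⟶ F where
  app M := biprod.fst
  naturality M N f := by
    dsimp only [BB]
    rw [biprod.map_fst]

noncomputable def sndB (F G : X.Modules ⥤ X.Modules) : BB F G ⟶ G where
  app M := biprod.snd
  naturality M N f := by
    dsimp only [BB]
    rw [biprod.map_snd]

/-- `S W M ⟶ S U M ⊞ S V M`. -/
noncomputable def aN' (U V : X.Opens) : S (U ⊓ V) ⟶ BB (S U) (S V) where
  app M := biprod.lift (σ (inf_le_left : U ⊓ V ≤ U) M) (-σ (inf_le_right : U ⊓ V ≤ V) M)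
  naturality M N f := by
    dsimp only [BB]
    apply biprod.hom_ext
    · simp only [Category.assoc, biprod.lift_fst, biprod.map_fst, biprod.lift_fst_assoc]
      exact σ_naturality _ f
    · simp only [Category.assoc, biprod.lift_snd, biprod.map_snd, biprod.lift_snd_assoc,
        Preadditive.comp_neg, Preadditive.neg_comp]
      rw [σ_naturality]

/-- `S U M ⊞ S V M ⟶ M`. -/
noncomputable def bN' (U V : X.Opens) : BB (S U) (S V) ⟶ 𝟭 X.Modules where
  app M := biprod.desc ((ε U).app M) ((ε V).app M)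
  naturality M N f := by
    dsimp only [BB]
    apply biprod.hom_ext'
    · simp only [biprod.inl_map_assoc, biprod.inl_desc, biprod.inl_desc_assoc]
      exact (ε U).naturality f
    · simp only [biprod.inr_map_assoc, biprod.inr_desc, biprod.inr_desc_assoc]
      exact (ε V).naturality f

lemma aN'_app (U V : X.Opens) (M : X.Modules) : (aN' U V).app M = (mvSC' U V M).f := rfl

lemma bN'_app (U V : X.Opens) (M : X.Modules) : (bN' U V).app M = (mvSC' U V M).g := rfl

section Cx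

variable (K : CochainComplex X.Modules ℤ)

/-- the Mayer–Vietoris short complex of complexes for extension by zero. -/
noncomputable def mvCx' (U V : X.Opens) : ShortComplex (CochainComplex X.Modules ℤ) :=
  ShortComplex.mk (cxMap (𝟭 X.Modules) K (aN' U V)) (cxMap (𝟭 X.Modules) K (bN' U V)) (by
    ext n : 1
    rw [HomologicalComplex.comp_f, cxMap_f, cxMap_f, HomologicalComplex.zero_f]
    exact (mvSC' U V (K.X n)).zero)

theorem mvCx'_shortExact (U V : X.Opens) (hUV : U ⊔ V = ⊤) :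
    (mvCx' K U V).ShortExact := by
  apply HomologicalComplex.shortExact_of_degreewise_shortExact
  intro n
  exact (mvSC'_shortExact U V hUV (K.X n)).map_of_exact (𝟭 X.Modules)

/-- the biproduct bicone of complexes. -/
noncomputable def biconeCx' (F G : X.Modules ⥤ X.Modules) [F.Additive] [G.Additive] :
    BinaryBicone (((F ⋙ 𝟭 X.Modules).mapHomologicalComplex (ComplexShape.up ℤ)).obj K)
      (((G ⋙ 𝟭 X.Modules).mapHomologicalComplex (ComplexShape.up ℤ)).obj K) where
  pt := ((BB F G ⋙ 𝟭 X.Modules).mapHomologicalComplex (ComplexShape.up ℤ)).obj K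
  fst := cxMap (𝟭 X.Modules) K (fstB F G)
  snd := cxMap (𝟭 X.Modules) K (sndB F G)
  inl := cxMap (𝟭 X.Modules) K (inlB F G)
  inr := cxMap (𝟭 X.Modules) K (inrB F G)
  inl_fst := cxMap_comp_eq_id _ K _ _ (fun _ => biprod.inl_fst)
  inl_snd := cxMap_comp_eq_zero _ K _ _ (fun _ => biprod.inl_snd)
  inr_fst := cxMap_comp_eq_zero _ K _ _ (fun _ => biprod.inr_fst)
  inr_snd := cxMap_comp_eq_id _ K _ _ (fun _ => biprod.inr_snd)

lemma biconeCx'_total (F G : X.Modules ⥤ X.Modules) [F.Additive] [G.Additive] :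
    (biconeCx' K F G).fst ≫ (biconeCx' K F G).inl +
      (biconeCx' K F G).snd ≫ (biconeCx' K F G).inr = 𝟙 _ := by
  ext n : 1
  rw [HomologicalComplex.add_f_apply, HomologicalComplex.comp_f, HomologicalComplex.comp_f,
    HomologicalComplex.id_f]
  dsimp only [biconeCx']
  rw [cxMap_f, cxMap_f, cxMap_f, cxMap_f]
  exact biprod.total

end Cx

section Der

open DerivedCategory Pretriangulated

attribute [local instance] HasDerivedCategory.standard

variable (K : CochainComplex X.Modules ℤ)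

/-- the image under `Q` of the bicone of complexes. -/
noncomputable def biconeD' (F G : X.Modules ⥤ X.Modules) [F.Additive] [G.Additive] :
    BinaryBicone ((Q : _ ⥤ DCoh.D X).obj
        (((F ⋙ 𝟭 X.Modules).mapHomologicalComplex (ComplexShape.up ℤ)).obj K))
      ((Q : _ ⥤ DCoh.D X).obj
        (((G ⋙ 𝟭 X.Modules).mapHomologicalComplex (ComplexShape.up ℤ)).obj K)) where
  pt := Q.obj (biconeCx' K F G).pt
  fst := Q.map (biconeCx' K F G).fst
  snd := Q.map (biconeCx' K F G).snd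
  inl := Q.map (biconeCx' K F G).inl
  inr := Q.map (biconeCx' K F G).inr
  inl_fst := by rw [← Functor.map_comp, (biconeCx' K F G).inl_fst, CategoryTheory.Functor.map_id]
  inl_snd := by rw [← Functor.map_comp, (biconeCx' K F G).inl_snd, Functor.map_zero]
  inr_fst := by rw [← Functor.map_comp, (biconeCx' K F G).inr_fst, Functor.map_zero]
  inr_snd := by rw [← Functor.map_comp, (biconeCx' K F G).inr_snd, CategoryTheory.Functor.map_id]

/-- it is a biproduct. -/
noncomputable def biconeD'IsBilimit (F G : X.Modules ⥤ X.Modules) [F.Additive] [G.Additive] :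
    (biconeD' K F G).IsBilimit :=
  isBinaryBilimitOfTotal _ (by
    change (Q : _ ⥤ DCoh.D X).map (biconeCx' K F G).fst ≫
        (Q : _ ⥤ DCoh.D X).map (biconeCx' K F G).inl +
      (Q : _ ⥤ DCoh.D X).map (biconeCx' K F G).snd ≫
        (Q : _ ⥤ DCoh.D X).map (biconeCx' K F G).inr =
      𝟙 ((Q : _ ⥤ DCoh.D X).obj (biconeCx' K F G).pt)
    rw [← Functor.map_comp, ← Functor.map_comp, ← Functor.map_add, biconeCx'_total,
      CategoryTheory.Functor.map_id])

/-- abstract Mayer–Vietoris triangle for extension by zero. -/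
theorem exists_triangle' (U V : X.Opens) (hUV : U ⊔ V = ⊤)
    {A₀ AU AV AW : DCoh.D X}
    (e₀ : A₀ ≅ (Q : _ ⥤ DCoh.D X).obj
      (((𝟭 X.Modules ⋙ 𝟭 X.Modules).mapHomologicalComplex (ComplexShape.up ℤ)).obj K))
    (eU : AU ≅ (Q : _ ⥤ DCoh.D X).obj
      (((S U ⋙ 𝟭 X.Modules).mapHomologicalComplex (ComplexShape.up ℤ)).obj K))
    (eV : AV ≅ (Q : _ ⥤ DCoh.D X).obj
      (((S V ⋙ 𝟭 X.Modules).mapHomologicalComplex (ComplexShape.up ℤ)).obj K))
    (eW : AW ≅ (Q : _ ⥤ DCoh.D X).obj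
      (((S (U ⊓ V) ⋙ 𝟭 X.Modules).mapHomologicalComplex (ComplexShape.up ℤ)).obj K)) :
    ∃ (a : AW ⟶ AU ⊞ AV) (b : AU ⊞ AV ⟶ A₀) (c : A₀ ⟶ AW⟦(1 : ℤ)⟧),
      Triangle.mk a b c ∈ distTriang (DCoh.D X) := by
  have hS := mvCx'_shortExact K U V hUV
  have hT := triangleOfSES_distinguished hS
  have m : AU ⊞ AV ≅ (Q : _ ⥤ DCoh.D X).obj
      (((BB (S U) (S V) ⋙ 𝟭 X.Modules).mapHomologicalComplex (ComplexShape.up ℤ)).obj K) :=
    biprod.mapIso eU eV ≪≫ (biprod.uniqueUpToIso _ _ (biconeD'IsBilimit K (S U) (S V))).symm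
  refine ⟨eW.hom ≫ Q.map (cxMap (𝟭 X.Modules) K (aN' U V)) ≫ m.inv,
    m.hom ≫ Q.map (cxMap (𝟭 X.Modules) K (bN' U V)) ≫ e₀.inv,
    e₀.hom ≫ triangleOfSESδ hS ≫ eW.inv⟦(1 : ℤ)⟧', ?_⟩
  refine isomorphic_distinguished _ hT _ (Triangle.isoMk _ _ eW m e₀ ?_ ?_ ?_)
  · change (eW.hom ≫ Q.map (cxMap (𝟭 X.Modules) K (aN' U V)) ≫ m.inv) ≫ m.hom =
      eW.hom ≫ Q.map (cxMap (𝟭 X.Modules) K (aN' U V))
    rw [Category.assoc, Category.assoc, m.inv_hom_id, Category.comp_id]
  · change (m.hom ≫ Q.map (cxMap (𝟭 X.Modules) K (bN' U V)) ≫ e₀.inv) ≫ e₀.hom =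
      m.hom ≫ Q.map (cxMap (𝟭 X.Modules) K (bN' U V))
    rw [Category.assoc, Category.assoc, e₀.inv_hom_id, Category.comp_id]
  · change (e₀.hom ≫ triangleOfSESδ hS ≫ eW.inv⟦(1 : ℤ)⟧') ≫ eW.hom⟦(1 : ℤ)⟧' =
      e₀.hom ≫ triangleOfSESδ hS
    have h3 : eW.inv⟦(1 : ℤ)⟧' ≫ eW.hom⟦(1 : ℤ)⟧' = 𝟙 _ := by
      rw [← Functor.map_comp, eW.inv_hom_id, CategoryTheory.Functor.map_id]
    rw [Category.assoc, Category.assoc]
    erw [h3, Category.comp_id]
    rfl

/-- identification of `j_!(E|_U)` with `Q(S_U K)`. -/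
noncomputable def vertexIso' (U : X.Opens) [PreservesFiniteLimits (CxOX.extZero U.ι)]
    {E : DCoh.D X} (e : E ≅ (Q : _ ⥤ DCoh.D X).obj K) :
    (CxOX.extZeroD U.ι).obj ((DCoh.restrictD U.ι).obj E) ≅
      (Q : _ ⥤ DCoh.D X).obj
        (((S U ⋙ 𝟭 X.Modules).mapHomologicalComplex (ComplexShape.up ℤ)).obj K) :=
  (CxOX.extZeroD U.ι).mapIso ((DCoh.restrictD U.ι).mapIso e ≪≫
      (Scheme.Modules.restrictFunctor U.ι).mapDerivedCategoryFactors.app K) ≪≫
    (CxOX.extZero U.ι).mapDerivedCategoryFactors.app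
      (((Scheme.Modules.restrictFunctor U.ι).mapHomologicalComplex (ComplexShape.up ℤ)).obj K)

/-- Mayer–Vietoris triangle for extension by zero. -/
theorem mv_triangle_extZero (U V : X.Opens) (hUV : U ⊔ V = ⊤)
    [PreservesFiniteLimits (CxOX.extZero U.ι)] [PreservesFiniteLimits (CxOX.extZero V.ι)]
    [PreservesFiniteLimits (CxOX.extZero (U ⊓ V).ι)] (E : DCoh.D X) :
    ∃ (a : (CxOX.extZeroD (U ⊓ V).ι).obj ((DCoh.restrictD (U ⊓ V).ι).obj E) ⟶
        ((CxOX.extZeroD U.ι).obj ((DCoh.restrictD U.ι).obj E) ⊞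
          (CxOX.extZeroD V.ι).obj ((DCoh.restrictD V.ι).obj E)))
      (b : ((CxOX.extZeroD U.ι).obj ((DCoh.restrictD U.ι).obj E) ⊞
        (CxOX.extZeroD V.ι).obj ((DCoh.restrictD V.ι).obj E)) ⟶ E)
      (c : E ⟶ ((CxOX.extZeroD (U ⊓ V).ι).obj ((DCoh.restrictD (U ⊓ V).ι).obj E))⟦(1 : ℤ)⟧),
      Triangle.mk a b c ∈ distTriang (DCoh.D X) := by
  have e : E ≅ (Q : _ ⥤ DCoh.D X).obj ((Q : _ ⥤ DCoh.D X).objPreimage E) :=
    ((Q : _ ⥤ DCoh.D X).objObjPreimageIso E).symm
  exact exists_triangle' _ U V hUV e (vertexIso' _ U e) (vertexIso' _ V e)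
    (vertexIso' _ (U ⊓ V) e)

end Der

end Groth.Agent.Lib.Helper17.MV
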