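import Groth.Agent.Lib.Helper24MVSq

/-! Mayer–Vietoris squares of triangulated categories: general lemmas (helper17). -/
set_option autoImplicit false
set_option backward.isDefEq.respectTransparency false
set_option backward.isDefEq.respectTransparency.types false
universe v u
open CategoryTheory CategoryTheory.Limits CategoryTheory.Pretriangulated

namespace Groth.Agent.Lib.Helper17.MV1

section Tri
variable {T : Type u} [Category.{v} T] [Preadditive T] [HasZeroObject T] [HasShift T ℤ]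
  [∀ n : ℤ, (shiftFunctor T n).Additive] [Pretriangulated T]

/-- In a distinguished triangle `X ⟶ Y ⟶ Z ⟶ X⟦1⟧` where `Y` is decomposed as `Y₁ ⊕ Y₂` and the
restriction of `Y ⟶ Z` to `Y₂` is an isomorphism, the composite `X ⟶ Y ⟶ Y₁` is an isomorphism. -/
theorem isIso_comp_fst (Tr : Triangle T) (hT : Tr ∈ distTriang T) {Y₁ Y₂ : T}
    (i₁ : Y₁ ⟶ Tr.obj₂) (i₂ : Y₂ ⟶ Tr.obj₂) (p₁ : Tr.obj₂ ⟶ Y₁) (p₂ : Tr.obj₂ ⟶ Y₂)
    (h11 : i₁ ≫ p₁ = 𝟙 _) (h21 : i₂ ≫ p₁ = 0)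
    (hsum : p₁ ≫ i₁ + p₂ ≫ i₂ = 𝟙 _) (hv : IsIso (i₂ ≫ Tr.mor₂)) :
    IsIso (Tr.mor₁ ≫ p₁) := by
  -- the third map vanishes
  have hw : Tr.mor₃ = 0 := by
    have h1 : Tr.mor₂ ≫ Tr.mor₃ = 0 := comp_distTriang_mor_zero₂₃ _ hT
    have h2 : (i₂ ≫ Tr.mor₂) ≫ Tr.mor₃ = 0 := by rw [Category.assoc, h1, comp_zero]
    exact (cancel_epi (i₂ ≫ Tr.mor₂)).1 (by rw [h2, comp_zero])
  have hmono : Mono Tr.mor₁ := Tr.mono₁ hT hw
  -- a section
  let s : Y₁ ⟶ Tr.obj₂ := i₁ - i₁ ≫ Tr.mor₂ ≫ inv (i₂ ≫ Tr.mor₂) ≫ i₂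
  have hs : s ≫ Tr.mor₂ = 0 := by
    dsimp only [s]
    rw [Preadditive.sub_comp, Category.assoc, Category.assoc, Category.assoc, IsIso.inv_hom_id,
      Category.comp_id, sub_self]
  obtain ⟨t, ht⟩ := Triangle.coyoneda_exact₂ Tr hT s hs
  have htφ : t ≫ (Tr.mor₁ ≫ p₁) = 𝟙 _ := by
    rw [← Category.assoc, ← ht]
    dsimp only [s]
    rw [Preadditive.sub_comp, h11, Category.assoc, Category.assoc, Category.assoc, h21, comp_zero,
      comp_zero, comp_zero, sub_zero]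
  have hmono' : Mono (Tr.mor₁ ≫ p₁) := by
    refine ⟨fun {Z} x y hxy => ?_⟩
    have h0 : (x - y) ≫ Tr.mor₁ ≫ p₁ = 0 := by
      rw [Preadditive.sub_comp, hxy, sub_self]
    have h1 : (x - y) ≫ Tr.mor₁ = ((x - y) ≫ Tr.mor₁ ≫ p₂) ≫ i₂ := by
      calc (x - y) ≫ Tr.mor₁ = ((x - y) ≫ Tr.mor₁) ≫ (p₁ ≫ i₁ + p₂ ≫ i₂) := by
            rw [hsum, Category.comp_id]
        _ = ((x - y) ≫ Tr.mor₁ ≫ p₂) ≫ i₂ := by
            rw [Preadditive.comp_add, ← Category.assoc ((x - y) ≫ Tr.mor₁) p₁ i₁,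
              Category.assoc (x - y) Tr.mor₁ p₁, h0, zero_comp, zero_add]
            simp only [Category.assoc]
    have h2 : ((x - y) ≫ Tr.mor₁ ≫ p₂) ≫ (i₂ ≫ Tr.mor₂) = 0 := by
      rw [← Category.assoc, ← h1, Category.assoc, comp_distTriang_mor_zero₁₂ _ hT, comp_zero]
    have h3 : (x - y) ≫ Tr.mor₁ ≫ p₂ = 0 :=
      (cancel_mono (i₂ ≫ Tr.mor₂)).1 (by rw [h2, zero_comp])
    have h4 : (x - y) ≫ Tr.mor₁ = 0 := by rw [h1, h3, zero_comp]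
    have h5 : x - y = 0 := (cancel_mono Tr.mor₁).1 (by rw [h4, zero_comp])
    exact sub_eq_zero.1 h5
  have : IsSplitEpi (Tr.mor₁ ≫ p₁) := ⟨⟨⟨t, htφ⟩⟩⟩
  exact isIso_of_mono_of_isSplitEpi _

/-- an object all of whose endomorphisms vanish is zero: used through the identity. -/
theorem isIso_of_bijective_comp (θ : Triangle T) (hθ : θ ∈ distTriang T)
    (h : ∀ g : θ.obj₃ ⟶ θ.obj₃, g = 0) : IsIso θ.mor₁ := by
  have hz : IsZero θ.obj₃ := (IsZero.iff_id_eq_zero _).2 (h _)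
  exact (Triangle.isZero₃_iff_isIso₁ _ hθ).1 hz

end Tri

end Groth.Agent.Lib.Helper17.MV1
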