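import Groth.Agent.Lib.Helper17MVo1

/-! Mayer–Vietoris squares of triangulated categories: the Mayer–Vietoris triangle (helper17). -/
set_option autoImplicit false
set_option backward.isDefEq.respectTransparency false
set_option backward.isDefEq.respectTransparency.types false
set_option linter.unusedSectionVars false
universe v u
open CategoryTheory CategoryTheory.Limits CategoryTheory.Pretriangulated

namespace Groth.Agent.Lib.Helper17.MV2

open Groth.Agent.Lib.Helper24MVSq Groth.Agent.Lib.Helper17.MV1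

variable {S S' R R' : Type u} [Category.{v} S] [Category.{v} S'] [Category.{v} R] [Category.{v} R']
  [Preadditive S] [Preadditive S'] [Preadditive R] [Preadditive R']
  [HasZeroObject S] [HasZeroObject S'] [HasZeroObject R] [HasZeroObject R']
  [HasShift S ℤ] [HasShift S' ℤ] [HasShift R ℤ] [HasShift R' ℤ]
  [∀ n : ℤ, (shiftFunctor S n).Additive] [∀ n : ℤ, (shiftFunctor S' n).Additive]
  [∀ n : ℤ, (shiftFunctor R n).Additive] [∀ n : ℤ, (shiftFunctor R' n).Additive]
  [Pretriangulated S] [Pretriangulated S'] [Pretriangulated R] [Pretriangulated R']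
  (q : W4c3perfectstacks.MVSq S S' R R')
  [q.jst.CommShift ℤ] [q.fst.CommShift ℤ] [q.jpst.CommShift ℤ] [q.gst.CommShift ℤ]
  [q.jst.IsTriangulated] [q.fst.IsTriangulated] [q.jpst.IsTriangulated] [q.gst.IsTriangulated]

/-- the first map of the Mayer–Vietoris triangle. -/
noncomputable def a (N : S) : N ⟶ q.jls.obj (q.jst.obj N) ⊞ q.fls.obj (q.fst.obj N) :=
  biprod.lift (q.adjJ.unit.app N) (q.adjF.unit.app N)

/-- the second map of the Mayer–Vietoris triangle. -/
noncomputable def b (N : S) : q.jls.obj (q.jst.obj N) ⊞ q.fls.obj (q.fst.obj N) ⟶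
    q.fls.obj (q.fst.obj (q.jls.obj (q.jst.obj N))) :=
  biprod.desc (q.adjF.unit.app (q.jls.obj (q.jst.obj N)))
    (-(q.fls.map (q.fst.map (q.adjJ.unit.app N))))

theorem a_b (N : S) : a q N ≫ b q N = 0 := by
  unfold a b
  rw [biprod.lift_desc, Preadditive.comp_neg]
  have := q.adjF.unit.naturality (q.adjJ.unit.app N)
  simp only [Functor.id_obj, Functor.id_map, Functor.comp_obj, Functor.comp_map] at this
  rw [this, add_neg_cancel]

theorem isIso_jst_unit (hq : q.IsMV) (N : S) : IsIso (q.jst.map (q.adjJ.unit.app N)) := by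
  haveI := hq.isIso_counitJ
  have h1 : q.jst.map (q.adjJ.unit.app N) ≫ q.adjJ.counit.app (q.jst.obj N) = 𝟙 _ :=
    q.adjJ.left_triangle_components N
  haveI : IsIso (q.jst.map (q.adjJ.unit.app N) ≫ q.adjJ.counit.app (q.jst.obj N)) := by
    rw [h1]; infer_instance
  exact IsIso.of_isIso_comp_right _ (q.adjJ.counit.app (q.jst.obj N))

/-- `f_* j'_* ≅ j_* g_*`. -/
noncomputable def pushIso : q.jpls ⋙ q.fls ≅ q.gls ⋙ q.jls :=
  conjugateIsoEquiv (q.adjF.comp q.adjJp) (q.adjJ.comp q.adjG) q.e

/-- the third vertex of the Mayer–Vietoris triangle is a pushforward from `U`. -/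
noncomputable def wIso (hq : q.IsMV) (N : S) :
    q.fls.obj (q.fst.obj (q.jls.obj (q.jst.obj N))) ≅
      q.jls.obj (q.gls.obj (q.gst.obj (q.jst.obj N))) :=
  haveI := hq.isIso_bc2App (q.jst.obj N)
  q.fls.mapIso (asIso (q.bc2App (q.jst.obj N))) ≪≫ (pushIso q).app _

theorem isZero_jpst_fst (K : S) (hK : IsZero (q.jst.obj K)) : IsZero (q.jpst.obj (q.fst.obj K)) :=
  IsZero.of_iso (q.gst.map_isZero hK) (q.e.app K).symm

theorem bcApp_naturality {M M' : S'} (m : M ⟶ M') :
    q.jst.map (q.fls.map m) ≫ q.bcApp M' = q.bcApp M ≫ q.gls.map (q.jpst.map m) := by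
  unfold W4c3perfectstacks.MVSq.bcApp
  have h1 := q.adjG.unit.naturality (q.jst.map (q.fls.map m))
  have h2 := q.e.hom.naturality (q.fls.map m)
  have h3 := q.adjF.counit.naturality m
  simp only [Functor.id_obj, Functor.id_map, Functor.comp_obj, Functor.comp_map] at h1 h2 h3
  have inner : q.gst.map (q.jst.map (q.fls.map m)) ≫ q.e.hom.app (q.fls.obj M') ≫
      q.jpst.map (q.adjF.counit.app M') =
      q.e.hom.app (q.fls.obj M) ≫ q.jpst.map (q.adjF.counit.app M) ≫ q.jpst.map m := by
    rw [← Category.assoc, h2, Category.assoc, ← Functor.map_comp, h3, Functor.map_comp]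
  calc q.jst.map (q.fls.map m) ≫ q.adjG.unit.app (q.jst.obj (q.fls.obj M')) ≫
        q.gls.map (q.e.hom.app (q.fls.obj M')) ≫ q.gls.map (q.jpst.map (q.adjF.counit.app M'))
      = q.adjG.unit.app (q.jst.obj (q.fls.obj M)) ≫
          q.gls.map (q.gst.map (q.jst.map (q.fls.map m)) ≫ q.e.hom.app (q.fls.obj M') ≫
            q.jpst.map (q.adjF.counit.app M')) := by
        rw [← Category.assoc, h1, Category.assoc, Functor.map_comp, Functor.map_comp]
    _ = q.adjG.unit.app (q.jst.obj (q.fls.obj M)) ≫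
          q.gls.map (q.e.hom.app (q.fls.obj M) ≫ q.jpst.map (q.adjF.counit.app M) ≫
            q.jpst.map m) := by rw [inner]
    _ = (q.adjG.unit.app (q.jst.obj (q.fls.obj M)) ≫ q.gls.map (q.e.hom.app (q.fls.obj M)) ≫
          q.gls.map (q.jpst.map (q.adjF.counit.app M))) ≫ q.gls.map (q.jpst.map m) := by
        simp only [Functor.map_comp, Category.assoc]

theorem isIso_jst_map_fls_map (hq : q.IsMV) {M M' : S'} (m : M ⟶ M')
    (h : IsIso (q.jpst.map m)) : IsIso (q.jst.map (q.fls.map m)) := by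
  haveI := hq.isIso_bcApp M
  haveI := hq.isIso_bcApp M'
  have e := bcApp_naturality q m
  have : IsIso (q.jst.map (q.fls.map m) ≫ q.bcApp M') := by
    rw [e]; infer_instance
  exact IsIso.of_isIso_comp_right _ (q.bcApp M')

theorem isIso_jst_Φ_unit (hq : q.IsMV) (N : S) :
    IsIso (q.jst.map (q.fls.map (q.fst.map (q.adjJ.unit.app N)))) := by
  apply isIso_jst_map_fls_map q hq
  have h := isIso_jst_unit q hq N
  have h2 : IsIso (q.gst.map (q.jst.map (q.adjJ.unit.app N))) := inferInstance
  have nat := q.e.hom.naturality (q.adjJ.unit.app N)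
  simp only [Functor.id_obj, Functor.comp_obj, Functor.comp_map] at nat
  have : IsIso (q.e.hom.app N ≫ q.jpst.map (q.fst.map (q.adjJ.unit.app N))) := by
    rw [← nat]; infer_instance
  exact IsIso.of_isIso_comp_left (q.e.hom.app N) _

end Groth.Agent.Lib.Helper17.MV2
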