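import Groth.Agent.Lib.Helper17MVo2

/-! Mayer–Vietoris squares of triangulated categories: existence, uniqueness and naturality of the
Mayer–Vietoris triangle (helper17). -/
set_option autoImplicit false
set_option backward.isDefEq.respectTransparency false
set_option backward.isDefEq.respectTransparency.types false
set_option linter.unusedSectionVars false
universe v u
open CategoryTheory CategoryTheory.Limits CategoryTheory.Pretriangulated

namespace Groth.Agent.Lib.Helper17.MV3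

open Groth.Agent.Lib.Helper24MVSq Groth.Agent.Lib.Helper17.MV1 Groth.Agent.Lib.Helper17.MV2

section General
variable {T U : Type u} [Category.{v} T] [Category.{v} U] [Preadditive T] [Preadditive U]
  [HasZeroObject T] [HasZeroObject U] [HasShift T ℤ] [HasShift U ℤ]
  [∀ n : ℤ, (shiftFunctor T n).Additive] [∀ n : ℤ, (shiftFunctor U n).Additive]
  [Pretriangulated T] [Pretriangulated U]
  (L : T ⥤ U) (Rr : U ⥤ T) (adj : L ⊣ Rr) [L.CommShift ℤ] [L.IsTriangulated]

include adj in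
/-- a morphism to (an object isomorphic to) a value of the right adjoint which is killed by `L`
vanishes. -/
theorem eq_zero_of_map_eq_zero {X J : T} {Y : U} (i : J ≅ Rr.obj Y) (u : X ⟶ J)
    (hu : L.map u = 0) : u = 0 := by
  have h : u ≫ i.hom = (0 : X ⟶ J) ≫ i.hom := by
    apply (adj.homEquiv X Y).symm.injective
    rw [Adjunction.homEquiv_counit, Adjunction.homEquiv_counit, Functor.map_comp, hu, zero_comp,
      zero_comp, zero_comp, Functor.map_zero, zero_comp]
  exact (cancel_mono i.hom).1 h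

theorem injective_comp_shift {N C : T} (θ : N ⟶ C)
    (hinj : ∀ K' : T, IsZero (L.obj K') → Function.Injective (fun g : K' ⟶ N => g ≫ θ))
    (K' : T) (hK' : IsZero (L.obj K')) (y : K' ⟶ N⟦(1 : ℤ)⟧) (hy : y ≫ θ⟦(1 : ℤ)⟧' = 0) :
    y = 0 := by
  have e := shiftFunctorCompIsoId T (1 : ℤ) (-1) (by norm_num)
  have nat : (θ⟦(1 : ℤ)⟧')⟦(-1 : ℤ)⟧' ≫ e.hom.app C = e.hom.app N ≫ θ := e.hom.naturality θ
  have h1 : (y⟦(-1 : ℤ)⟧' ≫ e.hom.app N) ≫ θ = 0 ≫ θ := by
    rw [Category.assoc, ← nat, ← Category.assoc, ← Functor.map_comp, hy, Functor.map_zero,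
      zero_comp, zero_comp]
  have h2 : y⟦(-1 : ℤ)⟧' ≫ e.hom.app N = 0 := hinj _ (isZero_shift_obj L hK' (-1)) h1
  have h3 : y⟦(-1 : ℤ)⟧' = 0 := (cancel_mono (e.hom.app N)).1 (by rw [h2, zero_comp])
  exact (shiftFunctor T (-1 : ℤ)).map_injective (by rw [h3, Functor.map_zero])

/-- a morphism which becomes invertible under `L` and induces bijections on maps out of objects
killed by `L` is invertible. -/
theorem isIso_of_local {N C : T} (θ : N ⟶ C) (hL : IsIso (L.map θ))
    (hbij : ∀ K' : T, IsZero (L.obj K') → Function.Bijective (fun g : K' ⟶ N => g ≫ θ)) :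
    IsIso θ := by
  obtain ⟨E, u, v, hE⟩ := distinguished_cocone_triangle θ
  have hLE : IsZero (L.obj E) :=
    (Triangle.isZero₃_iff_isIso₁ _ (L.map_distinguished _ hE)).2 hL
  have hv : v = 0 := injective_comp_shift L θ (fun K' hK' => (hbij K' hK').1) E hLE v
    (comp_distTriang_mor_zero₃₁ _ hE)
  obtain ⟨s, hs⟩ := Triangle.coyoneda_exact₃ _ hE (𝟙 E) (by
    show 𝟙 E ≫ v = 0
    rw [hv, comp_zero])
  obtain ⟨g, hg⟩ := (hbij E hLE).2 s
  have hid : 𝟙 E = 0 := by
    rw [hs, ← hg]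
    show (g ≫ θ) ≫ u = 0
    rw [Category.assoc]
    have := comp_distTriang_mor_zero₁₂ _ hE
    dsimp only [Triangle.mk] at this
    rw [this, comp_zero]
  have hz : IsZero E := (IsZero.iff_id_eq_zero _).2 hid
  exact (Triangle.isZero₃_iff_isIso₁ _ hE).1 hz

end General

section MV

variable {S S' R R' : Type u} [Category.{v} S] [Category.{v} S'] [Category.{v} R] [Category.{v} R']
  [Preadditive S] [Preadditive S'] [Preadditive R] [Preadditive R']
  [HasZeroObject S] [HasZeroObject S'] [HasZeroObject R] [HasZeroObject R']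
  [HasShift S ℤ] [HasShift S' ℤ] [HasShift R ℤ] [HasShift R' ℤ]
  [∀ n : ℤ, (shiftFunctor S n).Additive] [∀ n : ℤ, (shiftFunctor S' n).Additive]
  [∀ n : ℤ, (shiftFunctor R n).Additive] [∀ n : ℤ, (shiftFunctor R' n).Additive]
  [Pretriangulated S] [Pretriangulated S'] [Pretriangulated R] [Pretriangulated R']
  (q : W4c3perfectstacks.MVSq S S' R R')
  [q.jst.CommShift ℤ] [q.fst.CommShift ℤ] [q.jpst.CommShift ℤ] [q.gst.CommShift ℤ]
  [q.jst.IsTriangulated] [q.fst.IsTriangulated] [q.jpst.IsTriangulated] [q.gst.IsTriangulated]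

/-- `f^*` is bijective on maps out of an object killed by `j^*`. -/
theorem bijective_fst_map (hq : q.IsMV) (K N : S) (hK : IsZero (q.jst.obj K)) :
    Function.Bijective (fun g : K ⟶ N => q.fst.map g) := by
  haveI := hq.isIso_unitF K hK
  have hM : IsZero (q.jpst.obj (q.fst.obj K)) := isZero_jpst_fst q K hK
  have hb := map_bijective_of_isZero_pullback q hq (q.fst.obj K) hM N
  constructor
  · intro g₁ g₂ h
    have h' : q.fst.map g₁ = q.fst.map g₂ := h
    have h1 : q.fst.map (inv (q.adjF.unit.app K) ≫ g₁) =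
        q.fst.map (inv (q.adjF.unit.app K) ≫ g₂) := by
      rw [Functor.map_comp, Functor.map_comp, h']
    have h2 := hb.1 h1
    exact (cancel_epi _).1 h2
  · intro h
    obtain ⟨g', hg'⟩ := hb.2 (q.fst.map (inv (q.adjF.unit.app K)) ≫ h)
    refine ⟨q.adjF.unit.app K ≫ g', ?_⟩
    have hg'' : q.fst.map g' = q.fst.map (inv (q.adjF.unit.app K)) ≫ h := hg'
    show q.fst.map (q.adjF.unit.app K ≫ g') = h
    rw [Functor.map_comp, hg'', ← Category.assoc, ← Functor.map_comp]
    have : q.adjF.unit.app K ≫ inv (q.adjF.unit.app K) = 𝟙 _ := IsIso.hom_inv_id _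
    erw [this]
    rw [CategoryTheory.Functor.map_id, Category.id_comp]

theorem bijective_comp_unitF (hq : q.IsMV) (K N : S) (hK : IsZero (q.jst.obj K)) :
    Function.Bijective (fun g : K ⟶ N => g ≫ q.adjF.unit.app N) := by
  have key : ∀ g : K ⟶ N, q.adjF.homEquiv K (q.fst.obj N) (q.fst.map g) =
      g ≫ q.adjF.unit.app N := by
    intro g
    rw [Adjunction.homEquiv_unit]
    exact (q.adjF.unit.naturality g).symm
  have hb := bijective_fst_map q hq K N hK
  have : (fun g : K ⟶ N => g ≫ q.adjF.unit.app N) =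
      (q.adjF.homEquiv K (q.fst.obj N)) ∘ (fun g : K ⟶ N => q.fst.map g) := by
    funext g
    exact (key g).symm
  rw [this]
  exact (q.adjF.homEquiv K (q.fst.obj N)).bijective.comp hb

theorem bijective_comp_a (hq : q.IsMV) (K N : S) (hK : IsZero (q.jst.obj K)) :
    Function.Bijective (fun g : K ⟶ N => g ≫ a q N) := by
  have hb := bijective_comp_unitF q hq K N hK
  constructor
  · intro g₁ g₂ h
    have h' : g₁ ≫ a q N = g₂ ≫ a q N := h
    apply hb.1
    show g₁ ≫ q.adjF.unit.app N = g₂ ≫ q.adjF.unit.app N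
    have e : a q N ≫ biprod.snd = q.adjF.unit.app N := by
      unfold a; exact biprod.lift_snd _ _
    rw [← e, ← Category.assoc, h', Category.assoc]
  · intro h
    obtain ⟨g, hg⟩ := hb.2 (h ≫ biprod.snd)
    have hg' : g ≫ q.adjF.unit.app N = h ≫ biprod.snd := hg
    refine ⟨g, ?_⟩
    show g ≫ a q N = h
    apply biprod.hom_ext
    · exact (eq_zero_of_isZero_left q.jst q.jls q.adjJ hK (Iso.refl _) _).trans
        (eq_zero_of_isZero_left q.jst q.jls q.adjJ hK (Iso.refl _) _).symm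
    · rw [Category.assoc]
      unfold a
      rw [biprod.lift_snd, hg']

theorem isIso_neg' {C : Type*} [Category C] [Preadditive C] {X Y : C} (f : X ⟶ Y) [IsIso f] :
    IsIso (-f) :=
  ⟨⟨-inv f, by simp, by simp⟩⟩

theorem isIso_jst_inr_b (hq : q.IsMV) (N : S) :
    IsIso (q.jst.map biprod.inr ≫ q.jst.map (b q N)) := by
  rw [← Functor.map_comp]
  have : (biprod.inr : q.fls.obj (q.fst.obj N) ⟶ _) ≫ b q N =
      -(q.fls.map (q.fst.map (q.adjJ.unit.app N))) := by
    unfold b; exact biprod.inr_desc _ _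
  rw [this, Functor.map_neg]
  haveI := isIso_jst_Φ_unit q hq N
  exact isIso_neg' _

/-- in the image under `j^*` of a triangle whose second map is `b`, the first map followed by
the first projection is invertible. -/
theorem isIso_jst_comp_fst (hq : q.IsMV) (N : S) {C : S}
    (c' : C ⟶ q.jls.obj (q.jst.obj N) ⊞ q.fls.obj (q.fst.obj N))
    (h : q.fls.obj (q.fst.obj (q.jls.obj (q.jst.obj N))) ⟶ C⟦(1 : ℤ)⟧)
    (hT : Triangle.mk c' (b q N) h ∈ distTriang S) :
    IsIso (q.jst.map c' ≫ q.jst.map biprod.fst) := by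
  have hT' := q.jst.map_distinguished _ hT
  have hsum : q.jst.map (biprod.fst : q.jls.obj (q.jst.obj N) ⊞ q.fls.obj (q.fst.obj N) ⟶ _) ≫
      q.jst.map biprod.inl + q.jst.map biprod.snd ≫ q.jst.map biprod.inr =
      𝟙 (q.jst.obj (q.jls.obj (q.jst.obj N) ⊞ q.fls.obj (q.fst.obj N))) := by
    rw [← Functor.map_comp, ← Functor.map_comp, ← Functor.map_add, biprod.total,
      CategoryTheory.Functor.map_id]
  exact isIso_comp_fst (q.jst.mapTriangle.obj (Triangle.mk c' (b q N) h)) hT'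
    (q.jst.map biprod.inl) (q.jst.map biprod.inr) (q.jst.map biprod.fst) (q.jst.map biprod.snd)
    (by rw [← Functor.map_comp, biprod.inl_fst, CategoryTheory.Functor.map_id])
    (by rw [← Functor.map_comp, biprod.inr_fst, Functor.map_zero])
    hsum
    (isIso_jst_inr_b q hq N)

theorem jst_map_mor₃_eq_zero (hq : q.IsMV) (N : S) {C : S}
    (c' : C ⟶ q.jls.obj (q.jst.obj N) ⊞ q.fls.obj (q.fst.obj N))
    (h : q.fls.obj (q.fst.obj (q.jls.obj (q.jst.obj N))) ⟶ C⟦(1 : ℤ)⟧)
    (hT : Triangle.mk c' (b q N) h ∈ distTriang S) :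
    q.jst.map h = 0 := by
  have hT' := q.jst.map_distinguished _ hT
  haveI := isIso_jst_inr_b q hq N
  have h1 := comp_distTriang_mor_zero₂₃ _ hT'
  have h1' : q.jst.map (b q N) ≫ q.jst.map h ≫ (q.jst.commShiftIso (1 : ℤ)).hom.app C = 0 := h1
  have h2 : (q.jst.map biprod.inr ≫ q.jst.map (b q N)) ≫
      (q.jst.map h ≫ (q.jst.commShiftIso (1 : ℤ)).hom.app C) = 0 := by
    rw [Category.assoc, h1', comp_zero]
  have h3 : q.jst.map h ≫ (q.jst.commShiftIso (1 : ℤ)).hom.app C = 0 :=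
    (cancel_epi (q.jst.map biprod.inr ≫ q.jst.map (b q N))).1 (by rw [h2, comp_zero])
  exact (cancel_mono ((q.jst.commShiftIso (1 : ℤ)).hom.app C)).1 (by rw [h3, zero_comp])

/-- the connecting map of a Mayer–Vietoris triangle composes to zero with any map to the
third vertex of a Mayer–Vietoris triangle. -/
theorem mor₃_comp_eq_zero (hq : q.IsMV) (N : S) {C : S}
    (c' : C ⟶ q.jls.obj (q.jst.obj N) ⊞ q.fls.obj (q.fst.obj N))
    (h : q.fls.obj (q.fst.obj (q.jls.obj (q.jst.obj N))) ⟶ C⟦(1 : ℤ)⟧)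
    (hT : Triangle.mk c' (b q N) h ∈ distTriang S) (N₂ : S)
    (γ : C⟦(1 : ℤ)⟧ ⟶ q.fls.obj (q.fst.obj (q.jls.obj (q.jst.obj N₂)))) : h ≫ γ = 0 := by
  apply eq_zero_of_map_eq_zero q.jst q.jls q.adjJ (wIso q hq N₂)
  rw [Functor.map_comp, jst_map_mor₃_eq_zero q hq N c' h hT, zero_comp]

theorem exists_d (hq : q.IsMV) (N : S) :
    ∃ d : q.fls.obj (q.fst.obj (q.jls.obj (q.jst.obj N))) ⟶ N⟦(1 : ℤ)⟧,
      Triangle.mk (a q N) (b q N) d ∈ distTriang S := by
  obtain ⟨C, c', h, hT⟩ := distinguished_cocone_triangle₁ (b q N)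
  obtain ⟨θ, hθ⟩ := Triangle.coyoneda_exact₂ _ hT (a q N) (a_b q N)
  have hθ' : a q N = θ ≫ c' := hθ
  have hθiso : IsIso θ := by
    apply isIso_of_local q.jst θ
    · haveI := isIso_jst_comp_fst q hq N c' h hT
      haveI := isIso_jst_unit q hq N
      have e : q.jst.map θ ≫ (q.jst.map c' ≫ q.jst.map biprod.fst) =
          q.jst.map (q.adjJ.unit.app N) := by
        rw [← Functor.map_comp, ← Functor.map_comp, ← Category.assoc, ← hθ']
        unfold a
        rw [biprod.lift_fst]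
      have : IsIso (q.jst.map θ ≫ (q.jst.map c' ≫ q.jst.map biprod.fst)) := by
        rw [e]; infer_instance
      exact IsIso.of_isIso_comp_right _ (q.jst.map c' ≫ q.jst.map biprod.fst)
    · intro K' hK'
      have h1 := bijective_comp_a q hq K' N hK'
      have h2 := bijective_comp_mor₁ q.jst q.jls q.adjJ (Triangle.mk c' (b q N) h) hT
        (wIso q hq N) hK'
      have h2' : Function.Bijective (fun g : K' ⟶ C => g ≫ c') := h2
      have e : (fun g : K' ⟶ N => g ≫ a q N) =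
          (fun g : K' ⟶ C => g ≫ c') ∘ (fun g : K' ⟶ N => g ≫ θ) := by
        funext g
        show g ≫ a q N = (g ≫ θ) ≫ c'
        rw [hθ', Category.assoc]
      rw [e] at h1
      exact (Function.Bijective.of_comp_iff' h2' _).1 h1
  refine ⟨h ≫ (inv θ)⟦(1 : ℤ)⟧', ?_⟩
  refine isomorphic_distinguished _ hT _ ?_
  refine Triangle.isoMk _ _ (asIso θ) (Iso.refl _) (Iso.refl _) ?_ ?_ ?_
  · show a q N ≫ 𝟙 _ = θ ≫ c'
    rw [Category.comp_id, hθ']
  · show b q N ≫ 𝟙 _ = 𝟙 _ ≫ b q N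
    rw [Category.comp_id, Category.id_comp]
  · show (h ≫ (inv θ)⟦(1 : ℤ)⟧') ≫ θ⟦(1 : ℤ)⟧' = 𝟙 _ ≫ h
    rw [Category.assoc, ← Functor.map_comp, IsIso.inv_hom_id, CategoryTheory.Functor.map_id, Category.comp_id,
      Category.id_comp]

/-- naturality (and hence uniqueness) of the connecting map of the Mayer–Vietoris triangle. -/
theorem d_natural (hq : q.IsMV) {N₁ N₂ : S} (φ : N₁ ⟶ N₂)
    (d₁ : q.fls.obj (q.fst.obj (q.jls.obj (q.jst.obj N₁))) ⟶ N₁⟦(1 : ℤ)⟧)
    (d₂ : q.fls.obj (q.fst.obj (q.jls.obj (q.jst.obj N₂))) ⟶ N₂⟦(1 : ℤ)⟧)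
    (h₁ : Triangle.mk (a q N₁) (b q N₁) d₁ ∈ distTriang S)
    (h₂ : Triangle.mk (a q N₂) (b q N₂) d₂ ∈ distTriang S) :
    d₁ ≫ φ⟦(1 : ℤ)⟧' = q.fls.map (q.fst.map (q.jls.map (q.jst.map φ))) ≫ d₂ := by
  have comm : a q N₁ ≫ biprod.map (q.jls.map (q.jst.map φ)) (q.fls.map (q.fst.map φ)) =
      φ ≫ a q N₂ := by
    unfold a
    apply biprod.hom_ext
    · rw [Category.assoc, biprod.map_fst, ← Category.assoc, biprod.lift_fst, Category.assoc,
        biprod.lift_fst]
      exact (q.adjJ.unit.naturality φ).symm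
    · rw [Category.assoc, biprod.map_snd, ← Category.assoc, biprod.lift_snd, Category.assoc,
        biprod.lift_snd]
      exact (q.adjF.unit.naturality φ).symm
  obtain ⟨ψ', hψ₁, hψ₂⟩ := complete_distinguished_triangle_morphism _ _ h₁ h₂ φ
    (biprod.map (q.jls.map (q.jst.map φ)) (q.fls.map (q.fst.map φ))) comm
  obtain ⟨ψ, rfl⟩ : ∃ ψ : q.fls.obj (q.fst.obj (q.jls.obj (q.jst.obj N₁))) ⟶
      q.fls.obj (q.fst.obj (q.jls.obj (q.jst.obj N₂))), ψ = ψ' := ⟨ψ', rfl⟩
  have hψ₁' : b q N₁ ≫ ψ =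
      biprod.map (q.jls.map (q.jst.map φ)) (q.fls.map (q.fst.map φ)) ≫ b q N₂ := hψ₁
  have hψ₂' : d₁ ≫ φ⟦(1 : ℤ)⟧' = ψ ≫ d₂ := hψ₂
  have hb : b q N₁ ≫ q.fls.map (q.fst.map (q.jls.map (q.jst.map φ))) =
      biprod.map (q.jls.map (q.jst.map φ)) (q.fls.map (q.fst.map φ)) ≫ b q N₂ := by
    unfold b
    apply biprod.hom_ext'
    · rw [← Category.assoc, biprod.inl_desc, ← Category.assoc, biprod.inl_map, Category.assoc,
        biprod.inl_desc]
      exact (q.adjF.unit.naturality (q.jls.map (q.jst.map φ))).symm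
    · rw [← Category.assoc, biprod.inr_desc, ← Category.assoc, biprod.inr_map, Category.assoc,
        biprod.inr_desc, Preadditive.neg_comp, Preadditive.comp_neg, ← Functor.map_comp,
        ← Functor.map_comp, ← Functor.map_comp, ← Functor.map_comp]
      have := q.adjJ.unit.naturality φ
      simp only [Functor.id_obj, Functor.id_map, Functor.comp_obj, Functor.comp_map] at this
      rw [this]
  have h0 : b q N₁ ≫ (ψ - q.fls.map (q.fst.map (q.jls.map (q.jst.map φ)))) = 0 := by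
    rw [Preadditive.comp_sub, hψ₁', hb, sub_self]
  obtain ⟨γ, hγ⟩ := Triangle.yoneda_exact₃ _ h₁ _ h0
  have hγ' : ψ - q.fls.map (q.fst.map (q.jls.map (q.jst.map φ))) = d₁ ≫ γ := hγ
  have hz : d₁ ≫ γ = 0 := mor₃_comp_eq_zero q hq N₁ (a q N₁) d₁ h₁ N₂ γ
  rw [hz] at hγ'
  rw [hψ₂', sub_eq_zero.1 hγ']

theorem d_unique (hq : q.IsMV) (N : S)
    (d₁ d₂ : q.fls.obj (q.fst.obj (q.jls.obj (q.jst.obj N))) ⟶ N⟦(1 : ℤ)⟧)
    (h₁ : Triangle.mk (a q N) (b q N) d₁ ∈ distTriang S)
    (h₂ : Triangle.mk (a q N) (b q N) d₂ ∈ distTriang S) : d₁ = d₂ := by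
  have h := d_natural q hq (𝟙 N) d₁ d₂ h₁ h₂
  simpa using h

theorem existsUnique_d (hq : q.IsMV) (N : S) :
    ∃! d : q.fls.obj (q.fst.obj (q.jls.obj (q.jst.obj N))) ⟶ N⟦(1 : ℤ)⟧,
      Triangle.mk (a q N) (b q N) d ∈ distTriang S := by
  obtain ⟨d, hd⟩ := exists_d q hq N
  exact ⟨d, hd, fun d' hd' => d_unique q hq N d' d hd' hd⟩

end MV

end Groth.Agent.Lib.Helper17.MV3
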