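import Groth.Agent.Lib.Helper17MVo3

/-! Mayer–Vietoris squares of triangulated categories: glueing objects (helper17). -/
set_option autoImplicit false
set_option backward.isDefEq.respectTransparency false
set_option backward.isDefEq.respectTransparency.types false
set_option linter.unusedSectionVars false
universe v u
open CategoryTheory CategoryTheory.Limits CategoryTheory.Pretriangulated

namespace Groth.Agent.Lib.Helper17.MV4

open Groth.Agent.Lib.Helper24MVSq Groth.Agent.Lib.Helper17.MV1 Groth.Agent.Lib.Helper17.MV2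
  Groth.Agent.Lib.Helper17.MV3

variable {S S' R R' : Type u} [Category.{v} S] [Category.{v} S'] [Category.{v} R] [Category.{v} R']
  [Preadditive S] [Preadditive S'] [Preadditive R] [Preadditive R']
  [HasZeroObject S] [HasZeroObject S'] [HasZeroObject R] [HasZeroObject R']
  [HasShift S ℤ] [HasShift S' ℤ] [HasShift R ℤ] [HasShift R' ℤ]
  [∀ n : ℤ, (shiftFunctor S n).Additive] [∀ n : ℤ, (shiftFunctor S' n).Additive]
  [∀ n : ℤ, (shiftFunctor R n).Additive] [∀ n : ℤ, (shiftFunctor R' n).Additive]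
  [Pretriangulated S] [Pretriangulated S'] [Pretriangulated R] [Pretriangulated R']
  (q : W4c3perfectstacks.MVSq S S' R R')
  [q.jst.CommShift ℤ] [q.fst.CommShift ℤ] [q.jpst.CommShift ℤ] [q.gst.CommShift ℤ]
  [q.jst.IsTriangulated] [q.fst.IsTriangulated] [q.jpst.IsTriangulated] [q.gst.IsTriangulated]

theorem isIso_jpst_unit (hq : q.IsMV) (M : S') : IsIso (q.jpst.map (q.adjJp.unit.app M)) := by
  haveI := hq.isIso_counitJp
  have h1 : q.jpst.map (q.adjJp.unit.app M) ≫ q.adjJp.counit.app (q.jpst.obj M) = 𝟙 _ :=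
    q.adjJp.left_triangle_components M
  haveI : IsIso (q.jpst.map (q.adjJp.unit.app M) ≫ q.adjJp.counit.app (q.jpst.obj M)) := by
    rw [h1]; infer_instance
  exact IsIso.of_isIso_comp_right _ (q.adjJp.counit.app (q.jpst.obj M))

theorem isZero_jst_fls (hq : q.IsMV) (M : S') (hM : IsZero (q.jpst.obj M)) :
    IsZero (q.jst.obj (q.fls.obj M)) := by
  haveI := hq.isIso_bcApp M
  haveI := q.adjG.isRightAdjoint
  have h1 : IsZero (q.gls.obj (q.jpst.obj M)) := q.gls.map_isZero hM
  exact IsZero.of_iso h1 (asIso (q.bcApp M))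

/-- the second map of the glueing triangle. -/
noncomputable def glueB (NU : R) (N' : S') (δ : q.jpst.obj N' ≅ q.gst.obj NU) :
    q.jls.obj NU ⊞ q.fls.obj N' ⟶ q.fls.obj (q.jpls.obj (q.gst.obj NU)) :=
  biprod.desc (q.adjF.unit.app (q.jls.obj NU) ≫ q.fls.map (q.bc2App NU))
    (-(q.fls.map (q.adjJp.unit.app N' ≫ q.jpls.map δ.hom)))

section Glue
variable (hq : q.IsMV) (NU : R) (N' : S') (δ : q.jpst.obj N' ≅ q.gst.obj NU) (N : S)
  (a : N ⟶ q.jls.obj NU ⊞ q.fls.obj N')
  (d : q.fls.obj (q.jpls.obj (q.gst.obj NU)) ⟶ N⟦(1 : ℤ)⟧)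
  (hT : Triangle.mk a (glueB q NU N' δ) d ∈ distTriang S)

include hq in
theorem isIso_jst_inr_glueB : IsIso (q.jst.map biprod.inr ≫ q.jst.map (glueB q NU N' δ)) := by
  rw [← Functor.map_comp]
  have : (biprod.inr : q.fls.obj N' ⟶ q.jls.obj NU ⊞ q.fls.obj N') ≫ glueB q NU N' δ =
      -(q.fls.map (q.adjJp.unit.app N' ≫ q.jpls.map δ.hom)) := by
    unfold glueB; exact biprod.inr_desc _ _
  rw [this, Functor.map_neg]
  haveI : IsIso (q.jst.map (q.fls.map (q.adjJp.unit.app N' ≫ q.jpls.map δ.hom))) := by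
    apply isIso_jst_map_fls_map q hq
    rw [Functor.map_comp]
    haveI := isIso_jpst_unit q hq N'
    infer_instance
  exact isIso_neg' _

include hq hT in
theorem isIso_glue_fst : IsIso ((q.adjJ.homEquiv N NU).symm (a ≫ biprod.fst)) := by
  have hT' := q.jst.map_distinguished _ hT
  have hsum : q.jst.map (biprod.fst : q.jls.obj NU ⊞ q.fls.obj N' ⟶ _) ≫
      q.jst.map biprod.inl + q.jst.map biprod.snd ≫ q.jst.map biprod.inr =
      𝟙 (q.jst.obj (q.jls.obj NU ⊞ q.fls.obj N')) := by
    rw [← Functor.map_comp, ← Functor.map_comp, ← Functor.map_add, biprod.total,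
      CategoryTheory.Functor.map_id]
  have h1 : IsIso (q.jst.map a ≫ q.jst.map biprod.fst) :=
    isIso_comp_fst (q.jst.mapTriangle.obj (Triangle.mk a (glueB q NU N' δ) d)) hT'
      (q.jst.map biprod.inl) (q.jst.map biprod.inr) (q.jst.map biprod.fst) (q.jst.map biprod.snd)
      (by rw [← Functor.map_comp, biprod.inl_fst, CategoryTheory.Functor.map_id])
      (by rw [← Functor.map_comp, biprod.inr_fst, Functor.map_zero])
      hsum (isIso_jst_inr_glueB q hq NU N' δ)
  haveI := hq.isIso_counitJ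
  rw [Adjunction.homEquiv_counit, Functor.map_comp]
  infer_instance

include hT in
theorem glue_identity :
    q.jpst.map ((q.adjF.homEquiv N N').symm (a ≫ biprod.snd)) ≫ δ.hom =
      q.e.inv.app N ≫ q.gst.map ((q.adjJ.homEquiv N NU).symm (a ≫ biprod.fst)) := by
  have h0 : a ≫ glueB q NU N' δ = 0 := comp_distTriang_mor_zero₁₂ _ hT
  have ha : a = biprod.lift (a ≫ biprod.fst) (a ≫ biprod.snd) := by
    apply biprod.hom_ext
    · rw [biprod.lift_fst]
    · rw [biprod.lift_snd]
  have E1 : ((a ≫ biprod.fst) ≫ q.adjF.unit.app (q.jls.obj NU)) ≫ q.fls.map (q.bc2App NU) =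
      (a ≫ biprod.snd) ≫ q.fls.map (q.adjJp.unit.app N' ≫ q.jpls.map δ.hom) := by
    rw [ha] at h0
    unfold glueB at h0
    rw [biprod.lift_desc, Preadditive.comp_neg, add_neg_eq_zero] at h0
    rw [Category.assoc]
    exact h0
  have E2 : q.fst.map (a ≫ biprod.fst) ≫ q.bc2App NU =
      (q.adjF.homEquiv N N').symm (a ≫ biprod.snd) ≫
        q.adjJp.unit.app N' ≫ q.jpls.map δ.hom := by
    have := congrArg (q.adjF.homEquiv N _).symm E1
    rw [Adjunction.homEquiv_naturality_right_symm, Adjunction.homEquiv_naturality_right_symm,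
      Adjunction.homEquiv_naturality_left_symm] at this
    have hu := q.adjF.homEquiv_symm_unit (q.jls.obj NU)
    rw [hu, Category.comp_id] at this
    exact this
  have E3 := congrArg (q.adjJp.homEquiv (q.fst.obj N) (q.gst.obj NU)).symm E2
  rw [← Category.assoc ((q.adjF.homEquiv N N').symm (a ≫ biprod.snd)),
    Adjunction.homEquiv_naturality_right_symm, Adjunction.homEquiv_naturality_left_symm,
    Adjunction.homEquiv_naturality_left_symm] at E3
  have hu := q.adjJp.homEquiv_symm_unit N'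
  rw [hu, Category.comp_id] at E3
  rw [← E3]
  have hbc : (q.adjJp.homEquiv _ _).symm (q.bc2App NU) =
      q.e.inv.app (q.jls.obj NU) ≫ q.gst.map (q.adjJ.counit.app NU) := by
    unfold W4c3perfectstacks.MVSq.bc2App
    rw [← Functor.map_comp, Adjunction.homEquiv_naturality_right_symm]
    have hu' := q.adjJp.homEquiv_symm_unit (q.fst.obj (q.jls.obj NU))
    rw [hu', Category.id_comp]
  rw [hbc, Adjunction.homEquiv_counit, q.gst.map_comp]
  have nat := q.e.inv.naturality (a ≫ biprod.fst)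
  simp only [Functor.comp_obj, Functor.comp_map] at nat
  rw [← Category.assoc, nat, Category.assoc]

include hq hT in
theorem bijective_comp_glue_snd (K : S) (hK : IsZero (q.jst.obj K)) :
    Function.Bijective (fun g : K ⟶ N => g ≫ a ≫ biprod.snd) := by
  have hb1 : Function.Bijective (fun g : K ⟶ N => g ≫ a) :=
    bijective_comp_mor₁ q.jst q.jls q.adjJ (Triangle.mk a (glueB q NU N' δ) d) hT
      ((pushIso q).app (q.gst.obj NU)) hK
  have hz : ∀ x : K ⟶ q.jls.obj NU, x = 0 := fun x =>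
    eq_zero_of_isZero_left q.jst q.jls q.adjJ hK (Iso.refl _) x
  constructor
  · intro g₁ g₂ h
    have h' : g₁ ≫ a ≫ biprod.snd = g₂ ≫ a ≫ biprod.snd := h
    apply hb1.1
    show g₁ ≫ a = g₂ ≫ a
    apply biprod.hom_ext
    · rw [hz ((g₁ ≫ a) ≫ biprod.fst), hz ((g₂ ≫ a) ≫ biprod.fst)]
    · rw [Category.assoc, Category.assoc, h']
  · intro y
    obtain ⟨g, hg⟩ := hb1.2 (y ≫ biprod.inr)
    have hg' : g ≫ a = y ≫ biprod.inr := hg
    refine ⟨g, ?_⟩
    show g ≫ a ≫ biprod.snd = y
    rw [← Category.assoc, hg', Category.assoc, biprod.inr_snd, Category.comp_id]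

include hq hT in
theorem isIso_glue_snd : IsIso ((q.adjF.homEquiv N N').symm (a ≫ biprod.snd)) := by
  apply isIso_of_local q.jpst
  · have h1 := glue_identity q NU N' δ N a d hT
    haveI := isIso_glue_fst q hq NU N' δ N a d hT
    have h2 : IsIso (q.jpst.map ((q.adjF.homEquiv N N').symm (a ≫ biprod.snd)) ≫ δ.hom) := by
      rw [h1]; infer_instance
    exact IsIso.of_isIso_comp_right _ δ.hom
  · intro K' hK'
    haveI := hq.isIso_counitF K' hK'
    have hK : IsZero (q.jst.obj (q.fls.obj K')) := isZero_jst_fls q hq K' hK'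
    have hbf := bijective_fst_map q hq (q.fls.obj K') N hK
    have hbs := bijective_comp_glue_snd q hq NU N' δ N a d hT (q.fls.obj K') hK
    have key : ∀ g : q.fls.obj K' ⟶ N,
        q.adjF.homEquiv _ _ (q.fst.map g ≫ (q.adjF.homEquiv N N').symm (a ≫ biprod.snd)) =
          g ≫ a ≫ biprod.snd := by
      intro g
      rw [Adjunction.homEquiv_naturality_left, Equiv.apply_symm_apply]
    constructor
    · intro x₁ x₂ h
      have h' : x₁ ≫ (q.adjF.homEquiv N N').symm (a ≫ biprod.snd) =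
          x₂ ≫ (q.adjF.homEquiv N N').symm (a ≫ biprod.snd) := h
      obtain ⟨g₁, hg₁⟩ := hbf.2 (q.adjF.counit.app K' ≫ x₁)
      obtain ⟨g₂, hg₂⟩ := hbf.2 (q.adjF.counit.app K' ≫ x₂)
      have hg₁' : q.fst.map g₁ = q.adjF.counit.app K' ≫ x₁ := hg₁
      have hg₂' : q.fst.map g₂ = q.adjF.counit.app K' ≫ x₂ := hg₂
      have e : g₁ ≫ a ≫ biprod.snd = g₂ ≫ a ≫ biprod.snd := by
        rw [← key, ← key, hg₁', hg₂', Category.assoc, Category.assoc, h']
      have e' : g₁ = g₂ := hbs.1 e
      rw [e'] at hg₁'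
      rw [hg₁'] at hg₂'
      exact (cancel_epi _).1 hg₂'
    · intro y
      obtain ⟨g, hg⟩ := hbs.2 (q.adjF.homEquiv _ _ (q.adjF.counit.app K' ≫ y))
      have hg' : g ≫ a ≫ biprod.snd = q.adjF.homEquiv _ _ (q.adjF.counit.app K' ≫ y) := hg
      refine ⟨inv (q.adjF.counit.app K') ≫ q.fst.map g, ?_⟩
      show (inv (q.adjF.counit.app K') ≫ q.fst.map g) ≫
        (q.adjF.homEquiv N N').symm (a ≫ biprod.snd) = y
      rw [← key] at hg'
      have := (q.adjF.homEquiv _ _).injective hg'
      rw [Category.assoc, this, IsIso.inv_hom_id_assoc]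

end Glue

end Groth.Agent.Lib.Helper17.MV4
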