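import Groth.Agent.Lib.Helper17MVo4
import Groth.Agent.Lib.Helper17Compact

/-! Mayer–Vietoris squares of triangulated categories: compactness is local (helper17). -/
set_option autoImplicit false
set_option backward.isDefEq.respectTransparency false
set_option backward.isDefEq.respectTransparency.types false
set_option linter.unusedSectionVars false
universe v u
open CategoryTheory CategoryTheory.Limits CategoryTheory.Pretriangulated

namespace Groth.Agent.Lib.Helper17.MV5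

open Groth.Agent.Lib.Helper24MVSq Groth.Agent.Lib.Helper17.MV1 Groth.Agent.Lib.Helper17.MV2
  Groth.Agent.Lib.Helper17.MV3 Groth.Agent.Lib.Helper17.MV4 Groth.Agent.Lib.Helper17.Compact

section Shift
variable {D : Type u} [Category.{v} D] [Preadditive D] [HasShift D ℤ]
  [∀ n : ℤ, (shiftFunctor D n).Additive]

theorem finSupp_shift (K : D) (h : FinSupp K (𝟭 D)) : FinSupp (K⟦(1 : ℤ)⟧) (𝟭 D) := by
  apply finSupp_of_faithful (shiftFunctor D (-1 : ℤ))
  exact finSupp_of_iso (𝟭 D) ((shiftFunctorCompIsoId D (1 : ℤ) (-1) (by norm_num)).app K).symm h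

end Shift

variable {S S' R R' : Type u} [Category.{v} S] [Category.{v} S'] [Category.{v} R] [Category.{v} R']
  [Preadditive S] [Preadditive S'] [Preadditive R] [Preadditive R']
  [HasZeroObject S] [HasZeroObject S'] [HasZeroObject R] [HasZeroObject R']
  [HasShift S ℤ] [HasShift S' ℤ] [HasShift R ℤ] [HasShift R' ℤ]
  [∀ n : ℤ, (shiftFunctor S n).Additive] [∀ n : ℤ, (shiftFunctor S' n).Additive]
  [∀ n : ℤ, (shiftFunctor R n).Additive] [∀ n : ℤ, (shiftFunctor R' n).Additive]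
  [Pretriangulated S] [Pretriangulated S'] [Pretriangulated R] [Pretriangulated R']
  (q : W4c3perfectstacks.MVSq S S' R R')
  [q.jst.CommShift ℤ] [q.fst.CommShift ℤ] [q.jpst.CommShift ℤ] [q.gst.CommShift ℤ]
  [q.jst.IsTriangulated] [q.fst.IsTriangulated] [q.jpst.IsTriangulated] [q.gst.IsTriangulated]

theorem bc2App_naturality {P₁ P₂ : R} (p : P₁ ⟶ P₂) :
    q.fst.map (q.jls.map p) ≫ q.bc2App P₂ = q.bc2App P₁ ≫ q.jpls.map (q.gst.map p) := by
  unfold W4c3perfectstacks.MVSq.bc2App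
  have h1 := q.adjJp.unit.naturality (q.fst.map (q.jls.map p))
  have h2 := q.e.inv.naturality (q.jls.map p)
  have h3 := q.adjJ.counit.naturality p
  simp only [Functor.id_obj, Functor.id_map, Functor.comp_obj, Functor.comp_map] at h1 h2 h3
  have inner : q.jpst.map (q.fst.map (q.jls.map p)) ≫ q.e.inv.app (q.jls.obj P₂) ≫
      q.gst.map (q.adjJ.counit.app P₂) =
      q.e.inv.app (q.jls.obj P₁) ≫ q.gst.map (q.adjJ.counit.app P₁) ≫ q.gst.map p := by
    rw [← Category.assoc, h2, Category.assoc, ← Functor.map_comp, h3, Functor.map_comp]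
  calc q.fst.map (q.jls.map p) ≫ q.adjJp.unit.app (q.fst.obj (q.jls.obj P₂)) ≫
        q.jpls.map (q.e.inv.app (q.jls.obj P₂)) ≫ q.jpls.map (q.gst.map (q.adjJ.counit.app P₂))
      = q.adjJp.unit.app (q.fst.obj (q.jls.obj P₁)) ≫
          q.jpls.map (q.jpst.map (q.fst.map (q.jls.map p)) ≫ q.e.inv.app (q.jls.obj P₂) ≫
            q.gst.map (q.adjJ.counit.app P₂)) := by
        rw [← Category.assoc, h1, Category.assoc, Functor.map_comp, Functor.map_comp]
    _ = q.adjJp.unit.app (q.fst.obj (q.jls.obj P₁)) ≫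
          q.jpls.map (q.e.inv.app (q.jls.obj P₁) ≫ q.gst.map (q.adjJ.counit.app P₁) ≫
            q.gst.map p) := by rw [inner]
    _ = (q.adjJp.unit.app (q.fst.obj (q.jls.obj P₁)) ≫
          q.jpls.map (q.e.inv.app (q.jls.obj P₁)) ≫
          q.jpls.map (q.gst.map (q.adjJ.counit.app P₁))) ≫ q.jpls.map (q.gst.map p) := by
        simp only [Functor.map_comp, Category.assoc]

theorem wIso_naturality (hq : q.IsMV) {N₁ N₂ : S} (m : N₁ ⟶ N₂) :
    q.fls.map (q.fst.map (q.jls.map (q.jst.map m))) ≫ (wIso q hq N₂).hom =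
      (wIso q hq N₁).hom ≫ q.jls.map (q.gls.map (q.gst.map (q.jst.map m))) := by
  unfold wIso
  have h1 := bc2App_naturality q (q.jst.map m)
  have h2 := (pushIso q).hom.naturality (q.gst.map (q.jst.map m))
  simp only [Functor.comp_obj, Functor.comp_map] at h2
  simp only [Iso.trans_hom, Functor.mapIso_hom, asIso_hom, Iso.app_hom]
  rw [← Category.assoc, ← Functor.map_comp, h1, Functor.map_comp, Category.assoc, h2,
    Category.assoc]

/-- `f_* f^* j_* j^* ≅ j_* g_* g^* j^*`, naturally. -/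
noncomputable def wNatIso (hq : q.IsMV) :
    q.jst ⋙ q.jls ⋙ q.fst ⋙ q.fls ≅ (q.jst ⋙ q.gst) ⋙ (q.gls ⋙ q.jls) :=
  NatIso.ofComponents (fun N => wIso q hq N) (fun m => wIso_naturality q hq m)

theorem finSupp_of_pullbacks (hq : q.IsMV) (N : S)
    (hJ : FinSupp N (q.jst ⋙ q.jls)) (hF : FinSupp N (q.fst ⋙ q.fls))
    (hW : FinSupp (N⟦(1 : ℤ)⟧) (q.jst ⋙ q.jls ⋙ q.fst ⋙ q.fls)) : FinSupp N (𝟭 S) := by
  classical
  intro ι X M inj hc φ
  change N ⟶ M at φ
  show ∃ s : Finset ι, φ ≫ idem hc s = φ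
  obtain ⟨s₁, hs₁⟩ := hJ ι X M inj hc (φ ≫ q.adjJ.unit.app M)
  obtain ⟨s₂, hs₂⟩ := hF ι X M inj hc (φ ≫ q.adjF.unit.app M)
  have hs₁' := supp_mono _ hc _ hs₁ (Finset.subset_union_left (s₂ := s₂))
  have hs₂' := supp_mono _ hc _ hs₂ (Finset.subset_union_right (s₁ := s₁))
  obtain ⟨s, hs⟩ : ∃ s : Finset ι, s = s₁ ∪ s₂ := ⟨_, rfl⟩
  rw [← hs] at hs₁' hs₂'
  have hs₁'' : (φ ≫ q.adjJ.unit.app M) ≫ q.jls.map (q.jst.map (idem hc s)) =
      φ ≫ q.adjJ.unit.app M := hs₁'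
  have hs₂'' : (φ ≫ q.adjF.unit.app M) ≫ q.fls.map (q.fst.map (idem hc s)) =
      φ ≫ q.adjF.unit.app M := hs₂'
  obtain ⟨ψ, hψ⟩ : ∃ ψ : N ⟶ M, ψ = φ - φ ≫ idem hc s := ⟨_, rfl⟩
  have hψJ : ψ ≫ q.adjJ.unit.app M = 0 := by
    have nat := q.adjJ.unit.naturality (idem hc s)
    simp only [Functor.id_obj, Functor.id_map, Functor.comp_obj, Functor.comp_map] at nat
    rw [hψ, Preadditive.sub_comp, Category.assoc, nat, ← Category.assoc, hs₁'', sub_self]
  have hψF : ψ ≫ q.adjF.unit.app M = 0 := by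
    have nat := q.adjF.unit.naturality (idem hc s)
    simp only [Functor.id_obj, Functor.id_map, Functor.comp_obj, Functor.comp_map] at nat
    rw [hψ, Preadditive.sub_comp, Category.assoc, nat, ← Category.assoc, hs₂'', sub_self]
  have hψa : ψ ≫ a q M = 0 := by
    unfold a
    apply biprod.hom_ext
    · rw [Category.assoc, biprod.lift_fst, hψJ, zero_comp]
    · rw [Category.assoc, biprod.lift_snd, hψF, zero_comp]
  obtain ⟨d, hd⟩ := exists_d q hq M
  obtain ⟨w, hw⟩ := Triangle.coyoneda_exact₁ _ hd (ψ⟦(1 : ℤ)⟧') (by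
    show ψ⟦(1 : ℤ)⟧' ≫ (a q M)⟦(1 : ℤ)⟧' = 0
    rw [← Functor.map_comp, hψa, Functor.map_zero])
  have hw' : ψ⟦(1 : ℤ)⟧' = w ≫ d := hw
  obtain ⟨t, ht⟩ := hW ι X M inj hc w
  have ht' : w ≫ q.fls.map (q.fst.map (q.jls.map (q.jst.map (idem hc t)))) = w := ht
  have nat := d_natural q hq (idem hc t) d d hd hd
  have e1 : (ψ ≫ idem hc t)⟦(1 : ℤ)⟧' = ψ⟦(1 : ℤ)⟧' := by
    rw [Functor.map_comp, hw', Category.assoc, nat, ← Category.assoc, ht']
  have hψt : ψ ≫ idem hc t = ψ := (shiftFunctor S (1 : ℤ)).map_injective e1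
  refine ⟨s ∪ t, ?_⟩
  have hφ : φ = ψ + φ ≫ idem hc s := by rw [hψ, sub_add_cancel]
  have h1 : ψ ≫ idem hc (s ∪ t) = ψ :=
    supp_mono (𝟭 S) hc ψ hψt (Finset.subset_union_right (s₁ := s))
  have h2 : (φ ≫ idem hc s) ≫ idem hc (s ∪ t) = φ ≫ idem hc s := by
    rw [Category.assoc, idem_comp_idem hc (Finset.subset_union_left (s₂ := t))]
  calc φ ≫ idem hc (s ∪ t) = (ψ + φ ≫ idem hc s) ≫ idem hc (s ∪ t) := by rw [← hφ]
    _ = ψ + φ ≫ idem hc s := by rw [Preadditive.add_comp, h1, h2]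
    _ = φ := hφ.symm

theorem isCompactObject_of_pullbacks (hq : q.IsMV)
    [HasCoproducts.{v} S] [HasCoproducts.{v} S'] [HasCoproducts.{v} R] [HasCoproducts.{v} R']
    (N : S) (hU : CohDer.IsCompactObject (q.jst.obj N))
    (hX' : CohDer.IsCompactObject (q.fst.obj N))
    (hU' : CohDer.IsCompactObject (q.gst.obj (q.jst.obj N))) :
    CohDer.IsCompactObject N := by
  apply compact_of_finSupp
  apply finSupp_of_pullbacks q hq N
  · exact finSupp_of_adj q.adjJ N (finSupp_of_compact _ hU)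
  · exact finSupp_of_adj q.adjF N (finSupp_of_compact _ hX')
  · apply finSupp_of_natIso (wNatIso q hq).symm
    apply finSupp_of_adj (q.adjJ.comp q.adjG)
    have e : (q.jst ⋙ q.gst).obj (N⟦(1 : ℤ)⟧) ≅ (q.gst.obj (q.jst.obj N))⟦(1 : ℤ)⟧ :=
      q.gst.mapIso ((q.jst.commShiftIso (1 : ℤ)).app N) ≪≫
        (q.gst.commShiftIso (1 : ℤ)).app (q.jst.obj N)
    exact finSupp_of_iso (𝟭 R') e.symm (finSupp_shift _ (finSupp_of_compact _ hU'))

end Groth.Agent.Lib.Helper17.MV5
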