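import Groth.Prelude.Def_Formal2
import Groth.Agent.Lib.Helper17ExtProd

/-!
# The Milnor sequence for `Ext` into the limit of a tower (helper17)

Abstract setting: an abelian category `C`, a tower `t n : F (n+1) ⟶ F n`, an object `L` with compatible maps
`π n : L ⟶ F n` such that `0 → L → ∏ F → ∏ F → 0` is short exact (second map `1 - shift`), and an object `Y`
such that `Ext^p(Y, ∏ F) = ∏ Ext^p(Y, F n)`. Then
`0 → lim¹ Ext^p(Y, F n) → Ext^{p+1}(Y, L) → lim Ext^{p+1}(Y, F n) → 0`.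
-/

set_option autoImplicit false
universe w v u
open CategoryTheory Limits Abelian

namespace Groth.Agent.Lib.Helper17.Milnor

open Groth.Agent.Lib.Helper17.ExtProd

variable {C : Type u} [Category.{v} C] [Abelian C]

section D

variable (F : ℕ → C) (t : ∀ n, F (n + 1) ⟶ F n) [∀ G : ℕ → C, HasProduct G]

/-- `1 - shift` on the product. -/
noncomputable def d : ∏ᶜ F ⟶ ∏ᶜ F := Pi.lift (fun n => Pi.π F n - Pi.π F (n + 1) ≫ t n)

@[reassoc]
theorem d_π (n : ℕ) : d F t ≫ Pi.π F n = Pi.π F n - Pi.π F (n + 1) ≫ t n := Pi.lift_π _ _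

variable {𝒵 : C → Prop}

/-- `1 - shift` is an epimorphism when the transition maps are surjective on test objects. -/
theorem epi_d (h𝒵 : DetectsEpi 𝒵)
    (hsurj : ∀ Z, 𝒵 Z → ∀ n (φ : Z ⟶ F n), ∃ ψ : Z ⟶ F (n + 1), ψ ≫ t n = φ) : Epi (d F t) := by
  apply h𝒵
  intro Z hZ φ
  let ψ : ∀ n, Z ⟶ F n := fun n => Nat.rec (motive := fun n => Z ⟶ F n) 0
    (fun n ψn => (hsurj Z hZ n (ψn - φ ≫ Pi.π F n)).choose) n
  have hψ : ∀ n, ψ (n + 1) ≫ t n = ψ n - φ ≫ Pi.π F n := fun n =>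
    (hsurj Z hZ n (ψ n - φ ≫ Pi.π F n)).choose_spec
  refine ⟨Pi.lift ψ, ?_⟩
  apply Pi.hom_ext
  intro n
  rw [Category.assoc, d_π, Preadditive.comp_sub, Pi.lift_π, Pi.lift_π_assoc, hψ n]
  abel

end D

section SES

variable (Fc : ℕᵒᵖ ⥤ C) [∀ G : ℕ → C, HasProduct G]

/-- the objects of the tower. -/
abbrev Fo (n : ℕ) : C := Fc.obj (Opposite.op n)

/-- the transition maps of the tower. -/
abbrev tr (n : ℕ) : Fo Fc (n + 1) ⟶ Fo Fc n := Fc.map (homOfLE (Nat.le_succ n)).op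

variable {Fc} (c : Cone Fc)

/-- the map `L → ∏ F`. -/
noncomputable def a : c.pt ⟶ ∏ᶜ (Fo Fc) := Pi.lift (fun n => c.π.app (Opposite.op n))

@[reassoc]
theorem a_π (n : ℕ) : a c ≫ Pi.π (Fo Fc) n = c.π.app (Opposite.op n) := Pi.lift_π _ _

theorem a_d : a c ≫ d (Fo Fc) (tr Fc) = 0 := by
  apply Pi.hom_ext
  intro n
  rw [Category.assoc, d_π, Preadditive.comp_sub, a_π, a_π_assoc, zero_comp, sub_eq_zero]
  exact (c.w (homOfLE (Nat.le_succ n)).op).symm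

theorem shortExact_of_isLimit (hc : IsLimit c) [Epi (d (Fo Fc) (tr Fc))] :
    (ShortComplex.mk (a c) (d (Fo Fc) (tr Fc)) (a_d c)).ShortExact := by
  have hmono : Mono (a c) := by
    refine ⟨fun {T} m m' h => hc.hom_ext (fun j => ?_)⟩
    have := congrArg (fun k => k ≫ Pi.π (Fo Fc) j.unop) h
    simp only [Category.assoc, a_π] at this
    exact this
  haveI : Mono (ShortComplex.mk (a c) (d (Fo Fc) (tr Fc)) (a_d c)).f := hmono
  haveI : Epi (ShortComplex.mk (a c) (d (Fo Fc) (tr Fc)) (a_d c)).g :=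
    inferInstanceAs (Epi (d (Fo Fc) (tr Fc)))
  refine { exact := ?_ }
  have key : ∀ {T : C} (g : T ⟶ ∏ᶜ (Fo Fc)), g ≫ d (Fo Fc) (tr Fc) = 0 →
      ∀ n, g ≫ Pi.π (Fo Fc) n = (g ≫ Pi.π (Fo Fc) (n + 1)) ≫ tr Fc n := by
    intro T g hg n
    have := congrArg (fun k => k ≫ Pi.π (Fo Fc) n) hg
    simp only [Category.assoc, d_π, Preadditive.comp_sub, zero_comp, sub_eq_zero] at this
    rw [Category.assoc]
    exact this
  let cone : ∀ {T : C} (g : T ⟶ ∏ᶜ (Fo Fc)), g ≫ d (Fo Fc) (tr Fc) = 0 → Cone Fc :=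
    fun {T} g hg =>
    { pt := T
      π := NatTrans.ofOpSequence (F := (Functor.const _).obj T) (G := Fc)
        (fun n => g ≫ Pi.π (Fo Fc) n) (fun n => by
          dsimp only [Functor.const_obj_obj, Functor.const_obj_map]
          rw [Category.id_comp]
          exact key g hg n) }
  refine ShortComplex.exact_of_f_is_kernel _ (KernelFork.IsLimit.ofι _ _
    (fun {T} g hg => hc.lift (cone g hg)) ?_ ?_)
  · intro T g hg
    apply Pi.hom_ext
    intro n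
    rw [Category.assoc]
    change hc.lift (cone g hg) ≫ a c ≫ Pi.π (Fo Fc) n = _
    rw [a_π, hc.fac]
    rfl
  · intro T g hg m hm
    rw [← cancel_mono (a c)]
    refine (show m ≫ a c = g from hm).trans ?_
    apply Pi.hom_ext
    intro n
    rw [Category.assoc, a_π, hc.fac]
    rfl

end SES

section Main

variable [HasExt.{w} C] (F : ℕ → C) (t : ∀ n, F (n + 1) ⟶ F n) [∀ G : ℕ → C, HasProduct G] (Y : C)

/-- transition maps on `Ext`. -/
noncomputable def τ (p : ℕ) (n : ℕ) : Ext.{w} Y (F (n + 1)) p →+ Ext.{w} Y (F n) p :=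
  (Ext.mk₀ (t n)).postcomp Y (add_zero p)

theorem Φ_comp_d (p : ℕ) (x : Ext.{w} Y (∏ᶜ F) p) :
    Φ F Y p (x.comp (Ext.mk₀ (d F t)) (add_zero p)) =
      Formal2.towerDiff _ (τ F t Y p) (Φ F Y p x) := by
  funext n
  change (x.comp (Ext.mk₀ (d F t)) (add_zero p)).comp (Ext.mk₀ (Pi.π F n)) (add_zero p) =
    x.comp (Ext.mk₀ (Pi.π F n)) (add_zero p) -
      (x.comp (Ext.mk₀ (Pi.π F (n + 1))) (add_zero p)).comp (Ext.mk₀ (t n)) (add_zero p)
  rw [Ext.comp_assoc_of_third_deg_zero, Ext.mk₀_comp_mk₀, d_π, sub_eq_add_neg, Ext.mk₀_add,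
    Ext.mk₀_neg, Ext.comp_add, Ext.comp_neg, ← Ext.mk₀_comp_mk₀, ← sub_eq_add_neg,
    Ext.comp_assoc_of_third_deg_zero]

variable {F t Y}

theorem milnor {L : C} (π : ∀ n, L ⟶ F n) (w : Pi.lift π ≫ d F t = 0)
    (hS : (ShortComplex.mk (Pi.lift π) (d F t) w).ShortExact)
    (hΦ : ∀ p, Function.Bijective (Φ.{w} F Y p)) (p : ℕ) :
    ∃ (α : Formal2.limOne (fun n => Ext.{w} Y (F n) p) (τ F t Y p) →+ Ext.{w} Y L (p + 1))
      (β : Ext.{w} Y L (p + 1) →+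
        Formal2.limZero (fun n => Ext.{w} Y (F n) (p + 1)) (τ F t Y (p + 1))),
      Function.Injective α ∧ Function.Surjective β ∧ α.range = β.ker ∧
      ∀ (x : Ext.{w} Y L (p + 1)) (n : ℕ),
        (β x : ∀ n, Ext.{w} Y (F n) (p + 1)) n = x.comp (Ext.mk₀ (π n)) (add_zero (p + 1)) := by
  let Ep : Ext.{w} Y (∏ᶜ F) p ≃+ (∀ n, Ext.{w} Y (F n) p) := AddEquiv.ofBijective (Φ F Y p) (hΦ p)
  have hEp : ∀ x, Ep x = Φ F Y p x := fun _ => rfl
  let δ : Ext.{w} Y (∏ᶜ F) p →+ Ext.{w} Y L (p + 1) := hS.extClass.postcomp Y rfl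
  have hδ : ∀ x, δ x = x.comp hS.extClass rfl := fun _ => rfl
  let α' : (∀ n, Ext.{w} Y (F n) p) →+ Ext.{w} Y L (p + 1) := δ.comp Ep.symm.toAddMonoidHom
  have hα' : ∀ y, α' y = (Ep.symm y).comp hS.extClass rfl := fun _ => rfl
  have hsymm : ∀ z, Ep.symm (Formal2.towerDiff _ (τ F t Y p) z) =
      (Ep.symm z).comp (Ext.mk₀ (d F t)) (add_zero p) := by
    intro z
    apply Ep.injective
    rw [AddEquiv.apply_symm_apply, hEp, Φ_comp_d, ← hEp, AddEquiv.apply_symm_apply]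
  have hle : (Formal2.towerDiff _ (τ F t Y p)).range ≤ α'.ker := by
    rintro _ ⟨z, rfl⟩
    rw [AddMonoidHom.mem_ker, hα', hsymm, Ext.comp_assoc_of_second_deg_zero]
    have : (Ext.mk₀ (d F t)).comp hS.extClass (zero_add 1) = 0 := hS.comp_extClass
    rw [this, Ext.comp_zero]
  let α : Formal2.limOne (fun n => Ext.{w} Y (F n) p) (τ F t Y p) →+ Ext.{w} Y L (p + 1) :=
    QuotientAddGroup.lift _ α' hle
  have hα : ∀ y, α (QuotientAddGroup.mk y) = α' y := fun _ => rfl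
  -- β
  let β' : Ext.{w} Y L (p + 1) →+ (∀ n, Ext.{w} Y (F n) (p + 1)) :=
    (Φ F Y (p + 1)).comp ((Ext.mk₀ (Pi.lift π)).postcomp Y (add_zero (p + 1)))
  have hβ' : ∀ x, β' x = Φ F Y (p + 1) (x.comp (Ext.mk₀ (Pi.lift π)) (add_zero (p + 1))) :=
    fun _ => rfl
  have hmem : ∀ x, β' x ∈ Formal2.limZero (fun n => Ext.{w} Y (F n) (p + 1)) (τ F t Y (p + 1)) := by
    intro x
    rw [AddMonoidHom.mem_ker, hβ', ← Φ_comp_d, Ext.comp_assoc_of_third_deg_zero, Ext.mk₀_comp_mk₀, w,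
      Ext.mk₀_zero, Ext.comp_zero, map_zero]
  let β : Ext.{w} Y L (p + 1) →+
      Formal2.limZero (fun n => Ext.{w} Y (F n) (p + 1)) (τ F t Y (p + 1)) :=
    β'.codRestrict _ hmem
  have hβ : ∀ x, (β x : ∀ n, Ext.{w} Y (F n) (p + 1)) = β' x := fun _ => rfl
  refine ⟨α, β, ?_, ?_, ?_, ?_⟩
  · rw [injective_iff_map_eq_zero]
    intro q hq
    obtain ⟨y, rfl⟩ := QuotientAddGroup.mk_surjective q
    rw [hα, hα'] at hq
    obtain ⟨x₂, hx₂⟩ := Ext.covariant_sequence_exact₃ Y hS (Ep.symm y) rfl hq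
    rw [QuotientAddGroup.eq_zero_iff]
    refine ⟨Ep x₂, ?_⟩
    apply Ep.symm.injective
    rw [hsymm, AddEquiv.symm_apply_apply]
    exact hx₂
  · intro y
    let Ep' : Ext.{w} Y (∏ᶜ F) (p + 1) ≃+ (∀ n, Ext.{w} Y (F n) (p + 1)) :=
      AddEquiv.ofBijective (Φ F Y (p + 1)) (hΦ (p + 1))
    have h0 : (Ep'.symm y.1).comp (Ext.mk₀ (d F t)) (add_zero (p + 1)) = 0 := by
      apply (hΦ (p + 1)).1
      rw [Φ_comp_d, map_zero]
      have : Φ F Y (p + 1) (Ep'.symm y.1) = y.1 := Ep'.apply_symm_apply y.1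
      rw [this]
      exact y.2
    obtain ⟨x₁, hx₁⟩ := Ext.covariant_sequence_exact₂ Y hS (Ep'.symm y.1) h0
    refine ⟨x₁, Subtype.ext ?_⟩
    rw [hβ, hβ']
    have : x₁.comp (Ext.mk₀ (Pi.lift π)) (add_zero (p + 1)) = Ep'.symm y.1 := hx₁
    rw [this]
    exact Ep'.apply_symm_apply y.1
  · apply le_antisymm
    · rintro _ ⟨q, rfl⟩
      obtain ⟨y, rfl⟩ := QuotientAddGroup.mk_surjective q
      rw [AddMonoidHom.mem_ker]
      apply Subtype.ext
      rw [hβ, hβ', hα, hα', Ext.comp_assoc_of_third_deg_zero]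
      have : hS.extClass.comp (Ext.mk₀ (Pi.lift π)) (add_zero 1) = 0 := hS.extClass_comp
      rw [this, Ext.comp_zero, map_zero]
      rfl
    · intro x hx
      rw [AddMonoidHom.mem_ker] at hx
      have h1 : β' x = 0 := by
        rw [← hβ, hx]; rfl
      rw [hβ'] at h1
      have h2 : x.comp (Ext.mk₀ (Pi.lift π)) (add_zero (p + 1)) = 0 := by
        apply (hΦ (p + 1)).1
        rw [h1, map_zero]
      obtain ⟨x₃, hx₃⟩ := Ext.covariant_sequence_exact₁ Y hS x h2 rfl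
      refine ⟨QuotientAddGroup.mk (Ep x₃), ?_⟩
      rw [hα, hα', AddEquiv.symm_apply_apply]
      exact hx₃
  · intro x n
    rw [hβ, hβ']
    change (x.comp (Ext.mk₀ (Pi.lift π)) (add_zero (p + 1))).comp (Ext.mk₀ (Pi.π F n))
      (add_zero (p + 1)) = _
    rw [Ext.comp_assoc_of_third_deg_zero, Ext.mk₀_comp_mk₀, Pi.lift_π]

end Main

end Groth.Agent.Lib.Helper17.Milnor
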