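import Groth.Agent.Lib.Helper17Milnor
import Groth.Agent.Lib.Helper23AffVanish1

/-!
# The Milnor sequence for sheaf cohomology of the limit of a tower of abelian sheaves (helper17)

For a tower of abelian sheaves on a topological space which, on a basis `B`, is acyclic and has surjective
transition maps on sections: `0 → lim¹ Ext^p(Y, F_n) → Ext^{p+1}(Y, lim F_n) → lim Ext^{p+1}(Y, F_n) → 0`
for every abelian sheaf `Y`.
-/

set_option autoImplicit false
universe u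
open CategoryTheory Limits Abelian TopologicalSpace Opposite

namespace Groth.Agent.Lib.Helper17.MilnorTop

open Groth.Agent.Lib.Helper23.AffVanish Groth.Agent.Lib.Helper17.ExtProd
  Groth.Agent.Lib.Helper17.Milnor

variable {X : TopCat.{u}} (B : Set (Opens X))

/-- test objects: the free sheaves on the members of `B`. -/
def TestObj (Z : CohTop.Ab X) : Prop := ∃ W ∈ B, Z = ZU W

variable {B}

theorem detectsEpi (hB : Opens.IsBasis B) : DetectsEpi (TestObj B) := by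
  intro A A' g h
  rw [Groth.Agent.Lib.Helper16.ClosedEmb.locSurj_iff]
  intro V t x hx
  obtain ⟨W, hWB, hxW, hWV⟩ := Opens.isBasis_iff_nbhd.mp hB hx
  obtain ⟨ψ, hψ⟩ := h (ZU W) ⟨W, hWB, rfl⟩
    (CohFree.ofSect (J X) W A' ((A'.obj.map (homOfLE hWV).op).hom t))
  refine ⟨W, hWV, ⟨CohFree.evalGen (J X) W A ψ, ?_⟩, hxW⟩
  have h3 : (g.hom.app (op W)).hom (CohFree.evalGen (J X) W A ψ) =
      CohFree.evalGen (J X) W A' (ψ ≫ g) := rfl
  exact h3.trans ((congrArg (CohFree.evalGen (J X) W A') hψ).trans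
    (CohFree.evalGen_ofSect (J X) W A' _))

theorem acyc_of_vanishing (F : CohTop.Ab X)
    (h : ∀ W ∈ B, ∀ q : ℕ, Subsingleton (HE F (q + 1) W)) : Acyc.{u} (TestObj B) F := by
  rintro Z ⟨W, hW, rfl⟩ q
  exact h W hW q

theorem exists_lift_of_surjective {F F' : CohTop.Ab X} (t : F' ⟶ F)
    (h : ∀ W ∈ B, Function.Surjective (t.hom.app (op W)).hom) (Z : CohTop.Ab X) (hZ : TestObj B Z)
    (φ : Z ⟶ F) : ∃ ψ : Z ⟶ F', ψ ≫ t = φ := by
  obtain ⟨W, hW, rfl⟩ := hZ
  obtain ⟨s', hs'⟩ := h W hW (CohFree.evalGen (J X) W F φ)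
  refine ⟨CohFree.ofSect (J X) W F' s', ?_⟩
  apply (CohFree.homEquivSect (J X) W F).injective
  rw [CohFree.homEquivSect_apply, CohFree.homEquivSect_apply]
  have h3 : CohFree.evalGen (J X) W F (CohFree.ofSect (J X) W F' s' ≫ t) =
      (t.hom.app (op W)).hom (CohFree.evalGen (J X) W F' (CohFree.ofSect (J X) W F' s')) := rfl
  rw [h3, CohFree.evalGen_ofSect, hs']

variable (Fc : ℕᵒᵖ ⥤ CohTop.Ab X)

/-- **Milnor sequence**, for a limit cone `c` of the tower. -/
theorem milnor_top (hB : Opens.IsBasis B)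
    (hsurj : ∀ V ∈ B, ∀ n : ℕ,
      Function.Surjective ((Fc.map (homOfLE (Nat.le_succ n)).op).hom.app (op V)).hom)
    (hvan : ∀ V ∈ B, ∀ (n q : ℕ), Subsingleton (HE (Fc.obj (op n)) (q + 1) V))
    (c : Cone Fc) (hc : IsLimit c) (Y : CohTop.Ab X) (p : ℕ) :
    ∃ (α : Formal2.limOne (fun n => Ext.{u} Y (Fo Fc n) p) (τ (Fo Fc) (tr Fc) Y p) →+
        Ext.{u} Y c.pt (p + 1))
      (β : Ext.{u} Y c.pt (p + 1) →+
        Formal2.limZero (fun n => Ext.{u} Y (Fo Fc n) (p + 1)) (τ (Fo Fc) (tr Fc) Y (p + 1))),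
      Function.Injective α ∧ Function.Surjective β ∧ α.range = β.ker ∧
      ∀ (x : Ext.{u} Y c.pt (p + 1)) (n : ℕ),
        (β x : ∀ n, Ext.{u} Y (Fo Fc n) (p + 1)) n =
          x.comp (Ext.mk₀ (c.π.app (op n))) (add_zero (p + 1)) := by
  have h𝒵 := detectsEpi hB
  haveI : Epi (d (Fo Fc) (tr Fc)) := epi_d (Fo Fc) (tr Fc) h𝒵 (fun Z hZ n φ =>
    exists_lift_of_surjective (tr Fc n) (fun W hW => hsurj W hW n) Z hZ φ)
  have hS := shortExact_of_isLimit c hc
  have hΦ : ∀ p, Function.Bijective (Φ.{u} (Fo Fc) Y p) := fun p =>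
    bijective_Φ h𝒵 p (Fo Fc) (fun n => acyc_of_vanishing _ (fun W hW q => hvan W hW n q)) Y
  exact milnor (fun n => c.π.app (op n)) (a_d c) hS hΦ p

end Groth.Agent.Lib.Helper17.MilnorTop
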