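import Mathlib

/-! Morphisms of monads vs morphisms of their cohomology (OSS II.4.1.3) (helper17). -/
set_option autoImplicit false
set_option backward.isDefEq.respectTransparency false
universe w v u
open CategoryTheory CategoryTheory.Limits CategoryTheory.Abelian

namespace Groth.Agent.Lib.Helper17.Monad

variable {C : Type u} [Category.{v} C] [Abelian C] [HasExt.{w} C]

section SES

variable (M : ShortComplex C)

/-- `0 → Z → X₂ → X₃ → 0`. -/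
noncomputable abbrev S₁ : ShortComplex C := ShortComplex.mk M.iCycles M.g M.iCycles_g

/-- `0 → X₁ → Z → H → 0`. -/
noncomputable abbrev S₂ : ShortComplex C :=
  ShortComplex.mk M.toCycles M.homologyπ M.toCycles_comp_homologyπ

lemma S₁_shortExact [Epi M.g] : (S₁ M).ShortExact where
  exact := ShortComplex.exact_of_f_is_kernel _ M.cyclesIsKernel
  mono_f := by dsimp [S₁]; infer_instance
  epi_g := by dsimp [S₁]; infer_instance

instance [Mono M.f] : Mono M.toCycles := mono_of_mono_fac M.toCycles_i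

lemma S₂_shortExact [Mono M.f] : (S₂ M).ShortExact where
  exact := ShortComplex.exact_of_g_is_cokernel _ M.homologyIsCokernel
  mono_f := by dsimp [S₂]; infer_instance
  epi_g := by dsimp [S₂]; infer_instance

end SES

variable (M M' : ShortComplex C) [Mono M.f] [Epi M.g] [Mono M'.f] [Epi M'.g]
  (hBA : ∀ f : M.X₂ ⟶ M'.X₁, f = 0) (hCB : ∀ f : M.X₃ ⟶ M'.X₂, f = 0)
  (hCA₁ : Subsingleton (Abelian.Ext M.X₃ M'.X₁ 1)) (hBA₁ : Subsingleton (Abelian.Ext M.X₂ M'.X₁ 1))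
  (hCB₁ : Subsingleton (Abelian.Ext M.X₃ M'.X₂ 1)) (hCA₂ : Subsingleton (Abelian.Ext M.X₃ M'.X₁ 2))

include hBA hCA₁ in
lemma hom_cycles_eq_zero (v : M.cycles ⟶ M'.X₁) : v = 0 := by
  have hS := S₁_shortExact M
  obtain ⟨x₂, hx₂⟩ := Ext.contravariant_sequence_exact₁ hS M'.X₁ (Ext.mk₀ v) (n₁ := 1) rfl
    (Subsingleton.elim _ _)
  obtain ⟨w, rfl⟩ := (Ext.mk₀_bijective _ _).2 x₂
  rw [hBA w, Ext.mk₀_zero, Ext.comp_zero] at hx₂
  apply (Ext.mk₀_bijective _ _).1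
  rw [← hx₂, Ext.mk₀_zero]

include hBA₁ hCA₂ in
lemma ext_one_cycles_subsingleton : Subsingleton (Abelian.Ext M.cycles M'.X₁ 1) := by
  have hS := S₁_shortExact M
  refine ⟨fun a b => ?_⟩
  have h : ∀ x : Abelian.Ext M.cycles M'.X₁ 1, x = 0 := by
    intro x
    obtain ⟨x₂, hx₂⟩ := Ext.contravariant_sequence_exact₁ hS M'.X₁ x (n₁ := 2) rfl
      (Subsingleton.elim _ _)
    rw [← hx₂, Subsingleton.elim x₂ 0, Ext.comp_zero]
  rw [h a, h b]

include hBA₁ hCA₂ in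
/-- lifting of a map `Z → H'` to `Z → Z'`. -/
lemma exists_lift_cycles (u : M.cycles ⟶ M'.homology) :
    ∃ ψ : M.cycles ⟶ M'.cycles, ψ ≫ M'.homologyπ = u := by
  have hS' := S₂_shortExact M'
  have := ext_one_cycles_subsingleton M M' hBA₁ hCA₂
  obtain ⟨x₂, hx₂⟩ := Ext.covariant_sequence_exact₃ M.cycles hS' (Ext.mk₀ u) (n₁ := 1) rfl
    (Subsingleton.elim (α := Abelian.Ext M.cycles M'.X₁ 1) _ _)
  obtain ⟨ψ, rfl⟩ := (Ext.mk₀_bijective _ _).2 x₂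
  refine ⟨ψ, ?_⟩
  apply (Ext.mk₀_bijective _ _).1
  rw [← hx₂, Ext.mk₀_comp_mk₀]

include hCB₁ in
/-- extension of a map `Z → B'` to `B → B'`. -/
lemma exists_extend (ψ' : M.cycles ⟶ M'.X₂) :
    ∃ β : M.X₂ ⟶ M'.X₂, M.iCycles ≫ β = ψ' := by
  have hS := S₁_shortExact M
  obtain ⟨x₂, hx₂⟩ := Ext.contravariant_sequence_exact₁ hS M'.X₂ (Ext.mk₀ ψ') (n₁ := 1) rfl
    (Subsingleton.elim _ _)
  obtain ⟨β, rfl⟩ := (Ext.mk₀_bijective _ _).2 x₂
  refine ⟨β, ?_⟩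
  apply (Ext.mk₀_bijective _ _).1
  rw [← hx₂, Ext.mk₀_comp_mk₀]

include hBA₁ hCA₂ hCB₁ in
lemma surjective (φ : M.homology ⟶ M'.homology) :
    ∃ Φ : M ⟶ M', ShortComplex.homologyMap Φ = φ := by
  obtain ⟨ψ, hψ⟩ := exists_lift_cycles M M' hBA₁ hCA₂ (M.homologyπ ≫ φ)
  obtain ⟨β, hβ⟩ := exists_extend M M' hCB₁ (ψ ≫ M'.iCycles)
  -- γ
  have hγ : M.iCycles ≫ β ≫ M'.g = 0 := by
    rw [reassoc_of% hβ, M'.iCycles_g, comp_zero]
  have hS₁ := S₁_shortExact M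
  let γ : M.X₃ ⟶ M'.X₃ := hS₁.exact.desc (β ≫ M'.g) hγ
  have hγ' : M.g ≫ γ = β ≫ M'.g := hS₁.exact.g_desc (β ≫ M'.g) hγ
  -- α
  have hα : (M.toCycles ≫ ψ) ≫ M'.homologyπ = 0 := by
    rw [Category.assoc, hψ, M.toCycles_comp_homologyπ_assoc, zero_comp]
  have hS₂' := S₂_shortExact M'
  let α : M.X₁ ⟶ M'.X₁ := hS₂'.exact.lift (M.toCycles ≫ ψ) hα
  have hα' : α ≫ M'.toCycles = M.toCycles ≫ ψ := hS₂'.exact.lift_f (M.toCycles ≫ ψ) hα
  let Φ : M ⟶ M' :=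
    { τ₁ := α
      τ₂ := β
      τ₃ := γ
      comm₁₂ := by
        rw [← M'.toCycles_i, reassoc_of% hα', ← hβ, M.toCycles_i_assoc]
      comm₂₃ := hγ'.symm }
  refine ⟨Φ, ?_⟩
  have hc : ShortComplex.cyclesMap Φ = ψ := by
    rw [← cancel_mono M'.iCycles, ShortComplex.cyclesMap_i]
    exact hβ
  rw [← cancel_epi M.homologyπ, ShortComplex.homologyπ_naturality, hc, hψ]

include hBA hCB hCA₁ in
lemma eq_zero_of_homologyMap_eq_zero (Φ : M ⟶ M') (h : ShortComplex.homologyMap Φ = 0) :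
    Φ = 0 := by
  have hS₂' := S₂_shortExact M'
  have hS₁ := S₁_shortExact M
  have h1 : ShortComplex.cyclesMap Φ ≫ M'.homologyπ = 0 := by
    rw [← ShortComplex.homologyπ_naturality, h, comp_zero]
  have h2 : ShortComplex.cyclesMap Φ = 0 := by
    rw [← hS₂'.exact.lift_f (ShortComplex.cyclesMap Φ) h1,
      hom_cycles_eq_zero M M' hBA hCA₁ (hS₂'.exact.lift (ShortComplex.cyclesMap Φ) h1)]
    exact zero_comp
  have h3 : M.iCycles ≫ Φ.τ₂ = 0 := by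
    rw [← ShortComplex.cyclesMap_i, h2, zero_comp]
  have h4 : Φ.τ₂ = 0 := by
    rw [← hS₁.exact.g_desc Φ.τ₂ h3, hCB (hS₁.exact.desc Φ.τ₂ h3)]
    exact comp_zero
  have h5 : Φ.τ₁ = 0 := by
    rw [← cancel_mono M'.f, Φ.comm₁₂, h4, comp_zero, zero_comp]
  have h6 : Φ.τ₃ = 0 := by
    rw [← cancel_epi M.g, ← Φ.comm₂₃, h4, zero_comp, comp_zero]
  ext <;> simp [h4, h5, h6]

include hBA hCB hCA₁ hBA₁ hCB₁ hCA₂ in
theorem bijective : Function.Bijective (fun φ : M ⟶ M' => ShortComplex.homologyMap φ) := by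
  constructor
  · intro Φ₁ Φ₂ h
    dsimp at h
    have := eq_zero_of_homologyMap_eq_zero M M' hBA hCB hCA₁ (Φ₁ - Φ₂)
      (by rw [ShortComplex.homologyMap_sub, h, sub_self])
    exact sub_eq_zero.1 this
  · intro φ
    exact surjective M M' hBA₁ hCB₁ hCA₂ φ

end Groth.Agent.Lib.Helper17.Monad
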