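-- helper17: consequences of `HasContractibleNerve`.
import Groth.Prelude.Def_W4c2modmodulilectNerve
import Mathlib.CategoryTheory.Groupoid.Discrete
import Mathlib.CategoryTheory.Category.ULift
import Mathlib.CategoryTheory.Discrete.Basic

set_option autoImplicit false
open CategoryTheory CategoryTheory.Functor

universe w vH uH vJ uJ

namespace Groth.Agent.Lib.Helper17.Nerve

section

variable {J : Type uJ} [Category.{vJ} J]

/-- induction along morphisms in a category with contractible nerve -/
theorem conn_induction (hJ : W4c2modmodulilect.HasContractibleNerve.{w, w} J) (P : J → Prop)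
    (hP : ∀ ⦃j j' : J⦄ (_ : j ⟶ j'), P j ↔ P j') {j₀ : J} (h₀ : P j₀) (j : J) : P j := by
  let Fn : J ⥤ Discrete (ULift.{w} Prop) :=
    { obj := fun j => ⟨⟨P j⟩⟩
      map := fun {j j'} f => eqToHom (by rw [propext (hP f)]) }
  have := hJ.2 (Discrete (ULift.{w} Prop))
  obtain ⟨g, ⟨e⟩⟩ : ∃ g : Discrete (ULift.{w} Prop),
      Nonempty ((Functor.const J).obj g ≅ Fn) :=
    ⟨_, ⟨(Functor.const J).objObjPreimageIso Fn⟩⟩
  have key : ∀ j, P j = g.as.down := fun j => by
    have h := Discrete.eq_of_hom (e.hom.app j)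
    have h' : g.as = ⟨P j⟩ := h
    rw [h']
  rw [key j, ← key j₀]
  exact h₀

instance isGroupoid_asSmall {H : Type uH} [Category.{vH} H] [IsGroupoid H] :
    IsGroupoid (AsSmall.{w} H) := by
  have : (AsSmall.down : AsSmall.{w} H ⥤ H).IsEquivalence :=
    (AsSmall.equiv (C := H)).symm.isEquivalence_functor
  exact isGroupoid_of_reflects_iso (AsSmall.down : AsSmall.{w} H ⥤ H)

/-- a functor from a category with contractible nerve to a groupoid is isomorphic to a constant
functor -/
theorem exists_const_iso {H : Type uH} [Category.{vH} H] [IsGroupoid H]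
    (hJ : W4c2modmodulilect.HasContractibleNerve.{max w vH uH, max w vH uH} J) (T : J ⥤ H) :
    ∃ h : H, Nonempty ((Functor.const J).obj h ≅ T) := by
  let _ : Groupoid (AsSmall.{w} H) := Groupoid.ofIsGroupoid
  have := hJ.2 (AsSmall.{w} H)
  let e := (Functor.const J).objObjPreimageIso (T ⋙ (AsSmall.up : H ⥤ AsSmall.{w} H))
  exact ⟨AsSmall.down.obj ((Functor.const J).objPreimage (T ⋙ AsSmall.up)),
    ⟨(Functor.constComp J _ AsSmall.down).symm ≪≫ isoWhiskerRight e AsSmall.down ≪≫
      Functor.associator _ _ _ ≪≫ isoWhiskerLeft T (AsSmall.equiv (C := H)).unitIso.symm ≪≫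
        T.rightUnitor⟩⟩

end

end Groth.Agent.Lib.Helper17.Nerve
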