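-- helper17: `HasContractibleNerve` transfers along a left adjoint; fibres of a fibred category
-- versus structured arrow categories.
import Groth.Agent.Lib.Helper17Nerve
import Mathlib.CategoryTheory.Adjunction.Whiskering
import Mathlib.CategoryTheory.Adjunction.Comma
import Mathlib.CategoryTheory.FiberedCategory.Fibered
import Mathlib.CategoryTheory.FiberedCategory.Fiber

set_option autoImplicit false
set_option backward.isDefEq.respectTransparency false
set_option backward.isDefEq.respectTransparency.types false
open CategoryTheory CategoryTheory.Functor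

universe w₁ w₂ v₀ u₀ vJ uJ v₁ v₂ u₁ u₂

namespace Groth.Agent.Lib.Helper17.Nerve

section Adj

variable {J₀ : Type u₀} [Category.{v₀} J₀] {J : Type uJ} [Category.{vJ} J]

theorem hasContractibleNerve_of_adjunction {L : J₀ ⥤ J} {R : J ⥤ J₀} (adj : L ⊣ R)
    (h : W4c2modmodulilect.HasContractibleNerve.{w₁, w₂} J₀) :
    W4c2modmodulilect.HasContractibleNerve.{w₁, w₂} J := by
  obtain ⟨⟨j₀⟩, h2⟩ := h
  refine ⟨⟨L.obj j₀⟩, ?_⟩
  intro G _
  have := h2 G
  let adj' := adj.whiskerLeft G
  have h1 : ∀ X, IsIso (adj'.unit.app X) := fun X => by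
    have : ∀ j, IsIso ((adj'.unit.app X).app j) := fun j => IsIso.of_groupoid _
    exact NatIso.isIso_of_isIso_app _
  have h1' : ∀ X, IsIso (adj'.counit.app X) := fun X => by
    have : ∀ j, IsIso ((adj'.counit.app X).app j) := fun j => IsIso.of_groupoid _
    exact NatIso.isIso_of_isIso_app _
  have hW : ((whiskeringLeft J₀ J G).obj L).IsEquivalence :=
    adj'.toEquivalence.isEquivalence_inverse
  have : (Functor.const J ⋙ (whiskeringLeft J₀ J G).obj L).IsEquivalence :=
    Functor.isEquivalence_of_iso (Functor.constCompWhiskeringLeftIso J₀ L).symm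
  exact Functor.isEquivalence_of_comp_right (Functor.const J) ((whiskeringLeft J₀ J G).obj L)

end Adj

section Fib

variable {C : Type u₁} [Category.{v₁} C] {D : Type u₂} [Category.{v₂} D] (f : C ⥤ D) (Y : D)

/-- inclusion of the fibre into the structured arrow category -/
def fiberToSA : f.Fiber Y ⥤ StructuredArrow Y f where
  obj Z := StructuredArrow.mk (Y := Z.1) (eqToHom Z.2.symm)
  map {Z Z'} m := StructuredArrow.homMk m.1 (by
    have := m.2
    have h := IsHomLift.fac' f (𝟙 Y) m.1
    simp [h])
  map_id Z := rfl
  map_comp m m' := rfl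

theorem isHomLift_of_hom {Z : f.Fiber Y} {A : StructuredArrow Y f}
    (u : (fiberToSA f Y).obj Z ⟶ A) : f.IsHomLift A.hom u.right := by
  have h := StructuredArrow.w u
  apply IsHomLift.of_fac f A.hom u.right Z.2 rfl
  rw [← h]
  simp [fiberToSA]

theorem fiberToSA_isLeftAdjoint [f.IsFibered] : (fiberToSA f Y).IsLeftAdjoint := by
  have : ∀ A, Limits.HasTerminal (CostructuredArrow (fiberToSA f Y) A) := by
    intro A
    obtain ⟨a, κ, hκ⟩ := IsPreFibered.exists_isCartesian' (p := f) A.hom
    have ha : f.obj a = Y := IsHomLift.domain_eq f A.hom κ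
    let T : CostructuredArrow (fiberToSA f Y) A :=
      CostructuredArrow.mk (Y := (Fiber.mk ha : f.Fiber Y))
        (StructuredArrow.homMk κ (by
          have h := IsHomLift.fac' f A.hom κ
          simp [fiberToSA, h]))
    have hl : ∀ B : CostructuredArrow (fiberToSA f Y) A, f.IsHomLift A.hom B.hom.right :=
      fun B => isHomLift_of_hom f Y B.hom
    refine Limits.IsTerminal.hasTerminal (X := T) (Limits.IsTerminal.ofUniqueHom
      (fun B => ?_) ?_)
    · have := hl B
      refine CostructuredArrow.homMk
        ⟨IsCartesian.map f A.hom κ B.hom.right, inferInstance⟩ ?_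
      apply StructuredArrow.hom_ext
      exact IsCartesian.fac f A.hom κ B.hom.right
    · intro B m
      have := hl B
      apply CostructuredArrow.hom_ext
      apply Fiber.hom_ext
      have hm : f.IsHomLift (𝟙 Y) m.left.1 := m.left.2
      have e : m.left.1 ≫ κ = B.hom.right := by
        have := congrArg (fun t => t.right) (CostructuredArrow.w m)
        exact this
      exact IsCartesian.map_uniq f A.hom κ B.hom.right m.left.1 e
  exact isLeftAdjoint_of_costructuredArrowTerminals _

theorem hasContractibleNerve_structuredArrow [f.IsFibered]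
    (h : W4c2modmodulilect.HasContractibleNerve.{w₁, w₂} (f.Fiber Y)) :
    W4c2modmodulilect.HasContractibleNerve.{w₁, w₂} (StructuredArrow Y f) := by
  have := fiberToSA_isLeftAdjoint f Y
  exact hasContractibleNerve_of_adjunction (Adjunction.ofIsLeftAdjoint (fiberToSA f Y)) h

end Fib

end Groth.Agent.Lib.Helper17.Nerve
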