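import Groth.Prelude.Def_PCoh
import Mathlib

/-! Pseudo-coherence over an abelian category: finite type and precoherent objects (helper17). -/
set_option autoImplicit false
universe w v u
open CategoryTheory CategoryTheory.Limits

namespace Groth.Agent.Lib.Helper17.PCoh1

variable {C : Type u} [Category.{v} C] [Abelian C] (P : ObjectProperty C)

theorem isOfFiniteType_of_epi {F G : C} (p : F ⟶ G) [Epi p] (hF : PCoh.IsOfFiniteType P F) :
    PCoh.IsOfFiniteType P G := by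
  obtain ⟨E, π, hE, hπ⟩ := hF
  exact ⟨E, π ≫ p, hE, epi_comp π p⟩

/-- kernel of `0 → F → G → H` with `G` of finite type and `H` precoherent. -/
theorem isOfFiniteType_kernel_of_precoherent
    (S : ShortComplex C) (hS : S.Exact) (hf : Mono S.f)
    (hG : PCoh.IsOfFiniteType P S.X₂)
    (hH : ∀ (E : C) (u : E ⟶ S.X₃), P E → PCoh.IsOfFiniteType P (kernel u)) :
    PCoh.IsOfFiniteType P S.X₁ := by
  obtain ⟨E, π, hE, hπ⟩ := hG
  have hK := hH E (π ≫ S.g) hE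
  have h0 : (kernel.ι (π ≫ S.g) ≫ π) ≫ S.g = 0 := by
    rw [Category.assoc]; exact kernel.condition _
  obtain ⟨l, hl⟩ : ∃ l : kernel (π ≫ S.g) ⟶ S.X₁, l ≫ S.f = kernel.ι (π ≫ S.g) ≫ π :=
    ⟨hS.lift _ h0, hS.lift_f _ h0⟩
  have hle : Epi l := by
    rw [epi_iff_surjective_up_to_refinements]
    intro T x
    obtain ⟨T', p, hp, e, he⟩ := surjective_up_to_refinements_of_epi π (x ≫ S.f)
    have h1 : e ≫ π ≫ S.g = 0 := by
      rw [← Category.assoc, ← he, Category.assoc, Category.assoc, S.zero, comp_zero, comp_zero]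
    refine ⟨T', p, hp, kernel.lift _ e h1, ?_⟩
    rw [← cancel_mono S.f, Category.assoc, Category.assoc, hl, kernel.lift_ι_assoc, he]
  exact isOfFiniteType_of_epi P l hK

/-- extension of precoherent objects is precoherent. -/
theorem precoherent_of_shortExact (S : ShortComplex C) (hS : S.ShortExact)
    (h₁ : ∀ (E : C) (u : E ⟶ S.X₁), P E → PCoh.IsOfFiniteType P (kernel u))
    (h₃ : ∀ (E : C) (u : E ⟶ S.X₃), P E → PCoh.IsOfFiniteType P (kernel u))
    (E : C) (u : E ⟶ S.X₂) (hE : P E) : PCoh.IsOfFiniteType P (kernel u) := by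
  have : Mono S.f := hS.mono_f
  obtain ⟨E₁, π₁, hE₁, hπ₁⟩ := h₃ E (u ≫ S.g) hE
  have h0 : (kernel.ι (u ≫ S.g) ≫ u) ≫ S.g = 0 := by
    rw [Category.assoc]; exact kernel.condition _
  obtain ⟨l, hl⟩ : ∃ l : kernel (u ≫ S.g) ⟶ S.X₁, l ≫ S.f = kernel.ι (u ≫ S.g) ≫ u :=
    ⟨hS.exact.lift _ h0, hS.exact.lift_f _ h0⟩
  have hK := h₁ E₁ (π₁ ≫ l) hE₁
  have h1 : (kernel.ι (π₁ ≫ l) ≫ π₁ ≫ kernel.ι (u ≫ S.g)) ≫ u = 0 := by
    rw [Category.assoc, Category.assoc, ← hl, ← Category.assoc π₁, ← Category.assoc,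
      kernel.condition, zero_comp]
  have hme : Epi (kernel.lift u _ h1) := by
    rw [epi_iff_surjective_up_to_refinements]
    intro T x
    have hx0 : (x ≫ kernel.ι u) ≫ u ≫ S.g = 0 := by
      rw [Category.assoc, kernel.condition_assoc, zero_comp, comp_zero]
    obtain ⟨T', p, hp, e₁, he₁⟩ :=
      surjective_up_to_refinements_of_epi π₁ (kernel.lift (u ≫ S.g) (x ≫ kernel.ι u) hx0)
    have he₁' : e₁ ≫ π₁ ≫ kernel.ι (u ≫ S.g) = p ≫ x ≫ kernel.ι u := by
      rw [← Category.assoc, ← he₁, Category.assoc, kernel.lift_ι]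
    have h2 : e₁ ≫ π₁ ≫ l = 0 := by
      rw [← cancel_mono S.f, Category.assoc, Category.assoc, hl, zero_comp]
      calc e₁ ≫ π₁ ≫ kernel.ι (u ≫ S.g) ≫ u
          = (e₁ ≫ π₁ ≫ kernel.ι (u ≫ S.g)) ≫ u := by simp only [Category.assoc]
        _ = (p ≫ x ≫ kernel.ι u) ≫ u := by rw [he₁']
        _ = 0 := by
            rw [Category.assoc, Category.assoc, kernel.condition, comp_zero, comp_zero]
    refine ⟨T', p, hp, kernel.lift _ e₁ h2, ?_⟩
    rw [← cancel_mono (kernel.ι u), Category.assoc, Category.assoc, kernel.lift_ι,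
      kernel.lift_ι_assoc, he₁']
  haveI := hme
  exact isOfFiniteType_of_epi P (kernel.lift u _ h1) hK

/-- extension of finite type objects is of finite type (under quasi-liftability). -/
theorem isOfFiniteType_of_shortExact (hsum : ∀ X Y : C, P X → P Y → P (X ⨯ Y))
    (hql : PCoh.IsQuasiLiftable P) (S : ShortComplex C) (hS : S.ShortExact)
    (h₁ : PCoh.IsOfFiniteType P S.X₁) (h₃ : PCoh.IsOfFiniteType P S.X₃) :
    PCoh.IsOfFiniteType P S.X₂ := by
  have : Mono S.f := hS.mono_f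
  have : Epi S.g := hS.epi_g
  obtain ⟨E₁, π₁, hE₁, hπ₁⟩ := h₁
  obtain ⟨E₃, π₃, hE₃, hπ₃⟩ := h₃
  have hpe : Epi (pullback.snd S.g π₃) := inferInstance
  obtain ⟨F', v, hF', hv⟩ := hql _ _ (pullback.snd S.g π₃) hpe hE₃
  refine ⟨E₁ ⨯ F', (biprod.isoProd E₁ F').inv ≫
    biprod.desc (π₁ ≫ S.f) (v ≫ pullback.fst S.g π₃), hsum _ _ hE₁ hF', ?_⟩
  suffices h : Epi (biprod.desc (π₁ ≫ S.f) (v ≫ pullback.fst S.g π₃)) from epi_comp _ _
  rw [epi_iff_surjective_up_to_refinements]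
  intro T g
  obtain ⟨T₁, p₁, hp₁, e₃, he₃⟩ := surjective_up_to_refinements_of_epi π₃ (g ≫ S.g)
  obtain ⟨T₂, p₂, hp₂, f', hf'⟩ :=
    surjective_up_to_refinements_of_epi (v ≫ pullback.snd S.g π₃) e₃
  have h0 : (p₂ ≫ p₁ ≫ g - f' ≫ v ≫ pullback.fst S.g π₃) ≫ S.g = 0 := by
    rw [Preadditive.sub_comp, Category.assoc, Category.assoc, Category.assoc, Category.assoc,
      pullback.condition, he₃, ← Category.assoc v, ← Category.assoc f', ← hf', Category.assoc,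
      sub_self]
  obtain ⟨x, hx⟩ : ∃ x : T₂ ⟶ S.X₁, x ≫ S.f = p₂ ≫ p₁ ≫ g - f' ≫ v ≫ pullback.fst S.g π₃ :=
    ⟨hS.exact.lift _ h0, hS.exact.lift_f _ h0⟩
  obtain ⟨T₃, p₃, hp₃, e₁, he₁⟩ := surjective_up_to_refinements_of_epi π₁ x
  refine ⟨T₃, p₃ ≫ p₂ ≫ p₁, inferInstance, biprod.lift e₁ (p₃ ≫ f'), ?_⟩
  rw [biprod.lift_desc, ← Category.assoc e₁, ← he₁, Category.assoc p₃ x, hx]
  simp only [Category.assoc, Preadditive.comp_sub]
  abel

end Groth.Agent.Lib.Helper17.PCoh1
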