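import Groth.Prelude.Def_PCoh
import Groth.Agent.Lib.Helper17PCoh1
import Mathlib

/-! Pseudo-coherence: H^n of a strictly n-pseudo-coherent complex acyclic above n (helper17). -/
set_option autoImplicit false
set_option backward.isDefEq.respectTransparency false
universe w v u
open CategoryTheory CategoryTheory.Limits

namespace Groth.Agent.Lib.Helper17.PCoh2

variable {C : Type u} [Category.{v} C] [Abelian C]

/-- objects of the augmented complex `0 → Zⁿ → Eⁿ → Eⁿ⁺¹ → ⋯`. -/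
noncomputable def KX (E : CochainComplex C ℤ) (n : ℤ) : ℕ → C
  | 0 => E.cycles (n + ((0 : ℕ) : ℤ))
  | (i + 1) => E.X (n + (i : ℤ))

noncomputable def Kd (E : CochainComplex C ℤ) (n : ℤ) : ∀ i : ℕ, KX E n i ⟶ KX E n (i + 1)
  | 0 => E.iCycles (n + ((0 : ℕ) : ℤ))
  | (i + 1) => E.d (n + (i : ℤ)) (n + ((i + 1 : ℕ) : ℤ))

theorem Kd_comp (E : CochainComplex C ℤ) (n : ℤ) : ∀ i : ℕ, Kd E n i ≫ Kd E n (i + 1) = 0
  | 0 => by
      change E.iCycles (n + ((0 : ℕ) : ℤ)) ≫ E.d (n + ((0 : ℕ) : ℤ)) (n + ((0 + 1 : ℕ) : ℤ)) = 0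
      exact E.iCycles_d _ _
  | (i + 1) => by
      change E.d (n + (i : ℤ)) (n + ((i + 1 : ℕ) : ℤ)) ≫
        E.d (n + ((i + 1 : ℕ) : ℤ)) (n + ((i + 1 + 1 : ℕ) : ℤ)) = 0
      exact E.d_comp_d _ _ _

noncomputable def K (E : CochainComplex C ℤ) (n : ℤ) : CochainComplex C ℕ :=
  CochainComplex.of (KX E n) (Kd E n) (Kd_comp E n)

theorem exact_mk_congr {X Y Z : C} {f f' : X ⟶ Y} {g g' : Y ⟶ Z} (hf : f = f') (hg : g = g')
    (w : f ≫ g = 0) (w' : f' ≫ g' = 0) (h : (ShortComplex.mk f' g' w').Exact) :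
    (ShortComplex.mk f g w).Exact := by
  subst hf hg; exact h

theorem K_exactAt (E : CochainComplex C ℤ) (n : ℤ)
    (hac : ∀ i : ℤ, n < i → IsZero (E.homology i)) : ∀ i : ℕ, (K E n).ExactAt i
  | 0 => by
      rw [(K E n).exactAt_iff' 0 0 1 (by simp) (by simp)]
      rw [ShortComplex.exact_iff_mono _ (by simp)]
      change Mono ((K E n).d 0 1)
      have : (K E n).d 0 1 = Kd E n 0 := CochainComplex.of_d (KX E n) (Kd E n) 0
      rw [this]
      change Mono (E.iCycles (n + ((0 : ℕ) : ℤ)))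
      infer_instance
  | 1 => by
      rw [(K E n).exactAt_iff' 0 1 2 (by simp) (by simp)]
      have h1 : (K E n).d 0 1 = Kd E n 0 := CochainComplex.of_d (KX E n) (Kd E n) 0
      have h2 : (K E n).d 1 2 = Kd E n 1 := CochainComplex.of_d (KX E n) (Kd E n) 1
      have hrel : (ComplexShape.up ℤ).next (n + ((0 : ℕ) : ℤ)) = (n + ((0 + 1 : ℕ) : ℤ)) := by
        simp
      have hz : (ShortComplex.mk (E.iCycles (n + ((0 : ℕ) : ℤ)))
          (E.d (n + ((0 : ℕ) : ℤ)) (n + ((0 + 1 : ℕ) : ℤ))) (E.iCycles_d _ _)).Exact :=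
        ShortComplex.exact_of_f_is_kernel _
          (E.cyclesIsKernel (n + ((0 : ℕ) : ℤ)) (n + ((0 + 1 : ℕ) : ℤ)) hrel)
      exact exact_mk_congr h1 h2 _ _ hz
  | (i + 2) => by
      rw [(K E n).exactAt_iff' (i + 1) (i + 2) (i + 3) (by simp) (by simp)]
      have h1 : (K E n).d (i + 1) (i + 2) = Kd E n (i + 1) := CochainComplex.of_d (KX E n) (Kd E n) (i + 1)
      have h2 : (K E n).d (i + 2) (i + 3) = Kd E n (i + 2) := CochainComplex.of_d (KX E n) (Kd E n) (i + 2)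
      have hz : IsZero (E.homology (n + ((i + 1 : ℕ) : ℤ))) := hac _ (by push_cast; omega)
      rw [← HomologicalComplex.exactAt_iff_isZero_homology,
        E.exactAt_iff' (n + (i : ℤ)) (n + ((i + 1 : ℕ) : ℤ)) (n + ((i + 1 + 1 : ℕ) : ℤ))
          (by simp; omega) (by simp; omega)] at hz
      exact exact_mk_congr h1 h2 _ _ hz

theorem isOfFiniteType_homology_of_strictPC
    (P : ObjectProperty C) (hqs : PCoh.IsQuasiStableUnderKernels P)
    (n : ℤ) (E : CochainComplex C ℤ) (hE : PCoh.IsStrictPC P n E)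
    (hac : ∀ i : ℤ, n < i → IsZero (E.homology i)) :
    PCoh.IsOfFiniteType P (E.homology n) := by
  obtain ⟨⟨b, hb⟩, hP⟩ := hE
  have h := hqs (K E n) (K_exactAt E n hac) ⟨(b - n).toNat + 1, ?_⟩ ?_
  · change PCoh.IsOfFiniteType P (E.cycles (n + ((0 : ℕ) : ℤ))) at h
    have h' := PCoh1.isOfFiniteType_of_epi P (E.homologyπ (n + ((0 : ℕ) : ℤ))) h
    have h0 : n + ((0 : ℕ) : ℤ) = n := by simp
    rw [h0] at h'
    exact h'
  · intro i hi
    obtain ⟨j, rfl⟩ : ∃ j, i = j + 1 := ⟨i - 1, by omega⟩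
    change IsZero (E.X (n + (j : ℤ)))
    apply hb
    have := Int.self_le_toNat (b - n)
    omega
  · intro i hi
    obtain ⟨j, rfl⟩ : ∃ j, i = j + 1 := ⟨i - 1, by omega⟩
    change P (E.X (n + (j : ℤ)))
    exact hP _ (by omega)

end Groth.Agent.Lib.Helper17.PCoh2
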