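import Groth.Agent.Lib.Helper17PCoh9
import Groth.Agent.Lib.Helper17PCoh2

/-! Pseudo-coherence, part 10: a complex quasi-isomorphic to a strictly `n`-pseudo-coherent
complex receives a quasi-isomorphism from a strictly `n`-pseudo-coherent complex (helper17). -/
set_option autoImplicit false
set_option backward.isDefEq.respectTransparency false
set_option backward.isDefEq.respectTransparency.types false
universe v u
open CategoryTheory CategoryTheory.Limits CochainComplex ZeroObject

namespace Groth.Agent.Lib.Helper17.PCoh10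

open Groth.Agent.Lib.Helper17.PCoh4 Groth.Agent.Lib.Helper17.PCoh5 Groth.Agent.Lib.Helper17.PCoh6
  Groth.Agent.Lib.Helper17.PCoh7 Groth.Agent.Lib.Helper17.PCoh8 Groth.Agent.Lib.Helper17.PCoh9

variable {C : Type u} [Category.{v} C] [Abelian C]

/-- an `n`-quasi-isomorphism: bijective on `H^i` for `i > n` and epimorphic on `H^n`. -/
def IsNQuasiIso (n : ℤ) {E F : CochainComplex C ℤ} (u : E ⟶ F) : Prop :=
  (∀ i : ℤ, n < i → IsIso (HomologicalComplex.homologyMap u i)) ∧
    Epi (HomologicalComplex.homologyMap u n)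

theorem isZero_homology_mappingCone {E F : CochainComplex C ℤ} (u : E ⟶ F) (n : ℤ)
    (hu : IsNQuasiIso n u) (i : ℤ) (hi : n ≤ i) : IsZero ((mappingCone u).homology i) :=
  IsZero.of_iso (exactAt_cokernel u n hu.1 hu.2 i hi).isZero_homology (homologyIso u i)

theorem isZero_homology_of_isZero_X (K : CochainComplex C ℤ) (i : ℤ) (h : IsZero (K.X i)) :
    IsZero (K.homology i) := by
  have : K.ExactAt i := ShortComplex.exact_of_isZero_X₂ _ h
  exact this.isZero_homology

theorem isNQuasiIso_of_quasiIso (n : ℤ) {E F : CochainComplex C ℤ} (u : E ⟶ F) [QuasiIso u] :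
    IsNQuasiIso n u :=
  ⟨fun _ _ => inferInstance, inferInstance⟩

theorem isNQuasiIso_comp_quasiIso (n : ℤ) {E F G : CochainComplex C ℤ} (w : E ⟶ F) (u : F ⟶ G)
    [QuasiIso u] (hw : IsNQuasiIso n w) : IsNQuasiIso n (w ≫ u) := by
  refine ⟨fun i hi => ?_, ?_⟩
  · rw [HomologicalComplex.homologyMap_comp]
    have := hw.1 i hi
    infer_instance
  · rw [HomologicalComplex.homologyMap_comp]
    have := hw.2
    infer_instance

section Cone
variable (P : ObjectProperty C) [P.IsClosedUnderIsomorphisms]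

theorem mappingCone_X_prop
    (hsum : ∀ X Y : C, P X → P Y → P (X ⨯ Y)) {K L : CochainComplex C ℤ} (f : K ⟶ L) (i : ℤ)
    (hK : P (K.X (i + 1))) (hL : P (L.X i)) : P ((CochainComplex.mappingCone f).X i) := by
  have e : (CochainComplex.mappingCone f).X i ≅ K.X (i + 1) ⊞ L.X i :=
    HomologicalComplex.homotopyCofiber.XIsoBiprod f i (i + 1) rfl
  exact P.prop_of_iso (e ≪≫ biprod.isoProd _ _).symm (hsum _ _ hK hL)

theorem mappingCone_X_isZero {K L : CochainComplex C ℤ} (f : K ⟶ L) (i : ℤ)
    (hK : IsZero (K.X (i + 1))) (hL : IsZero (L.X i)) :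
    IsZero ((CochainComplex.mappingCone f).X i) :=
  HomologicalComplex.homotopyCofiber.isZero_X f i hL (fun j hj => by
    have : i + 1 = j := hj
    subst this
    exact hK)

end Cone

section Main
variable (P : ObjectProperty C) [P.IsClosedUnderIsomorphisms] [P.ContainsZero]
  (hsum : ∀ X Y : C, P X → P Y → P (X ⨯ Y))
  (hqs : PCoh.IsQuasiStableUnderKernels P) (hql : PCoh.IsQuasiLiftable P)

/-- the invariant of the descending induction. -/
structure Good (b : ℤ) (E : CochainComplex C ℤ) (k : ℤ) (G : CochainComplex C ℤ) (w : G ⟶ E) :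
    Prop where
  zero : ∀ i : ℤ, i < k ∨ b < i → IsZero (G.X i)
  prop : ∀ i : ℤ, P (G.X i)
  nqi : IsNQuasiIso k w

include hsum hqs hql in
theorem good_step (n b : ℤ) (E F : CochainComplex C ℤ) (hF : ∀ i : ℤ, n ≤ i → P (F.X i))
    (hFb : ∀ i : ℤ, b < i → IsZero (F.X i)) (u : E ⟶ F) [QuasiIso u]
    (k : ℤ) (hk : n ≤ k) (hkb : k ≤ b) (G : CochainComplex C ℤ) (w : G ⟶ E)
    (hG : Good P b E (k + 1) G w) :
    ∃ (G' : CochainComplex C ℤ) (w' : G' ⟶ E), Good P b E k G' w' := by
  -- finite type of the homology of the cone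
  have hcone : PCoh.IsOfFiniteType P ((mappingCone w).homology k) := by
    have hq : QuasiIso (mappingCone.map w (w ≫ u) (𝟙 G) u (by rw [Category.id_comp])) :=
      quasiIso_map _ _ _ _ _
    have hD : PCoh.IsStrictPC P k (mappingCone (w ≫ u)) := by
      refine ⟨⟨b, fun i hi => mappingCone_X_isZero _ i (hG.zero _ (Or.inr (by omega)))
        (hFb i hi)⟩, fun i hi => mappingCone_X_prop P hsum _ i (hG.prop _) (hF i (by omega))⟩
    have hac : ∀ i : ℤ, k < i → IsZero ((mappingCone (w ≫ u)).homology i) := fun i hi =>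
      isZero_homology_mappingCone (w ≫ u) (k + 1) (isNQuasiIso_comp_quasiIso (k + 1) w u hG.nqi)
        i (by omega)
    have hft := Groth.Agent.Lib.Helper17.PCoh2.isOfFiniteType_homology_of_strictPC P hqs k
      (mappingCone (w ≫ u)) hD hac
    exact Groth.Agent.Lib.Helper17.PCoh1.isOfFiniteType_of_epi P
      (inv (HomologicalComplex.homologyMap (mappingCone.map w (w ≫ u) (𝟙 G) u
        (by rw [Category.id_comp])) k)) hft
  obtain ⟨G', v, w', hvw, hmono, hiso, hcok, hnqi1, hnqi2⟩ :=
    exists_modification P hql k G E w hG.nqi.1 hG.nqi.2 hcone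
  refine ⟨G', w', ⟨?_, ?_, ⟨hnqi1, hnqi2⟩⟩⟩
  · intro i hi
    have hik : i ≠ k := by omega
    have := hiso i hik
    exact IsZero.of_iso (hG.zero i (by omega)) (asIso (v.f i)).symm
  · intro i
    by_cases hik : i = k
    · subst hik
      have hz : IsZero (G.X i) := hG.zero i (Or.inl (by omega))
      have h0 : v.f i = 0 := hz.eq_of_src _ _
      exact P.prop_of_iso (cokernelIsoOfEq h0 ≪≫ cokernelZeroIsoTarget) hcok
    · have := hiso i hik
      exact P.prop_of_iso (asIso (v.f i)) (hG.prop i)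

include hsum hqs hql in
theorem good_exists (n b : ℤ) (hnb : n ≤ b) (E F : CochainComplex C ℤ)
    (hF : ∀ i : ℤ, n ≤ i → P (F.X i))
    (hFb : ∀ i : ℤ, b < i → IsZero (F.X i)) (u : E ⟶ F) [QuasiIso u] (m : ℕ) (hm : n ≤ b + 1 - m) :
    ∃ (G : CochainComplex C ℤ) (w : G ⟶ E), Good P b E (b + 1 - m) G w := by
  induction m with
  | zero =>
    refine ⟨0, 0, ⟨fun i _ => ?_, fun i => ?_, ⟨fun i hi => ?_, ?_⟩⟩⟩
    · exact (HomologicalComplex.eval C (ComplexShape.up ℤ) i).map_isZero (isZero_zero _)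
    · exact P.prop_of_isZero
        ((HomologicalComplex.eval C (ComplexShape.up ℤ) i).map_isZero (isZero_zero _))
    · have hzE : IsZero (E.homology i) := by
        have hzF : IsZero (F.homology i) :=
          isZero_homology_of_isZero_X F i (hFb i (by simp at hi; omega))
        exact IsZero.of_iso hzF (asIso (HomologicalComplex.homologyMap u i))
      have hz0 : IsZero ((0 : CochainComplex C ℤ).homology i) :=
        (HomologicalComplex.homologyFunctor C (ComplexShape.up ℤ) i).map_isZero (isZero_zero _)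
      exact ⟨0, hz0.eq_of_src _ _, hzE.eq_of_src _ _⟩
    · have hzE : IsZero (E.homology (b + 1 - (0 : ℕ))) := by
        have hzF : IsZero (F.homology (b + 1 - (0 : ℕ))) :=
          isZero_homology_of_isZero_X F _ (hFb _ (by simp))
        exact IsZero.of_iso hzF (asIso (HomologicalComplex.homologyMap u _))
      exact epi_of_isZero_tgt _ hzE
  | succ m ih =>
    obtain ⟨G, w, hG⟩ := ih (by push_cast at hm ⊢; omega)
    have e : b + 1 - (m : ℤ) = (b + 1 - ((m + 1 : ℕ) : ℤ)) + 1 := by push_cast; ring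
    rw [e] at hG
    exact good_step P hsum hqs hql n b E F hF hFb u _ hm (by push_cast; omega) G w hG

include hsum hqs hql in
theorem exists_strictPC_quasiIso (n : ℤ) (E F : CochainComplex C ℤ) (hF : PCoh.IsStrictPC P n F)
    (u : E ⟶ F) (hu : QuasiIso u) :
    ∃ (F' : CochainComplex C ℤ) (v : F' ⟶ E), PCoh.IsStrictPC P n F' ∧ QuasiIso v := by
  obtain ⟨⟨b₀, hb₀⟩, hFP⟩ := hF
  set b := max b₀ n with hb
  have hFb : ∀ i : ℤ, b < i → IsZero (F.X i) := fun i hi =>
    hb₀ i (lt_of_le_of_lt (le_max_left _ _) hi)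
  have hnb : n ≤ b := le_max_right _ _
  obtain ⟨G, w, hG⟩ := good_exists P hsum hqs hql n b hnb E F hFP hFb u (b + 1 - n).toNat
    (by rw [Int.toNat_of_nonneg (by omega)]; omega)
  have e : b + 1 - ((b + 1 - n).toNat : ℤ) = n := by
    rw [Int.toNat_of_nonneg (by omega)]; ring
  rw [e] at hG
  obtain ⟨F', v, u', hvu, hu', hmono, hiso⟩ := exists_factorisation n G E w hG.nqi.1 hG.nqi.2
  refine ⟨F', u', ⟨⟨b, fun i hi => ?_⟩, fun i hi => ?_⟩, hu'⟩
  · have := hiso i (by omega)
    exact IsZero.of_iso (hG.zero i (Or.inr hi)) (asIso (v.f i)).symm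
  · have := hiso i hi
    exact P.prop_of_iso (asIso (v.f i)) (hG.prop i)

end Main

end Groth.Agent.Lib.Helper17.PCoh10
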