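import Groth.Agent.Lib.Helper17PCoh10

/-! Pseudo-coherence, part 11: resolutions with a prescribed upper bound (helper17). -/
set_option autoImplicit false
set_option backward.isDefEq.respectTransparency false
set_option backward.isDefEq.respectTransparency.types false
universe v u
open CategoryTheory CategoryTheory.Limits CochainComplex ZeroObject

namespace Groth.Agent.Lib.Helper17.PCoh11

open Groth.Agent.Lib.Helper17.PCoh4 Groth.Agent.Lib.Helper17.PCoh5 Groth.Agent.Lib.Helper17.PCoh6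
  Groth.Agent.Lib.Helper17.PCoh7 Groth.Agent.Lib.Helper17.PCoh8 Groth.Agent.Lib.Helper17.PCoh9
  Groth.Agent.Lib.Helper17.PCoh10

variable {C : Type u} [Category.{v} C] [Abelian C]
variable (P : ObjectProperty C) [P.IsClosedUnderIsomorphisms] [P.ContainsZero]
  (hsum : ∀ X Y : C, P X → P Y → P (X ⨯ Y))
  (hqs : PCoh.IsQuasiStableUnderKernels P) (hql : PCoh.IsQuasiLiftable P)

include hsum hqs hql in
theorem good_step' (n b b' : ℤ) (E F : CochainComplex C ℤ) (hF : ∀ i : ℤ, n ≤ i → P (F.X i))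
    (hFb : ∀ i : ℤ, b' < i → IsZero (F.X i)) (u : E ⟶ F) [QuasiIso u]
    (k : ℤ) (hk : n ≤ k) (hkb : k ≤ b) (G : CochainComplex C ℤ) (w : G ⟶ E)
    (hG : Good P b E (k + 1) G w) :
    ∃ (G' : CochainComplex C ℤ) (w' : G' ⟶ E), Good P b E k G' w' := by
  have hcone : PCoh.IsOfFiniteType P ((mappingCone w).homology k) := by
    have hq : QuasiIso (mappingCone.map w (w ≫ u) (𝟙 G) u (by rw [Category.id_comp])) :=
      quasiIso_map _ _ _ _ _
    have hD : PCoh.IsStrictPC P k (mappingCone (w ≫ u)) := by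
      refine ⟨⟨max b b', fun i hi => mappingCone_X_isZero _ i (hG.zero _ (Or.inr ?_))
        (hFb i ?_)⟩, fun i hi => mappingCone_X_prop P hsum _ i (hG.prop _) (hF i (by omega))⟩
      · have := le_max_left b b'; omega
      · have := le_max_right b b'; omega
    have hac : ∀ i : ℤ, k < i → IsZero ((mappingCone (w ≫ u)).homology i) := fun i hi =>
      isZero_homology_mappingCone (w ≫ u) (k + 1) (isNQuasiIso_comp_quasiIso (k + 1) w u hG.nqi)
        i (by omega)
    have hft := Groth.Agent.Lib.Helper17.PCoh2.isOfFiniteType_homology_of_strictPC P hqs k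
      (mappingCone (w ≫ u)) hD hac
    exact Groth.Agent.Lib.Helper17.PCoh1.isOfFiniteType_of_epi P
      (inv (HomologicalComplex.homologyMap (mappingCone.map w (w ≫ u) (𝟙 G) u
        (by rw [Category.id_comp])) k)) hft
  obtain ⟨G', v, w', hvw, hmono, hiso, hcok, hnqi1, hnqi2⟩ :=
    exists_modification P hql k G E w hG.nqi.1 hG.nqi.2 hcone
  refine ⟨G', w', ⟨?_, ?_, ⟨hnqi1, hnqi2⟩⟩⟩
  · intro i hi
    have hik : i ≠ k := by omega
    have := hiso i hik
    exact IsZero.of_iso (hG.zero i (by omega)) (asIso (v.f i)).symm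
  · intro i
    by_cases hik : i = k
    · subst hik
      have hz : IsZero (G.X i) := hG.zero i (Or.inl (by omega))
      have h0 : v.f i = 0 := hz.eq_of_src _ _
      exact P.prop_of_iso (cokernelIsoOfEq h0 ≪≫ cokernelZeroIsoTarget) hcok
    · have := hiso i hik
      exact P.prop_of_iso (asIso (v.f i)) (hG.prop i)

include hsum hqs hql in
theorem good_exists' (n b b' : ℤ) (E F : CochainComplex C ℤ)
    (hF : ∀ i : ℤ, n ≤ i → P (F.X i)) (hFb : ∀ i : ℤ, b' < i → IsZero (F.X i))
    (u : E ⟶ F) [QuasiIso u] (hEac : ∀ i : ℤ, b < i → IsZero (E.homology i))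
    (m : ℕ) (hm : n ≤ b + 1 - m) :
    ∃ (G : CochainComplex C ℤ) (w : G ⟶ E), Good P b E (b + 1 - m) G w := by
  induction m with
  | zero =>
    refine ⟨0, 0, ⟨fun i _ => ?_, fun i => ?_, ⟨fun i hi => ?_, ?_⟩⟩⟩
    · exact (HomologicalComplex.eval C (ComplexShape.up ℤ) i).map_isZero (isZero_zero _)
    · exact P.prop_of_isZero
        ((HomologicalComplex.eval C (ComplexShape.up ℤ) i).map_isZero (isZero_zero _))
    · have hzE : IsZero (E.homology i) := hEac i (by simp at hi; omega)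
      have hz0 : IsZero ((0 : CochainComplex C ℤ).homology i) :=
        (HomologicalComplex.homologyFunctor C (ComplexShape.up ℤ) i).map_isZero (isZero_zero _)
      exact ⟨0, hz0.eq_of_src _ _, hzE.eq_of_src _ _⟩
    · exact epi_of_isZero_tgt _ (hEac _ (by simp))
  | succ m ih =>
    obtain ⟨G, w, hG⟩ := ih (by push_cast at hm ⊢; omega)
    have e : b + 1 - (m : ℤ) = (b + 1 - ((m + 1 : ℕ) : ℤ)) + 1 := by push_cast; ring
    rw [e] at hG
    exact good_step' P hsum hqs hql n b b' E F hF hFb u _ hm (by push_cast; omega) G w hG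

include hsum hqs hql in
/-- a strictly perfect complex in `[n, b]` with an `n`-quasi-isomorphism to `E`. -/
theorem exists_perfect_nQuasiIso (n b : ℤ) (hnb : n ≤ b + 1) (E F : CochainComplex C ℤ)
    (hF : PCoh.IsStrictPC P n F) (u : E ⟶ F) [QuasiIso u]
    (hEac : ∀ i : ℤ, b < i → IsZero (E.homology i)) :
    ∃ (G : CochainComplex C ℤ) (w : G ⟶ E), Good P b E n G w := by
  obtain ⟨⟨b', hFb⟩, hFP⟩ := hF
  obtain ⟨G, w, hG⟩ := good_exists' P hsum hqs hql n b b' E F hFP hFb u hEac (b + 1 - n).toNat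
    (by rw [Int.toNat_of_nonneg (by omega)]; omega)
  have e : b + 1 - ((b + 1 - n).toNat : ℤ) = n := by
    rw [Int.toNat_of_nonneg (by omega)]; ring
  rw [e] at hG
  exact ⟨G, w, hG⟩

include hsum hqs hql in
/-- a strictly `n`-pseudo-coherent resolution vanishing above `b`. -/
theorem exists_strictPC_quasiIso_bdd (n b : ℤ) (hnb : n ≤ b + 1) (E F : CochainComplex C ℤ)
    (hF : PCoh.IsStrictPC P n F) (u : E ⟶ F) [QuasiIso u]
    (hEac : ∀ i : ℤ, b < i → IsZero (E.homology i)) :
    ∃ (F' : CochainComplex C ℤ) (v : F' ⟶ E), PCoh.IsStrictPC P n F' ∧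
      (∀ i : ℤ, b < i → IsZero (F'.X i)) ∧ QuasiIso v := by
  obtain ⟨G, w, hG⟩ := exists_perfect_nQuasiIso P hsum hqs hql n b hnb E F hF u hEac
  obtain ⟨F', v, u', hvu, hu', hmono, hiso⟩ := exists_factorisation n G E w hG.nqi.1 hG.nqi.2
  have hz : ∀ i : ℤ, b < i → IsZero (F'.X i) := fun i hi => by
    have := hiso i (by omega)
    exact IsZero.of_iso (hG.zero i (Or.inr hi)) (asIso (v.f i)).symm
  refine ⟨F', u', ⟨⟨b, hz⟩, fun i hi => ?_⟩, hz, hu'⟩
  have := hiso i hi
  exact P.prop_of_iso (asIso (v.f i)) (hG.prop i)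

end Groth.Agent.Lib.Helper17.PCoh11
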