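import Groth.Agent.Lib.Helper17PCoh11
import Mathlib.Algebra.Homology.DerivedCategory.Fractions
import Mathlib.Algebra.Homology.DerivedCategory.HomologySequence

/-! Pseudo-coherence, part 12: `n`-pseudo-coherent objects of the derived category (helper17). -/
set_option autoImplicit false
set_option backward.isDefEq.respectTransparency false
set_option backward.isDefEq.respectTransparency.types false
universe w v u
open CategoryTheory CategoryTheory.Limits ZeroObject

namespace Groth.Agent.Lib.Helper17.PCoh12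

open Groth.Agent.Lib.Helper17.PCoh10 Groth.Agent.Lib.Helper17.PCoh11 DerivedCategory

variable {C : Type u} [Category.{v} C] [Abelian C] [HasDerivedCategory.{w} C]

/-- `F` is isomorphic to a strictly `n`-pseudo-coherent complex. -/
def IsNPC (P : ObjectProperty C) (n : ℤ) (F : DerivedCategory C) : Prop :=
  ∃ E : CochainComplex C ℤ, PCoh.IsStrictPC P n E ∧ Nonempty (DerivedCategory.Q.obj E ≅ F)

section Basic
variable (P : ObjectProperty C)

theorem isNPC_of_iso {n : ℤ} {F F' : DerivedCategory C} (e : F ≅ F') (h : IsNPC P n F) :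
    IsNPC P n F' := by
  obtain ⟨E, hE, ⟨e'⟩⟩ := h
  exact ⟨E, hE, ⟨e' ≪≫ e⟩⟩

theorem isStrictPC_of_le {n n' : ℤ} (hn : n ≤ n') {E : CochainComplex C ℤ}
    (h : PCoh.IsStrictPC P n E) : PCoh.IsStrictPC P n' E :=
  ⟨h.1, fun i hi => h.2 i (by omega)⟩

theorem isNPC_of_le {n n' : ℤ} (hn : n ≤ n') {F : DerivedCategory C} (h : IsNPC P n F) :
    IsNPC P n' F := by
  obtain ⟨E, hE, e⟩ := h
  exact ⟨E, isStrictPC_of_le P hn hE, e⟩

theorem isNPC_shift {n : ℤ} {F : DerivedCategory C} (h : IsNPC P n F) (m : ℤ) :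
    IsNPC P (n - m) ((shiftFunctor (DerivedCategory C) m).obj F) := by
  obtain ⟨E, ⟨⟨b, hb⟩, hP⟩, ⟨e⟩⟩ := h
  refine ⟨(shiftFunctor (CochainComplex C ℤ) m).obj E, ⟨⟨b - m, ?_⟩, ?_⟩, ⟨?_⟩⟩
  · intro i hi
    show IsZero (E.X (i + m))
    exact hb _ (by omega)
  · intro i hi
    show P (E.X (i + m))
    exact hP _ (by omega)
  · exact (DerivedCategory.Q.commShiftIso m).app E ≪≫ (shiftFunctor (DerivedCategory C) m).mapIso e

/-- the homology of an object of the derived category represented by a complex. -/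
noncomputable def homologyIsoQ (K : CochainComplex C ℤ) (i : ℤ) :
    (DerivedCategory.homologyFunctor C i).obj (DerivedCategory.Q.obj K) ≅ K.homology i :=
  (DerivedCategory.homologyFunctorFactors C i).app K

theorem homologyMap_Q {K L : CochainComplex C ℤ} (f : K ⟶ L) (i : ℤ) :
    (DerivedCategory.homologyFunctor C i).map (DerivedCategory.Q.map f) ≫ (homologyIsoQ L i).hom =
      (homologyIsoQ K i).hom ≫ HomologicalComplex.homologyMap f i :=
  DerivedCategory.homologyFunctorFactors_hom_naturality f i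

end Basic

section Roof

/-- an isomorphism in the derived category is a roof of quasi-isomorphisms. -/
theorem exists_roof {X Y : CochainComplex C ℤ} (e : DerivedCategory.Q.obj X ≅ DerivedCategory.Q.obj Y) :
    ∃ (X' : CochainComplex C ℤ) (s : X' ⟶ X) (g : X' ⟶ Y), QuasiIso s ∧ QuasiIso g ∧
      DerivedCategory.Q.map s ≫ e.hom = DerivedCategory.Q.map g := by
  obtain ⟨X', s, hs, g, hg⟩ := DerivedCategory.right_fac e.hom
  have e1 : DerivedCategory.Q.map s ≫ e.hom = DerivedCategory.Q.map g := by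
    rw [hg, IsIso.hom_inv_id_assoc]
  have hg' : IsIso (DerivedCategory.Q.map g) := by rw [← e1]; infer_instance
  exact ⟨X', s, g, (DerivedCategory.isIso_Q_map_iff_quasiIso C s).1 hs,
    (DerivedCategory.isIso_Q_map_iff_quasiIso C g).1 hg', e1⟩

/-- a morphism in the derived category is a roof. -/
theorem exists_roof_hom {X Y : CochainComplex C ℤ}
    (f : DerivedCategory.Q.obj X ⟶ DerivedCategory.Q.obj Y) :
    ∃ (X' : CochainComplex C ℤ) (s : X' ⟶ X) (g : X' ⟶ Y), QuasiIso s ∧
      DerivedCategory.Q.map s ≫ f = DerivedCategory.Q.map g := by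
  obtain ⟨X', s, hs, g, hg⟩ := DerivedCategory.right_fac f
  refine ⟨X', s, g, (DerivedCategory.isIso_Q_map_iff_quasiIso C s).1 hs, ?_⟩
  rw [hg, IsIso.hom_inv_id_assoc]

end Roof

section Main
variable (P : ObjectProperty C) [P.IsClosedUnderIsomorphisms] [P.ContainsZero]
  (hsum : ∀ X Y : C, P X → P Y → P (X ⨯ Y))
  (hqs : PCoh.IsQuasiStableUnderKernels P) (hql : PCoh.IsQuasiLiftable P)

include hsum hqs hql in
/-- if `Q F₀` is `n`-pseudo-coherent then `F₀` receives a quasi-isomorphism from a strictly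
`n`-pseudo-coherent complex. -/
theorem exists_quasiIso_of_isNPC (n : ℤ) (F₀ : CochainComplex C ℤ)
    (h : IsNPC P n (DerivedCategory.Q.obj F₀)) :
    ∃ (E : CochainComplex C ℤ) (v : E ⟶ F₀), PCoh.IsStrictPC P n E ∧ QuasiIso v := by
  obtain ⟨E₀, hE₀, ⟨e⟩⟩ := h
  obtain ⟨E', s, g, hs, hg, -⟩ := exists_roof e
  obtain ⟨F', v, hF', hv⟩ := exists_strictPC_quasiIso P hsum hqs hql n E' E₀ hE₀ s hs
  exact ⟨F', v ≫ g, hF', inferInstance⟩

theorem isNPC_of_quasiIso (n : ℤ) {E F₀ : CochainComplex C ℤ} (v : E ⟶ F₀) [QuasiIso v]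
    (hE : PCoh.IsStrictPC P n E) : IsNPC P n (DerivedCategory.Q.obj F₀) :=
  ⟨E, hE, ⟨asIso (DerivedCategory.Q.map v)⟩⟩

end Main

end Groth.Agent.Lib.Helper17.PCoh12
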