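import Groth.Agent.Lib.Helper17PCoh12

/-! Pseudo-coherence, part 13: distinguished triangles (helper17). -/
set_option autoImplicit false
set_option backward.isDefEq.respectTransparency false
set_option backward.isDefEq.respectTransparency.types false
universe w v u
open CategoryTheory CategoryTheory.Limits ZeroObject CategoryTheory.Pretriangulated

namespace Groth.Agent.Lib.Helper17.PCoh13

open Groth.Agent.Lib.Helper17.PCoh10 Groth.Agent.Lib.Helper17.PCoh11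
  Groth.Agent.Lib.Helper17.PCoh12 DerivedCategory

variable {C : Type u} [Category.{v} C] [Abelian C] [HasDerivedCategory.{w} C]
variable (P : ObjectProperty C) [P.IsClosedUnderIsomorphisms] [P.ContainsZero]
  (hsum : ∀ X Y : C, P X → P Y → P (X ⨯ Y))
  (hqs : PCoh.IsQuasiStableUnderKernels P) (hql : PCoh.IsQuasiLiftable P)

include hsum hqs hql in
/-- the cone of a morphism between pseudo-coherent objects is a mapping cone of strict complexes. -/
theorem exists_cone (m n : ℤ) (T : Triangle (DerivedCategory C))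
    (hT : T ∈ distTriang (DerivedCategory C)) (h₁ : IsNPC P m T.obj₁) (h₂ : IsNPC P n T.obj₂) :
    ∃ (E₁ E₂ : CochainComplex C ℤ) (g : E₁ ⟶ E₂), PCoh.IsStrictPC P m E₁ ∧ PCoh.IsStrictPC P n E₂ ∧
      Nonempty (DerivedCategory.Q.obj (CochainComplex.mappingCone g) ≅ T.obj₃) := by
  obtain ⟨E₁, hE₁, ⟨e₁⟩⟩ := h₁
  obtain ⟨E₂, hE₂, ⟨e₂⟩⟩ := h₂
  obtain ⟨X', s, g, hs, hg⟩ := exists_roof_hom (e₁.hom ≫ T.mor₁ ≫ e₂.inv)
  obtain ⟨F', v, hF', hv⟩ := exists_strictPC_quasiIso P hsum hqs hql m X' E₁ hE₁ s hs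
  have hs' : QuasiIso (v ≫ s) := inferInstance
  let e₁' : DerivedCategory.Q.obj F' ≅ T.obj₁ := asIso (DerivedCategory.Q.map (v ≫ s)) ≪≫ e₁
  have comm : DerivedCategory.Q.map (v ≫ g) ≫ e₂.hom = e₁'.hom ≫ T.mor₁ := by
    show DerivedCategory.Q.map (v ≫ g) ≫ e₂.hom =
      (DerivedCategory.Q.map (v ≫ s) ≫ e₁.hom) ≫ T.mor₁
    rw [Functor.map_comp, Functor.map_comp, Category.assoc, ← hg]
    simp only [Category.assoc, Iso.inv_hom_id, Category.comp_id]
  have hT' := DerivedCategory.mappingCone_triangle_distinguished (C := C) (v ≫ g)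
  have e := isoTriangleOfIso₁₂ _ T hT' hT e₁' e₂ comm
  exact ⟨F', E₂, v ≫ g, hF', hE₂, ⟨Triangle.π₃.mapIso e⟩⟩

omit [P.ContainsZero] in
theorem isStrictPC_mappingCone (hsum : ∀ X Y : C, P X → P Y → P (X ⨯ Y)) (n : ℤ)
    {E₁ E₂ : CochainComplex C ℤ} (g : E₁ ⟶ E₂)
    (h₁ : PCoh.IsStrictPC P (n + 1) E₁) (h₂ : PCoh.IsStrictPC P n E₂) :
    PCoh.IsStrictPC P n (CochainComplex.mappingCone g) := by
  obtain ⟨⟨b₁, hb₁⟩, hP₁⟩ := h₁
  obtain ⟨⟨b₂, hb₂⟩, hP₂⟩ := h₂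
  refine ⟨⟨max b₁ b₂, fun i hi => mappingCone_X_isZero g i (hb₁ _ ?_) (hb₂ _ ?_)⟩,
    fun i hi => mappingCone_X_prop P hsum g i (hP₁ _ (by omega)) (hP₂ _ hi)⟩
  · have := le_max_left b₁ b₂; omega
  · have := le_max_right b₁ b₂; omega

include hsum hqs hql in
theorem isNPC_obj₃ (n : ℤ) (T : Triangle (DerivedCategory C))
    (hT : T ∈ distTriang (DerivedCategory C)) (h₁ : IsNPC P (n + 1) T.obj₁)
    (h₂ : IsNPC P n T.obj₂) : IsNPC P n T.obj₃ := by
  obtain ⟨E₁, E₂, g, hE₁, hE₂, ⟨e⟩⟩ := exists_cone P hsum hqs hql (n + 1) n T hT h₁ h₂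
  exact ⟨_, isStrictPC_mappingCone P hsum n g hE₁ hE₂, ⟨e⟩⟩

include hsum hqs hql in
theorem isNPC_obj₂ (n : ℤ) (T : Triangle (DerivedCategory C))
    (hT : T ∈ distTriang (DerivedCategory C)) (h₁ : IsNPC P n T.obj₁)
    (h₃ : IsNPC P n T.obj₃) : IsNPC P n T.obj₂ := by
  have hT' := inv_rot_of_distTriang _ hT
  have h₃' : IsNPC P (n + 1) T.invRotate.obj₁ :=
    isNPC_of_le P (by omega) (isNPC_shift P h₃ (-1))
  exact isNPC_obj₃ P hsum hqs hql n T.invRotate hT' h₃' h₁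

include hsum hqs hql in
theorem isNPC_obj₁ (n : ℤ) (T : Triangle (DerivedCategory C))
    (hT : T ∈ distTriang (DerivedCategory C)) (h₂ : IsNPC P (n + 1) T.obj₂)
    (h₃ : IsNPC P n T.obj₃) : IsNPC P (n + 1) T.obj₁ := by
  have hT' := rot_of_distTriang _ hT
  have h : IsNPC P n T.rotate.obj₃ := isNPC_obj₃ P hsum hqs hql n T.rotate hT' h₂ h₃
  have h' : IsNPC P (n + 1) ((shiftFunctor (DerivedCategory C) (-1 : ℤ)).obj T.rotate.obj₃) :=
    isNPC_of_le P (by omega) (isNPC_shift P h (-1))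
  exact isNPC_of_iso P (shiftShiftNeg T.obj₁ (1 : ℤ)) h'

end Groth.Agent.Lib.Helper17.PCoh13
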