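import Groth.Agent.Lib.Helper17PCoh13

/-! Pseudo-coherence, part 14: criteria for `n`-pseudo-coherence (helper17). -/
set_option autoImplicit false
set_option backward.isDefEq.respectTransparency false
set_option backward.isDefEq.respectTransparency.types false
universe w v u
open CategoryTheory CategoryTheory.Limits ZeroObject CategoryTheory.Pretriangulated

namespace Groth.Agent.Lib.Helper17.PCoh14

open Groth.Agent.Lib.Helper17.PCoh7 Groth.Agent.Lib.Helper17.PCoh8 Groth.Agent.Lib.Helper17.PCoh9
  Groth.Agent.Lib.Helper17.PCoh10 Groth.Agent.Lib.Helper17.PCoh11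
  Groth.Agent.Lib.Helper17.PCoh12 Groth.Agent.Lib.Helper17.PCoh13 DerivedCategory

variable {C : Type u} [Category.{v} C] [Abelian C] [HasDerivedCategory.{w} C]

section Homology

theorem isIso_homologyFunctor_map_Q_iff {K L : CochainComplex C ℤ} (f : K ⟶ L) (i : ℤ) :
    IsIso ((DerivedCategory.homologyFunctor C i).map (DerivedCategory.Q.map f)) ↔
      IsIso (HomologicalComplex.homologyMap f i) := by
  have h := homologyMap_Q f i
  constructor
  · intro hf
    have e : HomologicalComplex.homologyMap f i = (homologyIsoQ K i).inv ≫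
        ((DerivedCategory.homologyFunctor C i).map (DerivedCategory.Q.map f) ≫
          (homologyIsoQ L i).hom) := by
      rw [h, Iso.inv_hom_id_assoc]
    rw [e]
    infer_instance
  · intro hf
    have e : (DerivedCategory.homologyFunctor C i).map (DerivedCategory.Q.map f) =
        ((homologyIsoQ K i).hom ≫ HomologicalComplex.homologyMap f i) ≫
          (homologyIsoQ L i).inv := by
      rw [← h, Category.assoc, Iso.hom_inv_id, Category.comp_id]
    rw [e]
    infer_instance

theorem epi_homologyFunctor_map_Q_iff {K L : CochainComplex C ℤ} (f : K ⟶ L) (i : ℤ) :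
    Epi ((DerivedCategory.homologyFunctor C i).map (DerivedCategory.Q.map f)) ↔
      Epi (HomologicalComplex.homologyMap f i) := by
  have h := homologyMap_Q f i
  constructor
  · intro hf
    have e : HomologicalComplex.homologyMap f i = (homologyIsoQ K i).inv ≫
        ((DerivedCategory.homologyFunctor C i).map (DerivedCategory.Q.map f) ≫
          (homologyIsoQ L i).hom) := by
      rw [h, Iso.inv_hom_id_assoc]
    rw [e]
    infer_instance
  · intro hf
    have e : (DerivedCategory.homologyFunctor C i).map (DerivedCategory.Q.map f) =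
        ((homologyIsoQ K i).hom ≫ HomologicalComplex.homologyMap f i) ≫
          (homologyIsoQ L i).inv := by
      rw [← h, Category.assoc, Iso.hom_inv_id, Category.comp_id]
    rw [e]
    infer_instance

/-- transfer of vanishing of homology along an isomorphism in the derived category. -/
theorem isZero_homology_of_iso {K : CochainComplex C ℤ} {F : DerivedCategory C}
    (e : DerivedCategory.Q.obj K ≅ F) (i : ℤ)
    (h : IsZero ((DerivedCategory.homologyFunctor C i).obj F)) : IsZero (K.homology i) :=
  IsZero.of_iso h ((homologyIsoQ K i).symm ≪≫ (DerivedCategory.homologyFunctor C i).mapIso e)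

/-- the homology of a representing complex. -/
noncomputable def homologyIsoOfIso {K : CochainComplex C ℤ} {F : DerivedCategory C}
    (e : DerivedCategory.Q.obj K ≅ F) (i : ℤ) :
    K.homology i ≅ (DerivedCategory.homologyFunctor C i).obj F :=
  (homologyIsoQ K i).symm ≪≫ (DerivedCategory.homologyFunctor C i).mapIso e

end Homology

section Main
variable (P : ObjectProperty C) [P.IsClosedUnderIsomorphisms] [P.ContainsZero]
  (hsum : ∀ X Y : C, P X → P Y → P (X ⨯ Y))
  (hqs : PCoh.IsQuasiStableUnderKernels P) (hql : PCoh.IsQuasiLiftable P)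

include hsum hqs hql in
/-- bounded resolutions (S5617). -/
theorem exists_strictPC_iso_vanishing_above (n m : ℤ) (hnm : n < m) (F : DerivedCategory C)
    (hF : IsNPC P n F)
    (hac : ∀ i : ℤ, m ≤ i → IsZero ((DerivedCategory.homologyFunctor C i).obj F)) :
    ∃ E : CochainComplex C ℤ, PCoh.IsStrictPC P n E ∧ (∀ i : ℤ, m ≤ i → IsZero (E.X i)) ∧
      Nonempty (DerivedCategory.Q.obj E ≅ F) := by
  obtain ⟨E₀, hE₀, ⟨e⟩⟩ := hF
  have hEac : ∀ i : ℤ, m - 1 < i → IsZero (E₀.homology i) := fun i hi =>
    isZero_homology_of_iso e i (hac i (by omega))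
  obtain ⟨F', v, hF', hz, hv⟩ := exists_strictPC_quasiIso_bdd P hsum hqs hql n (m - 1) (by omega)
    E₀ E₀ hE₀ (𝟙 E₀) hEac
  exact ⟨F', hF', fun i hi => hz i (by omega), ⟨asIso (DerivedCategory.Q.map v) ≪≫ e⟩⟩

omit [P.ContainsZero] in
include hqs in
theorem isOfFiniteType_homology_of_isNPC (n : ℤ) (F : DerivedCategory C) (hF : IsNPC P n F)
    (hac : ∀ i : ℤ, n < i → IsZero ((DerivedCategory.homologyFunctor C i).obj F)) :
    PCoh.IsOfFiniteType P ((DerivedCategory.homologyFunctor C n).obj F) := by
  obtain ⟨E₀, hE₀, ⟨e⟩⟩ := hF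
  have h := Groth.Agent.Lib.Helper17.PCoh2.isOfFiniteType_homology_of_strictPC P hqs n E₀ hE₀
    (fun i hi => isZero_homology_of_iso e i (hac i hi))
  exact Groth.Agent.Lib.Helper17.PCoh1.isOfFiniteType_of_epi P (homologyIsoOfIso e n).hom h

theorem isStrictPC_single (n : ℤ) {L : C} (hL : P L) :
    PCoh.IsStrictPC P n ((HomologicalComplex.single C (ComplexShape.up ℤ) n).obj L) := by
  refine ⟨⟨n, fun i hi => HomologicalComplex.isZero_single_obj_X _ _ _ _ (by omega)⟩,
    fun i hi => ?_⟩
  by_cases h : i = n
  · subst h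
    exact P.prop_of_iso (HomologicalComplex.singleObjXSelf (ComplexShape.up ℤ) i L).symm hL
  · exact P.prop_of_isZero (HomologicalComplex.isZero_single_obj_X _ _ _ _ h)

include hql in
theorem isNPC_of_isOfFiniteType_homology (n : ℤ) (F : DerivedCategory C)
    (hac : ∀ i : ℤ, n < i → IsZero ((DerivedCategory.homologyFunctor C i).obj F))
    (hft : PCoh.IsOfFiniteType P ((DerivedCategory.homologyFunctor C n).obj F)) :
    IsNPC P n F := by
  let F₀ := (DerivedCategory.Q (C := C)).objPreimage F
  let e₀ : DerivedCategory.Q.obj F₀ ≅ F := (DerivedCategory.Q (C := C)).objObjPreimageIso F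
  have hft₀ : PCoh.IsOfFiniteType P (F₀.homology n) :=
    Groth.Agent.Lib.Helper17.PCoh1.isOfFiniteType_of_epi P (homologyIsoOfIso e₀ n).inv hft
  obtain ⟨L, z, hL, hz⟩ := exists_cycle_lift P hql F₀ n hft₀
  have hζn := epi_homologyMap_cycleMap z hz
  have hiso : ∀ i : ℤ, n < i → IsIso (HomologicalComplex.homologyMap (cycleMap z) i) := by
    intro i hi
    have h1 : IsZero (((HomologicalComplex.single C (ComplexShape.up ℤ) n).obj L).homology i) :=
      HomologicalComplex.isZero_single_obj_homology _ _ _ _ (by omega)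
    have h2 : IsZero (F₀.homology i) := isZero_homology_of_iso e₀ i (hac i hi)
    exact ⟨0, h1.eq_of_src _ _, h2.eq_of_src _ _⟩
  obtain ⟨E', v, u', hvu, hu', hmono, hviso⟩ := exists_factorisation n _ F₀ (cycleMap z) hiso hζn
  have hS := isStrictPC_single P n hL
  have hE' : PCoh.IsStrictPC P n E' := by
    refine ⟨⟨n, fun i hi => ?_⟩, fun i hi => ?_⟩
    · have := hviso i (by omega)
      exact IsZero.of_iso (HomologicalComplex.isZero_single_obj_X _ _ _ _ (by omega))
        (asIso (v.f i)).symm
    · have := hviso i hi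
      exact P.prop_of_iso (asIso (v.f i)) (hS.2 i hi)
  exact isNPC_of_iso P e₀ (isNPC_of_quasiIso P n u' hE')

end Main

end Groth.Agent.Lib.Helper17.PCoh14
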