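import Groth.Agent.Lib.Helper17PCoh14

/-! Pseudo-coherence, part 15: `n`-pseudo-coherence via `n`-isomorphisms from strictly perfect
complexes (helper17). -/
set_option autoImplicit false
set_option backward.isDefEq.respectTransparency false
set_option backward.isDefEq.respectTransparency.types false
universe w v u
open CategoryTheory CategoryTheory.Limits ZeroObject CategoryTheory.Pretriangulated

namespace Groth.Agent.Lib.Helper17.PCoh15

open Groth.Agent.Lib.Helper17.PCoh7 Groth.Agent.Lib.Helper17.PCoh8 Groth.Agent.Lib.Helper17.PCoh9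
  Groth.Agent.Lib.Helper17.PCoh10 Groth.Agent.Lib.Helper17.PCoh11
  Groth.Agent.Lib.Helper17.PCoh12 Groth.Agent.Lib.Helper17.PCoh13
  Groth.Agent.Lib.Helper17.PCoh14 DerivedCategory

variable {C : Type u} [Category.{v} C] [Abelian C] [HasDerivedCategory.{w} C]
variable (P : ObjectProperty C) [P.IsClosedUnderIsomorphisms] [P.ContainsZero]
  (hsum : ∀ X Y : C, P X → P Y → P (X ⨯ Y))
  (hqs : PCoh.IsQuasiStableUnderKernels P) (hql : PCoh.IsQuasiLiftable P)

include hsum hqs hql in
theorem exists_nIso_of_isNPC (n : ℤ) (F : DerivedCategory C) (hF : IsNPC P n F) :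
    ∃ (E : CochainComplex C ℤ) (a b : ℤ) (α : DerivedCategory.Q.obj E ⟶ F),
      (∀ i : ℤ, i < a ∨ b < i → IsZero (E.X i)) ∧ (∀ i : ℤ, P (E.X i)) ∧
      (∀ i : ℤ, n < i → IsIso ((DerivedCategory.homologyFunctor C i).map α)) ∧
      Epi ((DerivedCategory.homologyFunctor C n).map α) := by
  obtain ⟨E₀, hE₀, ⟨e⟩⟩ := hF
  obtain ⟨b₀, hb₀⟩ := hE₀.1
  have hEac : ∀ i : ℤ, max b₀ n < i → IsZero (E₀.homology i) := fun i hi =>
    isZero_homology_of_isZero_X E₀ i (hb₀ i (lt_of_le_of_lt (le_max_left _ _) hi))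
  obtain ⟨G, w, hG⟩ := exists_perfect_nQuasiIso P hsum hqs hql n (max b₀ n)
    (by have := le_max_right b₀ n; omega) E₀ E₀ hE₀ (𝟙 E₀) hEac
  refine ⟨G, n, max b₀ n, DerivedCategory.Q.map w ≫ e.hom, hG.zero, hG.prop, fun i hi => ?_, ?_⟩
  · rw [Functor.map_comp]
    have := (isIso_homologyFunctor_map_Q_iff w i).2 (hG.nqi.1 i hi)
    infer_instance
  · rw [Functor.map_comp]
    have := (epi_homologyFunctor_map_Q_iff w n).2 hG.nqi.2
    infer_instance

include hsum hqs hql in
theorem isNPC_of_exists_nIso (n : ℤ) (F : DerivedCategory C)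
    (h : ∃ (E : CochainComplex C ℤ) (a b : ℤ) (α : DerivedCategory.Q.obj E ⟶ F),
      (∀ i : ℤ, i < a ∨ b < i → IsZero (E.X i)) ∧ (∀ i : ℤ, P (E.X i)) ∧
      (∀ i : ℤ, n < i → IsIso ((DerivedCategory.homologyFunctor C i).map α)) ∧
      Epi ((DerivedCategory.homologyFunctor C n).map α)) : IsNPC P n F := by
  obtain ⟨E, a, b, α, hz, hP, hiso, hepi⟩ := h
  let F₀ := (DerivedCategory.Q (C := C)).objPreimage F
  let e₀ : DerivedCategory.Q.obj F₀ ≅ F := (DerivedCategory.Q (C := C)).objObjPreimageIso F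
  obtain ⟨X', s, g, hs, hg⟩ := exists_roof_hom (α ≫ e₀.inv)
  have hE : PCoh.IsStrictPC P n E := ⟨⟨b, fun i hi => hz i (Or.inr hi)⟩, fun i _ => hP i⟩
  obtain ⟨F', v, hF', hv⟩ := exists_strictPC_quasiIso P hsum hqs hql n X' E hE s hs
  -- `v ≫ g : F' ⟶ F₀` is an `n`-quasi-isomorphism
  have hQ : DerivedCategory.Q.map (v ≫ g) =
      DerivedCategory.Q.map (v ≫ s) ≫ α ≫ e₀.inv := by
    rw [Functor.map_comp, Functor.map_comp, Category.assoc, hg]
  have hvs : QuasiIso (v ≫ s) := inferInstance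
  have hvsi : ∀ i : ℤ, IsIso ((DerivedCategory.homologyFunctor C i).map
      (DerivedCategory.Q.map (v ≫ s))) := fun i =>
    (isIso_homologyFunctor_map_Q_iff (v ≫ s) i).2 inferInstance
  have hiv : IsIso (DerivedCategory.Q.map v) :=
    (DerivedCategory.isIso_Q_map_iff_quasiIso C v).2 hv
  have his : IsIso (DerivedCategory.Q.map s) :=
    (DerivedCategory.isIso_Q_map_iff_quasiIso C s).2 hs
  have hiso' : ∀ i : ℤ, n < i → IsIso (HomologicalComplex.homologyMap (v ≫ g) i) := by
    intro i hi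
    rw [← isIso_homologyFunctor_map_Q_iff, hQ]
    have := hiso i hi
    simp only [Functor.map_comp]
    infer_instance
  have hepi' : Epi (HomologicalComplex.homologyMap (v ≫ g) n) := by
    rw [← epi_homologyFunctor_map_Q_iff, hQ]
    simp only [Functor.map_comp]
    infer_instance
  obtain ⟨E', v', u', hvu, hu', hmono, hviso⟩ := exists_factorisation n F' F₀ (v ≫ g) hiso' hepi'
  obtain ⟨⟨b', hb'⟩, hP'⟩ := hF'
  have hE' : PCoh.IsStrictPC P n E' := by
    refine ⟨⟨max b' n, fun i hi => ?_⟩, fun i hi => ?_⟩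
    · have := hviso i (by have := le_max_right b' n; omega)
      exact IsZero.of_iso (hb' i (lt_of_le_of_lt (le_max_left _ _) hi)) (asIso (v'.f i)).symm
    · have := hviso i hi
      exact P.prop_of_iso (asIso (v'.f i)) (hP' i hi)
  exact isNPC_of_iso P e₀ (isNPC_of_quasiIso P n u' hE')

end Groth.Agent.Lib.Helper17.PCoh15
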