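import Groth.Agent.Lib.Helper17PCoh15
import Mathlib.CategoryTheory.Limits.Constructions.EventuallyConstant
import Mathlib.CategoryTheory.Functor.OfSequence
import Mathlib.Algebra.Homology.HomologicalComplexLimits

/-! Pseudo-coherence, part 16: resolutions with *all* terms in `P` (termwise stabilising colimit)
(helper17). -/
set_option autoImplicit false
set_option backward.isDefEq.respectTransparency false
set_option backward.isDefEq.respectTransparency.types false
universe w v u
open CategoryTheory CategoryTheory.Limits ZeroObject CategoryTheory.Pretriangulated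

namespace Groth.Agent.Lib.Helper17.PCoh16

open Groth.Agent.Lib.Helper17.PCoh7 Groth.Agent.Lib.Helper17.PCoh8 Groth.Agent.Lib.Helper17.PCoh9
  Groth.Agent.Lib.Helper17.PCoh10 Groth.Agent.Lib.Helper17.PCoh11
  Groth.Agent.Lib.Helper17.PCoh12 Groth.Agent.Lib.Helper17.PCoh13
  Groth.Agent.Lib.Helper17.PCoh14 DerivedCategory

section Colim
variable {C : Type u} [Category.{v} C] [Abelian C]

theorem isIso_homologyMap_of_isIso_f {K L : CochainComplex C ℤ} (φ : K ⟶ L) (i : ℤ)
    (h1 : IsIso (φ.f (i - 1))) (h2 : IsIso (φ.f i)) (h3 : IsIso (φ.f (i + 1))) :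
    IsIso (HomologicalComplex.homologyMap φ i) := by
  have e1 : (ComplexShape.up ℤ).prev i = i - 1 := CochainComplex.prev ℤ i
  have e3 : (ComplexShape.up ℤ).next i = i + 1 := CochainComplex.next ℤ i
  have i1 : IsIso (((HomologicalComplex.shortComplexFunctor C (ComplexShape.up ℤ) i).map φ).τ₁) := by
    change IsIso (φ.f ((ComplexShape.up ℤ).prev i))
    rw [e1]
    exact h1
  have i2 : IsIso (((HomologicalComplex.shortComplexFunctor C (ComplexShape.up ℤ) i).map φ).τ₂) :=
    h2
  have i3 : IsIso (((HomologicalComplex.shortComplexFunctor C (ComplexShape.up ℤ) i).map φ).τ₃) := by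
    change IsIso (φ.f ((ComplexShape.up ℤ).next i))
    rw [e3]
    exact h3
  exact ShortComplex.isIso_homologyMap_of_epi_of_isIso_of_mono
    ((HomologicalComplex.shortComplexFunctor C (ComplexShape.up ℤ) i).map φ)

variable (G : ℕ → CochainComplex C ℤ) (t : ∀ j, G j ⟶ G (j + 1))

theorem isIso_ofSequence_map_f (i : ℤ) (a : ℕ) (h : ∀ j, a ≤ j → IsIso ((t j).f i))
    (b : ℕ) (hab : a ≤ b) : IsIso (((Functor.ofSequence t).map (homOfLE hab)).f i) := by
  obtain ⟨k, rfl⟩ := Nat.exists_eq_add_of_le hab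
  induction k with
  | zero =>
    have : (homOfLE hab) = 𝟙 a := Subsingleton.elim _ _
    rw [this, CategoryTheory.Functor.map_id]
    change IsIso (𝟙 _)
    infer_instance
  | succ k ih =>
    have hab' : a ≤ a + k := by omega
    have e : homOfLE hab = homOfLE hab' ≫ homOfLE (Nat.le_add_right (a + k) 1) :=
      Subsingleton.elim _ _
    rw [e, CategoryTheory.Functor.map_comp, Functor.ofSequence_map_homOfLE_succ]
    have := ih hab'
    have := h (a + k) hab'
    change IsIso (((Functor.ofSequence t).map (homOfLE hab')).f i ≫ (t (a + k)).f i)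
    infer_instance

theorem exists_colimit (N : ℤ → ℕ) (ht : ∀ (i : ℤ) (j : ℕ), N i ≤ j → IsIso ((t j).f i)) :
    ∃ (G' : CochainComplex C ℤ) (ι : ∀ j, G j ⟶ G'), (∀ j, t j ≫ ι (j + 1) = ι j) ∧
      (∀ (i : ℤ) (j : ℕ), N i ≤ j → IsIso ((ι j).f i)) ∧
      ∀ (E : CochainComplex C ℤ) (w : ∀ j, G j ⟶ E), (∀ j, t j ≫ w (j + 1) = w j) →
        ∃ w' : G' ⟶ E, ∀ j, ι j ≫ w' = w j := by
  let Φ : ℕ ⥤ CochainComplex C ℤ := Functor.ofSequence t
  have hΦ : ∀ i : ℤ, (Φ ⋙ HomologicalComplex.eval C (ComplexShape.up ℤ) i).IsEventuallyConstantFrom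
      (N i) := by
    intro i j f
    have := isIso_ofSequence_map_f G t i (N i) (ht i) j (leOfHom f)
    have e : f = homOfLE (leOfHom f) := Subsingleton.elim _ _
    rw [e]
    exact this
  have : ∀ i : ℤ, HasColimit (Φ ⋙ HomologicalComplex.eval C (ComplexShape.up ℤ) i) :=
    fun i => (hΦ i).hasColimit
  refine ⟨colimit Φ, fun j => colimit.ι Φ j, fun j => ?_, fun i j hj => ?_, fun E w hw => ?_⟩
  · have := colimit.w Φ (homOfLE (Nat.le_add_right j 1))
    rw [Functor.ofSequence_map_homOfLE_succ] at this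
    exact this
  · exact (hΦ i).isIso_ι_of_isColimit'
      (isColimitOfPreserves (HomologicalComplex.eval C (ComplexShape.up ℤ) i) (colimit.isColimit Φ))
      j (homOfLE hj)
  · let c : Cocone Φ :=
      { pt := E
        ι := NatTrans.ofSequence (F := Φ) (G := (Functor.const ℕ).obj E) (fun j => w j)
          (fun j => by
            dsimp
            rw [Functor.ofSequence_map_homOfLE_succ, hw, Category.comp_id]) }
    exact ⟨colimit.desc Φ c, fun j => colimit.ι_desc c j⟩

end Colim

section Main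
variable {C : Type u} [Category.{v} C] [Abelian C] [HasDerivedCategory.{w} C]
variable (P : ObjectProperty C) [P.IsClosedUnderIsomorphisms] [P.ContainsZero]
  (hsum : ∀ X Y : C, P X → P Y → P (X ⨯ Y))
  (hqs : PCoh.IsQuasiStableUnderKernels P) (hql : PCoh.IsQuasiLiftable P)

include hsum hqs hql in
theorem good_step_PC (b : ℤ) (E : CochainComplex C ℤ) (k : ℤ) (hkb : k ≤ b)
    (hE : IsNPC P k (DerivedCategory.Q.obj E)) (G : CochainComplex C ℤ) (w : G ⟶ E)
    (hG : Good P b E (k + 1) G w) :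
    ∃ (G' : CochainComplex C ℤ) (t : G ⟶ G') (w' : G' ⟶ E), t ≫ w' = w ∧
      (∀ i : ℤ, i ≠ k → IsIso (t.f i)) ∧ Good P b E k G' w' := by
  have hcone : PCoh.IsOfFiniteType P ((CochainComplex.mappingCone w).homology k) := by
    have hT := DerivedCategory.mappingCone_triangle_distinguished (C := C) w
    have h₁ : IsNPC P (k + 1) (DerivedCategory.Q.obj G) :=
      ⟨G, ⟨⟨b, fun i hi => hG.zero i (Or.inr hi)⟩, fun i _ => hG.prop i⟩, ⟨Iso.refl _⟩⟩
    have h₃ := isNPC_obj₃ P hsum hqs hql k _ hT h₁ hE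
    have hac : ∀ i : ℤ, k < i → IsZero ((DerivedCategory.homologyFunctor C i).obj
        (DerivedCategory.Q.obj (CochainComplex.mappingCone w))) := fun i hi =>
      IsZero.of_iso (isZero_homology_mappingCone w (k + 1) hG.nqi i (by omega))
        (homologyIsoQ _ i)
    have := isOfFiniteType_homology_of_isNPC P hqs k _ h₃ hac
    exact Groth.Agent.Lib.Helper17.PCoh1.isOfFiniteType_of_epi P (homologyIsoQ _ k).hom this
  obtain ⟨G', t, w', htw, hmono, hiso, hcok, hnqi1, hnqi2⟩ :=
    exists_modification P hql k G E w hG.nqi.1 hG.nqi.2 hcone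
  refine ⟨G', t, w', htw, hiso, ⟨?_, ?_, ⟨hnqi1, hnqi2⟩⟩⟩
  · intro i hi
    have hik : i ≠ k := by omega
    have := hiso i hik
    exact IsZero.of_iso (hG.zero i (by omega)) (asIso (t.f i)).symm
  · intro i
    by_cases hik : i = k
    · subst hik
      have hz : IsZero (G.X i) := hG.zero i (Or.inl (by omega))
      have h0 : t.f i = 0 := hz.eq_of_src _ _
      exact P.prop_of_iso (cokernelIsoOfEq h0 ≪≫ cokernelZeroIsoTarget) hcok
    · have := hiso i hik
      exact P.prop_of_iso (asIso (t.f i)) (hG.prop i)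

/-- a stage of the construction. -/
structure Stage (b : ℤ) (E : CochainComplex C ℤ) (j : ℕ) where
  G : CochainComplex C ℤ
  w : G ⟶ E
  good : Good P b E (b + 1 - (j : ℤ)) G w

include hsum hqs hql in
theorem Stage.exists_next {b : ℤ} {E : CochainComplex C ℤ}
    (hE : ∀ k : ℤ, IsNPC P k (DerivedCategory.Q.obj E)) {j : ℕ} (s : Stage P b E j) :
    ∃ (s' : Stage P b E (j + 1)) (t : s.G ⟶ s'.G), t ≫ s'.w = s.w ∧
      ∀ i : ℤ, i ≠ b - (j : ℤ) → IsIso (t.f i) := by
  have hg : Good P b E ((b - (j : ℤ)) + 1) s.G s.w := by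
    have e : (b - (j : ℤ)) + 1 = b + 1 - (j : ℤ) := by ring
    rw [e]
    exact s.good
  obtain ⟨G', t, w', htw, hiso, hG'⟩ :=
    good_step_PC P hsum hqs hql b E (b - (j : ℤ)) (by omega) (hE _) s.G s.w hg
  refine ⟨⟨G', w', ?_⟩, t, htw, hiso⟩
  have e : b + 1 - ((j + 1 : ℕ) : ℤ) = b - (j : ℤ) := by push_cast; ring
  rw [e]
  exact hG'

/-- the initial stage. -/
noncomputable def Stage.zero (b : ℤ) (E : CochainComplex C ℤ)
    (hEac : ∀ i : ℤ, b < i → IsZero (E.homology i)) : Stage P b E 0 where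
  G := 0
  w := 0
  good := by
    refine ⟨fun i _ => ?_, fun i => ?_, ⟨fun i hi => ?_, ?_⟩⟩
    · exact (HomologicalComplex.eval C (ComplexShape.up ℤ) i).map_isZero (isZero_zero _)
    · exact P.prop_of_isZero
        ((HomologicalComplex.eval C (ComplexShape.up ℤ) i).map_isZero (isZero_zero _))
    · have hzE : IsZero (E.homology i) := hEac i (by simp at hi; omega)
      have hz0 : IsZero ((0 : CochainComplex C ℤ).homology i) :=
        (HomologicalComplex.homologyFunctor C (ComplexShape.up ℤ) i).map_isZero (isZero_zero _)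
      exact ⟨0, hz0.eq_of_src _ _, hzE.eq_of_src _ _⟩
    · have hzE : IsZero (E.homology (b + 1 - ((0 : ℕ) : ℤ))) := hEac _ (by simp)
      exact epi_of_isZero_tgt _ hzE

variable {P} in
/-- the sequence of stages. -/
noncomputable def Stage.seq {b : ℤ} {E : CochainComplex C ℤ}
    (next : ∀ (j : ℕ) (s : Stage P b E j), Stage P b E (j + 1)) (s₀ : Stage P b E 0) :
    ∀ j : ℕ, Stage P b E j
  | 0 => s₀
  | j + 1 => next j (Stage.seq next s₀ j)

include hsum hqs hql in
/-- a complex all of whose cohomology vanishes above `b` and which is pseudo-coherent receives a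
quasi-isomorphism from a complex with all terms in `P`, vanishing above `b`. -/
theorem exists_allTerms_quasiIso (b : ℤ) (E : CochainComplex C ℤ)
    (hE : ∀ k : ℤ, IsNPC P k (DerivedCategory.Q.obj E))
    (hEac : ∀ i : ℤ, b < i → IsZero (E.homology i)) :
    ∃ (G : CochainComplex C ℤ) (w : G ⟶ E), QuasiIso w ∧ (∀ i : ℤ, P (G.X i)) ∧
      ∀ i : ℤ, b < i → IsZero (G.X i) := by
  classical
  let next : ∀ (j : ℕ) (s : Stage P b E j), Stage P b E (j + 1) := fun j s =>
    (s.exists_next P hsum hqs hql hE).choose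
  let S : ∀ j : ℕ, Stage P b E j := Stage.seq next (Stage.zero P b E hEac)
  let t : ∀ j : ℕ, (S j).G ⟶ (S (j + 1)).G := fun j =>
    ((S j).exists_next P hsum hqs hql hE).choose_spec.choose
  have htw : ∀ j : ℕ, t j ≫ (S (j + 1)).w = (S j).w := fun j =>
    ((S j).exists_next P hsum hqs hql hE).choose_spec.choose_spec.1
  have hiso : ∀ (j : ℕ) (i : ℤ), i ≠ b - (j : ℤ) → IsIso ((t j).f i) := fun j =>
    ((S j).exists_next P hsum hqs hql hE).choose_spec.choose_spec.2
  let N : ℤ → ℕ := fun i => (b + 1 - i).toNat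
  have hN : ∀ (i : ℤ) (j : ℕ), N i ≤ j → b + 1 - (j : ℤ) ≤ i := by
    intro i j hj
    have : (b + 1 - i) ≤ ((b + 1 - i).toNat : ℤ) := Int.self_le_toNat _
    have : ((N i : ℕ) : ℤ) ≤ (j : ℤ) := by exact_mod_cast hj
    simp only [N] at this
    omega
  obtain ⟨G', ι, hι, hιiso, hdesc⟩ := exists_colimit (fun j => (S j).G) t N
    (fun i j hj => hiso j i (by have := hN i j hj; omega))
  obtain ⟨w', hw'⟩ := hdesc E (fun j => (S j).w) htw
  refine ⟨G', w', ⟨fun i => ?_⟩, fun i => ?_, fun i hi => ?_⟩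
  · -- quasi-isomorphism in degree `i`
    rw [quasiIsoAt_iff_isIso_homologyMap]
    let j : ℕ := N (i - 1)
    have hj : b + 1 - (j : ℤ) ≤ i - 1 := hN (i - 1) j le_rfl
    have h1 : IsIso ((ι j).f (i - 1)) := hιiso (i - 1) j le_rfl
    have h2 : IsIso ((ι j).f i) := hιiso i j (by
      simp only [j, N]; apply Int.toNat_le_toNat; omega)
    have h3 : IsIso ((ι j).f (i + 1)) := hιiso (i + 1) j (by
      simp only [j, N]; apply Int.toNat_le_toNat; omega)
    have hH : IsIso (HomologicalComplex.homologyMap (ι j) i) :=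
      isIso_homologyMap_of_isIso_f (ι j) i h1 h2 h3
    have hW : IsIso (HomologicalComplex.homologyMap (S j).w i) :=
      (S j).good.nqi.1 i (by omega)
    have e : HomologicalComplex.homologyMap (ι j) i ≫ HomologicalComplex.homologyMap w' i =
        HomologicalComplex.homologyMap (S j).w i := by
      rw [← HomologicalComplex.homologyMap_comp, hw']
    exact IsIso.of_isIso_fac_left e
  · have h2 : IsIso ((ι (N i)).f i) := hιiso i (N i) le_rfl
    exact P.prop_of_iso (asIso ((ι (N i)).f i)) ((S (N i)).good.prop i)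
  · have h2 : IsIso ((ι (N i)).f i) := hιiso i (N i) le_rfl
    exact IsZero.of_iso ((S (N i)).good.zero i (Or.inr hi)) (asIso ((ι (N i)).f i)).symm

include hsum hqs hql in
/-- S5618: a pseudo-coherent object acyclic in degrees `≥ m` is represented by a complex with all
terms in `P`, vanishing in degrees `≥ m`. -/
theorem exists_allTerms_iso (m : ℤ) (F : DerivedCategory C) (hF : PCoh.IsPC P F)
    (hac : ∀ i : ℤ, m ≤ i → IsZero ((DerivedCategory.homologyFunctor C i).obj F)) :
    ∃ E : CochainComplex C ℤ, (∀ i : ℤ, P (E.X i)) ∧ (∀ i : ℤ, m ≤ i → IsZero (E.X i)) ∧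
      Nonempty (DerivedCategory.Q.obj E ≅ F) := by
  let F₀ := (DerivedCategory.Q (C := C)).objPreimage F
  let e₀ : DerivedCategory.Q.obj F₀ ≅ F := (DerivedCategory.Q (C := C)).objObjPreimageIso F
  have hE : ∀ k : ℤ, IsNPC P k (DerivedCategory.Q.obj F₀) := fun k =>
    isNPC_of_iso P e₀.symm (hF k)
  have hEac : ∀ i : ℤ, m - 1 < i → IsZero (F₀.homology i) := fun i hi =>
    isZero_homology_of_iso e₀ i (hac i (by omega))
  obtain ⟨G, w, hw, hP, hz⟩ := exists_allTerms_quasiIso P hsum hqs hql (m - 1) F₀ hE hEac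
  have : IsIso (DerivedCategory.Q.map w) := (DerivedCategory.isIso_Q_map_iff_quasiIso C w).2 hw
  exact ⟨G, hP, fun i hi => hz i (by omega), ⟨asIso (DerivedCategory.Q.map w) ≪≫ e₀⟩⟩

end Main

end Groth.Agent.Lib.Helper17.PCoh16
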