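import Groth.Agent.Lib.Helper17PCoh16
import Mathlib.Algebra.Homology.DerivedCategory.SingleTriangle

/-! Pseudo-coherence, part 17: intermediate subcategories `P ≤ P₁` with `P₁ ⊆ PC(P)` (helper17). -/
set_option autoImplicit false
set_option backward.isDefEq.respectTransparency false
set_option backward.isDefEq.respectTransparency.types false
universe w v u
open CategoryTheory CategoryTheory.Limits ZeroObject CategoryTheory.Pretriangulated

namespace Groth.Agent.Lib.Helper17.PCoh17

open Groth.Agent.Lib.Helper17.PCoh7 Groth.Agent.Lib.Helper17.PCoh8 Groth.Agent.Lib.Helper17.PCoh9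
  Groth.Agent.Lib.Helper17.PCoh10 Groth.Agent.Lib.Helper17.PCoh11
  Groth.Agent.Lib.Helper17.PCoh12 Groth.Agent.Lib.Helper17.PCoh13
  Groth.Agent.Lib.Helper17.PCoh14 DerivedCategory

variable {C : Type u} [Category.{v} C] [Abelian C] [HasDerivedCategory.{w} C]
variable (P : ObjectProperty C) [P.IsClosedUnderIsomorphisms] [P.ContainsZero]
  (hsum : ∀ X Y : C, P X → P Y → P (X ⨯ Y))
  (hqs : PCoh.IsQuasiStableUnderKernels P) (hql : PCoh.IsQuasiLiftable P)

/-- the homology in degree `0` of `X[0]`. -/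
noncomputable def homologySingleIso (X : C) :
    (DerivedCategory.homologyFunctor C 0).obj ((DerivedCategory.singleFunctor C 0).obj X) ≅ X :=
  homologyIsoQ ((HomologicalComplex.single C (ComplexShape.up ℤ) 0).obj X) 0 ≪≫
    HomologicalComplex.singleObjHomologySelfIso (ComplexShape.up ℤ) 0 X

theorem isZero_homology_single (X : C) (i : ℤ) (hi : i ≠ 0) :
    IsZero ((DerivedCategory.homologyFunctor C i).obj
      ((DerivedCategory.singleFunctor C 0).obj X)) :=
  IsZero.of_iso (HomologicalComplex.isZero_single_obj_homology (ComplexShape.up ℤ) 0 X i hi)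
    (homologyIsoQ ((HomologicalComplex.single C (ComplexShape.up ℤ) 0).obj X) i)

include hqs in
theorem isOfFiniteType_of_isNPC_single (X : C)
    (h : IsNPC P 0 ((DerivedCategory.singleFunctor C 0).obj X)) : PCoh.IsOfFiniteType P X := by
  have := isOfFiniteType_homology_of_isNPC P hqs 0 _ h
    (fun i hi => isZero_homology_single X i (by omega))
  exact Groth.Agent.Lib.Helper17.PCoh1.isOfFiniteType_of_epi P (homologySingleIso X).hom this

/-- objects which are pseudo-coherent when placed in degree `0`. -/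
def PCObj (X : C) : Prop := PCoh.IsPC P ((DerivedCategory.singleFunctor C 0).obj X)

theorem pcObj_of_isZero (X : C) (hX : IsZero X) : PCObj P X := by
  intro n
  refine ⟨0, ⟨⟨0, fun i _ => ?_⟩, fun i _ => ?_⟩, ⟨?_⟩⟩
  · exact (HomologicalComplex.eval C (ComplexShape.up ℤ) i).map_isZero (isZero_zero _)
  · exact P.prop_of_isZero
      ((HomologicalComplex.eval C (ComplexShape.up ℤ) i).map_isZero (isZero_zero _))
  · exact (DerivedCategory.Q.map_isZero (isZero_zero _)).iso
      ((DerivedCategory.singleFunctor C 0).map_isZero hX)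

theorem pcObj_of_iso {X Y : C} (e : X ≅ Y) (hX : PCObj P X) : PCObj P Y := fun n =>
  isNPC_of_iso P ((DerivedCategory.singleFunctor C 0).mapIso e) (hX n)

include hsum hqs hql in
theorem pcObj_X₁ (S : ShortComplex C) (hS : S.ShortExact) (h₂ : PCObj P S.X₂)
    (h₃ : PCObj P S.X₃) : PCObj P S.X₁ := by
  intro n
  have := isNPC_obj₁ P hsum hqs hql (n - 1) hS.singleTriangle hS.singleTriangle_distinguished
    (by
      have e : n - 1 + 1 = n := by ring
      rw [e]
      exact h₂ n) (h₃ (n - 1))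
  have e : n - 1 + 1 = n := by ring
  rw [e] at this
  exact this

section Inter
variable (P₁ : ObjectProperty C) [P₁.IsClosedUnderIsomorphisms]
  (hle : ∀ X : C, P X → P₁ X) (hpc : ∀ X : C, P₁ X → PCObj P X)

include hqs hql hle hpc in
theorem isQuasiLiftable_of_le : PCoh.IsQuasiLiftable P₁ := by
  intro E F u hu hF
  obtain ⟨L, π, hL, hπ⟩ := isOfFiniteType_of_isNPC_single P hqs F (hpc F hF 0)
  have : Epi (pullback.snd u π) := inferInstance
  obtain ⟨F', v', hF', hv'⟩ := hql (pullback u π) L (pullback.snd u π) inferInstance hL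
  refine ⟨F', v' ≫ pullback.fst u π, hle _ hF', ?_⟩
  have e : (v' ≫ pullback.fst u π) ≫ u = (v' ≫ pullback.snd u π) ≫ π := by
    rw [Category.assoc, Category.assoc, pullback.condition]
  rw [e]
  exact epi_comp _ _

/-- the cycles of an `ℕ`-indexed cochain complex. -/
noncomputable abbrev Z (K : CochainComplex C ℕ) (i : ℕ) : C := kernel (K.d i (i + 1))

/-- the map `K^i ⟶ Z^{i+1}`. -/
noncomputable def toZ (K : CochainComplex C ℕ) (i : ℕ) : K.X i ⟶ Z K (i + 1) :=
  kernel.lift _ (K.d i (i + 1)) (K.d_comp_d _ _ _)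

@[reassoc (attr := simp)]
theorem toZ_ι (K : CochainComplex C ℕ) (i : ℕ) :
    toZ K i ≫ kernel.ι (K.d (i + 1) (i + 1 + 1)) = K.d i (i + 1) :=
  kernel.lift_ι _ _ _

theorem epi_toZ (K : CochainComplex C ℕ) (i : ℕ) (h : K.ExactAt (i + 1)) : Epi (toZ K i) := by
  rw [K.exactAt_iff' i (i + 1) (i + 2) (by simp) (by simp)] at h
  exact (ShortComplex.exact_iff_epi_kernel_lift _).1 h

/-- the short complex `Z^i ⟶ K^i ⟶ Z^{i+1}`. -/
noncomputable def zS (K : CochainComplex C ℕ) (i : ℕ) : ShortComplex C :=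
  ShortComplex.mk (kernel.ι (K.d i (i + 1))) (toZ K i) (by
    rw [← cancel_mono (kernel.ι (K.d (i + 1) (i + 1 + 1))), Category.assoc, toZ_ι,
      kernel.condition, zero_comp])

theorem zS_shortExact (K : CochainComplex C ℕ) (i : ℕ) (h : K.ExactAt (i + 1)) :
    (zS K i).ShortExact := by
  have : Mono (zS K i).f := by dsimp [zS]; infer_instance
  have : Epi (zS K i).g := epi_toZ K i h
  refine ShortComplex.ShortExact.mk (ShortComplex.exact_of_f_is_kernel _ ?_)
  refine KernelFork.IsLimit.ofι _ _ (fun {W} g hg => kernel.lift _ g ?_) (fun g hg => ?_)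
    (fun g hg m hm => ?_)
  · have : g ≫ toZ K i = 0 := hg
    rw [← toZ_ι, reassoc_of% this, zero_comp]
  · exact kernel.lift_ι _ _ _
  · rw [← cancel_mono (kernel.ι (K.d i (i + 1)))]
    have : m ≫ kernel.ι (K.d i (i + 1)) = g := hm
    rw [this, kernel.lift_ι]

include hsum hqs hql hpc in
theorem pcObj_Z (K : CochainComplex C ℕ) (hex : ∀ i : ℕ, K.ExactAt i) (n : ℕ)
    (hz : ∀ i : ℕ, n < i → IsZero (K.X i)) (hK : ∀ i : ℕ, 1 ≤ i → P₁ (K.X i)) (d : ℕ) :
    ∀ i : ℕ, 1 ≤ i → n + 1 ≤ i + d → PCObj P (Z K i) := by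
  induction d with
  | zero =>
    intro i hi hid
    exact pcObj_of_isZero P _ (IsZero.of_mono (kernel.ι _) (hz i (by omega)))
  | succ d ih =>
    intro i hi hid
    have h3 : PCObj P (Z K (i + 1)) := ih (i + 1) (by omega) (by omega)
    exact pcObj_X₁ P hsum hqs hql (zS K i) (zS_shortExact K i (hex _)) (hpc _ (hK i hi)) h3

include hsum hqs hql hle hpc in
theorem isQuasiStable_of_le : PCoh.IsQuasiStableUnderKernels P₁ := by
  intro K hex hbd hK
  obtain ⟨n, hz⟩ := hbd
  have hZ1 : PCObj P (Z K 1) := pcObj_Z P hsum hqs hql P₁ hpc K hex n hz hK n 1 le_rfl (by omega)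
  have hmono : Mono (K.d 0 1) := by
    have h := hex 0
    rw [K.exactAt_iff' 0 0 1 (by simp) (by simp)] at h
    exact (ShortComplex.exact_iff_mono _ (by simp)).1 h
  have hm : Mono (toZ K 0) := by
    have : Mono (toZ K 0 ≫ kernel.ι (K.d (0 + 1) (0 + 1 + 1))) := by
      rw [toZ_ι]; exact hmono
    exact mono_of_mono _ (kernel.ι (K.d (0 + 1) (0 + 1 + 1)))
  have he : Epi (toZ K 0) := epi_toZ K 0 (hex _)
  have hiso : IsIso (toZ K 0) := isIso_of_mono_of_epi _
  have h0 : PCObj P (K.X 0) := pcObj_of_iso P (asIso (toZ K 0)).symm hZ1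
  obtain ⟨L, π, hL, hπ⟩ := isOfFiniteType_of_isNPC_single P hqs _ (h0 0)
  exact ⟨L, π, hle _ hL, hπ⟩

end Inter

end Groth.Agent.Lib.Helper17.PCoh17
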