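import Groth.Prelude.Def_PCoh
import Groth.Agent.Lib.Helper17PCoh1
import Mathlib

/-! Pseudo-coherence: cokernel of (finite type → precoherent) is precoherent (helper17). -/
set_option autoImplicit false
set_option backward.isDefEq.respectTransparency false
universe w v u
open CategoryTheory CategoryTheory.Limits

namespace Groth.Agent.Lib.Helper17.PCoh3

variable {C : Type u} [Category.{v} C] [Abelian C]

theorem precoherent_cokernel
    (P : ObjectProperty C) [P.IsClosedUnderIsomorphisms]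
    (hsum : ∀ X Y : C, P X → P Y → P (X ⨯ Y))
    (hql : PCoh.IsQuasiLiftable P)
    (S : ShortComplex C) (hS : S.Exact) (hg : Epi S.g)
    (hF : PCoh.IsOfFiniteType P S.X₁)
    (hG : ∀ (E : C) (u : E ⟶ S.X₂), P E → PCoh.IsOfFiniteType P (kernel u)) :
    ∀ (E : C) (u : E ⟶ S.X₃), P E → PCoh.IsOfFiniteType P (kernel u) := by
  intro E u hE
  obtain ⟨E₁, π₁, hE₁, hπ₁⟩ := hF
  have hpe : Epi (pullback.snd S.g u) := inferInstance
  obtain ⟨F', v, hF', hv⟩ := hql _ _ (pullback.snd S.g u) hpe hE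
  obtain ⟨w, hw⟩ : ∃ w : F' ⟶ S.X₂, w = v ≫ pullback.fst S.g u := ⟨_, rfl⟩
  obtain ⟨e, he⟩ : ∃ e : F' ⟶ E, e = v ≫ pullback.snd S.g u := ⟨_, rfl⟩
  have hee : Epi e := by rw [he]; exact hv
  have hwe : w ≫ S.g = e ≫ u := by
    rw [hw, he, Category.assoc, Category.assoc, pullback.condition]
  have hPb : P (E₁ ⊞ F') := P.prop_of_iso (biprod.isoProd E₁ F').symm (hsum _ _ hE₁ hF')
  obtain ⟨φ, hφ⟩ : ∃ φ : E₁ ⊞ F' ⟶ S.X₂, φ = biprod.desc (π₁ ≫ S.f) w := ⟨_, rfl⟩
  have hK := hG (E₁ ⊞ F') φ hPb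
  have hφ' : φ = biprod.fst ≫ π₁ ≫ S.f + biprod.snd ≫ w := by
    rw [hφ]; ext <;> simp
  have h0 : (kernel.ι φ ≫ biprod.snd ≫ e) ≫ u = 0 := by
    have h1 : kernel.ι φ ≫ biprod.snd ≫ w = - (kernel.ι φ ≫ biprod.fst ≫ π₁ ≫ S.f) := by
      have h2 : kernel.ι φ ≫ (biprod.fst ≫ π₁ ≫ S.f + biprod.snd ≫ w) = 0 := by
        rw [← hφ']; exact kernel.condition φ
      rw [Preadditive.comp_add] at h2
      exact eq_neg_of_add_eq_zero_right h2
    calc (kernel.ι φ ≫ biprod.snd ≫ e) ≫ u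
        = (kernel.ι φ ≫ biprod.snd ≫ w) ≫ S.g := by
          simp only [Category.assoc, hwe]
      _ = 0 := by
          rw [h1, Preadditive.neg_comp]
          simp only [Category.assoc, S.zero, comp_zero, neg_zero]
  have hψ : Epi (kernel.lift u _ h0) := by
    rw [epi_iff_surjective_up_to_refinements]
    intro T x
    obtain ⟨T₁, p₁, hp₁, b, hb⟩ := surjective_up_to_refinements_of_epi e (x ≫ kernel.ι u)
    have hb0 : (b ≫ w) ≫ S.g = 0 := by
      rw [Category.assoc, hwe, ← Category.assoc, ← hb, Category.assoc, Category.assoc,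
        kernel.condition, comp_zero, comp_zero]
    obtain ⟨T₂, p₂, hp₂, c, hc⟩ := hS.exact_up_to_refinements (b ≫ w) hb0
    obtain ⟨T₃, p₃, hp₃, a, ha⟩ := surjective_up_to_refinements_of_epi π₁ c
    have hy : biprod.lift (-a) (p₃ ≫ p₂ ≫ b) ≫ φ = 0 := by
      rw [hφ, biprod.lift_desc, Preadditive.neg_comp, ← Category.assoc a, ← ha]
      simp only [Category.assoc]
      rw [← hc]
      simp
    refine ⟨T₃, p₃ ≫ p₂ ≫ p₁, inferInstance, kernel.lift φ _ hy, ?_⟩
    rw [← cancel_mono (kernel.ι u)]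
    simp only [Category.assoc, kernel.lift_ι, kernel.lift_ι_assoc, biprod.lift_snd_assoc]
    rw [hb]
  have := hψ
  exact PCoh1.isOfFiniteType_of_epi P (kernel.lift u _ h0) hK

end Groth.Agent.Lib.Helper17.PCoh3
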