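import Groth.Agent.Lib.Helper17PCoh17
import Groth.Agent.Lib.Helper17PCoh3

/-! Pseudo-coherence, part 18: the coherent case (helper17). -/
set_option autoImplicit false
set_option backward.isDefEq.respectTransparency false
set_option backward.isDefEq.respectTransparency.types false
universe w v u
open CategoryTheory CategoryTheory.Limits ZeroObject CategoryTheory.Pretriangulated

namespace Groth.Agent.Lib.Helper17.PCoh18

open Groth.Agent.Lib.Helper17.PCoh1 Groth.Agent.Lib.Helper17.PCoh3
  Groth.Agent.Lib.Helper17.PCoh12 Groth.Agent.Lib.Helper17.PCoh13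
  Groth.Agent.Lib.Helper17.PCoh14 Groth.Agent.Lib.Helper17.PCoh17 DerivedCategory

section Abelian
variable {C : Type u} [Category.{v} C] [Abelian C]
variable (P : ObjectProperty C) [P.IsClosedUnderIsomorphisms] [P.ContainsZero]

/-- precoherent objects. -/
def PreCoh (X : C) : Prop := ∀ (E : C) (u : E ⟶ X), P E → PCoh.IsOfFiniteType P (kernel u)

/-- coherent objects. -/
def Coh (X : C) : Prop := PCoh.IsOfFiniteType P X ∧ PreCoh P X

variable {P}

theorem preCoh_of_mono {X Y : C} (i : X ⟶ Y) [Mono i] (hY : PreCoh P Y) : PreCoh P X :=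
  fun E u hE => isOfFiniteType_of_epi P (kernelCompMono u i).hom (hY E (u ≫ i) hE)

theorem preCoh_of_iso {X Y : C} (e : X ≅ Y) (hX : PreCoh P X) : PreCoh P Y :=
  preCoh_of_mono e.inv hX

theorem coh_of_iso {X Y : C} (e : X ≅ Y) (hX : Coh P X) : Coh P Y :=
  ⟨isOfFiniteType_of_epi P e.hom hX.1, preCoh_of_iso e hX.2⟩

theorem isOfFiniteType_of_prop {X : C} (hX : P X) : PCoh.IsOfFiniteType P X :=
  ⟨X, 𝟙 X, hX, inferInstance⟩

theorem isOfFiniteType_kernel {X Y : C} (u : X ⟶ Y) (hX : PCoh.IsOfFiniteType P X)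
    (hY : PreCoh P Y) : PCoh.IsOfFiniteType P (kernel u) :=
  isOfFiniteType_kernel_of_precoherent P (ShortComplex.mk (kernel.ι u) u (kernel.condition u))
    (ShortComplex.exact_kernel u) (by dsimp; infer_instance) hX hY

theorem coh_kernel {X Y : C} (u : X ⟶ Y) (hX : Coh P X) (hY : PreCoh P Y) : Coh P (kernel u) :=
  ⟨isOfFiniteType_kernel u hX.1 hY, preCoh_of_mono (kernel.ι u) hX.2⟩

section
variable (hsum : ∀ X Y : C, P X → P Y → P (X ⨯ Y)) (hql : PCoh.IsQuasiLiftable P)
include hsum hql

/-- the target of an epimorphism `X ⟶ Y` whose kernel is an epimorphic image of a finite type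
object `W`, with `X` coherent, is coherent. -/
theorem coh_of_exact (S : ShortComplex C) (hS : S.Exact) [Epi S.g]
    (h₁ : PCoh.IsOfFiniteType P S.X₁) (h₂ : Coh P S.X₂) : Coh P S.X₃ :=
  ⟨isOfFiniteType_of_epi P S.g h₂.1, precoherent_cokernel P hsum hql S hS inferInstance h₁ h₂.2⟩

theorem coh_homology (K : CochainComplex C ℤ) (i : ℤ) (h₁ : PCoh.IsOfFiniteType P (K.X (i - 1)))
    (h₂ : Coh P (K.X i)) (h₃ : PreCoh P (K.X (i + 1))) : Coh P (K.homology i) := by
  have hZ : Coh P (K.cycles i) := by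
    have e := IsLimit.conePointUniqueUpToIso (K.cyclesIsKernel i (i + 1) (by simp))
      (kernelIsKernel (K.d i (i + 1)))
    exact coh_of_iso e.symm (coh_kernel _ h₂ h₃)
  let S : ShortComplex C := ShortComplex.mk (K.toCycles (i - 1) i) (K.homologyπ i)
    (K.toCycles_comp_homologyπ (i - 1) i)
  have hS : S.Exact := ShortComplex.exact_of_g_is_cokernel _
    (K.homologyIsCokernel (i - 1) i (by simp))
  have : Epi S.g := by dsimp [S]; infer_instance
  exact coh_of_exact hsum hql S hS h₁ hZ

end

theorem isOfFiniteType_homology (K : CochainComplex C ℤ) (i : ℤ)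
    (h₂ : PCoh.IsOfFiniteType P (K.X i)) (h₃ : PreCoh P (K.X (i + 1))) :
    PCoh.IsOfFiniteType P (K.homology i) := by
  have hZ : PCoh.IsOfFiniteType P (K.cycles i) := by
    have e := IsLimit.conePointUniqueUpToIso (K.cyclesIsKernel i (i + 1) (by simp))
      (kernelIsKernel (K.d i (i + 1)))
    exact isOfFiniteType_of_epi P e.inv (isOfFiniteType_kernel _ h₂ h₃)
  exact isOfFiniteType_of_epi P (K.homologyπ i) hZ

end Abelian

section Derived
variable {C : Type u} [Category.{v} C] [Abelian C] [HasDerivedCategory.{w} C]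
variable {P : ObjectProperty C} [P.IsClosedUnderIsomorphisms] [P.ContainsZero]

/-- if all objects of `P` are precoherent then `P` is quasi-stable under kernels. -/
theorem isQuasiStable_of_preCoh (hcoh : ∀ X : C, P X → PreCoh P X) :
    PCoh.IsQuasiStableUnderKernels P := by
  intro K hex hbd hK
  have hZ1 : PCoh.IsOfFiniteType P (Z K 1) :=
    isOfFiniteType_kernel _ (isOfFiniteType_of_prop (hK 1 le_rfl)) (hcoh _ (hK 2 (by omega)))
  have hmono : Mono (K.d 0 1) := by
    have h := hex 0
    rw [K.exactAt_iff' 0 0 1 (by simp) (by simp)] at h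
    exact (ShortComplex.exact_iff_mono _ (by simp)).1 h
  have hm : Mono (toZ K 0) := by
    have : Mono (toZ K 0 ≫ kernel.ι (K.d (0 + 1) (0 + 1 + 1))) := by
      rw [toZ_ι]; exact hmono
    exact mono_of_mono _ (kernel.ι (K.d (0 + 1) (0 + 1 + 1)))
  have he : Epi (toZ K 0) := epi_toZ K 0 (hex _)
  have hiso : IsIso (toZ K 0) := isIso_of_mono_of_epi _
  exact isOfFiniteType_of_epi P (inv (toZ K 0)) hZ1

section
variable (hsum : ∀ X Y : C, P X → P Y → P (X ⨯ Y)) (hql : PCoh.IsQuasiLiftable P)
  (hcoh : ∀ X : C, P X → PreCoh P X)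

include hql in
theorem isNPC_single_of_ft (X : C) (hX : PCoh.IsOfFiniteType P X) :
    IsNPC P 0 ((DerivedCategory.singleFunctor C 0).obj X) :=
  isNPC_of_isOfFiniteType_homology P hql 0 _
    (fun i hi => isZero_homology_single X i (by omega))
    (isOfFiniteType_of_epi P (homologySingleIso X).inv hX)

theorem isNPC_single_of_prop (X : C) (hX : P X) (n : ℤ) :
    IsNPC P n ((DerivedCategory.singleFunctor C 0).obj X) := by
  refine ⟨_, ⟨⟨0, fun i hi => HomologicalComplex.isZero_single_obj_X _ _ _ _ (by omega)⟩,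
    fun i hi => ?_⟩, ⟨Iso.refl _⟩⟩
  by_cases h : i = 0
  · subst h
    exact P.prop_of_iso (HomologicalComplex.singleObjXSelf (ComplexShape.up ℤ) 0 X).symm hX
  · exact P.prop_of_isZero (HomologicalComplex.isZero_single_obj_X _ _ _ _ h)

include hsum hql hcoh in
theorem isNPC_single_of_coh_aux (d : ℕ) : ∀ (X : C), Coh P X →
    IsNPC P (-(d : ℤ)) ((DerivedCategory.singleFunctor C 0).obj X) := by
  have hqs := isQuasiStable_of_preCoh (C := C) (P := P) hcoh
  induction d with
  | zero =>
    intro X hX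
    exact isNPC_single_of_ft hql X hX.1
  | succ d ih =>
    intro X hX
    obtain ⟨L, π, hL, hπ⟩ := hX.1
    have hK : Coh P (kernel π) := coh_kernel π ⟨isOfFiniteType_of_prop hL, hcoh _ hL⟩ hX.2
    let S : ShortComplex C := ShortComplex.mk (kernel.ι π) π (kernel.condition π)
    have hS : S.ShortExact :=
      { exact := ShortComplex.exact_kernel π
        mono_f := by dsimp [S]; infer_instance
        epi_g := hπ }
    have h₁ : IsNPC P (-((d + 1 : ℕ) : ℤ) + 1) ((DerivedCategory.singleFunctor C 0).obj S.X₁) := by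
      have e : -((d + 1 : ℕ) : ℤ) + 1 = -(d : ℤ) := by push_cast; ring
      rw [e]
      exact ih _ hK
    exact isNPC_obj₃ P hsum hqs hql _ hS.singleTriangle hS.singleTriangle_distinguished h₁
      (isNPC_single_of_prop L hL _)

include hsum hql hcoh in
theorem isNPC_single_of_coh (X : C) (hX : Coh P X) (n : ℤ) :
    IsNPC P n ((DerivedCategory.singleFunctor C 0).obj X) := by
  have h := isNPC_single_of_coh_aux hsum hql hcoh n.natAbs X hX
  exact isNPC_of_le P (by omega) h

include hsum hql hcoh in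
/-- S5608, direct implication. -/
theorem homology_of_isNPC (n : ℤ) (F : DerivedCategory C) (hF : IsNPC P n F) :
    PCoh.IsOfFiniteType P ((DerivedCategory.homologyFunctor C n).obj F) ∧
      ∀ i : ℤ, n < i → Coh P ((DerivedCategory.homologyFunctor C i).obj F) := by
  obtain ⟨E, ⟨_, hE⟩, ⟨e⟩⟩ := hF
  have hc : ∀ i : ℤ, n ≤ i → Coh P (E.X i) := fun i hi =>
    ⟨isOfFiniteType_of_prop (hE i hi), hcoh _ (hE i hi)⟩
  refine ⟨?_, fun i hi => ?_⟩
  · exact isOfFiniteType_of_epi P (homologyIsoOfIso e n).hom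
      (isOfFiniteType_homology E n (hc n le_rfl).1 (hc (n + 1) (by omega)).2)
  · exact coh_of_iso (homologyIsoOfIso e i)
      (coh_homology hsum hql E i (hc (i - 1) (by omega)).1 (hc i (by omega))
        (hc (i + 1) (by omega)).2)

end

end Derived

end Groth.Agent.Lib.Helper17.PCoh18
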