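import Groth.Agent.Lib.Helper17PCoh18
import Groth.Agent.Lib.Helper1Devissage

/-! Pseudo-coherence, part 19: dévissage criteria (terms / cohomology) for `n`-pseudo-coherence
(helper17; uses helper1's dévissage library). -/
set_option autoImplicit false
set_option backward.isDefEq.respectTransparency false
set_option backward.isDefEq.respectTransparency.types false
universe w v u
open CategoryTheory CategoryTheory.Limits ZeroObject CategoryTheory.Pretriangulated

namespace Groth.Agent.Lib.Helper17.PCoh19

open Groth.Agent.Lib.Helper17.PCoh1 Groth.Agent.Lib.Helper17.PCoh3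
  Groth.Agent.Lib.Helper17.PCoh12 Groth.Agent.Lib.Helper17.PCoh13
  Groth.Agent.Lib.Helper17.PCoh14 Groth.Agent.Lib.Helper17.PCoh17 DerivedCategory
  Groth.Agent.Lib.Helper1.Devissage Groth.Agent.S14388

variable {C : Type u} [Category.{v} C] [Abelian C] [HasDerivedCategory.{w} C]
variable (P : ObjectProperty C) [P.IsClosedUnderIsomorphisms] [P.ContainsZero]
  (hsum : ∀ X Y : C, P X → P Y → P (X ⨯ Y))
  (hqs : PCoh.IsQuasiStableUnderKernels P) (hql : PCoh.IsQuasiLiftable P)

theorem isNPC_single_shift (X : C) (m j : ℤ)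
    (h : IsNPC P m ((DerivedCategory.singleFunctor C 0).obj X)) :
    IsNPC P (m + j) ((DerivedCategory.singleFunctor C j).obj X) := by
  have h' := isNPC_shift P h (-j)
  have e : (shiftFunctor (DerivedCategory C) (-j)).obj ((DerivedCategory.singleFunctor C 0).obj X) ≅
      (DerivedCategory.singleFunctor C j).obj X :=
    ((DerivedCategory.singleFunctors C).shiftIso (-j) j 0 (by omega)).app X
  have e' : m - (-j) = m + j := by ring
  rw [e'] at h'
  exact isNPC_of_iso P e h'

theorem isNPC_of_isZero (n : ℤ) (F : DerivedCategory C) (hF : IsZero F) : IsNPC P n F := by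
  refine ⟨0, ⟨⟨0, fun i _ => ?_⟩, fun i _ => ?_⟩, ⟨?_⟩⟩
  · exact (HomologicalComplex.eval C (ComplexShape.up ℤ) i).map_isZero (isZero_zero _)
  · exact P.prop_of_isZero
      ((HomologicalComplex.eval C (ComplexShape.up ℤ) i).map_isZero (isZero_zero _))
  · exact (DerivedCategory.Q.map_isZero (isZero_zero _)).iso hF

include hsum hqs hql in
/-- S5619. -/
theorem isNPC_of_terms_aux (n : ℤ) (k : ℕ) : ∀ (F : CochainComplex C ℤ) (b : ℤ), b < n + k →
    (∀ i : ℤ, b < i → IsZero (F.X i)) →
    (∀ i : ℤ, n ≤ i → IsNPC P (n - i) ((DerivedCategory.singleFunctor C 0).obj (F.X i))) →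
    IsNPC P n (DerivedCategory.Q.obj F) := by
  induction k with
  | zero =>
    intro F b hbn hb _
    exact ⟨F, ⟨⟨b, hb⟩, fun i hi => P.prop_of_isZero (hb i (by simp at hbn; omega))⟩, ⟨Iso.refl _⟩⟩
  | succ k ih =>
    intro F b hbn hb hfp
    by_cases hbn' : b < n
    · exact ⟨F, ⟨⟨b, hb⟩, fun i hi => P.prop_of_isZero (hb i (by omega))⟩, ⟨Iso.refl _⟩⟩
    · obtain ⟨K, f, g, δ, hT, hKb, hKi⟩ := exists_step F b hb
      have h₃ : IsNPC P n (DerivedCategory.Q.obj K) := by
        apply ih K (b - 1) (by push_cast at hbn; omega)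
        · intro i hi
          by_cases hib : i = b
          · subst hib; exact hKb
          · obtain ⟨e⟩ := hKi i hib
            exact (hb i (by omega)).of_iso e.symm
        · intro i hi
          by_cases hib : i = b
          · subst hib
            exact isNPC_of_isZero P _ _ ((DerivedCategory.singleFunctor C 0).map_isZero hKb)
          · obtain ⟨e⟩ := hKi i hib
            exact isNPC_of_iso P ((DerivedCategory.singleFunctor C 0).mapIso e) (hfp i hi)
      have h₁ : IsNPC P n ((DerivedCategory.singleFunctor C b).obj (F.X b)) := by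
        have := isNPC_single_shift P (F.X b) (n - b) b (hfp b (by omega))
        have e : n - b + b = n := by ring
        rw [e] at this
        exact this
      exact isNPC_obj₂ P hsum hqs hql n _ hT h₁ h₃

include hsum hqs hql in
theorem isNPC_of_terms (n : ℤ) (F : CochainComplex C ℤ) (b : ℤ)
    (hb : ∀ i : ℤ, b < i → IsZero (F.X i))
    (hfp : ∀ i : ℤ, n ≤ i → IsNPC P (n - i) ((DerivedCategory.singleFunctor C 0).obj (F.X i))) :
    IsNPC P n (DerivedCategory.Q.obj F) :=
  isNPC_of_terms_aux P hsum hqs hql n (b + 1 - n).toNat F b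
    (by have := Int.self_le_toNat (b + 1 - n); omega) hb hfp

include hsum hqs hql in
/-- S5604. -/
theorem isNPC_of_homology (n : ℤ) (F : DerivedCategory C) (b : ℤ)
    (hb : ∀ i : ℤ, b < i → IsZero ((DerivedCategory.homologyFunctor C i).obj F))
    (hfp : ∀ i : ℤ, n ≤ i → IsNPC P (n - i) ((DerivedCategory.singleFunctor C 0).obj
      ((DerivedCategory.homologyFunctor C i).obj F))) : IsNPC P n F := by
  have hT := tt.triangleLTGE_distinguished n F
  -- the truncation below `n`
  have h₁ : IsNPC P n ((tt.truncLT n).obj F) := by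
    have hz : ∀ i : ℤ, n ≤ i →
        IsZero ((DerivedCategory.homologyFunctor C i).obj ((tt.truncLT n).obj F)) := fun i hi =>
      isZero_of_isLE ((tt.truncLT n).obj F) (n - 1) i (by omega)
    exact isNPC_of_isOfFiniteType_homology P hql n _ (fun i hi => hz i (by omega))
      ⟨0, 0, P.prop_of_isZero (isZero_zero _), Groth.Agent.Lib.Helper17.PCoh9.epi_of_isZero_tgt _ (hz n le_rfl)⟩
  -- the truncation above `n`
  have h₃ : IsNPC P n ((tt.truncGE n).obj F) := by
    let Q' : ObjectProperty (DerivedCategory C) := fun K => IsNPC P n K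
    have : Q'.IsClosedUnderIsomorphisms := ⟨fun e h => isNPC_of_iso P e h⟩
    refine induction_homology' Q' (fun K hK => isNPC_of_isZero P n K hK)
      (fun T hT h₁ h₃ => isNPC_obj₂ P hsum hqs hql n T hT h₁ h₃) _ n b ?_ ?_
    · rintro i (hi | hi)
      · exact isZero_of_isGE ((tt.truncGE n).obj F) n i hi
      · by_cases hin : n ≤ i
        · have := isIso_homology_truncGEπ n i hin F
          exact IsZero.of_iso (hb i hi)
            (asIso ((DerivedCategory.homologyFunctor C i).map ((tt.truncGEπ n).app F))).symm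
        · exact isZero_of_isGE ((tt.truncGE n).obj F) n i (by omega)
    · intro j hj1 hj2
      have := isIso_homology_truncGEπ n j hj1 F
      have h := isNPC_single_shift P _ (n - j) j (hfp j hj1)
      have e : n - j + j = n := by ring
      rw [e] at h
      exact isNPC_of_iso P ((DerivedCategory.singleFunctor C j).mapIso
        (asIso ((DerivedCategory.homologyFunctor C j).map ((tt.truncGEπ n).app F)))) h
  exact isNPC_obj₂ P hsum hqs hql n _ hT h₁ h₃

include hsum hqs hql in
/-- S5607. -/
theorem isNPC_iff_of_le (P₁ : ObjectProperty C) (hle : ∀ X : C, P X → P₁ X)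
    (hpc : ∀ X : C, P₁ X → PCoh.IsPC P ((DerivedCategory.singleFunctor C 0).obj X))
    (n : ℤ) (F : DerivedCategory C) : IsNPC P₁ n F ↔ IsNPC P n F := by
  constructor
  · rintro ⟨E, ⟨⟨b, hb⟩, hE⟩, ⟨e⟩⟩
    exact isNPC_of_iso P e (isNPC_of_terms P hsum hqs hql n E b hb
      (fun i hi => hpc (E.X i) (hE i hi) (n - i)))
  · rintro ⟨E, hE, e⟩
    exact ⟨E, ⟨hE.1, fun i hi => hle _ (hE.2 i hi)⟩, e⟩

open Groth.Agent.Lib.Helper17.PCoh18 in
include hsum hql in
/-- S5608. -/
theorem isNPC_iff_coh (hcoh : ∀ X : C, P X → PreCoh P X) (n : ℤ) (F : DerivedCategory C) (b : ℤ)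
    (hb : ∀ i : ℤ, b < i → IsZero ((DerivedCategory.homologyFunctor C i).obj F)) :
    IsNPC P n F ↔ (PCoh.IsOfFiniteType P ((DerivedCategory.homologyFunctor C n).obj F) ∧
      ∀ i : ℤ, n < i → Coh P ((DerivedCategory.homologyFunctor C i).obj F)) := by
  have hqs' := isQuasiStable_of_preCoh (C := C) (P := P) hcoh
  constructor
  · exact homology_of_isNPC hsum hql hcoh n F
  · rintro ⟨h1, h2⟩
    refine isNPC_of_homology P hsum hqs' hql n F b hb (fun i hi => ?_)
    by_cases hin : i = n
    · subst hin
      have e : i - i = 0 := by ring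
      rw [e]
      exact isNPC_single_of_ft hql _ h1
    · exact isNPC_single_of_coh hsum hql hcoh _ (h2 i (by omega)) _

end Groth.Agent.Lib.Helper17.PCoh19
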