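import Mathlib.Algebra.Homology.HomologySequenceLemmas
import Mathlib.Algebra.Homology.HomotopyCategory.DegreewiseSplit

/-! Pseudo-coherence, part 4: four-lemma consequences for the middle map of a morphism of short
exact sequences of complexes (helper17). -/
set_option autoImplicit false
set_option backward.isDefEq.respectTransparency false
set_option backward.isDefEq.respectTransparency.types false
set_option backward.defeqAttrib.useBackward true
universe v u
open CategoryTheory CategoryTheory.Limits ComposableArrows Abelian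

namespace Groth.Agent.Lib.Helper17.PCoh4

open HomologicalComplex HomologicalComplex.HomologySequence

section General
variable {C ι : Type*} [Category C] [Abelian C] {c : ComplexShape ι}
  {S₁ S₂ : ShortComplex (HomologicalComplex C c)} (φ : S₁ ⟶ S₂)
  (hS₁ : S₁.ShortExact) (hS₂ : S₂.ShortExact)

include hS₁ hS₂

theorem epi_homologyMap_τ₂ (i j : ι) (hij : c.Rel i j)
    (h₁ : Epi (homologyMap φ.τ₁ i)) (h₃ : Epi (homologyMap φ.τ₃ i))
    (h₁' : Mono (homologyMap φ.τ₁ j)) : Epi (homologyMap φ.τ₂ i) := by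
  apply epi_of_epi_of_epi_of_mono
    ((δlastFunctor ⋙ δlastFunctor).map (mapComposableArrows₅ φ hS₁ hS₂ i j hij))
  · exact (composableArrows₅_exact hS₁ i j hij).δlast.δlast
  · exact (composableArrows₅_exact hS₂ i j hij).δlast.δlast
  · exact h₁
  · exact h₃
  · exact h₁'

theorem mono_homologyMap_τ₂ (i j : ι) (hij : c.Rel i j)
    (h₃ : Epi (homologyMap φ.τ₃ i)) (h₁ : Mono (homologyMap φ.τ₁ j))
    (h₃' : Mono (homologyMap φ.τ₃ j)) : Mono (homologyMap φ.τ₂ j) := by
  apply mono_of_epi_of_mono_of_mono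
    ((δ₀Functor ⋙ δ₀Functor).map (mapComposableArrows₅ φ hS₁ hS₂ i j hij))
  · exact (composableArrows₅_exact hS₁ i j hij).δ₀.δ₀
  · exact (composableArrows₅_exact hS₂ i j hij).δ₀.δ₀
  · exact h₃
  · exact h₁
  · exact h₃'

end General

section Int
variable {C : Type u} [Category.{v} C] [Abelian C]
  {S₁ S₂ : ShortComplex (CochainComplex C ℤ)} (φ : S₁ ⟶ S₂)
  (hS₁ : S₁.ShortExact) (hS₂ : S₂.ShortExact)

include hS₁ hS₂

theorem isIso_homologyMap_τ₂ (i : ℤ)
    (h₁ : IsIso (homologyMap φ.τ₁ i)) (h₁' : Mono (homologyMap φ.τ₁ (i + 1)))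
    (h₃ : IsIso (homologyMap φ.τ₃ i)) (h₃' : Epi (homologyMap φ.τ₃ (i - 1))) :
    IsIso (homologyMap φ.τ₂ i) := by
  have := epi_homologyMap_τ₂ φ hS₁ hS₂ i (i + 1) (by simp) inferInstance inferInstance h₁'
  have := mono_homologyMap_τ₂ φ hS₁ hS₂ (i - 1) i (by simp) h₃' inferInstance inferInstance
  exact isIso_of_mono_of_epi _

theorem quasiIso_τ₂ (h₁ : QuasiIso φ.τ₁) (h₃ : QuasiIso φ.τ₃) : QuasiIso φ.τ₂ := by
  rw [quasiIso_iff]
  intro i
  rw [quasiIsoAt_iff_isIso_homologyMap]
  apply isIso_homologyMap_τ₂ φ hS₁ hS₂ i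
  all_goals infer_instance

end Int

end Groth.Agent.Lib.Helper17.PCoh4
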