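import Groth.Agent.Lib.Helper17PCoh4
import Mathlib.Algebra.Homology.HomologicalComplexAbelian
import Mathlib.CategoryTheory.Abelian.DiagramLemmas.Four

/-! Pseudo-coherence, part 5: enlarging the sub-complex of a short exact sequence of complexes by
pulling back along a map to the quotient (helper17). -/
set_option autoImplicit false
set_option backward.isDefEq.respectTransparency false
set_option backward.isDefEq.respectTransparency.types false
universe v u
open CategoryTheory CategoryTheory.Limits

namespace Groth.Agent.Lib.Helper17.PCoh5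

variable {C : Type u} [Category.{v} C] [Abelian C]
variable (S : ShortComplex (CochainComplex C ℤ)) {T : CochainComplex C ℤ} (ζ : T ⟶ S.X₃)

/-- the inclusion of the sub-complex into the pullback. -/
noncomputable def pbv : S.X₁ ⟶ pullback S.g ζ :=
  pullback.lift S.f 0 (by rw [S.zero, zero_comp])

@[reassoc (attr := simp)]
theorem pbv_fst : pbv S ζ ≫ pullback.fst S.g ζ = S.f := pullback.lift_fst _ _ _

@[reassoc (attr := simp)]
theorem pbv_snd : pbv S ζ ≫ pullback.snd S.g ζ = 0 := pullback.lift_snd _ _ _

/-- the pulled back short complex `X₁ ⟶ X₂ ×_{X₃} T ⟶ T`. -/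
noncomputable def pb : ShortComplex (CochainComplex C ℤ) :=
  ShortComplex.mk (pbv S ζ) (pullback.snd S.g ζ) (pbv_snd S ζ)

/-- the comparison map to the original short complex. -/
noncomputable def pbMap : pb S ζ ⟶ S where
  τ₁ := 𝟙 _
  τ₂ := pullback.fst S.g ζ
  τ₃ := ζ
  comm₁₂ := by
    show 𝟙 _ ≫ S.f = pbv S ζ ≫ pullback.fst S.g ζ
    rw [pbv_fst, Category.id_comp]
  comm₂₃ := pullback.condition

variable {S}

theorem pb_shortExact (hS : S.ShortExact) : (pb S ζ).ShortExact := by
  have := hS.mono_f
  have := hS.epi_g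
  have hm : Mono (pbv S ζ) := mono_of_mono_fac (pbv_fst S ζ)
  have he : Epi (pullback.snd S.g ζ) := Abelian.epi_pullback_of_epi_f S.g ζ
  refine { exact := ?_, mono_f := hm, epi_g := he }
  refine ShortComplex.exact_of_f_is_kernel _ (KernelFork.IsLimit.ofι _ _
    (fun {W} x hx => hS.exact.lift (x ≫ pullback.fst S.g ζ) (by
      rw [Category.assoc, pullback.condition, ← Category.assoc]
      have hx' : x ≫ pullback.snd S.g ζ = 0 := hx
      rw [hx', zero_comp])) ?_ ?_)
  · intro W x hx
    have hx' : x ≫ pullback.snd S.g ζ = 0 := hx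
    apply pullback.hom_ext
    · show (_ ≫ pbv S ζ) ≫ pullback.fst S.g ζ = _
      rw [Category.assoc, pbv_fst, ShortComplex.Exact.lift_f]
    · show (_ ≫ pbv S ζ) ≫ pullback.snd S.g ζ = _
      rw [Category.assoc, pbv_snd, comp_zero, hx']
  · intro W x hx m hm'
    have hm'' : m ≫ pbv S ζ = x := hm'
    rw [← cancel_mono (pbv S ζ), hm'']
    have hx' : x ≫ pullback.snd S.g ζ = 0 := hx
    apply pullback.hom_ext
    · rw [Category.assoc, pbv_fst, ShortComplex.Exact.lift_f]
    · rw [Category.assoc, pbv_snd, comp_zero, hx']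

/-- the pulled back sequence is termwise short exact. -/
theorem pb_shortExact_eval (hS : S.ShortExact) (i : ℤ) :
    ((pb S ζ).map (HomologicalComplex.eval C (ComplexShape.up ℤ) i)).ShortExact :=
  (pb_shortExact ζ hS).map_of_exact _

theorem mono_pbv_f (hS : S.ShortExact) (i : ℤ) : Mono ((pbv S ζ).f i) :=
  (pb_shortExact_eval ζ hS i).mono_f

theorem isIso_pbv_f (hS : S.ShortExact) (i : ℤ) (hT : IsZero (T.X i)) :
    IsIso ((pbv S ζ).f i) := by
  have h := pb_shortExact_eval ζ hS i
  have hm : Mono ((pbv S ζ).f i) := h.mono_f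
  have he : Epi ((pbv S ζ).f i) := h.exact.epi_f (hT.eq_of_tgt _ _)
  exact isIso_of_mono_of_epi _

/-- the cokernel of the inclusion is `T`, termwise. -/
noncomputable def cokernelPbvIso (hS : S.ShortExact) (i : ℤ) :
    cokernel ((pbv S ζ).f i) ≅ T.X i :=
  IsColimit.coconePointUniqueUpToIso (cokernelIsCokernel ((pbv S ζ).f i))
    (pb_shortExact_eval ζ hS i).gIsCokernel

end Groth.Agent.Lib.Helper17.PCoh5
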