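import Groth.Agent.Lib.Helper17PCoh5
import Mathlib.Algebra.Homology.HomotopyCategory.Pretriangulated
import Mathlib.Algebra.Homology.Embedding.CochainComplex

/-! Pseudo-coherence, part 6: every morphism of complexes factors as a termwise split
monomorphism followed by a homotopy equivalence (helper17). -/
set_option autoImplicit false
set_option backward.isDefEq.respectTransparency false
set_option backward.isDefEq.respectTransparency.types false
universe v u
open CategoryTheory CategoryTheory.Limits CochainComplex

namespace Groth.Agent.Lib.Helper17.PCoh6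

variable {C : Type u} [Category.{v} C] [Abelian C]

/-- the middle complex of the factorisation. -/
noncomputable abbrev M (E F : CochainComplex C ℤ) : CochainComplex C ℤ := mappingCone (𝟙 E) ⊞ F

/-- the homotopy equivalence. -/
noncomputable abbrev q (E F : CochainComplex C ℤ) : M E F ⟶ F := biprod.snd

variable {E F : CochainComplex C ℤ} (u : E ⟶ F)

/-- the termwise split monomorphism. -/
noncomputable def j : E ⟶ M E F := biprod.lift (mappingCone.inr (𝟙 E)) u

@[reassoc (attr := simp)]
theorem j_q : j u ≫ q E F = u := biprod.lift_snd _ _

theorem j_f_comp (n : ℤ) : (j u).f n ≫ (biprod.fst : M E F ⟶ _).f n ≫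
    (mappingCone.snd (𝟙 E)).v n n (add_zero n) = 𝟙 _ := by
  rw [← Category.assoc, ← HomologicalComplex.comp_f]
  have : j u ≫ (biprod.fst : M E F ⟶ _) = mappingCone.inr (𝟙 E) := biprod.lift_fst _ _
  rw [this, mappingCone.inr_f_snd_v]

instance (n : ℤ) : Mono ((j u).f n) := mono_of_mono_fac (j_f_comp u n)

instance : Mono (j u) := HomologicalComplex.mono_of_mono_f (j u) inferInstance

/-- the second projection is a homotopy equivalence. -/
noncomputable def homotopyEquiv (E F : CochainComplex C ℤ) : HomotopyEquiv (M E F) F where
  hom := q E F
  inv := biprod.inr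
  homotopyHomInvId :=
    let h₀ : Homotopy (𝟙 (mappingCone (𝟙 E))) 0 := mappingCone.homotopyToZeroOfId E
    let h₁ := (h₀.compRight
      (biprod.inl : _ ⟶ mappingCone (𝟙 E) ⊞ F)).compLeft
        (biprod.fst : mappingCone (𝟙 E) ⊞ F ⟶ _)
    let h₂ := Homotopy.add h₁ (Homotopy.refl (biprod.snd ≫ biprod.inr))
    (Homotopy.ofEq (by simp)).trans (h₂.symm.trans (Homotopy.ofEq (by simp)))
  homotopyInvHomId := Homotopy.ofEq (by simp)

instance (E F : CochainComplex C ℤ) : QuasiIso (q E F) := (homotopyEquiv E F).quasiIso_hom

/-- the short exact sequence `E ⟶ M ⟶ M / E`. -/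
noncomputable def S : ShortComplex (CochainComplex C ℤ) :=
  ShortComplex.mk (j u) (cokernel.π (j u)) (cokernel.condition _)

theorem S_shortExact : (S u).ShortExact :=
  { exact := ShortComplex.exact_of_g_is_cokernel _ (cokernelIsCokernel _)
    mono_f := by dsimp [S]; infer_instance
    epi_g := by dsimp [S]; infer_instance }

/-- the homology of `j` and of `u` agree. -/
theorem homologyMap_j (i : ℤ) :
    HomologicalComplex.homologyMap (j u) i ≫ HomologicalComplex.homologyMap (q E F) i =
      HomologicalComplex.homologyMap u i := by
  rw [← HomologicalComplex.homologyMap_comp, j_q]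

theorem isIso_homologyMap_j_iff (i : ℤ) :
    IsIso (HomologicalComplex.homologyMap (j u) i) ↔ IsIso (HomologicalComplex.homologyMap u i) := by
  have : IsIso (HomologicalComplex.homologyMap (q E F) i) := inferInstance
  rw [← homologyMap_j u i]
  constructor
  · intro h; infer_instance
  · intro h
    exact IsIso.of_isIso_comp_right _ (HomologicalComplex.homologyMap (q E F) i)

theorem epi_homologyMap_j_iff (i : ℤ) :
    Epi (HomologicalComplex.homologyMap (j u) i) ↔ Epi (HomologicalComplex.homologyMap u i) := by
  have : IsIso (HomologicalComplex.homologyMap (q E F) i) := inferInstance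
  rw [← homologyMap_j u i]
  constructor
  · intro h; infer_instance
  · intro h
    have e : HomologicalComplex.homologyMap (j u) i =
        (HomologicalComplex.homologyMap (j u) i ≫ HomologicalComplex.homologyMap (q E F) i) ≫
          inv (HomologicalComplex.homologyMap (q E F) i) := by
      rw [Category.assoc, IsIso.hom_inv_id, Category.comp_id]
    rw [e]
    infer_instance

end Groth.Agent.Lib.Helper17.PCoh6
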