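import Groth.Agent.Lib.Helper17PCoh6

/-! Pseudo-coherence, part 7: an `n`-quasi-isomorphism factors as a monomorphism, bijective in
degrees `≥ n`, followed by a quasi-isomorphism (helper17). -/
set_option autoImplicit false
set_option backward.isDefEq.respectTransparency false
set_option backward.isDefEq.respectTransparency.types false
universe v u
open CategoryTheory CategoryTheory.Limits CochainComplex

namespace Groth.Agent.Lib.Helper17.PCoh7

open Groth.Agent.Lib.Helper17.PCoh4 Groth.Agent.Lib.Helper17.PCoh5 Groth.Agent.Lib.Helper17.PCoh6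

variable {C : Type u} [Category.{v} C] [Abelian C]

/-- the cokernel of `j u` is exact in degrees `≥ n` when `u` is an `n`-quasi-isomorphism. -/
theorem exactAt_cokernel {E F : CochainComplex C ℤ} (u : E ⟶ F) (n : ℤ)
    (hiso : ∀ i : ℤ, n < i → IsIso (HomologicalComplex.homologyMap u i))
    (hepi : Epi (HomologicalComplex.homologyMap u n)) (i : ℤ) (hi : n ≤ i) :
    (S u).X₃.ExactAt i := by
  refine (S_shortExact u).exactAt_X₃ i ?_ ?_
  · show Epi (HomologicalComplex.homologyMap (j u) i)
    rw [epi_homologyMap_j_iff]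
    rcases hi.eq_or_lt with rfl | hlt
    · exact hepi
    · have := hiso i hlt
      infer_instance
  · intro k hk
    have hk' : i + 1 = k := hk
    show Mono (HomologicalComplex.homologyMap (j u) k)
    have : IsIso (HomologicalComplex.homologyMap (j u) k) := by
      rw [isIso_homologyMap_j_iff]
      exact hiso k (by omega)
    infer_instance

theorem exists_factorisation (n : ℤ) (E F : CochainComplex C ℤ) (u : E ⟶ F)
    (hiso : ∀ i : ℤ, n < i → IsIso (HomologicalComplex.homologyMap u i))
    (hepi : Epi (HomologicalComplex.homologyMap u n)) :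
    ∃ (E' : CochainComplex C ℤ) (v : E ⟶ E') (u' : E' ⟶ F), v ≫ u' = u ∧ QuasiIso u' ∧
      (∀ i : ℤ, Mono (v.f i)) ∧ (∀ i : ℤ, n ≤ i → IsIso (v.f i)) := by
  have hS := S_shortExact u
  have hLE : (S u).X₃.IsLE (n - 1) := by
    rw [isLE_iff]
    intro i hi
    exact exactAt_cokernel u n hiso hepi i (by omega)
  set ζ := (S u).X₃.ιTruncLE (n - 1) with hζ
  have hζq : QuasiIso ζ := inferInstance
  have hfst : QuasiIso (pbMap (S u) ζ).τ₂ :=
    quasiIso_τ₂ (pbMap (S u) ζ) (pb_shortExact ζ hS) hS
      (by show QuasiIso (𝟙 _); infer_instance) hζq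
  have hfst' : QuasiIso (pullback.fst (S u).g ζ) := hfst
  refine ⟨pullback (S u).g ζ, pbv (S u) ζ, pullback.fst (S u).g ζ ≫ q E F, ?_, ?_, ?_, ?_⟩
  · rw [← Category.assoc, pbv_fst]
    exact j_q u
  · infer_instance
  · intro i
    exact mono_pbv_f ζ hS i
  · intro i hi
    exact isIso_pbv_f ζ hS i (((S u).X₃.truncLE (n - 1)).isZero_of_isStrictlyLE (n - 1) i (by omega))

end Groth.Agent.Lib.Helper17.PCoh7
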