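import Groth.Agent.Lib.Helper17PCoh7
import Groth.Agent.Lib.Helper17PCoh1
import Mathlib.Algebra.Homology.HomotopyCategory.ShortExact
import Mathlib.Algebra.Homology.SingleHomology

/-! Pseudo-coherence, part 8: modifying a complex in one degree to improve an
`(n+1)`-quasi-isomorphism to an `n`-quasi-isomorphism (helper17). -/
set_option autoImplicit false
set_option backward.isDefEq.respectTransparency false
set_option backward.isDefEq.respectTransparency.types false
universe v u
open CategoryTheory CategoryTheory.Limits CochainComplex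

namespace Groth.Agent.Lib.Helper17.PCoh8

open Groth.Agent.Lib.Helper17.PCoh4 Groth.Agent.Lib.Helper17.PCoh5 Groth.Agent.Lib.Helper17.PCoh6
  Groth.Agent.Lib.Helper17.PCoh7

variable {C : Type u} [Category.{v} C] [Abelian C]

section ConeMap
variable {K₁ L₁ K₂ L₂ : CochainComplex C ℤ} (φ₁ : K₁ ⟶ L₁) (φ₂ : K₂ ⟶ L₂)
  (a : K₁ ⟶ K₂) (b : L₁ ⟶ L₂) (comm : φ₁ ≫ b = a ≫ φ₂)

theorem triangleRotateShortComplex_shortExact {K L : CochainComplex C ℤ} (φ : K ⟶ L) :
    (mappingCone.triangleRotateShortComplex φ).ShortExact :=
  HomologicalComplex.shortExact_of_degreewise_shortExact _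
    (fun i => (mappingCone.triangleRotateShortComplexSplitting φ i).shortExact)

/-- the morphism of rotated short exact sequences induced by a commutative square. -/
noncomputable def rotateMap :
    mappingCone.triangleRotateShortComplex φ₁ ⟶ mappingCone.triangleRotateShortComplex φ₂ where
  τ₁ := b
  τ₂ := mappingCone.map φ₁ φ₂ a b comm
  τ₃ := a⟦(1 : ℤ)⟧'
  comm₁₂ := ((mappingCone.triangleMap φ₁ φ₂ a b comm).comm₂).symm
  comm₂₃ := ((mappingCone.triangleMap φ₁ φ₂ a b comm).comm₃).symm

theorem quasiIso_map [QuasiIso a] [QuasiIso b] : QuasiIso (mappingCone.map φ₁ φ₂ a b comm) :=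
  quasiIso_τ₂ (rotateMap φ₁ φ₂ a b comm) (triangleRotateShortComplex_shortExact φ₁)
    (triangleRotateShortComplex_shortExact φ₂) (by show QuasiIso b; infer_instance)
    (by show QuasiIso (a⟦(1 : ℤ)⟧'); infer_instance)

end ConeMap

section Compare
variable {E F : CochainComplex C ℤ} (u : E ⟶ F)

/-- the homology of the cokernel of `j u` is the homology of the mapping cone of `u`. -/
noncomputable def homologyIso (n : ℤ) :
    (mappingCone u).homology n ≅ (S u).X₃.homology n := by
  have h1 : QuasiIso (mappingCone.map (j u) u (𝟙 E) (q E F)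
      (by rw [j_q, Category.id_comp])) := quasiIso_map _ _ _ _ _
  have h2 : QuasiIso (mappingCone.descShortComplex (S u)) :=
    mappingCone.quasiIso_descShortComplex (S_shortExact u)
  exact (asIso (HomologicalComplex.homologyMap (mappingCone.map (j u) u (𝟙 E) (q E F)
      (by rw [j_q, Category.id_comp])) n)).symm ≪≫
    asIso (HomologicalComplex.homologyMap (mappingCone.descShortComplex (S u)) n)

end Compare

section Lift
variable (P : ObjectProperty C)

/-- lifting a finite type presentation of the homology to cycles. -/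
theorem exists_cycle_lift (hql : PCoh.IsQuasiLiftable P) (N : CochainComplex C ℤ) (n : ℤ)
    (hN : PCoh.IsOfFiniteType P (N.homology n)) :
    ∃ (L : C) (z : L ⟶ N.cycles n), P L ∧ Epi (z ≫ N.homologyπ n) := by
  obtain ⟨L₀, π₀, hL₀, hπ₀⟩ := hN
  have he : Epi (pullback.snd (N.homologyπ n) π₀) :=
    Abelian.epi_pullback_of_epi_f (N.homologyπ n) π₀
  obtain ⟨L, w, hL, hw⟩ := hql _ _ (pullback.snd (N.homologyπ n) π₀) he hL₀
  refine ⟨L, w ≫ pullback.fst (N.homologyπ n) π₀, hL, ?_⟩
  rw [Category.assoc, pullback.condition, ← Category.assoc]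
  infer_instance

variable {P}

/-- the map from a single complex given by a cycle. -/
noncomputable def cycleMap {N : CochainComplex C ℤ} {n : ℤ} {L : C} (z : L ⟶ N.cycles n) :
    (HomologicalComplex.single C (ComplexShape.up ℤ) n).obj L ⟶ N :=
  HomologicalComplex.mkHomFromSingle (z ≫ N.iCycles n) (fun k _ => by
    rw [Category.assoc, HomologicalComplex.iCycles_d, comp_zero])

theorem epi_homologyMap_cycleMap {N : CochainComplex C ℤ} {n : ℤ} {L : C} (z : L ⟶ N.cycles n)
    (hz : Epi (z ≫ N.homologyπ n)) : Epi (HomologicalComplex.homologyMap (cycleMap z) n) := by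
  have e1 : HomologicalComplex.cyclesMap (cycleMap z) n =
      (HomologicalComplex.singleObjCyclesSelfIso (ComplexShape.up ℤ) n L).hom ≫ z := by
    rw [← cancel_mono (N.iCycles n), HomologicalComplex.cyclesMap_i, Category.assoc,
      HomologicalComplex.singleObjCyclesSelfIso_hom, Category.assoc]
    congr 1
    exact HomologicalComplex.mkHomFromSingle_f _ _
  have e2 := HomologicalComplex.homologyπ_naturality (cycleMap z) n
  have : Epi (((HomologicalComplex.single C (ComplexShape.up ℤ) n).obj L).homologyπ n ≫
      HomologicalComplex.homologyMap (cycleMap z) n) := by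
    rw [e2, e1, Category.assoc]
    infer_instance
  exact epi_of_epi (((HomologicalComplex.single C (ComplexShape.up ℤ) n).obj L).homologyπ n) _

end Lift

end Groth.Agent.Lib.Helper17.PCoh8
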