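import Groth.Agent.Lib.Helper17PCoh8

/-! Pseudo-coherence, part 9: the one step modification (helper17). -/
set_option autoImplicit false
set_option backward.isDefEq.respectTransparency false
set_option backward.isDefEq.respectTransparency.types false
universe v u
open CategoryTheory CategoryTheory.Limits CochainComplex

namespace Groth.Agent.Lib.Helper17.PCoh9

open Groth.Agent.Lib.Helper17.PCoh4 Groth.Agent.Lib.Helper17.PCoh5 Groth.Agent.Lib.Helper17.PCoh6
  Groth.Agent.Lib.Helper17.PCoh7 Groth.Agent.Lib.Helper17.PCoh8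

variable {C : Type u} [Category.{v} C] [Abelian C]

theorem epi_of_isZero_tgt {X Y : C} (f : X ⟶ Y) (h : IsZero Y) : Epi f :=
  ⟨fun _ _ _ => h.eq_of_src _ _⟩

theorem mono_of_isZero_src {X Y : C} (f : X ⟶ Y) (h : IsZero X) : Mono f :=
  ⟨fun _ _ _ => h.eq_of_tgt _ _⟩

theorem exists_modification (P : ObjectProperty C) [P.IsClosedUnderIsomorphisms]
    (hql : PCoh.IsQuasiLiftable P)
    (n : ℤ) (E F : CochainComplex C ℤ) (u : E ⟶ F)
    (hiso : ∀ i : ℤ, n + 1 < i → IsIso (HomologicalComplex.homologyMap u i))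
    (hepi : Epi (HomologicalComplex.homologyMap u (n + 1)))
    (hcone : PCoh.IsOfFiniteType P ((CochainComplex.mappingCone u).homology n)) :
    ∃ (E' : CochainComplex C ℤ) (v : E ⟶ E') (u' : E' ⟶ F), v ≫ u' = u ∧ (∀ i : ℤ, Mono (v.f i)) ∧
      (∀ i : ℤ, i ≠ n → IsIso (v.f i)) ∧ P (cokernel (v.f n)) ∧
      (∀ i : ℤ, n < i → IsIso (HomologicalComplex.homologyMap u' i)) ∧
      Epi (HomologicalComplex.homologyMap u' n) := by
  have hS := S_shortExact u
  have hNft : PCoh.IsOfFiniteType P ((S u).X₃.homology n) :=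
    Groth.Agent.Lib.Helper17.PCoh1.isOfFiniteType_of_epi P (homologyIso u n).hom hcone
  obtain ⟨L, z, hL, hz⟩ := exists_cycle_lift P hql (S u).X₃ n hNft
  set ζ := cycleMap z with hζ
  have hζn : Epi (HomologicalComplex.homologyMap ζ n) := epi_homologyMap_cycleMap z hz
  have hNz : ∀ i : ℤ, n < i → IsZero ((S u).X₃.homology i) := fun i hi =>
    (exactAt_cokernel u (n + 1) hiso hepi i (by omega)).isZero_homology
  have hTz : ∀ i : ℤ, i ≠ n →
      IsZero (((HomologicalComplex.single C (ComplexShape.up ℤ) n).obj L).homology i) :=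
    fun i hi => HomologicalComplex.isZero_single_obj_homology _ _ _ _ hi
  have hS' := pb_shortExact ζ hS
  have hid : ∀ i : ℤ, IsIso (HomologicalComplex.homologyMap (pbMap (S u) ζ).τ₁ i) := fun i => by
    show IsIso (HomologicalComplex.homologyMap (𝟙 _) i)
    rw [HomologicalComplex.homologyMap_id]
    infer_instance
  have hζepi : ∀ i : ℤ, n ≤ i → Epi (HomologicalComplex.homologyMap (pbMap (S u) ζ).τ₃ i) := by
    intro i hi
    show Epi (HomologicalComplex.homologyMap ζ i)
    rcases hi.eq_or_lt with rfl | hlt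
    · exact hζn
    · exact epi_of_isZero_tgt _ (hNz i hlt)
  have hζmono : ∀ i : ℤ, n < i → Mono (HomologicalComplex.homologyMap (pbMap (S u) ζ).τ₃ i) := by
    intro i hi
    show Mono (HomologicalComplex.homologyMap ζ i)
    exact mono_of_isZero_src _ (hTz i (by omega))
  have hfstepi : ∀ i : ℤ, n ≤ i →
      Epi (HomologicalComplex.homologyMap (pullback.fst (S u).g ζ) i) := fun i hi => by
    have := hid i
    have := hid (i + 1)
    exact epi_homologyMap_τ₂ (pbMap (S u) ζ) hS' hS i (i + 1) (by simp) inferInstance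
      (hζepi i hi) inferInstance
  have hfstmono : ∀ i : ℤ, n < i →
      Mono (HomologicalComplex.homologyMap (pullback.fst (S u).g ζ) i) := fun i hi => by
    have := hid i
    exact mono_homologyMap_τ₂ (pbMap (S u) ζ) hS' hS (i - 1) i (by simp)
      (hζepi (i - 1) (by omega)) inferInstance (hζmono i hi)
  refine ⟨pullback (S u).g ζ, pbv (S u) ζ, pullback.fst (S u).g ζ ≫ q E F, ?_, ?_, ?_, ?_, ?_, ?_⟩
  · rw [← Category.assoc, pbv_fst]
    exact j_q u
  · intro i
    exact mono_pbv_f ζ hS i
  · intro i hi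
    exact isIso_pbv_f ζ hS i (HomologicalComplex.isZero_single_obj_X _ _ _ _ hi)
  · exact P.prop_of_iso ((cokernelPbvIso ζ hS n) ≪≫
      HomologicalComplex.singleObjXSelf (ComplexShape.up ℤ) n L).symm hL
  · intro i hi
    rw [HomologicalComplex.homologyMap_comp]
    have := hfstepi i hi.le
    have := hfstmono i hi
    have : IsIso (HomologicalComplex.homologyMap (pullback.fst (S u).g ζ) i) :=
      isIso_of_mono_of_epi _
    infer_instance
  · rw [HomologicalComplex.homologyMap_comp]
    have := hfstepi n le_rfl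
    infer_instance

end Groth.Agent.Lib.Helper17.PCoh9
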