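-- helper17: open covers of the spectrum of a product of local rings are refined by finite partitions.
import Mathlib.RingTheory.Spectrum.Prime.Topology
import Mathlib.RingTheory.LocalRing.Basic
import Mathlib.RingTheory.LocalRing.MaximalIdeal.Basic

universe u

namespace Groth.Agent.Lib.Helper17

open PrimeSpectrum

theorem exists_partition_refining {ι : Type u} (R : ι → Type u)
    [∀ i, CommRing (R i)] [∀ i, IsLocalRing (R i)] {J : Type u}
    (U : J → TopologicalSpace.Opens (PrimeSpectrum (∀ i, R i))) (hU : ⨆ j, U j = ⊤) :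
    ∃ (n : ℕ) (c : ι → Fin n), ∀ m : Fin n, ∃ j : J,
      PrimeSpectrum.basicOpen (fun i => if c i = m then (1 : R i) else 0) ≤ U j := by
  classical
  have h1 : ∀ x : PrimeSpectrum (∀ i, R i), ∃ (j : J) (f : ∀ i, R i),
      x ∈ basicOpen f ∧ basicOpen f ≤ U j := by
    intro x
    have hx : x ∈ (⨆ j, U j) := by rw [hU]; trivial
    obtain ⟨j, hj⟩ := TopologicalSpace.Opens.mem_iSup.1 hx
    obtain ⟨_, ⟨f, rfl⟩, hxf, hfU⟩ :=
      TopologicalSpace.Opens.isBasis_iff_nbhd.1 isBasis_basic_opens hj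
    exact ⟨j, f, hxf, hfU⟩
  choose j f hxf hfU using h1
  have hspan : Ideal.span (Set.range f) = ⊤ := by
    rw [← iSup_basicOpen_eq_top_iff]
    apply top_unique
    intro x _
    exact TopologicalSpace.Opens.mem_iSup.2 ⟨x, hxf x⟩
  have hone : (1 : ∀ i, R i) ∈ Ideal.span (Set.range f) := by rw [hspan]; trivial
  obtain ⟨c, hc⟩ := Finsupp.mem_span_range_iff_exists_finsupp.1 hone
  let t := c.support
  have hunit : ∀ i : ι, ∃ x ∈ t, IsUnit (f x i) := by
    intro i
    by_contra hcon
    push_neg at hcon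
    have hsum : ∑ x ∈ t, c x i * f x i = 1 := by
      have := congrFun hc i
      simpa [Finsupp.sum, t] using this
    have hmem : ∑ x ∈ t, c x i * f x i ∈ IsLocalRing.maximalIdeal (R i) := by
      apply Submodule.sum_mem
      intro x hx
      apply Ideal.mul_mem_left
      exact (IsLocalRing.mem_maximalIdeal _).2 (hcon x hx)
    rw [hsum] at hmem
    exact (IsLocalRing.maximalIdeal (R i)).ne_top_iff_one.1 (IsLocalRing.maximalIdeal.isMaximal _).ne_top hmem
  choose xi hxit hxiu using hunit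
  let e : t ≃ Fin t.card := t.equivFin
  refine ⟨t.card, fun i => e ⟨xi i, hxit i⟩, fun m => ?_⟩
  let x : PrimeSpectrum (∀ i, R i) := (e.symm m).1
  refine ⟨j x, le_trans ?_ (hfU x)⟩
  have hx : ∀ i, e ⟨xi i, hxit i⟩ = m → xi i = x := by
    intro i hi
    have : (⟨xi i, hxit i⟩ : t) = e.symm m := by rw [← hi, Equiv.symm_apply_apply]
    exact congrArg Subtype.val this
  let g : ∀ i, R i := fun i =>
    if h : e ⟨xi i, hxit i⟩ = m then ((hx i h ▸ hxiu i : IsUnit (f x i)).unit⁻¹ : (R i)ˣ) else 0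
  have hfg : (fun i => if e ⟨xi i, hxit i⟩ = m then (1 : R i) else 0) = f x * g := by
    funext i
    by_cases h : e ⟨xi i, hxit i⟩ = m
    · simp only [h, if_true, Pi.mul_apply, g, dif_pos]
      exact (IsUnit.mul_val_inv _).symm
    · simp [h, g]
  rw [hfg]
  exact basicOpen_mul_le_left _ _

end Groth.Agent.Lib.Helper17
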