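import Groth.Agent.Lib.Helper17SSSerre
import Groth.Agent.Lib.Helper23SS5
import Groth.Agent.S12229

/-!
# Helper17: cohomology of `RF : D⁺(C') ⥤ D⁺(C'')` stays in a weak Serre class

If `R^j S` sends a class `P'` of objects of `C'` into a weak Serre class `P''` of `C''`, then for every
`E ∈ D⁺(C')` with cohomology in `P'`, the cohomology objects of `S.rightDerivedFunctorPlus.obj E`
lie in `P''` (hypercohomology spectral sequence of helper23 + `SSSerre.prop_abutment`).
-/

set_option autoImplicit false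
universe w w' v v' u u'
open CategoryTheory Limits

namespace Groth.Agent.Lib.Helper17.PlusSerre

open Groth.Agent.Lib.Helper23SS3 Groth.Agent.Lib.Helper23SS5 Groth.Agent.S12229

variable {C' : Type u} [Category.{v} C'] [Abelian C'] [EnoughInjectives C']
  [HasDerivedCategory.{w} C']
  {C'' : Type u'} [Category.{v'} C''] [Abelian C''] [HasDerivedCategory.{w'} C'']
  (S : C' ⥤ C'') [S.Additive]

/-- the homology of `RS⁺` at a bounded below complex of injectives. -/
theorem nonempty_homology_rightDerivedFunctorPlus_iso (E : DerivedCategory.Plus C')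
    (K : CochainComplex.Plus C') (e₀ : DerivedCategory.Plus.Q.obj K ≅ E)
    (Jc : CochainComplex C' ℤ) (d : ℤ) (hJb : Jc.IsStrictlyGE d) (hJ : ∀ k, Injective (Jc.X k))
    (q : K.obj ⟶ Jc) (hq : QuasiIso q) (i : ℤ) :
    Nonempty ((DerivedCategory.Plus.homologyFunctor C'' i).obj (S.rightDerivedFunctorPlus.obj E) ≅
      ((S.mapHomologicalComplex (ComplexShape.up ℤ)).obj Jc).homology i) := by
  let a : K ⟶ ⟨Jc, d, hJb⟩ := ObjectProperty.homMk q
  haveI := isIso_τ S Jc d hJb hJ
  haveI := isIso_Qh_map a hq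
  let i0 := DerivedCategory.Plus.ι.mapIso (S.rightDerivedFunctorPlus.mapIso e₀.symm)
  let i1 := DerivedCategory.Plus.ι.mapIso (S.rightDerivedFunctorPlus.mapIso
    (asIso (DerivedCategory.Plus.Qh.map ((HomotopyCategory.Plus.quotient C').map a))))
  let i2 := asIso (τ S ⟨Jc, d, hJb⟩)
  let i3 := (DerivedCategory.homologyFunctorFactors C'' i).app
    ((S.mapHomologicalComplex (ComplexShape.up ℤ)).obj Jc)
  exact ⟨(DerivedCategory.homologyFunctor C'' i).mapIso (i0 ≪≫ i1 ≪≫ i2.symm) ≪≫ i3⟩

/-- **Cohomology of `RS⁺` stays in a weak Serre class.** -/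
theorem prop_homology_rightDerivedFunctorPlus
    (P' : ObjectProperty C') [P'.IsClosedUnderIsomorphisms]
    (P'' : ObjectProperty C'') [WSerre.IsWeakSerre P'']
    (hS : ∀ N, P' N → ∀ j : ℕ, P'' ((S.rightDerived j).obj N))
    (E : DerivedCategory.Plus C')
    (hE : ∀ i, P' ((DerivedCategory.Plus.homologyFunctor C' i).obj E)) (i : ℤ) :
    P'' ((DerivedCategory.Plus.homologyFunctor C'' i).obj (S.rightDerivedFunctorPlus.obj E)) := by
  obtain ⟨K, ⟨e₀⟩⟩ : ∃ K : CochainComplex.Plus C',
      Nonempty (DerivedCategory.Plus.Q.obj K ≅ E) := by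
    obtain ⟨Kh, ⟨e1⟩⟩ := Functor.EssSurj.mem_essImage (F := DerivedCategory.Plus.Qh (C := C')) E
    obtain ⟨K, ⟨e2⟩⟩ := Functor.EssSurj.mem_essImage (F := HomotopyCategory.Plus.quotient C') Kh
    exact ⟨K, ⟨DerivedCategory.Plus.Qh.mapIso e2 ≪≫ e1⟩⟩
  obtain ⟨n, hn⟩ := K.property
  haveI : K.obj.IsStrictlyGE n := hn
  obtain ⟨Jc, q, hq, hJ, hJb⟩ :=
    CochainComplex.Plus.modelCategoryQuillen.exists_quasiIso_injective K.obj n
  obtain ⟨e1⟩ := nonempty_homology_rightDerivedFunctorPlus_iso S E K e₀ Jc n hJb hJ q hq i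
  refine P''.prop_of_iso e1.symm ?_
  -- the shifted complex, in degrees `≥ 0`
  let L : CochainComplex C' ℤ := Jc⟦n⟧
  haveI hL0 : L.IsStrictlyGE 0 := CochainComplex.isStrictlyGE_shift Jc n n 0 (by lia)
  have hLinj : ∀ k, Injective (L.X k) := fun k => hJ _
  let K' : CochainComplex.Plus C' := ⟨L, 0, hL0⟩
  let Y := DerivedCategory.Plus.Q.obj K'
  let eY : DerivedCategory.Plus.ι.obj Y ≅ DerivedCategory.Q.obj L :=
    (DerivedCategory.quotientCompQhIso C').app L
  haveI : Y.IsGE 0 := by
    rw [← DerivedCategory.Plus.isGE_ι_obj_iff]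
    have : (DerivedCategory.Q.obj L).IsGE 0 := by
      rw [DerivedCategory.isGE_Q_obj_iff]; infer_instance
    exact DerivedCategory.TStructure.t.isGE_of_iso eY.symm 0
  have hK' : IsIso (τ S K') := isIso_τ S L 0 hL0 hLinj
  obtain ⟨E', a, hfin, -, hpq⟩ := exists_spectralSequence S Y
    (fun m => ((S.mapHomologicalComplex (ComplexShape.up ℤ)).obj L).homology m)
    (fun m => (homology_G_Q S K' hK' m).some)
  have hpage : ∀ pq, P'' ((E'.page 2 le_rfl).X pq) := by
    rintro ⟨p, q'⟩
    by_cases h : 0 ≤ p ∧ 0 ≤ q'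
    · obtain ⟨j, hj⟩ := Int.eq_ofNat_of_zero_le h.1
      obtain ⟨e⟩ := (hpq p q').1 j hj.symm
      refine P''.prop_of_iso e.symm (hS _ ?_ j)
      -- `H^{q'}(Y) ≅ H^{q'+n}(E)`
      let i1 : (DerivedCategory.Plus.homologyFunctor C' q').obj Y ≅ L.homology q' :=
        (DerivedCategory.homologyFunctor C' q').mapIso eY ≪≫
          (DerivedCategory.homologyFunctorFactors C' q').app L
      let i2 : L.homology q' ≅ Jc.homology (n + q') :=
        (CochainComplex.ShiftSequence.shiftIso C' n q' (n + q') rfl).app Jc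
      haveI : IsIso (HomologicalComplex.homologyMap q (n + q')) := by
        have : QuasiIsoAt q (n + q') := inferInstance
        exact (quasiIsoAt_iff_isIso_homologyMap q (n + q')).1 this
      let i3 : K.obj.homology (n + q') ≅ Jc.homology (n + q') :=
        asIso (HomologicalComplex.homologyMap q (n + q'))
      let i4 : (DerivedCategory.Plus.homologyFunctor C' (n + q')).obj E ≅
          K.obj.homology (n + q') :=
        (DerivedCategory.Plus.homologyFunctor C' (n + q')).mapIso e₀.symm ≪≫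
          (DerivedCategory.homologyFunctor C' (n + q')).mapIso
            ((DerivedCategory.quotientCompQhIso C').app K.obj) ≪≫
          (DerivedCategory.homologyFunctorFactors C' (n + q')).app K.obj
      exact P'.prop_of_iso (i4 ≪≫ i3 ≪≫ i2.symm ≪≫ i1.symm) (hE _)
    · exact P''.prop_of_isZero ((hpq p q').2 h)
  have key := SSSerre.prop_abutment P'' E' a 2 le_rfl hpage (i - n) (hfin _)
  let j1 : ((S.mapHomologicalComplex (ComplexShape.up ℤ)).obj L).homology (i - n) ≅
      (((S.mapHomologicalComplex (ComplexShape.up ℤ)).obj Jc)⟦n⟧).homology (i - n) :=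
    (HomologicalComplex.homologyFunctor C'' (ComplexShape.up ℤ) (i - n)).mapIso
      ((S.mapCochainComplexShiftIso n).app Jc)
  let j2 : (((S.mapHomologicalComplex (ComplexShape.up ℤ)).obj Jc)⟦n⟧).homology (i - n) ≅
      ((S.mapHomologicalComplex (ComplexShape.up ℤ)).obj Jc).homology i :=
    (CochainComplex.ShiftSequence.shiftIso C'' n (i - n) i (by lia)).app _
  exact P''.prop_of_iso (j1 ≪≫ j2) key

end Groth.Agent.Lib.Helper17.PlusSerre
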