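import Groth.Agent.Lib.Helper17QCPush2
import Groth.Agent.Lib.Helper23FinTypeLocal
import Groth.Agent.Lib.Helper17AdjWay1
import Groth.Agent.S0015
import Groth.Prelude.Def_CxOX

/-!
# `Rf_*` of a quasi-coherent module has quasi-coherent cohomology for qcqs `f` (helper17)

Mayer–Vietoris induction over the quasi-compact opens of the source.
-/

set_option autoImplicit false

universe u

open CategoryTheory CategoryTheory.Limits AlgebraicGeometry TopologicalSpace Opposite
  DerivedCategory Pretriangulated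

attribute [local instance] HasDerivedCategory.standard

namespace Groth.Agent.Lib.Helper17.QCPush

open Groth.Agent.Lib.Helper17.MV Groth.Agent.Lib.Helper23.QCohLocal

attribute [local instance] hasRpush

section

variable {X S : Scheme.{u}}

/-- `Rf_*` only depends on `f` up to equality. -/
noncomputable def rpushCongr {f f' : X ⟶ S} (h : f = f') (E : DCoh.D X) :
    (DCoh.Rpush f).obj E ≅ (DCoh.Rpush f').obj E := by
  subst h; exact Iso.refl _

/-- restriction to an open of a module placed in degree `0`. -/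
noncomputable def restrictDInDIso {U : Scheme.{u}} (j : U ⟶ X) [IsOpenImmersion j]
    (M : X.Modules) :
    (DCoh.restrictD j).obj (DCoh.inD X M) ≅
      DCoh.inD U ((Scheme.Modules.restrictFunctor j).obj M) :=
  ((Scheme.Modules.restrictFunctor j).mapDerivedCategorySingleFunctor 0).app M

/-- the inductive property. -/
def PInd (f : X ⟶ S) (U : X.Opens) : Prop :=
  ∀ (Z : Scheme.{u}) (i : Z ⟶ X) [IsOpenImmersion i], i.opensRange = U →
    ∀ (N : Z.Modules) [N.IsQuasicoherent],
      DCoh.IsQCohD ((DCoh.Rpush (i ≫ f)).obj (DCoh.inD Z N))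

theorem pInd_affine [IsAffine S] (f : X ⟶ S) (U : X.Opens) (hU : IsAffineOpen U) : PInd f U := by
  intro Z i _ hi N _
  haveI : IsAffine Z := by
    have h : IsAffineOpen i.opensRange := hi ▸ hU
    haveI : IsAffine (i.opensRange : Scheme.{u}) := h
    exact IsAffine.of_isIso i.isoOpensRange.hom
  exact isQCohD_rpush_inD_of_isAffineHom (i ≫ f) N

theorem pInd_sup (f : X ⟶ S) (U V : X.Opens) (hU : PInd f U) (hV : PInd f V)
    (hUV : PInd f (U ⊓ V)) : PInd f (U ⊔ V) := by
  intro Z i _ hi N _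
  have hcov : i ⁻¹ᵁ U ⊔ i ⁻¹ᵁ V = ⊤ := by
    rw [← Scheme.Hom.preimage_sup, ← hi, Scheme.Hom.preimage_opensRange]
  obtain ⟨a, b, c, hT⟩ := mv_triangle_push (i ≫ f) (i ⁻¹ᵁ U) (i ⁻¹ᵁ V) hcov (DCoh.inD Z N)
  have key : ∀ (W : X.Opens), W ≤ U ⊔ V → PInd f W →
      DCoh.IsQCohD ((DCoh.Rpush ((i ⁻¹ᵁ W).ι ≫ i ≫ f)).obj
        ((DCoh.restrictD (i ⁻¹ᵁ W).ι).obj (DCoh.inD Z N))) := by
    intro W hW hP
    have hr : ((i ⁻¹ᵁ W).ι ≫ i).opensRange = W := by
      rw [Scheme.Hom.opensRange_comp, Scheme.Opens.opensRange_ι,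
        Scheme.Hom.image_preimage_eq_opensRange_inf, hi]
      exact inf_eq_right.2 hW
    have h1 := hP _ ((i ⁻¹ᵁ W).ι ≫ i) hr ((Scheme.Modules.restrictFunctor (i ⁻¹ᵁ W).ι).obj N)
    exact isQCohD_of_iso (rpushCongr (Category.assoc _ _ _) _ ≪≫
      (DCoh.Rpush ((i ⁻¹ᵁ W).ι ≫ i ≫ f)).mapIso (restrictDInDIso (i ⁻¹ᵁ W).ι N).symm) h1
  exact isQCohD_obj₁ _ hT
    (isQCohD_biprod (key U le_sup_left hU) (key V le_sup_right hV))
    (key (U ⊓ V) (inf_le_left.trans le_sup_left) hUV)

/-- For `f : X ⟶ S` with `X` quasi-compact quasi-separated and `S` affine, `Rf_*(N[0])` has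
quasi-coherent cohomology for quasi-coherent `N`. -/
theorem isQCohD_rpush_inD_of_isAffine [IsAffine S] [CompactSpace X] [QuasiSeparatedSpace X]
    (f : X ⟶ S) (N : X.Modules) [N.IsQuasicoherent] :
    DCoh.IsQCohD ((DCoh.Rpush f).obj (DCoh.inD X N)) := by
  have h := Groth.Agent.S0015.result X (PInd f) (pInd_affine f)
    (fun U V _ _ hU hV hUV => pInd_sup f U V hU hV hUV) ⊤ isCompact_univ
  have h1 := h X (𝟙 X) (Scheme.Hom.opensRange_of_isIso _) N
  exact isQCohD_of_iso (rpushCongr (Category.id_comp f) _) h1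

end

end Groth.Agent.Lib.Helper17.QCPush
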