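import Mathlib
import Groth.Agent.Lib.Helper23Bridge
import Groth.Agent.Lib.Helper23DerComp

/-!
# Right derived functors of `E ⋙ G` on `E`-acyclic objects (helper23)

For `E` left exact and preserving injectives and `Z` with `R^{q+1}E Z = 0` for all `q`:
`mapInjResOfAcyclic`: `E` maps an injective resolution of `Z` to an injective resolution of `E Z`;
`compIsoOfAcyclic : R^n(E ⋙ G) Z ≅ R^n G (E Z)`.
-/

open CategoryTheory Limits

namespace Groth.Agent.Lib.Helper23DerCompAcyclic

universe v v' v'' u u' u''

variable {C₀ : Type u''} [Category.{v''} C₀] [Abelian C₀] [EnoughInjectives C₀]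
  {C : Type u} [Category.{v} C] [Abelian C]
  {D : Type u'} [Category.{v'} D] [Abelian D]

/-- A left exact functor preserving injectives maps an injective resolution of an acyclic object to an injective
resolution. -/
noncomputable def mapInjResOfAcyclic (E : C₀ ⥤ C) [E.Additive] [E.PreservesInjectiveObjects]
    [PreservesFiniteLimits E] {Z : C₀} (I : InjectiveResolution Z)
    (h : ∀ q : ℕ, IsZero ((E.rightDerived (q + 1)).obj Z)) : InjectiveResolution (E.obj Z) where
  cocomplex := (E.mapHomologicalComplex _).obj I.cocomplex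
  injective n := Functor.PreservesInjectiveObjects.injective_obj (I.injective n)
  ι := (HomologicalComplex.singleMapHomologicalComplex _ _ _).inv.app _ ≫
    (E.mapHomologicalComplex _).map I.ι
  quasiIso := by
    haveI : QuasiIso ((E.mapHomologicalComplex (ComplexShape.up ℕ)).map I.ι) := by
      rw [Groth.Agent.Lib.Helper23Bridge.quasiIso_nat_iff]
      refine ⟨inferInstance, fun k hk => ?_⟩
      obtain ⟨k, rfl⟩ := Nat.exists_eq_succ_of_ne_zero hk.ne'
      exact h k
    infer_instance

variable [HasInjectiveResolutions C]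
  (E : C₀ ⥤ C) [E.Additive] [E.PreservesInjectiveObjects] [PreservesFiniteLimits E]
  (G : C ⥤ D) [G.Additive]

/-- `Rⁿ(E ⋙ G) Z ≅ Rⁿ G (E Z)` for `Z` acyclic for `E`. -/
noncomputable def compIsoOfAcyclic {Z : C₀} (h : ∀ q : ℕ, IsZero ((E.rightDerived (q + 1)).obj Z)) (n : ℕ) :
    ((E ⋙ G).rightDerived n).obj Z ≅ (G.rightDerived n).obj (E.obj Z) :=
  (injectiveResolution Z).isoRightDerivedObj (E ⋙ G) n ≪≫
    ((mapInjResOfAcyclic E (injectiveResolution Z) h).isoRightDerivedObj G n).symm

end Groth.Agent.Lib.Helper23DerCompAcyclic
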