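import Groth.Agent.Lib.Helper17QCPush2
import Groth.Agent.Lib.Helper23DerCompAcyclic
import Groth.Agent.Lib.Helper21DerPost

/-!
# Vanishing of higher direct images for affine morphisms, module version (helper17)
-/

set_option autoImplicit false

universe u

open CategoryTheory CategoryTheory.Limits AlgebraicGeometry TopologicalSpace Opposite

namespace Groth.Agent.Lib.Helper17.QCPush

open Groth.Agent.Lib.Helper17.MV Groth.Agent.Lib.Helper23.QCohLocal

/-- for an affine morphism `g` and quasi-coherent `N`, `R^p g_* N = 0` for `p > 0` (as an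
`O`-module). -/
theorem isZero_Rpush_of_isAffineHom {Z S : Scheme.{u}} (g : Z ⟶ S) [IsAffineHom g]
    [HasInjectiveResolutions Z.Modules] (N : Z.Modules) [N.IsQuasicoherent] (p : ℕ) (hp : 0 < p) :
    IsZero ((Coh.Rpush g p).obj N) := by
  obtain ⟨e2⟩ := Groth.Agent.Lib.Helper23.ModAbBridge.nonempty_toAb_Rpush_iso g N p
  have hz := Groth.Agent.S0028.result g N p hp
  exact isZero_of_isZero_toAb (hz.of_iso e2)

instance preservesInjectiveObjects_pushforward_of_isOpenImmersion {U X : Scheme.{u}} (j : U ⟶ X)
    [IsOpenImmersion j] : (Scheme.Modules.pushforward j).PreservesInjectiveObjects :=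
  Functor.preservesInjectiveObjects_of_adjunction_of_preservesMonomorphisms
    (Scheme.Modules.restrictAdjunction j)

/-- `i_*(F|_U)` is `f_*`-acyclic if `f ∘ i` is affine, `f` separated and `F` quasi-coherent. -/
theorem isZero_Rpush_pushforward_restrict {X Y : Scheme.{u}} (f : X ⟶ Y) [IsSeparated f]
    (U : X.Opens) [IsAffineHom (U.ι ≫ f)] (F : X.Modules) [F.IsQuasicoherent]
    [HasInjectiveResolutions X.Modules] (j : ℕ) (hj : 0 < j) :
    IsZero ((Coh.Rpush f j).obj ((Scheme.Modules.pushforward U.ι).obj
      ((Scheme.Modules.restrictFunctor U.ι).obj F))) := by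
  haveI : IsAffineHom U.ι := IsAffineHom.of_comp U.ι f
  haveI := enoughInjectives (U : Scheme.{u})
  haveI : HasInjectiveResolutions (U : Scheme.{u}).Modules := inferInstance
  have h : ∀ q : ℕ, IsZero (((Scheme.Modules.pushforward U.ι).rightDerived (q + 1)).obj
      ((Scheme.Modules.restrictFunctor U.ι).obj F)) := fun q =>
    isZero_Rpush_of_isAffineHom U.ι _ (q + 1) (by omega)
  have e := Groth.Agent.Lib.Helper23DerCompAcyclic.compIsoOfAcyclic
    (Scheme.Modules.pushforward U.ι) (Scheme.Modules.pushforward f) h j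
  have e2 := (Groth.Agent.Lib.Helper21.DerPost.natIsoRightDerived
    (Scheme.Modules.pushforwardComp U.ι f) j).app ((Scheme.Modules.restrictFunctor U.ι).obj F)
  exact (isZero_Rpush_of_isAffineHom (U.ι ≫ f) _ j hj).of_iso (e.symm ≪≫ e2)

end Groth.Agent.Lib.Helper17.QCPush
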