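import Groth.Agent.Lib.Helper17KInj12
import Mathlib.CategoryTheory.Functor.Derived.PointwiseRightDerived
import Mathlib.Algebra.Homology.DerivedCategory.KInjective
import Mathlib.Algebra.Homology.DerivedCategory.Basic

/-!
# General existence of unbounded right derived functors (helper17)

For a Grothendieck abelian category `A`, every functor `F : K(A) ⥤ H` out of the homotopy category of
unbounded complexes has a (pointwise) right derived functor with respect to quasi-isomorphisms:
at a K-injective complex `I` the comma category `(Qh ↓ Qh I)` has the terminal object `(I, 𝟙)`, and every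
complex admits a quasi-isomorphism to a K-injective one.

In particular `DCoh.HasRpush f` holds for every morphism of schemes.
-/

set_option autoImplicit false

universe w w' v v' u u'

open CategoryTheory CategoryTheory.Limits

namespace Groth.Agent.Lib.Helper17.RDExist

open Groth.Agent.Lib.Helper17.KInj

variable {A : Type u} [Category.{v} A] [Abelian A] [HasDerivedCategory.{w'} A]
  {H : Type u'} [Category.{v'} H] (F : HomotopyCategory A (ComplexShape.up ℤ) ⥤ H)

/-- for a K-injective complex `I`, the object `(I, 𝟙)` is terminal in `(Qh ↓ Qh I)`. -/
noncomputable def isTerminalMkId (I : CochainComplex A ℤ) [I.IsKInjective] :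
    IsTerminal (CostructuredArrow.mk (S := (DerivedCategory.Qh : _ ⥤ DerivedCategory A))
      (𝟙 (DerivedCategory.Qh.obj ((HomotopyCategory.quotient A (ComplexShape.up ℤ)).obj I)))) :=
  IsTerminal.ofUniqueHom
    (fun Y => CostructuredArrow.homMk
      ((CochainComplex.IsKInjective.Qh_map_bijective Y.left I).surjective Y.hom).choose (by
        dsimp
        rw [Category.comp_id]
        exact ((CochainComplex.IsKInjective.Qh_map_bijective Y.left I).surjective Y.hom).choose_spec))
    (fun Y m => by
      apply CostructuredArrow.hom_ext
      apply (CochainComplex.IsKInjective.Qh_map_bijective Y.left I).injective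
      have h1 := CostructuredArrow.w m
      dsimp at h1 ⊢
      rw [Category.comp_id] at h1
      rw [h1]
      exact ((CochainComplex.IsKInjective.Qh_map_bijective Y.left I).surjective
        Y.hom).choose_spec.symm)

lemma hasPointwiseRightDerivedFunctorAt_of_isKInjective (I : CochainComplex A ℤ) [I.IsKInjective] :
    F.HasPointwiseRightDerivedFunctorAt (HomotopyCategory.quasiIso A (ComplexShape.up ℤ))
      ((HomotopyCategory.quotient A (ComplexShape.up ℤ)).obj I) := by
  rw [F.hasPointwiseRightDerivedFunctorAt_iff (DerivedCategory.Qh : _ ⥤ DerivedCategory A)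
    (HomotopyCategory.quasiIso A (ComplexShape.up ℤ))]
  exact ⟨⟨_, colimitOfDiagramTerminal (isTerminalMkId I) _⟩⟩

variable [IsGrothendieckAbelian.{w} A]

include F in
/-- **Every functor out of `K(A)`, `A` Grothendieck abelian, has a right derived functor.** -/
theorem hasPointwiseRightDerivedFunctor :
    F.HasPointwiseRightDerivedFunctor (HomotopyCategory.quasiIso A (ComplexShape.up ℤ)) := by
  intro X
  obtain ⟨K, rfl⟩ := X.quotient_obj_surjective
  obtain ⟨I, q, hI, hq, -, -⟩ := exists_kInjective_resolution.{w} A K
  haveI := hI
  rw [F.hasPointwiseRightDerivedFunctorAt_iff_of_mem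
    (HomotopyCategory.quasiIso A (ComplexShape.up ℤ))
    ((HomotopyCategory.quotient A (ComplexShape.up ℤ)).map q)
    (by rw [HomotopyCategory.quotient_map_mem_quasiIso_iff]; exact hq)]
  exact hasPointwiseRightDerivedFunctorAt_of_isKInjective F I

theorem hasRightDerivedFunctor :
    F.HasRightDerivedFunctor (HomotopyCategory.quasiIso A (ComplexShape.up ℤ)) :=
  haveI := hasPointwiseRightDerivedFunctor.{w} F
  inferInstance

end Groth.Agent.Lib.Helper17.RDExist
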