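import Mathlib
import Groth.Prelude.Def_RDerDelta

/-! Connecting morphisms of right derived functors: morphisms of injective resolutions of short
complexes and naturality / independence of `SESRes.delta` (helper17). -/
set_option autoImplicit false
set_option backward.isDefEq.respectTransparency false
universe v u v' u'
open CategoryTheory CategoryTheory.Limits

namespace Groth.Agent.Lib.Helper17.RDerLib

open RDer

variable {C : Type u} [Category.{v} C] [Abelian C]

/-- a null-homotopic map out of a complex concentrated in degree `0` with zero differential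
vanishes after precomposition with the augmentation of a resolution. -/
lemma ι_comp_nullHomotopicMap {X : C} (I : InjectiveResolution X) {L : CochainComplex C ℕ}
    (k : ∀ i j, I.cocomplex.X i ⟶ L.X j) : I.ι ≫ Homotopy.nullHomotopicMap k = 0 := by
  apply HomologicalComplex.from_single_hom_ext
  rw [HomologicalComplex.comp_f, HomologicalComplex.zero_f,
    Homotopy.nullHomotopicMap_f_of_not_rel_right (c := ComplexShape.up ℕ) (k₁ := 0) (k₀ := 1)
      (by simp) (by simp), ← Category.assoc, I.ι_f_zero_comp_complex_d, zero_comp]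

/-- a morphism of injective resolutions of short complexes lying over a morphism of short
complexes. -/
theorem exists_hom {S S' : ShortComplex C} (φ : S ⟶ S') (T : SESRes S) (T' : SESRes S') :
    ∃ Φ : T.cx ⟶ T'.cx,
      T.I₁.ι ≫ Φ.τ₁ = (CochainComplex.single₀ C).map φ.τ₁ ≫ T'.I₁.ι ∧
      T.I₃.ι ≫ Φ.τ₃ = (CochainComplex.single₀ C).map φ.τ₃ ≫ T'.I₃.ι := by
  let α₃ : T.I₃.cocomplex ⟶ T'.I₃.cocomplex := InjectiveResolution.desc φ.τ₃ T'.I₃ T.I₃
  have hα₃ : T.I₃.ι ≫ α₃ = (CochainComplex.single₀ C).map φ.τ₃ ≫ T'.I₃.ι :=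
    InjectiveResolution.desc_commutes _ _ _
  let β : T.I₂.cocomplex ⟶ T'.I₂.cocomplex := InjectiveResolution.desc φ.τ₂ T'.I₂ T.I₂
  have hβ : T.I₂.ι ≫ β = (CochainComplex.single₀ C).map φ.τ₂ ≫ T'.I₂.ι :=
    InjectiveResolution.desc_commutes _ _ _
  have c1 : T.I₂.ι ≫ (β ≫ T'.g) =
      (CochainComplex.single₀ C).map (φ.τ₂ ≫ S'.g) ≫ T'.I₃.ι := by
    rw [← Category.assoc, hβ, Category.assoc, T'.ι_g, Functor.map_comp, Category.assoc]
  have c2 : T.I₂.ι ≫ (T.g ≫ α₃) =
      (CochainComplex.single₀ C).map (φ.τ₂ ≫ S'.g) ≫ T'.I₃.ι := by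
    rw [← Category.assoc, T.ι_g, Category.assoc, hα₃, φ.comm₂₃, Functor.map_comp,
      Category.assoc]
  let hmt : Homotopy (β ≫ T'.g) (T.g ≫ α₃) :=
    InjectiveResolution.descHomotopy (φ.τ₂ ≫ S'.g) _ _ c1 c2
  let k : ∀ i j, T.I₂.cocomplex.X i ⟶ T'.I₂.cocomplex.X j := fun i j =>
    hmt.hom i j ≫ (T'.splitting j).s
  have hk : ∀ i j, k i j ≫ T'.g.f j = hmt.hom i j := by
    intro i j
    have := (T'.splitting j).s_g
    change (T'.splitting j).s ≫ T'.g.f j = 𝟙 (T'.I₃.cocomplex.X j) at this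
    change (hmt.hom i j ≫ (T'.splitting j).s) ≫ T'.g.f j = _
    rw [Category.assoc, this]
    exact Category.comp_id _
  let α₂ : T.I₂.cocomplex ⟶ T'.I₂.cocomplex := β - Homotopy.nullHomotopicMap k
  have hα₂g : α₂ ≫ T'.g = T.g ≫ α₃ := by
    dsimp [α₂]
    rw [Preadditive.sub_comp, Homotopy.nullHomotopicMap_comp]
    have e : (Homotopy.nullHomotopicMap fun i j => k i j ≫ T'.g.f j) =
        Homotopy.nullHomotopicMap hmt.hom := by
      congr 1
      funext i j
      exact hk i j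
    rw [e]
    ext i
    have := hmt.comm i
    rw [HomologicalComplex.sub_f_apply, this]
    dsimp [Homotopy.nullHomotopicMap]
    abel
  have hα₂ι : T.I₂.ι ≫ α₂ = (CochainComplex.single₀ C).map φ.τ₂ ≫ T'.I₂.ι := by
    dsimp [α₂]
    rw [Preadditive.comp_sub, ι_comp_nullHomotopicMap, sub_zero, hβ]
  haveI : Mono (T'.cx).f := T'.shortExact.mono_f
  have hz : (T.f ≫ α₂) ≫ (T'.cx).g = 0 := by
    change (T.f ≫ α₂) ≫ T'.g = 0
    rw [Category.assoc, hα₂g, ← Category.assoc, T.zero, zero_comp]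
  let α₁ : T.I₁.cocomplex ⟶ T'.I₁.cocomplex := T'.shortExact.exact.lift (T.f ≫ α₂) hz
  have hα₁ : α₁ ≫ T'.f = T.f ≫ α₂ := T'.shortExact.exact.lift_f _ _
  refine ⟨ShortComplex.homMk α₁ α₂ α₃ hα₁ hα₂g, ?_, hα₃⟩
  change T.I₁.ι ≫ α₁ = _
  haveI : Mono T'.f := T'.shortExact.mono_f
  rw [← cancel_mono T'.f, Category.assoc, hα₁, ← Category.assoc, T.ι_f, Category.assoc, hα₂ι,
    Category.assoc, T'.ι_f, ← Category.assoc, ← Category.assoc, ← Functor.map_comp,
    ← Functor.map_comp, φ.comm₁₂]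

variable [HasInjectiveResolutions C] {D : Type u'} [Category.{v'} D] [Abelian D]
  (F : C ⥤ D) [F.Additive]

/-- naturality of the connecting morphisms computed from injective resolutions. -/
theorem delta_naturality {S S' : ShortComplex C} (φ : S ⟶ S') (T : SESRes S) (T' : SESRes S')
    (n₀ n₁ : ℕ) (h : n₀ + 1 = n₁) :
    (F.rightDerived n₀).map φ.τ₃ ≫ T'.delta F n₀ n₁ h =
      T.delta F n₀ n₁ h ≫ (F.rightDerived n₁).map φ.τ₁ := by
  obtain ⟨Φ, h1, h3⟩ := exists_hom φ T T'
  have c1 : T.I₁.ι.f 0 ≫ Φ.τ₁.f 0 = φ.τ₁ ≫ T'.I₁.ι.f 0 := by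
    have := HomologicalComplex.congr_hom h1 0
    rwa [HomologicalComplex.comp_f, HomologicalComplex.comp_f,
      CochainComplex.single₀_map_f_zero] at this
  have c3 : T.I₃.ι.f 0 ≫ Φ.τ₃.f 0 = φ.τ₃ ≫ T'.I₃.ι.f 0 := by
    have := HomologicalComplex.congr_hom h3 0
    rwa [HomologicalComplex.comp_f, HomologicalComplex.comp_f,
      CochainComplex.single₀_map_f_zero] at this
  have e3 := InjectiveResolution.isoRightDerivedObj_hom_naturality φ.τ₃ T.I₃ T'.I₃ Φ.τ₃ c3 F n₀
  have e1 := InjectiveResolution.isoRightDerivedObj_inv_naturality φ.τ₁ T.I₁ T'.I₁ Φ.τ₁ c1 F n₁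
  have eδ := HomologicalComplex.HomologySequence.δ_naturality
    ((F.mapHomologicalComplex (ComplexShape.up ℕ)).mapShortComplex.map Φ)
    (T.map_shortExact F) (T'.map_shortExact F) n₀ n₁ h
  unfold SESRes.delta
  rw [← Category.assoc, e3, Category.assoc, Category.assoc, Category.assoc, e1]
  congr 1
  rw [← Category.assoc, ← Category.assoc]
  congr 1
  exact eδ.symm

/-- the connecting morphism does not depend on the injective resolution of the sequence. -/
theorem delta_eq {S : ShortComplex C} (T T' : SESRes S) (n₀ n₁ : ℕ) (h : n₀ + 1 = n₁) :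
    T.delta F n₀ n₁ h = T'.delta F n₀ n₁ h := by
  have := delta_naturality F (𝟙 S) T T' n₀ n₁ h
  rw [ShortComplex.id_τ₃, ShortComplex.id_τ₁, CategoryTheory.Functor.map_id,
    CategoryTheory.Functor.map_id, Category.id_comp, Category.comp_id] at this
  exact this.symm

end Groth.Agent.Lib.Helper17.RDerLib
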