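import Groth.Agent.Lib.Helper17Res1

/-! The 3×3 lemma (cokernel form) and one step of the horseshoe construction (helper17). -/
set_option autoImplicit false
set_option backward.isDefEq.respectTransparency false
universe v u
open CategoryTheory CategoryTheory.Limits

namespace Groth.Agent.Lib.Helper17.RDerLib

open Groth.Agent.Lib.Helper17.Res

variable {C : Type u} [Category.{v} C] [Abelian C]

/-- lifting through a mono which is the kernel of its cokernel. -/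
lemma lift_of_comp_cokernel_π {X Y : C} (i : X ⟶ Y) [Mono i] {W : C} (x : W ⟶ Y)
    (hx : x ≫ cokernel.π i = 0) : ∃ y : W ⟶ X, y ≫ i = x :=
  ⟨(Abelian.monoIsKernelOfCokernel _ (colimit.isColimit _)).lift (KernelFork.ofι x hx),
    (Abelian.monoIsKernelOfCokernel _ (colimit.isColimit _)).fac _ WalkingParallelPair.zero⟩

/-- the 3×3 lemma: the cokernels of a termwise mono morphism of short exact sequences form a short
exact sequence. -/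
theorem cokernel_shortExact {Z J : ShortComplex C} (hZ : Z.ShortExact) (hJ : J.ShortExact)
    (φ : Z ⟶ J) [Mono φ.τ₁] [Mono φ.τ₂] [Mono φ.τ₃] :
    (ShortComplex.mk (cokernel.map φ.τ₁ φ.τ₂ Z.f J.f φ.comm₁₂)
      (cokernel.map φ.τ₂ φ.τ₃ Z.g J.g φ.comm₂₃) (by
        apply coequalizer.hom_ext
        rw [cokernel.π_desc_assoc, Category.assoc, cokernel.π_desc, ← Category.assoc, J.zero,
          zero_comp, comp_zero])).ShortExact := by
  haveI := hZ.mono_f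
  haveI := hZ.epi_g
  haveI := hJ.mono_f
  haveI := hJ.epi_g
  have hc1 : cokernel.π φ.τ₁ ≫ cokernel.map φ.τ₁ φ.τ₂ Z.f J.f φ.comm₁₂ = J.f ≫ cokernel.π φ.τ₂ :=
    cokernel.π_desc _ _ _
  have hc2 : cokernel.π φ.τ₂ ≫ cokernel.map φ.τ₂ φ.τ₃ Z.g J.g φ.comm₂₃ = J.g ≫ cokernel.π φ.τ₃ :=
    cokernel.π_desc _ _ _
  haveI : Epi (cokernel.map φ.τ₂ φ.τ₃ Z.g J.g φ.comm₂₃) := by
    haveI : Epi (cokernel.π φ.τ₂ ≫ cokernel.map φ.τ₂ φ.τ₃ Z.g J.g φ.comm₂₃) := by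
      rw [hc2]; infer_instance
    exact epi_of_epi (cokernel.π φ.τ₂) _
  haveI : Mono (cokernel.map φ.τ₁ φ.τ₂ Z.f J.f φ.comm₁₂) := by
    rw [Preadditive.mono_iff_cancel_zero]
    intro A x hx
    obtain ⟨A', π, hπ, x₁, hx₁⟩ := surjective_up_to_refinements_of_epi (cokernel.π φ.τ₁) x
    have h1 : (x₁ ≫ J.f) ≫ cokernel.π φ.τ₂ = 0 := by
      rw [Category.assoc, ← hc1, ← Category.assoc, ← hx₁, Category.assoc, hx, comp_zero]
    obtain ⟨z₂, hz₂⟩ := lift_of_comp_cokernel_π φ.τ₂ _ h1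
    have h2 : z₂ ≫ Z.g = 0 := by
      rw [← cancel_mono φ.τ₃, Category.assoc, ← φ.comm₂₃, ← Category.assoc, hz₂, Category.assoc,
        J.zero, comp_zero, zero_comp]
    obtain ⟨z₁, hz₁⟩ : ∃ z₁ : A' ⟶ Z.X₁, z₁ ≫ Z.f = z₂ := ⟨hZ.exact.lift z₂ h2, hZ.exact.lift_f _ _⟩
    have h3 : z₁ ≫ φ.τ₁ = x₁ := by
      rw [← cancel_mono J.f, Category.assoc, φ.comm₁₂, ← Category.assoc, hz₁, hz₂]
    rw [← cancel_epi π, comp_zero, hx₁, ← h3, Category.assoc, cokernel.condition, comp_zero]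
  refine ShortComplex.ShortExact.mk ?_
  rw [ShortComplex.exact_iff_exact_up_to_refinements]
  intro A x hx
  have hx' : x ≫ cokernel.map φ.τ₂ φ.τ₃ Z.g J.g φ.comm₂₃ = 0 := hx
  obtain ⟨A', π, hπ, x₂, hx₂⟩ := surjective_up_to_refinements_of_epi (cokernel.π φ.τ₂) x
  have h1 : (x₂ ≫ J.g) ≫ cokernel.π φ.τ₃ = 0 := by
    rw [Category.assoc, ← hc2, ← Category.assoc, ← hx₂, Category.assoc, hx', comp_zero]
  obtain ⟨z₃, hz₃⟩ := lift_of_comp_cokernel_π φ.τ₃ _ h1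
  obtain ⟨A'', π', hπ', z₂, hz₂⟩ := surjective_up_to_refinements_of_epi Z.g z₃
  have h2 : (π' ≫ x₂ - z₂ ≫ φ.τ₂) ≫ J.g = 0 := by
    rw [Preadditive.sub_comp, Category.assoc, Category.assoc, φ.comm₂₃, ← Category.assoc z₂,
      ← hz₂, Category.assoc, hz₃, sub_self]
  obtain ⟨y₁, hy₁⟩ : ∃ y₁ : A'' ⟶ J.X₁, y₁ ≫ J.f = π' ≫ x₂ - z₂ ≫ φ.τ₂ :=
    ⟨hJ.exact.lift _ h2, hJ.exact.lift_f _ _⟩
  refine ⟨A'', π' ≫ π, epi_comp _ _, y₁ ≫ cokernel.π φ.τ₁, ?_⟩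
  change _ = (y₁ ≫ cokernel.π φ.τ₁) ≫ cokernel.map φ.τ₁ φ.τ₂ Z.f J.f φ.comm₁₂
  have e : (y₁ ≫ cokernel.π φ.τ₁) ≫ cokernel.map φ.τ₁ φ.τ₂ Z.f J.f φ.comm₁₂ =
      π' ≫ x₂ ≫ cokernel.π φ.τ₂ := by
    rw [Category.assoc y₁, hc1, ← Category.assoc, hy₁, Preadditive.sub_comp, Category.assoc,
      Category.assoc, cokernel.condition, comp_zero, sub_zero]
  rw [e, ← hx₂, Category.assoc]

end Groth.Agent.Lib.Helper17.RDerLib
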