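import Groth.Agent.Lib.Helper17RDer2

/-! Cochain complexes spliced from short exact sequences, as injective resolutions (helper17). -/
set_option autoImplicit false
set_option backward.isDefEq.respectTransparency false
universe v u
open CategoryTheory CategoryTheory.Limits

namespace Groth.Agent.Lib.Helper17.RDerLib

variable {C : Type u} [Category.{v} C] [Abelian C]

section CoSplice

variable (Z J : ℕ → C) (ι : ∀ n, Z n ⟶ J n) (π : ∀ n, J n ⟶ Z (n + 1))
  (hz : ∀ n, ι n ≫ π n = 0) (hS : ∀ n, (ShortComplex.mk (ι n) (π n) (hz n)).ShortExact)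

/-- the differential of the spliced cochain complex. -/
def cospliceD (n : ℕ) : J n ⟶ J (n + 1) := π n ≫ ι (n + 1)

include hz in
lemma cospliceD_comp (n : ℕ) : cospliceD Z J ι π n ≫ cospliceD Z J ι π (n + 1) = 0 := by
  unfold cospliceD
  rw [Category.assoc, ← Category.assoc (ι (n + 1)), hz, zero_comp, comp_zero]

/-- the spliced cochain complex `J₀ → J₁ → ⋯`. -/
noncomputable def cosplice : CochainComplex C ℕ :=
  CochainComplex.of J (cospliceD Z J ι π) (cospliceD_comp Z J ι π hz)

lemma cosplice_d (n : ℕ) : (cosplice Z J ι π hz).d n (n + 1) = π n ≫ ι (n + 1) := by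
  change CochainComplex.of.d J (cospliceD Z J ι π) n (n + 1) = _
  rw [CochainComplex.of_d]
  rfl

/-- the augmentation. -/
noncomputable def cospliceι : (CochainComplex.single₀ C).obj (Z 0) ⟶ cosplice Z J ι π hz :=
  (CochainComplex.fromSingle₀Equiv _ _).symm ⟨ι 0, by
    rw [cosplice_d, ← Category.assoc, hz, zero_comp]⟩

lemma cospliceι_f_zero : (cospliceι Z J ι π hz).f 0 = ι 0 :=
  CochainComplex.fromSingle₀Equiv_symm_apply_f_zero _ _

include hS in
theorem cosplice_exactAt (i : ℕ) : (cosplice Z J ι π hz).ExactAt (i + 1) := by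
  haveI : Mono (ι (i + 2)) := (hS (i + 2)).mono_f
  haveI : Epi (π i) := (hS i).epi_g
  rw [(cosplice Z J ι π hz).exactAt_iff' i (i + 1) (i + 2) (by simp) (by simp)]
  let Sc : ShortComplex C := ShortComplex.mk (π i ≫ ι (i + 1)) (π (i + 1)) (by
    rw [Category.assoc, hz, comp_zero])
  let φ : Sc ⟶ (cosplice Z J ι π hz).sc' i (i + 1) (i + 2) :=
    ShortComplex.homMk (𝟙 _) (𝟙 _) (ι (i + 2)) (by
      change 𝟙 _ ≫ (cosplice Z J ι π hz).d i (i + 1) = (π i ≫ ι (i + 1)) ≫ 𝟙 _
      rw [cosplice_d, Category.comp_id, Category.id_comp]) (by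
      change 𝟙 _ ≫ (cosplice Z J ι π hz).d (i + 1) (i + 2) = π (i + 1) ≫ ι (i + 2)
      rw [cosplice_d, Category.id_comp])
  let ψ : Sc ⟶ ShortComplex.mk (ι (i + 1)) (π (i + 1)) (hz (i + 1)) :=
    ShortComplex.homMk (π i) (𝟙 _) (𝟙 _) (by simp [Sc]) (by simp [Sc])
  haveI : Epi φ.τ₁ := by change Epi (𝟙 _); infer_instance
  haveI : IsIso φ.τ₂ := by change IsIso (𝟙 _); infer_instance
  haveI : Mono φ.τ₃ := by change Mono (ι (i + 2)); infer_instance
  haveI : Epi ψ.τ₁ := by change Epi (π i); infer_instance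
  haveI : IsIso ψ.τ₂ := by change IsIso (𝟙 _); infer_instance
  haveI : Mono ψ.τ₃ := by change Mono (𝟙 _); infer_instance
  rw [← ShortComplex.exact_iff_of_epi_of_isIso_of_mono φ,
    ShortComplex.exact_iff_of_epi_of_isIso_of_mono ψ]
  exact (hS (i + 1)).exact

include hS in
theorem cosplice_quasiIso : QuasiIso (cospliceι Z J ι π hz) := ⟨fun n => by
  cases n with
  | zero =>
    haveI : Mono (ι 0) := (hS 0).mono_f
    haveI : Mono (ι 1) := (hS 1).mono_f
    rw [CochainComplex.quasiIsoAt₀_iff, ShortComplex.quasiIso_iff_of_zeros]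
    · let Sc : ShortComplex C := ShortComplex.mk (ι 0) (π 0 ≫ ι 1) (by
        rw [← Category.assoc, hz, zero_comp])
      let ψ : ShortComplex.mk (ι 0) (π 0) (hz 0) ⟶ Sc :=
        ShortComplex.homMk (𝟙 _) (𝟙 _) (ι 1) (by simp [Sc]) (by simp [Sc])
      haveI : Epi ψ.τ₁ := by change Epi (𝟙 _); infer_instance
      haveI : IsIso ψ.τ₂ := by change IsIso (𝟙 _); infer_instance
      haveI : Mono ψ.τ₃ := by change Mono (ι 1); infer_instance
      have hSc : Sc.Exact := (ShortComplex.exact_iff_of_epi_of_isIso_of_mono ψ).1 (hS 0).exact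
      refine (ShortComplex.exact_and_mono_f_iff_of_iso ?_).2
        ⟨hSc, (inferInstance : Mono (ι 0))⟩
      refine ShortComplex.isoMk (Iso.refl _) (Iso.refl _) (Iso.refl _) ?_ ?_
      · change 𝟙 _ ≫ ι 0 = (cospliceι Z J ι π hz).f 0 ≫ 𝟙 _
        rw [cospliceι_f_zero, Category.id_comp, Category.comp_id]
      · change 𝟙 _ ≫ π 0 ≫ ι 1 = (cosplice Z J ι π hz).d 0 1 ≫ 𝟙 _
        rw [cosplice_d, Category.id_comp, Category.comp_id]
    all_goals rfl
  | succ n =>
    rw [quasiIsoAt_iff_exactAt]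
    · exact cosplice_exactAt Z J ι π hz hS n
    · apply CochainComplex.exactAt_succ_single_obj⟩

/-- the spliced complex as an injective resolution. -/
noncomputable def cospliceRes (hJ : ∀ n, Injective (J n)) : InjectiveResolution (Z 0) where
  cocomplex := cosplice Z J ι π hz
  injective := hJ
  ι := cospliceι Z J ι π hz
  quasiIso := cosplice_quasiIso Z J ι π hz hS

end CoSplice

end Groth.Agent.Lib.Helper17.RDerLib
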