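import Groth.Agent.Lib.Helper17RDer3
import Groth.Prelude.Def_RDerDelta

/-! The horseshoe lemma: injective resolutions of short exact sequences (helper17). -/
set_option autoImplicit false
set_option backward.isDefEq.respectTransparency false
universe v u
open CategoryTheory CategoryTheory.Limits

namespace Groth.Agent.Lib.Helper17.RDerLib

variable {C : Type u} [Category.{v} C] [Abelian C]

section CoSpliceMap

variable {Z J : ℕ → C} {ι : ∀ n, Z n ⟶ J n} {π : ∀ n, J n ⟶ Z (n + 1)}
  {hz : ∀ n, ι n ≫ π n = 0}
  {Z' J' : ℕ → C} {ι' : ∀ n, Z' n ⟶ J' n} {π' : ∀ n, J' n ⟶ Z' (n + 1)}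
  {hz' : ∀ n, ι' n ≫ π' n = 0}
  (a : ∀ n, Z n ⟶ Z' n) (b : ∀ n, J n ⟶ J' n)
  (hι : ∀ n, ι n ≫ b n = a n ≫ ι' n) (hπ : ∀ n, π n ≫ a (n + 1) = b n ≫ π' n)

/-- the cochain map between spliced complexes induced by compatible maps. -/
noncomputable def cospliceMap : cosplice Z J ι π hz ⟶ cosplice Z' J' ι' π' hz' :=
  CochainComplex.ofHom (X := cosplice Z J ι π hz) (Y := cosplice Z' J' ι' π' hz') b (fun n => by
    rw [cosplice_d, cosplice_d, ← Category.assoc, ← hπ, Category.assoc, Category.assoc, hι])

@[simp]
lemma cospliceMap_f (n : ℕ) : (cospliceMap (hz := hz) (hz' := hz') a b hι hπ).f n = b n := rfl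

lemma cospliceι_comp_cospliceMap :
    cospliceι Z J ι π hz ≫ cospliceMap (hz := hz) (hz' := hz') a b hι hπ =
      (CochainComplex.single₀ C).map (a 0) ≫ cospliceι Z' J' ι' π' hz' := by
  apply HomologicalComplex.from_single_hom_ext
  rw [HomologicalComplex.comp_f, HomologicalComplex.comp_f, cospliceι_f_zero, cospliceι_f_zero,
    cospliceMap_f, CochainComplex.single₀_map_f_zero, hι]

end CoSpliceMap

section Horseshoe

variable [EnoughInjectives C]

/-- a stage of the horseshoe construction: a short exact sequence. -/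
structure HStage (C : Type u) [Category.{v} C] [Abelian C] where
  S : ShortComplex C
  hS : S.ShortExact

namespace HStage

variable (s : HStage C)

/-- the split short exact sequence of injectives `J₁ → J₁ ⊞ J₃ → J₃`. -/
noncomputable def J : ShortComplex C :=
  ShortComplex.mk (biprod.inl : Injective.under s.S.X₁ ⟶
    Injective.under s.S.X₁ ⊞ Injective.under s.S.X₃) biprod.snd biprod.inl_snd

theorem J_shortExact : s.J.ShortExact :=
  (ShortComplex.Splitting.mk (S := s.J) biprod.fst biprod.inr biprod.inl_fst biprod.inr_snd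
    biprod.total).shortExact

instance : Injective s.J.X₁ := by dsimp [J]; infer_instance
instance : Injective s.J.X₂ := by dsimp [J]; infer_instance
instance : Injective s.J.X₃ := by dsimp [J]; infer_instance

/-- the extension of `X₁ → J₁` to `X₂`. -/
noncomputable def e : s.S.X₂ ⟶ Injective.under s.S.X₁ :=
  haveI := s.hS.mono_f
  Injective.factorThru (Injective.ι s.S.X₁) s.S.f

lemma f_e : s.S.f ≫ s.e = Injective.ι s.S.X₁ := by
  haveI := s.hS.mono_f
  exact Injective.comp_factorThru _ _

/-- the termwise mono map to the injectives. -/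
noncomputable def φ : s.S ⟶ s.J :=
  ShortComplex.homMk (Injective.ι s.S.X₁) (biprod.lift s.e (s.S.g ≫ Injective.ι s.S.X₃))
    (Injective.ι s.S.X₃) (by
      dsimp [J]
      apply biprod.hom_ext
      · rw [Category.assoc, biprod.inl_fst, Category.comp_id, Category.assoc, biprod.lift_fst, f_e]
      · rw [Category.assoc, biprod.inl_snd, comp_zero, Category.assoc, biprod.lift_snd,
          ← Category.assoc, s.S.zero, zero_comp]) (by
      dsimp [J]
      rw [biprod.lift_snd])

instance : Mono s.φ.τ₁ := by change Mono (Injective.ι s.S.X₁); infer_instance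
instance : Mono s.φ.τ₃ := by change Mono (Injective.ι s.S.X₃); infer_instance
instance : Mono s.φ.τ₂ := by
  haveI := s.hS.mono_f
  change Mono (biprod.lift s.e (s.S.g ≫ Injective.ι s.S.X₃))
  rw [Preadditive.mono_iff_cancel_zero]
  intro A x hx
  have h1 : x ≫ s.S.g = 0 := by
    have := congrArg (fun t => t ≫ biprod.snd) hx
    simp only [Category.assoc, biprod.lift_snd, zero_comp] at this
    rw [← cancel_mono (Injective.ι s.S.X₃), Category.assoc, this, zero_comp]
  obtain ⟨y, rfl⟩ : ∃ y : A ⟶ s.S.X₁, y ≫ s.S.f = x :=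
    ⟨s.hS.exact.lift x h1, s.hS.exact.lift_f _ _⟩
  have h2 := congrArg (fun t => t ≫ biprod.fst) hx
  simp only [Category.assoc, biprod.lift_fst, zero_comp, f_e] at h2
  have h3 : y = 0 := by
    rw [← cancel_mono (Injective.ι s.S.X₁), h2, zero_comp]
  rw [h3, zero_comp]

/-- the next stage: the short exact sequence of cokernels. -/
noncomputable def next : HStage C where
  S := ShortComplex.mk (cokernel.map s.φ.τ₁ s.φ.τ₂ s.S.f s.J.f s.φ.comm₁₂)
      (cokernel.map s.φ.τ₂ s.φ.τ₃ s.S.g s.J.g s.φ.comm₂₃) (by
        apply coequalizer.hom_ext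
        rw [cokernel.π_desc_assoc, Category.assoc, cokernel.π_desc, ← Category.assoc, s.J.zero,
          zero_comp, comp_zero])
  hS := cokernel_shortExact s.hS s.J_shortExact s.φ

end HStage

/-- the stages of the horseshoe construction. -/
noncomputable def hstage (S : ShortComplex C) (hS : S.ShortExact) : ℕ → HStage C
  | 0 => ⟨S, hS⟩
  | n + 1 => (hstage S hS n).next

end Horseshoe

end Groth.Agent.Lib.Helper17.RDerLib
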