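import Mathlib
import Groth.Prelude.Def_DeltaF

/-! Effaceability of right derived functors (helper17). -/
set_option autoImplicit false
set_option backward.isDefEq.respectTransparency false
universe v u v' u'
open CategoryTheory CategoryTheory.Limits

namespace Groth.Agent.Lib.Helper17.RDerLib

variable {C : Type u} [Category.{v} C] [Abelian C] [HasInjectiveResolutions C]
  {D : Type u'} [Category.{v'} D] [Abelian D] (F : C ⥤ D) [F.Additive]

theorem effaceable_rightDerived (n : ℕ) (X : C) :
    ∃ (Y : C) (u : X ⟶ Y), Mono u ∧ (F.rightDerived (n + 1)).map u = 0 := by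
  obtain ⟨I⟩ := (HasInjectiveResolutions.out X : HasInjectiveResolution X).out
  refine ⟨I.cocomplex.X 0, I.ι.f 0, inferInstance, ?_⟩
  exact (Functor.isZero_rightDerived_obj_injective_succ F n (I.cocomplex.X 0)).eq_of_tgt _ _

end Groth.Agent.Lib.Helper17.RDerLib
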