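import Groth.Agent.Lib.Helper17RDer5

/-! Injective resolution of `G` lying over a given resolution of `F`, degreewise split (helper17). -/
set_option autoImplicit false
set_option backward.isDefEq.respectTransparency false
universe v u
open CategoryTheory CategoryTheory.Limits

namespace Groth.Agent.Lib.Helper17.RDerLib

variable {C : Type u} [Category.{v} C] [Abelian C] [EnoughInjectives C]

namespace SplitOver

variable (L : CochainComplex C ℕ)

/-- a stage: an object with a map to `L^n` killed by the differential. -/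
structure St (n : ℕ) where
  Z : C
  a : Z ⟶ L.X n
  ha : a ≫ L.d n (n + 1) = 0

variable {L}

/-- the injective object of a stage. -/
noncomputable def St.J {n : ℕ} (s : St L n) : C := L.X n ⊞ Injective.under s.Z

/-- the embedding. -/
noncomputable def St.ι {n : ℕ} (s : St L n) : s.Z ⟶ s.J := biprod.lift s.a (Injective.ι s.Z)

instance {n : ℕ} (s : St L n) : Mono s.ι := by
  have : s.ι ≫ biprod.snd = Injective.ι s.Z := biprod.lift_snd _ _
  exact mono_of_mono_fac this

/-- the next stage. -/
noncomputable def St.next {n : ℕ} (s : St L n) : St L (n + 1) where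
  Z := cokernel s.ι
  a := cokernel.desc s.ι (biprod.fst ≫ L.d n (n + 1)) (by
    unfold St.ι
    rw [biprod.lift_fst_assoc, s.ha])
  ha := by
    rw [← cancel_epi (cokernel.π s.ι), cokernel.π_desc_assoc, Category.assoc,
      L.d_comp_d, comp_zero, comp_zero]

/-- the projection. -/
noncomputable def St.π {n : ℕ} (s : St L n) : s.J ⟶ s.next.Z := cokernel.π s.ι

lemma St.π_a {n : ℕ} (s : St L n) : s.π ≫ s.next.a = biprod.fst ≫ L.d n (n + 1) :=
  cokernel.π_desc _ _ _

lemma St.ι_fst {n : ℕ} (s : St L n) : s.ι ≫ biprod.fst = s.a := biprod.lift_fst _ _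

lemma St.hz {n : ℕ} (s : St L n) : s.ι ≫ s.π = 0 := cokernel.condition _

lemma St.shortExact {n : ℕ} (s : St L n) : (ShortComplex.mk s.ι s.π s.hz).ShortExact :=
  cokernel_ses s.ι

variable (L) in
/-- all stages. -/
noncomputable def stg {G : C} (a : G ⟶ L.X 0) (ha : a ≫ L.d 0 1 = 0) : ∀ n, St L n
  | 0 => ⟨G, a, ha⟩
  | n + 1 => (stg a ha n).next

end SplitOver

open SplitOver in
theorem exists_split_over {G F : C} (α : G ⟶ F) (I : InjectiveResolution F) :
    ∃ (J : InjectiveResolution G) (β : J.cocomplex ⟶ I.cocomplex),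
      J.ι ≫ β = (CochainComplex.single₀ C).map α ≫ I.ι ∧
      ∀ p : ℕ, ∃ (K : C) (e : J.cocomplex.X p ≅ I.cocomplex.X p ⊞ K), β.f p = e.hom ≫ biprod.fst := by
  have ha : (α ≫ I.ι.f 0) ≫ I.cocomplex.d 0 1 = 0 := by
    rw [Category.assoc, I.ι_f_zero_comp_complex_d, comp_zero]
  let s : ∀ n, St I.cocomplex n := stg I.cocomplex (α ≫ I.ι.f 0) ha
  let Z : ℕ → C := fun n => (s n).Z
  let J : ℕ → C := fun n => (s n).J
  let ι : ∀ n, Z n ⟶ J n := fun n => (s n).ι
  let π : ∀ n, J n ⟶ Z (n + 1) := fun n => (s n).π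
  have hz : ∀ n, ι n ≫ π n = 0 := fun n => (s n).hz
  have hS : ∀ n, (ShortComplex.mk (ι n) (π n) (hz n)).ShortExact := fun n => (s n).shortExact
  have hJ : ∀ n, Injective (J n) := fun n => by
    haveI : Injective (I.cocomplex.X n) := I.injective n
    change Injective (I.cocomplex.X n ⊞ Injective.under (s n).Z)
    infer_instance
  let R : InjectiveResolution G := cospliceRes Z J ι π hz hS hJ
  let β : R.cocomplex ⟶ I.cocomplex :=
    CochainComplex.ofHom (X := cosplice Z J ι π hz) (Y := I.cocomplex)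
      (fun n => (biprod.fst : I.cocomplex.X n ⊞ Injective.under (s n).Z ⟶ I.cocomplex.X n))
      (fun n => by
        rw [cosplice_d, Category.assoc]
        change _ = (s n).π ≫ (s (n + 1)).ι ≫ biprod.fst
        rw [St.ι_fst]
        exact ((s n).π_a).symm)
  refine ⟨R, β, ?_, fun p => ⟨Injective.under (s p).Z, Iso.refl _, ?_⟩⟩
  · apply HomologicalComplex.from_single_hom_ext
    rw [HomologicalComplex.comp_f, HomologicalComplex.comp_f, CochainComplex.single₀_map_f_zero]
    change (cospliceι Z J ι π hz).f 0 ≫ biprod.fst = _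
    rw [cospliceι_f_zero]
    exact (s 0).ι_fst
  · change biprod.fst = 𝟙 _ ≫ biprod.fst
    rw [Category.id_comp]

end Groth.Agent.Lib.Helper17.RDerLib
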