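import Groth.Agent.Lib.Helper17RGam1
import Groth.Agent.Lib.Helper17DRingAdj4
import Groth.Agent.Lib.Helper16KInjAdj
import Mathlib.Algebra.Category.ModuleCat.Descent

/-!
# `RΓ_I` vanishes on complexes on which some `f ∈ I` acts bijectively (helper17)
-/

set_option autoImplicit false

universe u

open CategoryTheory CategoryTheory.Limits HomologicalComplex DerivedCategory

attribute [local instance] HasDerivedCategory.standard

namespace Groth.Agent.Lib.Helper17.RGam

open Groth.Agent.Lib.Helper17.KInj Groth.Agent.Lib.Helper17.Cpt Groth.Agent.Lib.Helper17.DRingAdj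

variable {A : Type u} [CommRing A]

section Flat

variable {B : Type u} [CommRing B] (φ : A →+* B) (hφ : φ.Flat)

include hφ in
/-- restriction of scalars along a flat ring map preserves K-injective complexes. -/
lemma isKInjective_restrictScalars (J : CochainComplex (ModuleCat.{u} B) ℤ) [J.IsKInjective] :
    CochainComplex.IsKInjective
      (((ModuleCat.restrictScalars.{u} φ).mapHomologicalComplex (ComplexShape.up ℤ)).obj J) := by
  haveI : PreservesFiniteLimits (ModuleCat.extendScalars.{u, u, u} φ) :=
    ModuleCat.preservesFiniteLimits_extendScalars_of_flat hφ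
  haveI : PreservesFiniteColimits (ModuleCat.extendScalars.{u, u, u} φ) := by
    haveI : PreservesColimitsOfSize.{0, 0} (ModuleCat.extendScalars.{u, u, u} φ) :=
      (ModuleCat.extendRestrictScalarsAdj φ).leftAdjoint_preservesColimits
    exact PreservesColimitsOfSize.preservesFiniteColimits _
  haveI : (ModuleCat.extendScalars.{u, u, u} φ).Additive :=
    (ModuleCat.extendRestrictScalarsAdj φ).left_adjoint_additive
  exact Groth.Agent.Lib.Helper16.KInjAdj.isKInjective_map
    (ModuleCat.extendRestrictScalarsAdj φ) J

end Flat

section Vanish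

variable (I : Ideal A)

/-- the `I`-power torsion of a module over the localization at `f ∈ I` vanishes. -/
lemma isZero_gammaI_restrictScalars (f : A) (hf : f ∈ I)
    (M : ModuleCat.{u} (Localization (Submonoid.powers f))) :
    IsZero ((DRing.gammaI I).obj ((ModuleCat.restrictScalars.{u}
      (algebraMap A (Localization (Submonoid.powers f)))).obj M)) := by
  rw [ModuleCat.isZero_iff_subsingleton]
  refine ⟨fun x y => ?_⟩
  suffices ∀ z : DRing.torsionSub I ((ModuleCat.restrictScalars.{u}
      (algebraMap A (Localization (Submonoid.powers f)))).obj M), z = 0 by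
    exact (this x).trans (this y).symm
  rintro ⟨z, n, hn⟩
  apply Subtype.ext
  change z = 0
  have h1 := hn (f ^ n) (Ideal.pow_mem_pow hf n)
  have h2 : (algebraMap A (Localization (Submonoid.powers f)) (f ^ n)) • (show M from z) = 0 := h1
  have hu : IsUnit (algebraMap A (Localization (Submonoid.powers f)) (f ^ n)) :=
    IsLocalization.map_units (Localization (Submonoid.powers f))
      (⟨f ^ n, n, rfl⟩ : Submonoid.powers f)
  exact (hu.smul_eq_zero).1 h2

theorem isZero_RgammaI_of_bijective [DRing.HasRgammaI I] (K : CochainComplex (ModuleCat.{u} A) ℤ) (f : A) (hf : f ∈ I)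
    (hK : ∀ n : ℤ, Function.Bijective (fun x : K.X n => f • x)) :
    IsZero ((DRing.RgammaI I).obj ((Q : _ ⥤ Dual.D A).obj K)) := by
  classical
  let S : Submonoid A := Submonoid.powers f
  have hS : ∀ (i : ℤ) (s : S), Function.Bijective (fun x : K.X i => (s : A) • x) := by
    rintro i ⟨_, n, rfl⟩
    induction n with
    | zero =>
      have : (fun x : K.X i => (f ^ 0 : A) • x) = id := by
        funext x; simp
      change Function.Bijective (fun x : K.X i => (f ^ 0 : A) • x)
      rw [this]; exact Function.bijective_id
    | succ n ih =>
      have : (fun x : K.X i => (f ^ (n + 1) : A) • x) =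
          (fun x : K.X i => f • x) ∘ (fun x : K.X i => (f ^ n : A) • x) := by
        funext x
        simp only [Function.comp_apply, pow_succ', mul_smul]
      change Function.Bijective (fun x : K.X i => (f ^ (n + 1) : A) • x)
      rw [this]
      exact (hK i).comp ih
  let φ : A →+* Localization S := algebraMap A (Localization S)
  have hφ : φ.Flat := by
    rw [RingHom.flat_algebraMap_iff]
    exact IsLocalization.flat (Localization S) S
  let E := locCx S K
  let eK := isoRestrictLocCx S K hS
  let J := (fibRepl₀ (ModuleCat.{u} (Localization S))).obj E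
  let ι : E ⟶ J := (fibReplι₀ (ModuleCat.{u} (Localization S))).app E
  have hι : trivCof ι := trivCof_fibReplι₀ _ E
  haveI : QuasiIso ι := hι.2
  haveI : J.IsKInjective := (fibrant_fibRepl₀ _ E).isKInjective
  let R := (ModuleCat.restrictScalars.{u} φ).mapHomologicalComplex (ComplexShape.up ℤ)
  haveI : CochainComplex.IsKInjective (R.obj J) := isKInjective_restrictScalars φ hφ J
  let q : K ⟶ R.obj J := eK.hom ≫ R.map ι
  haveI : QuasiIso (R.map ι) := inferInstance
  haveI : QuasiIso q := inferInstance
  refine IsZero.of_iso ?_ (isoOfQuasiIso I q)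
  apply isZero_Q_obj_of_isZero_X
  intro n
  exact isZero_gammaI_restrictScalars I f hf (J.X n)

end Vanish

end Groth.Agent.Lib.Helper17.RGam
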