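import Groth.Agent.Lib.Helper17KInjD5

/-!
# Composition of total right derived functors, and morphisms into `F I` (helper17)

* `nonempty_iso_comp`: `R(G ⋙ H) ≅ RG ⋙ RH` as soon as the unit of `RH` is an isomorphism on
  `G I` for every fibrant (K-injective with injective terms) complex `I`.
* `exists_Q_map_eq_of_adj` / `homotopy_zero_of_Q_map_eq_zero_of_adj`: given a termwise adjunction
  `Gc ⊣ F` on complexes, a compatible derived adjunction `G' ⊣ F'`, a complex `S` on which the
  comparison `G' (Q S) ⟶ Q (Gc S)` is an isomorphism and a K-injective `I` on which the unit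
  `Q (F I) ⟶ F' (Q I)` is an isomorphism, the morphisms `Q S ⟶ Q (F I)` of the derived category
  are the homotopy classes of morphisms of complexes `S ⟶ F I`.
-/

set_option autoImplicit false
set_option linter.style.haveILetI false
set_option maxHeartbeats 400000

universe w w₁ w₂ w₃ v₁ v₂ v₃ u₁ u₂ u₃

open CategoryTheory CategoryTheory.Limits DerivedCategory

namespace Groth.Agent.Lib.Helper17.RGamPush

open Groth.Agent.Lib.Helper17.KInj

section Comp

variable {A : Type u₁} [Category.{v₁} A] [Abelian A] [IsGrothendieckAbelian.{w} A]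
  {B : Type u₂} [Category.{v₂} B] [Abelian B]
  {C : Type u₃} [Category.{v₃} C] [Abelian C]
  [HasDerivedCategory.{w₁} A] [HasDerivedCategory.{w₂} B] [HasDerivedCategory.{w₃} C]
  (G : A ⥤ B) [G.Additive] (H : B ⥤ C) [H.Additive] (GH : A ⥤ C) [GH.Additive]
  (θ : GH ≅ G ⋙ H)
  (RG : DerivedCategory A ⥤ DerivedCategory B)
  (βG : G.mapHomologicalComplex (ComplexShape.up ℤ) ⋙ Q ⟶ Q ⋙ RG)
  (RH : DerivedCategory B ⥤ DerivedCategory C)
  (βH : H.mapHomologicalComplex (ComplexShape.up ℤ) ⋙ Q ⟶ Q ⋙ RH)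
  (RGH : DerivedCategory A ⥤ DerivedCategory C)
  (βGH : GH.mapHomologicalComplex (ComplexShape.up ℤ) ⋙ Q ⟶ Q ⋙ RGH)

/-- the termwise comparison `GH K ⟶ H (G K)`. -/
noncomputable def ψ (K : CochainComplex A ℤ) :
    (GH.mapHomologicalComplex (ComplexShape.up ℤ)).obj K ⟶
      (H.mapHomologicalComplex (ComplexShape.up ℤ)).obj
        ((G.mapHomologicalComplex (ComplexShape.up ℤ)).obj K) where
  f i := θ.hom.app (K.X i)
  comm' i j _ := (θ.hom.naturality (K.d i j)).symm

instance (K : CochainComplex A ℤ) : IsIso (ψ G H GH θ K) := by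
  haveI : ∀ i, IsIso ((ψ G H GH θ K).f i) := fun i => by
    change IsIso (θ.hom.app (K.X i))
    infer_instance
  exact HomologicalComplex.Hom.isIso_of_components _

omit [IsGrothendieckAbelian.{w} A] [HasDerivedCategory.{w₁} A] [HasDerivedCategory.{w₂} B]
  [HasDerivedCategory.{w₃} C] in
lemma ψ_naturality {K L : CochainComplex A ℤ} (φ : K ⟶ L) :
    (GH.mapHomologicalComplex (ComplexShape.up ℤ)).map φ ≫ ψ G H GH θ L =
      ψ G H GH θ K ≫ (H.mapHomologicalComplex (ComplexShape.up ℤ)).map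
        ((G.mapHomologicalComplex (ComplexShape.up ℤ)).map φ) := by
  ext i
  exact θ.hom.naturality (φ.f i)

/-- the candidate unit `Q (GH K) ⟶ RH (RG (Q K))`. -/
noncomputable def τ : GH.mapHomologicalComplex (ComplexShape.up ℤ) ⋙ Q ⟶ Q ⋙ (RG ⋙ RH) where
  app K := Q.map (ψ G H GH θ K) ≫
    βH.app ((G.mapHomologicalComplex (ComplexShape.up ℤ)).obj K) ≫ RH.map (βG.app K)
  naturality K L φ := by
    have h2 := βH.naturality ((G.mapHomologicalComplex (ComplexShape.up ℤ)).map φ)
    have h3 := βG.naturality φ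
    dsimp at h2 h3 ⊢
    rw [← Category.assoc, ← Functor.map_comp, ψ_naturality, Functor.map_comp, Category.assoc,
      reassoc_of% h2, Category.assoc, Category.assoc, ← RH.map_comp, ← RH.map_comp, h3]

variable [RG.IsRightDerivedFunctor βG (HomologicalComplex.quasiIso A (ComplexShape.up ℤ))]

theorem isRightDerivedFunctor_comp
    (hkey : ∀ I : CochainComplex A ℤ, fibrant A I →
      IsIso (βH.app ((G.mapHomologicalComplex (ComplexShape.up ℤ)).obj I))) :
    (RG ⋙ RH).IsRightDerivedFunctor (τ G H GH θ RG βG RH βH)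
      (HomologicalComplex.quasiIso A (ComplexShape.up ℤ)) := by
  refine (fibLocalizerMorphism_derives _
    (isInvertedBy_mapHomologicalComplex_comp_Q GH)).isRightDerivedFunctor_of_isIso _ (fun I => ?_)
  haveI := isIso_app_of_fibrant' G RG βG I.obj I.property
  haveI := hkey I.obj I.property
  change IsIso (Q.map (ψ G H GH θ I.obj) ≫
    βH.app ((G.mapHomologicalComplex (ComplexShape.up ℤ)).obj I.obj) ≫ RH.map (βG.app I.obj))
  infer_instance

variable [RGH.IsRightDerivedFunctor βGH (HomologicalComplex.quasiIso A (ComplexShape.up ℤ))]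

include GH θ βG βGH in
/-- `R(G ⋙ H) ≅ RG ⋙ RH`. -/
theorem nonempty_iso_comp
    (hkey : ∀ I : CochainComplex A ℤ, fibrant A I →
      IsIso (βH.app ((G.mapHomologicalComplex (ComplexShape.up ℤ)).obj I))) :
    Nonempty (RGH ≅ RG ⋙ RH) := by
  haveI := isRightDerivedFunctor_comp G H GH θ RG βG RH βH hkey
  exact ⟨Functor.rightDerivedUnique RGH (RG ⋙ RH) βGH (τ G H GH θ RG βG RH βH)
    (HomologicalComplex.quasiIso A (ComplexShape.up ℤ))⟩

end Comp

section Adj

variable {A : Type u₁} [Category.{v₁} A] [Abelian A] {B : Type u₂} [Category.{v₂} B] [Abelian B]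
  [HasDerivedCategory.{w₁} A] [HasDerivedCategory.{w₂} B]
  (Gc : CochainComplex A ℤ ⥤ CochainComplex B ℤ) (F : B ⥤ A) [F.Additive]
  (adj : Gc ⊣ F.mapHomologicalComplex (ComplexShape.up ℤ))
  (G' : DerivedCategory A ⥤ DerivedCategory B) (F' : DerivedCategory B ⥤ DerivedCategory A)
  (adjD : G' ⊣ F')
  (α : Q ⋙ G' ⟶ Gc ⋙ Q) (β : F.mapHomologicalComplex (ComplexShape.up ℤ) ⋙ Q ⟶ Q ⋙ F')
  (hε : ∀ I : CochainComplex B ℤ, G'.map (β.app I) ≫ adjD.counit.app (Q.obj I) =
    α.app ((F.mapHomologicalComplex (ComplexShape.up ℤ)).obj I) ≫ Q.map (adj.counit.app I))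

include hε in
lemma key_eq (S : CochainComplex A ℤ) (I : CochainComplex B ℤ)
    (g : S ⟶ (F.mapHomologicalComplex (ComplexShape.up ℤ)).obj I) :
    G'.map (Q.map g ≫ β.app I) ≫ adjD.counit.app (Q.obj I) =
      α.app S ≫ Q.map ((adj.homEquiv S I).symm g) := by
  have h1 := α.naturality g
  dsimp at h1
  rw [Functor.map_comp, Category.assoc, hε I, reassoc_of% h1, ← Functor.map_comp,
    Adjunction.homEquiv_counit]

include hε in
theorem exists_Q_map_eq_of_adj (S : CochainComplex A ℤ) [IsIso (α.app S)]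
    (I : CochainComplex B ℤ) [I.IsKInjective] [IsIso (β.app I)]
    (ξ : Q.obj S ⟶ Q.obj ((F.mapHomologicalComplex (ComplexShape.up ℤ)).obj I)) :
    ∃ g : S ⟶ (F.mapHomologicalComplex (ComplexShape.up ℤ)).obj I, Q.map g = ξ := by
  obtain ⟨h, hh⟩ := exists_Q_map_eq
    (inv (α.app S) ≫ G'.map (ξ ≫ β.app I) ≫ adjD.counit.app (Q.obj I))
  refine ⟨adj.homEquiv S I h, ?_⟩
  rw [← cancel_mono (β.app I)]
  apply (adjD.homEquiv _ _).symm.injective
  rw [Adjunction.homEquiv_counit, Adjunction.homEquiv_counit,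
    key_eq Gc F adj G' F' adjD α β hε S I, Equiv.symm_apply_apply, hh, IsIso.hom_inv_id_assoc]

include hε in
theorem homotopy_zero_of_Q_map_eq_zero_of_adj (S : CochainComplex A ℤ) [IsIso (α.app S)]
    (I : CochainComplex B ℤ) [I.IsKInjective]
    (g : S ⟶ (F.mapHomologicalComplex (ComplexShape.up ℤ)).obj I)
    (hg : (Q : _ ⥤ DerivedCategory A).map g = 0) : Nonempty (Homotopy g 0) := by
  have h1 := key_eq Gc F adj G' F' adjD α β hε S I g
  haveI : G'.IsLeftAdjoint := adjD.isLeftAdjoint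
  rw [hg, zero_comp, Functor.map_zero, zero_comp] at h1
  have h2 : (Q : _ ⥤ DerivedCategory B).map ((adj.homEquiv S I).symm g) = Q.map 0 := by
    rw [Functor.map_zero, ← cancel_epi (α.app S), ← h1, comp_zero]
  obtain ⟨Hh⟩ := homotopy_of_Q_map_eq h2
  have hg' : g = adj.unit.app S ≫
      (F.mapHomologicalComplex (ComplexShape.up ℤ)).map ((adj.homEquiv S I).symm g) := by
    exact ((adj.homEquiv S I).apply_symm_apply g).symm.trans (Adjunction.homEquiv_unit _ _ _ _)
  exact ⟨(Homotopy.ofEq hg').trans (((F.mapHomotopy Hh).compLeft (adj.unit.app S)).trans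
    (Homotopy.ofEq (by rw [Functor.map_zero, comp_zero])))⟩

end Adj

end Groth.Agent.Lib.Helper17.RGamPush
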