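import Groth.Agent.Lib.Helper17RGamPush1
import Groth.Agent.Lib.Helper17KosOrth5
import Groth.Agent.Lib.Helper17Cpt2

/-!
# Homotopy classes of maps from a single complex and acyclicity of `Hom(P, cone)` (helper17)

* `orth_obj₃_of_bijective`: in a pretriangulated category, if `Hom(W⟦k⟧, -)` sends the first
  map of a distinguished triangle to a bijection for all `k`, then `Hom(W⟦k⟧, cone) = 0`.
* `bijective_comp_of_bijective_map`, `bijective_Qh_map_of_Q`: bookkeeping between `K(A)`, `D(A)`.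
* `exists_lift_of_orth`: if all maps `P[0]⟦k⟧ ⟶ C` vanish in `K(A)`, then every cocycle
  `P ⟶ C^n` is a coboundary.
* `isIso_Q_map_of_acyclic_mappingCone`: an additive functor `Γ` sends `s` to a quasi-isomorphism
  as soon as `Γ (cone s)` is acyclic.
-/

set_option autoImplicit false
set_option linter.style.haveILetI false
set_option maxHeartbeats 400000

universe w w₁ w₂ v v₁ v₂ u u₁ u₂

open CategoryTheory CategoryTheory.Limits DerivedCategory

namespace Groth.Agent.Lib.Helper17.RGamPush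

open Groth.Agent.Lib.Helper17.KInj Groth.Agent.Lib.Helper17.KosOrth

section Tri

open Pretriangulated

variable {C : Type u} [Category.{v} C] [HasZeroObject C] [HasShift C ℤ]
  [Preadditive C] [∀ n : ℤ, (shiftFunctor C n).Additive] [Pretriangulated C]

theorem orth_obj₃_of_bijective (W : C) (T : Triangle C) (hT : T ∈ distTriang C)
    (h : ∀ k : ℤ, Function.Bijective (fun g : W⟦k⟧ ⟶ T.obj₁ => g ≫ T.mor₁)) (k : ℤ) :
    Orth W k T.obj₃ := by
  intro g
  obtain ⟨g', hg'⟩ := (shiftFunctor C (1 : ℤ)).map_surjective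
    ((shiftFunctorAdd' C (k - 1) 1 k (by omega)).inv.app W ≫ g ≫ T.mor₃)
  have h1 : (g' ≫ T.mor₁)⟦(1 : ℤ)⟧' = 0 := by
    rw [Functor.map_comp, hg', Category.assoc, Category.assoc,
      comp_distTriang_mor_zero₃₁ T hT, comp_zero, comp_zero]
  have h2 : g' ≫ T.mor₁ = 0 := by
    apply (shiftFunctor C (1 : ℤ)).map_injective
    rw [h1, Functor.map_zero]
  have h3 : g' = 0 := (h (k - 1)).1 (by simp only [h2, zero_comp])
  have h4 : g ≫ T.mor₃ = 0 := by
    rw [h3, Functor.map_zero] at hg'
    rw [← cancel_epi ((shiftFunctorAdd' C (k - 1) 1 k (by omega)).inv.app W), ← hg', comp_zero]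
  obtain ⟨b, hb⟩ := Triangle.coyoneda_exact₃ T hT g h4
  obtain ⟨a, ha⟩ := (h k).2 b
  dsimp at ha
  rw [hb, ← ha, Category.assoc, comp_distTriang_mor_zero₁₂ T hT, comp_zero]

end Tri

section Bij

variable {C : Type u₁} [Category.{v₁} C] {D : Type u₂} [Category.{v₂} D] (L : C ⥤ D)

lemma bijective_comp_of_bijective_map {W A B : C} (a : A ⟶ B) [IsIso (L.map a)]
    (hA : Function.Bijective (fun g : W ⟶ A => L.map g))
    (hB : Function.Bijective (fun g : W ⟶ B => L.map g)) :
    Function.Bijective (fun g : W ⟶ A => g ≫ a) := by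
  constructor
  · intro g₁ g₂ h
    apply hA.1
    dsimp at h ⊢
    rw [← cancel_mono (L.map a), ← L.map_comp, ← L.map_comp, h]
  · intro b
    obtain ⟨g, hg⟩ := hA.2 (L.map b ≫ inv (L.map a))
    refine ⟨g, hB.1 ?_⟩
    dsimp at hg ⊢
    rw [L.map_comp, hg, Category.assoc, IsIso.inv_hom_id, Category.comp_id]

lemma bijective_map_of_iso {W W' A : C} (e : W ≅ W')
    (h : Function.Bijective (fun g : W ⟶ A => L.map g)) :
    Function.Bijective (fun g : W' ⟶ A => L.map g) := by
  constructor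
  · intro g₁ g₂ hg
    dsimp at hg
    have := h.1 (a₁ := e.hom ≫ g₁) (a₂ := e.hom ≫ g₂) (by
      dsimp
      rw [L.map_comp, L.map_comp, hg])
    exact (cancel_epi e.hom).1 this
  · intro b
    obtain ⟨g, hg⟩ := h.2 (L.map e.hom ≫ b)
    refine ⟨e.inv ≫ g, ?_⟩
    dsimp at hg ⊢
    rw [L.map_comp, hg, ← Category.assoc, ← L.map_comp, e.inv_hom_id, L.map_id, Category.id_comp]

end Bij

section KD

variable {A : Type u} [Category.{v} A] [Abelian A] [HasDerivedCategory.{w} A]

lemma bijective_Qh_map_of_Q (S M : CochainComplex A ℤ)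
    (hs : ∀ ξ : (Q : _ ⥤ DerivedCategory A).obj S ⟶ Q.obj M, ∃ g : S ⟶ M, Q.map g = ξ)
    (hi : ∀ g : S ⟶ M, (Q : _ ⥤ DerivedCategory A).map g = 0 → Nonempty (Homotopy g 0)) :
    Function.Bijective (fun g : (HomotopyCategory.quotient A (ComplexShape.up ℤ)).obj S ⟶
      (HomotopyCategory.quotient A (ComplexShape.up ℤ)).obj M => (Qh : _ ⥤ DerivedCategory A).map g) := by
  constructor
  · intro g₁ g₂ h
    obtain ⟨c₁, rfl⟩ := (HomotopyCategory.quotient A (ComplexShape.up ℤ)).map_surjective g₁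
    obtain ⟨c₂, rfl⟩ := (HomotopyCategory.quotient A (ComplexShape.up ℤ)).map_surjective g₂
    dsimp at h
    have h1 : (Q : _ ⥤ DerivedCategory A).map c₁ = Q.map c₂ := by
      rw [← cancel_epi ((quotientCompQhIso A).hom.app S), ← quotientCompQhIso_hom_naturality,
        ← quotientCompQhIso_hom_naturality, h]
    have h2 : (Q : _ ⥤ DerivedCategory A).map (c₁ - c₂) = 0 := by
      rw [Functor.map_sub, h1, sub_self]
    obtain ⟨H⟩ := hi _ h2
    have h3 := HomotopyCategory.eq_of_homotopy _ _ H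
    rw [Functor.map_sub, Functor.map_zero, sub_eq_zero] at h3
    exact h3
  · intro ξ
    obtain ⟨g, hg⟩ := hs ((quotientCompQhIso A).inv.app S ≫ ξ ≫ (quotientCompQhIso A).hom.app M)
    refine ⟨(HomotopyCategory.quotient A (ComplexShape.up ℤ)).map g, ?_⟩
    dsimp
    rw [← cancel_mono ((quotientCompQhIso A).hom.app M), quotientCompQhIso_hom_naturality, hg,
      Iso.hom_inv_id_app_assoc]

open CochainComplex.HomComplex in
theorem exists_lift_of_orth (P : A) (C : CochainComplex A ℤ)
    (h : ∀ k : ℤ, Orth ((HomotopyCategory.quotient A (ComplexShape.up ℤ)).obj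
      ((CochainComplex.singleFunctor A 0).obj P)) k
      ((HomotopyCategory.quotient A (ComplexShape.up ℤ)).obj C))
    (n : ℤ) (φ : P ⟶ C.X n) (hφ : φ ≫ C.d n (n + 1) = 0) :
    ∃ w : P ⟶ C.X (n - 1), w ≫ C.d (n - 1) n = φ := by
  let z : Cocycle ((CochainComplex.singleFunctor A 0).obj P) C n :=
    Cocycle.fromSingleMk φ (zero_add n) (n + 1) rfl hφ
  have h0 : CohomologyClass.toHom (CohomologyClass.mk z) = 0 := by
    rw [← cancel_mono (((HomotopyCategory.quotient A (ComplexShape.up ℤ)).commShiftIso n).hom.app C)]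
    rw [zero_comp]
    exact (orth_iff _ _ (-n) n (by omega)).1 (h (-n)) _
  rw [CohomologyClass.toHom_mk_eq_zero_iff] at h0
  exact (Cocycle.fromSingleMk_mem_coboundaries_iff φ (zero_add n) (n + 1) rfl hφ (n - 1)
    (by omega)).1 h0

end KD

section Cone

variable {A : Type u₁} [Category.{v₁} A] [Abelian A] {B : Type u₂} [Category.{v₂} B] [Abelian B]
  [HasDerivedCategory.{w₂} B] (Γ : A ⥤ B) [Γ.Additive]

theorem isIso_Q_map_of_acyclic_mappingCone {M J : CochainComplex A ℤ} (s : M ⟶ J)
    (h : ((Γ.mapHomologicalComplex (ComplexShape.up ℤ)).obj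
      (CochainComplex.mappingCone s)).Acyclic) :
    IsIso ((Q : _ ⥤ DerivedCategory B).map
      ((Γ.mapHomologicalComplex (ComplexShape.up ℤ)).map s)) := by
  have hz : IsZero ((Q : _ ⥤ DerivedCategory B).obj (CochainComplex.mappingCone
      ((Γ.mapHomologicalComplex (ComplexShape.up ℤ)).map s))) :=
    (Groth.Agent.Lib.Helper17.Cpt.isZero_Q_obj_of_acyclic _ h).of_iso
      (Q.mapIso (CochainComplex.mappingCone.mapHomologicalComplexIso s Γ)).symm
  exact (Pretriangulated.Triangle.isZero₃_iff_isIso₁ _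
    (DerivedCategory.mappingCone_triangle_distinguished
      ((Γ.mapHomologicalComplex (ComplexShape.up ℤ)).map s))).1 hz

end Cone

end Groth.Agent.Lib.Helper17.RGamPush
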