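import Groth.Agent.Lib.Helper17RGamPush2
import Groth.Agent.Lib.Helper1DAdj
import Groth.Agent.Lib.Helper17TildeD4
import Groth.Agent.Lib.Helper21ExtZero5
import Groth.Agent.Lib.Helper17QCPush1

/-!
# `Γ(Y, f_* I) ⟶ RΓ(Y, f_* I)` is an isomorphism for fibrant `I` (helper17)

For a morphism of schemes `f : X ⟶ Y` and a K-injective complex `I` of `O_X`-modules with injective
terms, the homotopy classes of maps `O_Y[k] ⟶ f_* I` are the maps in `D(O_Y)` (by the derived
adjunction `Lf^* ⊣ Rf_*` of helper1), hence `Γ(Y, f_* I)` computes `RΓ(Y, f_* I)`.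
-/

set_option autoImplicit false
set_option linter.style.haveILetI false
set_option maxHeartbeats 400000
universe u
open CategoryTheory CategoryTheory.Limits Opposite AlgebraicGeometry TopologicalSpace DerivedCategory
attribute [local instance] HasDerivedCategory.standard

namespace Groth.Agent.Lib.Helper17.RGamPush

open Groth.Agent.Lib.Helper17.KInj Groth.Agent.Lib.Helper17.KosOrth Groth.Agent.Lib.Helper1.DAdj
  Groth.Agent.Lib.Helper1.Sky Groth.Agent.Lib.Helper1.CI Groth.Agent.Lib.Helper21.UnitHom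

attribute [local instance] Groth.Agent.Lib.Helper17.TildeD.isGrothendieckAbelian_modules

section

variable (Y : Scheme.{u})

/-- the structure sheaf as a module. -/
noncomputable abbrev PO : Y.Modules := SheafOfModules.unit Y.ringCatSheaf

lemma isFlat_PO : FlatMod.IsFlat (PO Y) :=
  Groth.Agent.Lib.Helper1.StalkTensor.isFlat_of_modSite_isFlat _
    (Groth.Agent.Lib.Helper21.ExtZeroS.isFlat_unit Y.sheaf)

/-- `O_Y` in degree `0`. -/
noncomputable abbrev SO : CochainComplex Y.Modules ℤ := (CochainComplex.singleFunctor Y.Modules 0).obj (PO Y)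

lemma kffs_SO_shift (k : ℤ) : KFFs ((SO Y)⟦k⟧) := by
  refine kffs_of_vanishesOutside _ (-k) (-k) ?_ ?_
  · intro i hi
    exact HomologicalComplex.isZero_single_obj_X (ComplexShape.up ℤ) 0 (PO Y) (i + k) (by omega)
  · intro i
    by_cases h : i + k = 0
    · exact flatMod_isFlat_of_iso
        (HomologicalComplex.singleObjXIsoOfEq (ComplexShape.up ℤ) 0 (PO Y) (i + k) h).symm (isFlat_PO Y)
    · exact flatMod_isFlat_of_isZero _
        (HomologicalComplex.isZero_single_obj_X (ComplexShape.up ℤ) 0 (PO Y) (i + k) h)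

end

section

variable {X Y : Scheme.{u}} (f : X ⟶ Y) [DCoh.HasLpull f] [DCoh.HasRpush f]

lemma hε (I : CochainComplex X.Modules ℤ) :
    (DCoh.Lpull f).map ((rpushNat f).app I) ≫ (lpullRpushAdj f).counit.app (Q.obj I) =
      (lpullNat f).app ((pushC f).obj I) ≫ Q.map ((adjC f).counit.app I) :=
  Adjunction.derivedε_fac_app (adjC f) (HomologicalComplex.quasiIso X.Modules (ComplexShape.up ℤ))
    (lpullNat f) (rpushNat f) I

/-- the complex `W⟦k⟧` in `K(Y)`. -/
noncomputable abbrev WO (Y : Scheme.{u}) : HomotopyCategory Y.Modules (ComplexShape.up ℤ) :=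
  (HomotopyCategory.quotient Y.Modules (ComplexShape.up ℤ)).obj (SO Y)

theorem bijective_Qh_map_push (I : CochainComplex X.Modules ℤ) [I.IsKInjective] (k : ℤ) :
    Function.Bijective (fun g : (WO Y)⟦k⟧ ⟶
      (HomotopyCategory.quotient Y.Modules (ComplexShape.up ℤ)).obj ((pushC f).obj I) =>
        (Qh : _ ⥤ DerivedCategory Y.Modules).map g) := by
  haveI : IsIso ((lpullNat f).app ((SO Y)⟦k⟧)) := isIso_lpullNat_app f _ (kffs_SO_shift Y k)
  haveI : IsIso ((rpushNat f).app I) :=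
    isIso_app_of_isKInjective (Scheme.Modules.pushforward f) (DCoh.Rpush f) (rpushNat f) I
  refine bijective_map_of_iso Qh
    (((HomotopyCategory.quotient Y.Modules (ComplexShape.up ℤ)).commShiftIso k).app (SO Y)) ?_
  exact bijective_Qh_map_of_Q ((SO Y)⟦k⟧) ((pushC f).obj I)
    (fun ξ => exists_Q_map_eq_of_adj (pullC f) (Scheme.Modules.pushforward f) (adjC f)
      (DCoh.Lpull f) (DCoh.Rpush f) (lpullRpushAdj f) (lpullNat f) (rpushNat f) (hε f) _ I ξ)
    (fun g hg => homotopy_zero_of_Q_map_eq_zero_of_adj (pullC f) (Scheme.Modules.pushforward f)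
      (adjC f) (DCoh.Lpull f) (DCoh.Rpush f) (lpullRpushAdj f) (lpullNat f) (rpushNat f) (hε f)
      _ I g hg)

end

section

variable (Y : Scheme.{u})

/-- `Hom(O_Y, M) ≃+ M(Y)`. -/
noncomputable def unitAddEquiv (M : Y.Modules) :
    (PO Y ⟶ M) ≃+ ((SheafOfModules.toSheaf Y.ringCatSheaf).obj M).obj.obj (op (⊤ : Y.Opens)) :=
  unitHomAddEquiv (R := Y.ringCatSheaf) (T := (⊤ : Y.Opens)) isTerminalTop M

lemma unitAddEquiv_comp {M M' : Y.Modules} (g : PO Y ⟶ M) (p : M ⟶ M') :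
    unitAddEquiv Y M' (g ≫ p) =
      (((SheafOfModules.toSheaf Y.ringCatSheaf).map p).hom.app (op ⊤)).hom (unitAddEquiv Y M g) :=
  rfl

theorem acyclic_gamma_of_lift (C : CochainComplex Y.Modules ℤ)
    (h : ∀ (n : ℤ) (φ : PO Y ⟶ C.X n), φ ≫ C.d n (n + 1) = 0 →
      ∃ w : PO Y ⟶ C.X (n - 1), w ≫ C.d (n - 1) n = φ) :
    (((DCoh.gammaAb Y).mapHomologicalComplex (ComplexShape.up ℤ)).obj C).Acyclic := by
  intro i
  rw [HomologicalComplex.exactAt_iff' _ (i - 1) i (i + 1) (by simp) (by simp),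
    ShortComplex.ab_exact_iff]
  intro x₂ hx₂
  obtain ⟨φ, hφ⟩ : ∃ φ : PO Y ⟶ C.X i, unitAddEquiv Y (C.X i) φ = x₂ :=
    ⟨(unitAddEquiv Y (C.X i)).symm x₂, AddEquiv.apply_symm_apply _ _⟩
  have hφd : φ ≫ C.d i (i + 1) = 0 := by
    apply (unitAddEquiv Y (C.X (i + 1))).injective
    refine (unitAddEquiv_comp Y φ (C.d i (i + 1))).trans ?_
    rw [hφ]
    exact hx₂.trans (map_zero _).symm
  obtain ⟨w, hw⟩ := h i φ hφd
  refine ⟨unitAddEquiv Y (C.X (i - 1)) w, ?_⟩
  refine (unitAddEquiv_comp Y w (C.d (i - 1) i)).symm.trans ?_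
  exact (congrArg (unitAddEquiv Y (C.X i)) hw).trans hφ

/-- the unit `Q Γ(Y, K) ⟶ RΓ(Y, Q K)`. -/
noncomputable def rgUnit [DCoh.HasRΓ Y] :
    (DCoh.gammaAb Y).mapHomologicalComplex (ComplexShape.up ℤ) ⋙ Q ⟶ Q ⋙ DCoh.RΓ Y :=
  unitOfK (DCoh.gammaAb Y) (DCoh.RΓ Y)
    ((DCoh.gammaKh Y).totalRightDerivedUnit Qh
      (HomotopyCategory.quasiIso Y.Modules (ComplexShape.up ℤ)))

instance [DCoh.HasRΓ Y] : (DCoh.RΓ Y).IsRightDerivedFunctor (rgUnit Y)
    (HomologicalComplex.quasiIso Y.Modules (ComplexShape.up ℤ)) := by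
  unfold rgUnit
  infer_instance

variable {Y}
variable {X : Scheme.{u}} (f : X ⟶ Y) [DCoh.HasLpull f] [DCoh.HasRpush f]

theorem isIso_rgUnit_app_push [DCoh.HasRΓ Y] (I : CochainComplex X.Modules ℤ)
    (hI : fibrant X.Modules I) : IsIso ((rgUnit Y).app ((pushC f).obj I)) := by
  haveI := hI.isKInjective
  obtain ⟨M, hM⟩ : ∃ M : CochainComplex Y.Modules ℤ, M = (pushC f).obj I := ⟨_, rfl⟩
  obtain ⟨J, hJ0⟩ : ∃ J : CochainComplex Y.Modules ℤ, J = (fibRepl₀ Y.Modules).obj M := ⟨_, rfl⟩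
  have hJ : fibrant Y.Modules J := hJ0 ▸ fibrant_fibRepl₀ Y.Modules M
  obtain ⟨s, hs⟩ : ∃ s : M ⟶ J, QuasiIso s := by
    subst hJ0
    exact ⟨(fibReplι₀ Y.Modules).app M, (trivCof_fibReplι₀ Y.Modules M).2⟩
  haveI := hs
  haveI := hJ.isKInjective
  have hQ : IsIso ((Q : _ ⥤ DerivedCategory Y.Modules).map s) := by
    rw [isIso_Q_map_iff_quasiIso]; infer_instance
  haveI hQs : IsIso ((Qh : _ ⥤ DerivedCategory Y.Modules).map
      ((HomotopyCategory.quotient Y.Modules (ComplexShape.up ℤ)).map s)) :=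
    (NatIso.isIso_map_iff (quotientCompQhIso Y.Modules) s).2 hQ
  have hbij : ∀ k : ℤ, Function.Bijective (fun g : (WO Y)⟦k⟧ ⟶
      (HomotopyCategory.quotient Y.Modules (ComplexShape.up ℤ)).obj M =>
        g ≫ (HomotopyCategory.quotient Y.Modules (ComplexShape.up ℤ)).map s) := fun k =>
    bijective_comp_of_bijective_map Qh _ (hM ▸ bijective_Qh_map_push f I k)
      (CochainComplex.IsKInjective.Qh_map_bijective _ J)
  have horth : ∀ k : ℤ, Orth (WO Y) k ((HomotopyCategory.quotient Y.Modules (ComplexShape.up ℤ)).obj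
      (CochainComplex.mappingCone s)) := fun k =>
    orth_obj₃_of_bijective (WO Y) (CochainComplex.mappingCone.triangleh s)
      (HomotopyCategory.mappingCone_triangleh_distinguished s) hbij k
  have hac := acyclic_gamma_of_lift Y (CochainComplex.mappingCone s)
    (fun n φ hφ => exists_lift_of_orth (PO Y) _ horth n φ hφ)
  haveI h1 := isIso_Q_map_of_acyclic_mappingCone (DCoh.gammaAb Y) s hac
  haveI h2 := isIso_app_of_fibrant' (DCoh.gammaAb Y) (DCoh.RΓ Y) (rgUnit Y) J hJ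
  have nat := (rgUnit Y).naturality s
  haveI h3 : IsIso ((Q ⋙ DCoh.RΓ Y).map s) := by
    dsimp
    infer_instance
  have h4 : (rgUnit Y).app M =
      ((DCoh.gammaAb Y).mapHomologicalComplex (ComplexShape.up ℤ) ⋙ Q).map s ≫
        (rgUnit Y).app J ≫ inv ((Q ⋙ DCoh.RΓ Y).map s) := by
    rw [← Category.assoc, IsIso.eq_comp_inv]
    exact nat.symm
  subst hM
  rw [h4]
  dsimp
  infer_instance

end

end Groth.Agent.Lib.Helper17.RGamPush
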