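import Groth.Agent.Lib.Helper17RGamPush3
import Groth.Agent.Lib.Helper1RpushRes

/-!
# `RΓ(Y, Rf_* E) ≅ RΓ(X, E)` as functors on `D(O_X)` (helper17)
-/

set_option autoImplicit false
set_option linter.style.haveILetI false
set_option maxHeartbeats 400000
universe u
open CategoryTheory CategoryTheory.Limits Opposite AlgebraicGeometry TopologicalSpace DerivedCategory
attribute [local instance] HasDerivedCategory.standard

namespace Groth.Agent.Lib.Helper17.RGamPush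

open Groth.Agent.Lib.Helper17.KInj Groth.Agent.Lib.Helper1.DAdj Groth.Agent.Lib.Helper1.Sky

attribute [local instance] Groth.Agent.Lib.Helper17.TildeD.isGrothendieckAbelian_modules

variable {X Y : Scheme.{u}} (f : X ⟶ Y)

/-- `Γ(X, -) = Γ(Y, f_* -)`. -/
noncomputable def gammaPushIso : DCoh.gammaAb X ≅ Scheme.Modules.pushforward f ⋙ DCoh.gammaAb Y :=
  NatIso.ofComponents (fun _ => Iso.refl _) (fun _ => rfl)

/-- `RΓ(X, -) ≅ RΓ(Y, Rf_* -)`. -/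
theorem nonempty_RΓ_iso [DCoh.HasRpush f] [DCoh.HasRΓ X] [DCoh.HasRΓ Y] :
    Nonempty (DCoh.RΓ X ≅ DCoh.Rpush f ⋙ DCoh.RΓ Y) := by
  haveI : DCoh.HasLpull f := hasLpull f
  exact nonempty_iso_comp (Scheme.Modules.pushforward f) (DCoh.gammaAb Y) (DCoh.gammaAb X)
    (gammaPushIso f) (DCoh.Rpush f) (rpushNat f) (DCoh.RΓ Y) (rgUnit Y) (DCoh.RΓ X) (rgUnit X)
    (fun I hI => isIso_rgUnit_app_push f I hI)

/-- the version over an open. -/
theorem nonempty_RΓ_restrict_iso (V : Y.Opens) [DCoh.HasRpush f] [DCoh.HasRΓ (V : Scheme.{u})]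
    [DCoh.HasRΓ (f ⁻¹ᵁ V : Scheme.{u})]
    [PreservesFiniteLimits (Scheme.Modules.restrictFunctor V.ι)]
    [PreservesFiniteLimits (Scheme.Modules.restrictFunctor (f ⁻¹ᵁ V).ι)] :
    Nonempty (DCoh.restrictD (f ⁻¹ᵁ V).ι ⋙ DCoh.RΓ (f ⁻¹ᵁ V : Scheme.{u}) ≅
      DCoh.Rpush f ⋙ DCoh.restrictD V.ι ⋙ DCoh.RΓ (V : Scheme.{u})) := by
  haveI : DCoh.HasRpush (f ∣_ V) := Groth.Agent.Lib.Helper17.QCPush.hasRpush _
  obtain ⟨e1⟩ := nonempty_RΓ_iso (f ∣_ V)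
  obtain ⟨e2⟩ := Groth.Agent.Lib.Helper1.RpushRes.nonempty_rpush_restrict_iso f V
  exact ⟨Functor.isoWhiskerLeft (DCoh.restrictD (f ⁻¹ᵁ V).ι) e1 ≪≫
    (Functor.associator _ _ _).symm ≪≫
    Functor.isoWhiskerRight e2.symm (DCoh.RΓ (V : Scheme.{u})) ≪≫ Functor.associator _ _ _⟩

end Groth.Agent.Lib.Helper17.RGamPush
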