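import Groth.Agent.Lib.Helper17RGamPush4

/-!
# `Γ(U, f_* B) ⟶ RΓ(U, (f_* B)|_U)` is an isomorphism for K-injective `B` (helper17)
-/

set_option autoImplicit false
set_option linter.style.haveILetI false
set_option maxHeartbeats 400000
universe u
open CategoryTheory CategoryTheory.Limits Opposite AlgebraicGeometry TopologicalSpace DerivedCategory
attribute [local instance] HasDerivedCategory.standard

namespace Groth.Agent.Lib.Helper17.RGamPush

open Groth.Agent.Lib.Helper17.KInj Groth.Agent.Lib.Helper17.KosOrth Groth.Agent.Lib.Helper1.DAdj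
  Groth.Agent.Lib.Helper1.Sky Groth.Agent.Lib.Helper1.RpushRes

attribute [local instance] Groth.Agent.Lib.Helper17.TildeD.isGrothendieckAbelian_modules

section

variable {X Y : Scheme.{u}} (f : X ⟶ Y) [DCoh.HasLpull f] [DCoh.HasRpush f]

/-- `Γ(Y, f_* I) ⟶ RΓ(Y, f_* I)` is an isomorphism for every K-injective `I`. -/
theorem isIso_rgUnit_app_push' [DCoh.HasRΓ Y] (I : CochainComplex X.Modules ℤ)
    [I.IsKInjective] : IsIso ((rgUnit Y).app ((pushC f).obj I)) := by
  obtain ⟨M, hM⟩ : ∃ M : CochainComplex Y.Modules ℤ, M = (pushC f).obj I := ⟨_, rfl⟩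
  obtain ⟨J, hJ0⟩ : ∃ J : CochainComplex Y.Modules ℤ, J = (fibRepl₀ Y.Modules).obj M := ⟨_, rfl⟩
  have hJ : fibrant Y.Modules J := hJ0 ▸ fibrant_fibRepl₀ Y.Modules M
  obtain ⟨s, hs⟩ : ∃ s : M ⟶ J, QuasiIso s := by
    subst hJ0
    exact ⟨(fibReplι₀ Y.Modules).app M, (trivCof_fibReplι₀ Y.Modules M).2⟩
  haveI := hs
  haveI := hJ.isKInjective
  have hQ : IsIso ((Q : _ ⥤ DerivedCategory Y.Modules).map s) := by
    rw [isIso_Q_map_iff_quasiIso]; infer_instance
  haveI hQs : IsIso ((Qh : _ ⥤ DerivedCategory Y.Modules).map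
      ((HomotopyCategory.quotient Y.Modules (ComplexShape.up ℤ)).map s)) :=
    (NatIso.isIso_map_iff (quotientCompQhIso Y.Modules) s).2 hQ
  have hbij : ∀ k : ℤ, Function.Bijective (fun g : (WO Y)⟦k⟧ ⟶
      (HomotopyCategory.quotient Y.Modules (ComplexShape.up ℤ)).obj M =>
        g ≫ (HomotopyCategory.quotient Y.Modules (ComplexShape.up ℤ)).map s) := fun k =>
    bijective_comp_of_bijective_map Qh _ (hM ▸ bijective_Qh_map_push f I k)
      (CochainComplex.IsKInjective.Qh_map_bijective _ J)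
  have horth : ∀ k : ℤ, Orth (WO Y) k ((HomotopyCategory.quotient Y.Modules (ComplexShape.up ℤ)).obj
      (CochainComplex.mappingCone s)) := fun k =>
    orth_obj₃_of_bijective (WO Y) (CochainComplex.mappingCone.triangleh s)
      (HomotopyCategory.mappingCone_triangleh_distinguished s) hbij k
  have hac := acyclic_gamma_of_lift Y (CochainComplex.mappingCone s)
    (fun n φ hφ => exists_lift_of_orth (PO Y) _ horth n φ hφ)
  haveI h1 := isIso_Q_map_of_acyclic_mappingCone (DCoh.gammaAb Y) s hac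
  haveI h2 := isIso_app_of_fibrant' (DCoh.gammaAb Y) (DCoh.RΓ Y) (rgUnit Y) J hJ
  have nat := (rgUnit Y).naturality s
  haveI h3 : IsIso ((Q ⋙ DCoh.RΓ Y).map s) := by
    dsimp
    infer_instance
  have h4 : (rgUnit Y).app M =
      ((DCoh.gammaAb Y).mapHomologicalComplex (ComplexShape.up ℤ) ⋙ Q).map s ≫
        (rgUnit Y).app J ≫ inv ((Q ⋙ DCoh.RΓ Y).map s) := by
    rw [← Category.assoc, IsIso.eq_comp_inv]
    exact nat.symm
  subst hM
  rw [h4]
  dsimp
  infer_instance

end

section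

variable {A : Type*} [Category A] [Abelian A] {B : Type*} [Category B] [Abelian B]
  [HasDerivedCategory A] [HasDerivedCategory B]
  (G : B ⥤ A) [G.Additive]
  (RG : DerivedCategory B ⥤ DerivedCategory A)
  (βK : G.mapHomotopyCategory (ComplexShape.up ℤ) ⋙ DerivedCategory.Qh ⟶
    DerivedCategory.Qh ⋙ RG)

lemma unitOfK_app (M : CochainComplex B ℤ) :
    (unitOfK G RG βK).app M = (isoF₀ G).inv.app M ≫
      βK.app ((HomotopyCategory.quotient B (ComplexShape.up ℤ)).obj M) ≫
        RG.map ((quotientCompQhIso B).hom.app M) := by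
  simp [unitOfK, γOfK]

lemma isIso_app_quotient_of_isIso_unitOfK_app (M : CochainComplex B ℤ)
    [IsIso ((unitOfK G RG βK).app M)] :
    IsIso (βK.app ((HomotopyCategory.quotient B (ComplexShape.up ℤ)).obj M)) := by
  have h : βK.app ((HomotopyCategory.quotient B (ComplexShape.up ℤ)).obj M) =
      (isoF₀ G).hom.app M ≫ (unitOfK G RG βK).app M ≫
        inv (RG.map ((quotientCompQhIso B).hom.app M)) := by
    rw [unitOfK_app]
    simp
  rw [h]
  infer_instance

end

section

variable {X Y : Scheme.{u}} (f : X ⟶ Y) (U : Y.Opens)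

/-- `(f_* B)|_U ≅ (f|_U)_* (B|_{f⁻¹ U})` as complexes. -/
noncomputable def pushRestrictCxIso (B : CochainComplex X.Modules ℤ) :
    (DCoh.restrictCx U).obj ((pushC f).obj B) ≅
      (pushC (f ∣_ U)).obj ((DCoh.restrictCx (f ⁻¹ᵁ U)).obj B) :=
  HomologicalComplex.Hom.isoOfComponents (fun i => (pushRestrictIso f U).app (B.X i))
    (fun i j _ => ((pushRestrictIso f U).hom.naturality (B.d i j)).symm)

theorem isIso_totalRightDerivedUnit_restrict_push (B : CochainComplex X.Modules ℤ)
    [B.IsKInjective] [DCoh.HasRΓ (U : Scheme.{u})] :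
    IsIso (((DCoh.gammaKh (U : Scheme.{u})).totalRightDerivedUnit DerivedCategory.Qh
      (HomotopyCategory.quasiIso (U : Scheme.{u}).Modules (ComplexShape.up ℤ))).app
      ((HomotopyCategory.quotient (U : Scheme.{u}).Modules (ComplexShape.up ℤ)).obj
        ((DCoh.restrictCx U).obj (((Scheme.Modules.pushforward f).mapHomologicalComplex
          (ComplexShape.up ℤ)).obj B)))) := by
  haveI : DCoh.HasRpush (f ∣_ U) := Groth.Agent.Lib.Helper17.QCPush.hasRpush _
  haveI : DCoh.HasLpull (f ∣_ U) := hasLpull _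
  haveI : CochainComplex.IsKInjective ((DCoh.restrictCx (f ⁻¹ᵁ U)).obj B) :=
    isKInjective_restrict (f ⁻¹ᵁ U) B
  haveI h1 := isIso_rgUnit_app_push' (f ∣_ U) ((DCoh.restrictCx (f ⁻¹ᵁ U)).obj B)
  have nat := (rgUnit (U : Scheme.{u})).naturality (pushRestrictCxIso f U B).hom
  haveI h2 : IsIso ((rgUnit (U : Scheme.{u})).app ((DCoh.restrictCx U).obj ((pushC f).obj B))) := by
    have h3 : (rgUnit (U : Scheme.{u})).app ((DCoh.restrictCx U).obj ((pushC f).obj B)) =
        ((DCoh.gammaAb (U : Scheme.{u})).mapHomologicalComplex (ComplexShape.up ℤ) ⋙ Q).map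
          (pushRestrictCxIso f U B).hom ≫
        (rgUnit (U : Scheme.{u})).app ((pushC (f ∣_ U)).obj ((DCoh.restrictCx (f ⁻¹ᵁ U)).obj B)) ≫
        inv ((Q ⋙ DCoh.RΓ (U : Scheme.{u})).map (pushRestrictCxIso f U B).hom) := by
      rw [← Category.assoc, IsIso.eq_comp_inv]
      exact nat.symm
    rw [h3]
    infer_instance
  haveI h5 : IsIso ((unitOfK (DCoh.gammaAb (U : Scheme.{u})) (DCoh.RΓ (U : Scheme.{u}))
      ((DCoh.gammaKh (U : Scheme.{u})).totalRightDerivedUnit Qh
        (HomotopyCategory.quasiIso (U : Scheme.{u}).Modules (ComplexShape.up ℤ)))).app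
      ((DCoh.restrictCx U).obj ((pushC f).obj B))) := h2
  exact isIso_app_quotient_of_isIso_unitOfK_app (DCoh.gammaAb (U : Scheme.{u}))
    (DCoh.RΓ (U : Scheme.{u})) _ _

end

end Groth.Agent.Lib.Helper17.RGamPush
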