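import Mathlib
import Groth.Agent.Lib.Helper16Cech

/-!
# Cech complexes with values in a general preadditive category: components of the differential (helper21)

Generalization of `Helper16CechLow` (`pr`, `face`, `δ_pr`, `d_pr`) from `AddCommGrpCat` to any preadditive
category `A` with products.
-/

set_option autoImplicit false
set_option linter.unusedSectionVars false
universe w v u₁ v' u'
open CategoryTheory

namespace Groth.Agent.Lib.Helper21.CechSh
open Opposite CategoryTheory.Limits Simplicial AlgebraicTopology Groth.Agent.Lib.Helper16.Cech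

variable {C : Type u₁} [Category.{v} C] [HasFiniteProducts C] {ι : Type w} (U : ι → C)
  {A : Type u'} [Category.{v'} A] [Preadditive A] [HasZeroObject A] [HasProducts.{w} A] (P : Cᵒᵖ ⥤ A)

/-- the Cech complex -/
noncomputable abbrev CK : CochainComplex A ℕ := (cechComplexFunctor U).obj P

/-- `U_{x_0} × ⋯ × U_{x_n}` -/
noncomputable abbrev Ux {n : ℕ} (x : Fin (n + 1) → ι) : C := ∏ᶜ (U ∘ x)

/-- the projection to the component `x`. -/
noncomputable def pr (n : ℕ) (x : Fin (n + 1) → ι) : (CK U P).X n ⟶ P.obj (op (Ux U x)) :=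
  Pi.π (fun x : Fin (n + 1) → ι => P.obj (op (Ux U x))) x

/-- the face maps -/
noncomputable def face {n : ℕ} (x : Fin (n + 2) → ι) (i : Fin (n + 2)) :
    Ux U x ⟶ Ux U (x ∘ Fin.succAbove i) :=
  Pi.lift fun a => Pi.π (U ∘ x) (Fin.succAbove i a)

/-- the Cech cosimplicial object -/
noncomputable abbrev YK : CosimplicialObject A :=
  (FormalCoproduct.mk ι U).cech.rightOp ⋙ (FormalCoproduct.evalOp.{w} C A).obj P

lemma δ_pr (n : ℕ) (x : Fin (n + 2) → ι) (i : Fin (n + 2)) :
    (YK U P).δ i ≫ pr U P (n + 1) x =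
      pr U P n (x ∘ Fin.succAbove i) ≫ P.map (face U x i).op := by
  exact limit.lift_π _ _

lemma d_pr (n : ℕ) (x : Fin (n + 2) → ι) :
    (CK U P).d n (n + 1) ≫ pr U P (n + 1) x =
      ∑ i : Fin (n + 2), (-1 : ℤ) ^ (i : ℕ) •
        (pr U P n (x ∘ Fin.succAbove i) ≫ P.map (face U x i).op) := by
  have h : (CK U P).d n (n + 1) = ∑ i : Fin (n + 2), (-1 : ℤ) ^ (i : ℕ) • (YK U P).δ i :=
    altCoface_d (YK U P) n
  rw [h]
  refine (Preadditive.sum_comp Finset.univ (fun i : Fin (n + 2) => (-1 : ℤ) ^ (i : ℕ) • (YK U P).δ i)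
    (pr U P (n + 1) x)).trans ?_
  refine Finset.sum_congr rfl (fun i _ => ?_)
  refine (Preadditive.zsmul_comp _ _ _).trans ?_
  exact congrArg (fun z => (-1 : ℤ) ^ (i : ℕ) • z) (δ_pr U P n x i)

/-- morphisms to a Cech cochain object are determined by their components. -/
lemma hom_ext_pr {T : A} (n : ℕ) (f g : T ⟶ (CK U P).X n)
    (h : ∀ x, f ≫ pr U P n x = g ≫ pr U P n x) : f = g :=
  Pi.hom_ext (f := fun x : Fin (n + 1) → ι => P.obj (op (Ux U x))) f g h

end Groth.Agent.Lib.Helper21.CechSh
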