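import Mathlib
import Groth.Prelude.Def_CechOX
import Groth.Agent.Lib.Helper21CechSh1
import Groth.Agent.Lib.Helper20StalkExact
import Groth.Agent.Lib.Helper16CechLow

/-!
# Sections of the Cech complex of sheaves `CechOX.cechSh` (helper21)

`secProdEquiv` (sections of a product of `O_X`-modules are families), `res`, `PF F` (the presheaf
`W ↦ (j_W)_*(F|_W)`), `IV W V` (`= W ⊓ V`), `sx`/`comp` (components of a cochain section),
`ext_sx`/`ext_comp`/`exists_sx`, `sx_d`/`comp_d` (formula for the differential on components),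
`comp_resV`, `aug_pr`/`comp_aug` (components of the coaugmentation).
-/

set_option autoImplicit false
universe u
open CategoryTheory CategoryTheory.Limits AlgebraicGeometry Opposite TopologicalSpace

namespace Groth.Agent.Lib.Helper21.CechSh
open Groth.Agent.Lib.Helper20.StalkExact

noncomputable section

variable {X : Scheme.{u}}

/-- sections of a product of modules are families of sections. -/
def secProdEquiv {J : Type u} (f : J → X.Modules) (V : X.Opens) :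
    Γ(∏ᶜ f, V) ≃ ∀ j, Γ(f j, V) :=
  ((PreservesProduct.iso (secF V) f).addCommGroupIsoToAddEquiv.toEquiv).trans
    (Concrete.productEquiv (fun j => (secF V).obj (f j)))

lemma secProdEquiv_apply {J : Type u} (f : J → X.Modules) (V : X.Opens) (s : Γ(∏ᶜ f, V)) (j : J) :
    secProdEquiv f V s j = (Pi.π f j).app V s := by
  have h1 := Concrete.productEquiv_apply_apply (fun j => (secF V).obj (f j))
    ((PreservesProduct.iso (secF V) f).hom s) j
  refine h1.trans ?_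
  have h2 : (PreservesProduct.iso (secF V) f).hom ≫ Pi.π _ j = (secF V).map (Pi.π f j) := by
    rw [PreservesProduct.iso_hom]
    exact piComparison_comp_π _ _ _
  exact ConcreteCategory.congr_hom h2 s

instance secF_additive (V : X.Opens) : (secF (X := X) V).Additive := ⟨fun {_ _ _ _} => rfl⟩

/-- restriction of sections -/
abbrev res (F : X.Modules) {A B : X.Opens} (h : B ≤ A) : Γ(F, A) ⟶ Γ(F, B) :=
  F.presheaf.map (homOfLE h).op

lemma res_res (F : X.Modules) {A B D : X.Opens} (h : B ≤ A) (h' : D ≤ B) (s : Γ(F, A)) :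
    res F h' (res F h s) = res F (h'.trans h) s := by
  have := F.presheaf.map_comp (homOfLE h).op (homOfLE h').op
  exact (ConcreteCategory.congr_hom this s).symm

lemma res_self (F : X.Modules) {A : X.Opens} (h : A ≤ A) (s : Γ(F, A)) : res F h s = s := by
  have := F.presheaf.map_id (op A)
  exact ConcreteCategory.congr_hom this s

lemma app_res {M N : X.Modules} (φ : M ⟶ N) {A B : X.Opens} (h : B ≤ A) (s : Γ(M, A)) :
    φ.app B (res M h s) = res N h (φ.app A s) :=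
  ConcreteCategory.congr_hom (CechOX.app_naturality φ (homOfLE h).op) s

variable {ι : Type u} (𝒰 : ι → X.Opens) (F : X.Modules)

/-- the presheaf of modules `W ↦ (j_W)_*(F|_W)`. -/
abbrev PF : (X.Opens)ᵒᵖ ⥤ X.Modules := (CechOX.pushRestrFam (X := X)).flip.obj F

lemma cechSh_obj : (CechOX.cechSh 𝒰).obj F = CK 𝒰 (PF F) := rfl

/-- `W ∩ V` in the form it appears -/
abbrev IV (W V : X.Opens) : X.Opens := W.ι ''ᵁ (W.ι ⁻¹ᵁ V)

lemma IV_eq (W V : X.Opens) : IV W V = W ⊓ V := by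
  rw [IV, Scheme.Hom.image_preimage_eq_opensRange_inf, Scheme.Opens.opensRange_ι]

lemma le_IV {W V O : X.Opens} (h : O ≤ W ⊓ V) : O ≤ IV W V := (IV_eq W V).symm ▸ h

/-- the `x`-component of a cochain section, as a section of `F` over `U_x ∩ V`. -/
def sx {n : ℕ} {V : X.Opens} (s : Γ((CK 𝒰 (PF F)).X n, V)) (x : Fin (n + 1) → ι) :
    Γ(F, IV (Ux 𝒰 x) V) :=
  (pr 𝒰 (PF F) n x).app V s

/-- the `x`-component restricted to a smaller open. -/
def comp {n : ℕ} {V : X.Opens} (s : Γ((CK 𝒰 (PF F)).X n, V)) (x : Fin (n + 1) → ι) (O : X.Opens)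
    (h : O ≤ Ux 𝒰 x ⊓ V) : Γ(F, O) :=
  res F (le_IV h) (sx 𝒰 F s x)

lemma comp_res {n : ℕ} {V : X.Opens} (s : Γ((CK 𝒰 (PF F)).X n, V)) (x : Fin (n + 1) → ι)
    (O O' : X.Opens) (h : O ≤ Ux 𝒰 x ⊓ V) (h' : O' ≤ O) :
    res F h' (comp 𝒰 F s x O h) = comp 𝒰 F s x O' (h'.trans h) :=
  res_res F _ _ _

lemma comp_congr {n : ℕ} {V : X.Opens} (s : Γ((CK 𝒰 (PF F)).X n, V)) (x x' : Fin (n + 1) → ι)
    (e : x = x') (O : X.Opens) (h : O ≤ Ux 𝒰 x ⊓ V) (h' : O ≤ Ux 𝒰 x' ⊓ V) :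
    comp 𝒰 F s x O h = comp 𝒰 F s x' O h' := by
  subst e
  rfl

lemma ext_sx {n : ℕ} {V : X.Opens} (s s' : Γ((CK 𝒰 (PF F)).X n, V))
    (h : ∀ x, sx 𝒰 F s x = sx 𝒰 F s' x) : s = s' := by
  apply (secProdEquiv (fun x : Fin (n + 1) → ι => (PF F).obj (op (Ux 𝒰 x))) V).injective
  funext x
  exact (secProdEquiv_apply _ V s x).trans ((h x).trans (secProdEquiv_apply _ V s' x).symm)

lemma exists_sx {n : ℕ} {V : X.Opens} (c : ∀ x : Fin (n + 1) → ι, Γ(F, IV (Ux 𝒰 x) V)) :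
    ∃ s : Γ((CK 𝒰 (PF F)).X n, V), ∀ x, sx 𝒰 F s x = c x := by
  refine ⟨(secProdEquiv (fun x : Fin (n + 1) → ι => (PF F).obj (op (Ux 𝒰 x))) V).symm c, fun x => ?_⟩
  refine (secProdEquiv_apply _ V _ x).symm.trans ?_
  rw [Equiv.apply_symm_apply]

lemma comp_self {n : ℕ} {V : X.Opens} (s : Γ((CK 𝒰 (PF F)).X n, V)) (x : Fin (n + 1) → ι)
    (h : IV (Ux 𝒰 x) V ≤ Ux 𝒰 x ⊓ V) :
    comp 𝒰 F s x (IV (Ux 𝒰 x) V) h = sx 𝒰 F s x :=
  res_self F _ _

lemma ext_comp {n : ℕ} {V : X.Opens} (s s' : Γ((CK 𝒰 (PF F)).X n, V))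
    (h : ∀ x, comp 𝒰 F s x (IV (Ux 𝒰 x) V) (IV_eq _ _).le =
      comp 𝒰 F s' x (IV (Ux 𝒰 x) V) (IV_eq _ _).le) : s = s' := by
  apply ext_sx
  intro x
  rw [← comp_self 𝒰 F s x (IV_eq _ _).le, ← comp_self 𝒰 F s' x (IV_eq _ _).le]
  exact h x


lemma sx_d {n : ℕ} {V : X.Opens} (s : Γ((CK 𝒰 (PF F)).X n, V)) (x : Fin (n + 2) → ι) :
    sx 𝒰 F (((CK 𝒰 (PF F)).d n (n + 1)).app V s) x =
      ∑ i : Fin (n + 2), (-1 : ℤ) ^ (i : ℕ) •
        res F (CechOX.image_preimage_mono (leOfHom (face 𝒰 x i)) V)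
          (sx 𝒰 F s (x ∘ Fin.succAbove i)) := by
  have h1 := congrArg (fun φ => (secF V).map φ) (d_pr 𝒰 (PF F) n x)
  simp only [Functor.map_sum, Functor.map_zsmul, Functor.map_comp] at h1
  have h2 := ConcreteCategory.congr_hom h1 s
  rw [Groth.Agent.Lib.Helper16.CechLow.sum_apply] at h2
  exact h2

lemma comp_d {n : ℕ} {V : X.Opens} (s : Γ((CK 𝒰 (PF F)).X n, V)) (x : Fin (n + 2) → ι)
    (O : X.Opens) (h : O ≤ Ux 𝒰 x ⊓ V) :
    comp 𝒰 F (((CK 𝒰 (PF F)).d n (n + 1)).app V s) x O h =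
      ∑ i : Fin (n + 2), (-1 : ℤ) ^ (i : ℕ) •
        comp 𝒰 F s (x ∘ Fin.succAbove i) O (h.trans (inf_le_inf_right V (face 𝒰 x i).le)) := by
  unfold comp
  rw [sx_d, map_sum]
  refine Finset.sum_congr rfl fun i _ => ?_
  rw [map_zsmul, res_res]

/-- components of a restricted cochain -/
lemma comp_resV {n : ℕ} {V V' : X.Opens} (hV : V' ≤ V) (s : Γ((CK 𝒰 (PF F)).X n, V))
    (x : Fin (n + 1) → ι) (O : X.Opens) (h : O ≤ Ux 𝒰 x ⊓ V') :
    comp 𝒰 F (res ((CK 𝒰 (PF F)).X n) hV s) x O h =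
      comp 𝒰 F s x O (h.trans (inf_le_inf_left _ hV)) := by
  unfold comp sx
  rw [app_res]
  exact res_res F _ _ _

/-- the augmentation followed by a projection is the unit of the adjunction -/
lemma aug_pr (x : Fin 1 → ι) :
    CechOX.cechShAug 𝒰 F ≫ pr 𝒰 (PF F) 0 x =
      (Scheme.Modules.restrictAdjunction (∏ᶜ (𝒰 ∘ x)).ι).unit.app F :=
  limit.lift_π _ _

lemma comp_aug {V : X.Opens} (t : Γ(F, V)) (x : Fin 1 → ι) (O : X.Opens) (h : O ≤ Ux 𝒰 x ⊓ V) :
    comp 𝒰 F ((CechOX.cechShAug 𝒰 F).app V t) x O h = res F (h.trans inf_le_right) t := by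
  unfold comp sx
  have h1 := congrArg (fun φ => Scheme.Modules.Hom.app φ V) (aug_pr 𝒰 F x)
  have h2 := ConcreteCategory.congr_hom h1 t
  refine (congrArg (res F (le_IV h)) h2).trans ?_
  have h3 := ConcreteCategory.congr_hom
    (Scheme.Modules.restrictAdjunction_unit_app_app (∏ᶜ (𝒰 ∘ x)).ι F V) t
  refine (congrArg (res F (le_IV h)) h3).trans ?_
  exact res_res F _ _ _


end

end Groth.Agent.Lib.Helper21.CechSh
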