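import Mathlib
import Groth.Prelude.Def_Coh
import Groth.Agent.Lib.Helper21CechSh2
import Groth.Agent.Lib.Helper23QCohAbelian
import Groth.Agent.Lib.Helper23QCohLocal

/-!
# Terms of the Cech complex of sheaves are quasi-coherent (helper21)

`isQuasicoherent_piObj` (finite products of quasi-coherent modules), `Ux_eq_iInf`, `isQuasicoherent_cechSh_X`.
-/

set_option autoImplicit false
set_option linter.style.haveILetI false
universe u
open CategoryTheory CategoryTheory.Limits AlgebraicGeometry Opposite TopologicalSpace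

namespace Groth.Agent.Lib.Helper21.CechSh

noncomputable section

variable {X : Scheme.{u}}

attribute [local instance] Abelian.hasFiniteBiproducts

/-- a finite product of quasi-coherent modules is quasi-coherent -/
theorem isQuasicoherent_piObj {J : Type u} [Finite J] (f : J → X.Modules)
    (hf : ∀ j, (f j).IsQuasicoherent) : (∏ᶜ f).IsQuasicoherent := by
  haveI := Fintype.ofFinite J
  have h1 : (∐ f).IsQuasicoherent :=
    Groth.Agent.Lib.Helper23.QCohLocal.isQuasicoherent_colimit (Discrete.functor f)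
      (fun j => hf j.as)
  exact (SheafOfModules.isQuasicoherent X.ringCatSheaf).prop_of_iso
    ((biproduct.isoCoproduct f).symm ≪≫ biproduct.isoProduct f) h1

variable {ι : Type u} (𝒰 : ι → X.Opens) (F : X.Modules)

lemma Ux_eq_iInf {n : ℕ} (x : Fin (n + 1) → ι) : Ux 𝒰 x = ⨅ a, 𝒰 (x a) := by
  apply le_antisymm
  · exact le_iInf fun a => (Pi.π (𝒰 ∘ x) a).le
  · exact (Pi.lift (fun a => homOfLE (iInf_le (fun a => 𝒰 (x a)) a)) :
      (⨅ a, 𝒰 (x a)) ⟶ ∏ᶜ (𝒰 ∘ x)).le

theorem isQuasicoherent_cechSh_X [X.IsSeparated] (h𝒰 : ∀ i, IsAffineOpen (𝒰 i))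
    [Finite ι] [F.IsQuasicoherent] (p : ℕ) :
    (((CechOX.cechSh 𝒰).obj F).X p).IsQuasicoherent := by
  change (∏ᶜ fun x : Fin (p + 1) → ι => (PF F).obj (op (Ux 𝒰 x))).IsQuasicoherent
  apply isQuasicoherent_piObj
  intro x
  have hW : IsAffineOpen (Ux 𝒰 x) := by
    rw [Ux_eq_iInf]
    exact IsAffineOpen.iInf (fun a => h𝒰 (x a))
  haveI : IsAffine ((Ux 𝒰 x : X.Opens) : Scheme.{u}) := hW
  haveI : IsAffineHom ((Ux 𝒰 x).ι ≫ terminal.from X) := by
    rw [terminal.comp_from]
    infer_instance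
  haveI : IsAffineHom (Ux 𝒰 x).ι := IsAffineHom.of_comp (Ux 𝒰 x).ι (terminal.from X)
  exact Groth.Agent.Lib.Helper23.QCohLocal.isQuasicoherent_pushforward (Ux 𝒰 x).ι
    ((Scheme.Modules.restrictFunctor (Ux 𝒰 x).ι).obj F)

end

end Groth.Agent.Lib.Helper21.CechSh
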