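import Groth.Agent.Lib.Helper17AcycPush2
import Groth.Agent.Lib.Helper21CechSh4
import Groth.Agent.Lib.Helper17QCPush5

/-!
# The relative Čech complex computes `Rf_*` (helper17)

`X` quasi-compact, `X` and `S` with affine diagonal, `𝒰` a finite affine open covering of `X`,
`F` quasi-coherent.  The Čech complex of sheaves `𝔠(𝒰, F)` is a resolution of `F` (helper21) by
`f_*`-acyclic quasi-coherent modules, so `f_* 𝔠(𝒰, F) = Č(𝒰, f, F)` computes `Rf_* F`.
-/

set_option autoImplicit false
set_option linter.style.haveILetI false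
set_option maxHeartbeats 400000

universe u

open CategoryTheory CategoryTheory.Limits AlgebraicGeometry TopologicalSpace Opposite
  DerivedCategory

attribute [local instance] HasDerivedCategory.standard

namespace Groth.Agent.Lib.Helper17.RelCech

open Groth.Agent.Lib.Helper21.CechSh Groth.Agent.Lib.Helper17.QCPush
  Groth.Agent.Lib.Helper17.MV Groth.Agent.Lib.Helper23.QCohLocal

section Affine

/-- cancellation for affine morphisms, with affine diagonal. -/
lemma isAffineHom_of_comp_of_diagonal {A B C : Scheme.{u}} (g : A ⟶ B) (h : B ⟶ C)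
    [hgh : IsAffineHom (g ≫ h)] [hh : IsAffineHom (pullback.diagonal h)] : IsAffineHom g := by
  let P : MorphismProperty Scheme.{u} := @IsAffineHom
  haveI : P.HasOfPostcompProperty P.diagonal :=
    MorphismProperty.hasOfPostcompProperty_iff_le_diagonal.2 le_rfl
  exact MorphismProperty.of_postcomp (W := P) (W' := P.diagonal) g h hh hgh

variable {X S : Scheme.{u}}

lemma isAffineHom_ι [IsAffineHom (pullback.diagonal (terminal.from X))] (W : X.Opens)
    (hW : IsAffineOpen W) : IsAffineHom W.ι := by
  haveI : IsAffine (W : Scheme.{u}) := hW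
  haveI : IsAffineHom (W.ι ≫ terminal.from X) := by
    rw [terminal.comp_from]
    infer_instance
  exact isAffineHom_of_comp_of_diagonal W.ι (terminal.from X)

lemma isAffineHom_ι_comp [IsAffineHom (pullback.diagonal (terminal.from S))] (f : X ⟶ S)
    (W : X.Opens) (hW : IsAffineOpen W) : IsAffineHom (W.ι ≫ f) := by
  haveI : IsAffine (W : Scheme.{u}) := hW
  haveI : IsAffineHom ((W.ι ≫ f) ≫ terminal.from S) := by
    rw [terminal.comp_from]
    infer_instance
  exact isAffineHom_of_comp_of_diagonal (W.ι ≫ f) (terminal.from S)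

end Affine

section Acyclic

variable {X S : Scheme.{u}} (f : X ⟶ S)

/-- `i_*(F|_W)` is `f_*`-acyclic if `W ⟶ X` and `W ⟶ S` are affine and `F` is quasi-coherent. -/
theorem isZero_Rpush_pushRestr (W : X.Opens) [IsAffineHom W.ι] [IsAffineHom (W.ι ≫ f)]
    (F : X.Modules) [F.IsQuasicoherent] [HasInjectiveResolutions X.Modules] (j : ℕ) (hj : 0 < j) :
    IsZero ((Coh.Rpush f j).obj ((CechOX.pushRestr W).obj F)) := by
  haveI := enoughInjectives (W : Scheme.{u})
  haveI : HasInjectiveResolutions (W : Scheme.{u}).Modules := inferInstance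
  have h : ∀ q : ℕ, IsZero (((Scheme.Modules.pushforward W.ι).rightDerived (q + 1)).obj
      ((Scheme.Modules.restrictFunctor W.ι).obj F)) := fun q =>
    isZero_Rpush_of_isAffineHom W.ι _ (q + 1) (by omega)
  have e := Groth.Agent.Lib.Helper23DerCompAcyclic.compIsoOfAcyclic
    (Scheme.Modules.pushforward W.ι) (Scheme.Modules.pushforward f) h j
  have e2 := (Groth.Agent.Lib.Helper21.DerPost.natIsoRightDerived
    (Scheme.Modules.pushforwardComp W.ι f) j).app ((Scheme.Modules.restrictFunctor W.ι).obj F)
  exact (isZero_Rpush_of_isAffineHom (W.ι ≫ f) _ j hj).of_iso (e.symm ≪≫ e2)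

/-- an additive functor kills a finite product of objects it kills. -/
lemma isZero_obj_piObj {A B : Type*} [Category A] [Abelian A] [Category B] [Abelian B]
    (G : A ⥤ B) [G.Additive] {J : Type*} [Finite J] (M : J → A) [HasProduct M]
    (h : ∀ j, IsZero (G.obj (M j))) : IsZero (G.obj (∏ᶜ M)) := by
  haveI : HasProduct fun j => G.obj (M j) := inferInstance
  refine IsZero.of_iso ?_ (PreservesProduct.iso G M)
  rw [IsZero.iff_id_eq_zero]
  apply Pi.hom_ext
  intro j
  exact (h j).eq_of_tgt _ _

end Acyclic

end Groth.Agent.Lib.Helper17.RelCech
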