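import Mathlib
import Groth.Agent.Lib.Helper21CechSh2

/-!
# The Cech complex of sheaves is a resolution (helper21)

`local_exact_succ`/`local_exact_zero` (contracting homotopy over `V ≤ U_j`), `aug_d`,
`mono_of_injective_app'`, `epi_of_locSurj`, `exact_of_local` (exactness of a short complex of `O_X`-modules
from local lifting of sections), `aug_app_injective`, `cechSh_resolution`.
-/

set_option autoImplicit false
set_option linter.style.haveILetI false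
universe u
open CategoryTheory CategoryTheory.Limits AlgebraicGeometry Opposite TopologicalSpace

namespace Groth.Agent.Lib.Helper21.CechSh
open Groth.Agent.Lib.Helper20.StalkExact

noncomputable section


variable {X : Scheme.{u}}

theorem mono_of_injective_app' {M N : X.Modules} (φ : M ⟶ N)
    (h : ∀ V : X.Opens, Function.Injective (φ.app V)) : Mono φ := by
  apply (Scheme.Modules.toPresheaf X).mono_of_mono_map
  haveI : ∀ V, Mono (((Scheme.Modules.toPresheaf X).map φ).app V) := fun V =>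
    (AddCommGrpCat.mono_iff_injective _).2 (h V.unop)
  exact NatTrans.mono_of_mono_app _

theorem epi_of_locSurj {M N : X.Modules} (φ : M ⟶ N)
    (h : ∀ (V : X.Opens) (t : Γ(N, V)) (v : X), v ∈ V →
      ∃ (V' : X.Opens) (hV' : V' ≤ V), v ∈ V' ∧ ∃ s : Γ(M, V'), φ.app V' s = res N hV' t) :
    Epi φ := by
  have h1 : TopCat.Presheaf.IsLocallySurjective
      ((SheafOfModules.toSheaf.{u} X.ringCatSheaf).map φ).hom := by
    rw [TopCat.Presheaf.isLocallySurjective_iff]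
    intro V t v hv
    obtain ⟨V', hV', hv', s, hs⟩ := h V t v hv
    exact ⟨V', hV', ⟨s, hs⟩, hv'⟩
  haveI : Epi ((SheafOfModules.toSheaf.{u} X.ringCatSheaf).map φ) :=
    (TopCat.Sheaf.isLocallySurjective_iff_epi (X := X.toTopCat) _).1 h1
  exact (SheafOfModules.toSheaf.{u} X.ringCatSheaf).epi_of_epi_map inferInstance

theorem exact_of_local (S : ShortComplex X.Modules)
    (h : ∀ (V : X.Opens) (z : Γ(S.X₂, V)), S.g.app V z = 0 → ∀ v : X, v ∈ V →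
      ∃ (V' : X.Opens) (hV' : V' ≤ V), v ∈ V' ∧ ∃ y : Γ(S.X₁, V'), S.f.app V' y = res S.X₂ hV' z) :
    S.Exact := by
  rw [S.exact_iff_epi_kernel_lift]
  apply epi_of_locSurj
  intro V t v hv
  have hz : S.g.app V ((kernel.ι S.g).app V t) = 0 := by
    have h1 : (kernel.ι S.g ≫ S.g).app V = 0 := by rw [kernel.condition]; rfl
    exact ConcreteCategory.congr_hom h1 t
  obtain ⟨V', hV', hv', y, hy⟩ := h V _ hz v hv
  refine ⟨V', hV', hv', y, ?_⟩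
  apply injective_app_of_mono (kernel.ι S.g) V'
  rw [app_res, ← hy]
  have h2 : (kernel.lift S.g S.f S.zero ≫ kernel.ι S.g).app V' = S.f.app V' := by
    rw [kernel.lift_ι]
  exact ConcreteCategory.congr_hom h2 y


variable {ι : Type u} (𝒰 : ι → X.Opens) (F : X.Modules)

lemma Ux_le {n : ℕ} (x : Fin (n + 1) → ι) (a : Fin (n + 1)) : Ux 𝒰 x ≤ 𝒰 (x a) :=
  (Pi.π (𝒰 ∘ x) a).le

lemma le_Ux {n : ℕ} (x : Fin (n + 1) → ι) (W : X.Opens) (h : ∀ a, W ≤ 𝒰 (x a)) : W ≤ Ux 𝒰 x :=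
  (Pi.lift (fun a => homOfLE (h a)) : W ⟶ ∏ᶜ (𝒰 ∘ x)).le

lemma comp_zero {n : ℕ} {V : X.Opens} (x : Fin (n + 1) → ι) (O : X.Opens)
    (h : O ≤ Ux 𝒰 x ⊓ V) : comp 𝒰 F (0 : Γ((CK 𝒰 (PF F)).X n, V)) x O h = 0 := by
  unfold comp sx
  have h1 : ((pr 𝒰 (PF F) n x).app V (0 : Γ((CK 𝒰 (PF F)).X n, V)) : Γ(F, IV (Ux 𝒰 x) V)) = 0 :=
    map_zero ((pr 𝒰 (PF F) n x).app V).hom
  exact (congrArg (res F (le_IV h)) h1).trans (map_zero (res F (le_IV h)).hom)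

lemma le_Ux_cons {n : ℕ} (j : ι) (x : Fin (n + 1) → ι) {V O : X.Opens} (hV : V ≤ 𝒰 j)
    (h : O ≤ Ux 𝒰 x ⊓ V) : O ≤ Ux 𝒰 (Fin.cons j x : Fin (n + 2) → ι) ⊓ V := by
  refine le_inf (le_Ux 𝒰 _ O (fun a => ?_)) (h.trans inf_le_right)
  refine Fin.cases ?_ (fun b => ?_) a
  · rw [Fin.cons_zero]
    exact (h.trans inf_le_right).trans hV
  · rw [Fin.cons_succ]
    exact (h.trans inf_le_left).trans (Ux_le 𝒰 x b)

lemma cons_comp_succAbove_zero {n : ℕ} (j : ι) (x : Fin (n + 1) → ι) :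
    (Fin.cons j x : Fin (n + 2) → ι) ∘ Fin.succAbove 0 = x := by
  funext a
  simp [Fin.succAbove_zero]

lemma cons_comp_succAbove_succ {n : ℕ} (j : ι) (x : Fin (n + 2) → ι) (i : Fin (n + 2)) :
    (Fin.cons j x : Fin (n + 3) → ι) ∘ Fin.succAbove i.succ =
      (Fin.cons j (x ∘ Fin.succAbove i) : Fin (n + 2) → ι) := by
  funext a
  refine Fin.cases ?_ (fun b => ?_) a
  · simp
  · simp [Fin.succ_succAbove_succ]

/-- local exactness of the Cech complex of sheaves in positive degrees -/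
theorem local_exact_succ {n : ℕ} {V : X.Opens} (j : ι) (hV : V ≤ 𝒰 j)
    (z : Γ((CK 𝒰 (PF F)).X (n + 1), V))
    (hz : ((CK 𝒰 (PF F)).d (n + 1) (n + 2)).app V z = 0) :
    ∃ y : Γ((CK 𝒰 (PF F)).X n, V), ((CK 𝒰 (PF F)).d n (n + 1)).app V y = z := by
  obtain ⟨y, hy⟩ := exists_sx 𝒰 F (n := n) (V := V) (fun x =>
    comp 𝒰 F z (Fin.cons j x : Fin (n + 2) → ι) (IV (Ux 𝒰 x) V)
      (le_Ux_cons 𝒰 j x hV (IV_eq _ _).le))
  have hy' : ∀ (x : Fin (n + 1) → ι) (O : X.Opens) (h : O ≤ Ux 𝒰 x ⊓ V),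
      comp 𝒰 F y x O h = comp 𝒰 F z (Fin.cons j x : Fin (n + 2) → ι) O (le_Ux_cons 𝒰 j x hV h) := by
    intro x O h
    unfold comp
    rw [hy x]
    exact res_res F _ _ _
  refine ⟨y, ext_comp 𝒰 F _ _ (fun x => ?_)⟩
  have hO : IV (Ux 𝒰 x) V ≤ Ux 𝒰 x ⊓ V := (IV_eq _ _).le
  rw [comp_d]
  have h0 := comp_d 𝒰 F z (Fin.cons j x : Fin (n + 3) → ι) (IV (Ux 𝒰 x) V) (le_Ux_cons 𝒰 j x hV hO)
  rw [hz, comp_zero, Fin.sum_univ_succ] at h0
  simp only [Fin.val_zero, pow_zero, one_smul, Fin.val_succ, pow_succ, mul_neg, mul_one,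
    neg_smul, Finset.sum_neg_distrib] at h0
  have h1 : comp 𝒰 F z ((Fin.cons j x : Fin (n + 3) → ι) ∘ Fin.succAbove 0) (IV (Ux 𝒰 x) V)
      ((le_Ux_cons 𝒰 j x hV hO).trans (inf_le_inf_right V (face 𝒰 _ 0).le)) =
      comp 𝒰 F z x (IV (Ux 𝒰 x) V) hO :=
    comp_congr 𝒰 F z _ _ (cons_comp_succAbove_zero j x) _ _ _
  rw [h1] at h0
  have h2 : ∀ i : Fin (n + 2),
      comp 𝒰 F z ((Fin.cons j x : Fin (n + 3) → ι) ∘ Fin.succAbove i.succ) (IV (Ux 𝒰 x) V)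
        ((le_Ux_cons 𝒰 j x hV hO).trans (inf_le_inf_right V (face 𝒰 _ i.succ).le)) =
      comp 𝒰 F y (x ∘ Fin.succAbove i) (IV (Ux 𝒰 x) V)
        (hO.trans (inf_le_inf_right V (face 𝒰 x i).le)) := by
    intro i
    rw [hy']
    exact comp_congr 𝒰 F z _ _ (cons_comp_succAbove_succ j x i) _ _ _
  simp only [h2] at h0
  rw [← sub_eq_add_neg] at h0
  exact (sub_eq_zero.1 h0.symm).symm

lemma fin1_fun_eq (x y : Fin 1 → ι) (h : x 0 = y 0) : x = y := by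
  funext a
  have ha : a = 0 := Subsingleton.elim _ _
  subst ha
  exact h

/-- local exactness of the augmented Cech complex of sheaves in degree zero -/
theorem local_exact_zero {V : X.Opens} (j : ι) (hV : V ≤ 𝒰 j)
    (z : Γ((CK 𝒰 (PF F)).X 0, V))
    (hz : ((CK 𝒰 (PF F)).d 0 1).app V z = 0) :
    ∃ t : Γ(F, V), (CechOX.cechShAug 𝒰 F).app V t = z := by
  have hj : V ≤ Ux 𝒰 (fun _ : Fin 1 => j) ⊓ V :=
    le_inf (le_Ux 𝒰 _ V (fun _ => hV)) le_rfl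
  refine ⟨comp 𝒰 F z (fun _ : Fin 1 => j) V hj, ext_comp 𝒰 F _ _ (fun x => ?_)⟩
  have hO : IV (Ux 𝒰 x) V ≤ Ux 𝒰 x ⊓ V := (IV_eq _ _).le
  rw [comp_aug, comp_res]
  have h0 := comp_d 𝒰 F z (Fin.cons j x : Fin 2 → ι) (IV (Ux 𝒰 x) V) (le_Ux_cons 𝒰 j x hV hO)
  rw [hz, comp_zero, Fin.sum_univ_succ] at h0
  simp only [Fin.val_zero, pow_zero, one_smul, Fin.val_succ, pow_succ, mul_neg, mul_one,
    neg_smul, Finset.sum_neg_distrib, Finset.univ_unique, Finset.sum_singleton, Fin.default_eq_zero] at h0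
  have h1 : comp 𝒰 F z ((Fin.cons j x : Fin 2 → ι) ∘ Fin.succAbove 0) (IV (Ux 𝒰 x) V)
      ((le_Ux_cons 𝒰 j x hV hO).trans (inf_le_inf_right V (face 𝒰 _ 0).le)) =
      comp 𝒰 F z x (IV (Ux 𝒰 x) V) hO :=
    comp_congr 𝒰 F z _ _ (cons_comp_succAbove_zero j x) _ _ _
  rw [h1] at h0
  have h2 : comp 𝒰 F z ((Fin.cons j x : Fin 2 → ι) ∘ Fin.succAbove (Fin.succ 0)) (IV (Ux 𝒰 x) V)
      ((le_Ux_cons 𝒰 j x hV hO).trans (inf_le_inf_right V (face 𝒰 _ (Fin.succ 0)).le)) =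
      comp 𝒰 F z (fun _ : Fin 1 => j) (IV (Ux 𝒰 x) V) ((hO.trans inf_le_right).trans hj) :=
    comp_congr 𝒰 F z ((Fin.cons j x : Fin 2 → ι) ∘ Fin.succAbove (Fin.succ 0)) (fun _ : Fin 1 => j)
      (fin1_fun_eq _ _ rfl) _ _ _
  rw [h2, ← sub_eq_add_neg] at h0
  exact (sub_eq_zero.1 h0.symm).symm

/-- the coaugmentation composed with the first differential vanishes -/
theorem aug_d : CechOX.cechShAug 𝒰 F ≫ (CK 𝒰 (PF F)).d 0 1 = 0 := by
  apply Scheme.Modules.hom_ext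
  intro V
  apply ConcreteCategory.hom_ext
  intro t
  rw [Scheme.Modules.Hom.comp_app, CategoryTheory.comp_apply]
  refine ext_comp 𝒰 F _ (0 : Γ((CK 𝒰 (PF F)).X 1, V)) (fun x => ?_)
  have hO : IV (Ux 𝒰 x) V ≤ Ux 𝒰 x ⊓ V := (IV_eq _ _).le
  refine (comp_d 𝒰 F (n := 0) ((CechOX.cechShAug 𝒰 F).app V t) x _ hO).trans ?_
  rw [comp_zero, Fin.sum_univ_succ]
  simp only [Fin.val_zero, pow_zero, one_smul, Fin.val_succ, pow_succ, mul_neg, mul_one,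
    neg_smul, Finset.sum_neg_distrib, Finset.univ_unique, Finset.sum_singleton, Fin.default_eq_zero]
  rw [comp_aug, comp_aug, add_neg_cancel]


theorem aug_app_injective (h𝒰 : ⨆ i, 𝒰 i = ⊤) (V : X.Opens) :
    Function.Injective ((CechOX.cechShAug 𝒰 F).app V) := by
  refine (injective_iff_map_eq_zero ((CechOX.cechShAug 𝒰 F).app V).hom).2 ?_
  intro t ht
  have h1 : ∀ i, res F (inf_le_right : 𝒰 i ⊓ V ≤ V) t = 0 := by
    intro i
    have hle : 𝒰 i ⊓ V ≤ Ux 𝒰 (fun _ : Fin 1 => i) ⊓ V :=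
      le_inf (le_Ux 𝒰 _ _ (fun _ => inf_le_left)) inf_le_right
    have h2 := comp_aug 𝒰 F t (fun _ : Fin 1 => i) (𝒰 i ⊓ V) hle
    have h3 : comp 𝒰 F ((CechOX.cechShAug 𝒰 F).app V t) (fun _ : Fin 1 => i) (𝒰 i ⊓ V) hle = 0 := by
      have : (CechOX.cechShAug 𝒰 F).app V t = (0 : Γ((CK 𝒰 (PF F)).X 0, V)) := ht
      rw [this, comp_zero]
    exact h2.symm.trans h3
  have hcov : V ≤ ⨆ i, 𝒰 i ⊓ V := by
    rw [← iSup_inf_eq, h𝒰, top_inf_eq]
  exact TopCat.Sheaf.eq_of_locally_eq' ⟨F.presheaf, F.isSheaf⟩ (fun i => 𝒰 i ⊓ V) V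
    (fun i => homOfLE inf_le_right) hcov t 0 (fun i => (h1 i).trans (map_zero _).symm)

theorem cechSh_resolution (h𝒰 : ⨆ i, 𝒰 i = ⊤) :
    Mono (CechOX.cechShAug 𝒰 F) ∧
    CechOX.cechShAug 𝒰 F ≫ ((CechOX.cechSh 𝒰).obj F).d 0 1 = 0 ∧
    (∀ (G : X.Modules) (g : G ⟶ ((CechOX.cechSh 𝒰).obj F).X 0),
      g ≫ ((CechOX.cechSh 𝒰).obj F).d 0 1 = 0 →
      ∃! g' : G ⟶ F, g' ≫ CechOX.cechShAug 𝒰 F = g) ∧
    ∀ p : ℕ, IsZero (((CechOX.cechSh 𝒰).obj F).homology (p + 1)) := by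
  have hcovx : ∀ v : X, ∃ j, v ∈ 𝒰 j := by
    intro v
    have hv : v ∈ (⨆ i, 𝒰 i : X.Opens) := by rw [h𝒰]; trivial
    exact (Opens.mem_iSup).1 hv
  haveI hmono : Mono (CechOX.cechShAug 𝒰 F) :=
    mono_of_injective_app' _ (aug_app_injective 𝒰 F h𝒰)
  refine ⟨hmono, aug_d 𝒰 F, ?_, ?_⟩
  · intro G g hg
    let S : ShortComplex X.Modules :=
      ShortComplex.mk (CechOX.cechShAug 𝒰 F) ((CK 𝒰 (PF F)).d 0 1) (aug_d 𝒰 F)
    have hS : S.Exact := by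
      apply exact_of_local
      intro V z hz v hv
      obtain ⟨j, hj⟩ := hcovx v
      refine ⟨𝒰 j ⊓ V, inf_le_right, ⟨hj, hv⟩, ?_⟩
      apply local_exact_zero 𝒰 F j inf_le_left
      refine (app_res ((CK 𝒰 (PF F)).d 0 1) inf_le_right z).trans ?_
      have hz' : ((CK 𝒰 (PF F)).d 0 1).app V z = 0 := hz
      rw [hz']
      exact map_zero _
    haveI : Mono S.f := hmono
    have hlim := hS.fIsKernel
    obtain ⟨l, hl⟩ := KernelFork.IsLimit.lift' hlim g hg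
    refine ⟨l, hl, fun l' hl' => ?_⟩
    rw [← cancel_mono (CechOX.cechShAug 𝒰 F)]
    exact hl'.trans hl.symm
  · intro p
    rw [← HomologicalComplex.exactAt_iff_isZero_homology]
    change (CK 𝒰 (PF F)).ExactAt (p + 1)
    rw [HomologicalComplex.exactAt_iff' (CK 𝒰 (PF F)) p (p + 1) (p + 2) (by simp) (by simp)]
    apply exact_of_local
    intro V z hz v hv
    obtain ⟨j, hj⟩ := hcovx v
    refine ⟨𝒰 j ⊓ V, inf_le_right, ⟨hj, hv⟩, ?_⟩
    apply local_exact_succ 𝒰 F j inf_le_left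
    refine (app_res ((CK 𝒰 (PF F)).d (p + 1) (p + 2)) inf_le_right z).trans ?_
    have hz' : ((CK 𝒰 (PF F)).d (p + 1) (p + 2)).app V z = 0 := hz
    rw [hz']
    exact map_zero _

end

end Groth.Agent.Lib.Helper21.CechSh
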