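import Groth.Agent.Lib.Helper17RelCech1
import Groth.Agent.Lib.Helper21CechSh3

/-!
# The relative Čech complex computes `Rf_*`: the resolution as a quasi-isomorphism (helper17)
-/

set_option autoImplicit false
set_option linter.style.haveILetI false
set_option maxHeartbeats 400000

universe u

open CategoryTheory CategoryTheory.Limits AlgebraicGeometry TopologicalSpace Opposite
  DerivedCategory HomologicalComplex

attribute [local instance] HasDerivedCategory.standard

namespace Groth.Agent.Lib.Helper17.RelCech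

open Groth.Agent.Lib.Helper21.CechSh Groth.Agent.Lib.Helper17.QCPush
  Groth.Agent.Lib.Helper17.MV Groth.Agent.Lib.Helper23.QCohLocal

variable {X : Scheme.{u}} {ι : Type u} (𝒰 : ι → X.Opens) (F : X.Modules)

/-- the coaugmentation as a morphism of `ℕ`-indexed complexes. -/
noncomputable def augN : (CochainComplex.single₀ X.Modules).obj F ⟶ (CechOX.cechSh 𝒰).obj F :=
  (CochainComplex.fromSingle₀Equiv _ _).symm ⟨CechOX.cechShAug 𝒰 F, aug_d 𝒰 F⟩

lemma exact_aug (h𝒰 : ⨆ i, 𝒰 i = ⊤) :
    (ShortComplex.mk (CechOX.cechShAug 𝒰 F) (((CechOX.cechSh 𝒰).obj F).d 0 1)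
      (aug_d 𝒰 F)).Exact := by
  obtain ⟨-, -, hker, -⟩ := cechSh_resolution 𝒰 F h𝒰
  apply ShortComplex.exact_of_f_is_kernel
  exact KernelFork.IsLimit.ofι _ _ (fun {G} g hg => (hker G g hg).choose)
    (fun {G} g hg => (hker G g hg).choose_spec.1)
    (fun {G} g hg m hm => (hker G g hg).choose_spec.2 m hm)

theorem quasiIso_augN (h𝒰 : ⨆ i, 𝒰 i = ⊤) : QuasiIso (augN 𝒰 F) := ⟨fun n => by
  obtain ⟨hmono, -, -, hH⟩ := cechSh_resolution 𝒰 F h𝒰
  cases n with
  | zero =>
    rw [CochainComplex.quasiIsoAt₀_iff, ShortComplex.quasiIso_iff_of_zeros]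
    · refine (ShortComplex.exact_and_mono_f_iff_of_iso ?_).2 ⟨exact_aug 𝒰 F h𝒰, hmono⟩
      exact ShortComplex.isoMk (Iso.refl _) (Iso.refl _) (Iso.refl _)
        ((Category.id_comp _).trans (Category.comp_id _).symm)
        ((Category.id_comp _).trans (Category.comp_id _).symm)
    all_goals rfl
  | succ n =>
    rw [quasiIsoAt_iff_exactAt]
    · rw [HomologicalComplex.exactAt_iff_isZero_homology]
      exact hH n
    · apply CochainComplex.exactAt_succ_single_obj⟩

/-- the coaugmentation as a morphism of `ℤ`-indexed complexes. -/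
noncomputable def augZ : (CochainComplex.singleFunctor X.Modules 0).obj F ⟶ CechOX.cechShZ 𝒰 F :=
  (HomologicalComplex.extendSingleIso _ _ _ _ (by simp)).inv ≫
    (ComplexShape.embeddingUpNat.extendFunctor X.Modules).map (augN 𝒰 F)

theorem quasiIso_augZ (h𝒰 : ⨆ i, 𝒰 i = ⊤) : QuasiIso (augZ 𝒰 F) := by
  haveI := quasiIso_augN 𝒰 F h𝒰
  haveI h1 : QuasiIso (HomologicalComplex.extendMap (augN 𝒰 F) ComplexShape.embeddingUpNat) :=
    inferInstance
  have h2 : QuasiIso ((ComplexShape.embeddingUpNat.extendFunctor X.Modules).map (augN 𝒰 F)) := h1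
  unfold augZ
  haveI h3 : QuasiIso (HomologicalComplex.extendSingleIso ComplexShape.embeddingUpNat F 0 0
      (by simp)).inv := inferInstance
  exact (quasiIso_iff_comp_left _ _).2 h2

end Groth.Agent.Lib.Helper17.RelCech
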