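import Groth.Agent.Lib.Helper17RelCech2

/-!
# The relative Čech complex computes `Rf_*`: main theorem (helper17)
-/

set_option autoImplicit false
set_option linter.style.haveILetI false
set_option maxHeartbeats 400000

universe u

open CategoryTheory CategoryTheory.Limits AlgebraicGeometry TopologicalSpace Opposite
  DerivedCategory HomologicalComplex

attribute [local instance] HasDerivedCategory.standard

namespace Groth.Agent.Lib.Helper17.RelCech

open Groth.Agent.Lib.Helper21.CechSh Groth.Agent.Lib.Helper17.QCPush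
  Groth.Agent.Lib.Helper17.MV Groth.Agent.Lib.Helper23.QCohLocal
  Groth.Agent.Lib.Helper17.AcycPush

section QS

variable {X : Scheme.{u}}

lemma quasiSeparatedSpace_of_affine_diagonal
    [IsAffineHom (pullback.diagonal (terminal.from X))] : QuasiSeparatedSpace X := by
  rw [quasiSeparatedSpace_iff_forall_affineOpens]
  intro U V
  exact (U.2.inf V.2).isCompact

end QS

variable {X S : Scheme.{u}} (f : X ⟶ S)
  [IsAffineHom (pullback.diagonal (terminal.from X))]
  [IsAffineHom (pullback.diagonal (terminal.from S))]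
  {ι : Type u} [Finite ι] (𝒰 : ι → X.Opens) (h𝒰 : ∀ i, IsAffineOpen (𝒰 i))
  (F : X.Modules) [F.IsQuasicoherent]

include h𝒰

lemma isAffineOpen_Ux {n : ℕ} (x : Fin (n + 1) → ι) : IsAffineOpen (Ux 𝒰 x) := by
  rw [Ux_eq_iInf]
  exact IsAffineOpen.iInf (fun a => h𝒰 (x a))

/-- the terms of the Čech complex of sheaves are quasi-coherent. -/
theorem isQuasicoherent_cechSh_X (p : ℕ) :
    (((CechOX.cechSh 𝒰).obj F).X p).IsQuasicoherent := by
  change (∏ᶜ fun x : Fin (p + 1) → ι => (CechOX.pushRestr (Ux 𝒰 x)).obj F).IsQuasicoherent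
  apply isQuasicoherent_piObj
  intro x
  haveI : IsAffineHom (Ux 𝒰 x).ι := isAffineHom_ι _ (isAffineOpen_Ux 𝒰 h𝒰 x)
  exact Groth.Agent.Lib.Helper23.QCohLocal.isQuasicoherent_pushforward (Ux 𝒰 x).ι
    ((Scheme.Modules.restrictFunctor (Ux 𝒰 x).ι).obj F)

/-- the terms of the Čech complex of sheaves are `f_*`-acyclic. -/
theorem isZero_Rpush_cechSh_X [HasInjectiveResolutions X.Modules] (p : ℕ) (j : ℕ) (hj : 0 < j) :
    IsZero ((Coh.Rpush f j).obj (((CechOX.cechSh 𝒰).obj F).X p)) := by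
  change IsZero ((Coh.Rpush f j).obj
    (∏ᶜ fun x : Fin (p + 1) → ι => (CechOX.pushRestr (Ux 𝒰 x)).obj F))
  apply isZero_obj_piObj
  intro x
  haveI : IsAffineHom (Ux 𝒰 x).ι := isAffineHom_ι _ (isAffineOpen_Ux 𝒰 h𝒰 x)
  haveI : IsAffineHom ((Ux 𝒰 x).ι ≫ f) := isAffineHom_ι_comp f _ (isAffineOpen_Ux 𝒰 h𝒰 x)
  exact isZero_Rpush_pushRestr f (Ux 𝒰 x) F j hj

/-- the terms of the `ℤ`-indexed Čech complex of sheaves are `f_*`-acyclic. -/
theorem isZero_Rpush_cechShZ_X [HasInjectiveResolutions X.Modules] (n : ℤ) (j : ℕ) (hj : 0 < j) :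
    IsZero ((Coh.Rpush f j).obj ((CechOX.cechShZ 𝒰 F).X n)) := by
  by_cases hn : 0 ≤ n
  · obtain ⟨k, rfl⟩ := Int.eq_ofNat_of_zero_le hn
    exact IsZero.of_iso (isZero_Rpush_cechSh_X f 𝒰 h𝒰 F k j hj)
      ((Coh.Rpush f j).mapIso (HomologicalComplex.extendXIso _ ComplexShape.embeddingUpNat
        (i := k) (i' := (k : ℤ)) rfl))
  · apply Functor.map_isZero
    apply HomologicalComplex.isZero_extend_X
    intro i hi
    exact hn (by rw [← hi]; exact Int.natCast_nonneg i)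

variable (hcov : ⨆ i, 𝒰 i = ⊤) [DCoh.HasRpush f]

include hcov

/-- **the relative Čech complex computes `Rf_* F`**. -/
theorem nonempty_relCechZ_iso :
    Nonempty (DCoh.toD S (CechOX.relCechZ 𝒰 f F) ≅ (DCoh.Rpush f).obj (DCoh.inD X F)) := by
  haveI := enoughInjectives X
  haveI : HasInjectiveResolutions X.Modules := inferInstance
  haveI : (CechOX.cechShZ 𝒰 F).IsStrictlyGE 0 := by
    dsimp [CechOX.cechShZ]
    infer_instance
  haveI h1 := isIso_unit_of_isStrictlyGE f (CechOX.cechShZ 𝒰 F) 0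
    (isZero_Rpush_cechShZ_X f 𝒰 h𝒰 F)
  let e1 := asIso (Groth.Agent.Lib.Helper17.AcycPush.unit f (CechOX.cechShZ 𝒰 F))
  haveI := quasiIso_augZ 𝒰 F hcov
  haveI : IsIso ((DerivedCategory.Q : _ ⥤ DCoh.D X).map (augZ 𝒰 F)) := by
    rw [DerivedCategory.isIso_Q_map_iff_quasiIso]; infer_instance
  let e2 : DCoh.inD X F ≅ (DerivedCategory.Q : _ ⥤ DCoh.D X).obj (CechOX.cechShZ 𝒰 F) :=
    (DerivedCategory.singleFunctorIsoCompQ X.Modules 0).app F ≪≫
      asIso ((DerivedCategory.Q : _ ⥤ DCoh.D X).map (augZ 𝒰 F))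
  let e3 : ((Scheme.Modules.pushforward f).mapHomologicalComplex (ComplexShape.up ℤ)).obj
      (CechOX.cechShZ 𝒰 F) ≅ CechOX.relCechZ 𝒰 f F :=
    Groth.Agent.Lib.Helper23Bridge.extendMapIso (Scheme.Modules.pushforward f)
      ((CechOX.cechSh 𝒰).obj F) ComplexShape.embeddingUpNat
  exact ⟨(DerivedCategory.Q : _ ⥤ DCoh.D S).mapIso e3.symm ≪≫ e1 ≪≫
    (DCoh.Rpush f).mapIso e2.symm⟩

end Groth.Agent.Lib.Helper17.RelCech
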