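import Mathlib

/-! Resolution theorem for K₀, part 1: short exact sequences in an abelian category
(helper17). -/
set_option autoImplicit false
set_option backward.isDefEq.respectTransparency false
universe v u
open CategoryTheory CategoryTheory.Limits

namespace Groth.Agent.Lib.Helper17.Res

variable {C : Type u} [Category.{v} C] [Abelian C]

/-- the kernel short exact sequence of an epi. -/
theorem kernel_shortExact {L A : C} (p : L ⟶ A) [Epi p] :
    (ShortComplex.mk (kernel.ι p) p (kernel.condition p)).ShortExact :=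
  ShortComplex.ShortExact.mk (ShortComplex.exact_of_f_is_kernel _ (kernelIsKernel p))

/-- lifting through the first map of a short exact sequence given by explicit maps. -/
theorem ses_lift {K L A : C} {j : K ⟶ L} {p : L ⟶ A} {h : j ≫ p = 0}
    (hT : (ShortComplex.mk j p h).ShortExact) {W : C} (x : W ⟶ L) (hx : x ≫ p = 0) :
    ∃ y : W ⟶ K, y ≫ j = x := by
  haveI : Mono (ShortComplex.mk j p h).f := hT.mono_f
  exact ⟨hT.exact.lift x hx, hT.exact.lift_f x hx⟩

/-- building a short exact sequence from a mono `j` with the kernel property. -/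
theorem ses_of_lift {K L A : C} (j : K ⟶ L) (p : L ⟶ A) (h : j ≫ p = 0) [Mono j] [Epi p]
    (hl : ∀ {W : C} (x : W ⟶ L), x ≫ p = 0 → ∃ y : W ⟶ K, y ≫ j = x) :
    (ShortComplex.mk j p h).ShortExact := by
  refine ShortComplex.ShortExact.mk (ShortComplex.exact_of_f_is_kernel _ ?_)
  refine KernelFork.IsLimit.ofι _ _ (fun {W} x hx => (hl x hx).choose)
    (fun x hx => (hl x hx).choose_spec) (fun x hx m hm => ?_)
  rw [← cancel_mono j]
  have hm' : m ≫ j = x := hm
  rw [hm', (hl x hx).choose_spec]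

/-- for short exact `0 → X₁ → X₂ → X₃ → 0` and `0 → K → L -w→ X₂ → 0` there is a short exact
sequence `0 → K → ker (w ≫ g) → X₁ → 0`. -/
theorem kerComp_shortExact {S : ShortComplex C} (hS : S.ShortExact) {K L : C} (j : K ⟶ L)
    (w : L ⟶ S.X₂) (h : j ≫ w = 0) (hT : (ShortComplex.mk j w h).ShortExact) :
    ∃ (j' : K ⟶ kernel (w ≫ S.g)) (q : kernel (w ≫ S.g) ⟶ S.X₁) (h' : j' ≫ q = 0),
      (ShortComplex.mk j' q h').ShortExact := by
  haveI : Mono S.f := hS.mono_f
  haveI : Mono j := hT.mono_f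
  haveI : Epi w := hT.epi_g
  let j' : K ⟶ kernel (w ≫ S.g) := kernel.lift (w ≫ S.g) j (by
    rw [← Category.assoc, h, zero_comp])
  have hj : j' ≫ kernel.ι (w ≫ S.g) = j := kernel.lift_ι _ _ _
  let q : kernel (w ≫ S.g) ⟶ S.X₁ := hS.exact.lift (kernel.ι (w ≫ S.g) ≫ w) (by
    rw [Category.assoc, kernel.condition])
  have hq : q ≫ S.f = kernel.ι (w ≫ S.g) ≫ w := hS.exact.lift_f _ _
  have h' : j' ≫ q = 0 := by
    rw [← cancel_mono S.f, Category.assoc, hq, ← Category.assoc, hj, h, zero_comp]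
  refine ⟨j', q, h', ?_⟩
  haveI : Mono j' := mono_of_mono_fac hj
  haveI : Epi q := by
    rw [epi_iff_surjective_up_to_refinements]
    intro Z a
    obtain ⟨Z', π, hπ, c, hc⟩ := surjective_up_to_refinements_of_epi w (a ≫ S.f)
    refine ⟨Z', π, hπ, kernel.lift (w ≫ S.g) c ?_, ?_⟩
    · rw [← Category.assoc, ← hc, Category.assoc, Category.assoc, S.zero, comp_zero, comp_zero]
    · rw [← cancel_mono S.f, Category.assoc, Category.assoc, hq, ← Category.assoc (kernel.lift _ _ _),
        kernel.lift_ι, hc]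
  refine ses_of_lift j' q h' (fun {W} x hx => ?_)
  obtain ⟨y, hy⟩ := ses_lift hT (x ≫ kernel.ι (w ≫ S.g)) (by
    rw [Category.assoc, ← hq, ← Category.assoc, hx, zero_comp])
  refine ⟨y, ?_⟩
  rw [← cancel_mono (kernel.ι (w ≫ S.g)), Category.assoc, hj, hy]

/-- for `0 → K → L -p→ A → 0` short exact and any `p' : L' ⟶ A`, the pullback `E` sits in a short
exact sequence `0 → K → E → L' → 0`. -/
theorem pullback_shortExact_snd {K L L' A : C} (j : K ⟶ L) (p : L ⟶ A) (h : j ≫ p = 0)
    (hT : (ShortComplex.mk j p h).ShortExact) (p' : L' ⟶ A) :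
    ∃ (i : K ⟶ pullback p p') (h' : i ≫ pullback.snd p p' = 0),
      (ShortComplex.mk i (pullback.snd p p') h').ShortExact := by
  haveI : Mono j := hT.mono_f
  haveI : Epi p := hT.epi_g
  let i : K ⟶ pullback p p' := pullback.lift j 0 (by rw [h, zero_comp])
  have hi1 : i ≫ pullback.fst p p' = j := pullback.lift_fst _ _ _
  have hi2 : i ≫ pullback.snd p p' = 0 := pullback.lift_snd _ _ _
  refine ⟨i, hi2, ?_⟩
  haveI : Mono i := mono_of_mono_fac hi1
  haveI : Epi (pullback.snd p p') := Abelian.epi_pullback_of_epi_f p p'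
  refine ses_of_lift i _ hi2 (fun {W} x hx => ?_)
  obtain ⟨y, hy⟩ := ses_lift hT (x ≫ pullback.fst p p') (by
    rw [Category.assoc, pullback.condition, ← Category.assoc, hx, zero_comp])
  refine ⟨y, ?_⟩
  apply pullback.hom_ext
  · rw [Category.assoc, hi1, hy]
  · rw [Category.assoc, hi2, comp_zero, hx]

/-- for `0 → K' → L' -p'→ A → 0` short exact and any `p : L ⟶ A`, the pullback `E` sits in a short
exact sequence `0 → K' → E → L → 0`. -/
theorem pullback_shortExact_fst {K' L L' A : C} (p : L ⟶ A) (j : K' ⟶ L') (p' : L' ⟶ A)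
    (h : j ≫ p' = 0) (hT : (ShortComplex.mk j p' h).ShortExact) :
    ∃ (i : K' ⟶ pullback p p') (h' : i ≫ pullback.fst p p' = 0),
      (ShortComplex.mk i (pullback.fst p p') h').ShortExact := by
  haveI : Mono j := hT.mono_f
  haveI : Epi p' := hT.epi_g
  let i : K' ⟶ pullback p p' := pullback.lift 0 j (by rw [h, zero_comp])
  have hi1 : i ≫ pullback.snd p p' = j := pullback.lift_snd _ _ _
  have hi2 : i ≫ pullback.fst p p' = 0 := pullback.lift_fst _ _ _
  refine ⟨i, hi2, ?_⟩
  haveI : Mono i := mono_of_mono_fac hi1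
  haveI : Epi (pullback.fst p p') := Abelian.epi_pullback_of_epi_g p p'
  refine ses_of_lift i _ hi2 (fun {W} x hx => ?_)
  obtain ⟨y, hy⟩ := ses_lift hT (x ≫ pullback.snd p p') (by
    rw [Category.assoc, ← pullback.condition, ← Category.assoc, hx, zero_comp])
  refine ⟨y, ?_⟩
  apply pullback.hom_ext
  · rw [Category.assoc, hi2, comp_zero, hx]
  · rw [Category.assoc, hi1, hy]

end Groth.Agent.Lib.Helper17.Res
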