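import Groth.Agent.Lib.Helper17Res1

/-! Resolution theorem for K₀, part 2: classes of objects with a one-step resolution, Schanuel's
lemma via pullbacks, extension of additive functions (helper17). -/
set_option autoImplicit false
set_option backward.isDefEq.respectTransparency false
universe v u w
open CategoryTheory CategoryTheory.Limits

namespace Groth.Agent.Lib.Helper17.Res

variable {C : Type u} [Category.{v} C] [Abelian C] {G : Type w} [AddCommGroup G]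

/-- the hypotheses of the resolution theorem. -/
structure Hyp (P₀ P₁ : ObjectProperty C) : Prop where
  iso₀ : ∀ {X Y : C}, (X ≅ Y) → P₀ X → P₀ Y
  iso₁ : ∀ {X Y : C}, (X ≅ Y) → P₁ X → P₁ Y
  le : ∀ X, P₀ X → P₁ X
  ext₀ : ∀ S : ShortComplex C, S.ShortExact → P₀ S.X₁ → P₀ S.X₃ → P₀ S.X₂
  ext₁ : ∀ S : ShortComplex C, S.ShortExact → P₁ S.X₁ → P₁ S.X₃ → P₁ S.X₂
  ker₀ : ∀ S : ShortComplex C, S.ShortExact → P₀ S.X₂ → P₀ S.X₃ → P₀ S.X₁
  ker₁ : ∀ S : ShortComplex C, S.ShortExact → P₁ S.X₂ → P₁ S.X₃ → P₁ S.X₁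
  lift : ∀ (A B D : C) (u : A ⟶ B) (v : D ⟶ B), Epi u → P₁ A → P₁ B → P₁ D →
      ∃ (L : C) (u' : L ⟶ D) (v' : L ⟶ A), P₀ L ∧ Epi u' ∧ u' ≫ v = v' ≫ u

/-- an intermediate class between `P₀` and `P₁` with the closure properties. -/
structure Good (P₀ P₁ Q : ObjectProperty C) : Prop where
  iso : ∀ {X Y : C}, (X ≅ Y) → Q X → Q Y
  ge : ∀ X, P₀ X → Q X
  le : ∀ X, Q X → P₁ X
  ext : ∀ S : ShortComplex C, S.ShortExact → Q S.X₁ → Q S.X₃ → Q S.X₂
  ker : ∀ S : ShortComplex C, S.ShortExact → Q S.X₂ → Q S.X₃ → Q S.X₁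

theorem Hyp.good {P₀ P₁ : ObjectProperty C} (H : Hyp P₀ P₁) : Good P₀ P₁ P₀ where
  iso := H.iso₀
  ge _ h := h
  le := H.le
  ext := H.ext₀
  ker := H.ker₀

/-- objects of `P₁` having a one-step resolution by objects of `Q`. -/
def Next (P₁ Q : ObjectProperty C) : ObjectProperty C := fun A =>
  P₁ A ∧ ∃ (K L : C) (j : K ⟶ L) (p : L ⟶ A) (h : j ≫ p = 0),
    (ShortComplex.mk j p h).ShortExact ∧ Q K ∧ Q L

/-- additivity of a function on the short exact sequences of a class. -/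
def IsAdd (Q : ObjectProperty C) (f : C → G) : Prop :=
  ∀ S : ShortComplex C, S.ShortExact → Q S.X₁ → Q S.X₂ → Q S.X₃ → f S.X₂ = f S.X₁ + f S.X₃

variable {P₀ P₁ Q : ObjectProperty C}

/-- Schanuel: for `A` with a one-step `Q`-resolution, every epi from an object of `Q` has its
kernel in `Q`. -/
theorem Good.next_kernel (hQ : Good P₀ P₁ Q) {A : C} (hA : Next P₁ Q A) {K' L' : C}
    (j' : K' ⟶ L') (p' : L' ⟶ A) (h' : j' ≫ p' = 0)
    (hT' : (ShortComplex.mk j' p' h').ShortExact) (hL' : Q L') : Q K' := by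
  obtain ⟨-, K, L, j, p, h, hT, hK, hL⟩ := hA
  obtain ⟨i, hi, hE⟩ := pullback_shortExact_snd j p h hT p'
  obtain ⟨i', hi', hE'⟩ := pullback_shortExact_fst p j' p' h' hT'
  have hQE : Q (pullback p p') := hQ.ext _ hE hK hL'
  exact hQ.ker _ hE' hQE hL

/-- Schanuel: the value `f L - f K` does not depend on the resolution. -/
theorem Good.next_value (hQ : Good P₀ P₁ Q) {f : C → G} (hf : IsAdd Q f) {A : C} {K L K' L' : C}
    (j : K ⟶ L) (p : L ⟶ A) (h : j ≫ p = 0) (hT : (ShortComplex.mk j p h).ShortExact)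
    (hK : Q K) (hL : Q L)
    (j' : K' ⟶ L') (p' : L' ⟶ A) (h' : j' ≫ p' = 0)
    (hT' : (ShortComplex.mk j' p' h').ShortExact) (hK' : Q K') (hL' : Q L') :
    f L - f K = f L' - f K' := by
  obtain ⟨i, hi, hE⟩ := pullback_shortExact_snd j p h hT p'
  obtain ⟨i', hi', hE'⟩ := pullback_shortExact_fst p j' p' h' hT'
  have hQE : Q (pullback p p') := hQ.ext _ hE hK hL'
  have e1 : f (pullback p p') = f K + f L' := hf _ hE hK hQE hL'
  have e2 : f (pullback p p') = f K' + f L := hf _ hE' hK' hQE hL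
  have e3 : f K + f L' = f K' + f L := e1.symm.trans e2
  rw [sub_eq_sub_iff_add_eq_add, add_comm (f L), add_comm (f L')]
  exact e3.symm

theorem IsAdd.kernel_id {f : C → G} (hQ : Good P₀ P₁ Q) (hf : IsAdd Q f) {A : C} (hA : Q A) :
    Q (kernel (𝟙 A)) ∧ f (kernel (𝟙 A)) = 0 := by
  have hS := kernel_shortExact (𝟙 A)
  have hK : Q (kernel (𝟙 A)) := hQ.ker _ hS hA hA
  refine ⟨hK, ?_⟩
  have := hf _ hS hK hA hA
  have h2 : f A = f (kernel (𝟙 A)) + f A := this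
  have h3 := congrArg (fun t => t - f A) h2
  simpa using h3.symm

theorem Good.le_next (hQ : Good P₀ P₁ Q) {A : C} (hA : Q A) : Next P₁ Q A :=
  ⟨hQ.le _ hA, kernel (𝟙 A), A, kernel.ι (𝟙 A), 𝟙 A, kernel.condition _,
    kernel_shortExact (𝟙 A), hQ.ker _ (kernel_shortExact (𝟙 A)) hA hA, hA⟩

open Classical in
/-- the extension of an additive function to the next class. -/
noncomputable def extend (P₁ Q : ObjectProperty C) (f : C → G) : C → G := fun A =>
  if h : Next P₁ Q A then f h.2.choose_spec.choose - f h.2.choose else 0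

theorem Good.extend_eq (hQ : Good P₀ P₁ Q) {f : C → G} (hf : IsAdd Q f) {A : C} (hA : P₁ A)
    {K L : C} (j : K ⟶ L) (p : L ⟶ A) (h : j ≫ p = 0)
    (hT : (ShortComplex.mk j p h).ShortExact) (hK : Q K) (hL : Q L) :
    extend P₁ Q f A = f L - f K := by
  classical
  have hN : Next P₁ Q A := ⟨hA, K, L, j, p, h, hT, hK, hL⟩
  unfold extend
  rw [dif_pos hN]
  obtain ⟨j₀, p₀, h₀, hT₀, hK₀, hL₀⟩ := hN.2.choose_spec.choose_spec
  exact hQ.next_value hf j₀ p₀ h₀ hT₀ hK₀ hL₀ j p h hT hK hL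

theorem Good.extend_of_mem (hQ : Good P₀ P₁ Q) {f : C → G} (hf : IsAdd Q f) {A : C} (hA : Q A) :
    extend P₁ Q f A = f A := by
  obtain ⟨hK, h0⟩ := hf.kernel_id hQ hA
  rw [hQ.extend_eq hf (hQ.le _ hA) (kernel.ι (𝟙 A)) (𝟙 A) (kernel.condition _)
    (kernel_shortExact (𝟙 A)) hK hA, h0, sub_zero]

theorem Good.extend_isAdd (hQ : Good P₀ P₁ Q) {f : C → G} (hf : IsAdd Q f) :
    IsAdd (Next P₁ Q) (extend P₁ Q f) := by
  intro S hS h₁ h₂ h₃
  obtain ⟨hP₂, K, L, j, p, h, hT, hK, hL⟩ := h₂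
  haveI : Epi p := hT.epi_g
  haveI : Epi S.g := hS.epi_g
  obtain ⟨j', q, h', hT'⟩ := kerComp_shortExact hS j p h hT
  have hN : Q (kernel (p ≫ S.g)) :=
    hQ.next_kernel h₃ (kernel.ι (p ≫ S.g)) (p ≫ S.g) (kernel.condition _)
      (kernel_shortExact (p ≫ S.g)) hL
  rw [hQ.extend_eq hf hP₂ j p h hT hK hL,
    hQ.extend_eq hf h₁.1 j' q h' hT' hK hN,
    hQ.extend_eq hf h₃.1 (kernel.ι (p ≫ S.g)) (p ≫ S.g) (kernel.condition _)
      (kernel_shortExact (p ≫ S.g)) hN hL]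
  abel

end Groth.Agent.Lib.Helper17.Res
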