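import Groth.Agent.Lib.Helper17Res2

/-! Resolution theorem for K₀, part 3: the tower of classes `Qn` and the extension of an additive
function along it (helper17). -/
set_option autoImplicit false
set_option backward.isDefEq.respectTransparency false
universe v u w
open CategoryTheory CategoryTheory.Limits

namespace Groth.Agent.Lib.Helper17.Res

variable {C : Type u} [Category.{v} C] [Abelian C] {G : Type w} [AddCommGroup G]
variable {P₀ P₁ Q : ObjectProperty C}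

theorem ses_comp_iso {K L A B : C} {j : K ⟶ L} {p : L ⟶ A} {h : j ≫ p = 0}
    (hT : (ShortComplex.mk j p h).ShortExact) (e : A ≅ B) :
    (ShortComplex.mk j (p ≫ e.hom) (by rw [← Category.assoc, h, zero_comp])).ShortExact :=
  ShortComplex.shortExact_of_iso
    (ShortComplex.isoMk (S₁ := ShortComplex.mk j p h)
      (S₂ := ShortComplex.mk j (p ≫ e.hom) (by rw [← Category.assoc, h, zero_comp]))
      (Iso.refl _) (Iso.refl _) e (by simp) (by simp)) hT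

theorem Good.next (H : Hyp P₀ P₁) (hQ : Good P₀ P₁ Q) : Good P₀ P₁ (Next P₁ Q) where
  iso := by
    rintro X Y e ⟨hX, K, L, j, p, h, hT, hK, hL⟩
    exact ⟨H.iso₁ e hX, K, L, j, p ≫ e.hom, _, ses_comp_iso hT e, hK, hL⟩
  ge X hX := hQ.le_next (hQ.ge X hX)
  le X hX := hX.1
  ker := by
    intro S hS h₂ h₃
    obtain ⟨hP₂, K, L, j, p, h, hT, hK, hL⟩ := h₂
    haveI : Epi p := hT.epi_g
    haveI : Epi S.g := hS.epi_g
    obtain ⟨j', q, h', hT'⟩ := kerComp_shortExact hS j p h hT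
    have hN : Q (kernel (p ≫ S.g)) :=
      hQ.next_kernel h₃ (kernel.ι (p ≫ S.g)) (p ≫ S.g) (kernel.condition _)
        (kernel_shortExact (p ≫ S.g)) hL
    exact ⟨H.ker₁ S hS hP₂ h₃.1, K, kernel (p ≫ S.g), j', q, h', hT', hK, hN⟩
  ext := by
    intro S hS h₁ h₃
    have hP₂ : P₁ S.X₂ := H.ext₁ S hS h₁.1 h₃.1
    obtain ⟨M, w, v', hM, hw, -⟩ := H.lift S.X₂ S.X₂ S.X₂ (𝟙 _) (𝟙 _) inferInstance hP₂ hP₂ hP₂
    haveI : Epi w := hw
    haveI : Epi S.g := hS.epi_g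
    have hMQ : Q M := hQ.ge M hM
    have hN : Q (kernel (w ≫ S.g)) :=
      hQ.next_kernel h₃ (kernel.ι (w ≫ S.g)) (w ≫ S.g) (kernel.condition _)
        (kernel_shortExact (w ≫ S.g)) hMQ
    obtain ⟨j', q, h', hT'⟩ := kerComp_shortExact hS (kernel.ι w) w (kernel.condition _)
      (kernel_shortExact w)
    have hK : Q (kernel w) := hQ.next_kernel h₁ j' q h' hT' hN
    exact ⟨hP₂, kernel w, M, kernel.ι w, w, kernel.condition _, kernel_shortExact w, hK, hMQ⟩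

/-- the tower of classes: objects of `P₁` with a `P₀`-resolution of length `≤ n`. -/
def Qn (P₀ P₁ : ObjectProperty C) : ℕ → ObjectProperty C
  | 0 => P₀
  | n + 1 => Next P₁ (Qn P₀ P₁ n)

theorem good_Qn (H : Hyp P₀ P₁) : ∀ n : ℕ, Good P₀ P₁ (Qn P₀ P₁ n)
  | 0 => H.good
  | n + 1 => (good_Qn H n).next H

theorem Qn_succ (H : Hyp P₀ P₁) (n : ℕ) {A : C} (hA : Qn P₀ P₁ n A) : Qn P₀ P₁ (n + 1) A :=
  (good_Qn H n).le_next hA

theorem Qn_mono (H : Hyp P₀ P₁) {m n : ℕ} (h : m ≤ n) {A : C} (hA : Qn P₀ P₁ m A) :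
    Qn P₀ P₁ n A := by
  induction h with
  | refl => exact hA
  | step _ ih => exact Qn_succ H _ ih

/-- the tower of extensions of an additive function. -/
noncomputable def fn (P₀ P₁ : ObjectProperty C) (f₀ : C → G) : ℕ → (C → G)
  | 0 => f₀
  | n + 1 => extend P₁ (Qn P₀ P₁ n) (fn P₀ P₁ f₀ n)

theorem fn_isAdd (H : Hyp P₀ P₁) {f₀ : C → G} (hf₀ : IsAdd P₀ f₀) :
    ∀ n : ℕ, IsAdd (Qn P₀ P₁ n) (fn P₀ P₁ f₀ n)
  | 0 => hf₀
  | n + 1 => (good_Qn H n).extend_isAdd (fn_isAdd H hf₀ n)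

theorem fn_succ_eq (H : Hyp P₀ P₁) {f₀ : C → G} (hf₀ : IsAdd P₀ f₀) (n : ℕ) {A : C}
    (hA : Qn P₀ P₁ n A) : fn P₀ P₁ f₀ (n + 1) A = fn P₀ P₁ f₀ n A :=
  (good_Qn H n).extend_of_mem (fn_isAdd H hf₀ n) hA

theorem fn_eq_of_le (H : Hyp P₀ P₁) {f₀ : C → G} (hf₀ : IsAdd P₀ f₀) {m n : ℕ} (h : m ≤ n)
    {A : C} (hA : Qn P₀ P₁ m A) : fn P₀ P₁ f₀ n A = fn P₀ P₁ f₀ m A := by
  induction h with
  | refl => rfl
  | step hmn ih => rw [fn_succ_eq H hf₀ _ (Qn_mono H hmn hA), ih]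

open Classical in
/-- the union of the tower of extensions. -/
noncomputable def finf (P₀ P₁ : ObjectProperty C) (f₀ : C → G) : C → G := fun A =>
  if h : ∃ n, Qn P₀ P₁ n A then fn P₀ P₁ f₀ (Nat.find h) A else 0

theorem finf_eq (H : Hyp P₀ P₁) {f₀ : C → G} (hf₀ : IsAdd P₀ f₀) {n : ℕ} {A : C}
    (hA : Qn P₀ P₁ n A) : finf P₀ P₁ f₀ A = fn P₀ P₁ f₀ n A := by
  classical
  have h : ∃ n, Qn P₀ P₁ n A := ⟨n, hA⟩
  unfold finf
  rw [dif_pos h]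
  exact (fn_eq_of_le H hf₀ (Nat.find_min' h hA) (Nat.find_spec h)).symm

theorem finf_of_mem (H : Hyp P₀ P₁) {f₀ : C → G} (hf₀ : IsAdd P₀ f₀) {A : C} (hA : P₀ A) :
    finf P₀ P₁ f₀ A = f₀ A :=
  finf_eq H hf₀ (n := 0) hA

theorem finf_isAdd (H : Hyp P₀ P₁) {f₀ : C → G} (hf₀ : IsAdd P₀ f₀)
    (hU : ∀ A, P₁ A → ∃ n, Qn P₀ P₁ n A) : IsAdd P₁ (finf P₀ P₁ f₀) := by
  intro S hS h₁ h₂ h₃
  obtain ⟨n₁, hn₁⟩ := hU _ h₁
  obtain ⟨n₂, hn₂⟩ := hU _ h₂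
  obtain ⟨n₃, hn₃⟩ := hU _ h₃
  let n := max n₁ (max n₂ n₃)
  have hq₁ : Qn P₀ P₁ n S.X₁ := Qn_mono H (le_max_left _ _) hn₁
  have hq₂ : Qn P₀ P₁ n S.X₂ := Qn_mono H ((le_max_left _ _).trans (le_max_right _ _)) hn₂
  have hq₃ : Qn P₀ P₁ n S.X₃ := Qn_mono H ((le_max_right _ _).trans (le_max_right _ _)) hn₃
  rw [finf_eq H hf₀ hq₁, finf_eq H hf₀ hq₂, finf_eq H hf₀ hq₃]
  exact fn_isAdd H hf₀ n S hS hq₁ hq₂ hq₃

end Groth.Agent.Lib.Helper17.Res
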