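import Groth.Agent.Lib.Helper17Res3

/-! Resolution theorem for K₀, part 4: spliced chain complexes and the exhaustion of `P₁` by the
tower `Qn` (helper17). -/
set_option autoImplicit false
set_option backward.isDefEq.respectTransparency false
universe v u w
open CategoryTheory CategoryTheory.Limits

namespace Groth.Agent.Lib.Helper17.Res

variable {C : Type u} [Category.{v} C] [Abelian C]

section Splice

variable (K X : ℕ → C) (p : ∀ n, X n ⟶ K n) (ι : ∀ n, K (n + 1) ⟶ X n)
  (hz : ∀ n, ι n ≫ p n = 0) (hS : ∀ n, (ShortComplex.mk (ι n) (p n) (hz n)).ShortExact)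

/-- the differential of the spliced complex. -/
def spliceD (n : ℕ) : X (n + 1) ⟶ X n := p (n + 1) ≫ ι n

include hz in
lemma spliceD_comp (n : ℕ) : spliceD K X p ι (n + 1) ≫ spliceD K X p ι n = 0 := by
  unfold spliceD
  rw [Category.assoc, ← Category.assoc (ι (n + 1)), hz, zero_comp, comp_zero]

/-- the spliced complex `⋯ → X₂ → X₁ → X₀`. -/
noncomputable def splice : ChainComplex C ℕ :=
  ChainComplex.of X (spliceD K X p ι) (spliceD_comp K X p ι hz)

lemma splice_d (n : ℕ) : (splice K X p ι hz).d (n + 1) n = p (n + 1) ≫ ι n := by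
  change ChainComplex.of.d X (spliceD K X p ι) (n + 1) n = _
  rw [ChainComplex.of_d]
  rfl

include hS in
theorem splice_exactAt (i : ℕ) : (splice K X p ι hz).ExactAt (i + 1) := by
  haveI : Mono (ι i) := (hS i).mono_f
  haveI : Epi (p (i + 2)) := (hS (i + 2)).epi_g
  rw [(splice K X p ι hz).exactAt_iff' (i + 2) (i + 1) i (by simp) (by simp)]
  -- the middle complex `K (i+2) → X (i+1) → X i`
  let Sc : ShortComplex C := ShortComplex.mk (ι (i + 1)) (p (i + 1) ≫ ι i) (by
    rw [← Category.assoc, hz, zero_comp])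
  let φ : (splice K X p ι hz).sc' (i + 2) (i + 1) i ⟶ Sc :=
    ShortComplex.homMk (p (i + 2)) (𝟙 _) (𝟙 _) (by
      change p (i + 2) ≫ ι (i + 1) = (splice K X p ι hz).d (i + 2) (i + 1) ≫ 𝟙 _
      rw [splice_d, Category.comp_id]) (by
      change 𝟙 _ ≫ p (i + 1) ≫ ι i = (splice K X p ι hz).d (i + 1) i ≫ 𝟙 _
      rw [splice_d, Category.comp_id, Category.id_comp])
  let ψ : ShortComplex.mk (ι (i + 1)) (p (i + 1)) (hz (i + 1)) ⟶ Sc :=
    ShortComplex.homMk (𝟙 _) (𝟙 _) (ι i) (by simp [Sc]) (by simp [Sc])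
  haveI : Epi φ.τ₁ := by change Epi (p (i + 2)); infer_instance
  haveI : IsIso φ.τ₂ := by change IsIso (𝟙 _); infer_instance
  haveI : Mono φ.τ₃ := by change Mono (𝟙 _); infer_instance
  haveI : Epi ψ.τ₁ := by change Epi (𝟙 _); infer_instance
  haveI : IsIso ψ.τ₂ := by change IsIso (𝟙 _); infer_instance
  haveI : Mono ψ.τ₃ := by change Mono (ι i); infer_instance
  rw [ShortComplex.exact_iff_of_epi_of_isIso_of_mono φ,
    ← ShortComplex.exact_iff_of_epi_of_isIso_of_mono ψ]
  exact (hS (i + 1)).exact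

include hS in
theorem splice_homology_zero : Nonempty ((splice K X p ι hz).homology 0 ≅ K 0) := by
  haveI : Epi (p 1) := (hS 1).epi_g
  haveI : Epi (ShortComplex.mk (ι 0) (p 0) (hz 0)).g := (hS 0).epi_g
  have h1 := (splice K X p ι hz).opcyclesIsCokernel 1 0 (by simp)
  have h2 : IsColimit (CokernelCofork.ofπ (p 0) (hz 0)) := (hS 0).exact.gIsCokernel
  have h3 := isCokernelEpiComp h2 (p 1) (splice_d K X p ι hz 0)
  exact ⟨(splice K X p ι hz).isoHomologyι₀ ≪≫ h1.coconePointUniqueUpToIso h3⟩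

include hS in
theorem splice_cycles (n : ℕ) : Nonempty ((splice K X p ι hz).cycles (n + 1) ≅ K (n + 2)) := by
  haveI : Mono (ι n) := (hS n).mono_f
  haveI : Mono (ShortComplex.mk (ι (n + 1)) (p (n + 1)) (hz (n + 1))).f := (hS (n + 1)).mono_f
  have h1 := (splice K X p ι hz).cyclesIsKernel (n + 1) n (by simp)
  have h2 : IsLimit (KernelFork.ofι (ι (n + 1)) (hz (n + 1))) := (hS (n + 1)).exact.fIsKernel
  have h3 := isKernelCompMono h2 (ι n) (splice_d K X p ι hz n)
  exact ⟨h1.conePointUniqueUpToIso h3⟩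

end Splice

section Stage

variable {P₀ P₁ : ObjectProperty C}

theorem Hyp.exists_cover (H : Hyp P₀ P₁) {K : C} (hK : P₁ K) :
    ∃ (L : C) (p : L ⟶ K), P₀ L ∧ Epi p := by
  obtain ⟨L, u', -, hL, hu', -⟩ := H.lift K K K (𝟙 _) (𝟙 _) inferInstance hK hK hK
  exact ⟨L, u', hL, hu'⟩

/-- a stage of the canonical resolution: an object of `P₁`. -/
structure Stage (P₁ : ObjectProperty C) where
  K : C
  hK : P₁ K

namespace Stage

variable (H : Hyp P₀ P₁) (s : Stage P₁)

/-- the chosen cover. -/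
noncomputable def L : C := (H.exists_cover s.hK).choose

/-- the chosen epi. -/
noncomputable def p : s.L H ⟶ s.K := (H.exists_cover s.hK).choose_spec.choose

theorem hL : P₀ (s.L H) := (H.exists_cover s.hK).choose_spec.choose_spec.1

instance epi_p : Epi (s.p H) := (H.exists_cover s.hK).choose_spec.choose_spec.2

/-- the next stage: the kernel of the chosen epi. -/
noncomputable def next : Stage P₁ :=
  ⟨kernel (s.p H), H.ker₁ _ (kernel_shortExact (s.p H)) (H.le _ (s.hL H)) s.hK⟩

end Stage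

/-- the stages of the canonical resolution of `A`. -/
noncomputable def stage (H : Hyp P₀ P₁) (A : C) (hA : P₁ A) : ℕ → Stage P₁
  | 0 => ⟨A, hA⟩
  | n + 1 => (stage H A hA n).next H

theorem exists_Qn (H : Hyp P₀ P₁)
    (h3 : ∀ A : C, P₁ A → ∃ d : ℕ, ∀ L : ChainComplex C ℕ, (∀ i, P₀ (L.X i)) →
      (∀ i, 1 ≤ i → L.ExactAt i) → Nonempty (L.homology 0 ≅ A) → P₀ (L.cycles (d + 1)))
    (A : C) (hA : P₁ A) : ∃ n, Qn P₀ P₁ n A := by
  obtain ⟨d, hd⟩ := h3 A hA
  let K : ℕ → C := fun n => (stage H A hA n).K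
  let X : ℕ → C := fun n => (stage H A hA n).L H
  let p : ∀ n, X n ⟶ K n := fun n => (stage H A hA n).p H
  let ι : ∀ n, K (n + 1) ⟶ X n := fun n => kernel.ι ((stage H A hA n).p H)
  have hz : ∀ n, ι n ≫ p n = 0 := fun n => kernel.condition _
  have hS : ∀ n, (ShortComplex.mk (ι n) (p n) (hz n)).ShortExact := fun n =>
    kernel_shortExact ((stage H A hA n).p H)
  have hK : ∀ n, P₁ (K n) := fun n => (stage H A hA n).hK
  have hX : ∀ n, P₀ (X n) := fun n => (stage H A hA n).hL H
  have hcyc : P₀ ((splice K X p ι hz).cycles (d + 1)) := by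
    refine hd _ (fun i => hX i) (fun i hi => ?_) (splice_homology_zero K X p ι hz hS)
    obtain ⟨j, rfl⟩ : ∃ j, i = j + 1 := ⟨i - 1, by omega⟩
    exact splice_exactAt K X p ι hz hS j
  obtain ⟨e⟩ := splice_cycles K X p ι hz hS d
  have h0 : P₀ (K (d + 2)) := H.iso₀ e hcyc
  have claim : ∀ j m : ℕ, m + j = d + 2 → Qn P₀ P₁ j (K m) := by
    intro j
    induction j with
    | zero =>
      intro m hm
      obtain rfl : m = d + 2 := by omega
      exact h0
    | succ j ih =>
      intro m hm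
      have h1 : Qn P₀ P₁ j (K (m + 1)) := ih (m + 1) (by omega)
      exact ⟨hK m, K (m + 1), X m, ι m, p m, hz m, hS m, h1, (good_Qn H j).ge _ (hX m)⟩
  exact ⟨d + 2, claim (d + 2) 0 (by omega)⟩

end Stage

end Groth.Agent.Lib.Helper17.Res
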