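import Groth.Agent.Lib.Helper17Res4
import Groth.Agent.Lib.Helper17K0a
import Groth.Prelude.Def_SGA6

/-! Resolution theorem for K₀, part 5: the statement on `K0sub` (helper17). -/
set_option autoImplicit false
set_option backward.isDefEq.respectTransparency false
universe v u
open CategoryTheory CategoryTheory.Limits

namespace Groth.Agent.Lib.Helper17.Res

open KZero Groth.Agent.Lib.Helper17.K0a

variable {C : Type u} [Category.{v} C] [Abelian C] {P₀ P₁ : ObjectProperty C}

theorem isAdd_clSub (P : ObjectProperty C) : IsAdd P (clSub P) :=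
  fun S hS h₁ h₂ h₃ => clSub_shortExact P S hS h₁ h₂ h₃

theorem mapSub_clSub (hle : ∀ X, P₀ X → P₁ X) {X : C} (hX : P₀ X) :
    SGA6.mapSub (𝟭 C) P₀ P₁ hle (clSub P₀ X) = clSub P₁ X := by
  rw [clSub_of_prop P₀ hX, clSub_of_prop P₁ (hle X hX)]
  unfold SGA6.mapSub
  rw [QuotientAddGroup.map_mk, FreeAbelianGroup.map_of_apply]
  rfl

/-- the retraction `K₀(P₁) → K₀(P₀)` attached to an additive function. -/
noncomputable def retr (P₁ : ObjectProperty C) {G : Type u} [AddCommGroup G] (f : C → G)
    (hf : IsAdd P₁ f) : K0sub P₁ →+ G :=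
  QuotientAddGroup.lift (relSub P₁)
    (FreeAbelianGroup.lift (fun X : Subtype P₁ => f X.1)) (by
    rw [relSub, AddSubgroup.closure_le]
    rintro x ⟨S, h₁, h₂, h₃, hS, rfl⟩
    rw [SetLike.mem_coe, AddMonoidHom.mem_ker, map_sub, map_sub, FreeAbelianGroup.lift_apply_of,
      FreeAbelianGroup.lift_apply_of, FreeAbelianGroup.lift_apply_of]
    change f S.X₂ - f S.X₁ - f S.X₃ = 0
    rw [hf S hS h₁ h₂ h₃]
    abel)

theorem retr_clSub {G : Type u} [AddCommGroup G] (f : C → G) (hf : IsAdd P₁ f) {X : C}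
    (hX : P₁ X) : retr P₁ f hf (clSub P₁ X) = f X := by
  rw [clSub_of_prop P₁ hX]
  unfold retr
  rw [QuotientAddGroup.lift_mk, FreeAbelianGroup.lift_apply_of]

theorem clSub_mem_range (H : Hyp P₀ P₁) :
    ∀ (n : ℕ) (A : C), Qn P₀ P₁ n A → clSub P₁ A ∈ (SGA6.mapSub (𝟭 C) P₀ P₁ H.le).range
  | 0, A, hA => ⟨clSub P₀ A, mapSub_clSub H.le hA⟩
  | n + 1, A, hA => by
    obtain ⟨hP, K, L, j, p, h, hT, hK, hL⟩ := hA
    have e := clSub_shortExact P₁ _ hT ((good_Qn H n).le _ hK) ((good_Qn H n).le _ hL) hP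
    have e' : clSub P₁ A = clSub P₁ L - clSub P₁ K := by
      have e2 : clSub P₁ L = clSub P₁ K + clSub P₁ A := e
      rw [e2]; abel
    rw [e']
    exact sub_mem (clSub_mem_range H n L hL) (clSub_mem_range H n K hK)

theorem bijective_mapSub (H : Hyp P₀ P₁)
    (h3 : ∀ A : C, P₁ A → ∃ d : ℕ, ∀ L : ChainComplex C ℕ, (∀ i, P₀ (L.X i)) →
      (∀ i, 1 ≤ i → L.ExactAt i) → Nonempty (L.homology 0 ≅ A) → P₀ (L.cycles (d + 1))) :
    Function.Bijective (SGA6.mapSub (𝟭 C) P₀ P₁ H.le) := by
  have hU := exists_Qn H h3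
  have hf₀ : IsAdd P₀ (clSub P₀) := isAdd_clSub P₀
  have hf := finf_isAdd H hf₀ hU
  constructor
  · -- injectivity via the retraction
    have hret : ∀ x : K0sub P₀,
        retr P₁ (finf P₀ P₁ (clSub P₀)) hf (SGA6.mapSub (𝟭 C) P₀ P₁ H.le x) = x := by
      intro x
      induction x using QuotientAddGroup.induction_on with
      | H z =>
        induction z using FreeAbelianGroup.induction_on with
        | zero => simp
        | of X =>
          have h1 : ((FreeAbelianGroup.of X : FreeAbelianGroup (Subtype P₀)) : K0sub P₀) =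
              clSub P₀ X.1 := (clSub_of_prop P₀ X.2).symm
          rw [h1, mapSub_clSub H.le X.2, retr_clSub _ hf (H.le _ X.2), finf_of_mem H hf₀ X.2]
        | neg X ih => rw [QuotientAddGroup.mk_neg, map_neg, map_neg, ih]
        | add x y hx hy => rw [QuotientAddGroup.mk_add, map_add, map_add, hx, hy]
    exact Function.LeftInverse.injective hret
  · intro x
    change x ∈ (SGA6.mapSub (𝟭 C) P₀ P₁ H.le).range
    induction x using QuotientAddGroup.induction_on with
    | H z =>
      induction z using FreeAbelianGroup.induction_on with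
      | zero => exact zero_mem _
      | of X =>
        have h1 : ((FreeAbelianGroup.of X : FreeAbelianGroup (Subtype P₁)) : K0sub P₁) =
            clSub P₁ X.1 := (clSub_of_prop P₁ X.2).symm
        rw [h1]
        obtain ⟨n, hn⟩ := hU X.1 X.2
        exact clSub_mem_range H n X.1 hn
      | neg X ih => rw [QuotientAddGroup.mk_neg]; exact neg_mem ih
      | add x y hx hy => rw [QuotientAddGroup.mk_add]; exact add_mem hx hy

end Groth.Agent.Lib.Helper17.Res
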