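import Groth.Agent.Lib.Helper17ResB1
import Groth.Agent.Lib.Helper17Tot12

/-!
# Quasi-isomorphisms from unbounded complexes to complexes with terms in a class (helper17)

Let `P` be a class of objects of an abelian category `A` such that every object embeds in an object
of `P`, `P` contains the zero objects, is closed under isomorphisms and extensions, and has "finite
dimension `n`". Then every cochain complex admits a quasi-isomorphism to a complex with terms in
`P`.
-/

set_option backward.isDefEq.respectTransparency false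
set_option autoImplicit false

universe v u

open CategoryTheory CategoryTheory.Limits

namespace Groth.Agent.Lib.Helper17.Res

open Groth.Agent.Lib.Helper17.Tot

variable {A : Type u} [Category.{v} A] [Abelian A]

local notation "upℤ" => ComplexShape.up ℤ

section Disc

variable (Pc : A → A) (ic : ∀ Z : A, Z ⟶ Pc Z) [∀ Z, Mono (ic Z)]

/-- the contractible complex with terms `Pc (X k) ⊞ Pc (X (k + 1))`. -/
noncomputable def discObj (X : CochainComplex A ℤ) : CochainComplex A ℤ :=
  CochainComplex.of (fun k => Pc (X.X k) ⊞ Pc (X.X (k + 1)))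
    (fun k => (biprod.snd ≫ biprod.inl :
      (Pc (X.X k) ⊞ Pc (X.X (k + 1))) ⟶ (Pc (X.X (k + 1)) ⊞ Pc (X.X (k + 1 + 1)))))
    (fun k => by simp)

lemma discObj_X (X : CochainComplex A ℤ) (k : ℤ) :
    (discObj Pc X).X k = (Pc (X.X k) ⊞ Pc (X.X (k + 1))) := rfl

lemma discObj_d (X : CochainComplex A ℤ) (k : ℤ) :
    (discObj Pc X).d k (k + 1) = (biprod.snd ≫ biprod.inl :
      (Pc (X.X k) ⊞ Pc (X.X (k + 1))) ⟶ (Pc (X.X (k + 1)) ⊞ Pc (X.X (k + 1 + 1)))) := by
  unfold discObj
  dsimp only
  rw [CochainComplex.of_d]

/-- the embedding in the contractible complex. -/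
noncomputable def discMap (X : CochainComplex A ℤ) : X ⟶ discObj Pc X where
  f k := biprod.lift (ic (X.X k)) (X.d k (k + 1) ≫ ic (X.X (k + 1)))
  comm' k k' h := by
    obtain rfl : k + 1 = k' := h
    rw [discObj_d]
    apply biprod.hom_ext
    · simp
    · simp

instance (X : CochainComplex A ℤ) : Mono (discMap Pc ic X) :=
  HomologicalComplex.mono_of_mono_f _ (fun k =>
    mono_of_mono_fac (biprod.lift_fst (ic (X.X k)) (X.d k (k + 1) ≫ ic (X.X (k + 1)))))

/-- hull data: the disc embedding for steps `< n`, the identity afterwards. -/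
noncomputable def truncHull (n : ℕ) : HullData (CochainComplex A ℤ) where
  obj j Y := if j < n then discObj Pc Y else Y
  map j Y := if h : j < n then discMap Pc ic Y ≫ eqToHom (if_pos h).symm
    else eqToHom (if_neg h).symm
  mono j Y := by
    by_cases h : j < n
    · rw [dif_pos h]; infer_instance
    · rw [dif_neg h]; infer_instance

lemma truncHull_obj_lt (n j : ℕ) (Y : CochainComplex A ℤ) (h : j < n) :
    (truncHull Pc ic n).obj j Y = discObj Pc Y := if_pos h

lemma truncHull_map_isIso (n j : ℕ) (Y : CochainComplex A ℤ) (h : ¬ j < n) :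
    IsIso ((truncHull Pc ic n).map j Y) := by
  change IsIso (if h : j < n then discMap Pc ic Y ≫ eqToHom (if_pos h).symm
    else eqToHom (if_neg h).symm)
  rw [dif_neg h]
  infer_instance

end Disc

section Main

variable (P : A → Prop)
  (hull : ∀ X : A, ∃ (Y : A) (i : X ⟶ Y), P Y ∧ Mono i)
  (hzero : ∀ X : A, IsZero X → P X)
  (hiso : ∀ X Y : A, (X ≅ Y) → P X → P Y)
  (hext : ∀ S : ShortComplex A, S.ShortExact → P S.X₁ → P S.X₃ → P S.X₂)

/-- the chosen hull. -/
noncomputable def Pc (Z : A) : A := (hull Z).choose

/-- the chosen embedding. -/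
noncomputable def ic (Z : A) : Z ⟶ Pc P hull Z := (hull Z).choose_spec.choose

lemma prop_Pc (Z : A) : P (Pc P hull Z) := (hull Z).choose_spec.choose_spec.1

instance mono_ic (Z : A) : Mono (ic P hull Z) := (hull Z).choose_spec.choose_spec.2

include hext in
lemma prop_biprod (X Y : A) (hX : P X) (hY : P Y) : P (X ⊞ Y) := by
  let S : ShortComplex A := ShortComplex.mk (biprod.inl : X ⟶ X ⊞ Y) biprod.snd (by simp)
  have hS : S.ShortExact := by
    refine ShortComplex.Splitting.shortExact (S := S) ?_
    exact
      { r := biprod.fst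
        s := biprod.inr
        f_r := by simp [S]
        s_g := by simp [S]
        id := by simp [S, biprod.total] }
  exact hext S hS hX hY

variable (n : ℕ)
  (hdim : ∀ K : CochainComplex A ℕ, (∀ i : ℕ, 1 ≤ i → i ≤ n + 1 → K.ExactAt i) →
    (∀ i : ℕ, n + 1 < i → IsZero (K.X i)) → Epi (K.d n (n + 1)) →
    (∀ i : ℕ, i < n + 1 → P (K.X i)) → P (K.X (n + 1)))
  (X : CochainComplex A ℤ)

/-- the hull data used. -/
noncomputable abbrev HH : HullData (CochainComplex A ℤ) :=
  truncHull (Pc P hull) (ic P hull) (n + 1)

/-- the truncated resolution of `X` in the category of complexes. -/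
noncomputable abbrev RR : CochainComplex (CochainComplex A ℤ) ℕ := res (HH P hull n) X

include hext in
lemma prop_term_lt (j : ℕ) (hj : j < n + 1) (k : ℤ) : P ((term (HH P hull n) X j).X k) := by
  have e : term (HH P hull n) X j = discObj (Pc P hull) (cok (HH P hull n) X j) :=
    truncHull_obj_lt _ _ _ _ _ hj
  rw [e, discObj_X]
  exact prop_biprod P hext _ _ (prop_Pc P hull _) (prop_Pc P hull _)

lemma isZero_cok_gt (j : ℕ) (hj : n + 1 < j) : IsZero (cok (HH P hull n) X j) := by
  obtain ⟨j', rfl⟩ : ∃ j', j = j' + 1 := ⟨j - 1, by omega⟩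
  exact isZero_cok_succ _ _ _ (truncHull_map_isIso _ _ _ _ _ (by omega))

lemma isZero_term_gt (j : ℕ) (hj : n + 1 < j) : IsZero (term (HH P hull n) X j) := by
  have e : term (HH P hull n) X j = cok (HH P hull n) X j := if_neg (by omega)
  rw [e]
  exact isZero_cok_gt P hull n X j hj

lemma epi_dd_n : Epi (dd (HH P hull n) X n) := by
  unfold dd
  haveI : IsIso (emb (HH P hull n) X (n + 1)) := truncHull_map_isIso _ _ _ _ _ (by omega)
  infer_instance

/-- the complex in `A` obtained by evaluating the resolution in degree `k`. -/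
noncomputable abbrev evalRR (k : ℤ) : CochainComplex A ℕ :=
  ((HomologicalComplex.eval A upℤ k).mapHomologicalComplex (ComplexShape.up ℕ)).obj (RR P hull n X)

include hext hdim in
lemma prop_term_top (k : ℤ) : P ((term (HH P hull n) X (n + 1)).X k) := by
  refine hdim (evalRR P hull n X k) ?_ ?_ ?_ ?_
  · intro i hi _
    obtain ⟨i', rfl⟩ : ∃ i', i = i' + 1 := ⟨i - 1, by omega⟩
    have h := res_exactAt_succ (HH P hull n) X i'
    exact h.map (HomologicalComplex.eval A upℤ k)
  · intro i hi
    exact (HomologicalComplex.eval A upℤ k).map_isZero (isZero_term_gt P hull n X i hi)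
  · change Epi (((RR P hull n X).d n (n + 1)).f k)
    rw [res_d]
    haveI := epi_dd_n P hull n X
    infer_instance
  · intro i hi
    exact prop_term_lt P hull hext n X i hi k

include hzero hext hdim in
lemma prop_term (j : ℕ) (k : ℤ) : P ((term (HH P hull n) X j).X k) := by
  rcases Nat.lt_trichotomy j (n + 1) with h | h | h
  · exact prop_term_lt P hull hext n X j h k
  · subst h
    exact prop_term_top P hull hext n hdim X k
  · exact hzero _ ((HomologicalComplex.eval A upℤ k).map_isZero (isZero_term_gt P hull n X j h))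

/-- the double complex. -/
noncomputable abbrev DD : HomologicalComplex₂ A upℤ upℤ :=
  (RR P hull n X).extend ComplexShape.embeddingUpNat

lemma isZero_DD_X (p : ℤ) (hp : p < 0 ∨ (n + 1 : ℤ) < p) : IsZero ((DD P hull n X).X p) := by
  by_cases h0 : p < 0
  · apply HomologicalComplex.isZero_extend_X
    intro i hi
    have : (i : ℤ) = p := hi
    omega
  · obtain ⟨j, rfl⟩ : ∃ j : ℕ, (j : ℤ) = p := ⟨p.toNat, by omega⟩
    refine IsZero.of_iso (isZero_term_gt P hull n X j (by omega))
      ((RR P hull n X).extendXIso ComplexShape.embeddingUpNat (i := j) rfl)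

instance finSupp_DD : FinSupp upℤ (DD P hull n X) :=
  finSupp_of_outer_bounded _ 0 (n + 1) (isZero_DD_X P hull n X)

include hzero hiso hext hdim in
lemma prop_DD (p q : ℤ) : P (((DD P hull n X).X p).X q) := by
  by_cases h0 : p < 0
  · exact hzero _ ((HomologicalComplex.eval A upℤ q).map_isZero
      (isZero_DD_X P hull n X p (Or.inl h0)))
  · obtain ⟨j, rfl⟩ : ∃ j : ℕ, (j : ℤ) = p := ⟨p.toNat, by omega⟩
    refine hiso _ _ ((HomologicalComplex.eval A upℤ q).mapIso
      ((RR P hull n X).extendXIso ComplexShape.embeddingUpNat (i := j) rfl)).symm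
      (prop_term P hull hzero hext n hdim X j q)

/-- the source double complex: `X` in outer degree `0`. -/
noncomputable abbrev SS : HomologicalComplex₂ A upℤ upℤ :=
  ((CochainComplex.single₀ (CochainComplex A ℤ)).obj X).extend ComplexShape.embeddingUpNat

lemma isZero_SS_X (p : ℤ) (hp : p ≠ 0) : IsZero ((SS X).X p) := by
  by_cases h0 : p < 0
  · apply HomologicalComplex.isZero_extend_X
    intro i hi
    have : (i : ℤ) = p := hi
    omega
  · obtain ⟨j, rfl⟩ : ∃ j : ℕ, (j : ℤ) = p := ⟨p.toNat, by omega⟩
    refine IsZero.of_iso (HomologicalComplex.isZero_single_obj_X _ _ _ _ (by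
        intro h; apply hp; rw [h]; rfl))
      (((CochainComplex.single₀ (CochainComplex A ℤ)).obj X).extendXIso
        ComplexShape.embeddingUpNat (i := j) rfl)

instance finSupp_SS : FinSupp upℤ (SS X) :=
  finSupp_of_outer_bounded _ 0 0 (fun p hp => isZero_SS_X X p (by omega))

/-- the morphism of double complexes. -/
noncomputable abbrev φφ : SS X ⟶ DD P hull n X :=
  HomologicalComplex.extendMap (aug (HH P hull n) X) ComplexShape.embeddingUpNat

/-- the identification of `X` with the column `0` of `SS X`. -/
noncomputable def colIso : X ≅ (SS X).X 0 :=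
  (HomologicalComplex.singleObjXSelf (ComplexShape.up ℕ) 0 X).symm ≪≫
    (((CochainComplex.single₀ (CochainComplex A ℤ)).obj X).extendXIso
      ComplexShape.embeddingUpNat (i := 0) rfl).symm

/-- the quasi-isomorphism to the total complex. -/
noncomputable def toTot : X ⟶ (DD P hull n X).total upℤ :=
  (colIso X).hom ≫ colToTotal (SS X) (isZero_SS_X X) ≫
    HomologicalComplex₂.total.map (φφ P hull n X) upℤ

lemma quasiIso_toTot : QuasiIso (toTot P hull n X) := by
  haveI : QuasiIso (φφ P hull n X) := by
    unfold φφ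
    infer_instance
  haveI := quasiIso_total_map (φφ P hull n X)
  haveI := isIso_colToTotal (SS X) (isZero_SS_X X)
  unfold toTot
  infer_instance

include hull hzero hiso hext hdim in
/-- **Resolution by a class of finite dimension** (unbounded complexes). -/
theorem exists_quasiIso_to_class :
    ∃ (I : CochainComplex A ℤ) (f : X ⟶ I), QuasiIso f ∧ ∀ k : ℤ, P (I.X k) :=
  ⟨(DD P hull n X).total upℤ, toTot P hull n X, quasiIso_toTot P hull n X,
    fun k => prop_total P hzero hiso hext (DD P hull n X)
      (prop_DD P hull hzero hiso hext n hdim X) k⟩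

end Main

end Groth.Agent.Lib.Helper17.Res
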