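import Groth.Agent.Lib.Helper17AffPush8
import Groth.Agent.Lib.Helper17AffPush7
import Groth.Agent.Lib.Helper17QCPush1
import Groth.Agent.Lib.Helper17LpullQC

/-!
# Objects of `D_QCoh(U)` extend to `D_QCoh(X)` for a quasi-compact open immersion (helper17)
-/

set_option autoImplicit false
set_option linter.style.haveILetI false
set_option maxHeartbeats 400000
set_option synthInstance.maxHeartbeats 40000

universe u

open CategoryTheory CategoryTheory.Limits Opposite AlgebraicGeometry TopologicalSpace

attribute [local instance] HasDerivedCategory.standard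

namespace Groth.Agent.Lib.Helper17.AffPush

open Groth.Agent.Lib.Helper17.Hyp Groth.Agent.Lib.Helper17.HypX Groth.Agent.Lib.Helper17.MV
  Groth.Agent.Lib.Helper17.KInj Groth.Agent.Lib.Helper17.FFaith DerivedCategory Pretriangulated

variable {X : Scheme.{u}}

/-- every object of `D_QCoh(U)` is the restriction of an object of `D_QCoh(X)`, `U ⊆ X` an open
subscheme with quasi-compact inclusion: take `Rj_* F`. -/
theorem exists_extension (U : X.Opens) [QuasiCompact U.ι]
    (F : DCoh.D (U : Scheme.{u})) (hF : DCoh.IsQCohD F) :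
    ∃ G : CochainComplex X.Modules ℤ, DCoh.IsQCohD (DCoh.toD X G) ∧
      Nonempty (DerivedCategory.Q.obj ((DCoh.restrictCx U).obj G) ≅ F) := by
  haveI := isGrothendieckAbelian (U : Scheme.{u})
  haveI : DCoh.HasRpush U.ι := Groth.Agent.Lib.Helper17.QCPush.hasRpush U.ι
  obtain ⟨I, hIK, -, ⟨e⟩⟩ := exists_model F
  haveI := hIK
  refine ⟨((Scheme.Modules.pushforward U.ι).mapHomologicalComplex (ComplexShape.up ℤ)).obj I,
    ?_, ⟨?_⟩⟩
  · haveI : IsIso ((rpushUnit U.ι).app I) := isIso_app_of_isKInjective _ _ (rpushUnit U.ι) I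
    have h := isQCohD_rpush U.ι F hF
    exact Groth.Agent.Lib.Helper17.LpullQC.isQCohD_of_iso (asIso ((rpushUnit U.ι).app I) ≪≫ (DCoh.Rpush U.ι).mapIso e.symm).symm h
  · have e1 : (Scheme.Modules.pushforward U.ι).mapHomologicalComplex (ComplexShape.up ℤ) ⋙
        (Scheme.Modules.restrictFunctor U.ι).mapHomologicalComplex (ComplexShape.up ℤ) ≅ 𝟭 _ :=
      Functor.mapHomologicalComplexCompIso
        (asIso (Scheme.Modules.restrictAdjunction U.ι).counit) (ComplexShape.up ℤ) ≪≫
        Functor.mapHomologicalComplexIdIso _ _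
    exact (Q : _ ⥤ DCoh.D (U : Scheme.{u})).mapIso (e1.app I) ≪≫ e.symm

end Groth.Agent.Lib.Helper17.AffPush
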