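import Groth.Agent.Lib.Helper17AffPush7
import Groth.Agent.Lib.Helper23ModLocal

/-!
# Uniform vanishing bound for `Rf_*` on `D_QCoh^{≤ 0}` (helper17)

Mayer–Vietoris induction with bounds.
-/

set_option autoImplicit false
set_option linter.style.haveILetI false
set_option maxHeartbeats 400000

universe u

open CategoryTheory CategoryTheory.Limits AlgebraicGeometry TopologicalSpace Opposite
  DerivedCategory Pretriangulated

attribute [local instance] HasDerivedCategory.standard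

namespace Groth.Agent.Lib.Helper17.AffPush

open Groth.Agent.Lib.Helper17.MV Groth.Agent.Lib.Helper23.QCohLocal Groth.Agent.Lib.Helper17.QCPush

attribute [local instance] hasRpush

section

variable {X S : Scheme.{u}}

/-- restriction to an open preserves `IsLE`. -/
theorem isLE_restrictD' {U : Scheme.{u}} (j : U ⟶ X) [IsOpenImmersion j] (K : DCoh.D X) (n : ℤ)
    (hK : K.IsLE n) : ((DCoh.restrictD j).obj K).IsLE n := by
  haveI := hK
  exact Groth.Agent.Lib.Helper17.AdjWay.isLE_map (Scheme.Modules.restrictFunctor j) K n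

/-- the inductive property, with a bound. -/
def PIndN (f : X ⟶ S) (U : X.Opens) : Prop :=
  ∃ N : ℤ, ∀ (Z : Scheme.{u}) (i : Z ⟶ X) [IsOpenImmersion i], i.opensRange = U →
    ∀ (K : DCoh.D Z), DCoh.IsQCohD K → K.IsLE 0 → ∀ m : ℤ, N ≤ m →
      IsZero (DCoh.HD ((DCoh.Rpush (i ≫ f)).obj K) m)

theorem pIndN_affine [IsAffine S] (f : X ⟶ S) (U : X.Opens) (hU : IsAffineOpen U) :
    PIndN f U := by
  refine ⟨1, ?_⟩
  intro Z i _ hi K hK hLE m hm
  haveI : IsAffine Z := by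
    have h : IsAffineOpen i.opensRange := hi ▸ hU
    haveI : IsAffine (i.opensRange : Scheme.{u}) := h
    exact IsAffine.of_isIso i.isoOpensRange.hom
  obtain ⟨e⟩ := nonempty_HD_rpush_iso (i ≫ f) K hK m
  haveI := hLE
  exact IsZero.of_iso ((Scheme.Modules.pushforward (i ≫ f)).map_isZero
    (isZero_of_isLE K 0 m (by omega))) e

theorem isZero_HD_obj₁ (T : Triangle (DCoh.D S)) (hT : T ∈ distTriang (DCoh.D S)) (p : ℤ)
    (h₂ : IsZero (DCoh.HD T.obj₂ p)) (h₃ : IsZero (DCoh.HD T.obj₃ (p - 1))) :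
    IsZero (DCoh.HD T.obj₁ p) := by
  have ex := DerivedCategory.HomologySequence.exact₁ T hT (p - 1) p (by omega)
  exact ex.isZero_X₂ (h₃.eq_of_src _ _) (h₂.eq_of_tgt _ _)

theorem pIndN_sup (f : X ⟶ S) (U V : X.Opens) (hU : PIndN f U) (hV : PIndN f V)
    (hUV : PIndN f (U ⊓ V)) : PIndN f (U ⊔ V) := by
  obtain ⟨NU, hU⟩ := hU
  obtain ⟨NV, hV⟩ := hV
  obtain ⟨NUV, hUV⟩ := hUV
  refine ⟨max (max NU NV) (NUV + 1), ?_⟩
  intro Z i _ hi K hK hLE m hm
  have hcov : i ⁻¹ᵁ U ⊔ i ⁻¹ᵁ V = ⊤ := by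
    rw [← Scheme.Hom.preimage_sup, ← hi, Scheme.Hom.preimage_opensRange]
  obtain ⟨a, b, c, hT⟩ := mv_triangle_push (i ≫ f) (i ⁻¹ᵁ U) (i ⁻¹ᵁ V) hcov K
  have key : ∀ (W : X.Opens) (N : ℤ), W ≤ U ⊔ V →
      (∀ (Z : Scheme.{u}) (i : Z ⟶ X) [IsOpenImmersion i], i.opensRange = W →
        ∀ (K : DCoh.D Z), DCoh.IsQCohD K → K.IsLE 0 → ∀ m : ℤ, N ≤ m →
          IsZero (DCoh.HD ((DCoh.Rpush (i ≫ f)).obj K) m)) → ∀ m : ℤ, N ≤ m →
      IsZero (DCoh.HD ((DCoh.Rpush ((i ⁻¹ᵁ W).ι ≫ i ≫ f)).obj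
        ((DCoh.restrictD (i ⁻¹ᵁ W).ι).obj K)) m) := by
    intro W N hW hP m hm
    have hr : ((i ⁻¹ᵁ W).ι ≫ i).opensRange = W := by
      rw [Scheme.Hom.opensRange_comp, Scheme.Opens.opensRange_ι,
        Scheme.Hom.image_preimage_eq_opensRange_inf, hi]
      exact inf_eq_right.2 hW
    have h1 := hP _ ((i ⁻¹ᵁ W).ι ≫ i) hr ((DCoh.restrictD (i ⁻¹ᵁ W).ι).obj K)
      (isQCohD_restrictD' _ K hK) (isLE_restrictD' _ K 0 hLE) m hm
    exact IsZero.of_iso h1 ((DerivedCategory.homologyFunctor _ m).mapIso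
      (rpushCongr (Category.assoc _ _ _) _)).symm
  refine isZero_HD_obj₁ _ hT m ?_ ?_
  · have h1 := key U NU le_sup_left hU m (by omega)
    have h2 := key V NV le_sup_right hV m (by omega)
    haveI : PreservesBinaryBiproduct
        ((DCoh.Rpush ((i ⁻¹ᵁ U).ι ≫ i ≫ f)).obj ((DCoh.restrictD (i ⁻¹ᵁ U).ι).obj K))
        ((DCoh.Rpush ((i ⁻¹ᵁ V).ι ≫ i ≫ f)).obj ((DCoh.restrictD (i ⁻¹ᵁ V).ι).obj K))
        (DerivedCategory.homologyFunctor S.Modules m) :=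
      preservesBinaryBiproduct_of_preservesBinaryProduct _
    refine IsZero.of_iso ?_ ((DerivedCategory.homologyFunctor S.Modules m).mapBiprod _ _)
    rw [IsZero.iff_id_eq_zero]
    apply biprod.hom_ext
    · exact h1.eq_of_tgt _ _
    · exact h2.eq_of_tgt _ _
  · exact key (U ⊓ V) NUV (inf_le_left.trans le_sup_left) hUV (m - 1) (by omega)

/-- bound for `S` affine and `X` quasi-compact quasi-separated. -/
theorem exists_bound_of_isAffine [IsAffine S] [CompactSpace X] [QuasiSeparatedSpace X]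
    (f : X ⟶ S) : ∃ N : ℤ, ∀ (K : DCoh.D X), DCoh.IsQCohD K → K.IsLE 0 → ∀ m : ℤ, N ≤ m →
      IsZero (DCoh.HD ((DCoh.Rpush f).obj K) m) := by
  obtain ⟨N, h⟩ := Groth.Agent.S0015.result X (PIndN f) (pIndN_affine f)
    (fun U V _ _ hU hV hUV => pIndN_sup f U V hU hV hUV) ⊤ isCompact_univ
  refine ⟨N, fun K hK hLE m hm => ?_⟩
  have h1 := h X (𝟙 X) (Scheme.Hom.opensRange_of_isIso _) K hK hLE m hm
  exact IsZero.of_iso h1 ((DerivedCategory.homologyFunctor _ m).mapIso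
    (rpushCongr (Category.id_comp f) _)).symm

/-- uniform vanishing bound for `Rf_*`, `f` quasi-compact quasi-separated, `S` quasi-compact. -/
theorem exists_bound (f : X ⟶ S) [QuasiCompact f] [QuasiSeparated f] [CompactSpace S] :
    ∃ N : ℤ, ∀ (E : DCoh.D X), DCoh.IsQCohD E → E.IsLE 0 → ∀ m : ℤ, N ≤ m →
      IsZero (DCoh.HD ((DCoh.Rpush f).obj E) m) := by
  obtain ⟨t, ht⟩ := isCompact_univ.elim_finite_subcover
    (fun V : S.affineOpens => ((V.1 : S.Opens) : Set S)) (fun V => V.1.isOpen)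
    (fun x _ => by
      have hx : x ∈ (⨆ V : S.affineOpens, (V.1 : S.Opens)) := by
        rw [iSup_affineOpens_eq_top]; trivial
      obtain ⟨V, hV⟩ := Opens.mem_iSup.1 hx
      exact Set.mem_iUnion.2 ⟨V, hV⟩)
  have hb : ∀ V : S.affineOpens, ∃ N : ℤ, ∀ (K : DCoh.D ((f ⁻¹ᵁ V.1 : X.Opens) : Scheme.{u})),
      DCoh.IsQCohD K → K.IsLE 0 → ∀ m : ℤ, N ≤ m →
        IsZero (DCoh.HD ((DCoh.Rpush (f ∣_ V.1)).obj K) m) := by
    intro V
    haveI : IsAffine (V.1 : Scheme.{u}) := V.2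
    haveI : CompactSpace ((f ⁻¹ᵁ V.1 : X.Opens) : Scheme.{u}) :=
      QuasiCompact.compactSpace_of_compactSpace (f ∣_ V.1)
    haveI : QuasiSeparatedSpace ((f ⁻¹ᵁ V.1 : X.Opens) : Scheme.{u}) :=
      quasiSeparatedSpace_of_quasiSeparated (f ∣_ V.1)
    exact exists_bound_of_isAffine (f ∣_ V.1)
  choose N hN using hb
  obtain ⟨M, hM⟩ := (t.image N).exists_le
  refine ⟨M, fun E hE hLE m hm => ?_⟩
  refine Groth.Agent.Lib.Helper23.ModLocal.isZero_of_isZero_restrict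
    (fun V : t => ((V.1.1 : S.Opens) : Scheme.{u})) (fun V => V.1.1.ι) (fun x => ?_) (fun V => ?_)
  · have hx : x ∈ ⋃ V ∈ t, ((V.1 : S.Opens) : Set S) := ht (Set.mem_univ x)
    obtain ⟨V, hV⟩ := Set.mem_iUnion.1 hx
    obtain ⟨hVt, hxV⟩ := Set.mem_iUnion.1 hV
    exact ⟨⟨V, hVt⟩, ⟨x, hxV⟩, rfl⟩
  · obtain ⟨e⟩ := Groth.Agent.Lib.Helper1.RpushRes.nonempty_rpush_restrict_iso f V.1.1
    have e1 := e.app E
    have h2 := hN V.1 ((DCoh.restrictD (f ⁻¹ᵁ V.1.1).ι).obj E) (isQCohD_restrictD' _ E hE)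
      (isLE_restrictD' _ E 0 hLE) m
      ((hM _ (Finset.mem_image_of_mem N V.2)).trans hm)
    exact IsZero.of_iso h2
      ((Groth.Agent.Lib.Helper17.AdjWay.homologyIso (Scheme.Modules.restrictFunctor V.1.1.ι) _ m).symm ≪≫
        (DerivedCategory.homologyFunctor _ m).mapIso e1)

end

end Groth.Agent.Lib.Helper17.AffPush
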