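-- helper17: sections of a category fibred in groupoids along a functor with 1-connected comma
-- categories: cone data.
import Groth.Agent.Lib.Helper17Nerve
import Groth.Agent.Lib.Helper17FibCat
import Mathlib.CategoryTheory.Comma.StructuredArrow.Basic
import Mathlib.CategoryTheory.FiberedCategory.Fiber

set_option autoImplicit false
set_option backward.isDefEq.respectTransparency false
set_option backward.isDefEq.respectTransparency.types false
open CategoryTheory CategoryTheory.Functor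

universe w v₁ v₂ v₃ u₁ u₂ u₃

namespace Groth.Agent.Lib.Helper17.Sect

open Groth.Agent.Lib.Helper17 Groth.Agent.Lib.Helper17.Nerve

section Basic

variable {D : Type u₂} [Category.{v₂} D] {F : Type u₃} [Category.{v₃} F] {p : F ⥤ D}

theorem cancel_right (hp : FibCat.IsFibGrpd p) {W V U : D} (g : W ⟶ V) (f : V ⟶ U)
    {a b c : F} (α β : a ⟶ b) (κ : b ⟶ c) (hα : p.IsHomLift g α)
    (hβ : p.IsHomLift g β) (hκ : p.IsHomLift f κ) (e : α ≫ κ = β ≫ κ) : α = β := by
  have sc := IsFibGrpd.isStronglyCartesian_of_isHomLift hp f κ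
  exact IsStronglyCartesian.ext p f κ g e

theorem exists_fac (hp : FibCat.IsFibGrpd p) {W V U : D} (g : W ⟶ V) (f : V ⟶ U)
    (f' : W ⟶ U) (hf' : f' = g ≫ f) {a b c : F} (κ : b ⟶ c) (hκ : p.IsHomLift f κ)
    (ψ : a ⟶ c) (hψ : p.IsHomLift f' ψ) :
    ∃ χ : a ⟶ b, p.IsHomLift g χ ∧ χ ≫ κ = ψ := by
  have sc := IsFibGrpd.isStronglyCartesian_of_isHomLift hp f κ
  obtain ⟨χ, ⟨h1, h2⟩, -⟩ := IsStronglyCartesian.universal_property p f κ g f' hf' ψ
  exact ⟨χ, h1, h2⟩

end Basic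

section Cone

variable {C : Type u₁} [Category.{v₁} C] {D : Type u₂} [Category.{v₂} D]
  {F : Type u₃} [Category.{v₃} F] {p : F ⥤ D}

theorem sa_w {σ : C ⥤ F} {Y : D} {A B : StructuredArrow Y (σ ⋙ p)} (f : A ⟶ B) :
    A.hom ≫ p.map (σ.map f.right) = B.hom := StructuredArrow.w f

theorem exists_cone_data (hp : FibCat.IsFibGrpd p) (σ : C ⥤ F) (Y : D)
    (hY : W4c2modmodulilect.HasContractibleNerve.{max w v₃ u₃, max w v₃ u₃}
      (StructuredArrow Y (σ ⋙ p))) :
    ∃ (s₀ : F) (_ : p.obj s₀ = Y) (μ : ∀ A : StructuredArrow Y (σ ⋙ p), s₀ ⟶ σ.obj A.right),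
      (∀ A, p.IsHomLift A.hom (μ A)) ∧
        ∀ ⦃A B : StructuredArrow Y (σ ⋙ p)⦄ (f : A ⟶ B), μ A ≫ σ.map f.right = μ B := by
  have key : ∀ A : StructuredArrow Y (σ ⋙ p), ∃ (t : F) (l : t ⟶ σ.obj A.right),
      p.IsHomLift A.hom l := fun A => hp.exists_lift (x := σ.obj A.right) A.hom
  choose t lam hlam using key
  have ht : ∀ A, p.obj (t A) = Y := fun A => IsHomLift.domain_eq p A.hom (lam A)
  have hcomp : ∀ {A B : StructuredArrow Y (σ ⋙ p)} (f : A ⟶ B),
      p.IsHomLift B.hom (lam A ≫ σ.map f.right) := by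
    intro A B f
    have := hlam A
    have h : p.IsHomLift (A.hom ≫ p.map (σ.map f.right)) (lam A ≫ σ.map f.right) :=
      inferInstance
    rw [sa_w f] at h
    exact h
  have keym : ∀ {A B : StructuredArrow Y (σ ⋙ p)} (f : A ⟶ B), ∃ χ : t A ⟶ t B,
      p.IsHomLift (𝟙 Y) χ ∧ χ ≫ lam B = lam A ≫ σ.map f.right := fun {A B} f =>
    exists_fac hp (𝟙 Y) B.hom B.hom (Category.id_comp _).symm (lam B) (hlam B) _ (hcomp f)
  choose m hm1 hm2 using @keym
  have huniq : ∀ {A B : StructuredArrow Y (σ ⋙ p)} (χ χ' : t A ⟶ t B),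
      p.IsHomLift (𝟙 Y) χ → p.IsHomLift (𝟙 Y) χ' → χ ≫ lam B = χ' ≫ lam B → χ = χ' :=
    fun {A B} χ χ' h h' e => cancel_right hp (𝟙 Y) B.hom χ χ' (lam B) h h' (hlam B) e
  let T : StructuredArrow Y (σ ⋙ p) ⥤ p.Fiber Y :=
    { obj := fun A => ⟨t A, ht A⟩
      map := fun {A B} f => ⟨m f, hm1 f⟩
      map_id := fun A => by
        apply Fiber.hom_ext
        apply huniq _ _ (hm1 (𝟙 A)) (IsHomLift.id (ht A))
        rw [hm2]
        simp
      map_comp := fun {A B E} f g => by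
        apply Fiber.hom_ext
        have h1 : p.IsHomLift (𝟙 Y) (m f ≫ m g) := by
          have := hm1 f
          have := hm1 g
          have : p.IsHomLift (𝟙 Y ≫ 𝟙 Y) (m f ≫ m g) := inferInstance
          simpa using this
        apply huniq _ _ (hm1 (f ≫ g)) h1
        rw [hm2, Category.assoc, hm2, ← Category.assoc, hm2]
        simp }
  have : IsGroupoid (p.Fiber Y) := IsFibGrpd.isGroupoid_fiber hp Y
  obtain ⟨h, ⟨e⟩⟩ := exists_const_iso.{w} hY T
  refine ⟨h.1, h.2, fun A => (e.hom.app A).1 ≫ lam A, ?_, ?_⟩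
  · intro A
    have h1 : p.IsHomLift (𝟙 Y) (e.hom.app A).1 := (e.hom.app A).2
    have := hlam A
    have : p.IsHomLift (𝟙 Y ≫ A.hom) ((e.hom.app A).1 ≫ lam A) := inferInstance
    simpa using this
  · intro A B f
    have hn := e.hom.naturality f
    have hn' : (e.hom.app B).1 = (e.hom.app A).1 ≫ m f := by
      have h2 : 𝟙 h ≫ e.hom.app B = e.hom.app A ≫ T.map f := hn
      rw [Category.id_comp] at h2
      exact congrArg (fun k => k.1) h2
    rw [Category.assoc, ← hm2 f, ← Category.assoc, ← hn']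

end Cone

end Groth.Agent.Lib.Helper17.Sect
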