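-- helper17: sections of a category fibred in groupoids along a functor with 1-connected comma
-- categories: construction of the section, fullness and faithfulness of restriction.
import Groth.Agent.Lib.Helper17Sect1

set_option autoImplicit false
set_option backward.isDefEq.respectTransparency false
set_option backward.isDefEq.respectTransparency.types false
open CategoryTheory CategoryTheory.Functor

universe w v₁ v₂ v₃ u₁ u₂ u₃

namespace Groth.Agent.Lib.Helper17.Sect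

open Groth.Agent.Lib.Helper17 Groth.Agent.Lib.Helper17.Nerve

variable {C : Type u₁} [Category.{v₁} C] {D : Type u₂} [Category.{v₂} D]
  {F : Type u₃} [Category.{v₃} F] {p : F ⥤ D}

theorem isHomLift_map_of_section {G : D ⥤ F} (hG : G ⋙ p = 𝟭 D) {Y' Y : D} (g : Y' ⟶ Y) :
    p.IsHomLift g (G.map g) := by
  have h1 : ∀ Z, p.obj (G.obj Z) = Z := fun Z => Functor.congr_obj hG Z
  apply IsHomLift.of_fac' p g (G.map g) (h1 Y') (h1 Y)
  have := Functor.congr_hom hG g
  simpa using this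

section Section

variable (hp : FibCat.IsFibGrpd p) (σ : C ⥤ F)
  (s₀ : D → F) (hs₀ : ∀ Y, p.obj (s₀ Y) = Y)
  (μ : ∀ (Y : D) (A : StructuredArrow Y (σ ⋙ p)), s₀ Y ⟶ σ.obj A.right)
  (hμ : ∀ Y A, p.IsHomLift A.hom (μ Y A))
  (nμ : ∀ (Y : D) ⦃A B : StructuredArrow Y (σ ⋙ p)⦄ (f : A ⟶ B),
    μ Y A ≫ σ.map f.right = μ Y B)

include nμ in
theorem mu_comp {Y' Y : D} (g : Y' ⟶ Y) (A' : StructuredArrow Y' (σ ⋙ p))
    (A : StructuredArrow Y (σ ⋙ p)) (k : A'.right ⟶ A.right)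
    (hk : A'.hom ≫ p.map (σ.map k) = g ≫ A.hom) :
    μ Y' A' ≫ σ.map k = μ Y' ((StructuredArrow.map g).obj A) := by
  have := nμ Y' (A := A') (B := (StructuredArrow.map g).obj A)
    (StructuredArrow.homMk k (by simpa using hk))
  simpa using this

include hp hμ nμ in
theorem exists_map (hY : ∀ Y, W4c2modmodulilect.HasContractibleNerve.{w, w}
      (StructuredArrow Y (σ ⋙ p))) {Y' Y : D} (g : Y' ⟶ Y) :
    ∃ χ : s₀ Y' ⟶ s₀ Y, p.IsHomLift g χ ∧
      ∀ A : StructuredArrow Y (σ ⋙ p), χ ≫ μ Y A = μ Y' ((StructuredArrow.map g).obj A) := by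
  obtain ⟨A₀⟩ := (hY Y).1
  have hlift : ∀ A : StructuredArrow Y (σ ⋙ p),
      p.IsHomLift (g ≫ A.hom) (μ Y' ((StructuredArrow.map g).obj A)) := fun A => by
    have := hμ Y' ((StructuredArrow.map g).obj A)
    simpa using this
  obtain ⟨χ, hχ1, hχ2⟩ := exists_fac hp g A₀.hom (g ≫ A₀.hom) rfl (μ Y A₀) (hμ Y A₀)
    (μ Y' ((StructuredArrow.map g).obj A₀)) (hlift A₀)
  refine ⟨χ, hχ1, ?_⟩
  refine conn_induction (hY Y)
    (fun A => χ ≫ μ Y A = μ Y' ((StructuredArrow.map g).obj A)) ?_ hχ2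
  intro A B f
  have e1 : μ Y A ≫ σ.map f.right = μ Y B := nμ Y f
  have e2 : μ Y' ((StructuredArrow.map g).obj A) ≫ σ.map f.right =
      μ Y' ((StructuredArrow.map g).obj B) := by
    have := nμ Y' ((StructuredArrow.map g).map f)
    simpa using this
  constructor
  · intro h
    rw [← e1, ← Category.assoc, h, e2]
  · intro h
    have := hμ Y A
    have h1 : p.IsHomLift (g ≫ A.hom) (χ ≫ μ Y A) := inferInstance
    have h3 : p.IsHomLift (p.map (σ.map f.right)) (σ.map f.right) := inferInstance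
    refine cancel_right hp (g ≫ A.hom) (p.map (σ.map f.right)) _ _ (σ.map f.right) h1
      (hlift A) h3 ?_
    rw [Category.assoc, e1, e2, h]

end Section

/-- the section over `D` extending a given diagram `σ : C ⥤ F` whose comma categories are
1-connected -/
theorem exists_section (hp : FibCat.IsFibGrpd p) (σ : C ⥤ F)
    (hY : ∀ Y, W4c2modmodulilect.HasContractibleNerve.{max w v₃ u₃, max w v₃ u₃}
      (StructuredArrow Y (σ ⋙ p))) :
    ∃ (s : D ⥤ F) (_ : s ⋙ p = 𝟭 D) (θ : (σ ⋙ p) ⋙ s ≅ σ),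
      ∀ X, p.IsHomLift (𝟙 (p.obj (σ.obj X))) (θ.hom.app X) := by
  choose s₀ hs₀ μ hμ nμ using fun Y => exists_cone_data.{w} hp σ Y (hY Y)
  choose m hm1 hm2 using fun {Y' Y : D} (g : Y' ⟶ Y) =>
    exists_map hp σ s₀ μ hμ nμ hY g
  -- uniqueness
  have huniq : ∀ {Y' Y : D} (g : Y' ⟶ Y) (χ χ' : s₀ Y' ⟶ s₀ Y), p.IsHomLift g χ →
      p.IsHomLift g χ' → (∀ A : StructuredArrow Y (σ ⋙ p), χ ≫ μ Y A = χ' ≫ μ Y A) →
        χ = χ' := by
    intro Y' Y g χ χ' h h' e
    obtain ⟨A₀⟩ := (hY Y).1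
    exact cancel_right hp g A₀.hom χ χ' (μ Y A₀) h h' (hμ Y A₀) (e A₀)
  let s : D ⥤ F :=
    { obj := s₀
      map := fun {Y' Y} g => m g
      map_id := fun Y => by
        apply huniq (𝟙 Y) _ _ (hm1 _) (IsHomLift.id (hs₀ Y))
        intro A
        rw [hm2, Category.id_comp]
        have := mu_comp σ s₀ μ nμ (𝟙 Y) A A (𝟙 _) (by simp)
        simpa using this.symm
      map_comp := fun {Y'' Y' Y} g' g => by
        have h1 : p.IsHomLift (g' ≫ g) (m g' ≫ m g) := by
          have := hm1 g'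
          have := hm1 g
          infer_instance
        apply huniq (g' ≫ g) _ _ (hm1 _) h1
        intro A
        rw [hm2, Category.assoc, hm2, hm2]
        have := mu_comp σ s₀ μ nμ (g' ≫ g)
          ((StructuredArrow.map g').obj ((StructuredArrow.map g).obj A)) A (𝟙 _) (by simp)
        simpa using this.symm }
  have hs : s ⋙ p = 𝟭 D := by
    refine Functor.ext hs₀ ?_
    intro Y' Y g
    have := hm1 g
    exact IsHomLift.fac' p g (m g)
  let θh : ∀ X : C, s₀ (p.obj (σ.obj X)) ⟶ σ.obj X := fun X =>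
    μ (p.obj (σ.obj X)) (StructuredArrow.mk (T := σ ⋙ p) (Y := X) (𝟙 _))
  have hθ : ∀ X, p.IsHomLift (𝟙 (p.obj (σ.obj X))) (θh X) := fun X =>
    hμ (p.obj (σ.obj X)) (StructuredArrow.mk (T := σ ⋙ p) (Y := X) (𝟙 _))
  have hiso : ∀ X, IsIso (θh X) := fun X =>
    IsFibGrpd.isIso_of_isHomLift_id hp (p.obj (σ.obj X)) (θh X)
  have hnat : ∀ {X X' : C} (k : X ⟶ X'),
      m (p.map (σ.map k)) ≫ θh X' = θh X ≫ σ.map k := by
    intro X X' k
    change m (p.map (σ.map k)) ≫ μ (p.obj (σ.obj X'))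
      (StructuredArrow.mk (T := σ ⋙ p) (Y := X') (𝟙 _)) = μ (p.obj (σ.obj X))
        (StructuredArrow.mk (T := σ ⋙ p) (Y := X) (𝟙 _)) ≫ σ.map k
    rw [hm2]
    have := mu_comp σ s₀ μ nμ (p.map (σ.map k))
      (StructuredArrow.mk (T := σ ⋙ p) (Y := X) (𝟙 _))
      (StructuredArrow.mk (T := σ ⋙ p) (Y := X') (𝟙 _)) k (by simp)
    exact this.symm
  refine ⟨s, hs, NatIso.ofComponents (fun X => asIso (θh X)) ?_, ?_⟩
  · intro X X' k
    exact hnat k
  · intro X
    exact hθ X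

end Groth.Agent.Lib.Helper17.Sect
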