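-- helper17: restriction of sections of a category fibred in groupoids along a functor with
-- 1-connected comma categories is fully faithful; packaging as an equivalence.
import Groth.Agent.Lib.Helper17Sect2
import Groth.Prelude.Def_AlgSt

set_option autoImplicit false
set_option backward.isDefEq.respectTransparency false
set_option backward.isDefEq.respectTransparency.types false
open CategoryTheory CategoryTheory.Functor

universe w v₁ v₂ v₃ u₁ u₂ u₃

namespace Groth.Agent.Lib.Helper17.Sect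

open Groth.Agent.Lib.Helper17 Groth.Agent.Lib.Helper17.Nerve

variable {C : Type u₁} [Category.{v₁} C] {D : Type u₂} [Category.{v₂} D]
  {F : Type u₃} [Category.{v₃} F] {p : F ⥤ D}

theorem faithful_aux (hp : FibCat.IsFibGrpd p) (φ : C ⥤ D)
    (hφ : ∀ Y, Nonempty (StructuredArrow Y φ)) (G G' : D ⥤ F) (hG' : G' ⋙ p = 𝟭 D)
    (α β : G ⟶ G') (hα : ∀ Y, p.IsHomLift (𝟙 Y) (α.app Y))
    (hβ : ∀ Y, p.IsHomLift (𝟙 Y) (β.app Y))
    (h : ∀ X, α.app (φ.obj X) = β.app (φ.obj X)) : α = β := by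
  ext Y
  obtain ⟨A⟩ := hφ Y
  refine cancel_right hp (𝟙 Y) A.hom _ _ (G'.map A.hom) (hα Y) (hβ Y)
    (isHomLift_map_of_section hG' A.hom) ?_
  rw [← α.naturality, ← β.naturality]
  have := h A.right
  rw [this]

theorem full_aux (hp : FibCat.IsFibGrpd p) (φ : C ⥤ D)
    (hφ : ∀ Y, W4c2modmodulilect.HasContractibleNerve.{w, w} (StructuredArrow Y φ))
    (G G' : D ⥤ F) (hG : G ⋙ p = 𝟭 D) (hG' : G' ⋙ p = 𝟭 D)
    (γ : φ ⋙ G ⟶ φ ⋙ G') (hγ : ∀ X, p.IsHomLift (𝟙 (φ.obj X)) (γ.app X)) :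
    ∃ α : G ⟶ G', (∀ Y, p.IsHomLift (𝟙 Y) (α.app Y)) ∧ ∀ X, α.app (φ.obj X) = γ.app X := by
  have hGm : ∀ {Y' Y : D} (g : Y' ⟶ Y), p.IsHomLift g (G.map g) :=
    fun g => isHomLift_map_of_section hG g
  have hGm' : ∀ {Y' Y : D} (g : Y' ⟶ Y), p.IsHomLift g (G'.map g) :=
    fun g => isHomLift_map_of_section hG' g
  have key : ∀ Y : D, ∃ χ : G.obj Y ⟶ G'.obj Y, p.IsHomLift (𝟙 Y) χ ∧
      ∀ A : StructuredArrow Y φ, χ ≫ G'.map A.hom = G.map A.hom ≫ γ.app A.right := by
    intro Y
    obtain ⟨A₀⟩ := (hφ Y).1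
    have hl : ∀ A : StructuredArrow Y φ, p.IsHomLift A.hom (G.map A.hom ≫ γ.app A.right) := by
      intro A
      have := hGm A.hom
      have := hγ A.right
      have : p.IsHomLift (A.hom ≫ 𝟙 _) (G.map A.hom ≫ γ.app A.right) := inferInstance
      simpa using this
    obtain ⟨χ, hχ1, hχ2⟩ := exists_fac hp (𝟙 Y) A₀.hom A₀.hom (Category.id_comp _).symm
      (G'.map A₀.hom) (hGm' _) (G.map A₀.hom ≫ γ.app A₀.right) (hl A₀)
    refine ⟨χ, hχ1, ?_⟩
    refine conn_induction (hφ Y)
      (fun A => χ ≫ G'.map A.hom = G.map A.hom ≫ γ.app A.right) ?_ hχ2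
    intro A B f
    have hw : A.hom ≫ φ.map f.right = B.hom := StructuredArrow.w f
    have hn : γ.app A.right ≫ G'.map (φ.map f.right) = G.map (φ.map f.right) ≫ γ.app B.right :=
      (γ.naturality f.right).symm
    constructor
    · intro h
      rw [← hw, G'.map_comp, ← Category.assoc, h, Category.assoc, hn, G.map_comp,
        Category.assoc]
    · intro h
      have h1 : p.IsHomLift A.hom (χ ≫ G'.map A.hom) := by
        have := hGm' A.hom
        have : p.IsHomLift (𝟙 Y ≫ A.hom) (χ ≫ G'.map A.hom) := inferInstance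
        simpa using this
      refine cancel_right hp A.hom (φ.map f.right) _ _ (G'.map (φ.map f.right)) h1 (hl A)
        (hGm' _) ?_
      rw [Category.assoc, ← G'.map_comp, hw, h, Category.assoc, hn, ← Category.assoc,
        ← G.map_comp, hw]
  choose a ha1 ha2 using key
  refine ⟨{ app := a, naturality := ?_ }, ha1, ?_⟩
  · intro Y' Y g
    obtain ⟨A⟩ := (hφ Y).1
    have h1 : p.IsHomLift g (G.map g ≫ a Y) := by
      have := hGm g
      have := ha1 Y
      have : p.IsHomLift (g ≫ 𝟙 Y) (G.map g ≫ a Y) := inferInstance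
      simpa using this
    have h2 : p.IsHomLift g (a Y' ≫ G'.map g) := by
      have := hGm' g
      have := ha1 Y'
      have : p.IsHomLift (𝟙 Y' ≫ g) (a Y' ≫ G'.map g) := inferInstance
      simpa using this
    refine cancel_right hp g A.hom _ _ (G'.map A.hom) h1 h2 (hGm' _) ?_
    have e := ha2 Y' ((StructuredArrow.map g).obj A)
    have e' : a Y' ≫ G'.map (g ≫ A.hom) = G.map (g ≫ A.hom) ≫ γ.app A.right := by
      simpa using e
    rw [Category.assoc, Category.assoc, ha2, ← G'.map_comp, e', G.map_comp, Category.assoc]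
  · intro X
    have e := ha2 (φ.obj X) (StructuredArrow.mk (T := φ) (Y := X) (𝟙 _))
    simpa using e


theorem essSurj_aux (φ : C ⥤ D) (hp : FibCat.IsFibGrpd p)
    (hφ : ∀ Y : D, W4c2modmodulilect.HasContractibleNerve.{max w v₃ u₃, max w v₃ u₃}
      (StructuredArrow Y φ)) (σ : C ⥤ F) (hσ : σ ⋙ p = φ) :
    ∃ (s : D ⥤ F) (_ : s ⋙ p = 𝟭 D) (θ : φ ⋙ s ≅ σ),
      ∀ X, p.IsHomLift (𝟙 (φ.obj X)) (θ.hom.app X) := by
  subst hσ
  exact exists_section.{w} hp σ hφ

open FibCat in
theorem restr_isEquivalence (φ : C ⥤ D) (p : F ⥤ D) (hp : FibCat.IsFibGrpd p)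
    (hφ : ∀ Y : D, W4c2modmodulilect.HasContractibleNerve.{max w v₃ u₃, max w v₃ u₃}
      (StructuredArrow Y φ)) :
    (Stk.restr (FibCat.toSelf (BasedCategory.ofFunctor φ))
      (BasedCategory.ofFunctor p)).IsEquivalence := by
  have hne : ∀ Y, Nonempty (StructuredArrow Y φ) := fun Y => (hφ Y).1
  have hfaith : (Stk.restr (FibCat.toSelf (BasedCategory.ofFunctor φ))
      (BasedCategory.ofFunctor p)).Faithful := by
    constructor
    intro G G' α β h
    apply BasedNatTrans.homCategory.ext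
    refine faithful_aux hp φ hne G.toFunctor G'.toFunctor G'.w α.toNatTrans β.toNatTrans
      (fun Y => α.isHomLift' Y) (fun Y => β.isHomLift' Y) ?_
    intro X
    have := congrArg (fun t => t.toNatTrans.app X) h
    exact this
  have hfull : (Stk.restr (FibCat.toSelf (BasedCategory.ofFunctor φ))
      (BasedCategory.ofFunctor p)).Full := by
    constructor
    intro G G' γ
    obtain ⟨α, hα1, hα2⟩ := full_aux hp φ hφ G.toFunctor G'.toFunctor G.w G'.w γ.toNatTrans
      (fun X => γ.isHomLift' X)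
    refine ⟨{ toNatTrans := α, isHomLift' := hα1 }, ?_⟩
    apply BasedNatTrans.homCategory.ext
    ext X
    exact hα2 X
  have hess : (Stk.restr (FibCat.toSelf (BasedCategory.ofFunctor φ))
      (BasedCategory.ofFunctor p)).EssSurj := by
    constructor
    intro H
    obtain ⟨s, hs, θ, hθ⟩ := essSurj_aux.{w} φ hp hφ H.toFunctor H.w
    refine ⟨⟨s, hs⟩, ⟨BasedNatIso.mkNatIso θ ?_⟩⟩
    intro X
    exact hθ X
  exact { faithful := hfaith, full := hfull, essSurj := hess }

end Groth.Agent.Lib.Helper17.Sect
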