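import Groth.Agent.Lib.Helper17TwistBC1
import Groth.Agent.Lib.Helper27ProjOverBC
import Groth.Agent.Lib.Helper27TwistEq
import Groth.Agent.Lib.Helper23VeryAmple3

/-!
# Helper17: the twisting sheaves `O(d)` on `P^n_Y` (`Twist.twistOver`) over an affine open of `Y`
are the twisting sheaves `O(d)` of `P^n_B` (`Twist.twistProjSpace`).
-/

set_option autoImplicit false
universe u

open CategoryTheory CategoryTheory.Limits AlgebraicGeometry TopologicalSpace Opposite
  HomogeneousLocalization MvPolynomial

namespace Groth.Agent.Lib.Helper17.TwistBC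

open Groth.Agent.Lib.Helper27ProjSpaceBC Groth.Agent.Lib.Helper27ProjOverBC

section Ring

variable (n : ℕ) (R : Type u) [CommRing R]

theorem exists_mem_basicOpen_X (y : Proj (CohB1.polyGrading n R)) :
    ∃ i : Fin (n + 1), y ∈ Proj.basicOpen (CohB1.polyGrading n R)
      (X i : MvPolynomial (Fin (n + 1)) R) := by
  obtain ⟨i, hi⟩ := Groth.Agent.Lib.Helper23.VeryAmple3.exists_X_not_mem n R y
  exact ⟨i, (Proj.mem_basicOpen _ _ _).2 hi⟩

/-- `O(d)` on `P^n_R` is the base change of `O(d)` on `P^n_ℤ`. -/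
theorem nonempty_pullback_bcMap_twist (d : ℤ) :
    Nonempty ((Scheme.Modules.pullback (bcMap' n R)).obj (Twist.twistProjSpace n (ULift.{u} ℤ) d) ≅
      Twist.twistProjSpace n R d) := by
  rw [Groth.Agent.Lib.Helper27TwistEq.twistProjSpace_apply,
    Groth.Agent.Lib.Helper27TwistEq.twistProjSpace_apply]
  exact nonempty_pullback_map_twist_iso (bcg n R) (hbcg n R)
    (fun i : Fin (n + 1) => (X i : MvPolynomial (Fin (n + 1)) (ULift.{u} ℤ)))
    (hX n (ULift.{u} ℤ)) (exists_mem_basicOpen_X n (ULift.{u} ℤ)) d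

end Ring

section Over

variable (n : ℕ) {Y : Scheme.{u}}

/-- pulling `O(d)` on `P^n_Y` back along any morphism is pulling `O(d)` on `P^n_ℤ` back along the
composite. -/
noncomputable def pullbackTwistOverIso {T : Scheme.{u}} (g : T ⟶ CohB1.ProjSpaceOver n Y) (d : ℤ) :
    (Scheme.Modules.pullback g).obj (Twist.twistOver n Y d) ≅
      (Scheme.Modules.pullback (g ≫ pullback.fst (CohB1.ProjSpace.toSpec n (ULift.{u} ℤ))
        (specULiftZIsTerminal.from Y))).obj (Twist.twistProjSpace n (ULift.{u} ℤ) d) :=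
  (Scheme.Modules.pullbackComp g _).app _

variable {V : Y.Opens} (hV : IsAffineOpen V)

/-- the open immersion `P^n_B ⟶ P^n_Y` over an affine open `V = Spec B` of `Y`. -/
noncomputable def chartOver : CohB1.ProjSpace n Γ(Y, V) ⟶ CohB1.ProjSpaceOver n Y :=
  (overIso n Γ(Y, V)).hom ≫ bcOver n hV.fromSpec

instance : IsOpenImmersion (chartOver n hV) := by
  unfold chartOver
  infer_instance

theorem chartOver_fst :
    chartOver n hV ≫ pullback.fst (CohB1.ProjSpace.toSpec n (ULift.{u} ℤ))
      (specULiftZIsTerminal.from Y) = bcMap' n Γ(Y, V) := by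
  unfold chartOver
  rw [Category.assoc, bcOver_fst, overIso_hom_fst]

theorem chartOver_toBase :
    chartOver n hV ≫ CohB1.ProjSpaceOver.toBase n Y =
      CohB1.ProjSpace.toSpec n Γ(Y, V) ≫ hV.fromSpec := by
  unfold chartOver
  rw [Category.assoc, bcOver_toBase, ← Category.assoc, overIso_hom_toBase]

theorem isPullback_chartOver :
    IsPullback (chartOver n hV) (CohB1.ProjSpace.toSpec n Γ(Y, V))
      (CohB1.ProjSpaceOver.toBase n Y) hV.fromSpec := by
  have h := isPullback_bcOver n hV.fromSpec
  refine IsPullback.of_iso h (overIso n Γ(Y, V)).symm (Iso.refl _) (Iso.refl _) (Iso.refl _)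
    ?_ ?_ ?_ ?_
  · simp [chartOver]
  · have := overIso_inv_toSpec n Γ(Y, V)
    simp only [Iso.symm_hom, Iso.refl_hom, Category.comp_id]
    exact this.symm
  · simp
  · simp

theorem opensRange_chartOver :
    (chartOver n hV).opensRange = CohB1.ProjSpaceOver.toBase n Y ⁻¹ᵁ V := by
  ext x
  have h1 := (isPullback_chartOver n hV)
  have h2 : Set.range (chartOver n hV).base =
      (CohB1.ProjSpaceOver.toBase n Y).base ⁻¹' Set.range hV.fromSpec.base := by
    have e := h1.isoPullback
    have hfst : h1.isoPullback.hom ≫ pullback.fst _ _ = chartOver n hV := h1.isoPullback_hom_fst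
    rw [← hfst, Scheme.Hom.comp_base, TopCat.coe_comp, Set.range_comp,
      Set.range_eq_univ.2 (ConcreteCategory.bijective_of_isIso h1.isoPullback.hom.base).2,
      Set.image_univ, Scheme.Pullback.range_fst]
  have h3 : Set.range hV.fromSpec.base = (V : Set Y) := hV.range_fromSpec
  change x ∈ Set.range (chartOver n hV).base ↔ _
  rw [h2, h3]
  rfl

/-- `O(d)` on `P^n_Y` restricts to `O(d)` on `P^n_B` over an affine open `Spec B` of `Y`. -/
theorem nonempty_pullback_chartOver_twist (d : ℤ) :
    Nonempty ((Scheme.Modules.pullback (chartOver n hV)).obj (Twist.twistOver n Y d) ≅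
      Twist.twistProjSpace n Γ(Y, V) d) := by
  obtain ⟨e⟩ := nonempty_pullback_bcMap_twist n Γ(Y, V) d
  exact ⟨pullbackTwistOverIso n (chartOver n hV) d ≪≫
    (Scheme.Modules.pullbackCongr (chartOver_fst n hV)).app _ ≪≫ e⟩

end Over

end Groth.Agent.Lib.Helper17.TwistBC
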