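import Groth.Agent.Lib.Helper17SerreAmple1
import Groth.Agent.Lib.Helper17TwistBC2
import Groth.Agent.Lib.Helper17FinProjLoc
import Groth.Agent.S2330

/-!
# Helper17: Serre vanishing for an ample invertible module on a scheme proper over an affine
Noetherian base.

* `exists_closedImmersion_projSpace` : an ample `L` on `X` proper over an affine `Y` has a power
  `L^{n₁} ≅ j^* O(1)` for a closed immersion `j : X ⟶ P^m_B`, `B = Γ(Y, ⊤)`.
* `serre_vanishing_ample`.
-/

set_option autoImplicit false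
universe u

open CategoryTheory CategoryTheory.Limits AlgebraicGeometry

namespace Groth.Agent.Lib.Helper17.SerreAmple

open Groth.Agent.Lib.Helper17.TwistBC

section Embed

variable {X Y : Scheme.{u}} [IsAffine Y] (q : X ⟶ Y) [IsProper q] (L : X.Modules)

theorem isIso_chartOver_top (m : ℕ) : IsIso (chartOver m (isAffineOpen_top Y)) := by
  refine isIso_of_isOpenImmersion_of_opensRange_eq_top _ ?_
  rw [opensRange_chartOver]
  rfl

include q in
/-- a power of an ample invertible module on a scheme proper over an affine base is the pullback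
of `O(1)` along a closed immersion into a projective space over the ring of the base. -/
theorem exists_closedImmersion_projSpace (hL : PicF.IsInvertible L) (hA : CohB1.IsAmple L) :
    ∃ (n₁ m : ℕ) (j : X ⟶ CohB1.ProjSpace m Γ(Y, ⊤)), 0 < n₁ ∧ IsClosedImmersion j ∧
      Nonempty (CohB1.tensorPow L n₁ ≅
        (Scheme.Modules.pullback j).obj (Twist.twistProjSpace m Γ(Y, ⊤) 1)) := by
  obtain ⟨n₀, hn₀⟩ := (Groth.Agent.S2330.result q L hL).2 hA
  obtain ⟨m, i, hi, hiq, ⟨Φ⟩⟩ := hn₀ (n₀ + 1) (Nat.le_succ n₀)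
  haveI := hi
  haveI : IsClosedImmersion i :=
    Groth.Agent.Lib.Helper17.FinLoc.isClosedImmersion_of_isImmersion_projSpaceOver m i q hiq
  haveI := isIso_chartOver_top (Y := Y) m
  let c := chartOver m (isAffineOpen_top Y)
  obtain ⟨φ⟩ := nonempty_pullback_chartOver_twist m (isAffineOpen_top Y) 1
  have hjc : (i ≫ inv c) ≫ c = i := by
    rw [Category.assoc, IsIso.inv_hom_id, Category.comp_id]
  refine ⟨n₀ + 1, m, i ≫ inv c, Nat.succ_pos _, inferInstance, ⟨?_⟩⟩
  exact Φ ≪≫ (Scheme.Modules.pullbackCongr hjc).symm.app _ ≪≫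
    (Scheme.Modules.pullbackComp (i ≫ inv c) c).symm.app _ ≪≫
    (Scheme.Modules.pullback (i ≫ inv c)).mapIso φ

end Embed

/-- **Serre vanishing** for an ample invertible module on a scheme proper over an affine
Noetherian scheme. -/
theorem serre_vanishing_ample {X Y : Scheme.{u}} [IsAffine Y] [IsNoetherian Y] (q : X ⟶ Y)
    [IsProper q] (L : X.Modules) (hL : PicF.IsInvertible L) (hA : CohB1.IsAmple L)
    (M : X.Modules) (hM : Coh.IsCoh M) :
    ∃ n₀ : ℕ, ∀ n : ℕ, n₀ ≤ n → ∀ p : ℕ, 0 < p →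
      Subsingleton (Coh.HH X (CohB1.tensorMod M (CohB1.tensorPow L n)) p) := by
  haveI : IsNoetherianRing Γ(Y, ⊤) :=
    IsLocallyNoetherian.component_noetherian (X := Y) ⟨⊤, isAffineOpen_top Y⟩
  obtain ⟨n₁, m, j, hn₁, hj, ⟨Φ⟩⟩ := exists_closedImmersion_projSpace q L hL hA
  haveI := hj
  exact serre_vanishing_closed j L hL n₁ Φ hn₁ M hM

end Groth.Agent.Lib.Helper17.SerreAmple
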