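import Groth.Agent.Lib.Helper17TwistBC2
import Groth.Agent.Lib.Helper17BCVan2
import Groth.Agent.Lib.Helper2PullbackSec
import Groth.Agent.Lib.Helper27ProjSpaceFibres
import Groth.Agent.Lib.Helper27PnCohVanish
import Groth.Agent.S0012

/-!
# Helper17: `R^i f_* O(d) = 0` on `P^r_Y` outside the two classical ranges.

* `isIso_unit_of_isIso`, `subsingleton_HE_opensRange`: cohomology over the image of an open
  immersion.
* `isZero_of_subsingleton_affine`: an abelian sheaf on a scheme without sections over the affine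
  opens is zero.
* `isZero_RpushAb_of_forall_affine`: `R^i f_* M = 0` if `H^i(f⁻¹V, M) = 0` for all affine `V`.
* `isZero_RpushAb_twistOver`.
-/

set_option autoImplicit false
universe u

open CategoryTheory CategoryTheory.Limits AlgebraicGeometry TopologicalSpace Opposite

namespace Groth.Agent.Lib.Helper17.TwistBC

open Groth.Agent.Lib.Helper17 Groth.Agent.Lib.Helper23.AffVanish Groth.Agent.Lib.Helper17.LerayTop
  Groth.Agent.Lib.Helper17.BCVan

/-- for an isomorphism of schemes, the unit of `restriction ⊣ pushforward` is an isomorphism. -/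
theorem isIso_unit_of_isIso {X Y : Scheme.{u}} (f : X ⟶ Y) [IsIso f] (K : Y.Modules) :
    IsIso ((Scheme.Modules.restrictAdjunction f).unit.app K) := by
  rw [Scheme.Modules.Hom.isIso_iff_isIso_app]
  intro U'
  rw [Scheme.Modules.restrictAdjunction_unit_app_app]
  have h : f ''ᵁ (f ⁻¹ᵁ U') = U' := by
    rw [Scheme.Hom.image_preimage_eq_opensRange_inf]
    have : f.opensRange = ⊤ := by
      ext x
      simp only [Scheme.Hom.coe_opensRange, Opens.coe_top, Set.mem_univ, iff_true]
      exact (ConcreteCategory.bijective_of_isIso f.base).2 x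
    rw [this, top_inf_eq]
  have h1 : IsIso (homOfLE (f.image_preimage_le U')) :=
    ⟨⟨homOfLE h.ge, Subsingleton.elim _ _, Subsingleton.elim _ _⟩⟩
  have h2 : IsIso (homOfLE (f.image_preimage_le U')).op := inferInstance
  exact Functor.map_isIso _ _

/-- cohomology over the image of an open immersion `c : W ⟶ P`. -/
theorem subsingleton_HE_opensRange {W P : Scheme.{u}} (c : W ⟶ P) [IsOpenImmersion c]
    (M : P.Modules) [Coh.IsQCoh M] (N : W.Modules)
    (φ : (Scheme.Modules.pullback c).obj M ≅ N) (i : ℕ) (h : Subsingleton (Coh.HH W N i)) :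
    Subsingleton (HE (ab' M) i c.opensRange) := by
  let e := c.isoOpensRange
  have he : e.hom ≫ c.opensRange.ι = c := c.isoOpensRange_hom_ι
  let K : (c.opensRange : Scheme.{u}).Modules := M.restrict c.opensRange.ι
  let N' : W.Modules := (Scheme.Modules.restrictFunctor e.hom).obj K
  haveI : Coh.IsQCoh K := Scheme.Modules.isQuasicoherent_restrictFunctor c.opensRange.ι M
  haveI : Coh.IsQCoh N' := Scheme.Modules.isQuasicoherent_restrictFunctor e.hom K
  have e4 : N' ≅ N :=
    (Scheme.Modules.restrictFunctorComp e.hom c.opensRange.ι).symm.app M ≪≫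
      (Scheme.Modules.restrictFunctorCongr he).app M ≪≫
      (Scheme.Modules.restrictFunctorIsoPullback c).app M ≪≫ φ
  obtain ⟨a⟩ := nonempty_HE_equiv_HHon M c.opensRange i
  obtain ⟨b⟩ := Groth.Agent.S0012.result e.hom N' i
  haveI := isIso_unit_of_isIso e.hom K
  obtain ⟨c'⟩ := nonempty_HH_equiv_of_iso
    (asIso ((Scheme.Modules.restrictAdjunction e.hom).unit.app K)) i
  obtain ⟨d⟩ := nonempty_HH_equiv_of_iso e4 i
  haveI := h
  exact (a.trans (c'.trans (b.symm.trans d))).toEquiv.subsingleton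

/-- an abelian sheaf on a scheme without nonzero sections over affine opens is zero. -/
theorem isZero_of_subsingleton_affine {Y : Scheme.{u}}
    (F : Sheaf (Opens.grothendieckTopology Y) AddCommGrpCat.{u})
    (h : ∀ V : Y.Opens, IsAffineOpen V → Subsingleton (F.obj.obj (op V))) : IsZero F := by
  have hall : ∀ (U : Y.Opens) (s : F.obj.obj (op U)), s = 0 := by
    intro U s
    refine TopCat.Sheaf.eq_of_locally_eq' (F := F)
      (fun i : {W : Y.affineOpens // W.1 ≤ U} => i.1.1) U (fun i => homOfLE i.2) ?_ s 0 ?_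
    · intro x hx
      obtain ⟨W, hW, hxW, hWU⟩ := (Opens.isBasis_iff_nbhd.mp Y.isBasis_affineOpens) hx
      exact Opens.mem_iSup.2 ⟨⟨⟨W, hW⟩, hWU⟩, hxW⟩
    · intro i
      haveI := h i.1.1 i.1.2
      exact Subsingleton.elim _ _
  rw [IsZero.iff_id_eq_zero]
  apply Sheaf.hom_ext
  ext U s
  exact hall _ _

/-- `R^i f_* M = 0` if `H^i(f⁻¹V, M) = 0` for all affine opens `V` of the base. -/
theorem isZero_RpushAb_of_forall_affine {X S : Scheme.{u}} (f : X ⟶ S) [QuasiCompact f]
    [QuasiSeparated f] (M : X.Modules) [Coh.IsQCoh M] (i : ℕ)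
    (h : ∀ V : S.Opens, IsAffineOpen V → Subsingleton (HE (ab' M) i (f ⁻¹ᵁ V))) :
    IsZero ((Coh.RpushAb f i).obj (Coh.toAb M)) := by
  refine isZero_of_subsingleton_affine _ (fun V hV => ?_)
  obtain ⟨e⟩ := nonempty_HE_preimage_iso f M hV i
  haveI := h V hV
  haveI : Subsingleton (HE ((Coh.RpushAb f i).obj (Coh.toAb M)) 0 V) :=
    e.symm.addCommGroupIsoToAddEquiv.toEquiv.subsingleton
  exact (h0Equiv ((Coh.RpushAb f i).obj (Coh.toAb M)) V).symm.toEquiv.subsingleton

/-- `O(d)` on `P^r_Y` is quasi-coherent. -/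
theorem isQCoh_twistOver (r : ℕ) (Y : Scheme.{u}) (d : ℤ) : Coh.IsQCoh (Twist.twistOver r Y d) := by
  haveI : Coh.IsQCoh (Twist.twistProjSpace r (ULift.{u} ℤ) d) :=
    Groth.Agent.Lib.Helper27GrTildeSect.isQuasicoherent_tilde _ _ d
  exact Groth.Agent.Lib.Helper2.PullbackSec.isQuasicoherent_pullback _ _

/-- **`R^i f_* O(d) = 0` on `P^r_Y`** unless `i = 0, d ≥ 0` or `i = r, d ≤ -r-1`. -/
theorem isZero_RpushAb_twistOver (Y : Scheme.{u}) (r : ℕ) (i : ℕ) (d : ℤ)
    (h : ¬ ((i = 0 ∧ 0 ≤ d) ∨ (i = r ∧ d ≤ -((r : ℤ) + 1)))) :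
    IsZero ((Coh.RpushAb (CohB1.ProjSpaceOver.toBase r Y) i).obj
      (Coh.toAb (Twist.twistOver r Y d))) := by
  haveI := Groth.Agent.Lib.Helper27ProjSpaceFibres.isProper_toBase r Y
  haveI := isQCoh_twistOver r Y d
  refine isZero_RpushAb_of_forall_affine _ _ i (fun V hV => ?_)
  rw [← opensRange_chartOver r hV]
  obtain ⟨φ⟩ := nonempty_pullback_chartOver_twist r hV d
  exact subsingleton_HE_opensRange (chartOver r hV) _ _ φ i
    (Groth.Agent.Lib.Helper27PnCohVanish.subsingleton_HH r Γ(Y, V) d i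
      (fun h0 => h (Or.inl h0)) (fun hn => h (Or.inr hn)))

end Groth.Agent.Lib.Helper17.TwistBC
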