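import Groth.Agent.Lib.Helper17SerreAmple2
import Groth.Agent.Lib.Helper17TwistBC3
import Groth.Agent.Lib.Helper17FinLoc
import Groth.Agent.Lib.Helper23RestrTensor
import Groth.Agent.Lib.Helper23ModAbBridge
import Groth.Agent.Lib.Helper2QCoh
import Groth.Agent.S0030

/-!
# Helper17: relatively ample invertible modules kill higher direct images.

* `subsingleton_of_le_affine` : a quasi-coherent module without sections over an affine open `W`
  has no sections over the opens contained in `W`.
* `isZero_RpushAb_of_finite_cover` : `R^p f_* N = 0` if `H^p(f⁻¹ W_i, N) = 0` for the members of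
  an affine open cover of the base (`f` qcqs, `N` quasi-coherent).
* `isZero_RpushAb_twist_of_relAmple`.
-/

set_option autoImplicit false
universe u

open CategoryTheory CategoryTheory.Limits AlgebraicGeometry TopologicalSpace Opposite

namespace Groth.Agent.Lib.Helper17.SerreAmple

open Groth.Agent.Lib.Helper17 Groth.Agent.Lib.Helper23.AffVanish Groth.Agent.Lib.Helper17.LerayTop
  Groth.Agent.Lib.Helper17.BCVan Groth.Agent.Lib.Helper17.TwistBC

/-- a quasi-coherent module without sections over an affine open `W` has no sections over the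
opens contained in `W`. -/
theorem subsingleton_of_le_affine {S : Scheme.{u}} (F : S.Modules) [F.IsQuasicoherent]
    {W : S.Opens} (hW : IsAffineOpen W) (h : Subsingleton Γ(F, W)) {V : S.Opens} (hV : V ≤ W) :
    Subsingleton Γ(F, V) := by
  have hstalk : ∀ (x : S) (hx : x ∈ W) (y : F.presheaf.stalk x), y = 0 := by
    intro x hx y
    obtain ⟨s, m, hxs, hsm⟩ := Groth.Agent.Lib.Helper2.QCoh.exists_smul_eq_germ hW F x hx y
    have hm : m = 0 := Subsingleton.elim _ _
    rw [hm, map_zero] at hsm
    have hu : IsUnit (S.presheaf.germ W x hx s) := (S.mem_basicOpen s x hx).1 hxs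
    obtain ⟨u, hu'⟩ := hu
    have : (↑u⁻¹ : S.presheaf.stalk x) • (S.presheaf.germ W x hx s • y) = y := by
      rw [← hu', smul_smul, Units.inv_mul, one_smul]
    rw [← this, hsm, smul_zero]
  refine ⟨fun s t => ?_⟩
  refine Groth.Agent.Lib.Helper23.InvDual.section_ext F s t (fun x hx => ?_)
  rw [hstalk x (hV hx) (F.presheaf.germ V x hx s), hstalk x (hV hx) (F.presheaf.germ V x hx t)]

/-- an abelian sheaf without sections over the opens contained in a member of an open cover is
zero. -/
theorem isZero_of_subsingleton_cover {Y : Scheme.{u}}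
    (F : Sheaf (Opens.grothendieckTopology Y) AddCommGrpCat.{u}) {ι : Type*} (W : ι → Y.Opens)
    (hW : ∀ y : Y, ∃ i, y ∈ W i)
    (h : ∀ (i : ι) (V : Y.Opens), V ≤ W i → Subsingleton (F.obj.obj (op V))) : IsZero F := by
  have hall : ∀ (U : Y.Opens) (s : F.obj.obj (op U)), s = 0 := by
    intro U s
    refine TopCat.Sheaf.eq_of_locally_eq' (F := F)
      (fun i : ι => U ⊓ W i) U (fun i => homOfLE inf_le_left) ?_ s 0 ?_
    · intro x hx
      obtain ⟨i, hi⟩ := hW x
      exact Opens.mem_iSup.2 ⟨i, hx, hi⟩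
    · intro i
      haveI := h i (U ⊓ W i) inf_le_right
      exact Subsingleton.elim _ _
  rw [IsZero.iff_id_eq_zero]
  apply Sheaf.hom_ext
  ext U s
  exact hall _ _

attribute [local instance] Groth.Agent.Lib.Helper17.QCPush.enoughInjectives in
/-- `R^p f_* N = 0` if `H^p(f⁻¹ W_i, N) = 0` for the members of an affine open cover of the
base. -/
theorem isZero_RpushAb_of_cover {X S : Scheme.{u}} (f : X ⟶ S) [QuasiCompact f]
    [QuasiSeparated f] (N : X.Modules) [Coh.IsQCoh N] (p : ℕ) {ι : Type*} (W : ι → S.Opens)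
    (hWa : ∀ i, IsAffineOpen (W i)) (hW : ∀ y : S, ∃ i, y ∈ W i)
    (h : ∀ i, Subsingleton (HE (ab' N) p (f ⁻¹ᵁ W i))) :
    IsZero ((Coh.RpushAb f p).obj (Coh.toAb N)) := by
  haveI : HasInjectiveResolutions X.Modules := inferInstance
  obtain ⟨e0⟩ := Groth.Agent.Lib.Helper23.ModAbBridge.nonempty_toAb_Rpush_iso f N p
  haveI : Coh.IsQCoh ((Coh.Rpush f p).obj N) := Groth.Agent.S0030.result f N p
  refine isZero_of_subsingleton_cover _ W hW (fun i V hV => ?_)
  -- sections over `W i`
  have h1 : Subsingleton (((Coh.RpushAb f p).obj (Coh.toAb N)).obj.obj (op (W i))) := by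
    obtain ⟨e⟩ := nonempty_HE_preimage_iso f N (hWa i) p
    haveI := h i
    haveI : Subsingleton (HE ((Coh.RpushAb f p).obj (Coh.toAb N)) 0 (W i)) :=
      e.symm.addCommGroupIsoToAddEquiv.toEquiv.subsingleton
    exact (h0Equiv ((Coh.RpushAb f p).obj (Coh.toAb N)) (W i)).symm.toEquiv.subsingleton
  have e1 : ∀ U : S.Opens, ((Coh.RpushAb f p).obj (Coh.toAb N)).obj.obj (op U) ≅
      (Coh.toAb ((Coh.Rpush f p).obj N)).obj.obj (op U) := fun U =>
    ((sheafSections (Opens.grothendieckTopology S) AddCommGrpCat.{u}).obj (op U)).mapIso e0.symm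
  have h2 : Subsingleton Γ((Coh.Rpush f p).obj N, W i) :=
    (e1 (W i)).symm.addCommGroupIsoToAddEquiv.toEquiv.subsingleton
  have h3 : Subsingleton Γ((Coh.Rpush f p).obj N, V) :=
    subsingleton_of_le_affine _ (hWa i) h2 hV
  haveI : Subsingleton ((Coh.toAb ((Coh.Rpush f p).obj N)).obj.obj (op V)) := h3
  exact (e1 V).addCommGroupIsoToAddEquiv.toEquiv.subsingleton

end Groth.Agent.Lib.Helper17.SerreAmple
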