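import Mathlib.CategoryTheory.Limits.Shapes.ZeroMorphisms
import Mathlib.CategoryTheory.Limits.Preserves.Shapes.Zero
import Mathlib.CategoryTheory.EssentialImage
import Mathlib.CategoryTheory.Opposites

/-!
# Lifting sequences through a functor with fractions (helper17)

Let `L : A ⥤ Q` be an essentially surjective functor preserving zero morphisms such that
* every morphism `φ : L X ⟶ L Y'` is a left fraction: there are `s : Y' ⟶ Y` with `L s` an
  isomorphism and `f : X ⟶ Y` with `L f = φ ≫ L s`;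
* if `L f = 0` then `f ≫ t = 0` for some `t` with `L t` an isomorphism.

Then every sequence `N 0 ⟶ N 1 ⟶ ⋯` in `Q` with zero composites lifts, up to isomorphism, to a
sequence in `A` with zero composites (with a prescribed beginning).
-/

set_option autoImplicit false

universe v v' u u'

open CategoryTheory CategoryTheory.Limits

namespace Groth.Agent.Lib.Helper17.SerreEss

variable {A : Type u} [Category.{v} A] {Q : Type u'} [Category.{v'} Q]
  [HasZeroMorphisms A] [HasZeroMorphisms Q]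

/-- left fractions for `L`. -/
def HasLeftFrac (L : A ⥤ Q) : Prop :=
  ∀ (X Y' : A) (φ : L.obj X ⟶ L.obj Y'), ∃ (Y : A) (s : Y' ⟶ Y) (f : X ⟶ Y),
    IsIso (L.map s) ∧ L.map f = φ ≫ L.map s

/-- morphisms killed by `L` are killed by postcomposition with a morphism inverted by `L`. -/
def KillsRight (L : A ⥤ Q) : Prop :=
  ∀ (X Y : A) (f : X ⟶ Y), L.map f = 0 → ∃ (Y' : A) (t : Y ⟶ Y'), IsIso (L.map t) ∧ f ≫ t = 0

section Up

variable (L : A ⥤ Q) [L.PreservesZeroMorphisms] [L.EssSurj]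
  (hfrac : HasLeftFrac L) (hkill : KillsRight L)
  (N : ℕ → Q) (δ : ∀ k, N k ⟶ N (k + 1)) (hδ : ∀ k, δ k ≫ δ (k + 1) = 0)

/-- the state of the construction at step `k`. -/
structure State (k : ℕ) where
  /-- the previous object -/
  Xp : A
  /-- the current object -/
  Xc : A
  /-- the map from the previous to the current object -/
  fp : Xp ⟶ Xc
  /-- the identification of the current object -/
  ec : L.obj Xc ≅ N k
  hp : L.map fp ≫ ec.hom ≫ δ k = 0

variable {L N δ}

include hfrac hkill in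
lemma exists_step {k : ℕ} (s : State L N δ k) :
    ∃ (Y : A) (f : s.Xc ⟶ Y) (e : L.obj Y ≅ N (k + 1)),
      s.fp ≫ f = 0 ∧ L.map f ≫ e.hom = s.ec.hom ≫ δ k := by
  let Y' := L.objPreimage (N (k + 1))
  let e' : L.obj Y' ≅ N (k + 1) := L.objObjPreimageIso (N (k + 1))
  obtain ⟨Y₁, σ, f₁, hσ, hf₁⟩ := hfrac s.Xc Y' (s.ec.hom ≫ δ k ≫ e'.inv)
  have h0 : L.map (s.fp ≫ f₁) = 0 := by
    rw [L.map_comp, hf₁]
    have := s.hp
    simp only [← Category.assoc] at this ⊢
    rw [this]
    simp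
  obtain ⟨Y₂, t, ht, hft⟩ := hkill _ _ _ h0
  haveI := hσ
  haveI := ht
  refine ⟨Y₂, f₁ ≫ t, (asIso (L.map t)).symm ≪≫ (asIso (L.map σ)).symm ≪≫ e', ?_, ?_⟩
  · rw [← Category.assoc, hft]
  · simp only [Functor.map_comp, Iso.trans_hom, Iso.symm_hom, asIso_inv, Category.assoc,
      IsIso.hom_inv_id_assoc, hf₁]
    simp

/-- the next state. -/
noncomputable def next {k : ℕ} (s : State L N δ k) (hδk : δ k ≫ δ (k + 1) = 0) :
    State L N δ (k + 1) where
  Xp := s.Xc
  Xc := (exists_step hfrac hkill s).choose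
  fp := (exists_step hfrac hkill s).choose_spec.choose
  ec := (exists_step hfrac hkill s).choose_spec.choose_spec.choose
  hp := by
    have h := (exists_step hfrac hkill s).choose_spec.choose_spec.choose_spec.2
    rw [← Category.assoc, h, Category.assoc, hδk, comp_zero]

lemma next_comp {k : ℕ} (s : State L N δ k) (hδk : δ k ≫ δ (k + 1) = 0) :
    s.fp ≫ (next hfrac hkill s hδk).fp = 0 :=
  (exists_step hfrac hkill s).choose_spec.choose_spec.choose_spec.1

lemma next_map {k : ℕ} (s : State L N δ k) (hδk : δ k ≫ δ (k + 1) = 0) :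
    L.map (next hfrac hkill s hδk).fp ≫ (next hfrac hkill s hδk).ec.hom = s.ec.hom ≫ δ k :=
  (exists_step hfrac hkill s).choose_spec.choose_spec.choose_spec.2

variable (s₀ : State L N δ 0)

/-- the sequence of states. -/
noncomputable def states (hδ : ∀ k, δ k ≫ δ (k + 1) = 0) : ∀ k, State L N δ k
  | 0 => s₀
  | k + 1 => next hfrac hkill (states hδ k) (hδ k)

include hfrac hkill hδ in
/-- **Lifting a sequence upwards.** -/
theorem exists_lift_up :
    ∃ (X : ℕ → A) (f₀ : s₀.Xc ⟶ X 0) (f : ∀ k, X k ⟶ X (k + 1))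
      (e : ∀ k, L.obj (X k) ≅ N (k + 1)),
      s₀.fp ≫ f₀ = 0 ∧ f₀ ≫ f 0 = 0 ∧ (∀ k, f k ≫ f (k + 1) = 0) ∧
      L.map f₀ ≫ (e 0).hom = s₀.ec.hom ≫ δ 0 ∧
      ∀ k, L.map (f k) ≫ (e (k + 1)).hom = (e k).hom ≫ δ (k + 1) := by
  refine ⟨fun k => (states hfrac hkill s₀ hδ (k + 1)).Xc,
    (states hfrac hkill s₀ hδ 1).fp,
    fun k => (states hfrac hkill s₀ hδ (k + 2)).fp,
    fun k => (states hfrac hkill s₀ hδ (k + 1)).ec, ?_, ?_, ?_, ?_, ?_⟩
  · exact next_comp hfrac hkill s₀ (hδ 0)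
  · exact next_comp hfrac hkill (states hfrac hkill s₀ hδ 1) (hδ 1)
  · intro k
    exact next_comp hfrac hkill (states hfrac hkill s₀ hδ (k + 2)) (hδ (k + 2))
  · exact next_map hfrac hkill s₀ (hδ 0)
  · intro k
    exact next_map hfrac hkill (states hfrac hkill s₀ hδ (k + 1)) (hδ (k + 1))

end Up

end Groth.Agent.Lib.Helper17.SerreEss
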