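import Groth.Agent.Lib.Helper17SerreEss1

/-!
# Lifting sequences downwards (helper17)

The dual of `exists_lift_up`, obtained by passing to opposite categories.
-/

set_option autoImplicit false

universe v v' u u'

open CategoryTheory CategoryTheory.Limits Opposite

namespace Groth.Agent.Lib.Helper17.SerreEss

variable {A : Type u} [Category.{v} A] {Q : Type u'} [Category.{v'} Q]
  [HasZeroMorphisms A] [HasZeroMorphisms Q]

/-- right fractions for `L`. -/
def HasRightFrac (L : A ⥤ Q) : Prop :=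
  ∀ (X' Y : A) (φ : L.obj X' ⟶ L.obj Y), ∃ (X : A) (s : X ⟶ X') (f : X ⟶ Y),
    IsIso (L.map s) ∧ L.map f = L.map s ≫ φ

/-- morphisms killed by `L` are killed by precomposition with a morphism inverted by `L`. -/
def KillsLeft (L : A ⥤ Q) : Prop :=
  ∀ (X Y : A) (f : X ⟶ Y), L.map f = 0 → ∃ (X' : A) (t : X' ⟶ X), IsIso (L.map t) ∧ t ≫ f = 0

lemma hasLeftFrac_op {L : A ⥤ Q} (h : HasRightFrac L) : HasLeftFrac L.op := by
  intro X Y' φ
  obtain ⟨Z, s, f, hs, hf⟩ := h Y'.unop X.unop φ.unop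
  refine ⟨op Z, s.op, f.op, ?_, ?_⟩
  · haveI := hs
    change IsIso (L.map s).op
    infer_instance
  · change (L.map f).op = φ ≫ (L.map s).op
    rw [hf]
    rfl

lemma killsRight_op {L : A ⥤ Q} (h : KillsLeft L) : KillsRight L.op := by
  intro X Y f hf
  have hf' : L.map f.unop = 0 := by
    have : (L.map f.unop).op = 0 := hf
    exact Quiver.Hom.op_inj this
  obtain ⟨Z, t, ht, hft⟩ := h _ _ f.unop hf'
  refine ⟨op Z, t.op, ?_, ?_⟩
  · haveI := ht
    change IsIso (L.map t).op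
    infer_instance
  · apply Quiver.Hom.unop_inj
    exact hft

section Down

variable (L : A ⥤ Q) [L.PreservesZeroMorphisms] [L.EssSurj]
  (hfrac : HasRightFrac L) (hkill : KillsLeft L)
  (N : ℕ → Q) (δ : ∀ k, N (k + 1) ⟶ N k) (hδ : ∀ k, δ (k + 1) ≫ δ k = 0)
  (X₀ X₁ : A) (f₀ : X₀ ⟶ X₁) (e₀ : L.obj X₀ ≅ N 0) (h₀ : δ 0 ≫ e₀.inv ≫ L.map f₀ = 0)

include hfrac hkill hδ h₀ in
/-- **Lifting a sequence downwards.** -/
theorem exists_lift_down :
    ∃ (X : ℕ → A) (g₀ : X 0 ⟶ X₀) (g : ∀ k, X (k + 1) ⟶ X k)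
      (e : ∀ k, L.obj (X k) ≅ N (k + 1)),
      g₀ ≫ f₀ = 0 ∧ g 0 ≫ g₀ = 0 ∧ (∀ k, g (k + 1) ≫ g k = 0) ∧
      (e 0).hom ≫ δ 0 = L.map g₀ ≫ e₀.hom ∧
      ∀ k, (e (k + 1)).hom ≫ δ (k + 1) = L.map (g k) ≫ (e k).hom := by
  haveI : L.op.EssSurj := inferInstance
  haveI : L.op.PreservesZeroMorphisms :=
    ⟨fun X Y => by
      change (L.map (0 : Y.unop ⟶ X.unop)).op = 0
      rw [L.map_zero]
      rfl⟩
  let s₀ : State L.op (fun k => op (N k)) (fun k => (δ k).op) 0 :=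
    { Xp := op X₁
      Xc := op X₀
      fp := f₀.op
      ec := e₀.symm.op
      hp := by
        change (L.map f₀).op ≫ e₀.inv.op ≫ (δ 0).op = 0
        rw [← op_comp, ← op_comp, Category.assoc, h₀]
        rfl }
  obtain ⟨X, φ₀, φ, e, h1, h2, h3, h4, h5⟩ :=
    exists_lift_up (hasLeftFrac_op hfrac) (killsRight_op hkill)
      (N := fun k => op (N k)) (δ := fun k => (δ k).op)
      (fun k => by
        change (δ k).op ≫ (δ (k + 1)).op = 0
        rw [← op_comp, hδ k]; rfl) s₀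
  refine ⟨fun k => (X k).unop, φ₀.unop, fun k => (φ k).unop, fun k => (e k).unop.symm,
    ?_, ?_, ?_, ?_, ?_⟩
  · exact Quiver.Hom.op_inj h1
  · exact Quiver.Hom.op_inj h2
  · intro k
    exact Quiver.Hom.op_inj (h3 k)
  · have h4' := congrArg Quiver.Hom.unop h4
    change (e 0).hom.unop ≫ L.map φ₀.unop = δ 0 ≫ e₀.inv at h4'
    change (e 0).inv.unop ≫ δ 0 = L.map φ₀.unop ≫ e₀.hom
    have hinv : (e 0).inv.unop ≫ (e 0).hom.unop = 𝟙 _ := by
      rw [← unop_comp, (e 0).hom_inv_id]; rfl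
    calc (e 0).inv.unop ≫ δ 0
        = (e 0).inv.unop ≫ (δ 0 ≫ e₀.inv) ≫ e₀.hom := by simp
      _ = (e 0).inv.unop ≫ ((e 0).hom.unop ≫ L.map φ₀.unop) ≫ e₀.hom := by rw [h4']
      _ = L.map φ₀.unop ≫ e₀.hom := by
          rw [Category.assoc, ← Category.assoc, hinv, Category.id_comp]
  · intro k
    have h5' := congrArg Quiver.Hom.unop (h5 k)
    change (e (k + 1)).hom.unop ≫ L.map (φ k).unop = δ (k + 1) ≫ (e k).hom.unop at h5'
    change (e (k + 1)).inv.unop ≫ δ (k + 1) = L.map (φ k).unop ≫ (e k).inv.unop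
    have hinv : (e (k + 1)).inv.unop ≫ (e (k + 1)).hom.unop = 𝟙 _ := by
      rw [← unop_comp, (e (k + 1)).hom_inv_id]; rfl
    have hinv' : (e k).hom.unop ≫ (e k).inv.unop = 𝟙 _ := by
      rw [← unop_comp, (e k).inv_hom_id]; rfl
    calc (e (k + 1)).inv.unop ≫ δ (k + 1)
        = (e (k + 1)).inv.unop ≫ (δ (k + 1) ≫ (e k).hom.unop) ≫ (e k).inv.unop := by
          rw [Category.assoc, hinv', Category.comp_id]
      _ = (e (k + 1)).inv.unop ≫ ((e (k + 1)).hom.unop ≫ L.map (φ k).unop) ≫ (e k).inv.unop := by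
          rw [h5']
      _ = L.map (φ k).unop ≫ (e k).inv.unop := by
          rw [Category.assoc, ← Category.assoc, hinv, Category.id_comp]

end Down

end Groth.Agent.Lib.Helper17.SerreEss
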