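import Groth.Agent.Lib.Helper17SerreEss2
import Groth.Agent.Lib.Helper17SerreEss3

/-!
# Lifting cochain complexes through a functor with fractions (helper17)
-/

set_option autoImplicit false

universe v v' u u'

open CategoryTheory CategoryTheory.Limits

namespace Groth.Agent.Lib.Helper17.SerreEss

variable {A : Type u} [Category.{v} A] {Q : Type u'} [Category.{v'} Q]
  [HasZeroMorphisms A] [HasZeroMorphisms Q]

section Lift

variable (L : A ⥤ Q) [L.PreservesZeroMorphisms] [L.EssSurj]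
  (hlf : HasLeftFrac L) (hkr : KillsRight L) (hrf : HasRightFrac L) (hkl : KillsLeft L)
  (M : CochainComplex Q ℤ)

/-- the negative part of `M`, as a sequence. -/
def negObj : ℕ → Q
  | 0 => M.X 0
  | k + 1 => M.X (Int.negSucc k)

/-- the differentials of the negative part. -/
def negD : ∀ k, negObj M (k + 1) ⟶ negObj M k
  | 0 => M.d (Int.negSucc 0) 0
  | k + 1 => M.d (Int.negSucc (k + 1)) (Int.negSucc k)

lemma negD_comp : ∀ k, negD M (k + 1) ≫ negD M k = 0
  | 0 => M.d_comp_d _ _ _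
  | _ + 1 => M.d_comp_d _ _ _

include hlf hkr hrf hkl in
/-- **Lifting complexes.** -/
theorem exists_lift_complex :
    ∃ X : CochainComplex A ℤ,
      Nonempty ((L.mapHomologicalComplex (ComplexShape.up ℤ)).obj X ≅ M) := by
  -- the upward part
  let X₀ := L.objPreimage (M.X 0)
  let e₀ : L.obj X₀ ≅ M.X 0 := L.objObjPreimageIso (M.X 0)
  let s₀ : State L (fun k : ℕ => M.X (Int.ofNat k))
      (fun k : ℕ => M.d (Int.ofNat k) (Int.ofNat (k + 1))) 0 :=
    { Xp := X₀
      Xc := X₀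
      fp := 0
      ec := e₀
      hp := by simp }
  obtain ⟨Xu, f₀, fu, eu, -, u2, u3, u4, u5⟩ :=
    exists_lift_up hlf hkr (N := fun k : ℕ => M.X (Int.ofNat k))
      (δ := fun k : ℕ => M.d (Int.ofNat k) (Int.ofNat (k + 1)))
      (fun k => M.d_comp_d (Int.ofNat k) (Int.ofNat (k + 1)) (Int.ofNat (k + 1 + 1))) s₀
  -- the downward part
  have h₀ : negD M 0 ≫ e₀.inv ≫ L.map f₀ = 0 := by
    have h : L.map f₀ = e₀.hom ≫ M.d (Int.ofNat 0) (Int.ofNat 1) ≫ (eu 0).inv := by
      rw [← Category.assoc, ← u4, Category.assoc, Iso.hom_inv_id, Category.comp_id]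
    rw [h]
    change M.d (Int.negSucc 0) 0 ≫ e₀.inv ≫ e₀.hom ≫ M.d (Int.ofNat 0) (Int.ofNat 1) ≫ _ = 0
    rw [Iso.inv_hom_id_assoc]
    rw [← Category.assoc]
    have : M.d (Int.negSucc 0) 0 ≫ M.d (Int.ofNat 0) (Int.ofNat 1) = 0 := M.d_comp_d _ _ _
    rw [this, zero_comp]
  obtain ⟨Xd, g₀, gd, ed, d1, d2, d3, d4, d5⟩ :=
    exists_lift_down L hrf hkl (negObj M) (negD M) (negD_comp M) X₀ (Xu 0) f₀ e₀ h₀
  -- merging
  let Xp : ℕ → A := fun k => match k with
    | 0 => X₀
    | k + 1 => Xu k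
  let fp : ∀ k, Xp k ⟶ Xp (k + 1) := fun k => match k with
    | 0 => f₀
    | k + 1 => fu k
  have hp : ∀ k, fp k ≫ fp (k + 1) = 0 := fun k => match k with
    | 0 => u2
    | k + 1 => u3 k
  let K : CochainComplex A ℤ := glue Xp fp Xd gd g₀ hp d3 d2 d1
  let eK : ∀ n : ℤ, L.obj (K.X n) ≅ M.X n := fun n => match n with
    | Int.ofNat 0 => e₀
    | Int.ofNat (k + 1) => eu k
    | Int.negSucc k => ed k
  refine ⟨K, ⟨HomologicalComplex.Hom.isoOfComponents eK ?_⟩⟩
  intro i j hij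
  obtain rfl : i + 1 = j := hij
  rw [Functor.mapHomologicalComplex_obj_d, glue_d]
  match i with
  | Int.ofNat 0 => exact u4.symm
  | Int.ofNat (k + 1) => exact (u5 k).symm
  | Int.negSucc 0 => exact d4
  | Int.negSucc (k + 1) => exact d5 k

end Lift

end Groth.Agent.Lib.Helper17.SerreEss
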