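import Groth.Agent.Lib.Helper17SerreEss4
import Mathlib.CategoryTheory.Abelian.SerreClass.Localization
import Mathlib.Algebra.Homology.DerivedCategory.ExactFunctor

/-!
# Complexes in a Serre quotient lift to complexes (helper17)

For a Serre class `P` in an abelian category `A` and a localization functor `L : A ⥤ Q` for
`P.isoModSerre`, every cochain complex of `Q` is isomorphic to the image of a cochain complex of
`A`; hence `D(A) ⥤ D(Q)` is essentially surjective.
-/

set_option autoImplicit false

universe w w' v v' u u'

open CategoryTheory CategoryTheory.Limits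

namespace Groth.Agent.Lib.Helper17.SerreEss

variable {A : Type u} [Category.{v} A] [Abelian A]
  (P : ObjectProperty A) [P.IsSerreClass]
  {Q : Type u'} [Category.{v'} Q] [Abelian Q]
  (L : A ⥤ Q) [L.IsLocalization P.isoModSerre] [L.Additive]

include P in
lemma hasLeftFrac_serre : HasLeftFrac L := by
  intro X Y' φ
  obtain ⟨z, hz⟩ := Localization.exists_leftFraction L P.isoModSerre φ
  refine ⟨z.Y', z.s, z.f, Localization.inverts L P.isoModSerre _ z.hs, ?_⟩
  rw [hz, MorphismProperty.LeftFraction.map_comp_map_s]

include P in
lemma hasRightFrac_serre : HasRightFrac L := by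
  intro X' Y φ
  obtain ⟨z, hz⟩ := Localization.exists_rightFraction L P.isoModSerre φ
  refine ⟨z.X', z.s, z.f, Localization.inverts L P.isoModSerre _ z.hs, ?_⟩
  rw [hz, MorphismProperty.RightFraction.map_s_comp_map]

include P in
lemma killsRight_serre : KillsRight L := by
  intro X Y f hf
  rw [ObjectProperty.SerreClassLocalization.map_eq_zero_iff L P] at hf
  obtain ⟨Y', s, hs, h⟩ := (ObjectProperty.exists_comp_isoModSerre_eq_zero_iff P f).2 hf
  exact ⟨Y', s, Localization.inverts L P.isoModSerre _ hs, h⟩

include P in
lemma killsLeft_serre : KillsLeft L := by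
  intro X Y f hf
  rw [ObjectProperty.SerreClassLocalization.map_eq_zero_iff L P] at hf
  obtain ⟨X', s, hs, h⟩ := (ObjectProperty.exists_isoModSerre_comp_eq_zero_iff P f).2 hf
  exact ⟨X', s, Localization.inverts L P.isoModSerre _ hs, h⟩

include P in
/-- every complex of the quotient lifts. -/
theorem exists_lift_complex_serre (M : CochainComplex Q ℤ) :
    ∃ X : CochainComplex A ℤ,
      Nonempty ((L.mapHomologicalComplex (ComplexShape.up ℤ)).obj X ≅ M) := by
  haveI : L.EssSurj := Localization.essSurj L P.isoModSerre
  exact exists_lift_complex L (hasLeftFrac_serre P L) (killsRight_serre P L)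
    (hasRightFrac_serre P L) (killsLeft_serre P L) M

variable [HasDerivedCategory.{w} A] [HasDerivedCategory.{w'} Q]
  [PreservesFiniteLimits L] [PreservesFiniteColimits L]

include P in
/-- `D(A) ⥤ D(A/P)` is essentially surjective. -/
theorem essSurj_mapDerivedCategory : L.mapDerivedCategory.EssSurj where
  mem_essImage K := by
    obtain ⟨X, ⟨e⟩⟩ := exists_lift_complex_serre P L (DerivedCategory.Q.objPreimage K)
    exact ⟨DerivedCategory.Q.obj X,
      ⟨L.mapDerivedCategoryFactors.app X ≪≫ DerivedCategory.Q.mapIso e ≪≫
        DerivedCategory.Q.objObjPreimageIso K⟩⟩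

end Groth.Agent.Lib.Helper17.SerreEss
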