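import Mathlib

set_option backward.isDefEq.respectTransparency false
set_option autoImplicit false

open CategoryTheory CategoryTheory.Limits

namespace Groth.Agent.Helper17.SerreFF

universe v u v' u' v'' u''

variable {A A' : Type u} [Category.{v} A] [Abelian A] [Category.{v} A'] [Abelian A']
    (i : A' ⥤ A) [PreservesFiniteLimits i] [PreservesFiniteColimits i]
    (J : ObjectProperty A) [J.IsSerreClass] [(J.inverseImage i).IsSerreClass]

include i in
lemma pzm : i.PreservesZeroMorphisms := by
  have : i.Additive := Functor.additive_of_preserves_binary_products i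
  infer_instance

lemma isoModSerre_map_iff {M N : A'} (m : M ⟶ N) :
    (J.inverseImage i).isoModSerre m ↔ J.isoModSerre (i.map m) := by
  have := pzm i
  rw [ObjectProperty.isoModSerre_iff, ObjectProperty.isoModSerre_iff,
    ObjectProperty.monoModSerre_iff, ObjectProperty.monoModSerre_iff,
    ObjectProperty.epiModSerre_iff, ObjectProperty.epiModSerre_iff]
  rw [ObjectProperty.prop_inverseImage_iff, ObjectProperty.prop_inverseImage_iff,
    J.prop_iff_of_iso (PreservesKernel.iso i m), J.prop_iff_of_iso (PreservesCokernel.iso i m)]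

lemma image_iff {M N : A'} (m : M ⟶ N) :
    (J.inverseImage i) (Abelian.image m) ↔ J (Abelian.image (i.map m)) := by
  have := pzm i
  rw [ObjectProperty.prop_inverseImage_iff]
  -- image m = kernel (cokernel.π m)
  let e₁ : i.obj (Abelian.image m) ≅ kernel (i.map (cokernel.π m)) :=
    PreservesKernel.iso i (cokernel.π m)
  let e₂ : kernel (i.map (cokernel.π m)) ≅ kernel (cokernel.π (i.map m)) :=
    kernel.mapIso _ _ (Iso.refl _) (PreservesCokernel.iso i m) (by simp)
  exact J.prop_iff_of_iso (e₁ ≪≫ e₂)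

variable [i.Full] [i.Faithful]

lemma exists_of_mono
    (hquot : ∀ (M : A') (N : A) (p : i.obj M ⟶ N), Epi p → J N → i.essImage N)
    {M : A'} {S : A} (j : S ⟶ i.obj M) [Mono j] (hj : J (cokernel j)) :
    ∃ (M'' : A') (m : M'' ⟶ M) (α : i.obj M'' ≅ S), α.hom ≫ j = i.map m := by
  have := pzm i
  obtain ⟨C, ⟨β⟩⟩ := hquot M (cokernel j) (cokernel.π j) inferInstance hj
  let c : M ⟶ C := i.preimage (cokernel.π j ≫ β.inv)
  have hc : i.map c = cokernel.π j ≫ β.inv := i.map_preimage _
  have h1 : i.map (kernel.ι c) ≫ cokernel.π j = 0 := by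
    rw [← cancel_mono β.inv, Category.assoc, ← hc, ← i.map_comp, kernel.condition,
      i.map_zero, zero_comp]
  have h2 : j ≫ i.map c = 0 := by rw [hc, cokernel.condition_assoc, zero_comp]
  refine ⟨kernel c, kernel.ι c,
    ⟨Abelian.monoLift j (i.map (kernel.ι c)) h1,
      kernel.lift (i.map c) j h2 ≫ (PreservesKernel.iso i c).inv, ?_, ?_⟩, ?_⟩
  · rw [← cancel_mono (i.map (kernel.ι c))]
    simp [Abelian.monoLift_comp]
  · rw [← cancel_mono j]
    simp [Abelian.monoLift_comp]
  · exact Abelian.monoLift_comp _ _ _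

lemma exists_of_epi
    (hsub : ∀ (M : A') (N : A) (f : N ⟶ i.obj M), Mono f → J N → i.essImage N)
    {N : A'} {T : A} (t : i.obj N ⟶ T) [Epi t] (ht : J (kernel t)) :
    ∃ (N'' : A') (n : N ⟶ N'') (γ : T ≅ i.obj N''), t ≫ γ.hom = i.map n := by
  have := pzm i
  obtain ⟨K, ⟨β⟩⟩ := hsub N (kernel t) (kernel.ι t) inferInstance ht
  let k : K ⟶ N := i.preimage (β.hom ≫ kernel.ι t)
  have hk : i.map k = β.hom ≫ kernel.ι t := i.map_preimage _
  have h1 : kernel.ι t ≫ i.map (cokernel.π k) = 0 := by
    rw [← cancel_epi β.hom, ← Category.assoc, ← hk, ← i.map_comp, cokernel.condition,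
      i.map_zero, comp_zero]
  have h2 : i.map k ≫ t = 0 := by rw [hk, Category.assoc, kernel.condition, comp_zero]
  refine ⟨cokernel k, cokernel.π k,
    ⟨Abelian.epiDesc t (i.map (cokernel.π k)) h1,
      (PreservesCokernel.iso i k).hom ≫ cokernel.desc (i.map k) t h2, ?_, ?_⟩, ?_⟩
  · rw [← cancel_epi t]
    simp [Abelian.comp_epiDesc_assoc]
  · rw [← cancel_epi (i.map (cokernel.π k))]
    simp [Abelian.comp_epiDesc]
  · exact Abelian.comp_epiDesc _ _ _

end Groth.Agent.Helper17.SerreFF
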