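import Mathlib
import Groth.Agent.Lib.Helper17SerreFF

set_option backward.isDefEq.respectTransparency false
set_option autoImplicit false

open CategoryTheory CategoryTheory.Limits

namespace Groth.Agent.Helper17.SerreFF

universe v u v' u' v'' u''

variable {A A' : Type u} [Category.{v} A] [Abelian A] [Category.{v} A'] [Abelian A']
    (i : A' ⥤ A) [i.Full] [i.Faithful] [PreservesFiniteLimits i] [PreservesFiniteColimits i]
    (J : ObjectProperty A) [J.IsSerreClass] [(J.inverseImage i).IsSerreClass]
    {Q : Type u'} [Category.{v'} Q] (L : A ⥤ Q) [L.IsLocalization J.isoModSerre]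
    {Q' : Type u''} [Category.{v''} Q'] (L' : A' ⥤ Q') [L'.IsLocalization (J.inverseImage i).isoModSerre]
    (Φ : Q' ⥤ Q) (e : L' ⋙ Φ ≅ i ⋙ L)

include J e in
lemma faithful : Φ.Faithful := by
  have := pzm i
  have : i.Additive := Functor.additive_of_preserves_binary_products i
  refine Functor.faithful_of_comp_of_hasLeftCalculusOfFractions L' (J.inverseImage i).isoModSerre Φ
    (fun X₁ X₂ f g hfg ↦ ?_)
  have h1 : L.map (i.map f) = L.map (i.map g) := by
    have hf := e.hom.naturality f
    have hg := e.hom.naturality g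
    dsimp at hf hg
    rw [← cancel_epi (e.hom.app X₁), ← hf, ← hg, hfg]
  obtain ⟨Z, t, ht, fac⟩ := (MorphismProperty.map_eq_iff_postcomp L J.isoModSerre _ _).1 h1
  have h2 : J (Abelian.image (i.map (f - g))) :=
    (ObjectProperty.exists_comp_isoModSerre_eq_zero_iff J _).1
      ⟨Z, t, ht, by rw [i.map_sub, Preadditive.sub_comp, fac, sub_self]⟩
  replace h2 := (image_iff i J (f - g)).2 h2
  obtain ⟨Z', n, hn, fac'⟩ :=
    (ObjectProperty.exists_comp_isoModSerre_eq_zero_iff (J.inverseImage i) _).2 h2
  exact (MorphismProperty.map_eq_iff_postcomp L' (J.inverseImage i).isoModSerre _ _).2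
    ⟨Z', n, hn, by rwa [Preadditive.sub_comp, sub_eq_zero] at fac'⟩

include J e in
lemma full
    (hsub : ∀ (M : A') (N : A) (f : N ⟶ i.obj M), Mono f → J N → i.essImage N)
    (hquot : ∀ (M : A') (N : A) (p : i.obj M ⟶ N), Epi p → J N → i.essImage N) :
    Φ.Full := by
  have := pzm i
  have : L'.EssSurj := Localization.essSurj L' (J.inverseImage i).isoModSerre
  refine Φ.full_of_comp_essSurj L' (fun M N φ ↦ ?_)
  obtain ⟨φ', hφ'⟩ : ∃ φ', φ = e.hom.app M ≫ φ' ≫ e.inv.app N :=
    ⟨e.inv.app M ≫ φ ≫ e.hom.app N, by simp⟩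
  dsimp at φ'
  obtain ⟨ρ, hρ⟩ := Localization.exists_rightFraction L J.isoModSerre φ'
  -- factor ρ.s = p ≫ j
  let p := Abelian.factorThruImage ρ.s
  let j := Abelian.image.ι ρ.s
  have hp : J.isoModSerre p := ρ.hs.1.isoModSerre_factorThruImage
  have hj : J.isoModSerre j := ρ.hs.2.isoModSerre_image_ι
  have hpj : p ≫ j = ρ.s := Abelian.image.fac ρ.s
  -- pushout of p along ρ.f
  let t : i.obj N ⟶ pushout p ρ.f := pushout.inr p ρ.f
  let f' : Abelian.image ρ.s ⟶ pushout p ρ.f := pushout.inl p ρ.f
  have ht : J.isoModSerre t := MorphismProperty.pushout_inr _ _ hp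
  have sq : p ≫ f' = ρ.f ≫ t := pushout.condition
  have : Epi t := by dsimp [t]; infer_instance
  obtain ⟨M'', m, α, hα⟩ := exists_of_mono i J hquot j
    ((J.isoModSerre_iff_of_mono j).1 hj)
  obtain ⟨N'', n, γ, hγ⟩ := exists_of_epi i J hsub t
    ((J.isoModSerre_iff_of_epi t).1 ht)
  have hm : (J.inverseImage i).isoModSerre m := by
    rw [isoModSerre_map_iff, ← hα]
    exact MorphismProperty.comp_mem _ _ _ (J.isoModSerre_of_isIso _) hj
  have hn : (J.inverseImage i).isoModSerre n := by
    rw [isoModSerre_map_iff, ← hγ]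
    exact MorphismProperty.comp_mem _ _ _ ht (J.isoModSerre_of_isIso _)
  let g : M'' ⟶ N'' := i.preimage (α.hom ≫ f' ≫ γ.hom)
  have hg : i.map g = α.hom ≫ f' ≫ γ.hom := i.map_preimage _
  have := Localization.inverts L' _ _ hm
  have := Localization.inverts L' _ _ hn
  have := Localization.inverts L _ _ hp
  have := Localization.inverts L _ _ hj
  have := Localization.inverts L _ _ ht
  have := Localization.inverts L _ _ ρ.hs
  refine ⟨inv (L'.map m) ≫ L'.map g ≫ inv (L'.map n), ?_⟩
  have key : L.map (i.map m) ≫ φ' ≫ L.map (i.map n) = L.map (i.map g) := by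
    rw [← hα, ← hγ, hg, L.map_comp, L.map_comp, L.map_comp, L.map_comp]
    simp only [Category.assoc]
    congr 1
    simp only [← Category.assoc]
    congr 1
    simp only [Category.assoc]
    rw [← cancel_epi (L.map p), ← L.map_comp_assoc, hpj, hρ,
      MorphismProperty.RightFraction.map_s_comp_map_assoc, ← L.map_comp, ← L.map_comp, sq]
  have em := e.hom.naturality m
  have en := e.hom.naturality n
  have eg := e.hom.naturality g
  dsimp at em en eg
  rw [Functor.map_comp, Functor.map_comp, Functor.map_inv, Functor.map_inv, IsIso.inv_comp_eq,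
    hφ']
  rw [← cancel_mono (Φ.map (L'.map n))]
  simp only [Category.assoc, IsIso.inv_hom_id, Category.comp_id]
  rw [← cancel_mono (e.hom.app N'')]
  simp only [Category.assoc]
  rw [eg, en, reassoc_of% em, ← key]
  simp
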