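import Groth.Agent.Lib.Helper17SerreLoc1
import Mathlib.Algebra.Homology.DerivedCategory.ExactFunctor
import Mathlib.Algebra.Homology.DerivedCategory.HomologySequence
import Mathlib.Algebra.Homology.DerivedCategory.Fractions
import Mathlib.CategoryTheory.Localization.Composition
import Mathlib.CategoryTheory.Localization.Adjunction
import Mathlib.CategoryTheory.Adjunction.Additive

/-!
# An exact functor with a fully faithful left adjoint induces a localization of derived categories
(helper17)

Let `F : A ⥤ Q` be an exact functor between abelian categories with a left adjoint `G` whose unit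
is an isomorphism.  Then `F.mapDerivedCategory : D(A) ⥤ D(Q)` is a localization functor with respect
to the class of morphisms it inverts.
-/

set_option autoImplicit false

universe w w' v v' u u'

open CategoryTheory CategoryTheory.Limits

namespace Groth.Agent.Lib.Helper17.SerreLoc

variable {A : Type u} [Category.{v} A] [Abelian A] [HasDerivedCategory.{w} A]
  {Q : Type u'} [Category.{v'} Q] [Abelian Q] [HasDerivedCategory.{w'} Q]
  (F : A ⥤ Q) [F.Additive] [PreservesFiniteLimits F] [PreservesFiniteColimits F]

/-- the morphisms of complexes which become quasi-isomorphisms after applying `F`. -/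
def W₃ : MorphismProperty (CochainComplex A ℤ) :=
  (HomologicalComplex.quasiIso Q (ComplexShape.up ℤ)).inverseImage
    (F.mapHomologicalComplex (ComplexShape.up ℤ))

/-- the morphisms of `D(A)` inverted by `F.mapDerivedCategory`. -/
def W₂ : MorphismProperty (DerivedCategory A) :=
  (MorphismProperty.isomorphisms _).inverseImage F.mapDerivedCategory

lemma W₃_iff {K L : CochainComplex A ℤ} (f : K ⟶ L) :
    W₃ F f ↔ QuasiIso ((F.mapHomologicalComplex (ComplexShape.up ℤ)).map f) := Iff.rfl

lemma W₂_iff {X Y : DerivedCategory A} (f : X ⟶ Y) :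
    W₂ F f ↔ IsIso (F.mapDerivedCategory.map f) := Iff.rfl

lemma W₃_iff_W₂ {K L : CochainComplex A ℤ} (f : K ⟶ L) :
    W₃ F f ↔ W₂ F (DerivedCategory.Q.map f) := by
  rw [W₃_iff, W₂_iff, ← DerivedCategory.isIso_Q_map_iff_quasiIso]
  have h := F.mapDerivedCategoryFactors_hom_naturality f
  constructor
  · intro hf
    have : F.mapDerivedCategory.map (DerivedCategory.Q.map f) =
        F.mapDerivedCategoryFactors.hom.app K ≫
          DerivedCategory.Q.map ((F.mapHomologicalComplex (ComplexShape.up ℤ)).map f) ≫
            F.mapDerivedCategoryFactors.inv.app L := by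
      rw [← cancel_mono (F.mapDerivedCategoryFactors.hom.app L), h]
      simp
    rw [this]
    infer_instance
  · intro hf
    have : DerivedCategory.Q.map ((F.mapHomologicalComplex (ComplexShape.up ℤ)).map f) =
        F.mapDerivedCategoryFactors.inv.app K ≫
          F.mapDerivedCategory.map (DerivedCategory.Q.map f) ≫
            F.mapDerivedCategoryFactors.hom.app L := by
      rw [h, Iso.inv_hom_id_app_assoc]
    rw [this]
    infer_instance

lemma quasiIso_le_W₃ : HomologicalComplex.quasiIso A (ComplexShape.up ℤ) ≤ W₃ F := by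
  intro K L f hf
  rw [W₃_iff]
  haveI : QuasiIso f := hf
  infer_instance

lemma W₂_eq_map : W₂ F = (W₃ F).map DerivedCategory.Q := by
  ext X Y f
  constructor
  · intro hf
    let eX := DerivedCategory.Q.objObjPreimageIso X
    let eY := DerivedCategory.Q.objObjPreimageIso Y
    obtain ⟨L', g, s, hs, hfac⟩ := DerivedCategory.left_fac (eX.hom ≫ f ≫ eY.inv)
    haveI := hs
    have hfac' : eX.hom ≫ f = DerivedCategory.Q.map g ≫ inv (DerivedCategory.Q.map s) ≫ eY.hom := by
      have := hfac =≫ eY.hom
      simpa only [Category.assoc, Iso.inv_hom_id, Category.comp_id] using this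
    refine ⟨_, _, g, ?_, ⟨Arrow.isoMk eX ((asIso (DerivedCategory.Q.map s)).symm ≪≫ eY) ?_⟩⟩
    · rw [W₃_iff_W₂, W₂_iff]
      have hg : DerivedCategory.Q.map g = eX.hom ≫ f ≫ eY.inv ≫ DerivedCategory.Q.map s := by
        have := hfac =≫ DerivedCategory.Q.map s
        simp only [Category.assoc, IsIso.inv_hom_id, Category.comp_id] at this
        exact this.symm
      rw [hg]
      simp only [Functor.map_comp]
      haveI : IsIso (F.mapDerivedCategory.map f) := hf
      infer_instance
    · dsimp
      exact hfac'
  · rintro ⟨K, L, f', hf', ⟨e⟩⟩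
    rw [W₃_iff_W₂, W₂_iff] at hf'
    rw [W₂_iff]
    haveI := hf'
    have := ((MorphismProperty.isomorphisms _).arrow_mk_iso_iff
      (F.mapDerivedCategory.mapArrow.mapIso e)).1 (by
        change IsIso _
        dsimp
        infer_instance)
    exact this

variable (G : Q ⥤ A) (adj : G ⊣ F) [IsIso adj.unit]

include adj in
lemma isLocalization_comp_Q :
    (F.mapHomologicalComplex (ComplexShape.up ℤ) ⋙ DerivedCategory.Q).IsLocalization (W₃ F) := by
  haveI : G.Additive := adj.left_adjoint_additive
  let adjCh := adjHC adj (ComplexShape.up ℤ)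
  haveI : IsIso adjCh.unit := isIso_adjHC_unit adj _
  haveI : (G.mapHomologicalComplex (ComplexShape.up ℤ)).Full :=
    adjCh.fullyFaithfulLOfIsIsoUnit.full
  haveI : (G.mapHomologicalComplex (ComplexShape.up ℤ)).Faithful :=
    adjCh.fullyFaithfulLOfIsIsoUnit.faithful
  haveI : (F.mapHomologicalComplex (ComplexShape.up ℤ)).IsLocalization
      ((MorphismProperty.isomorphisms _).inverseImage
        (F.mapHomologicalComplex (ComplexShape.up ℤ))) :=
    adjCh.isLocalization'
  refine Functor.IsLocalization.comp (F.mapHomologicalComplex (ComplexShape.up ℤ))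
    DerivedCategory.Q
    ((MorphismProperty.isomorphisms _).inverseImage (F.mapHomologicalComplex (ComplexShape.up ℤ)))
    (HomologicalComplex.quasiIso Q (ComplexShape.up ℤ)) (W₃ F) ?_ ?_ ?_
  · intro K L f hf
    exact Localization.inverts DerivedCategory.Q
      (HomologicalComplex.quasiIso Q (ComplexShape.up ℤ)) _ hf
  · intro K L f hf
    rw [W₃_iff]
    haveI : IsIso ((F.mapHomologicalComplex (ComplexShape.up ℤ)).map f) := hf
    infer_instance
  · intro K L g hg
    let e : Arrow.mk ((F.mapHomologicalComplex (ComplexShape.up ℤ)).map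
        ((G.mapHomologicalComplex (ComplexShape.up ℤ)).map g)) ≅ Arrow.mk g :=
      (Arrow.isoMk (asIso (adjCh.unit.app K)) (asIso (adjCh.unit.app L))
        (adjCh.unit.naturality g).symm).symm
    refine ⟨_, _, (G.mapHomologicalComplex _).map g, ?_, ⟨e⟩⟩
    exact ((HomologicalComplex.quasiIso Q (ComplexShape.up ℤ)).arrow_mk_iso_iff e).2 hg

include adj in
/-- `F.mapDerivedCategory` is a localization functor for the morphisms it inverts. -/
theorem isLocalization_mapDerivedCategory :
    F.mapDerivedCategory.IsLocalization (W₂ F) := by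
  haveI : (F.mapHomologicalComplex (ComplexShape.up ℤ) ⋙ DerivedCategory.Q).IsLocalization
      (W₃ F) := isLocalization_comp_Q F G adj
  haveI : (DerivedCategory.Q ⋙ F.mapDerivedCategory).IsLocalization (W₃ F) :=
    Functor.IsLocalization.of_iso (W₃ F) F.mapDerivedCategoryFactors.symm
  exact Functor.IsLocalization.of_comp DerivedCategory.Q F.mapDerivedCategory
    (HomologicalComplex.quasiIso A (ComplexShape.up ℤ)) (W₂ F) (W₃ F)
    (quasiIso_le_W₃ F) (W₂_eq_map F)

end Groth.Agent.Lib.Helper17.SerreLoc
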