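import Groth.Agent.Lib.Helper17Sib9

/-!
# Uniqueness of siblings of a fully faithful functor (helper17)
-/

set_option autoImplicit false

universe w v u v' u'

open CategoryTheory CategoryTheory.Limits CategoryTheory.Pretriangulated ZeroObject

namespace Groth.Agent.Lib.Helper17.Sib

variable {A : Type u} [Category.{v} A] [Abelian A] [HasDerivedCategory.{w} A]
  {D : Type u'} [Category.{v'} D] [Preadditive D] [HasZeroObject D] [HasShift D ℤ]
  [∀ n : ℤ, (shiftFunctor D n).Additive] [Pretriangulated D] [IsTriangulated D]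
  {F F' : Db A ⥤ D} [F.CommShift ℤ] [F.IsTriangulated] [F'.CommShift ℤ] [F'.IsTriangulated]
  {t0 : DEquiv.singleB A ⋙ F ≅ DEquiv.singleB A ⋙ F'}

section Base

/-- the system on an empty range. -/
noncomputable def Sys.empty (a b : ℤ) (h : b < a) : Sys F F' t0 a b where
  t _ _ _ := 0
  iso X h₁ h₂ := by
    have hX : IsZero X := (tb A).isZero X b a h
    have h1 : IsZero (F.obj X) := F.map_isZero hX
    have h2 : IsZero (F'.obj X) := F'.map_isZero hX
    exact ⟨0, h1.eq_of_src _ _, h2.eq_of_src _ _⟩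
  nat X X' h₁ h₂ h₁' h₂' f := by simp
  norm M n h₁ h₂ ha hb := by omega

/-- the object of which an object of amplitude `[b, b]` is a stalk. -/
noncomputable def stM (X : Db A) (b : ℤ) (h₁ : (tb A).IsGE X b) (h₂ : (tb A).IsLE X b) : A :=
  (exists_iso_stalk X b h₁ h₂).choose

/-- the isomorphism with a stalk object. -/
noncomputable def stIso (X : Db A) (b : ℤ) (h₁ : (tb A).IsGE X b) (h₂ : (tb A).IsLE X b) :
    X ≅ stalk (stM X b h₁ h₂) b :=
  (exists_iso_stalk X b h₁ h₂).choose_spec.some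

variable (F F' t0) in
/-- the system on stalk objects. -/
noncomputable def Sys.stalkSys (b : ℤ) : Sys F F' t0 b b where
  t X h₁ h₂ := F.map (stIso X b h₁ h₂).hom ≫ tst F F' t0 _ b ≫ F'.map (stIso X b h₁ h₂).inv
  iso X h₁ h₂ := inferInstance
  nat X X' h₁ h₂ h₁' h₂' f := by
    obtain ⟨g, hg⟩ := stalkMap_surjective b
      ((stIso X b h₁ h₂).inv ≫ f ≫ (stIso X' b h₁' h₂').hom)
    have hf : f = (stIso X b h₁ h₂).hom ≫ stalkMap g b ≫ (stIso X' b h₁' h₂').inv := by
      rw [hg]; simp
    have h := tst_naturality F F' t0 g b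
    rw [hf]
    simp only [Functor.map_comp, Category.assoc]
    rw [← F.map_comp_assoc (stIso X' b h₁' h₂').inv, Iso.inv_hom_id, F.map_id, Category.id_comp,
      reassoc_of% h, ← F'.map_comp_assoc (stIso X b h₁ h₂).inv, Iso.inv_hom_id, F'.map_id,
      Category.id_comp]
  norm M n h₁ h₂ ha hb := by
    obtain rfl : n = b := by omega
    obtain ⟨g, hg⟩ := stalkMap_surjective n (stIso (stalk M n) n h₁ h₂).hom
    have h := tst_naturality F F' t0 g n
    rw [← hg, reassoc_of% h, hg, ← F'.map_comp, Iso.hom_inv_id, F'.map_id, Category.comp_id]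

end Base

section Exists

variable (hneg : ∀ X : A, ∃ (N : A) (p : N ⟶ X), Epi p ∧ ∀ f : X ⟶ N, f = 0) [F.Full]

include hneg in
variable (F F' t0) in
theorem exists_sys (a : ℤ) : ∀ (k : ℕ) (b : ℤ), b = a + k → Nonempty (Sys F F' t0 a b) := by
  intro k
  induction k with
  | zero =>
    intro b hb
    obtain rfl : b = a := by simpa using hb
    exact ⟨Sys.stalkSys F F' t0 b⟩
  | succ k ih =>
    intro b hb
    obtain ⟨S₀⟩ := ih (a + k) rfl
    exact ⟨Sys.step hneg S₀ (by rw [hb]; push_cast; omega) (by omega)⟩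

include hneg in
theorem Sys.t_eq : ∀ (k : ℕ) (a b : ℤ), b < a + k → ∀ (S S' : Sys F F' t0 a b) (X : Db A)
    (h₁ : (tb A).IsGE X a) (h₂ : (tb A).IsLE X b), S.t X h₁ h₂ = S'.t X h₁ h₂ := by
  intro k
  induction k with
  | zero =>
    intro a b hab S S' X h₁ h₂
    have hX : IsZero X := (tb A).isZero X b a (by simpa using hab)
    exact (F.map_isZero hX).eq_of_src _ _
  | succ k ih =>
    intro a b hab S S' X h₁ h₂
    by_cases h : b < a
    · have hX : IsZero X := (tb A).isZero X b a h
      exact (F.map_isZero hX).eq_of_src _ _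
    by_cases h' : b = a
    · subst h'
      have e := stIso X b h₁ h₂
      have n₁ := S.nat _ _ h₁ h₂ inferInstance inferInstance (stIso X b h₁ h₂).hom
      have n₂ := S'.nat _ _ h₁ h₂ inferInstance inferInstance (stIso X b h₁ h₂).hom
      rw [S.norm _ b _ _ le_rfl le_rfl] at n₁
      rw [S'.norm _ b _ _ le_rfl le_rfl] at n₂
      rw [← cancel_mono (F'.map (stIso X b h₁ h₂).hom), ← n₁, ← n₂]
    · have hab' : a < b := by omega
      obtain ⟨N, x, hx, -, -⟩ := exists_good hneg X 0 X 0 b h₂ inferInstance h₂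
      obtain ⟨Y, y, δ, hT⟩ := distinguished_cocone_triangle x
      have hY₁ : (tb A).IsGE Y a := cone_isGE hT a hab' h₁
      have hY₂ : (tb A).IsLE Y (b - 1) := hx.cone_isLE Y y δ hT
      have hY₂' : (tb A).IsLE Y b := (tb A).isLE_of_le Y (b - 1) b (by omega)
      have e := ih a (b - 1) (by push_cast at hab; omega)
        (S.restrict le_rfl (by omega)) (S'.restrict le_rfl (by omega)) Y hY₁ hY₂
      have e' : S.t Y hY₁ hY₂' = S'.t Y hY₁ hY₂' := e
      have n₁ := S.nat X Y h₁ h₂ hY₁ hY₂' y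
      have n₂ := S'.nat X Y h₁ h₂ hY₁ hY₂' y
      rw [← sub_eq_zero]
      apply eq_zero_of_comp_eq_zero t0 hT hx.hom_zero
      rw [Preadditive.sub_comp, ← n₁, ← n₂, e', sub_self]

end Exists

end Groth.Agent.Lib.Helper17.Sib
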