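import Groth.Agent.Lib.Helper17Sib10

/-!
# Uniqueness of siblings of a fully faithful functor: the natural isomorphism (helper17)
-/

set_option autoImplicit false

universe w v u v' u'

open CategoryTheory CategoryTheory.Limits CategoryTheory.Pretriangulated ZeroObject

namespace Groth.Agent.Lib.Helper17.Sib

variable {A : Type u} [Category.{v} A] [Abelian A] [HasDerivedCategory.{w} A]
  {D : Type u'} [Category.{v'} D] [Preadditive D] [HasZeroObject D] [HasShift D ℤ]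
  [∀ n : ℤ, (shiftFunctor D n).Additive] [Pretriangulated D] [IsTriangulated D]

lemma exists_bound (X : Db A) : ∃ n : ℕ, (tb A).IsGE X (-(n : ℤ)) ∧ (tb A).IsLE X n := by
  obtain ⟨⟨a, ha⟩, ⟨b, hb⟩⟩ := X.property
  refine ⟨max (-a).toNat b.toNat, ?_, ?_⟩
  · rw [tb_isGE_iff]
    haveI : DerivedCategory.TStructure.t.IsGE ((ιb A).obj X) a := ha
    exact DerivedCategory.TStructure.t.isGE_of_ge _ _ a (by omega)
  · rw [tb_isLE_iff]
    haveI : DerivedCategory.TStructure.t.IsLE ((ιb A).obj X) b := hb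
    exact DerivedCategory.TStructure.t.isLE_of_le _ b _ (by omega)

theorem main (hneg : ∀ X : A, ∃ (N : A) (p : N ⟶ X), Epi p ∧ ∀ f : X ⟶ N, f = 0)
    (F F' : Db A ⥤ D) [F.CommShift ℤ] [F.IsTriangulated] [F'.CommShift ℤ] [F'.IsTriangulated]
    (h1 : Nonempty (DEquiv.singleB A ⋙ F ≅ DEquiv.singleB A ⋙ F')) [F.Full] :
    Nonempty (F ≅ F') := by
  obtain ⟨t0⟩ := h1
  have hS : ∀ n : ℕ, Nonempty (Sys F F' t0 (-(n : ℤ)) n) := fun n =>
    exists_sys F F' t0 hneg (-(n : ℤ)) (2 * n) n (by push_cast; omega)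
  let S : ∀ n : ℕ, Sys F F' t0 (-(n : ℤ)) n := fun n => (hS n).some
  let nX : Db A → ℕ := fun X => (exists_bound X).choose
  have hnX₁ : ∀ X : Db A, (tb A).IsGE X (-(nX X : ℤ)) := fun X => (exists_bound X).choose_spec.1
  have hnX₂ : ∀ X : Db A, (tb A).IsLE X (nX X) := fun X => (exists_bound X).choose_spec.2
  -- comparison with larger systems
  have key : ∀ (X : Db A) (m : ℕ) (hm : nX X ≤ m) (h₁ : (tb A).IsGE X (-(m : ℤ)))
      (h₂ : (tb A).IsLE X m), (S (nX X)).t X (hnX₁ X) (hnX₂ X) = (S m).t X h₁ h₂ := by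
    intro X m hm h₁ h₂
    exact Sys.t_eq hneg (2 * nX X + 1) _ _ (by push_cast; omega) (S (nX X))
      ((S m).restrict (by omega) (by omega)) X (hnX₁ X) (hnX₂ X)
  refine ⟨NatIso.ofComponents (fun X => @asIso _ _ _ _ ((S (nX X)).t X (hnX₁ X) (hnX₂ X))
    ((S (nX X)).iso X _ _)) ?_⟩
  intro X Y f
  dsimp only [asIso_hom]
  let m := max (nX X) (nX Y)
  have hX₁ : (tb A).IsGE X (-(m : ℤ)) := by
    haveI := hnX₁ X
    exact (tb A).isGE_of_ge X _ (-(nX X : ℤ)) (by omega)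
  have hX₂ : (tb A).IsLE X m := by
    haveI := hnX₂ X
    exact (tb A).isLE_of_le X (nX X) _ (by omega)
  have hY₁ : (tb A).IsGE Y (-(m : ℤ)) := by
    haveI := hnX₁ Y
    exact (tb A).isGE_of_ge Y _ (-(nX Y : ℤ)) (by omega)
  have hY₂ : (tb A).IsLE Y m := by
    haveI := hnX₂ Y
    exact (tb A).isLE_of_le Y (nX Y) _ (by omega)
  rw [key X m (le_max_left _ _) hX₁ hX₂, key Y m (le_max_right _ _) hY₁ hY₂]
  exact (S m).nat X Y hX₁ hX₂ hY₁ hY₂ f

end Groth.Agent.Lib.Helper17.Sib
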