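import Groth.Agent.Lib.Helper17Sib1

/-!
# Negative objects mapping onto the top cohomology, in the derived category (helper17)
-/

set_option autoImplicit false

universe w v u

open CategoryTheory CategoryTheory.Limits

namespace Groth.Agent.Lib.Helper17.Sib

variable {A : Type u} [Category.{v} A] [Abelian A] [HasDerivedCategory.{w} A]

open DerivedCategory

/-- the comparison between the homology of a complex and of its image in `D(A)`. -/
noncomputable def hff (K : CochainComplex A ℤ) (b : ℤ) :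
    K.homology b ≅ (DerivedCategory.homologyFunctor A b).obj (Q.obj K) :=
  ((homologyFunctorFactors A b).app K).symm

lemma homologyFunctor_map_Q_map {K L : CochainComplex A ℤ} (φ : K ⟶ L) (b : ℤ) :
    (DerivedCategory.homologyFunctor A b).map (Q.map φ) =
      (hff K b).inv ≫ HomologicalComplex.homologyMap φ b ≫ (hff L b).hom := by
  have h : (DerivedCategory.homologyFunctor A b).map (Q.map φ) ≫ (hff L b).inv =
      (hff K b).inv ≫ HomologicalComplex.homologyMap φ b :=
    homologyFunctorFactors_hom_naturality φ b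
  rw [← Category.assoc, ← h, Category.assoc, Iso.inv_hom_id, Category.comp_id]

/-- the canonical epimorphism from the top term onto the top cohomology. -/
noncomputable def topπ (K : CochainComplex A ℤ) (b : ℤ) [K.IsStrictlyLE b] :
    K.X b ⟶ (DerivedCategory.homologyFunctor A b).obj (Q.obj K) :=
  haveI := K.isIso_iCycles b (b + 1) (by simp)
    ((K.isZero_of_isStrictlyLE b (b + 1)).eq_of_tgt _ _)
  inv (K.iCycles b) ≫ K.homologyπ b ≫ (hff K b).hom

instance (K : CochainComplex A ℤ) (b : ℤ) [K.IsStrictlyLE b] : Epi (topπ K b) := by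
  dsimp only [topπ]
  infer_instance

theorem exists_neg (hneg : ∀ X : A, ∃ (N : A) (p : N ⟶ X), Epi p ∧ ∀ f : X ⟶ N, f = 0)
    (X X' : DerivedCategory A) (f : X ⟶ X') (b : ℤ) [X.IsLE b] [X'.IsLE (b - 1)] (W : A) :
    ∃ (N : A) (g : (DerivedCategory.singleFunctor A b).obj N ⟶ X),
      Epi ((DerivedCategory.homologyFunctor A b).map g) ∧
        (∀ φ : (DerivedCategory.homologyFunctor A b).obj X ⟶ N, φ = 0) ∧
        (∀ φ : W ⟶ N, φ = 0) ∧ g ≫ f = 0 := by
  obtain ⟨K, hK, ⟨e⟩⟩ := X.exists_iso_Q_obj_of_isLE b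
  obtain ⟨K', hK', ⟨e'⟩⟩ := X'.exists_iso_Q_obj_of_isLE (b - 1)
  let ξ : Q.obj ((sg b).obj (K.X b)) ⟶ Q.obj K' := Q.map (topι K b) ≫ e.inv ≫ f ≫ e'.hom
  obtain ⟨L, hL, s, hs, g, hξ⟩ := right_fac_of_isStrictlyLE ξ b
  haveI : QuasiIso s := by rwa [isIso_Q_map_iff_quasiIso] at hs
  have hg : topι L b ≫ g = 0 := by
    apply HomologicalComplex.from_single_hom_ext
    exact (K'.isZero_of_isStrictlyLE (b - 1) b).eq_of_tgt _ _
  let q : L.X b ⟶ K.X b :=
    s.f b ≫ (HomologicalComplex.singleObjXSelf (ComplexShape.up ℤ) b (K.X b)).hom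
  have hq : topι L b ≫ s = (sg b).map q := by
    apply HomologicalComplex.from_single_hom_ext
    simp [q, HomologicalComplex.single_map_f_self]
  haveI : Epi (s.f b) := epi_f_of_quasiIso L b s
  haveI : Epi q := by dsimp only [q]; infer_instance
  obtain ⟨N, p, hp, hN⟩ := hneg (L.X b ⊞ (K.X b ⊞ W))
  let r : N ⟶ K.X b := (p ≫ biprod.fst) ≫ q
  haveI : Epi r := by dsimp only [r]; infer_instance
  have hKN : ∀ u : K.X b ⟶ N, u = 0 := by
    intro u
    have h := hN ((biprod.snd ≫ biprod.fst) ≫ u)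
    have h' : u = (biprod.inl ≫ (biprod.inr : K.X b ⊞ W ⟶ L.X b ⊞ (K.X b ⊞ W))) ≫
        ((biprod.snd ≫ biprod.fst) ≫ u) := by simp
    rw [h', h, comp_zero]
  have hWN : ∀ u : W ⟶ N, u = 0 := by
    intro u
    have h := hN ((biprod.snd ≫ biprod.snd) ≫ u)
    have h' : u = (biprod.inr ≫ (biprod.inr : K.X b ⊞ W ⟶ L.X b ⊞ (K.X b ⊞ W))) ≫
        ((biprod.snd ≫ biprod.snd) ≫ u) := by simp
    rw [h', h, comp_zero]
  let φ₀ : (sg b).obj N ⟶ K := (sg b).map r ≫ topι K b
  let σ : (DerivedCategory.singleFunctor A b).obj N ≅ Q.obj ((sg b).obj N) :=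
    (singleFunctorIsoCompQ A b).app N
  refine ⟨N, σ.hom ≫ Q.map φ₀ ≫ e.inv, ?_, ?_, hWN, ?_⟩
  · -- epi on H^b
    rw [Functor.map_comp, Functor.map_comp]
    haveI : Epi ((DerivedCategory.homologyFunctor A b).map (Q.map φ₀)) := by
      have hφ₀ : Epi (φ₀.f b) := by
        dsimp only [φ₀]
        rw [HomologicalComplex.comp_f, topι_f, HomologicalComplex.single_map_f_self]
        infer_instance
      have := epi_homologyMap_of_epi_f K b φ₀ hφ₀
      rw [homologyFunctor_map_Q_map]
      infer_instance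
    infer_instance
  · intro φ
    have h := hKN ((topπ K b ≫ (DerivedCategory.homologyFunctor A b).map e.inv) ≫ φ)
    haveI : Epi (topπ K b ≫ (DerivedCategory.homologyFunctor A b).map e.inv) := inferInstance
    rw [← cancel_epi (topπ K b ≫ (DerivedCategory.homologyFunctor A b).map e.inv), h, comp_zero]
  · have h1 : Q.map φ₀ ≫ e.inv ≫ f = (Q.map ((sg b).map r) ≫ ξ) ≫ e'.inv := by
      dsimp only [φ₀, ξ]
      simp
    have h2 : (sg b).map r = (sg b).map (p ≫ biprod.fst) ≫ topι L b ≫ s := by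
      rw [hq, ← Functor.map_comp]
    have h3 : Q.map ((sg b).map r) ≫ ξ = 0 := by
      have h4 : Q.map (topι L b ≫ s) ≫ inv (Q.map s) ≫ Q.map g = 0 := by
        rw [Functor.map_comp, Category.assoc, IsIso.hom_inv_id_assoc, ← Functor.map_comp, hg,
          Functor.map_zero]
      rw [hξ, h2, Functor.map_comp, Category.assoc, h4, comp_zero]
    rw [Category.assoc, Category.assoc, h1, h3, zero_comp, comp_zero]

end Groth.Agent.Lib.Helper17.Sib
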