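import Groth.Agent.Lib.Helper17Sib2
import Mathlib.Algebra.Homology.DerivedCategory.FullyFaithful
import Mathlib.CategoryTheory.Triangulated.TStructure.TruncLTGE

/-!
# t-structure facts in `D(A)` for the sibling argument (helper17)
-/

set_option autoImplicit false

universe w v u

open CategoryTheory CategoryTheory.Limits CategoryTheory.Pretriangulated

namespace Groth.Agent.Lib.Helper17.Sib

variable {A : Type u} [Category.{v} A] [Abelian A] [HasDerivedCategory.{w} A]

open DerivedCategory

/-- If the first morphism of a distinguished triangle between objects `≤ b` is an epimorphism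
on `H^b`, then the third object is `≤ b - 1`. -/
lemma isLE_obj₃_of_epi (T : Triangle (DerivedCategory A)) (hT : T ∈ distTriang _) (b : ℤ)
    [T.obj₁.IsLE b] [T.obj₂.IsLE b]
    (h : Epi ((DerivedCategory.homologyFunctor A b).map T.mor₁)) : T.obj₃.IsLE (b - 1) := by
  rw [isLE_iff]
  intro i hi
  have h1 : IsZero ((DerivedCategory.homologyFunctor A (i + 1)).obj T.obj₁) :=
    T.obj₁.isZero_of_isLE b (i + 1) (by omega)
  have hδ : HomologySequence.δ T i (i + 1) rfl = 0 := h1.eq_of_tgt _ _
  have hepi : Epi ((DerivedCategory.homologyFunctor A i).map T.mor₂) :=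
    (HomologySequence.epi_homologyMap_mor₂_iff T hT i (i + 1) rfl).2 hδ
  have hz : (DerivedCategory.homologyFunctor A i).map T.mor₂ = 0 := by
    by_cases hib : i = b
    · subst hib
      exact (HomologySequence.epi_homologyMap_mor₁_iff T hT i).1 h
    · exact (T.obj₂.isZero_of_isLE b i (by omega)).eq_of_src _ _
  rw [IsZero.iff_id_eq_zero, ← cancel_epi ((DerivedCategory.homologyFunctor A i).map T.mor₂),
    Category.comp_id, comp_zero, hz]

/-- a morphism from an object `≤ b` to a single complex in degree `b` vanishes as soon as all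
morphisms from `H^b` to the object vanish. -/
lemma hom_to_single_eq_zero (X : DerivedCategory A) (b : ℤ) [X.IsLE b] (N : A)
    (h : ∀ φ : (DerivedCategory.homologyFunctor A b).obj X ⟶ N, φ = 0)
    (c : X ⟶ (DerivedCategory.singleFunctor A b).obj N) : c = 0 := by
  let t := (DerivedCategory.TStructure.t : Triangulated.TStructure (DerivedCategory A))
  let τ := (t.truncGE b).obj X
  let π : X ⟶ τ := (t.truncGEπ b).app X
  have hc : π ≫ t.descTruncGE c b = c := t.π_descTruncGE c b
  haveI : τ.IsGE b := by dsimp only [τ]; infer_instance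
  haveI : τ.IsLE b := by dsimp only [τ]; infer_instance
  obtain ⟨M, ⟨e⟩⟩ := exists_iso_singleFunctor_obj_of_isGE_of_isLE τ b
  obtain ⟨h₀, hh₀⟩ := (DerivedCategory.singleFunctor A b).map_surjective
    (e.inv ≫ t.descTruncGE c b)
  -- `H^b(π)` is an epimorphism
  have hepi : Epi ((DerivedCategory.homologyFunctor A b).map π) := by
    have hT := t.triangleLTGE_distinguished b X
    refine (HomologySequence.epi_homologyMap_mor₂_iff _ hT b (b + 1) rfl).2 ?_
    have : IsZero ((DerivedCategory.homologyFunctor A (b + 1)).obj
        ((t.triangleLTGE b).obj X).obj₁) :=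
      DerivedCategory.isZero_of_isLE _ (b - 1) (b + 1) (by omega)
    exact this.eq_of_tgt _ _
  let ρ : (DerivedCategory.homologyFunctor A b).obj X ⟶ M :=
    (DerivedCategory.homologyFunctor A b).map π ≫
      (DerivedCategory.homologyFunctor A b).map e.hom ≫
        (singleFunctorCompHomologyFunctorIso A b).hom.app M
  haveI : Epi ρ := by
    dsimp only [ρ]
    infer_instance
  have hρ : ρ ≫ h₀ = 0 := h _
  have hh : h₀ = 0 := by
    rw [← cancel_epi ρ, hρ, comp_zero]
  rw [hh, Functor.map_zero] at hh₀
  have : t.descTruncGE c b = 0 := by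
    rw [← cancel_epi e.inv, ← hh₀, comp_zero]
  rw [← hc, this, comp_zero]

end Groth.Agent.Lib.Helper17.Sib
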