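import Groth.Agent.Lib.Helper17Sib3
import Groth.Prelude.Def_W4stkfunctorsequivSib
import Mathlib.CategoryTheory.Triangulated.TStructure.Induced

/-!
# Stalk objects in `D^b(A)` and negative covers (helper17)
-/

set_option autoImplicit false

universe w v u

open CategoryTheory CategoryTheory.Limits CategoryTheory.Pretriangulated

namespace Groth.Agent.Lib.Helper17.Sib

variable (A : Type u) [Category.{v} A] [Abelian A] [HasDerivedCategory.{w} A]

/-- The bounded derived category. -/
abbrev Db := DerivedCategory.Bounded A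

/-- The induced t-structure on the bounded derived category. -/
noncomputable abbrev tb : Triangulated.TStructure (Db A) :=
  (DerivedCategory.TStructure.t : Triangulated.TStructure (DerivedCategory A)).onBounded

/-- The inclusion in the derived category. -/
noncomputable abbrev ιb : Db A ⥤ DerivedCategory A := DerivedCategory.Bounded.ι

instance : (DEquiv.singleB A).Full := by
  unfold DEquiv.singleB
  infer_instance

instance : (DEquiv.singleB A).Faithful := by
  unfold DEquiv.singleB
  infer_instance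

variable {A}

/-- The stalk object `M[-n]`. -/
noncomputable def stalk (M : A) (n : ℤ) : Db A := ((DEquiv.singleB A).obj M)⟦-n⟧

/-- The morphism of stalk objects induced by a morphism. -/
noncomputable def stalkMap {M M' : A} (g : M ⟶ M') (n : ℤ) : stalk M n ⟶ stalk M' n :=
  ((DEquiv.singleB A).map g)⟦-n⟧'

@[simp]
lemma stalkMap_id (M : A) (n : ℤ) : stalkMap (𝟙 M) n = 𝟙 _ := by
  simp [stalkMap, stalk]

@[simp, reassoc]
lemma stalkMap_comp {M M' M'' : A} (g : M ⟶ M') (g' : M' ⟶ M'') (n : ℤ) :
    stalkMap (g ≫ g') n = stalkMap g n ≫ stalkMap g' n := by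
  dsimp only [stalkMap]
  rw [Functor.map_comp, Functor.map_comp]
  rfl

lemma stalkMap_surjective {M M' : A} (n : ℤ) (u : stalk M n ⟶ stalk M' n) :
    ∃ g : M ⟶ M', stalkMap g n = u := by
  obtain ⟨v, hv⟩ := (shiftFunctor (Db A) (-n)).map_surjective u
  obtain ⟨g, hg⟩ := (DEquiv.singleB A).map_surjective v
  exact ⟨g, by rw [stalkMap, hg, hv]⟩

/-- The image of a stalk object in `D(A)`. -/
noncomputable def ιStalkIso (M : A) (n : ℤ) :
    (ιb A).obj (stalk M n) ≅ (DerivedCategory.singleFunctor A n).obj M :=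
  ((ιb A).commShiftIso (-n)).app ((DEquiv.singleB A).obj M) ≪≫
    ((DerivedCategory.singleFunctors A).shiftIso (-n) n 0 (by omega)).app M

lemma tb_isLE_iff (X : Db A) (n : ℤ) :
    (tb A).IsLE X n ↔ ((ιb A).obj X).IsLE n :=
  ObjectProperty.tStructure_isLE_iff _ _ X n

lemma tb_isGE_iff (X : Db A) (n : ℤ) :
    (tb A).IsGE X n ↔ ((ιb A).obj X).IsGE n :=
  ObjectProperty.tStructure_isGE_iff _ _ X n

instance (M : A) (n : ℤ) : (tb A).IsLE (stalk M n) n := by
  rw [tb_isLE_iff]
  exact DerivedCategory.TStructure.t.isLE_of_iso (ιStalkIso M n).symm n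

instance (M : A) (n : ℤ) : (tb A).IsGE (stalk M n) n := by
  rw [tb_isGE_iff]
  exact DerivedCategory.TStructure.t.isGE_of_iso (ιStalkIso M n).symm n

/-- an object of amplitude `[n, n]` is a stalk object. -/
lemma exists_iso_stalk (X : Db A) (n : ℤ) (h₁ : (tb A).IsGE X n) (h₂ : (tb A).IsLE X n) :
    ∃ M : A, Nonempty (X ≅ stalk M n) := by
  rw [tb_isGE_iff] at h₁
  rw [tb_isLE_iff] at h₂
  obtain ⟨M, ⟨e⟩⟩ := DerivedCategory.exists_iso_singleFunctor_obj_of_isGE_of_isLE
    ((ιb A).obj X) n
  exact ⟨M, ⟨(ιb A).preimageIso (e ≪≫ (ιStalkIso M n).symm)⟩⟩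

end Groth.Agent.Lib.Helper17.Sib
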