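import Groth.Agent.Lib.Helper17Sib4

/-!
# Good maps from stalk objects in `D^b(A)` (helper17)
-/

set_option autoImplicit false

universe w v u

open CategoryTheory CategoryTheory.Limits CategoryTheory.Pretriangulated

namespace Groth.Agent.Lib.Helper17.Sib

variable {A : Type u} [Category.{v} A] [Abelian A] [HasDerivedCategory.{w} A]

/-- A map `x : N[-b] ⟶ X` is good if there is no nonzero map back and its cones are `≤ b - 1`. -/
structure Good (X : Db A) (b : ℤ) (N : A) (x : stalk N b ⟶ X) : Prop where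
  hom_zero : ∀ c : X ⟶ stalk N b, c = 0
  cone_isLE : ∀ (Y : Db A) (y : X ⟶ Y) (δ : Y ⟶ (stalk N b)⟦(1 : ℤ)⟧),
    Triangle.mk x y δ ∈ distTriang (Db A) → (tb A).IsLE Y (b - 1)

theorem exists_good (hneg : ∀ X : A, ∃ (N : A) (p : N ⟶ X), Epi p ∧ ∀ f : X ⟶ N, f = 0)
    (X X' X₀ : Db A) (f : X ⟶ X') (b : ℤ) (hX : (tb A).IsLE X b)
    (hX' : (tb A).IsLE X' (b - 1)) (hX₀ : (tb A).IsLE X₀ b) :
    ∃ (N : A) (x : stalk N b ⟶ X), Good X b N x ∧ (∀ c : X₀ ⟶ stalk N b, c = 0) ∧
      x ≫ f = 0 := by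
  rw [tb_isLE_iff] at hX hX' hX₀
  obtain ⟨N, g, h1, h2, h3, h4⟩ := exists_neg hneg ((ιb A).obj X) ((ιb A).obj X')
    ((ιb A).map f) b ((DerivedCategory.homologyFunctor A b).obj ((ιb A).obj X₀))
  let x : stalk N b ⟶ X := (ιb A).preimage ((ιStalkIso N b).hom ≫ g)
  have hx : (ιb A).map x = (ιStalkIso N b).hom ≫ g := Functor.map_preimage _ _
  refine ⟨N, x, ⟨?_, ?_⟩, ?_, ?_⟩
  · intro c
    apply (ιb A).map_injective
    rw [Functor.map_zero, ← cancel_mono (ιStalkIso N b).hom, zero_comp]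
    exact hom_to_single_eq_zero _ b N h2 _
  · intro Y y δ hT
    have hT' := (ιb A).map_distinguished _ hT
    rw [tb_isLE_iff]
    haveI : (((ιb A).mapTriangle.obj (Triangle.mk x y δ)).obj₁).IsLE b := by
      change ((ιb A).obj (stalk N b)).IsLE b
      rw [← tb_isLE_iff]
      infer_instance
    haveI : (((ιb A).mapTriangle.obj (Triangle.mk x y δ)).obj₂).IsLE b := hX
    refine isLE_obj₃_of_epi _ hT' b ?_
    change Epi ((DerivedCategory.homologyFunctor A b).map ((ιb A).map x))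
    rw [hx, Functor.map_comp]
    infer_instance
  · intro c
    apply (ιb A).map_injective
    rw [Functor.map_zero, ← cancel_mono (ιStalkIso N b).hom, zero_comp]
    exact hom_to_single_eq_zero _ b N h3 _
  · apply (ιb A).map_injective
    rw [Functor.map_comp, hx, Category.assoc, h4, comp_zero, Functor.map_zero]

end Groth.Agent.Lib.Helper17.Sib
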