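import Mathlib.CategoryTheory.Shift.CommShift
import Mathlib.CategoryTheory.Triangulated.Functor

/-!
# Conjugating a morphism `F Z ⟶ F' Z` by shifts (helper17)
-/

set_option autoImplicit false

open CategoryTheory

namespace Groth.Agent.Lib.Helper17.Sib

section

variable {C D : Type*} [Category C] [Category D] [HasShift C ℤ] [HasShift D ℤ]
  (F F' : C ⥤ D) [F.CommShift ℤ] [F'.CommShift ℤ]

/-- the morphism `F (Z⟦n⟧) ⟶ F' (Z⟦n⟧)` deduced from `τ : F Z ⟶ F' Z`. -/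
noncomputable def sh {Z : C} (τ : F.obj Z ⟶ F'.obj Z) (n : ℤ) :
    F.obj (Z⟦n⟧) ⟶ F'.obj (Z⟦n⟧) :=
  (F.commShiftIso n).hom.app Z ≫ τ⟦n⟧' ≫ (F'.commShiftIso n).inv.app Z

lemma sh_naturality {Z Z' : C} (u : Z ⟶ Z') (τ : F.obj Z ⟶ F'.obj Z) (τ' : F.obj Z' ⟶ F'.obj Z')
    (h : F.map u ≫ τ' = τ ≫ F'.map u) (n : ℤ) :
    F.map (u⟦n⟧') ≫ sh F F' τ' n = sh F F' τ n ≫ F'.map (u⟦n⟧') := by
  dsimp only [sh]
  rw [Category.assoc, Category.assoc, ← F'.commShiftIso_inv_naturality u n,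
    ← Functor.map_comp_assoc, ← h, Functor.map_comp_assoc,
    ← F.commShiftIso_hom_naturality_assoc u n]

instance {Z : C} (τ : F.obj Z ⟶ F'.obj Z) [IsIso τ] (n : ℤ) : IsIso (sh F F' τ n) := by
  dsimp only [sh]
  infer_instance

lemma sh_sh {Z : C} (τ : F.obj Z ⟶ F'.obj Z) (n m k : ℤ) (h : n + m = k) :
    sh F F' (sh F F' τ n) m =
      F.map ((shiftFunctorAdd' C n m k h).inv.app Z) ≫ sh F F' τ k ≫
        F'.map ((shiftFunctorAdd' C n m k h).hom.app Z) := by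
  have nat : (τ⟦k⟧') ≫ (shiftFunctorAdd' D n m k h).hom.app (F'.obj Z) =
      (shiftFunctorAdd' D n m k h).hom.app (F.obj Z) ≫ (τ⟦n⟧')⟦m⟧' :=
    (shiftFunctorAdd' D n m k h).hom.naturality τ
  dsimp only [sh]
  rw [F.commShiftIso_add' h, F'.commShiftIso_add' h]
  simp only [Functor.CommShift.isoAdd'_hom_app, Functor.CommShift.isoAdd'_inv_app,
    Category.assoc, Functor.map_comp]
  rw [← Functor.map_comp_assoc F, Iso.inv_hom_id_app, F.map_id, Category.id_comp]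
  rw [reassoc_of% nat, Iso.inv_hom_id_app_assoc]
  rw [← Functor.map_comp F', Iso.inv_hom_id_app]
  simp

end

end Groth.Agent.Lib.Helper17.Sib
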