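import Groth.Agent.Lib.Helper17Sib5
import Groth.Agent.Lib.Helper17Sib6

/-!
# Systems of comparison isomorphisms on `D^{[a,b]}` (helper17)
-/

set_option autoImplicit false

universe w v u v' u'

open CategoryTheory CategoryTheory.Limits CategoryTheory.Pretriangulated

namespace Groth.Agent.Lib.Helper17.Sib

variable {A : Type u} [Category.{v} A] [Abelian A] [HasDerivedCategory.{w} A]
  {D : Type u'} [Category.{v'} D] [Preadditive D] [HasZeroObject D] [HasShift D ℤ]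
  [∀ n : ℤ, (shiftFunctor D n).Additive] [Pretriangulated D] [IsTriangulated D]
  (F F' : Db A ⥤ D) [F.CommShift ℤ] [F.IsTriangulated] [F'.CommShift ℤ] [F'.IsTriangulated]
  (t0 : DEquiv.singleB A ⋙ F ≅ DEquiv.singleB A ⋙ F')

/-- the comparison isomorphism on stalk objects. -/
noncomputable def tst (M : A) (n : ℤ) : F.obj (stalk M n) ⟶ F'.obj (stalk M n) :=
  sh F F' (t0.hom.app M) (-n)

instance (M : A) (n : ℤ) : IsIso (tst F F' t0 M n) := by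
  dsimp only [tst]
  haveI : IsIso (t0.hom.app M) := inferInstance
  exact inferInstanceAs (IsIso (sh F F' (t0.hom.app M) (-n)))

lemma tst_naturality {M M' : A} (g : M ⟶ M') (n : ℤ) :
    F.map (stalkMap g n) ≫ tst F F' t0 M' n = tst F F' t0 M n ≫ F'.map (stalkMap g n) :=
  sh_naturality F F' ((DEquiv.singleB A).map g) _ _ (t0.hom.naturality g) (-n)

/-- A system of comparison isomorphisms on objects of amplitude `[a, b]`. -/
structure Sys (a b : ℤ) where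
  t : ∀ (X : Db A), (tb A).IsGE X a → (tb A).IsLE X b → (F.obj X ⟶ F'.obj X)
  iso : ∀ (X : Db A) (h₁ : (tb A).IsGE X a) (h₂ : (tb A).IsLE X b), IsIso (t X h₁ h₂)
  nat : ∀ (X X' : Db A) (h₁ : (tb A).IsGE X a) (h₂ : (tb A).IsLE X b)
    (h₁' : (tb A).IsGE X' a) (h₂' : (tb A).IsLE X' b) (f : X ⟶ X'),
    F.map f ≫ t X' h₁' h₂' = t X h₁ h₂ ≫ F'.map f
  norm : ∀ (M : A) (n : ℤ) (h₁ : (tb A).IsGE (stalk M n) a) (h₂ : (tb A).IsLE (stalk M n) b),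
    a ≤ n → n ≤ b → t (stalk M n) h₁ h₂ = tst F F' t0 M n

variable {F F' t0}

/-- restriction of a system to a smaller interval. -/
def Sys.restrict {a b a' b' : ℤ} (S : Sys F F' t0 a' b') (ha : a' ≤ a) (hb : b ≤ b') :
    Sys F F' t0 a b where
  t X h₁ h₂ := S.t X ((tb A).isGE_of_ge X a' a ha) ((tb A).isLE_of_le X b b' hb)
  iso X h₁ h₂ := S.iso X _ _
  nat X X' h₁ h₂ h₁' h₂' f := S.nat X X' _ _ _ _ f
  norm M n h₁ h₂ h h' := S.norm M n _ _ (by omega) (by omega)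

section

variable [F.Full]

variable (t0) in
include t0 in
/-- uniqueness lemma. -/
lemma eq_zero_of_comp_eq_zero {X X' : Db A} {b : ℤ} {N' : A} {x' : stalk N' b ⟶ X'}
    {Y' : Db A} {y' : X' ⟶ Y'} {δ' : Y' ⟶ (stalk N' b)⟦(1 : ℤ)⟧}
    (hT' : Triangle.mk x' y' δ' ∈ distTriang (Db A)) (h₀ : ∀ c : X ⟶ stalk N' b, c = 0)
    (φ : F.obj X ⟶ F'.obj X') (hφ : φ ≫ F'.map y' = 0) : φ = 0 := by
  have hT'' := F'.map_distinguished _ hT'
  obtain ⟨χ, hχ⟩ : ∃ χ : F.obj X ⟶ F'.obj (stalk N' b), φ = χ ≫ F'.map x' :=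
    Triangle.coyoneda_exact₂ _ hT'' φ hφ
  obtain ⟨c, hc⟩ := F.map_surjective (χ ≫ inv (tst F F' t0 N' b))
  rw [h₀ c, F.map_zero] at hc
  have h : χ = 0 := by
    rw [← cancel_mono (inv (tst F F' t0 N' b)), ← hc, zero_comp]
  rw [hχ, h, zero_comp]

end

/-- the value of a system on the shift of a stalk object. -/
lemma Sys.t_shift_stalk {a b₀ : ℤ} (S₀ : Sys F F' t0 a b₀) (N : A) (b : ℤ) (hb : b₀ + 1 = b)
    (hab : a ≤ b₀) (h₁ : (tb A).IsGE ((stalk N b)⟦(1 : ℤ)⟧) a)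
    (h₂ : (tb A).IsLE ((stalk N b)⟦(1 : ℤ)⟧) b₀) :
    S₀.t ((stalk N b)⟦(1 : ℤ)⟧) h₁ h₂ = sh F F' (tst F F' t0 N b) 1 := by
  let α : stalk N b₀ ≅ (stalk N b)⟦(1 : ℤ)⟧ :=
    (shiftFunctorAdd' (Db A) (-b) 1 (-b₀) (by omega)).app ((DEquiv.singleB A).obj N)
  have h₁' : (tb A).IsGE (stalk N b₀) a := (tb A).isGE_of_ge _ a b₀ hab
  have h₂' : (tb A).IsLE (stalk N b₀) b₀ := inferInstance
  have nat := S₀.nat _ _ h₁' h₂' h₁ h₂ α.hom
  rw [S₀.norm N b₀ h₁' h₂' hab le_rfl] at nat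
  have h := sh_sh F F' (t0.hom.app N) (-b) 1 (-b₀) (by omega)
  have e : S₀.t ((stalk N b)⟦(1 : ℤ)⟧) h₁ h₂ =
      F.map α.inv ≫ tst F F' t0 N b₀ ≫ F'.map α.hom := by
    rw [← nat, ← F.map_comp_assoc, α.inv_hom_id, F.map_id, Category.id_comp]
  rw [e]
  exact h.symm

/-- existence of the comparison isomorphism attached to a good map. -/
lemma exists_comp {a b₀ : ℤ} (S₀ : Sys F F' t0 a b₀) (b : ℤ) (hb : b₀ + 1 = b) (hab : a ≤ b₀)
    {X : Db A} {N : A} {x : stalk N b ⟶ X}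
    {Y : Db A} {y : X ⟶ Y} {δ : Y ⟶ (stalk N b)⟦(1 : ℤ)⟧}
    (hT : Triangle.mk x y δ ∈ distTriang (Db A))
    (hY₁ : (tb A).IsGE Y a) (hY₂ : (tb A).IsLE Y b₀) :
    ∃ φ : F.obj X ⟶ F'.obj X, IsIso φ ∧ F.map x ≫ φ = tst F F' t0 N b ≫ F'.map x ∧
      F.map y ≫ S₀.t Y hY₁ hY₂ = φ ≫ F'.map y := by
  have hT₁ := F.map_distinguished _ hT
  have hT₂ := F'.map_distinguished _ hT
  have h₁ : (tb A).IsGE ((stalk N b)⟦(1 : ℤ)⟧) a := by
    haveI : (tb A).IsGE ((stalk N b)⟦(1 : ℤ)⟧) b₀ :=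
      (tb A).isGE_shift (stalk N b) b 1 b₀ (by omega)
    exact (tb A).isGE_of_ge _ a b₀ hab
  have h₂ : (tb A).IsLE ((stalk N b)⟦(1 : ℤ)⟧) b₀ :=
    (tb A).isLE_shift (stalk N b) b 1 b₀ (by omega)
  have comm : (F.mapTriangle.obj (Triangle.mk x y δ)).mor₃ ≫ (tst F F' t0 N b)⟦(1 : ℤ)⟧' =
      S₀.t Y hY₁ hY₂ ≫ (F'.mapTriangle.obj (Triangle.mk x y δ)).mor₃ := by
    have nat := S₀.nat Y _ hY₁ hY₂ h₁ h₂ δ
    rw [S₀.t_shift_stalk N b hb hab h₁ h₂] at nat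
    dsimp only [sh] at nat
    change (F.map δ ≫ (F.commShiftIso (1 : ℤ)).hom.app (stalk N b)) ≫
        (tst F F' t0 N b)⟦(1 : ℤ)⟧' =
      S₀.t Y hY₁ hY₂ ≫ (F'.map δ ≫ (F'.commShiftIso (1 : ℤ)).hom.app (stalk N b))
    calc (F.map δ ≫ (F.commShiftIso (1 : ℤ)).hom.app (stalk N b)) ≫ (tst F F' t0 N b)⟦(1 : ℤ)⟧'
        = (F.map δ ≫ (F.commShiftIso (1 : ℤ)).hom.app (stalk N b) ≫
            (tst F F' t0 N b)⟦(1 : ℤ)⟧' ≫ (F'.commShiftIso (1 : ℤ)).inv.app (stalk N b)) ≫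
              (F'.commShiftIso (1 : ℤ)).hom.app (stalk N b) := by
          simp
      _ = _ := by rw [nat, Category.assoc]
  obtain ⟨φ, hφ₁, hφ₂⟩ := complete_distinguished_triangle_morphism₂ _ _ hT₁ hT₂
    (tst F F' t0 N b) (S₀.t Y hY₁ hY₂) comm
  refine ⟨φ, ?_, hφ₁, hφ₂⟩
  let ψ : F.mapTriangle.obj (Triangle.mk x y δ) ⟶ F'.mapTriangle.obj (Triangle.mk x y δ) :=
    { hom₁ := tst F F' t0 N b
      hom₂ := φ
      hom₃ := S₀.t Y hY₁ hY₂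
      comm₁ := hφ₁
      comm₂ := hφ₂
      comm₃ := comm }
  exact isIso₂_of_isIso₁₃ ψ hT₁ hT₂ (inferInstanceAs (IsIso (tst F F' t0 N b))) (S₀.iso Y hY₁ hY₂)

end Groth.Agent.Lib.Helper17.Sib
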