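import Groth.Agent.Lib.Helper17Sib7

/-!
# The inductive step for systems of comparison isomorphisms (helper17)
-/

set_option autoImplicit false

universe w v u v' u'

open CategoryTheory CategoryTheory.Limits CategoryTheory.Pretriangulated

namespace Groth.Agent.Lib.Helper17.Sib

variable {A : Type u} [Category.{v} A] [Abelian A] [HasDerivedCategory.{w} A]
  {D : Type u'} [Category.{v'} D] [Preadditive D] [HasZeroObject D] [HasShift D ℤ]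
  [∀ n : ℤ, (shiftFunctor D n).Additive] [Pretriangulated D] [IsTriangulated D]
  {F F' : Db A ⥤ D} [F.CommShift ℤ] [F.IsTriangulated] [F'.CommShift ℤ] [F'.IsTriangulated]
  {t0 : DEquiv.singleB A ⋙ F ≅ DEquiv.singleB A ⋙ F'}

lemma cone_isGE {X : Db A} {b : ℤ} {N : A} {x : stalk N b ⟶ X} {Y : Db A} {y : X ⟶ Y}
    {δ : Y ⟶ (stalk N b)⟦(1 : ℤ)⟧} (hT : Triangle.mk x y δ ∈ distTriang (Db A))
    (a : ℤ) (ha : a < b) (hX : (tb A).IsGE X a) : (tb A).IsGE Y a := by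
  have hT' := rot_of_distTriang _ hT
  have h₃ : (tb A).IsGE ((stalk N b)⟦(1 : ℤ)⟧) a := by
    haveI : (tb A).IsGE ((stalk N b)⟦(1 : ℤ)⟧) (b - 1) :=
      (tb A).isGE_shift (stalk N b) b 1 (b - 1) (by omega)
    exact (tb A).isGE_of_ge _ a (b - 1) (by omega)
  exact (tb A).isGE₂ _ hT' a hX h₃

lemma isLE_biprod (X₁ X₂ : Db A) (n : ℤ) (h₁ : (tb A).IsLE X₁ n) (h₂ : (tb A).IsLE X₂ n) :
    (tb A).IsLE (X₁ ⊞ X₂) n :=
  (tb A).isLE₂ _ (binaryBiproductTriangle_distinguished X₁ X₂) n h₁ h₂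

/-- Data of a good map, a cone, and a comparison morphism compatible with the system `S₀` on
the cone. -/
structure GoodData {a b₀ : ℤ} (S₀ : Sys F F' t0 a b₀) (b : ℤ) (X : Db A) where
  N : A
  x : stalk N b ⟶ X
  good : Good X b N x
  Y : Db A
  y : X ⟶ Y
  δ : Y ⟶ (stalk N b)⟦(1 : ℤ)⟧
  hT : Triangle.mk x y δ ∈ distTriang (Db A)
  hY₁ : (tb A).IsGE Y a
  hY₂ : (tb A).IsLE Y b₀
  φ : F.obj X ⟶ F'.obj X
  comm₂ : F.map y ≫ S₀.t Y hY₁ hY₂ = φ ≫ F'.map y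

section

variable (hneg : ∀ X : A, ∃ (N : A) (p : N ⟶ X), Epi p ∧ ∀ f : X ⟶ N, f = 0)
  {a b₀ : ℤ} (S₀ : Sys F F' t0 a b₀) {b : ℤ} (hb : b₀ + 1 = b) (hab : a ≤ b₀)

include hneg hb hab in
lemma exists_goodData (X : Db A) (hX₁ : (tb A).IsGE X a) (hX₂ : (tb A).IsLE X b)
    (X' : Db A) (hX' : (tb A).IsLE X' b₀) (f : X ⟶ X') (X₀ : Db A) (hX₀ : (tb A).IsLE X₀ b) :
    ∃ d : GoodData S₀ b X, IsIso d.φ ∧
      F.map d.x ≫ d.φ = tst F F' t0 d.N b ≫ F'.map d.x ∧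
      (∀ c : X₀ ⟶ stalk d.N b, c = 0) ∧ d.x ≫ f = 0 := by
  have hX'' : (tb A).IsLE X' (b - 1) := (tb A).isLE_of_le X' b₀ (b - 1) (by omega)
  obtain ⟨N, x, hx, h₀, hxf⟩ := exists_good hneg X X' X₀ f b hX₂ hX'' hX₀
  obtain ⟨Y, y, δ, hT⟩ := distinguished_cocone_triangle x
  have hY₁ : (tb A).IsGE Y a := cone_isGE hT a (by omega) hX₁
  have hY₂ : (tb A).IsLE Y b₀ := by
    haveI := hx.cone_isLE Y y δ hT
    exact (tb A).isLE_of_le Y (b - 1) b₀ (by omega)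
  obtain ⟨φ, hφ, h1, h2⟩ := exists_comp S₀ b hb hab hT hY₁ hY₂
  exact ⟨{ N := N, x := x, good := hx, Y := Y, y := y, δ := δ, hT := hT, hY₁ := hY₁,
           hY₂ := hY₂, φ := φ, comm₂ := h2 }, hφ, h1, h₀, hxf⟩

variable [F.Full]

/-- the key compatibility. -/
lemma GoodData.key {X X' : Db A} (d : GoodData S₀ b X) (d' : GoodData S₀ b X') (f : X ⟶ X')
    (h₀ : ∀ c : X ⟶ stalk d'.N b, c = 0) (hxf : d.x ≫ f ≫ d'.y = 0) :
    F.map f ≫ d'.φ = d.φ ≫ F'.map f := by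
  obtain ⟨g, hg⟩ : ∃ g : d.Y ⟶ d'.Y, f ≫ d'.y = d.y ≫ g :=
    Triangle.yoneda_exact₂ _ d.hT (f ≫ d'.y) hxf
  rw [← sub_eq_zero]
  apply eq_zero_of_comp_eq_zero t0 d'.hT h₀
  rw [Preadditive.sub_comp, sub_eq_zero, Category.assoc, Category.assoc, ← d'.comm₂,
    ← F.map_comp_assoc, hg, F.map_comp_assoc, S₀.nat d.Y d'.Y d.hY₁ d.hY₂ d'.hY₁ d'.hY₂ g,
    reassoc_of% d.comm₂, ← F'.map_comp, ← hg, F'.map_comp]

include hneg hb hab in
/-- the comparison morphism does not depend on the choices. -/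
lemma GoodData.φ_eq {X : Db A} (hX₁ : (tb A).IsGE X a) (hX₂ : (tb A).IsLE X b)
    (d₁ d₂ : GoodData S₀ b X) : d₁.φ = d₂.φ := by
  obtain ⟨d₃, -, -, -, h₃⟩ := exists_goodData hneg S₀ hb hab X hX₁ hX₂ (d₁.Y ⊞ d₂.Y)
    (isLE_biprod _ _ _ d₁.hY₂ d₂.hY₂) (biprod.lift d₁.y d₂.y) X hX₂
  have e₁ := GoodData.key S₀ d₃ d₁ (𝟙 X) d₁.good.hom_zero (by
    have := h₃ =≫ biprod.fst
    simpa using this)
  have e₂ := GoodData.key S₀ d₃ d₂ (𝟙 X) d₂.good.hom_zero (by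
    have := h₃ =≫ biprod.snd
    simpa using this)
  simp only [CategoryTheory.Functor.map_id, Category.id_comp, Category.comp_id] at e₁ e₂
  rw [e₁, e₂]

end

end Groth.Agent.Lib.Helper17.Sib
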