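import Groth.Agent.Lib.Helper17Sib8

/-!
# Existence of systems of comparison isomorphisms (helper17)
-/

set_option autoImplicit false

universe w v u v' u'

open CategoryTheory CategoryTheory.Limits CategoryTheory.Pretriangulated ZeroObject

namespace Groth.Agent.Lib.Helper17.Sib

variable {A : Type u} [Category.{v} A] [Abelian A] [HasDerivedCategory.{w} A]
  {D : Type u'} [Category.{v'} D] [Preadditive D] [HasZeroObject D] [HasShift D ℤ]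
  [∀ n : ℤ, (shiftFunctor D n).Additive] [Pretriangulated D] [IsTriangulated D]
  {F F' : Db A ⥤ D} [F.CommShift ℤ] [F.IsTriangulated] [F'.CommShift ℤ] [F'.IsTriangulated]
  {t0 : DEquiv.singleB A ⋙ F ≅ DEquiv.singleB A ⋙ F'}

section Step

variable (hneg : ∀ X : A, ∃ (N : A) (p : N ⟶ X), Epi p ∧ ∀ f : X ⟶ N, f = 0)
  {a b₀ : ℤ} (S₀ : Sys F F' t0 a b₀) {b : ℤ} (hb : b₀ + 1 = b) (hab : a ≤ b₀) [F.Full]

/-- chosen good data. -/
noncomputable def chosen (X : Db A) (hX₁ : (tb A).IsGE X a) (hX₂ : (tb A).IsLE X b) :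
    GoodData S₀ b X :=
  (exists_goodData hneg S₀ hb hab X hX₁ hX₂ 0 inferInstance (0 : X ⟶ 0) X hX₂).choose

/-- the comparison morphism of the extended system. -/
noncomputable def stepT (X : Db A) (hX₁ : (tb A).IsGE X a) (hX₂ : (tb A).IsLE X b) :
    F.obj X ⟶ F'.obj X :=
  (chosen hneg S₀ hb hab X hX₁ hX₂).φ

lemma stepT_eq {X : Db A} (hX₁ : (tb A).IsGE X a) (hX₂ : (tb A).IsLE X b)
    (d : GoodData S₀ b X) : stepT hneg S₀ hb hab X hX₁ hX₂ = d.φ :=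
  GoodData.φ_eq hneg S₀ hb hab hX₁ hX₂ _ d

lemma stepT_isIso (X : Db A) (hX₁ : (tb A).IsGE X a) (hX₂ : (tb A).IsLE X b) :
    IsIso (stepT hneg S₀ hb hab X hX₁ hX₂) := by
  obtain ⟨d, hd, -⟩ := exists_goodData hneg S₀ hb hab X hX₁ hX₂ 0 inferInstance (0 : X ⟶ 0) X hX₂
  rw [stepT_eq hneg S₀ hb hab hX₁ hX₂ d]
  exact hd

lemma stepT_nat (X X' : Db A) (hX₁ : (tb A).IsGE X a) (hX₂ : (tb A).IsLE X b)
    (hX₁' : (tb A).IsGE X' a) (hX₂' : (tb A).IsLE X' b) (f : X ⟶ X') :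
    F.map f ≫ stepT hneg S₀ hb hab X' hX₁' hX₂' =
      stepT hneg S₀ hb hab X hX₁ hX₂ ≫ F'.map f := by
  obtain ⟨d', -, -, h₀, -⟩ := exists_goodData hneg S₀ hb hab X' hX₁' hX₂' 0 inferInstance
    (0 : X' ⟶ 0) X hX₂
  obtain ⟨d, -, -, -, hxf⟩ := exists_goodData hneg S₀ hb hab X hX₁ hX₂ d'.Y d'.hY₂
    (f ≫ d'.y) X hX₂
  rw [stepT_eq hneg S₀ hb hab hX₁ hX₂ d, stepT_eq hneg S₀ hb hab hX₁' hX₂' d']
  exact GoodData.key S₀ d d' f h₀ hxf

lemma stepT_old (X : Db A) (hX₁ : (tb A).IsGE X a) (hX₂ : (tb A).IsLE X b)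
    (hX₂' : (tb A).IsLE X b₀) :
    stepT hneg S₀ hb hab X hX₁ hX₂ = S₀.t X hX₁ hX₂' := by
  let d := chosen hneg S₀ hb hab X hX₁ hX₂
  exact stepT_eq hneg S₀ hb hab hX₁ hX₂
    { N := d.N, x := d.x, good := d.good, Y := d.Y, y := d.y, δ := d.δ, hT := d.hT,
      hY₁ := d.hY₁, hY₂ := d.hY₂, φ := S₀.t X hX₁ hX₂',
      comm₂ := S₀.nat X d.Y hX₁ hX₂' d.hY₁ d.hY₂ d.y }

lemma stepT_stalk (M : A) (h₁ : (tb A).IsGE (stalk M b) a) (h₂ : (tb A).IsLE (stalk M b) b) :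
    stepT hneg S₀ hb hab (stalk M b) h₁ h₂ = tst F F' t0 M b := by
  obtain ⟨d, -, hc₁, -, -⟩ := exists_goodData hneg S₀ hb hab (stalk M b) h₁ h₂ 0 inferInstance
    (0 : stalk M b ⟶ 0) (stalk M b) h₂
  rw [stepT_eq hneg S₀ hb hab h₁ h₂ d]
  obtain ⟨p, hp⟩ := stalkMap_surjective b d.x
  have h1 : F.map d.x ≫ (d.φ - tst F F' t0 M b) = 0 := by
    rw [Preadditive.comp_sub, hc₁, ← hp, tst_naturality, sub_self]
  obtain ⟨ψ, hψ⟩ : ∃ ψ : F.obj d.Y ⟶ F'.obj (stalk M b),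
      d.φ - tst F F' t0 M b = F.map d.y ≫ ψ :=
    Triangle.yoneda_exact₂ _ (F.map_distinguished _ d.hT) _ h1
  obtain ⟨c, hc⟩ := F.map_surjective (ψ ≫ inv (tst F F' t0 M b))
  have hc0 : c = 0 := by
    haveI := d.hY₂
    exact (tb A).zero c b₀ b (by omega)
  rw [hc0, F.map_zero] at hc
  have hψ0 : ψ = 0 := by
    rw [← cancel_mono (inv (tst F F' t0 M b)), ← hc, zero_comp]
  rw [hψ0, comp_zero, sub_eq_zero] at hψ
  exact hψ

/-- the extended system. -/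
noncomputable def Sys.step : Sys F F' t0 a b where
  t := stepT hneg S₀ hb hab
  iso := stepT_isIso hneg S₀ hb hab
  nat := stepT_nat hneg S₀ hb hab
  norm M n h₁ h₂ han hnb := by
    by_cases hn : n = b
    · subst hn
      exact stepT_stalk hneg S₀ hb hab M h₁ h₂
    · have h₂' : (tb A).IsLE (stalk M n) b₀ := (tb A).isLE_of_le _ n b₀ (by omega)
      rw [stepT_old hneg S₀ hb hab _ h₁ h₂ h₂']
      exact S₀.norm M n h₁ h₂' han (by omega)

end Step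

end Groth.Agent.Lib.Helper17.Sib
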