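import Mathlib

/-! Simplicial subobject generated in dimensions ≤ n (helper17). -/
set_option autoImplicit false
set_option backward.isDefEq.respectTransparency false
universe v u
open CategoryTheory CategoryTheory.Limits Opposite AlgebraicTopology AlgebraicTopology.DoldKan

namespace Groth.Agent.Lib.Helper17.SkelSub

variable {A : Type u} [Category.{v} A] [Abelian A]

lemma imageSubobject_le_iff_factors {X Y : A} (f : X ⟶ Y) (P : Subobject Y) :
    imageSubobject f ≤ P ↔ P.Factors f := by
  constructor
  · intro h
    have : (imageSubobject f).Factors f := by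
      simpa using imageSubobject_factors_comp_self f (𝟙 X)
    exact Subobject.factors_of_le f h this
  · intro h
    exact imageSubobject_le f (P.factorThru f h) (by simp)

variable (U : SimplicialObject A) (n : ℕ)
  (U' : ∀ m : ℕ, Subobject (U.obj (op (SimplexCategory.mk m))))
  (hU' : ∀ m : ℕ, IsLUB (Set.range (fun φ : Σ i : Fin (n + 1),
    (SimplexCategory.mk m ⟶ SimplexCategory.mk i) => imageSubobject (U.map φ.2.op))) (U' m))

include hU' in
lemma part1 (m m' : ℕ) (ψ : SimplexCategory.mk m' ⟶ SimplexCategory.mk m) :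
    imageSubobject ((U' m).arrow ≫ U.map ψ.op) ≤ U' m' := by
  rw [imageSubobject_le_iff_factors, ← pullback_factors_iff]
  apply Subobject.factors_of_le _ _ (Subobject.factors_self _)
  apply (hU' m).2
  rintro _ ⟨⟨i, φ⟩, rfl⟩
  dsimp
  rw [imageSubobject_le_iff_factors, pullback_factors_iff, ← U.map_comp, ← op_comp,
    ← imageSubobject_le_iff_factors]
  exact (hU' m').1 ⟨⟨i, ψ ≫ φ⟩, rfl⟩

include hU' in
lemma part2 (i : ℕ) (hi : i ≤ n) : U' i = ⊤ := by
  rw [eq_top_iff]
  have h := (hU' i).1 ⟨⟨⟨i, Nat.lt_succ_of_le hi⟩, 𝟙 _⟩, rfl⟩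
  dsimp at h
  refine le_trans ?_ h
  apply Subobject.le_of_factors
  have e : (⊤ : Subobject (U.obj (op (SimplexCategory.mk i)))).arrow =
      (⊤ : Subobject (U.obj (op (SimplexCategory.mk i)))).arrow ≫
        U.map (𝟙 (op (SimplexCategory.mk i))) := by
    rw [U.map_id, Category.comp_id]
  rw [e]
  exact imageSubobject_factors_comp_self _ _

include hU' in
lemma part3 (m : ℕ) (hm : n < m) : U' m ⊓ NormalizedMooreComplex.objX U m = ⊥ := by
  have h1 : U' m ≤ kernelSubobject ((PInfty (X := U)).f m) := by
    apply (hU' m).2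
    rintro _ ⟨⟨i, φ⟩, rfl⟩
    dsimp
    rw [imageSubobject_le_iff_factors, kernelSubobject_factors_iff]
    apply degeneracy_comp_PInfty U m φ
    intro hφ
    have := SimplexCategory.len_le_of_mono φ
    simp at this
    omega
  rw [eq_bot_iff]
  apply Subobject.le_of_factors
  rw [Subobject.bot_factors_iff_zero]
  have h2 : (U' m ⊓ NormalizedMooreComplex.objX U m).arrow ≫ (PInfty (X := U)).f m = 0 := by
    have hf := Subobject.factors_of_le _ h1 (Subobject.inf_arrow_factors_left (U' m)
      (NormalizedMooreComplex.objX U m))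
    rwa [kernelSubobject_factors_iff] at hf
  have h3 : (NormalizedMooreComplex.objX U m).arrow ≫ (PInfty (X := U)).f m =
      (NormalizedMooreComplex.objX U m).arrow := by
    have := HomologicalComplex.congr_hom (inclusionOfMooreComplexMap_comp_PInfty U) m
    rwa [HomologicalComplex.comp_f, inclusionOfMooreComplexMap_f] at this
  have hf := Subobject.inf_arrow_factors_right (U' m) (NormalizedMooreComplex.objX U m)
  rw [← Subobject.factorThru_arrow _ _ hf, ← h3, ← Category.assoc, Subobject.factorThru_arrow,
    h2]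

end Groth.Agent.Lib.Helper17.SkelSub
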