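-- helper17: a split fibred category is isomorphic to the Grothendieck construction of a strict functor.
import Groth.Agent.Lib.Helper17Clv
import Groth.Agent.Lib.Helper17Clv3
import Mathlib.CategoryTheory.Bicategory.Functor.LocallyDiscrete
import Mathlib.CategoryTheory.FiberedCategory.Grothendieck

set_option autoImplicit false
set_option backward.isDefEq.respectTransparency false
set_option backward.isDefEq.respectTransparency.types false

open CategoryTheory CategoryTheory.Functor Opposite Pseudofunctor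

universe v₁ v₂ u₁ u₂

namespace Groth.Agent.Lib.Helper17.Split

variable {𝒮 : Type u₁} [Category.{v₁} 𝒮] {𝒳 : Type u₂} [Category.{v₂} 𝒳] {p : 𝒳 ⥤ 𝒮}
  [p.IsFibered] (K : FibCat.Cleavage p) (hK : K.IsSplitting)

include hK

theorem obj_id {S : 𝒮} {a : 𝒳} (ha : p.obj a = S) : K.obj ha (𝟙 S) = a := (hK.1 ha).choose

theorem lift_id {S : 𝒮} {a : 𝒳} (ha : p.obj a = S) :
    K.lift ha (𝟙 S) = eqToHom (obj_id K hK ha) := (hK.1 ha).choose_spec

theorem obj_comp {S T U : 𝒮} (f : T ⟶ S) (g : U ⟶ T) {a : 𝒳} (ha : p.obj a = S) :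
    K.obj (K.obj_proj ha f) g = K.obj ha (g ≫ f) := (hK.2 f g ha).choose

theorem lift_comp {S T U : 𝒮} (f : T ⟶ S) (g : U ⟶ T) {a : 𝒳} (ha : p.obj a = S) :
    K.lift (K.obj_proj ha f) g ≫ K.lift ha f =
      eqToHom (obj_comp K hK f g ha) ≫ K.lift ha (g ≫ f) := (hK.2 f g ha).choose_spec

theorem inverseImage_id (S : 𝒮) : K.inverseImage (𝟙 S) = 𝟭 (p.Fiber S) := by
  refine Functor.ext (fun a => Subtype.ext (obj_id K hK a.2)) ?_
  intro a b φ
  apply fiber_hom_ext_of_comp_lift K (𝟙 S) b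
  rw [inverseImage_fac]
  simp only [Functor.map_comp, Category.assoc, eqToHom_map, Functor.id_map]
  rw [lift_id K hK, lift_id K hK]
  simp

theorem inverseImage_comp {S T U : 𝒮} (f : T ⟶ S) (g : U ⟶ T) :
    K.inverseImage (g ≫ f) = K.inverseImage f ⋙ K.inverseImage g := by
  refine Functor.ext (fun a => Subtype.ext (obj_comp K hK f g a.2).symm) ?_
  intro a b φ
  apply fiber_hom_ext_of_comp_lift K (g ≫ f) b
  rw [inverseImage_fac]
  simp only [Functor.map_comp, Category.assoc, eqToHom_map, Functor.comp_map]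
  have h1 := lift_comp K hK f g b.2
  have h2 := lift_comp K hK f g a.2
  have e2 := inverseImage_fac K g ((K.inverseImage f).map φ)
  have e3 := inverseImage_fac K f φ
  rw [← h1, ← Category.assoc (Fiber.fiberInclusion.map _), e2, Category.assoc, e3,
    ← Category.assoc (K.lift _ g), h2]
  simp

omit hK in
/-- The underlying morphism of an `eqToHom` of a fibre. -/
theorem fiber_eqToHom_val {S : 𝒮} {a b : p.Fiber S} (h : a = b) :
    Fiber.fiberInclusion.map (eqToHom h) = eqToHom (congrArg Subtype.val h) := by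
  subst h
  simp
  rfl

theorem objF_id {S : 𝒮} (a : p.Fiber S) : (K.inverseImage (𝟙 S)).obj a = a :=
  Subtype.ext (obj_id K hK a.2)

theorem objF_comp {S T U : 𝒮} (f : T ⟶ S) (g : U ⟶ T) (a : p.Fiber S) :
    (K.inverseImage g).obj ((K.inverseImage f).obj a) = (K.inverseImage (g ≫ f)).obj a :=
  Subtype.ext (obj_comp K hK f g a.2)

/-- The strict functor of a splitting. -/
noncomputable def splitF : 𝒮ᵒᵖ ⥤ Cat.{v₂, u₂} where
  obj S := Cat.of (p.Fiber S.unop)
  map f := (K.inverseImage f.unop).toCatHom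
  map_id S := congrArg Functor.toCatHom (inverseImage_id K hK S.unop)
  map_comp f g := congrArg Functor.toCatHom (inverseImage_comp K hK f.unop g.unop)

/-- The total category. -/
abbrev Tot := CoGrothendieck (splitF K hK).toPseudofunctor'

variable {K hK}

/-- The fibre component of a morphism of `Tot`. -/
def fib {X Y : Tot K hK} (m : X ⟶ Y) :
    (X.fiber : p.Fiber X.base) ⟶ (K.inverseImage m.base).obj (Y.fiber : p.Fiber Y.base) :=
  m.fiber

/-- The morphism of `𝒳` underlying a morphism of `Tot`. -/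
noncomputable def tr {X Y : Tot K hK} (m : X ⟶ Y) :
    (X.fiber : p.Fiber X.base).1 ⟶ (Y.fiber : p.Fiber Y.base).1 :=
  Fiber.fiberInclusion.map (fib m) ≫ K.lift (Y.fiber : p.Fiber Y.base).2 m.base

instance {X Y : Tot K hK} (m : X ⟶ Y) : p.IsHomLift m.base (tr m) := by
  unfold tr
  infer_instance

theorem base_eq_of_tr {X Y : Tot K hK} (m : X ⟶ Y) :
    m.base = eqToHom (X.fiber : p.Fiber X.base).2.symm ≫ p.map (tr m) ≫
      eqToHom (Y.fiber : p.Fiber Y.base).2 := by
  have := IsHomLift.fac p m.base (tr m)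
  simpa using this

theorem tot_hom_ext {X Y : Tot K hK} (f g : X ⟶ Y) (ht : tr f = tr g) : f = g := by
  have hb : f.base = g.base := by rw [base_eq_of_tr f, base_eq_of_tr g, ht]
  obtain ⟨fb, ff⟩ := f
  obtain ⟨gb, gf⟩ := g
  dsimp at hb
  subst hb
  have : ff = gf := fiber_hom_ext_of_comp_lift K fb (Y.fiber : p.Fiber Y.base) ff gf ht
  rw [this]

theorem fib_id (X : Tot K hK) :
    fib (𝟙 X) = eqToHom (objF_id K hK (X.fiber : p.Fiber X.base)).symm := by
  unfold fib
  simp only [CoGrothendieck.categoryStruct_id_fiber, Functor.toPseudofunctor'_mapId, eqToIso.inv,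
    Cat.eqToHom_app]

theorem tr_id (X : Tot K hK) : tr (𝟙 X) = 𝟙 _ := by
  unfold tr
  rw [fib_id, fiber_eqToHom_val]
  erw [lift_id K hK]
  simp

theorem fib_comp {X Y Z : Tot K hK} (f : X ⟶ Y) (g : Y ⟶ Z) :
    fib (f ≫ g) = fib f ≫ (K.inverseImage f.base).map (fib g) ≫
      eqToHom (objF_comp K hK g.base f.base (Z.fiber : p.Fiber Z.base)) := by
  unfold fib
  simp only [CoGrothendieck.categoryStruct_comp_fiber, Functor.toPseudofunctor'_mapComp,
    eqToIso.inv, Cat.eqToHom_app]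
  rfl

theorem tr_comp_aux {S T U : 𝒮} (f : T ⟶ S) (g : U ⟶ T) (A : p.Fiber U) (B : p.Fiber T)
    (D : p.Fiber S) (φ : A ⟶ (K.inverseImage g).obj B) (ψ : B ⟶ (K.inverseImage f).obj D) :
    Fiber.fiberInclusion.map (φ ≫ (K.inverseImage g).map ψ ≫
      eqToHom (objF_comp K hK f g D)) ≫ K.lift D.2 (g ≫ f) =
    (Fiber.fiberInclusion.map φ ≫ K.lift B.2 g) ≫ Fiber.fiberInclusion.map ψ ≫ K.lift D.2 f := by
  have h1 := lift_comp K hK f g D.2
  have e2 := inverseImage_fac K g ψ
  simp only [Functor.map_comp, Category.assoc, fiber_eqToHom_val]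
  erw [← h1]
  rw [← Category.assoc (Fiber.fiberInclusion.map ((K.inverseImage g).map ψ))]
  erw [e2]
  simp

theorem tr_comp {X Y Z : Tot K hK} (f : X ⟶ Y) (g : Y ⟶ Z) : tr (f ≫ g) = tr f ≫ tr g := by
  unfold tr
  rw [fib_comp]
  exact tr_comp_aux (hK := hK) g.base f.base _ _ _ (fib f) (fib g)

variable (K hK)

/-- The functor from the total category back to `𝒳`. -/
noncomputable def Ψ : Tot K hK ⥤ 𝒳 where
  obj X := (X.fiber : p.Fiber X.base).1
  map m := tr m
  map_id X := tr_id X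
  map_comp f g := tr_comp f g

omit hK [p.IsFibered] in
/-- The object `a` in its own fibre. -/
abbrev ΦFib (a : 𝒳) : p.Fiber (p.obj a) := Fiber.mk rfl

/-- The functor to the total category, on objects. -/
abbrev ΦObj (a : 𝒳) : Tot K hK := ⟨p.obj a, ΦFib a⟩

/-- The functor to the total category, on morphisms. -/
noncomputable def ΦMap {a b : 𝒳} (φ : a ⟶ b) : ΦObj K hK a ⟶ ΦObj K hK b :=
  ⟨p.map φ, show (ΦFib a ⟶ (K.inverseImage (p.map φ)).obj (ΦFib b)) from
    Fiber.homMk p (p.obj a) (IsCartesian.map p (p.map φ) (K.lift rfl (p.map φ)) φ)⟩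

theorem tr_ΦMap {a b : 𝒳} (φ : a ⟶ b) : tr (ΦMap K hK φ) = φ := by
  unfold tr
  exact IsCartesian.fac p (p.map φ) (K.lift (a := b) rfl (p.map φ)) φ

/-- The functor to the total category. -/
noncomputable def Φ : 𝒳 ⥤ Tot K hK where
  obj a := ΦObj K hK a
  map φ := ΦMap K hK φ
  map_id a := by
    apply tot_hom_ext
    rw [tr_ΦMap, tr_id]
    rfl
  map_comp φ ψ := by
    apply tot_hom_ext
    rw [tr_ΦMap, tr_comp, tr_ΦMap, tr_ΦMap]

theorem Φ_comp_Ψ : Φ K hK ⋙ Ψ K hK = 𝟭 𝒳 := by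
  refine Functor.ext (fun a => rfl) ?_
  intro a b φ
  simp only [eqToHom_refl, Category.id_comp, Category.comp_id, Functor.id_map, Functor.comp_map]
  exact tr_ΦMap K hK φ

theorem Φ_comp_forget :
    Φ K hK ⋙ CoGrothendieck.forget (splitF K hK).toPseudofunctor' = p := rfl

theorem Ψ_comp_Φ_obj (X : Tot K hK) : (Φ K hK).obj ((Ψ K hK).obj X) = X := by
  obtain ⟨S, ⟨a, ha⟩⟩ := X
  cases ha
  rfl

theorem Ψ_comp_Φ : Ψ K hK ⋙ Φ K hK = 𝟭 _ := by
  refine Functor.ext (fun X => Ψ_comp_Φ_obj K hK X) ?_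
  intro X Y m
  obtain ⟨S, ⟨a, ha⟩⟩ := X
  obtain ⟨T, ⟨b, hb⟩⟩ := Y
  cases ha
  cases hb
  simp only [eqToHom_refl, Category.id_comp, Category.comp_id, Functor.id_map, Functor.comp_map]
  apply tot_hom_ext
  exact tr_ΦMap K hK _

end Groth.Agent.Lib.Helper17.Split
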