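import Mathlib
import Groth.Agent.Lib.Helper17SpreadC
import Groth.Agent.Lib.Helper17StalkBC3
import Groth.Agent.Lib.Helper17FinLoc

set_option autoImplicit false
universe u
open CategoryTheory CategoryTheory.Limits AlgebraicGeometry TopologicalSpace Opposite

namespace Groth.Agent.Lib.Helper17.Spread

open Groth.Agent.Lib.Helper17.FFaith Groth.Agent.Lib.Helper17.FlatDev
  Groth.Agent.Helper18PBUnit Groth.Agent.Lib.Helper1.PT Groth.Agent.Lib.Helper17.GrSysCoh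
  Groth.Agent.Lib.Helper17.StalkBC

noncomputable section

section iso

variable {X : Scheme.{u}}

/-- a morphism of sheaves of modules which is bijective on all sections is an isomorphism. -/
theorem isIso_of_bijective_app {M N : X.Modules} (φ : M ⟶ N)
    (hb : ∀ T : X.Opens, Function.Bijective (φ.app T)) : IsIso φ := by
  haveI : Mono φ := by
    haveI : Mono ((SheafOfModules.forget _).map φ) :=
      PresheafOfModules.mono_of_injective (f := φ.val) (fun V => (hb V.unop).1)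
    exact (SheafOfModules.forget _).mono_of_mono_map inferInstance
  haveI : Epi φ := by
    have hls : Presheaf.IsLocallySurjective (Opens.grothendieckTopology X)
        ((PresheafOfModules.toPresheaf _).map φ.val) := by
      apply Presheaf.isLocallySurjective_of_surjective
      intro V s
      exact (hb V.unop).2 s
    haveI : Sheaf.IsLocallySurjective ((SheafOfModules.toSheaf _).map φ) := hls
    haveI : Epi ((SheafOfModules.toSheaf _).map φ) :=
      (Sheaf.isLocallySurjective_iff_epi' AddCommGrpCat.{u} _).1 inferInstance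
    exact (SheafOfModules.toSheaf _).epi_of_epi_map inferInstance
  exact isIso_of_mono_of_epi φ

end iso

section basic

variable {A : Type u} [CommRing A] {X : Scheme.{u}} [X.Over (Spec (CommRingCat.of A))]

theorem basicOpen_ρ (U : X.Opens) (a : A) :
    X.basicOpen (ρ (A := A) U a : Γ(X, U)) =
      U ⊓ (X ↘ Spec (CommRingCat.of A)) ⁻¹ᵁ (PrimeSpectrum.basicOpen a) := by
  have h1 : X.basicOpen (ρ (A := A) U a : Γ(X, U)) = U ⊓ X.basicOpen
      ((X ↘ Spec (CommRingCat.of A)).appTop ((Scheme.ΓSpecIso (CommRingCat.of A)).inv a)) :=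
    Scheme.basicOpen_res _ _ _
  rw [h1, ← Scheme.preimage_basicOpen_top, basicOpen_eq_of_affine]

end basic

section main

variable {X Y : Scheme.{u}} (f : X ⟶ Y) [QuasiCompact f] [QuasiSeparated f]
  [IsLocallyNoetherian X] (y : Y)
  (F G : X.Modules) (hF : Coh.IsCoh F) (hG : Coh.IsCoh G)
  (X₁ : Scheme.{u}) [X₁.Over (Spec (CommRingCat.of (Y.presheaf.stalk y)))] (g : X₁ ⟶ X)
  (hsq : IsPullback g (X₁ ↘ Spec (CommRingCat.of (Y.presheaf.stalk y))) f (Y.fromSpecStalk y))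

include hsq hF hG in
/-- **spreading out**: coherent modules on `X` which become isomorphic over `Spec O_{Y,y}` are
isomorphic over `f⁻¹ U` for an open neighbourhood `U` of `y`. -/
theorem exists_nhd_iso_of_iso_over_stalk
    (e : (Scheme.Modules.pullback g).obj F ≅ (Scheme.Modules.pullback g).obj G) :
    ∃ U : Y.Opens, y ∈ U ∧ Nonempty (F.restrict (f ⁻¹ᵁ U).ι ≅ G.restrict (f ⁻¹ᵁ U).ι) := by
  obtain ⟨V, hV, hy, -⟩ := exists_isAffineOpen_mem_and_subset (x := y) (U := ⊤) trivial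
  letI : Algebra Γ(Y, V) (Y.presheaf.stalk y) := Y.presheaf.algebra_section_stalk ⟨y, hy⟩
  haveI := hV.isLocalization_stalk ⟨y, hy⟩
  letI := overRes f hV
  haveI : CompactSpace (f ⁻¹ᵁ V : Scheme.{u}) :=
    QuasiCompact.compactSpace_of_compactSpace (hRes f hV)
  haveI : QuasiSeparatedSpace (f ⁻¹ᵁ V : Scheme.{u}) :=
    quasiSeparatedSpace_of_quasiSeparated (hRes f hV)
  haveI : IsLocallyNoetherian (f ⁻¹ᵁ V : Scheme.{u}) :=
    isLocallyNoetherian_of_isOpenImmersion (f ⁻¹ᵁ V).ι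
  have hFV := Groth.Agent.Lib.Helper17.FinLoc.isCoh_restrict (f ⁻¹ᵁ V).ι F hF
  have hGV := Groth.Agent.Lib.Helper17.FinLoc.isCoh_restrict (f ⁻¹ᵁ V).ι G hG
  let i4 : ∀ M : X.Modules, (Scheme.Modules.pullback (g₂ f hV y hy X₁ g hsq)).obj
      ((Scheme.Modules.restrictFunctor (f ⁻¹ᵁ V).ι).obj M) ≅
      (Scheme.Modules.pullback g).obj M := fun M =>
    (Scheme.Modules.pullback (g₂ f hV y hy X₁ g hsq)).mapIso
      ((Scheme.Modules.restrictFunctorIsoPullback (f ⁻¹ᵁ V).ι).app M) ≪≫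
    (Scheme.Modules.pullbackComp (g₂ f hV y hy X₁ g hsq) (f ⁻¹ᵁ V).ι).app M ≪≫
    (Scheme.Modules.pullbackCongr (g₂_ι f hV y hy X₁ g hsq)).app M
  obtain ⟨q, hq, u, hbij⟩ := exists_bijective_of_iso
    (hV.primeIdealOf ⟨y, hy⟩).asIdeal.primeCompl (g₂ f hV y hy X₁ g hsq)
    (isPullback_g₂ f hV y hy X₁ g hsq) _ _ hFV hGV (i4 F ≪≫ e ≪≫ (i4 G).symm)
  let D : (Spec (CommRingCat.of Γ(Y, V))).Opens := PrimeSpectrum.basicOpen q
  let U : Y.Opens := V.ι ''ᵁ (hV.isoSpec.hom ⁻¹ᵁ D)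
  have hyU : y ∈ U := ⟨⟨y, hy⟩, hq, rfl⟩
  have hUV : U ≤ V := by
    rintro _ ⟨x, -, rfl⟩
    exact x.2
  have hle : f ⁻¹ᵁ U ≤ f ⁻¹ᵁ V := fun x hx => hUV hx
  let k : (f ⁻¹ᵁ U : Scheme.{u}) ⟶ (f ⁻¹ᵁ V : Scheme.{u}) := X.homOfLE hle
  have hk : k ≫ (f ⁻¹ᵁ V).ι = (f ⁻¹ᵁ U).ι := X.homOfLE_ι hle
  have hkT : ∀ T : (f ⁻¹ᵁ U : Scheme.{u}).Opens, k ''ᵁ T ≤
      (f ⁻¹ᵁ V : Scheme.{u}).basicOpen (ρ (A := Γ(Y, V)) ⊤ q : Γ((f ⁻¹ᵁ V : Scheme.{u}), ⊤)) := by
    rintro T _ ⟨t, -, rfl⟩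
    rw [basicOpen_ρ]
    refine ⟨trivial, ?_⟩
    change hV.isoSpec.hom ((f ∣_ V) (k t)) ∈ D
    have h1 : V.ι ((f ∣_ V) (k t)) = f ((f ⁻¹ᵁ U).ι t) := by
      have e1 := congrArg (fun φ => φ.base (k t)) (morphismRestrict_ι f V)
      have e2 := congrArg (fun φ => φ.base t) hk
      exact e1.trans (congrArg f.base e2)
    have h2 : f ((f ⁻¹ᵁ U).ι t) ∈ U := t.2
    rw [← h1] at h2
    obtain ⟨z, hz, hz'⟩ := h2
    have h3 : z = (f ∣_ V) (k t) := V.ι.isOpenEmbedding.injective hz'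
    rw [← h3]
    exact hz
  haveI : IsIso ((Scheme.Modules.restrictFunctor k).map u) :=
    isIso_of_bijective_app _ (fun T => hbij (k ''ᵁ T) (hkT T))
  let eM : ∀ M : X.Modules, M.restrict (f ⁻¹ᵁ U).ι ≅ (Scheme.Modules.restrictFunctor k).obj
      ((Scheme.Modules.restrictFunctor (f ⁻¹ᵁ V).ι).obj M) := fun M =>
    (Scheme.Modules.restrictFunctorCongr hk.symm).app M ≪≫
      (Scheme.Modules.restrictFunctorComp k (f ⁻¹ᵁ V).ι).app M
  exact ⟨U, hyU, ⟨eM F ≪≫ asIso ((Scheme.Modules.restrictFunctor k).map u) ≪≫ (eM G).symm⟩⟩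

end main

end

end Groth.Agent.Lib.Helper17.Spread
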