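import Mathlib
import Groth.Agent.Lib.Helper17SpreadD
import Groth.Agent.Lib.Helper23GG
import Groth.Agent.Lib.Helper23SecTw10
import Groth.Agent.Lib.Helper23PB
import Groth.Agent.Lib.Helper23AmpleIso
import Groth.Agent.Lib.Helper20FormalPull
import Groth.Agent.Lib.Helper18PBUnit2
import Groth.Agent.Lib.Helper17FlatDev4
import Groth.Agent.Lib.Helper21HZB9
import Groth.Agent.Lib.Helper20WeakAss
import Groth.Agent.Lib.Helper23TensorUnit

/-!
# Helper17: spreading out generating sections of an invertible module from `Spec O_{Y,y}`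

* `exists_section_genLocus`: in the localization setting of `Helper17SpreadB/C`, a section of `g'^* L`
  generating at `x'` comes (up to a unit) from a section of `L` generating at `g' x'`.
-/

set_option autoImplicit false
universe u
open CategoryTheory CategoryTheory.Limits AlgebraicGeometry TopologicalSpace Opposite

namespace Groth.Agent.Lib.Helper17.Spread

open Groth.Agent.Lib.Helper17.FFaith Groth.Agent.Lib.Helper17.FlatDev
  Groth.Agent.Helper18PBUnit Groth.Agent.Lib.Helper1.PT Groth.Agent.Lib.Helper17.GrSysCoh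
  Groth.Agent.Lib.Helper17.StalkBC

noncomputable section

section unitIso

variable {X : Scheme.{u}}

/-- multiplication by a unit global function, as an automorphism. -/
def smulIso (N : X.Modules) (c : Coh.Γtop X) (hc : IsUnit c) : N ≅ N where
  hom := Formal.smulModΓ N c
  inv := Formal.smulModΓ N (hc.unit⁻¹ : (Coh.Γtop X)ˣ)
  hom_inv_id := by
    rw [← KLin.smulModΓ_mul, IsUnit.mul_val_inv, KLin.smulModΓ_one]
  inv_hom_id := by
    rw [← KLin.smulModΓ_mul, IsUnit.val_inv_mul, KLin.smulModΓ_one]

end unitIso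

section spread

variable {A R' : Type u} [CommRing A] [CommRing R'] [Algebra A R'] (S : Submonoid A)
  [IsLocalization S R']
  {X X' : Scheme.{u}} [X.Over (Spec (CommRingCat.of A))] [X'.Over (Spec (CommRingCat.of R'))]
  (g' : X' ⟶ X)
  (h : IsPullback g' (X' ↘ Spec (CommRingCat.of R')) (X ↘ Spec (CommRingCat.of A))
    (Spec.map (CommRingCat.ofHom (algebraMap A R'))))
  [CompactSpace X] [QuasiSeparatedSpace X] [IsLocallyNoetherian X]

include S h in
theorem exists_section_genLocus (L : X.Modules) (hL : PicF.IsInvertible L) (x' : X')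
    (t : Coh.structureModule X' ⟶ (plb g').obj L)
    (hx' : x' ∈ CohB1.genLocus ((plb g').obj L) t) :
    ∃ u : Coh.structureModule X ⟶ L, g' x' ∈ CohB1.genLocus L u := by
  haveI : L.IsQuasicoherent := Groth.Agent.Lib.Helper20.WeakAss.isQuasicoherent_of_isInvertible L hL
  have hO : Coh.IsCoh (Coh.structureModule X) :=
    Groth.Agent.Lib.Helper21.HZB.isCoh_of_isFinLocFree _
      (isFinLocFree_of_isInvertible
        (Groth.Agent.Lib.Helper23.TensorUnit.isInvertible_structureModule X))
  let e : Coh.structureModule X' ≅ (plb g').obj (Coh.structureModule X) :=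
    (Groth.Agent.Lib.Helper23.PB.pullbackUnitIso g').symm
  let w : Coh.structureModule X ⟶ (psh g').obj ((plb g').obj L) :=
    (ppAdj g').homEquiv _ _ (e.inv ≫ t)
  obtain ⟨s, hs, u, hu⟩ := exists_hom_of_hom_unit S g' h (Coh.structureModule X) L hO w
  refine ⟨u, ?_⟩
  have hgl := Groth.Agent.Lib.Helper23.PB.genLocus_pullback g' L hL u e
  suffices hmem : x' ∈ CohB1.genLocus ((plb g').obj L) (e.hom ≫ (plb g').map u) by
    rw [hgl] at hmem
    exact hmem
  set c : Coh.Γtop X' := g'.appTop.hom (Coh.toGlobal (X ↘ Spec (CommRingCat.of A)) s) with hc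
  have hcu : IsUnit c := by
    rw [hc, appTop_toGlobal (algebraMap A R') g' (X' ↘ Spec (CommRingCat.of R')) h s]
    exact ((IsLocalization.map_units R' ⟨s, hs⟩).map _).map _
  have h1 : (ppAdj g').homEquiv _ _ ((plb g').map u) = u ≫ unitG g' L := by
    rw [Adjunction.homEquiv_unit]
    exact ((ppAdj g').unit.naturality u).symm
  have h2 : Formal.smulMod A ((psh g').obj ((plb g').obj L)) s =
      (psh g').map (Formal.smulModΓ ((plb g').obj L) c) := by
    rw [hc, Groth.Agent.Lib.Helper20.FormalPull.pushforward_map_smulModΓ]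
    rfl
  have h3 : (ppAdj g').homEquiv _ _ ((plb g').map u) =
      (ppAdj g').homEquiv _ _ ((e.inv ≫ t) ≫ Formal.smulModΓ ((plb g').obj L) c) := by
    rw [h1, hu, h2, Adjunction.homEquiv_naturality_right]
  have h4 := ((ppAdj g').homEquiv _ _).injective h3
  rw [h4, Category.assoc, Iso.hom_inv_id_assoc]
  have h5 := Groth.Agent.Lib.Helper23.AmpleIso.genLocus_comp_iso
    (smulIso ((plb g').obj L) c hcu) t
  change CohB1.genLocus _ (t ≫ Formal.smulModΓ ((plb g').obj L) c) = _ at h5
  rw [h5]
  exact hx'

end spread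

end

end Groth.Agent.Lib.Helper17.Spread
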