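import Groth.Agent.Lib.Helper17FinProjLoc
import Groth.Agent.Lib.Helper13PullbackUnit

/-!
# Sections of higher direct images over an affine open of the base (helper17)
-/

set_option autoImplicit false
universe u
open CategoryTheory Limits AlgebraicGeometry TopologicalSpace Opposite

namespace Groth.Agent.Lib.Helper17.StalkBC

open Groth.Agent.Lib.Helper17.GammaA Groth.Agent.Lib.Helper17.FinLoc
  Groth.Agent.Lib.Helper17.FinAff

section Sections

variable {Y : Scheme.{u}} {V : Y.Opens} (hV : IsAffineOpen V) (G : Y.Modules)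

/-- the module on `Spec Γ(Y, V)` attached to `G` and the affine open `V`. -/
noncomputable abbrev onSpec : (Spec (CommRingCat.of Γ(Y, V))).Modules :=
  (Scheme.Modules.pushforward hV.isoSpec.hom).obj ((Scheme.Modules.restrictFunctor V.ι).obj G)

theorem le_image : V ≤ V.ι ''ᵁ (hV.isoSpec.hom ⁻¹ᵁ ⊤) := by
  change V ≤ V.ι ''ᵁ ⊤
  rw [Scheme.Opens.ι_image_top]

theorem image_eq : V.ι ''ᵁ (hV.isoSpec.hom ⁻¹ᵁ ⊤) = V := by
  change V.ι ''ᵁ ⊤ = V
  rw [Scheme.Opens.ι_image_top]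

/-- the underlying map of `sectionsEquiv`. -/
noncomputable def secMap : (gS Γ(Y, V)).obj (onSpec hV G) →+ Γ(G, V) :=
  (G.presheaf.map (homOfLE (le_image hV)).op).hom

theorem secMap_bijective : Function.Bijective (secMap hV G) :=
  Groth.Agent.Helper13PullbackUnit.map_bijective_of_eq G (image_eq hV).symm _

theorem secMap_smul (a : Γ(Y, V)) (x : (gS Γ(Y, V)).obj (onSpec hV G)) :
    secMap hV G (a • x) = a • secMap hV G x := by
  have h1 : a • x = @HSMul.hSMul Γ(Y, V.ι ''ᵁ (hV.isoSpec.hom ⁻¹ᵁ ⊤))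
      Γ(G, V.ι ''ᵁ (hV.isoSpec.hom ⁻¹ᵁ ⊤)) Γ(G, V.ι ''ᵁ (hV.isoSpec.hom ⁻¹ᵁ ⊤)) _
      ((V.ι.appIso (hV.isoSpec.hom ⁻¹ᵁ ⊤)).inv (hV.isoSpec.hom.app ⊤
        ((Scheme.ΓSpecIso (CommRingCat.of Γ(Y, V))).inv a))) x := rfl
  rw [h1]
  change (G.presheaf.map (homOfLE (le_image hV)).op).hom _ = _
  rw [Scheme.Modules.map_smul]
  congr 1
  have h2 : (hV.isoSpec.hom.app ⊤).hom ((Scheme.ΓSpecIso (CommRingCat.of Γ(Y, V))).inv.hom a) =
      V.topIso.inv.hom a := by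
    have h3 := ConcreteCategory.congr_hom hV.isoSpec_hom_appTop
      ((Scheme.ΓSpecIso (CommRingCat.of Γ(Y, V))).inv.hom a)
    refine h3.trans ?_
    rw [CommRingCat.comp_apply]
    congr 1
    exact Iso.inv_hom_id_apply (Scheme.ΓSpecIso (CommRingCat.of Γ(Y, V))) a
  refine (congrArg (fun t => (Y.presheaf.map (homOfLE (le_image hV)).op).hom
    ((V.ι.appIso (hV.isoSpec.hom ⁻¹ᵁ ⊤)).inv.hom t)) h2).trans ?_
  rw [Scheme.Opens.ι_appIso]
  change (V.topIso.inv ≫ Y.presheaf.map (homOfLE (le_image hV)).op).hom a = a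
  rw [Scheme.Opens.topIso_inv]
  have h5 : ∀ (W : Y.Opens) (_ : V = W) (i : op V ⟶ op W) (k : op W ⟶ op V),
      (Y.presheaf.map i ≫ Y.presheaf.map k) = 𝟙 _ := by
    intro W hW i k
    subst hW
    rw [← Functor.map_comp]
    have : i ≫ k = 𝟙 _ := Subsingleton.elim _ _
    rw [this, CategoryTheory.Functor.map_id]
  exact congrArg (fun t : Γ(Y, V) ⟶ Γ(Y, V) => t.hom a)
    (h5 (V.ι ''ᵁ (hV.isoSpec.hom ⁻¹ᵁ ⊤)) (image_eq hV).symm _ _)

/-- `Γ(Spec Γ(Y,V), (G|_V)^~) ≃ Γ(G, V)`, linearly. -/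
noncomputable def sectionsEquiv : (gS Γ(Y, V)).obj (onSpec hV G) ≃ₗ[Γ(Y, V)] Γ(G, V) :=
  LinearEquiv.ofBijective
    { toFun := secMap hV G
      map_add' := (secMap hV G).map_add
      map_smul' := secMap_smul hV G } (secMap_bijective hV G)

end Sections

section Rpush

local instance (X : Scheme.{u}) : EnoughInjectives X.Modules :=
  Groth.Agent.Lib.Helper17.QCPush.enoughInjectives X

variable {X Y : Scheme.{u}} (f : X ⟶ Y) [QuasiCompact f] [QuasiSeparated f]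
  (F : X.Modules) [Coh.IsQCoh F] {V : Y.Opens} (hV : IsAffineOpen V) (p : ℕ)

/-- the structure morphism of `f⁻¹V` over `Spec Γ(Y, V)`. -/
noncomputable abbrev hRes : (f ⁻¹ᵁ V : Scheme.{u}) ⟶ Spec (CommRingCat.of Γ(Y, V)) :=
  (f ∣_ V) ≫ hV.isoSpec.hom

/-- `f⁻¹V` as a scheme over `Spec Γ(Y, V)`. -/
noncomputable abbrev overRes : (f ⁻¹ᵁ V : Scheme.{u}).Over (Spec (CommRingCat.of Γ(Y, V))) :=
  ⟨hRes f hV⟩

/-- **sections of `R^p f_* F` over an affine open `V`** are `H^p(f⁻¹V, F)`, linearly over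
`Γ(Y, V)`. -/
theorem nonempty_sections_linearEquiv :
    letI := overRes f hV
    Nonempty (Γ((Coh.Rpush f p).obj F, V) ≃ₗ[Γ(Y, V)]
      Coh.HH (f ⁻¹ᵁ V : Scheme.{u}) ((Scheme.Modules.restrictFunctor (f ⁻¹ᵁ V).ι).obj F) p) := by
  letI := overRes f hV
  haveI : Coh.IsQCoh ((Scheme.Modules.restrictFunctor (f ⁻¹ᵁ V).ι).obj F) :=
    Scheme.Modules.isQuasicoherent_restrictFunctor (f ⁻¹ᵁ V).ι F
  obtain ⟨ea⟩ := nonempty_Rpush_restrict_iso f V F p
  obtain ⟨eb⟩ := nonempty_Rpush_comp_closedImmersion (f ∣_ V) hV.isoSpec.hom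
    ((Scheme.Modules.restrictFunctor (f ⁻¹ᵁ V).ι).obj F) p
  obtain ⟨ec⟩ := nonempty_gS_Rpush_iso (hRes f hV)
    ((Scheme.Modules.restrictFunctor (f ⁻¹ᵁ V).ι).obj F) p
  obtain ⟨ed⟩ := Groth.Agent.Lib.Helper17.GammaA.nonempty_lb Γ(Y, V) p
    ((Scheme.Modules.restrictFunctor (f ⁻¹ᵁ V).ι).obj F)
  let e1 := (sectionsEquiv hV ((Coh.Rpush f p).obj F)).symm
  let e2 := ((gS Γ(Y, V)).mapIso ((Scheme.Modules.pushforward hV.isoSpec.hom).mapIso ea)).toLinearEquiv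
  let e3 := ((gS Γ(Y, V)).mapIso eb.symm).toLinearEquiv
  let e4 := ec.toLinearEquiv
  exact ⟨e1.trans (e2.trans (e3.trans (e4.trans ed)))⟩

end Rpush

end Groth.Agent.Lib.Helper17.StalkBC
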