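import Groth.Agent.Lib.Helper17StalkBC1
import Groth.Agent.Lib.Helper2FlatOver

/-!
# The stalk of a quasi-coherent module as a base change of its sections over an affine open
(helper17)
-/

set_option autoImplicit false
universe u
open CategoryTheory Limits AlgebraicGeometry TopologicalSpace Opposite TensorProduct

namespace Groth.Agent.Lib.Helper17.StalkBC

open Groth.Agent.Lib.Helper2.FlatOver

variable {Y : Scheme.{u}} {V : Y.Opens} (hV : IsAffineOpen V) (G : Y.Modules) [G.IsQuasicoherent]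
  (y : Y) (hy : y ∈ V)

include hV in
/-- `O_{Y,y} ⊗_{Γ(Y,V)} Γ(G, V) ≃ G_y` for `G` quasi-coherent and `V ∋ y` affine. -/
theorem nonempty_stalk_linearEquiv :
    letI : Algebra Γ(Y, V) (Y.presheaf.stalk y) := Y.presheaf.algebra_section_stalk ⟨y, hy⟩
    Nonempty ((Y.presheaf.stalk y) ⊗[Γ(Y, V)] Γ(G, V) ≃ₗ[Y.presheaf.stalk y]
      G.presheaf.stalk y) := by
  letI : Algebra Γ(Y, V) (Y.presheaf.stalk y) := Y.presheaf.algebra_section_stalk ⟨y, hy⟩
  letI := moduleStalkSections G V y hy
  haveI := isLocalizedModule_germ hV G y hy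
  haveI := hV.isLocalization_stalk ⟨y, hy⟩
  haveI : IsScalarTower Γ(Y, V) (Y.presheaf.stalk y) (G.presheaf.stalk y) :=
    ⟨fun a b m => by
      change (Y.presheaf.germ V y hy a * b) • m = Y.presheaf.germ V y hy a • (b • m)
      rw [mul_smul]⟩
  exact ⟨(IsLocalizedModule.isBaseChange (hV.primeIdealOf ⟨y, hy⟩).asIdeal.primeCompl
    (Y.presheaf.stalk y) (germₗ G V y hy)).equiv⟩

end Groth.Agent.Lib.Helper17.StalkBC
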