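-- helper17: the 2-fibre product of stacks in setoids.
import Groth.Agent.Lib.Helper17StkFp
import Groth.Agent.Lib.Helper17FibFp3

set_option autoImplicit false
open CategoryTheory CategoryTheory.Functor

universe v₁ u₁ v₂ u₂ v₃ u₃ v₄ u₄ v u

namespace Groth.Agent.Lib.Helper17

section FpSetoid2

variable {C : Type u} [Category.{v} C] {𝒳 : BasedCategory.{v₂, u₂} C}
  {𝒴 : BasedCategory.{v₃, u₃} C} {𝒮 : BasedCategory.{v₄, u₄} C}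
  (F : 𝒳 ⥤ᵇ 𝒮) (G : 𝒴 ⥤ᵇ 𝒮)

/-- If the fibres of `𝒳` and `𝒴` are thin, the fibres of `𝒳 ×_𝒮 𝒴` are thin. -/
theorem fp_fiber_isThin' (h𝒳 : ∀ U : C, Quiver.IsThin (𝒳.p.Fiber U))
    (h𝒴 : ∀ U : C, Quiver.IsThin (𝒴.p.Fiber U))
    (U : C) : Quiver.IsThin ((FibCat.fp F G).p.Fiber U) := by
  intro X Y
  refine ⟨fun m m' => ?_⟩
  apply Subtype.ext
  have hm : (FibCat.fp F G).p.IsHomLift (𝟙 U) m.1 := m.2
  have hm' : (FibCat.fp F G).p.IsHomLift (𝟙 U) m'.1 := m'.2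
  have h2 : 𝒴.p.IsHomLift (𝟙 U) m.1.hom.snd := fp_isHomLift_snd' F G (𝟙 U) m.1
  have h2' : 𝒴.p.IsHomLift (𝟙 U) m'.1.hom.snd := fp_isHomLift_snd' F G (𝟙 U) m'.1
  have h1 : 𝒳.p.IsHomLift (𝟙 U) m.1.hom.fst := fp_isHomLift_fst' F G (𝟙 U) m.1
  have h1' : 𝒳.p.IsHomLift (𝟙 U) m'.1.hom.fst := fp_isHomLift_fst' F G (𝟙 U) m'.1
  have hXs : 𝒴.p.obj X.1.obj.snd = U := IsHomLift.domain_eq 𝒴.p (𝟙 U) m.1.hom.snd
  have hYs : 𝒴.p.obj Y.1.obj.snd = U := IsHomLift.codomain_eq 𝒴.p (𝟙 U) m.1.hom.snd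
  have hXf : 𝒳.p.obj X.1.obj.fst = U := IsHomLift.domain_eq 𝒳.p (𝟙 U) m.1.hom.fst
  have hYf : 𝒳.p.obj Y.1.obj.fst = U := IsHomLift.codomain_eq 𝒳.p (𝟙 U) m.1.hom.fst
  have esnd : m.1.hom.snd = m'.1.hom.snd := by
    let A : 𝒴.p.Fiber U := ⟨X.1.obj.snd, hXs⟩
    let B : 𝒴.p.Fiber U := ⟨Y.1.obj.snd, hYs⟩
    let k : A ⟶ B := ⟨m.1.hom.snd, h2⟩
    let k' : A ⟶ B := ⟨m'.1.hom.snd, h2'⟩
    have : k = k' := @Subsingleton.elim _ ((h𝒴 U) A B) _ _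
    exact congrArg Subtype.val this
  have efst : m.1.hom.fst = m'.1.hom.fst := by
    let A : 𝒳.p.Fiber U := ⟨X.1.obj.fst, hXf⟩
    let B : 𝒳.p.Fiber U := ⟨Y.1.obj.fst, hYf⟩
    let k : A ⟶ B := ⟨m.1.hom.fst, h1⟩
    let k' : A ⟶ B := ⟨m'.1.hom.fst, h1'⟩
    have : k = k' := @Subsingleton.elim _ ((h𝒳 U) A B) _ _
    exact congrArg Subtype.val this
  apply ObjectProperty.hom_ext
  apply Limits.CategoricalPullback.hom_ext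
  · exact efst
  · exact esnd

theorem isFibSetoid_fp' (h𝒳 : FibCat.IsFibSetoid 𝒳.p) (h𝒴 : FibCat.IsFibSetoid 𝒴.p)
    (h𝒮 : FibCat.IsFibGrpd 𝒮.p) : FibCat.IsFibSetoid (FibCat.fp F G).p :=
  ⟨isFibGrpd_fp F G h𝒳.1 h𝒴.1 h𝒮, fp_fiber_isThin' F G h𝒳.2 h𝒴.2⟩

end FpSetoid2

end Groth.Agent.Lib.Helper17
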