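-- helper17: functors over the base between categories fibred in groupoids are cover preserving,
-- cocontinuous and continuous for the inherited topologies.
import Mathlib.CategoryTheory.Sites.CoverPreserving
import Mathlib.CategoryTheory.Sites.CoverLifting
import Mathlib.CategoryTheory.Sites.Continuous
import Groth.Agent.Lib.Helper17StkTop

set_option autoImplicit false
open CategoryTheory CategoryTheory.Functor

universe w v₃ u₃ v₂ u₂ v u

namespace Groth.Agent.Lib.Helper17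

section InheritedTopology2

variable {C : Type u} [Category.{v} C] {𝒳 : Type u₂} [Category.{v₂} 𝒳]
  {𝒴 : Type u₃} [Category.{v₃} 𝒴] (F : 𝒳 ⥤ 𝒴) (q : 𝒴 ⥤ C)

theorem compatiblePreserving_of_isFibGrpd (hq : FibCat.IsFibGrpd q)
    (hp : FibCat.IsFibGrpd (F ⋙ q)) (K : GrothendieckTopology 𝒴) :
    CompatiblePreserving.{w} K F := by
  constructor
  intro ℱ Z T x hx Y₁ Y₂ X f₁ f₂ g₁ g₂ hg₁ hg₂ e
  obtain ⟨Y₁', α₁, hα₁⟩ := hp.exists_lift (x := Y₁) (q.map f₁)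
  obtain ⟨Y₂', α₂, hα₂⟩ := hp.exists_lift (x := Y₂) (q.map f₂)
  have hFα₁ : q.IsHomLift (q.map f₁) (F.map α₁) := (isHomLift_comp_iff F q _ _).1 hα₁
  have hFα₂ : q.IsHomLift (q.map f₂) (F.map α₂) := (isHomLift_comp_iff F q _ _).1 hα₂
  have sc₁ := IsFibGrpd.isStronglyCartesian_of_isHomLift hq (q.map f₁) (F.map α₁)
  have sc₂ := IsFibGrpd.isStronglyCartesian_of_isHomLift hq (q.map f₂) (F.map α₂)
  obtain ⟨σ₁, ⟨hσ₁, eσ₁⟩, -⟩ := IsStronglyCartesian.universal_property q (q.map f₁) (F.map α₁)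
    (𝟙 (q.obj X)) (q.map f₁) (Category.id_comp _).symm f₁
  obtain ⟨σ₂, ⟨hσ₂, eσ₂⟩, -⟩ := IsStronglyCartesian.universal_property q (q.map f₂) (F.map α₂)
    (𝟙 (q.obj X)) (q.map f₂) (Category.id_comp _).symm f₂
  have hm : q.map f₁ ≫ (F ⋙ q).map g₁ = q.map f₂ ≫ (F ⋙ q).map g₂ := by
    have := congrArg q.map e
    simpa using this
  have hφ₂ : (F ⋙ q).IsHomLift (q.map f₂ ≫ (F ⋙ q).map g₂) (α₂ ≫ g₂) := inferInstance
  have hφ₁ : (F ⋙ q).IsHomLift (q.map f₂ ≫ (F ⋙ q).map g₂) (α₁ ≫ g₁) := by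
    rw [← hm]
    infer_instance
  have scφ₂ := IsFibGrpd.isStronglyCartesian_of_isHomLift hp
    (q.map f₂ ≫ (F ⋙ q).map g₂) (α₂ ≫ g₂)
  obtain ⟨β, ⟨hβ, eβ⟩, -⟩ := IsStronglyCartesian.universal_property (F ⋙ q)
    (q.map f₂ ≫ (F ⋙ q).map g₂) (α₂ ≫ g₂)
    (𝟙 (q.obj X)) (q.map f₂ ≫ (F ⋙ q).map g₂) (Category.id_comp _).symm (α₁ ≫ g₁)
  have hFβ : q.IsHomLift (𝟙 (q.obj X)) (F.map β) := (isHomLift_comp_iff F q _ _).1 hβ
  have hcompat : ℱ.obj.map (F.map α₁).op (x g₁ hg₁) =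
      ℱ.obj.map (F.map (β ≫ α₂)).op (x g₂ hg₂) :=
    hx α₁ (β ≫ α₂) hg₁ hg₂ (by rw [Category.assoc]; exact eβ.symm)
  -- the key equality of lifts
  have hFφ₂ : q.IsHomLift (q.map f₂ ≫ (F ⋙ q).map g₂) (F.map (α₂ ≫ g₂)) :=
    (isHomLift_comp_iff F q _ _).1 hφ₂
  have scFφ₂ := IsFibGrpd.isStronglyCartesian_of_isHomLift hq
    (q.map f₂ ≫ (F ⋙ q).map g₂) (F.map (α₂ ≫ g₂))
  have h11 : q.IsHomLift (𝟙 (q.obj X)) (σ₁ ≫ F.map β) := by
    have : q.IsHomLift (𝟙 (q.obj X) ≫ 𝟙 (q.obj X)) (σ₁ ≫ F.map β) := inferInstance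
    simpa using this
  have key : σ₁ ≫ F.map β = σ₂ := by
    apply IsStronglyCartesian.ext q (q.map f₂ ≫ (F ⋙ q).map g₂) (F.map (α₂ ≫ g₂))
      (𝟙 (q.obj X))
    rw [Category.assoc, ← F.map_comp, eβ, F.map_comp, F.map_comp, ← Category.assoc,
      ← Category.assoc, eσ₁, eσ₂]
    exact e
  have e1 : f₁ = σ₁ ≫ F.map α₁ := eσ₁.symm
  have e2 : f₂ = (σ₁ ≫ F.map β) ≫ F.map α₂ := by rw [key]; exact eσ₂.symm
  rw [e1, e2, show (σ₁ ≫ F.map β) ≫ F.map α₂ = σ₁ ≫ F.map (β ≫ α₂) by simp, op_comp, op_comp,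
    Functor.map_comp_apply, Functor.map_comp_apply, hcompat]


theorem coverPreserving_of_isFibGrpd (hq : FibCat.IsFibGrpd q) (hp : FibCat.IsFibGrpd (F ⋙ q))
    (J : GrothendieckTopology C) :
    CoverPreserving ((F ⋙ q).restrictedTopology J) (q.restrictedTopology J) F := by
  constructor
  intro x S hS
  rw [mem_restrictedTopology_iff_of_isFibGrpd hp] at hS
  rw [mem_restrictedTopology_iff_of_isFibGrpd hq, ← Sieve.functorPushforward_comp]
  exact hS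

theorem functorPushforward_le_functorPullback (hq : FibCat.IsFibGrpd q)
    (hp : FibCat.IsFibGrpd (F ⋙ q)) {x : 𝒳} (S : Sieve (F.obj x)) :
    S.functorPushforward q ≤ (S.functorPullback F).functorPushforward (F ⋙ q) := by
  rintro V g ⟨z, ψ, h, hψ, rfl⟩
  -- lift `h ≫ q.map ψ` to `𝒳`
  obtain ⟨y, φ, hφ⟩ := hp.exists_lift (x := x) (h ≫ q.map ψ)
  have hFφ : q.IsHomLift (h ≫ q.map ψ) (F.map φ) := (isHomLift_comp_iff F q _ _).1 hφ
  -- lift `h` to `𝒴`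
  obtain ⟨z', χ, hχ⟩ := hq.exists_lift (x := z) h
  have hχψ : q.IsHomLift (h ≫ q.map ψ) (χ ≫ ψ) := inferInstance
  have sc := IsFibGrpd.isStronglyCartesian_of_isHomLift hq (h ≫ q.map ψ) (χ ≫ ψ)
  obtain ⟨τ, ⟨hτ, eτ⟩, -⟩ := IsStronglyCartesian.universal_property q (h ≫ q.map ψ) (χ ≫ ψ)
    (𝟙 V) (h ≫ q.map ψ) (Category.id_comp _).symm (F.map φ)
  have hS : S (F.map φ) := by
    rw [← eτ]
    exact S.downward_closed (S.downward_closed hψ χ) τ
  obtain rfl := IsHomLift.domain_eq (F ⋙ q) (h ≫ q.map ψ) φ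
  refine ⟨y, φ, 𝟙 _, hS, ?_⟩
  rw [Category.id_comp]
  exact IsHomLift.eq_of_isHomLift (F ⋙ q) (h ≫ q.map ψ) φ

theorem isCocontinuous_of_isFibGrpd (hq : FibCat.IsFibGrpd q) (hp : FibCat.IsFibGrpd (F ⋙ q))
    (J : GrothendieckTopology C) :
    F.IsCocontinuous ((F ⋙ q).restrictedTopology J) (q.restrictedTopology J) := by
  constructor
  intro x S hS
  rw [mem_restrictedTopology_iff_of_isFibGrpd hq] at hS
  rw [mem_restrictedTopology_iff_of_isFibGrpd hp]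
  exact J.superset_covering (functorPushforward_le_functorPullback F q hq hp S) hS

theorem isContinuous_of_isFibGrpd (hq : FibCat.IsFibGrpd q) (hp : FibCat.IsFibGrpd (F ⋙ q))
    (J : GrothendieckTopology C) :
    F.IsContinuous ((F ⋙ q).restrictedTopology J) (q.restrictedTopology J) :=
  Functor.isContinuous_of_coverPreserving (compatiblePreserving_of_isFibGrpd F q hq hp _)
    (coverPreserving_of_isFibGrpd F q hq hp J)

end InheritedTopology2

end Groth.Agent.Lib.Helper17
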