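-- helper17: strictification of a fibred category (objects = pairs (x, f : U ⟶ p x)).
import Groth.Prelude.Def_FibCat2
import Groth.Agent.Lib.Helper17FibEquiv
import Groth.Agent.Lib.Helper17FibCat
import Mathlib.CategoryTheory.FiberedCategory.Grothendieck

set_option autoImplicit false

open CategoryTheory CategoryTheory.Functor Opposite

universe v₂ u₂ v u

namespace Groth.Agent.Lib.Helper17.Strictify

variable {C : Type u} [Category.{v} C] (𝒳 : BasedCategory.{v₂, u₂} C)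

/-- Objects of the fibre of the strictification over `U`: pairs `(x, f : U ⟶ p x)`, thought of as
`f^* x`. -/
@[ext] structure SObj (U : C) where
  x : 𝒳.obj
  f : U ⟶ 𝒳.p.obj x

section Pb

variable {𝒳} [𝒳.p.IsFibered] {U : C}

/-- The chosen pullback `f^* x`. -/
noncomputable def pbo (x : 𝒳.obj) (f : U ⟶ 𝒳.p.obj x) : 𝒳.obj :=
  IsPreFibered.pullbackObj (p := 𝒳.p) (a := x) rfl f

/-- The chosen cartesian arrow `f^* x ⟶ x`. -/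
noncomputable def pbm (x : 𝒳.obj) (f : U ⟶ 𝒳.p.obj x) : pbo x f ⟶ x :=
  IsPreFibered.pullbackMap (p := 𝒳.p) (a := x) rfl f

instance (x : 𝒳.obj) (f : U ⟶ 𝒳.p.obj x) : 𝒳.p.IsStronglyCartesian f (pbm x f) := by
  unfold pbm pbo
  infer_instance

theorem pbo_proj (x : 𝒳.obj) (f : U ⟶ 𝒳.p.obj x) : 𝒳.p.obj (pbo x f) = U :=
  IsHomLift.domain_eq 𝒳.p f (pbm x f)

/-- Lift through the chosen cartesian arrow. -/
noncomputable def lft (x : 𝒳.obj) (f : U ⟶ 𝒳.p.obj x) {V : C} (h : V ⟶ U) {a : 𝒳.obj} (ψ : a ⟶ x)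
    [𝒳.p.IsHomLift (h ≫ f) ψ] : a ⟶ pbo x f :=
  IsStronglyCartesian.map 𝒳.p f (pbm x f) (g := h) rfl ψ

instance (x : 𝒳.obj) (f : U ⟶ 𝒳.p.obj x) {V : C} (h : V ⟶ U) {a : 𝒳.obj} (ψ : a ⟶ x)
    [𝒳.p.IsHomLift (h ≫ f) ψ] : 𝒳.p.IsHomLift h (lft x f h ψ) := by
  unfold lft
  infer_instance

@[reassoc (attr := simp)]
theorem lft_pbm (x : 𝒳.obj) (f : U ⟶ 𝒳.p.obj x) {V : C} (h : V ⟶ U) {a : 𝒳.obj} (ψ : a ⟶ x)
    [𝒳.p.IsHomLift (h ≫ f) ψ] : lft x f h ψ ≫ pbm x f = ψ := by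
  unfold lft
  simp

theorem ext_pbm (x : 𝒳.obj) (f : U ⟶ 𝒳.p.obj x) {V : C} (h : V ⟶ U) {a : 𝒳.obj}
    (α β : a ⟶ pbo x f) [𝒳.p.IsHomLift h α] [𝒳.p.IsHomLift h β]
    (w : α ≫ pbm x f = β ≫ pbm x f) : α = β :=
  IsStronglyCartesian.ext 𝒳.p f (pbm x f) h w

end Pb

namespace SObj

variable {𝒳} [𝒳.p.IsFibered] {U : C} (A : SObj 𝒳 U)

/-- The chosen pullback `f^* x`. -/
noncomputable abbrev pb : 𝒳.obj := pbo A.x A.f

/-- The chosen cartesian arrow `f^* x ⟶ x`. -/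
noncomputable abbrev π : A.pb ⟶ A.x := pbm A.x A.f

noncomputable instance (U : C) : Category.{v₂} (SObj 𝒳 U) where
  Hom A B := {φ : A.pb ⟶ B.pb // 𝒳.p.IsHomLift (𝟙 U) φ}
  id A := ⟨𝟙 _, IsHomLift.id (pbo_proj A.x A.f)⟩
  comp φ ψ := ⟨φ.1 ≫ ψ.1, by
    have := φ.2
    have := ψ.2
    infer_instance⟩

@[simp] theorem id_val : (𝟙 A : A ⟶ A).1 = 𝟙 A.pb := rfl

@[simp] theorem comp_val {A B D : SObj 𝒳 U} (φ : A ⟶ B) (ψ : B ⟶ D) : (φ ≫ ψ).1 = φ.1 ≫ ψ.1 := rfl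

instance {A B : SObj 𝒳 U} (φ : A ⟶ B) : 𝒳.p.IsHomLift (𝟙 U) φ.1 := φ.2

theorem hom_ext {A B : SObj 𝒳 U} (φ ψ : A ⟶ B) (w : φ.1 ≫ B.π = ψ.1 ≫ B.π) : φ = ψ :=
  Subtype.ext (ext_pbm B.x B.f (𝟙 U) φ.1 ψ.1 w)

theorem eqToHom_val_π (A B : SObj 𝒳 U) (h : A = B) (hx : A.x = B.x) :
    (eqToHom h).1 ≫ pbm B.x B.f = pbm A.x A.f ≫ eqToHom hx := by
  subst h
  simp

/-- Restriction of an object along `h : V ⟶ U`. -/
abbrev resObj {V : C} (h : V ⟶ U) (A : SObj 𝒳 U) : SObj 𝒳 V := ⟨A.x, h ≫ A.f⟩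

/-- The canonical map `(h ≫ f)^* x ⟶ f^* x` over `h`. -/
noncomputable def τ {V : C} (h : V ⟶ U) (A : SObj 𝒳 U) : (A.resObj h).pb ⟶ A.pb :=
  lft A.x A.f h (A.resObj h).π

instance {V : C} (h : V ⟶ U) (A : SObj 𝒳 U) : 𝒳.p.IsHomLift h (A.τ h) := by
  unfold τ
  infer_instance

@[reassoc (attr := simp)]
theorem τ_π {V : C} (h : V ⟶ U) (A : SObj 𝒳 U) : A.τ h ≫ A.π = (A.resObj h).π := by
  unfold τ
  simp

theorem isHomLift_res_aux {V : C} (h : V ⟶ U) {A B : SObj 𝒳 U} (φ : A ⟶ B) :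
    𝒳.p.IsHomLift (𝟙 V ≫ (B.resObj h).f) (A.τ h ≫ φ.1 ≫ B.π) := by
  have h1 : 𝒳.p.IsHomLift (𝟙 U ≫ B.f) (φ.1 ≫ B.π) := inferInstance
  have h2 : 𝒳.p.IsHomLift (h ≫ 𝟙 U ≫ B.f) (A.τ h ≫ φ.1 ≫ B.π) := inferInstance
  simpa using h2

/-- Restriction of a morphism along `h : V ⟶ U`. -/
noncomputable def resMap {V : C} (h : V ⟶ U) {A B : SObj 𝒳 U} (φ : A ⟶ B) :
    A.resObj h ⟶ B.resObj h :=
  have := isHomLift_res_aux h φ
  ⟨lft (B.resObj h).x (B.resObj h).f (𝟙 V) (A.τ h ≫ φ.1 ≫ B.π), inferInstance⟩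

@[reassoc (attr := simp)]
theorem resMap_val_π {V : C} (h : V ⟶ U) {A B : SObj 𝒳 U} (φ : A ⟶ B) :
    (resMap h φ).1 ≫ (B.resObj h).π = A.τ h ≫ φ.1 ≫ B.π := by
  have := isHomLift_res_aux h φ
  exact lft_pbm (B.resObj h).x (B.resObj h).f (𝟙 V) (A.τ h ≫ φ.1 ≫ B.π)

@[reassoc]
theorem resMap_val_τ {V : C} (h : V ⟶ U) {A B : SObj 𝒳 U} (φ : A ⟶ B) :
    (resMap h φ).1 ≫ B.τ h = A.τ h ≫ φ.1 := by
  have h1 : 𝒳.p.IsHomLift h ((resMap h φ).1 ≫ B.τ h) := by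
    have : 𝒳.p.IsHomLift (𝟙 V ≫ h) ((resMap h φ).1 ≫ B.τ h) := inferInstance
    simpa using this
  have h2 : 𝒳.p.IsHomLift h (A.τ h ≫ φ.1) := by
    have : 𝒳.p.IsHomLift (h ≫ 𝟙 U) (A.τ h ≫ φ.1) := inferInstance
    simpa using this
  apply ext_pbm B.x B.f h
  simp

end SObj

/-- The restriction functor of the strictification. -/
noncomputable def res [𝒳.p.IsFibered] {U V : C} (h : V ⟶ U) : SObj 𝒳 U ⥤ SObj 𝒳 V where
  obj A := A.resObj h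
  map φ := SObj.resMap h φ
  map_id A := by
    apply SObj.hom_ext
    simp
  map_comp φ ψ := by
    apply SObj.hom_ext
    simp [SObj.resMap_val_τ_assoc]


namespace SObj

variable {𝒳} [𝒳.p.IsFibered] {U : C}

theorem resObj_id (A : SObj 𝒳 U) : A.resObj (𝟙 U) = A := by
  cases A
  simp [resObj]

theorem resObj_comp {V W : C} (k : W ⟶ V) (h : V ⟶ U) (A : SObj 𝒳 U) :
    A.resObj (k ≫ h) = (A.resObj h).resObj k := by
  cases A
  simp [resObj]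

theorem τ_id (A : SObj 𝒳 U) : A.τ (𝟙 U) = (eqToHom (resObj_id A)).1 := by
  apply ext_pbm A.x A.f (𝟙 U)
  rw [τ_π, eqToHom_val_π (A.resObj (𝟙 U)) A (resObj_id A) rfl]
  simp

theorem τ_comp {V W : C} (k : W ⟶ V) (h : V ⟶ U) (A : SObj 𝒳 U) :
    A.τ (k ≫ h) = (eqToHom (resObj_comp k h A)).1 ≫ (A.resObj h).τ k ≫ A.τ h := by
  have h2 : 𝒳.p.IsHomLift (k ≫ h)
      ((eqToHom (resObj_comp k h A)).1 ≫ (A.resObj h).τ k ≫ A.τ h) := by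
    have : 𝒳.p.IsHomLift (𝟙 W ≫ k ≫ h)
      ((eqToHom (resObj_comp k h A)).1 ≫ (A.resObj h).τ k ≫ A.τ h) := inferInstance
    simpa using this
  apply ext_pbm A.x A.f (k ≫ h)
  rw [τ_π, Category.assoc, Category.assoc, τ_π, τ_π,
    eqToHom_val_π (A.resObj (k ≫ h)) ((A.resObj h).resObj k) (resObj_comp k h A) rfl]
  simp

end SObj

theorem res_id [𝒳.p.IsFibered] (U : C) : res 𝒳 (𝟙 U) = 𝟭 _ := by
  refine Functor.ext (fun A => SObj.resObj_id A) ?_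
  intro A B φ
  apply SObj.hom_ext
  change (SObj.resMap (𝟙 U) φ).1 ≫ (B.resObj (𝟙 U)).π = _
  rw [SObj.resMap_val_π, SObj.τ_id]
  simp only [SObj.comp_val, Category.assoc, Functor.id_map]
  have := SObj.eqToHom_val_π B (B.resObj (𝟙 U)) (SObj.resObj_id B).symm rfl
  erw [this]
  simp
  rfl

theorem res_comp [𝒳.p.IsFibered] {U V W : C} (k : W ⟶ V) (h : V ⟶ U) :
    res 𝒳 (k ≫ h) = res 𝒳 h ⋙ res 𝒳 k := by
  refine Functor.ext (fun A => SObj.resObj_comp k h A) ?_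
  intro A B φ
  apply SObj.hom_ext
  change (SObj.resMap (k ≫ h) φ).1 ≫ (B.resObj (k ≫ h)).π = _
  rw [SObj.resMap_val_π, SObj.τ_comp]
  simp only [SObj.comp_val, Category.assoc, Functor.comp_map]
  have := SObj.eqToHom_val_π ((B.resObj h).resObj k) (B.resObj (k ≫ h))
    (SObj.resObj_comp k h B).symm rfl
  erw [this]
  change _ = _ ≫ (SObj.resMap k (SObj.resMap h φ)).1 ≫ ((B.resObj h).resObj k).π ≫ _
  rw [SObj.resMap_val_π_assoc, SObj.resMap_val_π_assoc]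
  simp
  rfl

/-- The strictification, as a strict functor into `Cat`. -/
noncomputable def strictF [𝒳.p.IsFibered] : Cᵒᵖ ⥤ Cat.{v₂, max u₂ v} where
  obj U := Cat.of (SObj 𝒳 U.unop)
  map h := (res 𝒳 h.unop).toCatHom
  map_id U := congrArg Functor.toCatHom (res_id 𝒳 U.unop)
  map_comp h k := congrArg Functor.toCatHom (res_comp 𝒳 k.unop h.unop)

end Groth.Agent.Lib.Helper17.Strictify
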