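-- helper17: strictification of a fibred category, part 2: the total category and the equivalence.
import Groth.Agent.Lib.Helper17Strictify
import Mathlib.CategoryTheory.Bicategory.Functor.LocallyDiscrete

set_option autoImplicit false

open CategoryTheory CategoryTheory.Functor Opposite Pseudofunctor

universe v₂ u₂ v u

namespace Groth.Agent.Lib.Helper17.Strictify

variable {C : Type u} [Category.{v} C] (𝒳 : BasedCategory.{v₂, u₂} C) [𝒳.p.IsFibered]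

/-- The total category of the strictification. -/
abbrev Tot := CoGrothendieck (strictF 𝒳).toPseudofunctor'

variable {𝒳}

/-- Make a morphism of the fibre from its transpose. -/
noncomputable def mkHom {U : C} (A B : SObj 𝒳 U) (ψ : A.pb ⟶ B.x) (hψ : 𝒳.p.IsHomLift B.f ψ) :
    A ⟶ B :=
  have : 𝒳.p.IsHomLift (𝟙 U ≫ B.f) ψ := by simpa using hψ
  ⟨lft B.x B.f (𝟙 U) ψ, inferInstance⟩

@[reassoc (attr := simp)]
theorem mkHom_val_π {U : C} (A B : SObj 𝒳 U) (ψ : A.pb ⟶ B.x) (hψ : 𝒳.p.IsHomLift B.f ψ) :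
    (mkHom A B ψ hψ).1 ≫ pbm B.x B.f = ψ := by
  have : 𝒳.p.IsHomLift (𝟙 U ≫ B.f) ψ := by simpa using hψ
  exact lft_pbm B.x B.f (𝟙 U) ψ

/-- The fibre component of a morphism of `Tot`, as a morphism to the restricted object. -/
def fib {X Y : Tot 𝒳} (m : X ⟶ Y) : (X.fiber : SObj 𝒳 X.base) ⟶ (Y.fiber : SObj 𝒳 Y.base).resObj m.base :=
  m.fiber

/-- The transpose of a morphism of `Tot`. -/
noncomputable def tr {X Y : Tot 𝒳} (m : X ⟶ Y) :
    (X.fiber : SObj 𝒳 X.base).pb ⟶ (Y.fiber : SObj 𝒳 Y.base).x :=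
  (fib m).1 ≫ pbm (Y.fiber : SObj 𝒳 Y.base).x (m.base ≫ (Y.fiber : SObj 𝒳 Y.base).f)

theorem tot_hom_ext {X Y : Tot 𝒳} (f g : X ⟶ Y) (hb : f.base = g.base) (ht : tr f = tr g) :
    f = g := by
  obtain ⟨fb, ff⟩ := f
  obtain ⟨gb, gf⟩ := g
  dsimp at hb
  subst hb
  have : ff = gf := SObj.hom_ext (A := (X.fiber : SObj 𝒳 X.base))
    (B := (Y.fiber : SObj 𝒳 Y.base).resObj fb) ff gf ht
  rw [this]

theorem fib_id (X : Tot 𝒳) :
    fib (𝟙 X) = eqToHom (SObj.resObj_id (X.fiber : SObj 𝒳 X.base)).symm := by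
  unfold fib
  simp only [CoGrothendieck.categoryStruct_id_fiber, Functor.toPseudofunctor'_mapId, eqToIso.inv,
    Cat.eqToHom_app]
  rfl

theorem tr_id (X : Tot 𝒳) : tr (𝟙 X) = (X.fiber : SObj 𝒳 X.base).π := by
  unfold tr
  rw [fib_id]
  have := SObj.eqToHom_val_π (X.fiber : SObj 𝒳 X.base) ((X.fiber : SObj 𝒳 X.base).resObj (𝟙 _))
    (SObj.resObj_id (X.fiber : SObj 𝒳 X.base)).symm rfl
  erw [this]
  simp

theorem fib_comp {X Y Z : Tot 𝒳} (f : X ⟶ Y) (g : Y ⟶ Z) :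
    fib (f ≫ g) = fib f ≫ SObj.resMap f.base (fib g) ≫
      eqToHom (SObj.resObj_comp f.base g.base (Z.fiber : SObj 𝒳 Z.base)).symm := by
  unfold fib
  simp only [CoGrothendieck.categoryStruct_comp_fiber, Functor.toPseudofunctor'_mapComp,
    eqToIso.inv, Cat.eqToHom_app]
  rfl

theorem tr_comp_aux {U V W : C} (k : W ⟶ V) (h : V ⟶ U) (A : SObj 𝒳 W) (B : SObj 𝒳 V)
    (D : SObj 𝒳 U) (φ : A ⟶ B.resObj k) (ψ : B ⟶ D.resObj h) :
    (φ ≫ SObj.resMap k ψ ≫ eqToHom (SObj.resObj_comp k h D).symm).1 ≫ pbm D.x ((k ≫ h) ≫ D.f) =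
      φ.1 ≫ B.τ k ≫ ψ.1 ≫ pbm D.x (h ≫ D.f) := by
  have := SObj.eqToHom_val_π ((D.resObj h).resObj k) (D.resObj (k ≫ h))
    (SObj.resObj_comp k h D).symm rfl
  simp only [SObj.comp_val, Category.assoc]
  erw [this]
  have h2 := SObj.resMap_val_π k ψ
  simp only [eqToHom_refl, Category.comp_id]
  erw [h2]

theorem tr_comp {X Y Z : Tot 𝒳} (f : X ⟶ Y) (g : Y ⟶ Z) :
    tr (f ≫ g) = (fib f).1 ≫ (Y.fiber : SObj 𝒳 Y.base).τ f.base ≫ tr g := by
  unfold tr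
  rw [fib_comp]
  exact tr_comp_aux f.base g.base _ _ _ (fib f) (fib g)

end Groth.Agent.Lib.Helper17.Strictify
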