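-- helper17: strictification of a fibred category, part 3: the comparison functor is an equivalence.
import Groth.Agent.Lib.Helper17Strictify2

set_option autoImplicit false

open CategoryTheory CategoryTheory.Functor Opposite Pseudofunctor

universe v₂ u₂ v u

namespace Groth.Agent.Lib.Helper17.Strictify

variable {C : Type u} [Category.{v} C] {𝒳 : BasedCategory.{v₂, u₂} C} [𝒳.p.IsFibered]

/-- The object `(a, 𝟙)` of the fibre over `p a`. -/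
abbrev idObj (a : 𝒳.obj) : SObj 𝒳 (𝒳.p.obj a) := ⟨a, 𝟙 _⟩

instance (a : 𝒳.obj) : IsIso (pbm a (𝟙 (𝒳.p.obj a))) :=
  IsStronglyCartesian.isIso_of_base_isIso 𝒳.p (𝟙 (𝒳.p.obj a)) (pbm a (𝟙 (𝒳.p.obj a)))

/-- The comparison functor on objects. -/
abbrev EObj (a : 𝒳.obj) : Tot 𝒳 := ⟨𝒳.p.obj a, idObj a⟩

theorem isHomLift_E_aux {a b : 𝒳.obj} (φ : a ⟶ b) :
    𝒳.p.IsHomLift ((idObj b).resObj (𝒳.p.map φ)).f (pbm a (𝟙 (𝒳.p.obj a)) ≫ φ) := by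
  have : 𝒳.p.IsHomLift (𝟙 _ ≫ 𝒳.p.map φ) (pbm a (𝟙 (𝒳.p.obj a)) ≫ φ) := inferInstance
  simpa using this

/-- The comparison functor on morphisms. -/
noncomputable def EMap {a b : 𝒳.obj} (φ : a ⟶ b) : EObj a ⟶ EObj b :=
  ⟨𝒳.p.map φ, mkHom (idObj a) ((idObj b).resObj (𝒳.p.map φ)) (pbm a (𝟙 _) ≫ φ)
    (isHomLift_E_aux φ)⟩

@[simp] theorem EMap_base {a b : 𝒳.obj} (φ : a ⟶ b) : (EMap φ).base = 𝒳.p.map φ := rfl

theorem tr_EMap {a b : 𝒳.obj} (φ : a ⟶ b) : tr (EMap φ) = pbm a (𝟙 _) ≫ φ := by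
  unfold tr
  exact mkHom_val_π (idObj a) ((idObj b).resObj (𝒳.p.map φ)) (pbm a (𝟙 _) ≫ φ)
    (isHomLift_E_aux φ)

theorem fib_τ_tr {X : Tot 𝒳} {b : 𝒳.obj} (m : X ⟶ EObj b) :
    (fib m).1 ≫ (idObj b).τ m.base ≫ pbm b (𝟙 _) = tr m := by
  unfold tr
  rw [SObj.τ_π]

variable (𝒳) in
/-- The comparison functor from a fibred category to its strictification. -/
noncomputable def EFun : 𝒳.obj ⥤ Tot 𝒳 where
  obj a := EObj a
  map φ := EMap φ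
  map_id a := by
    apply tot_hom_ext
    · simp
    · rw [tr_EMap, tr_id]
      simp
  map_comp {a b c} φ ψ := by
    apply tot_hom_ext
    · simp
    · rw [tr_EMap, tr_comp, tr_EMap]
      have := fib_τ_tr (EMap φ)
      rw [tr_EMap] at this
      calc pbm a (𝟙 _) ≫ φ ≫ ψ = (pbm a (𝟙 _) ≫ φ) ≫ ψ := by simp
        _ = ((fib (EMap φ)).1 ≫ (idObj b).τ (EMap φ).base ≫ pbm b (𝟙 _)) ≫ ψ := by rw [this]
        _ = _ := by simp only [Category.assoc]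

variable (𝒳) in
/-- The comparison functor as a functor over the base. -/
noncomputable def E :
    𝒳 ⥤ᵇ BasedCategory.ofFunctor (CoGrothendieck.forget (strictF 𝒳).toPseudofunctor') where
  toFunctor := EFun 𝒳
  w := rfl

instance : (E 𝒳).toFunctor.Faithful where
  map_injective {a b} φ ψ h := by
    have h1 : tr (EMap φ) = tr (EMap ψ) := congrArg tr h
    rw [tr_EMap, tr_EMap] at h1
    exact (cancel_epi _).mp h1

theorem isHomLift_full_aux {a b : 𝒳.obj} (m : EObj a ⟶ EObj b) :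
    𝒳.p.IsHomLift m.base (inv (pbm a (𝟙 (𝒳.p.obj a))) ≫ tr m) := by
  have h0 : 𝒳.p.IsHomLift (m.base ≫ 𝟙 _)
      (pbm b (m.base ≫ 𝟙 (𝒳.p.obj b))) := inferInstance
  have h1 : 𝒳.p.IsHomLift (𝟙 _ ≫ m.base ≫ 𝟙 _) (tr m) := by
    unfold tr
    infer_instance
  have h2 : 𝒳.p.IsHomLift (𝟙 _ ≫ 𝟙 _ ≫ m.base ≫ 𝟙 _)
      (inv (pbm a (𝟙 (𝒳.p.obj a))) ≫ tr m) := inferInstance
  simpa using h2

instance : (E 𝒳).toFunctor.Full where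
  map_surjective {a b} m := by
    have hl := isHomLift_full_aux m
    refine ⟨inv (pbm a (𝟙 (𝒳.p.obj a))) ≫ tr m, ?_⟩
    apply tot_hom_ext
    · exact @map_eq_of_isHomLift _ _ _ _ 𝒳.p a b m.base _ hl
    · change tr (EMap _) = _
      rw [tr_EMap]
      simp

section Ess

variable (ξ : 𝒳.obj) (A : SObj 𝒳 (𝒳.p.obj ξ)) (c : ξ ⟶ A.x) [𝒳.p.IsStronglyCartesian A.f c]

/-- The comparison morphism `E ξ ⟶ (p ξ, A)` for a cartesian arrow `c : ξ ⟶ A.x` over `A.f`. -/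
noncomputable def essHom : EObj ξ ⟶ (⟨𝒳.p.obj ξ, A⟩ : Tot 𝒳) :=
  ⟨𝟙 _, mkHom (idObj ξ) (A.resObj (𝟙 _)) (pbm ξ (𝟙 _) ≫ c) inferInstance⟩

/-- The map `A.pb ⟶ ξ` over the identity induced by `c`. -/
noncomputable def essψ : A.pb ⟶ ξ :=
  IsStronglyCartesian.map 𝒳.p A.f c (g := 𝟙 _) (f' := A.f) (by simp) (pbm A.x A.f)

instance : 𝒳.p.IsHomLift (𝟙 (𝒳.p.obj ξ)) (essψ ξ A c) := by
  unfold essψ
  infer_instance

@[reassoc (attr := simp)]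
theorem essψ_fac : essψ ξ A c ≫ c = pbm A.x A.f := by
  unfold essψ
  simp

theorem isHomLift_essψ_aux :
    𝒳.p.IsHomLift ((idObj ξ).resObj (𝟙 (𝒳.p.obj ξ))).f (essψ ξ A c) := by
  have : 𝒳.p.IsHomLift (𝟙 (𝒳.p.obj ξ) ≫ 𝟙 _) (essψ ξ A c) := by
    simpa using (inferInstance : 𝒳.p.IsHomLift (𝟙 (𝒳.p.obj ξ)) (essψ ξ A c))
  exact this

/-- The inverse comparison morphism. -/
noncomputable def essInv : (⟨𝒳.p.obj ξ, A⟩ : Tot 𝒳) ⟶ EObj ξ :=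
  ⟨𝟙 _, mkHom A ((idObj ξ).resObj (𝟙 _)) (essψ ξ A c) (isHomLift_essψ_aux ξ A c)⟩

theorem tr_essHom : tr (essHom ξ A c) = pbm ξ (𝟙 _) ≫ c := by
  unfold tr
  exact mkHom_val_π (idObj ξ) (A.resObj (𝟙 _)) (pbm ξ (𝟙 _) ≫ c) inferInstance

theorem tr_essInv : tr (essInv ξ A c) = essψ ξ A c := by
  unfold tr
  exact mkHom_val_π A ((idObj ξ).resObj (𝟙 _)) (essψ ξ A c) (isHomLift_essψ_aux ξ A c)

theorem essHom_essInv : essHom ξ A c ≫ essInv ξ A c = 𝟙 _ := by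
  apply tot_hom_ext
  · change 𝟙 _ ≫ 𝟙 _ = 𝟙 _
    simp
  · rw [tr_comp, tr_id, tr_essInv]
    have e1 : 𝒳.p.IsHomLift (𝟙 (𝒳.p.obj ξ)) (fib (essHom ξ A c)).1 := (fib (essHom ξ A c)).2
    have e2 : 𝒳.p.IsHomLift (𝟙 (𝒳.p.obj ξ)) (A.τ (essHom ξ A c).base) :=
      (inferInstance : 𝒳.p.IsHomLift (𝟙 (𝒳.p.obj ξ)) (A.τ (𝟙 (𝒳.p.obj ξ))))
    have h1 : 𝒳.p.IsHomLift (𝟙 (𝒳.p.obj ξ))
        ((fib (essHom ξ A c)).1 ≫ A.τ (essHom ξ A c).base ≫ essψ ξ A c) := inferInstance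
    have h2 : 𝒳.p.IsHomLift (𝟙 (𝒳.p.obj ξ)) (pbm ξ (𝟙 (𝒳.p.obj ξ))) := inferInstance
    apply IsStronglyCartesian.ext 𝒳.p A.f c (𝟙 (𝒳.p.obj ξ))
    simp only [Category.assoc, essψ_fac]
    rw [← tr_essHom]
    unfold tr
    rw [SObj.τ_π]

theorem essInv_essHom : essInv ξ A c ≫ essHom ξ A c = 𝟙 _ := by
  apply tot_hom_ext
  · change 𝟙 _ ≫ 𝟙 _ = 𝟙 _
    simp
  · rw [tr_comp, tr_id, tr_essHom]
    have := fib_τ_tr (essInv ξ A c)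
    rw [tr_essInv] at this
    rw [← Category.assoc, ← Category.assoc]
    rw [Category.assoc (fib (essInv ξ A c)).1]
    erw [this]
    simp

include c in
theorem ess_aux :
    ∃ e : EObj ξ ≅ (⟨𝒳.p.obj ξ, A⟩ : Tot 𝒳),
      (CoGrothendieck.forget (strictF 𝒳).toPseudofunctor').IsHomLift (𝟙 (𝒳.p.obj ξ)) e.hom := by
  refine ⟨⟨essHom ξ A c, essInv ξ A c, essHom_essInv ξ A c, essInv_essHom ξ A c⟩, ?_⟩
  exact IsHomLift.map (CoGrothendieck.forget (strictF 𝒳).toPseudofunctor') (essHom ξ A c)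

end Ess

theorem ess_aux' (U : C) (A : SObj 𝒳 U) (ξ : 𝒳.obj) (hξ : 𝒳.p.obj ξ = U) (c : ξ ⟶ A.x)
    (hc : 𝒳.p.IsStronglyCartesian A.f c) :
    ∃ e : EObj ξ ≅ (⟨U, A⟩ : Tot 𝒳),
      (CoGrothendieck.forget (strictF 𝒳).toPseudofunctor').IsHomLift (𝟙 U) e.hom := by
  subst hξ
  exact ess_aux ξ A c

variable (𝒳) in
theorem essSurjOver_E : EssSurjOver (E 𝒳) := by
  intro η
  obtain ⟨U, A⟩ := η
  exact ⟨pbo (A : SObj 𝒳 U).x (A : SObj 𝒳 U).f,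
    ess_aux' U A _ (pbo_proj _ _) (pbm (A : SObj 𝒳 U).x (A : SObj 𝒳 U).f) inferInstance⟩

variable (𝒳) in
/-- The comparison functor to the strictification is an equivalence over the base. -/
theorem isEquivOver_E : FibCat.IsEquivOver (E 𝒳) :=
  isEquivOver_of_fullyFaithful_of_essSurjOver (E 𝒳) (essSurjOver_E 𝒳)

/-- If the fibres are groupoids, so are the fibres of the strictification. -/
theorem isGroupoid_strictF (h𝒳 : FibCat.IsFibGrpd 𝒳.p) (U : Cᵒᵖ) :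
    IsGroupoid ((strictF 𝒳).obj U) := by
  refine ⟨fun {A B} φ => ?_⟩
  have hφ : 𝒳.p.IsHomLift (𝟙 U.unop) (φ : (A : SObj 𝒳 U.unop) ⟶ (B : SObj 𝒳 U.unop)).1 :=
    (φ : (A : SObj 𝒳 U.unop) ⟶ (B : SObj 𝒳 U.unop)).2
  have hiso : IsIso (φ : (A : SObj 𝒳 U.unop) ⟶ (B : SObj 𝒳 U.unop)).1 :=
    IsFibGrpd.isIso_of_isHomLift_id h𝒳 U.unop _
  let ψ : (B : SObj 𝒳 U.unop) ⟶ (A : SObj 𝒳 U.unop) :=
    ⟨inv (φ : (A : SObj 𝒳 U.unop) ⟶ (B : SObj 𝒳 U.unop)).1, inferInstance⟩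
  refine ⟨ψ, ?_, ?_⟩
  · exact Subtype.ext (IsIso.hom_inv_id _)
  · exact Subtype.ext (IsIso.inv_hom_id _)

end Groth.Agent.Lib.Helper17.Strictify
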