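import Mathlib.CategoryTheory.Triangulated.Generators

/-!
# Classical generators are strong generators when a strong generator exists (helper17)
-/

set_option autoImplicit false

universe v u

open CategoryTheory CategoryTheory.Limits CategoryTheory.Pretriangulated

namespace Groth.Agent.Lib.Helper17.StrongGen

open ObjectProperty

variable {C : Type u} [Category.{v} C] [HasZeroObject C] [HasShift C ℤ] [Preadditive C]
  [∀ (n : ℤ), (shiftFunctor C n).Additive] [Pretriangulated C]

/-- closure under binary products can be checked on `WalkingPair`-indexed products. -/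
lemma isClosedUnderBinaryProducts_of_prop_pi (P : ObjectProperty C) [P.IsClosedUnderIsomorphisms]
    (h : ∀ f : WalkingPair → C, (∀ j, P (f j)) → P (∏ᶜ f)) : P.IsClosedUnderBinaryProducts where
  limitsOfShape_le := by
    rintro X ⟨p⟩
    refine P.prop_of_iso ?_ (h (fun j => p.diag.obj ⟨j⟩) (fun j => p.prop_diag_obj ⟨j⟩))
    exact (HasLimit.isoOfNatIso (Discrete.natIsoFunctor (F := p.diag))).symm ≪≫
      IsLimit.conePointUniqueUpToIso (limit.isLimit _) p.isLimit

lemma prop_pi_of_isClosedUnderBinaryProducts (P : ObjectProperty C) [P.IsClosedUnderBinaryProducts]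
    (f : WalkingPair → C) (hf : ∀ j, P (f j)) : P (∏ᶜ f) :=
  P.prop_limit (Discrete.functor f) (fun ⟨j⟩ => hf j)

/-- the retract closure of a class closed under binary products is closed under binary products. -/
instance retractClosure_isClosedUnderBinaryProducts (P : ObjectProperty C)
    [P.IsClosedUnderBinaryProducts] : P.retractClosure.IsClosedUnderBinaryProducts := by
  apply isClosedUnderBinaryProducts_of_prop_pi
  intro f hf
  choose g hg r using hf
  exact ⟨∏ᶜ g, prop_pi_of_isClosedUnderBinaryProducts P g hg,
    ⟨{ i := Limits.Pi.map (fun j => (r j).some.i)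
       r := Limits.Pi.map (fun j => (r j).some.r)
       retract := by
        rw [Limits.Pi.map_comp_map]
        simp }⟩⟩

/-- the extension product of classes closed under binary products is closed under binary
products. -/
instance extensionProduct_isClosedUnderBinaryProducts (P Q : ObjectProperty C)
    [P.IsClosedUnderBinaryProducts] [Q.IsClosedUnderBinaryProducts] :
    (extensionProduct P Q).IsClosedUnderBinaryProducts := by
  apply isClosedUnderBinaryProducts_of_prop_pi
  intro x hx
  choose Y Z f g h hT hY hZ using hx
  exact ⟨_, _, _, _, _,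
    productTriangle_distinguished (fun j => Triangle.mk (f j) (g j) (h j)) hT,
    prop_pi_of_isClosedUnderBinaryProducts P Y hY, prop_pi_of_isClosedUnderBinaryProducts Q Z hZ⟩

instance extensionProductIter_isClosedUnderBinaryProducts (P : ObjectProperty C)
    [P.IsClosedUnderBinaryProducts] (n : ℕ) :
    (P.extensionProductIter n).IsClosedUnderBinaryProducts := by
  induction n with
  | zero => rwa [extensionProductIter_zero]
  | succ n H => rw [extensionProductIter_succ]; infer_instance

instance triangEnvelopeIter_isClosedUnderBinaryProducts (P : ObjectProperty C) (n : ℕ) :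
    (P.triangEnvelopeIter n).IsClosedUnderBinaryProducts := by
  unfold triangEnvelopeIter
  infer_instance

variable [IsTriangulated C]

/-- if `Q` is contained in the `m`-th envelope of `P`, then so is the `0`-th envelope of `Q`. -/
lemma triangEnvelopeIter_zero_le {P Q : ObjectProperty C} [Q.Nonempty] {m : ℕ}
    (h : Q ≤ P.triangEnvelopeIter m) : Q.triangEnvelopeIter 0 ≤ P.triangEnvelopeIter m := by
  haveI : (P.triangEnvelopeIter m).Nonempty := .mono h
  rw [triangEnvelopeIter_zero, retractClosure_le_iff, binaryProductsClosure_le_iff,
    shiftClosure_le_iff]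
  exact h

/-- if `Q` is contained in the `m`-th envelope of `P`, then the `k`-th envelope of `Q` is contained
in the `(k * (m + 1) + m)`-th envelope of `P`. -/
lemma triangEnvelopeIter_le {P Q : ObjectProperty C} [Q.Nonempty] {m : ℕ}
    (h : Q ≤ P.triangEnvelopeIter m) (k : ℕ) :
    Q.triangEnvelopeIter k ≤ P.triangEnvelopeIter (k * (m + 1) + m) := by
  induction k with
  | zero =>
    rw [Nat.zero_mul, Nat.zero_add]
    exact triangEnvelopeIter_zero_le h
  | succ k H =>
    have h₀ := triangEnvelopeIter_zero_le h
    rw [triangEnvelopeIter_zero] at h₀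
    rw [triangEnvelopeIter_succ]
    have e : (k + 1) * (m + 1) + m = (m + 1) + (k * (m + 1) + m) := by
      rw [Nat.succ_mul]; omega
    rw [e, triangEnvelopeIter_add P (rfl : m + 1 = m + 1)]
    apply monotone_retractClosure
    exact (monotone_extensionProduct_left _ h₀).trans (monotone_extensionProduct_right _ H)

/-- Stacks 0FXA: if there is a strong generator, every classical generator is strong. -/
theorem isStrongTriangulatedGenerator_of_isClassicalTriangulatedGenerator
    (G E : C) (hG : ObjectProperty.IsStrongTriangulatedGenerator (fun X : C => X = G))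
    (hE : ObjectProperty.IsClassicalTriangulatedGenerator (fun X : C => X = E)) :
    ObjectProperty.IsStrongTriangulatedGenerator (fun X : C => X = E) := by
  obtain ⟨n, hn⟩ := hG
  rw [isClassicalTriangulatedGenerator_iff] at hE
  have hGE : ObjectProperty.triangEnvelope (fun X : C => X = E) G := by
    rw [hE]; trivial
  rw [prop_triangEnvelope_iff] at hGE
  obtain ⟨m, hm⟩ := hGE
  haveI : ObjectProperty.Nonempty (fun X : C => X = G) := ⟨G, rfl⟩
  have h : (fun X : C => X = G : ObjectProperty C) ≤
      ObjectProperty.triangEnvelopeIter (fun X : C => X = E) m := by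
    rintro X rfl
    exact hm
  refine ⟨n * (m + 1) + m, ?_⟩
  rw [eq_top_iff, ← hn]
  exact triangEnvelopeIter_le h n

end Groth.Agent.Lib.Helper17.StrongGen
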