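import Groth.Agent.S0862
import Groth.Agent.S0882

/-!
# Cohomology of quasi-compact quasi-separated opens commutes with filtered colimits (helper9)
-/

set_option autoImplicit false
set_option linter.style.haveILetI false
set_option linter.unusedSectionVars false
universe u
open CategoryTheory CategoryTheory.Limits Opposite TopologicalSpace

namespace Groth.Agent.Lib.Helper9.TopColim

variable {X : TopCat.{u}}

lemma isCompact_iInter_fin (W : Set X) (hW : IsQuasiSeparated W) :
    ∀ (n : ℕ) (g : Fin (n + 1) → Opens X), (∀ k, (g k : Set X) ⊆ W) →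
      (∀ k, IsCompact (g k : Set X)) → IsCompact (⋂ k, (g k : Set X)) := by
  intro n
  induction n with
  | zero =>
    intro g _ hc
    have : (⋂ k, (g k : Set X)) = g 0 := by
      ext x
      simp only [Set.mem_iInter]
      refine ⟨fun h => h 0, fun h k => ?_⟩
      have hk : k = 0 := Fin.ext (by have := k.2; omega)
      rw [hk]; exact h
    rw [this]; exact hc 0
  | succ n ih =>
    intro g hg hc
    have : (⋂ k, (g k : Set X)) = (g 0 : Set X) ∩ ⋂ k : Fin (n + 1), (g k.succ : Set X) := by
      ext x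
      simp only [Set.mem_iInter, Set.mem_inter_iff]
      exact ⟨fun h => ⟨h 0, fun k => h k.succ⟩, fun h k => Fin.cases h.1 h.2 k⟩
    rw [this]
    refine hW _ _ (hg 0) (g 0).2 (hc 0) ?_ ?_ (ih (fun k => g k.succ) (fun k => hg _) (fun k => hc _))
    · exact (Set.iInter_subset _ 0).trans (hg _)
    · exact isOpen_iInter_of_finite (fun k => (g k.succ).2)

/-- the class of compact opens inside `W` -/
def BB (W : Opens X) : Set (Opens X) := {U | U ≤ W ∧ IsCompact (U : Set X)}

/-- finite covers by members of `BB W` -/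
def Cov (W : Opens X) (U : Opens X) (ι : Type u) (Y : ι → Over U) : Prop :=
  Finite ι ∧ U ∈ BB W ∧
    Sieve.ofArrows (fun i => (Y i).left) (fun i => (Y i).hom) ∈ Opens.grothendieckTopology X U ∧
    ∀ i, (Y i).left ∈ BB W

theorem preservesColimit_of_compact (hB : Opens.IsBasis {U : Opens X | IsCompact (U : Set X)})
    (W : Opens X) (hW : IsQuasiSeparated (W : Set X)) (U : Opens X) (hU : U ∈ BB W) (p : ℕ)
    (I : Type u) [SmallCategory I] [IsFiltered I]
    (F : I ⥤ Sheaf (Opens.grothendieckTopology X) AddCommGrpCat.{u}) :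
    PreservesColimit F ((Sheaf.cohomologyPresheafFunctor (Opens.grothendieckTopology X) p).flip.obj (op U)) := by
  refine Groth.Agent.S0862.result (Opens.grothendieckTopology X) (BB W) (Cov W) ?_ ?_ U hU p I F
  · intro U ι Y hc
    obtain ⟨hfin, hU, hcov, hY⟩ := hc
    refine ⟨hfin, hU, hcov, fun p a => ?_⟩
    let P : Over U := ∏ᶜ fun k => Y (a k)
    have h1 : ∀ k, P.left ≤ (Y (a k)).left := fun k => leOfHom (Pi.π (fun k => Y (a k)) k).left
    have h2 : ((P.left : Opens X) : Set X) = ⋂ k, (((Y (a k)).left : Opens X) : Set X) := by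
      apply Set.Subset.antisymm
      · intro x hx
        simp only [Set.mem_iInter]
        exact fun k => h1 k hx
      · intro x hx
        simp only [Set.mem_iInter] at hx
        -- the intersection as an object over `U`
        let Q : Opens X := ⟨⋂ k, (((Y (a k)).left : Opens X) : Set X),
          isOpen_iInter_of_finite (fun k => ((Y (a k)).left).2)⟩
        have hQU : Q ≤ U := fun y hy => leOfHom (Y (a 0)).hom (Set.mem_iInter.1 hy 0)
        let Q' : Over U := Over.mk (homOfLE hQU)
        let φ : Q' ⟶ P := Pi.lift (fun k => Over.homMk (homOfLE (fun y hy => Set.mem_iInter.1 hy k)))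
        exact leOfHom φ.left (Set.mem_iInter.2 hx)
    refine ⟨(h1 0).trans (hY _).1, ?_⟩
    rw [h2]
    exact isCompact_iInter_fin (W : Set X) hW p (fun k => (Y (a k)).left) (fun k => (hY _).1)
      (fun k => (hY _).2)
  · intro U hU T hT
    rw [Opens.mem_grothendieckTopology] at hT
    choose V f hfT hxV using hT
    -- refine by compact opens
    have hK : ∀ (x : X) (hx : x ∈ U), ∃ K : Opens X, IsCompact (K : Set X) ∧ x ∈ K ∧ K ≤ V x hx := by
      intro x hx
      obtain ⟨K, hK, hxK, hKV⟩ := (Opens.isBasis_iff_nbhd.1 hB) (hxV x hx)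
      exact ⟨K, hK, hxK, hKV⟩
    choose K hKc hxK hKV using hK
    obtain ⟨t, ht⟩ := hU.2.elim_finite_subcover (fun x : U => ((K x.1 x.2 : Opens X) : Set X))
      (fun x => (K x.1 x.2).2) (fun x hx => Set.mem_iUnion.2 ⟨⟨x, hx⟩, hxK x hx⟩)
    have hKU : ∀ x : U, K x.1 x.2 ≤ U := fun x => (hKV x.1 x.2).trans (leOfHom (f x.1 x.2))
    refine ⟨t, fun x => Over.mk (homOfLE (hKU x.1)), ⟨inferInstance, hU, ?_, ?_⟩, ?_⟩
    · rw [Opens.mem_grothendieckTopology]
      intro y hy
      obtain ⟨x, hx⟩ := Set.mem_iUnion.1 (ht hy)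
      obtain ⟨hxt, hyK⟩ := Set.mem_iUnion.1 hx
      exact ⟨_, homOfLE (hKU x), Sieve.ofArrows_mk _ _ (⟨x, hxt⟩ : t), hyK⟩
    · intro x
      exact ⟨(hKU x.1).trans hU.1, hKc _ _⟩
    · intro x
      have := T.downward_closed (hfT x.1.1 x.1.2) (homOfLE (hKV x.1.1 x.1.2))
      change T.arrows (homOfLE (hKU x.1))
      have e : homOfLE (hKU x.1) = homOfLE (hKV x.1.1 x.1.2) ≫ f x.1.1 x.1.2 :=
        Subsingleton.elim _ _
      rw [e]; exact this

end Groth.Agent.Lib.Helper9.TopColim
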