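import Groth.Prelude.Def_Coh
import Groth.Agent.Lib.Helper9TopColim

set_option autoImplicit false
set_option linter.style.haveILetI false
universe u
open CategoryTheory CategoryTheory.Limits Opposite TopologicalSpace AlgebraicGeometry

namespace Groth.Agent.Lib.Helper9.TopColim

theorem isBasis_compact (X : Scheme.{u}) :
    Opens.IsBasis {U : Opens X | IsCompact (U : Set X)} := by
  rw [Opens.isBasis_iff_nbhd]
  intro U x hx
  obtain ⟨A, hA, hxA, hAU⟩ := (Opens.isBasis_iff_nbhd.1 X.isBasis_affineOpens) hx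
  exact ⟨A, IsAffineOpen.isCompact hA, hxA, hAU⟩

theorem preservesColimitsOfShape_RpushAb {X S : Scheme.{u}} (f : X ⟶ S) [QuasiCompact f]
    [QuasiSeparated f] (p : ℕ) (J : Type u) [SmallCategory J] [IsFiltered J] :
    PreservesColimitsOfShape J (Coh.RpushAb f p) := by
  constructor
  intro F
  change PreservesColimit F (CohSite.Rpush (Opens.grothendieckTopology X)
    (Opens.grothendieckTopology S) (Opens.map f.base) p)
  apply Groth.Agent.S0882.result
  intro V
  refine ⟨{A : S.affineOpens // A.1 ≤ V}, fun A => A.1.1, fun A => homOfLE A.2, ?_, fun A => ?_⟩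
  · rw [Opens.mem_grothendieckTopology]
    intro x hx
    obtain ⟨A, hA, hxA, hAV⟩ := (Opens.isBasis_iff_nbhd.1 S.isBasis_affineOpens) hx
    exact ⟨A, homOfLE hAV,
      Sieve.ofArrows_mk _ _ (⟨⟨A, hA⟩, hAV⟩ : {A : S.affineOpens // A.1 ≤ V}), hxA⟩
  · exact preservesColimit_of_compact (isBasis_compact X) (f ⁻¹ᵁ A.1.1)
      (f.isQuasiSeparated_preimage A.1.2.isQuasiSeparated) (f ⁻¹ᵁ A.1.1)
      ⟨le_rfl, f.isCompact_preimage A.1.2.isCompact⟩ p J F

end Groth.Agent.Lib.Helper9.TopColim
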