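import Groth.Agent.Lib.Helper18DirImgSigma
import Groth.Agent.Lib.Helper23ModAbBridge
import Groth.Agent.Lib.Helper9TopColimSch

/-!
# Direct images and coproducts (helper17)

* `f_*` commutes with coproducts of `O_X`-modules for quasi-compact `f`;
* for `f` quasi-compact quasi-separated, a coproduct of injective `O_X`-modules is `f_*`-acyclic.
-/

set_option autoImplicit false
set_option linter.style.haveILetI false
set_option linter.unusedSectionVars false

universe u

open CategoryTheory CategoryTheory.Limits AlgebraicGeometry Opposite TopologicalSpace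

namespace Groth.Agent.Lib.Helper17.SumPush

open Groth.Agent.Lib.Helper18.DirImgColim Groth.Agent.Lib.Helper21.CoprodSec

section sigma

variable {X S : Scheme.{u}} (f : X ⟶ S) [QuasiCompact f] {ι : Type u} (F : ι → X.Modules)

theorem isIso_sigmaComparison_pushforward :
    IsIso (sigmaComparison (Scheme.Modules.pushforward f) F) := by
  classical
  have key : ∀ (i : ι) (V : S.Opens) (y : (F i).val.obj (op (f ⁻¹ᵁ V))),
      ((sigmaComparison (Scheme.Modules.pushforward f) F).val.app (op V)).hom
        (((Sigma.ι (fun i => (Scheme.Modules.pushforward f).obj (F i)) i).val.app (op V)).hom y) =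
      ((Sigma.ι F i).val.app (op (f ⁻¹ᵁ V))).hom y := by
    intro i V y
    have h := ι_comp_sigmaComparison (Scheme.Modules.pushforward f) F i
    exact congrArg (fun φ => (φ.val.app (op V)).hom y) h
  refine isIso_of_bijective_on_basis (T := S.carrier) _ (fun V : S.affineOpens => V.1) ?_ ?_
  · rw [Subtype.range_coe]
    exact S.isBasis_affineOpens
  · rintro ⟨V, hV⟩
    have hV' : IsCompact ((f ⁻¹ᵁ V : X.Opens) : Set X) := f.isCompact_preimage hV.isCompact
    constructor
    · rw [injective_iff_map_eq_zero]
      intro x hx
      obtain ⟨t, z, rfl⟩ := exists_finite_sum (J := Opens.grothendieckTopology S.carrier)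
        (fun i => (Scheme.Modules.pushforward f).obj (F i))
        (hasFinSubcover_of_isCompact (T := S.carrier) V hV.isCompact) x
      have hx' := (map_sum (((sigmaComparison (Scheme.Modules.pushforward f) F).val.app
        (op V)).hom.toAddMonoidHom) _ t).symm.trans hx
      replace hx := hx'
      have h1 : ∑ i ∈ t, (Sigma.ι F i).val.app (op (f ⁻¹ᵁ V)) (z i) = 0 := by
        refine Eq.trans ?_ hx
        exact Finset.sum_congr rfl fun i _ => (key i V (z i)).symm
      have h2 := eq_zero_of_sum_eq_zero (J := Opens.grothendieckTopology X.carrier) F (f ⁻¹ᵁ V) t z h1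
      apply Finset.sum_eq_zero
      intro i hi
      have h3 : z i = 0 := h2 i hi
      rw [h3]
      exact map_zero _
    · intro y
      obtain ⟨t, z, rfl⟩ := exists_finite_sum (J := Opens.grothendieckTopology X.carrier) F
        (hasFinSubcover_of_isCompact (T := X.carrier) (f ⁻¹ᵁ V) hV') y
      refine ⟨∑ i ∈ t, (Sigma.ι (fun i => (Scheme.Modules.pushforward f).obj (F i)) i).val.app (op V) (z i), ?_⟩
      refine (map_sum (((sigmaComparison (Scheme.Modules.pushforward f) F).val.app
        (op V)).hom.toAddMonoidHom) _ t).trans ?_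
      exact Finset.sum_congr rfl fun i _ => key i V (z i)

instance preservesColimit_discrete_pushforward :
    PreservesColimit (Discrete.functor F) (Scheme.Modules.pushforward f) := by
  haveI := isIso_sigmaComparison_pushforward f F
  exact PreservesCoproduct.of_iso_comparison _ _

instance preservesColimitsOfShape_discrete_pushforward :
    PreservesColimitsOfShape (Discrete ι) (Scheme.Modules.pushforward f) :=
  preservesColimitsOfShape_of_discrete _

end sigma

section acyc

variable {X S : Scheme.{u}} (f : X ⟶ S)

/-- the underlying abelian sheaf functor reflects zero objects. -/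
lemma isZero_of_isZero_toAb (M : S.Modules) (h : IsZero (Coh.toAb M)) : IsZero M := by
  rw [IsZero.iff_id_eq_zero]
  apply (SheafOfModules.toSheaf S.ringCatSheaf).map_injective
  exact h.eq_of_src _ _

variable [QuasiCompact f] [QuasiSeparated f] [HasInjectiveResolutions X.Modules]

open CoproductsFromFiniteFiltered in
/-- for `f` quasi-compact and quasi-separated, coproducts of injective modules are
`f_*`-acyclic. -/
theorem isZero_Rpush_sigma_of_injective {ι : Type u} (Jm : ι → X.Modules)
    [∀ i, Injective (Jm i)] (q : ℕ) :
    IsZero ((Coh.Rpush f (q + 1)).obj (∐ Jm)) := by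
  apply isZero_of_isZero_toAb
  obtain ⟨e⟩ := Groth.Agent.Lib.Helper23.ModAbBridge.nonempty_toAb_Rpush_iso f (∐ Jm) (q + 1)
  refine IsZero.of_iso ?_ e
  let G : X.Modules ⥤ Sheaf (Opens.grothendieckTopology S) AddCommGrpCat.{u} :=
    SheafOfModules.toSheaf X.ringCatSheaf ⋙ Coh.RpushAb f (q + 1)
  change IsZero (G.obj (∐ Jm))
  haveI : PreservesColimitsOfShape (Finset (Discrete ι)) G := by
    haveI := Groth.Agent.S0484.preservesColimitsOfShape_toSheaf
      (Opens.grothendieckTopology X) X.ringCatSheaf (Finset (Discrete ι))
    haveI := Groth.Agent.Lib.Helper9.TopColim.preservesColimitsOfShape_RpushAb f (q + 1)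
      (Finset (Discrete ι))
    exact comp_preservesColimitsOfShape (SheafOfModules.toSheaf X.ringCatSheaf)
      (Coh.RpushAb f (q + 1))
  have hc := isColimitOfPreserves G (isColimitFiniteSubproductsCocone Jm)
  have hz : ∀ s : Finset (Discrete ι),
      IsZero (G.obj ((liftToFinsetObj (Discrete.functor Jm)).obj s)) := by
    intro s
    haveI : ∀ x : s, Injective ((Discrete.functor Jm).obj x) := fun x =>
      inferInstanceAs (Injective (Jm x.1.as))
    haveI : HasFiniteBiproducts X.Modules := Abelian.hasFiniteBiproducts
    haveI : HasBiproduct (fun x : s => (Discrete.functor Jm).obj x) :=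
      HasBiproductsOfShape.has_biproduct _
    haveI : Injective ((liftToFinsetObj (Discrete.functor Jm)).obj s) :=
      Injective.of_iso (biproduct.isoCoproduct (fun x : s => (Discrete.functor Jm).obj x))
        inferInstance
    exact Groth.Agent.Lib.Helper23.ModAbBridge.isZero_RpushAb_of_injective f _ q
  rw [IsZero.iff_id_eq_zero]
  apply hc.hom_ext
  intro s
  exact (hz s).eq_of_src _ _

/-- cofan version. -/
theorem isZero_Rpush_of_isColimit_cofan {ι : Type u} (Jm : ι → X.Modules)
    [∀ i, Injective (Jm i)] (c : Cofan Jm) (hc : IsColimit c) (q : ℕ) :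
    IsZero ((Coh.Rpush f (q + 1)).obj c.pt) :=
  IsZero.of_iso (isZero_Rpush_sigma_of_injective f Jm q)
    ((Coh.Rpush f (q + 1)).mapIso (hc.coconePointUniqueUpToIso (coproductIsCoproduct Jm)))

end acyc

end Groth.Agent.Lib.Helper17.SumPush
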