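import Groth.Agent.Lib.Helper17CoprodTri
import Groth.Agent.Lib.Helper23SS4

/-!
# An abstract dévissage for coproduct comparison maps (helper17)

`G : C₁ ⥤ C₂`, `ρ : C₂ ⥤ C₃` triangulated, `F : C₃ ⥤ A` homological.  Given distinguished triangles
`T i` in `C₁` such that `G` commutes with the coproduct of the `(T i).obj₃`, and such that
`F^m, F^{m+1}` vanish on `ρ G (∐ (T i).obj₁)` and on `ρ (∐ G (T i).obj₁)`, the map
`F^m ρ (∐ G (T i).obj₂ ⟶ G (∐ (T i).obj₂))` is an isomorphism.
-/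

set_option autoImplicit false

open CategoryTheory CategoryTheory.Limits CategoryTheory.Category CategoryTheory.Pretriangulated

namespace Groth.Agent.Lib.Helper17.SumPushQC

open Groth.Agent.Lib.Helper17.CoprodTri

variable {C₁ C₂ C₃ A : Type*} [Category C₁] [Category C₂] [Category C₃] [Category A]
  [HasZeroObject C₁] [HasShift C₁ ℤ] [Preadditive C₁] [∀ n : ℤ, (shiftFunctor C₁ n).Additive]
  [Pretriangulated C₁]
  [HasZeroObject C₂] [HasShift C₂ ℤ] [Preadditive C₂] [∀ n : ℤ, (shiftFunctor C₂ n).Additive]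
  [Pretriangulated C₂]
  [HasZeroObject C₃] [HasShift C₃ ℤ] [Preadditive C₃] [∀ n : ℤ, (shiftFunctor C₃ n).Additive]
  [Pretriangulated C₃]
  [Abelian A]
  (G : C₁ ⥤ C₂) [G.CommShift ℤ] [G.IsTriangulated]
  (ρ : C₂ ⥤ C₃) [ρ.CommShift ℤ] [ρ.IsTriangulated]
  (F : C₃ ⥤ A) [F.IsHomological] [F.ShiftSequence ℤ]
  {ι : Type*} [HasCoproductsOfShape ι C₁] [HasCoproductsOfShape ι C₂]

/-- the comparison map `∐ G (X i) ⟶ G (∐ X i)`. -/
noncomputable abbrev sigmaComp (X : ι → C₁) : (∐ fun i => G.obj (X i)) ⟶ G.obj (∐ X) :=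
  Limits.Sigma.desc (fun i => G.map (Limits.Sigma.ι X i))

lemma sigmaComp_naturality {X Y : ι → C₁} (t : ∀ i, X i ⟶ Y i) :
    sigmaComp G X ≫ G.map (Limits.Sigma.map t) =
      Limits.Sigma.map (fun i => G.map (t i)) ≫ sigmaComp G Y := by
  refine Limits.Sigma.hom_ext _ _ (fun i => ?_)
  rw [Limits.Sigma.ι_desc_assoc, Limits.Sigma.ι_map_assoc, Limits.Sigma.ι_desc, ← G.map_comp,
    ← G.map_comp, Limits.Sigma.ι_map]

theorem isIso_shift_map_sigmaComp (T : ι → Triangle C₁) (hT : ∀ i, T i ∈ distTriang C₁)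
    (m m' : ℤ) (hm : m + 1 = m')
    (h₃ : IsIso (sigmaComp G (fun i => (T i).obj₃)))
    (hb : IsZero ((F.shift m).obj (ρ.obj (G.obj (∐ fun i => (T i).obj₁)))))
    (hb' : IsZero ((F.shift m').obj (ρ.obj (G.obj (∐ fun i => (T i).obj₁)))))
    (ht : IsZero ((F.shift m).obj (ρ.obj (∐ fun i => G.obj (T i).obj₁))))
    (ht' : IsZero ((F.shift m').obj (ρ.obj (∐ fun i => G.obj (T i).obj₁)))) :
    IsIso ((F.shift m).map (ρ.map (sigmaComp G (fun i => (T i).obj₂)))) := by
  -- bottom row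
  have hbot : (ρ.mapTriangle.obj (G.mapTriangle.obj (coproductTriangle T))) ∈ distTriang C₃ :=
    ρ.map_distinguished _ (G.map_distinguished _ (coproductTriangle_distinguished T hT))
  have ibot : IsIso ((F.shift m).map (ρ.map (G.map (Limits.Sigma.map (fun i => (T i).mor₂))))) :=
    Groth.Agent.Lib.Helper23SS4.isIso_shift_map_mor₂ F _ hbot m m' hm hb hb'
  -- top row
  have htop : (ρ.mapTriangle.obj (coproductTriangle (fun i => G.mapTriangle.obj (T i)))) ∈
      distTriang C₃ :=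
    ρ.map_distinguished _ (coproductTriangle_distinguished _
      (fun i => G.map_distinguished _ (hT i)))
  have itop : IsIso ((F.shift m).map (ρ.map (Limits.Sigma.map (fun i => G.map (T i).mor₂)))) :=
    Groth.Agent.Lib.Helper23SS4.isIso_shift_map_mor₂ F _ htop m m' hm ht ht'
  have sq := sigmaComp_naturality G (fun i => (T i).mor₂)
  have sq' : (F.shift m).map (ρ.map (sigmaComp G (fun i => (T i).obj₂))) ≫
      (F.shift m).map (ρ.map (G.map (Limits.Sigma.map (fun i => (T i).mor₂)))) =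
      (F.shift m).map (ρ.map (Limits.Sigma.map (fun i => G.map (T i).mor₂))) ≫
        (F.shift m).map (ρ.map (sigmaComp G (fun i => (T i).obj₃))) := by
    rw [← Functor.map_comp, ← Functor.map_comp, sq, Functor.map_comp, Functor.map_comp]
  haveI := ibot
  haveI := itop
  haveI := h₃
  have : (F.shift m).map (ρ.map (sigmaComp G (fun i => (T i).obj₂))) =
      ((F.shift m).map (ρ.map (Limits.Sigma.map (fun i => G.map (T i).mor₂))) ≫
        (F.shift m).map (ρ.map (sigmaComp G (fun i => (T i).obj₃)))) ≫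
      inv ((F.shift m).map (ρ.map (G.map (Limits.Sigma.map (fun i => (T i).mor₂))))) := by
    rw [← sq', assoc, IsIso.hom_inv_id, comp_id]
  rw [this]
  infer_instance

end Groth.Agent.Lib.Helper17.SumPushQC
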