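import Groth.Agent.Lib.Helper17SuppRpush1

/-!
# `Rj_*` and `j^*` on objects supported on a closed subset and its closure (helper17)
-/

set_option autoImplicit false
set_option linter.style.haveILetI false
set_option maxHeartbeats 400000

universe u

open CategoryTheory CategoryTheory.Limits Opposite AlgebraicGeometry TopologicalSpace
  Pretriangulated ZeroObject

attribute [local instance] HasDerivedCategory.standard

namespace Groth.Agent.Lib.Helper17.SuppRpush

open Groth.Agent.Lib.Helper17.MV Groth.Agent.Lib.Helper17.KInj Groth.Agent.Lib.Helper17.AffPush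
  Groth.Agent.Lib.Helper17.QCPush Groth.Agent.Lib.Helper17.DQAdj DerivedCategory
  Groth.Agent.Lib.Helper17.UnitSupp Groth.Agent.Lib.Helper17.GammaZTri

attribute [local instance] Groth.Agent.Lib.Helper17.QCPush.hasRpush

section Univ

variable {X : Scheme.{u}} (V : X.Opens) [CxOX.HasRgammaZ V.ι]

/-- if `RΓ_Z G = 0` then `Hom(A, G) = 0` for every `A` vanishing on `V`. -/
lemma hom_eq_zero_of_isZero_RgammaZ (G : DCoh.D X) (hG : IsZero ((CxOX.RgammaZ V.ι).obj G))
    (A : DCoh.D X) (hA : PZ V A) (φ : A ⟶ G) : φ = 0 := by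
  obtain ⟨ψ, hψ⟩ := (isUniv_RgammaZToId V G A hA).2 φ
  dsimp only at hψ
  rw [← hψ, hG.eq_of_tgt ψ 0, zero_comp]

/-- conversely. -/
lemma isZero_RgammaZ_of_hom_eq_zero (G : DCoh.D X)
    (h : ∀ A : DCoh.D X, PZ V A → ∀ φ : A ⟶ G, φ = 0) :
    IsZero ((CxOX.RgammaZ V.ι).obj G) := by
  rw [IsZero.iff_id_eq_zero]
  apply (isUniv_RgammaZToId V G _ (PZ_RgammaZ V G)).1
  exact (h _ (PZ_RgammaZ V G) _).trans (h _ (PZ_RgammaZ V G) _).symm

lemma hom_shift_eq_zero_of_isZero_RgammaZ (G : DCoh.D X)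
    (hG : IsZero ((CxOX.RgammaZ V.ι).obj G)) (A : DCoh.D X) (hA : PZ V A)
    (φ : A ⟶ G⟦(1 : ℤ)⟧) : φ = 0 := by
  have h1 : φ⟦(-1 : ℤ)⟧' ≫ (shiftEquiv (DCoh.D X) (1 : ℤ)).unitIso.inv.app G = 0 :=
    hom_eq_zero_of_isZero_RgammaZ V G hG _ (PZ_shift V A (-1) hA) _
  have h2 : φ⟦(-1 : ℤ)⟧' = 0 :=
    (cancel_mono ((shiftEquiv (DCoh.D X) (1 : ℤ)).unitIso.inv.app G)).1
      (h1.trans zero_comp.symm)
  exact (shiftFunctor (DCoh.D X) (-1 : ℤ)).map_injective
    (h2.trans (Functor.map_zero _ _ _).symm)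

end Univ

section Main

variable {X Xbar : Scheme.{u}} (j : X ⟶ Xbar) [IsOpenImmersion j]

/-- the counit of any adjunction `j^* ⊣ Rj_*` is an isomorphism. -/
lemma isIso_counit_app (adj : DCoh.restrictD j ⊣ DCoh.Rpush j) (F : DCoh.D X) :
    IsIso (adj.counit.app F) := by
  haveI : IsIso (adjD j).counit := isIso_adjD_counit j
  have ff := (adjD j).fullyFaithfulROfIsIsoCounit
  haveI := ff.full
  haveI := ff.faithful
  infer_instance

lemma isIso_unit_app_of_adjD (adj : DCoh.restrictD j ⊣ DCoh.Rpush j) (E : DCoh.D Xbar)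
    (hE : IsIso ((adjD j).unit.app E)) : IsIso (adj.unit.app E) := by
  have h := Adjunction.unit_leftAdjointUniq_hom_app (adjD j) adj E
  rw [← h]
  infer_instance

/-- an object vanishing on `T ⊇ j(X)` vanishes along `j`. -/
lemma isZero_restrictD_of_PZ (T : Xbar.Opens) (hT : Set.range j.base ⊆ (T : Set Xbar))
    (A : DCoh.D Xbar) (hA : PZ T A) : IsZero ((DCoh.restrictD j).obj A) := by
  refine isZero_restrictD_of_support j A ((T : Set Xbar)ᶜ) (fun i => ?_) ?_
  · have h := support_subset_of_isZero_restrictD T.ι A hA i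
    rwa [Scheme.Opens.range_ι] at h
  · exact Set.disjoint_left.2 fun x hx hx' => hx' (hT hx)

lemma isZero_RgammaZ_rpush (T : Xbar.Opens) (hT : Set.range j.base ⊆ (T : Set Xbar))
    [CxOX.HasRgammaZ T.ι] (F : DCoh.D X) :
    IsZero ((CxOX.RgammaZ T.ι).obj ((DCoh.Rpush j).obj F)) := by
  apply isZero_RgammaZ_of_hom_eq_zero
  intro A hA φ
  apply ((adjD j).homEquiv _ _).symm.injective
  exact (isZero_restrictD_of_PZ j T hT A hA).eq_of_src _ _

/-- the unit `G ⟶ Rj_* j^* G` is an isomorphism if `G` vanishes on `U'` and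
`RΓ_{(U' ∪ j(X))^c} G = 0`. -/
theorem isIso_adjD_unit_app (U' T : Xbar.Opens)
    (hT : (T : Set Xbar) = (U' : Set Xbar) ∪ Set.range j.base) [CxOX.HasRgammaZ T.ι]
    (G : DCoh.D Xbar) (hG1 : PZ U' G) (hG2 : IsZero ((CxOX.RgammaZ T.ι).obj G)) :
    IsIso ((adjD j).unit.app G) := by
  obtain ⟨C, g, h, hTr⟩ := distinguished_cocone_triangle ((adjD j).unit.app G)
  suffices hC : IsZero C from (Triangle.isZero₃_iff_isIso₁ _ hTr).1 hC
  -- `C` vanishes along `j`
  have h1 : IsZero ((DCoh.restrictD j).obj C) := by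
    have hT' := (DCoh.restrictD j).map_distinguished _ hTr
    haveI := isIso_restrictD_map_unit j G
    exact (Triangle.isZero₃_iff_isIso₁ _ hT').2
      (inferInstanceAs (IsIso ((DCoh.restrictD j).map ((adjD j).unit.app G))))
  -- `C` vanishes on `U'`
  have h2 : IsZero ((DCoh.restrictD U'.ι).obj C) := by
    have hT' := (DCoh.restrictD U'.ι).map_distinguished _ hTr
    have hz : IsZero ((DCoh.restrictD U'.ι).obj
        ((DCoh.Rpush j).obj ((DCoh.restrictD j).obj G))) :=
      isZero_restrictD_rpush j U' _ (isZero_restrictD_restrictD j U' G hG1)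
    exact (Triangle.isZero₃_iff_isIso₁ _ hT').2 ⟨⟨0, hG1.eq_of_src _ _, hz.eq_of_src _ _⟩⟩
  -- hence on `T`
  have h3 : PZ T C := by
    refine isZero_restrictD_of_support T.ι C ((T : Set Xbar)ᶜ) (fun i => ?_) ?_
    · have ha := support_subset_of_isZero_restrictD j C h1 i
      have hb := support_subset_of_isZero_restrictD U'.ι C h2 i
      rw [Scheme.Opens.range_ι] at hb
      intro x hx hxT
      rw [hT] at hxT
      rcases hxT with hxT | hxT
      · exact hb hx hxT
      · exact ha hx hxT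
    · rw [Scheme.Opens.range_ι]
      exact disjoint_compl_right
  have h4 : ∀ φ : C ⟶ (DCoh.Rpush j).obj ((DCoh.restrictD j).obj G), φ = 0 := by
    intro φ
    apply ((adjD j).homEquiv _ _).symm.injective
    exact h1.eq_of_src _ _
  have h5 : ∀ φ : C ⟶ G⟦(1 : ℤ)⟧, φ = 0 :=
    fun φ => hom_shift_eq_zero_of_isZero_RgammaZ T G hG2 C h3 φ
  rw [IsZero.iff_id_eq_zero]
  obtain ⟨g', hg'⟩ := Triangle.coyoneda_exact₃ _ hTr (𝟙 C) (h5 _)
  rw [hg', h4 g']
  exact zero_comp

section Top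

variable (U : X.Opens) (U' : Xbar.Opens)
  (hU' : (U' : Set Xbar) = (closure (j.base '' ((U : Set X)ᶜ)))ᶜ)

include hU' in
omit [IsOpenImmersion j] in
lemma preimage_le : j ⁻¹ᵁ U' ≤ U := by
  intro x hx
  by_contra hxU
  have h1 : j.base x ∈ (U' : Set Xbar) := hx
  rw [hU'] at h1
  exact h1 (subset_closure ⟨x, hxU, rfl⟩)

include hU' in
lemma disjoint_image_compl : Disjoint (j.base '' (U : Set X)) ((U' : Set Xbar)ᶜ) := by
  rw [hU', compl_compl]
  have ho : IsOpen (j.base '' (U : Set X)) := j.isOpenEmbedding.isOpenMap _ U.2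
  refine Disjoint.closure_right ?_ ho
  rw [Set.disjoint_left]
  rintro _ ⟨x, hx, rfl⟩ ⟨y, hy, hxy⟩
  exact hy ((j.isOpenEmbedding.injective hxy) ▸ hx)

include hU' in
/-- `Rj_* F` is supported on the closure of `j(Z)` if `F` is supported on `Z`. -/
lemma isSuppD_rpush (F : DCoh.D X) (hF : CxOX.IsSuppD U.ι F) :
    CxOX.IsSuppD U'.ι ((DCoh.Rpush j).obj F) := by
  rw [isSuppD_iff] at hF ⊢
  refine isZero_restrictD_rpush j U' F ?_
  refine isZero_restrictD_of_support _ F ((U : Set X)ᶜ) (fun i => ?_) ?_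
  · have h := support_subset_of_isZero_restrictD U.ι F hF i
    rwa [Scheme.Opens.range_ι] at h
  · rw [Scheme.Opens.range_ι]
    exact Set.disjoint_left.2 fun x hx hx' => hx' (preimage_le j U U' hU' hx)

include hU' in
/-- `j^* G` is supported on `Z` if `G` is supported on the closure of `j(Z)`. -/
lemma isSuppD_restrictD (G : DCoh.D Xbar) (hG : CxOX.IsSuppD U'.ι G) :
    CxOX.IsSuppD U.ι ((DCoh.restrictD j).obj G) := by
  rw [isSuppD_iff]
  have h1 : IsZero ((DCoh.restrictD (U.ι ≫ j)).obj G) := by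
    refine isZero_restrictD_of_support (U.ι ≫ j) G ((U' : Set Xbar)ᶜ) (fun i => ?_) ?_
    · have h := hG i
      rwa [Scheme.Opens.range_ι] at h
    · have hr : Set.range (U.ι ≫ j).base = j.base '' (U : Set X) := by
        rw [Scheme.Hom.comp_base, TopCat.coe_comp, Set.range_comp, Scheme.Opens.range_ι]
      rw [hr]
      exact disjoint_image_compl j U U' hU'
  exact IsZero.of_iso h1 ((restrictDComp U.ι j).app G).symm

end Top

end Main

end Groth.Agent.Lib.Helper17.SuppRpush
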