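import Groth.Agent.Lib.Helper17TildeD1
import Groth.Agent.Lib.Helper17Hyp24

/-!
# The unit of a derived adjunction on objects in degree zero (helper17)

`F : A ⥤ B` an exact fully faithful functor, `F.mapDerivedCategory ⊣ R`, `P` a projective separator of `A`
with `Hom(F P [0], F M [0][k]) = 0` for `k ≠ 0`: then the unit is an isomorphism at `M[0]`.
-/

set_option autoImplicit false

universe w w' w'' v v' u u'

open CategoryTheory CategoryTheory.Limits Opposite

namespace Groth.Agent.Lib.Helper17.TildeD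

open DerivedCategory Groth.Agent.Lib.Helper17.Hyp Groth.Agent.Lib.Helper17.AdjWay

section Shift

variable {T : Type u} [Category.{v} T] [Preadditive T] [HasShift T ℤ]
  {T' : Type u'} [Category.{v'} T'] [Preadditive T'] [HasShift T' ℤ]
  {G : T ⥤ T'} {R : T' ⥤ T} (adj : G ⊣ R) [G.CommShift ℤ] [R.CommShift ℤ] [adj.CommShift ℤ]

lemma adjShiftEquiv_unit (S Y : T) (n : ℤ) (ξ : S ⟶ Y⟦n⟧) :
    adjShiftEquiv adj S (G.obj Y) n (ξ ≫ (adj.unit.app Y)⟦n⟧') =
      G.map ξ ≫ (G.commShiftIso n).hom.app Y := by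
  change (adj.homEquiv S ((G.obj Y)⟦n⟧)).symm
    ((ξ ≫ (adj.unit.app Y)⟦n⟧') ≫ (R.commShiftIso n).inv.app (G.obj Y)) = _
  rw [Equiv.symm_apply_eq, adj.shift_unit_app n Y, adj.homEquiv_unit]
  simp only [Category.assoc, Iso.hom_inv_id_app, Functor.map_comp]
  erw [Category.comp_id]
  have := adj.unit.naturality ξ
  simp only [Functor.id_map, Functor.comp_map] at this
  rw [← Category.assoc, this, Category.assoc]

end Shift

section Sub

variable {T : Type u} [Category.{v} T]

lemma subsingleton_hom_of_isos {X X' Y Y' : T} (eX : X ≅ X') (eY : Y ≅ Y')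
    (h : Subsingleton (X' ⟶ Y')) : Subsingleton (X ⟶ Y) :=
  ⟨fun a b => by
    rw [← cancel_epi eX.inv, ← cancel_mono eY.hom]
    exact Subsingleton.elim _ _⟩

lemma bijective_of_subsingleton {α β : Type*} (hα : Subsingleton α) (hβ : Subsingleton β)
    (a₀ : α) (f : α → β) : Function.Bijective f :=
  ⟨fun a b _ => Subsingleton.elim a b, fun b => ⟨a₀, Subsingleton.elim _ _⟩⟩

lemma bijective_conj {X X' Y Y' : T} (a : X ≅ X') (b : Y ≅ Y') :
    Function.Bijective (fun y : X' ⟶ Y' => a.hom ≫ y ≫ b.inv) := by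
  constructor
  · intro y y' h
    dsimp only at h
    rwa [cancel_epi, cancel_mono] at h
  · intro z
    refine ⟨a.inv ≫ z ≫ b.hom, ?_⟩
    dsimp only
    simp only [Category.assoc, Iso.hom_inv_id, Category.comp_id, Iso.hom_inv_id_assoc]

end Sub

section Main

variable {A : Type (v + 1)} [Category.{v} A] [Abelian A] [HasDerivedCategory.{w} A]
  {B : Type (v' + 1)} [Category.{v'} B] [Abelian B] [HasDerivedCategory.{w'} B]
  (F : A ⥤ B) [F.Additive] [PreservesFiniteLimits F] [PreservesFiniteColimits F]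

/-- `F.mapDerivedCategory` is bijective on `Hom(P[0], M[0])` when `F` is fully faithful. -/
lemma bijective_map_dsgl (hF : ∀ M N : A, Function.Bijective (fun φ : M ⟶ N => F.map φ)) (P M : A) :
    Function.Bijective (fun ξ : dsgl P ⟶ dsgl M => F.mapDerivedCategory.map ξ) := by
  let ι := F.mapDerivedCategorySingleFunctor 0
  have hcomp : (fun g : P ⟶ M => F.mapDerivedCategory.map ((singleFunctor A 0).map g)) =
      (fun y : (singleFunctor B 0).obj (F.obj P) ⟶ (singleFunctor B 0).obj (F.obj M) =>
        ι.hom.app P ≫ y ≫ ι.inv.app M) ∘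
      (fun g' : F.obj P ⟶ F.obj M => (singleFunctor B 0).map g') ∘ (fun g : P ⟶ M => F.map g) := by
    funext g
    dsimp only [Function.comp]
    have := ι.hom.naturality g
    simp only [Functor.comp_map] at this
    rw [← Category.assoc, ← this, Category.assoc, Iso.hom_inv_id_app]
    exact (Category.comp_id _).symm
  have h1 : Function.Bijective (fun g : P ⟶ M =>
      F.mapDerivedCategory.map ((singleFunctor A 0).map g)) := by
    rw [hcomp]
    refine Function.Bijective.comp (bijective_conj (ι.app P) (ι.app M))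
      (Function.Bijective.comp ?_ (hF P M))
    · exact ⟨(singleFunctor B 0).map_injective, (singleFunctor B 0).map_surjective⟩
  have h2 : Function.Bijective (fun g : P ⟶ M => (singleFunctor A 0).map g) :=
    ⟨(singleFunctor A 0).map_injective, (singleFunctor A 0).map_surjective⟩
  exact (Function.Bijective.of_comp_iff
    (fun ξ : dsgl P ⟶ dsgl M => F.mapDerivedCategory.map ξ) h2).1 h1

/-- `F.mapDerivedCategory` is bijective on `Hom(S, W)` when `S`, `W` are isomorphic to objects in
degree zero. -/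
lemma bijective_map_of_iso (hF : ∀ M N : A, Function.Bijective (fun φ : M ⟶ N => F.map φ))
    {S W : DerivedCategory A} {P M : A} (eS : S ≅ dsgl P) (eW : W ≅ dsgl M) :
    Function.Bijective (fun ξ : S ⟶ W => F.mapDerivedCategory.map ξ) := by
  have hcomp : (fun ξ : S ⟶ W => F.mapDerivedCategory.map ξ) =
      (fun y : F.mapDerivedCategory.obj (dsgl P) ⟶ F.mapDerivedCategory.obj (dsgl M) =>
        F.mapDerivedCategory.map eS.hom ≫ y ≫ F.mapDerivedCategory.map eW.inv) ∘
      (fun ξ : dsgl P ⟶ dsgl M => F.mapDerivedCategory.map ξ) ∘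
      (fun ξ : S ⟶ W => eS.inv ≫ ξ ≫ eW.hom) := by
    funext ξ
    dsimp only [Function.comp]
    rw [← Functor.map_comp, ← Functor.map_comp]
    simp only [Category.assoc, Iso.hom_inv_id, Category.comp_id, Iso.hom_inv_id_assoc]
  rw [hcomp]
  exact Function.Bijective.comp
    (bijective_conj (F.mapDerivedCategory.mapIso eS) (F.mapDerivedCategory.mapIso eW))
    (Function.Bijective.comp (bijective_map_dsgl F hF P M) (bijective_conj eS.symm eW.symm))

variable (R : DerivedCategory B ⥤ DerivedCategory A) (adj : F.mapDerivedCategory ⊣ R)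

include adj in
/-- the unit of the derived adjunction is an isomorphism on objects in degree zero. -/
theorem isIso_unit_app_dsgl [IsGrothendieckAbelian.{w''} A] (P : A) [Projective P]
    (hP : IsSeparator P)
    (hF : ∀ M N : A, Function.Bijective (fun φ : M ⟶ N => F.map φ))
    (hvan : ∀ (M : A) (k : ℤ), k ≠ 0 → Subsingleton (dsgl (F.obj P) ⟶ (dsgl (F.obj M))⟦k⟧))
    (M : A) : IsIso (adj.unit.app ((singleFunctor A 0).obj M)) := by
  letI : R.CommShift ℤ := adj.rightAdjointCommShift ℤ
  haveI : adj.CommShift ℤ := adj.commShift_of_leftAdjoint ℤ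
  apply isIso_of_bijective_postcomp.{w, w''} (locFr_const P hP)
  intro U n
  change Function.Bijective (fun ξ : dsgl P ⟶ (dsgl M)⟦n⟧ =>
    ξ ≫ (adj.unit.app (dsgl M))⟦n⟧')
  let ι := F.mapDerivedCategorySingleFunctor 0
  by_cases hn : n = 0
  · subst hn
    -- reduce to bijectivity of `F'.map`
    have hfun : (fun ξ : dsgl P ⟶ (dsgl M)⟦(0 : ℤ)⟧ => ξ ≫ (adj.unit.app (dsgl M))⟦(0 : ℤ)⟧') =
        (adjShiftEquiv adj (dsgl P) (F.mapDerivedCategory.obj (dsgl M)) 0).symm ∘
        (fun y : F.mapDerivedCategory.obj (dsgl P) ⟶ F.mapDerivedCategory.obj ((dsgl M)⟦(0 : ℤ)⟧) =>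
          y ≫ (F.mapDerivedCategory.commShiftIso (0 : ℤ)).hom.app (dsgl M)) ∘
        (fun ξ : dsgl P ⟶ (dsgl M)⟦(0 : ℤ)⟧ => F.mapDerivedCategory.map ξ) := by
      funext ξ
      dsimp only [Function.comp]
      rw [Equiv.eq_symm_apply]
      exact adjShiftEquiv_unit adj (dsgl P) (dsgl M) 0 ξ
    rw [hfun]
    refine (Equiv.bijective _).comp (Function.Bijective.comp ?_
      (bijective_map_of_iso F hF (Iso.refl _) ((shiftFunctorZero _ ℤ).app (dsgl M))))
    constructor
    · intro y y' h
      dsimp only at h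
      rwa [cancel_mono] at h
    · intro z
      exact ⟨z ≫ (F.mapDerivedCategory.commShiftIso (0 : ℤ)).inv.app (dsgl M), by
        dsimp only
        rw [Category.assoc, Iso.inv_hom_id_app]
        exact Category.comp_id _⟩
  · have h1 : Subsingleton (dsgl P ⟶ (dsgl M)⟦n⟧) := subsingleton_hom_of_projective P M n hn
    have h2 : Subsingleton (dsgl P ⟶ (R.obj (F.mapDerivedCategory.obj (dsgl M)))⟦n⟧) := by
      refine @Equiv.subsingleton _ _
        (adjShiftEquiv adj (dsgl P) (F.mapDerivedCategory.obj (dsgl M)) n) ?_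
      exact subsingleton_hom_of_isos (ι.app P) ((shiftFunctor _ n).mapIso (ι.app M)) (hvan M n hn)
    exact bijective_of_subsingleton h1 h2 0 _

end Main

end Groth.Agent.Lib.Helper17.TildeD
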