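import Groth.Agent.Lib.Helper17TildeD2
import Groth.Agent.Lib.Helper17Hyp22

/-!
# `D(A) ≃ D_{PB}(B)` for an exact fully faithful `F : A ⥤ B` with a projective separator (helper17)
-/

set_option autoImplicit false

universe w w' w'' v v' u u'

open CategoryTheory CategoryTheory.Limits Opposite ZeroObject

namespace Groth.Agent.Lib.Helper17.TildeD

open DerivedCategory Groth.Agent.Lib.Helper17.Hyp Groth.Agent.Lib.Helper17.AdjWay

section Top

variable {A : Type u} [Category.{v} A] [Abelian A]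

/-- all objects. -/
def allObj (A : Type u) [Category.{v} A] : ObjectProperty A := fun _ => True

instance isWeakSerre_allObj : WSerre.IsWeakSerre (allObj A) where
  exists_zero := ⟨0, isZero_zero _, trivial⟩
  kernels_le := fun _ _ => trivial
  cokernels_le := fun _ _ => trivial
  prop_X₂_of_shortExact _ _ _ := trivial

end Top

section Main

variable {A : Type (v + 1)} [Category.{v} A] [Abelian A] [HasDerivedCategory.{w} A]
  {B : Type (v' + 1)} [Category.{v'} B] [Abelian B] [HasDerivedCategory.{w'} B]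
  (F : A ⥤ B) [F.Additive] [PreservesFiniteLimits F] [PreservesFiniteColimits F]
  (R : DerivedCategory B ⥤ DerivedCategory A) (adj : F.mapDerivedCategory ⊣ R)
  (PB : ObjectProperty B) [WSerre.IsWeakSerre PB]
  [HasLimitsOfShape (Discrete ℕ) (DerivedCategory A)]

include adj in
/-- stabilisation of the cohomology of `R lim R(X_n)`. -/
theorem stab [IsGrothendieckAbelian.{w''} A] (P : A) [Projective P] (hP : IsSeparator P)
    (h2a : ∀ M : A, PB (F.obj M))
    (h2b : ∀ M N : A, Function.Bijective (fun φ : M ⟶ N => F.map φ))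
    (h2c : ∀ N : B, PB N → ∃ M : A, Nonempty (F.obj M ≅ N))
    (h3 : ∀ M : A, IsIso (adj.unit.app ((singleFunctor A 0).obj M)))
    (X : ℕ → DerivedCategory B) (t : ∀ n, X (n + 1) ⟶ X n)
    (hXn : ∀ n, WSerre.cohInPlus PB (X n))
    (hconst : ∀ j : ℤ, ∃ n₀ : ℕ, ∀ n, n₀ ≤ n → IsIso ((homologyFunctor B j).map (t n)))
    (L : DerivedCategory A) (a : ∀ n, L ⟶ R.obj (X n))
    (hL : CohCx.IsRlimVia (fun n => R.obj (X n)) (fun n => R.map (t n)) L a) (j : ℤ) :
    ∃ n₀ : ℕ, ∀ n, n₀ ≤ n → IsIso ((homologyFunctor A j).map (a n)) := by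
  have h2c' : ∀ N : B, PB N → ∃ M : A, allObj A M ∧ Nonempty (F.obj M ≅ N) := fun N hN => by
    obtain ⟨M, hM⟩ := h2c N hN
    exact ⟨M, trivial, hM⟩
  have hK : ∀ n, WSerre.cohInPlus (allObj A) (R.obj (X n)) := fun n =>
    ((plus_equivalence F R adj (allObj A) PB h2c' (fun M _ => h3 M) (fun M _ => h2a M)).2 _
      (hXn n)).1
  have hconstK : ∀ j' : ℤ, ∃ n₀ : ℕ, ∀ n, n₀ ≤ n →
      IsIso ((homologyFunctor A j').map (R.map (t n))) := by
    intro j'
    obtain ⟨n₀, hn₀⟩ := hconst j'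
    exact ⟨n₀, fun n hn => isIso_homology_right_map F R adj (allObj A) PB (fun M _ => h2a M)
      (fun M N _ _ => h2b M N) h2c' (fun M _ => h3 M) (hXn (n + 1)) (hXn n) (t n) j' (hn₀ n hn)⟩
  choose n₀ hn₀ using hconstK
  refine ⟨n₀ j, fun n hn => ?_⟩
  apply isIso_homology_of_evBij.{w, w''} (locFr_const P hP) hL j n
    (fun n' hn' => hn₀ j n' (le_trans hn hn'))
  intro U
  refine ⟨(⊤ : Sieve U).arrows, by rw [Sieve.generate_sieve]; exact GrothendieckTopology.top_mem _ _,
    ?_⟩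
  intro V g _
  let N := max n ((Finset.Icc (j - 2) (j + 1)).sup n₀)
  have hN : ∀ q : ℤ, j - 2 ≤ q → q ≤ j + 1 → n₀ q ≤ N := fun q h1 h2 =>
    le_trans (Finset.le_sup (f := n₀) (Finset.mem_Icc.2 ⟨h1, h2⟩)) (le_max_right _ _)
  refine ⟨N, le_max_left _ _, fun T hT => ⟨T.arrows, le_rfl, by rwa [Sieve.generate_sieve], ?_⟩⟩
  intro W g' _
  have hP' : ∀ M : A, allObj A M → ∀ k : ℕ, 0 < k →
      Subsingleton (dsgl P ⟶ ((singleFunctor A 0).obj M)⟦(k : ℤ)⟧) :=
    fun M _ k hk => subsingleton_hom_of_projective P M k (by omega)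
  constructor
  · intro n' hn'
    exact bijective_postcomp_of_homology (allObj A) (dsgl P) 0 hP' (R.map (t n'))
      (hK _) (hK _) (j - 1)
      (fun q h1 h2 => hn₀ q n' (le_trans (hN q (by push_cast at h1; omega) (by omega)) hn'))
  · intro n' hn'
    exact bijective_postcomp_of_homology (allObj A) (dsgl P) 0 hP' (R.map (t n'))
      (hK _) (hK _) j
      (fun q h1 h2 => hn₀ q n' (le_trans (hN q (by push_cast at h1; omega) (by omega)) hn'))

variable [HasLimitsOfShape (Discrete ℕ) (DerivedCategory B)]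

include adj in
/-- the main theorem: `F^* : D(A) ≃ D_{PB}(B) : R`. -/
theorem main [IsGrothendieckAbelian.{w''} A] (P : A) [Projective P] (hP : IsSeparator P)
    (h2a : ∀ M : A, PB (F.obj M))
    (h2b : ∀ M N : A, Function.Bijective (fun φ : M ⟶ N => F.map φ))
    (h2c : ∀ N : B, PB N → ∃ M : A, Nonempty (F.obj M ≅ N))
    (hvan : ∀ (M : A) (k : ℤ), k ≠ 0 → Subsingleton (dsgl (F.obj P) ⟶ (dsgl (F.obj M))⟦k⟧))
    (HB : ∀ X : DerivedCategory B, WSerre.cohIn PB X →
      CohCx.IsRlimVia (CohCx.truncTower X) (CohCx.truncTowerMap X) X (CohCx.toTruncTower X)) :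
    (∀ Y : DerivedCategory A,
      WSerre.cohIn PB (F.mapDerivedCategory.obj Y) ∧ IsIso (adj.unit.app Y)) ∧
    (∀ X : DerivedCategory B, WSerre.cohIn PB X → IsIso (adj.counit.app X)) := by
  have h3 : ∀ M : A, IsIso (adj.unit.app ((singleFunctor A 0).obj M)) :=
    isIso_unit_app_dsgl.{w, w', w''} F R adj P hP h2b hvan
  have h2c' : ∀ N : B, PB N → ∃ M : A, allObj A M ∧ Nonempty (F.obj M ≅ N) := fun N hN => by
    obtain ⟨M, hM⟩ := h2c N hN
    exact ⟨M, trivial, hM⟩
  obtain ⟨r1, r2⟩ := unbounded_equivalence F R adj (allObj A) PB (fun M _ => h2a M) h2c'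
    (fun M _ => h3 M) HB
    (fun X t hXn hconst L a hL j =>
      stab.{w, w', w''} F R adj PB P hP h2a h2b h2c h3 X t hXn hconst L a hL j)
  exact ⟨fun Y => r1 Y (fun _ => trivial), fun X hX => (r2 X hX).2⟩

end Main

end Groth.Agent.Lib.Helper17.TildeD
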