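import Mathlib.AlgebraicGeometry.Modules.Tilde
import Mathlib.Algebra.Homology.DerivedCategory.ExactFunctor

/-!
# `(M_A)~ ≅ (Spec φ)_* (M~)` naturally, and the induced comparison on derived categories (helper17)
-/

set_option autoImplicit false

universe u

open CategoryTheory CategoryTheory.Limits Opposite AlgebraicGeometry TopologicalSpace

namespace Groth.Agent.Lib.Helper17.TildePush

section Modules

variable {R S : CommRingCat.{u}} (φ : R ⟶ S)

/-- global sections of a pushforward along `Spec.map φ` (as in helper5's `pushforwardΓIso`). -/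
noncomputable def pushΓIso :
    Scheme.Modules.pushforward (Spec.map φ) ⋙ moduleSpecΓFunctor (R := R) ≅
      moduleSpecΓFunctor (R := S) ⋙ ModuleCat.restrictScalars φ.hom :=
  Functor.isoWhiskerRight (pushforwardCompModulesSpecToSheafIso φ)
    (TopCat.Sheaf.forget _ _ ⋙ (evaluation _ _).obj (.op ⊤)) ≪≫
  NatIso.ofComponents (fun M => Iso.refl _) (fun f => by rfl)

/-- the comparison map `(M_R)~ ⟶ (Spec φ)_* (M~)`, natural in the `S`-module `M`. -/
noncomputable def tildePushHom :
    ModuleCat.restrictScalars φ.hom ⋙ tilde.functor R ⟶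
      tilde.functor S ⋙ Scheme.Modules.pushforward (Spec.map φ) :=
  Functor.whiskerRight
    ((Functor.leftUnitor _).inv ≫
      Functor.whiskerRight (tilde.toTildeΓNatIso (R := S)).hom
        (ModuleCat.restrictScalars φ.hom) ≫
      (Functor.associator _ _ _).hom ≫
      Functor.whiskerLeft (tilde.functor S) (pushΓIso φ).inv ≫
      (Functor.associator _ _ _).inv) (tilde.functor R) ≫
    (Functor.associator _ _ _).hom ≫
    Functor.whiskerLeft (tilde.functor S ⋙ Scheme.Modules.pushforward (Spec.map φ))
      (Scheme.Modules.fromTildeΓNatTrans (R := R)) ≫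
    (Functor.rightUnitor _).hom

instance (M : ModuleCat.{u} S) : IsIso ((tildePushHom φ).app M) := by
  haveI : IsIso (Scheme.Modules.fromTildeΓ
      ((Scheme.Modules.pushforward (Spec.map φ)).obj ((tilde.functor S).obj M))) :=
    isIso_fromTildeΓ_pushforward φ ((tilde.functor S).obj M)
  dsimp [tildePushHom, Scheme.Modules.fromTildeΓNatTrans]
  simp only [Category.id_comp, Category.comp_id]
  haveI h1 : IsIso ((tilde.toTildeΓNatIso (R := S)).hom.app M) := inferInstance
  haveI h2 : IsIso ((pushΓIso φ).inv.app ((tilde.functor S).obj M)) := inferInstance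
  haveI h3 : IsIso ((ModuleCat.restrictScalars (CommRingCat.Hom.hom φ)).map
      ((tilde.toTildeΓNatIso (R := S)).hom.app M)) := inferInstance
  haveI h4 : IsIso ((ModuleCat.restrictScalars (CommRingCat.Hom.hom φ)).map
      ((tilde.toTildeΓNatIso (R := S)).hom.app M) ≫
        (pushΓIso φ).inv.app ((tilde.functor S).obj M)) := inferInstance
  haveI h5 : IsIso ((tilde.functor R).map
      ((ModuleCat.restrictScalars (CommRingCat.Hom.hom φ)).map
      ((tilde.toTildeΓNatIso (R := S)).hom.app M) ≫
        (pushΓIso φ).inv.app ((tilde.functor S).obj M))) := inferInstance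
  exact @IsIso.comp_isIso _ _ _ _ _ _ _ h5 this

instance : IsIso (tildePushHom φ) := NatIso.isIso_of_isIso_app _

/-- `(M_R)~ ≅ (Spec φ)_* (M~)`, natural in the `S`-module `M`. -/
noncomputable def tildePushIso :
    tilde.functor S ⋙ Scheme.Modules.pushforward (Spec.map φ) ≅
      ModuleCat.restrictScalars φ.hom ⋙ tilde.functor R :=
  (asIso (tildePushHom φ)).symm

end Modules

end Groth.Agent.Lib.Helper17.TildePush
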