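import Mathlib.Algebra.Homology.DerivedCategory.ExactFunctor

/-!
# Comparing a derived functor precomposed with an exact functor with exact functors (helper17)

`T₁ : C₁ ⥤ C₂`, `ρ : C₁ ⥤ C₃`, `T₂ : C₃ ⥤ C₄` exact, `G : C₂ ⥤ C₄` additive with a functor
`RG : D(C₂) ⥤ D(C₄)` and a "unit" `β : G ⋙ Q ⟶ Q ⋙ RG` on complexes which is invertible on the
complexes of the form `T₁ K`.  A natural isomorphism `T₁ ⋙ G ≅ ρ ⋙ T₂` then induces
`D(T₁) ⋙ RG ≅ D(ρ) ⋙ D(T₂)`.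
-/

set_option autoImplicit false

universe w₁ w₂ w₃ w₄ v₁ v₂ v₃ v₄ u₁ u₂ u₃ u₄

open CategoryTheory CategoryTheory.Limits

namespace Groth.Agent.Lib.Helper17.TildePush

variable {C₁ : Type u₁} [Category.{v₁} C₁] [Abelian C₁] [HasDerivedCategory.{w₁} C₁]
  {C₂ : Type u₂} [Category.{v₂} C₂] [Abelian C₂] [HasDerivedCategory.{w₂} C₂]
  {C₃ : Type u₃} [Category.{v₃} C₃] [Abelian C₃] [HasDerivedCategory.{w₃} C₃]
  {C₄ : Type u₄} [Category.{v₄} C₄] [Abelian C₄] [HasDerivedCategory.{w₄} C₄]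
  (T₁ : C₁ ⥤ C₂) [T₁.Additive] [PreservesFiniteLimits T₁] [PreservesFiniteColimits T₁]
  (ρ : C₁ ⥤ C₃) [ρ.Additive] [PreservesFiniteLimits ρ] [PreservesFiniteColimits ρ]
  (T₂ : C₃ ⥤ C₄) [T₂.Additive] [PreservesFiniteLimits T₂] [PreservesFiniteColimits T₂]
  (G : C₂ ⥤ C₄) [G.Additive]
  (RG : DerivedCategory C₂ ⥤ DerivedCategory C₄)
  (β : G.mapHomologicalComplex (ComplexShape.up ℤ) ⋙ DerivedCategory.Q ⟶
    DerivedCategory.Q ⋙ RG)
  (θ : T₁ ⋙ G ≅ ρ ⋙ T₂)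

/-- the comparison isomorphism on complexes. -/
noncomputable def cxIso
    (hβ : ∀ K : CochainComplex C₁ ℤ,
      IsIso (β.app ((T₁.mapHomologicalComplex (ComplexShape.up ℤ)).obj K))) :
    DerivedCategory.Q ⋙ T₁.mapDerivedCategory ⋙ RG ≅
      DerivedCategory.Q ⋙ ρ.mapDerivedCategory ⋙ T₂.mapDerivedCategory :=
  haveI : IsIso (Functor.whiskerLeft (T₁.mapHomologicalComplex (ComplexShape.up ℤ)) β) := by
    haveI : ∀ K, IsIso ((Functor.whiskerLeft
        (T₁.mapHomologicalComplex (ComplexShape.up ℤ)) β).app K) := fun K => by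
      rw [Functor.whiskerLeft_app]
      exact hβ K
    exact NatIso.isIso_of_isIso_app _
  (Functor.associator _ _ _).symm ≪≫
    Functor.isoWhiskerRight T₁.mapDerivedCategoryFactors RG ≪≫
    Functor.associator _ _ _ ≪≫
    (asIso (Functor.whiskerLeft (T₁.mapHomologicalComplex (ComplexShape.up ℤ)) β)).symm ≪≫
    (Functor.associator _ _ _).symm ≪≫
    Functor.isoWhiskerRight (Functor.mapHomologicalComplexCompIso θ (ComplexShape.up ℤ) ≪≫
      (Functor.mapHomologicalComplexCompIso (Iso.refl (ρ ⋙ T₂)) (ComplexShape.up ℤ)).symm)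
      DerivedCategory.Q ≪≫
    Functor.associator _ _ _ ≪≫
    Functor.isoWhiskerLeft _ T₂.mapDerivedCategoryFactors.symm ≪≫
    (Functor.associator _ _ _).symm ≪≫
    Functor.isoWhiskerRight ρ.mapDerivedCategoryFactors.symm _ ≪≫
    Functor.associator _ _ _

include θ in
/-- `D(T₁) ⋙ RG ≅ D(ρ) ⋙ D(T₂)`. -/
theorem nonempty_iso_of_unit
    (hβ : ∀ K : CochainComplex C₁ ℤ,
      IsIso (β.app ((T₁.mapHomologicalComplex (ComplexShape.up ℤ)).obj K))) :
    Nonempty (T₁.mapDerivedCategory ⋙ RG ≅ ρ.mapDerivedCategory ⋙ T₂.mapDerivedCategory) := by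
  letI : Localization.Lifting DerivedCategory.Q
      (HomologicalComplex.quasiIso C₁ (ComplexShape.up ℤ))
      (DerivedCategory.Q ⋙ T₁.mapDerivedCategory ⋙ RG) (T₁.mapDerivedCategory ⋙ RG) :=
    ⟨Iso.refl _⟩
  letI : Localization.Lifting DerivedCategory.Q
      (HomologicalComplex.quasiIso C₁ (ComplexShape.up ℤ))
      (DerivedCategory.Q ⋙ ρ.mapDerivedCategory ⋙ T₂.mapDerivedCategory)
      (ρ.mapDerivedCategory ⋙ T₂.mapDerivedCategory) :=
    ⟨Iso.refl _⟩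
  exact ⟨Localization.liftNatIso DerivedCategory.Q
    (HomologicalComplex.quasiIso C₁ (ComplexShape.up ℤ)) _ _ _ _ (cxIso T₁ ρ T₂ G RG β θ hβ)⟩

end Groth.Agent.Lib.Helper17.TildePush
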