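import Groth.Agent.Lib.Helper17TildePush1
import Groth.Agent.Lib.Helper17TildePush2
import Groth.Agent.Lib.Helper17AffPush6

/-!
# `Rf_* (M~) ≅ (M_A)~` on derived categories, `f = Spec φ` (helper17)
-/

set_option autoImplicit false
set_option linter.style.haveILetI false
set_option maxHeartbeats 400000
set_option synthInstance.maxHeartbeats 40000

universe u

open CategoryTheory CategoryTheory.Limits Opposite AlgebraicGeometry TopologicalSpace

attribute [local instance] HasDerivedCategory.standard

namespace Groth.Agent.Lib.Helper17.TildePush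

open Groth.Agent.Lib.Helper17.AffPush

theorem nonempty_tildeD_rpush_iso' {R S : CommRingCat.{u}} (φ : R ⟶ S)
    [PreservesFiniteLimits (tilde.functor R)]
    [PreservesFiniteLimits (tilde.functor S)]
    [DCoh.HasRpush (Spec.map φ)] :
    Nonempty (DCoh.tildeD S ⋙ DCoh.Rpush (Spec.map φ) ≅
      (ModuleCat.restrictScalars.{u} φ.hom).mapDerivedCategory ⋙ DCoh.tildeD R) := by
  exact nonempty_iso_of_unit (tilde.functor S) (ModuleCat.restrictScalars.{u} φ.hom)
    (tilde.functor R)
    (Scheme.Modules.pushforward (Spec.map φ))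
    (DCoh.Rpush (Spec.map φ))
    (rpushUnit (Spec.map φ))
    (tildePushIso φ)
    (fun K => isIso_rpushUnit_app (Spec.map φ) _ (fun n =>
      inferInstanceAs ((tilde.functor S).obj (K.X n)).IsQuasicoherent))

theorem nonempty_tildeD_rpush_iso {A B : Type u} [CommRing A] [CommRing B] (φ : A →+* B)
    [PreservesFiniteLimits (tilde.functor (CommRingCat.of A))]
    [PreservesFiniteLimits (tilde.functor (CommRingCat.of B))]
    [DCoh.HasRpush (Spec.map (CommRingCat.ofHom φ))] :
    Nonempty (DCoh.tildeD (CommRingCat.of B) ⋙ DCoh.Rpush (Spec.map (CommRingCat.ofHom φ)) ≅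
      DRing.restrictD φ ⋙ DCoh.tildeD (CommRingCat.of A)) :=
  nonempty_tildeD_rpush_iso' (CommRingCat.ofHom φ)

end Groth.Agent.Lib.Helper17.TildePush
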