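import Mathlib

/-!
# Towers with `0 → N_n → N_{n+1} → N_0 → 0` and `f = i ∘ t` (helper17)

Abstract module-level form of: if multiplication by `f` on `N_{n+1}` factors as the transition map
`N_{n+1} → N_n` followed by an injection `i_n : N_n → N_{n+1}` and `0 → N_n → N_{n+1} → N_0 → 0` is exact,
then the transition maps are surjective, `f^{n+1} N_n = 0` and `ker (N_{n+1} → N_n) = f^{n+1} N_{n+1}`.
-/

set_option autoImplicit false
universe u

namespace Groth.Agent.Lib.Helper17.TorsFreeAlg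

variable {R : Type u} [CommRing R] (f : R)
  {N : ℕ → Type u} [∀ n, AddCommGroup (N n)] [∀ n, Module R (N n)]
  (T : ∀ m m' : ℕ, m ≤ m' → (N m' →ₗ[R] N m)) (i : ∀ n, N n →ₗ[R] N (n + 1))

structure SysHyp : Prop where
  T_trans : ∀ m m' m'' (h : m ≤ m') (h' : m' ≤ m'') (y : N m''),
    T m m' h (T m' m'' h' y) = T m m'' (h.trans h') y
  i_inj : ∀ n, Function.Injective (i n)
  i_T : ∀ n (x : N (n + 1)), i n (T n (n + 1) (Nat.le_succ n) x) = f • x
  exact : ∀ n (x : N (n + 1)), T 0 (n + 1) (Nat.zero_le _) x = 0 → ∃ y, i n y = x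
  zero : ∀ n (y : N n), T 0 (n + 1) (Nat.zero_le _) (i n y) = 0
  surj0 : ∀ n, Function.Surjective (T 0 (n + 1) (Nat.zero_le _))

variable {f T i}

namespace SysHyp

variable (h : SysHyp f T i)
include h

theorem T_i (n : ℕ) (y : N n) : T n (n + 1) (Nat.le_succ n) (i n y) = f • y := by
  apply h.i_inj n
  rw [h.i_T, map_smul]

theorem surj (n : ℕ) : Function.Surjective (T n (n + 1) (Nat.le_succ n)) := by
  induction n with
  | zero => exact h.surj0 0
  | succ n ih =>
    intro z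
    obtain ⟨x1, hx1⟩ := h.surj0 (n + 1) (T 0 (n + 1) (Nat.zero_le _) z)
    have hk : T 0 (n + 1) (Nat.zero_le _) (z - T (n + 1) (n + 1 + 1) (Nat.le_succ _) x1) = 0 := by
      rw [map_sub, h.T_trans, hx1, sub_self]
    obtain ⟨y, hy⟩ := h.exact n _ hk
    obtain ⟨y', hy'⟩ := ih y
    refine ⟨x1 + i (n + 1) y', ?_⟩
    rw [map_add, h.T_i, ← h.i_T n y', hy', hy]
    abel

theorem kill (n : ℕ) (y : N n) : f ^ (n + 1) • y = 0 := by
  induction n with
  | zero =>
    have : f ^ (0 + 1) • y = f • y := by simp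
    rw [this, ← h.T_i 0 y]
    exact h.zero 0 y
  | succ n ih =>
    rw [pow_succ, mul_smul, ← h.i_T n y, ← map_smul, ih, map_zero]

theorem ker (n : ℕ) (x : N (n + 1)) (hx : T n (n + 1) (Nat.le_succ n) x = 0) :
    ∃ z : N (n + 1), x = f ^ (n + 1) • z := by
  induction n with
  | zero =>
    obtain ⟨y, rfl⟩ := h.exact 0 x hx
    obtain ⟨y', rfl⟩ := h.surj 0 y
    exact ⟨y', by rw [h.i_T]; simp⟩
  | succ n ih =>
    have h0 : T 0 (n + 1 + 1) (Nat.zero_le _) x = 0 := by
      rw [← h.T_trans 0 (n + 1) (n + 1 + 1) (Nat.zero_le _) (Nat.le_succ _), hx, map_zero]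
    obtain ⟨y, rfl⟩ := h.exact (n + 1) x h0
    rw [h.T_i] at hx
    have h1 : T n (n + 1) (Nat.le_succ n) y = 0 := by
      apply h.i_inj n
      rw [h.i_T, hx, map_zero]
    obtain ⟨z, rfl⟩ := ih y h1
    obtain ⟨z', rfl⟩ := h.surj (n + 1) z
    refine ⟨z', ?_⟩
    rw [map_smul, h.i_T, ← mul_smul, ← pow_succ]

end SysHyp

end Groth.Agent.Lib.Helper17.TorsFreeAlg
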