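import Groth.Agent.Lib.Helper17TowerSh
import Groth.Agent.Lib.Helper17TorsFreeAlg

/-!
# `f`-torsion free modules from towers `0 → G_n → G_{n+1} → G_0 → 0` (helper17)

* `injective_app_of_mono`, `exists_app_of_exact`: left exactness of sections;
* `isIso_desc_of_sections`: criterion for `M / J M ≅ N` in terms of sections over affine opens;
* `isQCohFormal`: a tower as in the title is a quasi-coherent formal system for `(f)`;
* `mono_smulMod_limit`, `completionIso`: its limit is `f`-torsion free with completion the given tower.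
-/

set_option autoImplicit false
universe u
open CategoryTheory Limits AlgebraicGeometry TopologicalSpace Opposite

namespace Groth.Agent.Lib.Helper17.TorsFree

open Groth.Agent.Lib.Helper17.IAdic Groth.Agent.Lib.Helper17.GrSysCoh
  Groth.Agent.Lib.Helper17.FlatDev Groth.Agent.Lib.Helper23.FinType
  Groth.Agent.Lib.Helper17.TowerSh

variable {X : Scheme.{u}}

theorem injective_app_of_mono {M N : X.Modules} (g : M ⟶ N) [Mono g] (W : X.Opens) :
    Function.Injective (g.app W) := by
  intro a b hab
  obtain ⟨c, hc⟩ := exists_app_kernel_ι g W (a - b) (by rw [map_sub, hab, sub_self])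
  have : kernel.ι g = 0 := by
    rw [← cancel_mono g, kernel.condition, zero_comp]
  rw [this] at hc
  have h0 : a - b = 0 := hc.symm.trans rfl
  exact sub_eq_zero.1 h0

/-- left exactness of sections for an exact short complex with mono first map. -/
theorem exists_app_of_exact (S : ShortComplex X.Modules) (hS : S.Exact) [Mono S.f] (W : X.Opens)
    (x : Γ(S.X₂, W)) (hx : S.g.app W x = 0) : ∃ y : Γ(S.X₁, W), S.f.app W y = x := by
  let F : X.Modules ⥤ Ab.{u} := Scheme.Modules.toPresheaf X ⋙ (evaluation _ _).obj (op W)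
  haveI : PreservesFiniteLimits F := by
    have h1 : PreservesFiniteLimits (Scheme.Modules.toPresheaf X) := inferInstance
    have h2 : PreservesFiniteLimits ((evaluation (Opens ↥X)ᵒᵖ Ab.{u}).obj (op W)) := inferInstance
    exact @comp_preservesFiniteLimits _ _ _ _ _ _ (Scheme.Modules.toPresheaf X)
      ((evaluation (Opens ↥X)ᵒᵖ Ab.{u}).obj (op W)) h1 h2
  haveI : F.PreservesZeroMorphisms := ⟨fun _ _ => rfl⟩
  have h := hS.map_of_mono_of_preservesKernel F inferInstance inferInstance
  exact (ShortComplex.ab_exact_iff _).1 h x hx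

variable {A : Type u} [CommRing A] [X.Over (Spec (CommRingCat.of A))]

/-- criterion for `M / J M ≅ N` via sections over affine opens. -/
theorem isIso_desc_of_sections (J : Ideal A) {M N : X.Modules} (g : M ⟶ N)
    (h0 : Formal.smulFamily J M ≫ g = 0)
    (hs : ∀ W : X.Opens, IsAffineOpen W → Function.Surjective (g.app W))
    (hk : ∀ W : X.Opens, IsAffineOpen W → ∀ x : Γ(M, W), g.app W x = 0 →
      x ∈ ((J.map (ρ (A := A) W)) • ⊤ : Submodule Γ(X, W) Γ(M, W))) :
    IsIso (cokernel.desc _ g h0) := by
  have hepi : Epi g := by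
    refine Groth.Agent.Lib.Helper23.Serre.epi_of_locally_surjective _ ?_
    intro V t x hx
    obtain ⟨W, hW, hxW, hWV⟩ := Opens.isBasis_iff_nbhd.mp X.isBasis_affineOpens hx
    exact ⟨W, hWV, hxW, hs W hW _⟩
  have hex : (ShortComplex.mk _ _ h0).Exact := by
    rw [ShortComplex.exact_iff_epi_kernel_lift]
    refine Groth.Agent.Lib.Helper23.Serre.epi_of_locally_surjective _ ?_
    intro V t x hx
    obtain ⟨W, hW, hxW, hWV⟩ := Opens.isBasis_iff_nbhd.mp X.isBasis_affineOpens hx
    refine ⟨W, hWV, hxW, ?_⟩
    set t' := (kernel g).presheaf.map (homOfLE hWV).op t with ht'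
    have h1 : g.app W ((kernel.ι g).app W t') = 0 := by
      rw [← comp_app_apply, kernel.condition]
      rfl
    obtain ⟨s, hs'⟩ := exists_sigma_section J M W _ (hk W hW _ h1)
    refine ⟨s, ?_⟩
    apply injective_app_of_mono (kernel.ι g) W
    rw [← comp_app_apply]
    dsimp only
    rw [kernel.lift_ι]
    exact hs'
  haveI : Mono (cokernel.desc _ g h0) := (ShortComplex.exact_iff_mono_cokernel_desc _).1 hex
  haveI : Epi (cokernel.desc _ g h0) := epi_of_epi_fac (cokernel.π_desc _ _ h0)
  exact isIso_of_mono_of_epi _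

section Main

variable (f : A) (G : ℕᵒᵖ ⥤ X.Modules) (hqc : ∀ n : ℕᵒᵖ, Coh.IsQCoh (G.obj n))
  (i : ∀ n : ℕ, G.obj (op n) ⟶ G.obj (op (n + 1))) (hi : ∀ n, Mono (i n))
  (hti : ∀ n, G.map (homOfLE (Nat.le_succ n)).op ≫ i n = Formal.smulMod A (G.obj (op (n + 1))) f)
  (w : ∀ n, i n ≫ G.map (homOfLE (Nat.zero_le (n + 1))).op = 0)
  (hses : ∀ n, (ShortComplex.mk (i n) (G.map (homOfLE (Nat.zero_le (n + 1))).op) (w n)).ShortExact)

include hqc hi hti hses in
theorem sysHyp {W : X.Opens} (hW : IsAffineOpen W) :
    TorsFreeAlg.SysHyp (ρ (A := A) W f) (fun m m' h => appL (G.map (homOfLE h).op) W)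
      (fun n => appL (i n) W) := by
  haveI hq : ∀ n, (G.obj (op n)).IsQuasicoherent := fun n => hqc (op n)
  refine ⟨?_, ?_, ?_, ?_, ?_, ?_⟩
  · intro m m' m'' h h' y
    have : (homOfLE (h.trans h')).op = (homOfLE h').op ≫ (homOfLE h).op := Subsingleton.elim _ _
    rw [appL_apply, appL_apply, appL_apply, this, G.map_comp, comp_app_apply]
  · intro n
    haveI := hi n
    exact injective_app_of_mono (i n) W
  · intro n x
    rw [appL_apply, appL_apply, ← comp_app_apply, hti n, smulMod_app]
  · intro n x hx
    haveI : Mono (ShortComplex.mk (i n) (G.map (homOfLE (Nat.zero_le (n + 1))).op) (w n)).f := hi n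
    exact exists_app_of_exact _ (hses n).exact W x hx
  · intro n y
    rw [appL_apply, appL_apply, ← comp_app_apply, w n]
    rfl
  · intro n
    haveI : Epi (G.map (homOfLE (Nat.zero_le (n + 1))).op) := (hses n).epi_g
    exact surjective_app_of_epi (G.map (homOfLE (Nat.zero_le (n + 1))).op) hW

include hqc hi hti hses in
theorem smulMod_pow_eq_zero (n : ℕ) : Formal.smulMod A (G.obj (op n)) (f ^ (n + 1)) = 0 := by
  refine Groth.Agent.Helper18OmLS.hom_ext_basis _ _ X.affineOpens X.isBasis_affineOpens ?_
  intro W hW y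
  rw [smulMod_app, map_pow]
  exact ((sysHyp f G hqc i hi hti w hses hW).kill n y).trans rfl

include hqc hi hti hses in
theorem killedBy (n : ℕ) : Formal.KilledBy (Ideal.span ({f} : Set A) ^ (n + 1)) (G.obj (op n)) := by
  intro a ha
  rw [Ideal.span_singleton_pow, Ideal.mem_span_singleton'] at ha
  obtain ⟨r, rfl⟩ := ha
  rw [smulMod_mul, smulMod_pow_eq_zero f G hqc i hi hti w hses n, zero_comp]

include hqc hi hti hses in
theorem isQCohFormal : Formal2.IsQCohFormal (Ideal.span ({f} : Set A)) G := by
  refine ⟨fun n => hqc (op n), killedBy f G hqc i hi hti w hses, fun n => ?_⟩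
  have h0 : Formal.smulFamily (Ideal.span ({f} : Set A) ^ (n + 1)) (G.obj (op (n + 1))) ≫
      G.map (homOfLE (Nat.le_succ n)).op = 0 := by
    apply Sigma.hom_ext
    intro b
    rw [comp_zero, ← Category.assoc, ι_smulFamily, ← comp_smulMod,
      killedBy f G hqc i hi hti w hses n b b.2, comp_zero]
  refine ⟨h0, isIso_desc_of_sections _ _ h0 ?_ ?_⟩
  · intro W hW
    exact (sysHyp f G hqc i hi hti w hses hW).surj n
  · intro W hW x hx
    obtain ⟨z, hz⟩ := (sysHyp f G hqc i hi hti w hses hW).ker n x hx
    rw [hz]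
    refine Submodule.smul_mem_smul ?_ Submodule.mem_top
    rw [← map_pow]
    exact Ideal.mem_map_of_mem _ (Ideal.pow_mem_pow (Ideal.mem_span_singleton_self f) _)

include hi hti in
theorem mono_smulMod_limit : Mono (Formal.smulMod A (limit G) f) := by
  refine Groth.Agent.Helper18OmLS.mono_of_injective_app_basis _ X.affineOpens
    X.isBasis_affineOpens (fun W _ => ?_)
  rw [injective_iff_map_eq_zero]
  intro x hx
  apply lim_inj G W x
  intro m
  haveI := hi m
  apply injective_app_of_mono (i m) W
  rw [map_zero]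
  have e1 : limit.π G (op m) = limit.π G (op (m + 1)) ≫ G.map (homOfLE (Nat.le_succ m)).op :=
    (limit.w G _).symm
  have e2 : limit.π G (op m) ≫ i m =
      Formal.smulMod A (limit G) f ≫ limit.π G (op (m + 1)) := by
    rw [e1, Category.assoc, hti m, comp_smulMod]
  rw [← comp_app_apply, e2, comp_app_apply, hx, map_zero]

end Main

section Nat

variable (J : Ideal A) (G : ℕᵒᵖ ⥤ X.Modules) (hG : Formal2.IsQCohFormal J G)

/-- the comparison map `(lim G) / J^{n+1} ⟶ G_n`. -/
noncomputable def compApp (n : ℕ) : Formal.modPow J (n + 1) (limit G) ⟶ G.obj (op n) :=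
  cokernel.desc _ (limit.π G (op n)) (smulFamily_π J G hG n)

theorem π_compApp (n : ℕ) :
    Formal.modPowπ J (n + 1) (limit G) ≫ compApp J G hG n = limit.π G (op n) :=
  cokernel.π_desc _ _ _

theorem isIso_compApp (hJ : J.FG) (n : ℕ) : IsIso (compApp J G hG n) :=
  isIso_desc J G hG hJ n

theorem compApp_nat (n : ℕ) :
    Formal.modPowTrans J (n + 1) (limit G) ≫ compApp J G hG n =
      compApp J G hG (n + 1) ≫ G.map (homOfLE (n.le_add_right 1)).op := by
  haveI : Epi (Formal.modPowπ J (n + 1 + 1) (limit G)) :=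
    inferInstanceAs (Epi (cokernel.π (Formal.smulFamily (J ^ (n + 1 + 1)) (limit G))))
  rw [← cancel_epi (Formal.modPowπ J (n + 1 + 1) (limit G)), ← Category.assoc,
    Formal.modPowπ_trans, π_compApp, ← Category.assoc, π_compApp, limit.w]

include hG in
/-- the completion of `lim G` is `G`. -/
theorem nonempty_completionIso (hJ : J.FG) : Nonempty (Formal.completion J (limit G) ≅ G) := by
  let α : Formal.completion J (limit G) ⟶ G :=
    NatTrans.ofOpSequence (F := Formal.completion J (limit G)) (G := G)
      (fun n => compApp J G hG n) (fun n => by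
        have e1 : (Formal.completion J (limit G)).map (homOfLE (n.le_add_right 1)).op =
            Formal.modPowTrans J (n + 1) (limit G) :=
          Functor.ofOpSequence_map_homOfLE_succ _ n
        rw [e1]
        exact compApp_nat J G hG n)
  haveI : ∀ j, IsIso (α.app j) := fun j => isIso_compApp J G hG hJ j.unop
  haveI : IsIso α := NatIso.isIso_of_isIso_app α
  exact ⟨asIso α⟩

end Nat

end Groth.Agent.Lib.Helper17.TorsFree
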