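import Mathlib.Algebra.Homology.TotalComplex
import Mathlib.Algebra.Homology.HomologySequenceLemmas
import Mathlib.Algebra.Homology.QuasiIso

/-! Compression of a homological complex along a predicate on the indices (generalised stupid
truncation) (helper17). -/
set_option autoImplicit false
set_option backward.isDefEq.respectTransparency false
universe v u
open CategoryTheory CategoryTheory.Limits ZeroObject

namespace Groth.Agent.Lib.Helper17.Tot

variable {C : Type u} [Category.{v} C] [Preadditive C] [HasZeroObject C]
  {ι : Type*} {c : ComplexShape ι}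

section Tr

variable (P : ι → Prop) [DecidablePred P]

/-- the truncated objects. -/
noncomputable def trX (M : HomologicalComplex C c) (i : ι) : C := if P i then M.X i else 0

lemma trX_pos (M : HomologicalComplex C c) {i : ι} (h : P i) : trX P M i = M.X i := if_pos h

lemma isZero_trX (M : HomologicalComplex C c) {i : ι} (h : ¬ P i) : IsZero (trX P M i) := by
  unfold trX
  rw [if_neg h]
  exact isZero_zero C

/-- the inclusion of the truncated objects. -/
noncomputable def trι (M : HomologicalComplex C c) (i : ι) : trX P M i ⟶ M.X i :=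
  if h : P i then eqToHom (trX_pos P M h) else 0

/-- the projection to the truncated objects. -/
noncomputable def trπ (M : HomologicalComplex C c) (i : ι) : M.X i ⟶ trX P M i :=
  if h : P i then eqToHom (trX_pos P M h).symm else 0

lemma trι_neg (M : HomologicalComplex C c) {i : ι} (h : ¬ P i) : trι P M i = 0 := dif_neg h
lemma trπ_neg (M : HomologicalComplex C c) {i : ι} (h : ¬ P i) : trπ P M i = 0 := dif_neg h

@[reassoc (attr := simp)]
lemma trι_π (M : HomologicalComplex C c) (i : ι) : trι P M i ≫ trπ P M i = 𝟙 _ := by
  by_cases h : P i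
  · unfold trι trπ
    rw [dif_pos h, dif_pos h, eqToHom_trans, eqToHom_refl]
  · exact (isZero_trX P M h).eq_of_src _ _

@[reassoc]
lemma trπ_ι_pos (M : HomologicalComplex C c) {i : ι} (h : P i) : trπ P M i ≫ trι P M i = 𝟙 _ := by
  unfold trι trπ
  rw [dif_pos h, dif_pos h, eqToHom_trans, eqToHom_refl]

lemma trπ_ι_neg (M : HomologicalComplex C c) {i : ι} (h : ¬ P i) : trπ P M i ≫ trι P M i = 0 := by
  rw [trι_neg P M h, comp_zero]

instance (M : HomologicalComplex C c) (i : ι) : Mono (trι P M i) :=
  mono_of_mono_fac (trι_π P M i)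

instance (M : HomologicalComplex C c) (i : ι) : Epi (trπ P M i) :=
  epi_of_epi_fac (trι_π P M i)

lemma isIso_trπ (M : HomologicalComplex C c) {i : ι} (h : P i) : IsIso (trπ P M i) :=
  ⟨trι P M i, trπ_ι_pos P M h, trι_π P M i⟩

lemma isIso_trι (M : HomologicalComplex C c) {i : ι} (h : P i) : IsIso (trι P M i) :=
  ⟨trπ P M i, trι_π P M i, trπ_ι_pos P M h⟩

/-- the compression of `M` along `P`. -/
noncomputable def tr (M : HomologicalComplex C c) : HomologicalComplex C c where
  X := trX P M
  d i j := trι P M i ≫ M.d i j ≫ trπ P M j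
  shape i j h := by rw [M.shape i j h, zero_comp, comp_zero]
  d_comp_d' i j k _ _ := by
    by_cases hj : P j
    · simp only [Category.assoc]
      rw [trπ_ι_pos_assoc P M hj, M.d_comp_d_assoc, zero_comp, comp_zero]
    · rw [trπ_neg P M hj, comp_zero, comp_zero, zero_comp]

lemma tr_d (M : HomologicalComplex C c) (i j : ι) :
    (tr P M).d i j = trι P M i ≫ M.d i j ≫ trπ P M j := rfl

lemma tr_X (M : HomologicalComplex C c) (i : ι) : (tr P M).X i = trX P M i := rfl

/-- functoriality. -/
noncomputable def trMap {M N : HomologicalComplex C c} (f : M ⟶ N) : tr P M ⟶ tr P N where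
  f i := trι P M i ≫ f.f i ≫ trπ P N i
  comm' i j _ := by
    rw [tr_d, tr_d]
    by_cases hi : P i
    · by_cases hj : P j
      · simp only [Category.assoc]
        rw [trπ_ι_pos_assoc P N hi, trπ_ι_pos_assoc P M hj, f.comm_assoc]
      · rw [trπ_neg P M hj, trπ_neg P N hj]
        simp
    · rw [trι_neg P M hi]
      simp

lemma trMap_f {M N : HomologicalComplex C c} (f : M ⟶ N) (i : ι) :
    (trMap P f).f i = trι P M i ≫ f.f i ≫ trπ P N i := rfl

@[reassoc]
lemma trπ_trMap_f {M N : HomologicalComplex C c} (f : M ⟶ N) (i : ι) :
    trπ P M i ≫ (trMap P f).f i = f.f i ≫ trπ P N i := by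
  rw [trMap_f]
  by_cases hi : P i
  · rw [trπ_ι_pos_assoc P M hi]
  · rw [trπ_neg P M hi, trπ_neg P N hi]
    simp

@[reassoc]
lemma trMap_f_trι {M N : HomologicalComplex C c} (f : M ⟶ N) (i : ι) :
    (trMap P f).f i ≫ trι P N i = trι P M i ≫ f.f i := by
  rw [trMap_f]
  by_cases hi : P i
  · simp only [Category.assoc]
    rw [trπ_ι_pos P N hi, Category.comp_id]
  · rw [trι_neg P M hi, trι_neg P N hi]
    simp

/-- the compression functor. -/
noncomputable def trFunctor : HomologicalComplex C c ⥤ HomologicalComplex C c where
  obj M := tr P M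
  map f := trMap P f
  map_id M := by
    ext i
    rw [trMap_f, HomologicalComplex.id_f, Category.id_comp, trι_π]
    rfl
  map_comp {M N L} f g := by
    ext i
    rw [HomologicalComplex.comp_f, trMap_f, trMap_f, trMap_f, HomologicalComplex.comp_f]
    by_cases hi : P i
    · simp only [Category.assoc]
      rw [trπ_ι_pos_assoc P N hi]
    · rw [trι_neg P M hi]
      simp

instance : (trFunctor (C := C) (c := c) P).Additive where
  map_add {M N f g} := by
    ext i
    change (trMap P (f + g)).f i = (trMap P f).f i + (trMap P g).f i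
    rw [trMap_f, trMap_f, trMap_f, HomologicalComplex.add_f_apply, Preadditive.add_comp,
      Preadditive.comp_add]

end Tr

section Trans

variable (P Q : ι → Prop) [DecidablePred P] [DecidablePred Q]

/-- the graded comparison map between two compressions. -/
noncomputable def trT (M : HomologicalComplex C c) (i : ι) : trX P M i ⟶ trX Q M i :=
  trι P M i ≫ trπ Q M i

/-- the comparison map, when it is a chain map. -/
noncomputable def trTrans (h : ∀ i j, c.Rel i j → P i → Q j → (Q i ↔ P j))
    (M : HomologicalComplex C c) : tr P M ⟶ tr Q M where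
  f i := trT P Q M i
  comm' i j hij := by
    rw [tr_d, tr_d]
    unfold trT
    by_cases hPi : P i
    · by_cases hQj : Q j
      · by_cases hQi : Q i
        · have hPj : P j := (h i j hij hPi hQj).1 hQi
          simp only [Category.assoc]
          rw [trπ_ι_pos_assoc Q M hQi, trπ_ι_pos_assoc P M hPj]
        · have hPj : ¬ P j := fun hPj => hQi ((h i j hij hPi hQj).2 hPj)
          rw [trπ_neg Q M hQi, trπ_neg P M hPj]
          simp
      · rw [trπ_neg Q M hQj]
        simp
    · rw [trι_neg P M hPi]
      simp

lemma trTrans_f (h : ∀ i j, c.Rel i j → P i → Q j → (Q i ↔ P j))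
    (M : HomologicalComplex C c) (i : ι) : (trTrans P Q h M).f i = trι P M i ≫ trπ Q M i := rfl

@[reassoc]
lemma trTrans_naturality (h : ∀ i j, c.Rel i j → P i → Q j → (Q i ↔ P j))
    {M N : HomologicalComplex C c} (f : M ⟶ N) :
    trMap P f ≫ trTrans P Q h N = trTrans P Q h M ≫ trMap Q f := by
  ext i
  rw [HomologicalComplex.comp_f, HomologicalComplex.comp_f, trTrans_f, trTrans_f,
    trMap_f_trι_assoc, Category.assoc, trπ_trMap_f]

/-- the comparison as a natural transformation. -/
noncomputable def trTransNat (h : ∀ i j, c.Rel i j → P i → Q j → (Q i ↔ P j)) :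
    trFunctor (C := C) (c := c) P ⟶ trFunctor Q where
  app M := trTrans P Q h M
  naturality {M N} f := trTrans_naturality P Q h f

end Trans

section Full

variable (P : ι → Prop) [DecidablePred P]

/-- the projection from `M` when `P` is closed under predecessors. -/
noncomputable def trProj (h : ∀ i j, c.Rel i j → P j → P i) (M : HomologicalComplex C c) :
    M ⟶ tr P M where
  f i := trπ P M i
  comm' i j hij := by
    rw [tr_d]
    by_cases hj : P j
    · rw [trπ_ι_pos_assoc P M (h i j hij hj)]
    · rw [trπ_neg P M hj]
      simp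

/-- the inclusion into `M` when `P` is closed under successors. -/
noncomputable def trIncl (h : ∀ i j, c.Rel i j → P i → P j) (M : HomologicalComplex C c) :
    tr P M ⟶ M where
  f i := trι P M i
  comm' i j hij := by
    rw [tr_d]
    by_cases hi : P i
    · simp only [Category.assoc]
      rw [trπ_ι_pos P M (h i j hij hi), Category.comp_id]
    · rw [trι_neg P M hi]
      simp

lemma trProj_f (h : ∀ i j, c.Rel i j → P j → P i) (M : HomologicalComplex C c) (i : ι) :
    (trProj P h M).f i = trπ P M i := rfl

lemma trIncl_f (h : ∀ i j, c.Rel i j → P i → P j) (M : HomologicalComplex C c) (i : ι) :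
    (trIncl P h M).f i = trι P M i := rfl

@[reassoc]
lemma trProj_naturality (h : ∀ i j, c.Rel i j → P j → P i) {M N : HomologicalComplex C c}
    (f : M ⟶ N) : f ≫ trProj P h N = trProj P h M ≫ trMap P f := by
  ext i
  rw [HomologicalComplex.comp_f, HomologicalComplex.comp_f, trProj_f, trProj_f, trπ_trMap_f]

@[reassoc]
lemma trIncl_naturality (h : ∀ i j, c.Rel i j → P i → P j) {M N : HomologicalComplex C c}
    (f : M ⟶ N) : trMap P f ≫ trIncl P h N = trIncl P h M ≫ f := by
  ext i
  rw [HomologicalComplex.comp_f, HomologicalComplex.comp_f, trIncl_f, trIncl_f, trMap_f_trι]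

/-- the projection as a natural transformation. -/
noncomputable def trProjNat (h : ∀ i j, c.Rel i j → P j → P i) :
    𝟭 (HomologicalComplex C c) ⟶ trFunctor P where
  app M := trProj P h M
  naturality {M N} f := trProj_naturality P h f

/-- the inclusion as a natural transformation. -/
noncomputable def trInclNat (h : ∀ i j, c.Rel i j → P i → P j) :
    trFunctor P ⟶ 𝟭 (HomologicalComplex C c) where
  app M := trIncl P h M
  naturality {M N} f := trIncl_naturality P h f

end Full

end Groth.Agent.Lib.Helper17.Tot
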