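import Groth.Agent.Lib.Helper17Tot9
import Mathlib.Algebra.Homology.Monoidal
import Mathlib.Algebra.Category.ModuleCat.Monoidal.Basic
import Mathlib.RingTheory.Flat.CategoryTheory

/-!
# Tensoring a quasi-isomorphism with a bounded above complex of flat modules
-/

set_option backward.isDefEq.respectTransparency false
set_option autoImplicit false

universe u

open CategoryTheory CategoryTheory.Limits MonoidalCategory

namespace Groth.Agent.Lib.Helper17.Tot

variable (A : Type u) [CommRing A]

local notation "upℤ" => ComplexShape.up ℤ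

/-- the double complex `L.X p ⊗ M.X q`. -/
noncomputable abbrev tensorBicomplex (L M : CochainComplex (ModuleCat.{u} A) ℤ) :
    HomologicalComplex₂ (ModuleCat.{u} A) upℤ upℤ :=
  (((curriedTensor (ModuleCat.{u} A)).mapBifunctorHomologicalComplex upℤ upℤ).obj L).obj M

/-- the map of double complexes `L.X p ⊗ η.f q`. -/
noncomputable abbrev tensorBicomplexMap (L : CochainComplex (ModuleCat.{u} A) ℤ)
    {M Q : CochainComplex (ModuleCat.{u} A) ℤ} (η : M ⟶ Q) :
    tensorBicomplex A L M ⟶ tensorBicomplex A L Q :=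
  (((curriedTensor (ModuleCat.{u} A)).mapBifunctorHomologicalComplex upℤ upℤ).obj L).map η

variable {A}

lemma isZero_tensorBicomplex (L M : CochainComplex (ModuleCat.{u} A) ℤ) (p q : ℤ)
    (h : IsZero (L.X p) ∨ IsZero (M.X q)) : IsZero (((tensorBicomplex A L M).X p).X q) := by
  change IsZero (L.X p ⊗ M.X q)
  rcases h with h | h
  · exact (tensorRight (M.X q)).map_isZero h
  · exact (tensorLeft (L.X p)).map_isZero h

lemma finSupp_tensorBicomplex (L M : CochainComplex (ModuleCat.{u} A) ℤ) (a b : ℤ)
    (hL : ∀ i : ℤ, a < i → IsZero (L.X i)) (hM : ∀ i : ℤ, b < i → IsZero (M.X i)) :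
    FinSupp upℤ (tensorBicomplex A L M) :=
  finSupp_of_bounded_above _ a b (fun p q h => isZero_tensorBicomplex L M p q (by
    rcases h with h | h
    · exact Or.inl (hL p h)
    · exact Or.inr (hM q h)))

/-- the columns of the tensor double complex. -/
noncomputable def tensorBicomplexColIso (L M : CochainComplex (ModuleCat.{u} A) ℤ) (p : ℤ) :
    (tensorBicomplex A L M).X p ≅ ((tensorLeft (L.X p)).mapHomologicalComplex upℤ).obj M :=
  HomologicalComplex.Hom.isoOfComponents (fun _ => Iso.refl _) (by
    intro i j _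
    dsimp
    rw [Category.id_comp, Category.comp_id]
    rfl)

lemma quasiIso_tensorBicomplexMap_f (L : CochainComplex (ModuleCat.{u} A) ℤ)
    {M Q : CochainComplex (ModuleCat.{u} A) ℤ} (η : M ⟶ Q) [QuasiIso η] (p : ℤ)
    [Module.Flat A (L.X p)] : QuasiIso ((tensorBicomplexMap A L η).f p) := by
  refine (quasiIso_iff_of_arrow_mk_iso _ _
    (Arrow.isoMk (tensorBicomplexColIso L M p) (tensorBicomplexColIso L Q p) ?_)).2
    (inferInstance : QuasiIso (((tensorLeft (L.X p)).mapHomologicalComplex upℤ).map η))
  refine HomologicalComplex.hom_ext _ _ (fun q => ?_)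
  change 𝟙 _ ≫ (L.X p ◁ η.f q) = (L.X p ◁ η.f q) ≫ 𝟙 _
  rw [Category.id_comp, Category.comp_id]

/-- **Tensoring with a bounded above complex of flat modules preserves quasi-isomorphisms
between bounded above complexes.** -/
theorem quasiIso_tensorHom_id_of_flat (L M Q : CochainComplex (ModuleCat.{u} A) ℤ)
    (η : M ⟶ Q) [QuasiIso η] (hL : ∀ i : ℤ, Module.Flat A (L.X i))
    (a b c : ℤ) (hbL : ∀ i : ℤ, a < i → IsZero (L.X i)) (hbM : ∀ i : ℤ, b < i → IsZero (M.X i))
    (hbQ : ∀ i : ℤ, c < i → IsZero (Q.X i)) :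
    QuasiIso (HomologicalComplex.tensorHom (𝟙 L) η) := by
  haveI := finSupp_tensorBicomplex L M a b hbL hbM
  haveI := finSupp_tensorBicomplex L Q a c hbL hbQ
  have e : HomologicalComplex.tensorHom (𝟙 L) η =
      HomologicalComplex₂.total.map (tensorBicomplexMap A L η) upℤ := by
    unfold HomologicalComplex.tensorHom HomologicalComplex.mapBifunctorMap
    rw [CategoryTheory.Functor.map_id, NatTrans.id_app, Category.id_comp]
  rw [e]
  exact quasiIso_total_map_of_cols _ (fun p => by
    haveI := hL p
    exact quasiIso_tensorBicomplexMap_f L η p)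

end Groth.Agent.Lib.Helper17.Tot
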