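import Groth.Agent.Lib.Helper17Tot8

/-!
# Object properties of the terms of a total complex (helper17)

If a property of objects contains the zero objects, is closed under isomorphisms and under
extensions, and holds for all terms of a double complex with finite antidiagonals, then it holds for
all terms of the total complex.
-/

set_option backward.isDefEq.respectTransparency false
set_option autoImplicit false

universe v u

open CategoryTheory CategoryTheory.Limits ZeroObject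

namespace Groth.Agent.Lib.Helper17.Tot

variable {C : Type u} [Category.{v} C] [Abelian C]

local notation "upℤ" => ComplexShape.up ℤ

section PropTot

variable (P : C → Prop) (hzero : ∀ X : C, IsZero X → P X)
  (hiso : ∀ X Y : C, (X ≅ Y) → P X → P Y)
  (hext : ∀ S : ShortComplex C, S.ShortExact → P S.X₁ → P S.X₃ → P S.X₂)
  (K : HomologicalComplex₂ C upℤ upℤ) [FinSupp upℤ K] (hK : ∀ p q, P ((K.X p).X q))

include hiso hK in
lemma prop_total_single (q₀ m : ℤ) : P (((trI (fun q => q = q₀) K).total upℤ).X m) :=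
  hiso _ _ (asIso (rowτ K q₀ (m - q₀) m (by omega))) (hK _ _)

include hzero hiso hext hK in
lemma prop_total_band (w : ℕ) : ∀ N₁ N₂ : ℤ, N₂ = N₁ + w → ∀ m : ℤ,
    P (((trI (fun q => N₁ ≤ q ∧ q < N₂) K).total upℤ).X m) := by
  induction w with
  | zero =>
    intro N₁ N₂ h m
    exact hzero _ (isZero_total_X _ _ _ (fun p q _ => isZero_trI _ K p q
      (Or.inl (by simp at h; omega))))
  | succ w ih =>
    intro N₁ N₂ h m
    have hPQ : ∀ i j, (upℤ).Rel i j → (fun q => q = N₂ - 1) i → (fun q => N₁ ≤ q ∧ q < N₂) j →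
        ((fun q => N₁ ≤ q ∧ q < N₂) i ↔ (fun q => q = N₂ - 1) j) := by
      intro i j (hij : i + 1 = j) (hi : i = N₂ - 1) (hj : N₁ ≤ j ∧ j < N₂)
      exfalso; omega
    have hQR : ∀ i j, (upℤ).Rel i j → (fun q => N₁ ≤ q ∧ q < N₂) i →
        (fun q => N₁ ≤ q ∧ q < N₂ - 1) j →
        ((fun q => N₁ ≤ q ∧ q < N₂ - 1) i ↔ (fun q => N₁ ≤ q ∧ q < N₂) j) := by
      intro i j (hij : i + 1 = j) (hi : N₁ ≤ i ∧ i < N₂) (hj : N₁ ≤ j ∧ j < N₂ - 1)
      change (N₁ ≤ i ∧ i < N₂ - 1) ↔ (N₁ ≤ j ∧ j < N₂)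
      omega
    have hQ : ∀ i, (fun q => N₁ ≤ q ∧ q < N₂) i ↔
        ((fun q => q = N₂ - 1) i ∨ (fun q => N₁ ≤ q ∧ q < N₂ - 1) i) := by
      intro i
      change (N₁ ≤ i ∧ i < N₂) ↔ (i = N₂ - 1 ∨ (N₁ ≤ i ∧ i < N₂ - 1))
      push_cast at h
      omega
    have hd : ∀ i, ¬ ((fun q => q = N₂ - 1) i ∧ (fun q => N₁ ≤ q ∧ q < N₂ - 1) i) := by
      intro i
      change ¬ (i = N₂ - 1 ∧ (N₁ ≤ i ∧ i < N₂ - 1))
      omega
    exact hext _ (totSplitting upℤ (fun q => q = N₂ - 1) (fun q => N₁ ≤ q ∧ q < N₂)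
      (fun q => N₁ ≤ q ∧ q < N₂ - 1) hPQ hQR hQ hd K m).shortExact
      (prop_total_single P hiso K hK (N₂ - 1) m)
      (ih N₁ (N₂ - 1) (by push_cast at h; omega) m)

include hzero hiso hext hK in
/-- the terms of the total complex satisfy the property. -/
theorem prop_total (m : ℤ) : P ((K.total upℤ).X m) := by
  obtain ⟨B, hB⟩ := exists_bound K m
  have h1 := isIso_total_map_trIProj K ((B : ℤ) + 1) m (fun p q hpq hq => hB p q hpq (by omega))
  have h2 := isIso_total_map_trITrans K (-(B : ℤ)) ((B : ℤ) + 1) m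
    (fun p q hpq hq => hB p q hpq (by omega))
  haveI := h1
  haveI := h2
  exact hiso _ _ (asIso ((HomologicalComplex₂.total.map (trITrans
      (fun q => -(B : ℤ) ≤ q ∧ q < (B : ℤ) + 1) (fun q => q < (B : ℤ) + 1)
      (fun i j (hij : i + 1 = j) (hi : -(B : ℤ) ≤ i ∧ i < (B : ℤ) + 1) (hj : j < (B : ℤ) + 1) =>
        show i < (B : ℤ) + 1 ↔ (-(B : ℤ) ≤ j ∧ j < (B : ℤ) + 1) by omega) K) upℤ).f m) ≪≫
    (asIso ((HomologicalComplex₂.total.map (trIProj (fun q => q < (B : ℤ) + 1)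
      (fun i j (hij : i + 1 = j) (hj : j < (B : ℤ) + 1) => show i < (B : ℤ) + 1 by omega) K)
      upℤ).f m)).symm)
    (prop_total_band P hzero hiso hext K hK (2 * B + 1)
      (-(B : ℤ)) ((B : ℤ) + 1) (by push_cast; omega) m)

end PropTot

end Groth.Agent.Lib.Helper17.Tot
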