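import Groth.Agent.Lib.Helper17Tot1

/-! Total complexes of double complexes with finite antidiagonals; inner compression and the
degreewise split short exact sequences of total complexes (helper17). -/
set_option autoImplicit false
set_option backward.isDefEq.respectTransparency false
universe v u
open CategoryTheory CategoryTheory.Limits ZeroObject

namespace Groth.Agent.Lib.Helper17.Tot

section Coprod

variable {C : Type u} [Category.{v} C] [HasZeroMorphisms C] [HasFiniteCoproducts C]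

/-- a family with finitely many nonzero objects has a coproduct. -/
lemma hasCoproduct_of_finite_support {J : Type*} (f : J → C) (S : Finset J)
    (h : ∀ j, j ∉ S → IsZero (f j)) : HasCoproduct f := by
  classical
  let g : S → C := fun j => f j.1
  let cf : Cofan f := Cofan.mk (∐ g) (fun j => if hj : j ∈ S then Sigma.ι g ⟨j, hj⟩ else 0)
  have hinj : ∀ (j : J) (hj : j ∈ S), cf.inj j = Sigma.ι g ⟨j, hj⟩ := by
    intro j hj
    exact dif_pos hj
  have hcf : IsColimit cf := by
    refine mkCofanColimit cf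
      (fun s => (Sigma.desc (fun j : S => s.inj j.1) : (∐ g) ⟶ s.pt)) ?_ ?_
    · intro s j
      by_cases hj : j ∈ S
      · rw [hinj j hj]
        exact Sigma.ι_desc (fun j : S => s.inj j.1) ⟨j, hj⟩
      · exact (h j hj).eq_of_src _ _
    · intro s m hm
      refine Sigma.hom_ext (f := g) m _ ?_
      intro ⟨j, hj⟩
      rw [Sigma.ι_desc]
      have := hm j
      rw [hinj j hj] at this
      exact this
  exact ⟨⟨⟨cf, hcf⟩⟩⟩

end Coprod

variable {C : Type u} [Category.{v} C] [Preadditive C] [HasZeroObject C] [HasFiniteCoproducts C]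
  {I₁ I₂ I₁₂ : Type*} {c₁ : ComplexShape I₁} {c₂ : ComplexShape I₂}
  (c₁₂ : ComplexShape I₁₂) [TotalComplexShape c₁ c₂ c₁₂]

/-- finiteness of the antidiagonals. -/
class FinSupp (K : HomologicalComplex₂ C c₁ c₂) : Prop where
  fin : ∀ n : I₁₂, ∃ S : Finset (I₁ × I₂), ∀ p q, ComplexShape.π c₁ c₂ c₁₂ (p, q) = n →
    (p, q) ∉ S → IsZero ((K.X p).X q)

lemma hasTotal_of_finSupp (K : HomologicalComplex₂ C c₁ c₂) [FinSupp c₁₂ K] :
    K.HasTotal c₁₂ := by
  classical
  intro n
  obtain ⟨S, hS⟩ := FinSupp.fin (c₁₂ := c₁₂) (K := K) n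
  let T : Finset (ComplexShape.π c₁ c₂ c₁₂ ⁻¹' {n}) := S.subtype _
  refine hasCoproduct_of_finite_support _ T ?_
  intro ⟨⟨p, q⟩, hpq⟩ hj
  refine hS p q hpq ?_
  intro hmem
  exact hj (by simpa [T] using hmem)

lemma finSupp_of_isZero (K L : HomologicalComplex₂ C c₁ c₂) [FinSupp c₁₂ K]
    (h : ∀ p q, IsZero ((K.X p).X q) → IsZero ((L.X p).X q)) : FinSupp c₁₂ L where
  fin n := by
    obtain ⟨S, hS⟩ := FinSupp.fin (c₁₂ := c₁₂) (K := K) n
    exact ⟨S, fun p q hpq hn => h p q (hS p q hpq hn)⟩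

section TrI

variable (P : I₂ → Prop) [DecidablePred P]

/-- compression in the inner index. -/
noncomputable def trI (K : HomologicalComplex₂ C c₁ c₂) : HomologicalComplex₂ C c₁ c₂ :=
  ((trFunctor P).mapHomologicalComplex c₁).obj K

/-- functoriality. -/
noncomputable def trIMap {K L : HomologicalComplex₂ C c₁ c₂} (φ : K ⟶ L) : trI P K ⟶ trI P L :=
  ((trFunctor P).mapHomologicalComplex c₁).map φ

lemma trI_X_X (K : HomologicalComplex₂ C c₁ c₂) (p : I₁) (q : I₂) :
    ((trI P K).X p).X q = trX P (K.X p) q := rfl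

lemma trIMap_f_f {K L : HomologicalComplex₂ C c₁ c₂} (φ : K ⟶ L) (p : I₁) (q : I₂) :
    ((trIMap P φ).f p).f q = trι P (K.X p) q ≫ (φ.f p).f q ≫ trπ P (L.X p) q := rfl

lemma trI_d_f (K : HomologicalComplex₂ C c₁ c₂) (p p' : I₁) (q : I₂) :
    ((trI P K).d p p').f q = trι P (K.X p) q ≫ (K.d p p').f q ≫ trπ P (K.X p') q := rfl

lemma trI_X_d (K : HomologicalComplex₂ C c₁ c₂) (p : I₁) (q q' : I₂) :
    ((trI P K).X p).d q q' = trι P (K.X p) q ≫ (K.X p).d q q' ≫ trπ P (K.X p) q' := rfl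

lemma trIMap_id (K : HomologicalComplex₂ C c₁ c₂) : trIMap P (𝟙 K) = 𝟙 _ :=
  ((trFunctor P).mapHomologicalComplex c₁).map_id K

lemma trIMap_comp {K L M : HomologicalComplex₂ C c₁ c₂} (φ : K ⟶ L) (ψ : L ⟶ M) :
    trIMap P (φ ≫ ψ) = trIMap P φ ≫ trIMap P ψ :=
  ((trFunctor P).mapHomologicalComplex c₁).map_comp φ ψ

lemma isZero_trI (K : HomologicalComplex₂ C c₁ c₂) (p : I₁) (q : I₂)
    (h : ¬ P q ∨ IsZero ((K.X p).X q)) : IsZero (((trI P K).X p).X q) := by
  rcases h with h | h
  · exact isZero_trX P (K.X p) h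
  · by_cases hq : P q
    · change IsZero (trX P (K.X p) q)
      rw [trX_pos P _ hq]
      exact h
    · exact isZero_trX P (K.X p) hq

instance (K : HomologicalComplex₂ C c₁ c₂) [FinSupp c₁₂ K] : FinSupp c₁₂ (trI P K) :=
  finSupp_of_isZero c₁₂ K _ (fun p q h => isZero_trI P K p q (Or.inr h))

end TrI

section TrITrans

variable (P Q : I₂ → Prop) [DecidablePred P] [DecidablePred Q]
  (h : ∀ i j, c₂.Rel i j → P i → Q j → (Q i ↔ P j))

/-- the comparison of inner compressions. -/
noncomputable def trITrans (K : HomologicalComplex₂ C c₁ c₂) : trI P K ⟶ trI Q K :=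
  (NatTrans.mapHomologicalComplex (trTransNat P Q h) c₁).app K

lemma trITrans_f_f (K : HomologicalComplex₂ C c₁ c₂) (p : I₁) (q : I₂) :
    ((trITrans P Q h K).f p).f q = trι P (K.X p) q ≫ trπ Q (K.X p) q := rfl

@[reassoc]
lemma trITrans_naturality {K L : HomologicalComplex₂ C c₁ c₂} (φ : K ⟶ L) :
    trIMap P φ ≫ trITrans P Q h L = trITrans P Q h K ≫ trIMap Q φ :=
  (NatTrans.mapHomologicalComplex (trTransNat P Q h) c₁).naturality φ

end TrITrans

section TrIFull

variable (P : I₂ → Prop) [DecidablePred P]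

/-- the projection to an inner compression. -/
noncomputable def trIProj (h : ∀ i j, c₂.Rel i j → P j → P i) (K : HomologicalComplex₂ C c₁ c₂) :
    K ⟶ trI P K where
  f p := trProj P h (K.X p)
  comm' p p' _ := by
    ext q
    rw [HomologicalComplex.comp_f, HomologicalComplex.comp_f, trProj_f, trProj_f, trI_d_f]
    by_cases hq : P q
    · rw [trπ_ι_pos_assoc P _ hq]
    · rw [trπ_neg P _ hq, trπ_neg P _ hq]
      simp

/-- the inclusion of an inner compression. -/
noncomputable def trIIncl (h : ∀ i j, c₂.Rel i j → P i → P j) (K : HomologicalComplex₂ C c₁ c₂) :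
    trI P K ⟶ K where
  f p := trIncl P h (K.X p)
  comm' p p' _ := by
    ext q
    rw [HomologicalComplex.comp_f, HomologicalComplex.comp_f, trIncl_f, trIncl_f, trI_d_f]
    by_cases hq : P q
    · simp only [Category.assoc]
      rw [trπ_ι_pos P _ hq, Category.comp_id]
    · rw [trι_neg P _ hq, trι_neg P _ hq]
      simp

lemma trIProj_f_f (h : ∀ i j, c₂.Rel i j → P j → P i) (K : HomologicalComplex₂ C c₁ c₂)
    (p : I₁) (q : I₂) : ((trIProj P h K).f p).f q = trπ P (K.X p) q := rfl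

lemma trIIncl_f_f (h : ∀ i j, c₂.Rel i j → P i → P j) (K : HomologicalComplex₂ C c₁ c₂)
    (p : I₁) (q : I₂) : ((trIIncl P h K).f p).f q = trι P (K.X p) q := rfl

@[reassoc]
lemma trIProj_naturality (h : ∀ i j, c₂.Rel i j → P j → P i)
    {K L : HomologicalComplex₂ C c₁ c₂} (φ : K ⟶ L) :
    φ ≫ trIProj P h L = trIProj P h K ≫ trIMap P φ := by
  ext p q
  rw [HomologicalComplex.comp_f, HomologicalComplex.comp_f, HomologicalComplex.comp_f,
    HomologicalComplex.comp_f, trIProj_f_f, trIProj_f_f, trIMap_f_f]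
  by_cases hq : P q
  · rw [trπ_ι_pos_assoc P _ hq]
  · rw [trπ_neg P _ hq, trπ_neg P _ hq]
    simp

@[reassoc]
lemma trIIncl_naturality (h : ∀ i j, c₂.Rel i j → P i → P j)
    {K L : HomologicalComplex₂ C c₁ c₂} (φ : K ⟶ L) :
    trIMap P φ ≫ trIIncl P h L = trIIncl P h K ≫ φ := by
  ext p q
  rw [HomologicalComplex.comp_f, HomologicalComplex.comp_f, HomologicalComplex.comp_f,
    HomologicalComplex.comp_f, trIIncl_f_f, trIIncl_f_f, trIMap_f_f]
  by_cases hq : P q
  · simp only [Category.assoc]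
    rw [trπ_ι_pos P _ hq, Category.comp_id]
  · rw [trι_neg P _ hq, trι_neg P _ hq]
    simp

end TrIFull

end Groth.Agent.Lib.Helper17.Tot
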