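import Groth.Agent.Lib.Helper17Tot2

/-! The degreewise split short exact sequences of total complexes attached to a decomposition of a
predicate on the inner index (helper17). -/
set_option autoImplicit false
set_option backward.isDefEq.respectTransparency false
universe v u
open CategoryTheory CategoryTheory.Limits ZeroObject

namespace Groth.Agent.Lib.Helper17.Tot

section Pointwise

variable {C : Type u} [Category.{v} C] [Preadditive C] [HasZeroObject C]
  {ι : Type*} {c : ComplexShape ι}
  (P Q R : ι → Prop) [DecidablePred P] [DecidablePred Q] [DecidablePred R]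
  (M : HomologicalComplex C c) (i : ι)

lemma tr_ident_A (h : P i → Q i) :
    trι P M i ≫ trπ Q M i ≫ trι Q M i ≫ trπ P M i = 𝟙 _ := by
  by_cases hi : P i
  · rw [trπ_ι_pos_assoc Q M (h hi), trι_π]
  · exact (isZero_trX P M hi).eq_of_src _ _

lemma tr_ident_Z (hd : ¬ (P i ∧ R i)) :
    trι P M i ≫ trπ Q M i ≫ trι Q M i ≫ trπ R M i = 0 := by
  by_cases hi : P i
  · have hR : ¬ R i := fun hR => hd ⟨hi, hR⟩
    rw [trπ_neg R M hR]
    simp
  · rw [trι_neg P M hi]
    simp

lemma tr_ident_B (hQ : Q i ↔ (P i ∨ R i)) (hd : ¬ (P i ∧ R i)) :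
    trι Q M i ≫ trπ P M i ≫ trι P M i ≫ trπ Q M i +
      trι Q M i ≫ trπ R M i ≫ trι R M i ≫ trπ Q M i = 𝟙 _ := by
  by_cases hi : Q i
  · rcases hQ.1 hi with hP | hR
    · have hR : ¬ R i := fun hR => hd ⟨hP, hR⟩
      rw [trπ_ι_pos_assoc P M hP, trι_π, trπ_neg R M hR]
      simp
    · have hP : ¬ P i := fun hP => hd ⟨hP, hR⟩
      rw [trπ_ι_pos_assoc R M hR, trι_π, trπ_neg P M hP]
      simp
  · exact (isZero_trX Q M hi).eq_of_src _ _

end Pointwise

variable {C : Type u} [Category.{v} C] [Abelian C]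
  {I₁ I₂ I₁₂ : Type*} {c₁ : ComplexShape I₁} {c₂ : ComplexShape I₂}
  (c₁₂ : ComplexShape I₁₂) [TotalComplexShape c₁ c₂ c₁₂] [DecidableEq I₁₂]

instance hasCoproduct_of_finSupp (K : HomologicalComplex₂ C c₁ c₂) [FinSupp c₁₂ K] (n : I₁₂) :
    HasCoproduct (K.toGradedObject.mapObjFun (ComplexShape.π c₁ c₂ c₁₂) n) :=
  hasTotal_of_finSupp c₁₂ K n

section SES

variable (P Q R : I₂ → Prop) [DecidablePred P] [DecidablePred Q] [DecidablePred R]
  (hPQ : ∀ i j, c₂.Rel i j → P i → Q j → (Q i ↔ P j))
  (hQR : ∀ i j, c₂.Rel i j → Q i → R j → (R i ↔ Q j))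
  (hQ : ∀ i, Q i ↔ (P i ∨ R i)) (hd : ∀ i, ¬ (P i ∧ R i))
  (K : HomologicalComplex₂ C c₁ c₂) [FinSupp c₁₂ K]

include hd in
lemma trITrans_comp_zero : trITrans P Q hPQ K ≫ trITrans Q R hQR K = 0 := by
  ext p q
  rw [HomologicalComplex.comp_f, HomologicalComplex.comp_f, trITrans_f_f, trITrans_f_f,
    HomologicalComplex.zero_f, HomologicalComplex.zero_f, Category.assoc]
  exact tr_ident_Z P Q R (K.X p) q (hd q)

lemma total_map_zero (K L : HomologicalComplex₂ C c₁ c₂) [K.HasTotal c₁₂] [L.HasTotal c₁₂] :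
    HomologicalComplex₂.total.map (0 : K ⟶ L) c₁₂ = 0 := by
  ext n p q h
  rw [HomologicalComplex₂.ιTotal_map, HomologicalComplex.zero_f, HomologicalComplex.zero_f,
    HomologicalComplex.zero_f, zero_comp, comp_zero]

/-- the short complex of total complexes. -/
noncomputable def totSES : ShortComplex (HomologicalComplex C c₁₂) :=
  ShortComplex.mk (HomologicalComplex₂.total.map (trITrans P Q hPQ K) c₁₂)
    (HomologicalComplex₂.total.map (trITrans Q R hQR K) c₁₂) (by
      rw [← HomologicalComplex₂.total.map_comp, trITrans_comp_zero P Q R hPQ hQR hd K,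
        total_map_zero])

/-- the retraction in degree `n`. -/
noncomputable def totR (n : I₁₂) : ((trI Q K).total c₁₂).X n ⟶ ((trI P K).total c₁₂).X n :=
  (trI Q K).totalDesc (fun p q h => (trι Q (K.X p) q ≫ trπ P (K.X p) q) ≫
    (trI P K).ιTotal c₁₂ p q n h)

/-- the section in degree `n`. -/
noncomputable def totS (n : I₁₂) : ((trI R K).total c₁₂).X n ⟶ ((trI Q K).total c₁₂).X n :=
  (trI R K).totalDesc (fun p q h => (trι R (K.X p) q ≫ trπ Q (K.X p) q) ≫
    (trI Q K).ιTotal c₁₂ p q n h)

include hQ hd in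
/-- the degreewise splitting. -/
noncomputable def totSplitting (n : I₁₂) :
    ((totSES c₁₂ P Q R hPQ hQR hd K).map (HomologicalComplex.eval C c₁₂ n)).Splitting where
  r := totR c₁₂ P Q K n
  s := totS c₁₂ Q R K n
  f_r := by
    change (HomologicalComplex₂.total.map (trITrans P Q hPQ K) c₁₂).f n ≫ totR c₁₂ P Q K n = 𝟙 _
    apply HomologicalComplex₂.total.hom_ext
    intro p q h
    unfold totR
    rw [HomologicalComplex₂.ιTotal_map_assoc, HomologicalComplex₂.ι_totalDesc, trITrans_f_f,
      Category.comp_id]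
    have := tr_ident_A P Q (K.X p) q (fun hp => (hQ q).2 (Or.inl hp))
    simp only [Category.assoc] at this ⊢
    rw [reassoc_of% this]
  s_g := by
    change totS c₁₂ Q R K n ≫ (HomologicalComplex₂.total.map (trITrans Q R hQR K) c₁₂).f n = 𝟙 _
    apply HomologicalComplex₂.total.hom_ext
    intro p q h
    unfold totS
    rw [HomologicalComplex₂.ι_totalDesc_assoc, Category.assoc, HomologicalComplex₂.ιTotal_map,
      trITrans_f_f, Category.comp_id]
    have := tr_ident_A R Q (K.X p) q (fun hp => (hQ q).2 (Or.inr hp))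
    simp only [Category.assoc] at this ⊢
    rw [reassoc_of% this]
  id := by
    change totR c₁₂ P Q K n ≫ (HomologicalComplex₂.total.map (trITrans P Q hPQ K) c₁₂).f n +
      (HomologicalComplex₂.total.map (trITrans Q R hQR K) c₁₂).f n ≫ totS c₁₂ Q R K n = 𝟙 _
    apply HomologicalComplex₂.total.hom_ext
    intro p q h
    unfold totR totS
    rw [Preadditive.comp_add, HomologicalComplex₂.ι_totalDesc_assoc,
      HomologicalComplex₂.ιTotal_map_assoc, HomologicalComplex₂.ι_totalDesc, Category.assoc,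
      HomologicalComplex₂.ιTotal_map, trITrans_f_f, trITrans_f_f, Category.comp_id]
    have := tr_ident_B P Q R (K.X p) q (hQ q) (hd q)
    simp only [Category.assoc]
    calc _ = (trι Q (K.X p) q ≫ trπ P (K.X p) q ≫ trι P (K.X p) q ≫ trπ Q (K.X p) q +
          trι Q (K.X p) q ≫ trπ R (K.X p) q ≫ trι R (K.X p) q ≫ trπ Q (K.X p) q) ≫
          (trI Q K).ιTotal c₁₂ p q n h := by
            simp only [Preadditive.add_comp, Category.assoc]
      _ = _ := by
            rw [this]
            exact Category.id_comp _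

end SES

end Groth.Agent.Lib.Helper17.Tot
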