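import Groth.Agent.Lib.Helper17Tot3
import Mathlib.Algebra.Homology.HomologicalComplexAbelian

/-! Short exactness and naturality of the sequences of total complexes; the five lemma for the
middle term of a morphism of short exact sequences of complexes (helper17). -/
set_option autoImplicit false
set_option backward.isDefEq.respectTransparency false
universe v u
open CategoryTheory CategoryTheory.Limits ZeroObject

namespace Groth.Agent.Lib.Helper17.Tot

section Five

variable {C : Type u} [Category.{v} C] [Abelian C] {ι : Type*} {c : ComplexShape ι}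
  {S₁ S₂ : ShortComplex (HomologicalComplex C c)} (φ : S₁ ⟶ S₂)
  (hS₁ : S₁.ShortExact) (hS₂ : S₂.ShortExact)

open ComposableArrows HomologicalComplex

/-- the exact sequence `H_i(X₃) ⟶ H_j(X₁) ⟶ H_j(X₂) ⟶ H_j(X₃) ⟶ H_k(X₁)`. -/
noncomputable def cA₄ (i j k : ι) (hij : c.Rel i j) (hjk : c.Rel j k) : ComposableArrows C 4 :=
  mk₄ (hS₁.δ i j hij) (homologyMap S₁.f j) (homologyMap S₁.g j) (hS₁.δ j k hjk)

lemma cA₄_exact (i j k : ι) (hij : c.Rel i j) (hjk : c.Rel j k) :
    (cA₄ hS₁ i j k hij hjk).Exact :=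
  exact_of_δ₀ (hS₁.homology_exact₁ i j hij).exact_toComposableArrows
    (exact_of_δ₀ (hS₁.homology_exact₂ j).exact_toComposableArrows
      (hS₁.homology_exact₃ j k hjk).exact_toComposableArrows)

/-- the morphism of exact sequences. -/
noncomputable def cA₄Map (i j k : ι) (hij : c.Rel i j) (hjk : c.Rel j k) :
    cA₄ hS₁ i j k hij hjk ⟶ cA₄ hS₂ i j k hij hjk :=
  homMk₄ (homologyMap φ.τ₃ i) (homologyMap φ.τ₁ j) (homologyMap φ.τ₂ j) (homologyMap φ.τ₃ j)
    (homologyMap φ.τ₁ k)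
    (HomologySequence.δ_naturality φ hS₁ hS₂ i j hij)
    (by
      change homologyMap S₁.f j ≫ homologyMap φ.τ₂ j = homologyMap φ.τ₁ j ≫ homologyMap S₂.f j
      rw [← homologyMap_comp, ← homologyMap_comp, φ.comm₁₂])
    (by
      change homologyMap S₁.g j ≫ homologyMap φ.τ₃ j = homologyMap φ.τ₂ j ≫ homologyMap S₂.g j
      rw [← homologyMap_comp, ← homologyMap_comp, φ.comm₂₃])
    (HomologySequence.δ_naturality φ hS₁ hS₂ j k hjk)

include hS₁ hS₂ in
lemma isIso_homologyMap_τ₂ (i j k : ι) (hij : c.Rel i j) (hjk : c.Rel j k)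
    (h₁ : Epi (homologyMap φ.τ₃ i)) (h₂ : IsIso (homologyMap φ.τ₁ j))
    (h₃ : IsIso (homologyMap φ.τ₃ j)) (h₄ : Mono (homologyMap φ.τ₁ k)) :
    IsIso (homologyMap φ.τ₂ j) :=
  Abelian.isIso_of_epi_of_isIso_of_isIso_of_mono (cA₄_exact hS₁ i j k hij hjk)
    (cA₄_exact hS₂ i j k hij hjk) (cA₄Map φ hS₁ hS₂ i j k hij hjk) h₁ h₂ h₃ h₄

omit φ hS₁ hS₂ in
/-- for cochain complexes indexed by `ℤ`. -/
lemma quasiIso_τ₂ {S₁ S₂ : ShortComplex (CochainComplex C ℤ)} (φ : S₁ ⟶ S₂)
    (hS₁ : S₁.ShortExact) (hS₂ : S₂.ShortExact) (h₁ : QuasiIso φ.τ₁) (h₃ : QuasiIso φ.τ₃) :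
    QuasiIso φ.τ₂ := by
  rw [quasiIso_iff]
  intro j
  rw [quasiIsoAt_iff_isIso_homologyMap]
  exact isIso_homologyMap_τ₂ φ hS₁ hS₂ (j - 1) j (j + 1) (by simp) (by simp)
    inferInstance inferInstance inferInstance inferInstance

end Five

variable {C : Type u} [Category.{v} C] [Abelian C]
  {I₁ I₂ I₁₂ : Type*} {c₁ : ComplexShape I₁} {c₂ : ComplexShape I₂}
  (c₁₂ : ComplexShape I₁₂) [TotalComplexShape c₁ c₂ c₁₂] [DecidableEq I₁₂]

section SES

variable (P Q R : I₂ → Prop) [DecidablePred P] [DecidablePred Q] [DecidablePred R]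
  (hPQ : ∀ i j, c₂.Rel i j → P i → Q j → (Q i ↔ P j))
  (hQR : ∀ i j, c₂.Rel i j → Q i → R j → (R i ↔ Q j))
  (hQ : ∀ i, Q i ↔ (P i ∨ R i)) (hd : ∀ i, ¬ (P i ∧ R i))

include hQ in
lemma totSES_shortExact (K : HomologicalComplex₂ C c₁ c₂) [FinSupp c₁₂ K] :
    (totSES c₁₂ P Q R hPQ hQR hd K).ShortExact :=
  HomologicalComplex.shortExact_of_degreewise_shortExact _
    (fun n => (totSplitting c₁₂ P Q R hPQ hQR hQ hd K n).shortExact)

/-- the morphism of short complexes induced by a morphism of double complexes. -/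
noncomputable def totSESMap {K L : HomologicalComplex₂ C c₁ c₂} [FinSupp c₁₂ K] [FinSupp c₁₂ L]
    (φ : K ⟶ L) : totSES c₁₂ P Q R hPQ hQR hd K ⟶ totSES c₁₂ P Q R hPQ hQR hd L :=
  ShortComplex.homMk (HomologicalComplex₂.total.map (trIMap P φ) c₁₂)
    (HomologicalComplex₂.total.map (trIMap Q φ) c₁₂)
    (HomologicalComplex₂.total.map (trIMap R φ) c₁₂)
    (by
      change HomologicalComplex₂.total.map (trIMap P φ) c₁₂ ≫
        HomologicalComplex₂.total.map (trITrans P Q hPQ L) c₁₂ =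
        HomologicalComplex₂.total.map (trITrans P Q hPQ K) c₁₂ ≫
        HomologicalComplex₂.total.map (trIMap Q φ) c₁₂
      rw [← HomologicalComplex₂.total.map_comp, ← HomologicalComplex₂.total.map_comp,
        trITrans_naturality])
    (by
      change HomologicalComplex₂.total.map (trIMap Q φ) c₁₂ ≫
        HomologicalComplex₂.total.map (trITrans Q R hQR L) c₁₂ =
        HomologicalComplex₂.total.map (trITrans Q R hQR K) c₁₂ ≫
        HomologicalComplex₂.total.map (trIMap R φ) c₁₂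
      rw [← HomologicalComplex₂.total.map_comp, ← HomologicalComplex₂.total.map_comp,
        trITrans_naturality])

end SES

end Groth.Agent.Lib.Helper17.Tot
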