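import Groth.Agent.Lib.Helper17Tot5

/-!
# Total complexes: the single-row case

For a double complex `K` with integer bidegrees, the total complex of the inner compression of `K`
to the single inner degree `q₀` is the row `p ↦ (K.X p).X q₀`, shifted by `q₀`.
-/

set_option backward.isDefEq.respectTransparency false
set_option autoImplicit false

universe v u

open CategoryTheory CategoryTheory.Limits ZeroObject

namespace Groth.Agent.Lib.Helper17.Tot

variable {C : Type u} [Category.{v} C] [Abelian C]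

local notation "upℤ" => ComplexShape.up ℤ

/-- the `q`-th row of a double complex. -/
noncomputable abbrev row (K : HomologicalComplex₂ C upℤ upℤ) (q : ℤ) : CochainComplex C ℤ :=
  ((HomologicalComplex.eval C upℤ q).mapHomologicalComplex upℤ).obj K

/-- the map induced on `q`-th rows. -/
noncomputable abbrev rowMap {K L : HomologicalComplex₂ C upℤ upℤ} (φ : K ⟶ L) (q : ℤ) :
    row K q ⟶ row L q :=
  ((HomologicalComplex.eval C upℤ q).mapHomologicalComplex upℤ).map φ

section

variable (K L : HomologicalComplex₂ C upℤ upℤ) [FinSupp upℤ K] [FinSupp upℤ L] (q₀ : ℤ)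

/-- the identification of the term of the row with the term of the total complex. -/
noncomputable def rowτ (p n : ℤ) (h : p + q₀ = n) :
    (K.X p).X q₀ ⟶ ((trI (fun q => q = q₀) K).total upℤ).X n :=
  trπ (fun q => q = q₀) (K.X p) q₀ ≫ (trI (fun q => q = q₀) K).ιTotal upℤ p q₀ n h

instance isIso_rowτ (p n : ℤ) (h : p + q₀ = n) : IsIso (rowτ K q₀ p n h) := by
  haveI : IsIso (trπ (fun q => q = q₀) (K.X p) q₀) := isIso_trπ _ _ rfl
  haveI : IsIso ((trI (fun q => q = q₀) K).ιTotal upℤ p q₀ n h) := by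
    apply isIso_ιTotal
    intro p' q' hpq hne
    apply isZero_trI
    left
    intro hq
    apply hne
    refine ⟨?_, hq⟩
    have : p' + q' = n := hpq
    omega
  unfold rowτ
  infer_instance

lemma rowτ_d (p p' n n' : ℤ) (hp : p + 1 = p') (h : p + q₀ = n) (h' : p' + q₀ = n') :
    (K.d p p').f q₀ ≫ rowτ K q₀ p' n' h' =
      rowτ K q₀ p n h ≫ ((trI (fun q => q = q₀) K).total upℤ).d n n' := by
  unfold rowτ
  rw [HomologicalComplex₂.total_d, Category.assoc, Preadditive.comp_add,
    HomologicalComplex₂.ι_D₁, HomologicalComplex₂.ι_D₂,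
    HomologicalComplex₂.d₁_eq _ upℤ (show (upℤ).Rel p p' from hp) q₀ n' h',
    HomologicalComplex₂.d₂_eq' _ upℤ p (show (upℤ).Rel q₀ (q₀ + 1) from rfl) n',
    trI_d_f, trI_X_d]
  have h1 : trπ (fun q => q = q₀) (K.X p) (q₀ + 1) = 0 :=
    trπ_neg _ _ (by simp)
  rw [h1]
  simp only [comp_zero, zero_comp, smul_zero, add_zero, Category.assoc]
  have h2 : ComplexShape.ε₁ upℤ upℤ upℤ (p, q₀) = 1 := rfl
  rw [h2, one_smul, trπ_ι_pos_assoc (fun q => q = q₀) _ (i := q₀) rfl]

variable {K L}

lemma rowτ_naturality (φ : K ⟶ L) (p n : ℤ) (h : p + q₀ = n) :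
    (φ.f p).f q₀ ≫ rowτ L q₀ p n h =
      rowτ K q₀ p n h ≫ (HomologicalComplex₂.total.map (trIMap (fun q => q = q₀) φ) upℤ).f n := by
  unfold rowτ
  rw [Category.assoc, HomologicalComplex₂.ιTotal_map, trIMap_f_f,
    Category.assoc, Category.assoc, trπ_ι_pos_assoc (fun q => q = q₀) _ (i := q₀) rfl]

/-- the isomorphism of short complexes. -/
noncomputable def rowScIso (K : HomologicalComplex₂ C upℤ upℤ) [FinSupp upℤ K]
    (j n : ℤ) (h : j + q₀ = n) :
    (row K q₀).sc' (j - 1) j (j + 1) ≅
      ((trI (fun q => q = q₀) K).total upℤ).sc' (n - 1) n (n + 1) :=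
  ShortComplex.isoMk (asIso (rowτ K q₀ (j - 1) (n - 1) (by omega)))
    (asIso (rowτ K q₀ j n h)) (asIso (rowτ K q₀ (j + 1) (n + 1) (by omega)))
    (rowτ_d K q₀ (j - 1) j (n - 1) n (by omega) (by omega) h).symm
    (rowτ_d K q₀ j (j + 1) n (n + 1) rfl h (by omega)).symm

/-- if the map of rows is a quasi-isomorphism in degree `j`, the map on total complexes of the
single-row compressions is a quasi-isomorphism in degree `j + q₀`. -/
lemma quasiIsoAt_total_map_single (φ : K ⟶ L) (j n : ℤ) (h : j + q₀ = n)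
    (hφ : QuasiIsoAt (rowMap φ q₀) j) :
    QuasiIsoAt (HomologicalComplex₂.total.map (trIMap (fun q => q = q₀) φ) upℤ) n := by
  rw [quasiIsoAt_iff' _ (n - 1) n (n + 1) (by simp) (by simp)]
  rw [quasiIsoAt_iff' _ (j - 1) j (j + 1) (by simp) (by simp)] at hφ
  refine (ShortComplex.quasiIso_iff_of_arrow_mk_iso _ _
    (Arrow.isoMk (rowScIso q₀ K j n h) (rowScIso q₀ L j n h) ?_)).1 hφ
  ext
  · exact (rowτ_naturality q₀ φ (j - 1) (n - 1) (by omega)).symm
  · exact (rowτ_naturality q₀ φ j n h).symm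
  · exact (rowτ_naturality q₀ φ (j + 1) (n + 1) (by omega)).symm

/-- if the map of rows is a quasi-isomorphism, so is the map on total complexes of the
single-row compressions. -/
lemma quasiIso_total_map_single (φ : K ⟶ L) (hφ : QuasiIso (rowMap φ q₀)) :
    QuasiIso (HomologicalComplex₂.total.map (trIMap (fun q => q = q₀) φ) upℤ) := by
  rw [quasiIso_iff]
  intro n
  exact quasiIsoAt_total_map_single q₀ φ (n - q₀) n (by omega) inferInstance

end

end Groth.Agent.Lib.Helper17.Tot
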