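import Groth.Agent.Lib.Helper17Tot6

/-!
# The total complex functor preserves quasi-isomorphisms

If `φ : K ⟶ L` is a morphism of double complexes with integer bidegrees and finite antidiagonals
which induces quasi-isomorphisms on all rows `p ↦ (K.X p).X q`, then the induced morphism of total
complexes is a quasi-isomorphism.
-/

set_option backward.isDefEq.respectTransparency false
set_option autoImplicit false

universe v u

open CategoryTheory CategoryTheory.Limits ZeroObject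

namespace Groth.Agent.Lib.Helper17.Tot

variable {C : Type u} [Category.{v} C] [Abelian C]

local notation "upℤ" => ComplexShape.up ℤ

lemma isIso_of_isZero' {X Y : C} (hX : IsZero X) (hY : IsZero Y) (f : X ⟶ Y) : IsIso f :=
  ⟨⟨0, hX.eq_of_src _ _, hY.eq_of_src _ _⟩⟩

variable {K L : HomologicalComplex₂ C upℤ upℤ} [FinSupp upℤ K] [FinSupp upℤ L] (φ : K ⟶ L)

/-- compression along an empty predicate gives a quasi-isomorphism. -/
lemma quasiIso_total_map_of_empty (P : ℤ → Prop) [DecidablePred P] (h : ∀ q, ¬ P q) :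
    QuasiIso (HomologicalComplex₂.total.map (trIMap P φ) upℤ) := by
  rw [quasiIso_iff]
  intro n
  apply quasiIsoAt_of_isZero
  · exact isZero_total_X _ _ _ (fun p q _ => isZero_trI P K p q (Or.inl (h q)))
  · exact isZero_total_X _ _ _ (fun p q _ => isZero_trI P L p q (Or.inl (h q)))

/-- two out of three along the split short exact sequences of total complexes. -/
lemma quasiIso_total_map_of_ses (P Q R : ℤ → Prop) [DecidablePred P] [DecidablePred Q]
    [DecidablePred R]
    (hPQ : ∀ i j, (upℤ).Rel i j → P i → Q j → (Q i ↔ P j))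
    (hQR : ∀ i j, (upℤ).Rel i j → Q i → R j → (R i ↔ Q j))
    (hQ : ∀ i, Q i ↔ (P i ∨ R i)) (hd : ∀ i, ¬ (P i ∧ R i))
    (h₁ : QuasiIso (HomologicalComplex₂.total.map (trIMap P φ) upℤ))
    (h₃ : QuasiIso (HomologicalComplex₂.total.map (trIMap R φ) upℤ)) :
    QuasiIso (HomologicalComplex₂.total.map (trIMap Q φ) upℤ) :=
  quasiIso_τ₂ (totSESMap upℤ P Q R hPQ hQR hd φ)
    (totSES_shortExact upℤ P Q R hPQ hQR hQ hd K)
    (totSES_shortExact upℤ P Q R hPQ hQR hQ hd L) h₁ h₃

/-- induction on the width of a band. -/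
lemma quasiIso_total_map_band (hφ : ∀ q, QuasiIso (rowMap φ q)) (m : ℕ) :
    ∀ (N₁ N₂ : ℤ), N₂ = N₁ + m →
      QuasiIso (HomologicalComplex₂.total.map (trIMap (fun q => N₁ ≤ q ∧ q < N₂) φ) upℤ) := by
  induction m with
  | zero =>
    intro N₁ N₂ h
    exact quasiIso_total_map_of_empty φ _ (by intro q; simp at h; omega)
  | succ m ih =>
    intro N₁ N₂ h
    refine quasiIso_total_map_of_ses φ (fun q => q = N₂ - 1) (fun q => N₁ ≤ q ∧ q < N₂)
      (fun q => N₁ ≤ q ∧ q < N₂ - 1) ?_ ?_ ?_ ?_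
      (quasiIso_total_map_single (N₂ - 1) φ (hφ _))
      (ih N₁ (N₂ - 1) (by push_cast at h; omega))
    · intro i j (hij : i + 1 = j) (hi : i = N₂ - 1) (hj : N₁ ≤ j ∧ j < N₂)
      exfalso; omega
    · intro i j (hij : i + 1 = j) (hi : N₁ ≤ i ∧ i < N₂) (hj : N₁ ≤ j ∧ j < N₂ - 1)
      change (N₁ ≤ i ∧ i < N₂ - 1) ↔ (N₁ ≤ j ∧ j < N₂)
      omega
    · intro i
      change (N₁ ≤ i ∧ i < N₂) ↔ (i = N₂ - 1 ∨ (N₁ ≤ i ∧ i < N₂ - 1))
      push_cast at h
      omega
    · intro i
      change ¬ (i = N₂ - 1 ∧ (N₁ ≤ i ∧ i < N₂ - 1))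
      omega

omit [FinSupp upℤ L] in
/-- a bound for the inner degrees of the nonzero terms on an antidiagonal. -/
lemma exists_bound (K : HomologicalComplex₂ C upℤ upℤ) [FinSupp upℤ K] (n : ℤ) :
    ∃ B : ℕ, ∀ p q : ℤ, p + q = n → B < q.natAbs → IsZero ((K.X p).X q) := by
  obtain ⟨S, hS⟩ := FinSupp.fin (c₁₂ := upℤ) (K := K) n
  refine ⟨S.sup (fun pq => pq.2.natAbs), fun p q hpq hB => hS p q hpq ?_⟩
  intro hmem
  have := Finset.le_sup (f := fun pq : ℤ × ℤ => pq.2.natAbs) hmem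
  simp only at this
  omega

omit [FinSupp upℤ L] in
/-- a uniform bound on three consecutive antidiagonals. -/
lemma exists_bound₃ (K : HomologicalComplex₂ C upℤ upℤ) [FinSupp upℤ K] (n : ℤ) :
    ∃ B : ℕ, ∀ p q n' : ℤ, p + q = n' → (n' = n - 1 ∨ n' = n ∨ n' = n + 1) →
      B < q.natAbs → IsZero ((K.X p).X q) := by
  obtain ⟨B₁, h₁⟩ := exists_bound K (n - 1)
  obtain ⟨B₂, h₂⟩ := exists_bound K n
  obtain ⟨B₃, h₃⟩ := exists_bound K (n + 1)
  refine ⟨max B₁ (max B₂ B₃), ?_⟩
  intro p q n' hpq hn' hB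
  rcases hn' with rfl | rfl | rfl
  · exact h₁ p q hpq (by omega)
  · exact h₂ p q hpq (by omega)
  · exact h₃ p q hpq (by omega)

section Compare

variable (K) (N₁ N₂ : ℤ)

omit [FinSupp upℤ L] in
/-- the projection to the compression `q < N₂` is an isomorphism on total complexes in a degree
where all terms with `q ≥ N₂` vanish. -/
lemma isIso_total_map_trIProj (n : ℤ)
    (hz : ∀ p q : ℤ, p + q = n → ¬ q < N₂ → IsZero ((K.X p).X q)) :
    IsIso ((HomologicalComplex₂.total.map (trIProj (fun q => q < N₂)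
      (fun i j (hij : i + 1 = j) (hj : j < N₂) => show i < N₂ by omega) K) upℤ).f n) := by
  apply isIso_total_map_f
  intro p q hpq
  rw [trIProj_f_f]
  by_cases hq : q < N₂
  · exact isIso_trπ (fun q => q < N₂) _ hq
  · exact isIso_of_isZero' (hz p q hpq hq) (isZero_trX (fun q => q < N₂) _ hq) _

omit [FinSupp upℤ L] in
/-- the comparison between the band compression and the compression `q < N₂` is an isomorphism
on total complexes in a degree where all terms with `q < N₁` vanish. -/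
lemma isIso_total_map_trITrans (n : ℤ)
    (hz : ∀ p q : ℤ, p + q = n → ¬ N₁ ≤ q → IsZero ((K.X p).X q)) :
    IsIso ((HomologicalComplex₂.total.map (trITrans (fun q => N₁ ≤ q ∧ q < N₂) (fun q => q < N₂)
      (fun i j (hij : i + 1 = j) (hi : N₁ ≤ i ∧ i < N₂) (hj : j < N₂) =>
        show i < N₂ ↔ (N₁ ≤ j ∧ j < N₂) by omega) K) upℤ).f n) := by
  apply isIso_total_map_f
  intro p q hpq
  rw [trITrans_f_f]
  by_cases hq : N₁ ≤ q ∧ q < N₂
  · haveI := isIso_trι (fun q => N₁ ≤ q ∧ q < N₂) (K.X p) hq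
    haveI := isIso_trπ (fun q => q < N₂) (K.X p) hq.2
    infer_instance
  · refine isIso_of_isZero' (isZero_trX (fun q => N₁ ≤ q ∧ q < N₂) _ hq) ?_ _
    by_cases hq₂ : q < N₂
    · exact isZero_trI (fun q => q < N₂) K p q (Or.inr (hz p q hpq (by omega)))
    · exact isZero_trX (fun q => q < N₂) _ hq₂

end Compare

/-- **The total complex functor preserves quasi-isomorphisms**: degreewise version. -/
lemma quasiIsoAt_total_map_of_rows (hφ : ∀ q, QuasiIso (rowMap φ q)) (n : ℤ) :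
    QuasiIsoAt (HomologicalComplex₂.total.map φ upℤ) n := by
  obtain ⟨BK, hBK⟩ := exists_bound₃ K n
  obtain ⟨BL, hBL⟩ := exists_bound₃ L n
  obtain ⟨B, hB⟩ : ∃ B : ℕ, BK ≤ B ∧ BL ≤ B := ⟨max BK BL, le_max_left _ _, le_max_right _ _⟩
  let N₁ : ℤ := -B
  let N₂ : ℤ := B + 1
  have hN : N₂ = N₁ + ((2 * B + 1 : ℕ) : ℤ) := by simp only [N₁, N₂]; push_cast; omega
  have hKz : ∀ p q n' : ℤ, p + q = n' → (n' = n - 1 ∨ n' = n ∨ n' = n + 1) →
      ¬ (N₁ ≤ q ∧ q < N₂) → IsZero ((K.X p).X q) := fun p q n' hpq hn' hq =>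
    hBK p q n' hpq hn' (by simp only [N₁, N₂] at hq; omega)
  have hLz : ∀ p q n' : ℤ, p + q = n' → (n' = n - 1 ∨ n' = n ∨ n' = n + 1) →
      ¬ (N₁ ≤ q ∧ q < N₂) → IsZero ((L.X p).X q) := fun p q n' hpq hn' hq =>
    hBL p q n' hpq hn' (by simp only [N₁, N₂] at hq; omega)
  -- the band
  have hband := quasiIso_total_map_band φ hφ (2 * B + 1) N₁ N₂ hN
  -- the comparison maps
  have hαK : QuasiIsoAt (HomologicalComplex₂.total.map (trIProj (fun q => q < N₂)
      (fun i j (hij : i + 1 = j) (hj : j < N₂) => show i < N₂ by omega) K) upℤ) n :=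
    quasiIsoAt_of_isIso_f _ n
      (isIso_total_map_trIProj K N₂ (n - 1) (fun p q hpq hq =>
        hKz p q (n - 1) hpq (Or.inl rfl) (fun h => hq h.2)))
      (isIso_total_map_trIProj K N₂ n (fun p q hpq hq =>
        hKz p q n hpq (Or.inr (Or.inl rfl)) (fun h => hq h.2)))
      (isIso_total_map_trIProj K N₂ (n + 1) (fun p q hpq hq =>
        hKz p q (n + 1) hpq (Or.inr (Or.inr rfl)) (fun h => hq h.2)))
  have hαL : QuasiIsoAt (HomologicalComplex₂.total.map (trIProj (fun q => q < N₂)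
      (fun i j (hij : i + 1 = j) (hj : j < N₂) => show i < N₂ by omega) L) upℤ) n :=
    quasiIsoAt_of_isIso_f _ n
      (isIso_total_map_trIProj L N₂ (n - 1) (fun p q hpq hq =>
        hLz p q (n - 1) hpq (Or.inl rfl) (fun h => hq h.2)))
      (isIso_total_map_trIProj L N₂ n (fun p q hpq hq =>
        hLz p q n hpq (Or.inr (Or.inl rfl)) (fun h => hq h.2)))
      (isIso_total_map_trIProj L N₂ (n + 1) (fun p q hpq hq =>
        hLz p q (n + 1) hpq (Or.inr (Or.inr rfl)) (fun h => hq h.2)))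
  have hβK : QuasiIsoAt (HomologicalComplex₂.total.map (trITrans (fun q => N₁ ≤ q ∧ q < N₂)
      (fun q => q < N₂)
      (fun i j (hij : i + 1 = j) (hi : N₁ ≤ i ∧ i < N₂) (hj : j < N₂) =>
        show i < N₂ ↔ (N₁ ≤ j ∧ j < N₂) by omega) K) upℤ) n :=
    quasiIsoAt_of_isIso_f _ n
      (isIso_total_map_trITrans K N₁ N₂ (n - 1) (fun p q hpq hq =>
        hKz p q (n - 1) hpq (Or.inl rfl) (fun h => hq h.1)))
      (isIso_total_map_trITrans K N₁ N₂ n (fun p q hpq hq =>
        hKz p q n hpq (Or.inr (Or.inl rfl)) (fun h => hq h.1)))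
      (isIso_total_map_trITrans K N₁ N₂ (n + 1) (fun p q hpq hq =>
        hKz p q (n + 1) hpq (Or.inr (Or.inr rfl)) (fun h => hq h.1)))
  have hβL : QuasiIsoAt (HomologicalComplex₂.total.map (trITrans (fun q => N₁ ≤ q ∧ q < N₂)
      (fun q => q < N₂)
      (fun i j (hij : i + 1 = j) (hi : N₁ ≤ i ∧ i < N₂) (hj : j < N₂) =>
        show i < N₂ ↔ (N₁ ≤ j ∧ j < N₂) by omega) L) upℤ) n :=
    quasiIsoAt_of_isIso_f _ n
      (isIso_total_map_trITrans L N₁ N₂ (n - 1) (fun p q hpq hq =>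
        hLz p q (n - 1) hpq (Or.inl rfl) (fun h => hq h.1)))
      (isIso_total_map_trITrans L N₁ N₂ n (fun p q hpq hq =>
        hLz p q n hpq (Or.inr (Or.inl rfl)) (fun h => hq h.1)))
      (isIso_total_map_trITrans L N₁ N₂ (n + 1) (fun p q hpq hq =>
        hLz p q (n + 1) hpq (Or.inr (Or.inr rfl)) (fun h => hq h.1)))
  -- the middle map
  have hmid : QuasiIsoAt (HomologicalComplex₂.total.map (trIMap (fun q => q < N₂) φ) upℤ) n := by
    have e := congrArg (fun ψ => HomologicalComplex₂.total.map ψ upℤ)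
      (trITrans_naturality (fun q => N₁ ≤ q ∧ q < N₂) (fun q => q < N₂)
        (fun i j (hij : i + 1 = j) (hi : N₁ ≤ i ∧ i < N₂) (hj : j < N₂) =>
          show i < N₂ ↔ (N₁ ≤ j ∧ j < N₂) by omega) φ)
    simp only [HomologicalComplex₂.total.map_comp] at e
    haveI : QuasiIsoAt (HomologicalComplex₂.total.map (trITrans (fun q => N₁ ≤ q ∧ q < N₂)
      (fun q => q < N₂)
      (fun i j (hij : i + 1 = j) (hi : N₁ ≤ i ∧ i < N₂) (hj : j < N₂) =>
        show i < N₂ ↔ (N₁ ≤ j ∧ j < N₂) by omega) K) upℤ ≫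
        HomologicalComplex₂.total.map (trIMap (fun q => q < N₂) φ) upℤ) n := by
      rw [← e]
      infer_instance
    exact quasiIsoAt_of_comp_left (HomologicalComplex₂.total.map (trITrans
      (fun q => N₁ ≤ q ∧ q < N₂) (fun q => q < N₂)
      (fun i j (hij : i + 1 = j) (hi : N₁ ≤ i ∧ i < N₂) (hj : j < N₂) =>
        show i < N₂ ↔ (N₁ ≤ j ∧ j < N₂) by omega) K) upℤ) _ n
  -- conclusion
  have e := congrArg (fun ψ => HomologicalComplex₂.total.map ψ upℤ)
    (trIProj_naturality (fun q => q < N₂)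
      (fun i j (hij : i + 1 = j) (hj : j < N₂) => show i < N₂ by omega) φ)
  simp only [HomologicalComplex₂.total.map_comp] at e
  haveI : QuasiIsoAt (HomologicalComplex₂.total.map φ upℤ ≫
      HomologicalComplex₂.total.map (trIProj (fun q => q < N₂)
      (fun i j (hij : i + 1 = j) (hj : j < N₂) => show i < N₂ by omega) L) upℤ) n := by
    rw [e]
    infer_instance
  exact quasiIsoAt_of_comp_right _ (HomologicalComplex₂.total.map (trIProj (fun q => q < N₂)
      (fun i j (hij : i + 1 = j) (hj : j < N₂) => show i < N₂ by omega) L) upℤ) n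

/-- **The total complex functor preserves quasi-isomorphisms** (finite antidiagonals, rows). -/
theorem quasiIso_total_map_of_rows (hφ : ∀ q, QuasiIso (rowMap φ q)) :
    QuasiIso (HomologicalComplex₂.total.map φ upℤ) := by
  rw [quasiIso_iff]
  exact quasiIsoAt_total_map_of_rows φ hφ

end Groth.Agent.Lib.Helper17.Tot
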