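import Groth.Agent.Lib.Helper17Tot7
import Mathlib.Data.Int.Interval

/-!
# The total complex functor preserves quasi-isomorphisms: bounded double complexes
-/

set_option backward.isDefEq.respectTransparency false
set_option autoImplicit false

universe v u

open CategoryTheory CategoryTheory.Limits ZeroObject

namespace Groth.Agent.Lib.Helper17.Tot

variable {C : Type u} [Category.{v} C] [Abelian C]

local notation "upℤ" => ComplexShape.up ℤ

/-- a double complex vanishing for `p < a` or `q < b` has finite antidiagonals. -/
lemma finSupp_of_bounded_below (K : HomologicalComplex₂ C upℤ upℤ) (a b : ℤ)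
    (hK : ∀ p q : ℤ, p < a ∨ q < b → IsZero ((K.X p).X q)) : FinSupp upℤ K where
  fin n := ⟨(Finset.Icc a (n - b)) ×ˢ (Finset.Icc b (n - a)), fun p q hpq hmem => by
    apply hK
    have : p + q = n := hpq
    rw [Finset.mem_product, Finset.mem_Icc, Finset.mem_Icc] at hmem
    omega⟩

/-- a double complex vanishing for `a < p` or `b < q` has finite antidiagonals. -/
lemma finSupp_of_bounded_above (K : HomologicalComplex₂ C upℤ upℤ) (a b : ℤ)
    (hK : ∀ p q : ℤ, a < p ∨ b < q → IsZero ((K.X p).X q)) : FinSupp upℤ K where
  fin n := ⟨(Finset.Icc (n - b) a) ×ˢ (Finset.Icc (n - a) b), fun p q hpq hmem => by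
    apply hK
    have : p + q = n := hpq
    rw [Finset.mem_product, Finset.mem_Icc, Finset.mem_Icc] at hmem
    omega⟩

/-- a quasi-isomorphism in the outer direction induces quasi-isomorphisms on rows. -/
lemma quasiIso_rowMap {K L : HomologicalComplex₂ C upℤ upℤ} (φ : K ⟶ L) [QuasiIso φ] (q : ℤ) :
    QuasiIso (rowMap φ q) := by
  unfold rowMap
  infer_instance

/-- **The total complex functor preserves quasi-isomorphisms** (finite antidiagonals,
quasi-isomorphism in the outer direction). -/
theorem quasiIso_total_map {K L : HomologicalComplex₂ C upℤ upℤ} [FinSupp upℤ K] [FinSupp upℤ L]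
    (φ : K ⟶ L) [QuasiIso φ] : QuasiIso (HomologicalComplex₂.total.map φ upℤ) :=
  quasiIso_total_map_of_rows φ (fun q => quasiIso_rowMap φ q)

end Groth.Agent.Lib.Helper17.Tot
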