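import Groth.Agent.Lib.Helper17AbHom
import Groth.Agent.Lib.Helper17Hyp16
import Groth.Prelude.Def_CohCx

/-!
# Towers of complexes of abelian groups (helper17)

Element-level Milnor arguments for the cohomology of the termwise limit of a tower of complexes
of abelian groups: compatible families of cocycles.
-/

set_option autoImplicit false

universe u

open CategoryTheory CategoryTheory.Limits HomologicalComplex

namespace Groth.Agent.Lib.Helper17.TowLim

open Groth.Agent.Lib.Helper17.AbHom Groth.Agent.Lib.Helper17.Hyp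

variable (A : ℕ → CochainComplex AddCommGrpCat.{u} ℤ) (τ : ∀ n, A (n + 1) ⟶ A n)

/-- compatible families in degree `j`. -/
def Compat (j : ℤ) (x : ∀ n, (A n).X j) : Prop := ∀ n, (τ n).f j (x (n + 1)) = x n

variable {A}

lemma comm_apply {K L : CochainComplex AddCommGrpCat.{u} ℤ} (f : K ⟶ L) (i j : ℤ) (x : K.X i) :
    f.f j (K.d i j x) = L.d i j (f.f i x) := by
  rw [← AddCommGrpCat.comp_apply, ← AddCommGrpCat.comp_apply, f.comm i j]

lemma d_d_apply (K : CochainComplex AddCommGrpCat.{u} ℤ) (i j k : ℤ) (x : K.X i) :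
    K.d j k (K.d i j x) = 0 := by
  rw [← AddCommGrpCat.comp_apply, K.d_comp_d]
  rfl

variable (A)

lemma isIso_homologyMap_τ (n₀ : ℕ) (i : ℤ)
    (hc : ∀ k, IsIso (homologyMap (CohCx.transition A τ n₀ k) i)) (k : ℕ) :
    IsIso (homologyMap (τ (n₀ + k)) i) := by
  haveI := hc k
  haveI : IsIso (homologyMap (τ (n₀ + k)) i ≫ homologyMap (CohCx.transition A τ n₀ k) i) := by
    rw [← homologyMap_comp]
    exact hc (k + 1)
  exact IsIso.of_isIso_comp_right _ (homologyMap (CohCx.transition A τ n₀ k) i)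

lemma bijective_homologyMap_τ (n₀ : ℕ) (i : ℤ)
    (hc : ∀ k, IsIso (homologyMap (CohCx.transition A τ n₀ k) i)) (n : ℕ) (hn : n₀ ≤ n) :
    Function.Bijective (homologyMap (τ n) i) := by
  obtain ⟨k, rfl⟩ := Nat.exists_eq_add_of_le hn
  haveI := isIso_homologyMap_τ A τ n₀ i hc k
  exact ConcreteCategory.bijective_of_isIso _

/-- Surjectivity: every cocycle of `A n₀` is cohomologous to the `n₀`-th member of a compatible
family of cocycles. -/
theorem exists_compat_cocycle (i₁ i₂ i₃ : ℤ) (h12 : i₁ + 1 = i₂) (h23 : i₂ + 1 = i₃) (n₀ : ℕ)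
    (ha₁ : CohCx.LimOneIsZero (fun n => (A n).X i₁) (fun n => ((τ n).f i₁).hom))
    (hc : ∀ k, IsIso (homologyMap (CohCx.transition A τ n₀ k) i₂))
    (z' : (A n₀).X i₂) (hz' : (A n₀).d i₂ i₃ z' = 0) :
    ∃ z : ∀ n, (A n).X i₂, Compat A τ i₂ z ∧ (∀ n, (A n).d i₂ i₃ (z n) = 0) ∧
      ∃ y : (A n₀).X i₁, z n₀ - z' = (A n₀).d i₁ i₂ y := by
  have hnext : (ComplexShape.up ℤ).next i₂ = i₃ := by simp [← h23]
  have hprev : (ComplexShape.up ℤ).prev i₂ = i₁ := by simp [← h12]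
  obtain ⟨c', hc'⟩ := exists_cycle (A n₀) i₂ i₃ hnext z' hz'
  -- compatible classes
  obtain ⟨h, hh, hhn₀⟩ := exists_compatible n₀ (fun n => (A n).homology i₂)
    (fun n => homologyMap (τ n) i₂) (fun n hn => (bijective_homologyMap_τ A τ n₀ i₂ hc n hn).2)
    ((A n₀).homologyπ i₂ c')
  -- representatives
  choose c hcc using fun n => homologyπ_surjective (A n) i₂ (h n)
  have hy : ∀ n, ∃ y : (A n).X i₁,
      (A n).toCycles i₁ i₂ y = cyclesMap (τ n) i₂ (c (n + 1)) - c n := fun n => by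
    apply exists_of_homologyπ_eq_zero (A n) i₁ i₂ hprev
    rw [map_sub, ← homologyMap_homologyπ, hcc, hcc, hh n, sub_self]
  choose y hy using hy
  obtain ⟨x, hx⟩ := ha₁ y
  have hx' : ∀ n, x n - (τ n).f i₁ (x (n + 1)) = y n := fun n => congrFun hx n
  refine ⟨fun n => (A n).iCycles i₂ (c n) + (A n).d i₁ i₂ (x n), fun n => ?_, fun n => ?_, ?_⟩
  · -- compatibility
    have h1 : (A n).d i₁ i₂ (y n) =
        (τ n).f i₂ ((A (n + 1)).iCycles i₂ (c (n + 1))) - (A n).iCycles i₂ (c n) := by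
      rw [← iCycles_toCycles, hy n, map_sub, iCycles_cyclesMap]
    change (τ n).f i₂ ((A (n + 1)).iCycles i₂ (c (n + 1)) + (A (n + 1)).d i₁ i₂ (x (n + 1))) =
      (A n).iCycles i₂ (c n) + (A n).d i₁ i₂ (x n)
    rw [map_add, comm_apply]
    have h2 : (A n).d i₁ i₂ (x n) = (A n).d i₁ i₂ (y n) + (A n).d i₁ i₂ ((τ n).f i₁ (x (n + 1))) := by
      rw [← map_add, ← hx' n, sub_add_cancel]
    rw [h2, h1]
    abel
  · change (A n).d i₂ i₃ ((A n).iCycles i₂ (c n) + (A n).d i₁ i₂ (x n)) = 0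
    rw [map_add, d_iCycles, d_d_apply, add_zero]
  · have h0 : (A n₀).homologyπ i₂ (c n₀ - c') = 0 := by
      rw [map_sub, hcc, hhn₀, sub_self]
    obtain ⟨y', hy'⟩ := exists_of_homologyπ_eq_zero (A n₀) i₁ i₂ hprev _ h0
    have h1 : (A n₀).d i₁ i₂ y' = (A n₀).iCycles i₂ (c n₀) - z' := by
      rw [← iCycles_toCycles, hy', map_sub, hc']
    refine ⟨y' + x n₀, ?_⟩
    change (A n₀).iCycles i₂ (c n₀) + (A n₀).d i₁ i₂ (x n₀) - z' = _
    rw [map_add, h1]
    abel

lemma transition_apply {j : ℤ} {x : ∀ n, (A n).X j} (hx : Compat A τ j x) (n₀ k : ℕ) :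
    (CohCx.transition A τ n₀ k).f j (x (n₀ + k)) = x n₀ := by
  induction k with
  | zero => rfl
  | succ k ih =>
    change ((τ (n₀ + k)) ≫ CohCx.transition A τ n₀ k).f j (x (n₀ + k + 1)) = x n₀
    rw [HomologicalComplex.comp_f, AddCommGrpCat.comp_apply, hx (n₀ + k), ih]

/-- Injectivity: a compatible family of cocycles whose `n₀`-th member is a coboundary is the
coboundary of a compatible family. -/
theorem exists_compat_primitive (i₀ i₁ i₂ i₃ : ℤ) (h01 : i₀ + 1 = i₁) (h12 : i₁ + 1 = i₂)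
    (h23 : i₂ + 1 = i₃) (n₀ : ℕ)
    (ha₀ : CohCx.LimOneIsZero (fun n => (A n).X i₀) (fun n => ((τ n).f i₀).hom))
    (hb : CohCx.LimOneIsZero (fun n => (A n).homology i₁)
      (fun n => (homologyMap (τ n) i₁).hom))
    (hc : ∀ k, IsIso (homologyMap (CohCx.transition A τ n₀ k) i₂))
    (z : ∀ n, (A n).X i₂) (hz : Compat A τ i₂ z) (hzd : ∀ n, (A n).d i₂ i₃ (z n) = 0)
    (hy : ∃ y : (A n₀).X i₁, z n₀ = (A n₀).d i₁ i₂ y) :
    ∃ x : ∀ n, (A n).X i₁, Compat A τ i₁ x ∧ ∀ n, (A n).d i₁ i₂ (x n) = z n := by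
  have hnext2 : (ComplexShape.up ℤ).next i₂ = i₃ := by simp [← h23]
  have hprev2 : (ComplexShape.up ℤ).prev i₂ = i₁ := by simp [← h12]
  have hnext1 : (ComplexShape.up ℤ).next i₁ = i₂ := by simp [← h12]
  have hprev1 : (ComplexShape.up ℤ).prev i₁ = i₀ := by simp [← h01]
  obtain ⟨y, hy⟩ := hy
  -- Step 1: every `z n` is a coboundary
  have hdesc : ∀ (j n : ℕ), (∃ x : (A (n + j)).X i₁, (A (n + j)).d i₁ i₂ x = z (n + j)) →
      ∃ x : (A n).X i₁, (A n).d i₁ i₂ x = z n := by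
    intro j
    induction j with
    | zero => intro n h; exact h
    | succ j ih =>
      intro n ⟨x, hx⟩
      apply ih n
      have hx' : (A (n + j + 1)).d i₁ i₂ x = z (n + j + 1) := hx
      refine ⟨(τ (n + j)).f i₁ x, ?_⟩
      rw [← comm_apply, hx']
      exact hz (n + j)
  have hP : ∀ k, ∃ x : (A (n₀ + k)).X i₁, (A (n₀ + k)).d i₁ i₂ x = z (n₀ + k) := by
    intro k
    obtain ⟨c, hc'⟩ := exists_cycle (A (n₀ + k)) i₂ i₃ hnext2 (z (n₀ + k)) (hzd _)
    have h1 : cyclesMap (CohCx.transition A τ n₀ k) i₂ c = (A n₀).toCycles i₁ i₂ y := by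
      apply iCycles_injective
      rw [iCycles_cyclesMap, hc', transition_apply A τ hz, iCycles_toCycles, hy]
    have h2 : homologyMap (CohCx.transition A τ n₀ k) i₂ ((A (n₀ + k)).homologyπ i₂ c) = 0 := by
      rw [homologyMap_homologyπ, h1, homologyπ_toCycles]
    haveI := hc k
    have hinj : Function.Injective (homologyMap (CohCx.transition A τ n₀ k) i₂) :=
      (ConcreteCategory.bijective_of_isIso _).1
    have h3 : (A (n₀ + k)).homologyπ i₂ c = 0 := hinj (h2.trans (map_zero _).symm)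
    obtain ⟨x, hx⟩ := exists_of_homologyπ_eq_zero (A (n₀ + k)) i₁ i₂ hprev2 c h3
    exact ⟨x, by rw [← iCycles_toCycles, hx, hc']⟩
  have hall : ∀ n, ∃ x : (A n).X i₁, (A n).d i₁ i₂ x = z n := fun n => by
    apply hdesc n₀ n
    have := hP n
    rwa [Nat.add_comm] at this
  choose x₀ hx₀ using hall
  -- Step 2: the defect cocycles
  have hcdef : ∀ n, (A n).d i₁ i₂ (x₀ n - (τ n).f i₁ (x₀ (n + 1))) = 0 := fun n => by
    rw [map_sub, ← comm_apply, hx₀, hx₀, hz n, sub_self]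
  choose γ hγ using fun n => exists_cycle (A n) i₁ i₂ hnext1 _ (hcdef n)
  obtain ⟨g, hg⟩ := hb (fun n => (A n).homologyπ i₁ (γ n))
  have hg' : ∀ n, g n - homologyMap (τ n) i₁ (g (n + 1)) = (A n).homologyπ i₁ (γ n) :=
    fun n => congrFun hg n
  choose ε hε using fun n => homologyπ_surjective (A n) i₁ (g n)
  have hb' : ∀ n, ∃ b : (A n).X i₀,
      (A n).toCycles i₀ i₁ b = ε n - cyclesMap (τ n) i₁ (ε (n + 1)) - γ n := fun n => by
    apply exists_of_homologyπ_eq_zero (A n) i₀ i₁ hprev1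
    rw [map_sub, map_sub, ← homologyMap_homologyπ, hε, hε, hg' n, sub_self]
  choose b hb' using hb'
  obtain ⟨a, ha⟩ := ha₀ b
  have ha' : ∀ n, a n - (τ n).f i₀ (a (n + 1)) = b n := fun n => congrFun ha n
  have hdb : ∀ n, (A n).d i₀ i₁ (b n) = (A n).iCycles i₁ (ε n) -
      (τ n).f i₁ ((A (n + 1)).iCycles i₁ (ε (n + 1))) -
        (x₀ n - (τ n).f i₁ (x₀ (n + 1))) := fun n => by
    rw [← iCycles_toCycles, hb' n, map_sub, map_sub, iCycles_cyclesMap, hγ n]
  refine ⟨fun n => x₀ n - (A n).iCycles i₁ (ε n) + (A n).d i₀ i₁ (a n), fun n => ?_, fun n => ?_⟩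
  · change (τ n).f i₁ (x₀ (n + 1) - (A (n + 1)).iCycles i₁ (ε (n + 1)) +
      (A (n + 1)).d i₀ i₁ (a (n + 1))) = x₀ n - (A n).iCycles i₁ (ε n) + (A n).d i₀ i₁ (a n)
    rw [map_add, map_sub, comm_apply]
    have h2 : (A n).d i₀ i₁ (a n) =
        (A n).d i₀ i₁ (b n) + (A n).d i₀ i₁ ((τ n).f i₀ (a (n + 1))) := by
      rw [← map_add, ← ha' n, sub_add_cancel]
    rw [h2, hdb n]
    abel
  · change (A n).d i₁ i₂ (x₀ n - (A n).iCycles i₁ (ε n) + (A n).d i₀ i₁ (a n)) = z n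
    rw [map_add, map_sub, d_iCycles, d_d_apply, hx₀, sub_zero, add_zero]

end Groth.Agent.Lib.Helper17.TowLim
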