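import Groth.Agent.Lib.Helper17Hyp2
import Mathlib.CategoryTheory.Abelian.Refinements

/-!
# A local criterion for a morphism of complexes to induce an isomorphism on a cohomology object
(helper17)
-/

set_option autoImplicit false

universe w v v' u u'

open CategoryTheory CategoryTheory.Limits HomologicalComplex

namespace Groth.Agent.Lib.Helper17.TowLim

open Groth.Agent.Lib.Helper17.Hyp

variable {A : Type u} [Category.{v} A] [Abelian A] {C : Type u'} [Category.{v'} C]
  {J : GrothendieckTopology C} {fr : C ⥤ A}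

/-- local lifting along exact sequences. -/
lemma exists_lift_of_exact (h : LocFr J fr) {S : ShortComplex A} (hS : S.Exact) (U : C)
    (x₂ : fr.obj U ⟶ S.X₂) (hx₂ : x₂ ≫ S.g = 0) :
    ∃ T ∈ J U, ∀ ⦃V : C⦄ (f : V ⟶ U), T f →
      ∃ x₁ : fr.obj V ⟶ S.X₁, x₁ ≫ S.f = fr.map f ≫ x₂ := by
  obtain ⟨A', π, hπ, x₁, hx₁⟩ := hS.exact_up_to_refinements x₂ hx₂
  obtain ⟨T, hT, hT'⟩ := h.lift π U (𝟙 _)
  refine ⟨T, hT, fun V f hf => ?_⟩
  obtain ⟨s', hs'⟩ := hT' f hf
  exact ⟨s' ≫ x₁, by rw [Category.assoc, ← hx₁, ← Category.assoc, hs', Category.comp_id]⟩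

/-- vanishing can be tested on a covering class. -/
lemma eq_zero_of_class (h : LocFr J fr) (B : Set C)
    (hB : ∀ U : C, ∃ R : Presieve U, Sieve.generate R ∈ J U ∧ ∀ ⦃V : C⦄ (g : V ⟶ U), R g → V ∈ B)
    {G : A} (U : C) (s : fr.obj U ⟶ G)
    (hs : ∀ V ∈ B, ∀ f : V ⟶ U, fr.map f ≫ s = 0) : s = 0 := by
  obtain ⟨R, hR, hRB⟩ := hB U
  refine h.sep U s _ hR ?_
  rintro V a ⟨W, g, f, hf, rfl⟩
  rw [fr.map_comp, Category.assoc, hs W (hRB f hf) f, comp_zero]

theorem isIso_homologyMap_of_local (h : LocFr J fr) (B : Set C)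
    (hB : ∀ U : C, ∃ R : Presieve U, Sieve.generate R ∈ J U ∧ ∀ ⦃V : C⦄ (g : V ⟶ U), R g → V ∈ B)
    {K K' : CochainComplex A ℤ} (φ : K ⟶ K') (i j k : ℤ) (hij : i + 1 = j) (hjk : j + 1 = k)
    (hinj : ∀ U ∈ B, ∀ z : fr.obj U ⟶ K.X j, z ≫ K.d j k = 0 →
      (∃ y : fr.obj U ⟶ K'.X i, z ≫ φ.f j = y ≫ K'.d i j) →
      ∃ x : fr.obj U ⟶ K.X i, x ≫ K.d i j = z)
    (hsurj : ∀ U ∈ B, ∀ z' : fr.obj U ⟶ K'.X j, z' ≫ K'.d j k = 0 →
      ∃ (z : fr.obj U ⟶ K.X j) (y : fr.obj U ⟶ K'.X i),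
        z ≫ K.d j k = 0 ∧ z ≫ φ.f j - z' = y ≫ K'.d i j) :
    IsIso (homologyMap φ j) := by
  have hnext : (ComplexShape.up ℤ).next j = k := by simp [← hjk]
  have hprev : (ComplexShape.up ℤ).prev j = i := by simp [← hij]
  have hS' : (ShortComplex.mk (K'.toCycles i j) (K'.homologyπ j)
      (K'.toCycles_comp_homologyπ i j)).Exact :=
    ShortComplex.exact_of_g_is_cokernel _ (K'.homologyIsCokernel i j hprev)
  -- injectivity on sections
  have hM : ∀ (U : C) (σ : fr.obj U ⟶ K.homology j), σ ≫ homologyMap φ j = 0 → σ = 0 := by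
    intro U σ hσ
    obtain ⟨T, hT, hT'⟩ := h.lift (K.homologyπ j) U σ
    refine h.sep U σ T hT (fun V f hf => ?_)
    obtain ⟨c, hc⟩ := hT' f hf
    have h1 : (c ≫ cyclesMap φ j) ≫ K'.homologyπ j = 0 := by
      rw [Category.assoc, ← homologyπ_naturality, ← Category.assoc, hc, Category.assoc, hσ,
        comp_zero]
    obtain ⟨T', hT'c, hT''⟩ := exists_lift_of_exact h hS' V (c ≫ cyclesMap φ j) h1
    refine h.sep V _ T' hT'c (fun W f' hf' => ?_)
    obtain ⟨y, hy⟩ := hT'' f' hf'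
    refine eq_zero_of_class h B hB W _ (fun W' hW' f'' => ?_)
    obtain ⟨x, hx⟩ := hinj W' hW' (fr.map f'' ≫ fr.map f' ≫ c ≫ K.iCycles j)
      (by simp only [Category.assoc, iCycles_d, comp_zero])
      ⟨fr.map f'' ≫ y, by
        have := congrArg (fun t => fr.map f'' ≫ t ≫ K'.iCycles j) hy
        simp only [Category.assoc, toCycles_i, cyclesMap_i] at this
        simp only [Category.assoc]
        exact this.symm⟩
    have h2 : fr.map f'' ≫ fr.map f' ≫ c = x ≫ K.toCycles i j := by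
      rw [← cancel_mono (K.iCycles j)]
      simp only [Category.assoc, toCycles_i]
      exact hx.symm
    rw [← hc, ← Category.assoc, ← Category.assoc, Category.assoc (fr.map f''), h2,
      Category.assoc, toCycles_comp_homologyπ, comp_zero]
  haveI : Mono (homologyMap φ j) := by
    refine Preadditive.mono_of_cancel_zero _ (fun {P} g hg => ?_)
    refine h.gen g (fun U s => ?_)
    exact hM U (s ≫ g) (by rw [Category.assoc, hg, comp_zero])
  haveI : Epi (homologyMap φ j) := by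
    refine Preadditive.epi_of_cancel_zero _ (fun {P} g hg => ?_)
    refine h.gen g (fun U σ => ?_)
    obtain ⟨T, hT, hT'⟩ := h.lift (K'.homologyπ j) U σ
    refine h.sep U _ T hT (fun V f hf => ?_)
    obtain ⟨c', hc'⟩ := hT' f hf
    rw [← Category.assoc, ← hc']
    refine eq_zero_of_class h B hB V _ (fun W hW f' => ?_)
    obtain ⟨z, y, hz, hzy⟩ := hsurj W hW (fr.map f' ≫ c' ≫ K'.iCycles j)
      (by simp only [Category.assoc, iCycles_d, comp_zero])
    have h2 : K.liftCycles z k hnext hz ≫ cyclesMap φ j =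
        fr.map f' ≫ c' + y ≫ K'.toCycles i j := by
      rw [← cancel_mono (K'.iCycles j)]
      simp only [Category.assoc, Preadditive.add_comp, toCycles_i, cyclesMap_i,
        liftCycles_i_assoc]
      rw [← hzy]
      abel
    have h3 : fr.map f' ≫ c' = K.liftCycles z k hnext hz ≫ cyclesMap φ j -
        y ≫ K'.toCycles i j := by
      rw [h2]; abel
    rw [← Category.assoc, ← Category.assoc, h3, Preadditive.sub_comp, Preadditive.sub_comp,
      Category.assoc, Category.assoc, Category.assoc, Category.assoc,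
      toCycles_comp_homologyπ_assoc, zero_comp, comp_zero, sub_zero, ← homologyπ_naturality_assoc,
      hg, comp_zero, comp_zero]
  exact isIso_of_mono_of_epi _

end Groth.Agent.Lib.Helper17.TowLim
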