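import Groth.Agent.Lib.Helper17TowLim1
import Groth.Agent.Lib.Helper17TowLim2
import Groth.Agent.Lib.Helper17Hyp5

/-!
# Cohomology sheaves of a termwise limit of complexes of abelian sheaves (helper17)
-/

set_option autoImplicit false

universe u

open CategoryTheory CategoryTheory.Limits HomologicalComplex Opposite

namespace Groth.Agent.Lib.Helper17.TowLim

open Groth.Agent.Lib.Helper17.Hyp

variable {C : Type u} [SmallCategory C] (J : GrothendieckTopology C) (U : C)

/-- maps from the free sheaf on `U` to a term of a complex are sections over `U`. -/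
noncomputable def secX (K : CochainComplex (Sheaf J AddCommGrpCat.{u}) ℤ) (j : ℤ) :
    ((frSh J).obj U ⟶ K.X j) ≃+ ((CohCx.sectCx J U).obj K).X j :=
  CohFree.homEquivSect J U (K.X j)

lemma secX_d (K : CochainComplex (Sheaf J AddCommGrpCat.{u}) ℤ) (i j : ℤ)
    (a : (frSh J).obj U ⟶ K.X i) :
    secX J U K j (a ≫ K.d i j) = ((CohCx.sectCx J U).obj K).d i j (secX J U K i a) := rfl

lemma secX_map {K K' : CochainComplex (Sheaf J AddCommGrpCat.{u}) ℤ} (ψ : K ⟶ K') (j : ℤ)
    (a : (frSh J).obj U ⟶ K.X j) :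
    secX J U K' j (a ≫ ψ.f j) = ((CohCx.sectCx J U).map ψ).f j (secX J U K j a) := rfl

lemma map_transition {T T' : Type*} [Category T] [Category T'] (G : T ⥤ T') (K : ℕ → T)
    (t : ∀ n, K (n + 1) ⟶ K n) (n₀ k : ℕ) :
    G.map (CohCx.transition K t n₀ k) =
      CohCx.transition (fun n => G.obj (K n)) (fun n => G.map (t n)) n₀ k := by
  induction k with
  | zero => exact G.map_id _
  | succ k ih =>
    change G.map (t (n₀ + k) ≫ CohCx.transition K t n₀ k) = G.map (t (n₀ + k)) ≫ _
    rw [G.map_comp, ih]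

section Lim

variable (F : ℕ → CochainComplex (Sheaf J AddCommGrpCat.{u}) ℤ) (t : ∀ n, F (n + 1) ⟶ F n)

/-- the projections of the limit. -/
noncomputable abbrev pr (n : ℕ) : limit (CohCx.opSequence F t) ⟶ F n :=
  limit.π (CohCx.opSequence F t) (op n)

lemma pr_succ (n : ℕ) : pr J F t (n + 1) ≫ t n = pr J F t n := by
  have := limit.w (CohCx.opSequence F t) (homOfLE (n.le_add_right 1)).op
  rwa [Functor.ofOpSequence_map_homOfLE_succ] at this

lemma pr_succ_f (n : ℕ) (j : ℤ) : (pr J F t (n + 1)).f j ≫ (t n).f j = (pr J F t n).f j := by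
  rw [← HomologicalComplex.comp_f, pr_succ]

/-- the limit is computed termwise. -/
noncomputable def isLimitEval (j : ℤ) :
    IsLimit ((HomologicalComplex.eval _ (ComplexShape.up ℤ) j).mapCone
      (limit.cone (CohCx.opSequence F t))) :=
  isLimitOfPreserves _ (limit.isLimit _)

lemma exists_lift_compat (P : Sheaf J AddCommGrpCat.{u}) (j : ℤ) (f : ∀ n, P ⟶ (F n).X j)
    (hf : ∀ n, f (n + 1) ≫ (t n).f j = f n) :
    ∃ g : P ⟶ (limit (CohCx.opSequence F t)).X j, ∀ n, g ≫ (pr J F t n).f j = f n := by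
  let c : Cone (CohCx.opSequence F t ⋙ HomologicalComplex.eval _ (ComplexShape.up ℤ) j) :=
    { pt := P
      π := NatTrans.ofOpSequence (F := (Functor.const _).obj P)
        (G := CohCx.opSequence F t ⋙ HomologicalComplex.eval _ (ComplexShape.up ℤ) j)
        (fun n => f n) (fun n => by
          dsimp only [Functor.const_obj_obj, Functor.const_obj_map, Functor.comp_map]
          rw [Functor.ofOpSequence_map_homOfLE_succ, Category.id_comp]
          exact (hf n).symm) }
  exact ⟨(isLimitEval J F t j).lift c, fun n => (isLimitEval J F t j).fac c (op n)⟩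

lemma hom_ext_lim {P : Sheaf J AddCommGrpCat.{u}} (j : ℤ)
    {g g' : P ⟶ (limit (CohCx.opSequence F t)).X j}
    (h : ∀ n, g ≫ (pr J F t n).f j = g' ≫ (pr J F t n).f j) : g = g' :=
  (isLimitEval J F t j).hom_ext (fun ⟨n⟩ => h n)

end Lim

end Groth.Agent.Lib.Helper17.TowLim
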