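import Groth.Agent.Lib.Helper17TowLim3

/-!
# Cohomology sheaves of a termwise limit of complexes of abelian sheaves: main theorem (helper17)
-/

set_option autoImplicit false

universe u

open CategoryTheory CategoryTheory.Limits HomologicalComplex Opposite

namespace Groth.Agent.Lib.Helper17.TowLim

open Groth.Agent.Lib.Helper17.Hyp

variable {C : Type u} [SmallCategory C] (J : GrothendieckTopology C)

theorem isIso_homologyMap_limit_π
    (F : ℕ → CochainComplex (Sheaf J AddCommGrpCat.{u}) ℤ) (t : ∀ n, F (n + 1) ⟶ F n) (m : ℤ)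
    (B : Set C)
    (hB : ∀ U : C, ∃ R : Presieve U, Sieve.generate R ∈ J U ∧ ∀ ⦃V : C⦄ (g : V ⟶ U), R g → V ∈ B)
    (n₀ : ℕ)
    (ha : ∀ U ∈ B, ∀ j : ℤ, (j = m - 2 ∨ j = m - 1) →
      CohCx.LimOneIsZero (fun n => ((F n).X j).obj.obj (op U))
        (fun n => (((t n).f j).hom.app (op U)).hom))
    (hb : ∀ U ∈ B, CohCx.LimOneIsZero
      (fun n => ((CohCx.sectCx J U).obj (F n)).homology (m - 1))
      (fun n => (HomologicalComplex.homologyMap ((CohCx.sectCx J U).map (t n)) (m - 1)).hom))
    (hc : ∀ U ∈ B, ∀ k : ℕ, IsIso (HomologicalComplex.homologyMap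
      ((CohCx.sectCx J U).map (CohCx.transition F t n₀ k)) m)) :
    IsIso (HomologicalComplex.homologyMap (limit.π (CohCx.opSequence F t) (op n₀)) m) := by
  refine isIso_homologyMap_of_local (locFr_frSh J) B hB (pr J F t n₀) (m - 1) m (m + 1)
    (by omega) rfl ?_ ?_
  · -- injectivity
    intro U hU z hz ⟨y, hzy⟩
    have hc' : ∀ k, IsIso (homologyMap (CohCx.transition
        (fun n => (CohCx.sectCx J U).obj (F n)) (fun n => (CohCx.sectCx J U).map (t n)) n₀ k) m) := by
      intro k
      rw [← map_transition]
      exact hc U hU k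
    obtain ⟨xs, hxs, hxd⟩ := exists_compat_primitive
      (fun n => (CohCx.sectCx J U).obj (F n)) (fun n => (CohCx.sectCx J U).map (t n))
      (m - 2) (m - 1) m (m + 1) (by omega) (by omega) rfl n₀
      (ha U hU (m - 2) (Or.inl rfl)) (hb U hU) hc'
      (fun n => secX J U (F n) m (z ≫ (pr J F t n).f m))
      (fun n => by
        change ((CohCx.sectCx J U).map (t n)).f m
          (secX J U (F (n + 1)) m (z ≫ (pr J F t (n + 1)).f m)) = _
        rw [← secX_map, Category.assoc, pr_succ_f])
      (fun n => by
        change ((CohCx.sectCx J U).obj (F n)).d m (m + 1)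
          (secX J U (F n) m (z ≫ (pr J F t n).f m)) = 0
        rw [← secX_d, Category.assoc, (pr J F t n).comm m (m + 1), reassoc_of% hz, zero_comp,
          map_zero])
      ⟨secX J U (F n₀) (m - 1) y, by
        change secX J U (F n₀) m (z ≫ (pr J F t n₀).f m) = _
        rw [hzy, secX_d]⟩
    obtain ⟨x, hx⟩ := exists_lift_compat J F t _ (m - 1)
      (fun n => (secX J U (F n) (m - 1)).symm (xs n)) (fun n => by
        apply (secX J U (F n) (m - 1)).injective
        rw [secX_map, AddEquiv.apply_symm_apply, AddEquiv.apply_symm_apply]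
        exact hxs n)
    refine ⟨x, ?_⟩
    apply hom_ext_lim J F t m
    intro n
    rw [Category.assoc, ← (pr J F t n).comm (m - 1) m, reassoc_of% (hx n)]
    apply (secX J U (F n) m).injective
    rw [secX_d, AddEquiv.apply_symm_apply]
    exact hxd n
  · -- surjectivity
    intro U hU z' hz'
    have hc' : ∀ k, IsIso (homologyMap (CohCx.transition
        (fun n => (CohCx.sectCx J U).obj (F n)) (fun n => (CohCx.sectCx J U).map (t n)) n₀ k) m) := by
      intro k
      rw [← map_transition]
      exact hc U hU k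
    obtain ⟨zs, hzs, hzd, y₀, hy₀⟩ := exists_compat_cocycle
      (fun n => (CohCx.sectCx J U).obj (F n)) (fun n => (CohCx.sectCx J U).map (t n))
      (m - 1) m (m + 1) (by omega) rfl n₀
      (ha U hU (m - 1) (Or.inr rfl)) hc' (secX J U (F n₀) m z') (by
        rw [← secX_d, hz', map_zero])
    obtain ⟨z, hz⟩ := exists_lift_compat J F t _ m
      (fun n => (secX J U (F n) m).symm (zs n)) (fun n => by
        apply (secX J U (F n) m).injective
        rw [secX_map, AddEquiv.apply_symm_apply, AddEquiv.apply_symm_apply]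
        exact hzs n)
    refine ⟨z, (secX J U (F n₀) (m - 1)).symm y₀, ?_, ?_⟩
    · apply hom_ext_lim J F t (m + 1)
      intro n
      rw [Category.assoc, ← (pr J F t n).comm m (m + 1), reassoc_of% (hz n), zero_comp]
      apply (secX J U (F n) (m + 1)).injective
      rw [secX_d, AddEquiv.apply_symm_apply, map_zero]
      exact hzd n
    · apply (secX J U (F n₀) m).injective
      rw [hz n₀, map_sub, AddEquiv.apply_symm_apply, secX_d, AddEquiv.apply_symm_apply]
      exact hy₀

end Groth.Agent.Lib.Helper17.TowLim
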