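import Groth.Agent.Lib.Helper17TowerSh
import Groth.Agent.S0870
import Groth.Agent.Lib.Helper17BCVan
import Groth.Agent.Lib.Helper17DBrown1
import Groth.Agent.Lib.Helper23AffOpen2

/-!
# The limit of a quasi-coherent formal system is acyclic on affine opens (helper17)

* `preservesLimitsOfShape_toSheaf`: `X.Modules ⥤ Ab(X)` preserves `ℕᵒᵖ`-limits;
* `subsingleton_HE_limit`: `H^{p+1}(U, lim G_n) = 0` for `U` affine and `(G_n)` a tower of quasi-coherent
  modules whose transition maps are epimorphisms.
-/

set_option autoImplicit false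
universe u
open CategoryTheory Limits AlgebraicGeometry TopologicalSpace Opposite

namespace Groth.Agent.Lib.Helper17.TowerAcyc

open Groth.Agent.Lib.Helper23.AffVanish Groth.Agent.Lib.Helper23.FinType

variable {X : Scheme.{u}}

noncomputable instance preservesLimitsOfShape_toSheaf (K : Type) [SmallCategory K] :
    PreservesLimitsOfShape K (SheafOfModules.toSheaf.{u} X.ringCatSheaf) := by
  haveI : PreservesLimitsOfShape K
      (SheafOfModules.toSheaf.{u} X.ringCatSheaf ⋙ sheafToPresheaf _ _) :=
    comp_preservesLimitsOfShape (SheafOfModules.forget.{u} X.ringCatSheaf)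
      (PresheafOfModules.toPresheaf X.ringCatSheaf.obj)
  exact preservesLimitsOfShape_of_reflects_of_preserves _ (sheafToPresheaf _ _)

/-- transfer of vanishing of `Ext` along an isomorphism in the second variable. -/
theorem subsingleton_ext_of_iso {C : Type*} [Category C] [Abelian C] [HasExt.{u} C] {Z A B : C}
    (e : A ≅ B) (n : ℕ) (h : Subsingleton (Abelian.Ext.{u} Z B n)) :
    Subsingleton (Abelian.Ext.{u} Z A n) := by
  refine ⟨fun x y => ?_⟩
  have h1 : x.comp (Abelian.Ext.mk₀ e.hom) (add_zero n) = y.comp (Abelian.Ext.mk₀ e.hom) (add_zero n) :=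
    Subsingleton.elim _ _
  have h2 := congrArg (fun z => z.comp (Abelian.Ext.mk₀ e.inv) (add_zero n)) h1
  simpa [Abelian.Ext.comp_assoc_of_third_deg_zero, Abelian.Ext.mk₀_comp_mk₀] using h2

variable (G : ℕᵒᵖ ⥤ X.Modules) (hq : ∀ n : ℕ, (G.obj (op n)).IsQuasicoherent)
  (hepi : ∀ n : ℕ, Epi (G.map (homOfLE (Nat.le_succ n)).op))

/-- the underlying abelian sheaves. -/
noncomputable abbrev Fab (n : ℕ) : CohTop.Ab X.carrier := ab' (G.obj (op n))

/-- the transition maps. -/
noncomputable abbrev tab (n : ℕ) : Fab G (n + 1) ⟶ Fab G n :=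
  (SheafOfModules.toSheaf X.ringCatSheaf).map (G.map (homOfLE (Nat.le_succ n)).op)

/-- `G ⋙ toSheaf` is the sequence of the `Fab`. -/
noncomputable def seqIso :
    G ⋙ SheafOfModules.toSheaf X.ringCatSheaf ≅ CohCx.opSequence (Fab G) (tab G) := by
  refine NatIso.ofComponents (fun n => Iso.refl _) ?_
  have key : ∀ n : ℕ, (G ⋙ SheafOfModules.toSheaf X.ringCatSheaf).map (homOfLE (n.le_add_right 1)).op =
      (CohCx.opSequence (Fab G) (tab G)).map (homOfLE (n.le_add_right 1)).op := fun n =>
    (Functor.ofOpSequence_map_homOfLE_succ (tab G) n).symm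
  let α : G ⋙ SheafOfModules.toSheaf X.ringCatSheaf ⟶ CohCx.opSequence (Fab G) (tab G) :=
    NatTrans.ofOpSequence (fun n => 𝟙 _) (fun n => by
      exact (Category.comp_id _).trans ((key n).trans (Category.id_comp _).symm))
  intro a b f
  have := α.naturality f
  simpa [α] using this

/-- the limit of the underlying abelian sheaves is the underlying sheaf of the limit. -/
noncomputable def limIso :
    ab' (limit G) ≅ limit (CohCx.opSequence (Fab G) (tab G)) :=
  preservesLimitIso (SheafOfModules.toSheaf X.ringCatSheaf) G ≪≫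
    HasLimit.isoOfNatIso (seqIso G)

include hq hepi in
theorem subsingleton_HE_limit {U : X.Opens} (hU : IsAffineOpen U) (p : ℕ) :
    Subsingleton (HE (ab' (limit G)) (p + 1) U) := by
  letI : HasDerivedCategory.{u} (CohTop.Ab X.carrier) :=
    Groth.Agent.Lib.Helper17.DBrown.hasDerivedCategorySmall _
  haveI : HasProducts.{u} (DerivedCategory (CohTop.Ab X.carrier)) :=
    Groth.Agent.Lib.Helper17.KInj.hasProducts_derivedCategory
  haveI : HasLimitsOfShape (Discrete (ULift.{u} ℕ)) (DerivedCategory (CohTop.Ab X.carrier)) :=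
    inferInstance
  haveI : HasLimitsOfShape (Discrete ℕ) (DerivedCategory (CohTop.Ab X.carrier)) :=
    hasLimitsOfShape_of_equivalence (Discrete.equivalence Equiv.ulift.{u, 0})
  obtain ⟨-, r2⟩ := Groth.Agent.S0870.result (Fab G) (tab G) {W : X.Opens | IsAffineOpen W}
    X.isBasis_affineOpens
    (fun W hW q n => by
      haveI := hq n
      exact subsingleton_HE_of_isAffineOpen hW (G.obj (op n)) q)
    (fun W hW => by
      refine Groth.Agent.Lib.Helper17.Hyp.limOneIsZero_of_surjective 0 _ _ (fun n _ => ?_)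
      haveI := hq n
      haveI := hq (n + 1)
      haveI := hepi n
      exact surjective_app_of_epi (G.map (homOfLE (Nat.le_succ n)).op) hW)
  exact subsingleton_ext_of_iso (limIso G) (p + 1) (r2 U hU p)

include hq hepi in
theorem subsingleton_HHon_limit {U : X.Opens} (hU : IsAffineOpen U) (p : ℕ) :
    Subsingleton (Coh.HHon X (limit G) U (p + 1)) := by
  obtain ⟨e⟩ := Groth.Agent.Lib.Helper17.BCVan.nonempty_HE_equiv_HHon (limit G) U (p + 1)
  haveI := subsingleton_HE_limit G hq hepi hU p
  exact e.symm.toEquiv.subsingleton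

end Groth.Agent.Lib.Helper17.TowerAcyc
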