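import Mathlib

/-!
# Limits of towers `M_n = M_{n+1} / I^{n+1} M_{n+1}` of modules (Stacks 09B8) (helper17)

Abstract form: `M` with maps `p n : M → N n` behaving like `lim N n`; then `p n` is surjective and
(for `I` finitely generated) its kernel is `I^{n+1} M`.
-/

set_option autoImplicit false
universe u
open Submodule

namespace Groth.Agent.Lib.Helper17.TowerAlg

variable {R : Type u} [CommRing R] (I : Ideal R)
  {M : Type u} [AddCommGroup M] [Module R M]
  {N : ℕ → Type u} [∀ n, AddCommGroup (N n)] [∀ n, Module R (N n)]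
  (p : ∀ n, M →ₗ[R] N n) (T : ∀ m m' : ℕ, m ≤ m' → (N m' →ₗ[R] N m))

/-- `M` behaves like the limit of the tower `(N n, T)`, whose transition maps are surjective with kernel
`I^{n+1} N_{n+1}` and with `N n` killed by `I^{n+1}`. -/
structure Hyp : Prop where
  T_refl : ∀ m (y : N m), T m m le_rfl y = y
  T_trans : ∀ m m' m'' (h : m ≤ m') (h' : m' ≤ m'') (y : N m''),
    T m m' h (T m' m'' h' y) = T m m'' (h.trans h') y
  comp : ∀ m m' (h : m ≤ m') (x : M), T m m' h (p m' x) = p m x
  inj : ∀ x : M, (∀ n, p n x = 0) → x = 0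
  glue : ∀ y : ∀ n, N n, (∀ m m' (h : m ≤ m'), T m m' h (y m') = y m) → ∃ x : M, ∀ n, p n x = y n
  surj : ∀ n, Function.Surjective (T n (n + 1) (Nat.le_succ n))
  ker : ∀ n, LinearMap.ker (T n (n + 1) (Nat.le_succ n)) ≤ (I ^ (n + 1) • ⊤ : Submodule R (N (n + 1)))
  kill : ∀ n, ∀ a ∈ I ^ (n + 1), ∀ y : N n, a • y = 0

variable {I p T}

namespace Hyp

variable (h : Hyp I p T)
include h

/-- auxiliary lifting sequence. -/
noncomputable def lift (n : ℕ) (y : N n) : (k : ℕ) → N (n + k)
  | 0 => y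
  | k + 1 => (h.surj (n + k) (lift n y k)).choose

theorem lift_succ (n : ℕ) (y : N n) (k : ℕ) :
    T (n + k) (n + k + 1) (Nat.le_succ _) (h.lift n y (k + 1)) = h.lift n y k :=
  (h.surj (n + k) (h.lift n y k)).choose_spec

theorem lift_le (n : ℕ) (y : N n) (k k' : ℕ) (hk : k ≤ k') :
    T (n + k) (n + k') (Nat.add_le_add_left hk n) (h.lift n y k') = h.lift n y k := by
  induction k', hk using Nat.le_induction with
  | base => exact h.T_refl _ _
  | succ k' hk ih =>
    rw [← h.T_trans (n + k) (n + k') (n + (k' + 1)) (Nat.add_le_add_left hk n) (Nat.le_succ _)]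
    rw [show T (n + k') (n + (k' + 1)) (Nat.le_succ _) (h.lift n y (k' + 1)) = h.lift n y k' from
      h.lift_succ n y k']
    exact ih

theorem surjective_p (n : ℕ) : Function.Surjective (p n) := by
  intro y
  obtain ⟨x, hx⟩ := h.glue (fun m => T m (n + m) (Nat.le_add_left m n) (h.lift n y m)) (by
    intro m m' hm
    rw [h.T_trans, ← h.T_trans m (n + m) (n + m') (Nat.le_add_left m n) (Nat.add_le_add_left hm n),
      h.lift_le n y m m' hm])
  refine ⟨x, ?_⟩
  rw [hx n]
  have := h.lift_le n y 0 n (Nat.zero_le n)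
  rw [← h.T_trans n (n + 0) (n + n) (le_refl n) (Nat.add_le_add_left (Nat.zero_le n) n), this]
  exact h.T_refl n y

theorem p_eq_zero_of_le {m m' : ℕ} (hm : m ≤ m') {x : M} (hx : p m' x = 0) : p m x = 0 := by
  rw [← h.comp m m' hm, hx, map_zero]

theorem p_eq_zero_of_mem {m j : ℕ} (hj : m + 1 ≤ j) {x : M}
    (hx : x ∈ (I ^ j • ⊤ : Submodule R M)) : p m x = 0 := by
  refine Submodule.smul_induction_on hx ?_ ?_
  · intro a ha y _
    rw [map_smul]
    exact h.kill m a (Ideal.pow_le_pow_right hj ha) _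
  · intro x y hx hy
    rw [map_add, hx, hy, add_zero]

theorem le_ker (m : ℕ) : (I ^ (m + 1) • ⊤ : Submodule R M) ≤ LinearMap.ker (p m) :=
  fun _ hx => h.p_eq_zero_of_mem (le_refl _) hx

theorem step (m : ℕ) (k : M) (hk : p m k = 0) :
    ∃ y ∈ (I ^ (m + 1) • ⊤ : Submodule R M), p (m + 1) (k - y) = 0 := by
  have h1 : p (m + 1) k ∈ (I ^ (m + 1) • ⊤ : Submodule R (N (m + 1))) := by
    apply h.ker m
    rw [LinearMap.mem_ker, h.comp, hk]
  have h2 : (I ^ (m + 1) • ⊤ : Submodule R (N (m + 1))) =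
      (I ^ (m + 1) • ⊤ : Submodule R M).map (p (m + 1)) := by
    rw [Submodule.map_smul'', Submodule.map_top,
      LinearMap.range_eq_top.mpr (h.surjective_p (m + 1))]
  rw [h2] at h1
  obtain ⟨y, hy, hyk⟩ := h1
  exact ⟨y, hy, by rw [map_sub, hyk, sub_self]⟩

/-- the correction sequence. -/
noncomputable def cseq (n : ℕ) (x : M) (hx : p n x = 0) : (j : ℕ) → {k : M // p (n + j) k = 0}
  | 0 => ⟨x, hx⟩
  | j + 1 => ⟨(cseq n x hx j).1 - (h.step (n + j) (cseq n x hx j).1 (cseq n x hx j).2).choose,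
      (h.step (n + j) (cseq n x hx j).1 (cseq n x hx j).2).choose_spec.2⟩

theorem cseq_zero (n : ℕ) (x : M) (hx : p n x = 0) : (h.cseq n x hx 0).1 = x := rfl

theorem cseq_succ (n : ℕ) (x : M) (hx : p n x = 0) (j : ℕ) :
    (h.cseq n x hx j).1 - (h.cseq n x hx (j + 1)).1 ∈ (I ^ (n + j + 1) • ⊤ : Submodule R M) := by
  change (h.cseq n x hx j).1 - ((h.cseq n x hx j).1 -
    (h.step (n + j) (h.cseq n x hx j).1 (h.cseq n x hx j).2).choose) ∈ _
  rw [sub_sub_cancel]
  exact (h.step (n + j) (h.cseq n x hx j).1 (h.cseq n x hx j).2).choose_spec.1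

/-- existence of an element of `M` attached to an element of the adic completion. -/
theorem exists_of_completion (w : AdicCompletion I M) :
    ∃ x : M, ∀ m, p m x =
      (I ^ (m + 1) • ⊤ : Submodule R M).liftQ (p m) (h.le_ker m) (AdicCompletion.eval I M (m + 1) w) := by
  induction w using AdicCompletion.induction_on with
  | h f =>
    obtain ⟨x, hx⟩ := h.glue (fun m => p m (f (m + 1))) (by
      intro m m' hm
      rw [h.comp]
      have h1 : f (m + 1) ≡ f (m' + 1) [SMOD (I ^ (m + 1) • ⊤ : Submodule R M)] :=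
        f.property (Nat.succ_le_succ hm)
      rw [SModEq.sub_mem] at h1
      have h2 := h.p_eq_zero_of_mem (le_refl _) h1
      rw [map_sub, sub_eq_zero] at h2
      exact h2.symm)
    refine ⟨x, fun m => ?_⟩
    rw [hx m, AdicCompletion.eval_apply, AdicCompletion.mk_apply_coe, Submodule.mkQ_apply,
      Submodule.liftQ_apply]

theorem ker_p_le (hI : I.FG) (n : ℕ) :
    LinearMap.ker (p n) ≤ (I ^ (n + 1) • ⊤ : Submodule R M) := by
  intro x hx
  rw [LinearMap.mem_ker] at hx
  set c := h.cseq n x hx with hc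
  let s : ℕ → M := fun j => x - (c j).1
  have hs0 : s 0 = 0 := sub_self x
  have hsd : ∀ j, s (j + 1) - s j ∈ (I ^ (n + j + 1) • ⊤ : Submodule R M) := by
    intro j
    have : s (j + 1) - s j = (c j).1 - (c (j + 1)).1 := by
      simp only [s]; abel
    rw [this]
    exact h.cseq_succ n x hx j
  have hsmem : ∀ j, s j ∈ (I ^ (n + 1) • ⊤ : Submodule R M) := by
    intro j
    induction j with
    | zero => rw [hs0]; exact Submodule.zero_mem _
    | succ j ih =>
      have : s (j + 1) = s j + (s (j + 1) - s j) := by abel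
      rw [this]
      refine Submodule.add_mem _ ih ?_
      exact Submodule.smul_mono_left (Ideal.pow_le_pow_right (by omega)) (hsd j)
  have hcau : ∀ j, s j ≡ s (j + 1) [SMOD (I ^ j • ⊤ : Submodule R M)] := by
    intro j
    rw [SModEq.sub_mem]
    have : s j - s (j + 1) = -(s (j + 1) - s j) := by abel
    rw [this]
    refine Submodule.neg_mem _ ?_
    exact Submodule.smul_mono_left (Ideal.pow_le_pow_right (by omega)) (hsd j)
  let xh : AdicCompletion I M := AdicCompletion.mk I M (AdicCompletion.AdicCauchySequence.mk I M s hcau)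
  have hxh : xh ∈ (I ^ (n + 1) • ⊤ : Submodule R (AdicCompletion I M)) := by
    rw [AdicCompletion.pow_smul_top_eq_ker_eval hI, LinearMap.mem_ker, AdicCompletion.eval_apply,
      AdicCompletion.mk_apply_coe, Submodule.mkQ_apply, Submodule.Quotient.mk_eq_zero]
    exact hsmem (n + 1)
  have key : ∀ w ∈ (I ^ (n + 1) • ⊤ : Submodule R (AdicCompletion I M)),
      ∃ x' ∈ (I ^ (n + 1) • ⊤ : Submodule R M), ∀ m, p m x' =
        (I ^ (m + 1) • ⊤ : Submodule R M).liftQ (p m) (h.le_ker m)
          (AdicCompletion.eval I M (m + 1) w) := by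
    intro w hw
    refine Submodule.smul_induction_on hw ?_ ?_
    · intro a ha w _
      obtain ⟨xw, hxw⟩ := h.exists_of_completion w
      refine ⟨a • xw, Submodule.smul_mem_smul ha Submodule.mem_top, fun m => ?_⟩
      rw [map_smul, hxw m, map_smul, map_smul]
    · intro w₁ w₂ ⟨x₁, hx₁, e₁⟩ ⟨x₂, hx₂, e₂⟩
      refine ⟨x₁ + x₂, Submodule.add_mem _ hx₁ hx₂, fun m => ?_⟩
      rw [map_add, e₁ m, e₂ m, map_add, map_add]
  obtain ⟨x', hx', e⟩ := key xh hxh
  have hxx : x = x' := by
    rw [← sub_eq_zero]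
    apply h.inj
    intro m
    rw [map_sub, e m, AdicCompletion.eval_apply, AdicCompletion.mk_apply_coe, Submodule.mkQ_apply,
      Submodule.liftQ_apply]
    change p m x - p m (x - (c (m + 1)).1) = 0
    rw [map_sub, sub_sub_cancel]
    exact h.p_eq_zero_of_le (by omega) (c (m + 1)).2
  rw [hxx]
  exact hx'

end Hyp

end Groth.Agent.Lib.Helper17.TowerAlg
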