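import Groth.Agent.Lib.Helper17TowerAlg
import Groth.Agent.Lib.Helper17FlatDev1
import Groth.Agent.Lib.Helper23Serre
import Groth.Prelude.Def_Formal2

/-!
# Limits of towers of quasi-coherent modules `G_n = G_{n+1} / I^{n+1} G_{n+1}` on a scheme (helper17)

* `evEquiv`, `lim_inj`, `lim_glue`: sections of `limit G` over an open are the compatible families;
* `hyp`: over an affine open, the sections satisfy the hypotheses of `TowerAlg.Hyp`;
* `epi_π`, `exact_smulFamily_π`, `isIso_desc`: `(lim G) / I^{n+1} (lim G) ≅ G_n` for `I` f.g. (Stacks 09B8 for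
  sheaves).
-/

set_option autoImplicit false
universe u
open CategoryTheory Limits AlgebraicGeometry TopologicalSpace Opposite

namespace Groth.Agent.Lib.Helper17.TowerSh

open Groth.Agent.Lib.Helper17.IAdic Groth.Agent.Lib.Helper17.GrSysCoh
  Groth.Agent.Lib.Helper17.FlatDev Groth.Agent.Lib.Helper23.FinType

variable {X : Scheme.{u}}

section Lim

/-- sections over `U`, as a functor to abelian groups. -/
noncomputable def secF (U : X.Opens) : X.Modules ⥤ Ab.{u} :=
  Scheme.Modules.toPresheaf X ⋙ (evaluation _ _).obj (op U)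

noncomputable instance (U : X.Opens) : PreservesLimitsOfSize.{0, 0} (secF (X := X) U) := by
  haveI : PreservesLimitsOfSize.{0, 0} (Scheme.Modules.toPresheaf X) :=
    preservesLimitsOfSize_shrink.{0, u, 0, u} _
  haveI : PreservesLimitsOfSize.{0, 0} ((evaluation (Opens ↥X)ᵒᵖ Ab.{u}).obj (op U)) :=
    preservesLimitsOfSize_shrink.{0, u, 0, u} _
  unfold secF; infer_instance

variable (G : ℕᵒᵖ ⥤ X.Modules) (U : X.Opens)

/-- sections of the limit are the compatible families. -/
noncomputable def evEquiv :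
    Γ(limit G, U) ≃ (G ⋙ secF U ⋙ forget Ab.{u}).sections :=
  Types.isLimitEquivSections
    (isLimitOfPreserves (secF U ⋙ forget Ab.{u}) (limit.isLimit G))

theorem evEquiv_apply (x : Γ(limit G, U)) (j : ℕᵒᵖ) :
    (evEquiv G U x).1 j = (limit.π G j).app U x := rfl

theorem evEquiv_symm_apply (s : (G ⋙ secF U ⋙ forget Ab.{u}).sections) (j : ℕᵒᵖ) :
    (limit.π G j).app U ((evEquiv G U).symm s) = s.1 j := by
  have := evEquiv_apply G U ((evEquiv G U).symm s) j
  rw [Equiv.apply_symm_apply] at this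
  exact this.symm

theorem lim_inj (x : Γ(limit G, U)) (h : ∀ m : ℕ, (limit.π G (op m)).app U x = 0) : x = 0 := by
  apply (evEquiv G U).injective
  apply Subtype.ext
  funext j
  rw [evEquiv_apply, evEquiv_apply, map_zero]
  exact h j.unop

theorem lim_glue (y : ∀ m : ℕ, Γ(G.obj (op m), U))
    (hy : ∀ (m m' : ℕ) (h : m ≤ m'), (G.map (homOfLE h).op).app U (y m') = y m) :
    ∃ x : Γ(limit G, U), ∀ m : ℕ, (limit.π G (op m)).app U x = y m := by
  let s : (G ⋙ secF U ⋙ forget Ab.{u}).sections := ⟨fun j => y j.unop, by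
    intro j j' f
    have hf : f = (homOfLE (leOfHom f.unop)).op := Subsingleton.elim _ _
    rw [hf]
    exact hy j'.unop j.unop (leOfHom f.unop)⟩
  exact ⟨(evEquiv G U).symm s, fun m => evEquiv_symm_apply G U s (op m)⟩

end Lim

variable {A : Type u} [CommRing A] [X.Over (Spec (CommRingCat.of A))]

section Smul

theorem smul_eq_zero_of_killedBy (J : Ideal A) (M : X.Modules) (hM : Formal.KilledBy J M) (U : X.Opens)
    (a : Γ(X, U)) (ha : a ∈ J.map (ρ (A := A) U)) (y : Γ(M, U)) : a • y = 0 := by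
  revert y
  refine Submodule.span_induction (p := fun a _ => ∀ y : Γ(M, U), a • y = 0) ?_ ?_ ?_ ?_ ha
  · rintro _ ⟨b, hb, rfl⟩ y
    rw [← smulMod_app, hM b hb]
    rfl
  · intro y; exact zero_smul _ _
  · intro a b _ _ ha hb y
    rw [add_smul, ha, hb, add_zero]
  · intro r a _ ha y
    rw [smul_eq_mul, mul_smul, ha, smul_zero]

/-- sections in `J Γ(M, U)` come from sections of `∐_J M`. -/
theorem exists_sigma_section (J : Ideal A) (M : X.Modules) (U : X.Opens) (x : Γ(M, U))
    (hx : x ∈ ((J.map (ρ (A := A) U)) • ⊤ : Submodule Γ(X, U) Γ(M, U))) :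
    ∃ s : Γ(∐ fun _ : J => M, U), (Formal.smulFamily J M).app U s = x := by
  refine Submodule.smul_induction_on hx ?_ ?_
  · intro a ha
    refine Submodule.span_induction (p := fun a _ => ∀ z ∈ (⊤ : Submodule Γ(X, U) Γ(M, U)),
      ∃ s : Γ(∐ fun _ : J => M, U), (Formal.smulFamily J M).app U s = a • z) ?_ ?_ ?_ ?_ ha
    · rintro _ ⟨b, hb, rfl⟩ z _
      refine ⟨(Sigma.ι (fun _ : J => M) ⟨b, hb⟩).app U z, ?_⟩
      rw [← comp_app_apply, ι_smulFamily, smulMod_app]
    · intro z _
      exact ⟨0, by rw [map_zero, zero_smul]⟩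
    · intro a b _ _ ha hb z hz
      obtain ⟨s, hs⟩ := ha z hz
      obtain ⟨t, ht⟩ := hb z hz
      exact ⟨s + t, by rw [map_add, hs, ht, add_smul]⟩
    · intro r a _ ha z _
      obtain ⟨s, hs⟩ := ha (r • z) Submodule.mem_top
      exact ⟨s, by rw [hs, smul_eq_mul, mul_comm, mul_smul]⟩
  · rintro x y ⟨s, hs⟩ ⟨t, ht⟩
    exact ⟨s + t, by rw [map_add, hs, ht]⟩

end Smul

section Main

variable (I : Ideal A) (G : ℕᵒᵖ ⥤ X.Modules) (hG : Formal2.IsQCohFormal I G)

include hG in
theorem map_succ_eq (n : ℕ) :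
    ∃ d : Q (I ^ (n + 1)) (G.obj (op (n + 1))) ⟶ G.obj (op n), IsIso d ∧
      πQ (I ^ (n + 1)) (G.obj (op (n + 1))) ≫ d = G.map (homOfLE (Nat.le_succ n)).op := by
  obtain ⟨h, hiso⟩ := hG.2.2 n
  exact ⟨cokernel.desc _ _ h, hiso, cokernel.π_desc _ _ _⟩

variable {U : X.Opens} (hU : IsAffineOpen U)

include hG hU in
theorem hyp (hI : I.FG) :
    TowerAlg.Hyp (I.map (ρ (A := A) U)) (fun n => appL (limit.π G (op n)) U)
      (fun m m' h => appL (G.map (homOfLE h).op) U) := by
  haveI hq : ∀ n, (G.obj (op n)).IsQuasicoherent := fun n => hG.1 n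
  refine ⟨?_, ?_, ?_, ?_, ?_, ?_, ?_, ?_⟩
  · intro m y
    have : (homOfLE (le_refl m)).op = 𝟙 (op m) := Subsingleton.elim _ _
    rw [appL_apply, this, G.map_id]
    rfl
  · intro m m' m'' h h' y
    have : (homOfLE (h.trans h')).op = (homOfLE h').op ≫ (homOfLE h).op := Subsingleton.elim _ _
    rw [appL_apply, appL_apply, appL_apply, this, G.map_comp, comp_app_apply]
  · intro m m' h x
    rw [appL_apply, appL_apply, appL_apply, ← comp_app_apply, limit.w]
  · intro x hx
    exact lim_inj G U x hx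
  · intro y hy
    exact lim_glue G U y hy
  · intro n
    obtain ⟨d, hd, e⟩ := map_succ_eq I G hG n
    haveI : Epi (G.map (homOfLE (Nat.le_succ n)).op) := by
      rw [← e]; infer_instance
    exact surjective_app_of_epi (G.map (homOfLE (Nat.le_succ n)).op) hU
  · intro n s hs
    rw [LinearMap.mem_ker, appL_apply] at hs
    obtain ⟨d, hd, e⟩ := map_succ_eq I G hG n
    rw [← e, comp_app_apply] at hs
    have hinj : Function.Injective (d.app U) :=
      (ConcreteCategory.bijective_of_isIso (d.app U)).1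
    have hs' : (πQ (I ^ (n + 1)) (G.obj (op (n + 1)))).app U s = 0 := by
      apply hinj
      rw [hs, map_zero]
    obtain ⟨r, c, hc⟩ := Submodule.fg_iff_exists_fin_generating_family.1 (Ideal.FG.pow (n := n + 1) hI)
    obtain ⟨y, hy⟩ := ker_πQ_app c (I ^ (n + 1)) hc.symm (G.obj (op (n + 1))) hU s hs'
    rw [hy]
    refine Submodule.sum_mem _ (fun i _ => ?_)
    refine Submodule.smul_mem_smul ?_ Submodule.mem_top
    rw [← Ideal.map_pow]
    exact Ideal.mem_map_of_mem _ (hc ▸ Ideal.subset_span ⟨i, rfl⟩)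
  · intro n a ha y
    rw [← Ideal.map_pow] at ha
    exact smul_eq_zero_of_killedBy (I ^ (n + 1)) (G.obj (op n)) (hG.2.1 n) U a ha y

include hG in
theorem smulFamily_π (n : ℕ) :
    Formal.smulFamily (I ^ (n + 1)) (limit G) ≫ limit.π G (op n) = 0 := by
  apply Sigma.hom_ext
  intro b
  rw [comp_zero, ← Category.assoc, ι_smulFamily, ← comp_smulMod, hG.2.1 n b b.2, comp_zero]

include hG in
theorem epi_π (hI : I.FG) (n : ℕ) : Epi (limit.π G (op n)) := by
  refine Groth.Agent.Lib.Helper23.Serre.epi_of_locally_surjective _ ?_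
  intro V t x hx
  obtain ⟨W, hW, hxW, hWV⟩ := Opens.isBasis_iff_nbhd.mp X.isBasis_affineOpens hx
  refine ⟨W, hWV, hxW, ?_⟩
  exact (hyp I G hG hW hI).surjective_p n _

include hG in
theorem exact_smulFamily_π (hI : I.FG) (n : ℕ) :
    (ShortComplex.mk _ _ (smulFamily_π I G hG n)).Exact := by
  rw [ShortComplex.exact_iff_epi_kernel_lift]
  refine Groth.Agent.Lib.Helper23.Serre.epi_of_locally_surjective _ ?_
  intro V t x hx
  obtain ⟨W, hW, hxW, hWV⟩ := Opens.isBasis_iff_nbhd.mp X.isBasis_affineOpens hx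
  refine ⟨W, hWV, hxW, ?_⟩
  set t' := (kernel (limit.π G (op n))).presheaf.map (homOfLE hWV).op t with ht'
  have h1 : (limit.π G (op n)).app W ((kernel.ι (limit.π G (op n))).app W t') = 0 := by
    rw [← comp_app_apply, kernel.condition]
    rfl
  have h2 := (hyp I G hG hW hI).ker_p_le (Ideal.FG.map hI _) n (LinearMap.mem_ker.2 h1)
  rw [← Ideal.map_pow] at h2
  obtain ⟨s, hs⟩ := exists_sigma_section (I ^ (n + 1)) (limit G) W _ h2
  refine ⟨s, ?_⟩
  have hmono : Function.Injective ((kernel.ι (limit.π G (op n))).app W) := by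
    intro a b hab
    obtain ⟨c, hc⟩ := exists_app_kernel_ι (kernel.ι (limit.π G (op n))) W (a - b) (by
      rw [map_sub, hab, sub_self])
    have : kernel.ι (kernel.ι (limit.π G (op n))) = 0 := by
      rw [← cancel_mono (kernel.ι (limit.π G (op n))), kernel.condition, zero_comp]
    rw [this] at hc
    have h0 : a - b = 0 := hc.symm.trans rfl
    exact sub_eq_zero.1 h0
  apply hmono
  rw [← comp_app_apply]
  dsimp only
  rw [kernel.lift_ι]
  exact hs

include hG in
theorem isIso_desc (hI : I.FG) (n : ℕ) :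
    IsIso (cokernel.desc _ _ (smulFamily_π I G hG n)) := by
  haveI : Mono (cokernel.desc _ _ (smulFamily_π I G hG n)) :=
    (ShortComplex.exact_iff_mono_cokernel_desc _).1 (exact_smulFamily_π I G hG hI n)
  haveI : Epi (limit.π G (op n)) := epi_π I G hG hI n
  haveI : Epi (cokernel.desc _ _ (smulFamily_π I G hG n)) :=
    epi_of_epi_fac (cokernel.π_desc _ _ (smulFamily_π I G hG n))
  exact isIso_of_mono_of_epi _

end Main

end Groth.Agent.Lib.Helper17.TowerSh
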