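-- helper17: the base change of a diagonal is 2-cartesian (plain categories).
import Groth.Agent.Lib.Helper17CatPb
import Groth.Prelude.Def_FibCat2

set_option autoImplicit false
open CategoryTheory CategoryTheory.Limits
universe v u
namespace Groth.Agent.Lib.Helper17.TwoCartDiag
variable {X Y V : Type u} [Category.{v} X] [Category.{v} Y] [Category.{v} V] (p : X ⥤ Y) (q : V ⥤ Y)

abbrev UU := CategoricalPullback p q
abbrev ΔU : UU p q ⥤ CategoricalPullback (CategoricalPullback.π₂ p q) (CategoricalPullback.π₂ p q) :=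
  (CategoricalPullback.CatCommSqOver.toFunctorToCategoricalPullback (CategoricalPullback.π₂ p q) (CategoricalPullback.π₂ p q) (CategoricalPullback p q)).obj ⟨𝟭 _, 𝟭 _, Iso.refl _⟩
abbrev ΔX : X ⥤ CategoricalPullback p p :=
  (CategoricalPullback.CatCommSqOver.toFunctorToCategoricalPullback p p X).obj ⟨𝟭 _, 𝟭 _, Iso.refl _⟩
abbrev ψψ : CatCospanTransform (CategoricalPullback.π₂ p q) (CategoricalPullback.π₂ p q) p p :=
  ⟨CategoricalPullback.π₁ p q, q, CategoricalPullback.π₁ p q, ⟨(CatCommSq.iso (CategoricalPullback.π₁ p q) (CategoricalPullback.π₂ p q) p q).symm⟩, ⟨(CatCommSq.iso (CategoricalPullback.π₁ p q) (CategoricalPullback.π₂ p q) p q).symm⟩⟩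
noncomputable abbrev GG := FibCat.categoricalPullbackMap (ψψ p q)

theorem GG_iso_hom (t : CategoricalPullback (CategoricalPullback.π₂ p q) (CategoricalPullback.π₂ p q)) :
    ((GG p q).obj t).iso.hom = t.fst.iso.hom ≫ q.map t.iso.hom ≫ t.snd.iso.inv := by
  rw [Groth.Agent.Lib.Helper17.cpm_obj_iso_hom]
  simp
  rfl

end Groth.Agent.Lib.Helper17.TwoCartDiag

namespace Groth.Agent.Lib.Helper17.TwoCartDiag
variable {X Y V : Type u} [Category.{v} X] [Category.{v} Y] [Category.{v} V] (p : X ⥤ Y) (q : V ⥤ Y)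

noncomputable def eIso : CategoricalPullback.π₁ p q ⋙ ΔX p ≅ ΔU p q ⋙ GG p q :=
  NatIso.ofComponents (fun u => CategoricalPullback.mkIso (Iso.refl _) (Iso.refl _) (by
      change p.map (𝟙 u.fst) ≫ ((GG p q).obj ((ΔU p q).obj u)).iso.hom = 𝟙 _ ≫ p.map (𝟙 u.fst)
      rw [GG_iso_hom]
      change p.map (𝟙 u.fst) ≫ u.iso.hom ≫ q.map (𝟙 u.snd) ≫ u.iso.inv = 𝟙 _ ≫ p.map (𝟙 u.fst)
      simp)) (by
      intro u u' f
      apply CategoricalPullback.hom_ext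
      · change f.fst ≫ 𝟙 _ = 𝟙 _ ≫ f.fst
        simp
      · change f.fst ≫ 𝟙 _ = 𝟙 _ ≫ f.fst
        simp)

theorem eIso_fst (u : UU p q) : ((eIso p q).hom.app u).fst = 𝟙 _ := rfl
theorem eIso_snd (u : UU p q) : ((eIso p q).hom.app u).snd = 𝟙 _ := rfl

noncomputable abbrev Φ : UU p q ⥤ CategoricalPullback (ΔX p) (GG p q) :=
  (CategoricalPullback.CatCommSqOver.toFunctorToCategoricalPullback (ΔX p) (GG p q) (UU p q)).obj
    ⟨CategoricalPullback.π₁ p q, ΔU p q, eIso p q⟩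

end Groth.Agent.Lib.Helper17.TwoCartDiag

namespace Groth.Agent.Lib.Helper17.TwoCartDiag
variable {X Y V : Type u} [Category.{v} X] [Category.{v} Y] [Category.{v} V] (p : X ⥤ Y) (q : V ⥤ Y)

theorem Φ_faithful : (Φ p q).Faithful :=
  ⟨fun {_ _} _ _ h => congrArg (fun k => k.snd.fst) h⟩

theorem Φ_full : (Φ p q).Full := by
  refine ⟨fun {u u'} k => ?_⟩
  obtain ⟨f₁, hf₁⟩ : ∃ f₁ : u ⟶ u', f₁ = k.snd.fst := ⟨_, rfl⟩
  obtain ⟨f₂, hf₂⟩ : ∃ f₂ : u ⟶ u', f₂ = k.snd.snd := ⟨_, rfl⟩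
  obtain ⟨k₁, hk₁⟩ : ∃ k₁ : u.fst ⟶ u'.fst, k₁ = k.fst := ⟨_, rfl⟩
  have e1 : f₁.snd = f₂.snd := by
    have := k.snd.w
    have h : f₁.snd ≫ 𝟙 _ = 𝟙 _ ≫ f₂.snd := by rw [hf₁, hf₂]; exact this
    simpa using h
  have e2 : k₁ = f₁.fst := by
    have := congrArg (fun m => m.fst) k.w
    have h : k₁ ≫ 𝟙 _ = 𝟙 _ ≫ f₁.fst := by rw [hf₁, hk₁]; exact this
    simpa using h
  have e3 : k₁ = f₂.fst := by
    have := congrArg (fun m => m.snd) k.w
    have h : k₁ ≫ 𝟙 _ = 𝟙 _ ≫ f₂.fst := by rw [hf₂, hk₁]; exact this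
    simpa using h
  have e4 : f₁ = f₂ := CategoricalPullback.hom_ext (e2.symm.trans e3) e1
  refine ⟨f₁, ?_⟩
  apply CategoricalPullback.hom_ext
  · exact e2.symm.trans hk₁
  · apply CategoricalPullback.hom_ext
    · exact hf₁
    · exact e4.trans hf₂

end Groth.Agent.Lib.Helper17.TwoCartDiag

namespace Groth.Agent.Lib.Helper17.TwoCartDiag
variable {X Y V : Type u} [Category.{v} X] [Category.{v} Y] [Category.{v} V] (p : X ⥤ Y) (q : V ⥤ Y)

theorem Φ_essSurj : (Φ p q).EssSurj := by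
  refine ⟨fun t => ?_⟩
  obtain ⟨x, s, θ⟩ := t
  obtain ⟨u₁, u₂, i₀⟩ := s
  obtain ⟨i, hi⟩ : ∃ i : u₁.snd ≅ u₂.snd, i = i₀ := ⟨_, rfl⟩
  subst hi
  let θ₁ : x ≅ u₁.fst := (CategoricalPullback.π₁ p p).mapIso θ
  let θ₂ : x ≅ u₂.fst := (CategoricalPullback.π₂ p p).mapIso θ
  have hθ : p.map θ₁.hom ≫ u₁.iso.hom ≫ q.map i.hom ≫ u₂.iso.inv = p.map θ₂.hom := by
    have := θ.hom.w
    rw [GG_iso_hom] at this
    have h : p.map θ₁.hom ≫ u₁.iso.hom ≫ q.map i.hom ≫ u₂.iso.inv = 𝟙 _ ≫ p.map θ₂.hom := this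
    simpa using h
  have wc : p.map (θ₁.symm ≪≫ θ₂).hom ≫ u₂.iso.hom = u₁.iso.hom ≫ q.map i.hom := by
    rw [Iso.trans_hom, Iso.symm_hom, p.map_comp, ← hθ]
    simp [← p.map_comp_assoc]
  let c : u₁ ≅ u₂ := CategoricalPullback.mkIso (θ₁.symm ≪≫ θ₂) i wc
  let s : CategoricalPullback (CategoricalPullback.π₂ p q) (CategoricalPullback.π₂ p q) :=
    ⟨u₁, u₂, i⟩
  have wb : (CategoricalPullback.π₂ p q).map (Iso.refl u₁).hom ≫ s.iso.hom =
      ((ΔU p q).obj u₁).iso.hom ≫ (CategoricalPullback.π₂ p q).map c.hom := by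
    change 𝟙 _ ≫ i.hom = 𝟙 _ ≫ i.hom
    rfl
  let b : (ΔU p q).obj u₁ ≅ s := CategoricalPullback.mkIso (Iso.refl u₁) c wb
  let t : CategoricalPullback (ΔX p) (GG p q) := ⟨x, s, θ⟩
  have w : (ΔX p).map θ₁.symm.hom ≫ t.iso.hom = ((Φ p q).obj u₁).iso.hom ≫ (GG p q).map b.hom := by
    apply CategoricalPullback.hom_ext
    · change θ₁.inv ≫ θ₁.hom = 𝟙 _ ≫ 𝟙 _
      simp
    · change θ₁.inv ≫ θ₂.hom = 𝟙 _ ≫ (θ₁.symm ≪≫ θ₂).hom
      simp
  exact ⟨u₁, ⟨CategoricalPullback.mkIso (x := (Φ p q).obj u₁) (y := t) θ₁.symm b w⟩⟩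

theorem Φ_isEquivalence : (Φ p q).IsEquivalence := by
  have := Φ_faithful p q
  have := Φ_full p q
  have := Φ_essSurj p q
  exact { }

end Groth.Agent.Lib.Helper17.TwoCartDiag
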