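-- helper17: pasting of 2-cartesian squares of plain categories.
import Groth.Agent.Lib.Helper17CatPb
import Groth.Prelude.Def_FibCat2

set_option autoImplicit false
open CategoryTheory CategoryTheory.Limits
universe v u
namespace Groth.Agent.Lib.Helper17.TwoCartPaste

variable {A B A' B' A'' B'' : Type u} [Category.{v} A] [Category.{v} B] [Category.{v} A']
  [Category.{v} B'] [Category.{v} A''] [Category.{v} B'']
  (t : A ⥤ B) (l : A ⥤ A') (r : B ⥤ B') (t' : A' ⥤ B') (l' : A' ⥤ A'') (r' : B' ⥤ B'')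
  (t'' : A'' ⥤ B'') (e₁ : t ⋙ r ≅ l ⋙ t') (e₂ : t' ⋙ r' ≅ l' ⋙ t'')

/-- The comparison functor of a square. -/
abbrev cmp {X P Q R : Type u} [Category.{v} X] [Category.{v} P] [Category.{v} Q] [Category.{v} R]
    (T : X ⥤ P) (L : X ⥤ Q) (F : P ⥤ R) (G : Q ⥤ R) (e : T ⋙ F ≅ L ⋙ G) :
    X ⥤ CategoricalPullback F G :=
  (CategoricalPullback.CatCommSqOver.toFunctorToCategoricalPullback F G X).obj ⟨T, L, e⟩

theorem aux_w {D : Type*} [Category D] {X₁ X₂ X₃ Y₁ Y₂ Y₃ : D}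
    (a : X₁ ⟶ Y₁) (b : X₂ ⟶ Y₂) (c : X₃ ⟶ Y₃) (p : X₁ ⟶ X₂) (p' : Y₁ ⟶ Y₂) (q : X₂ ⟶ X₃)
    (q' : Y₂ ⟶ Y₃) (h1 : a ≫ p' = p ≫ b) (h2 : b ≫ q' = q ≫ c) :
    a ≫ (p' ≫ q') = (p ≫ q) ≫ c := by
  rw [← Category.assoc, h1, Category.assoc, h2, Category.assoc]

/-- The functor `B ×_{B'} A' ⥤ B ×_{B''} A''` induced by the lower square. -/
def Θ : CategoricalPullback r t' ⥤ CategoricalPullback (r ⋙ r') t'' where
  obj x := ⟨x.fst, l'.obj x.snd, r'.mapIso x.iso ≪≫ e₂.app x.snd⟩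
  map {x x'} f := ⟨f.fst, l'.map f.snd, by
    have h1 : r'.map (r.map f.fst) ≫ r'.map x'.iso.hom = r'.map x.iso.hom ≫ r'.map (t'.map f.snd) := by
      rw [← r'.map_comp, ← r'.map_comp, f.w]
    have h2 : r'.map (t'.map f.snd) ≫ e₂.hom.app x'.snd = e₂.hom.app x.snd ≫ t''.map (l'.map f.snd) :=
      e₂.hom.naturality f.snd
    exact aux_w _ _ _ _ _ _ _ h1 h2⟩
  map_id x := by
    apply CategoricalPullback.hom_ext
    · rfl
    · exact l'.map_id _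
  map_comp f g := by
    apply CategoricalPullback.hom_ext
    · rfl
    · exact l'.map_comp _ _

theorem Θ_obj_iso_hom (x : CategoricalPullback r t') :
    ((Θ r t' l' r' t'' e₂).obj x).iso.hom = r'.map x.iso.hom ≫ e₂.hom.app x.snd := rfl

theorem cmp_obj_fst {X P Q R : Type u} [Category.{v} X] [Category.{v} P] [Category.{v} Q]
    [Category.{v} R] (T : X ⥤ P) (L : X ⥤ Q) (F : P ⥤ R) (G : Q ⥤ R) (e : T ⋙ F ≅ L ⋙ G) (x : X) :
    ((cmp T L F G e).obj x).fst = T.obj x := rfl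

theorem cmp_obj_snd {X P Q R : Type u} [Category.{v} X] [Category.{v} P] [Category.{v} Q]
    [Category.{v} R] (T : X ⥤ P) (L : X ⥤ Q) (F : P ⥤ R) (G : Q ⥤ R) (e : T ⋙ F ≅ L ⋙ G) (x : X) :
    ((cmp T L F G e).obj x).snd = L.obj x := rfl

theorem cmp_obj_iso_hom {X P Q R : Type u} [Category.{v} X] [Category.{v} P] [Category.{v} Q]
    [Category.{v} R] (T : X ⥤ P) (L : X ⥤ Q) (F : P ⥤ R) (G : Q ⥤ R) (e : T ⋙ F ≅ L ⋙ G) (x : X) :
    ((cmp T L F G e).obj x).iso.hom = e.hom.app x := rfl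

theorem cmp_map_fst {X P Q R : Type u} [Category.{v} X] [Category.{v} P] [Category.{v} Q]
    [Category.{v} R] (T : X ⥤ P) (L : X ⥤ Q) (F : P ⥤ R) (G : Q ⥤ R) (e : T ⋙ F ≅ L ⋙ G)
    {x y : X} (f : x ⟶ y) : ((cmp T L F G e).map f).fst = T.map f := rfl

theorem cmp_map_snd {X P Q R : Type u} [Category.{v} X] [Category.{v} P] [Category.{v} Q]
    [Category.{v} R] (T : X ⥤ P) (L : X ⥤ Q) (F : P ⥤ R) (G : Q ⥤ R) (e : T ⋙ F ≅ L ⋙ G)
    {x y : X} (f : x ⟶ y) : ((cmp T L F G e).map f).snd = L.map f := rfl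

theorem Θ_faithful [(cmp t' l' r' t'' e₂).Faithful] : (Θ r t' l' r' t'' e₂).Faithful := by
  refine ⟨fun {x x'} f f' h => ?_⟩
  have h1 : f.fst = f'.fst := congrArg (fun k => k.fst) h
  have h2 : l'.map f.snd = l'.map f'.snd := congrArg (fun k => k.snd) h
  have h3 : t'.map f.snd = t'.map f'.snd := by
    have e1 := f.w
    have e2 := f'.w
    have e3 : x.iso.hom ≫ t'.map f.snd = x.iso.hom ≫ t'.map f'.snd := by
      rw [← e1, ← e2, h1]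
    exact (cancel_epi x.iso.hom).1 e3
  apply CategoricalPullback.hom_ext
  · exact h1
  · apply (cmp t' l' r' t'' e₂).map_injective
    apply CategoricalPullback.hom_ext
    · exact h3
    · exact h2

theorem aux_full1 {D : Type*} [Category D] {X₁ X₂ X₃ Y₁ Y₂ Y₃ : D}
    (a : X₁ ⟶ Y₁) (c : X₃ ⟶ Y₃) (φ : X₁ ≅ X₂) (φ' : Y₁ ≅ Y₂) (q : X₂ ⟶ X₃) (q' : Y₂ ⟶ Y₃)
    (h : a ≫ (φ'.hom ≫ q') = (φ.hom ≫ q) ≫ c) :
    (φ.inv ≫ a ≫ φ'.hom) ≫ q' = q ≫ c := by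
  rw [← cancel_epi φ.hom]
  simp only [Category.assoc, Iso.hom_inv_id_assoc]
  simpa using h

theorem aux_full2 {D : Type*} [Category D] {X Y Z W : D} (φ : X ≅ Y) (a : X ⟶ Z) (φ' : Z ⟶ W) :
    a ≫ φ' = φ.hom ≫ (φ.inv ≫ a ≫ φ') := by simp

theorem Θ_full [(cmp t' l' r' t'' e₂).Full] : (Θ r t' l' r' t'' e₂).Full := by
  refine ⟨fun {x x'} n => ?_⟩
  obtain ⟨β, hβ⟩ : ∃ β : x.fst ⟶ x'.fst, β = n.fst := ⟨_, rfl⟩
  obtain ⟨γ, hγ⟩ : ∃ γ : l'.obj x.snd ⟶ l'.obj x'.snd, γ = n.snd := ⟨_, rfl⟩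
  have hn : r'.map (r.map β) ≫ (r'.map x'.iso.hom ≫ e₂.hom.app x'.snd) =
      (r'.map x.iso.hom ≫ e₂.hom.app x.snd) ≫ t''.map γ := by
    rw [hβ, hγ]; exact n.w
  let δ : t'.obj x.snd ⟶ t'.obj x'.snd := x.iso.inv ≫ r.map β ≫ x'.iso.hom
  have hδ : r'.map δ ≫ e₂.hom.app x'.snd = e₂.hom.app x.snd ≫ t''.map γ := by
    have := aux_full1 (r'.map (r.map β)) (t''.map γ) (r'.mapIso x.iso) (r'.mapIso x'.iso)
      (e₂.hom.app x.snd) (e₂.hom.app x'.snd) hn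
    have e : r'.map δ = r'.map x.iso.inv ≫ r'.map (r.map β) ≫ r'.map x'.iso.hom := by
      change r'.map (x.iso.inv ≫ r.map β ≫ x'.iso.hom) = _
      rw [r'.map_comp, r'.map_comp]
    rw [e]
    exact this
  let m : (cmp t' l' r' t'' e₂).obj x.snd ⟶ (cmp t' l' r' t'' e₂).obj x'.snd := ⟨δ, γ, hδ⟩
  obtain ⟨α, hα⟩ := (cmp t' l' r' t'' e₂).map_surjective m
  have hα1 : t'.map α = δ := congrArg (fun k => k.fst) hα
  have hα2 : l'.map α = γ := congrArg (fun k => k.snd) hα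
  have hw : r.map β ≫ x'.iso.hom = x.iso.hom ≫ t'.map α := by
    rw [hα1]
    exact aux_full2 x.iso (r.map β) x'.iso.hom
  refine ⟨⟨β, α, hw⟩, ?_⟩
  apply CategoricalPullback.hom_ext
  · exact hβ
  · exact hα2.trans hγ

theorem Θ_essSurj [(cmp t' l' r' t'' e₂).EssSurj] : (Θ r t' l' r' t'' e₂).EssSurj := by
  refine ⟨fun y => ?_⟩
  let y' : CategoricalPullback r' t'' := ⟨r.obj y.fst, y.snd, y.iso⟩
  obtain ⟨a', ⟨κ⟩⟩ : ∃ a', Nonempty ((cmp t' l' r' t'' e₂).obj a' ≅ y') :=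
    ⟨_, ⟨(cmp t' l' r' t'' e₂).objObjPreimageIso y'⟩⟩
  let μ : t'.obj a' ≅ r.obj y.fst := (CategoricalPullback.π₁ r' t'').mapIso κ
  let ν : l'.obj a' ≅ y.snd := (CategoricalPullback.π₂ r' t'').mapIso κ
  have hκ : r'.map μ.hom ≫ y.iso.hom = e₂.hom.app a' ≫ t''.map ν.hom := κ.hom.w
  let x : CategoricalPullback r t' := ⟨y.fst, a', μ.symm⟩
  have hw : (r ⋙ r').map (Iso.refl y.fst).hom ≫ y.iso.hom =
      ((Θ r t' l' r' t'' e₂).obj x).iso.hom ≫ t''.map ν.hom := by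
    rw [Θ_obj_iso_hom]
    change r'.map (r.map (𝟙 _)) ≫ y.iso.hom = (r'.map μ.inv ≫ e₂.hom.app a') ≫ t''.map ν.hom
    rw [r.map_id, r'.map_id, Category.id_comp, Category.assoc, ← hκ, ← Category.assoc,
      ← r'.map_comp, Iso.inv_hom_id, r'.map_id, Category.id_comp]
  exact ⟨x, ⟨CategoricalPullback.mkIso (x := (Θ r t' l' r' t'' e₂).obj x) (y := y)
    (Iso.refl _) ν hw⟩⟩

theorem Θ_isEquivalence [(cmp t' l' r' t'' e₂).IsEquivalence] :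
    (Θ r t' l' r' t'' e₂).IsEquivalence := by
  have := Θ_faithful r t' l' r' t'' e₂
  have := Θ_full r t' l' r' t'' e₂
  have := Θ_essSurj r t' l' r' t'' e₂
  exact { }

/-- The pasted 2-isomorphism. -/
abbrev e₁₂ : t ⋙ (r ⋙ r') ≅ (l ⋙ l') ⋙ t'' :=
  (Functor.associator t r r').symm ≪≫ Functor.isoWhiskerRight e₁ r' ≪≫ Functor.associator l t' r' ≪≫
    Functor.isoWhiskerLeft l e₂ ≪≫ (Functor.associator l l' t'').symm

/-- The comparison functor of the outer rectangle factors through `Θ`. -/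
def cmpIso : cmp t l r t' e₁ ⋙ Θ r t' l' r' t'' e₂ ≅
    cmp t (l ⋙ l') (r ⋙ r') t'' (e₁₂ t l r t' l' r' t'' e₁ e₂) :=
  NatIso.ofComponents (fun x => CategoricalPullback.mkIso (Iso.refl _) (Iso.refl _) (by
      change (r ⋙ r').map (𝟙 _) ≫ (𝟙 _ ≫ r'.map (e₁.hom.app x) ≫ 𝟙 _ ≫ e₂.hom.app (l.obj x) ≫ 𝟙 _) =
        (r'.map (e₁.hom.app x) ≫ e₂.hom.app (l.obj x)) ≫ t''.map (𝟙 _)
      simp)) (by
      intro x x' f
      apply CategoricalPullback.hom_ext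
      · change t.map f ≫ 𝟙 _ = 𝟙 _ ≫ t.map f
        simp
      · change l'.map (l.map f) ≫ 𝟙 _ = 𝟙 _ ≫ l'.map (l.map f)
        simp)

theorem isTwoCart_paste (h₂ : FibCat.IsTwoCart t' l' r' t'' e₂) :
    FibCat.IsTwoCart t l r t' e₁ ↔
      FibCat.IsTwoCart t (l ⋙ l') (r ⋙ r') t'' (e₁₂ t l r t' l' r' t'' e₁ e₂) := by
  have hc : (cmp t' l' r' t'' e₂).IsEquivalence := h₂
  have hΘ := Θ_isEquivalence r t' l' r' t'' e₂
  constructor
  · intro h₁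
    have : (cmp t l r t' e₁).IsEquivalence := h₁
    exact Functor.isEquivalence_of_iso (cmpIso t l r t' l' r' t'' e₁ e₂)
  · intro h₁₂
    have h : (cmp t (l ⋙ l') (r ⋙ r') t'' (e₁₂ t l r t' l' r' t'' e₁ e₂)).IsEquivalence := h₁₂
    have h' : (cmp t l r t' e₁ ⋙ Θ r t' l' r' t'' e₂).IsEquivalence :=
      Functor.isEquivalence_of_iso (cmpIso t l r t' l' r' t'' e₁ e₂).symm
    exact Functor.isEquivalence_of_comp_right (cmp t l r t' e₁) (Θ r t' l' r' t'' e₂)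

end Groth.Agent.Lib.Helper17.TwoCartPaste
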