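import Groth.Agent.Lib.Helper17UnitSupp1

/-!
# The unit `E ⟶ Rj_* j^* E` for objects supported inside an open, II (helper17)
-/

set_option autoImplicit false
set_option linter.style.haveILetI false
set_option maxHeartbeats 400000

universe u

open CategoryTheory CategoryTheory.Limits Opposite AlgebraicGeometry TopologicalSpace
  Pretriangulated ZeroObject

attribute [local instance] HasDerivedCategory.standard

namespace Groth.Agent.Lib.Helper17.UnitSupp

open Groth.Agent.Lib.Helper17.MV Groth.Agent.Lib.Helper17.KInj Groth.Agent.Lib.Helper17.AffPush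
  Groth.Agent.Lib.Helper17.QCPush Groth.Agent.Lib.Helper17.DQAdj

attribute [local instance] Groth.Agent.Lib.Helper17.QCPush.hasRpush

section Unit

variable {X Xbar : Scheme.{u}} (j : X ⟶ Xbar) [IsOpenImmersion j]

/-- `Rj_*` preserves zero objects. -/
lemma isZero_rpush_obj {F : DCoh.D X} (hF : IsZero F) : IsZero ((DCoh.Rpush j).obj F) := by
  rw [IsZero.iff_id_eq_zero]
  apply ((adjD j).homEquiv _ _).symm.injective
  exact hF.eq_of_tgt _ _

/-- the unit of `adjD j` restricted along `j` is an isomorphism. -/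
lemma isIso_restrictD_map_unit (E : DCoh.D Xbar) :
    IsIso ((DCoh.restrictD j).map ((adjD j).unit.app E)) := by
  have h := (adjD j).left_triangle_components E
  haveI : IsIso ((DCoh.restrictD j).map ((adjD j).unit.app E) ≫
      (adjD j).counit.app ((DCoh.restrictD j).obj E)) := by
    rw [h]; exact IsIso.id _
  exact IsIso.of_isIso_comp_right _ ((adjD j).counit.app ((DCoh.restrictD j).obj E))

/-- `(Rj_* F)|_W = 0` if `F|_{j⁻¹W} = 0`. -/
lemma isZero_restrictD_rpush (W : Xbar.Opens) (F : DCoh.D X)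
    (hF : IsZero ((DCoh.restrictD (j ⁻¹ᵁ W).ι).obj F)) :
    IsZero ((DCoh.restrictD W.ι).obj ((DCoh.Rpush j).obj F)) := by
  obtain ⟨e⟩ := Groth.Agent.Lib.Helper1.RpushRes.nonempty_rpush_restrict_iso j W
  exact IsZero.of_iso (isZero_rpush_obj (j ∣_ W) hF) (e.app F)

/-- `(j^* E)|_{j⁻¹W} = 0` if `E|_W = 0`. -/
lemma isZero_restrictD_restrictD (W : Xbar.Opens) (E : DCoh.D Xbar)
    (hE : IsZero ((DCoh.restrictD W.ι).obj E)) :
    IsZero ((DCoh.restrictD (j ⁻¹ᵁ W).ι).obj ((DCoh.restrictD j).obj E)) := by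
  have e1 := (restrictDComp (j ⁻¹ᵁ W).ι j).symm.app E
  have e2 := (restrictDCongr (morphismRestrict_ι j W).symm).app E
  have e3 := (restrictDComp (j ∣_ W) W.ι).app E
  exact IsZero.of_iso ((DCoh.restrictD (j ∣_ W)).map_isZero hE) (e1 ≪≫ e2 ≪≫ e3)

/-- the unit `E ⟶ Rj_* j^* E` is an isomorphism if `E` vanishes on an open `W` whose complement
lies in the image of `j`. -/
theorem isIso_adjD_unit_app_of_isZero_restrictD (W : Xbar.Opens)
    (hW : (W : Set Xbar)ᶜ ⊆ Set.range j.base) (E : DCoh.D Xbar)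
    (hE : IsZero ((DCoh.restrictD W.ι).obj E)) : IsIso ((adjD j).unit.app E) := by
  refine isIso_of_isIso_restrictD j W.ι (fun x => ?_) _ (isIso_restrictD_map_unit j E) ?_
  · by_cases hx : x ∈ W
    · exact Or.inr ⟨⟨x, hx⟩, rfl⟩
    · obtain ⟨y, hy⟩ := hW hx
      exact Or.inl ⟨y, hy⟩
  · have h2 : IsZero ((DCoh.restrictD W.ι).obj
        ((DCoh.Rpush j).obj ((DCoh.restrictD j).obj E))) :=
      isZero_restrictD_rpush j W _ (isZero_restrictD_restrictD j W E hE)
    exact ⟨⟨0, hE.eq_of_src _ _, h2.eq_of_src _ _⟩⟩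

/-- the same for any adjunction `j^* ⊣ Rj_*`. -/
theorem isIso_unit_app_of_isZero_restrictD (adj : DCoh.restrictD j ⊣ DCoh.Rpush j)
    (W : Xbar.Opens) (hW : (W : Set Xbar)ᶜ ⊆ Set.range j.base) (E : DCoh.D Xbar)
    (hE : IsZero ((DCoh.restrictD W.ι).obj E)) : IsIso (adj.unit.app E) := by
  haveI := isIso_adjD_unit_app_of_isZero_restrictD j W hW E hE
  have h := Adjunction.unit_leftAdjointUniq_hom_app (adjD j) adj E
  rw [← h]
  infer_instance

end Unit

end Groth.Agent.Lib.Helper17.UnitSupp
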