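import Groth.Agent.Lib.Helper17UnitSupp2
import Groth.Prelude.Def_CxOX

/-!
# `RΓ_Z(G)` vanishes on the open complement of `Z`; the unit at `RΓ_Z(G)` (helper17)
-/

set_option autoImplicit false
set_option linter.style.haveILetI false
set_option maxHeartbeats 400000

universe u

open CategoryTheory CategoryTheory.Limits Opposite AlgebraicGeometry TopologicalSpace
  Pretriangulated ZeroObject

attribute [local instance] HasDerivedCategory.standard

namespace Groth.Agent.Lib.Helper17.UnitSupp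

open Groth.Agent.Lib.Helper17.MV Groth.Agent.Lib.Helper17.KInj Groth.Agent.Lib.Helper17.AffPush
  Groth.Agent.Lib.Helper17.QCPush Groth.Agent.Lib.Helper17.DQAdj DerivedCategory

attribute [local instance] Groth.Agent.Lib.Helper17.QCPush.hasRpush

section

variable {X : Scheme.{u}} (W : X.Opens) [CxOX.HasRgammaZ W.ι]

/-- `RΓ_Z(G)|_W = 0` for `Z = X ∖ W`. -/
theorem isZero_restrictD_RgammaZ (G : DCoh.D X) :
    IsZero ((DCoh.restrictD W.ι).obj ((CxOX.RgammaZ W.ι).obj G)) := by
  haveI := isGrothendieckAbelian X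
  obtain ⟨J, hJK, -, ⟨e⟩⟩ := exists_model G
  haveI := hJK
  have e1 : (CxOX.RgammaZ W.ι).obj G ≅ (Q : _ ⥤ DCoh.D X).obj
      (((DCoh.gammaZ W.ι).mapHomologicalComplex (ComplexShape.up ℤ)).obj J) :=
    (CxOX.RgammaZ W.ι).mapIso e ≪≫ isoOfKInj (DCoh.gammaZ W.ι) J
  have e2 := (DCoh.restrictD W.ι).mapIso e1 ≪≫
    (Scheme.Modules.restrictFunctor W.ι).mapDerivedCategoryFactors.app
      (((DCoh.gammaZ W.ι).mapHomologicalComplex (ComplexShape.up ℤ)).obj J)
  have hz : IsZero (((Scheme.Modules.restrictFunctor W.ι).mapHomologicalComplex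
      (ComplexShape.up ℤ)).obj
      (((DCoh.gammaZ W.ι).mapHomologicalComplex (ComplexShape.up ℤ)).obj J)) := by
    rw [IsZero.iff_id_eq_zero]
    ext n : 1
    exact (Groth.Agent.Lib.Helper17.GammaZSupp.isZero_restrict_gammaZ W (J.X n)).eq_of_src _ _
  exact IsZero.of_iso ((Q : _ ⥤ DCoh.D (W : Scheme.{u})).map_isZero hz) e2

end

end Groth.Agent.Lib.Helper17.UnitSupp
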