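import Mathlib
import Groth.Prelude.Def_CohTop
import Groth.Prelude.Def_UnitsSh

/-!
# Abelian sheaves on a space: sections of kernels, and the long exact cohomology sequence (helper17)
-/

set_option autoImplicit false
universe u
open CategoryTheory CategoryTheory.Limits TopologicalSpace Opposite Abelian

namespace Groth.Agent.Lib.Helper17.UnitsK

section ab

variable {Y : TopCat.{u}}

/-- sections over `W`. -/
noncomputable abbrev secF (W : (Opens Y)ᵒᵖ) : CohTop.Ab Y ⥤ AddCommGrpCat.{u} :=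
  sheafToPresheaf (Opens.grothendieckTopology Y) AddCommGrpCat.{u} ⋙ (evaluation _ _).obj W

instance preservesFiniteLimits_secF (W : (Opens Y)ᵒᵖ) : PreservesFiniteLimits (secF (Y := Y) W) := by
  unfold secF
  infer_instance

variable {F G : CohTop.Ab Y} (f : F ⟶ G)

theorem kerι_injective (W : (Opens Y)ᵒᵖ) : Function.Injective ((kernel.ι f).hom.app W) := by
  have : Mono ((secF W).map (kernel.ι f)) := inferInstance
  exact (AddCommGrpCat.mono_iff_injective _).1 this

theorem exists_kerι_eq (W : (Opens Y)ᵒᵖ) (x : F.obj.obj W) (hx : f.hom.app W x = 0) :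
    ∃ y : (kernel f).obj.obj W, (kernel.ι f).hom.app W y = x := by
  have h := (ShortComplex.exact_kernel f).map_of_mono_of_preservesKernel (secF W)
    inferInstance inferInstance
  rw [ShortComplex.ab_exact_iff] at h
  exact h x hx

theorem kerι_apply (W : (Opens Y)ᵒᵖ) (y : (kernel f).obj.obj W) :
    f.hom.app W ((kernel.ι f).hom.app W y) = 0 := by
  have h := congrArg (fun φ => φ.hom.app W y) (kernel.condition f)
  exact h

/-! ### cohomology -/

theorem H_exact₂ (S : ShortComplex (CohTop.Ab Y)) (hS : S.ShortExact) (i : ℕ)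
    (x : Sheaf.H S.X₂ i) (hx : Sheaf.H.map S.g i x = 0) :
    ∃ y : Sheaf.H S.X₁ i, Sheaf.H.map S.f i y = x :=
  Ext.covariant_sequence_exact₂ _ hS x hx

theorem H_surjective_g (S : ShortComplex (CohTop.Ab Y)) (hS : S.ShortExact) (i : ℕ)
    (h : Subsingleton (Sheaf.H S.X₁ (i + 1))) : Function.Surjective (Sheaf.H.map S.g i) := by
  intro x
  exact Ext.covariant_sequence_exact₃ _ hS x rfl (Subsingleton.elim _ _)

theorem subsingleton_H_mid (S : ShortComplex (CohTop.Ab Y)) (hS : S.ShortExact) (i : ℕ)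
    (h1 : Subsingleton (Sheaf.H S.X₁ i)) (h3 : Subsingleton (Sheaf.H S.X₃ i)) :
    Subsingleton (Sheaf.H S.X₂ i) := by
  refine ⟨fun x y => ?_⟩
  suffices H : ∀ z : Sheaf.H S.X₂ i, z = 0 by rw [H x, H y]
  intro z
  obtain ⟨w, hw⟩ := H_exact₂ S hS i z (Subsingleton.elim _ _)
  rw [← hw, Subsingleton.elim w 0, map_zero]

theorem subsingleton_H_of_iso {F G : CohTop.Ab Y} (e : F ≅ G) (i : ℕ)
    (h : Subsingleton (Sheaf.H F i)) : Subsingleton (Sheaf.H G i) := by
  refine ⟨fun x y => ?_⟩
  have hx : ∀ w : Sheaf.H G i, w = Sheaf.H.map e.hom i (Sheaf.H.map e.inv i w) := fun w => by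
    rw [← Sheaf.H.map_comp_apply, e.inv_hom_id, Sheaf.H.map_id_apply]
  rw [hx x, hx y, Subsingleton.elim (Sheaf.H.map e.inv i x) (Sheaf.H.map e.inv i y)]

theorem subsingleton_H_of_isZero {F : CohTop.Ab Y} (hF : IsZero F) (i : ℕ) :
    Subsingleton (Sheaf.H F i) := by
  refine ⟨fun x y => ?_⟩
  suffices H : ∀ z : Sheaf.H F i, z = 0 by rw [H x, H y]
  intro z
  have h1 : z = Sheaf.H.map (𝟙 F) i z := (Sheaf.H.map_id_apply z).symm
  have h2 : (𝟙 F) = 0 := hF.eq_of_src _ _
  rw [h1, h2, Sheaf.H.map_apply, Ext.mk₀_zero, Ext.comp_zero]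

/-- a sheaf all of whose sections vanish is zero. -/
theorem isZero_of_sections {F : CohTop.Ab Y} (h : ∀ (W : (Opens Y)ᵒᵖ) (x : F.obj.obj W), x = 0) :
    IsZero F := by
  rw [IsZero.iff_id_eq_zero]
  apply Sheaf.hom_ext
  ext W x
  exact h W x

/-- kernels of two morphisms with the same kernels on sections are isomorphic. -/
noncomputable def kernelIsoOfIff {F G G' : CohTop.Ab Y} (f : F ⟶ G) (f' : F ⟶ G')
    (h : ∀ (W : (Opens Y)ᵒᵖ) (x : F.obj.obj W), f.hom.app W x = 0 ↔ f'.hom.app W x = 0) :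
    kernel f ≅ kernel f' where
  hom := kernel.lift f' (kernel.ι f) (by
    apply Sheaf.hom_ext
    ext W y
    exact (h W _).1 (kerι_apply f W y))
  inv := kernel.lift f (kernel.ι f') (by
    apply Sheaf.hom_ext
    ext W y
    exact (h W _).2 (kerι_apply f' W y))
  hom_inv_id := by
    rw [← cancel_mono (kernel.ι f), Category.assoc, kernel.lift_ι, kernel.lift_ι, Category.id_comp]
  inv_hom_id := by
    rw [← cancel_mono (kernel.ι f'), Category.assoc, kernel.lift_ι, kernel.lift_ι, Category.id_comp]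

end ab

end Groth.Agent.Lib.Helper17.UnitsK
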