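import Mathlib
import Groth.Agent.Lib.Helper17FlatDev4
import Groth.Agent.Lib.Helper17FlatDev2
import Groth.Agent.Lib.Helper23Serre
import Groth.Agent.Lib.Helper23PB

/-!
# Kernel of the restriction to a base change along a surjection, on sections (helper17)

* `app_eq_zero_iff`: for `Z = X ×_A Spec B` with `φ : A → B` surjective and projection `j : Z ⟶ X`, a section `s` of
  `O_X` over any open `U` restricts to zero on `Z` iff its class in `O_X / (ker φ) O_X` vanishes;
* `μ_app_injective'`, `mono_μ'`, `stepSC_exact'`: the dévissage step with explicit generators (no Noetherian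
  hypothesis).
-/

set_option autoImplicit false
universe u
open CategoryTheory Limits AlgebraicGeometry TopologicalSpace Opposite

namespace Groth.Agent.Lib.Helper17.UnitsK

open Groth.Agent.Lib.Helper17.FlatDev Groth.Agent.Lib.Helper23.GenLocus
  Groth.Agent.Lib.Helper23.Serre Groth.Agent.Lib.Helper23.PB

section KS

variable {A B : Type u} [CommRing A] [CommRing B] (φ : A →+* B)
  {X Z : Scheme.{u}} [X.Over (Spec (CommRingCat.of A))] (j : Z ⟶ X)
  (z : Z ⟶ Spec (CommRingCat.of B))
  (hsq : IsPullback j z (X ↘ Spec (CommRingCat.of A)) (Spec.map (CommRingCat.ofHom φ)))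

theorem unit_comp_pushforward_pullbackUnitHom :
    (Scheme.Modules.pullbackPushforwardAdjunction j).unit.app (Coh.structureModule X) ≫
      (Scheme.Modules.pushforward j).map (pullbackUnitHom j) = unitPush j := by
  have h := SheafOfModules.pullbackPushforwardAdjunction_homEquiv_pullbackObjUnitToUnit.{u}
    j.toRingCatSheafHom
  rw [Adjunction.homEquiv_unit] at h
  exact h

include hsq in
theorem app_eq_zero_iff (hφ : Function.Surjective φ) (U : X.Opens) (s : Γ(X, U)) :
    (j.app U).hom s = 0 ↔
      (πQ (RingHom.ker φ) (Coh.structureModule X)).app U (toS U s) = 0 := by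
  haveI : (Coh.structureModule X).IsQuasicoherent := isQuasicoherent_structureModule' X
  haveI := isIso_quotMap φ j z hsq (Coh.structureModule X) hφ
  have hinj1 := Groth.Agent.Lib.Helper2.ModExact.app_injective_of_mono
    (quotMap φ j z hsq (Coh.structureModule X)) U
  have hinj2 := Groth.Agent.Lib.Helper2.ModExact.app_injective_of_mono
    ((Scheme.Modules.pushforward j).map (pullbackUnitHom j)) U
  have key : ((Scheme.Modules.pushforward j).map (pullbackUnitHom j)).app U
      ((quotMap φ j z hsq (Coh.structureModule X)).app U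
        ((πQ (RingHom.ker φ) (Coh.structureModule X)).app U (toS U s))) =
      (unitPush j).app U (toS U s) := by
    rw [← unit_comp_pushforward_pullbackUnitHom, ← πQ_quotMap φ j z hsq, comp_app_apply,
      comp_app_apply]
  rw [unitPush_app] at key
  constructor
  · intro h
    rw [h] at key
    apply hinj1
    apply hinj2
    rw [key, map_zero, map_zero]
    rfl
  · intro h
    rw [h, map_zero, map_zero] at key
    exact (congrArg (ofS (j ⁻¹ᵁ U)) key).symm

end KS

section step

variable {A : Type u} [CommRing A] {X : Scheme.{u}} [X.Over (Spec (CommRingCat.of A))]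
  (M : X.Modules) [M.IsQuasicoherent]
  (hfl : FlatMod.IsFlatOver (X ↘ Spec (CommRingCat.of A)) M)
  (K J : Ideal A) (a : A) (hK : ∀ b ∈ K, a * b ∈ J) (hcolon : ∀ x, x * a ∈ J → x ∈ K)
  {r : ℕ} (c : Fin r → A) (hc : J = Ideal.span (Set.range c))

include hfl hcolon hc in
theorem μ_app_injective' {U : X.Opens} (hU : IsAffineOpen U) :
    Function.Injective ((μ a hK M).app U) := by
  rw [injective_iff_map_eq_zero]
  intro sbar hs
  obtain ⟨s, rfl⟩ := πQ_app_surjective K M hU sbar
  rw [← comp_app_apply, πQ_μ, comp_app_apply, smulMod_app] at hs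
  obtain ⟨y, hy⟩ := ker_πQ_app c J hc M hU _ hs
  letI : Module A Γ(M, U) := Module.compHom Γ(M, U) (ρ (A := A) U)
  haveI : Module.Flat A Γ(M, U) := flat_sections M hfl hU
  have h1 : a • s ∈ (J • ⊤ : Submodule A Γ(M, U)) := by
    change (ρ U a : Γ(X, U)) • s ∈ _
    rw [hy]
    refine Submodule.sum_mem _ (fun i _ => ?_)
    exact Submodule.smul_mem_smul (hc ▸ Ideal.subset_span ⟨i, rfl⟩) trivial
  have h2 := mem_smul_top_of_flat J K a hcolon s h1
  refine Submodule.smul_induction_on h2 (fun k hk z _ => ?_) (fun x y hx hy => ?_)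
  · exact πQ_app_smul K M k hk U z
  · rw [map_add, hx, hy, add_zero]

include hfl hcolon hc in
theorem mono_μ' : Mono (μ a hK M) :=
  Groth.Agent.Helper18OmLS.mono_of_injective_app_basis (μ a hK M) X.affineOpens
    X.isBasis_affineOpens (fun U hU => μ_app_injective' M hfl K J a hK hcolon c hc hU)

end step

end Groth.Agent.Lib.Helper17.UnitsK
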