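import Mathlib
import Groth.Prelude.Def_UnitsSh
import Groth.Prelude.Def_ClSub2
import Groth.Prelude.Def_Coh
import Groth.Agent.Lib.Helper20IdealModSec
import Groth.Agent.Lib.Helper18OmLS13

set_option autoImplicit false
set_option linter.style.haveILetI false
set_option linter.unusedSectionVars false
set_option linter.unusedVariables false
universe u
open CategoryTheory CategoryTheory.Limits AlgebraicGeometry TopologicalSpace Opposite

namespace Groth.Agent.Helper18UnitsSeq

open Groth.Agent.Helper18OmLS

section SheafSES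
variable {Y : TopCat.{u}}

/-- A short complex of abelian sheaves which is left exact on sections over every open and whose
second map is locally surjective is short exact. -/
lemma shortExact_of_sections_locSurj (S : ShortComplex (CohTop.Ab Y))
    (hex : ∀ W : (Opens Y)ᵒᵖ,
      (S.map (sheafToPresheaf (Opens.grothendieckTopology Y) AddCommGrpCat.{u} ⋙
        (evaluation _ _).obj W)).Exact)
    (hmono : ∀ W : (Opens Y)ᵒᵖ, Function.Injective (S.f.hom.app W))
    (hepi : TopCat.Presheaf.IsLocallySurjective S.g.hom) : S.ShortExact := by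
  let J := Opens.grothendieckTopology Y
  let P := S.map (sheafToPresheaf J AddCommGrpCat.{u})
  have hP : P.Exact := by
    rw [ShortComplex.exact_iff_isZero_homology]
    apply Functor.isZero
    intro W
    have e := P.mapHomologyIso ((evaluation _ _).obj W)
    have hW : (P.map ((evaluation _ _).obj W)).Exact := hex W
    rw [ShortComplex.exact_iff_isZero_homology] at hW
    exact hW.of_iso e.symm
  have hS : ((P.map (presheafToSheaf J AddCommGrpCat.{u}))).Exact := hP.map _
  have e : P.map (presheafToSheaf J AddCommGrpCat.{u}) ≅ S :=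
    (S.mapNatIso (sheafificationNatIso J AddCommGrpCat.{u})).symm
  refine ShortComplex.ShortExact.mk' (ShortComplex.exact_of_iso e hS) ?_ ?_
  · haveI : ∀ W, Mono (S.f.hom.app W) := fun W =>
      (AddCommGrpCat.mono_iff_injective _).mpr (hmono W)
    haveI : Mono S.f.hom := NatTrans.mono_of_mono_app _
    exact Sheaf.Hom.mono_of_presheaf_mono _ _ _
  · exact (TopCat.Sheaf.isLocallySurjective_iff_epi (X := Y) S.g).mp hepi

end SheafSES

section main
variable {X : Scheme.{u}} (J : X.IdealSheafData)

theorem subschemeι_app_idealSect (U : X.Opens) (f : Γ(ClSub.idealMod J, U)) :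
    (J.subschemeι.app U).hom (OmegaSh.idealSect J U f) = 0 :=
  Groth.Agent.Lib.Helper20.IdealModSec.ι_toSubscheme J U f

theorem exists_idealSect_eq' (U : X.Opens) (x : Γ(X, U)) (hx : (J.subschemeι.app U).hom x = 0) :
    ∃ f : Γ(ClSub.idealMod J, U), OmegaSh.idealSect J U f = x :=
  Groth.Agent.Lib.Helper20.IdealModSec.exists_eq_ι J U x (by
    rw [Groth.Agent.Lib.Helper20.IdealModSec.toSubscheme_app]
    exact hx)

theorem idealSect_mem_ideal (U : X.affineOpens) (f : Γ(ClSub.idealMod J, U.1)) :
    OmegaSh.idealSect J U.1 f ∈ J.ideal U := by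
  rw [← J.ker_subschemeι_app U, RingHom.mem_ker]
  exact subschemeι_app_idealSect J U.1 f

theorem idealSect_mul_eq_zero (hJ : J * J = ⊥) (U : X.Opens) (f g : Γ(ClSub.idealMod J, U)) :
    OmegaSh.idealSect J U f * OmegaSh.idealSect J U g = 0 := by
  refine X.IsSheaf.section_ext fun y hy => ?_
  obtain ⟨_, ⟨W, hW, rfl⟩, hyW, hWU : W ≤ U⟩ :=
    X.isBasis_affineOpens.exists_subset_of_mem_open hy U.isOpen
  refine ⟨W, hWU, hyW, ?_⟩
  rw [map_zero, map_mul, ← idealSect_res, ← idealSect_res]
  have h1 := Ideal.mul_mem_mul (idealSect_mem_ideal J ⟨W, hW⟩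
    ((ClSub.idealMod J).presheaf.map (homOfLE hWU).op f))
    (idealSect_mem_ideal J ⟨W, hW⟩ ((ClSub.idealMod J).presheaf.map (homOfLE hWU).op g))
  have h2 : (J * J).ideal ⟨W, hW⟩ = J.ideal ⟨W, hW⟩ * J.ideal ⟨W, hW⟩ := rfl
  rw [← h2, hJ] at h1
  exact h1

/-- the unit `1 + f` attached to a section of a square zero ideal. -/
noncomputable def onePlus (hJ : J * J = ⊥) (U : X.Opens) (f : Γ(ClSub.idealMod J, U)) : (Γ(X, U))ˣ where
  val := 1 + OmegaSh.idealSect J U f
  inv := 1 - OmegaSh.idealSect J U f
  val_inv := by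
    have h := idealSect_mul_eq_zero J hJ U f f
    have : (1 + OmegaSh.idealSect J U f) * (1 - OmegaSh.idealSect J U f) =
        1 - OmegaSh.idealSect J U f * OmegaSh.idealSect J U f := by ring
    rw [this, h, sub_zero]
  inv_val := by
    have h := idealSect_mul_eq_zero J hJ U f f
    have : (1 - OmegaSh.idealSect J U f) * (1 + OmegaSh.idealSect J U f) =
        1 - OmegaSh.idealSect J U f * OmegaSh.idealSect J U f := by ring
    rw [this, h, sub_zero]

theorem onePlus_val (hJ : J * J = ⊥) (U : X.Opens) (f : Γ(ClSub.idealMod J, U)) :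
    (onePlus J hJ U f).val = 1 + OmegaSh.idealSect J U f := rfl

theorem onePlus_add (hJ : J * J = ⊥) (U : X.Opens) (f g : Γ(ClSub.idealMod J, U)) :
    onePlus J hJ U (f + g) = onePlus J hJ U f * onePlus J hJ U g := by
  apply Units.ext
  rw [Units.val_mul, onePlus_val, onePlus_val, onePlus_val, map_add]
  have h := idealSect_mul_eq_zero J hJ U f g
  have : (1 + OmegaSh.idealSect J U f) * (1 + OmegaSh.idealSect J U g) =
      1 + (OmegaSh.idealSect J U f + OmegaSh.idealSect J U g) +
        OmegaSh.idealSect J U f * OmegaSh.idealSect J U g := by ring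
  rw [this, h, add_zero]

theorem onePlus_zero (hJ : J * J = ⊥) (U : X.Opens) : onePlus J hJ U 0 = 1 := by
  apply Units.ext
  rw [onePlus_val, map_zero, add_zero]
  rfl

theorem onePlus_res (hJ : J * J = ⊥) {U V : X.Opens} (h : V ≤ U) (f : Γ(ClSub.idealMod J, U)) :
    onePlus J hJ V ((ClSub.idealMod J).presheaf.map (homOfLE h).op f) =
      Units.map (X.presheaf.map (homOfLE h).op).hom.toMonoidHom (onePlus J hJ U f) := by
  apply Units.ext
  rw [onePlus_val, idealSect_res]
  change _ = (X.presheaf.map (homOfLE h).op).hom (1 + OmegaSh.idealSect J U f)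
  rw [map_add, map_one]

theorem onePlus_injective (hJ : J * J = ⊥) (U : X.Opens) : Function.Injective (onePlus J hJ U) := by
  intro f g hfg
  have h1 := congrArg Units.val hfg
  rw [onePlus_val, onePlus_val] at h1
  exact idealSect_injective J U (add_left_cancel h1)

/-- the morphism of abelian sheaves `f ↦ 1 + f`. -/
noncomputable def phi (hJ : J * J = ⊥) : Coh.toAb (ClSub.idealMod J) ⟶ UnitsSh.unitsAb X :=
  ⟨{ app := fun U => AddCommGrpCat.ofHom
        { toFun := fun f => UnitsSh.sectOfUnit (O := X.presheaf) (U := U) (onePlus J hJ U.unop f)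
          map_zero' :=
            (congrArg (UnitsSh.sectOfUnit (O := X.presheaf) (U := U))
              (onePlus_zero J hJ U.unop)).trans rfl
          map_add' := fun f g =>
            (congrArg (UnitsSh.sectOfUnit (O := X.presheaf) (U := U))
              (onePlus_add J hJ U.unop f g)).trans rfl }
     naturality := by
       intro U V h
       ext f
       have hh : h = (homOfLE h.unop.le).op := Subsingleton.elim _ _
       rw [hh]
       exact congrArg (UnitsSh.sectOfUnit (O := X.presheaf) (U := V))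
         (onePlus_res J hJ h.unop.le f) }⟩

theorem phi_app (hJ : J * J = ⊥) (U : X.Opens) (f : (ClSub.idealMod J).val.obj (op U)) :
    UnitsSh.unitOfSect ((phi J hJ).hom.app (op U) f) = onePlus J hJ U f := rfl

theorem phi_comp (hJ : J * J = ⊥) : phi J hJ ≫ UnitsSh.comap J.subschemeι = 0 := by
  apply Sheaf.hom_ext
  ext U f
  change UnitsSh.sectOfUnit (Units.map (J.subschemeι.app U.unop).hom.toMonoidHom
    (onePlus J hJ U.unop f)) = 0
  have : Units.map (J.subschemeι.app U.unop).hom.toMonoidHom (onePlus J hJ U.unop f) = 1 := by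
    apply Units.ext
    change (J.subschemeι.app U.unop).hom (1 + OmegaSh.idealSect J U.unop f) = 1
    rw [map_add, map_one, subschemeι_app_idealSect, add_zero]
  rw [this]
  rfl

theorem exists_unit_lift (hJ : J * J = ⊥) (V : X.affineOpens)
    (t : (Γ(J.subscheme, J.subschemeι ⁻¹ᵁ V.1))ˣ) :
    ∃ s : (Γ(X, V.1))ˣ, Units.map (J.subschemeι.app V.1).hom.toMonoidHom s = t := by
  have hsurj := J.subschemeι.app_surjective V.1 V.2
  obtain ⟨a, ha⟩ := hsurj t.val
  obtain ⟨b, hb⟩ := hsurj t.inv
  have hn : a * b - 1 ∈ J.ideal V := by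
    rw [← J.ker_subschemeι_app V, RingHom.mem_ker, map_sub, map_mul, map_one]
    change (J.subschemeι.app V.1) a * (J.subschemeι.app V.1) b - 1 = 0
    rw [ha, hb, t.val_inv, sub_self]
  have hnn : (a * b - 1) * (a * b - 1) = 0 := by
    have h1 := Ideal.mul_mem_mul hn hn
    have h2 : (J * J).ideal V = J.ideal V * J.ideal V := rfl
    rw [← h2, hJ] at h1
    exact h1
  have hab : a * (b * (1 - (a * b - 1))) = 1 := by
    have : a * (b * (1 - (a * b - 1))) = 1 - (a * b - 1) * (a * b - 1) := by ring
    rw [this, hnn, sub_zero]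
  refine ⟨⟨a, b * (1 - (a * b - 1)), hab, by rw [mul_comm]; exact hab⟩, ?_⟩
  apply Units.ext
  exact ha

theorem main_S15747 (hJ : J * J = ⊥) :
    ∃ φ : Coh.toAb (ClSub.idealMod J) ⟶ UnitsSh.unitsAb X,
      (∀ (U : X.Opens) (f : (ClSub.idealMod J).val.obj (op U)),
        (UnitsSh.unitOfSect (φ.hom.app (op U) f)).val =
          1 + (show X.sheaf.obj.obj (op U) from (ClSub.idealModι J).val.app (op U) f)) ∧
      ∃ w : φ ≫ UnitsSh.comap J.subschemeι = 0,
        (ShortComplex.mk φ (UnitsSh.comap J.subschemeι) w).ShortExact := by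
  refine ⟨phi J hJ, fun U f => rfl, phi_comp J hJ, ?_⟩
  apply shortExact_of_sections_locSurj
  · intro W
    rw [ShortComplex.ab_exact_iff]
    intro x hx
    have hx' : Units.map (J.subschemeι.app W.unop).hom.toMonoidHom
        (UnitsSh.unitOfSect (O := X.presheaf) (U := W) x) = 1 := hx
    have h1 : (J.subschemeι.app W.unop).hom
        ((UnitsSh.unitOfSect (O := X.presheaf) (U := W) x).val - 1) = 0 := by
      rw [map_sub, map_one, sub_eq_zero]
      exact congrArg Units.val hx'
    obtain ⟨f, hf⟩ := exists_idealSect_eq' J W.unop _ h1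
    refine ⟨f, ?_⟩
    change UnitsSh.sectOfUnit (O := X.presheaf) (U := W) (onePlus J hJ W.unop f) = x
    have : onePlus J hJ W.unop f = UnitsSh.unitOfSect (O := X.presheaf) (U := W) x := by
      apply Units.ext
      rw [onePlus_val, hf]
      ring
    rw [this]
    rfl
  · intro W f g hfg
    exact onePlus_injective J hJ W.unop hfg
  · rw [TopCat.Presheaf.isLocallySurjective_iff]
    intro U t x hx
    obtain ⟨V, hV, hxV, hVU⟩ := exists_isAffineOpen_mem_and_subset (x := x) (U := U) hx
    refine ⟨V, hVU, ?_, hxV⟩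
    obtain ⟨s, hs⟩ := exists_unit_lift J hJ ⟨V, hV⟩
      (UnitsSh.unitOfSect (O := J.subscheme.presheaf) (U := op (J.subschemeι ⁻¹ᵁ V))
        (((UnitsSh.unitsAb J.subscheme).obj.map
          (homOfLE (J.subschemeι.preimage_mono hVU)).op) t))
    refine ⟨UnitsSh.sectOfUnit (O := X.presheaf) (U := op V) s, ?_⟩
    exact congrArg (UnitsSh.sectOfUnit (O := J.subscheme.presheaf)
      (U := op (J.subschemeι ⁻¹ᵁ V))) hs

end main

end Groth.Agent.Helper18UnitsSeq
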