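import Mathlib
import Groth.Agent.Lib.Helper17UnitsK1
import Groth.Agent.Lib.Helper17UnitsK2
import Groth.Agent.Lib.Helper18UnitsSeq
import Groth.Agent.Lib.Helper23ZarConnB2

/-!
# The principal units filtration step (helper17)

For `X` over `Spec A` and a morphism `f : O_X^× ⟶ G` of abelian sheaves whose kernel on sections consists of the
units `u` with `u - 1 ∈ J O_X` (`IsKer J f`), we build, for `J'' = J' + (a)` with `J'' J'' ≤ J'`, `a K ⊆ J'`,
`(J' : a) ⊆ K`, `a` nilpotent and `X` flat over `A`, the short exact sequence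
`0 ⟶ ker f' ⟶ ker f'' ⟶ O_X / K O_X ⟶ 0`.
-/

set_option autoImplicit false
universe u
open CategoryTheory Limits AlgebraicGeometry TopologicalSpace Opposite

namespace Groth.Agent.Lib.Helper17.UnitsK

open Groth.Agent.Lib.Helper17.FlatDev Groth.Agent.Lib.Helper23.GenLocus
  Groth.Agent.Lib.Helper23.Serre Groth.Agent.Lib.Helper23.PB Groth.Agent.Lib.Helper6
  Groth.Agent.Lib.Helper23.QCohLocal

variable {A : Type u} [CommRing A] {X : Scheme.{u}} [X.Over (Spec (CommRingCat.of A))]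

/-- the function `u - 1` of a section `u` of `O_X^×`. -/
noncomputable def um1 (W : (Opens X)ᵒᵖ) (x : (UnitsSh.unitsAb X).obj.obj W) : Γ(X, W.unop) :=
  (UnitsSh.unitOfSect (O := X.presheaf) (U := W) x).val - 1

theorem um1_zero (W : (Opens X)ᵒᵖ) : um1 W (0 : (UnitsSh.unitsAb X).obj.obj W) = 0 := by
  unfold um1
  have h : UnitsSh.unitOfSect (O := X.presheaf) (U := W) (0 : (UnitsSh.unitsAb X).obj.obj W) = 1 := rfl
  rw [h, Units.val_one, sub_self]

theorem um1_add (W : (Opens X)ᵒᵖ) (x y : (UnitsSh.unitsAb X).obj.obj W) :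
    um1 W (x + y) = um1 W x * um1 W y + um1 W x + um1 W y := by
  unfold um1
  have h : UnitsSh.unitOfSect (O := X.presheaf) (U := W) (x + y) =
      UnitsSh.unitOfSect (O := X.presheaf) (U := W) x *
        UnitsSh.unitOfSect (O := X.presheaf) (U := W) y := rfl
  rw [h, Units.val_mul]
  ring

theorem um1_res {W W' : (Opens X)ᵒᵖ} (h : W ⟶ W') (x : (UnitsSh.unitsAb X).obj.obj W) :
    um1 W' ((UnitsSh.unitsAb X).obj.map h x) = X.presheaf.map h (um1 W x) := by
  unfold um1
  rw [map_sub, map_one]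
  rfl

theorem um1_sectOfUnit (W : (Opens X)ᵒᵖ) (v : (Γ(X, W.unop))ˣ) :
    um1 W (UnitsSh.sectOfUnit (O := X.presheaf) (U := W) v) = v.val - 1 := rfl

theorem eq_zero_of_um1 (W : (Opens X)ᵒᵖ) (x : (UnitsSh.unitsAb X).obj.obj W) (h : um1 W x = 0) :
    x = 0 := by
  have h1 : (UnitsSh.unitOfSect (O := X.presheaf) (U := W) x) = 1 := by
    apply Units.ext
    rw [Units.val_one]
    exact sub_eq_zero.1 h
  exact congrArg (UnitsSh.sectOfUnit (O := X.presheaf) (U := W)) h1

/-- the kernel of `f` on sections is `{u | u - 1 ∈ J O}`. -/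
def IsKer (J : Ideal A) {G : CohTop.Ab X.toTopCat} (f : UnitsSh.unitsAb X ⟶ G) : Prop :=
  ∀ (W : (Opens X)ᵒᵖ) (x : (UnitsSh.unitsAb X).obj.obj W),
    f.hom.app W x = 0 ↔ (πQ J (Coh.structureModule X)).app W.unop (toS W.unop (um1 W x)) = 0


open Groth.Agent.Lib.Helper23.ZarConnB2

section prod

variable (J' J'' : Ideal A) (hJJ : ∀ b ∈ J'', ∀ b' ∈ J'', b * b' ∈ J')
  {r : ℕ} (c : Fin r → A) (hc : J'' = Ideal.span (Set.range c))

include hJJ in
theorem smul_πQ_eq_zero (b : A) (hb : b ∈ J'') (U : X.Opens) (t : Γ(Coh.structureModule X, U))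
    (ht : (πQ J'' (Coh.structureModule X)).app U t = 0) :
    (πQ J' (Coh.structureModule X)).app U ((ρ U b : Γ(X, U)) • t) = 0 := by
  have hμ : ∀ b' ∈ J'', b * b' ∈ J' := fun b' hb' => hJJ b hb b' hb'
  rw [← smulMod_app, ← comp_app_apply, ← πQ_μ b hμ (Coh.structureModule X), comp_app_apply, ht,
    map_zero]

include hJJ hc in
theorem πQ_mul_eq_zero (U : X.Opens) (s t : Γ(X, U))
    (hs : (πQ J'' (Coh.structureModule X)).app U (toS U s) = 0)
    (ht : (πQ J'' (Coh.structureModule X)).app U (toS U t) = 0) :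
    (πQ J' (Coh.structureModule X)).app U (toS U (s * t)) = 0 := by
  haveI : (Coh.structureModule X).IsQuasicoherent := isQuasicoherent_structureModule' X
  apply res_ext_affine (Q J' (Coh.structureModule X))
  intro V hV hVa
  have h0 : res (Q J' (Coh.structureModule X)) hV 0 = 0 := map_zero _
  rw [app_res, h0]
  have hs' : (πQ J'' (Coh.structureModule X)).app V (toS V (resf hV s)) = 0 := by
    have h1 := app_res (πQ J'' (Coh.structureModule X)) hV (toS U s)
    rw [hs] at h1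
    exact h1.symm.trans (map_zero _)
  have ht' : (πQ J'' (Coh.structureModule X)).app V (toS V (resf hV t)) = 0 := by
    have h1 := app_res (πQ J'' (Coh.structureModule X)) hV (toS U t)
    rw [ht] at h1
    exact h1.symm.trans (map_zero _)
  obtain ⟨y, hy⟩ := ker_πQ_app c J'' hc (Coh.structureModule X) hVa (toS V (resf hV s)) hs'
  have e1 : res (Coh.structureModule X) hV (toS U (s * t)) =
      (resf hV t) • toS V (resf hV s) := by
    change toS V (resf hV (s * t)) = _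
    have hm : resf hV (s * t) = resf hV s * resf hV t := map_mul _ _ _
    rw [smul_toS, hm, mul_comm]
  rw [e1, hy, Finset.smul_sum, map_sum]
  refine Finset.sum_eq_zero (fun i _ => ?_)
  rw [smul_comm]
  apply smul_πQ_eq_zero J' J'' hJJ (c i) (hc ▸ Ideal.subset_span ⟨i, rfl⟩)
  have e2 : (resf hV t) • y i = (ofS V (y i)) • toS V (resf hV t) := by
    rw [smul_toS, mul_comm]
    rfl
  rw [e2, Scheme.Modules.Hom.app_smul, ht', smul_zero]

end prod

section step

variable (J' : Ideal A) (a : A) (K : Ideal A) (hK : ∀ b ∈ K, a * b ∈ J')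
  {G' G'' : CohTop.Ab X.toTopCat} (f' : UnitsSh.unitsAb X ⟶ G') (f'' : UnitsSh.unitsAb X ⟶ G'')
  (hf' : IsKer J' f') (hf'' : IsKer (J' ⊔ Ideal.span {a}) f'')
  (hJJ : ∀ b ∈ J' ⊔ Ideal.span {a}, ∀ b' ∈ J' ⊔ Ideal.span {a}, b * b' ∈ J')
  {r : ℕ} (c : Fin r → A) (hc : J' = Ideal.span (Set.range c))

/-- `u ↦ π_{J'}(u - 1)` on sections. -/
noncomputable def θfun (W : (Opens X)ᵒᵖ) (y : (kernel f'').obj.obj W) :
    Γ(Q J' (Coh.structureModule X), W.unop) :=
  (πQ J' (Coh.structureModule X)).app W.unop (toS W.unop (um1 W ((kernel.ι f'').hom.app W y)))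

theorem θfun_zero (W : (Opens X)ᵒᵖ) : θfun J' f'' W 0 = 0 := by
  unfold θfun
  rw [map_zero, um1_zero]
  exact map_zero _

include hf'' in
theorem πQ_um1_kerι (W : (Opens X)ᵒᵖ) (y : (kernel f'').obj.obj W) :
    (πQ (J' ⊔ Ideal.span {a}) (Coh.structureModule X)).app W.unop
      (toS W.unop (um1 W ((kernel.ι f'').hom.app W y))) = 0 :=
  (hf'' W _).1 (kerι_apply f'' W y)

theorem span_cons (J : Ideal A) (a : A) {r : ℕ} (c : Fin r → A) (hc : J = Ideal.span (Set.range c)) :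
    J ⊔ Ideal.span {a} = Ideal.span (Set.range (Fin.cons a c : Fin (r + 1) → A)) := by
  rw [Fin.range_cons, Ideal.span_insert, ← hc, sup_comm]

include hf'' hJJ hc in
theorem θfun_add (W : (Opens X)ᵒᵖ) (y₁ y₂ : (kernel f'').obj.obj W) :
    θfun J' f'' W (y₁ + y₂) = θfun J' f'' W y₁ + θfun J' f'' W y₂ := by
  unfold θfun
  rw [map_add, um1_add]
  have h1 := πQ_mul_eq_zero J' (J' ⊔ Ideal.span {a}) hJJ (Fin.cons a c : Fin (r + 1) → A)
    (span_cons J' a c hc) W.unop _ _ (πQ_um1_kerι J' a f'' hf'' W y₁)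
    (πQ_um1_kerι J' a f'' hf'' W y₂)
  have h2 : ∀ p q : Γ(X, W.unop), toS W.unop (p * q + p + q) =
      toS W.unop (p * q) + toS W.unop p + toS W.unop q := fun _ _ => rfl
  rw [h2, map_add, map_add, h1, zero_add]

theorem θfun_res {W W' : (Opens X)ᵒᵖ} (h : W ⟶ W') (y : (kernel f'').obj.obj W) :
    θfun J' f'' W' ((kernel f'').obj.map h y) =
      (Q J' (Coh.structureModule X)).presheaf.map h (θfun J' f'' W y) := by
  unfold θfun
  have h1 : (kernel.ι f'').hom.app W' ((kernel f'').obj.map h y) =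
      (UnitsSh.unitsAb X).obj.map h ((kernel.ι f'').hom.app W y) :=
    congrArg (fun k => k.hom y) ((kernel.ι f'').hom.naturality h)
  rw [h1, um1_res]
  have hh : h = (homOfLE h.unop.le).op := Subsingleton.elim _ _
  rw [hh]
  exact Groth.Agent.Lib.Helper23.Extend.app_map (πQ J' (Coh.structureModule X))
    (homOfLE h.unop.le) (toS W.unop (um1 W ((kernel.ι f'').hom.app W y)))

include hf'' hJJ hc in
/-- the morphism `ker f'' ⟶ O / J' O`, `u ↦ π_{J'}(u - 1)`. -/
noncomputable def θ : kernel f'' ⟶ (toAbF X).obj (Q J' (Coh.structureModule X)) :=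
  ⟨{ app := fun W => AddCommGrpCat.ofHom
        { toFun := fun y => θfun J' f'' W y
          map_zero' := θfun_zero J' f'' W
          map_add' := θfun_add J' a f'' hf'' hJJ c hc W }
     naturality := by
       intro W W' h
       ext y
       exact θfun_res J' f'' h y }⟩

theorem θ_app (W : (Opens X)ᵒᵖ) (y : (kernel f'').obj.obj W) :
    (θ J' a f'' hf'' hJJ c hc).hom.app W y = θfun J' f'' W y := rfl

end step

section stepSC

variable (M : X.Modules) [M.IsQuasicoherent] (K J : Ideal A) (a : A) (hK : ∀ b ∈ K, a * b ∈ J)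
  {r : ℕ} (c : Fin r → A) (hc : J = Ideal.span (Set.range c))

include hc in
theorem stepSC_exact' : (stepSC M K J a hK).Exact := by
  rw [ShortComplex.exact_iff_epi_kernel_lift]
  haveI : (kernel (Qmap (le_sup_left : J ≤ J ⊔ Ideal.span {a}) M)).IsQuasicoherent :=
    isQuasicoherent_kernel _
  refine Groth.Agent.Helper18OmLS.epi_of_surjective_app_cover _
    (fun i : X.affineOpens => (i : X.Opens)) (iSup_affineOpens_eq_top X) (fun i => i.2)
    (fun i t => ?_)
  obtain ⟨U, hU⟩ := i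
  change IsAffineOpen U at hU
  change Γ(kernel (Qmap (le_sup_left : J ≤ J ⊔ Ideal.span {a}) M), U) at t
  have h1 : (Qmap (le_sup_left : J ≤ J ⊔ Ideal.span {a}) M).app U
      ((kernel.ι (Qmap (le_sup_left : J ≤ J ⊔ Ideal.span {a}) M)).app U t) = 0 := by
    rw [← comp_app_apply, kernel.condition]
    rfl
  obtain ⟨s, hs⟩ := πQ_app_surjective J M hU
    ((kernel.ι (Qmap (le_sup_left : J ≤ J ⊔ Ideal.span {a}) M)).app U t)
  have h2 : (πQ (J ⊔ Ideal.span {a}) M).app U s = 0 := by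
    rw [← πQ_Qmap (le_sup_left : J ≤ J ⊔ Ideal.span {a}) M, comp_app_apply, hs, h1]
  have hc' := span_cons J a c hc
  obtain ⟨y, hy⟩ := ker_πQ_app (Fin.cons a c : Fin (r + 1) → A) _ hc' M hU s h2
  rw [Fin.sum_univ_succ] at hy
  simp only [Fin.cons_zero, Fin.cons_succ] at hy
  refine ⟨(πQ K M).app U (y 0), ?_⟩
  apply Groth.Agent.Lib.Helper2.ModExact.app_injective_of_mono
    (kernel.ι (Qmap (le_sup_left : J ≤ J ⊔ Ideal.span {a}) M)) U
  change (kernel.ι (Qmap (le_sup_left : J ≤ J ⊔ Ideal.span {a}) M)).app U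
    ((kernel.lift (Qmap (le_sup_left : J ≤ J ⊔ Ideal.span {a}) M) (μ a hK M)
      (μ_Qmap a hK le_sup_left (mem_sup_span J a) M)).app U ((πQ K M).app U (y 0))) = _
  rw [← comp_app_apply, kernel.lift_ι, ← comp_app_apply, πQ_μ, comp_app_apply, smulMod_app,
    ← hs, hy, map_add, map_sum]
  have h3 : ∀ i : Fin r, (πQ J M).app U ((ρ U (c i) : Γ(X, U)) • y i.succ) = 0 := fun i =>
    πQ_app_smul J M (c i) (hc ▸ Ideal.subset_span ⟨i, rfl⟩) U _
  rw [Finset.sum_eq_zero (fun i _ => h3 i), add_zero]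

variable (hfl : FlatMod.IsFlatOver (X ↘ Spec (CommRingCat.of A)) M)
  (hcolon : ∀ x, x * a ∈ J → x ∈ K)

include hfl hcolon hc in
theorem stepSC_shortExact'' : (stepSC M K J a hK).ShortExact where
  exact := stepSC_exact' M K J a hK c hc
  mono_f := mono_μ' M hfl K J a hK hcolon c hc
  epi_g := inferInstanceAs (Epi (Qmap (le_sup_left : J ≤ J ⊔ Ideal.span {a}) M))

end stepSC

section stepSES

variable (J' : Ideal A) (a : A) (K : Ideal A) (hK : ∀ b ∈ K, a * b ∈ J')
  {G' G'' : CohTop.Ab X.toTopCat} (f' : UnitsSh.unitsAb X ⟶ G') (f'' : UnitsSh.unitsAb X ⟶ G'')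
  (hf' : IsKer J' f') (hf'' : IsKer (J' ⊔ Ideal.span {a}) f'')
  (hJJ : ∀ b ∈ J' ⊔ Ideal.span {a}, ∀ b' ∈ J' ⊔ Ideal.span {a}, b * b' ∈ J')
  {r : ℕ} (c : Fin r → A) (hc : J' = Ideal.span (Set.range c))
  (hS₀ : (stepSC (Coh.structureModule X) K J' a hK).ShortExact)

theorem θ_comp_Qmap : θ J' a f'' hf'' hJJ c hc ≫
    (toAbF X).map (Qmap (le_sup_left : J' ≤ J' ⊔ Ideal.span {a}) (Coh.structureModule X)) = 0 := by
  apply Sheaf.hom_ext
  ext W y
  change (Qmap (le_sup_left : J' ≤ J' ⊔ Ideal.span {a}) (Coh.structureModule X)).app W.unop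
    (θfun J' f'' W y) = 0
  unfold θfun
  rw [← comp_app_apply, πQ_Qmap]
  exact πQ_um1_kerι J' a f'' hf'' W y

/-- the morphism `ker f'' ⟶ O / K O`. -/
noncomputable def θ' : kernel f'' ⟶ (toAbF X).obj (Q K (Coh.structureModule X)) :=
  haveI : Mono ((stepSC (Coh.structureModule X) K J' a hK).map (toAbF X)).f :=
    (shortExact_toAbF _ hS₀).mono_f
  (shortExact_toAbF _ hS₀).exact.lift (θ J' a f'' hf'' hJJ c hc)
    (θ_comp_Qmap J' a f'' hf'' hJJ c hc)

theorem θ'_comp : θ' J' a K hK f'' hf'' hJJ c hc hS₀ ≫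
    (toAbF X).map (μ a hK (Coh.structureModule X)) = θ J' a f'' hf'' hJJ c hc := by
  haveI : Mono ((stepSC (Coh.structureModule X) K J' a hK).map (toAbF X)).f :=
    (shortExact_toAbF _ hS₀).mono_f
  exact (shortExact_toAbF _ hS₀).exact.lift_f (θ J' a f'' hf'' hJJ c hc)
    (θ_comp_Qmap J' a f'' hf'' hJJ c hc)

theorem μ_θ'_app (W : (Opens X)ᵒᵖ) (y : (kernel f'').obj.obj W) :
    (μ a hK (Coh.structureModule X)).app W.unop
      ((θ' J' a K hK f'' hf'' hJJ c hc hS₀).hom.app W y) = θfun J' f'' W y :=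
  congrArg (fun k => k.hom.app W y) (θ'_comp J' a K hK f'' hf'' hJJ c hc hS₀)

include hf' hf'' in
theorem kerι_comp_eq_zero : kernel.ι f' ≫ f'' = 0 := by
  apply Sheaf.hom_ext
  ext W y
  change f''.hom.app W ((kernel.ι f').hom.app W y) = 0
  rw [hf'' W]
  have h1 := (hf' W _).1 (kerι_apply f' W y)
  rw [← πQ_Qmap (le_sup_left : J' ≤ J' ⊔ Ideal.span {a}), comp_app_apply, h1, map_zero]

/-- the inclusion `ker f' ⟶ ker f''`. -/
noncomputable def ι₁₂ : kernel f' ⟶ kernel f'' :=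
  kernel.lift f'' (kernel.ι f') (kerι_comp_eq_zero J' a f' f'' hf' hf'')

theorem ι₁₂_ι : ι₁₂ J' a f' f'' hf' hf'' ≫ kernel.ι f'' = kernel.ι f' :=
  kernel.lift_ι _ _ _

theorem ι₁₂_ι_app (W : (Opens X)ᵒᵖ) (y : (kernel f').obj.obj W) :
    (kernel.ι f'').hom.app W ((ι₁₂ J' a f' f'' hf' hf'').hom.app W y) =
      (kernel.ι f').hom.app W y :=
  congrArg (fun k => k.hom.app W y) (ι₁₂_ι J' a f' f'' hf' hf'')

theorem ι₁₂_θ' : ι₁₂ J' a f' f'' hf' hf'' ≫ θ' J' a K hK f'' hf'' hJJ c hc hS₀ = 0 := by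
  haveI : Mono ((toAbF X).map (μ a hK (Coh.structureModule X))) :=
    (shortExact_toAbF _ hS₀).mono_f
  rw [← cancel_mono ((toAbF X).map (μ a hK (Coh.structureModule X))), Category.assoc, θ'_comp,
    zero_comp]
  apply Sheaf.hom_ext
  ext W y
  change θfun J' f'' W ((ι₁₂ J' a f' f'' hf' hf'').hom.app W y) = 0
  unfold θfun
  rw [ι₁₂_ι_app]
  exact (hf' W _).1 (kerι_apply f' W y)

/-- the step short complex `ker f' ⟶ ker f'' ⟶ O / K O`. -/
noncomputable def stepT : ShortComplex (CohTop.Ab X.toTopCat) :=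
  ShortComplex.mk (ι₁₂ J' a f' f'' hf' hf'') (θ' J' a K hK f'' hf'' hJJ c hc hS₀)
    (ι₁₂_θ' J' a K hK f' f'' hf' hf'' hJJ c hc hS₀)

theorem stepT_shortExact (hnil : IsNilpotent a) :
    (stepT J' a K hK f' f'' hf' hf'' hJJ c hc hS₀).ShortExact := by
  haveI : (Coh.structureModule X).IsQuasicoherent := isQuasicoherent_structureModule' X
  haveI : Mono (μ a hK (Coh.structureModule X)) := hS₀.mono_f
  apply Groth.Agent.Helper18UnitsSeq.shortExact_of_sections_locSurj
  · intro W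
    rw [ShortComplex.ab_exact_iff]
    intro x hx
    have hx' : (θ' J' a K hK f'' hf'' hJJ c hc hS₀).hom.app W x = 0 := hx
    have h1 : θfun J' f'' W x = 0 := by
      have h := μ_θ'_app J' a K hK f'' hf'' hJJ c hc hS₀ W x
      rw [hx'] at h
      exact h.symm.trans (map_zero _)
    have h2 : f'.hom.app W ((kernel.ι f'').hom.app W x) = 0 := (hf' W _).2 h1
    obtain ⟨y, hy⟩ := exists_kerι_eq f' W _ h2
    refine ⟨y, kerι_injective f'' W ?_⟩
    exact (ι₁₂_ι_app J' a f' f'' hf' hf'' W y).trans hy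
  · intro W y₁ y₂ h
    apply kerι_injective f' W
    rw [← ι₁₂_ι_app J' a f' f'' hf' hf'' W y₁, ← ι₁₂_ι_app J' a f' f'' hf' hf'' W y₂]
    exact congrArg _ h
  · rw [TopCat.Presheaf.isLocallySurjective_iff]
    intro U t x hx
    obtain ⟨V, hV, hxV, hVU⟩ := exists_isAffineOpen_mem_and_subset (x := x) (U := U) hx
    refine ⟨V, hVU, ?_, hxV⟩
    obtain ⟨y₀, hy₀⟩ := πQ_app_surjective K (Coh.structureModule X) hV
      (show Γ(Q K (Coh.structureModule X), V) from
        ((toAbF X).obj (Q K (Coh.structureModule X))).obj.map (homOfLE hVU).op t)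
    have hn : IsNilpotent ((ρ V a : Γ(X, V)) * ofS V y₀) :=
      Commute.isNilpotent_mul_right (Commute.all _ _) (hnil.map (ρ (A := A) V))
    have hu : IsUnit (1 + (ρ V a : Γ(X, V)) * ofS V y₀) := hn.isUnit_one_add
    have hum : um1 (op V) (UnitsSh.sectOfUnit (O := X.presheaf) (U := op V) hu.unit) =
        (ρ V a : Γ(X, V)) * ofS V y₀ := by
      rw [um1_sectOfUnit, IsUnit.unit_spec]
      ring
    have hts : toS V ((ρ V a : Γ(X, V)) * ofS V y₀) = (ρ V a : Γ(X, V)) • y₀ := rfl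
    have hxv : f''.hom.app (op V) (UnitsSh.sectOfUnit (O := X.presheaf) (U := op V) hu.unit) = 0 := by
      rw [hf'' (op V), hum, hts]
      exact πQ_app_smul _ (Coh.structureModule X) a (mem_sup_span J' a) V y₀
    obtain ⟨s, hs⟩ := exists_kerι_eq f'' (op V) _ hxv
    refine ⟨s, ?_⟩
    apply Groth.Agent.Lib.Helper2.ModExact.app_injective_of_mono (μ a hK (Coh.structureModule X)) V
    refine (μ_θ'_app J' a K hK f'' hf'' hJJ c hc hS₀ (op V) s).trans ?_
    unfold θfun
    rw [hs, hum, hts]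
    change _ = (μ a hK (Coh.structureModule X)).app V
      (show Γ(Q K (Coh.structureModule X), V) from
        ((toAbF X).obj (Q K (Coh.structureModule X))).obj.map (homOfLE hVU).op t)
    rw [← hy₀, ← comp_app_apply, πQ_μ, comp_app_apply, smulMod_app]

include hf' hf'' hJJ hc hS₀ in
/-- **the step**: vanishing of `H^q` passes from `ker f'` and `O/KO` to `ker f''`. -/
theorem subsingleton_H_step (hnil : IsNilpotent a) (q : ℕ)
    (h1 : Subsingleton (Sheaf.H (kernel f') q))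
    (h3 : Subsingleton (Coh.HH X (Q K (Coh.structureModule X)) q)) :
    Subsingleton (Sheaf.H (kernel f'') q) :=
  subsingleton_H_mid (stepT J' a K hK f' f'' hf' hf'' hJJ c hc hS₀)
    (stepT_shortExact J' a K hK f' f'' hf' hf'' hJJ c hc hS₀ hnil) q h1 h3

end stepSES

end Groth.Agent.Lib.Helper17.UnitsK
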