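import Mathlib
import Groth.Agent.Lib.Helper17UnitsK3
import Groth.Agent.Lib.Helper17FlatDev3
import Groth.Agent.Lib.Helper17HomLift4
import Groth.Agent.Lib.Helper18PBUnit2
import Groth.Agent.Lib.Helper23TensorUnit

/-!
# Cohomology of principal units of a flat scheme over a local ring (helper17)

* `isKer_comap`: the kernel of `O_X^× ⟶ i_* O_Z^×` for `Z = X ×_A B`, `A → B` surjective.
* `epi_comap`: it is an epimorphism if the kernel of `A → B` is a finitely generated nil ideal.
* `subsingleton_H_kernel_artinian`: over an Artinian local ring, `H^q(X₀, O) = 0` kills `H^q` of the principal units.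
-/

set_option autoImplicit false
universe u
open CategoryTheory Limits AlgebraicGeometry TopologicalSpace Opposite

namespace Groth.Agent.Lib.Helper17.UnitsK

open Groth.Agent.Lib.Helper17.FlatDev Groth.Agent.Lib.Helper23.GenLocus
  Groth.Agent.Lib.Helper23.Serre Groth.Agent.Lib.Helper23.PB Groth.Agent.Lib.Helper6
  Groth.Agent.Lib.Helper23.QCohLocal

variable {A : Type u} [CommRing A] {X : Scheme.{u}} [X.Over (Spec (CommRingCat.of A))]

section pb

variable {B : Type u} [CommRing B] (φ : A →+* B) (hφ : Function.Surjective φ)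

/-- the projection `X ×_A B ⟶ X`. -/
noncomputable abbrev iB :
    pullback (X ↘ Spec (CommRingCat.of A)) (Spec.map (CommRingCat.ofHom φ)) ⟶ X :=
  pullback.fst _ _

include hφ in
theorem isKer_comap : IsKer (RingHom.ker φ) (UnitsSh.comap (iB (X := X) φ)) := by
  intro W x
  have hsq := IsPullback.of_hasPullback (X ↘ Spec (CommRingCat.of A))
    (Spec.map (CommRingCat.ofHom φ))
  rw [← app_eq_zero_iff φ (iB φ) (pullback.snd _ _) hsq hφ W.unop (um1 W x)]
  unfold um1
  rw [map_sub, map_one, sub_eq_zero]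
  constructor
  · intro h
    have h' : Units.map ((iB (X := X) φ).app W.unop).hom.toMonoidHom
        (UnitsSh.unitOfSect (O := X.presheaf) (U := W) x) = 1 := h
    exact congrArg Units.val h'
  · intro h
    have h' : Units.map ((iB (X := X) φ).app W.unop).hom.toMonoidHom
        (UnitsSh.unitOfSect (O := X.presheaf) (U := W) x) = 1 := Units.ext h
    exact h'

include hφ in
theorem exists_unit_lift (hnil : ∀ b ∈ RingHom.ker φ, IsNilpotent b) {r : ℕ} (c : Fin r → A)
    (hc : RingHom.ker φ = Ideal.span (Set.range c)) {V : X.Opens} (hV : IsAffineOpen V)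
    (t : (Γ(pullback (X ↘ Spec (CommRingCat.of A)) (Spec.map (CommRingCat.ofHom φ)),
      iB (X := X) φ ⁻¹ᵁ V))ˣ) :
    ∃ s : (Γ(X, V))ˣ, Units.map ((iB (X := X) φ).app V).hom.toMonoidHom s = t := by
  haveI : (Coh.structureModule X).IsQuasicoherent := isQuasicoherent_structureModule' X
  have hsq := IsPullback.of_hasPullback (X ↘ Spec (CommRingCat.of A))
    (Spec.map (CommRingCat.ofHom φ))
  haveI : IsClosedImmersion (iB (X := X) φ) :=
    isClosedImmersion_of_surjective φ (iB φ) (pullback.snd _ _) hsq hφ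
  have hsurj := (iB (X := X) φ).app_surjective V hV
  obtain ⟨a, ha⟩ := hsurj t.val
  obtain ⟨b, hb⟩ := hsurj t.inv
  have h0 : ((iB (X := X) φ).app V).hom (a * b - 1) = 0 := by
    rw [map_sub, map_mul, map_one]
    change ((iB (X := X) φ).app V) a * ((iB (X := X) φ).app V) b - 1 = 0
    rw [ha, hb, t.val_inv, sub_self]
  have h1 := (app_eq_zero_iff φ (iB φ) (pullback.snd _ _) hsq hφ V (a * b - 1)).1 h0
  obtain ⟨y, hy⟩ := ker_πQ_app c _ hc (Coh.structureModule X) hV _ h1
  have hn : IsNilpotent (a * b - 1) := by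
    have h2 : IsNilpotent (ofS V (∑ i, (ρ V (c i) : Γ(X, V)) • y i)) := by
      refine Finset.sum_induction _ (fun m : Γ(Coh.structureModule X, V) => IsNilpotent (ofS V m))
        (fun m m' hm hm' => ?_) ?_ (fun i _ => ?_)
      · exact Commute.isNilpotent_add (Commute.all (ofS V m) (ofS V m')) hm hm'
      · exact IsNilpotent.zero
      · have hci : IsNilpotent (ρ V (c i) : Γ(X, V)) :=
          (hnil (c i) (hc ▸ Ideal.subset_span ⟨i, rfl⟩)).map (ρ (A := A) V)
        exact Commute.isNilpotent_mul_right (Commute.all _ (ofS V (y i))) hci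
    rw [← hy] at h2
    exact h2
  have hu : IsUnit (a * b) := by
    have := hn.isUnit_one_add
    rwa [add_sub_cancel] at this
  have hua : IsUnit a := isUnit_of_mul_isUnit_left hu
  refine ⟨hua.unit, Units.ext ?_⟩
  exact ha

include hφ in
theorem epi_comap (hnil : ∀ b ∈ RingHom.ker φ, IsNilpotent b) {r : ℕ} (c : Fin r → A)
    (hc : RingHom.ker φ = Ideal.span (Set.range c)) : Epi (UnitsSh.comap (iB (X := X) φ)) := by
  apply (TopCat.Sheaf.isLocallySurjective_iff_epi (X := X.toTopCat) _).mp
  rw [TopCat.Presheaf.isLocallySurjective_iff]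
  intro U t x hx
  obtain ⟨V, hV, hxV, hVU⟩ := exists_isAffineOpen_mem_and_subset (x := x) (U := U) hx
  refine ⟨V, hVU, ?_, hxV⟩
  obtain ⟨s, hs⟩ := exists_unit_lift φ hφ hnil c hc hV
    (UnitsSh.unitOfSect
      (O := (pullback (X ↘ Spec (CommRingCat.of A)) (Spec.map (CommRingCat.ofHom φ))).presheaf)
      (U := op (iB (X := X) φ ⁻¹ᵁ V))
      (((UnitsSh.unitsAb
        (pullback (X ↘ Spec (CommRingCat.of A)) (Spec.map (CommRingCat.ofHom φ)))).obj.map
          (homOfLE ((iB (X := X) φ).preimage_mono hVU)).op) t))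
  refine ⟨UnitsSh.sectOfUnit (O := X.presheaf) (U := op V) s, ?_⟩
  exact congrArg (UnitsSh.sectOfUnit
    (O := (pullback (X ↘ Spec (CommRingCat.of A)) (Spec.map (CommRingCat.ofHom φ))).presheaf)
    (U := op (iB (X := X) φ ⁻¹ᵁ V))) hs

include hφ in
/-- surjectivity on `H^q` of the units map from vanishing of `H^{q+1}` of the principal units. -/
theorem surjective_H_comap (hnil : ∀ b ∈ RingHom.ker φ, IsNilpotent b) {r : ℕ} (c : Fin r → A)
    (hc : RingHom.ker φ = Ideal.span (Set.range c)) (q : ℕ)
    (h : Subsingleton (Sheaf.H (kernel (UnitsSh.comap (iB (X := X) φ))) (q + 1))) :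
    Function.Surjective (Sheaf.H.map (UnitsSh.comap (iB (X := X) φ)) q) := by
  haveI := epi_comap (X := X) φ hφ hnil c hc
  have hS : (ShortComplex.mk (kernel.ι (UnitsSh.comap (iB (X := X) φ)))
      (UnitsSh.comap (iB (X := X) φ)) (kernel.condition _)).ShortExact :=
    { exact := ShortComplex.exact_kernel _
      mono_f := inferInstanceAs (Mono (kernel.ι (UnitsSh.comap (iB (X := X) φ))))
      epi_g := inferInstanceAs (Epi (UnitsSh.comap (iB (X := X) φ))) }
  exact H_surjective_g _ hS q h

end pb

end Groth.Agent.Lib.Helper17.UnitsK
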