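import Mathlib
import Groth.Agent.Lib.Helper17UnitsK4

/-!
# Cohomology of principal units of a flat scheme over a local ring, II (helper17)

* `subsingleton_HH_Q_max`: `H^q(X₀, O) = 0 ⇒ H^q(X, O/𝔪O) = 0`.
* `isZero_kernel_of_isKer_bot`.
* `subsingleton_H_kernel_artinian`: over an Artinian local ring, `H^q(X, O/𝔪O) = 0` kills `H^q` of the principal units
  `1 + J O` for every `J ≤ 𝔪`.
* `subsingleton_H_kernel_socle`: the case of a socle element over an arbitrary local ring.
-/

set_option autoImplicit false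
universe u
open CategoryTheory Limits AlgebraicGeometry TopologicalSpace Opposite

namespace Groth.Agent.Lib.Helper17.UnitsK

open Groth.Agent.Lib.Helper17.FlatDev Groth.Agent.Lib.Helper23.GenLocus
  Groth.Agent.Lib.Helper23.Serre Groth.Agent.Lib.Helper23.PB Groth.Agent.Lib.Helper6
  Groth.Agent.Lib.Helper23.QCohLocal Groth.Agent.Lib.Helper17.IAdic

variable {A : Type u} [CommRing A] {X : Scheme.{u}} [X.Over (Spec (CommRingCat.of A))]

theorem isFlatOver_structureModule [Flat (X ↘ Spec (CommRingCat.of A))] :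
    FlatMod.IsFlatOver (X ↘ Spec (CommRingCat.of A)) (Coh.structureModule X) := by
  have hO : FlatMod.IsFinLocFree (Coh.structureModule X) :=
    Groth.Agent.Helper18PBUnit.isFinLocFree_of_isInvertible
      (Groth.Agent.Lib.Helper23.TensorUnit.isInvertible_structureModule X)
  exact Groth.Agent.Lib.Helper17.HomLift.isFlatOver_of_isFlat _ _
    (Groth.Agent.Lib.Helper1.Sky.isFlat_of_isFinLocFree' _ hO)

theorem subsingleton_HH_Q_max [IsLocalRing A] (q : ℕ)
    (hvan : Subsingleton (Coh.HH
      (pullback (X ↘ Spec (CommRingCat.of A))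
        (Spec.map (CommRingCat.ofHom (IsLocalRing.residue A))))
      (Coh.structureModule _) q)) :
    Subsingleton (Coh.HH X (Q (IsLocalRing.maximalIdeal A) (Coh.structureModule X)) q) := by
  haveI : (Coh.structureModule X).IsQuasicoherent := isQuasicoherent_structureModule' X
  have h1 := subsingleton_HH_Q_of_fibre (IsLocalRing.residue A)
    (pullback.fst (X ↘ Spec (CommRingCat.of A))
      (Spec.map (CommRingCat.ofHom (IsLocalRing.residue A))))
    (pullback.snd _ _) (IsPullback.of_hasPullback _ _) (Coh.structureModule X)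
    IsLocalRing.residue_surjective q
    (subsingleton_HH_of_iso' (pullbackUnitIso _).symm q hvan)
  rwa [IsLocalRing.ker_residue] at h1

theorem mono_πQ_bot (M : X.Modules) : Mono (πQ (⊥ : Ideal A) M) := by
  have h0 : Formal.smulFamily (⊥ : Ideal A) M = 0 := by
    apply Sigma.hom_ext
    intro b
    rw [ι_smulFamily, comp_zero]
    have hb : (b : A) = 0 := (Submodule.mem_bot A).1 b.2
    rw [hb, smulMod_zero]
  exact (ShortComplex.exact_cokernel (Formal.smulFamily (⊥ : Ideal A) M)).mono_g h0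

theorem isZero_kernel_of_isKer_bot {G : CohTop.Ab X.toTopCat} (f : UnitsSh.unitsAb X ⟶ G)
    (hf : IsKer (⊥ : Ideal A) f) : IsZero (kernel f) := by
  haveI := mono_πQ_bot (A := A) (Coh.structureModule X)
  apply isZero_of_sections
  intro W y
  apply kerι_injective f W
  rw [map_zero]
  apply eq_zero_of_um1
  have h1 := (hf W _).1 (kerι_apply f W y)
  have h2 := Groth.Agent.Lib.Helper2.ModExact.app_injective_of_mono
    (πQ (⊥ : Ideal A) (Coh.structureModule X)) W.unop (h1.trans (map_zero _).symm)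
  exact h2

theorem mul_mem_of_mem_sup {𝔪 J' : Ideal A} {a : A} (hm : ∀ b ∈ 𝔪, a * b ∈ J')
    {b b' : A} (hb : b ∈ J' ⊔ Ideal.span {a}) (hb' : b' ∈ 𝔪) : b * b' ∈ J' := by
  obtain ⟨j, hj, y, hy, rfl⟩ := Submodule.mem_sup.1 hb
  obtain ⟨x, rfl⟩ := Ideal.mem_span_singleton'.1 hy
  rw [add_mul, mul_assoc]
  exact J'.add_mem (J'.mul_mem_right _ hj) (J'.mul_mem_left _ (hm b' hb'))

section artinian

variable [IsLocalRing A] [IsArtinianRing A] [Flat (X ↘ Spec (CommRingCat.of A))]

theorem exists_pow_maximalIdeal_eq_bot : ∃ N : ℕ, (IsLocalRing.maximalIdeal A) ^ N = ⊥ := by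
  have h := IsArtinianRing.isNilpotent_jacobson_bot (R := A)
  rw [IsLocalRing.jacobson_eq_maximalIdeal ⊥ bot_ne_top] at h
  exact h

theorem isNilpotent_of_mem_maximalIdeal (b : A) (hb : b ∈ IsLocalRing.maximalIdeal A) :
    IsNilpotent b := by
  obtain ⟨N, hN⟩ := exists_pow_maximalIdeal_eq_bot (A := A)
  refine ⟨N, ?_⟩
  have := Ideal.pow_mem_pow hb N
  rw [hN] at this
  exact (Submodule.mem_bot A).1 this

/-- the canonical units map for the quotient by `J`. -/
noncomputable abbrev cJ (J : Ideal A) := UnitsSh.comap (iB (X := X) (Ideal.Quotient.mk J))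

theorem isKer_cJ (J : Ideal A) : IsKer J (cJ (X := X) J) := by
  have h := isKer_comap (X := X) (Ideal.Quotient.mk J) Ideal.Quotient.mk_surjective
  rwa [Ideal.mk_ker] at h

theorem subsingleton_H_kernel_artinian (q : ℕ)
    (h0 : Subsingleton (Coh.HH X (Q (IsLocalRing.maximalIdeal A) (Coh.structureModule X)) q))
    {G : CohTop.Ab X.toTopCat} (f : UnitsSh.unitsAb X ⟶ G) (J : Ideal A)
    (hJ : J ≤ IsLocalRing.maximalIdeal A) (hf : IsKer J f) :
    Subsingleton (Sheaf.H (kernel f) q) := by
  haveI : (Coh.structureModule X).IsQuasicoherent := isQuasicoherent_structureModule' X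
  haveI : IsNoetherianRing A := inferInstance
  obtain ⟨N, hN⟩ := exists_pow_maximalIdeal_eq_bot (A := A)
  have key : ∀ J' : Ideal A, J' ≤ J → Subsingleton (Sheaf.H (kernel (cJ (X := X) J')) q) →
      Subsingleton (Sheaf.H (kernel f) q) := by
    intro J'
    induction J' using IsNoetherian.induction with
    | hgt J' ih =>
      intro hle hJ'
      rcases eq_or_lt_of_le hle with rfl | hlt
      · exact subsingleton_H_of_iso
          (kernelIsoOfIff (cJ (X := X) J') f (fun W x => (isKer_cJ J' W x).trans (hf W x).symm)) q hJ'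
      · obtain ⟨a, haJ, haJ', hm⟩ := exists_socle (IsLocalRing.maximalIdeal A) J' J hlt N (by
          rw [hN, Ideal.bot_mul]
          exact bot_le)
        have hgt : J' < J' ⊔ Ideal.span {a} :=
          lt_of_le_of_ne le_sup_left (fun h => haJ' (h ▸ mem_sup_span J' a))
        have hle' : J' ⊔ Ideal.span {a} ≤ J :=
          sup_le hle ((Ideal.span_singleton_le_iff_mem _).2 haJ)
        refine ih _ hgt hle' ?_
        obtain ⟨r, c, -, hc⟩ := exists_gens J'
        have hS₀ := stepSC_shortExact' (Coh.structureModule X) isFlatOver_structureModule J' a haJ' hm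
        exact subsingleton_H_step J' a (IsLocalRing.maximalIdeal A) hm (cJ (X := X) J')
          (cJ (X := X) (J' ⊔ Ideal.span {a})) (isKer_cJ J') (isKer_cJ _)
          (fun b hb b' hb' => mul_mem_of_mem_sup hm hb (hJ (hle' hb'))) c hc hS₀
          (isNilpotent_of_mem_maximalIdeal a (hJ haJ)) q hJ' h0
  exact key ⊥ bot_le (subsingleton_H_of_isZero
    (isZero_kernel_of_isKer_bot _ (isKer_cJ (X := X) (⊥ : Ideal A))) q)

end artinian

section socle

variable [IsLocalRing A] [Flat (X ↘ Spec (CommRingCat.of A))]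

theorem subsingleton_H_kernel_socle (t : A) (ht0 : t ≠ 0)
    (hmt : ∀ x ∈ IsLocalRing.maximalIdeal A, x * t = 0) (q : ℕ)
    (h0 : Subsingleton (Coh.HH X (Q (IsLocalRing.maximalIdeal A) (Coh.structureModule X)) q))
    {G : CohTop.Ab X.toTopCat} (f : UnitsSh.unitsAb X ⟶ G)
    (hf : IsKer (Ideal.span {t}) f) (hnil : IsNilpotent t)
    (ht : t ∈ IsLocalRing.maximalIdeal A) :
    Subsingleton (Sheaf.H (kernel f) q) := by
  haveI : (Coh.structureModule X).IsQuasicoherent := isQuasicoherent_structureModule' X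
  have hm : ∀ b ∈ IsLocalRing.maximalIdeal A, t * b ∈ (⊥ : Ideal A) := fun b hb => by
    rw [mul_comm, hmt b hb]
    exact Submodule.zero_mem _
  have hc : (⊥ : Ideal A) = Ideal.span (Set.range (Fin.elim0 : Fin 0 → A)) := by
    rw [Set.range_eq_empty, Ideal.span_empty]
  have ht' : t ∉ (⊥ : Ideal A) := fun h => ht0 ((Submodule.mem_bot A).1 h)
  have hS₀ := stepSC_shortExact'' (Coh.structureModule X) (IsLocalRing.maximalIdeal A) ⊥ t hm
    (Fin.elim0 : Fin 0 → A) hc isFlatOver_structureModule (colon_of_not_mem ⊥ t ht')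
  have hf'' : IsKer ((⊥ : Ideal A) ⊔ Ideal.span {t}) f := by rwa [bot_sup_eq]
  have hf' : IsKer (⊥ : Ideal A) (UnitsSh.comap (iB (X := X) (Ideal.Quotient.mk (⊥ : Ideal A)))) := by
    have h := isKer_comap (X := X) (Ideal.Quotient.mk (⊥ : Ideal A)) Ideal.Quotient.mk_surjective
    rwa [Ideal.mk_ker] at h
  have hle : (⊥ : Ideal A) ⊔ Ideal.span {t} ≤ IsLocalRing.maximalIdeal A :=
    sup_le bot_le ((Ideal.span_singleton_le_iff_mem _).2 ht)
  exact subsingleton_H_step ⊥ t (IsLocalRing.maximalIdeal A) hm _ f hf' hf''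
    (fun b hb b' hb' => mul_mem_of_mem_sup hm hb (hle hb')) (Fin.elim0 : Fin 0 → A) hc hS₀ hnil q
    (subsingleton_H_of_isZero (isZero_kernel_of_isKer_bot _ hf') q) h0

end socle

end Groth.Agent.Lib.Helper17.UnitsK
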