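import Mathlib
import Groth.Agent.Lib.Helper17UnitsK5

/-!
# Split units sequences and the tangent space of `H^q(O^×)` (helper17)

* `ker_H_map_equiv_of_section`: for an epimorphism `c : E ⟶ F` of abelian sheaves with a section `σ`, the kernel of
  `H^q(c)` is `H^q(ker c)`.
* `sectionOfRetraction`: for a closed immersion `i : Z ⟶ X` which is surjective on points and has a retraction `r`,
  a section of `O_X^× ⟶ i_* O_Z^×`.
-/

set_option autoImplicit false
universe u
open CategoryTheory Limits AlgebraicGeometry TopologicalSpace Opposite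

namespace Groth.Agent.Lib.Helper17.UnitsK

section split

variable {Y : TopCat.{u}} {E F : CohTop.Ab Y} (c : E ⟶ F) (σ : F ⟶ E) (hσ : σ ≫ c = 𝟙 F)

/-- the retraction of `ker c ⟶ E` defined by a section of `c`. -/
noncomputable def retr : E ⟶ kernel c :=
  kernel.lift c (𝟙 E - c ≫ σ) (by
    rw [Preadditive.sub_comp, Category.id_comp, Category.assoc, hσ, Category.comp_id, sub_self])

theorem kernelι_retr : kernel.ι c ≫ retr c σ hσ = 𝟙 _ := by
  rw [← cancel_mono (kernel.ι c), Category.assoc, retr, kernel.lift_ι, Preadditive.comp_sub,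
    Category.comp_id, kernel.condition_assoc, zero_comp, sub_zero, Category.id_comp]

include hσ in
theorem H_kernelι_injective (q : ℕ) : Function.Injective (Sheaf.H.map (kernel.ι c) q) := by
  intro x y h
  have h1 := congrArg (Sheaf.H.map (retr c σ hσ) q) h
  rw [← Sheaf.H.map_comp_apply, ← Sheaf.H.map_comp_apply, kernelι_retr, Sheaf.H.map_id_apply,
    Sheaf.H.map_id_apply] at h1
  exact h1

include hσ in
/-- the kernel of `H^q(c)` is `H^q(ker c)` when `c` has a section. -/
theorem nonempty_ker_H_map_equiv (q : ℕ) :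
    Nonempty ((Sheaf.H.map c q).ker ≃+ Sheaf.H (kernel c) q) := by
  haveI : Epi c := epi_of_epi_fac hσ
  have hS : (ShortComplex.mk (kernel.ι c) c (kernel.condition c)).ShortExact :=
    { exact := ShortComplex.exact_kernel _
      mono_f := inferInstanceAs (Mono (kernel.ι c))
      epi_g := inferInstanceAs (Epi c) }
  have hmem : ∀ x : Sheaf.H (kernel c) q, Sheaf.H.map (kernel.ι c) q x ∈ (Sheaf.H.map c q).ker := by
    intro x
    rw [AddMonoidHom.mem_ker, ← Sheaf.H.map_comp_apply, kernel.condition, Sheaf.H.map_apply,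
      Abelian.Ext.mk₀_zero, Abelian.Ext.comp_zero]
  let g : Sheaf.H (kernel c) q →+ (Sheaf.H.map c q).ker :=
    (Sheaf.H.map (kernel.ι c) q).codRestrict _ hmem
  have hg : Function.Bijective g := by
    constructor
    · intro x y h
      exact H_kernelι_injective c σ hσ q (congrArg Subtype.val h)
    · rintro ⟨y, hy⟩
      obtain ⟨x, hx⟩ := H_exact₂ _ hS q y hy
      exact ⟨x, Subtype.ext hx⟩
  exact ⟨(AddEquiv.ofBijective g hg).symm⟩

theorem nonempty_H_equiv_of_iso {F G : CohTop.Ab Y} (e : F ≅ G) (q : ℕ) :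
    Nonempty (Sheaf.H F q ≃+ Sheaf.H G q) :=
  ⟨{ toFun := Sheaf.H.map e.hom q
     invFun := Sheaf.H.map e.inv q
     left_inv := fun x => by
       rw [← Sheaf.H.map_comp_apply, e.hom_inv_id, Sheaf.H.map_id_apply]
     right_inv := fun x => by
       rw [← Sheaf.H.map_comp_apply, e.inv_hom_id, Sheaf.H.map_id_apply]
     map_add' := map_add _ }⟩

end split

section retraction

variable {X Z : Scheme.{u}} (i : Z ⟶ X) (r : X ⟶ Z) (hr : i ≫ r = 𝟙 Z)
  (hsurj : Function.Surjective i.base)

include hr hsurj in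
theorem le_preimage_preimage (U : X.Opens) : U ≤ r ⁻¹ᵁ (i ⁻¹ᵁ U) := by
  intro x hx
  obtain ⟨z, rfl⟩ := hsurj x
  change i.base (r.base (i.base z)) ∈ U
  have h1 : r.base (i.base z) = z := by
    have := congrArg (fun f => f.base z) hr
    exact this
  rw [h1]
  exact hx

/-- the ring map `Γ(Z, i⁻¹U) ⟶ Γ(X, U)` induced by the retraction. -/
noncomputable def τ (U : X.Opens) : Γ(Z, i ⁻¹ᵁ U) ⟶ Γ(X, U) :=
  r.app (i ⁻¹ᵁ U) ≫ X.presheaf.map (homOfLE (le_preimage_preimage i r hr hsurj U)).op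

theorem τ_naturality {U V : X.Opens} (h : V ≤ U) :
    Z.presheaf.map (homOfLE (i.preimage_mono h)).op ≫ τ i r hr hsurj V =
      τ i r hr hsurj U ≫ X.presheaf.map (homOfLE h).op := by
  unfold τ
  rw [← Category.assoc, r.naturality, Category.assoc, Category.assoc, ← Functor.map_comp,
    ← Functor.map_comp]
  rfl

theorem τ_app (U : X.Opens) : τ i r hr hsurj U ≫ i.app U = 𝟙 _ := by
  unfold τ
  rw [Category.assoc, i.naturality, ← Category.assoc, ← Scheme.Hom.comp_app,
    Scheme.Hom.congr_app hr, Scheme.Hom.id_app]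
  erw [Category.id_comp, ← Functor.map_comp]
  exact (congrArg Z.presheaf.map (Subsingleton.elim _ (𝟙 _))).trans (Z.presheaf.map_id _)

/-- the section of `O_X^× ⟶ i_* O_Z^×` induced by a retraction of `i`. -/
noncomputable def sectionOfRetraction :
    (CohTop.push i.base).obj (UnitsSh.unitsAb Z) ⟶ UnitsSh.unitsAb X :=
  ⟨{ app := fun W => UnitsSh.unitsFunctor.map (τ i r hr hsurj W.unop)
     naturality := by
       intro W W' h
       have hh : h = (homOfLE h.unop.le).op := Subsingleton.elim _ _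
       rw [hh]
       change UnitsSh.unitsFunctor.map (Z.presheaf.map (homOfLE (i.preimage_mono h.unop.le)).op) ≫
         UnitsSh.unitsFunctor.map (τ i r hr hsurj W'.unop) =
         UnitsSh.unitsFunctor.map (τ i r hr hsurj W.unop) ≫
           UnitsSh.unitsFunctor.map (X.presheaf.map (homOfLE h.unop.le).op)
       rw [← Functor.map_comp, ← Functor.map_comp, τ_naturality] }⟩

theorem sectionOfRetraction_comap :
    sectionOfRetraction i r hr hsurj ≫ UnitsSh.comap i = 𝟙 _ := by
  apply Sheaf.hom_ext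
  ext W s
  change (UnitsSh.unitsFunctor.map (τ i r hr hsurj W.unop) ≫
    UnitsSh.unitsFunctor.map (i.app W.unop)) s = s
  rw [← Functor.map_comp, τ_app, CategoryTheory.Functor.map_id]
  rfl

end retraction

section main

open Groth.Agent.Lib.Helper17.FlatDev Groth.Agent.Lib.Helper23.GenLocus
  Groth.Agent.Lib.Helper23.Serre Groth.Agent.Lib.Helper23.PB Groth.Agent.Lib.Helper6
  Groth.Agent.Lib.Helper23.QCohLocal Groth.Agent.Lib.Helper17.IAdic

variable {A : Type u} [CommRing A] {X : Scheme.{u}} [X.Over (Spec (CommRingCat.of A))]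
  {B : Type u} [CommRing B] (φ : A →+* B) (hφ : Function.Surjective φ)

include hφ in
theorem surjective_specMap (hnil : ∀ b ∈ RingHom.ker φ, IsNilpotent b) :
    Surjective (Spec.map (CommRingCat.ofHom φ)) := by
  constructor
  intro p
  have h1 : Set.range (PrimeSpectrum.comap φ) = Set.univ := by
    rw [range_comap_of_surjective _ φ hφ, PrimeSpectrum.zeroLocus_eq_univ_iff]
    intro b hb
    exact mem_nilradical.2 (hnil b hb)
  obtain ⟨q, hq⟩ := (Set.ext_iff.1 h1 p).2 trivial
  exact ⟨q, hq⟩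

include hφ in
theorem surjective_iB (hnil : ∀ b ∈ RingHom.ker φ, IsNilpotent b) :
    Function.Surjective (iB (X := X) φ).base := by
  haveI := surjective_specMap φ hφ hnil
  haveI : Surjective (iB (X := X) φ) :=
    MorphismProperty.pullback_fst (P := @Surjective) _ _ inferInstance
  exact (iB (X := X) φ).surjective

variable [IsLocalRing A] [Flat (X ↘ Spec (CommRingCat.of A))]

theorem nonempty_kernel_iso_socle (t : A) (ht0 : t ≠ 0)
    (hmt : ∀ x ∈ IsLocalRing.maximalIdeal A, x * t = 0)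
    {G : CohTop.Ab X.toTopCat} (f : UnitsSh.unitsAb X ⟶ G)
    (hf : IsKer (Ideal.span {t}) f) (hnil : IsNilpotent t)
    (ht : t ∈ IsLocalRing.maximalIdeal A) :
    Nonempty (kernel f ≅
      (toAbF X).obj (Q (IsLocalRing.maximalIdeal A) (Coh.structureModule X))) := by
  haveI : (Coh.structureModule X).IsQuasicoherent := isQuasicoherent_structureModule' X
  have hm : ∀ b ∈ IsLocalRing.maximalIdeal A, t * b ∈ (⊥ : Ideal A) := fun b hb => by
    rw [mul_comm, hmt b hb]
    exact Submodule.zero_mem _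
  have hc : (⊥ : Ideal A) = Ideal.span (Set.range (Fin.elim0 : Fin 0 → A)) := by
    rw [Set.range_eq_empty, Ideal.span_empty]
  have ht' : t ∉ (⊥ : Ideal A) := fun h => ht0 ((Submodule.mem_bot A).1 h)
  have hS₀ := stepSC_shortExact'' (Coh.structureModule X) (IsLocalRing.maximalIdeal A) ⊥ t hm
    (Fin.elim0 : Fin 0 → A) hc isFlatOver_structureModule (colon_of_not_mem ⊥ t ht')
  have hf'' : IsKer ((⊥ : Ideal A) ⊔ Ideal.span {t}) f := by rwa [bot_sup_eq]
  have hf' : IsKer (⊥ : Ideal A) (UnitsSh.comap (iB (X := X) (Ideal.Quotient.mk (⊥ : Ideal A)))) := by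
    have h := isKer_comap (X := X) (Ideal.Quotient.mk (⊥ : Ideal A)) Ideal.Quotient.mk_surjective
    rwa [Ideal.mk_ker] at h
  have hle : (⊥ : Ideal A) ⊔ Ideal.span {t} ≤ IsLocalRing.maximalIdeal A :=
    sup_le bot_le ((Ideal.span_singleton_le_iff_mem _).2 ht)
  have hJJ : ∀ b ∈ (⊥ : Ideal A) ⊔ Ideal.span {t}, ∀ b' ∈ (⊥ : Ideal A) ⊔ Ideal.span {t},
      b * b' ∈ (⊥ : Ideal A) := fun b hb b' hb' => mul_mem_of_mem_sup hm hb (hle hb')
  let T := stepT ⊥ t (IsLocalRing.maximalIdeal A) hm
    (UnitsSh.comap (iB (X := X) (Ideal.Quotient.mk (⊥ : Ideal A)))) f hf' hf'' hJJ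
    (Fin.elim0 : Fin 0 → A) hc hS₀
  have hT : T.ShortExact := stepT_shortExact ⊥ t (IsLocalRing.maximalIdeal A) hm _ f hf' hf'' hJJ
    (Fin.elim0 : Fin 0 → A) hc hS₀ hnil
  have h0 : T.f = 0 := (isZero_kernel_of_isKer_bot _ hf').eq_of_src _ _
  haveI : Mono T.g := hT.exact.mono_g h0
  haveI : Epi T.g := hT.epi_g
  haveI : IsIso T.g := isIso_of_mono_of_epi _
  have e : T.X₂ ≅ T.X₃ := asIso T.g
  exact ⟨e⟩

include hφ in
/-- the tangent space of `H^q(O^×)`: for a split first order thickening given by a socle element generating the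
maximal ideal, the kernel of `H^q(X, O_X^×) → H^q(X, i_* O_Z^×)` is `H^q(Z, O_Z)`. -/
theorem nonempty_ker_equiv_HH (t : A) (ht0 : t ≠ 0)
    (hmt : ∀ x ∈ IsLocalRing.maximalIdeal A, x * t = 0) (ht : t ∈ IsLocalRing.maximalIdeal A)
    (hker : RingHom.ker φ = Ideal.span {t}) (hm : IsLocalRing.maximalIdeal A = Ideal.span {t})
    (r : X ⟶ pullback (X ↘ Spec (CommRingCat.of A)) (Spec.map (CommRingCat.ofHom φ)))
    (hr : iB (X := X) φ ≫ r = 𝟙 _) (q : ℕ) :
    Nonempty ((Sheaf.H.map (UnitsSh.comap (iB (X := X) φ)) q).ker ≃+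
      Coh.HH (pullback (X ↘ Spec (CommRingCat.of A)) (Spec.map (CommRingCat.ofHom φ)))
        (Coh.structureModule _) q) := by
  haveI : (Coh.structureModule X).IsQuasicoherent := isQuasicoherent_structureModule' X
  have hnilt : IsNilpotent t := ⟨2, by rw [pow_two]; exact hmt t ht⟩
  have hnil : ∀ b ∈ RingHom.ker φ, IsNilpotent b := by
    intro b hb
    rw [hker] at hb
    obtain ⟨x, rfl⟩ := Ideal.mem_span_singleton'.1 hb
    exact Commute.isNilpotent_mul_left (Commute.all _ _) hnilt
  have hsurj := surjective_iB (X := X) φ hφ hnil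
  have hsq := IsPullback.of_hasPullback (X ↘ Spec (CommRingCat.of A))
    (Spec.map (CommRingCat.ofHom φ))
  haveI : IsClosedImmersion (iB (X := X) φ) :=
    isClosedImmersion_of_surjective φ (iB φ) (pullback.snd _ _) hsq hφ
  obtain ⟨e1⟩ := nonempty_ker_H_map_equiv (UnitsSh.comap (iB (X := X) φ))
    (sectionOfRetraction (iB (X := X) φ) r hr hsurj)
    (sectionOfRetraction_comap (iB (X := X) φ) r hr hsurj) q
  have hf : IsKer (Ideal.span {t}) (UnitsSh.comap (iB (X := X) φ)) := by
    have h := isKer_comap (X := X) φ hφ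
    rwa [hker] at h
  have e2 := nonempty_kernel_iso_socle t ht0 hmt (UnitsSh.comap (iB (X := X) φ)) hf hnilt ht
  have hker' : RingHom.ker φ = IsLocalRing.maximalIdeal A := hker.trans hm.symm
  rw [← hker'] at e2
  obtain ⟨e2⟩ := e2
  obtain ⟨e2'⟩ := nonempty_H_equiv_of_iso e2 q
  obtain ⟨e3⟩ := nonempty_H_equiv_of_iso ((toAbF X).mapIso
    (quotIso φ (iB (X := X) φ) (pullback.snd _ _) hsq (Coh.structureModule X) hφ)) q
  obtain ⟨e4⟩ := nonempty_H_equiv_of_iso ((toAbF X).mapIso
    ((Scheme.Modules.pushforward (iB (X := X) φ)).mapIso (pullbackUnitIso (iB (X := X) φ)))) q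
  obtain ⟨e5⟩ := Groth.Agent.Lib.Helper16.ClosedEmb.nonempty_H_push (iB (X := X) φ).base
    (iB (X := X) φ).isClosedEmbedding
    (Coh.toAb (Coh.structureModule
      (pullback (X ↘ Spec (CommRingCat.of A)) (Spec.map (CommRingCat.ofHom φ))))) q
  exact ⟨e1.trans (e2'.trans (e3.trans (e4.trans e5.symm)))⟩

end main

end Groth.Agent.Lib.Helper17.UnitsK
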