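-- helper17: the class `R` of `u_pp 𝒮` has a right calculus of fractions.
import Groth.Prelude.Def_W4stkalgstUpp
import Groth.Prelude.Def_FibCat2
import Mathlib.CategoryTheory.Localization.CalculusOfFractions
import Mathlib.CategoryTheory.Limits.Preserves.Basic
import Mathlib.CategoryTheory.FinCategory.Basic
import Mathlib.CategoryTheory.FiberedCategory.Fibered
import Mathlib.CategoryTheory.Limits.Preserves.Shapes.Pullbacks
import Mathlib.CategoryTheory.Limits.Preserves.Shapes.Equalizers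
import Mathlib.CategoryTheory.Limits.Shapes.Pullback.IsPullback.Basic

set_option autoImplicit false
set_option backward.isDefEq.respectTransparency false
set_option backward.isDefEq.respectTransparency.types false
open CategoryTheory CategoryTheory.Functor CategoryTheory.Limits

universe v₃ u₃ v₂ u₂ v u

namespace Groth.Agent.Lib.Helper17.Upp

section

variable {C : Type u} [Category.{v} C] {D : Type u₂} [Category.{v₂} D] {u : C ⥤ D}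
  {𝒮 : BasedCategory.{v₃, u₃} C}

theorem sc_map_of_sc {R S : C} {a b : 𝒮.obj} (f : R ⟶ S) (φ : a ⟶ b)
    [h : 𝒮.p.IsStronglyCartesian f φ] : 𝒮.p.IsStronglyCartesian (𝒮.p.map φ) φ := by
  have e1 := IsHomLift.domain_eq 𝒮.p f φ
  have e2 := IsHomLift.codomain_eq 𝒮.p f φ
  subst e1 e2
  have e : f = 𝒮.p.map φ := by
    have := IsHomLift.fac 𝒮.p f φ
    simpa using this
  subst e
  exact h

theorem uppR_id (X : Stk.UppObj u 𝒮) : Stk.uppR u 𝒮 (𝟙 X) := by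
  refine ⟨?_, ?_⟩
  · change 𝒮.p.IsStronglyCartesian (𝒮.p.map (𝟙 X.x)) (𝟙 X.x)
    infer_instance
  · change IsIso (𝟙 X.V)
    infer_instance

theorem uppR_comp {X Y Z : Stk.UppObj u 𝒮} (f : X ⟶ Y) (g : Y ⟶ Z) (hf : Stk.uppR u 𝒮 f)
    (hg : Stk.uppR u 𝒮 g) : Stk.uppR u 𝒮 (f ≫ g) := by
  obtain ⟨hf1, hf2⟩ := hf
  obtain ⟨hg1, hg2⟩ := hg
  refine ⟨?_, ?_⟩
  · change 𝒮.p.IsStronglyCartesian (𝒮.p.map (f.top ≫ g.top)) (f.top ≫ g.top)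
    rw [𝒮.p.map_comp]
    infer_instance
  · change IsIso (f.bot ≫ g.bot)
    infer_instance

instance : (Stk.uppR u 𝒮).IsMultiplicative where
  id_mem X := uppR_id X
  comp_mem f g hf hg := uppR_comp f g hf hg

theorem ore_aux {X Y Y' : Stk.UppObj u 𝒮} (f : X ⟶ Y') (s : Y ⟶ Y') (hs : Stk.uppR u 𝒮 s)
    {P : C} (g : P ⟶ 𝒮.p.obj X.x) (g' : P ⟶ 𝒮.p.obj Y.x)
    (hpb : IsPullback g g' (𝒮.p.map f.top) (𝒮.p.map s.top))
    (hupb : IsPullback (u.map g) (u.map g') (u.map (𝒮.p.map f.top)) (u.map (𝒮.p.map s.top)))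
    {x' : 𝒮.obj} (t₀ : x' ⟶ X.x) [h₀ : 𝒮.p.IsStronglyCartesian g t₀] :
    ∃ ψ : (Stk.uppR u 𝒮).RightFraction X Y, ψ.s ≫ f = ψ.f ≫ s := by
  have e := IsHomLift.domain_eq 𝒮.p g t₀
  subst e
  have hg : g = 𝒮.p.map t₀ := by
    have := IsHomLift.fac 𝒮.p g t₀
    simpa using this
  subst hg
  obtain ⟨hs1, hs2⟩ := hs
  have c1 : X.φ ≫ u.map (𝒮.p.map f.top) =
      (f.bot ≫ inv s.bot ≫ Y.φ) ≫ u.map (𝒮.p.map s.top) := by
    rw [f.w, Category.assoc, Category.assoc, s.w]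
    simp
  obtain ⟨φ', hφ1, hφ2⟩ : ∃ φ' : X.V ⟶ u.obj (𝒮.p.obj x'),
      φ' ≫ u.map (𝒮.p.map t₀) = X.φ ∧ φ' ≫ u.map g' = f.bot ≫ inv s.bot ≫ Y.φ :=
    ⟨hupb.lift _ _ c1, hupb.lift_fst _ _ c1, hupb.lift_snd _ _ c1⟩
  have hf' : 𝒮.p.map (t₀ ≫ f.top) = g' ≫ 𝒮.p.map s.top := by
    rw [𝒮.p.map_comp, hpb.w]
  obtain ⟨χ, ⟨hχ, eχ⟩, -⟩ := IsStronglyCartesian.universal_property 𝒮.p (𝒮.p.map s.top) s.top
    g' (𝒮.p.map (t₀ ≫ f.top)) hf' (t₀ ≫ f.top)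
  have hχ' : 𝒮.p.map χ = g' := by
    have := IsHomLift.fac 𝒮.p g' χ
    simpa using this.symm
  let X' : Stk.UppObj u 𝒮 := ⟨x', X.V, φ'⟩
  let t : X' ⟶ X := ⟨t₀, 𝟙 _, by simp [X', hφ1]⟩
  let G : X' ⟶ Y := ⟨χ, f.bot ≫ inv s.bot, by
    change φ' ≫ u.map (𝒮.p.map χ) = (f.bot ≫ inv s.bot) ≫ Y.φ
    rw [hχ', hφ2, Category.assoc]⟩
  have ht : Stk.uppR u 𝒮 t := ⟨h₀, by change IsIso (𝟙 X.V); infer_instance⟩
  refine ⟨⟨t, ht, G⟩, ?_⟩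
  apply Stk.UppObj.hom_ext
  · exact eχ.symm
  · change 𝟙 _ ≫ f.bot = (f.bot ≫ inv s.bot) ≫ s.bot
    simp

theorem ext_aux {X Y Y' : Stk.UppObj u 𝒮} (f₁ f₂ : X ⟶ Y) (s : Y ⟶ Y') (hs : Stk.uppR u 𝒮 s)
    (hfs : f₁ ≫ s = f₂ ≫ s)
    {E : C} (e : E ⟶ 𝒮.p.obj X.x) (he : e ≫ 𝒮.p.map f₁.top = e ≫ 𝒮.p.map f₂.top)
    (hlift : ∀ k : X.V ⟶ u.obj (𝒮.p.obj X.x),
      k ≫ u.map (𝒮.p.map f₁.top) = k ≫ u.map (𝒮.p.map f₂.top) →
        ∃ l : X.V ⟶ u.obj E, l ≫ u.map e = k)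
    {x' : 𝒮.obj} (t₀ : x' ⟶ X.x) [h₀ : 𝒮.p.IsStronglyCartesian e t₀] :
    ∃ (X' : Stk.UppObj u 𝒮) (t : X' ⟶ X) (_ : Stk.uppR u 𝒮 t), t ≫ f₁ = t ≫ f₂ := by
  have e0 := IsHomLift.domain_eq 𝒮.p e t₀
  subst e0
  have hg : e = 𝒮.p.map t₀ := by
    have := IsHomLift.fac 𝒮.p e t₀
    simpa using this
  subst hg
  obtain ⟨hs1, hs2⟩ := hs
  have hbot : f₁.bot = f₂.bot := by
    have h := congrArg (fun m => m.bot) hfs
    have h' : f₁.bot ≫ s.bot = f₂.bot ≫ s.bot := h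
    exact (cancel_mono s.bot).1 h'
  have htop : f₁.top ≫ s.top = f₂.top ≫ s.top := congrArg (fun m => m.top) hfs
  have c1 : X.φ ≫ u.map (𝒮.p.map f₁.top) = X.φ ≫ u.map (𝒮.p.map f₂.top) := by
    rw [f₁.w, f₂.w, hbot]
  obtain ⟨φ', hφ'⟩ := hlift X.φ c1
  let X' : Stk.UppObj u 𝒮 := ⟨x', X.V, φ'⟩
  let t : X' ⟶ X := ⟨t₀, 𝟙 _, by simp [X', hφ']⟩
  have ht : Stk.uppR u 𝒮 t := ⟨h₀, by change IsIso (𝟙 X.V); infer_instance⟩
  refine ⟨X', t, ht, ?_⟩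
  apply Stk.UppObj.hom_ext
  · change t₀ ≫ f₁.top = t₀ ≫ f₂.top
    have l1 : 𝒮.p.IsHomLift (𝒮.p.map t₀ ≫ 𝒮.p.map f₁.top) (t₀ ≫ f₁.top) := inferInstance
    have l2 : 𝒮.p.IsHomLift (𝒮.p.map t₀ ≫ 𝒮.p.map f₁.top) (t₀ ≫ f₂.top) := by
      rw [he]; infer_instance
    apply IsStronglyCartesian.ext 𝒮.p (𝒮.p.map s.top) s.top (𝒮.p.map t₀ ≫ 𝒮.p.map f₁.top)
    rw [Category.assoc, Category.assoc, htop]
  · change 𝟙 _ ≫ f₁.bot = 𝟙 _ ≫ f₂.bot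
    rw [hbot]

end

section Main

variable {C : Type u} [Category.{v} C] {D : Type u₂} [Category.{v₂} D] (u : C ⥤ D)
  (𝒮 : BasedCategory.{v₃, u₃} C) [𝒮.p.IsFibered]

theorem hasRightCalculusOfFractions_uppR [HasPullbacks C] [HasEqualizers C]
    [PreservesLimitsOfShape WalkingCospan u] [PreservesLimitsOfShape WalkingParallelPair u] :
    (Stk.uppR u 𝒮).HasRightCalculusOfFractions where
  exists_rightFraction X Y φ := by
    obtain ⟨f, s, hs⟩ := φ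
    have hpb := IsPullback.of_hasPullback (𝒮.p.map f.top) (𝒮.p.map s.top)
    have hupb := hpb.map u
    have := IsPreFibered.pullbackMap.IsCartesian (p := 𝒮.p) (a := X.x) rfl
      (pullback.fst (𝒮.p.map f.top) (𝒮.p.map s.top))
    exact ore_aux f s hs _ _ hpb hupb
      (IsPreFibered.pullbackMap (p := 𝒮.p) (a := X.x) rfl
        (pullback.fst (𝒮.p.map f.top) (𝒮.p.map s.top)))
  ext X Y Y' f₁ f₂ s hs hfs := by
    have hl := isLimitForkMapOfIsLimit u (equalizer.condition (𝒮.p.map f₁.top) (𝒮.p.map f₂.top))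
      (equalizerIsEqualizer (𝒮.p.map f₁.top) (𝒮.p.map f₂.top))
    have := IsPreFibered.pullbackMap.IsCartesian (p := 𝒮.p) (a := X.x) rfl
      (equalizer.ι (𝒮.p.map f₁.top) (𝒮.p.map f₂.top))
    refine ext_aux f₁ f₂ s hs hfs (equalizer.ι (𝒮.p.map f₁.top) (𝒮.p.map f₂.top))
      (equalizer.condition _ _) ?_
      (IsPreFibered.pullbackMap (p := 𝒮.p) (a := X.x) rfl
        (equalizer.ι (𝒮.p.map f₁.top) (𝒮.p.map f₂.top)))
    intro k hk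
    obtain ⟨l, hl'⟩ := Fork.IsLimit.lift' hl k hk
    exact ⟨l, hl'⟩

end Main

end Groth.Agent.Lib.Helper17.Upp
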