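-- helper17: strongly cartesian morphisms survive localisation with a right calculus of fractions.
import Groth.Agent.Lib.Helper17Upp1

set_option autoImplicit false
set_option backward.isDefEq.respectTransparency false
set_option backward.isDefEq.respectTransparency.types false
open CategoryTheory CategoryTheory.Functor CategoryTheory.Limits

universe v₃ u₃ v₂ u₂ v u

namespace Groth.Agent.Lib.Helper17.Upp

section Loc

variable {E : Type u} [Category.{v} E] (W : MorphismProperty E) {D : Type u₂} [Category.{v₂} D]
  (F : E ⥤ D) (hF : W.IsInvertedBy F)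

theorem lift_map_Q {X Y : E} (f : X ⟶ Y) :
    (Localization.Construction.lift F hF).map (W.Q.map f) = F.map f := by
  have h := CategoryTheory.Functor.congr_hom (Localization.Construction.fac F hF) f
  simpa using h

theorem lift_map_fraction {X Y : E} (φ : W.RightFraction X Y) :
    F.map φ.s ≫ (Localization.Construction.lift F hF).map (φ.map W.Q (Localization.inverts W.Q W)) =
      F.map φ.f := by
  rw [← lift_map_Q W F hF φ.s, ← CategoryTheory.Functor.map_comp,
    MorphismProperty.RightFraction.map_s_comp_map, lift_map_Q]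

theorem exists_eq_Q_obj (a : W.Localization) : ∃ Z : E, a = W.Q.obj Z := ⟨a.as.obj, rfl⟩

theorem map_eq_of_isHomLift {p : E ⥤ D} {a b : E} (f : p.obj a ⟶ p.obj b) (φ : a ⟶ b)
    (h : p.IsHomLift f φ) : p.map φ = f := by
  have := IsHomLift.fac' p f φ
  simpa using this

theorem isHomLift_of_map_eq {p : E ⥤ D} {a b : E} (f : p.obj a ⟶ p.obj b) (φ : a ⟶ b)
    (h : p.map φ = f) : p.IsHomLift f φ := by
  subst h; infer_instance

theorem isStronglyCartesian_Q_map [W.HasRightCalculusOfFractions] {X' X : E} (γ : X' ⟶ X)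
    [hγ : F.IsStronglyCartesian (F.map γ) γ] :
    (Localization.Construction.lift F hF).IsStronglyCartesian (F.map γ) (W.Q.map γ) := by
  have hlift : (Localization.Construction.lift F hF).IsHomLift (F.map γ) (W.Q.map γ) := by
    apply IsHomLift.of_fac' _ _ _ rfl rfl
    rw [lift_map_Q]; simp
  refine { toIsHomLift := hlift, universal_property' := ?_ }
  intro a' h m hm
  obtain ⟨Z, rfl⟩ := exists_eq_Q_obj W a'
  have h' : F.obj Z ⟶ F.obj X' := h
  have em : (Localization.Construction.lift F hF).map m = h ≫ F.map γ := by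
    have := IsHomLift.fac' (Localization.Construction.lift F hF) (h ≫ F.map γ) m
    simpa using this
  obtain ⟨φr, hφr⟩ := Localization.exists_rightFraction W.Q W m
  have e1 := lift_map_fraction W F hF φr
  rw [← hφr, em] at e1
  have e1' : F.map φr.f = (F.map φr.s ≫ h) ≫ F.map γ := by rw [← e1, Category.assoc]
  obtain ⟨f', ⟨hf'1, hf'2⟩, -⟩ := IsStronglyCartesian.universal_property F (F.map γ) γ
    (F.map φr.s ≫ h) (F.map φr.f) e1' φr.f
  have ef' : F.map f' = F.map φr.s ≫ h := by
    have := IsHomLift.fac' F (F.map φr.s ≫ h) f'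
    simpa using this
  have := hF _ φr.hs
  have hχ1 : (Localization.Construction.lift F hF).map
      ((MorphismProperty.RightFraction.mk φr.s φr.hs f').map W.Q (Localization.inverts W.Q W)) =
        h := by
    have e2 := lift_map_fraction W F hF (MorphismProperty.RightFraction.mk φr.s φr.hs f')
    simp only at e2
    rw [ef'] at e2
    exact (cancel_epi (F.map φr.s)).1 e2
  refine ⟨(MorphismProperty.RightFraction.mk φr.s φr.hs f').map W.Q (Localization.inverts W.Q W),
    ⟨?_, ?_⟩, ?_⟩
  · apply IsHomLift.of_fac' _ _ _ rfl rfl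
    rw [hχ1]; simp
  · have : IsIso (W.Q.map φr.s) := Localization.inverts W.Q W _ φr.hs
    have e5 := MorphismProperty.RightFraction.map_s_comp_map
      (MorphismProperty.RightFraction.mk φr.s φr.hs f') W.Q (Localization.inverts W.Q W)
    simp only at e5
    rw [← cancel_epi (W.Q.map φr.s), hφr,
      MorphismProperty.RightFraction.map_s_comp_map, reassoc_of% e5]
    rw [← W.Q.map_comp, hf'2]
  · rintro χ₂ ⟨h1, h2⟩
    obtain ⟨φ₂, hφ₂⟩ := Localization.exists_rightFraction W.Q W χ₂
    rw [hφ₂]
    apply (MorphismProperty.RightFraction.map_eq_iff W.Q W φ₂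
      (MorphismProperty.RightFraction.mk φr.s φr.hs f')).2
    have e3 : (MorphismProperty.RightFraction.mk φ₂.s φ₂.hs (φ₂.f ≫ γ)).map W.Q
        (Localization.inverts W.Q W) = φr.map W.Q (Localization.inverts W.Q W) := by
      rw [← hφr, ← h2, hφ₂]
      simp [MorphismProperty.RightFraction.map]
    obtain ⟨Z₃, t₁, t₂, hst, hft, ht⟩ :=
      (MorphismProperty.RightFraction.map_eq_iff W.Q W _ _).1 e3
    simp only at hst hft ht
    refine ⟨Z₃, t₁, t₂, hst, ?_, ht⟩
    simp only
    have eχ₂ : (Localization.Construction.lift F hF).map χ₂ = h := by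
      have := IsHomLift.fac' (Localization.Construction.lift F hF) h χ₂
      simpa using this
    have e4 := lift_map_fraction W F hF φ₂
    rw [← hφ₂, eχ₂] at e4
    have l1 : F.IsHomLift (F.map (t₁ ≫ φ₂.f)) (t₁ ≫ φ₂.f) := inferInstance
    have l2 : F.IsHomLift (F.map (t₁ ≫ φ₂.f)) (t₂ ≫ f') := by
      have : F.map (t₁ ≫ φ₂.f) = F.map (t₂ ≫ f') := by
        rw [F.map_comp, F.map_comp, ef', ← e4, ← Category.assoc, ← F.map_comp, hst,
          F.map_comp, Category.assoc]
      rw [this]; infer_instance
    apply IsStronglyCartesian.ext F (F.map γ) γ (F.map (t₁ ≫ φ₂.f))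
    rw [Category.assoc, Category.assoc, hf'2, hft]

end Loc

end Groth.Agent.Lib.Helper17.Upp
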