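-- helper17: `u_p 𝒮` is fibred (in groupoids) over `D`.
import Groth.Agent.Lib.Helper17Upp2
import Groth.Agent.Lib.Helper17FibCat

set_option autoImplicit false
set_option backward.isDefEq.respectTransparency false
set_option backward.isDefEq.respectTransparency.types false
open CategoryTheory CategoryTheory.Functor CategoryTheory.Limits

universe v₃ u₃ v₂ u₂ v u

namespace Groth.Agent.Lib.Helper17.Upp

section

variable {C : Type u} [Category.{v} C] {D : Type u₂} [Category.{v₂} D] {u : C ⥤ D}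
  {𝒮 : BasedCategory.{v₃, u₃} C}

/-- the source of the cartesian lift of `g` with target `X` -/
def pbObj (X : Stk.UppObj u 𝒮) {V' : D} (g : V' ⟶ X.V) : Stk.UppObj u 𝒮 := ⟨X.x, V', g ≫ X.φ⟩

/-- the cartesian lift of `g` with target `X` -/
def pbMap (X : Stk.UppObj u 𝒮) {V' : D} (g : V' ⟶ X.V) : pbObj X g ⟶ X :=
  ⟨𝟙 X.x, g, by simp [pbObj]⟩

theorem pbMap_bot (X : Stk.UppObj u 𝒮) {V' : D} (g : V' ⟶ X.V) :
    (Stk.UppObj.forget u 𝒮).map (pbMap X g) = g := rfl

instance sc_pbMap (X : Stk.UppObj u 𝒮) {V' : D} (g : V' ⟶ X.V) :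
    (Stk.UppObj.forget u 𝒮).IsStronglyCartesian ((Stk.UppObj.forget u 𝒮).map (pbMap X g))
      (pbMap X g) := by
  refine { toIsHomLift := inferInstance, universal_property' := ?_ }
  intro Z h m hm
  have em : m.bot = h ≫ g := by
    have := IsHomLift.fac' (Stk.UppObj.forget u 𝒮) (h ≫ (Stk.UppObj.forget u 𝒮).map (pbMap X g)) m
    simp only [Stk.UppObj.forget_map, eqToHom_refl, Category.comp_id, Category.id_comp] at this
    exact this
  have h' : Z.V ⟶ V' := h
  let χ : Z ⟶ pbObj X g := ⟨m.top, h, by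
    change Z.φ ≫ u.map (𝒮.p.map m.top) = h ≫ g ≫ X.φ
    rw [m.w, em, Category.assoc]⟩
  refine ⟨χ, ⟨?_, ?_⟩, ?_⟩
  · apply IsHomLift.of_fac' _ _ _ rfl rfl
    simp only [eqToHom_refl, Category.comp_id, Category.id_comp]
    rfl
  · apply Stk.UppObj.hom_ext
    · change m.top ≫ 𝟙 _ = m.top
      simp
    · change h ≫ g = m.bot
      exact em.symm
  · rintro χ₂ ⟨h1, h2⟩
    have e1 : χ₂.bot = h := by
      have := IsHomLift.fac' (Stk.UppObj.forget u 𝒮) h χ₂
      simpa using this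
    have e2 : χ₂.top ≫ 𝟙 _ = m.top := congrArg (fun t => t.top) h2
    apply Stk.UppObj.hom_ext
    · change χ₂.top = m.top
      rw [← e2, Category.comp_id]
    · exact e1

end

section Main

variable {C : Type u} [Category.{v} C] {D : Type u₂} [Category.{v₂} D] (u : C ⥤ D)
  (𝒮 : BasedCategory.{v₃, u₃} C)

theorem exists_sc_lift_up [(Stk.uppR u 𝒮).HasRightCalculusOfFractions]
    (a : (Stk.up u 𝒮).obj) (R : D) (f : R ⟶ (Stk.up u 𝒮).p.obj a) :
    ∃ (b : (Stk.up u 𝒮).obj) (φ : b ⟶ a), (Stk.up u 𝒮).p.IsStronglyCartesian f φ := by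
  obtain ⟨X, rfl⟩ := exists_eq_Q_obj (Stk.uppR u 𝒮) a
  have f' : R ⟶ X.V := f
  exact ⟨(Stk.uppR u 𝒮).Q.obj (pbObj X f), (Stk.uppR u 𝒮).Q.map (pbMap X f),
    isStronglyCartesian_Q_map (Stk.uppR u 𝒮) (Stk.UppObj.forget u 𝒮)
      (Stk.uppR_isInvertedBy u 𝒮) (pbMap X f)⟩

theorem isFibered_up [(Stk.uppR u 𝒮).HasRightCalculusOfFractions] :
    (Stk.up u 𝒮).p.IsFibered :=
  IsFibered.of_exists_isStronglyCartesian (exists_sc_lift_up u 𝒮)

end Main

end Groth.Agent.Lib.Helper17.Upp
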