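-- helper17: `u_p 𝒮` is fibred in groupoids over `D` when `𝒮` is.
import Groth.Agent.Lib.Helper17Upp3

set_option autoImplicit false
set_option backward.isDefEq.respectTransparency false
set_option backward.isDefEq.respectTransparency.types false
open CategoryTheory CategoryTheory.Functor CategoryTheory.Limits

universe v₃ u₃ v₂ u₂ v u

namespace Groth.Agent.Lib.Helper17.Upp

section Main

variable {C : Type u} [Category.{v} C] {D : Type u₂} [Category.{v₂} D] (u : C ⥤ D)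
  (𝒮 : BasedCategory.{v₃, u₃} C)

theorem isFibGrpd_up (h𝒮 : FibCat.IsFibGrpd 𝒮.p)
    [(Stk.uppR u 𝒮).HasRightCalculusOfFractions] : FibCat.IsFibGrpd (Stk.up u 𝒮).p where
  exists_lift {x V} f := by
    obtain ⟨b, φ, hφ⟩ := exists_sc_lift_up u 𝒮 x V f
    exact ⟨b, φ, hφ.toIsHomLift⟩
  isStronglyCartesian {y x} m := by
    obtain ⟨Z, rfl⟩ := exists_eq_Q_obj _ y
    obtain ⟨X, rfl⟩ := exists_eq_Q_obj _ x
    obtain ⟨φr, hφr⟩ := Localization.exists_rightFraction (Stk.uppR u 𝒮).Q (Stk.uppR u 𝒮) m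
    obtain ⟨s, hs, f⟩ := φr
    let f₁ : _ ⟶ pbObj X f.bot := ⟨f.top, 𝟙 _, by
      change _ = 𝟙 _ ≫ f.bot ≫ X.φ
      rw [f.w, Category.id_comp]⟩
    have hf₁ : Stk.uppR u 𝒮 f₁ :=
      ⟨h𝒮.isStronglyCartesian f.top, by change IsIso (𝟙 _); infer_instance⟩
    have fac : f₁ ≫ pbMap X f.bot = f := by
      apply Stk.UppObj.hom_ext
      · change f.top ≫ 𝟙 _ = f.top
        simp
      · change 𝟙 _ ≫ f.bot = f.bot
        simp
    have i1 : IsIso ((Stk.uppR u 𝒮).Q.map s) := Localization.inverts _ (Stk.uppR u 𝒮) _ hs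
    have i2 : IsIso ((Stk.uppR u 𝒮).Q.map f₁) := Localization.inverts _ (Stk.uppR u 𝒮) _ hf₁
    have sc2 : (Stk.up u 𝒮).p.IsStronglyCartesian
        ((Stk.UppObj.forget u 𝒮).map (pbMap X f.bot)) ((Stk.uppR u 𝒮).Q.map (pbMap X f.bot)) :=
      isStronglyCartesian_Q_map (Stk.uppR u 𝒮) (Stk.UppObj.forget u 𝒮)
        (Stk.uppR_isInvertedBy u 𝒮) (pbMap X f.bot)
    have e : m = (inv ((Stk.uppR u 𝒮).Q.map s) ≫ (Stk.uppR u 𝒮).Q.map f₁) ≫
        (Stk.uppR u 𝒮).Q.map (pbMap X f.bot) := by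
      rw [hφr, Category.assoc, ← (Stk.uppR u 𝒮).Q.map_comp, fac]
      rfl
    have sc1 : (Stk.up u 𝒮).p.IsStronglyCartesian
        ((Stk.up u 𝒮).p.map (inv ((Stk.uppR u 𝒮).Q.map s) ≫ (Stk.uppR u 𝒮).Q.map f₁))
        (inv ((Stk.uppR u 𝒮).Q.map s) ≫ (Stk.uppR u 𝒮).Q.map f₁) := inferInstance
    have sc3 := IsStronglyCartesian.comp (Stk.up u 𝒮).p
      (f := (Stk.up u 𝒮).p.map (inv ((Stk.uppR u 𝒮).Q.map s) ≫ (Stk.uppR u 𝒮).Q.map f₁))
      (g := (Stk.UppObj.forget u 𝒮).map (pbMap X f.bot))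
      (φ := inv ((Stk.uppR u 𝒮).Q.map s) ≫ (Stk.uppR u 𝒮).Q.map f₁)
      (ψ := (Stk.uppR u 𝒮).Q.map (pbMap X f.bot))
    rw [e]
    exact @sc_map_of_sc _ _ (Stk.up u 𝒮) _ _ _ _ _ _ sc3

end Main

end Groth.Agent.Lib.Helper17.Upp
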