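import Mathlib

/-! Limits of acyclic complexes of abelian groups over well-ordered index sets (helper17). -/
set_option autoImplicit false
set_option linter.unusedSectionVars false
set_option linter.unusedVariables false
universe w
open CategoryTheory CategoryTheory.Limits Opposite

namespace Groth.Agent.Lib.Helper17.WOLim

section Abstract

variable {I : Type w} [LinearOrder I] [WellFoundedLT I]
  (X : I → ℤ → Type w) [∀ β n, AddCommGroup (X β n)]
  (d : ∀ β n m, X β n →+ X β m)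
  (res : ∀ {γ β : I}, γ ≤ β → ∀ n, X β n →+ X γ n)

/-- compatibility of a family on a set of indices. -/
def CompatOn (J : I → Prop) (n : ℤ) (x : ∀ γ, X γ n) : Prop :=
  ∀ γ γ' (h : γ ≤ γ'), J γ' → res h n (x γ') = x γ

/-- exactness of the limit over `J` at the spot `a → b → c`. -/
def E (J : I → Prop) (a b c : ℤ) : Prop :=
  ∀ z : ∀ γ, X γ b, CompatOn X res J b z → (∀ γ, J γ → d γ b c (z γ) = 0) →
    ∃ y : ∀ γ, X γ a, CompatOn X res J a y ∧ ∀ γ, J γ → d γ a b (y γ) = z γ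

variable (d_d : ∀ β a b c x, d β b c (d β a b x) = 0)
  (res_refl : ∀ β n x, res (le_refl β) n x = x)
  (res_res : ∀ {γ β α : I} (h₁ : γ ≤ β) (h₂ : β ≤ α) n x,
    res h₁ n (res h₂ n x) = res (h₁.trans h₂) n x)
  (res_d : ∀ {γ β : I} (h : γ ≤ β) n m x, d γ n m (res h n x) = res h m (d β n m x))
  (hex : ∀ β a b c, a + 1 = b → b + 1 = c → ∀ x : X β b, d β b c x = 0 →
    ∃ y : X β a, d β a b y = x)
  (hsurj : ∀ β n (x : ∀ γ, X γ n), CompatOn X res (· < β) n x →
    ∃ y : X β n, ∀ γ (h : γ < β), res h.le n y = x γ)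

include d_d res_refl res_res res_d hex hsurj in
theorem ext_step (γ : I) (a' a b c : ℤ) (h1 : a' + 1 = a) (h2 : a + 1 = b) (h3 : b + 1 = c)
    (hE : E X d res (· < γ) a' a b) (z : ∀ δ, X δ b)
    (hzc : CompatOn X res (· ≤ γ) b z) (hzd : ∀ δ, δ ≤ γ → d δ b c (z δ) = 0)
    (y' : ∀ δ, X δ a) (hyc : CompatOn X res (· < γ) a y')
    (hyd : ∀ δ, δ < γ → d δ a b (y' δ) = z δ) :
    ∃ v : X γ a, (∀ δ (h : δ < γ), res h.le a v = y' δ) ∧ d γ a b v = z γ := by
  classical
  obtain ⟨v₀, hv₀⟩ := hsurj γ a y' hyc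
  obtain ⟨c₀, hc₀⟩ : ∃ c₀ : X γ b, c₀ = z γ - d γ a b v₀ := ⟨_, rfl⟩
  have hc₀d : d γ b c c₀ = 0 := by
    rw [hc₀, map_sub, hzd γ le_rfl, d_d, sub_zero]
  have hc₀r : ∀ δ (h : δ < γ), res h.le b c₀ = 0 := by
    intro δ h
    rw [hc₀, map_sub, hzc δ γ h.le le_rfl, ← res_d, hv₀ δ h, hyd δ h, sub_self]
  obtain ⟨w₀, hw₀⟩ := hex γ a b c h2 h3 c₀ hc₀d
  let u : ∀ δ, X δ a := fun δ => if h : δ ≤ γ then res h a w₀ else 0
  have hu : ∀ δ (h : δ ≤ γ), u δ = res h a w₀ := fun δ h => dif_pos h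
  have huc : CompatOn X res (· < γ) a u := by
    intro δ δ' h hδ'
    rw [hu δ' hδ'.le, hu δ (h.trans hδ'.le), res_res]
  have hud : ∀ δ, δ < γ → d δ a b (u δ) = 0 := by
    intro δ h
    rw [hu δ h.le, res_d, hw₀, hc₀r δ h]
  obtain ⟨t, htc, htd⟩ := hE u huc hud
  obtain ⟨t₀, ht₀⟩ := hsurj γ a' t htc
  refine ⟨v₀ + w₀ - d γ a' a t₀, ?_, ?_⟩
  · intro δ h
    rw [map_sub, map_add, hv₀ δ h, ← res_d, ht₀ δ h, htd δ h, hu δ h.le, add_sub_cancel_right]
  · rw [map_sub, map_add, d_d, sub_zero, hw₀, hc₀, add_sub_cancel]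

include d_d res_refl res_res res_d hex hsurj in
theorem step_lemma (J : I → Prop) (hJ : ∀ γ γ', γ ≤ γ' → J γ' → J γ) (a' a b c : ℤ)
    (h1 : a' + 1 = a) (h2 : a + 1 = b) (h3 : b + 1 = c)
    (hE : ∀ γ, J γ → E X d res (· < γ) a' a b) : E X d res J a b c := by
  classical
  intro z hzc hzd
  let step : ∀ γ : I, (∀ δ, δ < γ → X δ a) → X γ a := fun γ prev =>
    if h : ∃ v : X γ a, (∀ δ (h : δ < γ), res h.le a v = prev δ h) ∧ d γ a b v = z γ
    then h.choose else 0
  let y : ∀ γ, X γ a := (wellFounded_lt (α := I)).fix step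
  have y_eq : ∀ γ, y γ = step γ (fun δ _ => y δ) := fun γ => WellFounded.fix_eq _ _ _
  have spec : ∀ γ, J γ → (∀ δ (h : δ < γ), res h.le a (y γ) = y δ) ∧ d γ a b (y γ) = z γ := by
    intro γ
    induction γ using (wellFounded_lt (α := I)).induction with
    | _ γ ih =>
      intro hγ
      have hyc : CompatOn X res (· < γ) a y := by
        intro δ δ' h hδ'
        rcases h.eq_or_lt with rfl | hlt
        · exact res_refl _ _ _
        · exact (ih δ' hδ' (hJ _ _ hδ'.le hγ)).1 δ hlt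
      have hyd : ∀ δ, δ < γ → d δ a b (y δ) = z δ :=
        fun δ h => (ih δ h (hJ _ _ h.le hγ)).2
      have hzc' : CompatOn X res (· ≤ γ) b z := fun δ δ' h hδ' => hzc δ δ' h (hJ _ _ hδ' hγ)
      have hzd' : ∀ δ, δ ≤ γ → d δ b c (z δ) = 0 := fun δ h => hzd δ (hJ _ _ h hγ)
      have hex' := ext_step X d res d_d res_refl res_res res_d hex hsurj γ a' a b c h1 h2 h3
        (hE γ hγ) z hzc' hzd' y hyc hyd
      rw [y_eq γ]
      show (∀ δ (h : δ < γ), res h.le a (step γ (fun δ _ => y δ)) = y δ) ∧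
        d γ a b (step γ (fun δ _ => y δ)) = z γ
      have : step γ (fun δ _ => y δ) = hex'.choose := dif_pos hex'
      rw [this]
      exact hex'.choose_spec
  refine ⟨y, ?_, fun γ hγ => (spec γ hγ).2⟩
  intro δ δ' h hδ'
  rcases h.eq_or_lt with rfl | hlt
  · exact res_refl _ _ _
  · exact (spec δ' hδ').1 δ hlt

include d_d res_refl res_res res_d hex hsurj in
theorem E_lt (β : I) : ∀ a b c : ℤ, a + 1 = b → b + 1 = c → E X d res (· < β) a b c := by
  induction β using (wellFounded_lt (α := I)).induction with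
  | _ β ih =>
    intro a b c h2 h3
    exact step_lemma X d res d_d res_refl res_res res_d hex hsurj (· < β)
      (fun γ γ' h h' => lt_of_le_of_lt h h') (a - 1) a b c (by ring) h2 h3
      (fun γ hγ => ih γ hγ (a - 1) a b (by ring) h2)

include d_d res_refl res_res res_d hex hsurj in
theorem E_univ (a b c : ℤ) (h2 : a + 1 = b) (h3 : b + 1 = c) :
    E X d res (fun _ => True) a b c :=
  step_lemma X d res d_d res_refl res_res res_d hex hsurj (fun _ => True)
    (fun _ _ _ _ => trivial) (a - 1) a b c (by ring) h2 h3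
    (fun γ _ => E_lt X d res d_d res_refl res_res res_d hex hsurj γ (a - 1) a b (by ring) h2)

end Abstract

section Concrete

variable {I : Type w} [LinearOrder I] [WellFoundedLT I]
  (K : Iᵒᵖ ⥤ CochainComplex AddCommGrpCat.{w} ℤ)

/-- the restriction maps. -/
noncomputable def res {γ β : I} (h : γ ≤ β) (n : ℤ) :
    (K.obj (op β)).X n →+ (K.obj (op γ)).X n :=
  ((K.map (homOfLE h).op).f n).hom

/-- the differentials. -/
noncomputable def dd (β : I) (n m : ℤ) : (K.obj (op β)).X n →+ (K.obj (op β)).X m :=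
  ((K.obj (op β)).d n m).hom

theorem dd_dd (β : I) (a b c : ℤ) (x : (K.obj (op β)).X a) : dd K β b c (dd K β a b x) = 0 := by
  unfold dd
  rw [← AddCommGrpCat.comp_apply, HomologicalComplex.d_comp_d]
  rfl

theorem res_refl (β : I) (n : ℤ) (x : (K.obj (op β)).X n) : res K (le_refl β) n x = x := by
  unfold res
  have : (homOfLE (le_refl β)).op = 𝟙 (op β) := rfl
  rw [this, K.map_id]
  rfl

theorem res_res {γ β α : I} (h₁ : γ ≤ β) (h₂ : β ≤ α) (n : ℤ) (x : (K.obj (op α)).X n) :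
    res K h₁ n (res K h₂ n x) = res K (h₁.trans h₂) n x := by
  unfold res
  have : (homOfLE (h₁.trans h₂)).op = (homOfLE h₂).op ≫ (homOfLE h₁).op := rfl
  rw [this, K.map_comp, ← AddCommGrpCat.comp_apply]
  rfl

theorem res_dd {γ β : I} (h : γ ≤ β) (n m : ℤ) (x : (K.obj (op β)).X n) :
    dd K γ n m (res K h n x) = res K h m (dd K β n m x) := by
  unfold res dd
  rw [← AddCommGrpCat.comp_apply, ← AddCommGrpCat.comp_apply, (K.map (homOfLE h).op).comm]

theorem exact_of_exactAt (L : CochainComplex AddCommGrpCat.{w} ℤ) (a b c : ℤ) (h1 : a + 1 = b)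
    (h2 : b + 1 = c) (hL : L.ExactAt b) (x : L.X b) (hx : (L.d b c).hom x = 0) :
    ∃ y : L.X a, (L.d a b).hom y = x := by
  rw [HomologicalComplex.exactAt_iff' L a b c (by simp; omega) (by simp; omega),
    ShortComplex.ab_exact_iff] at hL
  exact hL x hx

theorem exactAt_of_exact (L : CochainComplex AddCommGrpCat.{w} ℤ) (a b c : ℤ) (h1 : a + 1 = b)
    (h2 : b + 1 = c)
    (h : ∀ x : L.X b, (L.d b c).hom x = 0 → ∃ y : L.X a, (L.d a b).hom y = x) : L.ExactAt b := by
  rw [HomologicalComplex.exactAt_iff' L a b c (by simp; omega) (by simp; omega),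
    ShortComplex.ab_exact_iff]
  exact h

theorem limit_exactAt
    (hac : ∀ (β : I) (n : ℤ), (K.obj (op β)).ExactAt n)
    (hsurj : ∀ (β : I) (n : ℤ) (x : ∀ γ : {γ : I // γ < β}, (K.obj (op γ.1)).X n),
      (∀ (γ γ' : {γ : I // γ < β}) (h : γ.1 ≤ γ'.1),
        ((K.map (homOfLE h).op).f n).hom (x γ') = x γ) →
      ∃ y : (K.obj (op β)).X n, ∀ γ : {γ : I // γ < β},
        ((K.map (homOfLE γ.2.le).op).f n).hom y = x γ)
    (n : ℤ) : (limit K).ExactAt n := by
  apply exactAt_of_exact (limit K) (n - 1) n (n + 1) (by ring) rfl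
  intro x hx
  have hlim : ∀ m : ℤ, _ := fun m => (Types.isLimit_iff _).1
    ⟨isLimitOfPreserves (HomologicalComplex.eval _ _ m ⋙ forget AddCommGrpCat.{w})
      (limit.isLimit K)⟩
  have hmapeq : ∀ {j j' : Iᵒᵖ} (f : j ⟶ j'), f = (homOfLE (leOfHom f.unop)).op := by
    intro j j' f
    apply Quiver.Hom.unop_inj
    apply Subsingleton.elim
  -- the abstract hypotheses
  have hex : ∀ β a b c, a + 1 = b → b + 1 = c → ∀ x : (K.obj (op β)).X b, dd K β b c x = 0 →
      ∃ y : (K.obj (op β)).X a, dd K β a b y = x :=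
    fun β a b c h1 h2 x hx => exact_of_exactAt (K.obj (op β)) a b c h1 h2 (hac β b) x hx
  have hsurj' : ∀ β n (x : ∀ γ, (K.obj (op γ)).X n),
      CompatOn (fun β m => (K.obj (op β)).X m) (res K) (· < β) n x →
      ∃ y : (K.obj (op β)).X n, ∀ γ (h : γ < β), res K h.le n y = x γ := by
    intro β n x hxc
    obtain ⟨y, hy⟩ := hsurj β n (fun γ => x γ.1) (fun γ γ' h => hxc γ.1 γ'.1 h γ'.2)
    exact ⟨y, fun γ h => hy ⟨γ, h⟩⟩
  have hE := E_univ (fun β m => (K.obj (op β)).X m) (dd K) (res K) (dd_dd K) (res_refl K)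
    (res_res K) (res_dd K) hex hsurj' (n - 1) n (n + 1) (by ring) rfl
  -- the family of projections of x
  have hzc : CompatOn (fun β m => (K.obj (op β)).X m) (res K) (fun _ => True) n
      (fun γ => ((limit.π K (op γ)).f n).hom x) := by
    intro γ γ' h _
    show ((K.map (homOfLE h).op).f n).hom (((limit.π K (op γ')).f n).hom x) =
      ((limit.π K (op γ)).f n).hom x
    rw [← AddCommGrpCat.comp_apply, ← HomologicalComplex.comp_f, limit.w]
  have hzd : ∀ γ, True → dd K γ n (n + 1) (((limit.π K (op γ)).f n).hom x) = 0 := by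
    intro γ _
    show ((K.obj (op γ)).d n (n + 1)).hom (((limit.π K (op γ)).f n).hom x) = 0
    rw [← AddCommGrpCat.comp_apply, (limit.π K (op γ)).comm, AddCommGrpCat.comp_apply, hx,
      map_zero]
  obtain ⟨y, hyc, hyd⟩ := hE _ hzc hzd
  -- lift y to the limit
  obtain ⟨y', hy', -⟩ := hlim (n - 1) (fun j => y j.unop) (by
    intro j j' f
    have := hyc j'.unop j.unop (leOfHom f.unop) trivial
    rw [hmapeq f]
    exact this)
  have hy'' : ∀ γ, ((limit.π K (op γ)).f (n - 1)).hom y' = y γ := fun γ => hy' (op γ)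
  refine ⟨y', ?_⟩
  have hs : (fun j : Iᵒᵖ => ((limit.π K j).f n).hom x) ∈
      (K ⋙ HomologicalComplex.eval _ _ n ⋙ forget AddCommGrpCat.{w}).sections := by
    intro j j' f
    show ((K.map f).f n).hom (((limit.π K j).f n).hom x) = ((limit.π K j').f n).hom x
    rw [← AddCommGrpCat.comp_apply, ← HomologicalComplex.comp_f, limit.w]
  apply (hlim n _ hs).unique
  · intro j
    show ((limit.π K j).f n).hom (((limit K).d (n - 1) n).hom y') = ((limit.π K j).f n).hom x
    rw [← AddCommGrpCat.comp_apply, ← (limit.π K j).comm, AddCommGrpCat.comp_apply]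
    have h1 := hy'' j.unop
    have h2 := hyd j.unop trivial
    show ((K.obj j).d (n - 1) n).hom (((limit.π K j).f (n - 1)).hom y') = _
    exact (congrArg _ h1).trans h2
  · intro j
    rfl

end Concrete

end Groth.Agent.Lib.Helper17.WOLim
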