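import Groth.Agent.Lib.Helper17WayOut

/-! Way-out functor lemma (Hartshorne RD I.7.1 (iv)) (helper17). -/
set_option autoImplicit false
set_option backward.isDefEq.respectTransparency false
set_option backward.isDefEq.respectTransparency.types false
universe w w' v v' u u'
open CategoryTheory CategoryTheory.Limits CategoryTheory.Pretriangulated

namespace Groth.Agent.Lib.Helper17.WayOut

open DerivedCategory

section Four

variable {C : Type u} [Category.{v} C] [Abelian C]

theorem four_mono {A B C₀ D A' B' C' D' : C}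
    (a : A ⟶ B) (b : B ⟶ C₀) (c : C₀ ⟶ D) (a' : A' ⟶ B') (b' : B' ⟶ C') (c' : C' ⟶ D')
    (α : A ⟶ A') (β : B ⟶ B') (γ : C₀ ⟶ C') (δ : D ⟶ D')
    (sq1 : a ≫ β = α ≫ a') (sq2 : b ≫ γ = β ≫ b') (sq3 : c ≫ δ = γ ≫ c')
    (hab : a ≫ b = 0) (hbc : b ≫ c = 0) (hexC : (ShortComplex.mk b c hbc).Exact)
    (ha'b' : a' ≫ b' = 0) (hexB' : (ShortComplex.mk a' b' ha'b').Exact)
    (hα : Epi α) (hβ : Mono β) (hδ : Mono δ) : Mono γ := by
  apply Preadditive.mono_of_cancel_zero
  intro T x hx
  have h₂ : x ≫ c = 0 := by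
    rw [← cancel_mono δ, Category.assoc, sq3, reassoc_of% hx, zero_comp, zero_comp]
  obtain ⟨T₁, π₁, _, y, hy⟩ := hexC.exact_up_to_refinements x h₂
  dsimp at y hy
  have h₃ : (y ≫ β) ≫ b' = 0 := by
    rw [Category.assoc, ← sq2, ← reassoc_of% hy, hx, comp_zero]
  obtain ⟨T₂, π₂, _, z', hz'⟩ := hexB'.exact_up_to_refinements _ h₃
  dsimp at z' hz'
  obtain ⟨T₃, π₃, _, z, hz⟩ := surjective_up_to_refinements_of_epi α z'
  have h₄ : z ≫ a = π₃ ≫ π₂ ≫ y := by
    rw [← cancel_mono β, Category.assoc, Category.assoc, Category.assoc, sq1, ← reassoc_of% hz,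
      hz']
  rw [← cancel_epi π₁, comp_zero, hy, ← cancel_epi π₂, ← cancel_epi π₃, comp_zero, comp_zero,
    ← reassoc_of% h₄, hab, comp_zero]

theorem four_epi {A B C₀ D A' B' C' D' : C}
    (a : A ⟶ B) (b : B ⟶ C₀) (c : C₀ ⟶ D) (a' : A' ⟶ B') (b' : B' ⟶ C') (c' : C' ⟶ D')
    (α : A ⟶ A') (β : B ⟶ B') (γ : C₀ ⟶ C') (δ : D ⟶ D')
    (sq1 : a ≫ β = α ≫ a') (sq2 : b ≫ γ = β ≫ b') (sq3 : c ≫ δ = γ ≫ c')
    (hbc : b ≫ c = 0) (hexC : (ShortComplex.mk b c hbc).Exact)
    (ha'b' : a' ≫ b' = 0) (hexB' : (ShortComplex.mk a' b' ha'b').Exact) (hb'c' : b' ≫ c' = 0)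
    (hα : Epi α) (hγ : Epi γ) (hδ : Mono δ) : Epi β := by
  rw [epi_iff_surjective_up_to_refinements]
  intro T g₁
  obtain ⟨T₁, π₁, _, f₂, h₁⟩ := surjective_up_to_refinements_of_epi γ (g₁ ≫ b')
  have h₂ : f₂ ≫ c = 0 := by
    rw [← cancel_mono δ, Category.assoc, zero_comp, sq3, ← reassoc_of% h₁, hb'c', comp_zero,
      comp_zero]
  obtain ⟨T₂, π₂, _, f₁, h₃⟩ := hexC.exact_up_to_refinements _ h₂
  dsimp at f₁ h₃
  have h₄ : (π₂ ≫ π₁ ≫ g₁ - f₁ ≫ β) ≫ b' = 0 := by
    rw [Preadditive.sub_comp, Category.assoc, Category.assoc, Category.assoc, ← sq2,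
      ← reassoc_of% h₃, h₁, sub_self]
  obtain ⟨T₃, π₃, _, g₀, h₅⟩ := hexB'.exact_up_to_refinements _ h₄
  dsimp at g₀ h₅
  rw [Preadditive.comp_sub] at h₅
  obtain ⟨T₄, π₄, _, f₀, h₆⟩ := surjective_up_to_refinements_of_epi α g₀
  refine ⟨T₄, π₄ ≫ π₃ ≫ π₂ ≫ π₁, inferInstance, π₄ ≫ π₃ ≫ f₁ + f₀ ≫ a, ?_⟩
  rw [Category.assoc, Category.assoc, Category.assoc, Preadditive.add_comp, Category.assoc,
    Category.assoc, Category.assoc, sq1, ← reassoc_of% h₆, ← h₅, Preadditive.comp_sub]
  abel

end Four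

variable {A : Type u} [Category.{v} A] [Abelian A] [HasDerivedCategory.{w} A]
  {B : Type u'} [Category.{v'} B] [Abelian B] [HasDerivedCategory.{w'} B]
  (F G : DerivedCategory A ⥤ DerivedCategory B) [F.CommShift ℤ] [G.CommShift ℤ]
  [F.IsTriangulated] [G.IsTriangulated] (η : F ⟶ G) [NatTrans.CommShift η ℤ]

/-- general version of `isIso_app_single`. -/
theorem isIso_app_single' (X : A) (k j : ℤ)
    (h : IsIso (η.app ((DerivedCategory.singleFunctor A k).obj X))) :
    IsIso (η.app ((DerivedCategory.singleFunctor A j).obj X)) := by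
  have e : (shiftFunctor (DerivedCategory A) (k - j)).obj
      ((DerivedCategory.singleFunctor A k).obj X) ≅
      (DerivedCategory.singleFunctor A j).obj X :=
    ((DerivedCategory.singleFunctors A).shiftIso (k - j) j k (by omega)).app X
  exact isIso_app_of_iso F G η e (isIso_app_shift F G η _ (k - j) h)

omit [F.IsTriangulated] in
/-- a uniform lower bound for a way-out right functor on objects in degree `0`. -/
theorem exists_bound
    (hF : ∀ n₁ : ℤ, ∃ n₂ : ℤ, ∀ Y : DerivedCategory A, Y.IsGE n₂ → (F.obj Y).IsGE n₁) :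
    ∃ m : ℤ, ∀ Y : DerivedCategory A, Y.IsGE 0 → (F.obj Y).IsGE m := by
  obtain ⟨k, hk⟩ := hF 0
  refine ⟨-k, fun Y hY => ?_⟩
  have h1 : (Y⟦-k⟧).IsGE k := TStructure.t.isGE_shift Y 0 (-k) k (by omega)
  have h2 : (F.obj (Y⟦-k⟧)).IsGE 0 := hk _ h1
  have h3 : ((F.obj Y)⟦-k⟧).IsGE 0 := by
    have e : F.obj (Y⟦-k⟧) ≅ (F.obj Y)⟦-k⟧ := (F.commShiftIso (-k)).app Y
    exact TStructure.t.isGE_of_iso e 0
  exact TStructure.t.isGE_of_shift (F.obj Y) (-k) (-k) 0 (by omega)


section Main

variable (P : ObjectProperty A)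
  (hη : ∀ X : A, P X → IsIso (η.app ((DerivedCategory.singleFunctor A 0).obj X)))

/-- `H^j(η)` on the single complex `X[0]`. -/
noncomputable abbrev Hη (j : ℤ) (X : A) :
    (DerivedCategory.homologyFunctor B j).obj (F.obj ((DerivedCategory.singleFunctor A 0).obj X)) ⟶
      (DerivedCategory.homologyFunctor B j).obj (G.obj ((DerivedCategory.singleFunctor A 0).obj X)) :=
  (DerivedCategory.homologyFunctor B j).map (η.app ((DerivedCategory.singleFunctor A 0).obj X))

theorem δ_naturality {T T' : Triangle (DerivedCategory B)} (φ : T ⟶ T') (n₀ n₁ : ℤ)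
    (h : n₀ + 1 = n₁) :
    (DerivedCategory.homologyFunctor B n₀).map φ.hom₃ ≫ HomologySequence.δ T' n₀ n₁ h =
      HomologySequence.δ T n₀ n₁ h ≫ (DerivedCategory.homologyFunctor B n₁).map φ.hom₁ :=
  (DerivedCategory.homologyFunctor B 0).homologySequenceδ_naturality T T' φ n₀ n₁ h

include hη in
theorem mono_step (j : ℤ) (hj : ∀ X : A, IsIso (Hη F G η j X))
    {S : ShortComplex A} (hS : S.ShortExact) (hS₂ : P S.X₂) :
    Mono (Hη F G η (j + 1) S.X₁) := by
  have hT := hS.singleTriangle_distinguished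
  have hTF := F.map_distinguished _ hT
  have hTG := G.map_distinguished _ hT
  let φ := triangleMap F G η hS.singleTriangle
  have h2 : IsIso (η.app ((DerivedCategory.singleFunctor A 0).obj S.X₂)) := hη _ hS₂
  have hα : IsIso ((DerivedCategory.homologyFunctor B j).map φ.hom₂) := by
    change IsIso ((DerivedCategory.homologyFunctor B j).map
      (η.app ((DerivedCategory.singleFunctor A 0).obj S.X₂)))
    infer_instance
  have hβ : IsIso ((DerivedCategory.homologyFunctor B j).map φ.hom₃) := hj S.X₃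
  have hδ : IsIso ((DerivedCategory.homologyFunctor B (j + 1)).map φ.hom₂) := by
    change IsIso ((DerivedCategory.homologyFunctor B (j + 1)).map
      (η.app ((DerivedCategory.singleFunctor A 0).obj S.X₂)))
    infer_instance
  exact four_mono
    ((DerivedCategory.homologyFunctor B j).map (F.mapTriangle.obj hS.singleTriangle).mor₂)
    (HomologySequence.δ (F.mapTriangle.obj hS.singleTriangle) j (j + 1) rfl)
    ((DerivedCategory.homologyFunctor B (j + 1)).map (F.mapTriangle.obj hS.singleTriangle).mor₁)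
    ((DerivedCategory.homologyFunctor B j).map (G.mapTriangle.obj hS.singleTriangle).mor₂)
    (HomologySequence.δ (G.mapTriangle.obj hS.singleTriangle) j (j + 1) rfl)
    ((DerivedCategory.homologyFunctor B (j + 1)).map (G.mapTriangle.obj hS.singleTriangle).mor₁)
    ((DerivedCategory.homologyFunctor B j).map φ.hom₂)
    ((DerivedCategory.homologyFunctor B j).map φ.hom₃)
    ((DerivedCategory.homologyFunctor B (j + 1)).map φ.hom₁)
    ((DerivedCategory.homologyFunctor B (j + 1)).map φ.hom₂)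
    (by rw [← Functor.map_comp, ← Functor.map_comp, φ.comm₂])
    (δ_naturality φ j (j + 1) rfl).symm
    (by rw [← Functor.map_comp, ← Functor.map_comp, φ.comm₁])
    (HomologySequence.comp_δ _ hTF j (j + 1) rfl)
    (HomologySequence.δ_comp _ hTF j (j + 1) rfl)
    (HomologySequence.exact₁ _ hTF j (j + 1) rfl)
    (HomologySequence.comp_δ _ hTG j (j + 1) rfl)
    (HomologySequence.exact₃ _ hTG j (j + 1) rfl)
    inferInstance inferInstance inferInstance

include hη in
theorem epi_step (j : ℤ) (hj : ∀ X : A, IsIso (Hη F G η j X))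
    (hm : ∀ X : A, Mono (Hη F G η (j + 1) X))
    {S : ShortComplex A} (hS : S.ShortExact) (hS₂ : P S.X₂) :
    Epi (Hη F G η (j + 1) S.X₁) := by
  have hT := hS.singleTriangle_distinguished
  have hTF := F.map_distinguished _ hT
  have hTG := G.map_distinguished _ hT
  let φ := triangleMap F G η hS.singleTriangle
  have h2 : IsIso (η.app ((DerivedCategory.singleFunctor A 0).obj S.X₂)) := hη _ hS₂
  have hα : IsIso ((DerivedCategory.homologyFunctor B j).map φ.hom₃) := hj S.X₃
  have hγ : IsIso ((DerivedCategory.homologyFunctor B (j + 1)).map φ.hom₂) := by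
    change IsIso ((DerivedCategory.homologyFunctor B (j + 1)).map
      (η.app ((DerivedCategory.singleFunctor A 0).obj S.X₂)))
    infer_instance
  have hδ : Mono ((DerivedCategory.homologyFunctor B (j + 1)).map φ.hom₃) := hm S.X₃
  have h12 : (DerivedCategory.homologyFunctor B (j + 1)).map
      (G.mapTriangle.obj hS.singleTriangle).mor₁ ≫
      (DerivedCategory.homologyFunctor B (j + 1)).map
      (G.mapTriangle.obj hS.singleTriangle).mor₂ = 0 := by
    rw [← Functor.map_comp, comp_distTriang_mor_zero₁₂ _ hTG, Functor.map_zero]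
  exact four_epi
    (HomologySequence.δ (F.mapTriangle.obj hS.singleTriangle) j (j + 1) rfl)
    ((DerivedCategory.homologyFunctor B (j + 1)).map (F.mapTriangle.obj hS.singleTriangle).mor₁)
    ((DerivedCategory.homologyFunctor B (j + 1)).map (F.mapTriangle.obj hS.singleTriangle).mor₂)
    (HomologySequence.δ (G.mapTriangle.obj hS.singleTriangle) j (j + 1) rfl)
    ((DerivedCategory.homologyFunctor B (j + 1)).map (G.mapTriangle.obj hS.singleTriangle).mor₁)
    ((DerivedCategory.homologyFunctor B (j + 1)).map (G.mapTriangle.obj hS.singleTriangle).mor₂)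
    ((DerivedCategory.homologyFunctor B j).map φ.hom₃)
    ((DerivedCategory.homologyFunctor B (j + 1)).map φ.hom₁)
    ((DerivedCategory.homologyFunctor B (j + 1)).map φ.hom₂)
    ((DerivedCategory.homologyFunctor B (j + 1)).map φ.hom₃)
    (δ_naturality φ j (j + 1) rfl).symm
    (by rw [← Functor.map_comp, ← Functor.map_comp, φ.comm₁])
    (by rw [← Functor.map_comp, ← Functor.map_comp, φ.comm₂])
    (by rw [← Functor.map_comp, comp_distTriang_mor_zero₁₂ _ hTF, Functor.map_zero])
    (HomologySequence.exact₂ _ hTF (j + 1))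
    (HomologySequence.δ_comp _ hTG j (j + 1) rfl)
    (HomologySequence.exact₁ _ hTG j (j + 1) rfl)
    h12
    inferInstance inferInstance inferInstance

include hη in
/-- S11152. -/
theorem isIso_app_single_of_cogenerating
    (hP : ∀ X : A, ∃ (Y : A) (i : X ⟶ Y), P Y ∧ Mono i)
    (hF : ∀ n₁ : ℤ, ∃ n₂ : ℤ, ∀ Y : DerivedCategory A, Y.IsGE n₂ → (F.obj Y).IsGE n₁)
    (hG : ∀ n₁ : ℤ, ∃ n₂ : ℤ, ∀ Y : DerivedCategory A, Y.IsGE n₂ → (G.obj Y).IsGE n₁)
    (X : A) : IsIso (η.app ((DerivedCategory.singleFunctor A 0).obj X)) := by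
  obtain ⟨mF, hmF⟩ := exists_bound F hF
  obtain ⟨mG, hmG⟩ := exists_bound G hG
  have hses : ∀ X : A, ∃ (S : ShortComplex A) (_ : S.ShortExact), P S.X₂ ∧ S.X₁ = X := by
    intro X
    obtain ⟨Y, i, hY, hi⟩ := hP X
    exact ⟨ShortComplex.mk i (cokernel.π i) (cokernel.condition i),
      { exact := ShortComplex.exact_cokernel i }, hY, rfl⟩
  have hlow : ∀ j : ℤ, j < min mF mG → ∀ X : A, IsIso (Hη F G η j X) := by
    intro j hj X
    have h1 : (F.obj ((DerivedCategory.singleFunctor A 0).obj X)).IsGE mF := hmF _ inferInstance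
    have h2 : (G.obj ((DerivedCategory.singleFunctor A 0).obj X)).IsGE mG := hmG _ inferInstance
    have z1 := isZero_of_isGE (F.obj ((DerivedCategory.singleFunctor A 0).obj X)) mF j
      (lt_of_lt_of_le hj (min_le_left _ _))
    have z2 := isZero_of_isGE (G.obj ((DerivedCategory.singleFunctor A 0).obj X)) mG j
      (lt_of_lt_of_le hj (min_le_right _ _))
    exact ⟨⟨0, z1.eq_of_src _ _, z2.eq_of_src _ _⟩⟩
  have hall : ∀ j : ℤ, min mF mG - 1 ≤ j → ∀ X : A, IsIso (Hη F G η j X) := by
    intro j hj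
    induction j, hj using Int.le_induction with
    | base => exact hlow _ (by omega)
    | succ j _ ih =>
      have hm : ∀ X : A, Mono (Hη F G η (j + 1) X) := by
        intro X
        obtain ⟨S, hS, hS₂, rfl⟩ := hses X
        exact mono_step F G η P hη j ih hS hS₂
      intro X
      have := hm X
      have : Epi (Hη F G η (j + 1) X) := by
        obtain ⟨S, hS, hS₂, rfl⟩ := hses X
        exact epi_step F G η P hη j ih hm hS hS₂
      exact isIso_of_mono_of_epi _
  rw [DerivedCategory.isIso_iff]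
  intro j
  by_cases hj : j < min mF mG
  · exact hlow j hj X
  · exact hall j (by omega) X

end Main

end Groth.Agent.Lib.Helper17.WayOut
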