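import Mathlib

set_option autoImplicit false
universe u
open Polynomial

namespace Groth.Agent.Lib.Helper18.AIC

theorem adjoinRoot_of_injective {A : Type u} [CommRing A] {f : A[X]} (hf : f.Monic)
    (hd : f.natDegree ≠ 0) : Function.Injective (AdjoinRoot.of f) := by
  rw [injective_iff_map_eq_zero]
  intro a ha
  have h1 : AdjoinRoot.mk f (C a) = 0 := ha
  rw [AdjoinRoot.mk_eq_zero] at h1
  by_contra hne
  have hC : (C a : A[X]) ≠ 0 := by simpa using hne
  refine hf.not_dvd_of_natDegree_lt hC ?_ h1
  rw [natDegree_C]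
  exact Nat.pos_of_ne_zero hd

theorem exists_splitting (n : ℕ) : ∀ (A : Type u) [CommRing A] (f : A[X]), f.Monic → f.natDegree = n →
    ∃ (B : Type u) (_ : CommRing B) (φ : A →+* B), Function.Injective φ ∧
      ∃ r : Fin n → B, f.map φ = ∏ i, (X - C (r i)) := by
  induction n with
  | zero =>
    intro A _ f hf hn
    refine ⟨A, inferInstance, RingHom.id A, Function.injective_id, Fin.elim0, ?_⟩
    have : f = 1 := hf.natDegree_eq_zero.mp hn
    simp [this]
  | succ n ih =>
    intro A _ f hf hn
    have hinj : Function.Injective (AdjoinRoot.of f) :=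
      adjoinRoot_of_injective hf (by omega)
    have hnt : Nontrivial A := by
      by_contra h
      rw [not_nontrivial_iff_subsingleton] at h
      have : f = 0 := Subsingleton.elim _ _
      rw [this, natDegree_zero] at hn
      omega
    have hnt' : Nontrivial (AdjoinRoot f) := hinj.nontrivial
    have hroot : (f.map (AdjoinRoot.of f)).IsRoot (AdjoinRoot.root f) := AdjoinRoot.isRoot_root f
    set g := (f.map (AdjoinRoot.of f)) /ₘ (X - C (AdjoinRoot.root f)) with hgdef
    have hg : (X - C (AdjoinRoot.root f)) * g = f.map (AdjoinRoot.of f) :=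
      mul_divByMonic_eq_iff_isRoot.mpr hroot
    have hfm : (f.map (AdjoinRoot.of f)).Monic := hf.map _
    have hgm : g.Monic := (monic_X_sub_C _).of_mul_monic_left (hg ▸ hfm)
    have hgd : g.natDegree = n := by
      have h1 := congrArg natDegree hg
      rw [(monic_X_sub_C _).natDegree_mul hgm, natDegree_X_sub_C, hf.natDegree_map, hn] at h1
      omega
    obtain ⟨B, _, ψ, hψ, r, hr⟩ := ih (AdjoinRoot f) g hgm hgd
    refine ⟨B, inferInstance, ψ.comp (AdjoinRoot.of f), hψ.comp hinj,
      Fin.cons (ψ (AdjoinRoot.root f)) r, ?_⟩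
    rw [← Polynomial.map_map, ← hg, Polynomial.map_mul, hr, Fin.prod_univ_succ]
    simp

theorem exists_splitting_finset (A : Type u) [CommRing A] (s : Finset {f : A[X] // f.Monic}) :
    ∃ (B : Type u) (_ : CommRing B) (φ : A →+* B), Function.Injective φ ∧
      ∀ f ∈ s, ∃ r : Fin f.1.natDegree → B, f.1.map φ = ∏ i, (X - C (r i)) := by
  classical
  induction s using Finset.induction_on with
  | empty => exact ⟨A, inferInstance, RingHom.id A, Function.injective_id, by simp⟩
  | insert f s hfs ih =>
    obtain ⟨B, _, φ, hφ, hs⟩ := ih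
    have hnd : (f.1.map φ).natDegree = f.1.natDegree := by
      rcases subsingleton_or_nontrivial B with h | h
      · have : Subsingleton A := hφ.subsingleton
        rw [Subsingleton.elim f.1 0]
        simp
      · exact f.2.natDegree_map φ
    obtain ⟨B', _, ψ, hψ, r, hr⟩ := exists_splitting f.1.natDegree B (f.1.map φ) (f.2.map φ) hnd
    refine ⟨B', inferInstance, ψ.comp φ, hψ.comp hφ, ?_⟩
    intro g hg
    rcases Finset.mem_insert.mp hg with rfl | hg
    · exact ⟨r, by rw [← Polynomial.map_map, hr]⟩
    · obtain ⟨r', hr'⟩ := hs g hg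
      refine ⟨fun i => ψ (r' i), ?_⟩
      rw [← Polynomial.map_map, hr', Polynomial.map_prod]
      simp

section Step

variable (A : Type u) [CommRing A]

/-- monic polynomials -/
abbrev Monics : Type u := {f : A[X] // f.Monic}

/-- one variable for each root of each monic polynomial -/
abbrev Vars : Type u := Σ f : Monics A, Fin f.1.natDegree

variable {A} in
/-- `f - ∏ (X - x_{f,i})` -/
noncomputable def subProdXSubC (f : Monics A) : (MvPolynomial (Vars A) A)[X] :=
  f.1.map (algebraMap A (MvPolynomial (Vars A) A)) -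
    ∏ i : Fin f.1.natDegree, (X - C (MvPolynomial.X (⟨f, i⟩ : Vars A)))

/-- the ideal of relations -/
noncomputable def spanCoeffs : Ideal (MvPolynomial (Vars A) A) :=
  Ideal.span <| Set.range fun fn : Monics A × ℕ ↦ (subProdXSubC fn.1).coeff fn.2

/-- the ring in which every monic polynomial over `A` splits -/
abbrev Step : Type u := MvPolynomial (Vars A) A ⧸ spanCoeffs A

/-- the structure map -/
noncomputable def toStep : A →+* Step A :=
  (Ideal.Quotient.mk (spanCoeffs A)).comp (algebraMap A (MvPolynomial (Vars A) A))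

theorem toStep_splits (f : Monics A) :
    f.1.map (toStep A) =
      ∏ i : Fin f.1.natDegree, (X - C (Ideal.Quotient.mk (spanCoeffs A) (MvPolynomial.X (⟨f, i⟩ : Vars A)))) := by
  have h : (subProdXSubC f).map (Ideal.Quotient.mk (spanCoeffs A)) = 0 := by
    ext n
    rw [coeff_map, coeff_zero, Ideal.Quotient.eq_zero_iff_mem]
    exact Ideal.subset_span ⟨⟨f, n⟩, rfl⟩
  rw [subProdXSubC, Polynomial.map_sub, sub_eq_zero, Polynomial.map_map, Polynomial.map_prod] at h
  rw [toStep, h]
  simp

theorem toStep_injective : Function.Injective (toStep A) := by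
  rw [injective_iff_map_eq_zero]
  intro a ha
  rw [toStep, RingHom.comp_apply, Ideal.Quotient.eq_zero_iff_mem, spanCoeffs, Ideal.span,
    ← Set.image_univ, Finsupp.mem_span_image_iff_linearCombination] at ha
  obtain ⟨v, -, hv⟩ := ha
  classical
  obtain ⟨s, hs⟩ : ∃ s : Finset (Monics A), ∀ j ∈ v.support, j.1 ∈ s :=
    ⟨v.support.image Prod.fst, fun j hj => Finset.mem_image_of_mem _ hj⟩
  obtain ⟨B, _, φ, hφ, hr⟩ := exists_splitting_finset A s
  choose! r hr using hr
  let ψ : MvPolynomial (Vars A) A →+* B :=
    MvPolynomial.eval₂Hom φ (fun fi : Vars A => r fi.1 fi.2)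
  have hψC : ψ.comp (algebraMap A (MvPolynomial (Vars A) A)) = φ := by
    ext x; simp [ψ, MvPolynomial.algebraMap_eq]
  have hψ : ∀ f ∈ s, ∀ n, ψ ((subProdXSubC f).coeff n) = 0 := by
    intro f hf n
    rw [← coeff_map, subProdXSubC, Polynomial.map_sub, Polynomial.map_map, hψC, hr f hf,
      Polynomial.map_prod]
    simp [ψ]
  have h2 := congrArg ψ hv
  rw [Finsupp.linearCombination_apply, Finsupp.sum, map_sum, Finset.sum_eq_zero] at h2
  · have h3 : ψ (algebraMap A (MvPolynomial (Vars A) A) a) = φ a := by
      rw [← hψC]; rfl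
    rw [h3] at h2
    exact hφ (by rw [← h2, map_zero])
  · intro j hj
    rw [smul_eq_mul, map_mul, hψ _ (hs j hj), mul_zero]

end Step

theorem splits_map_of_splits {R S T : Type*} [CommRing R] [CommRing S] [CommRing T]
    (φ : R →+* S) (ψ : S →+* T) (q : R[X]) {n : ℕ} (r : Fin n → S)
    (h : q.map φ = ∏ i, (X - C (r i))) :
    ∃ s : Multiset T, q.map (ψ.comp φ) = (s.map fun b => X - C b).prod := by
  refine ⟨Finset.univ.val.map fun i => ψ (r i), ?_⟩
  rw [← Polynomial.map_map, h, Polynomial.map_prod, Multiset.map_map, Finset.prod_eq_multiset_prod]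
  congr 1
  refine Multiset.map_congr rfl ?_
  intro i _
  simp

section Colimit

open CategoryTheory Limits

variable (A : Type u) [CommRing A]

/-- the tower of rings -/
noncomputable def seqObj : ℕ → CommRingCat.{u}
  | 0 => CommRingCat.of A
  | n+1 => CommRingCat.of (Step (seqObj n))

/-- transition maps -/
noncomputable def seqMap (n : ℕ) : seqObj A n ⟶ seqObj A (n+1) :=
  CommRingCat.ofHom (toStep (seqObj A n))

/-- the tower as a functor -/
noncomputable def seqFunctor : ℕ ⥤ CommRingCat.{u} := Functor.ofSequence (seqMap A)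

/-- the colimit -/
noncomputable abbrev colim : CommRingCat.{u} := colimit (seqFunctor A)

theorem seqFunctor_map_injective (m n : ℕ) (h : m ≤ n) :
    Function.Injective ((seqFunctor A).map (homOfLE h)) := by
  induction n, h using Nat.le_induction with
  | base =>
    have : (homOfLE (le_refl m)) = 𝟙 m := rfl
    rw [this, (seqFunctor A).map_id]
    exact Function.injective_id
  | succ n h ih =>
    have : homOfLE (h.trans (Nat.le_succ n)) = homOfLE h ≫ homOfLE (Nat.le_add_right n 1) := rfl
    rw [this, (seqFunctor A).map_comp]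
    have h2 : (seqFunctor A).map (homOfLE (Nat.le_add_right n 1)) = seqMap A n :=
      Functor.ofSequence_map_homOfLE_succ _ n
    rw [h2]
    intro x y hxy
    rw [ConcreteCategory.comp_apply, ConcreteCategory.comp_apply] at hxy
    exact ih (toStep_injective _ hxy)

instance : PreservesColimit (seqFunctor A) (forget CommRingCat.{u}) := by
  have : PreservesFilteredColimitsOfSize.{0, 0} (forget CommRingCat.{u}) :=
    preservesSmallestFilteredColimits_of_preservesFilteredColimits _
  infer_instance

theorem ι_injective (n : ℕ) : Function.Injective (colimit.ι (seqFunctor A) n) := by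
  intro x y hxy
  obtain ⟨k, f, g, hfg⟩ := Concrete.colimit_exists_of_rep_eq (seqFunctor A) x y hxy
  have : f = g := Subsingleton.elim _ _
  subst this
  exact seqFunctor_map_injective A n k (leOfHom f) hfg

/-- the canonical maps, with source written as `seqObj A n` -/
noncomputable def ι' (n : ℕ) : seqObj A n ⟶ colim A := colimit.ι (seqFunctor A) n

theorem ι'_injective (n : ℕ) : Function.Injective (ι' A n).hom := ι_injective A n

theorem ι'_exists_rep (x : colim A) : ∃ (n : ℕ) (y : seqObj A n), (ι' A n).hom y = x :=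
  Concrete.colimit_exists_rep (seqFunctor A) x

theorem ι'_w (n : ℕ) : seqMap A n ≫ ι' A (n+1) = ι' A n := by
  have h := colimit.w (seqFunctor A) (homOfLE (Nat.le_add_right n 1))
  rw [show (seqFunctor A).map (homOfLE (Nat.le_add_right n 1)) = seqMap A n from
    Functor.ofSequence_map_homOfLE_succ _ n] at h
  exact h

theorem ι'_range_mono (m n : ℕ) (h : m ≤ n) :
    Set.range (ι' A m).hom ⊆ Set.range (ι' A n).hom := by
  induction n, h using Nat.le_induction with
  | base => exact le_rfl
  | succ n h ih =>
    refine ih.trans ?_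
    rintro _ ⟨y, rfl⟩
    refine ⟨(seqMap A n).hom y, ?_⟩
    rw [← ι'_w A n]
    rfl

theorem colim_splits (p : (colim A)[X]) (hp : p.Monic) :
    ∃ s : Multiset (colim A), p = (s.map fun b => X - C b).prod := by
  have h1 : ∀ i, ∃ n, p.coeff i ∈ Set.range (ι' A n).hom := fun i => by
    obtain ⟨n, y, hy⟩ := ι'_exists_rep A (p.coeff i)
    exact ⟨n, y, hy⟩
  choose N hN using h1
  let M := (Finset.range (p.natDegree + 1)).sup N
  have hM : p ∈ Polynomial.lifts (ι' A M).hom := by
    rw [Polynomial.lifts_iff_coeff_lifts]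
    intro i
    by_cases hi : i ≤ p.natDegree
    · exact ι'_range_mono A _ _ (Finset.le_sup (f := N) (Finset.mem_range.mpr (by omega))) (hN i)
    · rw [coeff_eq_zero_of_natDegree_lt (by omega)]
      exact ⟨0, map_zero _⟩
  obtain ⟨q, hq, -, hqm⟩ := Polynomial.lifts_and_natDegree_eq_and_monic hM hp
  have hsplit := toStep_splits (seqObj A M) ⟨q, hqm⟩
  obtain ⟨s, hs⟩ := splits_map_of_splits (R := seqObj A M) (S := seqObj A (M+1))
    (seqMap A M).hom (ι' A (M+1)).hom q _ hsplit
  refine ⟨s, ?_⟩
  rw [← hq, ← ι'_w A M, CommRingCat.hom_comp]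
  exact hs

theorem exists_aic : ∃ (B : Type u) (_ : CommRing B) (_ : Algebra A B),
    Function.Injective (algebraMap A B) ∧
      ∀ f : B[X], f.Monic → ∃ s : Multiset B, f = (s.map fun b => X - C b).prod := by
  refine ⟨colim A, inferInstance,
    RingHom.toAlgebra (R := A) (ι' A 0).hom, ?_, colim_splits A⟩
  exact ι'_injective A 0

end Colimit

end Groth.Agent.Lib.Helper18.AIC
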