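import Mathlib

set_option autoImplicit false

universe u
open Polynomial

namespace Groth.Agent.Lib.Helper18AICHensel

lemma idem_zero_of_mem_jacobson {A : Type*} [CommRing A] {e : A} (he : IsIdempotentElem e)
    (hj : e ∈ Ideal.jacobson (⊥ : Ideal A)) : e = 0 := by
  have h1 : IsUnit (e * (-1) + 1) := (Ideal.mem_jacobson_bot.1 hj) (-1)
  have h2 : (e * (-1) + 1) * e = 0 := by
    have := he.eq
    ring_nf
    rw [pow_two, this]; ring
  exact (h1.mul_right_eq_zero).1 h2

theorem main (A : Type u) [CommRing A]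
    (hA : ∀ f : A[X], f.Monic → ∃ s : Multiset A, f = (s.map fun a => X - C a).prod) (I : Ideal A)
    (hI : I ≤ Ideal.jacobson (⊥ : Ideal A))
    (hidem : ∀ e : A ⧸ I, IsIdempotentElem e → ∃ e' : A, IsIdempotentElem e' ∧ Ideal.Quotient.mk I e' = e) :
    HenselianRing A I := by
  classical
  refine ⟨hI, ?_⟩
  intro f hf a₀ h₁ h₂
  obtain ⟨s, hs⟩ := hA f hf
  obtain ⟨l, rfl⟩ := Quot.exists_rep s
  obtain ⟨n, a, rfl⟩ : ∃ (n : ℕ) (a : Fin n → A), l = List.ofFn a :=
    ⟨l.length, l.get, (List.ofFn_get l).symm⟩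
  have hf' : f = ∏ i, (X - C (a i)) := by
    rw [hs]
    simp [List.prod_ofFn]
  clear hs
  let b : Fin n → A ⧸ I := fun i => (Ideal.Quotient.mk I) (a₀ - a i)
  have hP : ∏ i, b i = 0 := by
    have : (Ideal.Quotient.mk I) (f.eval a₀) = 0 := Ideal.Quotient.eq_zero_iff_mem.2 h₁
    rw [hf', eval_prod] at this
    simpa [b, map_prod] using this
  have hu : (Ideal.Quotient.mk I) (f.derivative.eval a₀) = ∑ j, ∏ i ∈ Finset.univ.erase j, b i := by
    rw [hf', derivative_prod_finset, eval_finsetSum, map_sum]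
    refine Finset.sum_congr rfl fun j _ => ?_
    simp [b, eval_prod, map_prod]
  rw [hu] at h₂
  obtain ⟨w, hw⟩ := h₂.exists_right_inv
  let e : Fin n → A ⧸ I := fun j => w * ∏ i ∈ Finset.univ.erase j, b i
  have he_sum : ∑ j, e j = 1 := by
    simp only [e, ← Finset.mul_sum]
    rw [mul_comm]; exact hw
  have he_b : ∀ j, e j * b j = 0 := by
    intro j
    simp only [e]
    rw [mul_assoc, mul_comm _ (b j), Finset.mul_prod_erase _ _ (Finset.mem_univ j), hP, mul_zero]
  have he_orth : ∀ j k, j ≠ k → e j * e k = 0 := by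
    intro j k hjk
    have hk : k ∈ Finset.univ.erase j := Finset.mem_erase.2 ⟨hjk.symm, Finset.mem_univ _⟩
    have : ∏ i ∈ Finset.univ.erase j, b i = b k * ∏ i ∈ (Finset.univ.erase j).erase k, b i :=
      (Finset.mul_prod_erase _ _ hk).symm
    simp only [e]
    rw [this]
    calc w * (b k * ∏ i ∈ (Finset.univ.erase j).erase k, b i) * (w * ∏ i ∈ Finset.univ.erase k, b i)
        = w * w * (∏ i ∈ (Finset.univ.erase j).erase k, b i) *
            (b k * ∏ i ∈ Finset.univ.erase k, b i) := by ring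
      _ = 0 := by rw [Finset.mul_prod_erase _ _ (Finset.mem_univ k), hP, mul_zero]
  have he_idem : ∀ j, IsIdempotentElem (e j) := by
    intro j
    have : e j * ∑ k, e k = e j * e j := by
      rw [Finset.mul_sum, Finset.sum_eq_single j]
      · intro k _ hk; exact he_orth j k hk.symm
      · intro h; exact absurd (Finset.mem_univ j) h
    rw [he_sum, mul_one] at this
    exact this.symm
  choose ε hε_idem hε_map using fun j => hidem (e j) (he_idem j)
  have hε_orth : ∀ j k, j ≠ k → ε j * ε k = 0 := by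
    intro j k hjk
    apply idem_zero_of_mem_jacobson ((hε_idem j).mul (hε_idem k))
    apply hI
    rw [← Ideal.Quotient.eq_zero_iff_mem, map_mul, hε_map, hε_map]
    exact he_orth j k hjk
  have hε_sum_idem : IsIdempotentElem (∑ j, ε j) := by
    show (∑ j, ε j) * (∑ j, ε j) = ∑ j, ε j
    rw [Finset.sum_mul]
    refine Finset.sum_congr rfl fun j _ => ?_
    rw [Finset.mul_sum, Finset.sum_eq_single j]
    · exact (hε_idem j).eq
    · intro k _ hk; exact hε_orth j k hk.symm
    · intro h; exact absurd (Finset.mem_univ j) h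
  have hε_sum : ∑ j, ε j = 1 := by
    have h1 : IsIdempotentElem (1 - ∑ j, ε j) := hε_sum_idem.one_sub
    have h2 : 1 - ∑ j, ε j = 0 := by
      apply idem_zero_of_mem_jacobson h1
      apply hI
      rw [← Ideal.Quotient.eq_zero_iff_mem, map_sub, map_one, map_sum]
      simp only [hε_map, he_sum, sub_self]
    exact (sub_eq_zero.1 h2).symm
  let r : A := ∑ j, ε j * a j
  have hr : ∀ x : A, r - x = ∑ j, ε j * (a j - x) := by
    intro x
    simp only [r, mul_sub, Finset.sum_sub_distrib, ← Finset.sum_mul, hε_sum, one_mul]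
  have hεr : ∀ k, ε k * (r - a k) = 0 := by
    intro k
    rw [hr, Finset.mul_sum, Finset.sum_eq_zero]
    intro j _
    by_cases hjk : j = k
    · subst hjk; simp
    · rw [← mul_assoc, hε_orth k j (Ne.symm hjk), zero_mul]
  refine ⟨r, ?_, ?_⟩
  · show f.eval r = 0
    rw [hf', eval_prod]
    have hev : ∀ j, eval r (X - C (a j)) = r - a j := fun j => by
      rw [eval_sub, eval_X, eval_C]
    rw [Finset.prod_congr rfl (fun j _ => hev j)]
    have : ∏ i, (r - a i) = ∑ k, ε k * ∏ i, (r - a i) := by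
      rw [← Finset.sum_mul, hε_sum, one_mul]
    rw [this]
    apply Finset.sum_eq_zero
    intro k _
    rw [← Finset.mul_prod_erase _ _ (Finset.mem_univ k), ← mul_assoc, hεr, zero_mul]
  · rw [hr, ← Ideal.Quotient.eq_zero_iff_mem, map_sum]
    apply Finset.sum_eq_zero
    intro j _
    rw [map_mul, hε_map]
    have : (Ideal.Quotient.mk I) (a j - a₀) = - b j := by simp [b]
    rw [this, mul_neg, he_b, neg_zero]

end Groth.Agent.Lib.Helper18AICHensel
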