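import Groth.Agent.S19996

open PowerSeries

namespace Groth.Agent.Lib.Helper18AS

universe u
variable {k : Type u} [Field k]

open Groth.Agent.S19996

lemma order_norm (p : ℕ) (σ : PowerSeries k ≃ₐ[k] PowerSeries k) :
    (∏ i ∈ Finset.range p, (σ ^ i) (X : PowerSeries k)).order = (p : ℕ∞) := by
  rw [order_prod]
  simp only [order_apply, order_X]
  simp

lemma apply_norm (p : ℕ) (σ : PowerSeries k ≃ₐ[k] PowerSeries k) (hσp : σ ^ p = 1) :
    σ (∏ i ∈ Finset.range p, (σ ^ i) (X : PowerSeries k)) =
      ∏ i ∈ Finset.range p, (σ ^ i) (X : PowerSeries k) := by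
  rw [map_prod]
  have h1 : ∀ i, σ ((σ ^ i) (X : PowerSeries k)) = (σ ^ (i + 1)) X := by
    intro i
    rw [pow_succ', AlgEquiv.mul_apply]
  simp only [h1]
  have h2 := Finset.prod_range_succ' (fun i => (σ ^ i) (X : PowerSeries k)) p
  have h3 := Finset.prod_range_succ (fun i => (σ ^ i) (X : PowerSeries k)) p
  rw [h3] at h2
  simp only [hσp, pow_zero, AlgEquiv.one_apply] at h2
  exact (mul_right_cancel₀ X_ne_zero h2).symm

/-- the core computation in the power series ring. -/
theorem core (p : ℕ) [Fact p.Prime] [CharP k p]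
    (σ : PowerSeries k ≃ₐ[k] PowerSeries k) (hσp : σ ^ p = 1)
    (m : ℕ) (hm : (σ PowerSeries.X - PowerSeries.X).order = ((m + 1 : ℕ) : ℕ∞))
    (f : PowerSeries k) (hfσ : σ f = f) (hf0 : PowerSeries.constantCoeff f ≠ 0)
    (μ : ℕ) (hμ : 0 < μ) (hpμ : ¬ p ∣ μ) (x q : PowerSeries k) (hxσ : σ x = x)
    (hxo : x.order = (p : ℕ∞)) (hq : x ^ μ * (1 - q ^ (p - 1)) = f * q ^ p) : μ = m := by
  have hp := (Fact.out : p.Prime)
  have hp2 : 2 ≤ p := hp.two_le
  haveI : CharP (PowerSeries k) p :=
    charP_of_injective_algebraMap (algebraMap k (PowerSeries k)).injective p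
  obtain ⟨w₁, hw₁, hσ⟩ := exists_w σ m hm
  have hm1 := one_le_m p σ hσp m w₁ hw₁ hσ
  have hx0 : constantCoeff x = 0 := by
    by_contra h
    have : x.order = 0 := order_zero_of_unit (isUnit_iff_constantCoeff.mpr (isUnit_iff_ne_zero.mpr h))
    rw [this] at hxo
    have : (p : ℕ∞) ≠ 0 := by exact_mod_cast hp.ne_zero
    exact this hxo.symm
  have hxne : x ≠ 0 := by
    intro h
    rw [h, order_zero] at hxo
    exact ENat.top_ne_natCast _ hxo
  -- q has zero constant term
  have hq0 : constantCoeff q = 0 := by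
    by_contra h
    have h1 := congrArg constantCoeff hq
    simp only [map_mul, map_pow, hx0] at h1
    rw [zero_pow hμ.ne', zero_mul] at h1
    exact (mul_ne_zero hf0 (pow_ne_zero _ h)) h1.symm
  have hunit : IsUnit (1 - q ^ (p - 1)) := by
    rw [isUnit_iff_constantCoeff, isUnit_iff_ne_zero]
    simp only [map_sub, map_one, map_pow, hq0]
    rw [zero_pow (by omega), sub_zero]
    exact one_ne_zero
  have hfunit : IsUnit f := isUnit_iff_constantCoeff.mpr (isUnit_iff_ne_zero.mpr hf0)
  -- order of q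
  have hqo : q.order = (μ : ℕ∞) := by
    have h1 := congrArg order hq
    rw [order_mul, order_mul, order_pow, order_pow, order_zero_of_unit hunit,
      order_zero_of_unit hfunit, hxo, add_zero, zero_add] at h1
    have hqne : q.order ≠ ⊤ := by
      intro h
      rw [h] at h1
      simp only [nsmul_eq_mul] at h1
      rw [ENat.mul_top (by exact_mod_cast hp.ne_zero)] at h1
      exact ENat.top_ne_natCast _ (by rw [← h1]; push_cast; rfl)
    obtain ⟨a, ha⟩ := ENat.ne_top_iff_exists.mp hqne
    rw [← ha] at h1 ⊢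
    simp only [nsmul_eq_mul] at h1
    have h2 : μ * p = p * a := by exact_mod_cast h1
    have : a = μ := by
      have := hp.pos
      nlinarith [Nat.eq_of_mul_eq_mul_left hp.pos (by linarith : p * μ = p * a)]
    rw [this]
  -- the conjugate
  set q' := σ q with hq'
  have hq'eq : x ^ μ * (1 - q' ^ (p - 1)) = f * q' ^ p := by
    have := congrArg σ hq
    simpa [map_mul, map_pow, map_sub, hxσ, hfσ] using this
  have key : (q' - q) ^ p = (q * q') ^ (p - 1) * (q' - q) := by
    have h1 : x ^ μ * (q' ^ p * (1 - q ^ (p - 1))) = x ^ μ * (q ^ p * (1 - q' ^ (p - 1))) := by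
      linear_combination q' ^ p * hq - q ^ p * hq'eq
    have h2 := mul_left_cancel₀ (pow_ne_zero μ hxne) h1
    rw [sub_pow_char]
    have hpp : ∀ y : PowerSeries k, y ^ p = y ^ (p - 1) * y := by
      intro y
      rw [← pow_succ]
      congr 1
      omega
    rw [mul_pow]
    linear_combination h2 - (q' ^ (p - 1)) * hpp q + (q ^ (p - 1)) * hpp q' + 0 * hpp (q' - q)
  have hμk : ((μ : ℕ) : k) ≠ 0 := by
    rw [Ne, CharP.cast_eq_zero_iff k p]
    exact hpμ
  have hord := order_sub_eq σ m hm1 w₁ hw₁ hσ q μ hqo hμk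
  have hq'o : q'.order = (μ : ℕ∞) := by rw [hq', order_apply, hqo]
  have hne : q' - q ≠ 0 := by
    intro h
    rw [h, order_zero] at hord
    exact ENat.top_ne_natCast _ hord
  have hpp : (q' - q) ^ p = (q' - q) ^ (p - 1) * (q' - q) := by
    rw [← pow_succ]
    congr 1
    omega
  rw [hpp] at key
  have key2 := mul_right_cancel₀ hne key
  have h3 := congrArg order key2
  rw [order_pow, order_pow, order_mul, hord, hqo, hq'o] at h3
  simp only [nsmul_eq_mul] at h3
  have h4 : (p - 1) * (μ + m) = (p - 1) * (μ + μ) := by exact_mod_cast h3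
  have h5 : 0 < p - 1 := by omega
  have := Nat.eq_of_mul_eq_mul_left h5 h4
  omega

end Groth.Agent.Lib.Helper18AS

namespace Groth.Agent.Lib.Helper18AS

universe u

open Groth.Agent.S19996

theorem main
    (p : ℕ) [Fact p.Prime] (k : Type u) [Field k] [CharP k p]
    (σ : PowerSeries k ≃ₐ[k] PowerSeries k) (hσp : σ ^ p = 1)
    (m : ℕ) (hm : (σ PowerSeries.X - PowerSeries.X).order = ((m + 1 : ℕ) : ℕ∞))
    (f : PowerSeries k) (hfσ : σ f = f) (hf0 : PowerSeries.constantCoeff f ≠ 0)
    (μ : ℕ) (hμ : 0 < μ) (hpμ : ¬ p ∣ μ)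
    (z : FractionRing (PowerSeries k))
    (hz : z ^ p - z = algebraMap (PowerSeries k) (FractionRing (PowerSeries k)) f /
      algebraMap (PowerSeries k) (FractionRing (PowerSeries k))
        (∏ i ∈ Finset.range p, (σ ^ i) PowerSeries.X) ^ μ) :
    μ = m := by
  have hp := (Fact.out : p.Prime)
  have hp2 : 2 ≤ p := hp.two_le
  set x := ∏ i ∈ Finset.range p, (σ ^ i) (PowerSeries.X : PowerSeries k) with hx
  have hxo : x.order = (p : ℕ∞) := order_norm p σ
  have hxσ : σ x = x := apply_norm p σ hσp
  have hxne : x ≠ 0 := by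
    intro h
    rw [h, order_zero] at hxo
    exact ENat.top_ne_natCast _ hxo
  have hx0 : constantCoeff x = 0 := by
    by_contra h
    have : x.order = 0 := order_zero_of_unit (isUnit_iff_constantCoeff.mpr (isUnit_iff_ne_zero.mpr h))
    rw [this] at hxo
    have : (p : ℕ∞) ≠ 0 := by exact_mod_cast hp.ne_zero
    exact this hxo.symm
  have hinj := IsFractionRing.injective (PowerSeries k) (FractionRing (PowerSeries k))
  have hfne : f ≠ 0 := by
    intro h
    rw [h] at hf0
    simp at hf0
  obtain ⟨a, b, hb, rfl⟩ := IsFractionRing.div_surjective (A := PowerSeries k) z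
  have hbne : b ≠ 0 := nonZeroDivisors.ne_zero hb
  have hιb : algebraMap (PowerSeries k) (FractionRing (PowerSeries k)) b ≠ 0 := by
    intro h
    exact hbne (hinj (by rw [h, map_zero]))
  have hιx : algebraMap (PowerSeries k) (FractionRing (PowerSeries k)) x ≠ 0 := by
    intro h
    exact hxne (hinj (by rw [h, map_zero]))
  have hbp : b ^ p = b ^ (p - 1) * b := by
    rw [← pow_succ]
    congr 1
    omega
  have heq : x ^ μ * (a ^ p - a * b ^ (p - 1)) = f * b ^ p := by
    apply hinj
    simp only [map_mul, map_pow, map_sub]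
    have hbp' := congrArg (algebraMap (PowerSeries k) (FractionRing (PowerSeries k))) hbp
    simp only [map_mul, map_pow] at hbp'
    rw [div_pow, div_sub_div _ _ (pow_ne_zero p hιb) hιb,
      div_eq_div_iff (mul_ne_zero (pow_ne_zero p hιb) hιb) (pow_ne_zero μ hιx)] at hz
    apply mul_right_cancel₀ hιb
    linear_combination hz + (algebraMap (PowerSeries k) (FractionRing (PowerSeries k)) x) ^ μ *
      (algebraMap (PowerSeries k) (FractionRing (PowerSeries k)) a) * hbp'
  have hfunit : IsUnit f := isUnit_iff_constantCoeff.mpr (isUnit_iff_ne_zero.mpr hf0)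
  have hane : a ≠ 0 := by
    intro h
    rw [h] at heq
    simp only [zero_pow hp.ne_zero, zero_mul, sub_zero, mul_zero] at heq
    exact (mul_ne_zero hfne (pow_ne_zero p hbne)) heq.symm
  by_cases hab : b.order ≤ a.order
  · -- z integral: contradiction
    exfalso
    obtain ⟨c, rfl⟩ := dvd_of_order_le hbne hab
    have h1 : b ^ p * (x ^ μ * (c ^ p - c)) = b ^ p * f := by
      linear_combination heq - x ^ μ * c * hbp
    have h2 := mul_left_cancel₀ (pow_ne_zero p hbne) h1
    have h3 := congrArg constantCoeff h2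
    simp only [map_mul, map_pow, hx0] at h3
    rw [zero_pow hμ.ne', zero_mul] at h3
    exact hf0 h3.symm
  · push Not at hab
    obtain ⟨q, rfl⟩ := dvd_of_order_le hane hab.le
    have hap : a ^ p = a ^ (p - 1) * a := by
      rw [← pow_succ]
      congr 1
      omega
    have h1 : a ^ p * (x ^ μ * (1 - q ^ (p - 1))) = a ^ p * (f * q ^ p) := by
      rw [mul_pow, mul_pow] at heq
      linear_combination heq - x ^ μ * q ^ (p - 1) * hap
    have h2 := mul_left_cancel₀ (pow_ne_zero p hane) h1
    exact core p σ hσp m hm f hfσ hf0 μ hμ hpμ x q hxσ hxo h2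

end Groth.Agent.Lib.Helper18AS
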