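import Mathlib

set_option autoImplicit false

namespace Groth.Agent.Lib.Helper18Adic


theorem retract_complete {A : Type*} [CommRing A] (I : Ideal A) {M N : Type*} [AddCommGroup M] [Module A M]
    [AddCommGroup N] [Module A N] [IsAdicComplete I N] (ι : M →ₗ[A] N) (π : N →ₗ[A] M)
    (h : ∀ x, π (ι x) = x) : IsAdicComplete I M := by
  have hmap : ∀ (n : ℕ) (y : N), y ∈ (I ^ n • ⊤ : Submodule A N) → π y ∈ (I ^ n • ⊤ : Submodule A M) := by
    intro n y hy
    have : (I ^ n • ⊤ : Submodule A N).map π ≤ I ^ n • ⊤ := by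
      rw [Submodule.map_smul'']
      exact Submodule.smul_mono le_rfl le_top
    exact this ⟨y, hy, rfl⟩
  have hmap' : ∀ (n : ℕ) (y : M), y ∈ (I ^ n • ⊤ : Submodule A M) → ι y ∈ (I ^ n • ⊤ : Submodule A N) := by
    intro n y hy
    have : (I ^ n • ⊤ : Submodule A M).map ι ≤ I ^ n • ⊤ := by
      rw [Submodule.map_smul'']
      exact Submodule.smul_mono le_rfl le_top
    exact this ⟨y, hy, rfl⟩
  refine { haus' := ?_, prec' := ?_ }
  · intro x hx
    have : ι x = 0 := by
      apply IsHausdorff.haus (inferInstance : IsHausdorff I N)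
      intro n
      rw [SModEq.zero]
      apply hmap'
      rw [← SModEq.zero]
      exact hx n
    rw [← h x, this, map_zero]
  · intro f hf
    obtain ⟨y, hy⟩ := IsPrecomplete.prec (inferInstance : IsPrecomplete I N) (f := fun n => ι (f n)) (by
      intro m n hmn
      have := hf hmn
      rw [SModEq.sub_mem] at this ⊢
      rw [← map_sub]
      exact hmap' _ _ this)
    refine ⟨π y, fun n => ?_⟩
    have := hy n
    rw [SModEq.sub_mem] at this ⊢
    have h2 := hmap _ _ this
    rwa [map_sub, h] at h2

universe u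
theorem main0546 (A : Type u) [CommRing A] (I J : Ideal A) (hIJ : I ≤ J)
    (hI : I.FG) (M : Type u) [AddCommGroup M] [Module A M] [IsAdicComplete J M] :
    IsAdicComplete I M := by
  have : IsAdicComplete I (AdicCompletion I M) := AdicCompletion.isAdicComplete hI
  have hle : ∀ n : ℕ, (I ^ n • ⊤ : Submodule A M) ≤ J ^ n • ⊤ := fun n =>
    Submodule.smul_mono (Ideal.pow_right_mono hIJ n) le_rfl
  let φ : AdicCompletion I M →ₗ[A] AdicCompletion J M :=
    AdicCompletion.lift J (fun n => (Submodule.factor (hle n)) ∘ₗ AdicCompletion.eval I M n) (by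
      intro m n hmn
      refine LinearMap.ext fun x => ?_
      simp only [LinearMap.coe_comp, Function.comp_apply]
      rw [AdicCompletion.eval_apply, AdicCompletion.eval_apply, ← AdicCompletion.transitionMap_comp_eval_apply I M hmn x]
      obtain ⟨y, hy⟩ := Submodule.Quotient.mk_surjective _ (x.val n)
      rw [← hy]
      rfl)
  let π : AdicCompletion I M →ₗ[A] M := (AdicCompletion.ofLinearEquiv J M).symm.toLinearMap ∘ₗ φ
  refine retract_complete I (AdicCompletion.of I M) π ?_
  intro x
  have : φ (AdicCompletion.of I M x) = AdicCompletion.of J M x := by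
    ext n
    rfl
  simp only [π, LinearMap.coe_comp, Function.comp_apply, this]
  simp

end Groth.Agent.Lib.Helper18Adic
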