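import Mathlib

set_option autoImplicit false
set_option linter.style.haveILetI false

namespace Groth.Agent.Helper18AdicSplit

universe u
open Submodule TensorProduct

section Part1
variable {R : Type*} [CommRing R] {K P M : Type*} [AddCommGroup K] [Module R K]
  [AddCommGroup P] [Module R P] [AddCommGroup M] [Module R M]

/-- flat quotient: `f⁻¹(J P) = J K`. -/
theorem mem_smul_top_of_flat (f : K →ₗ[R] P) (g : P →ₗ[R] M)
    (hf : Function.Injective f) (hg : Function.Surjective g) (hfg : Function.Exact f g)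
    [Module.Flat R M] (J : Ideal R) (x : K) (hx : f x ∈ (J • ⊤ : Submodule R P)) :
    x ∈ (J • ⊤ : Submodule R K) := by
  have hinj := LinearMap.lTensor_injective_of_exact_of_flat g hg f hf hfg (R ⧸ J)
  have h1 : ((1 : R ⧸ J) ⊗ₜ[R] f x) = 0 := by
    apply (TensorProduct.quotTensorEquivQuotSMul P J).injective
    rw [TensorProduct.quotTensorEquivQuotSMul_mk_one_tmul, map_zero]
    exact (Submodule.Quotient.mk_eq_zero _).2 hx
  have h2 : ((1 : R ⧸ J) ⊗ₜ[R] x) = 0 := by
    apply hinj
    rw [LinearMap.lTensor_tmul, h1, map_zero]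
  have h3 := congrArg (TensorProduct.quotTensorEquivQuotSMul K J) h2
  rw [TensorProduct.quotTensorEquivQuotSMul_mk_one_tmul, map_zero] at h3
  exact (Submodule.Quotient.mk_eq_zero _).1 h3

theorem reduceModIdeal_injective (f : K →ₗ[R] P) (g : P →ₗ[R] M)
    (hf : Function.Injective f) (hg : Function.Surjective g) (hfg : Function.Exact f g)
    [Module.Flat R M] (J : Ideal R) : Function.Injective (f.reduceModIdeal J) := by
  rw [injective_iff_map_eq_zero]
  intro x hx
  obtain ⟨k, rfl⟩ := Submodule.Quotient.mk_surjective _ x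
  rw [LinearMap.reduceModIdeal_apply, Submodule.Quotient.mk_eq_zero] at hx
  exact (Submodule.Quotient.mk_eq_zero _).2 (mem_smul_top_of_flat f g hf hg hfg J k hx)

theorem smul_top_eq_map (g : P →ₗ[R] M) (hg : Function.Surjective g) (J : Ideal R) :
    (J • ⊤ : Submodule R M) = Submodule.map g (J • ⊤) := by
  rw [Submodule.map_smul'', Submodule.map_top, LinearMap.range_eq_top.2 hg]

theorem exists_of_reduce_eq_zero (f : K →ₗ[R] P) (g : P →ₗ[R] M)
    (hg : Function.Surjective g) (hfg : Function.Exact f g) (J : Ideal R)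
    (y : P ⧸ (J • ⊤ : Submodule R P)) (hy : g.reduceModIdeal J y = 0) :
    ∃ x, f.reduceModIdeal J x = y := by
  obtain ⟨p, rfl⟩ := Submodule.Quotient.mk_surjective _ y
  rw [LinearMap.reduceModIdeal_apply, Submodule.Quotient.mk_eq_zero, smul_top_eq_map g hg] at hy
  obtain ⟨c, hc, hc'⟩ := hy
  have : g (p - c) = 0 := by rw [map_sub, hc', sub_self]
  obtain ⟨k, hk⟩ := (hfg (p - c)).1 this
  refine ⟨Submodule.Quotient.mk k, ?_⟩
  rw [LinearMap.reduceModIdeal_apply, hk, Submodule.Quotient.mk_sub,
    (Submodule.Quotient.mk_eq_zero _).2 hc, sub_zero]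

end Part1

section Part2

variable {R : Type*} [CommRing R] (I : Ideal R) {E M : Type*} [AddCommGroup E] [Module R E]
  [AddCommGroup M] [Module R M]

theorem exists_section_of_flat_of_projective
    [Module.Flat R M] [Module.Projective (R ⧸ I) (M ⧸ (I • ⊤ : Submodule R M))]
    (q : E →ₗ[R] M) (hq : Function.Surjective q)
    (hker : ∀ e, q e = 0 → ∀ r ∈ I, r • e = 0) :
    ∃ s : M →ₗ[R] E, ∀ m, q (s m) = m := by
  classical
  have hqbar : Function.Surjective (q.reduceModIdeal I) := by
    intro y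
    obtain ⟨m, rfl⟩ := Submodule.Quotient.mk_surjective _ y
    obtain ⟨e, rfl⟩ := hq m
    exact ⟨Submodule.Quotient.mk e, rfl⟩
  obtain ⟨σ, hσ⟩ := Module.projective_lifting_property (q.reduceModIdeal I) LinearMap.id hqbar
  let Φ : E →ₗ[R] M × (E ⧸ (I • ⊤ : Submodule R E)) := q.prod (Submodule.mkQ _)
  have hΦ : Function.Injective Φ := by
    rw [injective_iff_map_eq_zero]
    intro e he
    have h1 : q e = 0 := congrArg Prod.fst he
    have h2 : e ∈ (I • ⊤ : Submodule R E) :=
      (Submodule.Quotient.mk_eq_zero _).1 (congrArg Prod.snd he)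
    have h3 := mem_smul_top_of_flat (LinearMap.ker q).subtype q (Submodule.subtype_injective _) hq
      (LinearMap.exact_subtype_ker_map q) I ⟨e, h1⟩ h2
    have hbot : (I • ⊤ : Submodule R (LinearMap.ker q)) = ⊥ := by
      rw [eq_bot_iff]
      intro x hx
      refine Submodule.smul_induction_on hx (fun r hr n _ => ?_) (fun a b ha hb => ?_)
      · rw [Submodule.mem_bot]
        ext
        exact hker n.1 n.2 r hr
      · exact Submodule.add_mem _ ha hb
    rw [hbot, Submodule.mem_bot] at h3
    exact congrArg Subtype.val h3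
  let τ : M →ₗ[R] M × (E ⧸ (I • ⊤ : Submodule R E)) :=
    LinearMap.id.prod ((σ.restrictScalars R) ∘ₗ Submodule.mkQ _)
  have hτ : ∀ m, τ m ∈ LinearMap.range Φ := by
    intro m
    obtain ⟨e₀, rfl⟩ := hq m
    obtain ⟨e₁, he₁⟩ := Submodule.Quotient.mk_surjective _ (σ (Submodule.Quotient.mk (q e₀)))
    have h3 : q (e₁ - e₀) ∈ (I • ⊤ : Submodule R M) := by
      rw [← Submodule.Quotient.mk_eq_zero, map_sub, Submodule.Quotient.mk_sub, sub_eq_zero,
        ← LinearMap.reduceModIdeal_apply, he₁]
      exact LinearMap.congr_fun hσ _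
    rw [smul_top_eq_map q hq] at h3
    obtain ⟨c, hc, hc'⟩ := h3
    refine ⟨e₁ - c, Prod.ext ?_ ?_⟩
    · change q (e₁ - c) = q e₀
      rw [map_sub, hc', map_sub]; abel
    · change Submodule.Quotient.mk (e₁ - c) = σ (Submodule.Quotient.mk (q e₀))
      rw [Submodule.Quotient.mk_sub, (Submodule.Quotient.mk_eq_zero _).2 hc, sub_zero, he₁]
  let s : M →ₗ[R] E := (LinearEquiv.ofInjective Φ hΦ).symm.toLinearMap ∘ₗ
    LinearMap.codRestrict (LinearMap.range Φ) τ hτ
  refine ⟨s, fun m => ?_⟩
  have h5 : Φ (s m) = τ m := by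
    have := (LinearEquiv.ofInjective Φ hΦ).apply_symm_apply
      (LinearMap.codRestrict (LinearMap.range Φ) τ hτ m)
    exact congrArg Subtype.val this
  exact congrArg Prod.fst h5

end Part2

end Groth.Agent.Helper18AdicSplit
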