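import Groth.Agent.Lib.Helper18AdicSplitA

set_option autoImplicit false
set_option linter.style.haveILetI false

namespace Groth.Agent.Helper18AdicSplit

universe u
open Submodule TensorProduct

section Part3

variable {R : Type*} [CommRing R] (I : Ideal R) {P M : Type*} [AddCommGroup P] [Module R P]
  [AddCommGroup M] [Module R M]

theorem exists_lift_succ [Module.Flat R M]
    [Module.Projective (R ⧸ I) (M ⧸ (I • ⊤ : Submodule R M))]
    (g : P →ₗ[R] M) (hg : Function.Surjective g) (n : ℕ)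
    (t : M →ₗ[R] P ⧸ (I ^ n • ⊤ : Submodule R P))
    (ht : ∀ m, g.reduceModIdeal (I ^ n) (t m) = Submodule.Quotient.mk m) :
    ∃ t' : M →ₗ[R] P ⧸ (I ^ (n + 1) • ⊤ : Submodule R P),
      (∀ m, g.reduceModIdeal (I ^ (n + 1)) (t' m) = Submodule.Quotient.mk m) ∧
      (∀ m, Submodule.factorPow I P (Nat.le_succ n) (t' m) = t m) := by
  classical
  let A := P ⧸ (I ^ (n + 1) • ⊤ : Submodule R P)
  let φ₁ : (A × M) →ₗ[R] P ⧸ (I ^ n • ⊤ : Submodule R P) :=
    (Submodule.factorPow I P (Nat.le_succ n)) ∘ₗ LinearMap.fst R A M - t ∘ₗ LinearMap.snd R A M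
  let φ₂ : (A × M) →ₗ[R] M ⧸ (I ^ (n + 1) • ⊤ : Submodule R M) :=
    ((g.reduceModIdeal (I ^ (n + 1))).restrictScalars R) ∘ₗ LinearMap.fst R A M -
      (Submodule.mkQ _) ∘ₗ LinearMap.snd R A M
  let E : Submodule R (A × M) := LinearMap.ker φ₁ ⊓ LinearMap.ker φ₂
  have hE : ∀ x : A × M, x ∈ E ↔ Submodule.factorPow I P (Nat.le_succ n) x.1 = t x.2 ∧
      g.reduceModIdeal (I ^ (n + 1)) x.1 = Submodule.Quotient.mk x.2 := by
    intro x
    simp only [E, Submodule.mem_inf, LinearMap.mem_ker, φ₁, φ₂, LinearMap.sub_apply,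
      LinearMap.comp_apply, LinearMap.fst_apply, LinearMap.snd_apply, sub_eq_zero,
      LinearMap.restrictScalars_apply, Submodule.mkQ_apply]
  let q : E →ₗ[R] M := LinearMap.snd R A M ∘ₗ E.subtype
  have hq : Function.Surjective q := by
    intro m
    obtain ⟨p, hp⟩ := Submodule.Quotient.mk_surjective _ (t m)
    have h1 : g p - m ∈ (I ^ n • ⊤ : Submodule R M) := by
      rw [← Submodule.Quotient.mk_eq_zero, Submodule.Quotient.mk_sub, sub_eq_zero,
        ← LinearMap.reduceModIdeal_apply, hp, ht]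
    rw [smul_top_eq_map g hg] at h1
    obtain ⟨c, hc, hc'⟩ := h1
    have hmem : ((Submodule.Quotient.mk (p - c) : A), m) ∈ E := by
      rw [hE]
      refine ⟨?_, ?_⟩
      · change Submodule.factorPow I P (Nat.le_succ n) (Submodule.Quotient.mk (p - c)) = t m
        change (Submodule.Quotient.mk (p - c) : P ⧸ (I ^ n • ⊤ : Submodule R P)) = t m
        rw [Submodule.Quotient.mk_sub,
          (Submodule.Quotient.mk_eq_zero _).2 hc, sub_zero, hp]
      · change g.reduceModIdeal (I ^ (n + 1)) (Submodule.Quotient.mk (p - c)) =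
          Submodule.Quotient.mk m
        rw [LinearMap.reduceModIdeal_apply, map_sub, hc', sub_sub_cancel]
    exact ⟨⟨_, hmem⟩, rfl⟩
  have hker : ∀ e : E, q e = 0 → ∀ r ∈ I, r • e = 0 := by
    rintro ⟨⟨a, m⟩, hx⟩ hm r hr
    change m = 0 at hm
    subst hm
    have h1 := ((hE _).1 hx).1
    simp only [map_zero] at h1
    obtain ⟨p, rfl⟩ := Submodule.Quotient.mk_surjective _ a
    change (Submodule.Quotient.mk p : P ⧸ (I ^ n • ⊤ : Submodule R P)) = 0 at h1
    rw [Submodule.Quotient.mk_eq_zero] at h1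
    ext
    · change r • (Submodule.Quotient.mk p : A) = 0
      rw [← Submodule.Quotient.mk_smul, Submodule.Quotient.mk_eq_zero, pow_succ', mul_smul]
      exact Submodule.smul_mem_smul hr h1
    · change r • (0 : M) = 0
      rw [smul_zero]
  obtain ⟨s, hs⟩ := exists_section_of_flat_of_projective I q hq hker
  refine ⟨LinearMap.fst R A M ∘ₗ E.subtype ∘ₗ s, fun m => ?_, fun m => ?_⟩
  · have h1 := ((hE _).1 (s m).2).2
    have h2 : ((s m : A × M)).2 = m := hs m
    rw [h2] at h1
    exact h1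
  · have h1 := ((hE _).1 (s m).2).1
    have h2 : ((s m : A × M)).2 = m := hs m
    rw [h2] at h1
    exact h1

end Part3

end Groth.Agent.Helper18AdicSplit
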