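import Groth.Agent.Lib.Helper18AdicSplitB

set_option autoImplicit false
set_option linter.style.haveILetI false

namespace Groth.Agent.Helper18AdicSplit

universe u
open Submodule TensorProduct

section Part4

variable {R : Type*} [CommRing R] (I : Ideal R) {P M : Type*} [AddCommGroup P] [Module R P]
  [AddCommGroup M] [Module R M] [Module.Flat R M]
  [Module.Projective (R ⧸ I) (M ⧸ (I • ⊤ : Submodule R M))]
  (g : P →ₗ[R] M) (hg : Function.Surjective g)

theorem subsingleton_quot_zero (M : Type*) [AddCommGroup M] [Module R M] :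
    Subsingleton (M ⧸ (I ^ 0 • ⊤ : Submodule R M)) := by
  rw [pow_zero, Ideal.one_eq_top, Submodule.top_smul]
  exact Submodule.Quotient.subsingleton_iff.2 rfl

/-- compatible lifts of `M → M/IⁿM` through `P/IⁿP → M/IⁿM`. -/
noncomputable def liftSeq : (n : ℕ) → {t : M →ₗ[R] P ⧸ (I ^ n • ⊤ : Submodule R P) //
    ∀ m, g.reduceModIdeal (I ^ n) (t m) = Submodule.Quotient.mk m}
  | 0 => ⟨0, fun m => by
      haveI := subsingleton_quot_zero I M
      exact Subsingleton.elim _ _⟩
  | n + 1 => ⟨(exists_lift_succ I g hg n (liftSeq n).1 (liftSeq n).2).choose,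
      (exists_lift_succ I g hg n (liftSeq n).1 (liftSeq n).2).choose_spec.1⟩

theorem liftSeq_succ (n : ℕ) (m : M) :
    Submodule.factorPow I P (Nat.le_succ n) ((liftSeq I g hg (n + 1)).1 m) =
      (liftSeq I g hg n).1 m :=
  (exists_lift_succ I g hg n (liftSeq I g hg n).1 (liftSeq I g hg n).2).choose_spec.2 m

theorem liftSeq_compat {m n : ℕ} (hmn : m ≤ n) (x : M) :
    Submodule.factorPow I P hmn ((liftSeq I g hg n).1 x) = (liftSeq I g hg m).1 x := by
  have hanti : Antitone (fun k : ℕ => (I ^ k • ⊤ : Submodule R P)) :=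
    fun a b hab => Submodule.pow_smul_top_le I P hab
  exact (Submodule.eq_factor_of_eq_factor_succ hanti (fun k => (liftSeq I g hg k).1 x)
    (fun k => (liftSeq_succ I g hg k x).symm) hmn).symm

/-- the `n`-th section `M/IⁿM → P/IⁿP`. -/
noncomputable def secN (n : ℕ) :
    M ⧸ (I ^ n • ⊤ : Submodule R M) →ₗ[R ⧸ I ^ n] P ⧸ (I ^ n • ⊤ : Submodule R P) :=
  LinearMap.extendScalarsOfSurjective Ideal.Quotient.mk_surjective <|
    Submodule.liftQ _ (liftSeq I g hg n).1 (by
      rw [Submodule.smul_le]
      intro r hr m _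
      rw [LinearMap.mem_ker, map_smul]
      obtain ⟨p, hp⟩ := Submodule.Quotient.mk_surjective _ ((liftSeq I g hg n).1 m)
      rw [← hp, ← Submodule.Quotient.mk_smul, Submodule.Quotient.mk_eq_zero]
      exact Submodule.smul_mem_smul hr Submodule.mem_top)

theorem secN_mk (n : ℕ) (m : M) :
    secN I g hg n (Submodule.Quotient.mk m) = (liftSeq I g hg n).1 m := rfl

theorem reduce_secN (n : ℕ) (y : M ⧸ (I ^ n • ⊤ : Submodule R M)) :
    g.reduceModIdeal (I ^ n) (secN I g hg n y) = y := by
  obtain ⟨m, rfl⟩ := Submodule.Quotient.mk_surjective _ y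
  rw [secN_mk]
  exact (liftSeq I g hg n).2 m

theorem secN_compat {m n : ℕ} (hmn : m ≤ n) (y : M ⧸ (I ^ n • ⊤ : Submodule R M)) :
    Submodule.factorPow I P hmn (secN I g hg n y) =
      secN I g hg m (Submodule.factorPow I M hmn y) := by
  obtain ⟨x, rfl⟩ := Submodule.Quotient.mk_surjective _ y
  rw [secN_mk]
  change _ = secN I g hg m (Submodule.Quotient.mk x)
  rw [secN_mk, liftSeq_compat]

/-- the section on completions. -/
noncomputable def sec : AdicCompletion I M →ₗ[AdicCompletion I R] AdicCompletion I P where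
  __ := AdicCompletion.lift I
    (fun n ↦ ((secN I g hg n).restrictScalars R) ∘ₗ AdicCompletion.eval I M n)
    (fun {m n} hmn ↦ by
      apply LinearMap.ext
      intro x
      simp only [LinearMap.comp_apply, LinearMap.restrictScalars_apply, AdicCompletion.eval_apply]
      rw [← AdicCompletion.transitionMap_comp_eval_apply I M hmn x]
      exact secN_compat I g hg hmn (x.val n))
  map_smul' r x := by
    ext n
    dsimp
    rw [AdicCompletion.val_smul_eq_evalₐ_smul, AdicCompletion.val_smul_eq_evalₐ_smul, map_smul]

theorem sec_val (x : AdicCompletion I M) (n : ℕ) :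
    (sec I g hg x).val n = secN I g hg n (x.val n) := rfl

theorem map_comp_sec : AdicCompletion.map I g ∘ₗ sec I g hg = LinearMap.id := by
  apply LinearMap.ext
  intro x
  apply AdicCompletion.ext
  intro n
  rw [LinearMap.comp_apply, AdicCompletion.map_val_apply, sec_val, reduce_secN]
  rfl

end Part4

section Main

theorem main (R : Type u) [CommRing R] (I : Ideal R)
    (K P M : Type u) [AddCommGroup K] [Module R K] [AddCommGroup P] [Module R P]
    [AddCommGroup M] [Module R M] (f : K →ₗ[R] P) (g : P →ₗ[R] M)
    (hf : Function.Injective f) (hg : Function.Surjective g) (hfg : Function.Exact f g)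
    [Module.Flat R M] [Module.Projective (R ⧸ I) (M ⧸ (I • ⊤ : Submodule R M))] :
    Function.Injective (AdicCompletion.map I f) ∧
      Function.Exact (AdicCompletion.map I f) (AdicCompletion.map I g) ∧
      ∃ s : AdicCompletion I M →ₗ[AdicCompletion I R] AdicCompletion I P,
        AdicCompletion.map I g ∘ₗ s = LinearMap.id := by
  refine ⟨?_, ?_, ⟨sec I g hg, map_comp_sec I g hg⟩⟩
  · rw [injective_iff_map_eq_zero]
    intro x hx
    apply AdicCompletion.ext
    intro n
    apply reduceModIdeal_injective f g hf hg hfg (I ^ n)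
    have h1 : (AdicCompletion.map I f x).val n = 0 := by rw [hx]; rfl
    rw [AdicCompletion.map_val_apply] at h1
    rw [h1]
    exact (map_zero _).symm
  · intro y
    constructor
    · intro hy
      have hy' : ∀ n, g.reduceModIdeal (I ^ n) (y.val n) = 0 := fun n => by
        rw [← AdicCompletion.map_val_apply, hy]; rfl
      choose x hx using fun n => exists_of_reduce_eq_zero f g hg hfg (I ^ n) (y.val n) (hy' n)
      refine ⟨⟨x, ?_⟩, ?_⟩
      · intro m n hmn
        apply reduceModIdeal_injective f g hf hg hfg (I ^ m)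
        have h1 := LinearMap.congr_fun (AdicCompletion.transitionMap_comp_reduceModIdeal I f hmn)
          (x n)
        simp only [LinearMap.comp_apply] at h1
        rw [hx m, ← AdicCompletion.transitionMap_comp_eval_apply I P hmn y, ← hx n]
        exact h1.symm
      · apply AdicCompletion.ext
        intro n
        rw [AdicCompletion.map_val_apply]
        exact hx n
    · rintro ⟨x, rfl⟩
      rw [AdicCompletion.map_comp_apply, hfg.linearMap_comp_eq_zero, AdicCompletion.map_zero]
      rfl

end Main

end Groth.Agent.Helper18AdicSplit
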