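import Mathlib
import Groth.Agent.Lib.Helper4PunctAffine2

set_option autoImplicit false
set_option linter.style.haveILetI false
universe u
open CategoryTheory AlgebraicGeometry TopologicalSpace

namespace Groth.Agent.Helper18AffOpens

section top
variable {α : Type*} [TopologicalSpace α]

/-- the generic points of the irreducible components of a subset, viewed in the ambient space. -/
def G (C : Set α) : Set α := Subtype.val '' genericPoints ↥C

theorem G_subset (C : Set α) : G C ⊆ C := by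
  rintro _ ⟨w, -, rfl⟩
  exact w.2

theorem exists_G_specializes [QuasiSober α] {C : Set α} (hC : IsClosed C) {x : α} (hx : x ∈ C) :
    ∃ z ∈ G C, z ⤳ x := by
  haveI : QuasiSober ↥C := hC.isClosedEmbedding_subtypeVal.quasiSober
  let x' : ↥C := ⟨x, hx⟩
  let w := genericPoints.ofComponent
    (⟨irreducibleComponent x', irreducibleComponent_mem_irreducibleComponents x'⟩ :
      irreducibleComponents ↥C)
  have hw : IsGenericPoint w.1 (irreducibleComponent x') := genericPoints.isGenericPoint_ofComponent _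
  refine ⟨w.1.1, ⟨w.1, w.2, rfl⟩, ?_⟩
  have h1 : w.1 ⤳ x' := hw.specializes mem_irreducibleComponent
  exact (subtype_specializes_iff _ _).mp h1

theorem minimal_of_mem_G [T0Space α] {C : Set α} {z : α} (hz : z ∈ G C) {z' : α} (hz' : z' ∈ C)
    (h : z' ⤳ z) : z' = z := by
  obtain ⟨w, hw, rfl⟩ := hz
  let z'' : ↥C := ⟨z', hz'⟩
  have h1 : z'' ⤳ w := (subtype_specializes_iff _ _).mpr h
  have h2 : closure {w} ⊆ closure {z''} := specializes_iff_closure_subset.mp h1
  have h3 : closure {w} ∈ irreducibleComponents ↥C := hw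
  have h4 : closure {z''} ⊆ closure {w} :=
    h3.2 isIrreducible_singleton.closure h2
  have h5 : IsGenericPoint z'' (closure {w}) := le_antisymm h4 h2
  have h6 : z'' = w := h5.eq isGenericPoint_closure
  exact congrArg Subtype.val h6

theorem mem_G_of_minimal [QuasiSober α] {C : Set α} (hC : IsClosed C) {z : α} (hz : z ∈ C)
    (hmin : ∀ z' ∈ C, z' ⤳ z → z' = z) : z ∈ G C := by
  obtain ⟨w, hw, hwz⟩ := exists_G_specializes hC hz
  rw [← hmin w (G_subset C hw) hwz]
  exact hw

theorem finite_G [T0Space α] [NoetherianSpace α] (C : Set α) : (G C).Finite := by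
  haveI : NoetherianSpace ↥C := inferInstance
  exact (genericPoints.finite NoetherianSpace.finite_irreducibleComponents).image _

theorem eq_setOf_G [QuasiSober α] {C : Set α} (hC : IsClosed C) :
    C = {x | ∃ z ∈ G C, z ⤳ x} := by
  ext x
  constructor
  · exact fun hx => exists_G_specializes hC hx
  · rintro ⟨z, hz, hzx⟩
    exact hzx.mem_closed hC (G_subset C hz)

end top

section scheme
variable {S : Scheme.{u}}

theorem isAffineOpen_inf_of_isAffineHom (V : S.Opens) [IsAffineHom V.ι] {W : S.Opens}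
    (hW : IsAffineOpen W) : IsAffineOpen (V ⊓ W) := by
  have h1 : IsAffineOpen (V.ι ⁻¹ᵁ W) := hW.preimage V.ι
  have h2 := h1.image_of_isOpenImmersion V.ι
  rwa [Scheme.Hom.image_preimage_eq_opensRange_inf, Scheme.Opens.opensRange_ι] at h2

theorem isAffineHom_of_forall_inf (V : S.Opens)
    (h : ∀ W : S.Opens, IsAffineOpen W → IsAffineOpen (V ⊓ W)) : IsAffineHom V.ι := by
  refine ⟨fun W hW => ?_⟩
  rw [← V.ι.isAffineOpen_iff_of_isOpenImmersion, Scheme.Hom.image_preimage_eq_opensRange_inf,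
    Scheme.Opens.opensRange_ι]
  exact h W hW

/-- a dense open contains the points of the minimal primes of every affine open chart. -/
theorem mem_of_dense_of_mem_minimalPrimes [IsNoetherian S] (U : S.Opens) (hU : Dense (U : Set S))
    {W : S.Opens} (hW : IsAffineOpen W) (q : PrimeSpectrum Γ(S, W))
    (hq : q.asIdeal ∈ minimalPrimes Γ(S, W)) : hW.fromSpec q ∈ U := by
  set z' := hW.fromSpec q with hz'
  have hT : closure {z'} ∈ irreducibleComponents S := by
    rw [irreducibleComponents_eq_maximals_closed]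
    refine ⟨⟨isClosed_closure, isIrreducible_singleton.closure⟩, ?_⟩
    rintro T' ⟨hT'c, hT'i⟩ hle
    obtain ⟨y, hy⟩ := QuasiSober.sober hT'i hT'c
    have hyz : y ⤳ z' := hy.specializes (hle (subset_closure rfl))
    have hz'W : z' ∈ W := by
      rw [← hW.opensRange_fromSpec]
      exact ⟨q, rfl⟩
    have hyW : y ∈ W := hyz.mem_open W.2 hz'W
    have hy' : hW.fromSpec (hW.primeIdealOf ⟨y, hyW⟩) = y := hW.fromSpec_primeIdealOf ⟨y, hyW⟩
    set q' := hW.primeIdealOf ⟨y, hyW⟩
    have h1 : q' ⤳ q := by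
      refine (hW.fromSpec.isOpenEmbedding.isInducing.specializes_iff).mp ?_
      rw [hy']
      exact hyz
    have h2 : q' ≤ q := (PrimeSpectrum.le_iff_specializes q' q).mpr h1
    have h3 : q.asIdeal ≤ q'.asIdeal := hq.2 ⟨q'.2, bot_le⟩ h2
    have h4 : q' = q := le_antisymm h2 h3
    have h5 : y = z' := by rw [← hy', h4]
    rw [← hy.def, h5]
  have hfin : (irreducibleComponents S).Finite := NoetherianSpace.finite_irreducibleComponents
  have hcl := closure_sUnion_irreducibleComponents_sdiff_singleton hfin _ hT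
  set N : Set S := (⋃₀ (irreducibleComponents S \ {closure {z'}}))ᶜ with hN
  have hNo : IsOpen N := by
    rw [hN, isOpen_compl_iff, Set.sUnion_eq_biUnion]
    exact hfin.sdiff.isClosed_biUnion fun Z hZ => isClosed_of_mem_irreducibleComponents Z hZ.1
  have hNne : N.Nonempty := by
    by_contra h
    rw [Set.not_nonempty_iff_eq_empty] at h
    rw [h, closure_empty] at hcl
    exact (Set.singleton_nonempty z').closure.ne_empty hcl.symm
  obtain ⟨y, hyN, hyU⟩ := hU.inter_open_nonempty N hNo hNne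
  have hy1 : y ∈ closure {z'} := hcl ▸ subset_closure hyN
  exact (specializes_iff_mem_closure.mpr hy1).mem_open U.2 hyU

theorem minimal_compl_of_isAffineHom [IsNoetherian S] (U V : S.Opens) (hUV : U ≤ V)
    (hU : Dense (U : Set S)) [IsAffineHom V.ι] {z : S} (hzV : z ∉ V)
    (hmin : ∀ z' : S, z' ∉ V → z' ⤳ z → z' = z) {z' : S} (hz'U : z' ∉ U) (hz' : z' ⤳ z) :
    z' = z := by
  by_contra hne
  obtain ⟨_, ⟨W, hW, rfl⟩, hzW, -⟩ :=
    S.isBasis_affineOpens.exists_subset_of_mem_open (Set.mem_univ z) isOpen_univ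
  have hz'W : z' ∈ W := hz'.mem_open W.2 hzW
  haveI : IsNoetherianRing Γ(S, W) := IsLocallyNoetherian.component_noetherian ⟨W, hW⟩
  set p := hW.primeIdealOf ⟨z, hzW⟩ with hp
  set q := hW.primeIdealOf ⟨z', hz'W⟩ with hq
  have hpz : hW.fromSpec p = z := hW.fromSpec_primeIdealOf ⟨z, hzW⟩
  have hqz : hW.fromSpec q = z' := hW.fromSpec_primeIdealOf ⟨z', hz'W⟩
  have hinj : Function.Injective hW.fromSpec := hW.fromSpec.isOpenEmbedding.injective
  have hU'aff : IsAffineOpen (hW.fromSpec ⁻¹ᵁ V) := by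
    have h1 := (isAffineOpen_inf_of_isAffineHom V hW).preimage_of_isOpenImmersion hW.fromSpec
      (by rw [hW.opensRange_fromSpec]; exact inf_le_right)
    have h2 : hW.fromSpec ⁻¹ᵁ (V ⊓ W) = hW.fromSpec ⁻¹ᵁ V := by
      ext x
      simp only [Scheme.Hom.preimage_inf, Opens.coe_inf, Set.mem_inter_iff, SetLike.mem_coe,
        and_iff_left_iff_imp]
      intro _
      have h3 : hW.fromSpec x ∈ hW.fromSpec.opensRange := ⟨x, rfl⟩
      rw [hW.opensRange_fromSpec] at h3
      exact h3
    rwa [h2] at h1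
  have hht : p.asIdeal.height ≤ 1 := by
    refine Groth.Agent.Lib.Helper4.PunctAffine.height_le_one_of_isAffineOpen_compl Γ(S, W)
      (hW.fromSpec ⁻¹ᵁ V) hU'aff p ?_ ?_
    · change hW.fromSpec p ∉ V
      rw [hpz]
      exact hzV
    · intro q' hq'p hq'V
      have h1 : q' ⤳ p := (PrimeSpectrum.le_iff_specializes q' p).mp hq'p
      have h2 : hW.fromSpec q' ⤳ z := by
        rw [← hpz]
        exact (hW.fromSpec.isOpenEmbedding.isInducing.specializes_iff).mpr h1
      have h3 : hW.fromSpec q' = z := hmin _ hq'V h2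
      exact hinj (h3.trans hpz.symm)
  have hqp : q ≤ p := by
    rw [PrimeSpectrum.le_iff_specializes]
    refine (hW.fromSpec.isOpenEmbedding.isInducing.specializes_iff).mp ?_
    rw [hpz, hqz]
    exact hz'
  have hqnep : q ≠ p := fun h => hne (by rw [← hqz, ← hpz, h])
  have hlt : q.asIdeal < p.asIdeal := lt_of_le_of_ne hqp (fun h => hqnep (PrimeSpectrum.ext h))
  have h1 : q.asIdeal.height + 1 ≤ 1 :=
    (Ideal.height_add_one_le_of_lt_of_isPrime hlt).trans hht
  have h2 : q.asIdeal.height = 0 := by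
    have : q.asIdeal.height + 1 ≤ 0 + 1 := by simpa using h1
    exact le_antisymm ((ENat.add_le_add_iff_right ENat.one_ne_top).mp this) bot_le
  have h3 : q.asIdeal ∈ minimalPrimes Γ(S, W) := Ideal.height_eq_zero_iff.mp h2
  have h4 := mem_of_dense_of_mem_minimalPrimes U hU hW q h3
  rw [hqz] at h4
  exact hz'U h4

theorem main_S13043 (S : Scheme.{u}) [IsNoetherian S] [S.IsSeparated] (U : S.Opens)
    (hU : Dense (U : Set S)) :
    Set.Finite {V : S.Opens | U ≤ V ∧ IsAffineHom V.ι} ∧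
      ∃ V₀ : S.Opens, (U ≤ V₀ ∧ IsAffineHom V₀.ι) ∧
        ∀ V : S.Opens, U ≤ V → IsAffineHom V.ι → V₀ ≤ V := by
  set 𝒱 := {V : S.Opens | U ≤ V ∧ IsAffineHom V.ι} with h𝒱
  have hfin : 𝒱.Finite := by
    have hsub : ∀ V ∈ 𝒱, G ((V : Set S)ᶜ) ∈ (G ((U : Set S)ᶜ)).powerset := by
      rintro V ⟨hUV, hVaff⟩ z hz
      have hzV : z ∉ V := G_subset _ hz
      refine mem_G_of_minimal U.2.isClosed_compl (fun h => hzV (hUV h)) ?_
      intro z' hz'U hz'
      exact minimal_compl_of_isAffineHom U V hUV hU hzV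
        (fun z'' hz''V h => minimal_of_mem_G hz hz''V h) hz'U hz'
    have hinj : Set.InjOn (fun V : S.Opens => G ((V : Set S)ᶜ)) 𝒱 := by
      intro V₁ _ V₂ _ h
      have h1 : ((V₁ : Set S)ᶜ) = {x | ∃ z ∈ G ((V₁ : Set S)ᶜ), z ⤳ x} :=
        eq_setOf_G V₁.2.isClosed_compl
      have h2 : ((V₂ : Set S)ᶜ) = {x | ∃ z ∈ G ((V₂ : Set S)ᶜ), z ⤳ x} :=
        eq_setOf_G V₂.2.isClosed_compl
      have h' : G ((V₁ : Set S)ᶜ) = G ((V₂ : Set S)ᶜ) := h
      rw [h'] at h1
      exact Opens.ext (compl_injective (h1.trans h2.symm))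
    exact Set.Finite.of_finite_image
      ((finite_G _).finite_subsets.subset (Set.image_subset_iff.mpr hsub)) hinj
  refine ⟨hfin, ?_⟩
  have hinf : InfClosed 𝒱 := by
    rintro V₁ ⟨h1, h1'⟩ V₂ ⟨h2, h2'⟩
    refine ⟨le_inf h1 h2, isAffineHom_of_forall_inf _ fun W hW => ?_⟩
    have h3 := (isAffineOpen_inf_of_isAffineHom V₁ hW).inf (isAffineOpen_inf_of_isAffineHom V₂ hW)
    have h4 : V₁ ⊓ W ⊓ (V₂ ⊓ W) = V₁ ⊓ V₂ ⊓ W := (inf_inf_distrib_right V₁ V₂ W).symm
    rwa [h4] at h3
  have htop : (⊤ : S.Opens) ∈ 𝒱 :=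
    ⟨le_top, isAffineHom_of_forall_inf _ fun W hW => by rwa [top_inf_eq]⟩
  have hne : hfin.toFinset.Nonempty := ⟨⊤, hfin.mem_toFinset.mpr htop⟩
  refine ⟨hfin.toFinset.inf id, ?_, ?_⟩
  · exact hinf.finsetInf_mem hne fun i hi => hfin.mem_toFinset.mp hi
  · intro V hUV hV
    exact Finset.inf_le (f := id) (hfin.mem_toFinset.mpr ⟨hUV, hV⟩)

end scheme

end Groth.Agent.Helper18AffOpens
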