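import Mathlib

set_option autoImplicit false
universe u
open TensorProduct

namespace Groth.Agent.Helper18Ann

/-- the annihilator of a finite module commutes with flat base change. -/
theorem annihilator_baseChange (A B M : Type*) [CommRing A] [CommRing B] [Algebra A B]
    [Module.Flat A B] [AddCommGroup M] [Module A M] [Module.Finite A M] :
    Module.annihilator B (B ⊗[A] M) = (Module.annihilator A M).map (algebraMap A B) := by
  apply le_antisymm
  · intro b hb
    obtain ⟨n, m, hm⟩ := Module.Finite.exists_fin (R := A) (M := M)
    let φ : A →ₗ[A] (Fin n → M) :=
      { toFun := fun a j => a • m j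
        map_add' := fun a a' => by ext j; simp [add_smul]
        map_smul' := fun c a => by ext j; simp [mul_smul] }
    have hker : ∀ a : A, φ a = 0 → a ∈ Module.annihilator A M := by
      intro a ha
      rw [Module.mem_annihilator]
      intro x
      have hx : x ∈ Submodule.span A (Set.range m) := hm ▸ Submodule.mem_top
      induction hx using Submodule.span_induction with
      | mem y hy =>
        obtain ⟨j, rfl⟩ := hy
        exact congrFun ha j
      | zero => exact smul_zero _
      | add x y _ _ hx hy => rw [smul_add, hx, hy, add_zero]
      | smul c x _ hx => rw [smul_comm, hx, smul_zero]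
    have hex : Function.Exact ((LinearMap.ker φ).subtype.lTensor B) (φ.lTensor B) :=
      Module.Flat.lTensor_exact B (LinearMap.exact_subtype_ker_map φ)
    have h1 : (φ.lTensor B) (b ⊗ₜ[A] (1 : A)) = 0 := by
      apply (TensorProduct.piRight A A B (fun _ : Fin n => M)).injective
      rw [map_zero, LinearMap.lTensor_tmul, TensorProduct.piRight_apply,
        TensorProduct.piRightHom_tmul]
      ext j
      have h2 : b • ((1 : B) ⊗ₜ[A] m j) = 0 := Module.mem_annihilator.1 hb _
      rw [TensorProduct.smul_tmul', smul_eq_mul, mul_one] at h2
      simp only [φ, LinearMap.coe_mk, AddHom.coe_mk, one_smul, Pi.zero_apply]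
      exact h2
    obtain ⟨z, hz⟩ := (hex _).1 h1
    let μ : B ⊗[A] A →ₗ[A] B := (TensorProduct.rid A B).toLinearMap
    have hμ : ∀ z : B ⊗[A] (LinearMap.ker φ),
        μ ((LinearMap.ker φ).subtype.lTensor B z) ∈ (Module.annihilator A M).map (algebraMap A B) := by
      intro z
      induction z using TensorProduct.induction_on with
      | zero => simp
      | tmul b' a =>
        simp only [LinearMap.lTensor_tmul, Submodule.subtype_apply, μ, LinearEquiv.coe_coe,
          TensorProduct.rid_tmul]
        rw [Algebra.smul_def]
        exact Ideal.mul_mem_right _ _ (Ideal.mem_map_of_mem _ (hker a.1 a.2))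
      | add x y hx hy =>
        rw [map_add, map_add]
        exact Ideal.add_mem _ hx hy
    have := hμ z
    rw [hz] at this
    simpa [μ] using this
  · rw [Ideal.map_le_iff_le_comap]
    intro a ha
    rw [Ideal.mem_comap, Module.mem_annihilator]
    intro x
    induction x using TensorProduct.induction_on with
    | zero => exact smul_zero _
    | tmul b m =>
      rw [TensorProduct.smul_tmul', Algebra.algebraMap_eq_smul_one, smul_assoc, one_smul,
        TensorProduct.smul_tmul, Module.mem_annihilator.1 ha m, TensorProduct.tmul_zero]
    | add x y hx hy => rw [smul_add, hx, hy, add_zero]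

end Groth.Agent.Helper18Ann
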