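import Mathlib
import Groth.Agent.Lib.Helper18Ann2
import Groth.Agent.Lib.Helper18Ann3
import Groth.Agent.Lib.Helper18FittSh5

set_option autoImplicit false
set_option linter.style.haveILetI false
universe u
open CategoryTheory AlgebraicGeometry Limits Opposite TopologicalSpace TensorProduct

namespace Groth.Agent.Helper18Ann

open Groth.Agent.Lib.Helper2.FPAff
open Groth.Agent.Lib.Helper20.Thickening Groth.Agent.Lib.Helper20.PullbackAff
  Groth.Agent.Lib.Helper20.OmegaAff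

variable {T S : Scheme.{u}} (f : T ⟶ S) (F : S.Modules) [F.IsQuasicoherent]

/-- local formula: annihilators of the sections of a flat pullback. -/
theorem ann_pullback_sections [Flat f] {V : S.Opens} (hV : IsAffineOpen V) {U : T.Opens}
    (hU : IsAffineOpen U) (h : U ≤ f ⁻¹ᵁ V) [Module.Finite Γ(S, V) Γ(F, V)] :
    Module.annihilator Γ(T, U) Γ((Scheme.Modules.pullback f).obj F, U) =
      (Module.annihilator Γ(S, V) Γ(F, V)).map (f.appLE V U h).hom := by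
  letI : Algebra Γ(S, V) Γ(T, U) := (f.appLE V U h).hom.toAlgebra
  haveI : Module.Flat Γ(S, V) Γ(T, U) := Scheme.Hom.flat_appLE f hV hU h
  let e1 : Γ((Scheme.Modules.pullback f).obj F, U) ≃ₗ[Γ(T, U)]
      (ΓUF hU).obj ((Scheme.Modules.pullback f).obj F) := ΓUEquiv hU _
  let e2 : (ΓUF hU).obj ((Scheme.Modules.pullback f).obj F) ≃ₗ[Γ(T, U)]
      (Γ(T, U) ⊗[Γ(S, V)] ((ΓUF hV).obj F)) := (ΓUFPullbackIso f hV hU h F).toLinearEquiv
  let e3 : Γ(F, V) ≃ₗ[Γ(S, V)] (ΓUF hV).obj F := ΓUEquiv hV F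
  haveI : Module.Finite Γ(S, V) ((ΓUF hV).obj F) := Module.Finite.equiv e3
  rw [(e1.trans e2).annihilator_eq,
    annihilator_baseChange Γ(S, V) Γ(T, U) ((ΓUF hV).obj F), e3.annihilator_eq]
  rfl

theorem main_S9378 [Flat f] (hft : CohB1.IsFT F) (J : S.IdealSheafData)
    (hJ : ∀ U : S.affineOpens, J.ideal U = Module.annihilator Γ(S, U.1) Γ(F, U.1)) :
    ∀ V : T.affineOpens, (J.comap f).ideal V =
      Module.annihilator Γ(T, V.1) Γ((Scheme.Modules.pullback f).obj F, V.1) := by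
  have hfinF := Groth.Agent.Helper18FittSh.finite_sections F hft
  let ι : Type u := {p : T.affineOpens × S.affineOpens // p.1.1 ≤ f ⁻¹ᵁ p.2.1}
  have hcov : ⨆ p : ι, (p.1.1 : T.affineOpens).1 = ⊤ := by
    rw [eq_top_iff]
    intro y _
    obtain ⟨V, hV, hyV, -⟩ := exists_isAffineOpen_mem_and_subset (x := f y) (U := ⊤) trivial
    obtain ⟨U, hU, hyU, hUV⟩ := exists_isAffineOpen_mem_and_subset (x := y) (U := f ⁻¹ᵁ V) hyV
    exact Opens.mem_iSup.2 ⟨⟨(⟨U, hU⟩, ⟨V, hV⟩), hUV⟩, hyU⟩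
  have hGft : CohB1.IsFT ((Scheme.Modules.pullback f).obj F) := by
    refine Groth.Agent.Lib.Helper23.FinType.isFiniteType_of_finite _ (fun p : ι => p.1.1.1) hcov
      (fun p => p.1.1.2) (fun p => ?_)
    haveI := hfinF p.1.2
    letI : Algebra Γ(S, p.1.2.1) Γ(T, p.1.1.1) := (f.appLE p.1.2.1 p.1.1.1 p.2).hom.toAlgebra
    let e1 : Γ((Scheme.Modules.pullback f).obj F, p.1.1.1) ≃ₗ[Γ(T, p.1.1.1)]
        (ΓUF p.1.1.2).obj ((Scheme.Modules.pullback f).obj F) := ΓUEquiv p.1.1.2 _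
    let e2 : (ΓUF p.1.1.2).obj ((Scheme.Modules.pullback f).obj F) ≃ₗ[Γ(T, p.1.1.1)]
        (Γ(T, p.1.1.1) ⊗[Γ(S, p.1.2.1)] ((ΓUF p.1.2.2).obj F)) :=
      (ΓUFPullbackIso f p.1.2.2 p.1.1.2 p.2 F).toLinearEquiv
    let e3 : Γ(F, p.1.2.1) ≃ₗ[Γ(S, p.1.2.1)] (ΓUF p.1.2.2).obj F := ΓUEquiv p.1.2.2 F
    haveI : Module.Finite Γ(S, p.1.2.1) ((ΓUF p.1.2.2).obj F) := Module.Finite.equiv e3
    exact Module.Finite.equiv (e1.trans e2).symm
  have hfinG := Groth.Agent.Helper18FittSh.finite_sections ((Scheme.Modules.pullback f).obj F) hGft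
  have key : J.comap f = annSheaf ((Scheme.Modules.pullback f).obj F) hfinG := by
    apply Scheme.IdealSheafData.ext_of_iSup_eq_top (fun p : ι => p.1.1) hcov
    intro p
    haveI := hfinF p.1.2
    rw [Groth.Agent.Lib.Helper22.IdealComap.ideal_comap_eq_map f _ p.1.1 p.1.2 p.2, hJ p.1.2]
    exact (ann_pullback_sections f F p.1.2.2 p.1.1.2 p.2).symm
  intro V
  rw [key]
  rfl

end Groth.Agent.Helper18Ann
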