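import Groth.Agent.Lib.Helper2GrModBridge

/-!
# Bridge, part 2: functions on `D₊(f)` and basic opens (helper2 port of helper27)
-/

set_option autoImplicit false
universe u

open CategoryTheory CategoryTheory.Limits AlgebraicGeometry TopologicalSpace Opposite
  HomogeneousLocalization

namespace Groth.Agent.Lib.Helper2GrModSect

variable {A σ : Type u} [CommRing A] [SetLike σ A] [AddSubgroupClass σ A] (𝒜 : ℕ → σ)
  [GradedRing 𝒜]

theorem mem_basicOpen_iff_isUnit_funVal (W : (Proj 𝒜).Opens) (g : Γ(Proj 𝒜, W))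
    (y : ProjectiveSpectrum 𝒜) (hy : y ∈ W) :
    y ∈ (Proj 𝒜).basicOpen g ↔ IsUnit (funVal 𝒜 W g y hy) := by
  have h1 : y ∈ (Proj 𝒜).basicOpen g ↔ IsUnit ((Proj 𝒜).presheaf.germ W y hy g) :=
    Scheme.mem_basicOpen (Proj 𝒜) g y hy
  rw [h1]
  have h := Proj.stalkIso'_germ 𝒜 W y hy (toFun 𝒜 W g)
  constructor
  · intro hu
    have h2 := hu.map (Proj.stalkIso' 𝒜 y)
    have h3 : (Proj.stalkIso' 𝒜 y) ((Proj 𝒜).presheaf.germ W y hy g) = funVal 𝒜 W g y hy := h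
    exact Eq.mp (congrArg IsUnit h3) h2
  · intro hu
    have h3 : (Proj.stalkIso' 𝒜 y) ((Proj 𝒜).presheaf.germ W y hy g) = funVal 𝒜 W g y hy := h
    have hu' : IsUnit ((Proj.stalkIso' 𝒜 y) ((Proj 𝒜).presheaf.germ W y hy g)) :=
      Eq.mpr (congrArg IsUnit h3) hu
    exact (MulEquiv.isUnit_map (Proj.stalkIso' 𝒜 y)).mp hu'

variable {𝒜} in
theorem isUnit_of_val_eq_mk {y : ProjectiveSpectrum 𝒜} (c : GrTwist.A0 𝒜 y) {a s : A}
    (hs : s ∉ y.asHomogeneousIdeal)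
    (hc : c.val = Localization.mk a ⟨s, hs⟩) : IsUnit c ↔ a ∉ y.asHomogeneousIdeal := by
  rw [← HomogeneousLocalization.isUnit_iff_isUnit_val, hc, Localization.mk_eq_mk']
  exact IsLocalization.AtPrime.isUnit_mk'_iff _ _ a ⟨s, hs⟩

variable {𝒜} in
/-- the value of the function `a / f^k` on `D₊(f)`. -/
theorem funVal_awayToSection_val {f : A} {d : ℕ} (hf : f ∈ 𝒜 d) (k : ℕ) (a : A)
    (ha : a ∈ 𝒜 (k • d)) (y : ProjectiveSpectrum 𝒜) (hy : y ∈ Proj.basicOpen 𝒜 f) :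
    (funVal 𝒜 (Proj.basicOpen 𝒜 f) ((Proj.awayToSection 𝒜 f).hom (Away.mk 𝒜 hf k a ha)) y hy).val =
      (Localization.mk a (⟨f ^ k, fun h => (ProjectiveSpectrum.mem_basicOpen 𝒜 f y).mp hy
        (y.isPrime.mem_of_pow_mem k h)⟩ : y.asHomogeneousIdeal.toIdeal.primeCompl) :
        GrTwist.Loc 𝒜 y) := rfl

variable {𝒜} in
theorem exists_awayToSection_eq {f : A} {d : ℕ} (hf : f ∈ 𝒜 d) (hd : 0 < d)
    (g : Γ(Proj 𝒜, Proj.basicOpen 𝒜 f)) :
    ∃ (k : ℕ) (a : A) (ha : a ∈ 𝒜 (k • d)),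
      (Proj.awayToSection 𝒜 f).hom (Away.mk 𝒜 hf k a ha) = g := by
  have hiso : IsIso (Proj.awayToSection 𝒜 f) := by
    have := (Proj.basicOpenIsoAway 𝒜 f hf hd).isIso_hom
    rwa [Proj.basicOpenIsoAway_hom] at this
  have hbij : Function.Bijective (Proj.awayToSection 𝒜 f).hom :=
    ConcreteCategory.bijective_of_isIso (Proj.awayToSection 𝒜 f)
  obtain ⟨q, rfl⟩ := hbij.2 g
  obtain ⟨k, a, ha, rfl⟩ := Away.mk_surjective 𝒜 hf q
  exact ⟨k, a, ha, rfl⟩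

variable {𝒜} in
/-- the basic open of the function `a / f^k` on `D₊(f)` is `D₊(a f)`. -/
theorem mem_basicOpen_awayToSection_iff {f : A} {d : ℕ} (hf : f ∈ 𝒜 d) (k : ℕ) (a : A)
    (ha : a ∈ 𝒜 (k • d)) (y : ProjectiveSpectrum 𝒜) :
    y ∈ (Proj 𝒜).basicOpen ((Proj.awayToSection 𝒜 f).hom (Away.mk 𝒜 hf k a ha)) ↔
      a * f ∉ y.asHomogeneousIdeal := by
  constructor
  · intro hy
    have hyU : y ∈ Proj.basicOpen 𝒜 f := (Proj 𝒜).basicOpen_le _ hy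
    have hfy : f ∉ y.asHomogeneousIdeal := (ProjectiveSpectrum.mem_basicOpen 𝒜 f y).mp hyU
    rw [mem_basicOpen_iff_isUnit_funVal 𝒜 _ _ y hyU,
      isUnit_of_val_eq_mk _ _ (funVal_awayToSection_val hf k a ha y hyU)] at hy
    exact fun h => (y.isPrime.mem_or_mem h).elim hy hfy
  · intro hy
    have hfy : f ∉ y.asHomogeneousIdeal := fun h => hy (Ideal.mul_mem_left _ _ h)
    have hay : a ∉ y.asHomogeneousIdeal := fun h => hy (Ideal.mul_mem_right _ _ h)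
    have hyU : y ∈ Proj.basicOpen 𝒜 f := (ProjectiveSpectrum.mem_basicOpen 𝒜 f y).mpr hfy
    rw [mem_basicOpen_iff_isUnit_funVal 𝒜 _ _ y hyU,
      isUnit_of_val_eq_mk _ _ (funVal_awayToSection_val hf k a ha y hyU)]
    exact hay

end Groth.Agent.Lib.Helper2GrModSect
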