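import Groth.Agent.Lib.Helper2GrModSect

/-!
# Vanishing of `M~` on `Proj` (helper2 port of helper27)
-/

set_option autoImplicit false
universe u

open CategoryTheory CategoryTheory.Limits AlgebraicGeometry TopologicalSpace Opposite

namespace Groth.Agent.Lib.Helper2GrModSect

variable {A σ : Type u} [CommRing A] [SetLike σ A] [AddSubgroupClass σ A] (𝒜 : ℕ → σ)
  [GradedRing 𝒜]
variable {M τ : Type u} [AddCommGroup M] [Module A M] [SetLike τ M] [AddSubgroupClass τ M]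
  (ℳ : ℕ → τ) [DirectSum.Decomposition ℳ] [SetLike.GradedSMul 𝒜 ℳ]

theorem isZero_tilde_of_forall (n : ℤ)
    (H : ∀ (U : (Opens (ProjectiveSpectrum.top 𝒜))ᵒᵖ) (σ : GrMod.sect 𝒜 ℳ n U), σ = 0) :
    IsZero (GrMod.tilde 𝒜 ℳ n) := by
  rw [IsZero.iff_id_eq_zero]
  apply SheafOfModules.hom_ext
  apply PresheafOfModules.hom_ext
  intro U
  apply ModuleCat.hom_ext
  apply LinearMap.ext
  intro σ
  have key : ∀ a b : ↑((GrMod.tilde 𝒜 ℳ n).val.obj U), a = b :=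
    fun a b => (H U a).trans (H U b).symm
  exact key _ _

theorem eq_zero_of_isZero_tilde (n : ℤ) (h : IsZero (GrMod.tilde 𝒜 ℳ n))
    (U : (Opens (ProjectiveSpectrum.top 𝒜))ᵒᵖ) (σ : GrMod.sect 𝒜 ℳ n U) : σ = 0 := by
  have h1 : (𝟙 (GrMod.tilde 𝒜 ℳ n)) = 0 := h.eq_of_src _ _
  have h2 : ∀ τ : ↑((GrMod.tilde 𝒜 ℳ n).val.obj U),
      ((𝟙 (GrMod.tilde 𝒜 ℳ n) : GrMod.tilde 𝒜 ℳ n ⟶ GrMod.tilde 𝒜 ℳ n).val.app U).hom τ =
        ((0 : GrMod.tilde 𝒜 ℳ n ⟶ GrMod.tilde 𝒜 ℳ n).val.app U).hom τ := by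
    intro τ
    rw [h1]
  exact h2 σ

/-- a homogeneous element of positive degree outside a given point. -/
theorem exists_homogeneous_pos_not_mem (x : ProjectiveSpectrum 𝒜) :
    ∃ (d : ℕ) (f : A), 0 < d ∧ f ∈ 𝒜 d ∧ f ∉ x.asHomogeneousIdeal := by
  have hrel := x.not_irrelevant_le
  rw [HomogeneousIdeal.irrelevant_le] at hrel
  push Not at hrel
  obtain ⟨m, hm, hrel⟩ := hrel
  obtain ⟨f, hf, hfp⟩ := SetLike.not_le_iff_exists.mp hrel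
  exact ⟨m, f, hm, hf, hfp⟩

theorem isZero_tilde_of_torsion
    (h : ∀ (z : M) (d : ℕ) (f : A), 0 < d → f ∈ 𝒜 d → ∃ k : ℕ, f ^ k • z = 0) (n : ℤ) :
    IsZero (GrMod.tilde 𝒜 ℳ n) := by
  apply isZero_tilde_of_forall
  intro U σ
  refine Subtype.ext (funext fun x => Subtype.ext ?_)
  obtain ⟨d, f, hd, hf, hfx⟩ := exists_homogeneous_pos_not_mem 𝒜 x.1
  change ((σ.1 x : GrMod.tildeAt 𝒜 ℳ n x.1) : GrMod.LocMod 𝒜 (M := M) x.1) = 0
  induction ((σ.1 x : GrMod.tildeAt 𝒜 ℳ n x.1) : GrMod.LocMod 𝒜 (M := M) x.1)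
    using LocalizedModule.induction_on with
  | h m t =>
    obtain ⟨k, hk⟩ := h m d f hd hf
    rw [← LocalizedModule.zero_mk t, LocalizedModule.mk_eq]
    refine ⟨⟨f ^ k, fun hmem => hfx (x.1.isPrime.mem_of_pow_mem k hmem)⟩, ?_⟩
    rw [smul_zero, smul_zero, smul_comm]
    change t • f ^ k • m = 0
    rw [hk, smul_zero]

/-- a degree one element outside a given point, when `S₊` is generated in degree one. -/
theorem exists_degOne_not_mem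
    (hgen : (HomogeneousIdeal.irrelevant 𝒜).toIdeal = Ideal.span (𝒜 1 : Set A))
    (x : ProjectiveSpectrum 𝒜) : ∃ g ∈ 𝒜 1, g ∉ x.asHomogeneousIdeal := by
  have hirr := x.not_irrelevant_le
  by_contra hcon
  push Not at hcon
  apply hirr
  change (HomogeneousIdeal.irrelevant 𝒜).toIdeal ≤ x.asHomogeneousIdeal.toIdeal
  rw [hgen, Ideal.span_le]
  intro g hg
  exact hcon g hg

omit [DirectSum.Decomposition ℳ] [SetLike.GradedSMul 𝒜 ℳ] in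
theorem mk_mem_tildeAt (n : ℤ) (x : ProjectiveSpectrum 𝒜) {i j : ℕ} {m : M} (hm : m ∈ ℳ i) {t : A}
    (ht : t ∈ 𝒜 j) (htx : t ∉ x.asHomogeneousIdeal) (hij : (i : ℤ) = j + n) :
    (LocalizedModule.mk m ⟨t, htx⟩ : GrMod.LocMod 𝒜 (M := M) x) ∈ GrMod.tildeAt 𝒜 ℳ n x :=
  Submodule.subset_span ⟨i, j, ⟨m, hm⟩, ⟨t, ht⟩, htx, hij, rfl⟩

/-- the section `z / g^i` of `M~` over `D₊(g)`, for `z ∈ ℳ i`, `g ∈ 𝒜 1`. -/
def fracSection {g : A} (hg : g ∈ 𝒜 1) {i : ℕ} {z : M} (hz : z ∈ ℳ i) :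
    GrMod.sect 𝒜 ℳ 0 (op (ProjectiveSpectrum.basicOpen 𝒜 g)) :=
  have hgi : g ^ i ∈ 𝒜 i := by
    have := SetLike.pow_mem_graded i hg
    simpa using this
  have hnin : ∀ y : ProjectiveSpectrum.basicOpen 𝒜 g, g ^ i ∉ y.1.asHomogeneousIdeal :=
    fun y hmem => (ProjectiveSpectrum.mem_basicOpen 𝒜 g y.1).mp y.2
      (y.1.isPrime.mem_of_pow_mem i hmem)
  ⟨fun y => ⟨LocalizedModule.mk z ⟨g ^ i, hnin y⟩,
    mk_mem_tildeAt 𝒜 ℳ 0 y.1 hz hgi (hnin y) (by simp)⟩,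
   fun y => ⟨ProjectiveSpectrum.basicOpen 𝒜 g, y.2, 𝟙 _, i, i, ⟨z, hz⟩, ⟨g ^ i, hgi⟩,
    hnin, Or.inl (by simp), fun _ => rfl⟩⟩

theorem exists_pow_smul_eq_zero_of_isZero
    (hgen : (HomogeneousIdeal.irrelevant 𝒜).toIdeal = Ideal.span (𝒜 1 : Set A))
    (h : IsZero (GrMod.tilde 𝒜 ℳ 0)) {i : ℕ} {z : M} (hz : z ∈ ℳ i) {d : ℕ} (hd : 0 < d)
    {f : A} (hf : f ∈ 𝒜 d) : ∃ N : ℕ, ∀ K : ℕ, N ≤ K → f ^ K • z = 0 := by
  refine exists_pow_smul_eq_zero 𝒜 ℳ hd hf hz ?_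
  intro y _
  obtain ⟨g, hg, hgy⟩ := exists_degOne_not_mem 𝒜 hgen y
  have h0 := eq_zero_of_isZero_tilde 𝒜 ℳ 0 h _ (fracSection 𝒜 ℳ hg hz)
  have hyU : y ∈ ProjectiveSpectrum.basicOpen 𝒜 g :=
    (ProjectiveSpectrum.mem_basicOpen 𝒜 g y).mpr hgy
  have h1 : (((fracSection 𝒜 ℳ hg hz).1 ⟨y, hyU⟩ : GrMod.tildeAt 𝒜 ℳ 0 y) :
      GrMod.LocMod 𝒜 (M := M) y) = 0 := by
    rw [h0]; rfl
  have hnin : g ^ i ∉ y.asHomogeneousIdeal := fun hmem => hgy (y.isPrime.mem_of_pow_mem i hmem)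
  change LocalizedModule.mk z ⟨g ^ i, hnin⟩ = 0 at h1
  rw [← LocalizedModule.zero_mk (⟨g ^ i, hnin⟩ : y.asHomogeneousIdeal.toIdeal.primeCompl),
    LocalizedModule.mk_eq] at h1
  obtain ⟨u, hu⟩ := h1
  rw [smul_zero, smul_zero] at hu
  refine ⟨u.1 * g ^ i, fun hmem => ?_, ?_⟩
  · rcases y.isPrime.mem_or_mem hmem with h' | h'
    · exact u.2 h'
    · exact hnin h'
  · rw [mul_smul]
    exact hu

theorem exists_pow_smul_eq_zero_of_isZero'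
    (hgen : (HomogeneousIdeal.irrelevant 𝒜).toIdeal = Ideal.span (𝒜 1 : Set A))
    (h : IsZero (GrMod.tilde 𝒜 ℳ 0)) (z : M) {d : ℕ} (hd : 0 < d)
    {f : A} (hf : f ∈ 𝒜 d) : ∃ k : ℕ, f ^ k • z = 0 := by
  classical
  choose N hN using fun i : ℕ => exists_pow_smul_eq_zero_of_isZero 𝒜 ℳ hgen h
    (DirectSum.decompose ℳ z i).2 hd hf
  refine ⟨(DirectSum.decompose ℳ z).support.sup N, ?_⟩
  have hz := DirectSum.sum_support_decompose ℳ z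
  generalize (DirectSum.decompose ℳ z).support = F at hz ⊢
  rw [← hz, Finset.smul_sum]
  refine Finset.sum_eq_zero (fun i hi => ?_)
  exact hN i _ (Finset.le_sup hi)

end Groth.Agent.Lib.Helper2GrModSect
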