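import Mathlib
import Groth.Prelude.Def_RelProj3
import Groth.Agent.Lib.Helper2GrModBridge2
import Groth.Agent.Lib.Helper2GrModZero

set_option autoImplicit false
universe u

open CategoryTheory CategoryTheory.Limits AlgebraicGeometry TopologicalSpace Opposite
  HomogeneousLocalization

namespace Groth.Agent.Helper18BaseFun

open Groth.Agent.Lib.Helper2GrModSect

variable {A σ : Type u} [CommRing A] [SetLike σ A] [AddSubgroupClass σ A] (𝒜 : ℕ → σ)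
  [GradedRing 𝒜]

section Const

variable {f : A} {m : ℕ} (f_deg : f ∈ 𝒜 m) (hm : 0 < m)

theorem awayι_appTop_toSpecZero (t : Γ(Spec (.of (𝒜 0)), ⊤)) :
    (Scheme.ΓSpecIso _).hom ((Proj.awayι 𝒜 f f_deg hm).appTop ((Proj.toSpecZero 𝒜).appTop t)) =
      fromZeroRingHom 𝒜 _ ((Scheme.ΓSpecIso _).hom t) := by
  have h1 := Proj.awayι_toSpecZero 𝒜 f f_deg hm
  have h2 := congrArg Scheme.Hom.appTop h1
  rw [Scheme.Hom.comp_appTop] at h2
  have h3 := Scheme.ΓSpecIso_naturality (CommRingCat.ofHom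
    (fromZeroRingHom 𝒜 (Submonoid.powers f)))
  rw [← h2] at h3
  exact congr($h3 t)

/-- the restriction of a global function to `D₊(f)`, through `awayι`. -/
theorem awayToSection_awayι_appTop (s : Γ(Proj 𝒜, ⊤)) :
    (Proj.awayToSection 𝒜 f).hom ((Scheme.ΓSpecIso _).hom ((Proj.awayι 𝒜 f f_deg hm).appTop s)) =
      (Proj 𝒜).presheaf.map (homOfLE (le_top : Proj.basicOpen 𝒜 f ≤ ⊤)).op s := by
  set e := Proj.basicOpenIsoSpec 𝒜 f f_deg hm with he
  have h1 : (Proj.awayι 𝒜 f f_deg hm).appTop s = e.inv.appTop ((Proj.basicOpen 𝒜 f).ι.appTop s) := by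
    rw [← Proj.basicOpenIsoSpec_inv_ι, Scheme.Hom.comp_appTop]
    rfl
  set u := (Proj.basicOpen 𝒜 f).ι.appTop s with hu
  have h2 : e.hom.appTop (e.inv.appTop u) = u := by
    have : e.inv.appTop ≫ e.hom.appTop = 𝟙 _ := by
      rw [← Scheme.Hom.comp_appTop, e.hom_inv_id]
      rfl
    exact congr($this u)
  have h3 : e.hom.appTop = (Scheme.ΓSpecIso _).hom ≫ Proj.awayToSection 𝒜 f ≫
      (Proj.basicOpen 𝒜 f).topIso.inv := by
    rw [he, Proj.basicOpenIsoSpec_hom]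
    exact Proj.basicOpenToSpec_app_top 𝒜 f
  rw [h3] at h2
  have h4 : (Proj.basicOpen 𝒜 f).topIso.inv ((Proj.awayToSection 𝒜 f).hom
      ((Scheme.ΓSpecIso _).hom (e.inv.appTop u))) = u := h2
  rw [h1]
  have h5 := congrArg (Proj.basicOpen 𝒜 f).topIso.hom h4
  have h6 : (Proj.basicOpen 𝒜 f).topIso.hom ((Proj.basicOpen 𝒜 f).topIso.inv
      ((Proj.awayToSection 𝒜 f).hom ((Scheme.ΓSpecIso _).hom (e.inv.appTop u)))) =
      (Proj.awayToSection 𝒜 f).hom ((Scheme.ΓSpecIso _).hom (e.inv.appTop u)) := by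
    exact congr($((Proj.basicOpen 𝒜 f).topIso.inv_hom_id) _)
  rw [h6] at h5
  rw [h5, hu, Scheme.Opens.ι_appTop, Scheme.Opens.topIso_hom]
  change ((Proj 𝒜).presheaf.map (homOfLE _).op ≫ (Proj 𝒜).presheaf.map (eqToHom _).op) s = _
  rw [← Functor.map_comp]
  rfl

end Const

/-- the value at a point of `Proj 𝒜` of a function pulled back from `Spec 𝒜₀`. -/
theorem funVal_toSpecZero_appTop (t : Γ(Spec (.of (𝒜 0)), ⊤)) (y : ProjectiveSpectrum 𝒜) :
    (funVal 𝒜 ⊤ ((Proj.toSpecZero 𝒜).appTop t) y trivial).val =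
      algebraMap A (GrTwist.Loc 𝒜 y) (((Scheme.ΓSpecIso (.of (𝒜 0))).hom t : 𝒜 0) : A) := by
  obtain ⟨d, f, hd, hf, hfy⟩ := exists_homogeneous_pos_not_mem 𝒜 y
  have hy : y ∈ Proj.basicOpen 𝒜 f := hfy
  have h1 := awayToSection_awayι_appTop 𝒜 hf hd ((Proj.toSpecZero 𝒜).appTop t)
  rw [awayι_appTop_toSpecZero] at h1
  have h2 := funVal_map 𝒜 (le_top : Proj.basicOpen 𝒜 f ≤ ⊤) ((Proj.toSpecZero 𝒜).appTop t) y hy
  rw [← h2, ← h1]
  rw [← Localization.mk_one_eq_algebraMap]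
  rfl

end Groth.Agent.Helper18BaseFun

namespace Groth.Agent.Helper18BaseFun

open Groth.Agent.Lib.Helper2GrModSect

section General

variable {S X : Scheme.{u}}

theorem fromSpec_appLE_top {U : S.Opens} (hU : IsAffineOpen U) (e : (⊤ : (Spec Γ(S, U)).Opens) ≤ hU.fromSpec ⁻¹ᵁ U) :
    hU.fromSpec.appLE U ⊤ e = (Scheme.ΓSpecIso Γ(S, U)).inv := by
  rw [Scheme.Hom.appLE, hU.fromSpec_app_of_le U le_rfl]
  simp only [Category.assoc, ← Functor.map_comp]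
  have : (homOfLE (le_refl U)).op = 𝟙 _ := rfl
  rw [this, S.presheaf.map_id, Category.id_comp]
  convert Category.comp_id _
  exact (Spec Γ(S, U)).presheaf.map_id _

/-- functions pulled back from an affine open of the base along a morphism factoring through `Spec R`. -/
theorem appLE_comp_SpecMap_fromSpec {U : S.Opens} (hU : IsAffineOpen U) {R : CommRingCat.{u}}
    (g : X ⟶ Spec R) (φ : Γ(S, U) ⟶ R) (e : (⊤ : X.Opens) ≤ (g ≫ Spec.map φ ≫ hU.fromSpec) ⁻¹ᵁ U) :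
    (g ≫ Spec.map φ ≫ hU.fromSpec).appLE U ⊤ e = φ ≫ (Scheme.ΓSpecIso R).inv ≫ g.appTop := by
  have e1 : (⊤ : (Spec Γ(S, U)).Opens) ≤ hU.fromSpec ⁻¹ᵁ U := by
    intro x _
    exact hU.fromSpec_preimage_self.ge (Set.mem_univ x)
  have e2 : (⊤ : (Spec R).Opens) ≤ (Spec.map φ) ⁻¹ᵁ ⊤ := le_rfl
  have e3 : (⊤ : X.Opens) ≤ g ⁻¹ᵁ ⊤ := le_rfl
  have h1 := Scheme.Hom.appLE_comp_appLE (Spec.map φ) hU.fromSpec U ⊤ ⊤ e1 e2
  have h2 := Scheme.Hom.appLE_comp_appLE g (Spec.map φ ≫ hU.fromSpec) U ⊤ ⊤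
    (e2.trans ((Opens.map (Spec.map φ).base).map (homOfLE e1)).le) e3
  rw [← h2, ← h1, fromSpec_appLE_top hU e1]
  have h3 : (Spec.map φ).appLE ⊤ ⊤ e2 = (Spec.map φ).appTop :=
    Scheme.Hom.appLE_eq_app (Spec.map φ)
  have h4 : g.appLE ⊤ ⊤ e3 = g.appTop := Scheme.Hom.appLE_eq_app g
  rw [h3, h4]
  have h5 := Scheme.ΓSpecIso_naturality φ
  rw [← Category.assoc φ]
  congr 1
  rw [Iso.inv_comp_eq, ← Category.assoc, Iso.eq_comp_inv]
  exact h5

end General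

section Rel

open RelProj

variable {S P : Scheme.{u}} {𝒮 : RelProj.QCGrAlg S} {p : P ⟶ S}
  {chart : ∀ (U : S.Opens) (hU : IsAffineOpen U), (((p ⁻¹ᵁ U : P.Opens) : Scheme.{u}) ≅ Proj (𝒮.deg U hU))}

theorem emb_comp (hP : IsRelProj 𝒮 p chart) (U : S.Opens) (hU : IsAffineOpen U) :
    emb p chart U hU ≫ p =
      Proj.toSpecZero (𝒮.deg U hU) ≫ Spec.map (𝒮.strZero U hU) ≫ hU.fromSpec := by
  have := hP.chart_over U hU
  rw [emb, Category.assoc, ← this, Iso.inv_hom_id_assoc]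

theorem preimage_emb_eq_top (U : S.Opens) (hU : IsAffineOpen U) :
    emb p chart U hU ⁻¹ᵁ (p ⁻¹ᵁ U) = ⊤ := by
  ext y
  simp only [Scheme.Hom.mem_preimage, Opens.coe_top, Set.mem_univ, iff_true, SetLike.mem_coe]
  have : (emb p chart U hU) y = (p ⁻¹ᵁ U).ι ((chart U hU).inv y) := by
    unfold emb
    rw [Scheme.Hom.comp_apply]
  have h2 : (emb p chart U hU) y ∈ p ⁻¹ᵁ U := by
    rw [this]
    exact ((chart U hU).inv y).2
  exact h2

/-- the value, at a point of the chart `Proj 𝒮(U)`, of a function pulled back from the base. -/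
theorem funVal_emb_app (hP : IsRelProj 𝒮 p chart) (U : S.Opens) (hU : IsAffineOpen U) (a : Γ(S, U))
    (y : ProjectiveSpectrum (𝒮.deg U hU)) (hy : y ∈ emb p chart U hU ⁻¹ᵁ (p ⁻¹ᵁ U)) :
    (funVal (𝒮.deg U hU) (emb p chart U hU ⁻¹ᵁ (p ⁻¹ᵁ U))
        ((emb p chart U hU).app (p ⁻¹ᵁ U) (p.app U a)) y hy).val =
      algebraMap (𝒮.presheaf.obj (op U)) (GrTwist.Loc (𝒮.deg U hU) y) ((𝒮.str.app (op U)).hom a) := by
  have hle : (⊤ : (Proj (𝒮.deg U hU)).Opens) ≤ (emb p chart U hU ≫ p) ⁻¹ᵁ U := by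
    rw [Scheme.Hom.comp_preimage, preimage_emb_eq_top U hU]
  have h1 : funVal (𝒮.deg U hU) (emb p chart U hU ⁻¹ᵁ (p ⁻¹ᵁ U))
        ((emb p chart U hU).app (p ⁻¹ᵁ U) (p.app U a)) y hy =
      funVal (𝒮.deg U hU) ⊤ ((emb p chart U hU ≫ p).appLE U ⊤ hle a) y trivial := by
    have h0 : (emb p chart U hU ≫ p).appLE U ⊤ hle a =
        (Proj (𝒮.deg U hU)).presheaf.map (homOfLE hle).op
          ((emb p chart U hU).app (p ⁻¹ᵁ U) (p.app U a)) := by
      rw [Scheme.Hom.appLE, Scheme.Hom.comp_app]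
      rfl
    rw [h0]
    exact (funVal_map (𝒮.deg U hU) hle _ y trivial).symm
  rw [h1]
  have h2 : ∀ (q : Proj (𝒮.deg U hU) ⟶ S) (hq : emb p chart U hU ≫ p = q) (e : ⊤ ≤ q ⁻¹ᵁ U),
      (emb p chart U hU ≫ p).appLE U ⊤ hle = q.appLE U ⊤ e := by
    intro q hq e
    subst hq
    rfl
  rw [h2 _ (emb_comp hP U hU) (by rw [← emb_comp hP U hU]; exact hle),
    appLE_comp_SpecMap_fromSpec hU]
  refine (funVal_toSpecZero_appTop (𝒮.deg U hU) _ y).trans ?_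
  congr 1
  have h3 : (Scheme.ΓSpecIso (CommRingCat.of (𝒮.deg U hU 0))).hom
      ((Scheme.ΓSpecIso (CommRingCat.of (𝒮.deg U hU 0))).inv ((𝒮.strZero U hU).hom a)) =
      (𝒮.strZero U hU).hom a :=
    congr($((Scheme.ΓSpecIso (CommRingCat.of (𝒮.deg U hU 0))).inv_hom_id) _)
  exact congrArg Subtype.val h3

end Rel

end Groth.Agent.Helper18BaseFun
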