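import Mathlib

set_option autoImplicit false
universe u
open CategoryTheory CategoryTheory.Limits AlgebraicGeometry TopologicalSpace Opposite Topology

namespace Groth.Agent.Helper18CoprodCI

theorem isClosedImmersion_coprodDesc {X Y Z : Scheme.{u}} (f : X ⟶ Z) (g : Y ⟶ Z)
    [IsClosedImmersion f] [IsClosedImmersion g]
    (hdisj : ∀ x y, f.base x ≠ g.base y) : IsClosedImmersion (coprod.desc f g) := by
  have hs : SurjectiveOnStalks (coprod.desc f g) := by
    rw [IsZariskiLocalAtSource.iff_of_openCover (P := @SurjectiveOnStalks) (coprodOpenCover.{u, 0} X Y)]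
    rintro (⟨⟩ | ⟨⟩)
    · change SurjectiveOnStalks (coprod.inl ≫ coprod.desc f g)
      rw [coprod.inl_desc]; infer_instance
    · change SurjectiveOnStalks (coprod.inr ≫ coprod.desc f g)
      rw [coprod.inr_desc]; infer_instance
  refine { hs with isClosedEmbedding := ?_ }
  have h1 : ∀ t : X ⊕ Y, (coprod.desc f g).base (coprodMk X Y t) = Sum.elim f.base g.base t := by
    rintro (x | y)
    · rw [coprodMk_inl, Sum.elim_inl]
      have := congrArg (fun t => t.base x) (coprod.inl_desc f g)
      exact this
    · rw [coprodMk_inr, Sum.elim_inr]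
      have := congrArg (fun t => t.base y) (coprod.inr_desc f g)
      exact this
  have h2 : IsClosedEmbedding (Sum.elim f.base g.base) := by
    refine (f.isClosedEmbedding).sumElim g.isClosedEmbedding ?_
    rintro (a | a) (b | b) hab
    · exact congrArg Sum.inl (f.isClosedEmbedding.injective hab)
    · exact absurd hab (hdisj a b)
    · exact absurd hab.symm (hdisj b a)
    · exact congrArg Sum.inr (g.isClosedEmbedding.injective hab)
  have h3 : ⇑(coprod.desc f g).base = Sum.elim f.base g.base ∘ (coprodMk X Y).symm := by
    funext t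
    obtain ⟨s, rfl⟩ := (coprodMk X Y).surjective t
    rw [h1, Function.comp_apply, Homeomorph.symm_apply_apply]
  change IsClosedEmbedding ⇑(coprod.desc f g).base
  rw [h3]
  exact h2.comp (coprodMk X Y).symm.isClosedEmbedding

end Groth.Agent.Helper18CoprodCI
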