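import Groth.Agent.Lib.Helper27RelProj

/-!
# Relative Proj: morphisms induced by graded homomorphisms, chartwise (helper27)
-/

set_option autoImplicit false
universe u

open CategoryTheory AlgebraicGeometry HomogeneousLocalization TopologicalSpace Opposite
open scoped HomogeneousIdeal

namespace Groth.Agent.Lib.Helper27RelProj4

section Transfer

/-- A target-local property holds for `g` as soon as `g` is, locally on the target, given by
morphisms with the property between charts. -/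
theorem of_charts {P : MorphismProperty Scheme.{u}} [IsZariskiLocalAtTarget P] {X Y : Scheme.{u}}
    (g : X ⟶ Y)
    (H : ∀ y : Y, ∃ (U V : Scheme.{u}) (i : U ⟶ X) (j : V ⟶ Y) (_ : IsOpenImmersion i)
      (_ : IsOpenImmersion j) (e : U ⟶ V), y ∈ j.opensRange ∧ P e ∧ i ≫ g = e ≫ j ∧
        i.opensRange = g ⁻¹ᵁ j.opensRange) : P g := by
  apply IsZariskiLocalAtTarget.of_forall_exists_morphismRestrict
  intro y
  obtain ⟨U, V, i, j, hi, hj, e, hy, hPe, hcomm, hrange⟩ := H y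
  refine ⟨j.opensRange, hy, ?_⟩
  let a : U ≅ (g ⁻¹ᵁ j.opensRange : X.Opens) :=
    IsOpenImmersion.isoOfRangeEq i (g ⁻¹ᵁ j.opensRange).ι (by
      rw [Scheme.Opens.range_ι]
      exact congrArg (fun W : X.Opens => (W : Set X)) hrange)
  let b : V ≅ (j.opensRange : Y.Opens) :=
    IsOpenImmersion.isoOfRangeEq j j.opensRange.ι (by rw [Scheme.Opens.range_ι]; rfl)
  have ha : a.hom ≫ (g ⁻¹ᵁ j.opensRange).ι = i := IsOpenImmersion.isoOfRangeEq_hom_fac _ _ _
  have hb : b.hom ≫ j.opensRange.ι = j := IsOpenImmersion.isoOfRangeEq_hom_fac _ _ _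
  have hsq : a.hom ≫ (g ∣_ j.opensRange) = e ≫ b.hom := by
    rw [← cancel_mono j.opensRange.ι, Category.assoc, Category.assoc, morphismRestrict_ι,
      reassoc_of% ha, hb, hcomm]
  have hg : g ∣_ j.opensRange = a.inv ≫ e ≫ b.hom := by rw [← hsq, Iso.inv_hom_id_assoc]
  rw [hg]
  exact (P.cancel_left_of_respectsIso _ _).mpr ((P.cancel_right_of_respectsIso _ _).mpr hPe)

end Transfer

section Proj

variable {A B σ τ : Type u} [CommRing A] [SetLike σ A] [AddSubgroupClass σ A]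
  [CommRing B] [SetLike τ B] [AddSubgroupClass τ B]
  {𝒜 : ℕ → σ} {ℬ : ℕ → τ} [GradedRing 𝒜] [GradedRing ℬ]
  (f : 𝒜 →+*ᵍ ℬ) (hf : ℬ₊ ≤ 𝒜₊.map f)

/-- a target-local property holds for `Proj.map f` if it holds for all `Spec (Away.map f s)`. -/
theorem map_of_away {P : MorphismProperty Scheme.{u}} [IsZariskiLocalAtTarget P]
    (H : ∀ (d : ℕ) (_ : 0 < d) (s : A) (_ : s ∈ 𝒜 d),
      P (Spec.map (CommRingCat.ofHom (Away.map f s)))) :
    P (Proj.map f hf) := by
  apply of_charts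
  intro y
  obtain ⟨d, hd, s, hs, hy⟩ : ∃ (d : ℕ) (hd : 0 < d) (s : A) (hs : s ∈ 𝒜 d),
      y ∈ (Proj.awayι 𝒜 s hs hd).opensRange :=
    ⟨((Proj.affineOpenCover 𝒜).idx y).1, ((Proj.affineOpenCover 𝒜).idx y).1.2,
      ((Proj.affineOpenCover 𝒜).idx y).2.1, ((Proj.affineOpenCover 𝒜).idx y).2.2,
      (Proj.affineOpenCover 𝒜).covers y⟩
  refine ⟨_, _, Proj.awayι ℬ (f s) (f.2 hs) hd, Proj.awayι 𝒜 s hs hd,
    inferInstance, inferInstance, Spec.map (CommRingCat.ofHom (Away.map f s)), hy,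
    H _ hd _ hs, Proj.awayι_comp_map f hf hd _ hs, ?_⟩
  · rw [Proj.opensRange_awayι, Proj.opensRange_awayι, Proj.map_preimage_basicOpen]

theorem map_toSpecZero {R : Type u} [CommRing R] (a : R →+* 𝒜 0) (b : R →+* ℬ 0)
    (hab : ∀ r, f (a r : A) = (b r : B)) :
    Proj.map f hf ≫ Proj.toSpecZero 𝒜 ≫ Spec.map (CommRingCat.ofHom a) =
      Proj.toSpecZero ℬ ≫ Spec.map (CommRingCat.ofHom b) := by
  refine (Proj.mapAffineOpenCover f hf).openCover.hom_ext _ _ fun (s : Σ i : PNat, 𝒜 i) => ?_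
  obtain ⟨⟨d, hd⟩, s, hs0⟩ := s
  have hs : s ∈ 𝒜 d := hs0
  change Proj.awayι ℬ (f s) (f.2 hs) hd ≫ _ = Proj.awayι ℬ (f s) (f.2 hs) hd ≫ _
  have h1 := Proj.awayι_comp_map f hf hd s hs
  have h2 := Proj.awayι_toSpecZero 𝒜 s hs hd
  have h3 := Proj.awayι_toSpecZero ℬ (f s) (f.2 hs) hd
  rw [← Category.assoc, h1, Category.assoc, ← Category.assoc (Proj.awayι 𝒜 s hs hd), h2,
    ← Category.assoc (Proj.awayι ℬ (f s) (f.2 hs) hd), h3, ← Spec.map_comp, ← Spec.map_comp,
    ← Spec.map_comp]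
  congr 1
  ext r
  change ((Away.map f s) (fromZeroRingHom 𝒜 _ (a r))).val = (fromZeroRingHom ℬ _ (b r)).val
  have e1 : fromZeroRingHom 𝒜 (Submonoid.powers s) (a r) =
      HomogeneousLocalization.mk ⟨0, a r, 1, one_mem _⟩ := rfl
  have e2 : fromZeroRingHom ℬ (Submonoid.powers (f s)) (b r) =
      HomogeneousLocalization.mk ⟨0, b r, 1, one_mem _⟩ := rfl
  rw [e1, e2, Away.map, HomogeneousLocalization.map_mk, val_mk, val_mk]
  simp [hab]

/-- graded surjectivity from surjectivity -/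
theorem exists_mem_of_surjective (hs : Function.Surjective f) {n : ℕ} {y : B} (hy : y ∈ ℬ n) :
    ∃ x ∈ 𝒜 n, f x = y := by
  classical
  obtain ⟨x, rfl⟩ := hs y
  refine ⟨(DirectSum.decompose 𝒜 x n : A), SetLike.coe_mem _, ?_⟩
  rw [GradedRingHom.map_directSumDecompose, DirectSum.decompose_of_mem_same _ hy]

theorem away_map_surjective (hsurj : ∀ n, 0 < n → ∀ y ∈ ℬ n, ∃ x ∈ 𝒜 n, f x = y) {d : ℕ}
    (hd : 0 < d) (s : A) (hs : s ∈ 𝒜 d) : Function.Surjective (Away.map f s) := by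
  intro z
  obtain ⟨n, y, hy, rfl⟩ := Away.mk_surjective ℬ (f.2 hs) z
  have hy' : y * f s ∈ ℬ ((n + 1) • d) := by
    rw [add_smul, one_smul]
    exact SetLike.mul_mem_graded hy (f.2 hs)
  have hpos : 0 < (n + 1) • d := by
    rw [smul_eq_mul]
    exact Nat.mul_pos (Nat.succ_pos n) hd
  obtain ⟨x, hx, hfx⟩ := hsurj ((n + 1) • d) hpos _ hy'
  refine ⟨Away.mk 𝒜 hs (n + 1) x hx, ?_⟩
  rw [Away.map_mk]
  apply HomogeneousLocalization.val_injective
  rw [Away.val_mk, Away.val_mk, Localization.mk_eq_mk_iff, Localization.r_iff_exists]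
  refine ⟨1, ?_⟩
  simp only [hfx, Submonoid.coe_one, one_mul, GradedRingHom.coe_toRingHom]
  ring

theorem away_map_injective (hinj : ∀ n, 0 < n → ∀ x ∈ 𝒜 n, f x = 0 → x = 0) {d : ℕ}
    (hd : 0 < d) (s : A) (hs : s ∈ 𝒜 d) : Function.Injective (Away.map f s) := by
  rw [injective_iff_map_eq_zero]
  intro z hz
  obtain ⟨n, a, ha, rfl⟩ := Away.mk_surjective 𝒜 hs z
  rw [Away.map_mk] at hz
  have hv := congrArg HomogeneousLocalization.val hz
  rw [Away.val_mk, HomogeneousLocalization.val_zero, Localization.mk_eq_mk',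
    IsLocalization.mk'_eq_zero_iff] at hv
  obtain ⟨⟨c, m, rfl⟩, hm⟩ := hv
  simp only at hm
  have hpos : 0 < (m + 1) • d + n • d := by
    have : 0 < (m + 1) • d := by
      rw [smul_eq_mul]
      exact Nat.mul_pos (Nat.succ_pos m) hd
    omega
  have h0 : s ^ (m + 1) * a = 0 := by
    apply hinj ((m + 1) • d + n • d) hpos _
      (SetLike.mul_mem_graded (SetLike.pow_mem_graded _ hs) ha)
    rw [map_mul, map_pow, pow_succ', mul_assoc, hm, mul_zero]
  apply HomogeneousLocalization.val_injective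
  rw [Away.val_mk, HomogeneousLocalization.val_zero, Localization.mk_eq_mk',
    IsLocalization.mk'_eq_zero_iff]
  exact ⟨⟨s ^ (m + 1), m + 1, rfl⟩, h0⟩

theorem map_isClosedImmersion (hs : Function.Surjective f) :
    IsClosedImmersion (Proj.map f hf) := by
  apply map_of_away (P := @IsClosedImmersion) f hf
  intro d hd s hs'
  apply IsClosedImmersion.spec_of_surjective
  exact away_map_surjective f (fun n _ y hy => exists_mem_of_surjective f hs hy) hd s hs'

theorem map_isIso (hinj : ∀ n, 0 < n → ∀ x ∈ 𝒜 n, f x = 0 → x = 0)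
    (hsurj : ∀ n, 0 < n → ∀ y ∈ ℬ n, ∃ x ∈ 𝒜 n, f x = y) : IsIso (Proj.map f hf) := by
  have : (MorphismProperty.isomorphisms Scheme.{u}) (Proj.map f hf) := by
    apply map_of_away (P := MorphismProperty.isomorphisms Scheme.{u}) f hf
    intro d hd s hs
    have h1 : IsIso (CommRingCat.ofHom (Away.map f s)) := by
      rw [ConcreteCategory.isIso_iff_bijective]
      exact ⟨away_map_injective f hinj hd s hs, away_map_surjective f hsurj hd s hs⟩
    change IsIso _
    infer_instance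
  exact this

end Proj

section Rel

variable {Y PA PB : Scheme.{u}} {𝒜 ℬ : RelProj.QCGrAlg Y}
  (φ : 𝒜.toQCAlg ⟶ ℬ.toQCAlg) (hφ : RelProj.IsGradedHom φ)
  (hirr : ∀ (U : Y.Opens) (hU : IsAffineOpen U),
    (ℬ.deg U hU)₊ ≤ ((𝒜.deg U hU)₊).map (RelProj.gradedHomAt φ hφ U hU))
  {pA : PA ⟶ Y} {pB : PB ⟶ Y}
  {chartA : ∀ (U : Y.Opens) (hU : IsAffineOpen U),
    (((pA ⁻¹ᵁ U : PA.Opens) : Scheme.{u}) ≅ Proj (𝒜.deg U hU))}
  {chartB : ∀ (U : Y.Opens) (hU : IsAffineOpen U),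
    (((pB ⁻¹ᵁ U : PB.Opens) : Scheme.{u}) ≅ Proj (ℬ.deg U hU))}
  (hA : RelProj.IsRelProj 𝒜 pA chartA) (hB : RelProj.IsRelProj ℬ pB chartB)
  {h : PB ⟶ PA} (hh : RelProj.IsRelProjMap φ hφ hirr chartA chartB h)

include hA hB hh in
/-- a morphism of relative Proj's induced by a graded homomorphism is a `Y`-morphism. -/
theorem relProjMap_over : h ≫ pA = pB := by
  refine (Helper27RelProj.chartCover pB).hom_ext _ _ fun U => ?_
  have hU : IsAffineOpen U.1 := U.2
  change (pB ⁻¹ᵁ U.1).ι ≫ h ≫ pA = (pB ⁻¹ᵁ U.1).ι ≫ pB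
  rw [← Category.assoc, hh U.1 hU]
  simp only [Category.assoc]
  rw [← hA.chart_over U.1 hU, Iso.inv_hom_id_assoc, ← hB.chart_over U.1 hU]
  congr 1
  rw [← Category.assoc (Proj.toSpecZero _), ← Category.assoc (Proj.toSpecZero _),
    ← Category.assoc (Proj.map _ _)]
  congr 1
  refine map_toSpecZero (RelProj.gradedHomAt φ hφ U.1 hU) (hirr U.1 hU)
    (𝒜.strZero U.1 hU).hom (ℬ.strZero U.1 hU).hom (fun r => ?_)
  have h0 := NatTrans.congr_app φ.comm (op U.1)
  rw [NatTrans.comp_app] at h0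
  change (φ.hom.app (op U.1)).hom ((𝒜.str.app (op U.1)).hom r) = (ℬ.str.app (op U.1)).hom r
  rw [← h0]
  rfl

include hA hB hh in
theorem relProjMap_of_charts {P : MorphismProperty Scheme.{u}} [IsZariskiLocalAtTarget P]
    (H : ∀ (U : Y.Opens) (hU : IsAffineOpen U),
      P (Proj.map (RelProj.gradedHomAt φ hφ U hU) (hirr U hU))) : P h := by
  have hover := relProjMap_over φ hφ hirr hA hB hh
  apply of_charts
  intro y
  obtain ⟨U, hU, hyU, -⟩ := exists_isAffineOpen_mem_and_subset (x := pA y) (U := ⊤) trivial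
  refine ⟨_, _, (pB ⁻¹ᵁ U).ι, (pA ⁻¹ᵁ U).ι, inferInstance, inferInstance,
    (chartB U hU).hom ≫ Proj.map _ (hirr U hU) ≫ (chartA U hU).inv, ?_, ?_, ?_, ?_⟩
  · rw [Scheme.Opens.opensRange_ι]
    exact hyU
  · exact (P.cancel_left_of_respectsIso _ _).mpr
      ((P.cancel_right_of_respectsIso _ _).mpr (H U hU))
  · rw [hh U hU]
    simp only [Category.assoc]
  · rw [Scheme.Opens.opensRange_ι, Scheme.Opens.opensRange_ι, ← Scheme.Hom.comp_preimage, hover]

end Rel

end Groth.Agent.Lib.Helper27RelProj4
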