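import Mathlib
import Groth.Prelude.Def_RelProj3
import Groth.Agent.Lib.Helper27RelProj4
import Groth.Agent.Lib.Helper13SymAlgLocal
import Groth.Agent.Lib.Helper18CoprodCI
import Groth.Agent.Lib.Helper23QCohAbelian

set_option autoImplicit false
universe u
open CategoryTheory CategoryTheory.Limits AlgebraicGeometry TopologicalSpace Opposite
open scoped HomogeneousIdeal

namespace Groth.Agent.Helper18BiprodCI

section alg

variable {S : Scheme.{u}}

/-- a homomorphism of quasi-coherent algebras into a symmetric algebra, through which the universal map factors,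
is surjective over affine opens. -/
theorem surjective_app_of_factor (E : S.Modules) (hE : Coh.IsQCoh E) (A B : RelSpec.QCAlg S)
    (jB : E ⟶ B.toModule) (hB : RelSpec.IsSymAlg E B jB) (π : A ⟶ B) (u : E ⟶ A.toModule)
    (hu : u ≫ RelSpec.QCAlg.Hom.toModuleMap π = jB) (U : S.Opens) (hU : IsAffineOpen U) :
    Function.Surjective (π.hom.app (op U)).hom := by
  have : E.IsQuasicoherent := hE
  have hbij := Groth.Agent.Helper13SymAlg.bijective_σ E U hU hB
  intro y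
  obtain ⟨w, rfl⟩ := hbij.2 y
  clear hbij
  induction w using SymmetricAlgebra.induction with
  | algebraMap a =>
    unfold Groth.Agent.Helper13SymAlg.σ
    rw [Groth.Agent.Helper13SymLoc.symLift_algebraMap]
    refine ⟨(A.str.app (op U)).hom a, ?_⟩
    exact congrArg (fun t : Γ(S, U) ⟶ _ => t.hom a) (NatTrans.congr_app π.comm (op U))
  | ι m =>
    unfold Groth.Agent.Helper13SymAlg.σ
    rw [Groth.Agent.Helper13SymLoc.symLift_ι]
    refine ⟨(u.app U).hom m, ?_⟩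
    rw [← hu]
    rfl
  | mul a b ha hb =>
    obtain ⟨a', ha'⟩ := ha
    obtain ⟨b', hb'⟩ := hb
    exact ⟨a' * b', by rw [map_mul, map_mul, ha', hb']⟩
  | add a b ha hb =>
    obtain ⟨a', ha'⟩ := ha
    obtain ⟨b', hb'⟩ := hb
    exact ⟨a' + b', by rw [map_add, map_add, ha', hb']⟩

/-- the irrelevant ideal of a graded symmetric algebra lies in every homogeneous ideal containing the image of the module. -/
theorem irrelevant_le_of_forall_mem (M : S.Modules) (hM : Coh.IsQCoh M) (𝒮 : RelProj.QCGrAlg S)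
    (j : M ⟶ 𝒮.toModule) (hj : RelProj.IsGrSymAlg M 𝒮 j) (U : S.Opens) (hU : IsAffineOpen U)
    (K : HomogeneousIdeal (𝒮.deg U hU))
    (hKj : ∀ m : Γ(M, U), ((j.app U).hom m : 𝒮.presheaf.obj (op U)) ∈ K.toIdeal) :
    (𝒮.deg U hU)₊ ≤ K := by
  have : M.IsQuasicoherent := hM
  have hbij := Groth.Agent.Helper13SymAlg.bijective_σ M U hU hj.1
  have key : ∀ x : 𝒮.presheaf.obj (op U), ∃ a : Γ(S, U), x - (𝒮.str.app (op U)).hom a ∈ K.toIdeal := by
    intro x
    obtain ⟨w, rfl⟩ := hbij.2 x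
    clear hbij
    induction w using SymmetricAlgebra.induction with
    | algebraMap a =>
      unfold Groth.Agent.Helper13SymAlg.σ
      rw [Groth.Agent.Helper13SymLoc.symLift_algebraMap]
      exact ⟨a, by rw [sub_self]; exact Ideal.zero_mem _⟩
    | ι m =>
      unfold Groth.Agent.Helper13SymAlg.σ
      rw [Groth.Agent.Helper13SymLoc.symLift_ι]
      refine ⟨0, ?_⟩
      rw [map_zero, sub_zero]
      exact hKj m
    | mul a b ha hb =>
      obtain ⟨a', ha'⟩ := ha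
      obtain ⟨b', hb'⟩ := hb
      refine ⟨a' * b', ?_⟩
      rw [map_mul, map_mul]
      have : ∀ p q r s : 𝒮.presheaf.obj (op U), p * q - r * s = (p - r) * q + r * (q - s) := by
        intros; ring
      rw [this]
      exact Ideal.add_mem _ (Ideal.mul_mem_right _ _ ha') (Ideal.mul_mem_left _ _ hb')
    | add a b ha hb =>
      obtain ⟨a', ha'⟩ := ha
      obtain ⟨b', hb'⟩ := hb
      refine ⟨a' + b', ?_⟩
      rw [map_add, map_add]
      have : ∀ p q r s : 𝒮.presheaf.obj (op U), p + q - (r + s) = (p - r) + (q - s) := by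
        intros; ring
      rw [this]
      exact Ideal.add_mem _ ha' hb'
  intro x hx
  obtain ⟨a, ha⟩ := key x
  have hx0 : GradedRing.proj (𝒮.deg U hU) 0 x = 0 := (HomogeneousIdeal.mem_irrelevant_iff _ _).mp hx
  have hk0 := K.isHomogeneous 0 ha
  have hstr : ((DirectSum.decompose (𝒮.deg U hU) ((𝒮.str.app (op U)).hom a) 0 : 𝒮.deg U hU 0) :
      𝒮.presheaf.obj (op U)) = (𝒮.str.app (op U)).hom a :=
    DirectSum.decompose_of_mem_same _ (𝒮.str_mem U hU a)
  rw [DirectSum.decompose_sub, DirectSum.sub_apply, AddSubgroupClass.coe_sub, hstr] at hk0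
  have hx0' : ((DirectSum.decompose (𝒮.deg U hU) x 0 : 𝒮.deg U hU 0) : 𝒮.presheaf.obj (op U)) = 0 := hx0
  rw [hx0', zero_sub] at hk0
  have h2 : (𝒮.str.app (op U)).hom a ∈ K.toIdeal := by
    have := K.toIdeal.neg_mem hk0
    rwa [neg_neg] at this
  have := K.toIdeal.add_mem ha h2
  rwa [sub_add_cancel] at this

end alg



section main

variable {Y PE PF P : Scheme.{u}} (E F : Y.Modules)
    (hE : Coh.IsQCoh E) (hF : Coh.IsQCoh F) (𝒮E 𝒮F 𝒮 : RelProj.QCGrAlg Y)
    (jE : E ⟶ 𝒮E.toModule) (hjE : RelProj.IsGrSymAlg E 𝒮E jE)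
    (jF : F ⟶ 𝒮F.toModule) (hjF : RelProj.IsGrSymAlg F 𝒮F jF)
    (j : E ⊞ F ⟶ 𝒮.toModule) (hj : RelProj.IsGrSymAlg (E ⊞ F) 𝒮 j)
    (πE : 𝒮.toQCAlg ⟶ 𝒮E.toQCAlg) (hπE : RelProj.IsGradedHom πE)
    (hjπE : j ≫ RelSpec.QCAlg.Hom.toModuleMap πE = biprod.fst ≫ jE)
    (πF : 𝒮.toQCAlg ⟶ 𝒮F.toQCAlg) (hπF : RelProj.IsGradedHom πF)
    (hjπF : j ≫ RelSpec.QCAlg.Hom.toModuleMap πF = biprod.snd ≫ jF)
    (hirrE : ∀ (U : Y.Opens) (hU : IsAffineOpen U),
      (𝒮E.deg U hU)₊ ≤ ((𝒮.deg U hU)₊).map (RelProj.gradedHomAt πE hπE U hU))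
    (hirrF : ∀ (U : Y.Opens) (hU : IsAffineOpen U),
      (𝒮F.deg U hU)₊ ≤ ((𝒮.deg U hU)₊).map (RelProj.gradedHomAt πF hπF U hU))
    (p : P ⟶ Y) (pE : PE ⟶ Y) (pF : PF ⟶ Y)
    (chart : ∀ (U : Y.Opens) (hU : IsAffineOpen U), ((p ⁻¹ᵁ U : P.Opens) : Scheme.{u}) ≅ Proj (𝒮.deg U hU))
    (chartE : ∀ (U : Y.Opens) (hU : IsAffineOpen U), ((pE ⁻¹ᵁ U : PE.Opens) : Scheme.{u}) ≅ Proj (𝒮E.deg U hU))
    (chartF : ∀ (U : Y.Opens) (hU : IsAffineOpen U), ((pF ⁻¹ᵁ U : PF.Opens) : Scheme.{u}) ≅ Proj (𝒮F.deg U hU))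
    (hP : RelProj.IsRelProj 𝒮 p chart) (hPE : RelProj.IsRelProj 𝒮E pE chartE) (hPF : RelProj.IsRelProj 𝒮F pF chartF)
    (hE' : PE ⟶ P) (hhE : RelProj.IsRelProjMap πE hπE hirrE chart chartE hE')
    (hF' : PF ⟶ P) (hhF : RelProj.IsRelProjMap πF hπF hirrF chart chartF hF')

include hE hjE hjπE hP hPE hhE in
theorem isClosedImmersion_fst : IsClosedImmersion hE' := by
  apply Groth.Agent.Lib.Helper27RelProj4.relProjMap_of_charts (P := @IsClosedImmersion)
    πE hπE hirrE hP hPE hhE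
  intro U hU
  apply Groth.Agent.Lib.Helper27RelProj4.map_isClosedImmersion
  refine surjective_app_of_factor E hE 𝒮.toQCAlg 𝒮E.toQCAlg jE hjE.1 πE (biprod.inl ≫ j) ?_ U hU
  rw [Category.assoc, hjπE, biprod.inl_fst_assoc]

include hF hjF hjπF hP hPF hhF in
theorem isClosedImmersion_snd : IsClosedImmersion hF' := by
  apply Groth.Agent.Lib.Helper27RelProj4.relProjMap_of_charts (P := @IsClosedImmersion)
    πF hπF hirrF hP hPF hhF
  intro U hU
  apply Groth.Agent.Lib.Helper27RelProj4.map_isClosedImmersion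
  refine surjective_app_of_factor F hF 𝒮.toQCAlg 𝒮F.toQCAlg jF hjF.1 πF (biprod.inr ≫ j) ?_ U hU
  rw [Category.assoc, hjπF, biprod.inr_snd_assoc]

include hE hF hj hjπE hjπF hP hPE hPF hhE hhF in
theorem ne_of_ranges (x : PE) (y : PF) : hE'.base x ≠ hF'.base y := by
  intro hxy
  have hoverE : hE' ≫ p = pE :=
    Groth.Agent.Lib.Helper27RelProj4.relProjMap_over πE hπE hirrE hP hPE hhE
  have hoverF : hF' ≫ p = pF :=
    Groth.Agent.Lib.Helper27RelProj4.relProjMap_over πF hπF hirrF hP hPF hhF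
  obtain ⟨U, hU, hzU, -⟩ :=
    exists_isAffineOpen_mem_and_subset (x := p.base (hE'.base x)) (U := ⊤) trivial
  have hxU : x ∈ pE ⁻¹ᵁ U := by
    change pE.base x ∈ U
    rw [← hoverE]
    exact hzU
  have hyU : y ∈ pF ⁻¹ᵁ U := by
    change pF.base y ∈ U
    rw [← hoverF]
    change p.base (hF'.base y) ∈ U
    rw [← hxy]
    exact hzU
  obtain ⟨x', hx'⟩ : ∃ x' : Proj (𝒮E.deg U hU), x' = (chartE U hU).hom.base ⟨x, hxU⟩ := ⟨_, rfl⟩
  obtain ⟨y', hy'⟩ : ∃ y' : Proj (𝒮F.deg U hU), y' = (chartF U hU).hom.base ⟨y, hyU⟩ := ⟨_, rfl⟩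
  have h1 : hE'.base x = (p ⁻¹ᵁ U).ι.base ((chart U hU).inv.base
      ((Proj.map (RelProj.gradedHomAt πE hπE U hU) (hirrE U hU)).base x')) := by
    have := congrArg (fun t => t.base ⟨x, hxU⟩) (hhE U hU)
    rw [hx']
    exact this
  have h2 : hF'.base y = (p ⁻¹ᵁ U).ι.base ((chart U hU).inv.base
      ((Proj.map (RelProj.gradedHomAt πF hπF U hU) (hirrF U hU)).base y')) := by
    have := congrArg (fun t => t.base ⟨y, hyU⟩) (hhF U hU)
    rw [hy']
    exact this
  rw [h1, h2] at hxy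
  have h3 := (p ⁻¹ᵁ U).ι.isOpenEmbedding.injective hxy
  have h4 : (Proj.map (RelProj.gradedHomAt πE hπE U hU) (hirrE U hU)).base x' =
      (Proj.map (RelProj.gradedHomAt πF hπF U hU) (hirrF U hU)).base y' := by
    have := congrArg (fun t => (chart U hU).hom.base t) h3
    simpa using this
  obtain ⟨w, hw⟩ : ∃ w : ProjectiveSpectrum (𝒮.deg U hU),
      w = (Proj.map (RelProj.gradedHomAt πE hπE U hU) (hirrE U hU)).base x' := ⟨_, rfl⟩
  have hwE : ∀ a : 𝒮.presheaf.obj (op U), (πE.hom.app (op U)).hom a = 0 →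
      a ∈ w.asHomogeneousIdeal.toIdeal := by
    intro a ha
    rw [hw]
    change (RelProj.gradedHomAt πE hπE U hU) a ∈ x'.asHomogeneousIdeal.toIdeal
    change (πE.hom.app (op U)).hom a ∈ _
    rw [ha]
    exact Ideal.zero_mem _
  have hwF : ∀ a : 𝒮.presheaf.obj (op U), (πF.hom.app (op U)).hom a = 0 →
      a ∈ w.asHomogeneousIdeal.toIdeal := by
    intro a ha
    rw [hw, h4]
    change (RelProj.gradedHomAt πF hπF U hU) a ∈ y'.asHomogeneousIdeal.toIdeal
    change (πF.hom.app (op U)).hom a ∈ _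
    rw [ha]
    exact Ideal.zero_mem _
  have hEq : E.IsQuasicoherent := hE
  have hFq : F.IsQuasicoherent := hF
  have hEF : Coh.IsQCoh (E ⊞ F) := Groth.Agent.Lib.Helper23.QCohLocal.isQuasicoherent_biprod E F
  refine w.not_irrelevant_le
    (irrelevant_le_of_forall_mem (E ⊞ F) hEF 𝒮 j hj U hU w.asHomogeneousIdeal (fun m => ?_))
  have htot : j = (biprod.fst ≫ biprod.inl ≫ j) + (biprod.snd ≫ biprod.inr ≫ j) := by
    rw [← Category.assoc, ← Category.assoc, ← Preadditive.add_comp, biprod.total, Category.id_comp]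
  rw [htot]
  change ((((biprod.fst ≫ biprod.inl ≫ j).app U).hom m : 𝒮.presheaf.obj (op U)) +
    (((biprod.snd ≫ biprod.inr ≫ j).app U).hom m : 𝒮.presheaf.obj (op U))) ∈ w.asHomogeneousIdeal.toIdeal
  refine (w.asHomogeneousIdeal.toIdeal).add_mem (hwF _ ?_) (hwE _ ?_)
  · have : ((biprod.fst : E ⊞ F ⟶ E) ≫ biprod.inl ≫ j) ≫ RelSpec.QCAlg.Hom.toModuleMap πF = 0 := by
      rw [Category.assoc, Category.assoc, hjπF, biprod.inl_snd_assoc, zero_comp, comp_zero]
    exact congrArg (fun t : (E ⊞ F) ⟶ 𝒮F.toModule => (t.app U).hom m) this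
  · have : ((biprod.snd : E ⊞ F ⟶ F) ≫ biprod.inr ≫ j) ≫ RelSpec.QCAlg.Hom.toModuleMap πE = 0 := by
      rw [Category.assoc, Category.assoc, hjπE, biprod.inr_fst_assoc, zero_comp, comp_zero]
    exact congrArg (fun t : (E ⊞ F) ⟶ 𝒮E.toModule => (t.app U).hom m) this

include hE hF hjE hjF hj hjπE hjπF hP hPE hPF hhE hhF in
theorem isClosedImmersion_coprodDesc : IsClosedImmersion (coprod.desc hE' hF') := by
  have := isClosedImmersion_fst E F hE 𝒮E 𝒮 jE hjE j πE hπE hjπE hirrE p pE chart chartE hP hPE hE' hhE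
  have := isClosedImmersion_snd E F hF 𝒮F 𝒮 jF hjF j πF hπF hjπF hirrF p pF chart chartF hP hPF hF' hhF
  exact Groth.Agent.Helper18CoprodCI.isClosedImmersion_coprodDesc hE' hF'
    (ne_of_ranges E F hE hF 𝒮E 𝒮F 𝒮 jE jF j hj πE hπE hjπE πF hπF hjπF hirrE hirrF p pE pF chart chartE chartF
      hP hPE hPF hE' hhE hF' hhF)

end main

end Groth.Agent.Helper18BiprodCI
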