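import Mathlib
import Groth.Agent.Lib.Helper23SecTw6

/-!
# Local generators glue (helper2)

* `isGen_of_cover`: a section which restricts to a generator on each member of an open cover is a generator.
* `exists_section_of_cover`: gluing sections of a module along an open cover.
-/

set_option autoImplicit false
universe u
open CategoryTheory Limits AlgebraicGeometry TopologicalSpace Opposite

namespace Groth.Agent.Lib.Helper2.IsGenCover

open Groth.Agent.Lib.Helper23.SecTw Groth.Agent.Lib.Helper6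

variable {X : Scheme.{u}}

theorem exists_section_of_cover (L : X.Modules) (W : X.Opens) {ι : Type u} (Wi : ι → X.Opens)
    (hle : ∀ i, Wi i ≤ W) (hcov : ∀ x ∈ W, ∃ i, x ∈ Wi i) (s : ∀ i, Γ(L, Wi i))
    (hs : ∀ i j, res L (inf_le_left : Wi i ⊓ Wi j ≤ Wi i) (s i) =
      res L (inf_le_right : Wi i ⊓ Wi j ≤ Wi j) (s j)) :
    ∃ e : Γ(L, W), ∀ i, res L (hle i) e = s i := by
  have hcov' : W ≤ ⨆ i, Wi i := fun x hx => by
    obtain ⟨i, hi⟩ := hcov x hx
    exact Opens.mem_iSup.2 ⟨i, hi⟩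
  have hcompat : TopCat.Presheaf.IsCompatible (modSheaf L).1 Wi s := fun i j => hs i j
  obtain ⟨e, he, -⟩ := (modSheaf L).existsUnique_gluing' Wi W (fun i => homOfLE (hle i)) hcov' s hcompat
  exact ⟨e, he⟩

theorem isGen_of_cover (L : X.Modules) (W : X.Opens) (e : Γ(L, W)) {ι : Type u} (Wi : ι → X.Opens)
    (hle : ∀ i, Wi i ≤ W) (hcov : ∀ x ∈ W, ∃ i, x ∈ Wi i)
    (h : ∀ i, IsGen L (Wi i) (res L (hle i) e)) : IsGen L W e := by
  intro W' hW'
  have hloc : ∀ (i : ι) (V : X.Opens) (hV : V ≤ W' ⊓ Wi i),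
      Function.Bijective (fun r : Γ(X, V) => r • res L (hV.trans (inf_le_left.trans hW')) e) := by
    intro i V hV
    have h1 := h i V (hV.trans inf_le_right)
    have h2 : (fun r : Γ(X, V) => r • res L (hV.trans inf_le_right) (res L (hle i) e)) =
        fun r : Γ(X, V) => r • res L (hV.trans (inf_le_left.trans hW')) e := by
      funext r
      rw [res_res]
    rw [h2] at h1
    exact h1
  have hcov' : W' ≤ ⨆ i, W' ⊓ Wi i := fun x hx => by
    obtain ⟨i, hi⟩ := hcov x (hW' hx)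
    exact Opens.mem_iSup.2 ⟨i, hx, hi⟩
  constructor
  · intro r r' hrr
    refine X.sheaf.eq_of_locally_eq' (fun i => W' ⊓ Wi i) W' (fun i => homOfLE inf_le_left) hcov' r r' ?_
    intro i
    apply (hloc i (W' ⊓ Wi i) le_rfl).1
    have h1 := congrArg (res L (inf_le_left : W' ⊓ Wi i ≤ W')) hrr
    simp only [res_smul, res_res] at h1
    exact h1
  · intro s
    choose r hr using fun i => (hloc i (W' ⊓ Wi i) le_rfl).2 (res L inf_le_left s)
    have hcompat : TopCat.Presheaf.IsCompatible X.sheaf.1 (fun i => W' ⊓ Wi i) r := by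
      intro i j
      change resf (inf_le_left : (W' ⊓ Wi i) ⊓ (W' ⊓ Wi j) ≤ W' ⊓ Wi i) (r i) =
        resf (inf_le_right : (W' ⊓ Wi i) ⊓ (W' ⊓ Wi j) ≤ W' ⊓ Wi j) (r j)
      apply (hloc i ((W' ⊓ Wi i) ⊓ (W' ⊓ Wi j)) inf_le_left).1
      have h1 := congrArg (res L (inf_le_left : (W' ⊓ Wi i) ⊓ (W' ⊓ Wi j) ≤ W' ⊓ Wi i)) (hr i)
      have h2 := congrArg (res L (inf_le_right : (W' ⊓ Wi i) ⊓ (W' ⊓ Wi j) ≤ W' ⊓ Wi j)) (hr j)
      simp only [res_smul, res_res] at h1 h2
      exact h1.trans h2.symm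
    obtain ⟨r₀, hr₀⟩ : ∃ r₀ : Γ(X, W'), ∀ i, resf (inf_le_left : W' ⊓ Wi i ≤ W') r₀ = r i := by
      obtain ⟨r₀, hr₀, -⟩ := X.sheaf.existsUnique_gluing' (fun i => W' ⊓ Wi i) W'
        (fun i => homOfLE inf_le_left) hcov' r hcompat
      exact ⟨r₀, hr₀⟩
    refine ⟨r₀, ?_⟩
    refine (modSheaf L).eq_of_locally_eq' (fun i => W' ⊓ Wi i) W' (fun i => homOfLE inf_le_left) hcov' _ _ ?_
    intro i
    change res L (inf_le_left : W' ⊓ Wi i ≤ W') (r₀ • res L hW' e) = res L inf_le_left s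
    rw [res_smul, res_res, ← hr i]
    congr 1
    exact hr₀ i

end Groth.Agent.Lib.Helper2.IsGenCover
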