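import Groth.Agent.Lib.Helper2GrModBridge2
import Groth.Agent.Lib.Helper23QCohLocal

/-!
# `M(n)~` is quasi-coherent on `Proj` (helper2 port of helper27)
-/

set_option autoImplicit false
universe u

open CategoryTheory CategoryTheory.Limits AlgebraicGeometry TopologicalSpace Opposite
  HomogeneousLocalization

namespace Groth.Agent.Lib.Helper2GrModSect

variable {A σ : Type u} [CommRing A] [SetLike σ A] [AddSubgroupClass σ A] (𝒜 : ℕ → σ)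
  [GradedRing 𝒜]
variable {M τ : Type u} [AddCommGroup M] [Module A M] [SetLike τ M] [AddSubgroupClass τ M]
  (ℳ : ℕ → τ) [DirectSum.Decomposition ℳ] [SetLike.GradedSMul 𝒜 ℳ] (n : ℤ)

omit [DirectSum.Decomposition ℳ] in
/-- the section `m / s` over an open on which `s` vanishes nowhere. -/
def fracOn (W : Opens (ProjectiveSpectrum.top 𝒜)) {i j : ℕ} {m : M} {s : A} (hm : m ∈ ℳ i)
    (hs : s ∈ 𝒜 j) (hij : (i : ℤ) = j + n) (hW : ∀ y : W, s ∉ y.1.asHomogeneousIdeal) :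
    GrMod.sect 𝒜 ℳ n (op W) :=
  ⟨fun y => ⟨LocalizedModule.mk m ⟨s, hW y⟩, mk_mem_tildeAt 𝒜 ℳ n y.1 hm hs (hW y) hij⟩,
   fun y => ⟨W, y.2, 𝟙 _, i, j, ⟨m, hm⟩, ⟨s, hs⟩, hW, Or.inl hij, fun _ => rfl⟩⟩

variable {𝒜 ℳ n}

theorem exists_extension_aux {f : A} {d : ℕ} (hd : 0 < d) (hf : f ∈ 𝒜 d) (k : ℕ) (a : A)
    (ha : a ∈ 𝒜 (k • d))
    (s : Γ(GrMod.tilde 𝒜 ℳ n,
      (Proj 𝒜).basicOpen ((Proj.awayToSection 𝒜 f).hom (Away.mk 𝒜 hf k a ha)))) :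
    ∃ (N : ℕ) (t : Γ(GrMod.tilde 𝒜 ℳ n, Proj.basicOpen 𝒜 f)),
      (GrMod.tilde 𝒜 ℳ n).presheaf.map (homOfLE ((Proj 𝒜).basicOpen_le
          ((Proj.awayToSection 𝒜 f).hom (Away.mk 𝒜 hf k a ha)))).op t =
        ((Proj 𝒜).presheaf.map (homOfLE ((Proj 𝒜).basicOpen_le
          ((Proj.awayToSection 𝒜 f).hom (Away.mk 𝒜 hf k a ha)))).op
          ((Proj.awayToSection 𝒜 f).hom (Away.mk 𝒜 hf k a ha))) ^ N • s := by
  have hB := mem_basicOpen_awayToSection_iff hf k a ha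
  -- transport `s` to `D₊(a f)`
  have hle : ProjectiveSpectrum.basicOpen 𝒜 (a * f) ≤
      (Proj 𝒜).basicOpen ((Proj.awayToSection 𝒜 f).hom (Away.mk 𝒜 hf k a ha)) :=
    fun y hy => (hB y).mpr ((ProjectiveSpectrum.mem_basicOpen 𝒜 _ y).mp hy)
  let s' : GrMod.sect 𝒜 ℳ n (op (ProjectiveSpectrum.basicOpen 𝒜 (a * f))) :=
    GrMod.res 𝒜 ℳ n (homOfLE hle).op (toSect 𝒜 ℳ n _ s)
  have haf : a * f ∈ 𝒜 (k • d + d) := SetLike.mul_mem_graded ha hf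
  obtain ⟨K, i, ⟨m, hm⟩, hi, hval⟩ := exists_global s' (by omega : 0 < k • d + d) haf
  have hfK : f ^ (K * (k + 1)) ∈ 𝒜 (K * (k + 1) * d) := by
    have := SetLike.pow_mem_graded (K * (k + 1)) hf
    simpa [smul_eq_mul] using this
  have hij : (i : ℤ) = ((K * (k + 1) * d : ℕ) : ℤ) + n := by
    rw [hi]; push_cast; simp only [smul_eq_mul]; push_cast; ring
  have hW : ∀ y : (Proj.basicOpen 𝒜 f : Opens (ProjectiveSpectrum.top 𝒜)),
      f ^ (K * (k + 1)) ∉ y.1.asHomogeneousIdeal :=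
    fun y h => (ProjectiveSpectrum.mem_basicOpen 𝒜 f y.1).mp y.2 (y.1.isPrime.mem_of_pow_mem _ h)
  refine ⟨K, ofSect 𝒜 ℳ n _ (fracOn 𝒜 ℳ n _ hm hfK hij hW), ?_⟩
  apply sec_ext
  intro y hy
  have hyaf : a * f ∉ y.asHomogeneousIdeal := (hB y).mp hy
  have hfy : f ∉ y.asHomogeneousIdeal := fun h => hyaf (Ideal.mul_mem_left _ _ h)
  have hyU : y ∈ Proj.basicOpen 𝒜 f := (ProjectiveSpectrum.mem_basicOpen 𝒜 f y).mpr hfy
  rw [secVal_map, secVal_smul, funVal_pow, funVal_map, HomogeneousLocalization.val_pow,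
    funVal_awayToSection_val hf k a ha y hyU]
  have h1 : secVal 𝒜 ℳ n _ s y hy = (LocalizedModule.mk m
      (⟨(a * f) ^ K, fun h => hyaf (y.isPrime.mem_of_pow_mem K h)⟩ :
        y.asHomogeneousIdeal.toIdeal.primeCompl) : GrMod.LocMod 𝒜 (M := M) y) :=
    hval ⟨y, (ProjectiveSpectrum.mem_basicOpen 𝒜 _ y).mpr hyaf⟩
  rw [h1, Localization.mk_pow, LocalizedModule.mk_smul_mk]
  change LocalizedModule.mk m ⟨f ^ (K * (k + 1)), _⟩ = _
  rw [LocalizedModule.mk_eq]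
  refine ⟨1, ?_⟩
  rw [one_smul, one_smul]
  change ((f ^ k) ^ K * (a * f) ^ K) • m = f ^ (K * (k + 1)) • a ^ K • m
  rw [smul_smul]
  congr 1
  ring

theorem exists_extension {f : A} {d : ℕ} (hd : 0 < d) (hf : f ∈ 𝒜 d)
    (g : Γ(Proj 𝒜, Proj.basicOpen 𝒜 f))
    (s : Γ(GrMod.tilde 𝒜 ℳ n, (Proj 𝒜).basicOpen g)) :
    ∃ (N : ℕ) (t : Γ(GrMod.tilde 𝒜 ℳ n, Proj.basicOpen 𝒜 f)),
      (GrMod.tilde 𝒜 ℳ n).presheaf.map (homOfLE ((Proj 𝒜).basicOpen_le g)).op t =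
        ((Proj 𝒜).presheaf.map (homOfLE ((Proj 𝒜).basicOpen_le g)).op g) ^ N • s := by
  obtain ⟨k, a, ha, rfl⟩ := exists_awayToSection_eq hf hd g
  exact exists_extension_aux hd hf k a ha s

theorem exists_pow_smul_eq_zero_aux {f : A} {d : ℕ} (hd : 0 < d) (hf : f ∈ 𝒜 d) (k : ℕ) (a : A)
    (ha : a ∈ 𝒜 (k • d))
    (t : Γ(GrMod.tilde 𝒜 ℳ n, Proj.basicOpen 𝒜 f))
    (ht : (GrMod.tilde 𝒜 ℳ n).presheaf.map (homOfLE ((Proj 𝒜).basicOpen_le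
      ((Proj.awayToSection 𝒜 f).hom (Away.mk 𝒜 hf k a ha)))).op t = 0) :
    ∃ N : ℕ, ((Proj.awayToSection 𝒜 f).hom (Away.mk 𝒜 hf k a ha)) ^ N • t = 0 := by
  have hB := mem_basicOpen_awayToSection_iff hf k a ha
  obtain ⟨K, i, ⟨m, hm⟩, hi, hval⟩ := exists_global (toSect 𝒜 ℳ n _ t) hd hf
  have haf : a * f ∈ 𝒜 (k • d + d) := SetLike.mul_mem_graded ha hf
  -- `m` is killed locally on `D₊(a f)`
  obtain ⟨L, hL⟩ := exists_pow_smul_eq_zero 𝒜 ℳ (by omega : 0 < k • d + d) haf hm (fun y hy => by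
    have hyB : y ∈ (Proj 𝒜).basicOpen ((Proj.awayToSection 𝒜 f).hom (Away.mk 𝒜 hf k a ha)) :=
      (hB y).mpr hy
    have hfy : f ∉ y.asHomogeneousIdeal := fun h => hy (Ideal.mul_mem_left _ _ h)
    have hyU : y ∈ Proj.basicOpen 𝒜 f := (ProjectiveSpectrum.mem_basicOpen 𝒜 f y).mpr hfy
    have h0 : secVal 𝒜 ℳ n _ ((GrMod.tilde 𝒜 ℳ n).presheaf.map
        (homOfLE ((Proj 𝒜).basicOpen_le
          ((Proj.awayToSection 𝒜 f).hom (Away.mk 𝒜 hf k a ha)))).op t) y hyB = 0 := by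
      rw [ht]; rfl
    rw [secVal_map] at h0
    have h1 : secVal 𝒜 ℳ n _ t y hyU = (LocalizedModule.mk m
        (⟨f ^ K, fun h => hfy (y.isPrime.mem_of_pow_mem K h)⟩ :
          y.asHomogeneousIdeal.toIdeal.primeCompl) : GrMod.LocMod 𝒜 (M := M) y) :=
      hval ⟨y, hyU⟩
    rw [h1, ← LocalizedModule.zero_mk (⟨f ^ K, fun h => hfy (y.isPrime.mem_of_pow_mem K h)⟩ :
      y.asHomogeneousIdeal.toIdeal.primeCompl), LocalizedModule.mk_eq] at h0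
    obtain ⟨u, hu⟩ := h0
    rw [smul_zero, smul_zero] at hu
    refine ⟨u.1 * f ^ K, fun hmem => ?_, ?_⟩
    · rcases y.isPrime.mem_or_mem hmem with h' | h'
      · exact u.2 h'
      · exact hfy (y.isPrime.mem_of_pow_mem K h')
    · rw [mul_smul]
      exact hu)
  refine ⟨L, ?_⟩
  apply sec_ext
  intro y hyU
  have hfy : f ∉ y.asHomogeneousIdeal := (ProjectiveSpectrum.mem_basicOpen 𝒜 f y).mp hyU
  rw [secVal_smul, funVal_pow, HomogeneousLocalization.val_pow,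
    funVal_awayToSection_val hf k a ha y hyU, secVal_zero]
  have h1 : secVal 𝒜 ℳ n _ t y hyU = (LocalizedModule.mk m
      (⟨f ^ K, fun h => hfy (y.isPrime.mem_of_pow_mem K h)⟩ :
        y.asHomogeneousIdeal.toIdeal.primeCompl) : GrMod.LocMod 𝒜 (M := M) y) :=
    hval ⟨y, hyU⟩
  rw [h1, Localization.mk_pow, LocalizedModule.mk_smul_mk]
  rw [← LocalizedModule.zero_mk (1 : y.asHomogeneousIdeal.toIdeal.primeCompl),
    LocalizedModule.mk_eq]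
  refine ⟨⟨f ^ L, fun h => hfy (y.isPrime.mem_of_pow_mem L h)⟩, ?_⟩
  rw [smul_zero, smul_zero, one_smul]
  change f ^ L • a ^ L • m = 0
  rw [smul_smul, ← mul_pow, mul_comm f a]
  exact hL L le_rfl

theorem exists_pow_smul_eq_zero' {f : A} {d : ℕ} (hd : 0 < d) (hf : f ∈ 𝒜 d)
    (g : Γ(Proj 𝒜, Proj.basicOpen 𝒜 f))
    (t : Γ(GrMod.tilde 𝒜 ℳ n, Proj.basicOpen 𝒜 f))
    (ht : (GrMod.tilde 𝒜 ℳ n).presheaf.map (homOfLE ((Proj 𝒜).basicOpen_le g)).op t = 0) :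
    ∃ N : ℕ, g ^ N • t = 0 := by
  obtain ⟨k, a, ha, rfl⟩ := exists_awayToSection_eq hf hd g
  exact exists_pow_smul_eq_zero_aux hd hf k a ha t ht

theorem isLocOn_tilde {f : A} {d : ℕ} (hd : 0 < d) (hf : f ∈ 𝒜 d) :
    Groth.Agent.Lib.Helper2.Push.IsLocOn (GrMod.tilde 𝒜 ℳ n) (Proj.basicOpen 𝒜 f) :=
  ⟨fun g s => exists_extension hd hf g s, fun g t ht => exists_pow_smul_eq_zero' hd hf g t ht⟩

variable (𝒜) in
/-- index type: homogeneous elements of positive degree. -/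
abbrev PosIdx := Σ e : ℕ, {g : A // 0 < e ∧ g ∈ 𝒜 e}

variable (𝒜) in
theorem iSup_basicOpen_posIdx_eq_top :
    ⨆ i : PosIdx 𝒜, Proj.basicOpen 𝒜 (i.2.1 : A) = ⊤ := by
  classical
  apply Proj.iSup_basicOpen_eq_top
  intro z hz
  rw [← DirectSum.sum_support_decompose 𝒜 z]
  refine Ideal.sum_mem _ fun c hc ↦ if hc0 : c = 0 then ?_ else
    Ideal.subset_span ⟨⟨c, _, Nat.pos_iff_ne_zero.mpr hc0, (DirectSum.decompose 𝒜 z c).2⟩, rfl⟩
  convert! Ideal.zero_mem _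
  subst hc0
  exact hz

variable (𝒜 ℳ n) in
theorem isQuasicoherent_tilde : (GrMod.tilde 𝒜 ℳ n).IsQuasicoherent :=
  Groth.Agent.Lib.Helper23.QCohLocal.isQuasicoherent_of_affine_cover (GrMod.tilde 𝒜 ℳ n)
    (fun i : PosIdx 𝒜 => Proj.basicOpen 𝒜 (i.2.1 : A)) (iSup_basicOpen_posIdx_eq_top 𝒜)
    (fun i => Proj.isAffineOpen_basicOpen 𝒜 _ i.2.2.2 i.2.2.1)
    (fun i => Groth.Agent.Lib.Helper23.QCohLocal.isQuasicoherent_restrict_fromSpec_of_isLocOn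
      (Proj.isAffineOpen_basicOpen 𝒜 _ i.2.2.2 i.2.2.1) _ (isLocOn_tilde i.2.2.1 i.2.2.2))

end Groth.Agent.Lib.Helper2GrModSect
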