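import Mathlib
import Groth.Prelude.Def_RelProj3
import Groth.Agent.Lib.Helper2GrModQCoh

/-!
# Quasi-coherence of modules glued from charts (helper2)

* `IsLocOn.of_bijective`: the localisation property `IsLocOn` transfers along a morphism of modules which is
  bijective on sections over the opens contained in `V`.
* `isLocOn_pushforward_of_isAffineOpen`: pushforward of a quasi-coherent module is `IsLocOn V` when `f⁻¹ V` is affine.
* `isQuasicoherent_of_charts`: a module `F` on `P` with maps `F ⟶ (j k)_* (T k)` (open immersions `j k`, `T k`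
  quasi-coherent) bijective on sections over opens inside `O k`, where the `O k ≤ range (j k)` cover `P`, is
  quasi-coherent.
-/

set_option autoImplicit false
universe u
open CategoryTheory Limits AlgebraicGeometry TopologicalSpace Opposite

namespace Groth.Agent.Lib.Helper2.RelTildeQCoh

open Groth.Agent.Lib.Helper2.Push

variable {P : Scheme.{u}}

theorem app_map' {A B : P.Modules} (m : A ⟶ B) {W W' : P.Opens} (i : W' ⟶ W) (s : Γ(A, W)) :
    m.app W' (A.presheaf.map i.op s) = B.presheaf.map i.op (m.app W s) := by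
  have := m.mapPresheaf.naturality i.op
  exact congrArg (fun φ => φ s) this

theorem IsLocOn.of_bijective {F G : P.Modules} (lam : F ⟶ G) (V : P.Opens)
    (hbij : ∀ W : P.Opens, W ≤ V → Function.Bijective (lam.app W)) (hG : IsLocOn G V) :
    IsLocOn F V := by
  constructor
  · intro f s
    obtain ⟨n, t', ht'⟩ := hG.exists_extension f (lam.app _ s)
    obtain ⟨t, rfl⟩ := (hbij V le_rfl).2 t'
    refine ⟨n, t, ?_⟩
    apply (hbij _ (P.basicOpen_le f)).1
    rw [app_map', ht', Scheme.Modules.Hom.app_smul]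
  · intro f t ht
    have h1 : G.presheaf.map (homOfLE (P.basicOpen_le f)).op (lam.app V t) = 0 := by
      rw [← app_map', ht, map_zero]
    obtain ⟨n, hn⟩ := hG.exists_pow_smul_eq_zero f (lam.app V t) h1
    refine ⟨n, ?_⟩
    apply (hbij V le_rfl).1
    rw [Scheme.Modules.Hom.app_smul, hn, map_zero]

theorem isLocOn_pushforward_of_isAffineOpen {X S : Scheme.{u}} (f : X ⟶ S) (F : X.Modules)
    [F.IsQuasicoherent] {V : S.Opens} (hU : IsAffineOpen (f ⁻¹ᵁ V)) :
    IsLocOn ((Scheme.Modules.pushforward f).obj F) V := by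
  constructor
  · intro g s
    have hW : f ⁻¹ᵁ (S.basicOpen g) = X.basicOpen (f.app V g) := Scheme.preimage_basicOpen f g
    have hle : f ⁻¹ᵁ (S.basicOpen g) ≤ f ⁻¹ᵁ V := fun x hx => S.basicOpen_le g hx
    obtain ⟨n, t, ht⟩ := exists_extension' hU F (f.app V g) _ hW hle s
    refine ⟨n, t, ?_⟩
    rw [pushforward_smul]
    refine ht.trans ?_
    congr 1
    rw [map_pow]
    congr 1
    have hnat := Scheme.Hom.naturality f (homOfLE (S.basicOpen_le g)).op
    have := congrArg (fun φ => φ g) hnat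
    simp only [ConcreteCategory.comp_apply] at this
    exact this.symm
  · intro g t ht
    have hW : f ⁻¹ᵁ (S.basicOpen g) = X.basicOpen (f.app V g) := Scheme.preimage_basicOpen f g
    have hle : f ⁻¹ᵁ (S.basicOpen g) ≤ f ⁻¹ᵁ V := fun x hx => S.basicOpen_le g hx
    obtain ⟨n, hn⟩ := exists_pow_smul_eq_zero' hU F (f.app V g) _ hW hle t ht
    refine ⟨n, ?_⟩
    rw [pushforward_smul, map_pow]
    exact hn

theorem isAffineOpen_preimage_of_le_opensRange {Z : Scheme.{u}} (j : Z ⟶ P) [IsOpenImmersion j]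
    {V : P.Opens} (hV : IsAffineOpen V) (h : V ≤ j.opensRange) : IsAffineOpen (j ⁻¹ᵁ V) := by
  rw [← j.isAffineOpen_iff_of_isOpenImmersion, j.image_preimage_eq_opensRange_inf,
    inf_eq_right.mpr h]
  exact hV

theorem isQuasicoherent_of_charts (F : P.Modules) {κ : Type u} (O : κ → P.Opens)
    (hO : ∀ x : P, ∃ k, x ∈ O k)
    (Z : κ → Scheme.{u}) (j : ∀ k, Z k ⟶ P) [∀ k, IsOpenImmersion (j k)]
    (hj : ∀ k, O k ≤ (j k).opensRange)
    (T : ∀ k, (Z k).Modules) (hT : ∀ k, (T k).IsQuasicoherent)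
    (lam : ∀ k, F ⟶ (Scheme.Modules.pushforward (j k)).obj (T k))
    (hbij : ∀ k (W : P.Opens), W ≤ O k → Function.Bijective ((lam k).app W)) :
    F.IsQuasicoherent := by
  let ι : Type u := {V : P.affineOpens // ∃ k, V.1 ≤ O k}
  have hcov : IsOpenCover (fun i : ι => (i.1.1 : P.Opens)) := by
    rw [IsOpenCover, eq_top_iff]
    intro x _
    obtain ⟨k, hk⟩ := hO x
    obtain ⟨_, ⟨V, hV, rfl⟩, hxV, hVO⟩ :=
      P.isBasis_affineOpens.exists_subset_of_mem_open hk (O k).2
    exact Opens.mem_iSup.mpr ⟨⟨⟨V, hV⟩, k, hVO⟩, hxV⟩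
  refine Groth.Agent.Lib.Helper23.QCohLocal.isQuasicoherent_of_affine_cover F
    (fun i : ι => (i.1.1 : P.Opens)) hcov (fun i => i.1.2) (fun i => ?_)
  obtain ⟨k, hk⟩ := i.2
  haveI := hT k
  have hA : IsAffineOpen ((j k) ⁻¹ᵁ i.1.1) :=
    isAffineOpen_preimage_of_le_opensRange (j k) i.1.2 (hk.trans (hj k))
  have hG := isLocOn_pushforward_of_isAffineOpen (j k) (T k) hA
  have hF : IsLocOn F i.1.1 :=
    IsLocOn.of_bijective (lam k) i.1.1 (fun W hW => hbij k W (hW.trans hk)) hG
  exact Groth.Agent.Lib.Helper23.QCohLocal.isQuasicoherent_restrict_fromSpec_of_isLocOn i.1.2 F hF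

section relproj
open RelProj
variable {S : Scheme.{u}} {𝒮 : RelProj.QCGrAlg S} (p : P ⟶ S)
  (chart : ∀ (U : S.Opens) (hU : IsAffineOpen U), (((p ⁻¹ᵁ U : P.Opens) : Scheme.{u}) ≅ Proj (𝒮.deg U hU)))

theorem le_opensRange_emb (U : S.Opens) (hU : IsAffineOpen U) :
    p ⁻¹ᵁ U ≤ (RelProj.emb p chart U hU).opensRange := by
  intro x hx
  let x' : ((p ⁻¹ᵁ U : P.Opens) : Scheme.{u}) := ⟨x, hx⟩
  refine ⟨(chart U hU).hom x', ?_⟩
  have h1 : (chart U hU).inv ((chart U hU).hom x') = x' := by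
    rw [← Scheme.Hom.comp_apply, Iso.hom_inv_id]
    rfl
  show (RelProj.emb p chart U hU) ((chart U hU).hom x') = x
  unfold RelProj.emb
  rw [Scheme.Hom.comp_apply, h1]
  rfl

theorem exists_affine_mem_preimage (x : P) : ∃ U : S.affineOpens, x ∈ p ⁻¹ᵁ U.1 := by
  obtain ⟨_, ⟨V, hV, rfl⟩, hxV, -⟩ :=
    S.isBasis_affineOpens.exists_subset_of_mem_open (Set.mem_univ (p x)) isOpen_univ
  exact ⟨⟨V, hV⟩, hxV⟩

/-- a module on a relative Proj identified chartwise (bijectively on sections) with quasi-coherent modules is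
quasi-coherent. -/
theorem isQuasicoherent_of_relCharts (F : P.Modules)
    (T : ∀ (U : S.Opens) (hU : IsAffineOpen U), (Proj (𝒮.deg U hU)).Modules)
    (hT : ∀ (U : S.Opens) (hU : IsAffineOpen U), (T U hU).IsQuasicoherent)
    (lam : ∀ (U : S.Opens) (hU : IsAffineOpen U),
      F ⟶ (Scheme.Modules.pushforward (RelProj.emb p chart U hU)).obj (T U hU))
    (hbij : ∀ (U : S.Opens) (hU : IsAffineOpen U) (W : P.Opens), W ≤ p ⁻¹ᵁ U →
      Function.Bijective ((lam U hU).app W)) : F.IsQuasicoherent :=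
  isQuasicoherent_of_charts F (κ := S.affineOpens) (fun U => p ⁻¹ᵁ U.1)
    (exists_affine_mem_preimage p) (fun U => Proj (𝒮.deg U.1 U.2))
    (fun U => RelProj.emb p chart U.1 U.2) (fun U => le_opensRange_emb p chart U.1 U.2)
    (fun U => T U.1 U.2) (fun U => hT U.1 U.2) (fun U => lam U.1 U.2)
    (fun U W hW => hbij U.1 U.2 W hW)

end relproj

end Groth.Agent.Lib.Helper2.RelTildeQCoh
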