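import Mathlib
import Groth.Agent.Lib.Helper2IsGenCover
import Groth.Agent.Lib.Helper2RelTildeQCoh

/-!
# Gluing modules on a scheme over the affine opens of a base (helper2)

Given `p : P ⟶ S`, a module `F U` on `P` for every affine open `U` of `S` (thought of as supported on `p⁻¹ U`) and
transition maps `τ : F V ⟶ F D` for `D` a basic open of `V`, bijective on sections over opens of `p⁻¹ D` and
functorial, the multiequalizer `L` of the `F U` along the `τ` has projections `L ⟶ F U` which are bijective on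
sections over opens of `p⁻¹ U`.

* `limit_sections_ext`, `limit_sections_exists`: sections of a limit of modules.
* `IsBasic V D`: `D` is a basic open of `V`.
* `exists_glue`: the gluing statement.
-/

set_option autoImplicit false
universe u
open CategoryTheory Limits AlgebraicGeometry TopologicalSpace Opposite

namespace Groth.Agent.Lib.Helper2.RelObjGlue

open Groth.Agent.Lib.Helper6 Groth.Agent.Lib.Helper2.RelTildeQCoh Groth.Agent.Lib.Helper2.IsGenCover

section limits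

variable {P : Scheme.{u}}

/-- the sections-over-`W` functor. -/
noncomputable def secF (W : P.Opens) : P.Modules ⥤ Type u :=
  Scheme.Modules.toPresheaf P ⋙ (evaluation _ _).obj (op W) ⋙ forget Ab

noncomputable instance (W : P.Opens) : PreservesLimits (secF W) := by
  unfold secF
  have : PreservesLimits ((evaluation (Opens ↥P)ᵒᵖ Ab.{u}).obj (op W) ⋙ forget Ab) :=
    comp_preservesLimits _ _
  exact comp_preservesLimits _ _

theorem limit_sections_ext {J : Type u} [Category.{u} J] (F : J ⥤ P.Modules) (W : P.Opens)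
    (s s' : Γ(limit F, W)) (h : ∀ j, (limit.π F j).app W s = (limit.π F j).app W s') : s = s' := by
  have hl := isLimitOfPreserves (secF W) (limit.isLimit F)
  apply (Types.isLimitEquivSections hl).injective
  apply Subtype.ext
  funext j
  exact h j

theorem limit_sections_exists {J : Type u} [Category.{u} J] (F : J ⥤ P.Modules) (W : P.Opens)
    (x : ∀ j, Γ(F.obj j, W))
    (hx : ∀ {j j' : J} (f : j ⟶ j'), (F.map f).app W (x j) = x j') :
    ∃ s : Γ(limit F, W), ∀ j, (limit.π F j).app W s = x j := by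
  have hl := isLimitOfPreserves (secF W) (limit.isLimit F)
  refine ⟨(Types.isLimitEquivSections hl).symm ⟨x, fun f => hx f⟩, fun j => ?_⟩
  exact Types.isLimitEquivSections_symm_apply hl _ j

variable {J : MulticospanShape.{u, u}} (I : MulticospanIndex J P.Modules)

theorem multieq_sections_ext (W : P.Opens) (s s' : Γ(multiequalizer I, W))
    (h : ∀ a, (Multiequalizer.ι I a).app W s = (Multiequalizer.ι I a).app W s') : s = s' := by
  apply limit_sections_ext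
  rintro (a | b)
  · exact h a
  · have e : limit.π I.multicospan (WalkingMulticospan.right b) =
        Multiequalizer.ι I (J.fst b) ≫ I.fst b :=
      (limit.w I.multicospan (WalkingMulticospan.Hom.fst b)).symm
    have key : ∀ σ : Γ(multiequalizer I, W),
        (limit.π I.multicospan (WalkingMulticospan.right b)).app W σ =
          (I.fst b).app W ((Multiequalizer.ι I (J.fst b)).app W σ) := fun σ =>
      congrArg (fun φ : multiequalizer I ⟶ I.right b => (φ.app W) σ) e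
    rw [key, key, h]

theorem multieq_sections_exists (W : P.Opens) (x : ∀ a, Γ(I.left a, W))
    (hx : ∀ b, (I.fst b).app W (x (J.fst b)) = (I.snd b).app W (x (J.snd b))) :
    ∃ s : Γ(multiequalizer I, W), ∀ a, (Multiequalizer.ι I a).app W s = x a := by
  let x' : ∀ j : WalkingMulticospan J, Γ(I.multicospan.obj j, W) := fun j =>
    match j with
    | WalkingMulticospan.left a => x a
    | WalkingMulticospan.right b => (I.fst b).app W (x (J.fst b))
  obtain ⟨s, hs⟩ := limit_sections_exists I.multicospan W x' (by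
    intro j j' f
    revert f
    intro (f : WalkingMulticospan.Hom j j')
    cases f with
    | id =>
      change (I.multicospan.map (𝟙 j)).app W (x' j) = x' j
      rw [I.multicospan.map_id]
      rfl
    | fst b => rfl
    | snd b => exact (hx b).symm)
  exact ⟨s, fun a => hs (WalkingMulticospan.left a)⟩

end limits

section basic

variable {S : Scheme.{u}}

/-- `D` is a basic open of `V`. -/
def IsBasic (V D : S.Opens) : Prop := ∃ r : Γ(S, V), D = S.basicOpen r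

theorem IsBasic.le {V D : S.Opens} (h : IsBasic V D) : D ≤ V := by
  obtain ⟨r, rfl⟩ := h
  exact S.basicOpen_le r

theorem IsBasic.isAffineOpen {V D : S.Opens} (h : IsBasic V D) (hV : IsAffineOpen V) : IsAffineOpen D := by
  obtain ⟨r, rfl⟩ := h
  exact hV.basicOpen r

theorem IsBasic.trans {V D D₃ : S.Opens} (hV : IsAffineOpen V) (h₁ : IsBasic V D) (h₂ : IsBasic D D₃) :
    IsBasic V D₃ := by
  obtain ⟨r, rfl⟩ := h₁
  obtain ⟨r', rfl⟩ := h₂
  obtain ⟨f', hf'⟩ := hV.basicOpen_basicOpen_is_basicOpen r r'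
  exact ⟨f', hf'.symm⟩

theorem exists_isBasic_inter {U V : S.Opens} (hU : IsAffineOpen U) (hV : IsAffineOpen V) (x : S)
    (hxU : x ∈ U) (hxV : x ∈ V) : ∃ D : S.Opens, x ∈ D ∧ IsAffineOpen D ∧ IsBasic U D ∧ IsBasic V D := by
  obtain ⟨f, g, hfg, hx⟩ := exists_basicOpen_le_affine_inter hU hV x ⟨hxU, hxV⟩
  exact ⟨S.basicOpen f, hx, hU.basicOpen f, ⟨f, rfl⟩, ⟨g, hfg⟩⟩

end basic

section glue

variable {S P : Scheme.{u}} (p : P ⟶ S)
  (F : ∀ (U : S.Opens), IsAffineOpen U → P.Modules)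
  (τ : ∀ (V : S.Opens) (hV : IsAffineOpen V) (D : S.Opens) (hD : IsAffineOpen D),
    IsBasic V D → (F V hV ⟶ F D hD))
  (h0 : ∀ (V : S.Opens) (hV : IsAffineOpen V) (W : P.Opens),
    Function.Bijective (res (F V hV) (inf_le_left : W ⊓ p ⁻¹ᵁ V ≤ W)))
  (h1 : ∀ (V : S.Opens) (hV : IsAffineOpen V) (D : S.Opens) (hD : IsAffineOpen D) (hb : IsBasic V D)
    (W : P.Opens), W ≤ p ⁻¹ᵁ D → Function.Bijective ((τ V hV D hD hb).app W))
  (h2 : ∀ (V : S.Opens) (hV : IsAffineOpen V) (D : S.Opens) (hD : IsAffineOpen D) (D₃ : S.Opens)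
    (hD₃ : IsAffineOpen D₃) (hb₁ : IsBasic V D) (hb₂ : IsBasic D D₃) (hb₃ : IsBasic V D₃),
    τ V hV D hD hb₁ ≫ τ D hD D₃ hD₃ hb₂ = τ V hV D₃ hD₃ hb₃)

/-- `s`, in the chart `V`, corresponds to `t`, in the chart `U`. -/
def Rel (U : S.Opens) (hU : IsAffineOpen U) (W : P.Opens) (t : Γ(F U hU, W)) (V : S.Opens)
    (hV : IsAffineOpen V) (s : Γ(F V hV, W)) : Prop :=
  ∀ (D : S.Opens) (hD : IsAffineOpen D) (bU : IsBasic U D) (bV : IsBasic V D),
    (τ V hV D hD bV).app (W ⊓ p ⁻¹ᵁ D) (res (F V hV) inf_le_left s) =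
      (τ U hU D hD bU).app (W ⊓ p ⁻¹ᵁ D) (res (F U hU) inf_le_left t)

variable {p F τ}

theorem tau_res {V : S.Opens} (hV : IsAffineOpen V) {D : S.Opens} (hD : IsAffineOpen D) (hb : IsBasic V D)
    {W W' : P.Opens} (h : W' ≤ W) (s : Γ(F V hV, W)) :
    (τ V hV D hD hb).app W' (res (F V hV) h s) = res (F D hD) h ((τ V hV D hD hb).app W s) :=
  app_map' (τ V hV D hD hb) (homOfLE h) s

theorem rel_self (U : S.Opens) (hU : IsAffineOpen U) (W : P.Opens) (t : Γ(F U hU, W)) :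
    Rel p F τ U hU W t U hU t := fun _ _ _ _ => rfl

include h0 h1 in
theorem rel_unique (U : S.Opens) (hU : IsAffineOpen U) (W : P.Opens) (hW : W ≤ p ⁻¹ᵁ U) (t : Γ(F U hU, W))
    (V : S.Opens) (hV : IsAffineOpen V) (s s' : Γ(F V hV, W)) (hs : Rel p F τ U hU W t V hV s)
    (hs' : Rel p F τ U hU W t V hV s') : s = s' := by
  apply (h0 V hV W).1
  refine (modSheaf (F V hV)).eq_of_locally_eq'
    (fun i : {D : S.Opens // IsAffineOpen D ∧ IsBasic U D ∧ IsBasic V D} => W ⊓ p ⁻¹ᵁ i.1) (W ⊓ p ⁻¹ᵁ V)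
    (fun i => homOfLE (inf_le_inf_left W (p.preimage_mono i.2.2.2.le))) ?_ _ _ ?_
  · intro x hx
    obtain ⟨D, hxD, hD, bU, bV⟩ := exists_isBasic_inter hU hV (p x) (hW hx.1) hx.2
    exact Opens.mem_iSup.2 ⟨⟨D, hD, bU, bV⟩, hx.1, hxD⟩
  · rintro ⟨D, hD, bU, bV⟩
    apply (h1 V hV D hD bV _ inf_le_right).1
    change (τ V hV D hD bV).app _ (res (F V hV) _ (res (F V hV) _ s)) =
      (τ V hV D hD bV).app _ (res (F V hV) _ (res (F V hV) _ s'))
    rw [res_res, res_res]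
    exact (hs D hD bU bV).trans (hs' D hD bU bV).symm

include h2 in
theorem rel_tau (U : S.Opens) (hU : IsAffineOpen U) (W : P.Opens) (t : Γ(F U hU, W))
    (V : S.Opens) (hV : IsAffineOpen V) (s : Γ(F V hV, W)) (hs : Rel p F τ U hU W t V hV s)
    (D' : S.Opens) (hD' : IsAffineOpen D') (b : IsBasic V D') :
    Rel p F τ U hU W t D' hD' ((τ V hV D' hD' b).app W s) := by
  intro D hD bU bD'
  rw [← tau_res hV hD' b inf_le_left s]
  have e := h2 V hV D' hD' D hD b bD' (b.trans hV bD')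
  have e' := congrArg (fun φ : F V hV ⟶ F D hD => φ.app (W ⊓ p ⁻¹ᵁ D) (res (F V hV) inf_le_left s)) e
  exact e'.trans (hs D hD bU (b.trans hV bD'))

include h0 h1 h2 in
theorem rel_exists (U : S.Opens) (hU : IsAffineOpen U) (W : P.Opens) (hW : W ≤ p ⁻¹ᵁ U) (t : Γ(F U hU, W))
    (V : S.Opens) (hV : IsAffineOpen V) : ∃ s : Γ(F V hV, W), Rel p F τ U hU W t V hV s := by
  classical
  -- local candidates
  have hex : ∀ i : {D : S.Opens // IsAffineOpen D ∧ IsBasic U D ∧ IsBasic V D},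
      ∃ σ : Γ(F V hV, W ⊓ p ⁻¹ᵁ i.1), (τ V hV i.1 i.2.1 i.2.2.2).app (W ⊓ p ⁻¹ᵁ i.1) σ =
        (τ U hU i.1 i.2.1 i.2.2.1).app (W ⊓ p ⁻¹ᵁ i.1) (res (F U hU) inf_le_left t) := fun i =>
    (h1 V hV i.1 i.2.1 i.2.2.2 _ inf_le_right).2 _
  choose σ hσ using hex
  -- descent to a smaller basic open
  have claimA : ∀ (i : {D : S.Opens // IsAffineOpen D ∧ IsBasic U D ∧ IsBasic V D}) (D₃ : S.Opens)
      (hD₃ : IsAffineOpen D₃) (b₃ : IsBasic i.1 D₃) (bU₃ : IsBasic U D₃) (bV₃ : IsBasic V D₃),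
      (τ V hV D₃ hD₃ bV₃).app (W ⊓ p ⁻¹ᵁ D₃)
          (res (F V hV) (inf_le_inf_left W (p.preimage_mono b₃.le)) (σ i)) =
        (τ U hU D₃ hD₃ bU₃).app (W ⊓ p ⁻¹ᵁ D₃) (res (F U hU) inf_le_left t) := by
    intro i D₃ hD₃ b₃ bU₃ bV₃
    have hle : W ⊓ p ⁻¹ᵁ D₃ ≤ W ⊓ p ⁻¹ᵁ i.1 := inf_le_inf_left W (p.preimage_mono b₃.le)
    have eV := h2 V hV i.1 i.2.1 D₃ hD₃ i.2.2.2 b₃ bV₃
    have eU := h2 U hU i.1 i.2.1 D₃ hD₃ i.2.2.1 b₃ bU₃
    have e1 := congrArg (fun φ : F V hV ⟶ F D₃ hD₃ => φ.app (W ⊓ p ⁻¹ᵁ D₃) (res (F V hV) hle (σ i))) eV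
    have e2 := congrArg (fun φ : F U hU ⟶ F D₃ hD₃ =>
      φ.app (W ⊓ p ⁻¹ᵁ D₃) (res (F U hU) inf_le_left t)) eU
    refine e1.symm.trans (Eq.trans ?_ e2)
    change (τ i.1 i.2.1 D₃ hD₃ b₃).app _ ((τ V hV i.1 i.2.1 i.2.2.2).app _ (res (F V hV) hle (σ i))) =
      (τ i.1 i.2.1 D₃ hD₃ b₃).app _ ((τ U hU i.1 i.2.1 i.2.2.1).app _ (res (F U hU) inf_le_left t))
    rw [tau_res hV i.2.1 i.2.2.2 hle (σ i), hσ i, ← tau_res hU i.2.1 i.2.2.1 hle, res_res]
  -- glue
  obtain ⟨e, he⟩ := exists_section_of_cover (F V hV) (W ⊓ p ⁻¹ᵁ V)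
    (fun i : {D : S.Opens // IsAffineOpen D ∧ IsBasic U D ∧ IsBasic V D} => W ⊓ p ⁻¹ᵁ i.1)
    (fun i => inf_le_inf_left W (p.preimage_mono i.2.2.2.le))
    (fun x hx => by
      obtain ⟨D, hxD, hD, bU, bV⟩ := exists_isBasic_inter hU hV (p x) (hW hx.1) hx.2
      exact ⟨⟨D, hD, bU, bV⟩, hx.1, hxD⟩) σ (by
    intro i j
    refine (modSheaf (F V hV)).eq_of_locally_eq'
      (fun k : {D₃ : S.Opens // IsAffineOpen D₃ ∧ IsBasic i.1 D₃ ∧ IsBasic j.1 D₃} => W ⊓ p ⁻¹ᵁ k.1)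
      ((W ⊓ p ⁻¹ᵁ i.1) ⊓ (W ⊓ p ⁻¹ᵁ j.1))
      (fun k => homOfLE (le_inf (inf_le_inf_left W (p.preimage_mono k.2.2.1.le))
        (inf_le_inf_left W (p.preimage_mono k.2.2.2.le)))) ?_ _ _ ?_
    · intro x hx
      obtain ⟨D₃, hxD₃, hD₃, b₁, b₂⟩ := exists_isBasic_inter i.2.1 j.2.1 (p x) hx.1.2 hx.2.2
      exact Opens.mem_iSup.2 ⟨⟨D₃, hD₃, b₁, b₂⟩, hx.1.1, hxD₃⟩
    · rintro ⟨D₃, hD₃, b₁, b₂⟩
      have bV₃ : IsBasic V D₃ := i.2.2.2.trans hV b₁
      have bU₃ : IsBasic U D₃ := i.2.2.1.trans hU b₁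
      apply (h1 V hV D₃ hD₃ bV₃ _ inf_le_right).1
      change (τ V hV D₃ hD₃ bV₃).app _ (res (F V hV) _ (res (F V hV) _ (σ i))) =
        (τ V hV D₃ hD₃ bV₃).app _ (res (F V hV) _ (res (F V hV) _ (σ j)))
      rw [res_res, res_res]
      exact (claimA i D₃ hD₃ b₁ bU₃ bV₃).trans (claimA j D₃ hD₃ b₂ bU₃ bV₃).symm)
  obtain ⟨s, hs⟩ := (h0 V hV W).2 e
  refine ⟨s, ?_⟩
  intro D hD bU bV
  have h3 : res (F V hV) (inf_le_left : W ⊓ p ⁻¹ᵁ D ≤ W) s = σ ⟨D, hD, bU, bV⟩ := by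
    rw [← he ⟨D, hD, bU, bV⟩, ← hs, res_res]
  rw [h3]
  exact hσ ⟨D, hD, bU, bV⟩

/-- the multicospan shape: affine opens, and pairs (affine open, basic open of it). -/
def shape (S : Scheme.{u}) : MulticospanShape.{u, u} where
  L := {U : S.Opens // IsAffineOpen U}
  R := Σ V : {U : S.Opens // IsAffineOpen U}, {D : {U : S.Opens // IsAffineOpen U} // IsBasic V.1 D.1}
  fst b := b.1
  snd b := b.2.1

variable (F τ) in
/-- the multicospan index. -/
def index : MulticospanIndex (shape S) P.Modules where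
  left V := F V.1 V.2
  right b := F b.2.1.1 b.2.1.2
  fst b := τ b.1.1 b.1.2 b.2.1.1 b.2.1.2 b.2.2
  snd _ := 𝟙 _

variable (p F τ) in
include h0 h1 h2 in
/-- **gluing**: the multiequalizer of the `F U` along the `τ`. -/
theorem exists_glue : ∃ (L : P.Modules) (lam : ∀ (U : S.Opens) (hU : IsAffineOpen U), L ⟶ F U hU),
    (∀ (U : S.Opens) (hU : IsAffineOpen U) (W : P.Opens), W ≤ p ⁻¹ᵁ U →
      Function.Bijective ((lam U hU).app W)) ∧
    (∀ (V : S.Opens) (hV : IsAffineOpen V) (D : S.Opens) (hD : IsAffineOpen D) (hb : IsBasic V D),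
      lam V hV ≫ τ V hV D hD hb = lam D hD) := by
  refine ⟨multiequalizer (index F τ), fun U hU => Multiequalizer.ι (index F τ) ⟨U, hU⟩, ?_, ?_⟩
  swap
  · intro V hV D hD hb
    have := Multiequalizer.condition (index F τ) ⟨⟨V, hV⟩, ⟨⟨D, hD⟩, hb⟩⟩
    exact this.trans (Category.comp_id _)
  intro U hU W hW
  change Function.Bijective ((Multiequalizer.ι (index F τ) ⟨U, hU⟩).app W)
  have hcond : ∀ (V : S.Opens) (hV : IsAffineOpen V) (D : S.Opens) (hD : IsAffineOpen D) (hb : IsBasic V D)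
      (ℓ : Γ(multiequalizer (index F τ), W)),
      (τ V hV D hD hb).app W ((Multiequalizer.ι (index F τ) ⟨V, hV⟩).app W ℓ) =
        (Multiequalizer.ι (index F τ) ⟨D, hD⟩).app W ℓ := by
    intro V hV D hD hb ℓ
    have h3 : Multiequalizer.ι (index F τ) ⟨V, hV⟩ ≫ τ V hV D hD hb = Multiequalizer.ι (index F τ) ⟨D, hD⟩ :=
      (Multiequalizer.condition (index F τ) ⟨⟨V, hV⟩, ⟨⟨D, hD⟩, hb⟩⟩).trans (Category.comp_id _)
    exact congrArg (fun φ : multiequalizer (index F τ) ⟶ F D hD => φ.app W ℓ) h3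
  have hrel : ∀ (ℓ : Γ(multiequalizer (index F τ), W)) (V : S.Opens) (hV : IsAffineOpen V),
      Rel p F τ U hU W ((Multiequalizer.ι (index F τ) ⟨U, hU⟩).app W ℓ) V hV
        ((Multiequalizer.ι (index F τ) ⟨V, hV⟩).app W ℓ) := by
    intro ℓ V hV D hD bU bV
    rw [tau_res hV hD bV, tau_res hU hD bU, hcond V hV D hD bV ℓ, hcond U hU D hD bU ℓ]
  constructor
  · intro ℓ ℓ' hℓ
    apply multieq_sections_ext
    rintro ⟨V, hV⟩
    refine rel_unique h0 h1 U hU W hW _ V hV _ _ (hrel ℓ V hV) ?_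
    have := hrel ℓ' V hV
    rw [← hℓ] at this
    exact this
  · intro t
    choose sV hsV using fun (a : {U : S.Opens // IsAffineOpen U}) => rel_exists h0 h1 h2 U hU W hW t a.1 a.2
    obtain ⟨ℓ, hℓ⟩ := multieq_sections_exists (index F τ) W sV (by
      rintro ⟨⟨V, hV⟩, ⟨⟨D, hD⟩, hb⟩⟩
      change (τ V hV D hD hb).app W (sV ⟨V, hV⟩) = sV ⟨D, hD⟩
      exact rel_unique h0 h1 U hU W hW t D hD _ _ (rel_tau h2 U hU W t V hV _ (hsV ⟨V, hV⟩) D hD hb)
        (hsV ⟨D, hD⟩))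
    refine ⟨ℓ, (hℓ ⟨U, hU⟩).trans ?_⟩
    exact rel_unique h0 h1 U hU W hW t U hU _ _ (hsV ⟨U, hU⟩) (rel_self U hU W t)

end glue

end Groth.Agent.Lib.Helper2.RelObjGlue
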