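import Mathlib
import Groth.Agent.Lib.Helper2RelObjGlue

/-!
# Gluing modules along an abstract system of charts (helper18)

Generalisation of `Helper2.RelObjGlue.exists_glue` (helper2): the index set is an arbitrary type of
"charts" `c`, each with a support `O c`, and a transitive relation `Basic c d` ("`d` refines `c`").
-/

set_option autoImplicit false
universe u
open CategoryTheory Limits AlgebraicGeometry TopologicalSpace Opposite

namespace Groth.Agent.Helper18CG

open Groth.Agent.Lib.Helper6 Groth.Agent.Lib.Helper2.RelTildeQCoh Groth.Agent.Lib.Helper2.IsGenCover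
open Groth.Agent.Lib.Helper2.RelObjGlue

section glue

variable {P : Scheme.{u}} {ι : Type u} (O : ι → P.Opens) (Basic : ι → ι → Prop)
  (F : ι → P.Modules)
  (τ : ∀ c d, Basic c d → (F c ⟶ F d))
  (hle : ∀ c d, Basic c d → O d ≤ O c)
  (htrans : ∀ c d e, Basic c d → Basic d e → Basic c e)
  (hinter : ∀ c d (x : P), x ∈ O c → x ∈ O d → ∃ e, x ∈ O e ∧ Basic c e ∧ Basic d e)
  (h0 : ∀ c (W : P.Opens), Function.Bijective (res (F c) (inf_le_left : W ⊓ O c ≤ W)))
  (h1 : ∀ c d (hb : Basic c d) (W : P.Opens), W ≤ O d → Function.Bijective ((τ c d hb).app W))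
  (h2 : ∀ c d e (hb₁ : Basic c d) (hb₂ : Basic d e) (hb₃ : Basic c e) (W : P.Opens), W ≤ O e →
    ∀ s : Γ(F c, W), (τ d e hb₂).app W ((τ c d hb₁).app W s) = (τ c e hb₃).app W s)

/-- `s`, in the chart `d`, corresponds to `t`, in the chart `c`. -/
def Rel (c : ι) (W : P.Opens) (t : Γ(F c, W)) (d : ι) (s : Γ(F d, W)) : Prop :=
  ∀ (e : ι) (bc : Basic c e) (bd : Basic d e),
    (τ d e bd).app (W ⊓ O e) (res (F d) inf_le_left s) =
      (τ c e bc).app (W ⊓ O e) (res (F c) inf_le_left t)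

variable {O Basic F τ}

theorem tau_res {c d : ι} (hb : Basic c d) {W W' : P.Opens} (h : W' ≤ W) (s : Γ(F c, W)) :
    (τ c d hb).app W' (res (F c) h s) = res (F d) h ((τ c d hb).app W s) :=
  app_map' (τ c d hb) (homOfLE h) s

theorem rel_self (c : ι) (W : P.Opens) (t : Γ(F c, W)) : Rel O Basic F τ c W t c t :=
  fun _ _ _ => rfl

include hle hinter h0 h1 in
theorem rel_unique (c : ι) (W : P.Opens) (hW : W ≤ O c) (t : Γ(F c, W)) (d : ι)
    (s s' : Γ(F d, W)) (hs : Rel O Basic F τ c W t d s) (hs' : Rel O Basic F τ c W t d s') :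
    s = s' := by
  apply (h0 d W).1
  refine (modSheaf (F d)).eq_of_locally_eq'
    (fun i : {e : ι // Basic c e ∧ Basic d e} => W ⊓ O i.1) (W ⊓ O d)
    (fun i => homOfLE (inf_le_inf_left W (hle _ _ i.2.2))) ?_ _ _ ?_
  · intro x hx
    obtain ⟨e, hxe, bc, bd⟩ := hinter c d x (hW hx.1) hx.2
    exact Opens.mem_iSup.2 ⟨⟨e, bc, bd⟩, hx.1, hxe⟩
  · rintro ⟨e, bc, bd⟩
    apply (h1 d e bd _ inf_le_right).1
    change (τ d e bd).app _ (res (F d) _ (res (F d) _ s)) =
      (τ d e bd).app _ (res (F d) _ (res (F d) _ s'))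
    rw [res_res, res_res]
    exact (hs e bc bd).trans (hs' e bc bd).symm

include htrans h2 in
theorem rel_tau (c : ι) (W : P.Opens) (t : Γ(F c, W)) (d : ι) (s : Γ(F d, W))
    (hs : Rel O Basic F τ c W t d s) (d' : ι) (b : Basic d d') :
    Rel O Basic F τ c W t d' ((τ d d' b).app W s) := by
  intro e bc bd'
  rw [← tau_res b inf_le_left s]
  have e' := h2 d d' e b bd' (htrans _ _ _ b bd') (W ⊓ O e) inf_le_right (res (F d) inf_le_left s)
  exact e'.trans (hs e bc (htrans _ _ _ b bd'))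

include hle htrans hinter h0 h1 h2 in
theorem rel_exists (c : ι) (W : P.Opens) (hW : W ≤ O c) (t : Γ(F c, W)) (d : ι) :
    ∃ s : Γ(F d, W), Rel O Basic F τ c W t d s := by
  classical
  have hex : ∀ i : {e : ι // Basic c e ∧ Basic d e},
      ∃ σ : Γ(F d, W ⊓ O i.1), (τ d i.1 i.2.2).app (W ⊓ O i.1) σ =
        (τ c i.1 i.2.1).app (W ⊓ O i.1) (res (F c) inf_le_left t) := fun i =>
    (h1 d i.1 i.2.2 _ inf_le_right).2 _
  choose σ hσ using hex
  have claimA : ∀ (i : {e : ι // Basic c e ∧ Basic d e}) (e₃ : ι)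
      (b₃ : Basic i.1 e₃) (bc₃ : Basic c e₃) (bd₃ : Basic d e₃),
      (τ d e₃ bd₃).app (W ⊓ O e₃)
          (res (F d) (inf_le_inf_left W (hle _ _ b₃)) (σ i)) =
        (τ c e₃ bc₃).app (W ⊓ O e₃) (res (F c) inf_le_left t) := by
    intro i e₃ b₃ bc₃ bd₃
    have hle' : W ⊓ O e₃ ≤ W ⊓ O i.1 := inf_le_inf_left W (hle _ _ b₃)
    have e1 := h2 d i.1 e₃ i.2.2 b₃ bd₃ (W ⊓ O e₃) inf_le_right (res (F d) hle' (σ i))
    have e2 := h2 c i.1 e₃ i.2.1 b₃ bc₃ (W ⊓ O e₃) inf_le_right (res (F c) inf_le_left t)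
    refine e1.symm.trans (Eq.trans ?_ e2)
    rw [tau_res i.2.2 hle' (σ i), hσ i, ← tau_res i.2.1 hle', res_res]
  obtain ⟨e, he⟩ := exists_section_of_cover (F d) (W ⊓ O d)
    (fun i : {e : ι // Basic c e ∧ Basic d e} => W ⊓ O i.1)
    (fun i => inf_le_inf_left W (hle _ _ i.2.2))
    (fun x hx => by
      obtain ⟨e, hxe, bc, bd⟩ := hinter c d x (hW hx.1) hx.2
      exact ⟨⟨e, bc, bd⟩, hx.1, hxe⟩) σ (by
    intro i j
    refine (modSheaf (F d)).eq_of_locally_eq'
      (fun k : {e₃ : ι // Basic i.1 e₃ ∧ Basic j.1 e₃} => W ⊓ O k.1)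
      ((W ⊓ O i.1) ⊓ (W ⊓ O j.1))
      (fun k => homOfLE (le_inf (inf_le_inf_left W (hle _ _ k.2.1))
        (inf_le_inf_left W (hle _ _ k.2.2)))) ?_ _ _ ?_
    · intro x hx
      obtain ⟨e₃, hxe₃, b₁, b₂⟩ := hinter i.1 j.1 x hx.1.2 hx.2.2
      exact Opens.mem_iSup.2 ⟨⟨e₃, b₁, b₂⟩, hx.1.1, hxe₃⟩
    · rintro ⟨e₃, b₁, b₂⟩
      have bd₃ : Basic d e₃ := htrans _ _ _ i.2.2 b₁
      have bc₃ : Basic c e₃ := htrans _ _ _ i.2.1 b₁
      apply (h1 d e₃ bd₃ _ inf_le_right).1
      change (τ d e₃ bd₃).app _ (res (F d) _ (res (F d) _ (σ i))) =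
        (τ d e₃ bd₃).app _ (res (F d) _ (res (F d) _ (σ j)))
      rw [res_res, res_res]
      exact (claimA i e₃ b₁ bc₃ bd₃).trans (claimA j e₃ b₂ bc₃ bd₃).symm)
  obtain ⟨s, hs⟩ := (h0 d W).2 e
  refine ⟨s, ?_⟩
  intro e' bc bd
  have h3 : res (F d) (inf_le_left : W ⊓ O e' ≤ W) s = σ ⟨e', bc, bd⟩ := by
    rw [← he ⟨e', bc, bd⟩, ← hs, res_res]
  rw [h3]
  exact hσ ⟨e', bc, bd⟩

/-- the multicospan shape: charts, and basic pairs. -/
def shape (Basic : ι → ι → Prop) : MulticospanShape.{u, u} where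
  L := ι
  R := {p : ι × ι // Basic p.1 p.2}
  fst b := b.1.1
  snd b := b.1.2

variable (F τ) in
/-- the multicospan index. -/
def index : MulticospanIndex (shape Basic) P.Modules where
  left c := F c
  right b := F b.1.2
  fst b := τ b.1.1 b.1.2 b.2
  snd _ := 𝟙 _

variable (O Basic F τ) in
include hle htrans hinter h0 h1 h2 in
/-- **gluing along charts**: the multiequalizer of the `F c` along the `τ`. -/
theorem exists_glue : ∃ (L : P.Modules) (lam : ∀ c, L ⟶ F c),
    (∀ c (W : P.Opens), W ≤ O c → Function.Bijective ((lam c).app W)) ∧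
    (∀ c d (hb : Basic c d), lam c ≫ τ c d hb = lam d) := by
  refine ⟨multiequalizer (index F τ), fun c => Multiequalizer.ι (index F τ) c, ?_, ?_⟩
  swap
  · intro c d hb
    have := Multiequalizer.condition (index F τ) ⟨⟨c, d⟩, hb⟩
    exact this.trans (Category.comp_id _)
  intro c W hW
  change Function.Bijective ((Multiequalizer.ι (index F τ) c).app W)
  have hcond : ∀ (d e : ι) (hb : Basic d e) (ℓ : Γ(multiequalizer (index F τ), W)),
      (τ d e hb).app W ((Multiequalizer.ι (index F τ) d).app W ℓ) =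
        (Multiequalizer.ι (index F τ) e).app W ℓ := by
    intro d e hb ℓ
    have h3 : Multiequalizer.ι (index F τ) d ≫ τ d e hb = Multiequalizer.ι (index F τ) e :=
      (Multiequalizer.condition (index F τ) ⟨⟨d, e⟩, hb⟩).trans (Category.comp_id _)
    exact congrArg (fun φ : multiequalizer (index F τ) ⟶ F e => φ.app W ℓ) h3
  have hrel : ∀ (ℓ : Γ(multiequalizer (index F τ), W)) (d : ι),
      Rel O Basic F τ c W ((Multiequalizer.ι (index F τ) c).app W ℓ) d
        ((Multiequalizer.ι (index F τ) d).app W ℓ) := by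
    intro ℓ d e bc bd
    have h1' := tau_res (τ := τ) bd (inf_le_left : W ⊓ O e ≤ W)
      ((Multiequalizer.ι (index F τ) d).app W ℓ)
    have h2' := tau_res (τ := τ) bc (inf_le_left : W ⊓ O e ≤ W)
      ((Multiequalizer.ι (index F τ) c).app W ℓ)
    refine h1'.trans ?_
    refine Eq.trans ?_ h2'.symm
    exact congrArg (res (F e) (inf_le_left : W ⊓ O e ≤ W))
      ((hcond d e bd ℓ).trans (hcond c e bc ℓ).symm)
  constructor
  · intro ℓ ℓ' hℓ
    apply multieq_sections_ext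
    intro d
    refine rel_unique hle hinter h0 h1 c W hW _ d _ _ (hrel ℓ d) ?_
    have := hrel ℓ' d
    rw [← hℓ] at this
    exact this
  · intro t
    choose sV hsV using fun (d : ι) => rel_exists hle htrans hinter h0 h1 h2 c W hW t d
    obtain ⟨ℓ, hℓ⟩ := multieq_sections_exists (index F τ) W sV (by
      rintro ⟨⟨d, e⟩, hb⟩
      change (τ d e hb).app W (sV d) = sV e
      exact rel_unique hle hinter h0 h1 c W hW t e _ _
        (rel_tau htrans h2 c W t d _ (hsV d) e hb) (hsV e))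
    refine ⟨ℓ, (hℓ c).trans ?_⟩
    exact rel_unique hle hinter h0 h1 c W hW t c _ _ (hsV c) (rel_self c W t)

end glue

end Groth.Agent.Helper18CG
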