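import Mathlib
import Groth.Agent.Lib.Helper18CG1

set_option autoImplicit false
set_option linter.style.haveILetI false
universe u
open CategoryTheory Limits AlgebraicGeometry TopologicalSpace Opposite

namespace Groth.Agent.Helper18CG

open Groth.Agent.Lib.Helper6

section locMod
variable {X : Scheme.{u}} {U : X.Opens} (hU : IsAffineOpen U) (M : ModuleCat.{u} Γ(X, U))

/-- the local model: the quasi-coherent module of `M` on `U`, pushed forward to `X`. -/
noncomputable def locMod : X.Modules :=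
  (Scheme.Modules.pushforward hU.fromSpec).obj (tilde M)

/-- the canonical map from `M` to sections of the local model. -/
noncomputable def toSec (W : X.Opens) : M →+ Γ(locMod hU M, W) :=
  (tilde.toOpen M (hU.fromSpec ⁻¹ᵁ W)).hom.toAddMonoidHom

theorem toSec_res {W W' : X.Opens} (h : W' ≤ W) (m : M) :
    res (locMod hU M) h (toSec hU M W m) = toSec hU M W' m := by
  rfl

theorem fromSpec_app_resf {W : X.Opens} (hW : W ≤ U) (b : Γ(X, U)) :
    hU.fromSpec.app W (resf hW b) =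
      (Spec Γ(X, U)).presheaf.map (homOfLE (le_top : hU.fromSpec ⁻¹ᵁ W ≤ ⊤)).op
        ((Scheme.ΓSpecIso Γ(X, U)).inv b) := by
  have h1 := hU.fromSpec.naturality (homOfLE hW).op
  have h2 := congr($h1 b)
  simp only [CommRingCat.comp_apply] at h2
  refine h2.trans ?_
  rw [hU.fromSpec_app_self]
  simp only [CommRingCat.comp_apply]
  rw [← CommRingCat.comp_apply, ← Functor.map_comp]
  rfl

theorem toSec_smul {W : X.Opens} (hW : W ≤ U) (b : Γ(X, U)) (m : M) :
    toSec hU M W (b • m) = resf hW b • toSec hU M W m := by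
  have h := (tilde.toOpen M (hU.fromSpec ⁻¹ᵁ W)).hom.map_smul b m
  refine h.trans ?_
  change ((Spec Γ(X, U)).presheaf.map (homOfLE (le_top : hU.fromSpec ⁻¹ᵁ W ≤ ⊤)).op
        ((Scheme.ΓSpecIso Γ(X, U)).inv b)) • (show Γ(tilde M, hU.fromSpec ⁻¹ᵁ W) from toSec hU M W m) =
    (hU.fromSpec.app W (resf hW b)) • (show Γ(tilde M, hU.fromSpec ⁻¹ᵁ W) from toSec hU M W m)
  rw [fromSpec_app_resf hU hW b]

end locMod
end Groth.Agent.Helper18CG

namespace Groth.Agent.Helper18CG
open Groth.Agent.Lib.Helper6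
section locMod2
variable {X : Scheme.{u}} {U : X.Opens} (hU : IsAffineOpen U) (M : ModuleCat.{u} Γ(X, U))

theorem spec_smul_eq {W : X.Opens} (hW : W ≤ U) (b : Γ(X, U)) (x : Γ(locMod hU M, W)) :
    (b • (show Γ(tilde M, hU.fromSpec ⁻¹ᵁ W) from x) : Γ(tilde M, hU.fromSpec ⁻¹ᵁ W)) =
      resf hW b • x := by
  change ((Spec Γ(X, U)).presheaf.map (homOfLE (le_top : hU.fromSpec ⁻¹ᵁ W ≤ ⊤)).op
        ((Scheme.ΓSpecIso Γ(X, U)).inv b)) • (show Γ(tilde M, hU.fromSpec ⁻¹ᵁ W) from x) =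
    (hU.fromSpec.app W (resf hW b)) • (show Γ(tilde M, hU.fromSpec ⁻¹ᵁ W) from x)
  rw [fromSpec_app_resf hU hW b]

theorem isLocalizedModule_toOpen (a : Γ(X, U)) (O : (Spec Γ(X, U)).Opens)
    (hO : O = PrimeSpectrum.basicOpen a) :
    IsLocalizedModule (.powers a) (tilde.toOpen M O).hom := by
  subst hO
  infer_instance

theorem toSec_surj (a : Γ(X, U)) {W : X.Opens} (hW : W = X.basicOpen a)
    (x : Γ(locMod hU M, W)) :
    ∃ (n : ℕ) (m : M), resf (hW.le.trans (X.basicOpen_le a)) a ^ n • x = toSec hU M W m := by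
  have hO : hU.fromSpec ⁻¹ᵁ W = PrimeSpectrum.basicOpen a := by
    rw [hW, hU.fromSpec_preimage_basicOpen]
  haveI := isLocalizedModule_toOpen M a _ hO
  obtain ⟨⟨m, ⟨_, n, rfl⟩⟩, h⟩ := IsLocalizedModule.surj (.powers a)
    (tilde.toOpen M (hU.fromSpec ⁻¹ᵁ W)).hom (show Γ(tilde M, hU.fromSpec ⁻¹ᵁ W) from x)
  refine ⟨n, m, ?_⟩
  rw [← resf_pow, ← spec_smul_eq hU M _ (a ^ n) x]
  exact h

theorem toSec_eq_zero (a : Γ(X, U)) {W : X.Opens} (hW : W = X.basicOpen a) (m : M)
    (h : toSec hU M W m = 0) : ∃ n : ℕ, a ^ n • m = 0 := by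
  have hO : hU.fromSpec ⁻¹ᵁ W = PrimeSpectrum.basicOpen a := by
    rw [hW, hU.fromSpec_preimage_basicOpen]
  haveI := isLocalizedModule_toOpen M a _ hO
  have h' : (tilde.toOpen M (hU.fromSpec ⁻¹ᵁ W)).hom m = (tilde.toOpen M (hU.fromSpec ⁻¹ᵁ W)).hom 0 := by
    rw [map_zero]; exact h
  obtain ⟨⟨_, n, rfl⟩, hc⟩ := IsLocalizedModule.exists_of_eq (S := .powers a) h'
  refine ⟨n, ?_⟩
  rw [smul_zero] at hc
  exact hc

end locMod2
end Groth.Agent.Helper18CG

namespace Groth.Agent.Helper18CG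
open Groth.Agent.Lib.Helper6
section locMod3
variable {X : Scheme.{u}} {U : X.Opens} (hU : IsAffineOpen U) (M : ModuleCat.{u} Γ(X, U))

theorem res_bijective_of_eq {Y : Scheme.{u}} (N : Y.Modules) {A B : Y.Opens} (h : B ≤ A)
    (h' : A = B) : Function.Bijective (res N h) := by
  subst h'
  have : (res N h : Γ(N, A) → Γ(N, A)) = id := by
    funext s
    have h0 : (homOfLE h).op = 𝟙 (op A) := rfl
    simp only [res]
    rw [h0, N.presheaf.map_id]
    rfl
  rw [this]
  exact Function.bijective_id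

theorem locMod_h0 (W : X.Opens) :
    Function.Bijective (res (locMod hU M) (inf_le_left : W ⊓ U ≤ W)) := by
  have h1 : hU.fromSpec ⁻¹ᵁ W = hU.fromSpec ⁻¹ᵁ (W ⊓ U) := by
    ext x
    constructor
    · intro hx
      have hxU : hU.fromSpec x ∈ hU.fromSpec.opensRange := ⟨x, rfl⟩
      rw [hU.opensRange_fromSpec] at hxU
      exact ⟨hx, hxU⟩
    · intro hx
      exact hx.1
  exact res_bijective_of_eq (tilde M) (hU.fromSpec.preimage_mono inf_le_left) h1

theorem toOpen_bijective_of_eq_top (O : (Spec Γ(X, U)).Opens) (hO : O = ⊤) :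
    Function.Bijective (tilde.toOpen M O).hom := by
  subst hO
  exact (ConcreteCategory.isIso_iff_bijective (tilde.toOpen M ⊤)).mp inferInstance

theorem toSec_bijective : Function.Bijective (toSec hU M U) :=
  toOpen_bijective_of_eq_top M _ hU.fromSpec_preimage_self

end locMod3
end Groth.Agent.Helper18CG
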