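import Mathlib
import Groth.Agent.Lib.Helper18CG2

set_option autoImplicit false
set_option linter.style.haveILetI false
universe u
open CategoryTheory Limits AlgebraicGeometry TopologicalSpace Opposite

namespace Groth.Agent.Helper18CG

open Groth.Agent.Lib.Helper6

section locHom
variable {X : Scheme.{u}} {U U' : X.Opens} (hU : IsAffineOpen U) (hU' : IsAffineOpen U')
  (hle : U' ≤ U) (M : ModuleCat.{u} Γ(X, U)) (M' : ModuleCat.{u} Γ(X, U'))
  (ρ : M →+ M') (hρ : ∀ (b : Γ(X, U)) (m : M), ρ (b • m) = resf hle b • ρ m)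

/-- the map of spectra. -/
noncomputable abbrev rSpec : Spec Γ(X, U') ⟶ Spec Γ(X, U) :=
  Spec.map (X.presheaf.map (homOfLE hle).op)

theorem rSpec_fromSpec : rSpec hle ≫ hU.fromSpec = hU'.fromSpec :=
  hU.map_fromSpec hU' (homOfLE hle).op

theorem rSpec_app_top (b : Γ(X, U)) :
    (rSpec hle).app ⊤ ((Scheme.ΓSpecIso Γ(X, U)).inv b) =
      (Scheme.ΓSpecIso Γ(X, U')).inv (resf hle b) := by
  have h := Scheme.ΓSpecIso_inv_naturality (X.presheaf.map (homOfLE hle).op)
  exact (congr($h b)).symm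

theorem presheaf_map_top_self {Y : Scheme.{u}} {O : Y.Opens} (h : O ≤ O) (x : Γ(Y, O)) :
    Y.presheaf.map (homOfLE h).op x = x := by
  have h0 : (homOfLE h).op = 𝟙 (op O) := rfl
  rw [h0, Y.presheaf.map_id]
  rfl

theorem smul_push_eq (b : Γ(X, U)) (x : Γ(tilde M', (rSpec hle) ⁻¹ᵁ ⊤)) :
    (resf hle b • x : Γ(tilde M', (rSpec hle) ⁻¹ᵁ ⊤)) =
      (b • (show Γ((Scheme.Modules.pushforward (rSpec hle)).obj (tilde M'), ⊤) from x) :
        Γ((Scheme.Modules.pushforward (rSpec hle)).obj (tilde M'), ⊤)) := by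
  change ((Spec Γ(X, U')).presheaf.map (homOfLE (le_top : (rSpec hle) ⁻¹ᵁ ⊤ ≤ ⊤)).op
      ((Scheme.ΓSpecIso Γ(X, U')).inv (resf hle b))) • x =
    ((rSpec hle).app ⊤ ((Spec Γ(X, U)).presheaf.map
      (homOfLE (le_top : (⊤ : (Spec Γ(X, U)).Opens) ≤ ⊤)).op
      ((Scheme.ΓSpecIso Γ(X, U)).inv b))) • x
  rw [presheaf_map_top_self, rSpec_app_top]
  congr 1

include hρ in
/-- the linear map into global sections. -/
noncomputable def gLin : M →ₗ[Γ(X, U)]
    Γ((Scheme.Modules.pushforward (rSpec hle)).obj (tilde M'), ⊤) :=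
  { toFun := fun m => (tilde.toOpen M' ((rSpec hle) ⁻¹ᵁ ⊤)).hom (ρ m)
    map_add' := fun m m' => by rw [map_add]; exact map_add (tilde.toOpen M' _).hom _ _
    map_smul' := fun b m => by
      rw [hρ, map_smul]
      exact smul_push_eq hle M' b _ }

example : ModuleCat.of Γ(X, U) Γ((Scheme.Modules.pushforward (rSpec hle)).obj (tilde M'), ⊤) =
    moduleSpecΓFunctor.obj ((Scheme.Modules.pushforward (rSpec hle)).obj (tilde M')) := rfl

/-- the module map into global sections. -/
noncomputable def gMap : M ⟶ moduleSpecΓFunctor.obj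
    ((Scheme.Modules.pushforward (rSpec hle)).obj (tilde M')) :=
  show M ⟶ ModuleCat.of Γ(X, U) Γ((Scheme.Modules.pushforward (rSpec hle)).obj (tilde M'), ⊤) from
  ModuleCat.ofHom (gLin hle M M' ρ hρ)

/-- the morphism of quasi-coherent modules on `Spec Γ(X, U)`. -/
noncomputable def thetaHom : tilde M ⟶ (Scheme.Modules.pushforward (rSpec hle)).obj (tilde M') :=
  (tilde.adjunction.homEquiv M _).symm (gMap hle M M' ρ hρ)

theorem modulesSpecToSheaf_map_app {R : CommRingCat.{u}} {A B : (Spec R).Modules} (φ : A ⟶ B)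
    (O : (Spec R).Opens) (x : Γ(A, O)) :
    ((modulesSpecToSheaf.map φ).1.app (op O)).hom x = φ.app O x := rfl

theorem thetaHom_app_toOpen (O : (Spec Γ(X, U)).Opens) (m : M) :
    (thetaHom hle M M' ρ hρ).app O ((tilde.toOpen M O).hom m) =
      (tilde.toOpen M' ((rSpec hle) ⁻¹ᵁ O)).hom (ρ m) := by
  have h0 : thetaHom hle M M' ρ hρ = tilde.map (gMap hle M M' ρ hρ) ≫
      Scheme.Modules.fromTildeΓ ((Scheme.Modules.pushforward (rSpec hle)).obj (tilde M')) := by
    unfold thetaHom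
    rw [Adjunction.homEquiv_counit]
    rfl
  rw [h0]
  have h1 := tilde.toOpen_map_app (gMap hle M M' ρ hρ) O
  have h1' : (tilde.map (gMap hle M M' ρ hρ)).app O ((tilde.toOpen M O).hom m) =
      (tilde.toOpen _ O).hom ((gMap hle M M' ρ hρ).hom m) := congr($h1 m)
  have h2 := Scheme.Modules.toOpen_fromTildeΓ_app
    ((Scheme.Modules.pushforward (rSpec hle)).obj (tilde M')) O
  have h2' : (Scheme.Modules.fromTildeΓ
      ((Scheme.Modules.pushforward (rSpec hle)).obj (tilde M'))).app O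
        ((tilde.toOpen _ O).hom ((gMap hle M M' ρ hρ).hom m)) =
      ((Scheme.Modules.pushforward (rSpec hle)).obj (tilde M')).presheaf.map
        (homOfLE (le_top : O ≤ ⊤)).op ((gMap hle M M' ρ hρ).hom m) :=
    congr($h2 ((gMap hle M M' ρ hρ).hom m))
  change (Scheme.Modules.fromTildeΓ
      ((Scheme.Modules.pushforward (rSpec hle)).obj (tilde M'))).app O
        ((tilde.map (gMap hle M M' ρ hρ)).app O ((tilde.toOpen M O).hom m)) = _
  refine Eq.trans (congrArg ((Scheme.Modules.fromTildeΓ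
      ((Scheme.Modules.pushforward (rSpec hle)).obj (tilde M'))).app O) h1') ?_
  refine Eq.trans h2' ?_
  rfl

/-- the morphism of local models induced by a semilinear map. -/
noncomputable def locHom : locMod hU M ⟶ locMod hU' M' :=
  (Scheme.Modules.pushforward hU.fromSpec).map (thetaHom hle M M' ρ hρ) ≫
    (Scheme.Modules.pushforwardComp (rSpec hle) hU.fromSpec).hom.app (tilde M') ≫
    (Scheme.Modules.pushforwardCongr (rSpec_fromSpec hU hU' hle)).hom.app (tilde M')

theorem locHom_toSec (W : X.Opens) (m : M) :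
    (locHom hU hU' hle M M' ρ hρ).app W (toSec hU M W m) = toSec hU' M' W (ρ m) := by
  have h := thetaHom_app_toOpen hle M M' ρ hρ (hU.fromSpec ⁻¹ᵁ W) m
  change ((Scheme.Modules.pushforwardCongr (rSpec_fromSpec hU hU' hle)).hom.app (tilde M')).app W
    ((thetaHom hle M M' ρ hρ).app (hU.fromSpec ⁻¹ᵁ W)
      ((tilde.toOpen M (hU.fromSpec ⁻¹ᵁ W)).hom m)) = _
  rw [h]
  rfl

end locHom
end Groth.Agent.Helper18CG
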