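import Mathlib
import Groth.Agent.Lib.Helper18CG3

set_option autoImplicit false
set_option linter.style.haveILetI false
universe u
open CategoryTheory Limits AlgebraicGeometry TopologicalSpace Opposite

namespace Groth.Agent.Helper18CG

open Groth.Agent.Lib.Helper6 Groth.Agent.Lib.Helper2.RelTildeQCoh Groth.Agent.Lib.Helper2.IsGenCover

section basis
variable {X : Scheme.{u}} {F G : X.Modules} (O : X.Opens) (ℬ : Set X.Opens)
  (hℬ : ∀ W : X.Opens, W ≤ O → ∀ x ∈ W, ∃ B ∈ ℬ, x ∈ B ∧ B ≤ W)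

theorem app_res (φ : F ⟶ G) {W W' : X.Opens} (h : W' ≤ W) (s : Γ(F, W)) :
    φ.app W' (res F h s) = res G h (φ.app W s) := app_map' φ (homOfLE h) s

include hℬ in
theorem section_ext_le (W : X.Opens) (hW : W ≤ O) (s t : Γ(G, W))
    (h : ∀ B ∈ ℬ, ∀ hB : B ≤ W, res G hB s = res G hB t) : s = t := by
  refine (modSheaf G).eq_of_locally_eq' (fun i : {B : X.Opens // B ∈ ℬ ∧ B ≤ W} => i.1) W
    (fun i => homOfLE i.2.2) ?_ s t (fun i => h i.1 i.2.1 i.2.2)
  intro x hx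
  obtain ⟨B, hB, hxB, hBW⟩ := hℬ W hW x hx
  exact Opens.mem_iSup.2 ⟨⟨B, hB, hBW⟩, hxB⟩

include hℬ in
theorem eq_on_le_of_eq_on_basis (φ ψ : F ⟶ G)
    (h : ∀ B ∈ ℬ, ∀ s : Γ(F, B), φ.app B s = ψ.app B s) (W : X.Opens) (hW : W ≤ O)
    (s : Γ(F, W)) : φ.app W s = ψ.app W s := by
  refine section_ext_le O ℬ hℬ W hW _ _ fun B hB hBW => ?_
  rw [← app_res φ hBW s, ← app_res ψ hBW s]
  exact h B hB _

include hℬ in
theorem bijective_on_le_of_bijective_on_basis (φ : F ⟶ G)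
    (h : ∀ B ∈ ℬ, Function.Bijective (φ.app B)) (W : X.Opens) (hW : W ≤ O) :
    Function.Bijective (φ.app W) := by
  constructor
  · intro s t hst
    refine section_ext_le O ℬ hℬ W hW _ _ fun B hB hBW => ?_
    apply (h B hB).1
    rw [app_res φ hBW s, app_res φ hBW t, hst]
  · intro t
    have hex : ∀ i : {B : X.Opens // B ∈ ℬ ∧ B ≤ W}, ∃ σ : Γ(F, i.1), φ.app i.1 σ = res G i.2.2 t :=
      fun i => (h i.1 i.2.1).2 _
    choose σ hσ using hex
    obtain ⟨s, hs⟩ := exists_section_of_cover F W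
      (fun i : {B : X.Opens // B ∈ ℬ ∧ B ≤ W} => i.1) (fun i => i.2.2)
      (fun x hx => by
        obtain ⟨B, hB, hxB, hBW⟩ := hℬ W hW x hx
        exact ⟨⟨B, hB, hBW⟩, hxB⟩) σ (by
      intro i j
      have hij : i.1 ⊓ j.1 ≤ O := inf_le_left.trans (i.2.2.trans hW)
      refine section_ext_le O ℬ hℬ (i.1 ⊓ j.1) hij _ _ fun B hB hBW => ?_
      apply (h B hB).1
      rw [res_res, res_res, app_res φ (hBW.trans inf_le_left) (σ i),
        app_res φ (hBW.trans inf_le_right) (σ j), hσ i, hσ j, res_res, res_res])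
    refine ⟨s, ?_⟩
    refine section_ext_le O ℬ hℬ W hW _ _ fun B hB hBW => ?_
    rw [← app_res φ hBW s]
    have := hs ⟨B, hB, hBW⟩
    change res F hBW s = σ ⟨B, hB, hBW⟩ at this
    rw [this]
    exact hσ ⟨B, hB, hBW⟩

end basis
end Groth.Agent.Helper18CG
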