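import Mathlib
import Groth.Agent.Lib.Helper18CG3

set_option autoImplicit false
set_option linter.style.haveILetI false
universe u
open CategoryTheory Limits AlgebraicGeometry TopologicalSpace Opposite

namespace Groth.Agent.Helper18CG

open Groth.Agent.Lib.Helper6

section units
variable {X : Scheme.{u}}

theorem isUnit_resf_basicOpen {U : X.Opens} (a : Γ(X, U)) {B : X.Opens} (hB : B ≤ X.basicOpen a) :
    IsUnit (resf (hB.trans (X.basicOpen_le a)) a) := by
  have h1 : IsUnit (resf (X.basicOpen_le a) a) := X.toRingedSpace.isUnit_res_basicOpen a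
  have h2 : resf (hB.trans (X.basicOpen_le a)) a = resf hB (resf (X.basicOpen_le a) a) := by
    rw [resf_resf]
  rw [h2]
  exact h1.map (X.presheaf.map (homOfLE hB).op).hom

end units

section ext
variable {X : Scheme.{u}} {U : X.Opens} (hU : IsAffineOpen U) (M : ModuleCat.{u} Γ(X, U))

theorem locMod_hom_ext_basic {G : X.Modules} (φ ψ : locMod hU M ⟶ G) (a : Γ(X, U)) {B : X.Opens}
    (hB : B = X.basicOpen a)
    (h : ∀ m : M, φ.app B (toSec hU M B m) = ψ.app B (toSec hU M B m))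
    (x : Γ(locMod hU M, B)) : φ.app B x = ψ.app B x := by
  obtain ⟨n, m, hnm⟩ := toSec_surj hU M a hB x
  have hu : IsUnit (resf (hB.le.trans (X.basicOpen_le a)) a ^ n) :=
    (isUnit_resf_basicOpen a hB.le).pow n
  have h1 := h m
  rw [← hnm, Scheme.Modules.Hom.app_smul, Scheme.Modules.Hom.app_smul] at h1
  exact (hu.smul_left_cancel).mp h1

end ext

section bij
variable {X : Scheme.{u}} {U U' : X.Opens} (hU : IsAffineOpen U) (hU' : IsAffineOpen U')
  (hle : U' ≤ U) (M : ModuleCat.{u} Γ(X, U)) (M' : ModuleCat.{u} Γ(X, U'))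
  (ρ : M →+ M') (hρ : ∀ (b : Γ(X, U)) (m : M), ρ (b • m) = resf hle b • ρ m)
  (g : Γ(X, U)) (hg : U' = X.basicOpen g)
  (hsurj : ∀ m' : M', ∃ (n : ℕ) (m : M), resf hle g ^ n • m' = ρ m)
  (hinj : ∀ m : M, ρ m = 0 → ∃ n : ℕ, g ^ n • m = 0)

include hρ in
theorem rho_pow_smul (b : Γ(X, U)) (k : ℕ) (m : M) : ρ (b ^ k • m) = resf hle b ^ k • ρ m := by
  rw [hρ, resf_pow]

theorem toSec_pow_smul {W : X.Opens} (hW : W ≤ U) (b : Γ(X, U)) (k : ℕ) (m : M) :
    toSec hU M W (b ^ k • m) = resf hW b ^ k • toSec hU M W m := by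
  rw [toSec_smul hU M hW, resf_pow]

include hg hsurj hinj in
theorem locHom_app_bijective_basic (a : Γ(X, U)) {B : X.Opens} (hB : B = X.basicOpen a)
    (hBU' : B ≤ U') : Function.Bijective ((locHom hU hU' hle M M' ρ hρ).app B) := by
  have hBU : B ≤ U := hBU'.trans hle
  have hB' : B = X.basicOpen (resf hle a) := by
    rw [resf, Scheme.basicOpen_res, ← hB]
    exact (inf_eq_right.mpr hBU').symm
  have hua : IsUnit (resf hBU a) := isUnit_resf_basicOpen a hB.le
  have hug : IsUnit (resf hBU g) := isUnit_resf_basicOpen g (hBU'.trans hg.le)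
  have haa : resf hBU' (resf hle a) = resf hBU a := resf_resf _ _ _
  have hgg : resf hBU' (resf hle g) = resf hBU g := resf_resf _ _ _
  constructor
  · refine (injective_iff_map_eq_zero ((locHom hU hU' hle M M' ρ hρ).app B).hom).mpr ?_
    intro x hx
    obtain ⟨n, m, hnm⟩ := toSec_surj hU M a hB x
    have h1 : toSec hU' M' B (ρ m) = 0 := by
      rw [← locHom_toSec hU hU' hle M M' ρ hρ B m, ← hnm]
      refine (Scheme.Modules.Hom.app_smul _ _ _).trans ?_
      change _ • ((locHom hU hU' hle M M' ρ hρ).app B).hom x = 0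
      rw [hx, smul_zero]
    obtain ⟨k, hk⟩ := toSec_eq_zero hU' M' (resf hle a) hB' (ρ m) h1
    have h2 : ρ (a ^ k • m) = 0 := by rw [rho_pow_smul hle M M' ρ hρ, hk]
    obtain ⟨j, hj⟩ := hinj _ h2
    have h3 : toSec hU M B (g ^ j • a ^ k • m) = 0 := by rw [hj, map_zero]
    rw [toSec_pow_smul hU M hBU, toSec_pow_smul hU M hBU, ← hnm] at h3
    have h4 := ((hug.pow j).smul_eq_zero).mp h3
    have h5 := ((hua.pow k).smul_eq_zero).mp h4
    exact ((hua.pow n).smul_eq_zero).mp h5
  · intro y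
    obtain ⟨k, m', hkm⟩ := toSec_surj hU' M' (resf hle a) hB' y
    obtain ⟨l, m, hlm⟩ := hsurj m'
    have h1 : (locHom hU hU' hle M M' ρ hρ).app B (toSec hU M B m) =
        resf hBU g ^ l • resf hBU a ^ k • y := by
      rw [locHom_toSec, ← hlm, toSec_pow_smul hU' M' hBU', ← hkm, hgg, haa]
    obtain ⟨v, hv⟩ := ((hug.pow l).mul (hua.pow k)).exists_left_inv
    refine ⟨v • toSec hU M B m, ?_⟩
    refine (Scheme.Modules.Hom.app_smul _ _ _).trans ?_
    rw [h1, smul_smul, smul_smul, mul_assoc, hv, one_smul]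

end bij
end Groth.Agent.Helper18CG
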