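import Mathlib
import Groth.Agent.Lib.Helper18CG4
import Groth.Agent.Lib.Helper18CG5

set_option autoImplicit false
set_option linter.style.haveILetI false
universe u
open CategoryTheory Limits AlgebraicGeometry TopologicalSpace Opposite

namespace Groth.Agent.Helper18CG

open Groth.Agent.Lib.Helper6

/-- a system of charts with modules, to be glued to a module on `X`. -/
structure ChartSys (X : Scheme.{u}) where
  ι : Type u
  U : ι → X.Opens
  hU : ∀ c, IsAffineOpen (U c)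
  M : ∀ c, ModuleCat.{u} Γ(X, U c)
  Basic : ι → ι → Prop
  le : ∀ {c d}, Basic c d → U d ≤ U c
  ρ : ∀ {c d}, Basic c d → (M c →+ M d)
  ρ_smul : ∀ {c d} (h : Basic c d) (b : Γ(X, U c)) (m : M c),
    ρ h (b • m) = resf (le h) b • ρ h m
  trans : ∀ {c d e}, Basic c d → Basic d e → Basic c e
  ρ_comp : ∀ {c d e} (h₁ : Basic c d) (h₂ : Basic d e) (h₃ : Basic c e) (m : M c),
    ρ h₂ (ρ h₁ m) = ρ h₃ m
  inter : ∀ c d (x : X), x ∈ U c → x ∈ U d → ∃ e, x ∈ U e ∧ Basic c e ∧ Basic d e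
  loc : ∀ {c d} (h : Basic c d), ∃ g : Γ(X, U c), U d = X.basicOpen g ∧
    (∀ m' : M d, ∃ (n : ℕ) (m : M c), resf (le h) g ^ n • m' = ρ h m) ∧
    (∀ m : M c, ρ h m = 0 → ∃ n : ℕ, g ^ n • m = 0)

namespace ChartSys
variable {X : Scheme.{u}} (S : ChartSys X)

/-- local models. -/
noncomputable def F (c : S.ι) : X.Modules := locMod (S.hU c) (S.M c)

/-- transition maps. -/
noncomputable def τ (c d : S.ι) (h : S.Basic c d) : S.F c ⟶ S.F d :=
  locHom (S.hU c) (S.hU d) (S.le h) (S.M c) (S.M d) (S.ρ h) (S.ρ_smul h)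

theorem basis_basic (c : S.ι) (O : X.Opens) (hO : O ≤ S.U c) :
    ∀ W : X.Opens, W ≤ O → ∀ x ∈ W,
      ∃ B ∈ {B : X.Opens | ∃ a : Γ(X, S.U c), B = X.basicOpen a ∧ B ≤ O}, x ∈ B ∧ B ≤ W := by
  intro W hW x hx
  obtain ⟨a, ha, hxa⟩ := (S.hU c).exists_basicOpen_le (V := W) ⟨x, hx⟩ (hO (hW hx))
  exact ⟨X.basicOpen a, ⟨a, rfl, ha.trans hW⟩, hxa, ha⟩

theorem τ_bijective (c d : S.ι) (h : S.Basic c d) (W : X.Opens) (hW : W ≤ S.U d) :
    Function.Bijective ((S.τ c d h).app W) := by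
  obtain ⟨g, hg, hsurj, hinj⟩ := S.loc h
  refine bijective_on_le_of_bijective_on_basis (S.U d) _ (S.basis_basic c (S.U d) (S.le h))
    (S.τ c d h) ?_ W hW
  rintro B ⟨a, hB, hBd⟩
  exact locHom_app_bijective_basic (S.hU c) (S.hU d) (S.le h) (S.M c) (S.M d) (S.ρ h)
    (S.ρ_smul h) g hg hsurj hinj a hB hBd

theorem τ_comp (c d e : S.ι) (h₁ : S.Basic c d) (h₂ : S.Basic d e) (h₃ : S.Basic c e)
    (W : X.Opens) (hW : W ≤ S.U e) (s : Γ(S.F c, W)) :
    (S.τ d e h₂).app W ((S.τ c d h₁).app W s) = (S.τ c e h₃).app W s := by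
  have key := eq_on_le_of_eq_on_basis (S.U e) _ (S.basis_basic c (S.U e) (S.le h₃))
    (S.τ c d h₁ ≫ S.τ d e h₂) (S.τ c e h₃) ?_ W hW s
  · exact key
  rintro B ⟨a, hB, hBe⟩ x
  refine locMod_hom_ext_basic (S.hU c) (S.M c) _ _ a hB ?_ x
  intro m
  have e1 : (S.τ c d h₁).app B (toSec (S.hU c) (S.M c) B m) =
      toSec (S.hU d) (S.M d) B (S.ρ h₁ m) := locHom_toSec _ _ _ _ _ _ _ _ _
  have e2 : (S.τ d e h₂).app B (toSec (S.hU d) (S.M d) B (S.ρ h₁ m)) =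
      toSec (S.hU e) (S.M e) B (S.ρ h₂ (S.ρ h₁ m)) := locHom_toSec _ _ _ _ _ _ _ _ _
  have e3 : (S.τ c e h₃).app B (toSec (S.hU c) (S.M c) B m) =
      toSec (S.hU e) (S.M e) B (S.ρ h₃ m) := locHom_toSec _ _ _ _ _ _ _ _ _
  change (S.τ d e h₂).app B ((S.τ c d h₁).app B (toSec (S.hU c) (S.M c) B m)) = _
  rw [e1, e2]
  refine Eq.trans ?_ e3.symm
  rw [S.ρ_comp h₁ h₂ h₃]

/-- **gluing**: a chart system defines a module on `X`. -/
theorem exists_module : ∃ (L : X.Modules) (iso : ∀ c, Γ(L, S.U c) ≃+ S.M c),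
    (∀ c (a : Γ(X, S.U c)) (s : Γ(L, S.U c)), iso c (a • s) = a • iso c s) ∧
    (∀ c d (h : S.Basic c d) (s : Γ(L, S.U c)),
      iso d (res L (S.le h) s) = S.ρ h (iso c s)) := by
  obtain ⟨L, lam, hbij, hcomp⟩ := exists_glue S.U S.Basic S.F S.τ (fun c d h => S.le h)
    (fun c d e h₁ h₂ => S.trans h₁ h₂) S.inter (fun c W => locMod_h0 (S.hU c) (S.M c) W)
    S.τ_bijective S.τ_comp
  let e₁ : ∀ c, Γ(L, S.U c) ≃+ Γ(S.F c, S.U c) := fun c =>
    AddEquiv.ofBijective ((lam c).app (S.U c)).hom (hbij c (S.U c) le_rfl)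
  let e₂ : ∀ c, S.M c ≃+ Γ(S.F c, S.U c) := fun c =>
    AddEquiv.ofBijective (toSec (S.hU c) (S.M c) (S.U c)) (toSec_bijective (S.hU c) (S.M c))
  have he₁ : ∀ c (s : Γ(L, S.U c)), e₁ c s = (lam c).app (S.U c) s := fun c s => rfl
  have he₂ : ∀ c (m : S.M c), e₂ c m = toSec (S.hU c) (S.M c) (S.U c) m := fun c m => rfl
  refine ⟨L, fun c => (e₁ c).trans (e₂ c).symm, ?_, ?_⟩
  · intro c a s
    change (e₂ c).symm (e₁ c (a • s)) = a • (e₂ c).symm (e₁ c s)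
    apply (e₂ c).injective
    have hra : resf (le_refl (S.U c)) a = a := presheaf_map_top_self _ a
    rw [AddEquiv.apply_symm_apply, he₁, he₂, toSec_smul (S.hU c) (S.M c) le_rfl,
      hra, ← he₂, AddEquiv.apply_symm_apply, he₁]
    exact Scheme.Modules.Hom.app_smul _ _ _
  · intro c d h s
    change (e₂ d).symm (e₁ d (res L (S.le h) s)) = S.ρ h ((e₂ c).symm (e₁ c s))
    apply (e₂ d).injective
    rw [AddEquiv.apply_symm_apply, he₁, he₂]
    obtain ⟨m, hm⟩ := (e₂ c).surjective (e₁ c s)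
    rw [← hm, AddEquiv.symm_apply_apply]
    have h1 : (lam d).app (S.U d) (res L (S.le h) s) =
        (S.τ c d h).app (S.U d) ((lam c).app (S.U d) (res L (S.le h) s)) := by
      rw [← hcomp c d h]
      rfl
    rw [h1, app_res (lam c) (S.le h) s, ← he₁, ← hm, he₂]
    exact (congrArg ((S.τ c d h).app (S.U d)) (toSec_res (S.hU c) (S.M c) (S.le h) m)).trans
      (locHom_toSec _ _ _ _ _ _ _ _ _)

end ChartSys
end Groth.Agent.Helper18CG
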