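import Mathlib

set_option autoImplicit false
set_option linter.style.haveILetI false
set_option linter.unusedSectionVars false
set_option linter.unusedVariables false
universe u
open CategoryTheory AlgebraicGeometry Limits TopologicalSpace Opposite

namespace Groth.Agent.Helper18CInt

section alg

/-- a linear map from a module spanned by `n` elements onto a free module of rank `n`, whose values on the
spanning family span, is bijective. -/
theorem bijective_of_span {C : Type*} [CommRing C] {S M : Type*} [AddCommGroup S] [Module C S]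
    [AddCommGroup M] [Module C M] (Φ : S →ₗ[C] M) {A : Type*} [Fintype A] (y : A → S)
    (hy : ⊤ ≤ Submodule.span C (Set.range y)) {n : ℕ} (b : Module.Basis (Fin n) C M)
    (hcard : Fintype.card A = n)
    (hΦy : ⊤ ≤ Submodule.span C (Set.range (fun a => Φ (y a)))) : Function.Bijective Φ := by
  classical
  let Ψ : (A → C) →ₗ[C] S := Fintype.linearCombination C y
  have hΨ : Function.Surjective Ψ := by
    rw [← LinearMap.range_eq_top, Fintype.range_linearCombination]
    exact top_le_iff.mp hy
  have hΦΨs : Function.Surjective (Φ ∘ₗ Ψ) := by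
    rw [← LinearMap.range_eq_top]
    have h1 : Φ ∘ₗ Ψ = Fintype.linearCombination C (fun a => Φ (y a)) := by
      apply LinearMap.ext
      intro c
      simp only [Ψ, LinearMap.comp_apply, Fintype.linearCombination_apply, map_sum, map_smul]
    rw [h1, Fintype.range_linearCombination]
    exact top_le_iff.mp hΦy
  haveI : Module.Finite C M := Module.Finite.of_basis b
  let e : Fin n ≃ A := (Fintype.equivFinOfCardEq hcard).symm
  let ι : (A → C) ≃ₗ[C] M := (LinearEquiv.funCongrLeft C C e).trans b.equivFun.symm
  have hinj : Function.Injective (Φ ∘ₗ Ψ) :=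
    OrzechProperty.injective_of_surjective_of_injective ι.toLinearMap (Φ ∘ₗ Ψ) ι.injective hΦΨs
  refine ⟨?_, fun m => ?_⟩
  · intro s s' hss'
    obtain ⟨c, rfl⟩ := hΨ s
    obtain ⟨c', rfl⟩ := hΨ s'
    have : c = c' := hinj hss'
    rw [this]
  · obtain ⟨c, hc⟩ := hΦΨs m
    exact ⟨Ψ c, hc⟩

end alg

section sheaf
variable {X : Scheme.{u}}

/-- sections of a morphism of modules, as a linear map. -/
noncomputable def appLin {M N : X.Modules} (θ : M ⟶ N) (V : X.Opens) :
    Γ(M, V) →ₗ[Γ(X, V)] Γ(N, V) where
  toFun := θ.app V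
  map_add' := map_add _
  map_smul' := fun r x => Scheme.Modules.Hom.app_smul θ r x

theorem appLin_apply {M N : X.Modules} (θ : M ⟶ N) (V : X.Opens) (x : Γ(M, V)) :
    appLin θ V x = θ.app V x := rfl

theorem sum_app_apply {M N : X.Modules} {β : Type*} (s : Finset β) (F : β → (M ⟶ N))
    (U : X.Opens) (x : Γ(M, U)) :
    (∑ b ∈ s, F b).app U x = ∑ b ∈ s, (F b).app U x := by
  classical
  induction s using Finset.induction_on with
  | empty =>
    rw [Finset.sum_empty, Finset.sum_empty, Scheme.Modules.Hom.zero_app]
    rfl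
  | insert a s ha ih =>
    rw [Finset.sum_insert ha, Finset.sum_insert ha, Scheme.Modules.Hom.add_app, ← ih]
    rfl

theorem sigma_total {β : Type*} [Fintype β] [DecidableEq β] (f : β → X.Modules) [HasCoproduct f] :
    ∑ b, Sigma.π f b ≫ Sigma.ι f b = 𝟙 (∐ f) := by
  apply Sigma.hom_ext
  intro c
  rw [Preadditive.comp_sum, Category.comp_id, Finset.sum_eq_single c]
  · rw [← Category.assoc, Sigma.ι_π_eq_id, Category.id_comp]
  · intro b _ hbc
    rw [← Category.assoc, Sigma.ι_π_of_ne f (Ne.symm hbc), zero_comp]
  · intro h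
    exact absurd (Finset.mem_univ c) h

/-- every section of a finite coproduct is the sum of its components. -/
theorem sigma_decomp {β : Type*} [Fintype β] [DecidableEq β] (f : β → X.Modules) [HasCoproduct f] (T : X.Opens)
    (s : Γ(∐ f, T)) :
    s = ∑ b, (Sigma.ι f b).app T ((Sigma.π f b).app T s) := by
  have h := congrArg (fun φ : (∐ f) ⟶ (∐ f) => φ.app T s) (sigma_total f)
  change (∑ b, Sigma.π f b ≫ Sigma.ι f b).app T s = (𝟙 (∐ f) : (∐ f) ⟶ (∐ f)).app T s at h
  rw [sum_app_apply] at h
  exact h.symm

/-- a spanning family for the sections of a finite coproduct from spanning families of the summands. -/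
theorem sigma_span {β : Type*} [Fintype β] [DecidableEq β] (f : β → X.Modules) [HasCoproduct f] (T : X.Opens)
    (d : β → ℕ) (x : ∀ b, Fin (d b) → Γ(f b, T))
    (hx : ∀ b, ⊤ ≤ Submodule.span Γ(X, T) (Set.range (x b))) :
    ⊤ ≤ Submodule.span Γ(X, T)
      (Set.range (fun a : Σ b, Fin (d b) => (Sigma.ι f a.1).app T (x a.1 a.2))) := by
  intro s _
  rw [sigma_decomp f T s]
  refine Submodule.sum_mem _ fun b _ => ?_
  have h1 : (Sigma.π f b).app T s ∈ Submodule.span Γ(X, T) (Set.range (x b)) := hx b trivial
  have h2 : ∀ t ∈ Submodule.span Γ(X, T) (Set.range (x b)),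
      appLin (Sigma.ι f b) T t ∈ Submodule.span Γ(X, T)
        (Set.range (fun a : Σ b, Fin (d b) => (Sigma.ι f a.1).app T (x a.1 a.2))) := by
    intro t ht
    induction ht using Submodule.span_induction with
    | mem t ht =>
      obtain ⟨k, rfl⟩ := ht
      exact Submodule.subset_span ⟨⟨b, k⟩, rfl⟩
    | zero => rw [map_zero]; exact Submodule.zero_mem _
    | add t t' _ _ h h' => rw [map_add]; exact Submodule.add_mem _ h h'
    | smul c t _ h => rw [map_smul]; exact Submodule.smul_mem _ _ h
  exact h2 _ h1

end sheaf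

end Groth.Agent.Helper18CInt
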