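import Mathlib
import Groth.Prelude.Def_CAlgX
import Groth.Prelude.Def_Omega4

set_option autoImplicit false
set_option linter.style.haveILetI false
set_option linter.unusedSectionVars false
universe u
open TensorProduct

namespace Groth.Agent.Helper18LciCon

section lemmaA
variable {R' R : Type*} [CommRing R'] [CommRing R] (σ : R' →+* R) (hσ : Function.Surjective σ)
  {r : ℕ} (ft : Fin r → R')

include hσ in
/-- trivial relations lift to relations. -/
theorem exists_lift_rel (v : Fin r → R)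
    (hv : v ∈ Submodule.span R {v : Fin r → R | ∃ i j : Fin r,
      v = Pi.single i (σ (ft j)) - Pi.single j (σ (ft i))}) :
    ∃ vt : Fin r → R', (∀ i, σ (vt i) = v i) ∧ ∑ i, vt i * ft i = 0 := by
  induction hv using Submodule.span_induction with
  | mem x hx =>
    obtain ⟨i, j, rfl⟩ := hx
    refine ⟨Pi.single i (ft j) - Pi.single j (ft i), fun k => ?_, ?_⟩
    · simp only [Pi.sub_apply, map_sub, Pi.single_apply, apply_ite σ, map_zero]
    · simp only [Pi.sub_apply, sub_mul, Finset.sum_sub_distrib, Pi.single_apply, ite_mul, zero_mul,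
        Finset.sum_ite_eq', Finset.mem_univ, if_true]
      ring
  | zero => exact ⟨0, fun _ => by simp, by simp⟩
  | add x y _ _ hx hy =>
    obtain ⟨a, ha1, ha2⟩ := hx
    obtain ⟨b, hb1, hb2⟩ := hy
    refine ⟨a + b, fun i => by simp [ha1, hb1], ?_⟩
    simp only [Pi.add_apply, add_mul, Finset.sum_add_distrib, ha2, hb2, add_zero]
  | smul c x _ hx =>
    obtain ⟨ct, rfl⟩ := hσ c
    obtain ⟨a, ha1, ha2⟩ := hx
    refine ⟨fun i => ct * a i, fun i => by simp [ha1], ?_⟩
    simp only [mul_assoc, ← Finset.mul_sum, ha2, mul_zero]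

include hσ in
/-- **Lemma A**: for an `H_1`-regular sequence mod `ker σ`, `ker σ ∩ (f̃) ⊆ ker σ · (f̃)`. -/
theorem lemmaA (hH1 : CAlgX.IsH1Regular (fun i => σ (ft i))) (x : R')
    (hx : x ∈ Ideal.span (Set.range ft)) (hx' : σ x = 0) :
    x ∈ RingHom.ker σ * Ideal.span (Set.range ft) := by
  obtain ⟨a, rfl⟩ := (Ideal.mem_span_range_iff_exists_fun).mp hx
  have h0 : ∑ i, (fun i => σ (a i)) i * (fun i => σ (ft i)) i = 0 := by
    simpa [map_sum] using hx'
  obtain ⟨vt, hvt1, hvt2⟩ := exists_lift_rel σ hσ ft _ (hH1 _ h0)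
  have : ∑ i, a i * ft i = ∑ i, (a i - vt i) * ft i := by
    simp [sub_mul, Finset.sum_sub_distrib, hvt2]
  rw [this]
  refine Ideal.sum_mem _ fun i _ => Ideal.mul_mem_mul ?_ (Ideal.subset_span ⟨i, rfl⟩)
  rw [RingHom.mem_ker, map_sub, hvt1, sub_self]

end lemmaA

section mulMap
variable {B' : Type u} [CommRing B'] {N' : Type u} [AddCommGroup N'] [Module B' N']
  (ιN : N' →ₗ[B'] B')

/-- `s ⊗ n ↦ ι(n) • s`. -/
noncomputable def mulMap (S : Type u) [CommRing S] [Algebra B' S] : S ⊗[B'] N' →ₗ[B'] S :=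
  (TensorProduct.rid B' S).toLinearMap ∘ₗ LinearMap.lTensor S ιN

variable {S S₂ : Type u} [CommRing S] [Algebra B' S] [CommRing S₂] [Algebra B' S₂]

@[simp] theorem mulMap_tmul (s : S) (n : N') : mulMap ιN S (s ⊗ₜ n) = ιN n • s := by
  simp [mulMap]

theorem mulMap_injective [Module.Flat B' S] (hιN : Function.Injective ιN) :
    Function.Injective (mulMap ιN S) := by
  unfold mulMap
  rw [LinearMap.coe_comp]
  exact (TensorProduct.rid B' S).injective.comp
    (Module.Flat.lTensor_preserves_injective_linearMap (M := S) ιN hιN)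

theorem mulMap_map (φ : S →ₐ[B'] S₂) (w : S ⊗[B'] N') :
    φ (mulMap ιN S w) = mulMap ιN S₂ (LinearMap.rTensor N' φ.toLinearMap w) := by
  induction w using TensorProduct.induction_on with
  | zero => simp
  | tmul s n => simp
  | add x y hx hy => simp only [map_add, hx, hy]

/-- left multiplication by `s` on `S ⊗ N'`. -/
noncomputable def Ls (s : S) : S ⊗[B'] N' →ₗ[B'] S ⊗[B'] N' :=
  LinearMap.rTensor N' (LinearMap.mulLeft B' s)

theorem mulMap_Ls (s : S) (w : S ⊗[B'] N') : mulMap ιN S (Ls s w) = s * mulMap ιN S w := by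
  induction w using TensorProduct.induction_on with
  | zero => simp
  | tmul t n => simp [Ls]
  | add x y hx hy => simp only [map_add, hx, hy, mul_add]

theorem rTensor_Ls_eq_zero (φ : S →ₐ[B'] S₂) (s : S) (hs : φ s = 0) (w : S ⊗[B'] N') :
    LinearMap.rTensor N' φ.toLinearMap (Ls s w) = 0 := by
  induction w using TensorProduct.induction_on with
  | zero => simp
  | tmul t n => simp [Ls, hs]
  | add x y hx hy => simp only [map_add, hx, hy, add_zero]

end mulMap


section lemmaB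
variable {B' : Type u} [CommRing B'] {N' : Type u} [AddCommGroup N'] [Module B' N']
  (ιN : N' →ₗ[B'] B') (hιN : Function.Injective ιN) (N : Ideal B')
  (hN : ∀ b : B', b ∈ N ↔ ∃ n : N', ιN n = b)
  {R' R C : Type u} [CommRing R'] [CommRing R] [CommRing C] [Algebra B' R'] [Algebra B' C]
  [Module.Flat B' R']
  (σ : R' →+* R) (hσ : Function.Surjective σ)
  (hkerσ : RingHom.ker σ = N.map (algebraMap B' R'))
  {r : ℕ} (ft : Fin r → R') (hH1 : CAlgX.IsH1Regular (fun i => σ (ft i)))
  (ρ : R' →ₐ[B'] C) (hρ : ∀ i, ρ (ft i) = 0)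

include hN in
theorem mulMap_mem_map (w : R' ⊗[B'] N') : mulMap ιN R' w ∈ N.map (algebraMap B' R') := by
  induction w using TensorProduct.induction_on with
  | zero => simp
  | tmul s n =>
    rw [mulMap_tmul, Algebra.smul_def]
    exact Ideal.mul_mem_right _ _ (Ideal.mem_map_of_mem _ ((hN _).mpr ⟨n, rfl⟩))
  | add x y hx hy => rw [map_add]; exact Ideal.add_mem _ hx hy

include hN in
theorem exists_mulMap_eq (a : R') (ha : a ∈ N.map (algebraMap B' R')) :
    ∃ w : R' ⊗[B'] N', mulMap ιN R' w = a := by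
  unfold Ideal.map at ha
  induction ha using Submodule.span_induction with
  | mem x hx =>
    obtain ⟨b, hb, rfl⟩ := hx
    obtain ⟨n, rfl⟩ := (hN b).mp hb
    exact ⟨1 ⊗ₜ n, by rw [mulMap_tmul, Algebra.algebraMap_eq_smul_one]⟩
  | zero => exact ⟨0, map_zero _⟩
  | add x y _ _ hx hy =>
    obtain ⟨w, rfl⟩ := hx
    obtain ⟨w', rfl⟩ := hy
    exact ⟨w + w', map_add _ _ _⟩
  | smul s x _ hx =>
    obtain ⟨w, rfl⟩ := hx
    exact ⟨Ls s w, by rw [mulMap_Ls, smul_eq_mul]⟩

include hιN hN hσ hkerσ hH1 hρ in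
/-- **Lemma B** -/
theorem lemmaB (y : R' ⊗[B'] N') (hy : mulMap ιN R' y ∈ Ideal.span (Set.range ft)) :
    LinearMap.rTensor N' ρ.toLinearMap y = 0 := by
  have h1 : σ (mulMap ιN R' y) = 0 := by
    rw [← RingHom.mem_ker, hkerσ]
    exact mulMap_mem_map ιN N hN y
  have h2 := lemmaA σ hσ ft hH1 _ hy h1
  rw [hkerσ] at h2
  have hρspan : ∀ b ∈ Ideal.span (Set.range ft), ρ b = 0 := by
    intro b hb
    have : Ideal.span (Set.range ft) ≤ RingHom.ker ρ.toRingHom := by
      rw [Ideal.span_le]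
      rintro _ ⟨i, rfl⟩
      exact hρ i
    exact this hb
  have h3 : ∀ z ∈ N.map (algebraMap B' R') * Ideal.span (Set.range ft),
      ∃ w : R' ⊗[B'] N', mulMap ιN R' w = z ∧ LinearMap.rTensor N' ρ.toLinearMap w = 0 := by
    intro z hz
    refine Submodule.mul_induction_on hz ?_ ?_
    · intro a ha b hb
      obtain ⟨w, rfl⟩ := exists_mulMap_eq ιN N hN a ha
      exact ⟨Ls b w, by rw [mulMap_Ls, mul_comm], rTensor_Ls_eq_zero ρ b (hρspan b hb) w⟩
    · rintro x y ⟨w, rfl, hw⟩ ⟨w', rfl, hw'⟩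
      exact ⟨w + w', map_add _ _ _, by rw [map_add, hw, hw', add_zero]⟩
  obtain ⟨w, hw1, hw2⟩ := h3 _ h2
  rw [← mulMap_injective ιN hιN hw1]
  exact hw2

end lemmaB

section core
variable {B' : Type u} [CommRing B'] {N' : Type u} [AddCommGroup N'] [Module B' N']
  (ιN : N' →ₗ[B'] B') (hιN : Function.Injective ιN) (N : Ideal B')
  (hN : ∀ b : B', b ∈ N ↔ ∃ n : N', ιN n = b) (hN2 : N * N = ⊥)
  {R' R C C' : Type u} [CommRing R'] [CommRing R] [CommRing C] [CommRing C']
  [Algebra B' R'] [Algebra B' C] [Algebra B' C']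
  [Module.Flat B' R']
  (σ : R' →+* R) (hσ : Function.Surjective σ)
  (hkerσ : RingHom.ker σ = N.map (algebraMap B' R'))
  {r : ℕ} (ft : Fin r → R') (hH1 : CAlgX.IsH1Regular (fun i => σ (ft i)))
  (ρ : R' →ₐ[B'] C) (hρs : Function.Surjective ρ)
  (hkerρ : RingHom.ker ρ.toRingHom = N.map (algebraMap B' R') ⊔ Ideal.span (Set.range ft))
  (πC : C' →ₐ[B'] C) (hU : OmegaSh.IsUnivThickeningRing B' C C' πC)

include hιN hN hN2 hσ hkerσ hH1 hρs hkerρ hU in
/-- **core**: the kernel of `C' ⊗ N' → C'` dies in `C ⊗ N'`. -/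
theorem core (y : C' ⊗[B'] N') (hy : mulMap ιN C' y = 0) :
    LinearMap.rTensor N' πC.toLinearMap y = 0 := by
  set J : Ideal R' := Ideal.span (Set.range ft) with hJ
  have hρJ : ∀ a ∈ J, ρ a = 0 := by
    intro a ha
    have : a ∈ RingHom.ker ρ.toRingHom := by rw [hkerρ]; exact Ideal.mem_sup_right ha
    exact this
  have hρft : ∀ i, ρ (ft i) = 0 := fun i => hρJ _ (Ideal.subset_span ⟨i, rfl⟩)
  let q : R' →ₐ[B'] R' ⧸ J := Ideal.Quotient.mkₐ B' J
  have hq : Function.Surjective q := Ideal.Quotient.mkₐ_surjective B' J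
  let πT : R' ⧸ J →ₐ[B'] C := Ideal.Quotient.liftₐ J ρ hρJ
  have hπTq : ∀ x : R', πT (q x) = ρ x := fun x => rfl
  have hπTs : Function.Surjective πT := by
    intro c
    obtain ⟨x, rfl⟩ := hρs c
    exact ⟨q x, rfl⟩
  set K : Ideal (R' ⧸ J) := RingHom.ker πT with hK
  have hKle : K ≤ (N.map (algebraMap B' R')).map (Ideal.Quotient.mk J) := by
    intro t ht
    obtain ⟨x, rfl⟩ := hq t
    have hx : x ∈ RingHom.ker ρ.toRingHom := by
      rw [RingHom.mem_ker]
      exact ht
    rw [hkerρ] at hx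
    obtain ⟨a, ha, b, hb, rfl⟩ := Submodule.mem_sup.mp hx
    have : q (a + b) = Ideal.Quotient.mk J a := by
      change Ideal.Quotient.mk J (a + b) = _
      rw [map_add, Ideal.Quotient.eq_zero_iff_mem.mpr hb, add_zero]
    rw [this]
    exact Ideal.mem_map_of_mem _ ha
  have hK2 : K ^ 2 = ⊥ := by
    rw [eq_bot_iff]
    refine (Ideal.pow_right_mono hKle 2).trans ?_
    rw [← Ideal.map_pow, ← Ideal.map_pow, pow_two, hN2, Ideal.map_bot, Ideal.map_bot]
  let e := Ideal.quotientKerAlgEquivOfSurjective hπTs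
  obtain ⟨θ, hθ, -⟩ := hU.2.2 (R' ⧸ J) K hK2 e.symm.toAlgHom
  have hπTθ : ∀ c' : C', πT (θ c') = πC c' := by
    intro c'
    have h1 := congr($hθ c')
    have h2 : e (Ideal.Quotient.mk K (θ c')) = e (e.symm (πC c')) := congrArg e h1
    rw [e.apply_symm_apply] at h2
    exact h2
  -- lift `(θ ⊗ id) y` to `R' ⊗ N'`
  obtain ⟨yt, hyt⟩ := LinearMap.rTensor_surjective N' (g := q.toLinearMap) hq
    (LinearMap.rTensor N' θ.toLinearMap y)
  have h3 : mulMap ιN R' yt ∈ J := by
    rw [← Ideal.Quotient.eq_zero_iff_mem]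
    change q (mulMap ιN R' yt) = 0
    rw [mulMap_map, hyt, ← mulMap_map, hy, map_zero]
  have h4 := lemmaB ιN hιN N hN σ hσ hkerσ ft hH1 ρ hρft yt h3
  have h5 : LinearMap.rTensor N' ρ.toLinearMap yt =
      LinearMap.rTensor N' πT.toLinearMap (LinearMap.rTensor N' q.toLinearMap yt) := by
    rw [← LinearMap.comp_apply, ← LinearMap.rTensor_comp]
    rfl
  rw [h5, hyt, ← LinearMap.comp_apply, ← LinearMap.rTensor_comp] at h4
  have h6 : πT.toLinearMap ∘ₗ θ.toLinearMap = πC.toLinearMap := by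
    ext c'
    exact hπTθ c'
  rw [h6] at h4
  exact h4

end core

section tower
variable {A B B' C C' : Type u} [CommRing A] [CommRing B] [CommRing B'] [CommRing C] [CommRing C']
  [Algebra A B] [Algebra A B'] [Algebra A C] [Algebra A C'] [Algebra B' C] [Algebra B' C']
  [IsScalarTower A B' C] [IsScalarTower A B' C']
  (πB : B' →ₐ[A] B) (hB : OmegaSh.IsUnivThickeningRing A B B' πB)
  (πC : C' →ₐ[A] C) (hC : OmegaSh.IsUnivThickeningRing A C C' πC)
  (iB : B →ₐ[A] C) (hiB : ∀ b', iB (πB b') = algebraMap B' C b')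
  (πC' : C' →ₐ[B'] C) (hπC' : ∀ x, πC' x = πC x)

include hB hC hiB hπC' in
/-- a universal thickening over `A` of an algebra over the universal thickening `B'` of `B`
is universal over `B'`. -/
theorem isUnivThickeningRing_tower : OmegaSh.IsUnivThickeningRing B' C C' πC' := by
  obtain ⟨hCs, hCk, hCu⟩ := hC
  refine ⟨fun c => ?_, ?_, ?_⟩
  · obtain ⟨x, hx⟩ := hCs c
    exact ⟨x, (hπC' x).trans hx⟩
  · have : RingHom.ker πC'.toRingHom = RingHom.ker πC.toRingHom := by
      ext x
      rw [RingHom.mem_ker, RingHom.mem_ker]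
      change πC' x = 0 ↔ πC x = 0
      rw [hπC']
    rw [this]
    exact hCk
  · intro T _ _ I hI a
    letI algAT : Algebra A T := ((algebraMap B' T).comp (algebraMap A B')).toAlgebra
    haveI : IsScalarTower A B' T := IsScalarTower.of_algebraMap_eq fun _ => rfl
    let aA : C →ₐ[A] T ⧸ I := a.restrictScalars A
    obtain ⟨θ₀, hθ₀, hθ₀u⟩ := hCu T I hI aA
    have hθ₀' : ∀ c', Ideal.Quotient.mk I (θ₀ c') = a (πC c') := fun c' => congr($hθ₀ c')
    let φ₁ : B' →ₐ[A] T := θ₀.comp (IsScalarTower.toAlgHom A B' C')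
    let φ₂ : B' →ₐ[A] T := IsScalarTower.toAlgHom A B' T
    obtain ⟨φ, -, hφu⟩ := hB.2.2 T I hI (aA.comp iB)
    have e1 : φ₁ = φ := by
      apply hφu
      ext b'
      change Ideal.Quotient.mk I (θ₀ (algebraMap B' C' b')) = a (iB (πB b'))
      rw [hθ₀', ← hπC', AlgHom.commutes, hiB]
    have e2 : φ₂ = φ := by
      apply hφu
      ext b'
      change Ideal.Quotient.mk I (algebraMap B' T b') = a (iB (πB b'))
      rw [hiB, AlgHom.commutes]
      rfl
    have hcomm : ∀ b' : B', θ₀ (algebraMap B' C' b') = algebraMap B' T b' := by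
      intro b'
      have := congr($(e1.trans e2.symm) b')
      exact this
    let θ : C' →ₐ[B'] T := { θ₀.toRingHom with commutes' := hcomm }
    refine ⟨θ, ?_, ?_⟩
    · ext c'
      change Ideal.Quotient.mk I (θ₀ c') = a (πC' c')
      rw [hθ₀', hπC']
    · intro θ' hθ'
      have h1 : θ'.restrictScalars A = θ₀ := by
        apply hθ₀u
        ext c'
        have := congr($hθ' c')
        change Ideal.Quotient.mk I (θ' c') = a (πC c')
        rw [← hπC']
        exact this
      ext c'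
      exact congr($h1 c')

end tower

end Groth.Agent.Helper18LciCon
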