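import Mathlib
import Groth.Prelude.Def_CAlgX
import Groth.Agent.Lib.Helper18LciConA

set_option autoImplicit false
set_option linter.style.haveILetI false
set_option linter.unusedSectionVars false
universe u

namespace Groth.Agent.Helper18H1Con

open Groth.Agent.Helper18LciCon

section alg
variable {A B : Type*} [CommRing A] [CommRing B] (σ : A →+* B) (hσ : Function.Surjective σ)
  {r : ℕ} (ft : Fin r → A)

include hσ in
/-- `I ∩ J² ⊆ I·J` for `I = ker σ`, `J = I ⊔ (f̃)` with `σ(f̃)` an `H_1`-regular sequence. -/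
theorem inter_sq_le (hH1 : CAlgX.IsH1Regular (fun i => σ (ft i))) (x : A) (hxI : σ x = 0)
    (hxJ : x ∈ (RingHom.ker σ ⊔ Ideal.span (Set.range ft)) ^ 2) :
    x ∈ RingHom.ker σ * (RingHom.ker σ ⊔ Ideal.span (Set.range ft)) := by
  set I := RingHom.ker σ with hI
  set F := Ideal.span (Set.range ft) with hF
  have h1 : (I ⊔ F) ^ 2 ≤ I * (I ⊔ F) ⊔ F * F := by
    rw [pow_two, Ideal.mul_le]
    intro a ha b hb
    obtain ⟨a₁, ha₁, a₂, ha₂, rfl⟩ := Submodule.mem_sup.mp ha
    obtain ⟨b₁, hb₁, b₂, hb₂, rfl⟩ := Submodule.mem_sup.mp hb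
    have e : (a₁ + a₂) * (b₁ + b₂) = (a₁ * (b₁ + b₂) + b₁ * a₂) + a₂ * b₂ := by ring
    rw [e]
    refine Ideal.add_mem _ (Ideal.mem_sup_left (Ideal.add_mem _ ?_ ?_))
      (Ideal.mem_sup_right (Ideal.mul_mem_mul ha₂ hb₂))
    · exact Ideal.mul_mem_mul ha₁ hb
    · exact Ideal.mul_mem_mul hb₁ (Ideal.mem_sup_right ha₂)
  obtain ⟨y, hy, w, hw, rfl⟩ := Submodule.mem_sup.mp (h1 hxJ)
  have hyI : σ y = 0 := by
    have : y ∈ I := Ideal.mul_le_left hy
    exact this
  have hwF : w ∈ F := Ideal.mul_le_right hw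
  have hw0 : σ w = 0 := by
    rw [map_add, hyI, zero_add] at hxI
    exact hxI
  have h2 := lemmaA σ hσ ft hH1 w hwF hw0
  refine Ideal.add_mem _ hy ?_
  exact Ideal.mul_mono_right le_sup_right h2

end alg

section quasi
variable {B : Type*} [CommRing B] {r : ℕ} (f : Fin r → B)

/-- `H_1`-regular sequences are quasi-regular in degree one. -/
theorem coeff_mem_of_sum_mem_sq (hH1 : CAlgX.IsH1Regular f) (b : Fin r → B)
    (h : ∑ k, b k * f k ∈ (Ideal.span (Set.range f)) ^ 2) :
    ∀ k, b k ∈ Ideal.span (Set.range f) := by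
  set J := Ideal.span (Set.range f) with hJ
  have key : ∀ x ∈ J * J, ∃ d : Fin r → B, (∀ k, d k ∈ J) ∧ x = ∑ k, d k * f k := by
    intro x hx
    refine Submodule.mul_induction_on hx ?_ ?_
    · intro a ha c hc
      obtain ⟨e, rfl⟩ := (Ideal.mem_span_range_iff_exists_fun).mp hc
      refine ⟨fun k => a * e k, fun k => Ideal.mul_mem_right _ _ ha, ?_⟩
      rw [Finset.mul_sum]
      exact Finset.sum_congr rfl fun k _ => (mul_assoc _ _ _).symm
    · rintro x y ⟨d, hd, rfl⟩ ⟨d', hd', rfl⟩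
      refine ⟨fun k => d k + d' k, fun k => Ideal.add_mem _ (hd k) (hd' k), ?_⟩
      rw [← Finset.sum_add_distrib]
      exact Finset.sum_congr rfl fun k _ => (add_mul _ _ _).symm
  rw [pow_two] at h
  obtain ⟨d, hd, hbd⟩ := key _ h
  have h0 : ∑ k, (fun k => b k - d k) k * f k = 0 := by
    simp only [sub_mul, Finset.sum_sub_distrib, hbd, sub_self]
  have h1 := hH1 _ h0
  have h2 : ∀ v ∈ Submodule.span B {v : Fin r → B | ∃ i j : Fin r,
      v = Pi.single i (f j) - Pi.single j (f i)}, ∀ k, v k ∈ J := by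
    intro v hv
    induction hv using Submodule.span_induction with
    | mem x hx =>
      obtain ⟨i, j, rfl⟩ := hx
      intro k
      simp only [Pi.sub_apply, Pi.single_apply]
      refine Ideal.sub_mem _ ?_ ?_
      · split_ifs
        · exact Ideal.subset_span ⟨j, rfl⟩
        · exact Ideal.zero_mem _
      · split_ifs
        · exact Ideal.subset_span ⟨i, rfl⟩
        · exact Ideal.zero_mem _
    | zero => exact fun k => Ideal.zero_mem _
    | add x y _ _ hx hy => exact fun k => Ideal.add_mem _ (hx k) (hy k)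
    | smul c x _ hx => exact fun k => Ideal.mul_mem_left _ _ (hx k)
  intro k
  have := h2 _ h1 k
  have e : b k = (b k - d k) + d k := by ring
  rw [e]
  exact Ideal.add_mem _ this (hd k)

end quasi

end Groth.Agent.Helper18H1Con
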