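import Mathlib
import Groth.Prelude.Def_Omega4
import Groth.Agent.Lib.Helper18OmLS15

set_option autoImplicit false
set_option linter.style.haveILetI false
set_option linter.unusedSectionVars false
set_option linter.unusedVariables false
universe u
open CategoryTheory CategoryTheory.Limits AlgebraicGeometry TopologicalSpace Opposite
open KaehlerDifferential TensorProduct
open Groth.Agent.Helper13PullbackUnit
open Groth.Agent.Lib.Helper23.ModLocal Groth.Agent.Lib.Helper23.QCohLocal Groth.Agent.Lib.Helper23.FinType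
  Groth.Agent.Lib.Helper20.PullbackAff

namespace Groth.Agent.Helper18OmLS

section ring4
variable {C A R : Type u} [CommRing C] [CommRing A] [CommRing R] [Algebra C A] [Algebra A R]
  [Algebra C R] [IsScalarTower C A R]

theorem exists_sub_mem_sq_of_algebraMap_mem_sq (hCA : Function.Surjective (algebraMap C A)) (l : C)
    (h : algebraMap C A l ∈ (RingHom.ker (algebraMap A R)) ^ 2) :
    ∃ k ∈ RingHom.ker (algebraMap C A), l - k ∈ (RingHom.ker (algebraMap C R)) ^ 2 := by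
  have hL : RingHom.ker (algebraMap C R) = (RingHom.ker (algebraMap A R)).comap (algebraMap C A) := by
    ext x
    rw [Ideal.mem_comap, RingHom.mem_ker, RingHom.mem_ker, ← IsScalarTower.algebraMap_apply]
  have hJ : (RingHom.ker (algebraMap C R)).map (algebraMap C A) = RingHom.ker (algebraMap A R) := by
    rw [hL]
    exact Ideal.map_comap_of_surjective _ hCA _
  rw [← hJ, ← Ideal.map_pow, Ideal.mem_map_iff_of_surjective _ hCA] at h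
  obtain ⟨l₂, hl₂, hl₂'⟩ := h
  refine ⟨l - l₂, ?_, ?_⟩
  · rw [RingHom.mem_ker, map_sub, hl₂', sub_self]
  · rw [sub_sub_cancel]
    exact hl₂

end ring4

section ext2
variable {X Y Z : Scheme.{u}} (f : Y ⟶ X) (j : Z ⟶ Y)

/-- maps out of `j^* f^* M` agreeing on twice pulled-back sections are equal. -/
theorem pullback_hom_ext₂ {M : X.Modules} {N : Z.Modules}
    (ψ₁ ψ₂ : (Scheme.Modules.pullback j).obj ((Scheme.Modules.pullback f).obj M) ⟶ N)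
    (H : ∀ (U' : X.Opens) (s : Γ(M, U')),
      ψ₁.app (j ⁻¹ᵁ (f ⁻¹ᵁ U')) (OmegaSh.pullSect j _ (f ⁻¹ᵁ U') (OmegaSh.pullSect f M U' s)) =
      ψ₂.app (j ⁻¹ᵁ (f ⁻¹ᵁ U')) (OmegaSh.pullSect j _ (f ⁻¹ᵁ U') (OmegaSh.pullSect f M U' s))) :
    ψ₁ = ψ₂ := by
  apply ((Scheme.Modules.pullbackPushforwardAdjunction j).homEquiv _ N).injective
  refine pullback_hom_ext f _ _ fun U' s => ?_
  rw [Adjunction.homEquiv_unit, Adjunction.homEquiv_unit]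
  exact H U' s

end ext2

section S5974
variable {Y' Y X : Scheme.{u}} (f : Y ⟶ X) [IsImmersion f] [QuasiCompact f]
    (j : Y' ⟶ Y) [IsImmersion j] [QuasiCompact j]
    (φ₁ : (Scheme.Modules.pullback j).obj (Omega.conormal f) ⟶ Omega.conormal (j ≫ f))
    (hφ₁ : OmegaSh.IsConormalMap (j ≫ f) f (𝟙 X) j φ₁)
    (φ₂ : (Scheme.Modules.pullback (𝟙 Y')).obj (Omega.conormal (j ≫ f)) ⟶ Omega.conormal j)
    (hφ₂ : OmegaSh.IsConormalMap j (j ≫ f) f (𝟙 Y') φ₂)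

include hφ₁ in
theorem phi1_conormalSect (U' : X.Opens) (s' : Γ(ClSub.idealMod f.ker, U'))
    (s : Γ(ClSub.idealMod (j ≫ f).ker, U'))
    (h : OmegaSh.idealSect (j ≫ f).ker U' s = OmegaSh.idealSect f.ker U' s') :
    φ₁.app (j ⁻¹ᵁ (f ⁻¹ᵁ U')) (OmegaSh.pullSect j (Omega.conormal f) (f ⁻¹ᵁ U')
      (OmegaSh.conormalSect f U' s')) = OmegaSh.conormalSect (j ≫ f) U' s := by
  have hh : OmegaSh.idealSect (j ≫ f).ker ((𝟙 X) ⁻¹ᵁ U') s =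
      (Scheme.Hom.app (𝟙 X) U') (OmegaSh.idealSect f.ker U' s') := by
    rw [Scheme.Hom.id_app]; exact h
  have h1 := hφ₁.2 U' s' s hh (j ⁻¹ᵁ (f ⁻¹ᵁ U')) (le_refl _) (le_refl _)
  rw [presheaf_map_homOfLE_refl] at h1
  refine h1.trans ?_
  exact presheaf_map_homOfLE_refl (Omega.conormal (j ≫ f)) _ _

include hφ₁ hφ₂ in
theorem chart_S5974 {W : X.Opens} (hW : IsAffineOpen W) (hWf : W ≤ f.coborderRange)
    (hVj : f ⁻¹ᵁ W ≤ j.coborderRange) :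
    Function.Surjective (((Scheme.Modules.pullbackId Y').inv.app (Omega.conormal (j ≫ f)) ≫ φ₂).app
      ((j ≫ f) ⁻¹ᵁ W)) ∧
    ∀ n : Γ(Omega.conormal (j ≫ f), (j ≫ f) ⁻¹ᵁ W),
      ((Scheme.Modules.pullbackId Y').inv.app (Omega.conormal (j ≫ f)) ≫ φ₂).app ((j ≫ f) ⁻¹ᵁ W) n = 0 →
      ∃ m, φ₁.app ((j ≫ f) ⁻¹ᵁ W) m = n := by
  set φ₂' : Omega.conormal (j ≫ f) ⟶ Omega.conormal j :=
    (Scheme.Modules.pullbackId Y').inv.app (Omega.conormal (j ≫ f)) ≫ φ₂ with hφ₂'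
  have hV : IsAffineOpen (f ⁻¹ᵁ W) :=
    Groth.Agent.Lib.Helper20.ConormalStalk.isAffineOpen_preimage f hW hWf
  have hT : IsAffineOpen ((j ≫ f) ⁻¹ᵁ W) :=
    Groth.Agent.Lib.Helper20.ConormalStalk.isAffineOpen_preimage j hV hVj
  have hTV : (j ≫ f) ⁻¹ᵁ W ≤ j ⁻¹ᵁ (f ⁻¹ᵁ W) := le_refl _
  have hTW : (j ≫ f) ⁻¹ᵁ W ≤ (j ≫ f) ⁻¹ᵁ W := le_refl _
  have hVW : f ⁻¹ᵁ W ≤ f ⁻¹ᵁ W := le_refl _
  letI algCA : Algebra Γ(X, W) Γ(Y, f ⁻¹ᵁ W) := (f.appLE W (f ⁻¹ᵁ W) hVW).hom.toAlgebra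
  letI algAR : Algebra Γ(Y, f ⁻¹ᵁ W) Γ(Y', (j ≫ f) ⁻¹ᵁ W) :=
    (j.appLE (f ⁻¹ᵁ W) ((j ≫ f) ⁻¹ᵁ W) hTV).hom.toAlgebra
  letI algCR : Algebra Γ(X, W) Γ(Y', (j ≫ f) ⁻¹ᵁ W) :=
    ((j ≫ f).appLE W ((j ≫ f) ⁻¹ᵁ W) hTW).hom.toAlgebra
  haveI : IsScalarTower Γ(X, W) Γ(Y, f ⁻¹ᵁ W) Γ(Y', (j ≫ f) ⁻¹ᵁ W) := by
    refine IsScalarTower.of_algebraMap_eq fun r => ?_
    have h1 : f.appLE W (f ⁻¹ᵁ W) hVW ≫ j.appLE (f ⁻¹ᵁ W) ((j ≫ f) ⁻¹ᵁ W) hTV =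
        (j ≫ f).appLE W ((j ≫ f) ⁻¹ᵁ W) hTW := Scheme.Hom.appLE_comp_appLE _ _ _ _ _ _ _
    exact congr($h1.symm r)
  have hCA : Function.Surjective (algebraMap Γ(X, W) Γ(Y, f ⁻¹ᵁ W)) := by
    intro b
    obtain ⟨a, ha⟩ := Groth.Agent.Lib.Helper20.ConormalStalk.app_surjective f hW hWf b
    refine ⟨a, ?_⟩
    rw [← ha]
    change (f.appLE W (f ⁻¹ᵁ W) hVW) a = _
    rw [← Scheme.Hom.app_eq_appLE]
  have hAR : Function.Surjective (algebraMap Γ(Y, f ⁻¹ᵁ W) Γ(Y', (j ≫ f) ⁻¹ᵁ W)) := by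
    intro b
    obtain ⟨a, ha⟩ := Groth.Agent.Lib.Helper20.ConormalStalk.app_surjective j hV hVj b
    refine ⟨a, ?_⟩
    refine Eq.trans ?_ ha
    change (j.appLE (f ⁻¹ᵁ W) ((j ≫ f) ⁻¹ᵁ W) hTV) a = _
    rw [Scheme.Hom.app_eq_appLE]
    rfl
  have hCR : Function.Surjective (algebraMap Γ(X, W) Γ(Y', (j ≫ f) ⁻¹ᵁ W)) := by
    rw [IsScalarTower.algebraMap_eq Γ(X, W) Γ(Y, f ⁻¹ᵁ W) Γ(Y', (j ≫ f) ⁻¹ᵁ W)]
    exact hAR.comp hCA
  have hkerK : ∀ b : Γ(X, W), b ∈ RingHom.ker (algebraMap Γ(X, W) Γ(Y, f ⁻¹ᵁ W)) ↔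
      f.app W b = 0 := by
    intro b
    rw [RingHom.mem_ker]
    change (f.appLE W (f ⁻¹ᵁ W) hVW) b = 0 ↔ _
    rw [← Scheme.Hom.app_eq_appLE]
  have hkerL : ∀ b : Γ(X, W), b ∈ RingHom.ker (algebraMap Γ(X, W) Γ(Y', (j ≫ f) ⁻¹ᵁ W)) ↔
      (j ≫ f).app W b = 0 := by
    intro b
    rw [RingHom.mem_ker]
    change ((j ≫ f).appLE W ((j ≫ f) ⁻¹ᵁ W) hTW) b = 0 ↔ _
    rw [← Scheme.Hom.app_eq_appLE]
  have hkerJ : ∀ b : Γ(Y, f ⁻¹ᵁ W), b ∈ RingHom.ker (algebraMap Γ(Y, f ⁻¹ᵁ W) Γ(Y', (j ≫ f) ⁻¹ᵁ W)) ↔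
      j.app (f ⁻¹ᵁ W) b = 0 := by
    intro b
    rw [RingHom.mem_ker]
    change (j.appLE (f ⁻¹ᵁ W) ((j ≫ f) ⁻¹ᵁ W) hTV) b = 0 ↔ _
    rw [Scheme.Hom.app_eq_appLE]
    exact Iff.rfl
  have hkerLEq : RingHom.ker (algebraMap Γ(X, W) Γ(Y', (j ≫ f) ⁻¹ᵁ W)) =
      RingHom.ker ((j ≫ f).app W).hom := by
    ext b
    rw [hkerL, RingHom.mem_ker]
  constructor
  · intro n'
    obtain ⟨s, rfl⟩ := exists_unitSec_eq j (ClSub.idealMod j.ker) hTV hV hT rfl hAR n'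
    obtain ⟨l, hl⟩ := hCA (OmegaSh.idealSect j.ker (f ⁻¹ᵁ W) s)
    have hlL : (j ≫ f).app W l = 0 := by
      rw [← hkerL, RingHom.mem_ker, IsScalarTower.algebraMap_apply Γ(X, W) Γ(Y, f ⁻¹ᵁ W), hl,
        ← RingHom.mem_ker, hkerJ]
      exact app_idealSect_eq_zero j _ s
    obtain ⟨sl, hsl⟩ := exists_idealSect_eq (j ≫ f) W l hlL
    have hs : OmegaSh.idealSect j.ker (f ⁻¹ᵁ W) s =
        f.app W (OmegaSh.idealSect (j ≫ f).ker W sl) := by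
      rw [hsl, ← hl]
      change (f.appLE W (f ⁻¹ᵁ W) hVW) l = _
      rw [← Scheme.Hom.app_eq_appLE]
    refine ⟨OmegaSh.conormalSect (j ≫ f) W sl, ?_⟩
    refine (psi'_conormalSect f j (j ≫ f) rfl φ₂ hφ₂ W sl s hs hTV).trans ?_
    rfl
  · intro n hn
    obtain ⟨sl, rfl⟩ := exists_unitSec_eq (j ≫ f) (ClSub.idealMod (j ≫ f).ker) hTW hW hT rfl hCR n
    obtain ⟨s, hs⟩ := exists_idealSect_app f j (j ≫ f) rfl W sl
    have hunit : unitSec (j ≫ f) (ClSub.idealMod (j ≫ f).ker) hTW sl =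
        OmegaSh.conormalSect (j ≫ f) W sl := by
      rw [unitSec_apply]
      exact presheaf_map_homOfLE_refl ((Scheme.Modules.pullback (j ≫ f)).obj
        (ClSub.idealMod (j ≫ f).ker)) _ _
    rw [hunit, psi'_conormalSect f j (j ≫ f) rfl φ₂ hφ₂ W sl s hs hTV] at hn
    obtain ⟨e, he⟩ := exists_pullback_equiv j (ClSub.idealMod j.ker) hTV hV hT rfl
    have h1 : (1 : Γ(Y', (j ≫ f) ⁻¹ᵁ W)) ⊗ₜ[Γ(Y, f ⁻¹ᵁ W)] s = 0 := by
      apply e.injective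
      rw [he, one_smul, hn, map_zero]
      rfl
    have h6 := mem_smul_top_of_one_tmul_eq_zero' hAR s h1
    have h7 : ∀ t ∈ (RingHom.ker (algebraMap Γ(Y, f ⁻¹ᵁ W) Γ(Y', (j ≫ f) ⁻¹ᵁ W)) • ⊤ :
        Submodule Γ(Y, f ⁻¹ᵁ W) Γ(ClSub.idealMod j.ker, f ⁻¹ᵁ W)),
        OmegaSh.idealSect j.ker (f ⁻¹ᵁ W) t ∈
          (RingHom.ker (algebraMap Γ(Y, f ⁻¹ᵁ W) Γ(Y', (j ≫ f) ⁻¹ᵁ W))) ^ 2 := by
      intro t ht
      refine Submodule.smul_induction_on ht ?_ ?_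
      · intro x hx t' _
        rw [idealSect_smul, pow_two]
        exact Ideal.mul_mem_mul hx ((hkerJ _).mpr (app_idealSect_eq_zero j _ t'))
      · intro x y hx hy
        rw [map_add]
        exact Ideal.add_mem _ hx hy
    have h8 := h7 s h6
    rw [hs] at h8
    have h8' : algebraMap Γ(X, W) Γ(Y, f ⁻¹ᵁ W) (OmegaSh.idealSect (j ≫ f).ker W sl) ∈
        (RingHom.ker (algebraMap Γ(Y, f ⁻¹ᵁ W) Γ(Y', (j ≫ f) ⁻¹ᵁ W))) ^ 2 := by
      refine Eq.mp ?_ h8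
      congr 1
      change _ = (f.appLE W (f ⁻¹ᵁ W) hVW) _
      rw [← Scheme.Hom.app_eq_appLE]
    obtain ⟨k, hk, hlk⟩ := exists_sub_mem_sq_of_algebraMap_mem_sq (C := Γ(X, W))
      (A := Γ(Y, f ⁻¹ᵁ W)) (R := Γ(Y', (j ≫ f) ⁻¹ᵁ W)) hCA _ h8'
    have hkK : f.app W k = 0 := (hkerK k).mp hk
    have hkL : (j ≫ f).app W k = 0 := by
      rw [← hkerL, RingHom.mem_ker, IsScalarTower.algebraMap_apply Γ(X, W) Γ(Y, f ⁻¹ᵁ W),
        RingHom.mem_ker.mp hk, map_zero]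
    obtain ⟨sk, hsk⟩ := exists_idealSect_eq (j ≫ f) W k hkL
    obtain ⟨sk', hsk'⟩ := exists_idealSect_eq f W k hkK
    have hdiff : sl - sk ∈ (RingHom.ker (algebraMap Γ(X, W) Γ(Y', (j ≫ f) ⁻¹ᵁ W)) • ⊤ :
        Submodule Γ(X, W) Γ(ClSub.idealMod (j ≫ f).ker, W)) := by
      rw [hkerLEq]
      apply mem_smul_top_of_idealSect_mem_sq
      rw [map_sub, hsk, ← hkerLEq]
      exact hlk
    have h0 := unitSec_eq_zero_of_mem_smul_top (j ≫ f) (ClSub.idealMod (j ≫ f).ker) hTW rfl hdiff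
    rw [map_sub, sub_eq_zero] at h0
    refine ⟨OmegaSh.pullSect j (Omega.conormal f) (f ⁻¹ᵁ W) (OmegaSh.conormalSect f W sk'), ?_⟩
    refine (phi1_conormalSect f j φ₁ hφ₁ W sk' sk (by rw [hsk, hsk'])).trans ?_
    rw [h0]
    have hunit2 : unitSec (j ≫ f) (ClSub.idealMod (j ≫ f).ker) hTW sk =
        OmegaSh.conormalSect (j ≫ f) W sk := by
      rw [unitSec_apply]
      exact presheaf_map_homOfLE_refl ((Scheme.Modules.pullback (j ≫ f)).obj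
        (ClSub.idealMod (j ≫ f).ker)) _ _
    exact hunit2.symm


theorem exists_chart_S5974 (y' : Y') : ∃ W : X.Opens, IsAffineOpen W ∧ W ≤ f.coborderRange ∧
    f ⁻¹ᵁ W ≤ j.coborderRange ∧ y' ∈ (j ≫ f) ⁻¹ᵁ W := by
  obtain ⟨O'set, hO'open, hO'eq⟩ := f.isEmbedding.isInducing.isOpen_iff.mp j.coborderRange.isOpen
  let O' : X.Opens := ⟨O'set, hO'open⟩
  have hO' : ∀ y : Y, f y ∈ O' ↔ y ∈ j.coborderRange := by
    intro y
    have : y ∈ (f ⁻¹' O'set) ↔ y ∈ (j.coborderRange : Set Y) := by rw [hO'eq]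
    exact this
  have hx : f (j y') ∈ f.coborderRange ⊓ O' :=
    ⟨subset_coborder ⟨j y', rfl⟩, (hO' _).mpr (subset_coborder ⟨y', rfl⟩)⟩
  obtain ⟨W, hW, hxW, hWle⟩ := exists_isAffineOpen_mem_and_subset (x := f (j y')) hx
  refine ⟨W, hW, hWle.trans inf_le_left, ?_, hxW⟩
  intro y hy
  exact (hO' y).mp ((hWle.trans inf_le_right) hy)

include hφ₁ hφ₂ in
theorem main_S5974 : Epi φ₂ ∧
      imageSubobject φ₁ =
        kernelSubobject ((Scheme.Modules.pullbackId Y').inv.app (Omega.conormal (j ≫ f)) ≫ φ₂) := by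
  haveI : (Omega.conormal f).IsQuasicoherent :=
    inferInstanceAs ((Scheme.Modules.pullback f).obj (ClSub.idealMod f.ker)).IsQuasicoherent
  haveI : (Omega.conormal j).IsQuasicoherent :=
    inferInstanceAs ((Scheme.Modules.pullback j).obj (ClSub.idealMod j.ker)).IsQuasicoherent
  haveI : (Omega.conormal (j ≫ f)).IsQuasicoherent :=
    inferInstanceAs ((Scheme.Modules.pullback (j ≫ f)).obj
      (ClSub.idealMod (j ≫ f).ker)).IsQuasicoherent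
  haveI : ((𝟭 Y'.Modules).obj (Omega.conormal (j ≫ f))).IsQuasicoherent :=
    inferInstanceAs (Omega.conormal (j ≫ f)).IsQuasicoherent
  let ι : Type u := {W : X.Opens // IsAffineOpen W ∧ W ≤ f.coborderRange ∧
    f ⁻¹ᵁ W ≤ j.coborderRange}
  have hcover : IsOpenCover (fun T : ι => (j ≫ f) ⁻¹ᵁ T.1) := by
    refine IsOpenCover.mk (eq_top_iff.mpr ?_)
    intro y' _
    obtain ⟨W, hW, hWf, hVj, hy'⟩ := exists_chart_S5974 f j y'
    exact Opens.mem_iSup.mpr ⟨⟨W, hW, hWf, hVj⟩, hy'⟩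
  have haff : ∀ T : ι, IsAffineOpen ((j ≫ f) ⁻¹ᵁ T.1) := fun T =>
    Groth.Agent.Lib.Helper20.ConormalStalk.isAffineOpen_preimage j
      (Groth.Agent.Lib.Helper20.ConormalStalk.isAffineOpen_preimage f T.2.1 T.2.2.1) T.2.2.2
  have hch : ∀ T : ι, _ := fun T : ι => chart_S5974 f j φ₁ hφ₁ φ₂ hφ₂ T.2.1 T.2.2.1 T.2.2.2
  set φ₂' : Omega.conormal (j ≫ f) ⟶ Omega.conormal j :=
    (Scheme.Modules.pullbackId Y').inv.app (Omega.conormal (j ≫ f)) ≫ φ₂ with hφ₂'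
  haveI hepi' : Epi φ₂' := epi_of_surjective_app_cover φ₂' _ hcover haff (fun T => (hch T).1)
  have hφ₂eq : φ₂ = (Scheme.Modules.pullbackId Y').hom.app (Omega.conormal (j ≫ f)) ≫ φ₂' := by
    rw [hφ₂', ← Category.assoc, Iso.hom_inv_id_app, Category.id_comp]
  refine ⟨by rw [hφ₂eq]; exact epi_comp _ _, ?_⟩
  have w : φ₁ ≫ φ₂' = 0 := by
    refine pullback_hom_ext₂ f j (M := ClSub.idealMod f.ker) (φ₁ ≫ φ₂') 0 fun U' s' => ?_
    have h0 : (j ≫ f).app U' (OmegaSh.idealSect f.ker U' s') = 0 := by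
      have hc := congr($(Scheme.Hom.comp_app j f U') (OmegaSh.idealSect f.ker U' s'))
      refine hc.trans ?_
      change (j.app (f ⁻¹ᵁ U')) ((f.app U') (OmegaSh.idealSect f.ker U' s')) = 0
      rw [app_idealSect_eq_zero, map_zero]
    obtain ⟨s, hs⟩ := exists_idealSect_eq (j ≫ f) U' _ h0
    obtain ⟨s3, hs3⟩ := exists_idealSect_app f j (j ≫ f) rfl U' s
    have hs30 : s3 = 0 := by
      apply idealSect_injective
      rw [hs3, hs, app_idealSect_eq_zero, map_zero]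
    change φ₂'.app (j ⁻¹ᵁ (f ⁻¹ᵁ U')) (φ₁.app (j ⁻¹ᵁ (f ⁻¹ᵁ U'))
      (OmegaSh.pullSect j (Omega.conormal f) (f ⁻¹ᵁ U') (OmegaSh.conormalSect f U' s'))) = 0
    rw [phi1_conormalSect f j φ₁ hφ₁ U' s' s hs]
    refine (psi'_conormalSect f j (j ≫ f) rfl φ₂ hφ₂ U' s s3 hs3 (le_refl _)).trans ?_
    rw [hs30, map_zero]
    rfl
  have hex : (ShortComplex.mk φ₁ φ₂' w).Exact := by
    rw [ShortComplex.exact_iff_epi_kernel_lift]
    haveI := isQuasicoherent_kernel φ₂'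
    refine epi_of_surjective_app_cover _ _ hcover haff ?_
    intro T k
    have hk : φ₂'.app ((j ≫ f) ⁻¹ᵁ T.1) ((kernel.ι φ₂').app ((j ≫ f) ⁻¹ᵁ T.1) k) = 0 := by
      rw [← ConcreteCategory.comp_apply, ← Scheme.Modules.Hom.comp_app, kernel.condition]
      rfl
    obtain ⟨m, hm⟩ := (hch T).2 _ hk
    refine ⟨m, ?_⟩
    apply OmegaSh.ι_app_injective
    rw [← ConcreteCategory.comp_apply, ← Scheme.Modules.Hom.comp_app]
    change (kernel.lift φ₂' φ₁ w ≫ kernel.ι φ₂').app ((j ≫ f) ⁻¹ᵁ T.1) m = _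
    rw [kernel.lift_ι]
    exact hm
  exact (ShortComplex.exact_iff_image_eq_kernel _).mp hex

end S5974

end Groth.Agent.Helper18OmLS
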