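import Mathlib
import Groth.Prelude.Def_Omega4
import Groth.Agent.Lib.Helper18OmLS16

set_option autoImplicit false
set_option linter.style.haveILetI false
set_option linter.unusedSectionVars false
set_option linter.unusedVariables false
universe u
open CategoryTheory CategoryTheory.Limits AlgebraicGeometry TopologicalSpace Opposite
open KaehlerDifferential TensorProduct
open Groth.Agent.Helper13PullbackUnit
open Groth.Agent.Lib.Helper23.ModLocal Groth.Agent.Lib.Helper23.QCohLocal Groth.Agent.Lib.Helper23.FinType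
  Groth.Agent.Lib.Helper20.PullbackAff

namespace Groth.Agent.Helper18OmLS

section retraction
variable {Z X : Scheme.{u}} (i : Z ⟶ X) (g : X ⟶ Z) (hgi : i ≫ g = 𝟙 Z)

include hgi in
theorem apply_apply_eq (z : Z) : g (i z) = z := by
  have : g (i z) = (𝟙 Z : Z ⟶ Z) z := by rw [← hgi]; rfl
  exact this

include hgi in
theorem le_preimage_preimage (T : Z.Opens) : T ≤ i ⁻¹ᵁ (g ⁻¹ᵁ T) := by
  intro z hz
  change g (i z) ∈ T
  rw [apply_apply_eq i g hgi]
  exact hz

theorem id_appLE (T : Z.Opens) (e : T ≤ (𝟙 Z) ⁻¹ᵁ T) (a : Γ(Z, T)) : (𝟙 Z : Z ⟶ Z).appLE T T e a = a := by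
  change (𝟙 Γ(Z, T) ≫ Z.presheaf.map (homOfLE e).op) a = a
  have : (homOfLE e).op = 𝟙 (op T) := rfl
  rw [this, Z.presheaf.map_id, Category.comp_id]
  rfl

include hgi in
theorem appLE_app_eq (T : Z.Opens) (a : Γ(Z, T)) :
    i.appLE (g ⁻¹ᵁ T) T (le_preimage_preimage i g hgi T) (g.app T a) = a := by
  have h1 := Scheme.Hom.comp_appLE i g T T (le_preimage_preimage i g hgi T)
  have h2 := OmegaSh.appLE_congr_hom hgi (U := T) (V := T) (le_preimage_preimage i g hgi T)
    (le_refl _)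
  have h3 := congr($h1 a)
  rw [ConcreteCategory.comp_apply] at h3
  rw [← h3, h2]
  exact id_appLE T _ a

end retraction

section unitSecSrc
variable {X Y : Scheme.{u}} (f : Y ⟶ X) (F : X.Modules)
  {V : X.Opens} {U U' : Y.Opens} (hle : U ≤ f ⁻¹ᵁ V)

theorem unitSec_map_src (h : U' ≤ U) (s : Γ(F, V)) :
    ((Scheme.Modules.pullback f).obj F).presheaf.map (homOfLE h).op (unitSec f F hle s) =
      unitSec f F (h.trans hle) s := by
  rw [unitSec_apply, unitSec_apply]
  exact presheaf_map_map ((Scheme.Modules.pullback f).obj F) hle h _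

end unitSecSrc

section sigma
variable {Z X S : Scheme.{u}} (f : X ⟶ S) (i : Z ⟶ X) (g : X ⟶ Z) (hgi : i ≫ g = 𝟙 Z)
  (hgS : g ≫ i ≫ f = f) {ΩX : X.Modules} (dX : OmegaSh.Der f ΩX)

include hgS in
theorem app_app_comp (W : S.Opens) (c : Γ(S, W)) :
    g.app ((i ≫ f) ⁻¹ᵁ W) ((i ≫ f).app W c) =
      X.presheaf.map (homOfLE (by rw [← Scheme.Hom.comp_preimage, hgS] :
        g ⁻¹ᵁ ((i ≫ f) ⁻¹ᵁ W) ≤ f ⁻¹ᵁ W)).op (f.app W c) := by
  have h1 := Scheme.Hom.congr_app hgS W
  rw [Scheme.Hom.comp_app] at h1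
  exact congr($h1 c)

/-- the derivation `a ↦ i^*(d (g♯ a))` of `O_Z` into `i^*Ω_X` attached to a retraction `g` of `i`. -/
noncomputable def sectionDer : OmegaSh.Der (i ≫ f) ((Scheme.Modules.pullback i).obj ΩX) where
  d {T} := (unitSec i ΩX (le_preimage_preimage i g hgi T.unop)).comp
    ((dX.app (g ⁻¹ᵁ T.unop)).comp (g.app T.unop).hom.toAddMonoidHom)
  d_mul {T} a b := by
    change unitSec i ΩX _ (dX.app _ (g.app T.unop (a * b))) = _
    rw [map_mul, der_mul, map_add, unitSec_smul, unitSec_smul, appLE_app_eq i g hgi,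
      appLE_app_eq i g hgi]
    rfl
  d_map {T T'} k t := by
    change unitSec i ΩX _ (dX.app _ (g.app T'.unop (Z.presheaf.map k t))) = _
    have hk : T'.unop ≤ T.unop := k.unop.le
    have h1 : g.app T'.unop (Z.presheaf.map k t) =
        X.presheaf.map (homOfLE (g.preimage_mono hk)).op (g.app T.unop t) := by
      have := g.naturality k
      exact congr($this t)
    rw [h1, der_map dX (g.preimage_mono hk), unitSec_res i ΩX (g.preimage_mono hk)]
    exact (unitSec_map_src i ΩX (le_preimage_preimage i g hgi T.unop) hk _).symm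
  d_app {W} c := by
    change unitSec i ΩX _ (dX.app _ (g.app ((i ≫ f) ⁻¹ᵁ W.unop) ((i ≫ f).app W.unop c))) = 0
    rw [app_app_comp f i g hgS, der_map dX]
    have h5 : dX.app (f ⁻¹ᵁ W.unop) (f.app W.unop c) = 0 := dX.d_app (X := W) c
    rw [h5, map_zero, map_zero]

theorem sectionDer_app (T : Z.Opens) (a : Γ(Z, T)) :
    (sectionDer f i g hgi hgS dX).app T a =
      unitSec i ΩX (le_preimage_preimage i g hgi T) (dX.app (g ⁻¹ᵁ T) (g.app T a)) := rfl

end sigma

section sigma2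
variable {Z X S : Scheme.{u}} (f : X ⟶ S) (i : Z ⟶ X) (g : X ⟶ Z) (hgi : i ≫ g = 𝟙 Z)
  (hgS : g ≫ i ≫ f = f) {ΩX : X.Modules} (dX : OmegaSh.Der f ΩX)
  {ΩZ : Z.Modules} (dZ : OmegaSh.Der (i ≫ f) ΩZ) (hZ : OmegaSh.IsUniversal dZ)
  (c : (Scheme.Modules.pullback i).obj ΩX ⟶ ΩZ) (hc : OmegaSh.IsDiffCompat i dX dZ c)

include hgi hgS hZ hc in
theorem exists_sigma : ∃ σ : ΩZ ⟶ (Scheme.Modules.pullback i).obj ΩX, σ ≫ c = 𝟙 _ := by
  obtain ⟨σ, hσ, -⟩ := hZ _ (sectionDer f i g hgi hgS dX)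
  refine ⟨σ, ?_⟩
  obtain ⟨α, -, huniq⟩ := hZ ΩZ dZ
  have h1 : dZ.postcomp (σ ≫ c).val = dZ := by
    apply Groth.Agent.Helper18Om.der_ext
    intro T a
    rw [Groth.Agent.Helper18Om.postcomp_app, Scheme.Modules.Hom.comp_app,
      ConcreteCategory.comp_apply]
    have h2 : σ.app T (dZ.app T a) = (sectionDer f i g hgi hgS dX).app T a := by
      have := congrArg (fun D : OmegaSh.Der (i ≫ f) ((Scheme.Modules.pullback i).obj ΩX) =>
        D.app T a) hσ
      exact this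
    rw [h2, sectionDer_app, c_unitSec i f (i ≫ f) dX dZ c hc, appLE_app_eq i g hgi]
  have h2 : dZ.postcomp (𝟙 ΩZ : ΩZ ⟶ ΩZ).val = dZ := by
    apply Groth.Agent.Helper18Om.der_ext
    intro T a
    rfl
  rw [huniq _ h1, huniq _ h2]

end sigma2

end Groth.Agent.Helper18OmLS
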