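import Mathlib
import Groth.Prelude.Def_Omega4
import Groth.Agent.Lib.Helper18OmLS17

set_option autoImplicit false
set_option linter.style.haveILetI false
set_option linter.unusedSectionVars false
set_option linter.unusedVariables false
universe u
open CategoryTheory CategoryTheory.Limits AlgebraicGeometry TopologicalSpace Opposite
open KaehlerDifferential TensorProduct
open Groth.Agent.Helper13PullbackUnit
open Groth.Agent.Lib.Helper23.ModLocal Groth.Agent.Lib.Helper23.QCohLocal Groth.Agent.Lib.Helper23.FinType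
  Groth.Agent.Lib.Helper20.PullbackAff

namespace Groth.Agent.Helper18OmLS

section classOf
variable {Z X : Scheme.{u}} (i : Z ⟶ X) [QuasiCompact i]

open Classical in
/-- the class in the conormal sheaf (over `T ≤ i⁻¹W`) of a function on `W` vanishing on `Z`
(zero for other functions). -/
noncomputable def cls (W : X.Opens) (T : Z.Opens) (hTW : T ≤ i ⁻¹ᵁ W) (x : Γ(X, W)) :
    Γ((Scheme.Modules.pullback i).obj (ClSub.idealMod i.ker), T) :=
  if hx : i.app W x = 0 then
    unitSec i (ClSub.idealMod i.ker) hTW (Classical.choose (exists_idealSect_eq i W x hx))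
  else 0

theorem cls_eq (W : X.Opens) (T : Z.Opens) (hTW : T ≤ i ⁻¹ᵁ W) (x : Γ(X, W))
    (s : Γ(ClSub.idealMod i.ker, W)) (hs : OmegaSh.idealSect i.ker W s = x) :
    cls i W T hTW x = unitSec i (ClSub.idealMod i.ker) hTW s := by
  have hx : i.app W x = 0 := by rw [← hs]; exact app_idealSect_eq_zero i W s
  unfold cls
  rw [dif_pos hx]
  congr 1
  apply idealSect_injective
  rw [Classical.choose_spec (exists_idealSect_eq i W x hx), hs]

theorem cls_zero (W : X.Opens) (T : Z.Opens) (hTW : T ≤ i ⁻¹ᵁ W) :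
    cls i W T hTW 0 = 0 := by
  rw [cls_eq i W T hTW 0 0 (map_zero _), map_zero]

theorem cls_add (W : X.Opens) (T : Z.Opens) (hTW : T ≤ i ⁻¹ᵁ W) (x y : Γ(X, W))
    (hx : i.app W x = 0) (hy : i.app W y = 0) :
    cls i W T hTW (x + y) = cls i W T hTW x + cls i W T hTW y := by
  obtain ⟨sx, hsx⟩ := exists_idealSect_eq i W x hx
  obtain ⟨sy, hsy⟩ := exists_idealSect_eq i W y hy
  rw [cls_eq i W T hTW x sx hsx, cls_eq i W T hTW y sy hsy,
    cls_eq i W T hTW (x + y) (sx + sy) (by rw [map_add, hsx, hsy]), map_add]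

theorem cls_mul (W : X.Opens) (T : Z.Opens) (hTW : T ≤ i ⁻¹ᵁ W) (b x : Γ(X, W))
    (hx : i.app W x = 0) :
    cls i W T hTW (b * x) = (i.appLE W T hTW b) • cls i W T hTW x := by
  obtain ⟨sx, hsx⟩ := exists_idealSect_eq i W x hx
  rw [cls_eq i W T hTW x sx hsx,
    cls_eq i W T hTW (b * x) (b • sx) (by rw [idealSect_smul, hsx]), unitSec_smul]

theorem cls_res (W W' : X.Opens) (T T' : Z.Opens) (hTW : T ≤ i ⁻¹ᵁ W) (hT'W' : T' ≤ i ⁻¹ᵁ W')
    (hW : W' ≤ W) (hT : T' ≤ T) (x : Γ(X, W)) (hx : i.app W x = 0) :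
    cls i W' T' hT'W' (X.presheaf.map (homOfLE hW).op x) =
      ((Scheme.Modules.pullback i).obj (ClSub.idealMod i.ker)).presheaf.map (homOfLE hT).op
        (cls i W T hTW x) := by
  obtain ⟨sx, hsx⟩ := exists_idealSect_eq i W x hx
  rw [cls_eq i W T hTW x sx hsx,
    cls_eq i W' T' hT'W' _ ((ClSub.idealMod i.ker).presheaf.map (homOfLE hW).op sx)
      (by rw [idealSect_res, hsx]),
    unitSec_res i (ClSub.idealMod i.ker) hW hT'W' sx]
  exact (unitSec_map_src i (ClSub.idealMod i.ker) hTW hT sx).symm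

end classOf

section retractDer
variable {Z X S : Scheme.{u}} (f : X ⟶ S) (i : Z ⟶ X) [QuasiCompact i] (g : X ⟶ Z)
  (hgi : i ≫ g = 𝟙 Z) (hgS : g ≫ i ≫ f = f)

/-- `U ∩ g⁻¹ i⁻¹ U` -/
def Uh (U : X.Opens) : X.Opens := U ⊓ g ⁻¹ᵁ (i ⁻¹ᵁ U)

theorem Uh_le_left (U : X.Opens) : Uh i g U ≤ U := inf_le_left
theorem Uh_le_right (U : X.Opens) : Uh i g U ≤ g ⁻¹ᵁ (i ⁻¹ᵁ U) := inf_le_right

include hgi in
theorem le_preimage_Uh (U : X.Opens) : i ⁻¹ᵁ U ≤ i ⁻¹ᵁ (Uh i g U) := by
  intro z hz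
  refine ⟨hz, ?_⟩
  change g (i z) ∈ i ⁻¹ᵁ U
  rw [apply_apply_eq i g hgi]; exact hz

theorem Uh_mono {U U' : X.Opens} (h : U' ≤ U) : Uh i g U' ≤ Uh i g U :=
  inf_le_inf h (g.preimage_mono (i.preimage_mono h))

/-- `b ↦ b - g♯ i♯ b` on `U ∩ g⁻¹ i⁻¹ U`. -/
noncomputable def beta (U : X.Opens) (b : Γ(X, U)) : Γ(X, Uh i g U) :=
  X.presheaf.map (homOfLE (Uh_le_left i g U)).op b -
    X.presheaf.map (homOfLE (Uh_le_right i g U)).op (g.app (i ⁻¹ᵁ U) (i.app U b))

include hgi in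
theorem appLE_left (U : X.Opens) (b : Γ(X, U)) :
    i.appLE (Uh i g U) (i ⁻¹ᵁ U) (le_preimage_Uh i g hgi U)
      (X.presheaf.map (homOfLE (Uh_le_left i g U)).op b) = i.app U b := by
  have h1 := congr($(i.map_appLE (le_preimage_Uh i g hgi U) (homOfLE (Uh_le_left i g U)).op) b)
  rw [ConcreteCategory.comp_apply] at h1
  refine h1.trans ?_
  rw [Scheme.Hom.app_eq_appLE]

include hgi in
theorem appLE_right (U : X.Opens) (y : Γ(Z, i ⁻¹ᵁ U)) :
    i.appLE (Uh i g U) (i ⁻¹ᵁ U) (le_preimage_Uh i g hgi U)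
      (X.presheaf.map (homOfLE (Uh_le_right i g U)).op (g.app (i ⁻¹ᵁ U) y)) = y := by
  have h1 := congr($(i.map_appLE (le_preimage_Uh i g hgi U) (homOfLE (Uh_le_right i g U)).op)
    (g.app (i ⁻¹ᵁ U) y))
  rw [ConcreteCategory.comp_apply] at h1
  refine h1.trans ?_
  exact appLE_app_eq i g hgi (i ⁻¹ᵁ U) y

include hgi in
theorem app_beta (U : X.Opens) (b : Γ(X, U)) : i.app (Uh i g U) (beta i g U b) = 0 := by
  have hres := presheaf_map_bijective_of_eq
    (le_antisymm (le_preimage_Uh i g hgi U) (i.preimage_mono (Uh_le_left i g U)))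
    (homOfLE (le_preimage_Uh i g hgi U))
  apply hres.1
  rw [map_zero]
  change (i.appLE (Uh i g U) (i ⁻¹ᵁ U) (le_preimage_Uh i g hgi U)) (beta i g U b) = 0
  unfold beta
  rw [map_sub, appLE_left i g hgi, appLE_right i g hgi, sub_self]


theorem X_map_map {A B C : X.Opens} (h1 : B ≤ A) (h2 : C ≤ B) (x : Γ(X, A)) :
    X.presheaf.map (homOfLE h2).op (X.presheaf.map (homOfLE h1).op x) =
      X.presheaf.map (homOfLE (h2.trans h1)).op x := by
  rw [← ConcreteCategory.comp_apply, ← Functor.map_comp]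
  rfl

theorem beta_add (U : X.Opens) (a b : Γ(X, U)) :
    beta i g U (a + b) = beta i g U a + beta i g U b := by
  unfold beta
  rw [map_add, map_add, map_add, map_add]
  abel

theorem beta_mul (U : X.Opens) (a b : Γ(X, U)) :
    beta i g U (a * b) = X.presheaf.map (homOfLE (Uh_le_left i g U)).op a * beta i g U b +
      X.presheaf.map (homOfLE (Uh_le_right i g U)).op (g.app (i ⁻¹ᵁ U) (i.app U b)) *
        beta i g U a := by
  unfold beta
  rw [map_mul, map_mul, map_mul, map_mul]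
  ring

theorem beta_res {U U' : X.Opens} (hk : U' ≤ U) (b : Γ(X, U)) :
    beta i g U' (X.presheaf.map (homOfLE hk).op b) =
      X.presheaf.map (homOfLE (Uh_mono i g hk)).op (beta i g U b) := by
  unfold beta
  rw [map_sub, X_map_map, X_map_map]
  congr 1
  have h1 : i.app U' (X.presheaf.map (homOfLE hk).op b) =
      Z.presheaf.map (homOfLE (i.preimage_mono hk)).op (i.app U b) := by
    have := i.naturality (homOfLE hk).op
    exact congr($this b)
  have h2 : g.app (i ⁻¹ᵁ U') (Z.presheaf.map (homOfLE (i.preimage_mono hk)).op (i.app U b)) =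
      X.presheaf.map (homOfLE (g.preimage_mono (i.preimage_mono hk))).op
        (g.app (i ⁻¹ᵁ U) (i.app U b)) := by
    have := g.naturality (homOfLE (i.preimage_mono hk)).op
    exact congr($this (i.app U b))
  rw [h1, h2, X_map_map, X_map_map]

include hgS in
theorem beta_app (W : S.Opens) (c : Γ(S, W)) : beta i g (f ⁻¹ᵁ W) (f.app W c) = 0 := by
  unfold beta
  have h1 : i.app (f ⁻¹ᵁ W) (f.app W c) = (i ≫ f).app W c := by
    rw [Scheme.Hom.comp_app]
    rfl
  have h2 := app_app_comp f i g hgS W c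
  rw [sub_eq_zero, h1]
  refine Eq.trans ?_ (congrArg (X.presheaf.map (homOfLE (Uh_le_right i g (f ⁻¹ᵁ W))).op) h2).symm
  exact (X_map_map (X := X) _ _ _).symm

/-- the derivation `b ↦ [b - g♯ i♯ b]` of `O_X` into `i_* C_{Z/X}` attached to a retraction `g` of `i`. -/
noncomputable def retractDer : OmegaSh.Der f ((Scheme.Modules.pushforward i).obj
    ((Scheme.Modules.pullback i).obj (ClSub.idealMod i.ker))) where
  d {U} := AddMonoidHom.mk' (fun b => cls i (Uh i g U.unop) (i ⁻¹ᵁ U.unop)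
      (le_preimage_Uh i g hgi U.unop) (beta i g U.unop b)) (fun a b => by
    rw [beta_add, cls_add i _ _ _ _ _ (app_beta i g hgi _ a) (app_beta i g hgi _ b)]
    rfl)
  d_mul {U} a b := by
    change cls i _ _ _ (beta i g U.unop (a * b)) = _
    rw [beta_mul, cls_add i _ _ _ _ _
      (by rw [map_mul, app_beta i g hgi, mul_zero]) (by rw [map_mul, app_beta i g hgi, mul_zero]),
      cls_mul i _ _ _ _ _ (app_beta i g hgi _ b), cls_mul i _ _ _ _ _ (app_beta i g hgi _ a),
      appLE_left i g hgi, appLE_right i g hgi]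
    rfl
  d_map {U U'} k b := by
    have hk : U'.unop ≤ U.unop := k.unop.le
    change cls i _ _ _ (beta i g U'.unop (X.presheaf.map k b)) = _
    have hkb : X.presheaf.map k b = X.presheaf.map (homOfLE hk).op b := rfl
    rw [hkb, beta_res i g hk, cls_res i (Uh i g U.unop) (Uh i g U'.unop) (i ⁻¹ᵁ U.unop)
      (i ⁻¹ᵁ U'.unop) (le_preimage_Uh i g hgi U.unop) (le_preimage_Uh i g hgi U'.unop)
      (Uh_mono i g hk) (i.preimage_mono hk) _ (app_beta i g hgi _ b)]
    rfl
  d_app {W} c := by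
    change cls i _ _ _ (beta i g (f ⁻¹ᵁ W.unop) (f.app W.unop c)) = 0
    rw [beta_app f i g hgS, cls_zero]

theorem retractDer_app (U : X.Opens) (b : Γ(X, U)) :
    (retractDer f i g hgi hgS).app U b =
      cls i (Uh i g U) (i ⁻¹ᵁ U) (le_preimage_Uh i g hgi U) (beta i g U b) := rfl

end retractDer

section main9384
variable {Z X S : Scheme.{u}} (f : X ⟶ S) (i : Z ⟶ X) [IsImmersion i] [QuasiCompact i]
    (g : X ⟶ Z) (hgi : i ≫ g = 𝟙 Z) (hgS : g ≫ i ≫ f = f)
    (ΩX : X.Modules) (dX : OmegaSh.Der f ΩX) (hX : OmegaSh.IsUniversal dX)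
    (ΩZ : Z.Modules) (dZ : OmegaSh.Der (i ≫ f) ΩZ) (hZ : OmegaSh.IsUniversal dZ)
    (φ : Omega.conormal i ⟶ (Scheme.Modules.pullback i).obj ΩX) (hφ : OmegaSh.IsConormalDiff i dX φ)
    (c : (Scheme.Modules.pullback i).obj ΩX ⟶ ΩZ) (hc : OmegaSh.IsDiffCompat i dX dZ c)

include hgi hgS hX hφ in
theorem exists_r : ∃ r : (Scheme.Modules.pullback i).obj ΩX ⟶ Omega.conormal i, φ ≫ r = 𝟙 _ := by
  obtain ⟨α, hα, -⟩ := hX _ (retractDer f i g hgi hgS)
  let e := (Scheme.Modules.pullbackPushforwardAdjunction i).homEquiv ΩX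
    ((Scheme.Modules.pullback i).obj (ClSub.idealMod i.ker))
  refine ⟨e.symm α, ?_⟩
  refine pullback_hom_ext i (M := ClSub.idealMod i.ker) (φ ≫ e.symm α) (𝟙 _) fun U s => ?_
  change (e.symm α).app (i ⁻¹ᵁ U) (φ.app (i ⁻¹ᵁ U) (OmegaSh.conormalSect i U s)) =
    OmegaSh.pullSect i _ U s
  rw [hφ U s]
  have h1 := Groth.Agent.Helper18Om.homEquiv_app i (e.symm α) U
    (dX.app U (OmegaSh.idealSect i.ker U s))
  have h1' : ((Scheme.Modules.pullbackPushforwardAdjunction i).homEquiv ΩX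
    ((Scheme.Modules.pullback i).obj (ClSub.idealMod i.ker)) (e.symm α)) = α :=
    e.apply_symm_apply α
  rw [h1'] at h1
  rw [← h1]
  have h2 : α.app U (dX.app U (OmegaSh.idealSect i.ker U s)) =
      (retractDer f i g hgi hgS).app U (OmegaSh.idealSect i.ker U s) := by
    have := congrArg (fun D : OmegaSh.Der f ((Scheme.Modules.pushforward i).obj
      ((Scheme.Modules.pullback i).obj (ClSub.idealMod i.ker))) =>
        D.app U (OmegaSh.idealSect i.ker U s)) hα
    exact this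
  rw [h2, retractDer_app]
  have h3 : beta i g U (OmegaSh.idealSect i.ker U s) =
      X.presheaf.map (homOfLE (Uh_le_left i g U)).op (OmegaSh.idealSect i.ker U s) := by
    unfold beta
    rw [app_idealSect_eq_zero, map_zero, map_zero, sub_zero]
  rw [h3, cls_eq i _ _ _ _ ((ClSub.idealMod i.ker).presheaf.map (homOfLE (Uh_le_left i g U)).op s)
    (idealSect_res i.ker (Uh_le_left i g U) s), unitSec_res, unitSec_apply]
  exact presheaf_map_homOfLE_refl _ _ _

include hgi hgS hX hZ hφ hc in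
theorem main_S9384 : ∃ w : φ ≫ c = 0, (ShortComplex.mk φ c w).Exact ∧
    (∃ r : (Scheme.Modules.pullback i).obj ΩX ⟶ Omega.conormal i, φ ≫ r = 𝟙 _) ∧
      ∃ σ : ΩZ ⟶ (Scheme.Modules.pullback i).obj ΩX, σ ≫ c = 𝟙 _ := by
  obtain ⟨-, him⟩ := main_S5976 f i ΩX dX hX ΩZ dZ hZ φ hφ c hc
  have w : φ ≫ c = 0 := by
    refine pullback_hom_ext i (M := ClSub.idealMod i.ker) (φ ≫ c) 0 fun V s => ?_
    change c.app (i ⁻¹ᵁ V) (φ.app (i ⁻¹ᵁ V) (OmegaSh.conormalSect i V s)) = 0
    rw [hφ V s, hc V, app_idealSect_eq_zero, map_zero]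
  exact ⟨w, (ShortComplex.exact_iff_image_eq_kernel (ShortComplex.mk φ c w)).mpr him,
    exists_r f i g hgi hgS ΩX dX hX φ hφ, exists_sigma f i g hgi hgS dX dZ hZ c hc⟩

end main9384

end Groth.Agent.Helper18OmLS
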