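import Mathlib
import Groth.Prelude.Def_Omega4
import Groth.Prelude.Def_RegImm
import Groth.Agent.Lib.Helper18OmLS16
import Groth.Agent.Lib.Helper18OmLS15
import Groth.Agent.Lib.Helper18OmLS18
import Groth.Agent.Lib.Helper18H1ConA

set_option autoImplicit false
set_option linter.style.haveILetI false
set_option linter.unusedSectionVars false
set_option linter.unusedVariables false
universe u
open CategoryTheory AlgebraicGeometry Limits TopologicalSpace Opposite TensorProduct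

namespace Groth.Agent.Helper18CInt

open Groth.Agent.Helper18OmLS Groth.Agent.Helper18Om Groth.Agent.Helper18H1Con
open Groth.Agent.Helper13PullbackUnit

section free
variable {Z Y : Scheme.{u}} (i : Z ⟶ Y) [IsClosedImmersion i]
  {U : Y.Opens} (hU : IsAffineOpen U)

theorem cls_sum {A : Type*} [Fintype A] (b : A → Γ(Y, U)) (r : A → Γ(Y, U))
    (hr : ∀ a, i.app U (r a) = 0) :
    cls i U (i ⁻¹ᵁ U) le_rfl (∑ a, b a * r a) =
      ∑ a, (i.appLE U (i ⁻¹ᵁ U) le_rfl (b a)) • cls i U (i ⁻¹ᵁ U) le_rfl (r a) := by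
  have ht0 : ∀ a, ∃ t : Γ(ClSub.idealMod i.ker, U), OmegaSh.idealSect i.ker U t = r a :=
    fun a => exists_idealSect_eq i U _ (hr a)
  choose t ht using ht0
  have h1 : OmegaSh.idealSect i.ker U (∑ a, b a • t a) = ∑ a, b a * r a := by
    rw [map_sum]
    refine Finset.sum_congr rfl fun a _ => ?_
    rw [idealSect_smul, ht]
  rw [cls_eq i U (i ⁻¹ᵁ U) le_rfl _ _ h1, map_sum]
  refine Finset.sum_congr rfl fun a _ => ?_
  rw [unitSec_smul, cls_eq i U (i ⁻¹ᵁ U) le_rfl _ _ (ht a)]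

include hU in
/-- the classes of generators of the ideal span the sections of the conormal sheaf. -/
theorem conormal_span {A : Type*} [Fintype A] (r : A → Γ(Y, U))
    (hker : RingHom.ker (i.app U).hom = Ideal.span (Set.range r)) :
    ⊤ ≤ Submodule.span Γ(Z, i ⁻¹ᵁ U)
      (Set.range (fun a => cls i U (i ⁻¹ᵁ U) le_rfl (r a))) := by
  have hT : IsAffineOpen (i ⁻¹ᵁ U) := hU.preimage i
  letI algBC : Algebra Γ(Y, U) Γ(Z, i ⁻¹ᵁ U) := (i.appLE U (i ⁻¹ᵁ U) le_rfl).hom.toAlgebra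
  have hBC : Function.Surjective (algebraMap Γ(Y, U) Γ(Z, i ⁻¹ᵁ U)) := by
    have := i.app_surjective U hU
    rw [Scheme.Hom.app_eq_appLE] at this
    exact this
  have hr : ∀ a, i.app U (r a) = 0 := by
    intro a
    have : r a ∈ RingHom.ker (i.app U).hom := by
      rw [hker]
      exact Ideal.subset_span ⟨a, rfl⟩
    exact this
  intro n _
  obtain ⟨s, rfl⟩ := exists_unitSec_eq i (ClSub.idealMod i.ker) (le_refl (i ⁻¹ᵁ U)) hU hT rfl hBC n
  have h1 : OmegaSh.idealSect i.ker U s ∈ Ideal.span (Set.range r) := by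
    rw [← hker]
    exact app_idealSect_eq_zero i U s
  obtain ⟨b, hb⟩ := (Ideal.mem_span_range_iff_exists_fun).mp h1
  rw [← cls_eq i U (i ⁻¹ᵁ U) le_rfl _ s rfl, ← hb, cls_sum i b r hr]
  exact Submodule.sum_mem _ fun a _ => Submodule.smul_mem _ _ (Submodule.subset_span ⟨a, rfl⟩)

include hU in
/-- the classes of an `H_1`-regular generating sequence are linearly independent. -/
theorem conormal_linearIndependent {n : ℕ} (r : Fin n → Γ(Y, U)) (hseq : CAlgX.IsH1Regular r)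
    (hker : RingHom.ker (i.app U).hom = Ideal.span (Set.range r)) :
    LinearIndependent Γ(Z, i ⁻¹ᵁ U) (fun k => cls i U (i ⁻¹ᵁ U) le_rfl (r k)) := by
  have hT : IsAffineOpen (i ⁻¹ᵁ U) := hU.preimage i
  letI algBC : Algebra Γ(Y, U) Γ(Z, i ⁻¹ᵁ U) := (i.appLE U (i ⁻¹ᵁ U) le_rfl).hom.toAlgebra
  have hBC : Function.Surjective (algebraMap Γ(Y, U) Γ(Z, i ⁻¹ᵁ U)) := by
    have := i.app_surjective U hU
    rw [Scheme.Hom.app_eq_appLE] at this
    exact this
  have hkerI : ∀ x : Γ(Y, U), x ∈ RingHom.ker (algebraMap Γ(Y, U) Γ(Z, i ⁻¹ᵁ U)) ↔ i.app U x = 0 := by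
    intro x
    rw [RingHom.mem_ker]
    change (i.appLE U (i ⁻¹ᵁ U) le_rfl) x = 0 ↔ _
    rw [← Scheme.Hom.app_eq_appLE]
  have hkerBC : RingHom.ker (algebraMap Γ(Y, U) Γ(Z, i ⁻¹ᵁ U)) = Ideal.span (Set.range r) := by
    have h1 : RingHom.ker (algebraMap Γ(Y, U) Γ(Z, i ⁻¹ᵁ U)) = RingHom.ker (i.app U).hom := by
      ext x
      rw [hkerI, RingHom.mem_ker]
    rw [h1, hker]
  have hr : ∀ a, i.app U (r a) = 0 := by
    intro a
    rw [← hkerI, hkerBC]
    exact Ideal.subset_span ⟨a, rfl⟩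
  rw [Fintype.linearIndependent_iff]
  intro c hc k
  have hb0 := fun k => hBC (c k)
  choose b hb using hb0
  have ht0 : ∀ a, ∃ t : Γ(ClSub.idealMod i.ker, U), OmegaSh.idealSect i.ker U t = r a :=
    fun a => exists_idealSect_eq i U _ (hr a)
  choose t ht using ht0
  have hidsum : OmegaSh.idealSect i.ker U (∑ k, b k • t k) = ∑ k, b k * r k := by
    rw [map_sum]
    refine Finset.sum_congr rfl fun k _ => ?_
    rw [idealSect_smul, ht]
  have h1 : unitSec i (ClSub.idealMod i.ker) (le_refl (i ⁻¹ᵁ U)) (∑ k, b k • t k) = 0 := by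
    rw [← cls_eq i U (i ⁻¹ᵁ U) le_rfl _ _ hidsum, cls_sum i b r hr]
    refine Eq.trans ?_ hc
    refine Finset.sum_congr rfl fun k _ => ?_
    rw [← hb k]
    rfl
  obtain ⟨e, he⟩ := exists_pullback_equiv i (ClSub.idealMod i.ker) (le_refl (i ⁻¹ᵁ U)) hU hT rfl
  have h2 : (1 : Γ(Z, i ⁻¹ᵁ U)) ⊗ₜ[Γ(Y, U)] (∑ k, b k • t k) = 0 := by
    apply e.injective
    rw [he, one_smul, map_zero]
    exact h1
  have h3 := mem_smul_top_of_one_tmul_eq_zero' hBC _ h2
  have h4 : ∀ s ∈ (RingHom.ker (algebraMap Γ(Y, U) Γ(Z, i ⁻¹ᵁ U)) • ⊤ :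
      Submodule Γ(Y, U) Γ(ClSub.idealMod i.ker, U)),
      OmegaSh.idealSect i.ker U s ∈ (RingHom.ker (algebraMap Γ(Y, U) Γ(Z, i ⁻¹ᵁ U))) ^ 2 := by
    intro s hs
    refine Submodule.smul_induction_on hs ?_ ?_
    · intro x hx s' _
      rw [idealSect_smul, pow_two]
      exact Ideal.mul_mem_mul hx ((hkerI _).mpr (app_idealSect_eq_zero i U s'))
    · intro x y hx hy
      rw [map_add]
      exact Ideal.add_mem _ hx hy
  have h5 := h4 _ h3
  rw [hidsum, hkerBC] at h5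
  have h6 := coeff_mem_of_sum_mem_sq r hseq b h5 k
  rw [← hkerBC, RingHom.mem_ker, hb] at h6
  exact h6

end free

end Groth.Agent.Helper18CInt
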