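import Mathlib
import Groth.Prelude.Def_Omega4
import Groth.Agent.Lib.Helper18Om1
import Groth.Agent.Lib.Helper18OmLS2

set_option autoImplicit false
set_option linter.style.haveILetI false
universe u
open CategoryTheory CategoryTheory.Limits AlgebraicGeometry TopologicalSpace Opposite
open KaehlerDifferential

namespace Groth.Agent.Helper18OmLS

section S5947
variable (A B : Type u) [CommRing A] [CommRing B] [Algebra A B]
    (L : Type u) [AddCommGroup L] [Module B L] [Module A L] [IsScalarTower A B L]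

theorem top_smul_eq (R : CommRingCat.{u}) (M : (Spec R).Modules) (b : R) (x : Γ(M, ⊤)) :
    b • x = (Scheme.ΓSpecIso R).inv b • x := by
  rw [Scheme.Modules.smul_Spec_def]
  congr 1

/-- inverse of `tilde.isoTop` as an additive map on the scheme-library section type. -/
noncomputable def isoTopInv {R : CommRingCat.{u}} (M : ModuleCat.{u} R) : Γ(tilde M, ⊤) →+ M :=
  (tilde.isoTop M).inv.hom.toAddMonoidHom

theorem isoTopInv_smul {R : CommRingCat.{u}} (M : ModuleCat.{u} R) (b : R) (x : Γ(tilde M, ⊤)) :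
    isoTopInv M ((Scheme.ΓSpecIso R).inv b • x) = b • isoTopInv M x := by
  rw [← top_smul_eq]
  exact (tilde.isoTop M).inv.hom.map_smul b x

theorem hom_isoTopInv {R : CommRingCat.{u}} (M : ModuleCat.{u} R) (x : Γ(tilde M, ⊤)) :
    (tilde.isoTop M).hom (isoTopInv M x) = x :=
  congr($((tilde.isoTop M).inv_hom_id) x)

theorem isoTopInv_hom {R : CommRingCat.{u}} (M : ModuleCat.{u} R) (m : M) :
    isoTopInv M ((tilde.isoTop M).hom m) = m :=
  congr($((tilde.isoTop M).hom_inv_id) m)

theorem part1_S5947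
    (D : OmegaSh.Der (Spec.map (CommRingCat.ofHom (algebraMap A B)))
      (tilde (ModuleCat.of (CommRingCat.of B) L))) :
    ∃ δ : Derivation A B L, ∀ t : B, D.app ⊤ ((Scheme.ΓSpecIso (CommRingCat.of B)).inv t) =
        (tilde.isoTop (ModuleCat.of (CommRingCat.of B) L)).hom (δ t) := by
  let R := CommRingCat.of B
  let M := ModuleCat.of (CommRingCat.of B) L
  have hD0 : ∀ a : A, D.app ⊤ ((Scheme.ΓSpecIso R).inv (algebraMap A B a)) = 0 := by
    intro a
    have h1 := D.d_app (X := op ⊤) ((Scheme.ΓSpecIso (CommRingCat.of A)).inv a)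
    have h2 : (Scheme.ΓSpecIso R).inv (algebraMap A B a) =
        (Spec.map (CommRingCat.ofHom (algebraMap A B))).appTop
          ((Scheme.ΓSpecIso (CommRingCat.of A)).inv a) := by
      have := Scheme.ΓSpecIso_inv_naturality (CommRingCat.ofHom (algebraMap A B))
      exact congr($this a)
    rw [h2]
    exact h1
  have hmul : ∀ a b : B, D.app ⊤ ((Scheme.ΓSpecIso R).inv (a * b)) =
      (Scheme.ΓSpecIso R).inv a • D.app ⊤ ((Scheme.ΓSpecIso R).inv b) +
        (Scheme.ΓSpecIso R).inv b • D.app ⊤ ((Scheme.ΓSpecIso R).inv a) := by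
    intro a b
    rw [map_mul]
    exact D.d_mul _ _
  let δ₀ : B →+ L :=
    { toFun := fun t => isoTopInv M (D.app ⊤ ((Scheme.ΓSpecIso R).inv t))
      map_zero' := by
        rw [map_zero, map_zero, map_zero]
      map_add' := fun a b => by
        rw [map_add, map_add, map_add] }
  have hδmul : ∀ a b : B, δ₀ (a * b) = a • δ₀ b + b • δ₀ a := by
    intro a b
    change isoTopInv M (D.app ⊤ ((Scheme.ΓSpecIso R).inv (a * b))) = _
    rw [hmul, map_add, isoTopInv_smul, isoTopInv_smul]
    rfl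
  have hδ0 : ∀ a : A, δ₀ (algebraMap A B a) = 0 := by
    intro a
    change isoTopInv M (D.app ⊤ ((Scheme.ΓSpecIso R).inv (algebraMap A B a))) = _
    rw [hD0, map_zero]
  let δ₁ : B →ₗ[A] L :=
    { toFun := δ₀
      map_add' := δ₀.map_add
      map_smul' := fun a b => by
        rw [Algebra.smul_def, hδmul, hδ0, smul_zero, add_zero, RingHom.id_apply, algebraMap_smul] }
  refine ⟨Derivation.mk' δ₁ hδmul, fun t => ?_⟩
  exact (hom_isoTopInv M _).symm

theorem der_ext_of_top {R : CommRingCat.{u}} {Y₁ : Scheme.{u}} {g : Spec R ⟶ Y₁} {F : (Spec R).Modules}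
    (D₁ D₂ : OmegaSh.Der g F)
    (h : ∀ t : R, D₁.app ⊤ ((Scheme.ΓSpecIso R).inv t) = D₂.app ⊤ ((Scheme.ΓSpecIso R).inv t)) :
    D₁ = D₂ := by
  apply Groth.Agent.Helper18Om.der_ext
  intro U s
  refine der_eq_of_affine D₁ D₂ (isAffineOpen_top (Spec R)) ?_ le_top s
  intro s
  obtain ⟨t, rfl⟩ : ∃ t, (Scheme.ΓSpecIso R).inv t = s :=
    ⟨(Scheme.ΓSpecIso R).hom s, congr($((Scheme.ΓSpecIso R).hom_inv_id) s)⟩
  exact h t

theorem dt_inv (A B : CommRingCat.{u}) [Algebra A B] (t : B) :
    (dt A B).app ⊤ ((Scheme.ΓSpecIso B).inv t) =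
      (tilde.toOpen (ModuleCat.of B Ω[B⁄A]) ⊤).hom (D A B t) := by
  have h1 : (Scheme.ΓSpecIso B).inv t = algebraMap B Γ(Spec B, ⊤) t := rfl
  rw [h1, dt_algebraMap]

theorem part2_S5947 (δ : Derivation A B L) :
    ∃! D : OmegaSh.Der (Spec.map (CommRingCat.ofHom (algebraMap A B)))
        (tilde (ModuleCat.of (CommRingCat.of B) L)),
      ∀ t : B, D.app ⊤ ((Scheme.ΓSpecIso (CommRingCat.of B)).inv t) =
        (tilde.isoTop (ModuleCat.of (CommRingCat.of B) L)).hom (δ t) := by
  let l : ModuleCat.of (CommRingCat.of B) Ω[B⁄A] ⟶ ModuleCat.of (CommRingCat.of B) L :=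
    ModuleCat.ofHom δ.liftKaehlerDifferential
  have hex : ∀ t : B, OmegaSh.Der.app (f := Spec.map (CommRingCat.ofHom (algebraMap A B)))
      (F := tilde (ModuleCat.of (CommRingCat.of B) L))
      ((dt (CommRingCat.of A) (CommRingCat.of B)).postcomp (tilde.map l).val) ⊤
        ((Scheme.ΓSpecIso (CommRingCat.of B)).inv t) =
        (tilde.isoTop (ModuleCat.of (CommRingCat.of B) L)).hom (δ t) := by
    intro t
    change (tilde.map l).app ⊤ ((dt (CommRingCat.of A) (CommRingCat.of B)).app ⊤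
      ((Scheme.ΓSpecIso (CommRingCat.of B)).inv t)) = _
    rw [dt_inv]
    have h2 := tilde.toOpen_map_app l ⊤
    have h3 := congr($h2 (D A B t))
    simp only [tilde.isoTop_hom]
    refine h3.trans ?_
    change (tilde.toOpen (ModuleCat.of (CommRingCat.of B) L) ⊤).hom
      (δ.liftKaehlerDifferential (D A B t)) = _
    rw [Derivation.liftKaehlerDifferential_comp_D]
  refine ⟨(dt (CommRingCat.of A) (CommRingCat.of B)).postcomp (tilde.map l).val, hex, ?_⟩
  intro D' hD'
  apply der_ext_of_top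
  intro t
  exact (hD' t).trans (hex t).symm

theorem main_S5947 :
    (∀ D : OmegaSh.Der (Spec.map (CommRingCat.ofHom (algebraMap A B))) (tilde (ModuleCat.of (CommRingCat.of B) L)),
      ∃ δ : Derivation A B L, ∀ t : B, D.app ⊤ ((Scheme.ΓSpecIso (CommRingCat.of B)).inv t) =
        (tilde.isoTop (ModuleCat.of (CommRingCat.of B) L)).hom (δ t)) ∧
    ∀ δ : Derivation A B L,
      ∃! D : OmegaSh.Der (Spec.map (CommRingCat.ofHom (algebraMap A B))) (tilde (ModuleCat.of (CommRingCat.of B) L)),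
        ∀ t : B, D.app ⊤ ((Scheme.ΓSpecIso (CommRingCat.of B)).inv t) =
          (tilde.isoTop (ModuleCat.of (CommRingCat.of B) L)).hom (δ t) :=
  ⟨part1_S5947 A B L, part2_S5947 A B L⟩

end S5947

end Groth.Agent.Helper18OmLS
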