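import Mathlib
import Groth.Prelude.Def_Omega4
import Groth.Agent.Lib.Helper18Om1
import Groth.Agent.Lib.Helper18OmLS2
import Groth.Agent.Lib.Helper18OmLS19

set_option autoImplicit false
set_option linter.style.haveILetI false
universe u
open CategoryTheory CategoryTheory.Limits AlgebraicGeometry TopologicalSpace Opposite
open KaehlerDifferential

namespace Groth.Agent.Helper18OmLS

variable {X Y₁ Y₂ : Scheme.{u}}

/-- change the base morphism of a derivation, given the vanishing condition. -/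
def changeBase {g₁ : X ⟶ Y₁} {g₂ : X ⟶ Y₂} {F : X.Modules} (D : OmegaSh.Der g₁ F)
    (h : ∀ (V : Y₂.Opens) (c : Γ(Y₂, V)), D.app (g₂ ⁻¹ᵁ V) (g₂.app V c) = 0) : OmegaSh.Der g₂ F where
  d := D.d
  d_mul := D.d_mul
  d_map := D.d_map
  d_app {V} c := h V.unop c

theorem changeBase_app {g₁ : X ⟶ Y₁} {g₂ : X ⟶ Y₂} {F : X.Modules} (D : OmegaSh.Der g₁ F)
    (h : ∀ (V : Y₂.Opens) (c : Γ(Y₂, V)), D.app (g₂ ⁻¹ᵁ V) (g₂.app V c) = 0) (U : X.Opens)
    (s : Γ(X, U)) : (changeBase D h).app U s = D.app U s := rfl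

theorem app_comp_eq_zero {g₁ : X ⟶ Y₁} {F : X.Modules} (D : OmegaSh.Der g₁ F) (e : Y₁ ⟶ Y₂)
    (g₂ : X ⟶ Y₂) (hg : g₂ = g₁ ≫ e) (V : Y₂.Opens) (c : Γ(Y₂, V)) :
    D.app (g₂ ⁻¹ᵁ V) (g₂.app V c) = 0 := by
  subst hg
  exact D.d_app (X := op (e ⁻¹ᵁ V)) (e.app V c)

theorem eq_specMap_comp {R : CommRingCat.{u}} {S : Scheme.{u}} [IsAffine S] (g : Spec R ⟶ S) :
    g = Spec.map (g.appTop ≫ (Scheme.ΓSpecIso R).hom) ≫ S.isoSpec.inv := by
  rw [Iso.eq_comp_inv, ← Scheme.isoSpec_hom_naturality, Scheme.isoSpec_Spec_hom, ← Spec.map_comp]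

theorem homEquiv_symm_app_toOpen {R : CommRingCat.{u}} (M : ModuleCat.{u} R) (F : (Spec R).Modules)
    (l : M ⟶ moduleSpecΓFunctor.obj F) (m : M) :
    ((tilde.adjunction.homEquiv M F).symm l).app ⊤ ((tilde.toOpen M ⊤).hom m) = l.hom m := by
  rw [Adjunction.homEquiv_counit]
  have h1 := tilde.toOpen_map_app l ⊤
  have h2 := Scheme.Modules.toOpen_fromTildeΓ_app F ⊤
  have h3 := congr($h1 m)
  have h4 := congr($h2 (l.hom m))
  change (Scheme.Modules.fromTildeΓ F).app ⊤ ((tilde.map l).app ⊤ ((tilde.toOpen M ⊤).hom m)) = _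
  refine (congrArg ((Scheme.Modules.fromTildeΓ F).app ⊤) h3).trans ?_
  refine h4.trans ?_
  have h5 : (modulesSpecToSheaf.obj F).obj.map (homOfLE (le_top : (⊤ : (Spec R).Opens) ≤ ⊤)).op = 𝟙 _ := by
    have : (homOfLE (le_top : (⊤ : (Spec R).Opens) ≤ ⊤)).op = 𝟙 _ := Subsingleton.elim _ _
    rw [this]
    exact (modulesSpecToSheaf.obj F).obj.map_id _
  exact congr($h5 (l.hom m))

theorem exists_der_spec {R : CommRingCat.{u}} {S : Scheme.{u}} [IsAffine S] (g : Spec R ⟶ S)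
    (F : (Spec R).Modules) (δ : Γ(Spec R, ⊤) →+ Γ(F, ⊤))
    (hmul : ∀ a b : Γ(Spec R, ⊤), δ (a * b) = a • δ b + b • δ a)
    (h0 : ∀ c : Γ(S, ⊤), δ (g.appTop c) = 0) :
    ∃ D : OmegaSh.Der g F, ∀ s, D.app ⊤ s = δ s := by
  let A : CommRingCat.{u} := Γ(S, ⊤)
  let ψ : A ⟶ R := g.appTop ≫ (Scheme.ΓSpecIso R).hom
  letI : Algebra A R := ψ.hom.toAlgebra
  let N : ModuleCat.{u} R := moduleSpecΓFunctor.obj F
  letI : Module A N := Module.compHom N ψ.hom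
  haveI : IsScalarTower A R N := IsScalarTower.of_algebraMap_smul fun _ _ => rfl
  let δ₀ : R →+ N :=
    { toFun := fun t => (δ ((Scheme.ΓSpecIso R).inv t) : Γ(F, ⊤))
      map_zero' := by rw [map_zero, map_zero]; rfl
      map_add' := fun a b => by rw [map_add, map_add]; rfl }
  have hδ₀ : ∀ t : R, δ₀ t = (δ ((Scheme.ΓSpecIso R).inv t) : Γ(F, ⊤)) := fun _ => rfl
  have hδmul : ∀ a b : R, δ₀ (a * b) = a • δ₀ b + b • δ₀ a := by
    intro a b
    rw [hδ₀, map_mul, hmul]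
    rfl
  have hinvψ : ∀ c : A, (Scheme.ΓSpecIso R).inv (ψ.hom c) = g.appTop c := by
    intro c
    exact congr($((Scheme.ΓSpecIso R).hom_inv_id) (g.appTop c))
  have hδ0 : ∀ c : A, δ₀ (ψ.hom c) = 0 := by
    intro c
    rw [hδ₀, hinvψ, h0]
    rfl
  let δ₁ : R →ₗ[A] N :=
    { toFun := δ₀
      map_add' := δ₀.map_add
      map_smul' := fun c t => by
        rw [Algebra.smul_def]
        change δ₀ (ψ.hom c * t) = _
        rw [hδmul, hδ0, smul_zero, add_zero]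
        rfl }
  let dN : Derivation A R N := Derivation.mk' δ₁ hδmul
  let lC : ModuleCat.of R Ω[R⁄A] ⟶ N :=
    @ModuleCat.ofHom R _ Ω[R⁄A] N _ _ N.isAddCommGroup N.isModule dN.liftKaehlerDifferential
  let α : tilde (ModuleCat.of R Ω[R⁄A]) ⟶ F := (tilde.adjunction.homEquiv _ _).symm lC
  let D₀ : OmegaSh.Der (Spec.map (CommRingCat.ofHom (algebraMap A R))) F := (dt A R).postcomp α.val
  have hD₀ : ∀ t : R, D₀.app ⊤ ((Scheme.ΓSpecIso R).inv t) = δ ((Scheme.ΓSpecIso R).inv t) := by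
    intro t
    change α.app ⊤ ((dt A R).app ⊤ ((Scheme.ΓSpecIso R).inv t)) = _
    rw [dt_inv]
    refine (homEquiv_symm_app_toOpen _ F lC _).trans ?_
    change dN.liftKaehlerDifferential (D A R t) = _
    rw [Derivation.liftKaehlerDifferential_comp_D]
    rfl
  have hg : g = Spec.map (CommRingCat.ofHom (algebraMap A R)) ≫ S.isoSpec.inv := eq_specMap_comp g
  refine ⟨changeBase D₀ (app_comp_eq_zero D₀ _ g hg), fun s => ?_⟩
  rw [changeBase_app]
  obtain ⟨t, rfl⟩ : ∃ t, (Scheme.ΓSpecIso R).inv t = s :=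
    ⟨(Scheme.ΓSpecIso R).hom s, congr($((Scheme.ΓSpecIso R).hom_inv_id) s)⟩
  exact hD₀ t

theorem exists_der_affine {X S : Scheme.{u}} [IsAffine X] [IsAffine S] (f : X ⟶ S) (F : X.Modules)
    (δ : Γ(X, ⊤) →+ Γ(F, ⊤))
    (hmul : ∀ a b : Γ(X, ⊤), δ (a * b) = a • δ b + b • δ a)
    (h0 : ∀ c : Γ(S, ⊤), δ (f.appTop c) = 0) :
    ∃ D : OmegaSh.Der f F, D.app ⊤ = δ := by
  let B : CommRingCat.{u} := Γ(X, ⊤)
  let φ : X ≅ Spec B := X.isoSpec
  let j : Spec B ⟶ X := φ.inv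
  let F' : (Spec B).Modules := (Scheme.Modules.pushforward φ.hom).obj F
  have hφj : φ.hom ≫ j = 𝟙 X := φ.hom_inv_id
  have hjφ : j ≫ φ.hom = 𝟙 _ := φ.inv_hom_id
  let ε : (Scheme.Modules.pushforward j).obj F' ≅ F :=
    (Scheme.Modules.pushforwardComp φ.hom j).app F ≪≫
      (Scheme.Modules.pushforwardCongr hφj).app F ≪≫ (Scheme.Modules.pushforwardId X).app F
  have h1 : ∀ s : Γ(X, ⊤), φ.hom.appTop (j.appTop s) = s := by
    intro s
    have := Scheme.Hom.comp_appTop φ.hom j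
    rw [hφj] at this
    exact (congr($this s)).symm
  have h2 : ∀ t : Γ(Spec B, ⊤), j.appTop (φ.hom.appTop t) = t := by
    intro t
    have := Scheme.Hom.comp_appTop j φ.hom
    rw [hjφ] at this
    exact (congr($this t)).symm
  let δ' : Γ(Spec B, ⊤) →+ Γ(F', ⊤) :=
    { toFun := fun t => ε.inv.app ⊤ (δ (φ.hom.appTop t))
      map_zero' := by rw [map_zero, map_zero, map_zero]; rfl
      map_add' := fun a b => by rw [map_add, map_add, map_add]; rfl }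
  have hδ' : ∀ t, δ' t = ε.inv.app ⊤ (δ (φ.hom.appTop t)) := fun _ => rfl
  have hsm : ∀ (a : Γ(X, ⊤)) (m : Γ(F, ⊤)), ε.inv.app ⊤ (a • m) = a • ε.inv.app ⊤ m :=
    fun a m => Scheme.Modules.Hom.app_smul _ _ _
  obtain ⟨D', hD'⟩ := exists_der_spec (j ≫ f) F' δ' (by
    intro a b
    rw [hδ', map_mul, hmul, map_add, hsm, hsm]
    change j.appTop (φ.hom.appTop a) • δ' b + j.appTop (φ.hom.appTop b) • δ' a = _
    rw [h2, h2]) (by
    intro c
    rw [hδ', Scheme.Hom.comp_appTop]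
    change ε.inv.app ⊤ (δ (φ.hom.appTop (j.appTop (f.appTop c)))) = 0
    rw [h1, h0, map_zero])
  refine ⟨(Groth.Agent.Helper18Om.pushDer f (j ≫ f) j (𝟙 S) (by simp) D').postcomp ε.hom.val, ?_⟩
  ext s
  change ε.hom.app ⊤ (D'.app ⊤ (j.appTop s)) = _
  rw [hD', hδ', h1]
  have := ε.inv_hom_id
  exact congr($(this).app ⊤ (δ s))

theorem main_S9369 {X S : Scheme.{u}} [IsAffine X] [IsAffine S] (f : X ⟶ S) (F : X.Modules) :
    Function.Injective (fun D : OmegaSh.Der f F => D.app ⊤) ∧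
      ∀ δ : Γ(X, ⊤) →+ Γ(F, ⊤),
        ((∀ a b : Γ(X, ⊤), δ (a * b) = a • δ b + b • δ a) ∧ ∀ c : Γ(S, ⊤), δ (f.appTop c) = 0) ↔
          ∃ D : OmegaSh.Der f F, D.app ⊤ = δ := by
  refine ⟨?_, fun δ => ⟨fun h => exists_der_affine f F δ h.1 h.2, ?_⟩⟩
  · intro D₁ D₂ h
    apply Groth.Agent.Helper18Om.der_ext
    intro U s
    refine der_eq_of_affine D₁ D₂ (isAffineOpen_top X) ?_ le_top s
    intro s
    exact congr($h s)
  · rintro ⟨D, rfl⟩
    refine ⟨fun a b => D.d_mul _ _, fun c => ?_⟩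
    exact D.d_app (X := op ⊤) c

end Groth.Agent.Helper18OmLS
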