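import Mathlib
import Groth.Prelude.Def_Omega4
import Groth.Agent.Lib.Helper18OmLS20
import Groth.Agent.Lib.Helper20OmegaLoc

set_option autoImplicit false
set_option linter.style.haveILetI false
universe u
open CategoryTheory CategoryTheory.Limits AlgebraicGeometry TopologicalSpace Opposite
open KaehlerDifferential

namespace Groth.Agent.Helper18OmLS

section affineNbhd
variable {X Y : Scheme.{u}} (f : X ⟶ Y) {U : X.Opens} (hU : IsAffineOpen U) {V : Y.Opens}
  (hV : IsAffineOpen V) (h : U ≤ f ⁻¹ᵁ V)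

open Groth.Agent.Lib.Helper20.OmegaLoc in
include hU hV h in
/-- `pr₁⁻¹ U ∩ pr₂⁻¹ U` is affine for an affine chart `U → V`. -/
theorem isAffineOpen_diagNbhd : IsAffineOpen (OmegaSh.diagNbhd f U) := by
  letI : Algebra Γ(Y, V) Γ(X, U) := (f.appLE V U h).hom.toAlgebra
  have halg : algebraMap Γ(Y, V) Γ(X, U) = (f.appLE V U h).hom := rfl
  have hr : (chartK f hU hV h halg).opensRange = OmegaSh.diagNbhd f U := by
    apply Opens.ext
    change Set.range (chartK f hU hV h halg) = _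
    unfold chartK
    rw [Scheme.Hom.comp_base, TopCat.coe_comp, Set.range_comp, Set.range_eq_univ.2
      (ConcreteCategory.bijective_of_isIso (C := TopCat) (pullbackSpecIso Γ(Y, V) Γ(X, U) Γ(X, U)).inv.base).surjective,
      Set.image_univ, Scheme.Pullback.range_map, hU.range_fromSpec]
    rfl
  rw [← hr]
  exact isAffineOpen_opensRange _

end affineNbhd

section PO
variable {X Y : Scheme.{u}} (f : X ⟶ Y) {U : X.Opens} (hU : IsAffineOpen U) {V : Y.Opens}
  (hV : IsAffineOpen V) (h : U ≤ f ⁻¹ᵁ V) (hW : IsAffineOpen (OmegaSh.diagNbhd f U))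

include hU hV hW in
theorem existsUnique_PO (T : CommRingCat.{u}) (ψ₁ ψ₂ : Γ(X, U) ⟶ T)
    (hψ : f.appLE V U h ≫ ψ₁ = f.appLE V U h ≫ ψ₂) :
    ∃! ρ : Γ(pullback f f, OmegaSh.diagNbhd f U) ⟶ T,
      (pullback.fst f f).appLE U (OmegaSh.diagNbhd f U) inf_le_left ≫ ρ = ψ₁ ∧
      (pullback.snd f f).appLE U (OmegaSh.diagNbhd f U) inf_le_right ≫ ρ = ψ₂ := by
  have e1 : Spec.map ((pullback.fst f f).appLE U (OmegaSh.diagNbhd f U) inf_le_left) ≫ hU.fromSpec =
      hW.fromSpec ≫ pullback.fst f f :=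
    IsAffineOpen.SpecMap_appLE_fromSpec (pullback.fst f f) hU hW inf_le_left
  have e2 : Spec.map ((pullback.snd f f).appLE U (OmegaSh.diagNbhd f U) inf_le_right) ≫ hU.fromSpec =
      hW.fromSpec ≫ pullback.snd f f :=
    IsAffineOpen.SpecMap_appLE_fromSpec (pullback.snd f f) hU hW inf_le_right
  have e3 : Spec.map (f.appLE V U h) ≫ hV.fromSpec = hU.fromSpec ≫ f :=
    IsAffineOpen.SpecMap_appLE_fromSpec f hV hU h
  -- uniqueness helper
  have huniq : ∀ ρ ρ' : Γ(pullback f f, OmegaSh.diagNbhd f U) ⟶ T,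
      (pullback.fst f f).appLE U (OmegaSh.diagNbhd f U) inf_le_left ≫ ρ =
        (pullback.fst f f).appLE U (OmegaSh.diagNbhd f U) inf_le_left ≫ ρ' →
      (pullback.snd f f).appLE U (OmegaSh.diagNbhd f U) inf_le_right ≫ ρ =
        (pullback.snd f f).appLE U (OmegaSh.diagNbhd f U) inf_le_right ≫ ρ' → ρ = ρ' := by
    intro ρ ρ' h1 h2
    apply Spec.map_injective
    rw [← cancel_mono hW.fromSpec]
    apply pullback.hom_ext
    · rw [Category.assoc, Category.assoc, ← e1, ← Category.assoc, ← Category.assoc, ← Spec.map_comp,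
        ← Spec.map_comp, h1]
    · rw [Category.assoc, Category.assoc, ← e2, ← Category.assoc, ← Category.assoc, ← Spec.map_comp,
        ← Spec.map_comp, h2]
  -- existence
  let g₁ : Spec T ⟶ X := Spec.map ψ₁ ≫ hU.fromSpec
  let g₂ : Spec T ⟶ X := Spec.map ψ₂ ≫ hU.fromSpec
  have hg : g₁ ≫ f = g₂ ≫ f := by
    change (Spec.map ψ₁ ≫ hU.fromSpec) ≫ f = (Spec.map ψ₂ ≫ hU.fromSpec) ≫ f
    rw [Category.assoc, Category.assoc, ← e3, ← Category.assoc, ← Category.assoc, ← Spec.map_comp,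
      ← Spec.map_comp, hψ]
  let g : Spec T ⟶ pullback f f := pullback.lift g₁ g₂ hg
  have hgr : Set.range g ⊆ Set.range hW.fromSpec := by
    rw [hW.range_fromSpec]
    rintro _ ⟨x, rfl⟩
    constructor
    · change pullback.fst f f (g x) ∈ U
      rw [← Scheme.Hom.comp_apply, pullback.lift_fst]
      change hU.fromSpec (Spec.map ψ₁ x) ∈ U
      have hmem : hU.fromSpec (Spec.map ψ₁ x) ∈ Set.range hU.fromSpec := Set.mem_range_self _
      rw [hU.range_fromSpec] at hmem
      exact hmem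
    · change pullback.snd f f (g x) ∈ U
      rw [← Scheme.Hom.comp_apply, pullback.lift_snd]
      change hU.fromSpec (Spec.map ψ₂ x) ∈ U
      have hmem : hU.fromSpec (Spec.map ψ₂ x) ∈ Set.range hU.fromSpec := Set.mem_range_self _
      rw [hU.range_fromSpec] at hmem
      exact hmem
  let g' : Spec T ⟶ Spec Γ(pullback f f, OmegaSh.diagNbhd f U) :=
    IsOpenImmersion.lift hW.fromSpec g hgr
  have hg' : g' ≫ hW.fromSpec = g := IsOpenImmersion.lift_fac _ _ _
  let ρ : Γ(pullback f f, OmegaSh.diagNbhd f U) ⟶ T := Spec.preimage g'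
  have hρ : Spec.map ρ = g' := Spec.map_preimage g'
  have hρ1 : (pullback.fst f f).appLE U (OmegaSh.diagNbhd f U) inf_le_left ≫ ρ = ψ₁ := by
    apply Spec.map_injective
    rw [← cancel_mono hU.fromSpec, Spec.map_comp, Category.assoc, e1, ← Category.assoc, hρ, hg',
      pullback.lift_fst]
  have hρ2 : (pullback.snd f f).appLE U (OmegaSh.diagNbhd f U) inf_le_right ≫ ρ = ψ₂ := by
    apply Spec.map_injective
    rw [← cancel_mono hU.fromSpec, Spec.map_comp, Category.assoc, e2, ← Category.assoc, hρ, hg',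
      pullback.lift_snd]
  refine ⟨ρ, ⟨hρ1, hρ2⟩, fun ρ' hρ' => ?_⟩
  exact huniq ρ' ρ (hρ'.1.trans hρ1.symm) (hρ'.2.trans hρ2.symm)

end PO

end Groth.Agent.Helper18OmLS
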