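import Mathlib

set_option autoImplicit false
set_option linter.style.haveILetI false
universe u

namespace Groth.Agent.Helper18OmLS

section Alg
variable {C A R : Type u} [CommRing C] [CommRing A] [CommRing R]
  (c : C →+* A) (p₁ p₂ : A →+* R) (m : R →+* A)
  (hm₁ : m.comp p₁ = RingHom.id A) (hm₂ : m.comp p₂ = RingHom.id A)
  (PO : ∀ (T : Type u) [CommRing T] (ψ₁ ψ₂ : A →+* T), ψ₁.comp c = ψ₂.comp c →
      ∃! ρ : R →+* T, ρ.comp p₁ = ψ₁ ∧ ρ.comp p₂ = ψ₂)

include hm₁ hm₂ PO in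
theorem ker_le_span_of_PO : RingHom.ker m ≤ Ideal.span (Set.range fun s => p₂ s - p₁ s) := by
  set J : Ideal R := Ideal.span (Set.range fun s => p₂ s - p₁ s) with hJ
  let q : R →+* R ⧸ J := Ideal.Quotient.mk J
  have hq : q.comp p₂ = q.comp p₁ := by
    ext s
    change q (p₂ s) = q (p₁ s)
    rw [← sub_eq_zero, ← map_sub]
    exact Ideal.Quotient.eq_zero_iff_mem.2 (Ideal.subset_span ⟨s, rfl⟩)
  obtain ⟨ρ, -, hρ⟩ := PO (R ⧸ J) (q.comp p₁) (q.comp p₁) rfl
  have h1 : q = ρ := hρ q ⟨rfl, hq⟩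
  have h2 : (q.comp p₁).comp m = ρ := by
    apply hρ
    constructor
    · rw [RingHom.comp_assoc, hm₁, RingHom.comp_id]
    · rw [RingHom.comp_assoc, hm₂, RingHom.comp_id]
  intro x hx
  have h3 : q x = ((q.comp p₁).comp m) x := by rw [h2, ← h1]
  have hx' : m x = 0 := hx
  rw [RingHom.comp_apply, hx', map_zero] at h3
  exact Ideal.Quotient.eq_zero_iff_mem.1 h3

include hm₁ hm₂ PO in
theorem exists_lambda_of_PO (N : Type u) [AddCommGroup N] [Module A N] (δ : A →+ N)
    (hδ : ∀ a b, δ (a * b) = a • δ b + b • δ a) (hδc : ∀ x, δ (c x) = 0) :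
    ∃ lam : R →+ N, (∀ r x, m x = 0 → lam (r * x) = m r • lam x) ∧
      ∀ s, lam (p₂ s - p₁ s) = δ s := by
  letI : Module Aᵐᵒᵖ N := Module.compHom N ((RingHom.id A).fromOpposite mul_comm)
  haveI : IsCentralScalar A N := ⟨fun a n => rfl⟩
  have hδ1 : δ 1 = 0 := by
    have := hδ 1 1
    rw [mul_one, one_smul] at this
    exact left_eq_add.mp this
  let φ₁ : A →+* TrivSqZeroExt A N := TrivSqZeroExt.inlHom A N
  let φ₂ : A →+* TrivSqZeroExt A N :=
    { toFun := fun a => TrivSqZeroExt.inl a + TrivSqZeroExt.inr (δ a)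
      map_one' := by rw [hδ1, TrivSqZeroExt.inr_zero, add_zero]; rfl
      map_mul' := fun a b => by
        apply TrivSqZeroExt.ext
        · simp
        · simp [hδ, add_comm]
      map_zero' := by simp
      map_add' := fun a b => by
        rw [map_add, TrivSqZeroExt.inl_add, TrivSqZeroExt.inr_add]
        abel }
  have hφ : φ₁.comp c = φ₂.comp c := by
    ext x
    · change (c x : A) = (TrivSqZeroExt.inl (c x) + TrivSqZeroExt.inr (δ (c x)) : TrivSqZeroExt A N).fst
      simp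
    · change (0 : N) = (TrivSqZeroExt.inl (c x) + TrivSqZeroExt.inr (δ (c x)) : TrivSqZeroExt A N).snd
      rw [hδc]
      simp
  obtain ⟨ρ, ⟨hρ1, hρ2⟩, -⟩ := PO (TrivSqZeroExt A N) φ₁ φ₂ hφ
  let π : TrivSqZeroExt A N →+* A := (TrivSqZeroExt.fstHom A A N).toRingHom
  have hπ : π.comp ρ = m := by
    obtain ⟨ρ', -, hρ'⟩ := PO A (RingHom.id A) (RingHom.id A) rfl
    have h1 : π.comp ρ = ρ' := by
      apply hρ'
      constructor
      · rw [RingHom.comp_assoc, hρ1]
        ext a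
        rfl
      · rw [RingHom.comp_assoc, hρ2]
        ext a
        change (TrivSqZeroExt.inl a + TrivSqZeroExt.inr (δ a) : TrivSqZeroExt A N).fst = a
        simp
    have h2 : m = ρ' := hρ' m ⟨hm₁, hm₂⟩
    rw [h1, h2]
  have hfst : ∀ r, (ρ r).fst = m r := fun r => congr($hπ r)
  let lam : R →+ N :=
    { toFun := fun r => (ρ r).snd
      map_zero' := by rw [map_zero]; rfl
      map_add' := fun a b => by rw [map_add]; rfl }
  refine ⟨lam, ?_, ?_⟩
  · intro r x hx
    change (ρ (r * x)).snd = m r • (ρ x).snd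
    rw [map_mul, TrivSqZeroExt.snd_mul, hfst, hfst, hx]
    simp
  · intro s
    change (ρ (p₂ s - p₁ s)).snd = δ s
    have e1 : ρ (p₁ s) = φ₁ s := congr($hρ1 s)
    have e2 : ρ (p₂ s) = φ₂ s := congr($hρ2 s)
    rw [map_sub, e1, e2]
    change ((TrivSqZeroExt.inl s + TrivSqZeroExt.inr (δ s) : TrivSqZeroExt A N) -
      TrivSqZeroExt.inl s).snd = δ s
    simp

end Alg

end Groth.Agent.Helper18OmLS
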