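import Mathlib
import Groth.Prelude.Def_Omega4
import Groth.Agent.Lib.Helper18OmLS14
import Groth.Agent.Lib.Helper18OmLS21
import Groth.Agent.Lib.Helper18OmLS22

set_option autoImplicit false
set_option linter.style.haveILetI false
set_option linter.unusedSectionVars false
universe u
open CategoryTheory CategoryTheory.Limits AlgebraicGeometry TopologicalSpace Opposite
open Groth.Agent.Helper13PullbackUnit

namespace Groth.Agent.Helper18OmLS

section chart
variable {X Y : Scheme.{u}} (f : X ⟶ Y) (U : X.Opens)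

/-- `pr₁♯ : Γ(X, U) → Γ(X ×_Y X, pr₁⁻¹U ∩ pr₂⁻¹U)` -/
noncomputable abbrev pp₁ : Γ(X, U) →+* Γ(pullback f f, OmegaSh.diagNbhd f U) :=
  ((pullback.fst f f).appLE U (OmegaSh.diagNbhd f U) inf_le_left).hom

/-- `pr₂♯` -/
noncomputable abbrev pp₂ : Γ(X, U) →+* Γ(pullback f f, OmegaSh.diagNbhd f U) :=
  ((pullback.snd f f).appLE U (OmegaSh.diagNbhd f U) inf_le_right).hom

/-- `Δ♯` -/
noncomputable abbrev mm : Γ(pullback f f, OmegaSh.diagNbhd f U) →+* Γ(X, U) :=
  ((pullback.diagonal f).appLE (OmegaSh.diagNbhd f U) U (OmegaSh.le_preimage_diagNbhd f U)).hom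

theorem mm_comp_pp₁ : (mm f U).comp (pp₁ f U) = RingHom.id _ := by
  have h1 := Scheme.Hom.appLE_comp_appLE (pullback.diagonal f) (pullback.fst f f) U
    (OmegaSh.diagNbhd f U) U inf_le_left (OmegaSh.le_preimage_diagNbhd f U)
  rw [OmegaSh.id_appLE_eq_id (pullback.diagonal_fst f)] at h1
  exact congrArg CommRingCat.Hom.hom h1

theorem mm_comp_pp₂ : (mm f U).comp (pp₂ f U) = RingHom.id _ := by
  have h1 := Scheme.Hom.appLE_comp_appLE (pullback.diagonal f) (pullback.snd f f) U
    (OmegaSh.diagNbhd f U) U inf_le_right (OmegaSh.le_preimage_diagNbhd f U)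
  rw [OmegaSh.id_appLE_eq_id (pullback.diagonal_snd f)] at h1
  exact congrArg CommRingCat.Hom.hom h1

variable {U} {V : Y.Opens} (h : U ≤ f ⁻¹ᵁ V)

theorem pp₁_comp_cc : (pp₁ f U).comp (f.appLE V U h).hom = (pp₂ f U).comp (f.appLE V U h).hom := by
  have h1 := Scheme.Hom.appLE_comp_appLE (pullback.fst f f) f V U (OmegaSh.diagNbhd f U) h inf_le_left
  have h2 := Scheme.Hom.appLE_comp_appLE (pullback.snd f f) f V U (OmegaSh.diagNbhd f U) h inf_le_right
  have h3 := OmegaSh.appLE_congr_hom (pullback.condition (f := f) (g := f))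
    (U := V) (V := OmegaSh.diagNbhd f U)
    (inf_le_left.trans ((pullback.fst f f).preimage_mono h))
    (inf_le_right.trans ((pullback.snd f f).preimage_mono h))
  have h4 := (h1.trans h3).trans h2.symm
  exact congrArg CommRingCat.Hom.hom h4

variable (hU : IsAffineOpen U) (hV : IsAffineOpen V)

include hU hV in
theorem PO_ring (T : Type u) [CommRing T] (ψ₁ ψ₂ : Γ(X, U) →+* T)
    (hψ : ψ₁.comp (f.appLE V U h).hom = ψ₂.comp (f.appLE V U h).hom) :
    ∃! ρ : Γ(pullback f f, OmegaSh.diagNbhd f U) →+* T,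
      ρ.comp (pp₁ f U) = ψ₁ ∧ ρ.comp (pp₂ f U) = ψ₂ := by
  have hW := isAffineOpen_diagNbhd f hU hV h
  obtain ⟨ρ, ⟨h1, h2⟩, h3⟩ := existsUnique_PO f hU hV h hW (CommRingCat.of T)
    (CommRingCat.ofHom ψ₁) (CommRingCat.ofHom ψ₂) (by
      ext x
      exact congr($hψ x))
  refine ⟨ρ.hom, ⟨?_, ?_⟩, ?_⟩
  · exact congrArg CommRingCat.Hom.hom h1
  · exact congrArg CommRingCat.Hom.hom h2
  · intro ρ' hρ'
    have := h3 (CommRingCat.ofHom ρ') ⟨by ext x; exact congr($(hρ'.1) x), by ext x; exact congr($(hρ'.2) x)⟩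
    rw [← this]
    rfl

end chart

section chart2
variable {X Y : Scheme.{u}} (f : X ⟶ Y) [QuasiSeparated f] (U : X.Opens)

theorem mm_idealSect (t : Γ(ClSub.idealMod (pullback.diagonal f).ker, OmegaSh.diagNbhd f U)) :
    mm f U (OmegaSh.idealSect (pullback.diagonal f).ker (OmegaSh.diagNbhd f U) t) = 0 := by
  change ((pullback.diagonal f).appLE (OmegaSh.diagNbhd f U) U _).hom _ = 0
  rw [Scheme.Hom.appLE, CommRingCat.hom_comp, RingHom.comp_apply]
  have := app_idealSect_eq_zero (pullback.diagonal f) (OmegaSh.diagNbhd f U) t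
  refine (congrArg _ this).trans ?_
  rw [map_zero]

theorem exists_idealSect_of_mm (x : Γ(pullback f f, OmegaSh.diagNbhd f U)) (hx : mm f U x = 0) :
    ∃ t : Γ(ClSub.idealMod (pullback.diagonal f).ker, OmegaSh.diagNbhd f U),
      OmegaSh.idealSect (pullback.diagonal f).ker (OmegaSh.diagNbhd f U) t = x := by
  apply exists_idealSect_eq (pullback.diagonal f) (OmegaSh.diagNbhd f U) x
  have hUW : U = pullback.diagonal f ⁻¹ᵁ OmegaSh.diagNbhd f U :=
    le_antisymm (OmegaSh.le_preimage_diagNbhd f U) (OmegaSh.diagonal_preimage_le f le_rfl)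
  have hbij := presheaf_map_bijective_of_eq hUW (homOfLE (OmegaSh.le_preimage_diagNbhd f U))
  apply hbij.injective
  rw [map_zero]
  change ((pullback.diagonal f).appLE (OmegaSh.diagNbhd f U) U _).hom _ = 0 at hx
  rw [Scheme.Hom.appLE, CommRingCat.hom_comp, RingHom.comp_apply] at hx
  exact hx

theorem idealSect_idealLift (s : Γ(X, U)) :
    OmegaSh.idealSect (pullback.diagonal f).ker (OmegaSh.diagNbhd f U) (OmegaSh.idealLift f U s) =
      pp₂ f U s - pp₁ f U s := by
  rw [OmegaSh.idealSect_apply, OmegaSh.ι_idealLift]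
  rfl

theorem dOmega_app_eq (s : Γ(X, U)) :
    (OmegaSh.dOmega f).app U s =
      unitSec (pullback.diagonal f) (ClSub.idealMod (pullback.diagonal f).ker)
        (OmegaSh.le_preimage_diagNbhd f U) (OmegaSh.idealLift f U s) := rfl

variable {U} {V : Y.Opens} (h : U ≤ f ⁻¹ᵁ V) (hU : IsAffineOpen U) (hV : IsAffineOpen V)

include h hU hV in
/-- on an affine chart the sections of `Ω_{X/Y}` are generated by the differentials. -/
theorem mem_span_dOmega (n : Γ(Omega.sheaf f, U)) :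
    n ∈ Submodule.span Γ(X, U) (Set.range fun s : Γ(X, U) => (OmegaSh.dOmega f).app U s) := by
  have hW := isAffineOpen_diagNbhd f hU hV h
  letI : Algebra Γ(pullback f f, OmegaSh.diagNbhd f U) Γ(X, U) := (mm f U).toAlgebra
  have halg : algebraMap Γ(pullback f f, OmegaSh.diagNbhd f U) Γ(X, U) =
    ((pullback.diagonal f).appLE (OmegaSh.diagNbhd f U) U (OmegaSh.le_preimage_diagNbhd f U)).hom := rfl
  have hsurj : Function.Surjective (algebraMap Γ(pullback f f, OmegaSh.diagNbhd f U) Γ(X, U)) :=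
    fun a => ⟨pp₁ f U a, congr($(mm_comp_pp₁ f U) a)⟩
  obtain ⟨t, rfl⟩ := exists_unitSec_eq (pullback.diagonal f) (ClSub.idealMod (pullback.diagonal f).ker)
    (OmegaSh.le_preimage_diagNbhd f U) hW hU halg hsurj n
  have hx : OmegaSh.idealSect (pullback.diagonal f).ker (OmegaSh.diagNbhd f U) t ∈
      Ideal.span (Set.range fun s => pp₂ f U s - pp₁ f U s) :=
    ker_le_span_of_PO (f.appLE V U h).hom (pp₁ f U) (pp₂ f U) (mm f U) (mm_comp_pp₁ f U)
      (mm_comp_pp₂ f U) (fun T _ ψ₁ ψ₂ hψ => PO_ring f h hU hV T ψ₁ ψ₂ hψ) (mm_idealSect f U t)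
  have key : ∀ x ∈ Ideal.span (Set.range fun s => pp₂ f U s - pp₁ f U s),
      ∃ t' : Γ(ClSub.idealMod (pullback.diagonal f).ker, OmegaSh.diagNbhd f U),
        OmegaSh.idealSect (pullback.diagonal f).ker (OmegaSh.diagNbhd f U) t' = x ∧
        unitSec (pullback.diagonal f) (ClSub.idealMod (pullback.diagonal f).ker)
          (OmegaSh.le_preimage_diagNbhd f U) t' ∈
          Submodule.span Γ(X, U) (Set.range fun s : Γ(X, U) => (OmegaSh.dOmega f).app U s) := by
    intro x hx
    refine Submodule.span_induction ?_ ?_ ?_ ?_ hx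
    · rintro _ ⟨s, rfl⟩
      exact ⟨OmegaSh.idealLift f U s, idealSect_idealLift f U s, Submodule.subset_span ⟨s, rfl⟩⟩
    · exact ⟨0, map_zero _, by rw [map_zero]; exact Submodule.zero_mem _⟩
    · rintro x y _ _ ⟨t₁, h₁, h₁'⟩ ⟨t₂, h₂, h₂'⟩
      exact ⟨t₁ + t₂, by rw [map_add, h₁, h₂], by rw [map_add]; exact Submodule.add_mem _ h₁' h₂'⟩
    · rintro r x _ ⟨t₁, h₁, h₁'⟩
      refine ⟨r • t₁, by rw [idealSect_smul, h₁]; rfl, ?_⟩
      rw [unitSec_smul]
      exact Submodule.smul_mem _ _ h₁'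
  obtain ⟨t', ht', hmem⟩ := key _ hx
  have := idealSect_injective _ _ ht'
  rw [← this]
  exact hmem

include h hU hV in
/-- on an affine chart every derivation factors through the differentials. -/
theorem exists_lift_dOmega (F : X.Modules) (D : OmegaSh.Der f F) :
    ∃ L : Γ(Omega.sheaf f, U) →ₗ[Γ(X, U)] Γ(F, U),
      ∀ s : Γ(X, U), L ((OmegaSh.dOmega f).app U s) = D.app U s := by
  have hW := isAffineOpen_diagNbhd f hU hV h
  obtain ⟨lam, hlam1, hlam2⟩ := exists_lambda_of_PO (f.appLE V U h).hom (pp₁ f U) (pp₂ f U) (mm f U)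
    (mm_comp_pp₁ f U) (mm_comp_pp₂ f U) (fun T _ ψ₁ ψ₂ hψ => PO_ring f h hU hV T ψ₁ ψ₂ hψ)
    Γ(F, U) (D.app U) (fun a b => D.d_mul (X := op U) a b) (fun x => by
      change D.app U ((f.appLE V U h).hom x) = 0
      rw [Scheme.Hom.appLE, CommRingCat.hom_comp, RingHom.comp_apply]
      refine (der_map D h (f.app V x)).trans ?_
      have := D.d_app (X := op V) x
      refine (congrArg _ this).trans ?_
      exact (F.presheaf.map (homOfLE h).op).hom.map_zero)
  obtain ⟨L, hL, -⟩ := existsUnique_lift (pullback.diagonal f)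
    (ClSub.idealMod (pullback.diagonal f).ker) hW hU (OmegaSh.le_preimage_diagNbhd f U) Γ(F, U)
    (lam.comp (OmegaSh.idealSect (pullback.diagonal f).ker (OmegaSh.diagNbhd f U)))
    (fun r t => by
      rw [AddMonoidHom.comp_apply, AddMonoidHom.comp_apply, idealSect_smul]
      exact hlam1 r _ (mm_idealSect f U t))
  refine ⟨L, fun s => ?_⟩
  rw [dOmega_app_eq]
  refine (hL _).trans ?_
  rw [AddMonoidHom.comp_apply, idealSect_idealLift]
  exact hlam2 s

end chart2

end Groth.Agent.Helper18OmLS
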