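import Mathlib
import Groth.Prelude.Def_Omega4
import Groth.Agent.Lib.Helper18OmLS23
import Groth.Agent.Lib.Helper13ModGlue

set_option autoImplicit false
set_option linter.style.haveILetI false
set_option linter.unusedSectionVars false
universe u
open CategoryTheory CategoryTheory.Limits AlgebraicGeometry TopologicalSpace Opposite
open Groth.Agent.Helper13PullbackUnit Groth.Agent.Helper13ModGlue Groth.Agent.Lib.Helper6

namespace Groth.Agent.Helper18OmLS

section fam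
variable {X : Scheme.{u}} {F : X.Modules} {U : X.Opens}

/-- two "local derivations" on the opens inside an affine open `U`, agreeing on `U`, agree on
basic opens. -/
theorem fam_eq_basicOpen (hU : IsAffineOpen U)
    (d₁ d₂ : ∀ W : X.Opens, W ≤ U → (Γ(X, W) →+ Γ(F, W)))
    (mul₁ : ∀ W hW (a b : Γ(X, W)), d₁ W hW (a * b) = a • d₁ W hW b + b • d₁ W hW a)
    (mul₂ : ∀ W hW (a b : Γ(X, W)), d₂ W hW (a * b) = a • d₂ W hW b + b • d₂ W hW a)
    (map₁ : ∀ (W W' : X.Opens) (hW : W ≤ U) (hW' : W' ≤ W) (s : Γ(X, W)),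
      d₁ W' (hW'.trans hW) (X.presheaf.map (homOfLE hW').op s) =
        F.presheaf.map (homOfLE hW').op (d₁ W hW s))
    (map₂ : ∀ (W W' : X.Opens) (hW : W ≤ U) (hW' : W' ≤ W) (s : Γ(X, W)),
      d₂ W' (hW'.trans hW) (X.presheaf.map (homOfLE hW').op s) =
        F.presheaf.map (homOfLE hW').op (d₂ W hW s))
    (h : ∀ s, d₁ U le_rfl s = d₂ U le_rfl s) (r : Γ(X, U)) (s : Γ(X, X.basicOpen r)) :
    d₁ (X.basicOpen r) (X.basicOpen_le r) s = d₂ (X.basicOpen r) (X.basicOpen_le r) s := by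
  haveI := hU.isLocalization_basicOpen r
  obtain ⟨⟨a, ⟨_, n, rfl⟩⟩, ha⟩ := IsLocalization.surj (Submonoid.powers r) s
  have hle : X.basicOpen r ≤ U := X.basicOpen_le r
  set ρ : Γ(X, U) → Γ(X, X.basicOpen r) := fun t => X.presheaf.map (homOfLE hle).op t with hρ
  have ha' : s * ρ (r ^ n) = ρ a := ha
  have key : ∀ (d : ∀ W : X.Opens, W ≤ U → (Γ(X, W) →+ Γ(F, W)))
      (_ : ∀ W hW (a b : Γ(X, W)), d W hW (a * b) = a • d W hW b + b • d W hW a)
      (_ : ∀ (W W' : X.Opens) (hW : W ≤ U) (hW' : W' ≤ W) (s : Γ(X, W)),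
        d W' (hW'.trans hW) (X.presheaf.map (homOfLE hW').op s) =
          F.presheaf.map (homOfLE hW').op (d W hW s)),
      ρ (r ^ n) • d (X.basicOpen r) hle s =
        F.presheaf.map (homOfLE hle).op (d U le_rfl a) -
          s • F.presheaf.map (homOfLE hle).op (d U le_rfl (r ^ n)) := by
    intro d mul map
    have h1 := mul (X.basicOpen r) hle s (ρ (r ^ n))
    rw [ha'] at h1
    have h2 : d (X.basicOpen r) hle (ρ a) = F.presheaf.map (homOfLE hle).op (d U le_rfl a) :=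
      map U (X.basicOpen r) le_rfl hle a
    have h3 : d (X.basicOpen r) hle (ρ (r ^ n)) =
        F.presheaf.map (homOfLE hle).op (d U le_rfl (r ^ n)) := map U (X.basicOpen r) le_rfl hle (r ^ n)
    rw [h2, h3] at h1
    rw [h1]
    abel
  have hunit : IsUnit (ρ (r ^ n)) := by
    have : ρ (r ^ n) = (ρ r) ^ n := map_pow _ _ _
    rw [this]
    exact (RingedSpace.isUnit_res_basicOpen _ r).pow n
  have e : ρ (r ^ n) • d₁ (X.basicOpen r) hle s = ρ (r ^ n) • d₂ (X.basicOpen r) hle s := by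
    rw [key d₁ mul₁ map₁, key d₂ mul₂ map₂, h a, h (r ^ n)]
  obtain ⟨v, hv⟩ := hunit
  have := congrArg (fun m => (↑v⁻¹ : Γ(X, X.basicOpen r)) • m) e
  simp only [← hv, smul_smul, Units.inv_mul, one_smul] at this
  exact this

theorem fam_eq_of_affine (hU : IsAffineOpen U)
    (d₁ d₂ : ∀ W : X.Opens, W ≤ U → (Γ(X, W) →+ Γ(F, W)))
    (mul₁ : ∀ W hW (a b : Γ(X, W)), d₁ W hW (a * b) = a • d₁ W hW b + b • d₁ W hW a)
    (mul₂ : ∀ W hW (a b : Γ(X, W)), d₂ W hW (a * b) = a • d₂ W hW b + b • d₂ W hW a)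
    (map₁ : ∀ (W W' : X.Opens) (hW : W ≤ U) (hW' : W' ≤ W) (s : Γ(X, W)),
      d₁ W' (hW'.trans hW) (X.presheaf.map (homOfLE hW').op s) =
        F.presheaf.map (homOfLE hW').op (d₁ W hW s))
    (map₂ : ∀ (W W' : X.Opens) (hW : W ≤ U) (hW' : W' ≤ W) (s : Γ(X, W)),
      d₂ W' (hW'.trans hW) (X.presheaf.map (homOfLE hW').op s) =
        F.presheaf.map (homOfLE hW').op (d₂ W hW s))
    (h : ∀ s, d₁ U le_rfl s = d₂ U le_rfl s) (W : X.Opens) (hW : W ≤ U) (s : Γ(X, W)) :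
    d₁ W hW s = d₂ W hW s := by
  refine TopCat.Sheaf.eq_of_locally_eq' (abSh F)
    (fun r : {r : Γ(X, U) // X.basicOpen r ≤ W} => X.basicOpen r.1) W
    (fun r => homOfLE r.2) ?_ _ _ ?_
  · intro x hx
    obtain ⟨r, hr1, hr2⟩ := hU.exists_basicOpen_le ⟨x, hx⟩ (hW hx)
    exact Opens.mem_iSup.2 ⟨⟨r, hr1⟩, hr2⟩
  · rintro ⟨r, hr⟩
    change F.presheaf.map (homOfLE hr).op (d₁ W hW s) = F.presheaf.map (homOfLE hr).op (d₂ W hW s)
    rw [← map₁ W (X.basicOpen r) hW hr s, ← map₂ W (X.basicOpen r) hW hr s]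
    exact fam_eq_basicOpen hU d₁ d₂ mul₁ mul₂ map₁ map₂ h r _

end fam

section glob
variable {X Y : Scheme.{u}} (f : X ⟶ Y) [QuasiSeparated f]

theorem locFam_dOmega {F : X.Modules} (D : OmegaSh.Der f F) {U : X.Opens} (hU : IsAffineOpen U)
    (E : LocFam U (Omega.sheaf f) F)
    (hE : ∀ s : Γ(X, U), E.d U le_rfl ((OmegaSh.dOmega f).app U s) = D.app U s)
    (W : X.Opens) (hW : W ≤ U) (t : Γ(X, W)) :
    E.d W hW ((OmegaSh.dOmega f).app W t) = D.app W t := by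
  refine fam_eq_of_affine hU (fun W hW => (E.d W hW).comp ((OmegaSh.dOmega f).app W))
    (fun W _ => D.app W) ?_ ?_ ?_ ?_ hE W hW t
  · intro W hW a b
    change E.d W hW ((OmegaSh.dOmega f).app W (a * b)) = _
    rw [der_mul, map_add, E.lin, E.lin]
    rfl
  · intro W hW a b
    exact der_mul D a b
  · intro W W' hW hW' s
    change E.d W' _ ((OmegaSh.dOmega f).app W' _) = _
    rw [der_map (OmegaSh.dOmega f) hW' s]
    exact (E.nat W W' hW hW' _).symm
  · intro W W' hW hW' s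
    exact der_map D hW' s

/-- linear maps out of `Γ(Ω, U)` (affine chart) are determined by their values on differentials. -/
theorem eq_of_eq_on_dOmega {F : X.Modules} {U : X.Opens} (hU : IsAffineOpen U) {V : Y.Opens}
    (hV : IsAffineOpen V) (h : U ≤ f ⁻¹ᵁ V) (l₁ l₂ : Γ(Omega.sheaf f, U) →+ Γ(F, U))
    (hl₁ : ∀ (a : Γ(X, U)) τ, l₁ (a • τ) = a • l₁ τ) (hl₂ : ∀ (a : Γ(X, U)) τ, l₂ (a • τ) = a • l₂ τ)
    (heq : ∀ s : Γ(X, U), l₁ ((OmegaSh.dOmega f).app U s) = l₂ ((OmegaSh.dOmega f).app U s))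
    (τ : Γ(Omega.sheaf f, U)) : l₁ τ = l₂ τ := by
  have hτ := mem_span_dOmega f h hU hV τ
  refine Submodule.span_induction ?_ ?_ ?_ ?_ hτ
  · rintro _ ⟨s, rfl⟩
    exact heq s
  · rw [map_zero, map_zero]
  · intro x y _ _ hx hy
    rw [map_add, map_add, hx, hy]
  · intro a x _ hx
    rw [hl₁, hl₂, hx]

theorem der_ext_of_cover {F : X.Modules} {ι : Type*} (Uc : ι → X.Opens) (hcov : ⨆ i, Uc i = ⊤)
    (D₁ D₂ : OmegaSh.Der f F)
    (h : ∀ i (W : X.Opens) (_ : W ≤ Uc i) (s : Γ(X, W)), D₁.app W s = D₂.app W s) : D₁ = D₂ := by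
  apply Groth.Agent.Helper18Om.der_ext
  intro O s
  refine TopCat.Sheaf.eq_of_locally_eq' (abSh F) (fun i => O ⊓ Uc i) O
    (fun i => homOfLE inf_le_left) ?_ _ _ ?_
  · intro x hx
    have hx' : x ∈ (⨆ i, Uc i : X.Opens) := by rw [hcov]; trivial
    obtain ⟨i, hi⟩ := Opens.mem_iSup.mp hx'
    exact Opens.mem_iSup.2 ⟨i, ⟨hx, hi⟩⟩
  · intro i
    change F.presheaf.map (homOfLE _).op (D₁.app O s) = F.presheaf.map (homOfLE _).op (D₂.app O s)
    rw [← der_map D₁ inf_le_left s, ← der_map D₂ inf_le_left s]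
    exact h i _ inf_le_right _

/-- **The differential `d_{X/Y}` of a quasi-separated morphism is a universal derivation.** -/
theorem isUniversal_dOmega : OmegaSh.IsUniversal (OmegaSh.dOmega f) := by
  intro F D
  haveI : (Omega.sheaf f).IsQuasicoherent :=
    inferInstanceAs ((Scheme.Modules.pullback (pullback.diagonal f)).obj
      (ClSub.idealMod (pullback.diagonal f).ker)).IsQuasicoherent
  let κ : Type u :=
    {p : X.Opens × Y.Opens // IsAffineOpen p.1 ∧ IsAffineOpen p.2 ∧ p.1 ≤ f ⁻¹ᵁ p.2}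
  let Uc : κ → X.Opens := fun p => p.1.1
  have hbasis : ∀ (O : X.Opens) (x : X), x ∈ O → ∃ i : κ, x ∈ Uc i ∧ Uc i ≤ O := by
    intro O x hx
    obtain ⟨V, hV, hxV, -⟩ := exists_isAffineOpen_mem_and_subset (x := f x) (U := ⊤) trivial
    obtain ⟨U, hU, hxU, hUV⟩ := exists_isAffineOpen_mem_and_subset (x := x) (U := O ⊓ f ⁻¹ᵁ V)
      ⟨hx, hxV⟩
    exact ⟨⟨(U, V), hU, hV, fun y hy => (hUV hy).2⟩, hxU, fun y hy => (hUV hy).1⟩
  have hcov : ⨆ i, Uc i = ⊤ := by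
    rw [eq_top_iff]
    intro x _
    obtain ⟨i, hi, -⟩ := hbasis ⊤ x trivial
    exact Opens.mem_iSup.2 ⟨i, hi⟩
  have hloc : ∀ i : κ, ∃ E : LocFam (Uc i) (Omega.sheaf f) F, ∀ (W : X.Opens) (hW : W ≤ Uc i)
      (t : Γ(X, W)), E.d W hW ((OmegaSh.dOmega f).app W t) = D.app W t := by
    rintro ⟨⟨U, V⟩, hU, hV, h⟩
    obtain ⟨L, hL⟩ := exists_lift_dOmega f h hU hV F D
    obtain ⟨E, hE⟩ := exists_locFam hU (Omega.sheaf f) F L.toAddMonoidHom (fun r x => L.map_smul r x)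
    exact ⟨E, locFam_dOmega f D hU E (fun s => (hE _).trans (hL s))⟩
  choose E hE using hloc
  have compat : ∀ (i j : κ) (W : X.Opens) (hi : W ≤ Uc i) (hj : W ≤ Uc j)
      (τ : Γ(Omega.sheaf f, W)), (E i).d W hi τ = (E j).d W hj τ := by
    intro i j W hi hj τ
    refine TopCat.Sheaf.eq_of_locally_eq' (abSh F)
      (fun k : {k : κ // Uc k ≤ W} => Uc k.1) W (fun k => homOfLE k.2) ?_ _ _ ?_
    · intro x hx
      obtain ⟨k, hk1, hk2⟩ := hbasis W x hx
      exact Opens.mem_iSup.2 ⟨⟨k, hk2⟩, hk1⟩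
    · rintro ⟨k, hk⟩
      change res F hk ((E i).d W hi τ) = res F hk ((E j).d W hj τ)
      rw [(E i).nat W (Uc k) hi hk τ, (E j).nat W (Uc k) hj hk τ]
      refine eq_of_eq_on_dOmega f k.2.1 k.2.2.1 k.2.2.2 _ _ ?_ ?_ ?_ _
      · intro a τ'
        exact (E i).lin _ _ a τ'
      · intro a τ'
        exact (E j).lin _ _ a τ'
      · intro s
        rw [hE i, hE j]
  obtain ⟨ψ, hψ⟩ := exists_hom_of_locFams Uc hcov (Omega.sheaf f) F E compat
  have hψD : (OmegaSh.dOmega f).postcomp ψ.val = D := by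
    refine der_ext_of_cover f Uc hcov _ _ ?_
    intro i W hW s
    change ψ.app W ((OmegaSh.dOmega f).app W s) = _
    rw [hψ i W hW, hE i]
  refine ⟨ψ, hψD, ?_⟩
  intro α hα
  refine hom_ext_basis α ψ (Set.range Uc) ?_ ?_
  · rw [Opens.isBasis_iff_nbhd]
    intro O x hx
    obtain ⟨i, hi1, hi2⟩ := hbasis O x hx
    exact ⟨Uc i, ⟨i, rfl⟩, hi1, hi2⟩
  · rintro _ ⟨i, rfl⟩ τ
    refine eq_of_eq_on_dOmega f i.2.1 i.2.2.1 i.2.2.2 (α.app (Uc i)).hom (ψ.app (Uc i)).hom ?_ ?_ ?_ τ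
    · intro a τ'
      exact Scheme.Modules.Hom.app_smul _ _ _
    · intro a τ'
      exact Scheme.Modules.Hom.app_smul _ _ _
    · intro s
      have h1 : α.app (Uc i) ((OmegaSh.dOmega f).app (Uc i) s) = D.app (Uc i) s := by
        rw [← hα]; rfl
      have h2 : ψ.app (Uc i) ((OmegaSh.dOmega f).app (Uc i) s) = D.app (Uc i) s := by
        rw [← hψD]; rfl
      exact h1.trans h2.symm

end glob

end Groth.Agent.Helper18OmLS
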