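import Mathlib
import Groth.Prelude.Def_Omega4
import Groth.Agent.Lib.Helper18OmLS24
import Groth.Agent.Lib.Helper18OmLS18
import Groth.Agent.Lib.Helper18OmLS16
import Groth.Agent.Lib.Helper18Om1

set_option autoImplicit false
set_option linter.style.haveILetI false
set_option linter.unusedSectionVars false
universe u
open CategoryTheory AlgebraicGeometry Limits TopologicalSpace Opposite

namespace Groth.Agent.Helper18Con

open Groth.Agent.Helper18OmLS Groth.Agent.Helper18Om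
open Groth.Agent.Helper13PullbackUnit Groth.Agent.Helper13ModGlue Groth.Agent.Lib.Helper6

variable {Z X Z' X' : Scheme.{u}} (i : Z ⟶ X) (i' : Z' ⟶ X') [QuasiCompact i] [QuasiCompact i']
  (g : X ⟶ X') (gZ : Z ⟶ Z') (hsq : gZ ≫ i' = i ≫ g)

include hsq in
theorem sq_le (U' : X'.Opens) : gZ ⁻¹ᵁ (i' ⁻¹ᵁ U') ≤ i ⁻¹ᵁ (g ⁻¹ᵁ U') := by
  change (gZ ≫ i') ⁻¹ᵁ U' ≤ (i ≫ g) ⁻¹ᵁ U'
  rw [hsq]

include hsq in
theorem sq_app (W : X'.Opens) (a : Γ(X', W)) :
    i.appLE (g ⁻¹ᵁ W) (gZ ⁻¹ᵁ (i' ⁻¹ᵁ W)) (sq_le i i' g gZ hsq W) (g.app W a) =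
      gZ.app (i' ⁻¹ᵁ W) (i'.app W a) := by
  have h := Scheme.Hom.congr_app hsq W
  rw [Scheme.Hom.comp_app, Scheme.Hom.comp_app] at h
  have h2 := congr($h a)
  exact h2.symm

include hsq in
theorem sq_app_zero (W : X'.Opens) (s' : Γ(ClSub.idealMod i'.ker, W)) :
    i.app (g ⁻¹ᵁ W) (g.app W (OmegaSh.idealSect i'.ker W s')) = 0 := by
  have h := Scheme.Hom.congr_app hsq.symm W
  rw [Scheme.Hom.comp_app, Scheme.Hom.comp_app] at h
  have h2 := congr($h (OmegaSh.idealSect i'.ker W s'))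
  refine h2.trans ?_
  change (Z.presheaf.map (eqToHom _).op) (gZ.app (i' ⁻¹ᵁ W) (i'.app W
    (OmegaSh.idealSect i'.ker W s'))) = 0
  rw [app_idealSect_eq_zero, map_zero, map_zero]

/-- the twice-adjoint form of the canonical map of conormal sheaves. -/
theorem exists_conormalMap_aux :
    ∃ α : ClSub.idealMod i'.ker ⟶ (Scheme.Modules.pushforward i').obj
        ((Scheme.Modules.pushforward gZ).obj (Omega.conormal i)),
      ∀ (W : X'.Opens) (s' : Γ(ClSub.idealMod i'.ker, W)),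
        α.app W s' = cls i (g ⁻¹ᵁ W) (gZ ⁻¹ᵁ (i' ⁻¹ᵁ W)) (sq_le i i' g gZ hsq W)
          (g.app W (OmegaSh.idealSect i'.ker W s')) := by
  let H : X'.Modules := ClSub.idealMod i'.ker
  let C : Z.Modules := Omega.conormal i
  let F : X'.Modules := (Scheme.Modules.pushforward i').obj ((Scheme.Modules.pushforward gZ).obj C)
  let D : LocFam (⊤ : X'.Opens) H F :=
    { d := fun W _ =>
        { toFun := fun s' => cls i (g ⁻¹ᵁ W) (gZ ⁻¹ᵁ (i' ⁻¹ᵁ W)) (sq_le i i' g gZ hsq W)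
            (g.app W (OmegaSh.idealSect i'.ker W s'))
          map_zero' := by
            rw [map_zero, map_zero]
            exact cls_zero i _ _ _
          map_add' := fun a b => by
            rw [map_add, map_add]
            exact cls_add i _ _ _ _ _ (sq_app_zero i i' g gZ hsq W a) (sq_app_zero i i' g gZ hsq W b) }
      nat := by
        intro W W' hW hW' τ
        change C.presheaf.map (homOfLE (gZ.preimage_mono (i'.preimage_mono hW'))).op
            (cls i (g ⁻¹ᵁ W) (gZ ⁻¹ᵁ (i' ⁻¹ᵁ W)) (sq_le i i' g gZ hsq W)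
              (g.app W (OmegaSh.idealSect i'.ker W τ))) =
          cls i (g ⁻¹ᵁ W') (gZ ⁻¹ᵁ (i' ⁻¹ᵁ W')) (sq_le i i' g gZ hsq W')
            (g.app W' (OmegaSh.idealSect i'.ker W' (H.presheaf.map (homOfLE hW').op τ)))
        rw [idealSect_res]
        have hn : g.app W' (X'.presheaf.map (homOfLE hW').op (OmegaSh.idealSect i'.ker W τ)) =
            X.presheaf.map (homOfLE (g.preimage_mono hW')).op
              (g.app W (OmegaSh.idealSect i'.ker W τ)) := by
          have := g.naturality (homOfLE hW').op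
          exact congr($this (OmegaSh.idealSect i'.ker W τ))
        rw [hn]
        exact (cls_res i (g ⁻¹ᵁ W) (g ⁻¹ᵁ W') _ _ (sq_le i i' g gZ hsq W) (sq_le i i' g gZ hsq W')
          (g.preimage_mono hW') (gZ.preimage_mono (i'.preimage_mono hW')) _
          (sq_app_zero i i' g gZ hsq W τ)).symm
      lin := by
        intro W hW a τ
        change cls i (g ⁻¹ᵁ W) (gZ ⁻¹ᵁ (i' ⁻¹ᵁ W)) (sq_le i i' g gZ hsq W)
            (g.app W (OmegaSh.idealSect i'.ker W (a • τ))) =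
          a • (show Γ(F, W) from cls i (g ⁻¹ᵁ W) (gZ ⁻¹ᵁ (i' ⁻¹ᵁ W)) (sq_le i i' g gZ hsq W)
            (g.app W (OmegaSh.idealSect i'.ker W τ)))
        rw [idealSect_smul, map_mul, cls_mul i _ _ _ _ _ (sq_app_zero i i' g gZ hsq W τ),
          sq_app i i' g gZ hsq W a]
        rfl }
  obtain ⟨ψ, hψ⟩ := exists_hom_of_locFams (κ := PUnit.{u+1}) (fun _ => (⊤ : X'.Opens))
    (by simp) H F (fun _ => D) (fun _ _ _ _ _ _ => rfl)
  exact ⟨ψ, fun W s' => hψ PUnit.unit W le_top s'⟩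

include hsq in
/-- **existence and uniqueness of the canonical map of conormal sheaves** (S9371), together
with its description through `cls`. -/
theorem exists_conormalMap :
    ∃ φ : (Scheme.Modules.pullback gZ).obj (Omega.conormal i') ⟶ Omega.conormal i,
      OmegaSh.IsConormalMap i i' g gZ φ ∧
      (∀ φ' : (Scheme.Modules.pullback gZ).obj (Omega.conormal i') ⟶ Omega.conormal i,
        OmegaSh.IsConormalMap i i' g gZ φ' → φ' = φ) ∧
      ∀ (U' : X'.Opens) (s' : Γ(ClSub.idealMod i'.ker, U')),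
        φ.app (gZ ⁻¹ᵁ (i' ⁻¹ᵁ U')) (OmegaSh.pullSect gZ (Omega.conormal i') (i' ⁻¹ᵁ U')
          (OmegaSh.conormalSect i' U' s')) =
        cls i (g ⁻¹ᵁ U') (gZ ⁻¹ᵁ (i' ⁻¹ᵁ U')) (sq_le i i' g gZ hsq U')
          (g.app U' (OmegaSh.idealSect i'.ker U' s')) := by
  obtain ⟨α, hα⟩ := exists_conormalMap_aux i i' g gZ hsq
  let e1 := (Scheme.Modules.pullbackPushforwardAdjunction i').homEquiv (ClSub.idealMod i'.ker)
    ((Scheme.Modules.pushforward gZ).obj (Omega.conormal i))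
  let β : Omega.conormal i' ⟶ (Scheme.Modules.pushforward gZ).obj (Omega.conormal i) := e1.symm α
  let e2 := (Scheme.Modules.pullbackPushforwardAdjunction gZ).homEquiv (Omega.conormal i')
    (Omega.conormal i)
  let φ : (Scheme.Modules.pullback gZ).obj (Omega.conormal i') ⟶ Omega.conormal i := e2.symm β
  have key : ∀ (U' : X'.Opens) (s' : Γ(ClSub.idealMod i'.ker, U')),
      φ.app (gZ ⁻¹ᵁ (i' ⁻¹ᵁ U')) (OmegaSh.pullSect gZ (Omega.conormal i') (i' ⁻¹ᵁ U')
        (OmegaSh.conormalSect i' U' s')) =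
      cls i (g ⁻¹ᵁ U') (gZ ⁻¹ᵁ (i' ⁻¹ᵁ U')) (sq_le i i' g gZ hsq U')
        (g.app U' (OmegaSh.idealSect i'.ker U' s')) := by
    intro U' s'
    have h1 := homEquiv_app gZ φ (i' ⁻¹ᵁ U') (OmegaSh.conormalSect i' U' s')
    have h1' : (Scheme.Modules.pullbackPushforwardAdjunction gZ).homEquiv (Omega.conormal i')
      (Omega.conormal i) φ = β := e2.apply_symm_apply β
    rw [h1'] at h1
    have h2 := homEquiv_app i' β U' s'
    have h2' : (Scheme.Modules.pullbackPushforwardAdjunction i').homEquiv (ClSub.idealMod i'.ker)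
      ((Scheme.Modules.pushforward gZ).obj (Omega.conormal i)) β = α := e1.apply_symm_apply α
    rw [h2'] at h2
    exact h1.symm.trans (h2.symm.trans (hα U' s'))
  have hφ : OmegaSh.IsConormalMap i i' g gZ φ := by
    refine ⟨hsq, ?_⟩
    intro U' s' s hs V h₁ h₂
    rw [key U' s', cls_eq i _ _ _ _ s hs]
    exact unitSec_map_src i (ClSub.idealMod i.ker) (sq_le i i' g gZ hsq U') h₁ s
  refine ⟨φ, hφ, ?_, key⟩
  intro φ' hφ'
  refine pullback_hom_ext₂ i' gZ φ' φ fun U' s' => ?_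
  obtain ⟨s, hs⟩ := exists_idealSect_eq i (g ⁻¹ᵁ U') (g.app U' (OmegaSh.idealSect i'.ker U' s'))
    (sq_app_zero i i' g gZ hsq U' s')
  have a := hφ'.2 U' s' s hs (gZ ⁻¹ᵁ (i' ⁻¹ᵁ U')) le_rfl (sq_le i i' g gZ hsq U')
  have b := hφ.2 U' s' s hs (gZ ⁻¹ᵁ (i' ⁻¹ᵁ U')) le_rfl (sq_le i i' g gZ hsq U')
  rw [presheaf_map_homOfLE_refl] at a b
  exact a.trans b.symm

include hsq in
theorem main_S9371 :
    ∃! φ : (Scheme.Modules.pullback gZ).obj (Omega.conormal i') ⟶ Omega.conormal i,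
      OmegaSh.IsConormalMap i i' g gZ φ := by
  obtain ⟨φ, h1, h2, -⟩ := exists_conormalMap i i' g gZ hsq
  exact ⟨φ, h1, h2⟩

end Groth.Agent.Helper18Con
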