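import Mathlib
import Groth.Prelude.Def_Omega4
import Groth.Prelude.Def_RegImm
import Groth.Agent.Lib.Helper18OmLS16
import Groth.Agent.Lib.Helper18OmLS15
import Groth.Agent.Lib.Helper5ImmBC
import Groth.Agent.Lib.Helper5QuasiRegFlat
import Groth.Agent.Lib.Helper20LocFree
import Groth.Agent.Lib.Helper18H1ConA

set_option autoImplicit false
set_option linter.style.haveILetI false
set_option linter.unusedSectionVars false
set_option linter.unusedVariables false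
universe u
open CategoryTheory AlgebraicGeometry Limits TopologicalSpace Opposite TensorProduct

namespace Groth.Agent.Helper18H1Con

open Groth.Agent.Helper18OmLS Groth.Agent.Helper18Om
open Groth.Agent.Helper13PullbackUnit

section restrict
variable {Z Y : Scheme.{u}} (i : Z ⟶ Y)

/-- an `H_1`-regular chart can be shrunk to any smaller affine open. -/
theorem h1_restrict {U₀ : Y.Opens} (hU₀ : IsAffineOpen U₀) [IsClosedImmersion (i ∣_ U₀)]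
    (rs : List Γ(Y, U₀)) (hseq : CAlgX.IsH1Regular rs.get)
    (hker : RingHom.ker (i.app U₀).hom = Ideal.ofList rs)
    {U' : Y.Opens} (hU' : IsAffineOpen U') (hle : U' ≤ U₀) :
    IsClosedImmersion (i ∣_ U') ∧ ∃ rs' : List Γ(Y, U'), CAlgX.IsH1Regular rs'.get ∧
      RingHom.ker (i.app U').hom = Ideal.ofList rs' := by
  have hle' : U' ≤ (𝟙 Y) ⁻¹ᵁ U₀ := hle
  obtain ⟨hcl', hker'⟩ := Groth.Agent.Lib.Helper5.ImmBC.restrict_baseChange
    (IsPullback.id_horiz i) hU₀ hU' hle'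
  have hfl : ((𝟙 Y : Y ⟶ Y).appLE U₀ U' hle').hom.Flat := Scheme.Hom.flat_appLE (𝟙 Y) hU₀ hU' hle'
  refine ⟨hcl', rs.map ((𝟙 Y : Y ⟶ Y).appLE U₀ U' hle').hom, ?_, ?_⟩
  · exact Groth.Agent.Lib.Helper5.QuasiRegFlat.seq_map_of_flat .h1 (Or.inl rfl) _ hfl rs hseq
  · rw [hker', hker, Ideal.map_ofList]

end restrict

section chart
variable {Z Y X : Scheme.{u}} (i : Z ⟶ Y) (j : Y ⟶ X) [IsImmersion i] [IsImmersion j]
    [QuasiCompact i] [QuasiCompact j]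
    (a : (Scheme.Modules.pullback i).obj (Omega.conormal j) ⟶ Omega.conormal (i ≫ j))
    (ha : OmegaSh.IsConormalMap (i ≫ j) j (𝟙 X) i a)
    {W : X.Opens} (hW : IsAffineOpen W) (hWj : W ≤ j.coborderRange)
    [hcl : IsClosedImmersion (i ∣_ (j ⁻¹ᵁ W))]
    (rs : List Γ(Y, j ⁻¹ᵁ W)) (hseq : CAlgX.IsH1Regular rs.get)
    (hker : RingHom.ker (i.app (j ⁻¹ᵁ W)).hom = Ideal.ofList rs)

include ha hW hWj hseq hker in
theorem chart_S8919_injective : Function.Injective (a.app ((i ≫ j) ⁻¹ᵁ W)) := by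
  have hU : IsAffineOpen (j ⁻¹ᵁ W) :=
    Groth.Agent.Lib.Helper20.ConormalStalk.isAffineOpen_preimage j hW hWj
  have hT : IsAffineOpen ((i ≫ j) ⁻¹ᵁ W) :=
    Groth.Agent.Lib.Helper5.ImmBC.isAffineOpen_preimage_of_isClosedImmersion_restrict i hU
  have hTU : (i ≫ j) ⁻¹ᵁ W ≤ i ⁻¹ᵁ (j ⁻¹ᵁ W) := le_refl _
  haveI : (Omega.conormal j).IsQuasicoherent :=
    inferInstanceAs ((Scheme.Modules.pullback j).obj (ClSub.idealMod j.ker)).IsQuasicoherent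
  letI algAB : Algebra Γ(X, W) Γ(Y, j ⁻¹ᵁ W) := (j.appLE W (j ⁻¹ᵁ W) le_rfl).hom.toAlgebra
  letI algBC : Algebra Γ(Y, j ⁻¹ᵁ W) Γ(Z, (i ≫ j) ⁻¹ᵁ W) :=
    (i.appLE (j ⁻¹ᵁ W) ((i ≫ j) ⁻¹ᵁ W) hTU).hom.toAlgebra
  letI algAC : Algebra Γ(X, W) Γ(Z, (i ≫ j) ⁻¹ᵁ W) :=
    ((i ≫ j).appLE W ((i ≫ j) ⁻¹ᵁ W) le_rfl).hom.toAlgebra
  have hcomp : ∀ x : Γ(X, W), algebraMap Γ(X, W) Γ(Z, (i ≫ j) ⁻¹ᵁ W) x =
      algebraMap Γ(Y, j ⁻¹ᵁ W) Γ(Z, (i ≫ j) ⁻¹ᵁ W) (algebraMap Γ(X, W) Γ(Y, j ⁻¹ᵁ W) x) := by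
    intro x
    have h1 : j.appLE W (j ⁻¹ᵁ W) le_rfl ≫ i.appLE (j ⁻¹ᵁ W) ((i ≫ j) ⁻¹ᵁ W) hTU =
        (i ≫ j).appLE W ((i ≫ j) ⁻¹ᵁ W) le_rfl :=
      Scheme.Hom.appLE_comp_appLE _ _ _ _ _ _ _
    exact (congr($h1 x)).symm
  have hAB : Function.Surjective (algebraMap Γ(X, W) Γ(Y, j ⁻¹ᵁ W)) := by
    have := Groth.Agent.Lib.Helper20.ConormalStalk.app_surjective j hW hWj
    rw [Scheme.Hom.app_eq_appLE] at this
    exact this
  have hBC : Function.Surjective (algebraMap Γ(Y, j ⁻¹ᵁ W) Γ(Z, (i ≫ j) ⁻¹ᵁ W)) := by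
    have := Groth.Agent.Lib.Helper5.ImmBC.app_surjective_of_isClosedImmersion_restrict i hU
    rw [Scheme.Hom.app_eq_appLE] at this
    exact this
  have hAC : Function.Surjective (algebraMap Γ(X, W) Γ(Z, (i ≫ j) ⁻¹ᵁ W)) := by
    intro c
    obtain ⟨b, rfl⟩ := hBC c
    obtain ⟨x, rfl⟩ := hAB b
    exact ⟨x, hcomp x⟩
  -- lifts of the sequence
  have hAB0 := hAB
  choose lift hlift using hAB0
  let ft : Fin rs.length → Γ(X, W) := fun k => lift (rs.get k)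
  have hσft : (fun k => algebraMap Γ(X, W) Γ(Y, j ⁻¹ᵁ W) (ft k)) = rs.get := funext fun k => hlift _
  have hH1 : CAlgX.IsH1Regular (fun k => algebraMap Γ(X, W) Γ(Y, j ⁻¹ᵁ W) (ft k)) := by
    rw [hσft]; exact hseq
  have hkerBC : RingHom.ker (algebraMap Γ(Y, j ⁻¹ᵁ W) Γ(Z, (i ≫ j) ⁻¹ᵁ W)) = Ideal.ofList rs := by
    rw [← hker]
    ext x
    rw [RingHom.mem_ker, RingHom.mem_ker]
    change (i.appLE (j ⁻¹ᵁ W) (i ⁻¹ᵁ (j ⁻¹ᵁ W)) le_rfl) x = 0 ↔ _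
    rw [← Scheme.Hom.app_eq_appLE]
  have hkerAC : RingHom.ker (algebraMap Γ(X, W) Γ(Z, (i ≫ j) ⁻¹ᵁ W)) =
      RingHom.ker (algebraMap Γ(X, W) Γ(Y, j ⁻¹ᵁ W)) ⊔ Ideal.span (Set.range ft) := by
    have h1 : RingHom.ker (algebraMap Γ(X, W) Γ(Z, (i ≫ j) ⁻¹ᵁ W)) =
        (RingHom.ker (algebraMap Γ(Y, j ⁻¹ᵁ W) Γ(Z, (i ≫ j) ⁻¹ᵁ W))).comap
          (algebraMap Γ(X, W) Γ(Y, j ⁻¹ᵁ W)) := by
      ext x
      rw [RingHom.mem_ker, Ideal.mem_comap, RingHom.mem_ker, hcomp]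
    have h2 : Ideal.ofList rs = (Ideal.span (Set.range ft)).map (algebraMap Γ(X, W) Γ(Y, j ⁻¹ᵁ W)) := by
      rw [Ideal.map_span]
      unfold Ideal.ofList
      congr 1
      ext x
      constructor
      · intro hx
        obtain ⟨k, rfl⟩ := List.mem_iff_get.mp hx
        exact ⟨ft k, ⟨k, rfl⟩, hlift _⟩
      · rintro ⟨_, ⟨k, rfl⟩, rfl⟩
        change algebraMap Γ(X, W) Γ(Y, j ⁻¹ᵁ W) (lift (rs.get k)) ∈ {x | x ∈ rs}
        rw [hlift]
        exact List.get_mem rs k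
    rw [h1, hkerBC, h2, Ideal.comap_map_of_surjective _ hAB, ← RingHom.ker_eq_comap_bot, sup_comm]
  have hkerI : ∀ x : Γ(X, W), x ∈ RingHom.ker (algebraMap Γ(X, W) Γ(Y, j ⁻¹ᵁ W)) ↔ j.app W x = 0 := by
    intro x
    rw [RingHom.mem_ker]
    change (j.appLE W (j ⁻¹ᵁ W) le_rfl) x = 0 ↔ _
    rw [← Scheme.Hom.app_eq_appLE]
  have hkerJ : ∀ x : Γ(X, W), x ∈ RingHom.ker (algebraMap Γ(X, W) Γ(Z, (i ≫ j) ⁻¹ᵁ W)) ↔
      (i ≫ j).app W x = 0 := by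
    intro x
    rw [RingHom.mem_ker]
    change ((i ≫ j).appLE W ((i ≫ j) ⁻¹ᵁ W) le_rfl) x = 0 ↔ _
    rw [← Scheme.Hom.app_eq_appLE]
  -- injectivity
  rw [injective_iff_map_eq_zero]
  intro n hn
  obtain ⟨y, rfl⟩ := exists_unitSec_eq i (Omega.conormal j) hTU hU hT rfl hBC n
  obtain ⟨s', rfl⟩ := exists_unitSec_eq j (ClSub.idealMod j.ker) (le_refl (j ⁻¹ᵁ W)) hW hU rfl hAB y
  -- the section of the ideal of `i ≫ j`
  have h0 : (i ≫ j).app W (OmegaSh.idealSect j.ker W s') = 0 := by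
    rw [← hkerJ, RingHom.mem_ker, hcomp]
    have : algebraMap Γ(X, W) Γ(Y, j ⁻¹ᵁ W) (OmegaSh.idealSect j.ker W s') = 0 := by
      rw [← RingHom.mem_ker, hkerI]
      exact app_idealSect_eq_zero j W s'
    rw [this, map_zero]
  obtain ⟨s, hs⟩ := exists_idealSect_eq (i ≫ j) W _ h0
  have h1 : unitSec j (ClSub.idealMod j.ker) (le_refl (j ⁻¹ᵁ W)) s' = OmegaSh.conormalSect j W s' := by
    rw [unitSec_apply]
    exact presheaf_map_homOfLE_refl _ _ _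
  have h2 : a.app ((i ≫ j) ⁻¹ᵁ W) (unitSec i (Omega.conormal j) hTU
      (unitSec j (ClSub.idealMod j.ker) (le_refl (j ⁻¹ᵁ W)) s')) =
      unitSec (i ≫ j) (ClSub.idealMod (i ≫ j).ker) (le_refl ((i ≫ j) ⁻¹ᵁ W)) s := by
    rw [h1]
    have e1 : unitSec i (Omega.conormal j) hTU (OmegaSh.conormalSect j W s') =
        OmegaSh.pullSect i (Omega.conormal j) (j ⁻¹ᵁ W) (OmegaSh.conormalSect j W s') := by
      rw [unitSec_apply]
      exact presheaf_map_homOfLE_refl _ _ _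
    rw [e1]
    refine (phi1_conormalSect j i a ha W s' s hs).trans ?_
    rw [unitSec_apply]
    exact (presheaf_map_homOfLE_refl _ _ _).symm
  rw [h2] at hn
  -- `1 ⊗ s = 0`
  obtain ⟨e, he⟩ := exists_pullback_equiv (i ≫ j) (ClSub.idealMod (i ≫ j).ker)
    (le_refl ((i ≫ j) ⁻¹ᵁ W)) hW hT rfl
  have h3 : (1 : Γ(Z, (i ≫ j) ⁻¹ᵁ W)) ⊗ₜ[Γ(X, W)] s = 0 := by
    apply e.injective
    rw [he, one_smul, map_zero]
    exact hn
  have h4 := mem_smul_top_of_one_tmul_eq_zero' hAC s h3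
  have h5 : ∀ t ∈ (RingHom.ker (algebraMap Γ(X, W) Γ(Z, (i ≫ j) ⁻¹ᵁ W)) • ⊤ :
      Submodule Γ(X, W) Γ(ClSub.idealMod (i ≫ j).ker, W)),
      OmegaSh.idealSect (i ≫ j).ker W t ∈
        (RingHom.ker (algebraMap Γ(X, W) Γ(Z, (i ≫ j) ⁻¹ᵁ W))) ^ 2 := by
    intro t ht
    refine Submodule.smul_induction_on ht ?_ ?_
    · intro x hx t' _
      rw [idealSect_smul, pow_two]
      exact Ideal.mul_mem_mul hx ((hkerJ _).mpr (app_idealSect_eq_zero (i ≫ j) W t'))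
    · intro x y hx hy
      rw [map_add]
      exact Ideal.add_mem _ hx hy
  have h6 := h5 s h4
  rw [hs, hkerAC] at h6
  have h7 := inter_sq_le (algebraMap Γ(X, W) Γ(Y, j ⁻¹ᵁ W)) hAB ft hH1
    (OmegaSh.idealSect j.ker W s')
    ((hkerI _).mpr (app_idealSect_eq_zero j W s')) h6
  rw [← hkerAC] at h7
  -- so `s' ∈ J • ⊤`
  have h8 : ∀ x ∈ RingHom.ker (algebraMap Γ(X, W) Γ(Y, j ⁻¹ᵁ W)) *
      RingHom.ker (algebraMap Γ(X, W) Γ(Z, (i ≫ j) ⁻¹ᵁ W)),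
      ∃ t ∈ (RingHom.ker (algebraMap Γ(X, W) Γ(Z, (i ≫ j) ⁻¹ᵁ W)) • ⊤ :
        Submodule Γ(X, W) Γ(ClSub.idealMod j.ker, W)), OmegaSh.idealSect j.ker W t = x := by
    intro x hx
    refine Submodule.mul_induction_on hx ?_ ?_
    · intro p hp q hq
      obtain ⟨t, ht⟩ := exists_idealSect_eq j W p ((hkerI p).mp hp)
      refine ⟨q • t, Submodule.smul_mem_smul hq Submodule.mem_top, ?_⟩
      rw [idealSect_smul, ht, mul_comm]
    · rintro x y ⟨t, ht, rfl⟩ ⟨t', ht', rfl⟩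
      exact ⟨t + t', Submodule.add_mem _ ht ht', map_add _ _ _⟩
  obtain ⟨t, ht, hts⟩ := h8 _ h7
  have hts' : t = s' := idealSect_injective _ _ hts
  rw [hts'] at ht
  -- conclude
  have h9 : ∀ t ∈ (RingHom.ker (algebraMap Γ(X, W) Γ(Z, (i ≫ j) ⁻¹ᵁ W)) • ⊤ :
      Submodule Γ(X, W) Γ(ClSub.idealMod j.ker, W)),
      unitSec i ((Scheme.Modules.pullback j).obj (ClSub.idealMod j.ker)) hTU
        (unitSec j (ClSub.idealMod j.ker) (le_refl (j ⁻¹ᵁ W)) t) = 0 := by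
    intro t ht
    refine Submodule.smul_induction_on ht ?_ ?_
    · intro x hx t' _
      rw [unitSec_smul, unitSec_smul]
      have : (i.appLE (j ⁻¹ᵁ W) ((i ≫ j) ⁻¹ᵁ W) hTU) ((j.appLE W (j ⁻¹ᵁ W) le_rfl) x) = 0 := by
        have := hcomp x
        rw [RingHom.mem_ker.mp hx] at this
        exact this.symm
      rw [this, zero_smul]
    · intro x y hx hy
      rw [map_add, map_add, hx, hy, add_zero]
  exact h9 s' ht

end chart

section free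
variable {Z Y : Scheme.{u}} (i : Z ⟶ Y) [IsImmersion i] [QuasiCompact i]
  {U : Y.Opens} (hU : IsAffineOpen U) [hcl : IsClosedImmersion (i ∣_ U)]
  (rs : List Γ(Y, U)) (hseq : CAlgX.IsH1Regular rs.get)
  (hker : RingHom.ker (i.app U).hom = Ideal.ofList rs)

include hU hseq hker in
theorem chart_free : Nonempty ((Omega.conormal i).restrict (i ⁻¹ᵁ U).ι ≅
    FlatMod.freeMod ((i ⁻¹ᵁ U : Z.Opens) : Scheme.{u}) rs.length) := by
  have hT : IsAffineOpen (i ⁻¹ᵁ U) :=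
    Groth.Agent.Lib.Helper5.ImmBC.isAffineOpen_preimage_of_isClosedImmersion_restrict i hU
  haveI : (Omega.conormal i).IsQuasicoherent :=
    inferInstanceAs ((Scheme.Modules.pullback i).obj (ClSub.idealMod i.ker)).IsQuasicoherent
  letI algBC : Algebra Γ(Y, U) Γ(Z, i ⁻¹ᵁ U) := (i.appLE U (i ⁻¹ᵁ U) le_rfl).hom.toAlgebra
  have hBC : Function.Surjective (algebraMap Γ(Y, U) Γ(Z, i ⁻¹ᵁ U)) := by
    have := Groth.Agent.Lib.Helper5.ImmBC.app_surjective_of_isClosedImmersion_restrict i hU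
    rw [Scheme.Hom.app_eq_appLE] at this
    exact this
  have hkerI : ∀ x : Γ(Y, U), x ∈ RingHom.ker (algebraMap Γ(Y, U) Γ(Z, i ⁻¹ᵁ U)) ↔ i.app U x = 0 := by
    intro x
    rw [RingHom.mem_ker]
    change (i.appLE U (i ⁻¹ᵁ U) le_rfl) x = 0 ↔ _
    rw [← Scheme.Hom.app_eq_appLE]
  have hkerBC : RingHom.ker (algebraMap Γ(Y, U) Γ(Z, i ⁻¹ᵁ U)) = Ideal.span (Set.range rs.get) := by
    have h1 : RingHom.ker (algebraMap Γ(Y, U) Γ(Z, i ⁻¹ᵁ U)) = RingHom.ker (i.app U).hom := by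
      ext x
      rw [hkerI, RingHom.mem_ker]
    rw [h1, hker, Set.range_list_get]
  have hrs0 : ∀ k, i.app U (rs.get k) = 0 := by
    intro k
    rw [← hkerI, hkerBC]
    exact Ideal.subset_span ⟨k, rfl⟩
  have ht0 : ∀ k, ∃ t : Γ(ClSub.idealMod i.ker, U), OmegaSh.idealSect i.ker U t = rs.get k :=
    fun k => exists_idealSect_eq i U _ (hrs0 k)
  choose t ht using ht0
  let v : Fin rs.length → Γ((Scheme.Modules.pullback i).obj (ClSub.idealMod i.ker), i ⁻¹ᵁ U) :=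
    fun k => unitSec i (ClSub.idealMod i.ker) (le_refl (i ⁻¹ᵁ U)) (t k)
  have hsum : ∀ b : Fin rs.length → Γ(Y, U),
      unitSec i (ClSub.idealMod i.ker) (le_refl (i ⁻¹ᵁ U)) (∑ k, b k • t k) =
        ∑ k, algebraMap Γ(Y, U) Γ(Z, i ⁻¹ᵁ U) (b k) • v k := by
    intro b
    rw [map_sum]
    refine Finset.sum_congr rfl fun k _ => ?_
    rw [unitSec_smul]
    rfl
  have hidsum : ∀ b : Fin rs.length → Γ(Y, U),
      OmegaSh.idealSect i.ker U (∑ k, b k • t k) = ∑ k, b k * rs.get k := by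
    intro b
    rw [map_sum]
    refine Finset.sum_congr rfl fun k _ => ?_
    rw [idealSect_smul, ht]
  have hli : LinearIndependent Γ(Z, i ⁻¹ᵁ U) v := by
    rw [Fintype.linearIndependent_iff]
    intro c hc k
    have hb0 := fun k => hBC (c k)
    choose b hb using hb0
    have h1 : unitSec i (ClSub.idealMod i.ker) (le_refl (i ⁻¹ᵁ U)) (∑ k, b k • t k) = 0 := by
      rw [hsum]
      refine Eq.trans ?_ hc
      exact Finset.sum_congr rfl fun k _ => by rw [hb]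
    obtain ⟨e, he⟩ := exists_pullback_equiv i (ClSub.idealMod i.ker) (le_refl (i ⁻¹ᵁ U)) hU hT rfl
    have h2 : (1 : Γ(Z, i ⁻¹ᵁ U)) ⊗ₜ[Γ(Y, U)] (∑ k, b k • t k) = 0 := by
      apply e.injective
      rw [he, one_smul, map_zero]
      exact h1
    have h3 := mem_smul_top_of_one_tmul_eq_zero' hBC _ h2
    have h4 : ∀ s ∈ (RingHom.ker (algebraMap Γ(Y, U) Γ(Z, i ⁻¹ᵁ U)) • ⊤ :
        Submodule Γ(Y, U) Γ(ClSub.idealMod i.ker, U)),
        OmegaSh.idealSect i.ker U s ∈ (RingHom.ker (algebraMap Γ(Y, U) Γ(Z, i ⁻¹ᵁ U))) ^ 2 := by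
      intro s hs
      refine Submodule.smul_induction_on hs ?_ ?_
      · intro x hx s' _
        rw [idealSect_smul, pow_two]
        exact Ideal.mul_mem_mul hx ((hkerI _).mpr (app_idealSect_eq_zero i U s'))
      · intro x y hx hy
        rw [map_add]
        exact Ideal.add_mem _ hx hy
    have h5 := h4 _ h3
    rw [hidsum, hkerBC] at h5
    have h6 := coeff_mem_of_sum_mem_sq rs.get hseq b h5 k
    rw [← hkerBC, RingHom.mem_ker, hb] at h6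
    exact h6
  have hspan : ⊤ ≤ Submodule.span Γ(Z, i ⁻¹ᵁ U) (Set.range v) := by
    intro n _
    obtain ⟨s, rfl⟩ := exists_unitSec_eq i (ClSub.idealMod i.ker) (le_refl (i ⁻¹ᵁ U)) hU hT rfl hBC n
    have h1 : OmegaSh.idealSect i.ker U s ∈ Ideal.span (Set.range rs.get) := by
      rw [← hkerBC, hkerI]
      exact app_idealSect_eq_zero i U s
    obtain ⟨b, hb⟩ := (Ideal.mem_span_range_iff_exists_fun).mp h1
    have h2 : s = ∑ k, b k • t k := by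
      apply idealSect_injective
      rw [hidsum, hb]
    rw [h2, hsum]
    exact Submodule.sum_mem _ fun k _ => Submodule.smul_mem _ _ (Submodule.subset_span ⟨k, rfl⟩)
  exact ⟨Groth.Agent.Lib.Helper20.LocFree.restrictIsoFreeMod (Omega.conormal i) hT
    (Module.Basis.mk hli hspan)⟩

end free

section main
variable {Z Y X : Scheme.{u}} (i : Z ⟶ Y) (j : Y ⟶ X) [IsImmersion i] [IsImmersion j]
    [QuasiCompact i] [QuasiCompact j]
    (a : (Scheme.Modules.pullback i).obj (Omega.conormal j) ⟶ Omega.conormal (i ≫ j))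
    (ha : OmegaSh.IsConormalMap (i ≫ j) j (𝟙 X) i a)
    (b : (Scheme.Modules.pullback (𝟙 Z)).obj (Omega.conormal (i ≫ j)) ⟶ Omega.conormal i)
    (hb : OmegaSh.IsConormalMap i (i ≫ j) j (𝟙 Z) b)
    (hi : RegImm.IsRegularImmersion RegImm.Kind.h1 i)

include hi in
theorem exists_chart_S8919 (O : Z.Opens) (z : Z) (hz : z ∈ O) :
    ∃ W : X.Opens, IsAffineOpen W ∧ W ≤ j.coborderRange ∧ z ∈ (i ≫ j) ⁻¹ᵁ W ∧
      (i ≫ j) ⁻¹ᵁ W ≤ O ∧ IsClosedImmersion (i ∣_ (j ⁻¹ᵁ W)) ∧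
      ∃ rs : List Γ(Y, j ⁻¹ᵁ W), CAlgX.IsH1Regular rs.get ∧
        RingHom.ker (i.app (j ⁻¹ᵁ W)).hom = Ideal.ofList rs := by
  obtain ⟨⟨U₀, hU₀⟩, hzU₀, hcl, rs, hseq, hker⟩ := hi.2 z
  simp only at hzU₀ hcl hker hseq
  haveI := hcl
  obtain ⟨O'set, hO'open, hO'eq⟩ := (i ≫ j).isEmbedding.isInducing.isOpen_iff.mp O.isOpen
  let O' : X.Opens := ⟨O'set, hO'open⟩
  have hO' : ∀ z' : Z, (i ≫ j) z' ∈ O' ↔ z' ∈ O := by
    intro z'
    have : z' ∈ ((i ≫ j) ⁻¹' O'set) ↔ z' ∈ (O : Set Z) := by rw [hO'eq]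
    exact this
  obtain ⟨U'set, hU'open, hU'eq⟩ := j.isEmbedding.isInducing.isOpen_iff.mp U₀.isOpen
  let U₀' : X.Opens := ⟨U'set, hU'open⟩
  have hU₀' : ∀ y : Y, j y ∈ U₀' ↔ y ∈ U₀ := by
    intro y
    have : y ∈ (j ⁻¹' U'set) ↔ y ∈ (U₀ : Set Y) := by rw [hU'eq]
    exact this
  have hx : j (i z) ∈ (j.coborderRange ⊓ U₀') ⊓ O' :=
    ⟨⟨subset_coborder ⟨i z, rfl⟩, (hU₀' _).mpr hzU₀⟩, (hO' z).mpr hz⟩
  obtain ⟨W, hW, hxW, hWle⟩ := exists_isAffineOpen_mem_and_subset (x := j (i z)) hx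
  have hWj : W ≤ j.coborderRange := hWle.trans (inf_le_left.trans inf_le_left)
  have hle : j ⁻¹ᵁ W ≤ U₀ := fun y hy => (hU₀' y).mp ((hWle.trans (inf_le_left.trans inf_le_right)) hy)
  have hU' : IsAffineOpen (j ⁻¹ᵁ W) :=
    Groth.Agent.Lib.Helper20.ConormalStalk.isAffineOpen_preimage j hW hWj
  obtain ⟨hcl', rs', hseq', hker'⟩ := h1_restrict i hU₀ rs hseq hker hU' hle
  exact ⟨W, hW, hWj, hxW, fun z' hz' => (hO' z').mp ((hWle.trans inf_le_right) hz'), hcl', rs',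
    hseq', hker'⟩

include ha hb hi in
theorem main_S8919 :
    a ≫ ((Scheme.Modules.pullbackId Z).inv.app (Omega.conormal (i ≫ j)) ≫ b) = 0 ∧
      (∀ w : a ≫ ((Scheme.Modules.pullbackId Z).inv.app (Omega.conormal (i ≫ j)) ≫ b) = 0,
        (ShortComplex.mk a ((Scheme.Modules.pullbackId Z).inv.app (Omega.conormal (i ≫ j)) ≫ b)
          w).ShortExact) ∧
      FlatMod.IsFinLocFree (Omega.conormal i) := by
  obtain ⟨hepi, himg⟩ := main_S5974 j i a ha b hb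
  set b' := (Scheme.Modules.pullbackId Z).inv.app (Omega.conormal (i ≫ j)) ≫ b with hb'
  have w : a ≫ b' = 0 := by
    rw [← imageSubobject_arrow_comp a, Category.assoc, ← Subobject.ofLE_arrow himg.le, Category.assoc,
      kernelSubobject_arrow_comp, comp_zero, comp_zero]
  have hex : (ShortComplex.mk a b' w).Exact := by
    rw [ShortComplex.exact_iff_image_eq_kernel]
    exact himg
  haveI : Epi b' := epi_comp _ _
  haveI : Mono a := by
    refine mono_of_injective_app_basis a {T | Function.Injective (a.app T)} ?_ (fun T hT => hT)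
    refine TopologicalSpace.Opens.isBasis_iff_nbhd.mpr ?_
    intro O z hz
    obtain ⟨W, hW, hWj, hzW, hWO, hcl, rs, hseq, hker⟩ := exists_chart_S8919 i j hi O z hz
    haveI := hcl
    exact ⟨(i ≫ j) ⁻¹ᵁ W, chart_S8919_injective i j a ha hW hWj rs hseq hker, hzW, hWO⟩
  refine ⟨w, fun w' => ShortComplex.ShortExact.mk' hex inferInstance inferInstance, ?_⟩
  intro z
  obtain ⟨W, hW, hWj, hzW, -, hcl, rs, hseq, hker⟩ := exists_chart_S8919 i j hi ⊤ z trivial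
  haveI := hcl
  have hU' : IsAffineOpen (j ⁻¹ᵁ W) :=
    Groth.Agent.Lib.Helper20.ConormalStalk.isAffineOpen_preimage j hW hWj
  exact ⟨i ⁻¹ᵁ (j ⁻¹ᵁ W), rs.length, hzW, chart_free i hU' rs hseq hker⟩

end main

end Groth.Agent.Helper18H1Con
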