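import Mathlib

set_option autoImplicit false
set_option linter.style.haveILetI false
universe u
open CategoryTheory Limits TensorProduct

namespace Groth.Agent.Helper18Con

/-- in a pushout square of commutative rings with `π'` surjective, the kernel of the opposite
map is generated by the image of the kernel of `π'`. -/
theorem ker_eq_map_of_isPushout {A' A R' R : CommRingCat.{u}} {γ : A' ⟶ A} {π' : A' ⟶ R'}
    {π : A ⟶ R} {ρ : R' ⟶ R} (h : IsPushout γ π' π ρ) (hπ' : Function.Surjective π'.hom) :
    RingHom.ker π.hom = Ideal.map γ.hom (RingHom.ker π'.hom) := by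
  apply le_antisymm
  · set J : Ideal A := Ideal.map γ.hom (RingHom.ker π'.hom) with hJ
    let q : A →+* A ⧸ J := Ideal.Quotient.mk J
    have hq : ∀ a' : A', π'.hom a' = 0 → q (γ.hom a') = 0 := by
      intro a' ha'
      exact Ideal.Quotient.eq_zero_iff_mem.2 (Ideal.mem_map_of_mem _ (RingHom.mem_ker.2 ha'))
    let ψ' : R' →+* A ⧸ J := RingHom.liftOfSurjective π'.hom hπ' ⟨q.comp γ.hom, fun a' ha' => by
      exact hq a' (RingHom.mem_ker.1 ha')⟩
    have hψ' : ψ'.comp π'.hom = q.comp γ.hom := RingHom.liftOfRightInverse_comp _ _ _ _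
    let T : CommRingCat.{u} := CommRingCat.of (A ⧸ J)
    let k₁ : A ⟶ T := CommRingCat.ofHom q
    let k₂ : R' ⟶ T := CommRingCat.ofHom ψ'
    have w : γ ≫ k₁ = π' ≫ k₂ := by
      ext a'
      exact (congr($hψ' a')).symm
    have h1 : π ≫ h.desc k₁ k₂ w = k₁ := h.inl_desc k₁ k₂ w
    intro x hx
    have h2 := congr($h1 x)
    have h3 : (h.desc k₁ k₂ w).hom (π.hom x) = q x := h2
    rw [RingHom.mem_ker.1 hx, map_zero] at h3
    exact Ideal.Quotient.eq_zero_iff_mem.1 h3.symm
  · rw [Ideal.map_le_iff_le_comap]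
    intro a' ha'
    rw [Ideal.mem_comap, RingHom.mem_ker]
    have := congr($(h.w) a')
    change π.hom (γ.hom a') = ρ.hom (π'.hom a') at this
    rw [this, RingHom.mem_ker.1 ha', map_zero]

section alg2
variable {A' A R : Type u} [CommRing A'] [CommRing A] [CommRing R] [Algebra A' A] [Algebra A R]
  [Algebra A' R] [IsScalarTower A' A R]
  {N' N : Type u} [AddCommGroup N'] [Module A' N'] [AddCommGroup N] [Module A N]
  (τ : N' →+ N) (hτ : ∀ (a : A') (n : N'), τ (a • n) = algebraMap A' A a • τ n)

include hτ in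
theorem exists_tensor_map :
    ∃ Φ : R ⊗[A'] N' →+ R ⊗[A] N, (∀ (r : R) (n' : N'), Φ (r ⊗ₜ n') = r ⊗ₜ τ n') ∧
      ((∀ n : N, n ∈ Submodule.span A (Set.range τ)) → Function.Surjective Φ) ∧
      ∀ (ι' : N' →ₗ[A'] A') (ι : N →ₗ[A] A), Module.Flat A' A → Function.Injective ι' →
        Function.Injective ι → (∀ n', ι (τ n') = algebraMap A' A (ι' n')) →
        (∀ n : N, n ∈ Submodule.span A (Set.range τ)) → Function.Bijective Φ := by
  letI : Module A' N := Module.compHom N (algebraMap A' A)
  haveI : IsScalarTower A' A N := IsScalarTower.of_algebraMap_smul fun _ _ => rfl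
  let τl : N' →ₗ[A'] N := { toFun := τ, map_add' := map_add τ, map_smul' := fun a n => hτ a n }
  let β : A ⊗[A'] N' →ₗ[A] N := LinearMap.liftBaseChange A τl
  have hβ : ∀ (a : A) (n' : N'), β (a ⊗ₜ n') = a • τ n' := fun a n' =>
    LinearMap.liftBaseChange_tmul _ _ _ _
  let c := TensorProduct.AlgebraTensorModule.cancelBaseChange A' A A R N'
  let Φl : R ⊗[A'] N' →ₗ[A] R ⊗[A] N := (LinearMap.lTensor R β).comp c.symm.toLinearMap
  have hΦ : ∀ (r : R) (n' : N'), Φl (r ⊗ₜ n') = r ⊗ₜ τ n' := by
    intro r n'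
    change (LinearMap.lTensor R β) (c.symm (r ⊗ₜ n')) = _
    rw [TensorProduct.AlgebraTensorModule.cancelBaseChange_symm_tmul, LinearMap.lTensor_tmul, hβ,
      one_smul]
  have hsurj : (∀ n : N, n ∈ Submodule.span A (Set.range τ)) → Function.Surjective β := by
    intro hgen
    rw [← LinearMap.range_eq_top, eq_top_iff]
    intro n _
    have hn := hgen n
    refine Submodule.span_le.2 ?_ hn
    rintro _ ⟨n', rfl⟩
    exact ⟨1 ⊗ₜ n', by rw [hβ, one_smul]⟩
  refine ⟨Φl.toAddMonoidHom, hΦ, ?_, ?_⟩
  · intro hgen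
    have h1 : Function.Surjective (LinearMap.lTensor R β) :=
      LinearMap.lTensor_surjective R (hsurj hgen)
    exact h1.comp c.symm.surjective
  · intro ι' ι hflat hι' hι hcomp hgen
    have hinj : Function.Injective β := by
      have h1 : Function.Injective (LinearMap.lTensor A ι') :=
        Module.Flat.lTensor_preserves_injective_linearMap ι' hι'
      have h2 : ∀ x : A ⊗[A'] N', ι (β x) = TensorProduct.rid A' A (LinearMap.lTensor A ι' x) := by
        intro x
        induction x using TensorProduct.induction_on with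
        | zero => simp
        | tmul a n' =>
          rw [hβ, map_smul, hcomp, LinearMap.lTensor_tmul, TensorProduct.rid_tmul, smul_eq_mul,
            Algebra.smul_def, mul_comm]
        | add x y hx hy => rw [map_add, map_add, map_add, map_add, hx, hy]
      intro x y hxy
      apply h1
      apply (TensorProduct.rid A' A).injective
      rw [← h2, ← h2, hxy]
    let βe : A ⊗[A'] N' ≃ₗ[A] N := LinearEquiv.ofBijective β ⟨hinj, hsurj hgen⟩
    have h3 : Function.Bijective (LinearMap.lTensor R β) :=
      (LinearEquiv.lTensor R βe).bijective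
    exact h3.comp c.symm.bijective

end alg2

end Groth.Agent.Helper18Con
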