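import Mathlib
import Groth.Prelude.Def_Omega4
import Groth.Agent.Lib.Helper18OmLS14
import Groth.Agent.Lib.Helper18Con1
import Groth.Agent.Lib.Helper18Con2

set_option autoImplicit false
set_option linter.style.haveILetI false
set_option linter.unusedSectionVars false
universe u
open CategoryTheory AlgebraicGeometry Limits TopologicalSpace Opposite TensorProduct

namespace Groth.Agent.Helper18Con

open Groth.Agent.Helper18OmLS Groth.Agent.Helper18Om
open Groth.Agent.Helper13PullbackUnit Groth.Agent.Helper13ModGlue Groth.Agent.Lib.Helper6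

section lift2
variable {X Y Z : Scheme.{u}} (f : Y ⟶ X) (j : Z ⟶ Y) (F : X.Modules) [F.IsQuasicoherent]
  {V : X.Opens} (hV : IsAffineOpen V) {U : Y.Opens} (hU : IsAffineOpen U) (hle : U ≤ f ⁻¹ᵁ V)
  {T : Z.Opens} (hT : IsAffineOpen T) (hle' : T ≤ j ⁻¹ᵁ U)

include hV hU hT in
/-- universal property of sections of a double pullback over affine opens. -/
theorem existsUnique_lift₂ (N : Type u) [AddCommGroup N] [Module Γ(Z, T) N] (l : Γ(F, V) →+ N)
    (hl : ∀ (r : Γ(X, V)) (x : Γ(F, V)),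
      l (r • x) = (j.appLE U T hle' (f.appLE V U hle r) : Γ(Z, T)) • l x) :
    ∃! l' : Γ((Scheme.Modules.pullback j).obj ((Scheme.Modules.pullback f).obj F), T) →ₗ[Γ(Z, T)] N,
      ∀ x : Γ(F, V), l' (unitSec j _ hle' (unitSec f F hle x)) = l x := by
  letI : Module Γ(Y, U) N := Module.compHom N (j.appLE U T hle').hom
  have hsm : ∀ (r : Γ(Y, U)) (n : N), r • n = (j.appLE U T hle' r : Γ(Z, T)) • n := fun _ _ => rfl
  obtain ⟨l₁, hl₁, hl₁u⟩ := existsUnique_lift f F hV hU hle N l (fun r x => by rw [hl, hsm])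
  obtain ⟨l₂, hl₂, hl₂u⟩ := existsUnique_lift j ((Scheme.Modules.pullback f).obj F) hU hT hle' N
    l₁.toAddMonoidHom (fun r x => by
      change l₁ (r • x) = _
      rw [map_smul, hsm]
      rfl)
  refine ⟨l₂, fun x => ?_, fun l' hl' => ?_⟩
  · rw [hl₂]
    exact hl₁ x
  · apply hl₂u
    intro y
    let l₁' : Γ((Scheme.Modules.pullback f).obj F, U) →ₗ[Γ(Y, U)] N :=
      { toFun := fun y => l' (unitSec j _ hle' y)
        map_add' := fun a b => by rw [map_add, map_add]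
        map_smul' := fun r y => by
          rw [unitSec_smul, map_smul, RingHom.id_apply, hsm] }
    have : l₁' = l₁ := hl₁u l₁' (fun x => hl' x)
    change l₁' y = l₁ y
    rw [this]

end lift2

section chart
variable {Z X Z' X' : Scheme.{u}} (i : Z ⟶ X) (i' : Z' ⟶ X') [IsImmersion i] [IsImmersion i']
  [QuasiCompact i] [QuasiCompact i'] (g : X ⟶ X') (gZ : Z ⟶ Z') (hsq : IsPullback i gZ g i')
  (φ : (Scheme.Modules.pullback gZ).obj (Omega.conormal i') ⟶ Omega.conormal i)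
  (hφ : ∀ (U' : X'.Opens) (s' : Γ(ClSub.idealMod i'.ker, U')),
    φ.app (gZ ⁻¹ᵁ (i' ⁻¹ᵁ U')) (OmegaSh.pullSect gZ (Omega.conormal i') (i' ⁻¹ᵁ U')
      (OmegaSh.conormalSect i' U' s')) =
    cls i (g ⁻¹ᵁ U') (gZ ⁻¹ᵁ (i' ⁻¹ᵁ U')) (sq_le i i' g gZ hsq.w.symm U')
      (g.app U' (OmegaSh.idealSect i'.ker U' s')))
  {V' : X'.Opens} (hV' : IsAffineOpen V') (hV'c : V' ≤ i'.coborderRange)
  {U : X.Opens} (hU : IsAffineOpen U) (hUV' : U ≤ g ⁻¹ᵁ V') (hUc : U ≤ i.coborderRange)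

include hsq hUV' in
theorem chart_le : i ⁻¹ᵁ U ≤ gZ ⁻¹ᵁ (i' ⁻¹ᵁ V') := by
  intro z hz
  have h1 : g (i z) ∈ V' := hUV' hz
  change i' (gZ z) ∈ V'
  have h2 : i' (gZ z) = g (i z) := by
    rw [← Scheme.Hom.comp_apply, ← Scheme.Hom.comp_apply, hsq.w]
  rw [h2]; exact h1

include hφ hUV' in
/-- `φ` on a doubly pulled back section, over the chart. -/
theorem phi_double (s' : Γ(ClSub.idealMod i'.ker, V')) :
    φ.app (i ⁻¹ᵁ U) (unitSec gZ (Omega.conormal i') (chart_le i i' g gZ hsq hUV')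
      (unitSec i' (ClSub.idealMod i'.ker) (le_refl (i' ⁻¹ᵁ V')) s')) =
    cls i U (i ⁻¹ᵁ U) (le_refl _) (g.appLE V' U hUV' (OmegaSh.idealSect i'.ker V' s')) := by
  have h1 : unitSec i' (ClSub.idealMod i'.ker) (le_refl (i' ⁻¹ᵁ V')) s' =
      OmegaSh.conormalSect i' V' s' := by
    rw [unitSec_apply]
    exact presheaf_map_homOfLE_refl _ _ _
  rw [h1, unitSec_apply]
  have h2 := congr($(φ.mapPresheaf.naturality (homOfLE (chart_le i i' g gZ hsq hUV')).op)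
    (OmegaSh.pullSect gZ (Omega.conormal i') (i' ⁻¹ᵁ V') (OmegaSh.conormalSect i' V' s')))
  refine h2.trans ?_
  change (Omega.conormal i).presheaf.map (homOfLE (chart_le i i' g gZ hsq hUV')).op
    (φ.app (gZ ⁻¹ᵁ (i' ⁻¹ᵁ V')) (OmegaSh.pullSect gZ (Omega.conormal i') (i' ⁻¹ᵁ V')
      (OmegaSh.conormalSect i' V' s'))) = _
  rw [hφ V' s']
  exact (cls_res i (g ⁻¹ᵁ V') U _ (i ⁻¹ᵁ U) (sq_le i i' g gZ hsq.w.symm V') (le_refl _) hUV'
    (chart_le i i' g gZ hsq hUV') _ (sq_app_zero i i' g gZ hsq.w.symm V' s')).symm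

include hsq hφ hV' hV'c hU hUV' hUc in
theorem chart_S9372 :
    Function.Surjective (φ.app (i ⁻¹ᵁ U)) ∧ (Flat g → Function.Bijective (φ.app (i ⁻¹ᵁ U))) := by
  have hTaff : IsAffineOpen (i ⁻¹ᵁ U) :=
    Groth.Agent.Lib.Helper20.ConormalStalk.isAffineOpen_preimage i hU hUc
  have hT'aff : IsAffineOpen (i' ⁻¹ᵁ V') :=
    Groth.Agent.Lib.Helper20.ConormalStalk.isAffineOpen_preimage i' hV' hV'c
  have hTT' := chart_le i i' g gZ hsq hUV'
  letI algA'A : Algebra Γ(X', V') Γ(X, U) := (g.appLE V' U hUV').hom.toAlgebra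
  letI algAR : Algebra Γ(X, U) Γ(Z, i ⁻¹ᵁ U) := (i.appLE U (i ⁻¹ᵁ U) le_rfl).hom.toAlgebra
  letI algA'R : Algebra Γ(X', V') Γ(Z, i ⁻¹ᵁ U) :=
    ((algebraMap Γ(X, U) Γ(Z, i ⁻¹ᵁ U)).comp (algebraMap Γ(X', V') Γ(X, U))).toAlgebra
  haveI : IsScalarTower Γ(X', V') Γ(X, U) Γ(Z, i ⁻¹ᵁ U) :=
    IsScalarTower.of_algebraMap_eq fun _ => rfl
  have hsqR : ∀ a : Γ(X', V'), algebraMap Γ(X', V') Γ(Z, i ⁻¹ᵁ U) a =
      gZ.appLE (i' ⁻¹ᵁ V') (i ⁻¹ᵁ U) hTT' (i'.appLE V' (i' ⁻¹ᵁ V') le_rfl a) := by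
    intro a
    have h1 : g.appLE V' U hUV' ≫ i.appLE U (i ⁻¹ᵁ U) le_rfl =
        (i ≫ g).appLE V' (i ⁻¹ᵁ U) (i.preimage_mono hUV') :=
      Scheme.Hom.appLE_comp_appLE _ _ _ _ _ _ _
    have h2 : i'.appLE V' (i' ⁻¹ᵁ V') le_rfl ≫ gZ.appLE (i' ⁻¹ᵁ V') (i ⁻¹ᵁ U) hTT' =
        (gZ ≫ i').appLE V' (i ⁻¹ᵁ U) hTT' :=
      Scheme.Hom.appLE_comp_appLE _ _ _ _ _ _ _
    have h3 := OmegaSh.appLE_congr_hom hsq.w (U := V') (V := i ⁻¹ᵁ U) (i.preimage_mono hUV') hTT'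
    have h4 : g.appLE V' U hUV' ≫ i.appLE U (i ⁻¹ᵁ U) le_rfl =
        i'.appLE V' (i' ⁻¹ᵁ V') le_rfl ≫ gZ.appLE (i' ⁻¹ᵁ V') (i ⁻¹ᵁ U) hTT' := by
      rw [h1, h2, h3]
    exact congr($h4 a)
  -- the pushout square of rings and the kernel
  have hPO : IsPushout (g.appLE V' U hUV') (i'.appLE V' (i' ⁻¹ᵁ V') le_rfl)
      (i.appLE U (i ⁻¹ᵁ U) (by simp)) (gZ.appLE (i' ⁻¹ᵁ V') (i ⁻¹ᵁ U) hTT') := by
    have hUY : i ⁻¹ᵁ U = i ⁻¹ᵁ U ⊓ gZ ⁻¹ᵁ (i' ⁻¹ᵁ V') := (inf_eq_left.2 hTT').symm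
    have := isIso_pushoutSection_of_isAffineOpen hsq (le_refl _) hUV' hUY hV' hT'aff hU
    exact (isIso_pushoutSection_iff hsq _ _ hUY).mp this
  have hsurj' : Function.Surjective (i'.appLE V' (i' ⁻¹ᵁ V') le_rfl).hom := by
    have := Groth.Agent.Lib.Helper20.ConormalStalk.app_surjective i' hV' hV'c
    rw [Scheme.Hom.app_eq_appLE] at this
    exact this
  have hker := ker_eq_map_of_isPushout hPO hsurj'
  have happ0 : ∀ x : Γ(X, U), i.app U x = 0 ↔ i.appLE U (i ⁻¹ᵁ U) le_rfl x = 0 := by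
    intro x
    rw [← Scheme.Hom.app_eq_appLE]
  have happ0' : ∀ x : Γ(X', V'), i'.app V' x = 0 ↔ i'.appLE V' (i' ⁻¹ᵁ V') le_rfl x = 0 := by
    intro x
    rw [← Scheme.Hom.app_eq_appLE]
  -- the comparison map of ideals
  have hτex : ∀ s' : Γ(ClSub.idealMod i'.ker, V'), ∃ s : Γ(ClSub.idealMod i.ker, U),
      OmegaSh.idealSect i.ker U s = g.appLE V' U hUV' (OmegaSh.idealSect i'.ker V' s') := by
    intro s'
    refine exists_idealSect_eq i U _ ?_
    rw [happ0]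
    have := hsqR (OmegaSh.idealSect i'.ker V' s')
    refine this.trans ?_
    rw [(happ0' _).mp (app_idealSect_eq_zero i' V' s'), map_zero]
  choose τf hτf using hτex
  let τ : Γ(ClSub.idealMod i'.ker, V') →+ Γ(ClSub.idealMod i.ker, U) :=
    { toFun := τf
      map_zero' := by
        apply idealSect_injective
        rw [hτf, map_zero, map_zero, map_zero]
      map_add' := fun a b => by
        apply idealSect_injective
        rw [hτf, map_add, map_add, map_add, hτf, hτf] }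
  have hτ : ∀ (a : Γ(X', V')) (n : Γ(ClSub.idealMod i'.ker, V')),
      τ (a • n) = algebraMap Γ(X', V') Γ(X, U) a • τ n := by
    intro a n
    apply idealSect_injective
    change OmegaSh.idealSect i.ker U (τf (a • n)) = OmegaSh.idealSect i.ker U
      (algebraMap Γ(X', V') Γ(X, U) a • τf n)
    rw [hτf, idealSect_smul, idealSect_smul, hτf, map_mul]
    rfl
  have hgen : ∀ n : Γ(ClSub.idealMod i.ker, U), n ∈ Submodule.span Γ(X, U) (Set.range τ) := by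
    intro n
    have h1 : OmegaSh.idealSect i.ker U n ∈ Ideal.map (g.appLE V' U hUV').hom
        (RingHom.ker (i'.appLE V' (i' ⁻¹ᵁ V') le_rfl).hom) := by
      rw [← hker, RingHom.mem_ker]
      exact (happ0 _).mp (app_idealSect_eq_zero i U n)
    have key : ∀ x ∈ Ideal.map (g.appLE V' U hUV').hom
        (RingHom.ker (i'.appLE V' (i' ⁻¹ᵁ V') le_rfl).hom),
        ∃ m ∈ Submodule.span Γ(X, U) (Set.range τ), OmegaSh.idealSect i.ker U m = x := by
      intro x hx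
      refine Submodule.span_induction ?_ ?_ ?_ ?_ hx
      · rintro _ ⟨σ', hσ', rfl⟩
        obtain ⟨s', hs'⟩ := exists_idealSect_eq i' V' σ' ((happ0' σ').mpr (RingHom.mem_ker.mp hσ'))
        refine ⟨τ s', Submodule.subset_span ⟨s', rfl⟩, ?_⟩
        change OmegaSh.idealSect i.ker U (τf s') = _
        rw [hτf, hs']
      · exact ⟨0, zero_mem _, map_zero _⟩
      · rintro x y _ _ ⟨m, hm, rfl⟩ ⟨m', hm', rfl⟩
        exact ⟨m + m', add_mem hm hm', map_add _ _ _⟩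
      · rintro a x _ ⟨m, hm, rfl⟩
        exact ⟨a • m, Submodule.smul_mem _ a hm, idealSect_smul _ U a m⟩
    obtain ⟨m, hm, hmn⟩ := key _ h1
    rwa [idealSect_injective _ _ hmn] at hm
  -- the tensor product descriptions
  obtain ⟨e₃, he₃⟩ := exists_pullback_equiv i (ClSub.idealMod i.ker) (le_refl (i ⁻¹ᵁ U)) hU hTaff rfl
  let L : Γ(ClSub.idealMod i'.ker, V') →+
      Γ((Scheme.Modules.pullback gZ).obj ((Scheme.Modules.pullback i').obj (ClSub.idealMod i'.ker)),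
        i ⁻¹ᵁ U) :=
    (unitSec gZ ((Scheme.Modules.pullback i').obj (ClSub.idealMod i'.ker)) hTT').comp
      (unitSec i' (ClSub.idealMod i'.ker) (le_refl (i' ⁻¹ᵁ V')))
  have hL : ∀ (a : Γ(X', V')) (m : Γ(ClSub.idealMod i'.ker, V')),
      L (a • m) = algebraMap Γ(X', V') Γ(Z, i ⁻¹ᵁ U) a • L m := by
    intro a m
    change unitSec gZ _ hTT' (unitSec i' (ClSub.idealMod i'.ker) (le_refl (i' ⁻¹ᵁ V')) (a • m)) = _
    rw [unitSec_smul, unitSec_smul, hsqR]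
    rfl
  obtain ⟨Λ, hΛ⟩ := exists_baseChangeEquiv (A := Γ(X', V')) (B := Γ(Z, i ⁻¹ᵁ U)) L hL
    (fun N _ _ l hl => existsUnique_lift₂ i' gZ (ClSub.idealMod i'.ker) hV' hT'aff (le_refl _)
      hTaff hTT' N l (fun r x => by rw [hl, hsqR]))
  obtain ⟨Φ, hΦ, hΦs, hΦb⟩ := exists_tensor_map (R := Γ(Z, i ⁻¹ᵁ U)) τ hτ
  let φT : Γ((Scheme.Modules.pullback gZ).obj ((Scheme.Modules.pullback i').obj
      (ClSub.idealMod i'.ker)), i ⁻¹ᵁ U) →+
      Γ((Scheme.Modules.pullback i).obj (ClSub.idealMod i.ker), i ⁻¹ᵁ U) := (φ.app (i ⁻¹ᵁ U)).hom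
  have hφT : ∀ x, φT x = φ.app (i ⁻¹ᵁ U) x := fun _ => rfl
  have hcomp : ∀ v : Γ(Z, i ⁻¹ᵁ U) ⊗[Γ(X', V')] Γ(ClSub.idealMod i'.ker, V'),
      φT (Λ v) = e₃ (Φ v) := by
    intro v
    induction v using TensorProduct.induction_on with
    | zero => rw [map_zero, map_zero, map_zero, map_zero]
    | tmul r s' =>
      rw [hΛ, hΦ, he₃]
      refine (Scheme.Modules.Hom.app_smul φ r _).trans ?_
      congr 1
      refine (phi_double i i' g gZ hsq φ hφ hUV' s').trans ?_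
      exact cls_eq i U (i ⁻¹ᵁ U) (le_refl _) _ (τ s') (hτf s')
    | add x y hx hy => rw [map_add, map_add, map_add, map_add, hx, hy]
  constructor
  · intro y
    obtain ⟨w, rfl⟩ := e₃.surjective y
    obtain ⟨v, rfl⟩ := hΦs hgen w
    exact ⟨Λ v, (hφT _).symm.trans (hcomp v)⟩
  · intro hflat
    haveI : Module.Flat Γ(X', V') Γ(X, U) := Scheme.Hom.flat_appLE g hV' hU hUV'
    let ι' : Γ(ClSub.idealMod i'.ker, V') →ₗ[Γ(X', V')] Γ(X', V') :=
      { toFun := OmegaSh.idealSect i'.ker V'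
        map_add' := map_add _
        map_smul' := fun a m => idealSect_smul _ V' a m }
    let ι : Γ(ClSub.idealMod i.ker, U) →ₗ[Γ(X, U)] Γ(X, U) :=
      { toFun := OmegaSh.idealSect i.ker U
        map_add' := map_add _
        map_smul' := fun a m => idealSect_smul _ U a m }
    have hb := hΦb ι' ι inferInstance (idealSect_injective _ V') (idealSect_injective _ U)
      (fun n' => hτf n') hgen
    constructor
    · intro x y hxy
      obtain ⟨v, rfl⟩ := Λ.surjective x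
      obtain ⟨w, rfl⟩ := Λ.surjective y
      have hxy' : φT (Λ v) = φT (Λ w) := hxy
      rw [hcomp, hcomp] at hxy'
      rw [hb.1 (e₃.injective hxy')]
    · intro y
      obtain ⟨w, rfl⟩ := e₃.surjective y
      obtain ⟨v, rfl⟩ := hb.2 w
      exact ⟨Λ v, (hφT _).symm.trans (hcomp v)⟩

end chart

section main
variable {Z X Z' X' : Scheme.{u}} (i : Z ⟶ X) (i' : Z' ⟶ X') [IsImmersion i] [IsImmersion i']
  [QuasiCompact i] [QuasiCompact i'] (g : X ⟶ X') (gZ : Z ⟶ Z') (hsq : IsPullback i gZ g i')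

include hsq in
theorem exists_chart_S9372 (z : Z) : ∃ (V' : X'.Opens) (U : X.Opens), IsAffineOpen V' ∧
    V' ≤ i'.coborderRange ∧ IsAffineOpen U ∧ U ≤ g ⁻¹ᵁ V' ∧ U ≤ i.coborderRange ∧ z ∈ i ⁻¹ᵁ U := by
  obtain ⟨V', hV', hzV', hV'c⟩ := exists_isAffineOpen_mem_and_subset (x := i' (gZ z))
    (U := i'.coborderRange) (subset_coborder ⟨gZ z, rfl⟩)
  have h2 : i' (gZ z) = g (i z) := by
    rw [← Scheme.Hom.comp_apply, ← Scheme.Hom.comp_apply, hsq.w]
  have hiz : i z ∈ g ⁻¹ᵁ V' ⊓ i.coborderRange := by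
    refine ⟨?_, subset_coborder ⟨z, rfl⟩⟩
    change g (i z) ∈ V'
    rw [← h2]; exact hzV'
  obtain ⟨U, hU, hzU, hUle⟩ := exists_isAffineOpen_mem_and_subset (x := i z) hiz
  exact ⟨V', U, hV', hV'c, hU, hUle.trans inf_le_left, hUle.trans inf_le_right, hzU⟩

include hsq in
/-- **S9372**: the canonical map of conormal sheaves for a cartesian square is an epimorphism,
and an isomorphism when the base change map is flat. -/
theorem main_S9372 (φ : (Scheme.Modules.pullback gZ).obj (Omega.conormal i') ⟶ Omega.conormal i)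
    (hφ : OmegaSh.IsConormalMap i i' g gZ φ) : Epi φ ∧ (Flat g → IsIso φ) := by
  obtain ⟨φ₀, -, h2, h3⟩ := exists_conormalMap i i' g gZ hsq.w.symm
  have hφφ₀ : φ = φ₀ := h2 φ hφ
  subst hφφ₀
  haveI : (Omega.conormal i).IsQuasicoherent :=
    inferInstanceAs ((Scheme.Modules.pullback i).obj (ClSub.idealMod i.ker)).IsQuasicoherent
  haveI : (Omega.conormal i').IsQuasicoherent :=
    inferInstanceAs ((Scheme.Modules.pullback i').obj (ClSub.idealMod i'.ker)).IsQuasicoherent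
  let ι : Type u := {T : X'.Opens × X.Opens // IsAffineOpen T.1 ∧ T.1 ≤ i'.coborderRange ∧
    IsAffineOpen T.2 ∧ T.2 ≤ g ⁻¹ᵁ T.1 ∧ T.2 ≤ i.coborderRange}
  have hcover : IsOpenCover (fun T : ι => i ⁻¹ᵁ T.1.2) := by
    refine IsOpenCover.mk (eq_top_iff.mpr ?_)
    intro z _
    obtain ⟨V', U, hV', hV'c, hU, hUV', hUc, hz⟩ := exists_chart_S9372 i i' g gZ hsq z
    exact Opens.mem_iSup.mpr ⟨⟨⟨V', U⟩, hV', hV'c, hU, hUV', hUc⟩, hz⟩
  have haff : ∀ T : ι, IsAffineOpen (i ⁻¹ᵁ T.1.2) := fun T =>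
    Groth.Agent.Lib.Helper20.ConormalStalk.isAffineOpen_preimage i T.2.2.2.1 T.2.2.2.2.2
  have hch : ∀ T : ι, _ := fun T : ι =>
    chart_S9372 i i' g gZ hsq φ h3 T.2.1 T.2.2.1 T.2.2.2.1 T.2.2.2.2.1 T.2.2.2.2.2
  constructor
  · exact epi_of_surjective_app_cover φ _ hcover haff (fun T => (hch T).1)
  · intro hflat
    exact isIso_of_bijective_app_cover φ _ hcover haff (fun T => (hch T).2 hflat)

end main

end Groth.Agent.Helper18Con
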