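import Mathlib
import Groth.Prelude.Def_Omega4
import Groth.Agent.Lib.Helper18Con3
import Groth.Agent.Lib.Helper18UT13
import Groth.Agent.Lib.Helper18LciConA

set_option autoImplicit false
set_option linter.style.haveILetI false
set_option linter.unusedSectionVars false
set_option linter.unusedVariables false
universe u
open CategoryTheory AlgebraicGeometry Limits TopologicalSpace Opposite TensorProduct

namespace Groth.Agent.Helper18LciCon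

open Groth.Agent.Helper18OmLS Groth.Agent.Helper18Om Groth.Agent.Helper18Con
open Groth.Agent.Helper13PullbackUnit Groth.Agent.Helper13ModGlue Groth.Agent.Lib.Helper6

/-- the inclusion of the sections of an ideal sheaf as a linear map. -/
noncomputable def idealLin {X : Scheme.{u}} (K : X.IdealSheafData) (W : X.Opens) :
    Γ(ClSub.idealMod K, W) →ₗ[Γ(X, W)] Γ(X, W) :=
  { toFun := OmegaSh.idealSect K W
    map_add' := map_add _
    map_smul' := fun a m => idealSect_smul K W a m }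

theorem idealLin_apply {X : Scheme.{u}} (K : X.IdealSheafData) (W : X.Opens)
    (s : Γ(ClSub.idealMod K, W)) : idealLin K W s = OmegaSh.idealSect K W s := rfl

section chart
variable {Z Y Z' Y' : Scheme.{u}} (iZ : Z ⟶ Z') (jY : Y ⟶ Y') [QuasiCompact iZ] [QuasiCompact jY]
  (m : Z' ⟶ Y') (i : Z ⟶ Y) (hw : i ≫ jY = iZ ≫ m)
  (φ : (Scheme.Modules.pullback i).obj (Omega.conormal jY) ⟶ Omega.conormal iZ)
  (hφ : ∀ (U' : Y'.Opens) (s' : Γ(ClSub.idealMod jY.ker, U')),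
    φ.app (i ⁻¹ᵁ (jY ⁻¹ᵁ U')) (OmegaSh.pullSect i (Omega.conormal jY) (jY ⁻¹ᵁ U')
      (OmegaSh.conormalSect jY U' s')) =
    cls iZ (m ⁻¹ᵁ U') (i ⁻¹ᵁ (jY ⁻¹ᵁ U')) (sq_le iZ jY m i hw U')
      (m.app U' (OmegaSh.idealSect jY.ker U' s')))
  {V' : Y'.Opens} {W' : Z'.Opens} (hW'V' : W' ≤ m ⁻¹ᵁ V')

include hw hW'V' in
theorem chart_le' : iZ ⁻¹ᵁ W' ≤ i ⁻¹ᵁ (jY ⁻¹ᵁ V') := by
  intro z hz
  have h1 : m (iZ z) ∈ V' := hW'V' hz
  change jY (i z) ∈ V'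
  have h2 : jY (i z) = m (iZ z) := by
    rw [← Scheme.Hom.comp_apply, ← Scheme.Hom.comp_apply, hw]
  rw [h2]; exact h1

include hφ in
/-- `φ` on a doubly pulled back section, over the chart. -/
theorem phi_double' (s' : Γ(ClSub.idealMod jY.ker, V')) :
    φ.app (iZ ⁻¹ᵁ W') (unitSec i (Omega.conormal jY) (chart_le' iZ jY m i hw hW'V')
      (unitSec jY (ClSub.idealMod jY.ker) (le_refl (jY ⁻¹ᵁ V')) s')) =
    cls iZ W' (iZ ⁻¹ᵁ W') (le_refl _) (m.appLE V' W' hW'V' (OmegaSh.idealSect jY.ker V' s')) := by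
  have h1 : unitSec jY (ClSub.idealMod jY.ker) (le_refl (jY ⁻¹ᵁ V')) s' =
      OmegaSh.conormalSect jY V' s' := by
    rw [unitSec_apply]
    exact presheaf_map_homOfLE_refl _ _ _
  rw [h1, unitSec_apply]
  have h2 := congr($(φ.mapPresheaf.naturality (homOfLE (chart_le' iZ jY m i hw hW'V')).op)
    (OmegaSh.pullSect i (Omega.conormal jY) (jY ⁻¹ᵁ V') (OmegaSh.conormalSect jY V' s')))
  refine h2.trans ?_
  change (Omega.conormal iZ).presheaf.map (homOfLE (chart_le' iZ jY m i hw hW'V')).op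
    (φ.app (i ⁻¹ᵁ (jY ⁻¹ᵁ V')) (OmegaSh.pullSect i (Omega.conormal jY) (jY ⁻¹ᵁ V')
      (OmegaSh.conormalSect jY V' s'))) = _
  rw [hφ V' s']
  exact (cls_res iZ (m ⁻¹ᵁ V') W' _ (iZ ⁻¹ᵁ W') (sq_le iZ jY m i hw V') (le_refl _) hW'V'
    (chart_le' iZ jY m i hw hW'V') _ (sq_app_zero iZ jY m i hw V' s')).symm

end chart

section chart2
variable {Z Y Z' Y' : Scheme.{u}} (iZ : Z ⟶ Z') (jY : Y ⟶ Y') [QuasiCompact iZ] [QuasiCompact jY]
  (m : Z' ⟶ Y') (i : Z ⟶ Y) (hw : i ≫ jY = iZ ≫ m)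
  (hsqZ : iZ.ker * iZ.ker = ⊥)
  (φ : (Scheme.Modules.pullback i).obj (Omega.conormal jY) ⟶ Omega.conormal iZ)
  (hφ : ∀ (U' : Y'.Opens) (s' : Γ(ClSub.idealMod jY.ker, U')),
    φ.app (i ⁻¹ᵁ (jY ⁻¹ᵁ U')) (OmegaSh.pullSect i (Omega.conormal jY) (jY ⁻¹ᵁ U')
      (OmegaSh.conormalSect jY U' s')) =
    cls iZ (m ⁻¹ᵁ U') (i ⁻¹ᵁ (jY ⁻¹ᵁ U')) (sq_le iZ jY m i hw U')
      (m.app U' (OmegaSh.idealSect jY.ker U' s')))
  {V' : Y'.Opens} {W' : Z'.Opens} (hW'V' : W' ≤ m ⁻¹ᵁ V')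
  (hV' : IsAffineOpen V') (hU : IsAffineOpen (jY ⁻¹ᵁ V')) (hW' : IsAffineOpen W')
  (hT : IsAffineOpen (iZ ⁻¹ᵁ W'))
  [Algebra Γ(Y', V') Γ(Z', W')]
  (hB'C' : algebraMap Γ(Y', V') Γ(Z', W') = (m.appLE V' W' hW'V').hom)
  [Algebra Γ(Y', V') Γ(Z, iZ ⁻¹ᵁ W')]
  (hB'C : ∀ a, algebraMap Γ(Y', V') Γ(Z, iZ ⁻¹ᵁ W') a =
    iZ.appLE W' (iZ ⁻¹ᵁ W') le_rfl (m.appLE V' W' hW'V' a))
  (πC : Γ(Z', W') →ₐ[Γ(Y', V')] Γ(Z, iZ ⁻¹ᵁ W'))
  (hπC : ∀ x, πC x = iZ.appLE W' (iZ ⁻¹ᵁ W') le_rfl x) (hπCs : Function.Surjective πC)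
  (hcore : ∀ y : Γ(Z', W') ⊗[Γ(Y', V')] Γ(ClSub.idealMod jY.ker, V'),
    mulMap (idealLin jY.ker V') Γ(Z', W') y = 0 →
      LinearMap.rTensor Γ(ClSub.idealMod jY.ker, V') πC.toLinearMap y = 0)

include hw hsqZ hφ hV' hU hW' hT hB'C' hB'C hπC hπCs hcore in
theorem chart_injective : Function.Injective (φ.app (iZ ⁻¹ᵁ W')) := by
  have hTT' := chart_le' iZ jY m i hw hW'V'
  -- compatibility of the two routes `Γ(Y', V') → Γ(Z, T)`
  have hsqR : ∀ a : Γ(Y', V'), algebraMap Γ(Y', V') Γ(Z, iZ ⁻¹ᵁ W') a =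
      i.appLE (jY ⁻¹ᵁ V') (iZ ⁻¹ᵁ W') hTT' (jY.appLE V' (jY ⁻¹ᵁ V') le_rfl a) := by
    intro a
    rw [hB'C]
    have h1 : m.appLE V' W' hW'V' ≫ iZ.appLE W' (iZ ⁻¹ᵁ W') le_rfl =
        (iZ ≫ m).appLE V' (iZ ⁻¹ᵁ W') (iZ.preimage_mono hW'V') :=
      Scheme.Hom.appLE_comp_appLE _ _ _ _ _ _ _
    have h2 : jY.appLE V' (jY ⁻¹ᵁ V') le_rfl ≫ i.appLE (jY ⁻¹ᵁ V') (iZ ⁻¹ᵁ W') hTT' =
        (i ≫ jY).appLE V' (iZ ⁻¹ᵁ W') hTT' :=
      Scheme.Hom.appLE_comp_appLE _ _ _ _ _ _ _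
    have h3 := OmegaSh.appLE_congr_hom hw (U := V') (V := iZ ⁻¹ᵁ W') hTT' (iZ.preimage_mono hW'V')
    have h4 : m.appLE V' W' hW'V' ≫ iZ.appLE W' (iZ ⁻¹ᵁ W') le_rfl =
        jY.appLE V' (jY ⁻¹ᵁ V') le_rfl ≫ i.appLE (jY ⁻¹ᵁ V') (iZ ⁻¹ᵁ W') hTT' := by
      rw [h1, h2, h3]
    exact congr($h4 a)
  -- sections of the source
  let L : Γ(ClSub.idealMod jY.ker, V') →+
      Γ((Scheme.Modules.pullback i).obj ((Scheme.Modules.pullback jY).obj (ClSub.idealMod jY.ker)),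
        iZ ⁻¹ᵁ W') :=
    (unitSec i ((Scheme.Modules.pullback jY).obj (ClSub.idealMod jY.ker)) hTT').comp
      (unitSec jY (ClSub.idealMod jY.ker) (le_refl (jY ⁻¹ᵁ V')))
  have hL : ∀ (a : Γ(Y', V')) (n : Γ(ClSub.idealMod jY.ker, V')),
      L (a • n) = algebraMap Γ(Y', V') Γ(Z, iZ ⁻¹ᵁ W') a • L n := by
    intro a n
    change unitSec i _ hTT' (unitSec jY (ClSub.idealMod jY.ker) (le_refl (jY ⁻¹ᵁ V')) (a • n)) = _
    rw [unitSec_smul, unitSec_smul, hsqR]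
    rfl
  obtain ⟨Λ, hΛ⟩ := exists_baseChangeEquiv (A := Γ(Y', V')) (B := Γ(Z, iZ ⁻¹ᵁ W')) L hL
    (fun N _ _ l hl => existsUnique_lift₂ jY i (ClSub.idealMod jY.ker) hV' hU (le_refl _)
      hT hTT' N l (fun r x => by rw [hl, hsqR]))
  -- the key formula
  have hm0 : ∀ n : Γ(ClSub.idealMod jY.ker, V'),
      iZ.app W' (m.appLE V' W' hW'V' (OmegaSh.idealSect jY.ker V' n)) = 0 := by
    intro n
    have h1 := hsqR (OmegaSh.idealSect jY.ker V' n)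
    rw [hB'C] at h1
    rw [Scheme.Hom.app_eq_appLE]
    refine h1.trans ?_
    have h2 : jY.appLE V' (jY ⁻¹ᵁ V') le_rfl (OmegaSh.idealSect jY.ker V' n) = 0 := by
      rw [← Scheme.Hom.app_eq_appLE]
      exact app_idealSect_eq_zero jY V' n
    rw [h2, map_zero]
  have key : ∀ y : Γ(Z', W') ⊗[Γ(Y', V')] Γ(ClSub.idealMod jY.ker, V'),
      iZ.app W' (mulMap (idealLin jY.ker V') Γ(Z', W') y) = 0 ∧
      φ.app (iZ ⁻¹ᵁ W') (Λ (LinearMap.rTensor Γ(ClSub.idealMod jY.ker, V') πC.toLinearMap y)) =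
        cls iZ W' (iZ ⁻¹ᵁ W') (le_refl _) (mulMap (idealLin jY.ker V') Γ(Z', W') y) := by
    intro y
    induction y using TensorProduct.induction_on with
    | zero =>
      refine ⟨by rw [map_zero, map_zero], ?_⟩
      have a1 : mulMap (idealLin jY.ker V') Γ(Z', W')
          (0 : Γ(Z', W') ⊗[Γ(Y', V')] Γ(ClSub.idealMod jY.ker, V')) = 0 := map_zero _
      have a2 : Λ (LinearMap.rTensor Γ(ClSub.idealMod jY.ker, V') πC.toLinearMap 0) = 0 := by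
        rw [map_zero, map_zero]
      rw [a1, a2, cls_zero]
      exact map_zero _
    | tmul c' n =>
      have e1 : mulMap (idealLin jY.ker V') Γ(Z', W') (c' ⊗ₜ n) =
          c' * m.appLE V' W' hW'V' (OmegaSh.idealSect jY.ker V' n) := by
        rw [mulMap_tmul, Algebra.smul_def, hB'C', mul_comm]
        rfl
      refine ⟨?_, ?_⟩
      · rw [e1, map_mul, hm0, mul_zero]
      · rw [e1, cls_mul iZ W' (iZ ⁻¹ᵁ W') (le_refl _) c' _ (hm0 n)]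
        rw [LinearMap.rTensor_tmul, hΛ]
        refine (Scheme.Modules.Hom.app_smul φ _ _).trans ?_
        congr 1
        · exact hπC c'
        · exact phi_double' iZ jY m i hw φ hφ hW'V' n
    | add x y hx hy =>
      refine ⟨by rw [map_add, map_add, hx.1, hy.1, add_zero], ?_⟩
      have a1 : mulMap (idealLin jY.ker V') Γ(Z', W') (x + y) =
          mulMap (idealLin jY.ker V') Γ(Z', W') x + mulMap (idealLin jY.ker V') Γ(Z', W') y :=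
        map_add _ _ _
      have a2 : Λ (LinearMap.rTensor Γ(ClSub.idealMod jY.ker, V') πC.toLinearMap (x + y)) =
          Λ (LinearMap.rTensor Γ(ClSub.idealMod jY.ker, V') πC.toLinearMap x) +
          Λ (LinearMap.rTensor Γ(ClSub.idealMod jY.ker, V') πC.toLinearMap y) := by
        rw [map_add, map_add]
      rw [a1, a2, cls_add iZ W' _ _ _ _ hx.1 hy.1, ← hx.2, ← hy.2]
      exact map_add _ _ _
  -- injectivity
  rw [injective_iff_map_eq_zero]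
  intro x hx
  obtain ⟨v, rfl⟩ := Λ.surjective x
  obtain ⟨y, rfl⟩ := LinearMap.rTensor_surjective Γ(ClSub.idealMod jY.ker, V')
    (g := πC.toLinearMap) hπCs v
  obtain ⟨hk0, hk⟩ := key y
  set μ := mulMap (idealLin jY.ker V') Γ(Z', W') y with hμ
  rw [hx] at hk
  obtain ⟨s, hs⟩ := exists_idealSect_eq iZ W' μ hk0
  rw [cls_eq iZ W' (iZ ⁻¹ᵁ W') (le_refl _) μ s hs] at hk
  letI algC'C : Algebra Γ(Z', W') Γ(Z, iZ ⁻¹ᵁ W') := (iZ.appLE W' (iZ ⁻¹ᵁ W') le_rfl).hom.toAlgebra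
  obtain ⟨e, he⟩ := exists_pullback_equiv iZ (ClSub.idealMod iZ.ker) (le_refl (iZ ⁻¹ᵁ W')) hW' hT rfl
  have h1 : (1 : Γ(Z, iZ ⁻¹ᵁ W')) ⊗ₜ[Γ(Z', W')] s = 0 := by
    apply e.injective
    rw [he, one_smul, map_zero]
    exact hk.symm
  have hsurj : Function.Surjective (algebraMap Γ(Z', W') Γ(Z, iZ ⁻¹ᵁ W')) := by
    intro c
    obtain ⟨c', rfl⟩ := hπCs c
    exact ⟨c', (hπC c').symm⟩
  have h6 := mem_smul_top_of_one_tmul_eq_zero' hsurj s h1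
  have h7 : ∀ t ∈ (RingHom.ker (algebraMap Γ(Z', W') Γ(Z, iZ ⁻¹ᵁ W')) • ⊤ :
      Submodule Γ(Z', W') Γ(ClSub.idealMod iZ.ker, W')), OmegaSh.idealSect iZ.ker W' t = 0 := by
    intro t ht
    refine Submodule.smul_induction_on ht ?_ ?_
    · intro a ha t' _
      rw [idealSect_smul]
      refine Groth.Agent.Helper18UT.mul_eq_zero_of_ker_sq iZ hsqZ W' _ _ ?_
        (app_idealSect_eq_zero iZ W' t')
      rw [Scheme.Hom.app_eq_appLE]
      exact ha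
    · intro a b ha hb
      rw [map_add, ha, hb, add_zero]
  have hμ0 : μ = 0 := by rw [← hs]; exact h7 s h6
  rw [hcore y hμ0]
  exact map_zero _

end chart2

end Groth.Agent.Helper18LciCon
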