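import Mathlib
import Groth.Prelude.Def_Omega4
import Groth.Prelude.Def_RegImm
import Groth.Agent.Lib.Helper18CIntA
import Groth.Agent.Lib.Helper18CIntB
import Groth.Agent.Lib.Helper18H1ConB
import Groth.Agent.Lib.Helper18LciConC
import Groth.Agent.Lib.Helper13KzH1
import Groth.Agent.Lib.Helper18Con1
import Groth.Agent.Lib.Helper23QCohSum

set_option autoImplicit false
set_option linter.style.haveILetI false
set_option linter.unusedSectionVars false
set_option linter.unusedVariables false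
universe u
open CategoryTheory AlgebraicGeometry Limits TopologicalSpace Opposite TensorProduct

namespace Groth.Agent.Helper18CInt

open Groth.Agent.Helper18OmLS Groth.Agent.Helper18Om Groth.Agent.Helper18H1Con
open Groth.Agent.Helper13PullbackUnit Groth.Agent.Helper18Con Groth.Agent.Helper18LciCon

section restrict
variable {Z Y : Scheme.{u}} (i : Z ⟶ Y)

/-- an `H_1`-regular chart can be shrunk to any smaller affine open, keeping the length. -/
theorem h1_restrict_len {U₀ : Y.Opens} (hU₀ : IsAffineOpen U₀) [IsClosedImmersion (i ∣_ U₀)]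
    (rs : List Γ(Y, U₀)) (hseq : CAlgX.IsH1Regular rs.get)
    (hker : RingHom.ker (i.app U₀).hom = Ideal.ofList rs)
    {U' : Y.Opens} (hU' : IsAffineOpen U') (hle : U' ≤ U₀) :
    ∃ rs' : List Γ(Y, U'), rs'.length = rs.length ∧ CAlgX.IsH1Regular rs'.get ∧
      RingHom.ker (i.app U').hom = Ideal.ofList rs' := by
  have hle' : U' ≤ (𝟙 Y) ⁻¹ᵁ U₀ := hle
  obtain ⟨hcl', hker'⟩ := Groth.Agent.Lib.Helper5.ImmBC.restrict_baseChange
    (IsPullback.id_horiz i) hU₀ hU' hle'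
  have hfl : ((𝟙 Y : Y ⟶ Y).appLE U₀ U' hle').hom.Flat := Scheme.Hom.flat_appLE (𝟙 Y) hU₀ hU' hle'
  refine ⟨rs.map ((𝟙 Y : Y ⟶ Y).appLE U₀ U' hle').hom, List.length_map _, ?_, ?_⟩
  · exact Groth.Agent.Lib.Helper5.QuasiRegFlat.seq_map_of_flat .h1 (Or.inl rfl) _ hfl rs hseq
  · rw [hker', hker, Ideal.map_ofList]

/-- the same with the sequence indexed by `Fin d`. -/
theorem h1_restrict_fin {U₀ : Y.Opens} (hU₀ : IsAffineOpen U₀) [IsClosedImmersion (i ∣_ U₀)]
    (rs : List Γ(Y, U₀)) (hseq : CAlgX.IsH1Regular rs.get)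
    (hker : RingHom.ker (i.app U₀).hom = Ideal.ofList rs) {d : ℕ} (hd : rs.length = d)
    {U' : Y.Opens} (hU' : IsAffineOpen U') (hle : U' ≤ U₀) :
    ∃ r : Fin d → Γ(Y, U'), CAlgX.IsH1Regular r ∧
      RingHom.ker (i.app U').hom = Ideal.span (Set.range r) := by
  obtain ⟨rs', hlen, hseq', hker'⟩ := h1_restrict_len i hU₀ rs hseq hker hU' hle
  have hd' : rs'.length = d := hlen.trans hd
  subst hd'
  exact ⟨rs'.get, hseq', by rw [hker', Set.range_list_get]⟩

end restrict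

section span
variable {X Y : Scheme.{u}} (f : Y ⟶ X) (F : X.Modules) [F.IsQuasicoherent]
  {V : X.Opens} {U : Y.Opens} (hle : U ≤ f ⁻¹ᵁ V) (hV : IsAffineOpen V) (hU : IsAffineOpen U)

include hV hU in
theorem unitSec_span {A : Type*} (v : A → Γ(F, V))
    (hv : ⊤ ≤ Submodule.span Γ(X, V) (Set.range v)) :
    ⊤ ≤ Submodule.span Γ(Y, U) (Set.range (fun a => unitSec f F hle (v a))) := by
  letI alg : Algebra Γ(X, V) Γ(Y, U) := (f.appLE V U hle).hom.toAlgebra
  obtain ⟨e, he⟩ := exists_pullback_equiv f F hle hV hU rfl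
  have h2 : ∀ m ∈ Submodule.span Γ(X, V) (Set.range v),
      unitSec f F hle m ∈ Submodule.span Γ(Y, U) (Set.range (fun a => unitSec f F hle (v a))) := by
    intro m hm
    induction hm using Submodule.span_induction with
    | mem t ht =>
      obtain ⟨k, rfl⟩ := ht
      exact Submodule.subset_span ⟨k, rfl⟩
    | zero => rw [map_zero]; exact Submodule.zero_mem _
    | add t t' _ _ h h' => rw [map_add]; exact Submodule.add_mem _ h h'
    | smul c t _ h => rw [unitSec_smul]; exact Submodule.smul_mem _ _ h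
  have h3 : ∀ t, e t ∈ Submodule.span Γ(Y, U) (Set.range (fun a => unitSec f F hle (v a))) := by
    intro t
    induction t using TensorProduct.induction_on with
    | zero => rw [map_zero]; exact Submodule.zero_mem _
    | tmul b m =>
      rw [he]
      exact Submodule.smul_mem _ _ (h2 m (hv trivial))
    | add x y hx hy => rw [map_add]; exact Submodule.add_mem _ hx hy
  intro n _
  obtain ⟨t, rfl⟩ := e.surjective n
  exact h3 t

end span

section main
attribute [local instance] Abelian.hasFiniteBiproducts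

variable (X Y : Scheme.{u}) (r : ℕ)
    (Xs : Fin r → Scheme.{u}) (j : ∀ l, Xs l ⟶ X) [∀ l, IsClosedImmersion (j l)] (d : Fin r → ℕ)
    (hj : ∀ l, RegImm.IsRegularImmersionOfCodim RegImm.Kind.koszul (d l) (j l))
    (i : Y ⟶ X) [IsClosedImmersion i]
    (hY : ∀ U : X.affineOpens, i.ker.ideal U = ⨆ l, (j l).ker.ideal U)
    (g : ∀ l, Y ⟶ Xs l) (hsq : ∀ l, g l ≫ j l = i ≫ 𝟙 X)
    (hi : RegImm.IsRegularImmersionOfCodim RegImm.Kind.koszul (∑ l, d l) i)
    (φ : ∀ l, (Scheme.Modules.pullback (g l)).obj (Omega.conormal (j l)) ⟶ Omega.conormal i)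
    (hφ : ∀ l (U' : X.Opens) (s' : Γ(ClSub.idealMod (j l).ker, U')),
      (φ l).app ((g l) ⁻¹ᵁ ((j l) ⁻¹ᵁ U')) (OmegaSh.pullSect (g l) (Omega.conormal (j l))
        ((j l) ⁻¹ᵁ U') (OmegaSh.conormalSect (j l) U' s')) =
      cls i ((𝟙 X) ⁻¹ᵁ U') ((g l) ⁻¹ᵁ ((j l) ⁻¹ᵁ U')) (sq_le i (j l) (𝟙 X) (g l) (hsq l) U')
        ((𝟙 X : X ⟶ X).app U' (OmegaSh.idealSect (j l).ker U' s')))

theorem id_appLE_self (U : X.Opens) (h : U ≤ (𝟙 X) ⁻¹ᵁ U) (z : Γ(X, U)) :
    (𝟙 X : X ⟶ X).appLE U U h z = z := by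
  simp only [Scheme.Hom.appLE, Scheme.Hom.id_app, CommRingCat.comp_apply]
  change (X.presheaf.map (𝟙 (op U))) z = z
  rw [X.presheaf.map_id]; rfl

include hj hY hi hφ in
theorem chart_bijective (y : Y) : ∃ T : Y.Opens, IsAffineOpen T ∧ y ∈ T ∧
    Function.Bijective ((Sigma.desc φ).app T) := by
  classical
  obtain ⟨U₀, hyU₀, hcl₀, rs₀, hlen₀, hseq₀, hker₀⟩ := hi.2 y
  have hdata := fun l => (hj l).2 (g l y)
  choose Ul hyUl hcll rsl hlenl hseql hkerl using hdata
  have hpt : ∀ l, (j l) (g l y) = i y := fun l => by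
    rw [← Scheme.Hom.comp_apply, hsq l, Category.comp_id]
  let O : X.Opens := ⟨(U₀.1 : Set X) ∩ ⋂ l, ((Ul l).1 : Set X),
    U₀.1.isOpen.inter (isOpen_iInter_of_finite fun l => (Ul l).1.isOpen)⟩
  have hyO : i y ∈ O := ⟨hyU₀, Set.mem_iInter.mpr fun l => by rw [← hpt l]; exact hyUl l⟩
  obtain ⟨U, hU, hyU, hUO⟩ := exists_isAffineOpen_mem_and_subset (x := i y) (U := O) hyO
  have hUU₀ : U ≤ U₀.1 := fun x hx => (hUO hx).1
  have hUUl : ∀ l, U ≤ (Ul l).1 := fun l x hx => Set.mem_iInter.mp (hUO hx).2 l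
  haveI := hcl₀
  obtain ⟨r₀, hseq₀', hker₀'⟩ := h1_restrict_fin i U₀.2 rs₀
    (Groth.Agent.Helper13KzH1.isH1Regular_of_isKoszulRegularSeq rs₀ hseq₀) hker₀ hlen₀ hU hUU₀
  have hl : ∀ l, ∃ rl : Fin (d l) → Γ(X, U), CAlgX.IsH1Regular rl ∧
      RingHom.ker ((j l).app U).hom = Ideal.span (Set.range rl) := by
    intro l
    haveI := hcll l
    exact h1_restrict_fin (j l) (Ul l).2 (rsl l)
      (Groth.Agent.Helper13KzH1.isH1Regular_of_isKoszulRegularSeq (rsl l) (hseql l)) (hkerl l)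
      (hlenl l) hU (hUUl l)
  choose rl hseql' hkerl' using hl
  have hT : IsAffineOpen (i ⁻¹ᵁ U) := hU.preimage i
  refine ⟨i ⁻¹ᵁ U, hT, hyU, ?_⟩
  -- the basis of the target
  have hli := conormal_linearIndependent i hU r₀ hseq₀' hker₀'
  have hsp := conormal_span i hU r₀ hker₀'
  let bas : Module.Basis (Fin (∑ l, d l)) Γ(Y, i ⁻¹ᵁ U)
      Γ((Scheme.Modules.pullback i).obj (ClSub.idealMod i.ker), i ⁻¹ᵁ U) := Module.Basis.mk hli hsp
  -- the ideal of `Y`
  have hrl0 : ∀ l k, (j l).app U (rl l k) = 0 := by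
    intro l k
    have : rl l k ∈ RingHom.ker ((j l).app U).hom := by
      rw [hkerl']
      exact Ideal.subset_span ⟨k, rfl⟩
    exact this
  have hkerU : RingHom.ker (i.app U).hom =
      Ideal.span (Set.range fun a : Σ l, Fin (d l) => rl a.1 a.2) := by
    have h1 := hY ⟨U, hU⟩
    rw [Scheme.Hom.ker_apply] at h1
    have h2 : ∀ l, (j l).ker.ideal ⟨U, hU⟩ = Ideal.span (Set.range (rl l)) := by
      intro l
      rw [Scheme.Hom.ker_apply]
      exact hkerl' l
    have h1' : RingHom.ker (i.app U).hom = ⨆ l, (j l).ker.ideal ⟨U, hU⟩ := h1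
    rw [h1']
    simp_rw [h2]
    rw [← Ideal.span_iUnion]
    congr 1
    ext z
    simp only [Set.mem_iUnion, Set.mem_range, Sigma.exists]
  -- spanning families of the summands
  have hUid : U ≤ (𝟙 X) ⁻¹ᵁ U := le_refl _
  have hTl : ∀ l, IsAffineOpen ((j l) ⁻¹ᵁ U) := fun l => hU.preimage (j l)
  have hle : ∀ l, i ⁻¹ᵁ U ≤ (g l) ⁻¹ᵁ ((j l) ⁻¹ᵁ U) := fun l =>
    chart_le' i (j l) (𝟙 X) (g l) (hsq l) hUid
  have ht0 : ∀ l k, ∃ t : Γ(ClSub.idealMod (j l).ker, U),
      OmegaSh.idealSect (j l).ker U t = rl l k :=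
    fun l k => exists_idealSect_eq (j l) U _ (hrl0 l k)
  choose t ht using ht0
  let v : ∀ l, Fin (d l) → Γ(Omega.conormal (j l), (j l) ⁻¹ᵁ U) := fun l k =>
    unitSec (j l) (ClSub.idealMod (j l).ker) (le_refl ((j l) ⁻¹ᵁ U)) (t l k)
  have hv : ∀ l, ⊤ ≤ Submodule.span Γ(Xs l, (j l) ⁻¹ᵁ U) (Set.range (v l)) := by
    intro l
    have h1 := conormal_span (j l) hU (rl l) (hkerl' l)
    have h2 : (fun k => cls (j l) U ((j l) ⁻¹ᵁ U) le_rfl (rl l k)) = v l := by
      funext k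
      exact cls_eq (j l) U ((j l) ⁻¹ᵁ U) le_rfl _ _ (ht l k)
    rw [h2] at h1
    exact h1
  haveI hqc : ∀ l, (Omega.conormal (j l)).IsQuasicoherent := fun l =>
    inferInstanceAs ((Scheme.Modules.pullback (j l)).obj (ClSub.idealMod (j l).ker)).IsQuasicoherent
  let x : ∀ l, Fin (d l) →
      Γ((Scheme.Modules.pullback (g l)).obj (Omega.conormal (j l)), i ⁻¹ᵁ U) := fun l k =>
    unitSec (g l) (Omega.conormal (j l)) (hle l) (v l k)
  have hx : ∀ l, ⊤ ≤ Submodule.span Γ(Y, i ⁻¹ᵁ U) (Set.range (x l)) := fun l =>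
    unitSec_span (g l) (Omega.conormal (j l)) (hle l) (hTl l) hT (v l) (hv l)
  have hy := sigma_span (fun l => (Scheme.Modules.pullback (g l)).obj (Omega.conormal (j l)))
    (i ⁻¹ᵁ U) d x hx
  -- values of `Φ`
  have hΦ : ∀ a : Σ l, Fin (d l), appLin (Sigma.desc φ) (i ⁻¹ᵁ U)
      ((Sigma.ι (fun l => (Scheme.Modules.pullback (g l)).obj (Omega.conormal (j l))) a.1).app
        (i ⁻¹ᵁ U) (x a.1 a.2)) = cls i U (i ⁻¹ᵁ U) le_rfl (rl a.1 a.2) := by
    rintro ⟨l, k⟩
    have h1 := congrArg (fun ψ => Scheme.Modules.Hom.app ψ (i ⁻¹ᵁ U) (x l k))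
      (Sigma.ι_desc φ l)
    have h2 : appLin (Sigma.desc φ) (i ⁻¹ᵁ U)
        ((Sigma.ι (fun l => (Scheme.Modules.pullback (g l)).obj (Omega.conormal (j l))) l).app
          (i ⁻¹ᵁ U) (x l k)) = (φ l).app (i ⁻¹ᵁ U) (x l k) := h1
    rw [h2]
    have h3 := phi_double' i (j l) (𝟙 X) (g l) (hsq l) (φ l) (hφ l) hUid (t l k)
    rw [ht l k, id_appLE_self] at h3
    exact h3
  have hΦy : ⊤ ≤ Submodule.span Γ(Y, i ⁻¹ᵁ U) (Set.range (fun a : Σ l, Fin (d l) =>
      appLin (Sigma.desc φ) (i ⁻¹ᵁ U)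
        ((Sigma.ι (fun l => (Scheme.Modules.pullback (g l)).obj (Omega.conormal (j l))) a.1).app
          (i ⁻¹ᵁ U) (x a.1 a.2)))) := by
    have h1 := conormal_span i hU (fun a : Σ l, Fin (d l) => rl a.1 a.2) hkerU
    have h2 : (fun a : Σ l, Fin (d l) => appLin (Sigma.desc φ) (i ⁻¹ᵁ U)
        ((Sigma.ι (fun l => (Scheme.Modules.pullback (g l)).obj (Omega.conormal (j l))) a.1).app
          (i ⁻¹ᵁ U) (x a.1 a.2))) =
        fun a : Σ l, Fin (d l) => cls i U (i ⁻¹ᵁ U) le_rfl (rl a.1 a.2) := funext hΦ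
    rw [h2]
    exact h1
  have hcard : Fintype.card (Σ l, Fin (d l)) = ∑ l, d l := by
    simp [Fintype.card_sigma]
  exact bijective_of_span (appLin (Sigma.desc φ) (i ⁻¹ᵁ U)) _ hy bas hcard hΦy

include hj hY hi hφ in
theorem isIso_desc : IsIso (Sigma.desc φ) := by
  haveI : (Omega.conormal i).IsQuasicoherent :=
    inferInstanceAs ((Scheme.Modules.pullback i).obj (ClSub.idealMod i.ker)).IsQuasicoherent
  haveI hqc : ∀ l, (Omega.conormal (j l)).IsQuasicoherent := fun l =>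
    inferInstanceAs ((Scheme.Modules.pullback (j l)).obj (ClSub.idealMod (j l).ker)).IsQuasicoherent
  haveI : (∐ fun l => (Scheme.Modules.pullback (g l)).obj (Omega.conormal (j l))).IsQuasicoherent :=
    (SheafOfModules.isQuasicoherent Y.ringCatSheaf).prop_of_iso
      (biproduct.isoCoproduct fun l => (Scheme.Modules.pullback (g l)).obj (Omega.conormal (j l)))
      (Groth.Agent.Lib.Helper23.QCohLocal.isQuasicoherent_biproduct
        (fun l => (Scheme.Modules.pullback (g l)).obj (Omega.conormal (j l)))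
        (fun l => inferInstance))
  have hch := chart_bijective X Y r Xs j d hj i hY g hsq hi φ hφ
  choose T hTa hyT hbij using hch
  refine isIso_of_bijective_app_cover (Sigma.desc φ) T ?_ hTa hbij
  exact (Opens.iSup_mk _ _).trans <| by ext y; simp; exact ⟨y, hyT y⟩

end main

end Groth.Agent.Helper18CInt
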