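import Groth.Agent.Lib.Helper23SecTw6

/-!
# Invertibility of a restriction to an open (helper27)
-/

set_option autoImplicit false
universe u
open CategoryTheory CategoryTheory.Limits AlgebraicGeometry TopologicalSpace Opposite

namespace Groth.Agent.Lib.Helper27Inv

variable {X : Scheme.{u}}

/-- restriction to an open of a module that is locally trivial around the points of that open is
invertible. -/
theorem isInvertible_restrict_of_cover (L : X.Modules) (Y : X.Opens)
    (h : ∀ y : X, y ∈ Y → ∃ W : X.Opens, y ∈ W ∧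
      Nonempty (L.restrict W.ι ≅ Coh.structureModule (↑W : Scheme.{u}))) :
    PicF.IsInvertible (L.restrict Y.ι) := by
  intro x
  obtain ⟨W, hxW, ⟨ε⟩⟩ := h (Y.ι x) x.2
  let W' : (↑Y : Scheme.{u}).Opens := Y.ι ⁻¹ᵁ W
  have hxW' : x ∈ W' := hxW
  have hrange : Set.range (W'.ι ≫ Y.ι).base ⊆ Set.range W.ι.base := by
    rintro _ ⟨z, rfl⟩
    have hz : Y.ι (W'.ι z) ∈ W := z.2
    rw [Scheme.Opens.range_ι]
    exact hz
  let k : (↑W' : Scheme.{u}) ⟶ (↑W : Scheme.{u}) := IsOpenImmersion.lift W.ι (W'.ι ≫ Y.ι) hrange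
  have hk : k ≫ W.ι = W'.ι ≫ Y.ι := IsOpenImmersion.lift_fac _ _ _
  haveI : IsOpenImmersion k := IsOpenImmersion.of_comp k W.ι
  refine ⟨W', hxW', ⟨?_⟩⟩
  exact ((Scheme.Modules.restrictFunctorComp W'.ι Y.ι).app L).symm ≪≫
    (Scheme.Modules.restrictFunctorCongr hk.symm).app L ≪≫
    (Scheme.Modules.restrictFunctorComp k W.ι).app L ≪≫
    (Scheme.Modules.restrictFunctor k).mapIso ε ≪≫
    Scheme.Modules.restrictUnitIso k

end Groth.Agent.Lib.Helper27Inv
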