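import Groth.Agent.Lib.Helper27RelProj4

/-!
# Graded rings generated in degree one over degree zero (helper27)
-/

set_option autoImplicit false
universe u

open CategoryTheory AlgebraicGeometry HomogeneousLocalization TopologicalSpace Opposite
open scoped HomogeneousIdeal

namespace Groth.Agent.Lib.Helper27RelProj5

section GradedRing

variable {A σ : Type u} [CommRing A] [SetLike σ A] [AddSubgroupClass σ A]
  (𝒜 : ℕ → σ) [GradedRing 𝒜]

/-- the `n`-th "power" of the degree-one part over the degree-zero part. -/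
def genPow : ℕ → AddSubgroup A
  | 0 => AddSubgroup.closure (𝒜 0 : Set A)
  | n + 1 => AddSubgroup.closure {x | ∃ a ∈ 𝒜 1, ∃ c ∈ genPow n, x = a * c}

theorem genPow_zero : genPow 𝒜 0 = AddSubgroup.closure (𝒜 0 : Set A) := rfl

theorem genPow_succ (n : ℕ) :
    genPow 𝒜 (n + 1) = AddSubgroup.closure {x | ∃ a ∈ 𝒜 1, ∃ c ∈ genPow 𝒜 n, x = a * c} := rfl

theorem genPow_le (n : ℕ) : ∀ x ∈ genPow 𝒜 n, x ∈ 𝒜 n := by
  induction n with
  | zero =>
    intro x hx
    rw [genPow_zero] at hx
    induction hx using AddSubgroup.closure_induction with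
    | mem x hx => exact hx
    | zero => exact zero_mem _
    | add x y _ _ hx hy => exact add_mem hx hy
    | neg x _ hx => exact neg_mem hx
  | succ n ih =>
    intro x hx
    rw [genPow_succ] at hx
    induction hx using AddSubgroup.closure_induction with
    | mem x hx =>
      obtain ⟨a, ha, c, hc, rfl⟩ := hx
      have := SetLike.mul_mem_graded ha (ih c hc)
      rwa [add_comm] at this
    | zero => exact zero_mem _
    | add x y _ _ hx hy => exact add_mem hx hy
    | neg x _ hx => exact neg_mem hx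

theorem mem_genPow_zero {x : A} (hx : x ∈ 𝒜 0) : x ∈ genPow 𝒜 0 :=
  AddSubgroup.subset_closure hx

theorem zero_mul_genPow (n : ℕ) : ∀ s ∈ 𝒜 0, ∀ x ∈ genPow 𝒜 n, s * x ∈ genPow 𝒜 n := by
  induction n with
  | zero =>
    intro s hs x hx
    have hx' := genPow_le 𝒜 0 x hx
    have := SetLike.mul_mem_graded hs hx'
    rw [add_zero] at this
    exact mem_genPow_zero 𝒜 this
  | succ n ih =>
    intro s hs x hx
    rw [genPow_succ] at hx ⊢
    induction hx using AddSubgroup.closure_induction with
    | mem x hx =>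
      obtain ⟨a, ha, c, hc, rfl⟩ := hx
      apply AddSubgroup.subset_closure
      refine ⟨s * a, ?_, c, hc, (mul_assoc _ _ _).symm⟩
      have := SetLike.mul_mem_graded hs ha
      rwa [zero_add] at this
    | zero => rw [mul_zero]; exact zero_mem _
    | add x y _ _ hx hy => rw [mul_add]; exact add_mem hx hy
    | neg x _ hx => rw [mul_neg]; exact neg_mem hx

theorem genPow_mul (m n : ℕ) :
    ∀ x ∈ genPow 𝒜 m, ∀ y ∈ genPow 𝒜 n, x * y ∈ genPow 𝒜 (m + n) := by
  induction m with
  | zero =>
    intro x hx y hy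
    rw [zero_add]
    exact zero_mul_genPow 𝒜 n x (genPow_le 𝒜 0 x hx) y hy
  | succ m ih =>
    intro x hx y hy
    have e : m + 1 + n = (m + n) + 1 := by omega
    rw [e]
    rw [genPow_succ] at hx
    induction hx using AddSubgroup.closure_induction with
    | mem x hx =>
      obtain ⟨a, ha, c, hc, rfl⟩ := hx
      rw [genPow_succ]
      apply AddSubgroup.subset_closure
      exact ⟨a, ha, c * y, ih c hc y hy, mul_assoc _ _ _⟩
    | zero => rw [zero_mul]; exact zero_mem _
    | add x z _ _ hx hz => rw [add_mul]; exact add_mem hx hz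
    | neg x _ hx => rw [neg_mul]; exact neg_mem hx

/-- the sum of all the `genPow`, as a subring. -/
def genSubring : Subring A where
  carrier := (AddSubgroup.closure (⋃ n, (genPow 𝒜 n : Set A)) : Set A)
  zero_mem' := zero_mem _
  add_mem' := add_mem
  neg_mem' := neg_mem
  one_mem' := by
    apply AddSubgroup.subset_closure
    exact Set.mem_iUnion.mpr ⟨0, mem_genPow_zero 𝒜 (SetLike.GradedOne.one_mem)⟩
  mul_mem' := by
    intro x y hx hy
    induction hx using AddSubgroup.closure_induction with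
    | mem x hx =>
      obtain ⟨m, hm⟩ := Set.mem_iUnion.mp hx
      induction hy using AddSubgroup.closure_induction with
      | mem y hy =>
        obtain ⟨n, hn⟩ := Set.mem_iUnion.mp hy
        apply AddSubgroup.subset_closure
        exact Set.mem_iUnion.mpr ⟨m + n, genPow_mul 𝒜 m n x hm y hn⟩
      | zero => rw [mul_zero]; exact zero_mem _
      | add y z _ _ hy hz => rw [mul_add]; exact add_mem hy hz
      | neg y _ hy => rw [mul_neg]; exact neg_mem hy
    | zero => rw [zero_mul]; exact zero_mem _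
    | add x z _ _ hx hz => rw [add_mul]; exact add_mem hx hz
    | neg x _ hx => rw [neg_mul]; exact neg_mem hx

theorem mem_genSubring_iff (x : A) :
    x ∈ genSubring 𝒜 ↔ x ∈ AddSubgroup.closure (⋃ n, (genPow 𝒜 n : Set A)) := Iff.rfl

theorem genSubring_eq_top
    (hgen : Subring.closure ((𝒜 0 : Set A) ∪ (𝒜 1 : Set A)) = ⊤) : genSubring 𝒜 = ⊤ := by
  rw [eq_top_iff, ← hgen, Subring.closure_le]
  rintro x (hx | hx)
  · apply AddSubgroup.subset_closure
    exact Set.mem_iUnion.mpr ⟨0, mem_genPow_zero 𝒜 hx⟩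
  · apply AddSubgroup.subset_closure
    refine Set.mem_iUnion.mpr ⟨1, ?_⟩
    change x ∈ genPow 𝒜 (0 + 1)
    rw [genPow_succ]
    apply AddSubgroup.subset_closure
    exact ⟨x, hx, 1, mem_genPow_zero 𝒜 (SetLike.GradedOne.one_mem), (mul_one x).symm⟩

theorem mem_genPow_of_mem
    (hgen : Subring.closure ((𝒜 0 : Set A) ∪ (𝒜 1 : Set A)) = ⊤) (n : ℕ) (y : A) (hy : y ∈ 𝒜 n) :
    y ∈ genPow 𝒜 n := by
  classical
  have hmem : y ∈ genSubring 𝒜 := by rw [genSubring_eq_top 𝒜 hgen]; trivial
  rw [mem_genSubring_iff] at hmem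
  have key : ∀ z ∈ AddSubgroup.closure (⋃ n, (genPow 𝒜 n : Set A)),
      ∀ k, (DirectSum.decompose 𝒜 z k : A) ∈ genPow 𝒜 k := by
    intro z hz
    induction hz using AddSubgroup.closure_induction with
    | mem z hz =>
      obtain ⟨m, hm⟩ := Set.mem_iUnion.mp hz
      intro k
      by_cases hkm : m = k
      · subst hkm
        rw [DirectSum.decompose_of_mem_same _ (genPow_le 𝒜 m z hm)]
        exact hm
      · rw [DirectSum.decompose_of_mem_ne _ (genPow_le 𝒜 m z hm) hkm]
        exact zero_mem _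
    | zero =>
      intro k
      rw [DirectSum.decompose_zero, DirectSum.zero_apply, ZeroMemClass.coe_zero]
      exact zero_mem _
    | add x z _ _ hx hz =>
      intro k
      rw [DirectSum.decompose_add, DirectSum.add_apply, AddMemClass.coe_add]
      exact add_mem (hx k) (hz k)
    | neg x _ hx =>
      intro k
      rw [DirectSum.decompose_neg]
      erw [DFinsupp.neg_apply]
      rw [NegMemClass.coe_neg]
      exact neg_mem (hx k)
  have := key y hmem n
  rwa [DirectSum.decompose_of_mem_same _ hy] at this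

/-- a subring containing the degree one part contains all parts of positive degree. -/
theorem mem_subring_of_pos
    (hgen : Subring.closure ((𝒜 0 : Set A) ∪ (𝒜 1 : Set A)) = ⊤) (R : Subring A)
    (hR : ∀ a ∈ 𝒜 1, a ∈ R) (n : ℕ) (hn : 0 < n) (y : A) (hy : y ∈ 𝒜 n) : y ∈ R := by
  have key : ∀ n, ∀ y ∈ genPow 𝒜 (n + 1), y ∈ R := by
    intro n
    induction n with
    | zero =>
      intro y hy
      exact hR y (genPow_le 𝒜 1 y hy)
    | succ n ih =>
      intro y hy
      rw [genPow_succ] at hy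
      induction hy using AddSubgroup.closure_induction with
      | mem y hy =>
        obtain ⟨a, ha, c, hc, rfl⟩ := hy
        exact R.mul_mem (hR a ha) (ih c hc)
      | zero => exact zero_mem _
      | add x z _ _ hx hz => exact add_mem hx hz
      | neg x _ hx => exact neg_mem hx
  obtain ⟨m, rfl⟩ : ∃ m, n = m + 1 := ⟨n - 1, by omega⟩
  exact key m y (mem_genPow_of_mem 𝒜 hgen _ y hy)

end GradedRing

section GradedHom

variable {A B σ τ : Type u} [CommRing A] [SetLike σ A] [AddSubgroupClass σ A]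
  [CommRing B] [SetLike τ B] [AddSubgroupClass τ B]
  {𝒜 : ℕ → σ} {ℬ : ℕ → τ} [GradedRing 𝒜] [GradedRing ℬ]
  (f : 𝒜 →+*ᵍ ℬ)

theorem exists_mem_of_mem_range {n : ℕ} {y : B} (hy : y ∈ ℬ n) (hr : ∃ x, f x = y) :
    ∃ x ∈ 𝒜 n, f x = y := by
  classical
  obtain ⟨x, rfl⟩ := hr
  refine ⟨(DirectSum.decompose 𝒜 x n : A), SetLike.coe_mem _, ?_⟩
  rw [GradedRingHom.map_directSumDecompose, DirectSum.decompose_of_mem_same _ hy]

/-- if `ℬ` is generated in degree one over degree zero and `f` hits all of `ℬ 1`, then `f` is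
surjective in every positive degree. -/
theorem surjective_pos_of_gen
    (hgen : Subring.closure ((ℬ 0 : Set B) ∪ (ℬ 1 : Set B)) = ⊤)
    (h1 : ∀ b ∈ ℬ 1, ∃ x, f x = b) (n : ℕ) (hn : 0 < n) (y : B) (hy : y ∈ ℬ n) :
    ∃ x ∈ 𝒜 n, f x = y := by
  apply exists_mem_of_mem_range f hy
  have := mem_subring_of_pos ℬ hgen (f : A →+* B).range
    (fun b hb => by obtain ⟨x, hx⟩ := h1 b hb; exact ⟨x, hx⟩) n hn y hy
  obtain ⟨x, hx⟩ := this
  exact ⟨x, hx⟩

end GradedHom

end Groth.Agent.Lib.Helper27RelProj5
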