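import Mathlib
import Groth.Prelude.Def_RelProj3
import Groth.Agent.Lib.Helper2RelTildeQCoh
import Groth.Agent.Lib.Helper2TwistGen2
import Groth.Agent.Lib.Helper27RelProj5
import Groth.Agent.Lib.Helper27InvRestrict

/-!
# Local generators of the relative twisting sheaves (helper2)

* `isGen_of_chart`: a generator transfers along a chartwise identification `L ⟶ j_* T` (bijective on sections).
* `exists_degOne_not_mem_of_gen`: if `A` is generated by `A₀ ∪ A₁`, every point of `Proj A` lies in some `D₊(f)`,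
  `f ∈ A₁`.
-/

set_option autoImplicit false
universe u
open CategoryTheory Limits AlgebraicGeometry TopologicalSpace Opposite

namespace Groth.Agent.Lib.Helper2.RelTwistGen

open Groth.Agent.Lib.Helper2.RelTildeQCoh Groth.Agent.Lib.Helper23.SecTw Groth.Agent.Lib.Helper6
  Groth.Agent.Lib.Helper2.Push

section transfer
variable {P Z : Scheme.{u}}

theorem isGen_of_chart (j : Z ⟶ P) [IsOpenImmersion j] (L : P.Modules) (T : Z.Modules)
    (lam : L ⟶ (Scheme.Modules.pushforward j).obj T) (W : P.Opens) (hWj : W ≤ j.opensRange)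
    (hbij : ∀ W'' : P.Opens, W'' ≤ W → Function.Bijective (lam.app W''))
    (e : Γ(L, W)) (he : IsGen T (j ⁻¹ᵁ W) (show Γ(T, j ⁻¹ᵁ W) from lam.app W e)) : IsGen L W e := by
  intro W'' h
  have hpre : j ⁻¹ᵁ W'' ≤ j ⁻¹ᵁ W := j.preimage_mono h
  have h1 := he (j ⁻¹ᵁ W'') hpre
  haveI : IsIso (j.app W'') := j.isIso_app W'' (h.trans hWj)
  have h2 : Function.Bijective (j.app W'') := ConcreteCategory.bijective_of_isIso _
  have h3 := hbij W'' h
  have key : ∀ r : Γ(P, W''), lam.app W'' (r • res L h e) =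
      (j.app W'' r • res T hpre (show Γ(T, j ⁻¹ᵁ W) from lam.app W e) : Γ(T, j ⁻¹ᵁ W'')) := by
    intro r
    rw [Scheme.Modules.Hom.app_smul, pushforward_smul]
    congr 1
    exact app_map' lam (homOfLE h) e
  have h4 : Function.Bijective (fun r : Γ(P, W'') => lam.app W'' (r • res L h e)) := by
    have : (fun r : Γ(P, W'') => lam.app W'' (r • res L h e)) =
        (fun r' : Γ(Z, j ⁻¹ᵁ W'') => (r' • res T hpre (show Γ(T, j ⁻¹ᵁ W) from lam.app W e) :
          Γ(T, j ⁻¹ᵁ W''))) ∘ (j.app W'') := by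
      funext r
      exact key r
    rw [this]
    exact h1.comp h2
  exact (Function.Bijective.of_comp_iff' h3 _).mp h4

end transfer

section alg
variable {A σ : Type u} [CommRing A] [SetLike σ A] [AddSubgroupClass σ A] (𝒜 : ℕ → σ)
  [GradedRing 𝒜]

theorem exists_degOne_not_mem_of_gen
    (hgen : Subring.closure ((𝒜 0 : Set A) ∪ (𝒜 1 : Set A)) = ⊤) (x : ProjectiveSpectrum 𝒜) :
    ∃ g ∈ 𝒜 1, g ∉ x.asHomogeneousIdeal := by
  by_contra hcon
  push Not at hcon
  obtain ⟨d, f, hd, hf, hfx⟩ := Groth.Agent.Lib.Helper2GrModSect.exists_homogeneous_pos_not_mem 𝒜 x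
  apply hfx
  obtain ⟨k, rfl⟩ : ∃ k, d = k + 1 := ⟨d - 1, by omega⟩
  have h1 := Groth.Agent.Lib.Helper27RelProj5.mem_genPow_of_mem 𝒜 hgen (k + 1) f hf
  rw [Groth.Agent.Lib.Helper27RelProj5.genPow_succ] at h1
  have key : ∀ z ∈ AddSubgroup.closure {z | ∃ a ∈ 𝒜 1, ∃ c ∈ Groth.Agent.Lib.Helper27RelProj5.genPow 𝒜 k,
      z = a * c}, z ∈ x.asHomogeneousIdeal.toIdeal := by
    intro z hz
    induction hz using AddSubgroup.closure_induction with
    | mem y hy =>
      obtain ⟨a, ha, c, -, rfl⟩ := hy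
      exact Ideal.mul_mem_right _ _ (hcon a ha)
    | zero => exact zero_mem _
    | add y z _ _ hy hz => exact add_mem hy hz
    | neg y _ hy => exact neg_mem hy
  exact key f h1

/-- `f^p / f^q` generates `O(n)` over `D₊(f)`, for `f` homogeneous of degree `d` and `n = m d`. -/
theorem exists_isGen_basicOpen {f : A} {d : ℕ} (hf : f ∈ 𝒜 d) (n m : ℤ) (hn : n = m * d) :
    ∃ e : Γ(GrMod.tilde 𝒜 𝒜 n, Proj.basicOpen 𝒜 f),
      IsGen (GrMod.tilde 𝒜 𝒜 n) (Proj.basicOpen 𝒜 f) e := by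
  have hp : f ^ m.toNat ∈ 𝒜 (m.toNat • d) := SetLike.pow_mem_graded _ hf
  have hq : f ^ (-m).toNat ∈ 𝒜 ((-m).toNat • d) := SetLike.pow_mem_graded _ hf
  have hij : ((m.toNat • d : ℕ) : ℤ) = ((-m).toNat • d : ℕ) + n := by
    have h1 : ((m.toNat : ℕ) : ℤ) = ((-m).toNat : ℕ) + m := by omega
    rw [hn, smul_eq_mul, smul_eq_mul, Nat.cast_mul, Nat.cast_mul, h1]
    ring
  exact ⟨Groth.Agent.Lib.Helper2GrModSect.fracSec 𝒜 n (Proj.basicOpen 𝒜 f) hp hq hij
      (Groth.Agent.Lib.Helper2GrModSect.pow_not_mem _),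
    Groth.Agent.Lib.Helper2GrModSect.isGen_fracSec 𝒜 n _ hp hq hij _
      (Groth.Agent.Lib.Helper2GrModSect.pow_not_mem _)⟩

end alg

section relproj
open RelProj
variable {P S : Scheme.{u}} {𝒮 : RelProj.QCGrAlg S} (p : P ⟶ S)
  (chart : ∀ (U : S.Opens) (hU : IsAffineOpen U), (((p ⁻¹ᵁ U : P.Opens) : Scheme.{u}) ≅ Proj (𝒮.deg U hU)))

theorem opensRange_emb_le (U : S.Opens) (hU : IsAffineOpen U) :
    (RelProj.emb p chart U hU).opensRange ≤ p ⁻¹ᵁ U := by
  rintro _ ⟨y, rfl⟩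
  show (RelProj.emb p chart U hU) y ∈ p ⁻¹ᵁ U
  unfold RelProj.emb
  rw [Scheme.Hom.comp_apply]
  exact ((chart U hU).inv y).2

theorem image_emb_le (U : S.Opens) (hU : IsAffineOpen U) (W' : (Proj (𝒮.deg U hU)).Opens) :
    (RelProj.emb p chart U hU) ''ᵁ W' ≤ p ⁻¹ᵁ U :=
  ((RelProj.emb p chart U hU).image_le_opensRange W').trans (opensRange_emb_le p chart U hU)

/-- a local generator of a chart module gives a local generator of the glued module. -/
theorem exists_isGen_of_chart (L : P.Modules)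
    (T : ∀ (U : S.Opens) (hU : IsAffineOpen U), (Proj (𝒮.deg U hU)).Modules)
    (lam : ∀ (U : S.Opens) (hU : IsAffineOpen U),
      L ⟶ (Scheme.Modules.pushforward (RelProj.emb p chart U hU)).obj (T U hU))
    (hbij : ∀ (U : S.Opens) (hU : IsAffineOpen U) (W : P.Opens), W ≤ p ⁻¹ᵁ U →
      Function.Bijective ((lam U hU).app W))
    (U : S.Opens) (hU : IsAffineOpen U) (W' : (Proj (𝒮.deg U hU)).Opens) (e' : Γ(T U hU, W'))
    (he' : IsGen (T U hU) W' e') :
    ∃ e : Γ(L, (RelProj.emb p chart U hU) ''ᵁ W'), IsGen L ((RelProj.emb p chart U hU) ''ᵁ W') e := by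
  have hW := image_emb_le p chart U hU W'
  have hpre : (RelProj.emb p chart U hU) ⁻¹ᵁ ((RelProj.emb p chart U hU) ''ᵁ W') = W' :=
    (RelProj.emb p chart U hU).preimage_image_eq W'
  have hle : (RelProj.emb p chart U hU) ⁻¹ᵁ ((RelProj.emb p chart U hU) ''ᵁ W') ≤ W' := le_of_eq hpre
  obtain ⟨e, he⟩ := (hbij U hU _ hW).2 (res (T U hU) hle e')
  refine ⟨e, isGen_of_chart (RelProj.emb p chart U hU) L (T U hU) (lam U hU) _
    ((RelProj.emb p chart U hU).image_le_opensRange W') (fun W'' h => hbij U hU W'' (h.trans hW)) e ?_⟩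
  have h1 : (show Γ(T U hU, (RelProj.emb p chart U hU) ⁻¹ᵁ ((RelProj.emb p chart U hU) ''ᵁ W')) from
      (lam U hU).app _ e) = res (T U hU) hle e' := he
  rw [h1]
  exact he'.mono hle

/-- if every chart module is locally generated by one section, the glued module is invertible. -/
theorem isInvertible_restrict_of_chart_gens (L : P.Modules)
    (T : ∀ (U : S.Opens) (hU : IsAffineOpen U), (Proj (𝒮.deg U hU)).Modules)
    (lam : ∀ (U : S.Opens) (hU : IsAffineOpen U),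
      L ⟶ (Scheme.Modules.pushforward (RelProj.emb p chart U hU)).obj (T U hU))
    (hbij : ∀ (U : S.Opens) (hU : IsAffineOpen U) (W : P.Opens), W ≤ p ⁻¹ᵁ U →
      Function.Bijective ((lam U hU).app W))
    (O : P.Opens)
    (hgen : ∀ (U : S.Opens) (hU : IsAffineOpen U) (y : Proj (𝒮.deg U hU)),
      (RelProj.emb p chart U hU) y ∈ O →
      ∃ (W' : (Proj (𝒮.deg U hU)).Opens) (e' : Γ(T U hU, W')), y ∈ W' ∧ IsGen (T U hU) W' e') :
    PicF.IsInvertible (L.restrict O.ι) := by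
  apply Groth.Agent.Lib.Helper27Inv.isInvertible_restrict_of_cover
  intro x hxO
  obtain ⟨U, hxU⟩ := exists_affine_mem_preimage p x
  obtain ⟨y, hy⟩ := le_opensRange_emb p chart U.1 U.2 hxU
  have hy' : (RelProj.emb p chart U.1 U.2) y = x := hy
  obtain ⟨W', e', hyW', he'⟩ := hgen U.1 U.2 y (by rw [hy']; exact hxO)
  obtain ⟨e, he⟩ := exists_isGen_of_chart p chart L T lam hbij U.1 U.2 W' e' he'
  exact ⟨(RelProj.emb p chart U.1 U.2) ''ᵁ W', ⟨y, hyW', hy'⟩, nonempty_restrict_iso_of_isGen L _ e he⟩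

/-- if every chart module is locally generated by one section, the glued module is invertible. -/
theorem isInvertible_of_chart_gens (L : P.Modules)
    (T : ∀ (U : S.Opens) (hU : IsAffineOpen U), (Proj (𝒮.deg U hU)).Modules)
    (lam : ∀ (U : S.Opens) (hU : IsAffineOpen U),
      L ⟶ (Scheme.Modules.pushforward (RelProj.emb p chart U hU)).obj (T U hU))
    (hbij : ∀ (U : S.Opens) (hU : IsAffineOpen U) (W : P.Opens), W ≤ p ⁻¹ᵁ U →
      Function.Bijective ((lam U hU).app W))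
    (hgen : ∀ (U : S.Opens) (hU : IsAffineOpen U) (y : Proj (𝒮.deg U hU)),
      ∃ (W' : (Proj (𝒮.deg U hU)).Opens) (e' : Γ(T U hU, W')), y ∈ W' ∧ IsGen (T U hU) W' e') :
    PicF.IsInvertible L := by
  apply isInvertible_of_isGen
  intro x
  obtain ⟨U, hxU⟩ := exists_affine_mem_preimage p x
  obtain ⟨y, hy⟩ := le_opensRange_emb p chart U.1 U.2 hxU
  have hy' : (RelProj.emb p chart U.1 U.2) y = x := hy
  obtain ⟨W', e', hyW', he'⟩ := hgen U.1 U.2 y
  obtain ⟨e, he⟩ := exists_isGen_of_chart p chart L T lam hbij U.1 U.2 W' e' he'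
  exact ⟨(RelProj.emb p chart U.1 U.2) ''ᵁ W', e, ⟨y, hyW', hy'⟩, he⟩

/-- periodicity: over a quasi-compact open, the relative twists `O(n)` are invertible for `n` divisible by a
suitable `d > 0`. -/
theorem exists_period_of_isCompact (O : P.Opens) (hO : IsCompact (O : Set P)) :
    ∃ d : ℕ, 0 < d ∧ ∀ n : ℤ, (d : ℤ) ∣ n → ∀ (L : P.Modules)
      (lam : ∀ (U : S.Opens) (hU : IsAffineOpen U),
        L ⟶ (Scheme.Modules.pushforward (RelProj.emb p chart U hU)).obj (GrTwist.twist (𝒮.deg U hU) n)),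
      (∀ (U : S.Opens) (hU : IsAffineOpen U) (W : P.Opens), W ≤ p ⁻¹ᵁ U →
        Function.Bijective ((lam U hU).app W)) → PicF.IsInvertible (L.restrict O.ι) := by
  have key : ∀ x : P, ∃ (U : S.affineOpens) (d : ℕ) (f : 𝒮.presheaf.obj (op U.1)), 0 < d ∧
      f ∈ 𝒮.deg U.1 U.2 d ∧
      x ∈ (RelProj.emb p chart U.1 U.2) ''ᵁ (Proj.basicOpen (𝒮.deg U.1 U.2) f) := by
    intro x
    obtain ⟨U, hxU⟩ := exists_affine_mem_preimage p x
    obtain ⟨y, hy⟩ := le_opensRange_emb p chart U.1 U.2 hxU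
    have hy' : (RelProj.emb p chart U.1 U.2) y = x := hy
    obtain ⟨d, f, hd, hf, hfy⟩ :=
      Groth.Agent.Lib.Helper2GrModSect.exists_homogeneous_pos_not_mem (𝒮.deg U.1 U.2) y
    exact ⟨U, d, f, hd, hf, ⟨y, (ProjectiveSpectrum.mem_basicOpen _ f y).mpr hfy, hy'⟩⟩
  choose U d f hd hf hx using key
  obtain ⟨t, ht⟩ := hO.elim_finite_subcover
    (fun x => (((RelProj.emb p chart (U x).1 (U x).2) ''ᵁ
      (Proj.basicOpen (𝒮.deg (U x).1 (U x).2) (f x)) : P.Opens) : Set P))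
    (fun x => ((RelProj.emb p chart (U x).1 (U x).2) ''ᵁ
      (Proj.basicOpen (𝒮.deg (U x).1 (U x).2) (f x))).2)
    (fun z _ => Set.mem_iUnion.mpr ⟨z, hx z⟩)
  refine ⟨∏ x ∈ t, d x, Finset.prod_pos (fun x _ => hd x), ?_⟩
  intro n hn L lam hbij
  apply Groth.Agent.Lib.Helper27Inv.isInvertible_restrict_of_cover
  intro z hz
  obtain ⟨x, hxt, hzx⟩ : ∃ x ∈ t, z ∈ (RelProj.emb p chart (U x).1 (U x).2) ''ᵁ
      (Proj.basicOpen (𝒮.deg (U x).1 (U x).2) (f x)) := by
    have := ht hz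
    simp only [Set.mem_iUnion] at this
    obtain ⟨x, hxt, hzx⟩ := this
    exact ⟨x, hxt, hzx⟩
  have hdn : (d x : ℤ) ∣ n :=
    dvd_trans (by exact_mod_cast Finset.dvd_prod_of_mem d hxt) hn
  obtain ⟨m, hm⟩ := hdn
  obtain ⟨e', he'⟩ := exists_isGen_basicOpen (𝒮.deg (U x).1 (U x).2) (hf x) n m (by rw [hm, mul_comm])
  obtain ⟨e, he⟩ := exists_isGen_of_chart p chart L
    (fun U hU => GrTwist.twist (𝒮.deg U hU) n) lam hbij (U x).1 (U x).2 _ e' he'
  exact ⟨_, hzx, nonempty_restrict_iso_of_isGen L _ e he⟩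

end relproj

end Groth.Agent.Lib.Helper2.RelTwistGen
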