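import Mathlib
import Groth.Prelude.Def_RelProj3
import Groth.Agent.Lib.Helper2RelTwistGen
import Groth.Agent.Lib.Helper2IsGenCover

/-!
# The relative twisting sheaf `O_P(n d)` is trivial on `X_f`, `f` a global section of degree `d` (helper2)
-/

set_option autoImplicit false
universe u
open CategoryTheory Limits AlgebraicGeometry TopologicalSpace Opposite

namespace Groth.Agent.Lib.Helper2.RelTwistTriv

open Groth.Agent.Lib.Helper2.RelTildeQCoh Groth.Agent.Lib.Helper23.SecTw Groth.Agent.Lib.Helper6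
  Groth.Agent.Lib.Helper2.Push Groth.Agent.Lib.Helper2.RelTwistGen Groth.Agent.Lib.Helper2.IsGenCover

section alg
variable {A σ : Type u} [CommRing A] [SetLike σ A] [AddSubgroupClass σ A] (𝒜 : ℕ → σ)
  [GradedRing 𝒜]

theorem twist_ext {n : ℤ} (W : (Proj 𝒜).Opens) (s s' : Γ(GrTwist.twist 𝒜 n, W))
    (h : ∀ y : W, GrTwist.val s y = GrTwist.val s' y) : s = s' :=
  Subtype.ext (funext fun y => Subtype.ext (h y))

theorem fsec_aux {f : A} {d : ℕ} (hf : f ∈ 𝒜 d) (m : ℤ) :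
    f ^ m.toNat ∈ 𝒜 (m.toNat • d) ∧ f ^ (-m).toNat ∈ 𝒜 ((-m).toNat • d) ∧
      ((m.toNat • d : ℕ) : ℤ) = ((-m).toNat • d : ℕ) + m * (d : ℤ) := by
  refine ⟨SetLike.pow_mem_graded _ hf, SetLike.pow_mem_graded _ hf, ?_⟩
  have h1 : ((m.toNat : ℕ) : ℤ) = ((-m).toNat : ℕ) + m := by omega
  rw [smul_eq_mul, smul_eq_mul, Nat.cast_mul, Nat.cast_mul, h1]
  ring

/-- `f^p / f^q` as a section of `O(m d)` over an open where `f` vanishes nowhere. -/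
noncomputable def fsec {f : A} {d : ℕ} (hf : f ∈ 𝒜 d) (m : ℤ) (W : (Proj 𝒜).Opens)
    (hW : ∀ y : W, f ∉ y.1.asHomogeneousIdeal) : Γ(GrTwist.twist 𝒜 (m * (d : ℤ)), W) :=
  Groth.Agent.Lib.Helper2GrModSect.fracSec 𝒜 (m * (d : ℤ)) W (fsec_aux 𝒜 hf m).1 (fsec_aux 𝒜 hf m).2.1
    (fsec_aux 𝒜 hf m).2.2 (fun y h => hW y (y.1.isPrime.mem_of_pow_mem _ h))

theorem val_fsec {f : A} {d : ℕ} (hf : f ∈ 𝒜 d) (m : ℤ) (W : (Proj 𝒜).Opens)
    (hW : ∀ y : W, f ∉ y.1.asHomogeneousIdeal) (y : W) :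
    GrTwist.val (fsec 𝒜 hf m W hW) y =
      (Localization.mk (f ^ m.toNat) (⟨f ^ (-m).toNat, fun h => hW y (y.1.isPrime.mem_of_pow_mem _ h)⟩ :
        y.1.asHomogeneousIdeal.toIdeal.primeCompl) : GrTwist.Loc 𝒜 y.1) := rfl

theorem isGen_fsec {f : A} {d : ℕ} (hf : f ∈ 𝒜 d) (m : ℤ) (W : (Proj 𝒜).Opens)
    (hW : ∀ y : W, f ∉ y.1.asHomogeneousIdeal) :
    IsGen (GrTwist.twist 𝒜 (m * (d : ℤ))) W (fsec 𝒜 hf m W hW) :=
  Groth.Agent.Lib.Helper2GrModSect.isGen_fracSec 𝒜 (m * (d : ℤ)) W (fsec_aux 𝒜 hf m).1 (fsec_aux 𝒜 hf m).2.1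
    (fsec_aux 𝒜 hf m).2.2 _ (fun y h => hW y (y.1.isPrime.mem_of_pow_mem _ h))

end alg

section relproj
open RelProj
variable {P S : Scheme.{u}} {𝒮 : RelProj.QCGrAlg S} (p : P ⟶ S)
  (chart : ∀ (U : S.Opens) (hU : IsAffineOpen U), (((p ⁻¹ᵁ U : P.Opens) : Scheme.{u}) ≅ Proj (𝒮.deg U hU)))

/-- the restriction of a global section of `𝒮` to an open. -/
noncomputable abbrev fU (f : 𝒮.presheaf.obj (op ⊤)) (U : S.Opens) : 𝒮.presheaf.obj (op U) :=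
  (𝒮.presheaf.map (homOfLE le_top).op).hom f

theorem res_fU (f : 𝒮.presheaf.obj (op ⊤)) {U V : S.Opens} (hU : IsAffineOpen U) (hV : IsAffineOpen V)
    (i : V ≤ U) : 𝒮.res hU hV i (fU f U) = fU f V := by
  change (𝒮.presheaf.map (homOfLE i).op).hom ((𝒮.presheaf.map (homOfLE le_top).op).hom f) = _
  rw [← CommRingCat.comp_apply, ← Functor.map_comp]
  rfl

theorem emb_apply (U : S.Opens) (hU : IsAffineOpen U) (y : Proj (𝒮.deg U hU)) :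
    (RelProj.emb p chart U hU) y = (p ⁻¹ᵁ U).ι ((chart U hU).inv y) := by
  unfold RelProj.emb
  rw [Scheme.Hom.comp_apply]

variable (f : 𝒮.presheaf.obj (op ⊤)) (Xf : P.Opens)
  (hXf : ∀ (U : S.Opens) (hU : IsAffineOpen U),
      Xf ⊓ p ⁻¹ᵁ U =
        (p ⁻¹ᵁ U).ι ''ᵁ ((chart U hU).hom ⁻¹ᵁ Proj.basicOpen (𝒮.deg U hU) (fU f U)))

include hXf in
theorem not_mem_of_mem (U : S.Opens) (hU : IsAffineOpen U) (y : Proj (𝒮.deg U hU))
    (hy : (RelProj.emb p chart U hU) y ∈ Xf ⊓ p ⁻¹ᵁ U) : fU f U ∉ y.asHomogeneousIdeal := by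
  rw [hXf U hU] at hy
  obtain ⟨z, hz, hzy⟩ := hy
  rw [emb_apply] at hzy
  have h1 : z = (chart U hU).inv y := (p ⁻¹ᵁ U).ι.isOpenEmbedding.injective hzy
  have h2 : (chart U hU).hom z = y := by
    rw [h1, ← Scheme.Hom.comp_apply, Iso.inv_hom_id]
    rfl
  have h3 : (chart U hU).hom z ∈ Proj.basicOpen (𝒮.deg U hU) (fU f U) := hz
  rw [h2] at h3
  exact (ProjectiveSpectrum.mem_basicOpen _ _ y).mp h3

variable {d : ℕ} (hf : ∀ (U : S.Opens) (hU : IsAffineOpen U), fU f U ∈ 𝒮.deg U hU d)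
  (n : ℤ) (L : P.Modules)
  (lam : ∀ (U : S.Opens) (hU : IsAffineOpen U),
    L ⟶ (Scheme.Modules.pushforward (RelProj.emb p chart U hU)).obj
      (GrTwist.twist (𝒮.deg U hU) (n * (d : ℤ))))
  (hL : RelProj.IsRelTwist 𝒮 p chart (n * (d : ℤ)) L lam)

/-- the chart generator `f^p / f^q` over `emb⁻¹(X_f ∩ p⁻¹ U)`. -/
noncomputable def eChart (U : S.Opens) (hU : IsAffineOpen U) :
    Γ(GrTwist.twist (𝒮.deg U hU) (n * (d : ℤ)), (RelProj.emb p chart U hU) ⁻¹ᵁ (Xf ⊓ p ⁻¹ᵁ U)) :=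
  fsec (𝒮.deg U hU) (hf U hU) n _ (fun y => not_mem_of_mem p chart f Xf hXf U hU y.1 y.2)

include hL in
theorem exists_eLoc (U : S.Opens) (hU : IsAffineOpen U) :
    ∃ e : Γ(L, Xf ⊓ p ⁻¹ᵁ U), (lam U hU).app (Xf ⊓ p ⁻¹ᵁ U) e = eChart p chart f Xf hXf hf n U hU :=
  (hL.bijective U hU _ inf_le_right).2 (eChart p chart f Xf hXf hf n U hU)

/-- the local generator of `L` over `X_f ∩ p⁻¹ U`. -/
noncomputable def eLoc (U : S.Opens) (hU : IsAffineOpen U) : Γ(L, Xf ⊓ p ⁻¹ᵁ U) :=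
  (exists_eLoc p chart f Xf hXf hf n L lam hL U hU).choose

theorem lam_eLoc (U : S.Opens) (hU : IsAffineOpen U) :
    (lam U hU).app (Xf ⊓ p ⁻¹ᵁ U) (eLoc p chart f Xf hXf hf n L lam hL U hU) =
      eChart p chart f Xf hXf hf n U hU :=
  (exists_eLoc p chart f Xf hXf hf n L lam hL U hU).choose_spec

theorem isGen_eLoc (U : S.Opens) (hU : IsAffineOpen U) :
    IsGen L (Xf ⊓ p ⁻¹ᵁ U) (eLoc p chart f Xf hXf hf n L lam hL U hU) := by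
  refine isGen_of_chart (RelProj.emb p chart U hU) L _ (lam U hU) _
    (inf_le_right.trans (le_opensRange_emb p chart U hU))
    (fun W'' h => hL.bijective U hU W'' (h.trans inf_le_right)) _ ?_
  have h1 : (show Γ(GrTwist.twist (𝒮.deg U hU) (n * (d : ℤ)),
      (RelProj.emb p chart U hU) ⁻¹ᵁ (Xf ⊓ p ⁻¹ᵁ U)) from
      (lam U hU).app (Xf ⊓ p ⁻¹ᵁ U) (eLoc p chart f Xf hXf hf n L lam hL U hU)) =
      eChart p chart f Xf hXf hf n U hU := lam_eLoc p chart f Xf hXf hf n L lam hL U hU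
  rw [h1]
  exact isGen_fsec _ _ _ _ _

include hL in
theorem res_eLoc_basicOpen (hP : RelProj.IsRelProj 𝒮 p chart) (U : S.Opens) (hU : IsAffineOpen U)
    (r : Γ(S, U))
    (hle : Xf ⊓ p ⁻¹ᵁ (S.basicOpen r) ≤ Xf ⊓ p ⁻¹ᵁ U) :
    res L hle (eLoc p chart f Xf hXf hf n L lam hL U hU) =
      eLoc p chart f Xf hXf hf n L lam hL (S.basicOpen r) (hU.basicOpen r) := by
  apply (hL.bijective (S.basicOpen r) (hU.basicOpen r) _ inf_le_right).1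
  rw [lam_eLoc]
  have hnat := app_map' (lam (S.basicOpen r) (hU.basicOpen r)) (homOfLE hle)
    (eLoc p chart f Xf hXf hf n L lam hL U hU)
  refine hnat.trans ?_
  apply twist_ext
  intro y
  have hy : (RelProj.emb p chart (S.basicOpen r) (hU.basicOpen r)) y.1 ∈ Xf ⊓ p ⁻¹ᵁ U := hle y.2
  have hy' : (RelProj.emb p chart U hU) (ProjectiveSpectrum.comap
      (𝒮.res hU (hU.basicOpen r) (S.basicOpen_le r)) (𝒮.irrelevant_le_map U hU r) y.1) ∈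
      Xf ⊓ p ⁻¹ᵁ U := by
    have e := RelProj.map_res_emb hP U hU r
    have e2 : (RelProj.emb p chart (S.basicOpen r) (hU.basicOpen r)) y.1 =
        (RelProj.emb p chart U hU) ((Proj.map (𝒮.res hU (hU.basicOpen r) (S.basicOpen_le r))
          (𝒮.irrelevant_le_map U hU r)) y.1) := by
      rw [← Scheme.Hom.comp_apply, e]
    rw [e2] at hy
    exact hy
  have hc := hL.compat U hU r (Xf ⊓ p ⁻¹ᵁ U) (eLoc p chart f Xf hXf hf n L lam hL U hU) y.1 hy hy'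
  rw [lam_eLoc] at hc
  refine Eq.trans (show _ = GrTwist.val ((lam (S.basicOpen r) (hU.basicOpen r)).app (Xf ⊓ p ⁻¹ᵁ U)
    (eLoc p chart f Xf hXf hf n L lam hL U hU)) ⟨y.1, hy⟩ from rfl) ?_
  rw [hc]
  unfold eChart
  rw [val_fsec, val_fsec, GrTwist.locMap_mk]
  simp only [map_pow]
  have e := res_fU (𝒮 := 𝒮) f hU (hU.basicOpen r) (S.basicOpen_le r)
  rw [Localization.mk_eq_mk_iff, Localization.r_iff_exists]
  refine ⟨1, ?_⟩
  simp only [e]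

theorem eLoc_congr {V V' : S.Opens} (h : V = V') (hV : IsAffineOpen V) (hV' : IsAffineOpen V')
    (W'' : P.Opens) (h1 : W'' ≤ Xf ⊓ p ⁻¹ᵁ V) (h2 : W'' ≤ Xf ⊓ p ⁻¹ᵁ V') :
    res L h1 (eLoc p chart f Xf hXf hf n L lam hL V hV) =
      res L h2 (eLoc p chart f Xf hXf hf n L lam hL V' hV') := by
  subst h
  rfl

include hL in
theorem res_eLoc_inf (hP : RelProj.IsRelProj 𝒮 p chart) (U U' : S.Opens) (hU : IsAffineOpen U)
    (hU' : IsAffineOpen U') :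
    res L (inf_le_left : (Xf ⊓ p ⁻¹ᵁ U) ⊓ (Xf ⊓ p ⁻¹ᵁ U') ≤ Xf ⊓ p ⁻¹ᵁ U)
        (eLoc p chart f Xf hXf hf n L lam hL U hU) =
      res L (inf_le_right : (Xf ⊓ p ⁻¹ᵁ U) ⊓ (Xf ⊓ p ⁻¹ᵁ U') ≤ Xf ⊓ p ⁻¹ᵁ U')
        (eLoc p chart f Xf hXf hf n L lam hL U' hU') := by
  have key : ∀ x : ((Xf ⊓ p ⁻¹ᵁ U) ⊓ (Xf ⊓ p ⁻¹ᵁ U') : P.Opens), ∃ (W'' : P.Opens)
      (hW : W'' ≤ (Xf ⊓ p ⁻¹ᵁ U) ⊓ (Xf ⊓ p ⁻¹ᵁ U')), x.1 ∈ W'' ∧
      res L hW (res L inf_le_left (eLoc p chart f Xf hXf hf n L lam hL U hU)) =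
        res L hW (res L inf_le_right (eLoc p chart f Xf hXf hf n L lam hL U' hU')) := by
    intro x
    obtain ⟨r, r', hrr', hx⟩ := exists_basicOpen_le_affine_inter hU hU' (p x.1) ⟨x.2.1.2, x.2.2.2⟩
    have hle1 : Xf ⊓ p ⁻¹ᵁ (S.basicOpen r) ≤ Xf ⊓ p ⁻¹ᵁ U :=
      inf_le_inf_left _ (p.preimage_mono (S.basicOpen_le r))
    have hle2 : Xf ⊓ p ⁻¹ᵁ (S.basicOpen r') ≤ Xf ⊓ p ⁻¹ᵁ U' :=
      inf_le_inf_left _ (p.preimage_mono (S.basicOpen_le r'))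
    have hle3 : Xf ⊓ p ⁻¹ᵁ (S.basicOpen r) ≤ Xf ⊓ p ⁻¹ᵁ (S.basicOpen r') := by rw [hrr']
    refine ⟨Xf ⊓ p ⁻¹ᵁ (S.basicOpen r), le_inf hle1 (hle3.trans hle2), ⟨x.2.1.1, hx⟩, ?_⟩
    rw [res_res, res_res]
    have e1 := res_eLoc_basicOpen p chart f Xf hXf hf n L lam hL hP U hU r hle1
    have e2 := res_eLoc_basicOpen p chart f Xf hXf hf n L lam hL hP U' hU' r' hle2
    have e3 := eLoc_congr p chart f Xf hXf hf n L lam hL hrr' (hU.basicOpen r) (hU'.basicOpen r')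
      (Xf ⊓ p ⁻¹ᵁ (S.basicOpen r)) le_rfl hle3
    rw [res_self] at e3
    rw [e1, e3, ← e2, res_res]
  choose W'' hW hx hres using key
  refine (modSheaf L).eq_of_locally_eq' W'' _ (fun x => homOfLE (hW x)) ?_ _ _ hres
  intro x hx'
  exact Opens.mem_iSup.mpr ⟨⟨x, hx'⟩, hx _⟩

include hXf hf hL in
/-- `O_P(n d)` is trivial on `X_f`. -/
theorem nonempty_restrict_iso (hP : RelProj.IsRelProj 𝒮 p chart) :
    Nonempty (L.restrict Xf.ι ≅ Coh.structureModule (Xf : Scheme.{u})) := by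
  have hcov : ∀ x ∈ Xf, ∃ U : S.affineOpens, x ∈ Xf ⊓ p ⁻¹ᵁ U.1 := by
    intro x hx
    obtain ⟨U, hU⟩ := exists_affine_mem_preimage p x
    exact ⟨U, hx, hU⟩
  obtain ⟨e, he⟩ := exists_section_of_cover L Xf (fun U : S.affineOpens => Xf ⊓ p ⁻¹ᵁ U.1)
    (fun U => inf_le_left) hcov (fun U => eLoc p chart f Xf hXf hf n L lam hL U.1 U.2)
    (fun U U' => res_eLoc_inf p chart f Xf hXf hf n L lam hL hP U.1 U'.1 U.2 U'.2)
  refine nonempty_restrict_iso_of_isGen L Xf e ?_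
  refine isGen_of_cover L Xf e (fun U : S.affineOpens => Xf ⊓ p ⁻¹ᵁ U.1) (fun U => inf_le_left) hcov ?_
  intro U
  rw [he U]
  exact isGen_eLoc p chart f Xf hXf hf n L lam hL U.1 U.2

end relproj

end Groth.Agent.Lib.Helper2.RelTwistTriv
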