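import Mathlib
import Groth.Prelude.Def_RelProj3
import Groth.Agent.Lib.Helper2RelTwistTriv

/-!
# Tensor products of relative twisting sheaves: `O_P(m) ⊗ O_P(n) ≅ O_P(m + n)` (helper2)

* `val_lam_res` : chart change for sections that are a single fraction in a chart;
* frames `eF` of `O_P(k)` over the images of `D₊(t)`, `t` of degree one, in each chart;
* `nonempty_tensor_iso`.
-/

set_option autoImplicit false
universe u
open CategoryTheory Limits AlgebraicGeometry TopologicalSpace Opposite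

namespace Groth.Agent.Lib.Helper2.RelTwistTensor

open Groth.Agent.Lib.Helper2.RelTildeQCoh Groth.Agent.Lib.Helper23.SecTw Groth.Agent.Lib.Helper6
  Groth.Agent.Lib.Helper2.Push Groth.Agent.Lib.Helper2.RelTwistGen Groth.Agent.Lib.Helper2.IsGenCover
  Groth.Agent.Lib.Helper2.RelTwistTriv RelProj

variable {P S : Scheme.{u}} {𝒮 : RelProj.QCGrAlg S} (p : P ⟶ S)
  (chart : ∀ (U : S.Opens) (hU : IsAffineOpen U), (((p ⁻¹ᵁ U : P.Opens) : Scheme.{u}) ≅ Proj (𝒮.deg U hU)))

section frames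

variable (k : ℤ) (L : P.Modules)
  (lam : ∀ (U : S.Opens) (hU : IsAffineOpen U),
    L ⟶ (Scheme.Modules.pushforward (RelProj.emb p chart U hU)).obj (GrTwist.twist (𝒮.deg U hU) k))
  (hL : RelProj.IsRelTwist 𝒮 p chart k L lam)

include hL in
/-- chart change for a section which is a single fraction `a / b` in the chart over `U`. -/
theorem val_lam_res (hP : RelProj.IsRelProj 𝒮 p chart) (U : S.Opens) (hU : IsAffineOpen U) (r : Γ(S, U))
    (U'' : S.Opens) (hU'' : IsAffineOpen U'') (hr : U'' = S.basicOpen r) (hle : U'' ≤ U)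
    (V : P.Opens) (e : Γ(L, V)) (a b : 𝒮.presheaf.obj (op U))
    (hb : ∀ y : ((RelProj.emb p chart U hU) ⁻¹ᵁ V : (Proj (𝒮.deg U hU)).Opens),
      b ∉ y.1.asHomogeneousIdeal)
    (he : ∀ y : ((RelProj.emb p chart U hU) ⁻¹ᵁ V : (Proj (𝒮.deg U hU)).Opens),
      GrTwist.val (V := RelProj.emb p chart U hU ⁻¹ᵁ V) ((lam U hU).app V e) y =
        Localization.mk a ⟨b, hb y⟩)
    (O : P.Opens) (hOV : O ≤ V) (y'' : ProjectiveSpectrum (𝒮.deg U'' hU''))
    (hy'' : (RelProj.emb p chart U'' hU'') y'' ∈ O) :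
    ∃ hb'' : 𝒮.res hU hU'' hle b ∉ y''.asHomogeneousIdeal,
      GrTwist.val (V := RelProj.emb p chart U'' hU'' ⁻¹ᵁ O)
          ((lam U'' hU'').app O (res L hOV e)) ⟨y'', hy''⟩ =
        Localization.mk (𝒮.res hU hU'' hle a) ⟨𝒮.res hU hU'' hle b, hb''⟩ := by
  subst hr
  have hy' : (RelProj.emb p chart U hU) (ProjectiveSpectrum.comap
      (𝒮.res hU (hU.basicOpen r) (S.basicOpen_le r)) (𝒮.irrelevant_le_map U hU r) y'') ∈ O := by
    have e1 := RelProj.map_res_emb hP U hU r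
    have e2 : (RelProj.emb p chart (S.basicOpen r) (hU.basicOpen r)) y'' =
        (RelProj.emb p chart U hU) ((Proj.map (𝒮.res hU (hU.basicOpen r) (S.basicOpen_le r))
          (𝒮.irrelevant_le_map U hU r)) y'') := by
      rw [← Scheme.Hom.comp_apply, e1]
    rw [e2] at hy''
    exact hy''
  have hc := hL.compat U hU r O (res L hOV e) y'' hy'' hy'
  have h1 : GrTwist.val (V := RelProj.emb p chart U hU ⁻¹ᵁ O) ((lam U hU).app O (res L hOV e))
      ⟨_, hy'⟩ = Localization.mk a ⟨b, hb ⟨_, hOV hy'⟩⟩ := by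
    have hnat := app_map' (lam U hU) (homOfLE hOV) e
    rw [← he ⟨_, hOV hy'⟩]
    change GrTwist.val (V := RelProj.emb p chart U hU ⁻¹ᵁ O)
      ((lam U hU).app O (L.presheaf.map (homOfLE hOV).op e)) ⟨_, hy'⟩ = _
    rw [hnat]
    rfl
  rw [h1, GrTwist.locMap_mk] at hc
  exact ⟨_, hc⟩

end frames

/-- index of the degree-one frames. -/
abbrev Idx (𝒮 : RelProj.QCGrAlg S) : Type u :=
  Σ U : S.affineOpens, {t : 𝒮.presheaf.obj (op U.1) // t ∈ 𝒮.deg U.1 U.2 1}

/-- the image in `P` of `D₊(t)`. -/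
noncomputable def VF (i : Idx 𝒮) : P.Opens :=
  (RelProj.emb p chart i.1.1 i.1.2) ''ᵁ (Proj.basicOpen (𝒮.deg i.1.1 i.1.2) i.2.1)

theorem VF_le (i : Idx 𝒮) : VF p chart i ≤ p ⁻¹ᵁ i.1.1 := image_emb_le p chart i.1.1 i.1.2 _

theorem preimage_VF (i : Idx 𝒮) :
    (RelProj.emb p chart i.1.1 i.1.2) ⁻¹ᵁ (VF p chart i) = Proj.basicOpen (𝒮.deg i.1.1 i.1.2) i.2.1 :=
  (RelProj.emb p chart i.1.1 i.1.2).preimage_image_eq _

theorem not_mem_of_mem_VF (i : Idx 𝒮) (y : Proj (𝒮.deg i.1.1 i.1.2))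
    (hy : (RelProj.emb p chart i.1.1 i.1.2) y ∈ VF p chart i) : i.2.1 ∉ y.asHomogeneousIdeal := by
  have h1 : y ∈ (RelProj.emb p chart i.1.1 i.1.2) ⁻¹ᵁ (VF p chart i) := hy
  rw [preimage_VF] at h1
  exact (ProjectiveSpectrum.mem_basicOpen _ _ y).mp h1

theorem exists_mem_VF (hgen : 𝒮.IsGenDegOne) (x : P) : ∃ i : Idx 𝒮, x ∈ VF p chart i := by
  obtain ⟨U, hxU⟩ := exists_affine_mem_preimage p x
  obtain ⟨y, hy⟩ := le_opensRange_emb p chart U.1 U.2 hxU
  obtain ⟨t, ht, hty⟩ := exists_degOne_not_mem_of_gen (𝒮.deg U.1 U.2) (hgen U.1 U.2) y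
  exact ⟨⟨U, ⟨t, ht⟩⟩, y, (ProjectiveSpectrum.mem_basicOpen _ t y).mpr hty, hy⟩

theorem res_not_mem (hP : RelProj.IsRelProj 𝒮 p chart) (i : Idx 𝒮) (r : Γ(S, i.1.1))
    (U'' : S.Opens) (hU'' : IsAffineOpen U'') (hr : U'' = S.basicOpen r) (hle : U'' ≤ i.1.1)
    (y'' : ProjectiveSpectrum (𝒮.deg U'' hU''))
    (hy'' : (RelProj.emb p chart U'' hU'') y'' ∈ VF p chart i) :
    𝒮.res i.1.2 hU'' hle i.2.1 ∉ y''.asHomogeneousIdeal := by
  subst hr
  have e1 := RelProj.map_res_emb hP i.1.1 i.1.2 r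
  have e2 : (RelProj.emb p chart (S.basicOpen r) (i.1.2.basicOpen r)) y'' =
      (RelProj.emb p chart i.1.1 i.1.2) ((Proj.map (𝒮.res i.1.2 (i.1.2.basicOpen r) (S.basicOpen_le r))
        (𝒮.irrelevant_le_map i.1.1 i.1.2 r)) y'') := by
    rw [← Scheme.Hom.comp_apply, e1]
  rw [e2] at hy''
  exact not_mem_of_mem_VF p chart i _ hy''

section frames2

variable (k : ℤ) (L : P.Modules)
  (lam : ∀ (U : S.Opens) (hU : IsAffineOpen U),
    L ⟶ (Scheme.Modules.pushforward (RelProj.emb p chart U hU)).obj (GrTwist.twist (𝒮.deg U hU) k))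
  (hL : RelProj.IsRelTwist 𝒮 p chart k L lam) (pp qq : ℕ) (h : (pp : ℤ) = qq + k)

/-- the chart section `t^pp / t^qq` over `emb⁻¹ (VF i)`. -/
noncomputable def zs (i : Idx 𝒮) :
    Γ(GrTwist.twist (𝒮.deg i.1.1 i.1.2) k, (RelProj.emb p chart i.1.1 i.1.2) ⁻¹ᵁ (VF p chart i)) :=
  Groth.Agent.Lib.Helper2GrModSect.fracSec (𝒮.deg i.1.1 i.1.2) k _
    (Groth.Agent.Lib.Helper2GrModSect.pow_mem_one i.2.2 pp)
    (Groth.Agent.Lib.Helper2GrModSect.pow_mem_one i.2.2 qq) h
    (fun y hh => not_mem_of_mem_VF p chart i y.1 y.2 (y.1.isPrime.mem_of_pow_mem _ hh))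

include hL in
theorem exists_eF (i : Idx 𝒮) :
    ∃ e : Γ(L, VF p chart i), (lam i.1.1 i.1.2).app (VF p chart i) e = zs p chart k pp qq h i :=
  (hL.bijective i.1.1 i.1.2 _ (VF_le p chart i)).2 (zs p chart k pp qq h i)

/-- the frame of `L` over `VF i`. -/
noncomputable def eF (i : Idx 𝒮) : Γ(L, VF p chart i) :=
  (exists_eF p chart k L lam hL pp qq h i).choose

theorem lam_eF (i : Idx 𝒮) :
    (lam i.1.1 i.1.2).app (VF p chart i) (eF p chart k L lam hL pp qq h i) = zs p chart k pp qq h i :=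
  (exists_eF p chart k L lam hL pp qq h i).choose_spec

theorem isGen_eF (i : Idx 𝒮) : IsGen L (VF p chart i) (eF p chart k L lam hL pp qq h i) := by
  have h2 : IsGen (GrTwist.twist (𝒮.deg i.1.1 i.1.2) k)
      ((RelProj.emb p chart i.1.1 i.1.2) ⁻¹ᵁ (VF p chart i)) (zs p chart k pp qq h i) :=
    Groth.Agent.Lib.Helper2GrModSect.isGen_fracSec (𝒮.deg i.1.1 i.1.2) k _ _ _ h _
      (fun y hh => not_mem_of_mem_VF p chart i y.1 y.2 (y.1.isPrime.mem_of_pow_mem _ hh))
  rw [← lam_eF p chart k L lam hL pp qq h i] at h2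
  exact isGen_of_chart (RelProj.emb p chart i.1.1 i.1.2) L _ (lam i.1.1 i.1.2) (VF p chart i)
    ((RelProj.emb p chart i.1.1 i.1.2).image_le_opensRange _)
    (fun W'' hW => hL.bijective i.1.1 i.1.2 W'' (hW.trans (VF_le p chart i)))
    (eF p chart k L lam hL pp qq h i) h2

theorem val_eF (i : Idx 𝒮)
    (y : ((RelProj.emb p chart i.1.1 i.1.2) ⁻¹ᵁ (VF p chart i) : (Proj (𝒮.deg i.1.1 i.1.2)).Opens)) :
    GrTwist.val (V := RelProj.emb p chart i.1.1 i.1.2 ⁻¹ᵁ (VF p chart i))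
      ((lam i.1.1 i.1.2).app (VF p chart i) (eF p chart k L lam hL pp qq h i)) y =
      Localization.mk (i.2.1 ^ pp) (⟨i.2.1 ^ qq, fun hh =>
        not_mem_of_mem_VF p chart i y.1 y.2 (y.1.isPrime.mem_of_pow_mem _ hh)⟩ :
        y.1.asHomogeneousIdeal.toIdeal.primeCompl) :=
  (congrArg (fun σ : Γ(GrTwist.twist (𝒮.deg i.1.1 i.1.2) k,
    (RelProj.emb p chart i.1.1 i.1.2) ⁻¹ᵁ (VF p chart i)) => GrTwist.val σ y)
    (lam_eF p chart k L lam hL pp qq h i)).trans rfl

end frames2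

section transition

variable (k : ℤ) (L : P.Modules)
  (lam : ∀ (U : S.Opens) (hU : IsAffineOpen U),
    L ⟶ (Scheme.Modules.pushforward (RelProj.emb p chart U hU)).obj (GrTwist.twist (𝒮.deg U hU) k))
  (hL : RelProj.IsRelTwist 𝒮 p chart k L lam) (pp qq : ℕ) (h : (pp : ℤ) = qq + k)

/-- the fraction `t^pp / t^qq` at a point where `t` does not vanish. -/
noncomputable def zv {A σ : Type u} [CommRing A] [SetLike σ A] [AddSubgroupClass σ A] {𝒜 : ℕ → σ}
    [GradedRing 𝒜] (y : ProjectiveSpectrum 𝒜) (t : A) (ht : t ∉ y.asHomogeneousIdeal) (pp qq : ℕ) :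
    GrTwist.Loc 𝒜 y :=
  Localization.mk (t ^ pp) (⟨t ^ qq, fun hh => ht (y.isPrime.mem_of_pow_mem _ hh)⟩ :
    y.asHomogeneousIdeal.toIdeal.primeCompl)

include hL in
/-- the frame `eF i`, read in the chart over a basic open `U'' ⊆ U`. -/
theorem val_lam_res_eF (hP : RelProj.IsRelProj 𝒮 p chart) (i : Idx 𝒮) (r : Γ(S, i.1.1))
    (U'' : S.Opens) (hU'' : IsAffineOpen U'') (hr : U'' = S.basicOpen r) (hle : U'' ≤ i.1.1)
    (O : P.Opens) (hOi : O ≤ VF p chart i) (y'' : ProjectiveSpectrum (𝒮.deg U'' hU''))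
    (hy'' : (RelProj.emb p chart U'' hU'') y'' ∈ O) :
    GrTwist.val (V := RelProj.emb p chart U'' hU'' ⁻¹ᵁ O)
        ((lam U'' hU'').app O (res L hOi (eF p chart k L lam hL pp qq h i))) ⟨y'', hy''⟩ =
      zv y'' (𝒮.res i.1.2 hU'' hle i.2.1)
        (res_not_mem p chart hP i r U'' hU'' hr hle y'' (hOi hy'')) pp qq := by
  obtain ⟨hb1, e1⟩ := val_lam_res p chart k L lam hL hP i.1.1 i.1.2 r U'' hU'' hr hle (VF p chart i)
    (eF p chart k L lam hL pp qq h i) (i.2.1 ^ pp) (i.2.1 ^ qq)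
    (fun y hh => not_mem_of_mem_VF p chart i y.1 y.2 (y.1.isPrime.mem_of_pow_mem _ hh))
    (val_eF p chart k L lam hL pp qq h i) O hOi y'' hy''
  rw [e1]
  unfold zv
  rw [Localization.mk_eq_mk_iff, Localization.r_iff_exists]
  refine ⟨1, ?_⟩
  simp only [map_pow]

include hL in
/-- the transition function between two frames, read valuewise in a common basic chart. -/
theorem res_eF_eq_smul_iff (hP : RelProj.IsRelProj 𝒮 p chart) (i j : Idx 𝒮) (r : Γ(S, i.1.1))
    (r' : Γ(S, j.1.1)) (U'' : S.Opens) (hU'' : IsAffineOpen U'') (hr : U'' = S.basicOpen r)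
    (hr' : U'' = S.basicOpen r') (hle : U'' ≤ i.1.1) (hle' : U'' ≤ j.1.1)
    (O : P.Opens) (hOi : O ≤ VF p chart i) (hOj : O ≤ VF p chart j) (hOU : O ≤ p ⁻¹ᵁ U'')
    (c : Γ(P, O)) :
    res L hOi (eF p chart k L lam hL pp qq h i) = c • res L hOj (eF p chart k L lam hL pp qq h j) ↔
      ∀ (y'' : ProjectiveSpectrum (𝒮.deg U'' hU'')) (hy'' : (RelProj.emb p chart U'' hU'') y'' ∈ O),
        zv y'' (𝒮.res i.1.2 hU'' hle i.2.1)
          (res_not_mem p chart hP i r U'' hU'' hr hle y'' (hOi hy'')) pp qq =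
        (Groth.Agent.Lib.Helper2GrModSect.funVal (𝒮.deg U'' hU'') _
          ((RelProj.emb p chart U'' hU'').app O c) y'' hy'').val *
        zv y'' (𝒮.res j.1.2 hU'' hle' j.2.1)
          (res_not_mem p chart hP j r' U'' hU'' hr' hle' y'' (hOj hy'')) pp qq := by
  have hval : ∀ (y'' : ProjectiveSpectrum (𝒮.deg U'' hU''))
      (hy'' : (RelProj.emb p chart U'' hU'') y'' ∈ O),
      GrTwist.val (V := RelProj.emb p chart U'' hU'' ⁻¹ᵁ O)
        ((lam U'' hU'').app O (c • res L hOj (eF p chart k L lam hL pp qq h j))) ⟨y'', hy''⟩ =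
      (Groth.Agent.Lib.Helper2GrModSect.funVal (𝒮.deg U'' hU'') _
          ((RelProj.emb p chart U'' hU'').app O c) y'' hy'').val *
        zv y'' (𝒮.res j.1.2 hU'' hle' j.2.1)
          (res_not_mem p chart hP j r' U'' hU'' hr' hle' y'' (hOj hy'')) pp qq := by
    intro y'' hy''
    rw [← val_lam_res_eF p chart k L lam hL pp qq h hP j r' U'' hU'' hr' hle' O hOj y'' hy'']
    rw [Scheme.Modules.Hom.app_smul, pushforward_smul]
    rfl
  constructor
  · intro H y'' hy''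
    rw [← hval y'' hy'', ← val_lam_res_eF p chart k L lam hL pp qq h hP i r U'' hU'' hr hle O hOi y'' hy'',
      H]
  · intro H
    apply (hL.bijective U'' hU'' O hOU).1
    apply twist_ext
    intro y''
    rw [val_lam_res_eF p chart k L lam hL pp qq h hP i r U'' hU'' hr hle O hOi y''.1 y''.2]
    exact (H y''.1 y''.2).trans (hval y''.1 y''.2).symm

end transition

theorem zv_mul {A σ : Type u} [CommRing A] [SetLike σ A] [AddSubgroupClass σ A] {𝒜 : ℕ → σ}
    [GradedRing 𝒜] (y : ProjectiveSpectrum 𝒜) (t : A) (ht : t ∉ y.asHomogeneousIdeal)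
    (a b a' b' a'' b'' : ℕ) (h : a + a' + b'' = b + b' + a'') :
    zv y t ht a b * zv y t ht a' b' = zv y t ht a'' b'' :=
  Groth.Agent.Lib.Helper2GrModSect.zmul ht a b a' b' a'' b'' h

theorem resf_mul' {X : Scheme.{u}} {U V : X.Opens} (h : V ≤ U) (r r' : Γ(X, U)) :
    resf h (r * r') = resf h r * resf h r' := map_mul _ _ _

/-- **`O_P(m) ⊗ O_P(n) ≅ O_P(m + n)`** on a relative Proj generated in degree one. -/
theorem nonempty_tensor_iso (hP : RelProj.IsRelProj 𝒮 p chart) (hgen : 𝒮.IsGenDegOne) (m n : ℤ)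
    (L : P.Modules)
    (lam : ∀ (U : S.Opens) (hU : IsAffineOpen U),
      L ⟶ (Scheme.Modules.pushforward (RelProj.emb p chart U hU)).obj (GrTwist.twist (𝒮.deg U hU) m))
    (hL : RelProj.IsRelTwist 𝒮 p chart m L lam) (L' : P.Modules)
    (lam' : ∀ (U : S.Opens) (hU : IsAffineOpen U),
      L' ⟶ (Scheme.Modules.pushforward (RelProj.emb p chart U hU)).obj (GrTwist.twist (𝒮.deg U hU) n))
    (hL' : RelProj.IsRelTwist 𝒮 p chart n L' lam') (L'' : P.Modules)
    (lam'' : ∀ (U : S.Opens) (hU : IsAffineOpen U),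
      L'' ⟶ (Scheme.Modules.pushforward (RelProj.emb p chart U hU)).obj
        (GrTwist.twist (𝒮.deg U hU) (m + n)))
    (hL'' : RelProj.IsRelTwist 𝒮 p chart (m + n) L'' lam'') :
    Nonempty (CohB1.tensorMod L L' ≅ L'') := by
  have hm : ((m.toNat : ℕ) : ℤ) = ((-m).toNat : ℕ) + m := by omega
  have hn : ((n.toNat : ℕ) : ℤ) = ((-n).toNat : ℕ) + n := by omega
  have hmn : (((m + n).toNat : ℕ) : ℤ) = ((-(m + n)).toNat : ℕ) + (m + n) := by omega
  have hpq : m.toNat + n.toNat + (-(m + n)).toNat = (-m).toNat + (-n).toNat + (m + n).toNat := by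
    omega
  generalize m.toNat = a at hm hpq
  generalize (-m).toNat = b at hm hpq
  generalize n.toNat = a' at hn hpq
  generalize (-n).toNat = b' at hn hpq
  generalize (m + n).toNat = a'' at hmn hpq
  generalize (-(m + n)).toNat = b'' at hmn hpq
  obtain ⟨Φ, -⟩ := exists_iso_of_frames (CohB1.tensorMod L L') L'' (VF p chart)
    (exists_mem_VF p chart hgen)
    (fun i => tm _ _ _ (eF p chart m L lam hL a b hm i) (eF p chart n L' lam' hL' a' b' hn i))
    (fun i => eF p chart (m + n) L'' lam'' hL'' a'' b'' hmn i)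
    (fun i => isGen_tm _ _ _ _ _ (isGen_eF p chart m L lam hL a b hm i)
      (isGen_eF p chart n L' lam' hL' a' b' hn i))
    (fun i => isGen_eF p chart (m + n) L'' lam'' hL'' a'' b'' hmn i)
    (by
      intro i j g H
      obtain ⟨gm, hgm⟩ := (isGen_eF p chart m L lam hL a b hm j _ inf_le_right).2
        (res L inf_le_left (eF p chart m L lam hL a b hm i))
      obtain ⟨gn, hgn⟩ := (isGen_eF p chart n L' lam' hL' a' b' hn j _ inf_le_right).2
        (res L' inf_le_left (eF p chart n L' lam' hL' a' b' hn i))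
      have hgm' := hgm
      have hgn' := hgn
      simp only at hgm' hgn'
      have H2 : (gm * gn) • res (CohB1.tensorMod L L') inf_le_right
          (tm _ _ _ (eF p chart m L lam hL a b hm j) (eF p chart n L' lam' hL' a' b' hn j)) =
          res (CohB1.tensorMod L L') inf_le_left
          (tm _ _ _ (eF p chart m L lam hL a b hm i) (eF p chart n L' lam' hL' a' b' hn i)) := by
        rw [res_tm, res_tm, ← hgm', ← hgn', tm_smul_left, tm_smul_right, smul_smul]
      have hg : g = gm * gn :=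
        (isGen_tm _ _ _ _ _ (isGen_eF p chart m L lam hL a b hm j)
          (isGen_eF p chart n L' lam' hL' a' b' hn j) _ inf_le_right).1 (H.symm.trans H2.symm)
      subst hg
      have key : ∀ x : (VF p chart i ⊓ VF p chart j : P.Opens), ∃ (O : P.Opens)
          (hO : O ≤ VF p chart i ⊓ VF p chart j), x.1 ∈ O ∧
          res L'' hO (res L'' inf_le_left (eF p chart (m + n) L'' lam'' hL'' a'' b'' hmn i)) =
          res L'' hO ((gm * gn) • res L'' inf_le_right
            (eF p chart (m + n) L'' lam'' hL'' a'' b'' hmn j)) := by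
        intro x
        obtain ⟨r, r', hrr', hx⟩ := exists_basicOpen_le_affine_inter i.1.2 j.1.2 (p x.1)
          ⟨VF_le p chart i x.2.1, VF_le p chart j x.2.2⟩
        have hle' : S.basicOpen r ≤ j.1.1 := hrr' ▸ S.basicOpen_le r'
        refine ⟨(VF p chart i ⊓ VF p chart j) ⊓ p ⁻¹ᵁ (S.basicOpen r), inf_le_left, ⟨x.2, hx⟩, ?_⟩
        rw [res_res, res_smul, res_res]
        rw [res_eF_eq_smul_iff p chart (m + n) L'' lam'' hL'' a'' b'' hmn hP i j r r' (S.basicOpen r)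
          (i.1.2.basicOpen r) rfl hrr' (S.basicOpen_le r) hle' _ _ _ inf_le_right]
        intro y'' hy''
        have e1 := congrArg (res L (inf_le_left : (VF p chart i ⊓ VF p chart j) ⊓
          p ⁻¹ᵁ (S.basicOpen r) ≤ VF p chart i ⊓ VF p chart j)) hgm'
        rw [res_smul, res_res, res_res] at e1
        have e2 := congrArg (res L' (inf_le_left : (VF p chart i ⊓ VF p chart j) ⊓
          p ⁻¹ᵁ (S.basicOpen r) ≤ VF p chart i ⊓ VF p chart j)) hgn'
        rw [res_smul, res_res, res_res] at e2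
        have v1 := (res_eF_eq_smul_iff p chart m L lam hL a b hm hP i j r r' (S.basicOpen r)
          (i.1.2.basicOpen r) rfl hrr' (S.basicOpen_le r) hle' _ _ _ inf_le_right _).mp e1.symm y'' hy''
        have v2 := (res_eF_eq_smul_iff p chart n L' lam' hL' a' b' hn hP i j r r' (S.basicOpen r)
          (i.1.2.basicOpen r) rfl hrr' (S.basicOpen_le r) hle' _ _ _ inf_le_right _).mp e2.symm y'' hy''
        rw [resf_mul', map_mul, Groth.Agent.Lib.Helper2GrModSect.funVal_mul,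
          HomogeneousLocalization.val_mul, ← zv_mul _ _ _ a b a' b' a'' b'' hpq,
          ← zv_mul _ _ _ a b a' b' a'' b'' hpq, v1, v2]
        ring
      choose O hO hxO hres using key
      refine (modSheaf L'').eq_of_locally_eq' O _ (fun x => homOfLE (hO x)) ?_ _ _ hres
      intro x hx'
      exact Opens.mem_iSup.mpr ⟨⟨x, hx'⟩, hxO _⟩)
  exact ⟨Φ⟩

end Groth.Agent.Lib.Helper2.RelTwistTensor
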