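import Mathlib
import Groth.Prelude.Def_RelProj3
import Groth.Agent.Lib.Helper18BaseFun
import Groth.Agent.Lib.Helper2RelTwistTensor
import Groth.Agent.Lib.Helper13ModAffine

/-!
# The canonical map `E ⟶ p_* O_{P}(1)` of a relative Proj (helper18)

For a quasi-coherent graded algebra `𝒮` with a module map `j : E ⟶ 𝒮` landing in degree one, a relative Proj
`p : P ⟶ Y` of `𝒮` and its `O_P(1)`: the map `canMap : E ⟶ p_* O_P(1)` whose value on a section `e` over an affine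
open `U`, read in the chart `Proj 𝒮(U)`, is `j(e) / 1` at every point (`canMap_val`).
-/

set_option autoImplicit false
universe u
open CategoryTheory CategoryTheory.Limits AlgebraicGeometry TopologicalSpace Opposite

namespace Groth.Agent.Helper18CanMap

open Groth.Agent.Lib.Helper2.RelTildeQCoh Groth.Agent.Lib.Helper23.SecTw Groth.Agent.Lib.Helper6
  Groth.Agent.Lib.Helper2.RelTwistGen Groth.Agent.Lib.Helper2.RelTwistTriv RelProj
  Groth.Agent.Lib.Helper2GrModSect Groth.Agent.Lib.Helper2.RelTwistTensor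
open Scheme.AffineZariskiSite

variable {Y P : Scheme.{u}} (E : Y.Modules)
  (𝒮 : RelProj.QCGrAlg Y) (j : E ⟶ 𝒮.toModule)
  (hj1 : ∀ (U : Y.Opens) (hU : IsAffineOpen U) (x : Γ(E, U)), (j.app U) x ∈ 𝒮.deg U hU 1)
  (p : P ⟶ Y)
  (chart : ∀ (U : Y.Opens) (hU : IsAffineOpen U), ((p ⁻¹ᵁ U : P.Opens) : Scheme.{u}) ≅ Proj (𝒮.deg U hU))
  (hP : RelProj.IsRelProj 𝒮 p chart)
  (O1 : P.Modules)
  (lam : ∀ (U : Y.Opens) (hU : IsAffineOpen U),
    O1 ⟶ (Scheme.Modules.pushforward (RelProj.emb p chart U hU)).obj (GrTwist.twist (𝒮.deg U hU) 1))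
  (hO1 : RelProj.IsRelTwist 𝒮 p chart 1 O1 lam)

theorem h10 : ((1 : ℕ) : ℤ) = ((0 : ℕ) : ℤ) + 1 := by simp

/-- `j(e)` as an element of the ring `𝒮(U)`. -/
noncomputable abbrev jel (U : Y.Opens) (e : Γ(E, U)) : 𝒮.presheaf.obj (op U) := (j.app U) e

/-- the section `j(e) / 1` of `O(1)` over the chart. -/
noncomputable def jsec (U : Y.Opens) (hU : IsAffineOpen U) (e : Γ(E, U)) :
    Γ(GrTwist.twist (𝒮.deg U hU) 1, (RelProj.emb p chart U hU) ⁻¹ᵁ (p ⁻¹ᵁ U)) :=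
  fracSec (𝒮.deg U hU) 1 _ (hj1 U hU e) (SetLike.GradedOne.one_mem : (1 : 𝒮.presheaf.obj (op U)) ∈ 𝒮.deg U hU 0)
    h10 (fun y => GrMod.one_nin y.1)

theorem val_jsec (U : Y.Opens) (hU : IsAffineOpen U) (e : Γ(E, U))
    (y : ↥((RelProj.emb p chart U hU) ⁻¹ᵁ (p ⁻¹ᵁ U))) :
    GrTwist.val (jsec E 𝒮 j hj1 p chart U hU e) y =
      (Localization.mk (jel E 𝒮 j U e) (⟨1, GrMod.one_nin y.1⟩ : y.1.asHomogeneousIdeal.toIdeal.primeCompl) :
        GrTwist.Loc (𝒮.deg U hU) y.1) := rfl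

include hO1 in
theorem exists_dsec (U : Y.Opens) (hU : IsAffineOpen U) (e : Γ(E, U)) :
    ∃ s : Γ(O1, p ⁻¹ᵁ U), (lam U hU).app (p ⁻¹ᵁ U) s = jsec E 𝒮 j hj1 p chart U hU e :=
  (hO1.bijective U hU _ le_rfl).2 (jsec E 𝒮 j hj1 p chart U hU e)

/-- the section of `O_P(1)` over `p⁻¹(U)` attached to a section of `E` over `U`. -/
noncomputable def dsec (U : Y.Opens) (hU : IsAffineOpen U) (e : Γ(E, U)) : Γ(O1, p ⁻¹ᵁ U) :=
  (exists_dsec E 𝒮 j hj1 p chart O1 lam hO1 U hU e).choose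

theorem lam_dsec (U : Y.Opens) (hU : IsAffineOpen U) (e : Γ(E, U)) :
    (lam U hU).app (p ⁻¹ᵁ U) (dsec E 𝒮 j hj1 p chart O1 lam hO1 U hU e) = jsec E 𝒮 j hj1 p chart U hU e :=
  (exists_dsec E 𝒮 j hj1 p chart O1 lam hO1 U hU e).choose_spec

theorem val_dsec (U : Y.Opens) (hU : IsAffineOpen U) (e : Γ(E, U))
    (y : ↥((RelProj.emb p chart U hU) ⁻¹ᵁ (p ⁻¹ᵁ U))) :
    GrTwist.val (V := RelProj.emb p chart U hU ⁻¹ᵁ (p ⁻¹ᵁ U))
        ((lam U hU).app (p ⁻¹ᵁ U) (dsec E 𝒮 j hj1 p chart O1 lam hO1 U hU e)) y =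
      (Localization.mk (jel E 𝒮 j U e) (⟨1, GrMod.one_nin y.1⟩ : y.1.asHomogeneousIdeal.toIdeal.primeCompl) :
        GrTwist.Loc (𝒮.deg U hU) y.1) := by
  have h := lam_dsec E 𝒮 j hj1 p chart O1 lam hO1 U hU e
  rw [h]
  rfl

include hO1 in
/-- sections of `O_P(1)` over an open of `p⁻¹(U)` are determined by their values in the chart over `U`. -/
theorem sec_ext_val (U : Y.Opens) (hU : IsAffineOpen U) (W : P.Opens) (hW : W ≤ p ⁻¹ᵁ U) (s s' : Γ(O1, W))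
    (h : ∀ y : ↥((RelProj.emb p chart U hU) ⁻¹ᵁ W),
      GrTwist.val (V := RelProj.emb p chart U hU ⁻¹ᵁ W) ((lam U hU).app W s) y =
        GrTwist.val (V := RelProj.emb p chart U hU ⁻¹ᵁ W) ((lam U hU).app W s') y) : s = s' := by
  apply (hO1.bijective U hU W hW).1
  exact twist_ext _ _ _ _ h

theorem dsec_add (U : Y.Opens) (hU : IsAffineOpen U) (e e' : Γ(E, U)) :
    dsec E 𝒮 j hj1 p chart O1 lam hO1 U hU (e + e') =
      dsec E 𝒮 j hj1 p chart O1 lam hO1 U hU e + dsec E 𝒮 j hj1 p chart O1 lam hO1 U hU e' := by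
  refine sec_ext_val 𝒮 p chart O1 lam hO1 U hU _ le_rfl _ _ fun y => ?_
  rw [val_dsec, map_add]
  refine Eq.trans ?_ (congrArg₂ (· + ·) (val_dsec E 𝒮 j hj1 p chart O1 lam hO1 U hU e y).symm
    (val_dsec E 𝒮 j hj1 p chart O1 lam hO1 U hU e' y).symm)
  rw [Localization.add_mk_self]
  congr 1
  exact map_add (j.app U).hom e e'

/-- `dsec` as a morphism of abelian groups into the sections of the direct image. -/
noncomputable def dHom (U : Y.Opens) (hU : IsAffineOpen U) :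
    Γ(E, U) ⟶ Γ((Scheme.Modules.pushforward p).obj O1, U) :=
  AddCommGrpCat.ofHom
    { toFun := fun e => dsec E 𝒮 j hj1 p chart O1 lam hO1 U hU e
      map_zero' := by
        have h := dsec_add E 𝒮 j hj1 p chart O1 lam hO1 U hU 0 0
        rw [add_zero] at h
        exact left_eq_add.mp h
      map_add' := dsec_add E 𝒮 j hj1 p chart O1 lam hO1 U hU }

theorem dHom_apply (U : Y.Opens) (hU : IsAffineOpen U) (e : Γ(E, U)) :
    dHom E 𝒮 j hj1 p chart O1 lam hO1 U hU e = dsec E 𝒮 j hj1 p chart O1 lam hO1 U hU e := rfl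

theorem mk_congr' {R : Type*} [CommRing R] (M : Submonoid R) {a a' b b' : R} (hb : b ∈ M) (hb' : b' ∈ M)
    (ha : a = a') (hbb : b = b') :
    Localization.mk a ⟨b, hb⟩ = Localization.mk a' ⟨b', hb'⟩ := by
  subst ha; subst hbb; rfl

theorem jel_res {U V : Y.Opens} (h : V ≤ U) (e : Γ(E, U)) :
    jel E 𝒮 j V (E.presheaf.map (homOfLE h).op e) = (𝒮.presheaf.map (homOfLE h).op).hom (jel E 𝒮 j U e) :=
  CategoryTheory.congr_fun (j.mapPresheaf.naturality (homOfLE h).op) e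

include hP in
theorem dsec_res {U V : Y.AffineZariskiSite} (i : V ⟶ U) (e : Γ(E, U.1)) :
    dsec E 𝒮 j hj1 p chart O1 lam hO1 V.1 V.2 (E.presheaf.map (homOfLE (toOpens_mono i.le)).op e) =
      O1.presheaf.map (homOfLE (p.preimage_mono (toOpens_mono i.le))).op
        (dsec E 𝒮 j hj1 p chart O1 lam hO1 U.1 U.2 e) := by
  obtain ⟨r, hr⟩ := i.le
  refine sec_ext_val 𝒮 p chart O1 lam hO1 V.1 V.2 _ le_rfl _ _ fun y => ?_
  rw [val_dsec]
  obtain ⟨hb'', h2⟩ := val_lam_res p chart 1 O1 lam hO1 hP U.1 U.2 r V.1 V.2 hr.symm (toOpens_mono i.le)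
    (p ⁻¹ᵁ U.1) (dsec E 𝒮 j hj1 p chart O1 lam hO1 U.1 U.2 e) (jel E 𝒮 j U.1 e) 1
    (fun y' => GrMod.one_nin y'.1) (fun y' => val_dsec E 𝒮 j hj1 p chart O1 lam hO1 U.1 U.2 e y')
    (p ⁻¹ᵁ V.1) (p.preimage_mono (toOpens_mono i.le)) y.1 y.2
  refine Eq.trans ?_ h2.symm
  exact mk_congr' _ _ _ (jel_res E 𝒮 j _ e) (map_one _).symm

theorem jel_smul (U : Y.Opens) (a : Γ(Y, U)) (e : Γ(E, U)) :
    jel E 𝒮 j U (a • e) = (𝒮.str.app (op U)).hom a * jel E 𝒮 j U e :=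
  j.app_smul a e

include hP in
theorem dsec_smul (U : Y.Opens) (hU : IsAffineOpen U) (a : Γ(Y, U)) (e : Γ(E, U)) :
    dsec E 𝒮 j hj1 p chart O1 lam hO1 U hU (a • e) =
      (p.app U a) • dsec E 𝒮 j hj1 p chart O1 lam hO1 U hU e := by
  refine sec_ext_val 𝒮 p chart O1 lam hO1 U hU _ le_rfl _ _ fun y => ?_
  rw [val_dsec]
  have hsm : GrTwist.val (V := RelProj.emb p chart U hU ⁻¹ᵁ (p ⁻¹ᵁ U))
      ((lam U hU).app (p ⁻¹ᵁ U) ((p.app U a) • dsec E 𝒮 j hj1 p chart O1 lam hO1 U hU e)) y =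
      (funVal (𝒮.deg U hU) _ ((RelProj.emb p chart U hU).app (p ⁻¹ᵁ U) (p.app U a)) y.1 y.2).val *
        GrTwist.val (V := RelProj.emb p chart U hU ⁻¹ᵁ (p ⁻¹ᵁ U))
          ((lam U hU).app (p ⁻¹ᵁ U) (dsec E 𝒮 j hj1 p chart O1 lam hO1 U hU e)) y := by
    rw [Scheme.Modules.Hom.app_smul, Groth.Agent.Lib.Helper2.Push.pushforward_smul]
    rfl
  rw [hsm, val_dsec, Groth.Agent.Helper18BaseFun.funVal_emb_app hP U hU a y.1 y.2,
    ← Localization.mk_one_eq_algebraMap, Localization.mk_mul]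
  exact mk_congr' _ _ _ (jel_smul E 𝒮 j U a e) (one_mul 1).symm

include hP in
theorem dHom_nat {U V : Y.AffineZariskiSite} (i : V ⟶ U) :
    E.presheaf.map (homOfLE (toOpens_mono i.le)).op ≫ dHom E 𝒮 j hj1 p chart O1 lam hO1 V.1 V.2 =
      dHom E 𝒮 j hj1 p chart O1 lam hO1 U.1 U.2 ≫
        ((Scheme.Modules.pushforward p).obj O1).presheaf.map (homOfLE (toOpens_mono i.le)).op := by
  ext e
  exact dsec_res E 𝒮 j hj1 p chart hP O1 lam hO1 i e

include hP in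
theorem dHom_lin (U : Y.Opens) (hU : IsAffineOpen U) (a : Γ(Y, U)) (m : Γ(E, U)) :
    dHom E 𝒮 j hj1 p chart O1 lam hO1 U hU (a • m) = a • dHom E 𝒮 j hj1 p chart O1 lam hO1 U hU m :=
  dsec_smul E 𝒮 j hj1 p chart hP O1 lam hO1 U hU a m

/-- **the canonical map `E ⟶ p_* O_P(1)`**. -/
noncomputable def canMap : E ⟶ (Scheme.Modules.pushforward p).obj O1 :=
  Groth.Agent.Helper13ModAffine.homOfAffine (dHom E 𝒮 j hj1 p chart O1 lam hO1)
    (fun {_ _} i => dHom_nat E 𝒮 j hj1 p chart hP O1 lam hO1 i)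
    (dHom_lin E 𝒮 j hj1 p chart hP O1 lam hO1)

theorem canMap_app (U : Y.Opens) (hU : IsAffineOpen U) (e : Γ(E, U)) :
    (canMap E 𝒮 j hj1 p chart hP O1 lam hO1).app U e = dsec E 𝒮 j hj1 p chart O1 lam hO1 U hU e := by
  have h := Groth.Agent.Helper13ModAffine.homOfAffine_app (dHom E 𝒮 j hj1 p chart O1 lam hO1)
    (fun {_ _} i => dHom_nat E 𝒮 j hj1 p chart hP O1 lam hO1 i)
    (dHom_lin E 𝒮 j hj1 p chart hP O1 lam hO1) U hU
  exact congrArg (fun φ => φ e) h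

/-- the characterising property of the canonical map: its values in the charts are `j(e) / 1`. -/
theorem canMap_val (U : Y.Opens) (hU : IsAffineOpen U) (e : Γ(E, U))
    (y : ↥(RelProj.emb p chart U hU ⁻¹ᵁ (p ⁻¹ᵁ U))) :
    GrTwist.val (V := RelProj.emb p chart U hU ⁻¹ᵁ (p ⁻¹ᵁ U))
        ((lam U hU).app (p ⁻¹ᵁ U) (((canMap E 𝒮 j hj1 p chart hP O1 lam hO1).app U) e)) y =
      algebraMap (𝒮.presheaf.obj (op U)) (GrTwist.Loc (𝒮.deg U hU) y.1)
        ((j.app U) e : 𝒮.presheaf.obj (op U)) := by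
  rw [canMap_app E 𝒮 j hj1 p chart hP O1 lam hO1 U hU e, val_dsec, ← Localization.mk_one_eq_algebraMap]
  rfl

end Groth.Agent.Helper18CanMap
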