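import Mathlib
import Groth.Prelude.Def_ClSub2
import Groth.Prelude.Def_BlowUp2
import Groth.Agent.Lib.Helper18UnitsSeq
import Groth.Agent.Lib.Helper12EffCartier
import Groth.Agent.Lib.Helper2RelTildeQCoh

set_option autoImplicit false
set_option linter.style.haveILetI false
set_option linter.unusedSectionVars false
set_option linter.unusedVariables false
universe u
open CategoryTheory CategoryTheory.Limits AlgebraicGeometry TopologicalSpace Opposite

namespace Groth.Agent.Helper18CartEq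

open Groth.Agent.Helper18OmLS Groth.Agent.Helper18UnitsSeq

/-- in an integral algebra over a field, a nonzerodivisor is a unit. -/
lemma isUnit_of_isIntegral_of_mem_nonZeroDivisors {K S : Type*} [Field K] [CommRing S]
    (φ : K →+* S) (hφ : φ.IsIntegral) {u : S} (hu : u ∈ nonZeroDivisors S) : IsUnit u := by
  algebraize [φ]
  have hint : IsIntegral K u := hφ u
  let A : Subalgebra K S := Algebra.adjoin K {u}
  have hfin : Module.Finite K A :=
    Module.Finite.iff_fg.mpr hint.fg_adjoin_singleton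
  haveI : IsArtinianRing A := IsArtinianRing.of_finite K A
  let u' : A := ⟨u, Algebra.self_mem_adjoin_singleton K u⟩
  have hu' : u' ∈ nonZeroDivisors A := by
    rw [mem_nonZeroDivisors_iff_right]
    intro a ha
    have h1 : (a : S) * u = 0 := congrArg Subtype.val ha
    have h2 := (mem_nonZeroDivisors_iff_right.mp hu) _ h1
    exact Subtype.ext h2
  have h3 : IsUnit u' := IsArtinianRing.isUnit_of_mem_nonZeroDivisors hu'
  exact h3.map A.val

section geom
variable {X : Scheme.{u}} (D₁ D₂ : X.IdealSheafData)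
  (e : ClSub.idealMod D₁ ⟶ ClSub.idealMod D₂)

/-- the composite `I₁ → I₂ ⊆ O_X` on sections. -/
noncomputable def psi (V : X.Opens) (s : Γ(ClSub.idealMod D₁, V)) : Γ(X, V) :=
  OmegaSh.idealSect D₂ V (e.app V s)

theorem psi_smul (V : X.Opens) (b : Γ(X, V)) (s : Γ(ClSub.idealMod D₁, V)) :
    psi D₁ D₂ e V (b • s) = b * psi D₁ D₂ e V s := by
  unfold psi
  rw [Scheme.Modules.Hom.app_smul, idealSect_smul]

theorem psi_res {V' V : X.Opens} (h : V' ≤ V) (s : Γ(ClSub.idealMod D₁, V)) :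
    psi D₁ D₂ e V' ((ClSub.idealMod D₁).presheaf.map (homOfLE h).op s) =
      X.presheaf.map (homOfLE h).op (psi D₁ D₂ e V s) := by
  unfold psi
  rw [Groth.Agent.Lib.Helper2.RelTildeQCoh.app_map', idealSect_res]

theorem psi_injective [Mono e] (V : X.Opens) : Function.Injective (psi D₁ D₂ e V) := by
  intro s t hst
  exact Groth.Agent.Lib.Helper20.StalkExact.injective_app_of_mono e V
    (idealSect_injective D₂ V hst)

theorem psi_mem (V : X.affineOpens) (s : Γ(ClSub.idealMod D₁, V.1)) :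
    psi D₁ D₂ e V.1 s ∈ D₂.ideal V := idealSect_mem_ideal D₂ V _

/-- `u` computes `psi` on `V`. -/
def Computes (V : X.Opens) (u : Γ(X, V)) : Prop :=
  ∀ s : Γ(ClSub.idealMod D₁, V), psi D₁ D₂ e V s = u * OmegaSh.idealSect D₁ V s

theorem exists_section_of_mem (V : X.affineOpens) (a : Γ(X, V.1)) (ha : a ∈ D₁.ideal V) :
    ∃ s : Γ(ClSub.idealMod D₁, V.1), OmegaSh.idealSect D₁ V.1 s = a := by
  apply exists_idealSect_eq' D₁ V.1 a
  rw [← D₁.ker_subschemeι_app V, RingHom.mem_ker] at ha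
  exact ha

include e in
theorem exists_computes (hle : D₂ ≤ D₁) (V : X.affineOpens) (f : Γ(X, V.1))
    (hV : D₁.ideal V = Ideal.span {f}) : ∃ u : Γ(X, V.1), Computes D₁ D₂ e V.1 u := by
  obtain ⟨sf, hsf⟩ := exists_section_of_mem D₁ V f (hV ▸ Ideal.mem_span_singleton_self f)
  have h1 : psi D₁ D₂ e V.1 sf ∈ Ideal.span {f} := hV ▸ hle V (psi_mem D₁ D₂ e V sf)
  obtain ⟨u, hu⟩ := Ideal.mem_span_singleton'.mp h1
  refine ⟨u, fun s => ?_⟩
  have h2 : OmegaSh.idealSect D₁ V.1 s ∈ Ideal.span {f} := hV ▸ idealSect_mem_ideal D₁ V s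
  obtain ⟨a, ha⟩ := Ideal.mem_span_singleton'.mp h2
  have h3 : s = a • sf := by
    apply idealSect_injective D₁ V.1
    rw [idealSect_smul, hsf, ha]
  rw [h3, psi_smul, idealSect_smul, hsf, ← hu]
  ring

theorem computes_res (V V' : X.affineOpens) (h : V'.1 ≤ V.1) (f : Γ(X, V.1))
    (hV : D₁.ideal V = Ideal.span {f}) (u : Γ(X, V.1)) (hu : Computes D₁ D₂ e V.1 u) :
    Computes D₁ D₂ e V'.1 (X.presheaf.map (homOfLE h).op u) := by
  obtain ⟨sf, hsf⟩ := exists_section_of_mem D₁ V f (hV ▸ Ideal.mem_span_singleton_self f)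
  have hV' : D₁.ideal V' = Ideal.span {(X.presheaf.map (homOfLE h).op).hom f} := by
    have := D₁.map_ideal (U := V') (V := V) h
    rw [hV, Ideal.map_span, Set.image_singleton] at this
    exact this.symm
  intro s
  have h2 : OmegaSh.idealSect D₁ V'.1 s ∈ Ideal.span {(X.presheaf.map (homOfLE h).op).hom f} :=
    hV' ▸ idealSect_mem_ideal D₁ V' s
  obtain ⟨a, ha⟩ := Ideal.mem_span_singleton'.mp h2
  have h3 : s = a • (ClSub.idealMod D₁).presheaf.map (homOfLE h).op sf := by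
    apply idealSect_injective D₁ V'.1
    rw [idealSect_smul, idealSect_res, hsf]
    exact ha.symm
  rw [h3, psi_smul, idealSect_smul, psi_res, idealSect_res, hu sf, map_mul]
  ring

theorem computes_unique (W : X.affineOpens) (f : Γ(X, W.1)) (hf : f ∈ nonZeroDivisors Γ(X, W.1))
    (hW : D₁.ideal W = Ideal.span {f}) (u u' : Γ(X, W.1)) (hu : Computes D₁ D₂ e W.1 u)
    (hu' : Computes D₁ D₂ e W.1 u') : u = u' := by
  obtain ⟨sf, hsf⟩ := exists_section_of_mem D₁ W f (hW ▸ Ideal.mem_span_singleton_self f)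
  have h1 := (hu sf).symm.trans (hu' sf)
  rw [hsf] at h1
  exact (mul_cancel_right_mem_nonZeroDivisors hf).mp h1

include e in
theorem eq_of_le_of_mono {k : Type u} [Field k] (c : X ⟶ Spec (CommRingCat.of k))
    [UniversallyClosed c] (hD₁ : BlowUp.IsEffCartierIdeal D₁) (hle : D₂ ≤ D₁) [Mono e] :
    D₁ = D₂ := by
  let ι := {V : X.affineOpens // ∃ f : Γ(X, V.1), f ∈ nonZeroDivisors Γ(X, V.1) ∧
    D₁.ideal V = Ideal.span {f}}
  have hcov : ∀ x : X, ∃ i : ι, x ∈ i.1.1 := fun x => by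
    obtain ⟨V, hxV, f, hf, hV⟩ := hD₁ x
    exact ⟨⟨V, f, hf, hV⟩, hxV⟩
  have hex : ∀ i : ι, ∃ u : Γ(X, i.1.1), Computes D₁ D₂ e i.1.1 u := fun i => by
    obtain ⟨f, hf, hV⟩ := i.2
    exact exists_computes D₁ D₂ e hle i.1 f hV
  choose uu huu using hex
  have hcompat : TopCat.Presheaf.IsCompatible X.presheaf (fun i : ι => i.1.1) uu := by
    intro i j
    refine X.IsSheaf.section_ext fun y hy => ?_
    obtain ⟨_, ⟨W, hW, rfl⟩, hyW, hWle⟩ :=
      X.isBasis_affineOpens.exists_subset_of_mem_open hy (i.1.1 ⊓ j.1.1).2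
    refine ⟨W, hWle, hyW, ?_⟩
    obtain ⟨fi, hfi, hVi⟩ := i.2
    obtain ⟨fj, hfj, hVj⟩ := j.2
    have hWi : W ≤ i.1.1 := le_trans hWle inf_le_left
    have hWj : W ≤ j.1.1 := le_trans hWle inf_le_right
    have h1 := computes_res D₁ D₂ e i.1 ⟨W, hW⟩ hWi fi hVi (uu i) (huu i)
    have h2 := computes_res D₁ D₂ e j.1 ⟨W, hW⟩ hWj fj hVj (uu j) (huu j)
    obtain ⟨hnz, hWp⟩ := Groth.Agent.Lib.Helper12.EffCartier.restrict_principal D₁ ⟨W, hW⟩ i.1
      hWi fi hfi hVi
    have h3 := computes_unique D₁ D₂ e ⟨W, hW⟩ _ hnz hWp _ _ h1 h2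
    rw [← ConcreteCategory.comp_apply, ← ConcreteCategory.comp_apply, ← Functor.map_comp,
      ← Functor.map_comp]
    exact h3
  have hcover : (⊤ : X.Opens) ≤ ⨆ i : ι, i.1.1 := fun x _ => by
    obtain ⟨i, hi⟩ := hcov x
    exact Opens.mem_iSup.mpr ⟨i, hi⟩
  obtain ⟨u, hu'⟩ : ∃ u : Γ(X, ⊤),
      ∀ i : ι, X.presheaf.map (homOfLE (le_top : i.1.1 ≤ ⊤)).op u = uu i := by
    obtain ⟨u, hu, -⟩ := X.sheaf.existsUnique_gluing' (fun i : ι => i.1.1) ⊤
      (fun i => homOfLE le_top) hcover uu hcompat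
    exact ⟨u, hu⟩
  have hnzd : u ∈ nonZeroDivisors Γ(X, ⊤) := by
    rw [mem_nonZeroDivisors_iff_right]
    intro v hv
    refine X.IsSheaf.section_ext fun y hy => ?_
    obtain ⟨i, hi⟩ := hcov y
    refine ⟨i.1.1, le_top, hi, ?_⟩
    rw [map_zero]
    obtain ⟨f, hf, hV⟩ := i.2
    obtain ⟨sf, hsf⟩ := exists_section_of_mem D₁ i.1 f (hV ▸ Ideal.mem_span_singleton_self f)
    set v' := X.presheaf.map (homOfLE (le_top : i.1.1 ≤ ⊤)).op v with hv'
    have h1 : v' * uu i = 0 := by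
      rw [← hu' i, hv', ← map_mul, hv, map_zero]
    have h2 : psi D₁ D₂ e i.1.1 (v' • sf) = 0 := by
      rw [psi_smul, huu i sf, ← mul_assoc, h1, zero_mul]
    have h3 : v' • sf = 0 := by
      apply psi_injective D₁ D₂ e i.1.1
      rw [h2]
      unfold psi
      rw [map_zero, map_zero]
    have h4 : v' * f = 0 := by
      rw [← hsf, ← idealSect_smul, h3, map_zero]
    exact (mem_nonZeroDivisors_iff_right.mp hf) _ h4
  have hφ : (((Scheme.ΓSpecIso (CommRingCat.of k)).inv ≫ c.appTop).hom).IsIntegral := by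
    rw [CommRingCat.hom_comp]
    refine RingHom.IsIntegral.trans _ _ (RingHom.isIntegral_of_surjective _ ?_)
      (isIntegral_appTop_of_universallyClosed c)
    exact (ConcreteCategory.bijective_of_isIso (Scheme.ΓSpecIso (CommRingCat.of k)).inv).2
  have hunit : IsUnit u := isUnit_of_isIntegral_of_mem_nonZeroDivisors _ hφ hnzd
  obtain ⟨w, hw⟩ := hunit
  refine le_antisymm ?_ hle
  refine Scheme.IdealSheafData.le_of_iSup_eq_top (fun i : ι => i.1)
    (top_le_iff.mp hcover) fun i a ha => ?_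
  obtain ⟨s, hs⟩ := exists_section_of_mem D₁ i.1 a ha
  set b := X.presheaf.map (homOfLE (le_top : i.1.1 ≤ ⊤)).op ((↑w⁻¹ : Γ(X, ⊤))) with hb
  have h1 : b * uu i = 1 := by
    rw [← hu' i, hb, ← map_mul, ← hw, Units.inv_mul, map_one]
  have h2 : psi D₁ D₂ e i.1.1 (b • s) = a := by
    rw [psi_smul, huu i s, hs, ← mul_assoc, h1, one_mul]
  rw [← h2]
  exact psi_mem D₁ D₂ e i.1 _

end geom

end Groth.Agent.Helper18CartEq
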