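import Mathlib
import Groth.Prelude.Def_QuadGrp

set_option autoImplicit false
universe u

namespace Groth.Agent.Lib.Helper18Cl

open QuadraticMap CliffordAlgebra

variable (k : Type u) [CommRing k]

lemma splitForm_three_apply (x : Fin 3 → k) :
    QuadGrp.splitForm k 3 x = x 0 * x 0 + x 1 * x 2 := by
  unfold QuadGrp.splitForm
  rw [dif_pos (by norm_num)]
  simp only [QuadraticMap.add_apply, _root_.QuadraticMap.sum_apply, QuadraticMap.linMulLin_apply,
    LinearMap.proj_apply, QuadraticMap.comp_apply, QuadraticMap.sq_apply]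
  have h : ∀ f : Fin (3 / 2) → k, ∑ i, f i = f ⟨0, by norm_num⟩ := by
    intro f
    exact Fin.sum_univ_succ (n := 0) f |>.trans (by simp)
  rw [h]
  have e1 : (⟨2 * 0 + 3 % 2, by norm_num⟩ : Fin 3) = 1 := rfl
  have e2 : (⟨2 * 0 + 1 + 3 % 2, by norm_num⟩ : Fin 3) = 2 := rfl
  have e0 : (⟨0, by norm_num⟩ : Fin 3) = 0 := rfl
  show x ⟨2 * 0 + 3 % 2, _⟩ * x ⟨2 * 0 + 1 + 3 % 2, _⟩ + x ⟨0, _⟩ * x ⟨0, _⟩ = _
  rw [e1, e2, e0]
  ring


/-- the three generators of the Clifford algebra of `x₀² + x₁x₂` -/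
noncomputable def gc : CliffordAlgebra (QuadGrp.splitForm k 3) := ι _ (Pi.single 0 1)
noncomputable def ga : CliffordAlgebra (QuadGrp.splitForm k 3) := ι _ (Pi.single 1 1)
noncomputable def gb : CliffordAlgebra (QuadGrp.splitForm k 3) := ι _ (Pi.single 2 1)

lemma ι_eq (v : Fin 3 → k) :
    ι (QuadGrp.splitForm k 3) v = v 0 • gc k + v 1 • ga k + v 2 • gb k := by
  have hv : v = v 0 • Pi.single 0 1 + v 1 • Pi.single 1 1 + v 2 • Pi.single 2 1 := by
    funext i
    fin_cases i <;> simp
  conv_lhs => rw [hv]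
  simp only [map_add, map_smul, gc, ga, gb]

lemma cc : gc k * gc k = 1 := by
  unfold gc
  rw [ι_sq_scalar, splitForm_three_apply]
  simp

lemma aa : ga k * ga k = 0 := by
  unfold ga
  rw [ι_sq_scalar, splitForm_three_apply]
  simp

lemma bb : gb k * gb k = 0 := by
  unfold gb
  rw [ι_sq_scalar, splitForm_three_apply]
  simp

lemma ba : gb k * ga k = 1 - ga k * gb k := by
  have := ι_mul_ι_add_swap (Q := QuadGrp.splitForm k 3) (Pi.single 1 1) (Pi.single 2 1)
  unfold polar at this
  simp only [splitForm_three_apply] at this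
  have h2 : ga k * gb k + gb k * ga k = 1 := by
    unfold ga gb
    rw [this]
    simp
  rw [← h2]; abel

lemma ac : ga k * gc k = -(gc k * ga k) := by
  have := ι_mul_ι_add_swap (Q := QuadGrp.splitForm k 3) (Pi.single 1 1) (Pi.single 0 1)
  unfold polar at this
  simp only [splitForm_three_apply] at this
  have h2 : ga k * gc k + gc k * ga k = 0 := by
    unfold ga gc
    rw [this]
    simp
  exact eq_neg_of_add_eq_zero_left h2

lemma bc : gb k * gc k = -(gc k * gb k) := by
  have := ι_mul_ι_add_swap (Q := QuadGrp.splitForm k 3) (Pi.single 2 1) (Pi.single 0 1)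
  unfold polar at this
  simp only [splitForm_three_apply] at this
  have h2 : gb k * gc k + gc k * gb k = 0 := by
    unfold gb gc
    rw [this]
    simp
  exact eq_neg_of_add_eq_zero_left h2

variable {k}
-- extended (right-associated) rewriting rules
lemma cc' (x : CliffordAlgebra (QuadGrp.splitForm k 3)) : gc k * (gc k * x) = x := by
  rw [← mul_assoc, cc, one_mul]
lemma aa' (x : CliffordAlgebra (QuadGrp.splitForm k 3)) : ga k * (ga k * x) = 0 := by
  rw [← mul_assoc, aa, zero_mul]
lemma bb' (x : CliffordAlgebra (QuadGrp.splitForm k 3)) : gb k * (gb k * x) = 0 := by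
  rw [← mul_assoc, bb, zero_mul]
lemma ba' (x : CliffordAlgebra (QuadGrp.splitForm k 3)) :
    gb k * (ga k * x) = x - ga k * (gb k * x) := by
  rw [← mul_assoc, ba, sub_mul, one_mul, mul_assoc]
lemma ac' (x : CliffordAlgebra (QuadGrp.splitForm k 3)) :
    ga k * (gc k * x) = -(gc k * (ga k * x)) := by
  rw [← mul_assoc, ac, neg_mul, mul_assoc]
lemma bc' (x : CliffordAlgebra (QuadGrp.splitForm k 3)) :
    gb k * (gc k * x) = -(gc k * (gb k * x)) := by
  rw [← mul_assoc, bc, neg_mul, mul_assoc]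

end Groth.Agent.Lib.Helper18Cl
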