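import Mathlib
import Groth.Agent.Lib.Helper18Cl1

set_option autoImplicit false
universe u

namespace Groth.Agent.Lib.Helper18Cl

open QuadraticMap CliffordAlgebra

variable {k : Type u} [CommRing k]

local notation "C3" => CliffordAlgebra (QuadGrp.splitForm k 3)

/-- even normal form -/
def IsE (x : C3) : Prop :=
  ∃ α β γ δ : k, x = α • (1 : C3) + β • (gc k * ga k) + γ • (gc k * gb k) + δ • (ga k * gb k)

/-- odd normal form -/
def IsO (x : C3) : Prop :=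
  ∃ α β γ δ : k, x = α • gc k + β • ga k + γ • gb k + δ • (gc k * (ga k * gb k))

macro "cl_norm" : tactic => `(tactic|
  simp only [mul_assoc, cc, aa, bb, ba, ac, bc, cc', aa', bb', ba', ac', bc', mul_add, add_mul,
    mul_sub, sub_mul, mul_neg, neg_mul, neg_neg, smul_mul_assoc, mul_smul_comm, mul_one, one_mul,
    mul_zero, zero_mul, smul_zero, sub_zero, zero_sub, add_zero, zero_add, smul_add, smul_sub,
    smul_neg, smul_smul, neg_zero])

lemma IsE.add {x y : C3} (hx : IsE x) (hy : IsE y) : IsE (x + y) := by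
  obtain ⟨α, β, γ, δ, rfl⟩ := hx
  obtain ⟨α', β', γ', δ', rfl⟩ := hy
  exact ⟨α + α', β + β', γ + γ', δ + δ', by module⟩

lemma IsO.add {x y : C3} (hx : IsO x) (hy : IsO y) : IsO (x + y) := by
  obtain ⟨α, β, γ, δ, rfl⟩ := hx
  obtain ⟨α', β', γ', δ', rfl⟩ := hy
  exact ⟨α + α', β + β', γ + γ', δ + δ', by module⟩

lemma IsE.smul {x : C3} (r : k) (hx : IsE x) : IsE (r • x) := by
  obtain ⟨α, β, γ, δ, rfl⟩ := hx
  exact ⟨r * α, r * β, r * γ, r * δ, by module⟩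

lemma IsO.smul {x : C3} (r : k) (hx : IsO x) : IsO (r • x) := by
  obtain ⟨α, β, γ, δ, rfl⟩ := hx
  exact ⟨r * α, r * β, r * γ, r * δ, by module⟩

lemma IsE.c_mul {x : C3} (hx : IsE x) : IsO (gc k * x) := by
  obtain ⟨α, β, γ, δ, rfl⟩ := hx
  refine ⟨α, β, γ, δ, ?_⟩
  cl_norm

lemma IsE.a_mul {x : C3} (hx : IsE x) : IsO (ga k * x) := by
  obtain ⟨α, β, γ, δ, rfl⟩ := hx
  refine ⟨0, α, 0, -γ, ?_⟩
  cl_norm
  module

lemma IsE.b_mul {x : C3} (hx : IsE x) : IsO (gb k * x) := by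
  obtain ⟨α, β, γ, δ, rfl⟩ := hx
  refine ⟨-β, 0, α + δ, β, ?_⟩
  cl_norm
  module

lemma IsO.c_mul {x : C3} (hx : IsO x) : IsE (gc k * x) := by
  obtain ⟨α, β, γ, δ, rfl⟩ := hx
  refine ⟨α, β, γ, δ, ?_⟩
  cl_norm

lemma IsO.a_mul {x : C3} (hx : IsO x) : IsE (ga k * x) := by
  obtain ⟨α, β, γ, δ, rfl⟩ := hx
  refine ⟨0, -α, 0, γ, ?_⟩
  cl_norm
  module

lemma IsO.b_mul {x : C3} (hx : IsO x) : IsE (gb k * x) := by
  obtain ⟨α, β, γ, δ, rfl⟩ := hx
  refine ⟨β, 0, -(α + δ), -β, ?_⟩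
  cl_norm
  module

lemma IsE.ι_mul {x : C3} (hx : IsE x) (v : Fin 3 → k) : IsO (ι (QuadGrp.splitForm k 3) v * x) := by
  rw [ι_eq, add_mul, add_mul, smul_mul_assoc, smul_mul_assoc, smul_mul_assoc]
  exact ((hx.c_mul.smul _).add (hx.a_mul.smul _)).add (hx.b_mul.smul _)

lemma IsO.ι_mul {x : C3} (hx : IsO x) (v : Fin 3 → k) : IsE (ι (QuadGrp.splitForm k 3) v * x) := by
  rw [ι_eq, add_mul, add_mul, smul_mul_assoc, smul_mul_assoc, smul_mul_assoc]
  exact ((hx.c_mul.smul _).add (hx.a_mul.smul _)).add (hx.b_mul.smul _)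

theorem isE_of_even (x : C3) (hx : x ∈ evenOdd (QuadGrp.splitForm k 3) 0) : IsE x := by
  induction x, hx using CliffordAlgebra.even_induction with
  | algebraMap r => exact ⟨r, 0, 0, 0, by rw [Algebra.algebraMap_eq_smul_one]; module⟩
  | add x y hx hy ihx ihy => exact ihx.add ihy
  | ι_mul_ι_mul m₁ m₂ x hx ih =>
    rw [mul_assoc]
    exact (ih.ι_mul m₂).ι_mul m₁

end Groth.Agent.Lib.Helper18Cl
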