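import Mathlib
import Groth.Agent.Lib.Helper18Cl2

set_option autoImplicit false
universe u

namespace Groth.Agent.Lib.Helper18Cl

open QuadraticMap CliffordAlgebra

variable {k : Type u} [CommRing k]

local notation "C3" => CliffordAlgebra (QuadGrp.splitForm k 3)

/-- the even element with coordinates `(α, β, γ, δ)` -/
noncomputable def ev (α β γ δ : k) : C3 :=
  α • (1 : C3) + β • (gc k * ga k) + γ • (gc k * gb k) + δ • (ga k * gb k)

/-- its conjugate -/
noncomputable def evbar (α β γ δ : k) : C3 := ev (α + δ) (-β) (-γ) (-δ)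

lemma ev_mul_evbar (α β γ δ : k) :
    ev α β γ δ * evbar α β γ δ = (α * α + α * δ + β * γ) • (1 : C3) := by
  unfold evbar ev
  cl_norm
  module

lemma evbar_mul_ev (α β γ δ : k) :
    evbar α β γ δ * ev α β γ δ = (α * α + α * δ + β * γ) • (1 : C3) := by
  unfold evbar ev
  cl_norm
  module

lemma ev_c_evbar (α β γ δ : k) :
    ev α β γ δ * gc k * evbar α β γ δ =
      (α * α + α * δ - β * γ) • gc k + (-(2 * β * (α + δ))) • ga k + (-(2 * α * γ)) • gb k := by
  unfold evbar ev
  cl_norm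
  module

lemma ev_a_evbar (α β γ δ : k) :
    ev α β γ δ * ga k * evbar α β γ δ =
      (γ * (α + δ)) • gc k + ((α + δ) * (α + δ)) • ga k + (-(γ * γ)) • gb k := by
  unfold evbar ev
  cl_norm
  module

lemma ev_b_evbar (α β γ δ : k) :
    ev α β γ δ * gb k * evbar α β γ δ =
      (α * β) • gc k + (-(β * β)) • ga k + (α * α) • gb k := by
  unfold evbar ev
  cl_norm
  module

lemma ev_ι_evbar (α β γ δ : k) (v : Fin 3 → k) :
    ∃ v' : Fin 3 → k, ev α β γ δ * ι (QuadGrp.splitForm k 3) v * evbar α β γ δ =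
      ι (QuadGrp.splitForm k 3) v' := by
  refine ⟨![v 0 * (α * α + α * δ - β * γ) + v 1 * (γ * (α + δ)) + v 2 * (α * β),
    v 0 * (-(2 * β * (α + δ))) + v 1 * ((α + δ) * (α + δ)) + v 2 * (-(β * β)),
    v 0 * (-(2 * α * γ)) + v 1 * (-(γ * γ)) + v 2 * (α * α)], ?_⟩
  rw [ι_eq, ι_eq]
  simp only [mul_add, add_mul, smul_mul_assoc, mul_smul_comm, ev_c_evbar, ev_a_evbar, ev_b_evbar]
  simp only [Matrix.cons_val_zero, Matrix.cons_val_one, Matrix.cons_val_two, Matrix.head_cons,
    Matrix.tail_cons, Matrix.cons_val]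
  module

end Groth.Agent.Lib.Helper18Cl
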