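import Mathlib
import Groth.Agent.Lib.Helper18Cl3

set_option autoImplicit false
universe u

namespace Groth.Agent.Lib.Helper18Cl

open QuadraticMap CliffordAlgebra

variable {k : Type u} [CommRing k]

local notation "C3" => CliffordAlgebra (QuadGrp.splitForm k 3)

/-- the linear map into 2×2 matrices defining the matrix model -/
noncomputable def fmat : (Fin 3 → k) →ₗ[k] Matrix (Fin 2) (Fin 2) k where
  toFun v := !![v 0, v 1; v 2, -v 0]
  map_add' v w := by
    ext i j; fin_cases i <;> fin_cases j <;> simp [add_comm]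
  map_smul' r v := by
    ext i j; fin_cases i <;> fin_cases j <;> simp

lemma fmat_sq (v : Fin 3 → k) :
    fmat v * fmat v = algebraMap k _ (QuadGrp.splitForm k 3 v) := by
  rw [splitForm_three_apply]
  ext i j
  fin_cases i <;> fin_cases j <;>
    simp [fmat, Matrix.mul_apply, Fin.sum_univ_two, Matrix.algebraMap_matrix_apply] <;> ring

/-- the matrix model of the Clifford algebra -/
noncomputable def φmat : C3 →ₐ[k] Matrix (Fin 2) (Fin 2) k :=
  CliffordAlgebra.lift (QuadGrp.splitForm k 3) ⟨fmat, fmat_sq⟩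

lemma φmat_ev (α β γ δ : k) : φmat (ev α β γ δ) = !![α + δ, β; -γ, α] := by
  unfold ev gc ga gb φmat
  simp only [map_add, map_smul, map_mul, map_one, CliffordAlgebra.lift_ι_apply]
  ext i j
  fin_cases i <;> fin_cases j <;>
    simp [fmat, Matrix.mul_apply, Fin.sum_univ_two, Matrix.one_apply]

lemma isUnit_norm_of_isUnit_ev (α β γ δ : k) (h : IsUnit (ev α β γ δ)) :
    IsUnit (α * α + α * δ + β * γ) := by
  have h1 : IsUnit (φmat (ev α β γ δ)) := h.map φmat
  rw [φmat_ev, Matrix.isUnit_iff_isUnit_det, Matrix.det_fin_two_of] at h1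
  have : (α + δ) * α - β * -γ = α * α + α * δ + β * γ := by ring
  rwa [this] at h1

theorem conj_ι_mem (u : C3ˣ) (hu : (u : C3) ∈ evenOdd (QuadGrp.splitForm k 3) 0) (v : Fin 3 → k) :
    ∃ v' : Fin 3 → k, (u : C3) * ι (QuadGrp.splitForm k 3) v * (↑u⁻¹ : C3) =
      ι (QuadGrp.splitForm k 3) v' := by
  obtain ⟨α, β, γ, δ, hu'⟩ := isE_of_even _ hu
  change (u : C3) = ev α β γ δ at hu'
  have hν := isUnit_norm_of_isUnit_ev α β γ δ (hu' ▸ u.isUnit)
  obtain ⟨ν, hν'⟩ := hν
  have hinv : (↑u⁻¹ : C3) = (↑ν⁻¹ : k) • evbar α β γ δ := by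
    apply Units.inv_eq_of_mul_eq_one_right
    rw [hu', mul_smul_comm, ev_mul_evbar, ← hν', smul_smul, Units.inv_mul, one_smul]
  obtain ⟨v', hv'⟩ := ev_ι_evbar α β γ δ v
  refine ⟨(↑ν⁻¹ : k) • v', ?_⟩
  rw [hinv, hu', mul_smul_comm, hv', map_smul]

end Groth.Agent.Lib.Helper18Cl
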