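import Mathlib
set_option linter.style.haveILetI false

universe u
open TensorProduct

namespace Groth.Agent.Helper18Colim

section
variable {ι : Type*} [Preorder ι] [IsDirected ι (· ≤ ·)] [Nonempty ι]
  (G : ι → Type*) [∀ i, CommRing (G i)] (f : ∀ i j, i ≤ j → (G i →+* G j))
  (A : Type*) [CommRing A] (g : ∀ i, G i →+* A)

include f in
/-- A ring map from a polynomial ring over `ℤ` into a directed colimit factors through a stage,
killing any prescribed finite set of elements of its kernel. -/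
theorem exists_factor_mvPolynomial
    (hg : ∀ i j (h : i ≤ j), (g j).comp (f i j h) = g i)
    (hsurj : ∀ a : A, ∃ i, ∃ x : G i, g i x = a)
    (hker : ∀ i (x : G i), g i x = 0 → ∃ j, ∃ h : i ≤ j, f i j h x = 0)
    {n : ℕ} (χ : MvPolynomial (Fin n) ℤ →+* A) (S : Finset (MvPolynomial (Fin n) ℤ))
    (hS : ∀ s ∈ S, χ s = 0) :
    ∃ (j : ι) (θ : MvPolynomial (Fin n) ℤ →+* G j), (g j).comp θ = χ ∧ ∀ s ∈ S, θ s = 0 := by
  classical
  induction S using Finset.induction_on with
  | empty =>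
    choose i0 y hy using fun k : Fin n => hsurj (χ (MvPolynomial.X k))
    obtain ⟨i, hi⟩ := Finite.exists_le i0
    let z : Fin n → G i := fun k => f (i0 k) i (hi k) (y k)
    have hz : ∀ k, g i (z k) = χ (MvPolynomial.X k) := fun k => by
      have := congrArg (fun φ : G (i0 k) →+* A => φ (y k)) (hg (i0 k) i (hi k))
      simpa [z, hy k] using this
    refine ⟨i, MvPolynomial.eval₂Hom (Int.castRingHom (G i)) z, ?_, by simp⟩
    apply MvPolynomial.ringHom_ext
    · intro r
      simp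
    · intro k
      simp [hz k]
  | insert s S hs ih =>
    obtain ⟨j, θ, hθ, hθS⟩ := ih (fun t ht => hS t (Finset.mem_insert_of_mem ht))
    have h0 : g j (θ s) = 0 := by
      have := congrArg (fun φ : MvPolynomial (Fin n) ℤ →+* A => φ s) hθ
      simpa [hS s (Finset.mem_insert_self s S)] using this
    obtain ⟨j', hjj', hj'⟩ := hker j (θ s) h0
    refine ⟨j', (f j j' hjj').comp θ, ?_, ?_⟩
    · rw [← RingHom.comp_assoc, hg, hθ]
    · intro t ht
      rcases Finset.mem_insert.mp ht with rfl | ht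
      · simpa using hj'
      · simp [hθS t ht]

include f in
/-- A ring map from a finitely presented `ℤ`-algebra into a directed colimit factors through a
stage. -/
theorem exists_factor_of_finitePresentation
    (hg : ∀ i j (h : i ≤ j), (g j).comp (f i j h) = g i)
    (hsurj : ∀ a : A, ∃ i, ∃ x : G i, g i x = a)
    (hker : ∀ i (x : G i), g i x = 0 → ∃ j, ∃ h : i ≤ j, f i j h x = 0)
    (A₀ : Type*) [CommRing A₀] [Algebra.FinitePresentation ℤ A₀] (φ : A₀ →+* A) :
    ∃ (j : ι) (h : A₀ →+* G j), (g j).comp h = φ := by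
  classical
  obtain ⟨n, ψ, hψ, hfg⟩ := Algebra.FinitePresentation.out (R := ℤ) (A := A₀)
  obtain ⟨S, hS⟩ := hfg
  have hSker : ∀ s ∈ S, (φ.comp ψ.toRingHom) s = 0 := by
    intro s hs
    have : s ∈ RingHom.ker ψ.toRingHom := hS ▸ Ideal.subset_span hs
    rw [RingHom.comp_apply, RingHom.mem_ker.mp this, map_zero]
  obtain ⟨j, θ, hθ, hθS⟩ := exists_factor_mvPolynomial G f A g hg hsurj hker
    (φ.comp ψ.toRingHom) S hSker
  have hle : RingHom.ker ψ.toRingHom ≤ RingHom.ker θ := by
    rw [← hS, Ideal.span_le]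
    intro s hs
    exact RingHom.mem_ker.mpr (hθS s hs)
  let h : A₀ →+* G j := RingHom.liftOfSurjective ψ.toRingHom hψ ⟨θ, hle⟩
  have hh : h.comp ψ.toRingHom = θ := RingHom.liftOfSurjective_comp ψ.toRingHom hψ ⟨θ, hle⟩
  refine ⟨j, h, ?_⟩
  apply RingHom.ext
  intro x
  obtain ⟨y, rfl⟩ := hψ x
  have h1 : (g j) (h (ψ.toRingHom y)) = (g j) (θ y) := by
    rw [← hh]; rfl
  have h2 := congrArg (fun χ : MvPolynomial (Fin n) ℤ →+* A => χ y) hθ
  simp only [RingHom.comp_apply] at h2
  exact h1.trans h2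

end

theorem main {ι : Type u} [Preorder ι] [IsDirected ι (· ≤ ·)] [Nonempty ι]
    (G : ι → Type u) [∀ i, CommRing (G i)] (f : ∀ i j, i ≤ j → (G i →+* G j))
    (A : Type u) [CommRing A] (g : ∀ i, G i →+* A) (hg : ∀ i j (h : i ≤ j), (g j).comp (f i j h) = g i)
    (hsurj : ∀ a : A, ∃ i, ∃ x : G i, g i x = a)
    (hker : ∀ i (x : G i), g i x = 0 → ∃ j, ∃ h : i ≤ j, f i j h x = 0)
    (B : Type u) [CommRing B] [Algebra A B] [Algebra.Etale A B] :
    ∃ (i : ι) (Bi : Type u) (_ : CommRing Bi) (_ : Algebra (G i) Bi), Algebra.Etale (G i) Bi ∧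
      letI : Algebra (G i) A := (g i).toAlgebra
      Nonempty (B ≃ₐ[A] A ⊗[G i] Bi) := by
  obtain ⟨A₀, B₀, _, _, hfg, het, ⟨e⟩⟩ := Algebra.Etale.exists_subalgebra_fg ℤ A B
  haveI : Algebra.FiniteType ℤ A₀ := (Subalgebra.fg_iff_finiteType A₀).mp hfg
  haveI : Algebra.FinitePresentation ℤ A₀ := Algebra.FinitePresentation.of_finiteType.mp inferInstance
  obtain ⟨j, h, hh⟩ := exists_factor_of_finitePresentation G f A g hg hsurj hker A₀ A₀.val.toRingHom
  letI : Algebra A₀ (G j) := h.toAlgebra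
  letI : Algebra (G j) A := (g j).toAlgebra
  haveI : IsScalarTower A₀ (G j) A := .of_algebraMap_eq fun x => by
    have := congrArg (fun χ : A₀ →+* A => χ x) hh
    exact this.symm
  refine ⟨j, G j ⊗[A₀] B₀, inferInstance, inferInstance, inferInstance, ?_⟩
  exact ⟨e.trans (Algebra.TensorProduct.cancelBaseChange A₀ (G j) A A B₀).symm⟩

end Groth.Agent.Helper18Colim
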