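import Mathlib
import Groth.Agent.Lib.Helper18ColimSys2

set_option autoImplicit false
set_option linter.style.haveILetI false
set_option linter.unusedSectionVars false
universe u

namespace Groth.Agent.Lib.Helper18ColimSys3
open TensorProduct Groth.Agent.Lib.Helper18ColimSys Groth.Agent.Lib.Helper18ColimSys2

section SM

variable {R : Type*} [CommRing R] {P C : Type*} [CommRing P] [Algebra R P] [CommRing C]
  [Algebra R C] (π : P →ₐ[R] C) (hπ : Function.Surjective π)

include hπ in
/-- from a section datum to formal smoothness -/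
theorem formallySmooth_of_section [Algebra.FormallySmooth R P] (S : Type*) [CommRing S]
    [Algebra R S]
    (σ : C →ₐ[R] S ⊗[R] (P ⧸ RingHom.ker π.toRingHom ^ 2))
    (hσ : ∀ c, Algebra.TensorProduct.map (AlgHom.id R S) π.kerSquareLift (σ c) = 1 ⊗ₜ c) :
    Algebra.FormallySmooth S (S ⊗[R] C) := by
  let fS : S ⊗[R] P →ₐ[S] S ⊗[R] C := Algebra.TensorProduct.map (AlgHom.id S S) π
  have hfS : ∀ y p, fS (y ⊗ₜ p) = y ⊗ₜ π p := fun y p => by simp [fS]
  let K : Ideal (S ⊗[R] P) := RingHom.ker fS.toRingHom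
  have hIK : (RingHom.ker π.toRingHom).map
      (Algebra.TensorProduct.includeRight : P →ₐ[R] S ⊗[R] P) ≤ K := by
    rw [Ideal.map_le_iff_le_comap]
    intro p hp
    change fS (1 ⊗ₜ p) = 0
    rw [hfS]
    have : π p = 0 := hp
    rw [this, tmul_zero]
  let θ₀ : (P ⧸ RingHom.ker π.toRingHom ^ 2) →ₐ[R] (S ⊗[R] P) ⧸ K ^ 2 :=
    Ideal.Quotient.liftₐ (RingHom.ker π.toRingHom ^ 2)
      ((Ideal.Quotient.mkₐ R (K ^ 2)).comp
        (Algebra.TensorProduct.includeRight : P →ₐ[R] S ⊗[R] P)) (by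
      intro p hp
      simp only [AlgHom.comp_apply, Ideal.Quotient.mkₐ_eq_mk]
      rw [Ideal.Quotient.eq_zero_iff_mem]
      have h1 := Ideal.mem_map_of_mem
        (Algebra.TensorProduct.includeRight : P →ₐ[R] S ⊗[R] P) hp
      rw [Ideal.map_pow] at h1
      exact Ideal.pow_right_mono hIK 2 h1)
  have hθ₀ : ∀ p, θ₀ (Ideal.Quotient.mk _ p) = Ideal.Quotient.mk (K ^ 2) (1 ⊗ₜ p) := fun _ => rfl
  let θ : S ⊗[R] (P ⧸ RingHom.ker π.toRingHom ^ 2) →ₐ[S] (S ⊗[R] P) ⧸ K ^ 2 :=
    Algebra.TensorProduct.lift (Algebra.ofId S _) θ₀ (fun _ _ => Commute.all _ _)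
  let σ' : S ⊗[R] C →ₐ[S] S ⊗[R] (P ⧸ RingHom.ker π.toRingHom ^ 2) :=
    Algebra.TensorProduct.lift (Algebra.ofId S _) σ (fun _ _ => Commute.all _ _)
  have hksl : ∀ q, fS.kerSquareLift (Ideal.Quotient.mk (K ^ 2) q) = fS q := fun _ => rfl
  have hksl' : ∀ q, π.kerSquareLift (Ideal.Quotient.mk _ q) = π q := fun _ => rfl
  have hθ : ∀ e', fS.kerSquareLift (θ e') =
      Algebra.TensorProduct.map (AlgHom.id R S) π.kerSquareLift e' := by
    intro e'
    induction e' using TensorProduct.induction_on with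
    | zero => rw [map_zero, map_zero, map_zero]
    | add x y hx hy => simp only [map_add, hx, hy]
    | tmul y e =>
      obtain ⟨p, rfl⟩ := Ideal.Quotient.mk_surjective e
      simp only [θ, Algebra.TensorProduct.lift_tmul, Algebra.ofId_apply, map_mul, hθ₀,
        Algebra.TensorProduct.map_tmul, AlgHom.coe_id, id_eq]
      rw [← Ideal.Quotient.mk_algebraMap, Algebra.TensorProduct.algebraMap_apply, hksl, hksl,
        hfS, hfS, hksl']
      simp
  refine Algebra.FormallySmooth.of_split fS (θ.comp σ') ?_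
  apply Algebra.TensorProduct.ext'
  intro x c
  simp only [AlgHom.comp_apply, AlgHom.coe_id, id_eq]
  rw [hθ]
  simp only [σ', Algebra.TensorProduct.lift_tmul, Algebra.ofId_apply, map_mul, hσ,
    Algebra.TensorProduct.algebraMap_apply, Algebra.algebraMap_self, RingHom.id_apply,
    Algebra.TensorProduct.map_tmul, AlgHom.coe_id, id_eq, map_one,
    Algebra.TensorProduct.tmul_mul_tmul, mul_one, one_mul]

include hπ in
/-- from formal smoothness to a section datum -/
theorem exists_section_of_formallySmooth (S : Type*) [CommRing S] [Algebra R S]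
    [Algebra.FormallySmooth S (S ⊗[R] C)] :
    ∃ σ : C →ₐ[R] S ⊗[R] (P ⧸ RingHom.ker π.toRingHom ^ 2),
      ∀ c, Algebra.TensorProduct.map (AlgHom.id R S) π.kerSquareLift (σ c) = 1 ⊗ₜ c := by
  let F : S ⊗[R] (P ⧸ RingHom.ker π.toRingHom ^ 2) →ₐ[S] S ⊗[R] C :=
    Algebra.TensorProduct.map (AlgHom.id S S) π.kerSquareLift
  have hsurjπ : Function.Surjective π.kerSquareLift :=
    Ideal.Quotient.lift_surjective_of_surjective _ _ hπ
  have hF : Function.Surjective F :=
    Algebra.TensorProduct.map_surjective _ _ Function.surjective_id hsurjπ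
  have hker : RingHom.ker (F : S ⊗[R] (P ⧸ RingHom.ker π.toRingHom ^ 2) →+* S ⊗[R] C) =
      RingHom.ker (Algebra.TensorProduct.map (AlgHom.id R S) π.kerSquareLift) := by
    ext x
    simp only [RingHom.mem_ker]
    rfl
  have hnil : IsNilpotent (RingHom.ker (F : S ⊗[R] (P ⧸ RingHom.ker π.toRingHom ^ 2) →+* S ⊗[R] C)) := by
    refine ⟨2, ?_⟩
    rw [hker, Algebra.TensorProduct.lTensor_ker _ hsurjπ, ← Ideal.map_pow]
    have : RingHom.ker π.kerSquareLift ^ 2 = ⊥ := by
      have := AlgHom.ker_kerSquareLift π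
      change RingHom.ker π.kerSquareLift.toRingHom ^ 2 = ⊥
      rw [this, Ideal.cotangentIdeal_square]
    rw [this, Ideal.map_bot]
    rfl
  let σ' : S ⊗[R] C →ₐ[S] S ⊗[R] (P ⧸ RingHom.ker π.toRingHom ^ 2) :=
    Algebra.FormallySmooth.liftOfSurjective (AlgHom.id S (S ⊗[R] C)) F hF hnil
  have hσ' : ∀ x, F (σ' x) = x :=
    Algebra.FormallySmooth.liftOfSurjective_apply (AlgHom.id S (S ⊗[R] C)) F hF hnil
  refine ⟨(σ'.restrictScalars R).comp Algebra.TensorProduct.includeRight, fun c => ?_⟩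
  exact hσ' (1 ⊗ₜ c)

end SM


section Core
variable {R : Type u} [CommRing R] {ι : Type u} {G : ι → Type u} [∀ i, CommRing (G i)]
    [∀ i, Algebra R (G i)] {A : Type u} [CommRing A] [Algebra R A] {g : ∀ i, G i →ₐ[R] A}

theorem comm_sq {S S' E C : Type*} [CommRing S] [Algebra R S] [CommRing S'] [Algebra R S']
    [CommRing E] [Algebra R E] [CommRing C] [Algebra R C] (φ : S →ₐ[R] S') (p : E →ₐ[R] C)
    (z : S ⊗[R] E) :
    Algebra.TensorProduct.map φ (AlgHom.id R C) (Algebra.TensorProduct.map (AlgHom.id R S) p z) =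
      Algebra.TensorProduct.map (AlgHom.id R S') p
        (Algebra.TensorProduct.map φ (AlgHom.id R E) z) := by
  rw [← AlgHom.comp_apply, ← AlgHom.comp_apply, ← Algebra.TensorProduct.map_comp,
    ← Algebra.TensorProduct.map_comp]
  simp only [AlgHom.comp_id, AlgHom.id_comp]

theorem core_smooth (hS : Sys R G A g) (C : Type u) [CommRing C] [Algebra R C]
    [Algebra.FinitePresentation R C] (h : Algebra.FormallySmooth A (A ⊗[R] C)) :
    ∃ i, ∀ j (_ : G i →ₐ[R] G j), Algebra.FormallySmooth (G j) (G j ⊗[R] C) := by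
  classical
  haveI : Algebra.FiniteType R C := Algebra.FiniteType.of_finitePresentation
  obtain ⟨s, hs⟩ := (Algebra.FiniteType.out : (⊤ : Subalgebra R C).FG)
  obtain ⟨n, π, hπ, -⟩ := Algebra.FinitePresentation.out (R := R) (A := C)
  obtain ⟨σA, hσA⟩ := exists_section_of_formallySmooth π hπ A
  have hSE := hS.tensorRight (MvPolynomial (Fin n) R ⧸ RingHom.ker π.toRingHom ^ 2)
  obtain ⟨j, σj, hσj⟩ := hSE.lift_algHom C σA
  obtain ⟨l, ψ, hψ, hk⟩ := hS.alg_kill C j
    (s.image fun c =>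
      Algebra.TensorProduct.map (AlgHom.id R (G j)) π.kerSquareLift (σj c) - 1 ⊗ₜ c) (by
    intro z hz
    obtain ⟨c, -, rfl⟩ := Finset.mem_image.mp hz
    rw [map_sub, comm_sq, ← AlgHom.comp_apply _ σj, hσj, hσA]
    simp)
  refine ⟨l, fun j' φ => ?_⟩
  let σ' : C →ₐ[R] G j' ⊗[R] (MvPolynomial (Fin n) R ⧸ RingHom.ker π.toRingHom ^ 2) :=
    (Algebra.TensorProduct.map (φ.comp ψ) (AlgHom.id R _)).comp σj
  apply formallySmooth_of_section π hπ (G j') σ'
  have key : ((Algebra.TensorProduct.map (AlgHom.id R (G j')) π.kerSquareLift).comp σ') =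
      Algebra.TensorProduct.includeRight := by
    apply AlgHom.ext_of_adjoin_eq_top hs
    intro c hc
    have h1 := hk _ (Finset.mem_image_of_mem _ hc)
    rw [map_sub, sub_eq_zero] at h1
    simp only [AlgHom.comp_apply, σ', Algebra.TensorProduct.includeRight_apply]
    rw [← comm_sq]
    have h2 : Algebra.TensorProduct.map (φ.comp ψ) (AlgHom.id R C) =
        (Algebra.TensorProduct.map φ (AlgHom.id R C)).comp
          (Algebra.TensorProduct.map ψ (AlgHom.id R C)) := by
      rw [← Algebra.TensorProduct.map_comp, AlgHom.comp_id]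
    rw [h2, AlgHom.comp_apply, h1]
    simp
  intro c
  exact congr($key c)

theorem core_etale (hS : Sys R G A g) (C : Type u) [CommRing C] [Algebra R C]
    [Algebra.FinitePresentation R C] (h : Algebra.Etale A (A ⊗[R] C)) :
    ∃ i, Algebra.Etale (G i) (G i ⊗[R] C) := by
  haveI : Algebra.FiniteType R C := Algebra.FiniteType.of_finitePresentation
  have hfe := h.formallyEtale
  rw [Algebra.FormallyEtale.iff_formallyUnramified_and_formallySmooth] at hfe
  obtain ⟨i₁, h₁⟩ := core_unramified hS C hfe.1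
  obtain ⟨i₂, h₂⟩ := core_smooth hS C hfe.2
  obtain ⟨l, φ, ψ, -, -⟩ := hS.dir i₁ i₂
  refine ⟨l, ?_⟩
  have := h₁ l φ
  have := h₂ l ψ
  exact { formallyEtale := Algebra.FormallyEtale.iff_formallyUnramified_and_formallySmooth.mpr
            ⟨inferInstance, inferInstance⟩ }

theorem core_smooth' (hS : Sys R G A g) (C : Type u) [CommRing C] [Algebra R C]
    [Algebra.FinitePresentation R C] (h : Algebra.Smooth A (A ⊗[R] C)) :
    ∃ i, Algebra.Smooth (G i) (G i ⊗[R] C) := by
  obtain ⟨i, hi⟩ := core_smooth hS C h.formallySmooth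
  have := hi i (AlgHom.id R _)
  exact ⟨i, {}⟩

end Core

end Groth.Agent.Lib.Helper18ColimSys3
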