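import Mathlib

set_option autoImplicit false
set_option linter.style.haveILetI false

namespace Groth.Agent.Helper18Cosheaf

open CategoryTheory CategoryTheory.Limits

universe v u w

variable {C : Type u} [Category.{v} C] [HasPullbacks C] (W : MorphismProperty C)
  [W.IsStableUnderBaseChange] [W.IsStableUnderComposition]
  (D : ObjectProperty C) (hD : ∀ X : C, ∃ (Y : C) (π : Y ⟶ X), W π ∧ D Y)

/-- abelian cosheaves. -/
def IsCosheaf (F : C ⥤ AddCommGrpCat.{w}) : Prop :=
  ∀ ⦃Y X : C⦄ (π : Y ⟶ X), W π → Function.Surjective (F.map π).hom ∧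
    (F.map π).hom.ker = ((F.map (pullback.fst π π)).hom - (F.map (pullback.snd π π)).hom).range

include hD in
theorem faithful_aux (F G : C ⥤ AddCommGrpCat.{w}) (hF : IsCosheaf W F) (α β : F ⟶ G)
    (h : Functor.whiskerLeft D.ι α = Functor.whiskerLeft D.ι β) : α = β := by
  ext X x
  obtain ⟨Y, π, hπW, hπD⟩ := hD X
  obtain ⟨y, rfl⟩ := (hF π hπW).1 x
  have h1 : α.app Y = β.app Y := congrArg (fun t => t.app ⟨Y, hπD⟩) h
  have h2 := congrArg (fun t => t.hom y) (α.naturality π)
  have h3 := congrArg (fun t => t.hom y) (β.naturality π)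
  simp only [AddCommGrpCat.hom_comp, AddMonoidHom.coe_comp, Function.comp_apply] at h2 h3
  rw [h2, h3, h1]

include hD in
theorem full_aux (F G : C ⥤ AddCommGrpCat.{w}) (hF : IsCosheaf W F)
    (γ : D.ι ⋙ F ⟶ D.ι ⋙ G) : ∃ α : F ⟶ G, Functor.whiskerLeft D.ι α = γ := by
  have hD' := hD
  choose Y π hπW hπD using hD
  let Yd : C → D.FullSubcategory := fun X => ⟨Y X, hπD X⟩
  -- naturality of γ elementwise
  have hγ : ∀ (A B : D.FullSubcategory) (u : A.obj ⟶ B.obj) (z : F.obj A.obj),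
      (γ.app B).hom ((F.map u).hom z) = (G.map u).hom ((γ.app A).hom z) := by
    intro A B u z
    have := congrArg (fun t => t.hom z) (γ.naturality (ObjectProperty.homMk u : A ⟶ B))
    simpa using this
  -- key: well-definedness for a pair of maps from an object of D
  have hkey : ∀ (X : C) (T : C) (hT : D T) (a b : T ⟶ Y X), a ≫ π X = b ≫ π X →
      ∀ t : F.obj T, (G.map (π X)).hom ((γ.app (Yd X)).hom ((F.map a).hom t)) =
        (G.map (π X)).hom ((γ.app (Yd X)).hom ((F.map b).hom t)) := by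
    intro X T hT a b hab t
    rw [hγ ⟨T, hT⟩ (Yd X) a t, hγ ⟨T, hT⟩ (Yd X) b t]
    have h1 : ∀ (c : T ⟶ Y X) (g : G.obj T), (G.map (π X)).hom ((G.map c).hom g) =
        (G.map (c ≫ π X)).hom g := by
      intro c g; rw [G.map_comp]; rfl
    rw [h1, h1, hab]
  let φ : ∀ X, F.obj (Y X) →+ G.obj X := fun X => (γ.app (Yd X) ≫ G.map (π X)).hom
  have hφapp : ∀ X y, φ X y = (G.map (π X)).hom ((γ.app (Yd X)).hom y) := fun X y => rfl
  have hφ : ∀ X, (F.map (π X)).hom.ker ≤ (φ X).ker := by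
    intro X y hy
    rw [(hF (π X) (hπW X)).2] at hy
    obtain ⟨w, rfl⟩ := hy
    obtain ⟨Z, ρ, hρW, hρD⟩ := hD' (pullback (π X) (π X))
    obtain ⟨z, rfl⟩ := (hF ρ hρW).1 w
    rw [AddMonoidHom.mem_ker, AddMonoidHom.sub_apply, map_sub, sub_eq_zero, hφapp, hφapp]
    have e1 : (F.map (pullback.fst (π X) (π X))).hom ((F.map ρ).hom z) =
        (F.map (ρ ≫ pullback.fst (π X) (π X))).hom z := by rw [F.map_comp]; rfl
    have e2 : (F.map (pullback.snd (π X) (π X))).hom ((F.map ρ).hom z) =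
        (F.map (ρ ≫ pullback.snd (π X) (π X))).hom z := by rw [F.map_comp]; rfl
    rw [e1, e2]
    exact hkey X Z hρD _ _ (by rw [Category.assoc, Category.assoc, pullback.condition]) z
  let a : ∀ X, F.obj X →+ G.obj X := fun X =>
    (F.map (π X)).hom.liftOfSurjective (hF (π X) (hπW X)).1 ⟨φ X, hφ X⟩
  have ha : ∀ X y, a X ((F.map (π X)).hom y) = φ X y := fun X y =>
    AddMonoidHom.liftOfRightInverse_comp_apply _ _ _ ⟨φ X, hφ X⟩ y
  -- general formula: for any T ∈ D and c : T → X, a X (F c t) = G c (γ_T t)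
  have hgen : ∀ (X : C) (T : C) (hT : D T) (c : T ⟶ X) (t : F.obj T),
      a X ((F.map c).hom t) = (G.map c).hom ((γ.app ⟨T, hT⟩).hom t) := by
    intro X T hT c t
    -- cover of the pullback T ×_X Y X
    obtain ⟨S, σ, hσW, hσD⟩ := hD' (pullback c (π X))
    have hcov : W (σ ≫ pullback.fst c (π X)) :=
      W.comp_mem _ _ hσW (W.of_isPullback (IsPullback.of_hasPullback c (π X)).flip (hπW X))
    obtain ⟨s, rfl⟩ := (hF _ hcov).1 t
    have e1 : (F.map c).hom ((F.map (σ ≫ pullback.fst c (π X))).hom s) =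
        (F.map (π X)).hom ((F.map (σ ≫ pullback.snd c (π X))).hom s) := by
      have : (σ ≫ pullback.fst c (π X)) ≫ c = (σ ≫ pullback.snd c (π X)) ≫ π X := by
        rw [Category.assoc, Category.assoc, pullback.condition]
      have h1 := congrArg (fun u => (F.map u).hom s) this
      simpa [F.map_comp] using h1
    rw [e1, ha, hφapp, hγ ⟨S, hσD⟩ (Yd X) _ s, hγ ⟨S, hσD⟩ ⟨T, hT⟩ _ s]
    have : (σ ≫ pullback.fst c (π X)) ≫ c = (σ ≫ pullback.snd c (π X)) ≫ π X := by
      rw [Category.assoc, Category.assoc, pullback.condition]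
    have h2 := congrArg (fun u => (G.map u).hom ((γ.app ⟨S, hσD⟩).hom s)) this
    simpa [G.map_comp] using h2.symm
  refine ⟨{ app := fun X => AddCommGrpCat.ofHom (a X), naturality := ?_ }, ?_⟩
  · intro X X' f
    ext x
    obtain ⟨y, rfl⟩ := (hF (π X) (hπW X)).1 x
    change a X' ((F.map f).hom ((F.map (π X)).hom y)) = (G.map f).hom (a X ((F.map (π X)).hom y))
    have e1 : (F.map f).hom ((F.map (π X)).hom y) = (F.map (π X ≫ f)).hom y := by
      rw [F.map_comp]; rfl
    rw [e1, hgen X' (Y X) (hπD X) (π X ≫ f) y, hgen X (Y X) (hπD X) (π X) y, G.map_comp]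
    rfl
  · ext A x
    change a A.obj x = (γ.app A).hom x
    have := hgen A.obj A.obj A.property (𝟙 _) x
    simpa using this

include hD in
theorem main :
    (ObjectProperty.ι (fun F : C ⥤ AddCommGrpCat.{w} =>
        ∀ ⦃Y X : C⦄ (π : Y ⟶ X), W π → Function.Surjective (F.map π).hom ∧
          (F.map π).hom.ker = ((F.map (pullback.fst π π)).hom - (F.map (pullback.snd π π)).hom).range) ⋙
      (Functor.whiskeringLeft D.FullSubcategory C AddCommGrpCat.{w}).obj D.ι).Full ∧
    (ObjectProperty.ι (fun F : C ⥤ AddCommGrpCat.{w} =>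
        ∀ ⦃Y X : C⦄ (π : Y ⟶ X), W π → Function.Surjective (F.map π).hom ∧
          (F.map π).hom.ker = ((F.map (pullback.fst π π)).hom - (F.map (pullback.snd π π)).hom).range) ⋙
      (Functor.whiskeringLeft D.FullSubcategory C AddCommGrpCat.{w}).obj D.ι).Faithful := by
  constructor
  · refine ⟨fun {X Y} γ => ?_⟩
    obtain ⟨α, hα⟩ := full_aux W D hD X.obj Y.obj X.property γ
    exact ⟨ObjectProperty.homMk α, hα⟩
  · refine ⟨fun {X Y} α β h => ?_⟩
    apply ObjectProperty.hom_ext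
    exact faithful_aux W D hD X.obj Y.obj X.property α.hom β.hom h

end Groth.Agent.Helper18Cosheaf
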