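import Mathlib
import Groth.Prelude.Def_W4c6equivkfinstabCyc

set_option autoImplicit false
open Polynomial

namespace Groth.Agent.Lib.Helper18Cyc

/-- `Φ_d` divides `∑_{j<m} X^{e j}` when `d = e * m`, `m > 1`. -/
theorem cyclotomic_dvd_geom_sum (R : Type*) [CommRing R] {d e m : ℕ} (hd : d = e * m) (hd0 : d ≠ 0)
    (hm : 1 < m) : cyclotomic d R ∣ ∑ j ∈ Finset.range m, (X ^ e : R[X]) ^ j := by
  have he0 : e ≠ 0 := by rintro rfl; simp at hd; exact hd0 hd
  have hmem : e ∈ d.properDivisors := by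
    rw [Nat.mem_properDivisors]
    refine ⟨⟨m, hd⟩, ?_⟩
    rw [hd]; nlinarith [Nat.pos_of_ne_zero he0]
  obtain ⟨q, hq⟩ := X_pow_sub_one_mul_cyclotomic_dvd_X_pow_sub_one_of_dvd R hmem
  have hmonic : (X ^ e - 1 : R[X]).Monic := monic_X_pow_sub_C 1 he0
  have h1 : (X ^ e - 1 : R[X]) * (∑ j ∈ Finset.range m, (X ^ e : R[X]) ^ j) = X ^ d - 1 := by
    rw [mul_comm, geom_sum_mul, ← pow_mul, ← hd]
  refine ⟨q, ?_⟩
  apply hmonic.isRegular.left
  simp only
  rw [h1, hq, mul_assoc]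

/-- Key lemma: if `Φ_d(ζ) = 0`, `d = e * m` with `m > 1` and `m` invertible then `1 - ζ^e` is a unit. -/
theorem isUnit_one_sub_pow_of_dvd {Λ R : Type*} [CommRing Λ] [CommRing R] [Algebra Λ R] (ζ : R) {d e m : ℕ}
    (hd : d = e * m) (hd0 : d ≠ 0) (hm : 1 < m) (hu : IsUnit (m : R))
    (hζ : aeval ζ (cyclotomic d Λ) = 0) : IsUnit (1 - ζ ^ e) := by
  obtain ⟨q, hq⟩ := cyclotomic_dvd_geom_sum Λ hd hd0 hm
  have h0 : ∑ j ∈ Finset.range m, (ζ ^ e) ^ j = 0 := by
    have := congrArg (aeval ζ) hq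
    simpa [hζ] using this
  have h1 : (m : R) = ∑ j ∈ Finset.range m, (1 - (ζ ^ e) ^ j) := by
    rw [Finset.sum_sub_distrib, h0]; simp
  refine isUnit_of_dvd_unit ?_ hu
  rw [h1]
  exact Finset.dvd_sum fun j _ => one_sub_dvd_one_sub_pow _ _

theorem pow_eq_one_of_cyclotomic {Λ R : Type*} [CommRing Λ] [CommRing R] [Algebra Λ R] (ζ : R) {d : ℕ}
    (hd0 : d ≠ 0) (hζ : aeval ζ (cyclotomic d Λ) = 0) : ζ ^ d = 1 := by
  have h := cyclotomic.dvd_X_pow_sub_one d Λ
  obtain ⟨q, hq⟩ := h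
  have := congrArg (aeval ζ) hq
  simp [hζ] at this
  exact sub_eq_zero.mp this

/-- `1 - ζ^k` is a unit when `Φ_d(ζ) = 0`, `d` invertible, `d ∤ k`. -/
theorem isUnit_one_sub_pow {Λ R : Type*} [CommRing Λ] [CommRing R] [Algebra Λ R] (ζ : R) {d k : ℕ}
    (hd0 : d ≠ 0) (hu : IsUnit (d : R)) (hk : ¬ d ∣ k)
    (hζ : aeval ζ (cyclotomic d Λ) = 0) : IsUnit (1 - ζ ^ k) := by
  set e := Nat.gcd k d with he
  have hed : e ∣ d := Nat.gcd_dvd_right k d
  obtain ⟨m, hm⟩ := hed
  have hlt : e < d := by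
    rcases (Nat.le_of_dvd (Nat.pos_of_ne_zero hd0) (Nat.gcd_dvd_right k d)).lt_or_eq with h | h
    · exact h
    · exact absurd (h ▸ Nat.gcd_dvd_left k d) hk
  have hm1 : 1 < m := by
    by_contra hcon
    have : m = 0 ∨ m = 1 := by omega
    rcases this with rfl | rfl
    · simp at hm; exact hd0 hm
    · simp at hm; omega
  have hum : IsUnit (m : R) := by
    have : (d : R) = (e : R) * (m : R) := by rw [hm]; push_cast; ring
    rw [this] at hu
    exact isUnit_of_mul_isUnit_right hu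
  have h1 := isUnit_one_sub_pow_of_dvd (Λ := Λ) ζ hm hd0 hm1 hum hζ
  obtain ⟨k', -, hk'⟩ := Nat.exists_mul_mod_eq_gcd hlt
  have hpow : ζ ^ d = 1 := pow_eq_one_of_cyclotomic (Λ := Λ) ζ hd0 hζ
  have h2 : (ζ ^ k) ^ k' = ζ ^ e := by
    rw [← pow_mul, pow_eq_pow_mod (k * k') hpow, hk']
  refine isUnit_of_dvd_unit ?_ h1
  rw [← h2]
  exact one_sub_dvd_one_sub_pow _ _

namespace G2
open W4c6equivkfinstab

variable (Λ : Type*) [CommRing Λ]

/-- In the cyclotomic quotient of the group ring of a finite cyclic group `C` of invertible order,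
`1 - [c]` is a unit for every `c ≠ 0`. -/
theorem isUnit_one_sub_single (C : Type*) [AddCommGroup C] [Finite C] [IsAddCyclic C]
    (hu : IsUnit ((Nat.card C : ℕ) : Λ)) (c : C) (hc : c ≠ 0) :
    IsUnit (1 - Ideal.Quotient.mk (cycIdeal Λ C) (AddMonoidAlgebra.single c (1 : Λ))) := by
  obtain ⟨g, hg⟩ := IsAddCyclic.exists_generator (α := C)
  have hgtop : AddSubgroup.zmultiples g = ⊤ := by
    rw [eq_top_iff]; intro x _; exact hg x
  set d := Nat.card C with hd
  have hd0 : d ≠ 0 := Nat.card_pos.ne'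
  set ζ : CycQuot Λ C := Ideal.Quotient.mk (cycIdeal Λ C) (AddMonoidAlgebra.single g (1 : Λ)) with hζdef
  have hζ : aeval ζ (cyclotomic d Λ) = 0 := by
    have h1 : aeval ζ (cyclotomic d Λ) =
        Ideal.Quotient.mkₐ Λ (cycIdeal Λ C) (aeval (AddMonoidAlgebra.single g (1 : Λ)) (cyclotomic d Λ)) := by
      rw [← Polynomial.aeval_algHom_apply]; rfl
    rw [h1]
    apply Ideal.Quotient.eq_zero_iff_mem.mpr
    exact Ideal.subset_span ⟨g, hgtop, rfl⟩
  obtain ⟨k, hk⟩ := AddSubgroup.mem_zmultiples_iff.mp (hg c)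
  -- reduce k mod d
  have hdg : d • g = 0 := card_nsmul_eq_zero'
  set k' := (k % (d : ℤ)).toNat with hk'
  have hk'c : k' • g = c := by
    have h0 : (0 : ℤ) ≤ k % (d : ℤ) := Int.emod_nonneg _ (by exact_mod_cast hd0)
    have h1 : ((k' : ℕ) : ℤ) = k % (d : ℤ) := Int.toNat_of_nonneg h0
    have h2 : (k' : ℤ) • g = c := by
      rw [h1, ← hk]
      have : k = k % (d : ℤ) + (d : ℤ) * (k / (d : ℤ)) := (Int.emod_add_mul_ediv k d).symm
      conv_rhs => rw [this, add_smul, mul_smul]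
      have : (d : ℤ) • ((k / (d : ℤ)) • g) = (k / (d : ℤ)) • ((d : ℤ) • g) := by
        rw [smul_comm]
      rw [this, natCast_zsmul, hdg, smul_zero, add_zero]
    rwa [natCast_zsmul] at h2
  have hndvd : ¬ d ∣ k' := by
    rintro ⟨t, ht⟩
    apply hc
    rw [← hk'c, ht, mul_comm, mul_smul, hdg, smul_zero]
  have hu' : IsUnit ((d : ℕ) : CycQuot Λ C) := by
    have := hu.map (algebraMap Λ (CycQuot Λ C))
    simpa using this
  have := isUnit_one_sub_pow (Λ := Λ) ζ hd0 hu' hndvd hζ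
  convert this using 2
  rw [hζdef, ← map_pow, AddMonoidAlgebra.single_pow, one_pow, hk'c]

end G2

namespace G3
open W4c6equivkfinstab

variable (Λ : Type*) [CommRing Λ] (M : Type*) [AddCommGroup M]

theorem quotMap_surjective (B : AddSubgroup M) : Function.Surjective (quotMap Λ M B) := by
  intro y
  obtain ⟨x, hx⟩ := Finsupp.mapDomain_surjective (M := Λ) (QuotientAddGroup.mk'_surjective B) y.coeff
  refine ⟨.ofCoeff x, ?_⟩
  apply AddMonoidAlgebra.coeff_injective
  exact hx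

theorem cycQuotMap_surjective (B : AddSubgroup M) : Function.Surjective (cycQuotMap Λ M B) := by
  intro y
  obtain ⟨z, rfl⟩ := Ideal.Quotient.mk_surjective y
  obtain ⟨x, rfl⟩ := quotMap_surjective Λ M B z
  exact ⟨x, rfl⟩

theorem quotMap_single (B : AddSubgroup M) (b : M) (r : Λ) :
    quotMap Λ M B (AddMonoidAlgebra.single b r) = AddMonoidAlgebra.single (b : M ⧸ B) r := by
  simp [quotMap]

theorem cycQuotMap_single (B : AddSubgroup M) (b : M) (r : Λ) :
    cycQuotMap Λ M B (AddMonoidAlgebra.single b r) =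
      Ideal.Quotient.mk _ (AddMonoidAlgebra.single (b : M ⧸ B) r) := by
  simp [cycQuotMap, quotMap_single]

theorem quotMap_single_of_mem (B : AddSubgroup M) (b : M) (hb : b ∈ B) :
    quotMap Λ M B (AddMonoidAlgebra.single b 1) = 1 := by
  rw [quotMap_single, (QuotientAddGroup.eq_zero_iff b).mpr hb]; rfl

theorem cycQuotMap_single_of_mem (B : AddSubgroup M) (b : M) (hb : b ∈ B) :
    cycQuotMap Λ M B (AddMonoidAlgebra.single b 1) = 1 := by
  simp only [cycQuotMap, RingHom.comp_apply, quotMap_single_of_mem Λ M B b hb, map_one]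

theorem smul_cycQuot (B : AddSubgroup M) (r : AddMonoidAlgebra Λ M) (m : CycQuot Λ (M ⧸ B)) :
    r • m = cycQuotMap Λ M B r * m := by
  obtain ⟨m, rfl⟩ := Ideal.Quotient.mk_surjective m
  show Ideal.Quotient.mk _ (r • m) = _
  rw [Algebra.smul_def]
  rfl

theorem smul_quot (B : AddSubgroup M) (r : AddMonoidAlgebra Λ M) (m : AddMonoidAlgebra Λ (M ⧸ B)) :
    r • m = quotMap Λ M B r * m := by
  rw [Algebra.smul_def]; rfl

/-- unit in the cyclotomic quotient attached to a finite-index subgroup with cyclic quotient -/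
theorem isUnit_one_sub_cycQuotMap_single (B : AddSubgroup M) [B.FiniteIndex] [IsAddCyclic (M ⧸ B)]
    (hu : IsUnit ((B.index : ℕ) : Λ)) (b : M) (hb : b ∉ B) :
    IsUnit (1 - cycQuotMap Λ M B (AddMonoidAlgebra.single b 1)) := by
  rw [cycQuotMap_single]
  have : Finite (M ⧸ B) := AddSubgroup.finite_quotient_of_finiteIndex
  apply G2.isUnit_one_sub_single
  · rwa [← AddSubgroup.index_eq_card]
  · intro h; exact hb ((QuotientAddGroup.eq_zero_iff b).mp h)

/-- comaximality: for `b ∉ B` there is `w` with `cycQuotMap B (w * (1 - [b])) = 1`. -/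
theorem exists_mul_one_sub (B : AddSubgroup M) [B.FiniteIndex] [IsAddCyclic (M ⧸ B)]
    (hu : IsUnit ((B.index : ℕ) : Λ)) (b : M) (hb : b ∉ B) :
    ∃ w : AddMonoidAlgebra Λ M, cycQuotMap Λ M B (w * (1 - AddMonoidAlgebra.single b 1)) = 1 := by
  obtain ⟨v, hv⟩ := (isUnit_one_sub_cycQuotMap_single Λ M B hu b hb).exists_left_inv
  obtain ⟨w, rfl⟩ := cycQuotMap_surjective Λ M B v
  exact ⟨w, by rw [map_mul, map_sub, map_one]; exact hv⟩

theorem main19278 (B₀ B : AddSubgroup M) [B₀.FiniteIndex] [B.FiniteIndex]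
    [IsAddCyclic (M ⧸ B)] (hle : ¬ B₀ ≤ B) (hu : IsUnit ((B.index : ℕ) : Λ)) :
    Subsingleton (LocalizedModule (locSubmonoid Λ M B) (AddMonoidAlgebra Λ (M ⧸ B₀))) := by
  rw [LocalizedModule.subsingleton_iff]
  intro m
  obtain ⟨b, hb0, hb⟩ := SetLike.not_le_iff_exists.mp hle
  obtain ⟨w, hw⟩ := exists_mul_one_sub Λ M B hu b hb
  refine ⟨w * (1 - AddMonoidAlgebra.single b 1), hw, ?_⟩
  rw [smul_quot, map_mul, map_sub, map_one, quotMap_single_of_mem Λ M B₀ b hb0, sub_self, mul_zero,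
    zero_mul]

theorem exists_one_zero (B B' : AddSubgroup M) [B.FiniteIndex] [B'.FiniteIndex]
    [IsAddCyclic (M ⧸ B)] [IsAddCyclic (M ⧸ B')] (hne : B ≠ B')
    (hu : IsUnit ((B.index : ℕ) : Λ)) (hu' : IsUnit ((B'.index : ℕ) : Λ)) :
    ∃ s : AddMonoidAlgebra Λ M, cycQuotMap Λ M B' s = 1 ∧ cycQuotMap Λ M B s = 0 := by
  have : ¬ B ≤ B' ∨ ¬ B' ≤ B := by
    by_contra h
    push Not at h
    exact hne (le_antisymm h.1 h.2)
  rcases this with h | h
  · obtain ⟨b, hbB, hbB'⟩ := SetLike.not_le_iff_exists.mp h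
    obtain ⟨w, hw⟩ := exists_mul_one_sub Λ M B' hu' b hbB'
    refine ⟨w * (1 - AddMonoidAlgebra.single b 1), hw, ?_⟩
    rw [map_mul, map_sub, map_one, cycQuotMap_single_of_mem Λ M B b hbB, sub_self, mul_zero]
  · obtain ⟨b, hbB', hbB⟩ := SetLike.not_le_iff_exists.mp h
    obtain ⟨w, hw⟩ := exists_mul_one_sub Λ M B hu b hbB
    refine ⟨1 - w * (1 - AddMonoidAlgebra.single b 1), ?_, ?_⟩
    · rw [map_sub, map_one, map_mul, map_sub, map_one, cycQuotMap_single_of_mem Λ M B' b hbB', sub_self,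
        mul_zero, sub_zero]
    · rw [map_sub, map_one, hw, sub_self]

theorem main19277 (B B' : AddSubgroup M) [B.FiniteIndex] [B'.FiniteIndex]
    [IsAddCyclic (M ⧸ B)] [IsAddCyclic (M ⧸ B')] (hne : B ≠ B')
    (hu : IsUnit ((B.index * B'.index : ℕ) : Λ)) :
    Subsingleton (LocalizedModule (locSubmonoid Λ M B') (CycQuot Λ (M ⧸ B))) := by
  have hu1 : IsUnit ((B.index : ℕ) : Λ) := by
    rw [Nat.cast_mul] at hu; exact isUnit_of_mul_isUnit_left hu
  have hu2 : IsUnit ((B'.index : ℕ) : Λ) := by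
    rw [Nat.cast_mul] at hu; exact isUnit_of_mul_isUnit_right hu
  rw [LocalizedModule.subsingleton_iff]
  intro m
  obtain ⟨s, hs1, hs0⟩ := exists_one_zero Λ M B B' hne hu1 hu2
  exact ⟨s, hs1, by rw [smul_cycQuot, hs0, zero_mul]⟩

end G3

namespace G4
open W4c6equivkfinstab

variable (Λ : Type*) [CommRing Λ] (M : Type*) [AddCommGroup M]

/-- the augmentation-type ideal of a subgroup -/
noncomputable def augIdeal (B : AddSubgroup M) : Ideal (AddMonoidAlgebra Λ M) :=
  Ideal.span {z | ∃ b ∈ B, z = AddMonoidAlgebra.single b (1 : Λ) - 1}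

theorem sub_mapDomain_out_mem (B : AddSubgroup M) (x : AddMonoidAlgebra Λ M) :
    x - AddMonoidAlgebra.mapDomain (Quotient.out : M ⧸ B → M) (quotMap Λ M B x) ∈ augIdeal Λ M B := by
  induction x using AddMonoidAlgebra.induction_linear with
  | zero => simp
  | add x y hx hy =>
    have : x + y - AddMonoidAlgebra.mapDomain (Quotient.out : M ⧸ B → M) (quotMap Λ M B (x + y)) =
      (x - AddMonoidAlgebra.mapDomain (Quotient.out : M ⧸ B → M) (quotMap Λ M B x)) +
      (y - AddMonoidAlgebra.mapDomain (Quotient.out : M ⧸ B → M) (quotMap Λ M B y)) := by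
      rw [map_add, AddMonoidAlgebra.mapDomain_add]; ring
    rw [this]
    exact Ideal.add_mem _ hx hy
  | single m r =>
    rw [G3.quotMap_single, AddMonoidAlgebra.mapDomain_single]
    set m' : M := Quotient.out (m : M ⧸ B) with hm'
    have hmem : m - m' ∈ B := by
      rw [← QuotientAddGroup.eq_zero_iff, QuotientAddGroup.mk_sub, sub_eq_zero]
      exact (Quotient.out_eq' _).symm
    have : AddMonoidAlgebra.single m r - AddMonoidAlgebra.single m' r =
        AddMonoidAlgebra.single m' r * (AddMonoidAlgebra.single (m - m') (1 : Λ) - 1) := by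
      rw [mul_sub, mul_one, AddMonoidAlgebra.single_mul_single, mul_one, add_sub_cancel]
    rw [this]
    exact Ideal.mul_mem_left _ _ (Ideal.subset_span ⟨_, hmem, rfl⟩)

theorem mem_augIdeal_of_quotMap_eq_zero (B : AddSubgroup M) (x : AddMonoidAlgebra Λ M)
    (hx : quotMap Λ M B x = 0) : x ∈ augIdeal Λ M B := by
  have := sub_mapDomain_out_mem Λ M B x
  rwa [hx, AddMonoidAlgebra.mapDomain_zero, sub_zero] at this

theorem quotMap_eq_zero_of_mem_augIdeal (B B' : AddSubgroup M) (h : B ≤ B') (x : AddMonoidAlgebra Λ M)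
    (hx : x ∈ augIdeal Λ M B) : quotMap Λ M B' x = 0 := by
  have : augIdeal Λ M B ≤ RingHom.ker (quotMap Λ M B') := by
    apply Ideal.span_le.mpr
    rintro z ⟨b, hb, rfl⟩
    rw [SetLike.mem_coe, RingHom.mem_ker, map_sub, map_one, G3.quotMap_single_of_mem Λ M B' b (h hb), sub_self]
  exact this hx

/-- FACT: if `B ≤ B'` then `quotMap B x = 0 → quotMap B' x = 0`. -/
theorem quotMap_eq_zero_of_le (B B' : AddSubgroup M) (h : B ≤ B') (x : AddMonoidAlgebra Λ M)
    (hx : quotMap Λ M B x = 0) : quotMap Λ M B' x = 0 :=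
  quotMap_eq_zero_of_mem_augIdeal Λ M B B' h x (mem_augIdeal_of_quotMap_eq_zero Λ M B x hx)

theorem cycQuotMap_eq_zero_of_le (B B' : AddSubgroup M) (h : B ≤ B') (x : AddMonoidAlgebra Λ M)
    (hx : quotMap Λ M B x = 0) : cycQuotMap Λ M B' x = 0 := by
  simp only [cycQuotMap, RingHom.comp_apply, quotMap_eq_zero_of_le Λ M B B' h x hx, map_zero]

end G4

namespace G5
open W4c6equivkfinstab

theorem geom_mul_pow_sub_one {R : Type*} [CommRing R] (γ : R) (r k : ℕ) (hγ : γ ^ r = 1) :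
    (∑ j ∈ Finset.range r, γ ^ j) * (γ ^ k - 1) = 0 := by
  rw [← geom_sum_mul γ k, ← mul_assoc, mul_comm (∑ j ∈ Finset.range r, γ ^ j), mul_assoc, geom_sum_mul,
    hγ, sub_self, mul_zero]

theorem exists_nat_smul_eq {A : Type*} [AddCommGroup A] (c : A) (r : ℕ) (hr0 : 0 < r) (hr : r • c = 0)
    (k : ℤ) : ∃ k' : ℕ, k • c = k' • c := by
  refine ⟨(k % (r : ℤ)).toNat, ?_⟩
  have h0 : (0 : ℤ) ≤ k % (r : ℤ) := Int.emod_nonneg _ (by exact_mod_cast hr0.ne')
  have h1 : (((k % (r : ℤ)).toNat : ℕ) : ℤ) = k % (r : ℤ) := Int.toNat_of_nonneg h0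
  rw [← natCast_zsmul, h1]
  have : k = k % (r : ℤ) + (r : ℤ) * (k / (r : ℤ)) := (Int.emod_add_mul_ediv k r).symm
  conv_lhs => rw [this, add_smul, mul_smul]
  have : (r : ℤ) • ((k / (r : ℤ)) • c) = (k / (r : ℤ)) • ((r : ℤ) • c) := by
    rw [smul_comm]
  rw [this, natCast_zsmul, hr, smul_zero, add_zero]

variable (Λ : Type*) [CommRing Λ] (M : Type*) [AddCommGroup M]

theorem single_pow_eq_one {A : Type*} [AddCommGroup A] (c : A) (r : ℕ) (hr : r • c = 0) :
    (AddMonoidAlgebra.single c (1 : Λ)) ^ r = 1 := by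
  rw [AddMonoidAlgebra.single_pow, hr, one_pow]; rfl

/-- step (ii) -/
theorem geom_mul_quotMap_eq_zero (B₀ : AddSubgroup M) (m : M) (r : ℕ) (hr0 : 0 < r)
    (hr : r • (m : M ⧸ B₀) = 0) (x : AddMonoidAlgebra Λ M)
    (hx : quotMap Λ M (B₀ ⊔ AddSubgroup.zmultiples m) x = 0) :
    (∑ j ∈ Finset.range r, (AddMonoidAlgebra.single (m : M ⧸ B₀) (1 : Λ)) ^ j) * quotMap Λ M B₀ x = 0 := by
  have hmem := G4.mem_augIdeal_of_quotMap_eq_zero Λ M _ x hx
  set γ := AddMonoidAlgebra.single (m : M ⧸ B₀) (1 : Λ) with hγ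
  have hγr : γ ^ r = 1 := single_pow_eq_one Λ _ r hr
  unfold G4.augIdeal at hmem
  clear hx
  induction hmem using Submodule.span_induction with
  | mem z hz =>
    obtain ⟨b, hb, rfl⟩ := hz
    obtain ⟨b₀, hb₀, t, ht, rfl⟩ := AddSubgroup.mem_sup.mp hb
    obtain ⟨k, rfl⟩ := AddSubgroup.mem_zmultiples_iff.mp ht
    obtain ⟨k', hk'⟩ := exists_nat_smul_eq (m : M ⧸ B₀) r hr0 hr k
    have h1 : ((b₀ + k • m : M) : M ⧸ B₀) = k' • (m : M ⧸ B₀) := by
      rw [QuotientAddGroup.mk_add, (QuotientAddGroup.eq_zero_iff b₀).mpr hb₀, zero_add, ← hk']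
      rfl
    rw [map_sub, map_one, G3.quotMap_single, h1]
    have : AddMonoidAlgebra.single (k' • (m : M ⧸ B₀)) (1 : Λ) = γ ^ k' := by
      rw [hγ, AddMonoidAlgebra.single_pow, one_pow]
    rw [this]
    exact geom_mul_pow_sub_one γ r k' hγr
  | zero => simp
  | add z w _ _ hz hw => rw [map_add, mul_add, hz, hw, add_zero]
  | smul a z _ hz =>
    rw [smul_eq_mul, map_mul, mul_left_comm, hz, mul_zero]

end G5

namespace G6
open W4c6equivkfinstab

theorem cyclotomic_dvd_X_pow_sub_one' (R : Type*) [CommRing R] {e f : ℕ} (hf : 0 < f) (h : e ∣ f) :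
    cyclotomic e R ∣ X ^ f - 1 := by
  rw [← prod_cyclotomic_eq_X_pow_sub_one hf R]
  exact Finset.dvd_prod_of_mem _ (Nat.mem_divisors.mpr ⟨h, hf.ne'⟩)

theorem cyclotomic_dvd_C_sub_geom (R : Type*) [CommRing R] {e f : ℕ} (p : ℕ) (hf : 0 < f) (h : e ∣ f) :
    cyclotomic e R ∣ C (p : R) - ∑ j ∈ Finset.range p, (X ^ f : R[X]) ^ j := by
  have h1 : C (p : R) - ∑ j ∈ Finset.range p, (X ^ f : R[X]) ^ j =
      ∑ j ∈ Finset.range p, (1 - (X ^ f : R[X]) ^ j) := by
    rw [Finset.sum_sub_distrib]; simp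
  rw [h1]
  refine Finset.dvd_sum fun j _ => ?_
  refine dvd_trans ?_ (one_sub_dvd_one_sub_pow _ _)
  rw [dvd_sub_comm]
  exact cyclotomic_dvd_X_pow_sub_one' R hf h

theorem prod_mul_eq_smul {R Λ : Type*} [CommRing Λ] [CommRing R] [Algebra Λ R] {ι : Type*} (S : Finset ι)
    (F : ι → R) (u : ι → Λ) (y : R) (hu : ∀ e ∈ S, IsUnit (u e)) (h : ∀ e ∈ S, F e * y = u e • y) :
    IsUnit (∏ e ∈ S, u e) ∧ (∏ e ∈ S, F e) * y = (∏ e ∈ S, u e) • y := by
  classical
  induction S using Finset.induction_on with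
  | empty => simp
  | insert a S ha ih =>
    obtain ⟨h1, h2⟩ := ih (fun e he => hu e (Finset.mem_insert_of_mem he))
      (fun e he => h e (Finset.mem_insert_of_mem he))
    rw [Finset.prod_insert ha, Finset.prod_insert ha]
    refine ⟨(hu a (Finset.mem_insert_self a S)).mul h1, ?_⟩
    rw [mul_assoc, h2, mul_smul_comm, h a (Finset.mem_insert_self a S), smul_smul, mul_comm]

variable (Λ : Type*) [CommRing Λ]

theorem eq_zero_of_mem_cycIdeal (A : Type*) [AddCommGroup A] [Finite A]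
    (hu : IsUnit ((Nat.card A : ℕ) : Λ)) (y : AddMonoidAlgebra Λ A) (hy : y ∈ cycIdeal Λ A)
    (hN : ∀ c : A, c ≠ 0 → ∀ r : ℕ, 0 < r → r • c = 0 →
      (∑ j ∈ Finset.range r, (AddMonoidAlgebra.single c (1 : Λ)) ^ j) * y = 0) : y = 0 := by
  set n := Nat.card A with hn
  have hn0 : 0 < n := Nat.card_pos
  have key : ∀ z ∈ cycIdeal Λ A, ∃ Q : AddMonoidAlgebra Λ A,
      (∃ u : Λ, IsUnit u ∧ Q * y = u • y) ∧ Q * z = 0 := by
    intro z hz
    unfold cycIdeal at hz
    induction hz using Submodule.span_induction with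
    | mem z hz =>
      obtain ⟨g, hg, rfl⟩ := hz
      set γ := AddMonoidAlgebra.single g (1 : Λ) with hγ
      have hgord : addOrderOf g = n := by
        rw [hn]
        exact addOrderOf_eq_card_of_forall_mem_zmultiples (fun x => by rw [hg]; trivial)
      have hγn : γ ^ n = 1 := G5.single_pow_eq_one Λ g n (by rw [← hgord]; exact addOrderOf_nsmul_eq_zero g)
      -- the primes
      let pe : ℕ → ℕ := fun e => (n / e).minFac
      have hpe : ∀ e ∈ n.properDivisors, (pe e).Prime ∧ e * pe e ∣ n := by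
        intro e he
        rw [Nat.mem_properDivisors] at he
        obtain ⟨t, ht⟩ := he.1
        have he0 : 0 < e := Nat.pos_of_dvd_of_pos he.1 hn0
        have ht1 : n / e = t := by rw [ht]; exact Nat.mul_div_cancel_left t he0
        have ht2 : t ≠ 1 := by rintro rfl; rw [mul_one] at ht; omega
        refine ⟨Nat.minFac_prime (by rw [ht1]; exact ht2), ?_⟩
        show e * (n / e).minFac ∣ n
        rw [ht1]
        conv_rhs => rw [ht]
        exact Nat.mul_dvd_mul_left e (Nat.minFac_dvd t)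
      let Qp : Λ[X] := ∏ e ∈ n.properDivisors,
        (C ((pe e : ℕ) : Λ) - ∑ j ∈ Finset.range (pe e), (X ^ (n / pe e) : Λ[X]) ^ j)
      refine ⟨aeval γ Qp, ?_, ?_⟩
      · have h1 : aeval γ Qp = ∏ e ∈ n.properDivisors,
            (algebraMap Λ _ ((pe e : ℕ) : Λ) - ∑ j ∈ Finset.range (pe e), (γ ^ (n / pe e)) ^ j) := by
          simp only [Qp, map_prod, map_sub, aeval_C, map_sum, map_pow, aeval_X]
        rw [h1]
        have := prod_mul_eq_smul (Λ := Λ) n.properDivisors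
          (fun e => algebraMap Λ (AddMonoidAlgebra Λ A) ((pe e : ℕ) : Λ) -
            ∑ j ∈ Finset.range (pe e), (γ ^ (n / pe e)) ^ j)
          (fun e => ((pe e : ℕ) : Λ)) y ?_ ?_
        · exact ⟨_, this.1, this.2⟩
        · intro e he
          obtain ⟨hp, hdvd⟩ := hpe e he
          have hpn : pe e ∣ n := dvd_trans (dvd_mul_left _ _) hdvd
          obtain ⟨t, ht⟩ := hpn
          have h2 : ((n : ℕ) : Λ) = ((pe e : ℕ) : Λ) * ((t : ℕ) : Λ) := by rw [ht]; push_cast; ring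
          rw [h2] at hu
          exact isUnit_of_mul_isUnit_left hu
        · intro e he
          obtain ⟨hp, hdvd⟩ := hpe e he
          have hpn : pe e ∣ n := dvd_trans (dvd_mul_left _ _) hdvd
          obtain ⟨f, hf⟩ := hpn
          have hf0 : 0 < f := by
            rcases Nat.eq_zero_or_pos f with rfl | h
            · simp at hf; omega
            · exact h
          have hnf : n / pe e = f := by rw [hf]; exact Nat.mul_div_cancel_left f hp.pos
          rw [hnf, sub_mul, ← Algebra.smul_def]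
          have hc : γ ^ f = AddMonoidAlgebra.single (f • g) (1 : Λ) := by
            rw [hγ, AddMonoidAlgebra.single_pow, one_pow]
          rw [hc, hN (f • g) ?_ (pe e) hp.pos ?_, sub_zero]
          · intro h0
            have : addOrderOf g ∣ f := addOrderOf_dvd_of_nsmul_eq_zero h0
            rw [hgord] at this
            have hle := Nat.le_of_dvd hf0 this
            have : 1 < pe e := hp.one_lt
            nlinarith
          · rw [← mul_smul, ← hf, ← hgord]; exact addOrderOf_nsmul_eq_zero g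
      · rw [← map_mul]
        have hdvd : (∏ e ∈ n.properDivisors, cyclotomic e Λ) ∣ Qp := by
          apply Finset.prod_dvd_prod_of_dvd
          intro e he
          obtain ⟨hp, hdvd⟩ := hpe e he
          have hpn : pe e ∣ n := dvd_trans (dvd_mul_left _ _) hdvd
          obtain ⟨f, hf⟩ := hpn
          have hf0 : 0 < f := by
            rcases Nat.eq_zero_or_pos f with rfl | h
            · simp at hf; omega
            · exact h
          have hnf : n / pe e = f := by rw [hf]; exact Nat.mul_div_cancel_left f hp.pos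
          rw [hnf]
          apply cyclotomic_dvd_C_sub_geom Λ (pe e) hf0
          rw [hf, mul_comm] at hdvd
          exact Nat.dvd_of_mul_dvd_mul_left hp.pos hdvd
        obtain ⟨W, hW⟩ := hdvd
        have : Qp * cyclotomic n Λ = W * (X ^ n - 1) := by
          rw [hW, ← prod_cyclotomic_eq_X_pow_sub_one hn0 Λ, ← Nat.insert_self_properDivisors hn0.ne',
            Finset.prod_insert Nat.self_notMem_properDivisors]
          ring
        rw [this, map_mul, map_sub, map_pow, aeval_X, map_one, hγn, sub_self, mul_zero]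
    | zero => exact ⟨1, ⟨1, isUnit_one, by simp⟩, by simp⟩
    | add z w _ _ hz hw =>
      obtain ⟨Q₁, ⟨u₁, hu₁, h₁⟩, hz⟩ := hz
      obtain ⟨Q₂, ⟨u₂, hu₂, h₂⟩, hw⟩ := hw
      refine ⟨Q₁ * Q₂, ⟨u₁ * u₂, hu₁.mul hu₂, ?_⟩, ?_⟩
      · rw [mul_assoc, h₂, mul_smul_comm, h₁, smul_smul, mul_comm]
      · rw [mul_add, mul_right_comm, hz, zero_mul, mul_assoc, hw, mul_zero, add_zero]
    | smul a z _ hz =>
      obtain ⟨Q, hQ, hz⟩ := hz
      exact ⟨Q, hQ, by rw [smul_eq_mul, mul_left_comm, hz, mul_zero]⟩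
  obtain ⟨Q, ⟨u, hu', h1⟩, h2⟩ := key y hy
  rw [h2] at h1
  exact (IsUnit.smul_eq_zero hu').mp h1.symm

end G6

namespace G7
open W4c6equivkfinstab

/-- a non-cyclic finite abelian group contains two independent elements of some prime order -/
theorem exists_prime_indep (A : Type*) [AddCommGroup A] [Finite A] (h : ¬ IsAddCyclic A) :
    ∃ (p : ℕ) (a b : A), p.Prime ∧ p • a = 0 ∧ p • b = 0 ∧ a ≠ 0 ∧ b ∉ AddSubgroup.zmultiples a := by
  obtain ⟨g, hg⟩ := AddMonoid.exists_addOrderOf_eq_exponent (G := A) AddMonoid.ExponentExists.of_finite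
  set m := AddMonoid.exponent A with hm
  have hm0 : 0 < m := AddMonoid.ExponentExists.of_finite.exponent_pos
  have hmg : m • g = 0 := by rw [← hg]; exact addOrderOf_nsmul_eq_zero g
  have hne : AddSubgroup.zmultiples g ≠ ⊤ := by
    intro htop
    exact h ⟨g, fun x => by
      have : x ∈ AddSubgroup.zmultiples g := by rw [htop]; trivial
      exact AddSubgroup.mem_zmultiples_iff.mp this⟩
  -- the quotient is nontrivial
  have hnt : Nontrivial (A ⧸ AddSubgroup.zmultiples g) := by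
    rw [QuotientAddGroup.nontrivial_iff]; exact hne
  have hcard : 1 < Nat.card (A ⧸ AddSubgroup.zmultiples g) := Finite.one_lt_card
  obtain ⟨p, hp, hpdvd⟩ := Nat.exists_prime_and_dvd hcard.ne'
  have : Fact p.Prime := ⟨hp⟩
  obtain ⟨q, hq⟩ := exists_prime_addOrderOf_dvd_card' (G := A ⧸ AddSubgroup.zmultiples g) p hpdvd
  obtain ⟨b₁, rfl⟩ := QuotientAddGroup.mk_surjective q
  have hb₁ : b₁ ∉ AddSubgroup.zmultiples g := by
    intro hmem
    have : (b₁ : A ⧸ AddSubgroup.zmultiples g) = 0 := (QuotientAddGroup.eq_zero_iff b₁).mpr hmem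
    rw [this, addOrderOf_zero] at hq
    exact hp.one_lt.ne hq
  have hpb₁ : p • b₁ ∈ AddSubgroup.zmultiples g := by
    rw [← QuotientAddGroup.eq_zero_iff, QuotientAddGroup.mk_nsmul, ← hq]
    exact addOrderOf_nsmul_eq_zero _
  have hmb₁ : m • b₁ = 0 := AddMonoid.exponent_nsmul_eq_zero b₁
  have hpm : p ∣ m := by
    rw [← hq]
    apply addOrderOf_dvd_of_nsmul_eq_zero
    rw [← QuotientAddGroup.mk_nsmul, hmb₁]; rfl
  obtain ⟨m', hm'⟩ := hpm
  have hm'0 : 0 < m' := by
    rcases Nat.eq_zero_or_pos m' with h0 | h0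
    · rw [h0, mul_zero] at hm'; omega
    · exact h0
  obtain ⟨k, hk⟩ := AddSubgroup.mem_zmultiples_iff.mp hpb₁
  obtain ⟨k', hk'⟩ := G5.exists_nat_smul_eq g m hm0 hmg k
  rw [hk'] at hk
  -- p ∣ k'
  have hpk : p ∣ k' := by
    have h1 : (m' * k') • g = 0 := by
      rw [mul_smul, hk, ← mul_smul, mul_comm, ← hm', hmb₁]
    have h2 : m ∣ m' * k' := by rw [← hg]; exact addOrderOf_dvd_of_nsmul_eq_zero h1
    rw [hm', mul_comm p m'] at h2
    exact Nat.dvd_of_mul_dvd_mul_left hm'0 h2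
  obtain ⟨k'', hk''⟩ := hpk
  refine ⟨p, m' • g, b₁ - k'' • g, hp, ?_, ?_, ?_, ?_⟩
  · rw [← mul_smul, ← hm', hmg]
  · rw [smul_sub, ← hk, hk'', mul_smul, sub_self]
  · intro h0
    have : m ∣ m' := by rw [← hg]; exact addOrderOf_dvd_of_nsmul_eq_zero h0
    have := Nat.le_of_dvd hm'0 this
    have := hp.one_lt
    nlinarith
  · intro hmem
    apply hb₁
    have h1 : AddSubgroup.zmultiples (m' • g) ≤ AddSubgroup.zmultiples g :=
      AddSubgroup.zmultiples_le_of_mem (AddSubgroup.nsmul_mem _ (AddSubgroup.mem_zmultiples g) m')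
    have h2 := h1 hmem
    have h3 : k'' • g ∈ AddSubgroup.zmultiples g := AddSubgroup.nsmul_mem _ (AddSubgroup.mem_zmultiples g) k''
    have := AddSubgroup.add_mem _ h2 h3
    simpa using this

/-- permutation of a geometric sum -/
theorem geom_pow_eq {R : Type*} [CommRing R] (β : R) (p j : ℕ) (hp : p.Prime) (hβ : β ^ p = 1)
    (hj0 : 0 < j) (hjp : j < p) :
    ∑ i ∈ Finset.range p, (β ^ j) ^ i = ∑ i ∈ Finset.range p, β ^ i := by
  have hcop : Nat.Coprime p j := Nat.coprime_of_lt_prime hj0.ne' hjp hp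
  have hinj : Set.InjOn (fun i => (j * i) % p) (Finset.range p : Set ℕ) := by
    intro i hi i' hi' h
    simp only [Finset.coe_range, Set.mem_Iio] at hi hi'
    have h1 : j * i ≡ j * i' [MOD p] := h
    have h2 : i ≡ i' [MOD p] := Nat.ModEq.cancel_left_of_coprime hcop.gcd_eq_one h1
    rw [Nat.ModEq, Nat.mod_eq_of_lt hi, Nat.mod_eq_of_lt hi'] at h2
    exact h2
  have himg : (Finset.range p).image (fun i => (j * i) % p) = Finset.range p := by
    apply Finset.eq_of_subset_of_card_le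
    · intro x hx
      obtain ⟨i, _, rfl⟩ := Finset.mem_image.mp hx
      exact Finset.mem_range.mpr (Nat.mod_lt _ hp.pos)
    · rw [Finset.card_image_of_injOn hinj]
  calc ∑ i ∈ Finset.range p, (β ^ j) ^ i = ∑ i ∈ Finset.range p, β ^ ((j * i) % p) := by
        refine Finset.sum_congr rfl fun i _ => ?_
        rw [← pow_mul, pow_eq_pow_mod (j * i) hβ]
    _ = ∑ k ∈ (Finset.range p).image (fun i => (j * i) % p), β ^ k := by
        rw [Finset.sum_image hinj]
    _ = ∑ i ∈ Finset.range p, β ^ i := by rw [himg]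

end G7

namespace G8
open W4c6equivkfinstab

theorem lines_identity {R : Type*} [CommRing R] (α β : R) (p : ℕ) (hp : p.Prime) (hα : α ^ p = 1) :
    ∑ i ∈ Finset.range p, ∑ j ∈ Finset.range p, (β * α ^ i) ^ j + ∑ j ∈ Finset.range p, α ^ j =
      (p : R) + (∑ j ∈ Finset.range p, β ^ j) * (∑ i ∈ Finset.range p, α ^ i) := by
  obtain ⟨p', rfl⟩ : ∃ p', p = p' + 1 := ⟨p - 1, by have := hp.pos; omega⟩
  set Sα := ∑ i ∈ Finset.range (p' + 1), α ^ i with hSα
  have h1 : ∑ i ∈ Finset.range (p' + 1), ∑ j ∈ Finset.range (p' + 1), (β * α ^ i) ^ j =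
      ∑ j ∈ Finset.range (p' + 1), β ^ j * ∑ i ∈ Finset.range (p' + 1), (α ^ j) ^ i := by
    rw [Finset.sum_comm]
    refine Finset.sum_congr rfl fun j _ => ?_
    rw [Finset.mul_sum]
    refine Finset.sum_congr rfl fun i _ => ?_
    rw [mul_pow, ← pow_mul, ← pow_mul, mul_comm i j]
  rw [h1, Finset.sum_range_succ' (fun j => β ^ j * ∑ i ∈ Finset.range (p' + 1), (α ^ j) ^ i)]
  have h2 : ∀ j ∈ Finset.range p', β ^ (j + 1) * ∑ i ∈ Finset.range (p' + 1), (α ^ (j + 1)) ^ i =
      β ^ (j + 1) * Sα := by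
    intro j hj
    rw [G7.geom_pow_eq α (p' + 1) (j + 1) hp hα (Nat.succ_pos j) (by have := Finset.mem_range.mp hj; omega)]
  rw [Finset.sum_congr rfl h2, ← Finset.sum_mul]
  have h3 : ∑ j ∈ Finset.range (p' + 1), β ^ j = ∑ j ∈ Finset.range p', β ^ (j + 1) + 1 := by
    rw [Finset.sum_range_succ' (fun j => β ^ j)]; simp
  rw [h3]
  simp only [pow_zero, one_pow, Finset.sum_const, Finset.card_range, one_mul, nsmul_eq_mul, mul_one]
  ring

variable (Λ : Type*) [CommRing Λ]

theorem eq_zero_of_not_cyclic (A : Type*) [AddCommGroup A] [Finite A] (h : ¬ IsAddCyclic A)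
    (hu : IsUnit ((Nat.card A : ℕ) : Λ)) (y : AddMonoidAlgebra Λ A)
    (hN : ∀ c : A, c ≠ 0 → ∀ r : ℕ, 0 < r → r • c = 0 →
      (∑ j ∈ Finset.range r, (AddMonoidAlgebra.single c (1 : Λ)) ^ j) * y = 0) : y = 0 := by
  obtain ⟨p, a, b, hp, hpa, hpb, ha0, hb⟩ := G7.exists_prime_indep A h
  set α := AddMonoidAlgebra.single a (1 : Λ) with hα
  set β := AddMonoidAlgebra.single b (1 : Λ) with hβ
  have hαp : α ^ p = 1 := G5.single_pow_eq_one Λ a p hpa
  have hid := lines_identity α β p hp hαp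
  have h1 : ∀ i ∈ Finset.range p, (∑ j ∈ Finset.range p, (β * α ^ i) ^ j) * y = 0 := by
    intro i _
    have : β * α ^ i = AddMonoidAlgebra.single (b + i • a) (1 : Λ) := by
      rw [hα, hβ, AddMonoidAlgebra.single_pow, one_pow, AddMonoidAlgebra.single_mul_single, mul_one]
    rw [this]
    apply hN _ _ p hp.pos
    · rw [smul_add, hpb, smul_comm, hpa, smul_zero, add_zero]
    · intro h0
      apply hb
      have : b = -(i • a) := eq_neg_of_add_eq_zero_left h0
      rw [this]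
      exact AddSubgroup.neg_mem _ (AddSubgroup.nsmul_mem _ (AddSubgroup.mem_zmultiples a) i)
  have h2 : (∑ j ∈ Finset.range p, α ^ j) * y = 0 := hN a ha0 p hp.pos hpa
  have e1 : (∑ i ∈ Finset.range p, ∑ j ∈ Finset.range p, (β * α ^ i) ^ j) * y = 0 := by
    rw [Finset.sum_mul]
    exact Finset.sum_eq_zero h1
  have hid' : (p : AddMonoidAlgebra Λ A) * y = 0 := by
    have := congrArg (fun t => t * y) hid
    simp only [add_mul] at this
    rw [e1, h2, mul_assoc, h2, mul_zero, add_zero, add_zero] at this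
    exact this.symm
  -- p * y = 0
  have hpdvd : p ∣ Nat.card A := by
    have : addOrderOf a = p := by
      rcases (Nat.dvd_prime hp).mp (addOrderOf_dvd_of_nsmul_eq_zero hpa) with h1 | h1
      · exact absurd (AddMonoid.addOrderOf_eq_one_iff.mp h1) ha0
      · exact h1
    rw [← this]; exact addOrderOf_dvd_natCard a
  obtain ⟨t, ht⟩ := hpdvd
  have hup : IsUnit ((p : ℕ) : Λ) := by
    have h2 : ((Nat.card A : ℕ) : Λ) = ((p : ℕ) : Λ) * ((t : ℕ) : Λ) := by rw [ht]; push_cast; ring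
    rw [h2] at hu
    exact isUnit_of_mul_isUnit_left hu
  have h4 : ((p : ℕ) : Λ) • y = 0 := by
    rw [Nat.cast_smul_eq_nsmul, nsmul_eq_mul]; exact hid'
  exact (IsUnit.smul_eq_zero hup).mp h4

end G8

namespace G9
open W4c6equivkfinstab

variable (Λ : Type*) [CommRing Λ] (M : Type*) [AddCommGroup M]

/-- (b): an element killed in all cyclotomic quotients above `B₀` is killed by `quotMap B₀`. -/
theorem quotMap_eq_zero_of_forall (n : ℕ) : ∀ (B₀ : AddSubgroup M) [B₀.FiniteIndex], B₀.index = n →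
    IsUnit ((n : ℕ) : Λ) → ∀ x : AddMonoidAlgebra Λ M,
    (∀ B : AddSubgroup M, B₀ ≤ B → IsAddCyclic (M ⧸ B) → cycQuotMap Λ M B x = 0) →
    quotMap Λ M B₀ x = 0 := by
  induction n using Nat.strong_induction_on with
  | _ n IH =>
  intro B₀ _ hidx hu x hx
  have hfin : Finite (M ⧸ B₀) := AddSubgroup.finite_quotient_of_finiteIndex
  have hcard : Nat.card (M ⧸ B₀) = n := by rw [← AddSubgroup.index_eq_card, hidx]
  have hN : ∀ c : M ⧸ B₀, c ≠ 0 → ∀ r : ℕ, 0 < r → r • c = 0 →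
      (∑ j ∈ Finset.range r, (AddMonoidAlgebra.single c (1 : Λ)) ^ j) * quotMap Λ M B₀ x = 0 := by
    intro c hc r hr0 hr
    obtain ⟨m, rfl⟩ := QuotientAddGroup.mk_surjective c
    have hmB : m ∉ B₀ := fun h => hc ((QuotientAddGroup.eq_zero_iff m).mpr h)
    set B₁ := B₀ ⊔ AddSubgroup.zmultiples m with hB₁
    have hlt : B₀ < B₁ := by
      refine lt_of_le_of_ne le_sup_left ?_
      intro heq
      apply hmB
      rw [heq]
      exact (le_sup_right : AddSubgroup.zmultiples m ≤ B₁) (AddSubgroup.mem_zmultiples m)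
    have hfi : B₁.FiniteIndex := AddSubgroup.finiteIndex_of_le hlt.le
    have hidx1 : B₁.index < n := by rw [← hidx]; exact AddSubgroup.index_strictAnti hlt
    have hu1 : IsUnit ((B₁.index : ℕ) : Λ) := by
      obtain ⟨t, ht⟩ := AddSubgroup.index_dvd_of_le hlt.le
      rw [hidx] at ht
      have h2 : ((n : ℕ) : Λ) = ((B₁.index : ℕ) : Λ) * ((t : ℕ) : Λ) := by rw [ht]; push_cast; ring
      rw [h2] at hu
      exact isUnit_of_mul_isUnit_left hu
    have h1 := IH B₁.index hidx1 B₁ rfl hu1 x (fun B hB hcyc => hx B (le_trans hlt.le hB) hcyc)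
    exact G5.geom_mul_quotMap_eq_zero Λ M B₀ m r hr0 hr x h1
  by_cases hcyc : IsAddCyclic (M ⧸ B₀)
  · have h1 := hx B₀ le_rfl hcyc
    have h2 : quotMap Λ M B₀ x ∈ cycIdeal Λ (M ⧸ B₀) := by
      rw [← Ideal.Quotient.eq_zero_iff_mem]; exact h1
    exact G6.eq_zero_of_mem_cycIdeal Λ (M ⧸ B₀) (by rw [hcard]; exact hu) _ h2 hN
  · exact G8.eq_zero_of_not_cyclic Λ (M ⧸ B₀) hcyc (by rw [hcard]; exact hu) _ hN

/-- (a'): CRT idempotents. -/
theorem exists_idem {ι : Type*} [Finite ι] (B : ι → AddSubgroup M) (hinj : Function.Injective B)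
    (hfi : ∀ i, (B i).FiniteIndex) (hcyc : ∀ i, IsAddCyclic (M ⧸ B i))
    (hu : ∀ i, IsUnit (((B i).index : ℕ) : Λ)) (i : ι) :
    ∃ ε : AddMonoidAlgebra Λ M, cycQuotMap Λ M (B i) ε = 1 ∧
      ∀ j, j ≠ i → cycQuotMap Λ M (B j) ε = 0 := by
  classical
  have := Fintype.ofFinite ι
  have h : ∀ j, j ≠ i → ∃ s : AddMonoidAlgebra Λ M,
      cycQuotMap Λ M (B i) s = 1 ∧ cycQuotMap Λ M (B j) s = 0 := by
    intro j hj
    have := hfi i; have := hfi j; have := hcyc i; have := hcyc j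
    exact G3.exists_one_zero Λ M (B j) (B i) (fun h => hj (hinj h)) (hu j) (hu i)
  choose! s hs1 hs0 using h
  refine ⟨∏ j ∈ Finset.univ.erase i, s j, ?_, ?_⟩
  · rw [map_prod]
    apply Finset.prod_eq_one
    intro j hj
    exact hs1 j (Finset.ne_of_mem_erase hj)
  · intro j hj
    rw [map_prod]
    exact Finset.prod_eq_zero (Finset.mem_erase.mpr ⟨hj, Finset.mem_univ j⟩) (hs0 j hj)

theorem finite_above (B₀ : AddSubgroup M) [B₀.FiniteIndex] :
    Finite {B : AddSubgroup M // B₀ ≤ B} := by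
  have hfin : Finite (M ⧸ B₀) := AddSubgroup.finite_quotient_of_finiteIndex
  apply Finite.of_injective
    (fun B : {B : AddSubgroup M // B₀ ≤ B} => B.1.map (QuotientAddGroup.mk' B₀))
  intro B B' h
  apply Subtype.ext
  have h1 := congrArg (AddSubgroup.comap (QuotientAddGroup.mk' B₀)) h
  simp only [AddSubgroup.comap_map_eq, QuotientAddGroup.ker_mk'] at h1
  rwa [sup_eq_left.mpr B.2, sup_eq_left.mpr B'.2] at h1

theorem finite_above_cyc (B₀ : AddSubgroup M) [B₀.FiniteIndex] :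
    Finite {B : AddSubgroup M // B₀ ≤ B ∧ IsAddCyclic (M ⧸ B)} := by
  have := finite_above M B₀
  apply Finite.of_injective
    (fun B : {B : AddSubgroup M // B₀ ≤ B ∧ IsAddCyclic (M ⧸ B)} =>
      (⟨B.1, B.2.1⟩ : {B : AddSubgroup M // B₀ ≤ B}))
  intro B B' h
  apply Subtype.ext
  exact congrArg (fun t : {B : AddSubgroup M // B₀ ≤ B} => t.1) h

end G9

namespace G10
open W4c6equivkfinstab

variable (Λ : Type*) [CommRing Λ]

theorem main19276 (A : Type*) [AddCommGroup A] [Finite A] (hA : IsUnit ((Nat.card A : ℕ) : Λ)) :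
    Function.Bijective (RingHom.pi fun B : {B : AddSubgroup A // IsAddCyclic (A ⧸ B)} =>
      cycQuotMap Λ A B.1) := by
  classical
  have hfinI : Finite {B : AddSubgroup A // IsAddCyclic (A ⧸ B)} := inferInstance
  have := Fintype.ofFinite {B : AddSubgroup A // IsAddCyclic (A ⧸ B)}
  have hu : ∀ B : AddSubgroup A, IsUnit ((B.index : ℕ) : Λ) := by
    intro B
    obtain ⟨t, ht⟩ := B.index_dvd_card
    have h2 : ((Nat.card A : ℕ) : Λ) = ((B.index : ℕ) : Λ) * ((t : ℕ) : Λ) := by rw [ht]; push_cast; ring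
    rw [h2] at hA
    exact isUnit_of_mul_isUnit_left hA
  constructor
  · rw [injective_iff_map_eq_zero]
    intro x hx
    have h1 : ∀ B : AddSubgroup A, (⊥ : AddSubgroup A) ≤ B → IsAddCyclic (A ⧸ B) → cycQuotMap Λ A B x = 0 := by
      intro B _ hB
      exact congrFun hx ⟨B, hB⟩
    have h2 := G9.quotMap_eq_zero_of_forall Λ A (Nat.card A) ⊥ AddSubgroup.index_bot hA x h1
    have hinj : Function.Injective (quotMap Λ A (⊥ : AddSubgroup A)) := by
      apply AddMonoidAlgebra.mapDomain_injective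
      rw [← AddMonoidHom.ker_eq_bot_iff, QuotientAddGroup.ker_mk']
    exact hinj (by rw [h2, map_zero])
  · intro z
    have hidem := fun B : {B : AddSubgroup A // IsAddCyclic (A ⧸ B)} =>
      G9.exists_idem Λ A (fun B : {B : AddSubgroup A // IsAddCyclic (A ⧸ B)} => B.1)
        Subtype.val_injective (fun _ => inferInstance) (fun B => B.2) (fun B => hu B.1) B
    choose ε hε1 hε0 using hidem
    have hlift := fun B : {B : AddSubgroup A // IsAddCyclic (A ⧸ B)} =>
      G3.cycQuotMap_surjective Λ A B.1 (z B)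
    choose xB hxB using hlift
    refine ⟨∑ B, ε B * xB B, ?_⟩
    funext B
    show cycQuotMap Λ A B.1 (∑ B, ε B * xB B) = z B
    rw [map_sum, Finset.sum_eq_single B]
    · rw [map_mul, hε1, one_mul, hxB]
    · intro B' _ hne
      rw [map_mul, hε0 B' B hne.symm, zero_mul]
    · intro h; exact absurd (Finset.mem_univ B) h

end G10

namespace G11
open W4c6equivkfinstab

variable (Λ : Type*) [CommRing Λ] (M : Type*) [AddCommGroup M]

theorem main19279 (B₀ : AddSubgroup M) [B₀.FiniteIndex] (hu : IsUnit ((B₀.index : ℕ) : Λ)) :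
    Function.Bijective (LinearMap.pi (R := AddMonoidAlgebra Λ M)
      fun B : {B : AddSubgroup M // B₀ ≤ B ∧ IsAddCyclic (M ⧸ B)} =>
        LocalizedModule.mkLinearMap (locSubmonoid Λ M B.1) (AddMonoidAlgebra Λ (M ⧸ B₀))) := by
  classical
  have hfinI : Finite {B : AddSubgroup M // B₀ ≤ B ∧ IsAddCyclic (M ⧸ B)} := G9.finite_above_cyc M B₀
  have := Fintype.ofFinite {B : AddSubgroup M // B₀ ≤ B ∧ IsAddCyclic (M ⧸ B)}
  have hfi : ∀ B : {B : AddSubgroup M // B₀ ≤ B ∧ IsAddCyclic (M ⧸ B)}, B.1.FiniteIndex :=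
    fun B => AddSubgroup.finiteIndex_of_le B.2.1
  have huB : ∀ B : {B : AddSubgroup M // B₀ ≤ B ∧ IsAddCyclic (M ⧸ B)},
      IsUnit ((B.1.index : ℕ) : Λ) := by
    intro B
    obtain ⟨t, ht⟩ := AddSubgroup.index_dvd_of_le B.2.1
    have h2 : ((B₀.index : ℕ) : Λ) = ((B.1.index : ℕ) : Λ) * ((t : ℕ) : Λ) := by rw [ht]; push_cast; ring
    rw [h2] at hu
    exact isUnit_of_mul_isUnit_left hu
  have hb := G9.quotMap_eq_zero_of_forall Λ M B₀.index B₀ rfl hu
  constructor
  · rw [injective_iff_map_eq_zero]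
    intro y hy
    obtain ⟨x, rfl⟩ := G3.quotMap_surjective Λ M B₀ y
    apply hb
    intro B hB hcyc
    have h1 : LocalizedModule.mkLinearMap (locSubmonoid Λ M B) (AddMonoidAlgebra Λ (M ⧸ B₀))
        (quotMap Λ M B₀ x) = 0 := congrFun hy ⟨B, hB, hcyc⟩
    have h2 : quotMap Λ M B₀ x ∈ LinearMap.ker
        (LocalizedModule.mkLinearMap (locSubmonoid Λ M B) (AddMonoidAlgebra Λ (M ⧸ B₀))) := h1
    rw [LocalizedModule.mem_ker_mkLinearMap_iff] at h2
    obtain ⟨r, hr, hr0⟩ := h2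
    rw [G3.smul_quot, ← map_mul] at hr0
    have h3 := G4.cycQuotMap_eq_zero_of_le Λ M B₀ B hB _ hr0
    rw [map_mul] at h3
    have hr1 : cycQuotMap Λ M B r = 1 := hr
    rwa [hr1, one_mul] at h3
  · intro z
    have hrep : ∀ B : {B : AddSubgroup M // B₀ ≤ B ∧ IsAddCyclic (M ⧸ B)},
        ∃ (x : AddMonoidAlgebra Λ M) (s : locSubmonoid Λ M B.1),
          z B = LocalizedModule.mk (quotMap Λ M B₀ x) s := by
      intro B
      induction z B using LocalizedModule.induction_on with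
      | h y s =>
        obtain ⟨x, rfl⟩ := G3.quotMap_surjective Λ M B₀ y
        exact ⟨x, s, rfl⟩
    choose xB sB hz using hrep
    have hidem := fun B : {B : AddSubgroup M // B₀ ≤ B ∧ IsAddCyclic (M ⧸ B)} =>
      G9.exists_idem Λ M (fun B : {B : AddSubgroup M // B₀ ≤ B ∧ IsAddCyclic (M ⧸ B)} => B.1)
        Subtype.val_injective hfi (fun B => B.2.2) huB B
    choose ε hε1 hε0 using hidem
    refine ⟨quotMap Λ M B₀ (∑ B, ε B * xB B), ?_⟩
    funext B
    show LocalizedModule.mkLinearMap (locSubmonoid Λ M B.1) (AddMonoidAlgebra Λ (M ⧸ B₀))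
      (quotMap Λ M B₀ (∑ B, ε B * xB B)) = z B
    rw [hz B, LocalizedModule.mkLinearMap_apply, LocalizedModule.mk_eq]
    refine ⟨⟨ε B, hε1 B⟩, ?_⟩
    simp only [Submonoid.smul_def, one_smul]
    rw [G3.smul_quot, G3.smul_quot, G3.smul_quot, ← map_mul, ← map_mul, ← map_mul, ← sub_eq_zero, ← map_sub]
    apply hb
    intro B' hB' hcyc'
    have hx : ∀ B'' : {B : AddSubgroup M // B₀ ≤ B ∧ IsAddCyclic (M ⧸ B)},
        cycQuotMap Λ M B''.1 (∑ B, ε B * xB B) = cycQuotMap Λ M B''.1 (xB B'') := by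
      intro B''
      rw [map_sum, Finset.sum_eq_single B'']
      · rw [map_mul, hε1, one_mul]
      · intro C _ hne
        rw [map_mul, hε0 C B'' hne.symm, zero_mul]
      · intro h; exact absurd (Finset.mem_univ B'') h
    by_cases hBB : (⟨B', hB', hcyc'⟩ : {B : AddSubgroup M // B₀ ≤ B ∧ IsAddCyclic (M ⧸ B)}) = B
    · subst hBB
      have hs1 : cycQuotMap Λ M B' (sB ⟨B', hB', hcyc'⟩ : AddMonoidAlgebra Λ M) = 1 :=
        (sB ⟨B', hB', hcyc'⟩).2
      rw [map_sub, map_mul, map_mul, map_mul]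
      have h1 := hε1 ⟨B', hB', hcyc'⟩
      have h2 := hx ⟨B', hB', hcyc'⟩
      simp only at h1 h2
      rw [h1, hs1, h2]
      ring
    · have h0 : cycQuotMap Λ M B' (ε B) = 0 := hε0 B ⟨B', hB', hcyc'⟩ hBB
      rw [map_sub, map_mul, map_mul, map_mul, h0]
      ring

end G11

end Groth.Agent.Lib.Helper18Cyc
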