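import Mathlib

open Polynomial

namespace Groth.Agent.Lib.Helper18Cyc

universe u

section LemmaA

variable {R : Type u} [CommRing R] {ι : Type u} [DecidableEq ι] (I : ι → Ideal R)

/-- If every `R`-linear endomorphism of `Π i, R ⧸ I i` is multiplication by an element, then
all `R`-linear maps `R ⧸ I i → R ⧸ I j` (`i ≠ j`) vanish. -/
lemma hom_eq_zero_of_forall_end_eq_mul
    (H : ∀ ψ : (∀ i, R ⧸ I i) →ₗ[R] (∀ i, R ⧸ I i), ∃ a : (∀ i, R ⧸ I i), ∀ b, ψ b = a * b)
    {i j : ι} (hij : i ≠ j) (φ : (R ⧸ I i) →ₗ[R] (R ⧸ I j)) : φ = 0 := by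
  obtain ⟨a, ha⟩ := H ((LinearMap.single R (fun i => R ⧸ I i) j) ∘ₗ φ ∘ₗ (LinearMap.proj i))
  have h1 := congrFun (ha (Pi.single i 1)) j
  simp only [LinearMap.coe_comp, Function.comp_apply, LinearMap.coe_proj, Function.eval,
    Pi.single_eq_same, LinearMap.coe_single, Pi.mul_apply] at h1
  rw [Pi.single_eq_of_ne hij.symm, mul_zero] at h1
  ext
  simpa using h1

end LemmaA

section LemmaB

variable {K : Type u} [Field K]

/-- If all `K[X]`-linear maps `K[X]/(a) → K[X]/(b)` vanish and `b ≠ 0`, then `a`, `b` are coprime. -/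
lemma isCoprime_of_forall_hom_eq_zero (a b : K[X]) (hb : b ≠ 0)
    (H : ∀ φ : (K[X] ⧸ Ideal.span {a}) →ₗ[K[X]] (K[X] ⧸ Ideal.span {b}), φ = 0) :
    IsCoprime a b := by
  classical
  rw [← EuclideanDomain.gcd_isUnit_iff]
  set d := EuclideanDomain.gcd a b with hd
  obtain ⟨a', ha'⟩ := EuclideanDomain.gcd_dvd_left a b
  obtain ⟨b', hb'⟩ := EuclideanDomain.gcd_dvd_right a b
  rw [← hd] at ha' hb'
  have hb'0 : b' ≠ 0 := by
    rintro rfl
    exact hb (by rw [hb', mul_zero])
  have hker : Ideal.span {a} ≤ LinearMap.ker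
      (LinearMap.toSpanSingleton K[X] (K[X] ⧸ Ideal.span {b}) (Ideal.Quotient.mk _ b')) := by
    rw [Ideal.span, Submodule.span_le]
    intro x hx
    rw [Set.mem_singleton_iff] at hx
    rw [hx]
    simp only [SetLike.mem_coe, LinearMap.mem_ker, LinearMap.toSpanSingleton_apply]
    change Ideal.Quotient.mk _ (a * b') = 0
    rw [Ideal.Quotient.eq_zero_iff_mem]
    exact Ideal.mem_span_singleton.mpr ⟨a', by rw [ha', hb']; ring⟩
  have h1 := H (Submodule.liftQ _ _ hker)
  have h2 := LinearMap.congr_fun h1 (Submodule.Quotient.mk 1)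
  rw [Submodule.liftQ_apply, LinearMap.toSpanSingleton_apply, one_smul, LinearMap.zero_apply,
    Ideal.Quotient.eq_zero_iff_mem, Ideal.mem_span_singleton] at h2
  obtain ⟨t, ht⟩ := h2
  have h3 : b' * (1 - d * t) = 0 := by
    rw [mul_sub, mul_one, sub_eq_zero]
    conv_lhs => rw [ht, hb']
    ring
  have h4 : 1 - d * t = 0 := (mul_eq_zero.mp h3).resolve_left hb'0
  exact IsUnit.of_mul_eq_one t (by linear_combination -h4)

end LemmaB

end Groth.Agent.Lib.Helper18Cyc
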