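import Mathlib

open Polynomial

namespace Groth.Agent.Lib.Helper18Cyc

universe u

section LemmaC

variable {K : Type u} [Field K] {n : ℕ} (g : Matrix (Fin n) (Fin n) K)
  {ι : Type u} [Fintype ι] (I : ι → Ideal K[X])
  (e' : Module.AEval' (Matrix.toLin' g) ≃ₗ[K[X]] (∀ i, K[X] ⧸ I i))

/-- The `K`-linear identification of `Q = Π i, K[X]/I i` with `K^n`. -/
noncomputable def E : (∀ i, K[X] ⧸ I i) ≃ₗ[K] (Fin n → K) :=
  (e'.restrictScalars K).symm ≪≫ₗ (Module.AEval'.of (Matrix.toLin' g)).symm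

lemma E_symm_apply (v : Fin n → K) :
    (E g I e').symm v = e' (Module.AEval'.of (Matrix.toLin' g) v) := rfl

lemma E_apply (b : ∀ i, K[X] ⧸ I i) :
    E g I e' b = (Module.AEval'.of (Matrix.toLin' g)).symm (e'.symm b) := rfl

lemma E_smul (r : K[X]) (b : ∀ i, K[X] ⧸ I i) :
    E g I e' (r • b) = aeval (Matrix.toLin' g) r (E g I e' b) := by
  rw [E_apply, map_smul, Module.AEval.of_symm_smul]
  rfl

lemma E_X_smul (b : ∀ i, K[X] ⧸ I i) :
    E g I e' ((X : K[X]) • b) = g.mulVec (E g I e' b) := by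
  rw [E_smul, aeval_X, Matrix.toLin'_apply]


/-- conjugate a `K`-linear endomorphism of `Q` to a matrix. -/
noncomputable def mat (ψ : (∀ i, K[X] ⧸ I i) →ₗ[K] (∀ i, K[X] ⧸ I i)) :
    Matrix (Fin n) (Fin n) K :=
  LinearMap.toMatrix' ((E g I e').conj ψ)

lemma mat_mulVec (ψ : (∀ i, K[X] ⧸ I i) →ₗ[K] (∀ i, K[X] ⧸ I i)) (v : Fin n → K) :
    (mat g I e' ψ).mulVec v = E g I e' (ψ ((E g I e').symm v)) := by
  rw [mat, ← Matrix.toLin'_apply, Matrix.toLin'_toMatrix', LinearEquiv.conj_apply]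
  rfl

lemma E_symm_mulVec (v : Fin n → K) :
    (E g I e').symm (g.mulVec v) = (X : K[X]) • (E g I e').symm v := by
  apply (E g I e').injective
  rw [LinearEquiv.apply_symm_apply, E_X_smul, LinearEquiv.apply_symm_apply]

lemma mat_comm (ψ : (∀ i, K[X] ⧸ I i) →ₗ[K] (∀ i, K[X] ⧸ I i))
    (hψ : ∀ b, ψ ((X : K[X]) • b) = (X : K[X]) • ψ b) :
    g * mat g I e' ψ = mat g I e' ψ * g := by
  apply Matrix.toLin'.injective
  apply LinearMap.ext
  intro v
  rw [Matrix.toLin'_apply, Matrix.toLin'_apply, ← Matrix.mulVec_mulVec, ← Matrix.mulVec_mulVec,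
    mat_mulVec, mat_mulVec, E_symm_mulVec, hψ, E_X_smul]

/-- the linear map `Q → centralizer`. -/
noncomputable def Lam : (∀ i, K[X] ⧸ I i) →ₗ[K] Matrix (Fin n) (Fin n) K :=
  (LinearMap.toMatrix' : _ ≃ₗ[K] _).toLinearMap ∘ₗ ((E g I e').conj).toLinearMap ∘ₗ
    (LinearMap.mul K (∀ i, K[X] ⧸ I i))

lemma Lam_apply (a : ∀ i, K[X] ⧸ I i) :
    Lam g I e' a = mat g I e' (LinearMap.mulLeft K a) := rfl

lemma Lam_injective : Function.Injective (Lam g I e') := by
  intro a a' h
  rw [Lam_apply, Lam_apply, mat, mat] at h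
  have h1 := (E g I e').conj.injective (LinearMap.toMatrix'.injective h)
  have h2 := LinearMap.congr_fun h1 1
  simpa using h2

lemma Lam_mem (a : ∀ i, K[X] ⧸ I i) :
    Lam g I e' a ∈ Subalgebra.centralizer K ({g} : Set (Matrix (Fin n) (Fin n) K)) := by
  rw [Subalgebra.mem_centralizer_iff]
  intro x hx
  rw [Set.mem_singleton_iff] at hx
  rw [hx, Lam_apply]
  apply mat_comm
  intro b
  simp only [LinearMap.mulLeft_apply]
  rw [mul_smul_comm]

include e' in
theorem forall_end_eq_mul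
    (hfin : Module.finrank K (Subalgebra.centralizer K ({g} : Set (Matrix (Fin n) (Fin n) K))) = n)
    (ψ : (∀ i, K[X] ⧸ I i) →ₗ[K[X]] (∀ i, K[X] ⧸ I i)) :
    ∃ a : (∀ i, K[X] ⧸ I i), ∀ b, ψ b = a * b := by
  have : FiniteDimensional K (∀ i, K[X] ⧸ I i) := (E g I e').symm.finiteDimensional
  have hQ : Module.finrank K (∀ i, K[X] ⧸ I i) = n := by
    rw [(E g I e').finrank_eq, Module.finrank_fin_fun]
  let L : (∀ i, K[X] ⧸ I i) →ₗ[K]
      (Subalgebra.centralizer K ({g} : Set (Matrix (Fin n) (Fin n) K))) :=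
    LinearMap.codRestrict
      (Subalgebra.toSubmodule (Subalgebra.centralizer K ({g} : Set (Matrix (Fin n) (Fin n) K))))
      (Lam g I e') (Lam_mem g I e')
  have hLinj : Function.Injective L := by
    intro a a' h
    apply Lam_injective g I e'
    exact congrArg Subtype.val h
  have hLsurj : Function.Surjective L :=
    (LinearMap.injective_iff_surjective_of_finrank_eq_finrank (hQ.trans hfin.symm)).mp hLinj
  have hmem : mat g I e' (ψ.restrictScalars K) ∈
      Subalgebra.centralizer K ({g} : Set (Matrix (Fin n) (Fin n) K)) := by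
    rw [Subalgebra.mem_centralizer_iff]
    intro x hx
    rw [Set.mem_singleton_iff] at hx
    rw [hx]
    apply mat_comm
    intro b
    simp
  obtain ⟨a, ha⟩ := hLsurj ⟨_, hmem⟩
  have ha' : Lam g I e' a = mat g I e' (ψ.restrictScalars K) := congrArg Subtype.val ha
  rw [Lam_apply, mat, mat] at ha'
  have h1 := (E g I e').conj.injective (LinearMap.toMatrix'.injective ha')
  refine ⟨a, fun b => ?_⟩
  have h2 := LinearMap.congr_fun h1 b
  simpa using h2.symm

end LemmaC

end Groth.Agent.Lib.Helper18Cyc
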