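import Groth.Agent.Lib.Helper18Cyc1
import Groth.Agent.Lib.Helper18Cyc2

open Polynomial Function

namespace Groth.Agent.Lib.Helper18Cyc

universe u

variable {K : Type u} [Field K] {n : ℕ}

theorem exists_cyclic (g : Matrix (Fin n) (Fin n) K)
    (hfin : Module.finrank K (Subalgebra.centralizer K ({g} : Set (Matrix (Fin n) (Fin n) K))) = n) :
    ∃ w : Fin n → K, ∀ v : Fin n → K, ∃ r : K[X], v = (aeval g r).mulVec w := by
  classical
  have hM : Module.IsTorsion K[X] (Module.AEval' (Matrix.toLin' g)) :=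
    Module.AEval.isTorsion_of_finiteDimensional K (Fin n → K) (Matrix.toLin' g)
  obtain ⟨ι, _, p, hp, e, ⟨eq⟩⟩ := Module.equiv_directSum_of_isTorsion hM
  let I : ι → Ideal K[X] := fun i => Ideal.span {p i ^ e i}
  let e' : Module.AEval' (Matrix.toLin' g) ≃ₗ[K[X]] (∀ i, K[X] ⧸ I i) :=
    eq ≪≫ₗ DirectSum.linearEquivFunOnFintype K[X] ι _
  have H := forall_end_eq_mul g I e' hfin
  have hcop : Pairwise (IsCoprime on I) := by
    intro i j hij
    exact (Ideal.isCoprime_span_singleton_iff _ _).mpr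
      (isCoprime_of_forall_hom_eq_zero _ _ (pow_ne_zero _ (hp j).ne_zero)
        (fun φ => hom_eq_zero_of_forall_end_eq_mul I H hij φ))
  have surj := Ideal.pi_mkQ_surjective hcop
  refine ⟨E g I e' 1, fun v => ?_⟩
  obtain ⟨r, hr⟩ := surj ((E g I e').symm v)
  refine ⟨r, ?_⟩
  have h1 : r • (1 : ∀ i, K[X] ⧸ I i) = (E g I e').symm v := by
    rw [← hr]
    funext i
    simp only [Pi.smul_apply, Pi.one_apply, LinearMap.pi_apply, Submodule.mkQ_apply]
    change r • (Submodule.Quotient.mk (1 : K[X]) : K[X] ⧸ I i) = _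
    rw [← Submodule.Quotient.mk_smul, smul_eq_mul, mul_one]
  have h2 : v = E g I e' (r • (1 : ∀ i, K[X] ⧸ I i)) := by
    rw [h1, LinearEquiv.apply_symm_apply]
  rw [h2, E_smul]
  have h3 : aeval (Matrix.toLin' g) r = Matrix.toLin' (aeval g r) := by
    have := Polynomial.aeval_algHom_apply (Matrix.toLinAlgEquiv' : Matrix (Fin n) (Fin n) K ≃ₐ[K] _).toAlgHom g r
    exact this
  rw [h3, Matrix.toLin'_apply]

end Groth.Agent.Lib.Helper18Cyc
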