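import Groth.Agent.Lib.Helper18Cyc3

open Polynomial Function

namespace Groth.Agent.Lib.Helper18Cyc

universe u

section krylov

variable {B : Type*} [CommRing B] {n : ℕ}

/-- Krylov matrix with columns `g ^ j *ᵥ w`. -/
def krylov (g : Matrix (Fin n) (Fin n) B) (w : Fin n → B) : Matrix (Fin n) (Fin n) B :=
  Matrix.of fun i j => ((g ^ (j : ℕ)).mulVec w) i

lemma krylov_mulVec (g : Matrix (Fin n) (Fin n) B) (w c : Fin n → B) :
    (krylov g w).mulVec c = (∑ j : Fin n, c j • g ^ (j : ℕ)).mulVec w := by
  funext i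
  simp only [krylov, Matrix.mulVec, dotProduct, Matrix.of_apply, Matrix.sum_apply,
    Matrix.smul_apply, smul_eq_mul, Finset.sum_mul]
  rw [Finset.sum_comm]
  refine Finset.sum_congr rfl fun j _ => ?_
  refine Finset.sum_congr rfl fun k _ => ?_
  ring

lemma mul_krylov (x g : Matrix (Fin n) (Fin n) B) (w : Fin n → B) (hx : Commute x g) :
    x * krylov g w = krylov g (x.mulVec w) := by
  ext i j
  have h1 : (x * krylov g w) i j = (x.mulVec ((g ^ (j : ℕ)).mulVec w)) i := by
    simp only [krylov, Matrix.mul_apply, Matrix.mulVec, dotProduct, Matrix.of_apply]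
  rw [h1, Matrix.mulVec_mulVec, (hx.pow_right _).eq, ← Matrix.mulVec_mulVec]
  rfl

lemma krylov_map {C : Type*} [CommRing C] (φ : B →+* C) (g : Matrix (Fin n) (Fin n) B)
    (w : Fin n → B) : (krylov g w).map φ = krylov (g.map φ) (φ ∘ w) := by
  ext i j
  simp only [krylov, Matrix.map_apply, Matrix.of_apply]
  have h1 : (g.map φ) ^ (j : ℕ) = (g ^ (j : ℕ)).map φ := by
    rw [← RingHom.mapMatrix_apply, ← RingHom.mapMatrix_apply, map_pow]
  rw [h1]
  simp only [Matrix.mulVec, dotProduct, Matrix.map_apply, map_sum, map_mul, Function.comp_apply]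

/-- If the Krylov matrix is invertible, the centralizer of `g` consists of polynomials in `g`, hence
is commutative. -/
lemma commute_of_isUnit_krylov (g : Matrix (Fin n) (Fin n) B) (w : Fin n → B)
    (hP : IsUnit (krylov g w)) (x y : Matrix (Fin n) (Fin n) B)
    (hx : Commute x g) (hy : Commute y g) : x * y = y * x := by
  obtain ⟨c, hc⟩ := Matrix.mulVec_surjective_iff_isUnit.mpr hP (x.mulVec w)
  set q : Matrix (Fin n) (Fin n) B := ∑ j : Fin n, c j • g ^ (j : ℕ) with hq
  have hqg : Commute q g := by
    rw [hq]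
    exact Commute.sum_left _ _ _ fun j _ => (Commute.pow_self g _).smul_left _
  have hqw : q.mulVec w = x.mulVec w := by rw [← hc, krylov_mulVec]
  have hxq : x = q := by
    have h1 : x * krylov g w = q * krylov g w := by
      rw [mul_krylov x g w hx, mul_krylov q g w hqg, hqw]
    exact hP.mul_left_injective h1
  have hyq : Commute y q := by
    rw [hq]
    exact Commute.sum_right _ _ _ fun j _ => (hy.pow_right _).smul_right _
  rw [hxq]
  exact hyq.eq.symm

end krylov

section field

variable {K : Type u} [Field K] {n : ℕ}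

theorem exists_isUnit_krylov (g : Matrix (Fin n) (Fin n) K)
    (hfin : Module.finrank K (Subalgebra.centralizer K ({g} : Set (Matrix (Fin n) (Fin n) K))) = n) :
    ∃ w : Fin n → K, IsUnit (krylov g w) := by
  obtain ⟨w, hw⟩ := exists_cyclic g hfin
  refine ⟨w, ?_⟩
  rcases Nat.eq_zero_or_pos n with hn | hn
  · subst hn
    exact isUnit_of_subsingleton _
  rw [← Matrix.mulVec_surjective_iff_isUnit]
  intro v
  obtain ⟨r, hr⟩ := hw v
  have hmonic : g.charpoly.Monic := Matrix.charpoly_monic g
  have hdeg : (r %ₘ g.charpoly).natDegree < n := by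
    have h1 : g.charpoly ≠ 1 := by
      intro h
      have := Matrix.charpoly_natDegree_eq_dim g
      rw [h, natDegree_one, Fintype.card_fin] at this
      omega
    have := natDegree_modByMonic_lt r hmonic h1
    rwa [Matrix.charpoly_natDegree_eq_dim, Fintype.card_fin] at this
  refine ⟨fun j => (r %ₘ g.charpoly).coeff j, ?_⟩
  rw [krylov_mulVec, hr, ← aeval_modByMonic_eq_self_of_root (p := r) (Matrix.aeval_self_charpoly g),
    aeval_eq_sum_range' hdeg, ← Fin.sum_univ_eq_sum_range (fun i => (r %ₘ g.charpoly).coeff i • g ^ i)]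

end field

end Groth.Agent.Lib.Helper18Cyc
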