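import Groth.Agent.Lib.Helper18Cyc4

open Polynomial Function

namespace Groth.Agent.Lib.Helper18Cyc

universe u

theorem commute_of_local {B : Type u} [CommRing B] [IsLocalRing B] {n : ℕ}
    (g : Matrix (Fin n) (Fin n) B)
    (hfin : Module.finrank (IsLocalRing.ResidueField B)
      (Subalgebra.centralizer (IsLocalRing.ResidueField B)
        ({g.map (IsLocalRing.residue B)} : Set (Matrix (Fin n) (Fin n) (IsLocalRing.ResidueField B)))) = n)
    (x y : Matrix (Fin n) (Fin n) B) (hx : Commute x g) (hy : Commute y g) : x * y = y * x := by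
  obtain ⟨w', hw'⟩ := exists_isUnit_krylov (g.map (IsLocalRing.residue B)) hfin
  choose w hw using fun i => IsLocalRing.residue_surjective (w' i)
  have hww : (IsLocalRing.residue B) ∘ w = w' := funext hw
  have hP : IsUnit (krylov g w) := by
    rw [Matrix.isUnit_iff_isUnit_det]
    apply isUnit_of_map_unit (IsLocalRing.residue B)
    rw [RingHom.map_det, RingHom.mapMatrix_apply, krylov_map, hww, ← Matrix.isUnit_iff_isUnit_det]
    exact hw'
  exact commute_of_isUnit_krylov g w hP x y hx hy

theorem main (A : Type u) [CommRing A] (n : ℕ)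
    (g : Matrix (Fin n) (Fin n) A)
    (hreg : ∀ (K : Type u) [Field K] (φ : A →+* K),
      Module.finrank K (Subalgebra.centralizer K ({g.map φ} : Set (Matrix (Fin n) (Fin n) K))) = n)
    (B : Type u) [CommRing B] [Algebra A B] (x y : Matrix (Fin n) (Fin n) B)
    (hxg : x * g.map (algebraMap A B) = g.map (algebraMap A B) * x)
    (hyg : y * g.map (algebraMap A B) = g.map (algebraMap A B) * y) :
    x * y = y * x := by
  rw [← sub_eq_zero]
  ext i j
  apply eq_zero_of_localization
  intro J hJ
  set ψ : B →+* Localization.AtPrime J := algebraMap B (Localization.AtPrime J) with hψ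
  have hg : ((g.map (algebraMap A B)).map ψ).map (IsLocalRing.residue (Localization.AtPrime J)) =
      g.map (((IsLocalRing.residue (Localization.AtPrime J)).comp (ψ.comp (algebraMap A B)))) := by
    rw [Matrix.map_map, Matrix.map_map]
    rfl
  have hfin := hreg (IsLocalRing.ResidueField (Localization.AtPrime J))
    ((IsLocalRing.residue (Localization.AtPrime J)).comp (ψ.comp (algebraMap A B)))
  rw [← hg] at hfin
  have hx : Commute (x.map ψ) ((g.map (algebraMap A B)).map ψ) := by
    change x.map ψ * (g.map (algebraMap A B)).map ψ = (g.map (algebraMap A B)).map ψ * x.map ψ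
    rw [← Matrix.map_mul, ← Matrix.map_mul, hxg]
  have hy : Commute (y.map ψ) ((g.map (algebraMap A B)).map ψ) := by
    change y.map ψ * (g.map (algebraMap A B)).map ψ = (g.map (algebraMap A B)).map ψ * y.map ψ
    rw [← Matrix.map_mul, ← Matrix.map_mul, hyg]
  have key := commute_of_local ((g.map (algebraMap A B)).map ψ) hfin (x.map ψ) (y.map ψ) hx hy
  have h1 : ψ ((x * y - y * x) i j) = (x.map ψ * y.map ψ - y.map ψ * x.map ψ) i j := by
    rw [← Matrix.map_mul, ← Matrix.map_mul, ← Matrix.map_sub _ (map_sub ψ)]
    rfl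
  rw [hψ] at h1
  rw [h1, key, sub_self]
  rfl

end Groth.Agent.Lib.Helper18Cyc
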