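import Groth.Agent.Lib.Helper18Cyc5

open Function

namespace Groth.Agent.Lib.Helper18Cyc

universe u

section krylov2

variable {B : Type*} [CommRing B] {n : ℕ}

lemma eq_sum_of_isUnit_krylov (g : Matrix (Fin n) (Fin n) B) (w : Fin n → B)
    (hP : IsUnit (krylov g w)) (x : Matrix (Fin n) (Fin n) B) (hx : Commute x g) :
    x = ∑ j : Fin n, ((krylov g w)⁻¹.mulVec (x.mulVec w)) j • g ^ (j : ℕ) := by
  set c := (krylov g w)⁻¹.mulVec (x.mulVec w) with hc
  have hdet : IsUnit (krylov g w).det := (Matrix.isUnit_iff_isUnit_det _).mp hP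
  have hc' : (krylov g w).mulVec c = x.mulVec w := by
    rw [hc, Matrix.mulVec_mulVec, Matrix.mul_nonsing_inv _ hdet, Matrix.one_mulVec]
  set q : Matrix (Fin n) (Fin n) B := ∑ j : Fin n, c j • g ^ (j : ℕ) with hq
  have hqg : Commute q g := by
    rw [hq]
    exact Commute.sum_left _ _ _ fun j _ => (Commute.pow_self g _).smul_left _
  have hqw : q.mulVec w = x.mulVec w := by rw [← hc', krylov_mulVec]
  have h1 : x * krylov g w = q * krylov g w := by
    rw [mul_krylov x g w hx, mul_krylov q g w hqg, hqw]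
  exact hP.mul_left_injective h1

lemma isUnit_krylov_map {C : Type*} [CommRing C] (φ : B →+* C) (g : Matrix (Fin n) (Fin n) B)
    (w : Fin n → B) (h : IsUnit (φ (krylov g w).det)) :
    IsUnit (krylov (g.map φ) (φ ∘ w)) := by
  rw [← krylov_map, Matrix.isUnit_iff_isUnit_det, ← RingHom.mapMatrix_apply, ← RingHom.map_det]
  exact h

end krylov2

/-- The ideal generated by the determinants of Krylov matrices is the unit ideal for a fiberwise
regular matrix. -/
theorem span_det_krylov_eq_top (A : Type u) [CommRing A] (n : ℕ) (g : Matrix (Fin n) (Fin n) A)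
    (hreg : ∀ (K : Type u) [Field K] (φ : A →+* K),
      Module.finrank K (Subalgebra.centralizer K ({g.map φ} : Set (Matrix (Fin n) (Fin n) K))) = n) :
    Ideal.span (Set.range fun w : Fin n → A => (krylov g w).det) = ⊤ := by
  by_contra hne
  obtain ⟨m, hm, hle⟩ := Ideal.exists_le_maximal _ hne
  letI : Field (A ⧸ m) := Ideal.Quotient.field m
  obtain ⟨w', hw'⟩ := exists_isUnit_krylov (g.map (Ideal.Quotient.mk m)) (hreg (A ⧸ m) (Ideal.Quotient.mk m))
  choose w hw using fun i => Ideal.Quotient.mk_surjective (w' i)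
  have hww : (Ideal.Quotient.mk m) ∘ w = w' := funext hw
  rw [← hww, ← krylov_map, Matrix.isUnit_iff_isUnit_det, ← RingHom.mapMatrix_apply,
    ← RingHom.map_det] at hw'
  have hmem : (krylov g w).det ∈ m := hle (Ideal.subset_span ⟨w, rfl⟩)
  rw [← Ideal.Quotient.eq_zero_iff_mem] at hmem
  rw [hmem] at hw'
  exact not_isUnit_zero hw'

end Groth.Agent.Lib.Helper18Cyc
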