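import Groth.Agent.Lib.Helper18Cyc6

open Function MvPolynomial

namespace Groth.Agent.Lib.Helper18Cyc

universe u

noncomputable section

variable (A : Type u) [CommRing A] (n : ℕ) (g : Matrix (Fin n) (Fin n) A)

abbrev MP := MvPolynomial (Fin n × Fin n) A

abbrev Xm : Matrix (Fin n) (Fin n) (MP A n) := Matrix.mvPolynomialX (Fin n) (Fin n) A

abbrev Jc : Ideal (MP A n) :=
  Ideal.span (Set.range fun ij : Fin n × Fin n =>
    (Xm A n * g.map MvPolynomial.C - g.map MvPolynomial.C * Xm A n :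
      Matrix (Fin n) (Fin n) (MP A n)) ij.1 ij.2)

abbrev Qc := MP A n ⧸ Jc A n g

abbrev dQ : Qc A n g := Ideal.Quotient.mk (Jc A n g) (Xm A n).det

abbrev Nc := Localization.Away (dQ A n g)

variable (w : Fin n → A)

abbrev δc : A := (krylov g w).det

abbrev Tc := Localization.Away (algebraMap A (Nc A n g) (δc A n g w))

abbrev Sc := Localization.Away (δc A n g w)

abbrev SP := MvPolynomial (Fin n) (Sc A n g w)

/-- generic element of the centralizer. -/
def Gc : Matrix (Fin n) (Fin n) (SP A n g w) :=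
  ∑ k : Fin n, (X k : SP A n g w) • (g.map (algebraMap A (SP A n g w))) ^ (k : ℕ)

abbrev Uc := Localization.Away (Gc A n g w).det

example : Algebra A (Uc A n g w) := inferInstance
example : Algebra A (Tc A n g w) := inferInstance
example : IsScalarTower A (SP A n g w) (Uc A n g w) := inferInstance
example : IsScalarTower A (Nc A n g) (Tc A n g w) := inferInstance
example : IsScalarTower A (Qc A n g) (Nc A n g) := inferInstance
example : IsScalarTower A (Sc A n g w) (SP A n g w) := inferInstance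

lemma flat_Uc : Module.Flat A (Uc A n g w) := by
  have h1 : Module.Flat A (Sc A n g w) := IsLocalization.flat _ (Submonoid.powers (δc A n g w))
  have h2 : Module.Flat A (SP A n g w) := Module.Flat.trans A (Sc A n g w) (SP A n g w)
  have h3 : Module.Flat (SP A n g w) (Uc A n g w) :=
    IsLocalization.flat _ (Submonoid.powers (Gc A n g w).det)
  exact Module.Flat.trans A (SP A n g w) (Uc A n g w)


/-! ### The map `Φ : T → U` -/

lemma Gc_commute : Commute (Gc A n g w) (g.map (algebraMap A (SP A n g w))) := by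
  rw [Gc]
  exact Commute.sum_left _ _ _ fun j _ => (Commute.pow_self _ _).smul_left _

/-- `MP → U`. -/
def Φ₀ : MP A n →ₐ[A] Uc A n g w :=
  MvPolynomial.aeval (fun ij : Fin n × Fin n =>
    algebraMap (SP A n g w) (Uc A n g w) (Gc A n g w ij.1 ij.2))

lemma Xm_map_Φ₀ : (Xm A n).map (Φ₀ A n g w) =
    (Gc A n g w).map (algebraMap (SP A n g w) (Uc A n g w)) := by
  ext i j
  simp [Φ₀, Matrix.mvPolynomialX]

lemma gC_map_Φ₀ : (g.map MvPolynomial.C).map (Φ₀ A n g w) =
    g.map (algebraMap A (Uc A n g w)) := by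
  ext i j
  simp [Φ₀]

lemma g_map_SP_U : (g.map (algebraMap A (SP A n g w))).map (algebraMap (SP A n g w) (Uc A n g w)) =
    g.map (algebraMap A (Uc A n g w)) := by
  ext i j
  simp only [Matrix.map_apply]
  rw [← IsScalarTower.algebraMap_apply]

lemma Φ₀_kills : ∀ a ∈ Jc A n g, Φ₀ A n g w a = 0 := by
  intro a ha
  have hle : Jc A n g ≤ RingHom.ker (Φ₀ A n g w : MP A n →+* Uc A n g w) := by
    rw [Jc, Ideal.span_le]
    rintro _ ⟨ij, rfl⟩
    rw [SetLike.mem_coe, RingHom.mem_ker]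
    have h1 : ((Xm A n * g.map MvPolynomial.C - g.map MvPolynomial.C * Xm A n).map
        (Φ₀ A n g w)) = 0 := by
      rw [Matrix.map_sub _ (map_sub (Φ₀ A n g w)), Matrix.map_mul, Matrix.map_mul, Xm_map_Φ₀,
        gC_map_Φ₀, ← g_map_SP_U, ← Matrix.map_mul, ← Matrix.map_mul, (Gc_commute A n g w).eq,
        sub_self]
    have h2 := congrFun (congrFun h1 ij.1) ij.2
    simpa using h2
  exact hle ha

/-- `Q → U`. -/
def Φ₁ : Qc A n g →ₐ[A] Uc A n g w :=
  Ideal.Quotient.liftₐ (Jc A n g) (Φ₀ A n g w) (Φ₀_kills A n g w)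

lemma Φ₁_mk (a : MP A n) : Φ₁ A n g w (Ideal.Quotient.mk _ a) = Φ₀ A n g w a := rfl

lemma Φ₁_dQ : Φ₁ A n g w (dQ A n g) =
    algebraMap (SP A n g w) (Uc A n g w) (Gc A n g w).det := by
  rw [dQ, Φ₁_mk, ← AlgHom.coe_toRingHom, RingHom.map_det, RingHom.mapMatrix_apply,
    RingHom.map_det, RingHom.mapMatrix_apply]
  congr 1
  exact Xm_map_Φ₀ A n g w

/-- `N → U`. -/
def Φ₂ : Nc A n g →ₐ[A] Uc A n g w :=
  IsLocalization.Away.liftAlgHom (dQ A n g) (f := Φ₁ A n g w) (by
    rw [Φ₁_dQ]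
    exact IsLocalization.Away.algebraMap_isUnit _)

lemma Φ₂_algebraMap (a : Qc A n g) : Φ₂ A n g w (algebraMap _ _ a) = Φ₁ A n g w a := by
  rw [Φ₂, IsLocalization.Away.liftAlgHom_apply, IsLocalization.Away.lift_eq]
  rfl

lemma isUnit_δ_Uc : IsUnit (algebraMap A (Uc A n g w) (δc A n g w)) := by
  rw [IsScalarTower.algebraMap_apply A (SP A n g w) (Uc A n g w),
    IsScalarTower.algebraMap_apply A (Sc A n g w) (SP A n g w)]
  exact ((IsLocalization.Away.algebraMap_isUnit (δc A n g w)).map _).map _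

/-- `T → U`. -/
def Φ : Tc A n g w →ₐ[A] Uc A n g w :=
  IsLocalization.Away.liftAlgHom (algebraMap A (Nc A n g) (δc A n g w)) (f := Φ₂ A n g w) (by
    rw [AlgHom.commutes]
    exact isUnit_δ_Uc A n g w)

lemma Φ_algebraMap (a : Nc A n g) : Φ A n g w (algebraMap _ _ a) = Φ₂ A n g w a := by
  rw [Φ, IsLocalization.Away.liftAlgHom_apply, IsLocalization.Away.lift_eq]
  rfl

end

end Groth.Agent.Lib.Helper18Cyc
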