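import Groth.Agent.Lib.Helper18Cyc7

open Function MvPolynomial

namespace Groth.Agent.Lib.Helper18Cyc

universe u

noncomputable section

variable (A : Type u) [CommRing A] (n : ℕ) (g : Matrix (Fin n) (Fin n) A) (w : Fin n → A)

/-! ### The map `Ψ : U → T` -/

/-- `MP → T`. -/
def ρ : MP A n →ₐ[A] Tc A n g w :=
  (Algebra.algHom A (Nc A n g) (Tc A n g w)).comp
    ((Algebra.algHom A (Qc A n g) (Nc A n g)).comp (Ideal.Quotient.mkₐ A (Jc A n g)))

lemma ρ_apply (a : MP A n) : ρ A n g w a =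
    algebraMap (Nc A n g) (Tc A n g w) (algebraMap (Qc A n g) (Nc A n g)
      (Ideal.Quotient.mk (Jc A n g) a)) := rfl

/-- the generic commuting matrix over `T`. -/
def XT : Matrix (Fin n) (Fin n) (Tc A n g w) := (Xm A n).map (ρ A n g w)

abbrev gT : Matrix (Fin n) (Fin n) (Tc A n g w) := g.map (algebraMap A (Tc A n g w))

lemma gC_map_ρ : (g.map MvPolynomial.C).map (ρ A n g w) = gT A n g w := by
  ext i j
  simp only [Matrix.map_apply]
  rw [← MvPolynomial.algebraMap_eq, AlgHom.commutes]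

lemma XT_commute : Commute (XT A n g w) (gT A n g w) := by
  have h1 : ((Xm A n * g.map MvPolynomial.C - g.map MvPolynomial.C * Xm A n).map
      (ρ A n g w)) = 0 := by
    ext i j
    simp only [Matrix.map_apply, Matrix.zero_apply]
    rw [ρ_apply]
    have : Ideal.Quotient.mk (Jc A n g)
        ((Xm A n * g.map MvPolynomial.C - g.map MvPolynomial.C * Xm A n :
          Matrix (Fin n) (Fin n) (MP A n)) i j) = 0 := by
      rw [Ideal.Quotient.eq_zero_iff_mem]
      exact Ideal.subset_span ⟨(i, j), rfl⟩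
    rw [this, map_zero, map_zero]
  rw [Matrix.map_sub _ (map_sub (ρ A n g w)), Matrix.map_mul, Matrix.map_mul, gC_map_ρ,
    sub_eq_zero] at h1
  exact h1

lemma isUnit_δ_Tc : IsUnit (algebraMap A (Tc A n g w) (δc A n g w)) := by
  rw [IsScalarTower.algebraMap_apply A (Nc A n g) (Tc A n g w)]
  exact IsLocalization.Away.algebraMap_isUnit _

abbrev wT : Fin n → Tc A n g w := (algebraMap A (Tc A n g w)) ∘ w

lemma isUnit_krylov_T : IsUnit (krylov (gT A n g w) (wT A n g w)) :=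
  isUnit_krylov_map (algebraMap A (Tc A n g w)) g w (isUnit_δ_Tc A n g w)

/-- the coefficients of the generic commuting matrix in terms of powers of `g`. -/
def cT : Fin n → Tc A n g w :=
  (krylov (gT A n g w) (wT A n g w))⁻¹.mulVec ((XT A n g w).mulVec (wT A n g w))

lemma XT_eq : XT A n g w = ∑ k : Fin n, cT A n g w k • (gT A n g w) ^ (k : ℕ) :=
  eq_sum_of_isUnit_krylov _ _ (isUnit_krylov_T A n g w) _ (XT_commute A n g w)

/-- `S → T`. -/
def ΨS : Sc A n g w →ₐ[A] Tc A n g w :=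
  IsLocalization.Away.liftAlgHom (δc A n g w) (f := Algebra.ofId A (Tc A n g w))
    (isUnit_δ_Tc A n g w)

/-- `SP → T`. -/
def Ψ₀ : SP A n g w →ₐ[A] Tc A n g w where
  toRingHom := MvPolynomial.eval₂Hom (ΨS A n g w : Sc A n g w →+* Tc A n g w) (cT A n g w)
  commutes' a := by
    change MvPolynomial.eval₂Hom _ _ (algebraMap A (SP A n g w) a) = _
    rw [IsScalarTower.algebraMap_apply A (Sc A n g w) (SP A n g w), MvPolynomial.algebraMap_eq,
      MvPolynomial.eval₂Hom_C]
    exact (ΨS A n g w).commutes a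

lemma Ψ₀_X (k : Fin n) : Ψ₀ A n g w (X k) = cT A n g w k := by
  exact MvPolynomial.eval₂Hom_X' (ΨS A n g w : Sc A n g w →+* Tc A n g w) (cT A n g w) k

lemma Gc_map_Ψ₀ : (Gc A n g w).map (Ψ₀ A n g w) = XT A n g w := by
  rw [XT_eq, Gc]
  change (RingHom.mapMatrix (Ψ₀ A n g w : SP A n g w →+* Tc A n g w)) _ = _
  rw [map_sum]
  refine Finset.sum_congr rfl fun k _ => ?_
  have h1 : (RingHom.mapMatrix (Ψ₀ A n g w : SP A n g w →+* Tc A n g w))
      ((X k : SP A n g w) • (g.map (algebraMap A (SP A n g w))) ^ (k : ℕ)) =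
      (Ψ₀ A n g w (X k : SP A n g w) : Tc A n g w) •
        (RingHom.mapMatrix (Ψ₀ A n g w : SP A n g w →+* Tc A n g w))
        ((g.map (algebraMap A (SP A n g w))) ^ (k : ℕ)) := by
    exact Matrix.map_smul' (Ψ₀ A n g w) (X k : SP A n g w) _ (map_mul _)
  rw [h1, Ψ₀_X, map_pow]
  congr 2
  ext i j
  simp only [RingHom.mapMatrix_apply, Matrix.map_apply]
  exact (Ψ₀ A n g w).commutes (g i j)

lemma Ψ₀_det : Ψ₀ A n g w (Gc A n g w).det =
    algebraMap (Nc A n g) (Tc A n g w) (algebraMap (Qc A n g) (Nc A n g) (dQ A n g)) := by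
  rw [← AlgHom.coe_toRingHom, RingHom.map_det, RingHom.mapMatrix_apply]
  have h1 := Gc_map_Ψ₀ A n g w
  rw [show ((Gc A n g w).map ((Ψ₀ A n g w : SP A n g w →ₐ[A] Tc A n g w) : SP A n g w →+* Tc A n g w)) =
    (Gc A n g w).map (Ψ₀ A n g w) from rfl, h1, XT, ← ρ_apply]
  exact (RingHom.map_det (ρ A n g w : MP A n →+* Tc A n g w) (Xm A n)).symm

/-- `U → T`. -/
def Ψ : Uc A n g w →ₐ[A] Tc A n g w :=
  IsLocalization.Away.liftAlgHom (Gc A n g w).det (f := Ψ₀ A n g w) (by
    rw [Ψ₀_det]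
    exact (IsLocalization.Away.algebraMap_isUnit _).map _)

lemma Ψ_algebraMap (a : SP A n g w) : Ψ A n g w (algebraMap _ _ a) = Ψ₀ A n g w a := by
  rw [Ψ, IsLocalization.Away.liftAlgHom_apply, IsLocalization.Away.lift_eq]
  rfl

end

end Groth.Agent.Lib.Helper18Cyc
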