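import Groth.Agent.Lib.Helper18Cyc8

open Function MvPolynomial

namespace Groth.Agent.Lib.Helper18Cyc

universe u

noncomputable section

variable (A : Type u) [CommRing A] (n : ℕ) (g : Matrix (Fin n) (Fin n) A) (w : Fin n → A)

lemma Ψ_comp_Φ : (Ψ A n g w).comp (Φ A n g w) = AlgHom.id A (Tc A n g w) := by
  apply IsLocalization.algHom_ext (Submonoid.powers (algebraMap A (Nc A n g) (δc A n g w)))
  apply IsLocalization.algHom_ext (Submonoid.powers (dQ A n g))
  apply Ideal.Quotient.algHom_ext
  apply MvPolynomial.algHom_ext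
  intro ij
  change Ψ A n g w (Φ A n g w (algebraMap (Nc A n g) (Tc A n g w)
    (algebraMap (Qc A n g) (Nc A n g) (Ideal.Quotient.mk (Jc A n g) (X ij))))) =
    algebraMap (Nc A n g) (Tc A n g w)
    (algebraMap (Qc A n g) (Nc A n g) (Ideal.Quotient.mk (Jc A n g) (X ij)))
  rw [Φ_algebraMap, Φ₂_algebraMap, Φ₁_mk, Φ₀, MvPolynomial.aeval_X, Ψ_algebraMap, ← ρ_apply]
  have h1 := congrFun (congrFun (Gc_map_Ψ₀ A n g w) ij.1) ij.2
  rw [Matrix.map_apply] at h1
  rw [h1, XT, Matrix.map_apply]
  rfl

theorem flat_Tc : Module.Flat A (Tc A n g w) := by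
  haveI := flat_Uc A n g w
  refine Module.Flat.of_retract (Φ A n g w).toLinearMap (Ψ A n g w).toLinearMap ?_
  ext x
  exact AlgHom.congr_fun (Ψ_comp_Φ A n g w) x

theorem flat_Nc
    (hreg : ∀ (K : Type u) [Field K] (φ : A →+* K),
      Module.finrank K (Subalgebra.centralizer K ({g.map φ} : Set (Matrix (Fin n) (Fin n) K))) = n) :
    Module.Flat A (Nc A n g) := by
  have hspan := span_det_krylov_eq_top A n g hreg
  let s : Set (Nc A n g) := Set.range fun w : Fin n → A => algebraMap A (Nc A n g) (δc A n g w)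
  have hs : Ideal.span s = ⊤ := by
    have := congrArg (Ideal.map (algebraMap A (Nc A n g))) hspan
    rw [Ideal.map_span, Ideal.map_top, ← Set.range_comp] at this
    exact this
  refine Module.flat_of_isLocalized_span _ _ s hs _
    (fun r => Algebra.linearMap (Nc A n g) (Localization.Away r.1)) ?_
  rintro ⟨r, w, rfl⟩
  exact flat_Tc A n g w

end

end Groth.Agent.Lib.Helper18Cyc
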