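import Mathlib
import Groth.Prelude.Def_RelProj2
import Groth.Agent.Lib.Helper13ModAffine
import Groth.Agent.Lib.Helper18QCAlg1
import Groth.Agent.Lib.Helper23QCohAbelian
import Groth.Agent.Lib.Helper17GrSysCoh

/-!
# The degree-one part of a quasi-coherent graded algebra, as a quasi-coherent module (helper18)
-/

set_option autoImplicit false
universe u
open CategoryTheory Limits AlgebraicGeometry TopologicalSpace Opposite
open scoped HomogeneousIdeal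
open Scheme.AffineZariskiSite

namespace Groth.Agent.Helper18DegOne

variable {Y : Scheme.{u}} (𝒮 : RelProj.QCGrAlg Y)

/-- a section of the underlying module, as a ring element. -/
abbrev toR {U : Y.Opens} (x : Γ(𝒮.toModule, U)) : 𝒮.presheaf.obj (op U) := x

/-- a ring element, as a section of the underlying module. -/
abbrev ofR {U : Y.Opens} (x : 𝒮.presheaf.obj (op U)) : Γ(𝒮.toModule, U) := x

/-- the degree-`d` component of an element over an affine open -/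
noncomputable abbrev comp (d : ℕ) (U : Y.Opens) (hU : IsAffineOpen U) (x : 𝒮.presheaf.obj (op U)) :
    𝒮.presheaf.obj (op U) :=
  ((DirectSum.decompose (𝒮.deg U hU) x d : 𝒮.deg U hU d) : 𝒮.presheaf.obj (op U))

/-- the degree-`d` projector over an affine open -/
noncomputable def projAt (d : ℕ) (U : Y.Opens) (hU : IsAffineOpen U) :
    Γ(𝒮.toModule, U) ⟶ Γ(𝒮.toModule, U) :=
  (AddCommGrpCat.ofHom (GradedRing.proj (𝒮.deg U hU) d) :
    AddCommGrpCat.of (𝒮.presheaf.obj (op U)) ⟶ AddCommGrpCat.of (𝒮.presheaf.obj (op U)))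

theorem projAt_apply (d : ℕ) (U : Y.Opens) (hU : IsAffineOpen U) (x : Γ(𝒮.toModule, U)) :
    projAt 𝒮 d U hU x = ofR 𝒮 (comp 𝒮 d U hU (toR 𝒮 x)) := rfl

theorem projAt_nat (d : ℕ) {U V : Y.AffineZariskiSite} (i : V ⟶ U) :
    𝒮.toModule.presheaf.map (homOfLE (toOpens_mono i.le)).op ≫ projAt 𝒮 d V.1 V.2 =
      projAt 𝒮 d U.1 U.2 ≫ 𝒮.toModule.presheaf.map (homOfLE (toOpens_mono i.le)).op := by
  ext x
  change comp 𝒮 d V.1 V.2 ((𝒮.res U.2 V.2 (toOpens_mono i.le)) (toR 𝒮 x)) =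
    (𝒮.res U.2 V.2 (toOpens_mono i.le)) (comp 𝒮 d U.1 U.2 (toR 𝒮 x))
  unfold comp
  rw [GradedRingHom.map_directSumDecompose]

theorem projAt_lin (d : ℕ) (U : Y.Opens) (hU : IsAffineOpen U) (a : Γ(Y, U)) (m : Γ(𝒮.toModule, U)) :
    projAt 𝒮 d U hU (a • m) = a • projAt 𝒮 d U hU m := by
  change comp 𝒮 d U hU ((𝒮.str.app (op U)).hom a * toR 𝒮 m) =
    (𝒮.str.app (op U)).hom a * comp 𝒮 d U hU (toR 𝒮 m)
  have h := DirectSum.coe_decompose_mul_add_of_left_mem (𝒮.deg U hU) (i := 0) (j := d)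
    (b := toR 𝒮 m) (𝒮.str_mem U hU a)
  rw [zero_add] at h
  exact h

/-- the degree-`d` projector of the underlying module. -/
noncomputable def proj (d : ℕ) : 𝒮.toModule ⟶ 𝒮.toModule :=
  Groth.Agent.Helper13ModAffine.homOfAffine (projAt 𝒮 d) (fun {_ _} i => projAt_nat 𝒮 d i) (projAt_lin 𝒮 d)

theorem proj_app (d : ℕ) (U : Y.Opens) (hU : IsAffineOpen U) (x : Γ(𝒮.toModule, U)) :
    (proj 𝒮 d).app U x = ofR 𝒮 (comp 𝒮 d U hU (toR 𝒮 x)) := by
  have h := Groth.Agent.Helper13ModAffine.homOfAffine_app (projAt 𝒮 d) (fun {_ _} i => projAt_nat 𝒮 d i)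
    (projAt_lin 𝒮 d) U hU
  exact congrArg (fun φ => φ x) h

/-- the degree-one part `𝒮_1`, as a module. -/
noncomputable def degOne : Y.Modules := kernel (𝟙 𝒮.toModule - proj 𝒮 1)

/-- the inclusion `𝒮_1 ⟶ 𝒮`. -/
noncomputable def degOneι : degOne 𝒮 ⟶ 𝒮.toModule := kernel.ι _

instance : (degOne 𝒮).IsQuasicoherent := by
  have : 𝒮.toModule.IsQuasicoherent := Groth.Agent.Helper18QCAlg.isQuasicoherent_toModule 𝒮.toQCAlg
  exact Groth.Agent.Lib.Helper23.QCohLocal.isQuasicoherent_kernel _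

theorem degOneι_mem (U : Y.Opens) (hU : IsAffineOpen U) (x : Γ(degOne 𝒮, U)) :
    toR 𝒮 ((degOneι 𝒮).app U x) ∈ 𝒮.deg U hU 1 := by
  have h0 : degOneι 𝒮 ≫ (𝟙 𝒮.toModule - proj 𝒮 1) = 0 := kernel.condition _
  have h1 := congrArg (fun φ : degOne 𝒮 ⟶ 𝒮.toModule => φ.app U x) h0
  have h2 : (degOneι 𝒮).app U x - (proj 𝒮 1).app U ((degOneι 𝒮).app U x) = 0 := h1
  rw [proj_app 𝒮 1 U hU, sub_eq_zero] at h2
  have h3 : toR 𝒮 ((degOneι 𝒮).app U x) = comp 𝒮 1 U hU (toR 𝒮 ((degOneι 𝒮).app U x)) := h2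
  rw [h3]
  exact SetLike.coe_mem _

theorem exists_degOneι_eq (U : Y.Opens) (hU : IsAffineOpen U) (y : 𝒮.presheaf.obj (op U))
    (hy : y ∈ 𝒮.deg U hU 1) : ∃ x : Γ(degOne 𝒮, U), toR 𝒮 ((degOneι 𝒮).app U x) = y := by
  refine Groth.Agent.Lib.Helper17.GrSysCoh.exists_app_kernel_ι (𝟙 𝒮.toModule - proj 𝒮 1) U (ofR 𝒮 y) ?_
  change ofR 𝒮 y - (proj 𝒮 1).app U (ofR 𝒮 y) = 0
  rw [proj_app 𝒮 1 U hU, sub_eq_zero]
  change y = comp 𝒮 1 U hU y
  unfold comp
  rw [DirectSum.decompose_of_mem_same _ hy]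

end Groth.Agent.Helper18DegOne
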