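import Mathlib
import Groth.Prelude.Def_RelProj2

/-!
# Ring-level lemma: a graded homomorphism onto the degree-one part of an algebra generated in degrees zero and one
is surjective in positive degrees (helper18)
-/

set_option autoImplicit false
set_option linter.unusedSectionVars false
universe u
open scoped HomogeneousIdeal

namespace Groth.Agent.Helper18DegOne

section ring

variable {A B : Type u} [CommRing A] [CommRing B] {𝒜 : ℕ → AddSubgroup A} {ℬ : ℕ → AddSubgroup B}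
  [GradedRing 𝒜] [GradedRing ℬ] (f : 𝒜 →+*ᵍ ℬ)

/-- if `ℬ` is generated by `ℬ_0 ∪ ℬ_1` and `ℬ_1` is in the image of `𝒜_1`, then every element of `ℬ` is the sum of an
element of `ℬ_0` and an element of the image of `f`. -/
theorem exists_sub_mem_range (hgen : Subring.closure ((ℬ 0 : Set B) ∪ (ℬ 1 : Set B)) = ⊤)
    (h1 : ∀ b ∈ ℬ 1, ∃ a ∈ 𝒜 1, f a = b) (x : B) :
    ∃ s ∈ ℬ 0, ∃ t : A, f t = x - s := by
  -- `M a`: all `ℬ_0`-multiples of `a` are in the range
  let M : B → Prop := fun a => ∀ s ∈ ℬ 0, ∃ t : A, f t = s * a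
  have hM0 : M 0 := fun s _ => ⟨0, by rw [map_zero, mul_zero]⟩
  have hMadd : ∀ a a', M a → M a' → M (a + a') := by
    intro a a' ha ha' s hs
    obtain ⟨t, ht⟩ := ha s hs
    obtain ⟨t', ht'⟩ := ha' s hs
    exact ⟨t + t', by rw [map_add, ht, ht', mul_add]⟩
  have hMneg : ∀ a, M a → M (-a) := by
    intro a ha s hs
    obtain ⟨t, ht⟩ := ha s hs
    exact ⟨-t, by rw [map_neg, ht, mul_neg]⟩
  have hMsmul : ∀ s' ∈ ℬ 0, ∀ a, M a → M (s' * a) := by
    intro s' hs' a ha s hs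
    have hss : s * s' ∈ ℬ 0 := by
      have := SetLike.GradedMul.mul_mem hs hs'
      rwa [add_zero] at this
    obtain ⟨t, ht⟩ := ha (s * s') hss
    exact ⟨t, by rw [ht, mul_assoc]⟩
  have hone : (1 : B) ∈ ℬ 0 := SetLike.GradedOne.one_mem
  have hMrange : ∀ a, M a → ∃ t : A, f t = a := by
    intro a ha
    obtain ⟨t, ht⟩ := ha 1 hone
    exact ⟨t, by rw [ht, one_mul]⟩
  have hMmul : ∀ a a', M a → M a' → M (a * a') := by
    intro a a' ha ha' s hs
    obtain ⟨t, ht⟩ := ha s hs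
    obtain ⟨t', ht'⟩ := hMrange a' ha'
    exact ⟨t * t', by rw [map_mul, ht, ht', mul_assoc]⟩
  have hM1 : ∀ b ∈ ℬ 1, M b := by
    intro b hb s hs
    have hsb : s * b ∈ ℬ 1 := by
      have := SetLike.GradedMul.mul_mem hs hb
      rwa [zero_add] at this
    obtain ⟨a, -, ha⟩ := h1 _ hsb
    exact ⟨a, ha⟩
  have key : ∀ x ∈ Subring.closure ((ℬ 0 : Set B) ∪ (ℬ 1 : Set B)), ∃ s ∈ ℬ 0, M (x - s) := by
    intro x hx
    induction hx using Subring.closure_induction with
    | mem x hx =>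
      rcases hx with hx | hx
      · exact ⟨x, hx, by rw [sub_self]; exact hM0⟩
      · exact ⟨0, zero_mem _, by rw [sub_zero]; exact hM1 x hx⟩
    | zero => exact ⟨0, zero_mem _, by rw [sub_zero]; exact hM0⟩
    | one => exact ⟨1, hone, by rw [sub_self]; exact hM0⟩
    | add x y _ _ hx hy =>
      obtain ⟨s, hs, hxs⟩ := hx
      obtain ⟨s', hs', hys⟩ := hy
      refine ⟨s + s', add_mem hs hs', ?_⟩
      have : x + y - (s + s') = (x - s) + (y - s') := by ring
      rw [this]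
      exact hMadd _ _ hxs hys
    | neg x _ hx =>
      obtain ⟨s, hs, hxs⟩ := hx
      refine ⟨-s, neg_mem hs, ?_⟩
      have : -x - -s = -(x - s) := by ring
      rw [this]
      exact hMneg _ hxs
    | mul x y _ _ hx hy =>
      obtain ⟨s, hs, hxs⟩ := hx
      obtain ⟨s', hs', hys⟩ := hy
      have hss : s * s' ∈ ℬ 0 := by
        have := SetLike.GradedMul.mul_mem hs hs'
        rwa [add_zero] at this
      refine ⟨s * s', hss, ?_⟩
      have : x * y - s * s' = (x - s) * (y - s') + (s * (y - s') + s' * (x - s)) := by ring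
      rw [this]
      exact hMadd _ _ (hMmul _ _ hxs hys) (hMadd _ _ (hMsmul s hs _ hys) (hMsmul s' hs' _ hxs))
  obtain ⟨s, hs, hxs⟩ := key x (by rw [hgen]; trivial)
  exact ⟨s, hs, hMrange _ hxs⟩

/-- surjectivity in positive degrees. -/
theorem exists_mem_of_gen (hgen : Subring.closure ((ℬ 0 : Set B) ∪ (ℬ 1 : Set B)) = ⊤)
    (h1 : ∀ b ∈ ℬ 1, ∃ a ∈ 𝒜 1, f a = b) (d : ℕ) (hd : 0 < d) (b : B) (hb : b ∈ ℬ d) :
    ∃ a ∈ 𝒜 d, f a = b := by
  classical
  obtain ⟨s, hs, t, ht⟩ := exists_sub_mem_range f hgen h1 b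
  refine ⟨(DirectSum.decompose 𝒜 t d : A), SetLike.coe_mem _, ?_⟩
  rw [GradedRingHom.map_directSumDecompose, ht, DirectSum.decompose_sub]
  change ((DirectSum.decompose ℬ b d : ℬ d) : B) - ((DirectSum.decompose ℬ s d : ℬ d) : B) = b
  rw [DirectSum.decompose_of_mem_same ℬ hb, DirectSum.decompose_of_mem_ne ℬ hs hd.ne, sub_zero]

/-- the irrelevant ideal of the target is generated by the image of that of the source. -/
theorem irrelevant_le_map_of_gen (hgen : Subring.closure ((ℬ 0 : Set B) ∪ (ℬ 1 : Set B)) = ⊤)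
    (h1 : ∀ b ∈ ℬ 1, ∃ a ∈ 𝒜 1, f a = b) : ℬ₊ ≤ 𝒜₊.map f := by
  rw [HomogeneousIdeal.irrelevant_le]
  intro i hi b hb
  obtain ⟨a, ha, rfl⟩ := exists_mem_of_gen f hgen h1 i hi b hb
  exact Ideal.mem_map_of_mem _ (HomogeneousIdeal.mem_irrelevant_of_mem _ hi ha)

end ring

end Groth.Agent.Helper18DegOne
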