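import Mathlib
import Groth.Prelude.Def_RelProj
import Groth.Agent.Lib.Helper13QCAlgOfAffine

set_option autoImplicit false

namespace Groth.Agent.Helper18GrAlgA

open CategoryTheory CategoryTheory.Limits AlgebraicGeometry Opposite TopologicalSpace
open scoped HomogeneousIdeal DirectSum

universe u

section transport

variable {A B : Type*} [CommRing A] [CommRing B] {τ : Type*} [SetLike τ B] [AddSubgroupClass τ B]

/-- pull a grading back along a ring isomorphism -/
def comapDeg (e : A ≃+* B) (ℬ : ℕ → τ) (d : ℕ) : AddSubgroup A where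
  carrier := {a | e a ∈ ℬ d}
  zero_mem' := by simp [zero_mem]
  add_mem' := fun {a b} ha hb => by
    change e (a + b) ∈ ℬ d
    rw [map_add]; exact add_mem ha hb
  neg_mem' := fun {a} ha => by
    change e (-a) ∈ ℬ d
    rw [map_neg]; exact neg_mem ha

theorem mem_comapDeg (e : A ≃+* B) (ℬ : ℕ → τ) (d : ℕ) (a : A) :
    a ∈ comapDeg e ℬ d ↔ e a ∈ ℬ d := Iff.rfl

instance gradedMonoid_comapDeg (e : A ≃+* B) (ℬ : ℕ → τ) [GradedRing ℬ] :
    SetLike.GradedMonoid (comapDeg e ℬ) where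
  one_mem := by
    change e 1 ∈ ℬ 0
    rw [map_one]; exact SetLike.GradedOne.one_mem
  mul_mem := fun i j a b ha hb => by
    change e (a * b) ∈ ℬ (i + j)
    rw [map_mul]; exact SetLike.GradedMul.mul_mem ha hb

/-- the componentwise transport maps -/
def pieceHom (e : A ≃+* B) (ℬ : ℕ → τ) (d : ℕ) : ℬ d →+ comapDeg e ℬ d where
  toFun b := ⟨e.symm b, by change e (e.symm b) ∈ ℬ d; rw [e.apply_symm_apply]; exact b.2⟩
  map_zero' := by ext; simp
  map_add' := fun a b => by ext; simp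

theorem coe_map_pieceHom (e : A ≃+* B) (ℬ : ℕ → τ) [GradedRing ℬ] (x : ⨁ d, ℬ d) :
    DirectSum.coeAddMonoidHom (comapDeg e ℬ) (DirectSum.map (pieceHom e ℬ) x) =
      e.symm (DirectSum.coeAddMonoidHom ℬ x) := by
  induction x using DirectSum.induction_on with
  | zero => simp
  | of i b =>
    rw [DirectSum.map_of, DirectSum.coeAddMonoidHom_of, DirectSum.coeAddMonoidHom_of]
    rfl
  | add x y hx hy => rw [map_add, map_add, hx, hy, map_add, map_add]

/-- the decomposition map -/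
noncomputable def decompHom (e : A ≃+* B) (ℬ : ℕ → τ) [GradedRing ℬ] : A →+ ⨁ d, comapDeg e ℬ d :=
  (DirectSum.map (pieceHom e ℬ)).comp
    ((DirectSum.decomposeAddEquiv ℬ).toAddMonoidHom.comp e.toAddEquiv.toAddMonoidHom)

theorem decompHom_apply (e : A ≃+* B) (ℬ : ℕ → τ) [GradedRing ℬ] (a : A) :
    decompHom e ℬ a = DirectSum.map (pieceHom e ℬ) (DirectSum.decompose ℬ (e a)) := rfl

noncomputable instance decomposition_comapDeg (e : A ≃+* B) (ℬ : ℕ → τ) [GradedRing ℬ] :
    DirectSum.Decomposition (comapDeg e ℬ) :=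
  DirectSum.Decomposition.ofAddHom _ (decompHom e ℬ)
    (by
      ext a
      rw [AddMonoidHom.comp_apply, decompHom_apply, coe_map_pieceHom]
      have : DirectSum.coeAddMonoidHom ℬ (DirectSum.decompose ℬ (e a)) = e a :=
        (DirectSum.decompose ℬ).left_inv (e a)
      rw [this, e.symm_apply_apply]
      rfl)
    (by
      ext i b : 2
      have hb : e (b : A) ∈ ℬ i := b.2
      simp only [AddMonoidHom.comp_apply, AddMonoidHom.id_apply]
      rw [DirectSum.coeAddMonoidHom_of, decompHom_apply, DirectSum.decompose_of_mem ℬ hb,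
        DirectSum.map_of]
      congr 1
      ext
      exact e.symm_apply_apply _)

noncomputable instance gradedRing_comapDeg (e : A ≃+* B) (ℬ : ℕ → τ) [GradedRing ℬ] :
    GradedRing (comapDeg e ℬ) where

end transport

section constructor

open Scheme.AffineZariskiSite Groth.Agent.Helper13QCAlgOfAffine

variable {S : Scheme.{u}} {F : S.AffineZariskiSiteᵒᵖ ⥤ CommRingCat.{u}}
  {α : (toOpensFunctor S).op ⋙ S.presheaf ⟶ F} (H : α.Coequifibered)
  (𝒢 : ∀ U : S.AffineZariskiSite, ℕ → AddSubgroup (F.obj (op U)))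
  [∀ U, GradedRing (𝒢 U)]

/-- `gammaAff` as a ring isomorphism -/
noncomputable def gammaEquiv (U : S.Opens) (hU : IsAffineOpen U) :
    (qcAlg H).presheaf.obj (op U) ≃+* F.obj (op (aff U hU)) :=
  (asIso (gammaAff H U hU)).commRingCatIsoToRingEquiv

theorem gammaEquiv_apply (U : S.Opens) (hU : IsAffineOpen U) (x : (qcAlg H).presheaf.obj (op U)) :
    gammaEquiv H U hU x = (gammaAff H U hU).hom x := rfl

/-- the degree pieces -/
noncomputable def D (U : S.Opens) (hU : IsAffineOpen U) (d : ℕ) :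
    AddSubgroup ((qcAlg H).presheaf.obj (op U)) :=
  comapDeg (gammaEquiv H U hU) (𝒢 (aff U hU)) d

noncomputable instance gradedRing_D (U : S.Opens) (hU : IsAffineOpen U) : GradedRing (D H 𝒢 U hU) :=
  gradedRing_comapDeg (gammaEquiv H U hU) (𝒢 (aff U hU))

theorem mem_D_iff (U : S.Opens) (hU : IsAffineOpen U) (d : ℕ) (x : (qcAlg H).presheaf.obj (op U)) :
    x ∈ D H 𝒢 U hU d ↔ (gammaAff H U hU).hom x ∈ 𝒢 (aff U hU) d := Iff.rfl

variable (hmap : ∀ {U V : S.AffineZariskiSite} (i : V ⟶ U) {d : ℕ} {x : F.obj (op U)},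
    x ∈ 𝒢 U d → (F.map i.op).hom x ∈ 𝒢 V d)

include hmap in
theorem res_mem_of_site {U V : S.AffineZariskiSite} (i : V ⟶ U) {d : ℕ}
    {x : (qcAlg H).presheaf.obj (op U.1)} (hx : x ∈ D H 𝒢 U.1 U.2 d) :
    ((qcAlg H).presheaf.map (homOfLE (toOpens_mono i.le)).op).hom x ∈ D H 𝒢 V.1 V.2 d := by
  rw [mem_D_iff] at hx ⊢
  have hnat := gammaAff_naturality H i
  have h2 : (gammaAff H V.1 V.2).hom (((qcAlg H).presheaf.map (homOfLE (toOpens_mono i.le)).op).hom x) =
      (F.map i.op).hom ((gammaAff H U.1 U.2).hom x) := by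
    have := congrArg (fun f => f.hom x) hnat
    exact this
  rw [h2]
  exact hmap i hx

/-- restriction to a basic open, as a graded ring hom -/
noncomputable def resGr {U V : S.AffineZariskiSite} (i : V ⟶ U) :
    D H 𝒢 U.1 U.2 →+*ᵍ D H 𝒢 V.1 V.2 :=
  { ((qcAlg H).presheaf.map (homOfLE (toOpens_mono i.le)).op).hom with
    map_mem := fun hx => res_mem_of_site H 𝒢 hmap i hx }

include hmap in
/-- degree is local -/
theorem mem_of_forall_res {V : S.AffineZariskiSite} {ι : Type*} (W : ι → S.AffineZariskiSite)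
    (hW : ∀ k, W k ≤ V) (hcov : V.1 ≤ ⨆ k, (W k).1) {d : ℕ}
    (a : (qcAlg H).presheaf.obj (op V.1))
    (ha : ∀ k, ((qcAlg H).presheaf.map (homOfLE (toOpens_mono (hW k))).op).hom a ∈
      D H 𝒢 (W k).1 (W k).2 d) :
    a ∈ D H 𝒢 V.1 V.2 d := by
  classical
  have hzero : ∀ e, e ≠ d → ((DirectSum.decompose (D H 𝒢 V.1 V.2) a e : D H 𝒢 V.1 V.2 e) :
      (qcAlg H).presheaf.obj (op V.1)) = 0 := by
    intro e hed
    refine TopCat.Sheaf.eq_of_locally_eq'
      (⟨(qcAlg H).presheaf, (qcAlg H).isSheaf⟩ : TopCat.Sheaf CommRingCat.{u} S.carrier)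
      (fun k => (W k).1) V.1 (fun k => homOfLE (toOpens_mono (hW k))) hcov _ _ (fun k => ?_)
    have h1 : (resGr H 𝒢 hmap (homOfLE (hW k)))
        ((DirectSum.decompose (D H 𝒢 V.1 V.2) a e : D H 𝒢 V.1 V.2 e) :
          (qcAlg H).presheaf.obj (op V.1)) =
        ((DirectSum.decompose (D H 𝒢 (W k).1 (W k).2)
          ((resGr H 𝒢 hmap (homOfLE (hW k))) a) e : D H 𝒢 (W k).1 (W k).2 e) :
          (qcAlg H).presheaf.obj (op (W k).1)) :=
      GradedRingHom.map_directSumDecompose _ _ _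
    have h2 : ((DirectSum.decompose (D H 𝒢 (W k).1 (W k).2)
        ((resGr H 𝒢 hmap (homOfLE (hW k))) a) e : D H 𝒢 (W k).1 (W k).2 e) :
          (qcAlg H).presheaf.obj (op (W k).1)) = 0 := by
      have hak : (resGr H 𝒢 hmap (homOfLE (hW k))) a ∈ D H 𝒢 (W k).1 (W k).2 d := ha k
      rw [DirectSum.decompose_of_mem_ne _ hak (Ne.symm hed)]
    change ((qcAlg H).presheaf.map (homOfLE (toOpens_mono (hW k))).op).hom _ =
      ((qcAlg H).presheaf.map (homOfLE (toOpens_mono (hW k))).op).hom 0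
    rw [map_zero]
    exact h1.trans h2
  have hsum := DirectSum.sum_support_decompose (D H 𝒢 V.1 V.2) a
  rw [Finset.sum_eq_single d (fun e _ hed => hzero e hed) (fun hd => by
    rw [DFinsupp.notMem_support_iff] at hd
    rw [hd]; rfl)] at hsum
  rw [← hsum]
  exact SetLike.coe_mem _

variable (hα : ∀ (U : S.AffineZariskiSite) (r : Γ(S, U.1)), (α.app (op U)).hom r ∈ 𝒢 U 0)

include hmap in
theorem res_mem {U V : S.Opens} (hU : IsAffineOpen U) (hV : IsAffineOpen V) (i : V ≤ U) {d : ℕ}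
    {x : (qcAlg H).presheaf.obj (op U)} (hx : x ∈ D H 𝒢 U hU d) :
    ((qcAlg H).presheaf.map (homOfLE i).op).hom x ∈ D H 𝒢 V hV d := by
  have hex : ∀ p : V, ∃ W : S.AffineZariskiSite, W ≤ aff V hV ∧ W ≤ aff U hU ∧ p.1 ∈ W.1 := by
    intro p
    obtain ⟨f, g, hfg, hp⟩ := exists_basicOpen_le_affine_inter hU hV p.1 ⟨i p.2, p.2⟩
    refine ⟨(aff V hV).basicOpen g, Scheme.AffineZariskiSite.basicOpen_le (aff V hV) g, ?_, ?_⟩
    swap
    · change p.1 ∈ S.basicOpen g
      rw [← hfg]; exact hp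
    have : (aff V hV).basicOpen g = (aff U hU).basicOpen f := Subtype.ext hfg.symm
    rw [this]
    exact Scheme.AffineZariskiSite.basicOpen_le (aff U hU) f
  choose W hWV hWU hpW using hex
  refine mem_of_forall_res H 𝒢 hmap (V := aff V hV) W hWV ?_ _ (fun p => ?_)
  · intro q hq
    exact Opens.mem_iSup.mpr ⟨⟨q, hq⟩, hpW ⟨q, hq⟩⟩
  · have h1 := res_mem_of_site H 𝒢 hmap (homOfLE (hWU p)) hx
    have h2 : ((qcAlg H).presheaf.map (homOfLE (toOpens_mono (hWV p))).op).hom
        (((qcAlg H).presheaf.map (homOfLE i).op).hom x) =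
        ((qcAlg H).presheaf.map (homOfLE (toOpens_mono (hWU p))).op).hom x := by
      rw [← CommRingCat.comp_apply, ← Functor.map_comp]
      rfl
    rw [h2]
    exact h1

/-- the quasi-coherent graded algebra attached to graded affine-local data -/
noncomputable def grAlg : RelProj.QCGrAlg S where
  toQCAlg := qcAlg H
  deg U hU := D H 𝒢 U hU
  graded U hU := gradedRing_D H 𝒢 U hU
  map_mem := fun {U V} hU hV i {d x} hx => res_mem H 𝒢 hmap hU hV i hx
  str_mem := fun U hU r => by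
    change (gammaAff H U hU).hom (((qcAlg H).str.app (op U)).hom r) ∈ 𝒢 (aff U hU) 0
    have h := π_app_gammaAff H U hU
    have h2 : (gammaAff H U hU).hom (((qcAlg H).str.app (op U)).hom r) =
        (strAff α U hU).hom r := by
      have := congrArg (fun f => f.hom r) h
      exact this
    rw [h2]
    exact hα (aff U hU) r

theorem grAlg_deg (U : S.Opens) (hU : IsAffineOpen U) (d : ℕ) :
    (grAlg H 𝒢 hmap hα).deg U hU d = D H 𝒢 U hU d := rfl

theorem mem_grAlg_deg_iff (U : S.Opens) (hU : IsAffineOpen U) (d : ℕ)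
    (x : (qcAlg H).presheaf.obj (op U)) :
    x ∈ (grAlg H 𝒢 hmap hα).deg U hU d ↔ (gammaAff H U hU).hom x ∈ 𝒢 (aff U hU) d := Iff.rfl

theorem gammaEquiv_symm_mem (U : S.Opens) (hU : IsAffineOpen U) {d : ℕ} {y : F.obj (op (aff U hU))}
    (hy : y ∈ 𝒢 (aff U hU) d) : (gammaEquiv H U hU).symm y ∈ (grAlg H 𝒢 hmap hα).deg U hU d := by
  change gammaEquiv H U hU ((gammaEquiv H U hU).symm y) ∈ 𝒢 (aff U hU) d
  rw [RingEquiv.apply_symm_apply]
  exact hy

theorem gammaEquiv_str (U : S.Opens) (hU : IsAffineOpen U) (r : Γ(S, U)) :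
    gammaEquiv H U hU (((qcAlg H).str.app (op U)).hom r) = (α.app (op (aff U hU))).hom r := by
  have h := π_app_gammaAff H U hU
  have := congrArg (fun f => f.hom r) h
  exact this

theorem isGenDegOne_grAlg
    (h : ∀ U : S.AffineZariskiSite,
      Subring.closure ((𝒢 U 0 : Set (F.obj (op U))) ∪ (𝒢 U 1 : Set (F.obj (op U)))) = ⊤) :
    (grAlg H 𝒢 hmap hα).IsGenDegOne := by
  intro U hU
  have hset : (((D H 𝒢 U hU 0 : AddSubgroup ((qcAlg H).presheaf.obj (op U))) :
        Set ((qcAlg H).presheaf.obj (op U))) ∪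
      ((D H 𝒢 U hU 1 : AddSubgroup ((qcAlg H).presheaf.obj (op U))) :
        Set ((qcAlg H).presheaf.obj (op U)))) =
      (gammaEquiv H U hU).symm.toRingHom '' ((𝒢 (aff U hU) 0 : Set (F.obj (op (aff U hU)))) ∪
        (𝒢 (aff U hU) 1 : Set (F.obj (op (aff U hU))))) := by
    ext x
    constructor
    · rintro (hx | hx)
      · exact ⟨gammaEquiv H U hU x, Or.inl hx, (gammaEquiv H U hU).symm_apply_apply x⟩
      · exact ⟨gammaEquiv H U hU x, Or.inr hx, (gammaEquiv H U hU).symm_apply_apply x⟩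
    · rintro ⟨y, (hy | hy), rfl⟩
      · exact Or.inl (gammaEquiv_symm_mem H 𝒢 hmap hα U hU hy)
      · exact Or.inr (gammaEquiv_symm_mem H 𝒢 hmap hα U hU hy)
  change Subring.closure (((D H 𝒢 U hU 0 : AddSubgroup ((qcAlg H).presheaf.obj (op U))) :
        Set ((qcAlg H).presheaf.obj (op U))) ∪
      ((D H 𝒢 U hU 1 : AddSubgroup ((qcAlg H).presheaf.obj (op U))) :
        Set ((qcAlg H).presheaf.obj (op U)))) = ⊤
  rw [hset, ← RingHom.map_closure, h (aff U hU), ← RingHom.range_eq_map,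
    RingHom.range_eq_top]
  exact (gammaEquiv H U hU).symm.surjective

theorem isFTDeg_grAlg (d : ℕ)
    (h : ∀ U : S.AffineZariskiSite, ∃ T : Finset (F.obj (op U)),
      (↑T : Set (F.obj (op U))) ⊆ (𝒢 U d : Set (F.obj (op U))) ∧
      ∀ x ∈ 𝒢 U d, ∃ c : F.obj (op U) → Γ(S, U.1),
        x = ∑ t ∈ T, (α.app (op U)).hom (c t) * t) :
    (grAlg H 𝒢 hmap hα).IsFTDeg d := by
  classical
  intro U hU
  obtain ⟨T, hT, hgen⟩ := h (aff U hU)
  refine ⟨T.image (gammaEquiv H U hU).symm, ?_, ?_⟩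
  · intro x hx
    rw [Finset.coe_image] at hx
    obtain ⟨y, hy, rfl⟩ := hx
    exact gammaEquiv_symm_mem H 𝒢 hmap hα U hU (hT hy)
  · intro x hx
    obtain ⟨c, hc⟩ := hgen (gammaEquiv H U hU x) hx
    refine ⟨fun t => c (gammaEquiv H U hU t), ?_⟩
    apply (gammaEquiv H U hU).injective
    have hsum : gammaEquiv H U hU (∑ t ∈ T.image (gammaEquiv H U hU).symm,
        ((qcAlg H).str.app (op U)).hom (c (gammaEquiv H U hU t)) * t) =
        ∑ t ∈ T, (α.app (op (aff U hU))).hom (c t) * t := by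
      rw [map_sum, Finset.sum_image (fun a _ b _ hab => (gammaEquiv H U hU).symm.injective hab)]
      refine Finset.sum_congr rfl (fun t _ => ?_)
      rw [map_mul, RingEquiv.apply_symm_apply, gammaEquiv_str]
    exact hc.trans hsum.symm

end constructor

end Groth.Agent.Helper18GrAlgA
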