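import Mathlib
import Groth.Prelude.Def_RelProj2
import Groth.Agent.Lib.Helper18GrAlgA
import Groth.Agent.Lib.Helper18SymGrading
import Groth.Agent.Lib.Helper13SymAlg

set_option autoImplicit false

namespace Groth.Agent.Helper18GrSym

open CategoryTheory CategoryTheory.Limits AlgebraicGeometry Opposite TopologicalSpace
open Groth.Agent.Helper18GrAlgA Groth.Agent.Helper18SymGrading Groth.Agent.Helper13QCAlgOfAffine
open Groth.Agent.Helper13SymAlg Groth.Agent.Helper13SymLoc
open Scheme.AffineZariskiSite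
open scoped HomogeneousIdeal DirectSum

universe u

section ring

variable {R R' M M' : Type u} [CommRing R] [CommRing R'] [AddCommGroup M] [AddCommGroup M']
  [Module R M] [Module R' M']

theorem symMap_mem (φ : R →+* R') (g : M →+ M') (hg : ∀ (a : R) (m : M), g (a • m) = φ a • g m)
    {d : ℕ} {x : SymmetricAlgebra R M} (hx : x ∈ symDeg R M d) :
    symMap φ g hg x ∈ symDeg R' M' d := by
  induction hx using Submodule.pow_induction_on_left' with
  | algebraMap r =>
    rw [symMap_algebraMap]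
    change _ ∈ (LinearMap.range (SymmetricAlgebra.ι R' M')) ^ 0
    rw [pow_zero]
    exact Submodule.algebraMap_mem _
  | add x y i hx hy ihx ihy =>
    rw [map_add]
    exact add_mem ihx ihy
  | mem_mul m hm i x hx ih =>
    obtain ⟨m0, rfl⟩ := hm
    rw [map_mul, symMap_ι]
    change _ ∈ (LinearMap.range (SymmetricAlgebra.ι R' M')) ^ (i + 1)
    rw [pow_succ']
    exact Submodule.mul_mem_mul (LinearMap.mem_range_self _ _) ih

end ring

section sheaf

variable {S : Scheme.{u}} (E : S.Modules) [E.IsQuasicoherent]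

/-- the grading of the affine-local data of `Sym E` -/
noncomputable def 𝒢s (U : S.AffineZariskiSite) : ℕ → AddSubgroup ((symFunctor E).obj (op U)) :=
  comapDeg (RingEquiv.refl (SymmetricAlgebra Γ(S, U.1) Γ(E, U.1))) (symDeg Γ(S, U.1) Γ(E, U.1))

noncomputable instance (U : S.AffineZariskiSite) : GradedRing (𝒢s E U) :=
  gradedRing_comapDeg (RingEquiv.refl (SymmetricAlgebra Γ(S, U.1) Γ(E, U.1)))
    (symDeg Γ(S, U.1) Γ(E, U.1))

omit [E.IsQuasicoherent] in
theorem mem_𝒢s_iff (U : S.AffineZariskiSite) (d : ℕ) (x : SymmetricAlgebra Γ(S, U.1) Γ(E, U.1)) :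
    x ∈ 𝒢s E U d ↔ x ∈ symDeg Γ(S, U.1) Γ(E, U.1) d := Iff.rfl

omit [E.IsQuasicoherent] in
theorem hmap_s {U V : S.AffineZariskiSite} (i : V ⟶ U) {d : ℕ} {x : (symFunctor E).obj (op U)}
    (hx : x ∈ 𝒢s E U d) : ((symFunctor E).map i.op).hom x ∈ 𝒢s E V d :=
  symMap_mem _ _ _ hx

omit [E.IsQuasicoherent] in
theorem hα_s (U : S.AffineZariskiSite) (r : Γ(S, U.1)) :
    ((symStr E).app (op U)).hom r ∈ 𝒢s E U 0 := by
  change algebraMap Γ(S, U.1) (SymmetricAlgebra Γ(S, U.1) Γ(E, U.1)) r ∈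
    (LinearMap.range (SymmetricAlgebra.ι Γ(S, U.1) Γ(E, U.1))) ^ 0
  rw [pow_zero]
  exact Submodule.algebraMap_mem _

/-- the graded symmetric algebra of a quasi-coherent module -/
noncomputable def grSym : RelProj.QCGrAlg S :=
  grAlg (coequifibered_symStr E) (𝒢s E) (fun i _ _ hx => hmap_s E i hx) (hα_s E)

theorem grSym_toQCAlg : (grSym E).toQCAlg = symAlg E := rfl

/-- the universal map -/
noncomputable def jGr : E ⟶ (grSym E).toModule := j E

theorem isGrSymAlg : RelProj.IsGrSymAlg E (grSym E) (jGr E) := by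
  refine ⟨isSymAlg E, fun U hU x => ?_⟩
  change (gammaAff (coequifibered_symStr E) U hU).hom (((j E).app U).hom x) ∈ 𝒢s E (aff U hU) 1
  rw [j_app E U hU]
  change (γ E U hU).hom ((inv (γ E U hU)).hom (SymmetricAlgebra.ι Γ(S, U) Γ(E, U) x)) ∈ _
  rw [γ_inv_γ, mem_𝒢s_iff]
  change _ ∈ (LinearMap.range (SymmetricAlgebra.ι Γ(S, U) Γ(E, U))) ^ 1
  rw [pow_one]
  exact LinearMap.mem_range_self _ _

/-- existence of the graded symmetric algebra -/
theorem exists_isGrSymAlg (E : S.Modules) (hE : Coh.IsQCoh E) :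
    ∃ (𝒮 : RelProj.QCGrAlg S) (j : E ⟶ 𝒮.toModule), RelProj.IsGrSymAlg E 𝒮 j := by
  haveI : E.IsQuasicoherent := hE
  exact ⟨grSym E, jGr E, isGrSymAlg E⟩

end sheaf

end Groth.Agent.Helper18GrSym
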