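import Mathlib
import Groth.Prelude.Def_RelProj4
import Groth.Agent.Lib.Helper18GrSym
import Groth.Agent.Lib.Helper13SymPullback

/-!
# Base change of graded symmetric algebras (helper18)
-/

set_option autoImplicit false
set_option linter.style.haveILetI false

namespace Groth.Agent.Helper18SymBC

open CategoryTheory CategoryTheory.Limits AlgebraicGeometry Opposite TopologicalSpace
open Groth.Agent.Helper18SymGrading Groth.Agent.Helper13SymAlg Groth.Agent.Helper13SymLoc
open Scheme.AffineZariskiSite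
open scoped HomogeneousIdeal DirectSum

universe u

section ring

variable {R M B : Type u} [CommRing R] [AddCommGroup M] [Module R M] [CommRing B]
  (ℬ : ℕ → AddSubgroup B) [GradedRing ℬ]

/-- a homomorphism out of a symmetric algebra landing in degrees zero and one on generators is graded. -/
theorem ringHom_mem (Φ : SymmetricAlgebra R M →+* B)
    (hσ : ∀ a, Φ (algebraMap R _ a) ∈ ℬ 0) (hg1 : ∀ m, Φ (SymmetricAlgebra.ι R M m) ∈ ℬ 1)
    {d : ℕ} {x : SymmetricAlgebra R M} (hx : x ∈ symDeg R M d) : Φ x ∈ ℬ d := by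
  induction hx using Submodule.pow_induction_on_left' with
  | algebraMap r => exact hσ r
  | add x y i hx hy ihx ihy =>
    rw [map_add]
    exact add_mem ihx ihy
  | mem_mul m hm i x hx ih =>
    obtain ⟨m0, rfl⟩ := hm
    rw [map_mul]
    have h := SetLike.GradedMul.mul_mem (hg1 m0) ih
    rwa [add_comm] at h

/-- a lift landing in degrees zero and one is graded. -/
theorem symLift_mem (σ : R →+* B) (g : M →+ B) (hg : ∀ (a : R) (m : M), g (a • m) = σ a * g m)
    (hσ : ∀ a, σ a ∈ ℬ 0) (hg1 : ∀ m, g m ∈ ℬ 1)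
    {d : ℕ} {x : SymmetricAlgebra R M} (hx : x ∈ symDeg R M d) :
    symLift σ g hg x ∈ ℬ d := by
  induction hx using Submodule.pow_induction_on_left' with
  | algebraMap r =>
    rw [symLift_algebraMap]
    exact hσ r
  | add x y i hx hy ihx ihy =>
    rw [map_add]
    exact add_mem ihx ihy
  | mem_mul m hm i x hx ih =>
    obtain ⟨m0, rfl⟩ := hm
    rw [map_mul, symLift_ι]
    have h := SetLike.GradedMul.mul_mem (hg1 m0) ih
    rwa [add_comm] at h

/-- if a surjective homomorphism from a symmetric algebra is graded, every homogeneous element is the image of a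
homogeneous element. -/
theorem exists_symDeg_of_mem (Φ : SymmetricAlgebra R M →+* B) (hΦs : Function.Surjective Φ)
    (hΦ : ∀ (d : ℕ) (w : SymmetricAlgebra R M), w ∈ symDeg R M d → Φ w ∈ ℬ d)
    {d : ℕ} {x : B} (hx : x ∈ ℬ d) : ∃ w ∈ symDeg R M d, Φ w = x := by
  classical
  obtain ⟨w, rfl⟩ := hΦs x
  refine ⟨(DirectSum.decompose (symDeg R M) w d : SymmetricAlgebra R M), SetLike.coe_mem _, ?_⟩
  have h1 : w = ∑ k ∈ (DirectSum.decompose (symDeg R M) w).support,
      (DirectSum.decompose (symDeg R M) w k : SymmetricAlgebra R M) :=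
    (DirectSum.sum_support_decompose (symDeg R M) w).symm
  have h2 : (DirectSum.decompose ℬ (Φ w) d : B) = Φ w := DirectSum.decompose_of_mem_same ℬ hx
  have h3 : (DirectSum.decompose ℬ (Φ w) d : B) =
      Φ (DirectSum.decompose (symDeg R M) w d : SymmetricAlgebra R M) := by
    conv_lhs => rw [h1, map_sum, DirectSum.decompose_sum]
    rw [DFinsupp.finsetSum_apply, AddSubmonoidClass.coe_finsetSum]
    by_cases hd : d ∈ (DirectSum.decompose (symDeg R M) w).support
    · rw [Finset.sum_eq_single_of_mem d hd]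
      · exact DirectSum.decompose_of_mem_same ℬ (hΦ d _ (SetLike.coe_mem _))
      · intro k _ hk
        exact DirectSum.decompose_of_mem_ne ℬ (hΦ k _ (SetLike.coe_mem _)) hk
    · have h0 : (DirectSum.decompose (symDeg R M) w d : SymmetricAlgebra R M) = 0 := by
        have := DFinsupp.notMem_support_iff.mp hd
        rw [this]; rfl
      rw [h0, map_zero]
      refine Finset.sum_eq_zero fun k hk => ?_
      have hkd : k ≠ d := fun h => hd (h ▸ hk)
      exact DirectSum.decompose_of_mem_ne ℬ (hΦ k _ (SetLike.coe_mem _)) hkd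
  rw [← h3, h2]

end ring

section sheaf

open Groth.Agent.Helper13PullbackUnit

variable {Y Y' : Scheme.{u}} (ψ : Y' ⟶ Y) (E : Y.Modules) [E.IsQuasicoherent]

/-- local instance: pull-backs of quasi-coherent modules are quasi-coherent -/
noncomputable local instance instQCPullback : ((Scheme.Modules.pullback ψ).obj E).IsQuasicoherent :=
  Groth.Agent.Lib.Helper2.PullbackSec.isQuasicoherent_pullback ψ E

variable (B : RelSpec.QCAlg Y') (k : (Scheme.Modules.pullback ψ).obj E ⟶ B.toModule)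

/-- the scalars `Γ(Y, U) → B(ψ⁻¹ U)`. -/
noncomputable def ρ (U : Y.Opens) : Γ(Y, U) →+* B.presheaf.obj (op (ψ ⁻¹ᵁ U)) :=
  (B.str.app (op (ψ ⁻¹ᵁ U))).hom.comp (ψ.app U).hom

/-- the generators `Γ(E, U) → B(ψ⁻¹ U)`. -/
noncomputable def gk (U : Y.Opens) : Γ(E, U) →+ B.presheaf.obj (op (ψ ⁻¹ᵁ U)) :=
  (φAdd ((Scheme.Modules.pullback ψ).obj E) B k (ψ ⁻¹ᵁ U)).comp (unitSec ψ E (le_refl (ψ ⁻¹ᵁ U)))

theorem gk_smul (U : Y.Opens) (a : Γ(Y, U)) (m : Γ(E, U)) :
    gk ψ E B k U (a • m) = ρ ψ B U a * gk ψ E B k U m := by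
  unfold gk ρ
  rw [AddMonoidHom.comp_apply, AddMonoidHom.comp_apply, unitSec_smul, φAdd_smul]
  have h1 : ψ.appLE U (ψ ⁻¹ᵁ U) (le_refl _) = ψ.app U := Scheme.Hom.appLE_eq_app ψ
  rw [h1]
  rfl

/-- the homomorphism `Sym(E(U)) → B(ψ⁻¹ U)`. -/
noncomputable def θ (U : Y.Opens) : SymmetricAlgebra Γ(Y, U) Γ(E, U) →+* B.presheaf.obj (op (ψ ⁻¹ᵁ U)) :=
  symLift (ρ ψ B U) (gk ψ E B k U) (gk_smul ψ E B k U)

theorem ρ_res {U V : Y.Opens} (h : V ≤ U) (a : Γ(Y, U)) :
    ρ ψ B V (resO h a) = (B.presheaf.map (homOfLE (ψ.preimage_mono h)).op).hom (ρ ψ B U a) := by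
  unfold ρ
  rw [RingHom.comp_apply, RingHom.comp_apply]
  have h1 : (ψ.app V).hom (resO h a) =
      (Y'.presheaf.map (homOfLE (ψ.preimage_mono h)).op).hom ((ψ.app U).hom a) :=
    congrArg (fun t : Γ(Y, U) ⟶ _ => t.hom a) (ψ.naturality (homOfLE h).op)
  rw [h1]
  exact congrArg (fun t : Γ(Y', ψ ⁻¹ᵁ U) ⟶ _ => t.hom ((ψ.app U).hom a))
    (B.str.naturality (homOfLE (ψ.preimage_mono h)).op)

theorem gk_res {U V : Y.Opens} (h : V ≤ U) (m : Γ(E, U)) :
    gk ψ E B k V (resE E h m) = (B.presheaf.map (homOfLE (ψ.preimage_mono h)).op).hom (gk ψ E B k U m) := by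
  unfold gk
  rw [AddMonoidHom.comp_apply, AddMonoidHom.comp_apply]
  have h1 : unitSec ψ E (le_refl (ψ ⁻¹ᵁ V)) (resE E h m) =
      resE ((Scheme.Modules.pullback ψ).obj E) (ψ.preimage_mono h)
        (unitSec ψ E (le_refl (ψ ⁻¹ᵁ U)) m) := by
    rw [unitSec_apply, unitSec_apply]
    have hn := congrArg (fun φ => φ m)
      (((Scheme.Modules.pullbackPushforwardAdjunction ψ).unit.app E).mapPresheaf.naturality (homOfLE h).op)
    have hn' : ((Scheme.Modules.pullbackPushforwardAdjunction ψ).unit.app E).app V (resE E h m) =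
        ((Scheme.Modules.pullback ψ).obj E).presheaf.map (homOfLE (ψ.preimage_mono h)).op
          (((Scheme.Modules.pullbackPushforwardAdjunction ψ).unit.app E).app U m) := hn
    rw [hn']
    unfold resE
    change (((Scheme.Modules.pullback ψ).obj E).presheaf.map _ ≫
      ((Scheme.Modules.pullback ψ).obj E).presheaf.map _) _ =
      (((Scheme.Modules.pullback ψ).obj E).presheaf.map _ ≫
      ((Scheme.Modules.pullback ψ).obj E).presheaf.map _) _
    rw [← Functor.map_comp, ← Functor.map_comp]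
    rfl
  rw [h1, φAdd_res]

theorem θ_nat {U V : Y.Opens} (h : V ≤ U) :
    (θ ψ E B k V).comp (symRes E h) =
      (B.presheaf.map (homOfLE (ψ.preimage_mono h)).op).hom.comp (θ ψ E B k U) := by
  refine ringHom_ext (fun a => ?_) (fun m => ?_)
  · unfold symRes θ
    rw [RingHom.comp_apply, RingHom.comp_apply, symMap_algebraMap, symLift_algebraMap,
      symLift_algebraMap]
    exact ρ_res ψ B h a
  · unfold symRes θ
    rw [RingHom.comp_apply, RingHom.comp_apply, symMap_ι, symLift_ι, symLift_ι]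
    exact gk_res ψ E B k h m

section extend

variable {Z : Scheme.{u}}

/-- extension of a family on affine opens, natural for the morphisms of the affine site, into a sheaf -/
noncomputable def extendSheaf {F H : TopCat.Presheaf CommRingCat.{u} Z.carrier} (hH : H.IsSheaf)
    (d : ∀ (U : Z.Opens) (_ : IsAffineOpen U), F.obj (op U) ⟶ H.obj (op U))
    (hd : ∀ {U V : Z.AffineZariskiSite} (i : V ⟶ U),
      F.map (homOfLE (toOpens_mono i.le)).op ≫ d V.1 V.2 =
        d U.1 U.2 ≫ H.map (homOfLE (toOpens_mono i.le)).op) : F ⟶ H :=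
  Functor.IsCoverDense.restrictHomEquivHom (G := toOpensFunctor Z)
    (K := Opens.grothendieckTopology Z) (ℱ := F)
    (ℱ' := (⟨H, hH⟩ : TopCat.Sheaf CommRingCat.{u} Z.carrier))
    { app := fun U => d U.unop.1 U.unop.2
      naturality := fun _ _ i => hd i.unop }

theorem extendSheaf_app {F H : TopCat.Presheaf CommRingCat.{u} Z.carrier} (hH : H.IsSheaf)
    (d : ∀ (U : Z.Opens) (_ : IsAffineOpen U), F.obj (op U) ⟶ H.obj (op U))
    (hd : ∀ {U V : Z.AffineZariskiSite} (i : V ⟶ U),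
      F.map (homOfLE (toOpens_mono i.le)).op ≫ d V.1 V.2 =
        d U.1 U.2 ≫ H.map (homOfLE (toOpens_mono i.le)).op)
    (U : Z.Opens) (hU : IsAffineOpen U) : (extendSheaf hH d hd).app (op U) = d U hU := by
  have h := (Functor.IsCoverDense.restrictHomEquivHom (G := toOpensFunctor Z)
    (K := Opens.grothendieckTopology Z) (ℱ := F)
    (ℱ' := (⟨H, hH⟩ : TopCat.Sheaf CommRingCat.{u} Z.carrier))).symm_apply_apply
      ({ app := fun U => d U.unop.1 U.unop.2
         naturality := fun _ _ i => hd i.unop } :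
        (toOpensFunctor Z).op ⋙ F ⟶ (toOpensFunctor Z).op ⋙ H)
  exact NatTrans.congr_app h (op ⟨U, hU⟩)

/-- morphisms into a sheaf agreeing on affine opens are equal -/
theorem hom_ext_sheaf {F H : TopCat.Presheaf CommRingCat.{u} Z.carrier} (hH : H.IsSheaf) (a b : F ⟶ H)
    (h : ∀ (U : Z.Opens) (_ : IsAffineOpen U), a.app (op U) = b.app (op U)) : a = b := by
  apply (Functor.IsCoverDense.restrictHomEquivHom (G := toOpensFunctor Z)
    (K := Opens.grothendieckTopology Z) (ℱ := F)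
    (ℱ' := (⟨H, hH⟩ : TopCat.Sheaf CommRingCat.{u} Z.carrier))).symm.injective
  ext U : 2
  exact h U.unop.1 U.unop.2

end extend

section qhom

variable {A : RelSpec.QCAlg Y} {j : E ⟶ A.toModule} (hA : RelSpec.IsSymAlg E A j)

/-- the `ψ`-morphism over an affine open. -/
noncomputable def uAff (U : Y.Opens) (hU : IsAffineOpen U) :
    A.presheaf.obj (op U) ⟶ B.presheaf.obj (op (ψ ⁻¹ᵁ U)) :=
  (σIso E hA U hU).inv ≫ CommRingCat.ofHom (θ ψ E B k U)

theorem σ_uAff (U : Y.Opens) (hU : IsAffineOpen U) :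
    CommRingCat.ofHom (σ E A j U) ≫ uAff ψ E B k hA U hU = CommRingCat.ofHom (θ ψ E B k U) := by
  unfold uAff
  rw [← σIso_hom E hA U hU, Iso.hom_inv_id_assoc]

theorem uAff_σ (U : Y.Opens) (hU : IsAffineOpen U) (w : SymmetricAlgebra Γ(Y, U) Γ(E, U)) :
    (uAff ψ E B k hA U hU).hom (σ E A j U w) = θ ψ E B k U w :=
  congrArg (fun t : CommRingCat.of (SymmetricAlgebra Γ(Y, U) Γ(E, U)) ⟶ _ => t.hom w)
    (σ_uAff ψ E B k hA U hU)

theorem uAff_nat {U V : Y.Opens} (hU : IsAffineOpen U) (hV : IsAffineOpen V) (h : V ≤ U) :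
    A.presheaf.map (homOfLE h).op ≫ uAff ψ E B k hA V hV =
      uAff ψ E B k hA U hU ≫ B.presheaf.map (homOfLE (ψ.preimage_mono h)).op := by
  rw [← cancel_epi (σIso E hA U hU).hom]
  ext1
  refine RingHom.ext fun w => ?_
  change (uAff ψ E B k hA V hV).hom ((A.presheaf.map (homOfLE h).op).hom (σ E A j U w)) =
    (B.presheaf.map (homOfLE (ψ.preimage_mono h)).op).hom ((uAff ψ E B k hA U hU).hom (σ E A j U w))
  have h1 : (A.presheaf.map (homOfLE h).op).hom (σ E A j U w) = σ E A j V (symRes E h w) :=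
    (congrArg (fun t : _ →+* _ => t w) (σ_nat E A j h)).symm
  rw [h1, uAff_σ, uAff_σ]
  exact congrArg (fun t : _ →+* _ => t w) (θ_nat ψ E B k h)

/-- the `ψ`-morphism as a morphism of presheaves into the direct image. -/
noncomputable def uNat : A.presheaf ⟶ ψ.base _* B.presheaf :=
  extendSheaf (TopCat.Sheaf.pushforward_sheaf_of_sheaf ψ.base B.isSheaf)
    (fun U hU => uAff ψ E B k hA U hU)
    (fun {U V} i => uAff_nat ψ E B k hA U.2 V.2 (toOpens_mono i.le))

theorem uNat_app (U : Y.Opens) (hU : IsAffineOpen U) :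
    (uNat ψ E B k hA).app (op U) = uAff ψ E B k hA U hU :=
  extendSheaf_app (TopCat.Sheaf.pushforward_sheaf_of_sheaf ψ.base B.isSheaf)
    (fun U hU => uAff ψ E B k hA U hU)
    (fun {U V} i => uAff_nat ψ E B k hA U.2 V.2 (toOpens_mono i.le)) U hU

theorem uAff_str (U : Y.Opens) (hU : IsAffineOpen U) :
    A.str.app (op U) ≫ uAff ψ E B k hA U hU = ψ.app U ≫ B.str.app (op (ψ ⁻¹ᵁ U)) := by
  ext1
  refine RingHom.ext fun a => ?_
  change (uAff ψ E B k hA U hU).hom ((A.str.app (op U)).hom a) = ρ ψ B U a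
  have h1 : (A.str.app (op U)).hom a = σ E A j U (algebraMap _ _ a) := by
    unfold σ
    rw [symLift_algebraMap]
  rw [h1, uAff_σ]
  unfold θ
  rw [symLift_algebraMap]

/-- **the `ψ`-morphism `Sym(E) → ψ_* B`** extending `E → ψ_* ψ^* E → ψ_* B`. -/
noncomputable def uQ : RelSpec.QHom ψ A B where
  app U := (uNat ψ E B k hA).app (op U)
  naturality i := ((uNat ψ E B k hA).naturality (homOfLE i).op).symm
  str_app U := by
    have h : A.str ≫ uNat ψ E B k hA =
        ψ.c ≫ (TopCat.Presheaf.pushforward CommRingCat.{u} ψ.base).map B.str := by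
      refine hom_ext_sheaf (TopCat.Sheaf.pushforward_sheaf_of_sheaf ψ.base B.isSheaf) _ _ fun V hV => ?_
      rw [NatTrans.comp_app, NatTrans.comp_app, uNat_app ψ E B k hA V hV]
      exact uAff_str ψ E B k hA V hV
    exact NatTrans.congr_app h (op U)

theorem uQ_app (U : Y.Opens) (hU : IsAffineOpen U) :
    (uQ ψ E B k hA).app U = uAff ψ E B k hA U hU := uNat_app ψ E B k hA U hU

theorem uQ_j_affine (U : Y.Opens) (hU : IsAffineOpen U) (x : Γ(E, U)) :
    ((uQ ψ E B k hA).app U).hom ((j.app U) x) =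
      (k.app (ψ ⁻¹ᵁ U)) (((Scheme.Modules.pullbackPushforwardAdjunction ψ).unit.app E).app U x) := by
  rw [uQ_app ψ E B k hA U hU]
  have h1 : ((j.app U) x : A.presheaf.obj (op U)) = σ E A j U (SymmetricAlgebra.ι _ _ x) := by
    unfold σ
    rw [symLift_ι]
    rfl
  rw [h1, uAff_σ]
  unfold θ
  rw [symLift_ι]
  unfold gk
  rw [AddMonoidHom.comp_apply, unitSec_apply]
  have h2 : ((Scheme.Modules.pullback ψ).obj E).presheaf.map (homOfLE (le_refl (ψ ⁻¹ᵁ U))).op
      (((Scheme.Modules.pullbackPushforwardAdjunction ψ).unit.app E).app U x) =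
      ((Scheme.Modules.pullbackPushforwardAdjunction ψ).unit.app E).app U x := by
    have : (homOfLE (le_refl (ψ ⁻¹ᵁ U))).op = 𝟙 (op (ψ ⁻¹ᵁ U)) := rfl
    rw [this, CategoryTheory.Functor.map_id]
    rfl
  rw [h2]
  rfl

theorem uQ_j (U : Y.Opens) (x : Γ(E, U)) :
    ((uQ ψ E B k hA).app U).hom ((j.app U) x) =
      (k.app (ψ ⁻¹ᵁ U)) (((Scheme.Modules.pullbackPushforwardAdjunction ψ).unit.app E).app U x) := by
  refine TopCat.Sheaf.eq_of_locally_eq' ⟨B.presheaf, B.isSheaf⟩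
    (fun W : {W : Y.affineOpens // (W : Y.Opens) ≤ U} => ψ ⁻¹ᵁ (W.1 : Y.Opens)) (ψ ⁻¹ᵁ U)
    (fun W => homOfLE (ψ.preimage_mono W.2)) ?_ _ _ (fun W => ?_)
  · intro y hy
    obtain ⟨_, ⟨W, hW, rfl⟩, hyW, hWU⟩ := Y.isBasis_affineOpens.exists_subset_of_mem_open
      (show ψ y ∈ (U : Set Y) from hy) U.2
    exact Opens.mem_iSup.mpr ⟨⟨⟨W, hW⟩, hWU⟩, hyW⟩
  · obtain ⟨⟨W, hW⟩, hWU⟩ := W
    replace hW : IsAffineOpen W := hW
    change (B.presheaf.map (homOfLE (ψ.preimage_mono hWU)).op).hom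
        (((uQ ψ E B k hA).app U).hom ((j.app U) x)) =
      (B.presheaf.map (homOfLE (ψ.preimage_mono hWU)).op).hom
        ((k.app (ψ ⁻¹ᵁ U)) (((Scheme.Modules.pullbackPushforwardAdjunction ψ).unit.app E).app U x))
    have h1 : (B.presheaf.map (homOfLE (ψ.preimage_mono hWU)).op).hom
        (((uQ ψ E B k hA).app U).hom ((j.app U) x)) =
        ((uQ ψ E B k hA).app W).hom ((A.presheaf.map (homOfLE hWU).op).hom ((j.app U) x)) :=
      congrArg (fun t : A.presheaf.obj (op U) ⟶ _ => t.hom ((j.app U) x))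
        ((uQ ψ E B k hA).naturality hWU)
    have h2 : (A.presheaf.map (homOfLE hWU).op).hom ((j.app U) x) = (j.app W) (resE E hWU x) :=
      (φAdd_res E A j hWU x).symm
    have h3 : (B.presheaf.map (homOfLE (ψ.preimage_mono hWU)).op).hom
        ((k.app (ψ ⁻¹ᵁ U)) (((Scheme.Modules.pullbackPushforwardAdjunction ψ).unit.app E).app U x)) =
        (k.app (ψ ⁻¹ᵁ W)) (resE ((Scheme.Modules.pullback ψ).obj E) (ψ.preimage_mono hWU)
          (((Scheme.Modules.pullbackPushforwardAdjunction ψ).unit.app E).app U x)) :=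
      (φAdd_res ((Scheme.Modules.pullback ψ).obj E) B k (ψ.preimage_mono hWU) _).symm
    have h4 : resE ((Scheme.Modules.pullback ψ).obj E) (ψ.preimage_mono hWU)
        (((Scheme.Modules.pullbackPushforwardAdjunction ψ).unit.app E).app U x) =
        ((Scheme.Modules.pullbackPushforwardAdjunction ψ).unit.app E).app W (resE E hWU x) :=
      (congrArg (fun φ => φ x)
        (((Scheme.Modules.pullbackPushforwardAdjunction ψ).unit.app E).mapPresheaf.naturality
          (homOfLE hWU).op)).symm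
    rw [h1, h2, h3, h4]
    exact uQ_j_affine ψ E B k hA W hW (resE E hWU x)

end qhom

section graded

variable (𝒮 : RelProj.QCGrAlg Y) (j : E ⟶ 𝒮.toModule) (hj : RelProj.IsGrSymAlg E 𝒮 j)
  (𝒮' : RelProj.QCGrAlg Y') (j' : (Scheme.Modules.pullback ψ).obj E ⟶ 𝒮'.toModule)
  (hj' : RelProj.IsGrSymAlg ((Scheme.Modules.pullback ψ).obj E) 𝒮' j')

include hj in
theorem σ_mem (U : Y.Opens) (hU : IsAffineOpen U) (d : ℕ) (w : SymmetricAlgebra Γ(Y, U) Γ(E, U))
    (hw : w ∈ symDeg Γ(Y, U) Γ(E, U) d) : σ E 𝒮.toQCAlg j U w ∈ 𝒮.deg U hU d := by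
  unfold σ
  exact symLift_mem (𝒮.deg U hU) _ _ _ (fun a => 𝒮.str_mem U hU a) (fun m => hj.2 U hU m) hw

include hj in
/-- the grading of a graded symmetric algebra is the one by symmetric powers. -/
theorem exists_σ_eq (U : Y.Opens) (hU : IsAffineOpen U) {d : ℕ} {x : 𝒮.presheaf.obj (op U)}
    (hx : x ∈ 𝒮.deg U hU d) :
    ∃ w ∈ symDeg Γ(Y, U) Γ(E, U) d, σ E 𝒮.toQCAlg j U w = x :=
  exists_symDeg_of_mem (𝒮.deg U hU) (σ E 𝒮.toQCAlg j U) (bijective_σ E U hU hj.1).2
    (σ_mem E 𝒮 j hj U hU) hx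

include hj' in
/-- **the graded `ψ`-morphism `Sym(E) → ψ_* Sym(ψ^* E)`.** -/
noncomputable def uGr : RelProj.QGrHom ψ 𝒮 𝒮' where
  toQHom := uQ ψ E 𝒮'.toQCAlg j' hj.1
  map_mem U hU U' hU' hle {d x} hx := by
    obtain ⟨w, hw, rfl⟩ := exists_σ_eq E 𝒮 j hj U hU hx
    rw [uQ_app ψ E 𝒮'.toQCAlg j' hj.1 U hU, uAff_σ]
    refine ringHom_mem (𝒮'.deg U' hU')
      ((𝒮'.presheaf.map (homOfLE hle).op).hom.comp (θ ψ E 𝒮'.toQCAlg j' U)) (fun a => ?_) (fun m => ?_) hw
    · rw [RingHom.comp_apply]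
      unfold θ
      rw [symLift_algebraMap]
      unfold ρ
      rw [RingHom.comp_apply]
      have h1 : (𝒮'.presheaf.map (homOfLE hle).op).hom
          ((𝒮'.str.app (op (ψ ⁻¹ᵁ U))).hom ((ψ.app U).hom a)) =
          (𝒮'.str.app (op U')).hom ((Y'.presheaf.map (homOfLE hle).op).hom ((ψ.app U).hom a)) :=
        (congrArg (fun t : Γ(Y', ψ ⁻¹ᵁ U) ⟶ _ => t.hom ((ψ.app U).hom a))
          (𝒮'.str.naturality (homOfLE hle).op)).symm
      rw [h1]
      exact 𝒮'.str_mem U' hU' _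
    · rw [RingHom.comp_apply]
      unfold θ
      rw [symLift_ι]
      unfold gk
      rw [AddMonoidHom.comp_apply, ← φAdd_res]
      exact hj'.2 U' hU' _

include hj' in
theorem isQBaseChange_uGr : RelSpec.IsQBaseChange (uGr ψ E 𝒮 j hj 𝒮' j' hj').toQHom :=
  isQBaseChange_sym ψ E hj.1 hj'.1 (uQ ψ E 𝒮'.toQCAlg j' hj.1) (uQ_j ψ E 𝒮'.toQCAlg j' hj.1)

theorem uGr_j (U : Y.Opens) (x : Γ(E, U)) :
    ((uGr ψ E 𝒮 j hj 𝒮' j' hj').app U).hom ((j.app U) x) =
      (j'.app (ψ ⁻¹ᵁ U)) (((Scheme.Modules.pullbackPushforwardAdjunction ψ).unit.app E).app U x) :=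
  uQ_j ψ E 𝒮'.toQCAlg j' hj.1 U x

end graded

end sheaf

end Groth.Agent.Helper18SymBC
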