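import Mathlib
import Groth.Agent.Lib.Helper23PB2
import Groth.Agent.Lib.Helper23SecTw7

/-!
# Ampleness of a pullback along a topological embedding into a scheme with enough affine `X_s` (helper18)

`isAmple_pullback_of_isEmbedding_of_sections`: `h : Z ⟶ T` a topological embedding with `Z` quasi-compact, `M` invertible
on `T` (not assumed quasi-compact) such that every point `h z` lies in an affine generating locus of a section of a
positive power of `M`.  Then `h^* M` is ample.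
-/

set_option autoImplicit false
universe u
open CategoryTheory CategoryTheory.Limits AlgebraicGeometry TopologicalSpace Opposite

namespace Groth.Agent.Helper18VAmp
open Groth.Agent.Lib.Helper23.GenLocus Groth.Agent.Lib.Helper6 Groth.Agent.Lib.Helper23.AmpleIso
open Groth.Agent.Lib.Helper23.Extend Groth.Agent.Lib.Helper23.SecTw Groth.Agent.Lib.Helper23.PB
open Groth.Agent.Helper13PullbackUnit

/-- the preimage of an affine open under a topological embedding, if quasi-compact, is quasi-separated. -/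
theorem quasiSeparatedSpace_preimage_of_isEmbedding {Z T : Scheme.{u}} (k : Z ⟶ T)
    (hemb : Topology.IsEmbedding k.base) (D : T.Opens) (hD : IsAffineOpen D)
    (hc : IsCompact ((k ⁻¹ᵁ D : Z.Opens) : Set Z)) :
    QuasiSeparatedSpace ↥(k ⁻¹ᵁ D : Z.Opens) := by
  classical
  refine (isQuasiSeparated_iff_quasiSeparatedSpace _ (k ⁻¹ᵁ D).2).1 ?_
  have hbc : ∀ r : Γ(T, D), IsCompact ((k ⁻¹ᵁ T.basicOpen r : Z.Opens) : Set Z) := by
    intro r
    rw [Scheme.preimage_basicOpen]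
    exact isCompact_basicOpen Z hc _
  have cover : ∀ U : Set Z, U ⊆ ((k ⁻¹ᵁ D : Z.Opens) : Set Z) → IsOpen U → IsCompact U →
      ∃ t : Finset Γ(T, D), U = ⋃ r ∈ t, ((k ⁻¹ᵁ T.basicOpen r : Z.Opens) : Set Z) := by
    intro U hU hUo hUc
    obtain ⟨B, hB, hBU⟩ := hemb.isInducing.isOpen_iff.1 hUo
    have hpt : ∀ x : U, ∃ r : Γ(T, D), T.basicOpen r ≤ (⟨B, hB⟩ : T.Opens) ∧ k x.1 ∈ T.basicOpen r := by
      intro x
      have hxB : k x.1 ∈ (⟨B, hB⟩ : T.Opens) := by
        have : x.1 ∈ k.base ⁻¹' B := by rw [hBU]; exact x.2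
        exact this
      exact hD.exists_basicOpen_le (V := (⟨B, hB⟩ : T.Opens)) ⟨k x.1, hxB⟩ (hU x.2)
    choose r hrB hxr using hpt
    obtain ⟨t, ht⟩ := hUc.elim_finite_subcover
      (fun x : U => ((k ⁻¹ᵁ T.basicOpen (r x) : Z.Opens) : Set Z))
      (fun x => (k ⁻¹ᵁ T.basicOpen (r x)).2)
      (fun x hx => Set.mem_iUnion.2 ⟨⟨x, hx⟩, hxr ⟨x, hx⟩⟩)
    refine ⟨t.image r, ?_⟩
    apply Set.Subset.antisymm
    · intro x hx
      obtain ⟨y, hyt, hxy⟩ := Set.mem_iUnion₂.1 (ht hx)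
      exact Set.mem_iUnion₂.2 ⟨r y, Finset.mem_image_of_mem _ hyt, hxy⟩
    · intro x hx
      obtain ⟨ρ, hρ, hxρ⟩ := Set.mem_iUnion₂.1 hx
      obtain ⟨y, -, rfl⟩ := Finset.mem_image.1 hρ
      have h1 : k x ∈ B := hrB y hxρ
      have h2 : x ∈ k.base ⁻¹' B := h1
      rw [hBU] at h2
      exact h2
  intro U V hU hUo hUc hV hVo hVc
  obtain ⟨t, rfl⟩ := cover U hU hUo hUc
  obtain ⟨t', rfl⟩ := cover V hV hVo hVc
  have hint : (⋃ r ∈ t, ((k ⁻¹ᵁ T.basicOpen r : Z.Opens) : Set Z)) ∩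
      (⋃ r ∈ t', ((k ⁻¹ᵁ T.basicOpen r : Z.Opens) : Set Z)) =
      ⋃ r ∈ t, ⋃ r' ∈ t', ((k ⁻¹ᵁ T.basicOpen (r * r') : Z.Opens) : Set Z) := by
    ext x
    simp only [Set.mem_inter_iff, Set.mem_iUnion, SetLike.mem_coe, exists_prop, Scheme.basicOpen_mul,
      Scheme.Hom.mem_preimage, Opens.mem_inf]
    constructor
    · rintro ⟨⟨r, hr, hxr⟩, ⟨r', hr', hxr'⟩⟩
      exact ⟨r, hr, r', hr', hxr, hxr'⟩
    · rintro ⟨r, hr, r', hr', hxr, hxr'⟩
      exact ⟨⟨r, hr, hxr⟩, ⟨r', hr', hxr'⟩⟩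
  rw [hint]
  exact t.isCompact_biUnion (fun r _ => t'.isCompact_biUnion (fun r' _ => hbc _))

variable {Z T : Scheme.{u}} (h : Z ⟶ T)

/-- **ampleness of a pullback along a topological embedding**: the target need not be quasi-compact; it is enough that
every point of the image lies in an affine `T_s`, `s` a section of a positive power of `M`. -/
theorem isAmple_pullback_of_isEmbedding_of_sections [CompactSpace Z]
    (hemb : Topology.IsEmbedding h.base) (M : T.Modules) (hM : PicF.IsInvertible M)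
    (hsec : ∀ z : Z, ∃ (n : ℕ) (s : Coh.structureModule T ⟶ CohB1.tensorPow M (n + 1)),
      h z ∈ CohB1.genLocus _ s ∧ IsAffineOpen (CohB1.genLocus _ s)) :
    CohB1.IsAmple ((Scheme.Modules.pullback h).obj M) := by
  have hinv := isInvertible_pullback h M hM
  have key : ∀ z : Z, ∃ (n : ℕ) (D : T.Opens)
      (s' : Coh.structureModule Z ⟶ CohB1.tensorPow ((Scheme.Modules.pullback h).obj M) (n + 1)),
      IsAffineOpen D ∧ h z ∈ D ∧ CohB1.genLocus _ s' = h ⁻¹ᵁ D := by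
    intro z
    obtain ⟨n, s, hzs, haff⟩ := hsec z
    obtain ⟨s', hs'⟩ := exists_pullback_section h M hM (n + 1) s
    exact ⟨n, _, s', haff, hzs, hs'⟩
  have hcompact : ∀ (n : ℕ)
      (s' : Coh.structureModule Z ⟶ CohB1.tensorPow ((Scheme.Modules.pullback h).obj M) (n + 1)),
      IsCompact ((CohB1.genLocus _ s' : Z.Opens) : Set Z) := by
    intro n s'
    have h1 : IsAffineHom (CohB1.genLocus _ s').ι :=
      Groth.Agent.S2350.result Z _ (isInvertible_tensorPow hinv (n + 1)) s'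
    have h2 : IsCompact ((CohB1.genLocus _ s').ι ⁻¹' (Set.univ : Set Z)) :=
      QuasiCompact.isCompact_preimage (f := (CohB1.genLocus _ s').ι) _ isOpen_univ isCompact_univ
    have h3 := h2.image (CohB1.genLocus _ s').ι.continuous
    rw [Set.preimage_univ, Set.image_univ, Scheme.Opens.range_ι] at h3
    exact h3
  have : QuasiSeparatedSpace Z := by
    refine quasiSeparatedSpace_of_opens_cover Z (fun z => ?_)
    obtain ⟨n, D, s', hD, hzD, hs'⟩ := key z
    refine ⟨CohB1.genLocus _ s', by rw [hs']; exact hzD, ?_, fun P => ?_⟩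
    · have hc := hcompact n s'
      rw [hs'] at hc ⊢
      exact quasiSeparatedSpace_preimage_of_isEmbedding h hemb D hD hc
    · exact (isAffineOpen_inf_genLocus _ (isInvertible_tensorPow hinv (n + 1)) s' _ P.2).isCompact
  refine ⟨hinv, inferInstance, fun z => ?_⟩
  obtain ⟨n, D, s', hD, hzD, hs'⟩ := key z
  have hzs' : z ∈ CohB1.genLocus _ s' := by rw [hs']; exact hzD
  obtain ⟨A, hA, hzA, hAle⟩ := exists_isAffineOpen_mem_and_subset (X := Z) (x := z)
    (U := CohB1.genLocus _ s') hzs'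
  obtain ⟨B, hB, hBA⟩ := hemb.isInducing.isOpen_iff.1 A.isOpen
  have hzB : h z ∈ (⟨B, hB⟩ : T.Opens) := by
    have : z ∈ h.base ⁻¹' B := by rw [hBA]; exact hzA
    exact this
  obtain ⟨r, hrB, hzr⟩ := hD.exists_basicOpen_le (V := (⟨B, hB⟩ : T.Opens)) ⟨h z, hzB⟩ hzD
  have hle : CohB1.genLocus _ s' ≤ h ⁻¹ᵁ D := le_of_eq hs'
  obtain ⟨r', hr'⟩ : ∃ r' : Γ(Z, CohB1.genLocus _ s'), r' = h.appLE D (CohB1.genLocus _ s') hle r :=
    ⟨_, rfl⟩
  have hbo : Z.basicOpen r' = h ⁻¹ᵁ (T.basicOpen r) := by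
    rw [hr', Scheme.basicOpen_appLE, hs']
    apply le_antisymm inf_le_right
    refine le_inf ?_ le_rfl
    exact h.preimage_mono (T.basicOpen_le r)
  have hboA : Z.basicOpen r' ≤ A := by
    rw [hbo]
    intro y hy
    have h1 : h y ∈ B := hrB hy
    have h2 : y ∈ h.base ⁻¹' B := h1
    rw [hBA] at h2
    exact h2
  have hboaff : IsAffineOpen (Z.basicOpen r') := by
    have h1 := hA.basicOpen (Z.presheaf.map (homOfLE hAle).op r')
    rw [Scheme.basicOpen_res] at h1
    have h3 : A ⊓ Z.basicOpen r' = Z.basicOpen r' := inf_eq_right.2 hboA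
    exact Eq.mp (congrArg IsAffineOpen h3) h1
  obtain ⟨m, τ, hτ⟩ := exists_section_genLocus_eq_basicOpen _ (isInvertible_tensorPow hinv (n + 1)) s' r'
  obtain ⟨N', hN'⟩ : ∃ N', (n + 1) * (m + 1) = N' + 1 := ⟨(n + 1) * (m + 1) - 1, by
    have : 0 < (n + 1) * (m + 1) := Nat.mul_pos (Nat.succ_pos n) (Nat.succ_pos m)
    omega⟩
  obtain ⟨Φ⟩ := nonempty_tensorPow_tensorPow_iso _ hinv (n + 1) (m + 1) (N' + 1) hN'
  refine ⟨N', τ ≫ Φ.hom, ?_, ?_⟩
  · rw [genLocus_comp_iso, hτ, hbo]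
    exact hzr
  · rw [genLocus_comp_iso, hτ]
    exact hboaff

end Groth.Agent.Helper18VAmp
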