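import Mathlib
import Groth.Agent.Lib.Helper2GrModZero

/-!
# Graded rings of finite type over a ring acting in degree zero: finite covers of `Proj` (helper2)

* `exists_finset_pos` : finitely many homogeneous elements of positive degree generating (as an ideal) all pieces of
  positive degree;
* `exists_degree_cover` : there is `d₀ > 0` such that for every positive multiple `d` of `d₀`, `Proj 𝒜` is covered by
  the `D₊(g)`, `g ∈ 𝒜_d`;
* `compactSpace_proj` : `Proj 𝒜` is quasi-compact.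
-/

set_option autoImplicit false
universe u
open CategoryTheory AlgebraicGeometry TopologicalSpace

namespace Groth.Agent.Lib.Helper2.GrFTCover

variable {R A σ : Type u} [CommRing R] [CommRing A] [SetLike σ A] [AddSubgroupClass σ A]
  (𝒜 : ℕ → σ) [GradedRing 𝒜]

theorem exists_finset_pos (ρ : R →+* A) (hρ : ∀ r, ρ r ∈ 𝒜 0) (hft : ρ.FiniteType) :
    ∃ G : Finset A, (∀ g ∈ G, ∃ e : ℕ, 0 < e ∧ g ∈ 𝒜 e) ∧
      ∀ (e : ℕ), 0 < e → ∀ a ∈ 𝒜 e, a ∈ Ideal.span (G : Set A) := by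
  classical
  algebraize [ρ]
  obtain ⟨s, hs⟩ := (‹Algebra.FiniteType R A›).out
  let G : Finset A := s.biUnion (fun a => ((DirectSum.decompose 𝒜 a).support.filter (0 < ·)).image
    (fun i => (DirectSum.decompose 𝒜 a i : A)))
  have hG : ∀ g ∈ G, ∃ e : ℕ, 0 < e ∧ g ∈ 𝒜 e := by
    intro g hg
    obtain ⟨a, -, hg⟩ := Finset.mem_biUnion.mp hg
    obtain ⟨i, hi, rfl⟩ := Finset.mem_image.mp hg
    exact ⟨i, (Finset.mem_filter.mp hi).2, SetLike.coe_mem _⟩
  refine ⟨G, hG, ?_⟩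
  have hJhom : (Ideal.span (G : Set A)).IsHomogeneous 𝒜 :=
    Ideal.homogeneous_span 𝒜 _ (by
      intro g hg
      obtain ⟨e, -, he⟩ := hG g hg
      exact ⟨e, he⟩)
  have key : ∀ a : A, ∃ a0 ∈ 𝒜 0, ∃ j ∈ Ideal.span (G : Set A), a = a0 + j := by
    intro a
    have ha : a ∈ Algebra.adjoin R (s : Set A) := by rw [hs]; trivial
    induction ha using Algebra.adjoin_induction with
    | mem x hx =>
      refine ⟨∑ i ∈ (DirectSum.decompose 𝒜 x).support.filter (fun i => ¬ 0 < i),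
          (DirectSum.decompose 𝒜 x i : A), ?_,
        ∑ i ∈ (DirectSum.decompose 𝒜 x).support.filter (0 < ·), (DirectSum.decompose 𝒜 x i : A), ?_, ?_⟩
      · refine sum_mem (fun i hi => ?_)
        have h0 : i = 0 := by
          have := (Finset.mem_filter.mp hi).2
          omega
        subst h0
        exact SetLike.coe_mem _
      · refine Ideal.sum_mem _ (fun i hi => Ideal.subset_span ?_)
        exact Finset.mem_coe.mpr (Finset.mem_biUnion.mpr ⟨x, hx, Finset.mem_image.mpr ⟨i, hi, rfl⟩⟩)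
      · rw [add_comm, Finset.sum_filter_add_sum_filter_not]
        exact (DirectSum.sum_support_decompose 𝒜 x).symm
    | algebraMap r => exact ⟨ρ r, hρ r, 0, Ideal.zero_mem _, by simp [RingHom.algebraMap_toAlgebra]⟩
    | add x y _ _ hx hy =>
      obtain ⟨a0, ha0, j, hj, rfl⟩ := hx
      obtain ⟨b0, hb0, j', hj', rfl⟩ := hy
      exact ⟨a0 + b0, add_mem ha0 hb0, j + j', Ideal.add_mem _ hj hj', by ring⟩
    | mul x y _ _ hx hy =>
      obtain ⟨a0, ha0, j, hj, rfl⟩ := hx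
      obtain ⟨b0, hb0, j', hj', rfl⟩ := hy
      refine ⟨a0 * b0, by simpa using SetLike.mul_mem_graded ha0 hb0, a0 * j' + j * b0 + j * j',
        Ideal.add_mem _ (Ideal.add_mem _ (Ideal.mul_mem_left _ _ hj') (Ideal.mul_mem_right _ _ hj))
          (Ideal.mul_mem_left _ _ hj'), by ring⟩
  intro e he a ha
  obtain ⟨a0, ha0, j, hj, rfl⟩ := key a
  have h1 : (DirectSum.decompose 𝒜 (a0 + j) e : A) = a0 + j := DirectSum.decompose_of_mem_same 𝒜 ha
  have h2 : (DirectSum.decompose 𝒜 (a0 + j) e : A) = (DirectSum.decompose 𝒜 j e : A) := by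
    rw [DirectSum.decompose_add, DirectSum.add_apply, AddMemClass.coe_add,
      DirectSum.decompose_of_mem_ne 𝒜 ha0 (by omega : (0 : ℕ) ≠ e), zero_add]
  rw [← h1, h2]
  exact hJhom e hj

theorem exists_degree_cover (ρ : R →+* A) (hρ : ∀ r, ρ r ∈ 𝒜 0) (hft : ρ.FiniteType) :
    ∃ d₀ : ℕ, 0 < d₀ ∧ ∀ d : ℕ, d₀ ∣ d → 0 < d → ∀ y : ProjectiveSpectrum 𝒜,
      ∃ g ∈ 𝒜 d, g ∉ y.asHomogeneousIdeal := by
  classical
  obtain ⟨G, hG, hspan⟩ := exists_finset_pos 𝒜 ρ hρ hft
  choose! deg hdeg hmem using hG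
  refine ⟨∏ g ∈ G, deg g, Finset.prod_pos (fun g hg => hdeg g hg), ?_⟩
  intro d hd hdpos y
  obtain ⟨e, f, he, hf, hfy⟩ := Groth.Agent.Lib.Helper2GrModSect.exists_homogeneous_pos_not_mem 𝒜 y
  have hfJ := hspan e he f hf
  by_contra hcon
  push Not at hcon
  apply hfy
  have hle : Ideal.span (G : Set A) ≤ y.asHomogeneousIdeal.toIdeal := by
    rw [Ideal.span_le]
    intro g hg
    have hgd : deg g ∣ d := dvd_trans (Finset.dvd_prod_of_mem deg hg) hd
    obtain ⟨k, hk⟩ := hgd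
    have h1 : g ^ k ∈ 𝒜 d := by
      have := SetLike.pow_mem_graded k (hmem g hg)
      rwa [smul_eq_mul, mul_comm, ← hk] at this
    have h2 := hcon (g ^ k) h1
    exact y.isPrime.mem_of_pow_mem k h2
  exact hle hfJ

theorem compactSpace_proj (ρ : R →+* A) (hρ : ∀ r, ρ r ∈ 𝒜 0) (hft : ρ.FiniteType) :
    CompactSpace (Proj 𝒜) := by
  classical
  obtain ⟨G, hG, hspan⟩ := exists_finset_pos 𝒜 ρ hρ hft
  rw [← isCompact_univ_iff]
  have hcov : (Set.univ : Set (Proj 𝒜)) = ⋃ g ∈ G, ((Proj.basicOpen 𝒜 g : (Proj 𝒜).Opens) : Set (Proj 𝒜)) := by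
    symm
    rw [Set.eq_univ_iff_forall]
    intro y
    obtain ⟨e, f, he, hf, hfy⟩ := Groth.Agent.Lib.Helper2GrModSect.exists_homogeneous_pos_not_mem 𝒜
      (show ProjectiveSpectrum 𝒜 from y)
    have hfJ := hspan e he f hf
    by_contra hcon
    apply hfy
    have hle : Ideal.span (G : Set A) ≤ (show ProjectiveSpectrum 𝒜 from y).asHomogeneousIdeal.toIdeal := by
      rw [Ideal.span_le]
      intro g hg
      by_contra hgy
      apply hcon
      exact Set.mem_iUnion₂.mpr ⟨g, hg, (ProjectiveSpectrum.mem_basicOpen 𝒜 g _).mpr hgy⟩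
    exact hle hfJ
  rw [hcov]
  refine G.isCompact_biUnion (fun g hg => ?_)
  obtain ⟨e, he, hge⟩ := hG g hg
  exact (Proj.isAffineOpen_basicOpen 𝒜 g hge he).isCompact

end Groth.Agent.Lib.Helper2.GrFTCover
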