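import Mathlib
import Groth.Prelude.Def_RelProj3
import Groth.Agent.Lib.Helper2RelTwistTensor
import Groth.Agent.Lib.Helper23RestrJ

/-!
# `O_X(n)|U ⊗ O_X(-n)|U ≅ O_U` on a relative Proj, over opens covered by `D₊(f)` with `deg f ∣ n` (helper2)
-/

set_option autoImplicit false
universe u
open CategoryTheory Limits AlgebraicGeometry TopologicalSpace Opposite

namespace Groth.Agent.Lib.Helper2.RelTwistInv

open Groth.Agent.Lib.Helper2.RelTildeQCoh Groth.Agent.Lib.Helper23.SecTw Groth.Agent.Lib.Helper6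
  Groth.Agent.Lib.Helper2.Push Groth.Agent.Lib.Helper2.RelTwistGen Groth.Agent.Lib.Helper2.IsGenCover
  Groth.Agent.Lib.Helper2.RelTwistTriv Groth.Agent.Lib.Helper2.RelTwistTensor RelProj
  Groth.Agent.Lib.Helper23.GenLocus

variable {P S : Scheme.{u}} {𝒮 : RelProj.QCGrAlg S} (p : P ⟶ S)
  (chart : ∀ (U : S.Opens) (hU : IsAffineOpen U), (((p ⁻¹ᵁ U : P.Opens) : Scheme.{u}) ≅ Proj (𝒮.deg U hU)))

theorem mk_mul_mk_swap {R : Type*} [CommRing R] (T : Submonoid R) (a b : R) (ha : a ∈ T) (hb : b ∈ T) :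
    (Localization.mk a ⟨b, hb⟩ : Localization T) * Localization.mk b ⟨a, ha⟩ = 1 := by
  rw [Localization.mk_mul, ← Localization.mk_one, Localization.mk_eq_mk_iff, Localization.r_iff_exists]
  refine ⟨1, ?_⟩
  simp only [OneMemClass.coe_one, one_mul, Submonoid.coe_mul, mul_one]
  ring

section frame

variable (k : ℤ) (L : P.Modules)
  (lam : ∀ (U : S.Opens) (hU : IsAffineOpen U),
    L ⟶ (Scheme.Modules.pushforward (RelProj.emb p chart U hU)).obj (GrTwist.twist (𝒮.deg U hU) k))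
  (hL : RelProj.IsRelTwist 𝒮 p chart k L lam)

include hL in
/-- a frame of `O_P(k)` reading as a given fraction `a / b` in a chart. -/
theorem exists_frame (U : S.Opens) (hU : IsAffineOpen U) (V : P.Opens) (hV : V ≤ p ⁻¹ᵁ U) {i j : ℕ}
    {a b : 𝒮.presheaf.obj (op U)} (ha : a ∈ 𝒮.deg U hU i) (hb : b ∈ 𝒮.deg U hU j) (hij : (i : ℤ) = j + k)
    (hWa : ∀ y : ((RelProj.emb p chart U hU) ⁻¹ᵁ V : (Proj (𝒮.deg U hU)).Opens),
      a ∉ y.1.asHomogeneousIdeal)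
    (hWb : ∀ y : ((RelProj.emb p chart U hU) ⁻¹ᵁ V : (Proj (𝒮.deg U hU)).Opens),
      b ∉ y.1.asHomogeneousIdeal) :
    ∃ e : Γ(L, V), IsGen L V e ∧
      ∀ y : ((RelProj.emb p chart U hU) ⁻¹ᵁ V : (Proj (𝒮.deg U hU)).Opens),
        GrTwist.val (V := RelProj.emb p chart U hU ⁻¹ᵁ V) ((lam U hU).app V e) y =
          Localization.mk a ⟨b, hWb y⟩ := by
  obtain ⟨e, he⟩ := (hL.bijective U hU V hV).2
    (Groth.Agent.Lib.Helper2GrModSect.fracSec (𝒮.deg U hU) k _ ha hb hij hWb)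
  refine ⟨e, ?_, fun y => ?_⟩
  · have h2 := Groth.Agent.Lib.Helper2GrModSect.isGen_fracSec (𝒮.deg U hU) k _ ha hb hij hWb hWa
    rw [← he] at h2
    exact isGen_of_chart (RelProj.emb p chart U hU) L _ (lam U hU) V
      (hV.trans (le_opensRange_emb p chart U hU))
      (fun W'' hW => hL.bijective U hU W'' (hW.trans hV)) e h2
  · exact (congrArg (fun σ : Γ(GrTwist.twist (𝒮.deg U hU) k, (RelProj.emb p chart U hU) ⁻¹ᵁ V) =>
      GrTwist.val σ y) he).trans rfl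

end frame

section inverse

variable (n : ℤ) (L : P.Modules)
  (lam : ∀ (U : S.Opens) (hU : IsAffineOpen U),
    L ⟶ (Scheme.Modules.pushforward (RelProj.emb p chart U hU)).obj (GrTwist.twist (𝒮.deg U hU) n))
  (hL : RelProj.IsRelTwist 𝒮 p chart n L lam) (L' : P.Modules)
  (lam' : ∀ (U : S.Opens) (hU : IsAffineOpen U),
    L' ⟶ (Scheme.Modules.pushforward (RelProj.emb p chart U hU)).obj (GrTwist.twist (𝒮.deg U hU) (-n)))
  (hL' : RelProj.IsRelTwist 𝒮 p chart (-n) L' lam')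

include hL hL' in
/-- if frames of `O(n)` read `a_i / b_i` and frames of `O(-n)` read `b_i / a_i`, their transition functions are
inverse to each other. -/
theorem inverse_transition (hP : RelProj.IsRelProj 𝒮 p chart)
    (U₁ : S.Opens) (hU₁ : IsAffineOpen U₁) (U₂ : S.Opens) (hU₂ : IsAffineOpen U₂)
    (V₁ V₂ : P.Opens) (hV₁ : V₁ ≤ p ⁻¹ᵁ U₁) (hV₂ : V₂ ≤ p ⁻¹ᵁ U₂)
    (a₁ b₁ : 𝒮.presheaf.obj (op U₁)) (a₂ b₂ : 𝒮.presheaf.obj (op U₂))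
    (ha₁ : ∀ y : ((RelProj.emb p chart U₁ hU₁) ⁻¹ᵁ V₁ : (Proj (𝒮.deg U₁ hU₁)).Opens),
      a₁ ∉ y.1.asHomogeneousIdeal)
    (hb₁ : ∀ y : ((RelProj.emb p chart U₁ hU₁) ⁻¹ᵁ V₁ : (Proj (𝒮.deg U₁ hU₁)).Opens),
      b₁ ∉ y.1.asHomogeneousIdeal)
    (ha₂ : ∀ y : ((RelProj.emb p chart U₂ hU₂) ⁻¹ᵁ V₂ : (Proj (𝒮.deg U₂ hU₂)).Opens),
      a₂ ∉ y.1.asHomogeneousIdeal)
    (hb₂ : ∀ y : ((RelProj.emb p chart U₂ hU₂) ⁻¹ᵁ V₂ : (Proj (𝒮.deg U₂ hU₂)).Opens),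
      b₂ ∉ y.1.asHomogeneousIdeal)
    (e₁ : Γ(L, V₁))
    (he₁ : ∀ y : ((RelProj.emb p chart U₁ hU₁) ⁻¹ᵁ V₁ : (Proj (𝒮.deg U₁ hU₁)).Opens),
      GrTwist.val (V := RelProj.emb p chart U₁ hU₁ ⁻¹ᵁ V₁) ((lam U₁ hU₁).app V₁ e₁) y =
        Localization.mk a₁ ⟨b₁, hb₁ y⟩)
    (e₂ : Γ(L, V₂))
    (he₂ : ∀ y : ((RelProj.emb p chart U₂ hU₂) ⁻¹ᵁ V₂ : (Proj (𝒮.deg U₂ hU₂)).Opens),
      GrTwist.val (V := RelProj.emb p chart U₂ hU₂ ⁻¹ᵁ V₂) ((lam U₂ hU₂).app V₂ e₂) y =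
        Localization.mk a₂ ⟨b₂, hb₂ y⟩)
    (e'₁ : Γ(L', V₁))
    (he'₁ : ∀ y : ((RelProj.emb p chart U₁ hU₁) ⁻¹ᵁ V₁ : (Proj (𝒮.deg U₁ hU₁)).Opens),
      GrTwist.val (V := RelProj.emb p chart U₁ hU₁ ⁻¹ᵁ V₁) ((lam' U₁ hU₁).app V₁ e'₁) y =
        Localization.mk b₁ ⟨a₁, ha₁ y⟩)
    (e'₂ : Γ(L', V₂))
    (he'₂ : ∀ y : ((RelProj.emb p chart U₂ hU₂) ⁻¹ᵁ V₂ : (Proj (𝒮.deg U₂ hU₂)).Opens),
      GrTwist.val (V := RelProj.emb p chart U₂ hU₂ ⁻¹ᵁ V₂) ((lam' U₂ hU₂).app V₂ e'₂) y =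
        Localization.mk b₂ ⟨a₂, ha₂ y⟩)
    (O : P.Opens) (hO₁ : O ≤ V₁) (hO₂ : O ≤ V₂) (c : Γ(P, O))
    (H : res L' hO₁ e'₁ = c • res L' hO₂ e'₂) : res L hO₂ e₂ = c • res L hO₁ e₁ := by
  have key : ∀ x : O, ∃ (O' : P.Opens) (hO' : O' ≤ O), x.1 ∈ O' ∧
      res L hO' (res L hO₂ e₂) = res L hO' (c • res L hO₁ e₁) := by
    intro x
    obtain ⟨r, r', hrr', hx⟩ := exists_basicOpen_le_affine_inter hU₁ hU₂ (p x.1)
      ⟨hV₁ (hO₁ x.2), hV₂ (hO₂ x.2)⟩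
    have hle₂ : S.basicOpen r ≤ U₂ := hrr' ▸ S.basicOpen_le r'
    refine ⟨O ⊓ p ⁻¹ᵁ (S.basicOpen r), inf_le_left, ⟨x.2, hx⟩, ?_⟩
    rw [res_res, res_smul, res_res]
    apply (hL.bijective (S.basicOpen r) (hU₁.basicOpen r) _ inf_le_right).1
    apply twist_ext
    intro y''
    obtain ⟨hβ₂, v2⟩ := val_lam_res p chart n L lam hL hP U₂ hU₂ r' (S.basicOpen r) (hU₁.basicOpen r)
      hrr' hle₂ V₂ e₂ a₂ b₂ hb₂ he₂ (O ⊓ p ⁻¹ᵁ (S.basicOpen r)) (inf_le_left.trans hO₂) y''.1 y''.2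
    obtain ⟨hβ₁, v1⟩ := val_lam_res p chart n L lam hL hP U₁ hU₁ r (S.basicOpen r) (hU₁.basicOpen r)
      rfl (S.basicOpen_le r) V₁ e₁ a₁ b₁ hb₁ he₁ (O ⊓ p ⁻¹ᵁ (S.basicOpen r)) (inf_le_left.trans hO₁)
      y''.1 y''.2
    obtain ⟨hα₂, w2⟩ := val_lam_res p chart (-n) L' lam' hL' hP U₂ hU₂ r' (S.basicOpen r)
      (hU₁.basicOpen r) hrr' hle₂ V₂ e'₂ b₂ a₂ ha₂ he'₂ (O ⊓ p ⁻¹ᵁ (S.basicOpen r))
      (inf_le_left.trans hO₂) y''.1 y''.2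
    obtain ⟨hα₁, w1⟩ := val_lam_res p chart (-n) L' lam' hL' hP U₁ hU₁ r (S.basicOpen r)
      (hU₁.basicOpen r) rfl (S.basicOpen_le r) V₁ e'₁ b₁ a₁ ha₁ he'₁ (O ⊓ p ⁻¹ᵁ (S.basicOpen r))
      (inf_le_left.trans hO₁) y''.1 y''.2
    have H' := congrArg (res L' (inf_le_left : O ⊓ p ⁻¹ᵁ (S.basicOpen r) ≤ O)) H
    rw [res_smul, res_res, res_res] at H'
    have H'' := congrArg (fun σ => GrTwist.val
      (V := RelProj.emb p chart (S.basicOpen r) (hU₁.basicOpen r) ⁻¹ᵁ (O ⊓ p ⁻¹ᵁ (S.basicOpen r)))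
      ((lam' (S.basicOpen r) (hU₁.basicOpen r)).app (O ⊓ p ⁻¹ᵁ (S.basicOpen r)) σ) y'') H'
    simp only at H''
    have hsm' : GrTwist.val
        (V := RelProj.emb p chart (S.basicOpen r) (hU₁.basicOpen r) ⁻¹ᵁ (O ⊓ p ⁻¹ᵁ (S.basicOpen r)))
        ((lam' (S.basicOpen r) (hU₁.basicOpen r)).app (O ⊓ p ⁻¹ᵁ (S.basicOpen r))
          (resf (inf_le_left : O ⊓ p ⁻¹ᵁ (S.basicOpen r) ≤ O) c •
            res L' (inf_le_left.trans hO₂) e'₂)) y'' =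
        (Groth.Agent.Lib.Helper2GrModSect.funVal (𝒮.deg (S.basicOpen r) (hU₁.basicOpen r)) _
          ((RelProj.emb p chart (S.basicOpen r) (hU₁.basicOpen r)).app _
            (resf (inf_le_left : O ⊓ p ⁻¹ᵁ (S.basicOpen r) ≤ O) c)) y''.1 y''.2).val *
        GrTwist.val
          (V := RelProj.emb p chart (S.basicOpen r) (hU₁.basicOpen r) ⁻¹ᵁ (O ⊓ p ⁻¹ᵁ (S.basicOpen r)))
          ((lam' (S.basicOpen r) (hU₁.basicOpen r)).app (O ⊓ p ⁻¹ᵁ (S.basicOpen r))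
            (res L' (inf_le_left.trans hO₂) e'₂)) y'' := by
      rw [Scheme.Modules.Hom.app_smul, pushforward_smul]
      rfl
    have hsm : GrTwist.val
        (V := RelProj.emb p chart (S.basicOpen r) (hU₁.basicOpen r) ⁻¹ᵁ (O ⊓ p ⁻¹ᵁ (S.basicOpen r)))
        ((lam (S.basicOpen r) (hU₁.basicOpen r)).app (O ⊓ p ⁻¹ᵁ (S.basicOpen r))
          (resf (inf_le_left : O ⊓ p ⁻¹ᵁ (S.basicOpen r) ≤ O) c •
            res L (inf_le_left.trans hO₁) e₁)) y'' =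
        (Groth.Agent.Lib.Helper2GrModSect.funVal (𝒮.deg (S.basicOpen r) (hU₁.basicOpen r)) _
          ((RelProj.emb p chart (S.basicOpen r) (hU₁.basicOpen r)).app _
            (resf (inf_le_left : O ⊓ p ⁻¹ᵁ (S.basicOpen r) ≤ O) c)) y''.1 y''.2).val *
        GrTwist.val
          (V := RelProj.emb p chart (S.basicOpen r) (hU₁.basicOpen r) ⁻¹ᵁ (O ⊓ p ⁻¹ᵁ (S.basicOpen r)))
          ((lam (S.basicOpen r) (hU₁.basicOpen r)).app (O ⊓ p ⁻¹ᵁ (S.basicOpen r))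
            (res L (inf_le_left.trans hO₁) e₁)) y'' := by
      rw [Scheme.Modules.Hom.app_smul, pushforward_smul]
      rfl
    rw [w1, hsm', w2] at H''
    rw [v2, hsm, v1]
    have hu₁ := mk_mul_mk_swap y''.1.asHomogeneousIdeal.toIdeal.primeCompl _ _ hα₁ hβ₁
    have hu₂ := mk_mul_mk_swap y''.1.asHomogeneousIdeal.toIdeal.primeCompl _ _ hα₂ hβ₂
    generalize (Groth.Agent.Lib.Helper2GrModSect.funVal (𝒮.deg (S.basicOpen r) (hU₁.basicOpen r)) _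
      ((RelProj.emb p chart (S.basicOpen r) (hU₁.basicOpen r)).app _
        (resf (inf_le_left : O ⊓ p ⁻¹ᵁ (S.basicOpen r) ≤ O) c)) y''.1 y''.2).val = cv at H'' ⊢
    calc (Localization.mk _ ⟨_, hβ₂⟩ : GrTwist.Loc _ y''.1)
        = Localization.mk _ ⟨_, hβ₂⟩ * (Localization.mk _ ⟨_, hβ₁⟩ * Localization.mk _ ⟨_, hα₁⟩) := by
          rw [hu₁, mul_one]
      _ = Localization.mk _ ⟨_, hβ₂⟩ * (Localization.mk _ ⟨_, hβ₁⟩ * (cv * Localization.mk _ ⟨_, hα₂⟩)) := by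
          rw [H'']
      _ = cv * Localization.mk _ ⟨_, hβ₁⟩ * (Localization.mk _ ⟨_, hβ₂⟩ * Localization.mk _ ⟨_, hα₂⟩) := by
          ring
      _ = cv * Localization.mk _ ⟨_, hβ₁⟩ := by rw [hu₂, mul_one]
  choose O' hO' hxO' hres using key
  refine (modSheaf L).eq_of_locally_eq' (fun x : O => O' x) _ (fun x => homOfLE (hO' x)) ?_ _ _ hres
  intro x hx'
  exact Opens.mem_iSup.mpr ⟨⟨x, hx'⟩, hxO' _⟩


include hL hL' in
/-- `O_P(n)|Ω ⊗ O_P(-n)|Ω ≅ O_Ω` when `Ω` is covered by the `D₊(f)` with `deg f ∣ n`. -/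
theorem nonempty_restrict_tensor_iso (hP : RelProj.IsRelProj 𝒮 p chart) (Ω : P.Opens)
    (hcov : ∀ z ∈ Ω, ∃ (U : S.affineOpens) (e : ℕ) (f : 𝒮.presheaf.obj (op U.1)) (m : ℤ),
      f ∈ 𝒮.deg U.1 U.2 e ∧ n = m * e ∧
      z ∈ (RelProj.emb p chart U.1 U.2) ''ᵁ (Proj.basicOpen (𝒮.deg U.1 U.2) f)) :
    Nonempty (CohB1.tensorMod (L.restrict Ω.ι) (L'.restrict Ω.ι) ≅
      Coh.structureModule (Ω : Scheme.{u})) := by
  have key : ∀ x : (Ω : Scheme.{u}), ∃ (U : S.affineOpens) (i i' : ℕ) (a b : 𝒮.presheaf.obj (op U.1))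
      (V : P.Opens), a ∈ 𝒮.deg U.1 U.2 i ∧ b ∈ 𝒮.deg U.1 U.2 i' ∧ (i : ℤ) = i' + n ∧
      V ≤ p ⁻¹ᵁ U.1 ∧ Ω.ι x ∈ V ∧
      (∀ y : ((RelProj.emb p chart U.1 U.2) ⁻¹ᵁ V : (Proj (𝒮.deg U.1 U.2)).Opens),
        a ∉ y.1.asHomogeneousIdeal) ∧
      (∀ y : ((RelProj.emb p chart U.1 U.2) ⁻¹ᵁ V : (Proj (𝒮.deg U.1 U.2)).Opens),
        b ∉ y.1.asHomogeneousIdeal) := by
    intro x
    obtain ⟨U, e, f, m, hf, hn, hx⟩ := hcov (Ω.ι x) x.2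
    have hnv : ∀ y : ((RelProj.emb p chart U.1 U.2) ⁻¹ᵁ ((RelProj.emb p chart U.1 U.2) ''ᵁ
        (Proj.basicOpen (𝒮.deg U.1 U.2) f)) : (Proj (𝒮.deg U.1 U.2)).Opens),
        f ∉ y.1.asHomogeneousIdeal := by
      rintro ⟨y, h1⟩
      rw [(RelProj.emb p chart U.1 U.2).preimage_image_eq] at h1
      exact (ProjectiveSpectrum.mem_basicOpen _ _ y).mp h1
    refine ⟨U, m.toNat • e, (-m).toNat • e, f ^ m.toNat, f ^ (-m).toNat, _,
      SetLike.pow_mem_graded _ hf, SetLike.pow_mem_graded _ hf, ?_, image_emb_le p chart U.1 U.2 _, hx,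
      fun y hh => hnv y (y.1.isPrime.mem_of_pow_mem _ hh),
      fun y hh => hnv y (y.1.isPrime.mem_of_pow_mem _ hh)⟩
    have h3 : ((m.toNat : ℕ) : ℤ) - ((-m).toNat : ℕ) = m := by omega
    simp only [smul_eq_mul, Nat.cast_mul]
    rw [hn]
    linear_combination (e : ℤ) * h3
  choose U i i' a b V ha hb hij hV hxV hWa hWb using key
  have hij' : ∀ x, ((i' x : ℕ) : ℤ) = i x + (-n) := fun x => by have := hij x; omega
  have hfr : ∀ x, ∃ e : Γ(L, V x), IsGen L (V x) e ∧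
      ∀ y : ((RelProj.emb p chart (U x).1 (U x).2) ⁻¹ᵁ (V x) : (Proj (𝒮.deg (U x).1 (U x).2)).Opens),
        GrTwist.val (V := RelProj.emb p chart (U x).1 (U x).2 ⁻¹ᵁ (V x))
          ((lam (U x).1 (U x).2).app (V x) e) y = Localization.mk (a x) ⟨b x, hWb x y⟩ :=
    fun x => exists_frame p chart n L lam hL (U x).1 (U x).2 (V x) (hV x) (ha x) (hb x) (hij x)
      (hWa x) (hWb x)
  have hfr' : ∀ x, ∃ e : Γ(L', V x), IsGen L' (V x) e ∧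
      ∀ y : ((RelProj.emb p chart (U x).1 (U x).2) ⁻¹ᵁ (V x) : (Proj (𝒮.deg (U x).1 (U x).2)).Opens),
        GrTwist.val (V := RelProj.emb p chart (U x).1 (U x).2 ⁻¹ᵁ (V x))
          ((lam' (U x).1 (U x).2).app (V x) e) y = Localization.mk (b x) ⟨a x, hWa x y⟩ :=
    fun x => exists_frame p chart (-n) L' lam' hL' (U x).1 (U x).2 (V x) (hV x) (hb x) (ha x) (hij' x)
      (hWb x) (hWa x)
  choose E hE vE using hfr
  choose E' hE' vE' using hfr'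
  have hjW : ∀ x, Ω.ι ''ᵁ (Ω.ι ⁻¹ᵁ (V x)) ≤ V x := fun x => by
    rw [Scheme.Hom.image_preimage_eq_opensRange_inf]
    exact inf_le_right
  have hone : ∀ {W W' : (Ω : Scheme.{u}).Opens} (h : W' ≤ W),
      res (Coh.structureModule (Ω : Scheme.{u})) h (toS W 1) = toS W' 1 := fun {W W'} h =>
    (map_toS (homOfLE h) 1).trans (by rw [map_one])
  have hA : ∀ x, IsGen (L.restrict Ω.ι) (Ω.ι ⁻¹ᵁ (V x))
      (show Γ(L.restrict Ω.ι, Ω.ι ⁻¹ᵁ (V x)) from res L (hjW x) (E x)) := fun x =>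
    Groth.Agent.Lib.Helper23.RestrJ.isGen_restrict_of_isGen Ω.ι L _ _ ((hE x).mono (hjW x))
  have hA' : ∀ x, IsGen (L'.restrict Ω.ι) (Ω.ι ⁻¹ᵁ (V x))
      (show Γ(L'.restrict Ω.ι, Ω.ι ⁻¹ᵁ (V x)) from res L' (hjW x) (E' x)) := fun x =>
    Groth.Agent.Lib.Helper23.RestrJ.isGen_restrict_of_isGen Ω.ι L' _ _ ((hE' x).mono (hjW x))
  obtain ⟨Φ, -⟩ := exists_iso_of_frames (CohB1.tensorMod (L.restrict Ω.ι) (L'.restrict Ω.ι))
    (Coh.structureModule (Ω : Scheme.{u})) (fun x => Ω.ι ⁻¹ᵁ (V x)) (fun x => ⟨x, hxV x⟩)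
    (fun x => tm _ _ _ (show Γ(L.restrict Ω.ι, Ω.ι ⁻¹ᵁ (V x)) from res L (hjW x) (E x))
      (show Γ(L'.restrict Ω.ι, Ω.ι ⁻¹ᵁ (V x)) from res L' (hjW x) (E' x)))
    (fun x => toS _ 1)
    (fun x => isGen_tm _ _ _ _ _ (hA x) (hA' x))
    (fun x => isGen_one _)
    (by
      intro z w
      obtain ⟨γ', hγ'⟩ := exists_transition'
        (show Γ(L'.restrict Ω.ι, Ω.ι ⁻¹ᵁ (V z)) from res L' (hjW z) (E' z)) (hA' w)
      have hOz : Ω.ι ''ᵁ (Ω.ι ⁻¹ᵁ (V z) ⊓ Ω.ι ⁻¹ᵁ (V w)) ≤ V z :=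
        (Ω.ι.image_mono inf_le_left).trans (hjW z)
      have hOw : Ω.ι ''ᵁ (Ω.ι ⁻¹ᵁ (V z) ⊓ Ω.ι ⁻¹ᵁ (V w)) ≤ V w :=
        (Ω.ι.image_mono inf_le_right).trans (hjW w)
      have H : res L' hOz (E' z) =
          Groth.Agent.Lib.Helper23.RestrJ.upf Ω.ι _ γ' • res L' hOw (E' w) := by
        have h1 : res L' hOz (E' z) =
            res L' (Ω.ι.image_mono inf_le_left) (res L' (hjW z) (E' z)) := (res_res _ _ _ _).symm
        have h2 : res L' hOw (E' w) =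
            res L' (Ω.ι.image_mono inf_le_right) (res L' (hjW w) (E' w)) := (res_res _ _ _ _).symm
        rw [h1, h2]
        exact hγ'
      have K := inverse_transition p chart n L lam hL L' lam' hL' hP (U z).1 (U z).2 (U w).1 (U w).2
        (V z) (V w) (hV z) (hV w) (a z) (b z) (a w) (b w) (hWa z) (hWb z) (hWa w) (hWb w)
        (E z) (vE z) (E w) (vE w) (E' z) (vE' z) (E' w) (vE' w) _ hOz hOw _ H
      have K' : res (L.restrict Ω.ι) inf_le_right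
            (show Γ(L.restrict Ω.ι, Ω.ι ⁻¹ᵁ (V w)) from res L (hjW w) (E w)) =
          γ' • res (L.restrict Ω.ι) inf_le_left
            (show Γ(L.restrict Ω.ι, Ω.ι ⁻¹ᵁ (V z)) from res L (hjW z) (E z)) := by
        have h1 : res L hOz (E z) =
            res L (Ω.ι.image_mono inf_le_left) (res L (hjW z) (E z)) := (res_res _ _ _ _).symm
        have h2 : res L hOw (E w) =
            res L (Ω.ι.image_mono inf_le_right) (res L (hjW w) (E w)) := (res_res _ _ _ _).symm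
        rw [h1, h2] at K
        exact K
      refine cocycle_of_transition (isGen_tm _ _ _ _ _ (hA w) (hA' w)) 1 ?_ ?_
      · rw [res_tm, res_tm, one_smul, K', hγ', tm_smul_left, tm_smul_right]
      · rw [one_smul, hone, hone])
  exact ⟨Φ⟩

end inverse

end Groth.Agent.Lib.Helper2.RelTwistInv
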