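import Mathlib
import Groth.Prelude.Def_RelProj3
import Groth.Agent.Lib.Helper2RelTwistInv
import Groth.Agent.Lib.Helper2GrFTCover
import Groth.Agent.Lib.Helper2GrModBridge2

/-!
# `O_P(d)` is relatively ample on a relative Proj of a graded algebra of finite type (helper2)
-/

set_option autoImplicit false
universe u
open CategoryTheory Limits AlgebraicGeometry TopologicalSpace Opposite

namespace Groth.Agent.Lib.Helper2.RelTwistAmple

open Groth.Agent.Lib.Helper2.RelTildeQCoh Groth.Agent.Lib.Helper23.SecTw Groth.Agent.Lib.Helper6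
  Groth.Agent.Lib.Helper2.Push Groth.Agent.Lib.Helper2.RelTwistGen Groth.Agent.Lib.Helper2.IsGenCover
  Groth.Agent.Lib.Helper2.RelTwistTriv Groth.Agent.Lib.Helper2.RelTwistTensor RelProj
  Groth.Agent.Lib.Helper23.GenLocus Groth.Agent.Lib.Helper2.RelTwistInv Groth.Agent.Lib.Helper23.RestrJ
  Groth.Agent.Lib.Helper2GrModSect

section funval

variable {A σ : Type u} [CommRing A] [SetLike σ A] [AddSubgroupClass σ A] {𝒜 : ℕ → σ} [GradedRing 𝒜]

/-- the value of a function on `W ⊆ Proj 𝒜`, transported to the image of `W` under an open immersion and back. -/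
theorem funVal_app_upf {P : Scheme.{u}} (jz : Proj 𝒜 ⟶ P) [IsOpenImmersion jz] (W : (Proj 𝒜).Opens)
    (c : Γ(Proj 𝒜, W)) (y : ProjectiveSpectrum 𝒜) (hy : y ∈ jz ⁻¹ᵁ (jz ''ᵁ W)) (hy' : y ∈ W) :
    funVal 𝒜 (jz ⁻¹ᵁ (jz ''ᵁ W)) (jz.app (jz ''ᵁ W) (upf jz W c)) y hy = funVal 𝒜 W c y hy' := by
  have h1 : jz.app (jz ''ᵁ W) (upf jz W c) =
      (Proj 𝒜).presheaf.map (eqToHom (jz.preimage_image_eq W)).op c :=
    Scheme.Hom.appIso_inv_app_apply jz W c
  rw [h1]
  rfl

end funval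

variable {P S : Scheme.{u}} {𝒮 : RelProj.QCGrAlg S} (p : P ⟶ S)
  (chart : ∀ (U : S.Opens) (hU : IsAffineOpen U), (((p ⁻¹ᵁ U : P.Opens) : Scheme.{u}) ≅ Proj (𝒮.deg U hU)))

section chartAmple

variable (d : ℕ) (L : P.Modules)
  (lam : ∀ (U : S.Opens) (hU : IsAffineOpen U),
    L ⟶ (Scheme.Modules.pushforward (RelProj.emb p chart U hU)).obj (GrTwist.twist (𝒮.deg U hU) (d : ℤ)))
  (hL : RelProj.IsRelTwist 𝒮 p chart (d : ℤ) L lam)

include hL in
/-- the section of `O_P(d)` over `p⁻¹(V)` reading `g / 1`. -/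
theorem exists_sec (V : S.Opens) (hV : IsAffineOpen V) {g : 𝒮.presheaf.obj (op V)} (hg : g ∈ 𝒮.deg V hV d) :
    ∃ ℓ : Γ(L, p ⁻¹ᵁ V),
      ∀ y : ((RelProj.emb p chart V hV) ⁻¹ᵁ (p ⁻¹ᵁ V) : (Proj (𝒮.deg V hV)).Opens),
        GrTwist.val (V := RelProj.emb p chart V hV ⁻¹ᵁ (p ⁻¹ᵁ V)) ((lam V hV).app (p ⁻¹ᵁ V) ℓ) y =
          Localization.mk g ⟨1, GrMod.one_nin y.1⟩ := by
  have h1mem : (1 : 𝒮.presheaf.obj (op V)) ∈ 𝒮.deg V hV 0 := SetLike.GradedOne.one_mem
  have hij : ((d : ℕ) : ℤ) = ((0 : ℕ) : ℤ) + (d : ℤ) := by simp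
  obtain ⟨ℓ, hℓ⟩ := (hL.bijective V hV (p ⁻¹ᵁ V) le_rfl).2
    (fracSec (𝒮.deg V hV) (d : ℤ) _ hg h1mem hij (fun y => GrMod.one_nin y.1))
  refine ⟨ℓ, fun y => ?_⟩
  exact (congrArg (fun σ : Γ(GrTwist.twist (𝒮.deg V hV) (d : ℤ),
    (RelProj.emb p chart V hV) ⁻¹ᵁ (p ⁻¹ᵁ V)) => GrTwist.val σ y) hℓ).trans rfl

include hL in
/-- chartwise ampleness: if `Proj 𝒮(V)` is quasi-compact and covered by the `D₊(g)`, `g ∈ 𝒮(V)_d`, `d > 0`, then
the restriction of `O_P(d)` to the chart `Proj 𝒮(V)` is ample. -/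
theorem isAmple_restrict_emb (hd : 0 < d) (hLinv : PicF.IsInvertible L) (V : S.Opens) (hV : IsAffineOpen V)
    [CompactSpace (Proj (𝒮.deg V hV))]
    (hcov : ∀ y : ProjectiveSpectrum (𝒮.deg V hV), ∃ g ∈ 𝒮.deg V hV d, g ∉ y.asHomogeneousIdeal) :
    CohB1.IsAmple (L.restrict (RelProj.emb p chart V hV)) := by
  have hN : PicF.IsInvertible (L.restrict (RelProj.emb p chart V hV)) :=
    isInvertible_restrict (RelProj.emb p chart V hV) L hLinv
  have h1mem : (1 : 𝒮.presheaf.obj (op V)) ∈ 𝒮.deg V hV 0 := SetLike.GradedOne.one_mem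
  have hij : ((d : ℕ) : ℤ) = ((0 : ℕ) : ℤ) + (d : ℤ) := by simp
  -- frames
  have hfr : ∀ (g' : 𝒮.presheaf.obj (op V)) (hg' : g' ∈ 𝒮.deg V hV d),
      ∃ e : Γ(L, (RelProj.emb p chart V hV) ''ᵁ (Proj.basicOpen (𝒮.deg V hV) g')),
        IsGen L ((RelProj.emb p chart V hV) ''ᵁ (Proj.basicOpen (𝒮.deg V hV) g')) e ∧
        ∀ y : ((RelProj.emb p chart V hV) ⁻¹ᵁ ((RelProj.emb p chart V hV) ''ᵁ
            (Proj.basicOpen (𝒮.deg V hV) g')) : (Proj (𝒮.deg V hV)).Opens),
          GrTwist.val (V := RelProj.emb p chart V hV ⁻¹ᵁ ((RelProj.emb p chart V hV) ''ᵁ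
            (Proj.basicOpen (𝒮.deg V hV) g')))
            ((lam V hV).app _ e) y = Localization.mk g' ⟨1, GrMod.one_nin y.1⟩ := by
    intro g' hg'
    refine exists_frame p chart (d : ℤ) L lam hL V hV _ (image_emb_le p chart V hV _) hg' h1mem hij ?_
      (fun y => GrMod.one_nin y.1)
    rintro ⟨y, h1⟩
    rw [(RelProj.emb p chart V hV).preimage_image_eq] at h1
    exact (ProjectiveSpectrum.mem_basicOpen _ _ y).mp h1
  -- the generating locus of the section `g / 1`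
  have hloc : ∀ (g : 𝒮.presheaf.obj (op V)) (hg : g ∈ 𝒮.deg V hV d),
      ∃ σ : Γ(L.restrict (RelProj.emb p chart V hV), ⊤),
        CohB1.genLocus (L.restrict (RelProj.emb p chart V hV))
          (secHom (L.restrict (RelProj.emb p chart V hV)) σ) = Proj.basicOpen (𝒮.deg V hV) g := by
    intro g hg
    obtain ⟨ℓ, hℓ⟩ := exists_sec p chart d L lam hL V hV hg
    have hle : (RelProj.emb p chart V hV) ''ᵁ ⊤ ≤ p ⁻¹ᵁ V := image_emb_le p chart V hV ⊤
    refine ⟨(show Γ(L.restrict (RelProj.emb p chart V hV), ⊤) from res L hle ℓ), ?_⟩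
    refine opens_eq_of_cover _ _ (fun y' => ?_)
    obtain ⟨g', hg', hg'y⟩ := hcov y'
    obtain ⟨E, hE, vE⟩ := hfr g' hg'
    have hA : IsGen (L.restrict (RelProj.emb p chart V hV)) (Proj.basicOpen (𝒮.deg V hV) g')
        (show Γ(L.restrict (RelProj.emb p chart V hV), Proj.basicOpen (𝒮.deg V hV) g') from E) :=
      isGen_restrict_of_isGen (RelProj.emb p chart V hV) L _ E hE
    refine ⟨Proj.basicOpen (𝒮.deg V hV) g', (ProjectiveSpectrum.mem_basicOpen _ g' y').mpr hg'y, ?_⟩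
    rw [genLocus_inf_eq_coef _ hA]
    have hc := (sv_eq_coef_smul (secHom (L.restrict (RelProj.emb p chart V hV))
      (show Γ(L.restrict (RelProj.emb p chart V hV), ⊤) from res L hle ℓ)) hA).symm
    generalize coef hA le_rfl (sv (secHom (L.restrict (RelProj.emb p chart V hV))
      (show Γ(L.restrict (RelProj.emb p chart V hV), ⊤) from res L hle ℓ))
      (Proj.basicOpen (𝒮.deg V hV) g')) = c at hc ⊢
    rw [sv_secHom] at hc
    have hcL : (upf (RelProj.emb p chart V hV) (Proj.basicOpen (𝒮.deg V hV) g') c • E :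
        Γ(L, (RelProj.emb p chart V hV) ''ᵁ (Proj.basicOpen (𝒮.deg V hV) g'))) =
        res L (image_emb_le p chart V hV _) ℓ := by
      have h2 : res L ((RelProj.emb p chart V hV).image_mono
          (le_top : Proj.basicOpen (𝒮.deg V hV) g' ≤ ⊤)) (res L hle ℓ) =
          res L (image_emb_le p chart V hV _) ℓ := res_res _ _ _ _
      rw [← h2]
      exact hc
    have hval : ∀ (y : ProjectiveSpectrum (𝒮.deg V hV)) (hy : y ∈ Proj.basicOpen (𝒮.deg V hV) g'),
        (funVal (𝒮.deg V hV) (Proj.basicOpen (𝒮.deg V hV) g') c y hy).val =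
          Localization.mk g ⟨g', (ProjectiveSpectrum.mem_basicOpen _ g' y).mp hy⟩ := by
      intro y hy
      have hy2 : y ∈ (RelProj.emb p chart V hV) ⁻¹ᵁ ((RelProj.emb p chart V hV) ''ᵁ
          (Proj.basicOpen (𝒮.deg V hV) g')) := by
        rw [(RelProj.emb p chart V hV).preimage_image_eq]; exact hy
      have H := congrArg (fun τ => GrTwist.val
        (V := RelProj.emb p chart V hV ⁻¹ᵁ ((RelProj.emb p chart V hV) ''ᵁ
          (Proj.basicOpen (𝒮.deg V hV) g')))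
        ((lam V hV).app _ τ) ⟨y, hy2⟩) hcL
      simp only at H
      have hsm : GrTwist.val
          (V := RelProj.emb p chart V hV ⁻¹ᵁ ((RelProj.emb p chart V hV) ''ᵁ
            (Proj.basicOpen (𝒮.deg V hV) g')))
          ((lam V hV).app _ (upf (RelProj.emb p chart V hV) (Proj.basicOpen (𝒮.deg V hV) g') c • E))
            ⟨y, hy2⟩ =
          (funVal (𝒮.deg V hV) _ ((RelProj.emb p chart V hV).app _
            (upf (RelProj.emb p chart V hV) (Proj.basicOpen (𝒮.deg V hV) g') c)) y hy2).val *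
          GrTwist.val
            (V := RelProj.emb p chart V hV ⁻¹ᵁ ((RelProj.emb p chart V hV) ''ᵁ
              (Proj.basicOpen (𝒮.deg V hV) g')))
            ((lam V hV).app _ E) ⟨y, hy2⟩ := by
        rw [Scheme.Modules.Hom.app_smul, Groth.Agent.Lib.Helper2.Push.pushforward_smul]
        rfl
      have hnat : GrTwist.val
          (V := RelProj.emb p chart V hV ⁻¹ᵁ ((RelProj.emb p chart V hV) ''ᵁ
            (Proj.basicOpen (𝒮.deg V hV) g')))
          ((lam V hV).app _ (res L (image_emb_le p chart V hV _) ℓ)) ⟨y, hy2⟩ =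
          Localization.mk g ⟨1, GrMod.one_nin y⟩ := by
        have hn := app_map' (lam V hV) (homOfLE (image_emb_le p chart V hV
          (Proj.basicOpen (𝒮.deg V hV) g'))) ℓ
        rw [← hℓ ⟨y, image_emb_le p chart V hV _ hy2⟩]
        change GrTwist.val (V := RelProj.emb p chart V hV ⁻¹ᵁ ((RelProj.emb p chart V hV) ''ᵁ
            (Proj.basicOpen (𝒮.deg V hV) g')))
          ((lam V hV).app _ (L.presheaf.map (homOfLE (image_emb_le p chart V hV
            (Proj.basicOpen (𝒮.deg V hV) g'))).op ℓ)) ⟨y, hy2⟩ = _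
        rw [hn]
        rfl
      rw [hsm, hnat, vE ⟨y, hy2⟩, funVal_app_upf (RelProj.emb p chart V hV) _ c y hy2 hy] at H
      have hu := mk_mul_mk_swap y.asHomogeneousIdeal.toIdeal.primeCompl g' 1
        ((ProjectiveSpectrum.mem_basicOpen _ g' y).mp hy) (GrMod.one_nin y)
      calc (funVal (𝒮.deg V hV) (Proj.basicOpen (𝒮.deg V hV) g') c y hy).val
          = (funVal (𝒮.deg V hV) (Proj.basicOpen (𝒮.deg V hV) g') c y hy).val *
              (Localization.mk g' ⟨1, GrMod.one_nin y⟩ *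
                Localization.mk 1 ⟨g', (ProjectiveSpectrum.mem_basicOpen _ g' y).mp hy⟩) := by
            rw [hu, mul_one]
        _ = Localization.mk g ⟨1, GrMod.one_nin y⟩ *
              Localization.mk 1 ⟨g', (ProjectiveSpectrum.mem_basicOpen _ g' y).mp hy⟩ := by
            rw [← mul_assoc, H]
        _ = Localization.mk g ⟨g', (ProjectiveSpectrum.mem_basicOpen _ g' y).mp hy⟩ := by
            rw [Localization.mk_mul, Localization.mk_eq_mk_iff, Localization.r_iff_exists]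
            refine ⟨1, ?_⟩
            simp
    have hunit : ∀ (y : ProjectiveSpectrum (𝒮.deg V hV)) (hy : y ∈ Proj.basicOpen (𝒮.deg V hV) g'),
        IsUnit (funVal (𝒮.deg V hV) (Proj.basicOpen (𝒮.deg V hV) g') c y hy) ↔
          g ∉ y.asHomogeneousIdeal := fun y hy =>
      isUnit_of_val_eq_mk _ ((ProjectiveSpectrum.mem_basicOpen _ g' y).mp hy) (hval y hy)
    ext y
    constructor
    · intro hy
      have hyW : y ∈ Proj.basicOpen (𝒮.deg V hV) g' := (Proj (𝒮.deg V hV)).basicOpen_le c hy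
      exact ⟨(ProjectiveSpectrum.mem_basicOpen _ g y).mpr ((hunit y hyW).mp
        ((mem_basicOpen_iff_isUnit_funVal (𝒮.deg V hV) _ c y hyW).mp hy)), hyW⟩
    · rintro ⟨hyg, hyW⟩
      exact (mem_basicOpen_iff_isUnit_funVal (𝒮.deg V hV) _ c y hyW).mpr
        ((hunit y hyW).mpr ((ProjectiveSpectrum.mem_basicOpen _ g y).mp hyg))
  refine ⟨hN, inferInstance, fun y => ?_⟩
  obtain ⟨g, hg, hgy⟩ := hcov y
  obtain ⟨σ, hσ⟩ := hloc g hg
  refine ⟨0, SecTwist.powHom (secHom (L.restrict (RelProj.emb p chart V hV)) σ) 1, ?_, ?_⟩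
  · rw [genLocus_powHom hN _ 1 one_pos, hσ]
    exact (ProjectiveSpectrum.mem_basicOpen _ g y).mpr hgy
  · rw [genLocus_powHom hN _ 1 one_pos, hσ]
    exact Proj.isAffineOpen_basicOpen (𝒮.deg V hV) g hg hd

end chartAmple

end Groth.Agent.Lib.Helper2.RelTwistAmple
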