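import Mathlib
import Groth.Prelude.Def_RelProj3
import Groth.Agent.Lib.Helper2RelTildeQCoh
import Groth.Agent.Lib.Helper2GrModZero
import Groth.Agent.Lib.Helper23ModLocal

/-!
# Vanishing of modules glued from charts on a relative Proj (helper2)

* `isZero_of_relCharts`: a module on a relative Proj identified chartwise (injectively on sections) with zero
  modules is zero.
* `exists_pow_smul_eq_zero_of_TN`: (TN) implies local torsion, for `SetLike` gradings.
-/

set_option autoImplicit false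
universe u
open CategoryTheory Limits AlgebraicGeometry TopologicalSpace Opposite

namespace Groth.Agent.Lib.Helper2.RelTildeZero

open Groth.Agent.Lib.Helper2.RelTildeQCoh

section alg
variable {A σ : Type u} [CommRing A] [SetLike σ A] [AddSubgroupClass σ A] (𝒜 : ℕ → σ)
  [GradedRing 𝒜]
variable {M τ : Type u} [AddCommGroup M] [Module A M] [SetLike τ M] [AddSubgroupClass τ M]
  (ℳ : ℕ → τ) [DirectSum.Decomposition ℳ] [SetLike.GradedSMul 𝒜 ℳ]

/-- (TN) implies local torsion. -/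
theorem exists_pow_smul_eq_zero_of_TN {n : ℕ} (hn : ∀ k : ℕ, n ≤ k → ∀ m ∈ ℳ k, m = 0) (z : M) {d : ℕ}
    (hd : 0 < d) {f : A} (hf : f ∈ 𝒜 d) : f ^ n • z = 0 := by
  classical
  have hz := DirectSum.sum_support_decompose ℳ z
  generalize (DirectSum.decompose ℳ z).support = F at hz
  rw [← hz, Finset.smul_sum]
  refine Finset.sum_eq_zero (fun i _ => ?_)
  have h1 : f ^ n • (DirectSum.decompose ℳ z i : M) ∈ ℳ (n • d + i) :=
    SetLike.GradedSMul.smul_mem (SetLike.pow_mem_graded n hf) (DirectSum.decompose ℳ z i).2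
  have h2 : n ≤ n • d + i := by
    have : n ≤ n * d := Nat.le_mul_of_pos_right _ hd
    rw [smul_eq_mul]
    omega
  exact hn _ h2 _ h1

theorem isZero_tilde_of_TN {N : ℕ} (hN : ∀ k : ℕ, N ≤ k → ∀ m ∈ ℳ k, m = 0) (n : ℤ) :
    IsZero (GrMod.tilde 𝒜 ℳ n) :=
  Groth.Agent.Lib.Helper2GrModSect.isZero_tilde_of_torsion 𝒜 ℳ
    (fun z _ _ hd hf => ⟨N, exists_pow_smul_eq_zero_of_TN 𝒜 ℳ hN z hd hf⟩) n

end alg

section relproj
open RelProj
variable {P S : Scheme.{u}} {𝒮 : RelProj.QCGrAlg S} (p : P ⟶ S)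
  (chart : ∀ (U : S.Opens) (hU : IsAffineOpen U), (((p ⁻¹ᵁ U : P.Opens) : Scheme.{u}) ≅ Proj (𝒮.deg U hU)))

/-- a module on a relative Proj identified chartwise (injectively on sections) with zero modules is zero. -/
theorem isZero_of_relCharts (F : P.Modules)
    (T : ∀ (U : S.Opens) (hU : IsAffineOpen U), (Proj (𝒮.deg U hU)).Modules)
    (hT : ∀ (U : S.Opens) (hU : IsAffineOpen U), IsZero (T U hU))
    (lam : ∀ (U : S.Opens) (hU : IsAffineOpen U),
      F ⟶ (Scheme.Modules.pushforward (RelProj.emb p chart U hU)).obj (T U hU))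
    (hinj : ∀ (U : S.Opens) (hU : IsAffineOpen U) (W : P.Opens), W ≤ p ⁻¹ᵁ U →
      Function.Injective ((lam U hU).app W)) : IsZero F := by
  refine Groth.Agent.Lib.Helper23.ModLocal.isZero_of_forall_eq_zero fun W s => ?_
  refine Groth.Agent.Lib.Helper2.QcPush.section_eq_zero_of_cover F W s fun x hx => ?_
  obtain ⟨U, hxU⟩ := exists_affine_mem_preimage p x
  refine ⟨W ⊓ p ⁻¹ᵁ U.1, inf_le_left, ⟨hx, hxU⟩, ?_⟩
  apply hinj U.1 U.2 _ inf_le_right
  rw [map_zero]
  exact Groth.Agent.Lib.Helper23.ModLocal.eq_zero_of_isZero (hT U.1 U.2) _ _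

end relproj

end Groth.Agent.Lib.Helper2.RelTildeZero
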