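import Mathlib
import Groth.Prelude.Def_RelProj3
import Groth.Agent.Lib.Helper2RelTildeZero
import Groth.Agent.Lib.Helper2RelTwistGen
import Groth.Agent.Lib.Helper2GrModTN

/-!
# (TF) + `ℳ~ = 0` implies (TN) on a relative Proj over a quasi-compact base (helper2)
-/

set_option autoImplicit false
universe u
open CategoryTheory Limits AlgebraicGeometry TopologicalSpace Opposite

namespace Groth.Agent.Lib.Helper2.RelTildeTN

open Groth.Agent.Lib.Helper2.RelTildeQCoh Groth.Agent.Lib.Helper2.RelTwistGen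

section alg
variable {A σ : Type u} [CommRing A] [SetLike σ A] [AddSubgroupClass σ A] (𝒜 : ℕ → σ)
  [GradedRing 𝒜]

/-- an ideal containing the degree one part contains all homogeneous elements of positive degree. -/
theorem mem_of_pos_of_gen (hgen : Subring.closure ((𝒜 0 : Set A) ∪ (𝒜 1 : Set A)) = ⊤) (I : Ideal A)
    (hI : ∀ a ∈ 𝒜 1, a ∈ I) {k : ℕ} (hk : 0 < k) {f : A} (hf : f ∈ 𝒜 k) : f ∈ I := by
  obtain ⟨k, rfl⟩ : ∃ k', k = k' + 1 := ⟨k - 1, by omega⟩
  have h1 := Groth.Agent.Lib.Helper27RelProj5.mem_genPow_of_mem 𝒜 hgen (k + 1) f hf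
  rw [Groth.Agent.Lib.Helper27RelProj5.genPow_succ] at h1
  have key : ∀ z ∈ AddSubgroup.closure {z | ∃ a ∈ 𝒜 1, ∃ c ∈ Groth.Agent.Lib.Helper27RelProj5.genPow 𝒜 k,
      z = a * c}, z ∈ I := by
    intro z hz
    induction hz using AddSubgroup.closure_induction with
    | mem y hy =>
      obtain ⟨a, ha, c, -, rfl⟩ := hy
      exact Ideal.mul_mem_right _ _ (hI a ha)
    | zero => exact zero_mem _
    | add y z _ _ hy hz => exact add_mem hy hz
    | neg y _ hy => exact neg_mem hy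
  exact key f h1

theorem irrelevant_eq_span_of_gen (hgen : Subring.closure ((𝒜 0 : Set A) ∪ (𝒜 1 : Set A)) = ⊤) :
    (HomogeneousIdeal.irrelevant 𝒜).toIdeal = Ideal.span (𝒜 1 : Set A) := by
  classical
  apply le_antisymm
  · intro x hx
    have hx0 : (DirectSum.decompose 𝒜 x 0 : A) = 0 := by
      have := (HomogeneousIdeal.mem_irrelevant_iff 𝒜 x).mp hx
      rwa [GradedRing.proj_apply] at this
    rw [← DirectSum.sum_support_decompose 𝒜 x]
    refine Ideal.sum_mem _ (fun i _ => ?_)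
    rcases Nat.eq_zero_or_pos i with rfl | hi
    · rw [hx0]; exact zero_mem _
    · exact mem_of_pos_of_gen 𝒜 hgen _ (fun a ha => Ideal.subset_span ha) hi
        (DirectSum.decompose 𝒜 x i).2
  · rw [Ideal.span_le]
    intro a ha
    exact HomogeneousIdeal.mem_irrelevant_of_mem _ Nat.one_pos ha

end alg

section decomp
theorem decompose_map_of_mem {M M' τ τ' : Type u} [AddCommGroup M] [AddCommGroup M'] [SetLike τ M]
    [AddSubgroupClass τ M] [SetLike τ' M'] [AddSubgroupClass τ' M'] (ℳ : ℕ → τ) (ℳ' : ℕ → τ')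
    [DirectSum.Decomposition ℳ] [DirectSum.Decomposition ℳ'] (φ : M →+ M')
    (hφ : ∀ i m, m ∈ ℳ i → φ m ∈ ℳ' i) (x : M) (k : ℕ) :
    (DirectSum.decompose ℳ' (φ x) k : M') = φ (DirectSum.decompose ℳ x k) := by
  classical
  have h : ∀ i, (DirectSum.decompose ℳ' (φ (DirectSum.decompose ℳ x i : M)) k : M') =
      if i = k then φ (DirectSum.decompose ℳ x i : M) else 0 := by
    intro i
    split_ifs with hik
    · subst hik
      exact DirectSum.decompose_of_mem_same _ (hφ _ _ (DirectSum.decompose ℳ x i).2)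
    · exact DirectSum.decompose_of_mem_ne _ (hφ _ _ (DirectSum.decompose ℳ x i).2) hik
  conv_lhs => rw [← DirectSum.sum_support_decompose ℳ x]
  rw [map_sum, DirectSum.decompose_sum, DFinsupp.finsetSum_apply, AddSubmonoidClass.coe_finsetSum]
  simp only [h]
  rw [Finset.sum_ite_eq']
  split_ifs with hk
  · rfl
  · rw [DFinsupp.notMem_support_iff] at hk
    rw [hk]
    simp

end decomp

section relproj
open RelProj
variable {P S : Scheme.{u}} {𝒮 : RelProj.QCGrAlg S} (p : P ⟶ S)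
  (chart : ∀ (U : S.Opens) (hU : IsAffineOpen U), (((p ⁻¹ᵁ U : P.Opens) : Scheme.{u}) ≅ Proj (𝒮.deg U hU)))

/-- if the glued module vanishes, so do the chart modules. -/
theorem isZero_chart_of_isZero (F : P.Modules)
    (T : ∀ (U : S.Opens) (hU : IsAffineOpen U), (Proj (𝒮.deg U hU)).Modules)
    (lam : ∀ (U : S.Opens) (hU : IsAffineOpen U),
      F ⟶ (Scheme.Modules.pushforward (RelProj.emb p chart U hU)).obj (T U hU))
    (hsurj : ∀ (U : S.Opens) (hU : IsAffineOpen U) (W : P.Opens), W ≤ p ⁻¹ᵁ U →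
      Function.Surjective ((lam U hU).app W))
    (h0 : IsZero F) (U : S.Opens) (hU : IsAffineOpen U) : IsZero (T U hU) := by
  refine Groth.Agent.Lib.Helper23.ModLocal.isZero_of_forall_eq_zero fun W' s => ?_
  have hpre : (RelProj.emb p chart U hU) ⁻¹ᵁ ((RelProj.emb p chart U hU) ''ᵁ W') = W' :=
    (RelProj.emb p chart U hU).preimage_image_eq W'
  refine Groth.Agent.Lib.Helper2.QcPush.section_eq_zero_of_cover (T U hU) W' s fun x hx => ?_
  refine ⟨(RelProj.emb p chart U hU) ⁻¹ᵁ ((RelProj.emb p chart U hU) ''ᵁ W'), le_of_eq hpre,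
    by rw [hpre]; exact hx, ?_⟩
  obtain ⟨t, ht⟩ := hsurj U hU _ (image_emb_le p chart U hU W')
    ((T U hU).presheaf.map (homOfLE (le_of_eq hpre)).op s)
  rw [← ht, Groth.Agent.Lib.Helper23.ModLocal.eq_zero_of_isZero h0 _ t, map_zero]
  rfl

end relproj

section grmod
open RelProj Groth.Agent.Lib.Helper2.Push
variable {S : Scheme.{u}} {𝒮 : RelProj.QCGrAlg S} (ℳ : RelProj.GrModule 𝒮)

theorem deg_eq_zero_basicOpen (hℳ : Coh.IsQCoh ((AMod.toOS 𝒮.toQCAlg).obj ℳ.mod))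
    (U : S.Opens) (hU : IsAffineOpen U) (r : Γ(S, U)) (k : ℕ)
    (hk : ∀ m ∈ ℳ.deg U hU k, m = 0) :
    ∀ m ∈ ℳ.deg (S.basicOpen r) (hU.basicOpen r) k, m = 0 := by
  intro m hm
  haveI : ((AMod.toOS 𝒮.toQCAlg).obj ℳ.mod).IsQuasicoherent := hℳ
  have hloc := IsLocOn.of_isQuasicoherent hU ((AMod.toOS 𝒮.toQCAlg).obj ℳ.mod)
  obtain ⟨a, t, ht⟩ := hloc.exists_extension r m
  set c : 𝒮.presheaf.obj (op (S.basicOpen r)) := (𝒮.str.app (op (S.basicOpen r))).hom
    ((S.presheaf.map (homOfLE (S.basicOpen_le r)).op).hom r) with hc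
  have e2 : ∀ (x : Γ(S, S.basicOpen r)) (m' : Γ((AMod.toOS 𝒮.toQCAlg).obj ℳ.mod, S.basicOpen r)),
      (x • m' : Γ((AMod.toOS 𝒮.toQCAlg).obj ℳ.mod, S.basicOpen r)) =
        ((𝒮.str.app (op (S.basicOpen r))).hom x • (show ℳ.mod.val.obj (op (S.basicOpen r)) from m') :
          ℳ.mod.val.obj (op (S.basicOpen r))) := fun x m' => rfl
  have ht' : ℳ.res hU (hU.basicOpen r) (S.basicOpen_le r) t = c ^ a • m := by
    refine (show ℳ.res hU (hU.basicOpen r) (S.basicOpen_le r) t = _ from ht).trans ?_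
    rw [e2, map_pow]
  have hru : IsUnit ((S.presheaf.map (homOfLE (S.basicOpen_le r)).op).hom r) :=
    RingedSpace.isUnit_res_basicOpen S.toRingedSpace r
  have hcu : IsUnit (c ^ a) := (hru.map _).pow a
  have hc0 : c ^ a ∈ 𝒮.deg (S.basicOpen r) (hU.basicOpen r) 0 := by
    have := SetLike.pow_mem_graded a (𝒮.str_mem (S.basicOpen r) (hU.basicOpen r)
      ((S.presheaf.map (homOfLE (S.basicOpen_le r)).op).hom r))
    rw [smul_zero] at this
    exact this
  have hmk : c ^ a • m ∈ ℳ.deg (S.basicOpen r) (hU.basicOpen r) k := by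
    have := SetLike.GradedSMul.smul_mem hc0 hm
    rwa [vadd_eq_add, zero_add] at this
  have h1 := decompose_map_of_mem (ℳ.deg U hU) (ℳ.deg (S.basicOpen r) (hU.basicOpen r))
    ((ℳ.res hU (hU.basicOpen r) (S.basicOpen_le r)).toAddMonoidHom)
    (fun i x hx => ℳ.res_mem hU (hU.basicOpen r) (S.basicOpen_le r) i x hx) t k
  have h2 : (DirectSum.decompose (ℳ.deg U hU) t k : ℳ.mod.val.obj (op U)) = 0 :=
    hk _ (DirectSum.decompose (ℳ.deg U hU) t k).2
  rw [h2, map_zero] at h1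
  have h3 : (ℳ.res hU (hU.basicOpen r) (S.basicOpen_le r)).toAddMonoidHom t = c ^ a • m := ht'
  rw [h3, DirectSum.decompose_of_mem_same _ hmk] at h1
  exact (hcu.smul_eq_zero).mp h1

theorem deg_eq_zero_congr {V V' : S.Opens} (h : V = V') (hV : IsAffineOpen V) (hV' : IsAffineOpen V')
    (k : ℕ) (hk : ∀ m ∈ ℳ.deg V hV k, m = 0) : ∀ m ∈ ℳ.deg V' hV' k, m = 0 := by
  subst h
  exact hk

/-- chartwise (TN) gives (TN) over a quasi-compact base. -/
theorem isTN_of_local [CompactSpace S] (hℳ : Coh.IsQCoh ((AMod.toOS 𝒮.toQCAlg).obj ℳ.mod))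
    (h : ∀ (U : S.Opens) (hU : IsAffineOpen U), ∃ n : ℕ, ∀ k : ℕ, n ≤ k →
      ∀ m ∈ ℳ.deg U hU k, m = 0) : ℳ.IsTN := by
  choose n hn using h
  obtain ⟨t, ht⟩ := isCompact_univ.elim_finite_subcover (fun U : S.affineOpens => ((U.1 : S.Opens) : Set S))
    (fun U => U.1.2) (fun x _ => by
      obtain ⟨_, ⟨V, hV, rfl⟩, hxV, -⟩ :=
        S.isBasis_affineOpens.exists_subset_of_mem_open (Set.mem_univ x) isOpen_univ
      exact Set.mem_iUnion.mpr ⟨⟨V, hV⟩, hxV⟩)
  refine ⟨t.sup (fun U => n U.1 U.2), ?_⟩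
  intro U hU k hk m hm
  refine Groth.Agent.Lib.Helper2.QcPush.section_eq_zero_of_cover ((AMod.toOS 𝒮.toQCAlg).obj ℳ.mod) U m
    fun x hx => ?_
  have hx' := ht (Set.mem_univ x)
  simp only [Set.mem_iUnion] at hx'
  obtain ⟨Ui, hUit, hxUi⟩ := hx'
  obtain ⟨r, r', hrr', hxr⟩ := exists_basicOpen_le_affine_inter hU Ui.2 x ⟨hx, hxUi⟩
  refine ⟨S.basicOpen r, S.basicOpen_le r, hxr, ?_⟩
  have hki : n Ui.1 Ui.2 ≤ k := le_trans (Finset.le_sup (f := fun U => n U.1 U.2) hUit) hk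
  have h1 := deg_eq_zero_basicOpen ℳ hℳ Ui.1 Ui.2 r' k (hn Ui.1 Ui.2 k hki)
  have h2 := deg_eq_zero_congr ℳ hrr'.symm (Ui.2.basicOpen r') (hU.basicOpen r) k h1
  exact h2 _ (ℳ.res_mem hU (hU.basicOpen r) (S.basicOpen_le r) k m hm)

end grmod

end Groth.Agent.Lib.Helper2.RelTildeTN
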