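import Mathlib
import Groth.Prelude.Def_RelProj3
import Groth.Agent.Lib.Helper2RelTildeTN

/-!
# Injectivity of the localisation maps `ℳ(U)_(y) → ℳ(D(r))_(y')` for a quasi-coherent graded module (helper2)
-/

set_option autoImplicit false
universe u
open CategoryTheory Limits AlgebraicGeometry TopologicalSpace Opposite

namespace Groth.Agent.Lib.Helper2.RelTildeInj

open RelProj Groth.Agent.Lib.Helper2.Push

variable {S : Scheme.{u}} {𝒮 : RelProj.QCGrAlg S} (ℳ : RelProj.GrModule 𝒮)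

theorem mk_eq_zero_iff' {R : Type*} [CommRing R] (T : Submonoid R) {M : Type*} [AddCommGroup M] [Module R M]
    (m : M) (s : T) : LocalizedModule.mk m s = 0 ↔ ∃ t : T, (t : R) • m = 0 := by
  rw [← LocalizedModule.zero_mk s, LocalizedModule.mk_eq]
  constructor
  · rintro ⟨u, hu⟩
    refine ⟨u * s, ?_⟩
    rw [smul_zero, smul_zero] at hu
    rw [Submonoid.coe_mul, mul_smul]
    exact hu
  · rintro ⟨t, ht⟩
    refine ⟨t, ?_⟩
    rw [smul_zero, smul_zero, smul_comm]
    change s • ((t : R) • m) = 0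
    rw [ht, smul_zero]

theorem locModMap_injective (hℳ : Coh.IsQCoh ((AMod.toOS 𝒮.toQCAlg).obj ℳ.mod))
    (U : S.Opens) (hU : IsAffineOpen U) (r : Γ(S, U))
    (y' : ProjectiveSpectrum (𝒮.deg (S.basicOpen r) (hU.basicOpen r))) :
    Function.Injective (GrMod.locModMap (𝒮.res hU (hU.basicOpen r) (S.basicOpen_le r))
      (𝒮.irrelevant_le_map U hU r) (ℳ.res hU (hU.basicOpen r) (S.basicOpen_le r)) y') := by
  classical
  rw [injective_iff_map_eq_zero]
  intro q hq
  induction q using LocalizedModule.induction_on with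
  | h m s =>
    rw [GrMod.locModMap_mk] at hq
    rw [mk_eq_zero_iff'] at hq ⊢
    obtain ⟨t', ht'⟩ := hq
    let ψ := 𝒮.res hU (hU.basicOpen r) (S.basicOpen_le r)
    let _inst := (𝒮.presheaf.map (homOfLE (S.basicOpen_le r)).op).hom.toAlgebra
    let c₀ := (𝒮.str.app (op U)).hom r
    have hloc : IsLocalization.Away c₀ (𝒮.presheaf.obj (op (S.basicOpen r))) := 𝒮.isQC U hU r
    obtain ⟨⟨x, sc, hsc⟩, hxs⟩ := IsLocalization.surj (Submonoid.powers c₀) (t' : 𝒮.presheaf.obj (op (S.basicOpen r)))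
    obtain ⟨a, rfl⟩ := (Submonoid.mem_powers_iff _ _).mp hsc
    change (t' : 𝒮.presheaf.obj (op (S.basicOpen r))) * ψ (c₀ ^ a) = ψ x at hxs
    have hu : IsUnit (ψ c₀) :=
      IsLocalization.map_units (M := Submonoid.powers c₀) (𝒮.presheaf.obj (op (S.basicOpen r))) ⟨c₀, 1, pow_one _⟩
    have hc₀ : ψ c₀ ∉ y'.asHomogeneousIdeal.toIdeal := fun h =>
      y'.isPrime.ne_top (Ideal.eq_top_of_isUnit_mem _ h hu)
    have hx : ψ x ∉ y'.asHomogeneousIdeal.toIdeal := by
      rw [← hxs, map_pow]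
      intro h
      rcases y'.isPrime.mem_or_mem h with h | h
      · exact t'.2 h
      · exact hc₀ (y'.isPrime.mem_of_pow_mem _ h)
    have hvx : ℳ.res hU (hU.basicOpen r) (S.basicOpen_le r) (x • m) = 0 := by
      rw [LinearMap.map_smulₛₗ]
      change ψ x • _ = 0
      rw [← hxs, mul_comm, mul_smul, ht', smul_zero]
    haveI : ((AMod.toOS 𝒮.toQCAlg).obj ℳ.mod).IsQuasicoherent := hℳ
    have hlocM := IsLocOn.of_isQuasicoherent hU ((AMod.toOS 𝒮.toQCAlg).obj ℳ.mod)
    obtain ⟨b, hb⟩ := hlocM.exists_pow_smul_eq_zero r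
      (show Γ((AMod.toOS 𝒮.toQCAlg).obj ℳ.mod, U) from x • m) hvx
    have hb' : (c₀ ^ b * x) • m = 0 := by
      rw [mul_smul]
      refine Eq.trans ?_ hb
      change c₀ ^ b • x • m = ((𝒮.str.app (op U)).hom (r ^ b)) • x • m
      rw [map_pow]
    refine ⟨⟨c₀ ^ b * x, ?_⟩, hb'⟩
    intro h
    have h' : ψ (c₀ ^ b * x) ∈ y'.asHomogeneousIdeal.toIdeal := h
    rw [map_mul, map_pow] at h'
    rcases y'.isPrime.mem_or_mem h' with h' | h'
    · exact hc₀ (y'.isPrime.mem_of_pow_mem _ h')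
    · exact hx h'

end Groth.Agent.Lib.Helper2.RelTildeInj
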