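import Mathlib
import Groth.Prelude.Def_RelProj3
import Groth.Agent.Lib.Helper2RelTildeInj
import Groth.Agent.Lib.Helper13ModBasis

/-!
# Gluing morphisms between modules on a relative Proj given chartwise (helper2)
-/

set_option autoImplicit false
universe u
open CategoryTheory Limits AlgebraicGeometry TopologicalSpace Opposite

namespace Groth.Agent.Lib.Helper2.RelTildeGlue

open RelProj Groth.Agent.Lib.Helper2.Push Groth.Agent.Lib.Helper2.RelTildeQCoh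
  Groth.Agent.Lib.Helper2.RelTwistGen

variable {P S : Scheme.{u}} {𝒮 : RelProj.QCGrAlg S} (p : P ⟶ S)
  (chart : ∀ (U : S.Opens) (hU : IsAffineOpen U), (((p ⁻¹ᵁ U : P.Opens) : Scheme.{u}) ≅ Proj (𝒮.deg U hU)))
  (ℳ 𝒩 : RelProj.GrModule 𝒮) (n : ℤ)

/-- compatibility of a family of chart maps with restriction to basic opens, pointwise on values. -/
def ThetaCompat (θ : ∀ (U : S.Opens) (hU : IsAffineOpen U),
    GrMod.tilde (𝒮.deg U hU) (ℳ.deg U hU) n ⟶ GrMod.tilde (𝒮.deg U hU) (𝒩.deg U hU) n) : Prop :=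
  ∀ (U : S.Opens) (hU : IsAffineOpen U) (r : Γ(S, U)) (O : (Proj (𝒮.deg U hU)).Opens)
    (O' : (Proj (𝒮.deg (S.basicOpen r) (hU.basicOpen r))).Opens)
    (s : Γ(GrMod.tilde (𝒮.deg U hU) (ℳ.deg U hU) n, O))
    (s' : Γ(GrMod.tilde (𝒮.deg (S.basicOpen r) (hU.basicOpen r)) (ℳ.deg (S.basicOpen r) (hU.basicOpen r)) n, O'))
    (y' : ProjectiveSpectrum (𝒮.deg (S.basicOpen r) (hU.basicOpen r))) (hy' : y' ∈ O')
    (hy : ProjectiveSpectrum.comap (𝒮.res hU (hU.basicOpen r) (S.basicOpen_le r))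
      (𝒮.irrelevant_le_map U hU r) y' ∈ O),
    GrMod.val s' ⟨y', hy'⟩ = GrMod.locModMap (𝒮.res hU (hU.basicOpen r) (S.basicOpen_le r))
      (𝒮.irrelevant_le_map U hU r) (ℳ.res hU (hU.basicOpen r) (S.basicOpen_le r)) y'
        (GrMod.val s ⟨_, hy⟩) →
    GrMod.val ((θ (S.basicOpen r) (hU.basicOpen r)).app O' s') ⟨y', hy'⟩ =
      GrMod.locModMap (𝒮.res hU (hU.basicOpen r) (S.basicOpen_le r))
      (𝒮.irrelevant_le_map U hU r) (𝒩.res hU (hU.basicOpen r) (S.basicOpen_le r)) y'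
        (GrMod.val ((θ U hU).app O s) ⟨_, hy⟩)

variable (F G : P.Modules)
  (lam : ∀ (U : S.Opens) (hU : IsAffineOpen U),
    F ⟶ (Scheme.Modules.pushforward (RelProj.emb p chart U hU)).obj
      (GrMod.tilde (𝒮.deg U hU) (ℳ.deg U hU) n))
  (lam' : ∀ (U : S.Opens) (hU : IsAffineOpen U),
    G ⟶ (Scheme.Modules.pushforward (RelProj.emb p chart U hU)).obj
      (GrMod.tilde (𝒮.deg U hU) (𝒩.deg U hU) n))
  (θ : ∀ (U : S.Opens) (hU : IsAffineOpen U),
    GrMod.tilde (𝒮.deg U hU) (ℳ.deg U hU) n ⟶ GrMod.tilde (𝒮.deg U hU) (𝒩.deg U hU) n)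

/-- the image of a section of `F` in the chart module of `𝒩`, through `θ`. -/
noncomputable def thetaLam (U : S.Opens) (hU : IsAffineOpen U) (W : P.Opens) (s : Γ(F, W)) :
    Γ(GrMod.tilde (𝒮.deg U hU) (𝒩.deg U hU) n, (RelProj.emb p chart U hU) ⁻¹ᵁ W) :=
  (θ U hU).app ((RelProj.emb p chart U hU) ⁻¹ᵁ W)
    (show Γ(GrMod.tilde (𝒮.deg U hU) (ℳ.deg U hU) n, (RelProj.emb p chart U hU) ⁻¹ᵁ W) from
      (lam U hU).app W s)

/-- the image of a section of `G` in the chart module of `𝒩`. -/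
noncomputable def lamG (U : S.Opens) (hU : IsAffineOpen U) (W : P.Opens) (g : Γ(G, W)) :
    Γ(GrMod.tilde (𝒮.deg U hU) (𝒩.deg U hU) n, (RelProj.emb p chart U hU) ⁻¹ᵁ W) :=
  (lam' U hU).app W g

/-- `g` corresponds to `s` at the point `x`, read in the chart `U`. -/
def RelAtX (U : S.Opens) (hU : IsAffineOpen U) (W : P.Opens) (s : Γ(F, W)) (g : Γ(G, W)) (x : P) : Prop :=
  ∀ (y : Proj (𝒮.deg U hU)) (hy : (RelProj.emb p chart U hU) y ∈ W), (RelProj.emb p chart U hU) y = x →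
    GrMod.val (lamG p chart 𝒩 n G lam' U hU W g) ⟨y, hy⟩ =
      GrMod.val (thetaLam p chart ℳ 𝒩 n F lam θ U hU W s) ⟨y, hy⟩

theorem relAtX_congr {V V' : S.Opens} (h : V = V') (hV : IsAffineOpen V) (hV' : IsAffineOpen V')
    (W : P.Opens) (s : Γ(F, W)) (g : Γ(G, W)) (x : P) :
    RelAtX p chart ℳ 𝒩 n F G lam lam' θ V hV W s g x ↔ RelAtX p chart ℳ 𝒩 n F G lam lam' θ V' hV' W s g x := by
  subst h
  exact Iff.rfl

theorem emb_injective (U : S.Opens) (hU : IsAffineOpen U) :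
    Function.Injective (RelProj.emb p chart U hU) :=
  (RelProj.emb p chart U hU).isOpenEmbedding.injective

theorem emb_comap (hP : RelProj.IsRelProj 𝒮 p chart) (U : S.Opens) (hU : IsAffineOpen U) (r : Γ(S, U))
    (y' : Proj (𝒮.deg (S.basicOpen r) (hU.basicOpen r))) :
    (RelProj.emb p chart U hU) (ProjectiveSpectrum.comap (𝒮.res hU (hU.basicOpen r) (S.basicOpen_le r))
      (𝒮.irrelevant_le_map U hU r) y') = (RelProj.emb p chart (S.basicOpen r) (hU.basicOpen r)) y' := by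
  have e := RelProj.map_res_emb hP U hU r
  rw [← e, Scheme.Hom.comp_apply]
  rfl

variable (hF : RelProj.IsRelTilde 𝒮 p chart ℳ n F lam) (hG : RelProj.IsRelTilde 𝒮 p chart 𝒩 n G lam')
  (hθ : ThetaCompat ℳ 𝒩 n θ) (h𝒩 : Coh.IsQCoh ((AMod.toOS 𝒮.toQCAlg).obj 𝒩.mod))
  (hP : RelProj.IsRelProj 𝒮 p chart)

include hF hG hθ h𝒩 hP in
/-- the basic-open step: the relation can be read in `U` or in `D(r) ⊆ U`. -/
theorem relAtX_basicOpen (U : S.Opens) (hU : IsAffineOpen U) (r : Γ(S, U)) (W : P.Opens) (s : Γ(F, W))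
    (g : Γ(G, W)) (x : P) (hx : x ∈ p ⁻¹ᵁ (S.basicOpen r)) :
    RelAtX p chart ℳ 𝒩 n F G lam lam' θ (S.basicOpen r) (hU.basicOpen r) W s g x ↔
      RelAtX p chart ℳ 𝒩 n F G lam lam' θ U hU W s g x := by
  have key : ∀ (y' : Proj (𝒮.deg (S.basicOpen r) (hU.basicOpen r)))
      (hy' : (RelProj.emb p chart (S.basicOpen r) (hU.basicOpen r)) y' ∈ W)
      (hy : (RelProj.emb p chart U hU) (ProjectiveSpectrum.comap
        (𝒮.res hU (hU.basicOpen r) (S.basicOpen_le r)) (𝒮.irrelevant_le_map U hU r) y') ∈ W),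
      (GrMod.val (lamG p chart 𝒩 n G lam' (S.basicOpen r) (hU.basicOpen r) W g) ⟨y', hy'⟩ =
        GrMod.val (thetaLam p chart ℳ 𝒩 n F lam θ (S.basicOpen r) (hU.basicOpen r) W s) ⟨y', hy'⟩) ↔
      (GrMod.val (lamG p chart 𝒩 n G lam' U hU W g) ⟨_, hy⟩ =
        GrMod.val (thetaLam p chart ℳ 𝒩 n F lam θ U hU W s) ⟨_, hy⟩) := by
    intro y' hy' hy
    have h1 := hG.compat U hU r W g y' hy' hy
    have h2 := hθ U hU r ((RelProj.emb p chart U hU) ⁻¹ᵁ W)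
      ((RelProj.emb p chart (S.basicOpen r) (hU.basicOpen r)) ⁻¹ᵁ W)
      ((lam U hU).app W s) ((lam (S.basicOpen r) (hU.basicOpen r)).app W s) y' hy' hy
      (hF.compat U hU r W s y' hy' hy)
    have hinj := Groth.Agent.Lib.Helper2.RelTildeInj.locModMap_injective 𝒩 h𝒩 U hU r y'
    constructor
    · intro h
      apply hinj
      exact h1.symm.trans (h.trans h2)
    · intro h
      refine h1.trans (Eq.trans ?_ h2.symm)
      exact congrArg _ h
  constructor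
  · intro h y hy hyx
    obtain ⟨y', hy'x⟩ := le_opensRange_emb p chart (S.basicOpen r) (hU.basicOpen r) hx
    have hy'x' : (RelProj.emb p chart (S.basicOpen r) (hU.basicOpen r)) y' = x := hy'x
    have hyy' : y = ProjectiveSpectrum.comap (𝒮.res hU (hU.basicOpen r) (S.basicOpen_le r))
        (𝒮.irrelevant_le_map U hU r) y' := by
      apply emb_injective p chart U hU
      rw [emb_comap p chart hP, hy'x', hyx]
    subst hyy'
    have hy'W : (RelProj.emb p chart (S.basicOpen r) (hU.basicOpen r)) y' ∈ W := by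
      rw [hy'x', ← hyx]; exact hy
    exact (key y' hy'W hy).mp (h y' hy'W hy'x')
  · intro h y' hy' hy'x
    have hy : (RelProj.emb p chart U hU) (ProjectiveSpectrum.comap
        (𝒮.res hU (hU.basicOpen r) (S.basicOpen_le r)) (𝒮.irrelevant_le_map U hU r) y') ∈ W := by
      rw [emb_comap p chart hP]; exact hy'
    exact (key y' hy' hy).mpr (h _ hy ((emb_comap p chart hP U hU r y').trans hy'x))

include hF hG hθ h𝒩 hP in
/-- chart independence of the relation. -/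
theorem relAtX_indep (U₁ U₂ : S.Opens) (hU₁ : IsAffineOpen U₁) (hU₂ : IsAffineOpen U₂) (W : P.Opens)
    (s : Γ(F, W)) (g : Γ(G, W)) (x : P) (hx₁ : x ∈ p ⁻¹ᵁ U₁) (hx₂ : x ∈ p ⁻¹ᵁ U₂) :
    RelAtX p chart ℳ 𝒩 n F G lam lam' θ U₁ hU₁ W s g x ↔
      RelAtX p chart ℳ 𝒩 n F G lam lam' θ U₂ hU₂ W s g x := by
  obtain ⟨r₁, r₂, hrr, hxr⟩ := exists_basicOpen_le_affine_inter hU₁ hU₂ (p x) ⟨hx₁, hx₂⟩
  have hxr₂ : p x ∈ S.basicOpen r₂ := hrr ▸ hxr
  rw [← relAtX_basicOpen p chart ℳ 𝒩 n F G lam lam' θ hF hG hθ h𝒩 hP U₁ hU₁ r₁ W s g x hxr,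
    ← relAtX_basicOpen p chart ℳ 𝒩 n F G lam lam' θ hF hG hθ h𝒩 hP U₂ hU₂ r₂ W s g x hxr₂]
  exact relAtX_congr p chart ℳ 𝒩 n F G lam lam' θ hrr _ _ W s g x

/-- the relation between sections: `lam' g = θ (lam s)` in the chart `U`. -/
def Rel (U : S.Opens) (hU : IsAffineOpen U) (W : P.Opens) (s : Γ(F, W)) (g : Γ(G, W)) : Prop :=
  lamG p chart 𝒩 n G lam' U hU W g = thetaLam p chart ℳ 𝒩 n F lam θ U hU W s

theorem rel_iff (U : S.Opens) (hU : IsAffineOpen U) (W : P.Opens) (s : Γ(F, W)) (g : Γ(G, W)) :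
    Rel p chart ℳ 𝒩 n F G lam lam' θ U hU W s g ↔
      ∀ x ∈ W, x ∈ p ⁻¹ᵁ U → RelAtX p chart ℳ 𝒩 n F G lam lam' θ U hU W s g x := by
  constructor
  · intro h x _ _ y hy _
    unfold Rel at h
    rw [h]
  · intro h
    unfold Rel
    refine Subtype.ext (funext fun y => Subtype.ext ?_)
    have hyU : (RelProj.emb p chart U hU) y.1 ∈ p ⁻¹ᵁ U :=
      opensRange_emb_le p chart U hU ⟨y.1, rfl⟩
    exact h _ y.2 hyU y.1 y.2 rfl

theorem relAtX_res (U : S.Opens) (hU : IsAffineOpen U) {W W' : P.Opens} (hle : W' ≤ W) (s : Γ(F, W))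
    (g : Γ(G, W)) (x : P) (hx : x ∈ W') :
    RelAtX p chart ℳ 𝒩 n F G lam lam' θ U hU W' (F.presheaf.map (homOfLE hle).op s)
      (G.presheaf.map (homOfLE hle).op g) x ↔ RelAtX p chart ℳ 𝒩 n F G lam lam' θ U hU W s g x := by
  have h1 : ∀ (y : Proj (𝒮.deg U hU)) (hy : (RelProj.emb p chart U hU) y ∈ W'),
      GrMod.val (lamG p chart 𝒩 n G lam' U hU W' (G.presheaf.map (homOfLE hle).op g)) ⟨y, hy⟩ =
        GrMod.val (lamG p chart 𝒩 n G lam' U hU W g) ⟨y, hle hy⟩ := by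
    intro y hy
    unfold lamG
    rw [app_map' (lam' U hU) (homOfLE hle) g]
    rfl
  have h2 : ∀ (y : Proj (𝒮.deg U hU)) (hy : (RelProj.emb p chart U hU) y ∈ W'),
      GrMod.val (thetaLam p chart ℳ 𝒩 n F lam θ U hU W' (F.presheaf.map (homOfLE hle).op s)) ⟨y, hy⟩ =
        GrMod.val (thetaLam p chart ℳ 𝒩 n F lam θ U hU W s) ⟨y, hle hy⟩ := by
    intro y hy
    unfold thetaLam
    rw [app_map' (lam U hU) (homOfLE hle) s]
    have hle' : (RelProj.emb p chart U hU) ⁻¹ᵁ W' ≤ (RelProj.emb p chart U hU) ⁻¹ᵁ W :=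
      (RelProj.emb p chart U hU).preimage_mono hle
    have := app_map' (θ U hU) (homOfLE hle')
      (show Γ(GrMod.tilde (𝒮.deg U hU) (ℳ.deg U hU) n, (RelProj.emb p chart U hU) ⁻¹ᵁ W) from
        (lam U hU).app W s)
    refine (congrArg (fun t => GrMod.val t ⟨y, hy⟩) this).trans ?_
    rfl
  constructor
  · intro h y hy hyx
    have hy' : (RelProj.emb p chart U hU) y ∈ W' := hyx ▸ hx
    have := h y hy' hyx
    rw [h1, h2] at this
    exact this
  · intro h y hy hyx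
    rw [h1, h2]
    exact h y (hle hy) hyx

section build

/-- the index type of the basis of opens lying over affine opens of the base. -/
abbrev Idx : Type u := Σ U : S.affineOpens, {W : P.Opens // W ≤ p ⁻¹ᵁ U.1}

/-- the basis. -/
abbrev Bas (i : Idx p) : P.Opens := i.2.1

theorem isBasis_Bas : Opens.IsBasis (Set.range (Bas p)) := by
  rw [Opens.isBasis_iff_nbhd]
  intro O x hx
  obtain ⟨U, hxU⟩ := exists_affine_mem_preimage p x
  exact ⟨O ⊓ p ⁻¹ᵁ U.1, ⟨⟨U, ⟨O ⊓ p ⁻¹ᵁ U.1, inf_le_right⟩⟩, rfl⟩, ⟨hx, hxU⟩, inf_le_left⟩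

/-- `thetaLam` as an additive map. -/
noncomputable def thetaLamHom (U : S.Opens) (hU : IsAffineOpen U) (W : P.Opens) :
    Γ(F, W) →+ Γ(GrMod.tilde (𝒮.deg U hU) (𝒩.deg U hU) n, (RelProj.emb p chart U hU) ⁻¹ᵁ W) where
  toFun s := thetaLam p chart ℳ 𝒩 n F lam θ U hU W s
  map_zero' := by
    unfold thetaLam
    rw [map_zero]
    exact map_zero _
  map_add' s t := by
    unfold thetaLam
    rw [map_add]
    exact map_add _ _ _

include hG in
theorem exists_d (i : Idx p) (s : Γ(F, Bas p i)) :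
    ∃ g : Γ(G, Bas p i), Rel p chart ℳ 𝒩 n F G lam lam' θ i.1.1 i.1.2 (Bas p i) s g :=
  (hG.bijective i.1.1 i.1.2 _ i.2.2).2 (thetaLam p chart ℳ 𝒩 n F lam θ i.1.1 i.1.2 (Bas p i) s)

/-- the value of the glued map on a section over a member of the basis. -/
noncomputable def dFun (i : Idx p) (s : Γ(F, Bas p i)) : Γ(G, Bas p i) :=
  (exists_d p chart ℳ 𝒩 n F G lam lam' θ hG i s).choose

theorem dFun_spec (i : Idx p) (s : Γ(F, Bas p i)) :
    Rel p chart ℳ 𝒩 n F G lam lam' θ i.1.1 i.1.2 (Bas p i) s (dFun p chart ℳ 𝒩 n F G lam lam' θ hG i s) :=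
  (exists_d p chart ℳ 𝒩 n F G lam lam' θ hG i s).choose_spec

include hG in
theorem rel_unique (i : Idx p) (s : Γ(F, Bas p i)) (g g' : Γ(G, Bas p i))
    (h : Rel p chart ℳ 𝒩 n F G lam lam' θ i.1.1 i.1.2 (Bas p i) s g)
    (h' : Rel p chart ℳ 𝒩 n F G lam lam' θ i.1.1 i.1.2 (Bas p i) s g') : g = g' :=
  (hG.bijective i.1.1 i.1.2 _ i.2.2).1 (h.trans h'.symm)

theorem lamG_add (U : S.Opens) (hU : IsAffineOpen U) (W : P.Opens) (g g' : Γ(G, W)) :
    lamG p chart 𝒩 n G lam' U hU W (g + g') =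
      lamG p chart 𝒩 n G lam' U hU W g + lamG p chart 𝒩 n G lam' U hU W g' := by
  unfold lamG
  exact map_add _ _ _

theorem lamG_zero (U : S.Opens) (hU : IsAffineOpen U) (W : P.Opens) :
    lamG p chart 𝒩 n G lam' U hU W 0 = 0 := by
  unfold lamG
  exact map_zero _

theorem lamG_smul (U : S.Opens) (hU : IsAffineOpen U) (W : P.Opens) (a : Γ(P, W)) (g : Γ(G, W)) :
    lamG p chart 𝒩 n G lam' U hU W (a • g) =
      ((RelProj.emb p chart U hU).app W a) • lamG p chart 𝒩 n G lam' U hU W g := by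
  unfold lamG
  rw [Scheme.Modules.Hom.app_smul]
  rfl

theorem thetaLam_smul (U : S.Opens) (hU : IsAffineOpen U) (W : P.Opens) (a : Γ(P, W)) (s : Γ(F, W)) :
    thetaLam p chart ℳ 𝒩 n F lam θ U hU W (a • s) =
      ((RelProj.emb p chart U hU).app W a) • thetaLam p chart ℳ 𝒩 n F lam θ U hU W s := by
  unfold thetaLam
  rw [Scheme.Modules.Hom.app_smul]
  exact Scheme.Modules.Hom.app_smul (θ U hU) _ _

/-- the glued map on a member of the basis, as a morphism of abelian groups. -/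
noncomputable def dHom (i : Idx p) : Γ(F, Bas p i) ⟶ Γ(G, Bas p i) :=
  AddCommGrpCat.ofHom
    { toFun := dFun p chart ℳ 𝒩 n F G lam lam' θ hG i
      map_zero' := by
        apply rel_unique p chart ℳ 𝒩 n F G lam lam' θ hG i 0 _ _
          (dFun_spec p chart ℳ 𝒩 n F G lam lam' θ hG i 0)
        unfold Rel
        exact (lamG_zero p chart 𝒩 n G lam' i.1.1 i.1.2 (Bas p i)).trans
          ((thetaLamHom p chart ℳ 𝒩 n F lam θ i.1.1 i.1.2 (Bas p i)).map_zero).symm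
      map_add' := fun s t => by
        apply rel_unique p chart ℳ 𝒩 n F G lam lam' θ hG i (s + t) _ _
          (dFun_spec p chart ℳ 𝒩 n F G lam lam' θ hG i (s + t))
        unfold Rel
        refine (lamG_add p chart 𝒩 n G lam' i.1.1 i.1.2 (Bas p i) _ _).trans ?_
        have h1 : lamG p chart 𝒩 n G lam' i.1.1 i.1.2 (Bas p i) (dFun p chart ℳ 𝒩 n F G lam lam' θ hG i s) =
            thetaLam p chart ℳ 𝒩 n F lam θ i.1.1 i.1.2 (Bas p i) s :=
          dFun_spec p chart ℳ 𝒩 n F G lam lam' θ hG i s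
        have h2 : lamG p chart 𝒩 n G lam' i.1.1 i.1.2 (Bas p i) (dFun p chart ℳ 𝒩 n F G lam lam' θ hG i t) =
            thetaLam p chart ℳ 𝒩 n F lam θ i.1.1 i.1.2 (Bas p i) t :=
          dFun_spec p chart ℳ 𝒩 n F G lam lam' θ hG i t
        rw [h1, h2]
        exact ((thetaLamHom p chart ℳ 𝒩 n F lam θ i.1.1 i.1.2 (Bas p i)).map_add s t).symm }

theorem dHom_apply (i : Idx p) (s : Γ(F, Bas p i)) :
    dHom p chart ℳ 𝒩 n F G lam lam' θ hG i s = dFun p chart ℳ 𝒩 n F G lam lam' θ hG i s := rfl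

include hF hθ h𝒩 hP in
theorem dHom_nat (i i' : Idx p) (h : Bas p i' ≤ Bas p i) :
    F.presheaf.map (homOfLE h).op ≫ dHom p chart ℳ 𝒩 n F G lam lam' θ hG i' =
      dHom p chart ℳ 𝒩 n F G lam lam' θ hG i ≫ G.presheaf.map (homOfLE h).op := by
  ext s
  change dFun p chart ℳ 𝒩 n F G lam lam' θ hG i' (F.presheaf.map (homOfLE h).op s) =
    G.presheaf.map (homOfLE h).op (dFun p chart ℳ 𝒩 n F G lam lam' θ hG i s)
  apply rel_unique p chart ℳ 𝒩 n F G lam lam' θ hG i' _ _ _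
    (dFun_spec p chart ℳ 𝒩 n F G lam lam' θ hG i' _)
  rw [rel_iff]
  intro x hx hxU'
  rw [relAtX_res p chart ℳ 𝒩 n F G lam lam' θ i'.1.1 i'.1.2 h s _ x hx]
  have hxU : x ∈ p ⁻¹ᵁ i.1.1 := i.2.2 (h hx)
  rw [relAtX_indep p chart ℳ 𝒩 n F G lam lam' θ hF hG hθ h𝒩 hP i'.1.1 i.1.1 i'.1.2 i.1.2 (Bas p i) s _ x
    hxU' hxU]
  exact (rel_iff p chart ℳ 𝒩 n F G lam lam' θ i.1.1 i.1.2 (Bas p i) s _).mp
    (dFun_spec p chart ℳ 𝒩 n F G lam lam' θ hG i s) x (h hx) hxU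

theorem dHom_lin (i : Idx p) (a : Γ(P, Bas p i)) (s : Γ(F, Bas p i)) :
    dHom p chart ℳ 𝒩 n F G lam lam' θ hG i (a • s) = a • dHom p chart ℳ 𝒩 n F G lam lam' θ hG i s := by
  change dFun p chart ℳ 𝒩 n F G lam lam' θ hG i (a • s) = a • dFun p chart ℳ 𝒩 n F G lam lam' θ hG i s
  apply rel_unique p chart ℳ 𝒩 n F G lam lam' θ hG i _ _ _
    (dFun_spec p chart ℳ 𝒩 n F G lam lam' θ hG i _)
  unfold Rel
  refine (lamG_smul p chart 𝒩 n G lam' i.1.1 i.1.2 (Bas p i) a _).trans ?_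
  have h1 : lamG p chart 𝒩 n G lam' i.1.1 i.1.2 (Bas p i) (dFun p chart ℳ 𝒩 n F G lam lam' θ hG i s) =
      thetaLam p chart ℳ 𝒩 n F lam θ i.1.1 i.1.2 (Bas p i) s :=
    dFun_spec p chart ℳ 𝒩 n F G lam lam' θ hG i s
  rw [h1]
  exact (thetaLam_smul p chart ℳ 𝒩 n F lam θ i.1.1 i.1.2 (Bas p i) a s).symm

/-- the glued morphism. -/
noncomputable def glue : F ⟶ G :=
  Groth.Agent.Helper13ModBasis.homOfBasis (Bas p) (isBasis_Bas p)
    (dHom p chart ℳ 𝒩 n F G lam lam' θ hG)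
    (dHom_nat p chart ℳ 𝒩 n F G lam lam' θ hF hG hθ h𝒩 hP)
    (dHom_lin p chart ℳ 𝒩 n F G lam lam' θ hG)

theorem glue_app (i : Idx p) :
    (glue p chart ℳ 𝒩 n F G lam lam' θ hF hG hθ h𝒩 hP).app (Bas p i) =
      dHom p chart ℳ 𝒩 n F G lam lam' θ hG i :=
  Groth.Agent.Helper13ModBasis.homOfBasis_app _ _ _ _ _ i

theorem rel_of_comp_eq (ut : F ⟶ G) (U : S.Opens) (hU : IsAffineOpen U)
    (h : ut ≫ lam' U hU = lam U hU ≫ (Scheme.Modules.pushforward (RelProj.emb p chart U hU)).map (θ U hU))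
    (W : P.Opens) (s : Γ(F, W)) : Rel p chart ℳ 𝒩 n F G lam lam' θ U hU W s (ut.app W s) := by
  have := congrArg (fun φ => φ.app W s) h
  exact this

theorem comp_eq_of_rel (ut : F ⟶ G) (U : S.Opens) (hU : IsAffineOpen U)
    (h : ∀ (i : Idx p) (s : Γ(F, Bas p i)), Rel p chart ℳ 𝒩 n F G lam lam' θ U hU (Bas p i) s (ut.app (Bas p i) s)) :
    ut ≫ lam' U hU = lam U hU ≫ (Scheme.Modules.pushforward (RelProj.emb p chart U hU)).map (θ U hU) := by
  refine Groth.Agent.Helper13ModBasis.hom_ext_basis (Bas p) (isBasis_Bas p) _ _ (fun i => ?_)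
  ext s
  exact h i s

include hF hG hθ h𝒩 hP in
/-- chartwise given maps, compatible along basic opens, glue uniquely. -/
theorem existsUnique_glue :
    ∃! ut : F ⟶ G, ∀ (U : S.Opens) (hU : IsAffineOpen U),
      ut ≫ lam' U hU = lam U hU ≫ (Scheme.Modules.pushforward (RelProj.emb p chart U hU)).map (θ U hU) := by
  refine ⟨glue p chart ℳ 𝒩 n F G lam lam' θ hF hG hθ h𝒩 hP, ?_, ?_⟩
  · intro U hU
    apply comp_eq_of_rel
    intro i s
    rw [glue_app, dHom_apply, rel_iff]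
    intro x hx hxU
    have hxU₀ : x ∈ p ⁻¹ᵁ i.1.1 := i.2.2 hx
    rw [relAtX_indep p chart ℳ 𝒩 n F G lam lam' θ hF hG hθ h𝒩 hP U i.1.1 hU i.1.2 (Bas p i) s _ x hxU hxU₀]
    exact (rel_iff p chart ℳ 𝒩 n F G lam lam' θ i.1.1 i.1.2 (Bas p i) s _).mp
      (dFun_spec p chart ℳ 𝒩 n F G lam lam' θ hG i s) x hx hxU₀
  · intro ut' hut'
    refine Groth.Agent.Helper13ModBasis.hom_ext_basis (Bas p) (isBasis_Bas p) _ _ (fun i => ?_)
    rw [glue_app]
    ext s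
    rw [dHom_apply]
    exact rel_unique p chart ℳ 𝒩 n F G lam lam' θ hG i s _ _
      (rel_of_comp_eq p chart ℳ 𝒩 n F G lam lam' θ ut' i.1.1 i.1.2 (hut' i.1.1 i.1.2) (Bas p i) s)
      (dFun_spec p chart ℳ 𝒩 n F G lam lam' θ hG i s)

end build

end Groth.Agent.Lib.Helper2.RelTildeGlue
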