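import Mathlib
import Groth.Prelude.Def_RelProj3
import Groth.Agent.Lib.Helper2RelTwistAmple
import Groth.Agent.Lib.Helper2RelTildeGlue

/-!
# Degree covers transfer between charts of a relative Proj; global assembly (helper2)
-/

set_option autoImplicit false
universe u
open CategoryTheory Limits AlgebraicGeometry TopologicalSpace Opposite
open scoped HomogeneousIdeal

namespace Groth.Agent.Lib.Helper2.RelTwistAmpleB

open Groth.Agent.Lib.Helper2.RelTildeQCoh Groth.Agent.Lib.Helper23.SecTw Groth.Agent.Lib.Helper6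
  Groth.Agent.Lib.Helper2.RelTwistGen RelProj
  Groth.Agent.Lib.Helper2.RelTwistInv Groth.Agent.Lib.Helper23.RestrJ
  Groth.Agent.Lib.Helper2.RelTwistAmple Groth.Agent.Lib.Helper2.RelTildeGlue

variable {P S : Scheme.{u}} {𝒮 : RelProj.QCGrAlg S}

/-- a degree-`d` element of `𝒮(D(r))` not in a homogeneous prime lifts, up to a unit, to a degree-`d` element of `𝒮(V)`. -/
theorem exists_lift_not_mem (V : S.Opens) (hV : IsAffineOpen V) (r : Γ(S, V))
    (y'' : ProjectiveSpectrum (𝒮.deg (S.basicOpen r) (hV.basicOpen r))) (d : ℕ)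
    (b : 𝒮.presheaf.obj (op (S.basicOpen r))) (hb : b ∈ 𝒮.deg (S.basicOpen r) (hV.basicOpen r) d)
    (hby : b ∉ y''.asHomogeneousIdeal) :
    ∃ g ∈ 𝒮.deg V hV d, 𝒮.res hV (hV.basicOpen r) (S.basicOpen_le r) g ∉ y''.asHomogeneousIdeal := by
  classical
  let ψ := 𝒮.res hV (hV.basicOpen r) (S.basicOpen_le r)
  let _inst := (𝒮.presheaf.map (homOfLE (S.basicOpen_le r)).op).hom.toAlgebra
  let c := (𝒮.str.app (op V)).hom r
  have hloc : IsLocalization.Away c (𝒮.presheaf.obj (op (S.basicOpen r))) := 𝒮.isQC V hV r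
  obtain ⟨⟨x, s, hs⟩, hxs⟩ := IsLocalization.surj (Submonoid.powers c) b
  obtain ⟨k, rfl⟩ := (Submonoid.mem_powers_iff _ _).mp hs
  change b * ψ (c ^ k) = ψ x at hxs
  have hu : IsUnit (ψ (c ^ k)) :=
    IsLocalization.map_units (M := Submonoid.powers c) (𝒮.presheaf.obj (op (S.basicOpen r))) ⟨c ^ k, k, rfl⟩
  have hc0 : ψ (c ^ k) ∈ 𝒮.deg (S.basicOpen r) (hV.basicOpen r) 0 := by
    rw [map_pow]
    exact SetLike.pow_mem_graded _ (ψ.map_mem (𝒮.str_mem V hV r))
  have hbi : b * ψ (c ^ k) ∈ 𝒮.deg (S.basicOpen r) (hV.basicOpen r) d := by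
    simpa only [add_zero] using SetLike.mul_mem_graded (A := 𝒮.deg (S.basicOpen r) (hV.basicOpen r)) hb hc0
  have hxi : ψ (DirectSum.decompose (𝒮.deg V hV) x d : 𝒮.presheaf.obj (op V)) = b * ψ (c ^ k) := by
    rw [GradedRingHom.map_directSumDecompose, ← hxs, DirectSum.decompose_of_mem_same _ hbi]
  refine ⟨(DirectSum.decompose (𝒮.deg V hV) x d : 𝒮.presheaf.obj (op V)), SetLike.coe_mem _, ?_⟩
  change ψ _ ∉ _
  rw [hxi]
  intro hmem
  obtain ⟨w, hw⟩ := hu
  apply hby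
  have h2 : b = b * ψ (c ^ k) * ↑w⁻¹ := by
    rw [← hw, mul_assoc, Units.mul_inv, mul_one]
  rw [h2]
  exact Ideal.mul_mem_right _ _ hmem

/-- the same, for an affine open `W` that is a basic open of `V`. -/
theorem exists_lift_not_mem' (V : S.Opens) (hV : IsAffineOpen V) (r : Γ(S, V)) (W : S.Opens) (hW : IsAffineOpen W)
    (hr : W = S.basicOpen r) (hle : W ≤ V)
    (y'' : ProjectiveSpectrum (𝒮.deg W hW)) (d : ℕ)
    (b : 𝒮.presheaf.obj (op W)) (hb : b ∈ 𝒮.deg W hW d)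
    (hby : b ∉ y''.asHomogeneousIdeal) :
    ∃ g ∈ 𝒮.deg V hV d, 𝒮.res hV hW hle g ∉ y''.asHomogeneousIdeal := by
  subst hr
  exact exists_lift_not_mem V hV r y'' d b hb hby

variable (p : P ⟶ S)
  (chart : ∀ (U : S.Opens) (hU : IsAffineOpen U), (((p ⁻¹ᵁ U : P.Opens) : Scheme.{u}) ≅ Proj (𝒮.deg U hU)))

/-- membership in a point of the chart over `V` is read through restriction in the chart over a basic open `W` of `V`. -/
theorem mem_iff_res_mem (hP : RelProj.IsRelProj 𝒮 p chart) (V : S.Opens) (hV : IsAffineOpen V) (r : Γ(S, V))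
    (W : S.Opens) (hW : IsAffineOpen W) (hr : W = S.basicOpen r) (hle : W ≤ V)
    (y'' : ProjectiveSpectrum (𝒮.deg W hW)) (yV : ProjectiveSpectrum (𝒮.deg V hV))
    (h : (RelProj.emb p chart W hW) y'' = (RelProj.emb p chart V hV) yV) (g : 𝒮.presheaf.obj (op V)) :
    g ∈ yV.asHomogeneousIdeal ↔ 𝒮.res hV hW hle g ∈ y''.asHomogeneousIdeal := by
  subst hr
  have hyy : yV = ProjectiveSpectrum.comap (𝒮.res hV (hV.basicOpen r) (S.basicOpen_le r))
      (𝒮.irrelevant_le_map V hV r) y'' := by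
    apply emb_injective p chart V hV
    rw [emb_comap p chart hP, h]
  subst hyy
  exact Iff.rfl

/-- a degree-`d` cover of the chart over `U` gives degree-`d` non-vanishing elements at all points of the chart
over `V` lying over `U`. -/
theorem cover_transfer (hP : RelProj.IsRelProj 𝒮 p chart) (U : S.Opens) (hU : IsAffineOpen U)
    (V : S.Opens) (hV : IsAffineOpen V) (d : ℕ)
    (hcovU : ∀ y : ProjectiveSpectrum (𝒮.deg U hU), ∃ g ∈ 𝒮.deg U hU d, g ∉ y.asHomogeneousIdeal)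
    (yV : ProjectiveSpectrum (𝒮.deg V hV)) (hyU : (RelProj.emb p chart V hV) yV ∈ p ⁻¹ᵁ U) :
    ∃ g ∈ 𝒮.deg V hV d, g ∉ yV.asHomogeneousIdeal := by
  have hyV : (RelProj.emb p chart V hV) yV ∈ p ⁻¹ᵁ V := opensRange_emb_le p chart V hV ⟨yV, rfl⟩
  obtain ⟨r₁, r₂, hrr, hxr⟩ := exists_basicOpen_le_affine_inter hU hV (p ((RelProj.emb p chart V hV) yV)) ⟨hyU, hyV⟩
  obtain ⟨y'', hy''⟩ := le_opensRange_emb p chart (S.basicOpen r₁) (hU.basicOpen r₁) hxr
  have hy''x : (RelProj.emb p chart (S.basicOpen r₁) (hU.basicOpen r₁)) y'' = (RelProj.emb p chart V hV) yV := hy''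
  -- the point in the chart over `U`
  obtain ⟨gU, hgU, hgUy⟩ := hcovU (ProjectiveSpectrum.comap (𝒮.res hU (hU.basicOpen r₁) (S.basicOpen_le r₁))
    (𝒮.irrelevant_le_map U hU r₁) y'')
  have hb : 𝒮.res hU (hU.basicOpen r₁) (S.basicOpen_le r₁) gU ∈ 𝒮.deg (S.basicOpen r₁) (hU.basicOpen r₁) d :=
    (𝒮.res hU (hU.basicOpen r₁) (S.basicOpen_le r₁)).map_mem hgU
  have hby : 𝒮.res hU (hU.basicOpen r₁) (S.basicOpen_le r₁) gU ∉ y''.asHomogeneousIdeal := hgUy
  have hle : S.basicOpen r₁ ≤ V := hrr ▸ S.basicOpen_le r₂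
  obtain ⟨g, hg, hgy⟩ := exists_lift_not_mem' V hV r₂ (S.basicOpen r₁) (hU.basicOpen r₁) hrr hle y'' d _ hb hby
  refine ⟨g, hg, fun hmem => hgy ?_⟩
  exact (mem_iff_res_mem p chart hP V hV r₂ (S.basicOpen r₁) (hU.basicOpen r₁) hrr hle y'' yV hy''x g).mp hmem

section assemble

variable (d : ℕ) (L : P.Modules)
  (lam : ∀ (U : S.Opens) (hU : IsAffineOpen U),
    L ⟶ (Scheme.Modules.pushforward (RelProj.emb p chart U hU)).obj (GrTwist.twist (𝒮.deg U hU) (d : ℤ)))
  (hL : RelProj.IsRelTwist 𝒮 p chart (d : ℤ) L lam)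

include hL in
/-- if every chart is covered by the `D₊(g)`, `g` of degree `d`, then `O_P(d)` is invertible. -/
theorem isInvertible_of_cover
    (hcov : ∀ (V : S.Opens) (hV : IsAffineOpen V) (y : ProjectiveSpectrum (𝒮.deg V hV)),
      ∃ g ∈ 𝒮.deg V hV d, g ∉ y.asHomogeneousIdeal) : PicF.IsInvertible L := by
  refine isInvertible_of_isGen L (fun x => ?_)
  obtain ⟨V, hxV⟩ := exists_affine_mem_preimage p x
  obtain ⟨y, hy⟩ := le_opensRange_emb p chart V.1 V.2 hxV
  have hy' : (RelProj.emb p chart V.1 V.2) y = x := hy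
  obtain ⟨g, hg, hgy⟩ := hcov V.1 V.2 y
  have h1mem : (1 : 𝒮.presheaf.obj (op V.1)) ∈ 𝒮.deg V.1 V.2 0 := SetLike.GradedOne.one_mem
  have hij : ((d : ℕ) : ℤ) = ((0 : ℕ) : ℤ) + (d : ℤ) := by simp
  obtain ⟨e, he, -⟩ := exists_frame p chart (d : ℤ) L lam hL V.1 V.2
    ((RelProj.emb p chart V.1 V.2) ''ᵁ (Proj.basicOpen (𝒮.deg V.1 V.2) g))
    (image_emb_le p chart V.1 V.2 _) hg h1mem hij (by
      rintro ⟨y, h1⟩
      rw [(RelProj.emb p chart V.1 V.2).preimage_image_eq] at h1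
      exact (ProjectiveSpectrum.mem_basicOpen _ _ y).mp h1)
    (fun y => GrMod.one_nin y.1)
  exact ⟨_, e, ⟨y, (ProjectiveSpectrum.mem_basicOpen _ g y).mpr hgy, hy'⟩, he⟩

end assemble

section global

variable [CompactSpace S]

/-- over a quasi-compact base, a graded algebra of finite type has a uniform degree `d > 0` such that all charts of its
relative Proj are covered by the `D₊(g)`, `g` of degree `d`. -/
theorem exists_degree (hP : RelProj.IsRelProj 𝒮 p chart)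
    (hft : ∀ (U : S.Opens) (hU : IsAffineOpen U), (𝒮.str.app (op U)).hom.FiniteType) :
    ∃ d : ℕ, 0 < d ∧ ∀ (V : S.Opens) (hV : IsAffineOpen V) (y : ProjectiveSpectrum (𝒮.deg V hV)),
      ∃ g ∈ 𝒮.deg V hV d, g ∉ y.asHomogeneousIdeal := by
  classical
  have h : ∀ U : S.affineOpens, ∃ d₀ : ℕ, 0 < d₀ ∧ ∀ d : ℕ, d₀ ∣ d → 0 < d →
      ∀ y : ProjectiveSpectrum (𝒮.deg U.1 U.2), ∃ g ∈ 𝒮.deg U.1 U.2 d, g ∉ y.asHomogeneousIdeal :=
    fun U => Groth.Agent.Lib.Helper2.GrFTCover.exists_degree_cover (𝒮.deg U.1 U.2) (𝒮.str.app (op U.1)).hom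
      (𝒮.str_mem U.1 U.2) (hft U.1 U.2)
  choose d₀ hd₀pos hd₀ using h
  obtain ⟨t, ht⟩ := isCompact_univ.elim_finite_subcover (fun U : S.affineOpens => (U.1 : Set S))
    (fun U => U.1.isOpen) (by
      intro x _
      obtain ⟨_, ⟨V, hV, rfl⟩, hxV, -⟩ :=
        S.isBasis_affineOpens.exists_subset_of_mem_open (Set.mem_univ x) isOpen_univ
      exact Set.mem_iUnion.mpr ⟨⟨V, hV⟩, hxV⟩)
  have hpos : 0 < ∏ U ∈ t, d₀ U := Finset.prod_pos (fun U _ => hd₀pos U)
  refine ⟨∏ U ∈ t, d₀ U, hpos, fun V hV y => ?_⟩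
  have hx := ht (Set.mem_univ (p ((RelProj.emb p chart V hV) y)))
  simp only [Set.mem_iUnion] at hx
  obtain ⟨U, hUt, hxU⟩ := hx
  exact cover_transfer p chart hP U.1 U.2 V hV _ (hd₀ U _ (Finset.dvd_prod_of_mem _ hUt) hpos) y hxU

end global

include chart in
/-- the preimage of an affine open under a relative Proj of a finite-type graded algebra is quasi-compact. -/
theorem isCompact_preimage (hft : ∀ (U : S.Opens) (hU : IsAffineOpen U), (𝒮.str.app (op U)).hom.FiniteType)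
    (V : S.Opens) (hV : IsAffineOpen V) : IsCompact ((p ⁻¹ᵁ V : P.Opens) : Set P) := by
  haveI : CompactSpace (Proj (𝒮.deg V hV)) :=
    Groth.Agent.Lib.Helper2.GrFTCover.compactSpace_proj (𝒮.deg V hV) (𝒮.str.app (op V)).hom
      (𝒮.str_mem V hV) (hft V hV)
  have h1 : ((p ⁻¹ᵁ V : P.Opens) : Set P) = Set.range (RelProj.emb p chart V hV) := by
    apply le_antisymm
    · exact le_opensRange_emb p chart V hV
    · exact opensRange_emb_le p chart V hV
  rw [h1]
  exact isCompact_range (RelProj.emb p chart V hV).continuous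

/-- ampleness on `p⁻¹(V)` from ampleness on the chart. -/
theorem isAmple_restrict_preimage (L : P.Modules) (V : S.Opens) (hV : IsAffineOpen V)
    (h : CohB1.IsAmple (L.restrict (RelProj.emb p chart V hV))) :
    CohB1.IsAmple (L.restrict (p ⁻¹ᵁ V).ι) := by
  have h2 : CohB1.IsAmple ((L.restrict (p ⁻¹ᵁ V).ι).restrict (chart V hV).inv) :=
    (isAmple_restrict_comp_iff L (p ⁻¹ᵁ V).ι (chart V hV).inv).mpr h
  exact (isAmple_restrict_iff_of_isIso (chart V hV).inv (L.restrict (p ⁻¹ᵁ V).ι)).mp h2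

/-- **`O_P(d)` is invertible and relatively ample** for a suitable `d > 0`, for the relative Proj of a graded algebra of
finite type over a quasi-compact base. -/
theorem relTwist_invertible_relAmple [CompactSpace S] (hP : RelProj.IsRelProj 𝒮 p chart)
    (hft : ∀ (U : S.Opens) (hU : IsAffineOpen U), (𝒮.str.app (op U)).hom.FiniteType) :
    ∃ d : ℕ, 0 < d ∧ ∀ (L : P.Modules)
      (lam : ∀ (U : S.Opens) (hU : IsAffineOpen U),
        L ⟶ (Scheme.Modules.pushforward (RelProj.emb p chart U hU)).obj (GrTwist.twist (𝒮.deg U hU) (d : ℤ))),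
      RelProj.IsRelTwist 𝒮 p chart (d : ℤ) L lam → PicF.IsInvertible L ∧ RelAmple.IsRelAmple p L := by
  obtain ⟨d, hd, hcov⟩ := exists_degree p chart hP hft
  refine ⟨d, hd, fun L lam hL => ?_⟩
  have hinv : PicF.IsInvertible L := isInvertible_of_cover p chart d L lam hL hcov
  refine ⟨hinv, ?_, fun V => ?_⟩
  · rw [quasiCompact_iff_forall_isAffineOpen]
    intro V hV
    exact isCompact_preimage p chart hft V hV
  · haveI : CompactSpace (Proj (𝒮.deg V.1 V.2)) :=
      Groth.Agent.Lib.Helper2.GrFTCover.compactSpace_proj (𝒮.deg V.1 V.2) (𝒮.str.app (op V.1)).hom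
        (𝒮.str_mem V.1 V.2) (hft V.1 V.2)
    exact isAmple_restrict_preimage p chart L V.1 V.2
      (isAmple_restrict_emb p chart d L lam hL hd hinv V.1 V.2 (hcov V.1 V.2))

end Groth.Agent.Lib.Helper2.RelTwistAmpleB
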