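import Mathlib
import Groth.Prelude.Def_RelProj3
import Groth.Agent.Lib.Helper18VAmpA
import Groth.Agent.Lib.Helper18VAmpB
import Groth.Agent.Lib.Helper2RelTwistAmpleB
import Groth.Agent.Lib.Helper13SymAlgLocal

/-!
# `g^* O_{P(E)}(1)` is relatively ample for a topological embedding `g` into a projective bundle (helper18)
-/

set_option autoImplicit false
universe u
open CategoryTheory CategoryTheory.Limits AlgebraicGeometry TopologicalSpace Opposite

namespace Groth.Agent.Helper18VAmp

open Groth.Agent.Lib.Helper23.PB Groth.Agent.Lib.Helper23.AmpleIso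

/-- the graded symmetric algebra of a quasi-coherent module is generated in degree one. -/
theorem isGenDegOne_of_isGrSymAlg {S : Scheme.{u}} (E : S.Modules) (hE : Coh.IsQCoh E)
    (𝒮 : RelProj.QCGrAlg S) (j : E ⟶ 𝒮.toModule) (hj : RelProj.IsGrSymAlg E 𝒮 j) : 𝒮.IsGenDegOne := by
  intro U hU
  have : E.IsQuasicoherent := hE
  have hbij := Groth.Agent.Helper13SymAlg.bijective_σ E U hU hj.1
  rw [eq_top_iff]
  intro x _
  obtain ⟨w, rfl⟩ := hbij.2 x
  clear * - hj
  induction w using SymmetricAlgebra.induction with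
  | algebraMap a =>
    unfold Groth.Agent.Helper13SymAlg.σ
    rw [Groth.Agent.Helper13SymLoc.symLift_algebraMap]
    exact Subring.subset_closure (Or.inl (𝒮.str_mem U hU a))
  | ι m =>
    unfold Groth.Agent.Helper13SymAlg.σ
    rw [Groth.Agent.Helper13SymLoc.symLift_ι]
    exact Subring.subset_closure (Or.inr (hj.2 U hU m))
  | mul a b ha hb => rw [map_mul]; exact mul_mem ha hb
  | add a b ha hb => rw [map_add]; exact add_mem ha hb

section main

variable {X Y : Scheme.{u}} (f : X ⟶ Y) [QuasiCompact f]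
  (𝒮 : RelProj.QCGrAlg Y) (P : Scheme.{u}) (p : P ⟶ Y)
  (chart : ∀ (U : Y.Opens) (hU : IsAffineOpen U), ((p ⁻¹ᵁ U : P.Opens) : Scheme.{u}) ≅ Proj (𝒮.deg U hU))
  (O1 : P.Modules)
  (lam : ∀ (U : Y.Opens) (hU : IsAffineOpen U),
    O1 ⟶ (Scheme.Modules.pushforward (RelProj.emb p chart U hU)).obj (GrTwist.twist (𝒮.deg U hU) 1))

/-- **relative ampleness of `g^* O(1)`** for a topological embedding `g` into the relative Proj of a graded algebra
generated in degree one. -/
theorem isRelAmple_pullback_of_isEmbedding (hgen : 𝒮.IsGenDegOne)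
    (hO1 : RelProj.IsRelTwist 𝒮 p chart 1 O1 lam)
    (g : X ⟶ P) (hg : g ≫ p = f) (hemb : Topology.IsEmbedding g.base) :
    RelAmple.IsRelAmple f ((Scheme.Modules.pullback g).obj O1) := by
  have hcov : ∀ (V : Y.Opens) (hV : IsAffineOpen V) (y : ProjectiveSpectrum (𝒮.deg V hV)),
      ∃ a ∈ 𝒮.deg V hV 1, a ∉ y.asHomogeneousIdeal := fun V hV y =>
    Groth.Agent.Lib.Helper2.RelTwistGen.exists_degOne_not_mem_of_gen (𝒮.deg V hV) (hgen V hV) y
  have hO1' : RelProj.IsRelTwist 𝒮 p chart ((1 : ℕ) : ℤ) O1 lam := hO1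
  have hinv : PicF.IsInvertible O1 :=
    Groth.Agent.Lib.Helper2.RelTwistAmpleB.isInvertible_of_cover p chart 1 O1 lam hO1' hcov
  refine ⟨inferInstance, fun V => ?_⟩
  subst hg
  -- the restricted map into the chart
  let Z : X.Opens := (g ≫ p) ⁻¹ᵁ V.1
  have hrange : Set.range (Z.ι ≫ g).base ⊆ Set.range (RelProj.emb p chart V.1 V.2).base := by
    rintro _ ⟨z, rfl⟩
    have h1 : (Z.ι ≫ g) z ∈ p ⁻¹ᵁ V.1 := z.2
    exact Groth.Agent.Lib.Helper2.RelTildeQCoh.le_opensRange_emb p chart V.1 V.2 h1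
  let h : (Z : Scheme.{u}) ⟶ Proj (𝒮.deg V.1 V.2) :=
    IsOpenImmersion.lift (RelProj.emb p chart V.1 V.2) (Z.ι ≫ g) hrange
  have hfac : h ≫ RelProj.emb p chart V.1 V.2 = Z.ι ≫ g := IsOpenImmersion.lift_fac _ _ _
  have hhemb : Topology.IsEmbedding h.base := by
    have h1 : Topology.IsEmbedding (Z.ι ≫ g).base := by
      rw [Scheme.Hom.comp_base, TopCat.coe_comp]
      exact hemb.comp Z.ι.isOpenEmbedding.isEmbedding
    rw [← hfac, Scheme.Hom.comp_base, TopCat.coe_comp] at h1
    exact Topology.IsEmbedding.of_comp h.continuous (RelProj.emb p chart V.1 V.2).continuous h1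
  have : CompactSpace ↥(Z : Scheme.{u}) := by
    have h1 : IsCompact ((Z : X.Opens) : Set X) :=
      QuasiCompact.isCompact_preimage (f := g ≫ p) _ V.1.2 V.2.isCompact
    exact isCompact_iff_compactSpace.mp h1
  have hample : CohB1.IsAmple ((Scheme.Modules.pullback h).obj (O1.restrict (RelProj.emb p chart V.1 V.2))) := by
    refine isAmple_pullback_of_isEmbedding_of_sections h hhemb _
      (Groth.Agent.Lib.Helper23.RestrJ.isInvertible_restrict (RelProj.emb p chart V.1 V.2) O1 hinv)
      (fun z => ?_)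
    exact weakAmple_restrict_emb p chart 1 O1 lam hO1' one_pos hinv V.1 V.2 (hcov V.1 V.2) (h z)
  -- the iso of modules
  let Φ : ((Scheme.Modules.pullback g).obj O1).restrict Z.ι ≅
      (Scheme.Modules.pullback h).obj (O1.restrict (RelProj.emb p chart V.1 V.2)) :=
    (Scheme.Modules.restrictFunctorIsoPullback Z.ι).app _ ≪≫
      (Scheme.Modules.pullbackComp Z.ι g).app O1 ≪≫
      (Scheme.Modules.pullbackCongr hfac.symm).app O1 ≪≫
      ((Scheme.Modules.pullbackComp h (RelProj.emb p chart V.1 V.2)).app O1).symm ≪≫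
      (Scheme.Modules.pullback h).mapIso
        ((Scheme.Modules.restrictFunctorIsoPullback (RelProj.emb p chart V.1 V.2)).app O1).symm
  exact (isAmple_iff_of_iso Φ).mpr hample

end main

end Groth.Agent.Helper18VAmp
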