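import Mathlib
import Groth.Prelude.Def_RelProj3
import Groth.Agent.Lib.Helper2RelTwistInv
import Groth.Agent.Lib.Helper23PB

/-!
# Pullback of `O(n)` along the morphism of relative Proj's induced by a graded homomorphism (helper2)
-/

set_option autoImplicit false
universe u
open CategoryTheory Limits AlgebraicGeometry TopologicalSpace Opposite
open scoped HomogeneousIdeal

namespace Groth.Agent.Lib.Helper2.RelTwistPullback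

open Groth.Agent.Lib.Helper2GrModSect

theorem appLE_of_eq {X Y : Scheme.{u}} {f g : X ⟶ Y} (hfg : f = g) (U : Y.Opens) (V : X.Opens)
    (e : V ≤ f ⁻¹ᵁ U) : f.appLE U V e = g.appLE U V (hfg ▸ e) := by subst hfg; rfl

section general

variable {A B σ τ : Type u} [CommRing A] [SetLike σ A] [AddSubgroupClass σ A]
  [CommRing B] [SetLike τ B] [AddSubgroupClass τ B]
  {𝒜 : ℕ → σ} {ℬ : ℕ → τ} [GradedRing 𝒜] [GradedRing ℬ] (ψ : 𝒜 →+*ᵍ ℬ) (hψ : ℬ₊ ≤ 𝒜₊.map ψ)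

/-- valuewise formula for `Proj.map` on functions. -/
theorem funVal_map_app (W : (Proj 𝒜).Opens) (c : Γ(Proj 𝒜, W)) (y : ProjectiveSpectrum ℬ)
    (hy : y ∈ (Proj.map ψ hψ) ⁻¹ᵁ W) :
    (funVal ℬ _ ((Proj.map ψ hψ).app W c) y hy).val =
      GrTwist.locMap ψ hψ y ((funVal 𝒜 W c (ProjectiveSpectrum.comap ψ hψ y) hy).val) := by
  change (HomogeneousLocalization.localRingHom ψ _ _ rfl
    (funVal 𝒜 W c (ProjectiveSpectrum.comap ψ hψ y) hy)).val = _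
  rw [HomogeneousLocalization.val_localRingHom]
  rfl

/-- values of a pulled back function, on the charts. -/
theorem funVal_pullback {PA PB : Scheme.{u}} (h : PB ⟶ PA) (jA : Proj 𝒜 ⟶ PA) (jB : Proj ℬ ⟶ PB)
    (hcomm : jB ≫ h = Proj.map ψ hψ ≫ jA) (O : PA.Opens) (γ : Γ(PA, O)) (O' : PB.Opens)
    (hO' : O' ≤ h ⁻¹ᵁ O) (y : ProjectiveSpectrum ℬ) (hy : jB y ∈ O')
    (hy' : jA (ProjectiveSpectrum.comap ψ hψ y) ∈ O) :
    (funVal ℬ (jB ⁻¹ᵁ O') (jB.app O' (h.appLE O O' hO' γ)) y hy).val =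
      GrTwist.locMap ψ hψ y
        ((funVal 𝒜 (jA ⁻¹ᵁ O) (jA.app O γ) (ProjectiveSpectrum.comap ψ hψ y) hy').val) := by
  have hle : jB ⁻¹ᵁ O' ≤ (jB ≫ h) ⁻¹ᵁ O := fun z hz => hO' hz
  have e1 : jB.app O' (h.appLE O O' hO' γ) = (jB ≫ h).appLE O (jB ⁻¹ᵁ O') hle γ := by
    rw [← Scheme.Hom.appLE_comp_appLE jB h O O' (jB ⁻¹ᵁ O') hO' le_rfl, Scheme.Hom.app_eq_appLE]
    rfl
  have e2 : (jB ≫ h).appLE O (jB ⁻¹ᵁ O') hle γ =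
      (Proj.map ψ hψ ≫ jA).appLE O (jB ⁻¹ᵁ O') (hcomm ▸ hle) γ := by
    rw [appLE_of_eq hcomm]
  have hle2 : jB ⁻¹ᵁ O' ≤ (Proj.map ψ hψ) ⁻¹ᵁ (jA ⁻¹ᵁ O) := by
    have h1 : jB ⁻¹ᵁ O' ≤ (Proj.map ψ hψ ≫ jA) ⁻¹ᵁ O := hcomm ▸ hle
    exact h1
  have e3 : (Proj.map ψ hψ ≫ jA).appLE O (jB ⁻¹ᵁ O') (hcomm ▸ hle) γ =
      (Proj.map ψ hψ).appLE (jA ⁻¹ᵁ O) (jB ⁻¹ᵁ O') hle2 (jA.app O γ) := by
    rw [← Scheme.Hom.appLE_comp_appLE (Proj.map ψ hψ) jA O (jA ⁻¹ᵁ O) (jB ⁻¹ᵁ O') le_rfl hle2,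
      Scheme.Hom.app_eq_appLE]
    rfl
  rw [e1, e2, e3]
  exact funVal_map_app ψ hψ (jA ⁻¹ᵁ O) (jA.app O γ) y (hle2 hy)

end general

section rel

open Groth.Agent.Lib.Helper2.RelTildeQCoh Groth.Agent.Lib.Helper23.SecTw Groth.Agent.Lib.Helper6
  Groth.Agent.Lib.Helper2.Push Groth.Agent.Lib.Helper2.RelTwistGen Groth.Agent.Lib.Helper2.IsGenCover
  Groth.Agent.Lib.Helper2.RelTwistTriv Groth.Agent.Lib.Helper2.RelTwistTensor RelProj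
  Groth.Agent.Lib.Helper23.GenLocus Groth.Agent.Lib.Helper2.RelTwistInv Groth.Agent.Lib.Helper23.PB
  Groth.Agent.Helper13PullbackUnit

variable {Y PA PB : Scheme.{u}} {𝒜 ℬ : RelProj.QCGrAlg Y}
  (φ : 𝒜.toQCAlg ⟶ ℬ.toQCAlg) (hφ : RelProj.IsGradedHom φ)
  (hirr : ∀ (U : Y.Opens) (hU : IsAffineOpen U),
      (ℬ.deg U hU)₊ ≤ ((𝒜.deg U hU)₊).map (RelProj.gradedHomAt φ hφ U hU))
  (pA : PA ⟶ Y) (pB : PB ⟶ Y)
  (chartA : ∀ (U : Y.Opens) (hU : IsAffineOpen U), (((pA ⁻¹ᵁ U : PA.Opens) : Scheme.{u}) ≅ Proj (𝒜.deg U hU)))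
  (chartB : ∀ (U : Y.Opens) (hU : IsAffineOpen U), (((pB ⁻¹ᵁ U : PB.Opens) : Scheme.{u}) ≅ Proj (ℬ.deg U hU)))
  (h : PB ⟶ PA)

include hirr in
theorem emb_comp (hh : RelProj.IsRelProjMap φ hφ hirr chartA chartB h) (U : Y.Opens) (hU : IsAffineOpen U) :
    RelProj.emb pB chartB U hU ≫ h =
      Proj.map (RelProj.gradedHomAt φ hφ U hU) (hirr U hU) ≫ RelProj.emb pA chartA U hU := by
  unfold RelProj.emb
  rw [Category.assoc, hh U hU, Iso.inv_hom_id_assoc]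

theorem emb_comp_apply (hh : RelProj.IsRelProjMap φ hφ hirr chartA chartB h) (U : Y.Opens)
    (hU : IsAffineOpen U) (y : ProjectiveSpectrum (ℬ.deg U hU)) :
    h (RelProj.emb pB chartB U hU y) =
      RelProj.emb pA chartA U hU
        (ProjectiveSpectrum.comap (RelProj.gradedHomAt φ hφ U hU) (hirr U hU) y) := by
  rw [← Scheme.Hom.comp_apply, emb_comp φ hφ hirr pA pB chartA chartB h hh U hU]
  rfl

theorem gradedHomAt_res {U V : Y.Opens} (hU : IsAffineOpen U) (hV : IsAffineOpen V) (i : V ≤ U)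
    (x : 𝒜.presheaf.obj (op U)) :
    RelProj.gradedHomAt φ hφ V hV (𝒜.res hU hV i x) = ℬ.res hU hV i (RelProj.gradedHomAt φ hφ U hU x) := by
  have := φ.hom.naturality (homOfLE i).op
  exact congrArg (fun f => f.hom x) this

theorem mk_congr {R : Type*} [CommRing R] (T : Submonoid R) {a a' b b' : R} (ha : a = a') (hb : b = b')
    (h : b ∈ T) (h' : b' ∈ T) :
    (Localization.mk a ⟨b, h⟩ : Localization T) = Localization.mk a' ⟨b', h'⟩ := by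
  subst ha; subst hb; rfl

section transition

variable (n : ℤ) (LA : PA.Modules)
  (lamA : ∀ (U : Y.Opens) (hU : IsAffineOpen U),
    LA ⟶ (Scheme.Modules.pushforward (RelProj.emb pA chartA U hU)).obj (GrTwist.twist (𝒜.deg U hU) n))
  (hLA : RelProj.IsRelTwist 𝒜 pA chartA n LA lamA) (LB : PB.Modules)
  (lamB : ∀ (U : Y.Opens) (hU : IsAffineOpen U),
    LB ⟶ (Scheme.Modules.pushforward (RelProj.emb pB chartB U hU)).obj (GrTwist.twist (ℬ.deg U hU) n))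
  (hLB : RelProj.IsRelTwist ℬ pB chartB n LB lamB)

include hLA hLB in
/-- the transition functions of the frames of `O_{P_ℬ}(n)` reading `φ a / φ b` are the pullbacks of those of the
frames of `O_{P_𝒜}(n)` reading `a / b`. -/
theorem pullback_transition (hA : RelProj.IsRelProj 𝒜 pA chartA) (hB : RelProj.IsRelProj ℬ pB chartB)
    (hh : RelProj.IsRelProjMap φ hφ hirr chartA chartB h)
    (U₁ : Y.Opens) (hU₁ : IsAffineOpen U₁) (U₂ : Y.Opens) (hU₂ : IsAffineOpen U₂)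
    (V₁ V₂ : PA.Opens) (a₁ b₁ : 𝒜.presheaf.obj (op U₁)) (a₂ b₂ : 𝒜.presheaf.obj (op U₂))
    (hb₁ : ∀ y : ((RelProj.emb pA chartA U₁ hU₁) ⁻¹ᵁ V₁ : (Proj (𝒜.deg U₁ hU₁)).Opens),
      b₁ ∉ y.1.asHomogeneousIdeal)
    (hb₂ : ∀ y : ((RelProj.emb pA chartA U₂ hU₂) ⁻¹ᵁ V₂ : (Proj (𝒜.deg U₂ hU₂)).Opens),
      b₂ ∉ y.1.asHomogeneousIdeal)
    (e₁ : Γ(LA, V₁))
    (he₁ : ∀ y : ((RelProj.emb pA chartA U₁ hU₁) ⁻¹ᵁ V₁ : (Proj (𝒜.deg U₁ hU₁)).Opens),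
      GrTwist.val (V := RelProj.emb pA chartA U₁ hU₁ ⁻¹ᵁ V₁) ((lamA U₁ hU₁).app V₁ e₁) y =
        Localization.mk a₁ ⟨b₁, hb₁ y⟩)
    (e₂ : Γ(LA, V₂))
    (he₂ : ∀ y : ((RelProj.emb pA chartA U₂ hU₂) ⁻¹ᵁ V₂ : (Proj (𝒜.deg U₂ hU₂)).Opens),
      GrTwist.val (V := RelProj.emb pA chartA U₂ hU₂ ⁻¹ᵁ V₂) ((lamA U₂ hU₂).app V₂ e₂) y =
        Localization.mk a₂ ⟨b₂, hb₂ y⟩)
    (W₁ W₂ : PB.Opens) (hW₁ : W₁ ≤ pB ⁻¹ᵁ U₁) (hW₂ : W₂ ≤ pB ⁻¹ᵁ U₂)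
    (hb'₁ : ∀ y : ((RelProj.emb pB chartB U₁ hU₁) ⁻¹ᵁ W₁ : (Proj (ℬ.deg U₁ hU₁)).Opens),
      RelProj.gradedHomAt φ hφ U₁ hU₁ b₁ ∉ y.1.asHomogeneousIdeal)
    (hb'₂ : ∀ y : ((RelProj.emb pB chartB U₂ hU₂) ⁻¹ᵁ W₂ : (Proj (ℬ.deg U₂ hU₂)).Opens),
      RelProj.gradedHomAt φ hφ U₂ hU₂ b₂ ∉ y.1.asHomogeneousIdeal)
    (e'₁ : Γ(LB, W₁))
    (he'₁ : ∀ y : ((RelProj.emb pB chartB U₁ hU₁) ⁻¹ᵁ W₁ : (Proj (ℬ.deg U₁ hU₁)).Opens),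
      GrTwist.val (V := RelProj.emb pB chartB U₁ hU₁ ⁻¹ᵁ W₁) ((lamB U₁ hU₁).app W₁ e'₁) y =
        Localization.mk (RelProj.gradedHomAt φ hφ U₁ hU₁ a₁) ⟨RelProj.gradedHomAt φ hφ U₁ hU₁ b₁, hb'₁ y⟩)
    (e'₂ : Γ(LB, W₂))
    (he'₂ : ∀ y : ((RelProj.emb pB chartB U₂ hU₂) ⁻¹ᵁ W₂ : (Proj (ℬ.deg U₂ hU₂)).Opens),
      GrTwist.val (V := RelProj.emb pB chartB U₂ hU₂ ⁻¹ᵁ W₂) ((lamB U₂ hU₂).app W₂ e'₂) y =
        Localization.mk (RelProj.gradedHomAt φ hφ U₂ hU₂ a₂) ⟨RelProj.gradedHomAt φ hφ U₂ hU₂ b₂, hb'₂ y⟩)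
    (O : PA.Opens) (hO₁ : O ≤ V₁) (hO₂ : O ≤ V₂) (γ : Γ(PA, O))
    (H : res LA hO₁ e₁ = γ • res LA hO₂ e₂)
    (O' : PB.Opens) (hO'₁ : O' ≤ W₁) (hO'₂ : O' ≤ W₂) (hO' : O' ≤ h ⁻¹ᵁ O) :
    res LB hO'₁ e'₁ = h.appLE O O' hO' γ • res LB hO'₂ e'₂ := by
  have key : ∀ x : O', ∃ (O'' : PB.Opens) (hO'' : O'' ≤ O'), x.1 ∈ O'' ∧
      res LB hO'' (res LB hO'₁ e'₁) = res LB hO'' (h.appLE O O' hO' γ • res LB hO'₂ e'₂) := by
    intro x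
    obtain ⟨r, r', hrr', hx⟩ := exists_basicOpen_le_affine_inter hU₁ hU₂ (pB x.1)
      ⟨hW₁ (hO'₁ x.2), hW₂ (hO'₂ x.2)⟩
    have hle₂ : Y.basicOpen r ≤ U₂ := hrr' ▸ Y.basicOpen_le r'
    refine ⟨O' ⊓ pB ⁻¹ᵁ (Y.basicOpen r), inf_le_left, ⟨x.2, hx⟩, ?_⟩
    rw [res_res, res_smul, res_res]
    apply (hLB.bijective (Y.basicOpen r) (hU₁.basicOpen r) _ inf_le_right).1
    apply twist_ext
    intro y''
    -- the point of `Proj 𝒜(D(r))` below `y''`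
    have hxA : (RelProj.emb pA chartA (Y.basicOpen r) (hU₁.basicOpen r))
        (ProjectiveSpectrum.comap (RelProj.gradedHomAt φ hφ (Y.basicOpen r) (hU₁.basicOpen r))
          (hirr _ (hU₁.basicOpen r)) y''.1) ∈ O ⊓ pA ⁻¹ᵁ (Y.basicOpen r) := by
      rw [← emb_comp_apply φ hφ hirr pA pB chartA chartB h hh]
      refine ⟨hO' y''.2.1, ?_⟩
      rw [emb_comp_apply φ hφ hirr pA pB chartA chartB h hh]
      exact image_emb_le pA chartA _ (hU₁.basicOpen r) ⊤ ⟨_, trivial, rfl⟩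
    obtain ⟨hβ₁, v1⟩ := val_lam_res pB chartB n LB lamB hLB hB U₁ hU₁ r (Y.basicOpen r) (hU₁.basicOpen r)
      rfl (Y.basicOpen_le r) W₁ e'₁ _ _ hb'₁ he'₁ (O' ⊓ pB ⁻¹ᵁ (Y.basicOpen r)) (inf_le_left.trans hO'₁)
      y''.1 y''.2
    obtain ⟨hβ₂, v2⟩ := val_lam_res pB chartB n LB lamB hLB hB U₂ hU₂ r' (Y.basicOpen r) (hU₁.basicOpen r)
      hrr' hle₂ W₂ e'₂ _ _ hb'₂ he'₂ (O' ⊓ pB ⁻¹ᵁ (Y.basicOpen r)) (inf_le_left.trans hO'₂)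
      y''.1 y''.2
    obtain ⟨hα₁, w1⟩ := val_lam_res pA chartA n LA lamA hLA hA U₁ hU₁ r (Y.basicOpen r) (hU₁.basicOpen r)
      rfl (Y.basicOpen_le r) V₁ e₁ a₁ b₁ hb₁ he₁ (O ⊓ pA ⁻¹ᵁ (Y.basicOpen r)) (inf_le_left.trans hO₁)
      _ hxA
    obtain ⟨hα₂, w2⟩ := val_lam_res pA chartA n LA lamA hLA hA U₂ hU₂ r' (Y.basicOpen r) (hU₁.basicOpen r)
      hrr' hle₂ V₂ e₂ a₂ b₂ hb₂ he₂ (O ⊓ pA ⁻¹ᵁ (Y.basicOpen r)) (inf_le_left.trans hO₂)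
      _ hxA
    -- the pulled back function, restricted
    have hO''A : O' ⊓ pB ⁻¹ᵁ (Y.basicOpen r) ≤ h ⁻¹ᵁ (O ⊓ pA ⁻¹ᵁ (Y.basicOpen r)) := by
      intro z hz
      refine ⟨hO' hz.1, ?_⟩
      obtain ⟨y, hy⟩ := le_opensRange_emb pB chartB (Y.basicOpen r) (hU₁.basicOpen r) hz.2
      have hy' : (RelProj.emb pB chartB (Y.basicOpen r) (hU₁.basicOpen r)) y = z := hy
      change h z ∈ pA ⁻¹ᵁ (Y.basicOpen r)
      rw [← hy', emb_comp_apply φ hφ hirr pA pB chartA chartB h hh]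
      exact image_emb_le pA chartA _ (hU₁.basicOpen r) ⊤ ⟨_, trivial, rfl⟩
    have hc : resf (inf_le_left : O' ⊓ pB ⁻¹ᵁ (Y.basicOpen r) ≤ O') (h.appLE O O' hO' γ) =
        h.appLE (O ⊓ pA ⁻¹ᵁ (Y.basicOpen r)) (O' ⊓ pB ⁻¹ᵁ (Y.basicOpen r)) hO''A
          (resf (inf_le_left : O ⊓ pA ⁻¹ᵁ (Y.basicOpen r) ≤ O) γ) := by
      have h1 := congrArg (fun f => f.hom γ)
        (Scheme.Hom.appLE_map h hO' (homOfLE (inf_le_left : O' ⊓ pB ⁻¹ᵁ (Y.basicOpen r) ≤ O')).op)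
      have h2 := congrArg (fun f => f.hom γ)
        (Scheme.Hom.map_appLE h hO''A (homOfLE (inf_le_left : O ⊓ pA ⁻¹ᵁ (Y.basicOpen r) ≤ O)).op)
      exact h1.trans h2.symm
    have hfv := funVal_pullback (RelProj.gradedHomAt φ hφ (Y.basicOpen r) (hU₁.basicOpen r))
      (hirr _ (hU₁.basicOpen r)) h (RelProj.emb pA chartA (Y.basicOpen r) (hU₁.basicOpen r))
      (RelProj.emb pB chartB (Y.basicOpen r) (hU₁.basicOpen r))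
      (emb_comp φ hφ hirr pA pB chartA chartB h hh _ (hU₁.basicOpen r))
      (O ⊓ pA ⁻¹ᵁ (Y.basicOpen r)) (resf (inf_le_left : O ⊓ pA ⁻¹ᵁ (Y.basicOpen r) ≤ O) γ)
      (O' ⊓ pB ⁻¹ᵁ (Y.basicOpen r)) hO''A y''.1 y''.2 hxA
    -- the `𝒜`-side identity
    have H' := congrArg (res LA (inf_le_left : O ⊓ pA ⁻¹ᵁ (Y.basicOpen r) ≤ O)) H
    rw [res_smul, res_res, res_res] at H'
    have H'' := congrArg (fun σ => GrTwist.val
      (V := RelProj.emb pA chartA (Y.basicOpen r) (hU₁.basicOpen r) ⁻¹ᵁ (O ⊓ pA ⁻¹ᵁ (Y.basicOpen r)))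
      ((lamA (Y.basicOpen r) (hU₁.basicOpen r)).app (O ⊓ pA ⁻¹ᵁ (Y.basicOpen r)) σ) ⟨_, hxA⟩) H'
    simp only at H''
    have hsmA : GrTwist.val
        (V := RelProj.emb pA chartA (Y.basicOpen r) (hU₁.basicOpen r) ⁻¹ᵁ (O ⊓ pA ⁻¹ᵁ (Y.basicOpen r)))
        ((lamA (Y.basicOpen r) (hU₁.basicOpen r)).app (O ⊓ pA ⁻¹ᵁ (Y.basicOpen r))
          (resf (inf_le_left : O ⊓ pA ⁻¹ᵁ (Y.basicOpen r) ≤ O) γ •
            res LA (inf_le_left.trans hO₂) e₂)) ⟨_, hxA⟩ =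
        (funVal (𝒜.deg (Y.basicOpen r) (hU₁.basicOpen r)) _
          ((RelProj.emb pA chartA (Y.basicOpen r) (hU₁.basicOpen r)).app _
            (resf (inf_le_left : O ⊓ pA ⁻¹ᵁ (Y.basicOpen r) ≤ O) γ)) _ hxA).val *
        GrTwist.val
          (V := RelProj.emb pA chartA (Y.basicOpen r) (hU₁.basicOpen r) ⁻¹ᵁ (O ⊓ pA ⁻¹ᵁ (Y.basicOpen r)))
          ((lamA (Y.basicOpen r) (hU₁.basicOpen r)).app (O ⊓ pA ⁻¹ᵁ (Y.basicOpen r))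
            (res LA (inf_le_left.trans hO₂) e₂)) ⟨_, hxA⟩ := by
      rw [Scheme.Modules.Hom.app_smul, Groth.Agent.Lib.Helper2.Push.pushforward_smul]
      rfl
    have hsmB : GrTwist.val
        (V := RelProj.emb pB chartB (Y.basicOpen r) (hU₁.basicOpen r) ⁻¹ᵁ (O' ⊓ pB ⁻¹ᵁ (Y.basicOpen r)))
        ((lamB (Y.basicOpen r) (hU₁.basicOpen r)).app (O' ⊓ pB ⁻¹ᵁ (Y.basicOpen r))
          (resf (inf_le_left : O' ⊓ pB ⁻¹ᵁ (Y.basicOpen r) ≤ O') (h.appLE O O' hO' γ) •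
            res LB (inf_le_left.trans hO'₂) e'₂)) y'' =
        (funVal (ℬ.deg (Y.basicOpen r) (hU₁.basicOpen r)) _
          ((RelProj.emb pB chartB (Y.basicOpen r) (hU₁.basicOpen r)).app _
            (resf (inf_le_left : O' ⊓ pB ⁻¹ᵁ (Y.basicOpen r) ≤ O') (h.appLE O O' hO' γ))) y''.1 y''.2).val *
        GrTwist.val
          (V := RelProj.emb pB chartB (Y.basicOpen r) (hU₁.basicOpen r) ⁻¹ᵁ (O' ⊓ pB ⁻¹ᵁ (Y.basicOpen r)))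
          ((lamB (Y.basicOpen r) (hU₁.basicOpen r)).app (O' ⊓ pB ⁻¹ᵁ (Y.basicOpen r))
            (res LB (inf_le_left.trans hO'₂) e'₂)) y'' := by
      rw [Scheme.Modules.Hom.app_smul, Groth.Agent.Lib.Helper2.Push.pushforward_smul]
      rfl
    rw [w1, hsmA, w2] at H''
    rw [v1, hsmB, v2, hc, hfv]
    have H3 := congrArg (GrTwist.locMap (RelProj.gradedHomAt φ hφ (Y.basicOpen r) (hU₁.basicOpen r))
      (hirr _ (hU₁.basicOpen r)) y''.1) H''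
    rw [map_mul, GrTwist.locMap_mk, GrTwist.locMap_mk] at H3
    rw [← mk_congr _ (gradedHomAt_res φ hφ hU₁ (hU₁.basicOpen r) (Y.basicOpen_le r) a₁)
      (gradedHomAt_res φ hφ hU₁ (hU₁.basicOpen r) (Y.basicOpen_le r) b₁) _ hβ₁,
      ← mk_congr _ (gradedHomAt_res φ hφ hU₂ (hU₁.basicOpen r) hle₂ a₂)
      (gradedHomAt_res φ hφ hU₂ (hU₁.basicOpen r) hle₂ b₂) _ hβ₂]
    exact H3
  choose O'' hO'' hxO'' hres using key
  refine (modSheaf LB).eq_of_locally_eq' (fun x : O' => O'' x) _ (fun x => homOfLE (hO'' x)) ?_ _ _ hres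
  intro x hx'
  exact Opens.mem_iSup.mpr ⟨⟨x, hx'⟩, hxO'' _⟩

end transition

section main

variable (n : ℤ) (LA : PA.Modules)
  (lamA : ∀ (U : Y.Opens) (hU : IsAffineOpen U),
    LA ⟶ (Scheme.Modules.pushforward (RelProj.emb pA chartA U hU)).obj (GrTwist.twist (𝒜.deg U hU) n))
  (hLA : RelProj.IsRelTwist 𝒜 pA chartA n LA lamA) (LB : PB.Modules)
  (lamB : ∀ (U : Y.Opens) (hU : IsAffineOpen U),
    LB ⟶ (Scheme.Modules.pushforward (RelProj.emb pB chartB U hU)).obj (GrTwist.twist (ℬ.deg U hU) n))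
  (hLB : RelProj.IsRelTwist ℬ pB chartB n LB lamB)

include hLA hLB in
/-- `h^* O_{P_𝒜}(n) ≅ O_{P_ℬ}(n)` for the morphism `h : P_ℬ ⟶ P_𝒜` induced by a graded homomorphism `φ : 𝒜 ⟶ ℬ`,
when `𝒜` is generated in degree one. -/
theorem nonempty_pullback_iso (hA : RelProj.IsRelProj 𝒜 pA chartA) (hB : RelProj.IsRelProj ℬ pB chartB)
    (hh : RelProj.IsRelProjMap φ hφ hirr chartA chartB h) (hgen : 𝒜.IsGenDegOne) :
    Nonempty ((Scheme.Modules.pullback h).obj LA ≅ LB) := by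
  have hpq : ((n.toNat : ℕ) : ℤ) = ((-n).toNat : ℕ) + n := by omega
  generalize n.toNat = pp at hpq
  generalize (-n).toNat = qq at hpq
  have hT : ∀ (U : Y.Opens) (hU : IsAffineOpen U),
      (GrTwist.twist (𝒜.deg U hU) n).IsQuasicoherent := by
    intro U hU
    have h0 : GrMod.tilde (𝒜.deg U hU) (𝒜.deg U hU) n = GrTwist.twist (𝒜.deg U hU) n := rfl
    rw [← h0]
    exact Groth.Agent.Lib.Helper2GrModSect.isQuasicoherent_tilde (𝒜.deg U hU) (𝒜.deg U hU) n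
  haveI : LA.IsQuasicoherent := isQuasicoherent_of_relCharts pA chartA LA
    (fun U hU => GrTwist.twist (𝒜.deg U hU) n) hT lamA hLA.bijective
  -- frames of `O_{P_𝒜}(n)`
  have hWA : ∀ (i : Idx 𝒜) (k : ℕ)
      (y : ((RelProj.emb pA chartA i.1.1 i.1.2) ⁻¹ᵁ (VF pA chartA i) : (Proj (𝒜.deg i.1.1 i.1.2)).Opens)),
      i.2.1 ^ k ∉ y.1.asHomogeneousIdeal :=
    fun i k y hmem => not_mem_of_mem_VF pA chartA i y.1 y.2 (y.1.isPrime.mem_of_pow_mem _ hmem)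
  have hfrA : ∀ i : Idx 𝒜, ∃ e : Γ(LA, VF pA chartA i), IsGen LA (VF pA chartA i) e ∧
      ∀ y : ((RelProj.emb pA chartA i.1.1 i.1.2) ⁻¹ᵁ (VF pA chartA i) : (Proj (𝒜.deg i.1.1 i.1.2)).Opens),
        GrTwist.val (V := RelProj.emb pA chartA i.1.1 i.1.2 ⁻¹ᵁ (VF pA chartA i))
          ((lamA i.1.1 i.1.2).app (VF pA chartA i) e) y =
            Localization.mk (i.2.1 ^ pp) ⟨i.2.1 ^ qq, hWA i qq y⟩ :=
    fun i => exists_frame pA chartA n LA lamA hLA i.1.1 i.1.2 (VF pA chartA i) (VF_le pA chartA i)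
      (pow_mem_one i.2.2 pp) (pow_mem_one i.2.2 qq) hpq (hWA i pp) (hWA i qq)
  choose EA hEA vEA using hfrA
  -- frames of `O_{P_ℬ}(n)`
  have hWB : ∀ (i : Idx 𝒜) (k : ℕ)
      (y : ((RelProj.emb pB chartB i.1.1 i.1.2) ⁻¹ᵁ (h ⁻¹ᵁ (VF pA chartA i) ⊓ pB ⁻¹ᵁ i.1.1) :
        (Proj (ℬ.deg i.1.1 i.1.2)).Opens)),
      RelProj.gradedHomAt φ hφ i.1.1 i.1.2 (i.2.1 ^ k) ∉ y.1.asHomogeneousIdeal := by
    intro i k y hmem
    have h1 : h ((RelProj.emb pB chartB i.1.1 i.1.2) y.1) ∈ VF pA chartA i := y.2.1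
    rw [emb_comp_apply φ hφ hirr pA pB chartA chartB h hh] at h1
    have h2 := not_mem_of_mem_VF pA chartA i _ h1
    apply h2
    apply (ProjectiveSpectrum.comap (RelProj.gradedHomAt φ hφ i.1.1 i.1.2)
      (hirr i.1.1 i.1.2) y.1).isPrime.mem_of_pow_mem k
    exact hmem
  have hfrB : ∀ i : Idx 𝒜, ∃ e : Γ(LB, h ⁻¹ᵁ (VF pA chartA i) ⊓ pB ⁻¹ᵁ i.1.1),
      IsGen LB (h ⁻¹ᵁ (VF pA chartA i) ⊓ pB ⁻¹ᵁ i.1.1) e ∧
      ∀ y : ((RelProj.emb pB chartB i.1.1 i.1.2) ⁻¹ᵁ (h ⁻¹ᵁ (VF pA chartA i) ⊓ pB ⁻¹ᵁ i.1.1) :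
          (Proj (ℬ.deg i.1.1 i.1.2)).Opens),
        GrTwist.val (V := RelProj.emb pB chartB i.1.1 i.1.2 ⁻¹ᵁ (h ⁻¹ᵁ (VF pA chartA i) ⊓ pB ⁻¹ᵁ i.1.1))
          ((lamB i.1.1 i.1.2).app (h ⁻¹ᵁ (VF pA chartA i) ⊓ pB ⁻¹ᵁ i.1.1) e) y =
            Localization.mk (RelProj.gradedHomAt φ hφ i.1.1 i.1.2 (i.2.1 ^ pp))
              ⟨RelProj.gradedHomAt φ hφ i.1.1 i.1.2 (i.2.1 ^ qq), hWB i qq y⟩ :=
    fun i => exists_frame pB chartB n LB lamB hLB i.1.1 i.1.2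
      (h ⁻¹ᵁ (VF pA chartA i) ⊓ pB ⁻¹ᵁ i.1.1) inf_le_right
      ((RelProj.gradedHomAt φ hφ i.1.1 i.1.2).map_mem (pow_mem_one i.2.2 pp))
      ((RelProj.gradedHomAt φ hφ i.1.1 i.1.2).map_mem (pow_mem_one i.2.2 qq)) hpq (hWB i pp) (hWB i qq)
  choose EB hEB vEB using hfrB
  have haff : ∀ i : Idx 𝒜, IsAffineOpen (VF pA chartA i) := fun i =>
    (Proj.isAffineOpen_basicOpen (𝒜.deg i.1.1 i.1.2) i.2.1 i.2.2 one_pos).image_of_isOpenImmersion _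
  have hgA : ∀ i : Idx 𝒜, IsGen ((Scheme.Modules.pullback h).obj LA)
      (h ⁻¹ᵁ (VF pA chartA i) ⊓ pB ⁻¹ᵁ i.1.1)
      (res ((Scheme.Modules.pullback h).obj LA) inf_le_left (unitSec h LA le_rfl (EA i))) :=
    fun i => (isGen_unitSec h LA (haff i) (EA i) (hEA i)).mono inf_le_left
  obtain ⟨Φ, -⟩ := exists_iso_of_frames ((Scheme.Modules.pullback h).obj LA) LB
    (fun i : Idx 𝒜 => h ⁻¹ᵁ (VF pA chartA i) ⊓ pB ⁻¹ᵁ i.1.1)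
    (by
      intro x
      obtain ⟨U, hxU⟩ := exists_affine_mem_preimage pB x
      obtain ⟨y, hy⟩ := le_opensRange_emb pB chartB U.1 U.2 hxU
      have hy' : (RelProj.emb pB chartB U.1 U.2) y = x := hy
      obtain ⟨t, ht, hty⟩ := exists_degOne_not_mem_of_gen (𝒜.deg U.1 U.2) (hgen U.1 U.2)
        (ProjectiveSpectrum.comap (RelProj.gradedHomAt φ hφ U.1 U.2) (hirr U.1 U.2) y)
      refine ⟨⟨U, ⟨t, ht⟩⟩, ?_, hxU⟩
      change h x ∈ VF pA chartA ⟨U, ⟨t, ht⟩⟩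
      rw [← hy', emb_comp_apply φ hφ hirr pA pB chartA chartB h hh]
      exact ⟨_, (ProjectiveSpectrum.mem_basicOpen _ t _).mpr hty, rfl⟩)
    (fun i => res ((Scheme.Modules.pullback h).obj LA) inf_le_left (unitSec h LA le_rfl (EA i)))
    EB hgA hEB
    (by
      intro i j
      obtain ⟨γ, hγ⟩ := exists_transition' (EA i) (hEA j)
      have hle : (h ⁻¹ᵁ (VF pA chartA i) ⊓ pB ⁻¹ᵁ i.1.1) ⊓ (h ⁻¹ᵁ (VF pA chartA j) ⊓ pB ⁻¹ᵁ j.1.1) ≤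
          h ⁻¹ᵁ (VF pA chartA i ⊓ VF pA chartA j) := fun z hz => ⟨hz.1.1, hz.2.1⟩
      refine cocycle_of_transition (hgA j)
        (h.appLE (VF pA chartA i ⊓ VF pA chartA j) _ hle γ) ?_ ?_
      · rw [res_res, res_res,
          res_unitSec h LA le_rfl hle inf_le_left (inf_le_left.trans inf_le_left),
          res_unitSec h LA le_rfl hle inf_le_right (inf_le_right.trans inf_le_left), hγ, unitSec_smul]
      · exact pullback_transition φ hφ hirr pA pB chartA chartB h n LA lamA hLA LB lamB hLB hA hB hh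
          i.1.1 i.1.2 j.1.1 j.1.2 (VF pA chartA i) (VF pA chartA j) (i.2.1 ^ pp) (i.2.1 ^ qq)
          (j.2.1 ^ pp) (j.2.1 ^ qq) (hWA i qq) (hWA j qq) (EA i) (vEA i) (EA j) (vEA j)
          _ _ inf_le_right inf_le_right (hWB i qq) (hWB j qq) (EB i) (vEB i) (EB j) (vEB j)
          (VF pA chartA i ⊓ VF pA chartA j) inf_le_left inf_le_right γ hγ _ inf_le_left inf_le_right hle)
  exact ⟨Φ⟩

end main

end rel

end Groth.Agent.Lib.Helper2.RelTwistPullback
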