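import Mathlib
import Groth.Prelude.Def_RelProj2
import Groth.Agent.Lib.Helper18DegOneA
import Groth.Agent.Lib.Helper18DegOneB
import Groth.Agent.Lib.Helper18SymBC
import Groth.Agent.Lib.Helper18GrSym
import Groth.Agent.Lib.Helper13SymAlgLocal
import Groth.Agent.Lib.Helper13RelProjE
import Groth.Agent.Lib.Helper13RelProjA
import Groth.Agent.Lib.Helper13ProjExist
import Groth.Agent.Lib.Helper27RelProj4
import Groth.Agent.Lib.Helper2RelTwistExist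
import Groth.Agent.Lib.Helper2RelTwistPullback
import Groth.Agent.Lib.Helper18VAmpC

/-!
# An immersion into `Proj(𝒮)`, `𝒮` generated in degree one, is an immersion into `P(𝒮_1)` (helper18)
-/

set_option autoImplicit false
set_option linter.unusedSectionVars false
universe u
open CategoryTheory Limits AlgebraicGeometry TopologicalSpace Opposite
open scoped HomogeneousIdeal
open Groth.Agent.Helper18SymGrading Groth.Agent.Helper13SymAlg Groth.Agent.Helper13SymLoc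

namespace Groth.Agent.Helper18DegOne

section sheaf

variable {Y : Scheme.{u}} (𝒮 : RelProj.QCGrAlg Y)

/-- an algebra homomorphism out of a graded symmetric algebra sending the module into degree one is graded. -/
theorem isGradedHom_of_factor (E : Y.Modules) (hE : Coh.IsQCoh E) (𝒯 : RelProj.QCGrAlg Y) (jT : E ⟶ 𝒯.toModule)
    (hT : RelProj.IsGrSymAlg E 𝒯 jT) (π : 𝒯.toQCAlg ⟶ 𝒮.toQCAlg)
    (h1 : ∀ (U : Y.Opens) (hU : IsAffineOpen U) (e : Γ(E, U)),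
      toR 𝒮 ((jT ≫ RelSpec.QCAlg.Hom.toModuleMap π).app U e) ∈ 𝒮.deg U hU 1) :
    RelProj.IsGradedHom π := by
  have : E.IsQuasicoherent := hE
  intro U hU d x hx
  obtain ⟨w, hw, rfl⟩ := Groth.Agent.Helper18SymBC.exists_σ_eq E 𝒯 jT hT U hU hx
  have h2 := σ_comp E jT π U
  have h3 : (π.hom.app (op U)).hom (σ E 𝒯.toQCAlg jT U w) =
      σ E 𝒮.toQCAlg (jT ≫ RelSpec.QCAlg.Hom.toModuleMap π) U w := by
    rw [h2]
    rfl
  rw [h3]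
  unfold σ
  exact Groth.Agent.Helper18SymBC.symLift_mem (𝒮.deg U hU) _ _ _ (fun a => 𝒮.str_mem U hU a)
    (fun m => h1 U hU m) hw

variable (𝒯 : RelProj.QCGrAlg Y) (jT : degOne 𝒮 ⟶ 𝒯.toModule) (hT : RelProj.IsGrSymAlg (degOne 𝒮) 𝒯 jT)

/-- the canonical homomorphism `Sym(𝒮_1) ⟶ 𝒮`. -/
noncomputable def symToAlg : 𝒯.toQCAlg ⟶ 𝒮.toQCAlg := (hT.1 𝒮.toQCAlg (degOneι 𝒮)).choose

theorem symToAlg_spec : jT ≫ RelSpec.QCAlg.Hom.toModuleMap (symToAlg 𝒮 𝒯 jT hT) = degOneι 𝒮 :=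
  (hT.1 𝒮.toQCAlg (degOneι 𝒮)).choose_spec.1

theorem isGradedHom_symToAlg : RelProj.IsGradedHom (symToAlg 𝒮 𝒯 jT hT) := by
  refine isGradedHom_of_factor 𝒮 (degOne 𝒮) (inferInstanceAs (degOne 𝒮).IsQuasicoherent) 𝒯 jT hT _ ?_
  intro U hU e
  rw [symToAlg_spec]
  exact degOneι_mem 𝒮 U hU e

theorem symToAlg_degOne (U : Y.Opens) (hU : IsAffineOpen U) (b : 𝒮.presheaf.obj (op U)) (hb : b ∈ 𝒮.deg U hU 1) :
    ∃ a ∈ 𝒯.deg U hU 1, RelProj.gradedHomAt (symToAlg 𝒮 𝒯 jT hT) (isGradedHom_symToAlg 𝒮 𝒯 jT hT) U hU a = b := by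
  obtain ⟨x, hx⟩ := exists_degOneι_eq 𝒮 U hU b hb
  refine ⟨((jT.app U) x : 𝒯.presheaf.obj (op U)), hT.2 U hU x, ?_⟩
  rw [← hx, ← symToAlg_spec 𝒮 𝒯 jT hT]
  rfl

theorem symToAlg_surj_pos (h𝒮 : 𝒮.IsGenDegOne) (U : Y.Opens) (hU : IsAffineOpen U) (d : ℕ) (hd : 0 < d)
    (b : 𝒮.presheaf.obj (op U)) (hb : b ∈ 𝒮.deg U hU d) :
    ∃ a ∈ 𝒯.deg U hU d, RelProj.gradedHomAt (symToAlg 𝒮 𝒯 jT hT) (isGradedHom_symToAlg 𝒮 𝒯 jT hT) U hU a = b :=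
  exists_mem_of_gen _ (h𝒮 U hU) (symToAlg_degOne 𝒮 𝒯 jT hT U hU) d hd b hb

theorem symToAlg_hirr (h𝒮 : 𝒮.IsGenDegOne) (U : Y.Opens) (hU : IsAffineOpen U) :
    (𝒮.deg U hU)₊ ≤ ((𝒯.deg U hU)₊).map
      (RelProj.gradedHomAt (symToAlg 𝒮 𝒯 jT hT) (isGradedHom_symToAlg 𝒮 𝒯 jT hT) U hU) :=
  irrelevant_le_map_of_gen _ (h𝒮 U hU) (symToAlg_degOne 𝒮 𝒯 jT hT U hU)

end sheaf

/-- **An immersion into `Proj(𝒮)` with `𝒮` generated in degree one along which `O(1)` pulls back to `L` makes `L` very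
ample.** -/
theorem isRelVeryAmple_of_immersion_proj {X Y P : Scheme.{u}} (q : X ⟶ Y) (L : X.Modules)
    (𝒮 : RelProj.QCGrAlg Y) (h𝒮 : 𝒮.IsGenDegOne) (p : P ⟶ Y)
    (chart : ∀ (U : Y.Opens) (hU : IsAffineOpen U), ((p ⁻¹ᵁ U : P.Opens) : Scheme.{u}) ≅ Proj (𝒮.deg U hU))
    (hP : RelProj.IsRelProj 𝒮 p chart) (O1 : P.Modules)
    (lam : ∀ (U : Y.Opens) (hU : IsAffineOpen U),
      O1 ⟶ (Scheme.Modules.pushforward (RelProj.emb p chart U hU)).obj (GrTwist.twist (𝒮.deg U hU) 1))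
    (hO1 : RelProj.IsRelTwist 𝒮 p chart 1 O1 lam) (i : X ⟶ P) [IsImmersion i] (hi : i ≫ p = q)
    (e : L ≅ (Scheme.Modules.pullback i).obj O1) : RelProj.IsRelVeryAmple q L := by
  have hE : Coh.IsQCoh (degOne 𝒮) := inferInstanceAs (degOne 𝒮).IsQuasicoherent
  obtain ⟨𝒯, jT, hT⟩ := Groth.Agent.Helper18GrSym.exists_isGrSymAlg (degOne 𝒮) hE
  have hPT := Groth.Agent.Helper13ProjBC.isRelProj_relProj 𝒯
  obtain ⟨O1T, lamT, hO1T⟩ := Groth.Agent.Lib.Helper2.RelTwistExist.exists_isRelTwist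
    (Groth.Agent.Helper13ProjBC.relProjπ 𝒯) (Groth.Agent.Helper13ProjBC.relProjChart 𝒯) hPT 1
  obtain ⟨h, hh⟩ := Groth.Agent.Helper13RelProj.exists_relProjMap (symToAlg 𝒮 𝒯 jT hT)
    (isGradedHom_symToAlg 𝒮 𝒯 jT hT) (symToAlg_hirr 𝒮 𝒯 jT hT h𝒮) hPT hP
  have hci : IsClosedImmersion h := by
    apply Groth.Agent.Lib.Helper27RelProj4.relProjMap_of_charts (P := @IsClosedImmersion)
      (symToAlg 𝒮 𝒯 jT hT) (isGradedHom_symToAlg 𝒮 𝒯 jT hT) (symToAlg_hirr 𝒮 𝒯 jT hT h𝒮) hPT hP hh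
    intro U hU
    exact Groth.Agent.Helper13RelProj.isClosedImmersion_map_of_surjective_pos _ _
      (symToAlg_surj_pos 𝒮 𝒯 jT hT h𝒮 U hU)
  have hover : h ≫ Groth.Agent.Helper13ProjBC.relProjπ 𝒯 = p :=
    Groth.Agent.Lib.Helper27RelProj4.relProjMap_over (symToAlg 𝒮 𝒯 jT hT) (isGradedHom_symToAlg 𝒮 𝒯 jT hT)
      (symToAlg_hirr 𝒮 𝒯 jT hT h𝒮) hPT hP hh
  obtain ⟨θ⟩ := Groth.Agent.Lib.Helper2.RelTwistPullback.nonempty_pullback_iso (symToAlg 𝒮 𝒯 jT hT)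
    (isGradedHom_symToAlg 𝒮 𝒯 jT hT) (symToAlg_hirr 𝒮 𝒯 jT hT h𝒮) _ p _ chart h 1 O1T lamT hO1T O1 lam hO1
    hPT hP hh (Groth.Agent.Helper18VAmp.isGenDegOne_of_isGrSymAlg (degOne 𝒮) hE 𝒯 jT hT)
  refine ⟨degOne 𝒮, hE, 𝒯, jT, hT, _, _, _, hPT, O1T, lamT, hO1T, i ≫ h, inferInstance, ?_, ⟨?_⟩⟩
  · rw [Category.assoc, hover, hi]
  · exact e ≪≫ (Scheme.Modules.pullback i).mapIso θ.symm ≪≫ (Scheme.Modules.pullbackComp i h).app O1T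

end Groth.Agent.Helper18DegOne
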