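import Mathlib
import Groth.Agent.Lib.Helper13ModBasis

/-!
# Gluing morphisms and isomorphisms of modules along two disjoint open immersions covering the scheme (helper18)
-/

set_option autoImplicit false
universe u
open CategoryTheory Limits AlgebraicGeometry TopologicalSpace Opposite

namespace Groth.Agent.Helper18DisjGlue

theorem subsingleton_bot {X : Scheme.{u}} (F : X.Modules) : Subsingleton Γ(F, (⊥ : X.Opens)) := by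
  have hT : IsTerminal (F.presheaf.obj (op ⊥)) :=
    TopCat.Sheaf.isTerminalOfEqEmpty ⟨F.presheaf, F.isSheaf⟩ rfl
  have hZ : IsZero (F.presheaf.obj (op ⊥)) :=
    IsZero.of_iso (isZero_zero _) (hT.uniqueUpToIso HasZeroObject.zeroIsTerminal)
  exact AddCommGrpCat.subsingleton_of_isZero hZ

variable {Z X₁ X₂ : Scheme.{u}} (ι₁ : X₁ ⟶ Z) (ι₂ : X₂ ⟶ Z) [IsOpenImmersion ι₁] [IsOpenImmersion ι₂]

/-- the basis of opens lying in one of the two pieces. -/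
def B : X₁.Opens ⊕ X₂.Opens → Z.Opens := Sum.elim (fun A => ι₁ ''ᵁ A) (fun A => ι₂ ''ᵁ A)

theorem isBasis_B (hcov : ∀ z : Z, z ∈ Set.range ι₁ ∨ z ∈ Set.range ι₂) :
    Opens.IsBasis (Set.range (B ι₁ ι₂)) := by
  rw [Opens.isBasis_iff_nbhd]
  intro U z hz
  rcases hcov z with ⟨x, rfl⟩ | ⟨x, rfl⟩
  · exact ⟨ι₁ ''ᵁ (ι₁ ⁻¹ᵁ U), ⟨Sum.inl _, rfl⟩, ⟨x, hz, rfl⟩, ι₁.image_preimage_le U⟩
  · exact ⟨ι₂ ''ᵁ (ι₂ ⁻¹ᵁ U), ⟨Sum.inr _, rfl⟩, ⟨x, hz, rfl⟩, ι₂.image_preimage_le U⟩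

variable {M N : Z.Modules} (f₁ : M.restrict ι₁ ⟶ N.restrict ι₁) (f₂ : M.restrict ι₂ ⟶ N.restrict ι₂)

/-- the local maps -/
noncomputable def dB : ∀ k, Γ(M, B ι₁ ι₂ k) ⟶ Γ(N, B ι₁ ι₂ k)
  | Sum.inl A => f₁.app A
  | Sum.inr A => f₂.app A

include ι₁ ι₂ in
theorem eq_bot_of_image_le (hdisj : ∀ (x₁ : X₁) (x₂ : X₂), ι₁ x₁ ≠ ι₂ x₂) {A : X₁.Opens} {A' : X₂.Opens} :
    (ι₂ ''ᵁ A' ≤ ι₁ ''ᵁ A → A' = ⊥) ∧ (ι₁ ''ᵁ A ≤ ι₂ ''ᵁ A' → A = ⊥) := by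
  constructor
  · intro h
    rw [eq_bot_iff]
    intro a ha
    obtain ⟨x, -, hx⟩ := h ⟨a, ha, rfl⟩
    exact (hdisj x a hx).elim
  · intro h
    rw [eq_bot_iff]
    intro a ha
    obtain ⟨x, -, hx⟩ := h ⟨a, ha, rfl⟩
    exact (hdisj a x hx.symm).elim

theorem image_bot {X : Scheme.{u}} (ι : X ⟶ Z) [IsOpenImmersion ι] : ι ''ᵁ (⊥ : X.Opens) = ⊥ := by
  ext z
  constructor
  · rintro ⟨x, hx, -⟩
    exact hx.elim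
  · intro hz
    exact hz.elim

theorem dB_nat (hdisj : ∀ (x₁ : X₁) (x₂ : X₂), ι₁ x₁ ≠ ι₂ x₂) (k k' : X₁.Opens ⊕ X₂.Opens)
    (h : B ι₁ ι₂ k' ≤ B ι₁ ι₂ k) :
    M.presheaf.map (homOfLE h).op ≫ dB ι₁ ι₂ f₁ f₂ k' = dB ι₁ ι₂ f₁ f₂ k ≫ N.presheaf.map (homOfLE h).op := by
  rcases k with A | A <;> rcases k' with A' | A'
  · have hA : A' ≤ A := (ι₁.image_le_image_iff A' A).mp h
    exact f₁.mapPresheaf.naturality (homOfLE hA).op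
  · have hb : A' = ⊥ := (eq_bot_of_image_le ι₁ ι₂ hdisj).1 h
    subst hb
    have hs : Subsingleton Γ(N, ι₂ ''ᵁ (⊥ : X₂.Opens)) := by
      rw [image_bot]
      exact subsingleton_bot N
    ext x
    exact @Subsingleton.elim _ hs _ _
  · have hb : A' = ⊥ := (eq_bot_of_image_le ι₁ ι₂ hdisj).2 h
    subst hb
    have hs : Subsingleton Γ(N, ι₁ ''ᵁ (⊥ : X₁.Opens)) := by
      rw [image_bot]
      exact subsingleton_bot N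
    ext x
    exact @Subsingleton.elim _ hs _ _
  · have hA : A' ≤ A := (ι₂.image_le_image_iff A' A).mp h
    exact f₂.mapPresheaf.naturality (homOfLE hA).op

theorem app_lin {X : Scheme.{u}} (ι : X ⟶ Z) [IsOpenImmersion ι] (f : M.restrict ι ⟶ N.restrict ι) (A : X.Opens)
    (a : Γ(Z, ι ''ᵁ A)) (m : Γ(M, ι ''ᵁ A)) :
    (f.app A) (a • m) = a • (show Γ(N, ι ''ᵁ A) from (f.app A) m) := by
  have h := f.app_smul ((ι.appIso A).hom a) m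
  have e : (ι.appIso A).inv ((ι.appIso A).hom a) = a := by
    rw [← CommRingCat.comp_apply, Iso.hom_inv_id]; rfl
  have h' : f.app A (((ι.appIso A).inv ((ι.appIso A).hom a)) • m) =
      ((ι.appIso A).inv ((ι.appIso A).hom a)) • (show Γ(N, ι ''ᵁ A) from f.app A m) := h
  rw [e] at h'
  exact h'

theorem dB_lin (k : X₁.Opens ⊕ X₂.Opens) (a : Γ(Z, B ι₁ ι₂ k)) (m : Γ(M, B ι₁ ι₂ k)) :
    dB ι₁ ι₂ f₁ f₂ k (a • m) = a • dB ι₁ ι₂ f₁ f₂ k m := by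
  rcases k with A | A
  · exact app_lin ι₁ f₁ A a m
  · exact app_lin ι₂ f₂ A a m

/-- the glued morphism -/
noncomputable def glueHom (hcov : ∀ z : Z, z ∈ Set.range ι₁ ∨ z ∈ Set.range ι₂)
    (hdisj : ∀ (x₁ : X₁) (x₂ : X₂), ι₁ x₁ ≠ ι₂ x₂) : M ⟶ N :=
  Groth.Agent.Helper13ModBasis.homOfBasis (B ι₁ ι₂) (isBasis_B ι₁ ι₂ hcov) (dB ι₁ ι₂ f₁ f₂)
    (dB_nat ι₁ ι₂ f₁ f₂ hdisj) (dB_lin ι₁ ι₂ f₁ f₂)

theorem glueHom_app (hcov : ∀ z : Z, z ∈ Set.range ι₁ ∨ z ∈ Set.range ι₂)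
    (hdisj : ∀ (x₁ : X₁) (x₂ : X₂), ι₁ x₁ ≠ ι₂ x₂) (k : X₁.Opens ⊕ X₂.Opens) :
    (glueHom ι₁ ι₂ f₁ f₂ hcov hdisj).app (B ι₁ ι₂ k) = dB ι₁ ι₂ f₁ f₂ k :=
  Groth.Agent.Helper13ModBasis.homOfBasis_app (B ι₁ ι₂) (isBasis_B ι₁ ι₂ hcov) (dB ι₁ ι₂ f₁ f₂)
    (dB_nat ι₁ ι₂ f₁ f₂ hdisj) (dB_lin ι₁ ι₂ f₁ f₂) k

/-- **modules whose restrictions to two disjoint open pieces covering the scheme are isomorphic are isomorphic.** -/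
theorem nonempty_iso_of_restrict_iso (hcov : ∀ z : Z, z ∈ Set.range ι₁ ∨ z ∈ Set.range ι₂)
    (hdisj : ∀ (x₁ : X₁) (x₂ : X₂), ι₁ x₁ ≠ ι₂ x₂) (M N : Z.Modules)
    (ρ₁ : M.restrict ι₁ ≅ N.restrict ι₁) (ρ₂ : M.restrict ι₂ ≅ N.restrict ι₂) : Nonempty (M ≅ N) := by
  refine ⟨⟨glueHom ι₁ ι₂ ρ₁.hom ρ₂.hom hcov hdisj, glueHom ι₁ ι₂ ρ₁.inv ρ₂.inv hcov hdisj, ?_, ?_⟩⟩
  · refine Groth.Agent.Helper13ModBasis.hom_ext_basis (B ι₁ ι₂) (isBasis_B ι₁ ι₂ hcov) _ _ fun k => ?_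
    change (glueHom ι₁ ι₂ ρ₁.hom ρ₂.hom hcov hdisj).app (B ι₁ ι₂ k) ≫
      (glueHom ι₁ ι₂ ρ₁.inv ρ₂.inv hcov hdisj).app (B ι₁ ι₂ k) = 𝟙 _
    rw [glueHom_app, glueHom_app]
    rcases k with A | A
    · change ρ₁.hom.app A ≫ ρ₁.inv.app A = 𝟙 _
      rw [← Scheme.Modules.Hom.comp_app, Iso.hom_inv_id]
      rfl
    · change ρ₂.hom.app A ≫ ρ₂.inv.app A = 𝟙 _
      rw [← Scheme.Modules.Hom.comp_app, Iso.hom_inv_id]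
      rfl
  · refine Groth.Agent.Helper13ModBasis.hom_ext_basis (B ι₁ ι₂) (isBasis_B ι₁ ι₂ hcov) _ _ fun k => ?_
    change (glueHom ι₁ ι₂ ρ₁.inv ρ₂.inv hcov hdisj).app (B ι₁ ι₂ k) ≫
      (glueHom ι₁ ι₂ ρ₁.hom ρ₂.hom hcov hdisj).app (B ι₁ ι₂ k) = 𝟙 _
    rw [glueHom_app, glueHom_app]
    rcases k with A | A
    · change ρ₁.inv.app A ≫ ρ₁.hom.app A = 𝟙 _
      rw [← Scheme.Modules.Hom.comp_app, Iso.inv_hom_id]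
      rfl
    · change ρ₂.inv.app A ≫ ρ₂.hom.app A = 𝟙 _
      rw [← Scheme.Modules.Hom.comp_app, Iso.inv_hom_id]
      rfl

end Groth.Agent.Helper18DisjGlue
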