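import Mathlib
import Groth.Agent.Lib.Helper2GrModZero

/-!
# A covering criterion for `Proj` from ring generators (helper18)
-/

set_option autoImplicit false
universe u
open scoped HomogeneousIdeal

namespace Groth.Agent.Helper18VAmp

variable {A σ : Type u} [CommRing A] [SetLike σ A] [AddSubgroupClass σ A] (𝒜 : ℕ → σ) [GradedRing 𝒜]

/-- if `A` is generated as a ring by a set `Z` of degree-zero elements and a set `G`, then the `D₊(g)`, `g ∈ G`,
cover `Proj A`. -/
theorem exists_not_mem_of_closure (Z G : Set A) (hZ : Z ⊆ (𝒜 0 : Set A))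
    (hgen : Subring.closure (Z ∪ G) = ⊤) (x : ProjectiveSpectrum 𝒜) :
    ∃ g ∈ G, g ∉ x.asHomogeneousIdeal := by
  by_contra hcon
  push Not at hcon
  have key : ∀ w ∈ Subring.closure (Z ∪ G), ∃ z ∈ 𝒜 0, w - z ∈ x.asHomogeneousIdeal.toIdeal := by
    intro w hw
    induction hw using Subring.closure_induction with
    | mem w hw =>
      rcases hw with hw | hw
      · exact ⟨w, hZ hw, by rw [sub_self]; exact zero_mem _⟩
      · exact ⟨0, zero_mem _, by rw [sub_zero]; exact hcon w hw⟩
    | zero => exact ⟨0, zero_mem _, by rw [sub_self]; exact zero_mem _⟩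
    | one => exact ⟨1, SetLike.GradedOne.one_mem, by rw [sub_self]; exact zero_mem _⟩
    | add a b _ _ ha hb =>
      obtain ⟨z, hz, h1⟩ := ha
      obtain ⟨z', hz', h2⟩ := hb
      refine ⟨z + z', add_mem hz hz', ?_⟩
      have : a + b - (z + z') = (a - z) + (b - z') := by ring
      rw [this]
      exact add_mem h1 h2
    | neg a _ ha =>
      obtain ⟨z, hz, h1⟩ := ha
      refine ⟨-z, neg_mem hz, ?_⟩
      have : -a - -z = -(a - z) := by ring
      rw [this]
      exact neg_mem h1
    | mul a b _ _ ha hb =>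
      obtain ⟨z, hz, h1⟩ := ha
      obtain ⟨z', hz', h2⟩ := hb
      refine ⟨z * z', ?_, ?_⟩
      · have := SetLike.mul_mem_graded (A := 𝒜) hz hz'
        rwa [zero_add] at this
      · have : a * b - z * z' = (a - z) * b + z * (b - z') := by ring
        rw [this]
        exact add_mem (Ideal.mul_mem_right _ _ h1) (Ideal.mul_mem_left _ _ h2)
  obtain ⟨d, f, hd, hf, hfx⟩ := Groth.Agent.Lib.Helper2GrModSect.exists_homogeneous_pos_not_mem 𝒜 x
  obtain ⟨z, hz, h1⟩ := key f (by rw [hgen]; trivial)
  apply hfx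
  have h2 := x.asHomogeneousIdeal.isHomogeneous d h1
  rw [DirectSum.decompose_sub, DirectSum.sub_apply, AddSubgroupClass.coe_sub,
    DirectSum.decompose_of_mem_same 𝒜 hf, DirectSum.decompose_of_mem_ne 𝒜 hz (by omega), sub_zero] at h2
  exact h2

end Groth.Agent.Helper18VAmp
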