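import Mathlib
import Groth.Prelude.Def_RelProj3
import Groth.Agent.Lib.Helper18VAmpC
import Groth.Agent.Lib.Helper18VAmpF
import Groth.Agent.Lib.Helper23Serre

/-!
# The canonical map `p^* E ⟶ O_{P(E)}(1)` is an epimorphism (helper18)
-/

set_option autoImplicit false
universe u
open CategoryTheory CategoryTheory.Limits AlgebraicGeometry TopologicalSpace Opposite

namespace Groth.Agent.Helper18VAmp

open Groth.Agent.Lib.Helper2.RelTildeQCoh Groth.Agent.Lib.Helper23.SecTw Groth.Agent.Lib.Helper6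
  Groth.Agent.Lib.Helper2.RelTwistGen Groth.Agent.Lib.Helper2.RelTwistTriv RelProj
  Groth.Agent.Lib.Helper2.RelTwistInv Groth.Agent.Lib.Helper2GrModSect

variable {Y P : Scheme.{u}} (E : Y.Modules) (hE : Coh.IsQCoh E)
  (𝒮 : RelProj.QCGrAlg Y) (j : E ⟶ 𝒮.toModule) (hj : RelProj.IsGrSymAlg E 𝒮 j)

include hE hj in
/-- the `D₊(j e)`, `e` a section of `E` over the affine open `U`, cover `Proj 𝒮(U)`. -/
theorem exists_j_not_mem (U : Y.Opens) (hU : IsAffineOpen U) (y : ProjectiveSpectrum (𝒮.deg U hU)) :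
    ∃ e : Γ(E, U), ((j.app U) e : 𝒮.presheaf.obj (op U)) ∉ y.asHomogeneousIdeal := by
  have : E.IsQuasicoherent := hE
  have hbij := Groth.Agent.Helper13SymAlg.bijective_σ E U hU hj.1
  have hgen : Subring.closure (Set.range (𝒮.str.app (op U)).hom ∪
      Set.range (fun e : Γ(E, U) => ((j.app U) e : 𝒮.presheaf.obj (op U)))) = ⊤ := by
    rw [eq_top_iff]
    intro x _
    obtain ⟨w, rfl⟩ := hbij.2 x
    clear * - hj
    induction w using SymmetricAlgebra.induction with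
    | algebraMap a =>
      unfold Groth.Agent.Helper13SymAlg.σ
      rw [Groth.Agent.Helper13SymLoc.symLift_algebraMap]
      exact Subring.subset_closure (Or.inl ⟨a, rfl⟩)
    | ι m =>
      unfold Groth.Agent.Helper13SymAlg.σ
      rw [Groth.Agent.Helper13SymLoc.symLift_ι]
      exact Subring.subset_closure (Or.inr ⟨m, rfl⟩)
    | mul a b ha hb => rw [map_mul]; exact mul_mem ha hb
    | add a b ha hb => rw [map_add]; exact add_mem ha hb
  obtain ⟨g, ⟨e, rfl⟩, hg⟩ := exists_not_mem_of_closure (𝒮.deg U hU) _ _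
    (by rintro _ ⟨a, rfl⟩; exact 𝒮.str_mem U hU a) hgen y
  exact ⟨e, hg⟩

variable (p : P ⟶ Y)
  (chart : ∀ (U : Y.Opens) (hU : IsAffineOpen U), ((p ⁻¹ᵁ U : P.Opens) : Scheme.{u}) ≅ Proj (𝒮.deg U hU))
  (O1 : P.Modules)
  (lam : ∀ (U : Y.Opens) (hU : IsAffineOpen U),
    O1 ⟶ (Scheme.Modules.pushforward (RelProj.emb p chart U hU)).obj (GrTwist.twist (𝒮.deg U hU) 1))
  (hO1 : RelProj.IsRelTwist 𝒮 p chart 1 O1 lam)

include hE hj hO1 in
/-- **`p^* E ⟶ O_P(1)` is an epimorphism**, for the adjoint of a map `φ : E ⟶ p_* O_P(1)` whose values on the charts are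
`j(e) / 1`. -/
theorem epi_adjoint_of_values
    (φ : E ⟶ (Scheme.Modules.pushforward p).obj O1)
    (hφ : ∀ (U : Y.Opens) (hU : IsAffineOpen U) (e : Γ(E, U))
      (y : ↥(RelProj.emb p chart U hU ⁻¹ᵁ (p ⁻¹ᵁ U))),
      GrTwist.val (V := RelProj.emb p chart U hU ⁻¹ᵁ (p ⁻¹ᵁ U))
          ((lam U hU).app (p ⁻¹ᵁ U) ((φ.app U) e)) y =
        algebraMap (𝒮.presheaf.obj (op U)) (GrTwist.Loc (𝒮.deg U hU) y.1)
          ((j.app U) e : 𝒮.presheaf.obj (op U))) :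
    Epi (((Scheme.Modules.pullbackPushforwardAdjunction p).homEquiv E O1).symm φ) := by
  obtain ⟨ψ, hψ⟩ : ∃ ψ, ψ = ((Scheme.Modules.pullbackPushforwardAdjunction p).homEquiv E O1).symm φ :=
    ⟨_, rfl⟩
  rw [← hψ]
  have hφψ : φ = (Scheme.Modules.pullbackPushforwardAdjunction p).unit.app E ≫
      (Scheme.Modules.pushforward p).map ψ := by
    have h1 := Adjunction.homEquiv_unit (Scheme.Modules.pullbackPushforwardAdjunction p) E O1 ψ
    rw [← h1, hψ, Equiv.apply_symm_apply]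
  apply Groth.Agent.Lib.Helper23.Serre.epi_of_locally_surjective
  intro V t x hxV
  obtain ⟨U, hxU⟩ := exists_affine_mem_preimage p x
  obtain ⟨y, hy⟩ := le_opensRange_emb p chart U.1 U.2 hxU
  have hy' : (RelProj.emb p chart U.1 U.2) y = x := hy
  obtain ⟨e, he⟩ := exists_j_not_mem E hE 𝒮 j hj U.1 U.2 y
  obtain ⟨g, hg⟩ : ∃ g : 𝒮.presheaf.obj (op U.1), g = ((j.app U.1) e : 𝒮.presheaf.obj (op U.1)) := ⟨_, rfl⟩
  rw [← hg] at he
  have hg1 : g ∈ 𝒮.deg U.1 U.2 1 := by rw [hg]; exact hj.2 U.1 U.2 e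
  have h1mem : (1 : 𝒮.presheaf.obj (op U.1)) ∈ 𝒮.deg U.1 U.2 0 := SetLike.GradedOne.one_mem
  have hij : ((1 : ℕ) : ℤ) = ((0 : ℕ) : ℤ) + (1 : ℤ) := by simp
  obtain ⟨W, hW⟩ : ∃ W : P.Opens,
      W = (RelProj.emb p chart U.1 U.2) ''ᵁ (Proj.basicOpen (𝒮.deg U.1 U.2) g) := ⟨_, rfl⟩
  have hWle : W ≤ p ⁻¹ᵁ U.1 := by rw [hW]; exact image_emb_le p chart U.1 U.2 _
  have hxW : x ∈ W := by
    rw [hW, ← hy']
    exact ⟨y, (ProjectiveSpectrum.mem_basicOpen _ g y).mpr he, rfl⟩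
  have hWa : ∀ y' : ((RelProj.emb p chart U.1 U.2) ⁻¹ᵁ W : (Proj (𝒮.deg U.1 U.2)).Opens),
      g ∉ y'.1.asHomogeneousIdeal := by
    rintro ⟨y', h1⟩
    rw [hW, (RelProj.emb p chart U.1 U.2).preimage_image_eq] at h1
    exact (ProjectiveSpectrum.mem_basicOpen _ _ y').mp h1
  obtain ⟨e', hgen', hval'⟩ := exists_frame p chart (1 : ℤ) O1 lam hO1 U.1 U.2 W hWle hg1 h1mem hij hWa
    (fun y' => GrMod.one_nin y'.1)
  -- the section `φ(e)` over `p⁻¹(U)`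
  obtain ⟨ℓ, hℓ⟩ : ∃ ℓ : Γ(O1, p ⁻¹ᵁ U.1), ℓ = (φ.app U.1) e := ⟨_, rfl⟩
  have hresℓ : res O1 hWle ℓ = e' := by
    apply (hO1.bijective U.1 U.2 W hWle).1
    apply twist_ext
    intro y'
    rw [hval' y']
    have hn := app_map' (lam U.1 U.2) (homOfLE hWle) ℓ
    change GrTwist.val (V := RelProj.emb p chart U.1 U.2 ⁻¹ᵁ W)
      ((lam U.1 U.2).app _ (O1.presheaf.map (homOfLE hWle).op ℓ)) y' = _
    rw [hn]
    have h2 := hφ U.1 U.2 e ⟨y'.1, hWle y'.2⟩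
    rw [← hℓ, ← hg] at h2
    refine Eq.trans ?_ (h2.trans ?_)
    · rfl
    · rw [← Localization.mk_one_eq_algebraMap]
      rfl
  -- the generator and the coefficient
  obtain ⟨r, hr⟩ := (hgen' (W ⊓ V) inf_le_left).2 (res O1 inf_le_right t)
  have hr' : r • res O1 (inf_le_left : W ⊓ V ≤ W) e' = res O1 (inf_le_right : W ⊓ V ≤ V) t := hr
  obtain ⟨η, hη⟩ : ∃ η : Γ((Scheme.Modules.pullback p).obj E, p ⁻¹ᵁ U.1),
      η = ((Scheme.Modules.pullbackPushforwardAdjunction p).unit.app E).app U.1 e := ⟨_, rfl⟩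
  have hψη : ψ.app (p ⁻¹ᵁ U.1) η = ℓ := by
    rw [hℓ, hη, hφψ]
    rfl
  refine ⟨W ⊓ V, inf_le_right, ⟨hxW, hxV⟩,
    r • res ((Scheme.Modules.pullback p).obj E) ((inf_le_left : W ⊓ V ≤ W).trans hWle) η, ?_⟩
  rw [Scheme.Modules.Hom.app_smul]
  have h3 : ψ.app (W ⊓ V) (res ((Scheme.Modules.pullback p).obj E)
      ((inf_le_left : W ⊓ V ≤ W).trans hWle) η) = res O1 ((inf_le_left : W ⊓ V ≤ W).trans hWle) ℓ := by
    rw [← hψη]
    exact app_map' ψ (homOfLE ((inf_le_left : W ⊓ V ≤ W).trans hWle)) η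
  rw [h3, ← res_res O1 hWle inf_le_left, hresℓ]
  exact hr'

end Groth.Agent.Helper18VAmp
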