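import Groth.Agent.Lib.Helper2GrModQCoh
import Groth.Agent.Lib.Helper23SecTw6

/-!
# Generators of the twisting sheaves `O(n)` on `Proj` (helper2 port of helper27 to `SetLike` gradings)

* `fracSec` : the section `a / b` of `O(n)` over an open on which `b` vanishes nowhere
* `isGen_fracSec` : if moreover `a` vanishes nowhere on `W`, then `a / b` generates `O(n)` over `W`
  (helper23's `IsGen`).
-/

set_option autoImplicit false
universe u

open CategoryTheory CategoryTheory.Limits AlgebraicGeometry TopologicalSpace Opposite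
  HomogeneousLocalization

namespace Groth.Agent.Lib.Helper2GrModSect

variable {A σ : Type u} [CommRing A] [SetLike σ A] [AddSubgroupClass σ A] (𝒜 : ℕ → σ)
  [GradedRing 𝒜]

/-- a dependent function, seen as a function on `W`. -/
def ofFun (W : (Proj 𝒜).Opens) (c : GrTwist.O (𝒜 := 𝒜) (op W)) : Γ(Proj 𝒜, W) := c

theorem funVal_ofFun (W : (Proj 𝒜).Opens) (c : GrTwist.O (𝒜 := 𝒜) (op W))
    (y : ProjectiveSpectrum 𝒜) (hy : y ∈ W) : funVal 𝒜 W (ofFun 𝒜 W c) y hy = c.1 ⟨y, hy⟩ := rfl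

theorem fun_ext (W : (Proj 𝒜).Opens) (c c' : Γ(Proj 𝒜, W))
    (h : ∀ (y : ProjectiveSpectrum 𝒜) (hy : y ∈ W), funVal 𝒜 W c y hy = funVal 𝒜 W c' y hy) :
    c = c' := by
  have h1 : toFun 𝒜 W c = toFun 𝒜 W c' := Subtype.ext (funext fun y => h y.1 y.2)
  exact h1

theorem funVal_mul (W : (Proj 𝒜).Opens) (c c' : Γ(Proj 𝒜, W))
    (y : ProjectiveSpectrum 𝒜) (hy : y ∈ W) :
    funVal 𝒜 W (c * c') y hy = funVal 𝒜 W c y hy * funVal 𝒜 W c' y hy := rfl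

variable (n : ℤ)

/-- the section `a / b` of `O(n)` over `W`. -/
def fracSec (W : (Proj 𝒜).Opens) {i j : ℕ} {a b : A} (ha : a ∈ 𝒜 i) (hb : b ∈ 𝒜 j)
    (hij : (i : ℤ) = j + n) (hW : ∀ y : W, b ∉ y.1.asHomogeneousIdeal) :
    Γ(GrMod.tilde 𝒜 𝒜 n, W) :=
  ofSect 𝒜 𝒜 n W (fracOn 𝒜 𝒜 n W ha hb hij hW)

theorem secVal_fracSec (W : (Proj 𝒜).Opens) {i j : ℕ} {a b : A} (ha : a ∈ 𝒜 i) (hb : b ∈ 𝒜 j)
    (hij : (i : ℤ) = j + n) (hW : ∀ y : W, b ∉ y.1.asHomogeneousIdeal)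
    (y : ProjectiveSpectrum 𝒜) (hy : y ∈ W) :
    secVal 𝒜 𝒜 n W (fracSec 𝒜 n W ha hb hij hW) y hy =
      (Localization.mk a (⟨b, hW ⟨y, hy⟩⟩ : y.asHomogeneousIdeal.toIdeal.primeCompl) :
        GrTwist.Loc 𝒜 y) := rfl

/-- the value of a scalar multiple, in the ring `A_y`. -/
theorem secVal_smul' (W : (Proj 𝒜).Opens) (c : Γ(Proj 𝒜, W)) (s : Γ(GrMod.tilde 𝒜 𝒜 n, W))
    (y : ProjectiveSpectrum 𝒜) (hy : y ∈ W) :
    (secVal 𝒜 𝒜 n W (c • s) y hy : GrTwist.Loc 𝒜 y) =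
      (funVal 𝒜 W c y hy).val * (secVal 𝒜 𝒜 n W s y hy : GrTwist.Loc 𝒜 y) := rfl

variable {𝒜} in
theorem isUnit_mk {y : ProjectiveSpectrum 𝒜} {a b : A} (hay : a ∉ y.asHomogeneousIdeal)
    (hby : b ∉ y.asHomogeneousIdeal) :
    IsUnit (Localization.mk a (⟨b, hby⟩ : y.asHomogeneousIdeal.toIdeal.primeCompl) :
      GrTwist.Loc 𝒜 y) := by
  rw [Localization.mk_eq_mk']
  exact (IsLocalization.AtPrime.isUnit_mk'_iff _ _ a ⟨b, hby⟩).mpr hay

/-- dividing a degree-`n` fraction by `a / b` (of degree `n`) gives a degree-zero fraction. -/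
theorem exists_val_mul_eq (y : ProjectiveSpectrum 𝒜) {i j : ℕ} {a b : A} (ha : a ∈ 𝒜 i)
    (hb : b ∈ 𝒜 j) (hij : (i : ℤ) = j + n) (hay : a ∉ y.asHomogeneousIdeal)
    (hby : b ∉ y.asHomogeneousIdeal) (q : GrTwist.Loc 𝒜 y)
    (hq : (show GrMod.LocMod 𝒜 (M := A) y from q) ∈ GrMod.tildeAt 𝒜 𝒜 n y) :
    ∃ c : GrTwist.A0 𝒜 y, c.val * (Localization.mk a
      (⟨b, hby⟩ : y.asHomogeneousIdeal.toIdeal.primeCompl) : GrTwist.Loc 𝒜 y) = q := by
  obtain ⟨i', j', m, s, hm, hs, hsy, hij', hqe⟩ := exists_frac_of_mem 𝒜 𝒜 n y q hq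
  have hsa : s * a ∉ y.asHomogeneousIdeal := fun h =>
    (y.isPrime.mem_or_mem h).elim hsy hay
  have e : j' + i = i' + j := by omega
  refine ⟨HomogeneousLocalization.mk ⟨i' + j, ⟨m * b, SetLike.mul_mem_graded hm hb⟩,
    ⟨s * a, e ▸ SetLike.mul_mem_graded hs ha⟩, hsa⟩, ?_⟩
  rw [HomogeneousLocalization.val_mk]
  have hqe' : q = (Localization.mk m (⟨s, hsy⟩ : y.asHomogeneousIdeal.toIdeal.primeCompl) :
      GrTwist.Loc 𝒜 y) := hqe
  rw [hqe']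
  change (Localization.mk (m * b) (⟨s * a, hsa⟩ : y.asHomogeneousIdeal.toIdeal.primeCompl) :
    GrTwist.Loc 𝒜 y) * _ = _
  rw [Localization.mk_mul, Localization.mk_eq_mk_iff, Localization.r_iff_exists]
  refine ⟨1, ?_⟩
  simp only [OneMemClass.coe_one, one_mul, Submonoid.coe_mul]
  ring


/-- the coefficient function `s / (a / b)`. -/
theorem exists_coef (W : (Proj 𝒜).Opens) {i j : ℕ} {a b : A} (ha : a ∈ 𝒜 i) (hb : b ∈ 𝒜 j)
    (hij : (i : ℤ) = j + n) (hWb : ∀ y : W, b ∉ y.1.asHomogeneousIdeal)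
    (hWa : ∀ y : W, a ∉ y.1.asHomogeneousIdeal) (s : Γ(GrMod.tilde 𝒜 𝒜 n, W)) :
    ∃ r : Γ(Proj 𝒜, W), r • fracSec 𝒜 n W ha hb hij hWb = s := by
  have hex : ∀ (y : ProjectiveSpectrum 𝒜) (hy : y ∈ W), ∃ c : GrTwist.A0 𝒜 y,
      c.val * (Localization.mk a
      (⟨b, hWb ⟨y, hy⟩⟩ : y.asHomogeneousIdeal.toIdeal.primeCompl) : GrTwist.Loc 𝒜 y) =
      (secVal 𝒜 𝒜 n W s y hy : GrTwist.Loc 𝒜 y) := fun y hy =>
    exists_val_mul_eq 𝒜 n y ha hb hij (hWa ⟨y, hy⟩) (hWb ⟨y, hy⟩) _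
      ((toSect 𝒜 𝒜 n W s).1 ⟨y, hy⟩).2
  choose f hf using hex
  have hloc : (ProjectiveSpectrum.StructureSheaf.isLocallyFraction 𝒜).pred
      (fun y : (W : Opens (ProjectiveSpectrum.top 𝒜)) => f y.1 y.2) := by
    intro y
    obtain ⟨V, hyV, iV, i', j', m, t, nin, hcond, hval⟩ := (toSect 𝒜 𝒜 n W s).2 y
    have hVW : ∀ w : ProjectiveSpectrum 𝒜, w ∈ V → w ∈ W := fun w hw => iV.le hw
    have hval' : ∀ (w : ProjectiveSpectrum 𝒜) (hw : w ∈ V),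
        (secVal 𝒜 𝒜 n W s w (hVW w hw) : GrTwist.Loc 𝒜 w) =
        (Localization.mk m.1 (⟨t.1, nin ⟨w, hw⟩⟩ :
          w.asHomogeneousIdeal.toIdeal.primeCompl) : GrTwist.Loc 𝒜 w) := fun w hw => hval ⟨w, hw⟩
    rcases hcond with hdeg | hzero
    · have hta : ∀ z : V, t.1 * a ∉ z.1.asHomogeneousIdeal := fun z h =>
        (z.1.isPrime.mem_or_mem h).elim (nin z) (hWa ⟨z.1, hVW z.1 z.2⟩)
      have e : j' + i = i' + j := by omega
      have key : ∀ (w : ProjectiveSpectrum 𝒜) (hw : w ∈ V), f w (hVW w hw) =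
          HomogeneousLocalization.mk ⟨i' + j, ⟨m.1 * b, SetLike.mul_mem_graded m.2 hb⟩,
            ⟨t.1 * a, e ▸ SetLike.mul_mem_graded t.2 ha⟩, hta ⟨w, hw⟩⟩ := by
        intro w hw
        apply HomogeneousLocalization.val_injective
        apply (isUnit_mk (hWa ⟨w, hVW w hw⟩) (hWb ⟨w, hVW w hw⟩)).mul_left_injective
        change (f w (hVW w hw)).val * _ = _ * _
        rw [hf w (hVW w hw), hval' w hw, HomogeneousLocalization.val_mk]
        change _ = (Localization.mk (m.1 * b) (⟨t.1 * a, hta ⟨w, hw⟩⟩ :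
          w.asHomogeneousIdeal.toIdeal.primeCompl) : GrTwist.Loc 𝒜 w) * _
        rw [Localization.mk_mul, Localization.mk_eq_mk_iff, Localization.r_iff_exists]
        refine ⟨1, ?_⟩
        simp only [OneMemClass.coe_one, one_mul, Submonoid.coe_mul]
        ring
      exact ⟨V, hyV, iV, i' + j, ⟨m.1 * b, SetLike.mul_mem_graded m.2 hb⟩,
        ⟨t.1 * a, e ▸ SetLike.mul_mem_graded t.2 ha⟩, hta, fun z => key z.1 z.2⟩
    · have h1 : ∀ z : V, (1 : A) ∉ z.1.asHomogeneousIdeal := fun z h =>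
        z.1.isPrime.ne_top ((Ideal.eq_top_iff_one _).mpr h)
      have key : ∀ (w : ProjectiveSpectrum 𝒜) (hw : w ∈ V), f w (hVW w hw) =
          HomogeneousLocalization.mk ⟨0, ⟨0, zero_mem _⟩, ⟨1, SetLike.GradedOne.one_mem⟩,
            h1 ⟨w, hw⟩⟩ := by
        intro w hw
        apply HomogeneousLocalization.val_injective
        apply (isUnit_mk (hWa ⟨w, hVW w hw⟩) (hWb ⟨w, hVW w hw⟩)).mul_left_injective
        change (f w (hVW w hw)).val * _ = _ * _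
        rw [hf w (hVW w hw), hval' w hw, HomogeneousLocalization.val_mk, hzero,
          Localization.mk_zero]
        change _ = (Localization.mk 0 _ : GrTwist.Loc 𝒜 w) * _
        rw [Localization.mk_zero, zero_mul]
      exact ⟨V, hyV, iV, 0, ⟨0, zero_mem _⟩, ⟨1, SetLike.GradedOne.one_mem⟩, h1,
        fun z => key z.1 z.2⟩
  refine ⟨ofFun 𝒜 W ⟨fun y => f y.1 y.2, hloc⟩, ?_⟩
  apply sec_ext
  intro y hy
  exact hf y hy

open Groth.Agent.Lib.Helper23.SecTw Groth.Agent.Lib.Helper6 in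
/-- `a / b` generates `O(n)` on any open where neither `a` nor `b` vanishes. -/
theorem isGen_fracSec (W : (Proj 𝒜).Opens) {i j : ℕ} {a b : A} (ha : a ∈ 𝒜 i) (hb : b ∈ 𝒜 j)
    (hij : (i : ℤ) = j + n) (hWb : ∀ y : W, b ∉ y.1.asHomogeneousIdeal)
    (hWa : ∀ y : W, a ∉ y.1.asHomogeneousIdeal) :
    IsGen (GrMod.tilde 𝒜 𝒜 n) W (fracSec 𝒜 n W ha hb hij hWb) := by
  intro W' hle
  have hres : res (GrMod.tilde 𝒜 𝒜 n) hle (fracSec 𝒜 n W ha hb hij hWb) =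
      fracSec 𝒜 n W' ha hb hij (fun y => hWb ⟨y.1, hle y.2⟩) := rfl
  rw [hres]
  constructor
  · intro r r' hrr
    apply fun_ext
    intro y hy
    apply HomogeneousLocalization.val_injective
    apply (isUnit_mk (hWa ⟨y, hle hy⟩) (hWb ⟨y, hle hy⟩)).mul_left_injective
    have h1 := congrArg (fun s => (secVal 𝒜 𝒜 n W' s y hy : GrTwist.Loc 𝒜 y)) hrr
    exact h1
  · intro s
    exact exists_coef 𝒜 n W' ha hb hij (fun y => hWb ⟨y.1, hle y.2⟩)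
      (fun y => hWa ⟨y.1, hle y.2⟩) s

end Groth.Agent.Lib.Helper2GrModSect
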