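import Mathlib
import Groth.Prelude.Def_RelProj3
import Groth.Agent.Lib.Helper2TwistGen
import Groth.Agent.Lib.Helper2IsGenCover
import Groth.Agent.Lib.Helper2RelTwistTriv
import Groth.Agent.Lib.Helper2RelTwistPullback

/-!
# Sections of `O(n)` on `Proj` of a degree-zero localisation (helper2)

For a graded homomorphism `ψ : 𝒜 → ℬ` which is the localisation at an element `c` of degree zero (expressed
through the three properties `hunit`, `hsurj`, `hker`), the comparison map `GrTwist.comapApp` is bijective on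
sections over opens matched by `Proj ℬ → Proj 𝒜`.
-/

set_option autoImplicit false
universe u
open CategoryTheory Limits AlgebraicGeometry TopologicalSpace Opposite
open scoped HomogeneousIdeal

namespace Groth.Agent.Lib.Helper2.ProjLocSect

open Groth.Agent.Lib.Helper6 Groth.Agent.Lib.Helper2.IsGenCover Groth.Agent.Lib.Helper2.RelTwistTriv
  Groth.Agent.Lib.Helper2.RelTwistPullback Groth.Agent.Lib.Helper2GrModSect

variable {A B σ τ : Type u} [CommRing A] [SetLike σ A] [AddSubgroupClass σ A] {𝒜 : ℕ → σ} [GradedRing 𝒜]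
  [CommRing B] [SetLike τ B] [AddSubgroupClass τ B] {ℬ : ℕ → τ} [GradedRing ℬ]
  (ψ : 𝒜 →+*ᵍ ℬ) (irr : ℬ₊ ≤ (𝒜₊).map ψ) (c : A) (hc : c ∈ 𝒜 0)
  (hunit : IsUnit (ψ c))
  (hsurj : ∀ b : B, ∃ (a : A) (k : ℕ), b * ψ c ^ k = ψ a)
  (hker : ∀ a : A, ψ a = 0 → ∃ k : ℕ, c ^ k * a = 0)

include hc in
theorem mul_pow_mem {i : ℕ} {a : A} (ha : a ∈ 𝒜 i) (l : ℕ) : a * c ^ l ∈ 𝒜 i := by
  have h1 : c ^ l ∈ 𝒜 (l • 0) := SetLike.pow_mem_graded l hc
  rw [smul_zero] at h1
  have h2 := SetLike.mul_mem_graded ha h1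
  rwa [add_zero] at h2

include hc hsurj in
theorem exists_graded_lift {i : ℕ} {β : B} (hβ : β ∈ ℬ i) : ∃ a ∈ 𝒜 i, ∃ k : ℕ, β * ψ c ^ k = ψ a := by
  classical
  obtain ⟨x, k, hx⟩ := hsurj β
  have hc0 : ψ c ^ k ∈ ℬ 0 := by
    have h1 : ψ c ^ k ∈ ℬ (k • 0) := SetLike.pow_mem_graded k (ψ.map_mem hc)
    rwa [smul_zero] at h1
  have hbi : β * ψ c ^ k ∈ ℬ i := by
    have h2 := SetLike.mul_mem_graded hβ hc0
    rwa [add_zero] at h2
  refine ⟨(DirectSum.decompose 𝒜 x i : A), SetLike.coe_mem _, k, ?_⟩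
  rw [GradedRingHom.map_directSumDecompose, ← hx, DirectSum.decompose_of_mem_same _ hbi]

include hunit in
theorem psi_c_not_mem (y : ProjectiveSpectrum ℬ) : ψ c ∉ y.asHomogeneousIdeal.toIdeal := fun h =>
  y.isPrime.ne_top (Ideal.eq_top_of_isUnit_mem _ h hunit)

include hunit hsurj hker in
theorem locMap_injective (y : ProjectiveSpectrum ℬ) : Function.Injective (GrTwist.locMap ψ irr y) := by
  rw [injective_iff_map_eq_zero]
  intro q hq
  induction q using Localization.induction_on with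
  | H x =>
    obtain ⟨a, s⟩ := x
    rw [GrTwist.locMap_mk, Localization.mk_eq_mk', IsLocalization.mk'_eq_zero_iff] at hq
    obtain ⟨t', ht'⟩ := hq
    obtain ⟨x, k, hx⟩ := hsurj (t' : B)
    have hc₀ := psi_c_not_mem ψ c hunit y
    have hxa : ψ (x * a) = 0 := by
      rw [map_mul, ← hx, mul_right_comm, ht', zero_mul]
    obtain ⟨m, hm⟩ := hker _ hxa
    rw [Localization.mk_eq_mk', IsLocalization.mk'_eq_zero_iff]
    refine ⟨⟨c ^ m * x, ?_⟩, by rw [← hm]; ring⟩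
    intro h
    have h' : ψ (c ^ m * x) ∈ y.asHomogeneousIdeal.toIdeal := h
    rw [map_mul, map_pow, ← hx] at h'
    rcases y.isPrime.mem_or_mem h' with h' | h'
    · exact hc₀ (y.isPrime.mem_of_pow_mem _ h')
    · rcases y.isPrime.mem_or_mem h' with h' | h'
      · exact t'.2 h'
      · exact hc₀ (y.isPrime.mem_of_pow_mem _ h')

variable (n : ℤ) (Ω : Opens (ProjectiveSpectrum.top 𝒜)) (Ω' : Opens (ProjectiveSpectrum.top ℬ))
  (hsub : Ω'.1 ⊆ ProjectiveSpectrum.comap ψ irr ⁻¹' Ω.1)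
  (hcov : ∀ y ∈ Ω, ∃ y'' ∈ Ω', ProjectiveSpectrum.comap ψ irr y'' = y)

include hunit hsurj hker hcov in
theorem comapApp_injective : Function.Injective (GrTwist.comapApp ψ irr n Ω Ω' hsub) := by
  intro s₁ s₂ h
  refine Subtype.ext (funext fun y => Subtype.ext ?_)
  obtain ⟨y, hy⟩ := y
  obtain ⟨y'', hy'', rfl⟩ := hcov y hy
  apply locMap_injective ψ irr c hunit hsurj hker y''
  have h1 := congrArg (fun t : GrTwist.sectN (𝒜 := ℬ) n (op Ω') => ((t.1 ⟨y'', hy''⟩ : GrTwist.twistAt ℬ n y'') :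
    GrTwist.Loc ℬ y'')) h
  exact h1

include hc hunit hsurj hker hcov in
theorem comapApp_surjective (hinj : Function.Injective (ProjectiveSpectrum.comap ψ irr))
    (hopen : IsOpenMap (ProjectiveSpectrum.comap ψ irr)) :
    Function.Surjective (GrTwist.comapApp ψ irr n Ω Ω' hsub) := by
  intro τ₀
  have hc₀ := psi_c_not_mem ψ c hunit
  -- local lifts
  have hloc : ∀ z : Ω', ∃ (N : (Proj 𝒜).Opens) (_ : N ≤ Ω) (t : Γ(GrTwist.twist 𝒜 n, N)),
      ProjectiveSpectrum.comap ψ irr z.1 ∈ N ∧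
      ∀ (z' : ProjectiveSpectrum ℬ) (hz' : z' ∈ Ω') (hz'N : ProjectiveSpectrum.comap ψ irr z' ∈ N),
        GrTwist.locMap ψ irr z' (GrTwist.val t ⟨_, hz'N⟩) =
          ((τ₀.1 ⟨z', hz'⟩ : GrTwist.twistAt ℬ n z') : GrTwist.Loc ℬ z') := by
    intro z
    obtain ⟨N', hzN', iN', i, j, α, β, hβ, hij, hfrac⟩ := τ₀.2 z
    let N : (Proj 𝒜).Opens := ⟨ProjectiveSpectrum.comap ψ irr '' N'.1, hopen _ N'.2⟩
    have hNΩ : N ≤ Ω := by
      rintro _ ⟨z', hz', rfl⟩
      exact hsub (iN'.le hz')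
    have hmemN : ∀ z' : ProjectiveSpectrum ℬ, ProjectiveSpectrum.comap ψ irr z' ∈ N → z' ∈ N' := by
      rintro z' ⟨z'', hz'', e⟩
      rw [← hinj e]; exact hz''
    rcases hij with hij | hα
    · obtain ⟨a, ha, k, hak⟩ := exists_graded_lift ψ c hc hsurj α.2
      obtain ⟨b, hb, l, hbl⟩ := exists_graded_lift ψ c hc hsurj β.2
      have hWb : ∀ y : N, b * c ^ k ∉ y.1.asHomogeneousIdeal := by
        rintro ⟨_, z', hz', rfl⟩ h
        have h' : ψ (b * c ^ k) ∈ z'.asHomogeneousIdeal.toIdeal := h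
        rw [map_mul, map_pow, ← hbl] at h'
        rcases z'.isPrime.mem_or_mem h' with h' | h'
        · rcases z'.isPrime.mem_or_mem h' with h' | h'
          · exact hβ ⟨z', hz'⟩ h'
          · exact hc₀ z' (z'.isPrime.mem_of_pow_mem _ h')
        · exact hc₀ z' (z'.isPrime.mem_of_pow_mem _ h')
      refine ⟨N, hNΩ, fracSec 𝒜 n N (mul_pow_mem c hc ha l) (mul_pow_mem c hc hb k) hij hWb,
        ⟨z.1, hzN', rfl⟩, ?_⟩
      intro z' hz' hz'N
      have hz'N' := hmemN z' hz'N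
      have h1 := hfrac ⟨z', hz'N'⟩
      change GrTwist.locMap ψ irr z' (Localization.mk (a * c ^ l) ⟨b * c ^ k, _⟩) = _
      rw [GrTwist.locMap_mk]
      refine Eq.trans ?_ h1.symm
      rw [Localization.mk_eq_mk_iff, Localization.r_iff_exists]
      refine ⟨1, ?_⟩
      simp only [OneMemClass.coe_one, one_mul]
      rw [map_mul, map_mul, map_pow, map_pow, ← hak, ← hbl]
      ring
    · refine ⟨N, hNΩ, 0, ⟨z.1, hzN', rfl⟩, ?_⟩
      intro z' hz' hz'N
      have h1 := hfrac ⟨z', hmemN z' hz'N⟩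
      have h0 : GrTwist.val (0 : Γ(GrTwist.twist 𝒜 n, N)) ⟨_, hz'N⟩ = 0 := rfl
      rw [h0, map_zero]
      refine Eq.trans ?_ h1.symm
      rw [hα, Localization.mk_zero]
  choose N hN t hzN ht using hloc
  -- glue
  obtain ⟨s, hs⟩ := exists_section_of_cover (GrTwist.twist 𝒜 n) Ω N hN (fun y hy => by
      obtain ⟨y'', hy'', rfl⟩ := hcov y hy
      exact ⟨⟨y'', hy''⟩, hzN ⟨y'', hy''⟩⟩) t (by
    intro z₁ z₂
    apply twist_ext
    rintro ⟨y, hy⟩
    obtain ⟨y'', hy'', rfl⟩ := hcov y (hN z₁ hy.1)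
    apply locMap_injective ψ irr c hunit hsurj hker y''
    exact (ht z₁ y'' hy'' hy.1).trans (ht z₂ y'' hy'' hy.2).symm)
  refine ⟨s, ?_⟩
  refine Subtype.ext (funext fun z => Subtype.ext ?_)
  have h1 := ht z z.1 z.2 (hzN z)
  have h2 := congrArg (fun σ : Γ(GrTwist.twist 𝒜 n, N z) => GrTwist.val σ ⟨_, hzN z⟩) (hs z)
  exact (congrArg (GrTwist.locMap ψ irr z.1) h2).trans h1

include hc hunit hsurj hker hcov in
theorem comapApp_bijective (hinj : Function.Injective (ProjectiveSpectrum.comap ψ irr))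
    (hopen : IsOpenMap (ProjectiveSpectrum.comap ψ irr)) :
    Function.Bijective (GrTwist.comapApp ψ irr n Ω Ω' hsub) :=
  ⟨comapApp_injective ψ irr c hunit hsurj hker n Ω Ω' hsub hcov,
    comapApp_surjective ψ irr c hc hunit hsurj hker n Ω Ω' hsub hcov hinj hopen⟩

end Groth.Agent.Lib.Helper2.ProjLocSect
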