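import Mathlib
import Groth.Prelude.Def_RelProj3
import Groth.Agent.Lib.Helper2RelTildeGlue

/-!
# Morphisms out of a module glued over the charts of a relative Proj (helper2)

`existsUnique_hom_of_chart_maps`: let `L` be a module on a relative Proj `p : P ⟶ S` with chart maps
`lam U : L ⟶ (emb U)_* T_U`; a family of additive maps `d U W : T_U(emb_U⁻¹ W) → G(W)` (`W ≤ p⁻¹ U`), linear, natural in `W`
and compatible with passing to basic opens, glues to a unique morphism `L ⟶ G`.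
-/

set_option autoImplicit false
universe u
open CategoryTheory Limits AlgebraicGeometry TopologicalSpace Opposite

namespace Groth.Agent.Lib.Helper2.RelHomGlue

open RelProj Groth.Agent.Lib.Helper2.Push Groth.Agent.Lib.Helper2.RelTildeQCoh
  Groth.Agent.Lib.Helper2.RelTwistGen Groth.Agent.Lib.Helper2.RelTildeGlue

variable {P S : Scheme.{u}} {𝒮 : RelProj.QCGrAlg S} (p : P ⟶ S)
  (chart : ∀ (U : S.Opens) (hU : IsAffineOpen U), (((p ⁻¹ᵁ U : P.Opens) : Scheme.{u}) ≅ Proj (𝒮.deg U hU)))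
  (T : ∀ (U : S.Opens) (hU : IsAffineOpen U), (Proj (𝒮.deg U hU)).Modules)
  (L : P.Modules)
  (lam : ∀ (U : S.Opens) (hU : IsAffineOpen U),
    L ⟶ (Scheme.Modules.pushforward (RelProj.emb p chart U hU)).obj (T U hU))
  (C : ∀ (U : S.Opens) (hU : IsAffineOpen U) (r : Γ(S, U)) (W : P.Opens),
    Γ(T U hU, (RelProj.emb p chart U hU) ⁻¹ᵁ W) →
    Γ(T (S.basicOpen r) (hU.basicOpen r), (RelProj.emb p chart (S.basicOpen r) (hU.basicOpen r)) ⁻¹ᵁ W) → Prop)
  (hC : ∀ (U : S.Opens) (hU : IsAffineOpen U) (r : Γ(S, U)) (W : P.Opens) (s : Γ(L, W)),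
    W ≤ p ⁻¹ᵁ (S.basicOpen r) →
    C U hU r W ((lam U hU).app W s) ((lam (S.basicOpen r) (hU.basicOpen r)).app W s))
  (G : P.Modules)
  (d : ∀ (U : S.Opens) (hU : IsAffineOpen U) (W : P.Opens), W ≤ p ⁻¹ᵁ U →
    (Γ(T U hU, (RelProj.emb p chart U hU) ⁻¹ᵁ W) →+ Γ(G, W)))
  (d_lin : ∀ (U : S.Opens) (hU : IsAffineOpen U) (W : P.Opens) (hW : W ≤ p ⁻¹ᵁ U) (a : Γ(P, W))
    (t : Γ(T U hU, (RelProj.emb p chart U hU) ⁻¹ᵁ W)),
    d U hU W hW (((RelProj.emb p chart U hU).app W a) • t) = a • d U hU W hW t)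
  (d_nat : ∀ (U : S.Opens) (hU : IsAffineOpen U) (W W' : P.Opens) (hW : W ≤ p ⁻¹ᵁ U) (hle : W' ≤ W)
    (t : Γ(T U hU, (RelProj.emb p chart U hU) ⁻¹ᵁ W)),
    d U hU W' (hle.trans hW) ((T U hU).presheaf.map
      (homOfLE ((RelProj.emb p chart U hU).preimage_mono hle)).op t) =
      G.presheaf.map (homOfLE hle).op (d U hU W hW t))
  (d_compat : ∀ (U : S.Opens) (hU : IsAffineOpen U) (r : Γ(S, U)) (W : P.Opens)
    (hW : W ≤ p ⁻¹ᵁ (S.basicOpen r))
    (t : Γ(T U hU, (RelProj.emb p chart U hU) ⁻¹ᵁ W))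
    (t' : Γ(T (S.basicOpen r) (hU.basicOpen r), (RelProj.emb p chart (S.basicOpen r) (hU.basicOpen r)) ⁻¹ᵁ W)),
    C U hU r W t t' →
      d (S.basicOpen r) (hU.basicOpen r) W hW t' =
        d U hU W (hW.trans (p.preimage_mono (S.basicOpen_le r))) t)

/-- the candidate map on sections over `W ≤ p⁻¹ U`. -/
noncomputable def dl (U : S.Opens) (hU : IsAffineOpen U) (W : P.Opens) (hW : W ≤ p ⁻¹ᵁ U) (s : Γ(L, W)) : Γ(G, W) :=
  d U hU W hW ((lam U hU).app W s)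

theorem dl_congr {V V' : S.Opens} (h : V = V') (hV : IsAffineOpen V) (hV' : IsAffineOpen V') (W : P.Opens)
    (hW : W ≤ p ⁻¹ᵁ V) (hW' : W ≤ p ⁻¹ᵁ V') (s : Γ(L, W)) :
    dl p chart T L lam G d V hV W hW s = dl p chart T L lam G d V' hV' W hW' s := by
  subst h
  rfl

include d_nat in
theorem dl_res (U : S.Opens) (hU : IsAffineOpen U) (W W' : P.Opens) (hW : W ≤ p ⁻¹ᵁ U) (hle : W' ≤ W)
    (s : Γ(L, W)) :
    dl p chart T L lam G d U hU W' (hle.trans hW) (L.presheaf.map (homOfLE hle).op s) =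
      G.presheaf.map (homOfLE hle).op (dl p chart T L lam G d U hU W hW s) := by
  unfold dl
  rw [← d_nat U hU W W' hW hle, app_map' (lam U hU) (homOfLE hle) s]
  rfl

include hC d_compat in
theorem dl_basicOpen (U : S.Opens) (hU : IsAffineOpen U) (r : Γ(S, U)) (W : P.Opens)
    (hW : W ≤ p ⁻¹ᵁ (S.basicOpen r)) (s : Γ(L, W)) :
    dl p chart T L lam G d (S.basicOpen r) (hU.basicOpen r) W hW s =
      dl p chart T L lam G d U hU W (hW.trans (p.preimage_mono (S.basicOpen_le r))) s :=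
  d_compat U hU r W hW _ _ (hC U hU r W s hW)

include hC d_nat d_compat in
/-- chart independence. -/
theorem dl_indep (U₁ U₂ : S.Opens) (hU₁ : IsAffineOpen U₁) (hU₂ : IsAffineOpen U₂) (W : P.Opens)
    (hW₁ : W ≤ p ⁻¹ᵁ U₁) (hW₂ : W ≤ p ⁻¹ᵁ U₂) (s : Γ(L, W)) :
    dl p chart T L lam G d U₁ hU₁ W hW₁ s = dl p chart T L lam G d U₂ hU₂ W hW₂ s := by
  have key : ∀ x : W, ∃ (W' : P.Opens) (hle : W' ≤ W), x.1 ∈ W' ∧
      G.presheaf.map (homOfLE hle).op (dl p chart T L lam G d U₁ hU₁ W hW₁ s) =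
        G.presheaf.map (homOfLE hle).op (dl p chart T L lam G d U₂ hU₂ W hW₂ s) := by
    rintro ⟨x, hx⟩
    obtain ⟨r₁, r₂, hrr, hxr⟩ := exists_basicOpen_le_affine_inter hU₁ hU₂ (p x) ⟨hW₁ hx, hW₂ hx⟩
    have hle : W ⊓ p ⁻¹ᵁ (S.basicOpen r₁) ≤ W := inf_le_left
    have hW'₁ : W ⊓ p ⁻¹ᵁ (S.basicOpen r₁) ≤ p ⁻¹ᵁ (S.basicOpen r₁) := inf_le_right
    have hW'₂ : W ⊓ p ⁻¹ᵁ (S.basicOpen r₁) ≤ p ⁻¹ᵁ (S.basicOpen r₂) := hrr ▸ hW'₁
    refine ⟨W ⊓ p ⁻¹ᵁ (S.basicOpen r₁), hle, ⟨hx, hxr⟩, ?_⟩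
    rw [← dl_res p chart T L lam G d d_nat U₁ hU₁ W _ hW₁ hle s,
      ← dl_res p chart T L lam G d d_nat U₂ hU₂ W _ hW₂ hle s,
      ← dl_basicOpen p chart T L lam C hC G d d_compat U₁ hU₁ r₁ _ hW'₁,
      ← dl_basicOpen p chart T L lam C hC G d d_compat U₂ hU₂ r₂ _ hW'₂]
    exact dl_congr p chart T L lam G d hrr _ _ _ _ _ _
  choose W' hle hx heq using key
  refine TopCat.Sheaf.eq_of_locally_eq' ⟨G.presheaf, G.isSheaf⟩ W' W (fun x => homOfLE (hle x)) ?_ _ _ heq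
  intro x hx'
  exact Opens.mem_iSup.mpr ⟨⟨x, hx'⟩, hx ⟨x, hx'⟩⟩

/-- the map on a member of the basis. -/
noncomputable def dHom (i : Idx p) : Γ(L, Bas p i) ⟶ Γ(G, Bas p i) :=
  AddCommGrpCat.ofHom
    { toFun := dl p chart T L lam G d i.1.1 i.1.2 (Bas p i) i.2.2
      map_zero' := by
        unfold dl
        have h0 : (lam i.1.1 i.1.2).app (Bas p i) 0 = 0 := map_zero _
        exact (congrArg (d i.1.1 i.1.2 (Bas p i) i.2.2) h0).trans (map_zero _)
      map_add' := fun s t => by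
        unfold dl
        have h0 : (lam i.1.1 i.1.2).app (Bas p i) (s + t) =
            (lam i.1.1 i.1.2).app (Bas p i) s + (lam i.1.1 i.1.2).app (Bas p i) t := map_add _ _ _
        exact (congrArg (d i.1.1 i.1.2 (Bas p i) i.2.2) h0).trans (map_add _ _ _) }

include hC d_lin d_nat d_compat in
/-- chartwise given maps out of the chart modules, compatible along basic opens, glue uniquely. -/
theorem existsUnique_hom_of_chart_maps :
    ∃! ut : L ⟶ G, ∀ (U : S.Opens) (hU : IsAffineOpen U) (W : P.Opens) (hW : W ≤ p ⁻¹ᵁ U) (s : Γ(L, W)),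
      ut.app W s = d U hU W hW ((lam U hU).app W s) := by
  have nat : ∀ (i i' : Idx p) (h : Bas p i' ≤ Bas p i),
      L.presheaf.map (homOfLE h).op ≫ dHom p chart T L lam G d i' =
        dHom p chart T L lam G d i ≫ G.presheaf.map (homOfLE h).op := by
    intro i i' h
    ext s
    change dl p chart T L lam G d i'.1.1 i'.1.2 (Bas p i') i'.2.2 (L.presheaf.map (homOfLE h).op s) =
      G.presheaf.map (homOfLE h).op (dl p chart T L lam G d i.1.1 i.1.2 (Bas p i) i.2.2 s)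
    rw [← dl_res p chart T L lam G d d_nat i.1.1 i.1.2 (Bas p i) (Bas p i') i.2.2 h s]
    exact dl_indep p chart T L lam C hC G d d_nat d_compat _ _ _ _ _ _ _ _
  have lin : ∀ (i : Idx p) (a : Γ(P, Bas p i)) (s : Γ(L, Bas p i)),
      dHom p chart T L lam G d i (a • s) = a • dHom p chart T L lam G d i s := by
    intro i a s
    change dl p chart T L lam G d i.1.1 i.1.2 (Bas p i) i.2.2 (a • s) =
      a • dl p chart T L lam G d i.1.1 i.1.2 (Bas p i) i.2.2 s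
    unfold dl
    rw [Scheme.Modules.Hom.app_smul]
    exact d_lin i.1.1 i.1.2 (Bas p i) i.2.2 a _
  refine ⟨Groth.Agent.Helper13ModBasis.homOfBasis (Bas p) (isBasis_Bas p)
    (dHom p chart T L lam G d) nat lin, ?_, ?_⟩
  · intro U hU W hW s
    have h1 := Groth.Agent.Helper13ModBasis.homOfBasis_app (Bas p) (isBasis_Bas p)
      (dHom p chart T L lam G d) nat lin ⟨⟨U, hU⟩, ⟨W, hW⟩⟩
    exact congrArg (fun φ => φ s) h1
  · intro ut' hut'
    refine Groth.Agent.Helper13ModBasis.hom_ext_basis (Bas p) (isBasis_Bas p) _ _ (fun i => ?_)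
    rw [Groth.Agent.Helper13ModBasis.homOfBasis_app]
    ext s
    exact hut' i.1.1 i.1.2 (Bas p i) i.2.2 s

end Groth.Agent.Lib.Helper2.RelHomGlue
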