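import Mathlib
import Groth.Prelude.Def_RelProj3
import Groth.Agent.Lib.Helper2RelHomGlue
import Groth.Agent.Lib.Helper2RelTwistPullback
import Groth.Agent.Lib.Helper27RelProj4

/-!
# The comparison `O_{P_𝒜}(n) ⟶ h_* O_{P_ℬ}(n)` for the morphism `h` of relative Proj's induced by `φ : 𝒜 ⟶ ℬ` (helper2)
-/

set_option autoImplicit false
universe u
open CategoryTheory Limits AlgebraicGeometry TopologicalSpace Opposite
open scoped HomogeneousIdeal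

namespace Groth.Agent.Lib.Helper2.RelTwistComap

open RelProj Groth.Agent.Lib.Helper2.Push Groth.Agent.Lib.Helper2.RelTildeQCoh
  Groth.Agent.Lib.Helper2.RelTwistGen Groth.Agent.Lib.Helper2.RelTildeGlue Groth.Agent.Lib.Helper2.RelHomGlue
  Groth.Agent.Lib.Helper2.RelTwistPullback Groth.Agent.Lib.Helper2.RelTwistTriv Groth.Agent.Lib.Helper2GrModSect

variable {Y PA PB : Scheme.{u}} {𝒜 ℬ : RelProj.QCGrAlg Y}
  (φ : 𝒜.toQCAlg ⟶ ℬ.toQCAlg) (hφ : RelProj.IsGradedHom φ)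
  (hirr : ∀ (U : Y.Opens) (hU : IsAffineOpen U),
      (ℬ.deg U hU)₊ ≤ ((𝒜.deg U hU)₊).map (RelProj.gradedHomAt φ hφ U hU))
  (pA : PA ⟶ Y) (pB : PB ⟶ Y)
  (chartA : ∀ (U : Y.Opens) (hU : IsAffineOpen U), (((pA ⁻¹ᵁ U : PA.Opens) : Scheme.{u}) ≅ Proj (𝒜.deg U hU)))
  (chartB : ∀ (U : Y.Opens) (hU : IsAffineOpen U), (((pB ⁻¹ᵁ U : PB.Opens) : Scheme.{u}) ≅ Proj (ℬ.deg U hU)))
  (hA : RelProj.IsRelProj 𝒜 pA chartA) (hB : RelProj.IsRelProj ℬ pB chartB)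
  (h : PB ⟶ PA) (hh : RelProj.IsRelProjMap φ hφ hirr chartA chartB h)

include hA hB hh in
theorem preimage_le (U : Y.Opens) (W : PA.Opens) (hW : W ≤ pA ⁻¹ᵁ U) : h ⁻¹ᵁ W ≤ pB ⁻¹ᵁ U := by
  intro x hx
  have h1 : pA (h x) ∈ U := hW hx
  have h2 : h ≫ pA = pB := Groth.Agent.Lib.Helper27RelProj4.relProjMap_over φ hφ hirr hA hB hh
  show pB x ∈ U
  rw [← h2, Scheme.Hom.comp_apply]
  exact h1

include hh in
theorem sub_comap (U : Y.Opens) (hU : IsAffineOpen U) (W : PA.Opens) :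
    (RelProj.emb pB chartB U hU ⁻¹ᵁ (h ⁻¹ᵁ W) : Opens (ProjectiveSpectrum.top (ℬ.deg U hU))).1 ⊆
      ProjectiveSpectrum.comap (RelProj.gradedHomAt φ hφ U hU) (hirr U hU) ⁻¹'
        (RelProj.emb pA chartA U hU ⁻¹ᵁ W : Opens (ProjectiveSpectrum.top (𝒜.deg U hU))).1 := by
  intro y hy
  show RelProj.emb pA chartA U hU (ProjectiveSpectrum.comap (RelProj.gradedHomAt φ hφ U hU) (hirr U hU) y) ∈ W
  rw [← emb_comp_apply φ hφ hirr pA pB chartA chartB h hh]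
  exact hy

variable (n : ℤ)

/-- the chart comparison `a / f ↦ φ a / φ f` on sections. -/
noncomputable def kap (U : Y.Opens) (hU : IsAffineOpen U) (W : PA.Opens) :
    Γ(GrTwist.twist (𝒜.deg U hU) n, RelProj.emb pA chartA U hU ⁻¹ᵁ W) →+
      Γ(GrTwist.twist (ℬ.deg U hU) n, RelProj.emb pB chartB U hU ⁻¹ᵁ (h ⁻¹ᵁ W)) :=
  GrTwist.comapApp (RelProj.gradedHomAt φ hφ U hU) (hirr U hU) n
    (RelProj.emb pA chartA U hU ⁻¹ᵁ W) (RelProj.emb pB chartB U hU ⁻¹ᵁ (h ⁻¹ᵁ W))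
    (sub_comap φ hφ hirr pA pB chartA chartB h hh U hU W)

theorem val_kap (U : Y.Opens) (hU : IsAffineOpen U) (W : PA.Opens)
    (t : Γ(GrTwist.twist (𝒜.deg U hU) n, RelProj.emb pA chartA U hU ⁻¹ᵁ W))
    (y : ProjectiveSpectrum (ℬ.deg U hU)) (hy : y ∈ RelProj.emb pB chartB U hU ⁻¹ᵁ (h ⁻¹ᵁ W)) :
    GrTwist.val (kap φ hφ hirr pA pB chartA chartB h hh n U hU W t) ⟨y, hy⟩ =
      GrTwist.locMap (RelProj.gradedHomAt φ hφ U hU) (hirr U hU) y
        (GrTwist.val t ⟨_, sub_comap φ hφ hirr pA pB chartA chartB h hh U hU W hy⟩) := rfl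

section alg

variable {A σ : Type u} [CommRing A] [SetLike σ A] [AddSubgroupClass σ A] (𝒜' : ℕ → σ) [GradedRing 𝒜']

theorem val_smul_twist {m : ℤ} (W : (Proj 𝒜').Opens) (c : Γ(Proj 𝒜', W)) (s : Γ(GrTwist.twist 𝒜' m, W)) (y : W) :
    GrTwist.val (c • s) y = (funVal 𝒜' W c y.1 y.2).val * GrTwist.val s y := rfl

/-- the values of a section at two equal points are the same fraction. -/
theorem exists_mk_eq {m : ℤ} (O : (Proj 𝒜').Opens) (t : Γ(GrTwist.twist 𝒜' m, O))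
    (y₁ y₂ : ProjectiveSpectrum 𝒜') (h : y₁ = y₂) (hy₁ : y₁ ∈ O) (hy₂ : y₂ ∈ O) :
    ∃ (a f : A) (hf₁ : f ∈ y₁.asHomogeneousIdeal.toIdeal.primeCompl)
      (hf₂ : f ∈ y₂.asHomogeneousIdeal.toIdeal.primeCompl),
      GrTwist.val t ⟨y₁, hy₁⟩ = Localization.mk a ⟨f, hf₁⟩ ∧
        GrTwist.val t ⟨y₂, hy₂⟩ = Localization.mk a ⟨f, hf₂⟩ := by
  subst h
  have key : ∀ v : GrTwist.Loc 𝒜' y₁, ∃ (a f : A) (hf₁ : f ∈ y₁.asHomogeneousIdeal.toIdeal.primeCompl),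
      v = Localization.mk a ⟨f, hf₁⟩ := by
    intro v
    induction v using Localization.induction_on with
    | H x => exact ⟨x.1, x.2.1, x.2.2, rfl⟩
  obtain ⟨a, f, hf₁, e⟩ := key (GrTwist.val t ⟨y₁, hy₁⟩)
  exact ⟨a, f, hf₁, hf₁, e, e⟩

end alg

variable (LA : PA.Modules)
  (lamA : ∀ (U : Y.Opens) (hU : IsAffineOpen U),
    LA ⟶ (Scheme.Modules.pushforward (RelProj.emb pA chartA U hU)).obj (GrTwist.twist (𝒜.deg U hU) n))
  (hLA : RelProj.IsRelTwist 𝒜 pA chartA n LA lamA) (LB : PB.Modules)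
  (lamB : ∀ (U : Y.Opens) (hU : IsAffineOpen U),
    LB ⟶ (Scheme.Modules.pushforward (RelProj.emb pB chartB U hU)).obj (GrTwist.twist (ℬ.deg U hU) n))
  (hLB : RelProj.IsRelTwist ℬ pB chartB n LB lamB)

/-- `lamB` over `h⁻¹ W` as an additive equivalence. -/
noncomputable def lamBEquiv (U : Y.Opens) (hU : IsAffineOpen U) (W : PA.Opens) (hW : W ≤ pA ⁻¹ᵁ U) :
    Γ(LB, h ⁻¹ᵁ W) ≃+ Γ(GrTwist.twist (ℬ.deg U hU) n, RelProj.emb pB chartB U hU ⁻¹ᵁ (h ⁻¹ᵁ W)) :=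
  AddEquiv.ofBijective ((lamB U hU).app (h ⁻¹ᵁ W)).hom
    (hLB.bijective U hU _ (preimage_le φ hφ hirr pA pB chartA chartB hA hB h hh U W hW))

theorem lamBEquiv_apply (U : Y.Opens) (hU : IsAffineOpen U) (W : PA.Opens) (hW : W ≤ pA ⁻¹ᵁ U)
    (g : Γ(LB, h ⁻¹ᵁ W)) :
    lamBEquiv φ hφ hirr pA pB chartA chartB hA hB h hh n LB lamB hLB U hU W hW g =
      (lamB U hU).app (h ⁻¹ᵁ W) g := rfl

/-- the chart map `T_U(emb⁻¹ W) → (h_* LB)(W)`. -/
noncomputable def dmap (U : Y.Opens) (hU : IsAffineOpen U) (W : PA.Opens) (hW : W ≤ pA ⁻¹ᵁ U) :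
    Γ(GrTwist.twist (𝒜.deg U hU) n, RelProj.emb pA chartA U hU ⁻¹ᵁ W) →+
      Γ((Scheme.Modules.pushforward h).obj LB, W) :=
  ((lamBEquiv φ hφ hirr pA pB chartA chartB hA hB h hh n LB lamB hLB U hU W hW).symm.toAddMonoidHom).comp
    (kap φ hφ hirr pA pB chartA chartB h hh n U hU W)

theorem lamB_dmap (U : Y.Opens) (hU : IsAffineOpen U) (W : PA.Opens) (hW : W ≤ pA ⁻¹ᵁ U)
    (t : Γ(GrTwist.twist (𝒜.deg U hU) n, RelProj.emb pA chartA U hU ⁻¹ᵁ W)) :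
    (lamB U hU).app (h ⁻¹ᵁ W)
      (show Γ(LB, h ⁻¹ᵁ W) from dmap φ hφ hirr pA pB chartA chartB hA hB h hh n LB lamB hLB U hU W hW t) =
      kap φ hφ hirr pA pB chartA chartB h hh n U hU W t :=
  (lamBEquiv φ hφ hirr pA pB chartA chartB hA hB h hh n LB lamB hLB U hU W hW).apply_symm_apply _

theorem eq_dmap (U : Y.Opens) (hU : IsAffineOpen U) (W : PA.Opens) (hW : W ≤ pA ⁻¹ᵁ U)
    (t : Γ(GrTwist.twist (𝒜.deg U hU) n, RelProj.emb pA chartA U hU ⁻¹ᵁ W)) (g : Γ(LB, h ⁻¹ᵁ W))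
    (hg : (lamB U hU).app (h ⁻¹ᵁ W) g = kap φ hφ hirr pA pB chartA chartB h hh n U hU W t) :
    g = dmap φ hφ hirr pA pB chartA chartB hA hB h hh n LB lamB hLB U hU W hW t := by
  apply (lamBEquiv φ hφ hirr pA pB chartA chartB hA hB h hh n LB lamB hLB U hU W hW).injective
  rw [lamBEquiv_apply, hg]
  exact (lamB_dmap φ hφ hirr pA pB chartA chartB hA hB h hh n LB lamB hLB U hU W hW t).symm

theorem comap_comap_eq {U D : Y.Opens} (hU : IsAffineOpen U) (hD : IsAffineOpen D) (i : D ≤ U)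
    (irrA : (𝒜.deg D hD)₊ ≤ ((𝒜.deg U hU)₊).map (𝒜.res hU hD i))
    (irrB : (ℬ.deg D hD)₊ ≤ ((ℬ.deg U hU)₊).map (ℬ.res hU hD i))
    (y' : ProjectiveSpectrum (ℬ.deg D hD)) :
    ProjectiveSpectrum.comap (RelProj.gradedHomAt φ hφ U hU) (hirr U hU)
        (ProjectiveSpectrum.comap (ℬ.res hU hD i) irrB y') =
      ProjectiveSpectrum.comap (𝒜.res hU hD i) irrA
        (ProjectiveSpectrum.comap (RelProj.gradedHomAt φ hφ D hD) (hirr D hD) y') := by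
  apply ProjectiveSpectrum.ext
  apply HomogeneousIdeal.toIdeal_injective
  ext x
  change ℬ.res hU hD i (RelProj.gradedHomAt φ hφ U hU x) ∈ y'.asHomogeneousIdeal ↔
    RelProj.gradedHomAt φ hφ D hD (𝒜.res hU hD i x) ∈ y'.asHomogeneousIdeal
  rw [gradedHomAt_res]

/-- linearity of the chart maps. -/
theorem dmap_lin (U : Y.Opens) (hU : IsAffineOpen U) (W : PA.Opens) (hW : W ≤ pA ⁻¹ᵁ U) (a : Γ(PA, W))
    (t : Γ(GrTwist.twist (𝒜.deg U hU) n, RelProj.emb pA chartA U hU ⁻¹ᵁ W)) :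
    dmap φ hφ hirr pA pB chartA chartB hA hB h hh n LB lamB hLB U hU W hW
        (((RelProj.emb pA chartA U hU).app W a) • t) =
      a • dmap φ hφ hirr pA pB chartA chartB hA hB h hh n LB lamB hLB U hU W hW t := by
  symm
  apply eq_dmap
  rw [pushforward_smul, Scheme.Modules.Hom.app_smul, pushforward_smul]
  apply twist_ext
  rintro ⟨y, hy⟩
  rw [val_smul_twist, lamB_dmap, val_kap, val_kap, val_smul_twist, map_mul]
  congr 1
  have := funVal_pullback (RelProj.gradedHomAt φ hφ U hU) (hirr U hU) h (RelProj.emb pA chartA U hU)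
    (RelProj.emb pB chartB U hU) (emb_comp φ hφ hirr pA pB chartA chartB h hh U hU) W a (h ⁻¹ᵁ W) le_rfl y hy
    (sub_comap φ hφ hirr pA pB chartA chartB h hh U hU W hy)
  rw [← Scheme.Hom.app_eq_appLE] at this
  exact this

/-- naturality of the chart maps in `W`. -/
theorem dmap_nat (U : Y.Opens) (hU : IsAffineOpen U) (W W' : PA.Opens) (hW : W ≤ pA ⁻¹ᵁ U) (hle : W' ≤ W)
    (t : Γ(GrTwist.twist (𝒜.deg U hU) n, RelProj.emb pA chartA U hU ⁻¹ᵁ W)) :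
    dmap φ hφ hirr pA pB chartA chartB hA hB h hh n LB lamB hLB U hU W' (hle.trans hW)
        ((GrTwist.twist (𝒜.deg U hU) n).presheaf.map
          (homOfLE ((RelProj.emb pA chartA U hU).preimage_mono hle)).op t) =
      ((Scheme.Modules.pushforward h).obj LB).presheaf.map (homOfLE hle).op
        (dmap φ hφ hirr pA pB chartA chartB hA hB h hh n LB lamB hLB U hU W hW t) := by
  symm
  apply eq_dmap
  have h1 := app_map' (lamB U hU) (homOfLE (h.preimage_mono hle))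
    (show Γ(LB, h ⁻¹ᵁ W) from dmap φ hφ hirr pA pB chartA chartB hA hB h hh n LB lamB hLB U hU W hW t)
  refine h1.trans ?_
  rw [lamB_dmap]
  rfl

/-- compatibility of the chart maps with passing to a basic open. -/
theorem dmap_compat (U : Y.Opens) (hU : IsAffineOpen U) (r : Γ(Y, U)) (W : PA.Opens)
    (hW : W ≤ pA ⁻¹ᵁ (Y.basicOpen r))
    (t : Γ(GrTwist.twist (𝒜.deg U hU) n, RelProj.emb pA chartA U hU ⁻¹ᵁ W))
    (t' : Γ(GrTwist.twist (𝒜.deg (Y.basicOpen r) (hU.basicOpen r)) n,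
      RelProj.emb pA chartA (Y.basicOpen r) (hU.basicOpen r) ⁻¹ᵁ W))
    (hC : ∀ (y : ProjectiveSpectrum (𝒜.deg (Y.basicOpen r) (hU.basicOpen r)))
      (hy : (RelProj.emb pA chartA (Y.basicOpen r) (hU.basicOpen r)).base y ∈ W)
      (hy' : (RelProj.emb pA chartA U hU).base (ProjectiveSpectrum.comap
        (𝒜.res hU (hU.basicOpen r) (Y.basicOpen_le r)) (𝒜.irrelevant_le_map U hU r) y) ∈ W),
      GrTwist.val (V := RelProj.emb pA chartA (Y.basicOpen r) (hU.basicOpen r) ⁻¹ᵁ W) t' ⟨y, hy⟩ =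
        GrTwist.locMap (𝒜.res hU (hU.basicOpen r) (Y.basicOpen_le r)) (𝒜.irrelevant_le_map U hU r) y
          (GrTwist.val (V := RelProj.emb pA chartA U hU ⁻¹ᵁ W) t ⟨_, hy'⟩)) :
    dmap φ hφ hirr pA pB chartA chartB hA hB h hh n LB lamB hLB (Y.basicOpen r) (hU.basicOpen r) W hW t' =
      dmap φ hφ hirr pA pB chartA chartB hA hB h hh n LB lamB hLB U hU W
        (hW.trans (pA.preimage_mono (Y.basicOpen_le r))) t := by
  symm
  apply eq_dmap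
  apply twist_ext
  rintro ⟨y', hy'⟩
  have hyB : (RelProj.emb pB chartB U hU).base (ProjectiveSpectrum.comap
      (ℬ.res hU (hU.basicOpen r) (Y.basicOpen_le r)) (ℬ.irrelevant_le_map U hU r) y') ∈ h ⁻¹ᵁ W := by
    have e := emb_comap pB chartB hB U hU r y'
    exact e ▸ hy'
  have h1 := hLB.compat U hU r (h ⁻¹ᵁ W)
    (show Γ(LB, h ⁻¹ᵁ W) from dmap φ hφ hirr pA pB chartA chartB hA hB h hh n LB lamB hLB U hU W
      (hW.trans (pA.preimage_mono (Y.basicOpen_le r))) t) y' hy' hyB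
  refine h1.trans ?_
  rw [lamB_dmap, val_kap, val_kap]
  have hyA := sub_comap φ hφ hirr pA pB chartA chartB h hh (Y.basicOpen r) (hU.basicOpen r) W hy'
  have hyA' : (RelProj.emb pA chartA U hU).base (ProjectiveSpectrum.comap
      (𝒜.res hU (hU.basicOpen r) (Y.basicOpen_le r)) (𝒜.irrelevant_le_map U hU r)
      (ProjectiveSpectrum.comap (RelProj.gradedHomAt φ hφ (Y.basicOpen r) (hU.basicOpen r))
        (hirr _ (hU.basicOpen r)) y')) ∈ W := by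
    have e := emb_comap pA chartA hA U hU r (ProjectiveSpectrum.comap
      (RelProj.gradedHomAt φ hφ (Y.basicOpen r) (hU.basicOpen r)) (hirr _ (hU.basicOpen r)) y')
    exact e ▸ hyA
  rw [hC _ hyA hyA']
  obtain ⟨a, f, hf₁, hf₂, e₁, e₂⟩ := exists_mk_eq (𝒜.deg U hU) (RelProj.emb pA chartA U hU ⁻¹ᵁ W) t _ _
    (comap_comap_eq φ hφ hirr hU (hU.basicOpen r) (Y.basicOpen_le r) (𝒜.irrelevant_le_map U hU r)
      (ℬ.irrelevant_le_map U hU r) y')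
    (sub_comap φ hφ hirr pA pB chartA chartB h hh U hU W hyB) hyA'
  rw [e₁, e₂, GrTwist.locMap_mk, GrTwist.locMap_mk, GrTwist.locMap_mk, GrTwist.locMap_mk]
  exact mk_congr _ (gradedHomAt_res φ hφ hU (hU.basicOpen r) (Y.basicOpen_le r) a).symm
    (gradedHomAt_res φ hφ hU (hU.basicOpen r) (Y.basicOpen_le r) f).symm _ _

include hLA hA hB hh hLB in
/-- **the comparison map of twisting sheaves** along the morphism of relative Proj's induced by a graded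
homomorphism: existence and uniqueness. -/
theorem existsUnique_comap :
    ∃! θ : LA ⟶ (Scheme.Modules.pushforward h).obj LB,
      ∀ (U : Y.Opens) (hU : IsAffineOpen U) (W : PA.Opens) (s : Γ(LA, W))
        (y : ProjectiveSpectrum (ℬ.deg U hU))
        (hy : (RelProj.emb pB chartB U hU).base y ∈ h ⁻¹ᵁ W)
        (hy' : (RelProj.emb pA chartA U hU).base
          (ProjectiveSpectrum.comap (RelProj.gradedHomAt φ hφ U hU) (hirr U hU) y) ∈ W),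
        GrTwist.val (V := RelProj.emb pB chartB U hU ⁻¹ᵁ (h ⁻¹ᵁ W)) ((lamB U hU).app (h ⁻¹ᵁ W) (θ.app W s)) ⟨y, hy⟩ =
          GrTwist.locMap (RelProj.gradedHomAt φ hφ U hU) (hirr U hU) y
            (GrTwist.val (V := RelProj.emb pA chartA U hU ⁻¹ᵁ W) ((lamA U hU).app W s) ⟨_, hy'⟩) := by
  obtain ⟨ut, hut, huniq⟩ := existsUnique_hom_of_chart_maps pA chartA
    (fun U hU => GrTwist.twist (𝒜.deg U hU) n) LA lamA
    (fun U hU r W t t' => ∀ (y : ProjectiveSpectrum (𝒜.deg (Y.basicOpen r) (hU.basicOpen r)))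
      (hy : (RelProj.emb pA chartA (Y.basicOpen r) (hU.basicOpen r)).base y ∈ W)
      (hy' : (RelProj.emb pA chartA U hU).base (ProjectiveSpectrum.comap
        (𝒜.res hU (hU.basicOpen r) (Y.basicOpen_le r)) (𝒜.irrelevant_le_map U hU r) y) ∈ W),
      GrTwist.val (V := RelProj.emb pA chartA (Y.basicOpen r) (hU.basicOpen r) ⁻¹ᵁ W) t' ⟨y, hy⟩ =
        GrTwist.locMap (𝒜.res hU (hU.basicOpen r) (Y.basicOpen_le r)) (𝒜.irrelevant_le_map U hU r) y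
          (GrTwist.val (V := RelProj.emb pA chartA U hU ⁻¹ᵁ W) t ⟨_, hy'⟩))
    (fun U hU r W s _ => hLA.compat U hU r W s)
    ((Scheme.Modules.pushforward h).obj LB)
    (dmap φ hφ hirr pA pB chartA chartB hA hB h hh n LB lamB hLB)
    (dmap_lin φ hφ hirr pA pB chartA chartB hA hB h hh n LB lamB hLB)
    (dmap_nat φ hφ hirr pA pB chartA chartB hA hB h hh n LB lamB hLB)
    (dmap_compat φ hφ hirr pA pB chartA chartB hA hB h hh n LB lamB hLB)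
  refine ⟨ut, ?_, ?_⟩
  · intro U hU W s y hy hy'
    have hle : W ⊓ pA ⁻¹ᵁ U ≤ W := inf_le_left
    have hW' : W ⊓ pA ⁻¹ᵁ U ≤ pA ⁻¹ᵁ U := inf_le_right
    have hyW' : (RelProj.emb pB chartB U hU).base y ∈ h ⁻¹ᵁ (W ⊓ pA ⁻¹ᵁ U) := by
      refine ⟨hy, ?_⟩
      change h ((RelProj.emb pB chartB U hU) y) ∈ pA ⁻¹ᵁ U
      rw [emb_comp_apply φ hφ hirr pA pB chartA chartB h hh]
      exact opensRange_emb_le pA chartA U hU ⟨_, rfl⟩
    -- restrict to `W ⊓ pA⁻¹ U`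
    have e1 : ut.app (W ⊓ pA ⁻¹ᵁ U) (LA.presheaf.map (homOfLE hle).op s) =
        ((Scheme.Modules.pushforward h).obj LB).presheaf.map (homOfLE hle).op (ut.app W s) :=
      app_map' ut (homOfLE hle) s
    have e2 := app_map' (lamB U hU) (homOfLE (h.preimage_mono hle)) (show Γ(LB, h ⁻¹ᵁ W) from ut.app W s)
    have e3 : GrTwist.val (V := RelProj.emb pB chartB U hU ⁻¹ᵁ (h ⁻¹ᵁ W))
        ((lamB U hU).app (h ⁻¹ᵁ W) (ut.app W s)) ⟨y, hy⟩ =
        GrTwist.val (V := RelProj.emb pB chartB U hU ⁻¹ᵁ (h ⁻¹ᵁ (W ⊓ pA ⁻¹ᵁ U)))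
          ((lamB U hU).app (h ⁻¹ᵁ (W ⊓ pA ⁻¹ᵁ U))
            (show Γ(LB, h ⁻¹ᵁ (W ⊓ pA ⁻¹ᵁ U)) from
              ut.app (W ⊓ pA ⁻¹ᵁ U) (LA.presheaf.map (homOfLE hle).op s))) ⟨y, hyW'⟩ := by
      rw [e1]
      exact (congrArg (fun τ => GrTwist.val
        (V := RelProj.emb pB chartB U hU ⁻¹ᵁ (h ⁻¹ᵁ (W ⊓ pA ⁻¹ᵁ U))) τ ⟨y, hyW'⟩) e2).symm
    rw [e3, hut U hU _ hW', lamB_dmap, val_kap]
    congr 1
    have e4 := app_map' (lamA U hU) (homOfLE hle) s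
    exact congrArg (fun τ => GrTwist.val (V := RelProj.emb pA chartA U hU ⁻¹ᵁ (W ⊓ pA ⁻¹ᵁ U)) τ
      ⟨_, sub_comap φ hφ hirr pA pB chartA chartB h hh U hU _ hyW'⟩) e4
  · intro θ' hθ'
    apply huniq
    intro U hU W hW s
    apply eq_dmap
    apply twist_ext
    rintro ⟨y, hy⟩
    rw [val_kap]
    exact hθ' U hU W s y hy _

end Groth.Agent.Lib.Helper2.RelTwistComap
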