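import Mathlib
import Groth.Prelude.Def_RelProj3
import Groth.Agent.Lib.Helper2RelObjGlue
import Groth.Agent.Lib.Helper2ProjLocSect
import Groth.Agent.Lib.Helper2RelTwistComap

/-!
# Existence of the twisting sheaves `O_P(n)` of a relative Proj (helper2)

The chart modules `(emb_U)_* O_{Proj 𝒮(U)}(n)` with the comparison maps along basic opens satisfy the hypotheses
of the gluing theorem `RelObjGlue.exists_glue`.
-/

set_option autoImplicit false
universe u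
open CategoryTheory Limits AlgebraicGeometry TopologicalSpace Opposite
open scoped HomogeneousIdeal

namespace Groth.Agent.Lib.Helper2.RelTwistExist

open RelProj Groth.Agent.Lib.Helper6 Groth.Agent.Lib.Helper2.RelObjGlue Groth.Agent.Lib.Helper2.RelTildeQCoh
  Groth.Agent.Lib.Helper2.RelTildeGlue Groth.Agent.Lib.Helper2.RelTwistGen Groth.Agent.Lib.Helper2.RelTwistTriv
  Groth.Agent.Lib.Helper2.RelTwistPullback Groth.Agent.Lib.Helper2.RelTwistComap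

variable {S P : Scheme.{u}} {𝒮 : RelProj.QCGrAlg S} (p : P ⟶ S)
  (chart : ∀ (U : S.Opens) (hU : IsAffineOpen U), (((p ⁻¹ᵁ U : P.Opens) : Scheme.{u}) ≅ Proj (𝒮.deg U hU)))

/-- the localisation facts for a basic pair. -/
theorem loc_facts {V D : S.Opens} (hV : IsAffineOpen V) (hD : IsAffineOpen D) (hb : IsBasic V D) :
    ∃ c ∈ 𝒮.deg V hV 0, IsUnit (𝒮.res hV hD hb.le c) ∧
      (∀ b : 𝒮.presheaf.obj (op D), ∃ (a : 𝒮.presheaf.obj (op V)) (k : ℕ),
        b * 𝒮.res hV hD hb.le c ^ k = 𝒮.res hV hD hb.le a) ∧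
      (∀ a : 𝒮.presheaf.obj (op V), 𝒮.res hV hD hb.le a = 0 → ∃ k : ℕ, c ^ k * a = 0) := by
  obtain ⟨r, rfl⟩ := hb
  let ψ := 𝒮.res hV hD (S.basicOpen_le r)
  let _inst := (𝒮.presheaf.map (homOfLE (S.basicOpen_le r)).op).hom.toAlgebra
  let c := (𝒮.str.app (op V)).hom r
  have hloc : IsLocalization.Away c (𝒮.presheaf.obj (op (S.basicOpen r))) := 𝒮.isQC V hV r
  refine ⟨c, 𝒮.str_mem V hV r, ?_, ?_, ?_⟩
  · exact IsLocalization.map_units (M := Submonoid.powers c) (𝒮.presheaf.obj (op (S.basicOpen r))) ⟨c, 1, pow_one _⟩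
  · intro b
    obtain ⟨⟨x, s, hs⟩, hxs⟩ := IsLocalization.surj (Submonoid.powers c) b
    obtain ⟨k, rfl⟩ := (Submonoid.mem_powers_iff _ _).mp hs
    change b * ψ (c ^ k) = ψ x at hxs
    rw [map_pow] at hxs
    exact ⟨x, k, hxs⟩
  · intro a ha
    have h1 : algebraMap (𝒮.presheaf.obj (op V)) (𝒮.presheaf.obj (op (S.basicOpen r))) a = 0 := ha
    rw [IsLocalization.map_eq_zero_iff (Submonoid.powers c)] at h1
    obtain ⟨⟨s, hs⟩, hm⟩ := h1
    obtain ⟨k, rfl⟩ := (Submonoid.mem_powers_iff _ _).mp hs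
    exact ⟨k, hm⟩

theorem irr_of_isBasic {V D : S.Opens} (hV : IsAffineOpen V) (hD : IsAffineOpen D) (hb : IsBasic V D) :
    (𝒮.deg D hD)₊ ≤ ((𝒮.deg V hV)₊).map (𝒮.res hV hD hb.le) := by
  obtain ⟨r, rfl⟩ := hb
  exact 𝒮.irrelevant_le_map V hV r

variable {p chart}

theorem geo_of_isBasic (hP : RelProj.IsRelProj 𝒮 p chart) {V D : S.Opens} (hV : IsAffineOpen V)
    (hD : IsAffineOpen D) (hb : IsBasic V D) :
    Proj.map (𝒮.res hV hD hb.le) (irr_of_isBasic hV hD hb) ≫ RelProj.emb p chart V hV =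
      RelProj.emb p chart D hD := by
  obtain ⟨r, rfl⟩ := hb
  exact RelProj.map_res_emb hP V hV r

variable (p chart)

section tau

variable (n : ℤ)

/-- the comparison of chart modules along `D ≤ V`. -/
noncomputable def tauOf {V D : S.Opens} (hV : IsAffineOpen V) (hD : IsAffineOpen D) (hle : D ≤ V)
    (irr : (𝒮.deg D hD)₊ ≤ ((𝒮.deg V hV)₊).map (𝒮.res hV hD hle))
    (geo : Proj.map (𝒮.res hV hD hle) irr ≫ RelProj.emb p chart V hV = RelProj.emb p chart D hD) :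
    (Scheme.Modules.pushforward (RelProj.emb p chart V hV)).obj (GrTwist.twist (𝒮.deg V hV) n) ⟶
      (Scheme.Modules.pushforward (RelProj.emb p chart D hD)).obj (GrTwist.twist (𝒮.deg D hD) n) :=
  (Scheme.Modules.pushforward (RelProj.emb p chart V hV)).map (GrTwist.comap (𝒮.res hV hD hle) irr n) ≫
    (Scheme.Modules.pushforwardComp (Proj.map (𝒮.res hV hD hle) irr) (RelProj.emb p chart V hV)).hom.app _ ≫
    (Scheme.Modules.pushforwardCongr geo).hom.app _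

theorem val_tauOf {V D : S.Opens} (hV : IsAffineOpen V) (hD : IsAffineOpen D) (hle : D ≤ V)
    (irr : (𝒮.deg D hD)₊ ≤ ((𝒮.deg V hV)₊).map (𝒮.res hV hD hle))
    (geo : Proj.map (𝒮.res hV hD hle) irr ≫ RelProj.emb p chart V hV = RelProj.emb p chart D hD)
    (W : P.Opens) (t : Γ(GrTwist.twist (𝒮.deg V hV) n, RelProj.emb p chart V hV ⁻¹ᵁ W))
    (y : ProjectiveSpectrum (𝒮.deg D hD)) (hy : (RelProj.emb p chart D hD).base y ∈ W)
    (hy' : (RelProj.emb p chart V hV).base (ProjectiveSpectrum.comap (𝒮.res hV hD hle) irr y) ∈ W) :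
    GrTwist.val (V := RelProj.emb p chart D hD ⁻¹ᵁ W) ((tauOf p chart n hV hD hle irr geo).app W t) ⟨y, hy⟩ =
      GrTwist.locMap (𝒮.res hV hD hle) irr y (GrTwist.val (V := RelProj.emb p chart V hV ⁻¹ᵁ W) t ⟨_, hy'⟩) :=
  rfl

theorem emb_comap_of_geo {V D : S.Opens} (hV : IsAffineOpen V) (hD : IsAffineOpen D) (hle : D ≤ V)
    (irr : (𝒮.deg D hD)₊ ≤ ((𝒮.deg V hV)₊).map (𝒮.res hV hD hle))
    (geo : Proj.map (𝒮.res hV hD hle) irr ≫ RelProj.emb p chart V hV = RelProj.emb p chart D hD)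
    (y : ProjectiveSpectrum (𝒮.deg D hD)) :
    (RelProj.emb p chart V hV).base (ProjectiveSpectrum.comap (𝒮.res hV hD hle) irr y) =
      (RelProj.emb p chart D hD).base y := by
  rw [← geo, Scheme.Hom.comp_apply]
  rfl

theorem res_res_apply {V D D₃ : S.Opens} (hV : IsAffineOpen V) (hD : IsAffineOpen D) (hD₃ : IsAffineOpen D₃)
    (hle₁ : D ≤ V) (hle₂ : D₃ ≤ D) (x : 𝒮.presheaf.obj (op V)) :
    𝒮.res hD hD₃ hle₂ (𝒮.res hV hD hle₁ x) = 𝒮.res hV hD₃ (hle₂.trans hle₁) x := by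
  rw [QCGrAlg.res_apply, QCGrAlg.res_apply, QCGrAlg.res_apply, ← CommRingCat.comp_apply, ← Functor.map_comp]
  rfl

theorem comap_comap {V D D₃ : S.Opens} (hV : IsAffineOpen V) (hD : IsAffineOpen D) (hD₃ : IsAffineOpen D₃)
    (hle₁ : D ≤ V) (hle₂ : D₃ ≤ D)
    (irr₁ : (𝒮.deg D hD)₊ ≤ ((𝒮.deg V hV)₊).map (𝒮.res hV hD hle₁))
    (irr₂ : (𝒮.deg D₃ hD₃)₊ ≤ ((𝒮.deg D hD)₊).map (𝒮.res hD hD₃ hle₂))
    (irr₃ : (𝒮.deg D₃ hD₃)₊ ≤ ((𝒮.deg V hV)₊).map (𝒮.res hV hD₃ (hle₂.trans hle₁)))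
    (y : ProjectiveSpectrum (𝒮.deg D₃ hD₃)) :
    ProjectiveSpectrum.comap (𝒮.res hV hD hle₁) irr₁ (ProjectiveSpectrum.comap (𝒮.res hD hD₃ hle₂) irr₂ y) =
      ProjectiveSpectrum.comap (𝒮.res hV hD₃ (hle₂.trans hle₁)) irr₃ y := by
  apply ProjectiveSpectrum.ext
  apply HomogeneousIdeal.toIdeal_injective
  ext x
  change 𝒮.res hD hD₃ hle₂ (𝒮.res hV hD hle₁ x) ∈ y.asHomogeneousIdeal ↔
    𝒮.res hV hD₃ (hle₂.trans hle₁) x ∈ y.asHomogeneousIdeal
  rw [res_res_apply]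

theorem tauOf_comp {V D D₃ : S.Opens} (hV : IsAffineOpen V) (hD : IsAffineOpen D) (hD₃ : IsAffineOpen D₃)
    (hle₁ : D ≤ V) (hle₂ : D₃ ≤ D)
    (irr₁ : (𝒮.deg D hD)₊ ≤ ((𝒮.deg V hV)₊).map (𝒮.res hV hD hle₁))
    (geo₁ : Proj.map (𝒮.res hV hD hle₁) irr₁ ≫ RelProj.emb p chart V hV = RelProj.emb p chart D hD)
    (irr₂ : (𝒮.deg D₃ hD₃)₊ ≤ ((𝒮.deg D hD)₊).map (𝒮.res hD hD₃ hle₂))
    (geo₂ : Proj.map (𝒮.res hD hD₃ hle₂) irr₂ ≫ RelProj.emb p chart D hD = RelProj.emb p chart D₃ hD₃)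
    (irr₃ : (𝒮.deg D₃ hD₃)₊ ≤ ((𝒮.deg V hV)₊).map (𝒮.res hV hD₃ (hle₂.trans hle₁)))
    (geo₃ : Proj.map (𝒮.res hV hD₃ (hle₂.trans hle₁)) irr₃ ≫ RelProj.emb p chart V hV =
      RelProj.emb p chart D₃ hD₃) :
    tauOf p chart n hV hD hle₁ irr₁ geo₁ ≫ tauOf p chart n hD hD₃ hle₂ irr₂ geo₂ =
      tauOf p chart n hV hD₃ (hle₂.trans hle₁) irr₃ geo₃ := by
  apply Scheme.Modules.hom_ext
  intro W
  ext t
  apply twist_ext
  rintro ⟨y, hy⟩
  have hy₂ : (RelProj.emb p chart D hD).base (ProjectiveSpectrum.comap (𝒮.res hD hD₃ hle₂) irr₂ y) ∈ W := by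
    rw [emb_comap_of_geo p chart hD hD₃ hle₂ irr₂ geo₂]; exact hy
  have hy₁ : (RelProj.emb p chart V hV).base (ProjectiveSpectrum.comap (𝒮.res hV hD hle₁) irr₁
      (ProjectiveSpectrum.comap (𝒮.res hD hD₃ hle₂) irr₂ y)) ∈ W := by
    rw [emb_comap_of_geo p chart hV hD hle₁ irr₁ geo₁]; exact hy₂
  have hy₃ : (RelProj.emb p chart V hV).base
      (ProjectiveSpectrum.comap (𝒮.res hV hD₃ (hle₂.trans hle₁)) irr₃ y) ∈ W := by
    rw [emb_comap_of_geo p chart hV hD₃ (hle₂.trans hle₁) irr₃ geo₃]; exact hy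
  change GrTwist.locMap (𝒮.res hD hD₃ hle₂) irr₂ y (GrTwist.locMap (𝒮.res hV hD hle₁) irr₁ _
      (GrTwist.val (V := RelProj.emb p chart V hV ⁻¹ᵁ W) t ⟨_, hy₁⟩)) =
    GrTwist.locMap (𝒮.res hV hD₃ (hle₂.trans hle₁)) irr₃ y
      (GrTwist.val (V := RelProj.emb p chart V hV ⁻¹ᵁ W) t ⟨_, hy₃⟩)
  obtain ⟨a, f, hf₁, hf₂, e₁, e₂⟩ := exists_mk_eq (𝒮.deg V hV) (RelProj.emb p chart V hV ⁻¹ᵁ W) t _ _
    (comap_comap hV hD hD₃ hle₁ hle₂ irr₁ irr₂ irr₃ y) hy₁ hy₃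
  rw [e₁, e₂, GrTwist.locMap_mk, GrTwist.locMap_mk, GrTwist.locMap_mk]
  exact mk_congr _ (res_res_apply hV hD hD₃ hle₁ hle₂ a) (res_res_apply hV hD hD₃ hle₁ hle₂ f) _ _

theorem res_push_bijective {Z : Scheme.{u}} (j : Z ⟶ P) (T : Z.Modules) (O W : P.Opens)
    (hj : ∀ z : Z, j z ∈ O) :
    Function.Bijective (res ((Scheme.Modules.pushforward j).obj T) (inf_le_left : W ⊓ O ≤ W)) := by
  have hle : j ⁻¹ᵁ W ≤ j ⁻¹ᵁ (W ⊓ O) := fun z hz => ⟨hz, hj z⟩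
  have hle' : j ⁻¹ᵁ (W ⊓ O) ≤ j ⁻¹ᵁ W := j.preimage_mono inf_le_left
  refine Function.bijective_iff_has_inverse.2 ⟨fun s => res T hle s, fun s => ?_, fun s => ?_⟩
  · change res T hle (res T hle' s) = s
    rw [res_res]
    exact Groth.Agent.Lib.Helper23.SecTw.res_self T s
  · change res T hle' (res T hle s) = s
    rw [res_res]
    exact Groth.Agent.Lib.Helper23.SecTw.res_self T s

theorem tauOf_bijective (hP : RelProj.IsRelProj 𝒮 p chart) {V D : S.Opens} (hV : IsAffineOpen V)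
    (hD : IsAffineOpen D) (hb : IsBasic V D) (W : P.Opens) (hW : W ≤ p ⁻¹ᵁ D) :
    Function.Bijective ((tauOf p chart n hV hD hb.le (irr_of_isBasic hV hD hb)
      (geo_of_isBasic hP hV hD hb)).app W) := by
  have geo := geo_of_isBasic hP hV hD hb
  obtain ⟨c, hc, hunit, hsurj, hker⟩ := loc_facts (𝒮 := 𝒮) hV hD hb
  have hec := emb_comap_of_geo p chart hV hD hb.le (irr_of_isBasic hV hD hb) geo
  have hsub : (RelProj.emb p chart D hD ⁻¹ᵁ W : (Proj (𝒮.deg D hD)).Opens).1 ⊆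
      ProjectiveSpectrum.comap (𝒮.res hV hD hb.le) (irr_of_isBasic hV hD hb) ⁻¹'
        (RelProj.emb p chart V hV ⁻¹ᵁ W : (Proj (𝒮.deg V hV)).Opens).1 := by
    intro y hy
    show (RelProj.emb p chart V hV).base _ ∈ W
    rw [hec]; exact hy
  have hcov : ∀ y ∈ (RelProj.emb p chart V hV ⁻¹ᵁ W : (Proj (𝒮.deg V hV)).Opens),
      ∃ y'' ∈ (RelProj.emb p chart D hD ⁻¹ᵁ W : (Proj (𝒮.deg D hD)).Opens),
        ProjectiveSpectrum.comap (𝒮.res hV hD hb.le) (irr_of_isBasic hV hD hb) y'' = y := by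
    intro y hy
    obtain ⟨y'', hy''⟩ := le_opensRange_emb p chart D hD (hW hy)
    have hy''e : (RelProj.emb p chart D hD).base y'' = (RelProj.emb p chart V hV).base y := hy''
    refine ⟨y'', ?_, ?_⟩
    · show (RelProj.emb p chart D hD).base y'' ∈ W
      rw [hy''e]; exact hy
    · apply emb_injective p chart V hV
      exact (hec y'').trans hy''e
  have hinj : Function.Injective
      (ProjectiveSpectrum.comap (𝒮.res hV hD hb.le) (irr_of_isBasic hV hD hb)) := by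
    intro y₁ y₂ h
    apply emb_injective p chart D hD
    have h1 := hec y₁
    have h2 := hec y₂
    rw [h] at h1
    exact h1.symm.trans h2
  have hopen : IsOpenMap (ProjectiveSpectrum.comap (𝒮.res hV hD hb.le) (irr_of_isBasic hV hD hb)) := by
    haveI : IsOpenImmersion (Proj.map (𝒮.res hV hD hb.le) (irr_of_isBasic hV hD hb) ≫
        RelProj.emb p chart V hV) := by
      rw [geo]; infer_instance
    haveI : IsOpenImmersion (Proj.map (𝒮.res hV hD hb.le) (irr_of_isBasic hV hD hb)) :=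
      IsOpenImmersion.of_comp _ (RelProj.emb p chart V hV)
    exact (Proj.map (𝒮.res hV hD hb.le) (irr_of_isBasic hV hD hb)).isOpenEmbedding.isOpenMap
  have hbij := Groth.Agent.Lib.Helper2.ProjLocSect.comapApp_bijective (𝒮.res hV hD hb.le)
    (irr_of_isBasic hV hD hb) c hc hunit hsurj hker n _ _ hsub hcov hinj hopen
  exact hbij

end tau

/-- **existence of the twisting sheaves** `O_P(n)` of a relative Proj. -/
theorem exists_isRelTwist (hP : RelProj.IsRelProj 𝒮 p chart) (n : ℤ) :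
    ∃ (L : P.Modules) (lam : ∀ (U : S.Opens) (hU : IsAffineOpen U),
      L ⟶ (Scheme.Modules.pushforward (RelProj.emb p chart U hU)).obj (GrTwist.twist (𝒮.deg U hU) n)),
      RelProj.IsRelTwist 𝒮 p chart n L lam := by
  obtain ⟨L, lam, hbij, hcond⟩ := exists_glue p
    (fun U hU => (Scheme.Modules.pushforward (RelProj.emb p chart U hU)).obj (GrTwist.twist (𝒮.deg U hU) n))
    (fun V hV D hD hb => tauOf p chart n hV hD hb.le (irr_of_isBasic hV hD hb) (geo_of_isBasic hP hV hD hb))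
    (fun V hV W => res_push_bijective (RelProj.emb p chart V hV) _ (p ⁻¹ᵁ V) W
      (fun z => opensRange_emb_le p chart V hV ⟨z, rfl⟩))
    (fun V hV D hD hb W hW => tauOf_bijective p chart n hP hV hD hb W hW)
    (fun V hV D hD D₃ hD₃ hb₁ hb₂ hb₃ => tauOf_comp p chart n hV hD hD₃ hb₁.le hb₂.le _ _ _ _ _ _)
  refine ⟨L, lam, ⟨hbij, ?_⟩⟩
  intro U hU r W s y hy hy'
  have h3 := hcond U hU (S.basicOpen r) (hU.basicOpen r) ⟨r, rfl⟩
  have h4 := congrArg (fun φ : L ⟶ (Scheme.Modules.pushforward (RelProj.emb p chart (S.basicOpen r)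
    (hU.basicOpen r))).obj (GrTwist.twist (𝒮.deg (S.basicOpen r) (hU.basicOpen r)) n) => φ.app W s) h3
  exact (congrArg (fun σ : Γ(GrTwist.twist (𝒮.deg (S.basicOpen r) (hU.basicOpen r)) n,
    RelProj.emb p chart (S.basicOpen r) (hU.basicOpen r) ⁻¹ᵁ W) => GrTwist.val σ ⟨y, hy⟩) h4.symm).trans rfl

end Groth.Agent.Lib.Helper2.RelTwistExist
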