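import Mathlib
import Groth.Agent.Lib.Helper1Sky4
import Groth.Agent.Lib.Helper26ModSec
set_option backward.isDefEq.respectTransparency.types false

/-!
# Descent of properties of module homomorphisms along flat jointly surjective families (helper26)

Namespace `Groth.Agent.Lib.Helper26.FpqcMod`.  Built on helper1's `stalkPullbackIso`.
-/

set_option autoImplicit false
set_option linter.style.haveILetI false
universe u
open CategoryTheory CategoryTheory.Limits TopCat TopologicalSpace Opposite AlgebraicGeometry

namespace Groth.Agent.Lib.Helper26.FpqcMod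

open Groth.Agent.Lib.Helper1.Sky Groth.Agent.Lib.Helper1.StalkTensor Groth.Agent.Lib.Helper26.ModSec

variable {X Y : Scheme.{u}}

section stalks

/-- a morphism of modules vanishing on all stalks is zero. -/
theorem eq_zero_of_stalk {M N : X.Modules} (φ : M ⟶ N)
    (h : ∀ x : X, (stalkFun x).map φ = 0) : φ = 0 := by
  apply SheafOfModules.hom_ext
  apply PresheafOfModules.hom_ext
  intro U
  ext m
  refine TopCat.Presheaf.section_ext (abSheaf N) U.unop _ _ (fun y hy => ?_)
  have h1 : ((stalkFun y).map φ).hom (gm (toPM M) y U.unop hy m) = 0 := by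
    rw [h y]; rfl
  rw [stalkFun_map_apply, sm_gm] at h1
  exact h1.trans (map_zero _).symm

theorem stalk_eq_zero {M N : X.Modules} (φ : M ⟶ N) (h : φ = 0) (x : X) :
    (stalkFun x).map φ = 0 := by
  rw [h, Functor.map_zero]

theorem mono_iff_stalk {M N : X.Modules} (φ : M ⟶ N) :
    Mono φ ↔ ∀ x : X, Function.Injective ((stalkFun x).map φ).hom :=
  ⟨fun _ x => sm_injective_of_mono φ x, fun h => mono_of_sm_injective φ h⟩

theorem stalk_surjective_of_epi {M N : X.Modules} (φ : M ⟶ N) [Epi φ] (x : X) :
    Function.Surjective ((stalkFun x).map φ).hom := by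
  haveI : Epi ((stalkFun x).map φ) := inferInstance
  exact (ModuleCat.epi_iff_surjective _).1 inferInstance

theorem epi_of_stalk_surjective {M N : X.Modules} (φ : M ⟶ N)
    (h : ∀ x : X, Function.Surjective ((stalkFun x).map φ).hom) : Epi φ := by
  refine Preadditive.epi_of_cancel_zero _ (fun {P} g hg => ?_)
  refine eq_zero_of_stalk g (fun x => ?_)
  haveI : Epi ((stalkFun x).map φ) := (ModuleCat.epi_iff_surjective _).2 (h x)
  rw [← cancel_epi ((stalkFun x).map φ), ← Functor.map_comp, hg, Functor.map_zero, comp_zero]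

theorem epi_iff_stalk {M N : X.Modules} (φ : M ⟶ N) :
    Epi φ ↔ ∀ x : X, Function.Surjective ((stalkFun x).map φ).hom :=
  ⟨fun _ x => stalk_surjective_of_epi φ x, epi_of_stalk_surjective φ⟩

theorem isIso_iff_stalk {M N : X.Modules} (φ : M ⟶ N) :
    IsIso φ ↔ ∀ x : X, Function.Bijective ((stalkFun x).map φ).hom := by
  constructor
  · intro h x
    haveI : IsIso ((stalkFun x).map φ) := inferInstance
    exact ConcreteCategory.bijective_of_isIso ((stalkFun x).map φ)
  · intro h
    haveI : Mono φ := (mono_iff_stalk φ).2 (fun x => (h x).1)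
    haveI : Epi φ := (epi_iff_stalk φ).2 (fun x => (h x).2)
    exact isIso_of_mono_of_epi φ

end stalks

section transfer
variable (h : X ⟶ Y) (x : X) {A B : Y.Modules} (a : A ⟶ B)

theorem sq : (stalkFun x).map ((Scheme.Modules.pullback h).map a) ≫ (stalkPullbackIso h x).hom.app B =
    (stalkPullbackIso h x).hom.app A ≫
      (ModuleCat.extendScalars.{u, u, u} (h.stalkMap x).hom).map ((stalkFun (h x)).map a) :=
  (stalkPullbackIso h x).hom.naturality a

theorem faithfullyFlat_stalkMap [Flat h] :
    letI := (h.stalkMap x).hom.toAlgebra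
    Module.FaithfullyFlat (Ox (h x)) (Ox x) := by
  letI := (h.stalkMap x).hom.toAlgebra
  exact @Module.FaithfullyFlat.of_flat_of_isLocalHom _ _ _ _ _ _ _
      (Flat.stalkMap h x) (h.toLRSHom.prop x)

theorem flat_stalkMap [Flat h] :
    letI := (h.stalkMap x).hom.toAlgebra
    Module.Flat (Ox (h x)) (Ox x) := by
  letI := (h.stalkMap x).hom.toAlgebra
  exact Flat.stalkMap h x

theorem injective_iff [Flat h] :
    Function.Injective ((stalkFun x).map ((Scheme.Modules.pullback h).map a)).hom ↔
      Function.Injective ((stalkFun (h x)).map a).hom := by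
  letI := (h.stalkMap x).hom.toAlgebra
  haveI := faithfullyFlat_stalkMap h x
  rw [← ModuleCat.mono_iff_injective, sq_mono_iff _ _ _ _ inferInstance inferInstance (sq h x a),
    ModuleCat.mono_iff_injective]
  exact Module.FaithfullyFlat.lTensor_injective_iff_injective (Ox (h x)) (Ox x)
    ((stalkFun (h x)).map a).hom

theorem surjective_iff [Flat h] :
    Function.Surjective ((stalkFun x).map ((Scheme.Modules.pullback h).map a)).hom ↔
      Function.Surjective ((stalkFun (h x)).map a).hom := by
  letI := (h.stalkMap x).hom.toAlgebra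
  haveI := faithfullyFlat_stalkMap h x
  rw [← ModuleCat.epi_iff_surjective, sq_epi_iff _ _ _ _ inferInstance inferInstance (sq h x a),
    ModuleCat.epi_iff_surjective]
  exact Module.FaithfullyFlat.lTensor_surjective_iff_surjective (Ox (h x)) (Ox x)
    ((stalkFun (h x)).map a).hom

theorem zero_iff [Flat h] :
    (stalkFun x).map ((Scheme.Modules.pullback h).map a) = 0 ↔ (stalkFun (h x)).map a = 0 := by
  letI := (h.stalkMap x).hom.toAlgebra
  haveI := faithfullyFlat_stalkMap h x
  rw [sq_zero_iff _ _ _ _ inferInstance inferInstance (sq h x a)]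
  have h1 := Module.FaithfullyFlat.zero_iff_lTensor_zero (Ox (h x)) (Ox x)
    ((stalkFun (h x)).map a).hom
  constructor
  · intro h2
    apply ModuleCat.hom_ext
    refine (h1.2 ?_).trans ModuleCat.hom_zero.symm
    have h3 := congrArg ModuleCat.Hom.hom h2
    refine LinearMap.ext (fun t => ?_)
    have h4 := LinearMap.congr_fun h3 t
    exact h4
  · intro h2
    rw [h2, Functor.map_zero]

end transfer

section family
variable {ι : Type*} {Xi : ι → Scheme.{u}} (h : ∀ i, Xi i ⟶ Y) [∀ i, Flat (h i)]
  (hs : ∀ y : Y, ∃ i, y ∈ Set.range (h i)) {A B : Y.Modules} (a : A ⟶ B)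
include hs

theorem eq_zero_of_family (H : ∀ i, (Scheme.Modules.pullback (h i)).map a = 0) : a = 0 := by
  refine eq_zero_of_stalk a (fun y => ?_)
  obtain ⟨i, x, rfl⟩ := hs y
  exact (zero_iff (h i) x a).1 (stalk_eq_zero _ (H i) x)

theorem mono_of_family (H : ∀ i, Mono ((Scheme.Modules.pullback (h i)).map a)) : Mono a := by
  refine (mono_iff_stalk a).2 (fun y => ?_)
  obtain ⟨i, x, rfl⟩ := hs y
  exact (injective_iff (h i) x a).1 ((mono_iff_stalk _).1 (H i) x)

theorem epi_of_family (H : ∀ i, Epi ((Scheme.Modules.pullback (h i)).map a)) : Epi a := by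
  refine (epi_iff_stalk a).2 (fun y => ?_)
  obtain ⟨i, x, rfl⟩ := hs y
  exact (surjective_iff (h i) x a).1 ((epi_iff_stalk _).1 (H i) x)

theorem isIso_of_family (H : ∀ i, IsIso ((Scheme.Modules.pullback (h i)).map a)) : IsIso a := by
  haveI : Mono a := mono_of_family h hs a (fun i => inferInstance)
  haveI : Epi a := epi_of_family h hs a (fun i => inferInstance)
  exact isIso_of_mono_of_epi a

end family

/-- pullback along a flat morphism preserves monomorphisms. -/
theorem mono_pullback_of_flat (h : X ⟶ Y) [Flat h] {A B : Y.Modules} (a : A ⟶ B) [Mono a] :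
    Mono ((Scheme.Modules.pullback h).map a) :=
  (mono_iff_stalk _).2 (fun x => (injective_iff h x a).2 ((mono_iff_stalk a).1 inferInstance (h x)))

end Groth.Agent.Lib.Helper26.FpqcMod
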