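import Mathlib

/-!
# A module over a semilocal ring that becomes free of rank one after a faithfully flat base change
is free of rank one (lead)

`exists_generator_of_baseChange_free`: `A` semilocal, `B` faithfully flat over `A`, `B ⊗[A] M ≃ₗ[B] B`
⟹ `∃ s : M, a ↦ a • s` is bijective.
-/

set_option autoImplicit false
set_option linter.style.haveILetI false
universe u

open TensorProduct

namespace Groth.Agent.Lib.LeadPicFF

attribute [local instance] Algebra.TensorProduct.rightAlgebra

theorem finrank_quotient_tensor_eq_one (A B M : Type u) [CommRing A] [CommRing B] [Algebra A B]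
    [Module.FaithfullyFlat A B] [AddCommGroup M] [Module A M]
    (e : B ⊗[A] M ≃ₗ[B] B) (P : Ideal A) [hP : P.IsMaximal] :
    Module.finrank (A ⧸ P) ((A ⧸ P) ⊗[A] M) = 1 := by
  letI := Ideal.Quotient.field P
  let k := A ⧸ P
  let C := k ⊗[A] B
  haveI : Nontrivial C := inferInstance
  let e1 : C ⊗[k] (k ⊗[A] M) ≃ₗ[C] C ⊗[A] M :=
    AlgebraTensorModule.cancelBaseChange A k C C M
  let e2 : C ⊗[B] (B ⊗[A] M) ≃ₗ[C] C ⊗[A] M :=
    AlgebraTensorModule.cancelBaseChange A B C C M
  let e3 : C ⊗[B] (B ⊗[A] M) ≃ₗ[C] C ⊗[B] B :=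
    AlgebraTensorModule.congr (LinearEquiv.refl C C) e
  let e4 : C ⊗[B] B ≃ₗ[C] C := AlgebraTensorModule.rid B C C
  let E : C ⊗[k] (k ⊗[A] M) ≃ₗ[C] C := e1 ≪≫ₗ e2.symm ≪≫ₗ e3 ≪≫ₗ e4
  have h1 : Module.finrank C (C ⊗[k] (k ⊗[A] M)) = Module.finrank k (k ⊗[A] M) :=
    Module.finrank_baseChange
  rw [← h1, E.finrank_eq, Module.finrank_self]

theorem exists_generator_of_baseChange_free (A B M : Type u) [CommRing A] [CommRing B] [Algebra A B]
    [Module.FaithfullyFlat A B] [Finite (MaximalSpectrum A)] [AddCommGroup M] [Module A M]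
    (e : B ⊗[A] M ≃ₗ[B] B) : ∃ s : M, Function.Bijective (fun a : A => a • s) := by
  haveI : Module.Finite B (B ⊗[A] M) := Module.Finite.equiv e.symm
  haveI : Module.Finite A M := Module.Finite.of_finite_tensorProduct_of_faithfullyFlat B
  haveI : Module.Flat B (B ⊗[A] M) := Module.Flat.of_linearEquiv e
  haveI : Module.Flat A M := Module.Flat.of_flat_tensorProduct A M B
  obtain ⟨b⟩ := Module.nonempty_basis_of_flat_of_finrank_eq A M 1
    (fun P => finrank_quotient_tensor_eq_one A B M e P.1)
  refine ⟨b 0, ?_⟩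
  have h : (fun a : A => a • b 0) = fun a => b.repr.symm (Finsupp.single 0 a) := by
    funext a
    rw [Module.Basis.repr_symm_single]
  rw [h]
  refine b.repr.symm.bijective.comp ?_
  constructor
  · intro a a' haa
    exact Finsupp.single_injective 0 haa
  · intro v
    refine ⟨v 0, ?_⟩
    refine Finsupp.ext fun i => ?_
    have : i = 0 := Subsingleton.elim _ _
    subst this
    simp

end Groth.Agent.Lib.LeadPicFF
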