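import Mathlib
import Groth.Prelude.Def_Pic
import Groth.Agent.Lib.LeadPicFF1
import Groth.Agent.Lib.Helper13QcqsBC
import Groth.Agent.Lib.Helper26FpqcMod
import Groth.Agent.Lib.Helper23PB

/-!
# Injectivity of `Pic(X) → Pic(X')` for a faithfully flat base change, `Γ(X, O_X)` semilocal (lead)
-/

set_option autoImplicit false
set_option linter.style.haveILetI false
universe u
open CategoryTheory CategoryTheory.Limits AlgebraicGeometry Opposite TopologicalSpace TensorProduct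

namespace Groth.Agent.Lib.LeadPicFF

open Scheme.Modules Groth.Agent.Helper13PullbackUnit Groth.Agent.Helper13QcqsBC
  Groth.Agent.Helper13FlatMV Groth.Agent.Lib.Helper23.GenLocus Groth.Agent.Lib.Helper23.SecTw
  Groth.Agent.Lib.Helper23.PB Groth.Agent.Lib.Helper6

section secLin
variable {X S : Scheme.{u}} (f : X ⟶ S) (U : S.Opens) {W : X.Opens} (hW : W ≤ f ⁻¹ᵁ U)

/-- a morphism of modules induces a linear map on `SecR` -/
noncomputable def secLin {N N' : X.Modules} (φ : N ⟶ N') :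
    SecR f N U W hW →ₗ[Γ(S, U)] SecR f N' U W hW where
  toFun a := φ.app W a
  map_add' a b := map_add _ a b
  map_smul' r a := by
    show φ.app W ((f.appLE U W hW r : Γ(X, W)) • (show Γ(N, W) from a)) =
      ((f.appLE U W hW r : Γ(X, W)) • φ.app W a : Γ(N', W))
    exact Scheme.Modules.Hom.app_smul ..

theorem secLin_apply {N N' : X.Modules} (φ : N ⟶ N') (a : SecR f N U W hW) :
    secLin f U hW φ a = φ.app W a := rfl

/-- an isomorphism of modules induces a linear equivalence on `SecR` -/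
noncomputable def secLinEquiv {N N' : X.Modules} (φ : N ≅ N') :
    SecR f N U W hW ≃ₗ[Γ(S, U)] SecR f N' U W hW :=
  LinearEquiv.ofLinear (secLin f U hW φ.hom) (secLin f U hW φ.inv)
    (by
      ext a
      show φ.hom.app W (φ.inv.app W a) = a
      rw [← ConcreteCategory.comp_apply, ← Scheme.Modules.Hom.comp_app, φ.inv_hom_id]
      rfl)
    (by
      ext a
      show φ.inv.app W (φ.hom.app W a) = a
      rw [← ConcreteCategory.comp_apply, ← Scheme.Modules.Hom.comp_app, φ.hom_inv_id]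
      rfl)

end secLin

section core
variable {X S X' S' : Scheme.{u}} (f : X ⟶ S) (g : S' ⟶ S) (g' : X' ⟶ X) (f' : X' ⟶ S')
  (h : IsPullback g' f' f g)

theorem hle_top : (⊤ : S'.Opens) ≤ g ⁻¹ᵁ (⊤ : S.Opens) := le_top

theorem hW_top : (⊤ : X.Opens) ≤ f ⁻¹ᵁ (⊤ : S.Opens) := le_top

include h in
theorem kbij_top [IsAffine S] [IsAffine S'] [Flat g] [CompactSpace X] [QuasiSeparatedSpace X]
    (F : X.Modules) [F.IsQuasicoherent] :
    KBij f g g' f' h F (hle_top g) ⊤ (hW_top f) := by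
  refine KBij_of_qcqs f g g' f' h F (hle_top g) (isAffineOpen_top S) (isAffineOpen_top S')
    (g.flat_appLE (isAffineOpen_top S) (isAffineOpen_top S') (hle_top g)) ?_ ⊤ isCompact_univ (hW_top f)
  exact (isQuasiSeparated_univ_iff.2 inferInstance)

include h in
theorem nonempty_iso_structureModule [IsAffine S] [IsAffine S'] [Flat g] [Surjective g]
    [CompactSpace X] [QuasiSeparatedSpace X]
    (hbij : Function.Bijective (f.appLE ⊤ ⊤ (hW_top f)).hom)
    [Finite (MaximalSpectrum Γ(S, ⊤))]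
    (L : X.Modules) (hL : PicF.IsInvertible L)
    (τ : (Scheme.Modules.pullback g').obj L ≅ Coh.structureModule X') :
    Nonempty (L ≅ Coh.structureModule X) := by
  haveI : L.IsQuasicoherent := isQuasicoherent_of_isInvertible L hL
  haveI : (Coh.structureModule X).IsQuasicoherent :=
    Groth.Agent.Lib.Helper23.Serre.isQuasicoherent_structureModule' X
  letI alg : Algebra Γ(S, ⊤) Γ(S', ⊤) := (g.appLE ⊤ ⊤ (hle_top g)).hom.toAlgebra
  have hKL := kbij_top f g g' f' h L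
  have hKO := kbij_top f g g' f' h (Coh.structureModule X)
  haveI : Module.FaithfullyFlat Γ(S, ⊤) Γ(S', ⊤) := by
    have h1 : g.appTop.hom.FaithfullyFlat :=
      (Flat.flat_and_surjective_iff_faithfullyFlat_of_isAffine g).1 ⟨inferInstance, inferInstance⟩
    have h2 : g.appLE ⊤ ⊤ (hle_top g) = g.appTop := by
      simp [Scheme.Hom.appLE, Scheme.Hom.appTop]
    have h3 : (g.appLE ⊤ ⊤ (hle_top g)).hom.FaithfullyFlat := by rw [h2]; exact h1
    exact h3
  let V : X'.Opens := Vp g' f' ⊤ ⊤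
  have hV1 : V ≤ g' ⁻¹ᵁ ⊤ := inf_le_left
  have hV2 : V ≤ f' ⁻¹ᵁ ⊤ := inf_le_right
  let kL : Γ(S', ⊤) ⊗[Γ(S, ⊤)] SecR f L ⊤ ⊤ (hW_top f) ≃ₗ[Γ(S', ⊤)]
      SecR f' ((Scheme.Modules.pullback g').obj L) ⊤ V hV2 :=
    LinearEquiv.ofBijective _ hKL
  let kO : Γ(S', ⊤) ⊗[Γ(S, ⊤)] SecR f (Coh.structureModule X) ⊤ ⊤ (hW_top f) ≃ₗ[Γ(S', ⊤)]
      SecR f' ((Scheme.Modules.pullback g').obj (Coh.structureModule X)) ⊤ V hV2 :=
    LinearEquiv.ofBijective _ hKO
  let ε₀ : Γ(S, ⊤) ≃ₗ[Γ(S, ⊤)] SecR f (Coh.structureModule X) ⊤ ⊤ (hW_top f) :=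
    LinearEquiv.ofBijective (LinearMap.toSpanSingleton Γ(S, ⊤)
      (SecR f (Coh.structureModule X) ⊤ ⊤ (hW_top f)) (toS ⊤ 1)) (by
      have e : ∀ a : Γ(S, ⊤), LinearMap.toSpanSingleton Γ(S, ⊤)
          (SecR f (Coh.structureModule X) ⊤ ⊤ (hW_top f)) (toS ⊤ 1) a =
          toS ⊤ ((f.appLE ⊤ ⊤ (hW_top f)).hom a) := by
        intro a
        rw [LinearMap.toSpanSingleton_apply, SecR.smul_def]
        exact (smul_toS ⊤ _ 1).trans (by rw [mul_one])
      constructor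
      · intro a a' haa
        rw [e, e] at haa
        exact hbij.1 haa
      · intro m
        obtain ⟨a, ha⟩ := hbij.2 (ofS ⊤ m)
        refine ⟨a, ?_⟩
        rw [e, ha]
        rfl)
  let Θ : Γ(S', ⊤) ≃ₗ[Γ(S', ⊤)] SecR f' (Coh.structureModule X') ⊤ V hV2 :=
    (AlgebraTensorModule.rid Γ(S, ⊤) Γ(S', ⊤) Γ(S', ⊤)).symm ≪≫ₗ
      AlgebraTensorModule.congr (LinearEquiv.refl Γ(S', ⊤) Γ(S', ⊤)) ε₀ ≪≫ₗ kO ≪≫ₗ
      secLinEquiv f' ⊤ hV2 (pullbackUnitIso g')
  let E : Γ(S', ⊤) ⊗[Γ(S, ⊤)] SecR f L ⊤ ⊤ (hW_top f) ≃ₗ[Γ(S', ⊤)] Γ(S', ⊤) :=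
    kL ≪≫ₗ secLinEquiv f' ⊤ hV2 τ ≪≫ₗ Θ.symm
  obtain ⟨s, hs⟩ := exists_generator_of_baseChange_free Γ(S, ⊤) Γ(S', ⊤)
    (SecR f L ⊤ ⊤ (hW_top f)) E
  -- the generator as a morphism
  let s₀ : Γ(L, ⊤) := s
  let σ : Coh.structureModule X ⟶ L := secHom L s₀
  -- the pulled back section is a generator
  let εs : Γ(S, ⊤) ≃ₗ[Γ(S, ⊤)] SecR f L ⊤ ⊤ (hW_top f) :=
    LinearEquiv.ofBijective (LinearMap.toSpanSingleton Γ(S, ⊤) (SecR f L ⊤ ⊤ (hW_top f)) s) hs
  let Ξ : Γ(S', ⊤) ≃ₗ[Γ(S', ⊤)] SecR f' (Coh.structureModule X') ⊤ V hV2 :=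
    (AlgebraTensorModule.rid Γ(S, ⊤) Γ(S', ⊤) Γ(S', ⊤)).symm ≪≫ₗ
      AlgebraTensorModule.congr (LinearEquiv.refl Γ(S', ⊤) Γ(S', ⊤)) εs ≪≫ₗ kL ≪≫ₗ
      secLinEquiv f' ⊤ hV2 τ
  have hΞ1 : Ξ 1 = τ.hom.app V (unitSec g' L hV1 s₀) := by
    simp only [Ξ, LinearEquiv.trans_apply, AlgebraTensorModule.rid_symm_apply,
      AlgebraTensorModule.congr_tmul, LinearEquiv.refl_apply, εs, LinearEquiv.ofBijective_apply,
      LinearMap.toSpanSingleton_apply, one_smul, kL, kap_tmul]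
    rfl
  let u : Γ(X', V) := ofS V (τ.hom.app V (unitSec g' L hV1 s₀))
  have hu : IsUnit u := by
    obtain ⟨b, hb⟩ := Ξ.surjective (toS V 1)
    have h1 : Ξ b = b • Ξ 1 := by rw [← Ξ.map_smul, smul_eq_mul, mul_one]
    rw [h1, hΞ1, SecR.smul_def] at hb
    have h2 : (f'.appLE ⊤ V hV2).hom b * u = 1 := congrArg (ofS V) hb
    exact isUnit_iff_exists_inv'.2 ⟨_, h2⟩
  -- the endomorphism of `O_{X'}`
  let ψ : Coh.structureModule X' ⟶ Coh.structureModule X' :=
    (pullbackUnitIso g').inv ≫ (Scheme.Modules.pullback g').map σ ≫ τ.hom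
  have hc : IsUnit (endFun ψ V) := by
    let t₀ : Γ(X', V) := ofS V ((pullbackUnitIso g').hom.app V
      (unitSec g' (Coh.structureModule X) hV1 (toS ⊤ 1)))
    have hσ1 : σ.app ⊤ (toS ⊤ 1) = s₀ := by
      rw [app_toS, one_smul, sv_secHom]
      exact Groth.Agent.Helper13QcqsBC.res_self L s₀
    have h1 : ψ.app V (toS V t₀) = toS V u := by
      show (((pullbackUnitIso g').inv ≫ (Scheme.Modules.pullback g').map σ ≫ τ.hom).app V)
        ((pullbackUnitIso g').hom.app V (unitSec g' (Coh.structureModule X) hV1 (toS ⊤ 1))) =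
        τ.hom.app V (unitSec g' L hV1 s₀)
      rw [Scheme.Modules.Hom.comp_app, Scheme.Modules.Hom.comp_app, ConcreteCategory.comp_apply,
        ConcreteCategory.comp_apply, ← ConcreteCategory.comp_apply ((pullbackUnitIso g').hom.app V),
        ← Scheme.Modules.Hom.comp_app, Iso.hom_inv_id]
      rw [← hσ1, ← map_unitSec g' σ hV1 (toS ⊤ 1)]
      rfl
    have h2 := end_app_eq ψ V t₀
    have h3 : t₀ * endFun ψ V = u := congrArg (ofS V) (h2.symm.trans h1)
    exact isUnit_of_mul_isUnit_right (h3 ▸ hu)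
  have hψ : IsIso ψ := by
    refine Groth.Agent.Helper13AffBC.isIso_of_bijective_on_basis ψ (fun W : X'.Opens => W) ?_ (fun W => ?_)
    · rw [Opens.isBasis_iff_nbhd]
      intro W x hx
      exact ⟨W, ⟨W, rfl⟩, hx, le_rfl⟩
    · rw [bijective_app_iff_isUnit]
      have hWV : W ≤ V := fun x _ => ⟨trivial, trivial⟩
      rw [← endFun_map ψ (homOfLE hWV)]
      exact hc.map _
  have hmap : IsIso ((Scheme.Modules.pullback g').map σ) := by
    have e : (Scheme.Modules.pullback g').map σ = (pullbackUnitIso g').hom ≫ ψ ≫ τ.inv := by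
      simp [ψ]
    rw [e]
    infer_instance
  haveI : Flat g' := MorphismProperty.of_isPullback (P := @Flat) h.flip inferInstance
  haveI : Surjective g' := MorphismProperty.of_isPullback (P := @Surjective) h.flip inferInstance
  have hσ : IsIso σ := by
    refine Groth.Agent.Lib.Helper26.FpqcMod.isIso_of_family (fun _ : PUnit.{1} => g') ?_ σ
      (fun _ => hmap)
    intro y
    exact ⟨PUnit.unit, Surjective.surj y⟩
  exact ⟨(asIso σ).symm⟩

end core

end Groth.Agent.Lib.LeadPicFF
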