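import Mathlib
import Groth.Prelude.Def_Pic
import Groth.Agent.Lib.LeadPicFF2
import Groth.Agent.Lib.Helper23CounitEpi

/-!
# Relative generation after a flat trivialisation (lead)

`pullback_map_eq_of_app_eq`: for a pullback square with `f` qcqs, `g` flat and `L` quasi-coherent on `X` whose pullback to
`X'` is trivial, two morphisms out of `L` agreeing on the sections over the opens `f⁻¹V` have the same pullback to `X'`.
`epi_counit_of_pullback_iso`: hence (for `g` surjective) the counit `f^* f_* L ⟶ L` is an epimorphism.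
-/

set_option autoImplicit false
set_option linter.style.haveILetI false
universe u
open CategoryTheory CategoryTheory.Limits AlgebraicGeometry Opposite TopologicalSpace TensorProduct

namespace Groth.Agent.Lib.LeadPicFF

open Scheme.Modules Groth.Agent.Helper13PullbackUnit Groth.Agent.Helper13QcqsBC
  Groth.Agent.Helper13FlatMV Groth.Agent.Lib.Helper23.GenLocus Groth.Agent.Lib.Helper23.SecTw
  Groth.Agent.Lib.Helper23.PB Groth.Agent.Lib.Helper6 Groth.Agent.Lib.Helper23.Extend

section epi
variable {X S X' S' : Scheme.{u}} (f : X ⟶ S) (g : S' ⟶ S) (g' : X' ⟶ X) (f' : X' ⟶ S')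
  (h : IsPullback g' f' f g)

include h in
theorem pullback_map_eq_of_app_eq [QuasiCompact f] [QuasiSeparated f] [Flat g]
    (L : X.Modules) [L.IsQuasicoherent]
    (τ : (Scheme.Modules.pullback g').obj L ≅ Coh.structureModule X')
    {G : X.Modules} (φ ψ : L ⟶ G) (hφψ : ∀ V : S.Opens, φ.app (f ⁻¹ᵁ V) = ψ.app (f ⁻¹ᵁ V)) :
    (Scheme.Modules.pullback g').map φ = (Scheme.Modules.pullback g').map ψ := by
  apply Groth.Agent.Lib.Helper23.CounitEpi.hom_ext_of_cover
  intro x'
  obtain ⟨U, hU, hxU, -⟩ := exists_isAffineOpen_mem_and_subset (x := g (f' x')) (U := ⊤) trivial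
  obtain ⟨U', hU', hxU', hle⟩ :=
    exists_isAffineOpen_mem_and_subset (x := f' x') (U := g ⁻¹ᵁ U) hxU
  letI alg : Algebra Γ(S, U) Γ(S', U') := (g.appLE U U' hle).hom.toAlgebra
  have hK : KBij f g g' f' h L hle (f ⁻¹ᵁ U) le_rfl :=
    KBij_of_qcqs f g g' f' h L hle hU hU' (g.flat_appLE hU hU' hle)
      (f.isQuasiSeparated_preimage hU.isQuasiSeparated) (f ⁻¹ᵁ U)
      (f.isCompact_preimage hU.isCompact) le_rfl
  let N : X'.Opens := Vp g' f' U' (f ⁻¹ᵁ U)
  have hN1 : N ≤ g' ⁻¹ᵁ (f ⁻¹ᵁ U) := inf_le_left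
  have hN2 : N ≤ f' ⁻¹ᵁ U' := inf_le_right
  have key : ∀ t : SecR f' ((Scheme.Modules.pullback g').obj L) U' N hN2,
      secLin f' U' hN2 ((Scheme.Modules.pullback g').map φ) t =
        secLin f' U' hN2 ((Scheme.Modules.pullback g').map ψ) t := by
    intro t
    obtain ⟨z, rfl⟩ := hK.2 t
    induction z using TensorProduct.induction_on with
    | zero => rw [_root_.map_zero, _root_.map_zero, _root_.map_zero]
    | tmul b s =>
      rw [kap_tmul, _root_.map_smul, _root_.map_smul]
      congr 1
      show ((Scheme.Modules.pullback g').map φ).app N (unitSec g' L hN1 s) =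
        ((Scheme.Modules.pullback g').map ψ).app N (unitSec g' L hN1 s)
      rw [map_unitSec, map_unitSec, hφψ U]
    | add z w hz hw => rw [_root_.map_add, _root_.map_add, _root_.map_add, hz, hw]
  refine ⟨N, ⟨?_, hxU'⟩, ?_⟩
  · show f (g' x') ∈ U
    have e : f (g' x') = g (f' x') := by
      rw [← Scheme.Hom.comp_apply, h.w, Scheme.Hom.comp_apply]
    rw [e]
    exact hxU
  · intro W hWN
    ext m
    let t : Γ((Scheme.Modules.pullback g').obj L, N) := τ.inv.app N (toS N 1)
    let c : Γ(X', W) := ofS W (τ.hom.app W m)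
    have hτt : τ.hom.app N t = toS N 1 := by
      show τ.hom.app N (τ.inv.app N (toS N 1)) = toS N 1
      rw [← ConcreteCategory.comp_apply, ← Scheme.Modules.Hom.comp_app, τ.inv_hom_id]
      rfl
    have hm : m = c • res ((Scheme.Modules.pullback g').obj L) hWN t := by
      have hinj : Function.Injective (τ.hom.app W) := by
        intro a b hab
        have := congrArg (τ.inv.app W) hab
        rw [← ConcreteCategory.comp_apply, ← ConcreteCategory.comp_apply,
          ← Scheme.Modules.Hom.comp_app, τ.hom_inv_id] at this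
        exact this
      apply hinj
      rw [Scheme.Modules.Hom.app_smul]
      have h1 := app_map τ.hom (homOfLE hWN) t
      have h2 : τ.hom.app W (res ((Scheme.Modules.pullback g').obj L) hWN t) = toS W 1 := by
        refine h1.trans ?_
        rw [hτt, map_toS, _root_.map_one]
      rw [h2, smul_toS, mul_one]
      rfl
    have ht := key t
    rw [secLin_apply, secLin_apply] at ht
    rw [hm, Scheme.Modules.Hom.app_smul, Scheme.Modules.Hom.app_smul]
    congr 1
    have e1 := app_map ((Scheme.Modules.pullback g').map φ) (homOfLE hWN) t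
    have e2 := app_map ((Scheme.Modules.pullback g').map ψ) (homOfLE hWN) t
    exact e1.trans ((congrArg _ ht).trans e2.symm)

include h in
theorem epi_counit_of_pullback_iso [QuasiCompact f] [QuasiSeparated f] [Flat g] [Surjective g]
    (L : X.Modules) [L.IsQuasicoherent]
    (τ : (Scheme.Modules.pullback g').obj L ≅ Coh.structureModule X') :
    Epi ((Scheme.Modules.pullbackPushforwardAdjunction f).counit.app L) := by
  haveI : Flat g' := MorphismProperty.of_isPullback (P := @Flat) h.flip inferInstance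
  haveI : Surjective g' := MorphismProperty.of_isPullback (P := @Surjective) h.flip inferInstance
  rw [Groth.Agent.Lib.Helper23.CounitEpi.epi_counit_iff]
  intro G φ ψ hV
  have h1 := pullback_map_eq_of_app_eq f g g' f' h L τ φ ψ hV
  have h2 : φ - ψ = 0 := by
    refine Groth.Agent.Lib.Helper26.FpqcMod.eq_zero_of_family (fun _ : PUnit.{1} => g') ?_ (φ - ψ)
      (fun _ => ?_)
    · intro y
      exact ⟨PUnit.unit, Surjective.surj y⟩
    · rw [Functor.map_sub, h1, sub_self]
  exact sub_eq_zero.1 h2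

end epi

end Groth.Agent.Lib.LeadPicFF

namespace Groth.Agent.Lib.LeadPicFF

open Scheme.Modules Groth.Agent.Lib.Helper23.GenLocus Groth.Agent.Lib.Helper23.SecTw
  Groth.Agent.Lib.Helper23.PB Groth.Agent.Lib.Helper6 Groth.Agent.Lib.Helper23.Extend

/-- an epimorphism between invertible modules is an isomorphism -/
theorem isIso_of_epi_of_isInvertible {X : Scheme.{u}} {M N : X.Modules} (hM : PicF.IsInvertible M)
    (hN : PicF.IsInvertible N) (a : M ⟶ N) [Epi a] : IsIso a := by
  have hloc : ∀ x : X, ∃ W : X.Opens, x ∈ W ∧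
      ∀ W' : X.Opens, W' ≤ W → Function.Bijective (a.app W') := by
    intro x
    obtain ⟨W₁, e₁, hx₁, -, he₁⟩ := exists_affine_gen M hM x
    obtain ⟨W₂, e₂, hx₂, -, he₂⟩ := exists_affine_gen N hN x
    obtain ⟨V, hV, hxV, m, hm⟩ :=
      Groth.Agent.Lib.Helper4.ModEpi.exists_app_eq_of_epi a W₂ e₂ x hx₂
    have hW1 : W₁ ⊓ V ≤ W₁ := inf_le_left
    have hW2 : W₁ ⊓ V ≤ W₂ := inf_le_right.trans hV
    refine ⟨W₁ ⊓ V, ⟨hx₁, hxV⟩, fun W' hW' => ?_⟩
    have g₁ := he₁ W' (hW'.trans hW1)
    have g₂ := he₂ W' (hW'.trans hW2)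
    obtain ⟨c, hc⟩ := g₂.2 (a.app W' (res M (hW'.trans hW1) e₁))
    obtain ⟨r, hr⟩ := g₁.2 (res M (hW'.trans inf_le_right) m)
    simp only [] at hc hr
    have h1 : a.app W' (res M (hW'.trans inf_le_right) m) = res N (hW'.trans hW2) e₂ := by
      have e := app_map a (homOfLE (hW'.trans inf_le_right : W' ≤ V)) m
      refine e.trans ?_
      rw [hm]
      exact res_res N hV (hW'.trans inf_le_right) e₂
    have h2 : (r * c) • res N (hW'.trans hW2) e₂ = (1 : Γ(X, W')) • res N (hW'.trans hW2) e₂ := by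
      rw [one_smul, mul_smul, hc, ← Scheme.Modules.Hom.app_smul, hr, h1]
    have h3 : r * c = 1 := g₂.1 h2
    constructor
    · intro p q hpq
      obtain ⟨p', rfl⟩ := g₁.2 p
      obtain ⟨q', rfl⟩ := g₁.2 q
      simp only [] at hpq ⊢
      rw [Scheme.Modules.Hom.app_smul, Scheme.Modules.Hom.app_smul, ← hc, ← mul_smul,
        ← mul_smul] at hpq
      have h4 : p' * c = q' * c := g₂.1 hpq
      have h5 : p' = q' := by
        calc p' = p' * c * r := by rw [mul_assoc, mul_comm c r, h3, mul_one]
          _ = q' * c * r := by rw [h4]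
          _ = q' := by rw [mul_assoc, mul_comm c r, h3, mul_one]
      rw [h5]
    · intro n
      obtain ⟨n', rfl⟩ := g₂.2 n
      refine ⟨(n' * r) • res M (hW'.trans hW1) e₁, ?_⟩
      simp only []
      rw [Scheme.Modules.Hom.app_smul, ← hc, ← mul_smul, mul_assoc, h3, mul_one]
  choose W hxW hW using hloc
  refine Groth.Agent.Helper13AffBC.isIso_of_bijective_on_basis a
    (fun i : {V : X.Opens // ∃ x, V ≤ W x} => i.1) ?_ (fun i => ?_)
  · rw [Opens.isBasis_iff_nbhd]
    intro O x hx
    exact ⟨O ⊓ W x, ⟨⟨O ⊓ W x, x, inf_le_right⟩, rfl⟩, ⟨hx, hxW x⟩, inf_le_left⟩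
  · obtain ⟨x, hx⟩ := i.2
    exact hW x i.1 hx

end Groth.Agent.Lib.LeadPicFF
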