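import Mathlib
import Groth.Prelude.Def_RelProj3
import Groth.Agent.Lib.Helper18CanMap
import Groth.Agent.Lib.Helper18VAmpG
import Groth.Agent.Lib.Helper18GrSym
import Groth.Agent.Lib.Helper13ProjExist
import Groth.Agent.Lib.Helper13ProjLine
import Groth.Agent.Lib.Helper2RelTwistExist
import Groth.Agent.Lib.LeadPicFF5
import Groth.Agent.Lib.Helper23PB

/-!
# Projective bundles `P(E)` with `O(1)` and the canonical quotient `p^* E ⟶ O(1)` (helper18)
-/

set_option autoImplicit false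
set_option linter.style.haveILetI false
universe u
open CategoryTheory CategoryTheory.Limits AlgebraicGeometry TopologicalSpace Opposite

namespace Groth.Agent.Helper18PE

open RelProj

section twist

variable {Y P : Scheme.{u}} (𝒮 : RelProj.QCGrAlg Y) (p : P ⟶ Y)
  (chart : ∀ (U : Y.Opens) (hU : IsAffineOpen U), ((p ⁻¹ᵁ U : P.Opens) : Scheme.{u}) ≅ Proj (𝒮.deg U hU))

/-- `O_P(n)` is invertible when `𝒮` is generated in degree one. -/
theorem isInvertible_relTwist (hgen : 𝒮.IsGenDegOne) (n : ℤ) (L : P.Modules)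
    (lam : ∀ (U : Y.Opens) (hU : IsAffineOpen U),
      L ⟶ (Scheme.Modules.pushforward (RelProj.emb p chart U hU)).obj (GrTwist.twist (𝒮.deg U hU) n))
    (hL : RelProj.IsRelTwist 𝒮 p chart n L lam) : PicF.IsInvertible L := by
  refine Groth.Agent.Lib.Helper2.RelTwistGen.isInvertible_of_chart_gens p chart L
    (fun U hU => GrTwist.twist (𝒮.deg U hU) n) lam hL.bijective ?_
  intro U hU y
  obtain ⟨f, hf, hfy⟩ := Groth.Agent.Lib.Helper2.RelTwistGen.exists_degOne_not_mem_of_gen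
    (𝒮.deg U hU) (hgen U hU) y
  exact ⟨Proj.basicOpen (𝒮.deg U hU) f,
    Groth.Agent.Lib.Helper2GrModSect.zsec hf n n.toNat (-n).toNat (by omega),
    (ProjectiveSpectrum.mem_basicOpen _ f y).mpr hfy,
    Groth.Agent.Lib.Helper2GrModSect.isGen_zsec hf n _ _ _⟩

end twist

section bundle

variable {Y P : Scheme.{u}} (E : Y.Modules) (hE : Coh.IsQCoh E)
  (𝒮 : RelProj.QCGrAlg Y) (j : E ⟶ 𝒮.toModule) (hj : RelProj.IsGrSymAlg E 𝒮 j)
  (p : P ⟶ Y)
  (chart : ∀ (U : Y.Opens) (hU : IsAffineOpen U), ((p ⁻¹ᵁ U : P.Opens) : Scheme.{u}) ≅ Proj (𝒮.deg U hU))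
  (hP : RelProj.IsRelProj 𝒮 p chart)
  (O1 : P.Modules)
  (lam : ∀ (U : Y.Opens) (hU : IsAffineOpen U),
    O1 ⟶ (Scheme.Modules.pushforward (RelProj.emb p chart U hU)).obj (GrTwist.twist (𝒮.deg U hU) 1))
  (hO1 : RelProj.IsRelTwist 𝒮 p chart 1 O1 lam)

/-- the canonical map `E ⟶ p_* O_{P(E)}(1)`. -/
noncomputable def φcan : E ⟶ (Scheme.Modules.pushforward p).obj O1 :=
  Groth.Agent.Helper18CanMap.canMap E 𝒮 j hj.2 p chart hP O1 lam hO1

theorem φcan_val (U : Y.Opens) (hU : IsAffineOpen U) (e : Γ(E, U))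
    (y : ↥(RelProj.emb p chart U hU ⁻¹ᵁ (p ⁻¹ᵁ U))) :
    GrTwist.val (V := RelProj.emb p chart U hU ⁻¹ᵁ (p ⁻¹ᵁ U))
        ((lam U hU).app (p ⁻¹ᵁ U) (((φcan E 𝒮 j hj p chart hP O1 lam hO1).app U) e)) y =
      algebraMap (𝒮.presheaf.obj (op U)) (GrTwist.Loc (𝒮.deg U hU) y.1)
        ((j.app U) e : 𝒮.presheaf.obj (op U)) :=
  Groth.Agent.Helper18CanMap.canMap_val E 𝒮 j hj.2 p chart hP O1 lam hO1 U hU e y

/-- the canonical quotient `p^* E ⟶ O_{P(E)}(1)`. -/
noncomputable def acan : (Scheme.Modules.pullback p).obj E ⟶ O1 :=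
  ((Scheme.Modules.pullbackPushforwardAdjunction p).homEquiv E O1).symm (φcan E 𝒮 j hj p chart hP O1 lam hO1)

include hE in
theorem epi_acan : Epi (acan E 𝒮 j hj p chart hP O1 lam hO1) :=
  Groth.Agent.Helper18VAmp.epi_adjoint_of_values E hE 𝒮 j hj p chart O1 lam hO1 _
    (φcan_val E 𝒮 j hj p chart hP O1 lam hO1)

include hE in
/-- for `E = L` invertible, `p^* L ⟶ O(1)` is an isomorphism. -/
theorem isIso_acan_of_isInvertible (hL : PicF.IsInvertible E) :
    IsIso (acan E 𝒮 j hj p chart hP O1 lam hO1) := by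
  have := epi_acan E hE 𝒮 j hj p chart hP O1 lam hO1
  exact Groth.Agent.Lib.LeadPicFF.isIso_of_epi_of_isInvertible
    (Groth.Agent.Lib.Helper23.PB.isInvertible_pullback p E hL)
    (isInvertible_relTwist 𝒮 p chart
      (Groth.Agent.Helper18VAmp.isGenDegOne_of_isGrSymAlg E hE 𝒮 j hj) 1 O1 lam hO1) _

end bundle

/-- **an invertible module is very ample relative to the identity.** -/
theorem isRelVeryAmple_id (Y : Scheme.{u}) (L : Y.Modules) (hL : PicF.IsInvertible L) :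
    RelProj.IsRelVeryAmple (𝟙 Y) L := by
  have hq : Coh.IsQCoh L := Groth.Agent.Lib.Helper23.SecTw.isQuasicoherent_of_isInvertible L hL
  have : L.IsQuasicoherent := hq
  obtain ⟨𝒮, j, hj⟩ := Groth.Agent.Helper18GrSym.exists_isGrSymAlg L hq
  have hP := Groth.Agent.Helper13ProjBC.isRelProj_relProj 𝒮
  obtain ⟨O1, lam, hO1⟩ := Groth.Agent.Lib.Helper2.RelTwistExist.exists_isRelTwist
    (Groth.Agent.Helper13ProjBC.relProjπ 𝒮) (Groth.Agent.Helper13ProjBC.relProjChart 𝒮) hP 1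
  have hiso : IsIso (Groth.Agent.Helper13ProjBC.relProjπ 𝒮) :=
    Groth.Agent.Helper13ProjLine.isIso_relProj L 𝒮 j hj _ _ hP hL
  have := isIso_acan_of_isInvertible L hq 𝒮 j hj _ _ hP O1 lam hO1 hL
  refine ⟨L, hq, 𝒮, j, hj, _, Groth.Agent.Helper13ProjBC.relProjπ 𝒮,
    Groth.Agent.Helper13ProjBC.relProjChart 𝒮, hP, O1, lam, hO1,
    inv (Groth.Agent.Helper13ProjBC.relProjπ 𝒮), inferInstance, IsIso.inv_hom_id _, ⟨?_⟩⟩
  exact (Scheme.Modules.pullbackId Y).symm.app L ≪≫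
    (Scheme.Modules.pullbackCongr (IsIso.inv_hom_id (Groth.Agent.Helper13ProjBC.relProjπ 𝒮)).symm).app L ≪≫
    (Scheme.Modules.pullbackComp (inv (Groth.Agent.Helper13ProjBC.relProjπ 𝒮))
      (Groth.Agent.Helper13ProjBC.relProjπ 𝒮)).symm.app L ≪≫
    (Scheme.Modules.pullback (inv (Groth.Agent.Helper13ProjBC.relProjπ 𝒮))).mapIso
      (asIso (acan L 𝒮 j hj _ _ hP O1 lam hO1))

end Groth.Agent.Helper18PE
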