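import Mathlib
import Groth.Prelude.Def_RelProj2
import Groth.Agent.Lib.Helper18DisjGlue
import Groth.Agent.Lib.Helper18BiprodCI
import Groth.Agent.Lib.Helper18DegOneC
import Groth.Agent.Lib.Helper18PE
import Groth.Agent.Lib.Helper18GrSym
import Groth.Agent.Lib.Helper18VAmpC
import Groth.Agent.Lib.Helper13ProjExist
import Groth.Agent.Lib.Helper2RelTwistExist
import Groth.Agent.Lib.Helper2RelTwistPullback
import Groth.Agent.Lib.Helper27RelProj4
import Groth.Agent.Lib.Helper13RelProjE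

/-!
# Very ampleness on a disjoint union (helper18)
-/

set_option autoImplicit false
set_option linter.unusedSectionVars false
universe u
open CategoryTheory Limits AlgebraicGeometry TopologicalSpace Opposite
open scoped HomogeneousIdeal

namespace Groth.Agent.Helper18DU

/-- the squares of a coproduct of two morphisms are cartesian. -/
theorem isPullback_coprodMap {X X' T T' : Scheme.{u}} (i : X ⟶ T) (i' : X' ⟶ T') :
    IsPullback (coprod.inl : X ⟶ X ⨿ X') i (coprod.map i i') (coprod.inl : T ⟶ T ⨿ T') ∧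
      IsPullback (coprod.inr : X' ⟶ X ⨿ X') i' (coprod.map i i') (coprod.inr : T' ⟶ T ⨿ T') := by
  have hvk := FinitaryExtensive.vanKampen (BinaryCofan.mk (coprod.inl : T ⟶ T ⨿ T') coprod.inr)
    (coprodIsCoprod T T')
  have h := (BinaryCofan.isVanKampen_iff _).mp hvk (BinaryCofan.mk (coprod.inl : X ⟶ X ⨿ X') coprod.inr)
    i i' (coprod.map i i') (coprod.inl_map i i').symm (coprod.inr_map i i').symm
  exact h.mp ⟨coprodIsCoprod X X'⟩

/-- a coproduct of two immersions is an immersion. -/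
theorem isImmersion_coprodMap {X X' T T' : Scheme.{u}} (i : X ⟶ T) (i' : X' ⟶ T') [IsImmersion i]
    [IsImmersion i'] : IsImmersion (coprod.map i i') := by
  obtain ⟨h1, h2⟩ := isPullback_coprodMap i i'
  refine IsZariskiLocalAtTarget.of_openCover (P := @IsImmersion) (coprodOpenCover.{u, 0} T T') ?_
  rintro (⟨⟩ | ⟨⟩)
  · change IsImmersion (pullback.snd (coprod.map i i') (coprod.inl : T ⟶ T ⨿ T'))
    have e : pullback.snd (coprod.map i i') (coprod.inl : T ⟶ T ⨿ T') = h1.isoPullback.inv ≫ i := by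
      rw [Iso.eq_inv_comp]
      exact h1.isoPullback_hom_snd
    rw [e]
    infer_instance
  · change IsImmersion (pullback.snd (coprod.map i i') (coprod.inr : T' ⟶ T ⨿ T'))
    have e : pullback.snd (coprod.map i i') (coprod.inr : T' ⟶ T ⨿ T') = h2.isoPullback.inv ≫ i' := by
      rw [Iso.eq_inv_comp]
      exact h2.isoPullback_hom_snd
    rw [e]
    infer_instance

section ring

variable {A B σ τ : Type u} [CommRing A] [SetLike σ A] [AddSubgroupClass σ A]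
  [CommRing B] [SetLike τ B] [AddSubgroupClass τ B]
  {𝒜 : ℕ → σ} {ℬ : ℕ → τ} [GradedRing 𝒜] [GradedRing ℬ]
  (f : 𝒜 →+*ᵍ ℬ)

theorem irrelevant_le_map_of_surjective (hsurj : Function.Surjective f) : ℬ₊ ≤ 𝒜₊.map f := by
  rw [HomogeneousIdeal.irrelevant_le]
  intro i hi b hb
  obtain ⟨a, ha, rfl⟩ := Groth.Agent.Helper13RelProj.exists_mem_of_surjective f hsurj hb
  exact Ideal.mem_map_of_mem _ (HomogeneousIdeal.mem_irrelevant_of_mem _ hi ha)

end ring

section proj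

variable {Y : Scheme.{u}} (E F : Y.Modules) (hE : Coh.IsQCoh E) (hF : Coh.IsQCoh F)
  (𝒮E : RelProj.QCGrAlg Y) (jE : E ⟶ 𝒮E.toModule) (hjE : RelProj.IsGrSymAlg E 𝒮E jE)
  (𝒮 : RelProj.QCGrAlg Y) (j : E ⊞ F ⟶ 𝒮.toModule) (hj : RelProj.IsGrSymAlg (E ⊞ F) 𝒮 j)

include hE hF hjE hj in
/-- the graded projection `Sym(E ⊕ F) ⟶ Sym(E)` and its properties. -/
theorem exists_proj_fst :
    ∃ (πE : 𝒮.toQCAlg ⟶ 𝒮E.toQCAlg) (hπE : RelProj.IsGradedHom πE),
      j ≫ RelSpec.QCAlg.Hom.toModuleMap πE = biprod.fst ≫ jE ∧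
      ∀ (U : Y.Opens) (hU : IsAffineOpen U),
        (𝒮E.deg U hU)₊ ≤ ((𝒮.deg U hU)₊).map (RelProj.gradedHomAt πE hπE U hU) := by
  have hEq : E.IsQuasicoherent := hE
  have hFq : F.IsQuasicoherent := hF
  have hEF : Coh.IsQCoh (E ⊞ F) := Groth.Agent.Lib.Helper23.QCohLocal.isQuasicoherent_biprod E F
  obtain ⟨πE, hπE, -⟩ := hj.1 𝒮E.toQCAlg (biprod.fst ≫ jE)
  have hgr : RelProj.IsGradedHom πE := by
    refine Groth.Agent.Helper18DegOne.isGradedHom_of_factor 𝒮E (E ⊞ F) hEF 𝒮 j hj πE ?_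
    intro U hU e
    rw [hπE]
    exact hjE.2 U hU _
  refine ⟨πE, hgr, hπE, fun U hU => ?_⟩
  apply irrelevant_le_map_of_surjective
  refine Groth.Agent.Helper18BiprodCI.surjective_app_of_factor E hE 𝒮.toQCAlg 𝒮E.toQCAlg jE hjE.1 πE
    (biprod.inl ≫ j) ?_ U hU
  rw [Category.assoc, hπE, biprod.inl_fst_assoc]

end proj

section proj2

variable {Y : Scheme.{u}} (E F : Y.Modules) (hE : Coh.IsQCoh E) (hF : Coh.IsQCoh F)
  (𝒮F : RelProj.QCGrAlg Y) (jF : F ⟶ 𝒮F.toModule) (hjF : RelProj.IsGrSymAlg F 𝒮F jF)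
  (𝒮 : RelProj.QCGrAlg Y) (j : E ⊞ F ⟶ 𝒮.toModule) (hj : RelProj.IsGrSymAlg (E ⊞ F) 𝒮 j)

include hE hF hjF hj in
/-- the graded projection `Sym(E ⊕ F) ⟶ Sym(F)` and its properties. -/
theorem exists_proj_snd :
    ∃ (πF : 𝒮.toQCAlg ⟶ 𝒮F.toQCAlg) (hπF : RelProj.IsGradedHom πF),
      j ≫ RelSpec.QCAlg.Hom.toModuleMap πF = biprod.snd ≫ jF ∧
      ∀ (U : Y.Opens) (hU : IsAffineOpen U),
        (𝒮F.deg U hU)₊ ≤ ((𝒮.deg U hU)₊).map (RelProj.gradedHomAt πF hπF U hU) := by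
  have hEq : E.IsQuasicoherent := hE
  have hFq : F.IsQuasicoherent := hF
  have hEF : Coh.IsQCoh (E ⊞ F) := Groth.Agent.Lib.Helper23.QCohLocal.isQuasicoherent_biprod E F
  obtain ⟨πF, hπF, -⟩ := hj.1 𝒮F.toQCAlg (biprod.snd ≫ jF)
  have hgr : RelProj.IsGradedHom πF := by
    refine Groth.Agent.Helper18DegOne.isGradedHom_of_factor 𝒮F (E ⊞ F) hEF 𝒮 j hj πF ?_
    intro U hU e
    rw [hπF]
    exact hjF.2 U hU _
  refine ⟨πF, hgr, hπF, fun U hU => ?_⟩
  apply irrelevant_le_map_of_surjective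
  refine Groth.Agent.Helper18BiprodCI.surjective_app_of_factor F hF 𝒮.toQCAlg 𝒮F.toQCAlg jF hjF.1 πF
    (biprod.inr ≫ j) ?_ U hU
  rw [Category.assoc, hπF, biprod.inr_snd_assoc]

end proj2

/-- **very ampleness on a disjoint union from very ampleness on the two pieces.** -/
theorem isRelVeryAmple_coprod {X X' Y : Scheme.{u}} (f'' : X ⨿ X' ⟶ Y) (L'' : (X ⨿ X').Modules)
    (h₁ : RelProj.IsRelVeryAmple (coprod.inl ≫ f'')
      ((Scheme.Modules.pullback (coprod.inl : X ⟶ X ⨿ X')).obj L''))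
    (h₂ : RelProj.IsRelVeryAmple (coprod.inr ≫ f'')
      ((Scheme.Modules.pullback (coprod.inr : X' ⟶ X ⨿ X')).obj L'')) :
    RelProj.IsRelVeryAmple f'' L'' := by
  obtain ⟨E, hE, 𝒮E, jE, hjE, PE, pE, chartE, hPE, O1E, lamE, hO1E, i, hi, hip, ⟨φ⟩⟩ := h₁
  obtain ⟨F, hF, 𝒮F, jF, hjF, PF, pF, chartF, hPF, O1F, lamF, hO1F, i', hi', hip', ⟨φ'⟩⟩ := h₂
  have hEq : E.IsQuasicoherent := hE
  have hFq : F.IsQuasicoherent := hF
  have hEF : Coh.IsQCoh (E ⊞ F) := Groth.Agent.Lib.Helper23.QCohLocal.isQuasicoherent_biprod E F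
  obtain ⟨𝒮, j, hj⟩ := Groth.Agent.Helper18GrSym.exists_isGrSymAlg (E ⊞ F) hEF
  obtain ⟨πE, hπE, hjπE, hirrE⟩ := exists_proj_fst E F hE hF 𝒮E jE hjE 𝒮 j hj
  obtain ⟨πF, hπF, hjπF, hirrF⟩ := exists_proj_snd E F hE hF 𝒮F jF hjF 𝒮 j hj
  have hP := Groth.Agent.Helper13ProjBC.isRelProj_relProj 𝒮
  obtain ⟨O1, lam, hO1⟩ := Groth.Agent.Lib.Helper2.RelTwistExist.exists_isRelTwist
    (Groth.Agent.Helper13ProjBC.relProjπ 𝒮) (Groth.Agent.Helper13ProjBC.relProjChart 𝒮) hP 1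
  obtain ⟨hE', hhE⟩ := Groth.Agent.Helper13RelProj.exists_relProjMap πE hπE hirrE hP hPE
  obtain ⟨hF', hhF⟩ := Groth.Agent.Helper13RelProj.exists_relProjMap πF hπF hirrF hP hPF
  have hci : IsClosedImmersion (coprod.desc hE' hF') :=
    Groth.Agent.Helper18BiprodCI.isClosedImmersion_coprodDesc E F hE hF 𝒮E 𝒮F 𝒮 jE hjE jF hjF j hj πE hπE hjπE
      πF hπF hjπF hirrE hirrF _ pE pF _ chartE chartF hP hPE hPF hE' hhE hF' hhF
  have hoverE : hE' ≫ Groth.Agent.Helper13ProjBC.relProjπ 𝒮 = pE :=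
    Groth.Agent.Lib.Helper27RelProj4.relProjMap_over πE hπE hirrE hP hPE hhE
  have hoverF : hF' ≫ Groth.Agent.Helper13ProjBC.relProjπ 𝒮 = pF :=
    Groth.Agent.Lib.Helper27RelProj4.relProjMap_over πF hπF hirrF hP hPF hhF
  have hgen : 𝒮.IsGenDegOne := Groth.Agent.Helper18VAmp.isGenDegOne_of_isGrSymAlg (E ⊞ F) hEF 𝒮 j hj
  obtain ⟨θE⟩ := Groth.Agent.Lib.Helper2.RelTwistPullback.nonempty_pullback_iso πE hπE hirrE _ pE _ chartE hE' 1
    O1 lam hO1 O1E lamE hO1E hP hPE hhE hgen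
  obtain ⟨θF⟩ := Groth.Agent.Lib.Helper2.RelTwistPullback.nonempty_pullback_iso πF hπF hirrF _ pF _ chartF hF' 1
    O1 lam hO1 O1F lamF hO1F hP hPF hhF hgen
  have : IsImmersion i := hi
  have : IsImmersion i' := hi'
  have : IsImmersion (coprod.map i i') := isImmersion_coprodMap i i'
  obtain ⟨t, ht⟩ : ∃ t : X ⨿ X' ⟶ Groth.Agent.Helper13ProjBC.relProj 𝒮,
      t = coprod.map i i' ≫ coprod.desc hE' hF' := ⟨_, rfl⟩
  have ht₁ : coprod.inl ≫ t = i ≫ hE' := by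
    rw [ht, coprod.inl_map_assoc, coprod.inl_desc]
  have ht₂ : coprod.inr ≫ t = i' ≫ hF' := by
    rw [ht, coprod.inr_map_assoc, coprod.inr_desc]
  have htimm : IsImmersion t := by
    rw [ht]
    infer_instance
  refine ⟨E ⊞ F, hEF, 𝒮, j, hj, _, _, _, hP, O1, lam, hO1, t, htimm, ?_, ?_⟩
  · apply coprod.hom_ext
    · rw [← Category.assoc, ht₁, Category.assoc, hoverE, hip]
    · rw [← Category.assoc, ht₂, Category.assoc, hoverF, hip']
  · have hcov : ∀ z : ↥(X ⨿ X'), z ∈ Set.range (coprod.inl : X ⟶ X ⨿ X') ∨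
        z ∈ Set.range (coprod.inr : X' ⟶ X ⨿ X') := by
      intro z
      have h1 := (isCompl_range_inl_inr X X').sup_eq_top
      have hz : z ∈ Set.range (coprod.inl : X ⟶ X ⨿ X') ⊔ Set.range (coprod.inr : X' ⟶ X ⨿ X') := by
        rw [h1]
        trivial
      exact hz
    refine Groth.Agent.Helper18DisjGlue.nonempty_iso_of_restrict_iso (coprod.inl : X ⟶ X ⨿ X')
      (coprod.inr : X' ⟶ X ⨿ X') hcov (fun x x' => inl_ne_inr X X' x x') _ _ ?_ ?_
    · exact (Scheme.Modules.restrictFunctorIsoPullback (coprod.inl : X ⟶ X ⨿ X')).app L'' ≪≫ φ ≪≫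
        (Scheme.Modules.pullback i).mapIso θE.symm ≪≫ (Scheme.Modules.pullbackComp i hE').app O1 ≪≫
        (Scheme.Modules.pullbackCongr ht₁.symm).app O1 ≪≫
        ((Scheme.Modules.pullbackComp (coprod.inl : X ⟶ X ⨿ X') t).app O1).symm ≪≫
        ((Scheme.Modules.restrictFunctorIsoPullback (coprod.inl : X ⟶ X ⨿ X')).app _).symm
    · exact (Scheme.Modules.restrictFunctorIsoPullback (coprod.inr : X' ⟶ X ⨿ X')).app L'' ≪≫ φ' ≪≫
        (Scheme.Modules.pullback i').mapIso θF.symm ≪≫ (Scheme.Modules.pullbackComp i' hF').app O1 ≪≫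
        (Scheme.Modules.pullbackCongr ht₂.symm).app O1 ≪≫
        ((Scheme.Modules.pullbackComp (coprod.inr : X' ⟶ X ⨿ X') t).app O1).symm ≪≫
        ((Scheme.Modules.restrictFunctorIsoPullback (coprod.inr : X' ⟶ X ⨿ X')).app _).symm

/-- very ampleness restricts to an open-and-closed piece. -/
theorem isRelVeryAmple_of_openImmersion {X Z Y : Scheme.{u}} (ι : X ⟶ Z) [IsOpenImmersion ι] (f : Z ⟶ Y)
    (L : Z.Modules) (h : RelProj.IsRelVeryAmple f L) :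
    RelProj.IsRelVeryAmple (ι ≫ f) ((Scheme.Modules.pullback ι).obj L) := by
  obtain ⟨E, hE, 𝒮E, jE, hjE, PE, pE, chartE, hPE, O1E, lamE, hO1E, i, hi, hip, ⟨φ⟩⟩ := h
  have : IsImmersion i := hi
  refine ⟨E, hE, 𝒮E, jE, hjE, PE, pE, chartE, hPE, O1E, lamE, hO1E, ι ≫ i, inferInstance, ?_, ⟨?_⟩⟩
  · rw [Category.assoc, hip]
  · exact (Scheme.Modules.pullback ι).mapIso φ ≪≫ (Scheme.Modules.pullbackComp ι i).app O1E


end Groth.Agent.Helper18DU
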