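import Mathlib

set_option autoImplicit false
set_option linter.style.haveILetI false
universe u

namespace Groth.Agent.Helper18Dbl

section alg

variable {R S : Type u} [CommRing R] [CommRing S] [Algebra R S]

/-- Cayley–Hamilton in rank two: a trace-zero element squares to a scalar. -/
theorem sq_eq_algebraMap_of_trace_zero (b : Module.Basis (Fin 2) R S) (x : S)
    (hx : Algebra.trace R S x = 0) : ∃ c : R, x * x = algebraMap R S c := by
  cases subsingleton_or_nontrivial R
  · haveI : Subsingleton S := Module.subsingleton R S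
    exact ⟨0, Subsingleton.elim _ _⟩
  set M := Algebra.leftMulMatrix b x with hM
  have htr : M.trace = 0 := by
    rw [← Algebra.trace_eq_matrix_trace b x, hx]
  have hch := Matrix.aeval_self_charpoly M
  rw [Matrix.charpoly_fin_two, htr] at hch
  simp only [map_zero, zero_mul, sub_zero, map_add, map_pow, Polynomial.aeval_X,
    Polynomial.aeval_C] at hch
  refine ⟨-M.det, ?_⟩
  apply Algebra.leftMulMatrix_injective b
  rw [map_mul, ← hM, map_neg, map_neg, AlgHom.commutes]
  rw [pow_two] at hch
  exact eq_neg_of_add_eq_zero_left hch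

theorem mul_eq_algebraMap_of_trace_zero (b : Module.Basis (Fin 2) R S) (e : R) (he : e * 2 = 1)
    (x y : S) (hx : Algebra.trace R S x = 0) (hy : Algebra.trace R S y = 0) :
    x * y = algebraMap R S (e * Algebra.trace R S (x * y)) := by
  obtain ⟨c₁, h₁⟩ := sq_eq_algebraMap_of_trace_zero b x hx
  obtain ⟨c₂, h₂⟩ := sq_eq_algebraMap_of_trace_zero b y hy
  obtain ⟨c₃, h₃⟩ := sq_eq_algebraMap_of_trace_zero b (x + y) (by rw [map_add, hx, hy, add_zero])
  have h4 : 2 * (x * y) = algebraMap R S (c₃ - c₁ - c₂) := by
    rw [map_sub, map_sub, ← h₁, ← h₂, ← h₃]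
    ring
  have h5 : x * y = algebraMap R S (e * (c₃ - c₁ - c₂)) := by
    rw [map_mul, ← h4, ← mul_assoc]
    have : algebraMap R S e * 2 = 1 := by
      rw [← map_ofNat (algebraMap R S) 2, ← map_mul, he, map_one]
    rw [this, one_mul]
  have h6 : Algebra.trace R S (x * y) = 2 * (e * (c₃ - c₁ - c₂)) := by
    rw [h5, Algebra.trace_algebraMap_of_basis b, Fintype.card_fin]
    simp
  rw [h6, ← mul_assoc, he, one_mul]
  exact h5

end alg

end Groth.Agent.Helper18Dbl
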