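import Mathlib
import Groth.Agent.Lib.Helper18Trace4
import Groth.Agent.Lib.Helper18Dbl2

set_option autoImplicit false
set_option linter.style.haveILetI false
universe u
open CategoryTheory CategoryTheory.Limits AlgebraicGeometry TopologicalSpace Opposite

namespace Groth.Agent.Helper18Trace

variable {X : Scheme.{u}}

/-- restriction of a global function. -/
noncomputable def resTop (e : Γ(X, ⊤)) (U : X.Opens) : Γ(X, U) :=
  (X.presheaf.map (homOfLE (le_top : U ≤ ⊤)).op).hom e

theorem resTop_map (e : Γ(X, ⊤)) {U V : (Opens X)ᵒᵖ} (i : U ⟶ V) :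
    (X.presheaf.map i).hom (resTop e U.unop) = resTop e V.unop := by
  unfold resTop
  rw [← CommRingCat.comp_apply, ← Functor.map_comp]
  rfl

theorem mulEnd_aux1 (e : Γ(X, ⊤)) {U V : (Opens X)ᵒᵖ} (i : U ⟶ V) (s : Γ(X, U.unop)) :
    (X.presheaf.map i).hom (resTop e U.unop * s) = resTop e V.unop * (X.presheaf.map i).hom s := by
  rw [map_mul, resTop_map]

theorem mulEnd_aux2 (e : Γ(X, ⊤)) (U : X.Opens) (r s : Γ(X, U)) :
    resTop e U * (r * s) = r * (resTop e U * s) := by ring

/-- multiplication by a global function, as an endomorphism of the structure module. -/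
noncomputable def mulEnd (e : Γ(X, ⊤)) : Coh.structureModule X ⟶ Coh.structureModule X :=
  ⟨PresheafOfModules.homMk
    { app := fun U => AddCommGrpCat.ofHom (AddMonoidHom.mulLeft (resTop e U.unop))
      naturality := fun U V i => by
        ext s
        exact (mulEnd_aux1 e i s).symm }
    (fun U r s => mulEnd_aux2 e U.unop r s)⟩

theorem mulEnd_app (e : Γ(X, ⊤)) (U : X.Opens) (s : Γ(X, U)) :
    ((mulEnd e).val.app (op U)).hom s = resTop e U * s := rfl

variable (A : RelSpec.QCAlg X)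

theorem split_apply (d : ℕ) (hA : FlatMod.IsFinLocFreeOfRank d A.toModule)
    (τ : A.toModule ⟶ Coh.structureModule X) (hτ : FinCov.IsTrace A τ)
    (hd : IsUnit ((d : Γ(X, ⊤)))) (U : X.Opens) (s : Γ(X, U)) :
    (τ.val.app (op U)).hom ((A.str.app (op U)).hom (resTop (↑hd.unit⁻¹ : Γ(X, ⊤)) U * s)) = s := by
  rw [trace_str_apply A d hA τ hτ U _, nsmul_eq_mul, ← mul_assoc]
  have h1 : (d : Γ(X, U)) * resTop (↑hd.unit⁻¹ : Γ(X, ⊤)) U = 1 := by
    have h2 : (d : Γ(X, ⊤)) * (↑hd.unit⁻¹ : Γ(X, ⊤)) = 1 := hd.mul_val_inv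
    have h3 := congrArg (X.presheaf.map (homOfLE (le_top : U ≤ ⊤)).op).hom h2
    rw [map_mul, map_natCast, map_one] at h3
    exact h3
  rw [h1, one_mul]

/-- the section of the trace when the rank is invertible. -/
noncomputable def traceSection (d : ℕ) (hd : IsUnit ((d : Γ(X, ⊤)))) :
    Coh.structureModule X ⟶ A.toModule :=
  mulEnd (↑hd.unit⁻¹ : Γ(X, ⊤)) ≫ FinCov.strMod A

theorem traceSection_comp (d : ℕ) (hA : FlatMod.IsFinLocFreeOfRank d A.toModule)
    (τ : A.toModule ⟶ Coh.structureModule X) (hτ : FinCov.IsTrace A τ)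
    (hd : IsUnit ((d : Γ(X, ⊤)))) : traceSection A d hd ≫ τ = 𝟙 _ := by
  apply Scheme.Modules.hom_ext
  intro U
  ext s
  exact split_apply A d hA τ hτ hd U s

end Groth.Agent.Helper18Trace
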