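import Mathlib
import Groth.Agent.Lib.Helper18Trace5
import Groth.Agent.Lib.Helper23QCohAbelian

set_option autoImplicit false
set_option linter.style.haveILetI false
universe u
open CategoryTheory CategoryTheory.Limits AlgebraicGeometry TopologicalSpace Opposite

namespace Groth.Agent.Helper18Trace

variable {X : Scheme.{u}}

open Groth.Agent.Lib.Helper2.RankLoc in
attribute [local instance] RingHomInvPair.of_ringEquiv RingHomInvPair.of_ringEquiv_symm in
/-- transfer of a basis of sections along an open immersion. -/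
theorem nonempty_basis_image (M : X.Modules) {Y : Scheme.{u}} (f : Y ⟶ X)
    [IsOpenImmersion f] {n : ℕ} {V : Y.Opens} [Nontrivial Γ(Y, V)]
    (b : Module.Basis (Fin n) Γ(Y, V) Γ(M.restrict f, V)) :
    Nonempty (Module.Basis (Fin n) Γ(X, f ''ᵁ V) Γ(M, f ''ᵁ V)) := by
  haveI hfreeY : Module.Free Γ(Y, V) Γ(M.restrict f, V) := Module.Free.of_basis b
  have hrkY : Module.finrank Γ(Y, V) Γ(M.restrict f, V) = n := by
    rw [Module.finrank_eq_card_basis b, Fintype.card_fin]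
  let σ : Γ(Y, V) ≃+* Γ(X, f ''ᵁ V) := (f.appIso V).symm.commRingCatIsoToRingEquiv
  let j : Γ(M.restrict f, V) ≃+ Γ(M, f ''ᵁ V) := (M.restrictAppIso f V).addCommGroupIsoToAddEquiv
  have hc : ∀ (r : Γ(Y, V)) (m : Γ(M.restrict f, V)), j (r • m) = σ r • j m :=
    fun r m => Scheme.Modules.smul_restrictAppIso_hom_apply f M V r m
  haveI hfreeX : Module.Free Γ(X, f ''ᵁ V) Γ(M, f ''ᵁ V) := by
    refine (Module.Free.iff_of_equiv (σ := (σ : Γ(Y, V) →+* Γ(X, f ''ᵁ V)))
      (σ' := (σ.symm : Γ(X, f ''ᵁ V) →+* Γ(Y, V))) ?_).1 hfreeY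
    exact { j with map_smul' := hc }
  have hrkX : Module.finrank Γ(X, f ''ᵁ V) Γ(M, f ''ᵁ V) = n := by
    rw [← hrkY]
    exact (congrArg Cardinal.toNat (rank_eq_of_equiv_equiv σ j σ.bijective hc)).symm
  haveI : Nontrivial Γ(X, f ''ᵁ V) := σ.injective.nontrivial
  haveI : Module.Finite Γ(Y, V) Γ(M.restrict f, V) := Module.Finite.of_basis b
  haveI : Module.Finite Γ(X, f ''ᵁ V) Γ(M, f ''ᵁ V) := by
    let J : Γ(M.restrict f, V) →ₛₗ[(σ : Γ(Y, V) →+* Γ(X, f ''ᵁ V))] Γ(M, f ''ᵁ V) :=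
      { j with map_smul' := hc }
    exact Module.Finite.of_surjective J j.surjective
  exact ⟨Module.finBasisOfFinrankEq _ _ hrkX⟩

section split

open Groth.Agent.Helper18Dbl Groth.Agent.Helper18Cart

variable {M : X.Modules} (τ : M ⟶ Coh.structureModule X) (σ : Coh.structureModule X ⟶ M)
  (hστ : σ ≫ τ = 𝟙 _)

/-- the retraction onto the kernel of a split epimorphism. -/
noncomputable def retr : M ⟶ kernel τ :=
  kernel.lift τ (𝟙 M - τ ≫ σ) (by
    rw [Preadditive.sub_comp, Category.id_comp, Category.assoc, hστ, Category.comp_id, sub_self])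

theorem retr_ι : retr τ σ hστ ≫ kernel.ι τ = 𝟙 M - τ ≫ σ := kernel.lift_ι _ _ _

theorem ι_retr : kernel.ι τ ≫ retr τ σ hστ = 𝟙 _ := by
  rw [← cancel_mono (kernel.ι τ), Category.assoc, retr_ι, Preadditive.comp_sub, Category.comp_id,
    ← Category.assoc, kernel.condition, zero_comp, sub_zero, Category.id_comp]

theorem σ_retr : σ ≫ retr τ σ hστ = 0 := by
  rw [← cancel_mono (kernel.ι τ), Category.assoc, retr_ι, Preadditive.comp_sub, Category.comp_id,
    ← Category.assoc, hστ, Category.id_comp, sub_self, zero_comp]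

theorem app_eq_of_eq {M N : X.Modules} {φ ψ : M ⟶ N} (h : φ = ψ) (W : X.Opens) (x : Γ(M, W)) :
    φ.app W x = ψ.app W x := by rw [h]

/-- sections of the source of a split epimorphism onto `O_X` decompose. -/
noncomputable def splitEquiv (W : X.Opens) :
    (Γ(kernel τ, W) × Γ(X, W)) ≃ₗ[Γ(X, W)] Γ(M, W) :=
  LinearEquiv.ofLinear
    ((appL (kernel.ι τ) W).coprod ((appL σ W).comp (strEquiv X W).symm.toLinearMap))
    ((appL (retr τ σ hστ) W).prod ((strEquiv X W).toLinearMap.comp (appL τ W)))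
    (by
      ext a
      have h1 := app_eq_of_eq (retr_ι τ σ hστ) W a
      change (kernel.ι τ).app W ((retr τ σ hστ).app W a) + σ.app W (τ.app W a) = a
      have h2 : (kernel.ι τ).app W ((retr τ σ hστ).app W a) = a - σ.app W (τ.app W a) := h1
      rw [h2]
      abel)
    (by
      apply LinearMap.ext
      rintro ⟨k, s⟩
      have h1 := app_eq_of_eq (ι_retr τ σ hστ) W k
      have h2 := app_eq_of_eq (σ_retr τ σ hστ) W ((strEquiv X W).symm s)
      have h3 := app_eq_of_eq (kernel.condition τ) W k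
      have h4 := app_eq_of_eq hστ W ((strEquiv X W).symm s)
      have h1' : (retr τ σ hστ).app W ((kernel.ι τ).app W k) = k := h1
      have h2' : (retr τ σ hστ).app W (σ.app W ((strEquiv X W).symm s)) = 0 := h2
      have h3' : τ.app W ((kernel.ι τ).app W k) = 0 := h3
      have h4' : τ.app W (σ.app W ((strEquiv X W).symm s)) = (strEquiv X W).symm s := h4
      change ((retr τ σ hστ).app W ((kernel.ι τ).app W k + σ.app W ((strEquiv X W).symm s)),
        strEquiv X W (τ.app W ((kernel.ι τ).app W k + σ.app W ((strEquiv X W).symm s)))) = (k, s)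
      rw [map_add, map_add, h1', h2', h3', h4', add_zero, zero_add]
      simp)

end split

open Groth.Agent.Lib.Helper20.LocFree Groth.Agent.Lib.Helper20.OmegaAff
  Groth.Agent.Lib.Helper23.QCohLocal Groth.Agent.Helper18FinFlat Groth.Agent.Lib.Helper2.RankLoc in
/-- the kernel of a split epimorphism from a locally free module of rank `d` onto `O_X` is locally
free of rank `d - 1`. -/
theorem isFinLocFreeOfRank_kernel {M : X.Modules} [M.IsQuasicoherent] (d : ℕ)
    (hM : FlatMod.IsFinLocFreeOfRank d M) (τ : M ⟶ Coh.structureModule X)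
    (σ : Coh.structureModule X ⟶ M) (hστ : σ ≫ τ = 𝟙 _) :
    FlatMod.IsFinLocFreeOfRank (d - 1) (kernel τ) := by
  haveI : (kernel τ).IsQuasicoherent := isQuasicoherent_kernel τ
  intro x
  obtain ⟨U₀, hx₀, ⟨e⟩⟩ := hM x
  let F := Scheme.Modules.restrictFunctor U₀.ι
  let K : (U₀ : Scheme.{u}).Modules := F.obj (kernel τ)
  let s : K ⟶ FlatMod.freeMod (U₀ : Scheme.{u}) d := F.map (kernel.ι τ) ≫ e.hom
  let r : FlatMod.freeMod (U₀ : Scheme.{u}) d ⟶ K := e.inv ≫ F.map (retr τ σ hστ)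
  have hsr : s ≫ r = 𝟙 K := by
    simp only [s, r, Category.assoc, Iso.hom_inv_id_assoc, ← F.map_comp, ι_retr, F.map_id]
    rfl
  have hK := isFinLocFree_of_retract s r hsr
  obtain ⟨V', m, hyV', ⟨e'⟩⟩ := hK ⟨x, hx₀⟩
  obtain ⟨W', hW', hyW', ⟨b'⟩⟩ :=
    exists_affine_basis_of_restrict_iso_freeMod' K V'.ι e' ⟨⟨x, hx₀⟩, hyV'⟩
  haveI : Nonempty W' := ⟨⟨_, hyW'⟩⟩
  haveI : Nontrivial Γ((U₀ : Scheme.{u}), W') := inferInstance
  obtain ⟨b₁⟩ := nonempty_basis_image (kernel τ) U₀.ι b'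
  obtain ⟨E⟩ := nonempty_sections_equiv_of_iso_freeMod (M.restrict U₀.ι) e hW'
  let b₂' : Module.Basis (Fin d) Γ((U₀ : Scheme.{u}), W') Γ(M.restrict U₀.ι, W') :=
    Module.Basis.ofRepr E
  obtain ⟨b₂⟩ := nonempty_basis_image M U₀.ι b₂'
  have hW : IsAffineOpen (U₀.ι ''ᵁ W') := hW'.image_of_isOpenImmersion U₀.ι
  have hxW : x ∈ U₀.ι ''ᵁ W' := ⟨_, hyW', rfl⟩
  haveI : Nonempty (U₀.ι ''ᵁ W' : X.Opens) := ⟨⟨x, hxW⟩⟩
  haveI : Nontrivial Γ(X, U₀.ι ''ᵁ W') := inferInstance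
  haveI : Module.Free Γ(X, U₀.ι ''ᵁ W') Γ(kernel τ, U₀.ι ''ᵁ W') := Module.Free.of_basis b₁
  haveI : Module.Finite Γ(X, U₀.ι ''ᵁ W') Γ(kernel τ, U₀.ι ''ᵁ W') := Module.Finite.of_basis b₁
  have hrank : m + 1 = d := by
    have e1 := (splitEquiv τ σ hστ (U₀.ι ''ᵁ W')).finrank_eq
    rw [Module.finrank_prod, Module.finrank_eq_card_basis b₁, Module.finrank_self,
      Module.finrank_eq_card_basis b₂, Fintype.card_fin, Fintype.card_fin] at e1
    exact e1
  have hm : m = d - 1 := by omega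
  subst hm
  exact ⟨U₀.ι ''ᵁ W', hxW, ⟨restrictIsoFreeMod (kernel τ) hW b₁⟩⟩

theorem main_S19696 (A : RelSpec.QCAlg X) (d : ℕ)
    (hA : FlatMod.IsFinLocFreeOfRank d A.toModule)
    (τ : A.toModule ⟶ Coh.structureModule X) (hτ : FinCov.IsTrace A τ)
    (hd : IsUnit ((d : Γ(X, ⊤)))) :
    IsSplitEpi τ ∧ FlatMod.IsFinLocFreeOfRank (d - 1) (kernel τ) := by
  have h := traceSection_comp A d hA τ hτ hd
  exact ⟨IsSplitEpi.mk' ⟨traceSection A d hd, h⟩,
    isFinLocFreeOfRank_kernel d hA τ (traceSection A d hd) h⟩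

end Groth.Agent.Helper18Trace
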