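import Mathlib
import Groth.Agent.Lib.Helper18Dbl3
import Groth.Agent.Lib.Helper18Tens1
import Groth.Agent.Lib.Helper18Trace6

set_option autoImplicit false
set_option linter.style.haveILetI false
universe u
open CategoryTheory CategoryTheory.Limits AlgebraicGeometry TopologicalSpace Opposite

namespace Groth.Agent.Helper18Dbl

open Groth.Agent.Helper18Trace Groth.Agent.Helper18Tens

variable {X : Scheme.{u}} (A : RelSpec.QCAlg X) (τ : A.toModule ⟶ Coh.structureModule X)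

/-- the inclusion of the kernel of the trace, on sections, with values in the ring `A(Z)`. -/
noncomputable def ιs (Z : (Opens X)ᵒᵖ) (l : (kernel τ).val.obj Z) : A.presheaf.obj Z :=
  ((kernel.ι τ).val.app Z).hom l

/-- the trace on sections, as a function on the ring `A(Z)`. -/
noncomputable def τs (Z : (Opens X)ᵒᵖ) (a : A.presheaf.obj Z) : Γ(X, Z.unop) :=
  (τ.val.app Z).hom a

theorem ιs_add (Z : (Opens X)ᵒᵖ) (l l' : (kernel τ).val.obj Z) :
    ιs A τ Z (l + l') = ιs A τ Z l + ιs A τ Z l' :=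
  map_add ((kernel.ι τ).val.app Z).hom l l'

theorem ιs_smul (Z : (Opens X)ᵒᵖ) (a : X.ringCatSheaf.obj.obj Z) (l : (kernel τ).val.obj Z) :
    ιs A τ Z (a • l) = (A.str.app Z).hom a * ιs A τ Z l :=
  map_smul ((kernel.ι τ).val.app Z).hom a l

theorem ιs_res {Z W : (Opens X)ᵒᵖ} (f : Z ⟶ W) (l : (kernel τ).val.obj Z) :
    (A.presheaf.map f).hom (ιs A τ Z l) = ιs A τ W ((kernel τ).val.map f l) :=
  (PresheafOfModules.naturality_apply (kernel.ι τ).val f l).symm

theorem τs_add (Z : (Opens X)ᵒᵖ) (a b : A.presheaf.obj Z) :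
    τs A τ Z (a + b) = τs A τ Z a + τs A τ Z b :=
  map_add (τ.val.app Z).hom _ _

/-- cast of a scalar to a function. -/
def toΓ (Z : (Opens X)ᵒᵖ) (r : X.ringCatSheaf.obj.obj Z) : Γ(X, Z.unop) := r

theorem τs_smul (Z : (Opens X)ᵒᵖ) (r : X.ringCatSheaf.obj.obj Z) (a : A.presheaf.obj Z) :
    τs A τ Z ((A.str.app Z).hom r * a) = toΓ Z r * τs A τ Z a :=
  map_smul (τ.val.app Z).hom r (show A.toModule.val.obj Z from a)

theorem τs_res {Z W : (Opens X)ᵒᵖ} (f : Z ⟶ W) (a : A.presheaf.obj Z) :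
    (X.presheaf.map f).hom (τs A τ Z a) = τs A τ W ((A.presheaf.map f).hom a) :=
  (PresheafOfModules.naturality_apply τ.val f a).symm

theorem τs_ιs (Z : (Opens X)ᵒᵖ) (l : (kernel τ).val.obj Z) : τs A τ Z (ιs A τ Z l) = 0 := by
  have h := app_eq_of_eq (kernel.condition τ) Z.unop l
  exact h

/-- the pairing `(l, l') ↦ e · tr(l l')` on sections of the kernel of the trace. -/
noncomputable def βfun (e : Γ(X, ⊤)) (Z : (Opens X)ᵒᵖ) (l l' : (kernel τ).val.obj Z) :
    (Coh.structureModule X).val.obj Z :=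
  (show Γ(X, Z.unop) from resTop e Z.unop * τs A τ Z (ιs A τ Z l * ιs A τ Z l'))

theorem βfun_eq (e : Γ(X, ⊤)) (Z : (Opens X)ᵒᵖ) (l l' : (kernel τ).val.obj Z) :
    (show Γ(X, Z.unop) from βfun A τ e Z l l') =
      resTop e Z.unop * τs A τ Z (ιs A τ Z l * ιs A τ Z l') := rfl

theorem βfun_add_left (e : Γ(X, ⊤)) (Z : (Opens X)ᵒᵖ) (l₁ l₂ l' : (kernel τ).val.obj Z) :
    βfun A τ e Z (l₁ + l₂) l' = βfun A τ e Z l₁ l' + βfun A τ e Z l₂ l' := by
  change resTop e Z.unop * τs A τ Z (ιs A τ Z (l₁ + l₂) * ιs A τ Z l') =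
    resTop e Z.unop * τs A τ Z (ιs A τ Z l₁ * ιs A τ Z l') +
      resTop e Z.unop * τs A τ Z (ιs A τ Z l₂ * ιs A τ Z l')
  rw [ιs_add, add_mul, τs_add, mul_add]

theorem βfun_comm (e : Γ(X, ⊤)) (Z : (Opens X)ᵒᵖ) (l l' : (kernel τ).val.obj Z) :
    βfun A τ e Z l l' = βfun A τ e Z l' l := by
  change resTop e Z.unop * τs A τ Z (ιs A τ Z l * ιs A τ Z l') =
    resTop e Z.unop * τs A τ Z (ιs A τ Z l' * ιs A τ Z l)
  rw [mul_comm (ιs A τ Z l)]

theorem βfun_smul_left (e : Γ(X, ⊤)) (Z : (Opens X)ᵒᵖ) (a : X.ringCatSheaf.obj.obj Z)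
    (l l' : (kernel τ).val.obj Z) :
    βfun A τ e Z (a • l) l' = a • βfun A τ e Z l l' := by
  change resTop e Z.unop * τs A τ Z (ιs A τ Z (a • l) * ιs A τ Z l') =
    toΓ Z a * (resTop e Z.unop * τs A τ Z (ιs A τ Z l * ιs A τ Z l'))
  rw [ιs_smul, mul_assoc, τs_smul]
  ring

theorem βfun_add_right (e : Γ(X, ⊤)) (Z : (Opens X)ᵒᵖ) (l l₁ l₂ : (kernel τ).val.obj Z) :
    βfun A τ e Z l (l₁ + l₂) = βfun A τ e Z l l₁ + βfun A τ e Z l l₂ := by
  rw [βfun_comm, βfun_add_left, βfun_comm A τ e Z l₁, βfun_comm A τ e Z l₂]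

theorem βfun_smul_right (e : Γ(X, ⊤)) (Z : (Opens X)ᵒᵖ) (a : X.ringCatSheaf.obj.obj Z)
    (l l' : (kernel τ).val.obj Z) :
    βfun A τ e Z l (a • l') = a • βfun A τ e Z l l' := by
  rw [βfun_comm, βfun_smul_left, βfun_comm]

theorem βfun_res (e : Γ(X, ⊤)) {Z W : (Opens X)ᵒᵖ} (f : Z ⟶ W) (l l' : (kernel τ).val.obj Z) :
    (Coh.structureModule X).val.map f (βfun A τ e Z l l') =
      βfun A τ e W ((kernel τ).val.map f l) ((kernel τ).val.map f l') := by
  change (X.presheaf.map f).hom (resTop e Z.unop * τs A τ Z (ιs A τ Z l * ιs A τ Z l')) =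
    resTop e W.unop * τs A τ W (ιs A τ W ((kernel τ).val.map f l) *
      ιs A τ W ((kernel τ).val.map f l'))
  rw [map_mul, resTop_map, τs_res, map_mul, ιs_res, ιs_res]

/-- the pairing as a morphism of modules. -/
noncomputable def pairing (e : Γ(X, ⊤)) :
    CohB1.tensorMod (kernel τ) (kernel τ) ⟶ Coh.structureModule X :=
  ofBilinSch (kernel τ) (kernel τ) (Coh.structureModule X) (βfun A τ e)
    (βfun_add_left A τ e) (βfun_smul_left A τ e) (βfun_add_right A τ e) (βfun_smul_right A τ e)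
    (fun f l l' => βfun_res A τ e f l l')

theorem pairing_tmul (e : Γ(X, ⊤)) (U : X.Opens) (l l' : (kernel τ).val.obj (op U)) :
    ((pairing A τ e).val.app (op U)).hom (SecTwist.tmul (kernel τ) (kernel τ) U l l') =
      βfun A τ e (op U) l l' :=
  ofBilinSch_tmul _ _ _ _ _ _ _ _ _ U l l'

/-- rank-two good opens cover. -/
theorem eq_of_good2 (hA : FlatMod.IsFinLocFreeOfRank 2 A.toModule) {U : X.Opens}
    (s t : A.presheaf.obj (op U))
    (h : ∀ (W : X.Opens) (_ : IsAffineOpen W) (hWU : W ≤ U)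
      (_ : letI := alg A W; Module.Basis (Fin 2) Γ(X, W) (A.presheaf.obj (op W))),
      (A.presheaf.map (homOfLE hWU).op).hom s = (A.presheaf.map (homOfLE hWU).op).hom t) :
    s = t := by
  have key : ∀ x : U, ∃ (W : X.Opens) (_ : IsAffineOpen W) (_ : W ≤ U)
      (_ : letI := alg A W; Module.Basis (Fin 2) Γ(X, W) (A.presheaf.obj (op W))), x.1 ∈ W := by
    intro x
    obtain ⟨U₀, hx₀, ⟨e⟩⟩ := hA x.1
    obtain ⟨W, hW, hxW, hWU, ⟨b⟩⟩ := exists_good A e x.1 hx₀ U x.2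
    exact ⟨W, hW, hWU, b, hxW⟩
  choose W hW hWU b hxW using key
  refine TopCat.Sheaf.eq_of_locally_eq' (⟨A.presheaf, A.isSheaf⟩ : TopCat.Sheaf CommRingCat X)
    W U (fun x => homOfLE (hWU x)) ?_ _ _ (fun x => h _ (hW x) (hWU x) (b x))
  intro x hx
  exact Opens.mem_iSup.2 ⟨⟨x, hx⟩, hxW _⟩

theorem prod_eq_str (hA : FlatMod.IsFinLocFreeOfRank 2 A.toModule) (hτ : FinCov.IsTrace A τ)
    (e : Γ(X, ⊤)) (he : e * 2 = 1) (U : X.Opens) (l l' : (kernel τ).val.obj (op U)) :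
    ιs A τ (op U) l * ιs A τ (op U) l' =
      (A.str.app (op U)).hom (resTop e U * τs A τ (op U) (ιs A τ (op U) l * ιs A τ (op U) l')) := by
  apply eq_of_good2 A hA
  intro W hW hWU b
  letI := alg A W
  have heW : resTop e W * 2 = 1 := by
    have := congrArg (X.presheaf.map (homOfLE (le_top : W ≤ ⊤)).op).hom he
    rw [map_mul, map_ofNat, map_one] at this
    exact this
  have hx : Algebra.trace Γ(X, W) (A.presheaf.obj (op W))
      (ιs A τ (op W) ((kernel τ).val.map (homOfLE hWU).op l)) = 0 := by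
    have h1 := isTrace_good A hτ (isGood_of_basis A hW b)
      (ιs A τ (op W) ((kernel τ).val.map (homOfLE hWU).op l))
    exact h1.symm.trans (τs_ιs A τ (op W) _)
  have hy : Algebra.trace Γ(X, W) (A.presheaf.obj (op W))
      (ιs A τ (op W) ((kernel τ).val.map (homOfLE hWU).op l')) = 0 := by
    have h1 := isTrace_good A hτ (isGood_of_basis A hW b)
      (ιs A τ (op W) ((kernel τ).val.map (homOfLE hWU).op l'))
    exact h1.symm.trans (τs_ιs A τ (op W) _)
  have key := mul_eq_algebraMap_of_trace_zero b (resTop e W) heW _ _ hx hy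
  have e1 : (X.presheaf.map (homOfLE hWU).op).hom (resTop e U) = resTop e W :=
    resTop_map e (homOfLE hWU).op
  have e2 := τs_res A τ (homOfLE hWU).op (ιs A τ (op U) l * ιs A τ (op U) l')
  have eL : (A.presheaf.map (homOfLE hWU).op).hom (ιs A τ (op U) l * ιs A τ (op U) l') =
      ιs A τ (op W) ((kernel τ).val.map (homOfLE hWU).op l) *
        ιs A τ (op W) ((kernel τ).val.map (homOfLE hWU).op l') := by
    rw [map_mul (A.presheaf.map (homOfLE hWU).op).hom, ιs_res, ιs_res]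
  have e3 := isTrace_good A hτ (isGood_of_basis A hW b)
    (ιs A τ (op W) ((kernel τ).val.map (homOfLE hWU).op l) *
      ιs A τ (op W) ((kernel τ).val.map (homOfLE hWU).op l'))
  have eR : (A.presheaf.map (homOfLE hWU).op).hom ((A.str.app (op U)).hom
      (resTop e U * τs A τ (op U) (ιs A τ (op U) l * ιs A τ (op U) l'))) =
      (A.str.app (op W)).hom (resTop e W *
        Algebra.trace Γ(X, W) (A.presheaf.obj (op W))
          (ιs A τ (op W) ((kernel τ).val.map (homOfLE hWU).op l) *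
            ιs A τ (op W) ((kernel τ).val.map (homOfLE hWU).op l'))) := by
    rw [str_res_apply, map_mul (X.presheaf.map (homOfLE hWU).op).hom, e1, e2, eL]
    congr 2
  rw [eL, eR]
  exact key

theorem main_S19699 (hA : FlatMod.IsFinLocFreeOfRank 2 A.toModule) (hτ : FinCov.IsTrace A τ)
    (h2 : IsUnit (2 : Γ(X, ⊤))) :
    ∃ m : CohB1.tensorMod (kernel τ) (kernel τ) ⟶ Coh.structureModule X,
      FinCov.IsDblAlg (kernel τ) m A (kernel.ι τ) := by
  have hd : IsUnit (((2 : ℕ) : Γ(X, ⊤))) := by rwa [Nat.cast_ofNat]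
  have he : (↑hd.unit⁻¹ : Γ(X, ⊤)) * 2 = 1 := by
    have h0 := hd.val_inv_mul
    have h1 : ((2 : ℕ) : Γ(X, ⊤)) = 2 := Nat.cast_ofNat
    exact (congrArg (fun t => (↑hd.unit⁻¹ : Γ(X, ⊤)) * t) h1.symm).trans h0
  refine ⟨pairing A τ (↑hd.unit⁻¹ : Γ(X, ⊤)), ?_, ?_⟩
  · intro U
    have hστ := traceSection_comp A 2 hA τ hτ hd
    have heU : resTop (↑hd.unit⁻¹ : Γ(X, ⊤)) U * 2 = 1 := by
      have := congrArg (X.presheaf.map (homOfLE (le_top : U ≤ ⊤)).op).hom he
      rw [map_mul, map_ofNat, map_one] at this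
      exact this
    have h2U : IsUnit (2 : Γ(X, U)) := IsUnit.of_mul_eq_one _ ((mul_comm _ _).trans heU)
    have hg : Function.Bijective (fun p : Γ(X, U) × (kernel τ).val.obj (op U) =>
        ((p.2, 2 * p.1) : Γ(kernel τ, U) × Γ(X, U))) := by
      constructor
      · rintro ⟨s, k⟩ ⟨s', k'⟩ h
        have hk : k = k' := congrArg Prod.fst h
        have hs : 2 * s = 2 * s' := congrArg Prod.snd h
        have hs' : s = s' := (h2U.mul_right_inj).1 hs
        rw [hk, hs']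
      · rintro ⟨k, t⟩
        refine ⟨(resTop (↑hd.unit⁻¹ : Γ(X, ⊤)) U * t, k), ?_⟩
        simp only [Prod.mk.injEq, true_and]
        rw [← mul_assoc, mul_comm 2, heU, one_mul]
    have hf : (fun p : Γ(X, U) × (kernel τ).val.obj (op U) =>
        (A.str.app (op U)).hom p.1 + FinCov.toSec A (((kernel.ι τ).val.app (op U)).hom p.2)) =
        fun p => splitEquiv τ (traceSection A 2 hd) hστ U (p.2, 2 * p.1) := by
      funext p
      change (A.str.app (op U)).hom p.1 + ιs A τ (op U) p.2 =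
        ιs A τ (op U) p.2 + (A.str.app (op U)).hom
          (resTop (↑hd.unit⁻¹ : Γ(X, ⊤)) U * (2 * p.1))
      rw [show resTop (↑hd.unit⁻¹ : Γ(X, ⊤)) U * (2 * p.1) = p.1 by
        rw [← mul_assoc, heU, one_mul], add_comm]
    rw [hf]
    exact (splitEquiv τ (traceSection A 2 hd) hστ U).bijective.comp hg
  · intro U l l'
    rw [pairing_tmul]
    exact prod_eq_str A τ hA hτ _ he U l l'

end Groth.Agent.Helper18Dbl
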