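import Mathlib

/-!
# The rank two algebra `R ⊕ M` attached to a pairing `μ : M × M → R` (helper18)
-/

set_option autoImplicit false
universe u v

namespace Groth.Agent.Helper18Dbl

/-- a symmetric bilinear pairing with `μ(a,b)•c = μ(b,c)•a` (automatic when `M` is invertible). -/
structure DblData (R : Type u) (M : Type v) [CommRing R] [AddCommGroup M] [Module R M] where
  μ : M → M → R
  add_left : ∀ a a' b, μ (a + a') b = μ a b + μ a' b
  smul_left : ∀ (r : R) a b, μ (r • a) b = r * μ a b
  symm : ∀ a b, μ a b = μ b a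
  assoc : ∀ a b c, μ a b • c = μ b c • a

namespace DblData

variable {R : Type u} {M : Type v} [CommRing R] [AddCommGroup M] [Module R M] (d : DblData R M)

theorem add_right (a b b' : M) : d.μ a (b + b') = d.μ a b + d.μ a b' := by
  rw [d.symm, d.add_left, d.symm b, d.symm b']

theorem smul_right (r : R) (a b : M) : d.μ a (r • b) = r * d.μ a b := by
  rw [d.symm, d.smul_left, d.symm b]

theorem zero_left (b : M) : d.μ 0 b = 0 := by
  have := d.smul_left 0 0 b
  simpa using this

theorem zero_right (a : M) : d.μ a 0 = 0 := by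
  rw [d.symm, d.zero_left]

/-- the underlying type of the algebra `R ⊕ M`. -/
@[ext] structure Ring (d : DblData R M) where
  fst : R
  snd : M

namespace Ring

instance : Add d.Ring := ⟨fun x y => ⟨x.fst + y.fst, x.snd + y.snd⟩⟩
instance : Zero d.Ring := ⟨⟨0, 0⟩⟩
instance : Neg d.Ring := ⟨fun x => ⟨-x.fst, -x.snd⟩⟩
instance : One d.Ring := ⟨⟨1, 0⟩⟩
instance : Mul d.Ring :=
  ⟨fun x y => ⟨x.fst * y.fst + d.μ x.snd y.snd, x.fst • y.snd + y.fst • x.snd⟩⟩

@[simp] theorem add_fst (x y : d.Ring) : (x + y).fst = x.fst + y.fst := rfl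
@[simp] theorem add_snd (x y : d.Ring) : (x + y).snd = x.snd + y.snd := rfl
@[simp] theorem zero_fst : (0 : d.Ring).fst = 0 := rfl
@[simp] theorem zero_snd : (0 : d.Ring).snd = 0 := rfl
@[simp] theorem neg_fst (x : d.Ring) : (-x).fst = -x.fst := rfl
@[simp] theorem neg_snd (x : d.Ring) : (-x).snd = -x.snd := rfl
@[simp] theorem one_fst : (1 : d.Ring).fst = 1 := rfl
@[simp] theorem one_snd : (1 : d.Ring).snd = 0 := rfl
@[simp] theorem mul_fst (x y : d.Ring) : (x * y).fst = x.fst * y.fst + d.μ x.snd y.snd := rfl
@[simp] theorem mul_snd (x y : d.Ring) : (x * y).snd = x.fst • y.snd + y.fst • x.snd := rfl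

instance : CommRing d.Ring :=
  CommRing.ofMinimalAxioms
    (fun a b c => by ext <;> simp [add_assoc])
    (fun a => by ext <;> simp)
    (fun a => by ext <;> simp)
    (fun a b c => by
      ext
      · simp only [mul_fst, mul_snd, d.add_left, d.add_right, d.smul_left, d.smul_right]
        ring
      · simp only [mul_fst, mul_snd, add_smul, smul_add, smul_smul, d.assoc a.snd b.snd c.snd]
        rw [mul_comm c.fst a.fst, mul_comm c.fst b.fst]
        abel)
    (fun a b => by
      ext
      · simp only [mul_fst, d.symm a.snd b.snd, mul_comm]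
      · simp only [mul_snd, add_comm])
    (fun a => by ext <;> simp [d.zero_left])
    (fun a b c => by
      ext
      · simp only [mul_fst, add_fst, add_snd, d.add_right]
        ring
      · simp only [mul_snd, add_fst, add_snd, smul_add, add_smul]
        abel)

/-- the structure map `R → R ⊕ M`. -/
def inl : R →+* d.Ring where
  toFun r := ⟨r, 0⟩
  map_one' := rfl
  map_mul' a b := by ext <;> simp [d.zero_left]
  map_zero' := rfl
  map_add' a b := by ext <;> simp

/-- the inclusion `M → R ⊕ M`. -/
def inr : M →+ d.Ring where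
  toFun l := ⟨0, l⟩
  map_zero' := rfl
  map_add' a b := by ext <;> simp

@[simp] theorem inl_fst (r : R) : (inl d r).fst = r := rfl
@[simp] theorem inl_snd (r : R) : (inl d r).snd = 0 := rfl
@[simp] theorem inr_fst (l : M) : (inr d l).fst = 0 := rfl
@[simp] theorem inr_snd (l : M) : (inr d l).snd = l := rfl

theorem inl_mul (r : R) (x : d.Ring) : inl d r * x = ⟨r * x.fst, r • x.snd⟩ := by
  ext <;> simp [d.zero_left]

theorem inl_mul_inr (r : R) (l : M) : inl d r * inr d l = inr d (r • l) := by
  ext <;> simp [d.zero_left]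

theorem inr_mul_inr (l l' : M) : inr d l * inr d l' = inl d (d.μ l l') := by
  ext <;> simp

theorem inl_add_inr (x : d.Ring) : inl d x.fst + inr d x.snd = x := by
  ext <;> simp

theorem bijective_inl_add_inr :
    Function.Bijective fun p : R × M => inl d p.1 + inr d p.2 := by
  constructor
  · intro p q h
    have h1 := congrArg Ring.fst h
    have h2 := congrArg Ring.snd h
    simp at h1 h2
    exact Prod.ext h1 h2
  · intro x
    exact ⟨(x.fst, x.snd), inl_add_inr d x⟩

end Ring

/-- a morphism of pairing data induces a ring homomorphism. -/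
def Ring.map {R' : Type u} {M' : Type v} [CommRing R'] [AddCommGroup M'] [Module R' M']
    (d' : DblData R' M') (f : R →+* R') (g : M →+ M') (hg : ∀ (r : R) (l : M), g (r • l) = f r • g l)
    (hμ : ∀ l l', d'.μ (g l) (g l') = f (d.μ l l')) : d.Ring →+* d'.Ring where
  toFun x := ⟨f x.fst, g x.snd⟩
  map_one' := by ext <;> simp
  map_mul' a b := by ext <;> simp [hg, hμ]
  map_zero' := by ext <;> simp
  map_add' a b := by ext <;> simp

end DblData

end Groth.Agent.Helper18Dbl
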