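import Mathlib
import Groth.Prelude.Def_FinCov
import Groth.Agent.Lib.Helper18Dbl5
import Groth.Agent.Lib.Helper23SecTw6

/-!
# The pairing on sections of an invertible module induced by `m : L ⊗ L ⟶ O_X` (helper18)
-/

set_option autoImplicit false
universe u
open CategoryTheory CategoryTheory.Limits AlgebraicGeometry TopologicalSpace Opposite

namespace Groth.Agent.Helper18Dbl

open Groth.Agent.Lib.Helper23.SecTw Groth.Agent.Lib.Helper6 Groth.Agent.Lib.Helper23.Extend

variable {X : Scheme.{u}} (L : X.Modules) (m : CohB1.tensorMod L L ⟶ Coh.structureModule X)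

/-- the pairing on sections over `U`. -/
noncomputable def mu (U : X.Opens) (l l' : Γ(L, U)) : Γ(X, U) :=
  m.app U (tm L L U l l')

theorem mu_def (U : X.Opens) (l l' : L.val.obj (op U)) :
    mu L m U l l' = (m.val.app (op U)).hom (SecTwist.tmul L L U l l') := rfl

theorem mu_add_left (U : X.Opens) (a a' b : Γ(L, U)) :
    mu L m U (a + a') b = mu L m U a b + mu L m U a' b := by
  unfold mu
  rw [tm_add_left]
  exact map_add _ _ _

theorem mu_add_right (U : X.Opens) (a b b' : Γ(L, U)) :
    mu L m U a (b + b') = mu L m U a b + mu L m U a b' := by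
  unfold mu
  rw [tm_add_right]
  exact map_add _ _ _

theorem mu_smul_left (U : X.Opens) (r : Γ(X, U)) (a b : Γ(L, U)) :
    mu L m U (r • a) b = r * mu L m U a b := by
  unfold mu
  rw [tm_smul_left]
  exact Scheme.Modules.Hom.app_smul m r _

theorem mu_smul_right (U : X.Opens) (r : Γ(X, U)) (a b : Γ(L, U)) :
    mu L m U a (r • b) = r * mu L m U a b := by
  unfold mu
  rw [tm_smul_right]
  exact Scheme.Modules.Hom.app_smul m r _

theorem resf_mu {U V : X.Opens} (h : V ≤ U) (a b : Γ(L, U)) :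
    resf h (mu L m U a b) = mu L m V (res L h a) (res L h b) := by
  unfold mu
  rw [← res_tm]
  exact (app_map m (homOfLE h) _).symm

end Groth.Agent.Helper18Dbl

namespace Groth.Agent.Helper18Dbl

open Groth.Agent.Lib.Helper23.SecTw Groth.Agent.Lib.Helper6 Groth.Agent.Lib.Helper23.Extend

variable {X : Scheme.{u}} (L : X.Modules) (m : CohB1.tensorMod L L ⟶ Coh.structureModule X)

/-- sections of a module agreeing locally are equal. -/
theorem eq_of_locally (F : X.Modules) {U : X.Opens} (s t : Γ(F, U))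
    (h : ∀ x ∈ U, ∃ (V : X.Opens) (hV : V ≤ U), x ∈ V ∧ res F hV s = res F hV t) : s = t := by
  choose V hV hxV hst using h
  refine (modSheaf F).eq_of_locally_eq' (fun x : U => V x.1 x.2) U (fun x => homOfLE (hV x.1 x.2)) ?_ s t
    (fun x => hst x.1 x.2)
  intro x hx
  exact Opens.mem_iSup.2 ⟨⟨x, hx⟩, hxV x hx⟩

/-- functions agreeing locally are equal. -/
theorem eq_of_locally_fun {U : X.Opens} (s t : Γ(X, U))
    (h : ∀ x ∈ U, ∃ (V : X.Opens) (hV : V ≤ U), x ∈ V ∧ resf hV s = resf hV t) : s = t := by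
  choose V hV hxV hst using h
  refine X.sheaf.eq_of_locally_eq' (fun x : U => V x.1 x.2) U (fun x => homOfLE (hV x.1 x.2)) ?_ s t
    (fun x => hst x.1 x.2)
  intro x hx
  exact Opens.mem_iSup.2 ⟨⟨x, hx⟩, hxV x hx⟩

/-- every section is a multiple of a generator. -/
theorem exists_smul_of_isGen {V : X.Opens} {e : Γ(L, V)} (he : IsGen L V e) (a : Γ(L, V)) :
    ∃ α : Γ(X, V), a = α • e := by
  obtain ⟨α, hα⟩ := (he V le_rfl).2 a
  refine ⟨α, ?_⟩
  have h : α • res L (le_refl V) e = a := hα
  rw [res_self] at h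
  exact h.symm

theorem mu_symm (hL : PicF.IsInvertible L) (U : X.Opens) (a b : Γ(L, U)) :
    mu L m U a b = mu L m U b a := by
  refine eq_of_locally_fun _ _ (fun x hx => ?_)
  obtain ⟨W, e, hxW, he⟩ := exists_gen L hL x
  have he' : IsGen L (W ⊓ U) (res L inf_le_left e) := he.mono inf_le_left
  refine ⟨W ⊓ U, inf_le_right, ⟨hxW, hx⟩, ?_⟩
  rw [resf_mu, resf_mu]
  obtain ⟨α, hα⟩ := exists_smul_of_isGen L he' (res L inf_le_right a)
  obtain ⟨β, hβ⟩ := exists_smul_of_isGen L he' (res L inf_le_right b)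
  rw [hα, hβ, mu_smul_left, mu_smul_right, mu_smul_left, mu_smul_right]
  ring

theorem mu_assoc (hL : PicF.IsInvertible L) (U : X.Opens) (a b c : Γ(L, U)) :
    mu L m U a b • c = mu L m U b c • a := by
  refine eq_of_locally L _ _ (fun x hx => ?_)
  obtain ⟨W, e, hxW, he⟩ := exists_gen L hL x
  have he' : IsGen L (W ⊓ U) (res L inf_le_left e) := he.mono inf_le_left
  refine ⟨W ⊓ U, inf_le_right, ⟨hxW, hx⟩, ?_⟩
  rw [res_smul, res_smul, resf_mu, resf_mu]
  obtain ⟨α, hα⟩ := exists_smul_of_isGen L he' (res L inf_le_right a)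
  obtain ⟨β, hβ⟩ := exists_smul_of_isGen L he' (res L inf_le_right b)
  obtain ⟨γ, hγ⟩ := exists_smul_of_isGen L he' (res L inf_le_right c)
  rw [hα, hβ, hγ, mu_smul_left, mu_smul_right, mu_smul_left, mu_smul_right, smul_smul, smul_smul]
  congr 1
  ring

/-- the pairing data over `U`. -/
noncomputable def dd (hL : PicF.IsInvertible L) (U : X.Opens) : DblData Γ(X, U) Γ(L, U) where
  μ := mu L m U
  add_left := mu_add_left L m U
  smul_left := mu_smul_left L m U
  symm := mu_symm L m hL U
  assoc := mu_assoc L m hL U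

end Groth.Agent.Helper18Dbl
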