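import Mathlib
import Groth.Prelude.Def_FinCov
import Groth.Agent.Lib.Helper18Dbl6

/-!
# The sheaf of rings `O_X ⊕ L` (helper18)
-/

set_option autoImplicit false
universe u
open CategoryTheory CategoryTheory.Limits AlgebraicGeometry TopologicalSpace Opposite

namespace Groth.Agent.Helper18Dbl

open Groth.Agent.Lib.Helper23.SecTw Groth.Agent.Lib.Helper6 Groth.Agent.Lib.Helper23.Extend

variable {X : Scheme.{u}} (L : X.Modules) (m : CohB1.tensorMod L L ⟶ Coh.structureModule X)
  (hL : PicF.IsInvertible L)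

/-- restriction maps of `O_X ⊕ L`. -/
noncomputable def resHom {U V : X.Opens} (i : V ⟶ U) :
    (dd L m hL U).Ring →+* (dd L m hL V).Ring :=
  DblData.Ring.map (dd L m hL U) (dd L m hL V) (X.presheaf.map i.op).hom (L.presheaf.map i.op).hom
    (fun r l => Scheme.Modules.map_smul L i r l)
    (fun l l' => (resf_mu L m (leOfHom i) l l').symm)

@[simp] theorem resHom_fst {U V : X.Opens} (i : V ⟶ U) (x : (dd L m hL U).Ring) :
    (resHom L m hL i x).fst = X.presheaf.map i.op x.fst := rfl

@[simp] theorem resHom_snd {U V : X.Opens} (i : V ⟶ U) (x : (dd L m hL U).Ring) :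
    (resHom L m hL i x).snd = L.presheaf.map i.op x.snd := rfl

/-- the presheaf of rings `O_X ⊕ L`. -/
noncomputable def dblPresheaf : TopCat.Presheaf CommRingCat.{u} X.carrier where
  obj U := CommRingCat.of (dd L m hL U.unop).Ring
  map {U V} i := CommRingCat.ofHom (resHom L m hL i.unop)
  map_id U := by
    refine CommRingCat.hom_ext (RingHom.ext fun x => DblData.Ring.ext ?_ ?_)
    · change X.presheaf.map (𝟙 U) x.fst = x.fst
      rw [X.presheaf.map_id]; rfl
    · change L.presheaf.map (𝟙 U) x.snd = x.snd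
      rw [L.presheaf.map_id]; rfl
  map_comp {U V W} i j := by
    refine CommRingCat.hom_ext (RingHom.ext fun x => DblData.Ring.ext ?_ ?_)
    · change X.presheaf.map (i ≫ j) x.fst = X.presheaf.map j (X.presheaf.map i x.fst)
      rw [X.presheaf.map_comp]; rfl
    · change L.presheaf.map (i ≫ j) x.snd = L.presheaf.map j (L.presheaf.map i x.snd)
      rw [L.presheaf.map_comp]; rfl

theorem dblPresheaf_map_fst {U V : (Opens X.carrier)ᵒᵖ} (i : U ⟶ V) (x : (dd L m hL U.unop).Ring) :
    (((dblPresheaf L m hL).map i).hom x : (dd L m hL V.unop).Ring).fst = X.presheaf.map i x.fst := rfl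

theorem dblPresheaf_map_snd {U V : (Opens X.carrier)ᵒᵖ} (i : U ⟶ V) (x : (dd L m hL U.unop).Ring) :
    (((dblPresheaf L m hL).map i).hom x : (dd L m hL V.unop).Ring).snd = L.presheaf.map i x.snd := rfl

end Groth.Agent.Helper18Dbl

namespace Groth.Agent.Helper18Dbl

open Groth.Agent.Lib.Helper23.SecTw Groth.Agent.Lib.Helper6 Groth.Agent.Lib.Helper23.Extend

variable {X : Scheme.{u}} (L : X.Modules) (m : CohB1.tensorMod L L ⟶ Coh.structureModule X)
  (hL : PicF.IsInvertible L)

theorem isSheaf_dblPresheaf : (dblPresheaf L m hL).IsSheaf := by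
  rw [TopCat.Presheaf.isSheaf_iff_isSheafUniqueGluing]
  intro ι U sf hsf
  have h1 : TopCat.Presheaf.IsCompatible X.presheaf U
      (fun i => ((sf i : (dd L m hL (U i)).Ring)).fst) := by
    intro i j
    exact congrArg DblData.Ring.fst (hsf i j)
  have h2 : TopCat.Presheaf.IsCompatible L.presheaf U
      (fun i => ((sf i : (dd L m hL (U i)).Ring)).snd) := by
    intro i j
    exact congrArg DblData.Ring.snd (hsf i j)
  obtain ⟨s, hs, hs'⟩ := X.sheaf.existsUnique_gluing U _ h1
  obtain ⟨l, hl, hl'⟩ := (modSheaf L).existsUnique_gluing U _ h2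
  refine ⟨(⟨s, l⟩ : (dd L m hL (iSup U)).Ring), fun i => DblData.Ring.ext (hs i) (hl i), fun t ht => ?_⟩
  refine DblData.Ring.ext (hs' _ fun i => ?_) (hl' _ fun i => ?_)
  · exact congrArg DblData.Ring.fst (ht i)
  · exact congrArg DblData.Ring.snd (ht i)

/-- the structure map `O_X ⟶ O_X ⊕ L`. -/
noncomputable def dblStr : X.presheaf ⟶ dblPresheaf L m hL where
  app U := CommRingCat.ofHom (DblData.Ring.inl (dd L m hL U.unop))
  naturality U V i := by
    refine CommRingCat.hom_ext (RingHom.ext fun x => DblData.Ring.ext ?_ ?_)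
    · rfl
    · change (0 : Γ(L, V.unop)) = L.presheaf.map i 0
      rw [map_zero]

end Groth.Agent.Helper18Dbl
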