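import Mathlib
import Groth.Prelude.Def_FinCov
import Groth.Agent.Lib.Helper18Dbl7
import Groth.Agent.Lib.Helper10QCAlgOfSheaf
import Groth.Agent.Lib.Helper23SecTw3
import Groth.Agent.Lib.Helper23Serre

/-!
# The quasi-coherent algebra `O_X ⊕ L` (helper18)
-/

set_option autoImplicit false
set_option linter.style.haveILetI false
universe u
open CategoryTheory CategoryTheory.Limits AlgebraicGeometry TopologicalSpace Opposite

namespace Groth.Agent.Helper18Dbl

open Groth.Agent.Lib.Helper23.SecTw Groth.Agent.Lib.Helper6 Groth.Agent.Lib.Helper23.Extend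
open Groth.Agent.Lib.Helper23.GenLocus

variable {X : Scheme.{u}} (L : X.Modules) (m : CohB1.tensorMod L L ⟶ Coh.structureModule X)
  (hL : PicF.IsInvertible L)

theorem inl_pow_mul {R M : Type*} [CommRing R] [AddCommGroup M] [Module R M] (d : DblData R M)
    (r : R) (n : ℕ) (x : d.Ring) :
    (DblData.Ring.inl d r) ^ n * x = ⟨r ^ n * x.fst, r ^ n • x.snd⟩ := by
  rw [← map_pow, DblData.Ring.inl_mul]

theorem isQC_dbl : RelSpec.IsQC (dblPresheaf L m hL) (dblStr L m hL) := by
  intro U hU r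
  haveI : L.IsQuasicoherent := isQuasicoherent_of_isInvertible L hL
  haveI : (Coh.structureModule X).IsQuasicoherent :=
    Groth.Agent.Lib.Helper23.Serre.isQuasicoherent_structureModule' X
  have hlocL := Groth.Agent.Lib.Helper2.Push.IsLocOn.of_isQuasicoherent hU L
  have hlocO := Groth.Agent.Lib.Helper2.Push.IsLocOn.of_isQuasicoherent hU (Coh.structureModule X)
  refine Groth.Agent.Lib.Helper10.QCAlgOfSheaf.away_of_elementwise (R := Γ(X, U))
    (A := (dd L m hL U).Ring) (A' := (dd L m hL (X.basicOpen r)).Ring) (R' := Γ(X, X.basicOpen r))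
    (DblData.Ring.inl _) (DblData.Ring.inl _) (resHom L m hL (homOfLE (X.basicOpen_le r)))
    (X.presheaf.map (homOfLE (X.basicOpen_le r)).op).hom ?_ r ?_ ?_ ?_
  · intro a
    refine DblData.Ring.ext rfl ?_
    change L.presheaf.map _ (0 : Γ(L, U)) = 0
    rw [map_zero]
  · exact X.toLocallyRingedSpace.toRingedSpace.isUnit_res_basicOpen r
  · intro z
    obtain ⟨n₁, t₁, ht₁⟩ := hlocO.exists_extension r (toS _ z.fst)
    obtain ⟨n₂, t₂, ht₂⟩ := hlocL.exists_extension r z.snd
    refine ⟨n₁ + n₂, ⟨r ^ n₂ * ofS _ t₁, r ^ n₁ • t₂⟩, ?_⟩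
    rw [inl_pow_mul]
    refine DblData.Ring.ext ?_ ?_
    · change X.presheaf.map (homOfLE (X.basicOpen_le r)).op (r ^ n₂ * ofS _ t₁) = _
      rw [map_mul, map_pow]
      have h1 : X.presheaf.map (homOfLE (X.basicOpen_le r)).op (ofS _ t₁) =
          (X.presheaf.map (homOfLE (X.basicOpen_le r)).op r) ^ n₁ * z.fst := ht₁
      rw [h1, pow_add]
      ring
    · change L.presheaf.map (homOfLE (X.basicOpen_le r)).op (r ^ n₁ • t₂) = _
      rw [Scheme.Modules.map_smul, ht₂, map_pow, smul_smul, ← pow_add]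
  · intro t ht
    have h1 : (Coh.structureModule X).presheaf.map (homOfLE (X.basicOpen_le r)).op (toS _ t.fst) = 0 :=
      congrArg DblData.Ring.fst ht
    have h2 : L.presheaf.map (homOfLE (X.basicOpen_le r)).op t.snd = 0 :=
      congrArg DblData.Ring.snd ht
    obtain ⟨n₁, hn₁⟩ := hlocO.exists_pow_smul_eq_zero r _ h1
    obtain ⟨n₂, hn₂⟩ := hlocL.exists_pow_smul_eq_zero r _ h2
    refine ⟨n₁ + n₂, ?_⟩
    rw [DblData.Ring.inl_mul]
    refine DblData.Ring.ext ?_ ?_
    · change r ^ (n₁ + n₂) * t.fst = 0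
      have h3 : r ^ n₁ * t.fst = 0 := hn₁
      rw [pow_add, mul_comm (r ^ n₁), mul_assoc, h3, mul_zero]
    · change r ^ (n₁ + n₂) • t.snd = 0
      rw [pow_add, mul_smul, hn₂, smul_zero]

/-- the quasi-coherent algebra `O_X ⊕ L`. -/
noncomputable def dblAlg : RelSpec.QCAlg X where
  presheaf := dblPresheaf L m hL
  isSheaf := isSheaf_dblPresheaf L m hL
  str := dblStr L m hL
  isQC := isQC_dbl L m hL

end Groth.Agent.Helper18Dbl
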