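import Mathlib
import Groth.Prelude.Def_FinCov
import Groth.Agent.Lib.Helper18Dbl8

/-!
# `O_X ⊕ L` is the double cover algebra (helper18)
-/

set_option autoImplicit false
universe u
open CategoryTheory CategoryTheory.Limits AlgebraicGeometry TopologicalSpace Opposite

namespace Groth.Agent.Helper18Dbl

variable {X : Scheme.{u}} (L : X.Modules) (m : CohB1.tensorMod L L ⟶ Coh.structureModule X)
  (hL : PicF.IsInvertible L)

/-- the inclusion `L ⟶ O_X ⊕ L`. -/
noncomputable def dblJ : L ⟶ (dblAlg L m hL).toModule :=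
  ⟨letI := (dblAlg L m hL).moduleSect
   PresheafOfModules.homMk
    { app := fun U => AddCommGrpCat.ofHom (DblData.Ring.inr (dd L m hL U.unop))
      naturality := fun U V i => by
        ext l
        refine DblData.Ring.ext ?_ rfl
        change (0 : Γ(X, V.unop)) = X.presheaf.map i 0
        rw [map_zero] }
    (fun U r l => (DblData.Ring.inl_mul_inr (dd L m hL U.unop) r l).symm)⟩

theorem dblJ_app (U : X.Opens) (l : L.val.obj (op U)) :
    FinCov.toSec (dblAlg L m hL) (((dblJ L m hL).val.app (op U)).hom l) =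
      DblData.Ring.inr (dd L m hL U) l := rfl

theorem isDblAlg_dbl : FinCov.IsDblAlg L m (dblAlg L m hL) (dblJ L m hL) := by
  refine ⟨fun U => ?_, fun U l l' => ?_⟩
  · exact DblData.Ring.bijective_inl_add_inr (dd L m hL U)
  · exact DblData.Ring.inr_mul_inr (dd L m hL U) l l'

include hL in
theorem main_S19697 : ∃ (A : RelSpec.QCAlg X) (j : L ⟶ A.toModule), FinCov.IsDblAlg L m A j :=
  ⟨dblAlg L m hL, dblJ L m hL, isDblAlg_dbl L m hL⟩

end Groth.Agent.Helper18Dbl
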