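import Mathlib

set_option autoImplicit false
universe u

namespace Groth.Agent.Helper18DblInv

section alg
variable {R S : Type*} [CommRing R] [CommRing S] [Algebra R S]

theorem adjugate_two (A : Matrix (Fin 2) (Fin 2) R) :
    A.adjugate = A.trace • (1 : Matrix (Fin 2) (Fin 2) R) - A := by
  rw [Matrix.adjugate_fin_two]
  ext i j
  fin_cases i <;> fin_cases j <;> simp [Matrix.trace_fin_two]

theorem leftMulMatrix_conj (b : Module.Basis (Fin 2) R S) (x : S) :
    Algebra.leftMulMatrix b (algebraMap R S (Algebra.trace R S x) - x) =
      (Algebra.leftMulMatrix b x).adjugate := by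
  rw [adjugate_two, map_sub, AlgHom.commutes, Algebra.trace_eq_matrix_trace b x,
    Algebra.algebraMap_eq_smul_one]

/-- the canonical involution `x ↦ tr(x) - x` of a free algebra of rank two is multiplicative. -/
theorem conj_mul (b : Module.Basis (Fin 2) R S) (x y : S) :
    (algebraMap R S (Algebra.trace R S x) - x) * (algebraMap R S (Algebra.trace R S y) - y) =
      algebraMap R S (Algebra.trace R S (x * y)) - x * y := by
  apply Algebra.leftMulMatrix_injective b
  rw [map_mul, leftMulMatrix_conj, leftMulMatrix_conj, leftMulMatrix_conj, ← Matrix.adjugate_mul_distrib,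
    ← map_mul, mul_comm y x]

end alg

end Groth.Agent.Helper18DblInv
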