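import Mathlib
import Groth.Agent.Lib.Helper18Dbl4
import Groth.Agent.Lib.Helper18Trace4
import Groth.Agent.Lib.Helper18DblInvA

set_option autoImplicit false
set_option linter.style.haveILetI false
set_option linter.unusedSectionVars false
set_option linter.unusedVariables false
universe u
open CategoryTheory CategoryTheory.Limits AlgebraicGeometry TopologicalSpace Opposite

namespace Groth.Agent.Helper18DblInv

open Groth.Agent.Helper18Trace

section conj
variable {X : Scheme.{u}} (A : RelSpec.QCAlg X) (hA2 : FlatMod.IsFinLocFreeOfRank 2 A.toModule)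

/-- the canonical involution `a ↦ tr(a) - a` on sections. -/
noncomputable def conjFun (U : X.Opens) (a : A.presheaf.obj (op U)) : A.presheaf.obj (op U) :=
  (A.str.app (op U)).hom (traceSec A (isFinLocFree_of_rank A hA2) U a) - a

theorem conjFun_res {U V : X.Opens} (h : V ≤ U) (a : A.presheaf.obj (op U)) :
    (A.presheaf.map (homOfLE h).op).hom (conjFun A hA2 U a) =
      conjFun A hA2 V ((A.presheaf.map (homOfLE h).op).hom a) := by
  unfold conjFun
  rw [map_sub, str_res_apply, traceSec_res]

theorem traceSec_str (U : X.Opens) (r : Γ(X, U)) :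
    traceSec A (isFinLocFree_of_rank A hA2) U ((A.str.app (op U)).hom r) = 2 • r := by
  have h := trace_str_apply A 2 hA2 (traceMod A (isFinLocFree_of_rank A hA2))
    (isTrace_traceMod A (isFinLocFree_of_rank A hA2)) U r
  exact h

theorem conjFun_str (U : X.Opens) (r : Γ(X, U)) :
    conjFun A hA2 U ((A.str.app (op U)).hom r) = (A.str.app (op U)).hom r := by
  unfold conjFun
  rw [traceSec_str A hA2, two_nsmul, map_add, add_sub_cancel_right]

theorem conjFun_add (U : X.Opens) (a b : A.presheaf.obj (op U)) :
    conjFun A hA2 U (a + b) = conjFun A hA2 U a + conjFun A hA2 U b := by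
  unfold conjFun
  rw [map_add, map_add]
  ring

theorem conjFun_one (U : X.Opens) : conjFun A hA2 U 1 = 1 := by
  have h := conjFun_str A hA2 U 1
  rwa [map_one] at h

theorem conjFun_zero (U : X.Opens) : conjFun A hA2 U 0 = 0 := by
  unfold conjFun
  rw [map_zero, map_zero, sub_zero]

theorem conjFun_conjFun (U : X.Opens) (a : A.presheaf.obj (op U)) :
    conjFun A hA2 U (conjFun A hA2 U a) = a := by
  unfold conjFun
  rw [map_sub, traceSec_str A hA2, two_nsmul, add_sub_cancel_right]
  ring

theorem conjFun_mul (U : X.Opens) (a b : A.presheaf.obj (op U)) :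
    conjFun A hA2 U (a * b) = conjFun A hA2 U a * conjFun A hA2 U b := by
  apply Groth.Agent.Helper18Dbl.eq_of_good2 A hA2
  intro W hW hWU bas
  letI := alg A W
  have hg : IsGood A W := isGood_of_basis A hW bas
  rw [map_mul (A.presheaf.map (homOfLE hWU).op).hom, conjFun_res, conjFun_res, conjFun_res,
    map_mul (A.presheaf.map (homOfLE hWU).op).hom]
  unfold conjFun
  rw [traceSec_good A _ hg, traceSec_good A _ hg, traceSec_good A _ hg]
  exact (conj_mul bas _ _).symm

/-- the canonical involution as a ring homomorphism. -/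
noncomputable def conjRingHom (U : X.Opens) : A.presheaf.obj (op U) →+* A.presheaf.obj (op U) where
  toFun := conjFun A hA2 U
  map_one' := conjFun_one A hA2 U
  map_mul' := conjFun_mul A hA2 U
  map_zero' := conjFun_zero A hA2 U
  map_add' := conjFun_add A hA2 U

/-- the canonical involution as a morphism of presheaves of rings. -/
noncomputable def conjHom : A.presheaf ⟶ A.presheaf where
  app U := CommRingCat.ofHom (conjRingHom A hA2 U.unop)
  naturality U V i := by
    ext a
    have hle : V.unop ≤ U.unop := leOfHom i.unop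
    exact (conjFun_res A hA2 hle a).symm

theorem conjHom_app (U : X.Opens) (a : A.presheaf.obj (op U)) :
    ((conjHom A hA2).app (op U)).hom a = conjFun A hA2 U a := rfl

theorem str_conjHom : A.str ≫ conjHom A hA2 = A.str := by
  ext U r
  exact conjFun_str A hA2 U r

theorem conjHom_conjHom : conjHom A hA2 ≫ conjHom A hA2 = 𝟙 _ := by
  ext U a
  exact conjFun_conjFun A hA2 U a

include hA2 in
theorem str_injective (e : Γ(X, ⊤)) (he : e * 2 = 1) (U : X.Opens) :
    Function.Injective (A.str.app (op U)).hom := by
  rw [injective_iff_map_eq_zero]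
  intro r hr
  have h1 := traceSec_str A hA2 U r
  rw [hr, map_zero] at h1
  have heU : (X.presheaf.map (homOfLE (le_top : U ≤ ⊤)).op).hom e * 2 = 1 := by
    have := congrArg (X.presheaf.map (homOfLE (le_top : U ≤ ⊤)).op).hom he
    rw [map_mul, map_ofNat, map_one] at this
    exact this
  have h2 : r = (X.presheaf.map (homOfLE (le_top : U ≤ ⊤)).op).hom e * (2 • r) := by
    rw [two_nsmul, ← two_mul, ← mul_assoc, heU, one_mul]
  rw [h2, ← h1, mul_zero]

theorem mem_range_str_of_fixed (e : Γ(X, ⊤)) (he : e * 2 = 1) (U : X.Opens)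
    (a : A.presheaf.obj (op U)) (ha : conjFun A hA2 U a = a) :
    a ∈ Set.range (A.str.app (op U)).hom := by
  have heU : (X.presheaf.map (homOfLE (le_top : U ≤ ⊤)).op).hom e * 2 = 1 := by
    have := congrArg (X.presheaf.map (homOfLE (le_top : U ≤ ⊤)).op).hom he
    rw [map_mul, map_ofNat, map_one] at this
    exact this
  refine ⟨(X.presheaf.map (homOfLE (le_top : U ≤ ⊤)).op).hom e *
    traceSec A (isFinLocFree_of_rank A hA2) U a, ?_⟩
  have h1 : (A.str.app (op U)).hom (traceSec A (isFinLocFree_of_rank A hA2) U a) = 2 * a := by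
    unfold conjFun at ha
    rw [two_mul]
    exact sub_eq_iff_eq_add.mp ha
  rw [map_mul, h1, ← mul_assoc, ← map_ofNat (A.str.app (op U)).hom 2, ← map_mul, heU, map_one, one_mul]

end conj

end Groth.Agent.Helper18DblInv
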