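import Mathlib
import Groth.Prelude.Def_SGA1
import Groth.Prelude.Def_AffAlg
import Groth.Agent.Lib.Helper18DblInvB
import Groth.Agent.Lib.Helper18FinFlat2
import Groth.Agent.Lib.Helper10RelSpecHom

set_option autoImplicit false
set_option linter.style.haveILetI false
set_option linter.unusedSectionVars false
set_option linter.unusedVariables false
universe u
open CategoryTheory CategoryTheory.Limits AlgebraicGeometry TopologicalSpace Opposite

namespace Groth.Agent.Helper18DblInv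

open Groth.Agent.Helper18Trace Groth.Agent.Lib.Helper10.RelSpecHom

section aux
variable {X : Scheme.{u}}

theorem appLE_eq_of_eq {g g' : X ⟶ X} (hgg' : g = g') (U V : X.Opens) (e : V ≤ g ⁻¹ᵁ U)
    (e' : V ≤ g' ⁻¹ᵁ U) (s : Γ(X, U)) : g.appLE U V e s = g'.appLE U V e' s := by
  subst hgg'; rfl

theorem id_appLE_self' (U : X.Opens) (h : U ≤ (𝟙 X) ⁻¹ᵁ U) (z : Γ(X, U)) :
    (𝟙 X : X ⟶ X).appLE U U h z = z := by
  simp only [Scheme.Hom.appLE, Scheme.Hom.id_app, CommRingCat.comp_apply]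
  change (X.presheaf.map (𝟙 (op U))) z = z
  rw [X.presheaf.map_id]; rfl

theorem eq_one_or_eq_of_mem_zpowers {G : Type*} [Group G] (σ : G) (hσ : σ * σ = 1) (g : G)
    (hg : g ∈ Subgroup.zpowers σ) : g = 1 ∨ g = σ := by
  obtain ⟨n, rfl⟩ := Subgroup.mem_zpowers_iff.mp hg
  have h2 : σ ^ (2 : ℤ) = 1 := by
    rw [zpow_two]; exact hσ
  have hn : n = 2 * (n / 2) + n % 2 := (Int.mul_ediv_add_emod n 2).symm
  rw [hn, zpow_add, zpow_mul, h2, one_zpow, one_mul]
  rcases Int.emod_two_eq_zero_or_one n with h | h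
  · left; rw [h, zpow_zero]
  · right; rw [h, zpow_one]

end aux

section main
variable {X Y : Scheme.{u}} (f : X ⟶ Y) [IsFinite f] [Flat f] [LocallyOfFinitePresentation f]
  (hrk : ∀ y : Y, f.finrank y = 2) (h2 : IsUnit (2 : Γ(Y, ⊤)))

include hrk h2 in
theorem main_S18900 :
    ∃ σ : Aut X, σ.hom ≫ f = f ∧ σ * σ = 1 ∧ SGA1.IsQuot (Subgroup.zpowers σ).subtype f := by
  have hπ : Mor2.IsFinLocFreeOfDeg 2 f := ⟨⟨inferInstance, inferInstance, inferInstance⟩, hrk⟩
  obtain ⟨haff, hfr⟩ := (Groth.Agent.Helper18FinFlat.main_S19692 f 2).1 hπ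
  let A : RelSpec.QCAlg Y := RelSpec.QCAlg.directImage f
  have hA2 : FlatMod.IsFinLocFreeOfRank 2 A.toModule := hfr
  let ω : AffAlg.alg f ⟶ AffAlg.alg f := conjHom A hA2
  have hω : f.c ≫ ω = f.c := str_conjHom A hA2
  have hωω : ω ≫ ω = 𝟙 _ := conjHom_conjHom A hA2
  obtain ⟨⟨h, w⟩, hh⟩ := (bijective_algOf f f).2 ⟨ω, hω⟩
  have hh' : AffAlg.algHom f f h w = ω := congrArg Subtype.val hh
  have happ : ∀ (U : Y.Opens) (s : Γ(X, f ⁻¹ᵁ U)),
      h.appLE (f ⁻¹ᵁ U) (f ⁻¹ᵁ U) (by rw [← Scheme.Hom.comp_preimage, w]) s =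
        conjFun A hA2 U s := by
    intro U s
    have h1 := algHom_app f f h w U
    rw [hh'] at h1
    exact (congr($h1 s)).symm
  -- the involution
  have hhh : h ≫ h = 𝟙 X := by
    have w2 : (h ≫ h) ≫ f = f := by rw [Category.assoc, w, w]
    have h1 : AffAlg.algOf f f ⟨h ≫ h, w2⟩ = AffAlg.algOf f f ⟨𝟙 X, Category.id_comp f⟩ := by
      apply Subtype.ext
      change AffAlg.algHom f f (h ≫ h) w2 = AffAlg.algHom f f (𝟙 X) (Category.id_comp f)
      ext U s
      rw [algHom_app, algHom_app]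
      have e1 : h.appLE (f ⁻¹ᵁ U) (f ⁻¹ᵁ U) (by rw [← Scheme.Hom.comp_preimage, w]) ≫
          h.appLE (f ⁻¹ᵁ U) (f ⁻¹ᵁ U) (by rw [← Scheme.Hom.comp_preimage, w]) =
          (h ≫ h).appLE (f ⁻¹ᵁ U) (f ⁻¹ᵁ U) (by rw [← Scheme.Hom.comp_preimage, w2]) :=
        Scheme.Hom.appLE_comp_appLE _ _ _ _ _ _ _
      rw [← e1]
      change h.appLE (f ⁻¹ᵁ U) (f ⁻¹ᵁ U) _ (h.appLE (f ⁻¹ᵁ U) (f ⁻¹ᵁ U) _ s) =
        (𝟙 X : X ⟶ X).appLE (f ⁻¹ᵁ U) (f ⁻¹ᵁ U) _ s
      rw [happ, happ, conjFun_conjFun, id_appLE_self']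
    exact congrArg Subtype.val ((bijective_algOf f f).1 h1)
  let σ : Aut X := ⟨h, h, hhh, hhh⟩
  have hσσ : σ * σ = 1 := by
    apply Iso.ext
    exact hhh
  have hcases : ∀ g : Subgroup.zpowers σ, (g : Aut X) = 1 ∨ (g : Aut X) = σ := fun g =>
    eq_one_or_eq_of_mem_zpowers σ hσσ g.1 g.2
  have hinv : ∀ g : Subgroup.zpowers σ, ((Subgroup.zpowers σ).subtype g).hom ≫ f = f := by
    intro g
    rcases hcases g with hg | hg
    · change (g : Aut X).hom ≫ f = f
      rw [hg]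
      exact Category.id_comp f
    · change (g : Aut X).hom ≫ f = f
      rw [hg]
      exact w
  -- one half
  have hd : IsUnit (((2 : ℕ) : Γ(Y, ⊤))) := by rwa [Nat.cast_ofNat]
  have he : (↑hd.unit⁻¹ : Γ(Y, ⊤)) * 2 = 1 := by
    have h0 := hd.val_inv_mul
    have h1 : ((2 : ℕ) : Γ(Y, ⊤)) = 2 := Nat.cast_ofNat
    exact (congrArg (fun t => (↑hd.unit⁻¹ : Γ(Y, ⊤)) * t) h1.symm).trans h0
  refine ⟨σ, w, hσσ, ⟨inferInstance, hinv, ?_, ?_⟩⟩
  · intro U
    exact str_injective A hA2 _ he U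
  · intro U s
    constructor
    · rintro ⟨r, rfl⟩ g
      rcases hcases g with hg | hg
      · have hg' : ((Subgroup.zpowers σ).subtype g).hom = 𝟙 X := by
          change (g : Aut X).hom = 𝟙 X
          rw [hg]; rfl
        refine (appLE_eq_of_eq hg' _ _ _ (le_refl _) _).trans ?_
        exact id_appLE_self' _ _ _
      · have hg' : ((Subgroup.zpowers σ).subtype g).hom = h := by
          change (g : Aut X).hom = h
          rw [hg]
        refine (appLE_eq_of_eq hg' _ _ _ (by rw [← Scheme.Hom.comp_preimage, w]) _).trans ?_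
        rw [happ]
        exact conjFun_str A hA2 U r
    · intro hs
      have h1 := hs ⟨σ, Subgroup.mem_zpowers σ⟩
      have hg' : ((Subgroup.zpowers σ).subtype ⟨σ, Subgroup.mem_zpowers σ⟩).hom = h := rfl
      have h3 : conjFun A hA2 U s = s := by
        rw [← happ]
        exact h1
      exact mem_range_str_of_fixed A hA2 _ he U s h3

end main

end Groth.Agent.Helper18DblInv
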