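import Mathlib
set_option autoImplicit false
set_option linter.style.haveILetI false
set_option linter.unusedSectionVars false
universe u
open TensorProduct

namespace Groth.Agent.Helper18Det

section ext
variable {B : Type*} [CommRing B] {F : Type*} [AddCommGroup F] [Module B F]

local notation "ιF" => ExteriorAlgebra.ι B (M := F)
local notation "cL" => CliffordAlgebra.contractLeft (R := B) (M := F) (Q := (0 : QuadraticForm B F))

theorem cL_ι_mul (d : Module.Dual B F) (a : F) (x : ExteriorAlgebra B F) :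
    cL d (ExteriorAlgebra.ι B a * x) = d a • x - ExteriorAlgebra.ι B a * cL d x :=
  CliffordAlgebra.contractLeft_ι_mul _ _ _

/-- commutation: `z * ι v = ι v * z'` for some `z'`. -/
theorem exists_comm (v : F) (z : ExteriorAlgebra B F) :
    ∃ z' : ExteriorAlgebra B F, z * ExteriorAlgebra.ι B v = ExteriorAlgebra.ι B v * z' := by
  induction z using CliffordAlgebra.left_induction with
  | algebraMap r => exact ⟨algebraMap _ _ r, (Algebra.commutes r _)⟩
  | add x y hx hy =>
    obtain ⟨x', hx'⟩ := hx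
    obtain ⟨y', hy'⟩ := hy
    exact ⟨x' + y', by rw [add_mul, hx', hy', mul_add]⟩
  | ι_mul x m hx =>
    obtain ⟨x', hx'⟩ := hx
    refine ⟨-(ExteriorAlgebra.ι B m * x'), ?_⟩
    have h := ExteriorAlgebra.ι_add_mul_swap (R := B) m v
    change ExteriorAlgebra.ι B m * x * ExteriorAlgebra.ι B v = _
    rw [mul_assoc, hx', ← mul_assoc, eq_neg_of_add_eq_zero_left h, neg_mul, mul_neg, mul_assoc]

/-- the product `ι (k 0) * ⋯ * ι (k (r-1))`. -/
noncomputable def kap (B : Type*) [CommRing B] {F : Type*} [AddCommGroup F] [Module B F] {r : ℕ} (k : Fin r → F) : ExteriorAlgebra B F :=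
  (List.ofFn fun i => ExteriorAlgebra.ι B (k i)).prod

theorem kap_succ {r : ℕ} (k : Fin (r + 1) → F) :
    kap B k = ExteriorAlgebra.ι B (k 0) * kap B (fun i => k i.succ) := by
  rw [kap, List.ofFn_succ, List.prod_cons]; rfl

theorem kap_mul_ι {r : ℕ} (k : Fin r → F) (i : Fin r) :
    kap B k * ExteriorAlgebra.ι B (k i) = 0 := by
  induction r with
  | zero => exact i.elim0
  | succ r ih =>
    rw [kap_succ]
    refine Fin.cases ?_ (fun j => ?_) i
    · obtain ⟨z', hz'⟩ := exists_comm (k 0) (kap B fun i => k i.succ)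
      rw [mul_assoc, hz', ← mul_assoc, ExteriorAlgebra.ι_sq_zero, zero_mul]
    · rw [mul_assoc, ih (fun i => k i.succ) j, mul_zero]

/-- iterated left contraction. -/
noncomputable def cIter : ∀ {r : ℕ}, (Fin r → Module.Dual B F) →
    ExteriorAlgebra B F → ExteriorAlgebra B F
  | 0, _, x => x
  | (_ + 1), lam, x => cIter (fun i => lam i.succ) (cL (lam 0) x)

theorem cIter_succ {r : ℕ} (lam : Fin (r + 1) → Module.Dual B F) (x : ExteriorAlgebra B F) :
    cIter lam x = cIter (fun i => lam i.succ) (cL (lam 0) x) := rfl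

theorem cIter_zero (lam : Fin 0 → Module.Dual B F) (x : ExteriorAlgebra B F) :
    cIter lam x = x := rfl

/-- Koszul-type statement: if all `ι (k i)` kill `x` then `x = kap B k * cIter lam x`. -/
theorem eq_kap_mul_cIter : ∀ {r : ℕ} (k : Fin r → F) (lam : Fin r → Module.Dual B F)
    (_ : ∀ i j, lam i (k j) = if i = j then 1 else 0) (x : ExteriorAlgebra B F)
    (_ : ∀ i, ExteriorAlgebra.ι B (k i) * x = 0), x = kap B k * cIter lam x := by
  intro r
  induction r with
  | zero =>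
    intro k lam _ x _
    simp [kap, cIter_zero]
  | succ r ih =>
    intro k lam h2 x hx
    rw [kap_succ, cIter_succ, mul_assoc]
    have e1 : x = ExteriorAlgebra.ι B (k 0) * cL (lam 0) x := by
      have := cL_ι_mul (lam 0) (k 0) x
      rw [hx 0, map_zero, h2 0 0, if_pos rfl, one_smul] at this
      exact (sub_eq_zero.mp this.symm)
    have e2 : ∀ i : Fin r, ExteriorAlgebra.ι B (k i.succ) * cL (lam 0) x = 0 := by
      intro i
      have := cL_ι_mul (lam 0) (k i.succ) x
      rw [hx i.succ, map_zero, h2 0 i.succ, if_neg (Fin.succ_ne_zero i).symm, zero_smul,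
        zero_sub] at this
      exact neg_eq_zero.mp this.symm
    have := ih (fun i => k i.succ) (fun i => lam i.succ)
      (fun i j => by rw [h2]; simp [Fin.succ_inj]) (cL (lam 0) x) e2
    rw [← this]
    exact e1


theorem cL_map_eq_zero {Q : Type*} [AddCommGroup Q] [Module B Q] (s : Q →ₗ[B] F)
    (d : Module.Dual B F) (hd : ∀ q, d (s q) = 0) (ω : ExteriorAlgebra B Q) :
    cL d (ExteriorAlgebra.map s ω) = 0 := by
  induction ω using CliffordAlgebra.left_induction with
  | algebraMap r =>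
    rw [AlgHom.commutes]
    exact CliffordAlgebra.contractLeft_algebraMap _ _ _
  | add x y hx hy => rw [map_add, map_add, hx, hy, add_zero]
  | ι_mul x m hx =>
    change cL d (ExteriorAlgebra.map s (ExteriorAlgebra.ι B m * x)) = 0
    rw [map_mul, ExteriorAlgebra.map_apply_ι, cL_ι_mul, hx, hd, zero_smul, mul_zero, sub_zero]

theorem cL_kap_mul_eq_zero {r : ℕ} (k : Fin r → F) (d : Module.Dual B F) (hd : ∀ j, d (k j) = 0)
    (y : ExteriorAlgebra B F) (hy : cL d y = 0) : cL d (kap B k * y) = 0 := by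
  induction r with
  | zero => simpa [kap] using hy
  | succ r ih =>
    rw [kap_succ, mul_assoc, cL_ι_mul, hd, zero_smul, ih (fun i => k i.succ) (fun j => hd _),
      mul_zero, sub_zero]

theorem cIter_kap_mul : ∀ {r : ℕ} (k : Fin r → F) (lam : Fin r → Module.Dual B F)
    (_ : ∀ i j, lam i (k j) = if i = j then 1 else 0) (y : ExteriorAlgebra B F)
    (_ : ∀ i, cL (lam i) y = 0), cIter lam (kap B k * y) = y := by
  intro r
  induction r with
  | zero =>
    intro k lam _ y _
    simp [kap, cIter_zero]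
  | succ r ih =>
    intro k lam h2 y hy
    rw [cIter_succ, kap_succ, mul_assoc, cL_ι_mul, h2 0 0, if_pos rfl, one_smul,
      cL_kap_mul_eq_zero (fun i => k i.succ) (lam 0)
        (fun j => by rw [h2, if_neg (Fin.succ_ne_zero j).symm]) y (hy 0), mul_zero, sub_zero]
    exact ih (fun i => k i.succ) (fun i => lam i.succ)
      (fun i j => by rw [h2]; simp [Fin.succ_inj]) y (fun i => hy i.succ)

theorem kap_mul_map {Q : Type*} [AddCommGroup Q] [Module B Q] (s : Q →ₗ[B] F) (π : F →ₗ[B] Q)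
    {r : ℕ} (k : Fin r → F) (lam : Fin r → Module.Dual B F)
    (h4 : ∀ f, f = s (π f) + ∑ i, lam i f • k i) (y : ExteriorAlgebra B F) :
    kap B k * y = kap B k * ExteriorAlgebra.map (s ∘ₗ π) y := by
  induction y using CliffordAlgebra.right_induction with
  | algebraMap r => rw [AlgHom.commutes]
  | add x y hx hy => rw [map_add, mul_add, mul_add, hx, hy]
  | mul_ι m x hx =>
    change kap B k * (x * ExteriorAlgebra.ι B m) =
      kap B k * ExteriorAlgebra.map (s ∘ₗ π) (x * ExteriorAlgebra.ι B m)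
    rw [map_mul, ExteriorAlgebra.map_apply_ι, ← mul_assoc, hx, ← mul_assoc]
    conv_lhs => rw [h4 m]
    rw [map_add, mul_add, map_sum, Finset.mul_sum]
    have : ∀ i ∈ Finset.univ, kap B k * (ExteriorAlgebra.map (s ∘ₗ π)) x *
        ExteriorAlgebra.ι B (lam i m • k i) = 0 := by
      intro i _
      obtain ⟨z', hz'⟩ := exists_comm (k i) (ExteriorAlgebra.map (s ∘ₗ π) x)
      rw [map_smul, mul_smul_comm, mul_assoc, hz', ← mul_assoc, kap_mul_ι, zero_mul, smul_zero]
    rw [Finset.sum_eq_zero this, add_zero]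
    rfl


/-- projection to degree `n`. -/
noncomputable def projL (n : ℕ) : ExteriorAlgebra B F →ₗ[B] ⋀[B]^n F :=
  (DirectSum.component B ℕ (fun i => ⋀[B]^i F) n) ∘ₗ
    (DirectSum.decomposeLinearEquiv (fun i : ℕ => ⋀[B]^i F)).toLinearMap

theorem projL_apply (n : ℕ) (x : ExteriorAlgebra B F) :
    projL n x = DirectSum.decompose (fun i : ℕ => ⋀[B]^i F) x n := rfl

theorem projL_coe (n : ℕ) (y : ⋀[B]^n F) : projL n (y : ExteriorAlgebra B F) = y := by
  rw [projL_apply, DirectSum.decompose_coe]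
  exact DirectSum.of_eq_same _ _

theorem projL_of_mem_same (n : ℕ) (x : ExteriorAlgebra B F) (hx : x ∈ ⋀[B]^n F) :
    (projL n x : ExteriorAlgebra B F) = x := by
  rw [projL_apply]; exact DirectSum.decompose_of_mem_same _ hx

theorem projL_of_mem_ne (n j : ℕ) (x : ExteriorAlgebra B F) (hx : x ∈ ⋀[B]^j F) (hj : j ≠ n) :
    projL n x = 0 := by
  rw [projL_apply]
  exact Subtype.ext (DirectSum.decompose_of_mem_ne _ hx hj)

theorem kap_mem {r : ℕ} (k : Fin r → F) : kap B k ∈ ⋀[B]^r F := by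
  have : kap B k = ExteriorAlgebra.ιMulti B r k := (ExteriorAlgebra.ιMulti_apply k).symm
  rw [this]
  exact ExteriorAlgebra.ιMulti_range B r ⟨k, rfl⟩

theorem map_mem {Q : Type*} [AddCommGroup Q] [Module B Q] (s : Q →ₗ[B] F) (m : ℕ)
    (ω : ExteriorAlgebra B Q) (hω : ω ∈ ⋀[B]^m Q) : ExteriorAlgebra.map s ω ∈ ⋀[B]^m F := by
  have h1 : (⋀[B]^m Q).map (ExteriorAlgebra.map s).toLinearMap ≤ ⋀[B]^m F := by
    change ((LinearMap.range (ExteriorAlgebra.ι B (M := Q))) ^ m).map
      (ExteriorAlgebra.map s).toLinearMap ≤ (LinearMap.range (ExteriorAlgebra.ι B (M := F))) ^ m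
    rw [Submodule.map_pow, ExteriorAlgebra.ι_range_map_map]
    exact pow_le_pow_left' LinearMap.map_le_range m
  exact h1 ⟨ω, hω, rfl⟩

theorem mul_mem_add (i j : ℕ) (x y : ExteriorAlgebra B F) (hx : x ∈ ⋀[B]^i F)
    (hy : y ∈ ⋀[B]^j F) : x * y ∈ ⋀[B]^(i + j) F := by
  change x * y ∈ (LinearMap.range (ExteriorAlgebra.ι B (M := F))) ^ (i + j)
  rw [pow_add]
  exact Submodule.mul_mem_mul hx hy

theorem ι_mul_mem (n : ℕ) (v : F) (x : ExteriorAlgebra B F) (hx : x ∈ ⋀[B]^n F) :
    ExteriorAlgebra.ι B v * x ∈ ⋀[B]^(n + 1) F := by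
  have := mul_mem_add 1 n (ExteriorAlgebra.ι B v) x (by
    change _ ∈ (LinearMap.range (ExteriorAlgebra.ι B (M := F))) ^ 1
    rw [pow_one]; exact ⟨v, rfl⟩) hx
  rwa [add_comm] at this


section equiv
variable {Q : Type*} [AddCommGroup Q] [Module B Q] (s : Q →ₗ[B] F) (π : F →ₗ[B] Q)
  {r : ℕ} (k : Fin r → F) (lam : Fin r → Module.Dual B F)

/-- `ω ↦ kap k * map s ω`. -/
noncomputable def psi : ExteriorAlgebra B Q →ₗ[B] ExteriorAlgebra B F :=
  (LinearMap.mulLeft B (kap B k)) ∘ₗ (ExteriorAlgebra.map s).toLinearMap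

theorem psi_apply (ω : ExteriorAlgebra B Q) : psi s k ω = kap B k * ExteriorAlgebra.map s ω := rfl

theorem chi_psi (h1 : ∀ q, π (s q) = q)
    (h2 : ∀ i j, lam i (k j) = if i = j then 1 else 0)
    (h3 : ∀ i q, lam i (s q) = 0) (ω : ExteriorAlgebra B Q) :
    ExteriorAlgebra.map π (cIter lam (psi s k ω)) = ω := by
  rw [psi_apply, cIter_kap_mul k lam h2 _ (fun i => cL_map_eq_zero s (lam i) (h3 i) ω)]
  have : (ExteriorAlgebra.map π).comp (ExteriorAlgebra.map s) = AlgHom.id B _ := by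
    rw [ExteriorAlgebra.map_comp_map]
    have : π ∘ₗ s = LinearMap.id := LinearMap.ext h1
    rw [this, ExteriorAlgebra.map_id]
  exact DFunLike.congr_fun this ω

theorem psi_chi (h2 : ∀ i j, lam i (k j) = if i = j then 1 else 0)
    (h4 : ∀ f, f = s (π f) + ∑ i, lam i f • k i) (x : ExteriorAlgebra B F)
    (hx : ∀ i, ExteriorAlgebra.ι B (k i) * x = 0) :
    psi s k (ExteriorAlgebra.map π (cIter lam x)) = x := by
  rw [psi_apply]
  have e1 := eq_kap_mul_cIter k lam h2 x hx
  have e2 := kap_mul_map s π k lam h4 (cIter lam x)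
  have e3 : ExteriorAlgebra.map (s ∘ₗ π) (cIter lam x) =
      ExteriorAlgebra.map s (ExteriorAlgebra.map π (cIter lam x)) := by
    rw [← ExteriorAlgebra.map_comp_map]; rfl
  rw [← e3, ← e2, ← e1]

theorem psi_mem (j : ℕ) (ω : ExteriorAlgebra B Q) (hω : ω ∈ ⋀[B]^j Q) :
    psi s k ω ∈ ⋀[B]^(r + j) F :=
  mul_mem_add r j _ _ (kap_mem k) (map_mem s j ω hω)

theorem projL_psi {n : ℕ} (hrn : r ≤ n) (y : ExteriorAlgebra B Q) :
    (projL n (psi s k y) : ExteriorAlgebra B F) =
      psi s k (projL (n - r) y : ExteriorAlgebra B Q) := by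
  induction y using DirectSum.Decomposition.inductionOn (fun i : ℕ => ⋀[B]^i Q) with
  | zero => simp
  | @homogeneous j y =>
    by_cases hj : j = n - r
    · subst hj
      rw [projL_coe, projL_of_mem_same]
      have := psi_mem s k (n - r) y y.2
      rwa [Nat.add_sub_cancel' hrn] at this
    · rw [projL_of_mem_ne n (r + j) _ (psi_mem s k j y y.2) (by omega),
        projL_of_mem_ne (n - r) j _ y.2 hj]
      simp
  | add y y' hy hy' =>
    simp only [map_add, Submodule.coe_add, hy, hy']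

theorem exists_equiv {n : ℕ} (hrn : r ≤ n) (h1 : ∀ q, π (s q) = q)
    (h2 : ∀ i j, lam i (k j) = if i = j then 1 else 0)
    (h3 : ∀ i q, lam i (s q) = 0)
    (h4 : ∀ f, f = s (π f) + ∑ i, lam i f • k i)
    (hF : ∀ x ∈ ⋀[B]^(n + 1) F, x = 0) :
    Nonempty (⋀[B]^(n - r) Q ≃ₗ[B] ⋀[B]^n F) := by
  have hmem : ∀ ω : ⋀[B]^(n - r) Q, psi s k (ω : ExteriorAlgebra B Q) ∈ ⋀[B]^n F := by
    intro ω
    have := psi_mem s k (n - r) ω ω.2
    rwa [Nat.add_sub_cancel' hrn] at this
  let ψ₀ : ⋀[B]^(n - r) Q →ₗ[B] ⋀[B]^n F :=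
    LinearMap.codRestrict _ ((psi s k) ∘ₗ (Submodule.subtype _)) hmem
  have hψ₀ : ∀ ω, (ψ₀ ω : ExteriorAlgebra B F) = psi s k (ω : ExteriorAlgebra B Q) := fun ω => rfl
  refine ⟨LinearEquiv.ofBijective ψ₀ ⟨?_, ?_⟩⟩
  · intro ω ω' h
    have h' := congrArg (fun z : ⋀[B]^n F => ExteriorAlgebra.map π (cIter lam (z : ExteriorAlgebra B F))) h
    simp only [hψ₀, chi_psi s π k lam h1 h2 h3] at h'
    exact Subtype.ext h'
  · intro x
    have hx : ∀ i, ExteriorAlgebra.ι B (k i) * (x : ExteriorAlgebra B F) = 0 :=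
      fun i => hF _ (ι_mul_mem (B := B) n (k i) (x : ExteriorAlgebra B F) x.2)
    have e := psi_chi s π k lam h2 h4 x hx
    refine ⟨projL (n - r) (ExteriorAlgebra.map π (cIter lam (x : ExteriorAlgebra B F))), ?_⟩
    apply Subtype.ext
    rw [hψ₀, ← projL_psi s k hrn, e, projL_coe]

end equiv

end ext

end Groth.Agent.Helper18Det
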