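import Groth.Agent.Lib.Helper18Det1
import Groth.Agent.Lib.Helper11KoszulReg
set_option autoImplicit false
set_option linter.style.haveILetI false
set_option linter.unusedSectionVars false
universe u
open TensorProduct

namespace Groth.Agent.Helper18Det

section cot
variable {P : Type u} [CommRing P] {r : ℕ} (f : Fin r → P)

open Groth.Agent.Lib.Helper11KoszulReg in
theorem mem_of_mem_triv (m : Fin r → P) (hm : m ∈ triv f P) (l : Fin r) :
    m l ∈ Ideal.span (Set.range f) := by
  induction hm using Submodule.span_induction with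
  | mem v hv =>
    obtain ⟨i, j, x, rfl⟩ := hv
    simp only [Pi.sub_apply, Pi.smul_apply, smul_eq_mul]
    exact Ideal.sub_mem _ (Ideal.mul_mem_right _ _ (Ideal.subset_span ⟨j, rfl⟩))
      (Ideal.mul_mem_right _ _ (Ideal.subset_span ⟨i, rfl⟩))
  | zero => exact Ideal.zero_mem _
  | add a b _ _ ha hb => exact Ideal.add_mem _ ha hb
  | smul c a _ ha => exact Ideal.mul_mem_left _ c ha

theorem coeff_mem_of_sum_mem_sq
    (hreg : RingTheory.Sequence.IsWeaklyRegular P (List.ofFn f))
    (a : Fin r → P) (ha : ∑ i, a i * f i ∈ (Ideal.span (Set.range f)) ^ 2) (l : Fin r) :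
    a l ∈ Ideal.span (Set.range f) := by
  have hK := Groth.Agent.Lib.Helper11KoszulReg.koszulH1Zero_of_isWeaklyRegular r f P hreg
  rw [Groth.Agent.Lib.Helper11KoszulReg.koszulH1Zero_iff] at hK
  rw [pow_two, ← smul_eq_mul, Ideal.span, Submodule.mem_ideal_smul_span_iff_exists_sum] at ha
  obtain ⟨c, hc, hsum⟩ := ha
  rw [Finsupp.sum_fintype _ _ (fun i => by simp)] at hsum
  have hrel : ∑ i, f i • (a i - c i) = 0 := by
    simp only [smul_eq_mul, mul_sub, Finset.sum_sub_distrib]
    rw [sub_eq_zero]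
    simp only [smul_eq_mul] at hsum
    simp only [mul_comm (f _)]
    exact hsum.symm
  have := mem_of_mem_triv f _ (hK _ hrel) l
  have h2 : a l = (a l - c l) + c l := by ring
  rw [h2]
  exact Ideal.add_mem _ this (hc l)


theorem exists_basis_cotangent
    (hreg : RingTheory.Sequence.IsWeaklyRegular P (List.ofFn f)) :
    ∃ b : Module.Basis (Fin r) (P ⧸ Ideal.span (Set.range f))
        (Ideal.span (Set.range f)).Cotangent,
      ∀ i, b i = (Ideal.span (Set.range f)).toCotangent ⟨f i, Ideal.subset_span ⟨i, rfl⟩⟩ := by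
  set I := Ideal.span (Set.range f) with hI
  let v : Fin r → I.Cotangent := fun i => I.toCotangent ⟨f i, Ideal.subset_span ⟨i, rfl⟩⟩
  have hsum : ∀ a : Fin r → P, ∑ i, (Ideal.Quotient.mk I (a i)) • v i =
      I.toCotangent ⟨∑ i, a i * f i, Ideal.sum_mem _ fun i _ =>
        Ideal.mul_mem_left _ _ (Ideal.subset_span ⟨i, rfl⟩)⟩ := by
    intro a
    have : ∀ i, (Ideal.Quotient.mk I (a i)) • v i = a i • v i := fun i => by
      rw [← Ideal.Quotient.algebraMap_eq, algebraMap_smul]
    simp only [this, v, ← map_smul, ← map_sum]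
    congr 1
    apply Subtype.ext
    simp
  have hli : LinearIndependent (P ⧸ I) v := by
    rw [Fintype.linearIndependent_iff]
    intro g hg i
    choose a ha using fun i => Ideal.Quotient.mk_surjective (g i)
    have hg' : ∑ i, (Ideal.Quotient.mk I (a i)) • v i = 0 := by
      simp only [ha]; exact hg
    rw [hsum, Ideal.toCotangent_eq_zero] at hg'
    have := coeff_mem_of_sum_mem_sq f hreg a hg' i
    rw [← ha i]
    exact Ideal.Quotient.eq_zero_iff_mem.mpr this
  have hsp : ⊤ ≤ Submodule.span (P ⧸ I) (Set.range v) := by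
    intro x _
    obtain ⟨⟨y, hy⟩, rfl⟩ := I.toCotangent_surjective x
    obtain ⟨c, hc⟩ := Ideal.mem_span_range_iff_exists_fun.mp hy
    have : I.toCotangent ⟨y, hy⟩ = ∑ i, (Ideal.Quotient.mk I (c i)) • v i := by
      rw [hsum]; congr 1; exact Subtype.ext hc.symm
    rw [this]
    exact Submodule.sum_mem _ fun i _ => Submodule.smul_mem _ _ (Submodule.subset_span ⟨i, rfl⟩)
  exact ⟨Module.Basis.mk hli hsp, fun i => by rw [Module.Basis.mk_apply]⟩

end cot

section split
variable {B K F Q : Type*} [CommRing B] [AddCommGroup K] [Module B K] [AddCommGroup F] [Module B F]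
  [AddCommGroup Q] [Module B Q]

theorem exists_split_data (j : K →ₗ[B] F) (g : F →ₗ[B] Q) (hex : Function.Exact j g)
    (hg : Function.Surjective g) (l : F →ₗ[B] K) (hl : l ∘ₗ j = LinearMap.id) {r : ℕ}
    (b : Module.Basis (Fin r) B K) :
    ∃ (s : Q →ₗ[B] F) (lam : Fin r → Module.Dual B F), (∀ q, g (s q) = q) ∧
      (∀ i i', lam i (j (b i')) = if i = i' then 1 else 0) ∧ (∀ i q, lam i (s q) = 0) ∧
      (∀ y, y = s (g y) + ∑ i, lam i y • j (b i)) := by
  obtain ⟨e, he1, he2⟩ := hex.splitInjectiveEquiv hg ⟨l, hl⟩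
  have hj : ∀ x, e (j x) = (x, 0) := by
    intro x
    rw [he1]; simp
  have hgy : ∀ y, g y = (e y).2 := by
    intro y
    rw [he2]; rfl
  refine ⟨e.symm.toLinearMap ∘ₗ LinearMap.inr B K Q,
    fun i => (b.coord i) ∘ₗ LinearMap.fst B K Q ∘ₗ e.toLinearMap, ?_, ?_, ?_, ?_⟩
  · intro q
    rw [hgy]; simp
  · intro i i'
    simp only [LinearMap.comp_apply, LinearEquiv.coe_coe, hj, LinearMap.fst_apply,
      Module.Basis.coord_apply, Module.Basis.repr_self, Finsupp.single_apply]
    simp only [eq_comm]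
  · intro i q
    simp
  · intro y
    have h1 : ∑ i, ((b.coord i) ∘ₗ LinearMap.fst B K Q ∘ₗ e.toLinearMap) y • j (b i) =
        j (e y).1 := by
      simp only [LinearMap.comp_apply, LinearEquiv.coe_coe, LinearMap.fst_apply,
        Module.Basis.coord_apply, ← map_smul, ← map_sum, Module.Basis.sum_repr]
    rw [h1]
    apply e.injective
    rw [map_add, hj, hgy]
    simp

theorem exists_equiv_of_split (j : K →ₗ[B] F) (g : F →ₗ[B] Q) (hex : Function.Exact j g)
    (hg : Function.Surjective g) (l : F →ₗ[B] K) (hl : l ∘ₗ j = LinearMap.id) {r n : ℕ}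
    (hrn : r ≤ n) (b : Module.Basis (Fin r) B K) (hF : ∀ x ∈ ⋀[B]^(n + 1) F, x = 0) :
    Nonempty (⋀[B]^(n - r) Q ≃ₗ[B] ⋀[B]^n F) := by
  obtain ⟨s, lam, h1, h2, h3, h4⟩ := exists_split_data j g hex hg l hl b
  exact exists_equiv s g (fun i => j (b i)) lam hrn h1 h2 h3 h4 hF

end split

section kaehler
variable (A : Type u) {P : Type u} [CommRing A] [CommRing P] [Algebra A P]
  [Algebra.FormallySmooth A P] (I : Ideal P) [Algebra.FormallySmooth A (P ⧸ I)]

theorem exists_jl :
    ∃ (j : I.Cotangent →ₗ[P ⧸ I] (P ⧸ I) ⊗[P] Ω[P⁄A])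
      (l : (P ⧸ I) ⊗[P] Ω[P⁄A] →ₗ[P ⧸ I] I.Cotangent), l ∘ₗ j = LinearMap.id ∧
      Function.Exact j (KaehlerDifferential.mapBaseChange A P (P ⧸ I)) ∧
      ∀ x : I, j (I.toCotangent x) = 1 ⊗ₜ KaehlerDifferential.D A P x := by
  have hsurj : Function.Surjective (algebraMap P (P ⧸ I)) := Ideal.Quotient.mk_surjective
  have hker : RingHom.ker (algebraMap P (P ⧸ I)) = I := Ideal.mk_ker
  obtain ⟨l', hl'⟩ := (Algebra.FormallySmooth.iff_split_injection (R := A) (P := P)
    (A := P ⧸ I) hsurj).mp inferInstance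
  let m1 : I.Cotangent →ₗ[P] (RingHom.ker (algebraMap P (P ⧸ I))).Cotangent :=
    Ideal.mapCotangent I _ (AlgHom.id P P) (by rw [hker]; exact fun x hx => hx)
  let m2 : (RingHom.ker (algebraMap P (P ⧸ I))).Cotangent →ₗ[P] I.Cotangent :=
    Ideal.mapCotangent _ I (AlgHom.id P P) (by rw [hker]; exact fun x hx => hx)
  have h12 : ∀ x, m2 (m1 x) = x := by
    intro x
    obtain ⟨x, rfl⟩ := I.toCotangent_surjective x
    rfl
  have h21 : ∀ x, m1 (m2 x) = x := by
    intro x
    obtain ⟨x, rfl⟩ := Ideal.toCotangent_surjective _ x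
    rfl
  let jP : I.Cotangent →ₗ[P] (P ⧸ I) ⊗[P] Ω[P⁄A] :=
    (KaehlerDifferential.kerCotangentToTensor A P (P ⧸ I)) ∘ₗ m1
  let lP : (P ⧸ I) ⊗[P] Ω[P⁄A] →ₗ[P] I.Cotangent := m2 ∘ₗ l'
  have hlj : ∀ x, lP (jP x) = x := by
    intro x
    change m2 (l' (KaehlerDifferential.kerCotangentToTensor A P (P ⧸ I) (m1 x))) = x
    have := LinearMap.congr_fun hl' (m1 x)
    rw [LinearMap.comp_apply] at this
    rw [this]
    exact h12 x
  refine ⟨LinearMap.extendScalarsOfSurjective hsurj jP,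
    LinearMap.extendScalarsOfSurjective hsurj lP, ?_, ?_, ?_⟩
  · exact LinearMap.ext hlj
  · intro y
    have hex := KaehlerDifferential.exact_kerCotangentToTensor_mapBaseChange A P (P ⧸ I) hsurj y
    constructor
    · intro hy
      obtain ⟨z, hz⟩ := hex.mp hy
      exact ⟨m2 z, by
        change KaehlerDifferential.kerCotangentToTensor A P (P ⧸ I) (m1 (m2 z)) = y
        rw [h21, hz]⟩
    · rintro ⟨x, rfl⟩
      exact hex.mpr ⟨m1 x, rfl⟩
  · intro x
    rfl

end kaehler

end Groth.Agent.Helper18Det
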