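import Groth.Agent.Lib.Helper18Det2
set_option autoImplicit false
set_option linter.style.haveILetI false
set_option linter.unusedSectionVars false
universe u
open TensorProduct

namespace Groth.Agent.Helper18Det

section final

theorem equiv_self_of_basis {B M : Type*} [CommRing B] [Nontrivial B] [AddCommGroup M]
    [Module B M] {m : ℕ} (b : Module.Basis (Fin m) B M) :
    Nonempty (B ≃ₗ[B] ⋀[B]^m M) := by
  haveI : Module.Free B M := Module.Free.of_basis b
  haveI : Module.Finite B M := Module.Finite.of_basis b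
  apply Module.nonempty_linearEquiv_of_finrank_eq_one
  rw [exteriorPower.finrank_eq, Module.finrank_eq_card_basis b, Fintype.card_fin, Nat.choose_self]

theorem eq_zero_of_basis {B M : Type*} [CommRing B] [Nontrivial B] [AddCommGroup M]
    [Module B M] {m : ℕ} (b : Module.Basis (Fin m) B M) (x : ExteriorAlgebra B M)
    (hx : x ∈ ⋀[B]^(m + 1) M) : x = 0 := by
  haveI : Module.Free B M := Module.Free.of_basis b
  haveI : Module.Finite B M := Module.Finite.of_basis b
  have h : Module.finrank B (⋀[B]^(m + 1) M) = 0 := by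
    rw [exteriorPower.finrank_eq, Module.finrank_eq_card_basis b, Fintype.card_fin,
      Nat.choose_succ_self]
  haveI : Subsingleton (⋀[B]^(m + 1) M) := (Module.finrank_eq_zero_iff_of_free B _).mp h
  have : (⟨x, hx⟩ : ⋀[B]^(m + 1) M) = 0 := Subsingleton.elim _ _
  exact congrArg Subtype.val this

theorem main (A : Type u) [CommRing A]
    (n r : ℕ) (hrn : r ≤ n) (F : Fin r → MvPolynomial (Fin n) A)
    (hreg : RingTheory.Sequence.IsWeaklyRegular (MvPolynomial (Fin n) A) (List.ofFn F))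
    (I : Ideal (MvPolynomial (Fin n) A)) (hI : I = Ideal.span (Set.range F))
    [Algebra.Smooth A (MvPolynomial (Fin n) A ⧸ I)] :
    Nonempty ((Module.Dual (MvPolynomial (Fin n) A ⧸ I) (⋀[MvPolynomial (Fin n) A ⧸ I]^r I.Cotangent)) ⊗[MvPolynomial (Fin n) A ⧸ I]
        ((MvPolynomial (Fin n) A ⧸ I) ⊗[MvPolynomial (Fin n) A] (⋀[MvPolynomial (Fin n) A]^n (Ω[MvPolynomial (Fin n) A⁄A])))
      ≃ₗ[MvPolynomial (Fin n) A ⧸ I] (⋀[MvPolynomial (Fin n) A ⧸ I]^(n - r) (Ω[(MvPolynomial (Fin n) A ⧸ I)⁄A]))) := by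
  subst hI
  set I := Ideal.span (Set.range F) with hI
  rcases subsingleton_or_nontrivial (MvPolynomial (Fin n) A ⧸ I) with hB | hB
  · haveI : Subsingleton ((Module.Dual (MvPolynomial (Fin n) A ⧸ I) (⋀[MvPolynomial (Fin n) A ⧸ I]^r I.Cotangent)) ⊗[MvPolynomial (Fin n) A ⧸ I]
        ((MvPolynomial (Fin n) A ⧸ I) ⊗[MvPolynomial (Fin n) A] (⋀[MvPolynomial (Fin n) A]^n (Ω[MvPolynomial (Fin n) A⁄A])))) :=
      Module.subsingleton (MvPolynomial (Fin n) A ⧸ I) _
    haveI : Subsingleton (⋀[MvPolynomial (Fin n) A ⧸ I]^(n - r) (Ω[(MvPolynomial (Fin n) A ⧸ I)⁄A])) :=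
      Module.subsingleton (MvPolynomial (Fin n) A ⧸ I) _
    exact ⟨LinearEquiv.ofSubsingleton _ _⟩
  haveI : Nontrivial (MvPolynomial (Fin n) A) :=
    (algebraMap (MvPolynomial (Fin n) A) (MvPolynomial (Fin n) A ⧸ I)).domain_nontrivial
  obtain ⟨b, hb⟩ := exists_basis_cotangent F hreg
  obtain ⟨j, l, hlj, hex, hj⟩ := exists_jl A I
  have hsurj : Function.Surjective (algebraMap (MvPolynomial (Fin n) A) (MvPolynomial (Fin n) A ⧸ I)) :=
    Ideal.Quotient.mk_surjective
  have hg := KaehlerDifferential.mapBaseChange_surjective A (MvPolynomial (Fin n) A)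
    (MvPolynomial (Fin n) A ⧸ I) hsurj
  let bP := KaehlerDifferential.mvPolynomialBasis A (Fin n)
  let bF : Module.Basis (Fin n) (MvPolynomial (Fin n) A ⧸ I)
      ((MvPolynomial (Fin n) A ⧸ I) ⊗[MvPolynomial (Fin n) A] Ω[MvPolynomial (Fin n) A⁄A]) :=
    bP.baseChange (MvPolynomial (Fin n) A ⧸ I)
  -- the right-hand side
  obtain ⟨eR⟩ := exists_equiv_of_split j _ hex hg l hlj hrn b (fun x hx => eq_zero_of_basis bF x hx)
  obtain ⟨eF⟩ := equiv_self_of_basis bF
  -- the left-hand side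
  obtain ⟨eK⟩ := equiv_self_of_basis b
  obtain ⟨eP⟩ := equiv_self_of_basis bP
  let e1 : Module.Dual (MvPolynomial (Fin n) A ⧸ I) (⋀[MvPolynomial (Fin n) A ⧸ I]^r I.Cotangent)
      ≃ₗ[MvPolynomial (Fin n) A ⧸ I] (MvPolynomial (Fin n) A ⧸ I) :=
    eK.dualMap.trans (LinearMap.ringLmapEquivSelf _ _ _)
  let e2 : ((MvPolynomial (Fin n) A ⧸ I) ⊗[MvPolynomial (Fin n) A] (⋀[MvPolynomial (Fin n) A]^n (Ω[MvPolynomial (Fin n) A⁄A])))
      ≃ₗ[MvPolynomial (Fin n) A ⧸ I] (MvPolynomial (Fin n) A ⧸ I) :=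
    (TensorProduct.AlgebraTensorModule.congr (LinearEquiv.refl _ _) eP.symm).trans
      (TensorProduct.AlgebraTensorModule.rid _ _ _)
  exact ⟨((TensorProduct.congr e1 e2).trans (TensorProduct.lid _ _)).trans (eF.trans eR.symm)⟩

end final

end Groth.Agent.Helper18Det
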