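import Mathlib
import Groth.Prelude.Def_W4c6eohyperellchar2Gc

set_option autoImplicit false
universe u
open W4c6eohyperellchar2

namespace Groth.Agent.Lib.Helper18Dieu

variable {c : ℕ} {k : Type u} [Field k]

lemma coefX_fin (v : GcMod c k) (j : Fin c) : coefX v (j.val + 1) = v.1 j := by
  unfold coefX
  rw [dif_pos ⟨by omega, by have := j.isLt; omega⟩]
  congr

lemma coefY_fin (v : GcMod c k) (j : Fin c) : coefY v (j.val + 1) = v.2 j := by
  unfold coefY
  rw [dif_pos ⟨by omega, by have := j.isLt; omega⟩]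
  congr

lemma coefX_out (v : GcMod c k) (n : ℕ) (h : n = 0 ∨ c < n) : coefX v n = 0 := by
  unfold coefX
  rw [dif_neg (by omega)]

lemma coefY_out (v : GcMod c k) (n : ℕ) (h : n = 0 ∨ c < n) : coefY v n = 0 := by
  unfold coefY
  rw [dif_neg (by omega)]

/-- coordinate description of Nfil -/
def W (c : ℕ) (k : Type u) [Field k] (i : ℕ) : Submodule k (GcMod c k) where
  carrier := {v | (∀ n : Fin c, i < n.val + 1 → v.2 n = 0) ∧ (∀ n : Fin c, n.val + 1 ≤ 2 * c - i → v.1 n = 0)}
  add_mem' := by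
    rintro a b ⟨ha1, ha2⟩ ⟨hb1, hb2⟩
    refine ⟨fun n hn => ?_, fun n hn => ?_⟩
    · show a.2 n + b.2 n = 0
      rw [ha1 n hn, hb1 n hn, add_zero]
    · show a.1 n + b.1 n = 0
      rw [ha2 n hn, hb2 n hn, add_zero]
  zero_mem' := ⟨fun _ _ => rfl, fun _ _ => rfl⟩
  smul_mem' := by
    rintro t a ⟨ha1, ha2⟩
    refine ⟨fun n hn => ?_, fun n hn => ?_⟩
    · show t * a.2 n = 0
      rw [ha1 n hn, mul_zero]
    · show t * a.1 n = 0
      rw [ha2 n hn, mul_zero]

lemma mem_W {i : ℕ} {v : GcMod c k} : v ∈ W c k i ↔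
    (∀ n : Fin c, i < n.val + 1 → v.2 n = 0) ∧ (∀ n : Fin c, n.val + 1 ≤ 2 * c - i → v.1 n = 0) := Iff.rfl

lemma decomp (v : GcMod c k) :
    v = ∑ n : Fin c, (v.1 n • X c k (n.val + 1) + v.2 n • Y c k (n.val + 1)) := by
  refine Prod.ext ?_ ?_
  · funext j
    rw [Prod.fst_sum, Finset.sum_apply]
    rw [Finset.sum_eq_single j]
    · simp [X, Y]
    · intro b _ hb
      have : ¬ (j.val = b.val) := by
        intro h; apply hb; ext; omega
      simp [X, Y, this]
    · intro h; exact absurd (Finset.mem_univ j) h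
  · funext j
    rw [Prod.snd_sum, Finset.sum_apply]
    rw [Finset.sum_eq_single j]
    · simp [X, Y]
    · intro b _ hb
      have : ¬ (j.val = b.val) := by
        intro h; apply hb; ext; omega
      simp [X, Y, this]
    · intro h; exact absurd (Finset.mem_univ j) h

lemma Nfil_eq_W (i : ℕ) : Nfil c k i = W c k i := by
  apply le_antisymm
  · unfold Nfil
    rw [Submodule.span_le]
    rintro v (⟨n, hn, rfl⟩ | ⟨n, hn, rfl⟩)
    · rw [Set.mem_Icc] at hn
      refine ⟨fun m hm => ?_, fun m hm => ?_⟩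
      · have : ¬ (m.val + 1 = n) := by
          have := le_min_iff.mp hn.2; omega
        simp [Y, this]
      · simp [Y]
    · rw [Set.mem_Ioc] at hn
      refine ⟨fun m hm => ?_, fun m hm => ?_⟩
      · simp [X]
      · have : ¬ (m.val + 1 = n) := by omega
        simp [X, this]
  · intro v hv
    rw [decomp v]
    refine Submodule.sum_mem _ fun n _ => Submodule.add_mem _ ?_ ?_
    · by_cases h : v.1 n = 0
      · rw [h, zero_smul]; exact Submodule.zero_mem _
      · refine Submodule.smul_mem _ _ (Submodule.subset_span (Or.inr ⟨n.val + 1, ?_, rfl⟩))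
        rw [Set.mem_Ioc]
        have h2 := hv.2 n
        have := n.isLt
        constructor
        · by_contra hc; exact h (h2 (by omega))
        · omega
    · by_cases h : v.2 n = 0
      · rw [h, zero_smul]; exact Submodule.zero_mem _
      · refine Submodule.smul_mem _ _ (Submodule.subset_span (Or.inl ⟨n.val + 1, ?_, rfl⟩))
        rw [Set.mem_Icc]
        have h2 := hv.1 n
        have := n.isLt
        refine ⟨by omega, le_min ?_ (by omega)⟩
        by_contra hc; exact h (h2 (by omega))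

lemma mem_Nfil {i : ℕ} {v : GcMod c k} : v ∈ Nfil c k i ↔
    (∀ n : Fin c, i < n.val + 1 → v.2 n = 0) ∧ (∀ n : Fin c, n.val + 1 ≤ 2 * c - i → v.1 n = 0) := by
  rw [Nfil_eq_W]; exact mem_W

end Groth.Agent.Lib.Helper18Dieu
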