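import Mathlib
import Groth.Agent.Lib.Helper18Dieu

set_option autoImplicit false
universe u
open W4c6eohyperellchar2

namespace Groth.Agent.Lib.Helper18Dieu

variable {c : ℕ} {k : Type u} [Field k]

noncomputable def stdB (c : ℕ) (k : Type u) [Field k] : Module.Basis (Fin c ⊕ Fin c) k (GcMod c k) :=
  (Pi.basisFun k (Fin c)).prod (Pi.basisFun k (Fin c))

lemma X_eq (n : ℕ) (h1 : 1 ≤ n) (h2 : n ≤ c) : X c k n = stdB c k (Sum.inl ⟨n - 1, by omega⟩) := by
  refine Prod.ext ?_ ?_
  · funext j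
    simp only [X, stdB, Module.Basis.prod_apply, Sum.elim_inl, Function.comp_apply, LinearMap.coe_inl,
      Pi.basisFun_apply, Pi.single_apply]
    congr 1
    rw [Fin.ext_iff]
    simp only [eq_iff_iff]
    omega
  · simp [X, stdB, Module.Basis.prod_apply]

lemma Y_eq (n : ℕ) (h1 : 1 ≤ n) (h2 : n ≤ c) : Y c k n = stdB c k (Sum.inr ⟨n - 1, by omega⟩) := by
  refine Prod.ext ?_ ?_
  · simp [Y, stdB, Module.Basis.prod_apply]
  · funext j
    simp only [Y, stdB, Module.Basis.prod_apply, Sum.elim_inr, Function.comp_apply, LinearMap.coe_inr,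
      Pi.basisFun_apply, Pi.single_apply]
    congr 1
    rw [Fin.ext_iff]
    simp only [eq_iff_iff]
    omega

lemma finrank_Nfil (i : ℕ) (hi : i ≤ 2 * c) : Module.finrank k (Nfil c k i) = i := by
  classical
  let ι := ↥(Finset.Icc 1 (min i c)) ⊕ ↥(Finset.Ioc (2 * c - i) c)
  let φ : ι → Fin c ⊕ Fin c := Sum.elim
    (fun n => Sum.inr ⟨n.1 - 1, by have := Finset.mem_Icc.mp n.2; have := le_min_iff.mp this.2; omega⟩)
    (fun n => Sum.inl ⟨n.1 - 1, by have := Finset.mem_Ioc.mp n.2; omega⟩)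
  have hφ : Function.Injective φ := by
    rintro (⟨a, ha⟩ | ⟨a, ha⟩) (⟨b, hb⟩ | ⟨b, hb⟩) h
    · simp only [φ, Sum.elim_inl, Sum.inr.injEq, Fin.mk.injEq] at h
      have := Finset.mem_Icc.mp ha; have := Finset.mem_Icc.mp hb
      congr 1; ext; simp only; omega
    · simp [φ] at h
    · simp [φ] at h
    · simp only [φ, Sum.elim_inr, Sum.inl.injEq, Fin.mk.injEq] at h
      have := Finset.mem_Ioc.mp ha; have := Finset.mem_Ioc.mp hb
      congr 1; ext; simp only; omega
  have hLI : LinearIndependent k ((stdB c k) ∘ φ) := (stdB c k).linearIndependent.comp φ hφ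
  have hrange : Set.range ((stdB c k) ∘ φ) =
      ((fun n => Y c k n) '' Set.Icc 1 (min i c) ∪ (fun n => X c k n) '' Set.Ioc (2 * c - i) c) := by
    ext v
    constructor
    · rintro ⟨(⟨a, ha⟩ | ⟨a, ha⟩), rfl⟩
      · left
        have h := Finset.mem_Icc.mp ha
        have h' := le_min_iff.mp h.2
        refine ⟨a, Set.mem_Icc.mpr h, ?_⟩
        show Y c k a = _
        rw [Y_eq a h.1 h'.2]; rfl
      · right
        have h := Finset.mem_Ioc.mp ha
        refine ⟨a, Set.mem_Ioc.mpr h, ?_⟩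
        show X c k a = _
        rw [X_eq a (by omega) h.2]; rfl
    · rintro (⟨a, ha, rfl⟩ | ⟨a, ha, rfl⟩)
      · have h := Set.mem_Icc.mp ha
        have h' := le_min_iff.mp h.2
        refine ⟨Sum.inl ⟨a, Finset.mem_Icc.mpr h⟩, ?_⟩
        show _ = Y c k a
        rw [Y_eq a h.1 h'.2]; rfl
      · have h := Set.mem_Ioc.mp ha
        refine ⟨Sum.inr ⟨a, Finset.mem_Ioc.mpr h⟩, ?_⟩
        show _ = X c k a
        rw [X_eq a (by omega) h.2]; rfl
  have := finrank_span_eq_card hLI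
  rw [hrange] at this
  unfold Nfil
  rw [this, Fintype.card_sum, Fintype.card_coe, Fintype.card_coe, Nat.card_Icc, Nat.card_Ioc]
  omega

end Groth.Agent.Lib.Helper18Dieu
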