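import Mathlib
import Groth.Agent.Lib.Helper18Dieu

set_option autoImplicit false
universe u
open W4c6eohyperellchar2

namespace Groth.Agent.Lib.Helper18Dieu

variable {c : ℕ} {k : Type u} [Field k] [CharP k 2] [PerfectRing k 2]

lemma coefY_add (v w : GcMod c k) (n : ℕ) : coefY (v + w) n = coefY v n + coefY w n := by
  unfold coefY
  split_ifs
  · rfl
  · simp

lemma NV_fst (a : ℕ → k) (v : GcMod c k) : (NV c k a v).1 = 0 := rfl

lemma NV_snd (a : ℕ → k) (v : GcMod c k) (m : Fin c) : (NV c k a v).2 m =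
    (frobeniusEquiv k 2).symm (coefY v (2 * (m.val + 1))) +
      Finset.univ.sum (fun j : Fin c =>
        if (j.val + 1) % 2 = 1 ∧ (m.val + 1) + j.val / 2 ≤ c then
          (frobeniusEquiv k 2).symm (v.1 j * a ((m.val + 1) + j.val / 2)) else 0) := rfl

lemma NV_add (a : ℕ → k) (v w : GcMod c k) : NV c k a (v + w) = NV c k a v + NV c k a w := by
  refine Prod.ext ?_ ?_
  · simp [NV_fst]
  · funext m
    show (NV c k a (v + w)).2 m = (NV c k a v).2 m + (NV c k a w).2 m
    rw [NV_snd, NV_snd, NV_snd, coefY_add, map_add]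
    rw [add_add_add_comm, ← Finset.sum_add_distrib]
    congr 1
    refine Finset.sum_congr rfl fun j _ => ?_
    split_ifs
    · rw [← map_add]
      congr 1
      show (v.1 j + w.1 j) * _ = _
      ring
    · simp

lemma NV_zero (a : ℕ → k) : NV c k a (0 : GcMod c k) = 0 := by
  have := NV_add a (0 : GcMod c k) 0
  rw [add_zero] at this
  exact left_eq_add.mp this

/-- forward inclusion -/
lemma NV_mem (a : ℕ → k) (i : ℕ) (hi : i ≤ 2 * c) {v : GcMod c k} (hv : v ∈ Nfil c k i) :
    NV c k a v ∈ Nfil c k (i / 2) := by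
  rw [mem_Nfil] at hv ⊢
  refine ⟨fun m hm => ?_, fun m _ => by rw [NV_fst]; rfl⟩
  rw [NV_snd]
  have h1 : coefY v (2 * (m.val + 1)) = 0 := by
    by_cases h : 2 * (m.val + 1) ≤ c
    · have := coefY_fin v ⟨2 * (m.val + 1) - 1, by omega⟩
      have e : (2 * (m.val + 1) - 1) + 1 = 2 * (m.val + 1) := by omega
      simp only [e] at this
      rw [this]
      apply hv.1
      simp only
      omega
    · exact coefY_out v _ (Or.inr (by omega))
  rw [h1, map_zero, zero_add]
  refine Finset.sum_eq_zero fun j _ => ?_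
  split_ifs with h
  · have : v.1 j = 0 := by
      apply hv.2
      omega
    rw [this, zero_mul, map_zero]
  · rfl

end Groth.Agent.Lib.Helper18Dieu
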