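import Mathlib
import Groth.Agent.Lib.Helper18Dieu3


set_option autoImplicit false
universe u
open W4c6eohyperellchar2

namespace Groth.Agent.Lib.Helper18Dieu

variable {c : ℕ} {k : Type u} [Field k] [CharP k 2] [PerfectRing k 2]

lemma exists_gen (a : ℕ → k) (ha : a c ≠ 0) (i : ℕ) (hi : i ≤ 2 * c) (r : ℕ) (hr : r + 1 ≤ i / 2) (t : k) :
    ∃ g ∈ Nfil c k i, (∀ m : Fin c, r < m.val → (NV c k a g).2 m = 0) ∧
      (∀ m : Fin c, m.val = r → (NV c k a g).2 m = t) := by
  by_cases hc : 2 * (r + 1) ≤ c
  · refine ⟨(0, fun n => if n.val + 1 = 2 * (r + 1) then t ^ 2 else 0), ?_, ?_, ?_⟩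
    · rw [mem_Nfil]
      refine ⟨fun n hn => ?_, fun n _ => rfl⟩
      show (if n.val + 1 = 2 * (r + 1) then t ^ 2 else 0) = 0
      rw [if_neg (by omega)]
    · intro m hm
      rw [NV_snd]
      have h1 : coefY ((0, fun n => if n.val + 1 = 2 * (r + 1) then t ^ 2 else 0) : GcMod c k) (2 * (m.val + 1)) = 0 := by
        unfold coefY
        split_ifs with h
        · show (if _ then t ^ 2 else 0) = 0
          rw [if_neg]
          simp only
          omega
        · rfl
      rw [h1, map_zero, zero_add]
      refine Finset.sum_eq_zero fun j _ => ?_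
      split_ifs
      · show (frobeniusEquiv k 2).symm ((0 : k) * _) = 0
        rw [zero_mul, map_zero]
      · rfl
    · intro m hm
      rw [NV_snd]
      have h1 : coefY ((0, fun n => if n.val + 1 = 2 * (r + 1) then t ^ 2 else 0) : GcMod c k) (2 * (m.val + 1)) = t ^ 2 := by
        unfold coefY
        rw [dif_pos ⟨by omega, by omega⟩]
        show (if _ then t ^ 2 else 0) = t ^ 2
        rw [if_pos]
        simp only
        omega
      rw [h1, frobeniusEquiv_symm_pow]
      rw [Finset.sum_eq_zero, add_zero]
      intro j _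
      split_ifs
      · show (frobeniusEquiv k 2).symm ((0 : k) * _) = 0
        rw [zero_mul, map_zero]
      · rfl
  · have hj0 : 2 * (c - r - 1) < c := by omega
    refine ⟨(fun n => if n.val = 2 * (c - r - 1) then t ^ 2 / a c else 0, 0), ?_, ?_, ?_⟩
    · rw [mem_Nfil]
      refine ⟨fun n _ => rfl, fun n hn => ?_⟩
      show (if n.val = 2 * (c - r - 1) then t ^ 2 / a c else 0) = 0
      rw [if_neg (by omega)]
    · intro m hm
      rw [NV_snd]
      have h1 : coefY ((fun n => if n.val = 2 * (c - r - 1) then t ^ 2 / a c else 0, 0) : GcMod c k) (2 * (m.val + 1)) = 0 := by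
        unfold coefY
        split_ifs <;> rfl
      rw [h1, map_zero, zero_add]
      refine Finset.sum_eq_zero fun j _ => ?_
      split_ifs with h
      · show (frobeniusEquiv k 2).symm ((if j.val = 2 * (c - r - 1) then t ^ 2 / a c else 0) * _) = 0
        rw [if_neg (by omega), zero_mul, map_zero]
      · rfl
    · intro m hm
      rw [NV_snd]
      have h1 : coefY ((fun n => if n.val = 2 * (c - r - 1) then t ^ 2 / a c else 0, 0) : GcMod c k) (2 * (m.val + 1)) = 0 := by
        unfold coefY
        split_ifs <;> rfl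
      rw [h1, map_zero, zero_add]
      rw [Finset.sum_eq_single (⟨2 * (c - r - 1), hj0⟩ : Fin c)]
      · rw [if_pos ⟨by simp only; omega, by simp only; omega⟩]
        show (frobeniusEquiv k 2).symm ((if (2 * (c - r - 1)) = 2 * (c - r - 1) then t ^ 2 / a c else 0) * _) = t
        rw [if_pos rfl]
        have e : m.val + 1 + 2 * (c - r - 1) / 2 = c := by omega
        simp only [e]
        rw [div_mul_cancel₀ _ ha, frobeniusEquiv_symm_pow]
      · intro j _ hj
        have hne : ¬ (j.val = 2 * (c - r - 1)) := fun h => hj (Fin.ext h)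
        split_ifs
        · show (frobeniusEquiv k 2).symm ((if j.val = 2 * (c - r - 1) then t ^ 2 / a c else 0) * _) = 0
          rw [if_neg hne, zero_mul, map_zero]
        · rfl
      · intro h; exact absurd (Finset.mem_univ _) h

end Groth.Agent.Lib.Helper18Dieu
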