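import Mathlib
import Groth.Agent.Lib.Helper18Dieu4

set_option autoImplicit false
universe u
open W4c6eohyperellchar2

namespace Groth.Agent.Lib.Helper18Dieu

variable {c : ℕ} {k : Type u} [Field k] [CharP k 2] [PerfectRing k 2]

lemma NV_surj (a : ℕ → k) (ha : a c ≠ 0) (i : ℕ) (hi : i ≤ 2 * c) (r : ℕ) (hr : r ≤ i / 2) :
    ∀ w ∈ Nfil c k r, ∃ v ∈ Nfil c k i, NV c k a v = w := by
  induction r with
  | zero =>
    intro w hw
    refine ⟨0, Submodule.zero_mem _, ?_⟩
    rw [NV_zero]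
    rw [mem_Nfil] at hw
    refine Prod.ext ?_ ?_
    · funext n; exact (hw.2 n (by have := n.isLt; omega)).symm
    · funext n; exact (hw.1 n (by omega)).symm
  | succ r ih =>
    intro w hw
    have hrc : r + 1 ≤ c := by omega
    obtain ⟨g, hg, hg1, hg2⟩ := exists_gen a ha i hi r hr (w.2 ⟨r, by omega⟩)
    have hw' := mem_Nfil.mp hw
    have hmem : w - NV c k a g ∈ Nfil c k r := by
      rw [mem_Nfil]
      refine ⟨fun n hn => ?_, fun n hn => ?_⟩
      · show w.2 n - (NV c k a g).2 n = 0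
        by_cases h : n.val = r
        · rw [hg2 n h]
          have : n = ⟨r, by omega⟩ := Fin.ext h
          rw [this, sub_self]
        · rw [hg1 n (by omega), hw'.1 n (by omega), sub_zero]
      · show w.1 n - (NV c k a g).1 n = 0
        rw [NV_fst, hw'.2 n (by have := n.isLt; omega)]
        simp
    obtain ⟨v', hv', hv'2⟩ := ih (by omega) _ hmem
    refine ⟨v' + g, Submodule.add_mem _ hv' hg, ?_⟩
    rw [NV_add, hv'2, sub_add_cancel]

theorem NV_image (a : ℕ → k) (ha : a c ≠ 0) (i : ℕ) (hi : i ≤ 2 * c) :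
    NV c k a '' (Nfil c k i : Set (GcMod c k)) = (Nfil c k (i / 2) : Set (GcMod c k)) := by
  apply Set.Subset.antisymm
  · rintro _ ⟨v, hv, rfl⟩
    exact NV_mem a i hi hv
  · intro w hw
    obtain ⟨v, hv, hv2⟩ := NV_surj a ha i hi (i / 2) le_rfl w hw
    exact ⟨v, hv, hv2⟩

end Groth.Agent.Lib.Helper18Dieu
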