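import Mathlib
import Groth.Agent.Lib.Helper18Dieu

set_option autoImplicit false
universe u
open W4c6eohyperellchar2

namespace Groth.Agent.Lib.Helper18Dieu

variable {c : ℕ} {k : Type u} [Field k]

lemma NF_fst (a : ℕ → k) (v : GcMod c k) (n : Fin c) : (NF c k a v).1 n =
    if (n.val + 1) % 2 = 0 then coefX v ((n.val + 1) / 2) ^ 2 else 0 := rfl

lemma NF_snd (a : ℕ → k) (v : GcMod c k) (n : Fin c) : (NF c k a v).2 n =
    if (n.val + 1) % 2 = 1 then
      Finset.univ.sum (fun j : Fin c =>
        if c < 2 * (j.val + 1) ∧ (j.val + 1) + n.val / 2 ≤ c then v.1 j ^ 2 * a ((j.val + 1) + n.val / 2) else 0)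
    else 0 := rfl

theorem NF_preimage (a : ℕ → k) (ha : a c ≠ 0) (i : ℕ) (hi : i ≤ 2 * c) :
    NF c k a ⁻¹' (Nfil c k i : Set (GcMod c k)) = (Nfil c k (c + (i + 1) / 2) : Set (GcMod c k)) := by
  ext v
  rw [Set.mem_preimage, SetLike.mem_coe, SetLike.mem_coe, mem_Nfil, mem_Nfil]
  constructor
  · rintro ⟨h1, h2⟩
    refine ⟨fun n hn => by have := n.isLt; omega, ?_⟩
    have key : ∀ N : ℕ, ∀ j : Fin c, j.val = N → j.val + 1 ≤ c - (i + 1) / 2 → v.1 j = 0 := by
      intro N
      induction N using Nat.strong_induction_on with
      | _ N ih =>
        intro j hjN hj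
        have hjc := j.isLt
        by_cases hc : 2 * (j.val + 1) ≤ c
        · have := h2 ⟨2 * (j.val + 1) - 1, by omega⟩ (by simp only; omega)
          rw [NF_fst, if_pos (by simp only; omega)] at this
          have e : (2 * (j.val + 1) - 1 + 1) / 2 = j.val + 1 := by omega
          simp only [e] at this
          rw [coefX_fin] at this
          exact pow_eq_zero_iff (two_ne_zero) |>.mp this
        · have := h1 ⟨2 * (c - (j.val + 1)), by omega⟩ (by simp only; omega)
          rw [NF_snd, if_pos (by simp only; omega)] at this
          rw [Finset.sum_eq_single j] at this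
          · rw [if_pos ⟨by omega, by simp only; omega⟩] at this
            have e : j.val + 1 + 2 * (c - (j.val + 1)) / 2 = c := by omega
            simp only [e] at this
            rcases mul_eq_zero.mp this with h | h
            · exact pow_eq_zero_iff (two_ne_zero) |>.mp h
            · exact absurd h ha
          · intro j' _ hj'
            split_ifs with hcond
            · have hlt : j'.val < j.val := by
                have : j'.val ≠ j.val := fun h => hj' (Fin.ext h)
                simp only at hcond
                omega
              rw [ih j'.val (by omega) j' rfl (by omega)]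
              simp
            · rfl
          · intro h; exact absurd (Finset.mem_univ _) h
    intro n hn
    exact key n.val n rfl (by omega)
  · rintro ⟨_, h2⟩
    refine ⟨fun n hn => ?_, fun n hn => ?_⟩
    · rw [NF_snd]
      split_ifs with hodd
      · refine Finset.sum_eq_zero fun j _ => ?_
        split_ifs with hcond
        · rw [h2 j (by omega)]
          simp
        · rfl
      · rfl
    · rw [NF_fst]
      split_ifs with hev
      · have hnc := n.isLt
        have := coefX_fin v ⟨(n.val + 1) / 2 - 1, by omega⟩
        have e : (n.val + 1) / 2 - 1 + 1 = (n.val + 1) / 2 := by omega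
        simp only [e] at this
        rw [this, h2 _ (by simp only; omega)]
        simp
      · rfl

end Groth.Agent.Lib.Helper18Dieu
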