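import Mathlib
import Groth.Prelude.Def_Disc
import Groth.Agent.Lib.Helper18Disc2

set_option autoImplicit false
set_option linter.style.haveILetI false
universe u

namespace Groth.Agent.Lib.Helper18Disc3
open TensorProduct AlgebraicGeometry CategoryTheory
open Groth.Agent.Lib.Helper18Disc2

variable {A B' B : Type u} [CommRing A] [CommRing B'] [CommRing B] [Algebra A B'] [Algebra A B]
  [Algebra B' B] [IsScalarTower A B' B]

variable (A B' B) in
/-- the natural map `B' ⊗[A] B' → B ⊗[A] B` -/
noncomputable def psi : B' ⊗[A] B' →ₐ[A] B ⊗[A] B :=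
  Algebra.TensorProduct.map (IsScalarTower.toAlgHom A B' B) (IsScalarTower.toAlgHom A B' B)

@[simp] theorem psi_tmul (x y : B') :
    psi A B' B (x ⊗ₜ y) = algebraMap B' B x ⊗ₜ[A] algebraMap B' B y := by
  simp [psi]

theorem lmul_psi (t : B' ⊗[A] B') :
    Algebra.TensorProduct.lmul' (S := B) A (psi A B' B t) =
      algebraMap B' B (Algebra.TensorProduct.lmul' (S := B') A t) := by
  induction t using TensorProduct.induction_on with
  | zero => simp
  | tmul x y => simp
  | add a b ha hb => simp only [map_add, ha, hb]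

theorem map_ker_eq' [Algebra.IsEpi B' B] :
    (RingHom.ker (Algebra.TensorProduct.lmul' (S := B') A)).map (psi A B' B).toRingHom =
      RingHom.ker (Algebra.TensorProduct.lmul' (S := B) A) := by
  apply le_antisymm
  · rw [Ideal.map_le_iff_le_comap]
    intro t ht
    rw [Ideal.mem_comap, RingHom.mem_ker]
    rw [RingHom.mem_ker] at ht
    change Algebra.TensorProduct.lmul' (S := B) A (psi A B' B t) = 0
    rw [lmul_psi, ht, map_zero]
  · change KaehlerDifferential.ideal A B ≤ _
    rw [← KaehlerDifferential.span_range_eq_ideal, Ideal.span_le]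
    rintro _ ⟨b, rfl⟩
    set J := (RingHom.ker (Algebra.TensorProduct.lmul' (S := B') A)).map (psi A B' B).toRingHom
      with hJ
    -- the kernel of `B ⊗[A] B → B ⊗[B'] B`
    have hker := TensorProduct.AlgebraTensorModule.ker_mapOfCompatibleSMul (R := A) (A := B')
      (M := B) (N := B)
    have hz : (1 : B) ⊗ₜ[A] b - b ⊗ₜ[A] (1 : B) ∈
        LinearMap.ker (TensorProduct.mapOfCompatibleSMul B' A B' B B) := by
      rw [LinearMap.mem_ker, map_sub]
      simp only [TensorProduct.mapOfCompatibleSMul_tmul]
      rw [sub_eq_zero]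
      exact (Algebra.isEpi_iff_forall_one_tmul_eq B' B).mp inferInstance b
    rw [hker] at hz
    have hle : Submodule.span B' {x | ∃ (a : B') (m : B) (n : B),
        (a • m) ⊗ₜ[A] n - m ⊗ₜ[A] (a • n) = x} ≤ J.restrictScalars B' := by
      rw [Submodule.span_le]
      rintro _ ⟨a, m, n, rfl⟩
      have h1 : (a • m) ⊗ₜ[A] n - m ⊗ₜ[A] (a • n) =
          (m ⊗ₜ[A] n) * (psi A B' B).toRingHom (a ⊗ₜ[A] (1 : B') - (1 : B') ⊗ₜ[A] a) := by
        simp [mul_sub, Algebra.smul_def, mul_comm]
      rw [Submodule.coe_restrictScalars, SetLike.mem_coe, h1]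
      refine Ideal.mul_mem_left _ _ (Ideal.mem_map_of_mem _ ?_)
      rw [RingHom.mem_ker]
      simp
    exact hle hz

theorem main (h : IsOpenImmersion (Spec.map (CommRingCat.ofHom (algebraMap B' B))))
    [Algebra.FiniteType A B'] :
    Disc.noetherDifferent A B = (Disc.noetherDifferent A B').map (algebraMap B' B) := by
  -- flatness and epi
  have hflat : (algebraMap B' B).Flat := by
    have : Flat (Spec.map (CommRingCat.ofHom (algebraMap B' B))) := inferInstance
    exact Flat.SpecMap_iff.mp this
  haveI hepi : Algebra.IsEpi B' B := by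
    rw [← CommRingCat.epi_iff_epi]
    have hm : Mono (Spec.map (CommRingCat.ofHom (algebraMap B' B))) := inferInstance
    have hm' : Mono (CommRingCat.ofHom (algebraMap B' B)).op :=
      Scheme.Spec.mono_of_mono_map hm
    exact unop_epi_of_mono (CommRingCat.ofHom (algebraMap B' B)).op
  have hψflat : (psi A B' B).toRingHom.Flat :=
    RingHom.Flat.tensorProductMap (f := IsScalarTower.toAlgHom A B' B)
      (g := IsScalarTower.toAlgHom A B' B) hflat hflat
  letI : Algebra (B' ⊗[A] B') (B ⊗[A] B) := (psi A B' B).toRingHom.toAlgebra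
  haveI : Module.Flat (B' ⊗[A] B') (B ⊗[A] B) := hψflat
  have hI : (RingHom.ker (Algebra.TensorProduct.lmul' (S := B') A)).FG :=
    KaehlerDifferential.ideal_fg A B'
  have h3 := annihilator_map_of_flat (T := B' ⊗[A] B') (T' := B ⊗[A] B) _ hI
  have h2 := map_ker_eq' (A := A) (B' := B') (B := B)
  unfold Disc.noetherDifferent
  rw [← h2]
  change Ideal.map (Algebra.TensorProduct.lmul' (S := B) A).toRingHom
    (Submodule.annihilator (Ideal.map (algebraMap (B' ⊗[A] B') (B ⊗[A] B)) _)) =
    Ideal.map (algebraMap B' B) (Ideal.map (Algebra.TensorProduct.lmul' (S := B') A).toRingHom _)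
  rw [h3, Ideal.map_map, Ideal.map_map]
  congr 1
  exact RingHom.ext fun t => lmul_psi t

end Groth.Agent.Lib.Helper18Disc3
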