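import Mathlib

set_option autoImplicit false
set_option linter.style.haveILetI false

namespace Groth.Agent.Helper18Dominate

universe u
open IsLocalRing

theorem main (R : Type u) [CommRing R] [IsDomain R]
    [IsNoetherianRing R] [IsLocalRing R] (hR : ¬ IsField R) :
    ∃ R' : Subalgebra R (FractionRing R), ∃ _ : IsLocalRing R',
      IsNoetherianRing R' ∧ ringKrullDim R' = 1 ∧ IsLocalHom (algebraMap R R') ∧
        Algebra.EssFiniteType R R' := by
  classical
  let K := FractionRing R
  have hinj : Function.Injective (algebraMap R K) := IsFractionRing.injective R K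
  obtain ⟨s, hs⟩ := (IsNoetherian.noetherian (maximalIdeal R) : (maximalIdeal R).FG)
  obtain ⟨V, hRV, hloc⟩ := IsLocalRing.exists_factor_valuationRing (algebraMap R K)
  have hmV : ∀ a ∈ maximalIdeal R, V.valuation (algebraMap R K a) < 1 := by
    intro a ha
    have h1 : ¬ IsUnit ((algebraMap R K).codRestrict V.toSubring hRV a) := by
      intro h
      exact ha (hloc.map_nonunit a h)
    have h2 : ((algebraMap R K).codRestrict V.toSubring hRV a) ∈ maximalIdeal V := h1
    exact (V.valuation_lt_one_iff _).1 h2
  have hm_ne : maximalIdeal R ≠ ⊥ := fun h => hR (IsLocalRing.isField_iff_maximalIdeal_eq.2 h)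
  have hs_ne : s.Nonempty := by
    rw [Finset.nonempty_iff_ne_empty]
    rintro rfl
    apply hm_ne
    rw [← hs]; simp
  obtain ⟨x₁, hx₁s, hx₁max⟩ := Finset.exists_max_image s
    (fun x => V.valuation (algebraMap R K x)) hs_ne
  have hx₁ne : x₁ ≠ 0 := by
    rintro rfl
    apply hm_ne
    rw [← hs, Ideal.span_eq_bot]
    intro x hx
    have := hx₁max x hx
    simp only [map_zero, le_zero_iff, map_eq_zero] at this
    exact hinj (by rw [this, map_zero])
  have hx₁K : algebraMap R K x₁ ≠ 0 := fun h => hx₁ne (hinj (by rw [h, map_zero]))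
  have hx₁m : x₁ ∈ maximalIdeal R := by
    rw [← hs]; exact Ideal.subset_span hx₁s
  -- the blowup chart
  let VA : Subalgebra R K := { V.toSubring with algebraMap_mem' := hRV }
  let S : Subalgebra R K :=
    Algebra.adjoin R ((fun x => algebraMap R K x / algebraMap R K x₁) '' (s : Set R))
  have hSV : S ≤ VA := by
    apply Algebra.adjoin_le
    rintro _ ⟨x, hx, rfl⟩
    change algebraMap R K x / algebraMap R K x₁ ∈ V
    rw [← V.valuation_le_one_iff, map_div₀]
    exact div_le_one_of_le₀ (hx₁max x hx) zero_le
  have hSV' : ∀ z : S, (z : K) ∈ V := fun z => hSV z.2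
  haveI hSft : Algebra.FiniteType R S := by
    have hS_eq : S = Algebra.adjoin R
        (↑(s.image (fun x => algebraMap R K x / algebraMap R K x₁)) : Set K) := by
      rw [Finset.coe_image]
    rw [← Subalgebra.fg_iff_finiteType, hS_eq]
    exact Subalgebra.fg_adjoin_finset _
  haveI : IsNoetherianRing S := Algebra.FiniteType.isNoetherianRing R S
  let x₁' : S := algebraMap R S x₁
  have hx₁'ne : x₁' ≠ 0 := fun h => hx₁K (congrArg Subtype.val h)
  have hx₁'unit : ¬ IsUnit x₁' := by
    intro h
    obtain ⟨b, hb⟩ := h.exists_right_inv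
    have h1 : algebraMap R K x₁ * (b : K) = 1 := congrArg Subtype.val hb
    have h2 := congrArg V.valuation h1
    rw [map_mul, map_one] at h2
    have h3 : V.valuation (b : K) ≤ 1 := (V.valuation_le_one_iff _).2 (hSV' b)
    have h4 := hmV x₁ hx₁m
    have : V.valuation (algebraMap R K x₁) * V.valuation (b : K) < 1 :=
      calc V.valuation (algebraMap R K x₁) * V.valuation (b : K)
          ≤ V.valuation (algebraMap R K x₁) * 1 := mul_le_mul_right h3 _
        _ = V.valuation (algebraMap R K x₁) := mul_one _
        _ < 1 := h4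
    exact absurd h2 (ne_of_lt this)
  have hspan_ne : Ideal.span {x₁'} ≠ (⊤ : Ideal S) := by
    rw [Ne, Ideal.span_singleton_eq_top]; exact hx₁'unit
  obtain ⟨q, hq⟩ := Ideal.nonempty_minimalPrimes hspan_ne
  haveI hqprime : q.IsPrime := hq.1.1
  have hx₁q : x₁' ∈ q := hq.1.2 (Ideal.mem_span_singleton_self _)
  have hqh : q.height = 1 := by
    apply le_antisymm
    · exact Ideal.height_le_one_of_isPrincipal_of_mem_minimalPrimes (Ideal.span {x₁'}) q hq
    · rw [Order.one_le_iff_ne_zero, Ne, Ideal.height_eq_zero_iff_eq_bot]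
      intro h
      rw [h] at hx₁q
      exact hx₁'ne hx₁q
  have hmq : ∀ a ∈ maximalIdeal R, algebraMap R S a ∈ q := by
    intro a ha
    have hle : Ideal.map (algebraMap R S) (maximalIdeal R) ≤ q := by
      rw [← hs, Ideal.map_span, Ideal.span_le]
      rintro _ ⟨x, hx, rfl⟩
      have hy : algebraMap R K x / algebraMap R K x₁ ∈ S := Algebra.subset_adjoin ⟨x, hx, rfl⟩
      have hxeq : algebraMap R S x = ⟨_, hy⟩ * x₁' := by
        apply Subtype.ext
        change algebraMap R K x = (algebraMap R K x / algebraMap R K x₁) * algebraMap R K x₁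
        exact (div_mul_cancel₀ _ hx₁K).symm
      rw [hxeq]
      exact Ideal.mul_mem_left _ _ hx₁q
    exact hle (Ideal.mem_map_of_mem _ ha)
  have hqle : q.primeCompl ≤ nonZeroDivisors S := by
    intro z hz
    rw [mem_nonZeroDivisors_iff_ne_zero]
    rintro rfl
    exact hz (zero_mem _)
  let R'S : Subalgebra S K := Localization.subalgebra.ofField K q.primeCompl hqle
  haveI hloc' : IsLocalization.AtPrime R'S q :=
    Localization.subalgebra.isLocalization_ofField K q.primeCompl hqle
  haveI hlocal : IsLocalRing R'S := IsLocalization.AtPrime.isLocalRing R'S q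
  refine ⟨R'S.restrictScalars R, hlocal, ?_, ?_, ?_, ?_⟩
  · exact IsLocalization.isNoetherianRing q.primeCompl R'S inferInstance
  · have := IsLocalization.AtPrime.ringKrullDim_eq_height q R'S
    rw [hqh] at this
    exact this
  · refine ⟨fun a ha => ?_⟩
    by_contra hna
    have h1 : algebraMap R S a ∈ q := hmq a hna
    have h2 : algebraMap S R'S (algebraMap R S a) ∈ maximalIdeal R'S :=
      (IsLocalization.AtPrime.to_map_mem_maximal_iff R'S q _).2 h1
    exact h2 ha
  · haveI : Algebra.EssFiniteType S R'S := Algebra.EssFiniteType.of_isLocalization R'S q.primeCompl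
    exact Algebra.EssFiniteType.comp R S R'S

end Groth.Agent.Helper18Dominate
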