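import Mathlib
set_option autoImplicit false
set_option linter.style.haveILetI false
open MvPolynomial

namespace Groth.Agent.Helper18ElemAut

variable {κ : Type*} [Field κ] {n : ℕ}

/-- stability of a set of points under the elementary moves `x_i ↦ x_i + x_j^d`. -/
def Stable (V : Set (Fin n → κ)) : Prop :=
  ∀ a ∈ V, ∀ i j : Fin n, i ≠ j → ∀ d : ℕ, Function.update a i (a i + a j ^ d) ∈ V

theorem eq_zero_of_grid (f : MvPolynomial (Fin n) κ) (S : Fin n → Set κ)
    (hS : ∀ i, (S i).Infinite)
    (h : ∀ b : Fin n → κ, (∀ i, b i ∈ S i) → eval b f = 0) : f = 0 := by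
  choose T hT using fun i => (hS i).exists_subset_card_eq (f.degreeOf i + 1)
  apply eq_zero_of_eval_zero_at_prod_finset f T
  · intro i
    rw [(hT i).2]
    exact Nat.lt_succ_self _
  · intro x hx
    exact h x (fun i => (hT i).1 (hx i))

/-- moving all coordinates other than `j` by powers of the `j`-th coordinate. -/
theorem stable_moves {V : Set (Fin n → κ)} (hV : Stable V) (a : Fin n → κ) (ha : a ∈ V)
    (j : Fin n) (m : Fin n → ℕ) (s : Finset (Fin n)) (hs : j ∉ s) :
    (fun i => if i ∈ s then a i + a j ^ (m i) else a i) ∈ V := by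
  induction s using Finset.induction_on with
  | empty => simpa using ha
  | insert i₀ s hi₀ ih =>
    have hj : j ∉ s := fun h => hs (Finset.mem_insert_of_mem h)
    have hji : i₀ ≠ j := fun h => hs (h ▸ Finset.mem_insert_self _ _)
    have h1 := hV _ (ih hj) i₀ j hji (m i₀)
    convert h1 using 1
    ext i
    by_cases hi : i = i₀
    · subst hi
      simp [hi₀, hj]
    · simp [hi]

/-- `f` vanishes on a hyperplane `x_j = a_j` through a point of `V` whose `j`-th coordinate has
pairwise distinct powers. -/
theorem vanish_hyperplane {V : Set (Fin n → κ)} (hV : Stable V)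
    (f : MvPolynomial (Fin n) κ) (hf : ∀ a ∈ V, eval a f = 0)
    (a : Fin n → κ) (ha : a ∈ V) (j : Fin n) (hinj : Function.Injective (fun m : ℕ => a j ^ m))
    (b : Fin n → κ) (hb : b j = a j) : eval b f = 0 := by
  classical
  set f' : MvPolynomial (Fin n) κ := bind₁ (fun i => if i = j then C (a j) else X i) f with hf'
  have hev : ∀ c : Fin n → κ, eval c f' = eval (fun i => if i = j then a j else c i) f := by
    intro c
    rw [hf']
    change eval₂Hom (RingHom.id κ) c (bind₁ _ f) = eval₂Hom (RingHom.id κ) _ f
    rw [eval₂Hom_bind₁]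
    have : (fun i => eval₂Hom (RingHom.id κ) c (if i = j then C (a j) else X i))
        = (fun i => if i = j then a j else c i) := by
      funext i
      split_ifs <;> simp
    rw [this]
  have hinf : Infinite κ := Infinite.of_injective _ hinj
  have h0 : f' = 0 := by
    apply eq_zero_of_grid f' (fun i => if i = j then Set.univ else Set.range (fun m : ℕ => a i + a j ^ m))
    · intro i
      split_ifs with hi
      · exact Set.infinite_univ
      · apply Set.infinite_range_of_injective
        intro m m' h
        exact hinj (add_left_cancel h)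
    · intro c hc
      rw [hev]
      have hm : ∀ i, ∃ m : ℕ, i ≠ j → c i = a i + a j ^ m := by
        intro i
        by_cases hi : i = j
        · exact ⟨0, fun h => absurd hi h⟩
        · have := hc i
          rw [if_neg hi] at this
          obtain ⟨m, hm⟩ := this
          exact ⟨m, fun _ => hm.symm⟩
      choose m hm using hm
      have h1 := stable_moves hV a ha j m (Finset.univ.erase j) (Finset.notMem_erase _ _)
      have h2 : (fun i => if i = j then a j else c i)
          = (fun i => if i ∈ Finset.univ.erase j then a i + a j ^ (m i) else a i) := by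
        ext i
        by_cases hi : i = j
        · subst hi; simp
        · simp [hi, hm i hi]
      rw [h2]
      exact hf _ h1
  have h3 := hev b
  rw [h0, map_zero] at h3
  have h4 : (fun i => if i = j then a j else b i) = b := by
    ext i
    split_ifs with hi
    · rw [hi, hb]
    · rfl
  rw [h4] at h3
  exact h3.symm


section charzero

theorem stable_add_nat (hn : 2 ≤ n) {V : Set (Fin n → κ)} (hV : Stable V) (a : Fin n → κ)
    (ha : a ∈ V) (i : Fin n) (c : ℕ) : Function.update a i (a i + c) ∈ V := by
  haveI : Nontrivial (Fin n) := Fin.nontrivial_iff_two_le.mpr hn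
  obtain ⟨j, hj⟩ := exists_ne i
  induction c with
  | zero => simpa using ha
  | succ c ih =>
    have h1 := hV _ ih i j hj.symm 0
    convert h1 using 1
    ext l
    by_cases hl : l = i
    · subst hl
      simp [add_assoc]
    · simp [hl]

theorem eq_zero_char0 [CharZero κ] (hn : 2 ≤ n) {V : Set (Fin n → κ)} (hV : Stable V)
    (f : MvPolynomial (Fin n) κ) (hf : ∀ a ∈ V, eval a f = 0)
    (a : Fin n → κ) (ha : a ∈ V) : f = 0 := by
  have key : ∀ (t : Fin n → ℕ) (s : Finset (Fin n)),
      (fun l => if l ∈ s then a l + t l else a l) ∈ V := by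
    intro t s
    induction s using Finset.induction_on with
    | empty => simpa using ha
    | insert i₀ s hi₀ ih =>
      have h1 := stable_add_nat hn hV _ ih i₀ (t i₀)
      convert h1 using 1
      ext l
      by_cases hl : l = i₀
      · subst hl
        simp [hi₀]
      · simp [hl]
  apply eq_zero_of_grid f (fun l => Set.range (fun c : ℕ => a l + c))
  · intro l
    apply Set.infinite_range_of_injective
    intro c c' h
    exact Nat.cast_injective (add_left_cancel h)
  · intro b hb
    choose t ht using hb
    have h1 := key t Finset.univ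
    have h2 : (fun l => if l ∈ Finset.univ then a l + (t l : κ) else a l) = b := by
      ext l
      simp [ht l]
    rw [h2] at h1
    exact hf b h1

end charzero

section charp

variable (p : ℕ) [Fact p.Prime] [CharP κ p]

attribute [local instance] ZMod.algebra

theorem pow_injective_of_not_alg (c : κ) (hc : ¬ IsAlgebraic (ZMod p) c) :
    Function.Injective (fun m : ℕ => c ^ m) := by
  intro m m' h
  by_contra hmm
  apply hc
  refine ⟨Polynomial.X ^ m - Polynomial.X ^ m', ?_, ?_⟩
  · intro h0
    have h1 := congrArg Polynomial.natDegree (sub_eq_zero.mp h0)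
    rw [Polynomial.natDegree_X_pow, Polynomial.natDegree_X_pow] at h1
    exact hmm h1
  · simp only [map_sub, map_pow, Polynomial.aeval_X]
    exact sub_eq_zero.mpr h

theorem alg_of_two_lt (e c : κ) (m m' : ℕ) (hmm : m' < m)
    (h1 : IsAlgebraic (ZMod p) (e + c ^ m)) (h2 : IsAlgebraic (ZMod p) (e + c ^ m')) :
    IsAlgebraic (ZMod p) c := by
  have h3 : IsAlgebraic (ZMod p) (Polynomial.aeval c (Polynomial.X ^ m - Polynomial.X ^ m' : Polynomial (ZMod p))) := by
    have : Polynomial.aeval c (Polynomial.X ^ m - Polynomial.X ^ m' : Polynomial (ZMod p))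
        = (e + c ^ m) - (e + c ^ m') := by
      simp only [map_sub, map_pow, Polynomial.aeval_X]
      ring
    rw [this]
    exact h1.sub h2
  have hdeg : (Polynomial.X ^ m - Polynomial.X ^ m' : Polynomial (ZMod p)).natDegree = m := by
    rw [Polynomial.natDegree_sub_eq_left_of_natDegree_lt, Polynomial.natDegree_X_pow]
    rw [Polynomial.natDegree_X_pow, Polynomial.natDegree_X_pow]
    exact hmm
  have hne : (Polynomial.X ^ m - Polynomial.X ^ m' : Polynomial (ZMod p)) ≠ 0 := by
    intro h0
    rw [h0, Polynomial.natDegree_zero] at hdeg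
    omega
  refine IsAlgebraic.of_aeval _ ?_ ?_ h3
  · rw [hdeg]; omega
  · exact mem_nonZeroDivisors_of_ne_zero (Polynomial.leadingCoeff_ne_zero.mpr hne)

theorem alg_of_two (e c : κ) (m m' : ℕ) (hmm : m ≠ m')
    (h1 : IsAlgebraic (ZMod p) (e + c ^ m)) (h2 : IsAlgebraic (ZMod p) (e + c ^ m')) :
    IsAlgebraic (ZMod p) c := by
  rcases lt_or_gt_of_ne hmm with h | h
  · exact alg_of_two_lt p e c m' m h h2 h1
  · exact alg_of_two_lt p e c m m' h h1 h2

theorem eq_zero_charp (hn : 2 ≤ n) {V : Set (Fin n → κ)} (hV : Stable V)
    (f : MvPolynomial (Fin n) κ) (hf : ∀ a ∈ V, eval a f = 0)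
    (a : Fin n → κ) (ha : a ∈ V) (j : Fin n) (hj : ¬ IsAlgebraic (ZMod p) (a j)) : f = 0 := by
  classical
  haveI : Nontrivial (Fin n) := Fin.nontrivial_iff_two_le.mpr hn
  obtain ⟨i, hi⟩ := exists_ne j
  have hinj := pow_injective_of_not_alg p (a j) hj
  have hinf : Infinite κ := Infinite.of_injective _ hinj
  set c : ℕ → κ := fun m => a i + a j ^ m with hc
  have hcinj : Function.Injective c := fun m m' h => hinj (add_left_cancel h)
  set M : Set ℕ := {m | ¬ IsAlgebraic (ZMod p) (c m)} with hM
  have hMc : Mᶜ.Subsingleton := by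
    intro m hm m' hm'
    by_contra hmm
    simp only [hM, Set.mem_compl_iff, Set.mem_ofPred_eq, not_not] at hm hm'
    exact hj (alg_of_two p (a i) (a j) m m' hmm hm hm')
  have hMinf : M.Infinite := by
    have := hMc.finite.infinite_compl
    rwa [compl_compl] at this
  have hCinf : (c '' M).Infinite := hMinf.image hcinj.injOn
  apply eq_zero_of_grid f (fun l => if l = i then c '' M else Set.univ)
  · intro l
    split_ifs
    · exact hCinf
    · exact Set.infinite_univ
  · intro b hb
    have hbi := hb i
    rw [if_pos rfl] at hbi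
    obtain ⟨m, hm, hbm⟩ := hbi
    have ha' := hV a ha i j hi m
    refine vanish_hyperplane hV f hf _ ha' i ?_ b ?_
    · rw [Function.update_self]
      exact pow_injective_of_not_alg p _ hm
    · rw [Function.update_self]
      exact hbm.symm

end charp

end Groth.Agent.Helper18ElemAut
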