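import Mathlib
import Groth.Agent.Lib.Helper18ElemAut1
set_option autoImplicit false
set_option linter.style.haveILetI false
open MvPolynomial AlgebraicGeometry CategoryTheory

namespace Groth.Agent.Helper18ElemAut

universe u
variable {k : Type u} [Field k] {n : ℕ}

/-- the elementary automorphism `x_i ↦ x_i + x_j^d`. -/
noncomputable def tau (k : Type u) [Field k] (n : ℕ) (i j : Fin n) (d : ℕ) :
    MvPolynomial (Fin n) k →ₐ[k] MvPolynomial (Fin n) k :=
  MvPolynomial.aeval (R := k)
    (Function.update MvPolynomial.X i (MvPolynomial.X i + MvPolynomial.X j ^ d) :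
      Fin n → MvPolynomial (Fin n) k)

section points

variable {κ : Type u} [Field κ] [Algebra k κ]

/-- the point of `𝔸^n` defined by a tuple in a field. -/
noncomputable def pt (b : Fin n → κ) : PrimeSpectrum (MvPolynomial (Fin n) k) :=
  PrimeSpectrum.comap (aeval b : MvPolynomial (Fin n) k →ₐ[k] κ).toRingHom ⟨⊥, Ideal.isPrime_bot⟩

theorem mem_pt (b : Fin n → κ) (f : MvPolynomial (Fin n) k) :
    f ∈ (pt (k := k) b).asIdeal ↔ aeval b f = 0 := by
  simp [pt]

theorem aeval_update (b : Fin n → κ) (i j : Fin n) (d : ℕ) :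
    (aeval (Function.update b i (b i + b j ^ d)) : MvPolynomial (Fin n) k →ₐ[k] κ)
      = (aeval b).comp (tau k n i j d) := by
  apply MvPolynomial.algHom_ext
  intro l
  simp only [aeval_X, AlgHom.comp_apply, tau]
  by_cases hl : l = i
  · subst hl
    simp
  · simp [Function.update_of_ne hl]

theorem pt_update (b : Fin n → κ) (i j : Fin n) (d : ℕ) :
    pt (k := k) (Function.update b i (b i + b j ^ d))
      = PrimeSpectrum.comap (tau k n i j d).toRingHom (pt (k := k) b) := by
  apply PrimeSpectrum.ext
  ext f
  rw [mem_pt, aeval_update]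
  change _ ↔ (tau k n i j d) f ∈ (pt (k := k) b).asIdeal
  rw [mem_pt]
  rfl

end points


/-! ### algebraic over `𝔽_p` means fixed by a power of Frobenius -/

section frob

attribute [local instance] ZMod.algebra

theorem exists_pow_eq_of_alg (p : ℕ) [Fact p.Prime] {κ : Type u} [Field κ] [CharP κ p] (c : κ)
    (hc : IsAlgebraic (ZMod p) c) : ∃ m : ℕ, 0 < m ∧ c ^ (p ^ m) = c := by
  let E := IntermediateField.adjoin (ZMod p) ({c} : Set κ)
  haveI : FiniteDimensional (ZMod p) E := IntermediateField.adjoin.finiteDimensional hc.isIntegral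
  haveI : Finite E := Module.finite_of_finite (ZMod p)
  letI : Fintype E := Fintype.ofFinite E
  haveI : CharP E p := charP_of_injective_algebraMap (algebraMap (ZMod p) E).injective p
  obtain ⟨m, _, hm⟩ := FiniteField.card E p
  refine ⟨m, m.pos, ?_⟩
  have h1 := FiniteField.pow_card (⟨c, IntermediateField.mem_adjoin_simple_self _ c⟩ : E)
  rw [hm] at h1
  exact congrArg (fun x : E => (x : κ)) h1

end frob

/-! ### the main theorem -/

section main

attribute [local instance] ZMod.algebra

theorem finite_of_forall_isClosed {X : Type*} [TopologicalSpace X]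
    [TopologicalSpace.NoetherianSpace X] [QuasiSober X] (Z : Set X) (hZ : IsClosed Z)
    (h : ∀ x ∈ Z, IsClosed ({x} : Set X)) : Z.Finite := by
  obtain ⟨S, hSf, hSc, hSi, rfl⟩ :=
    TopologicalSpace.NoetherianSpace.exists_finite_set_isClosed_irreducible hZ
  apply hSf.sUnion
  intro t ht
  obtain ⟨g, hgen⟩ : ∃ g : X, closure ({g} : Set X) = t :=
    ⟨_, (hSi t ht).closure_genericPoint (hSc t ht)⟩
  have hmem : g ∈ t := by
    rw [← hgen]
    exact subset_closure (Set.mem_singleton _)
  have hcl := h _ (Set.mem_sUnion.mpr ⟨t, ht, hmem⟩)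
  rw [hcl.closure_eq] at hgen
  rw [← hgen]
  exact Set.finite_singleton _

theorem main (k : Type u) [Field k] (n : ℕ) (hn : 2 ≤ n)
    (W : (Spec (CommRingCat.of (MvPolynomial (Fin n) k))).Opens)
    (hW : (W : Set ↥(Spec (CommRingCat.of (MvPolynomial (Fin n) k)))).Nonempty)
    (hinv : ∀ (i j : Fin n), i ≠ j → ∀ d : ℕ,
      (Spec.map (CommRingCat.ofHom (MvPolynomial.aeval (R := k)
        (Function.update MvPolynomial.X i (MvPolynomial.X i + MvPolynomial.X j ^ d) :
          Fin n → MvPolynomial (Fin n) k)).toRingHom)) ⁻¹ᵁ W = W) :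
    W = ⊤ ∨ ∃ p : ℕ, p.Prime ∧ CharP k p ∧ ((W : Set ↥(Spec (CommRingCat.of (MvPolynomial (Fin n) k))))ᶜ).Finite ∧
      ∀ x : ↥(Spec (CommRingCat.of (MvPolynomial (Fin n) k))),
        x ∉ (W : Set ↥(Spec (CommRingCat.of (MvPolynomial (Fin n) k)))) →
        IsClosed ({x} : Set ↥(Spec (CommRingCat.of (MvPolynomial (Fin n) k)))) ∧ ∀ i : Fin n, ∃ m : ℕ, 0 < m ∧
          (algebraMap (MvPolynomial (Fin n) k) x.asIdeal.ResidueField (MvPolynomial.X i)) ^ (p ^ m) =
            algebraMap (MvPolynomial (Fin n) k) x.asIdeal.ResidueField (MvPolynomial.X i) := by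
  classical
  -- pointwise invariance
  have hinv' : ∀ (i j : Fin n), i ≠ j → ∀ (d : ℕ) (y : PrimeSpectrum (MvPolynomial (Fin n) k)),
      PrimeSpectrum.comap (tau k n i j d).toRingHom y ∈ (W : Set ↥(Spec (CommRingCat.of (MvPolynomial (Fin n) k))))
        ↔ y ∈ (W : Set ↥(Spec (CommRingCat.of (MvPolynomial (Fin n) k)))) := by
    intro i j hij d y
    have h1 := hinv i j hij d
    have h2 := congrArg (fun U : (Spec (CommRingCat.of (MvPolynomial (Fin n) k))).Opens =>
      (y : ↥(Spec (CommRingCat.of (MvPolynomial (Fin n) k)))) ∈ U) h1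
    simp only [eq_iff_iff] at h2
    exact h2
  -- a nonzero polynomial vanishing off `W`
  obtain ⟨x₀, hx₀⟩ := hW
  obtain ⟨_, ⟨f, rfl⟩, hxf, hfW⟩ :=
    PrimeSpectrum.isTopologicalBasis_basic_opens.exists_subset_of_mem_open hx₀ W.isOpen
  have hf0 : f ≠ 0 := by
    rintro rfl
    exact hxf (Submodule.zero_mem _)
  -- the key consequence at a point outside `W`
  have key : ∀ x : PrimeSpectrum (MvPolynomial (Fin n) k),
      x ∉ (W : Set ↥(Spec (CommRingCat.of (MvPolynomial (Fin n) k)))) →
      ∃ V : Set (Fin n → x.asIdeal.ResidueField), Stable V ∧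
        (fun i => algebraMap (MvPolynomial (Fin n) k) x.asIdeal.ResidueField (X i)) ∈ V ∧
        ∀ b ∈ V, eval b (MvPolynomial.map (algebraMap k x.asIdeal.ResidueField) f) = 0 := by
    intro x hx
    refine ⟨{b | pt (k := k) b ∉ (W : Set ↥(Spec (CommRingCat.of (MvPolynomial (Fin n) k))))}, ?_, ?_, ?_⟩
    · intro b hb i j hij d
      change pt (k := k) _ ∉ _
      rw [pt_update, hinv' i j hij d]
      exact hb
    · change pt (k := k) _ ∉ _
      have : pt (k := k) (fun i => algebraMap (MvPolynomial (Fin n) k) x.asIdeal.ResidueField (X i)) = x := by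
        apply PrimeSpectrum.ext
        ext g
        rw [mem_pt]
        have e : (aeval (fun i => algebraMap (MvPolynomial (Fin n) k) x.asIdeal.ResidueField (X i))
            : MvPolynomial (Fin n) k →ₐ[k] x.asIdeal.ResidueField)
            = IsScalarTower.toAlgHom k (MvPolynomial (Fin n) k) x.asIdeal.ResidueField := by
          apply MvPolynomial.algHom_ext
          intro l
          simp
        rw [e, IsScalarTower.coe_toAlgHom', Ideal.algebraMap_residueField_eq_zero]
      rw [this]
      exact hx
    · intro b hb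
      have h1 : pt (k := k) b ∉ (PrimeSpectrum.basicOpen f : Set _) := fun h => hb (hfW h)
      have h2 : f ∈ (pt (k := k) b).asIdeal := by
        by_contra h
        exact h1 h
      rw [mem_pt] at h2
      rw [MvPolynomial.eval_map, ← h2]
      rfl
  have hFne : ∀ x : PrimeSpectrum (MvPolynomial (Fin n) k),
      MvPolynomial.map (algebraMap k x.asIdeal.ResidueField) f ≠ 0 := by
    intro x h
    apply hf0
    apply MvPolynomial.map_injective _ (algebraMap k x.asIdeal.ResidueField).injective
    rw [h, map_zero]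
  obtain ⟨p, hp⟩ := CharP.exists k
  rcases CharP.char_is_prime_or_zero k p with hpp | hp0
  · -- prime characteristic
    right
    haveI : Fact p.Prime := ⟨hpp⟩
    have halg : ∀ x : PrimeSpectrum (MvPolynomial (Fin n) k),
        x ∉ (W : Set ↥(Spec (CommRingCat.of (MvPolynomial (Fin n) k)))) → ∀ i : Fin n, ∃ m : ℕ, 0 < m ∧
          (algebraMap (MvPolynomial (Fin n) k) x.asIdeal.ResidueField (MvPolynomial.X i)) ^ (p ^ m) =
            algebraMap (MvPolynomial (Fin n) k) x.asIdeal.ResidueField (MvPolynomial.X i) := by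
      intro x hx i
      haveI : CharP x.asIdeal.ResidueField p :=
        charP_of_injective_algebraMap (algebraMap k x.asIdeal.ResidueField).injective p
      obtain ⟨V, hV, haV, hFV⟩ := key x hx
      apply exists_pow_eq_of_alg p
      by_contra hna
      exact hFne x (eq_zero_charp p hn hV _ hFV _ haV i hna)
    have hclosed : ∀ x : PrimeSpectrum (MvPolynomial (Fin n) k),
        x ∉ (W : Set ↥(Spec (CommRingCat.of (MvPolynomial (Fin n) k)))) →
        IsClosed ({x} : Set (PrimeSpectrum (MvPolynomial (Fin n) k))) := by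
      intro x hx
      rw [PrimeSpectrum.isClosed_singleton_iff_isMaximal]
      have hgen : ∀ i : Fin n, IsIntegral k (Ideal.Quotient.mk x.asIdeal (X i)) := by
        intro i
        obtain ⟨m, hm0, hm⟩ := halg x hx i
        refine ⟨Polynomial.X ^ (p ^ m) - Polynomial.X, ?_, ?_⟩
        · apply Polynomial.monic_X_pow_sub
          rw [Polynomial.degree_X]
          exact_mod_cast Nat.one_lt_pow hm0.ne' hpp.one_lt
        · apply Ideal.injective_algebraMap_quotient_residueField
          simp only [Polynomial.eval₂_sub, Polynomial.eval₂_pow, Polynomial.eval₂_X, map_sub, map_pow,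
            map_zero, Ideal.algebraMap_quotient_residueField_mk]
          exact sub_eq_zero.mpr hm
      haveI : Algebra.IsIntegral k (MvPolynomial (Fin n) k ⧸ x.asIdeal) := by
        have htop : integralClosure k (MvPolynomial (Fin n) k ⧸ x.asIdeal) = ⊤ := by
          rw [eq_top_iff]
          have h1 : (⊤ : Subalgebra k (MvPolynomial (Fin n) k ⧸ x.asIdeal))
              = Algebra.adjoin k ((Ideal.Quotient.mkₐ k x.asIdeal) '' Set.range X) := by
            rw [← AlgHom.map_adjoin, MvPolynomial.adjoin_range_X, Algebra.map_top,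
              (AlgHom.range_eq_top _).mpr (Ideal.Quotient.mkₐ_surjective k x.asIdeal)]
          rw [h1]
          apply Algebra.adjoin_le
          rintro _ ⟨_, ⟨i, rfl⟩, rfl⟩
          exact hgen i
        constructor
        intro y
        have : y ∈ integralClosure k (MvPolynomial (Fin n) k ⧸ x.asIdeal) := by rw [htop]; trivial
        exact this
      exact Ideal.Quotient.maximal_of_isField _
        (isField_of_isIntegral_of_isField' (Field.toIsField k))
    refine ⟨p, hpp, hp, ?_, fun x hx => ⟨hclosed x hx, halg x hx⟩⟩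
    apply finite_of_forall_isClosed (X := PrimeSpectrum (MvPolynomial (Fin n) k))
    · exact W.isOpen.isClosed_compl
    · intro x hx
      exact hclosed x hx
  · -- characteristic zero
    left
    subst hp0
    haveI : CharZero k := CharP.charP_to_charZero k
    ext x
    simp only [TopologicalSpace.Opens.coe_top, Set.mem_univ, iff_true]
    by_contra hx
    haveI : CharZero (PrimeSpectrum.asIdeal x).ResidueField :=
      charZero_of_injective_algebraMap (algebraMap k (PrimeSpectrum.asIdeal x).ResidueField).injective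
    obtain ⟨V, hV, haV, hFV⟩ := key x hx
    exact hFne x (eq_zero_char0 hn hV _ hFV _ haV)

end main

end Groth.Agent.Helper18ElemAut
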