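import Mathlib

set_option autoImplicit false
universe u

open Polynomial

namespace Groth.Agent.Helper18EtLift

/-- A ring map which is "surjective up to units coming from the source". -/
def SurjUpToUnits {B C : Type*} [CommRing B] [CommRing C] (φ : B →+* C) : Prop :=
  ∀ c : C, ∃ a b : B, IsUnit (φ a) ∧ c * φ a = φ b

theorem SurjUpToUnits.finset {B C : Type*} [CommRing B] [CommRing C] {φ : B →+* C}
    (hφ : SurjUpToUnits φ) (F : Finset C) :
    ∃ a : B, IsUnit (φ a) ∧ ∀ c ∈ F, ∃ b, c * φ a = φ b := by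
  classical
  induction F using Finset.induction_on with
  | empty => exact ⟨1, by simp, by simp⟩
  | insert c F _ ih =>
    obtain ⟨a₁, h₁, H₁⟩ := ih
    obtain ⟨a₂, b₂, h₂, H₂⟩ := hφ c
    refine ⟨a₁ * a₂, by rw [map_mul]; exact h₁.mul h₂, ?_⟩
    intro c' hc'
    rcases Finset.mem_insert.mp hc' with rfl | hc'
    · exact ⟨b₂ * a₁, by rw [map_mul, map_mul, ← H₂]; ring⟩
    · obtain ⟨b', hb'⟩ := H₁ c' hc'
      exact ⟨b' * a₂, by rw [map_mul, map_mul, ← hb']; ring⟩

theorem scaleRoots_comp_C_mul_X {R : Type*} [CommRing R] (p : R[X]) (s : R) :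
    (p.scaleRoots s).comp (C s * X) = C (s ^ p.natDegree) * p := by
  ext i
  rw [comp_C_mul_X_coeff, coeff_C_mul, coeff_scaleRoots]
  by_cases h : i ≤ p.natDegree
  · rw [mul_assoc, ← pow_add, Nat.sub_add_cancel h, mul_comm]
  · rw [coeff_eq_zero_of_natDegree_lt (not_le.mp h)]; simp

theorem aeval_derivative_scaleRoots {R A : Type*} [CommRing R] [CommRing A] [Algebra R A]
    (p : R[X]) (s : R) (x : A) :
    algebraMap R A s * aeval (algebraMap R A s * x) (derivative (p.scaleRoots s)) =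
      algebraMap R A s ^ p.natDegree * aeval x (derivative p) := by
  have h := congrArg (fun q => aeval x (derivative q)) (scaleRoots_comp_C_mul_X p s)
  simp only [derivative_C_mul] at h
  simp only [derivative_comp, derivative_mul, derivative_C, zero_mul, derivative_X, mul_one,
    zero_add, map_mul, aeval_C, aeval_comp, aeval_X, map_pow] at h
  exact h

theorem aeval_scaleRoots {R A : Type*} [CommRing R] [CommRing A] [Algebra R A]
    (p : R[X]) (s : R) (x : A) :
    aeval (algebraMap R A s * x) (p.scaleRoots s) =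
      algebraMap R A s ^ p.natDegree * aeval x p :=
  scaleRoots_eval₂_mul (algebraMap R A) x s


theorem exists_pair_lift {B D : Type u} [CommRing B] [CommRing D] (φ : B →+* D)
    (P : StandardEtalePair D) (a : B) (hu : IsUnit (φ a))
    (hf : ∀ i, ∃ b, P.f.coeff i * φ a = φ b) (hg : ∀ i, ∃ b, P.g.coeff i * φ a = φ b) :
    ∃ (Q : StandardEtalePair B), Nonempty ((Q.map φ).Ring ≃ₐ[D] P.Ring) := by
  have hf_lifts : P.f.scaleRoots (φ a) ∈ lifts φ := by
    rw [lifts_iff_coeff_lifts]
    intro i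
    rw [coeff_scaleRoots]
    rcases lt_or_ge i P.f.natDegree with h | h
    · obtain ⟨b, hb⟩ := hf i
      refine ⟨b * a ^ (P.f.natDegree - i - 1), ?_⟩
      rw [map_mul, map_pow, ← hb, mul_assoc, ← pow_succ']
      congr 2; omega
    · rw [Nat.sub_eq_zero_of_le h, pow_zero, mul_one]
      rcases h.eq_or_lt with h | h
      · rw [← h, P.monic_f.coeff_natDegree]; exact ⟨1, map_one φ⟩
      · rw [coeff_eq_zero_of_natDegree_lt h]; exact ⟨0, map_zero φ⟩
  have hg_lifts : C (φ a) * P.g.scaleRoots (φ a) ∈ lifts φ := by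
    rw [lifts_iff_coeff_lifts]
    intro i
    rw [coeff_C_mul, coeff_scaleRoots]
    obtain ⟨b, hb⟩ := hg i
    refine ⟨b * a ^ (P.g.natDegree - i), ?_⟩
    rw [map_mul, map_pow, ← hb]; ring
  obtain ⟨F, hFmap, hFmonic⟩ : ∃ F : B[X], F.map φ = P.f.scaleRoots (φ a) ∧ F.Monic := by
    rcases subsingleton_or_nontrivial D with h | h
    · exact ⟨1, Subsingleton.elim _ _, monic_one⟩
    · obtain ⟨F, h1, -, h3⟩ := lifts_and_degree_eq_and_monic hf_lifts
        ((monic_scaleRoots_iff (φ a)).mpr P.monic_f)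
      exact ⟨F, h1, h3⟩
  obtain ⟨H, hH⟩ := (mem_lifts _).mp hg_lifts
  let Q : StandardEtalePair B := ⟨F, hFmonic, derivative F * H, ⟨H, 0, 1, by ring⟩⟩
  have hPf : (Q.map φ).f = P.f.scaleRoots (φ a) := hFmap
  have hPg : (Q.map φ).g =
      derivative (P.f.scaleRoots (φ a)) * (C (φ a) * P.g.scaleRoots (φ a)) := by
    show (derivative F * H).map φ = _
    rw [Polynomial.map_mul, ← derivative_map, hFmap, hH]
  -- forward
  have hmap₁ : (Q.map φ).HasMap (algebraMap D P.Ring (φ a) * P.X) := by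
    have hu' : IsUnit (algebraMap D P.Ring (φ a)) := hu.map _
    constructor
    · rw [hPf, aeval_scaleRoots, P.hasMap_X.1, mul_zero]
    · rw [hPg, map_mul, map_mul, aeval_C, aeval_scaleRoots]
      refine IsUnit.mul ?_ (hu'.mul ((hu'.pow _).mul P.hasMap_X.2))
      have h2 : IsUnit (algebraMap D P.Ring (φ a) *
          aeval (algebraMap D P.Ring (φ a) * P.X) (derivative (P.f.scaleRoots (φ a)))) := by
        rw [aeval_derivative_scaleRoots]
        exact (hu'.pow _).mul P.hasMap_X.isUnit_derivative_f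
      exact isUnit_of_mul_isUnit_right h2
  have hui : φ a * ↑(hu.unit⁻¹) = 1 := hu.mul_val_inv
  have hmap₂ : P.HasMap (algebraMap D (Q.map φ).Ring ↑(hu.unit⁻¹) * (Q.map φ).X) := by
    have hu' : IsUnit (algebraMap D (Q.map φ).Ring (φ a)) := hu.map _
    have hx : algebraMap D (Q.map φ).Ring (φ a) *
        (algebraMap D (Q.map φ).Ring ↑(hu.unit⁻¹) * (Q.map φ).X) = (Q.map φ).X := by
      rw [← mul_assoc, ← map_mul, hui, map_one, one_mul]
    have h1 := aeval_scaleRoots P.f (φ a)
      (algebraMap D (Q.map φ).Ring ↑(hu.unit⁻¹) * (Q.map φ).X)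
    rw [hx, ← hPf, (Q.map φ).hasMap_X.1] at h1
    have h2 := aeval_scaleRoots P.g (φ a)
      (algebraMap D (Q.map φ).Ring ↑(hu.unit⁻¹) * (Q.map φ).X)
    rw [hx] at h2
    constructor
    · exact ((hu'.pow _).mul_right_eq_zero).mp h1.symm
    · have h3 : IsUnit (aeval (Q.map φ).X (Q.map φ).g) := (Q.map φ).hasMap_X.2
      rw [hPg, map_mul, map_mul, aeval_C, h2] at h3
      exact isUnit_of_mul_isUnit_right (isUnit_of_mul_isUnit_right
        (isUnit_of_mul_isUnit_right h3))
  refine ⟨Q, ⟨AlgEquiv.ofAlgHom ((Q.map φ).lift _ hmap₁) (P.lift _ hmap₂) ?_ ?_⟩⟩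
  · apply P.hom_ext
    simp only [AlgHom.coe_comp, Function.comp_apply, StandardEtalePair.lift_X, map_mul,
      AlgHom.commutes, AlgHom.coe_id, id_eq]
    rw [← mul_assoc, ← map_mul, mul_comm (↑hu.unit⁻¹ : D), hui, map_one, one_mul]
  · apply (Q.map φ).hom_ext
    simp only [AlgHom.coe_comp, Function.comp_apply, StandardEtalePair.lift_X, map_mul,
      AlgHom.commutes, AlgHom.coe_id, id_eq]
    rw [← mul_assoc, ← map_mul, hui, map_one, one_mul]


open TensorProduct CategoryTheory in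
theorem exists_lift {B D : Type u} [CommRing B] [CommRing D] (φ : B →+* D)
    (hφ : SurjUpToUnits φ)
    (D' : Type u) [CommRing D'] [Algebra D D'] [Algebra.IsStandardEtale D D'] :
    ∃ (B' : Type u) (_ : CommRing B') (_ : Algebra B B') (_ : Algebra.IsStandardEtale B B')
      (ψ : B' →+* D'),
      IsPushout (CommRingCat.ofHom φ) (CommRingCat.ofHom (algebraMap B B'))
        (CommRingCat.ofHom (algebraMap D D')) (CommRingCat.ofHom ψ) := by
  classical
  have Pres : StandardEtalePresentation D D' :=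
    Algebra.IsStandardEtale.nonempty_standardEtalePresentation.some
  obtain ⟨a, hu, Ha⟩ := hφ.finset (Pres.f.coeffs ∪ Pres.g.coeffs)
  have hf : ∀ i, ∃ b, Pres.f.coeff i * φ a = φ b := by
    intro i
    by_cases h : Pres.f.coeff i = 0
    · exact ⟨0, by rw [h, zero_mul, map_zero]⟩
    · exact Ha _ (Finset.mem_union_left _ (coeff_mem_coeffs h))
  have hg : ∀ i, ∃ b, Pres.g.coeff i * φ a = φ b := by
    intro i
    by_cases h : Pres.g.coeff i = 0
    · exact ⟨0, by rw [h, zero_mul, map_zero]⟩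
    · exact Ha _ (Finset.mem_union_right _ (coeff_mem_coeffs h))
  obtain ⟨Q, ⟨e⟩⟩ := exists_pair_lift φ Pres.P a hu hf hg
  let _ : Algebra B D := φ.toAlgebra
  let PresQ : StandardEtalePresentation B Q.Ring :=
    ⟨Q, Q.X, Q.hasMap_X, by simpa [StandardEtalePair.lift_X_left] using Function.bijective_id⟩
  let e₁ : D ⊗[B] Q.Ring ≃ₐ[D] (Q.map φ).Ring := PresQ.baseChange.equivRing
  let et : D ⊗[B] Q.Ring ≃ₐ[D] D' := e₁.trans (e.trans Pres.equivRing.symm)
  refine ⟨Q.Ring, inferInstance, inferInstance, inferInstance,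
    et.toAlgHom.toRingHom.comp Algebra.TensorProduct.includeRight.toRingHom, ?_⟩
  refine (CommRingCat.isPushout_tensorProduct B D Q.Ring).of_iso (Iso.refl _) (Iso.refl _)
    (Iso.refl _) et.toRingEquiv.toCommRingCatIso ?_ ?_ ?_ ?_
  · simp
  · simp
  · ext x
    simp only [Iso.refl_hom, Category.id_comp]
    show et (x ⊗ₜ[B] 1) = (algebraMap D D') x
    have h1 : (x ⊗ₜ[B] (1 : Q.Ring)) = algebraMap D (D ⊗[B] Q.Ring) x :=
      (Algebra.TensorProduct.algebraMap_apply (R := B) (S := D) (A := D) (B := Q.Ring) x).symm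
    rw [h1, et.commutes]
  · ext x
    simp

end Groth.Agent.Helper18EtLift
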