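import Mathlib
import Groth.Agent.Lib.Helper18EtLiftA

set_option autoImplicit false
set_option linter.style.haveILetI false
universe u

open CategoryTheory AlgebraicGeometry Limits TensorProduct

namespace Groth.Agent.Helper18EtLift

theorem SurjUpToUnits.includeLeft {A B K : Type*} [CommRing A] [CommRing B] [CommRing K]
    [Algebra A B] [Algebra A K] (h : SurjUpToUnits (algebraMap A K)) :
    SurjUpToUnits (Algebra.TensorProduct.includeLeftRingHom : B →+* B ⊗[A] K) := by
  intro c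
  induction c using TensorProduct.induction_on with
  | zero => exact ⟨1, 0, by rw [map_one]; exact isUnit_one, by simp⟩
  | tmul b k =>
    obtain ⟨a, a', hu, ha⟩ := h k
    refine ⟨algebraMap A B a, a' • b, ?_, ?_⟩
    · have : (Algebra.TensorProduct.includeLeftRingHom (algebraMap A B a) : B ⊗[A] K) =
          (Algebra.TensorProduct.includeRight : K →ₐ[A] B ⊗[A] K) (algebraMap A K a) := by
        simp only [Algebra.TensorProduct.includeLeftRingHom_apply,
          Algebra.TensorProduct.includeRight_apply]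
        rw [Algebra.algebraMap_eq_smul_one, Algebra.algebraMap_eq_smul_one, smul_tmul]
      rw [this]
      exact hu.map _
    · simp only [Algebra.TensorProduct.includeLeftRingHom_apply,
        Algebra.TensorProduct.tmul_mul_tmul, mul_one]
      rw [Algebra.algebraMap_eq_smul_one, mul_smul_comm, mul_one, smul_tmul]
      have : a • k = a' • (1 : K) := by
        rw [Algebra.smul_def, mul_comm, ha, Algebra.algebraMap_eq_smul_one]
      rw [this, smul_tmul]
  | add x y hx hy =>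
    obtain ⟨a₁, b₁, h₁, H₁⟩ := hx
    obtain ⟨a₂, b₂, h₂, H₂⟩ := hy
    refine ⟨a₁ * a₂, b₁ * a₂ + b₂ * a₁, by rw [map_mul]; exact h₁.mul h₂, ?_⟩
    rw [map_add, map_mul, map_mul, map_mul, ← H₁, ← H₂]; ring


theorem surjUpToUnits_evaluation {S : Scheme.{u}} (S₀ : S.Opens) (hS₀ : IsAffineOpen S₀) (s : S)
    (hs : s ∈ S₀) : SurjUpToUnits (S.evaluation S₀ s hs).hom := by
  intro k
  obtain ⟨z, rfl⟩ := IsLocalRing.residue_surjective (R := S.presheaf.stalk s) k
  letI := S.presheaf.algebra_section_stalk ⟨s, hs⟩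
  haveI := hS₀.isLocalization_stalk ⟨s, hs⟩
  obtain ⟨⟨a, m⟩, hm⟩ := IsLocalization.surj (hS₀.primeIdealOf ⟨s, hs⟩).asIdeal.primeCompl z
  have hmu : IsUnit (algebraMap Γ(S, S₀) (S.presheaf.stalk s) m) :=
    IsLocalization.map_units _ m
  refine ⟨m, a, ?_, ?_⟩
  · exact hmu.map (IsLocalRing.residue (S.presheaf.stalk s))
  · have := congrArg (IsLocalRing.residue (S.presheaf.stalk s)) hm
    rw [map_mul] at this
    exact this

theorem fromSpecResidueField_eq {S : Scheme.{u}} (S₀ : S.Opens) (hS₀ : IsAffineOpen S₀) (s : S)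
    (hs : s ∈ S₀) :
    Spec.map (S.evaluation S₀ s hs) ≫ hS₀.fromSpec = S.fromSpecResidueField s := by
  rw [Scheme.fromSpecResidueField, ← hS₀.fromSpecStalk_eq_fromSpecStalk hs,
    IsAffineOpen.fromSpecStalk, ← Spec.map_comp_assoc, Scheme.germ_residue]

theorem exists_fiber_chart {X S : Scheme.{u}} (f : X ⟶ S) (s : S) (W : X.Opens)
    (hW : IsAffineOpen W) (S₀ : S.Opens) (hS₀ : IsAffineOpen S₀) (hs : s ∈ S₀)
    (hWS : W ≤ f ⁻¹ᵁ S₀) :
    ∃ (T : CommRingCat.{u}) (φ : Γ(X, W) ⟶ T) (ι : Spec T ⟶ f.fiber s),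
      IsOpenImmersion ι ∧ Set.range ι = (f.fiberι s) ⁻¹' W ∧
      ι ≫ f.fiberι s = Spec.map φ ≫ hW.fromSpec ∧ SurjUpToUnits φ.hom := by
  let α : Γ(S, S₀) ⟶ Γ(X, W) := f.appLE S₀ W hWS
  let β : Γ(S, S₀) ⟶ S.residueField s := S.evaluation S₀ s hs
  letI : Algebra Γ(S, S₀) Γ(X, W) := α.hom.toAlgebra
  letI : Algebra Γ(S, S₀) (S.residueField s) := β.hom.toAlgebra
  have e₁ : Spec.map α ≫ hS₀.fromSpec = hW.fromSpec ≫ f :=
    IsAffineOpen.SpecMap_appLE_fromSpec f hS₀ hW hWS
  have e₂ : Spec.map β ≫ hS₀.fromSpec = 𝟙 _ ≫ S.fromSpecResidueField s := by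
    rw [Category.id_comp]; exact fromSpecResidueField_eq S₀ hS₀ s hs
  let ι₀ : pullback (Spec.map α) (Spec.map β) ⟶ f.fiber s :=
    pullback.map (Spec.map α) (Spec.map β) f (S.fromSpecResidueField s) hW.fromSpec (𝟙 _)
      hS₀.fromSpec e₁ e₂
  haveI : IsOpenImmersion ι₀ := Scheme.pullback_map_isOpenImmersion _ _ _ _ _ _ _ e₁ e₂
  have hr₀ : Set.range ι₀ = (f.fiberι s) ⁻¹' W := by
    have := Scheme.Pullback.range_map (f := Spec.map α) (g := Spec.map β) f
      (S.fromSpecResidueField s) hW.fromSpec (𝟙 _) hS₀.fromSpec e₁ e₂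
    rw [show Set.range ι₀ = _ from this, hW.range_fromSpec]
    simp [Scheme.Hom.fiberι]
    rfl
  have h₀ : ι₀ ≫ f.fiberι s = pullback.fst _ _ ≫ hW.fromSpec := pullback.lift_fst _ _ _
  let iso : pullback (Spec.map α) (Spec.map β) ≅
      Spec (.of (Γ(X, W) ⊗[Γ(S, S₀)] (S.residueField s))) :=
    pullbackSpecIso Γ(S, S₀) Γ(X, W) (S.residueField s)
  refine ⟨.of (Γ(X, W) ⊗[Γ(S, S₀)] (S.residueField s)),
    CommRingCat.ofHom Algebra.TensorProduct.includeLeftRingHom, iso.inv ≫ ι₀, inferInstance, ?_,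
    ?_, ?_⟩
  · rw [← hr₀, Scheme.Hom.comp_base, TopCat.coe_comp, Set.range_comp,
      Set.range_eq_univ.mpr (by exact (iso.inv.homeomorph).surjective), Set.image_univ]
  · rw [Category.assoc, h₀, ← Category.assoc]
    congr 1
    exact pullbackSpecIso_inv_fst _ _ _
  · exact SurjUpToUnits.includeLeft (surjUpToUnits_evaluation S₀ hS₀ s hs)

end Groth.Agent.Helper18EtLift
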