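import Mathlib
import Groth.Agent.Lib.Helper2FPAff

set_option autoImplicit false
set_option linter.style.haveILetI false
universe u

open CategoryTheory AlgebraicGeometry Limits TensorProduct

namespace Groth.Agent.Helper18EtLift

/-- Standard étale chart of an étale morphism to an affine scheme, around a point. -/
theorem exists_standardEtale_chart {Y : Scheme.{u}} {T : CommRingCat.{u}} (h : Y ⟶ Spec T)
    [Etale h] (y : Y) :
    ∃ (D' : Type u) (_ : CommRing D') (_ : Algebra T D') (_ : Algebra.IsStandardEtale T D')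
      (k : Spec (.of D') ⟶ Y), IsOpenImmersion k ∧ y ∈ Set.range k ∧
        k ≫ h = Spec.map (CommRingCat.ofHom (algebraMap T D')) := by
  obtain ⟨U₀, hU₀, hyU₀, -⟩ :=
    exists_isAffineOpen_mem_and_subset (x := y) (U := (⊤ : Y.Opens)) trivial
  have e₀ : U₀ ≤ h ⁻¹ᵁ ⊤ := le_top
  have het : (h.appLE ⊤ U₀ e₀).hom.Etale :=
    HasRingHomProperty.appLE @Etale h inferInstance ⟨⊤, isAffineOpen_top _⟩ ⟨U₀, hU₀⟩ e₀
  have hiso : ((Scheme.ΓSpecIso T).inv.hom).Etale :=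
    RingHom.Etale.of_bijective (ConcreteCategory.bijective_of_isIso (Scheme.ΓSpecIso T).inv)
  let θ₀ : T →+* Γ(Y, U₀) := (h.appLE ⊤ U₀ e₀).hom.comp (Scheme.ΓSpecIso T).inv.hom
  have hθ₀ : θ₀.Etale := RingHom.Etale.stableUnderComposition _ _ hiso het
  letI a0 : Algebra T Γ(Y, U₀) := θ₀.toAlgebra
  haveI : Algebra.Etale T Γ(Y, U₀) := hθ₀
  let Q := (hU₀.primeIdealOf ⟨y, hyU₀⟩).asIdeal
  haveI : Algebra.FormallyEtale Γ(Y, U₀) (Localization.AtPrime Q) :=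
    Algebra.FormallyEtale.of_isLocalization Q.primeCompl
  haveI : Algebra.IsEtaleAt T Q :=
    Algebra.FormallyEtale.comp T Γ(Y, U₀) (Localization.AtPrime Q)
  obtain ⟨g₁, hg₁Q, hstd⟩ := Algebra.IsEtaleAt.exists_isStandardEtale (R := T) Q
  have hyg : y ∈ Y.basicOpen g₁ :=
    (Groth.Agent.Lib.Helper2.mem_basicOpen_iff_notMem_primeIdealOf hU₀ y hyU₀ g₁).mpr hg₁Q
  have hU : IsAffineOpen (Y.basicOpen g₁) := hU₀.basicOpen g₁
  have e : Y.basicOpen g₁ ≤ h ⁻¹ᵁ ⊤ := le_top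
  let θ : T →+* Γ(Y, Y.basicOpen g₁) :=
    (h.appLE ⊤ (Y.basicOpen g₁) e).hom.comp (Scheme.ΓSpecIso T).inv.hom
  letI a1 : Algebra T Γ(Y, Y.basicOpen g₁) := θ.toAlgebra
  haveI : IsLocalization.Away g₁ Γ(Y, Y.basicOpen g₁) := hU₀.isLocalization_basicOpen g₁
  haveI : IsScalarTower T Γ(Y, U₀) Γ(Y, Y.basicOpen g₁) := by
    apply IsScalarTower.of_algebraMap_eq'
    have h1 : h.appLE ⊤ U₀ e₀ ≫ Y.presheaf.map (homOfLE (Y.basicOpen_le g₁)).op =
        h.appLE ⊤ (Y.basicOpen g₁) e := Scheme.Hom.appLE_map _ _ _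
    ext r
    have := congrArg (fun ψ => ψ.hom ((Scheme.ΓSpecIso T).inv.hom r)) h1
    exact this.symm
  let eq : Localization.Away g₁ ≃ₐ[Γ(Y, U₀)] Γ(Y, Y.basicOpen g₁) :=
    IsLocalization.algEquiv (Submonoid.powers g₁) _ _
  haveI : Algebra.IsStandardEtale T Γ(Y, Y.basicOpen g₁) :=
    Algebra.IsStandardEtale.of_equiv (eq.restrictScalars T)
  refine ⟨Γ(Y, Y.basicOpen g₁), inferInstance, a1, inferInstance, hU.fromSpec, inferInstance,
    ?_, ?_⟩
  · rw [hU.range_fromSpec]; exact hyg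
  · have h2 := IsAffineOpen.SpecMap_appLE_fromSpec h (isAffineOpen_top (Spec T)) hU e
    rw [← h2, IsAffineOpen.fromSpec_top, Scheme.isoSpec_Spec_inv, ← Spec.map_comp]
    rfl

end Groth.Agent.Helper18EtLift
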