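import Mathlib
import Groth.Prelude
import Groth.Agent.Lib.Helper18EtLiftA
import Groth.Agent.Lib.Helper18EtLiftB
import Groth.Agent.Lib.Helper18EtLiftC

set_option autoImplicit false
set_option linter.style.haveILetI false
universe u

open CategoryTheory AlgebraicGeometry Limits TensorProduct

namespace Groth.Agent.Helper18EtLift

theorem isPullback_fiberMap {U X S : Scheme.{u}} (p : U ⟶ X) (f : X ⟶ S) (s : S) :
    IsPullback (MoreMor.fiberMap p f s) ((p ≫ f).fiberι s) (f.fiberι s) p := by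
  refine IsPullback.of_right (h₁₂ := f.fiberToSpecResidueField s) (v₁₃ := S.fromSpecResidueField s)
    (h₂₂ := f) ?_ ?_ ?_
  · have h1 : MoreMor.fiberMap p f s ≫ f.fiberToSpecResidueField s =
        (p ≫ f).fiberToSpecResidueField s := pullback.lift_snd _ _ _
    rw [h1]
    exact (IsPullback.of_hasPullback (p ≫ f) (S.fromSpecResidueField s)).flip
  · exact pullback.lift_fst _ _ _
  · exact (IsPullback.of_hasPullback f (S.fromSpecResidueField s)).flip

theorem main_S9727 {X S V : Scheme.{u}} (f : X ⟶ S) (x : X)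
    (g : V ⟶ f.fiber (f x)) [Etale g] (v : V) (hv : g v = f.asFiber x) :
    ∃ (U : Scheme.{u}) (p : U ⟶ X) (u : U) (m : (p ≫ f).fiber (f x) ⟶ V)
      (u' : ↑((p ≫ f).fiber (f x))),
      Etale p ∧ p u = x ∧ IsOpenImmersion m ∧ m ≫ g = MoreMor.fiberMap p f (f x) ∧
      (p ≫ f).fiberι (f x) u' = u ∧ m u' = v := by
  obtain ⟨S₀, hS₀, hs, -⟩ :=
    exists_isAffineOpen_mem_and_subset (x := f x) (U := (⊤ : S.Opens)) trivial
  obtain ⟨W, hW, hxW, hWS⟩ :=
    exists_isAffineOpen_mem_and_subset (x := x) (U := f ⁻¹ᵁ S₀) hs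
  obtain ⟨T, φ, ι, hι, hrange, hι_comp, hφ⟩ := exists_fiber_chart f (f x) W hW S₀ hS₀ hs hWS
  -- the point `g v` lies in the chart
  have hgv : g v ∈ Set.range ι := by
    rw [hrange, hv]
    show f.fiberι (f x) (f.asFiber x) ∈ W
    rw [Scheme.Hom.fiberι_asFiber]; exact hxW
  obtain ⟨t, ht⟩ := hgv
  obtain ⟨v'', hv''₁, hv''₂⟩ := Scheme.Pullback.exists_preimage_pullback (f := g) (g := ι) v t ht.symm
  obtain ⟨D', _, _, _, k, hk, ⟨d, hd⟩, hkh⟩ := exists_standardEtale_chart (pullback.snd g ι) v''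
  obtain ⟨B', _, _, _, ψ, hpo⟩ := exists_lift φ.hom hφ D'
  let p : Spec (.of B') ⟶ X := Spec.map (CommRingCat.ofHom (algebraMap Γ(X, W) B')) ≫ hW.fromSpec
  haveI : Etale (Spec.map (CommRingCat.ofHom (algebraMap Γ(X, W) B'))) := by
    rw [HasRingHomProperty.Spec_iff (P := @Etale)]
    exact RingHom.etale_algebraMap.mpr inferInstance
  haveI : Etale p := inferInstance
  -- top square
  have htop := isPullback_SpecMap_of_isPushout _ _ _ _ hpo
  -- bottom square
  have hbot : IsPullback (Spec.map φ) ι hW.fromSpec (f.fiberι (f x)) := by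
    apply IsOpenImmersion.isPullback _ _ _ _ hι_comp
    ext z
    have : z ∈ Set.range ι ↔ z ∈ (f.fiberι (f x)) ⁻¹' W := by rw [hrange]
    simp only [Scheme.Hom.coe_opensRange, hW.opensRange_fromSpec]
    exact this.symm
  have hbig := htop.flip.paste_vert hbot
  have hfib := isPullback_fiberMap p f (f x)
  let e := hfib.isoIsPullback _ _ hbig.flip
  have he₁ : e.hom ≫ (Spec.map (CommRingCat.ofHom (algebraMap T D')) ≫ ι) =
      MoreMor.fiberMap p f (f x) := IsPullback.isoIsPullback_hom_fst _ _ _ _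
  have he₂ : e.hom ≫ Spec.map (CommRingCat.ofHom ψ) = (p ≫ f).fiberι (f x) :=
    IsPullback.isoIsPullback_hom_snd _ _ _ _
  let m : (p ≫ f).fiber (f x) ⟶ V := e.hom ≫ k ≫ pullback.fst g ι
  have hmg : m ≫ g = MoreMor.fiberMap p f (f x) := by
    rw [← he₁]
    simp only [m, Category.assoc]
    rw [pullback.condition, reassoc_of% hkh]
  have hmu : m (e.inv d) = v := by
    have h0 : e.hom (e.inv d) = d := by
      rw [← Scheme.Hom.comp_apply, Iso.inv_hom_id]; rfl
    simp only [m, Scheme.Hom.comp_apply]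
    rw [h0, hd, hv''₁]
  refine ⟨Spec (.of B'), p, (p ≫ f).fiberι (f x) (e.inv d), m, e.inv d, inferInstance, ?_,
    inferInstance, hmg, rfl, hmu⟩
  have h1 : (p ≫ f).fiberι (f x) ≫ p = MoreMor.fiberMap p f (f x) ≫ f.fiberι (f x) := hfib.w.symm
  rw [← Scheme.Hom.comp_apply, h1, ← hmg, Scheme.Hom.comp_apply, Scheme.Hom.comp_apply, hmu, hv,
    Scheme.Hom.fiberι_asFiber]

end Groth.Agent.Helper18EtLift
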