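import Mathlib
import Groth.Agent.Lib.Helper18StdEtaleCover

set_option autoImplicit false
set_option linter.style.haveILetI false
universe u

namespace Groth.Agent.Lib.Helper18EtaleCover
open Polynomial TensorProduct

theorem step_cover (R : Type u) [CommRing R] (S : Type u) [CommRing S] [Algebra R S]
    (s : Finset S) (hstd : ∀ g ∈ s, Algebra.IsStandardEtale R (Localization.Away g)) :
    ∃ (S' : Type u) (_ : CommRing S') (_ : Algebra R S'),
      Module.Finite R S' ∧ Algebra.FinitePresentation R S' ∧ Module.FaithfullyFlat R S' ∧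
      ∀ (q' : Ideal S') [q'.IsPrime] (𝔮 : Ideal S) [𝔮.IsPrime], 𝔮.under R = q'.under R →
        (∃ g ∈ s, g ∉ 𝔮) →
          ∃ (g' : S') (_ : g' ∉ q'), Nonempty (S →ₐ[R] Localization.Away g') := by
  classical
  induction s using Finset.induction_on with
  | empty =>
    refine ⟨R, inferInstance, inferInstance, inferInstance, inferInstance, inferInstance, ?_⟩
    rintro q' _ 𝔮 _ _ ⟨g, hg, _⟩
    simp at hg
  | insert g s hgs ih =>
    obtain ⟨S₀, _, _, hfin₀, hfp₀, hff₀, H₀⟩ :=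
      ih (fun g' hg' => hstd g' (Finset.mem_insert_of_mem hg'))
    haveI := hstd g (Finset.mem_insert_self g s)
    obtain ⟨S₁, _, _, hfin₁, hfp₁, hflat₁, hsurj₁, H₁⟩ :=
      Groth.Agent.Lib.Helper18StdEtaleCover.main R (Localization.Away g)
    haveI hff₁ : Module.FaithfullyFlat R S₁ := .of_comap_surjective hsurj₁
    refine ⟨S₀ ⊗[R] S₁, inferInstance, inferInstance, inferInstance,
      Algebra.FinitePresentation.trans R S₀ (S₀ ⊗[R] S₁),
      Module.FaithfullyFlat.trans R S₀ (S₀ ⊗[R] S₁), ?_⟩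
    rintro q' _ 𝔮 _ hqq ⟨g₁, hg₁, hg₁𝔮⟩
    rcases Finset.mem_insert.mp hg₁ with rfl | hg₁s
    · -- use the new piece
      have hdisj : Disjoint (Submonoid.powers g₁ : Set S) 𝔮 := by
        rw [Set.disjoint_left]
        rintro _ ⟨n, rfl⟩ hn
        exact hg₁𝔮 (‹𝔮.IsPrime›.mem_of_pow_mem n hn)
      let 𝔮₁ : Ideal (Localization.Away g₁) := 𝔮.map (algebraMap S (Localization.Away g₁))
      haveI h𝔮₁p : 𝔮₁.IsPrime :=
        IsLocalization.isPrime_of_isPrime_disjoint (Submonoid.powers g₁) _ 𝔮 ‹_› hdisj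
      have h𝔮₁ : 𝔮₁.comap (algebraMap S (Localization.Away g₁)) = 𝔮 :=
        IsLocalization.under_map_of_isPrime_disjoint (Submonoid.powers g₁) _ ‹_› hdisj
      have h3 : 𝔮₁.under R = 𝔮.under R := by
        rw [← h𝔮₁]
        change _ = Ideal.under R (Ideal.under S 𝔮₁)
        rw [Ideal.under_under]
      let q'₁ : Ideal S₁ := q'.comap (Algebra.TensorProduct.includeRight : S₁ →ₐ[R] S₀ ⊗[R] S₁)
      have h4 : q'₁.under R = q'.under R := by
        ext x
        simp only [Ideal.under, Ideal.mem_comap, q'₁, AlgHom.commutes]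
      obtain ⟨g', hg', φ, -⟩ := H₁ 𝔮₁ q'₁ (by rw [h4, h3, hqq])
      exact ⟨(Algebra.TensorProduct.includeRight : S₁ →ₐ[R] S₀ ⊗[R] S₁) g', hg',
        ⟨((Localization.awayMapₐ (Algebra.TensorProduct.includeRight : S₁ →ₐ[R] S₀ ⊗[R] S₁) g').comp
          φ).comp (IsScalarTower.toAlgHom R S (Localization.Away g₁))⟩⟩
    · let q'₀ : Ideal S₀ := q'.comap (Algebra.TensorProduct.includeLeft : S₀ →ₐ[R] S₀ ⊗[R] S₁)
      have h4 : q'₀.under R = q'.under R := by
        ext x
        simp only [Ideal.under, Ideal.mem_comap, q'₀, AlgHom.commutes]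
      obtain ⟨g', hg', ⟨ψ⟩⟩ := H₀ q'₀ 𝔮 (by rw [h4, hqq]) ⟨g₁, hg₁s, hg₁𝔮⟩
      exact ⟨(Algebra.TensorProduct.includeLeft : S₀ →ₐ[R] S₀ ⊗[R] S₁) g', hg',
        ⟨(Localization.awayMapₐ (Algebra.TensorProduct.includeLeft : S₀ →ₐ[R] S₀ ⊗[R] S₁) g').comp
          ψ⟩⟩

theorem main (R : Type u) [CommRing R]
    (S : Type u) [CommRing S] [Algebra R S] [Algebra.Etale R S]
    (hs : Function.Surjective (PrimeSpectrum.comap (algebraMap R S))) :
    ∃ (S' : Type u) (_ : CommRing S') (_ : Algebra R S'),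
      Module.Finite R S' ∧ Algebra.FinitePresentation R S' ∧ Module.Flat R S' ∧
        Function.Surjective (PrimeSpectrum.comap (algebraMap R S')) ∧
        ∀ (q' : Ideal S') [q'.IsPrime], ∃ (g' : S') (_ : g' ∉ q'),
          Nonempty (S →ₐ[R] Localization.Away g') := by
  classical
  -- the set of good elements
  let G : Set S := {g | Algebra.IsStandardEtale R (Localization.Away g)}
  have hG : Ideal.span G = ⊤ := by
    by_contra hne
    obtain ⟨m, hm, hle⟩ := Ideal.exists_le_maximal _ hne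
    haveI := hm.isPrime
    haveI : Algebra.IsEtaleAt R m := Algebra.FormallyEtale.comp R S (Localization.AtPrime m)
    obtain ⟨f, hfm, hstd⟩ := Algebra.IsEtaleAt.exists_isStandardEtale (R := R) m
    exact hfm (hle (Ideal.subset_span hstd))
  obtain ⟨s, hsG, hs1⟩ := (Ideal.span_eq_top_iff_finite G).mp hG
  obtain ⟨S', _, _, hfin, hfp, hff, H⟩ := step_cover R S s (fun g hg => hsG hg)
  refine ⟨S', inferInstance, inferInstance, hfin, hfp, inferInstance,
    PrimeSpectrum.comap_surjective_of_faithfullyFlat, ?_⟩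
  intro q' _
  obtain ⟨⟨𝔮, h𝔮p⟩, h𝔮⟩ := hs ⟨q'.under R, inferInstance⟩
  have h𝔮' : 𝔮.under R = q'.under R := congrArg PrimeSpectrum.asIdeal h𝔮
  have : ∃ g ∈ s, g ∉ 𝔮 := by
    by_contra hcon
    push Not at hcon
    have : Ideal.span (s : Set S) ≤ 𝔮 := Ideal.span_le.mpr (fun g hg => hcon g hg)
    rw [hs1] at this
    exact h𝔮p.ne_top (top_le_iff.mp this)
  exact H q' 𝔮 h𝔮' this

end Groth.Agent.Lib.Helper18EtaleCover
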