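import Mathlib
import Groth.Agent.Lib.Helper18StdEtaleCover

set_option autoImplicit false
set_option linter.style.haveILetI false
universe u

namespace Groth.Agent.Lib.Helper18EtaleLocalCover
open Polynomial TensorProduct

theorem main (R : Type u) [CommRing R] [IsLocalRing R] (T : Type u) [CommRing T] [Algebra R T]
    [Algebra.Etale R T] (q : Ideal T) [q.IsPrime] (S : Type u) [CommRing S] [IsLocalRing S]
    [Algebra T S] [IsLocalization.AtPrime S q] [Algebra R S] [IsScalarTower R T S]
    [IsLocalHom (algebraMap R S)] :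
    ∃ (S' : Type u) (_ : CommRing S') (_ : Algebra R S'),
      Module.Finite R S' ∧ Algebra.FinitePresentation R S' ∧ Module.FaithfullyFlat R S' ∧
        ∀ (m' : Ideal S') [m'.IsMaximal], Nonempty (S →ₐ[R] Localization.AtPrime m') := by
  haveI : Algebra.IsEtaleAt R q := Algebra.FormallyEtale.comp R T (Localization.AtPrime q)
  obtain ⟨f, hfq, hstd⟩ := Algebra.IsEtaleAt.exists_isStandardEtale (R := R) q
  obtain ⟨S', _, _, hfin, hfp, hflat, hsurj, H⟩ :=
    Groth.Agent.Lib.Helper18StdEtaleCover.main R (Localization.Away f)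
  refine ⟨S', inferInstance, inferInstance, hfin, hfp,
    Module.FaithfullyFlat.of_comap_surjective hsurj, ?_⟩
  intro m' hm'
  have hdisj : Disjoint (Submonoid.powers f : Set T) q := by
    rw [Set.disjoint_left]
    rintro _ ⟨n, rfl⟩ hn
    exact hfq (‹q.IsPrime›.mem_of_pow_mem n hn)
  let q₁ : Ideal (Localization.Away f) := q.map (algebraMap T (Localization.Away f))
  haveI hq₁p : q₁.IsPrime :=
    IsLocalization.isPrime_of_isPrime_disjoint (Submonoid.powers f) _ q ‹_› hdisj
  have hq₁ : q₁.comap (algebraMap T (Localization.Away f)) = q :=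
    IsLocalization.under_map_of_isPrime_disjoint (Submonoid.powers f) _ ‹_› hdisj
  have h1 : q.under R = IsLocalRing.maximalIdeal R := by
    rw [← IsLocalization.AtPrime.under_maximalIdeal S q, Ideal.under_under,
      ← IsLocalRing.maximalIdeal_comap (algebraMap R S)]
  have h2 : m'.under R = IsLocalRing.maximalIdeal R := by
    haveI : (m'.under R).IsMaximal :=
      Ideal.isMaximal_comap_of_isIntegral_of_isMaximal (R := R) m'
    exact IsLocalRing.eq_maximalIdeal ‹_›
  have h3 : q₁.under R = q.under R := by
    rw [← hq₁]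
    change _ = Ideal.under R (Ideal.under T q₁)
    rw [Ideal.under_under]
  obtain ⟨g', hg', φ, hφ⟩ := H q₁ m' (by rw [h2, h3, h1])
  let A' := Localization.AtPrime m'
  let μ : Localization.Away g' →ₐ[R] A' :=
    IsLocalization.liftAlgHom (M := Submonoid.powers g') (f := IsScalarTower.toAlgHom R S' A') (by
      rintro ⟨_, n, rfl⟩
      have : IsUnit (algebraMap S' A' g') :=
        IsLocalization.map_units (M := m'.primeCompl) A' ⟨g', hg'⟩
      simpa using this.pow n)
  have hμ : ∀ s, μ (algebraMap S' _ s) = algebraMap S' A' s := by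
    intro s
    simp [μ]
  let χ : T →ₐ[R] A' := (μ.comp φ).comp (IsScalarTower.toAlgHom R T (Localization.Away f))
  have h𝔫 : (IsLocalRing.maximalIdeal A').comap μ.toRingHom =
      m'.map (algebraMap S' (Localization.Away g')) := by
    rw [← IsLocalization.map_under (Submonoid.powers g') (Localization.Away g')
      ((IsLocalRing.maximalIdeal A').comap μ.toRingHom)]
    congr 1
    ext s
    rw [Ideal.mem_comap, Ideal.mem_comap]
    change μ (algebraMap S' _ s) ∈ _ ↔ _
    rw [hμ]
    exact IsLocalization.AtPrime.to_map_mem_maximal_iff A' m' s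
  have hunits : ∀ t : q.primeCompl, IsUnit (χ t) := by
    rintro ⟨t, ht⟩
    by_contra hcon
    apply ht
    have hmem : χ t ∈ IsLocalRing.maximalIdeal A' := hcon
    have h4 : φ (algebraMap T (Localization.Away f) t) ∈
        (IsLocalRing.maximalIdeal A').comap μ.toRingHom := hmem
    rw [h𝔫] at h4
    have h5 : algebraMap T (Localization.Away f) t ∈ q₁ := by
      rw [← hφ]
      exact h4
    rw [← hq₁]
    exact h5
  exact ⟨IsLocalization.liftAlgHom (M := q.primeCompl) (f := χ) hunits⟩

end Groth.Agent.Lib.Helper18EtaleLocalCover
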