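import Mathlib
import Groth.Agent.S9428

set_option autoImplicit false
set_option linter.style.haveILetI false
universe u

namespace Groth.Agent.Lib.Helper18EtaleLocalT
open Polynomial IsLocalRing

theorem bij_transfer {R S : Type*} [CommRing R] [CommRing S] (f : R →+* S) (I I' : Ideal R)
    (J J' : Ideal S) (hI : I = I') (hJ : J = J') (h : I ≤ J.comap f) (h' : I' ≤ J'.comap f)
    (hb : Function.Bijective (Ideal.quotientMap J f h)) :
    Function.Bijective (Ideal.quotientMap J' f h') := by
  subst hI hJ
  exact hb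

/-- the key: find `t` with `R/t → S/tS` bijective. -/
theorem exists_t (R : Type u) [CommRing R] [IsLocalRing R] (T : Type u) [CommRing T] [Algebra R T]
    [Algebra.Etale R T] (q : Ideal T) [q.IsPrime] (S : Type u) [CommRing S] [IsLocalRing S]
    [Algebra T S] [IsLocalization.AtPrime S q] [Algebra R S] [IsScalarTower R T S]
    [IsLocalHom (algebraMap R S)]
    (hres : Function.Surjective (IsLocalRing.ResidueField.map (algebraMap R S))) :
    ∃ t ∈ IsLocalRing.maximalIdeal R,
      (Ideal.span {t}).map (algebraMap R S) ⊓ ⊤ = (Ideal.span {t}).map (algebraMap R S) ∧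
      ((Ideal.span {t}).map (algebraMap R S)).comap (algebraMap R S) = Ideal.span {t} ∧
      Function.Surjective (algebraMap R (S ⧸ (Ideal.span {t}).map (algebraMap R S))) := by
  obtain ⟨f, hfq, hstd⟩ := Algebra.IsEtaleAt.exists_isStandardEtale (R := R) q
  obtain ⟨PP⟩ := hstd.nonempty_standardEtalePresentation
  -- E = T_f
  let E := Localization.Away f
  have hfu : IsUnit (algebraMap T S f) :=
    IsLocalization.map_units (M := q.primeCompl) S ⟨f, hfq⟩
  let ψ : E →ₐ[T] S := IsLocalization.liftAlgHom (M := Submonoid.powers f) (f := Algebra.ofId T S)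
    (by rintro ⟨_, n, rfl⟩; simpa using hfu.pow n)
  have hψ : ∀ y : T, ψ (algebraMap T E y) = algebraMap T S y := fun y => by
    simp [ψ]
  let ψR : E →ₐ[R] S := ψ.restrictScalars R
  have hψR : ∀ e, ψR e = ψ e := fun _ => rfl
  let x : E := PP.x
  let xS : S := ψR x
  have hxS : PP.HasMap xS := PP.hasMap.map ψR
  -- choose a
  obtain ⟨ā, hā⟩ := hres (residue S xS)
  obtain ⟨a, rfl⟩ := residue_surjective ā
  rw [ResidueField.map_residue] at hā
  let d : S := algebraMap R S a - xS
  have hd : d ∈ maximalIdeal S := by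
    rw [← residue_eq_zero_iff, map_sub, hā, sub_self]
  -- polynomials over S
  let F : S[X] := PP.f.map (algebraMap R S)
  let G : S[X] := PP.g.map (algebraMap R S)
  have hF0 : F.eval xS = 0 := by
    have := hxS.1
    rwa [aeval_def, ← eval_map] at this
  have hGu : IsUnit (G.eval xS) := by
    have := hxS.2
    rwa [aeval_def, ← eval_map] at this
  have hF'u : IsUnit ((derivative F).eval xS) := by
    have := hxS.isUnit_derivative_f
    rwa [aeval_def, ← eval_map, ← derivative_map] at this
  let t : R := PP.f.eval a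
  have hFa : F.eval (algebraMap R S a) = algebraMap R S t := by
    rw [eval_map, eval₂_hom]
  have hGa : G.eval (algebraMap R S a) = algebraMap R S (PP.g.eval a) := by
    rw [eval_map, eval₂_hom]
  have hxd : algebraMap R S a = xS + d := by simp [d]
  -- Taylor
  obtain ⟨k, hk⟩ := binomExpansion F xS d
  rw [← hxd, hFa, hF0, zero_add] at hk
  have hu : IsUnit ((derivative F).eval xS + k * d) := by
    have hnu : k * d ∈ maximalIdeal S := Ideal.mul_mem_left _ _ hd
    by_contra hcon
    have hmem : (derivative F).eval xS + k * d ∈ maximalIdeal S := hcon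
    have := (Ideal.add_mem_iff_left _ hnu).mp hmem
    exact this hF'u
  have htd : algebraMap R S t = d * ((derivative F).eval xS + k * d) := by
    rw [hk]; ring
  have hdt : d ∈ (Ideal.span {t}).map (algebraMap R S) := by
    have : d = algebraMap R S t * ↑hu.unit⁻¹ := by
      rw [htd, mul_assoc, IsUnit.mul_val_inv, mul_one]
    rw [this]
    exact Ideal.mul_mem_right _ _ (Ideal.mem_map_of_mem _ (Ideal.mem_span_singleton_self t))
  have htm : t ∈ maximalIdeal R := by
    by_contra hcon
    have htu : IsUnit t := by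
      by_contra h; exact hcon h
    have : IsUnit (algebraMap R S t) := htu.map _
    rw [htd] at this
    have hdu : IsUnit d := isUnit_of_mul_isUnit_left this
    exact hd hdu
  -- g(a) is a unit
  have hgau : IsUnit (PP.g.eval a) := by
    have h1 : IsUnit (algebraMap R S (PP.g.eval a)) := by
      rw [← hGa]
      obtain ⟨c, hc⟩ := sub_dvd_eval_sub (algebraMap R S a) xS G
      have hmem : G.eval (algebraMap R S a) - G.eval xS ∈ maximalIdeal S := by
        rw [hc]; exact Ideal.mul_mem_right _ _ hd
      by_contra hcon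
      have hmem2 : G.eval (algebraMap R S a) ∈ maximalIdeal S := hcon
      have : G.eval xS ∈ maximalIdeal S := by
        have := sub_mem hmem2 hmem
        simpa using this
      exact this hGu
    exact isUnit_of_map_unit (algebraMap R S) _ h1
  -- R̄
  let Rb := R ⧸ Ideal.span {t}
  have hne : Ideal.span {t} ≠ ⊤ := by
    intro h
    have : (1 : R) ∈ Ideal.span {t} := h ▸ trivial
    have : (1 : R) ∈ maximalIdeal R :=
      ((Ideal.span_singleton_le_iff_mem _).mpr htm) this
    exact (maximalIdeal.isMaximal R).ne_top ((Ideal.eq_top_iff_one _).mpr this)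
  haveI : Nontrivial Rb := Ideal.Quotient.nontrivial_iff.mpr hne
  let ab : Rb := Ideal.Quotient.mk _ a
  have hab : PP.HasMap ab := by
    constructor
    · have : aeval ab PP.f = Ideal.Quotient.mk _ (PP.f.eval a) := by
        rw [aeval_def, ← Ideal.Quotient.algebraMap_eq]
        exact eval₂_hom _ _
      rw [this]
      exact Ideal.Quotient.eq_zero_iff_mem.mpr (Ideal.mem_span_singleton_self t)
    · have : aeval ab PP.g = Ideal.Quotient.mk _ (PP.g.eval a) := by
        rw [aeval_def, ← Ideal.Quotient.algebraMap_eq]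
        exact eval₂_hom _ _
      rw [this]
      exact hgau.map _
  let σ₀ : E →ₐ[R] Rb := (PP.lift ab hab).comp PP.equivRing.toAlgHom
  have hσ₀x : σ₀ x = ab := by
    simp [σ₀, x]
  -- residue field of S as target
  let κ := ResidueField S
  have hkill : ∀ r ∈ Ideal.span {t}, (Algebra.ofId R κ) r = 0 := by
    intro r hr
    have hrm : r ∈ maximalIdeal R := ((Ideal.span_singleton_le_iff_mem _).mpr htm) hr
    change algebraMap R κ r = 0
    rw [IsScalarTower.algebraMap_apply R S κ]
    change residue S (algebraMap R S r) = 0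
    rw [residue_eq_zero_iff]
    exact fun hu => hrm (isUnit_of_map_unit (algebraMap R S) r hu)
  have hloc : ∀ r ∈ maximalIdeal R, algebraMap R S r ∈ maximalIdeal S :=
    fun r hr hu => hr (isUnit_of_map_unit (algebraMap R S) r hu)
  let π : Rb →ₐ[R] κ := Ideal.Quotient.liftₐ (Ideal.span {t}) (Algebra.ofId R κ) hkill
  have hπ : ∀ r, π (Ideal.Quotient.mk _ r) = residue S (algebraMap R S r) := fun r => by
    change algebraMap R κ r = _
    rw [IsScalarTower.algebraMap_apply R S κ]
    rfl
  have hπnu : ∀ z : Rb, ¬ IsUnit z → π z = 0 := by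
    intro z hz
    obtain ⟨r, rfl⟩ := Ideal.Quotient.mk_surjective z
    have hr : r ∈ maximalIdeal R := fun hu => hz (hu.map _)
    rw [hπ, residue_eq_zero_iff]; exact hloc r hr
  let ρ₁ : E →ₐ[R] κ := (IsScalarTower.toAlgHom R S κ).comp ψR
  let ρ₂ : E →ₐ[R] κ := π.comp σ₀
  have hρ : ρ₁ = ρ₂ := by
    apply PP.hom_ext
    change residue S xS = π (σ₀ x)
    rw [hσ₀x, hπ, hā]
  have hunits : ∀ y : q.primeCompl, IsUnit (σ₀ (algebraMap T E y)) := by
    intro y
    by_contra hcon
    have h0 : ρ₂ (algebraMap T E y) = 0 := hπnu _ hcon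
    rw [← hρ] at h0
    have h1 : residue S (algebraMap T S y) = 0 := by
      have : ρ₁ (algebraMap T E y) = residue S (ψ (algebraMap T E y)) := rfl
      rw [this, hψ] at h0; exact h0
    rw [residue_eq_zero_iff] at h1
    exact h1 (IsLocalization.map_units (M := q.primeCompl) S y)
  let σ₁ : T →+* Rb := σ₀.toRingHom.comp (algebraMap T E)
  let σ : S →+* Rb := IsLocalization.lift (M := q.primeCompl) (g := σ₁) hunits
  have hσT : ∀ y : T, σ (algebraMap T S y) = σ₀ (algebraMap T E y) :=
    fun y => IsLocalization.lift_eq _ _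
  have hσR : ∀ r : R, σ (algebraMap R S r) = Ideal.Quotient.mk _ r := by
    intro r
    rw [IsScalarTower.algebraMap_apply R T S, hσT, ← IsScalarTower.algebraMap_apply R T E,
      σ₀.commutes]
    rfl
  have hσψ : ∀ e : E, σ (ψ e) = σ₀ e := by
    have : (σ.comp ψ.toRingHom) = σ₀.toRingHom := by
      apply IsLocalization.ringHom_ext (Submonoid.powers f)
      ext y
      simp only [RingHom.comp_apply]
      change σ (ψ (algebraMap T E y)) = σ₀ (algebraMap T E y)
      rw [hψ, hσT]
    intro e; exact congrArg (fun g => g e) this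
  set J := (Ideal.span {t}).map (algebraMap R S) with hJ
  have hJker : J ≤ RingHom.ker σ := by
    rw [hJ, Ideal.map_le_iff_le_comap, Ideal.span_singleton_le_iff_mem, Ideal.mem_comap,
      RingHom.mem_ker, hσR]
    exact Ideal.Quotient.eq_zero_iff_mem.mpr (Ideal.mem_span_singleton_self t)
  refine ⟨t, htm, inf_top_eq _, ?_, ?_⟩
  · apply le_antisymm
    · intro r hr
      have : σ (algebraMap R S r) = 0 := hJker hr
      rw [hσR] at this
      exact Ideal.Quotient.eq_zero_iff_mem.mp this
    · exact Ideal.le_comap_map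
  · intro z
    obtain ⟨s, rfl⟩ := Ideal.Quotient.mk_surjective z
    obtain ⟨r, hr⟩ := Ideal.Quotient.mk_surjective (σ s)
    refine ⟨r, ?_⟩
    let Q : Rb →ₐ[R] S ⧸ J := Ideal.quotientMapₐ J (Algebra.ofId R S) Ideal.le_comap_map
    have hQ : ∀ r', Q (Ideal.Quotient.mk _ r') = Ideal.Quotient.mk J (algebraMap R S r') :=
      fun r' => rfl
    let θ₁ : E →ₐ[R] S ⧸ J := (Ideal.Quotient.mkₐ R J).comp ψR
    let θ₂ : E →ₐ[R] S ⧸ J := Q.comp σ₀
    have hθ : θ₁ = θ₂ := by
      apply PP.hom_ext
      change Ideal.Quotient.mk J xS = Q (σ₀ x)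
      rw [hσ₀x, hQ, eq_comm, Ideal.Quotient.eq]
      exact hdt
    have hφ : (Ideal.Quotient.mk J : S →+* S ⧸ J) = Q.toRingHom.comp σ := by
      apply IsLocalization.ringHom_ext q.primeCompl
      ext y
      simp only [RingHom.comp_apply]
      have h1 : Ideal.Quotient.mk J (algebraMap T S y) = θ₁ (algebraMap T E y) := by
        change _ = Ideal.Quotient.mk J (ψ (algebraMap T E y))
        rw [hψ]
      have h2 : Q.toRingHom (σ (algebraMap T S y)) = θ₂ (algebraMap T E y) := by
        rw [hσT]; rfl
      rw [h1, h2, hθ]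
    have : Ideal.Quotient.mk J s = Q (σ s) := congrArg (fun g => g s) hφ
    rw [this, ← hr, hQ]
    rfl


theorem main (R : Type u) [CommRing R] [IsLocalRing R] (T : Type u) [CommRing T] [Algebra R T]
    [Algebra.Etale R T] (q : Ideal T) [q.IsPrime] (S : Type u) [CommRing S] [IsLocalRing S]
    [Algebra T S] [IsLocalization.AtPrime S q] [Algebra R S] [IsScalarTower R T S]
    [IsLocalHom (algebraMap R S)]
    (hres : Function.Bijective (IsLocalRing.ResidueField.map (algebraMap R S))) :
    ∃ t ∈ IsLocalRing.maximalIdeal R, ∀ n : ℕ, 1 ≤ n →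
      Function.Bijective (Ideal.quotientMap ((Ideal.span {t ^ n}).map (algebraMap R S))
        (algebraMap R S) Ideal.le_comap_map) := by
  obtain ⟨t, htm, -, hcomap, hsurj⟩ := exists_t R T q S hres.2
  refine ⟨t, htm, fun n _ => ?_⟩
  haveI : Algebra.FormallyEtale T S := Algebra.FormallyEtale.of_isLocalization q.primeCompl
  haveI : Algebra.FormallyEtale R S := Algebra.FormallyEtale.comp R T S
  have h := Groth.Agent.S9428.result R S ((Ideal.span {t}).map (algebraMap R S)) hsurj n
  refine bij_transfer (algebraMap R S) _ _ _ _ ?_ ?_ _ _ h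
  · rw [hcomap, Ideal.span_singleton_pow]
  · rw [← Ideal.map_pow, Ideal.span_singleton_pow]

end Groth.Agent.Lib.Helper18EtaleLocalT
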