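import Mathlib
import Groth.Agent.Lib.Helper18DirImgQC
import Groth.Agent.Lib.Helper18DirImgColim
import Groth.Agent.Lib.Helper23FinTypeLocal
import Groth.Agent.Lib.Helper23FinType2
import Groth.Agent.Lib.Helper18OmLS10

set_option autoImplicit false
set_option linter.style.haveILetI false
set_option linter.unusedSectionVars false
universe u
open CategoryTheory CategoryTheory.Limits AlgebraicGeometry Opposite TopologicalSpace

namespace Groth.Agent.Lib.Helper18.EvEpi

open Groth.Agent.Lib.Helper18.DirImgColim Groth.Agent.Lib.Helper23.FinType Groth.Agent.Helper18OmLS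

variable {X : Scheme.{u}} {J : Type u} [SmallCategory J] [IsFiltered J] (D : J ⥤ X.Modules)
  (c : Cocone D) (F : X.Modules) (u : c.pt ⟶ F)

/-- the section `s` of `F` over `U` is hit from the stage `j` -/
def Hit (j : J) (U : X.Opens) (s : F.val.obj (op U)) : Prop :=
  ∃ y : (D.obj j).val.obj (op U), (u.val.app (op U)).hom (((c.ι.app j).val.app (op U)).hom y) = s

lemma Hit.mono {j j' : J} (a : j ⟶ j') {U : X.Opens} {s : F.val.obj (op U)} (h : Hit D c F u j U s) :
    Hit D c F u j' U s := by
  obtain ⟨y, hy⟩ := h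
  refine ⟨((D.map a).val.app (op U)).hom y, ?_⟩
  have h2 := c.w a
  have h3 := congrArg (fun φ : D.obj j ⟶ c.pt => (φ.val.app (op U)).hom y) h2
  refine Eq.trans ?_ hy
  exact congrArg _ h3

lemma exists_hit_finset {α : Type*} (T : Finset α) (U : α → X.Opens) (s : ∀ a, F.val.obj (op (U a)))
    (h : ∀ a ∈ T, ∃ j, Hit D c F u j (U a) (s a)) :
    ∃ j₀, ∀ a ∈ T, Hit D c F u j₀ (U a) (s a) := by
  classical
  induction T using Finset.induction_on with
  | empty => exact ⟨IsFiltered.nonempty.some, fun a ha => absurd ha (Finset.notMem_empty a)⟩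
  | insert b T hb ih =>
    obtain ⟨j₁, hj₁⟩ := ih fun a ha => h a (Finset.mem_insert_of_mem ha)
    obtain ⟨j₂, hj₂⟩ := h b (Finset.mem_insert_self b T)
    refine ⟨IsFiltered.max j₁ j₂, fun a ha => ?_⟩
    rcases Finset.mem_insert.1 ha with rfl | ha
    · exact hj₂.mono D c F u (IsFiltered.rightToMax j₁ j₂)
    · exact (hj₁ a ha).mono D c F u (IsFiltered.leftToMax j₁ j₂)

end Groth.Agent.Lib.Helper18.EvEpi
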