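import Mathlib
import Groth.Agent.Lib.Helper18EvEpi1

set_option autoImplicit false
set_option linter.style.haveILetI false
set_option linter.unusedSectionVars false
universe u
open CategoryTheory CategoryTheory.Limits AlgebraicGeometry Opposite TopologicalSpace

namespace Groth.Agent.Lib.Helper18.EvEpi

open Groth.Agent.Lib.Helper18.DirImgColim Groth.Agent.Lib.Helper23.FinType Groth.Agent.Helper18OmLS

variable {X : Scheme.{u}} {J : Type u} [SmallCategory J] [IsFiltered J] (D : J ⥤ X.Modules)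
  (c : Cocone D) (F : X.Modules) (u : c.pt ⟶ F)

theorem epi_iff_eventually_epi [CompactSpace X] [∀ j, (D.obj j).IsQuasicoherent] (hc : IsColimit c)
    [c.pt.IsQuasicoherent] [F.IsQuasicoherent]
    (hF : SheafOfModules.IsFiniteType (R := X.ringCatSheaf) F) :
    Epi u ↔ ∃ j₀ : J, ∀ j : J, Nonempty (j₀ ⟶ j) → Epi (c.ι.app j ≫ u) := by
  classical
  constructor
  · intro hu
    let 𝒰 := X.affineCover.finiteSubcover
    let V : 𝒰.I₀ → X.Opens := fun i => (𝒰.f i).opensRange
    have hVa : ∀ i, IsAffineOpen (V i) := fun i => isAffineOpen_opensRange (𝒰.f i)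
    have hV : IsOpenCover V := 𝒰.iSup_opensRange
    have hfin : ∀ i, Module.Finite Γ(X, V i) Γ(F, V i) := fun i => finite_of_isFiniteType F (hVa i)
    choose S hS using fun i => (Module.finite_def.1 (hfin i))
    let α := Σ i : 𝒰.I₀, {s // s ∈ S i}
    have key : ∀ a : α, ∃ j, Hit D c F u j (V a.1) a.2.1 := by
      rintro ⟨i, s, hs⟩
      obtain ⟨g, hg⟩ := surjective_app_of_epi u (hVa i) s
      obtain ⟨j, y, hy⟩ := colim_surj (T := X.carrier) (R := X.ringCatSheaf) D (V i)
        (qc2_of_isAffineOpen _ (hVa i)) c hc g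
      refine ⟨j, y, ?_⟩
      rw [hy]
      exact hg
    obtain ⟨j₀, hj₀⟩ := exists_hit_finset D c F u (Finset.univ : Finset α) (fun a => V a.1)
      (fun a => a.2.1) (fun a _ => key a)
    refine ⟨j₀, fun j ⟨a⟩ => ?_⟩
    apply epi_of_surjective_app_cover (c.ι.app j ≫ u) V hV hVa
    intro i
    have hrange : LinearMap.range ((c.ι.app j ≫ u).val.app (op (V i))).hom = ⊤ := by
      refine eq_top_iff.2 (le_trans (hS i).ge ?_)
      refine Submodule.span_le.2 ?_
      intro s hs
      obtain ⟨y, hy⟩ := (hj₀ ⟨i, s, hs⟩ (Finset.mem_univ _)).mono D c F u a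
      exact ⟨y, hy⟩
    intro t
    obtain ⟨y, hy⟩ := LinearMap.range_eq_top.1 hrange t
    exact ⟨y, hy⟩
  · rintro ⟨j₀, h⟩
    haveI := h j₀ ⟨𝟙 _⟩
    exact epi_of_epi (c.ι.app j₀) u

end Groth.Agent.Lib.Helper18.EvEpi
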