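import Mathlib

set_option linter.style.haveILetI false

namespace Groth.Agent.Helper18Ext4

open ExteriorAlgebra

section General

variable {k : Type*} [Field k] {M : Type*} [AddCommGroup M] [Module k M]

/-- The linear functional on the exterior algebra associated with a linear map to `k⁴`
(the determinant form in degree 4, zero in other degrees). -/
noncomputable def detForm (φ : M →ₗ[k] (Fin 4 → k)) : ExteriorAlgebra k M →ₗ[k] k :=
  liftAlternating (fun n => if h : n = 4 then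
    h ▸ ((Matrix.detRowAlternating (R := k) (n := Fin 4)).compLinearMap φ) else 0)

theorem detForm_apply (φ : M →ₗ[k] (Fin 4 → k)) (v₁ v₂ v₃ v₄ : M) :
    detForm φ (ι k v₁ * ι k v₂ * ι k v₃ * ι k v₄) =
      Matrix.det (Matrix.of ![φ v₁, φ v₂, φ v₃, φ v₄]) := by
  have h : ι k v₁ * ι k v₂ * ι k v₃ * ι k v₄ = ιMulti k 4 ![v₁, v₂, v₃, v₄] := by
    rw [ιMulti_apply]
    simp [List.ofFn_succ, mul_assoc]
  rw [h, detForm, liftAlternating_apply_ιMulti]
  simp only [dif_pos]
  change Matrix.det (Matrix.of fun i => φ (![v₁, v₂, v₃, v₄] i)) = _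
  congr 2
  ext i j
  fin_cases i <;> rfl

theorem det_block (x y u v : k) :
    Matrix.det (Matrix.of ![![x, 0, y, 0], ![0, x, 0, y], ![u, 0, v, 0], ![0, u, 0, v]]) =
      (x * v - y * u) ^ 2 := by
  have h1 : Fin.succAbove (2 : Fin 4) (2 : Fin 3) = 3 := by decide
  simp [Matrix.det_succ_row_zero, Fin.sum_univ_succ, h1]
  ring

/-- In a ring, if four elements pairwise anticommute then `c * d * a * b = a * b * c * d`. -/
theorem anticomm_swap {R : Type*} [Ring R] (a b c d : R) (hca : c * a = -(a * c))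
    (hda : d * a = -(a * d)) (hcb : c * b = -(b * c)) (hdb : d * b = -(b * d)) :
    c * d * a * b = a * b * c * d := by
  calc c * d * a * b = c * (d * a) * b := by noncomm_ring
    _ = c * (-(a * d)) * b := by rw [hda]
    _ = -((c * a) * (d * b)) := by noncomm_ring
    _ = -((-(a * c)) * (-(b * d))) := by rw [hca, hdb]
    _ = -(a * (c * b) * d) := by noncomm_ring
    _ = -(a * (-(b * c)) * d) := by rw [hcb]
    _ = a * b * c * d := by noncomm_ring

theorem ι_anticomm (x y : M) : ι k x * ι k y = -(ι k y * ι k x) :=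
  eq_neg_of_add_eq_zero_left (ι_add_mul_swap x y)

end General

section Specific

variable {k : Type*} [Field k]

abbrev F (k : Type*) := Fin 2 → Fin 4 → Fin 4 → k

/-- integer-valued triangle function -/
def tri (i j l a b : Fin 4) : ℤ :=
  ((if a = i ∧ b = j then 1 else 0) + (if a = j ∧ b = l then 1 else 0) + (if a = l ∧ b = i then 1 else 0)
    - (if a = j ∧ b = i then 1 else 0) - (if a = l ∧ b = j then 1 else 0) - (if a = i ∧ b = l then 1 else 0))

variable (P : Equiv.Perm (Fin 4) → (F k →ₗ[k] F k))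
    (hP : ∀ (σ : Equiv.Perm (Fin 4)) (f : F k) (c : Fin 2) (a b : Fin 4),
      P σ f c a b = f c (σ.symm a) (σ.symm b))
    (z : Fin 2 → Fin 4 → Fin 4 → Fin 4 → F k)
    (hz : ∀ (c : Fin 2) (i j l : Fin 4) (c' : Fin 2) (a b : Fin 4), z c i j l c' a b =
      if c' = c then
        ((if a = i ∧ b = j then 1 else 0) + (if a = j ∧ b = l then 1 else 0) + (if a = l ∧ b = i then 1 else 0)
          - (if a = j ∧ b = i then 1 else 0) - (if a = l ∧ b = j then 1 else 0) - (if a = i ∧ b = l then 1 else 0))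
      else 0)

include hz in
theorem z_eq_tri (c : Fin 2) (i j l : Fin 4) (c' : Fin 2) (a b : Fin 4) :
    z c i j l c' a b = if c' = c then ((tri i j l a b : ℤ) : k) else 0 := by
  rw [hz]
  by_cases h : c' = c
  · rw [if_pos h, if_pos h]
    simp only [tri]
    push_cast
    rfl
  · rw [if_neg h, if_neg h]

include hP hz in
theorem P_z (σ : Equiv.Perm (Fin 4)) (c : Fin 2) (i j l : Fin 4) :
    P σ (z c i j l) = z c (σ i) (σ j) (σ l) := by
  funext c' a b
  rw [hP, hz, hz]
  simp only [Equiv.symm_apply_eq]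

include hz in
theorem z_rev (c : Fin 2) (i j l : Fin 4) : z c l j i = - z c i j l := by
  funext c' a b
  simp only [Pi.neg_apply]
  rw [hz, hz]
  split_ifs <;> ring

include hz in
theorem z_rev' (c : Fin 2) (i j l : Fin 4) : z c i l j = - z c i j l := by
  funext c' a b
  simp only [Pi.neg_apply]
  rw [hz, hz]
  split_ifs <;> ring


include hz in
theorem z_rev'' (c : Fin 2) (i j l : Fin 4) : z c j i l = - z c i j l := by
  funext c' a b
  simp only [Pi.neg_apply]
  rw [hz, hz]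
  split_ifs <;> ring

/-- the four coordinate functionals -/
def phi (k : Type*) [Field k] : F k →ₗ[k] (Fin 4 → k) where
  toFun f := ![f 0 0 1, f 1 0 1, f 0 2 3, f 1 2 3]
  map_add' f g := by ext i; fin_cases i <;> rfl
  map_smul' c f := by ext i; fin_cases i <;> rfl

/-- the integer 2x2 determinant attached to a permutation -/
def dI (σ : Equiv.Perm (Fin 4)) : ℤ :=
  tri (σ 0) (σ 1) (σ 2) 0 1 * tri (σ 0) (σ 2) (σ 3) 2 3 -
    tri (σ 0) (σ 1) (σ 2) 2 3 * tri (σ 0) (σ 2) (σ 3) 0 1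

include hP hz in
theorem map_omega (σ : Equiv.Perm (Fin 4)) :
    ExteriorAlgebra.map (P σ) (ι k (z 0 0 1 2) * ι k (z 1 0 1 2) * ι k (z 0 0 2 3) * ι k (z 1 0 2 3)) =
      ι k (z 0 (σ 0) (σ 1) (σ 2)) * ι k (z 1 (σ 0) (σ 1) (σ 2)) *
        ι k (z 0 (σ 0) (σ 2) (σ 3)) * ι k (z 1 (σ 0) (σ 2) (σ 3)) := by
  simp only [map_mul, ExteriorAlgebra.map_apply_ι, P_z P hP z hz]

include hz in
theorem phi_z0 (i j l : Fin 4) :
    phi k (z 0 i j l) = ![((tri i j l 0 1 : ℤ) : k), 0, ((tri i j l 2 3 : ℤ) : k), 0] := by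
  ext m
  fin_cases m <;> simp [phi, z_eq_tri z hz]

include hz in
theorem phi_z1 (i j l : Fin 4) :
    phi k (z 1 i j l) = ![0, ((tri i j l 0 1 : ℤ) : k), 0, ((tri i j l 2 3 : ℤ) : k)] := by
  ext m
  fin_cases m <;> simp [phi, z_eq_tri z hz]

include hP hz in
theorem detForm_map_omega (σ : Equiv.Perm (Fin 4)) :
    detForm (phi k) (ExteriorAlgebra.map (P σ)
      (ι k (z 0 0 1 2) * ι k (z 1 0 1 2) * ι k (z 0 0 2 3) * ι k (z 1 0 2 3))) =
      (((dI σ) ^ 2 : ℤ) : k) := by
  rw [map_omega P hP z hz, detForm_apply, phi_z0 z hz, phi_z1 z hz, phi_z0 z hz, phi_z1 z hz,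
    det_block, dI]
  push_cast
  ring

include hP hz in
theorem main [CharZero k] (ω : ExteriorAlgebra k (F k))
    (hω : ω = ι k (z 0 0 1 2) * ι k (z 1 0 1 2) * ι k (z 0 0 2 3) * ι k (z 1 0 2 3)) :
    ExteriorAlgebra.map (P (Equiv.swap 0 2)) ω = ω ∧
    ExteriorAlgebra.map (P (Equiv.swap 1 3)) ω = ω ∧
    (∑ σ : Equiv.Perm (Fin 4), ExteriorAlgebra.map (P σ) ω) ≠ 0 := by
  subst hω
  refine ⟨?_, ?_, ?_⟩
  · rw [map_omega P hP z hz]
    have e0 : (Equiv.swap (0 : Fin 4) 2) 0 = 2 := by decide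
    have e1 : (Equiv.swap (0 : Fin 4) 2) 1 = 1 := by decide
    have e2 : (Equiv.swap (0 : Fin 4) 2) 2 = 0 := by decide
    have e3 : (Equiv.swap (0 : Fin 4) 2) 3 = 3 := by decide
    rw [e0, e1, e2, e3, z_rev z hz 0 0 1 2, z_rev z hz 1 0 1 2, z_rev'' z hz 0 0 2 3,
      z_rev'' z hz 1 0 2 3]
    simp only [map_neg, neg_mul, mul_neg, neg_neg]
  · rw [map_omega P hP z hz]
    have e0 : (Equiv.swap (1 : Fin 4) 3) 0 = 0 := by decide
    have e1 : (Equiv.swap (1 : Fin 4) 3) 1 = 3 := by decide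
    have e2 : (Equiv.swap (1 : Fin 4) 3) 2 = 2 := by decide
    have e3 : (Equiv.swap (1 : Fin 4) 3) 3 = 1 := by decide
    rw [e0, e1, e2, e3, z_rev' z hz 0 0 2 3, z_rev' z hz 1 0 2 3, z_rev' z hz 0 0 1 2,
      z_rev' z hz 1 0 1 2]
    simp only [map_neg, neg_mul, mul_neg, neg_neg]
    exact anticomm_swap _ _ _ _ (ι_anticomm _ _) (ι_anticomm _ _) (ι_anticomm _ _) (ι_anticomm _ _)
  · intro h0
    have h1 := congrArg (detForm (phi k)) h0
    rw [map_sum, map_zero] at h1
    simp only [detForm_map_omega P hP z hz] at h1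
    rw [← Int.cast_sum] at h1
    have h2 : (∑ σ : Equiv.Perm (Fin 4), (dI σ) ^ 2) = 0 := by exact_mod_cast h1
    have h3 : 0 < ∑ σ : Equiv.Perm (Fin 4), (dI σ) ^ 2 := by
      refine Finset.sum_pos' (fun σ _ => sq_nonneg _) ⟨1, Finset.mem_univ _, ?_⟩
      decide
    omega

end Specific

end Groth.Agent.Helper18Ext4
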