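import Mathlib

set_option autoImplicit false
set_option linter.style.haveILetI false
namespace Groth.Agent.Lib.Helper18FEtAlg

universe u

section Ann

variable {A : Type*} [CommRing A]

/-- two idempotents generating the same ideal are equal -/
theorem idem_unique {e e' : A} (he : IsIdempotentElem e) (he' : IsIdempotentElem e')
    (h : Ideal.span {e} = Ideal.span {e'}) : e = e' := by
  have h1 : e ∈ Ideal.span {e'} := h ▸ Ideal.subset_span rfl
  have h2 : e' ∈ Ideal.span {e} := h.symm ▸ Ideal.subset_span rfl
  obtain ⟨a, ha⟩ := Ideal.mem_span_singleton'.1 h1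
  obtain ⟨b, hb⟩ := Ideal.mem_span_singleton'.1 h2
  have e1 : e * e' = e := by
    rw [← ha, mul_assoc, he'.eq]
  have e2 : e' * e = e' := by
    rw [← hb, mul_assoc, he.eq]
  rw [← e1, mul_comm, e2]

/-- The annihilator of a finitely generated projective module is generated by an idempotent. -/
theorem exists_idem_annihilator (P : Type*) [AddCommGroup P] [Module A P] [Module.Finite A P]
    [Module.Projective A P] :
    ∃ e : A, IsIdempotentElem e ∧ Module.annihilator A P = Ideal.span {e} := by
  classical
  obtain ⟨n, f, g, hf, hg, hfg⟩ := Module.Finite.exists_comp_eq_id_of_projective A P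
  -- the idempotent matrix
  let E : Fin n → Fin n → A := fun i j => g (f (Pi.single j 1)) i
  let T : Ideal A := Ideal.span (Set.range fun ij : Fin n × Fin n => E ij.1 ij.2)
  have hTfg : T.FG := by
    refine ⟨Finset.univ.image fun ij : Fin n × Fin n => E ij.1 ij.2, ?_⟩
    simp [T]
  have hgf : ∀ x : Fin n → A, g (f x) = fun i => ∑ j, x j * E i j := by
    intro x
    have hx : x = ∑ j, x j • (Pi.single j (1 : A) : Fin n → A) := by
      ext i
      simp [Finset.sum_apply, Pi.single_apply]
    conv_lhs => rw [hx]
    rw [map_sum, map_sum]
    ext i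
    simp [Finset.sum_apply, E]
  have hEE : ∀ i j, E i j = ∑ k, E k j * E i k := by
    intro i j
    have h1 : g (f (g (f (Pi.single j 1)))) = g (f (Pi.single j 1)) := by
      have := LinearMap.congr_fun hfg (f (Pi.single j 1))
      simp only [LinearMap.comp_apply, LinearMap.id_apply] at this
      rw [this]
    have h2 := congrFun (hgf (g (f (Pi.single j 1)))) i
    rw [h1] at h2
    exact h2
  have hTT : IsIdempotentElem T := by
    apply le_antisymm
    · exact Ideal.mul_le_left
    · apply Ideal.span_le.2
      rintro _ ⟨⟨i, j⟩, rfl⟩
      change E i j ∈ T * T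
      rw [hEE i j]
      refine Ideal.sum_mem _ fun k _ => Ideal.mul_mem_mul ?_ ?_
      · exact Ideal.subset_span ⟨(k, j), rfl⟩
      · exact Ideal.subset_span ⟨(i, k), rfl⟩
  obtain ⟨e', he', hTe'⟩ := (Ideal.isIdempotentElem_iff_of_fg T hTfg).1 hTT
  refine ⟨1 - e', he'.one_sub, ?_⟩
  have hann : ∀ a : A, a ∈ Module.annihilator A P ↔ ∀ i j, a * E i j = 0 := by
    intro a
    rw [Module.mem_annihilator]
    constructor
    · intro h i j
      have : a • f (Pi.single j 1) = 0 := h _
      have h3 := congrArg g this
      rw [map_smul, map_zero] at h3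
      exact congrFun h3 i
    · intro h p
      obtain ⟨x, rfl⟩ := hf p
      apply hg
      rw [map_smul, map_zero, hgf]
      ext i
      simp only [Pi.smul_apply, smul_eq_mul, Pi.zero_apply, Finset.mul_sum]
      refine Finset.sum_eq_zero fun j _ => ?_
      rw [mul_left_comm, h i j, mul_zero]
  ext a
  rw [hann, Ideal.mem_span_singleton']
  constructor
  · intro h
    have hae : a * e' = 0 := by
      have he'T : e' ∈ T := by rw [hTe']; exact Ideal.subset_span rfl
      have : ∀ t ∈ T, a * t = 0 := by
        intro t ht
        refine Submodule.span_induction ?_ ?_ ?_ ?_ ht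
        · rintro _ ⟨⟨i, j⟩, rfl⟩; exact h i j
        · simp
        · intro x y _ _ hx hy; rw [mul_add, hx, hy, add_zero]
        · intro c x _ hx; rw [smul_eq_mul, mul_left_comm, hx, mul_zero]
      exact this _ he'T
    exact ⟨a, by rw [mul_sub, mul_one, hae, sub_zero]⟩
  · rintro ⟨b, rfl⟩ i j
    have hET : E i j ∈ T := Ideal.subset_span ⟨(i, j), rfl⟩
    rw [hTe'] at hET
    obtain ⟨c, hc⟩ := Ideal.mem_span_singleton'.1 hET
    rw [← hc]
    have : (1 - e') * e' = 0 := by rw [sub_mul, one_mul, he'.eq, sub_self]
    calc b * (1 - e') * (c * e') = b * c * ((1 - e') * e') := by ring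
      _ = 0 := by rw [this, mul_zero]

end Ann

section KerIdem

variable (R : Type u) {A B : Type u} [CommRing R] [CommRing A] [CommRing B] [Algebra R A]
  [Algebra R B]

/-- The kernel of a map between étale algebras, the target being finite, is generated by an
idempotent. -/
theorem exists_idem_ker [Algebra.Etale R A] [Algebra.Etale R B] [Module.Finite R B]
    (f : A →ₐ[R] B) : ∃ e : A, IsIdempotentElem e ∧ RingHom.ker f = Ideal.span {e} := by
  letI : Algebra A B := f.toRingHom.toAlgebra
  haveI : IsScalarTower R A B := IsScalarTower.of_algebraMap_eq fun r => (f.commutes r).symm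
  haveI : Module.Finite A B := Module.Finite.of_restrictScalars_finite R A B
  haveI : Module.FinitePresentation R B := Module.FinitePresentation.of_finite_of_finitePresentation R B
  haveI : Module.Projective R B := Module.Flat.projective_of_finitePresentation
  haveI : Module.Projective A B := Algebra.FormallyUnramified.projective_of_restrictScalars R A B
  obtain ⟨e, he, hann⟩ := exists_idem_annihilator (A := A) B
  refine ⟨e, he, ?_⟩
  rw [← hann]
  ext a
  rw [RingHom.mem_ker, Module.mem_annihilator]
  constructor
  · intro h b
    rw [Algebra.smul_def]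
    change f a * b = 0
    rw [h, zero_mul]
  · intro h
    have := h 1
    rw [Algebra.smul_def, mul_one] at this
    exact this

/-- Quotient by an idempotent is étale. -/
theorem etale_quot_idem {e : A} (he : IsIdempotentElem e) :
    Algebra.Etale A (A ⧸ Ideal.span {e}) := by
  have h1 := IsLocalization.Away.quotient_of_isIdempotentElem he.one_sub
  rw [sub_sub_cancel] at h1
  exact Algebra.Etale.of_isLocalizationAway (1 - e)

end KerIdem

section BC
open TensorProduct

theorem mem_span_of_ker {R S : Type u} [CommRing R] [CommRing S] [Algebra R S] [Module.Flat R S]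
    {M N M' N' : Type u} [AddCommGroup M] [AddCommGroup N] [AddCommGroup M'] [AddCommGroup N']
    [Module R M] [Module R N] [Module R M'] [Module S M'] [IsScalarTower R S M']
    [Module R N'] [Module S N'] [IsScalarTower R S N']
    (α : M →ₗ[R] M') (β : N →ₗ[R] N') (hα : IsBaseChange S α) (hβ : IsBaseChange S β)
    (φ : M →ₗ[R] N) (φ' : M' →ₗ[S] N') (comm : ∀ m, φ' (α m) = β (φ m))
    (x : M') (hx : φ' x = 0) : x ∈ Submodule.span S (α '' (LinearMap.ker φ : Set M)) := by
  have hcomp : hβ.equiv.toLinearMap ∘ₗ (TensorProduct.AlgebraTensorModule.lTensor S S φ) =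
      φ' ∘ₗ hα.equiv.toLinearMap := by
    apply TensorProduct.AlgebraTensorModule.ext
    intro s m
    simp [IsBaseChange.equiv_tmul, comm]
  set t := hα.equiv.symm x with ht
  have hxt : hα.equiv t = x := by simp [ht]
  have h0 : TensorProduct.AlgebraTensorModule.lTensor S S φ t = 0 := by
    apply hβ.equiv.injective
    have := LinearMap.congr_fun hcomp t
    simp only [LinearMap.comp_apply, LinearEquiv.coe_coe] at this
    rw [this, hxt, hx, map_zero]
  have h1 : t ∈ LinearMap.ker (TensorProduct.AlgebraTensorModule.lTensor S S φ) := h0
  rw [Module.Flat.ker_lTensor_eq] at h1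
  obtain ⟨t', ht'⟩ := h1
  rw [← hxt, ← ht']
  clear ht'
  induction t' using TensorProduct.induction_on with
  | zero => simp
  | tmul s k =>
    simp only [TensorProduct.AlgebraTensorModule.lTensor_tmul, Submodule.subtype_apply,
      IsBaseChange.equiv_tmul]
    exact Submodule.smul_mem _ _ (Submodule.subset_span ⟨k.1, k.2, rfl⟩)
  | add a b ha hb =>
    rw [map_add, map_add]
    exact Submodule.add_mem _ ha hb

end BC

section ProdEtale

variable (R A B : Type u) [CommRing R] [CommRing A] [CommRing B] [Algebra R A] [Algebra R B]

/-- the two-element family -/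
def Fam : Bool → Type u := fun b => cond b A B

instance (b : Bool) : CommRing (Fam A B b) := by
  cases b
  · exact (inferInstance : CommRing B)
  · exact (inferInstance : CommRing A)

instance (b : Bool) : Algebra R (Fam A B b) := by
  cases b
  · exact (inferInstance : Algebra R B)
  · exact (inferInstance : Algebra R A)

def famEquiv : (A × B) ≃ₐ[R] (∀ b, Fam A B b) where
  toFun x := fun b => match b with
    | true => x.1
    | false => x.2
  invFun g := (g true, g false)
  left_inv x := rfl
  right_inv g := by funext b; cases b <;> rfl
  map_mul' x y := by funext b; cases b <;> rfl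
  map_add' x y := by funext b; cases b <;> rfl
  commutes' r := by funext b; cases b <;> rfl

theorem etale_prod [Algebra.Etale R A] [Algebra.Etale R B] : Algebra.Etale R (A × B) := by
  haveI : ∀ b, Algebra.Etale R (Fam A B b) := by
    intro b
    cases b
    · exact (inferInstance : Algebra.Etale R B)
    · exact (inferInstance : Algebra.Etale R A)
  exact Algebra.Etale.of_equiv (famEquiv R A B).symm

end ProdEtale

section Rank
open TensorProduct

theorem surjective_of_injective_of_rank (R : Type u) {A B : Type u} [CommRing R] [CommRing A]
    [CommRing B] [Algebra R A] [Algebra R B]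
    [Algebra.Etale R A] [Algebra.Etale R B] [Module.Finite R A] [Module.Finite R B]
    (f : A →ₐ[R] B) (hf : Function.Injective f)
    (hrank : ∀ P : PrimeSpectrum R, Module.rankAtStalk A P = Module.rankAtStalk B P) :
    Function.Surjective f := by
  letI : Algebra A B := f.toRingHom.toAlgebra
  haveI : IsScalarTower R A B := IsScalarTower.of_algebraMap_eq fun r => (f.commutes r).symm
  haveI : Module.Finite A B := Module.Finite.of_restrictScalars_finite R A B
  haveI : Module.FinitePresentation R B := Module.FinitePresentation.of_finite_of_finitePresentation R B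
  haveI : Module.FinitePresentation R A := Module.FinitePresentation.of_finite_of_finitePresentation R A
  haveI : Module.Projective R B := Module.Flat.projective_of_finitePresentation
  haveI : Module.Projective A B := Algebra.FormallyUnramified.projective_of_restrictScalars R A B
  haveI : Module.Flat A B := inferInstance
  have hinj : Function.Injective (algebraMap A B) := hf
  haveI : Module.FaithfullyFlat A B :=
    Module.FaithfullyFlat.of_comap_surjective
      (PrimeSpectrum.comap_surjective_iff_injective_of_finite.2 hinj)
  -- fibrewise surjectivity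
  have hfib : ∀ P : PrimeSpectrum R,
      Function.Surjective (f.toLinearMap.baseChange P.asIdeal.ResidueField) := by
    intro P
    set κ := P.asIdeal.ResidueField
    have hinj' : Function.Injective (f.toLinearMap.baseChange κ) := by
      have h1 : Function.Injective (TensorProduct.mk A B (A ⊗[R] κ) 1) :=
        Module.FaithfullyFlat.tensorProduct_mk_injective (A ⊗[R] κ)
      have h2 : ∀ x : A ⊗[R] κ, f.toLinearMap.rTensor κ x =
          (TensorProduct.AlgebraTensorModule.cancelBaseChange R A A B κ)
            (TensorProduct.mk A B (A ⊗[R] κ) 1 x) := by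
        intro x
        induction x using TensorProduct.induction_on with
        | zero => simp
        | tmul a k =>
          simp only [LinearMap.rTensor_tmul, AlgHom.toLinearMap_apply, TensorProduct.mk_apply,
            TensorProduct.AlgebraTensorModule.cancelBaseChange_tmul]
          rw [Algebra.smul_def, mul_one]
          rfl
        | add x y hx hy => rw [map_add, map_add, map_add, hx, hy]
      have h3 : Function.Injective (f.toLinearMap.rTensor κ) := by
        intro x y hxy
        rw [h2, h2] at hxy
        exact h1 ((TensorProduct.AlgebraTensorModule.cancelBaseChange R A A B κ).injective hxy)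
      have h4 : ∀ x : κ ⊗[R] A, f.toLinearMap.baseChange κ x =
          (TensorProduct.comm R B κ) (f.toLinearMap.rTensor κ ((TensorProduct.comm R κ A) x)) := by
        intro x
        induction x using TensorProduct.induction_on with
        | zero => simp
        | tmul k a => simp
        | add x y hx hy => rw [map_add, map_add, map_add, map_add, hx, hy]
      intro x y hxy
      rw [h4, h4] at hxy
      exact (TensorProduct.comm R κ A).injective (h3 ((TensorProduct.comm R B κ).injective hxy))
    have hdim : Module.finrank κ (κ ⊗[R] A) = Module.finrank κ (κ ⊗[R] B) := by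
      have h1 := Module.rankAtStalk_eq (M := A) P
      have h2 := Module.rankAtStalk_eq (M := B) P
      rw [hrank P] at h1
      exact h1.symm.trans h2
    exact (LinearMap.injective_iff_surjective_of_finrank_eq_finrank hdim).1 hinj'
  -- globalise
  let Q := B ⧸ LinearMap.range f.toLinearMap
  have hsupp : Module.support R Q = ∅ := by
    rw [Set.eq_empty_iff_forall_notMem]
    intro P hP
    rw [Module.mem_support_iff_nontrivial_residueField_tensorProduct] at hP
    set κ := P.asIdeal.ResidueField
    have : Subsingleton (κ ⊗[R] Q) := by
      refine ⟨fun a b => ?_⟩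
      have key : ∀ y : κ ⊗[R] Q, y = 0 := by
        intro y
        obtain ⟨x, rfl⟩ := LinearMap.lTensor_surjective κ
          (Submodule.mkQ_surjective (LinearMap.range f.toLinearMap)) y
        obtain ⟨w, rfl⟩ := hfib P x
        have : ∀ w : κ ⊗[R] A, (LinearMap.lTensor κ (LinearMap.range f.toLinearMap).mkQ)
            (f.toLinearMap.baseChange κ w) = 0 := by
          intro w
          induction w using TensorProduct.induction_on with
          | zero => simp
          | tmul k a =>
            simp only [LinearMap.baseChange_tmul, LinearMap.lTensor_tmul, Submodule.mkQ_apply]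
            have : Submodule.Quotient.mk (p := LinearMap.range f.toLinearMap) (f.toLinearMap a) = 0 :=
              (Submodule.Quotient.mk_eq_zero _).2 ⟨a, rfl⟩
            rw [this, TensorProduct.tmul_zero]
          | add x y hx hy => rw [map_add, map_add, hx, hy, add_zero]
        exact this w
      rw [key a, key b]
    exact not_nontrivial _ hP
  have hQ : Subsingleton Q := Module.support_eq_empty_iff.1 hsupp
  have hrange : LinearMap.range f.toLinearMap = ⊤ := Submodule.Quotient.subsingleton_iff.1 hQ
  intro b
  have : b ∈ LinearMap.range f.toLinearMap := by rw [hrange]; trivial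
  exact this

end Rank

section Fibre
open TensorProduct

theorem idem_trivial_of_connected {R : Type*} [CommRing R] [ConnectedSpace (PrimeSpectrum R)]
    {e : R} (he : IsIdempotentElem e) : e = 0 ∨ e = 1 := by
  have hcl : IsClopen (PrimeSpectrum.basicOpen e : Set (PrimeSpectrum R)) :=
    PrimeSpectrum.isClopen_iff.2 ⟨e, he, rfl⟩
  rcases isClopen_iff.1 hcl with h | h
  · left
    apply PrimeSpectrum.basicOpen_injOn_isIdempotentElem he IsIdempotentElem.zero
    apply TopologicalSpace.Opens.ext
    rw [h]
    simp
  · right
    apply PrimeSpectrum.basicOpen_injOn_isIdempotentElem he IsIdempotentElem.one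
    apply TopologicalSpace.Opens.ext
    rw [h]
    simp

theorem card_primeSpectrum_of_split (Ω E : Type*) [Field Ω] [CommRing E] [Algebra Ω E]
    [Algebra.IsFiniteSplit Ω E] : Nat.card (PrimeSpectrum E) = Module.finrank Ω E := by
  obtain ⟨n, ⟨e⟩⟩ := Algebra.IsFiniteSplit.nonempty_algEquiv_fun Ω E
  rw [e.toLinearEquiv.finrank_eq, Module.finrank_fin_fun]
  rw [Nat.card_congr (PrimeSpectrum.comapEquiv e.toRingEquiv).toEquiv]
  rw [← Nat.card_congr (Equiv.ofBijective _ (PrimeSpectrum.sigmaToPi_bijective (fun _ : Fin n => Ω)))]
  rw [Nat.card_sigma]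
  simp

/-- The number of points of the geometric fibre is the rank. -/
theorem card_fibre_eq_rank {R A Ω : Type u} [CommRing R] [CommRing A] [Algebra R A]
    [Field Ω] [IsAlgClosed Ω] [Algebra R Ω] [Module.Finite R A] [Algebra.Etale R A] :
    Nat.card (PrimeSpectrum (Ω ⊗[R] A)) =
      Module.rankAtStalk A (PrimeSpectrum.comap (algebraMap R Ω) ⟨⊥, Ideal.isPrime_bot⟩) := by
  haveI : Module.FinitePresentation R A := Module.FinitePresentation.of_finite_of_finitePresentation R A
  haveI : Module.Flat R A := inferInstance
  haveI : Algebra.IsFiniteSplit Ω (Ω ⊗[R] A) := inferInstance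
  rw [card_primeSpectrum_of_split Ω (Ω ⊗[R] A)]
  rw [← Module.rankAtStalk_baseChange (S := Ω)]
  rw [Module.rankAtStalk_eq_finrank_of_free]
  rfl

end Fibre

end Groth.Agent.Lib.Helper18FEtAlg
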