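import Mathlib
import Groth.Prelude.Def_SchFin2
import Groth.Agent.Lib.Helper18FEtAlg

set_option autoImplicit false
set_option linter.style.haveILetI false
namespace Groth.Agent.Lib.Helper18FEt

open SchFin TensorProduct CategoryTheory CategoryTheory.Limits Groth.Agent.Lib.Helper18FEtAlg

universe u

variable {X : RSpace.{u}}

/-- the quotient of an algebra by a compatible family of elements -/
noncomputable def quotAlg (A : Alg X) (e : ∀ p, A.carrier p)
    (he : ∀ {p q : X.pt} (h : p ≤ q), A.res h (e p) = e q) : Alg X where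
  carrier p := A.carrier p ⧸ Ideal.span {e p}
  res {p q} h := Ideal.quotientMap (Ideal.span {e q}) (A.res h) (by
    rw [Ideal.span_le]
    intro x hx
    rw [Set.mem_singleton_iff] at hx
    subst hx
    change A.res h (e p) ∈ Ideal.span {e q}
    rw [he h]
    exact Ideal.subset_span rfl)
  res_algebraMap {p q} h a := by
    change Ideal.quotientMap _ (A.res h) _ (Ideal.Quotient.mk _ (algebraMap _ _ a)) = _
    rw [Ideal.quotientMap_mk, A.res_algebraMap]
    rfl
  res_self p b := by
    obtain ⟨b, rfl⟩ := Ideal.Quotient.mk_surjective b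
    rw [Ideal.quotientMap_mk, A.res_self]
  res_comp {p q s} h h' b := by
    obtain ⟨b, rfl⟩ := Ideal.Quotient.mk_surjective b
    rw [Ideal.quotientMap_mk, Ideal.quotientMap_mk, Ideal.quotientMap_mk, A.res_comp]

theorem quotAlg_res_mk (A : Alg X) (e : ∀ p, A.carrier p)
    (he : ∀ {p q : X.pt} (h : p ≤ q), A.res h (e p) = e q) {p q : X.pt} (h : p ≤ q)
    (a : A.carrier p) :
    (quotAlg A e he).res h (Ideal.Quotient.mk _ a) = Ideal.Quotient.mk _ (A.res h a) := rfl

theorem quotAlg_isQcoh (A : Alg X) (e : ∀ p, A.carrier p)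
    (he : ∀ {p q : X.pt} (h : p ≤ q), A.res h (e p) = e q) (hA : A.IsQcoh) :
    (quotAlg A e he).IsQcoh := by
  intro p q h
  letI : Algebra (X.ring p) (X.ring q) := (X.res h).toAlgebra
  letI : Module (X.ring p) (A.carrier q) := Module.compHom _ (X.res h)
  haveI : IsScalarTower (X.ring p) (X.ring q) (A.carrier q) :=
    IsScalarTower.of_algebraMap_smul fun _ _ => rfl
  letI : Module (X.ring p) (A.carrier q ⧸ Ideal.span {e q}) := Module.compHom _ (X.res h)
  haveI : IsScalarTower (X.ring p) (X.ring q) (A.carrier q ⧸ Ideal.span {e q}) :=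
    IsScalarTower.of_algebraMap_smul fun _ _ => rfl
  let α : A.carrier p →ₗ[X.ring p] A.carrier q :=
    { toFun := A.res h, map_add' := map_add _,
      map_smul' := fun r a => (A.toMod.res h).map_smulₛₗ r a }
  let γ : (A.carrier p ⧸ Ideal.span {e p}) →ₗ[X.ring p] (A.carrier q ⧸ Ideal.span {e q}) :=
    { toFun := (quotAlg A e he).res h, map_add' := map_add _,
      map_smul' := fun r a => ((quotAlg A e he).toMod.res h).map_smulₛₗ r a }
  have hα : IsBaseChange (X.ring q) α := hA p q h
  suffices hγ : IsBaseChange (X.ring q) γ from hγ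
  let f : A.carrier p →ₗ[X.ring p] A.carrier p := LinearMap.mulLeft _ (e p)
  let f' : A.carrier q →ₗ[X.ring q] A.carrier q := LinearMap.mulLeft _ (e q)
  let g : A.carrier p →ₗ[X.ring p] (A.carrier p ⧸ Ideal.span {e p}) :=
    (Ideal.Quotient.mkₐ (X.ring p) (Ideal.span {e p})).toLinearMap
  let g' : A.carrier q →ₗ[X.ring q] (A.carrier q ⧸ Ideal.span {e q}) :=
    (Ideal.Quotient.mkₐ (X.ring q) (Ideal.span {e q})).toLinearMap
  refine IsBaseChange.of_right_exact (X.ring q) α α γ (f := f) (g := g) (f' := f') (g' := g')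
    ?_ ?_ hα hα ?_ ?_ ?_ ?_
  · ext a
    change A.res h (e p * a) = e q * A.res h a
    rw [map_mul, he h]
  · ext a
    rfl
  · intro a
    change Ideal.Quotient.mk _ a = 0 ↔ _
    rw [Ideal.Quotient.eq_zero_iff_mem, Ideal.mem_span_singleton']
    constructor
    · rintro ⟨b, rfl⟩; exact ⟨b, mul_comm _ _⟩
    · rintro ⟨b, rfl⟩; exact ⟨b, mul_comm _ _⟩
  · exact Ideal.Quotient.mk_surjective
  · intro a
    change Ideal.Quotient.mk _ a = 0 ↔ _
    rw [Ideal.Quotient.eq_zero_iff_mem, Ideal.mem_span_singleton']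
    constructor
    · rintro ⟨b, rfl⟩; exact ⟨b, mul_comm _ _⟩
    · rintro ⟨b, rfl⟩; exact ⟨b, mul_comm _ _⟩
  · exact Ideal.Quotient.mk_surjective

theorem quotAlg_isEtCover (A : Alg X) (e : ∀ p, A.carrier p)
    (he : ∀ {p q : X.pt} (h : p ≤ q), A.res h (e p) = e q) (hA : A.IsEtCover)
    (hid : ∀ p, IsIdempotentElem (e p)) :
    (quotAlg A e he).IsEtCover := by
  refine ⟨quotAlg_isQcoh A e he hA.1, fun p => ?_⟩
  haveI := (hA.2 p).1
  haveI := (hA.2 p).2
  constructor
  · change Module.Finite (X.ring p) (A.carrier p ⧸ Ideal.span {e p})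
    infer_instance
  · change Algebra.Etale (X.ring p) (A.carrier p ⧸ Ideal.span {e p})
    haveI := etale_quot_idem (hid p)
    exact Algebra.Etale.comp (X.ring p) (A.carrier p) _


/-- the quotient map as a morphism of algebras -/
noncomputable def quotAlg.π (A : Alg X) (e : ∀ p, A.carrier p)
    (he : ∀ {p q : X.pt} (h : p ≤ q), A.res h (e p) = e q) : A ⟶ quotAlg A e he :=
  ⟨fun p => Ideal.Quotient.mkₐ (X.ring p) (Ideal.span {e p}), fun _ _ => rfl⟩

/-- a morphism killing the family factors through the quotient -/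
noncomputable def quotAlg.lift (A : Alg X) (e : ∀ p, A.carrier p)
    (he : ∀ {p q : X.pt} (h : p ≤ q), A.res h (e p) = e q) {B : Alg X} (φ : A ⟶ B)
    (hφ : ∀ p, φ.app p (e p) = 0) : quotAlg A e he ⟶ B :=
  ⟨fun p => Ideal.Quotient.liftₐ (Ideal.span {e p}) (φ.app p) (by
      intro a ha
      obtain ⟨b, rfl⟩ := Ideal.mem_span_singleton'.1 ha
      rw [map_mul, hφ p, mul_zero]),
    fun {p q} h b => by
      obtain ⟨b, rfl⟩ := Ideal.Quotient.mk_surjective b
      exact φ.compat h b⟩

theorem quotAlg.lift_mk (A : Alg X) (e : ∀ p, A.carrier p)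
    (he : ∀ {p q : X.pt} (h : p ≤ q), A.res h (e p) = e q) {B : Alg X} (φ : A ⟶ B)
    (hφ : ∀ p, φ.app p (e p) = 0) (p : X.pt) (a : A.carrier p) :
    (quotAlg.lift A e he φ hφ).app p (Ideal.Quotient.mk _ a) = φ.app p a := rfl

theorem ker_eq_map (hflat : ∀ (p q : X.pt) (h : p ≤ q), (X.res h).Flat) {A B : Alg X}
    (hA : A.IsQcoh) (hB : B.IsQcoh) (φ : A ⟶ B) {p q : X.pt} (h : p ≤ q) :
    RingHom.ker (φ.app q) = Ideal.map (A.res h) (RingHom.ker (φ.app p)) := by
  apply le_antisymm
  · intro x hx
    letI : Algebra (X.ring p) (X.ring q) := (X.res h).toAlgebra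
    haveI : Module.Flat (X.ring p) (X.ring q) := hflat p q h
    letI : Module (X.ring p) (A.carrier q) := Module.compHom _ (X.res h)
    haveI : IsScalarTower (X.ring p) (X.ring q) (A.carrier q) :=
      IsScalarTower.of_algebraMap_smul fun _ _ => rfl
    letI : Module (X.ring p) (B.carrier q) := Module.compHom _ (X.res h)
    haveI : IsScalarTower (X.ring p) (X.ring q) (B.carrier q) :=
      IsScalarTower.of_algebraMap_smul fun _ _ => rfl
    let α : A.carrier p →ₗ[X.ring p] A.carrier q :=
      { toFun := A.res h, map_add' := map_add _,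
        map_smul' := fun r a => (A.toMod.res h).map_smulₛₗ r a }
    let β : B.carrier p →ₗ[X.ring p] B.carrier q :=
      { toFun := B.res h, map_add' := map_add _,
        map_smul' := fun r a => (B.toMod.res h).map_smulₛₗ r a }
    have hα : IsBaseChange (X.ring q) α := hA p q h
    have hβ : IsBaseChange (X.ring q) β := hB p q h
    have := mem_span_of_ker α β hα hβ (φ.app p).toLinearMap (φ.app q).toLinearMap
      (fun m => (φ.compat h m).symm) x hx
    refine Submodule.span_induction ?_ ?_ ?_ ?_ this
    · rintro _ ⟨k, hk, rfl⟩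
      exact Ideal.mem_map_of_mem _ hk
    · exact Ideal.zero_mem _
    · intro a b _ _ ha hb; exact Ideal.add_mem _ ha hb
    · intro s a _ ha
      rw [Algebra.smul_def]
      exact Ideal.mul_mem_left _ _ ha
  · rw [Ideal.map_le_iff_le_comap]
    intro x hx
    rw [Ideal.mem_comap, RingHom.mem_ker]
    rw [RingHom.mem_ker] at hx
    have := φ.compat h x
    rw [hx, map_zero] at this
    exact this.symm

theorem exists_kerIdem (hflat : ∀ (p q : X.pt) (h : p ≤ q), (X.res h).Flat) {A B : Alg X}
    (hA : A.IsEtCover) (hB : B.IsEtCover) (φ : A ⟶ B) :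
    ∃ e : ∀ p, A.carrier p, (∀ p, IsIdempotentElem (e p)) ∧
      (∀ p, RingHom.ker (φ.app p) = Ideal.span {e p}) ∧
      ∀ {p q : X.pt} (h : p ≤ q), A.res h (e p) = e q := by
  have key : ∀ p, ∃ e : A.carrier p, IsIdempotentElem e ∧ RingHom.ker (φ.app p) = Ideal.span {e} := by
    intro p
    haveI := (hA.2 p).2
    haveI := (hB.2 p).1
    haveI := (hB.2 p).2
    exact exists_idem_ker (X.ring p) (φ.app p)
  choose e hid hker using key
  refine ⟨e, hid, hker, fun {p q} h => ?_⟩
  apply idem_unique ((hid p).map (A.res h)) (hid q)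
  rw [← hker q, ker_eq_map hflat hA.1 hB.1 φ h, hker p, Ideal.map_span, Set.image_singleton]

/-- S15625: image factorisation in étale covers. -/
theorem main25 (hflat : ∀ (p q : X.pt) (h : p ≤ q), (X.res h).Flat) {A B : FEt X} (f : A ⟶ B) :
    ∃ (Q : FEt X) (g : A ⟶ Q) (h : Q ⟶ B), g ≫ h = f ∧
      (∀ p : X.pt, Function.Surjective (g.hom.app p)) ∧
      ∀ p : X.pt, Function.Injective (h.hom.app p) := by
  obtain ⟨e, hid, hker, he⟩ := exists_kerIdem hflat A.property B.property f.hom
  have hφ : ∀ p, f.hom.app p (e p) = 0 := by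
    intro p
    have : e p ∈ RingHom.ker (f.hom.app p) := by rw [hker p]; exact Ideal.subset_span rfl
    exact this
  refine ⟨⟨quotAlg A.obj e he, quotAlg_isEtCover A.obj e he A.property hid⟩,
    ObjectProperty.homMk (quotAlg.π A.obj e he),
    ObjectProperty.homMk (quotAlg.lift A.obj e he f.hom hφ), ?_, ?_, ?_⟩
  · apply ObjectProperty.hom_ext
    apply Alg.hom_ext
    intro p
    apply AlgHom.ext
    intro a
    rfl
  · intro p
    exact Ideal.Quotient.mk_surjective
  · intro p
    rw [injective_iff_map_eq_zero]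
    intro b hb
    obtain ⟨a, rfl⟩ := Ideal.Quotient.mk_surjective b
    have h1 : f.hom.app p a = 0 := hb
    have h2 : a ∈ RingHom.ker (f.hom.app p) := h1
    rw [hker p] at h2
    exact Ideal.Quotient.eq_zero_iff_mem.2 h2

theorem bijective_prod_of_idem {R A B : Type u} [CommRing R] [CommRing A] [CommRing B]
    [Algebra R A] [Algebra R B] (f : A →ₐ[R] B) (hf : Function.Surjective f) {e : A}
    (he : IsIdempotentElem e) (hker : RingHom.ker f = Ideal.span {e}) :
    Function.Bijective (f.prod (Ideal.Quotient.mkₐ R (Ideal.span {1 - e}))) := by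
  have hfe : f e = 0 := by
    have : e ∈ RingHom.ker f := by rw [hker]; exact Ideal.subset_span rfl
    exact this
  have hmk : Ideal.Quotient.mk (Ideal.span {1 - e}) e = 1 := by
    have : Ideal.Quotient.mk (Ideal.span {1 - e}) (1 - e) = 0 :=
      Ideal.Quotient.eq_zero_iff_mem.2 (Ideal.subset_span rfl)
    rw [map_sub, map_one, sub_eq_zero] at this
    exact this.symm
  constructor
  · rw [injective_iff_map_eq_zero]
    intro a ha
    have h1 : f a = 0 := congrArg Prod.fst ha
    have h2 : Ideal.Quotient.mk (Ideal.span {1 - e}) a = 0 := congrArg Prod.snd ha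
    have h1' : a ∈ RingHom.ker f := h1
    rw [hker] at h1'
    obtain ⟨b, rfl⟩ := Ideal.mem_span_singleton'.1 h1'
    obtain ⟨c, hc⟩ := Ideal.mem_span_singleton'.1 (Ideal.Quotient.eq_zero_iff_mem.1 h2)
    have : b * e = b * e * e := by rw [mul_assoc, he.eq]
    rw [this, ← hc, mul_assoc, sub_mul, one_mul, he.eq, sub_self, mul_zero]
  · rintro ⟨b, d⟩
    obtain ⟨a₁, rfl⟩ := hf b
    obtain ⟨a₂, rfl⟩ := Ideal.Quotient.mk_surjective d
    refine ⟨a₁ * (1 - e) + a₂ * e, ?_⟩
    apply Prod.ext
    · change f (a₁ * (1 - e) + a₂ * e) = f a₁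
      simp [hfe]
    · change Ideal.Quotient.mk _ (a₁ * (1 - e) + a₂ * e) = Ideal.Quotient.mk _ a₂
      simp [hmk]

/-- A pointwise product is a categorical product. -/
theorem isLimit_of_bijective {A B D : FEt X} (f : A ⟶ B) (π : A ⟶ D)
    (hbij : ∀ p, Function.Bijective ((f.hom.app p).prod (π.hom.app p))) :
    Nonempty (IsLimit (BinaryFan.mk f π)) := by
  let ψ : ∀ p, A.obj.carrier p ≃ₐ[X.ring p] B.obj.carrier p × D.obj.carrier p :=
    fun p => AlgEquiv.ofBijective _ (hbij p)
  have hψ : ∀ p a, ψ p a = (f.hom.app p a, π.hom.app p a) := fun p a => rfl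
  let lift : ∀ {T : FEt X} (_ : T ⟶ B) (_ : T ⟶ D), T ⟶ A := fun {T} u v =>
    ObjectProperty.homMk
      ⟨fun p => ((ψ p).symm : _ →ₐ[X.ring p] _).comp ((u.hom.app p).prod (v.hom.app p)),
        fun {p q} h c => by
          apply (ψ q).injective
          change ψ q (A.obj.res h ((ψ p).symm (u.hom.app p c, v.hom.app p c))) =
            ψ q ((ψ q).symm (u.hom.app q (T.obj.res h c), v.hom.app q (T.obj.res h c)))
          rw [AlgEquiv.apply_symm_apply, hψ q, ← f.hom.compat, ← π.hom.compat,
            ← u.hom.compat, ← v.hom.compat]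
          have := hψ p ((ψ p).symm (u.hom.app p c, v.hom.app p c))
          rw [AlgEquiv.apply_symm_apply] at this
          have h1 := congrArg Prod.fst this
          have h2 := congrArg Prod.snd this
          simp only at h1 h2
          rw [← h1, ← h2]⟩
  refine ⟨BinaryFan.IsLimit.mk _ (fun {T} u v => lift u v) ?_ ?_ ?_⟩
  · intro T u v
    apply ObjectProperty.hom_ext
    apply Alg.hom_ext
    intro p
    apply AlgHom.ext
    intro c
    change f.hom.app p ((ψ p).symm (u.hom.app p c, v.hom.app p c)) = u.hom.app p c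
    have := hψ p ((ψ p).symm (u.hom.app p c, v.hom.app p c))
    rw [AlgEquiv.apply_symm_apply] at this
    exact (congrArg Prod.fst this).symm
  · intro T u v
    apply ObjectProperty.hom_ext
    apply Alg.hom_ext
    intro p
    apply AlgHom.ext
    intro c
    change π.hom.app p ((ψ p).symm (u.hom.app p c, v.hom.app p c)) = v.hom.app p c
    have := hψ p ((ψ p).symm (u.hom.app p c, v.hom.app p c))
    rw [AlgEquiv.apply_symm_apply] at this
    exact (congrArg Prod.snd this).symm
  · intro T u v m hm1 hm2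
    apply ObjectProperty.hom_ext
    apply Alg.hom_ext
    intro p
    apply AlgHom.ext
    intro c
    apply (ψ p).injective
    change ψ p (m.hom.app p c) = ψ p ((ψ p).symm (u.hom.app p c, v.hom.app p c))
    rw [AlgEquiv.apply_symm_apply, hψ p, ← hm1, ← hm2]
    rfl

/-- S15628 -/
theorem main28 (hflat : ∀ (p q : X.pt) (h : p ≤ q), (X.res h).Flat) {A B : FEt X} (f : A ⟶ B)
    (hf : ∀ p : X.pt, Function.Surjective (f.hom.app p)) :
    ∃ (D : FEt X) (π : A ⟶ D), Nonempty (IsLimit (BinaryFan.mk f π)) := by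
  obtain ⟨e, hid, hker, he⟩ := exists_kerIdem hflat A.property B.property f.hom
  have he' : ∀ {p q : X.pt} (h : p ≤ q), A.obj.res h ((fun p => 1 - e p) p) = (fun p => 1 - e p) q := by
    intro p q h
    simp only [map_sub, map_one, he h]
  refine ⟨⟨quotAlg A.obj (fun p => 1 - e p) he',
      quotAlg_isEtCover A.obj _ he' A.property fun p => (hid p).one_sub⟩,
    ObjectProperty.homMk (quotAlg.π A.obj _ he'), ?_⟩
  apply isLimit_of_bijective
  intro p
  exact bijective_prod_of_idem (f.hom.app p) (hf p) (hid p) (hker p)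

/-- the pointwise product of two algebras -/
def prodAlg (A B : Alg X) : Alg X where
  carrier p := A.carrier p × B.carrier p
  res {p q} h := RingHom.prodMap (A.res h) (B.res h)
  res_algebraMap {p q} h a := by
    apply Prod.ext
    · exact A.res_algebraMap h a
    · exact B.res_algebraMap h a
  res_self p b := Prod.ext (A.res_self p b.1) (B.res_self p b.2)
  res_comp {p q s} h h' b := Prod.ext (A.res_comp h h' b.1) (B.res_comp h h' b.2)

theorem prodAlg_isQcoh {A B : Alg X} (hA : A.IsQcoh) (hB : B.IsQcoh) : (prodAlg A B).IsQcoh := by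
  intro p q h
  letI : Algebra (X.ring p) (X.ring q) := (X.res h).toAlgebra
  letI : Module (X.ring p) (A.carrier q) := Module.compHom _ (X.res h)
  haveI : IsScalarTower (X.ring p) (X.ring q) (A.carrier q) :=
    IsScalarTower.of_algebraMap_smul fun _ _ => rfl
  letI : Module (X.ring p) (B.carrier q) := Module.compHom _ (X.res h)
  haveI : IsScalarTower (X.ring p) (X.ring q) (B.carrier q) :=
    IsScalarTower.of_algebraMap_smul fun _ _ => rfl
  let α : A.carrier p →ₗ[X.ring p] A.carrier q :=
    { toFun := A.res h, map_add' := map_add _,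
      map_smul' := fun r a => (A.toMod.res h).map_smulₛₗ r a }
  let β : B.carrier p →ₗ[X.ring p] B.carrier q :=
    { toFun := B.res h, map_add' := map_add _,
      map_smul' := fun r a => (B.toMod.res h).map_smulₛₗ r a }
  have hα : IsBaseChange (X.ring q) α := hA p q h
  have hβ : IsBaseChange (X.ring q) β := hB p q h
  have := IsBaseChange.prodMap α β hα hβ
  exact this

theorem prodAlg_isEtCover {A B : Alg X} (hA : A.IsEtCover) (hB : B.IsEtCover) :
    (prodAlg A B).IsEtCover := by
  refine ⟨prodAlg_isQcoh hA.1 hB.1, fun p => ?_⟩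
  haveI := (hA.2 p).1
  haveI := (hA.2 p).2
  haveI := (hB.2 p).1
  haveI := (hB.2 p).2
  constructor
  · change Module.Finite (X.ring p) (A.carrier p × B.carrier p)
    infer_instance
  · change Algebra.Etale (X.ring p) (A.carrier p × B.carrier p)
    exact etale_prod _ _ _

def prodAlg.fst (A B : Alg X) : prodAlg A B ⟶ A :=
  ⟨fun p => AlgHom.fst (X.ring p) (A.carrier p) (B.carrier p), fun _ _ => rfl⟩

def prodAlg.snd (A B : Alg X) : prodAlg A B ⟶ B :=
  ⟨fun p => AlgHom.snd (X.ring p) (A.carrier p) (B.carrier p), fun _ _ => rfl⟩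

theorem hasBinaryProducts : HasBinaryProducts (FEt X) := by
  haveI : ∀ A B : FEt X, HasLimit (pair A B) := by
    intro A B
    let P : FEt X := ⟨prodAlg A.obj B.obj, prodAlg_isEtCover A.property B.property⟩
    let f : P ⟶ A := ObjectProperty.homMk (prodAlg.fst A.obj B.obj)
    let g : P ⟶ B := ObjectProperty.homMk (prodAlg.snd A.obj B.obj)
    have : Nonempty (IsLimit (BinaryFan.mk f g)) := by
      apply isLimit_of_bijective
      intro p
      constructor
      · intro a b hab; exact hab
      · intro b; exact ⟨b, rfl⟩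
    exact ⟨⟨⟨_, this.some⟩⟩⟩
  exact hasBinaryProducts_of_hasLimit_pair _

theorem str_isEtCover : (Alg.str X).IsEtCover := by
  refine ⟨?_, fun p => ⟨?_, ?_⟩⟩
  · intro p q h
    letI : Algebra (X.ring p) (X.ring q) := (X.res h).toAlgebra
    letI : Module (X.ring p) (X.ring q) := Module.compHom _ (X.res h)
    haveI : IsScalarTower (X.ring p) (X.ring q) (X.ring q) :=
      IsScalarTower.of_algebraMap_smul fun _ _ => rfl
    have := IsBaseChange.linearMap (X.ring p) (X.ring q)
    exact this
  · change Module.Finite (X.ring p) (X.ring p)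
    infer_instance
  · change Algebra.Etale (X.ring p) (X.ring p)
    infer_instance

/-- the zero algebra -/
noncomputable def zeroAlg (X : RSpace.{u}) : Alg X :=
  quotAlg (Alg.str X) (fun _ => 1) (fun _ => map_one _)

theorem zeroAlg_isEtCover : (zeroAlg X).IsEtCover :=
  quotAlg_isEtCover (Alg.str X) (fun _ => 1) (fun _ => map_one _) str_isEtCover
    fun _ => IsIdempotentElem.one

instance zeroAlg_subsingleton (p : X.pt) : Subsingleton ((zeroAlg X).carrier p) := by
  change Subsingleton (X.ring p ⧸ Ideal.span {(1 : X.ring p)})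
  rw [Ideal.Quotient.subsingleton_iff, Ideal.span_singleton_one]

theorem hasTerminal : HasTerminal (FEt X) := by
  let T : FEt X := ⟨zeroAlg X, zeroAlg_isEtCover⟩
  haveI : ∀ C : FEt X, Nonempty (C ⟶ T) := fun C =>
    ⟨ObjectProperty.homMk
      ⟨fun p =>
        { toFun := fun _ => 0
          map_one' := Subsingleton.elim _ _
          map_mul' := fun _ _ => Subsingleton.elim _ _
          map_zero' := rfl
          map_add' := fun _ _ => Subsingleton.elim _ _
          commutes' := fun _ => Subsingleton.elim _ _ },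
        fun _ _ => Subsingleton.elim _ _⟩⟩
  haveI : ∀ C : FEt X, Subsingleton (C ⟶ T) := fun C =>
    ⟨fun f g => by
      apply ObjectProperty.hom_ext
      apply Alg.hom_ext
      intro p
      apply AlgHom.ext
      intro c
      exact Subsingleton.elim _ _⟩
  exact hasTerminal_of_unique T

/-- the algebra map `A × A → A`, `(a, b) ↦ a e + b (1 - e)` attached to an idempotent -/
def idemHom (R : Type u) {A : Type u} [CommRing R] [CommRing A] [Algebra R A] (e : A)
    (he : IsIdempotentElem e) : A × A →ₐ[R] A where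
  toFun x := x.1 * e + x.2 * (1 - e)
  map_one' := by simp
  map_mul' x y := by
    have h1 : e * e = e := he
    simp only [Prod.fst_mul, Prod.snd_mul]
    linear_combination (-(x.1 * y.1 - x.1 * y.2 - x.2 * y.1 + x.2 * y.2)) * h1
  map_zero' := by simp
  map_add' x y := by simp only [Prod.fst_add, Prod.snd_add]; ring
  commutes' r := by
    simp only [Prod.algebraMap_apply]
    ring


/-- S15626: a monomorphism of étale covers is injective at every point. -/
theorem main26 (hflat : ∀ (p q : X.pt) (h : p ≤ q), (X.res h).Flat) {A B : FEt X} (f : A ⟶ B)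
    [Mono f] (p : X.pt) : Function.Injective (f.hom.app p) := by
  obtain ⟨e, hid, hker, he⟩ := exists_kerIdem hflat A.property B.property f.hom
  let C : FEt X := ⟨prodAlg A.obj A.obj, prodAlg_isEtCover A.property A.property⟩
  let g₁ : C ⟶ A := ObjectProperty.homMk
    ⟨fun p => idemHom (X.ring p) (e p) (hid p), fun {p q} h c => by
      change A.obj.res h (c.1 * e p + c.2 * (1 - e p)) =
        A.obj.res h c.1 * e q + A.obj.res h c.2 * (1 - e q)
      simp only [map_add, map_mul, map_sub, map_one, he h]⟩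
  let g₂ : C ⟶ A := ObjectProperty.homMk (prodAlg.snd A.obj A.obj)
  have hfe : ∀ p, f.hom.app p (e p) = 0 := by
    intro p
    have : e p ∈ RingHom.ker (f.hom.app p) := by rw [hker p]; exact Ideal.subset_span rfl
    exact this
  have h12 : g₁ ≫ f = g₂ ≫ f := by
    apply ObjectProperty.hom_ext
    apply Alg.hom_ext
    intro p
    apply AlgHom.ext
    intro c
    change f.hom.app p (c.1 * e p + c.2 * (1 - e p)) = f.hom.app p c.2
    simp only [map_add, map_mul, map_sub, map_one, hfe p]
    ring
  have h := (cancel_mono f).1 h12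
  have h3 : g₁.hom.app p (1, 0) = g₂.hom.app p (1, 0) := by rw [h]
  have h4 : e p = 0 := by
    have : (1 : A.obj.carrier p) * e p + 0 * (1 - e p) = 0 := h3
    simpa using this
  rw [injective_iff_map_eq_zero]
  intro a ha
  have h5 : a ∈ RingHom.ker (f.hom.app p) := ha
  rw [hker p, h4] at h5
  simpa using h5

/-- S15622 -/
theorem main22 : HasTerminal (FEt X) ∧ HasBinaryProducts (FEt X) :=
  ⟨hasTerminal, hasBinaryProducts⟩


/-- A pointwise bijective morphism of étale covers is an isomorphism. -/
theorem isIso_of_bijective {A B : FEt X} (f : A ⟶ B)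
    (h : ∀ p, Function.Bijective (f.hom.app p)) : IsIso f := by
  let ψ : ∀ p, A.obj.carrier p ≃ₐ[X.ring p] B.obj.carrier p :=
    fun p => AlgEquiv.ofBijective (f.hom.app p) (h p)
  have hψ : ∀ p a, ψ p a = f.hom.app p a := fun _ _ => rfl
  let g : B ⟶ A := ObjectProperty.homMk
    ⟨fun p => ((ψ p).symm : _ →ₐ[X.ring p] _), fun {p q} hpq b => by
      apply (ψ q).injective
      change ψ q (A.obj.res hpq ((ψ p).symm b)) = ψ q ((ψ q).symm (B.obj.res hpq b))
      rw [AlgEquiv.apply_symm_apply, hψ q, ← f.hom.compat, ← hψ p, AlgEquiv.apply_symm_apply]⟩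
  refine ⟨g, ?_, ?_⟩
  · apply ObjectProperty.hom_ext
    apply Alg.hom_ext
    intro p
    apply AlgHom.ext
    intro a
    exact (ψ p).symm_apply_apply a
  · apply ObjectProperty.hom_ext
    apply Alg.hom_ext
    intro p
    apply AlgHom.ext
    intro b
    exact (ψ p).apply_symm_apply b

/-- S15630 -/
theorem main30 {A B : FEt X} (f : A ⟶ B)
    (hf : ∀ p : X.pt, Function.Injective (f.hom.app p))
    (hdeg : ∀ (p : X.pt) (P : PrimeSpectrum (X.ring p)),
      Module.rankAtStalk (A.obj.carrier p) P = Module.rankAtStalk (B.obj.carrier p) P) :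
    IsIso f := by
  apply isIso_of_bijective
  intro p
  haveI := (A.property.2 p).1
  haveI := (A.property.2 p).2
  haveI := (B.property.2 p).1
  haveI := (B.property.2 p).2
  exact ⟨hf p, surjective_of_injective_of_rank (X.ring p) (f.hom.app p) (hf p) (hdeg p)⟩

/-- the restriction map of the tensor product algebra -/
noncomputable def tensRes (A B : Alg X) {p q : X.pt} (h : p ≤ q) :
    A.carrier p ⊗[X.ring p] B.carrier p →+* A.carrier q ⊗[X.ring q] B.carrier q := by
  letI : Algebra (X.ring p) (A.carrier q ⊗[X.ring q] B.carrier q) :=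
    ((algebraMap (X.ring q) (A.carrier q ⊗[X.ring q] B.carrier q)).comp (X.res h)).toAlgebra
  let f : A.carrier p →ₐ[X.ring p] A.carrier q ⊗[X.ring q] B.carrier q :=
    { toRingHom := (Algebra.TensorProduct.includeLeftRingHom).comp (A.res h)
      commutes' := fun r => by
        change (A.res h (algebraMap _ _ r)) ⊗ₜ[X.ring q] (1 : B.carrier q) = _
        rw [A.res_algebraMap]
        rfl }
  let g : B.carrier p →ₐ[X.ring p] A.carrier q ⊗[X.ring q] B.carrier q :=
    { toRingHom := (Algebra.TensorProduct.includeRight.toRingHom).comp (B.res h)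
      commutes' := fun r => by
        change (1 : A.carrier q) ⊗ₜ[X.ring q] (B.res h (algebraMap _ _ r)) = _
        rw [B.res_algebraMap]
        change _ = algebraMap (X.ring q) (A.carrier q ⊗[X.ring q] B.carrier q) (X.res h r)
        rw [Algebra.TensorProduct.algebraMap_apply, Algebra.algebraMap_eq_smul_one,
          Algebra.algebraMap_eq_smul_one, TensorProduct.smul_tmul] }
  exact (Algebra.TensorProduct.lift f g fun _ _ => Commute.all _ _).toRingHom

theorem tensRes_tmul (A B : Alg X) {p q : X.pt} (h : p ≤ q) (a : A.carrier p) (b : B.carrier p) :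
    tensRes A B h (a ⊗ₜ b) = A.res h a ⊗ₜ B.res h b := by
  unfold tensRes
  simp only [AlgHom.toRingHom_eq_coe, RingHom.coe_coe, Algebra.TensorProduct.lift_tmul]
  change (A.res h a ⊗ₜ[X.ring q] (1 : B.carrier q)) * ((1 : A.carrier q) ⊗ₜ[X.ring q] B.res h b) = _
  rw [Algebra.TensorProduct.tmul_mul_tmul, mul_one, one_mul]

/-- the tensor product of two algebras over the structure rings -/
noncomputable def tensAlg (A B : Alg X) : Alg X where
  carrier p := A.carrier p ⊗[X.ring p] B.carrier p
  res {p q} h := tensRes A B h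
  res_algebraMap {p q} h a := by
    rw [Algebra.TensorProduct.algebraMap_apply, tensRes_tmul, A.res_algebraMap, map_one,
      Algebra.TensorProduct.algebraMap_apply]
  res_self p b := by
    induction b using TensorProduct.induction_on with
    | zero => rw [map_zero]
    | tmul a b => rw [tensRes_tmul, A.res_self, B.res_self]
    | add x y hx hy => rw [map_add, hx, hy]
  res_comp {p q s} h h' b := by
    induction b using TensorProduct.induction_on with
    | zero => rw [map_zero, map_zero, map_zero]
    | tmul a b => rw [tensRes_tmul, tensRes_tmul, tensRes_tmul, A.res_comp, B.res_comp]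
    | add x y hx hy => rw [map_add, map_add, map_add, hx, hy]


theorem isBaseChange_tensor {R S : Type u} [CommRing R] [CommRing S] [Algebra R S]
    {M N M' N' : Type u} [AddCommGroup M] [AddCommGroup N] [AddCommGroup M'] [AddCommGroup N']
    [Module R M] [Module R N] [Module S M'] [Module S N']
    (eM : S ⊗[R] M ≃ₗ[S] M') (eN : S ⊗[R] N ≃ₗ[S] N')
    [Module R (M' ⊗[S] N')] [IsScalarTower R S (M' ⊗[S] N')]
    (γ : M ⊗[R] N →ₗ[R] M' ⊗[S] N')
    (hγ : ∀ m n, γ (m ⊗ₜ n) = eM (1 ⊗ₜ m) ⊗ₜ eN (1 ⊗ₜ n)) : IsBaseChange S γ := by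
  let e : S ⊗[R] (M ⊗[R] N) ≃ₗ[S] M' ⊗[S] N' :=
    (TensorProduct.AlgebraTensorModule.distribBaseChange R S M N) ≪≫ₗ (TensorProduct.congr eM eN)
  refine IsBaseChange.of_equiv e fun x => ?_
  induction x using TensorProduct.induction_on with
  | zero => simp
  | tmul m n => simp [e, hγ]
  | add x y hx hy => rw [TensorProduct.tmul_add, map_add, map_add, hx, hy]

theorem exists_equiv_of_isQcoh {A : Alg X} (hA : A.IsQcoh) {p q : X.pt} (h : p ≤ q) :
    letI : Algebra (X.ring p) (X.ring q) := (X.res h).toAlgebra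
    ∃ e : X.ring q ⊗[X.ring p] A.carrier p ≃ₗ[X.ring q] A.carrier q,
      ∀ a, e (1 ⊗ₜ a) = A.res h a := by
  letI : Algebra (X.ring p) (X.ring q) := (X.res h).toAlgebra
  letI : Module (X.ring p) (A.carrier q) := Module.compHom _ (X.res h)
  haveI : IsScalarTower (X.ring p) (X.ring q) (A.carrier q) :=
    IsScalarTower.of_algebraMap_smul fun _ _ => rfl
  let α : A.carrier p →ₗ[X.ring p] A.carrier q :=
    { toFun := A.res h, map_add' := map_add _,
      map_smul' := fun r a => (A.toMod.res h).map_smulₛₗ r a }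
  have hα : IsBaseChange (X.ring q) α := hA p q h
  refine ⟨hα.equiv, fun a => ?_⟩
  rw [IsBaseChange.equiv_tmul, one_smul]
  rfl

theorem tensAlg_isQcoh {A B : Alg X} (hA : A.IsQcoh) (hB : B.IsQcoh) : (tensAlg A B).IsQcoh := by
  intro p q h
  letI : Algebra (X.ring p) (X.ring q) := (X.res h).toAlgebra
  obtain ⟨eA, heA⟩ := exists_equiv_of_isQcoh hA h
  obtain ⟨eB, heB⟩ := exists_equiv_of_isQcoh hB h
  letI : Module (X.ring p) (A.carrier q ⊗[X.ring q] B.carrier q) := Module.compHom _ (X.res h)
  haveI : IsScalarTower (X.ring p) (X.ring q) (A.carrier q ⊗[X.ring q] B.carrier q) :=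
    IsScalarTower.of_algebraMap_smul fun _ _ => rfl
  let γ : (A.carrier p ⊗[X.ring p] B.carrier p) →ₗ[X.ring p]
      (A.carrier q ⊗[X.ring q] B.carrier q) :=
    { toFun := tensRes A B h, map_add' := map_add _,
      map_smul' := fun r a => ((tensAlg A B).toMod.res h).map_smulₛₗ r a }
  suffices hγ : IsBaseChange (X.ring q) γ from hγ
  refine isBaseChange_tensor eA eB γ fun a b => ?_
  rw [heA, heB]
  exact tensRes_tmul A B h a b

theorem tensAlg_isEtCover {A B : Alg X} (hA : A.IsEtCover) (hB : B.IsEtCover) :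
    (tensAlg A B).IsEtCover := by
  refine ⟨tensAlg_isQcoh hA.1 hB.1, fun p => ?_⟩
  haveI := (hA.2 p).1
  haveI := (hA.2 p).2
  haveI := (hB.2 p).1
  haveI := (hB.2 p).2
  constructor
  · change Module.Finite (X.ring p) (A.carrier p ⊗[X.ring p] B.carrier p)
    infer_instance
  · change Algebra.Etale (X.ring p) (A.carrier p ⊗[X.ring p] B.carrier p)
    haveI : Algebra.Etale (A.carrier p) (A.carrier p ⊗[X.ring p] B.carrier p) := inferInstance
    exact Algebra.Etale.comp (X.ring p) (A.carrier p) _


/-- functoriality of the tensor product algebra -/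
noncomputable def tensMap {A B C C' : Alg X} (f : C ⟶ A) (g : C' ⟶ B) :
    tensAlg C C' ⟶ tensAlg A B :=
  ⟨fun p => Algebra.TensorProduct.map (f.app p) (g.app p), fun {p q} h x => by
    change tensRes A B h (Algebra.TensorProduct.map (f.app p) (g.app p) x) =
      Algebra.TensorProduct.map (f.app q) (g.app q) (tensRes C C' h x)
    induction x using TensorProduct.induction_on with
    | zero => simp
    | tmul a b =>
      rw [Algebra.TensorProduct.map_tmul, tensRes_tmul, tensRes_tmul,
        Algebra.TensorProduct.map_tmul, f.compat, g.compat]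
    | add x y hx hy => simp only [map_add, hx, hy]⟩

/-- multiplication -/
noncomputable def tensMul (C : Alg X) : tensAlg C C ⟶ C :=
  ⟨fun p => Algebra.TensorProduct.lmul' (X.ring p), fun {p q} h x => by
    change C.res h (Algebra.TensorProduct.lmul' (X.ring p) x) =
      Algebra.TensorProduct.lmul' (X.ring q) (tensRes C C h x)
    induction x using TensorProduct.induction_on with
    | zero => simp
    | tmul a b =>
      rw [tensRes_tmul, Algebra.TensorProduct.lmul'_apply_tmul,
        Algebra.TensorProduct.lmul'_apply_tmul, map_mul]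
    | add x y hx hy => simp only [map_add, hx, hy]⟩

noncomputable def tensInl (A B : Alg X) : A ⟶ tensAlg A B :=
  ⟨fun p => Algebra.TensorProduct.includeLeft, fun {p q} h a => by
    change tensRes A B h (a ⊗ₜ 1) = A.res h a ⊗ₜ 1
    rw [tensRes_tmul, map_one]⟩

noncomputable def tensInr (A B : Alg X) : B ⟶ tensAlg A B :=
  ⟨fun p => Algebra.TensorProduct.includeRight, fun {p q} h b => by
    change tensRes A B h (1 ⊗ₜ b) = 1 ⊗ₜ B.res h b
    rw [tensRes_tmul, map_one]⟩

noncomputable def tensDesc {A B T : Alg X} (u : A ⟶ T) (v : B ⟶ T) : tensAlg A B ⟶ T :=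
  ⟨fun p => Algebra.TensorProduct.productMap (u.app p) (v.app p), fun {p q} h x => by
    change T.res h (Algebra.TensorProduct.productMap (u.app p) (v.app p) x) =
      Algebra.TensorProduct.productMap (u.app q) (v.app q) (tensRes A B h x)
    induction x using TensorProduct.induction_on with
    | zero => simp
    | tmul a b =>
      rw [tensRes_tmul, Algebra.TensorProduct.productMap_apply_tmul,
        Algebra.TensorProduct.productMap_apply_tmul, map_mul, u.compat, v.compat]
    | add x y hx hy => simp only [map_add, hx, hy]⟩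


section PurePush

variable {R A B C T : Type u} [CommRing R] [CommRing A] [CommRing B] [CommRing C] [CommRing T]
  [Algebra R A] [Algebra R B] [Algebra R C] [Algebra R T]

theorem push_comm (f : C →ₐ[R] A) (g : C →ₐ[R] B) {ε : C ⊗[R] C}
    (hε : RingHom.ker (Algebra.TensorProduct.lmul' R (S := C)) = Ideal.span {ε}) (c : C) :
    (f c ⊗ₜ[R] (1 : B) - (1 : A) ⊗ₜ[R] g c) ∈
      Ideal.span {Algebra.TensorProduct.map f g ε} := by
  have h1 : (c ⊗ₜ[R] (1 : C) - 1 ⊗ₜ c) ∈ RingHom.ker (Algebra.TensorProduct.lmul' R (S := C)) := by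
    rw [RingHom.mem_ker, map_sub, Algebra.TensorProduct.lmul'_apply_tmul,
      Algebra.TensorProduct.lmul'_apply_tmul, mul_one, one_mul, sub_self]
  rw [hε] at h1
  obtain ⟨x, hx⟩ := Ideal.mem_span_singleton'.1 h1
  have h2 := congrArg (Algebra.TensorProduct.map f g) hx
  rw [map_mul, map_sub, Algebra.TensorProduct.map_tmul, Algebra.TensorProduct.map_tmul, map_one,
    map_one] at h2
  rw [← h2]
  exact Ideal.mem_span_singleton'.2 ⟨_, rfl⟩

theorem push_kill (f : C →ₐ[R] A) (g : C →ₐ[R] B) (u : A →ₐ[R] T) (v : B →ₐ[R] T)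
    (huv : ∀ c, v (g c) = u (f c)) {ε : C ⊗[R] C}
    (hε : ε ∈ RingHom.ker (Algebra.TensorProduct.lmul' R (S := C))) :
    Algebra.TensorProduct.productMap u v (Algebra.TensorProduct.map f g ε) = 0 := by
  have h4 : ∀ x : C ⊗[R] C,
      Algebra.TensorProduct.productMap u v (Algebra.TensorProduct.map f g x) =
        u (f (Algebra.TensorProduct.lmul' R x)) := by
    intro x
    induction x using TensorProduct.induction_on with
    | zero => simp
    | tmul c c' =>
      rw [Algebra.TensorProduct.map_tmul, Algebra.TensorProduct.productMap_apply_tmul,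
        Algebra.TensorProduct.lmul'_apply_tmul, huv, map_mul, map_mul]
    | add x y hx hy => simp only [map_add, hx, hy]
  rw [h4, RingHom.mem_ker.1 hε, map_zero, map_zero]

theorem push_uniq (I : Ideal (A ⊗[R] B)) (u : A →ₐ[R] T) (v : B →ₐ[R] T)
    (m : (A ⊗[R] B ⧸ I) →ₐ[R] T)
    (hl : ∀ a, m (Ideal.Quotient.mk I (a ⊗ₜ 1)) = u a)
    (hr : ∀ b, m (Ideal.Quotient.mk I (1 ⊗ₜ b)) = v b) (x : A ⊗[R] B) :
    m (Ideal.Quotient.mk I x) = Algebra.TensorProduct.productMap u v x := by
  induction x using TensorProduct.induction_on with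
  | zero => simp
  | tmul a b =>
    have : (a ⊗ₜ[R] b : A ⊗[R] B) = (a ⊗ₜ 1) * (1 ⊗ₜ b) := by
      rw [Algebra.TensorProduct.tmul_mul_tmul, mul_one, one_mul]
    rw [Algebra.TensorProduct.productMap_apply_tmul, this, map_mul, map_mul, hl, hr]
  | add x y hx hy => simp only [map_add, hx, hy]

end PurePush

theorem hasPushouts (hflat : ∀ (p q : X.pt) (h : p ≤ q), (X.res h).Flat) :
    HasPushouts (FEt X) := by
  haveI : ∀ {A B C : FEt X} {f : C ⟶ A} {g : C ⟶ B}, HasColimit (span f g) := by
    intro A B C f g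
    obtain ⟨ε, hεid, hεker, hε⟩ := exists_kerIdem hflat
      (tensAlg_isEtCover C.property C.property) C.property (tensMul C.obj)
    let φ := tensMap f.hom g.hom
    let e : ∀ p, (tensAlg A.obj B.obj).carrier p := fun p => φ.app p (ε p)
    have he : ∀ {p q : X.pt} (h : p ≤ q), (tensAlg A.obj B.obj).res h (e p) = e q := by
      intro p q h
      change (tensAlg A.obj B.obj).res h (φ.app p (ε p)) = φ.app q (ε q)
      rw [φ.compat, hε h]
    have hid : ∀ p, IsIdempotentElem (e p) := fun p => (hεid p).map (φ.app p)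
    let P : FEt X := ⟨quotAlg (tensAlg A.obj B.obj) e he,
      quotAlg_isEtCover _ e he (tensAlg_isEtCover A.property B.property) hid⟩
    let inl : A ⟶ P := ObjectProperty.homMk (tensInl A.obj B.obj ≫ quotAlg.π _ e he)
    let inr : B ⟶ P := ObjectProperty.homMk (tensInr A.obj B.obj ≫ quotAlg.π _ e he)
    have hcomm : f ≫ inl = g ≫ inr := by
      apply ObjectProperty.hom_ext
      apply Alg.hom_ext
      intro p
      apply AlgHom.ext
      intro c
      exact Ideal.Quotient.eq.2 (push_comm (f.hom.app p) (g.hom.app p) (hεker p) c)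
    have hkill : ∀ (s : PushoutCocone f g) (p : X.pt),
        (tensDesc s.inl.hom s.inr.hom).app p (e p) = 0 := by
      intro s p
      have hc : ∀ c, s.inr.hom.app p (g.hom.app p c) = s.inl.hom.app p (f.hom.app p c) := by
        intro c
        have := s.condition
        have h3 : (f ≫ s.inl).hom.app p c = (g ≫ s.inr).hom.app p c := by rw [this]
        exact h3.symm
      have h5 : ε p ∈ RingHom.ker ((tensMul C.obj).app p) := by
        rw [hεker p]; exact Ideal.subset_span rfl
      exact push_kill (f.hom.app p) (g.hom.app p) (s.inl.hom.app p) (s.inr.hom.app p) hc h5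
    let desc : ∀ s : PushoutCocone f g, P ⟶ s.pt := fun s =>
      ObjectProperty.homMk (quotAlg.lift _ e he (tensDesc s.inl.hom s.inr.hom) (hkill s))
    refine ⟨⟨⟨PushoutCocone.mk inl inr hcomm,
      PushoutCocone.IsColimit.mk hcomm desc ?_ ?_ ?_⟩⟩⟩
    · intro s
      apply ObjectProperty.hom_ext
      apply Alg.hom_ext
      intro p
      apply AlgHom.ext
      intro a
      change Algebra.TensorProduct.productMap (s.inl.hom.app p) (s.inr.hom.app p) (a ⊗ₜ 1) = _
      rw [Algebra.TensorProduct.productMap_apply_tmul, map_one, mul_one]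
    · intro s
      apply ObjectProperty.hom_ext
      apply Alg.hom_ext
      intro p
      apply AlgHom.ext
      intro b
      change Algebra.TensorProduct.productMap (s.inl.hom.app p) (s.inr.hom.app p) (1 ⊗ₜ b) = _
      rw [Algebra.TensorProduct.productMap_apply_tmul, map_one, one_mul]
    · intro s m hm1 hm2
      apply ObjectProperty.hom_ext
      apply Alg.hom_ext
      intro p
      apply AlgHom.ext
      intro x
      obtain ⟨x, rfl⟩ := Ideal.Quotient.mk_surjective x
      have hl : ∀ a, m.hom.app p (Ideal.Quotient.mk _ (a ⊗ₜ 1)) = s.inl.hom.app p a := by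
        intro a
        have : (inl ≫ m).hom.app p a = s.inl.hom.app p a := by rw [hm1]
        exact this
      have hr : ∀ b, m.hom.app p (Ideal.Quotient.mk _ (1 ⊗ₜ b)) = s.inr.hom.app p b := by
        intro b
        have : (inr ≫ m).hom.app p b = s.inr.hom.app p b := by rw [hm2]
        exact this
      exact push_uniq (Ideal.span {e p}) (s.inl.hom.app p) (s.inr.hom.app p) (m.hom.app p) hl hr x
  exact hasPushouts_of_hasColimit_span (FEt X)

theorem hasInitial : HasInitial (FEt X) := by
  let I : FEt X := ⟨Alg.str X, str_isEtCover⟩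
  haveI : ∀ C : FEt X, Nonempty (I ⟶ C) := fun C =>
    ⟨ObjectProperty.homMk
      ⟨fun p => Algebra.ofId (X.ring p) (C.obj.carrier p), fun {p q} h a =>
        C.obj.res_algebraMap h a⟩⟩
  haveI : ∀ C : FEt X, Subsingleton (I ⟶ C) := fun C =>
    ⟨fun f g => by
      apply ObjectProperty.hom_ext
      apply Alg.hom_ext
      intro p
      apply AlgHom.ext
      intro a
      have h1 := (f.hom.app p).commutes a
      have h2 := (g.hom.app p).commutes a
      exact h1.trans h2.symm⟩
  exact hasInitial_of_unique I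

/-- S15621 -/
theorem main21 (hflat : ∀ (p q : X.pt) (h : p ≤ q), (X.res h).Flat) :
    HasInitial (FEt X) ∧ HasPushouts (FEt X) :=
  ⟨hasInitial, hasPushouts hflat⟩

theorem topConnected_of_wellConnected (hwc : X.IsWellConnected) (p q : X.pt) :
    Relation.EqvGen (fun a b : X.pt => a ≤ b) p q := by
  classical
  obtain ⟨hc, hpw⟩ := hwc
  let U : Set X.pt := {r | Relation.EqvGen (fun a b : X.pt => a ≤ b) p r}
  have hU : ∀ {r r' : X.pt}, r ≤ r' → (r ∈ U ↔ r' ∈ U) := by
    intro r r' h
    constructor
    · intro hr; exact Relation.EqvGen.trans _ _ _ hr (Relation.EqvGen.rel _ _ h)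
    · intro hr
      exact Relation.EqvGen.trans _ _ _ hr (Relation.EqvGen.symm _ _ (Relation.EqvGen.rel _ _ h))
  let e : X.sectRing Set.univ := ⟨fun r => if r.1 ∈ U then 1 else 0, fun r r' h => by
    by_cases hr : r.1 ∈ U
    · have hr' : r'.1 ∈ U := (hU h).1 hr
      simp only [hr, hr', if_true, map_one]
    · have hr' : r'.1 ∉ U := fun h' => hr ((hU h).2 h')
      simp only [hr, hr', if_false, map_zero]⟩
  have he : IsIdempotentElem e := by
    apply Subtype.ext
    funext r
    change (if r.1 ∈ U then (1 : X.ring r.1) else 0) * (if r.1 ∈ U then 1 else 0) =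
      if r.1 ∈ U then 1 else 0
    split_ifs <;> simp
  haveI : ConnectedSpace (PrimeSpectrum (X.sectRing Set.univ)) := hc
  have hnt : ∀ r : X.pt, Nontrivial (X.ring r) := fun r => by
    haveI := hpw r
    exact (PrimeSpectrum.nonempty_iff_nontrivial).1 inferInstance
  rcases idem_trivial_of_connected he with h0 | h1
  · exfalso
    have h2 := congrArg (fun s : X.sectRing Set.univ => s.1 ⟨p, trivial⟩) h0
    have hp : p ∈ U := Relation.EqvGen.refl p
    change (if p ∈ U then (1 : X.ring p) else 0) = 0 at h2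
    rw [if_pos hp] at h2
    haveI := hnt p
    exact one_ne_zero h2
  · by_contra hq'
    have hq : q ∉ U := hq'
    have h2 := congrArg (fun s : X.sectRing Set.univ => s.1 ⟨q, trivial⟩) h1
    change (if q ∈ U then (1 : X.ring q) else 0) = 1 at h2
    rw [if_neg hq] at h2
    haveI := hnt q
    exact zero_ne_one h2


theorem rank_res {A : Alg X} (hA : A.IsEtCover) {p q : X.pt} (h : p ≤ q)
    (P : PrimeSpectrum (X.ring q)) :
    Module.rankAtStalk (A.carrier q) P =
      Module.rankAtStalk (A.carrier p) (PrimeSpectrum.comap (X.res h) P) := by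
  letI : Algebra (X.ring p) (X.ring q) := (X.res h).toAlgebra
  obtain ⟨e, -⟩ := exists_equiv_of_isQcoh hA.1 h
  haveI := (hA.2 p).1
  haveI := (hA.2 p).2
  haveI : Module.FinitePresentation (X.ring p) (A.carrier p) :=
    Module.FinitePresentation.of_finite_of_finitePresentation _ _
  haveI : Module.Flat (X.ring p) (A.carrier p) := inferInstance
  rw [← Module.rankAtStalk_eq_of_equiv e, Module.rankAtStalk_baseChange]
  rfl

theorem rank_const_point {A : Alg X} (hA : A.IsEtCover) (hpw : X.IsPwConnected) (p : X.pt)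
    (P P' : PrimeSpectrum (X.ring p)) :
    Module.rankAtStalk (A.carrier p) P = Module.rankAtStalk (A.carrier p) P' := by
  haveI := (hA.2 p).1
  haveI := (hA.2 p).2
  haveI := hpw p
  haveI : Module.FinitePresentation (X.ring p) (A.carrier p) :=
    Module.FinitePresentation.of_finite_of_finitePresentation _ _
  haveI : Module.Flat (X.ring p) (A.carrier p) := inferInstance
  exact (Module.isLocallyConstant_rankAtStalk (R := X.ring p)
    (M := A.carrier p)).apply_eq_of_preconnectedSpace P P'

theorem rank_const (hwc : X.IsWellConnected) {A : Alg X} (hA : A.IsEtCover) :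
    ∃ n : ℕ, ∀ (p : X.pt) (P : PrimeSpectrum (X.ring p)),
      Module.rankAtStalk (A.carrier p) P = n := by
  have hpw := hwc.2
  have hne : ∀ p : X.pt, Nonempty (PrimeSpectrum (X.ring p)) := fun p => by
    haveI := hpw p; infer_instance
  by_cases hX : Nonempty X.pt
  · obtain ⟨p₀⟩ := hX
    obtain ⟨P₀⟩ := hne p₀
    refine ⟨Module.rankAtStalk (A.carrier p₀) P₀, fun p P => ?_⟩
    have key : ∀ a b : X.pt, Relation.EqvGen (fun a b : X.pt => a ≤ b) a b →
        ∀ (P : PrimeSpectrum (X.ring a)) (Q : PrimeSpectrum (X.ring b)),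
          Module.rankAtStalk (A.carrier a) P = Module.rankAtStalk (A.carrier b) Q := by
      intro a b hab
      induction hab with
      | rel a b h =>
        intro P Q
        rw [rank_res hA h Q]
        exact rank_const_point hA hpw a _ _
      | refl a => exact fun P Q => rank_const_point hA hpw a P Q
      | symm a b _ ih => exact fun P Q => (ih Q P).symm
      | trans a b c _ _ ih1 ih2 =>
        intro P Q
        obtain ⟨M⟩ := hne b
        exact (ih1 P M).trans (ih2 M Q)
    exact (key p₀ p (topConnected_of_wellConnected hwc p₀ p) P₀ P).symm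
  · exact ⟨0, fun p => (hX ⟨p⟩).elim⟩


section Fib

variable {Ω : Type u} [Field Ω] [IsAlgClosed Ω] (ξ : GeomPt X Ω)

theorem card_fib {A : Alg X} (hA : A.IsEtCover) {n : ℕ}
    (hn : ∀ (p : X.pt) (P : PrimeSpectrum (X.ring p)), Module.rankAtStalk (A.carrier p) P = n) :
    Nat.card (ξ.Fib A) = n := by
  letI : Algebra (X.ring ξ.base) Ω := ξ.toField.toAlgebra
  haveI := (hA.2 ξ.base).1
  haveI := (hA.2 ξ.base).2
  unfold GeomPt.Fib
  rw [card_fibre_eq_rank, hn]

theorem fibMap_injective_of_surjective {A B : Alg X} (g : A ⟶ B)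
    (hg : Function.Surjective (g.app ξ.base)) : Function.Injective (ξ.fibMap g) := by
  letI : Algebra (X.ring ξ.base) Ω := ξ.toField.toAlgebra
  unfold GeomPt.fibMap
  apply PrimeSpectrum.comap_injective_of_surjective
  intro y
  induction y using TensorProduct.induction_on with
  | zero => exact ⟨0, map_zero _⟩
  | tmul ω b =>
    obtain ⟨a, rfl⟩ := hg b
    exact ⟨ω ⊗ₜ a, rfl⟩
  | add y z hy hz =>
    obtain ⟨y', rfl⟩ := hy
    obtain ⟨z', rfl⟩ := hz
    exact ⟨y' + z', map_add _ _ _⟩

theorem finite_fib {A : Alg X} (hA : A.IsEtCover) : Finite (ξ.Fib A) := by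
  let _ : Algebra (X.ring ξ.base) Ω := ξ.toField.toAlgebra
  have : Module.Finite (X.ring ξ.base) (A.carrier ξ.base) := (hA.2 ξ.base).1
  have : Module.Finite Ω (Ω ⊗[X.ring ξ.base] A.carrier ξ.base) := inferInstance
  have : IsArtinianRing (Ω ⊗[X.ring ξ.base] A.carrier ξ.base) :=
    IsArtinianRing.of_finite Ω _
  unfold GeomPt.Fib
  infer_instance

/-- S15631 -/
theorem main31 (hflat : ∀ (p q : X.pt) (h : p ≤ q), (X.res h).Flat) (hwc : X.IsWellConnected) :
    ξ.fibFunctor.ReflectsIsomorphisms := by
  constructor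
  intro A B f hf
  rw [← isIso_unop_iff]
  -- φ : B.unop ⟶ A.unop
  set φ := f.unop with hφ
  have hbij : Function.Bijective (ξ.fibMap φ.hom) :=
    ConcreteCategory.bijective_of_isIso (ξ.fibFunctor.map f)
  obtain ⟨nA, hnA⟩ := rank_const hwc A.unop.property
  obtain ⟨nB, hnB⟩ := rank_const hwc B.unop.property
  have hcA := card_fib ξ A.unop.property hnA
  have hcB := card_fib ξ B.unop.property hnB
  haveI := finite_fib ξ A.unop.property
  haveI := finite_fib ξ B.unop.property
  have hAB : nA = nB := by
    rw [← hcA, ← hcB]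
    exact Nat.card_congr (Equiv.ofBijective _ hbij)
  -- factor φ
  obtain ⟨Q, g, h, hgh, hg, hh⟩ := main25 hflat φ
  obtain ⟨nQ, hnQ⟩ := rank_const hwc Q.property
  have hcQ := card_fib ξ Q.property hnQ
  haveI := finite_fib ξ Q.property
  -- fibMap g : Fib Q → Fib B.unop is bijective
  have hcomp : ξ.fibMap φ.hom = ξ.fibMap g.hom ∘ ξ.fibMap h.hom := by
    rw [← ξ.fibMap_comp, ← hgh]
    rfl
  have hginj : Function.Injective (ξ.fibMap g.hom) :=
    fibMap_injective_of_surjective ξ g.hom (hg ξ.base)
  have hgsurj : Function.Surjective (ξ.fibMap g.hom) := by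
    intro y
    obtain ⟨z, hz⟩ := hbij.2 y
    exact ⟨ξ.fibMap h.hom z, by rw [← hz, hcomp]; rfl⟩
  have hQB : nQ = nB := by
    rw [← hcQ, ← hcB]
    exact Nat.card_congr (Equiv.ofBijective _ ⟨hginj, hgsurj⟩)
  -- g is pointwise bijective
  have hgbij : ∀ p, Function.Bijective (g.hom.app p) := by
    intro p
    haveI := (B.unop.property.2 p).1
    haveI := (B.unop.property.2 p).2
    haveI := (Q.property.2 p).1
    haveI := (Q.property.2 p).2
    haveI : Module.FinitePresentation (X.ring p) (B.unop.obj.carrier p) :=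
      Module.FinitePresentation.of_finite_of_finitePresentation _ _
    haveI : Module.FinitePresentation (X.ring p) (Q.obj.carrier p) :=
      Module.FinitePresentation.of_finite_of_finitePresentation _ _
    exact Module.bijective_of_surjective_of_rankAtStalk_eq (φ := (g.hom.app p).toLinearMap) (hg p)
      (fun m _ => by rw [hnB p _, hnQ p _, hQB])
  have hφinj : ∀ p, Function.Injective (φ.hom.app p) := by
    intro p
    have : φ.hom.app p = (h.hom.app p).comp (g.hom.app p) := by
      rw [← hgh]; rfl
    rw [this]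
    exact (hh p).comp (hgbij p).1
  exact main30 φ hφinj (fun p P => by rw [hnA p P, hnB p P, hAB])

end Fib

end Groth.Agent.Lib.Helper18FEt
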