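import Mathlib
import Groth.Prelude.Def_Omega4
import Groth.Agent.Lib.Helper18Con3

set_option autoImplicit false
set_option linter.unusedSectionVars false
universe u
open CategoryTheory AlgebraicGeometry Limits TopologicalSpace Opposite
open Groth.Agent.Helper18OmLS

namespace Groth.Agent.Helper18UT

section PC
variable {X Y Z : Scheme.{u}} (f : X ⟶ Y) (g : Y ⟶ Z) (M : Z.Modules)

theorem pullbackComp_inv_pullSect (U : Z.Opens) (x : Γ(M, U)) :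
    ((Scheme.Modules.pullbackComp f g).inv.app M).app ((f ≫ g) ⁻¹ᵁ U)
        (OmegaSh.pullSect (f ≫ g) M U x) =
      OmegaSh.pullSect f ((Scheme.Modules.pullback g).obj M) (g ⁻¹ᵁ U) (OmegaSh.pullSect g M U x) := by
  have h1 := unit_conjugateEquiv
    ((Scheme.Modules.pullbackPushforwardAdjunction g).comp (Scheme.Modules.pullbackPushforwardAdjunction f))
    (Scheme.Modules.pullbackPushforwardAdjunction (f ≫ g)) (Scheme.Modules.pullbackComp f g).inv M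
  rw [Scheme.Modules.conjugateEquiv_pullbackComp_inv] at h1
  have h2 := congrArg (fun φ => Scheme.Modules.Hom.app φ U) h1
  simp only [Scheme.Modules.Hom.comp_app, Adjunction.comp_unit_app] at h2
  have h3 := congr($h2 x)
  simp only [ConcreteCategory.comp_apply] at h3
  exact h3.symm

theorem pullback_map_pullSect {A B : Y.Modules} (φ : A ⟶ B) (O : Y.Opens) (a : Γ(A, O)) :
    ((Scheme.Modules.pullback f).map φ).app (f ⁻¹ᵁ O) (OmegaSh.pullSect f A O a) =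
      OmegaSh.pullSect f B O (φ.app O a) := by
  have h1 := (Scheme.Modules.pullbackPushforwardAdjunction f).unit.naturality φ
  have h2 := congrArg (fun ψ => Scheme.Modules.Hom.app ψ O) h1
  simp only [Scheme.Modules.Hom.comp_app] at h2
  have h3 := congr($h2 a)
  simp only [ConcreteCategory.comp_apply] at h3
  exact h3.symm

theorem hom_app_map {A B : Y.Modules} (φ : A ⟶ B) {O O' : Y.Opens} (h : O' ≤ O) (a : Γ(A, O)) :
    φ.app O' (A.presheaf.map (homOfLE h).op a) = B.presheaf.map (homOfLE h).op (φ.app O a) :=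
  congr($(φ.mapPresheaf.naturality (homOfLE h).op) a)

end PC

section sq
variable {Z X Z' X' : Scheme.{u}} (i : Z ⟶ X) (i' : Z' ⟶ X') (g : X ⟶ X') (gZ : Z ⟶ Z')
  (hsq : gZ ≫ i' = i ≫ g)

include hsq in
theorem sq_le' (U' : X'.Opens) : gZ ⁻¹ᵁ (i' ⁻¹ᵁ U') ≤ i ⁻¹ᵁ (g ⁻¹ᵁ U') := by
  change (gZ ≫ i') ⁻¹ᵁ U' ≤ (i ≫ g) ⁻¹ᵁ U'
  rw [hsq]

include hsq in
theorem sq_app_zero' (W : X'.Opens) (s' : Γ(ClSub.idealMod i'.ker, W)) :
    i.app (g ⁻¹ᵁ W) (g.app W (OmegaSh.idealSect i'.ker W s')) = 0 := by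
  have h := Scheme.Hom.congr_app hsq.symm W
  rw [Scheme.Hom.comp_app, Scheme.Hom.comp_app] at h
  have h2 := congr($h (OmegaSh.idealSect i'.ker W s'))
  refine h2.trans ?_
  change (Z.presheaf.map (eqToHom _).op) (gZ.app (i' ⁻¹ᵁ W) (i'.app W
    (OmegaSh.idealSect i'.ker W s'))) = 0
  rw [app_idealSect_eq_zero, map_zero, map_zero]

end sq

section comp
variable {Z Z₁ Z₂ X X₁ X₂ : Scheme.{u}} (i : Z ⟶ X) (i₁ : Z₁ ⟶ X₁) (i₂ : Z₂ ⟶ X₂)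
  (g₁ : X ⟶ X₁) (g₂ : X₁ ⟶ X₂) (gZ₁ : Z ⟶ Z₁) (gZ₂ : Z₁ ⟶ Z₂) [QuasiCompact i₁]
  (φa : (Scheme.Modules.pullback gZ₁).obj (Omega.conormal i₁) ⟶ Omega.conormal i)
  (ha : OmegaSh.IsConormalMap i i₁ g₁ gZ₁ φa)
  (φb : (Scheme.Modules.pullback gZ₂).obj (Omega.conormal i₂) ⟶ Omega.conormal i₁)
  (hb : OmegaSh.IsConormalMap i₁ i₂ g₂ gZ₂ φb)

include ha hb in
/-- canonical maps of conormal sheaves compose. -/
theorem isConormalMap_comp :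
    OmegaSh.IsConormalMap i i₂ (g₁ ≫ g₂) (gZ₁ ≫ gZ₂)
      ((Scheme.Modules.pullbackComp gZ₁ gZ₂).inv.app (Omega.conormal i₂) ≫
        (Scheme.Modules.pullback gZ₁).map φb ≫ φa) := by
  refine ⟨by rw [Category.assoc, hb.1, ← Category.assoc, ha.1, Category.assoc], ?_⟩
  intro U' s' s hs V h₁ h₂
  obtain ⟨s₁, hs₁⟩ := exists_idealSect_eq i₁ (g₂ ⁻¹ᵁ U') _
    (sq_app_zero' i₁ i₂ g₂ gZ₂ hb.1 U' s')
  have hle₂ : gZ₂ ⁻¹ᵁ (i₂ ⁻¹ᵁ U') ≤ i₁ ⁻¹ᵁ (g₂ ⁻¹ᵁ U') :=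
    sq_le' i₁ i₂ g₂ gZ₂ hb.1 U'
  have hB := hb.2 U' s' s₁ hs₁ (gZ₂ ⁻¹ᵁ (i₂ ⁻¹ᵁ U')) le_rfl hle₂
  rw [presheaf_map_homOfLE_refl] at hB
  have hs' : OmegaSh.idealSect i.ker (g₁ ⁻¹ᵁ (g₂ ⁻¹ᵁ U')) s =
      g₁.app (g₂ ⁻¹ᵁ U') (OmegaSh.idealSect i₁.ker (g₂ ⁻¹ᵁ U') s₁) := by
    rw [hs₁]
    exact hs
  have hV₁ : V ≤ gZ₁ ⁻¹ᵁ (i₁ ⁻¹ᵁ (g₂ ⁻¹ᵁ U')) := h₁.trans (gZ₁.preimage_mono hle₂)
  have hA := ha.2 (g₂ ⁻¹ᵁ U') s₁ s hs' V hV₁ h₂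
  refine Eq.trans ?_ hA
  rw [Scheme.Modules.Hom.comp_app, Scheme.Modules.Hom.comp_app, ConcreteCategory.comp_apply,
    ConcreteCategory.comp_apply, pullbackComp_inv_pullSect]
  erw [pullback_map_pullSect gZ₁ φb (gZ₂ ⁻¹ᵁ (i₂ ⁻¹ᵁ U'))]
  rw [hB, OmegaSh.pullSect_map]
  erw [hom_app_map φa]
  rw [OmegaSh.resM_resM]
  rfl

end comp
end Groth.Agent.Helper18UT
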