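import Mathlib
import Groth.Prelude.Def_Omega4
import Groth.Prelude.Def_MoreMor
import Groth.Agent.Lib.Helper18UT15
import Groth.Agent.Lib.Helper18UT9

set_option autoImplicit false
set_option linter.style.haveILetI false
set_option linter.unusedSectionVars false
universe u
open CategoryTheory AlgebraicGeometry Limits TopologicalSpace Opposite
open Groth.Agent.Helper18OmLS

namespace Groth.Agent.Helper18FS

section lift
variable {X Y : Scheme.{u}} (p : X ⟶ Y) (hp : MoreMor.IsFormallySmoothHom p)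

include hp in
/-- formally smooth morphisms lift against first order thickenings of affine schemes. -/
theorem exists_lift_affine {T T' : Scheme.{u}} [IsAffine T'] (j : T ⟶ T')
    (hj : MoreMor.IsFirstOrderThickening j) (a : T ⟶ X) (b : T' ⟶ Y) (hw : j ≫ b = a ≫ p) :
    ∃ l : T' ⟶ X, j ≫ l = a ∧ l ≫ p = b := by
  obtain ⟨⟨hci, hsurj⟩, hsq⟩ := hj
  haveI := hci
  obtain ⟨hTaff, hρsurj⟩ := IsClosedImmersion.isAffine_surjective_of_isAffine j
  have hker : RingHom.ker j.appTop.hom ^ 2 = ⊥ := by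
    have h1 := Scheme.ker_of_isAffine j
    rw [h1] at hsq
    have h2 := congrArg (Scheme.IdealSheafData.equivOfIsAffine (X := T')) hsq
    rw [map_mul] at h2
    have h3 : Scheme.IdealSheafData.equivOfIsAffine (X := T')
        (Scheme.IdealSheafData.ofIdealTop (RingHom.ker j.appTop.hom)) = RingHom.ker j.appTop.hom :=
      (Scheme.IdealSheafData.equivOfIsAffine (X := T')).apply_symm_apply _
    rw [h3] at h2
    rw [pow_two]
    refine h2.trans ?_
    exact map_zero (Scheme.IdealSheafData.equivOfIsAffine (X := T'))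
  let C : Type u := Γ(T', ⊤)
  let D : Type u := Γ(T, ⊤)
  let ρ : C →+* D := j.appTop.hom
  let I : Ideal C := RingHom.ker ρ
  have hI : I ^ 2 = ⊥ := hker
  let e : C ⧸ I ≃+* D := RingHom.quotientKerEquivOfSurjective hρsurj
  have he : ∀ c : C, e (Ideal.Quotient.mk I c) = ρ c := fun c => rfl
  let eh : CommRingCat.of (C ⧸ I) ⟶ Γ(T, ⊤) := CommRingCat.ofHom e.toRingHom
  let ei : Γ(T, ⊤) ⟶ CommRingCat.of (C ⧸ I) := CommRingCat.ofHom e.symm.toRingHom
  have hei : ei ≫ eh = 𝟙 _ := by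
    ext x
    exact e.apply_symm_apply x
  have hmk : (CommRingCat.ofHom (Ideal.Quotient.mk I) : CommRingCat.of C ⟶ _) ≫ eh = j.appTop := by
    ext c
    exact he c
  have hmk' : j.appTop ≫ ei = (CommRingCat.ofHom (Ideal.Quotient.mk I) : CommRingCat.of C ⟶ _) := by
    rw [← hmk, Category.assoc]
    have : eh ≫ ei = 𝟙 _ := by
      ext x
      exact e.symm_apply_apply x
    rw [this, Category.comp_id]
  let a₀ : Spec (CommRingCat.of (C ⧸ I)) ⟶ X := Spec.map ei ≫ T.isoSpec.inv ≫ a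
  let b₀ : Spec (CommRingCat.of C) ⟶ Y := T'.isoSpec.inv ≫ b
  have hw₀ : Spec.map (CommRingCat.ofHom (Ideal.Quotient.mk I)) ≫ b₀ = a₀ ≫ p := by
    change _ ≫ T'.isoSpec.inv ≫ b = (Spec.map ei ≫ T.isoSpec.inv ≫ a) ≫ p
    rw [Category.assoc, Category.assoc, ← hw, ← Scheme.isoSpec_inv_naturality_assoc,
      ← Spec.map_comp_assoc, hmk']
  obtain ⟨l₀, hl1, hl2⟩ := hp C I hI a₀ b₀ hw₀
  refine ⟨T'.isoSpec.hom ≫ l₀, ?_, ?_⟩
  · rw [← Scheme.isoSpec_hom_naturality_assoc, ← hmk, Spec.map_comp_assoc, hl1]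
    change T.isoSpec.hom ≫ Spec.map eh ≫ Spec.map ei ≫ T.isoSpec.inv ≫ a = a
    rw [← Spec.map_comp_assoc, hei, Spec.map_id, Category.id_comp, Iso.hom_inv_id_assoc]
  · rw [Category.assoc, hl2]
    exact Iso.hom_inv_id_assoc _ _

end lift

end Groth.Agent.Helper18FS
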