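import Mathlib
import Groth.Prelude.Def_Omega4
import Groth.Prelude.Def_MoreMor
import Groth.Agent.Lib.Helper18UT15
import Groth.Agent.Lib.Helper18UT9
import Groth.Agent.Lib.Helper18OmLS15
import Groth.Agent.Lib.Helper18FS1

set_option autoImplicit false
set_option linter.style.haveILetI false
set_option linter.unusedSectionVars false
universe u
open CategoryTheory AlgebraicGeometry Limits TopologicalSpace Opposite
open Groth.Agent.Helper18OmLS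

namespace Groth.Agent.Helper18FS


section sect
variable {Z X Y Z' Z'' : Scheme.{u}} (i : Z ⟶ X) (p : X ⟶ Y)
    (hp : MoreMor.IsFormallySmoothHom p)
    (i' : Z ⟶ Z') (a : Z' ⟶ X) (hZ' : OmegaSh.IsUnivThickening i i' a)
    (i'' : Z ⟶ Z'') (b : Z'' ⟶ Y) (hZ'' : OmegaSh.IsUnivThickening (i ≫ p) i'' b)
    (k : Z' ⟶ Z'') (hk₁ : i' ≫ k = i'') (hk₂ : k ≫ b = a ≫ p)

include hp hZ' hZ'' hk₁ hk₂ in
/-- over an affine open `W''` of `Z''`, the morphism `k : Z' ⟶ Z''` of universal thickenings has a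
section compatible with the thickenings. -/
theorem exists_section (W'' : Z''.Opens) (hW'' : IsAffineOpen W'') :
    ∃ s : W''.toScheme ⟶ Z', (i'' ∣_ W'') ≫ s = (i'' ⁻¹ᵁ W'').ι ≫ i' ∧ s ≫ k = W''.ι := by
  haveI : IsAffine W''.toScheme := hW''
  have hj : MoreMor.IsFirstOrderThickening (i'' ∣_ W'') :=
    Groth.Agent.Lib.Helper20.IdealComap.isFirstOrderThickening_of_isPullback
      (isPullback_morphismRestrict i'' W'').flip hZ''.1
  have hw : (i'' ∣_ W'') ≫ (W''.ι ≫ b) = ((i'' ⁻¹ᵁ W'').ι ≫ i) ≫ p := by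
    rw [← Category.assoc, morphismRestrict_ι, Category.assoc, hZ''.2.1, Category.assoc]
  obtain ⟨l, hl1, hl2⟩ := exists_lift_affine p hp (i'' ∣_ W'') hj ((i'' ⁻¹ᵁ W'').ι ≫ i) (W''.ι ≫ b) hw
  obtain ⟨s, ⟨hs1, hs2⟩, -⟩ := hZ'.2.2 _ _ (i'' ∣_ W'') l (i'' ⁻¹ᵁ W'').ι hj hl1
  refine ⟨s, hs1, ?_⟩
  obtain ⟨t, -, ht⟩ := hZ''.2.2 _ _ (i'' ∣_ W'') (W''.ι ≫ b) (i'' ⁻¹ᵁ W'').ι hj hw
  have h1 : s ≫ k = t := ht _ ⟨by rw [← Category.assoc, hs1, Category.assoc, hk₁], by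
    rw [Category.assoc, hk₂, ← Category.assoc, hs2, hl2]⟩
  have h2 : W''.ι = t := ht _ ⟨morphismRestrict_ι i'' W'', rfl⟩
  rw [h1, h2]

end sect



section split
variable {Z Z' Z'' : Scheme.{u}} (i' : Z ⟶ Z') (i'' : Z ⟶ Z'') [IsClosedImmersion i']
  [IsClosedImmersion i''] (k : Z' ⟶ Z'')
  (ψ : (Scheme.Modules.pullback (𝟙 Z)).obj (Omega.conormal i'') ⟶ Omega.conormal i')
  (hψ : OmegaSh.IsConormalMap i' i'' k (𝟙 Z) ψ)
  (W'' : Z''.Opens) (s : W''.toScheme ⟶ Z')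
  (hs1 : (i'' ∣_ W'') ≫ s = (i'' ⁻¹ᵁ W'').ι ≫ i') (hs2 : s ≫ k = W''.ι)

include hψ hs1 hs2 in
theorem exists_retraction_pullback :
    ∃ r : (Scheme.Modules.pullback (i'' ⁻¹ᵁ W'').ι).obj (Omega.conormal i') ⟶
        (Scheme.Modules.pullback (i'' ⁻¹ᵁ W'').ι).obj
          ((Scheme.Modules.pullback (𝟙 Z)).obj (Omega.conormal i'')),
      (Scheme.Modules.pullback (i'' ⁻¹ᵁ W'').ι).map ψ ≫ r = 𝟙 _ := by
  haveI : IsClosedImmersion (i'' ∣_ W'') :=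
    MorphismProperty.of_isPullback (isPullback_morphismRestrict i'' W'').flip inferInstance
  obtain ⟨ρ, hρ, -, -⟩ := Groth.Agent.Helper18Con.exists_conormalMap (i'' ∣_ W'') i' s
    (i'' ⁻¹ᵁ W'').ι hs1.symm
  have hc := Groth.Agent.Helper18UT.isConormalMap_comp (i'' ∣_ W'') i' i'' s k (i'' ⁻¹ᵁ W'').ι (𝟙 Z)
    ρ hρ ψ hψ
  have hpb : IsPullback (i'' ∣_ W'') ((i'' ⁻¹ᵁ W'').ι ≫ 𝟙 Z) (s ≫ k) i'' := by
    rw [Category.comp_id, hs2]
    exact isPullback_morphismRestrict i'' W''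
  haveI : Flat (s ≫ k) := by rw [hs2]; infer_instance
  have hiso := (Groth.Agent.Helper18Con.main_S9372 (i'' ∣_ W'') i'' (s ≫ k)
    ((i'' ⁻¹ᵁ W'').ι ≫ 𝟙 Z) hpb _ hc).2 inferInstance
  set Θ := (Scheme.Modules.pullbackComp (i'' ⁻¹ᵁ W'').ι (𝟙 Z)).inv.app (Omega.conormal i'') ≫
        (Scheme.Modules.pullback (i'' ⁻¹ᵁ W'').ι).map ψ ≫ ρ with hΘ
  haveI := hiso
  refine ⟨ρ ≫ inv Θ ≫ (Scheme.Modules.pullbackComp (i'' ⁻¹ᵁ W'').ι (𝟙 Z)).inv.app _, ?_⟩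
  have h1 : (Scheme.Modules.pullback (i'' ⁻¹ᵁ W'').ι).map ψ ≫ ρ =
      (Scheme.Modules.pullbackComp (i'' ⁻¹ᵁ W'').ι (𝟙 Z)).hom.app (Omega.conormal i'') ≫ Θ := by
    rw [hΘ, Iso.hom_inv_id_app_assoc]
  rw [← Category.assoc, h1, Category.assoc, IsIso.hom_inv_id_assoc, Iso.hom_inv_id_app]
  rfl

include hψ hs1 hs2 in
theorem exists_retraction_restrict :
    ∃ r : (Scheme.Modules.restrictFunctor (i'' ⁻¹ᵁ W'').ι).obj (Omega.conormal i') ⟶
        (Scheme.Modules.restrictFunctor (i'' ⁻¹ᵁ W'').ι).obj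
          ((Scheme.Modules.pullback (𝟙 Z)).obj (Omega.conormal i'')),
      (Scheme.Modules.restrictFunctor (i'' ⁻¹ᵁ W'').ι).map ψ ≫ r = 𝟙 _ := by
  obtain ⟨r, hr⟩ := exists_retraction_pullback i' i'' k ψ hψ W'' s hs1 hs2
  let e := Scheme.Modules.restrictFunctorIsoPullback (i'' ⁻¹ᵁ W'').ι
  refine ⟨e.hom.app _ ≫ r ≫ e.inv.app _, ?_⟩
  rw [← Category.assoc, e.hom.naturality ψ, Category.assoc, ← Category.assoc _ r, hr,
    Category.id_comp, Iso.hom_inv_id_app]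

end split



theorem injective_app_of_eq {Z : Scheme.{u}} {M N : Z.Modules} (ψ : M ⟶ N) {A B : Z.Opens}
    (h : A = B) (hb : Function.Injective (ψ.app B)) : Function.Injective (ψ.app A) := by
  subst h; exact hb

theorem mono_of_local_split {Z : Scheme.{u}} {M N : Z.Modules} (ψ : M ⟶ N)
    (h : ∀ z : Z, ∃ (U : Z.Opens) (r : (Scheme.Modules.restrictFunctor U.ι).obj N ⟶
        (Scheme.Modules.restrictFunctor U.ι).obj M),
      z ∈ U ∧ (Scheme.Modules.restrictFunctor U.ι).map ψ ≫ r = 𝟙 _) : Mono ψ := by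
  refine mono_of_injective_app_basis ψ {W | ∃ (U : Z.Opens)
    (r : (Scheme.Modules.restrictFunctor U.ι).obj N ⟶ (Scheme.Modules.restrictFunctor U.ι).obj M),
      W ≤ U ∧ (Scheme.Modules.restrictFunctor U.ι).map ψ ≫ r = 𝟙 _} ?_ ?_
  · rw [Opens.isBasis_iff_nbhd]
    intro O z hz
    obtain ⟨U, r, hzU, hr⟩ := h z
    exact ⟨U ⊓ O, ⟨U, r, inf_le_left, hr⟩, ⟨hzU, hz⟩, inf_le_right⟩
  · rintro W ⟨U, r, hWU, hr⟩
    have h1 : Function.Injective (((Scheme.Modules.restrictFunctor U.ι).map ψ).app (U.ι ⁻¹ᵁ W)) := by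
      intro x y hxy
      have h2 := congrArg (fun θ => Scheme.Modules.Hom.app θ (U.ι ⁻¹ᵁ W)) hr
      simp only [Scheme.Modules.Hom.comp_app] at h2
      have hx := congr($h2 x)
      have hy := congr($h2 y)
      simp only [ConcreteCategory.comp_apply] at hx hy
      rw [hxy] at hx
      exact (hx.symm.trans hy)
    have h3 : U.ι ''ᵁ (U.ι ⁻¹ᵁ W) = W := by
      rw [Scheme.Hom.image_preimage_eq_opensRange_inf, Scheme.Opens.opensRange_ι]
      exact inf_eq_right.mpr hWU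
    exact injective_app_of_eq ψ h3.symm h1


section main
variable {Z X Y Z' Z'' : Scheme.{u}} (i : Z ⟶ X) (p : X ⟶ Y)
    (hp : MoreMor.IsFormallySmoothHom p)
    (i' : Z ⟶ Z') (a : Z' ⟶ X) (hZ' : OmegaSh.IsUnivThickening i i' a)
    (i'' : Z ⟶ Z'') (b : Z'' ⟶ Y) (hZ'' : OmegaSh.IsUnivThickening (i ≫ p) i'' b)
    (k : Z' ⟶ Z'') (hk₁ : i' ≫ k = i'') (hk₂ : k ≫ b = a ≫ p)
    (Ω : Z'.Modules) (d : OmegaSh.Der k Ω) (hd : OmegaSh.IsUniversal d)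
    (ψ : (Scheme.Modules.pullback (𝟙 Z)).obj (Omega.conormal i'') ⟶ Omega.conormal i')
    (hψ : OmegaSh.IsConormalMap i' i'' k (𝟙 Z) ψ)
    (φ : Omega.conormal i' ⟶ (Scheme.Modules.pullback i').obj Ω)
    (hφ : OmegaSh.IsConormalDiff i' d φ)

include hp hZ' hZ'' hk₁ hk₂ hd hψ hφ in
theorem main_S9786 :
    ∃ w : ψ ≫ φ = 0, (ShortComplex.mk ψ φ w).ShortExact ∧
      ∀ z : Z, ∃ (U : Z.Opens) (r : (Scheme.Modules.restrictFunctor U.ι).obj (Omega.conormal i') ⟶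
          (Scheme.Modules.restrictFunctor U.ι).obj
            ((Scheme.Modules.pullback (𝟙 Z)).obj (Omega.conormal i''))),
        z ∈ U ∧ (Scheme.Modules.restrictFunctor U.ι).map ψ ≫ r = 𝟙 _ := by
  haveI : IsClosedImmersion i' := hZ'.1.1.1
  haveI : IsClosedImmersion i'' := hZ''.1.1.1
  obtain ⟨w, hex, hepi⟩ := Groth.Agent.Helper18OmLS.main_S9375 k i' i'' hk₁ Ω d hd ψ hψ φ hφ
  have hsplit : ∀ z : Z, ∃ (U : Z.Opens)
      (r : (Scheme.Modules.restrictFunctor U.ι).obj (Omega.conormal i') ⟶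
        (Scheme.Modules.restrictFunctor U.ι).obj
          ((Scheme.Modules.pullback (𝟙 Z)).obj (Omega.conormal i''))),
      z ∈ U ∧ (Scheme.Modules.restrictFunctor U.ι).map ψ ≫ r = 𝟙 _ := by
    intro z
    obtain ⟨W'', hW'', hz, -⟩ := exists_isAffineOpen_mem_and_subset (x := i'' z)
      (U := (⊤ : Z''.Opens)) trivial
    obtain ⟨s, hs1, hs2⟩ := exists_section i p hp i' a hZ' i'' b hZ'' k hk₁ hk₂ W'' hW''
    obtain ⟨r, hr⟩ := exists_retraction_restrict i' i'' k ψ hψ W'' s hs1 hs2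
    exact ⟨i'' ⁻¹ᵁ W'', r, hz, hr⟩
  haveI : Mono ψ := mono_of_local_split ψ hsplit
  haveI : Epi φ := hepi
  exact ⟨w, ShortComplex.ShortExact.mk hex, hsplit⟩

end main

end Groth.Agent.Helper18FS
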