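import Mathlib
import Groth.Prelude.Def_SchFin2
import Groth.Agent.Lib.Helper18FEtAlg
import Groth.Agent.Lib.Helper18FEt

set_option autoImplicit false
set_option linter.style.haveILetI false
set_option linter.unusedSectionVars false
set_option warn.classDefReducibility false
namespace Groth.Agent.Lib.Helper18Fib

open SchFin SchFin.GeomPt TensorProduct CategoryTheory CategoryTheory.Limits
  Groth.Agent.Lib.Helper18FEtAlg Groth.Agent.Lib.Helper18FEt

universe u


section Pt

variable {R : Type u} [CommRing R] {Ω : Type u} [Field Ω] [IsAlgClosed Ω] [Algebra R Ω]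

/-- points ≃ fibre -/
noncomputable def ptEquiv (S : Type u) [CommRing S] [Algebra R S] [Module.Finite R S]
    [Algebra.Etale R S] : (S →ₐ[R] Ω) ≃ PrimeSpectrum (Ω ⊗[R] S) :=
  (Algebra.TensorProduct.liftEquivRight R Ω S Ω).trans
    (Algebra.IsFiniteSplit.algHomEquivPrimeSpectrum Ω (Ω ⊗[R] S))

theorem ptEquiv_asIdeal (S : Type u) [CommRing S] [Algebra R S] [Module.Finite R S]
    [Algebra.Etale R S] (χ : S →ₐ[R] Ω) :
    (ptEquiv S χ).asIdeal =
      RingHom.ker (Algebra.TensorProduct.lift (Algebra.ofId Ω Ω) χ fun _ _ => .all _ _) := rfl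

theorem ptEquiv_comap {S S' : Type u} [CommRing S] [Algebra R S] [Module.Finite R S]
    [Algebra.Etale R S] [CommRing S'] [Algebra R S'] [Module.Finite R S']
    [Algebra.Etale R S'] (φ : S →ₐ[R] S') (χ : S' →ₐ[R] Ω) :
    PrimeSpectrum.comap (Algebra.TensorProduct.map (AlgHom.id Ω Ω) φ).toRingHom (ptEquiv S' χ) =
      ptEquiv S (χ.comp φ) := by
  apply PrimeSpectrum.ext
  rw [ptEquiv_asIdeal, PrimeSpectrum.comap_asIdeal, ptEquiv_asIdeal]
  ext x
  rw [Ideal.mem_comap, RingHom.mem_ker, RingHom.mem_ker]
  have : ∀ x : Ω ⊗[R] S, (Algebra.TensorProduct.lift (Algebra.ofId Ω Ω) χ fun _ _ => .all _ _)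
      ((Algebra.TensorProduct.map (AlgHom.id Ω Ω) φ) x) =
      (Algebra.TensorProduct.lift (Algebra.ofId Ω Ω) (χ.comp φ) fun _ _ => .all _ _) x := by
    intro x
    induction x using TensorProduct.induction_on with
    | zero => simp
    | tmul a b => simp
    | add x y hx hy => simp only [map_add, hx, hy]
  exact Iff.of_eq (congrArg (· = 0) (this x))

/-- (T) -/
theorem unique_fib_self : Nonempty (Unique (PrimeSpectrum (Ω ⊗[R] R))) := by
  let e : (Ω ⊗[R] R) ≃+* Ω := (Algebra.TensorProduct.rid R Ω Ω).toRingEquiv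
  exact ⟨(PrimeSpectrum.comapEquiv e).unique⟩

/-- (P) -/
theorem fib_pullback {A B C P : Type u} [CommRing A] [Algebra R A] [Module.Finite R A]
    [Algebra.Etale R A] [CommRing B] [Algebra R B] [Module.Finite R B] [Algebra.Etale R B]
    [CommRing C] [Algebra R C] [Module.Finite R C] [Algebra.Etale R C]
    [CommRing P] [Algebra R P] [Module.Finite R P] [Algebra.Etale R P]
    (f : C →ₐ[R] A) (g : C →ₐ[R] B) (inl : A →ₐ[R] P) (inr : B →ₐ[R] P)
    (hex : ∀ (u : A →ₐ[R] Ω) (v : B →ₐ[R] Ω), u.comp f = v.comp g →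
      ∃ m : P →ₐ[R] Ω, m.comp inl = u ∧ m.comp inr = v)
    (huniq : ∀ m m' : P →ₐ[R] Ω, m.comp inl = m'.comp inl → m.comp inr = m'.comp inr → m = m') :
    (∀ x y : PrimeSpectrum (Ω ⊗[R] P),
      PrimeSpectrum.comap (Algebra.TensorProduct.map (AlgHom.id Ω Ω) inl).toRingHom x =
        PrimeSpectrum.comap (Algebra.TensorProduct.map (AlgHom.id Ω Ω) inl).toRingHom y ∧
      PrimeSpectrum.comap (Algebra.TensorProduct.map (AlgHom.id Ω Ω) inr).toRingHom x =
        PrimeSpectrum.comap (Algebra.TensorProduct.map (AlgHom.id Ω Ω) inr).toRingHom y → x = y) ∧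
    (∀ (a : PrimeSpectrum (Ω ⊗[R] A)) (b : PrimeSpectrum (Ω ⊗[R] B)),
      PrimeSpectrum.comap (Algebra.TensorProduct.map (AlgHom.id Ω Ω) f).toRingHom a =
        PrimeSpectrum.comap (Algebra.TensorProduct.map (AlgHom.id Ω Ω) g).toRingHom b →
      ∃ x : PrimeSpectrum (Ω ⊗[R] P),
        PrimeSpectrum.comap (Algebra.TensorProduct.map (AlgHom.id Ω Ω) inl).toRingHom x = a ∧
        PrimeSpectrum.comap (Algebra.TensorProduct.map (AlgHom.id Ω Ω) inr).toRingHom x = b) := by
  constructor
  · intro x y ⟨h1, h2⟩
    obtain ⟨m, rfl⟩ := (ptEquiv (Ω := Ω) P).surjective x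
    obtain ⟨m', rfl⟩ := (ptEquiv (Ω := Ω) P).surjective y
    rw [ptEquiv_comap, ptEquiv_comap] at h1 h2
    rw [huniq m m' ((ptEquiv A).injective h1) ((ptEquiv B).injective h2)]
  · intro a b hab
    obtain ⟨u, rfl⟩ := (ptEquiv (Ω := Ω) A).surjective a
    obtain ⟨v, rfl⟩ := (ptEquiv (Ω := Ω) B).surjective b
    rw [ptEquiv_comap, ptEquiv_comap] at hab
    obtain ⟨m, hm1, hm2⟩ := hex u v ((ptEquiv C).injective hab)
    exact ⟨ptEquiv P m, by rw [ptEquiv_comap, hm1], by rw [ptEquiv_comap, hm2]⟩

end Pt




section Pt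

variable {R : Type u} [CommRing R] {Ω : Type u} [Field Ω] [Algebra R Ω]

/-- (C) -/
theorem fib_coprod (A B : Type u) [CommRing A] [Algebra R A] [CommRing B] [Algebra R B] :
    Function.Bijective (Sum.elim
      (PrimeSpectrum.comap (Algebra.TensorProduct.map (AlgHom.id Ω Ω) (AlgHom.fst R A B)).toRingHom)
      (PrimeSpectrum.comap
        (Algebra.TensorProduct.map (AlgHom.id Ω Ω) (AlgHom.snd R A B)).toRingHom)) := by
  let e := Algebra.TensorProduct.prodRight R Ω Ω A B
  have h1 : (Algebra.TensorProduct.map (AlgHom.id Ω Ω) (AlgHom.fst R A B)).toRingHom =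
      (RingHom.fst _ _).comp e.toRingEquiv.toRingHom := by
    apply RingHom.ext
    intro x
    induction x using TensorProduct.induction_on with
    | zero => simp
    | tmul a b => simp [e]
    | add x y hx hy => simp only [map_add, hx, hy]
  have h2 : (Algebra.TensorProduct.map (AlgHom.id Ω Ω) (AlgHom.snd R A B)).toRingHom =
      (RingHom.snd _ _).comp e.toRingEquiv.toRingHom := by
    apply RingHom.ext
    intro x
    induction x using TensorProduct.induction_on with
    | zero => simp
    | tmul a b => simp [e]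
    | add x y hx hy => simp only [map_add, hx, hy]
  have h3 : Sum.elim
      (PrimeSpectrum.comap (Algebra.TensorProduct.map (AlgHom.id Ω Ω) (AlgHom.fst R A B)).toRingHom)
      (PrimeSpectrum.comap
        (Algebra.TensorProduct.map (AlgHom.id Ω Ω) (AlgHom.snd R A B)).toRingHom) =
      (PrimeSpectrum.comapEquiv e.toRingEquiv).symm ∘
        (PrimeSpectrum.primeSpectrumProd (Ω ⊗[R] A) (Ω ⊗[R] B)).symm := by
    funext x
    rcases x with x | x
    · rw [Sum.elim_inl, Function.comp_apply, PrimeSpectrum.primeSpectrumProd_symm_inl, h1]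
      rfl
    · rw [Sum.elim_inr, Function.comp_apply, PrimeSpectrum.primeSpectrumProd_symm_inr, h2]
      rfl
  rw [h3]
  exact (PrimeSpectrum.comapEquiv e.toRingEquiv).symm.bijective.comp
    (PrimeSpectrum.primeSpectrumProd (Ω ⊗[R] A) (Ω ⊗[R] B)).symm.bijective

theorem injective_baseChange (κ : Type u) [CommRing κ] [Algebra R κ] {A B : Type u}
    [CommRing A] [CommRing B] [Algebra R A] [Algebra R B]
    [Algebra.Etale R A] [Algebra.Etale R B] [Module.Finite R A] [Module.Finite R B]
    (f : A →ₐ[R] B) (hf : Function.Injective f) :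
    Function.Injective (Algebra.TensorProduct.map (AlgHom.id κ κ) f) := by
  letI : Algebra A B := f.toRingHom.toAlgebra
  haveI : IsScalarTower R A B := IsScalarTower.of_algebraMap_eq fun r => (f.commutes r).symm
  haveI : Module.Finite A B := Module.Finite.of_restrictScalars_finite R A B
  haveI : Module.FinitePresentation R B := Module.FinitePresentation.of_finite_of_finitePresentation R B
  haveI : Module.FinitePresentation R A := Module.FinitePresentation.of_finite_of_finitePresentation R A
  haveI : Module.Projective R B := Module.Flat.projective_of_finitePresentation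
  haveI : Module.Projective A B := Algebra.FormallyUnramified.projective_of_restrictScalars R A B
  haveI : Module.Flat A B := inferInstance
  have hinj : Function.Injective (algebraMap A B) := hf
  haveI : Module.FaithfullyFlat A B :=
    Module.FaithfullyFlat.of_comap_surjective
      (PrimeSpectrum.comap_surjective_iff_injective_of_finite.2 hinj)
  have h1 : Function.Injective (TensorProduct.mk A B (A ⊗[R] κ) 1) :=
    Module.FaithfullyFlat.tensorProduct_mk_injective (A ⊗[R] κ)
  have h2 : ∀ x : A ⊗[R] κ, f.toLinearMap.rTensor κ x =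
      (TensorProduct.AlgebraTensorModule.cancelBaseChange R A A B κ)
        (TensorProduct.mk A B (A ⊗[R] κ) 1 x) := by
    intro x
    induction x using TensorProduct.induction_on with
    | zero => simp
    | tmul a k =>
      simp only [LinearMap.rTensor_tmul, AlgHom.toLinearMap_apply, TensorProduct.mk_apply,
        TensorProduct.AlgebraTensorModule.cancelBaseChange_tmul]
      rw [Algebra.smul_def, mul_one]
      rfl
    | add x y hx hy => rw [map_add, map_add, map_add, hx, hy]
  have h3 : Function.Injective (f.toLinearMap.rTensor κ) := by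
    intro x y hxy
    rw [h2, h2] at hxy
    exact h1 ((TensorProduct.AlgebraTensorModule.cancelBaseChange R A A B κ).injective hxy)
  have h4 : ∀ x : κ ⊗[R] A, Algebra.TensorProduct.map (AlgHom.id κ κ) f x =
      (TensorProduct.comm R B κ) (f.toLinearMap.rTensor κ ((TensorProduct.comm R κ A) x)) := by
    intro x
    induction x using TensorProduct.induction_on with
    | zero => simp
    | tmul k a => simp
    | add x y hx hy => rw [map_add, map_add, map_add, map_add, hx, hy]
  intro x y hxy
  rw [h4, h4] at hxy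
  exact (TensorProduct.comm R κ A).injective (h3 ((TensorProduct.comm R B κ).injective hxy))

/-- (E) -/
theorem fib_surjective {A B : Type u}
    [CommRing A] [CommRing B] [Algebra R A] [Algebra R B]
    [Algebra.Etale R A] [Algebra.Etale R B] [Module.Finite R A] [Module.Finite R B]
    (f : A →ₐ[R] B) (hf : Function.Injective f) :
    Function.Surjective
      (PrimeSpectrum.comap (Algebra.TensorProduct.map (AlgHom.id Ω Ω) f).toRingHom) := by
  apply RingHom.IsIntegral.comap_surjective
  · apply RingHom.IsIntegral.tower_top (algebraMap Ω (Ω ⊗[R] A))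
    have : (Algebra.TensorProduct.map (AlgHom.id Ω Ω) f).toRingHom.comp (algebraMap Ω (Ω ⊗[R] A)) =
        algebraMap Ω (Ω ⊗[R] B) := by
      apply RingHom.ext
      intro x
      exact (Algebra.TensorProduct.map (AlgHom.id Ω Ω) f).commutes x
    rw [this]
    exact algebraMap_isIntegral_iff.2 inferInstance
  · exact injective_baseChange Ω f hf

end Pt




section PurePush

variable {R A B C T : Type u} [CommRing R] [CommRing A] [CommRing B] [CommRing C] [CommRing T]
  [Algebra R A] [Algebra R B] [Algebra R C] [Algebra R T]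

theorem push_exists (f : C →ₐ[R] A) (g : C →ₐ[R] B) (u : A →ₐ[R] T) (v : B →ₐ[R] T)
    (huv : ∀ c, v (g c) = u (f c)) {ε : C ⊗[R] C}
    (hε : ε ∈ RingHom.ker (Algebra.TensorProduct.lmul' R (S := C))) :
    ∃ m : (A ⊗[R] B ⧸ Ideal.span {Algebra.TensorProduct.map f g ε}) →ₐ[R] T,
      (∀ a, m (Ideal.Quotient.mk _ (a ⊗ₜ 1)) = u a) ∧
      (∀ b, m (Ideal.Quotient.mk _ (1 ⊗ₜ b)) = v b) := by
  refine ⟨Ideal.Quotient.liftₐ _ (Algebra.TensorProduct.productMap u v) ?_, ?_, ?_⟩
  · intro a ha
    obtain ⟨b, rfl⟩ := Ideal.mem_span_singleton'.1 ha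
    rw [map_mul, push_kill f g u v huv hε, mul_zero]
  · intro a
    change Algebra.TensorProduct.productMap u v (a ⊗ₜ 1) = _
    rw [Algebra.TensorProduct.productMap_apply_tmul, map_one, mul_one]
  · intro b
    change Algebra.TensorProduct.productMap u v (1 ⊗ₜ b) = _
    rw [Algebra.TensorProduct.productMap_apply_tmul, map_one, one_mul]

theorem push_unique (I : Ideal (A ⊗[R] B)) (m m' : (A ⊗[R] B ⧸ I) →ₐ[R] T)
    (hl : ∀ a, m (Ideal.Quotient.mk I (a ⊗ₜ 1)) = m' (Ideal.Quotient.mk I (a ⊗ₜ 1)))
    (hr : ∀ b, m (Ideal.Quotient.mk I (1 ⊗ₜ b)) = m' (Ideal.Quotient.mk I (1 ⊗ₜ b))) :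
    m = m' := by
  apply AlgHom.ext
  intro x
  obtain ⟨x, rfl⟩ := Ideal.Quotient.mk_surjective x
  let u : A →ₐ[R] T := (m'.comp (Ideal.Quotient.mkₐ R I)).comp Algebra.TensorProduct.includeLeft
  let v : B →ₐ[R] T := (m'.comp (Ideal.Quotient.mkₐ R I)).comp Algebra.TensorProduct.includeRight
  rw [push_uniq I u v m hl hr x, push_uniq I u v m' (fun _ => rfl) (fun _ => rfl) x]

end PurePush

variable {X : RSpace.{u}}

theorem exists_pushout (hflat : ∀ (p q : X.pt) (h : p ≤ q), (X.res h).Flat)
    {A B C : FEt X} (f : C ⟶ A) (g : C ⟶ B) :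
    ∃ (P : FEt X) (inl : A ⟶ P) (inr : B ⟶ P) (hcomm : f ≫ inl = g ≫ inr),
      Nonempty (IsColimit (PushoutCocone.mk inl inr hcomm)) ∧
      ∀ (p : X.pt) (T : Type u) [CommRing T] [Algebra (X.ring p) T],
        (∀ (u : A.obj.carrier p →ₐ[X.ring p] T) (v : B.obj.carrier p →ₐ[X.ring p] T),
          (∀ c, v (g.hom.app p c) = u (f.hom.app p c)) →
          ∃ m : P.obj.carrier p →ₐ[X.ring p] T,
            (∀ a, m (inl.hom.app p a) = u a) ∧ (∀ b, m (inr.hom.app p b) = v b)) ∧
        (∀ m m' : P.obj.carrier p →ₐ[X.ring p] T,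
          (∀ a, m (inl.hom.app p a) = m' (inl.hom.app p a)) →
          (∀ b, m (inr.hom.app p b) = m' (inr.hom.app p b)) → m = m') := by
  obtain ⟨ε, hεid, hεker, hε⟩ := exists_kerIdem hflat
    (tensAlg_isEtCover C.property C.property) C.property (tensMul C.obj)
  let φ := tensMap f.hom g.hom
  let e : ∀ p, (tensAlg A.obj B.obj).carrier p := fun p => φ.app p (ε p)
  have he : ∀ {p q : X.pt} (h : p ≤ q), (tensAlg A.obj B.obj).res h (e p) = e q := by
    intro p q h
    change (tensAlg A.obj B.obj).res h (φ.app p (ε p)) = φ.app q (ε q)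
    rw [φ.compat, hε h]
  have hid : ∀ p, IsIdempotentElem (e p) := fun p => (hεid p).map (φ.app p)
  let P : FEt X := ⟨quotAlg (tensAlg A.obj B.obj) e he,
    quotAlg_isEtCover _ e he (tensAlg_isEtCover A.property B.property) hid⟩
  let inl : A ⟶ P := ObjectProperty.homMk (tensInl A.obj B.obj ≫ quotAlg.π _ e he)
  let inr : B ⟶ P := ObjectProperty.homMk (tensInr A.obj B.obj ≫ quotAlg.π _ e he)
  have hcomm : f ≫ inl = g ≫ inr := by
    apply ObjectProperty.hom_ext
    apply Alg.hom_ext
    intro p
    apply AlgHom.ext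
    intro c
    exact Ideal.Quotient.eq.2 (push_comm (f.hom.app p) (g.hom.app p) (hεker p) c)
  have h5 : ∀ p, ε p ∈ RingHom.ker ((tensMul C.obj).app p) := by
    intro p
    rw [hεker p]; exact Ideal.subset_span rfl
  have hkill : ∀ (s : PushoutCocone f g) (p : X.pt),
      (tensDesc s.inl.hom s.inr.hom).app p (e p) = 0 := by
    intro s p
    have hc : ∀ c, s.inr.hom.app p (g.hom.app p c) = s.inl.hom.app p (f.hom.app p c) := by
      intro c
      have := s.condition
      have h3 : (f ≫ s.inl).hom.app p c = (g ≫ s.inr).hom.app p c := by rw [this]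
      exact h3.symm
    exact push_kill (f.hom.app p) (g.hom.app p) (s.inl.hom.app p) (s.inr.hom.app p) hc (h5 p)
  let desc : ∀ s : PushoutCocone f g, P ⟶ s.pt := fun s =>
    ObjectProperty.homMk (quotAlg.lift _ e he (tensDesc s.inl.hom s.inr.hom) (hkill s))
  refine ⟨P, inl, inr, hcomm, ⟨PushoutCocone.IsColimit.mk hcomm desc ?_ ?_ ?_⟩, ?_⟩
  · intro s
    apply ObjectProperty.hom_ext
    apply Alg.hom_ext
    intro p
    apply AlgHom.ext
    intro a
    change Algebra.TensorProduct.productMap (s.inl.hom.app p) (s.inr.hom.app p) (a ⊗ₜ 1) = _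
    rw [Algebra.TensorProduct.productMap_apply_tmul, map_one, mul_one]
  · intro s
    apply ObjectProperty.hom_ext
    apply Alg.hom_ext
    intro p
    apply AlgHom.ext
    intro b
    change Algebra.TensorProduct.productMap (s.inl.hom.app p) (s.inr.hom.app p) (1 ⊗ₜ b) = _
    rw [Algebra.TensorProduct.productMap_apply_tmul, map_one, one_mul]
  · intro s m hm1 hm2
    apply ObjectProperty.hom_ext
    apply Alg.hom_ext
    intro p
    apply AlgHom.ext
    intro x
    obtain ⟨x, rfl⟩ := Ideal.Quotient.mk_surjective x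
    have hl : ∀ a, m.hom.app p (Ideal.Quotient.mk _ (a ⊗ₜ 1)) = s.inl.hom.app p a := by
      intro a
      have : (inl ≫ m).hom.app p a = s.inl.hom.app p a := by rw [hm1]
      exact this
    have hr : ∀ b, m.hom.app p (Ideal.Quotient.mk _ (1 ⊗ₜ b)) = s.inr.hom.app p b := by
      intro b
      have : (inr ≫ m).hom.app p b = s.inr.hom.app p b := by rw [hm2]
      exact this
    exact push_uniq (Ideal.span {e p}) (s.inl.hom.app p) (s.inr.hom.app p) (m.hom.app p) hl hr x
  · intro p T _ _
    refine ⟨?_, ?_⟩
    · intro u v huv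
      exact push_exists (f.hom.app p) (g.hom.app p) u v huv (h5 p)
    · intro m m' h1 h2
      exact push_unique (Ideal.span {e p}) m m' h1 h2




/-- (T) -/
noncomputable def uniqueFibSelf (R : Type u) [CommRing R] (Ω : Type u) [Field Ω] [Algebra R Ω] :
    Unique (PrimeSpectrum (Ω ⊗[R] R)) :=
  (PrimeSpectrum.comapEquiv (Algebra.TensorProduct.rid R Ω Ω).toRingEquiv).unique

variable {X : RSpace.{u}}

/-- the initial object of `FEt X` -/
noncomputable def strObj (X : RSpace.{u}) : FEt X := ⟨Alg.str X, str_isEtCover⟩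

noncomputable def strObj_isInitial : IsInitial (strObj X) :=
  IsInitial.ofUniqueHom
    (fun C => ObjectProperty.homMk
      ⟨fun p => Algebra.ofId (X.ring p) (C.obj.carrier p), fun {p q} h a =>
        C.obj.res_algebraMap h a⟩)
    (fun C m => by
      apply ObjectProperty.hom_ext
      apply Alg.hom_ext
      intro p
      apply AlgHom.ext
      intro a
      exact (m.hom.app p).commutes a)

variable {Ω : Type u} [Field Ω] [IsAlgClosed Ω] (ξ : GeomPt X Ω)

theorem preservesTerminal : PreservesLimitsOfShape (Discrete PEmpty.{1}) ξ.fibFunctor := by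
  haveI : PreservesLimit (Functor.empty.{0} (FEt X)ᵒᵖ) ξ.fibFunctor := by
    apply preservesLimit_of_preserves_limit_cone (terminalOpOfInitial (strObj_isInitial (X := X)))
    refine (isLimitMapConeEmptyConeEquiv ξ.fibFunctor (Opposite.op (strObj X))).symm ?_
    letI : Algebra (X.ring ξ.base) Ω := ξ.toField.toAlgebra
    haveI : Unique (ξ.fibFunctor.obj (Opposite.op (strObj X))) := uniqueFibSelf (X.ring ξ.base) Ω
    exact IsTerminal.ofUniqueHom (fun Y => FintypeCat.homMk fun _ => default)
      (fun Y m => by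
        apply FintypeCat.hom_ext
        intro y
        exact Subsingleton.elim _ _)
  exact preservesLimitsOfShape_pempty_of_preservesTerminal ξ.fibFunctor




variable {X : RSpace.{u}}
variable {Ω : Type u} [Field Ω] [IsAlgClosed Ω] (ξ : GeomPt X Ω)

theorem preservesPullbacks (hflat : ∀ (p q : X.pt) (h : p ≤ q), (X.res h).Flat) :
    PreservesLimitsOfShape WalkingCospan ξ.fibFunctor := by
  constructor
  intro K
  haveI : PreservesLimit (cospan (K.map WalkingCospan.Hom.inl) (K.map WalkingCospan.Hom.inr))
      ξ.fibFunctor := by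
    generalize K.map WalkingCospan.Hom.inl = f
    generalize K.map WalkingCospan.Hom.inr = g
    generalize K.obj WalkingCospan.left = A at f
    generalize K.obj WalkingCospan.right = B at g
    generalize K.obj WalkingCospan.one = C at f g
    obtain ⟨P, inl, inr, hcomm, ⟨hP⟩, hpt⟩ := exists_pushout hflat f.unop g.unop
    have hpo : IsPushout f.unop g.unop inl inr := IsPushout.of_isColimit hP
    have hpb : IsPullback inl.op inr.op f g := hpo.op.flip
    apply preservesLimit_of_preserves_limit_cone hpb.isLimit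
    refine (isLimitMapConePullbackConeEquiv ξ.fibFunctor hpb.w).symm ?_
    have hpb' : IsPullback (ξ.fibFunctor.map inl.op) (ξ.fibFunctor.map inr.op)
        (ξ.fibFunctor.map f) (ξ.fibFunctor.map g) := by
      apply IsPullback.of_map FintypeCat.incl
        (by rw [← Functor.map_comp, ← Functor.map_comp, hpb.w])
      rw [Types.isPullback_iff]
      refine ⟨by rw [← Functor.map_comp, ← Functor.map_comp, ← Functor.map_comp,
        ← Functor.map_comp, hpb.w], ?_⟩
      letI : Algebra (X.ring ξ.base) Ω := ξ.toField.toAlgebra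
      haveI := (A.unop.property.2 ξ.base).1
      haveI := (A.unop.property.2 ξ.base).2
      haveI := (B.unop.property.2 ξ.base).1
      haveI := (B.unop.property.2 ξ.base).2
      haveI := (C.unop.property.2 ξ.base).1
      haveI := (C.unop.property.2 ξ.base).2
      haveI := (P.property.2 ξ.base).1
      haveI := (P.property.2 ξ.base).2
      obtain ⟨hex, huniq⟩ := hpt ξ.base Ω
      exact fib_pullback (Ω := Ω) (f.unop.hom.app ξ.base) (g.unop.hom.app ξ.base)
        (inl.hom.app ξ.base) (inr.hom.app ξ.base)
        (fun u v huv => by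
          obtain ⟨m, h1, h2⟩ := hex u v (fun c => (AlgHom.congr_fun huv c).symm)
          exact ⟨m, AlgHom.ext h1, AlgHom.ext h2⟩)
        (fun m m' h1 h2 => huniq m m' (AlgHom.congr_fun h1) (AlgHom.congr_fun h2))
    exact hpb'.isLimit
  exact preservesLimit_of_iso_diagram ξ.fibFunctor (diagramIsoCospan K).symm




variable {X : RSpace.{u}}

/-- the terminal object of `FEt X` -/
noncomputable def zeroObj (X : RSpace.{u}) : FEt X := ⟨zeroAlg X, zeroAlg_isEtCover⟩

instance zeroObj_subsingleton (p : X.pt) : Subsingleton ((zeroObj X).obj.carrier p) :=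
  zeroAlg_subsingleton p

noncomputable def zeroObj_isTerminal : IsTerminal (zeroObj X) :=
  IsTerminal.ofUniqueHom
    (fun C => ObjectProperty.homMk
      ⟨fun p =>
        { toFun := fun _ => 0
          map_one' := Subsingleton.elim _ _
          map_mul' := fun _ _ => Subsingleton.elim _ _
          map_zero' := rfl
          map_add' := fun _ _ => Subsingleton.elim _ _
          commutes' := fun _ => Subsingleton.elim _ _ },
        fun _ _ => Subsingleton.elim _ _⟩)
    (fun C m => by
      apply ObjectProperty.hom_ext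
      apply Alg.hom_ext
      intro p
      apply AlgHom.ext
      intro c
      exact Subsingleton.elim _ _)

theorem isEmpty_fib_of_subsingleton (R : Type u) [CommRing R] (Ω : Type u) [Field Ω] [Algebra R Ω]
    (S : Type u) [CommRing S] [Algebra R S] [Subsingleton S] :
    IsEmpty (PrimeSpectrum (Ω ⊗[R] S)) := by
  haveI : Subsingleton (Ω ⊗[R] S) := by
    refine ⟨fun a b => ?_⟩
    have h : ∀ x : Ω ⊗[R] S, x = 0 := by
      intro x
      induction x using TensorProduct.induction_on with
      | zero => rfl
      | tmul a b => rw [Subsingleton.elim b 0, TensorProduct.tmul_zero]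
      | add x y hx hy => rw [hx, hy, add_zero]
    rw [h a, h b]
  infer_instance

theorem bijective_sumElim_iff {α β γ : Type u} (f : α → γ) (g : β → γ)
    (h : Function.Bijective (Sum.elim f g)) :
    Function.Injective f ∧ Function.Injective g ∧ IsCompl (Set.range f) (Set.range g) := by
  obtain ⟨hi, hs⟩ := h
  rw [Sum.elim_injective] at hi
  refine ⟨hi.1, hi.2.1, ?_⟩
  rw [isCompl_iff]
  constructor
  · rw [Set.disjoint_left]
    rintro x ⟨a, rfl⟩ ⟨b, hb⟩
    exact hi.2.2 a b hb.symm
  · rw [codisjoint_iff]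
    change Set.range f ∪ Set.range g = Set.univ
    rw [← Set.Sum.elim_range, Set.range_eq_univ.2 hs]

variable {Ω : Type u} [Field Ω] [IsAlgClosed Ω] (ξ : GeomPt X Ω)

theorem preservesFiniteCoproducts : PreservesFiniteCoproducts ξ.fibFunctor := by
  haveI : HasTerminal (FEt X) := hasTerminal
  haveI : HasBinaryProducts (FEt X) := hasBinaryProducts
  haveI : HasFiniteProducts (FEt X) := hasFiniteProducts_of_has_binary_and_terminal
  haveI : HasFiniteCoproducts (FEt X)ᵒᵖ := inferInstance
  haveI : PreservesColimitsOfShape (Discrete PEmpty.{1}) ξ.fibFunctor := by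
    haveI : PreservesColimit (Functor.empty.{0} (FEt X)ᵒᵖ) ξ.fibFunctor := by
      apply preservesColimit_of_preserves_colimit_cocone
        (initialOpOfTerminal (zeroObj_isTerminal (X := X)))
      refine (isColimitMapCoconeEmptyCoconeEquiv ξ.fibFunctor (Opposite.op (zeroObj X))).symm ?_
      letI : Algebra (X.ring ξ.base) Ω := ξ.toField.toAlgebra
      haveI : IsEmpty (ξ.fibFunctor.obj (Opposite.op (zeroObj X))) :=
        isEmpty_fib_of_subsingleton (X.ring ξ.base) Ω ((zeroAlg X).carrier ξ.base)
      exact IsInitial.ofUniqueHom (fun Y => FintypeCat.homMk fun x => isEmptyElim x)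
        (fun Y m => by
          apply FintypeCat.hom_ext
          intro y
          exact isEmptyElim y)
    exact preservesColimitsOfShape_pempty_of_preservesInitial ξ.fibFunctor
  haveI : PreservesColimitsOfShape (Discrete WalkingPair) ξ.fibFunctor := by
    constructor
    intro K
    haveI : PreservesColimit (pair (K.obj ⟨WalkingPair.left⟩) (K.obj ⟨WalkingPair.right⟩))
        ξ.fibFunctor := by
      generalize K.obj ⟨WalkingPair.left⟩ = A
      generalize K.obj ⟨WalkingPair.right⟩ = B
      let P : FEt X := ⟨prodAlg A.unop.obj B.unop.obj,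
        prodAlg_isEtCover A.unop.property B.unop.property⟩
      let f : P ⟶ A.unop := ObjectProperty.homMk (prodAlg.fst A.unop.obj B.unop.obj)
      let g : P ⟶ B.unop := ObjectProperty.homMk (prodAlg.snd A.unop.obj B.unop.obj)
      have hl : Nonempty (IsLimit (BinaryFan.mk f g)) := by
        apply isLimit_of_bijective
        intro p
        constructor
        · intro a b hab; exact hab
        · intro b; exact ⟨b, rfl⟩
      obtain ⟨hl⟩ := hl
      have hc : IsColimit (BinaryCofan.mk f.op g.op) :=
        BinaryCofan.IsColimit.mk _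
          (fun {T} u v => (BinaryFan.IsLimit.lift' hl u.unop v.unop).1.op)
          (fun {T} u v => Quiver.Hom.unop_inj (BinaryFan.IsLimit.lift' hl u.unop v.unop).2.1)
          (fun {T} u v => Quiver.Hom.unop_inj (BinaryFan.IsLimit.lift' hl u.unop v.unop).2.2)
          (fun {T} u v m h1 h2 => Quiver.Hom.unop_inj (by
            apply BinaryFan.IsLimit.hom_ext hl
            · exact (congrArg Quiver.Hom.unop h1).trans
                (BinaryFan.IsLimit.lift' hl u.unop v.unop).2.1.symm
            · exact (congrArg Quiver.Hom.unop h2).trans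
                (BinaryFan.IsLimit.lift' hl u.unop v.unop).2.2.symm))
      apply preservesColimit_of_preserves_colimit_cocone hc
      refine (isColimitMapCoconeBinaryCofanEquiv ξ.fibFunctor f.op g.op).symm ?_
      apply isColimitOfReflects FintypeCat.incl
      refine (isColimitMapCoconeBinaryCofanEquiv FintypeCat.incl _ _).symm ?_
      apply Nonempty.some
      rw [Types.binaryCofan_isColimit_iff]
      letI : Algebra (X.ring ξ.base) Ω := ξ.toField.toAlgebra
      exact bijective_sumElim_iff _ _
        (fib_coprod (Ω := Ω) (A.unop.obj.carrier ξ.base) (B.unop.obj.carrier ξ.base))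
    exact preservesColimit_of_iso_diagram ξ.fibFunctor (diagramIsoPair K).symm
  exact ⟨fun n => PreservesFiniteCoproducts.of_preserves_binary_and_initial _ _⟩




variable {X : RSpace.{u}}
variable {Ω : Type u} [Field Ω] [IsAlgClosed Ω] (ξ : GeomPt X Ω)

theorem preservesEpimorphisms (hflat : ∀ (p q : X.pt) (h : p ≤ q), (X.res h).Flat) :
    ξ.fibFunctor.PreservesEpimorphisms := by
  constructor
  intro A B f hf
  haveI : Mono f.unop := unop_mono_of_epi f
  have hinj := main26 hflat f.unop ξ.base
  letI : Algebra (X.ring ξ.base) Ω := ξ.toField.toAlgebra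
  haveI := (A.unop.property.2 ξ.base).1
  haveI := (A.unop.property.2 ξ.base).2
  haveI := (B.unop.property.2 ξ.base).1
  haveI := (B.unop.property.2 ξ.base).2
  have hsurj : Function.Surjective (ξ.fibMap f.unop.hom) :=
    fib_surjective (Ω := Ω) (f.unop.hom.app ξ.base) hinj
  exact ConcreteCategory.epi_of_surjective _ hsurj


/-- S15633 -/
theorem main33 {X : RSpace.{u}} (hflat : ∀ (p q : X.pt) (h : p ≤ q), (X.res h).Flat)
    {Ω : Type u} [Field Ω] [IsAlgClosed Ω] (ξ : GeomPt X Ω) :
    PreservesLimitsOfShape (Discrete PEmpty.{1}) ξ.fibFunctor ∧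
      PreservesLimitsOfShape WalkingCospan ξ.fibFunctor ∧
      PreservesFiniteCoproducts ξ.fibFunctor ∧ ξ.fibFunctor.PreservesEpimorphisms :=
  ⟨preservesTerminal ξ, preservesPullbacks ξ hflat, preservesFiniteCoproducts ξ,
    preservesEpimorphisms ξ hflat⟩


theorem connected_of_idem_trivial {R : Type*} [CommRing R] [Nontrivial R]
    (h : ∀ e : R, IsIdempotentElem e → e = 0 ∨ e = 1) : ConnectedSpace (PrimeSpectrum R) := by
  rw [connectedSpace_iff_clopen]
  refine ⟨inferInstance, fun s hs => ?_⟩
  obtain ⟨e, he, rfl⟩ := PrimeSpectrum.isClopen_iff.1 hs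
  rcases h e he with rfl | rfl
  · left; simp
  · right; simp

variable {X : RSpace.{u}}

theorem main10 : X.IsWellConnected ↔ (X.IsTopConnected ∧ X.IsPwConnected) := by
  constructor
  · intro hwc
    refine ⟨⟨?_, topConnected_of_wellConnected hwc⟩, hwc.2⟩
    by_contra hne
    rw [not_nonempty_iff] at hne
    haveI : ConnectedSpace (PrimeSpectrum (X.sectRing Set.univ)) := hwc.1
    haveI : Nontrivial (X.sectRing Set.univ) :=
      (PrimeSpectrum.nonempty_iff_nontrivial).1 (ConnectedSpace.toNonempty)
    have : (0 : X.sectRing Set.univ) = 1 := by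
      apply Subtype.ext
      funext r
      exact (hne.false r.1).elim
    exact zero_ne_one this
  · rintro ⟨⟨⟨p₀⟩, hzz⟩, hpw⟩
    refine ⟨?_, hpw⟩
    have hnt : ∀ r : X.pt, Nontrivial (X.ring r) := fun r => by
      haveI := hpw r
      exact (PrimeSpectrum.nonempty_iff_nontrivial).1 inferInstance
    haveI : Nontrivial (X.sectRing Set.univ) := by
      refine ⟨⟨0, 1, fun h => ?_⟩⟩
      have h2 := congrArg (fun s : X.sectRing Set.univ => s.1 ⟨p₀, trivial⟩) h
      haveI := hnt p₀
      exact zero_ne_one h2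
    apply connected_of_idem_trivial
    intro e he
    have hep : ∀ r : X.pt, e.1 ⟨r, trivial⟩ = 0 ∨ e.1 ⟨r, trivial⟩ = 1 := by
      intro r
      haveI := hpw r
      apply idem_trivial_of_connected
      have := congrArg (fun s : X.sectRing Set.univ => s.1 ⟨r, trivial⟩) he
      exact this
    have hcompat : ∀ {r r' : X.pt} (h : r ≤ r'), X.res h (e.1 ⟨r, trivial⟩) = e.1 ⟨r', trivial⟩ :=
      fun {r r'} h => e.2 ⟨r, trivial⟩ ⟨r', trivial⟩ h
    have hstep : ∀ {r r' : X.pt}, r ≤ r' → (e.1 ⟨r, trivial⟩ = 1 ↔ e.1 ⟨r', trivial⟩ = 1) := by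
      intro r r' h
      constructor
      · intro h1
        rw [← hcompat h, h1, map_one]
      · intro h1
        rcases hep r with h0 | h0
        · exfalso
          rw [← hcompat h, h0, map_zero] at h1
          haveI := hnt r'
          exact zero_ne_one h1
        · exact h0
    have hall : ∀ r r' : X.pt, Relation.EqvGen (fun a b : X.pt => a ≤ b) r r' →
        (e.1 ⟨r, trivial⟩ = 1 ↔ e.1 ⟨r', trivial⟩ = 1) := by
      intro r r' h
      induction h with
      | rel a b hab => exact hstep hab
      | refl a => exact Iff.rfl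
      | symm a b _ ih => exact ih.symm
      | trans a b c _ _ ih1 ih2 => exact ih1.trans ih2
    rcases hep p₀ with h0 | h1
    · left
      apply Subtype.ext
      funext r
      rcases hep r.1 with h | h
      · exact h
      · exfalso
        have h2 := (hall r.1 p₀ (hzz r.1 p₀)).1 h
        rw [h0] at h2
        haveI := hnt p₀
        exact zero_ne_one h2
    · right
      apply Subtype.ext
      funext r
      exact (hall p₀ r.1 (hzz p₀ r.1)).1 h1


end Groth.Agent.Lib.Helper18Fib
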