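import Mathlib
import Groth.Agent.Lib.Helper18GrAlgA

set_option autoImplicit false

namespace Groth.Agent.Helper18PolyAlg

open CategoryTheory CategoryTheory.Limits AlgebraicGeometry Opposite TopologicalSpace Polynomial
open Groth.Agent.Helper18GrAlgA
open scoped HomogeneousIdeal DirectSum

universe u

section ring

variable (R : Type*) [CommRing R]

/-- the standard grading of `R[X]`, by additive subgroups -/
noncomputable def polyDeg (d : ℕ) : AddSubgroup R[X] :=
  comapDeg (Polynomial.toFinsuppIso R) (AddMonoidAlgebra.grade R) d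

noncomputable instance : GradedRing (polyDeg R) :=
  gradedRing_comapDeg (Polynomial.toFinsuppIso R) (AddMonoidAlgebra.grade R)

theorem mem_polyDeg_iff (d : ℕ) (p : R[X]) : p ∈ polyDeg R d ↔ p.support ⊆ {d} := by
  change (Polynomial.toFinsuppIso R p) ∈ AddMonoidAlgebra.grade R d ↔ _
  rw [AddMonoidAlgebra.mem_grade_iff]
  rfl

theorem polyMonomial_mem (d : ℕ) (a : R) : monomial d a ∈ polyDeg R d := by
  rw [mem_polyDeg_iff]
  exact Polynomial.support_monomial_subset d a

theorem polyC_mem (a : R) : (C a : R[X]) ∈ polyDeg R 0 := by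
  rw [← monomial_zero_left]; exact polyMonomial_mem R 0 a

theorem polyX_mem : (X : R[X]) ∈ polyDeg R 1 := by
  rw [← monomial_one_one_eq_X]; exact polyMonomial_mem R 1 1

theorem eq_monomial_of_mem {d : ℕ} {p : R[X]} (hp : p ∈ polyDeg R d) : p = monomial d (p.coeff d) := by
  rw [mem_polyDeg_iff] at hp
  ext n
  rw [coeff_monomial]
  split_ifs with h
  · rw [h]
  · by_contra hne
    have : n ∈ p.support := Polynomial.mem_support_iff.mpr hne
    have := hp this
    rw [Finset.mem_singleton] at this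
    exact h this.symm

theorem polyMap_mem {R' : Type*} [CommRing R'] (φ : R →+* R') {d : ℕ} {p : R[X]} (hp : p ∈ polyDeg R d) :
    Polynomial.mapRingHom φ p ∈ polyDeg R' d := by
  rw [eq_monomial_of_mem R hp]
  change Polynomial.map φ (monomial d (p.coeff d)) ∈ _
  rw [Polynomial.map_monomial]
  exact polyMonomial_mem R' d _

theorem closure_eq_top :
    Subring.closure ((polyDeg R 0 : Set R[X]) ∪ (polyDeg R 1 : Set R[X])) = ⊤ := by
  have key : ∀ p : R[X], p ∈ Subring.closure ((polyDeg R 0 : Set R[X]) ∪ (polyDeg R 1 : Set R[X])) := by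
    intro p
    induction p using Polynomial.induction_on' with
    | add p q hp hq => exact Subring.add_mem _ hp hq
    | monomial n a =>
      rw [← C_mul_X_pow_eq_monomial]
      refine Subring.mul_mem _ (Subring.subset_closure (Or.inl (polyC_mem R a))) ?_
      have hX : (X : R[X]) ∈ Subring.closure ((polyDeg R 0 : Set R[X]) ∪ (polyDeg R 1 : Set R[X])) :=
        Subring.subset_closure (Or.inr (polyX_mem R))
      exact pow_mem hX n
  exact eq_top_iff.mpr fun p _ => key p

end ring

section sheaf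

open Scheme.AffineZariskiSite Groth.Agent.Helper13QCAlgOfAffine

/-- the polynomial functor on commutative rings -/
noncomputable def polyF : CommRingCat.{u} ⥤ CommRingCat.{u} where
  obj R := CommRingCat.of (Polynomial R)
  map φ := CommRingCat.ofHom (Polynomial.mapRingHom φ.hom)
  map_id R := by
    refine CommRingCat.hom_ext (RingHom.ext fun p => ?_)
    change Polynomial.map (RingHom.id R) p = p
    exact Polynomial.map_id
  map_comp φ ψ := by
    refine CommRingCat.hom_ext (RingHom.ext fun p => ?_)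
    change Polynomial.map (ψ.hom.comp φ.hom) p = Polynomial.map ψ.hom (Polynomial.map φ.hom p)
    rw [Polynomial.map_map]

variable {S : Scheme.{u}} (𝒜 : RelSpec.QCAlg S)

/-- the affine-local data of `𝒜[t]` -/
noncomputable def Fp : S.AffineZariskiSiteᵒᵖ ⥤ CommRingCat.{u} :=
  (toOpensFunctor S).op ⋙ 𝒜.presheaf ⋙ polyF

/-- the structure map of `𝒜[t]` -/
noncomputable def αp : (toOpensFunctor S).op ⋙ S.presheaf ⟶ Fp 𝒜 where
  app U := 𝒜.str.app ((toOpensFunctor S).op.obj U) ≫ CommRingCat.ofHom (C : _ →+* Polynomial _)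
  naturality U V i := by
    refine CommRingCat.hom_ext (RingHom.ext fun r => ?_)
    change (C ((𝒜.str.app _).hom ((S.presheaf.map _).hom r)) : Polynomial _) =
      Polynomial.map _ (C ((𝒜.str.app _).hom r))
    rw [Polynomial.map_C]
    congr 1
    have := congrArg (fun f => f.hom r) (𝒜.str.naturality ((toOpensFunctor S).op.map i))
    exact this

attribute [local instance] Polynomial.algebra in
theorem coequifibered_αp : (αp 𝒜).Coequifibered := by
  refine coequifibered_iff_forall_isLocalizationAway.mpr fun U r => ?_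
  letI alg1 : Algebra (𝒜.presheaf.obj (op U.1)) (𝒜.presheaf.obj (op (S.basicOpen r))) :=
    (𝒜.presheaf.map (homOfLE (S.basicOpen_le r)).op).hom.toAlgebra
  haveI hloc : IsLocalization.Away ((𝒜.str.app (op U.1)).hom r)
      (𝒜.presheaf.obj (op (S.basicOpen r))) := 𝒜.isQC U.1 U.2 r
  have h := Polynomial.isLocalization (Submonoid.powers ((𝒜.str.app (op U.1)).hom r))
    (𝒜.presheaf.obj (op (S.basicOpen r)))
  rw [Submonoid.map_powers] at h
  exact h

/-- the grading of the affine-local data -/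
noncomputable def 𝒢p (U : S.AffineZariskiSite) : ℕ → AddSubgroup ((Fp 𝒜).obj (op U)) :=
  polyDeg (𝒜.presheaf.obj (op U.1))

noncomputable instance (U : S.AffineZariskiSite) : GradedRing (𝒢p 𝒜 U) :=
  inferInstanceAs (GradedRing (polyDeg (𝒜.presheaf.obj (op U.1))))

theorem hmap_p {U V : S.AffineZariskiSite} (i : V ⟶ U) {d : ℕ} {x : (Fp 𝒜).obj (op U)}
    (hx : x ∈ 𝒢p 𝒜 U d) : ((Fp 𝒜).map i.op).hom x ∈ 𝒢p 𝒜 V d :=
  polyMap_mem _ _ hx

theorem hα_p (U : S.AffineZariskiSite) (r : Γ(S, U.1)) : ((αp 𝒜).app (op U)).hom r ∈ 𝒢p 𝒜 U 0 :=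
  polyC_mem _ _

/-- the quasi-coherent graded algebra `𝒜[t]` -/
noncomputable def polyAlg : RelProj.QCGrAlg S :=
  grAlg (coequifibered_αp 𝒜) (𝒢p 𝒜) (fun i _ _ hx => hmap_p 𝒜 i hx) (hα_p 𝒜)

theorem isGenDegOne_polyAlg : (polyAlg 𝒜).IsGenDegOne :=
  isGenDegOne_grAlg _ _ _ _ (fun U => closure_eq_top (𝒜.presheaf.obj (op U.1)))

theorem isFTDeg_one_polyAlg
    (hfin : ∀ (U : S.Opens), IsAffineOpen U → (𝒜.str.app (op U)).hom.Finite) :
    (polyAlg 𝒜).IsFTDeg 1 := by
  classical
  refine isFTDeg_grAlg _ _ _ _ 1 (fun U => ?_)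
  letI := (𝒜.str.app (op U.1)).hom.toAlgebra
  have hf : Module.Finite Γ(S, U.1) (𝒜.presheaf.obj (op U.1)) := hfin U.1 U.2
  obtain ⟨T, hT⟩ := hf.fg_top
  refine ⟨T.image (fun a => (monomial 1 a : Polynomial (𝒜.presheaf.obj (op U.1)))), ?_, ?_⟩
  · intro x hx
    rw [Finset.coe_image] at hx
    obtain ⟨a, _, rfl⟩ := hx
    exact polyMonomial_mem _ 1 a
  · intro x hx
    have hx' : x = monomial 1 (x.coeff 1) := eq_monomial_of_mem _ hx
    obtain ⟨y, hy⟩ : ∃ y : 𝒜.presheaf.obj (op U.1), y = x.coeff 1 := ⟨_, rfl⟩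
    have hmem : y ∈ Submodule.span Γ(S, U.1) (T : Set (𝒜.presheaf.obj (op U.1))) := by
      rw [hT]; trivial
    obtain ⟨c, -, hc⟩ := (Submodule.mem_span_finset).mp hmem
    refine ⟨fun t => c (t.coeff 1), ?_⟩
    rw [Finset.sum_image (fun a _ b _ hab => by
      have := congrArg (fun p : Polynomial (𝒜.presheaf.obj (op U.1)) => p.coeff 1) hab
      simpa using this)]
    rw [hx', ← hy, ← hc]
    refine (map_sum (monomial 1 : 𝒜.presheaf.obj (op U.1) →ₗ[𝒜.presheaf.obj (op U.1)]
      Polynomial (𝒜.presheaf.obj (op U.1))) (fun a => c a • a) T).trans ?_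
    refine Finset.sum_congr rfl (fun a _ => ?_)
    change monomial 1 (c a • a) = C ((𝒜.str.app (op U.1)).hom (c ((monomial 1 a).coeff 1))) * monomial 1 a
    rw [Polynomial.coeff_monomial, if_pos rfl, Polynomial.C_mul_monomial]
    rfl

end sheaf

end Groth.Agent.Helper18PolyAlg
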