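import Mathlib
import Groth.Agent.Lib.Helper18PolyAlg
import Groth.Agent.Lib.Helper13GrPoly
import Groth.Agent.Lib.Helper27RelProj4

set_option autoImplicit false

namespace Groth.Agent.Helper18FinProj

open CategoryTheory CategoryTheory.Limits AlgebraicGeometry Opposite TopologicalSpace Polynomial
open Groth.Agent.Helper18GrAlgA Groth.Agent.Helper18PolyAlg Groth.Agent.Helper13QCAlgOfAffine
open Scheme.AffineZariskiSite
open scoped HomogeneousIdeal DirectSum

universe u

variable {Y S : Scheme.{u}} (f : Y ⟶ S) [IsAffineHom f]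

/-- `f_* O_X` -/
noncomputable abbrev 𝒜f : RelSpec.QCAlg S := RelSpec.QCAlg.directImage f

/-- `(f_* O_X)[t]` -/
noncomputable abbrev 𝒮f : RelProj.QCGrAlg S := polyAlg (𝒜f f)

variable (U : S.Opens) (hU : IsAffineOpen U)

/-- the identification `𝒮(U) ≃ Γ(X, f⁻¹U)[t]` -/
noncomputable def eU : (𝒮f f).presheaf.obj (op U) ≃+* Polynomial Γ(Y, f ⁻¹ᵁ U) :=
  gammaEquiv (coequifibered_αp (𝒜f f)) U hU

/-- the inclusion of the coefficients -/
noncomputable def ιU : Γ(Y, f ⁻¹ᵁ U) →+* (𝒮f f).presheaf.obj (op U) :=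
  ((eU f U hU).symm : Polynomial Γ(Y, f ⁻¹ᵁ U) →+* (𝒮f f).presheaf.obj (op U)).comp C

/-- the variable -/
noncomputable def zU : (𝒮f f).presheaf.obj (op U) := (eU f U hU).symm (Polynomial.X)

theorem ιU_mem (b : Γ(Y, f ⁻¹ᵁ U)) : ιU f U hU b ∈ (𝒮f f).deg U hU 0 :=
  gammaEquiv_symm_mem _ _ _ _ U hU (polyC_mem _ b)

theorem zU_mem : zU f U hU ∈ (𝒮f f).deg U hU 1 :=
  gammaEquiv_symm_mem _ _ _ _ U hU (polyX_mem _)

theorem hpolyU : Function.Bijective (eval₂RingHom (ιU f U hU) (zU f U hU)) := by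
  have h : ∀ p, eval₂RingHom (ιU f U hU) (zU f U hU) p = (eU f U hU).symm p := by
    intro p
    have := Polynomial.hom_eval₂ p C
      ((eU f U hU).symm : Polynomial Γ(Y, f ⁻¹ᵁ U) →+* (𝒮f f).presheaf.obj (op U)) Polynomial.X
    rw [Polynomial.eval₂_C_X] at this
    exact this.symm
  constructor
  · intro p q hpq
    rw [h, h] at hpq
    exact (eU f U hU).symm.injective hpq
  · intro y
    exact ⟨eU f U hU y, by rw [h]; exact (eU f U hU).symm_apply_apply y⟩

/-- `Proj 𝒮(U) ⟶ Spec Γ(X, f⁻¹U)` -/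
noncomputable def TU : Proj ((𝒮f f).deg U hU) ⟶ Spec (CommRingCat.of Γ(Y, f ⁻¹ᵁ U)) :=
  Proj.toSpecZero ((𝒮f f).deg U hU) ≫
    Spec.map (CommRingCat.ofHom (Groth.Agent.Helper13GrPoly.ιZero ((𝒮f f).deg U hU) (ιU f U hU) (ιU_mem f U hU)))

instance isIso_TU : IsIso (TU f U hU) :=
  Groth.Agent.Helper13GrPoly.isIso_toSpecZero_comp ((𝒮f f).deg U hU) (ιU f U hU) (ιU_mem f U hU)
    (zU f U hU) (zU_mem f U hU) (hpolyU f U hU)

/-- the chart -/
noncomputable def chartU : ((f ⁻¹ᵁ U : Y.Opens) : Scheme.{u}) ≅ Proj ((𝒮f f).deg U hU) :=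
  (hU.preimage f).isoSpec ≪≫ (asIso (TU f U hU)).symm

theorem chartU_hom_TU : (chartU f U hU).hom ≫ TU f U hU = (hU.preimage f).isoSpec.hom := by
  simp [chartU]

theorem strZero_eq :
    (𝒮f f).strZero U hU = f.app U ≫
      CommRingCat.ofHom (Groth.Agent.Helper13GrPoly.ιZero ((𝒮f f).deg U hU) (ιU f U hU) (ιU_mem f U hU)) := by
  refine CommRingCat.hom_ext (RingHom.ext fun r => Subtype.ext ?_)
  change ((𝒮f f).str.app (op U)).hom r = (eU f U hU).symm (C ((f.app U).hom r))
  apply (eU f U hU).injective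
  rw [RingEquiv.apply_symm_apply]
  exact gammaEquiv_str (coequifibered_αp (𝒜f f)) U hU r

theorem toSpecZero_strZero :
    Proj.toSpecZero ((𝒮f f).deg U hU) ≫ Spec.map ((𝒮f f).strZero U hU) =
      TU f U hU ≫ Spec.map (f.app U) := by
  rw [strZero_eq, Spec.map_comp, TU, Category.assoc]

theorem chart_over :
    (chartU f U hU).hom ≫ Proj.toSpecZero ((𝒮f f).deg U hU) ≫ Spec.map ((𝒮f f).strZero U hU) ≫
      hU.fromSpec = (f ⁻¹ᵁ U).ι ≫ f := by
  rw [← Category.assoc (Proj.toSpecZero _), toSpecZero_strZero, Category.assoc,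
    ← Category.assoc (chartU f U hU).hom, chartU_hom_TU, Scheme.Hom.app_eq_appLE,
    IsAffineOpen.SpecMap_appLE_fromSpec f hU (hU.preimage f) le_rfl,
    ← Category.assoc, IsAffineOpen.isoSpec_hom_fromSpec]

variable (r : Γ(S, U))

theorem eU_res (x : (𝒮f f).presheaf.obj (op U)) :
    eU f (S.basicOpen r) (hU.basicOpen r)
        (((𝒮f f).presheaf.map (homOfLE (S.basicOpen_le r)).op).hom x) =
      Polynomial.map (Y.presheaf.map (homOfLE (f.preimage_mono (S.basicOpen_le r))).op).hom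
        (eU f U hU x) := by
  have hnat := gammaAff_naturality (coequifibered_αp (𝒜f f))
    (U := aff U hU) (V := (aff U hU).basicOpen r)
    (homOfLE (Scheme.AffineZariskiSite.basicOpen_le (aff U hU) r))
  have := congrArg (fun g => g.hom x) hnat
  exact this

theorem res_ιU (a : Γ(Y, f ⁻¹ᵁ U)) :
    ((𝒮f f).presheaf.map (homOfLE (S.basicOpen_le r)).op).hom (ιU f U hU a) =
      ιU f (S.basicOpen r) (hU.basicOpen r)
        ((Y.presheaf.map (homOfLE (f.preimage_mono (S.basicOpen_le r))).op).hom a) := by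
  apply (eU f (S.basicOpen r) (hU.basicOpen r)).injective
  rw [eU_res]
  change Polynomial.map _ (eU f U hU ((eU f U hU).symm (C a))) =
    eU f (S.basicOpen r) (hU.basicOpen r) ((eU f (S.basicOpen r) (hU.basicOpen r)).symm (C _))
  rw [RingEquiv.apply_symm_apply, RingEquiv.apply_symm_apply, Polynomial.map_C]

theorem map_res_TU :
    Proj.map ((𝒮f f).res hU (hU.basicOpen r) (S.basicOpen_le r)) ((𝒮f f).irrelevant_le_map U hU r) ≫
        TU f U hU =
      TU f (S.basicOpen r) (hU.basicOpen r) ≫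
        Spec.map (Y.presheaf.map (homOfLE (f.preimage_mono (S.basicOpen_le r))).op) := by
  have h := Groth.Agent.Lib.Helper27RelProj4.map_toSpecZero
    ((𝒮f f).res hU (hU.basicOpen r) (S.basicOpen_le r)) ((𝒮f f).irrelevant_le_map U hU r)
    (Groth.Agent.Helper13GrPoly.ιZero ((𝒮f f).deg U hU) (ιU f U hU) (ιU_mem f U hU))
    ((Groth.Agent.Helper13GrPoly.ιZero ((𝒮f f).deg (S.basicOpen r) (hU.basicOpen r))
      (ιU f (S.basicOpen r) (hU.basicOpen r)) (ιU_mem f (S.basicOpen r) (hU.basicOpen r))).comp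
      (Y.presheaf.map (homOfLE (f.preimage_mono (S.basicOpen_le r))).op).hom)
    (fun a => res_ιU f U hU r a)
  rw [TU, h, TU, Category.assoc, ← Spec.map_comp]
  rfl

theorem chart_res :
    Y.homOfLE (f.preimage_mono (S.basicOpen_le r)) ≫ (chartU f U hU).hom =
      (chartU f (S.basicOpen r) (hU.basicOpen r)).hom ≫
        Proj.map ((𝒮f f).res hU (hU.basicOpen r) (S.basicOpen_le r))
          ((𝒮f f).irrelevant_le_map U hU r) := by
  rw [← cancel_mono (TU f U hU), Category.assoc, Category.assoc, chartU_hom_TU, map_res_TU,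
    ← Category.assoc, chartU_hom_TU]
  rw [← cancel_mono (hU.preimage f).fromSpec, Category.assoc, Category.assoc,
    IsAffineOpen.isoSpec_hom_fromSpec, Scheme.homOfLE_ι,
    (hU.preimage f).map_fromSpec ((hU.basicOpen r).preimage f),
    IsAffineOpen.isoSpec_hom_fromSpec]

theorem isRelProj : RelProj.IsRelProj (𝒮f f) f (fun U hU => chartU f U hU) where
  chart_over U hU := chart_over f U hU
  chart_res U hU r := chart_res f U hU r

omit [IsAffineHom f] in
/-- a finite morphism is projective -/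
theorem isProjective_of_isFinite [IsFinite f] : RelProj.IsProjective f := by
  refine ⟨𝒮f f, Y, f, fun U hU => chartU f U hU, Iso.refl Y, isGenDegOne_polyAlg _,
    isFTDeg_one_polyAlg _ (fun U hU => ?_), isRelProj f, by simp⟩
  exact IsFinite.finite_app f U hU

end Groth.Agent.Helper18FinProj
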