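import Mathlib
import Groth.Agent.Lib.Helper18FittSh5
import Groth.Agent.Lib.Helper20OmegaQCoh

set_option autoImplicit false
set_option linter.style.haveILetI false
universe u
open CategoryTheory AlgebraicGeometry Limits Opposite TopologicalSpace TensorProduct

namespace Groth.Agent.Helper18FittSh

open Groth.Agent.Helper18Fitt Groth.Agent.Lib.Helper2.FPAff
open Groth.Agent.Lib.Helper20.Thickening Groth.Agent.Lib.Helper20.PullbackAff
  Groth.Agent.Lib.Helper20.OmegaAff Groth.Agent.Lib.Helper20.OmegaQCoh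
  Groth.Agent.Lib.Helper23.QCohLocal Groth.Agent.Lib.Helper20.OmegaLoc Groth.Agent.Lib.Helper23.FinType

variable {X S : Scheme.{u}} (f : X ⟶ S)

/-- sections of `Ω_f` over a chart -/
theorem nonempty_sections_omega_equiv [QuasiSeparated f] {U : X.Opens} (hU : IsAffineOpen U)
    {V : S.Opens} (hV : IsAffineOpen V) (h : U ≤ f ⁻¹ᵁ V) :
    letI := (f.appLE V U h).hom.toAlgebra
    Nonempty (Γ(Omega.sheaf f, U) ≃ₗ[Γ(X, U)] Ω[Γ(X, U)⁄Γ(S, V)]) := by
  letI : Algebra Γ(S, V) Γ(X, U) := (f.appLE V U h).hom.toAlgebra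
  have e : ΓU (Omega.sheaf f) hU ≅ ModuleCat.of Γ(X, U) (Ω[Γ(X, U)⁄Γ(S, V)]) :=
    (moduleSpecΓFunctor (R := Γ(X, U))).mapIso (omegaRestrictIso' f hU hV h) ≪≫
      ((tilde.toTildeΓNatIso (R := Γ(X, U))).app
        (ModuleCat.of Γ(X, U) (Ω[Γ(X, U)⁄Γ(S, V)]))).symm
  exact ⟨(ΓUEquiv hU (Omega.sheaf f)).trans e.toLinearEquiv⟩

/-- pure algebra: Fitting ideals of Kähler differentials under pushout -/
theorem fitt_kaehler_pushout (R S A B : Type u) [CommRing R] [CommRing S] [Algebra R S] [CommRing A]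
    [CommRing B] [Algebra R A] [Algebra R B] [Algebra A B] [Algebra S B] [IsScalarTower R A B]
    [IsScalarTower R S B] [Algebra.IsPushout R S A B] [Module.Finite A Ω[A⁄R]] (i : ℕ) :
    Fitt.ideal B Ω[B⁄S] i = (Fitt.ideal A Ω[A⁄R] i).map (algebraMap A B) := by
  rw [← fitt_baseChange (R' := B) (M := Ω[A⁄R]) i]
  exact (fitt_congr (KaehlerDifferential.tensorKaehlerEquiv R S A B) i).symm

theorem fitt_omega_chart_baseChange {X S S' : Scheme.{u}} (f : X ⟶ S) [LocallyOfFiniteType f]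
    [QuasiSeparated f] (g : S' ⟶ S)
    {U : X.Opens} (hU : IsAffineOpen U) {V : S.Opens} (hV : IsAffineOpen V) {V' : S'.Opens}
    (hV' : IsAffineOpen V') (hUV : U ≤ f ⁻¹ᵁ V) (hV'V : V' ≤ g ⁻¹ᵁ V) (i : ℕ) :
    IsAffineOpen (pullback.fst f g ⁻¹ᵁ U ⊓ pullback.snd f g ⁻¹ᵁ V') ∧
    (Fitt.ideal Γ(X, U) Γ(Omega.sheaf f, U) i).map
        ((pullback.fst f g).appLE U (pullback.fst f g ⁻¹ᵁ U ⊓ pullback.snd f g ⁻¹ᵁ V')
          inf_le_left).hom =
      Fitt.ideal Γ(pullback f g, pullback.fst f g ⁻¹ᵁ U ⊓ pullback.snd f g ⁻¹ᵁ V')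
        Γ(Omega.sheaf (pullback.snd f g), pullback.fst f g ⁻¹ᵁ U ⊓ pullback.snd f g ⁻¹ᵁ V') i := by
  have H : IsPullback (pullback.fst f g) (pullback.snd f g) f g := IsPullback.of_hasPullback f g
  set U' : (pullback f g).Opens := pullback.fst f g ⁻¹ᵁ U ⊓ pullback.snd f g ⁻¹ᵁ V' with hU'def
  have hU' : IsAffineOpen U' := by
    have : IsAffine _ := hV
    have : IsAffine _ := hV'
    have : IsAffine _ := hU
    exact .of_isIso (Scheme.Hom.isPullback_resLE H hV'V hUV hU'def).isoPullback.hom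
  refine ⟨hU', ?_⟩
  have hPO := (isIso_pushoutSection_iff H hV'V hUV hU'def).mp
    (isIso_pushoutSection_of_isAffineOpen H hV'V hUV hU'def hV hV' hU)
  have hle1 : U' ≤ pullback.fst f g ⁻¹ᵁ U := inf_le_left
  have hle2 : U' ≤ pullback.snd f g ⁻¹ᵁ V' := inf_le_right
  letI a1 : Algebra Γ(S, V) Γ(X, U) := (f.appLE V U hUV).hom.toAlgebra
  letI a2 : Algebra Γ(S, V) Γ(S', V') := (g.appLE V V' hV'V).hom.toAlgebra
  letI a3 : Algebra Γ(X, U) Γ(pullback f g, U') := ((pullback.fst f g).appLE U U' hle1).hom.toAlgebra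
  letI a4 : Algebra Γ(S', V') Γ(pullback f g, U') :=
    ((pullback.snd f g).appLE V' U' hle2).hom.toAlgebra
  letI a5 : Algebra Γ(S, V) Γ(pullback f g, U') :=
    (((pullback.fst f g).appLE U U' hle1).hom.comp (f.appLE V U hUV).hom).toAlgebra
  haveI t1 : IsScalarTower Γ(S, V) Γ(X, U) Γ(pullback f g, U') :=
    IsScalarTower.of_algebraMap_eq (fun _ => rfl)
  haveI t2 : IsScalarTower Γ(S, V) Γ(S', V') Γ(pullback f g, U') := by
    apply IsScalarTower.of_algebraMap_eq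
    intro r
    have := congrArg (fun φ => φ.hom r) hPO.w
    exact this
  have hpo : Algebra.IsPushout Γ(S, V) Γ(S', V') Γ(X, U) Γ(pullback f g, U') :=
    CommRingCat.isPushout_iff_isPushout.mp hPO.flip
  obtain ⟨e⟩ := nonempty_sections_omega_equiv f hU hV hUV
  obtain ⟨e'⟩ := nonempty_sections_omega_equiv (pullback.snd f g) hU' hV' hle2
  haveI : Module.Finite Γ(X, U) Γ(Omega.sheaf f, U) := finite_sections_omega f hU
  haveI : Module.Finite Γ(X, U) Ω[Γ(X, U)⁄Γ(S, V)] := Module.Finite.equiv e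
  rw [fitt_congr e i, fitt_congr e' i,
    fitt_kaehler_pushout Γ(S, V) Γ(S', V') Γ(X, U) Γ(pullback f g, U') i]
  rfl

theorem main_S8917 {X S S' : Scheme.{u}} (f : X ⟶ S) [LocallyOfFiniteType f] [QuasiSeparated f]
    (g : S' ⟶ S) (i : ℕ) :
    (Fitt.sheafIdeal (Omega.sheaf f) i).comap (pullback.fst f g) =
      Fitt.sheafIdeal (Omega.sheaf (pullback.snd f g)) i := by
  haveI : (Omega.sheaf f).IsQuasicoherent := isQuasicoherent_omega f
  haveI : (Omega.sheaf (pullback.snd f g)).IsQuasicoherent := isQuasicoherent_omega _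
  have hfinF : ∀ V : X.affineOpens, Module.Finite Γ(X, V.1) Γ(Omega.sheaf f, V.1) :=
    fun V => finite_sections_omega f V.2
  have hfinF' : ∀ V : (pullback f g).affineOpens,
      Module.Finite Γ(pullback f g, V.1) Γ(Omega.sheaf (pullback.snd f g), V.1) :=
    fun V => finite_sections_omega _ V.2
  let ι : Type u := {p : X.affineOpens × S.affineOpens × S'.affineOpens //
    p.1.1 ≤ f ⁻¹ᵁ p.2.1.1 ∧ p.2.2.1 ≤ g ⁻¹ᵁ p.2.1.1}
  let W : ι → (pullback f g).affineOpens := fun p =>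
    ⟨pullback.fst f g ⁻¹ᵁ p.1.1.1 ⊓ pullback.snd f g ⁻¹ᵁ p.1.2.2.1,
      (fitt_omega_chart_baseChange f g p.1.1.2 p.1.2.1.2 p.1.2.2.2 p.2.1 p.2.2 i).1⟩
  have hcov : ⨆ p : ι, (W p).1 = ⊤ := by
    rw [eq_top_iff]
    intro x' _
    obtain ⟨V, hV, hsV, -⟩ := exists_isAffineOpen_mem_and_subset
      (x := f (pullback.fst f g x')) (U := ⊤) trivial
    obtain ⟨U, hU, hxU, hUV⟩ := exists_isAffineOpen_mem_and_subset
      (x := pullback.fst f g x') (U := f ⁻¹ᵁ V) hsV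
    have hs' : g (pullback.snd f g x') ∈ V := by
      have hc : f (pullback.fst f g x') = g (pullback.snd f g x') := by
        rw [← Scheme.Hom.comp_apply, ← Scheme.Hom.comp_apply, pullback.condition]
      rw [← hc]; exact hsV
    obtain ⟨V', hV', hxV', hV'V⟩ := exists_isAffineOpen_mem_and_subset
      (x := pullback.snd f g x') (U := g ⁻¹ᵁ V) hs'
    exact Opens.mem_iSup.2 ⟨⟨(⟨U, hU⟩, ⟨V, hV⟩, ⟨V', hV'⟩), hUV, hV'V⟩, ⟨hxU, hxV'⟩⟩
  apply Scheme.IdealSheafData.ext_of_iSup_eq_top W hcov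
  intro p
  rw [Groth.Agent.Lib.Helper22.IdealComap.ideal_comap_eq_map (pullback.fst f g) _ (W p) p.1.1
      inf_le_left,
    sheafIdeal_ideal (Omega.sheaf f) i hfinF p.1.1, sheafIdeal_ideal _ i hfinF' (W p)]
  exact (fitt_omega_chart_baseChange f g p.1.1.2 p.1.2.1.2 p.1.2.2.2 p.2.1 p.2.2 i).2

end Groth.Agent.Helper18FittSh
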