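import Mathlib

/-!
# Recognising localizations via right fractions (helper18)

If `W'` has a right calculus of fractions in `C'`, and `F : C' ⥤ D'` inverts `W'`, is
essentially surjective, every morphism `F X ⟶ F Y` is the image of a right fraction, and two
right fractions with the same image are equivalent, then `F` is a localization functor for `W'`.
-/

set_option autoImplicit false

namespace Groth.Agent.Lib.Helper18FracLoc

open CategoryTheory

section
variable {C' : Type*} [Category C'] {D' : Type*} [Category D'] {W' : MorphismProperty C'}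

lemma map_natIso {G₁ G₂ : C' ⥤ D'} (e : G₁ ≅ G₂) (h₁ : W'.IsInvertedBy G₁) (h₂ : W'.IsInvertedBy G₂)
    {X Y : C'} (z : W'.RightFraction X Y) :
    z.map G₁ h₁ ≫ e.hom.app Y = e.hom.app X ≫ z.map G₂ h₂ := by
  have : IsIso (G₁.map z.s) := h₁ _ z.hs
  rw [← cancel_epi (G₁.map z.s), MorphismProperty.RightFraction.map_s_comp_map_assoc,
    e.hom.naturality, e.hom.naturality_assoc, MorphismProperty.RightFraction.map_s_comp_map]

lemma map_comp_functor {D'' : Type*} [Category D''] (G : C' ⥤ D') (H : D' ⥤ D'')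
    (h₁ : W'.IsInvertedBy G) (h₂ : W'.IsInvertedBy (G ⋙ H))
    {X Y : C'} (z : W'.RightFraction X Y) :
    z.map (G ⋙ H) h₂ = H.map (z.map G h₁) := by
  have : IsIso ((G ⋙ H).map z.s) := h₂ _ z.hs
  rw [← cancel_epi ((G ⋙ H).map z.s), MorphismProperty.RightFraction.map_s_comp_map]
  dsimp
  rw [← H.map_comp, MorphismProperty.RightFraction.map_s_comp_map]

end

section
variable {C' : Type*} [Category C'] {D' : Type*} [Category D'] {E : Type*} [Category E]
  (W' : MorphismProperty C') [W'.HasRightCalculusOfFractions]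
  (F : C' ⥤ D') (hF : W'.IsInvertedBy F)

include hF in
theorem isEquivalence_of_fractions (L' : C' ⥤ E) [L'.IsLocalization W'] (Φ : E ⥤ D')
    (e : L' ⋙ Φ ≅ F) (hess : F.EssSurj)
    (hA : ∀ (X Y : C') (g : F.obj X ⟶ F.obj Y), ∃ z : W'.RightFraction X Y, g = z.map F hF)
    (hB : ∀ (X Y : C') (z₁ z₂ : W'.RightFraction X Y), z₁.map F hF = z₂.map F hF →
      MorphismProperty.RightFractionRel z₁ z₂) :
    Φ.IsEquivalence := by
  have hL' : W'.IsInvertedBy L' := Localization.inverts L' _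
  have hcomp : W'.IsInvertedBy (L' ⋙ Φ) := fun X Y f hf => by
    have := hL' f hf
    dsimp
    infer_instance
  have key : ∀ {X Y : C'} (z : W'.RightFraction X Y),
      Φ.map (z.map L' hL') = e.hom.app X ≫ z.map F hF ≫ e.inv.app Y := by
    intro X Y z
    have h := map_natIso e hcomp hF z
    rw [← map_comp_functor L' Φ hL' hcomp, ← Category.assoc, ← h]
    simp
  have : L'.EssSurj := Localization.essSurj L' W'
  have hess' : Φ.EssSurj := by
    refine ⟨fun Y => ?_⟩
    exact ⟨L'.obj (F.objPreimage Y), ⟨e.app _ ≪≫ F.objObjPreimageIso Y⟩⟩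
  have hfull : Φ.Full := by
    refine ⟨fun {e₁ e₂} g => ?_⟩
    let a₁ : L'.obj (L'.objPreimage e₁) ≅ e₁ := L'.objObjPreimageIso e₁
    let a₂ : L'.obj (L'.objPreimage e₂) ≅ e₂ := L'.objObjPreimageIso e₂
    obtain ⟨z, hz⟩ := hA _ _
      (e.inv.app _ ≫ Φ.map a₁.hom ≫ g ≫ Φ.map a₂.inv ≫ e.hom.app _)
    refine ⟨a₁.inv ≫ z.map L' hL' ≫ a₂.hom, ?_⟩
    rw [Φ.map_comp, Φ.map_comp, key, ← hz]
    simp [← Φ.map_comp_assoc, ← Φ.map_comp]
  have hfaith : Φ.Faithful := by
    refine ⟨fun {e₁ e₂} u v huv => ?_⟩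
    let a₁ : L'.obj (L'.objPreimage e₁) ≅ e₁ := L'.objObjPreimageIso e₁
    let a₂ : L'.obj (L'.objPreimage e₂) ≅ e₂ := L'.objObjPreimageIso e₂
    obtain ⟨z₁, hz₁⟩ := Localization.exists_rightFraction L' W' (a₁.hom ≫ u ≫ a₂.inv)
    obtain ⟨z₂, hz₂⟩ := Localization.exists_rightFraction L' W' (a₁.hom ≫ v ≫ a₂.inv)
    have h3 : Φ.map (z₁.map L' hL') = Φ.map (z₂.map L' hL') := by
      rw [← hz₁, ← hz₂]
      simp [huv]
    rw [key, key] at h3
    have h4 : z₁.map F hF = z₂.map F hF := by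
      simpa using h3
    have h5 := hB _ _ z₁ z₂ h4
    have h6 : z₁.map L' hL' = z₂.map L' hL' :=
      (MorphismProperty.RightFraction.map_eq_iff L' W' z₁ z₂).2 h5
    have h7 : a₁.hom ≫ u ≫ a₂.inv = a₁.hom ≫ v ≫ a₂.inv := by rw [hz₁, hz₂, h6]
    simpa using h7
  exact { }

include hF in
theorem isLocalization_of_fractions (hess : F.EssSurj)
    (hA : ∀ (X Y : C') (g : F.obj X ⟶ F.obj Y), ∃ z : W'.RightFraction X Y, g = z.map F hF)
    (hB : ∀ (X Y : C') (z₁ z₂ : W'.RightFraction X Y), z₁.map F hF = z₂.map F hF →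
      MorphismProperty.RightFractionRel z₁ z₂) :
    F.IsLocalization W' := by
  let Φ : W'.Localization ⥤ D' := Localization.lift F hF W'.Q
  let e : W'.Q ⋙ Φ ≅ F := Localization.fac F hF W'.Q
  have : Φ.IsEquivalence := isEquivalence_of_fractions W' F hF W'.Q Φ e hess hA hB
  exact Functor.IsLocalization.of_equivalence_target W'.Q W' F Φ.asEquivalence e

end

end Groth.Agent.Lib.Helper18FracLoc
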