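import Mathlib
set_option linter.style.haveILetI false

/-!
# Group cohomology of uniquely `|G|`-divisible representations vanishes (helper18)

* `isZero_groupCohomology_succ`, `isZero_of_divisible`: if multiplication by `|G|` is bijective on
  `A`, then `Hⁿ⁺¹(G, A) = 0` (via retract of a coinduced module + Shapiro).
* `isIso_map_g`: LES consequence.
* `bijective_of_ker_divisible`: a surjection with uniquely `|G|`-divisible kernel induces
  bijections on `Hⁿ⁺¹`.
* `hensel_root`, `root_unique`: unique `N`-th roots in `1 + m` for henselian local rings.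
-/

open CategoryTheory Limits IsLocalRing

namespace Groth.Agent.Helper18GC

universe u

section
variable {k G : Type u} [CommRing k] [Group G]

section A

/-- The unit `A ⟶ coind (res A)` for the trivial subgroup. -/
noncomputable def unitMap (A : Rep.{u} k G) :
    A ⟶ Rep.coind (⊥ : Subgroup G).subtype (Rep.res (⊥ : Subgroup G).subtype A) :=
  Rep.resCoindToHom _ A _ (𝟙 _)

lemma unitMap_apply (A : Rep.{u} k G) (a : A) (x : G) :
    ((unitMap A).hom a).1 x = A.ρ x a := rfl

variable [Fintype G]

/-- The averaging retraction. -/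
noncomputable def retr (A : Rep.{u} k G) (ψ : A ⟶ A) :
    Rep.coind (⊥ : Subgroup G).subtype (Rep.res (⊥ : Subgroup G).subtype A) ⟶ A :=
  Rep.ofHom ⟨ψ.hom.toLinearMap ∘ₗ (∑ x : G, (A.ρ x⁻¹) ∘ₗ LinearMap.proj x) ∘ₗ
    (Submodule.subtype _), fun g => by
      ext f
      simp only [LinearMap.coe_comp, Function.comp_apply, LinearMap.coe_sum, Finset.sum_apply,
        Submodule.coe_subtype, LinearMap.proj_apply]
      have h1 : ∀ x : G, (((Representation.coind (⊥ : Subgroup G).subtype
          (MonoidHom.comp A.ρ (⊥ : Subgroup G).subtype)) g) f).1 x = f.1 (x * g) := fun x => rfl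
      simp only [h1]
      rw [Representation.IntertwiningMap.toLinearMap_apply,
        Representation.IntertwiningMap.toLinearMap_apply, ← Rep.hom_comm_apply,
        map_sum (A.ρ g)]
      congr 1
      refine Fintype.sum_equiv (Equiv.mulRight g) _ _ fun x => ?_
      simp only [Equiv.coe_mulRight, mul_inv_rev, map_mul, Module.End.mul_apply]
      rw [← Module.End.mul_apply, ← Module.End.mul_apply, ← map_mul, ← map_mul]
      simp⟩

lemma retr_apply (A : Rep.{u} k G) (ψ : A ⟶ A) (f) :
    (retr A ψ).hom f = ψ.hom (∑ x : G, A.ρ x⁻¹ (f.1 x)) := by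
  simp [retr]

lemma unitMap_retr (A : Rep.{u} k G) (ψ : A ⟶ A)
    (hψ : ∀ a : A, ψ.hom (Fintype.card G • a) = a) : unitMap A ≫ retr A ψ = 𝟙 A := by
  ext a
  change (retr A ψ).hom ((unitMap A).hom a) = a
  rw [retr_apply]
  have hu : ∀ x : G, ((unitMap A).hom a).1 x = A.ρ x a := fun x => rfl
  simp only [hu]
  have : ∀ x : G, A.ρ x⁻¹ (A.ρ x a) = a := fun x => by
    rw [← Module.End.mul_apply, ← map_mul]; simp
  simp only [this, Finset.sum_const, Finset.card_univ]
  exact hψ a

theorem isZero_groupCohomology_succ (A : Rep.{u} k G) (ψ : A ⟶ A)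
    (hψ : ∀ a : A, ψ.hom (Fintype.card G • a) = a) (n : ℕ) :
    IsZero (groupCohomology A (n + 1)) := by
  have hz : IsZero ((groupCohomology.functor k G (n + 1)).obj
      (Rep.coind (⊥ : Subgroup G).subtype (Rep.res (⊥ : Subgroup G).subtype A))) :=
    (_root_.isZero_groupCohomology_succ_of_subsingleton _ n).of_iso
      (groupCohomology.coindIso _ (n + 1))
  rw [IsZero.iff_id_eq_zero]
  have h : 𝟙 (groupCohomology A (n + 1)) = (groupCohomology.functor k G (n + 1)).map (𝟙 A) :=
    ((groupCohomology.functor k G (n + 1)).map_id A).symm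
  rw [h, ← unitMap_retr A ψ hψ, Functor.map_comp,
    hz.eq_of_tgt ((groupCohomology.functor k G (n + 1)).map (unitMap A)) 0, zero_comp]
  rfl

end A


theorem isIso_map_g {X : ShortComplex (Rep.{u} k G)} (hX : X.ShortExact) (n : ℕ)
    (h1 : IsZero (groupCohomology X.X₁ n)) (h2 : IsZero (groupCohomology X.X₁ (n + 1))) :
    IsIso ((groupCohomology.functor k G n).map X.g) := by
  have hm : Mono ((groupCohomology.functor k G n).map X.g) :=
    (groupCohomology.mapShortComplex₂_exact hX n).mono_g (h1.eq_of_src _ _)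
  have he : Epi ((groupCohomology.functor k G n).map X.g) :=
    (groupCohomology.mapShortComplex₃_exact hX (rfl : n + 1 = n + 1)).epi_f (h2.eq_of_tgt _ _)
  exact isIso_of_mono_of_epi _

/-- the kernel representation -/
noncomputable abbrev kerRep {A B : Rep.{u} k G} (φ : A ⟶ B) : Rep.{u} k G :=
  Rep.of (A.ρ.subrepresentation (LinearMap.ker φ.hom.toLinearMap) (fun g x hx => by
    simp only [Submodule.mem_comap, LinearMap.mem_ker] at hx ⊢
    rw [Representation.IntertwiningMap.toLinearMap_apply] at hx ⊢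
    rw [Rep.hom_comm_apply, hx, map_zero]))

noncomputable abbrev kerι {A B : Rep.{u} k G} (φ : A ⟶ B) : kerRep φ ⟶ A :=
  Rep.ofHom ⟨Submodule.subtype _, fun g ↦ by ext; simp⟩

noncomputable def kerSC {A B : Rep.{u} k G} (φ : A ⟶ B) : ShortComplex (Rep.{u} k G) where
  X₁ := kerRep φ
  X₂ := A
  X₃ := B
  f := kerι φ
  g := φ
  zero := by ext x; exact x.2

lemma kerSC_shortExact {A B : Rep.{u} k G} (φ : A ⟶ B) (hs : Function.Surjective φ.hom) :
    (kerSC φ).ShortExact where
  exact := (forget₂ (Rep.{u} k G) (ModuleCat k)).reflects_exact_of_faithful _ <|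
    (ShortComplex.moduleCat_exact_iff _).2
    fun x hx => ⟨(⟨x, hx⟩ : LinearMap.ker φ.hom.toLinearMap), rfl⟩
  mono_f := (Rep.mono_iff_injective _).2 fun _ _ h => Subtype.ext h
  epi_g := (Rep.epi_iff_surjective _).2 hs

/-- multiplication by `N` on a representation. -/
noncomputable def mulN (A : Rep.{u} k G) (N : ℕ) : A ⟶ A :=
  Rep.ofHom ⟨N • LinearMap.id, fun g => by ext; simp⟩

lemma mulN_apply (A : Rep.{u} k G) (N : ℕ) (a : A) : (mulN A N).hom a = N • a := rfl

theorem isZero_of_divisible [Fintype G] (A : Rep.{u} k G)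
    (hdiv : ∀ a : A, ∃ b : A, Fintype.card G • b = a)
    (htors : ∀ a : A, Fintype.card G • a = 0 → a = 0) (n : ℕ) :
    IsZero (groupCohomology A (n + 1)) := by
  have hm : Mono (mulN A (Fintype.card G)) := (Rep.mono_iff_injective _).2 (by
    rw [injective_iff_map_eq_zero]
    intro a ha
    exact htors a ha)
  have he : Epi (mulN A (Fintype.card G)) := (Rep.epi_iff_surjective _).2 (fun a => by
    obtain ⟨b, hb⟩ := hdiv a
    exact ⟨b, hb⟩)
  have hi : IsIso (mulN A (Fintype.card G)) := isIso_of_mono_of_epi _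
  refine isZero_groupCohomology_succ A (inv (mulN A (Fintype.card G))) (fun a => ?_) n
  have h1 : (mulN A (Fintype.card G) ≫ inv (mulN A (Fintype.card G))).hom a = a := by
    rw [IsIso.hom_inv_id]; rfl
  exact h1

theorem bijective_of_ker_divisible [Fintype G] {A B : Rep.{u} k G} (φ : A ⟶ B)
    (hs : Function.Surjective φ.hom)
    (hdiv : ∀ a : A, φ.hom a = 0 → ∃ b : A, φ.hom b = 0 ∧ Fintype.card G • b = a)
    (htors : ∀ a : A, φ.hom a = 0 → Fintype.card G • a = 0 → a = 0) (n : ℕ) :
    Function.Bijective ((groupCohomology.functor k G (n + 1)).map φ).hom := by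
  have hz : ∀ m, IsZero (groupCohomology (kerSC φ).X₁ (m + 1)) := by
    intro m
    refine isZero_of_divisible (kerRep φ) ?_ ?_ m
    · rintro ⟨a, ha⟩
      obtain ⟨b, hb, hba⟩ := hdiv a ha
      exact ⟨⟨b, hb⟩, Subtype.ext hba⟩
    · rintro ⟨a, ha⟩ h
      exact Subtype.ext (htors a ha (congrArg Subtype.val h))
  have hi := isIso_map_g (kerSC_shortExact φ hs) (n + 1) (hz n) (hz (n + 1))
  have hi' : IsIso ((groupCohomology.functor k G (n + 1)).map φ) := hi
  exact ConcreteCategory.bijective_of_isIso ((groupCohomology.functor k G (n + 1)).map φ)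

end

theorem hensel_root {R : Type*} [CommRing R] [HenselianLocalRing R] (N : ℕ)
    (hN : IsUnit (N : R)) (u : R) (hu : u - 1 ∈ maximalIdeal R) :
    ∃ v : R, v ^ N = u ∧ v - 1 ∈ maximalIdeal R := by
  have hN0 : N ≠ 0 := by
    rintro rfl
    simp at hN
  obtain ⟨v, hv, hv1⟩ := HenselianLocalRing.is_henselian (Polynomial.X ^ N - Polynomial.C u)
    (Polynomial.monic_X_pow_sub_C u hN0) 1 (by
      simp only [Polynomial.eval_sub, Polynomial.eval_pow, Polynomial.eval_X, one_pow,
        Polynomial.eval_C]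
      rw [← neg_sub]; exact neg_mem hu) (by
      simp only [Polynomial.derivative_sub, Polynomial.derivative_X_pow, Polynomial.derivative_C,
        sub_zero, Polynomial.eval_mul, Polynomial.eval_C, Polynomial.eval_pow, Polynomial.eval_X,
        one_pow, mul_one]
      exact hN)
  refine ⟨v, ?_, hv1⟩
  simpa [Polynomial.IsRoot, sub_eq_zero] using hv

theorem root_unique {R : Type*} [CommRing R] [IsLocalRing R] (N : ℕ)
    (hN : IsUnit (N : R)) (u : R) (hu : u - 1 ∈ maximalIdeal R) (h : u ^ N = 1) : u = 1 := by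
  have h1 : (∑ i ∈ Finset.range N, u ^ i) * (u - 1) = 0 := by
    rw [geom_sum_mul, h, sub_self]
  have hunit : IsUnit (∑ i ∈ Finset.range N, u ^ i) := by
    rw [← IsLocalRing.notMem_maximalIdeal]
    intro hmem
    have h2 : (∑ i ∈ Finset.range N, u ^ i) - N ∈ maximalIdeal R := by
      have : (∑ i ∈ Finset.range N, u ^ i) - N = ∑ i ∈ Finset.range N, (u ^ i - 1) := by
        simp
      rw [this]
      refine Ideal.sum_mem _ fun i _ => ?_
      have : u ^ i - 1 = (∑ j ∈ Finset.range i, u ^ j) * (u - 1) := by rw [geom_sum_mul]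
      rw [this]
      exact Ideal.mul_mem_left _ _ hu
    have h3 : (N : R) ∈ maximalIdeal R := by
      have := Ideal.sub_mem _ hmem h2
      simpa using this
    exact (IsLocalRing.notMem_maximalIdeal.mpr hN) h3
  have := hunit.mul_right_eq_zero.mp h1
  exact sub_eq_zero.mp this


end Groth.Agent.Helper18GC
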