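import Mathlib
import Groth.Agent.Lib.Helper18GLch5

set_option autoImplicit false
universe u v w

namespace Groth.Agent.Lib.Helper18SL

open Matrix Polynomial

section prodGL

variable (R : Type u) [CommRing R] (r : ℕ) (n : Fin r → ℕ)
    (α : ∀ (B : Type u) [CommRing B] [Algebra R B], (∀ i, Matrix.GeneralLinearGroup (Fin (n i)) B) →* Bˣ)
    (hα : ∀ (B C : Type u) [CommRing B] [Algebra R B] [CommRing C] [Algebra R C] (φ : B →ₐ[R] C)
      (s : ∀ i, Matrix.GeneralLinearGroup (Fin (n i)) B),
      α C (fun i => Matrix.GeneralLinearGroup.map φ.toRingHom (s i)) = Units.map (φ.toRingHom : B →* C) (α B s))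

/-- the `i`-th component character -/
noncomputable def compChar (i : Fin r) : NatChar R (n i) where
  β B _ _ := (α B).comp (MonoidHom.mulSingle (fun j => Matrix.GeneralLinearGroup (Fin (n j)) B) i)
  nat B C _ _ _ _ φ g := by
    have h := hα B C φ (Pi.mulSingle i g)
    change α C (Pi.mulSingle i (Matrix.GeneralLinearGroup.map φ.toRingHom g)) =
      Units.map _ (α B (Pi.mulSingle i g))
    rw [← h]
    congr 1
    funext j
    exact (Pi.apply_mulSingle (fun j => Matrix.GeneralLinearGroup.map (n := Fin (n j)) φ.toRingHom)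
      (fun j => map_one _) i g j).symm

lemma alpha_eq_prod (B : Type u) [CommRing B] [Algebra R B]
    (s : ∀ i, Matrix.GeneralLinearGroup (Fin (n i)) B) :
    α B s = ∏ i, α B (Pi.mulSingle i (s i)) := by
  have h1 := Finset.noncommProd_mulSingle s
  calc α B s = α B (Finset.univ.noncommProd (fun i => Pi.mulSingle i (s i))
        (fun i _ j _ _ => Pi.mulSingle_apply_commute s i j)) := by rw [h1]
    _ = Finset.univ.noncommProd (fun i => α B (Pi.mulSingle i (s i))) _ :=
        Finset.map_noncommProd _ _ _ _
    _ = ∏ i, α B (Pi.mulSingle i (s i)) := Finset.noncommProd_eq_prod _ _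

include hα in
theorem prodGL_char [ConnectedSpace (PrimeSpectrum R)] (hn : ∀ i, 0 < n i) :
    ∃! m : Fin r → ℤ, ∀ (B : Type u) [CommRing B] [Algebra R B]
      (s : ∀ i, Matrix.GeneralLinearGroup (Fin (n i)) B),
      α B s = ∏ i, Matrix.GeneralLinearGroup.det (s i) ^ (m i) := by
  have key : ∀ i, ∃! m : ℤ, ∀ (B : Type u) [CommRing B] [Algebra R B] (g : GL (Fin (n i)) B),
      (compChar R r n α hα i).β B g = Matrix.GeneralLinearGroup.det g ^ m :=
    fun i => (compChar R r n α hα i).exists_unique_zpow (hn i)
  choose m hm hm' using key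
  refine ⟨m, ?_, ?_⟩
  · intro B _ _ s
    rw [alpha_eq_prod R r n α B s]
    apply Finset.prod_congr rfl
    intro i _
    exact hm i B (s i)
  · intro m' h'
    funext i
    apply hm' i
    intro B _ _ g
    change α B (Pi.mulSingle i g) = _
    rw [h' B (Pi.mulSingle i g), Finset.prod_eq_single i]
    · rw [Pi.mulSingle_eq_same]
    · intro j _ hji
      rw [Pi.mulSingle_eq_of_ne hji, map_one, _root_.one_zpow]
    · intro hi
      exact absurd (Finset.mem_univ i) hi

end prodGL

end Groth.Agent.Lib.Helper18SL
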