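import Mathlib
import Groth.Prelude.Def_Found

set_option autoImplicit false
set_option linter.style.haveILetI false
universe u

namespace Groth.Agent.Lib.Helper18GeomReg
open TensorProduct

/-- finitely many elements lie in a single member of a directed covering family. -/
theorem exists_index (k : Type u) [Field k] {ι : Type u}
    (K : ι → Type u) [∀ i, Field (K i)] [∀ i, Algebra (K i) k]
    (hdir : ∀ i j, ∃ l, Set.range (algebraMap (K i) k) ⊆ Set.range (algebraMap (K l) k) ∧
      Set.range (algebraMap (K j) k) ⊆ Set.range (algebraMap (K l) k))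
    (hcov : ∀ x : k, ∃ i, x ∈ Set.range (algebraMap (K i) k)) (T : Finset k) :
    ∃ l, ∀ x ∈ T, x ∈ Set.range (algebraMap (K l) k) := by
  classical
  induction T using Finset.induction_on with
  | empty =>
    obtain ⟨i, -⟩ := hcov 0
    exact ⟨i, by simp⟩
  | insert x T _ ih =>
    obtain ⟨l₁, h₁⟩ := ih
    obtain ⟨l₂, h₂⟩ := hcov x
    obtain ⟨l, hl₁, hl₂⟩ := hdir l₁ l₂
    refine ⟨l, fun y hy => ?_⟩
    rcases Finset.mem_insert.mp hy with rfl | hy
    · exact hl₂ h₂
    · exact hl₁ (h₁ y hy)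

/-- descent of a finite extension to a subfield containing the structure constants. -/
theorem exists_descent (K₀ k k' : Type u) [Field K₀] [Field k] [Field k'] [Algebra K₀ k]
    [Algebra k k'] [Algebra K₀ k'] [IsScalarTower K₀ k k'] [Module.Finite k k']
    (hT : ∀ (i j m : Fin (Module.finrank k k')),
      (Module.finBasis k k').repr (Module.finBasis k k' i * Module.finBasis k k' j) m ∈
        Set.range (algebraMap K₀ k))
    (hT1 : ∀ m : Fin (Module.finrank k k'),
      (Module.finBasis k k').repr 1 m ∈ Set.range (algebraMap K₀ k)) :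
    ∃ F : IntermediateField K₀ k', Module.Finite K₀ F ∧
      Module.finrank K₀ F ≤ Module.finrank k k' ∧ ∀ i, Module.finBasis k k' i ∈ F := by
  set n := Module.finrank k k'
  set b := Module.finBasis k k'
  let L₀ : Submodule K₀ k' := Submodule.span K₀ (Set.range b)
  have hb : ∀ i, b i ∈ L₀ := fun i => Submodule.subset_span ⟨i, rfl⟩
  have hsum : ∀ x : k', (∀ m, b.repr x m ∈ Set.range (algebraMap K₀ k)) → x ∈ L₀ := by
    intro x hx
    rw [← b.sum_repr x]
    refine Submodule.sum_mem _ fun m _ => ?_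
    obtain ⟨d, hd⟩ := hx m
    rw [← hd, algebraMap_smul]
    exact Submodule.smul_mem _ _ (hb m)
  have h_one : (1 : k') ∈ L₀ := hsum 1 hT1
  have h_mul : ∀ x y, x ∈ L₀ → y ∈ L₀ → x * y ∈ L₀ := by
    have : L₀ * L₀ ≤ L₀ := by
      rw [Submodule.span_mul_span, Submodule.span_le]
      rintro _ ⟨_, ⟨i, rfl⟩, _, ⟨j, rfl⟩, rfl⟩
      exact hsum _ (hT i j)
    intro x y hx hy
    exact this (Submodule.mul_mem_mul hx hy)
  let L : Subalgebra K₀ k' := L₀.toSubalgebra h_one h_mul
  have hLfin : Module.Finite K₀ L := by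
    have : Module.Finite K₀ L₀ := Module.Finite.iff_fg.mpr (Submodule.fg_span (Set.finite_range b))
    exact this
  have hL : IsField L := isField_of_isIntegral_of_isField' (R := K₀) (Field.toIsField K₀)
  refine ⟨L.toIntermediateField' hL, hLfin, ?_, fun i => hb i⟩
  have h1 : Module.finrank K₀ L₀ ≤ Fintype.card (Fin n) := finrank_range_le_card (R := K₀) b
  rw [Fintype.card_fin] at h1
  exact h1


theorem tensor_equiv (K₀ k k' A : Type u) [Field K₀] [Field k] [Field k'] [Algebra K₀ k]
    [Algebra k k'] [Algebra K₀ k'] [IsScalarTower K₀ k k'] [Module.Finite k k']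
    [CommRing A] [Algebra k A] [Algebra K₀ A] [IsScalarTower K₀ k A]
    (F : IntermediateField K₀ k') [Module.Finite K₀ F]
    (hle : Module.finrank K₀ F ≤ Module.finrank k k')
    (hb : ∀ i, Module.finBasis k k' i ∈ F) :
    Nonempty ((F ⊗[K₀] A) ≃+* (k' ⊗[k] A)) := by
  let φ₀ : k ⊗[K₀] F →ₐ[k] k' :=
    Algebra.TensorProduct.lift (Algebra.ofId k k') (F.val) (fun _ _ => Commute.all _ _)
  have hsurj : Function.Surjective φ₀.toLinearMap := by
    rw [← LinearMap.range_eq_top, ← top_le_iff, ← (Module.finBasis k k').span_eq, Submodule.span_le]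
    rintro _ ⟨i, rfl⟩
    exact ⟨1 ⊗ₜ ⟨Module.finBasis k k' i, hb i⟩, by simp [φ₀]⟩
  have H : Module.finrank k (k ⊗[K₀] F) = Module.finrank k k' :=
    le_antisymm (by rw [Module.finrank_baseChange]; exact hle)
      (LinearMap.finrank_le_finrank_of_surjective hsurj)
  have hinj : Function.Injective φ₀.toLinearMap :=
    (LinearMap.injective_iff_surjective_of_finrank_eq_finrank H).mpr hsurj
  let e₀ : k ⊗[K₀] F ≃ₐ[k] k' := AlgEquiv.ofBijective φ₀ ⟨hinj, hsurj⟩
  exact ⟨((Algebra.TensorProduct.comm K₀ F A).toRingEquiv.trans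
    ((Algebra.TensorProduct.cancelBaseChange K₀ k k A F).symm.toRingEquiv.trans
    ((Algebra.TensorProduct.congr (AlgEquiv.refl : A ≃ₐ[k] A) e₀).toRingEquiv.trans
     (Algebra.TensorProduct.comm k A k').toRingEquiv)))⟩

theorem main (k : Type u) [Field k] {ι : Type u}
    (K : ι → Type u) [∀ i, Field (K i)] [∀ i, Algebra (K i) k]
    (hdir : ∀ i j, ∃ l, Set.range (algebraMap (K i) k) ⊆ Set.range (algebraMap (K l) k) ∧
      Set.range (algebraMap (K j) k) ⊆ Set.range (algebraMap (K l) k))
    (hcov : ∀ x : k, ∃ i, x ∈ Set.range (algebraMap (K i) k))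
    (A : Type u) [CommRing A] [Algebra k A] [IsNoetherianRing A] [∀ i, Algebra (K i) A]
    [∀ i, IsScalarTower (K i) k A] (h : ∀ i, CAlg.IsGeometricallyRegular (K i) A) :
    CAlg.IsGeometricallyRegular k A := by
  classical
  intro k' _ _ hfin
  set b := Module.finBasis k k'
  let T : Finset k :=
    (Finset.univ.image fun x : Fin (Module.finrank k k') × Fin (Module.finrank k k') ×
      Fin (Module.finrank k k') => b.repr (b x.1 * b x.2.1) x.2.2) ∪
    (Finset.univ.image fun m : Fin (Module.finrank k k') => b.repr 1 m)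
  obtain ⟨l, hl⟩ := exists_index k K hdir hcov T
  letI : Algebra (K l) k' := ((algebraMap k k').comp (algebraMap (K l) k)).toAlgebra
  haveI : IsScalarTower (K l) k k' := .of_algebraMap_eq (fun _ => rfl)
  obtain ⟨F, hFfin, hFle, hFb⟩ := exists_descent (K l) k k'
    (fun i j m => hl _ (Finset.mem_union_left _ (Finset.mem_image.mpr ⟨(i, j, m), by simp, rfl⟩)))
    (fun m => hl _ (Finset.mem_union_right _ (Finset.mem_image.mpr ⟨m, by simp, rfl⟩)))
  obtain ⟨e⟩ := tensor_equiv (K l) k k' A F hFle hFb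
  haveI : IsRegularRing (F ⊗[K l] A) := h l F hFfin
  exact IsRegularRing.of_ringEquiv (R := F ⊗[K l] A) e

end Groth.Agent.Lib.Helper18GeomReg
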