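import Mathlib
import Groth.Agent.Lib.Helper13GenFlat

set_option autoImplicit false
set_option linter.style.haveILetI false
set_option linter.unusedSectionVars false
universe u
open TensorProduct

namespace Groth.Agent.Helper18Gr

section A
variable {C B : Type u} [CommRing C] [CommRing B] [Algebra C B] [Algebra B C]
  (hπ : ∀ c : C, algebraMap B C (algebraMap C B c) = c) (J : Ideal B)

include hπ in
theorem sub_mem_ker (b : B) : algebraMap C B (algebraMap B C b) - b ∈ RingHom.ker (algebraMap B C) := by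
  rw [RingHom.mem_ker, map_sub, hπ, sub_self]

include hπ in
theorem exists_eq_one_tmul (t : C ⊗[B] J) : ∃ z : J, t = (1 : C) ⊗ₜ[B] z := by
  induction t using TensorProduct.induction_on with
  | zero => exact ⟨0, (TensorProduct.tmul_zero _ _).symm⟩
  | tmul c y =>
    refine ⟨algebraMap C B c • y, ?_⟩
    rw [← TensorProduct.smul_tmul, Algebra.smul_def, mul_one, hπ]
  | add x y hx hy =>
    obtain ⟨z₁, rfl⟩ := hx
    obtain ⟨z₂, rfl⟩ := hy
    exact ⟨z₁ + z₂, (TensorProduct.tmul_add _ _ _).symm⟩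

theorem one_tmul_eq_zero_of_mem_mul (z : J)
    (hz : (z : B) ∈ RingHom.ker (algebraMap B C) * J) : (1 : C) ⊗ₜ[B] z = 0 := by
  have key : ∃ hx : (z : B) ∈ J, (1 : C) ⊗ₜ[B] (⟨(z : B), hx⟩ : J) = 0 := by
    refine Submodule.mul_induction_on (C := fun x => ∃ hx : x ∈ J, (1 : C) ⊗ₜ[B] (⟨x, hx⟩ : J) = 0)
      hz ?_ ?_
    · intro m hm n hn
      refine ⟨J.mul_mem_left m hn, ?_⟩
      have : (⟨m * n, J.mul_mem_left m hn⟩ : J) = m • (⟨n, hn⟩ : J) := rfl
      rw [this, ← TensorProduct.smul_tmul, Algebra.smul_def, mul_one, (RingHom.mem_ker).1 hm,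
        TensorProduct.zero_tmul]
    · rintro x y ⟨hx, ex⟩ ⟨hy, ey⟩
      refine ⟨J.add_mem hx hy, ?_⟩
      have : (⟨x + y, J.add_mem hx hy⟩ : J) = ⟨x, hx⟩ + ⟨y, hy⟩ := rfl
      rw [this, TensorProduct.tmul_add, ex, ey, add_zero]
  obtain ⟨hx, e⟩ := key
  exact e


include hπ in
/-- the bilinear map `(c, y) ↦ σ(c) y mod I J`. -/
theorem exists_j₀ : ∃ j₀ : C ⊗[B] J →ₗ[B] B ⧸ (RingHom.ker (algebraMap B C) * J),
    ∀ (c : C) (y : J), j₀ (c ⊗ₜ y) = Ideal.Quotient.mk _ (algebraMap C B c * (y : B)) := by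
  let I := RingHom.ker (algebraMap B C)
  let β : C →ₗ[B] J →ₗ[B] B ⧸ (I * J) :=
    LinearMap.mk₂ B (fun c y => Ideal.Quotient.mk (I * J) (algebraMap C B c * (y : B)))
      (fun c₁ c₂ y => by rw [map_add, add_mul, map_add])
      (fun b c y => by
        rw [Algebra.smul_def b c, Algebra.smul_def]
        change _ = Ideal.Quotient.mk (I * J) b * _
        refine Eq.trans ?_ (map_mul (Ideal.Quotient.mk (I * J)) b _)
        rw [Ideal.Quotient.eq]
        have h1 : algebraMap C B (algebraMap B C b * c) * (y : B) -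
            b * (algebraMap C B c * (y : B)) =
            (algebraMap C B (algebraMap B C b) - b) * (algebraMap C B c * (y : B)) := by
          rw [map_mul]; ring
        rw [h1]
        exact Ideal.mul_mem_mul (sub_mem_ker hπ b) (J.mul_mem_left _ y.2))
      (fun c y₁ y₂ => by
        change Ideal.Quotient.mk (I * J) (algebraMap C B c * ((y₁ : B) + (y₂ : B))) = _
        rw [mul_add, map_add])
      (fun b c y => by
        change Ideal.Quotient.mk (I * J) (algebraMap C B c * (b * (y : B))) = _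
        rw [Algebra.smul_def]
        change _ = Ideal.Quotient.mk (I * J) b * _
        refine Eq.trans ?_ (map_mul (Ideal.Quotient.mk (I * J)) b _)
        congr 1
        ring)
  exact ⟨TensorProduct.lift β, fun c y => by rw [TensorProduct.lift.tmul]; rfl⟩

include hπ in
/-- extension of flats: `B/(I J)` is `C`-flat if `C ⊗_B J` and `B/J` are. -/
theorem flat_quot_mul [Module.Flat C (C ⊗[B] J)] [Module.Flat C (B ⧸ J)] :
    Module.Flat C (B ⧸ (RingHom.ker (algebraMap B C) * J)) := by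
  let I := RingHom.ker (algebraMap B C)
  obtain ⟨j₀, hj₀⟩ := exists_j₀ hπ J
  have hj₁ : ∀ z : J, j₀ ((1 : C) ⊗ₜ z) = Ideal.Quotient.mk (I * J) (z : B) := by
    intro z
    rw [hj₀, map_one, one_mul]
  let j : C ⊗[B] J →ₗ[C] B ⧸ (I * J) :=
    { toFun := j₀
      map_add' := j₀.map_add
      map_smul' := fun c t => by
        obtain ⟨z, rfl⟩ := exists_eq_one_tmul hπ J t
        rw [TensorProduct.smul_tmul', smul_eq_mul, mul_one, hj₀, hj₁, RingHom.id_apply,
          Algebra.smul_def]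
        rfl }
  have hj : ∀ t, j t = j₀ t := fun _ => rfl
  have hle : I * J ≤ J := Ideal.mul_le_right
  let δ : (B ⧸ (I * J)) →ₗ[C] (B ⧸ J) :=
    (Submodule.mapQ (I * J) J LinearMap.id hle).restrictScalars C
  have hδ : ∀ b : B, δ (Ideal.Quotient.mk (I * J) b) = Ideal.Quotient.mk J b := fun _ => rfl
  refine Groth.Agent.Helper13GenFlat.flat_of_exact j δ ?_ ?_ ?_
  · intro t₁ t₂ h
    obtain ⟨z₁, rfl⟩ := exists_eq_one_tmul hπ J t₁
    obtain ⟨z₂, rfl⟩ := exists_eq_one_tmul hπ J t₂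
    rw [hj, hj, hj₁, hj₁, Ideal.Quotient.eq] at h
    have h2 := one_tmul_eq_zero_of_mem_mul (C := C) J (z₁ - z₂) h
    rw [TensorProduct.tmul_sub, sub_eq_zero] at h2
    exact h2
  · intro p
    obtain ⟨b, rfl⟩ := Ideal.Quotient.mk_surjective p
    exact ⟨Ideal.Quotient.mk (I * J) b, hδ b⟩
  · intro p
    obtain ⟨b, rfl⟩ := Ideal.Quotient.mk_surjective p
    rw [hδ, Ideal.Quotient.eq_zero_iff_mem]
    constructor
    · intro hb
      exact ⟨(1 : C) ⊗ₜ ⟨b, hb⟩, (hj _).trans (hj₁ _)⟩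
    · rintro ⟨t, ht⟩
      obtain ⟨z, rfl⟩ := exists_eq_one_tmul hπ J t
      rw [hj, hj₁, Ideal.Quotient.eq] at ht
      have := J.sub_mem z.2 (hle ht)
      rwa [sub_sub_cancel] at this

include hπ in
/-- `B/I^n` is `C`-flat if `C ⊗_B I^k` is for `k < n`. -/
theorem flat_quot_pow (n : ℕ)
    (h : ∀ k < n, Module.Flat C (C ⊗[B] ↥(RingHom.ker (algebraMap B C) ^ k))) :
    Module.Flat C (B ⧸ (RingHom.ker (algebraMap B C) ^ n)) := by
  induction n with
  | zero =>
    rw [pow_zero, Ideal.one_eq_top]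
    haveI : Subsingleton (B ⧸ (⊤ : Ideal B)) := Ideal.Quotient.subsingleton_iff.2 rfl
    infer_instance
  | succ n ih =>
    haveI := ih (fun k hk => h k (Nat.lt_succ_of_lt hk))
    haveI := h n (Nat.lt_succ_self n)
    have := flat_quot_mul hπ (RingHom.ker (algebraMap B C) ^ n)
    rwa [← pow_succ'] at this

end A

end Groth.Agent.Helper18Gr
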