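import Mathlib

set_option autoImplicit false
set_option linter.style.haveILetI false
set_option linter.unusedSectionVars false
universe u
open TensorProduct

namespace Groth.Agent.Helper18Gr

section Cc
variable {C B C' B' : Type u} [CommRing C] [CommRing B] [CommRing C'] [CommRing B']
  [Algebra C B] [Algebra C C'] [Algebra B B'] [Algebra C' B'] [Algebra C B']
  [IsScalarTower C B B'] [IsScalarTower C C' B'] [hpo : Algebra.IsPushout C C' B B']
  [Algebra B C'] [Algebra B' C'] [IsScalarTower B B' C']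
  (π : B →+* C) (hπ : ∀ c, π (algebraMap C B c) = c)
  (hπ' : ∀ c', algebraMap B' C' (algebraMap C' B' c') = c')
  (hππ' : ∀ b, algebraMap B C' b = algebraMap C C' (π b))
  {N' N : Type u} [AddCommGroup N'] [Module B N'] [AddCommGroup N] [Module B' N]
  (ι' : N' →ₗ[B] B) (hι' : Function.Injective ι')
  {P : Type u} [AddCommGroup P] [Module C P] [hflat : Module.Flat C P] (q : B →ₗ[C] P)
  (hq : Function.Surjective q) (hex : Function.Exact ι' q)
  (ι : N →ₗ[B'] B') (hι : Function.Injective ι)
  (τ : N' →+ N) (hτι : ∀ n', ι (τ n') = algebraMap B B' (ι' n'))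
  (hgen : ∀ x : N, x ∈ Submodule.span B' (Set.range τ))
  (Φ : C' ⊗[B] N' →+ C' ⊗[B'] N) (hΦ : ∀ (r : C') (n' : N'), Φ (r ⊗ₜ n') = r ⊗ₜ τ n')

include hpo hπ hπ' hππ' hι' hflat hq hex hι hτι hgen hΦ in
theorem tensor_injective_of_flat : Function.Injective Φ := by
  -- module structures
  letI mCN' : Module C N' := Module.compHom N' (algebraMap C B)
  haveI : IsScalarTower C B N' := IsScalarTower.of_algebraMap_smul fun _ _ => rfl
  letI mC'N : Module C' N := Module.compHom N (algebraMap C' B')
  haveI : IsScalarTower C' B' N := IsScalarTower.of_algebraMap_smul fun _ _ => rfl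
  letI mCN : Module C N := Module.compHom N (algebraMap C C')
  haveI : IsScalarTower C C' N := IsScalarTower.of_algebraMap_smul fun c x => by
    change algebraMap C' B' (algebraMap C C' c) • x = algebraMap C' B' (algebraMap C C' c) • x
    rfl
  let M := C' ⊗[B] N'
  have hτ : ∀ (b : B) (y : N'), τ (b • y) = algebraMap B B' b • τ y := by
    intro b y
    apply hι
    rw [hτι, ι'.map_smul, smul_eq_mul, map_mul, ι.map_smul, hτι, smul_eq_mul]
  have hCN : ∀ (c : C) (x : N), c • x = algebraMap C' B' (algebraMap C C' c) • x := fun _ _ => rfl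
  have hC'N : ∀ (c' : C') (x : N), c' • x = algebraMap C' B' c' • x := fun _ _ => rfl
  have hCN' : ∀ (c : C) (y : N'), c • y = algebraMap C B c • y := fun _ _ => rfl
  have hCM : ∀ (c : C) (t : M), c • t = algebraMap C C' c • t := fun c t =>
    (algebraMap_smul C' c t).symm
  -- τ as a C-linear map
  let τl : N' →ₗ[C] N :=
    { toFun := τ
      map_add' := map_add τ
      map_smul' := fun c y => by
        rw [RingHom.id_apply, hCN', hτ, hCN, ← IsScalarTower.algebraMap_apply C C' B',
          IsScalarTower.algebraMap_apply C B B'] }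
  let θ : C' ⊗[C] N' →ₗ[C'] N := τl.liftBaseChange C'
  have hθ : ∀ (c' : C') (y : N'), θ (c' ⊗ₜ y) = c' • τ y := fun c' y =>
    LinearMap.liftBaseChange_tmul _ _ _ _
  -- κ and μ
  let κ : N' →ₗ[C] M :=
    { toFun := fun y => (1 : C') ⊗ₜ[B] y
      map_add' := fun a b => TensorProduct.tmul_add _ _ _
      map_smul' := fun c y => by
        rw [RingHom.id_apply, hCN', ← TensorProduct.smul_tmul, Algebra.smul_def, mul_one, hππ', hπ,
          hCM, TensorProduct.smul_tmul', smul_eq_mul, mul_one] }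
  let μ : C' ⊗[C] N' →ₗ[C'] M := κ.liftBaseChange C'
  have hμ : ∀ (c' : C') (y : N'), μ (c' ⊗ₜ y) = c' ⊗ₜ[B] y := fun c' y => by
    change κ.liftBaseChange C' (c' ⊗ₜ y) = _
    rw [LinearMap.liftBaseChange_tmul]
    change c' • ((1 : C') ⊗ₜ[B] y) = _
    rw [TensorProduct.smul_tmul', smul_eq_mul, mul_one]
  -- injectivity of θ
  have hlT : Function.Injective ((ι'.restrictScalars C).lTensor C') := by
    exact LinearMap.lTensor_injective_of_exact_of_flat q hq (ι'.restrictScalars C) hι' hex C'
  let e : C' ⊗[C] B ≃ₗ[C'] B' := hpo.out.equiv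
  have he : ∀ (c' : C') (b : B), e (c' ⊗ₜ b) = c' • algebraMap B B' b := fun c' b =>
    hpo.out.equiv_tmul c' b
  have hιθ : ∀ z, ι (θ z) = e ((ι'.restrictScalars C).lTensor C' z) := by
    intro z
    induction z using TensorProduct.induction_on with
    | zero => rw [map_zero, map_zero, map_zero, map_zero]
    | tmul c' y =>
      rw [hθ, hC'N, ι.map_smul, hτι, LinearMap.lTensor_tmul, he, Algebra.smul_def c', smul_eq_mul]
      rfl
    | add a b ha hb => rw [map_add, map_add, map_add, map_add, ha, hb]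
  have hθinj : Function.Injective θ := by
    intro z₁ z₂ h
    apply hlT
    apply e.injective
    rw [← hιθ, ← hιθ, h]
  -- the key lemma
  have hπ'smul : ∀ (c' : C') (b' : B'), algebraMap B' C' (c' • b') = c' * algebraMap B' C' b' := by
    intro c' b'
    rw [Algebra.smul_def, map_mul, hπ']
  have key : ∀ (b' : B') (z : C' ⊗[C] N'),
      ∃ z', θ z' = b' • θ z ∧ μ z' = algebraMap B' C' b' • μ z := by
    intro b'
    refine hpo.out.inductionOn b' (fun b' => ∀ z : C' ⊗[C] N',
      ∃ z', θ z' = b' • θ z ∧ μ z' = algebraMap B' C' b' • μ z) ?_ ?_ ?_ ?_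
    · intro z
      exact ⟨0, by rw [map_zero, zero_smul], by rw [map_zero, map_zero, zero_smul]⟩
    · intro b z
      change ∃ z', θ z' = algebraMap B B' b • θ z ∧
        μ z' = algebraMap B' C' (algebraMap B B' b) • μ z
      induction z using TensorProduct.induction_on with
      | zero => exact ⟨0, by rw [map_zero, smul_zero], by rw [map_zero, smul_zero]⟩
      | tmul c' y =>
        refine ⟨c' ⊗ₜ (b • y), ?_, ?_⟩
        · rw [hθ, hθ, hτ, hC'N, hC'N, smul_smul, smul_smul, mul_comm]
        · rw [hμ, hμ, ← TensorProduct.smul_tmul, TensorProduct.smul_tmul', Algebra.smul_def,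
            smul_eq_mul, ← IsScalarTower.algebraMap_apply B B' C']
      | add a c ha hc =>
        obtain ⟨a', ha1, ha2⟩ := ha
        obtain ⟨c', hc1, hc2⟩ := hc
        exact ⟨a' + c', by rw [map_add, ha1, hc1, map_add, smul_add],
          by rw [map_add, ha2, hc2, map_add, smul_add]⟩
    · intro c'' b'' ih z
      obtain ⟨z'', h1, h2⟩ := ih z
      refine ⟨c'' • z'', ?_, ?_⟩
      · rw [map_smul, h1, smul_assoc]
      · rw [map_smul, h2, hπ'smul, smul_smul]
    · intro b₁ b₂ h₁ h₂ z
      obtain ⟨z₁, h11, h12⟩ := h₁ z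
      obtain ⟨z₂, h21, h22⟩ := h₂ z
      exact ⟨z₁ + z₂, by rw [map_add, h11, h21, add_smul],
        by rw [map_add, h12, h22, map_add, add_smul]⟩
  -- surjectivity of θ
  have hθsurj : Function.Surjective θ := by
    intro x
    refine Submodule.span_induction (p := fun x _ => ∃ z, θ z = x) ?_ ?_ ?_ ?_ (hgen x)
    · rintro _ ⟨y, rfl⟩
      exact ⟨1 ⊗ₜ y, by rw [hθ, one_smul]⟩
    · exact ⟨0, map_zero _⟩
    · rintro x y _ _ ⟨z₁, rfl⟩ ⟨z₂, rfl⟩
      exact ⟨z₁ + z₂, map_add _ _ _⟩
    · rintro b' x _ ⟨z, rfl⟩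
      obtain ⟨z', h1, -⟩ := key b' z
      exact ⟨z', h1⟩
  let θe : (C' ⊗[C] N') ≃ₗ[C'] N := LinearEquiv.ofBijective θ ⟨hθinj, hθsurj⟩
  have hθe : ∀ z, θe z = θ z := fun _ => rfl
  let ρ : N →+ M := (μ.comp θe.symm.toLinearMap).toAddMonoidHom
  have hρ : ∀ z, ρ (θ z) = μ z := by
    intro z
    change μ (θe.symm (θ z)) = μ z
    rw [← hθe, LinearEquiv.symm_apply_apply]
  have hρsmul : ∀ (b' : B') (x : N), ρ (b' • x) = algebraMap B' C' b' • ρ x := by
    intro b' x
    obtain ⟨z, rfl⟩ := hθsurj x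
    obtain ⟨z', h1, h2⟩ := key b' z
    rw [← h1, hρ, hρ, h2]
  have hρτ : ∀ y, ρ (τ y) = (1 : C') ⊗ₜ[B] y := by
    intro y
    have : τ y = θ (1 ⊗ₜ y) := by rw [hθ, one_smul]
    rw [this, hρ, hμ]
  let Ψ : C' ⊗[B'] N →+ M := TensorProduct.liftAddHom
    { toFun := fun c' =>
        { toFun := fun x => c' • ρ x
          map_zero' := by rw [map_zero, smul_zero]
          map_add' := fun a b => by rw [map_add, smul_add] }
      map_zero' := by
        ext x
        exact zero_smul _ _
      map_add' := fun a b => by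
        ext x
        exact add_smul _ _ _ }
    (fun b' c' x => by
      change (b' • c') • ρ x = c' • ρ (b' • x)
      rw [hρsmul, Algebra.smul_def, mul_smul, smul_comm])
  have hΨ : ∀ (c' : C') (x : N), Ψ (c' ⊗ₜ x) = c' • ρ x := fun _ _ => rfl
  have hΨΦ : ∀ t, Ψ (Φ t) = t := by
    intro t
    induction t using TensorProduct.induction_on with
    | zero => rw [map_zero, map_zero]
    | tmul c' y =>
      rw [hΦ, hΨ, hρτ, TensorProduct.smul_tmul', smul_eq_mul, mul_one]
    | add a b ha hb => rw [map_add, map_add, ha, hb]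
  exact Function.LeftInverse.injective hΨΦ

include hpo hπ hπ' hππ' hι' hι hτι hgen hΦ in
theorem tensor_injective_of_flat_pow [Algebra B C] (n : ℕ)
    [Module.Flat C (B ⧸ RingHom.ker (algebraMap B C) ^ n)]
    (hrange : ∀ b, b ∈ RingHom.ker (algebraMap B C) ^ n ↔ ∃ s, ι' s = b) :
    Function.Injective Φ := by
  let q : B →ₗ[C] (B ⧸ RingHom.ker (algebraMap B C) ^ n) :=
    (Ideal.Quotient.mkₐ C (RingHom.ker (algebraMap B C) ^ n)).toLinearMap
  have hq : Function.Surjective q := Ideal.Quotient.mk_surjective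
  have hex : Function.Exact ι' q := by
    intro b
    change Ideal.Quotient.mk _ b = 0 ↔ _
    rw [Ideal.Quotient.eq_zero_iff_mem, hrange]
    rfl
  exact tensor_injective_of_flat π hπ hπ' hππ' ι' hι' q hq hex ι hι τ hτι hgen Φ hΦ

end Cc

end Groth.Agent.Helper18Gr
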