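import Mathlib
import Groth.Prelude.Def_OmegaPn
import Groth.Agent.Lib.Helper18PP3
import Groth.Agent.Lib.Helper18OmLS13
import Groth.Agent.Lib.Helper23IdealSec
import Groth.Agent.Lib.Helper23FinType2
import Groth.Agent.Lib.Helper20FormalPull
import Groth.Agent.Lib.Helper20OmegaAff

set_option autoImplicit false
set_option linter.style.haveILetI false
universe u
open CategoryTheory Limits AlgebraicGeometry TopologicalSpace Opposite

namespace Groth.Agent.Helper18PP

section idealFT
variable {X : Scheme.{u}} (J : X.IdealSheafData)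

theorem idealSect_mem_ideal (W : X.affineOpens) (s : Γ(ClSub.idealMod J, W.1)) :
    OmegaSh.idealSect J W.1 s ∈ J.ideal W :=
  Groth.Agent.Lib.Helper23.IdealSec.ι_mem_ideal J W s

theorem exists_idealSect_eq_of_mem (W : X.affineOpens) (a : Γ(X, W.1)) (ha : a ∈ J.ideal W) :
    ∃ s : Γ(ClSub.idealMod J, W.1), OmegaSh.idealSect J W.1 s = a :=
  Groth.Agent.Lib.Helper23.IdealSec.exists_ι_eq J W a ha

/-- sections of the ideal module over an affine open, as a linear map into functions. -/
noncomputable def idealSectₗ (W : X.Opens) : Γ(ClSub.idealMod J, W) →ₗ[Γ(X, W)] Γ(X, W) where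
  toFun := OmegaSh.idealSect J W
  map_add' := map_add _
  map_smul' b s := by
    rw [Groth.Agent.Helper18OmLS.idealSect_smul]; rfl

theorem finite_idealMod (W : X.affineOpens) (h : (J.ideal W).FG) :
    Module.Finite Γ(X, W.1) Γ(ClSub.idealMod J, W.1) := by
  have hinj : Function.Injective (idealSectₗ J W.1) :=
    Groth.Agent.Helper18OmLS.idealSect_injective J W.1
  have hrange : LinearMap.range (idealSectₗ J W.1) = J.ideal W := by
    ext a
    constructor
    · rintro ⟨s, rfl⟩
      exact idealSect_mem_ideal J W s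
    · intro ha
      obtain ⟨s, hs⟩ := exists_idealSect_eq_of_mem J W a ha
      exact ⟨s, hs⟩
  haveI : Module.Finite Γ(X, W.1) (LinearMap.range (idealSectₗ J W.1)) := by
    rw [hrange]
    exact Module.Finite.iff_fg.mpr h
  exact Module.Finite.equiv (LinearEquiv.ofInjective (idealSectₗ J W.1) hinj).symm

theorem isFiniteType_idealMod (h : ∀ W : X.affineOpens, (J.ideal W).FG) :
    SheafOfModules.IsFiniteType (R := X.ringCatSheaf) (ClSub.idealMod J) := by
  haveI := Groth.Agent.Lib.Helper20.OmegaAff.isQuasicoherent_idealMod J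
  rw [Groth.Agent.Lib.Helper23.FinType.isFiniteType_iff_forall_affine]
  intro U hU
  exact finite_idealMod J ⟨U, hU⟩ (h ⟨U, hU⟩)

end idealFT

theorem main_S5973 {Y X : Scheme.{u}} (f : Y ⟶ X) [IsClosedImmersion f]
    [LocallyOfFinitePresentation f] (n : ℕ) :
    Coh.IsCoh (PrinPart.grMod f n) := by
  haveI := Groth.Agent.Lib.Helper20.OmegaAff.isQuasicoherent_idealMod (f.ker ^ n)
  haveI : SheafOfModules.IsFiniteType (R := X.ringCatSheaf) (ClSub.idealMod (f.ker ^ n)) := by
    refine isFiniteType_idealMod _ fun W => ?_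
    rw [Scheme.IdealSheafData.ideal_pow]
    exact Ideal.FG.pow (ker_ideal_fg f W)
  refine ⟨?_, ?_⟩
  · unfold PrinPart.grMod
    infer_instance
  · exact Groth.Agent.Lib.Helper20.FormalPull.isFiniteType_pullback f _

end Groth.Agent.Helper18PP
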