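import Mathlib
import Groth.Prelude.Def_OmegaPn
import Groth.Agent.Lib.Helper22IdealComap

set_option autoImplicit false
set_option linter.style.haveILetI false
universe u
open CategoryTheory Limits AlgebraicGeometry TopologicalSpace Opposite

namespace Groth.Agent.Helper18PP

section comapPow
variable {X' X : Scheme.{u}} (v : X' ⟶ X)

theorem iSup_affine_le_preimage :
    ⨆ U : {U : X'.affineOpens // ∃ V : X.affineOpens, U.1 ≤ v ⁻¹ᵁ V.1}, (U.1).1 = ⊤ := by
  rw [eq_top_iff]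
  intro y _
  obtain ⟨V, hV, hyV, -⟩ := exists_isAffineOpen_mem_and_subset (x := v y) (U := ⊤) trivial
  obtain ⟨U, hU, hyU, hUV⟩ := exists_isAffineOpen_mem_and_subset (x := y) (U := v ⁻¹ᵁ V) hyV
  exact Opens.mem_iSup.2 ⟨⟨⟨U, hU⟩, ⟨V, hV⟩, hUV⟩, hyU⟩

theorem comap_pow (I : X.IdealSheafData) (k : ℕ) : (I ^ k).comap v = (I.comap v) ^ k := by
  refine Scheme.IdealSheafData.ext_of_iSup_eq_top
    (fun U : {U : X'.affineOpens // ∃ V : X.affineOpens, U.1 ≤ v ⁻¹ᵁ V.1} => U.1)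
    (iSup_affine_le_preimage v) ?_
  rintro ⟨U, V, hUV⟩
  change ((I ^ k).comap v).ideal U = ((I.comap v) ^ k).ideal U
  rw [Groth.Agent.Lib.Helper22.IdealComap.ideal_comap_eq_map v (I ^ k) U V hUV,
    Scheme.IdealSheafData.ideal_pow, Scheme.IdealSheafData.ideal_pow, Pi.pow_apply, Pi.pow_apply,
    Groth.Agent.Lib.Helper22.IdealComap.ideal_comap_eq_map v I U V hUV, Ideal.map_pow]

end comapPow

theorem main_S5951 {Y X Y' X' : Scheme.{u}} (f : Y ⟶ X) [IsClosedImmersion f]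
    (v : X' ⟶ X) (u : Y' ⟶ Y) (f' : Y' ⟶ X') (hsq : IsPullback u f' f v) (n : ℕ)
    (w : PrinPart.infNbhd f' n ⟶ PrinPart.infNbhd f n)
    (hw : w ≫ PrinPart.infNbhdι f n = PrinPart.infNbhdι f' n ≫ v) :
    IsPullback w (PrinPart.infNbhdι f' n) (PrinPart.infNbhdι f n) v := by
  have h1 : f'.ker = f.ker.comap v := by
    rw [← Scheme.IdealSheafData.ker_fst_of_isClosedImmersion f v, ← hsq.flip.isoPullback_hom_fst,
      Scheme.Hom.ker_comp_of_isIso]
  haveI : IsClosedImmersion (PrinPart.infNbhdι f n) := by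
    unfold PrinPart.infNbhdι; infer_instance
  haveI : IsClosedImmersion (PrinPart.infNbhdι f' n) := by
    unfold PrinPart.infNbhdι; infer_instance
  refine (isPullback_of_isClosedImmersion (PrinPart.infNbhdι f' n) (PrinPart.infNbhdι f n) w v
    hw.symm ?_).flip
  unfold PrinPart.infNbhdι
  rw [Scheme.IdealSheafData.ker_subschemeι, Scheme.IdealSheafData.ker_subschemeι, comap_pow, h1]

end Groth.Agent.Helper18PP
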