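import Mathlib
import Groth.Prelude.Def_OmegaPn
import Groth.Agent.Lib.Helper18Con3
import Groth.Agent.Lib.Helper18PP5
import Groth.Agent.Lib.Helper18PP4

set_option autoImplicit false
set_option linter.style.haveILetI false
set_option linter.unusedSectionVars false
universe u
open CategoryTheory AlgebraicGeometry Limits TopologicalSpace Opposite TensorProduct

namespace Groth.Agent.Helper18PP

open Groth.Agent.Helper18OmLS Groth.Agent.Helper18Om Groth.Agent.Helper18Con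
open Groth.Agent.Helper13PullbackUnit Groth.Agent.Helper13ModGlue Groth.Agent.Lib.Helper6

section locSect
variable {X : Scheme.{u}} (K : X.IdealSheafData)

/-- a function which lies in `K` over all small affine opens is killed by the comorphism of the
closed subscheme of `K`. -/
theorem subschemeι_app_eq_zero_of_locally (W : X.Opens) (x : Γ(X, W))
    (hx : ∀ (W' : X.Opens) (hW' : IsAffineOpen W') (h : W' ≤ W),
      X.presheaf.map (homOfLE h).op x ∈ K.ideal ⟨W', hW'⟩) :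
    (K.subschemeι.app W) x = 0 := by
  refine (K.subscheme).IsSheaf.section_ext fun y hy => ?_
  obtain ⟨_, ⟨W', hW', rfl⟩, hyW', hW'W : W' ≤ W⟩ :=
    X.isBasis_affineOpens.exists_subset_of_mem_open hy W.isOpen
  refine ⟨K.subschemeι ⁻¹ᵁ W', K.subschemeι.preimage_mono hW'W, hyW', ?_⟩
  rw [map_zero]
  have hn := K.subschemeι.naturality (homOfLE hW'W).op
  have hn' := congr($hn x)
  rw [ConcreteCategory.comp_apply, ConcreteCategory.comp_apply] at hn'
  refine hn'.symm.trans ?_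
  have h1 := hx W' hW' hW'W
  rw [← K.ker_subschemeι_app ⟨W', hW'⟩, RingHom.mem_ker] at h1
  exact h1

/-- a function which lies in `K` over all small affine opens is a section of the ideal module. -/
theorem exists_idealSect_eq_of_locally (W : X.Opens) (x : Γ(X, W))
    (hx : ∀ (W' : X.Opens) (hW' : IsAffineOpen W') (h : W' ≤ W),
      X.presheaf.map (homOfLE h).op x ∈ K.ideal ⟨W', hW'⟩) :
    ∃ s : Γ(ClSub.idealMod K, W), OmegaSh.idealSect K W s = x :=
  Groth.Agent.Lib.Helper20.IdealModSec.exists_eq_ι K W x (by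
    rw [Groth.Agent.Lib.Helper20.IdealModSec.toSubscheme_app]
    exact subschemeι_app_eq_zero_of_locally K W x hx)

end locSect

section chart
variable {Z X Z' X' : Scheme.{u}} (i : Z ⟶ X) (i' : Z' ⟶ X') (g : X ⟶ X') (gZ : Z ⟶ Z')
  (K : X.IdealSheafData) (K' : X'.IdealSheafData)

/-- the defining property of the canonical map between pulled back ideal modules. -/
def IsIdealMap (φ : (Scheme.Modules.pullback gZ).obj ((Scheme.Modules.pullback i').obj
    (ClSub.idealMod K')) ⟶ (Scheme.Modules.pullback i).obj (ClSub.idealMod K)) : Prop :=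
  ∀ (U' : X'.Opens) (s' : Γ(ClSub.idealMod K', U')) (s : Γ(ClSub.idealMod K, g ⁻¹ᵁ U')),
    OmegaSh.idealSect K (g ⁻¹ᵁ U') s = g.app U' (OmegaSh.idealSect K' U' s') →
    ∀ (V : Z.Opens) (h₁ : V ≤ gZ ⁻¹ᵁ (i' ⁻¹ᵁ U')) (h₂ : V ≤ i ⁻¹ᵁ (g ⁻¹ᵁ U')),
      ((Scheme.Modules.pullback i).obj (ClSub.idealMod K)).presheaf.map (homOfLE h₁).op
          (φ.app (gZ ⁻¹ᵁ (i' ⁻¹ᵁ U'))
            (OmegaSh.pullSect gZ ((Scheme.Modules.pullback i').obj (ClSub.idealMod K')) (i' ⁻¹ᵁ U')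
              (OmegaSh.pullSect i' (ClSub.idealMod K') U' s'))) =
        ((Scheme.Modules.pullback i).obj (ClSub.idealMod K)).presheaf.map (homOfLE h₂).op
          (OmegaSh.pullSect i (ClSub.idealMod K) (g ⁻¹ᵁ U') s)

variable (hsq : gZ ≫ i' = i ≫ g) (hK : K'.comap g = K)
  (φ : (Scheme.Modules.pullback gZ).obj ((Scheme.Modules.pullback i').obj
    (ClSub.idealMod K')) ⟶ (Scheme.Modules.pullback i).obj (ClSub.idealMod K))
  (hφ : IsIdealMap i i' g gZ K K' φ)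
  {V' : X'.Opens} (hV' : IsAffineOpen V') (hT' : IsAffineOpen (i' ⁻¹ᵁ V'))
  {U : X.Opens} (hU : IsAffineOpen U) (hUV' : U ≤ g ⁻¹ᵁ V') (hT : IsAffineOpen (i ⁻¹ᵁ U))

include hsq hUV' in
theorem chartK_le : i ⁻¹ᵁ U ≤ gZ ⁻¹ᵁ (i' ⁻¹ᵁ V') := by
  intro z hz
  have h1 : g (i z) ∈ V' := hUV' hz
  change i' (gZ z) ∈ V'
  have h2 : i' (gZ z) = g (i z) := by
    rw [← Scheme.Hom.comp_apply, ← Scheme.Hom.comp_apply, hsq]
  rw [h2]; exact h1

include hK in
theorem ideal_eq_map {V' : X'.Opens} (hV' : IsAffineOpen V') {U : X.Opens} (hU : IsAffineOpen U)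
    (hUV' : U ≤ g ⁻¹ᵁ V') :
    K.ideal ⟨U, hU⟩ = (K'.ideal ⟨V', hV'⟩).map (g.appLE V' U hUV').hom := by
  rw [← hK]
  exact Groth.Agent.Lib.Helper22.IdealComap.ideal_comap_eq_map g K' ⟨U, hU⟩ ⟨V', hV'⟩ hUV'

include hsq hK hφ hV' hU hUV' in
/-- `φ` on a doubly pulled back section, over the chart. -/
theorem phi_chart (s' : Γ(ClSub.idealMod K', V')) (s : Γ(ClSub.idealMod K, U))
    (hs : OmegaSh.idealSect K U s = g.appLE V' U hUV' (OmegaSh.idealSect K' V' s')) :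
    φ.app (i ⁻¹ᵁ U) (unitSec gZ ((Scheme.Modules.pullback i').obj (ClSub.idealMod K'))
      (chartK_le i i' g gZ hsq hUV')
      (unitSec i' (ClSub.idealMod K') (le_refl (i' ⁻¹ᵁ V')) s')) =
    unitSec i (ClSub.idealMod K) (le_refl (i ⁻¹ᵁ U)) s := by
  have hTT' := chartK_le i i' g gZ hsq hUV'
  obtain ⟨sb, hsb⟩ : ∃ sb : Γ(ClSub.idealMod K, g ⁻¹ᵁ V'),
      OmegaSh.idealSect K (g ⁻¹ᵁ V') sb = g.app V' (OmegaSh.idealSect K' V' s') := by
    refine exists_idealSect_eq_of_locally K _ _ fun W' hW' h => ?_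
    rw [ideal_eq_map g K K' hK hV' hW' h]
    have : X.presheaf.map (homOfLE h).op (g.app V' (OmegaSh.idealSect K' V' s')) =
        (g.appLE V' W' h).hom (OmegaSh.idealSect K' V' s') := by
      rw [Scheme.Hom.appLE]
      rfl
    rw [this]
    exact Ideal.mem_map_of_mem _ (idealSect_mem_ideal K' ⟨V', hV'⟩ s')
  have key := hφ V' s' sb hsb (i ⁻¹ᵁ U) hTT' (i.preimage_mono hUV')
  have h1 : unitSec i' (ClSub.idealMod K') (le_refl (i' ⁻¹ᵁ V')) s' =
      OmegaSh.pullSect i' (ClSub.idealMod K') V' s' := by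
    rw [unitSec_apply]
    exact presheaf_map_homOfLE_refl _ _ _
  rw [h1, unitSec_apply]
  have h2 := congr($(φ.mapPresheaf.naturality (homOfLE hTT').op)
    (OmegaSh.pullSect gZ ((Scheme.Modules.pullback i').obj (ClSub.idealMod K')) (i' ⁻¹ᵁ V')
      (OmegaSh.pullSect i' (ClSub.idealMod K') V' s')))
  refine h2.trans ?_
  refine key.trans ?_
  have h3 : (ClSub.idealMod K).presheaf.map (homOfLE hUV').op sb = s := by
    apply idealSect_injective
    rw [idealSect_res, hsb, hs, Scheme.Hom.appLE]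
    rfl
  rw [← h3, unitSec_res]
  rfl

include hsq hK hφ hV' hT' hU hUV' hT in
theorem chart_ideal :
    Function.Surjective (φ.app (i ⁻¹ᵁ U)) ∧ (Flat g → Function.Bijective (φ.app (i ⁻¹ᵁ U))) := by
  have hTT' := chartK_le i i' g gZ hsq hUV'
  letI algA'A : Algebra Γ(X', V') Γ(X, U) := (g.appLE V' U hUV').hom.toAlgebra
  letI algAR : Algebra Γ(X, U) Γ(Z, i ⁻¹ᵁ U) := (i.appLE U (i ⁻¹ᵁ U) le_rfl).hom.toAlgebra
  letI algA'R : Algebra Γ(X', V') Γ(Z, i ⁻¹ᵁ U) :=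
    ((algebraMap Γ(X, U) Γ(Z, i ⁻¹ᵁ U)).comp (algebraMap Γ(X', V') Γ(X, U))).toAlgebra
  haveI : IsScalarTower Γ(X', V') Γ(X, U) Γ(Z, i ⁻¹ᵁ U) :=
    IsScalarTower.of_algebraMap_eq fun _ => rfl
  have hsqR : ∀ a : Γ(X', V'), algebraMap Γ(X', V') Γ(Z, i ⁻¹ᵁ U) a =
      gZ.appLE (i' ⁻¹ᵁ V') (i ⁻¹ᵁ U) hTT' (i'.appLE V' (i' ⁻¹ᵁ V') le_rfl a) := by
    intro a
    have h1 : g.appLE V' U hUV' ≫ i.appLE U (i ⁻¹ᵁ U) le_rfl =
        (i ≫ g).appLE V' (i ⁻¹ᵁ U) (i.preimage_mono hUV') :=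
      Scheme.Hom.appLE_comp_appLE _ _ _ _ _ _ _
    have h2 : i'.appLE V' (i' ⁻¹ᵁ V') le_rfl ≫ gZ.appLE (i' ⁻¹ᵁ V') (i ⁻¹ᵁ U) hTT' =
        (gZ ≫ i').appLE V' (i ⁻¹ᵁ U) hTT' :=
      Scheme.Hom.appLE_comp_appLE _ _ _ _ _ _ _
    have h3 := OmegaSh.appLE_congr_hom hsq.symm (U := V') (V := i ⁻¹ᵁ U) (i.preimage_mono hUV') hTT'
    have h4 : g.appLE V' U hUV' ≫ i.appLE U (i ⁻¹ᵁ U) le_rfl =
        i'.appLE V' (i' ⁻¹ᵁ V') le_rfl ≫ gZ.appLE (i' ⁻¹ᵁ V') (i ⁻¹ᵁ U) hTT' := by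
      rw [h1, h2, h3]
    exact congr($h4 a)
  have hKU := ideal_eq_map g K K' hK hV' hU hUV'
  -- the comparison map of ideals
  have hτex : ∀ s' : Γ(ClSub.idealMod K', V'), ∃ s : Γ(ClSub.idealMod K, U),
      OmegaSh.idealSect K U s = g.appLE V' U hUV' (OmegaSh.idealSect K' V' s') := by
    intro s'
    refine exists_idealSect_eq_of_mem K ⟨U, hU⟩ _ ?_
    rw [hKU]
    exact Ideal.mem_map_of_mem _ (idealSect_mem_ideal K' ⟨V', hV'⟩ s')
  choose τf hτf using hτex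
  let τ : Γ(ClSub.idealMod K', V') →+ Γ(ClSub.idealMod K, U) :=
    { toFun := τf
      map_zero' := by
        apply idealSect_injective
        rw [hτf, map_zero, map_zero, map_zero]
      map_add' := fun a b => by
        apply idealSect_injective
        rw [hτf, map_add, map_add, map_add, hτf, hτf] }
  have hτ : ∀ (a : Γ(X', V')) (n : Γ(ClSub.idealMod K', V')),
      τ (a • n) = algebraMap Γ(X', V') Γ(X, U) a • τ n := by
    intro a n
    apply idealSect_injective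
    change OmegaSh.idealSect K U (τf (a • n)) = OmegaSh.idealSect K U
      (algebraMap Γ(X', V') Γ(X, U) a • τf n)
    rw [hτf, idealSect_smul, idealSect_smul, hτf, map_mul]
    rfl
  have hgen : ∀ n : Γ(ClSub.idealMod K, U), n ∈ Submodule.span Γ(X, U) (Set.range τ) := by
    intro n
    have h1 : OmegaSh.idealSect K U n ∈ Ideal.map (g.appLE V' U hUV').hom
        (K'.ideal ⟨V', hV'⟩) := by
      rw [← hKU]
      exact idealSect_mem_ideal K ⟨U, hU⟩ n
    have key : ∀ x ∈ Ideal.map (g.appLE V' U hUV').hom (K'.ideal ⟨V', hV'⟩),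
        ∃ m ∈ Submodule.span Γ(X, U) (Set.range τ), OmegaSh.idealSect K U m = x := by
      intro x hx
      refine Submodule.span_induction ?_ ?_ ?_ ?_ hx
      · rintro _ ⟨σ', hσ', rfl⟩
        obtain ⟨s', hs'⟩ := exists_idealSect_eq_of_mem K' ⟨V', hV'⟩ σ' hσ'
        refine ⟨τ s', Submodule.subset_span ⟨s', rfl⟩, ?_⟩
        change OmegaSh.idealSect K U (τf s') = _
        rw [hτf, hs']
      · exact ⟨0, zero_mem _, map_zero _⟩
      · rintro x y _ _ ⟨m, hm, rfl⟩ ⟨m', hm', rfl⟩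
        exact ⟨m + m', add_mem hm hm', map_add _ _ _⟩
      · rintro a x _ ⟨m, hm, rfl⟩
        exact ⟨a • m, Submodule.smul_mem _ a hm, idealSect_smul _ U a m⟩
    obtain ⟨m, hm, hmn⟩ := key _ h1
    rwa [idealSect_injective _ _ hmn] at hm
  -- the tensor product descriptions
  haveI := Groth.Agent.Lib.Helper20.OmegaAff.isQuasicoherent_idealMod K
  haveI := Groth.Agent.Lib.Helper20.OmegaAff.isQuasicoherent_idealMod K'
  obtain ⟨e₃, he₃⟩ := exists_pullback_equiv i (ClSub.idealMod K) (le_refl (i ⁻¹ᵁ U)) hU hT rfl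
  let L : Γ(ClSub.idealMod K', V') →+
      Γ((Scheme.Modules.pullback gZ).obj ((Scheme.Modules.pullback i').obj (ClSub.idealMod K')),
        i ⁻¹ᵁ U) :=
    (unitSec gZ ((Scheme.Modules.pullback i').obj (ClSub.idealMod K')) hTT').comp
      (unitSec i' (ClSub.idealMod K') (le_refl (i' ⁻¹ᵁ V')))
  have hL : ∀ (a : Γ(X', V')) (m : Γ(ClSub.idealMod K', V')),
      L (a • m) = algebraMap Γ(X', V') Γ(Z, i ⁻¹ᵁ U) a • L m := by
    intro a m
    change unitSec gZ _ hTT' (unitSec i' (ClSub.idealMod K') (le_refl (i' ⁻¹ᵁ V')) (a • m)) = _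
    rw [unitSec_smul, unitSec_smul, hsqR]
    rfl
  obtain ⟨Λ, hΛ⟩ := exists_baseChangeEquiv (A := Γ(X', V')) (B := Γ(Z, i ⁻¹ᵁ U)) L hL
    (fun N _ _ l hl => existsUnique_lift₂ i' gZ (ClSub.idealMod K') hV' hT' (le_refl _)
      hT hTT' N l (fun r x => by rw [hl, hsqR]))
  obtain ⟨Φ, hΦ, hΦs, hΦb⟩ := exists_tensor_map (R := Γ(Z, i ⁻¹ᵁ U)) τ hτ
  let φT : Γ((Scheme.Modules.pullback gZ).obj ((Scheme.Modules.pullback i').obj
      (ClSub.idealMod K')), i ⁻¹ᵁ U) →+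
      Γ((Scheme.Modules.pullback i).obj (ClSub.idealMod K), i ⁻¹ᵁ U) := (φ.app (i ⁻¹ᵁ U)).hom
  have hφT : ∀ x, φT x = φ.app (i ⁻¹ᵁ U) x := fun _ => rfl
  have hcomp : ∀ v : Γ(Z, i ⁻¹ᵁ U) ⊗[Γ(X', V')] Γ(ClSub.idealMod K', V'),
      φT (Λ v) = e₃ (Φ v) := by
    intro v
    induction v using TensorProduct.induction_on with
    | zero => rw [map_zero, map_zero, map_zero, map_zero]
    | tmul r s' =>
      rw [hΛ, hΦ, he₃]
      refine (Scheme.Modules.Hom.app_smul φ r _).trans ?_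
      congr 1
      exact phi_chart i i' g gZ K K' hsq hK φ hφ hV' hU hUV' s' (τ s') (hτf s')
    | add x y hx hy => rw [map_add, map_add, map_add, map_add, hx, hy]
  constructor
  · intro y
    obtain ⟨w, rfl⟩ := e₃.surjective y
    obtain ⟨v, rfl⟩ := hΦs hgen w
    exact ⟨Λ v, (hφT _).symm.trans (hcomp v)⟩
  · intro hflat
    haveI : Module.Flat Γ(X', V') Γ(X, U) := Scheme.Hom.flat_appLE g hV' hU hUV'
    let ι' : Γ(ClSub.idealMod K', V') →ₗ[Γ(X', V')] Γ(X', V') :=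
      { toFun := OmegaSh.idealSect K' V'
        map_add' := map_add _
        map_smul' := fun a m => idealSect_smul _ V' a m }
    let ι : Γ(ClSub.idealMod K, U) →ₗ[Γ(X, U)] Γ(X, U) :=
      { toFun := OmegaSh.idealSect K U
        map_add' := map_add _
        map_smul' := fun a m => idealSect_smul _ U a m }
    have hb := hΦb ι' ι inferInstance (idealSect_injective _ V') (idealSect_injective _ U)
      (fun n' => hτf n') hgen
    constructor
    · intro x y hxy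
      obtain ⟨v, rfl⟩ := Λ.surjective x
      obtain ⟨w, rfl⟩ := Λ.surjective y
      have hxy' : φT (Λ v) = φT (Λ w) := hxy
      rw [hcomp, hcomp] at hxy'
      rw [hb.1 (e₃.injective hxy')]
    · intro y
      obtain ⟨w, rfl⟩ := e₃.surjective y
      obtain ⟨v, rfl⟩ := hb.2 w
      exact ⟨Λ v, (hφT _).symm.trans (hcomp v)⟩

end chart

end Groth.Agent.Helper18PP
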