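import Mathlib
import Groth.Prelude.Def_OmegaPn
import Groth.Agent.Lib.Helper18PP7

set_option autoImplicit false
set_option linter.style.haveILetI false
set_option linter.unusedSectionVars false
universe u
open CategoryTheory AlgebraicGeometry Limits TopologicalSpace Opposite TensorProduct

namespace Groth.Agent.Helper18PP

open Groth.Agent.Helper18OmLS Groth.Agent.Helper18Om Groth.Agent.Helper18Con
open Groth.Agent.Helper13PullbackUnit Groth.Agent.Helper13ModGlue Groth.Agent.Lib.Helper6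

section chart
variable {Z X Z' X' : Scheme.{u}} (i : Z ⟶ X) (i' : Z' ⟶ X') (g : X ⟶ X') (gZ : Z ⟶ Z')
  (K : X.IdealSheafData) (K' : X'.IdealSheafData)
  (hsq : gZ ≫ i' = i ≫ g) (hK : K'.comap g = K)
  (φ : (Scheme.Modules.pullback gZ).obj ((Scheme.Modules.pullback i').obj
    (ClSub.idealMod K')) ⟶ (Scheme.Modules.pullback i).obj (ClSub.idealMod K))
  (hφ : IsIdealMap i i' g gZ K K' φ)
  {V' : X'.Opens} (hV' : IsAffineOpen V') (hT' : IsAffineOpen (i' ⁻¹ᵁ V'))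
  {U : X.Opens} (hU : IsAffineOpen U) (hUV' : U ≤ g ⁻¹ᵁ V') (hT : IsAffineOpen (i ⁻¹ᵁ U))

include hsq hK hφ hV' hT' hU hUV' hT in
/-- the chart description of `φ`: it is bijective as soon as the tensor level map `Φ` is. -/
theorem chart_ideal_bij_aux [Algebra Γ(X', V') Γ(X, U)] [Algebra Γ(X, U) Γ(Z, i ⁻¹ᵁ U)]
    [Algebra Γ(X', V') Γ(Z, i ⁻¹ᵁ U)] [IsScalarTower Γ(X', V') Γ(X, U) Γ(Z, i ⁻¹ᵁ U)]
    (ha1 : algebraMap Γ(X', V') Γ(X, U) = (g.appLE V' U hUV').hom)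
    (ha2 : algebraMap Γ(X, U) Γ(Z, i ⁻¹ᵁ U) = (i.appLE U (i ⁻¹ᵁ U) le_rfl).hom)
    (τ : Γ(ClSub.idealMod K', V') →+ Γ(ClSub.idealMod K, U))
    (hτf : ∀ s', OmegaSh.idealSect K U (τ s') = g.appLE V' U hUV' (OmegaSh.idealSect K' V' s'))
    (Φ : Γ(Z, i ⁻¹ᵁ U) ⊗[Γ(X', V')] Γ(ClSub.idealMod K', V') →+
      Γ(Z, i ⁻¹ᵁ U) ⊗[Γ(X, U)] Γ(ClSub.idealMod K, U))
    (hΦ : ∀ (r : Γ(Z, i ⁻¹ᵁ U)) (n' : Γ(ClSub.idealMod K', V')), Φ (r ⊗ₜ n') = r ⊗ₜ τ n')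
    (hb : Function.Bijective Φ) : Function.Bijective (φ.app (i ⁻¹ᵁ U)) := by
  have hTT' := chartK_le i i' g gZ hsq hUV'
  have hsqR : ∀ a : Γ(X', V'), algebraMap Γ(X', V') Γ(Z, i ⁻¹ᵁ U) a =
      gZ.appLE (i' ⁻¹ᵁ V') (i ⁻¹ᵁ U) hTT' (i'.appLE V' (i' ⁻¹ᵁ V') le_rfl a) := by
    intro a
    have h1 : g.appLE V' U hUV' ≫ i.appLE U (i ⁻¹ᵁ U) le_rfl =
        (i ≫ g).appLE V' (i ⁻¹ᵁ U) (i.preimage_mono hUV') :=
      Scheme.Hom.appLE_comp_appLE _ _ _ _ _ _ _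
    have h2 : i'.appLE V' (i' ⁻¹ᵁ V') le_rfl ≫ gZ.appLE (i' ⁻¹ᵁ V') (i ⁻¹ᵁ U) hTT' =
        (gZ ≫ i').appLE V' (i ⁻¹ᵁ U) hTT' :=
      Scheme.Hom.appLE_comp_appLE _ _ _ _ _ _ _
    have h3 := OmegaSh.appLE_congr_hom hsq.symm (U := V') (V := i ⁻¹ᵁ U) (i.preimage_mono hUV') hTT'
    have h4 : g.appLE V' U hUV' ≫ i.appLE U (i ⁻¹ᵁ U) le_rfl =
        i'.appLE V' (i' ⁻¹ᵁ V') le_rfl ≫ gZ.appLE (i' ⁻¹ᵁ V') (i ⁻¹ᵁ U) hTT' := by
      rw [h1, h2, h3]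
    rw [IsScalarTower.algebraMap_apply Γ(X', V') Γ(X, U) Γ(Z, i ⁻¹ᵁ U), ha1, ha2]
    exact congr($h4 a)
  haveI := Groth.Agent.Lib.Helper20.OmegaAff.isQuasicoherent_idealMod K
  haveI := Groth.Agent.Lib.Helper20.OmegaAff.isQuasicoherent_idealMod K'
  obtain ⟨e₃, he₃⟩ := exists_pullback_equiv i (ClSub.idealMod K) (le_refl (i ⁻¹ᵁ U)) hU hT ha2
  let L : Γ(ClSub.idealMod K', V') →+
      Γ((Scheme.Modules.pullback gZ).obj ((Scheme.Modules.pullback i').obj (ClSub.idealMod K')),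
        i ⁻¹ᵁ U) :=
    (unitSec gZ ((Scheme.Modules.pullback i').obj (ClSub.idealMod K')) hTT').comp
      (unitSec i' (ClSub.idealMod K') (le_refl (i' ⁻¹ᵁ V')))
  have hL : ∀ (a : Γ(X', V')) (m : Γ(ClSub.idealMod K', V')),
      L (a • m) = algebraMap Γ(X', V') Γ(Z, i ⁻¹ᵁ U) a • L m := by
    intro a m
    change unitSec gZ _ hTT' (unitSec i' (ClSub.idealMod K') (le_refl (i' ⁻¹ᵁ V')) (a • m)) = _
    rw [unitSec_smul, unitSec_smul, hsqR]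
    rfl
  obtain ⟨Λ, hΛ⟩ := exists_baseChangeEquiv (A := Γ(X', V')) (B := Γ(Z, i ⁻¹ᵁ U)) L hL
    (fun N _ _ l hl => existsUnique_lift₂ i' gZ (ClSub.idealMod K') hV' hT' (le_refl _)
      hT hTT' N l (fun r x => by rw [hl, hsqR]))
  let φT : Γ((Scheme.Modules.pullback gZ).obj ((Scheme.Modules.pullback i').obj
      (ClSub.idealMod K')), i ⁻¹ᵁ U) →+
      Γ((Scheme.Modules.pullback i).obj (ClSub.idealMod K), i ⁻¹ᵁ U) := (φ.app (i ⁻¹ᵁ U)).hom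
  have hφT : ∀ x, φT x = φ.app (i ⁻¹ᵁ U) x := fun _ => rfl
  have hcomp : ∀ v : Γ(Z, i ⁻¹ᵁ U) ⊗[Γ(X', V')] Γ(ClSub.idealMod K', V'),
      φT (Λ v) = e₃ (Φ v) := by
    intro v
    induction v using TensorProduct.induction_on with
    | zero => rw [map_zero, map_zero, map_zero, map_zero]
    | tmul r s' =>
      rw [hΛ, hΦ, he₃]
      refine (Scheme.Modules.Hom.app_smul φ r _).trans ?_
      congr 1
      exact phi_chart i i' g gZ K K' hsq hK φ hφ hV' hU hUV' s' (τ s') (hτf s')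
    | add x y hx hy => rw [map_add, map_add, map_add, map_add, hx, hy]
  constructor
  · intro x y hxy
    obtain ⟨v, rfl⟩ := Λ.surjective x
    obtain ⟨w, rfl⟩ := Λ.surjective y
    have hxy' : φT (Λ v) = φT (Λ w) := hxy
    rw [hcomp, hcomp] at hxy'
    rw [hb.1 (e₃.injective hxy')]
  · intro y
    obtain ⟨w, rfl⟩ := e₃.surjective y
    obtain ⟨v, rfl⟩ := hb.2 w
    exact ⟨Λ v, (hφT _).symm.trans (hcomp v)⟩

include hsq hK hφ hV' hT' hU hUV' in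
/-- variant of `chart_ideal_bij_aux` over an open `T` equal to `i⁻¹ U`. -/
theorem chart_ideal_bij {T : Z.Opens} (hTe : T = i ⁻¹ᵁ U) (hT : IsAffineOpen T)
    [Algebra Γ(X', V') Γ(X, U)] [Algebra Γ(X, U) Γ(Z, T)]
    [Algebra Γ(X', V') Γ(Z, T)] [IsScalarTower Γ(X', V') Γ(X, U) Γ(Z, T)]
    (ha1 : algebraMap Γ(X', V') Γ(X, U) = (g.appLE V' U hUV').hom)
    (ha2 : algebraMap Γ(X, U) Γ(Z, T) = (i.appLE U T hTe.le).hom)
    (τ : Γ(ClSub.idealMod K', V') →+ Γ(ClSub.idealMod K, U))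
    (hτf : ∀ s', OmegaSh.idealSect K U (τ s') = g.appLE V' U hUV' (OmegaSh.idealSect K' V' s'))
    (Φ : Γ(Z, T) ⊗[Γ(X', V')] Γ(ClSub.idealMod K', V') →+
      Γ(Z, T) ⊗[Γ(X, U)] Γ(ClSub.idealMod K, U))
    (hΦ : ∀ (r : Γ(Z, T)) (n' : Γ(ClSub.idealMod K', V')), Φ (r ⊗ₜ n') = r ⊗ₜ τ n')
    (hb : Function.Bijective Φ) : Function.Bijective (φ.app T) := by
  subst hTe
  exact chart_ideal_bij_aux i i' g gZ K K' hsq hK φ hφ hV' hT' hU hUV' hT ha1 ha2 τ hτf Φ hΦ hb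

end chart

end Groth.Agent.Helper18PP
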