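import Mathlib
import Groth.Prelude.Def_OmegaPn
import Groth.Agent.Lib.Helper18PP7

set_option autoImplicit false
set_option linter.style.haveILetI false
set_option linter.unusedSectionVars false
universe u
open CategoryTheory AlgebraicGeometry Limits TopologicalSpace Opposite TensorProduct

namespace Groth.Agent.Helper18PP

open Groth.Agent.Helper18OmLS Groth.Agent.Helper18Om Groth.Agent.Helper18Con
open Groth.Agent.Helper13PullbackUnit Groth.Agent.Helper13ModGlue Groth.Agent.Lib.Helper6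

section main
variable {Y X Y' X' : Scheme.{u}} (f : Y ⟶ X) [IsClosedImmersion f]
    (v : X' ⟶ X) (u : Y' ⟶ Y) (f' : Y' ⟶ X') (hsq : IsPullback u f' f v) (n : ℕ)

include hsq in
theorem ker_eq_comap_of_isPullback : f'.ker = f.ker.comap v := by
  rw [← Scheme.IdealSheafData.ker_fst_of_isClosedImmersion f v, ← hsq.flip.isoPullback_hom_fst,
    Scheme.Hom.ker_comp_of_isIso]

include hsq in
theorem main_S5952_S5953
    (φ : (Scheme.Modules.pullback u).obj (PrinPart.grMod f n) ⟶ PrinPart.grMod f' n)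
    (hφ : PrinPart.IsGrMap f' f v u n φ) :
    Epi φ ∧ (Flat v → IsIso φ) := by
  haveI : IsClosedImmersion f' := MorphismProperty.of_isPullback hsq inferInstance
  have hK : (f.ker ^ n).comap v = f'.ker ^ n := by
    rw [comap_pow, ker_eq_comap_of_isPullback f v u f' hsq]
  haveI := Groth.Agent.Lib.Helper20.OmegaAff.isQuasicoherent_idealMod (f.ker ^ n)
  haveI := Groth.Agent.Lib.Helper20.OmegaAff.isQuasicoherent_idealMod (f'.ker ^ n)
  haveI : (PrinPart.grMod f' n).IsQuasicoherent :=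
    inferInstanceAs ((Scheme.Modules.pullback f').obj (ClSub.idealMod (f'.ker ^ n))).IsQuasicoherent
  haveI : (PrinPart.grMod f n).IsQuasicoherent :=
    inferInstanceAs ((Scheme.Modules.pullback f).obj (ClSub.idealMod (f.ker ^ n))).IsQuasicoherent
  have hφ' : IsIdealMap f' f v u (f'.ker ^ n) (f.ker ^ n) φ := hφ.2
  let ι : Type u := {T : X.Opens × X'.Opens // IsAffineOpen T.1 ∧ IsAffineOpen T.2 ∧
    T.2 ≤ v ⁻¹ᵁ T.1}
  have hcover : IsOpenCover (fun T : ι => f' ⁻¹ᵁ T.1.2) := by
    refine IsOpenCover.mk (eq_top_iff.mpr ?_)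
    intro z _
    obtain ⟨V', hV', hzV', -⟩ := exists_isAffineOpen_mem_and_subset (x := v (f' z))
      (U := ⊤) trivial
    obtain ⟨U, hU, hzU, hUle⟩ := exists_isAffineOpen_mem_and_subset (x := f' z)
      (U := v ⁻¹ᵁ V') hzV'
    exact Opens.mem_iSup.mpr ⟨⟨⟨V', U⟩, hV', hU, hUle⟩, hzU⟩
  have haff : ∀ T : ι, IsAffineOpen (f' ⁻¹ᵁ T.1.2) := fun T => T.2.2.1.preimage f'
  have hch : ∀ T : ι, _ := fun T : ι =>
    chart_ideal f' f v u (f'.ker ^ n) (f.ker ^ n) hsq.w hK φ hφ' T.2.1 (T.2.1.preimage f) T.2.2.1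
      T.2.2.2 (T.2.2.1.preimage f')
  constructor
  · exact epi_of_surjective_app_cover φ _ hcover haff (fun T => (hch T).1)
  · intro hflat
    exact isIso_of_bijective_app_cover φ _ hcover haff (fun T => (hch T).2 hflat)

end main

end Groth.Agent.Helper18PP
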