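import Mathlib

set_option autoImplicit false
set_option linter.style.haveILetI false
universe u
open TensorProduct

namespace Groth.Agent.Helper18PP

section sectionAlg
variable {C B C' B' : Type u} [CommRing C] [CommRing B] [CommRing C'] [CommRing B']
  [Algebra C B] [Algebra C C'] [Algebra B B'] [Algebra C' B'] [Algebra C B']
  [IsScalarTower C B B'] [IsScalarTower C C' B'] [hpo : Algebra.IsPushout C C' B B']
  (π : B →+* C) (hπ : ∀ c, π (algebraMap C B c) = c)
  (π' : B' →+* C') (hπ' : ∀ c', π' (algebraMap C' B' c') = c')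
  (hππ' : ∀ b, π' (algebraMap B B' b) = algebraMap C C' (π b))
  {N' M : Type u} [AddCommGroup N'] [Module B N'] [AddCommGroup M] [Module C' M]
  (ι' : N' →ₗ[B] B) (hι' : Function.Injective ι') (hι'π : ∀ n', π (ι' n') = 0)
  (hrange' : ∀ b, π b = 0 → ∃ n', ι' n' = b)
  (κ : N' →+ M) (hκ : ∀ b n', κ (b • n') = algebraMap C C' (π b) • κ n')

include hpo hπ hπ' hππ' hι' hι'π hrange' hκ in
/-- for a retraction `π : B → C` of `C → B` and its base change `π' : B' → C'`, the "derivation"
`b ↦ b - σ π b` valued in the kernel of `π` extends to `B'`. -/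
theorem exists_section_deriv :
    ∃ ρ : B' →+ M, (∀ n', ρ (algebraMap B B' (ι' n')) = κ n') ∧
      ∀ b' x' : B', π' x' = 0 → ρ (b' * x') = π' b' • ρ x' := by
  have hex : ∀ b : B, ∃ n', ι' n' = b - algebraMap C B (π b) := fun b =>
    hrange' _ (by rw [map_sub, hπ, sub_self])
  choose nf hnf using hex
  have hnf_add : ∀ b₁ b₂, nf (b₁ + b₂) = nf b₁ + nf b₂ := by
    intro b₁ b₂
    apply hι'
    rw [map_add, hnf, hnf, hnf, map_add, map_add]
    ring
  have hnf_mul : ∀ b₁ b, nf (b₁ * b) = b₁ • nf b + algebraMap C B (π b) • nf b₁ := by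
    intro b₁ b
    apply hι'
    rw [map_add, map_smul, map_smul, hnf, hnf, hnf, map_mul, map_mul, smul_eq_mul, smul_eq_mul]
    ring
  have hnf_ι : ∀ n', nf (ι' n') = n' := by
    intro n'
    apply hι'
    rw [hnf, hι'π, map_zero, sub_zero]
  letI : Module C M := Module.compHom M (algebraMap C C')
  haveI : IsScalarTower C C' M := IsScalarTower.of_algebraMap_smul fun _ _ => rfl
  have hCM : ∀ (c : C) (m : M), c • m = algebraMap C C' c • m := fun _ _ => rfl
  let dl : B →ₗ[C] M :=
    { toFun := fun b => κ (nf b)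
      map_add' := fun b₁ b₂ => by rw [hnf_add, map_add]
      map_smul' := fun c b => by
        rw [Algebra.smul_def, hnf_mul, map_add, hκ, hκ, hπ, hπ, RingHom.id_apply, hCM]
        have : nf (algebraMap C B c) = 0 := by
          apply hι'
          rw [hnf, hπ, sub_self, map_zero]
        rw [this, map_zero, smul_zero, add_zero] }
  have hdl : ∀ b, dl b = κ (nf b) := fun _ => rfl
  let ρl : B' →ₗ[C'] M := hpo.out.lift dl
  have hρl : ∀ b, ρl (algebraMap B B' b) = κ (nf b) := fun b => hpo.out.lift_eq dl b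
  have hπ'smul : ∀ (c' : C') (x' : B'), π' (c' • x') = c' * π' x' := by
    intro c' x'
    rw [Algebra.smul_def, map_mul, hπ']
  have key : ∀ b' x' : B', ρl (b' * x') = π' b' • ρl x' + π' x' • ρl b' := by
    intro b' x'
    refine hpo.out.inductionOn b' (fun b' => ρl (b' * x') = π' b' • ρl x' + π' x' • ρl b')
      ?_ ?_ ?_ ?_
    · simp
    · intro b₁
      change ρl (algebraMap B B' b₁ * x') = π' (algebraMap B B' b₁) • ρl x' +
        π' x' • ρl (algebraMap B B' b₁)
      refine hpo.out.inductionOn x' (fun x' => ρl (algebraMap B B' b₁ * x') =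
        π' (algebraMap B B' b₁) • ρl x' + π' x' • ρl (algebraMap B B' b₁)) ?_ ?_ ?_ ?_
      · simp
      · intro b
        change ρl (algebraMap B B' b₁ * algebraMap B B' b) = π' (algebraMap B B' b₁) •
          ρl (algebraMap B B' b) + π' (algebraMap B B' b) • ρl (algebraMap B B' b₁)
        rw [← map_mul, hρl, hρl, hρl, hnf_mul, map_add, hκ, hκ, hπ, hππ', hππ']
      · intro c' x'' ih
        rw [mul_smul_comm, map_smul, ih, hπ'smul, map_smul, smul_add, smul_comm c' (π' _) (ρl x''),
          mul_smul]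
      · intro x₁ x₂ h₁ h₂
        rw [mul_add, map_add, h₁, h₂, map_add, smul_add, map_add, add_smul]
        abel
    · intro c' b'' ih
      rw [smul_mul_assoc, map_smul, ih, hπ'smul, map_smul, smul_add, mul_smul,
        smul_comm c' (π' x') (ρl b'')]
    · intro b₁ b₂ h₁ h₂
      rw [add_mul, map_add, h₁, h₂, map_add, add_smul, map_add, smul_add]
      abel
  refine ⟨ρl.toAddMonoidHom, fun n' => ?_, fun b' x' hx' => ?_⟩
  · change ρl (algebraMap B B' (ι' n')) = κ n'
    rw [hρl, hnf_ι]
  · change ρl (b' * x') = π' b' • ρl x'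
    rw [key, hx', zero_smul, add_zero]

end sectionAlg

section sectionTensor
variable {C B C' B' : Type u} [CommRing C] [CommRing B] [CommRing C'] [CommRing B']
  [Algebra C B] [Algebra C C'] [Algebra B B'] [Algebra C' B'] [Algebra C B']
  [IsScalarTower C B B'] [IsScalarTower C C' B'] [hpo : Algebra.IsPushout C C' B B']
  [Algebra B C'] [Algebra B' C'] [IsScalarTower B B' C']
  (π : B →+* C) (hπ : ∀ c, π (algebraMap C B c) = c)
  (hπ' : ∀ c', algebraMap B' C' (algebraMap C' B' c') = c')
  (hππ' : ∀ b, algebraMap B C' b = algebraMap C C' (π b))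
  {N' N : Type u} [AddCommGroup N'] [Module B N'] [AddCommGroup N] [Module B' N]
  (ι' : N' →ₗ[B] B) (hι' : Function.Injective ι') (hι'π : ∀ n', π (ι' n') = 0)
  (hrange' : ∀ b, π b = 0 → ∃ n', ι' n' = b)
  (ι : N →ₗ[B'] B') (hιπ' : ∀ n, algebraMap B' C' (ι n) = 0)
  (τ : N' →+ N) (hτι : ∀ n', ι (τ n') = algebraMap B B' (ι' n'))
  (Φ : C' ⊗[B] N' →+ C' ⊗[B'] N) (hΦ : ∀ (r : C') (n' : N'), Φ (r ⊗ₜ n') = r ⊗ₜ τ n')

include hpo hπ hπ' hππ' hι' hι'π hrange' hιπ' hτι hΦ in
/-- the base change map of conormal modules of a section is injective. -/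
theorem section_tensor_injective : Function.Injective Φ := by
  let M := C' ⊗[B] N'
  let κ : N' →+ M :=
    { toFun := fun n' => (1 : C') ⊗ₜ[B] n'
      map_zero' := TensorProduct.tmul_zero _ _
      map_add' := fun a b => TensorProduct.tmul_add _ _ _ }
  have hκ : ∀ (b : B) (n' : N'), κ (b • n') = algebraMap C C' (π b) • κ n' := by
    intro b n'
    change (1 : C') ⊗ₜ[B] (b • n') = algebraMap C C' (π b) • ((1 : C') ⊗ₜ[B] n')
    rw [← TensorProduct.smul_tmul, TensorProduct.smul_tmul', Algebra.smul_def, mul_one, smul_eq_mul,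
      mul_one, hππ']
  have hππ'' : ∀ b, (algebraMap B' C') (algebraMap B B' b) = algebraMap C C' (π b) := by
    intro b
    rw [← IsScalarTower.algebraMap_apply, hππ']
  obtain ⟨ρ, hρ1, hρ2⟩ := exists_section_deriv (M := M) π hπ (algebraMap B' C') hπ' hππ'' ι' hι' hι'π
    hrange' κ hκ
  let Ψ : C' ⊗[B'] N →+ M := TensorProduct.liftAddHom
    { toFun := fun c' =>
        { toFun := fun n => c' • ρ (ι n)
          map_zero' := by rw [map_zero, map_zero, smul_zero]
          map_add' := fun a b => by rw [map_add, map_add, smul_add] }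
      map_zero' := by
        ext n
        exact zero_smul _ _
      map_add' := fun a b => by
        ext n
        exact add_smul _ _ _ }
    (fun b' c' n => by
      change (b' • c') • ρ (ι n) = c' • ρ (ι (b' • n))
      rw [map_smul, smul_eq_mul, hρ2 _ _ (hιπ' n), Algebra.smul_def, mul_smul, smul_comm])
  have hΨ : ∀ (c' : C') (n : N), Ψ (c' ⊗ₜ n) = c' • ρ (ι n) := fun _ _ => rfl
  have hΨΦ : ∀ x, Ψ (Φ x) = x := by
    intro x
    induction x using TensorProduct.induction_on with
    | zero => rw [map_zero, map_zero]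
    | tmul c' n' =>
      rw [hΦ, hΨ, hτι, hρ1]
      change c' • ((1 : C') ⊗ₜ[B] n') = c' ⊗ₜ n'
      rw [TensorProduct.smul_tmul', smul_eq_mul, mul_one]
    | add x y hx hy => rw [map_add, map_add, hx, hy]
  exact Function.LeftInverse.injective hΨΦ

end sectionTensor

end Groth.Agent.Helper18PP
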