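import Mathlib
import Groth.Prelude.Def_OmegaPn
import Groth.Agent.Lib.Helper18PP8
import Groth.Agent.Lib.Helper18PP9
import Groth.Agent.Lib.Helper18PP10

set_option autoImplicit false
set_option linter.style.haveILetI false
set_option linter.unusedSectionVars false
universe u
open CategoryTheory AlgebraicGeometry Limits TopologicalSpace Opposite TensorProduct

namespace Groth.Agent.Helper18PP

open Groth.Agent.Helper18OmLS Groth.Agent.Helper18Om Groth.Agent.Helper18Con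
open Groth.Agent.Helper13PullbackUnit Groth.Agent.Helper13ModGlue Groth.Agent.Lib.Helper6

section sec
variable {X Y X' Y' : Scheme.{u}} (g : X ⟶ Y) (f : Y ⟶ X)
    [IsClosedImmersion f] (hf : f ≫ g = 𝟙 Y) (u : Y' ⟶ Y) (v : X' ⟶ X) (g' : X' ⟶ Y')
    (hsq : IsPullback v g' g u) (f' : Y' ⟶ X') (hf' : f' ≫ g' = 𝟙 Y') (hf'v : f' ≫ v = u ≫ f)

include hf hsq hf' hf'v in
theorem isPullback_section : IsPullback u f' f v := by
  have houter : IsPullback (f' ≫ g') u u (f ≫ g) := by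
    rw [hf, hf']
    exact IsPullback.of_horiz_isIso ⟨by simp⟩
  exact (IsPullback.of_right houter hf'v hsq.flip).flip

/-- transport of `appLE` along equalities of morphisms. -/
theorem appLE_congr' {P Q : Scheme.{u}} {a b : P ⟶ Q} (e : a = b) (A : Q.Opens) (B : P.Opens)
    (h : B ≤ a ⁻¹ᵁ A) (h' : B ≤ b ⁻¹ᵁ A) : a.appLE A B h = b.appLE A B h' := by
  subst e; rfl

theorem appLE_id {P : Scheme.{u}} (A : P.Opens) (h : A ≤ (𝟙 P) ⁻¹ᵁ A) :
    (𝟙 P : P ⟶ P).appLE A A h = 𝟙 _ := by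
  rw [Scheme.Hom.appLE]
  simp only [Scheme.Hom.id_app]
  exact P.presheaf.map_id _

/-- if the restricted comorphism kills `x` over an open equal to the preimage, so does the
comorphism. -/
theorem app_eq_zero_of_appLE {P Q : Scheme.{u}} (a : P ⟶ Q) (A : Q.Opens) (B : P.Opens)
    (hB : a ⁻¹ᵁ A = B) (x : Γ(Q, A)) (hx : a.appLE A B hB.ge x = 0) : a.app A x = 0 := by
  subst hB
  rw [Scheme.Hom.app_eq_appLE]
  exact hx

end sec

section chart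
variable {X Y X' Y' : Scheme.{u}} (g : X ⟶ Y) (f : Y ⟶ X)
    [IsClosedImmersion f] (hf : f ≫ g = 𝟙 Y) (u : Y' ⟶ Y) (v : X' ⟶ X) (g' : X' ⟶ Y')
    (hsq : IsPullback v g' g u) (f' : Y' ⟶ X') (hf' : f' ≫ g' = 𝟙 Y') (hf'v : f' ≫ v = u ≫ f)
    (φ : (Scheme.Modules.pullback u).obj (PrinPart.grMod f 1) ⟶ PrinPart.grMod f' 1)
    (hφ : PrinPart.IsGrMap f' f v u 1 φ)
    {W : Y.Opens} {V' : X.Opens} {W' : Y'.Opens} {U : X'.Opens}
    (hW : IsAffineOpen W) (hV' : IsAffineOpen V') (hW' : IsAffineOpen W')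
    (hfV' : f ⁻¹ᵁ V' = W) (hV'W : V' ≤ g ⁻¹ᵁ W) (hW'W : W' ≤ u ⁻¹ᵁ W)
    (hU : U = v ⁻¹ᵁ V' ⊓ g' ⁻¹ᵁ W')

include hsq hW hV' hW' hV'W hW'W hU in
theorem chart_isAffineOpen : IsAffineOpen U := by
  have : IsAffine (W : Scheme.{u}) := hW
  have : IsAffine (W' : Scheme.{u}) := hW'
  have : IsAffine (V' : Scheme.{u}) := hV'
  exact .of_isIso (Scheme.Hom.isPullback_resLE hsq hW'W hV'W hU).isoPullback.hom

include hf' hf'v hfV' hW'W hU in
theorem chart_preimage_eq : W' = f' ⁻¹ᵁ U := by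
  rw [hU, Scheme.Hom.preimage_inf, ← Scheme.Hom.comp_preimage, ← Scheme.Hom.comp_preimage, hf',
    hf'v, Scheme.Hom.comp_preimage, hfV']
  change W' = u ⁻¹ᵁ W ⊓ W'
  exact (inf_eq_right.2 hW'W).symm

include hf hsq hf' hf'v hφ hW hV' hW' hfV' hV'W hW'W hU in
theorem chart_S5963 : Function.Bijective (φ.app W') := by
  haveI : IsClosedImmersion f' :=
    MorphismProperty.of_isPullback (isPullback_section g f hf u v g' hsq f' hf' hf'v) inferInstance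
  have hUaff : IsAffineOpen U := chart_isAffineOpen g u v g' hsq hW hV' hW' hV'W hW'W hU
  have hTe : W' = f' ⁻¹ᵁ U := chart_preimage_eq f u v g' f' hf' hf'v hfV' hW'W hU
  have hUV' : U ≤ v ⁻¹ᵁ V' := hU.le.trans inf_le_left
  have hUW' : U ≤ g' ⁻¹ᵁ W' := hU.le.trans inf_le_right
  have hWV' : W ≤ f ⁻¹ᵁ V' := hfV'.ge
  have hK : (f.ker ^ 1).comap v = f'.ker ^ 1 := by
    rw [comap_pow, ker_eq_comap_of_isPullback f v u f'
      (isPullback_section g f hf u v g' hsq f' hf' hf'v)]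
  have hφ' : IsIdealMap f' f v u (f'.ker ^ 1) (f.ker ^ 1) φ := hφ.2
  -- the algebra structures
  letI aCB : Algebra Γ(Y, W) Γ(X, V') := (g.appLE W V' hV'W).hom.toAlgebra
  letI aCC' : Algebra Γ(Y, W) Γ(Y', W') := (u.appLE W W' hW'W).hom.toAlgebra
  letI aBB' : Algebra Γ(X, V') Γ(X', U) := (v.appLE V' U hUV').hom.toAlgebra
  letI aC'B' : Algebra Γ(Y', W') Γ(X', U) := (g'.appLE W' U hUW').hom.toAlgebra
  letI aCB' : Algebra Γ(Y, W) Γ(X', U) :=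
    ((algebraMap Γ(X, V') Γ(X', U)).comp (algebraMap Γ(Y, W) Γ(X, V'))).toAlgebra
  haveI : IsScalarTower Γ(Y, W) Γ(X, V') Γ(X', U) := IsScalarTower.of_algebraMap_eq fun _ => rfl
  have hsqW : g.appLE W V' hV'W ≫ v.appLE V' U hUV' = u.appLE W W' hW'W ≫ g'.appLE W' U hUW' := by
    rw [Scheme.Hom.appLE_comp_appLE, Scheme.Hom.appLE_comp_appLE]
    exact appLE_congr' hsq.w _ _ _ _
  haveI : IsScalarTower Γ(Y, W) Γ(Y', W') Γ(X', U) := IsScalarTower.of_algebraMap_eq fun c =>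
    congr($hsqW c)
  letI aB'C' : Algebra Γ(X', U) Γ(Y', W') := (f'.appLE U W' hTe.le).hom.toAlgebra
  letI aBC' : Algebra Γ(X, V') Γ(Y', W') :=
    ((algebraMap Γ(X', U) Γ(Y', W')).comp (algebraMap Γ(X, V') Γ(X', U))).toAlgebra
  haveI : IsScalarTower Γ(X, V') Γ(X', U) Γ(Y', W') := IsScalarTower.of_algebraMap_eq fun _ => rfl
  -- the pushout
  have hPO : IsPushout (g.appLE W V' hV'W) (u.appLE W W' hW'W) (v.appLE V' U hUV')
      (g'.appLE W' U hUW') := by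
    have := isIso_pushoutSection_of_isAffineOpen hsq hW'W hV'W hU hW hW' hV'
    exact (isIso_pushoutSection_iff hsq _ _ hU).mp this
  haveI hpo : Algebra.IsPushout Γ(Y, W) Γ(Y', W') Γ(X, V') Γ(X', U) := by
    refine Algebra.IsPushout.symm ?_
    exact CommRingCat.isPushout_iff_isPushout.mp hPO
  -- the retractions
  let π : Γ(X, V') →+* Γ(Y, W) := (f.appLE V' W hWV').hom
  have hπ : ∀ c, π (algebraMap Γ(Y, W) Γ(X, V') c) = c := by
    intro c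
    have h1 : g.appLE W V' hV'W ≫ f.appLE V' W hWV' = 𝟙 _ := by
      rw [Scheme.Hom.appLE_comp_appLE]
      exact (appLE_congr' hf _ _ _ (le_refl _)).trans (appLE_id W _)
    exact congr($h1 c)
  have hπ' : ∀ c', algebraMap Γ(X', U) Γ(Y', W') (algebraMap Γ(Y', W') Γ(X', U) c') = c' := by
    intro c'
    have h1 : g'.appLE W' U hUW' ≫ f'.appLE U W' hTe.le = 𝟙 _ := by
      rw [Scheme.Hom.appLE_comp_appLE]
      exact (appLE_congr' hf' _ _ _ (le_refl _)).trans (appLE_id W' _)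
    exact congr($h1 c')
  have hππ' : ∀ b, algebraMap Γ(X, V') Γ(Y', W') b = algebraMap Γ(Y, W) Γ(Y', W') (π b) := by
    intro b
    have h1 : v.appLE V' U hUV' ≫ f'.appLE U W' hTe.le =
        f.appLE V' W hWV' ≫ u.appLE W W' hW'W := by
      rw [Scheme.Hom.appLE_comp_appLE, Scheme.Hom.appLE_comp_appLE]
      exact appLE_congr' hf'v _ _ _ _
    exact congr($h1 b)
  -- the ideals
  have hKU := ideal_eq_map v (f'.ker ^ 1) (f.ker ^ 1) hK hV' hUaff hUV'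
  have hτex : ∀ s' : Γ(ClSub.idealMod (f.ker ^ 1), V'), ∃ s : Γ(ClSub.idealMod (f'.ker ^ 1), U),
      OmegaSh.idealSect (f'.ker ^ 1) U s =
        v.appLE V' U hUV' (OmegaSh.idealSect (f.ker ^ 1) V' s') := by
    intro s'
    refine exists_idealSect_eq_of_mem (f'.ker ^ 1) ⟨U, hUaff⟩ _ ?_
    rw [hKU]
    exact Ideal.mem_map_of_mem _ (idealSect_mem_ideal (f.ker ^ 1) ⟨V', hV'⟩ s')
  choose τf hτf using hτex
  let τ : Γ(ClSub.idealMod (f.ker ^ 1), V') →+ Γ(ClSub.idealMod (f'.ker ^ 1), U) :=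
    { toFun := τf
      map_zero' := by
        apply idealSect_injective
        rw [hτf, map_zero, map_zero, map_zero]
      map_add' := fun a b => by
        apply idealSect_injective
        rw [hτf, map_add, map_add, map_add, hτf, hτf] }
  have hτ : ∀ (a : Γ(X, V')) (n : Γ(ClSub.idealMod (f.ker ^ 1), V')),
      τ (a • n) = algebraMap Γ(X, V') Γ(X', U) a • τ n := by
    intro a n
    apply idealSect_injective
    change OmegaSh.idealSect (f'.ker ^ 1) U (τf (a • n)) = OmegaSh.idealSect (f'.ker ^ 1) U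
      (algebraMap Γ(X, V') Γ(X', U) a • τf n)
    rw [hτf, idealSect_smul, idealSect_smul, hτf, map_mul]
    rfl
  have hgen : ∀ n : Γ(ClSub.idealMod (f'.ker ^ 1), U),
      n ∈ Submodule.span Γ(X', U) (Set.range τ) := by
    intro n
    have h1 : OmegaSh.idealSect (f'.ker ^ 1) U n ∈ Ideal.map (v.appLE V' U hUV').hom
        ((f.ker ^ 1).ideal ⟨V', hV'⟩) := by
      rw [← hKU]
      exact idealSect_mem_ideal (f'.ker ^ 1) ⟨U, hUaff⟩ n
    have key : ∀ x ∈ Ideal.map (v.appLE V' U hUV').hom ((f.ker ^ 1).ideal ⟨V', hV'⟩),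
        ∃ m ∈ Submodule.span Γ(X', U) (Set.range τ),
          OmegaSh.idealSect (f'.ker ^ 1) U m = x := by
      intro x hx
      refine Submodule.span_induction ?_ ?_ ?_ ?_ hx
      · rintro _ ⟨σ', hσ', rfl⟩
        obtain ⟨s', hs'⟩ := exists_idealSect_eq_of_mem (f.ker ^ 1) ⟨V', hV'⟩ σ' hσ'
        refine ⟨τ s', Submodule.subset_span ⟨s', rfl⟩, ?_⟩
        change OmegaSh.idealSect (f'.ker ^ 1) U (τf s') = _
        rw [hτf, hs']
      · exact ⟨0, zero_mem _, map_zero _⟩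
      · rintro x y _ _ ⟨m, hm, rfl⟩ ⟨m', hm', rfl⟩
        exact ⟨m + m', add_mem hm hm', map_add _ _ _⟩
      · rintro a x _ ⟨m, hm, rfl⟩
        exact ⟨a • m, Submodule.smul_mem _ a hm, idealSect_smul _ U a m⟩
    obtain ⟨m, hm, hmn⟩ := key _ h1
    rwa [idealSect_injective _ _ hmn] at hm
  obtain ⟨Φ, hΦ, hΦs, -⟩ := exists_tensor_map (R := Γ(Y', W')) τ hτ
  -- kernels
  have hmem1 : ∀ (x : Γ(X, V')), x ∈ (f.ker ^ 1).ideal ⟨V', hV'⟩ ↔ f.app V' x = 0 := by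
    intro x
    rw [pow_one, Scheme.Hom.ker_apply, RingHom.mem_ker]
  have hmem2 : ∀ (x : Γ(X', U)), x ∈ (f'.ker ^ 1).ideal ⟨U, hUaff⟩ ↔ f'.app U x = 0 := by
    intro x
    rw [pow_one, Scheme.Hom.ker_apply, RingHom.mem_ker]
  have hι'π : ∀ n', π (idealSectₗ (f.ker ^ 1) V' n') = 0 := by
    intro n'
    have h1 := (hmem1 _).1 (idealSect_mem_ideal (f.ker ^ 1) ⟨V', hV'⟩ n')
    change (f.appLE V' W hWV') (OmegaSh.idealSect (f.ker ^ 1) V' n') = 0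
    rw [Scheme.Hom.appLE, CommRingCat.comp_apply, h1, map_zero]
  have hrange' : ∀ b, π b = 0 → ∃ n', idealSectₗ (f.ker ^ 1) V' n' = b := by
    intro b hb
    exact exists_idealSect_eq_of_mem (f.ker ^ 1) ⟨V', hV'⟩ b
      ((hmem1 b).2 (app_eq_zero_of_appLE f V' W hfV' b hb))
  have hιπ' : ∀ n, algebraMap Γ(X', U) Γ(Y', W') (idealSectₗ (f'.ker ^ 1) U n) = 0 := by
    intro n
    have h1 := (hmem2 _).1 (idealSect_mem_ideal (f'.ker ^ 1) ⟨U, hUaff⟩ n)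
    change (f'.appLE U W' hTe.le) (OmegaSh.idealSect (f'.ker ^ 1) U n) = 0
    rw [Scheme.Hom.appLE, CommRingCat.comp_apply, h1, map_zero]
  have hinj : Function.Injective Φ :=
    section_tensor_injective (C := Γ(Y, W)) (B := Γ(X, V')) (C' := Γ(Y', W')) (B' := Γ(X', U))
      π hπ hπ' hππ' (idealSectₗ (f.ker ^ 1) V') (idealSect_injective _ V') hι'π hrange'
      (idealSectₗ (f'.ker ^ 1) U) hιπ' τ (fun n' => hτf n') Φ hΦ
  exact chart_ideal_bij f' f v u (f'.ker ^ 1) (f.ker ^ 1) hf'v.symm hK φ hφ' hV' (hV'.preimage f) hUaff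
    hUV' hTe hW' rfl rfl τ hτf Φ hΦ ⟨hinj, hΦs hgen⟩

end chart

section main
variable {X Y X' Y' : Scheme.{u}} (g : X ⟶ Y) (f : Y ⟶ X)
    [IsClosedImmersion f] (hf : f ≫ g = 𝟙 Y) (u : Y' ⟶ Y) (v : X' ⟶ X) (g' : X' ⟶ Y')
    (hsq : IsPullback v g' g u) (f' : Y' ⟶ X') (hf' : f' ≫ g' = 𝟙 Y') (hf'v : f' ≫ v = u ≫ f)

include hf in
theorem exists_chart_S5963 (y' : Y') :
    ∃ (W : Y.Opens) (V' : X.Opens) (W' : Y'.Opens), IsAffineOpen W ∧ IsAffineOpen V' ∧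
      IsAffineOpen W' ∧ f ⁻¹ᵁ V' = W ∧ V' ≤ g ⁻¹ᵁ W ∧ W' ≤ u ⁻¹ᵁ W ∧ y' ∈ W' := by
  obtain ⟨W₀, hW₀, hyW₀, -⟩ := exists_isAffineOpen_mem_and_subset (x := u y') (U := ⊤) trivial
  have hgf : g (f (u y')) = u y' := by rw [← Scheme.Hom.comp_apply, hf]; rfl
  have hfy : f (u y') ∈ g ⁻¹ᵁ W₀ := by change g (f (u y')) ∈ W₀; rw [hgf]; exact hyW₀
  obtain ⟨V₀, hV₀, hfyV₀, hV₀W₀⟩ := exists_isAffineOpen_mem_and_subset (x := f (u y')) hfy
  have hyV₀ : u y' ∈ f ⁻¹ᵁ V₀ := hfyV₀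
  obtain ⟨a, ha, hya⟩ := hW₀.exists_basicOpen_le (V := f ⁻¹ᵁ V₀) ⟨u y', hyV₀⟩ hyW₀
  have hV'eq : X.basicOpen (g.appLE W₀ V₀ hV₀W₀ a) = V₀ ⊓ g ⁻¹ᵁ (Y.basicOpen a) :=
    Scheme.basicOpen_appLE g V₀ W₀ hV₀W₀ a
  have hfV' : f ⁻¹ᵁ (X.basicOpen (g.appLE W₀ V₀ hV₀W₀ a)) = Y.basicOpen a := by
    rw [hV'eq, Scheme.Hom.preimage_inf, ← Scheme.Hom.comp_preimage, hf]
    change f ⁻¹ᵁ V₀ ⊓ Y.basicOpen a = Y.basicOpen a
    exact inf_eq_right.2 ha
  obtain ⟨W', hW', hy'W', hW'W⟩ := exists_isAffineOpen_mem_and_subset (x := y')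
    (U := u ⁻¹ᵁ (Y.basicOpen a)) hya
  exact ⟨Y.basicOpen a, X.basicOpen (g.appLE W₀ V₀ hV₀W₀ a), W', hW₀.basicOpen a,
    hV₀.basicOpen _, hW', hfV', hV'eq.le.trans inf_le_right, hW'W, hy'W'⟩

include hf hsq hf' hf'v in
theorem main_S5963
    (φ : (Scheme.Modules.pullback u).obj (PrinPart.grMod f 1) ⟶ PrinPart.grMod f' 1)
    (hφ : PrinPart.IsGrMap f' f v u 1 φ) : IsIso φ := by
  haveI := Groth.Agent.Lib.Helper20.OmegaAff.isQuasicoherent_idealMod (f.ker ^ 1)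
  haveI := Groth.Agent.Lib.Helper20.OmegaAff.isQuasicoherent_idealMod (f'.ker ^ 1)
  haveI : (PrinPart.grMod f' 1).IsQuasicoherent :=
    inferInstanceAs ((Scheme.Modules.pullback f').obj (ClSub.idealMod (f'.ker ^ 1))).IsQuasicoherent
  haveI : (PrinPart.grMod f 1).IsQuasicoherent :=
    inferInstanceAs ((Scheme.Modules.pullback f).obj (ClSub.idealMod (f.ker ^ 1))).IsQuasicoherent
  let ι : Type u := {T : Y.Opens × X.Opens × Y'.Opens // IsAffineOpen T.1 ∧ IsAffineOpen T.2.1 ∧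
    IsAffineOpen T.2.2 ∧ f ⁻¹ᵁ T.2.1 = T.1 ∧ T.2.1 ≤ g ⁻¹ᵁ T.1 ∧ T.2.2 ≤ u ⁻¹ᵁ T.1}
  have hcover : IsOpenCover (fun T : ι => T.1.2.2) := by
    refine IsOpenCover.mk (eq_top_iff.mpr ?_)
    intro y' _
    obtain ⟨W, V', W', hW, hV', hW', h1, h2, h3, hy'⟩ := exists_chart_S5963 g f hf u y'
    exact Opens.mem_iSup.mpr ⟨⟨⟨W, V', W'⟩, hW, hV', hW', h1, h2, h3⟩, hy'⟩
  refine isIso_of_bijective_app_cover φ _ hcover (fun T => T.2.2.2.1) (fun T => ?_)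
  exact chart_S5963 g f hf u v g' hsq f' hf' hf'v φ hφ T.2.1 T.2.2.1 T.2.2.2.1 T.2.2.2.2.1
    T.2.2.2.2.2.1 T.2.2.2.2.2.2 rfl

end main

end Groth.Agent.Helper18PP
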