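import Mathlib
import Groth.Prelude.Def_OmegaPn
import Groth.Agent.Lib.Helper18PP11
import Groth.Agent.Lib.Helper18Gr1
import Groth.Agent.Lib.Helper18Gr2
import Groth.Agent.Lib.Helper2LocFree

set_option autoImplicit false
set_option linter.style.haveILetI false
set_option linter.unusedSectionVars false
universe u
open CategoryTheory AlgebraicGeometry Limits TopologicalSpace Opposite TensorProduct

namespace Groth.Agent.Helper18Gr

open Groth.Agent.Helper18OmLS Groth.Agent.Helper18Om Groth.Agent.Helper18Con Groth.Agent.Helper18PP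
open Groth.Agent.Helper13PullbackUnit Groth.Agent.Helper13ModGlue Groth.Agent.Lib.Helper6

section ker
variable {X Y : Scheme.{u}} (f : Y ⟶ X) [IsClosedImmersion f] {W : Y.Opens} {V' : X.Opens}
  (hV' : IsAffineOpen V') (hfV' : f ⁻¹ᵁ V' = W)

include hfV' in
/-- the ideal of `f.ker ^ k` on a chart, as a power of the kernel of the restricted comorphism. -/
theorem ker_pow_ideal_eq (k : ℕ) :
    (f.ker ^ k).ideal ⟨V', hV'⟩ = RingHom.ker (f.appLE V' W hfV'.ge).hom ^ k := by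
  have h1 : (f.ker ^ k).ideal ⟨V', hV'⟩ = (f.ker.ideal ⟨V', hV'⟩) ^ k := rfl
  rw [h1]
  congr 1
  ext x
  rw [Scheme.Hom.ker_apply, RingHom.mem_ker, RingHom.mem_ker]
  constructor
  · intro h
    rw [Scheme.Hom.appLE, CommRingCat.hom_comp, RingHom.comp_apply, h, map_zero]
  · intro h
    exact app_eq_zero_of_appLE f V' W hfV' x h

end ker

section flat
variable {X Y : Scheme.{u}} (f : Y ⟶ X) [IsClosedImmersion f] {W : Y.Opens} {V' : X.Opens}
  (hW : IsAffineOpen W) (hV' : IsAffineOpen V') (hfV' : f ⁻¹ᵁ V' = W)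

include hW hV' hfV' in
theorem flat_tensor_pow (k : ℕ) (hfl : FlatMod.IsFlat (PrinPart.grMod f k))
    [Algebra Γ(X, V') Γ(Y, W)]
    (halg : algebraMap Γ(X, V') Γ(Y, W) = (f.appLE V' W hfV'.ge).hom) :
    Module.Flat Γ(Y, W)
      (Γ(Y, W) ⊗[Γ(X, V')] ↥(RingHom.ker (algebraMap Γ(X, V') Γ(Y, W)) ^ k)) := by
  haveI := Groth.Agent.Lib.Helper20.OmegaAff.isQuasicoherent_idealMod (f.ker ^ k)
  haveI : (PrinPart.grMod f k).IsQuasicoherent :=
    inferInstanceAs ((Scheme.Modules.pullback f).obj (ClSub.idealMod (f.ker ^ k))).IsQuasicoherent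
  haveI h1 : Module.Flat Γ(Y, W) Γ(PrinPart.grMod f k, W) :=
    Groth.Agent.Lib.Helper2.LocFree.flat_sections_of_isFlatAt (PrinPart.grMod f k) hW
      (fun y _ => hfl y)
  obtain ⟨e₃, -⟩ := exists_pullback_equiv f (ClSub.idealMod (f.ker ^ k)) hfV'.ge hV' hW halg
  haveI h2 : Module.Flat Γ(Y, W) (Γ(Y, W) ⊗[Γ(X, V')] Γ(ClSub.idealMod (f.ker ^ k), V')) :=
    (Module.Flat.equiv_iff e₃).2 h1
  have hrange : LinearMap.range (idealSectₗ (f.ker ^ k) V') =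
      RingHom.ker (algebraMap Γ(X, V') Γ(Y, W)) ^ k := by
    rw [halg, ← ker_pow_ideal_eq f hV' hfV' k]
    ext b
    constructor
    · rintro ⟨s, rfl⟩
      exact idealSect_mem_ideal (f.ker ^ k) ⟨V', hV'⟩ s
    · intro hb
      exact exists_idealSect_eq_of_mem (f.ker ^ k) ⟨V', hV'⟩ b hb
  let e_k : Γ(ClSub.idealMod (f.ker ^ k), V') ≃ₗ[Γ(X, V')]
      ↥(RingHom.ker (algebraMap Γ(X, V') Γ(Y, W)) ^ k) :=
    (LinearEquiv.ofInjective (idealSectₗ (f.ker ^ k) V') (idealSect_injective _ V')).trans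
      (LinearEquiv.ofEq _ _ hrange)
  let T := TensorProduct.AlgebraTensorModule.congr (LinearEquiv.refl Γ(Y, W) Γ(Y, W)) e_k
  exact Module.Flat.of_linearEquiv T.symm

end flat

section chart
variable {X Y X' Y' : Scheme.{u}} (g : X ⟶ Y) (f : Y ⟶ X)
    [IsClosedImmersion f] (hf : f ≫ g = 𝟙 Y) (u : Y' ⟶ Y) (v : X' ⟶ X) (g' : X' ⟶ Y')
    (hsq : IsPullback v g' g u) (f' : Y' ⟶ X') (hf' : f' ≫ g' = 𝟙 Y') (hf'v : f' ≫ v = u ≫ f)
    (m : ℕ) (hflat : ∀ k ≤ m, FlatMod.IsFlat (PrinPart.grMod f k)) {n : ℕ} (hn : n ≤ m)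
    (φ : (Scheme.Modules.pullback u).obj (PrinPart.grMod f n) ⟶ PrinPart.grMod f' n)
    (hφ : PrinPart.IsGrMap f' f v u n φ)
    {W : Y.Opens} {V' : X.Opens} {W' : Y'.Opens} {U : X'.Opens}
    (hW : IsAffineOpen W) (hV' : IsAffineOpen V') (hW' : IsAffineOpen W')
    (hfV' : f ⁻¹ᵁ V' = W) (hV'W : V' ≤ g ⁻¹ᵁ W) (hW'W : W' ≤ u ⁻¹ᵁ W)
    (hU : U = v ⁻¹ᵁ V' ⊓ g' ⁻¹ᵁ W')

set_option maxHeartbeats 1600000 in
include hf hsq hf' hf'v hflat hn hφ hW hV' hW' hfV' hV'W hW'W hU in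
theorem chart_S5964 : Function.Bijective (φ.app W') := by
  haveI : IsClosedImmersion f' :=
    MorphismProperty.of_isPullback (isPullback_section g f hf u v g' hsq f' hf' hf'v) inferInstance
  have hUaff : IsAffineOpen U := chart_isAffineOpen g u v g' hsq hW hV' hW' hV'W hW'W hU
  have hTe : W' = f' ⁻¹ᵁ U := chart_preimage_eq f u v g' f' hf' hf'v hfV' hW'W hU
  have hUV' : U ≤ v ⁻¹ᵁ V' := hU.le.trans inf_le_left
  have hUW' : U ≤ g' ⁻¹ᵁ W' := hU.le.trans inf_le_right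
  have hWV' : W ≤ f ⁻¹ᵁ V' := hfV'.ge
  have hK : (f.ker ^ n).comap v = f'.ker ^ n := by
    rw [comap_pow, ker_eq_comap_of_isPullback f v u f'
      (isPullback_section g f hf u v g' hsq f' hf' hf'v)]
  have hφ' : IsIdealMap f' f v u (f'.ker ^ n) (f.ker ^ n) φ := hφ.2
  -- the algebra structures
  letI aCB : Algebra Γ(Y, W) Γ(X, V') := (g.appLE W V' hV'W).hom.toAlgebra
  letI aCC' : Algebra Γ(Y, W) Γ(Y', W') := (u.appLE W W' hW'W).hom.toAlgebra
  letI aBB' : Algebra Γ(X, V') Γ(X', U) := (v.appLE V' U hUV').hom.toAlgebra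
  letI aC'B' : Algebra Γ(Y', W') Γ(X', U) := (g'.appLE W' U hUW').hom.toAlgebra
  letI aCB' : Algebra Γ(Y, W) Γ(X', U) :=
    ((algebraMap Γ(X, V') Γ(X', U)).comp (algebraMap Γ(Y, W) Γ(X, V'))).toAlgebra
  haveI : IsScalarTower Γ(Y, W) Γ(X, V') Γ(X', U) := IsScalarTower.of_algebraMap_eq fun _ => rfl
  have hsqW : g.appLE W V' hV'W ≫ v.appLE V' U hUV' = u.appLE W W' hW'W ≫ g'.appLE W' U hUW' := by
    rw [Scheme.Hom.appLE_comp_appLE, Scheme.Hom.appLE_comp_appLE]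
    exact appLE_congr' hsq.w _ _ _ _
  haveI : IsScalarTower Γ(Y, W) Γ(Y', W') Γ(X', U) := IsScalarTower.of_algebraMap_eq fun c =>
    congr($hsqW c)
  letI aB'C' : Algebra Γ(X', U) Γ(Y', W') := (f'.appLE U W' hTe.le).hom.toAlgebra
  letI aBC' : Algebra Γ(X, V') Γ(Y', W') :=
    ((algebraMap Γ(X', U) Γ(Y', W')).comp (algebraMap Γ(X, V') Γ(X', U))).toAlgebra
  haveI : IsScalarTower Γ(X, V') Γ(X', U) Γ(Y', W') := IsScalarTower.of_algebraMap_eq fun _ => rfl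
  letI aBC : Algebra Γ(X, V') Γ(Y, W) := (f.appLE V' W hWV').hom.toAlgebra
  -- the pushout
  have hPO : IsPushout (g.appLE W V' hV'W) (u.appLE W W' hW'W) (v.appLE V' U hUV')
      (g'.appLE W' U hUW') := by
    have := isIso_pushoutSection_of_isAffineOpen hsq hW'W hV'W hU hW hW' hV'
    exact (isIso_pushoutSection_iff hsq _ _ hU).mp this
  haveI hpo : Algebra.IsPushout Γ(Y, W) Γ(Y', W') Γ(X, V') Γ(X', U) := by
    refine Algebra.IsPushout.symm ?_
    exact CommRingCat.isPushout_iff_isPushout.mp hPO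
  -- the retractions
  let π : Γ(X, V') →+* Γ(Y, W) := (f.appLE V' W hWV').hom
  have hπ : ∀ c, π (algebraMap Γ(Y, W) Γ(X, V') c) = c := by
    intro c
    have h1 : g.appLE W V' hV'W ≫ f.appLE V' W hWV' = 𝟙 _ := by
      rw [Scheme.Hom.appLE_comp_appLE]
      exact (appLE_congr' hf _ _ _ (le_refl _)).trans (appLE_id W _)
    exact congr($h1 c)
  have hπ' : ∀ c', algebraMap Γ(X', U) Γ(Y', W') (algebraMap Γ(Y', W') Γ(X', U) c') = c' := by
    intro c'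
    have h1 : g'.appLE W' U hUW' ≫ f'.appLE U W' hTe.le = 𝟙 _ := by
      rw [Scheme.Hom.appLE_comp_appLE]
      exact (appLE_congr' hf' _ _ _ (le_refl _)).trans (appLE_id W' _)
    exact congr($h1 c')
  have hππ' : ∀ b, algebraMap Γ(X, V') Γ(Y', W') b = algebraMap Γ(Y, W) Γ(Y', W') (π b) := by
    intro b
    have h1 : v.appLE V' U hUV' ≫ f'.appLE U W' hTe.le =
        f.appLE V' W hWV' ≫ u.appLE W W' hW'W := by
      rw [Scheme.Hom.appLE_comp_appLE, Scheme.Hom.appLE_comp_appLE]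
      exact appLE_congr' hf'v _ _ _ _
    exact congr($h1 b)
  -- the ideals
  have hKU := ideal_eq_map v (f'.ker ^ n) (f.ker ^ n) hK hV' hUaff hUV'
  have hτex : ∀ s' : Γ(ClSub.idealMod (f.ker ^ n), V'), ∃ s : Γ(ClSub.idealMod (f'.ker ^ n), U),
      OmegaSh.idealSect (f'.ker ^ n) U s =
        v.appLE V' U hUV' (OmegaSh.idealSect (f.ker ^ n) V' s') := by
    intro s'
    refine exists_idealSect_eq_of_mem (f'.ker ^ n) ⟨U, hUaff⟩ _ ?_
    rw [hKU]
    exact Ideal.mem_map_of_mem _ (idealSect_mem_ideal (f.ker ^ n) ⟨V', hV'⟩ s')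
  choose τf hτf using hτex
  let τ : Γ(ClSub.idealMod (f.ker ^ n), V') →+ Γ(ClSub.idealMod (f'.ker ^ n), U) :=
    { toFun := τf
      map_zero' := by
        apply idealSect_injective
        rw [hτf, map_zero, map_zero, map_zero]
      map_add' := fun a b => by
        apply idealSect_injective
        rw [hτf, map_add, map_add, map_add, hτf, hτf] }
  have hτ : ∀ (a : Γ(X, V')) (s : Γ(ClSub.idealMod (f.ker ^ n), V')),
      τ (a • s) = algebraMap Γ(X, V') Γ(X', U) a • τ s := by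
    intro a s
    apply idealSect_injective
    change OmegaSh.idealSect (f'.ker ^ n) U (τf (a • s)) = OmegaSh.idealSect (f'.ker ^ n) U
      (algebraMap Γ(X, V') Γ(X', U) a • τf s)
    rw [hτf, idealSect_smul, idealSect_smul, hτf, map_mul]
    rfl
  have hgen : ∀ s : Γ(ClSub.idealMod (f'.ker ^ n), U),
      s ∈ Submodule.span Γ(X', U) (Set.range τ) := by
    intro s
    have h1 : OmegaSh.idealSect (f'.ker ^ n) U s ∈ Ideal.map (v.appLE V' U hUV').hom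
        ((f.ker ^ n).ideal ⟨V', hV'⟩) := by
      rw [← hKU]
      exact idealSect_mem_ideal (f'.ker ^ n) ⟨U, hUaff⟩ s
    have key : ∀ x ∈ Ideal.map (v.appLE V' U hUV').hom ((f.ker ^ n).ideal ⟨V', hV'⟩),
        ∃ t ∈ Submodule.span Γ(X', U) (Set.range τ),
          OmegaSh.idealSect (f'.ker ^ n) U t = x := by
      intro x hx
      refine Submodule.span_induction ?_ ?_ ?_ ?_ hx
      · rintro _ ⟨σ', hσ', rfl⟩
        obtain ⟨s', hs'⟩ := exists_idealSect_eq_of_mem (f.ker ^ n) ⟨V', hV'⟩ σ' hσ'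
        refine ⟨τ s', Submodule.subset_span ⟨s', rfl⟩, ?_⟩
        change OmegaSh.idealSect (f'.ker ^ n) U (τf s') = _
        rw [hτf, hs']
      · exact ⟨0, zero_mem _, map_zero _⟩
      · rintro x y _ _ ⟨t, ht, rfl⟩ ⟨t', ht', rfl⟩
        exact ⟨t + t', add_mem ht ht', map_add _ _ _⟩
      · rintro a x _ ⟨t, ht, rfl⟩
        exact ⟨a • t, Submodule.smul_mem _ a ht, idealSect_smul _ U a t⟩
    obtain ⟨t, ht, hts⟩ := key _ h1
    rwa [idealSect_injective _ _ hts] at ht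
  obtain ⟨Φ, hΦ, hΦs, -⟩ := exists_tensor_map (R := Γ(Y', W')) τ hτ
  -- flatness
  have hπ0 : ∀ c : Γ(Y, W), algebraMap Γ(X, V') Γ(Y, W) (algebraMap Γ(Y, W) Γ(X, V') c) = c := hπ
  haveI hflB : Module.Flat Γ(Y, W)
      (Γ(X, V') ⧸ (RingHom.ker (algebraMap Γ(X, V') Γ(Y, W)) ^ n)) :=
    flat_quot_pow hπ0 n (fun k hk =>
      flat_tensor_pow f hW hV' hfV' k (hflat k ((Nat.le_of_lt hk).trans hn)) rfl)
  have hrange : ∀ b, b ∈ RingHom.ker (algebraMap Γ(X, V') Γ(Y, W)) ^ n ↔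
      ∃ s, idealSectₗ (f.ker ^ n) V' s = b := by
    intro b
    have h0 : RingHom.ker (algebraMap Γ(X, V') Γ(Y, W)) ^ n = (f.ker ^ n).ideal ⟨V', hV'⟩ :=
      (ker_pow_ideal_eq f hV' hfV' n).symm
    rw [h0]
    constructor
    · intro hb
      exact exists_idealSect_eq_of_mem (f.ker ^ n) ⟨V', hV'⟩ b hb
    · rintro ⟨s, rfl⟩
      exact idealSect_mem_ideal (f.ker ^ n) ⟨V', hV'⟩ s
  have hinj : Function.Injective Φ :=
    tensor_injective_of_flat_pow (C := Γ(Y, W)) (B := Γ(X, V')) (C' := Γ(Y', W')) (B' := Γ(X', U))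
      π hπ hπ' hππ' (idealSectₗ (f.ker ^ n) V') (idealSect_injective _ V')
      (idealSectₗ (f'.ker ^ n) U) (idealSect_injective _ U) τ (fun s' => hτf s') hgen Φ hΦ n hrange
  exact chart_ideal_bij f' f v u (f'.ker ^ n) (f.ker ^ n) hf'v.symm hK φ hφ' hV' (hV'.preimage f) hUaff
    hUV' hTe hW' rfl rfl τ hτf Φ hΦ ⟨hinj, hΦs hgen⟩

end chart

section main
variable {X Y X' Y' : Scheme.{u}} (g : X ⟶ Y) (f : Y ⟶ X)
    [IsClosedImmersion f] (hf : f ≫ g = 𝟙 Y) (u : Y' ⟶ Y) (v : X' ⟶ X) (g' : X' ⟶ Y')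
    (hsq : IsPullback v g' g u) (f' : Y' ⟶ X') (hf' : f' ≫ g' = 𝟙 Y') (hf'v : f' ≫ v = u ≫ f)

include hf hsq hf' hf'v in
theorem main_S5964 (m : ℕ) (hflat : ∀ k ≤ m, FlatMod.IsFlat (PrinPart.grMod f k)) {n : ℕ}
    (hn : n ≤ m)
    (φ : (Scheme.Modules.pullback u).obj (PrinPart.grMod f n) ⟶ PrinPart.grMod f' n)
    (hφ : PrinPart.IsGrMap f' f v u n φ) : IsIso φ := by
  haveI := Groth.Agent.Lib.Helper20.OmegaAff.isQuasicoherent_idealMod (f.ker ^ n)
  haveI := Groth.Agent.Lib.Helper20.OmegaAff.isQuasicoherent_idealMod (f'.ker ^ n)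
  haveI : (PrinPart.grMod f' n).IsQuasicoherent :=
    inferInstanceAs ((Scheme.Modules.pullback f').obj (ClSub.idealMod (f'.ker ^ n))).IsQuasicoherent
  haveI : (PrinPart.grMod f n).IsQuasicoherent :=
    inferInstanceAs ((Scheme.Modules.pullback f).obj (ClSub.idealMod (f.ker ^ n))).IsQuasicoherent
  let ι : Type u := {T : Y.Opens × X.Opens × Y'.Opens // IsAffineOpen T.1 ∧ IsAffineOpen T.2.1 ∧
    IsAffineOpen T.2.2 ∧ f ⁻¹ᵁ T.2.1 = T.1 ∧ T.2.1 ≤ g ⁻¹ᵁ T.1 ∧ T.2.2 ≤ u ⁻¹ᵁ T.1}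
  have hcover : IsOpenCover (fun T : ι => T.1.2.2) := by
    refine IsOpenCover.mk (eq_top_iff.mpr ?_)
    intro y' _
    obtain ⟨W, V', W', hW, hV', hW', h1, h2, h3, hy'⟩ := exists_chart_S5963 g f hf u y'
    exact Opens.mem_iSup.mpr ⟨⟨⟨W, V', W'⟩, hW, hV', hW', h1, h2, h3⟩, hy'⟩
  refine isIso_of_bijective_app_cover φ _ hcover (fun T => T.2.2.2.1) (fun T => ?_)
  exact chart_S5964 g f hf u v g' hsq f' hf' hf'v m hflat hn φ hφ T.2.1 T.2.2.1 T.2.2.2.1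
    T.2.2.2.2.1 T.2.2.2.2.2.1 T.2.2.2.2.2.2 rfl

end main

end Groth.Agent.Helper18Gr
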