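import Groth.Agent.Lib.Helper18SemiGr4
/-! Stub: the original content of this file now lives in `Helper18SemiGr1`–`Helper18SemiGr4`
(the names `Helper18Gr1`–`Helper18Gr3` were later reused for different content). -/
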