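import Mathlib
import Groth.Prelude.Def_Omega4

set_option autoImplicit false
universe u
open CategoryTheory MonoidalCategory CartesianMonoidalCategory MonObj GrpObj AlgebraicGeometry Limits

namespace Groth.Agent.Helper18Grp

variable {S : Scheme.{u}} (G : Over S) [GrpObj G]

/-- `(g, h) ↦ g⁻¹ h` -/
noncomputable def divMap : G ⊗ G ⟶ G := (fst G G)⁻¹ * snd G G

theorem isPullback_divMap :
    IsPullback (divMap G).left (pullback.fst G.hom G.hom) G.hom G.hom := by
  refine ⟨⟨Over.w (divMap G)⟩, ⟨PullbackCone.IsLimit.mk _ ?_ ?_ ?_ ?_⟩⟩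
  · intro s
    let T' : Over S := Over.mk (s.snd ≫ G.hom)
    let a' : T' ⟶ G := Over.homMk s.fst s.condition
    let b' : T' ⟶ G := Over.homMk s.snd rfl
    exact (lift b' (b' * a')).left
  · intro s
    let T' : Over S := Over.mk (s.snd ≫ G.hom)
    let a' : T' ⟶ G := Over.homMk s.fst s.condition
    let b' : T' ⟶ G := Over.homMk s.snd rfl
    change (lift b' (b' * a') ≫ divMap G).left = a'.left
    congr 1
    rw [divMap, MonObj.comp_mul, GrpObj.comp_inv, lift_fst, lift_snd, inv_mul_cancel_left]
  · intro s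
    let T' : Over S := Over.mk (s.snd ≫ G.hom)
    let a' : T' ⟶ G := Over.homMk s.fst s.condition
    let b' : T' ⟶ G := Over.homMk s.snd rfl
    change (lift b' (b' * a') ≫ fst G G).left = b'.left
    rw [lift_fst]
  · intro s m hm1 hm2
    let T' : Over S := Over.mk (s.snd ≫ G.hom)
    let a' : T' ⟶ G := Over.homMk s.fst s.condition
    let b' : T' ⟶ G := Over.homMk s.snd rfl
    let m' : T' ⟶ G ⊗ G := Over.homMk m (by
      change m ≫ pullback.fst G.hom G.hom ≫ G.hom = s.snd ≫ G.hom
      rw [← Category.assoc, hm2])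
    change m'.left = (lift b' (b' * a')).left
    congr 1
    have h1 : m' ≫ fst G G = b' := by
      ext
      exact hm2
    have h2 : m' ≫ divMap G = a' := by
      ext
      exact hm1
    apply CartesianMonoidalCategory.hom_ext
    · rw [h1, lift_fst]
    · rw [lift_snd]
      rw [divMap, MonObj.comp_mul, GrpObj.comp_inv, h1] at h2
      rw [← h2, mul_inv_cancel_left]

theorem diagonal_divMap :
    pullback.diagonal G.hom ≫ (divMap G).left = G.hom ≫ η[G].left := by
  have h1 : pullback.diagonal G.hom = (lift (𝟙 G) (𝟙 G)).left := rfl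
  rw [h1]
  change (lift (𝟙 G) (𝟙 G) ≫ divMap G).left = (toUnit G ≫ η[G]).left
  congr 1
  rw [divMap, MonObj.comp_mul, GrpObj.comp_inv, lift_fst, lift_snd, inv_mul_cancel]
  rfl

end Groth.Agent.Helper18Grp
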