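import Mathlib
import Groth.Prelude.Def_Omega4
import Groth.Agent.Lib.Helper18OmLS24
import Groth.Agent.Lib.Helper18OmLS9
import Groth.Agent.Lib.Helper18Om1
import Groth.Agent.Lib.Helper18Grp1

set_option autoImplicit false
set_option linter.style.haveILetI false
universe u
open CategoryTheory MonoidalCategory CartesianMonoidalCategory MonObj GrpObj AlgebraicGeometry Limits

namespace Groth.Agent.Helper18Grp

open Groth.Agent.Helper18OmLS Groth.Agent.Helper18Om

/-- base change for Ω (non-canonical form). -/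
theorem nonempty_bc_iso {X S X' S' : Scheme.{u}} (f : X ⟶ S) (g : S' ⟶ S) (g' : X' ⟶ X)
    (f' : X' ⟶ S') (hsq : IsPullback g' f' f g) [QuasiSeparated f] [QuasiSeparated f'] :
    Nonempty ((Scheme.Modules.pullback g').obj (Omega.sheaf f) ≅ Omega.sheaf f') := by
  obtain ⟨c, hc, -⟩ := main_S9370 f f' g' g hsq.w.symm (Omega.sheaf f) (OmegaSh.dOmega f)
    (isUniversal_dOmega f) (Omega.sheaf f') (OmegaSh.dOmega f')
  haveI : IsIso c := main_S9386 f g g' f' hsq (Omega.sheaf f) (OmegaSh.dOmega f)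
    (isUniversal_dOmega f) (Omega.sheaf f') (OmegaSh.dOmega f') (isUniversal_dOmega f') c hc
  exact ⟨asIso c⟩

variable {S : Scheme.{u}} (G : Over S) [GrpObj G] [QuasiSeparated G.hom]

theorem nonempty_omega_iso_pullback_unit :
    Nonempty (Omega.sheaf G.hom ≅
      (Scheme.Modules.pullback G.hom).obj ((Scheme.Modules.pullback η[G].left).obj
        (Omega.sheaf G.hom))) := by
  haveI : QuasiSeparated (pullback.fst G.hom G.hom) := inferInstance
  obtain ⟨i1⟩ := nonempty_bc_iso G.hom G.hom (divMap G).left (pullback.fst G.hom G.hom)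
    (isPullback_divMap G)
  obtain ⟨i2⟩ := nonempty_bc_iso G.hom G.hom (pullback.snd G.hom G.hom) (pullback.fst G.hom G.hom)
    (IsPullback.of_hasPullback G.hom G.hom).flip
  let Δ := pullback.diagonal G.hom
  let j : (Scheme.Modules.pullback Δ).obj ((Scheme.Modules.pullback (divMap G).left).obj
      (Omega.sheaf G.hom)) ≅ (Scheme.Modules.pullback Δ).obj
        ((Scheme.Modules.pullback (pullback.snd G.hom G.hom)).obj (Omega.sheaf G.hom)) :=
    (Scheme.Modules.pullback Δ).mapIso (i1 ≪≫ i2.symm)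
  have h1 : Δ ≫ (divMap G).left = G.hom ≫ η[G].left := diagonal_divMap G
  have h2 : Δ ≫ pullback.snd G.hom G.hom = 𝟙 _ := pullback.diagonal_snd _
  let a1 := (Scheme.Modules.pullbackComp Δ (divMap G).left).app (Omega.sheaf G.hom)
  let a2 := (Scheme.Modules.pullbackCongr h1).app (Omega.sheaf G.hom)
  let a3 := (Scheme.Modules.pullbackComp G.hom η[G].left).app (Omega.sheaf G.hom)
  let b1 := (Scheme.Modules.pullbackComp Δ (pullback.snd G.hom G.hom)).app (Omega.sheaf G.hom)
  let b2 := (Scheme.Modules.pullbackCongr h2).app (Omega.sheaf G.hom)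
  let b3 := (Scheme.Modules.pullbackId G.left).app (Omega.sheaf G.hom)
  exact ⟨b3.symm ≪≫ b2.symm ≪≫ b1.symm ≪≫ j.symm ≪≫ a1 ≪≫ a2 ≪≫ a3.symm⟩

end Groth.Agent.Helper18Grp
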