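import Mathlib
import Groth.Prelude.Def_Omega4
import Groth.Agent.Lib.Helper18OmLS24
import Groth.Agent.Lib.Helper18OmLS18
import Groth.Agent.Lib.Helper18Om1

set_option autoImplicit false
set_option linter.style.haveILetI false
universe u
open CategoryTheory AlgebraicGeometry Limits TopologicalSpace Opposite

namespace Groth.Agent.Helper18Grp

open Groth.Agent.Helper18OmLS Groth.Agent.Helper18Om
open Groth.Agent.Helper13PullbackUnit Groth.Agent.Helper13ModGlue Groth.Agent.Lib.Helper6

/-- existence of the map `C_{Z/X} → i^*Ω'` induced by a derivation. -/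
theorem exists_conormalDiff {Z X Y : Scheme.{u}} (i : Z ⟶ X) (f : X ⟶ Y) {Ω' : X.Modules}
    (d : OmegaSh.Der f Ω') :
    ∃ φ : Omega.conormal i ⟶ (Scheme.Modules.pullback i).obj Ω', OmegaSh.IsConormalDiff i d φ := by
  let H : X.Modules := ClSub.idealMod i.ker
  let M : Z.Modules := (Scheme.Modules.pullback i).obj Ω'
  let F : X.Modules := (Scheme.Modules.pushforward i).obj M
  let η : Ω' ⟶ F := (Scheme.Modules.pullbackPushforwardAdjunction i).unit.app Ω'
  let D : LocFam (⊤ : X.Opens) H F :=
    { d := fun W _ => ((η.app W).hom).comp ((d.app W).comp (OmegaSh.idealSect i.ker W))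
      nat := by
        intro W W' hW hW' τ
        change F.presheaf.map (homOfLE hW').op (η.app W (d.app W (OmegaSh.idealSect i.ker W τ))) =
          η.app W' (d.app W' (OmegaSh.idealSect i.ker W' (H.presheaf.map (homOfLE hW').op τ)))
        rw [idealSect_res, der_map]
        have n := η.mapPresheaf.naturality (homOfLE hW').op
        have e := CategoryTheory.congr_fun n (d.app W (OmegaSh.idealSect i.ker W τ))
        simp only [Scheme.Modules.mapPresheaf_app, ConcreteCategory.comp_apply] at e
        exact e.symm
      lin := by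
        intro W hW a τ
        change η.app W (d.app W (OmegaSh.idealSect i.ker W (a • τ))) =
          a • η.app W (d.app W (OmegaSh.idealSect i.ker W τ))
        rw [idealSect_smul, der_mul, map_add, Scheme.Modules.Hom.app_smul,
          Scheme.Modules.Hom.app_smul]
        rw [pushforward_smul i W (OmegaSh.idealSect i.ker W τ), app_idealSect_eq_zero, zero_smul]
        exact add_zero _ }
  obtain ⟨ψ, hψ⟩ := exists_hom_of_locFams (κ := PUnit.{u+1}) (fun _ => (⊤ : X.Opens))
    (by simp) H F (fun _ => D) (fun _ _ _ _ _ _ => rfl)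
  let e := (Scheme.Modules.pullbackPushforwardAdjunction i).homEquiv H M
  refine ⟨e.symm ψ, ?_⟩
  intro U s
  have h1 := homEquiv_app i (e.symm ψ) U s
  have h2 : (Scheme.Modules.pullbackPushforwardAdjunction i).homEquiv H M (e.symm ψ) = ψ :=
    e.apply_symm_apply ψ
  rw [h2] at h1
  rw [OmegaSh.conormalSect_eq]
  exact h1.symm.trans (hψ PUnit.unit U le_top s)

end Groth.Agent.Helper18Grp
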