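import Mathlib
import Groth.Prelude.Def_Omega4
import Groth.Agent.Lib.Helper18OmLS24
import Groth.Agent.Lib.Helper18OmLS18
import Groth.Agent.Lib.Helper18OmLS5
import Groth.Agent.Lib.Helper18Om1
import Groth.Agent.Lib.Helper18Grp3

set_option autoImplicit false
set_option linter.style.haveILetI false
universe u
open CategoryTheory AlgebraicGeometry Limits TopologicalSpace Opposite

namespace Groth.Agent.Helper18Grp

open Groth.Agent.Helper18OmLS Groth.Agent.Helper18Om

/-- the conormal sheaf of a section `e` of `f` is `e^*Ω_f`. -/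
theorem nonempty_conormal_iso_of_section {X S : Scheme.{u}} (f : X ⟶ S) [QuasiSeparated f]
    (e : S ⟶ X) (he : e ≫ f = 𝟙 S) :
    Nonempty (Omega.conormal e ≅ (Scheme.Modules.pullback e).obj (Omega.sheaf f)) := by
  haveI : IsImmersion (e ≫ f) := by rw [he]; infer_instance
  haveI : IsImmersion e := IsImmersion.of_comp e f
  haveI : QuasiCompact (e ≫ f) := by rw [he]; infer_instance
  haveI : QuasiCompact e := QuasiCompact.of_comp e f
  haveI : QuasiSeparated (e ≫ f) := by rw [he]; infer_instance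
  haveI : FormallyUnramified (e ≫ f) := by rw [he]; infer_instance
  obtain ⟨φ, hφ⟩ := exists_conormalDiff e f (OmegaSh.dOmega f)
  obtain ⟨c, hc, -⟩ := main_S9370 f (e ≫ f) e (𝟙 S) (Category.comp_id _) (Omega.sheaf f)
    (OmegaSh.dOmega f) (isUniversal_dOmega f) (Omega.sheaf (e ≫ f)) (OmegaSh.dOmega (e ≫ f))
  have hzero : IsZero (Omega.sheaf (e ≫ f)) :=
    (formallyUnramified_iff_isZero (e ≫ f) (OmegaSh.dOmega (e ≫ f))
      (isUniversal_dOmega (e ≫ f))).mp inferInstance
  obtain ⟨w, hex, ⟨r, hr⟩, -⟩ := main_S9384 f e f he (by rw [he, Category.comp_id])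
    (Omega.sheaf f) (OmegaSh.dOmega f) (isUniversal_dOmega f)
    (Omega.sheaf (e ≫ f)) (OmegaSh.dOmega (e ≫ f)) (isUniversal_dOmega (e ≫ f)) φ hφ c hc
  haveI : Mono φ := mono_of_mono_fac hr
  haveI : Epi φ := hex.epi_f (hzero.eq_of_tgt _ _)
  haveI : IsIso φ := isIso_of_mono_of_epi φ
  exact ⟨asIso φ⟩

end Groth.Agent.Helper18Grp
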