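import Mathlib
import Groth.Prelude.Def_Omega4

set_option autoImplicit false
set_option linter.style.haveILetI false
universe u
open CategoryTheory AlgebraicGeometry Limits TopologicalSpace Opposite

namespace Groth.Agent.Helper18Grp

/-- quasi-coherent modules over the spectrum of a field are free. -/
theorem exists_free_iso_of_field (K : Type u) [Field K] (M : (Spec (CommRingCat.of K)).Modules)
    [M.IsQuasicoherent] :
    ∃ I : Type u, Nonempty (M ≅
      SheafOfModules.free (R := (Spec (CommRingCat.of K)).ringCatSheaf) I) := by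
  let R : CommRingCat.{u} := CommRingCat.of K
  let V : ModuleCat.{u} R := moduleSpecΓFunctor.obj M
  letI : Module K V := V.isModule
  let I : Type u := Module.Free.ChooseBasisIndex K V
  let b : Module.Basis I K V := Module.Free.chooseBasis K V
  let e : V ≅ ModuleCat.of R (I →₀ R) := (b.repr).toModuleIso
  haveI : IsIso (Scheme.Modules.fromTildeΓ (R := R) M) :=
    Scheme.Modules.isIso_fromTildeΓ_of_isQuasicoherent (R := R) M
  let i1 : M ≅ tilde V := (asIso (Scheme.Modules.fromTildeΓ (R := R) M)).symm
  let i2 : tilde V ≅ tilde (ModuleCat.of R (I →₀ R)) := (tilde.functor R).mapIso e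
  exact ⟨I, ⟨i1 ≪≫ i2 ≪≫ tildeFinsupp I⟩⟩

end Groth.Agent.Helper18Grp
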