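import Mathlib
import Groth.Prelude.Def_Omega4
import Groth.Agent.Lib.Helper23PB
import Groth.Agent.Lib.Helper18Grp2
import Groth.Agent.Lib.Helper18Grp4
import Groth.Agent.Lib.Helper18Grp5

set_option autoImplicit false
set_option linter.style.haveILetI false
universe u
open CategoryTheory MonoidalCategory CartesianMonoidalCategory MonObj GrpObj AlgebraicGeometry Limits

namespace Groth.Agent.Helper18Grp

open Groth.Agent.Lib.Helper23.PB

set_option backward.isDefEq.respectTransparency.types false in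
/-- pullback of a free module is free. -/
noncomputable def pullbackFreeIso {X Y : Scheme.{u}} (f : X ⟶ Y) (I : Type u) :
    (Scheme.Modules.pullback f).obj (SheafOfModules.free (R := Y.ringCatSheaf) I) ≅
      SheafOfModules.free (R := X.ringCatSheaf) I :=
  SheafOfModules.pullbackObjFreeIso.{u} f.toRingCatSheafHom I

/-- `ii^* ii⁻¹^* C ≅ C`. -/
noncomputable def pullbackIsoCancel {X Y : Scheme.{u}} (ii : X ≅ Y) (C : X.Modules) :
    (Scheme.Modules.pullback ii.hom).obj ((Scheme.Modules.pullback ii.inv).obj C) ≅ C :=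
  (Scheme.Modules.pullbackComp ii.hom ii.inv).app C ≪≫
    (Scheme.Modules.pullbackCongr ii.hom_inv_id).app C ≪≫ (Scheme.Modules.pullbackId X).app C

theorem section_instances {X S : Scheme.{u}} (f : X ⟶ S) [QuasiSeparated f] (e : S ⟶ X)
    (he : e ≫ f = 𝟙 S) : IsImmersion e ∧ QuasiCompact e := by
  haveI : IsImmersion (e ≫ f) := by rw [he]; infer_instance
  haveI : QuasiCompact (e ≫ f) := by rw [he]; infer_instance
  exact ⟨IsImmersion.of_comp e f, QuasiCompact.of_comp e f⟩

variable {S : Scheme.{u}} (G : Over S) [GrpObj G] [QuasiSeparated G.hom]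

theorem part1 : Nonempty (Omega.sheaf G.hom ≅
    (Scheme.Modules.pullback G.hom).obj (Omega.conormal η[G].left)) := by
  obtain ⟨i1⟩ := nonempty_omega_iso_pullback_unit G
  obtain ⟨i2⟩ := nonempty_conormal_iso_of_section G.hom η[G].left (Over.w η[G])
  exact ⟨i1 ≪≫ (Scheme.Modules.pullback G.hom).mapIso i2.symm⟩

theorem part2 (K : Type u) [Field K] (hS : Nonempty (S ≅ Spec (CommRingCat.of K))) :
    ∃ I : Type u, Nonempty (Omega.sheaf G.hom ≅ ∐ fun _ : I => Coh.structureModule G.left) := by
  obtain ⟨ii⟩ := hS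
  obtain ⟨i1⟩ := part1 G
  let C : S.Modules := Omega.conormal η[G].left
  obtain ⟨h1, h2⟩ := section_instances (X := G.left) (S := S) G.hom η[G].left (Over.w η[G])
  haveI : IsImmersion η[G].left := h1
  haveI : QuasiCompact η[G].left := h2
  haveI : C.IsQuasicoherent :=
    inferInstanceAs ((Scheme.Modules.pullback η[G].left).obj
      (ClSub.idealMod η[G].left.ker)).IsQuasicoherent
  let M' : (Spec (CommRingCat.of K)).Modules := (Scheme.Modules.pullback ii.inv).obj C
  haveI : M'.IsQuasicoherent := inferInstanceAs ((Scheme.Modules.pullback ii.inv).obj C).IsQuasicoherent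
  obtain ⟨I, ⟨i2⟩⟩ := exists_free_iso_of_field K M'
  refine ⟨I, ⟨?_⟩⟩
  let j1 : C ≅ (Scheme.Modules.pullback ii.hom).obj M' := (pullbackIsoCancel ii C).symm
  let j2 : (Scheme.Modules.pullback ii.hom).obj M' ≅ SheafOfModules.free (R := S.ringCatSheaf) I :=
    (Scheme.Modules.pullback ii.hom).mapIso i2 ≪≫ pullbackFreeIso ii.hom I
  exact i1 ≪≫ (Scheme.Modules.pullback G.hom).mapIso (j1 ≪≫ j2) ≪≫ pullbackFreeIso G.hom I

end Groth.Agent.Helper18Grp
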