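import Mathlib
import Groth.Prelude.Def_Grpd

set_option autoImplicit false
set_option linter.style.haveILetI false
universe u
open CategoryTheory AlgebraicGeometry Limits

namespace Groth.Agent.Helper18Grpd

variable {S : Scheme.{u}} (G : Grpd.GroupoidScheme S)

/-- composition of `T`-points -/
noncomputable def cmp {T : Scheme.{u}} (α β : T ⟶ G.R) (h : α ≫ G.s = β ≫ G.t) : T ⟶ G.R :=
  pullback.lift α β h ≫ G.c

variable {G}
variable {T : Scheme.{u}}

theorem cmp_congr {α α' β β' : T ⟶ G.R} (hα : α = α') (hβ : β = β') (h : α ≫ G.s = β ≫ G.t)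
    (h' : α' ≫ G.s = β' ≫ G.t) : cmp G α β h = cmp G α' β' h' := by
  subst hα hβ; rfl

theorem cmp_s (α β : T ⟶ G.R) (h : α ≫ G.s = β ≫ G.t) : cmp G α β h ≫ G.s = β ≫ G.s :=
  G.comp_s α β h

theorem cmp_t (α β : T ⟶ G.R) (h : α ≫ G.s = β ≫ G.t) : cmp G α β h ≫ G.t = α ≫ G.t :=
  G.comp_t α β h

theorem cmp_assoc (α β γ : T ⟶ G.R) (h₁ : α ≫ G.s = β ≫ G.t) (h₂ : β ≫ G.s = γ ≫ G.t) :
    cmp G (cmp G α β h₁) γ ((cmp_s α β h₁).trans h₂) =
      cmp G α (cmp G β γ h₂) (h₁.trans (cmp_t β γ h₂).symm) :=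
  G.assoc α β γ h₁ h₂

theorem precomp_cmp {T' : Scheme.{u}} (m : T' ⟶ T) (α β : T ⟶ G.R) (h : α ≫ G.s = β ≫ G.t) :
    m ≫ cmp G α β h = cmp G (m ≫ α) (m ≫ β) (by rw [Category.assoc, Category.assoc, h]) := by
  unfold cmp
  rw [← Category.assoc]
  congr 1
  apply pullback.hom_ext
  · rw [Category.assoc, pullback.lift_fst, pullback.lift_fst]
  · rw [Category.assoc, pullback.lift_snd, pullback.lift_snd]

theorem cmp_e (α : T ⟶ G.R) :
    cmp G α (α ≫ G.s ≫ G.e) (by rw [Category.assoc, Category.assoc, G.e_t, Category.comp_id]) = α :=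
  G.comp_e α

theorem e_cmp (α : T ⟶ G.R) :
    cmp G (α ≫ G.t ≫ G.e) α (by rw [Category.assoc, Category.assoc, G.e_s, Category.comp_id]) = α :=
  G.e_comp α

theorem cmp_i (α : T ⟶ G.R) :
    cmp G α (α ≫ G.i) (by rw [Category.assoc, G.i_t]) = α ≫ G.t ≫ G.e :=
  G.comp_i α

theorem i_cmp (α : T ⟶ G.R) :
    cmp G (α ≫ G.i) α (by rw [Category.assoc, G.i_s]) = α ≫ G.s ≫ G.e :=
  G.i_comp α

/-- `α ∘ (α⁻¹ ∘ β) = β` -/
theorem cmp_cmp_inv (α β : T ⟶ G.R) (h : α ≫ G.t = β ≫ G.t)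
    (h1 : (α ≫ G.i) ≫ G.s = β ≫ G.t) (h2 : α ≫ G.s = cmp G (α ≫ G.i) β h1 ≫ G.t) :
    cmp G α (cmp G (α ≫ G.i) β h1) h2 = β := by
  have h3 : α ≫ G.s = (α ≫ G.i) ≫ G.t := by rw [Category.assoc, G.i_t]
  have := cmp_assoc α (α ≫ G.i) β h3 h1
  rw [← this]
  have h4 : cmp G α (α ≫ G.i) h3 = β ≫ G.t ≫ G.e := by
    rw [cmp_i, ← Category.assoc, h, Category.assoc]
  rw [cmp_congr h4 rfl _ (by rw [Category.assoc, Category.assoc, G.e_s, Category.comp_id])]
  exact e_cmp β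

/-- `α⁻¹ ∘ (α ∘ γ) = γ` -/
theorem cmp_inv_cmp (α γ : T ⟶ G.R) (h : α ≫ G.s = γ ≫ G.t)
    (h2 : (α ≫ G.i) ≫ G.s = cmp G α γ h ≫ G.t) :
    cmp G (α ≫ G.i) (cmp G α γ h) h2 = γ := by
  have h3 : (α ≫ G.i) ≫ G.s = α ≫ G.t := by rw [Category.assoc, G.i_s]
  have := cmp_assoc (α ≫ G.i) α γ h3 h
  rw [← this]
  have h4 : cmp G (α ≫ G.i) α h3 = γ ≫ G.t ≫ G.e := by
    rw [i_cmp, ← Category.assoc, h, Category.assoc]
  rw [cmp_congr h4 rfl _ (by rw [Category.assoc, Category.assoc, G.e_s, Category.comp_id])]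
  exact e_cmp γ

theorem inv_s (α : T ⟶ G.R) : (α ≫ G.i) ≫ G.s = α ≫ G.t := by rw [Category.assoc, G.i_s]
theorem inv_t (α : T ⟶ G.R) : (α ≫ G.i) ≫ G.t = α ≫ G.s := by rw [Category.assoc, G.i_t]
theorem e_t' (u : T ⟶ G.U) : (u ≫ G.e) ≫ G.t = u := by rw [Category.assoc, G.e_t, Category.comp_id]
theorem e_s' (u : T ⟶ G.U) : (u ≫ G.e) ≫ G.s = u := by rw [Category.assoc, G.e_s, Category.comp_id]
theorem pt_cond (a : T ⟶ pullback G.t G.t) :
    (a ≫ pullback.fst G.t G.t) ≫ G.t = (a ≫ pullback.snd G.t G.t) ≫ G.t := by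
  rw [Category.assoc, Category.assoc, pullback.condition]

variable (G)

theorem div_cond : (pullback.fst G.t G.t ≫ G.i) ≫ G.s = pullback.snd G.t G.t ≫ G.t := by
  rw [inv_s, pullback.condition]

/-- `(α, β) ↦ α⁻¹ ∘ β` on `R ×_{t,U,t} R` -/
noncomputable def divMap : pullback G.t G.t ⟶ G.R :=
  cmp G (pullback.fst G.t G.t ≫ G.i) (pullback.snd G.t G.t) (div_cond G)

variable {G}

theorem comp_divMap (a : T ⟶ pullback G.t G.t) :
    a ≫ divMap G = cmp G ((a ≫ pullback.fst G.t G.t) ≫ G.i) (a ≫ pullback.snd G.t G.t)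
      (by rw [inv_s, pt_cond]) := by
  unfold divMap
  rw [precomp_cmp]
  exact cmp_congr (Category.assoc _ _ _).symm rfl _ _

variable (G)

theorem divMap_t : divMap G ≫ G.t = pullback.fst G.t G.t ≫ G.s := by
  unfold divMap
  rw [cmp_t, inv_t]

/-- `R ×_{t,t} R ≅ R ×_{s,t} R`, in the form of a cartesian square. -/
theorem isPullback_fst_divMap : IsPullback (pullback.fst G.t G.t) (divMap G) G.s G.t := by
  refine ⟨⟨(divMap_t G).symm⟩, ⟨PullbackCone.IsLimit.mk _ ?_ ?_ ?_ ?_⟩⟩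
  · intro c
    exact pullback.lift c.fst (cmp G c.fst c.snd c.condition) (cmp_t _ _ _).symm
  · intro c
    exact pullback.lift_fst _ _ _
  · intro c
    rw [comp_divMap]
    have h1 : pullback.lift c.fst (cmp G c.fst c.snd c.condition) (cmp_t _ _ _).symm ≫
        pullback.fst G.t G.t = c.fst := pullback.lift_fst _ _ _
    have h2 : pullback.lift c.fst (cmp G c.fst c.snd c.condition) (cmp_t _ _ _).symm ≫
        pullback.snd G.t G.t = cmp G c.fst c.snd c.condition := pullback.lift_snd _ _ _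
    rw [cmp_congr (congrArg (· ≫ G.i) h1) h2 _ (by rw [inv_s, cmp_t])]
    exact cmp_inv_cmp c.fst c.snd c.condition _
  · intro c m hm1 hm2
    apply pullback.hom_ext
    · rw [hm1, pullback.lift_fst]
    · rw [pullback.lift_snd]
      rw [comp_divMap] at hm2
      have hc := pt_cond m
      have := cmp_cmp_inv (m ≫ pullback.fst G.t G.t) (m ≫ pullback.snd G.t G.t) hc
        (by rw [inv_s, hc]) (by rw [cmp_t, inv_t])
      rw [← this]
      exact cmp_congr hm1 hm2 _ _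

theorem isPullback_diagonal_divMap :
    IsPullback (pullback.diagonal G.t) G.s (divMap G) G.e := by
  have hw : pullback.diagonal G.t ≫ divMap G = G.s ≫ G.e := by
    rw [comp_divMap]
    have h1 : (pullback.diagonal G.t ≫ pullback.fst G.t G.t) ≫ G.i = 𝟙 G.R ≫ G.i := by
      rw [pullback.diagonal_fst]
    have h2 : pullback.diagonal G.t ≫ pullback.snd G.t G.t = 𝟙 G.R := pullback.diagonal_snd _
    rw [cmp_congr h1 h2 _ (by rw [inv_s])]
    rw [i_cmp, Category.id_comp]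
  refine ⟨⟨hw⟩, ⟨PullbackCone.IsLimit.mk _ ?_ ?_ ?_ ?_⟩⟩
  · intro c
    exact c.fst ≫ pullback.fst G.t G.t
  · intro c
    -- α = β
    have hc := pt_cond c.fst
    have hg := c.condition
    rw [comp_divMap] at hg
    have hu : c.snd = (c.fst ≫ pullback.fst G.t G.t) ≫ G.s := by
      have := congr($hg ≫ G.t)
      rw [cmp_t, inv_t, e_t'] at this
      exact this.symm
    have hαβ : c.fst ≫ pullback.snd G.t G.t = c.fst ≫ pullback.fst G.t G.t := by
      have h3 := cmp_cmp_inv (c.fst ≫ pullback.fst G.t G.t) (c.fst ≫ pullback.snd G.t G.t) hc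
        (by rw [inv_s, hc]) (by rw [cmp_t, inv_t])
      rw [← h3]
      have h4 : c.snd ≫ G.e = (c.fst ≫ pullback.fst G.t G.t) ≫ G.s ≫ G.e := by
        rw [hu, Category.assoc]
      rw [cmp_congr rfl (hg.trans h4) _
        (by rw [← Category.assoc, e_t'])]
      exact cmp_e _
    apply pullback.hom_ext
    · rw [Category.assoc, pullback.diagonal_fst, Category.comp_id]
    · rw [Category.assoc, pullback.diagonal_snd, Category.comp_id, hαβ]
  · intro c
    have hg := c.condition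
    rw [comp_divMap] at hg
    have := congr($hg ≫ G.t)
    rw [cmp_t, inv_t, e_t'] at this
    exact this
  · intro c m hm1 hm2
    rw [← hm1, Category.assoc, pullback.diagonal_fst, Category.comp_id]

end Groth.Agent.Helper18Grpd
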