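import Mathlib
import Groth.Prelude.Def_Grpd
import Groth.Prelude.Def_Omega4
import Groth.Agent.Lib.Helper18Grpd1
import Groth.Agent.Lib.Helper18Con3
import Groth.Agent.Lib.Helper18Grp6

set_option autoImplicit false
set_option linter.style.haveILetI false
universe u
open CategoryTheory AlgebraicGeometry Limits

namespace Groth.Agent.Helper18Grpd

open Groth.Agent.Helper18Con Groth.Agent.Helper18Grp

theorem main_S1938 (S : Scheme.{u}) (G : Grpd.GroupoidScheme S) [QuasiSeparated G.t] :
    (∃ φ : (Scheme.Modules.pullback G.s).obj (Omega.conormal G.e) ⟶ Omega.sheaf G.t, Epi φ) ∧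
      (Flat G.s → Nonempty ((Scheme.Modules.pullback G.s).obj (Omega.conormal G.e) ≅
        Omega.sheaf G.t)) := by
  obtain ⟨h1, h2⟩ := section_instances G.t G.e G.e_t
  haveI := h1
  haveI := h2
  have hsq := isPullback_diagonal_divMap G
  obtain ⟨φ, hφ, -⟩ := main_S9371 (pullback.diagonal G.t) G.e (divMap G) G.s hsq.w.symm
  obtain ⟨hepi, hiso⟩ := main_S9372 (pullback.diagonal G.t) G.e (divMap G) G.s hsq φ hφ
  refine ⟨⟨φ, hepi⟩, fun hflat => ?_⟩
  haveI : Flat (divMap G) :=
    MorphismProperty.of_isPullback (P := @Flat) (isPullback_fst_divMap G) hflat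
  haveI : IsIso φ := hiso inferInstance
  have e : (Scheme.Modules.pullback G.s).obj (Omega.conormal G.e) ≅
      Omega.conormal (pullback.diagonal G.t) := asIso φ
  exact ⟨e⟩

end Groth.Agent.Helper18Grpd
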