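import Mathlib
import Groth.Agent.Lib.Helper3FlatOpenFP
set_option linter.style.haveILetI false

universe u

namespace Groth.Agent.Helper18HF

open Groth.Agent.Lib.Helper3.FlatOpen

/-- flatness of `R_q` over `A` in the two forms. -/
lemma flat_localizedModule_iff {A R : Type u} [CommRing A] [CommRing R] [Algebra A R]
    (q : Ideal R) [q.IsPrime] (T : Type u) [CommRing T] [Algebra R T] [Algebra A T]
    [IsScalarTower A R T] [IsLocalization.AtPrime T q] :
    Module.Flat A (LocalizedModule q.primeCompl R) ↔ Module.Flat A T := by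
  haveI : IsLocalizedModule q.primeCompl (Algebra.linearMap R T) :=
    (isLocalizedModule_iff_isLocalization).mpr inferInstance
  let e : LocalizedModule q.primeCompl R ≃ₗ[R] T :=
    IsLocalizedModule.iso q.primeCompl (Algebra.linearMap R T)
  let e' : LocalizedModule q.primeCompl R ≃ₗ[A] T := e.restrictScalars A
  exact ⟨fun h => Module.Flat.of_linearEquiv e'.symm, fun h => Module.Flat.of_linearEquiv e'⟩


theorem main (A : Type u) [CommRing A] (I : Ideal A)
    (R : Type u) [CommRing R] [Algebra A R] [Algebra.FinitePresentation A R]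
    (h : ∀ (p : Ideal R) [p.IsPrime], I.map (algebraMap A R) ≤ p →
      Module.Flat A (Localization.AtPrime p)) :
    ∃ (R' : Type u) (_ : CommRing R') (_ : Algebra R R') (_ : Algebra A R')
      (_ : IsScalarTower A R R'),
      Algebra.Etale R R' ∧
      Function.Bijective (Ideal.quotientMap ((I.map (algebraMap A R)).map (algebraMap R R'))
        (algebraMap R R') Ideal.le_comap_map) ∧ Module.Flat A R' := by
  classical
  set IR := I.map (algebraMap A R) with hIR
  have hopen := isOpen_flatLocus_of_finitePresentation (R := A) (S := R) (M := R)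
  set U := {q : PrimeSpectrum R | Module.Flat A (LocalizedModule q.asIdeal.primeCompl R)} with hU
  obtain ⟨J, hJ⟩ := (PrimeSpectrum.isClosed_iff_zeroLocus_ideal _).mp hopen.isClosed_compl
  -- `V(J) ∩ V(IR) = ∅`
  have hdisj : PrimeSpectrum.zeroLocus ((J ⊔ IR : Ideal R) : Set R) = ∅ := by
    rw [PrimeSpectrum.zeroLocus_sup, ← hJ]
    ext q
    simp only [Set.mem_inter_iff, Set.mem_compl_iff, Set.mem_empty_iff_false, iff_false, not_and]
    intro hq hq2
    apply hq
    rw [hU, Set.mem_ofPred_eq, flat_localizedModule_iff q.asIdeal (Localization.AtPrime q.asIdeal)]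
    exact h q.asIdeal hq2
  have htop : J ⊔ IR = ⊤ := by
    rwa [PrimeSpectrum.zeroLocus_empty_iff_eq_top] at hdisj
  obtain ⟨g, hg, i, hi, hgi⟩ := Submodule.mem_sup.mp ((Ideal.eq_top_iff_one _).mp htop)
  have hDg : ∀ q : PrimeSpectrum R, g ∉ q.asIdeal →
      Module.Flat A (LocalizedModule q.asIdeal.primeCompl R) := by
    intro q hq
    by_contra hcon
    have : q ∈ Uᶜ := hcon
    rw [hJ] at this
    exact hq (this hg)
  refine ⟨Localization.Away g, inferInstance, inferInstance, inferInstance, inferInstance,
    ?_, ?_, ?_⟩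
  · exact Algebra.Etale.of_isLocalizationAway g
  · constructor
    · rw [injective_iff_map_eq_zero]
      intro x hx
      obtain ⟨x, rfl⟩ := Ideal.Quotient.mk_surjective x
      rw [Ideal.quotientMap_mk, Ideal.Quotient.eq_zero_iff_mem] at hx
      rw [Ideal.Quotient.eq_zero_iff_mem]
      rw [IsLocalization.mem_map_algebraMap_iff (Submonoid.powers g)] at hx
      obtain ⟨⟨a, ⟨_, n, rfl⟩⟩, ha⟩ := hx
      simp only at ha
      rw [← map_mul] at ha
      obtain ⟨⟨_, m, rfl⟩, hm⟩ := (IsLocalization.eq_iff_exists (Submonoid.powers g) _).mp ha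
      simp only at hm
      -- `g^m * (x * g^n) ∈ IR`, `g ≡ 1`
      have h1 : g ^ m * (x * g ^ n) ∈ IR := by rw [hm]; exact Ideal.mul_mem_left _ _ a.2
      have h2 : ∀ k : ℕ, Ideal.Quotient.mk IR (g ^ k) = 1 := by
        intro k
        have : Ideal.Quotient.mk IR g = 1 := by
          rw [← map_one (Ideal.Quotient.mk IR), ← hgi, map_add,
            Ideal.Quotient.eq_zero_iff_mem.mpr hi, add_zero]
        rw [map_pow, this, one_pow]
      rw [← Ideal.Quotient.eq_zero_iff_mem, map_mul, map_mul, h2, h2, one_mul, mul_one] at h1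
      exact Ideal.Quotient.eq_zero_iff_mem.mp h1
    · intro y
      obtain ⟨y, rfl⟩ := Ideal.Quotient.mk_surjective y
      obtain ⟨x, ⟨_, n, rfl⟩, rfl⟩ := IsLocalization.exists_mk'_eq (Submonoid.powers g) y
      refine ⟨Ideal.Quotient.mk _ x, ?_⟩
      rw [Ideal.quotientMap_mk, Ideal.Quotient.eq]
      -- `x - x/g^n = (x/g^n) (g^n - 1)`
      have h3 : g ^ n - 1 ∈ IR := by
        have hg1 : g - 1 ∈ IR := by
          have : g - 1 = -i := by rw [← hgi]; ring
          rw [this]; exact IR.neg_mem hi
        have : g ^ n - 1 = (g - 1) * ∑ k ∈ Finset.range n, g ^ k := by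
          rw [mul_comm, geom_sum_mul]
        rw [this]; exact Ideal.mul_mem_right _ _ hg1
      have h4 : algebraMap R (Localization.Away g) x -
          IsLocalization.mk' (Localization.Away g) x (⟨g ^ n, n, rfl⟩ : Submonoid.powers g) =
          IsLocalization.mk' (Localization.Away g) x (⟨g ^ n, n, rfl⟩ : Submonoid.powers g) *
            algebraMap R (Localization.Away g) (g ^ n - 1) := by
        rw [map_sub, map_one, mul_sub, mul_one]
        congr 1
        exact (IsLocalization.mk'_spec (Localization.Away g) x
          (⟨g ^ n, n, rfl⟩ : Submonoid.powers g)).symm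
      rw [h4]
      exact Ideal.mul_mem_left _ _ (Ideal.mem_map_of_mem _ h3)
  · refine Module.flat_of_isLocalized_maximal (R := A) (Localization.Away g) (Localization.Away g)
      (fun P _ => Localization.AtPrime P)
      (fun P _ => Algebra.linearMap (Localization.Away g) (Localization.AtPrime P)) ?_
    intro P hP
    set p := P.comap (algebraMap R (Localization.Away g)) with hp
    haveI : IsLocalization.AtPrime (Localization.AtPrime P) p :=
      IsLocalization.isLocalization_isLocalization_atPrime_isLocalization (Submonoid.powers g)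
        (Localization.AtPrime P) P
    have hgp : g ∉ p := by
      intro hgp
      have h1 : algebraMap R (Localization.Away g) g ∈ P := hgp
      exact hP.ne_top (Ideal.eq_top_of_isUnit_mem _ h1 (IsLocalization.Away.algebraMap_isUnit g))
    have := hDg ⟨p, inferInstance⟩ hgp
    exact (flat_localizedModule_iff p (Localization.AtPrime P)).mp this

end Groth.Agent.Helper18HF
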