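import Mathlib
import Groth.Agent.Lib.Helper3FlatOpenFP
import Groth.Agent.Lib.Helper18HF
import Groth.Agent.Lib.Helper26PairHzMore
import Groth.Agent.Lib.Helper12Flat
set_option linter.style.haveILetI false

universe u

namespace Groth.Agent.Helper18HF2

open Groth.Agent.Lib.Helper3.FlatOpen Groth.Agent.Helper18HF Groth.Agent.Lib.Helper26.PairHz

/-- If `R` is flat over `A` along `V(IR)` then some principal localization `R_g`, `g ≡ 1`
modulo `IR`, is flat over `A`. -/
theorem exists_away (A : Type u) [CommRing A] (I : Ideal A)
    (R : Type u) [CommRing R] [Algebra A R] [Algebra.FinitePresentation A R]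
    (h : ∀ (p : Ideal R) [p.IsPrime], I.map (algebraMap A R) ≤ p →
      Module.Flat A (Localization.AtPrime p)) :
    ∃ g : R, 1 - g ∈ I.map (algebraMap A R) ∧ Module.Flat A (Localization.Away g) := by
  classical
  set IR := I.map (algebraMap A R) with hIR
  have hopen := isOpen_flatLocus_of_finitePresentation (R := A) (S := R) (M := R)
  set U := {q : PrimeSpectrum R | Module.Flat A (LocalizedModule q.asIdeal.primeCompl R)} with hU
  obtain ⟨J, hJ⟩ := (PrimeSpectrum.isClosed_iff_zeroLocus_ideal _).mp hopen.isClosed_compl
  have hdisj : PrimeSpectrum.zeroLocus ((J ⊔ IR : Ideal R) : Set R) = ∅ := by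
    rw [PrimeSpectrum.zeroLocus_sup, ← hJ]
    ext q
    simp only [Set.mem_inter_iff, Set.mem_compl_iff, Set.mem_empty_iff_false, iff_false, not_and]
    intro hq hq2
    apply hq
    rw [hU, Set.mem_ofPred_eq, flat_localizedModule_iff q.asIdeal (Localization.AtPrime q.asIdeal)]
    exact h q.asIdeal hq2
  have htop : J ⊔ IR = ⊤ := by
    rwa [PrimeSpectrum.zeroLocus_empty_iff_eq_top] at hdisj
  obtain ⟨g, hg, i, hi, hgi⟩ := Submodule.mem_sup.mp ((Ideal.eq_top_iff_one _).mp htop)
  have hDg : ∀ q : PrimeSpectrum R, g ∉ q.asIdeal →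
      Module.Flat A (LocalizedModule q.asIdeal.primeCompl R) := by
    intro q hq
    by_contra hcon
    have : q ∈ Uᶜ := hcon
    rw [hJ] at this
    exact hq (this hg)
  refine ⟨g, ?_, ?_⟩
  · have : 1 - g = i := by rw [← hgi]; ring
    rw [this]; exact hi
  · refine Module.flat_of_isLocalized_maximal (R := A) (Localization.Away g) (Localization.Away g)
      (fun P _ => Localization.AtPrime P)
      (fun P _ => Algebra.linearMap (Localization.Away g) (Localization.AtPrime P)) ?_
    intro P hP
    set p := P.comap (algebraMap R (Localization.Away g)) with hp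
    haveI : IsLocalization.AtPrime (Localization.AtPrime P) p :=
      IsLocalization.isLocalization_isLocalization_atPrime_isLocalization (Submonoid.powers g)
        (Localization.AtPrime P) P
    have hgp : g ∉ p := by
      intro hgp
      have h1 : algebraMap R (Localization.Away g) g ∈ P := hgp
      exact hP.ne_top (Ideal.eq_top_of_isUnit_mem _ h1 (IsLocalization.Away.algebraMap_isUnit g))
    have := hDg ⟨p, inferInstance⟩ hgp
    exact (flat_localizedModule_iff p (Localization.AtPrime P)).mp this

section hz
variable {A : Type u} [CommRing A] {I : Ideal A}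
  {R : Type u} [CommRing R] [Algebra A R]
  {B : Type u} [CommRing B] [Algebra R B] [Algebra A B] [IsScalarTower A R B]

omit [Algebra A B] [IsScalarTower A R B] in
/-- Every prime of `R` containing `IR` is the contraction of a prime of a henselization `B`. -/
theorem exists_prime_over (hB : Hens2.IsPairHenselization R (I.map (algebraMap A R)) B)
    (p : Ideal R) [p.IsPrime] (hp : I.map (algebraMap A R) ≤ p) :
    ∃ Q : Ideal B, Q.IsPrime ∧ Q.comap (algebraMap R B) = p := by
  set IR := I.map (algebraMap A R) with hIR
  have hbij := quotientMap_pow_bijective hB 1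
  set K := (IR ^ 1).map (algebraMap R B) with hK
  let ψ : R →+* B ⧸ K := (Ideal.Quotient.mk K).comp (algebraMap R B)
  have hψ : ψ = (Ideal.quotientMap K (algebraMap R B) Ideal.le_comap_map).comp
      (Ideal.Quotient.mk (IR ^ 1)) := by
    ext r; simp [ψ]
  have hψs : Function.Surjective ψ := by
    rw [hψ]; exact hbij.2.comp Ideal.Quotient.mk_surjective
  have hker : RingHom.ker ψ ≤ p := by
    intro x hx
    rw [RingHom.mem_ker, hψ, RingHom.comp_apply] at hx
    have := (injective_iff_map_eq_zero _).mp hbij.1 _ hx
    rw [Ideal.Quotient.eq_zero_iff_mem, pow_one] at this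
    exact hp this
  have hprime : (p.map ψ).IsPrime := Ideal.map_isPrime_of_surjective hψs hker
  refine ⟨(p.map ψ).comap (Ideal.Quotient.mk K), inferInstance, ?_⟩
  rw [Ideal.comap_comap]
  change (p.map ψ).comap ψ = p
  rw [Ideal.comap_map_of_surjective' ψ hψs]
  exact sup_eq_left.mpr hker

/-- `R` is flat over `A` along `V(IR)` when a henselization of `(R, IR)` is flat over `A`. -/
theorem flat_atPrime (hB : Hens2.IsPairHenselization R (I.map (algebraMap A R)) B)
    [Module.Flat A B] (p : Ideal R) [p.IsPrime] (hp : I.map (algebraMap A R) ≤ p) :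
    Module.Flat A (Localization.AtPrime p) := by
  obtain ⟨Q, hQ, hQp⟩ := exists_prime_over hB p hp
  haveI : Q.LiesOver p := ⟨hQp.symm⟩
  letI := Localization.AtPrime.algebraOfLiesOver p Q
  haveI : Module.Flat R B := flat_of_isPairHenselization hB
  haveI : Module.Flat (Localization.AtPrime p) (Localization.AtPrime Q) := inferInstance
  haveI : IsLocalHom (algebraMap (Localization.AtPrime p) (Localization.AtPrime Q)) := by
    rw [Localization.AtPrime.IsLiesOverAlgebra.algebraMap_eq]
    exact Localization.isLocalHom_localRingHom _ _ _ _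
  haveI : Module.FaithfullyFlat (Localization.AtPrime p) (Localization.AtPrime Q) :=
    Module.FaithfullyFlat.of_flat_of_isLocalHom
  haveI : Module.Flat A (Localization.AtPrime Q) := Module.Flat.trans A B _
  exact Groth.Agent.Lib.Helper12.flat_of_faithfullyFlat_of_flat_comp A (Localization.AtPrime p)
    (Localization.AtPrime Q)

end hz


theorem main615 (A : Type u) [CommRing A] (I : Ideal A)
    (R₀ : Type u) [CommRing R₀] [Algebra A R₀] [Algebra.FinitePresentation A R₀]
    (B : Type u) [CommRing B] [Algebra R₀ B] [Algebra A B] [IsScalarTower A R₀ B]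
    (hB : Hens2.IsPairHenselization R₀ (I.map (algebraMap A R₀)) B) [Module.Flat A B] :
    ∃ (S : Type u) (_ : CommRing S) (_ : Algebra A S) (_ : Algebra S B) (_ : IsScalarTower A S B),
      Algebra.FinitePresentation A S ∧ Module.Flat A S ∧
      Hens2.IsPairHenselization S (I.map (algebraMap A S)) B := by
  obtain ⟨g, hg, hflat⟩ := exists_away A I R₀ (fun p _ hp => flat_atPrime hB p hp)
  -- `g` is a unit in `B`
  have hjac := hB.1.jac
  have hunit : IsUnit (algebraMap R₀ B g) := by
    have h1 : algebraMap R₀ B (1 - g) ∈ Ideal.jacobson (⊥ : Ideal B) :=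
      hjac (Ideal.mem_map_of_mem _ hg)
    have h2 := Ideal.mem_jacobson_bot.mp h1 (-1)
    have : algebraMap R₀ B (1 - g) * -1 + 1 = algebraMap R₀ B g := by
      rw [map_sub, map_one]; ring
    rwa [this] at h2
  letI : Algebra (Localization.Away g) B := (IsLocalization.Away.lift g hunit).toAlgebra
  haveI : IsScalarTower R₀ (Localization.Away g) B :=
    .of_algebraMap_eq' (IsLocalization.Away.lift_comp g hunit).symm
  haveI : IsScalarTower A (Localization.Away g) B := by
    refine .of_algebraMap_eq' ?_
    rw [IsScalarTower.algebraMap_eq A R₀ B, IsScalarTower.algebraMap_eq R₀ (Localization.Away g) B,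
      RingHom.comp_assoc, ← IsScalarTower.algebraMap_eq A R₀ (Localization.Away g)]
  have hC : IsNbhd (I.map (algebraMap A R₀)) (Localization.Away g) :=
    IsNbhd.away _ g hg _
  have hP := isPairHenselization_of_nbhd hB hC
  rw [map_map_tower] at hP
  haveI : Algebra.FinitePresentation R₀ (Localization.Away g) :=
    IsLocalization.Away.finitePresentation g
  exact ⟨Localization.Away g, inferInstance, inferInstance, inferInstance, inferInstance,
    Algebra.FinitePresentation.trans A R₀ _, hflat, hP⟩

end Groth.Agent.Helper18HF2
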