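import Mathlib
import Groth.Agent.Lib.Helper18HF2
import Groth.Agent.Lib.Helper20SmoothFiber
set_option linter.style.haveILetI false

universe u

namespace Groth.Agent.Helper18HF3

open Groth.Agent.Helper18HF Groth.Agent.Helper18HF2 Groth.Agent.Lib.Helper26.PairHz TensorProduct

/-- An open set containing `V(J)` contains some `D(g)` with `g ≡ 1` mod `J`. -/
theorem exists_away_of_isOpen {S : Type u} [CommRing S] (J : Ideal S)
    (U : Set (PrimeSpectrum S)) (hU : IsOpen U)
    (hJU : ∀ q : PrimeSpectrum S, J ≤ q.asIdeal → q ∈ U) :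
    ∃ g : S, 1 - g ∈ J ∧ ∀ q : PrimeSpectrum S, g ∉ q.asIdeal → q ∈ U := by
  obtain ⟨K, hK⟩ := (PrimeSpectrum.isClosed_iff_zeroLocus_ideal _).mp hU.isClosed_compl
  have hdisj : PrimeSpectrum.zeroLocus ((K ⊔ J : Ideal S) : Set S) = ∅ := by
    rw [PrimeSpectrum.zeroLocus_sup, ← hK]
    ext q
    simp only [Set.mem_inter_iff, Set.mem_compl_iff, Set.mem_empty_iff_false, iff_false, not_and]
    intro hq hq2
    exact hq (hJU q hq2)
  have htop : K ⊔ J = ⊤ := by
    rwa [PrimeSpectrum.zeroLocus_empty_iff_eq_top] at hdisj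
  obtain ⟨g, hg, i, hi, hgi⟩ := Submodule.mem_sup.mp ((Ideal.eq_top_iff_one _).mp htop)
  refine ⟨g, ?_, ?_⟩
  · have : 1 - g = i := by rw [← hgi]; ring
    rw [this]; exact hi
  · intro q hq
    by_contra hcon
    have : q ∈ Uᶜ := hcon
    rw [hK] at this
    exact hq (this hg)

/-- A henselization of `(S, IS)` is a henselization of `(S_g, IS_g)` for `g ≡ 1`. -/
theorem hens_away {A : Type u} [CommRing A] {I : Ideal A}
    {S : Type u} [CommRing S] [Algebra A S]
    {B : Type u} [CommRing B] [Algebra S B] [Algebra A B] [IsScalarTower A S B]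
    (hB : Hens2.IsPairHenselization S (I.map (algebraMap A S)) B)
    (g : S) (hg : 1 - g ∈ I.map (algebraMap A S)) :
    ∃ (_ : Algebra (Localization.Away g) B) (_ : IsScalarTower A (Localization.Away g) B),
      Hens2.IsPairHenselization (Localization.Away g)
        (I.map (algebraMap A (Localization.Away g))) B := by
  have hjac := hB.1.jac
  have hunit : IsUnit (algebraMap S B g) := by
    have h1 : algebraMap S B (1 - g) ∈ Ideal.jacobson (⊥ : Ideal B) :=
      hjac (Ideal.mem_map_of_mem _ hg)
    have h2 := Ideal.mem_jacobson_bot.mp h1 (-1)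
    have : algebraMap S B (1 - g) * -1 + 1 = algebraMap S B g := by
      rw [map_sub, map_one]; ring
    rwa [this] at h2
  letI : Algebra (Localization.Away g) B := (IsLocalization.Away.lift g hunit).toAlgebra
  haveI : IsScalarTower S (Localization.Away g) B :=
    .of_algebraMap_eq' (IsLocalization.Away.lift_comp g hunit).symm
  haveI : IsScalarTower A (Localization.Away g) B := by
    refine .of_algebraMap_eq' ?_
    rw [IsScalarTower.algebraMap_eq A S B, IsScalarTower.algebraMap_eq S (Localization.Away g) B,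
      RingHom.comp_assoc, ← IsScalarTower.algebraMap_eq A S (Localization.Away g)]
  have hC : IsNbhd (I.map (algebraMap A S)) (Localization.Away g) :=
    IsNbhd.away _ g hg _
  have hP := isPairHenselization_of_nbhd hB hC
  rw [map_map_tower] at hP
  exact ⟨inferInstance, inferInstance, hP⟩


/-- The fibre of `S` at a prime `p ⊇ J` is smooth if `S/JS` is smooth over `A/J`. -/
theorem smooth_fiber {A : Type u} [CommRing A] (J : Ideal A) {S : Type u} [CommRing S]
    [Algebra A S] [Algebra.Smooth (A ⧸ J) (S ⧸ J.map (algebraMap A S))]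
    (p : Ideal A) [p.IsPrime] (hp : J ≤ p) :
    Algebra.Smooth p.ResidueField (p.Fiber S) := by
  haveI : Algebra.Smooth (A ⧸ J) ((A ⧸ J) ⊗[A] S) :=
    Algebra.Smooth.of_equiv (Algebra.TensorProduct.quotIdealMapEquivQuotTensor S J)
  letI : Algebra (A ⧸ J) p.ResidueField :=
    (Ideal.Quotient.lift J (algebraMap A p.ResidueField) (fun a ha => by
      rw [Ideal.algebraMap_residueField_eq_zero]; exact hp ha)).toAlgebra
  haveI : IsScalarTower A (A ⧸ J) p.ResidueField := .of_algebraMap_eq' rfl
  haveI : Algebra.Smooth p.ResidueField (p.ResidueField ⊗[A ⧸ J] ((A ⧸ J) ⊗[A] S)) :=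
    inferInstance
  exact Algebra.Smooth.of_equiv
    (Algebra.TensorProduct.cancelBaseChange A (A ⧸ J) p.ResidueField p.ResidueField S)


attribute [local instance] Algebra.TensorProduct.rightAlgebra in
open Groth.Agent.Lib.Helper20.SmoothFiber in
/-- `S` is smooth over `A` at the primes of `V(IS)` where it is flat, if `B/IB` is smooth over
`A/I` for a henselization `B` of `(S, IS)`. -/
theorem isSmoothAt_of_hens {A : Type u} [CommRing A] {I : Ideal A}
    {S : Type u} [CommRing S] [Algebra A S] [Algebra.FinitePresentation A S]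
    {B : Type u} [CommRing B] [Algebra S B] [Algebra A B] [IsScalarTower A S B]
    (hB : Hens2.IsPairHenselization S (I.map (algebraMap A S)) B)
    (het1 : Algebra.Smooth (A ⧸ I ^ 1) (B ⧸ (I ^ 1).map (algebraMap A B)))
    (q : Ideal S) [q.IsPrime] (hq : I.map (algebraMap A S) ≤ q)
    (hflat : Module.Flat A (Localization.AtPrime q)) : Algebra.IsSmoothAt A q := by
  obtain ⟨e⟩ := nonempty_algEquiv_quotient_pow I hB 1
  haveI : Algebra.Smooth (A ⧸ I ^ 1) (S ⧸ (I ^ 1).map (algebraMap A S)) :=
    Algebra.Smooth.of_equiv e.symm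
  set p := q.comap (algebraMap A S) with hpdef
  have hp : I ^ 1 ≤ p := by
    rw [pow_one]; exact Ideal.map_le_iff_le_comap.mp hq
  haveI := smooth_fiber (I ^ 1) (S := S) p hp
  let x : (PrimeSpectrum.comap (algebraMap A S)) ⁻¹' {(⟨p, inferInstance⟩ : PrimeSpectrum A)} :=
    ⟨⟨q, inferInstance⟩, rfl⟩
  let q' : PrimeSpectrum (p.Fiber S) := PrimeSpectrum.preimageEquivFiber A S ⟨p, inferInstance⟩ x
  have hq' : q'.asIdeal.comap (algebraMap S (p.Fiber S)) = q := by
    have h1 := (PrimeSpectrum.preimageEquivFiber A S ⟨p, inferInstance⟩).symm_apply_apply x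
    have h2 := congrArg (fun y => y.1.asIdeal) h1
    exact h2
  have hs : Algebra.IsSmoothAt p.ResidueField q'.asIdeal := by
    have h1 := Algebra.smoothLocus_eq_univ (R := p.ResidueField) (A := p.Fiber S)
    have h2 : q' ∈ Algebra.smoothLocus p.ResidueField (p.Fiber S) := by rw [h1]; trivial
    exact h2
  have key : ∀ (r : Ideal S) [r.IsPrime], r = q →
      Module.Flat A (Localization.AtPrime q) → Module.Flat A (Localization.AtPrime r) := by
    intro r _ h; subst h; exact id
  have key2 : ∀ (r : Ideal S) [r.IsPrime], r = q →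
      Algebra.IsSmoothAt A r → Algebra.IsSmoothAt A q := by
    intro r _ h; subst h; exact id
  exact key2 _ hq' (isSmoothAt_of_flat_of_isSmoothAt_fiber p q'.asIdeal (key _ hq' hflat) hs)


theorem main601 (A : Type u) [CommRing A] (I : Ideal A)
    (R₀ : Type u) [CommRing R₀] [Algebra A R₀] [Algebra.FinitePresentation A R₀]
    (B : Type u) [CommRing B] [Algebra R₀ B] [Algebra A B] [IsScalarTower A R₀ B]
    (hB : Hens2.IsPairHenselization R₀ (I.map (algebraMap A R₀)) B) [Module.Flat A B]
    (het : ∀ r : ℕ, 1 ≤ r → Algebra.Smooth (A ⧸ I ^ r) (B ⧸ (I ^ r).map (algebraMap A B))) :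
    ∃ (R : Type u) (_ : CommRing R) (_ : Algebra A R) (_ : Algebra R B) (_ : IsScalarTower A R B),
      Algebra.Smooth A R ∧ Hens2.IsPairHenselization R (I.map (algebraMap A R)) B := by
  obtain ⟨S, iS1, iS2, iS3, iS4, hfp, hflatS, hP⟩ := main615 A I R₀ B hB
  have hopen : IsOpen (Algebra.smoothLocus A S) := Algebra.isOpen_smoothLocus
  have hV : ∀ q : PrimeSpectrum S, I.map (algebraMap A S) ≤ q.asIdeal →
      q ∈ Algebra.smoothLocus A S := by
    intro q hq
    have hfl : Module.Flat A (Localization.AtPrime q.asIdeal) := Module.Flat.trans A S _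
    exact isSmoothAt_of_hens hP (het 1 le_rfl) q.asIdeal hq hfl
  obtain ⟨g, hg, hgU⟩ := exists_away_of_isOpen (I.map (algebraMap A S)) _ hopen hV
  have hsm : Algebra.Smooth A (Localization.Away g) := by
    rw [← Algebra.basicOpen_subset_smoothLocus_iff_smooth]
    intro q hq
    exact hgU q hq
  obtain ⟨i1, i2, hP'⟩ := hens_away hP g hg
  exact ⟨Localization.Away g, inferInstance, inferInstance, i1, i2, hsm, hP'⟩

end Groth.Agent.Helper18HF3
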