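import Groth.Prelude.Def_W4c2invhilbsl2HJ
import Mathlib

set_option autoImplicit false
universe u

namespace Groth.Agent.Lib.Helper18HJ

open W4c2invhilbsl2


/-- The general linear recursion behind `hjP`, `hjQ`. -/
def hjS (c : List ℤ) (x0 x1 : ℤ) : ℕ → ℤ
  | 0 => x0
  | 1 => x1
  | i + 2 => c.getD i 0 * hjS c x0 x1 (i + 1) - hjS c x0 x1 i

theorem hjS_lin (c : List ℤ) (x0 x1 : ℤ) :
    ∀ i, hjS c x0 x1 i = x1 * hjP c i - x0 * hjQ c i
  | 0 => by simp [hjS, hjP, hjQ]
  | 1 => by simp [hjS, hjP, hjQ]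
  | i + 2 => by
      rw [hjS, hjP, hjQ, hjS_lin c x0 x1 (i + 1), hjS_lin c x0 x1 i]
      ring

theorem hjS_shift (a : ℤ) (l : List ℤ) (x0 x1 : ℤ) :
    ∀ i, hjS (a :: l) x0 x1 (i + 1) = hjS l x1 (a * x1 - x0) i
  | 0 => by simp [hjS]
  | 1 => by simp [hjS]
  | i + 2 => by
      rw [hjS, hjS_shift a l x0 x1 (i + 1), hjS_shift a l x0 x1 i]
      conv_rhs => rw [hjS]
      simp

theorem hjP_eq_hjS (c : List ℤ) (i : ℕ) : hjP c i = hjS c 0 1 i := by
  rw [hjS_lin]; ring

theorem hjQ_eq_hjS (c : List ℤ) (i : ℕ) : hjQ c i = hjS c (-1) 0 i := by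
  rw [hjS_lin]; ring

theorem hjP_cons (a : ℤ) (l : List ℤ) (i : ℕ) :
    hjP (a :: l) (i + 1) = a * hjP l i - hjQ l i := by
  rw [hjP_eq_hjS, hjS_shift, hjS_lin]; ring

theorem hjQ_cons (a : ℤ) (l : List ℤ) (i : ℕ) :
    hjQ (a :: l) (i + 1) = hjP l i := by
  rw [hjQ_eq_hjS, hjS_shift, hjS_lin]; ring

/-- determinant identity -/
theorem hj_det (c : List ℤ) : ∀ i, hjP c i * hjQ c (i + 1) - hjP c (i + 1) * hjQ c i = 1
  | 0 => by simp [hjP, hjQ]
  | i + 1 => by
      have := hj_det c i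
      rw [show i + 1 + 1 = i + 2 from rfl, hjP, hjQ]
      linear_combination this

/-- numerator and denominator of the full fraction -/
def hjN (l : List ℤ) : ℤ := hjP l (l.length + 1)
def hjD (l : List ℤ) : ℤ := hjQ l (l.length + 1)

theorem hjN_nil : hjN [] = 1 := by simp [hjN, hjP]
theorem hjD_nil : hjD [] = 0 := by simp [hjD, hjQ]
theorem hjN_cons (a : ℤ) (l : List ℤ) : hjN (a :: l) = a * hjN l - hjD l := by
  simp only [hjN, hjD, List.length_cons]
  exact hjP_cons a l _
theorem hjD_cons (a : ℤ) (l : List ℤ) : hjD (a :: l) = hjN l := by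
  simp only [hjN, hjD, List.length_cons]
  exact hjQ_cons a l _

theorem hjN_gt_hjD : ∀ (l : List ℤ), (∀ x ∈ l, (2 : ℤ) ≤ x) → 0 ≤ hjD l ∧ hjD l < hjN l
  | [], _ => by simp [hjN_nil, hjD_nil]
  | a :: l, h => by
      have ha : (2 : ℤ) ≤ a := h a (by simp)
      obtain ⟨h0, h1⟩ := hjN_gt_hjD l (fun x hx => h x (by simp [hx]))
      rw [hjN_cons, hjD_cons]
      constructor
      · linarith
      · nlinarith

theorem hjD_pos_of_ne_nil : ∀ (l : List ℤ), (∀ x ∈ l, (2 : ℤ) ≤ x) → l ≠ [] → 0 < hjD l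
  | [], _, h => absurd rfl h
  | a :: l, h, _ => by
      obtain ⟨h0, h1⟩ := hjN_gt_hjD l (fun x hx => h x (by simp [hx]))
      rw [hjD_cons]; linarith

theorem hjVal_eq : ∀ (l : List ℤ), (∀ x ∈ l, (2 : ℤ) ≤ x) →
    HJFrac.hjVal l = (hjN l : ℚ) / (hjD l : ℚ)
  | [], _ => by simp [HJFrac.hjVal, hjD_nil]
  | a :: l, h => by
      obtain ⟨h0, h1⟩ := hjN_gt_hjD l (fun x hx => h x (by simp [hx]))
      have hN : (hjN l : ℚ) ≠ 0 := by
        have : (0 : ℤ) < hjN l := by linarith
        exact_mod_cast this.ne'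
      rw [HJFrac.hjVal, hjVal_eq l (fun x hx => h x (by simp [hx])), hjN_cons, hjD_cons, inv_div]
      push_cast
      field_simp

theorem hjN_coprime_hjD : ∀ (l : List ℤ), IsCoprime (hjN l) (hjD l)
  | [] => by rw [hjN_nil, hjD_nil]; exact isCoprime_one_left
  | a :: l => by
      have h := hjN_coprime_hjD l
      rw [hjN_cons, hjD_cons]
      have h2 : IsCoprime (-hjD l + a * hjN l) (hjN l) :=
        IsCoprime.add_mul_right_left h.symm.neg_left a
      have e : a * hjN l - hjD l = -hjD l + a * hjN l := by ring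
      rw [e]; exact h2



section arith
variable (p q m : ℕ)

theorem gcdK_pos (hm : 0 < m) : 0 < gcdK p q m := Nat.gcd_pos_of_pos_left _ hm

theorem gcdK_mul_bB : gcdK p q m * bB p q m = q - p :=
  Nat.mul_div_cancel' (Nat.gcd_dvd_right m (q - p))

theorem gcdK_dvd_beta : gcdK p q m ∣ m * p % (q - p) := by
  unfold gcdK
  rw [Nat.dvd_mod_iff (Nat.gcd_dvd_right m (q - p))]
  exact Dvd.dvd.mul_right (Nat.gcd_dvd_left m (q - p)) p

theorem gcdK_mul_tT : gcdK p q m * tT p q m = q - p - m * p % (q - p) :=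
  Nat.mul_div_cancel' (Nat.dvd_sub (Nat.gcd_dvd_right m (q - p)) (gcdK_dvd_beta p q m))

theorem alpha_eq : (q - p) * alpha p q m + m * p % (q - p) = m * p :=
  Nat.div_add_mod (m * p) (q - p)

theorem beta_lt (hpq : p < q) : m * p % (q - p) < q - p := Nat.mod_lt _ (by omega)

theorem bB_pos (hpq : p < q) : 0 < bB p q m := by
  have h := gcdK_mul_bB p q m
  rcases Nat.eq_zero_or_pos (bB p q m) with h0 | h0
  · rw [h0, mul_zero] at h; omega
  · exact h0

theorem tT_pos (hpq : p < q) : 0 < tT p q m := by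
  have h := gcdK_mul_tT p q m
  have hb := beta_lt p q m hpq
  rcases Nat.eq_zero_or_pos (tT p q m) with h0 | h0
  · rw [h0, mul_zero] at h; omega
  · exact h0

theorem coprime_bB_tT (hpq : p < q) (hcop : Nat.Coprime p q) (hm : 0 < m) :
    Nat.Coprime (bB p q m) (tT p q m) := by
  have hb := beta_lt p q m hpq
  have hg : (q - p).gcd (q - p - m * p % (q - p)) = gcdK p q m := by
    rw [Nat.gcd_self_sub_right hb.le, Nat.gcd_comm, ← Nat.gcd_rec]
    have hcop' : Nat.Coprime p (q - p) := by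
      have : Nat.Coprime p (q - p) := by
        rw [Nat.coprime_sub_self_right hpq.le]
        exact hcop
      exact this
    rw [Nat.Coprime.gcd_mul_right_cancel_right m hcop', Nat.gcd_comm]
    rfl
  have hpos := gcdK_pos p q m hm
  have hdvd := gcdK_dvd_beta p q m
  unfold gcdK at hg hpos hdvd
  unfold Nat.Coprime
  unfold bB tT gcdK
  rw [Nat.gcd_div (Nat.gcd_dvd_right m (q - p))
    (Nat.dvd_sub (Nat.gcd_dvd_right m (q - p)) hdvd), hg]
  exact Nat.div_self hpos

end arith



/-- Pure inequality lemma: no lattice point in the box. -/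
theorem box (P' P T' T l μ : ℤ) (hP' : 0 ≤ P') (hP : P' < P) (hT : 0 ≤ T) (hT' : T < T')
    (hx0 : 0 < l * P' + μ * P) (hx1 : l * P' + μ * P < P) (hy : 0 ≤ l * T' + μ * T) :
    T' ≤ l * T' + μ * T := by
  rcases le_or_gt 1 l with hl | hl
  · rcases le_or_gt 0 μ with hμ | hμ
    · nlinarith
    · -- μ ≤ -1
      have h1 : -μ + 1 ≤ l := by
        by_contra hcon
        rw [not_le] at hcon
        have h2 : l ≤ -μ := by omega
        have h3 : l * P' ≤ -μ * P' := mul_le_mul_of_nonneg_right h2 hP'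
        have h4 : -μ * P' ≤ -μ * P := mul_le_mul_of_nonneg_left hP.le (by omega)
        nlinarith
      have h5 : (-μ + 1) * T' ≤ l * T' := mul_le_mul_of_nonneg_right h1 (by linarith)
      have h6 : 0 ≤ -μ * (T' - T) := mul_nonneg (by omega) (by linarith)
      nlinarith
  · -- l ≤ 0
    have hl0 : l ≤ 0 := by omega
    rcases le_or_gt μ 0 with hμ | hμ
    · exfalso
      have h1 : l * P' ≤ 0 := mul_nonpos_of_nonpos_of_nonneg hl0 hP'
      have h2 : μ * P ≤ 0 := mul_nonpos_of_nonpos_of_nonneg hμ (by linarith)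
      linarith
    · exfalso
      have hPpos : 0 < P := by linarith
      -- μ ≤ -l
      have h1 : μ ≤ -l := by
        by_contra hcon
        rw [not_le] at hcon
        have h2 : -l ≤ μ - 1 := by omega
        have h3 : -l * P' ≤ -l * P := mul_le_mul_of_nonneg_left hP.le (by omega)
        have h4 : -l * P ≤ (μ - 1) * P := mul_le_mul_of_nonneg_right h2 hPpos.le
        nlinarith
      have hlneg : l ≤ -1 := by omega
      have h5 : μ * T ≤ -l * T := mul_le_mul_of_nonneg_right h1 hT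
      have h6 : l * (T' - T) ≤ -1 * (T' - T) := mul_le_mul_of_nonneg_right hlneg (by linarith)
      nlinarith



/-- `tᵢ = t Pᵢ - b Qᵢ` -/
def tt (c : List ℤ) (b t : ℤ) (i : ℕ) : ℤ := t * hjP c i - b * hjQ c i

section abstract
variable (c : List ℤ) (b t : ℤ)

theorem tt_zero : tt c b t 0 = b := by simp [tt, hjP, hjQ]
theorem tt_one : tt c b t 1 = t := by simp [tt, hjP, hjQ]
theorem tt_succ_succ (i : ℕ) :
    tt c b t (i + 2) = c.getD i 0 * tt c b t (i + 1) - tt c b t i := by
  simp only [tt, hjP, hjQ]; ring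

theorem tt_det (i : ℕ) :
    hjP c i * tt c b t (i + 1) - hjP c (i + 1) * tt c b t i = -b := by
  have := hj_det c i
  simp only [tt]
  linear_combination (-b) * this

variable (hdig : ∀ x ∈ c, (2 : ℤ) ≤ x)
  (hN : hjP c (c.length + 1) = b) (hD : hjQ c (c.length + 1) = t)

include hN hD in
theorem tt_last : tt c b t (c.length + 1) = 0 := by
  simp only [tt, hN, hD]; ring

include hN hD in
theorem tt_length : tt c b t c.length = 1 := by
  have := hj_det c c.length
  rw [hN, hD] at this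
  simp only [tt]
  linear_combination this

theorem getD_ge_two (hdig : ∀ x ∈ c, (2 : ℤ) ≤ x) {i : ℕ} (hi : i < c.length) :
    (2 : ℤ) ≤ c.getD i 0 := by
  rw [List.getD_eq_getElem _ _ hi]
  exact hdig _ (List.getElem_mem hi)

include hdig hN hD in
/-- `t` is strictly decreasing and non-negative on `0..r+1`. -/
theorem tt_anti : ∀ j i : ℕ, i + j = c.length →
    0 ≤ tt c b t (i + 1) ∧ tt c b t (i + 1) < tt c b t i := by
  intro j
  induction j with
  | zero =>
    intro i hi
    have hi' : i = c.length := by omega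
    subst hi'
    rw [tt_last c b t hN hD, tt_length c b t hN hD]
    simp
  | succ j ih =>
    intro i hi
    obtain ⟨h0, h1⟩ := ih (i + 1) (by omega)
    have hc := getD_ge_two c hdig (i := i) (by omega)
    have hrec := tt_succ_succ c b t i
    constructor
    · linarith
    · nlinarith

include hdig hN hD in
theorem tt_anti' {i : ℕ} (hi : i ≤ c.length) :
    0 ≤ tt c b t (i + 1) ∧ tt c b t (i + 1) < tt c b t i :=
  tt_anti c b t hdig hN hD (c.length - i) i (by omega)

include hdig in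
theorem hjP_mono : ∀ i : ℕ, i ≤ c.length → 0 ≤ hjP c i ∧ hjP c i + 1 ≤ hjP c (i + 1)
  | 0, _ => by simp [hjP]
  | i + 1, hi => by
      obtain ⟨h0, h1⟩ := hjP_mono i (by omega)
      have hc := getD_ge_two c hdig (i := i) (by omega)
      have hrec : hjP c (i + 2) = c.getD i 0 * hjP c (i + 1) - hjP c i := by rw [hjP]
      constructor
      · linarith
      · rw [show i + 1 + 1 = i + 2 from rfl, hrec]
        nlinarith

include hdig hN hD in
/-- The key lattice statement: a lattice point `(x, y)`, `y = t x + b k`, with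
`0 < x < P_{i+1}` and `0 ≤ y` has `t_i ≤ y` (for `i + 1 ≤ r`). -/
theorem lattice_lower {i : ℕ} (hi : i + 1 ≤ c.length) (x y k : ℤ) (hy : y = t * x + b * k)
    (hx0 : 0 < x) (hx1 : x < hjP c (i + 1)) (hy0 : 0 ≤ y) : tt c b t i ≤ y := by
  set l : ℤ := k * hjP c (i + 1) + x * hjQ c (i + 1) with hl
  set μ : ℤ := -(k * hjP c i + x * hjQ c i) with hμ
  have hdet := hj_det c i
  have ex : l * hjP c i + μ * hjP c (i + 1) = x := by
    rw [hl, hμ]; linear_combination x * hdet
  have ey : l * tt c b t i + μ * tt c b t (i + 1) = y := by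
    rw [hl, hμ, hy]; simp only [tt]; linear_combination (b * k + t * x) * hdet
  obtain ⟨hP0, hP1⟩ := hjP_mono c hdig i (by omega)
  obtain ⟨hT0, hT1⟩ := tt_anti' c b t hdig hN hD (i := i) (by omega)
  have := box (hjP c i) (hjP c (i + 1)) (tt c b t i) (tt c b t (i + 1)) l μ hP0 (by linarith)
    hT0 hT1 (by rw [ex]; exact hx0) (by rw [ex]; exact hx1) (by rw [ey]; exact hy0)
  rw [ey] at this
  exact this

end abstract


section concrete
variable (p q m : ℕ) (c : List ℤ)

theorem hj_last (hpq : p < q) (hcop : Nat.Coprime p q) (hm : 0 < m)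
    (hc : IsHJDigits p q m c) :
    hjP c (c.length + 1) = bB p q m ∧ hjQ c (c.length + 1) = tT p q m := by
  obtain ⟨hdig, hval⟩ := hc
  have hb := bB_pos p q m hpq
  have ht := tT_pos p q m hpq
  have hne : c ≠ [] := by
    rintro rfl
    rw [HJFrac.hjVal] at hval
    have hb' : (bB p q m : ℚ) ≠ 0 := by exact_mod_cast hb.ne'
    have ht' : (tT p q m : ℚ) ≠ 0 := by exact_mod_cast ht.ne'
    exact (div_ne_zero hb' ht') hval.symm
  have hD := hjD_pos_of_ne_nil c hdig hne
  rw [hjVal_eq c hdig] at hval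
  have hval' : ((hjN c : ℤ) : ℚ) / ((hjD c : ℤ) : ℚ) =
      (((bB p q m : ℕ) : ℤ) : ℚ) / (((tT p q m : ℕ) : ℤ) : ℚ) := by
    rw [hval]; push_cast; rfl
  have h1 : Nat.Coprime (hjN c).natAbs (hjD c).natAbs := by
    exact Int.isCoprime_iff_gcd_eq_one.mp (hjN_coprime_hjD c)
  have h2 : Nat.Coprime ((bB p q m : ℕ) : ℤ).natAbs ((tT p q m : ℕ) : ℤ).natAbs := by
    simpa using coprime_bB_tT p q m hpq hcop hm
  exact Rat.div_int_inj hD (by exact_mod_cast ht) h1 h2 hval'

end concrete

section concrete2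
variable (p q m : ℕ) (c : List ℤ)

theorem gb_int (hpq : p < q) : (gcdK p q m : ℤ) * bB p q m = (q : ℤ) - p := by
  have h := gcdK_mul_bB p q m
  have : ((gcdK p q m * bB p q m : ℕ) : ℤ) = ((q - p : ℕ) : ℤ) := by rw [h]
  rw [Nat.cast_sub hpq.le] at this
  exact_mod_cast this

theorem gt_int (hpq : p < q) :
    (gcdK p q m : ℤ) * tT p q m = (q : ℤ) - p - ((m * p % (q - p) : ℕ) : ℤ) := by
  have h := gcdK_mul_tT p q m
  have hb := beta_lt p q m hpq
  have : ((gcdK p q m * tT p q m : ℕ) : ℤ) = ((q - p - m * p % (q - p) : ℕ) : ℤ) := by rw [h]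
  rw [Nat.cast_sub hb.le, Nat.cast_sub hpq.le] at this
  exact_mod_cast this

theorem alpha_int (hpq : p < q) :
    ((q : ℤ) - p) * alpha p q m + ((m * p % (q - p) : ℕ) : ℤ) = (m : ℤ) * p := by
  have h := alpha_eq p q m
  have : (((q - p) * alpha p q m + m * p % (q - p) : ℕ) : ℤ) = ((m * p : ℕ) : ℤ) := by rw [h]
  rw [Nat.cast_add, Nat.cast_mul, Nat.cast_sub hpq.le] at this
  exact_mod_cast this

theorem nN_eq (hpq : p < q) (i : ℕ) :
    nN p q m c i = (gcdK p q m : ℤ) * tt c (bB p q m) (tT p q m) i := by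
  have E1 := gb_int p q m hpq
  have E2 := gt_int p q m hpq
  have E3 := alpha_int p q m hpq
  simp only [nN, eE, lL, tt]
  push_cast
  linear_combination (hjP c i) * E3 - (hjP c i) * E2 + (hjQ c i) * E1

end concrete2

end Groth.Agent.Lib.Helper18HJ
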