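import Groth.Agent.Lib.Helper18HJ

set_option autoImplicit false
universe u

namespace Groth.Agent.Lib.Helper18HJ

open W4c2invhilbsl2


section abstract2
variable (c : List ℤ) (b t : ℤ) (hdig : ∀ x ∈ c, (2 : ℤ) ≤ x)
  (hN : hjP c (c.length + 1) = b) (hD : hjQ c (c.length + 1) = t)

include hdig hN hD in
theorem tt_lt_of_lt {i j : ℕ} (hij : i < j) (hj : j ≤ c.length + 1) :
    tt c b t j < tt c b t i := by
  induction j with
  | zero => omega
  | succ j ih =>
    rcases Nat.lt_succ_iff_lt_or_eq.mp hij with h | h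
    · exact lt_trans (tt_anti' c b t hdig hN hD (i := j) (by omega)).2 (ih h (by omega))
    · subst h
      exact (tt_anti' c b t hdig hN hD (i := i) (by omega)).2

include hdig hN hD in
theorem tt_nonneg {i : ℕ} (hi : i ≤ c.length + 1) : 0 ≤ tt c b t i := by
  rcases Nat.eq_zero_or_pos i with h | h
  · subst h
    have := tt_lt_of_lt c b t hdig hN hD (i := 0) (j := c.length + 1) (by omega) le_rfl
    rw [tt_last c b t hN hD] at this
    exact this.le
  · obtain ⟨j, rfl⟩ := Nat.exists_eq_succ_of_ne_zero h.ne'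
    exact (tt_anti' c b t hdig hN hD (i := j) (by omega)).1

include hdig hN hD in
theorem tt_pos {i : ℕ} (hi : i ≤ c.length) : 0 < tt c b t i := by
  have := tt_lt_of_lt c b t hdig hN hD (i := i) (j := c.length + 1) (by omega) le_rfl
  rw [tt_last c b t hN hD] at this
  exact this

include hdig hN hD in
theorem b_pos' : 0 < b := by
  have := tt_pos c b t hdig hN hD (i := 0) (by omega)
  rwa [tt_zero] at this

include hdig hN hD in
/-- bounds for the remainder of `t x` mod `b` for `0 < x < P_{i+1}`, `i + 1 ≤ r` -/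
theorem emod_bounds {i : ℕ} (hi : i + 1 ≤ c.length) (x : ℤ) (hx0 : 0 < x)
    (hx1 : x < hjP c (i + 1)) :
    tt c b t i ≤ (t * x) % b ∧ (t * x) % b ≤ b + tt c b t (i + 1) - tt c b t i := by
  have hb := b_pos' c b t hdig hN hD
  have hρ0 : 0 ≤ (t * x) % b := Int.emod_nonneg _ hb.ne'
  have hρ1 : (t * x) % b < b := Int.emod_lt_of_pos _ hb
  have hdef : (t * x) % b = t * x - b * ((t * x) / b) := Int.emod_def _ _
  constructor
  · exact lattice_lower c b t hdig hN hD hi x _ (-((t * x) / b)) (by rw [hdef]; ring) hx0 hx1 hρ0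
  · have hT := tt_nonneg c b t hdig hN hD (i := i + 1) (by omega)
    have := lattice_lower c b t hdig hN hD hi (hjP c (i + 1) - x)
      (tt c b t (i + 1) - (t * x) % b + b) (-hjQ c (i + 1) + (t * x) / b + 1)
      (by rw [hdef]; simp only [tt]; ring) (by linarith) (by linarith) (by linarith)
    linarith

end abstract2

theorem nN_div (p q m : ℕ) (c : List ℤ) (hpq : p < q) (hm : 0 < m) (i : ℕ) :
    nN p q m c i / (gcdK p q m : ℤ) = tt c (bB p q m) (tT p q m) i := by
  have hg : (gcdK p q m : ℤ) ≠ 0 := by exact_mod_cast (gcdK_pos p q m hm).ne'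
  rw [nN_eq p q m c hpq, Int.mul_ediv_cancel_left _ hg]

theorem main15734 (p q m : ℕ) (hpq : p < q) (hcop : Nat.Coprime p q) (hm : 0 < m)
    (c : List ℤ) (hc : IsHJDigits p q m c) :
    (∀ i : ℕ, 1 ≤ i → i ≤ c.length →
      Int.emod ((tT p q m : ℤ) * hjP c i) (bB p q m : ℤ) = nN p q m c i / (gcdK p q m : ℤ)) ∧
    (∀ i : ℕ, 1 < i → i ≤ c.length → ∀ x : ℤ, 0 < x → x < hjP c i →
      nN p q m c (i - 1) / (gcdK p q m : ℤ) ≤ Int.emod ((tT p q m : ℤ) * x) (bB p q m : ℤ) ∧
      Int.emod ((tT p q m : ℤ) * x) (bB p q m : ℤ) ≤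
        (bB p q m : ℤ) + nN p q m c i / (gcdK p q m : ℤ) -
          nN p q m c (i - 1) / (gcdK p q m : ℤ)) := by
  obtain ⟨hN, hD⟩ := hj_last p q m c hpq hcop hm hc
  have hdig := hc.1
  constructor
  · intro i hi1 hir
    rw [nN_div p q m c hpq hm]
    have h0 := tt_nonneg c _ _ hdig hN hD (i := i) (by omega)
    have h1 := tt_lt_of_lt c _ _ hdig hN hD (i := 0) (j := i) (by omega) (by omega)
    rw [tt_zero] at h1
    have e : (tT p q m : ℤ) * hjP c i =
        tt c (bB p q m) (tT p q m) i + (bB p q m : ℤ) * hjQ c i := by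
      simp only [tt]; ring
    change ((tT p q m : ℤ) * hjP c i) % (bB p q m : ℤ) = _
    rw [e, Int.add_mul_emod_self_left, Int.emod_eq_of_lt h0 h1]
  · intro i hi1 hir x hx0 hx1
    obtain ⟨j, rfl⟩ := Nat.exists_eq_add_of_le hi1.le
    rw [show 1 + j - 1 = j by omega, nN_div p q m c hpq hm, nN_div p q m c hpq hm]
    rw [show 1 + j = j + 1 by omega] at hx1 ⊢
    exact emod_bounds c _ _ hdig hN hD (i := j) (by omega) x hx0 hx1

theorem main15733 (p q m : ℕ) (hpq : p < q) (hcop : Nat.Coprime p q) (hm : 0 < m)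
    (c : List ℤ) (hc : IsHJDigits p q m c) (i : ℕ) (hi : 1 < i) (hir : i ≤ c.length)
    (x : ℤ) (hx0 : 0 < x) (hx : x < hjP c i) :
    Int.emod ((p : ℤ) * m * x + nN p q m c i) ((q : ℤ) - p) =
      nN p q m c i + Int.emod ((p : ℤ) * m * x) ((q : ℤ) - p) := by
  obtain ⟨hN, hD⟩ := hj_last p q m c hpq hcop hm hc
  have hdig := hc.1
  obtain ⟨j, rfl⟩ := Nat.exists_eq_add_of_le hi.le
  rw [show 1 + j = j + 1 by omega] at hx hir ⊢
  set b : ℤ := ((bB p q m : ℕ) : ℤ) with hb
  set t : ℤ := ((tT p q m : ℕ) : ℤ) with ht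
  set g : ℤ := ((gcdK p q m : ℕ) : ℤ) with hg
  have hgpos : 0 < g := by rw [hg]; exact_mod_cast gcdK_pos p q m hm
  have E1 : g * b = (q : ℤ) - p := gb_int p q m hpq
  have E2 := gt_int p q m hpq
  have E3 := alpha_int p q m hpq
  obtain ⟨hlow, -⟩ := emod_bounds c b t hdig hN hD (i := j) (by omega) x hx0 hx
  have hbpos := b_pos' c b t hdig hN hD
  have hρ1 : (t * x) % b < b := Int.emod_lt_of_pos _ hbpos
  have hdef : (t * x) % b = t * x - b * ((t * x) / b) := Int.emod_def _ _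
  set ρ := (t * x) % b with hρ
  have hTj := tt_lt_of_lt c b t hdig hN hD (i := j) (j := j + 1) (by omega) (by omega)
  have hTj0 := tt_nonneg c b t hdig hN hD (i := j + 1) (by omega)
  have hn : nN p q m c (j + 1) = g * tt c b t (j + 1) := nN_eq p q m c hpq (j + 1)
  -- p m x = R * K + (R - g ρ)
  have hR : (0 : ℤ) < (q : ℤ) - p := by rw [← E1]; positivity
  have key : (p : ℤ) * m * x = ((q : ℤ) - p) * ((alpha p q m : ℤ) * x + x - (t * x) / b - 1) +
      (((q : ℤ) - p) - g * ρ) := by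
    have h1 : g * ρ = g * t * x - g * b * ((t * x) / b) := by rw [hdef]; ring
    rw [h1, E1]
    have E2' : g * t = (q : ℤ) - p - ((m * p % (q - p) : ℕ) : ℤ) := E2
    rw [E2']
    linear_combination (-x) * E3
  have hgρ : g * tt c b t j ≤ g * ρ := mul_le_mul_of_nonneg_left hlow hgpos.le
  have hgρ1 : g * ρ < g * b := mul_lt_mul_of_pos_left hρ1 hgpos
  have hgT : g * tt c b t (j + 1) < g * tt c b t j := mul_lt_mul_of_pos_left hTj hgpos
  have hgT0 : 0 ≤ g * tt c b t (j + 1) := mul_nonneg hgpos.le hTj0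
  have h2 : Int.emod ((p : ℤ) * m * x) ((q : ℤ) - p) = ((q : ℤ) - p) - g * ρ := by
    change ((p : ℤ) * m * x) % ((q : ℤ) - p) = _
    rw [key, Int.add_comm, Int.add_mul_emod_self_left]
    exact Int.emod_eq_of_lt (by linarith) (by linarith)
  rw [h2]
  change ((p : ℤ) * m * x + nN p q m c (j + 1)) % ((q : ℤ) - p) = _
  rw [key, hn]
  have e3 : ((q : ℤ) - p) * ((alpha p q m : ℤ) * x + x - (t * x) / b - 1) +
      (((q : ℤ) - p) - g * ρ) + g * tt c b t (j + 1) =
      ((((q : ℤ) - p) - g * ρ) + g * tt c b t (j + 1)) +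
        ((q : ℤ) - p) * ((alpha p q m : ℤ) * x + x - (t * x) / b - 1) := by ring
  rw [e3, Int.add_mul_emod_self_left]
  rw [Int.emod_eq_of_lt (by linarith) (by linarith)]
  ring



theorem main15735 (p q m : ℕ) (hpq : p < q) (hcop : Nat.Coprime p q) (hm : 0 < m)
    (c : List ℤ) (hc : IsHJDigits p q m c) :
    (∀ i : ℕ, i ≤ c.length + 1 →
      nN p q m c i = (gcdK p q m : ℤ) * ((tT p q m : ℤ) * hjP c i - (bB p q m : ℤ) * hjQ c i)) ∧
    (∀ i : ℕ, 2 ≤ i → i ≤ c.length + 1 →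
      nN p q m c i = c.getD (i - 2) 0 * nN p q m c (i - 1) - nN p q m c (i - 2)) ∧
    (∀ i : ℕ, i ≤ c.length → nN p q m c (i + 1) < nN p q m c i) ∧
    nN p q m c 0 = (q : ℤ) - p ∧ nN p q m c c.length = gcdK p q m ∧
      nN p q m c (c.length + 1) = 0 := by
  obtain ⟨hN, hD⟩ := hj_last p q m c hpq hcop hm hc
  have hdig := hc.1
  have hg : (0 : ℤ) < gcdK p q m := by exact_mod_cast gcdK_pos p q m hm
  refine ⟨?_, ?_, ?_, ?_, ?_, ?_⟩
  · intro i _
    exact nN_eq p q m c hpq i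
  · intro i hi _
    obtain ⟨j, rfl⟩ := Nat.exists_eq_add_of_le hi
    rw [show 2 + j - 2 = j by omega, show 2 + j - 1 = j + 1 by omega, show 2 + j = j + 2 by omega,
      nN_eq p q m c hpq, nN_eq p q m c hpq, nN_eq p q m c hpq, tt_succ_succ]
    ring
  · intro i hi
    rw [nN_eq p q m c hpq, nN_eq p q m c hpq]
    exact mul_lt_mul_of_pos_left (tt_anti' c _ _ hdig hN hD hi).2 hg
  · rw [nN_eq p q m c hpq, tt_zero, gb_int p q m hpq]
  · rw [nN_eq p q m c hpq, tt_length c _ _ hN hD, mul_one]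
  · rw [nN_eq p q m c hpq, tt_last c _ _ hN hD, mul_zero]


end Groth.Agent.Lib.Helper18HJ
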