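import Groth.Agent.Lib.Helper18HJ2

set_option autoImplicit false
universe u

namespace Groth.Agent.Lib.Helper18HJ

open W4c2invhilbsl2 MvPolynomial


theorem pm_decomp (p q m : ℕ) (hpq : p < q) (x : ℤ) :
    (p : ℤ) * m * x = ((q : ℤ) - p) *
        ((alpha p q m : ℤ) * x + x - (((tT p q m : ℕ) : ℤ) * x) / ((bB p q m : ℕ) : ℤ) - 1) +
      (((q : ℤ) - p) - ((gcdK p q m : ℕ) : ℤ) *
        ((((tT p q m : ℕ) : ℤ) * x) % ((bB p q m : ℕ) : ℤ))) := by
  have E1 := gb_int p q m hpq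
  have E2 := gt_int p q m hpq
  have E3 := alpha_int p q m hpq
  have hdef := Int.emod_def (((tT p q m : ℕ) : ℤ) * x) ((bB p q m : ℕ) : ℤ)
  rw [hdef]
  set D := (((tT p q m : ℕ) : ℤ) * x) / ((bB p q m : ℕ) : ℤ)
  have h1 : ((gcdK p q m : ℕ) : ℤ) * (((tT p q m : ℕ) : ℤ) * x - ((bB p q m : ℕ) : ℤ) * D) =
      (((gcdK p q m : ℕ) : ℤ) * ((tT p q m : ℕ) : ℤ)) * x -
        (((gcdK p q m : ℕ) : ℤ) * ((bB p q m : ℕ) : ℤ)) * D := by
    ring
  rw [h1, E1, E2]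
  linear_combination (-x) * E3

theorem eE_sub_lL (p q m : ℕ) (c : List ℤ) (i : ℕ) :
    eE p q m c i = lL p q m c i + (m : ℤ) * hjP c i := by
  simp only [eE, lL]; push_cast; ring

theorem R_mul_lL (p q m : ℕ) (c : List ℤ) (i : ℕ) :
    ((q : ℤ) - p) * lL p q m c i = (p : ℤ) * m * hjP c i + nN p q m c i := by
  simp only [nN, eE, lL]; push_cast; ring

/-- Lattice points `u` of the cone with `0 < n(u) < n_j` dominate `(e_{j+1}, l_{j+1})`. -/
theorem lattice_ge (p q m : ℕ) (hp : 0 < p) (hpq : p < q) (hcop : Nat.Coprime p q) (hm : 0 < m)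
    (c : List ℤ) (hc : IsHJDigits p q m c) (j : ℕ) (hj : j + 1 ≤ c.length)
    (u₁ u₂ : ℕ) (hlat : (m : ℤ) ∣ (u₁ : ℤ) - u₂)
    (hpos : 0 < (q : ℤ) * u₂ - p * u₁) (hlt : (q : ℤ) * u₂ - p * u₁ < nN p q m c j) :
    eE p q m c (j + 1) ≤ u₁ ∧ lL p q m c (j + 1) ≤ u₂ := by
  obtain ⟨hN, hD⟩ := hj_last p q m c hpq hcop hm hc
  have hdig := hc.1
  obtain ⟨x, hx⟩ := hlat
  set b : ℤ := ((bB p q m : ℕ) : ℤ) with hb
  set t : ℤ := ((tT p q m : ℕ) : ℤ) with ht
  set g : ℤ := ((gcdK p q m : ℕ) : ℤ) with hg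
  have hgpos : 0 < g := by rw [hg]; exact_mod_cast gcdK_pos p q m hm
  have E1 : g * b = (q : ℤ) - p := gb_int p q m hpq
  have hbpos := b_pos' c b t hdig hN hD
  have hR : (0 : ℤ) < (q : ℤ) - p := by rw [← E1]; positivity
  have hp' : (0 : ℤ) < p := by exact_mod_cast hp
  have hm' : (0 : ℤ) < m := by exact_mod_cast hm
  -- n_j ≤ R
  have hnj : nN p q m c j ≤ (q : ℤ) - p := by
    rw [nN_eq p q m c hpq, ← E1]
    refine mul_le_mul_of_nonneg_left ?_ hgpos.le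
    rcases Nat.eq_zero_or_pos j with h0 | h0
    · subst h0; rw [tt_zero]
    · have := tt_lt_of_lt c b t hdig hN hD (i := 0) (j := j) h0 (by omega)
      rw [tt_zero] at this; exact this.le
  set n : ℤ := (q : ℤ) * u₂ - p * u₁ with hn
  have hu1 : (u₁ : ℤ) = u₂ + m * x := by linarith
  have hn' : n = ((q : ℤ) - p) * u₂ - p * m * x := by rw [hn, hu1]; ring
  have hu2 : (0 : ℤ) ≤ u₂ := by positivity
  have hu1' : (0 : ℤ) ≤ u₁ := by positivity
  -- step 1: x ≥ 1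
  have hx1 : 1 ≤ x := by
    by_contra hcon
    rw [not_le] at hcon
    have hx0 : x ≤ 0 := by omega
    have h1 : 0 ≤ (p : ℤ) * m * (-x) := by
      have : (0 : ℤ) ≤ -x := by omega
      positivity
    rcases eq_or_lt_of_le hu2 with h2 | h2
    · -- u₂ = 0
      have : (m : ℤ) * x = u₁ := by rw [hu1, ← h2]; ring
      have h3 : (m : ℤ) * x ≤ 0 := mul_nonpos_of_nonneg_of_nonpos hm'.le hx0
      have h4 : (u₁ : ℤ) = 0 := by omega
      rw [hn, ← h2, h4] at hpos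
      simp at hpos
    · have h3 : ((q : ℤ) - p) * 1 ≤ ((q : ℤ) - p) * u₂ :=
        mul_le_mul_of_nonneg_left (by omega) hR.le
      nlinarith
  -- the remainder
  have hdec := pm_decomp p q m hpq x
  set ρ := (t * x) % b with hρ
  set K := (alpha p q m : ℤ) * x + x - (t * x) / b - 1 with hK
  have hρ0 : 0 ≤ ρ := Int.emod_nonneg _ hbpos.ne'
  have hρ1 : ρ < b := Int.emod_lt_of_pos _ hbpos
  have hgρ1 : g * ρ < g * b := mul_lt_mul_of_pos_left hρ1 hgpos
  have hgρ0 : 0 ≤ g * ρ := mul_nonneg hgpos.le hρ0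
  -- n = g ρ
  have hnρ : n = g * ρ := by
    have h1 : ((q : ℤ) - p) * (u₂ - K - 1) = n - g * ρ := by
      rw [hn']; linear_combination hdec
    have h2 : ((q : ℤ) - p) ∣ n - g * ρ := ⟨_, h1.symm⟩
    have h3 : n - g * ρ = 0 := by
      apply Int.eq_zero_of_abs_lt_dvd h2
      rw [abs_lt]
      constructor <;> linarith
    linarith
  -- step 2: x ≥ P_{j+1}
  have hx2 : hjP c (j + 1) ≤ x := by
    by_contra hcon
    rw [not_le] at hcon
    obtain ⟨hlow, -⟩ := emod_bounds c b t hdig hN hD (i := j) hj x (by omega) hcon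
    have : nN p q m c j ≤ n := by
      rw [nN_eq p q m c hpq, hnρ]
      exact mul_le_mul_of_nonneg_left hlow hgpos.le
    linarith
  -- step 3
  have hnj1 : nN p q m c (j + 1) < (q : ℤ) - p := by
    have h1 : nN p q m c (j + 1) < nN p q m c j := by
      rw [nN_eq p q m c hpq, nN_eq p q m c hpq]
      exact mul_lt_mul_of_pos_left
        (tt_lt_of_lt c b t hdig hN hD (i := j) (j := j + 1) (by omega) (by omega)) hgpos
    linarith
  have hRl := R_mul_lL p q m c (j + 1)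
  have hel := eE_sub_lL p q m c (j + 1)
  have hl : lL p q m c (j + 1) ≤ u₂ := by
    by_contra hcon
    rw [not_le] at hcon
    have h1 : (u₂ : ℤ) + 1 ≤ lL p q m c (j + 1) := by omega
    have h2 : ((q : ℤ) - p) * ((u₂ : ℤ) + 1) ≤ ((q : ℤ) - p) * lL p q m c (j + 1) :=
      mul_le_mul_of_nonneg_left h1 hR.le
    have h3 : (p : ℤ) * m * hjP c (j + 1) ≤ (p : ℤ) * m * x :=
      mul_le_mul_of_nonneg_left hx2 (by positivity)
    nlinarith
  refine ⟨?_, hl⟩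
  rw [hel, hu1]
  have h3 : (m : ℤ) * hjP c (j + 1) ≤ (m : ℤ) * x := mul_le_mul_of_nonneg_left hx2 hm'.le
  linarith


/-- positivity and bounds of `n_i` for `1 ≤ i ≤ r`. -/
theorem nN_bounds (p q m : ℕ) (hpq : p < q) (hcop : Nat.Coprime p q) (hm : 0 < m)
    (c : List ℤ) (hc : IsHJDigits p q m c) (j : ℕ) (hj : j + 1 ≤ c.length) :
    0 < nN p q m c (j + 1) ∧ nN p q m c (j + 1) < nN p q m c j ∧
      nN p q m c j ≤ (q : ℤ) - p := by
  obtain ⟨hN, hD⟩ := hj_last p q m c hpq hcop hm hc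
  have hdig := hc.1
  have hgpos : (0 : ℤ) < ((gcdK p q m : ℕ) : ℤ) := by exact_mod_cast gcdK_pos p q m hm
  have E1 := gb_int p q m hpq
  refine ⟨?_, ?_, ?_⟩
  · rw [nN_eq p q m c hpq]
    exact mul_pos hgpos (tt_pos c _ _ hdig hN hD (by omega))
  · rw [nN_eq p q m c hpq, nN_eq p q m c hpq]
    exact mul_lt_mul_of_pos_left
      (tt_lt_of_lt c _ _ hdig hN hD (i := j) (j := j + 1) (by omega) (by omega)) hgpos
  · rw [nN_eq p q m c hpq, ← E1]
    refine mul_le_mul_of_nonneg_left ?_ hgpos.le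
    rcases Nat.eq_zero_or_pos j with h0 | h0
    · subst h0; rw [tt_zero]
    · have := tt_lt_of_lt c _ _ hdig hN hD (i := 0) (j := j) h0 (by omega)
      rw [tt_zero] at this; exact this.le

theorem lL_pos (p q m : ℕ) (hp : 0 < p) (hpq : p < q) (hcop : Nat.Coprime p q) (hm : 0 < m)
    (c : List ℤ) (hc : IsHJDigits p q m c) (j : ℕ) (hj : j + 1 ≤ c.length) :
    0 < lL p q m c (j + 1) ∧ lL p q m c (j + 1) ≤ eE p q m c (j + 1) := by
  obtain ⟨h0, _, _⟩ := nN_bounds p q m hpq hcop hm c hc j hj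
  have hRl := R_mul_lL p q m c (j + 1)
  have hel := eE_sub_lL p q m c (j + 1)
  obtain ⟨hP0, hP1⟩ := hjP_mono c hc.1 j (by omega)
  have hPpos : 0 ≤ hjP c (j + 1) := by linarith
  have hR : (0 : ℤ) < (q : ℤ) - p := by
    have : (p : ℤ) < q := by exact_mod_cast hpq
    linarith
  have hp' : (0 : ℤ) < p := by exact_mod_cast hp
  have hm' : (0 : ℤ) < m := by exact_mod_cast hm
  constructor
  · by_contra hcon
    rw [not_lt] at hcon
    have h1 : ((q : ℤ) - p) * lL p q m c (j + 1) ≤ 0 :=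
      mul_nonpos_of_nonneg_of_nonpos hR.le hcon
    have h2 : 0 ≤ (p : ℤ) * m * hjP c (j + 1) := by positivity
    linarith
  · rw [hel]
    have : 0 ≤ (m : ℤ) * hjP c (j + 1) := by positivity
    linarith

/-- the monomial dichotomy in weight `(n_i, 0)`. -/
theorem mono3_cases (p q m : ℕ) (hp : 0 < p) (hpq : p < q) (hcop : Nat.Coprime p q) (hm : 0 < m)
    (c : List ℤ) (hc : IsHJDigits p q m c) (j : ℕ) (hj : j + 1 ≤ c.length)
    (d0 d1 d2 : ℕ) (h1 : (d0 : ℤ) - p * d1 + q * d2 = nN p q m c (j + 1))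
    (h2 : (m : ℤ) ∣ (d1 : ℤ) - d2) :
    (nN p q m c (j + 1)).toNat ≤ d0 ∨
      ((eE p q m c (j + 1)).toNat ≤ d1 ∧ (lL p q m c (j + 1)).toNat ≤ d2) := by
  obtain ⟨h0, hlt, _⟩ := nN_bounds p q m hpq hcop hm c hc j hj
  by_cases hd0 : nN p q m c (j + 1) ≤ d0
  · left
    omega
  · right
    rw [not_le] at hd0
    obtain ⟨he, hl⟩ := lattice_ge p q m hp hpq hcop hm c hc j hj d1 d2 h2 (by linarith)
      (by linarith)
    constructor <;> omega



theorem monomial_fin3 {k : Type u} [CommRing k] (d : Fin 3 →₀ ℕ) (r : k) :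
    (monomial d r) = C r * (X 0 ^ d 0 * X 1 ^ d 1 * X 2 ^ d 2) := by
  rw [monomial_eq, Finsupp.prod_fintype _ _ (by simp), Fin.prod_univ_three]

theorem weight_wt3_fst (p q m : ℕ) (d : Fin 3 →₀ ℕ) :
    (Finsupp.weight (wt3 p q m) d).1 = (d 0 : ℤ) - p * d 1 + q * d 2 := by
  rw [Finsupp.weight_apply, Finsupp.sum_fintype _ _ (by simp), Fin.sum_univ_three]
  simp [wt3]
  ring

theorem weight_wt3_snd (p q m : ℕ) (d : Fin 3 →₀ ℕ) :
    (Finsupp.weight (wt3 p q m) d).2 = (((d 2 : ℤ) - d 1 : ℤ) : ZMod m) := by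
  rw [Finsupp.weight_apply, Finsupp.sum_fintype _ _ (by simp), Fin.sum_univ_three]
  simp [wt3]
  ring

theorem isWH_mono3 {k : Type u} [CommRing k] (p q m : ℕ) (r : k) (a0 a1 a2 : ℕ)
    (ν : ℤ × ZMod m) (h1 : (a0 : ℤ) - p * a1 + q * a2 = ν.1)
    (h2 : (((a2 : ℤ) - a1 : ℤ) : ZMod m) = ν.2) :
    IsWeightedHomogeneous (wt3 p q m) (C r * (X 0 ^ a0 * X 1 ^ a1 * X 2 ^ a2) :
      MvPolynomial (Fin 3) k) ν := by
  set d : Fin 3 →₀ ℕ := Finsupp.equivFunOnFinite.symm ![a0, a1, a2] with hd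
  have e0 : d 0 = a0 := by simp [hd]
  have e1 : d 1 = a1 := by simp [hd]
  have e2 : d 2 = a2 := by simp [hd]
  have := monomial_fin3 d r
  rw [e0, e1, e2] at this
  rw [← this]
  apply isWeightedHomogeneous_monomial
  apply Prod.ext
  · rw [weight_wt3_fst, e0, e1, e2, h1]
  · rw [weight_wt3_snd, e1, e2, h2]


end Groth.Agent.Lib.Helper18HJ
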