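import Groth.Agent.Lib.Helper18HJ3

set_option autoImplicit false
universe u

namespace Groth.Agent.Lib.Helper18HJ

open W4c2invhilbsl2 MvPolynomial

theorem main15729 (k : Type u) [Field k] (p q m : ℕ) (hp : 0 < p) (hpq : p < q)
    (hcop : Nat.Coprime p q) (hm : 0 < m) (c : List ℤ) (hc : IsHJDigits p q m c) (i : ℕ)
    (hi : 1 ≤ i) (hir : i ≤ c.length) (f : MvPolynomial (Fin 3) k)
    (hf : f ∈ weightedHomogeneousSubmodule k (wt3 p q m) (nN p q m c i, (0 : ZMod m))) :
    ∃ a b : MvPolynomial (Fin 3) k, a ∈ weightedHomogeneousSubmodule k (wt3 p q m) 0 ∧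
      b ∈ weightedHomogeneousSubmodule k (wt3 p q m) 0 ∧
      f = a * X (0 : Fin 3) ^ (nN p q m c i).toNat +
        b * (X (1 : Fin 3) ^ (eE p q m c i).toNat * X (2 : Fin 3) ^ (lL p q m c i).toNat) := by
  obtain ⟨j, rfl⟩ := Nat.exists_eq_add_of_le hi
  rw [show 1 + j = j + 1 by omega] at hir hf ⊢
  obtain ⟨hn0, -, -⟩ := nN_bounds p q m hpq hcop hm c hc j hir
  obtain ⟨hl0, hle⟩ := lL_pos p q m hp hpq hcop hm c hc j hir
  set N := (nN p q m c (j + 1)).toNat with hN
  set E := (eE p q m c (j + 1)).toNat with hE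
  set L := (lL p q m c (j + 1)).toNat with hL
  have hNc : (N : ℤ) = nN p q m c (j + 1) := Int.toNat_of_nonneg hn0.le
  have hEc : (E : ℤ) = eE p q m c (j + 1) := Int.toNat_of_nonneg (by linarith)
  have hLc : (L : ℤ) = lL p q m c (j + 1) := Int.toNat_of_nonneg hl0.le
  rw [mem_weightedHomogeneousSubmodule] at hf
  refine IsWeightedHomogeneous.induction_on
    (motive := fun f _ => ∃ a b : MvPolynomial (Fin 3) k,
      a ∈ weightedHomogeneousSubmodule k (wt3 p q m) 0 ∧
      b ∈ weightedHomogeneousSubmodule k (wt3 p q m) 0 ∧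
      f = a * X (0 : Fin 3) ^ N + b * (X (1 : Fin 3) ^ E * X (2 : Fin 3) ^ L)) ?_ ?_ ?_ hf
  · exact ⟨0, 0, Submodule.zero_mem _, Submodule.zero_mem _, by simp⟩
  · rintro f₁ f₂ _ _ ⟨a₁, b₁, ha₁, hb₁, rfl⟩ ⟨a₂, b₂, ha₂, hb₂, rfl⟩
    exact ⟨a₁ + a₂, b₁ + b₂, Submodule.add_mem _ ha₁ ha₂, Submodule.add_mem _ hb₁ hb₂, by ring⟩
  · intro d r hd
    have hw1 := weight_wt3_fst p q m d
    have hw2 := weight_wt3_snd p q m d
    rw [hd] at hw1 hw2
    simp only at hw1 hw2
    have hdvd : (m : ℤ) ∣ (d 1 : ℤ) - d 2 := by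
      rw [← ZMod.intCast_zmod_eq_zero_iff_dvd]
      have : (((d 1 : ℤ) - d 2 : ℤ) : ZMod m) = -(((d 2 : ℤ) - d 1 : ℤ) : ZMod m) := by
        push_cast; ring
      rw [this, ← hw2, neg_zero]
    rcases mono3_cases p q m hp hpq hcop hm c hc j hir (d 0) (d 1) (d 2) hw1.symm hdvd with
      h | ⟨h1, h2⟩
    · refine ⟨C r * (X 0 ^ (d 0 - N) * X 1 ^ d 1 * X 2 ^ d 2), 0, ?_, Submodule.zero_mem _, ?_⟩
      · rw [mem_weightedHomogeneousSubmodule]
        apply isWH_mono3
        · rw [Nat.cast_sub h, hNc]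
          simp only [Prod.fst_zero]
          linarith
        · simp only [Prod.snd_zero]
          exact hw2.symm
      · rw [monomial_fin3, zero_mul, add_zero]
        have : (X (0 : Fin 3) : MvPolynomial (Fin 3) k) ^ d 0 = X 0 ^ (d 0 - N) * X 0 ^ N := by
          rw [← pow_add, Nat.sub_add_cancel h]
        rw [this]; ring
    · refine ⟨0, C r * (X 0 ^ d 0 * X 1 ^ (d 1 - E) * X 2 ^ (d 2 - L)), Submodule.zero_mem _,
        ?_, ?_⟩
      · rw [mem_weightedHomogeneousSubmodule]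
        apply isWH_mono3
        · rw [Nat.cast_sub h1, Nat.cast_sub h2, hEc, hLc]
          simp only [Prod.fst_zero]
          have : nN p q m c (j + 1) = -(p : ℤ) * eE p q m c (j + 1) + q * lL p q m c (j + 1) := rfl
          linarith
        · simp only [Prod.snd_zero]
          rw [Nat.cast_sub h1, Nat.cast_sub h2, hEc, hLc, eE_sub_lL]
          have e : ((d 2 : ℤ) - lL p q m c (j + 1) -
              ((d 1 : ℤ) - (lL p q m c (j + 1) + (m : ℤ) * hjP c (j + 1)))) =
              ((d 2 : ℤ) - d 1) + (m : ℤ) * hjP c (j + 1) := by ring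
          rw [e]
          have hw2' : ((d 2 : ℕ) : ZMod m) - ((d 1 : ℕ) : ZMod m) = 0 := by
            have := hw2.symm
            push_cast at this
            exact this
          push_cast
          rw [hw2']
          simp
      · rw [monomial_fin3, zero_mul, zero_add]
        have e1 : (X (1 : Fin 3) : MvPolynomial (Fin 3) k) ^ d 1 = X 1 ^ (d 1 - E) * X 1 ^ E := by
          rw [← pow_add, Nat.sub_add_cancel h1]
        have e2 : (X (2 : Fin 3) : MvPolynomial (Fin 3) k) ^ d 2 = X 2 ^ (d 2 - L) * X 2 ^ L := by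
          rw [← pow_add, Nat.sub_add_cancel h2]
        rw [e1, e2]; ring

end Groth.Agent.Lib.Helper18HJ
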