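import Groth.Prelude.Def_W4c2invhilbsl2
import Mathlib

set_option autoImplicit false
universe u

namespace Groth.Agent.Lib.Helper18HS

open MvPolynomial W4c2invhilbsl2

/-- Upper bound framework: if the image of every monomial of weight `ν` lies in the span of a
single element, the weight piece of the quotient has rank at most one. -/
theorem rank_piece_le_one {σ : Type*} (k : Type u) [Field k] {M : Type*} [AddCommMonoid M]
    (w : σ → M) (I : Ideal (MvPolynomial σ k)) (ν : M) (e : MvPolynomial σ k ⧸ I)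
    (h : ∀ d : σ →₀ ℕ, Finsupp.weight w d = ν →
      Ideal.Quotient.mk I (monomial d 1) ∈ Submodule.span k {e}) :
    Module.rank k (piece k w I ν) ≤ 1 := by
  have hle : piece k w I ν ≤ Submodule.span k {e} := by
    rintro _ ⟨φ, hφ, rfl⟩
    rw [SetLike.mem_coe, mem_weightedHomogeneousSubmodule] at hφ
    refine IsWeightedHomogeneous.induction_on
      (motive := fun φ _ => (Ideal.Quotient.mkₐ k I).toLinearMap φ ∈ Submodule.span k {e})
      ?_ ?_ ?_ hφ
    · simp
    · intro p q _ _ hp hq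
      rw [map_add]
      exact Submodule.add_mem _ hp hq
    · intro d r hd
      have : (monomial d r : MvPolynomial σ k) = r • monomial d 1 := by
        rw [smul_monomial, smul_eq_mul, mul_one]
      rw [this, map_smul]
      exact Submodule.smul_mem _ _ (h d hd)
  calc Module.rank k (piece k w I ν) ≤ Module.rank k (Submodule.span k {e}) :=
        Submodule.rank_mono hle
    _ ≤ 1 := by
        refine (rank_span_le _).trans ?_
        simp

theorem monomial_fin5 {k : Type u} [CommRing k] (d : Fin 5 →₀ ℕ) :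
    (monomial d (1 : k)) = X 0 ^ d 0 * X 1 ^ d 1 * X 2 ^ d 2 * X 3 ^ d 3 * X 4 ^ d 4 := by
  rw [monomial_eq, C_1, one_mul, Finsupp.prod_fintype _ _ (by simp), Fin.prod_univ_five]

theorem weight_wt5_fst (p q m : ℕ) (d : Fin 5 →₀ ℕ) :
    (Finsupp.weight (wt5 p q m) d).1 =
      (d 0 : ℤ) - p * (d 1 + d 2) + q * (d 3 + d 4) := by
  rw [Finsupp.weight_apply, Finsupp.sum_fintype _ _ (by simp), Fin.sum_univ_five]
  simp [wt5]
  ring

theorem weight_wt5_snd (p q m : ℕ) (d : Fin 5 →₀ ℕ) :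
    (Finsupp.weight (wt5 p q m) d).2 =
      (((d 3 : ℤ) + d 4 - (d 1 + d 2) : ℤ) : ZMod m) := by
  rw [Finsupp.weight_apply, Finsupp.sum_fintype _ _ (by simp), Fin.sum_univ_five]
  simp [wt5]
  ring

/-- In a commutative ring with `x1 * x4 = x0 ^ r`, monomials in `x0, x1, x4` with the same
`n = a - p b + q c` (`q = p + r`) and the same `c - b` agree. -/
theorem key_eq {A : Type*} [CommRing A] (x0 x1 x4 : A) (p q r : ℕ) (hq : q = p + r)
    (h : x1 * x4 = x0 ^ r) (a b c a' b' c' : ℕ)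
    (hn : (a : ℤ) - p * b + q * c = a' - p * b' + q * c') (hδ : (c : ℤ) - b = c' - b') :
    x0 ^ a * x1 ^ b * x4 ^ c = x0 ^ a' * x1 ^ b' * x4 ^ c' := by
  subst hq
  push_cast at hn
  have aux : ∀ (a b c a' t : ℕ), a = a' + r * t →
      x0 ^ a * x1 ^ b * x4 ^ c = x0 ^ a' * x1 ^ (b + t) * x4 ^ (c + t) := by
    intro a b c a' t ha
    subst ha
    calc x0 ^ (a' + r * t) * x1 ^ b * x4 ^ c = x0 ^ a' * (x0 ^ r) ^ t * x1 ^ b * x4 ^ c := by
          rw [pow_add, pow_mul]
      _ = x0 ^ a' * (x1 * x4) ^ t * x1 ^ b * x4 ^ c := by rw [h]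
      _ = x0 ^ a' * x1 ^ (b + t) * x4 ^ (c + t) := by ring
  rcases le_total b b' with hb | hb
  · obtain ⟨t, rfl⟩ := Nat.exists_eq_add_of_le hb
    have hc : c' = c + t := by push_cast at hδ; omega
    subst hc
    refine aux a b c a' t ?_
    have : (a : ℤ) = a' + r * t := by push_cast at hn; linear_combination hn
    exact_mod_cast this
  · obtain ⟨t, rfl⟩ := Nat.exists_eq_add_of_le hb
    have hc : c = c' + t := by push_cast at hδ; omega
    subst hc
    refine (aux a' b' c' a t ?_).symm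
    have : (a' : ℤ) = a + r * t := by push_cast at hn; linear_combination -hn
    exact_mod_cast this


theorem main15727 (k : Type u) [Field k] (p q m : ℕ) (hp : 0 < p) (hpq : p < q) (hm : 0 < m)
    (s : k) (ν : ℤ × ZMod m) :
    Module.rank k (piece k (wt5 p q m) (idealI k p q m s) ν) ≤ 1 := by
  classical
  set I := idealI k p q m s with hI
  let x : Fin 5 → MvPolynomial (Fin 5) k ⧸ I := fun i => Ideal.Quotient.mk I (X i)
  have h2 : x 2 = 0 := Ideal.Quotient.eq_zero_iff_mem.mpr (Ideal.subset_span (by simp))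
  have h3 : x 3 = 0 := Ideal.Quotient.eq_zero_iff_mem.mpr (Ideal.subset_span (by simp))
  have h14 : x 1 * x 4 = x 0 ^ (q - p) := by
    have h : (X 0 ^ (q - p) - X 1 * X 4 : MvPolynomial (Fin 5) k) ∈ I :=
      Ideal.subset_span (by simp)
    have h' := Ideal.Quotient.eq_zero_iff_mem.mpr h
    rw [map_sub, sub_eq_zero] at h'
    simpa [x] using h'.symm
  have hs : x 0 ^ (m * p) * x 1 ^ m = Ideal.Quotient.mk I (C s) := by
    have h : (C s - X 0 ^ (m * p) * X 1 ^ m : MvPolynomial (Fin 5) k) ∈ I :=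
      Ideal.subset_span (by simp)
    have h' := Ideal.Quotient.eq_zero_iff_mem.mpr h
    rw [map_sub, sub_eq_zero] at h'
    simpa [x] using h'.symm
  have hCs : ∀ (c : k) (y : MvPolynomial (Fin 5) k ⧸ I),
      Ideal.Quotient.mk I (C c) * y = c • y := by
    intro c y
    obtain ⟨y, rfl⟩ := Ideal.Quotient.mk_surjective y
    rw [← map_mul, C_mul', ← Ideal.Quotient.mkₐ_eq_mk k, map_smul]
  let P : ℤ → Prop := fun δ => ∃ a b c : ℕ,
    (a : ℤ) - p * b + q * c = ν.1 ∧ (c : ℤ) - b = δ ∧ ((δ : ℤ) : ZMod m) = ν.2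
  have hmono : ∀ d : Fin 5 →₀ ℕ, Ideal.Quotient.mk I (monomial d 1) =
      x 0 ^ d 0 * x 1 ^ d 1 * x 2 ^ d 2 * x 3 ^ d 3 * x 4 ^ d 4 := by
    intro d
    rw [monomial_fin5]
    simp only [map_mul, map_pow, x]
  by_cases hP : ∃ δ, P δ
  · have hbdd : ∃ b, ∀ z, P z → z ≤ b := by
      refine ⟨max ν.1 0, ?_⟩
      rintro z ⟨a, b, c, hn, hδ, -⟩
      rcases le_total z 0 with hz | hz
      · exact hz.trans (le_max_right _ _)
      · refine le_trans ?_ (le_max_left _ _)
        have hq' : (p : ℤ) < q := by exact_mod_cast hpq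
        have hp' : (0 : ℤ) < p := by exact_mod_cast hp
        have hb0 : (0 : ℤ) ≤ b := by positivity
        have ha0 : (0 : ℤ) ≤ a := by positivity
        have hc : (c : ℤ) = z + b := by linarith
        have : ν.1 = a + (q - p) * b + q * z := by rw [← hn, hc]; ring
        nlinarith
    obtain ⟨δ', ⟨a', b', c', hn', hδ', hε'⟩, hmax⟩ := Int.exists_greatest_of_bdd hbdd hP
    refine rank_piece_le_one k _ I ν (x 0 ^ a' * x 1 ^ b' * x 4 ^ c') ?_
    intro d hd
    rw [hmono]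
    by_cases hd2 : d 2 = 0
    swap
    · rw [h2, zero_pow hd2]; simp
    by_cases hd3 : d 3 = 0
    swap
    · rw [h3, zero_pow hd3]; simp
    rw [hd2, hd3, pow_zero, pow_zero, mul_one, mul_one]
    have hw1 := weight_wt5_fst p q m d
    have hw2 := weight_wt5_snd p q m d
    rw [hd] at hw1 hw2
    rw [hd2, hd3] at hw1 hw2
    have hPd : P ((d 4 : ℤ) - d 1) := by
      refine ⟨d 0, d 1, d 4, ?_, rfl, ?_⟩
      · rw [hw1]; push_cast; ring
      · rw [hw2]; push_cast; ring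
    have hle := hmax _ hPd
    -- δ' - δ = j * m
    have hdvd : (m : ℤ) ∣ δ' - ((d 4 : ℤ) - d 1) := by
      rw [← ZMod.intCast_zmod_eq_zero_iff_dvd]
      push_cast
      rw [hε', hw2]
      push_cast
      ring
    obtain ⟨j, hj⟩ := hdvd
    have hj0 : 0 ≤ j := by
      have hm' : (0 : ℤ) < m := by exact_mod_cast hm
      by_contra hneg
      rw [not_le] at hneg
      have : (m : ℤ) * j < 0 := mul_neg_of_pos_of_neg hm' hneg
      linarith
    obtain ⟨j, rfl⟩ := Int.eq_ofNat_of_zero_le hj0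
    have hkey : x 0 ^ d 0 * x 1 ^ d 1 * x 4 ^ d 4 =
        x 0 ^ (a' + j * (m * p)) * x 1 ^ (b' + j * m) * x 4 ^ c' := by
      refine key_eq (x 0) (x 1) (x 4) p q (q - p) (by omega) h14 _ _ _ _ _ _ ?_ ?_
      · rw [hw1] at hn'
        push_cast
        push_cast at hn'
        linear_combination -hn'
      · push_cast
        rw [← hδ'] at hj
        linear_combination -hj
    rw [hkey]
    have : x 0 ^ (a' + j * (m * p)) * x 1 ^ (b' + j * m) * x 4 ^ c' =
        (x 0 ^ (m * p) * x 1 ^ m) ^ j * (x 0 ^ a' * x 1 ^ b' * x 4 ^ c') := by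
      ring
    have hsj : (Ideal.Quotient.mk I (C s)) ^ j = Ideal.Quotient.mk I (C (s ^ j)) := by
      rw [C_pow, map_pow]
    rw [this, hs, hsj, hCs]
    exact Submodule.smul_mem _ _ (Submodule.mem_span_singleton_self _)
  · refine rank_piece_le_one k _ I ν 0 ?_
    intro d hd
    rw [hmono]
    by_cases hd2 : d 2 = 0
    swap
    · rw [h2, zero_pow hd2]; simp
    by_cases hd3 : d 3 = 0
    swap
    · rw [h3, zero_pow hd3]; simp
    exfalso
    apply hP
    have hw1 := weight_wt5_fst p q m d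
    have hw2 := weight_wt5_snd p q m d
    rw [hd] at hw1 hw2
    rw [hd2, hd3] at hw1 hw2
    refine ⟨(d 4 : ℤ) - d 1, d 0, d 1, d 4, ?_, rfl, ?_⟩
    · rw [hw1]; push_cast; ring
    · rw [hw2]; push_cast; ring

theorem nt_J (p q m : ℕ) (hp : 0 < p) (hpq : p < q) (hcop : Nat.Coprime p q) (hm : 0 < m)
    (a0 b c a0' b' c' : ℕ) (ha0 : a0 < Nat.gcd m (q - p)) (ha0' : a0' < Nat.gcd m (q - p))
    (hn : (a0 : ℤ) - p * b + q * c = a0' - p * b' + q * c')
    (hε : (m : ℤ) ∣ ((c' : ℤ) - b') - ((c : ℤ) - b)) (hbb' : b ≤ b') :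
    ∃ j : ℕ, a0' = a0 ∧ b' = b + j * (m / Nat.gcd m (q - p) * q) ∧
      c' = c + j * (m / Nat.gcd m (q - p) * p) := by
  set g := Nat.gcd m (q - p) with hg
  have hgpos : 0 < g := Nat.gcd_pos_of_pos_left _ hm
  have hgm : (g : ℤ) ∣ (m : ℤ) := by exact_mod_cast Nat.gcd_dvd_left m (q - p)
  have hgr : (g : ℤ) ∣ ((q : ℤ) - p) := by
    have : g ∣ q - p := Nat.gcd_dvd_right m (q - p)
    have h2 : ((q - p : ℕ) : ℤ) = (q : ℤ) - p := by
      rw [Nat.cast_sub hpq.le]
    rw [← h2]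
    exact_mod_cast this
  -- w = 0
  have hw : (a0' : ℤ) - a0 = 0 := by
    apply Int.eq_zero_of_abs_lt_dvd (m := (g : ℤ))
    · have e1 : (a0' : ℤ) - a0 =
          -(p : ℤ) * (((c' : ℤ) - b') - ((c : ℤ) - b)) - ((q : ℤ) - p) * ((c' : ℤ) - c) := by
        linear_combination -hn
      rw [e1]
      refine dvd_sub ?_ ?_
      · exact Dvd.dvd.mul_left (hgm.trans hε) _
      · exact Dvd.dvd.mul_right hgr _
    · rw [abs_lt]
      constructor <;> omega
  have ha : a0' = a0 := by omega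
  subst ha
  obtain ⟨u, rfl⟩ := Nat.exists_eq_add_of_le hbb'
  have hpu : (p : ℤ) * u = q * ((c' : ℤ) - c) := by
    push_cast at hn
    linear_combination hn
  have hcc' : c ≤ c' := by
    by_contra hlt
    rw [not_le] at hlt
    have h1 : (q : ℤ) * ((c' : ℤ) - c) < 0 := by
      apply mul_neg_of_pos_of_neg
      · exact_mod_cast hp.trans hpq
      · omega
    have h2 : (0 : ℤ) ≤ (p : ℤ) * u := by positivity
    omega
  obtain ⟨v, rfl⟩ := Nat.exists_eq_add_of_le hcc'
  have hpu' : p * u = q * v := by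
    have : (p : ℤ) * u = q * v := by rw [hpu]; push_cast; ring
    exact_mod_cast this
  have hqu : q ∣ u := by
    have : q ∣ p * u := ⟨v, hpu'⟩
    exact (Nat.Coprime.dvd_of_dvd_mul_left hcop.symm this)
  obtain ⟨t, rfl⟩ := hqu
  have hv : v = p * t := by
    have hq0 : 0 < q := hp.trans hpq
    have : q * v = q * (p * t) := by rw [← hpu']; ring
    exact Nat.eq_of_mul_eq_mul_left hq0 this
  subst hv
  -- m ∣ (q - p) * t
  have hmt : m ∣ (q - p) * t := by
    have h1 : (m : ℤ) ∣ ((q : ℤ) - p) * t := by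
      have e : ((q : ℤ) - p) * t = -((((c + p * t : ℕ) : ℤ) - ((b + q * t : ℕ) : ℤ)) - ((c : ℤ) - b)) := by
        push_cast; ring
      rw [e]
      exact (dvd_neg.mpr hε)
    have h2 : ((q : ℤ) - p) * t = (((q - p) * t : ℕ) : ℤ) := by
      push_cast [Nat.cast_sub hpq.le]; ring
    rw [h2] at h1
    exact_mod_cast h1
  have hat : m / g ∣ t := by
    have hcop2 : Nat.Coprime (m / g) ((q - p) / g) :=
      Nat.coprime_div_gcd_div_gcd hgpos
    have hm_eq : m = g * (m / g) := (Nat.mul_div_cancel' (Nat.gcd_dvd_left m (q - p))).symm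
    have hr_eq : q - p = g * ((q - p) / g) :=
      (Nat.mul_div_cancel' (Nat.gcd_dvd_right m (q - p))).symm
    have h3 : g * (m / g) ∣ g * ((q - p) / g * t) := by
      rw [← hm_eq, ← mul_assoc, ← hr_eq]; exact hmt
    have h4 : m / g ∣ (q - p) / g * t := Nat.dvd_of_mul_dvd_mul_left hgpos h3
    exact hcop2.dvd_of_dvd_mul_left h4
  obtain ⟨j, rfl⟩ := hat
  exact ⟨j, rfl, by ring, by ring⟩


theorem main15728 (k : Type u) [Field k] (p q m : ℕ) (hp : 0 < p) (hpq : p < q)
    (hcop : Nat.Coprime p q) (hm : 0 < m) (s : k) (ν : ℤ × ZMod m) :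
    Module.rank k (piece k (wt5 p q m) (idealJ k p q m s) ν) ≤ 1 := by
  classical
  set I := idealJ k p q m s with hI
  set g := Nat.gcd m (q - p) with hg
  let x : Fin 5 → MvPolynomial (Fin 5) k ⧸ I := fun i => Ideal.Quotient.mk I (X i)
  have h2 : x 2 = 0 := Ideal.Quotient.eq_zero_iff_mem.mpr (Ideal.subset_span (by simp))
  have h4 : x 4 = 0 := Ideal.Quotient.eq_zero_iff_mem.mpr (Ideal.subset_span (by simp))
  have h0 : x 0 ^ g = 0 := by
    have h : (X 0 ^ g : MvPolynomial (Fin 5) k) ∈ I := Ideal.subset_span (by simp [hg])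
    have h' := Ideal.Quotient.eq_zero_iff_mem.mpr h
    simpa [x] using h'
  have hs : x 1 ^ (m / g * q) * x 3 ^ (m / g * p) = Ideal.Quotient.mk I (C s) := by
    have h : (C s - X 1 ^ (m / g * q) * X 3 ^ (m / g * p) : MvPolynomial (Fin 5) k) ∈ I :=
      Ideal.subset_span (by simp [hg])
    have h' := Ideal.Quotient.eq_zero_iff_mem.mpr h
    rw [map_sub, sub_eq_zero] at h'
    simpa [x] using h'.symm
  have hCs : ∀ (c : k) (y : MvPolynomial (Fin 5) k ⧸ I),
      Ideal.Quotient.mk I (C c) * y = c • y := by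
    intro c y
    obtain ⟨y, rfl⟩ := Ideal.Quotient.mk_surjective y
    rw [← map_mul, C_mul', ← Ideal.Quotient.mkₐ_eq_mk k, map_smul]
  let P : ℕ → Prop := fun b => ∃ a0 c : ℕ, a0 < g ∧
    (a0 : ℤ) - p * b + q * c = ν.1 ∧ ((((c : ℤ) - b : ℤ)) : ZMod m) = ν.2
  have hmono : ∀ d : Fin 5 →₀ ℕ, Ideal.Quotient.mk I (monomial d 1) =
      x 0 ^ d 0 * x 1 ^ d 1 * x 2 ^ d 2 * x 3 ^ d 3 * x 4 ^ d 4 := by
    intro d
    rw [monomial_fin5]
    simp only [map_mul, map_pow, x]
  -- common reduction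
  have hred : ∀ (e : MvPolynomial (Fin 5) k ⧸ I) (d : Fin 5 →₀ ℕ),
      Finsupp.weight (wt5 p q m) d = ν →
      (P (d 1) → d 0 < g → d 2 = 0 → d 4 = 0 →
        (ν.1 = (d 0 : ℤ) - p * d 1 + q * d 3) → (ν.2 = (((d 3 : ℤ) - d 1 : ℤ) : ZMod m)) →
        x 0 ^ d 0 * x 1 ^ d 1 * x 3 ^ d 3 ∈ Submodule.span k {e}) →
      Ideal.Quotient.mk I (monomial d 1) ∈ Submodule.span k {e} := by
    intro e d hd hmain
    rw [hmono]
    by_cases hd2 : d 2 = 0
    swap
    · rw [h2, zero_pow hd2]; simp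
    by_cases hd4 : d 4 = 0
    swap
    · rw [h4, zero_pow hd4]; simp
    by_cases hd0 : d 0 < g
    swap
    · rw [pow_eq_zero_of_le (not_lt.mp hd0) h0]; simp
    rw [hd2, hd4, pow_zero, pow_zero, mul_one, mul_one]
    have hw1 := weight_wt5_fst p q m d
    have hw2 := weight_wt5_snd p q m d
    rw [hd] at hw1 hw2
    rw [hd2, hd4] at hw1 hw2
    have e1 : ν.1 = (d 0 : ℤ) - p * d 1 + q * d 3 := by rw [hw1]; push_cast; ring
    have e2 : ν.2 = (((d 3 : ℤ) - d 1 : ℤ) : ZMod m) := by rw [hw2]; push_cast; ring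
    exact hmain ⟨d 0, d 3, hd0, e1.symm, e2.symm⟩ hd0 hd2 hd4 e1 e2
  by_cases hP : ∃ b, P b
  · obtain ⟨a0, c, ha0, hn0, hε0⟩ := Nat.find_spec hP
    set b0 := Nat.find hP with hb0
    refine rank_piece_le_one k _ I ν (x 0 ^ a0 * x 1 ^ b0 * x 3 ^ c) ?_
    intro d hd
    refine hred _ d hd ?_
    intro hPd hd0 hd2 hd4 e1 e2
    have hle : b0 ≤ d 1 := Nat.find_min' hP hPd
    have hdvd : (m : ℤ) ∣ ((d 3 : ℤ) - d 1) - ((c : ℤ) - b0) := by
      rw [← ZMod.intCast_zmod_eq_zero_iff_dvd]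
      push_cast
      push_cast at hε0 e2
      rw [hε0, e2]
      ring
    obtain ⟨j, h0', h1', h3'⟩ := nt_J p q m hp hpq hcop hm a0 b0 c (d 0) (d 1) (d 3) ha0 hd0
      (by rw [hn0, e1]) hdvd hle
    rw [h0', h1', h3']
    have : x 0 ^ a0 * x 1 ^ (b0 + j * (m / g * q)) * x 3 ^ (c + j * (m / g * p)) =
        (x 1 ^ (m / g * q) * x 3 ^ (m / g * p)) ^ j * (x 0 ^ a0 * x 1 ^ b0 * x 3 ^ c) := by
      ring
    have hsj : (Ideal.Quotient.mk I (C s)) ^ j = Ideal.Quotient.mk I (C (s ^ j)) := by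
      rw [C_pow, map_pow]
    rw [this, hs, hsj, hCs]
    exact Submodule.smul_mem _ _ (Submodule.mem_span_singleton_self _)
  · refine rank_piece_le_one k _ I ν 0 ?_
    intro d hd
    refine hred _ d hd ?_
    intro hPd
    exact absurd ⟨_, hPd⟩ hP

end Groth.Agent.Lib.Helper18HS
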