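import Groth.Agent.Lib.Helper18HJ4
import Groth.Agent.Lib.Helper18HS

set_option autoImplicit false
universe u

namespace Groth.Agent.Lib.Helper18HJ

open W4c2invhilbsl2 MvPolynomial Groth.Agent.Lib.Helper18HS

theorem monomial_fin5' {k : Type u} [CommRing k] (d : Fin 5 →₀ ℕ) (r : k) :
    (monomial d r) = C r * (X 0 ^ d 0 * X 1 ^ d 1 * X 2 ^ d 2 * X 3 ^ d 3 * X 4 ^ d 4) := by
  rw [monomial_eq, Finsupp.prod_fintype _ _ (by simp), Fin.prod_univ_five]

theorem isWH_mono5 {k : Type u} [CommRing k] (p q m : ℕ) (r : k) (a0 a1 a2 a3 a4 : ℕ)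
    (ν : ℤ × ZMod m) (h1 : (a0 : ℤ) - p * (a1 + a2) + q * (a3 + a4) = ν.1)
    (h2 : ((((a3 : ℤ) + a4 - (a1 + a2) : ℤ)) : ZMod m) = ν.2) :
    IsWeightedHomogeneous (wt5 p q m)
      (C r * (X 0 ^ a0 * X 1 ^ a1 * X 2 ^ a2 * X 3 ^ a3 * X 4 ^ a4) :
        MvPolynomial (Fin 5) k) ν := by
  set d : Fin 5 →₀ ℕ := Finsupp.equivFunOnFinite.symm ![a0, a1, a2, a3, a4] with hd
  have e0 : d 0 = a0 := by simp [hd]
  have e1 : d 1 = a1 := by simp [hd]
  have e2 : d 2 = a2 := by simp [hd]
  have e3 : d 3 = a3 := by simp [hd]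
  have e4 : d 4 = a4 := by simp [hd]
  have := monomial_fin5' d r
  rw [e0, e1, e2, e3, e4] at this
  rw [← this]
  apply isWeightedHomogeneous_monomial
  apply Prod.ext
  · rw [weight_wt5_fst, e0, e1, e2, e3, e4, h1]
  · rw [weight_wt5_snd, e1, e2, e3, e4, h2]

theorem main15732 (k : Type u) [Field k] (p q m : ℕ) (hp : 0 < p) (hpq : p < q)
    (hcop : Nat.Coprime p q) (hm : 0 < m) (c : List ℤ) (hc : IsHJDigits p q m c) (i : ℕ)
    (hi : 1 ≤ i) (hir : i ≤ c.length) (f : MvPolynomial (Fin 5) k)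
    (hf : f ∈ weightedHomogeneousSubmodule k (wt5 p q m) (nN p q m c i, (0 : ZMod m))) :
    ∃ (a₀ : MvPolynomial (Fin 5) k) (a : ℕ → ℕ → MvPolynomial (Fin 5) k),
      a₀ ∈ weightedHomogeneousSubmodule k (wt5 p q m) 0 ∧
      (∀ e l : ℕ, a e l ∈ weightedHomogeneousSubmodule k (wt5 p q m) 0) ∧
      f - (a₀ * X (0 : Fin 5) ^ (nN p q m c i).toNat +
          ∑ e ∈ Finset.range ((eE p q m c i).toNat + 1),
            ∑ l ∈ Finset.range ((lL p q m c i).toNat + 1),
            a e l * (X (1 : Fin 5) ^ ((eE p q m c i).toNat - e) * X (2 : Fin 5) ^ e *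
              X (3 : Fin 5) ^ ((lL p q m c i).toNat - l) * X (4 : Fin 5) ^ l)) ∈
        Ideal.span {X (0 : Fin 5) ^ (q - p) - X 1 * X 4 + X 2 * X 3} := by
  obtain ⟨j, rfl⟩ := Nat.exists_eq_add_of_le hi
  rw [show 1 + j = j + 1 by omega] at hir hf ⊢
  obtain ⟨hn0, -, -⟩ := nN_bounds p q m hpq hcop hm c hc j hir
  obtain ⟨hl0, hle⟩ := lL_pos p q m hp hpq hcop hm c hc j hir
  set N := (nN p q m c (j + 1)).toNat with hN
  set E := (eE p q m c (j + 1)).toNat with hE
  set L := (lL p q m c (j + 1)).toNat with hL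
  have hNc : (N : ℤ) = nN p q m c (j + 1) := Int.toNat_of_nonneg hn0.le
  have hEc : (E : ℤ) = eE p q m c (j + 1) := Int.toNat_of_nonneg (by linarith)
  have hLc : (L : ℤ) = lL p q m c (j + 1) := Int.toNat_of_nonneg hl0.le
  rw [mem_weightedHomogeneousSubmodule] at hf
  suffices h : ∃ (a₀ : MvPolynomial (Fin 5) k) (a : ℕ → ℕ → MvPolynomial (Fin 5) k),
      a₀ ∈ weightedHomogeneousSubmodule k (wt5 p q m) 0 ∧
      (∀ e l : ℕ, a e l ∈ weightedHomogeneousSubmodule k (wt5 p q m) 0) ∧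
      f = a₀ * X (0 : Fin 5) ^ N +
          ∑ e ∈ Finset.range (E + 1), ∑ l ∈ Finset.range (L + 1),
            a e l * (X (1 : Fin 5) ^ (E - e) * X (2 : Fin 5) ^ e *
              X (3 : Fin 5) ^ (L - l) * X (4 : Fin 5) ^ l) by
    obtain ⟨a₀, a, h0, ha, hfe⟩ := h
    refine ⟨a₀, a, h0, ha, ?_⟩
    rw [← hfe, sub_self]
    exact Ideal.zero_mem _
  refine IsWeightedHomogeneous.induction_on
    (motive := fun f _ => ∃ (a₀ : MvPolynomial (Fin 5) k) (a : ℕ → ℕ → MvPolynomial (Fin 5) k),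
      a₀ ∈ weightedHomogeneousSubmodule k (wt5 p q m) 0 ∧
      (∀ e l : ℕ, a e l ∈ weightedHomogeneousSubmodule k (wt5 p q m) 0) ∧
      f = a₀ * X (0 : Fin 5) ^ N +
          ∑ e ∈ Finset.range (E + 1), ∑ l ∈ Finset.range (L + 1),
            a e l * (X (1 : Fin 5) ^ (E - e) * X (2 : Fin 5) ^ e *
              X (3 : Fin 5) ^ (L - l) * X (4 : Fin 5) ^ l)) ?_ ?_ ?_ hf
  · exact ⟨0, fun _ _ => 0, Submodule.zero_mem _, fun _ _ => Submodule.zero_mem _, by simp⟩
  · rintro f₁ f₂ _ _ ⟨a₁, b₁, ha₁, hb₁, h1⟩ ⟨a₂, b₂, ha₂, hb₂, h2⟩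
    refine ⟨a₁ + a₂, fun e l => b₁ e l + b₂ e l, Submodule.add_mem _ ha₁ ha₂,
      fun e l => Submodule.add_mem _ (hb₁ e l) (hb₂ e l), ?_⟩
    conv_lhs => rw [h1, h2]
    simp only [add_mul, Finset.sum_add_distrib]
    ring
  · intro d r hd
    have hw1 := weight_wt5_fst p q m d
    have hw2 := weight_wt5_snd p q m d
    rw [hd] at hw1 hw2
    simp only at hw1 hw2
    have hdvd : (m : ℤ) ∣ (((d 1 + d 2 : ℕ) : ℤ)) - ((d 3 + d 4 : ℕ) : ℤ) := by
      rw [← ZMod.intCast_zmod_eq_zero_iff_dvd]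
      have : (((((d 1 + d 2 : ℕ) : ℤ)) - ((d 3 + d 4 : ℕ) : ℤ) : ℤ) : ZMod m) =
          -((((d 3 : ℤ) + d 4 - (d 1 + d 2) : ℤ)) : ZMod m) := by
        push_cast; ring
      rw [this, ← hw2, neg_zero]
    rcases mono3_cases p q m hp hpq hcop hm c hc j hir (d 0) (d 1 + d 2) (d 3 + d 4)
      (by rw [hw1]; push_cast; ring) hdvd with h | ⟨h1, h2⟩
    · refine ⟨C r * (X 0 ^ (d 0 - N) * X 1 ^ d 1 * X 2 ^ d 2 * X 3 ^ d 3 * X 4 ^ d 4),
        fun _ _ => 0, ?_, fun _ _ => Submodule.zero_mem _, ?_⟩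
      · rw [mem_weightedHomogeneousSubmodule]
        apply isWH_mono5
        · rw [Nat.cast_sub h, hNc]
          simp only [Prod.fst_zero]
          linarith
        · simp only [Prod.snd_zero]
          exact hw2.symm
      · rw [monomial_fin5']
        simp only [zero_mul, Finset.sum_const_zero, add_zero]
        have : (X (0 : Fin 5) : MvPolynomial (Fin 5) k) ^ d 0 = X 0 ^ (d 0 - N) * X 0 ^ N := by
          rw [← pow_add, Nat.sub_add_cancel h]
        rw [this]; ring
    · set e' := min (d 2) E with he'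
      set l' := min (d 4) L with hl'
      have he'E : e' ≤ E := min_le_right _ _
      have hl'L : l' ≤ L := min_le_right _ _
      have he'd : e' ≤ d 2 := min_le_left _ _
      have hl'd : l' ≤ d 4 := min_le_left _ _
      have hE1 : E - e' ≤ d 1 := by
        rcases le_total (d 2) E with hh | hh
        · rw [he', min_eq_left hh]; omega
        · rw [he', min_eq_right hh]; omega
      have hL1 : L - l' ≤ d 3 := by
        rcases le_total (d 4) L with hh | hh
        · rw [hl', min_eq_left hh]; omega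
        · rw [hl', min_eq_right hh]; omega
      set A : MvPolynomial (Fin 5) k := C r * (X 0 ^ d 0 * X 1 ^ (d 1 - (E - e')) *
        X 2 ^ (d 2 - e') * X 3 ^ (d 3 - (L - l')) * X 4 ^ (d 4 - l')) with hA
      have hAW : A ∈ weightedHomogeneousSubmodule k (wt5 p q m) 0 := by
        rw [mem_weightedHomogeneousSubmodule]
        apply isWH_mono5
        · rw [Nat.cast_sub hE1, Nat.cast_sub he'd, Nat.cast_sub hL1, Nat.cast_sub hl'd,
            Nat.cast_sub he'E, Nat.cast_sub hl'L, hEc, hLc]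
          simp only [Prod.fst_zero]
          have : nN p q m c (j + 1) = -(p : ℤ) * eE p q m c (j + 1) + q * lL p q m c (j + 1) := rfl
          linarith
        · simp only [Prod.snd_zero]
          rw [Nat.cast_sub hE1, Nat.cast_sub he'd, Nat.cast_sub hL1, Nat.cast_sub hl'd,
            Nat.cast_sub he'E, Nat.cast_sub hl'L, hEc, hLc, eE_sub_lL]
          have e : ((d 3 : ℤ) - (lL p q m c (j + 1) - (l' : ℤ)) + ((d 4 : ℤ) - l') -
              ((d 1 : ℤ) - (lL p q m c (j + 1) + (m : ℤ) * hjP c (j + 1) - e') +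
                ((d 2 : ℤ) - e'))) =
              ((d 3 : ℤ) + d 4 - (d 1 + d 2)) + (m : ℤ) * hjP c (j + 1) := by ring
          rw [e]
          have hw2' : ((((d 3 : ℤ) + d 4 - (d 1 + d 2) : ℤ)) : ZMod m) = 0 := hw2.symm
          rw [Int.cast_add, hw2']
          simp
      refine ⟨0, fun e l => if e = e' ∧ l = l' then A else 0, Submodule.zero_mem _, ?_, ?_⟩
      · intro e l
        dsimp only
        split_ifs
        · exact hAW
        · exact Submodule.zero_mem _
      · rw [monomial_fin5', zero_mul, zero_add]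
        dsimp only
        rw [Finset.sum_eq_single e']
        · rw [Finset.sum_eq_single l']
          · simp only [and_self, if_true]
            have e1 : (X (1 : Fin 5) : MvPolynomial (Fin 5) k) ^ d 1 =
                X 1 ^ (d 1 - (E - e')) * X 1 ^ (E - e') := by
              rw [← pow_add, Nat.sub_add_cancel hE1]
            have e2 : (X (2 : Fin 5) : MvPolynomial (Fin 5) k) ^ d 2 =
                X 2 ^ (d 2 - e') * X 2 ^ e' := by
              rw [← pow_add, Nat.sub_add_cancel he'd]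
            have e3 : (X (3 : Fin 5) : MvPolynomial (Fin 5) k) ^ d 3 =
                X 3 ^ (d 3 - (L - l')) * X 3 ^ (L - l') := by
              rw [← pow_add, Nat.sub_add_cancel hL1]
            have e4 : (X (4 : Fin 5) : MvPolynomial (Fin 5) k) ^ d 4 =
                X 4 ^ (d 4 - l') * X 4 ^ l' := by
              rw [← pow_add, Nat.sub_add_cancel hl'd]
            rw [e1, e2, e3, e4, hA]; ring
          · intro l _ hl
            rw [if_neg (fun h => hl h.2), zero_mul]
          · intro hl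
            exact absurd (Finset.mem_range.mpr (by omega)) hl
        · intro e _ he
          apply Finset.sum_eq_zero
          intro l _
          rw [if_neg (fun h => he h.1), zero_mul]
        · intro he
          exact absurd (Finset.mem_range.mpr (by omega)) he

end Groth.Agent.Lib.Helper18HJ
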