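import Groth.Agent.Lib.Helper18HJ4
import Groth.Agent.Lib.Helper18HS

set_option autoImplicit false
universe u

namespace Groth.Agent.Lib.Helper18HJ

open W4c2invhilbsl2 MvPolynomial Groth.Agent.Lib.Helper18HS

/-- comparability of two vectors: one is a scalar multiple of the other -/
def Cmp {k : Type*} {A : Type*} [Field k] [AddCommGroup A] [Module k A] (y z : A) : Prop :=
  y ∈ Submodule.span k {z} ∨ z ∈ Submodule.span k {y}

section Cmp
variable {k : Type*} {A : Type*} [Field k] [AddCommGroup A] [Module k A]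

theorem Cmp.refl (y : A) : Cmp (k := k) y y := Or.inl (Submodule.mem_span_singleton_self y)
theorem Cmp.symm {y z : A} (h : Cmp (k := k) y z) : Cmp (k := k) z y := Or.symm h
theorem Cmp.zero_left (z : A) : Cmp (k := k) 0 z := Or.inl (Submodule.zero_mem _)
theorem Cmp.zero_right (z : A) : Cmp (k := k) z 0 := Or.inr (Submodule.zero_mem _)
theorem Cmp.of_eq {y z : A} (h : y = z) : Cmp (k := k) y z := h ▸ Cmp.refl y

theorem Cmp.smul_right {y z : A} (s : k) (h : Cmp (k := k) y z) : Cmp (k := k) y (s • z) := by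
  by_cases hs : s = 0
  · rw [hs, zero_smul]; exact Cmp.zero_right y
  · rcases h with h | h
    · left
      obtain ⟨c, rfl⟩ := Submodule.mem_span_singleton.mp h
      refine Submodule.mem_span_singleton.mpr ⟨c * s⁻¹, ?_⟩
      rw [smul_smul, mul_assoc, inv_mul_cancel₀ hs, mul_one]
    · right
      exact Submodule.smul_mem _ _ h

/-- from pairwise comparability to a common generator -/
theorem exists_gen_of_cmp {ι : Type*} (v : ι → A) (h : ∀ i j, Cmp (k := k) (v i) (v j)) :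
    ∃ e : A, ∀ i, v i ∈ Submodule.span k {e} := by
  by_cases h0 : ∃ i, v i ≠ 0
  · obtain ⟨i, hi⟩ := h0
    refine ⟨v i, fun j => ?_⟩
    rcases h j i with h1 | h1
    · exact h1
    · obtain ⟨c, hc⟩ := Submodule.mem_span_singleton.mp h1
      have hc0 : c ≠ 0 := by
        rintro rfl
        rw [zero_smul] at hc
        exact hi hc.symm
      refine Submodule.mem_span_singleton.mpr ⟨c⁻¹, ?_⟩
      rw [← hc, smul_smul, inv_mul_cancel₀ hc0, one_smul]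
  · push Not at h0
    exact ⟨0, fun i => by rw [h0 i]; exact Submodule.zero_mem _⟩

end Cmp

section abstractL
variable {k : Type*} {A : Type*} [Field k] [CommRing A] [Algebra k A]
  (x0 x1 x2 : A) (p q m : ℕ) (N' N E L : ℕ) (s : k)

/-- Type I comparison. -/
theorem cmp_typeI (hp : 0 < p) (hpq : p < q)
    (R1 : x0 ^ N' = 0)
    (R2 : ∀ v0 v1 v2 : ℕ, ¬ (v0 = 0 ∧ v1 = 0 ∧ v2 = 0) → (v0 : ℤ) - p * v1 + q * v2 = 0 →
      (m : ℤ) ∣ (v2 : ℤ) - v1 → x0 ^ v0 * x1 ^ v1 * x2 ^ v2 = 0)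
    (R3 : x1 ^ E * x2 ^ L = s • x0 ^ N)
    (H1 : (N : ℤ) = q * L - p * E) (H1' : (m : ℤ) ∣ (E : ℤ) - L)
    (H2 : ∀ u₁ u₂ : ℕ, (m : ℤ) ∣ (u₁ : ℤ) - u₂ → 0 < (q : ℤ) * u₂ - p * u₁ →
      (q : ℤ) * u₂ - p * u₁ < N' → E ≤ u₁ ∧ L ≤ u₂)
    (H3 : 1 ≤ L) :
    ∀ (n : ℕ) (g : A) (a u₁ u₂ : ℕ), u₁ + u₂ = n → (a : ℤ) = q * u₂ - p * u₁ →
      (m : ℤ) ∣ (u₁ : ℤ) - u₂ → Cmp (k := k) (g * x0 ^ a) (g * x1 ^ u₁ * x2 ^ u₂) := by
  intro n
  induction n using Nat.strong_induction_on with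
  | _ n ih =>
    intro g a u₁ u₂ hn ha hlat
    rcases Nat.eq_zero_or_pos a with ha0 | ha0
    · subst ha0
      by_cases hu : u₁ = 0 ∧ u₂ = 0
      · obtain ⟨rfl, rfl⟩ := hu
        exact Cmp.of_eq (by simp)
      · have : x0 ^ 0 * x1 ^ u₁ * x2 ^ u₂ = 0 := by
          apply R2
          · rintro ⟨-, h1, h2⟩; exact hu ⟨h1, h2⟩
          · push_cast at ha ⊢; linarith
          · have : (u₂ : ℤ) - u₁ = -((u₁ : ℤ) - u₂) := by ring
            rw [this]; exact (dvd_neg.mpr hlat)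
        have h2 : g * x1 ^ u₁ * x2 ^ u₂ = 0 := by
          have : g * x1 ^ u₁ * x2 ^ u₂ = g * (x0 ^ 0 * x1 ^ u₁ * x2 ^ u₂) := by ring
          rw [this, ‹x0 ^ 0 * x1 ^ u₁ * x2 ^ u₂ = 0›, mul_zero]
        rw [h2]; exact Cmp.zero_right _
    · by_cases haN : N' ≤ a
      · rw [pow_eq_zero_of_le haN R1, mul_zero]; exact Cmp.zero_left _
      · rw [not_le] at haN
        obtain ⟨hE, hL⟩ := H2 u₁ u₂ hlat (by rw [← ha]; exact_mod_cast ha0)
          (by rw [← ha]; exact_mod_cast haN)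
        have hsplit : g * x1 ^ u₁ * x2 ^ u₂ =
            s • (g * x0 ^ N * x1 ^ (u₁ - E) * x2 ^ (u₂ - L)) := by
          have e1 : x1 ^ u₁ = x1 ^ (u₁ - E) * x1 ^ E := by
            rw [← pow_add, Nat.sub_add_cancel hE]
          have e2 : x2 ^ u₂ = x2 ^ (u₂ - L) * x2 ^ L := by
            rw [← pow_add, Nat.sub_add_cancel hL]
          calc g * x1 ^ u₁ * x2 ^ u₂
              = g * x1 ^ (u₁ - E) * x2 ^ (u₂ - L) * (x1 ^ E * x2 ^ L) := by rw [e1, e2]; ring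
            _ = g * x1 ^ (u₁ - E) * x2 ^ (u₂ - L) * (s • x0 ^ N) := by rw [R3]
            _ = s • (g * x0 ^ N * x1 ^ (u₁ - E) * x2 ^ (u₂ - L)) := by
                rw [mul_smul_comm]; congr 1; ring
        rw [hsplit]
        apply Cmp.smul_right
        have hcastE : ((u₁ - E : ℕ) : ℤ) = (u₁ : ℤ) - E := Nat.cast_sub hE
        have hcastL : ((u₂ - L : ℕ) : ℤ) = (u₂ : ℤ) - L := Nat.cast_sub hL
        have hlat' : (m : ℤ) ∣ ((u₁ - E : ℕ) : ℤ) - ((u₂ - L : ℕ) : ℤ) := by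
          rw [hcastE, hcastL]
          have : (u₁ : ℤ) - E - ((u₂ : ℤ) - L) = ((u₁ : ℤ) - u₂) - ((E : ℤ) - L) := by ring
          rw [this]; exact dvd_sub hlat H1'
        by_cases haN2 : N ≤ a
        · -- induct
          have := ih (u₁ - E + (u₂ - L)) (by omega) (g * x0 ^ N) (a - N) (u₁ - E) (u₂ - L) rfl
            (by rw [Nat.cast_sub haN2, hcastE, hcastL, ha, H1]; ring) hlat'
          have e : g * x0 ^ N * x0 ^ (a - N) = g * x0 ^ a := by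
            rw [mul_assoc, ← pow_add, Nat.add_sub_cancel' haN2]
          rw [e] at this
          exact this
        · rw [not_le] at haN2
          have hz : x0 ^ (N - a) * x1 ^ (u₁ - E) * x2 ^ (u₂ - L) = 0 := by
            apply R2
            · rintro ⟨h1, -, -⟩; omega
            · rw [Nat.cast_sub haN2.le, hcastE, hcastL, ha, H1]; ring
            · have : ((u₂ - L : ℕ) : ℤ) - ((u₁ - E : ℕ) : ℤ) =
                  -(((u₁ - E : ℕ) : ℤ) - ((u₂ - L : ℕ) : ℤ)) := by ring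
              rw [this]; exact (dvd_neg.mpr hlat')
          have e : g * x0 ^ N * x1 ^ (u₁ - E) * x2 ^ (u₂ - L) =
              g * x0 ^ a * (x0 ^ (N - a) * x1 ^ (u₁ - E) * x2 ^ (u₂ - L)) := by
            have : x0 ^ N = x0 ^ a * x0 ^ (N - a) := by
              rw [← pow_add, Nat.add_sub_cancel' haN2.le]
            rw [this]; ring
          rw [e, hz, mul_zero]
          exact Cmp.zero_right _

theorem cmp_pair₀ (hp : 0 < p) (hpq : p < q)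
    (R1 : x0 ^ N' = 0)
    (R2 : ∀ v0 v1 v2 : ℕ, ¬ (v0 = 0 ∧ v1 = 0 ∧ v2 = 0) → (v0 : ℤ) - p * v1 + q * v2 = 0 →
      (m : ℤ) ∣ (v2 : ℤ) - v1 → x0 ^ v0 * x1 ^ v1 * x2 ^ v2 = 0)
    (R3 : x1 ^ E * x2 ^ L = s • x0 ^ N)
    (H1 : (N : ℤ) = q * L - p * E) (H1' : (m : ℤ) ∣ (E : ℤ) - L)
    (H2 : ∀ u₁ u₂ : ℕ, (m : ℤ) ∣ (u₁ : ℤ) - u₂ → 0 < (q : ℤ) * u₂ - p * u₁ →
      (q : ℤ) * u₂ - p * u₁ < N' → E ≤ u₁ ∧ L ≤ u₂)
    (H3 : 1 ≤ L) (H4 : N' ≤ q)
    (d0 d1 d2 d0' d1' d2' : ℕ)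
    (hw1 : (d0 : ℤ) - p * d1 + q * d2 = d0' - p * d1' + q * d2')
    (hw2 : (m : ℤ) ∣ ((d2 : ℤ) - d1) - ((d2' : ℤ) - d1')) (h0 : d0' ≤ d0) :
    Cmp (k := k) (x0 ^ d0 * x1 ^ d1 * x2 ^ d2) (x0 ^ d0' * x1 ^ d1' * x2 ^ d2') := by
  obtain ⟨a, rfl⟩ := Nat.exists_eq_add_of_le h0
  have hp' : (0 : ℤ) < p := by exact_mod_cast hp
  have hq' : (0 : ℤ) < q := by exact_mod_cast hp.trans hpq
  by_cases h1 : d1' ≤ d1
  · obtain ⟨b1, rfl⟩ := Nat.exists_eq_add_of_le h1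
    by_cases h2 : d2' ≤ d2
    · obtain ⟨b2, rfl⟩ := Nat.exists_eq_add_of_le h2
      by_cases hz : a = 0 ∧ b1 = 0 ∧ b2 = 0
      · obtain ⟨rfl, rfl, rfl⟩ := hz
        exact Cmp.refl _
      · have : x0 ^ a * x1 ^ b1 * x2 ^ b2 = 0 := by
          apply R2 _ _ _ hz
          · push_cast at hw1; linarith
          · have : (b2 : ℤ) - b1 = (((d2' + b2 : ℕ) : ℤ) - ((d1' + b1 : ℕ) : ℤ)) -
                ((d2' : ℤ) - d1') := by push_cast; ring
            rw [this]; exact hw2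
        have e : x0 ^ (d0' + a) * x1 ^ (d1' + b1) * x2 ^ (d2' + b2) =
            x0 ^ d0' * x1 ^ d1' * x2 ^ d2' * (x0 ^ a * x1 ^ b1 * x2 ^ b2) := by
          rw [pow_add, pow_add, pow_add]; ring
        rw [e, this, mul_zero]
        exact Cmp.zero_left _
    · rw [not_le] at h2
      obtain ⟨b2, rfl⟩ := Nat.exists_eq_add_of_le h2.le
      have hb2 : 1 ≤ b2 := by omega
      have ha : q ≤ a := by
        have h3 : (a : ℤ) = p * b1 + q * b2 := by push_cast at hw1; linarith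
        have h4 : (q : ℤ) * 1 ≤ q * b2 := mul_le_mul_of_nonneg_left (by exact_mod_cast hb2) hq'.le
        have h5 : (0 : ℤ) ≤ p * b1 := by positivity
        have : (q : ℤ) ≤ a := by linarith
        exact_mod_cast this
      have : x0 ^ (d0' + a) = 0 := pow_eq_zero_of_le (by omega) R1
      rw [this, zero_mul, zero_mul]
      exact Cmp.zero_left _
  · rw [not_le] at h1
    obtain ⟨b1, rfl⟩ := Nat.exists_eq_add_of_le h1.le
    have hb1 : 1 ≤ b1 := by omega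
    by_cases h2 : d2 ≤ d2'
    · obtain ⟨b2, rfl⟩ := Nat.exists_eq_add_of_le h2
      have := cmp_typeI (k := k) x0 x1 x2 p q m N' N E L s hp hpq R1 R2 R3 H1 H1' H2 H3
        (b1 + b2) (x0 ^ d0' * x1 ^ d1 * x2 ^ d2) a b1 b2 rfl
        (by push_cast at hw1; linarith)
        (by
          have : (b1 : ℤ) - b2 = ((d2 : ℤ) - d1) - (((d2 + b2 : ℕ) : ℤ) - ((d1 + b1 : ℕ) : ℤ)) := by
            push_cast; ring
          rw [this]; exact hw2)
      have e1 : x0 ^ (d0' + a) * x1 ^ d1 * x2 ^ d2 = x0 ^ d0' * x1 ^ d1 * x2 ^ d2 * x0 ^ a := by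
        rw [pow_add]; ring
      have e2 : x0 ^ d0' * x1 ^ (d1 + b1) * x2 ^ (d2 + b2) =
          x0 ^ d0' * x1 ^ d1 * x2 ^ d2 * x1 ^ b1 * x2 ^ b2 := by
        rw [pow_add, pow_add]; ring
      rw [e1, e2]
      exact this
    · exfalso
      rw [not_le] at h2
      obtain ⟨b2, rfl⟩ := Nat.exists_eq_add_of_le h2.le
      push_cast at hw1
      have h3 : (0 : ℤ) ≤ a := by positivity
      have h4 : (0 : ℤ) ≤ q * b2 := by positivity
      have h5 : (p : ℤ) * 1 ≤ p * b1 := mul_le_mul_of_nonneg_left (by exact_mod_cast hb1) hp'.le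
      linarith

theorem cmp_pair (hp : 0 < p) (hpq : p < q)
    (R1 : x0 ^ N' = 0)
    (R2 : ∀ v0 v1 v2 : ℕ, ¬ (v0 = 0 ∧ v1 = 0 ∧ v2 = 0) → (v0 : ℤ) - p * v1 + q * v2 = 0 →
      (m : ℤ) ∣ (v2 : ℤ) - v1 → x0 ^ v0 * x1 ^ v1 * x2 ^ v2 = 0)
    (R3 : x1 ^ E * x2 ^ L = s • x0 ^ N)
    (H1 : (N : ℤ) = q * L - p * E) (H1' : (m : ℤ) ∣ (E : ℤ) - L)
    (H2 : ∀ u₁ u₂ : ℕ, (m : ℤ) ∣ (u₁ : ℤ) - u₂ → 0 < (q : ℤ) * u₂ - p * u₁ →
      (q : ℤ) * u₂ - p * u₁ < N' → E ≤ u₁ ∧ L ≤ u₂)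
    (H3 : 1 ≤ L) (H4 : N' ≤ q)
    (d0 d1 d2 d0' d1' d2' : ℕ)
    (hw1 : (d0 : ℤ) - p * d1 + q * d2 = d0' - p * d1' + q * d2')
    (hw2 : (m : ℤ) ∣ ((d2 : ℤ) - d1) - ((d2' : ℤ) - d1')) :
    Cmp (k := k) (x0 ^ d0 * x1 ^ d1 * x2 ^ d2) (x0 ^ d0' * x1 ^ d1' * x2 ^ d2') := by
  rcases le_total d0' d0 with h0 | h0
  · exact cmp_pair₀ x0 x1 x2 p q m N' N E L s hp hpq R1 R2 R3 H1 H1' H2 H3 H4 _ _ _ _ _ _
      hw1 hw2 h0
  · refine (cmp_pair₀ x0 x1 x2 p q m N' N E L s hp hpq R1 R2 R3 H1 H1' H2 H3 H4 _ _ _ _ _ _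
      hw1.symm ?_ h0).symm
    have : ((d2' : ℤ) - d1') - ((d2 : ℤ) - d1) = -(((d2 : ℤ) - d1) - ((d2' : ℤ) - d1')) := by ring
    rw [this]; exact (dvd_neg.mpr hw2)

end abstractL

end Groth.Agent.Lib.Helper18HJ
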