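import Groth.Agent.Lib.Helper18HJ6

set_option autoImplicit false
universe u

namespace Groth.Agent.Lib.Helper18HJ

open W4c2invhilbsl2 MvPolynomial Groth.Agent.Lib.Helper18HS

theorem rank_idealL (k : Type u) [Field k] (p q m : ℕ) (hp : 0 < p) (hpq : p < q)
    (hcop : Nat.Coprime p q) (hm : 0 < m) (c : List ℤ) (hc : IsHJDigits p q m c) (i : ℕ)
    (hi : 1 ≤ i) (hir : i ≤ c.length) (s : k) (ν : ℤ × ZMod m) :
    Module.rank k (piece k (wt3 p q m) (idealL k p q m c i s) ν) ≤ 1 := by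
  classical
  obtain ⟨j, rfl⟩ := Nat.exists_eq_add_of_le hi
  rw [show 1 + j = j + 1 by omega] at hir ⊢
  obtain ⟨hn0, hnlt, hnle⟩ := nN_bounds p q m hpq hcop hm c hc j hir
  obtain ⟨hl0, hle⟩ := lL_pos p q m hp hpq hcop hm c hc j hir
  set I := idealL k p q m c (j + 1) s with hI
  set N' := (nN p q m c j).toNat with hN'
  set N := (nN p q m c (j + 1)).toNat with hN
  set E := (eE p q m c (j + 1)).toNat with hE
  set L := (lL p q m c (j + 1)).toNat with hL
  have hN'c : (N' : ℤ) = nN p q m c j := Int.toNat_of_nonneg (by linarith)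
  have hNc : (N : ℤ) = nN p q m c (j + 1) := Int.toNat_of_nonneg hn0.le
  have hEc : (E : ℤ) = eE p q m c (j + 1) := Int.toNat_of_nonneg (by linarith)
  have hLc : (L : ℤ) = lL p q m c (j + 1) := Int.toNat_of_nonneg hl0.le
  let x0 : MvPolynomial (Fin 3) k ⧸ I := Ideal.Quotient.mk I (X 0)
  let x1 : MvPolynomial (Fin 3) k ⧸ I := Ideal.Quotient.mk I (X 1)
  let x2 : MvPolynomial (Fin 3) k ⧸ I := Ideal.Quotient.mk I (X 2)
  have hmono : ∀ d : Fin 3 →₀ ℕ, Ideal.Quotient.mk I (monomial d 1) =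
      x0 ^ d 0 * x1 ^ d 1 * x2 ^ d 2 := by
    intro d
    rw [monomial_fin3, C_1, one_mul]
    simp only [map_mul, map_pow, x0, x1, x2]
  have R1 : x0 ^ N' = 0 := by
    have h : (X 0 ^ N' : MvPolynomial (Fin 3) k) ∈ I := by
      rw [hI, idealL]
      apply Ideal.mem_sup_left
      apply Ideal.subset_span
      left
      rw [hN']
      rfl
    have h' := Ideal.Quotient.eq_zero_iff_mem.mpr h
    simpa [x0] using h'
  have R3 : x1 ^ E * x2 ^ L = s • x0 ^ N := by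
    have h : (C s * X 0 ^ N - X 1 ^ E * X 2 ^ L : MvPolynomial (Fin 3) k) ∈ I := by
      rw [hI, idealL]
      apply Ideal.mem_sup_left
      apply Ideal.subset_span
      right
      rfl
    have h' := Ideal.Quotient.eq_zero_iff_mem.mpr h
    rw [map_sub, sub_eq_zero] at h'
    have h2 : Ideal.Quotient.mk I (C s * X 0 ^ N) = s • x0 ^ N := by
      rw [C_mul', ← Ideal.Quotient.mkₐ_eq_mk k, map_smul, map_pow]
      rfl
    rw [h2] at h'
    rw [h']
    simp only [map_mul, map_pow, x1, x2]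
  have R2 : ∀ v0 v1 v2 : ℕ, ¬ (v0 = 0 ∧ v1 = 0 ∧ v2 = 0) → (v0 : ℤ) - p * v1 + q * v2 = 0 →
      (m : ℤ) ∣ (v2 : ℤ) - v1 → x0 ^ v0 * x1 ^ v1 * x2 ^ v2 = 0 := by
    intro v0 v1 v2 hne h1 h2
    set d : Fin 3 →₀ ℕ := Finsupp.equivFunOnFinite.symm ![v0, v1, v2] with hd
    have e0 : d 0 = v0 := by simp [hd]
    have e1 : d 1 = v1 := by simp [hd]
    have e2 : d 2 = v2 := by simp [hd]
    have hmem : (monomial d (1 : k)) ∈ I := by
      rw [hI, idealL]
      apply Ideal.mem_sup_right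
      rw [idealK]
      apply Ideal.subset_span
      refine ⟨d, ?_, ?_, rfl⟩
      · intro hd0
        apply hne
        rw [← e0, ← e1, ← e2, hd0]
        simp
      · apply Prod.ext
        · rw [weight_wt3_fst, e0, e1, e2, h1]; rfl
        · rw [weight_wt3_snd, e1, e2]
          exact (ZMod.intCast_zmod_eq_zero_iff_dvd _ _).mpr h2
    have h' := Ideal.Quotient.eq_zero_iff_mem.mpr hmem
    rw [hmono, e0, e1, e2] at h'
    exact h'
  have H1 : (N : ℤ) = q * L - p * E := by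
    rw [hNc, hEc, hLc]
    simp only [nN]; ring
  have H1' : (m : ℤ) ∣ (E : ℤ) - L := by
    rw [hEc, hLc, eE_sub_lL]
    exact ⟨hjP c (j + 1), by ring⟩
  have H2 : ∀ u₁ u₂ : ℕ, (m : ℤ) ∣ (u₁ : ℤ) - u₂ → 0 < (q : ℤ) * u₂ - p * u₁ →
      (q : ℤ) * u₂ - p * u₁ < N' → E ≤ u₁ ∧ L ≤ u₂ := by
    intro u₁ u₂ h1 h2 h3
    rw [hN'c] at h3
    obtain ⟨he, hl⟩ := lattice_ge p q m hp hpq hcop hm c hc j hir u₁ u₂ h1 h2 h3
    constructor <;> omega
  have H3 : 1 ≤ L := by omega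
  have H4 : N' ≤ q := by omega
  -- pairwise comparability
  have hpw : ∀ d d' : {d : Fin 3 →₀ ℕ // Finsupp.weight (wt3 p q m) d = ν},
      Cmp (k := k) (Ideal.Quotient.mk I (monomial d.1 (1 : k)))
        (Ideal.Quotient.mk I (monomial d'.1 (1 : k))) := by
    rintro ⟨d, hd⟩ ⟨d', hd'⟩
    rw [hmono, hmono]
    have hw1 := weight_wt3_fst p q m d
    have hw2 := weight_wt3_snd p q m d
    have hw1' := weight_wt3_fst p q m d'
    have hw2' := weight_wt3_snd p q m d'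
    rw [hd] at hw1 hw2
    rw [hd'] at hw1' hw2'
    apply cmp_pair (k := k) x0 x1 x2 p q m N' N E L s hp hpq R1 R2 R3 H1 H1' H2 H3 H4
    · rw [← hw1, ← hw1']
    · rw [← ZMod.intCast_zmod_eq_zero_iff_dvd]
      rw [Int.cast_sub, ← hw2, ← hw2', sub_self]
  obtain ⟨e, he⟩ := exists_gen_of_cmp (k := k)
    (fun d : {d : Fin 3 →₀ ℕ // Finsupp.weight (wt3 p q m) d = ν} =>
      Ideal.Quotient.mk I (monomial d.1 (1 : k))) hpw
  exact rank_piece_le_one k _ I ν e (fun d hd => he ⟨d, hd⟩)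

end Groth.Agent.Lib.Helper18HJ
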