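import Groth.Agent.Lib.Helper18HJ5

set_option autoImplicit false
universe u

namespace Groth.Agent.Lib.Helper18HJ

open W4c2invhilbsl2 MvPolynomial Groth.Agent.Lib.Helper18HS


theorem main15725 (k : Type u) [Field k] (p q m : ℕ) (hp : 0 < p) (hpq : p < q)
    (f : MvPolynomial (Fin 3) k)
    (hf : f ∈ weightedHomogeneousSubmodule k (wt3 p q m) ((q : ℤ) - (p : ℤ), (0 : ZMod m))) :
    ∃ a b : MvPolynomial (Fin 3) k, a ∈ weightedHomogeneousSubmodule k (wt3 p q m) 0 ∧
      b ∈ weightedHomogeneousSubmodule k (wt3 p q m) 0 ∧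
      f = a * X (0 : Fin 3) ^ (q - p) + b * (X (1 : Fin 3) * X (2 : Fin 3)) := by
  rw [mem_weightedHomogeneousSubmodule] at hf
  have hp' : (0 : ℤ) < p := by exact_mod_cast hp
  have hq' : (p : ℤ) < q := by exact_mod_cast hpq
  refine IsWeightedHomogeneous.induction_on
    (motive := fun f _ => ∃ a b : MvPolynomial (Fin 3) k,
      a ∈ weightedHomogeneousSubmodule k (wt3 p q m) 0 ∧
      b ∈ weightedHomogeneousSubmodule k (wt3 p q m) 0 ∧
      f = a * X (0 : Fin 3) ^ (q - p) + b * (X (1 : Fin 3) * X (2 : Fin 3))) ?_ ?_ ?_ hf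
  · exact ⟨0, 0, Submodule.zero_mem _, Submodule.zero_mem _, by simp⟩
  · rintro f₁ f₂ _ _ ⟨a₁, b₁, ha₁, hb₁, rfl⟩ ⟨a₂, b₂, ha₂, hb₂, rfl⟩
    exact ⟨a₁ + a₂, b₁ + b₂, Submodule.add_mem _ ha₁ ha₂, Submodule.add_mem _ hb₁ hb₂, by ring⟩
  · intro d r hd
    have hw1 := weight_wt3_fst p q m d
    have hw2 := weight_wt3_snd p q m d
    rw [hd] at hw1 hw2
    simp only at hw1 hw2
    by_cases h0 : q - p ≤ d 0
    · refine ⟨C r * (X 0 ^ (d 0 - (q - p)) * X 1 ^ d 1 * X 2 ^ d 2), 0, ?_,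
        Submodule.zero_mem _, ?_⟩
      · rw [mem_weightedHomogeneousSubmodule]
        apply isWH_mono3
        · rw [Nat.cast_sub h0, Nat.cast_sub hpq.le]
          simp only [Prod.fst_zero]
          linarith
        · simp only [Prod.snd_zero]
          exact hw2.symm
      · rw [monomial_fin3, zero_mul, add_zero]
        have : (X (0 : Fin 3) : MvPolynomial (Fin 3) k) ^ d 0 =
            X 0 ^ (d 0 - (q - p)) * X 0 ^ (q - p) := by
          rw [← pow_add, Nat.sub_add_cancel h0]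
        rw [this]; ring
    · rw [not_le] at h0
      have h0' : (d 0 : ℤ) < (q : ℤ) - p := by
        have : ((d 0 : ℕ) : ℤ) < ((q - p : ℕ) : ℤ) := by exact_mod_cast h0
        rwa [Nat.cast_sub hpq.le] at this
      have h1 : 1 ≤ d 1 := by
        by_contra hcon
        have hz : d 1 = 0 := by omega
        rw [hz] at hw1
        have h2 : (0 : ℤ) ≤ (q : ℤ) * d 2 := by positivity
        rcases Nat.eq_zero_or_pos (d 2) with h3 | h3
        · rw [h3] at hw1; push_cast at hw1; linarith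
        · have : (q : ℤ) * 1 ≤ q * d 2 :=
            mul_le_mul_of_nonneg_left (by exact_mod_cast h3) (by linarith)
          have : (0 : ℤ) ≤ d 0 := by positivity
          push_cast at hw1
          linarith
      have h2 : 1 ≤ d 2 := by
        by_contra hcon
        have hz : d 2 = 0 := by omega
        rw [hz] at hw1
        have : (0 : ℤ) ≤ (p : ℤ) * d 1 := by positivity
        push_cast at hw1
        linarith
      refine ⟨0, C r * (X 0 ^ d 0 * X 1 ^ (d 1 - 1) * X 2 ^ (d 2 - 1)), Submodule.zero_mem _,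
        ?_, ?_⟩
      · rw [mem_weightedHomogeneousSubmodule]
        apply isWH_mono3
        · rw [Nat.cast_sub h1, Nat.cast_sub h2]
          simp only [Prod.fst_zero]
          push_cast
          linarith
        · simp only [Prod.snd_zero]
          rw [Nat.cast_sub h1, Nat.cast_sub h2]
          have e : ((d 2 : ℤ) - ((1 : ℕ) : ℤ) - ((d 1 : ℤ) - ((1 : ℕ) : ℤ))) = (d 2 : ℤ) - d 1 := by
            ring
          rw [e]
          exact hw2.symm
      · rw [monomial_fin3, zero_mul, zero_add]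
        have e1 : (X (1 : Fin 3) : MvPolynomial (Fin 3) k) ^ d 1 = X 1 ^ (d 1 - 1) * X 1 := by
          rw [← pow_succ, Nat.sub_add_cancel h1]
        have e2 : (X (2 : Fin 3) : MvPolynomial (Fin 3) k) ^ d 2 = X 2 ^ (d 2 - 1) * X 2 := by
          rw [← pow_succ, Nat.sub_add_cancel h2]
        rw [e1, e2]; ring



theorem main15726 (k : Type u) [Field k] (p q m : ℕ) (hp : 0 < p) (hpq : p < q)
    (f : MvPolynomial (Fin 5) k)
    (hf : f ∈ weightedHomogeneousSubmodule k (wt5 p q m) ((q : ℤ) - (p : ℤ), (0 : ZMod m))) :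
    ∃ a₁₃ a₁₄ a₂₃ a₂₄ : MvPolynomial (Fin 5) k,
      a₁₃ ∈ weightedHomogeneousSubmodule k (wt5 p q m) 0 ∧
      a₁₄ ∈ weightedHomogeneousSubmodule k (wt5 p q m) 0 ∧
      a₂₃ ∈ weightedHomogeneousSubmodule k (wt5 p q m) 0 ∧
      a₂₄ ∈ weightedHomogeneousSubmodule k (wt5 p q m) 0 ∧
      f - (a₁₃ * (X (1 : Fin 5) * X 3) + a₁₄ * (X (1 : Fin 5) * X 4) +
          a₂₃ * (X (2 : Fin 5) * X 3) + a₂₄ * (X (2 : Fin 5) * X 4)) ∈
        Ideal.span {X (0 : Fin 5) ^ (q - p) - X 1 * X 4 + X 2 * X 3} := by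
  rw [mem_weightedHomogeneousSubmodule] at hf
  have hp' : (0 : ℤ) < p := by exact_mod_cast hp
  have hq' : (p : ℤ) < q := by exact_mod_cast hpq
  set P : Ideal (MvPolynomial (Fin 5) k) :=
    Ideal.span {X (0 : Fin 5) ^ (q - p) - X 1 * X 4 + X 2 * X 3} with hP
  refine IsWeightedHomogeneous.induction_on
    (motive := fun f _ => ∃ a₁₃ a₁₄ a₂₃ a₂₄ : MvPolynomial (Fin 5) k,
      a₁₃ ∈ weightedHomogeneousSubmodule k (wt5 p q m) 0 ∧
      a₁₄ ∈ weightedHomogeneousSubmodule k (wt5 p q m) 0 ∧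
      a₂₃ ∈ weightedHomogeneousSubmodule k (wt5 p q m) 0 ∧
      a₂₄ ∈ weightedHomogeneousSubmodule k (wt5 p q m) 0 ∧
      f - (a₁₃ * (X (1 : Fin 5) * X 3) + a₁₄ * (X (1 : Fin 5) * X 4) +
          a₂₃ * (X (2 : Fin 5) * X 3) + a₂₄ * (X (2 : Fin 5) * X 4)) ∈ P) ?_ ?_ ?_ hf
  · exact ⟨0, 0, 0, 0, Submodule.zero_mem _, Submodule.zero_mem _, Submodule.zero_mem _,
      Submodule.zero_mem _, by simp⟩
  · rintro f₁ f₂ _ _ ⟨a₁, b₁, c₁, d₁, ha₁, hb₁, hc₁, hd₁, h1⟩ ⟨a₂, b₂, c₂, d₂, ha₂, hb₂, hc₂, hd₂, h2⟩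
    refine ⟨a₁ + a₂, b₁ + b₂, c₁ + c₂, d₁ + d₂, Submodule.add_mem _ ha₁ ha₂,
      Submodule.add_mem _ hb₁ hb₂, Submodule.add_mem _ hc₁ hc₂, Submodule.add_mem _ hd₁ hd₂, ?_⟩
    have := P.add_mem h1 h2
    convert this using 1
    ring
  · intro d r hd
    have hw1 := weight_wt5_fst p q m d
    have hw2 := weight_wt5_snd p q m d
    rw [hd] at hw1 hw2
    simp only at hw1 hw2
    by_cases h0 : q - p ≤ d 0
    · set rest : MvPolynomial (Fin 5) k :=
        C r * (X 0 ^ (d 0 - (q - p)) * X 1 ^ d 1 * X 2 ^ d 2 * X 3 ^ d 3 * X 4 ^ d 4) with hrest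
      have hrW : rest ∈ weightedHomogeneousSubmodule k (wt5 p q m) 0 := by
        rw [mem_weightedHomogeneousSubmodule]
        apply isWH_mono5
        · rw [Nat.cast_sub h0, Nat.cast_sub hpq.le]
          simp only [Prod.fst_zero]
          linarith
        · simp only [Prod.snd_zero]
          exact hw2.symm
      refine ⟨0, rest, -rest, 0, Submodule.zero_mem _, hrW, Submodule.neg_mem _ hrW,
        Submodule.zero_mem _, ?_⟩
      rw [hP, Ideal.mem_span_singleton']
      refine ⟨rest, ?_⟩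
      rw [monomial_fin5']
      have : (X (0 : Fin 5) : MvPolynomial (Fin 5) k) ^ d 0 =
          X 0 ^ (d 0 - (q - p)) * X 0 ^ (q - p) := by
        rw [← pow_add, Nat.sub_add_cancel h0]
      rw [this, hrest]; ring
    · rw [not_le] at h0
      have h0' : (d 0 : ℤ) < (q : ℤ) - p := by
        have : ((d 0 : ℕ) : ℤ) < ((q - p : ℕ) : ℤ) := by exact_mod_cast h0
        rwa [Nat.cast_sub hpq.le] at this
      have h12 : 1 ≤ d 1 + d 2 := by
        by_contra hcon
        have hz1 : d 1 = 0 := by omega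
        have hz2 : d 2 = 0 := by omega
        rw [hz1, hz2] at hw1
        rcases Nat.eq_zero_or_pos (d 3 + d 4) with h3 | h3
        · have h3' : ((d 3 : ℤ) + d 4) = 0 := by exact_mod_cast h3
          rw [h3'] at hw1; push_cast at hw1; linarith
        · have h3' : (1 : ℤ) ≤ (d 3 : ℤ) + d 4 := by exact_mod_cast h3
          have : (q : ℤ) * 1 ≤ q * ((d 3 : ℤ) + d 4) :=
            mul_le_mul_of_nonneg_left h3' (by linarith)
          have : (0 : ℤ) ≤ d 0 := by positivity
          push_cast at hw1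
          linarith
      have h34 : 1 ≤ d 3 + d 4 := by
        by_contra hcon
        have hz1 : d 3 = 0 := by omega
        have hz2 : d 4 = 0 := by omega
        rw [hz1, hz2] at hw1
        have : (0 : ℤ) ≤ (p : ℤ) * ((d 1 : ℤ) + d 2) := by positivity
        push_cast at hw1
        linarith
      have hP0 : (0 : MvPolynomial (Fin 5) k) ∈ P := P.zero_mem
      by_cases h1 : 1 ≤ d 1
      · have e1 : (X (1 : Fin 5) : MvPolynomial (Fin 5) k) ^ d 1 = X 1 ^ (d 1 - 1) * X 1 := by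
          rw [← pow_succ, Nat.sub_add_cancel h1]
        by_cases h3 : 1 ≤ d 3
        · have e3 : (X (3 : Fin 5) : MvPolynomial (Fin 5) k) ^ d 3 = X 3 ^ (d 3 - 1) * X 3 := by
            rw [← pow_succ, Nat.sub_add_cancel h3]
          refine ⟨C r * (X 0 ^ d 0 * X 1 ^ (d 1 - 1) * X 2 ^ d 2 * X 3 ^ (d 3 - 1) * X 4 ^ d 4),
            0, 0, 0, ?_, Submodule.zero_mem _, Submodule.zero_mem _, Submodule.zero_mem _, ?_⟩
          · rw [mem_weightedHomogeneousSubmodule]
            apply isWH_mono5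
            · rw [Nat.cast_sub h1, Nat.cast_sub h3]
              simp only [Prod.fst_zero]; push_cast; linarith
            · simp only [Prod.snd_zero]
              rw [Nat.cast_sub h1, Nat.cast_sub h3]
              have e : ((d 3 : ℤ) - ((1 : ℕ) : ℤ) + d 4 - ((d 1 : ℤ) - ((1 : ℕ) : ℤ) + d 2)) =
                  (d 3 : ℤ) + d 4 - (d 1 + d 2) := by ring
              rw [e]; exact hw2.symm
          · convert hP0 using 1
            rw [monomial_fin5', e1, e3]; ring
        · have h4 : 1 ≤ d 4 := by omega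
          have e4 : (X (4 : Fin 5) : MvPolynomial (Fin 5) k) ^ d 4 = X 4 ^ (d 4 - 1) * X 4 := by
            rw [← pow_succ, Nat.sub_add_cancel h4]
          refine ⟨0, C r * (X 0 ^ d 0 * X 1 ^ (d 1 - 1) * X 2 ^ d 2 * X 3 ^ d 3 * X 4 ^ (d 4 - 1)),
            0, 0, Submodule.zero_mem _, ?_, Submodule.zero_mem _, Submodule.zero_mem _, ?_⟩
          · rw [mem_weightedHomogeneousSubmodule]
            apply isWH_mono5
            · rw [Nat.cast_sub h1, Nat.cast_sub h4]
              simp only [Prod.fst_zero]; push_cast; linarith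
            · simp only [Prod.snd_zero]
              rw [Nat.cast_sub h1, Nat.cast_sub h4]
              have e : ((d 3 : ℤ) + ((d 4 : ℤ) - ((1 : ℕ) : ℤ)) - ((d 1 : ℤ) - ((1 : ℕ) : ℤ) + d 2)) =
                  (d 3 : ℤ) + d 4 - (d 1 + d 2) := by ring
              rw [e]; exact hw2.symm
          · convert hP0 using 1
            rw [monomial_fin5', e1, e4]; ring
      · have h2 : 1 ≤ d 2 := by omega
        have e2 : (X (2 : Fin 5) : MvPolynomial (Fin 5) k) ^ d 2 = X 2 ^ (d 2 - 1) * X 2 := by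
          rw [← pow_succ, Nat.sub_add_cancel h2]
        by_cases h3 : 1 ≤ d 3
        · have e3 : (X (3 : Fin 5) : MvPolynomial (Fin 5) k) ^ d 3 = X 3 ^ (d 3 - 1) * X 3 := by
            rw [← pow_succ, Nat.sub_add_cancel h3]
          refine ⟨0, 0, C r * (X 0 ^ d 0 * X 1 ^ d 1 * X 2 ^ (d 2 - 1) * X 3 ^ (d 3 - 1) * X 4 ^ d 4),
            0, Submodule.zero_mem _, Submodule.zero_mem _, ?_, Submodule.zero_mem _, ?_⟩
          · rw [mem_weightedHomogeneousSubmodule]
            apply isWH_mono5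
            · rw [Nat.cast_sub h2, Nat.cast_sub h3]
              simp only [Prod.fst_zero]; push_cast; linarith
            · simp only [Prod.snd_zero]
              rw [Nat.cast_sub h2, Nat.cast_sub h3]
              have e : ((d 3 : ℤ) - ((1 : ℕ) : ℤ) + d 4 - ((d 1 : ℤ) + ((d 2 : ℤ) - ((1 : ℕ) : ℤ)))) =
                  (d 3 : ℤ) + d 4 - (d 1 + d 2) := by ring
              rw [e]; exact hw2.symm
          · convert hP0 using 1
            rw [monomial_fin5', e2, e3]; ring
        · have h4 : 1 ≤ d 4 := by omega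
          have e4 : (X (4 : Fin 5) : MvPolynomial (Fin 5) k) ^ d 4 = X 4 ^ (d 4 - 1) * X 4 := by
            rw [← pow_succ, Nat.sub_add_cancel h4]
          refine ⟨0, 0, 0,
            C r * (X 0 ^ d 0 * X 1 ^ d 1 * X 2 ^ (d 2 - 1) * X 3 ^ d 3 * X 4 ^ (d 4 - 1)),
            Submodule.zero_mem _, Submodule.zero_mem _, Submodule.zero_mem _, ?_, ?_⟩
          · rw [mem_weightedHomogeneousSubmodule]
            apply isWH_mono5
            · rw [Nat.cast_sub h2, Nat.cast_sub h4]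
              simp only [Prod.fst_zero]; push_cast; linarith
            · simp only [Prod.snd_zero]
              rw [Nat.cast_sub h2, Nat.cast_sub h4]
              have e : ((d 3 : ℤ) + ((d 4 : ℤ) - ((1 : ℕ) : ℤ)) -
                  ((d 1 : ℤ) + ((d 2 : ℤ) - ((1 : ℕ) : ℤ)))) =
                  (d 3 : ℤ) + d 4 - (d 1 + d 2) := by ring
              rw [e]; exact hw2.symm
          · convert hP0 using 1
            rw [monomial_fin5', e2, e4]; ring



theorem wt5_one (p q m : ℕ) : wt5 p q m 1 = (-(p : ℤ), (-1 : ZMod m)) := by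
  simp [wt5]

theorem wt5_three (p q m : ℕ) : wt5 p q m 3 = ((q : ℤ), (1 : ZMod m)) := by
  simp [wt5]

theorem main15724a (k : Type u) [Field k] (p q m : ℕ) (hp : 0 < p) (hpq : p < q)
    (f : MvPolynomial (Fin 5) k)
    (hf : f ∈ weightedHomogeneousSubmodule k (wt5 p q m) (wt5 p q m 1)) :
    ∃ a b : MvPolynomial (Fin 5) k, a ∈ weightedHomogeneousSubmodule k (wt5 p q m) 0 ∧
      b ∈ weightedHomogeneousSubmodule k (wt5 p q m) 0 ∧
      f - (a * X (1 : Fin 5) + b * X (2 : Fin 5)) ∈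
        Ideal.span {X (0 : Fin 5) ^ (q - p) - X 1 * X 4 + X 2 * X 3} := by
  rw [mem_weightedHomogeneousSubmodule, wt5_one] at hf
  have hp' : (0 : ℤ) < p := by exact_mod_cast hp
  have hq' : (p : ℤ) < q := by exact_mod_cast hpq
  set P : Ideal (MvPolynomial (Fin 5) k) :=
    Ideal.span {X (0 : Fin 5) ^ (q - p) - X 1 * X 4 + X 2 * X 3} with hP
  refine IsWeightedHomogeneous.induction_on
    (motive := fun f _ => ∃ a b : MvPolynomial (Fin 5) k,
      a ∈ weightedHomogeneousSubmodule k (wt5 p q m) 0 ∧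
      b ∈ weightedHomogeneousSubmodule k (wt5 p q m) 0 ∧
      f - (a * X (1 : Fin 5) + b * X (2 : Fin 5)) ∈ P) ?_ ?_ ?_ hf
  · exact ⟨0, 0, Submodule.zero_mem _, Submodule.zero_mem _, by simp⟩
  · rintro f₁ f₂ _ _ ⟨a₁, b₁, ha₁, hb₁, h1⟩ ⟨a₂, b₂, ha₂, hb₂, h2⟩
    refine ⟨a₁ + a₂, b₁ + b₂, Submodule.add_mem _ ha₁ ha₂, Submodule.add_mem _ hb₁ hb₂, ?_⟩
    have := P.add_mem h1 h2
    convert this using 1
    ring
  · intro d r hd
    have hw1 := weight_wt5_fst p q m d
    have hw2 := weight_wt5_snd p q m d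
    rw [hd] at hw1 hw2
    simp only at hw1 hw2
    have hP0 : (0 : MvPolynomial (Fin 5) k) ∈ P := P.zero_mem
    have h12 : 1 ≤ d 1 + d 2 := by
      by_contra hcon
      have hz1 : d 1 = 0 := by omega
      have hz2 : d 2 = 0 := by omega
      rw [hz1, hz2] at hw1
      have : (0 : ℤ) ≤ (q : ℤ) * ((d 3 : ℤ) + d 4) := by
        have : (0 : ℤ) ≤ q := by linarith
        positivity
      have : (0 : ℤ) ≤ d 0 := by positivity
      push_cast at hw1
      linarith
    by_cases h1 : 1 ≤ d 1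
    · have e1 : (X (1 : Fin 5) : MvPolynomial (Fin 5) k) ^ d 1 = X 1 ^ (d 1 - 1) * X 1 := by
        rw [← pow_succ, Nat.sub_add_cancel h1]
      refine ⟨C r * (X 0 ^ d 0 * X 1 ^ (d 1 - 1) * X 2 ^ d 2 * X 3 ^ d 3 * X 4 ^ d 4), 0, ?_,
        Submodule.zero_mem _, ?_⟩
      · rw [mem_weightedHomogeneousSubmodule]
        apply isWH_mono5
        · rw [Nat.cast_sub h1]
          simp only [Prod.fst_zero]; push_cast; linarith
        · simp only [Prod.snd_zero]
          rw [Nat.cast_sub h1]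
          have e : ((d 3 : ℤ) + d 4 - ((d 1 : ℤ) - ((1 : ℕ) : ℤ) + d 2)) =
              ((d 3 : ℤ) + d 4 - (d 1 + d 2)) + 1 := by push_cast; ring
          rw [e, Int.cast_add, ← hw2]; simp
      · convert hP0 using 1
        rw [monomial_fin5', e1]; ring
    · have h2 : 1 ≤ d 2 := by omega
      have e2 : (X (2 : Fin 5) : MvPolynomial (Fin 5) k) ^ d 2 = X 2 ^ (d 2 - 1) * X 2 := by
        rw [← pow_succ, Nat.sub_add_cancel h2]
      refine ⟨0, C r * (X 0 ^ d 0 * X 1 ^ d 1 * X 2 ^ (d 2 - 1) * X 3 ^ d 3 * X 4 ^ d 4),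
        Submodule.zero_mem _, ?_, ?_⟩
      · rw [mem_weightedHomogeneousSubmodule]
        apply isWH_mono5
        · rw [Nat.cast_sub h2]
          simp only [Prod.fst_zero]; push_cast; linarith
        · simp only [Prod.snd_zero]
          rw [Nat.cast_sub h2]
          have e : ((d 3 : ℤ) + d 4 - ((d 1 : ℤ) + ((d 2 : ℤ) - ((1 : ℕ) : ℤ)))) =
              ((d 3 : ℤ) + d 4 - (d 1 + d 2)) + 1 := by push_cast; ring
          rw [e, Int.cast_add, ← hw2]; simp
      · convert hP0 using 1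
        rw [monomial_fin5', e2]; ring

theorem main15724b (k : Type u) [Field k] (p q m : ℕ) (hp : 0 < p) (hpq : p < q)
    (f : MvPolynomial (Fin 5) k)
    (hf : f ∈ weightedHomogeneousSubmodule k (wt5 p q m) (wt5 p q m 3)) :
    ∃ a b : MvPolynomial (Fin 5) k, a ∈ weightedHomogeneousSubmodule k (wt5 p q m) 0 ∧
      b ∈ weightedHomogeneousSubmodule k (wt5 p q m) 0 ∧
      f - (a * X (3 : Fin 5) + b * X (4 : Fin 5)) ∈
        Ideal.span {X (0 : Fin 5) ^ (q - p) - X 1 * X 4 + X 2 * X 3} := by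
  rw [mem_weightedHomogeneousSubmodule, wt5_three] at hf
  have hp' : (0 : ℤ) < p := by exact_mod_cast hp
  have hq' : (p : ℤ) < q := by exact_mod_cast hpq
  set P : Ideal (MvPolynomial (Fin 5) k) :=
    Ideal.span {X (0 : Fin 5) ^ (q - p) - X 1 * X 4 + X 2 * X 3} with hP
  refine IsWeightedHomogeneous.induction_on
    (motive := fun f _ => ∃ a b : MvPolynomial (Fin 5) k,
      a ∈ weightedHomogeneousSubmodule k (wt5 p q m) 0 ∧
      b ∈ weightedHomogeneousSubmodule k (wt5 p q m) 0 ∧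
      f - (a * X (3 : Fin 5) + b * X (4 : Fin 5)) ∈ P) ?_ ?_ ?_ hf
  · exact ⟨0, 0, Submodule.zero_mem _, Submodule.zero_mem _, by simp⟩
  · rintro f₁ f₂ _ _ ⟨a₁, b₁, ha₁, hb₁, h1⟩ ⟨a₂, b₂, ha₂, hb₂, h2⟩
    refine ⟨a₁ + a₂, b₁ + b₂, Submodule.add_mem _ ha₁ ha₂, Submodule.add_mem _ hb₁ hb₂, ?_⟩
    have := P.add_mem h1 h2
    convert this using 1
    ring
  · intro d r hd
    have hw1 := weight_wt5_fst p q m d
    have hw2 := weight_wt5_snd p q m d
    rw [hd] at hw1 hw2
    simp only at hw1 hw2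
    have hP0 : (0 : MvPolynomial (Fin 5) k) ∈ P := P.zero_mem
    by_cases h3 : 1 ≤ d 3
    · have e3 : (X (3 : Fin 5) : MvPolynomial (Fin 5) k) ^ d 3 = X 3 ^ (d 3 - 1) * X 3 := by
        rw [← pow_succ, Nat.sub_add_cancel h3]
      refine ⟨C r * (X 0 ^ d 0 * X 1 ^ d 1 * X 2 ^ d 2 * X 3 ^ (d 3 - 1) * X 4 ^ d 4), 0, ?_,
        Submodule.zero_mem _, ?_⟩
      · rw [mem_weightedHomogeneousSubmodule]
        apply isWH_mono5
        · rw [Nat.cast_sub h3]
          simp only [Prod.fst_zero]; push_cast; linarith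
        · simp only [Prod.snd_zero]
          rw [Nat.cast_sub h3]
          have e : ((d 3 : ℤ) - ((1 : ℕ) : ℤ) + d 4 - ((d 1 : ℤ) + d 2)) =
              ((d 3 : ℤ) + d 4 - (d 1 + d 2)) - 1 := by push_cast; ring
          rw [e, Int.cast_sub, ← hw2]; simp
      · convert hP0 using 1
        rw [monomial_fin5', e3]; ring
    · by_cases h4 : 1 ≤ d 4
      · have e4 : (X (4 : Fin 5) : MvPolynomial (Fin 5) k) ^ d 4 = X 4 ^ (d 4 - 1) * X 4 := by
          rw [← pow_succ, Nat.sub_add_cancel h4]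
        refine ⟨0, C r * (X 0 ^ d 0 * X 1 ^ d 1 * X 2 ^ d 2 * X 3 ^ d 3 * X 4 ^ (d 4 - 1)),
          Submodule.zero_mem _, ?_, ?_⟩
        · rw [mem_weightedHomogeneousSubmodule]
          apply isWH_mono5
          · rw [Nat.cast_sub h4]
            simp only [Prod.fst_zero]; push_cast; linarith
          · simp only [Prod.snd_zero]
            rw [Nat.cast_sub h4]
            have e : ((d 3 : ℤ) + ((d 4 : ℤ) - ((1 : ℕ) : ℤ)) - ((d 1 : ℤ) + d 2)) =
                ((d 3 : ℤ) + d 4 - (d 1 + d 2)) - 1 := by push_cast; ring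
            rw [e, Int.cast_sub, ← hw2]; simp
        · convert hP0 using 1
          rw [monomial_fin5', e4]; ring
      · have hz3 : d 3 = 0 := by omega
        have hz4 : d 4 = 0 := by omega
        rw [hz3, hz4] at hw1 hw2
        have h0 : q - p ≤ d 0 := by
          have h5 : (0 : ℤ) ≤ (p : ℤ) * ((d 1 : ℤ) + d 2) := by positivity
          have : (q : ℤ) ≤ d 0 := by push_cast at hw1; linarith
          have : q ≤ d 0 := by exact_mod_cast this
          omega
        set rest : MvPolynomial (Fin 5) k :=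
          C r * (X 0 ^ (d 0 - (q - p)) * X 1 ^ d 1 * X 2 ^ d 2) with hrest
        have hr1 : rest * X 1 ∈ weightedHomogeneousSubmodule k (wt5 p q m) 0 := by
          rw [mem_weightedHomogeneousSubmodule]
          have : rest * X 1 = C r * (X 0 ^ (d 0 - (q - p)) * X 1 ^ (d 1 + 1) * X 2 ^ d 2 *
              X 3 ^ 0 * X 4 ^ 0) := by rw [hrest]; ring
          rw [this]
          apply isWH_mono5
          · rw [Nat.cast_sub h0, Nat.cast_sub hpq.le]
            simp only [Prod.fst_zero]; push_cast; push_cast at hw1; linarith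
          · simp only [Prod.snd_zero]
            have e : ((((0 : ℕ) : ℤ)) + ((0 : ℕ) : ℤ) - (((d 1 + 1 : ℕ) : ℤ) + (d 2 : ℤ))) =
                ((((0 : ℕ) : ℤ)) + ((0 : ℕ) : ℤ) - ((d 1 : ℤ) + d 2)) - 1 := by push_cast; ring
            rw [e, Int.cast_sub, ← hw2]; simp
        have hr2 : rest * X 2 ∈ weightedHomogeneousSubmodule k (wt5 p q m) 0 := by
          rw [mem_weightedHomogeneousSubmodule]
          have : rest * X 2 = C r * (X 0 ^ (d 0 - (q - p)) * X 1 ^ d 1 * X 2 ^ (d 2 + 1) *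
              X 3 ^ 0 * X 4 ^ 0) := by rw [hrest]; ring
          rw [this]
          apply isWH_mono5
          · rw [Nat.cast_sub h0, Nat.cast_sub hpq.le]
            simp only [Prod.fst_zero]; push_cast; push_cast at hw1; linarith
          · simp only [Prod.snd_zero]
            have e : ((((0 : ℕ) : ℤ)) + ((0 : ℕ) : ℤ) - ((d 1 : ℤ) + ((d 2 + 1 : ℕ) : ℤ))) =
                ((((0 : ℕ) : ℤ)) + ((0 : ℕ) : ℤ) - ((d 1 : ℤ) + d 2)) - 1 := by push_cast; ring
            rw [e, Int.cast_sub, ← hw2]; simp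
        refine ⟨-(rest * X 2), rest * X 1, Submodule.neg_mem _ hr2, hr1, ?_⟩
        rw [hP, Ideal.mem_span_singleton']
        refine ⟨rest, ?_⟩
        rw [monomial_fin5', hz3, hz4]
        have : (X (0 : Fin 5) : MvPolynomial (Fin 5) k) ^ d 0 =
            X 0 ^ (d 0 - (q - p)) * X 0 ^ (q - p) := by
          rw [← pow_add, Nat.sub_add_cancel h0]
        rw [this, hrest]; ring


end Groth.Agent.Lib.Helper18HJ
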