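import Mathlib

set_option autoImplicit false
universe u
open CategoryTheory Limits Polynomial

namespace Groth.Agent.Lib.Helper18.HenselColim

section
variable {J : Type u} [SmallCategory J] [IsFiltered J] (F : J ⥤ CommRingCat.{u})
    (c : Limits.Cocone F) (hc : Limits.IsColimit c)

omit [IsFiltered J] in
theorem range_mono {j k : J} (f : j ⟶ k) :
    Set.range (c.ι.app j).hom ⊆ Set.range (c.ι.app k).hom := by
  rintro _ ⟨y, rfl⟩
  refine ⟨(F.map f).hom y, ?_⟩
  have := c.w f
  rw [← this]
  rfl

include hc in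
theorem exists_common_stage (s : Finset c.pt) :
    ∃ j, ∀ x ∈ s, x ∈ Set.range (c.ι.app j).hom := by
  classical
  induction s using Finset.induction_on with
  | empty => exact ⟨IsFiltered.nonempty.some, by simp⟩
  | insert a s _ ih =>
    obtain ⟨j, hj⟩ := ih
    obtain ⟨k, y, hy⟩ := Concrete.isColimit_exists_rep F hc a
    refine ⟨IsFiltered.max j k, ?_⟩
    intro x hx
    rcases Finset.mem_insert.mp hx with rfl | hx
    · exact range_mono F c (IsFiltered.rightToMax j k) ⟨y, hy⟩
    · exact range_mono F c (IsFiltered.leftToMax j k) (hj x hx)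

include hc in
theorem isUnit_of_isUnit_ι (hloc : ∀ (i j : J) (a : i ⟶ j), IsLocalHom (F.map a).hom)
    (j : J) (x : F.obj j) (hx : IsUnit ((c.ι.app j).hom x)) : IsUnit x := by
  obtain ⟨y', hy'⟩ := hx.exists_right_inv
  obtain ⟨k, y, rfl⟩ := Concrete.isColimit_exists_rep F hc y'
  let l := IsFiltered.max j k
  let f : j ⟶ l := IsFiltered.leftToMax j k
  let g : k ⟶ l := IsFiltered.rightToMax j k
  have h1 : (c.ι.app l).hom ((F.map f).hom x * (F.map g).hom y) = (c.ι.app l).hom 1 := by
    rw [map_mul, map_one]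
    have e1 : (c.ι.app l).hom ((F.map f).hom x) = (c.ι.app j).hom x := by
      rw [← c.w f]; rfl
    have e2 : (c.ι.app l).hom ((F.map g).hom y) = (c.ι.app k).hom y := by
      rw [← c.w g]; rfl
    rw [e1, e2]
    exact hy'
  obtain ⟨l', a, b, hab⟩ := Concrete.isColimit_exists_of_rep_eq F hc _ _ h1
  have hab' : (F.map a).hom ((F.map f).hom x * (F.map g).hom y) = (F.map b).hom 1 := hab
  rw [map_mul, map_one] at hab'
  have hu : IsUnit ((F.map a).hom ((F.map f).hom x)) := IsUnit.of_mul_eq_one _ hab'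
  have hu' : IsUnit ((F.map (f ≫ a)).hom x) := by
    rw [F.map_comp]; exact hu
  have := hloc j l' (f ≫ a)
  exact IsUnit.of_map (F.map (f ≫ a)).hom x hu'

end

theorem henselian_of_isColimit {J : Type u} [SmallCategory J] [IsFiltered J] (F : J ⥤ CommRingCat.{u})
    (hF : ∀ j, HenselianLocalRing (F.obj j)) (hloc : ∀ (i j : J) (a : i ⟶ j), IsLocalHom (F.map a).hom)
    (c : Limits.Cocone F) (hc : Limits.IsColimit c) : HenselianLocalRing c.pt := by
  have hunit := isUnit_of_isUnit_ι F c hc hloc
  -- nontrivial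
  have hnt : Nontrivial c.pt := by
    refine ⟨0, 1, fun h01 => ?_⟩
    let j : J := IsFiltered.nonempty.some
    have h1 : (c.ι.app j).hom 0 = (c.ι.app j).hom 1 := by rw [map_zero, map_one]; exact h01
    obtain ⟨k, a, b, hab⟩ := Concrete.isColimit_exists_of_rep_eq F hc _ _ h1
    have hab' : (F.map a).hom 0 = (F.map b).hom 1 := hab
    rw [map_zero, map_one] at hab'
    have := (hF k).toIsLocalRing
    exact zero_ne_one hab'
  have hlocal : IsLocalRing c.pt := by
    refine IsLocalRing.of_isUnit_or_isUnit_one_sub_self (fun a => ?_)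
    obtain ⟨j, x, rfl⟩ := Concrete.isColimit_exists_rep F hc a
    have := (hF j).toIsLocalRing
    rcases IsLocalRing.isUnit_or_isUnit_one_sub_self x with h | h
    · exact Or.inl (h.map (c.ι.app j).hom)
    · right
      have := h.map (c.ι.app j).hom
      rwa [map_sub, map_one] at this
  refine { toIsLocalRing := hlocal, is_henselian := ?_ }
  intro f hf a₀ h₁ h₂
  classical
  -- common stage for coefficients and a₀
  obtain ⟨j, hj⟩ := exists_common_stage F c hc
    (insert a₀ ((Finset.range (f.natDegree + 1)).image f.coeff))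
  have hlift : f ∈ Polynomial.lifts (c.ι.app j).hom := by
    rw [Polynomial.lifts_iff_coeff_lifts]
    intro i
    by_cases hi : i ≤ f.natDegree
    · exact hj _ (Finset.mem_insert_of_mem
        (Finset.mem_image_of_mem _ (Finset.mem_range.mpr (by omega))))
    · rw [Polynomial.coeff_eq_zero_of_natDegree_lt (by omega)]
      exact ⟨0, map_zero _⟩
  obtain ⟨q, hq, -, hqm⟩ := Polynomial.lifts_and_natDegree_eq_and_monic hlift hf
  obtain ⟨b₀, hb₀⟩ := hj a₀ (Finset.mem_insert_self _ _)
  have hloc_j := (hF j).toIsLocalRing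
  have heval : ∀ (p : (F.obj j)[X]) (b : F.obj j),
      (p.map (c.ι.app j).hom).eval ((c.ι.app j).hom b) = (c.ι.app j).hom (p.eval b) := by
    intro p b
    rw [Polynomial.eval_map, Polynomial.eval₂_hom]
  -- nonunit
  have hq₁ : q.eval b₀ ∈ IsLocalRing.maximalIdeal (F.obj j) := by
    rw [IsLocalRing.mem_maximalIdeal, mem_nonunits_iff]
    intro hu
    have hu' := hu.map (c.ι.app j).hom
    rw [← heval, hq, hb₀] at hu'
    exact (IsLocalRing.mem_maximalIdeal _).mp h₁ hu'
  have hq₂ : IsUnit (q.derivative.eval b₀) := by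
    apply hunit
    rw [← heval, ← Polynomial.derivative_map, hq, hb₀]
    exact h₂
  obtain ⟨b, hb, hbb⟩ := (hF j).is_henselian q hqm b₀ hq₁ hq₂
  refine ⟨(c.ι.app j).hom b, ?_, ?_⟩
  · rw [Polynomial.IsRoot.def, ← hq, heval, hb, map_zero]
  · rw [IsLocalRing.mem_maximalIdeal, mem_nonunits_iff, ← hb₀, ← map_sub]
    intro hu
    exact (IsLocalRing.mem_maximalIdeal _).mp hbb (hunit j _ hu)

end Groth.Agent.Lib.Helper18.HenselColim
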