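import Mathlib

set_option linter.style.haveILetI false

open TensorProduct KaehlerDifferential IsLocalRing

universe u

namespace Groth.Agent.Helper18Hyp

section ExtPow

variable {R : Type u} [CommRing R] {M : Type u} [AddCommGroup M] [Module R M]

lemma span_one_tmul_eq_top (K : Type u) [Field K] [Algebra R K] :
    Submodule.span K (Set.range (fun m : M => (1 : K) ⊗ₜ[R] m)) = ⊤ := by
  rw [eq_top_iff]
  rintro x -
  induction x with
  | zero => exact Submodule.zero_mem _
  | add x y hx hy => exact Submodule.add_mem _ hx hy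
  | tmul c m =>
    have : c ⊗ₜ[R] m = c • ((1 : K) ⊗ₜ[R] m) := by
      rw [TensorProduct.smul_tmul', smul_eq_mul, mul_one]
    rw [this]
    exact Submodule.smul_mem _ _ (Submodule.subset_span ⟨m, rfl⟩)

/-- A basis of `K ⊗ M` consisting of vectors `1 ⊗ m`. -/
lemma exists_basis_tmul (K : Type u) [Field K] [Algebra R K] [Module.Finite R M] :
    ∃ (r : ℕ) (_ : r = Module.finrank K (K ⊗[R] M)) (m : Fin r → M)
      (b : Module.Basis (Fin r) K (K ⊗[R] M)),
      ∀ i, b i = (1 : K) ⊗ₜ[R] m i := by
  obtain ⟨f, hf, hspan, hli⟩ := Submodule.exists_fun_fin_finrank_span_eq K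
    (Set.range (fun m : M => (1 : K) ⊗ₜ[R] m))
  have hr : Module.finrank K (Submodule.span K (Set.range (fun m : M => (1 : K) ⊗ₜ[R] m))) =
      Module.finrank K (K ⊗[R] M) := by
    rw [span_one_tmul_eq_top]; exact finrank_top K _
  have hspan' : Submodule.span K (Set.range f) = ⊤ := hspan.trans (span_one_tmul_eq_top K)
  choose m hm using hf
  refine ⟨_, hr.symm ▸ rfl, m, Module.Basis.mk hli (by rw [hspan']), fun i => ?_⟩
  rw [Module.Basis.mk_apply]
  exact (hm i).symm

/-- If `n ≤ dim_K (K ⊗ M)`, every element annihilating `⋀^n M` maps to zero in `K`. -/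
lemma algebraMap_eq_zero_of_mem_annihilator (K : Type u) [Field K] [Algebra R K]
    [Module.Finite R M] (n : ℕ) (hn : n ≤ Module.finrank K (K ⊗[R] M)) (a : R)
    (ha : a ∈ Module.annihilator R (⋀[R]^n M)) : algebraMap R K a = 0 := by
  classical
  obtain ⟨r, hr, m, b, hb⟩ := exists_basis_tmul (R := R) (M := M) K
  subst hr
  -- θ : M → (Fin n → K)
  let θ : M →ₗ[R] (Fin n → K) :=
    { toFun := fun x j => b.repr ((1 : K) ⊗ₜ[R] x) (Fin.castLE hn j)
      map_add' := fun x y => by
        ext j
        simp [TensorProduct.tmul_add]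
      map_smul' := fun c x => by
        ext j
        have : (1 : K) ⊗ₜ[R] (c • x) = (algebraMap R K c) • ((1 : K) ⊗ₜ[R] x) := by
          rw [TensorProduct.tmul_smul, algebraMap_smul]
        change b.repr ((1 : K) ⊗ₜ[R] (c • x)) (Fin.castLE hn j) =
          c • b.repr ((1 : K) ⊗ₜ[R] x) (Fin.castLE hn j)
        rw [this, map_smul, Finsupp.smul_apply, smul_eq_mul, Algebra.smul_def] }
  let Φ0 : MultilinearMap R (fun _ : Fin n => M) K :=
    ((Matrix.detRowAlternating (R := K) (n := Fin n)).toMultilinearMap.restrictScalars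
      R).compLinearMap (fun _ => θ)
  let Φ : M [⋀^Fin n]→ₗ[R] K :=
    { Φ0 with
      map_eq_zero_of_eq' := fun v i j h hij =>
        (Matrix.detRowAlternating (R := K) (n := Fin n)).map_eq_zero_of_eq
          (fun k => θ (v k)) (by simp [h]) hij }
  let F : ⋀[R]^n M →ₗ[R] K := exteriorPower.alternatingMapLinearEquiv Φ
  let x : Fin n → M := fun j => m (Fin.castLE hn j)
  have hF : F (exteriorPower.ιMulti R n x) = 1 := by
    rw [exteriorPower.alternatingMapLinearEquiv_apply_ιMulti]
    change Matrix.det (fun i j => θ (x i) j) = 1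
    have : (fun i j => θ (x i) j) = (1 : Matrix (Fin n) (Fin n) K) := by
      ext i j
      change b.repr ((1 : K) ⊗ₜ[R] m (Fin.castLE hn i)) (Fin.castLE hn j) = _
      rw [← hb, Module.Basis.repr_self, Finsupp.single_apply, Matrix.one_apply]
      simp [Fin.castLE_inj]
    rw [this, Matrix.det_one]
  have h0 : a • exteriorPower.ιMulti R n x = 0 := Module.mem_annihilator.1 ha _
  have := congrArg F h0
  rw [map_smul, hF, map_zero, Algebra.smul_def, mul_one] at this
  exact this

/-- `⋀^n N = 0` if `N` is spanned by fewer than `n` elements. -/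
lemma subsingleton_exteriorPower_of_span {N : Type u} [AddCommGroup N] [Module R N] {r n : ℕ}
    (hrn : r < n) (v : Fin r → N) (hv : Submodule.span R (Set.range v) = ⊤) :
    Subsingleton (⋀[R]^n N) := by
  have h := exteriorPower.ιMulti_family_span_of_span (R := R) (n := n) hv
  haveI : IsEmpty (Set.powersetCard (Fin r) n) := by
    constructor
    rintro ⟨s, hs⟩
    have h1 : s.card = n := hs
    have h2 : s.card ≤ r := by simpa using Finset.card_le_univ s
    omega
  rw [Set.range_eq_empty, Submodule.span_empty] at h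
  exact (Submodule.subsingleton_iff R).1 (subsingleton_of_bot_eq_top h)

lemma exists_mem_annihilator_notMem [Module.Finite R M] (p : PrimeSpectrum R) (n : ℕ)
    (hn : Module.finrank p.asIdeal.ResidueField (p.asIdeal.ResidueField ⊗[R] M) < n) :
    ∃ s ∈ Module.annihilator R (⋀[R]^n M), s ∉ p.asIdeal := by
  classical
  obtain ⟨r, hr, m, b, hb⟩ := exists_basis_tmul (R := R) (M := M) p.asIdeal.ResidueField
  subst hr
  set K := p.asIdeal.ResidueField
  let N : Submodule R M := Submodule.span R (Set.range m)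
  -- K ⊗ (M/N) = 0
  have hsub : Subsingleton (K ⊗[R] (M ⧸ N)) := by
    let π : K ⊗[R] M →ₗ[K] K ⊗[R] (M ⧸ N) := LinearMap.baseChange K N.mkQ
    have hπ : Function.Surjective π := LinearMap.lTensor_surjective K (Submodule.mkQ_surjective N)
    have h0 : π = 0 := by
      apply b.ext
      intro i
      rw [hb, LinearMap.baseChange_tmul, LinearMap.zero_apply]
      have : N.mkQ (m i) = 0 := by
        rw [Submodule.mkQ_apply, Submodule.Quotient.mk_eq_zero]
        exact Submodule.subset_span ⟨i, rfl⟩
      rw [this, TensorProduct.tmul_zero]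
    constructor
    intro x y
    obtain ⟨x', rfl⟩ := hπ x
    obtain ⟨y', rfl⟩ := hπ y
    rw [h0]; rfl
  have hns : p ∉ Module.support R (M ⧸ N) := by
    rw [Module.mem_support_iff_nontrivial_residueField_tensorProduct]
    exact not_nontrivial_iff_subsingleton.2 hsub
  rw [Module.mem_support_iff_of_finite] at hns
  obtain ⟨s, hsA, hsp⟩ := SetLike.not_le_iff_exists.1 hns
  -- s • M ⊆ N
  have hsM : ∀ x : M, s • x ∈ N := by
    intro x
    have := Module.mem_annihilator.1 hsA (N.mkQ x)
    rw [← map_smul, Submodule.mkQ_apply, Submodule.Quotient.mk_eq_zero] at this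
    exact this
  -- ⋀^n N = 0
  let v : Fin _ → N := fun i => ⟨m i, Submodule.subset_span ⟨i, rfl⟩⟩
  have hv : Submodule.span R (Set.range v) = ⊤ := by
    apply SetLike.coe_injective
    apply Set.image_injective.mpr N.injective_subtype
    rw [← Submodule.map_coe, ← Submodule.span_image, ← Set.range_comp,
      ← Submodule.map_coe, ← LinearMap.range_eq_map, Submodule.range_subtype]
    rfl
  haveI := subsingleton_exteriorPower_of_span (R := R) hn v hv
  refine ⟨s ^ n, ?_, fun h => hsp (p.2.mem_of_pow_mem n h)⟩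
  rw [Module.mem_annihilator]
  intro y
  have hy : y ∈ Submodule.span R (Set.range (exteriorPower.ιMulti R n (M := M))) := by
    rw [exteriorPower.ιMulti_span]; trivial
  induction hy using Submodule.span_induction with
  | mem y hy =>
    obtain ⟨x, rfl⟩ := hy
    -- s^n • ιMulti x = ιMulti (s • x) = map N.subtype (ιMulti x') = 0
    have h1 : s ^ n • exteriorPower.ιMulti R n x = exteriorPower.ιMulti R n (fun i => s • x i) := by
      have := (exteriorPower.ιMulti R n (M := M)).toMultilinearMap.map_smul_univ (fun _ => s) x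
      simp only [Finset.prod_const, Finset.card_univ, Fintype.card_fin] at this
      exact this.symm
    rw [h1]
    let x' : Fin n → N := fun i => ⟨s • x i, hsM (x i)⟩
    have h2 : exteriorPower.ιMulti R n (fun i => s • x i) =
        exteriorPower.map n N.subtype (exteriorPower.ιMulti R n x') := by
      rw [exteriorPower.map_apply_ιMulti]; rfl
    rw [h2, Subsingleton.elim (exteriorPower.ιMulti R n x') 0, map_zero]
  | zero => exact smul_zero _
  | add x y _ _ hx hy => rw [smul_add, hx, hy, add_zero]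
  | smul c x _ hx => rw [smul_comm, hx, smul_zero]


/-- For a finite module `M` and a prime `p`: `Ann (⋀^n M) ⊆ p` iff `n ≤ dim_{κ(p)} κ(p) ⊗ M`. -/
lemma annihilator_exteriorPower_le_iff [Module.Finite R M] (p : PrimeSpectrum R) (n : ℕ) :
    Module.annihilator R (⋀[R]^n M) ≤ p.asIdeal ↔
      n ≤ Module.finrank p.asIdeal.ResidueField (p.asIdeal.ResidueField ⊗[R] M) := by
  constructor
  · intro h
    by_contra hlt
    obtain ⟨s, hs, hsp⟩ := exists_mem_annihilator_notMem (M := M) p n (not_le.1 hlt)
    exact hsp (h hs)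
  · intro hn a ha
    have := algebraMap_eq_zero_of_mem_annihilator (M := M) p.asIdeal.ResidueField n hn a ha
    rwa [Ideal.algebraMap_residueField_eq_zero] at this

end ExtPow

section Jac

variable {A P S : Type u} [CommRing A] [CommRing P] [CommRing S] [IsLocalRing S]
  [Algebra A P] [Algebra P S] [Algebra A S] [IsScalarTower A P S]

/-- Local Jacobian criterion for a hypersurface. -/
lemma formallySmooth_iff_D_ne_zero [Algebra.FormallySmooth A P]
    [Module.Free P Ω[P⁄A]] [Module.Finite P Ω[P⁄A]] (g : P) (hg : IsSMulRegular P g)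
    (hsurj : Function.Surjective (algebraMap P S))
    (hker : RingHom.ker (algebraMap P S) = Ideal.span {g}) :
    Algebra.FormallySmooth A S ↔
      (1 : ResidueField S) ⊗ₜ[P] (D A P g) ≠ 0 := by
  have hfg : (RingHom.ker (algebraMap P S)).FG := by
    rw [hker]; exact ⟨{g}, by simp⟩
  rw [Algebra.FormallySmooth.iff_injective_cotangentComplexBaseChange_residueField P hsurj hfg]
  have hgk : g ∈ RingHom.ker (algebraMap P S) := by
    rw [hker]; exact Ideal.subset_span rfl
  set K := ResidueField S
  let e : K ⊗[P] RingHom.ker (algebraMap P S) := (1 : K) ⊗ₜ[P] ⟨g, hgk⟩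
  have he : cotangentComplexBaseChange A S P K e = (1 : K) ⊗ₜ[P] (D A P g) := by
    change cotangentComplexBaseChange A S P K ((1 : K) ⊗ₜ[P] ⟨g, hgk⟩) = _
    rw [cotangentComplexBaseChange_tmul, one_smul, kerToTensor_apply]
  -- every element is a multiple of e
  have hspan : ∀ x : K ⊗[P] RingHom.ker (algebraMap P S), ∃ c : K, x = c • e := by
    intro x
    induction x with
    | zero => exact ⟨0, by simp⟩
    | add x y hx hy =>
      obtain ⟨c, rfl⟩ := hx
      obtain ⟨d, rfl⟩ := hy
      exact ⟨c + d, by rw [add_smul]⟩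
    | tmul c y =>
      obtain ⟨y, hy⟩ := y
      have hy' := hy
      rw [hker, Ideal.mem_span_singleton'] at hy'
      obtain ⟨a, rfl⟩ := hy'
      refine ⟨c * algebraMap P K a, ?_⟩
      have : (⟨a * g, hy⟩ : RingHom.ker (algebraMap P S)) = a • ⟨g, hgk⟩ := by
        ext; simp
      rw [this, TensorProduct.tmul_smul, TensorProduct.smul_tmul', ← TensorProduct.smul_tmul']
      simp only [e, TensorProduct.smul_tmul', smul_eq_mul, mul_one, Algebra.smul_def]
      rw [mul_comm]
  constructor
  · intro hinj h0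
    -- e ≠ 0 since ker ≅ P
    have hene : e ≠ 0 := by
      let φ : P →ₗ[P] RingHom.ker (algebraMap P S) := LinearMap.toSpanSingleton P _ ⟨g, hgk⟩
      have hφi : Function.Injective φ := by
        intro a b hab
        have := congrArg Subtype.val hab
        simp only [φ, LinearMap.toSpanSingleton_apply, SetLike.mk_smul_mk, smul_eq_mul] at this
        apply hg
        simpa [mul_comm] using this
      have hφs : Function.Surjective φ := by
        rintro ⟨y, hy⟩
        have hy' := hy
        rw [hker, Ideal.mem_span_singleton'] at hy'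
        obtain ⟨a, rfl⟩ := hy'
        exact ⟨a, by ext; simp [φ]⟩
      let E := LinearEquiv.ofBijective φ ⟨hφi, hφs⟩
      let ψ : K ⊗[P] RingHom.ker (algebraMap P S) →ₗ[P] K :=
        (TensorProduct.rid P K).toLinearMap ∘ₗ LinearMap.lTensor K E.symm.toLinearMap
      have hψ : ψ e = 1 := by
        have h1 : E.symm ⟨g, hgk⟩ = 1 := by
          rw [LinearEquiv.symm_apply_eq]
          ext; simp [E, φ]
        simp only [ψ, e, LinearMap.comp_apply, LinearMap.lTensor_tmul, LinearEquiv.coe_coe, h1,
          TensorProduct.rid_tmul, one_smul]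
      intro h0
      rw [h0, map_zero] at hψ
      exact zero_ne_one hψ
    exact hene (hinj (by rw [he, h0, map_zero]))
  · intro hne
    rw [injective_iff_map_eq_zero]
    intro x hx
    obtain ⟨c, rfl⟩ := hspan x
    rw [map_smul, he, smul_eq_zero] at hx
    rcases hx with hc | h0
    · rw [hc, zero_smul]
    · exact absurd h0 hne

end Jac

section Count

variable {A B R : Type u} [CommRing A] [CommRing B] [CommRing R] [Algebra A B] [Algebra B R]
  [Algebra A R] [IsScalarTower A B R]

lemma ker_mapBaseChange_eq (g : B) (hsurj : Function.Surjective (algebraMap B R))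
    (hker : RingHom.ker (algebraMap B R) = Ideal.span {g}) :
    LinearMap.ker (mapBaseChange A B R) = Submodule.span R {(1 : R) ⊗ₜ[B] D A B g} := by
  have hg0 : algebraMap B R g = 0 := by
    rw [← RingHom.mem_ker, hker]; exact Ideal.subset_span rfl
  apply le_antisymm
  · intro x hx
    have hx' : x ∈ LinearMap.range (kerCotangentToTensor A B R) := by
      rw [range_kerCotangentToTensor A B R hsurj]; exact hx
    obtain ⟨y, rfl⟩ := hx'
    obtain ⟨⟨y, hy⟩, rfl⟩ := Ideal.toCotangent_surjective _ y
    rw [kerCotangentToTensor_toCotangent]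
    have hy' := hy
    rw [hker, Ideal.mem_span_singleton'] at hy'
    obtain ⟨a, rfl⟩ := hy'
    change (1 : R) ⊗ₜ[B] D A B (a * g) ∈ _
    rw [Derivation.leibniz, TensorProduct.tmul_add, TensorProduct.tmul_smul,
      TensorProduct.tmul_smul]
    have h2 : g • ((1 : R) ⊗ₜ[B] (D A B) a) = 0 := by
      rw [TensorProduct.smul_tmul', Algebra.smul_def, hg0, zero_mul, TensorProduct.zero_tmul]
    rw [h2, add_zero]
    have h1 : a • ((1 : R) ⊗ₜ[B] (D A B) g) = (algebraMap B R a) • ((1 : R) ⊗ₜ[B] (D A B) g) := by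
      rw [algebraMap_smul]
    rw [h1]
    exact Submodule.smul_mem _ _ (Submodule.subset_span rfl)
  · rw [Submodule.span_le, Set.singleton_subset_iff]
    change mapBaseChange A B R ((1 : R) ⊗ₜ[B] D A B g) = 0
    rw [mapBaseChange_tmul, one_smul, map_D, hg0, map_zero]

lemma finrank_count (K : Type u) [Field K] [Algebra R K] [Module.Finite R (R ⊗[B] Ω[B⁄A])]
    (g : B) (hsurj : Function.Surjective (algebraMap B R))
    (hker : RingHom.ker (algebraMap B R) = Ideal.span {g}) :
    ((1 : K) ⊗ₜ[R] ((1 : R) ⊗ₜ[B] D A B g) = 0 →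
      Module.finrank K (K ⊗[R] (R ⊗[B] Ω[B⁄A])) = Module.finrank K (K ⊗[R] Ω[R⁄A])) ∧
    ((1 : K) ⊗ₜ[R] ((1 : R) ⊗ₜ[B] D A B g) ≠ 0 →
      Module.finrank K (K ⊗[R] (R ⊗[B] Ω[B⁄A])) = Module.finrank K (K ⊗[R] Ω[R⁄A]) + 1) := by
  classical
  set w : R ⊗[B] Ω[B⁄A] := (1 : R) ⊗ₜ[B] D A B g with hw
  set v' : K ⊗[R] (R ⊗[B] Ω[B⁄A]) := (1 : K) ⊗ₜ[R] w with hv'
  let G : K ⊗[R] (R ⊗[B] Ω[B⁄A]) →ₗ[K] K ⊗[R] Ω[R⁄A] := (mapBaseChange A B R).baseChange K
  have hGs : Function.Surjective G :=
    LinearMap.lTensor_surjective K (mapBaseChange_surjective A B R hsurj)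
  let f' : R →ₗ[R] R ⊗[B] Ω[B⁄A] := LinearMap.toSpanSingleton R _ w
  have hex : Function.Exact f' (mapBaseChange A B R) := by
    rw [LinearMap.exact_iff, ker_mapBaseChange_eq g hsurj hker]
    exact (LinearMap.span_singleton_eq_range R _ w)
  have hex' := lTensor_exact K hex (mapBaseChange_surjective A B R hsurj)
  have hkerG : LinearMap.ker G = Submodule.span K {v'} := by
    ext x
    rw [LinearMap.mem_ker, Submodule.mem_span_singleton]
    change (LinearMap.lTensor K (mapBaseChange A B R)) x = 0 ↔ _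
    rw [hex' x]
    constructor
    · rintro ⟨y, rfl⟩
      obtain ⟨c, rfl⟩ := (TensorProduct.rid R K).symm.surjective y
      refine ⟨c, ?_⟩
      rw [TensorProduct.rid_symm_apply, LinearMap.lTensor_tmul]
      simp only [f', LinearMap.toSpanSingleton_apply, one_smul, v']
      rw [TensorProduct.smul_tmul', smul_eq_mul, mul_one]
    · rintro ⟨c, rfl⟩
      refine ⟨c ⊗ₜ 1, ?_⟩
      rw [LinearMap.lTensor_tmul]
      simp only [f', LinearMap.toSpanSingleton_apply, one_smul, v']
      rw [TensorProduct.smul_tmul', smul_eq_mul, mul_one]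
  have hrn := LinearMap.finrank_range_add_finrank_ker G
  rw [LinearMap.range_eq_top.2 hGs, finrank_top, hkerG] at hrn
  rw [← hrn]
  constructor
  · intro h0
    rw [h0]; simp
  · intro h0
    rw [finrank_span_singleton h0]

lemma isSmoothAt_iff [Algebra.Smooth A B] (g : B) (hg : IsSMulRegular B g)
    (hsurj : Function.Surjective (algebraMap B R))
    (hker : RingHom.ker (algebraMap B R) = Ideal.span {g}) (p : PrimeSpectrum R) :
    Algebra.FormallySmooth A (Localization.AtPrime p.asIdeal) ↔
      (1 : p.asIdeal.ResidueField) ⊗ₜ[R] ((1 : R) ⊗ₜ[B] D A B g) ≠ 0 := by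
  let q : Ideal B := p.asIdeal.comap (algebraMap B R)
  let P := Localization.AtPrime q
  let S := Localization.AtPrime p.asIdeal
  let f : P →+* S := Localization.localRingHom q p.asIdeal (algebraMap B R) rfl
  letI : Algebra P S := f.toAlgebra
  have hfdef : ∀ x : P, algebraMap P S x = f x := fun _ => rfl
  haveI tBPS : IsScalarTower B P S := .of_algebraMap_eq (fun b => by
    rw [hfdef, Localization.localRingHom_to_map]
    exact IsScalarTower.algebraMap_apply B R S b)
  haveI tABS : IsScalarTower A B S := .of_algebraMap_eq (fun a => by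
    rw [IsScalarTower.algebraMap_apply A R S, IsScalarTower.algebraMap_apply A B R,
      ← IsScalarTower.algebraMap_apply B R S])
  haveI tAPS : IsScalarTower A P S := .of_algebraMap_eq (fun a => by
    rw [IsScalarTower.algebraMap_apply A B P, ← IsScalarTower.algebraMap_apply B P S,
      ← IsScalarTower.algebraMap_apply A B S])
  haveI : Algebra.FormallyEtale B P := Algebra.FormallyEtale.of_isLocalization q.primeCompl
  haveI : Algebra.FormallySmooth A P := Algebra.FormallySmooth.comp A B P
  let eΩ : P ⊗[B] Ω[B⁄A] ≃ₗ[P] Ω[P⁄A] := KaehlerDifferential.tensorKaehlerEquivOfFormallyEtale A B P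
  haveI : Module.Finite B Ω[B⁄A] := inferInstance
  haveI : Module.Projective B Ω[B⁄A] := inferInstance
  haveI : Module.Finite P Ω[P⁄A] := Module.Finite.equiv eΩ
  haveI : Module.Projective P Ω[P⁄A] := Module.Projective.of_equiv eΩ
  haveI : Module.Free P Ω[P⁄A] := Module.free_of_flat_of_isLocalRing
  let g' : P := algebraMap B P g
  have hg' : IsSMulRegular P g' := IsSMulRegular.of_isLocalization P q.primeCompl hg
  have hsurj' : Function.Surjective (algebraMap P S) :=
    RingHom.surjective_localRingHom_of_surjective (algebraMap B R) hsurj p.asIdeal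
  have hker' : RingHom.ker (algebraMap P S) = Ideal.span {g'} := by
    have hT : Submonoid.map (algebraMap B R) q.primeCompl = p.asIdeal.primeCompl :=
      Submonoid.map_comap_eq_of_surjective hsurj p.asIdeal.primeCompl
    have := IsLocalization.ker_map (S := P) (Q := S) (M := q.primeCompl)
      (T := p.asIdeal.primeCompl) (algebraMap B R) hT
    rw [hker, Ideal.map_span, Set.image_singleton] at this
    exact this
  have hJ := formallySmooth_iff_D_ne_zero (A := A) (P := P) (S := S) g' hg' hsurj' hker'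
  let K := ResidueField S
  haveI tBRK : IsScalarTower B R K := inferInstance
  haveI tBPK : IsScalarTower B P K := inferInstance
  let e1 : K ⊗[R] (R ⊗[B] Ω[B⁄A]) ≃ₗ[K] K ⊗[B] Ω[B⁄A] :=
    AlgebraTensorModule.cancelBaseChange B R K K Ω[B⁄A]
  let e2 : K ⊗[P] (P ⊗[B] Ω[B⁄A]) ≃ₗ[K] K ⊗[B] Ω[B⁄A] :=
    AlgebraTensorModule.cancelBaseChange B P K K Ω[B⁄A]
  let e3 : K ⊗[P] (P ⊗[B] Ω[B⁄A]) ≃ₗ[K] K ⊗[P] Ω[P⁄A] :=
    AlgebraTensorModule.congr (LinearEquiv.refl K K) eΩ
  let E := e1 ≪≫ₗ e2.symm ≪≫ₗ e3
  have hE : E ((1 : K) ⊗ₜ[R] ((1 : R) ⊗ₜ[B] D A B g)) = (1 : K) ⊗ₜ[P] (D A P g') := by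
    simp only [E, LinearEquiv.trans_apply, e1, e2, e3]
    rw [AlgebraTensorModule.cancelBaseChange_tmul, one_smul,
      AlgebraTensorModule.cancelBaseChange_symm_tmul, AlgebraTensorModule.congr_tmul]
    simp [eΩ, g']
  change _ ↔ (1 : K) ⊗ₜ[R] ((1 : R) ⊗ₜ[B] D A B g) ≠ 0
  rw [hJ, ← hE]
  exact (LinearEquiv.map_ne_zero_iff E)


theorem main [Algebra.Smooth A B] (n : ℕ)
    (hn : ∀ p : PrimeSpectrum B, Module.rankAtStalk (Ω[B⁄A]) p = n)
    (g : B) (hg : IsSMulRegular B g) (hsurj : Function.Surjective (algebraMap B R))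
    (hker : RingHom.ker (algebraMap B R) = Ideal.span {g}) (p : PrimeSpectrum R) :
    (⋀[R]^n (Ω[R⁄A])).annihilator ≤ p.asIdeal ↔ p ∉ Algebra.smoothLocus A R := by
  haveI : Algebra.FiniteType A R :=
    Algebra.FiniteType.of_surjective (IsScalarTower.toAlgHom A B R) hsurj
  haveI : Module.Finite R Ω[R⁄A] := inferInstance
  haveI : Module.Finite B Ω[B⁄A] := inferInstance
  haveI : Module.Projective B Ω[B⁄A] := inferInstance
  have EP := annihilator_exteriorPower_le_iff (M := Ω[R⁄A]) p n
  have hrank : Module.finrank p.asIdeal.ResidueField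
      (p.asIdeal.ResidueField ⊗[R] (R ⊗[B] Ω[B⁄A])) = n := by
    have h1 := Module.rankAtStalk_eq (M := R ⊗[B] Ω[B⁄A]) p
    rw [Module.rankAtStalk_baseChange, hn] at h1
    exact h1.symm
  obtain ⟨h0, h1⟩ := finrank_count (A := A) p.asIdeal.ResidueField g hsurj hker
  change Module.annihilator R (⋀[R]^n (Ω[R⁄A])) ≤ p.asIdeal ↔
    ¬ Algebra.FormallySmooth A (Localization.AtPrime p.asIdeal)
  rw [EP, isSmoothAt_iff g hg hsurj hker p, not_not]
  constructor
  · intro hle
    by_contra hne
    have := h1 hne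
    omega
  · intro h
    have := h0 h
    omega

end Count

end Groth.Agent.Helper18Hyp
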