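import Mathlib
import Groth.Prelude.Def_Smoothing

set_option autoImplicit false
set_option linter.style.haveILetI false
universe u

namespace Groth.Agent.Lib.Helper18IndSmoothIC
open Polynomial TensorProduct


/-- ind-smooth implies flat (equational criterion) -/
theorem flat_of_indSmooth (R : Type u) [CommRing R] (S : Type u) [CommRing S] [Algebra R S]
    (hS : Smoothing.IndSmooth R S) : Module.Flat R S := by
  apply Module.Flat.of_forall_isTrivialRelation
  intro l f x hfx
  let rel : MvPolynomial (Fin l) R := ∑ i, f i • MvPolynomial.X i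
  let I : Ideal (MvPolynomial (Fin l) R) := Ideal.span {rel}
  let A := MvPolynomial (Fin l) R ⧸ I
  haveI : Algebra.FinitePresentation R A :=
    Algebra.FinitePresentation.quotient (Submodule.fg_span_singleton rel)
  have hker : ∀ a ∈ I, MvPolynomial.aeval x a = 0 := by
    intro a ha
    have hle : I ≤ RingHom.ker (MvPolynomial.aeval x : MvPolynomial (Fin l) R →ₐ[R] S) := by
      rw [Ideal.span_le]
      rintro _ rfl
      simp only [SetLike.mem_coe, RingHom.mem_ker, rel, map_sum, map_smul, MvPolynomial.aeval_X]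
      exact hfx
    exact hle ha
  let φ : A →ₐ[R] S := Ideal.Quotient.liftₐ I (MvPolynomial.aeval x) hker
  obtain ⟨C, _, _, hsm, g, h, hgh⟩ := hS A inferInstance φ
  let xC : Fin l → C := fun i => g (Ideal.Quotient.mkₐ R I (MvPolynomial.X i))
  have hxC : ∑ i, f i • xC i = 0 := by
    have : ∑ i, f i • xC i = g (Ideal.Quotient.mkₐ R I rel) := by
      simp only [xC, rel, map_sum, map_smul]
    have h0 : Ideal.Quotient.mkₐ R I rel = 0 :=
      Ideal.Quotient.eq_zero_iff_mem.mpr (Ideal.subset_span rfl)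
    rw [this, h0, map_zero]
  haveI : Module.Flat R C := inferInstance
  obtain ⟨k, a, y, hay, haf⟩ :=
    Module.Flat.isTrivialRelation_of_sum_smul_eq_zero (R := R) (M := C) (f := f) (x := xC) hxC
  refine ⟨k, a, fun j => h (y j), fun i => ?_, haf⟩
  have h1 : x i = φ (Ideal.Quotient.mkₐ R I (MvPolynomial.X i)) := by
    change x i = MvPolynomial.aeval x (MvPolynomial.X i)
    rw [MvPolynomial.aeval_X]
  rw [h1, ← hgh, AlgHom.comp_apply]
  change h (xC i) = _
  rw [hay i, map_sum]
  simp only [map_smul]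



/-- vanishing of an element of `A₁ ⊗ B` in `S ⊗ B` (with `S` flat) already happens over a finitely
presented `A₁`-algebra mapping to `S`. -/
theorem descend_vanishing (R : Type u) [CommRing R] (S : Type u) [CommRing S] [Algebra R S]
    [Module.Flat R S] (B : Type u) [CommRing B] [Algebra R B]
    (A₁ : Type u) [CommRing A₁] [Algebra R A₁] [Algebra.FinitePresentation R A₁] (φ : A₁ →ₐ[R] S)
    (w : A₁ ⊗[R] B) (hw : Algebra.TensorProduct.map φ (AlgHom.id R B) w = 0) :
    ∃ (A₂ : Type u) (_ : CommRing A₂) (_ : Algebra R A₂), Algebra.FinitePresentation R A₂ ∧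
      ∃ (ψ : A₁ →ₐ[R] A₂) (χ : A₂ →ₐ[R] S), χ.comp ψ = φ ∧
        Algebra.TensorProduct.map ψ (AlgHom.id R B) w = 0 := by
  obtain ⟨k, μ, β, rfl⟩ := TensorProduct.exists_sum_tmul_eq w
  have hsum : ∑ e, β e ⊗ₜ[R] φ (μ e) = (0 : B ⊗[R] S) := by
    have := congrArg (TensorProduct.comm R S B) hw
    simpa using this
  have hinj : Function.Injective
      (LinearMap.rTensor S (Submodule.span R (Set.range β)).subtype) :=
    Module.Flat.rTensor_preserves_injective_linearMap _ (Submodule.injective_subtype _)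
  obtain ⟨l, a, y, hay, haβ⟩ :=
    TensorProduct.vanishesTrivially_of_sum_tmul_eq_zero_of_rTensor_injective R
      (m := β) (n := fun e => φ (μ e)) hinj hsum
  let P := MvPolynomial (Fin l) A₁
  let rel : Fin k → P := fun e => MvPolynomial.C (μ e) - ∑ j, a e j • MvPolynomial.X j
  let I : Ideal P := Ideal.span (Set.range rel)
  have hIfg : I.FG := Submodule.fg_span (Set.finite_range rel)
  haveI : Algebra.FinitePresentation R P := inferInstance
  haveI : Algebra.FinitePresentation R (P ⧸ I) := Algebra.FinitePresentation.quotient hIfg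
  let χ₀ : P →ₐ[R] S := MvPolynomial.aevalTower φ y
  have hχ₀ : ∀ p ∈ I, χ₀ p = 0 := by
    intro p hp
    have hle : I ≤ RingHom.ker (χ₀ : P →+* S) := by
      rw [Ideal.span_le]
      rintro _ ⟨e, rfl⟩
      have h1 := hay e
      simp only at h1
      simp only [SetLike.mem_coe, RingHom.mem_ker, rel, χ₀, AlgHom.coe_toRingHom, map_sub,
        MvPolynomial.aevalTower_C, map_sum, map_smul, MvPolynomial.aevalTower_X]
      have hX : ∀ j, (MvPolynomial.aevalTower φ y) (MvPolynomial.X j : P) = y j :=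
        fun j => MvPolynomial.aevalTower_X _ _ _
      rw [MvPolynomial.aevalTower_C, h1]
      simp_rw [hX]
      exact sub_self _
    exact hle hp
  let ψ : A₁ →ₐ[R] P ⧸ I := (Ideal.Quotient.mkₐ R I).comp (IsScalarTower.toAlgHom R A₁ P)
  let χ : P ⧸ I →ₐ[R] S := Ideal.Quotient.liftₐ I χ₀ hχ₀
  refine ⟨P ⧸ I, inferInstance, inferInstance, inferInstance, ψ, χ, ?_, ?_⟩
  · ext x
    change χ₀ (algebraMap A₁ P x) = φ x
    exact MvPolynomial.aevalTower_algebraMap _ _ _
  · rw [map_sum]
    simp only [Algebra.TensorProduct.map_tmul, AlgHom.id_apply]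
    have hψ : ∀ e, ψ (μ e) = ∑ j, a e j • Ideal.Quotient.mkₐ R I (MvPolynomial.X j) := by
      intro e
      have : Ideal.Quotient.mkₐ R I (rel e) = 0 :=
        Ideal.Quotient.eq_zero_iff_mem.mpr (Ideal.subset_span ⟨e, rfl⟩)
      simp only [rel, map_sub, map_sum, map_smul] at this
      rw [sub_eq_zero] at this
      exact this
    simp_rw [hψ, TensorProduct.sum_tmul, TensorProduct.smul_tmul]
    rw [Finset.sum_comm]
    simp_rw [← TensorProduct.tmul_sum, haβ, TensorProduct.tmul_zero, Finset.sum_const_zero]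


theorem eval₂_map_tensor (R : Type u) [CommRing R] (A C B : Type u) [CommRing A] [CommRing C]
    [CommRing B] [Algebra R A] [Algebra R C] [Algebra R B] (g : A →ₐ[R] C) (P : A[X])
    (y : A ⊗[R] B) :
    Polynomial.eval₂ (algebraMap C (C ⊗[R] B)) (Algebra.TensorProduct.map g (AlgHom.id R B) y)
      (P.map (g : A →+* C)) =
    Algebra.TensorProduct.map g (AlgHom.id R B) (Polynomial.eval₂ (algebraMap A (A ⊗[R] B)) y P) := by
  have hcomp : (algebraMap C (C ⊗[R] B)).comp (g : A →+* C) =
      ((Algebra.TensorProduct.map g (AlgHom.id R B) : A ⊗[R] B →ₐ[R] C ⊗[R] B) :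
        A ⊗[R] B →+* C ⊗[R] B).comp (algebraMap A (A ⊗[R] B)) := by
    ext a
    simp [Algebra.TensorProduct.algebraMap_apply]
  rw [Polynomial.eval₂_map, hcomp]
  exact (Polynomial.hom_eval₂ P (algebraMap A (A ⊗[R] B))
    ((Algebra.TensorProduct.map g (AlgHom.id R B) : A ⊗[R] B →ₐ[R] C ⊗[R] B) :
      A ⊗[R] B →+* C ⊗[R] B) y).symm

theorem map_map_tensor (R : Type u) [CommRing R] (A C D B : Type u) [CommRing A] [CommRing C]
    [CommRing D] [CommRing B] [Algebra R A] [Algebra R C] [Algebra R D] [Algebra R B]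
    (g : A →ₐ[R] C) (h : C →ₐ[R] D) (x : A ⊗[R] B) :
    Algebra.TensorProduct.map h (AlgHom.id R B) (Algebra.TensorProduct.map g (AlgHom.id R B) x) =
      Algebra.TensorProduct.map (h.comp g) (AlgHom.id R B) x := by
  induction x with
  | zero => simp
  | tmul a b => simp
  | add a b ha hb => simp only [map_add]; rw [ha, hb]

/-- integrality is transported along `f ⊗ id` -/
theorem isIntegral_map_tensor (R : Type u) [CommRing R] (A C B : Type u) [CommRing A] [CommRing C]
    [CommRing B] [Algebra R A] [Algebra R C] [Algebra R B] (g : A →ₐ[R] C) (y : A ⊗[R] B)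
    (hy : IsIntegral A y) : IsIntegral C (Algebra.TensorProduct.map g (AlgHom.id R B) y) := by
  obtain ⟨P, hPm, hPy⟩ := hy
  refine ⟨P.map (g : A →+* C), hPm.map _, ?_⟩
  rw [eval₂_map_tensor, hPy, map_zero]

theorem descend_integral (R : Type u) [CommRing R] (S : Type u) [CommRing S] [Algebra R S]
    [Module.Flat R S] (B : Type u) [CommRing B] [Algebra R B] (y : S ⊗[R] B)
    (hy : IsIntegral S y) :
    ∃ (A : Type u) (_ : CommRing A) (_ : Algebra R A), Algebra.FinitePresentation R A ∧
      ∃ (χ : A →ₐ[R] S) (yA : A ⊗[R] B), IsIntegral A yA ∧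
        Algebra.TensorProduct.map χ (AlgHom.id R B) yA = y := by
  classical
  rcases subsingleton_or_nontrivial S with hsub | hnt
  · haveI : Subsingleton (S ⊗[R] B) := Module.subsingleton S _
    exact ⟨R, inferInstance, inferInstance, inferInstance, Algebra.ofId R S, 0, isIntegral_zero,
      Subsingleton.elim _ _⟩
  obtain ⟨P, hPm, hPy⟩ := hy
  obtain ⟨m, s, b, rfl⟩ := TensorProduct.exists_sum_tmul_eq y
  let T : Finset S := P.support.image P.coeff ∪ Finset.univ.image s
  let A₁ := MvPolynomial T R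
  let φ : A₁ →ₐ[R] S := MvPolynomial.aeval (fun t : T => (t : S))
  have hsT : ∀ i, s i ∈ T := fun i =>
    Finset.mem_union_right _ (Finset.mem_image_of_mem s (Finset.mem_univ i))
  have hlifts : P ∈ Polynomial.lifts (φ : A₁ →+* S) := by
    rw [Polynomial.lifts_iff_coeff_lifts]
    intro n
    by_cases hn : P.coeff n = 0
    · exact ⟨0, by rw [hn]; exact map_zero _⟩
    · have : P.coeff n ∈ T :=
        Finset.mem_union_left _ (Finset.mem_image_of_mem _ (Polynomial.mem_support_iff.mpr hn))
      exact ⟨MvPolynomial.X ⟨P.coeff n, this⟩, MvPolynomial.aeval_X _ _⟩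
  obtain ⟨P₁, hP₁map, -, hP₁m⟩ := Polynomial.lifts_and_degree_eq_and_monic hlifts hPm
  let y₁ : A₁ ⊗[R] B := ∑ i, (MvPolynomial.X ⟨s i, hsT i⟩ : A₁) ⊗ₜ[R] b i
  have hy₁ : Algebra.TensorProduct.map φ (AlgHom.id R B) y₁ = ∑ i, s i ⊗ₜ[R] b i := by
    simp only [y₁, φ, map_sum, Algebra.TensorProduct.map_tmul, AlgHom.id_apply]
    refine Finset.sum_congr rfl (fun i _ => ?_)
    rw [MvPolynomial.aeval_X]
  let w₁ : A₁ ⊗[R] B := Polynomial.eval₂ (algebraMap A₁ (A₁ ⊗[R] B)) y₁ P₁
  have hw₁ : Algebra.TensorProduct.map φ (AlgHom.id R B) w₁ = 0 := by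
    simp only [w₁]
    rw [← eval₂_map_tensor, hP₁map, hy₁]
    exact hPy
  obtain ⟨A₂, _, _, hfp, ψ, χ, hχψ, hψw⟩ := descend_vanishing R S B A₁ φ w₁ hw₁
  refine ⟨A₂, inferInstance, inferInstance, hfp, χ,
    Algebra.TensorProduct.map ψ (AlgHom.id R B) y₁, ?_, ?_⟩
  · refine ⟨P₁.map (ψ : A₁ →+* A₂), hP₁m.map _, ?_⟩
    rw [eval₂_map_tensor]
    exact hψw
  · rw [map_map_tensor, hχψ, hy₁]

theorem main (R : Type u) [CommRing R] (S : Type u)
    [CommRing S] [Algebra R S] (hS : Smoothing.IndSmooth R S) (B : Type u) [CommRing B]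
    [Algebra R B] : Function.Bijective (TensorProduct.toIntegralClosure R S B) := by
  haveI := flat_of_indSmooth R S hS
  refine ⟨TensorProduct.toIntegralClosure_injective_of_flat, ?_⟩
  rintro ⟨y, hy⟩
  obtain ⟨A, _, _, hfp, χ, yA, hyA, rfl⟩ := descend_integral R S B y hy
  obtain ⟨C, _, _, hsm, g, h, hgh⟩ := hS A hfp χ
  have hyC := isIntegral_map_tensor R A C B g yA hyA
  obtain ⟨z, hz⟩ := (TensorProduct.toIntegralClosure_bijective_of_smooth
    (R := R) (S := C) (B := B)).2 ⟨_, hyC⟩
  have key : ∀ z : C ⊗[R] integralClosure R B,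
      ((TensorProduct.toIntegralClosure R S B)
        (Algebra.TensorProduct.map h (AlgHom.id R _) z)).1 =
      Algebra.TensorProduct.map h (AlgHom.id R B) ((TensorProduct.toIntegralClosure R C B z).1) := by
    intro z
    induction z with
    | zero => simp
    | tmul c t => rfl
    | add a b ha hb =>
      simp only [map_add, Subalgebra.coe_add]
      rw [ha, hb]
  refine ⟨Algebra.TensorProduct.map h (AlgHom.id R _) z, ?_⟩
  apply Subtype.ext
  rw [key z, hz]
  change Algebra.TensorProduct.map h (AlgHom.id R B)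
    (Algebra.TensorProduct.map g (AlgHom.id R B) yA) = Algebra.TensorProduct.map χ (AlgHom.id R B) yA
  rw [map_map_tensor, hgh]

end Groth.Agent.Lib.Helper18IndSmoothIC
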