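import Mathlib
import Groth.Prelude.Def_SchFin2
import Groth.Agent.Lib.Helper18FEtAlg
import Groth.Agent.Lib.Helper18FEt
import Groth.Agent.Lib.Helper18Fib

set_option autoImplicit false
set_option linter.style.haveILetI false
set_option linter.unusedSectionVars false
set_option linter.unusedTactic false
set_option warn.classDefReducibility false
namespace Groth.Agent.Lib.Helper18Inv

open SchFin SchFin.GeomPt TensorProduct CategoryTheory CategoryTheory.Limits
  Groth.Agent.Lib.Helper18FEtAlg Groth.Agent.Lib.Helper18FEt Groth.Agent.Lib.Helper18Fib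

universe u


/-- a ring is connected: nontrivial with only trivial idempotents -/
def ConnRing (L : Type*) [CommRing L] : Prop :=
  Nontrivial L ∧ ∀ e : L, IsIdempotentElem e → e = 0 ∨ e = 1

theorem connRing_of_connectedSpace {L : Type*} [CommRing L] [ConnectedSpace (PrimeSpectrum L)] :
    ConnRing L :=
  ⟨(PrimeSpectrum.nonempty_iff_nontrivial).1 (ConnectedSpace.toNonempty),
    fun _ he => idem_trivial_of_connected he⟩

theorem eval_of_connected {L L' : Type*} [CommRing L] [CommRing L'] [Algebra L L']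
    (hconn : ConnRing L') {F : Type*} [Finite F]
    (φ : (F → L) →ₐ[L] L') : ∃! i : F, ∀ b : F → L, φ b = algebraMap L L' (b i) := by
  classical
  haveI := Fintype.ofFinite F
  haveI := hconn.1
  have hid : ∀ i : F, φ (Pi.single i 1) = 0 ∨ φ (Pi.single i 1) = 1 := by
    intro i
    apply hconn.2
    have : IsIdempotentElem (Pi.single i (1 : L) : F → L) := by
      change (Pi.single i (1 : L) : F → L) * (Pi.single i (1 : L) : F → L) = Pi.single i (1 : L)
      rw [← Pi.single_mul, mul_one]
    exact this.map φ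
  have hsum : ∑ i : F, φ (Pi.single i (1 : L)) = 1 := by
    rw [← map_sum, Finset.univ_sum_single]
    exact map_one φ
  have hex : ∃ i₀ : F, φ (Pi.single i₀ 1) = 1 := by
    by_contra hne
    rw [not_exists] at hne
    have : ∀ i : F, φ (Pi.single i (1 : L)) = 0 := fun i => (hid i).resolve_right (hne i)
    rw [Finset.sum_eq_zero (fun i _ => this i)] at hsum
    exact zero_ne_one hsum
  obtain ⟨i₀, hi₀⟩ := hex
  have hother : ∀ j : F, j ≠ i₀ → φ (Pi.single j (1 : L)) = 0 := by
    intro j hj
    have h1 : φ (Pi.single j (1 : L)) * φ (Pi.single i₀ 1) = 0 := by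
      rw [← map_mul]
      have : (Pi.single j (1 : L) : F → L) * Pi.single i₀ 1 = 0 := by
        funext k
        by_cases hk : k = j
        · subst hk
          simp [Pi.single_eq_of_ne hj]
        · simp [Pi.single_eq_of_ne hk]
      rw [this, map_zero]
    rwa [hi₀, mul_one] at h1
  have hφ : ∀ b : F → L, φ b = algebraMap L L' (b i₀) := by
    intro b
    have hb : b = ∑ i : F, b i • (Pi.single i (1 : L) : F → L) := by
      funext k
      simp [Finset.sum_apply, Pi.single_apply]
    conv_lhs => rw [hb]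
    rw [map_sum, Finset.sum_eq_single i₀]
    · rw [map_smul, hi₀, Algebra.smul_def, mul_one]
    · intro j _ hj
      rw [map_smul, hother j hj, smul_zero]
    · intro h; exact absurd (Finset.mem_univ _) h
  refine ⟨i₀, hφ, fun i hi => ?_⟩
  by_contra hne
  have h1 := hi (Pi.single i₀ 1)
  rw [hi₀, Pi.single_eq_of_ne hne, map_zero] at h1
  exact one_ne_zero h1

theorem exists_map_of_connected {L : Type*} [CommRing L] (hconn : ConnRing L)
    {F E : Type*} [Finite F] (φ : (F → L) →ₐ[L] (E → L)) :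
    ∃! σ : E → F, ∀ (b : F → L) (e : E), φ b e = b (σ e) := by
  have h : ∀ e : E, ∃! i : F, ∀ b : F → L, ((Pi.evalAlgHom L (fun _ : E => L) e).comp φ) b =
      algebraMap L L (b i) := fun e => eval_of_connected hconn _
  choose σ hσ hσ' using h
  refine ⟨σ, fun b e => hσ e b, fun τ hτ => ?_⟩
  funext e
  exact hσ' e (τ e) (fun b => hτ b e)



variable {X : RSpace.{u}}

theorem main19550 (hW : X.IsWellConnected) (F E : Type) [Finite F] [Finite E]
    (f : ∀ p : X.pt, (F → X.ring p) →ₐ[X.ring p] (E → X.ring p))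
    (hf : ∀ (p q : X.pt) (h : p ≤ q) (g : F → X.ring p) (e : E),
      X.res h (f p g e) = f q (fun i => X.res h (g i)) e) :
    ∃ φ : E → F, ∀ (p : X.pt) (g : F → X.ring p) (e : E), f p g e = g (φ e) := by
  classical
  obtain ⟨⟨⟨p₀⟩, hzz⟩, hpw⟩ := main10.1 hW
  have hconn : ∀ p : X.pt, ConnRing (X.ring p) := fun p => by
    haveI := hpw p
    exact connRing_of_connectedSpace
  have h := fun p => (exists_map_of_connected (hconn p) (f p)).exists
  choose σ hσ using h
  have hstep : ∀ {p q : X.pt}, p ≤ q → σ p = σ q := by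
    intro p q hpq
    funext e
    by_contra hne
    have h1 := hf p q hpq (Pi.single (σ p e) 1) e
    rw [hσ p, hσ q, Pi.single_eq_same, map_one] at h1
    have h2 : X.res hpq ((Pi.single (σ p e) (1 : X.ring p) : F → X.ring p) (σ q e)) = 0 := by
      rw [Pi.single_eq_of_ne (Ne.symm hne), map_zero]
    rw [h2] at h1
    haveI := (hconn q).1
    exact one_ne_zero h1
  have hall : ∀ p q : X.pt, Relation.EqvGen (fun a b : X.pt => a ≤ b) p q → σ p = σ q := by
    intro p q h
    induction h with
    | rel a b hab => exact hstep hab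
    | refl a => rfl
    | symm a b _ ih => exact ih.symm
    | trans a b c _ _ ih1 ih2 => exact ih1.trans ih2
  refine ⟨σ p₀, fun p g e => ?_⟩
  rw [hσ p, hall p p₀ (hzz p p₀)]



theorem exists_maximal_idem (T : Type u) [CommRing T] [IsNoetherianRing T] [Nontrivial T] :
    ∃ f : T, IsIdempotentElem f ∧ ConnRing (T ⧸ Ideal.span {f}) := by
  let S : Set (Ideal T) := {I | ∃ f : T, IsIdempotentElem f ∧ f ≠ 1 ∧ I = Ideal.span {f}}
  have hS : S.Nonempty := ⟨Ideal.span {0}, 0, IsIdempotentElem.zero, zero_ne_one, rfl⟩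
  obtain ⟨I, ⟨f, hf, hf1, rfl⟩, hmax⟩ := set_has_maximal_iff_noetherian.2 inferInstance S hS
  refine ⟨f, hf, ?_, ?_⟩
  · rw [Ideal.Quotient.nontrivial_iff]
    intro htop
    have h1 : (1 : T) ∈ Ideal.span {f} := by rw [htop]; trivial
    obtain ⟨t, ht⟩ := Ideal.mem_span_singleton'.1 h1
    apply hf1
    calc f = (t * f) * f := by rw [ht, one_mul]
      _ = t * (f * f) := by ring
      _ = t * f := by rw [hf.eq]
      _ = 1 := ht
  · intro e he
    obtain ⟨e, rfl⟩ := Ideal.Quotient.mk_surjective e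
    have he' : e * e - e ∈ Ideal.span {f} := by
      rw [← Ideal.Quotient.eq, map_mul]; exact he
    obtain ⟨s, hs⟩ := Ideal.mem_span_singleton'.1 he'
    have hff : f * (1 - f) = 0 := by rw [mul_sub, mul_one, hf.eq, sub_self]
    let e' := e * (1 - f)
    have he'id : e' * e' = e' := by
      have h1 : (1 - f) * (1 - f) = 1 - f := (hf.one_sub).eq
      calc e' * e' = (e * e) * ((1 - f) * (1 - f)) := by ring
        _ = (e + s * f) * (1 - f) := by rw [h1, hs]; ring
        _ = e * (1 - f) + s * (f * (1 - f)) := by ring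
        _ = e' := by rw [hff, mul_zero, add_zero]
    have he'f : e' * f = 0 := by
      calc e' * f = e * (f * (1 - f)) := by ring
        _ = 0 := by rw [hff, mul_zero]
    have hmk : Ideal.Quotient.mk (Ideal.span {f}) e = Ideal.Quotient.mk (Ideal.span {f}) e' := by
      rw [Ideal.Quotient.eq]
      have : e - e' = e * f := by ring
      rw [this]
      exact Ideal.mem_span_singleton'.2 ⟨e, rfl⟩
    let f' := f + e'
    have hf'id : IsIdempotentElem f' := by
      change (f + e') * (f + e') = f + e'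
      calc (f + e') * (f + e') = f * f + 2 * (e' * f) + e' * e' := by ring
        _ = f + e' := by rw [hf.eq, he'f, he'id]; ring
    have hle : Ideal.span {f} ≤ Ideal.span {f'} := by
      rw [Ideal.span_singleton_le_iff_mem]
      refine Ideal.mem_span_singleton'.2 ⟨f, ?_⟩
      calc f * f' = f * f + e' * f := by ring
        _ = f := by rw [hf.eq, he'f, add_zero]
    by_cases hf'1 : f' = 1
    · right
      rw [hmk]
      have : e' = 1 - f := by
        have : f + e' = 1 := hf'1
        rw [← this]; ring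
      rw [this, map_sub, map_one]
      have : Ideal.Quotient.mk (Ideal.span {f}) f = 0 :=
        Ideal.Quotient.eq_zero_iff_mem.2 (Ideal.subset_span rfl)
      rw [this, sub_zero]
    · left
      rw [hmk]
      have hmem : Ideal.span {f'} ∈ S := ⟨f', hf'id, hf'1, rfl⟩
      have hnlt := hmax _ hmem
      have heq : Ideal.span {f'} ≤ Ideal.span {f} := by
        by_contra hnle
        exact hnlt (lt_of_le_not_ge hle hnle)
      have h2 : e' ∈ Ideal.span {f} := by
        apply heq
        refine Ideal.mem_span_singleton'.2 ⟨e', ?_⟩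
        calc e' * f' = e' * f + e' * e' := by ring
          _ = e' := by rw [he'f, he'id, zero_add]
      obtain ⟨t, ht⟩ := Ideal.mem_span_singleton'.1 h2
      have : e' = 0 := by
        calc e' = e' * e' := he'id.symm
          _ = t * (e' * f) := by rw [← ht]; ring
          _ = 0 := by rw [he'f, mul_zero]
      rw [this, map_zero]

theorem faithfullyFlat_of_connected {R L : Type u} [CommRing R] [CommRing L] [Algebra R L]
    [ConnectedSpace (PrimeSpectrum R)] [Module.Finite R L] [Algebra.Etale R L] [Nontrivial L] :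
    Module.FaithfullyFlat R L := by
  haveI : Module.FinitePresentation R L :=
    Module.FinitePresentation.of_finite_of_finitePresentation _ _
  haveI : Module.Flat R L := inferInstance
  have hconst : ∀ P P' : PrimeSpectrum R, Module.rankAtStalk L P = Module.rankAtStalk L P' :=
    fun P P' => (Module.isLocallyConstant_rankAtStalk (R := R) (M := L)).apply_eq_of_preconnectedSpace
      P P'
  apply Module.FaithfullyFlat.of_comap_surjective
  rw [← PrimeSpectrum.rankAtStalk_pos_iff_comap_surjective]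
  intro P
  rw [Nat.pos_iff_ne_zero]
  intro h0
  have : Module.rankAtStalk (R := R) L = 0 := by
    funext P'
    rw [← hconst P P', h0]
    rfl
  rw [Module.rankAtStalk_eq_zero_iff_subsingleton] at this
  exact not_subsingleton L this

theorem exists_connected_split {R A : Type u} [CommRing R] [IsNoetherianRing R]
    [ConnectedSpace (PrimeSpectrum R)]
    [CommRing A] [Algebra R A] [Module.Finite R A] [Algebra.Etale R A] :
    ∃ (L : Type u) (_ : CommRing L) (_ : Algebra R L) (_ : Module.FaithfullyFlat R L)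
      (_ : Module.Finite R L) (_ : Algebra.Etale R L),
      ConnRing L ∧ Algebra.IsFiniteSplit L (L ⊗[R] A) := by
  haveI : Module.FinitePresentation R A :=
    Module.FinitePresentation.of_finite_of_finitePresentation _ _
  haveI : Module.Flat R A := inferInstance
  obtain ⟨P₀⟩ : Nonempty (PrimeSpectrum R) := ConnectedSpace.toNonempty
  have hn : Module.rankAtStalk (R := R) A = (Module.rankAtStalk A P₀ : ℕ) := by
    funext P
    exact (Module.isLocallyConstant_rankAtStalk (R := R) (M := A)).apply_eq_of_preconnectedSpace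
      P P₀
  obtain ⟨T, _, _, _, _, _, hsplit⟩ := Algebra.IsFiniteSplit.exists_tensorProduct_of_etale hn
  haveI : Nontrivial R := (PrimeSpectrum.nonempty_iff_nontrivial).1 ⟨P₀⟩
  haveI : Nontrivial T := (FaithfulSMul.algebraMap_injective R T).nontrivial
  haveI : IsNoetherianRing T := IsNoetherianRing.of_finite R T
  obtain ⟨f, hf, hconn⟩ := exists_maximal_idem T
  let L := T ⧸ Ideal.span {f}
  haveI : Nontrivial L := hconn.1
  haveI : Algebra.Etale T L := etale_quot_idem hf
  haveI : Algebra.Etale R L := Algebra.Etale.comp R T L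
  haveI : Module.Finite R L := Module.Finite.trans T L
  haveI : Module.FaithfullyFlat R L := faithfullyFlat_of_connected
  refine ⟨L, inferInstance, inferInstance, inferInstance, inferInstance, inferInstance, hconn, ?_⟩
  haveI : Algebra.IsFiniteSplit L (L ⊗[T] (T ⊗[R] A)) := inferInstance
  exact Algebra.IsFiniteSplit.of_algEquiv (Algebra.TensorProduct.cancelBaseChange R T L L A)



section InvMod

variable {R : Type u} [CommRing R] {M : Type u} [AddCommGroup M] [Module R M] {G : Type u}

/-- the defect map -/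
def defectMap (ρ : G → (M →ₗ[R] M)) : M →ₗ[R] (G → M) :=
  LinearMap.pi fun g => ρ g - LinearMap.id

theorem defectMap_apply (ρ : G → (M →ₗ[R] M)) (m : M) (g : G) :
    defectMap ρ m g = ρ g m - m := rfl

variable {S : Type u} [CommRing S] [Algebra R S] [Module.Flat R S]
  {M' : Type u} [AddCommGroup M'] [Module R M'] [Module S M'] [IsScalarTower R S M']

theorem isBaseChange_of_exact_defect [Finite G] (α : M →ₗ[R] M') (hα : IsBaseChange S α)
    (ρ : G → (M →ₗ[R] M)) (ρ' : G → (M' →ₗ[S] M'))
    (hρ : ∀ g m, ρ' g (α m) = α (ρ g m))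
    {I I' : Type u} [AddCommGroup I] [Module R I] [AddCommGroup I'] [Module R I'] [Module S I']
    [IsScalarTower R S I'] (ι : I →ₗ[R] M) (ι' : I' →ₗ[S] M')
    (hι : Function.Injective ι) (hι' : Function.Injective ι')
    (hex : ∀ m, (∀ g, ρ g m = m) ↔ m ∈ Set.range ι)
    (hex' : ∀ m, (∀ g, ρ' g m = m) ↔ m ∈ Set.range ι')
    (β : I →ₗ[R] I') (hβ : ∀ x, ι' (β x) = α (ι x)) : IsBaseChange S β := by
  refine IsBaseChange.of_left_exact S β α (α.compLeft G)
    (f := ι) (g := defectMap ρ)
    (f' := ι') (g' := defectMap ρ') ?_ ?_ hα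
    (IsBaseChange.finitePow G hα) ?_ hι ?_ hι'
  · apply LinearMap.ext
    intro x
    exact (hβ x).symm
  · apply LinearMap.ext
    intro m
    funext g
    change α (ρ g m - m) = ρ' g (α m) - α m
    rw [map_sub, hρ]
  · intro m
    rw [← hex m]
    constructor
    · intro h g
      have := congrFun h g
      rw [defectMap_apply] at this
      exact sub_eq_zero.1 this
    · intro h
      funext g
      rw [defectMap_apply]
      exact sub_eq_zero.2 (h g)
  · intro m
    rw [← hex' m]
    constructor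
    · intro h g
      have := congrFun h g
      rw [defectMap_apply] at this
      exact sub_eq_zero.1 this
    · intro h
      funext g
      rw [defectMap_apply]
      exact sub_eq_zero.2 (h g)

end InvMod

section InvAlg

variable {R : Type u} [CommRing R] {A : Type u} [CommRing A] [Algebra R A] {G : Type u}

/-- the subalgebra of invariants of a family of endomorphisms -/
def invSub (ρ : G → (A →ₐ[R] A)) : Subalgebra R A where
  carrier := {a | ∀ g, ρ g a = a}
  mul_mem' := fun {a b} ha hb g => by rw [map_mul, ha g, hb g]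
  add_mem' := fun {a b} ha hb g => by rw [map_add, ha g, hb g]
  algebraMap_mem' := fun r g => (ρ g).commutes r

theorem mem_invSub (ρ : G → (A →ₐ[R] A)) (a : A) : a ∈ invSub ρ ↔ ∀ g, ρ g a = a := Iff.rfl

/-- flat base change of invariants -/
theorem invSub_baseChange [Finite G] (ρ : G → (A →ₐ[R] A)) (S : Type u) [CommRing S] [Algebra R S]
    [Module.Flat R S] :
    Function.Injective (Algebra.TensorProduct.map (AlgHom.id S S) (invSub ρ).val) ∧
    ∀ x : S ⊗[R] A, (∀ g, Algebra.TensorProduct.map (AlgHom.id S S) (ρ g) x = x) →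
      x ∈ Set.range (Algebra.TensorProduct.map (AlgHom.id S S) (invSub ρ).val) := by
  let ρS : G → (S ⊗[R] A →ₐ[S] S ⊗[R] A) := fun g => Algebra.TensorProduct.map (AlgHom.id S S) (ρ g)
  let β : invSub ρ →ₗ[R] invSub ρS :=
    { toFun := fun a => ⟨1 ⊗ₜ a.1, fun g => by
        change Algebra.TensorProduct.map (AlgHom.id S S) (ρ g) (1 ⊗ₜ a.1) = 1 ⊗ₜ a.1
        rw [Algebra.TensorProduct.map_tmul, a.2 g]; rfl⟩
      map_add' := fun a b => Subtype.ext (TensorProduct.tmul_add _ _ _)
      map_smul' := fun c a => Subtype.ext (TensorProduct.tmul_smul _ _ _) }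
  have hb : IsBaseChange S β := by
    refine isBaseChange_of_exact_defect (TensorProduct.mk R S A 1) (TensorProduct.isBaseChange R A S)
      (fun g => (ρ g).toLinearMap) (fun g => (ρS g).toLinearMap) ?_
      (invSub ρ).val.toLinearMap (invSub ρS).val.toLinearMap Subtype.val_injective
      Subtype.val_injective ?_ ?_ β (fun x => rfl)
    · intro g m
      change Algebra.TensorProduct.map (AlgHom.id S S) (ρ g) (1 ⊗ₜ m) = 1 ⊗ₜ (ρ g m)
      rw [Algebra.TensorProduct.map_tmul]; rfl
    · intro m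
      constructor
      · intro h; exact ⟨⟨m, h⟩, rfl⟩
      · rintro ⟨a, rfl⟩; exact a.2
    · intro m
      constructor
      · intro h; exact ⟨⟨m, h⟩, rfl⟩
      · rintro ⟨a, rfl⟩; exact a.2
  have key : ∀ x : S ⊗[R] (invSub ρ),
      Algebra.TensorProduct.map (AlgHom.id S S) (invSub ρ).val x = (hb.equiv x).1 := by
    intro x
    induction x using TensorProduct.induction_on with
    | zero => simp
    | tmul s a =>
      rw [Algebra.TensorProduct.map_tmul, IsBaseChange.equiv_tmul]
      change s ⊗ₜ[R] a.1 = s • ((1 : S) ⊗ₜ[R] a.1)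
      rw [TensorProduct.smul_tmul', smul_eq_mul, mul_one]
    | add x y hx hy =>
      rw [map_add, map_add, hx, hy]; rfl
  constructor
  · intro x y hxy
    rw [key, key] at hxy
    exact hb.equiv.injective (Subtype.ext hxy)
  · intro x hx
    refine ⟨hb.equiv.symm ⟨x, hx⟩, ?_⟩
    rw [key, LinearEquiv.apply_symm_apply]

end InvAlg



theorem exists_perm {L : Type u} [CommRing L] (hconn : ConnRing L) {n : ℕ} {G : Type u} [Group G]
    (ρ' : G → ((Fin n → L) →ₐ[L] (Fin n → L))) (h1 : ρ' 1 = AlgHom.id _ _)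
    (hmul : ∀ g h, ρ' (g * h) = (ρ' g).comp (ρ' h)) :
    ∃ σ : G → Fin n → Fin n, (∀ g b i, ρ' g b i = b (σ g i)) ∧ σ 1 = id ∧
      ∀ g h, σ (g * h) = σ h ∘ σ g := by
  have h := fun g => exists_map_of_connected hconn (ρ' g)
  choose σ hσ hσ' using h
  refine ⟨σ, hσ, ?_, ?_⟩
  · symm
    apply hσ' 1
    intro b e
    rw [h1]; rfl
  · intro g h
    symm
    apply hσ' (g * h)
    intro b e
    rw [hmul]
    change ρ' g (ρ' h b) e = _
    rw [hσ g, hσ h]
    rfl

theorem exists_struct {R A : Type u} [CommRing R] [IsNoetherianRing R]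
    [ConnectedSpace (PrimeSpectrum R)]
    [CommRing A] [Algebra R A] [Module.Finite R A] [Algebra.Etale R A]
    {G : Type u} [Group G] (ρ : G → (A →ₐ[R] A)) (h1 : ρ 1 = AlgHom.id R A)
    (hmul : ∀ g h, ρ (g * h) = (ρ g).comp (ρ h)) :
    ∃ (L : Type u) (_ : CommRing L) (_ : Algebra R L) (_ : Module.FaithfullyFlat R L)
      (_ : Module.Finite R L) (_ : Algebra.Etale R L)
      (n : ℕ) (θ : L ⊗[R] A ≃ₐ[L] (Fin n → L)) (s : Setoid (Fin n)),
      ConnRing L ∧
      (∀ x : L ⊗[R] A, (∀ g, Algebra.TensorProduct.map (AlgHom.id L L) (ρ g) x = x) ↔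
        ∀ i j, s.r i j → θ x i = θ x j) ∧
      (∀ i j, s.r i j → ∃ g, ∀ x, θ x j =
        θ (Algebra.TensorProduct.map (AlgHom.id L L) (ρ g) x) i) := by
  obtain ⟨L, _, _, _, _, _, hconn, hsplit⟩ := exists_connected_split (R := R) (A := A)
  obtain ⟨n, ⟨θ⟩⟩ := Algebra.IsFiniteSplit.nonempty_algEquiv_fun L (L ⊗[R] A)
  let ρL : G → (L ⊗[R] A →ₐ[L] L ⊗[R] A) := fun g =>
    Algebra.TensorProduct.map (AlgHom.id L L) (ρ g)
  let ρ' : G → ((Fin n → L) →ₐ[L] (Fin n → L)) := fun g =>
    (θ.toAlgHom.comp (ρL g)).comp θ.symm.toAlgHom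
  have hρ' : ∀ g x, ρ' g (θ x) = θ (ρL g x) := by
    intro g x
    change θ (ρL g (θ.symm (θ x))) = _
    rw [AlgEquiv.symm_apply_apply]
  have hρL1 : ρL 1 = AlgHom.id _ _ := by
    change Algebra.TensorProduct.map (AlgHom.id L L) (ρ 1) = _
    rw [h1, Algebra.TensorProduct.map_id]
  have hρLmul : ∀ g h, ρL (g * h) = (ρL g).comp (ρL h) := by
    intro g h
    change Algebra.TensorProduct.map (AlgHom.id L L) (ρ (g * h)) =
      (Algebra.TensorProduct.map (AlgHom.id L L) (ρ g)).comp
        (Algebra.TensorProduct.map (AlgHom.id L L) (ρ h))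
    rw [hmul, ← Algebra.TensorProduct.map_comp]
    rfl
  have h1' : ρ' 1 = AlgHom.id _ _ := by
    apply AlgHom.ext
    intro b
    change θ (ρL 1 (θ.symm b)) = b
    rw [hρL1]
    exact θ.apply_symm_apply b
  have hmul' : ∀ g h, ρ' (g * h) = (ρ' g).comp (ρ' h) := by
    intro g h
    apply AlgHom.ext
    intro b
    change θ (ρL (g * h) (θ.symm b)) = θ (ρL g (θ.symm (θ (ρL h (θ.symm b)))))
    rw [hρLmul, AlgEquiv.symm_apply_apply]
    rfl
  obtain ⟨σ, hσ, hσ1, hσmul⟩ := exists_perm hconn ρ' h1' hmul'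
  let s : Setoid (Fin n) :=
    { r := fun i j => ∃ g, σ g i = j
      iseqv :=
        { refl := fun i => ⟨1, by rw [hσ1]; rfl⟩
          symm := by
            rintro i j ⟨g, rfl⟩
            refine ⟨g⁻¹, ?_⟩
            have := congrFun (hσmul g g⁻¹) i
            rw [mul_inv_cancel, hσ1] at this
            exact this.symm
          trans := by
            rintro i j k ⟨g, rfl⟩ ⟨h, rfl⟩
            exact ⟨g * h, congrFun (hσmul g h) i⟩ } }
  refine ⟨L, inferInstance, inferInstance, inferInstance, inferInstance, inferInstance, n, θ, s,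
    hconn, ?_, ?_⟩
  · intro x
    constructor
    · rintro hx i j ⟨g, rfl⟩
      have := hσ g (θ x) i
      rw [hρ', hx g] at this
      exact this
    · intro hx g
      apply θ.injective
      funext i
      rw [← hρ', hσ]
      exact (hx i (σ g i) ⟨g, rfl⟩).symm
  · rintro i j ⟨g, rfl⟩
    refine ⟨g, fun x => ?_⟩
    rw [← hρ', hσ]



theorem map_invSub_val {R A : Type u} [CommRing R] [CommRing A] [Algebra R A] {G : Type u}
    (ρ : G → (A →ₐ[R] A)) (L : Type u) [CommRing L] [Algebra R L] (g : G)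
    (x : L ⊗[R] (invSub ρ)) :
    Algebra.TensorProduct.map (AlgHom.id L L) (ρ g)
      (Algebra.TensorProduct.map (AlgHom.id L L) (invSub ρ).val x) =
      Algebra.TensorProduct.map (AlgHom.id L L) (invSub ρ).val x := by
  induction x using TensorProduct.induction_on with
  | zero => simp
  | tmul l a =>
    rw [Algebra.TensorProduct.map_tmul, Algebra.TensorProduct.map_tmul]
    change _ ⊗ₜ[R] ρ g a.1 = _
    rw [a.2 g]
    rfl
  | add x y hx hy => rw [map_add, map_add, hx, hy]

theorem etale_invSub {R A : Type u} [CommRing R] [IsNoetherianRing R]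
    [ConnectedSpace (PrimeSpectrum R)]
    [CommRing A] [Algebra R A] [Module.Finite R A] [Algebra.Etale R A]
    {G : Type u} [Group G] [Finite G] (ρ : G → (A →ₐ[R] A)) (h1 : ρ 1 = AlgHom.id R A)
    (hmul : ∀ g h, ρ (g * h) = (ρ g).comp (ρ h)) :
    Algebra.Etale R (invSub ρ) := by
  obtain ⟨L, _, _, _, _, _, n, θ, s, hconn, hinv, -⟩ := exists_struct ρ h1 hmul
  obtain ⟨hψinj, hψsurj⟩ := invSub_baseChange ρ L
  let ψ := Algebra.TensorProduct.map (AlgHom.id L L) (invSub ρ).val
  let κ : (Fin n → L) →ₐ[L] (Quotient s → L) :=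
    { toFun := fun b c => b c.out
      map_one' := rfl
      map_mul' := fun _ _ => rfl
      map_zero' := rfl
      map_add' := fun _ _ => rfl
      commutes' := fun _ => rfl }
  let Φ : L ⊗[R] (invSub ρ) →ₐ[L] (Quotient s → L) := (κ.comp θ.toAlgHom).comp ψ
  have hconst : ∀ x : L ⊗[R] (invSub ρ), ∀ i j, s.r i j → θ (ψ x) i = θ (ψ x) j := fun x =>
    (hinv (ψ x)).1 (fun g => map_invSub_val ρ L g x)
  have hκ : ∀ b : Fin n → L, (∀ i j, s.r i j → b i = b j) → ∀ i, b i = κ b (Quotient.mk s i) := by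
    intro b hb i
    exact hb i _ (Quotient.exact (Quotient.out_eq (Quotient.mk s i)).symm)
  have hΦ : Function.Bijective Φ := by
    constructor
    · intro x y hxy
      apply hψinj
      apply θ.injective
      funext i
      rw [hκ _ (hconst x) i, hκ _ (hconst y) i]
      exact congrFun hxy _
    · intro c
      let b : Fin n → L := fun i => c (Quotient.mk s i)
      have hb : ∀ i j, s.r i j → b i = b j := fun i j hij => congrArg c (Quotient.sound hij)
      have hx₀ : ∀ g, Algebra.TensorProduct.map (AlgHom.id L L) (ρ g) (θ.symm b) = θ.symm b := by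
        rw [hinv]
        intro i j hij
        rw [AlgEquiv.apply_symm_apply]
        exact hb i j hij
      obtain ⟨x, hx⟩ := hψsurj _ hx₀
      refine ⟨x, ?_⟩
      funext q
      change θ (ψ x) q.out = c q
      have : ψ x = θ.symm b := hx
      rw [this, AlgEquiv.apply_symm_apply]
      change c (Quotient.mk s q.out) = c q
      rw [Quotient.out_eq]
  haveI : Algebra.Etale L (L ⊗[R] (invSub ρ)) :=
    Algebra.Etale.of_equiv (AlgEquiv.ofBijective Φ hΦ).symm
  exact Algebra.Etale.of_etale_tensorProduct_of_faithfullyFlat L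



theorem exists_point {R L : Type u} [CommRing R] [CommRing L] [Algebra R L]
    [Module.FaithfullyFlat R L] [Module.Finite R L] [Algebra.Etale R L]
    {Ω : Type u} [Field Ω] [IsAlgClosed Ω] [Algebra R Ω] : Nonempty (L →ₐ[R] Ω) := by
  haveI : Nontrivial (Ω ⊗[R] L) := inferInstance
  obtain ⟨P⟩ : Nonempty (PrimeSpectrum (Ω ⊗[R] L)) := inferInstance
  exact ⟨(ptEquiv L).symm P⟩

theorem connRing_field (Ω : Type u) [Field Ω] : ConnRing Ω :=
  ⟨inferInstance, fun e he => by
    have : e * (e - 1) = 0 := by rw [mul_sub, mul_one, he.eq, sub_self]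
    rcases mul_eq_zero.1 this with h | h
    · exact Or.inl h
    · exact Or.inr (sub_eq_zero.1 h)⟩

theorem exists_conj_of_eq_on_inv {R A : Type u} [CommRing R] [IsNoetherianRing R]
    [ConnectedSpace (PrimeSpectrum R)]
    [CommRing A] [Algebra R A] [Module.Finite R A] [Algebra.Etale R A]
    {G : Type u} [Group G] [Finite G] (ρ : G → (A →ₐ[R] A)) (h1 : ρ 1 = AlgHom.id R A)
    (hmul : ∀ g h, ρ (g * h) = (ρ g).comp (ρ h))
    {Ω : Type u} [Field Ω] [IsAlgClosed Ω] [Algebra R Ω] (χ₁ χ₂ : A →ₐ[R] Ω)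
    (h : ∀ a : invSub ρ, χ₁ a.1 = χ₂ a.1) : ∃ g, ∀ a, χ₂ a = χ₁ (ρ g a) := by
  classical
  obtain ⟨L, _, _, _, _, _, n, θ, s, hconn, hinv, horb⟩ := exists_struct ρ h1 hmul
  obtain ⟨hψinj, hψsurj⟩ := invSub_baseChange ρ L
  obtain ⟨lam⟩ := exists_point (R := R) (L := L) (Ω := Ω)
  letI : Algebra L Ω := lam.toRingHom.toAlgebra
  haveI : IsScalarTower R L Ω := IsScalarTower.of_algebraMap_eq fun r => (lam.commutes r).symm
  let χt : (A →ₐ[R] Ω) → (L ⊗[R] A →ₐ[L] Ω) := fun χ =>
    Algebra.TensorProduct.lift (Algebra.ofId L Ω) χ fun _ _ => .all _ _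
  have hχt : ∀ χ l a, χt χ (l ⊗ₜ a) = algebraMap L Ω l * χ a := fun χ l a => rfl
  have hev : ∀ χ : A →ₐ[R] Ω, ∃ i : Fin n, ∀ x, χt χ x = algebraMap L Ω (θ x i) := by
    intro χ
    obtain ⟨i, hi, -⟩ := eval_of_connected (connRing_field Ω) ((χt χ).comp θ.symm.toAlgHom)
    refine ⟨i, fun x => ?_⟩
    have := hi (θ x)
    change χt χ (θ.symm (θ x)) = _ at this
    rwa [AlgEquiv.symm_apply_apply] at this
  obtain ⟨i₁, hi₁⟩ := hev χ₁
  obtain ⟨i₂, hi₂⟩ := hev χ₂
  -- agreement on the image of invariants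
  have hagree : ∀ y : L ⊗[R] (invSub ρ),
      χt χ₁ (Algebra.TensorProduct.map (AlgHom.id L L) (invSub ρ).val y) =
      χt χ₂ (Algebra.TensorProduct.map (AlgHom.id L L) (invSub ρ).val y) := by
    intro y
    induction y using TensorProduct.induction_on with
    | zero => simp
    | tmul l a =>
      rw [Algebra.TensorProduct.map_tmul, hχt, hχt]
      change _ * χ₁ a.1 = _ * χ₂ a.1
      rw [h a]
    | add x y hx hy => rw [map_add, map_add, map_add, hx, hy]
  have hrel : s.r i₁ i₂ := by
    by_contra hne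
    let b : Fin n → L := fun j => if s.r i₁ j then 1 else 0
    have hb : ∀ i j, s.r i j → b i = b j := by
      intro i j hij
      have : s.r i₁ i ↔ s.r i₁ j :=
        ⟨fun h' => s.iseqv.trans h' hij, fun h' => s.iseqv.trans h' (s.iseqv.symm hij)⟩
      change (if s.r i₁ i then (1 : L) else 0) = if s.r i₁ j then 1 else 0
      simp only [this]
    have hx₀ : ∀ g, Algebra.TensorProduct.map (AlgHom.id L L) (ρ g) (θ.symm b) = θ.symm b := by
      rw [hinv]
      intro i j hij
      rw [AlgEquiv.apply_symm_apply]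
      exact hb i j hij
    obtain ⟨y, hy⟩ := hψsurj _ hx₀
    have h3 := hagree y
    rw [hy, hi₁, hi₂, AlgEquiv.apply_symm_apply] at h3
    have hb1 : b i₁ = 1 := if_pos (s.iseqv.refl i₁)
    have hb2 : b i₂ = 0 := if_neg hne
    rw [hb1, hb2, map_one, map_zero] at h3
    exact one_ne_zero h3
  obtain ⟨g, hg⟩ := horb i₁ i₂ hrel
  refine ⟨g, fun a => ?_⟩
  have h4 : χt χ₂ (1 ⊗ₜ a) = χt χ₁ (Algebra.TensorProduct.map (AlgHom.id L L) (ρ g) (1 ⊗ₜ a)) := by
    rw [hi₂, hi₁, hg]
  rw [Algebra.TensorProduct.map_tmul, hχt, hχt, map_one, one_mul] at h4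
  rw [h4]
  change algebraMap L Ω 1 * _ = _
  rw [map_one, one_mul]



variable {X : RSpace.{u}} {G : Type u}

/-- the algebra of invariants of a family of endomorphisms -/
noncomputable def invAlg (A : Alg X) (ρ : G → (A ⟶ A)) : Alg X where
  carrier p := invSub (fun g => (ρ g).app p)
  res {p q} h :=
    { toFun := fun a => ⟨A.res h a.1, fun g => by
        change (ρ g).app q (A.res h a.1) = A.res h a.1
        rw [← (ρ g).compat h, a.2 g]⟩
      map_one' := Subtype.ext (map_one (A.res h))
      map_mul' := fun a b => Subtype.ext (map_mul (A.res h) a.1 b.1)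
      map_zero' := Subtype.ext (map_zero (A.res h))
      map_add' := fun a b => Subtype.ext (map_add (A.res h) a.1 b.1) }
  res_algebraMap {p q} h a := Subtype.ext (A.res_algebraMap h a)
  res_self p b := Subtype.ext (A.res_self p b.1)
  res_comp {p q s} h h' b := Subtype.ext (A.res_comp h h' b.1)

/-- the inclusion of the invariants -/
noncomputable def invAlg.ι (A : Alg X) (ρ : G → (A ⟶ A)) : invAlg A ρ ⟶ A :=
  ⟨fun p => (invSub (fun g => (ρ g).app p)).val, fun _ _ => rfl⟩

theorem invAlg.ι_comp (A : Alg X) (ρ : G → (A ⟶ A)) (g : G) :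
    invAlg.ι A ρ ≫ ρ g = invAlg.ι A ρ := by
  apply Alg.hom_ext
  intro p
  apply AlgHom.ext
  intro a
  exact a.2 g

/-- the universal property of the invariants -/
noncomputable def invAlg.lift (A : Alg X) (ρ : G → (A ⟶ A)) {T : Alg X} (t : T ⟶ A)
    (ht : ∀ g, t ≫ ρ g = t) : T ⟶ invAlg A ρ :=
  ⟨fun p => (t.app p).codRestrict (invSub (fun g => (ρ g).app p)) (fun x g => by
      have := ht g
      have h2 : (t ≫ ρ g).app p x = t.app p x := by rw [this]
      exact h2),
    fun {p q} h b => Subtype.ext (t.compat h b)⟩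

theorem invAlg_isQcoh [Finite G] (hflat : ∀ (p q : X.pt) (h : p ≤ q), (X.res h).Flat)
    (A : Alg X) (ρ : G → (A ⟶ A)) (hA : A.IsQcoh) : (invAlg A ρ).IsQcoh := by
  intro p q h
  letI : Algebra (X.ring p) (X.ring q) := (X.res h).toAlgebra
  haveI : Module.Flat (X.ring p) (X.ring q) := hflat p q h
  letI : Module (X.ring p) (A.carrier q) := Module.compHom _ (X.res h)
  haveI : IsScalarTower (X.ring p) (X.ring q) (A.carrier q) :=
    IsScalarTower.of_algebraMap_smul fun _ _ => rfl
  letI : Module (X.ring p) ((invAlg A ρ).carrier q) := Module.compHom _ (X.res h)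
  haveI : IsScalarTower (X.ring p) (X.ring q) ((invAlg A ρ).carrier q) :=
    IsScalarTower.of_algebraMap_smul fun _ _ => rfl
  let α : A.carrier p →ₗ[X.ring p] A.carrier q :=
    { toFun := A.res h, map_add' := map_add _,
      map_smul' := fun r a => (A.toMod.res h).map_smulₛₗ r a }
  have hα : IsBaseChange (X.ring q) α := hA p q h
  let β : (invAlg A ρ).carrier p →ₗ[X.ring p] (invAlg A ρ).carrier q :=
    { toFun := (invAlg A ρ).res h, map_add' := map_add _,
      map_smul' := fun r a => ((invAlg A ρ).toMod.res h).map_smulₛₗ r a }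
  suffices hβ : IsBaseChange (X.ring q) β from hβ
  let ι : (invAlg A ρ).carrier p →ₗ[X.ring p] A.carrier p :=
    (invSub (fun g => (ρ g).app p)).val.toLinearMap
  let ι' : (invAlg A ρ).carrier q →ₗ[X.ring q] A.carrier q :=
    (invSub (fun g => (ρ g).app q)).val.toLinearMap
  refine isBaseChange_of_exact_defect α hα (fun g => ((ρ g).app p).toLinearMap)
    (fun g => ((ρ g).app q).toLinearMap) ?_ ι ι' Subtype.val_injective Subtype.val_injective
    ?_ ?_ β (fun x => rfl)
  · intro g m
    exact ((ρ g).compat h m).symm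
  · intro m
    constructor
    · intro hm; exact ⟨⟨m, hm⟩, rfl⟩
    · rintro ⟨a, rfl⟩; exact a.2
  · intro m
    constructor
    · intro hm; exact ⟨⟨m, hm⟩, rfl⟩
    · rintro ⟨a, rfl⟩; exact a.2

theorem invAlg_isEtCover [Group G] [Finite G] (hX : X.IsFinSp) (hpw : X.IsPwConnected)
    (A : Alg X) (ρ : G → (A ⟶ A)) (h1 : ρ 1 = 𝟙 A) (hmul : ∀ g h, ρ (g * h) = ρ h ≫ ρ g)
    (hA : A.IsEtCover) : (invAlg A ρ).IsEtCover := by
  refine ⟨invAlg_isQcoh hX.2 A ρ hA.1, fun p => ?_⟩
  haveI := hX.1 p
  haveI := hpw p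
  haveI := (hA.2 p).1
  haveI := (hA.2 p).2
  constructor
  · change Module.Finite (X.ring p) (invSub (fun g => (ρ g).app p))
    haveI : IsNoetherian (X.ring p) (A.carrier p) := isNoetherian_of_isNoetherianRing_of_finite _ _
    change Module.Finite (X.ring p) (Subalgebra.toSubmodule (invSub (fun g => (ρ g).app p)))
    infer_instance
  · change Algebra.Etale (X.ring p) (invSub (fun g => (ρ g).app p))
    apply etale_invSub
    · change (ρ 1).app p = _
      rw [h1]; rfl
    · intro g h
      change (ρ (g * h)).app p = _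
      rw [hmul]; rfl



variable {X : RSpace.{u}}

theorem invAlg.lift_ι {G : Type u} (A : Alg X) (ρ : G → (A ⟶ A)) {T : Alg X} (t : T ⟶ A)
    (ht : ∀ g, t ≫ ρ g = t) : invAlg.lift A ρ t ht ≫ invAlg.ι A ρ = t := by
  apply Alg.hom_ext
  intro p
  apply AlgHom.ext
  intro a
  rfl

theorem invAlg.hom_ext {G : Type u} (A : Alg X) (ρ : G → (A ⟶ A)) {T : Alg X}
    (m m' : T ⟶ invAlg A ρ) (h : m ≫ invAlg.ι A ρ = m' ≫ invAlg.ι A ρ) : m = m' := by
  apply Alg.hom_ext
  intro p
  apply AlgHom.ext
  intro a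
  apply Subtype.ext
  have : (m ≫ invAlg.ι A ρ).app p a = (m' ≫ invAlg.ι A ρ).app p a := by rw [h]
  exact this

/-- S15629 -/
theorem main29 (hX : X.IsFinSp) (hpw : X.IsPwConnected) (G : Type u) [Group G] [Finite G] :
    HasLimitsOfShape (SingleObj G) (FEt X) := by
  constructor
  intro K
  let A : FEt X := K.obj (SingleObj.star G)
  let ρ : G → (A.obj ⟶ A.obj) := fun g => (K.map (X := SingleObj.star G) (Y := SingleObj.star G) g).hom
  have h1 : ρ 1 = 𝟙 A.obj := by
    change (K.map (𝟙 (SingleObj.star G))).hom = _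
    rw [K.map_id]; rfl
  have hmul : ∀ g h, ρ (g * h) = ρ h ≫ ρ g := by
    intro g h
    have : (g * h : G) = (show SingleObj.star G ⟶ SingleObj.star G from h) ≫
      (show SingleObj.star G ⟶ SingleObj.star G from g) := rfl
    change (K.map (X := SingleObj.star G) (Y := SingleObj.star G) (g * h)).hom = _
    rw [this, K.map_comp]; rfl
  let I : FEt X := ⟨invAlg A.obj ρ, invAlg_isEtCover hX hpw A.obj ρ h1 hmul A.property⟩
  let ι : I ⟶ A := ObjectProperty.homMk (invAlg.ι A.obj ρ)
  let c : Cone K :=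
    { pt := I
      π :=
        { app := fun _ => ι
          naturality := fun _ _ g => by
            apply ObjectProperty.hom_ext
            change 𝟙 _ ≫ invAlg.ι A.obj ρ = invAlg.ι A.obj ρ ≫ ρ g
            rw [invAlg.ι_comp, Category.id_comp] } }
  have hs : ∀ (s : Cone K) (g : G), (s.π.app (SingleObj.star G)).hom ≫ ρ g =
      (s.π.app (SingleObj.star G)).hom := by
    intro s g
    have := s.π.naturality (X := SingleObj.star G) (Y := SingleObj.star G) g
    have h2 := congrArg (fun f => f.hom) this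
    change (𝟙 _ ≫ s.π.app (SingleObj.star G)).hom = (s.π.app (SingleObj.star G)).hom ≫ ρ g at h2
    rw [← h2, Category.id_comp]
  refine ⟨⟨⟨c,
    { lift := fun s => ObjectProperty.homMk (invAlg.lift A.obj ρ (s.π.app (SingleObj.star G)).hom (hs s))
      fac := fun s j => by
        apply ObjectProperty.hom_ext
        exact invAlg.lift_ι A.obj ρ (s.π.app (SingleObj.star G)).hom (hs s)
      uniq := fun s m hm => by
        apply ObjectProperty.hom_ext
        apply invAlg.hom_ext
        have := hm (SingleObj.star G)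
        exact (congrArg (fun f => f.hom) this).trans
          (invAlg.lift_ι A.obj ρ (s.π.app (SingleObj.star G)).hom (hs s)).symm }⟩⟩⟩



/-- op of a binary product is a binary coproduct -/
def isColimitOpOfIsLimit {C : Type*} [Category C] {P A B : C} {f : P ⟶ A} {g : P ⟶ B}
    (hl : IsLimit (BinaryFan.mk f g)) : IsColimit (BinaryCofan.mk f.op g.op) :=
  BinaryCofan.IsColimit.mk _
    (fun {T} u v => (BinaryFan.IsLimit.lift' hl u.unop v.unop).1.op)
    (fun {T} u v => Quiver.Hom.unop_inj (BinaryFan.IsLimit.lift' hl u.unop v.unop).2.1)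
    (fun {T} u v => Quiver.Hom.unop_inj (BinaryFan.IsLimit.lift' hl u.unop v.unop).2.2)
    (fun {T} u v m h1 h2 => Quiver.Hom.unop_inj (by
      apply BinaryFan.IsLimit.hom_ext hl
      · exact (congrArg Quiver.Hom.unop h1).trans
          (BinaryFan.IsLimit.lift' hl u.unop v.unop).2.1.symm
      · exact (congrArg Quiver.Hom.unop h2).trans
          (BinaryFan.IsLimit.lift' hl u.unop v.unop).2.2.symm))

variable {X : RSpace.{u}}

theorem monoSummand (hflat : ∀ (p q : X.pt) (h : p ≤ q), (X.res h).Flat)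
    (hepi : ∀ (A B : FEt X) (f : A ⟶ B), Epi f → ∀ p : X.pt, Function.Surjective (f.hom.app p))
    {A B : (FEt X)ᵒᵖ} (i : A ⟶ B) [Mono i] :
    ∃ (Z : (FEt X)ᵒᵖ) (u : Z ⟶ B), Nonempty (IsColimit (BinaryCofan.mk i u)) := by
  haveI : Epi i.unop := unop_epi_of_mono i
  obtain ⟨D, π, ⟨hl⟩⟩ := main28 hflat i.unop (hepi _ _ i.unop inferInstance)
  exact ⟨Opposite.op D, π.op, ⟨isColimitOpOfIsLimit hl⟩⟩



variable {X : RSpace.{u}}

theorem quotients_op (hX : X.IsFinSp) (hpw : X.IsPwConnected)
    {Ω : Type u} [Field Ω] [IsAlgClosed Ω] (ξ : GeomPt X Ω) (G : Type u) [Group G] [Finite G]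
    (K : SingleObj G ⥤ (FEt X)ᵒᵖ) :
    ∃ c : Cocone K, Nonempty (IsColimit c) ∧ Nonempty (IsColimit (ξ.fibFunctor.mapCocone c)) := by
  let A : FEt X := (K.obj (SingleObj.star G)).unop
  let ρ₀ : G → (A.obj ⟶ A.obj) := fun g =>
    (K.map (X := SingleObj.star G) (Y := SingleObj.star G) g).unop.hom
  have h1₀ : ρ₀ 1 = 𝟙 A.obj := by
    change (K.map (𝟙 (SingleObj.star G))).unop.hom = _
    rw [K.map_id]; rfl
  have hmul₀ : ∀ g h, ρ₀ (g * h) = ρ₀ g ≫ ρ₀ h := by
    intro g h
    have : (g * h : G) = (show SingleObj.star G ⟶ SingleObj.star G from h) ≫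
      (show SingleObj.star G ⟶ SingleObj.star G from g) := rfl
    change (K.map (X := SingleObj.star G) (Y := SingleObj.star G) (g * h)).unop.hom = _
    rw [this, K.map_comp]; rfl
  let ρ : G → (A.obj ⟶ A.obj) := fun g => ρ₀ g⁻¹
  have h1 : ρ 1 = 𝟙 A.obj := by
    change ρ₀ (1 : G)⁻¹ = _
    rw [inv_one, h1₀]
  have hmul : ∀ g h, ρ (g * h) = ρ h ≫ ρ g := by
    intro g h
    change ρ₀ (g * h)⁻¹ = ρ₀ h⁻¹ ≫ ρ₀ g⁻¹
    rw [mul_inv_rev, hmul₀]
  have hρ₀ : ∀ g, ρ₀ g = ρ g⁻¹ := fun g => by change ρ₀ g = ρ₀ (g⁻¹)⁻¹; rw [inv_inv]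
  let I : FEt X := ⟨invAlg A.obj ρ, invAlg_isEtCover hX hpw A.obj ρ h1 hmul A.property⟩
  let ι : I ⟶ A := ObjectProperty.homMk (invAlg.ι A.obj ρ)
  have hι : ∀ g : G, ι ≫ (K.map (X := SingleObj.star G) (Y := SingleObj.star G) g).unop = ι := by
    intro g
    apply ObjectProperty.hom_ext
    change invAlg.ι A.obj ρ ≫ ρ₀ g = invAlg.ι A.obj ρ
    rw [hρ₀, invAlg.ι_comp]
  let c : Cocone K :=
    { pt := Opposite.op I
      ι :=
        { app := fun _ => ι.op
          naturality := fun _ _ g => by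
            apply Quiver.Hom.unop_inj
            change (𝟙 I) ≫ ι ≫ (K.map (X := SingleObj.star G) (Y := SingleObj.star G) g).unop = ι
            rw [hι g, Category.id_comp] } }
  have hs : ∀ (s : Cocone K) (g : G), (s.ι.app (SingleObj.star G)).unop.hom ≫ ρ g =
      (s.ι.app (SingleObj.star G)).unop.hom := by
    intro s g
    have := s.ι.naturality (X := SingleObj.star G) (Y := SingleObj.star G) g⁻¹
    have h2 := congrArg (fun f => f.unop.hom) this
    change (s.ι.app (SingleObj.star G)).unop.hom ≫ ρ₀ g⁻¹ =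
      ((𝟙 s.pt.unop) ≫ (s.ι.app (SingleObj.star G)).unop).hom at h2
    rw [Category.id_comp] at h2
    exact h2
  have hc : IsColimit c :=
    { desc := fun s => (ObjectProperty.homMk
        (invAlg.lift A.obj ρ (s.ι.app (SingleObj.star G)).unop.hom (hs s)) : s.pt.unop ⟶ I).op
      fac := fun s j => by
        apply Quiver.Hom.unop_inj
        apply ObjectProperty.hom_ext
        exact invAlg.lift_ι A.obj ρ (s.ι.app (SingleObj.star G)).unop.hom (hs s)
      uniq := fun s m hm => by
        apply Quiver.Hom.unop_inj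
        apply ObjectProperty.hom_ext
        apply invAlg.hom_ext
        have := hm (SingleObj.star G)
        exact (congrArg (fun f => f.unop.hom) this).trans
          (invAlg.lift_ι A.obj ρ (s.ι.app (SingleObj.star G)).unop.hom (hs s)).symm }
  refine ⟨c, ⟨hc⟩, ?_⟩
  -- preservation
  letI : Algebra (X.ring ξ.base) Ω := ξ.toField.toAlgebra
  haveI := hX.1 ξ.base
  haveI := hpw ξ.base
  haveI := (A.property.2 ξ.base).1
  haveI := (A.property.2 ξ.base).2
  haveI := (I.property.2 ξ.base).1
  haveI := (I.property.2 ξ.base).2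
  have hsurj : Function.Surjective (ξ.fibMap ι.hom) :=
    fib_surjective (Ω := Ω) (ι.hom.app ξ.base) Subtype.val_injective
  have horb : ∀ x y : ξ.Fib A.obj, ξ.fibMap ι.hom x = ξ.fibMap ι.hom y →
      ∃ g : G, y = ξ.fibMap (ρ g) x := by
    intro x y hxy
    obtain ⟨χ₁, rfl⟩ := (ptEquiv (Ω := Ω) (A.obj.carrier ξ.base)).surjective x
    obtain ⟨χ₂, rfl⟩ := (ptEquiv (Ω := Ω) (A.obj.carrier ξ.base)).surjective y
    have h3 : ptEquiv (Ω := Ω) (I.obj.carrier ξ.base) (χ₁.comp (ι.hom.app ξ.base)) =
        ptEquiv (I.obj.carrier ξ.base) (χ₂.comp (ι.hom.app ξ.base)) := by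
      rw [← ptEquiv_comap, ← ptEquiv_comap]
      exact hxy
    have h4 := (ptEquiv (Ω := Ω) (I.obj.carrier ξ.base)).injective h3
    obtain ⟨g, hg⟩ := exists_conj_of_eq_on_inv (fun g => (ρ g).app ξ.base)
      (by change (ρ 1).app ξ.base = _; rw [h1]; rfl)
      (by intro g h; change (ρ (g * h)).app ξ.base = _; rw [hmul]; rfl) χ₁ χ₂
      (fun a => AlgHom.congr_fun h4 a)
    refine ⟨g, ?_⟩
    have h5 : χ₂ = χ₁.comp ((ρ g).app ξ.base) := AlgHom.ext hg
    rw [h5, ← ptEquiv_comap]
    rfl
  constructor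
  apply isColimitOfReflects FintypeCat.incl
  apply Nonempty.some
  rw [Types.isColimit_iff_coconeTypesIsColimit]
  constructor
  constructor
  · rintro ⟨⟨j₁, x⟩⟩ ⟨⟨j₂, y⟩⟩ hxy
    obtain ⟨g, hg⟩ := horb x y hxy
    apply Quot.sound
    refine ⟨(g⁻¹ : G), ?_⟩
    rw [hg]
    rfl
  · intro z
    obtain ⟨x, hx⟩ := hsurj z
    exact ⟨Quot.mk _ ⟨SingleObj.star G, x⟩, hx⟩



variable {X : RSpace.{u}}

/-- S15632 -/
theorem main32 (hX : X.IsFinSp) (hwc : X.IsWellConnected)
    (hepi : ∀ (A B : FEt X) (f : A ⟶ B), Epi f → ∀ p : X.pt, Function.Surjective (f.hom.app p))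
    {Ω : Type u} [Field Ω] [IsAlgClosed Ω] (ξ : GeomPt X Ω) :
    ∃ h : PreGaloisCategory (FEt X)ᵒᵖ,
      @PreGaloisCategory.FiberFunctor (FEt X)ᵒᵖ _ h ξ.fibFunctor := by
  have hflat := hX.2
  haveI : HasInitial (FEt X) := hasInitial
  haveI : HasPushouts (FEt X) := hasPushouts hflat
  haveI : HasTerminal (FEt X) := hasTerminal
  haveI : HasBinaryProducts (FEt X) := hasBinaryProducts
  haveI : HasFiniteProducts (FEt X) := hasFiniteProducts_of_has_binary_and_terminal
  have hq : ∀ (G : Type u) [Group G] [Finite G], HasColimitsOfShape (SingleObj G) (FEt X)ᵒᵖ := by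
    intro G _ _
    constructor
    intro K
    obtain ⟨c, ⟨hc⟩, -⟩ := quotients_op hX hwc.2 ξ G K
    exact ⟨⟨⟨c, hc⟩⟩⟩
  let h : PreGaloisCategory (FEt X)ᵒᵖ :=
    { hasTerminal := inferInstance
      hasPullbacks := inferInstance
      hasFiniteCoproducts := inferInstance
      hasQuotientsByFiniteGroups := hq
      monoInducesIsoOnDirectSummand := fun i _ => monoSummand hflat hepi i }
  refine ⟨h, ?_⟩
  obtain ⟨p1, p2, p3, p4⟩ := main33 hflat ξ
  exact
    { preservesTerminalObjects := p1
      preservesPullbacks := p2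
      preservesFiniteCoproducts := p3
      preservesEpis := p4
      preservesQuotientsByFiniteGroups := by
        intro G _ _
        constructor
        intro K
        obtain ⟨c, ⟨hc⟩, ⟨hFc⟩⟩ := quotients_op hX hwc.2 ξ G K
        exact preservesColimit_of_preserves_colimit_cocone hc hFc
      reflectsIsos := main31 ξ hflat hwc }


end Groth.Agent.Lib.Helper18Inv
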