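import Mathlib
import Groth.Agent.Lib.Helper14InvLim

set_option autoImplicit false
set_option linter.style.haveILetI false
set_option linter.unusedVariables false
universe u v

namespace Groth.Agent.Lib.Helper18InvLimFin

open Groth.Agent.Lib.Helper14

theorem main
    (A : Type u) [CommRing A] (I : Ideal A) (hI : I.FG)
    (M : ℕ → Type v) [∀ n, AddCommGroup (M n)] [∀ n, Module A (M n)] [∀ n, Module.Finite A (M n)]
    (f : ∀ n, M (n + 1) →ₗ[A] M n) (hf : ∀ n, Function.Surjective (f n))
    (hker : ∀ n, LinearMap.ker (f n) = I ^ (n + 1) • (⊤ : Submodule A (M (n + 1))))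
    (hkill : ∀ n, I ^ (n + 1) • (⊤ : Submodule A (M n)) = ⊥)
    (L : Type v) [AddCommGroup L] [Module A L] (π : ∀ n, L →ₗ[A] M n)
    (hπ : ∀ n, f n ∘ₗ π (n + 1) = π n)
    (hinj : ∀ x : L, (∀ n, π n x = 0) → x = 0)
    (hlift : ∀ y : (∀ n, M n), (∀ n, f n (y (n + 1)) = y n) → ∃ x : L, ∀ n, π n x = y n)
    [Module (AdicCompletion I A) L] [IsScalarTower A (AdicCompletion I A) L] :
    Module.Finite (AdicCompletion I A) L := by
  set Â := AdicCompletion I A with hÂ
  set Î : Ideal Â := I.map (algebraMap A Â) with hÎ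
  obtain ⟨r, g, hg⟩ := Module.Finite.exists_fin (R := A) (M := M 0)
  have hsurj0 := proj_surjective f π hf hlift 0
  choose l hl using fun j => hsurj0 (g j)
  let φ : (Fin r → Â) →ₗ[Â] L := Fintype.linearCombination Â l
  haveI hH : IsHausdorff I L := isHausdorff_of_invLim I f π hf hker hinj
  haveI hH' : IsHausdorff Î L := IsHausdorff.map_algebraMap_iff.mpr hH
  haveI hC : IsAdicComplete I Â := AdicCompletion.isAdicComplete hI
  haveI hP : IsPrecomplete Î Â := IsPrecomplete.map_algebraMap_iff.mpr hC.toIsPrecomplete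
  haveI : IsPrecomplete Î (Fin r → Â) := isPrecomplete_pi Î r
  have hle : ∀ x : L, x ∈ (I • ⊤ : Submodule A L) → x ∈ (Î • ⊤ : Submodule Â L) := by
    intro x hx
    refine Submodule.smul_induction_on hx ?_ ?_
    · intro a ha y _
      rw [← algebraMap_smul Â a y]
      exact Submodule.smul_mem_smul (Ideal.mem_map_of_mem _ ha) trivial
    · intro x y hx hy
      exact add_mem hx hy
  have hφ : Function.Surjective φ := by
    apply surjective_of_mkQ_comp_surjective (I := Î)
    intro y
    obtain ⟨x, rfl⟩ := Submodule.mkQ_surjective _ y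
    have hx : π 0 x ∈ Submodule.span A (Set.range g) := by rw [hg]; trivial
    obtain ⟨c, hc⟩ := (Submodule.mem_span_range_iff_exists_fun A).mp hx
    refine ⟨fun j => algebraMap A Â (c j), ?_⟩
    rw [LinearMap.comp_apply, Submodule.mkQ_apply, Submodule.mkQ_apply, Submodule.Quotient.eq]
    have hk : φ (fun j => algebraMap A Â (c j)) - x ∈ LinearMap.ker (π 0) := by
      rw [LinearMap.mem_ker, map_sub, sub_eq_zero, ← hc]
      simp only [φ, Fintype.linearCombination_apply, algebraMap_smul, map_sum, map_smul, hl]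
    have := ker_le_pow_smul_top I f π hI hf hker hπ hinj hlift 0 hk
    apply hle
    simpa using this
  exact Module.Finite.of_surjective φ hφ

end Groth.Agent.Lib.Helper18InvLimFin
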