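import Mathlib

universe u
set_option linter.style.haveILetI false
open TensorProduct IsLocalRing KaehlerDifferential

namespace Groth.Agent.Helper18Jac

section A

variable {R A B : Type u} [CommRing R] [CommRing A] [CommRing B] [Algebra R A] [Algebra A B]
  [Algebra R B] [IsScalarTower R A B]

/-- Sufficient Jacobian criterion at a prime of a quotient of a smooth algebra. -/
lemma isSmoothAt_of_injective [Algebra.Smooth R A]
    (hsurj : Function.Surjective (algebraMap A B))
    (hfg : (RingHom.ker (algebraMap A B)).FG) (p : Ideal B) [p.IsPrime]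
    (hinj : Function.Injective
      (cotangentComplexBaseChange R B A (ResidueField (Localization.AtPrime p)))) :
    Algebra.FormallySmooth R (Localization.AtPrime p) := by
  let q : Ideal A := p.comap (algebraMap A B)
  let P := Localization.AtPrime q
  let S := Localization.AtPrime p
  let f : P →+* S := Localization.localRingHom q p (algebraMap A B) rfl
  letI : Algebra P S := f.toAlgebra
  have hfdef : ∀ x : P, algebraMap P S x = f x := fun _ => rfl
  haveI tBPS : IsScalarTower A P S := .of_algebraMap_eq (fun b => by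
    rw [hfdef, Localization.localRingHom_to_map]
    exact IsScalarTower.algebraMap_apply A B S b)
  haveI tABS : IsScalarTower R A S := .of_algebraMap_eq (fun a => by
    rw [IsScalarTower.algebraMap_apply R B S, IsScalarTower.algebraMap_apply R A B,
      ← IsScalarTower.algebraMap_apply A B S])
  haveI tAPS : IsScalarTower R P S := .of_algebraMap_eq (fun a => by
    rw [IsScalarTower.algebraMap_apply R A P, ← IsScalarTower.algebraMap_apply A P S,
      ← IsScalarTower.algebraMap_apply R A S])
  haveI : Algebra.FormallyEtale A P := Algebra.FormallyEtale.of_isLocalization q.primeCompl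
  haveI : Algebra.FormallySmooth R P := Algebra.FormallySmooth.comp R A P
  let eΩ : P ⊗[A] Ω[A⁄R] ≃ₗ[P] Ω[P⁄R] := KaehlerDifferential.tensorKaehlerEquivOfFormallyEtale R A P
  haveI : Module.Finite A Ω[A⁄R] := inferInstance
  haveI : Module.Projective A Ω[A⁄R] := inferInstance
  haveI : Module.Finite P Ω[P⁄R] := Module.Finite.equiv eΩ
  haveI : Module.Projective P Ω[P⁄R] := Module.Projective.of_equiv eΩ
  haveI : Module.Free P Ω[P⁄R] := Module.free_of_flat_of_isLocalRing
  have hsurj' : Function.Surjective (algebraMap P S) :=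
    RingHom.surjective_localRingHom_of_surjective (algebraMap A B) hsurj p
  have hker' : RingHom.ker (algebraMap P S) =
      (RingHom.ker (algebraMap A B)).map (algebraMap A P) := by
    have hT : Submonoid.map (algebraMap A B) q.primeCompl = p.primeCompl :=
      Submonoid.map_comap_eq_of_surjective hsurj p.primeCompl
    exact IsLocalization.ker_map (S := P) (Q := S) (M := q.primeCompl)
      (T := p.primeCompl) (algebraMap A B) hT
  have hfg' : (RingHom.ker (algebraMap P S)).FG := by
    rw [hker']; exact hfg.map _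
  rw [Algebra.FormallySmooth.iff_injective_cotangentComplexBaseChange_residueField P hsurj' hfg']
  let K := ResidueField S
  haveI tABK : IsScalarTower A B K := inferInstance
  haveI tAPK : IsScalarTower A P K := inferInstance
  -- the comparison map on kernels
  have hmem : ∀ j : RingHom.ker (algebraMap A B),
      algebraMap A P j.1 ∈ RingHom.ker (algebraMap P S) := by
    intro j
    rw [hker']
    exact Ideal.mem_map_of_mem _ j.2
  let g : RingHom.ker (algebraMap A B) →ₗ[A] K ⊗[P] RingHom.ker (algebraMap P S) :=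
    { toFun := fun j => (1 : K) ⊗ₜ[P] ⟨algebraMap A P j.1, hmem j⟩
      map_add' := fun j j' => by
        rw [← TensorProduct.tmul_add]
        congr 1
        ext
        simp
      map_smul' := fun a j => by
        rw [RingHom.id_apply]
        have : (⟨algebraMap A P (a • j).1, hmem (a • j)⟩ : RingHom.ker (algebraMap P S)) =
            (algebraMap A P a) • ⟨algebraMap A P j.1, hmem j⟩ := by
          ext
          simp [Algebra.smul_def]
        rw [this, TensorProduct.tmul_smul, TensorProduct.smul_tmul', TensorProduct.smul_tmul',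
          algebraMap_smul] }
  let φ : K ⊗[A] RingHom.ker (algebraMap A B) →ₗ[K] K ⊗[P] RingHom.ker (algebraMap P S) :=
    LinearMap.liftBaseChange K g
  have hφ : ∀ (x : K) (j : RingHom.ker (algebraMap A B)),
      φ (x ⊗ₜ j) = x ⊗ₜ[P] ⟨algebraMap A P j.1, hmem j⟩ := by
    intro x j
    simp only [φ, LinearMap.liftBaseChange_tmul, g, LinearMap.coe_mk, AddHom.coe_mk]
    rw [TensorProduct.smul_tmul', smul_eq_mul, mul_one]
  have hφs : Function.Surjective φ := by
    intro y
    induction y with
    | zero => exact ⟨0, map_zero _⟩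
    | add y y' hy hy' =>
      obtain ⟨z, rfl⟩ := hy
      obtain ⟨z', rfl⟩ := hy'
      exact ⟨z + z', map_add _ _ _⟩
    | tmul x y =>
      obtain ⟨y, hy⟩ := y
      have hy' := hy
      rw [hker', IsLocalization.mem_map_algebraMap_iff q.primeCompl] at hy'
      obtain ⟨⟨⟨i, hi⟩, s⟩, hys⟩ := hy'
      have hsu : IsUnit (algebraMap A P s.1) := IsLocalization.map_units P s
      obtain ⟨u, hu⟩ := hsu
      refine ⟨(x * algebraMap P K (↑u⁻¹ : P)) ⊗ₜ ⟨i, hi⟩, ?_⟩
      rw [hφ]
      have : (⟨y, hy⟩ : RingHom.ker (algebraMap P S)) =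
          (↑u⁻¹ : P) • ⟨algebraMap A P i, hmem ⟨i, hi⟩⟩ := by
        ext
        simp only [SetLike.mk_smul_mk, smul_eq_mul]
        rw [← hys, ← hu]
        simp only [mul_comm y, ← mul_assoc, Units.inv_mul, one_mul]
      rw [this, TensorProduct.tmul_smul, TensorProduct.smul_tmul', Algebra.smul_def, mul_comm]
  let e2 : K ⊗[P] (P ⊗[A] Ω[A⁄R]) ≃ₗ[K] K ⊗[A] Ω[A⁄R] :=
    AlgebraTensorModule.cancelBaseChange A P K K Ω[A⁄R]
  let e3 : K ⊗[P] (P ⊗[A] Ω[A⁄R]) ≃ₗ[K] K ⊗[P] Ω[P⁄R] :=
    AlgebraTensorModule.congr (LinearEquiv.refl K K) eΩ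
  let θ : K ⊗[P] Ω[P⁄R] ≃ₗ[K] K ⊗[A] Ω[A⁄R] := e3.symm ≪≫ₗ e2
  have hcomp : ∀ z, θ (cotangentComplexBaseChange R S P K (φ z)) =
      cotangentComplexBaseChange R B A K z := by
    intro z
    induction z with
    | zero => simp
    | add z z' hz hz' => simp only [map_add, hz, hz']
    | tmul x j =>
      rw [hφ, cotangentComplexBaseChange_tmul, cotangentComplexBaseChange_tmul, map_smul,
        kerToTensor_apply, kerToTensor_apply]
      congr 1
      simp only [θ, LinearEquiv.trans_apply, e3, e2]
      have : (AlgebraTensorModule.congr (LinearEquiv.refl K K) eΩ).symm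
          ((1 : K) ⊗ₜ[P] (D R P) (algebraMap A P j.1)) = (1 : K) ⊗ₜ[P] ((1 : P) ⊗ₜ[A] D R A j.1) := by
        rw [LinearEquiv.symm_apply_eq, AlgebraTensorModule.congr_tmul]
        simp [eΩ]
      rw [this, AlgebraTensorModule.cancelBaseChange_tmul, one_smul]
  have hφi : Function.Injective φ := by
    intro z z' h
    apply hinj
    rw [← hcomp, ← hcomp, h]
  intro y y' h
  obtain ⟨z, rfl⟩ := hφs y
  obtain ⟨z', rfl⟩ := hφs y'
  congr 1
  apply hinj
  rw [← hcomp, ← hcomp, h]

end A

section B

variable {R A : Type u} [CommRing R] [CommRing A] [Algebra R A]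

/-- On `M/IM` the action of `a` equals the action of `ε a`. -/
lemma smul_eq_eps_smul (ε : A →ₐ[R] R) {M : Type u} [AddCommGroup M] [Module A M] [Module R M]
    [IsScalarTower R A M] (a : A)
    (x : M ⧸ (RingHom.ker ε • ⊤ : Submodule A M)) : a • x = (ε a) • x := by
  obtain ⟨m, rfl⟩ := Submodule.Quotient.mk_surjective _ x
  rw [← Submodule.Quotient.mk_smul, ← Submodule.Quotient.mk_smul, Submodule.Quotient.eq]
  have h1 : a • m - (ε a) • m = (a - algebraMap R A (ε a)) • m := by
    rw [sub_smul, algebraMap_smul]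
  rw [h1]
  apply Submodule.smul_mem_smul _ Submodule.mem_top
  rw [RingHom.mem_ker, map_sub]
  simp

/-- The derivation `a ↦ [a - ε a]` into `I/I²`. -/
noncomputable def augDer (ε : A →ₐ[R] R) :
    Derivation R A (↥(RingHom.ker ε) ⧸ (RingHom.ker ε • ⊤ : Submodule A ↥(RingHom.ker ε))) where
  toFun a := Submodule.Quotient.mk ⟨a - algebraMap R A (ε a), by
    rw [RingHom.mem_ker, map_sub]; simp⟩
  map_add' a b := by
    rw [← Submodule.Quotient.mk_add]
    congr 1
    ext
    simp only [map_add, Submodule.coe_add]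
    ring
  map_smul' r a := by
    rw [RingHom.id_apply, ← Submodule.Quotient.mk_smul]
    congr 1
    ext
    simp only [map_smul, smul_eq_mul, Submodule.coe_smul_of_tower]
    rw [smul_sub, Algebra.smul_def r (algebraMap R A (ε a)), ← map_mul]
  map_one_eq_zero' := by
    change Submodule.Quotient.mk _ = 0
    rw [Submodule.Quotient.mk_eq_zero]
    convert Submodule.zero_mem _
    simp
  leibniz' a b := by
    change Submodule.Quotient.mk _ = a • Submodule.Quotient.mk _ + b • Submodule.Quotient.mk _
    rw [smul_eq_eps_smul ε b, ← Submodule.Quotient.mk_smul, ← Submodule.Quotient.mk_smul,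
      ← Submodule.Quotient.mk_add]
    congr 1
    ext
    simp only [map_mul, Submodule.coe_add, Submodule.coe_smul, smul_eq_mul,
      Submodule.coe_smul_of_tower]
    rw [Algebra.smul_def]
    ring

lemma augDer_apply_of_mem (ε : A →ₐ[R] R) (j : A) (hj : j ∈ RingHom.ker ε) :
    augDer ε j = Submodule.Quotient.mk ⟨j, hj⟩ := by
  change Submodule.Quotient.mk _ = _
  congr 1
  ext
  have : ε j = 0 := hj
  simp [this]

/-- `K ⊗ J → K ⊗ J/IJ` is injective when `I` kills `K`. -/
lemma lTensor_mkQ_injective (I : Ideal A) {K : Type u} [Field K] [Algebra A K]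
    (hK : ∀ i ∈ I, algebraMap A K i = 0) {M : Type u} [AddCommGroup M] [Module A M] :
    Function.Injective (LinearMap.lTensor K (Submodule.mkQ (I • ⊤ : Submodule A M))) := by
  have hex : Function.Exact (I • ⊤ : Submodule A M).subtype (Submodule.mkQ (I • ⊤ : Submodule A M)) :=
    LinearMap.exact_subtype_mkQ _
  have hex' := lTensor_exact K hex (Submodule.mkQ_surjective _)
  have hzero : ∀ (k : K) (z : M), z ∈ (I • ⊤ : Submodule A M) → k ⊗ₜ[A] z = 0 := by
    intro k z hz
    refine Submodule.smul_induction_on (p := fun z => k ⊗ₜ[A] z = 0) hz ?_ ?_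
    · intro i hi m _
      rw [TensorProduct.tmul_smul, TensorProduct.smul_tmul', Algebra.smul_def, hK i hi, zero_mul,
        TensorProduct.zero_tmul]
    · intro x y hx hy
      rw [TensorProduct.tmul_add, hx, hy, add_zero]
  have hz : LinearMap.lTensor K (I • ⊤ : Submodule A M).subtype = 0 := by
    apply TensorProduct.ext'
    intro k z
    rw [LinearMap.lTensor_tmul, LinearMap.zero_apply]
    exact hzero k _ z.2
  rw [injective_iff_map_eq_zero]
  intro x hx
  obtain ⟨y, rfl⟩ := (hex' x).1 hx
  rw [hz, LinearMap.zero_apply]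

/-- The map `J/IJ → I/I²`. -/
noncomputable def conormalMap (I J : Ideal A) (hJI : J ≤ I) :
    (↥J ⧸ (I • ⊤ : Submodule A ↥J)) →ₗ[A] (↥I ⧸ (I • ⊤ : Submodule A ↥I)) :=
  Submodule.mapQ _ _ (Submodule.inclusion hJI) (Submodule.smul_top_le_comap_smul_top I _)

lemma conormalMap_mk (I J : Ideal A) (hJI : J ≤ I) (j : ↥J) :
    conormalMap I J hJI (Submodule.Quotient.mk j) = Submodule.Quotient.mk ⟨j.1, hJI j.2⟩ := rfl

lemma conormalMap_injective (I J : Ideal A) (hJI : J ≤ I) (h2 : J ⊓ I ^ 2 = I * J) :
    Function.Injective (conormalMap I J hJI) := by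
  rw [injective_iff_map_eq_zero]
  intro x hx
  obtain ⟨j, rfl⟩ := Submodule.Quotient.mk_surjective _ x
  rw [conormalMap_mk, Submodule.Quotient.mk_eq_zero, Submodule.mem_smul_top_iff] at hx
  rw [Submodule.Quotient.mk_eq_zero, Submodule.mem_smul_top_iff]
  have h3 : j.1 ∈ J ⊓ I ^ 2 := ⟨j.2, by rw [pow_two]; exact hx⟩
  rw [h2] at h3
  exact h3

/-- The map `I/I² → I/(J+I²)`. -/
noncomputable def conormalQuot (I J : Ideal A) :
    (↥I ⧸ (I • ⊤ : Submodule A ↥I)) →ₗ[A] (↥I ⧸ Submodule.comap I.subtype (J ⊔ I ^ 2)) :=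
  Submodule.factor (by
    intro x hx
    rw [Submodule.mem_smul_top_iff] at hx
    rw [Submodule.mem_comap]
    apply Submodule.mem_sup_right
    rw [pow_two]
    exact hx)

lemma conormalQuot_mk (I J : Ideal A) (i : ↥I) :
    conormalQuot I J (Submodule.Quotient.mk i) = Submodule.Quotient.mk i := rfl

lemma conormalQuot_surjective (I J : Ideal A) : Function.Surjective (conormalQuot I J) := by
  intro x
  obtain ⟨i, rfl⟩ := Submodule.Quotient.mk_surjective _ x
  exact ⟨Submodule.Quotient.mk i, rfl⟩

lemma conormal_exact (I J : Ideal A) (hJI : J ≤ I) :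
    Function.Exact (conormalMap I J hJI) (conormalQuot I J) := by
  intro x
  constructor
  · intro hx
    obtain ⟨i, rfl⟩ := Submodule.Quotient.mk_surjective _ x
    rw [conormalQuot_mk, Submodule.Quotient.mk_eq_zero, Submodule.mem_comap,
      Submodule.mem_sup] at hx
    obtain ⟨j, hj, t, ht, hjt⟩ := hx
    refine ⟨Submodule.Quotient.mk ⟨j, hj⟩, ?_⟩
    rw [conormalMap_mk, Submodule.Quotient.eq, Submodule.mem_smul_top_iff]
    have : ((⟨j, hJI hj⟩ : ↥I) - i : ↥I).1 = -t := by
      simp only [Submodule.subtype_apply] at hjt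
      simp only [AddSubgroupClass.coe_sub]
      rw [← hjt]; ring
    rw [this]
    apply neg_mem
    rw [pow_two] at ht
    exact ht
  · rintro ⟨y, rfl⟩
    obtain ⟨j, rfl⟩ := Submodule.Quotient.mk_surjective _ y
    rw [conormalMap_mk, conormalQuot_mk, Submodule.Quotient.mk_eq_zero, Submodule.mem_comap]
    exact Submodule.mem_sup_left j.2

/-- An `A`-linear retraction of `J/IJ → I/I²`, given projectivity of `I/(J+I²)` over `R`. -/
lemma exists_retraction (ε : A →ₐ[R] R) (J : Ideal A) (hJI : J ≤ RingHom.ker ε)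
    (h2 : J ⊓ RingHom.ker ε ^ 2 = RingHom.ker ε * J)
    (h3 : Module.Projective R
      (↥(RingHom.ker ε) ⧸ Submodule.comap (RingHom.ker ε).subtype (J ⊔ RingHom.ker ε ^ 2))) :
    ∃ r : (↥(RingHom.ker ε) ⧸ (RingHom.ker ε • ⊤ : Submodule A ↥(RingHom.ker ε))) →ₗ[A]
        (↥J ⧸ (RingHom.ker ε • ⊤ : Submodule A ↥J)),
      r ∘ₗ conormalMap (RingHom.ker ε) J hJI = LinearMap.id := by
  set I := RingHom.ker ε with hI
  let f := (conormalMap I J hJI).restrictScalars R
  let g := (conormalQuot I J).restrictScalars R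
  have hex : Function.Exact f g := conormal_exact I J hJI
  have hfi : Function.Injective f := conormalMap_injective I J hJI h2
  have hgs : Function.Surjective g := conormalQuot_surjective I J
  obtain ⟨σ, hσ⟩ := Module.projective_lifting_property g LinearMap.id hgs
  have h12 : ∃ l, l ∘ₗ f = LinearMap.id :=
    ((Function.Exact.split_tfae hex hfi hgs).out 0 1 rfl rfl).1 ⟨σ, hσ⟩
  obtain ⟨l, hl⟩ := h12
  refine ⟨{ toFun := l, map_add' := l.map_add, map_smul' := ?_ }, ?_⟩
  · intro a x
    rw [RingHom.id_apply, smul_eq_eps_smul ε a x, smul_eq_eps_smul ε a (l x), l.map_smul]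
  · exact LinearMap.ext fun x => LinearMap.congr_fun hl x

end B

section C

variable {R A B K : Type u} [CommRing R] [CommRing A] [CommRing B] [Field K] [Algebra R A]
  [Algebra A B] [Algebra R B] [IsScalarTower R A B] [Algebra B K] [Algebra A K]
  [IsScalarTower A B K]

omit [Algebra R B] [IsScalarTower R A B] in
lemma injective_cotangentComplexBaseChange (ε : A →ₐ[R] R) (J : Ideal A)
    (hB : RingHom.ker (algebraMap A B) = J) (hJI : J ≤ RingHom.ker ε)
    (h2 : J ⊓ RingHom.ker ε ^ 2 = RingHom.ker ε * J)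
    (h3 : Module.Projective R
      (↥(RingHom.ker ε) ⧸ Submodule.comap (RingHom.ker ε).subtype (J ⊔ RingHom.ker ε ^ 2)))
    (hK : ∀ i ∈ RingHom.ker ε, algebraMap A K i = 0) :
    Function.Injective (cotangentComplexBaseChange R B A K) := by
  subst hB
  obtain ⟨r, hr⟩ := exists_retraction ε _ hJI h2 h3
  let δ' : Ω[A⁄R] →ₗ[A] (↥(RingHom.ker ε) ⧸ (RingHom.ker ε • ⊤ : Submodule A ↥(RingHom.ker ε))) :=
    (augDer ε).liftKaehlerDifferential
  have hδ' : ∀ a, δ' (D R A a) = augDer ε a := (augDer ε).liftKaehlerDifferential_comp_D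
  have h1 : Function.Injective (LinearMap.lTensor K (conormalMap (RingHom.ker ε) _ hJI)) := by
    have : LinearMap.lTensor K r ∘ₗ LinearMap.lTensor K (conormalMap (RingHom.ker ε) _ hJI) =
        LinearMap.id := by
      rw [← LinearMap.lTensor_comp, hr, LinearMap.lTensor_id]
    exact Function.LeftInverse.injective (g := LinearMap.lTensor K r) (LinearMap.congr_fun this)
  have h0 := lTensor_mkQ_injective (RingHom.ker ε) hK (M := ↥(RingHom.ker (algebraMap A B)))
  have hcomp : ∀ z, LinearMap.lTensor K δ' (cotangentComplexBaseChange R B A K z) =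
      LinearMap.lTensor K (conormalMap (RingHom.ker ε) _ hJI)
        (LinearMap.lTensor K (Submodule.mkQ _) z) := by
    intro z
    induction z with
    | zero => simp
    | add z z' hz hz' => simp only [map_add, hz, hz']
    | tmul x j =>
      rw [cotangentComplexBaseChange_tmul, kerToTensor_apply, TensorProduct.smul_tmul',
        smul_eq_mul, mul_one, LinearMap.lTensor_tmul, LinearMap.lTensor_tmul,
        LinearMap.lTensor_tmul, hδ', augDer_apply_of_mem ε j.1 (hJI j.2), Submodule.mkQ_apply,
        conormalMap_mk]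
  intro z z' h
  apply h0
  apply h1
  rw [← hcomp, ← hcomp, h]

end C


section Main

variable {R A : Type u} [CommRing R] [CommRing A] [Algebra R A]

theorem isSmoothAt_unitSection [Algebra.Smooth R A] (ε : A →ₐ[R] R) (J : Ideal A)
    (hJI : J ≤ RingHom.ker ε) (h1 : J.FG)
    (h2 : J ⊓ RingHom.ker ε ^ 2 = RingHom.ker ε * J)
    (h3 : Module.Projective R
      (↥(RingHom.ker ε) ⧸ Submodule.comap (RingHom.ker ε).subtype (J ⊔ RingHom.ker ε ^ 2)))
    (P : Ideal (A ⧸ J)) [P.IsPrime] (hP : (RingHom.ker ε).map (Ideal.Quotient.mk J) ≤ P) :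
    Algebra.IsSmoothAt R P := by
  have hker : RingHom.ker (algebraMap A (A ⧸ J)) = J := Ideal.mk_ker
  apply isSmoothAt_of_injective (A := A) (B := A ⧸ J) Ideal.Quotient.mk_surjective
    (by rw [hker]; exact h1) P
  apply injective_cotangentComplexBaseChange ε J hker hJI h2 h3
  intro i hi
  rw [IsScalarTower.algebraMap_apply A (A ⧸ J) (ResidueField (Localization.AtPrime P)),
    IsScalarTower.algebraMap_apply (A ⧸ J) (Localization.AtPrime P)
      (ResidueField (Localization.AtPrime P)),
    IsLocalRing.ResidueField.algebraMap_eq, IsLocalRing.residue_eq_zero_iff,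
    IsLocalization.AtPrime.to_map_mem_maximal_iff (Localization.AtPrime P) P]
  exact hP (Ideal.mem_map_of_mem _ hi)

end Main

end Groth.Agent.Helper18Jac
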