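import Mathlib

set_option autoImplicit false
universe u

open MvPolynomial

namespace Groth.Agent.Helper18Jac

noncomputable def mvPres (R : Type u) [CommRing R] (n : ℕ) :
    Algebra.Presentation R (MvPolynomial (Fin n) R) (Fin n) PEmpty.{1} where
  __ := Algebra.Generators.mvPolynomial R (Fin n)
  relation := PEmpty.elim
  span_range_relation_eq_ker := by
    simp only [Set.range_eq_empty, Ideal.span_empty]
    symm
    rw [Algebra.Generators.ker_eq_ker_aeval_val, ← RingHom.injective_iff_ker_eq_bot]
    intro a b hab
    simpa [Algebra.Generators.mvPolynomial] using hab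

noncomputable def mvPreSub (R : Type u) [CommRing R] (n : ℕ) :
    Algebra.PreSubmersivePresentation R (MvPolynomial (Fin n) R) (Fin n) PEmpty.{1} where
  toPresentation := mvPres R n
  map := PEmpty.elim
  map_inj := fun a => a.elim

theorem mvPreSub_jacobian (R : Type u) [CommRing R] (n : ℕ) : (mvPreSub R n).jacobian = 1 := by
  classical
  rw [Algebra.PreSubmersivePresentation.jacobian_eq_jacobiMatrix_det, Matrix.det_isEmpty, map_one]

noncomputable def mvSub (R : Type u) [CommRing R] (n : ℕ) :
    Algebra.SubmersivePresentation R (MvPolynomial (Fin n) R) (Fin n) PEmpty.{1} where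
  toPreSubmersivePresentation := mvPreSub R n
  jacobian_isUnit := by rw [mvPreSub_jacobian]; exact isUnit_one

instance isStandardSmoothOfRelativeDimension_mvPolynomial (R : Type u) [CommRing R] (n : ℕ) :
    Algebra.IsStandardSmoothOfRelativeDimension n R (MvPolynomial (Fin n) R) :=
  (mvSub R n).isStandardSmoothOfRelativeDimension (by simp [Algebra.Presentation.dimension])

end Groth.Agent.Helper18Jac
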