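import Mathlib
import Groth.Agent.Lib.Helper18Fitt13
import Groth.Agent.Lib.Helper18JacA

set_option autoImplicit false
universe u

open MvPolynomial TensorProduct KaehlerDifferential

namespace Groth.Agent.Helper18Jac

open Groth.Agent.Helper18Fitt

variable {A B : Type u} [CommRing A] [CommRing B] [Algebra A B]

theorem span_one_tmul_D (κ : Type u) [Field κ] [Algebra B κ] :
    Submodule.span κ (Set.range fun b : B => (1 : κ) ⊗ₜ[B] D A B b) = ⊤ := by
  have h := Submodule.baseChange_span (R := B) (A := κ) (Set.range (D A B))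
  rw [KaehlerDifferential.span_range_derivation, Submodule.baseChange_top] at h
  rw [h]
  congr 1
  ext v
  simp

/-- A finite-dimensional vector space spanned by a family contains a spanning subfamily of any
size at least the dimension. -/
theorem exists_fin_span_eq_top {κ V ι : Type u} [Field κ] [AddCommGroup V] [Module κ V]
    [Module.Finite κ V] [Inhabited ι] (v : ι → V) (hv : Submodule.span κ (Set.range v) = ⊤)
    (p : ℕ) (hp : Module.finrank κ V ≤ p) :
    ∃ c : Fin p → ι, Submodule.span κ (Set.range (v ∘ c)) = ⊤ := by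
  classical
  obtain ⟨b, hbs, hspan, hli⟩ := exists_linearIndependent κ (Set.range v)
  have hfin : b.Finite := hli.setFinite
  haveI : Fintype b := hfin.fintype
  have hcard : Fintype.card b ≤ p := (hli.fintype_card_le_finrank).trans hp
  let e : b ≃ Fin (Fintype.card b) := Fintype.equivFin b
  choose! pre hpre using fun w (hw : w ∈ b) => hbs hw
  let c : Fin p → ι := fun i =>
    if h : i.1 < Fintype.card b then pre (e.symm ⟨i.1, h⟩).1 else default
  refine ⟨c, ?_⟩
  rw [eq_top_iff, ← hv, ← hspan]
  apply Submodule.span_mono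
  intro w hw
  refine ⟨Fin.castLE hcard (e ⟨w, hw⟩), ?_⟩
  have h1 : (Fin.castLE hcard (e ⟨w, hw⟩)).1 < Fintype.card b := (e ⟨w, hw⟩).2
  simp only [Function.comp_apply, c, dif_pos h1]
  have : (⟨(Fin.castLE hcard (e ⟨w, hw⟩)).1, h1⟩ : Fin (Fintype.card b)) = e ⟨w, hw⟩ := rfl
  rw [this, Equiv.symm_apply_apply]
  exact hpre w hw

end Groth.Agent.Helper18Jac
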