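import Mathlib
import Groth.Agent.Lib.Helper18Fitt13
import Groth.Agent.Lib.Helper18JacB

set_option autoImplicit false
set_option linter.style.haveILetI false
universe u

open MvPolynomial TensorProduct KaehlerDifferential

namespace Groth.Agent.Helper18Jac

open Groth.Agent.Helper18Fitt

variable {A B : Type u} [CommRing A] [CommRing B] [Algebra A B]

theorem isUnramifiedAt_of_span {R : Type u} [CommRing R] [Algebra A R] [Algebra R B]
    [IsScalarTower A R B] [Algebra.FiniteType R B] (q : Ideal B) [q.IsPrime] {ι : Type u}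
    (c : ι → R)
    (hc : Submodule.span q.ResidueField
      (Set.range fun i => (1 : q.ResidueField) ⊗ₜ[B] D A B (algebraMap R B (c i))) = ⊤) :
    Algebra.IsUnramifiedAt R q := by
  haveI : Module.Finite B Ω[B⁄R] := inferInstance
  -- the fibre of Ω[B/R] vanishes
  have hsub : Subsingleton (q.ResidueField ⊗[B] Ω[B⁄R]) := by
    let T : q.ResidueField ⊗[B] Ω[B⁄A] →ₗ[q.ResidueField] q.ResidueField ⊗[B] Ω[B⁄R] :=
      (KaehlerDifferential.map A R B B).baseChange q.ResidueField
    have hT : Function.Surjective T :=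
      LinearMap.baseChange_surjective _ (KaehlerDifferential.map_surjective A R B)
    have hker : LinearMap.ker T = ⊤ := by
      rw [eq_top_iff, ← hc, Submodule.span_le]
      rintro _ ⟨i, rfl⟩
      simp only [SetLike.mem_coe, LinearMap.mem_ker, T, LinearMap.baseChange_tmul,
        KaehlerDifferential.map_D]
      rw [Algebra.algebraMap_self, RingHom.id_apply, Derivation.map_algebraMap, tmul_zero]
    refine ⟨fun a b => ?_⟩
    obtain ⟨a', rfl⟩ := hT a
    obtain ⟨b', rfl⟩ := hT b
    have ha : a' ∈ LinearMap.ker T := hker ▸ Submodule.mem_top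
    have hb : b' ∈ LinearMap.ker T := hker ▸ Submodule.mem_top
    rw [LinearMap.mem_ker.mp ha, LinearMap.mem_ker.mp hb]
  have h0 : ¬ Fitt.ideal B Ω[B⁄R] 0 ≤ q := by
    rw [not_le_iff_finrank]
    rw [Module.finrank_zero_of_subsingleton]
  obtain ⟨g, hg⟩ := (main_S6894 Ω[B⁄R] 0 q).2.1.mp h0
  have hloc : Subsingleton (LocalizedModule q.primeCompl Ω[B⁄R]) := by
    have : Set.range g = ∅ := Set.range_eq_empty g
    rw [this, Submodule.span_empty] at hg
    refine ⟨fun a b => ?_⟩
    have ha : a ∈ (⊥ : Submodule (Localization.AtPrime q) (LocalizedModule q.primeCompl Ω[B⁄R])) :=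
      hg ▸ Submodule.mem_top
    have hb : b ∈ (⊥ : Submodule (Localization.AtPrime q) (LocalizedModule q.primeCompl Ω[B⁄R])) :=
      hg ▸ Submodule.mem_top
    rw [(Submodule.mem_bot _).mp ha, (Submodule.mem_bot _).mp hb]
  have hmem : (⟨q, inferInstance⟩ : PrimeSpectrum B) ∈ Algebra.unramifiedLocus R B := by
    rw [Algebra.unramifiedLocus_eq_compl_support, Set.mem_compl_iff, Module.notMem_support_iff]
    exact hloc
  exact hmem

theorem exists_smooth_surjection [Algebra.FiniteType A B] (p : ℕ) (q : Ideal B) [q.IsPrime]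
    (h : ¬ Fitt.ideal B Ω[B⁄A] p ≤ q) :
    ∃ (g : B) (_ : g ∉ q) (C : Type u) (_ : CommRing C) (_ : Algebra A C)
      (φ : C →ₐ[A] Localization.Away g),
      Function.Surjective φ ∧ Algebra.IsStandardSmoothOfRelativeDimension p A C := by
  haveI : Module.Finite B Ω[B⁄A] := inferInstance
  have h1 : Module.finrank q.ResidueField (q.ResidueField ⊗[B] Ω[B⁄A]) ≤ p :=
    (not_le_iff_finrank _ p q).mp h
  haveI : Inhabited B := ⟨0⟩
  obtain ⟨c, hc⟩ := exists_fin_span_eq_top (κ := q.ResidueField)
    (fun b : B => (1 : q.ResidueField) ⊗ₜ[B] D A B b) (span_one_tmul_D q.ResidueField) p h1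
  let R := MvPolynomial (Fin p) A
  letI algRB : Algebra R B := (MvPolynomial.aeval c).toAlgebra
  haveI : IsScalarTower A R B := IsScalarTower.of_algebraMap_eq' (MvPolynomial.aeval c).comp_algebraMap.symm
  haveI : Algebra.FiniteType R B := Algebra.FiniteType.of_restrictScalars_finiteType A R B
  haveI : Algebra.IsUnramifiedAt R q := by
    refine isUnramifiedAt_of_span (A := A) q (fun i : ULift.{u} (Fin p) => (X i.down : R)) ?_
    rw [eq_top_iff, ← hc]
    apply Submodule.span_mono
    rintro _ ⟨i, rfl⟩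
    refine ⟨⟨i⟩, ?_⟩
    change _ ⊗ₜ[B] D A B (MvPolynomial.aeval c (X i)) = _
    rw [MvPolynomial.aeval_X]
    rfl
  obtain ⟨g, hg, P, φ, hφ⟩ := Algebra.IsUnramifiedAt.exists_hasStandardEtaleSurjectionOn (R := R) q
  letI : Algebra A P.Ring := ((algebraMap R P.Ring).comp (algebraMap A R)).toAlgebra
  haveI : IsScalarTower A R P.Ring := IsScalarTower.of_algebraMap_eq' rfl
  haveI : Algebra.IsStandardSmoothOfRelativeDimension 0 R P.Ring :=
    Algebra.Etale.iff_isStandardSmoothOfRelativeDimension_zero.mp inferInstance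
  refine ⟨g, hg, P.Ring, inferInstance, inferInstance, φ.restrictScalars A, hφ, ?_⟩
  have := Algebra.IsStandardSmoothOfRelativeDimension.trans (n := p) (m := 0) A R P.Ring
  rwa [zero_add] at this

end Groth.Agent.Helper18Jac
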