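import Mathlib
import Groth.Agent.Lib.Helper18Fitt13

set_option autoImplicit false
set_option linter.style.haveILetI false
universe u

open MvPolynomial TensorProduct KaehlerDifferential

namespace Groth.Agent.Helper18Jac

open Groth.Agent.Helper18Fitt

theorem fitt_eq_top_of_surjective {A C B' : Type u} [CommRing A] [CommRing C] [CommRing B']
    [Algebra A C] [Algebra A B'] (ψ : C →ₐ[A] B') (hψ : Function.Surjective ψ) (p : ℕ)
    [Algebra.IsStandardSmoothOfRelativeDimension p A C] : Fitt.ideal B' Ω[B'⁄A] p = ⊤ := by
  rcases subsingleton_or_nontrivial B' with hB | hB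
  · exact Subsingleton.elim _ _
  haveI : Nontrivial C := ψ.toRingHom.domain_nontrivial
  haveI : Algebra.IsStandardSmooth A C := Algebra.IsStandardSmoothOfRelativeDimension.isStandardSmooth p
  have hrank : Module.rank C Ω[C⁄A] = p :=
    Algebra.IsStandardSmoothOfRelativeDimension.rank_kaehlerDifferential p
  haveI : Module.Finite C Ω[C⁄A] := inferInstance
  have hfr : Module.finrank C Ω[C⁄A] = p := by
    apply Nat.cast_injective (R := Cardinal)
    rw [Module.finrank_eq_rank, hrank]
  let b : Module.Basis (Fin p) C Ω[C⁄A] := Module.finBasisOfFinrankEq C Ω[C⁄A] hfr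
  letI : Algebra C B' := ψ.toRingHom.toAlgebra
  haveI : IsScalarTower A C B' := IsScalarTower.of_algebraMap_eq (fun x => (ψ.commutes x).symm)
  have hsurj : Function.Surjective (KaehlerDifferential.map A A C B') :=
    KaehlerDifferential.map_surjective_of_surjective A A C B' hψ
  apply fitt_top_of_gens p (fun i => KaehlerDifferential.map A A C B' (b i))
  rw [eq_top_iff]
  intro w _
  obtain ⟨w', rfl⟩ := hsurj w
  have hw' : w' ∈ Submodule.span C (Set.range b) := by rw [b.span_eq]; trivial
  induction hw' using Submodule.span_induction with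
  | mem x hx =>
    obtain ⟨i, rfl⟩ := hx
    exact Submodule.subset_span ⟨i, rfl⟩
  | zero => rw [map_zero]; exact Submodule.zero_mem _
  | add x y _ _ hx hy => rw [map_add]; exact Submodule.add_mem _ (hx trivial) (hy trivial)
  | smul a x _ hx =>
    rw [LinearMap.map_smul_of_tower]
    have : a • (KaehlerDifferential.map A A C B') x = (algebraMap C B' a) • (KaehlerDifferential.map A A C B') x :=
      (algebraMap_smul B' a _).symm
    rw [this]
    exact Submodule.smul_mem _ _ (hx trivial)

end Groth.Agent.Helper18Jac
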