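import Mathlib
import Groth.Agent.Lib.Helper18FittSh6
import Groth.Agent.Lib.Helper18JacD

set_option autoImplicit false
set_option linter.style.haveILetI false
universe u

open CategoryTheory AlgebraicGeometry Limits Opposite TopologicalSpace TensorProduct

namespace Groth.Agent.Helper18Jac

open Groth.Agent.Helper18Fitt Groth.Agent.Helper18FittSh Groth.Agent.Lib.Helper20.OmegaQCoh

theorem notMem_support_of_closedImmersion {X Y : Scheme.{u}} (f : X ⟶ Y)
    [LocallyOfFinitePresentation f] [QuasiSeparated f] (p : ℕ) (x : X)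
    (U : X.Opens) (U' : Scheme.{u}) (i : (U : Scheme.{u}) ⟶ U') (g : U' ⟶ Y) (hx : x ∈ U)
    [IsClosedImmersion i] [SmoothOfRelativeDimension p g] (hfac : i ≫ g = U.ι ≫ f) :
    x ∉ (Fitt.sheafIdeal (Omega.sheaf f) p).support := by
  haveI : (Omega.sheaf f).IsQuasicoherent := isQuasicoherent_omega f
  have hfin : ∀ V : X.affineOpens, Module.Finite Γ(X, V.1) Γ(Omega.sheaf f, V.1) :=
    fun V => finite_sections_omega f V.2
  let x' : U := ⟨x, hx⟩
  obtain ⟨V, hV, W, hW, hxW, e, hsm⟩ :=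
    SmoothOfRelativeDimension.exists_isStandardSmoothOfRelativeDimension (n := p) (f := g) (i x')
  let W' : U.toScheme.Opens := i ⁻¹ᵁ W
  have hW' : IsAffineOpen W' := hW.preimage i
  let W'' : X.Opens := U.ι ''ᵁ W'
  have hW'' : IsAffineOpen W'' := hW'.image_of_isOpenImmersion U.ι
  have hxW'' : x ∈ W'' := ⟨x', hxW, rfl⟩
  have hle : W'' ≤ f ⁻¹ᵁ V := by
    rintro _ ⟨y', hy', rfl⟩
    change f (U.ι y') ∈ V
    rw [← Scheme.Hom.comp_apply, ← hfac, Scheme.Hom.comp_apply]
    exact e hy'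
  rw [mem_support_iff (Omega.sheaf f) p hfin x ⟨W'', hW''⟩ hxW'']
  intro hcon
  have htop : Fitt.ideal Γ(X, W'') Γ(Omega.sheaf f, W'') p = ⊤ := by
    letI a1 : Algebra Γ(Y, V) Γ(X, W'') := (f.appLE V W'' hle).hom.toAlgebra
    letI a2 : Algebra Γ(Y, V) Γ(U', W) := (g.appLE V W e).hom.toAlgebra
    obtain ⟨eq⟩ := nonempty_sections_omega_equiv f hW'' hV hle
    rw [fitt_congr eq p]
    haveI : Algebra.IsStandardSmoothOfRelativeDimension p Γ(Y, V) Γ(U', W) := hsm
    let ψ0 : Γ(U', W) →+* Γ(X, W'') := (i.app W).hom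
    have hψ0 : Function.Surjective ψ0 := i.app_surjective W hW
    have hcomm : ∀ r : Γ(Y, V), ψ0 (algebraMap Γ(Y, V) Γ(U', W) r) = algebraMap Γ(Y, V) Γ(X, W'') r := by
      intro r
      have h1 : g.appLE V W e ≫ i.appLE W W' le_rfl = (i ≫ g).appLE V W' (by
          intro y hy; exact e hy) :=
        Scheme.Hom.appLE_comp_appLE _ _ _ _ _ _ _
      have h2 : f.appLE V W'' hle ≫ U.ι.appLE W'' W' (by
          intro y hy; exact ⟨y, hy, rfl⟩) = (U.ι ≫ f).appLE V W' (by
          intro y hy; exact hle ⟨y, hy, rfl⟩) :=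
        Scheme.Hom.appLE_comp_appLE _ _ _ _ _ _ _
      have h3 : (i ≫ g).appLE V W' (by intro y hy; exact e hy) =
          (U.ι ≫ f).appLE V W' (by intro y hy; exact hle ⟨y, hy, rfl⟩) := by
        congr 1
      have h4 : ∀ s : Γ(X, W''), (U.ι.appLE W'' W' (by intro y hy; exact ⟨y, hy, rfl⟩)).hom s = s := by
        intro s
        rw [Scheme.Opens.ι_appLE]
        exact congrArg (fun φ => φ.hom s) (X.presheaf.map_id _)
      have h5 : i.appLE W W' le_rfl = i.app W := by
        rw [Scheme.Hom.appLE]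
        erw [CategoryTheory.Functor.map_id, Category.comp_id]
      have h1r := congrArg (fun φ => φ.hom r) h1
      have h2r := congrArg (fun φ => φ.hom r) h2
      have h3r := congrArg (fun φ => φ.hom r) h3
      simp only [CommRingCat.hom_comp, RingHom.comp_apply] at h1r h2r
      rw [h4] at h2r
      rw [h5] at h1r
      exact h1r.trans (h3r.trans h2r.symm)
    let ψ : Γ(U', W) →ₐ[Γ(Y, V)] Γ(X, W'') := { ψ0 with commutes' := hcomm }
    exact fitt_eq_top_of_surjective ψ hψ0 p
  rw [htop] at hcon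
  exact (hW''.primeIdealOf ⟨x, hxW''⟩).2.ne_top (top_le_iff.mp hcon)

end Groth.Agent.Helper18Jac
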