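import Mathlib
import Groth.Agent.Lib.Helper18FittSh6
import Groth.Agent.Lib.Helper18JacC

set_option autoImplicit false
set_option linter.style.haveILetI false
universe u

open CategoryTheory AlgebraicGeometry Limits Opposite TopologicalSpace TensorProduct

namespace Groth.Agent.Helper18Jac

open Groth.Agent.Helper18Fitt Groth.Agent.Helper18FittSh Groth.Agent.Lib.Helper20.OmegaQCoh

theorem smoothOfRelativeDimension_SpecMap {A C : Type u} [CommRing A] [CommRing C] [Algebra A C]
    (p : ℕ) [Algebra.IsStandardSmoothOfRelativeDimension p A C] :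
    SmoothOfRelativeDimension p (Spec.map (CommRingCat.ofHom (algebraMap A C))) := by
  rw [HasRingHomProperty.Spec_iff (P := @SmoothOfRelativeDimension p)]
  apply RingHom.locally_of RingHom.isStandardSmoothOfRelativeDimension_respectsIso
  rw [CommRingCat.hom_ofHom, RingHom.isStandardSmoothOfRelativeDimension_algebraMap]
  infer_instance

theorem exists_closedImmersion_of_notMem_support {X Y : Scheme.{u}} (f : X ⟶ Y)
    [LocallyOfFinitePresentation f] [QuasiSeparated f] (p : ℕ) (x : X)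
    (hx : x ∉ (Fitt.sheafIdeal (Omega.sheaf f) p).support) :
    ∃ (U : X.Opens) (U' : Scheme.{u}) (i : (U : Scheme.{u}) ⟶ U') (g : U' ⟶ Y),
        x ∈ U ∧ IsClosedImmersion i ∧ SmoothOfRelativeDimension p g ∧ i ≫ g = U.ι ≫ f := by
  haveI : (Omega.sheaf f).IsQuasicoherent := isQuasicoherent_omega f
  have hfin : ∀ V : X.affineOpens, Module.Finite Γ(X, V.1) Γ(Omega.sheaf f, V.1) :=
    fun V => finite_sections_omega f V.2
  obtain ⟨V, hV, hfxV, -⟩ := exists_isAffineOpen_mem_and_subset (x := f x) (U := ⊤) trivial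
  obtain ⟨W, hW, hxW, hle⟩ := exists_isAffineOpen_mem_and_subset (x := x) (U := f ⁻¹ᵁ V) hfxV
  rw [mem_support_iff (Omega.sheaf f) p hfin x ⟨W, hW⟩ hxW] at hx
  letI a1 : Algebra Γ(Y, V) Γ(X, W) := (f.appLE V W hle).hom.toAlgebra
  obtain ⟨eq⟩ := nonempty_sections_omega_equiv f hW hV hle
  change ¬ Fitt.ideal Γ(X, W) Γ(Omega.sheaf f, W) p ≤ _ at hx
  rw [fitt_congr eq p] at hx
  haveI : Algebra.FiniteType Γ(Y, V) Γ(X, W) := f.finiteType_appLE hV hW hle
  obtain ⟨g, hg, C, _, _, φ, hφ, hsm⟩ :=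
    exists_smooth_surjection p (hW.primeIdealOf ⟨x, hxW⟩).asIdeal hx
  have hU : IsAffineOpen (X.basicOpen g) := hW.basicOpen g
  haveI : IsLocalization.Away g Γ(X, X.basicOpen g) := hW.isLocalization_basicOpen g
  let eLoc : Localization.Away g ≃ₐ[Γ(X, W)] Γ(X, X.basicOpen g) :=
    IsLocalization.algEquiv (Submonoid.powers g) _ _
  let ψ : C →+* Γ(X, X.basicOpen g) := eLoc.toAlgHom.toRingHom.comp φ.toRingHom
  have hψ : Function.Surjective ψ := eLoc.surjective.comp hφ
  have hψA : ψ.comp (algebraMap Γ(Y, V) C) =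
      (f.appLE V (X.basicOpen g) ((X.basicOpen_le g).trans hle)).hom := by
    ext r
    change eLoc (φ (algebraMap Γ(Y, V) C r)) = _
    rw [φ.commutes, IsScalarTower.algebraMap_apply Γ(Y, V) Γ(X, W) (Localization.Away g),
      eLoc.commutes]
    change (X.presheaf.map (homOfLE (X.basicOpen_le g)).op).hom ((f.appLE V W hle).hom r) = _
    rw [← RingHom.comp_apply, ← CommRingCat.hom_comp, Scheme.Hom.appLE_map]
  refine ⟨X.basicOpen g, Spec (.of C), hU.isoSpec.hom ≫ Spec.map (CommRingCat.ofHom ψ),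
    Spec.map (CommRingCat.ofHom (algebraMap Γ(Y, V) C)) ≫ hV.fromSpec, ?_, ?_, ?_, ?_⟩
  · exact (Groth.Agent.Lib.Helper2.mem_basicOpen_iff_notMem_primeIdealOf hW x hxW g).mpr hg
  · haveI : IsClosedImmersion (Spec.map (CommRingCat.ofHom ψ)) :=
      IsClosedImmersion.spec_of_surjective _ hψ
    infer_instance
  · haveI := smoothOfRelativeDimension_SpecMap (A := Γ(Y, V)) (C := C) p
    exact inferInstanceAs (SmoothOfRelativeDimension (p + 0) _)
  · rw [Category.assoc, ← Spec.map_comp_assoc, ← CommRingCat.ofHom_comp, hψA]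
    rw [CommRingCat.ofHom_hom, IsAffineOpen.SpecMap_appLE_fromSpec f hV hU,
      IsAffineOpen.isoSpec_hom_fromSpec_assoc]

end Groth.Agent.Helper18Jac
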