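import Mathlib
import Groth.Agent.Lib.Helper18Fitt28

set_option autoImplicit false
set_option linter.style.haveILetI false
universe u

open Matrix

namespace Groth.Agent.Helper18Jac

open Groth.Agent.Helper18Fitt

variable {B : Type u} [CommRing B] {K F Q : Type u} [AddCommGroup K] [Module B K]
  [AddCommGroup F] [Module B F] [AddCommGroup Q] [Module B Q]

/-- from a unit combination of maximal minors of the matrix of `φ` on generators, a retraction -/
theorem exists_retraction_of_mem_minorsFam {N c : ℕ} (e : Module.Basis (Fin N) B F)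
    (φ : K →ₗ[B] F) (ρ : Fin c → K) (hρ : Submodule.span B (Set.range ρ) = ⊤)
    (h1 : (1 : B) ∈ minorsFam (fun i k => e.repr (φ (ρ i)) k) c) :
    ∃ l : F →ₗ[B] K, l ∘ₗ φ = LinearMap.id := by
  classical
  suffices H : ∀ δ ∈ minorsFam (fun i k => e.repr (φ (ρ i)) k) c,
      ∃ l : F →ₗ[B] K, l ∘ₗ φ = δ • LinearMap.id by
    obtain ⟨l, hl⟩ := H 1 h1
    exact ⟨l, by rw [hl, one_smul]⟩
  intro δ hδ
  unfold minorsFam at hδ
  induction hδ using Submodule.span_induction with
  | mem d hd =>
    obtain ⟨β, ε, rfl⟩ := hd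
    set Z : Matrix (Fin c) (Fin c) B := Matrix.of fun a b => e.repr (φ (ρ (β b))) (ε a) with hZ
    by_cases hβ : Function.Injective β
    · have hβs : Function.Surjective β := Finite.surjective_of_injective hβ
      let l : F →ₗ[B] K := ∑ j : Fin c,
        ((LinearMap.proj j) ∘ₗ (Matrix.toLin' Z.adjugate) ∘ₗ
          (LinearMap.pi fun a => (e.coord (ε a)))).smulRight (ρ (β j))
      refine ⟨l, ?_⟩
      apply LinearMap.ext_on_range hρ
      intro i
      obtain ⟨j', rfl⟩ := hβs i
      simp only [LinearMap.comp_apply, LinearMap.smul_apply, LinearMap.id_apply, l,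
        LinearMap.sum_apply, LinearMap.smulRight_apply, LinearMap.proj_apply, Matrix.toLin'_apply]
      have hcol : (LinearMap.pi fun a => (e.coord (ε a))) (φ (ρ (β j'))) = Z.col j' := by
        ext a
        simp [hZ, Matrix.col_apply]
      have key : ∀ j, (Z.adjugate.mulVec (Z.col j')) j = if j = j' then Z.det else 0 := by
        intro j
        have h2 : Z.adjugate.mulVec (Z.col j') = (Z.adjugate * Z).col j' := by
          ext a
          simp only [Matrix.mulVec, Matrix.mul_apply, dotProduct, Matrix.col_apply]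
        rw [h2, Matrix.adjugate_mul]
        simp [Matrix.col_apply, Matrix.smul_apply, Matrix.one_apply]
      rw [hcol]
      simp_rw [key]
      simp
    · have hdet : Z.det = 0 := by
        rw [Function.Injective] at hβ
        push Not at hβ
        obtain ⟨j, j', hjj', hne⟩ := hβ
        apply Matrix.det_zero_of_column_eq hne
        intro a
        simp only [hZ, Matrix.of_apply, hjj']
      refine ⟨0, ?_⟩
      rw [hdet, zero_smul, LinearMap.zero_comp]
  | zero => exact ⟨0, by rw [zero_smul, LinearMap.zero_comp]⟩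
  | add x y _ _ hx hy =>
    obtain ⟨l₁, h₁⟩ := hx
    obtain ⟨l₂, h₂⟩ := hy
    exact ⟨l₁ + l₂, by rw [LinearMap.add_comp, h₁, h₂, add_smul]⟩
  | smul a x _ hx =>
    obtain ⟨l₁, h₁⟩ := hx
    exact ⟨a • l₁, by rw [LinearMap.smul_comp, h₁, smul_eq_mul, mul_smul]⟩

/-- the relations among the images of a basis under a surjection with kernel `range φ` -/
theorem rel_iff {N c : ℕ} (e : Module.Basis (Fin N) B F) (φ : K →ₗ[B] F) (π : F →ₗ[B] Q)
    (hex : Function.Exact φ π) (ρ : Fin c → K) (hρ : Submodule.span B (Set.range ρ) = ⊤)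
    (z : Fin N → B) :
    ∑ k, z k • π (e k) = 0 ↔
      z ∈ Submodule.span B (Set.range (fun i k => e.repr (φ (ρ i)) k)) := by
  have h1 : ∑ k, z k • π (e k) = π (e.equivFun.symm z) := by
    rw [Module.Basis.equivFun_symm_apply, map_sum]
    simp_rw [map_smul]
  have h2 : Submodule.span B (Set.range (fun i k => e.repr (φ (ρ i)) k)) =
      (LinearMap.range φ).map e.equivFun.toLinearMap := by
    have : (fun i k => e.repr (φ (ρ i)) k) = (e.equivFun.toLinearMap ∘ₗ φ) ∘ ρ := by
      ext i k
      simp [Module.Basis.equivFun_apply]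
    rw [this, Set.range_comp, ← Submodule.map_span, hρ, Submodule.map_top, LinearMap.range_comp]
  rw [h1, h2, hex (e.equivFun.symm z)]
  constructor
  · rintro ⟨y, hy⟩
    refine ⟨φ y, ⟨y, rfl⟩, ?_⟩
    change e.equivFun (φ y) = z
    rw [hy, LinearEquiv.apply_symm_apply]
  · rintro ⟨v, ⟨y, rfl⟩, hv⟩
    refine ⟨y, ?_⟩
    rw [← hv]
    exact (e.equivFun.symm_apply_apply _).symm

theorem exists_retraction_of_fitt_eq_top {m c : ℕ} (e : Module.Basis (Fin (m + c)) B F)
    (φ : K →ₗ[B] F) (π : F →ₗ[B] Q) (hex : Function.Exact φ π) (hπ : Function.Surjective π)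
    (ρ : Fin c → K) (hρ : Submodule.span B (Set.range ρ) = ⊤)
    (htop : Fitt.ideal B Q m = ⊤) :
    ∃ l : F →ₗ[B] K, l ∘ₗ φ = LinearMap.id := by
  apply exists_retraction_of_mem_minorsFam e φ ρ hρ
  have hx : Submodule.span B (Set.range (fun k => π (e k))) = ⊤ := by
    have : (fun k => π (e k)) = π ∘ e := rfl
    rw [this, Set.range_comp, ← Submodule.map_span, e.span_eq, Submodule.map_top,
      LinearMap.range_eq_top.mpr hπ]
  have h1 := fitt_eq_minors (fun k => π (e k)) hx m
  have hs : m + c - m = c := by omega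
  rw [hs, minors_eq_minorsFam (fun k => π (e k)) (fun i k => e.repr (φ (ρ i)) k)
    (fun z => rel_iff e φ π hex ρ hρ z) c, htop] at h1
  rw [← h1]
  trivial

end Groth.Agent.Helper18Jac
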