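import Mathlib
import Groth.Agent.Lib.Helper18JacG
import Groth.Agent.Lib.Helper18Fitt13
import Groth.Agent.Lib.Helper18H1ConA

set_option autoImplicit false
set_option linter.style.haveILetI false
universe u

open TensorProduct KaehlerDifferential

namespace Groth.Agent.Helper18Jac

open Groth.Agent.Helper18Fitt

variable {A C B : Type u} [CommRing A] [CommRing C] [CommRing B] [Algebra A C] [Algebra A B]

/-- Jacobian criterion, sufficiency: a quotient of a standard smooth algebra of relative dimension
`m + c` by `c` equations whose differentials module has unit `m`-th Fitting ideal is formally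
smooth. -/
theorem formallySmooth_of_fitt_eq_top (ψ : C →ₐ[A] B) (hψ : Function.Surjective ψ) {m c : ℕ}
    [Algebra.IsStandardSmoothOfRelativeDimension (m + c) A C]
    (r : Fin c → C) (hker : RingHom.ker ψ = Ideal.span (Set.range r))
    (htop : Fitt.ideal B Ω[B⁄A] m = ⊤) : Algebra.FormallySmooth A B := by
  let P : Algebra.Extension.{u} A B := Algebra.Extension.ofSurjective ψ hψ
  haveI : Algebra.IsStandardSmooth A C :=
    Algebra.IsStandardSmoothOfRelativeDimension.isStandardSmooth (m + c)
  haveI : Algebra.FormallySmooth A P.Ring := inferInstanceAs (Algebra.FormallySmooth A C)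
  rw [P.formallySmooth_iff_split_injection]
  rcases subsingleton_or_nontrivial C with hC | hC
  · haveI : Subsingleton B := hψ.subsingleton
    haveI : Subsingleton P.Cotangent := Module.subsingleton B _
    exact ⟨0, Subsingleton.elim _ _⟩
  have hrank : Module.rank C Ω[C⁄A] = (m + c : ℕ) :=
    Algebra.IsStandardSmoothOfRelativeDimension.rank_kaehlerDifferential (m + c)
  haveI : Module.Finite C Ω[C⁄A] := inferInstance
  have hfr : Module.finrank C Ω[C⁄A] = m + c := by
    apply Nat.cast_injective (R := Cardinal)
    rw [Module.finrank_eq_rank, hrank]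
  let b : Module.Basis (Fin (m + c)) C Ω[C⁄A] := Module.finBasisOfFinrankEq C Ω[C⁄A] hfr
  letI : Algebra C B := ψ.toAlgebra
  let e : Module.Basis (Fin (m + c)) B P.CotangentSpace := b.baseChange B
  have hker' : Ideal.span (Set.range r) = P.ker := hker.symm
  have hρ := Algebra.Extension.Cotangent.span_eq_top_of_span_eq_ker (P := P) r hker'
  exact exists_retraction_of_fitt_eq_top e P.cotangentComplex P.toKaehler
    P.exact_cotangentComplex_toKaehler P.toKaehler_surjective _ hρ htop

/-- Jacobian criterion, necessity: if the quotient of a standard smooth algebra of relative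
dimension `m + c` by an `H_1`-regular sequence of length `c` is formally smooth, the `m`-th
Fitting ideal of its differentials is contained in no prime. -/
theorem not_fitt_le_of_formallySmooth (ψ : C →ₐ[A] B) (hψ : Function.Surjective ψ) {m c : ℕ}
    [Algebra.IsStandardSmoothOfRelativeDimension (m + c) A C]
    (r : Fin c → C) (hker : RingHom.ker ψ = Ideal.span (Set.range r))
    (hreg : CAlgX.IsH1Regular r) [Algebra.FormallySmooth A B] [Algebra.FiniteType A B]
    (q : Ideal B) [q.IsPrime] : ¬ Fitt.ideal B Ω[B⁄A] m ≤ q := by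
  let P : Algebra.Extension.{u} A B := Algebra.Extension.ofSurjective ψ hψ
  haveI : Algebra.IsStandardSmooth A C :=
    Algebra.IsStandardSmoothOfRelativeDimension.isStandardSmooth (m + c)
  haveI : Algebra.FormallySmooth A P.Ring := inferInstanceAs (Algebra.FormallySmooth A C)
  obtain ⟨l, hl⟩ := P.formallySmooth_iff_split_injection.mp inferInstance
  haveI : Nontrivial B := ⟨⟨0, 1, fun h => (inferInstance : q.IsPrime).ne_top
    ((Ideal.eq_top_iff_one q).mpr (h ▸ q.zero_mem))⟩⟩
  haveI : Nontrivial C := ψ.toRingHom.domain_nontrivial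
  have hrank : Module.rank C Ω[C⁄A] = (m + c : ℕ) :=
    Algebra.IsStandardSmoothOfRelativeDimension.rank_kaehlerDifferential (m + c)
  haveI : Module.Finite C Ω[C⁄A] := inferInstance
  have hfr : Module.finrank C Ω[C⁄A] = m + c := by
    apply Nat.cast_injective (R := Cardinal)
    rw [Module.finrank_eq_rank, hrank]
  let b : Module.Basis (Fin (m + c)) C Ω[C⁄A] := Module.finBasisOfFinrankEq C Ω[C⁄A] hfr
  letI : Algebra C B := ψ.toAlgebra
  let e : Module.Basis (Fin (m + c)) B P.CotangentSpace := b.baseChange B
  have hker' : Ideal.span (Set.range r) = P.ker := hker.symm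
  have hmem : ∀ i, r i ∈ P.ker := fun i => hker'.le (Ideal.subset_span ⟨i, rfl⟩)
  let ρ : Fin c → P.Cotangent := fun i => Algebra.Extension.Cotangent.mk ⟨r i, hmem i⟩
  have hρ : Submodule.span B (Set.range ρ) = ⊤ :=
    Algebra.Extension.Cotangent.span_eq_top_of_span_eq_ker (P := P) r hker'
  -- linear independence of the classes
  have hli : LinearIndependent B ρ := by
    rw [Fintype.linearIndependent_iff]
    intro g hg k
    have hg0 : ∀ k, ∃ x : P.Ring, ψ x = g k := fun k => hψ (g k)
    choose g' hg' using hg0
    have h1 : ∑ k, g k • ρ k =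
        Algebra.Extension.Cotangent.mk (P := P) (∑ k, g' k • (⟨r k, hmem k⟩ : P.ker)) := by
      rw [map_sum]
      refine Finset.sum_congr rfl fun k _ => ?_
      rw [map_smul, ← hg' k]
      exact (algebraMap_smul B (g' k) (ρ k)).symm
    rw [h1, Algebra.Extension.Cotangent.mk_eq_zero_iff] at hg
    have h2 : ((∑ k, g' k • (⟨r k, hmem k⟩ : P.ker) : P.ker) : P.Ring) =
        ∑ k, g' k * (show P.Ring from r k) := by
      rw [AddSubmonoidClass.coe_finsetSum]
      rfl
    rw [h2, ← hker'] at hg
    have h3 := Groth.Agent.Helper18H1Con.coeff_mem_of_sum_mem_sq (B := C) r hreg g' hg k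
    rw [← hker, RingHom.mem_ker] at h3
    rw [← hg' k]
    exact h3
  let bK : Module.Basis (Fin c) B P.Cotangent := Module.Basis.mk hli hρ.ge
  haveI : Module.Free B P.Cotangent := Module.Free.of_basis bK
  haveI : Module.Finite B P.Cotangent := Module.Finite.of_basis bK
  haveI : Module.Free B P.CotangentSpace := Module.Free.of_basis e
  haveI : Module.Finite B P.CotangentSpace := Module.Finite.of_basis e
  haveI : Module.Finite B Ω[B⁄A] := inferInstance
  haveI : Module.Projective B Ω[B⁄A] := inferInstance
  let eqv : P.CotangentSpace ≃ₗ[B] P.Cotangent × Ω[B⁄A] :=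
    (P.exact_cotangentComplex_toKaehler.splitInjectiveEquiv P.toKaehler_surjective ⟨l, hl⟩).1
  have h1 := Module.rankAtStalk_eq_of_equiv eqv
  rw [Module.rankAtStalk_prod, Module.rankAtStalk_eq_finrank_of_free,
    Module.rankAtStalk_eq_finrank_of_free, Module.finrank_eq_card_basis e,
    Module.finrank_eq_card_basis bK] at h1
  have h2 := congrFun h1 ⟨q, inferInstance⟩
  simp only [Pi.natCast_def, Fintype.card_fin, Pi.add_apply, Nat.cast_id] at h2
  have h3 : Module.rankAtStalk Ω[B⁄A] ⟨q, inferInstance⟩ = m := by omega
  rw [not_le_iff_finrank]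
  have h4 := Module.rankAtStalk_eq (M := Ω[B⁄A]) ⟨q, inferInstance⟩
  rw [h3] at h4
  exact le_of_eq h4.symm

end Groth.Agent.Helper18Jac
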