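import Mathlib

set_option autoImplicit false
set_option linter.style.haveILetI false
universe u

open CategoryTheory AlgebraicGeometry Limits Opposite TopologicalSpace

namespace Groth.Agent.Helper18Jac

theorem exists_smooth_nbhd_iff {Y X : Scheme.{u}} (f : Y ⟶ X) [LocallyOfFinitePresentation f]
    (y : Y) : (∃ V : Y.Opens, y ∈ V ∧ Smooth (V.ι ≫ f)) ↔ y ∈ f.smoothLocus := by
  constructor
  · rintro ⟨V, hyV, hsm⟩
    have h1 : (V.ι ≫ f).smoothLocus = ⊤ := Scheme.Hom.smoothLocus_eq_top _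
    rw [← Scheme.Hom.preimage_smoothLocus_eq] at h1
    have h2 : (⟨y, hyV⟩ : V) ∈ V.ι ⁻¹ᵁ f.smoothLocus := by rw [h1]; trivial
    exact h2
  · intro hy
    refine ⟨f.smoothLocus, hy, ?_⟩
    rw [← Scheme.Hom.smoothLocus_eq_top_iff, ← Scheme.Hom.preimage_smoothLocus_eq]
    rw [eq_top_iff]
    intro z _
    exact z.2

theorem exists_point_of_prime {Y : Scheme.{u}} {V : Y.Opens} (hV : IsAffineOpen V)
    (𝔭 : PrimeSpectrum Γ(Y, V)) : ∃ (y' : Y) (h : y' ∈ V), hV.primeIdealOf ⟨y', h⟩ = 𝔭 := by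
  have hmem : hV.fromSpec 𝔭 ∈ V := by
    have h0 : hV.fromSpec 𝔭 ∈ hV.fromSpec.opensRange := ⟨𝔭, rfl⟩
    exact hV.opensRange_fromSpec.le h0
  refine ⟨hV.fromSpec 𝔭, hmem, ?_⟩
  apply hV.fromSpec.isOpenEmbedding.injective
  rw [hV.fromSpec_primeIdealOf]

/-- on an affine chart all of whose points are smooth points, the coordinate ring map is formally
smooth -/
theorem formallySmooth_of_le_smoothLocus {Y X : Scheme.{u}} (f : Y ⟶ X)
    [LocallyOfFinitePresentation f] {V₂ : X.Opens} (hV₂ : IsAffineOpen V₂) {V₄ : Y.Opens}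
    (hV₄ : IsAffineOpen V₄) (hle : V₄ ≤ f ⁻¹ᵁ V₂) (hsm : V₄ ≤ f.smoothLocus) :
    letI := (f.appLE V₂ V₄ hle).hom.toAlgebra
    Algebra.FormallySmooth Γ(X, V₂) Γ(Y, V₄) := by
  letI := (f.appLE V₂ V₄ hle).hom.toAlgebra
  haveI : Algebra.FinitePresentation Γ(X, V₂) Γ(Y, V₄) := f.finitePresentation_appLE hV₂ hV₄ hle
  rw [← Algebra.smoothLocus_eq_univ_iff, Set.eq_univ_iff_forall]
  intro 𝔭
  obtain ⟨y', hy', rfl⟩ := exists_point_of_prime hV₄ 𝔭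
  exact (formallySmooth_stalkMap_iff V₂ hV₂ V₄ hV₄ hle hy').mp (hsm hy')

theorem mem_smoothLocus_of_formallySmooth {Y X : Scheme.{u}} (f : Y ⟶ X)
    [LocallyOfFinitePresentation f] {V₂ : X.Opens} (hV₂ : IsAffineOpen V₂) {V₄ : Y.Opens}
    (hV₄ : IsAffineOpen V₄) (hle : V₄ ≤ f ⁻¹ᵁ V₂)
    (h : letI := (f.appLE V₂ V₄ hle).hom.toAlgebra
      Algebra.FormallySmooth Γ(X, V₂) Γ(Y, V₄)) {y : Y} (hy : y ∈ V₄) : y ∈ f.smoothLocus := by
  letI := (f.appLE V₂ V₄ hle).hom.toAlgebra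
  haveI : Algebra.FinitePresentation Γ(X, V₂) Γ(Y, V₄) := f.finitePresentation_appLE hV₂ hV₄ hle
  rw [Scheme.Hom.mem_smoothLocus, formallySmooth_stalkMap_iff V₂ hV₂ V₄ hV₄ hle hy,
    Algebra.smoothLocus_eq_univ_iff.mpr h]
  trivial

end Groth.Agent.Helper18Jac
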