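import Mathlib
import Groth.Agent.Lib.Helper18CIntC
import Groth.Agent.Lib.Helper13KzH1
import Groth.Agent.Lib.Helper5ImmBC

set_option autoImplicit false
set_option linter.style.haveILetI false
universe u

open CategoryTheory AlgebraicGeometry Limits Opposite TopologicalSpace

namespace Groth.Agent.Helper18Jac

open RingHom in
theorem isStandardSmooth_basicOpen {P X : Scheme.{u}} (π : P ⟶ X) (N : ℕ) {V₂ : X.Opens}
    {W₂ : P.Opens} (hW₂ : IsAffineOpen W₂) (e₂ : W₂ ≤ π ⁻¹ᵁ V₂)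
    (hsm : (π.appLE V₂ W₂ e₂).hom.IsStandardSmoothOfRelativeDimension N) (h : Γ(P, W₂)) :
    (π.appLE V₂ (P.basicOpen h) ((P.basicOpen_le h).trans e₂)).hom.IsStandardSmoothOfRelativeDimension
      N := by
  haveI : IsLocalization.Away h Γ(P, P.basicOpen h) := hW₂.isLocalization_basicOpen h
  have heq : π.appLE V₂ (P.basicOpen h) ((P.basicOpen_le h).trans e₂) = π.appLE V₂ W₂ e₂ ≫
      CommRingCat.ofHom (algebraMap Γ(P, W₂) Γ(P, P.basicOpen h)) := by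
    rw [RingHom.algebraMap_toAlgebra, CommRingCat.ofHom_hom, Scheme.Hom.appLE_map]
  rw [heq, CommRingCat.hom_comp, CommRingCat.hom_ofHom]
  exact (isStandardSmoothOfRelativeDimension_stableUnderCompositionWithLocalizationAway N).right
    _ h _ hsm

theorem exists_chart {Y X : Scheme.{u}} (m : ℕ) (y : Y)
    (U : Y.Opens) (P : Scheme.{u}) (i : (U : Scheme.{u}) ⟶ P) (π : P ⟶ X) (c : ℕ) (hyU : y ∈ U)
    (hreg : RegImm.IsRegularImmersionOfCodim RegImm.Kind.koszul c i)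
    [SmoothOfRelativeDimension (m + c) π]
    (T : Y.Opens) (hyT : y ∈ T) :
    ∃ (V₂ : X.Opens) (_ : IsAffineOpen V₂) (W₄ : P.Opens) (_ : IsAffineOpen W₄)
      (e : W₄ ≤ π ⁻¹ᵁ V₂),
      IsAffineOpen (i ⁻¹ᵁ W₄) ∧ (⟨y, hyU⟩ : U) ∈ i ⁻¹ᵁ W₄ ∧ U.ι ''ᵁ (i ⁻¹ᵁ W₄) ≤ T ∧
      (π.appLE V₂ W₄ e).hom.IsStandardSmoothOfRelativeDimension (m + c) ∧
      Function.Surjective (i.app W₄).hom ∧
      ∃ r : Fin c → Γ(P, W₄), CAlgX.IsH1Regular r ∧
        RingHom.ker (i.app W₄).hom = Ideal.span (Set.range r) := by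
  obtain ⟨-, hz⟩ := hreg
  let y' : U := ⟨y, hyU⟩
  obtain ⟨O, hiyO, hclO, rs, hlen, hseq, hker⟩ := hz y'
  have hseqH1 : CAlgX.IsH1Regular rs.get :=
    Groth.Agent.Helper13KzH1.isH1Regular_of_isKoszulRegularSeq rs hseq
  obtain ⟨V₂, hV₂, W₂, hW₂, hiyW₂, e₂, hsm₂⟩ :=
    SmoothOfRelativeDimension.exists_isStandardSmoothOfRelativeDimension (n := m + c) (f := π)
      (i y')
  -- stage A
  obtain ⟨h, hhO, hiyh⟩ := hW₂.exists_basicOpen_le (V := O.1) ⟨i y', hiyO⟩ hiyW₂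
  have hW₃ : IsAffineOpen (P.basicOpen h) := hW₂.basicOpen h
  have hsm₃ := isStandardSmooth_basicOpen π (m + c) hW₂ e₂ hsm₂ h
  have hle3 : P.basicOpen h ≤ (𝟙 P) ⁻¹ᵁ O.1 := hhO
  obtain ⟨hcl3, -⟩ := Groth.Agent.Lib.Helper5.ImmBC.restrict_baseChange
    (IsPullback.id_horiz i) O.2 hW₃ hle3
  have hU₃ : IsAffineOpen (i ⁻¹ᵁ P.basicOpen h) :=
    Groth.Agent.Lib.Helper5.ImmBC.isAffineOpen_preimage_of_isClosedImmersion_restrict i hW₃
  have hsurj3 : Function.Surjective (i.app (P.basicOpen h)).hom :=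
    Groth.Agent.Lib.Helper5.ImmBC.app_surjective_of_isClosedImmersion_restrict i hW₃
  -- stage B
  have hy'T : y' ∈ U.ι ⁻¹ᵁ T := hyT
  obtain ⟨g, hgT, hyg⟩ := hU₃.exists_basicOpen_le (V := U.ι ⁻¹ᵁ T) ⟨y', hy'T⟩ hiyh
  obtain ⟨G, hG⟩ := hsurj3 g
  have hW₄ : IsAffineOpen (P.basicOpen G) := hW₃.basicOpen G
  have hpre : i ⁻¹ᵁ P.basicOpen G = (U : Scheme.{u}).basicOpen g := by
    rw [Scheme.preimage_basicOpen]
    congr 1
  have hle4O : P.basicOpen G ≤ O.1 := (P.basicOpen_le G).trans hhO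
  have hle4 : P.basicOpen G ≤ (𝟙 P) ⁻¹ᵁ O.1 := hle4O
  obtain ⟨hcl4, -⟩ := Groth.Agent.Lib.Helper5.ImmBC.restrict_baseChange
    (IsPullback.id_horiz i) O.2 hW₄ hle4
  refine ⟨V₂, hV₂, P.basicOpen G, hW₄, (P.basicOpen_le G).trans ((P.basicOpen_le h).trans e₂),
    ?_, ?_, ?_, ?_, ?_, ?_⟩
  · exact Groth.Agent.Lib.Helper5.ImmBC.isAffineOpen_preimage_of_isClosedImmersion_restrict i hW₄
  · rw [hpre]
    exact hyg
  · rintro _ ⟨z, hz, rfl⟩
    rw [hpre] at hz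
    exact hgT hz
  · exact isStandardSmooth_basicOpen π (m + c) hW₃ _ hsm₃ G
  · exact Groth.Agent.Lib.Helper5.ImmBC.app_surjective_of_isClosedImmersion_restrict i hW₄
  · exact Groth.Agent.Helper18CInt.h1_restrict_fin i O.2 rs hseqH1 hker hlen hW₄ hle4O

end Groth.Agent.Helper18Jac
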