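import Mathlib
import Groth.Agent.Lib.Helper18FittSh6
import Groth.Agent.Lib.Helper18JacH
import Groth.Agent.Lib.Helper18JacI
import Groth.Agent.Lib.Helper18JacJ

set_option autoImplicit false
set_option linter.style.haveILetI false
universe u

open CategoryTheory AlgebraicGeometry Limits Opposite TopologicalSpace TensorProduct

namespace Groth.Agent.Helper18Jac

open Groth.Agent.Helper18Fitt Groth.Agent.Helper18FittSh Groth.Agent.Lib.Helper20.OmegaQCoh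

theorem chart_facts {Y X : Scheme.{u}} (f : Y ⟶ X) [LocallyOfFinitePresentation f]
    [QuasiSeparated f] (m : ℕ) (y : Y)
    (U : Y.Opens) (P : Scheme.{u}) (i : (U : Scheme.{u}) ⟶ P) (π : P ⟶ X) (c : ℕ) (hyU : y ∈ U)
    (hfac : i ≫ π = U.ι ≫ f)
    {V₂ : X.Opens} (hV₂ : IsAffineOpen V₂) {W₄ : P.Opens}
    (e : W₄ ≤ π ⁻¹ᵁ V₂) (hU₄ : IsAffineOpen (i ⁻¹ᵁ W₄)) (hy4 : (⟨y, hyU⟩ : U) ∈ i ⁻¹ᵁ W₄)
    (hsm : (π.appLE V₂ W₄ e).hom.IsStandardSmoothOfRelativeDimension (m + c))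
    (hsurj : Function.Surjective (i.app W₄).hom)
    (r : Fin c → Γ(P, W₄)) (hreg : CAlgX.IsH1Regular r)
    (hker : RingHom.ker (i.app W₄).hom = Ideal.span (Set.range r)) :
    ∃ (hV₄ : IsAffineOpen (U.ι ''ᵁ (i ⁻¹ᵁ W₄))) (hy : y ∈ U.ι ''ᵁ (i ⁻¹ᵁ W₄)),
      (Fitt.ideal Γ(Y, U.ι ''ᵁ (i ⁻¹ᵁ W₄)) Γ(Omega.sheaf f, U.ι ''ᵁ (i ⁻¹ᵁ W₄)) m = ⊤ →
        y ∈ f.smoothLocus) ∧
      (U.ι ''ᵁ (i ⁻¹ᵁ W₄) ≤ f.smoothLocus →
        ¬ Fitt.ideal Γ(Y, U.ι ''ᵁ (i ⁻¹ᵁ W₄)) Γ(Omega.sheaf f, U.ι ''ᵁ (i ⁻¹ᵁ W₄)) m ≤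
          (hV₄.primeIdealOf ⟨y, hy⟩).asIdeal) := by
  set W' : U.toScheme.Opens := i ⁻¹ᵁ W₄ with hW'def
  set V₄ : Y.Opens := U.ι ''ᵁ W' with hV₄def
  have hV₄ : IsAffineOpen V₄ := hU₄.image_of_isOpenImmersion U.ι
  have hyV₄ : y ∈ V₄ := ⟨⟨y, hyU⟩, hy4, rfl⟩
  have hle : V₄ ≤ f ⁻¹ᵁ V₂ := by
    rintro _ ⟨y', hy', rfl⟩
    change f (U.ι y') ∈ V₂
    rw [← Scheme.Hom.comp_apply, ← hfac, Scheme.Hom.comp_apply]
    exact e hy'
  refine ⟨hV₄, hyV₄, ?_, ?_⟩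
  all_goals
    letI a1 : Algebra Γ(X, V₂) Γ(Y, V₄) := (f.appLE V₂ V₄ hle).hom.toAlgebra
    letI a2 : Algebra Γ(X, V₂) Γ(P, W₄) := (π.appLE V₂ W₄ e).hom.toAlgebra
    obtain ⟨eq⟩ := nonempty_sections_omega_equiv f hV₄ hV₂ hle
    haveI : Algebra.IsStandardSmoothOfRelativeDimension (m + c) Γ(X, V₂) Γ(P, W₄) := hsm
    let ψ0 : Γ(P, W₄) →+* Γ(Y, V₄) := (i.app W₄).hom
    have hψ0 : Function.Surjective ψ0 := hsurj
    have hcomm : ∀ r : Γ(X, V₂), ψ0 (algebraMap Γ(X, V₂) Γ(P, W₄) r) =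
        algebraMap Γ(X, V₂) Γ(Y, V₄) r := by
      intro r
      have h1 : π.appLE V₂ W₄ e ≫ i.appLE W₄ W' le_rfl = (i ≫ π).appLE V₂ W' (by
          intro y hy; exact e hy) :=
        Scheme.Hom.appLE_comp_appLE _ _ _ _ _ _ _
      have h2 : f.appLE V₂ V₄ hle ≫ U.ι.appLE V₄ W' (by
          intro y hy; exact ⟨y, hy, rfl⟩) = (U.ι ≫ f).appLE V₂ W' (by
          intro y hy; exact hle ⟨y, hy, rfl⟩) :=
        Scheme.Hom.appLE_comp_appLE _ _ _ _ _ _ _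
      have h3 : (i ≫ π).appLE V₂ W' (by intro y hy; exact e hy) =
          (U.ι ≫ f).appLE V₂ W' (by intro y hy; exact hle ⟨y, hy, rfl⟩) := by
        congr 1
      have h4 : ∀ s : Γ(Y, V₄),
          (U.ι.appLE V₄ W' (by intro y hy; exact ⟨y, hy, rfl⟩)).hom s = s := by
        intro s
        rw [Scheme.Opens.ι_appLE]
        exact congrArg (fun φ => φ.hom s) (Y.presheaf.map_id _)
      have h5 : i.appLE W₄ W' le_rfl = i.app W₄ := by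
        rw [Scheme.Hom.appLE]
        erw [CategoryTheory.Functor.map_id, Category.comp_id]
      have h1r := congrArg (fun φ => φ.hom r) h1
      have h2r := congrArg (fun φ => φ.hom r) h2
      have h3r := congrArg (fun φ => φ.hom r) h3
      simp only [CommRingCat.hom_comp, RingHom.comp_apply] at h1r h2r
      rw [h4] at h2r
      rw [h5] at h1r
      exact h1r.trans (h3r.trans h2r.symm)
    let ψ : Γ(P, W₄) →ₐ[Γ(X, V₂)] Γ(Y, V₄) := { ψ0 with commutes' := hcomm }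
    have hkerψ : RingHom.ker ψ = Ideal.span (Set.range r) := hker
  · intro htop
    rw [fitt_congr eq m] at htop
    have hfs : Algebra.FormallySmooth Γ(X, V₂) Γ(Y, V₄) :=
      formallySmooth_of_fitt_eq_top ψ hψ0 r hkerψ htop
    exact mem_smoothLocus_of_formallySmooth f hV₂ hV₄ hle hfs hyV₄
  · intro hsmooth
    haveI : Algebra.FormallySmooth Γ(X, V₂) Γ(Y, V₄) :=
      formallySmooth_of_le_smoothLocus f hV₂ hV₄ hle hsmooth
    haveI : Algebra.FiniteType Γ(X, V₂) Γ(Y, V₄) := f.finiteType_appLE hV₂ hV₄ hle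
    rw [fitt_congr eq m]
    exact not_fitt_le_of_formallySmooth ψ hψ0 r hkerψ hreg _

end Groth.Agent.Helper18Jac
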