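import Mathlib
import Groth.Agent.Lib.Helper18JacK

set_option autoImplicit false
set_option linter.style.haveILetI false
universe u

open CategoryTheory AlgebraicGeometry Limits Opposite TopologicalSpace TensorProduct

namespace Groth.Agent.Helper18Jac

open Groth.Agent.Helper18Fitt Groth.Agent.Helper18FittSh Groth.Agent.Lib.Helper20.OmegaQCoh

theorem main_S16256 {Y X : Scheme.{u}} (f : Y ⟶ X) [LocallyOfFinitePresentation f]
    [QuasiSeparated f] (m : ℕ) (y : Y)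
    (hlci : ∃ (U : Y.Opens) (P : Scheme.{u}) (i : (U : Scheme.{u}) ⟶ P) (π : P ⟶ X) (c : ℕ),
      y ∈ U ∧ RegImm.IsRegularImmersionOfCodim RegImm.Kind.koszul c i ∧
        SmoothOfRelativeDimension (m + c) π ∧ i ≫ π = U.ι ≫ f) :
    (∃ V : Y.Opens, y ∈ V ∧ Smooth (V.ι ≫ f)) ↔
      y ∉ (Fitt.sheafIdeal (Omega.sheaf f) m).support := by
  rw [exists_smooth_nbhd_iff]
  obtain ⟨U, P, i, π, c, hyU, hreg, hπ, hfac⟩ := hlci
  haveI : (Omega.sheaf f).IsQuasicoherent := isQuasicoherent_omega f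
  have hfin : ∀ V : Y.affineOpens, Module.Finite Γ(Y, V.1) Γ(Omega.sheaf f, V.1) :=
    fun V => finite_sections_omega f V.2
  constructor
  · intro hy
    obtain ⟨V₂, hV₂, W₄, hW₄, e, hU₄, hy4, hT, hsm, hsurj, r, hr, hker⟩ :=
      exists_chart m y U P i π c hyU hreg f.smoothLocus hy
    obtain ⟨hV₄, hyV₄, -, h2⟩ := chart_facts f m y U P i π c hyU hfac hV₂ e hU₄ hy4 hsm hsurj
      r hr hker
    rw [mem_support_iff (Omega.sheaf f) m hfin y ⟨_, hV₄⟩ hyV₄]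
    exact h2 hT
  · intro hy
    let T : Y.Opens := ⟨((Fitt.sheafIdeal (Omega.sheaf f) m).support : Set Y)ᶜ,
      (Fitt.sheafIdeal (Omega.sheaf f) m).support.isClosed.isOpen_compl⟩
    obtain ⟨V₂, hV₂, W₄, hW₄, e, hU₄, hy4, hT, hsm, hsurj, r, hr, hker⟩ :=
      exists_chart m y U P i π c hyU hreg T hy
    obtain ⟨hV₄, hyV₄, h1, -⟩ := chart_facts f m y U P i π c hyU hfac hV₂ e hU₄ hy4 hsm hsurj
      r hr hker
    apply h1
    by_contra hne
    obtain ⟨𝔪, h𝔪, hle𝔪⟩ := Ideal.exists_le_maximal _ hne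
    obtain ⟨y'', hy'', hp⟩ := exists_point_of_prime hV₄ ⟨𝔪, h𝔪.isPrime⟩
    have hmem : y'' ∈ (Fitt.sheafIdeal (Omega.sheaf f) m).support := by
      rw [mem_support_iff (Omega.sheaf f) m hfin y'' ⟨_, hV₄⟩ hy'', hp]
      exact hle𝔪
    exact hT hy'' hmem

end Groth.Agent.Helper18Jac
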