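import Groth.Agent.Lib.Helper13ProjQuotIdeal
import Groth.Agent.Lib.Helper27GrTildeBridge2
import Groth.Agent.Lib.Helper13RelProjA

/-!
# helper18: the homogeneous ideal of an ideal sheaf on `Proj` — independence of the cover, localization
-/

set_option autoImplicit false
set_option linter.unusedSectionVars false
universe u

open CategoryTheory CategoryTheory.Limits AlgebraicGeometry TopologicalSpace Opposite
  HomogeneousLocalization
open scoped HomogeneousIdeal

namespace Groth.Agent.Helper18KA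

open Groth.Agent.Lib.Helper27GrTildeSect Groth.Agent.Helper13GrTildeFrac
  Groth.Agent.Helper13Dehom Groth.Agent.Helper13GradedQuot Groth.Agent.Helper13ProjQuotIdeal

variable {R A : Type u} [CommRing R] [CommRing A] [Algebra R A] {𝒜 : ℕ → Submodule R A}
  [GradedAlgebra 𝒜]

/-- `D₊(g)` as an affine open, `g` of degree one -/
def Ug {g : A} (hg : g ∈ 𝒜 1) : (Proj 𝒜).affineOpens :=
  ⟨Proj.basicOpen 𝒜 g, Proj.isAffineOpen_basicOpen 𝒜 g hg one_pos⟩

section general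
variable {X : Scheme.{u}}

/-- converse of `exists_pow_mul_mem` -/
theorem res_mem_of_pow_mul_mem (I : X.IdealSheafData) (U : X.affineOpens) (r : Γ(X, U))
    (V : X.affineOpens) (hV : V.1 = X.basicOpen r) (hVU : V ≤ U) (x : Γ(X, U)) (e : ℕ)
    (hx : r ^ e * x ∈ I.ideal U) :
    (X.presheaf.map (homOfLE hVU).op).hom x ∈ I.ideal V := by
  have hV' : V = X.affineBasicOpen r := Subtype.ext hV
  subst hV'
  have h1 := I.ideal_le_comap_ideal hVU hx
  rw [Ideal.mem_comap, map_mul, map_pow] at h1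
  have hu : IsUnit ((X.presheaf.map (homOfLE hVU).op).hom r) :=
    RingedSpace.isUnit_res_basicOpen X.toRingedSpace r
  exact (Ideal.unit_mul_mem_iff_mem _ (hu.pow e)).mp h1

end general

/-- **independence of the cover**: vanishing of `a / f_i^k` on a cover by `D₊(f_i)` gives vanishing of
`a / g^k` on every `D₊(g)`. -/
theorem dehom_mem_of_cover {ι : Type u} {f : ι → A} (hf : ∀ i, f i ∈ 𝒜 1)
    (I : (Proj 𝒜).IdealSheafData) (hcov : ⨆ i, Proj.basicOpen 𝒜 (f i) = ⊤) {k : ℕ} {a : A}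
    (ha : a ∈ 𝒜 k) (h : ∀ i, dehom (hf i) a ∈ I.ideal (Ug (hf i))) {g : A} (hg : g ∈ 𝒜 1) :
    dehom hg a ∈ I.ideal (Ug hg) := by
  -- the sections `f_i / g` generate the unit ideal of `Γ(D₊(g))`
  have hspan : Ideal.span (Set.range fun i => dehom hg (f i)) = ⊤ := by
    have haff : IsAffineOpen (Proj.basicOpen 𝒜 g) := (Ug hg).2
    rw [← haff.self_le_iSup_basicOpen_iff]
    · intro y hy
      have hy' : y ∈ (⊤ : (Proj 𝒜).Opens) := trivial
      rw [← hcov, Opens.mem_iSup] at hy'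
      obtain ⟨i, hi⟩ := hy'
      rw [Opens.mem_iSup]
      refine ⟨⟨dehom hg (f i), i, rfl⟩, ?_⟩
      change y ∈ (Proj 𝒜).basicOpen (dehom hg (f i))
      rw [basicOpen_dehom (hf i) hg]
      exact ⟨hi, hy⟩
  refine Submodule.mem_of_span_eq_top_of_smul_pow_mem (I.ideal (Ug hg)) _ hspan _ ?_
  rintro ⟨_, i, rfl⟩
  -- the overlap `D₊(f i) ∩ D₊(g)`
  let V : (Proj 𝒜).affineOpens := ⟨Proj.basicOpen 𝒜 (f i) ⊓ Proj.basicOpen 𝒜 g, by
    have h := Proj.isAffineOpen_basicOpen 𝒜 (f i * g)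
      (SetLike.mul_mem_graded (hf i) hg) (by norm_num : 0 < 1 + 1)
    rwa [Proj.basicOpen_mul] at h⟩
  have hle : V ≤ Ug hg :=
    (inf_le_right : Proj.basicOpen 𝒜 (f i) ⊓ Proj.basicOpen 𝒜 g ≤ Proj.basicOpen 𝒜 g)
  have hle' : V ≤ Ug (hf i) :=
    (inf_le_left : Proj.basicOpen 𝒜 (f i) ⊓ Proj.basicOpen 𝒜 g ≤ Proj.basicOpen 𝒜 (f i))
  obtain ⟨e, he⟩ := exists_pow_mul_mem I (Ug hg) (dehom hg (f i)) V
    (basicOpen_dehom (hf i) hg).symm hle (dehom hg a) (by
      have h2 := I.ideal_le_comap_ideal hle' (h i)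
      rw [Ideal.mem_comap] at h2
      have h3 : resO (inf_le_right : Proj.basicOpen 𝒜 (f i) ⊓ Proj.basicOpen 𝒜 g ≤ _)
          (dehom hg a) = _ := dehom_overlap (hf i) hg ha inf_le_left inf_le_right
      have h4 : resO (inf_le_right : Proj.basicOpen 𝒜 (f i) ⊓ Proj.basicOpen 𝒜 g ≤ _)
          (dehom hg a) ∈ I.ideal V := by
        rw [h3]
        exact Ideal.mul_mem_left _ _ h2
      exact h4)
  exact ⟨e, he⟩

/-- the homogeneous ideal of an ideal sheaf on `Proj 𝒜`, tested on all elements of degree one -/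
noncomputable def Jall (I : (Proj 𝒜).IdealSheafData) : HomogeneousIdeal 𝒜 :=
  J (ι := ↥(𝒜 1)) (f := fun g => (g : A)) (fun g => g.2) I

theorem mem_Jall_iff (I : (Proj 𝒜).IdealSheafData) {k : ℕ} {a : A} (ha : a ∈ 𝒜 k) :
    a ∈ (Jall I).toIdeal ↔ ∀ (g : A) (hg : g ∈ 𝒜 1), dehom hg a ∈ I.ideal (Ug hg) := by
  unfold Jall
  rw [mem_J_iff _ I ha]
  constructor
  · intro h g hg
    exact h ⟨g, hg⟩
  · intro h g
    exact h g.1 g.2

theorem mem_Jall_iff_of_cover {ι : Type u} {f : ι → A} (hf : ∀ i, f i ∈ 𝒜 1)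
    (I : (Proj 𝒜).IdealSheafData) (hcov : ⨆ i, Proj.basicOpen 𝒜 (f i) = ⊤) {k : ℕ} {a : A}
    (ha : a ∈ 𝒜 k) :
    a ∈ (Jall I).toIdeal ↔ ∀ i, dehom (hf i) a ∈ I.ideal (Ug (hf i)) := by
  rw [mem_Jall_iff I ha]
  constructor
  · intro h i
    exact h (f i) (hf i)
  · intro h g hg
    exact dehom_mem_of_cover hf I hcov ha h hg

/-- saturation: `a / g^k` vanishes on `D₊(g)` iff some `g^e a` lies in the ideal -/
theorem dehom_mem_iff_Jall {ι : Type u} [Finite ι] {f : ι → A} (hf : ∀ i, f i ∈ 𝒜 1)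
    (I : (Proj 𝒜).IdealSheafData) (hcov : ⨆ i, Proj.basicOpen 𝒜 (f i) = ⊤) {g : A} (hg : g ∈ 𝒜 1)
    {k : ℕ} {a : A} (ha : a ∈ 𝒜 k) :
    dehom hg a ∈ I.ideal (Ug hg) ↔ ∃ e : ℕ, g ^ e * a ∈ (Jall I).toIdeal := by
  constructor
  · intro h
    -- extend the family by `g`
    let f' : Option ι → A := fun o => o.elim g f
    have hf' : ∀ o, f' o ∈ 𝒜 1 := by
      intro o
      cases o with
      | none => exact hg
      | some i => exact hf i
    have hcov' : ⨆ o, Proj.basicOpen 𝒜 (f' o) = ⊤ := by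
      apply le_antisymm le_top
      rw [← hcov]
      exact iSup_le fun i => le_iSup (fun o => Proj.basicOpen 𝒜 (f' o)) (some i)
    obtain ⟨e, he⟩ := (dehom_mem_iff hf' I none ha).mp h
    refine ⟨e, ?_⟩
    have hdeg : g ^ e * a ∈ 𝒜 (e + k) := SetLike.mul_mem_graded (pow_mem_deg hg e) ha
    have he' : g ^ e * a ∈ (J hf' I).toIdeal := he
    rw [mem_J_iff hf' I hdeg] at he'
    rw [mem_Jall_iff_of_cover hf' I hcov' hdeg]
    exact he'
  · rintro ⟨e, he⟩
    have h1 := (mem_Jall_iff I (SetLike.mul_mem_graded (pow_mem_deg hg e) ha)).1 he g hg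
    rwa [map_mul, map_pow, dehom_self, one_pow, one_mul] at h1

section range
variable {A A' σ τ : Type u} [CommRing A] [SetLike σ A] [AddSubgroupClass σ A]
  [CommRing A'] [SetLike τ A'] [AddSubgroupClass τ A']
  {𝒜 : ℕ → σ} {𝒜' : ℕ → τ} [GradedRing 𝒜] [GradedRing 𝒜'] (ψ : 𝒜 →+*ᵍ 𝒜')
  (hirr : 𝒜'₊ ≤ 𝒜₊.map ψ)

/-- the image of `Proj` of a degree-zero localization -/
theorem range_comap_of_isLocalization (c : A) (hc : c ∈ 𝒜 0)
    (hloc : @IsLocalization.Away A _ c A' _ ψ.toRingHom.toAlgebra) :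
    Set.range (ProjectiveSpectrum.comap ψ hirr) = (ProjectiveSpectrum.basicOpen 𝒜 c : Set _) := by
  letI := ψ.toRingHom.toAlgebra
  ext y
  constructor
  · rintro ⟨y', rfl⟩
    change c ∉ (ProjectiveSpectrum.comap ψ hirr y').asHomogeneousIdeal
    intro h
    have h1 : ψ c ∈ y'.asHomogeneousIdeal.toIdeal := h
    have hu : IsUnit (ψ c) :=
      IsLocalization.map_units (M := Submonoid.powers c) A' ⟨c, 1, pow_one _⟩
    exact y'.isPrime.ne_top (Ideal.eq_top_of_isUnit_mem _ h1 hu)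
  · intro hy
    have hcy : c ∉ y.asHomogeneousIdeal.toIdeal := hy
    have hdisj : Disjoint (Submonoid.powers c : Set A) (y.asHomogeneousIdeal.toIdeal : Set A) := by
      rw [Set.disjoint_left]
      rintro _ ⟨n, rfl⟩ hn
      exact hcy (y.isPrime.mem_of_pow_mem n hn)
    have hprime : ((y.asHomogeneousIdeal.map ψ).toIdeal).IsPrime :=
      IsLocalization.isPrime_of_isPrime_disjoint (Submonoid.powers c) A' _ y.isPrime hdisj
    have hcomap : Ideal.comap ψ.toRingHom ((y.asHomogeneousIdeal.map ψ).toIdeal) =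
        y.asHomogeneousIdeal.toIdeal :=
      IsLocalization.comap_map_of_isPrime_disjoint (Submonoid.powers c) A' y.isPrime hdisj
    refine ⟨⟨y.asHomogeneousIdeal.map ψ, hprime, ?_⟩, ?_⟩
    · intro hle
      apply y.not_irrelevant_le
      rw [HomogeneousIdeal.irrelevant_le]
      intro i hi a ha
      have h1 : ψ a ∈ (𝒜'₊).toIdeal :=
        HomogeneousIdeal.mem_irrelevant_of_mem _ hi (ψ.map_mem ha)
      have h2 : ψ a ∈ (y.asHomogeneousIdeal.map ψ).toIdeal := hle h1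
      have h3 : a ∈ Ideal.comap ψ.toRingHom ((y.asHomogeneousIdeal.map ψ).toIdeal) := h2
      rw [hcomap] at h3
      exact h3
    · apply ProjectiveSpectrum.ext
      apply HomogeneousIdeal.toIdeal_injective
      exact hcomap

end range

section loc
variable {R' A' : Type u} [CommRing R'] [CommRing A'] [Algebra R' A'] {𝒜' : ℕ → Submodule R' A'}
  [GradedAlgebra 𝒜'] (ψ : 𝒜 →+*ᵍ 𝒜')
  (hirr : HomogeneousIdeal.irrelevant 𝒜' ≤ (HomogeneousIdeal.irrelevant 𝒜).map ψ)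

/-- naturality of dehomogenization under `Proj.map` -/
theorem map_app_dehom {g : A} (hg : g ∈ 𝒜 1) {k : ℕ} {a : A} (ha : a ∈ 𝒜 k) :
    ((Proj.map ψ hirr).app (Proj.basicOpen 𝒜 g)).hom (dehom hg a) =
      dehom (Graded.map_mem ψ hg) (ψ a) := by
  have ha' : a ∈ 𝒜 (k • 1) := by simpa using ha
  rw [dehom_eq_awayToSection hg ha',
    dehom_eq_awayToSection (Graded.map_mem ψ hg) (Graded.map_mem ψ ha')]
  have h1 := Proj.awayToSection_comp_appLE ψ hirr hg
  have h2 := CategoryTheory.congr_fun h1 (Away.mk 𝒜 hg k a ha')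
  rw [ConcreteCategory.comp_apply, ConcreteCategory.comp_apply] at h2
  have h3 : ((Proj.map ψ hirr).app (Proj.basicOpen 𝒜 g)).hom
      ((Proj.awayToSection 𝒜 g).hom (Away.mk 𝒜 hg k a ha')) =
      (Proj.awayToSection 𝒜' (ψ g)).hom (Away.map ψ g (Away.mk 𝒜 hg k a ha')) := h2
  exact h3.trans (congrArg _ (Away.map_mk ψ g hg k a ha'))

/-- the scheme-theoretic basic open of `c / 1` on `D₊(g)`, `c` of degree zero -/
theorem basicOpen_dehom_zero {g : A} (hg : g ∈ 𝒜 1) {c : A} (hc : c ∈ 𝒜 0) :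
    (Proj 𝒜).basicOpen (dehom hg c) =
      Proj.basicOpen 𝒜 g ⊓ ProjectiveSpectrum.basicOpen 𝒜 c := by
  ext y
  rw [dehom_eq_awayToSection hg (j := 0) (by simpa using hc)]
  refine (mem_basicOpen_awayToSection_iff hg 0 c _ y).trans ?_
  constructor
  · intro h
    exact ⟨fun h1 => h (Ideal.mul_mem_left _ _ h1), fun h1 => h (Ideal.mul_mem_right _ _ h1)⟩
  · rintro ⟨h1, h2⟩ h
    rcases y.isPrime.mem_or_mem h with h3 | h3
    · exact h2 h3
    · exact h1 h3

/-- **localization of the vanishing condition**: along an open immersion `Proj 𝒜' ⟶ Proj 𝒜` with image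
the non-vanishing locus of a degree-zero element `c`. -/
theorem dehom_mem_comap_iff [IsOpenImmersion (Proj.map ψ hirr)] (I : (Proj 𝒜).IdealSheafData)
    {c : A} (hc : c ∈ 𝒜 0)
    (hrange : Set.range (ProjectiveSpectrum.comap ψ hirr) =
      (ProjectiveSpectrum.basicOpen 𝒜 c : Set (ProjectiveSpectrum 𝒜)))
    {g : A} (hg : g ∈ 𝒜 1) {k : ℕ} {a : A} (ha : a ∈ 𝒜 k) :
    dehom (Graded.map_mem ψ hg) (ψ a) ∈
        (I.comap (Proj.map ψ hirr)).ideal (Ug (Graded.map_mem ψ hg)) ↔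
      ∃ e : ℕ, dehom hg (c ^ e * a) ∈ I.ideal (Ug hg) := by
  set ρ := Proj.map ψ hirr with hρ
  have hg' : ψ g ∈ 𝒜' 1 := Graded.map_mem ψ hg
  rw [Scheme.IdealSheafData.ideal_comap_of_isOpenImmersion I ρ (Ug hg')]
  -- the image affine open
  let V : (Proj 𝒜).affineOpens :=
    ⟨ρ ''ᵁ (Ug hg').1, (Ug hg').2.image_of_isOpenImmersion ρ⟩
  change (ρ.appIso (Ug hg').1).inv.hom (dehom hg' (ψ a)) ∈ I.ideal V ↔ _
  have hVU : V ≤ Ug hg := by
    change ρ ''ᵁ (ρ ⁻¹ᵁ Proj.basicOpen 𝒜 g) ≤ Proj.basicOpen 𝒜 g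
    exact ρ.image_preimage_le _
  have hV : V.1 = (Proj 𝒜).basicOpen (dehom hg c) := by
    change ρ ''ᵁ (ρ ⁻¹ᵁ Proj.basicOpen 𝒜 g) = _
    rw [Scheme.Hom.image_preimage_eq_opensRange_inf, basicOpen_dehom_zero hg hc, inf_comm]
    congr 1
    ext y
    change y ∈ Set.range ρ.base ↔ _
    have : Set.range ρ.base = Set.range (ProjectiveSpectrum.comap ψ hirr) := rfl
    rw [this, hrange]
    rfl
  have key : (ρ.appIso (Ug hg').1).inv.hom (dehom hg' (ψ a)) =
      ((Proj 𝒜).presheaf.map (homOfLE hVU).op).hom (dehom hg a) := by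
    rw [← map_app_dehom ψ hirr hg ha]
    have h1 := ρ.app_appIso_inv (Proj.basicOpen 𝒜 g)
    have h2 := CategoryTheory.congr_fun h1 (dehom hg a)
    rw [ConcreteCategory.comp_apply] at h2
    exact h2
  rw [key]
  constructor
  · intro h
    obtain ⟨e, he⟩ := exists_pow_mul_mem I (Ug hg) (dehom hg c) V hV hVU (dehom hg a) h
    refine ⟨e, ?_⟩
    rw [map_mul, map_pow]
    exact he
  · rintro ⟨e, he⟩
    rw [map_mul, map_pow] at he
    exact res_mem_of_pow_mul_mem I (Ug hg) (dehom hg c) V hV hVU (dehom hg a) e he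

include hirr in
theorem iSup_basicOpen_map {ι : Type u} {f : ι → A}
    (hcov : ⨆ i, Proj.basicOpen 𝒜 (f i) = ⊤) :
    ⨆ i, Proj.basicOpen 𝒜' (ψ (f i)) = ⊤ := by
  have h1 : ∀ i, Proj.basicOpen 𝒜' (ψ (f i)) = Proj.map ψ hirr ⁻¹ᵁ Proj.basicOpen 𝒜 (f i) :=
    fun i => rfl
  simp_rw [h1]
  rw [← Scheme.Hom.preimage_iSup, hcov]
  rfl

/-- every element of a homogeneous ideal lies in an ideal as soon as its homogeneous elements do -/
theorem le_of_forall_homogeneous (J : HomogeneousIdeal 𝒜) (K : Ideal A)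
    (h : ∀ (d : ℕ) (a : A), a ∈ 𝒜 d → a ∈ J.toIdeal → a ∈ K) : J.toIdeal ≤ K := by
  classical
  intro x hx
  rw [← DirectSum.sum_support_decompose 𝒜 x]
  refine Ideal.sum_mem _ fun d _ => ?_
  exact h d _ (SetLike.coe_mem _) (J.isHomogeneous d hx)

/-- **the ideal of an ideal sheaf commutes with degree-zero localization** -/
theorem Jall_comap_eq_map [IsOpenImmersion (Proj.map ψ hirr)] (I : (Proj 𝒜).IdealSheafData)
    {c : A} (hc : c ∈ 𝒜 0)
    (hloc : @IsLocalization.Away A _ c A' _ ψ.toRingHom.toAlgebra)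
    {ι : Type u} [Finite ι] {f : ι → A} (hf : ∀ i, f i ∈ 𝒜 1)
    (hcov : ⨆ i, Proj.basicOpen 𝒜 (f i) = ⊤) :
    (Jall (I.comap (Proj.map ψ hirr))).toIdeal = (Jall I).toIdeal.map ψ := by
  classical
  have hrange := range_comap_of_isLocalization ψ hirr c hc hloc
  have hf' : ∀ i, ψ (f i) ∈ 𝒜' 1 := fun i => Graded.map_mem ψ (hf i)
  have hcov' := iSup_basicOpen_map ψ hirr hcov
  apply le_antisymm
  · -- `⊆`
    refine le_of_forall_homogeneous _ _ fun d a' ha' ha'J => ?_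
    let _ := ψ.toRingHom.toAlgebra
    obtain ⟨⟨x, s, hs⟩, hxs⟩ := IsLocalization.surj (Submonoid.powers c) a'
    obtain ⟨m, rfl⟩ := (Submonoid.mem_powers_iff _ _).mp hs
    change a' * ψ (c ^ m) = ψ x at hxs
    have hu : IsUnit (ψ c) :=
      IsLocalization.map_units (M := Submonoid.powers c) A' ⟨c, 1, pow_one _⟩
    have hc' : ψ c ∈ 𝒜' 0 := Graded.map_mem ψ hc
    have hcm : ψ (c ^ m) ∈ 𝒜' 0 := by
      rw [map_pow]
      have := SetLike.pow_mem_graded m hc'
      simpa using this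
    have hprod : a' * ψ (c ^ m) ∈ 𝒜' d := by
      simpa only [add_zero] using SetLike.mul_mem_graded ha' hcm
    -- the degree `d` component of `x`
    set a : A := (DirectSum.decompose 𝒜 x d : A) with ha_def
    have ha : a ∈ 𝒜 d := SetLike.coe_mem _
    have hψa : ψ a = a' * ψ c ^ m := by
      rw [ha_def, GradedRingHom.map_directSumDecompose, ← hxs,
        DirectSum.decompose_of_mem_same _ hprod, map_pow]
    have hψaJ : ψ a ∈ (Jall (I.comap (Proj.map ψ hirr))).toIdeal := by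
      rw [hψa]
      exact Ideal.mul_mem_right _ _ ha'J
    have h1 : ∀ i, ∃ e : ℕ, dehom (hf i) (c ^ e * a) ∈ I.ideal (Ug (hf i)) := by
      intro i
      have h2 := (mem_Jall_iff _ (Graded.map_mem ψ ha)).1 hψaJ (ψ (f i)) (hf' i)
      exact (dehom_mem_comap_iff ψ hirr I hc hrange (hf i) ha).1 h2
    obtain ⟨E, hE⟩ := exists_uniform' (p := fun i e => dehom (hf i) (c ^ e * a) ∈ I.ideal (Ug (hf i)))
      (by
        intro j e e' hee' he
        obtain ⟨t, rfl⟩ := Nat.exists_eq_add_of_le hee'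
        have : c ^ (e + t) * a = c ^ t * (c ^ e * a) := by ring
        rw [this, map_mul]
        exact Ideal.mul_mem_left _ _ he) h1
    have hcEa : c ^ E * a ∈ 𝒜 d := by
      have h3 := SetLike.mul_mem_graded (SetLike.pow_mem_graded E hc) ha
      simpa using h3
    have hJ : c ^ E * a ∈ (Jall I).toIdeal := (mem_Jall_iff_of_cover hf I hcov hcEa).2 hE
    have h4 : ψ (c ^ E * a) = a' * ψ c ^ (E + m) := by
      rw [map_mul, map_pow, hψa]
      ring
    have hu' : IsUnit (ψ c ^ (E + m)) := hu.pow _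
    obtain ⟨w, hw⟩ := hu'
    have h5 : a' = ψ (c ^ E * a) * ↑w⁻¹ := by
      rw [h4, ← hw, mul_assoc, Units.mul_inv, mul_one]
    rw [h5]
    exact Ideal.mul_mem_right _ _ (Ideal.mem_map_of_mem _ hJ)
  · -- `⊇`
    rw [Ideal.map_le_iff_le_comap]
    refine le_of_forall_homogeneous _ _ fun d a ha haJ => ?_
    rw [Ideal.mem_comap]
    rw [mem_Jall_iff_of_cover hf' _ hcov' (Graded.map_mem ψ ha)]
    intro i
    refine (dehom_mem_comap_iff ψ hirr I hc hrange (hf i) ha).2 ⟨0, ?_⟩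
    rw [pow_zero, one_mul]
    exact (mem_Jall_iff I ha).1 haJ (f i) (hf i)

end loc

section quot
variable {R' B : Type u} [CommRing R'] [CommRing B] [Algebra R' B] {ℬ : ℕ → Submodule R' B}
  [GradedAlgebra ℬ] (φ : 𝒜 →+*ᵍ ℬ)
  (hφ : HomogeneousIdeal.irrelevant ℬ ≤ (HomogeneousIdeal.irrelevant 𝒜).map φ)

/-- the kernel of `Proj.map` over `D₊(g)` (two base rings) -/
theorem map_app_dehom_eq_zero_iff' {g : A} (hg : g ∈ 𝒜 1) {k : ℕ} {a : A} (ha : a ∈ 𝒜 k) :
    ((Proj.map φ hφ).app (Proj.basicOpen 𝒜 g)).hom (dehom hg a) = 0 ↔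
      ∃ e : ℕ, φ (g ^ e * a) = 0 := by
  rw [map_app_dehom φ hφ hg ha]
  have hg' : φ g ∈ ℬ 1 := Graded.map_mem φ hg
  have ha' : φ a ∈ ℬ (k • 1) := by simpa using Graded.map_mem φ ha
  rw [dehom_eq_awayToSection hg' ha']
  have h4 : (∃ e : ℕ, φ (g ^ e * a) = 0) ↔ ∃ e : ℕ, (φ g) ^ e * φ a = 0 := by
    simp only [map_mul, map_pow]
  rw [h4, ← away_mk_eq_zero_iff hg' k (φ a) ha']
  constructor
  · intro h
    apply awayToSection_injective hg'
    rw [map_zero]
    exact h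
  · intro h
    rw [h, map_zero]
    rfl

/-- **the ideal sheaf of `Proj` of a graded quotient**: if the kernel of the surjective graded `φ` is the
homogeneous ideal of the ideal sheaf `I`, then `Proj.map φ` is the closed subscheme defined by `I`. -/
theorem ker_map_eq (hsurj : Function.Surjective φ) (I : (Proj 𝒜).IdealSheafData)
    (hker : ∀ a : A, φ a = 0 ↔ a ∈ (Jall I).toIdeal)
    {ι : Type u} [Finite ι] {f : ι → A} (hf : ∀ i, f i ∈ 𝒜 1)
    (hcov : ⨆ i, Proj.basicOpen 𝒜 (f i) = ⊤) :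
    (Proj.map φ hφ).ker = I := by
  haveI : IsClosedImmersion (Proj.map φ hφ) :=
    Groth.Agent.Helper13RelProj.isClosedImmersion_map_of_surjective φ hφ hsurj
  refine Scheme.IdealSheafData.ext_of_iSup_eq_top (fun i => Ug (hf i)) hcov (fun j => ?_)
  rw [Scheme.Hom.ker_apply]
  ext x
  obtain ⟨k, a, ha, rfl⟩ := exists_dehom_eq hf j x
  rw [RingHom.mem_ker]
  refine (map_app_dehom_eq_zero_iff' φ hφ (hf j) ha).trans ?_
  refine Iff.trans ?_ (dehom_mem_iff_Jall hf I hcov (hf j) ha).symm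
  simp only [hker]

end quot

end Groth.Agent.Helper18KA
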