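import Groth.Agent.Lib.Helper18KA

/-!
# helper18: gradings by submodules from gradings by subgroups, and `Proj`
-/

set_option autoImplicit false
set_option linter.unusedSectionVars false
universe u

open CategoryTheory CategoryTheory.Limits AlgebraicGeometry TopologicalSpace Opposite
  HomogeneousLocalization
open scoped HomogeneousIdeal DirectSum

namespace Groth.Agent.Helper18KB

section transfer

variable {A σ τ : Type*} [CommRing A] [SetLike σ A] [AddSubgroupClass σ A] [SetLike τ A]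
  [AddSubgroupClass τ A] (𝒜 : ℕ → σ) (ℬ : ℕ → τ) (h : ∀ d a, a ∈ ℬ d ↔ a ∈ 𝒜 d)

include h in
theorem gradedMonoid_of_mem_iff [GradedRing 𝒜] : SetLike.GradedMonoid ℬ where
  one_mem := (h 0 1).2 SetLike.GradedOne.one_mem
  mul_mem := fun i j a b ha hb => (h (i + j) (a * b)).2
    (SetLike.GradedMul.mul_mem ((h i a).1 ha) ((h j b).1 hb))

/-- the componentwise transport maps -/
def pieceHom (d : ℕ) : 𝒜 d →+ ℬ d where
  toFun b := ⟨b.1, (h d b.1).2 b.2⟩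
  map_zero' := by ext; simp
  map_add' := fun a b => by ext; simp

theorem coe_map_pieceHom [GradedRing 𝒜] (x : ⨁ d, 𝒜 d) :
    DirectSum.coeAddMonoidHom ℬ (DirectSum.map (pieceHom 𝒜 ℬ h) x) =
      DirectSum.coeAddMonoidHom 𝒜 x := by
  induction x using DirectSum.induction_on with
  | zero => simp
  | of i b =>
    rw [DirectSum.map_of, DirectSum.coeAddMonoidHom_of, DirectSum.coeAddMonoidHom_of]
    rfl
  | add x y hx hy => rw [map_add, map_add, hx, hy, map_add]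

/-- the decomposition map -/
noncomputable def decompHom [GradedRing 𝒜] : A →+ ⨁ d, ℬ d :=
  (DirectSum.map (pieceHom 𝒜 ℬ h)).comp (DirectSum.decomposeAddEquiv 𝒜).toAddMonoidHom

theorem decompHom_apply [GradedRing 𝒜] (a : A) :
    decompHom 𝒜 ℬ h a = DirectSum.map (pieceHom 𝒜 ℬ h) (DirectSum.decompose 𝒜 a) := rfl

/-- a grading with the same homogeneous elements as a given grading -/
@[instance_reducible]
noncomputable def decomposition_of_mem_iff [GradedRing 𝒜] : DirectSum.Decomposition ℬ :=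
  DirectSum.Decomposition.ofAddHom _ (decompHom 𝒜 ℬ h)
    (by
      ext a
      rw [AddMonoidHom.comp_apply, decompHom_apply, coe_map_pieceHom]
      exact (DirectSum.decompose 𝒜).left_inv a)
    (by
      ext i b : 2
      have hb : (b : A) ∈ 𝒜 i := (h i b.1).1 b.2
      simp only [AddMonoidHom.comp_apply, AddMonoidHom.id_apply]
      rw [DirectSum.coeAddMonoidHom_of, decompHom_apply, DirectSum.decompose_of_mem 𝒜 hb,
        DirectSum.map_of]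
      rfl)

/-- a grading with the same homogeneous elements as a given grading -/
@[instance_reducible]
noncomputable def gradedRing_of_mem_iff [GradedRing 𝒜] : GradedRing ℬ :=
  { gradedMonoid_of_mem_iff 𝒜 ℬ h with
    toDecomposition := decomposition_of_mem_iff 𝒜 ℬ h }

end transfer

section sm

variable {R A σ : Type u} [CommRing R] [CommRing A] [Algebra R A] [SetLike σ A]
  [AddSubgroupClass σ A] (𝒜 : ℕ → σ) [GradedRing 𝒜] (h0 : ∀ r : R, algebraMap R A r ∈ 𝒜 0)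

/-- the grading `𝒜`, by submodules over a base ring acting through degree zero -/
def sm (d : ℕ) : Submodule R A where
  carrier := {a | a ∈ 𝒜 d}
  add_mem' := fun ha hb => add_mem ha hb
  zero_mem' := zero_mem _
  smul_mem' := fun r a ha => by
    change r • a ∈ 𝒜 d
    rw [Algebra.smul_def]
    have := SetLike.GradedMul.mul_mem (h0 r) ha
    rwa [zero_add] at this

theorem mem_sm {d : ℕ} {a : A} : a ∈ sm 𝒜 h0 d ↔ a ∈ 𝒜 d := Iff.rfl

noncomputable instance gradedAlgebra_sm : GradedAlgebra (sm 𝒜 h0) :=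
  gradedRing_of_mem_iff 𝒜 (sm 𝒜 h0) (fun _ _ => Iff.rfl)

/-- the identity, as a graded homomorphism to the submodule grading -/
def toSm : 𝒜 →+*ᵍ sm 𝒜 h0 :=
  { RingHom.id A with map_mem := fun hx => hx }

/-- the identity, as a graded homomorphism from the submodule grading -/
def ofSm : sm 𝒜 h0 →+*ᵍ 𝒜 :=
  { RingHom.id A with map_mem := fun hx => hx }

@[simp] theorem toSm_apply (a : A) : toSm 𝒜 h0 a = a := rfl
@[simp] theorem ofSm_apply (a : A) : ofSm 𝒜 h0 a = a := rfl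

theorem irr_toSm : (sm 𝒜 h0)₊ ≤ (𝒜₊).map (toSm 𝒜 h0) := by
  rw [HomogeneousIdeal.irrelevant_le]
  intro i hi x hx
  change x ∈ Ideal.map (toSm 𝒜 h0) (𝒜₊).toIdeal
  have : x = toSm 𝒜 h0 x := rfl
  rw [this]
  exact Ideal.mem_map_of_mem _ (HomogeneousIdeal.mem_irrelevant_of_mem _ hi hx)

theorem irr_ofSm : 𝒜₊ ≤ ((sm 𝒜 h0)₊).map (ofSm 𝒜 h0) := by
  rw [HomogeneousIdeal.irrelevant_le]
  intro i hi x hx
  change x ∈ Ideal.map (ofSm 𝒜 h0) ((sm 𝒜 h0)₊).toIdeal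
  have : x = ofSm 𝒜 h0 x := rfl
  rw [this]
  exact Ideal.mem_map_of_mem _ (HomogeneousIdeal.mem_irrelevant_of_mem _ hi hx)

theorem map_congr' {B τ : Type u} [CommRing B] [SetLike τ B] [AddSubgroupClass τ B] {ℬ : ℕ → τ}
    [GradedRing ℬ] {f g : 𝒜 →+*ᵍ ℬ} (hfg : f = g) (hf : ℬ₊ ≤ (𝒜₊).map f)
    (hg : ℬ₊ ≤ (𝒜₊).map g) : Proj.map f hf = Proj.map g hg := by
  subst hfg
  rfl

/-- `Proj` of the subgroup grading and of the submodule grading -/
noncomputable def projIso : Proj 𝒜 ≅ Proj (sm 𝒜 h0) where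
  hom := Proj.map (ofSm 𝒜 h0) (irr_ofSm 𝒜 h0)
  inv := Proj.map (toSm 𝒜 h0) (irr_toSm 𝒜 h0)
  hom_inv_id := by
    rw [← Proj.map_comp]
    exact (map_congr' 𝒜 (by rfl) _ (by simp)).trans (Proj.map_id)
  inv_hom_id := by
    rw [← Proj.map_comp]
    exact (map_congr' (sm 𝒜 h0) (by rfl) _ (by simp)).trans (Proj.map_id)

end sm

section maps

variable {R A σ : Type u} [CommRing R] [CommRing A] [Algebra R A] [SetLike σ A]
  [AddSubgroupClass σ A] (𝒜 : ℕ → σ) [GradedRing 𝒜] (h0 : ∀ r : R, algebraMap R A r ∈ 𝒜 0)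
  {R' A' τ : Type u} [CommRing R'] [CommRing A'] [Algebra R' A'] [SetLike τ A']
  [AddSubgroupClass τ A'] (𝒜' : ℕ → τ) [GradedRing 𝒜'] (h0' : ∀ r : R', algebraMap R' A' r ∈ 𝒜' 0)
  (ψ : 𝒜 →+*ᵍ 𝒜') (hirr : 𝒜'₊ ≤ (𝒜₊).map ψ)

/-- a graded homomorphism, between the submodule gradings -/
def smMap : sm 𝒜 h0 →+*ᵍ sm 𝒜' h0' :=
  { ψ.toRingHom with map_mem := fun hx => ψ.map_mem hx }

@[simp] theorem smMap_apply (a : A) : smMap 𝒜 h0 𝒜' h0' ψ a = ψ a := rfl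

theorem toIdeal_irrelevant_le_sm : (𝒜₊).toIdeal ≤ ((sm 𝒜 h0)₊).toIdeal := by
  rw [HomogeneousIdeal.toIdeal_irrelevant_le]
  intro i hi x hx
  exact HomogeneousIdeal.mem_irrelevant_of_mem (sm 𝒜 h0) hi hx

include hirr in
theorem irr_smMap : (sm 𝒜' h0')₊ ≤ ((sm 𝒜 h0)₊).map (smMap 𝒜 h0 𝒜' h0' ψ) := by
  rw [HomogeneousIdeal.irrelevant_le]
  intro i hi b hb
  have hb' : b ∈ 𝒜' i := hb
  have h1 : b ∈ ((𝒜₊).map ψ).toIdeal := hirr (HomogeneousIdeal.mem_irrelevant_of_mem 𝒜' hi hb')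
  rw [HomogeneousIdeal.toIdeal_map] at h1
  change b ∈ Ideal.map (smMap 𝒜 h0 𝒜' h0' ψ) ((sm 𝒜 h0)₊).toIdeal
  refine (Ideal.map_le_iff_le_comap.mpr ?_) h1
  intro x hx
  rw [Ideal.mem_comap]
  have : ψ x = smMap 𝒜 h0 𝒜' h0' ψ x := rfl
  rw [this]
  exact Ideal.mem_map_of_mem _ (toIdeal_irrelevant_le_sm 𝒜 h0 hx)

theorem projIso_hom_naturality :
    (projIso 𝒜' h0').hom ≫ Proj.map (smMap 𝒜 h0 𝒜' h0' ψ) (irr_smMap 𝒜 h0 𝒜' h0' ψ hirr) =
      Proj.map ψ hirr ≫ (projIso 𝒜 h0).hom := by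
  change Proj.map (ofSm 𝒜' h0') (irr_ofSm 𝒜' h0') ≫ Proj.map (smMap 𝒜 h0 𝒜' h0' ψ) _ =
    Proj.map ψ hirr ≫ Proj.map (ofSm 𝒜 h0) (irr_ofSm 𝒜 h0)
  rw [← Proj.map_comp, ← Proj.map_comp]
  exact map_congr' (sm 𝒜 h0) (by rfl) _ _

theorem projIso_inv_naturality :
    (projIso 𝒜' h0').inv ≫ Proj.map ψ hirr =
      Proj.map (smMap 𝒜 h0 𝒜' h0' ψ) (irr_smMap 𝒜 h0 𝒜' h0' ψ hirr) ≫ (projIso 𝒜 h0).inv := by
  rw [Iso.inv_comp_eq, ← Category.assoc, Iso.eq_comp_inv]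
  exact (projIso_hom_naturality 𝒜 h0 𝒜' h0' ψ hirr).symm

end maps

section ideal

/-- the ideal sheaf of a base change of a closed immersion -/
theorem ker_of_isPullback {Z Z' X X' : Scheme.{u}} {g' : Z' ⟶ X'} {t : Z' ⟶ Z} {e : X' ⟶ X}
    {g : Z ⟶ X} [IsClosedImmersion g] (h : IsPullback g' t e g) : g'.ker = g.ker.comap e := by
  rw [← Scheme.IdealSheafData.ker_fst_of_isClosedImmersion g e, ← h.isoPullback_hom_fst,
    Scheme.Hom.ker_comp_of_isIso]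

variable {R A σ : Type u} [CommRing R] [CommRing A] [Algebra R A] [SetLike σ A]
  [AddSubgroupClass σ A] (𝒜 : ℕ → σ) [GradedRing 𝒜] (h0 : ∀ r : R, algebraMap R A r ∈ 𝒜 0)

/-- the homogeneous ideal of an ideal sheaf on `Proj 𝒜` -/
noncomputable def JgH (I : (Proj 𝒜).IdealSheafData) : HomogeneousIdeal (sm 𝒜 h0) :=
  Helper18KA.Jall (I.comap (projIso 𝒜 h0).inv)

/-- the ideal of an ideal sheaf on `Proj 𝒜` -/
noncomputable def Jg (I : (Proj 𝒜).IdealSheafData) : Ideal A := (JgH 𝒜 h0 I).toIdeal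

theorem Jg_isHomogeneous (I : (Proj 𝒜).IdealSheafData) :
    (Jg 𝒜 h0 I).IsHomogeneous (sm 𝒜 h0) := (JgH 𝒜 h0 I).isHomogeneous

theorem iSup_basicOpen_sm {ι : Type u} {f : ι → A}
    (hcov : ∀ i > 0, ∀ a ∈ 𝒜 i, a ∈ Ideal.span (Set.range f)) :
    ⨆ i, Proj.basicOpen (sm 𝒜 h0) (f i) = ⊤ := by
  apply Proj.iSup_basicOpen_eq_top
  rw [HomogeneousIdeal.toIdeal_irrelevant_le]
  intro i hi a ha
  exact hcov i hi a ha

variable {R' A' τ : Type u} [CommRing R'] [CommRing A'] [Algebra R' A'] [SetLike τ A']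
  [AddSubgroupClass τ A'] (𝒜' : ℕ → τ) [GradedRing 𝒜'] (h0' : ∀ r : R', algebraMap R' A' r ∈ 𝒜' 0)
  (ψ : 𝒜 →+*ᵍ 𝒜') (hirr : 𝒜'₊ ≤ (𝒜₊).map ψ)

/-- **the ideal of an ideal sheaf commutes with degree-zero localization** (any gradings) -/
theorem Jg_comap_eq_map [IsOpenImmersion (Proj.map ψ hirr)] (I : (Proj 𝒜).IdealSheafData)
    {c : A} (hc : c ∈ 𝒜 0) (hloc : @IsLocalization.Away A _ c A' _ ψ.toRingHom.toAlgebra)
    {ι : Type u} [Finite ι] {f : ι → A} (hf : ∀ i, f i ∈ 𝒜 1)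
    (hcov : ∀ i > 0, ∀ a ∈ 𝒜 i, a ∈ Ideal.span (Set.range f)) :
    Jg 𝒜' h0' (I.comap (Proj.map ψ hirr)) = (Jg 𝒜 h0 I).map ψ := by
  unfold Jg JgH
  rw [← Scheme.IdealSheafData.comap_comp, projIso_inv_naturality 𝒜 h0 𝒜' h0' ψ hirr,
    Scheme.IdealSheafData.comap_comp]
  haveI : IsOpenImmersion (Proj.map (smMap 𝒜 h0 𝒜' h0' ψ) (irr_smMap 𝒜 h0 𝒜' h0' ψ hirr)) := by
    have h1 : Proj.map (smMap 𝒜 h0 𝒜' h0' ψ) (irr_smMap 𝒜 h0 𝒜' h0' ψ hirr) =
        (projIso 𝒜' h0').inv ≫ Proj.map ψ hirr ≫ (projIso 𝒜 h0).hom := by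
      rw [← projIso_hom_naturality 𝒜 h0 𝒜' h0' ψ hirr, Iso.inv_hom_id_assoc]
    rw [h1]
    infer_instance
  exact Helper18KA.Jall_comap_eq_map (smMap 𝒜 h0 𝒜' h0' ψ) (irr_smMap 𝒜 h0 𝒜' h0' ψ hirr)
    (I.comap (projIso 𝒜 h0).inv) (c := c) hc hloc (f := f) hf (iSup_basicOpen_sm 𝒜 h0 hcov)

/-- **`Proj` of a graded quotient is the closed subscheme of the ideal sheaf** (any gradings): if the
kernel of the surjective graded `φ : 𝒜 ⟶ ℬ` is the ideal of the ideal sheaf `I`, then `ker (Proj.map φ) = I`. -/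
theorem ker_map_eq_g {B ω : Type u} [CommRing B] [Algebra R' B] [SetLike ω B]
    [AddSubgroupClass ω B] (ℬ : ℕ → ω) [GradedRing ℬ] (h0B : ∀ r : R', algebraMap R' B r ∈ ℬ 0)
    (φ : 𝒜 →+*ᵍ ℬ) (hφ : ℬ₊ ≤ (𝒜₊).map φ) (hsurj : Function.Surjective φ)
    (I : (Proj 𝒜).IdealSheafData) (hker : ∀ a : A, φ a = 0 ↔ a ∈ Jg 𝒜 h0 I)
    {ι : Type u} [Finite ι] {f : ι → A} (hf : ∀ i, f i ∈ 𝒜 1)
    (hcov : ∀ i > 0, ∀ a ∈ 𝒜 i, a ∈ Ideal.span (Set.range f)) :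
    (Proj.map φ hφ).ker = I := by
  haveI : IsClosedImmersion (Proj.map φ hφ) :=
    Groth.Agent.Helper13RelProj.isClosedImmersion_map_of_surjective φ hφ hsurj
  have h1 : (Proj.map (smMap 𝒜 h0 ℬ h0B φ) (irr_smMap 𝒜 h0 ℬ h0B φ hφ)).ker =
      I.comap (projIso 𝒜 h0).inv :=
    Helper18KA.ker_map_eq (smMap 𝒜 h0 ℬ h0B φ) (irr_smMap 𝒜 h0 ℬ h0B φ hφ) hsurj
      (I.comap (projIso 𝒜 h0).inv) hker (f := f) hf (iSup_basicOpen_sm 𝒜 h0 hcov)
  have hpb : IsPullback (Proj.map φ hφ ≫ (projIso 𝒜 h0).hom) (𝟙 _) (projIso 𝒜 h0).inv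
      (Proj.map φ hφ) :=
    IsPullback.of_vert_isIso ⟨by rw [Category.assoc, Iso.hom_inv_id, Category.comp_id,
      Category.id_comp]⟩
  have h2 := ker_of_isPullback hpb
  rw [← projIso_hom_naturality 𝒜 h0 ℬ h0B φ hφ, Scheme.Hom.ker_comp_of_isIso, h1] at h2
  have h3 := congrArg (fun K => K.comap (projIso 𝒜 h0).hom) h2
  simp only [← Scheme.IdealSheafData.comap_comp, Iso.hom_inv_id,
    Scheme.IdealSheafData.comap_id] at h3
  exact h3.symm

end ideal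

end Groth.Agent.Helper18KB
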