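import Groth.Agent.Lib.Helper18KB
import Groth.Agent.Lib.Helper18GrAlgA
import Groth.Prelude.Def_RelProj2

/-!
# helper18: the quasi-coherent graded quotient algebra of a closed subscheme of a relative `Proj`
-/

set_option autoImplicit false
set_option linter.unusedSectionVars false
set_option linter.style.haveILetI false
universe u

open CategoryTheory CategoryTheory.Limits AlgebraicGeometry TopologicalSpace Opposite
  HomogeneousLocalization
open scoped HomogeneousIdeal DirectSum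

namespace Groth.Agent.Helper18KC

section gen

variable {B : Type u} [CommRing B] {ℬ : ℕ → AddSubgroup B} [GradedRing ℬ]

/-- in a graded ring generated in degrees zero and one, homogeneous elements of positive degree lie in the ideal
generated by the elements of degree one -/
theorem mem_span_of_gen (hgen : Subring.closure ((ℬ 0 : Set B) ∪ (ℬ 1 : Set B)) = ⊤)
    (d : ℕ) (hd : 0 < d) (b : B) (hb : b ∈ ℬ d) : b ∈ Ideal.span (ℬ 1 : Set B) := by
  classical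
  set K : Ideal B := Ideal.span (ℬ 1 : Set B) with hK
  have hKhom : K.IsHomogeneous ℬ := by
    apply Ideal.homogeneous_span
    intro x hx
    exact ⟨1, hx⟩
  have hone : (1 : B) ∈ ℬ 0 := SetLike.GradedOne.one_mem
  have key : ∀ x ∈ Subring.closure ((ℬ 0 : Set B) ∪ (ℬ 1 : Set B)), ∃ s ∈ ℬ 0, x - s ∈ K := by
    intro x hx
    induction hx using Subring.closure_induction with
    | mem x hx =>
      rcases hx with hx | hx
      · exact ⟨x, hx, by rw [sub_self]; exact K.zero_mem⟩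
      · exact ⟨0, zero_mem _, by rw [sub_zero]; exact Ideal.subset_span hx⟩
    | zero => exact ⟨0, zero_mem _, by rw [sub_zero]; exact K.zero_mem⟩
    | one => exact ⟨1, hone, by rw [sub_self]; exact K.zero_mem⟩
    | add x y _ _ hx hy =>
      obtain ⟨s, hs, hxs⟩ := hx
      obtain ⟨s', hs', hys⟩ := hy
      refine ⟨s + s', add_mem hs hs', ?_⟩
      have : x + y - (s + s') = (x - s) + (y - s') := by ring
      rw [this]
      exact K.add_mem hxs hys
    | neg x _ hx =>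
      obtain ⟨s, hs, hxs⟩ := hx
      refine ⟨-s, neg_mem hs, ?_⟩
      have : -x - -s = -(x - s) := by ring
      rw [this]
      exact K.neg_mem hxs
    | mul x y _ _ hx hy =>
      obtain ⟨s, hs, hxs⟩ := hx
      obtain ⟨s', hs', hys⟩ := hy
      have hss : s * s' ∈ ℬ 0 := by
        have := SetLike.GradedMul.mul_mem hs hs'
        rwa [add_zero] at this
      refine ⟨s * s', hss, ?_⟩
      have : x * y - s * s' = (x - s) * y + s * (y - s') := by ring
      rw [this]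
      exact K.add_mem (K.mul_mem_right _ hxs) (K.mul_mem_left _ hys)
  obtain ⟨s, hs, hxs⟩ := key b (by rw [hgen]; trivial)
  have h1 := hKhom d hxs
  rw [DirectSum.decompose_sub] at h1
  change ((DirectSum.decompose ℬ b d : ℬ d) : B) - ((DirectSum.decompose ℬ s d : ℬ d) : B) ∈ K at h1
  rwa [DirectSum.decompose_of_mem_same ℬ hb, DirectSum.decompose_of_mem_ne ℬ hs hd.ne,
    sub_zero] at h1

end gen

section rel

open Groth.Agent.Helper18KB

variable {Y P : Scheme.{u}} (𝒯 : RelProj.QCGrAlg Y) (p : P ⟶ Y)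
  (chart : ∀ (U : Y.Opens) (hU : IsAffineOpen U),
    ((p ⁻¹ᵁ U : P.Opens) : Scheme.{u}) ≅ Proj (𝒯.deg U hU))
  (I : P.IdealSheafData)

/-- the algebra structure of `𝒯(U)` over the functions on `U` -/
@[reducible] noncomputable def algU (U : Y.Opens) : Algebra Γ(Y, U) (𝒯.presheaf.obj (op U)) :=
  (𝒯.str.app (op U)).hom.toAlgebra

/-- the ideal sheaf on the chart `Proj 𝒯(U)` -/
noncomputable def IU (U : Y.Opens) (hU : IsAffineOpen U) : (Proj (𝒯.deg U hU)).IdealSheafData :=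
  I.comap (RelProj.emb p chart U hU)

/-- the homogeneous ideal of `𝒯(U)` of the ideal sheaf `I` on the relative `Proj` -/
noncomputable def JU (U : Y.Opens) (hU : IsAffineOpen U) : Ideal (𝒯.presheaf.obj (op U)) :=
  letI := algU 𝒯 U
  Jg (𝒯.deg U hU) (𝒯.str_mem U hU) (IU 𝒯 p chart I U hU)

variable {p chart}

/-- a finite family of degree-one elements generating the irrelevant ideal -/
theorem exists_finite_family (hgen : 𝒯.IsGenDegOne) (hft : 𝒯.IsFTDeg 1) (U : Y.Opens)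
    (hU : IsAffineOpen U) :
    ∃ (ι : Type u) (_ : Finite ι) (f : ι → 𝒯.presheaf.obj (op U)), (∀ i, f i ∈ 𝒯.deg U hU 1) ∧
      ∀ i > 0, ∀ a ∈ 𝒯.deg U hU i, a ∈ Ideal.span (Set.range f) := by
  classical
  obtain ⟨T, hT, hspan⟩ := hft U hU
  refine ⟨{x // x ∈ T}, inferInstance, fun x => x.1, fun x => hT x.2, ?_⟩
  intro i hi a ha
  have h1 := mem_span_of_gen (hgen U hU) i hi a ha
  refine (Ideal.span_le.mpr ?_) h1
  intro x hx
  obtain ⟨c, hc⟩ := hspan x hx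
  rw [hc]
  refine Ideal.sum_mem _ fun t ht => Ideal.mul_mem_left _ _ (Ideal.subset_span ⟨⟨t, ht⟩, rfl⟩)

theorem JU_basicOpen (hP : RelProj.IsRelProj 𝒯 p chart) (hgen : 𝒯.IsGenDegOne)
    (hft : 𝒯.IsFTDeg 1) (U : Y.Opens) (hU : IsAffineOpen U) (r : Γ(Y, U)) :
    JU 𝒯 p chart I (Y.basicOpen r) (hU.basicOpen r) =
      (JU 𝒯 p chart I U hU).map (𝒯.res hU (hU.basicOpen r) (Y.basicOpen_le r)) := by
  obtain ⟨ι, hfin, f, hf, hcov⟩ := exists_finite_family 𝒯 hgen hft U hU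
  letI := algU 𝒯 U
  letI := algU 𝒯 (Y.basicOpen r)
  have hemb := RelProj.map_res_emb hP U hU r
  haveI : IsOpenImmersion (Proj.map (𝒯.res hU (hU.basicOpen r) (Y.basicOpen_le r))
      (𝒯.irrelevant_le_map U hU r) ≫ RelProj.emb p chart U hU) := by
    rw [hemb]; infer_instance
  haveI : IsOpenImmersion (Proj.map (𝒯.res hU (hU.basicOpen r) (Y.basicOpen_le r))
      (𝒯.irrelevant_le_map U hU r)) :=
    IsOpenImmersion.of_comp _ (RelProj.emb p chart U hU)
  have hI : IU 𝒯 p chart I (Y.basicOpen r) (hU.basicOpen r) =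
      (IU 𝒯 p chart I U hU).comap (Proj.map (𝒯.res hU (hU.basicOpen r) (Y.basicOpen_le r))
        (𝒯.irrelevant_le_map U hU r)) := by
    unfold IU
    rw [← Scheme.IdealSheafData.comap_comp, hemb]
  unfold JU
  rw [hI]
  exact Jg_comap_eq_map (𝒯.deg U hU) (𝒯.str_mem U hU) (𝒯.deg (Y.basicOpen r) (hU.basicOpen r))
    (𝒯.str_mem _ (hU.basicOpen r)) (𝒯.res hU (hU.basicOpen r) (Y.basicOpen_le r))
    (𝒯.irrelevant_le_map U hU r) (IU 𝒯 p chart I U hU) (𝒯.str_mem U hU r) (𝒯.isQC U hU r) hf hcov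

section functor

open Scheme.AffineZariskiSite

variable (hP : RelProj.IsRelProj 𝒯 p chart) (hgen : 𝒯.IsGenDegOne) (hft : 𝒯.IsFTDeg 1)

include hP hgen hft in
theorem JU_le_comap {U V : Y.AffineZariskiSite} (i : V ⟶ U) :
    JU 𝒯 p chart I U.1 U.2 ≤
      (JU 𝒯 p chart I V.1 V.2).comap (𝒯.presheaf.map (homOfLE (toOpens_mono i.le)).op).hom := by
  obtain ⟨r, hr⟩ := i.le
  obtain rfl : U.basicOpen r = V := Subtype.ext hr
  intro x hx
  rw [Ideal.mem_comap]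
  change 𝒯.res U.2 (U.2.basicOpen r) (Y.basicOpen_le r) x ∈ JU 𝒯 p chart I (Y.basicOpen r) (U.2.basicOpen r)
  rw [JU_basicOpen 𝒯 I hP hgen hft U.1 U.2 r]
  exact Ideal.mem_map_of_mem _ hx

include hP hgen hft in
theorem JU_le_map {U V : Y.AffineZariskiSite} (i : V ⟶ U) :
    JU 𝒯 p chart I V.1 V.2 ≤
      (JU 𝒯 p chart I U.1 U.2).map (𝒯.presheaf.map (homOfLE (toOpens_mono i.le)).op).hom := by
  obtain ⟨r, hr⟩ := i.le
  obtain rfl : U.basicOpen r = V := Subtype.ext hr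
  change JU 𝒯 p chart I (Y.basicOpen r) (U.2.basicOpen r) ≤ _
  rw [JU_basicOpen 𝒯 I hP hgen hft U.1 U.2 r]
  exact le_rfl

/-- the affine-local data of the quotient algebra -/
noncomputable def Fq : Y.AffineZariskiSiteᵒᵖ ⥤ CommRingCat.{u} where
  obj U := CommRingCat.of (𝒯.presheaf.obj (op U.unop.1) ⧸ JU 𝒯 p chart I U.unop.1 U.unop.2)
  map {U V} i := CommRingCat.ofHom (Ideal.quotientMap _
    (𝒯.presheaf.map (homOfLE (toOpens_mono i.unop.le)).op).hom (JU_le_comap 𝒯 I hP hgen hft i.unop))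
  map_id U := by
    refine CommRingCat.hom_ext (RingHom.ext fun y => ?_)
    obtain ⟨x, rfl⟩ := Ideal.Quotient.mk_surjective y
    rw [CommRingCat.hom_ofHom, Ideal.quotientMap_mk, CommRingCat.hom_id, RingHom.id_apply]
    congr 1
    have : homOfLE (toOpens_mono (𝟙 U).unop.le) = 𝟙 U.unop.1 := rfl
    rw [this, op_id, 𝒯.presheaf.map_id]
    rfl
  map_comp {U V W} i j := by
    refine CommRingCat.hom_ext (RingHom.ext fun y => ?_)
    obtain ⟨x, rfl⟩ := Ideal.Quotient.mk_surjective y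
    rw [CommRingCat.hom_comp, RingHom.comp_apply, CommRingCat.hom_ofHom, CommRingCat.hom_ofHom,
      CommRingCat.hom_ofHom, Ideal.quotientMap_mk, Ideal.quotientMap_mk, Ideal.quotientMap_mk]
    congr 1
    rw [← CommRingCat.comp_apply, ← Functor.map_comp]
    rfl

theorem Fq_map_mk {U V : Y.AffineZariskiSite} (i : V ⟶ U) (x : 𝒯.presheaf.obj (op U.1)) :
    ((Fq 𝒯 I hP hgen hft).map i.op).hom (Ideal.Quotient.mk _ x) =
      Ideal.Quotient.mk _ ((𝒯.presheaf.map (homOfLE (toOpens_mono i.le)).op).hom x) :=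
  Ideal.quotientMap_mk (H := JU_le_comap 𝒯 I hP hgen hft i)

/-- the structure map of the quotient algebra -/
noncomputable def αq : (toOpensFunctor Y).op ⋙ Y.presheaf ⟶ Fq 𝒯 I hP hgen hft where
  app U := 𝒯.str.app (op U.unop.1) ≫ CommRingCat.ofHom (Ideal.Quotient.mk _)
  naturality U V i := by
    refine CommRingCat.hom_ext (RingHom.ext fun r => ?_)
    change Ideal.Quotient.mk _ ((𝒯.str.app _).hom ((Y.presheaf.map _).hom r)) =
      ((Fq 𝒯 I hP hgen hft).map i).hom (Ideal.Quotient.mk _ ((𝒯.str.app _).hom r))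
    rw [show i = i.unop.op from rfl, Fq_map_mk]
    congr 1
    have := congrArg (fun f => f.hom r) (𝒯.str.naturality ((toOpensFunctor Y).op.map i))
    exact this

theorem αq_app (U : Y.AffineZariskiSite) (r : Γ(Y, U.1)) :
    ((αq 𝒯 I hP hgen hft).app (op U)).hom r = Ideal.Quotient.mk _ ((𝒯.str.app (op U.1)).hom r) := rfl

theorem coequifibered_αq : (αq 𝒯 I hP hgen hft).Coequifibered := by
  refine coequifibered_iff_forall_isLocalizationAway.mpr fun U r => ?_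
  letI alg1 : Algebra (𝒯.presheaf.obj (op U.1)) (𝒯.presheaf.obj (op (Y.basicOpen r))) :=
    (𝒯.presheaf.map (homOfLE (Y.basicOpen_le r)).op).hom.toAlgebra
  haveI hloc : IsLocalization.Away ((𝒯.str.app (op U.1)).hom r)
      (𝒯.presheaf.obj (op (Y.basicOpen r))) := 𝒯.isQC U.1 U.2 r
  letI alg2 : Algebra ((Fq 𝒯 I hP hgen hft).obj (op U))
      ((Fq 𝒯 I hP hgen hft).obj (op (U.basicOpen r))) :=
    ((Fq 𝒯 I hP hgen hft).map (homOfLE (U.basicOpen_le r)).op).hom.toAlgebra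
  have h := IsLocalization.of_surjective (Submonoid.powers ((𝒯.str.app (op U.1)).hom r))
    (𝒯.presheaf.obj (op (Y.basicOpen r)))
    (R' := (Fq 𝒯 I hP hgen hft).obj (op U)) (S' := (Fq 𝒯 I hP hgen hft).obj (op (U.basicOpen r)))
    (Ideal.Quotient.mk (JU 𝒯 p chart I U.1 U.2)) Ideal.Quotient.mk_surjective
    (Ideal.Quotient.mk (JU 𝒯 p chart I (Y.basicOpen r) (U.2.basicOpen r)))
    Ideal.Quotient.mk_surjective
    (by
      refine RingHom.ext fun x => ?_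
      exact (Fq_map_mk 𝒯 I hP hgen hft (homOfLE (U.basicOpen_le r)) x).symm)
    (by
      intro x hx
      have hx' : x ∈ JU 𝒯 p chart I (Y.basicOpen r) (U.2.basicOpen r) :=
        Ideal.Quotient.eq_zero_iff_mem.mp hx
      have h1 := JU_le_map 𝒯 I hP hgen hft (homOfLE (U.basicOpen_le r)) hx'
      refine Ideal.map_mono ?_ h1
      intro y hy
      exact Ideal.Quotient.eq_zero_iff_mem.mpr hy)
  rw [Submonoid.map_powers] at h
  exact h

/-- the quotient grading -/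
noncomputable def 𝒢q (U : Y.AffineZariskiSite) (d : ℕ) :
    AddSubgroup ((Fq 𝒯 I hP hgen hft).obj (op U)) :=
  (𝒯.deg U.1 U.2 d).map (Ideal.Quotient.mk (JU 𝒯 p chart I U.1 U.2)).toAddMonoidHom

theorem mem_𝒢q_iff (U : Y.AffineZariskiSite) (d : ℕ) (x : (Fq 𝒯 I hP hgen hft).obj (op U)) :
    x ∈ 𝒢q 𝒯 I hP hgen hft U d ↔
      ∃ a ∈ 𝒯.deg U.1 U.2 d, Ideal.Quotient.mk (JU 𝒯 p chart I U.1 U.2) a = x := Iff.rfl

theorem mk_mem_𝒢q (U : Y.AffineZariskiSite) {d : ℕ} {a : 𝒯.presheaf.obj (op U.1)}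
    (ha : a ∈ 𝒯.deg U.1 U.2 d) :
    Ideal.Quotient.mk (JU 𝒯 p chart I U.1 U.2) a ∈ 𝒢q 𝒯 I hP hgen hft U d := ⟨a, ha, rfl⟩

noncomputable instance gradedRing_𝒢q (U : Y.AffineZariskiSite) :
    GradedRing (𝒢q 𝒯 I hP hgen hft U) :=
  letI := algU 𝒯 U.1
  letI : GradedAlgebra (Groth.Agent.Helper13GradedQuot.qgr
      (sm (𝒯.deg U.1 U.2) (𝒯.str_mem U.1 U.2)) (JU 𝒯 p chart I U.1 U.2)) :=
    Groth.Agent.Helper13GradedQuot.gradedAlgebraQuot _ _
      (Jg_isHomogeneous (𝒯.deg U.1 U.2) (𝒯.str_mem U.1 U.2) (IU 𝒯 p chart I U.1 U.2))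
  gradedRing_of_mem_iff (Groth.Agent.Helper13GradedQuot.qgr
      (sm (𝒯.deg U.1 U.2) (𝒯.str_mem U.1 U.2)) (JU 𝒯 p chart I U.1 U.2))
    (𝒢q 𝒯 I hP hgen hft U) (fun _ _ => Iff.rfl)

theorem hmap_q {U V : Y.AffineZariskiSite} (i : V ⟶ U) {d : ℕ}
    {x : (Fq 𝒯 I hP hgen hft).obj (op U)} (hx : x ∈ 𝒢q 𝒯 I hP hgen hft U d) :
    ((Fq 𝒯 I hP hgen hft).map i.op).hom x ∈ 𝒢q 𝒯 I hP hgen hft V d := by
  obtain ⟨a, ha, rfl⟩ := hx
  change ((Fq 𝒯 I hP hgen hft).map i.op).hom (Ideal.Quotient.mk _ a) ∈ _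
  rw [Fq_map_mk]
  exact mk_mem_𝒢q 𝒯 I hP hgen hft V (𝒯.map_mem U.2 V.2 (toOpens_mono i.le) ha)

theorem hα_q (U : Y.AffineZariskiSite) (r : Γ(Y, U.1)) :
    ((αq 𝒯 I hP hgen hft).app (op U)).hom r ∈ 𝒢q 𝒯 I hP hgen hft U 0 :=
  mk_mem_𝒢q 𝒯 I hP hgen hft U (𝒯.str_mem U.1 U.2 r)

/-- **the graded quotient algebra** `𝒯 / ℐ` of the ideal sheaf `I` on the relative `Proj` of `𝒯` -/
noncomputable def quotAlg : RelProj.QCGrAlg Y :=
  Groth.Agent.Helper18GrAlgA.grAlg (coequifibered_αq 𝒯 I hP hgen hft) (𝒢q 𝒯 I hP hgen hft)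
    (fun i _ _ hx => hmap_q 𝒯 I hP hgen hft i hx) (hα_q 𝒯 I hP hgen hft)

theorem isGenDegOne_quotAlg : (quotAlg 𝒯 I hP hgen hft).IsGenDegOne := by
  refine Groth.Agent.Helper18GrAlgA.isGenDegOne_grAlg _ _ _ _ (fun U => ?_)
  have hset : ((𝒢q 𝒯 I hP hgen hft U 0 : Set ((Fq 𝒯 I hP hgen hft).obj (op U))) ∪
      (𝒢q 𝒯 I hP hgen hft U 1 : Set ((Fq 𝒯 I hP hgen hft).obj (op U)))) =
      (Ideal.Quotient.mk (JU 𝒯 p chart I U.1 U.2)) '' ((𝒯.deg U.1 U.2 0 : Set _) ∪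
        (𝒯.deg U.1 U.2 1 : Set _)) := by
    ext x
    constructor
    · rintro (⟨a, ha, rfl⟩ | ⟨a, ha, rfl⟩)
      · exact ⟨a, Or.inl ha, rfl⟩
      · exact ⟨a, Or.inr ha, rfl⟩
    · rintro ⟨a, (ha | ha), rfl⟩
      · exact Or.inl ⟨a, ha, rfl⟩
      · exact Or.inr ⟨a, ha, rfl⟩
  rw [hset]
  have h1 := RingHom.map_closure (Ideal.Quotient.mk (JU 𝒯 p chart I U.1 U.2))
    ((𝒯.deg U.1 U.2 0 : Set (𝒯.presheaf.obj (op U.1))) ∪ (𝒯.deg U.1 U.2 1 : Set _))
  rw [hgen U.1 U.2, ← RingHom.range_eq_map,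
    RingHom.range_eq_top.mpr Ideal.Quotient.mk_surjective] at h1
  exact h1.symm

theorem isFTDeg_quotAlg : (quotAlg 𝒯 I hP hgen hft).IsFTDeg 1 := by
  classical
  refine Groth.Agent.Helper18GrAlgA.isFTDeg_grAlg _ _ _ _ 1 (fun U => ?_)
  obtain ⟨T, hT, hspan⟩ := hft U.1 U.2
  refine ⟨T.image (Ideal.Quotient.mk (JU 𝒯 p chart I U.1 U.2)), ?_, ?_⟩
  · intro x hx
    rw [Finset.coe_image] at hx
    obtain ⟨a, ha, rfl⟩ := hx
    exact mk_mem_𝒢q 𝒯 I hP hgen hft U (hT ha)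
  · rintro x ⟨a, ha, rfl⟩
    obtain ⟨c, hc⟩ := hspan a ha
    refine ⟨fun t' => ∑ t ∈ T with Ideal.Quotient.mk (JU 𝒯 p chart I U.1 U.2) t = t', c t, ?_⟩
    change Ideal.Quotient.mk (JU 𝒯 p chart I U.1 U.2) a = _
    rw [hc, map_sum]
    symm
    refine Finset.sum_image' (fun t => (Ideal.Quotient.mk (JU 𝒯 p chart I U.1 U.2))
      ((𝒯.str.app (op U.1)).hom (c t) * t)) (fun t ht => ?_)
    rw [αq_app, map_sum, map_sum]
    refine (Finset.sum_mul _ _ _).trans (Finset.sum_congr rfl (fun s hs => ?_))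
    rw [Finset.mem_filter] at hs
    rw [map_mul, hs.2]

end functor

end rel

end Groth.Agent.Helper18KC
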