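import Groth.Agent.Lib.Helper18KC
import Groth.Agent.Lib.Helper18SymBC
import Groth.Agent.Lib.Helper18DU
import Groth.Agent.Lib.Helper13ProjBC
import Groth.Agent.Lib.Helper13RelProjE
import Groth.Agent.Lib.Helper27RelProj4
import Groth.Agent.Lib.Helper2RelTwistPullback

/-!
# helper18: closed subschemes of a relative `Proj` are relative `Proj`'s of graded quotients
-/

set_option autoImplicit false
set_option linter.unusedSectionVars false
set_option linter.style.haveILetI false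
universe u

open CategoryTheory CategoryTheory.Limits AlgebraicGeometry TopologicalSpace Opposite
  HomogeneousLocalization
open scoped HomogeneousIdeal DirectSum

namespace Groth.Agent.Helper18KD

open Groth.Agent.Helper18KB Groth.Agent.Helper18KC Groth.Agent.Helper13QCAlgOfAffine
  Groth.Agent.Helper18GrAlgA Scheme.AffineZariskiSite

variable {Y P : Scheme.{u}} (𝒯 : RelProj.QCGrAlg Y) {p : P ⟶ Y}
  {chart : ∀ (U : Y.Opens) (hU : IsAffineOpen U),
    ((p ⁻¹ᵁ U : P.Opens) : Scheme.{u}) ≅ Proj (𝒯.deg U hU)}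
  (I : P.IdealSheafData)
  (hP : RelProj.IsRelProj 𝒯 p chart) (hgen : 𝒯.IsGenDegOne) (hft : 𝒯.IsFTDeg 1)

/-- the coequifibered structure -/
theorem Hq : (αq 𝒯 I hP hgen hft).Coequifibered := coequifibered_αq 𝒯 I hP hgen hft

/-- the quotient map over an affine open -/
noncomputable def dq (U : Y.Opens) (hU : IsAffineOpen U) :
    𝒯.presheaf.obj (op U) ⟶ (qcAlg (Hq 𝒯 I hP hgen hft)).presheaf.obj (op U) :=
  CommRingCat.ofHom ((gammaEquiv (Hq 𝒯 I hP hgen hft) U hU).symm.toRingHom.comp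
    (Ideal.Quotient.mk (JU 𝒯 p chart I U hU)))

theorem gammaEquiv_dq (U : Y.Opens) (hU : IsAffineOpen U) (x : 𝒯.presheaf.obj (op U)) :
    gammaEquiv (Hq 𝒯 I hP hgen hft) U hU ((dq 𝒯 I hP hgen hft U hU).hom x) =
      Ideal.Quotient.mk (JU 𝒯 p chart I U hU) x :=
  (gammaEquiv (Hq 𝒯 I hP hgen hft) U hU).apply_symm_apply _

theorem gammaEquiv_res {U V : Y.AffineZariskiSite} (i : V ⟶ U)
    (y : (qcAlg (Hq 𝒯 I hP hgen hft)).presheaf.obj (op U.1)) :
    gammaEquiv (Hq 𝒯 I hP hgen hft) V.1 V.2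
        (((qcAlg (Hq 𝒯 I hP hgen hft)).presheaf.map (homOfLE (toOpens_mono i.le)).op).hom y) =
      ((Fq 𝒯 I hP hgen hft).map i.op).hom (gammaEquiv (Hq 𝒯 I hP hgen hft) U.1 U.2 y) := by
  have h1 := gammaAff_naturality (Hq 𝒯 I hP hgen hft) i
  exact congrArg (fun f => f.hom y) h1

theorem dq_nat {U V : Y.AffineZariskiSite} (i : V ⟶ U) :
    𝒯.presheaf.map (homOfLE (toOpens_mono i.le)).op ≫ dq 𝒯 I hP hgen hft V.1 V.2 =
      dq 𝒯 I hP hgen hft U.1 U.2 ≫
        (qcAlg (Hq 𝒯 I hP hgen hft)).presheaf.map (homOfLE (toOpens_mono i.le)).op := by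
  refine CommRingCat.hom_ext (RingHom.ext fun x => ?_)
  apply (gammaEquiv (Hq 𝒯 I hP hgen hft) V.1 V.2).injective
  rw [CommRingCat.comp_apply, CommRingCat.comp_apply, gammaEquiv_dq,
    gammaEquiv_res 𝒯 I hP hgen hft i, gammaEquiv_dq, Fq_map_mk 𝒯 I hP hgen hft i]

theorem str_dq (U : Y.Opens) (hU : IsAffineOpen U) :
    𝒯.str.app (op U) ≫ dq 𝒯 I hP hgen hft U hU = (qcAlg (Hq 𝒯 I hP hgen hft)).str.app (op U) := by
  refine CommRingCat.hom_ext (RingHom.ext fun r => ?_)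
  apply (gammaEquiv (Hq 𝒯 I hP hgen hft) U hU).injective
  rw [CommRingCat.comp_apply, gammaEquiv_dq]
  exact (gammaEquiv_str (Hq 𝒯 I hP hgen hft) U hU r).symm

/-- **the quotient homomorphism** `𝒯 ⟶ 𝒯 / ℐ` -/
noncomputable def πq : 𝒯.toQCAlg ⟶ (quotAlg 𝒯 I hP hgen hft).toQCAlg where
  hom := Groth.Agent.Helper18SymBC.extendSheaf (qcAlg (Hq 𝒯 I hP hgen hft)).isSheaf
    (dq 𝒯 I hP hgen hft) (fun i => dq_nat 𝒯 I hP hgen hft i)
  comm := by
    refine Groth.Agent.Helper18SymBC.hom_ext_sheaf (qcAlg (Hq 𝒯 I hP hgen hft)).isSheaf _ _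
      (fun U hU => ?_)
    have h := Groth.Agent.Helper18SymBC.extendSheaf_app
      (qcAlg (Hq 𝒯 I hP hgen hft)).isSheaf (dq 𝒯 I hP hgen hft)
      (fun i => dq_nat 𝒯 I hP hgen hft i) U hU
    exact (congrArg (fun t => 𝒯.str.app (op U) ≫ t) h).trans (str_dq 𝒯 I hP hgen hft U hU)

theorem πq_app (U : Y.Opens) (hU : IsAffineOpen U) :
    (πq 𝒯 I hP hgen hft).hom.app (op U) = dq 𝒯 I hP hgen hft U hU :=
  Groth.Agent.Helper18SymBC.extendSheaf_app (qcAlg (Hq 𝒯 I hP hgen hft)).isSheaf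
    (dq 𝒯 I hP hgen hft) (fun i => dq_nat 𝒯 I hP hgen hft i) U hU

theorem gammaEquiv_πq (U : Y.Opens) (hU : IsAffineOpen U) (x : 𝒯.presheaf.obj (op U)) :
    gammaEquiv (Hq 𝒯 I hP hgen hft) U hU (((πq 𝒯 I hP hgen hft).hom.app (op U)).hom x) =
      Ideal.Quotient.mk (JU 𝒯 p chart I U hU) x := by
  rw [πq_app]
  exact gammaEquiv_dq 𝒯 I hP hgen hft U hU x

theorem isGradedHom_πq : RelProj.IsGradedHom (πq 𝒯 I hP hgen hft) := by
  intro U hU d x hx
  refine (mem_grAlg_deg_iff (Hq 𝒯 I hP hgen hft) (𝒢q 𝒯 I hP hgen hft) _ _ U hU d _).mpr ?_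
  have h := gammaEquiv_πq 𝒯 I hP hgen hft U hU x
  rw [gammaEquiv_apply] at h
  rw [h]
  exact mk_mem_𝒢q 𝒯 I hP hgen hft ⟨U, hU⟩ hx

theorem πq_surjective (U : Y.Opens) (hU : IsAffineOpen U) :
    Function.Surjective ((πq 𝒯 I hP hgen hft).hom.app (op U)).hom := by
  intro y
  obtain ⟨x, hx⟩ := Ideal.Quotient.mk_surjective (gammaEquiv (Hq 𝒯 I hP hgen hft) U hU y)
  refine ⟨x, ?_⟩
  apply (gammaEquiv (Hq 𝒯 I hP hgen hft) U hU).injective
  rw [gammaEquiv_πq, hx]

theorem πq_eq_zero_iff (U : Y.Opens) (hU : IsAffineOpen U) (x : 𝒯.presheaf.obj (op U)) :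
    ((πq 𝒯 I hP hgen hft).hom.app (op U)).hom x = 0 ↔ x ∈ JU 𝒯 p chart I U hU := by
  rw [← Ideal.Quotient.eq_zero_iff_mem, ← gammaEquiv_πq 𝒯 I hP hgen hft U hU x]
  exact (map_eq_zero_iff _ (gammaEquiv (Hq 𝒯 I hP hgen hft) U hU).injective).symm

section glue

/-- ideal sheaves are determined by their pullbacks to a jointly surjective family of open immersions -/
theorem idealSheafData_ext_of_comap {X : Scheme.{u}} {κ : Type u} (W : κ → Scheme.{u})
    (j : ∀ a, W a ⟶ X) [∀ a, IsOpenImmersion (j a)] (hj : ∀ x : X, ∃ a, x ∈ Set.range (j a))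
    (K K' : X.IdealSheafData) (h : ∀ a, K.comap (j a) = K'.comap (j a)) : K = K' := by
  refine Scheme.IdealSheafData.ext_of_iSup_eq_top
    (fun s : (Σ a, (W a).affineOpens) =>
      (⟨j s.1 ''ᵁ s.2.1, s.2.2.image_of_isOpenImmersion (j s.1)⟩ : X.affineOpens)) ?_ ?_
  · apply le_antisymm le_top
    intro x _
    obtain ⟨a, w, rfl⟩ := hj x
    obtain ⟨V, hV, hwV, -⟩ := exists_isAffineOpen_mem_and_subset (x := w) (U := ⊤) trivial
    rw [Opens.mem_iSup]
    exact ⟨⟨a, ⟨V, hV⟩⟩, ⟨w, hwV, rfl⟩⟩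
  · rintro ⟨a, V⟩
    have h1 := congrArg (fun L => L.ideal V) (h a)
    simp only [Scheme.IdealSheafData.ideal_comap_of_isOpenImmersion] at h1
    have hsurj : Function.Surjective ((j a).appIso V.1).inv.hom :=
      (ConcreteCategory.bijective_of_isIso ((j a).appIso V.1).inv).2
    exact Ideal.comap_injective_of_surjective _ hsurj h1

end glue

section main

include hP hgen hft

omit hP hgen hft in
theorem opensRange_emb {Y P : Scheme.{u}} {𝒮 : RelProj.QCGrAlg Y} (p : P ⟶ Y)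
    (chart : ∀ (U : Y.Opens) (hU : IsAffineOpen U),
      ((p ⁻¹ᵁ U : P.Opens) : Scheme.{u}) ≅ Proj (𝒮.deg U hU))
    (U : Y.Opens) (hU : IsAffineOpen U) : (RelProj.emb p chart U hU).opensRange = p ⁻¹ᵁ U := by
  unfold RelProj.emb
  rw [Scheme.Hom.opensRange_comp_of_isIso, Scheme.Opens.opensRange_ι]

/-- **closed subschemes of a relative `Proj`** of an algebra generated in degree one with degree-one part of finite
type are relative `Proj`'s of graded quotients: the composite to the base is projective. -/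
theorem isProjective_of_isClosedImmersion {X : Scheme.{u}} (i : X ⟶ P) [IsClosedImmersion i] :
    RelProj.IsProjective (i ≫ p) := by
  set 𝒮 := quotAlg 𝒯 i.ker hP hgen hft with h𝒮
  have hπ := isGradedHom_πq 𝒯 i.ker hP hgen hft
  have hirr : ∀ (U : Y.Opens) (hU : IsAffineOpen U),
      (𝒮.deg U hU)₊ ≤ ((𝒯.deg U hU)₊).map (RelProj.gradedHomAt (πq 𝒯 i.ker hP hgen hft) hπ U hU) :=
    fun U hU => Groth.Agent.Helper18DU.irrelevant_le_map_of_surjective _
      (πq_surjective 𝒯 i.ker hP hgen hft U hU)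
  have hQ := Groth.Agent.Helper13ProjBC.isRelProj_relProj 𝒮
  obtain ⟨h, hh⟩ := Groth.Agent.Helper13RelProj.exists_relProjMap (πq 𝒯 i.ker hP hgen hft) hπ hirr hP hQ
  have hci : IsClosedImmersion h := by
    apply Groth.Agent.Lib.Helper27RelProj4.relProjMap_of_charts (P := @IsClosedImmersion)
      (πq 𝒯 i.ker hP hgen hft) hπ hirr hP hQ hh
    intro U hU
    exact Groth.Agent.Helper13RelProj.isClosedImmersion_map_of_surjective _ _
      (πq_surjective 𝒯 i.ker hP hgen hft U hU)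
  have hover : h ≫ p = Groth.Agent.Helper13ProjBC.relProjπ 𝒮 :=
    Groth.Agent.Lib.Helper27RelProj4.relProjMap_over (πq 𝒯 i.ker hP hgen hft) hπ hirr hP hQ hh
  -- the two ideal sheaves agree
  have hker : h.ker = i.ker := by
    refine idealSheafData_ext_of_comap
      (fun U : Y.affineOpens => Proj (𝒯.deg U.1 U.2))
      (fun U => RelProj.emb p chart U.1 U.2) ?_ _ _ (fun U => ?_)
    · intro x
      obtain ⟨U, hU, hxU, -⟩ := exists_isAffineOpen_mem_and_subset (x := p x) (U := ⊤) trivial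
      refine ⟨⟨U, hU⟩, ?_⟩
      have : x ∈ (RelProj.emb p chart U hU).opensRange := by
        rw [opensRange_emb]; exact hxU
      exact this
    · obtain ⟨U, hU⟩ := U
      have hcomm := Groth.Agent.Lib.Helper2.RelTwistPullback.emb_comp (πq 𝒯 i.ker hP hgen hft) hπ hirr
        p (Groth.Agent.Helper13ProjBC.relProjπ 𝒮) chart (Groth.Agent.Helper13ProjBC.relProjChart 𝒮)
        h hh U hU
      have hpb : IsPullback
          (Proj.map (RelProj.gradedHomAt (πq 𝒯 i.ker hP hgen hft) hπ U hU) (hirr U hU))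
          (RelProj.emb (Groth.Agent.Helper13ProjBC.relProjπ 𝒮)
            (Groth.Agent.Helper13ProjBC.relProjChart 𝒮) U hU)
          (RelProj.emb p chart U hU) h := by
        refine IsOpenImmersion.isPullback _ _ _ _ hcomm ?_
        rw [opensRange_emb, opensRange_emb, ← hover]
        rfl
      have h1 := ker_of_isPullback hpb
      rw [← h1]
      obtain ⟨ι, hfin, f, hf, hcov⟩ := exists_finite_family 𝒯 hgen hft U hU
      letI := algU 𝒯 U
      letI := algU 𝒮 U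
      exact ker_map_eq_g (𝒯.deg U hU) (𝒯.str_mem U hU) (𝒮.deg U hU) (𝒮.str_mem U hU)
        (RelProj.gradedHomAt (πq 𝒯 i.ker hP hgen hft) hπ U hU) (hirr U hU)
        (πq_surjective 𝒯 i.ker hP hgen hft U hU) (IU 𝒯 p chart i.ker U hU)
        (fun a => πq_eq_zero_iff 𝒯 i.ker hP hgen hft U hU a) hf hcov
  haveI := IsClosedImmersion.isIso_lift h i hker
  refine ⟨𝒮, _, _, _, asIso (IsClosedImmersion.lift h i hker.le),
    isGenDegOne_quotAlg 𝒯 i.ker hP hgen hft, isFTDeg_quotAlg 𝒯 i.ker hP hgen hft, hQ, ?_⟩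
  rw [asIso_hom, ← hover, ← Category.assoc, IsClosedImmersion.lift_fac]

end main

end Groth.Agent.Helper18KD
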