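import Groth.Agent.Lib.Helper18KD
import Groth.Agent.Lib.Helper18DegOneC
import Groth.Agent.Lib.Helper23FinType2

/-!
# helper18: projective morphisms and closed subschemes of projective bundles
-/

set_option autoImplicit false
set_option linter.unusedSectionVars false
set_option linter.style.haveILetI false
universe u

open CategoryTheory CategoryTheory.Limits AlgebraicGeometry TopologicalSpace Opposite
open scoped HomogeneousIdeal DirectSum

namespace Groth.Agent.Helper18KE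

section ring

variable {B : Type u} [CommRing B] (ℬ : ℕ → AddSubgroup B) [GradedRing ℬ]

/-- elements without components in degrees zero and one -/
def lowIdeal : Ideal B where
  carrier := {z | (DirectSum.decompose ℬ z 0 : B) = 0 ∧ (DirectSum.decompose ℬ z 1 : B) = 0}
  add_mem' := by
    rintro a b ⟨ha0, ha1⟩ ⟨hb0, hb1⟩
    refine ⟨?_, ?_⟩
    · rw [DirectSum.decompose_add, DirectSum.add_apply, AddSubgroup.coe_add, ha0, hb0, add_zero]
    · rw [DirectSum.decompose_add, DirectSum.add_apply, AddSubgroup.coe_add, ha1, hb1, add_zero]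
  zero_mem' := by
    refine ⟨?_, ?_⟩ <;> rw [DirectSum.decompose_zero] <;> rfl
  smul_mem' := by
    classical
    rintro c z ⟨hz0, hz1⟩
    change (DirectSum.decompose ℬ (c * z) 0 : B) = 0 ∧ (DirectSum.decompose ℬ (c * z) 1 : B) = 0
    have key : ∀ n : ℕ, n ≤ 1 → ∀ (i : ℕ) (b : B), b ∈ ℬ i →
        (DirectSum.decompose ℬ (b * z) n : B) = 0 := by
      intro n hn i b hb
      by_cases hin : i ≤ n
      · rw [DirectSum.coe_decompose_mul_of_left_mem_of_le ℬ hb hin]
        have : n - i = 0 ∨ n - i = 1 := by omega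
        rcases this with h | h <;> rw [h]
        · rw [hz0, mul_zero]
        · rw [hz1, mul_zero]
      · exact DirectSum.coe_decompose_mul_of_left_mem_of_not_le ℬ hb hin
    have key2 : ∀ n : ℕ, n ≤ 1 → (DirectSum.decompose ℬ (c * z) n : B) = 0 := by
      intro n hn
      rw [← DirectSum.sum_support_decompose ℬ c, Finset.sum_mul, DirectSum.decompose_sum,
        DFinsupp.finset_sum_apply, AddSubmonoidClass.coe_finset_sum]
      refine Finset.sum_eq_zero fun i _ => ?_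
      exact key n hn i _ (SetLike.coe_mem _)
    exact ⟨key2 0 (by norm_num), key2 1 le_rfl⟩

theorem mem_lowIdeal_iff (z : B) : z ∈ lowIdeal ℬ ↔
    (DirectSum.decompose ℬ z 0 : B) = 0 ∧ (DirectSum.decompose ℬ z 1 : B) = 0 := Iff.rfl

theorem mul_mem_lowIdeal {u v : B} (hu : u ∈ ℬ 1) (hv : v ∈ ℬ 1) : u * v ∈ lowIdeal ℬ := by
  have h : u * v ∈ ℬ 2 := SetLike.GradedMul.mul_mem hu hv
  exact ⟨DirectSum.decompose_of_mem_ne ℬ h (by norm_num), DirectSum.decompose_of_mem_ne ℬ h (by norm_num)⟩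

end ring

section sym

variable {S : Scheme.{u}} (E : S.Modules) (hE : Coh.IsQCoh E) (𝒮 : RelProj.QCGrAlg S)
  (j : E ⟶ 𝒮.toModule) (hj : RelProj.IsGrSymAlg E 𝒮 j)

include hE hj in
/-- the degree-one part of a graded symmetric algebra is the image of the module -/
theorem exists_app_eq_of_mem_deg_one (U : S.Opens) (hU : IsAffineOpen U)
    (x : 𝒮.presheaf.obj (op U)) (hx : x ∈ 𝒮.deg U hU 1) :
    ∃ e : Γ(E, U), Groth.Agent.Helper13SymAlg.φAdd E 𝒮.toQCAlg j U e = x := by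
  classical
  have : E.IsQuasicoherent := hE
  have hbij := Groth.Agent.Helper13SymAlg.bijective_σ E U hU hj.1
  have key : ∀ w : SymmetricAlgebra Γ(S, U) Γ(E, U), ∃ (a : Γ(S, U)) (e : Γ(E, U)),
      Groth.Agent.Helper13SymAlg.σ E 𝒮.toQCAlg j U w - (𝒮.str.app (op U)).hom a -
        Groth.Agent.Helper13SymAlg.φAdd E 𝒮.toQCAlg j U e ∈ lowIdeal (𝒮.deg U hU) := by
    intro w
    induction w using SymmetricAlgebra.induction with
    | algebraMap a =>
      refine ⟨a, 0, ?_⟩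
      unfold Groth.Agent.Helper13SymAlg.σ
      rw [Groth.Agent.Helper13SymLoc.symLift_algebraMap, map_zero, sub_self, sub_zero]
      exact Ideal.zero_mem _
    | ι m =>
      refine ⟨0, m, ?_⟩
      unfold Groth.Agent.Helper13SymAlg.σ
      rw [Groth.Agent.Helper13SymLoc.symLift_ι, map_zero, sub_zero, sub_self]
      exact Ideal.zero_mem _
    | mul w w' hw hw' =>
      obtain ⟨a, e, h⟩ := hw
      obtain ⟨a', e', h'⟩ := hw'
      refine ⟨a * a', a • e' + a' • e, ?_⟩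
      set s := Groth.Agent.Helper13SymAlg.σ E 𝒮.toQCAlg j U w with hs
      set s' := Groth.Agent.Helper13SymAlg.σ E 𝒮.toQCAlg j U w' with hs'
      set A := (𝒮.str.app (op U)).hom a with hA
      set A' := (𝒮.str.app (op U)).hom a' with hA'
      set J := Groth.Agent.Helper13SymAlg.φAdd E 𝒮.toQCAlg j U e with hJ
      set J' := Groth.Agent.Helper13SymAlg.φAdd E 𝒮.toQCAlg j U e' with hJ'
      rw [map_mul, map_mul, map_add, Groth.Agent.Helper13SymAlg.φAdd_smul,
        Groth.Agent.Helper13SymAlg.φAdd_smul, ← hA, ← hA', ← hJ, ← hJ', ← hs, ← hs']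
      have hJJ : J * J' ∈ lowIdeal (𝒮.deg U hU) :=
        mul_mem_lowIdeal _ (hj.2 U hU e) (hj.2 U hU e')
      have e1 : s * s' - A * A' - (A * J' + A' * J) =
          (s - A - J) * s' + (A + J) * (s' - A' - J') + J * J' := by ring
      rw [e1]
      exact Ideal.add_mem _ (Ideal.add_mem _ (Ideal.mul_mem_right _ _ h)
        (Ideal.mul_mem_left _ _ h')) hJJ
    | add w w' hw hw' =>
      obtain ⟨a, e, h⟩ := hw
      obtain ⟨a', e', h'⟩ := hw'
      refine ⟨a + a', e + e', ?_⟩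
      rw [map_add, map_add, map_add]
      have e1 : ∀ p q r s t v : 𝒮.presheaf.obj (op U),
          p + q - (r + s) - (t + v) = (p - r - t) + (q - s - v) := by intros; ring
      rw [e1]
      exact Ideal.add_mem _ h h'
  obtain ⟨w, rfl⟩ := hbij.2 x
  obtain ⟨a, e, h⟩ := key w
  refine ⟨e, ?_⟩
  have h1 := ((mem_lowIdeal_iff _ _).1 h).2
  have hje : Groth.Agent.Helper13SymAlg.φAdd E 𝒮.toQCAlg j U e ∈ 𝒮.deg U hU 1 := hj.2 U hU e
  rw [DirectSum.decompose_sub, DirectSum.decompose_sub, DirectSum.sub_apply, DirectSum.sub_apply,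
    AddSubgroup.coe_sub, AddSubgroup.coe_sub, DirectSum.decompose_of_mem_same (𝒮.deg U hU) hx,
    DirectSum.decompose_of_mem_ne (𝒮.deg U hU) (𝒮.str_mem U hU a) (by norm_num),
    DirectSum.decompose_of_mem_same (𝒮.deg U hU) hje, sub_zero, sub_eq_zero] at h1
  exact h1.symm

include hE hj in
/-- the degree-one part of the graded symmetric algebra of a module of finite type is of finite type -/
theorem isFTDeg_one_of_isGrSymAlg (hft : CohB1.IsFT E) : 𝒮.IsFTDeg 1 := by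
  classical
  have : E.IsQuasicoherent := hE
  intro U hU
  have hfin : Module.Finite Γ(S, U) Γ(E, U) :=
    (Groth.Agent.Lib.Helper23.FinType.isFiniteType_iff_forall_affine E).1 hft U hU
  obtain ⟨G, hG⟩ := hfin.fg_top
  refine ⟨G.image (Groth.Agent.Helper13SymAlg.φAdd E 𝒮.toQCAlg j U), ?_, ?_⟩
  · intro x hx
    rw [Finset.coe_image] at hx
    obtain ⟨g, _, rfl⟩ := hx
    exact hj.2 U hU g
  · intro x hx
    obtain ⟨e, rfl⟩ := exists_app_eq_of_mem_deg_one E hE 𝒮 j hj U hU x hx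
    have hmem : e ∈ Submodule.span Γ(S, U) (G : Set Γ(E, U)) := by rw [hG]; trivial
    obtain ⟨c, -, hc⟩ := (Submodule.mem_span_finset).mp hmem
    refine ⟨fun t => ∑ g ∈ G with Groth.Agent.Helper13SymAlg.φAdd E 𝒮.toQCAlg j U g = t, c g, ?_⟩
    rw [← hc, map_sum]
    symm
    refine (Finset.sum_image' (fun g => Groth.Agent.Helper13SymAlg.φAdd E 𝒮.toQCAlg j U (c g • g))
      (fun g hg => ?_))
    rw [map_sum]
    refine (Finset.sum_mul _ _ _).trans (Finset.sum_congr rfl (fun s hs => ?_))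
    rw [Finset.mem_filter] at hs
    rw [Groth.Agent.Helper13SymAlg.φAdd_smul, hs.2]

end sym

section degOne

open Groth.Agent.Helper18DegOne

variable {Y : Scheme.{u}} (𝒮 : RelProj.QCGrAlg Y)

/-- the degree-one part of a graded algebra with `IsFTDeg 1` is a module of finite type -/
theorem isFT_degOne (hft : 𝒮.IsFTDeg 1) : CohB1.IsFT (degOne 𝒮) := by
  classical
  refine (Groth.Agent.Lib.Helper23.FinType.isFiniteType_iff_forall_affine (degOne 𝒮)).2 ?_
  intro U hU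
  obtain ⟨T, hT, hspan⟩ := hft U hU
  have hpre : ∀ t : 𝒮.presheaf.obj (op U), t ∈ T →
      ∃ x : Γ(degOne 𝒮, U), toR 𝒮 ((degOneι 𝒮).app U x) = t :=
    fun t ht => exists_degOneι_eq 𝒮 U hU t (hT ht)
  choose! pre hpre using hpre
  haveI : Mono (degOneι 𝒮) := by unfold degOneι; exact equalizer.ι_mono
  have hinj := Groth.Agent.Lib.Helper23.Extend.injective_app_of_mono (degOneι 𝒮) U
  refine ⟨⟨T.image pre, ?_⟩⟩
  rw [eq_top_iff]
  intro y _
  obtain ⟨c, hc⟩ := hspan (toR 𝒮 ((degOneι 𝒮).app U y)) (degOneι_mem 𝒮 U hU y)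
  have hy : y = ∑ t ∈ T, c t • pre t := by
    apply hinj
    have h1 : ∀ (a : Γ(Y, U)) (m : Γ(degOne 𝒮, U)),
        toR 𝒮 ((degOneι 𝒮).app U (a • m)) =
          (𝒮.str.app (op U)).hom a * toR 𝒮 ((degOneι 𝒮).app U m) :=
      fun a m => Groth.Agent.Helper13SymAlg.φAdd_smul (degOne 𝒮) 𝒮.toQCAlg (degOneι 𝒮) U a m
    have h2 : toR 𝒮 ((degOneι 𝒮).app U (∑ t ∈ T, c t • pre t)) =
        ∑ t ∈ T, (𝒮.str.app (op U)).hom (c t) * t := by
      have h3 : toR 𝒮 ((degOneι 𝒮).app U (∑ t ∈ T, c t • pre t)) =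
          ∑ t ∈ T, toR 𝒮 ((degOneι 𝒮).app U (c t • pre t)) :=
        map_sum (Groth.Agent.Helper13SymAlg.φAdd (degOne 𝒮) 𝒮.toQCAlg (degOneι 𝒮) U) _ _
      rw [h3]
      refine Finset.sum_congr rfl (fun t ht => ?_)
      rw [h1, hpre t ht]
    exact hc.trans h2.symm
  rw [hy]
  refine Submodule.sum_mem _ (fun t ht => Submodule.smul_mem _ _ (Submodule.subset_span ?_))
  rw [Finset.coe_image]
  exact ⟨t, ht, rfl⟩

end degOne

section main

open Groth.Agent.Helper18DegOne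

/-- a closed subscheme of the projective bundle of a quasi-coherent module of finite type is projective over the base -/
theorem isProjective_of_closedImmersion_bundle {X Y P : Scheme.{u}} (f : X ⟶ Y) (E : Y.Modules)
    (hE : Coh.IsQCoh E) (hft : CohB1.IsFT E) (𝒯 : RelProj.QCGrAlg Y) (j : E ⟶ 𝒯.toModule)
    (hj : RelProj.IsGrSymAlg E 𝒯 j) (p : P ⟶ Y)
    (chart : ∀ (U : Y.Opens) (hU : IsAffineOpen U),
      ((p ⁻¹ᵁ U : P.Opens) : Scheme.{u}) ≅ Proj (𝒯.deg U hU))
    (hP : RelProj.IsRelProj 𝒯 p chart) (i : X ⟶ P) [IsClosedImmersion i] (hi : i ≫ p = f) :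
    RelProj.IsProjective f := by
  rw [← hi]
  exact Groth.Agent.Helper18KD.isProjective_of_isClosedImmersion 𝒯 hP
    (Groth.Agent.Helper18VAmp.isGenDegOne_of_isGrSymAlg E hE 𝒯 j hj)
    (isFTDeg_one_of_isGrSymAlg E hE 𝒯 j hj hft) i

/-- a projective morphism factors through a closed immersion into the projective bundle of a quasi-coherent module of
finite type -/
theorem exists_closedImmersion_bundle {X Y : Scheme.{u}} (f : X ⟶ Y) (hf : RelProj.IsProjective f) :
    ∃ (E : Y.Modules) (𝒯 : RelProj.QCGrAlg Y) (j : E ⟶ 𝒯.toModule) (P : Scheme.{u}) (p : P ⟶ Y)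
      (chart : ∀ (U : Y.Opens) (hU : IsAffineOpen U),
        ((p ⁻¹ᵁ U : P.Opens) : Scheme.{u}) ≅ Proj (𝒯.deg U hU))
      (i : X ⟶ P),
      Coh.IsQCoh E ∧ CohB1.IsFT E ∧ RelProj.IsGrSymAlg E 𝒯 j ∧ RelProj.IsRelProj 𝒯 p chart ∧
        IsClosedImmersion i ∧ i ≫ p = f := by
  obtain ⟨𝒮, Q, q, chartQ, e, h𝒮, hft, hQ, he⟩ := hf
  have hE : Coh.IsQCoh (degOne 𝒮) := inferInstanceAs (degOne 𝒮).IsQuasicoherent
  obtain ⟨𝒯, jT, hT⟩ := Groth.Agent.Helper18GrSym.exists_isGrSymAlg (degOne 𝒮) hE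
  have hPT := Groth.Agent.Helper13ProjBC.isRelProj_relProj 𝒯
  obtain ⟨h, hh⟩ := Groth.Agent.Helper13RelProj.exists_relProjMap (symToAlg 𝒮 𝒯 jT hT)
    (isGradedHom_symToAlg 𝒮 𝒯 jT hT) (symToAlg_hirr 𝒮 𝒯 jT hT h𝒮) hPT hQ
  have hci : IsClosedImmersion h := by
    apply Groth.Agent.Lib.Helper27RelProj4.relProjMap_of_charts (P := @IsClosedImmersion)
      (symToAlg 𝒮 𝒯 jT hT) (isGradedHom_symToAlg 𝒮 𝒯 jT hT) (symToAlg_hirr 𝒮 𝒯 jT hT h𝒮) hPT hQ hh
    intro U hU
    exact Groth.Agent.Helper13RelProj.isClosedImmersion_map_of_surjective_pos _ _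
      (symToAlg_surj_pos 𝒮 𝒯 jT hT h𝒮 U hU)
  have hover : h ≫ Groth.Agent.Helper13ProjBC.relProjπ 𝒯 = q :=
    Groth.Agent.Lib.Helper27RelProj4.relProjMap_over (symToAlg 𝒮 𝒯 jT hT)
      (isGradedHom_symToAlg 𝒮 𝒯 jT hT) (symToAlg_hirr 𝒮 𝒯 jT hT h𝒮) hPT hQ hh
  refine ⟨degOne 𝒮, 𝒯, jT, _, _, _, e.hom ≫ h, hE, isFT_degOne 𝒮 hft, hT, hPT, inferInstance, ?_⟩
  rw [Category.assoc, hover, he]

end main

end Groth.Agent.Helper18KE
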