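import Mathlib
import Groth.Prelude.Def_RelProj4
import Groth.Agent.Lib.Helper2RelTwistPullback
import Groth.Agent.Lib.Helper13ProjBC3

/-!
# Base change of the twisting sheaves of a relative Proj (helper18)

`h^* O_P(n) ≅ O_{P'}(n)` for a morphism `h : P' ⟶ P` of relative Proj's over `ψ : Y' ⟶ Y` which is chartwise
`Proj.map` of graded homomorphisms `𝒮(U) → 𝒮'(U')`. Adapted from helper2's `Helper2RelTwistPullback` (same base).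
-/

set_option autoImplicit false
universe u
open CategoryTheory Limits AlgebraicGeometry TopologicalSpace Opposite
open scoped HomogeneousIdeal

namespace Groth.Agent.Helper18TwistBC

open Groth.Agent.Lib.Helper2GrModSect
open Groth.Agent.Lib.Helper2.RelTildeQCoh Groth.Agent.Lib.Helper23.SecTw Groth.Agent.Lib.Helper6
  Groth.Agent.Lib.Helper2.Push Groth.Agent.Lib.Helper2.RelTwistGen Groth.Agent.Lib.Helper2.IsGenCover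
  Groth.Agent.Lib.Helper2.RelTwistTriv Groth.Agent.Lib.Helper2.RelTwistTensor RelProj
  Groth.Agent.Lib.Helper23.GenLocus Groth.Agent.Lib.Helper2.RelTwistInv Groth.Agent.Lib.Helper23.PB
  Groth.Agent.Helper13PullbackUnit Groth.Agent.Lib.Helper2.RelTwistPullback

section common

variable {Y Y' : Scheme.{u}} (ψ : Y' ⟶ Y)

/-- a common basic open of two affine opens upstairs, lying over a common basic open of two affine opens downstairs. -/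
theorem exists_common_basic {U₁ U₂ : Y.Opens} (hU₁ : IsAffineOpen U₁) (hU₂ : IsAffineOpen U₂)
    {U'₁ U'₂ : Y'.Opens} (hU'₁ : IsAffineOpen U'₁) (hU'₂ : IsAffineOpen U'₂)
    (hle₁ : U'₁ ≤ ψ ⁻¹ᵁ U₁) (hle₂ : U'₂ ≤ ψ ⁻¹ᵁ U₂) (y' : Y') (hy' : y' ∈ U'₁ ⊓ U'₂) :
    ∃ (r : Γ(Y, U₁)) (r₂ : Γ(Y, U₂)) (t : Γ(Y', U'₁)) (t₂ : Γ(Y', U'₂)),
      Y.basicOpen r = Y.basicOpen r₂ ∧ Y'.basicOpen t = Y'.basicOpen t₂ ∧ y' ∈ Y'.basicOpen t ∧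
        Y'.basicOpen t ≤ ψ ⁻¹ᵁ (Y.basicOpen r) := by
  obtain ⟨r, r₂, hrr, hx⟩ := exists_basicOpen_le_affine_inter hU₁ hU₂ (ψ y') ⟨hle₁ hy'.1, hle₂ hy'.2⟩
  obtain ⟨s, s₂, hss, hx'⟩ := exists_basicOpen_le_affine_inter hU'₁ hU'₂ y' hy'
  refine ⟨r, r₂, s * ψ.appLE U₁ U'₁ hle₁ r, s₂ * ψ.appLE U₂ U'₂ hle₂ r₂, hrr, ?_, ?_, ?_⟩
  · rw [Scheme.basicOpen_mul, Scheme.basicOpen_mul, Scheme.basicOpen_appLE, Scheme.basicOpen_appLE,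
      ← hrr, ← hss]
    apply le_antisymm
    · exact le_inf inf_le_left (le_inf ((inf_le_left.trans (hss ▸ Y'.basicOpen_le s₂))) (inf_le_right.trans inf_le_right))
    · exact le_inf inf_le_left (le_inf ((inf_le_left.trans (Y'.basicOpen_le s))) (inf_le_right.trans inf_le_right))
  · rw [Scheme.basicOpen_mul, Scheme.basicOpen_appLE]
    exact ⟨hx', hy'.1, hx⟩
  · rw [Scheme.basicOpen_mul, Scheme.basicOpen_appLE]
    exact inf_le_right.trans inf_le_right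

end common

section rel

variable {Y Y' P P' : Scheme.{u}} (ψ : Y' ⟶ Y) {𝒮 : RelProj.QCGrAlg Y} {𝒮' : RelProj.QCGrAlg Y'}
  (φ : ∀ (U : Y.Opens) (hU : IsAffineOpen U) (U' : Y'.Opens) (hU' : IsAffineOpen U') (_ : U' ≤ ψ ⁻¹ᵁ U),
    𝒮.deg U hU →+*ᵍ 𝒮'.deg U' hU')
  (hirr : ∀ (U : Y.Opens) (hU : IsAffineOpen U) (U' : Y'.Opens) (hU' : IsAffineOpen U') (hle : U' ≤ ψ ⁻¹ᵁ U),
    (𝒮'.deg U' hU')₊ ≤ ((𝒮.deg U hU)₊).map (φ U hU U' hU' hle))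
  (hφres : ∀ {U V : Y.Opens} (hU : IsAffineOpen U) (hV : IsAffineOpen V) (i : V ≤ U)
    {U' V' : Y'.Opens} (hU' : IsAffineOpen U') (hV' : IsAffineOpen V') (i' : V' ≤ U')
    (hle : U' ≤ ψ ⁻¹ᵁ U) (hle' : V' ≤ ψ ⁻¹ᵁ V) (x : 𝒮.presheaf.obj (op U)),
    φ V hV V' hV' hle' (𝒮.res hU hV i x) = 𝒮'.res hU' hV' i' (φ U hU U' hU' hle x))
  (p : P ⟶ Y) (p' : P' ⟶ Y')
  (chart : ∀ (U : Y.Opens) (hU : IsAffineOpen U), (((p ⁻¹ᵁ U : P.Opens) : Scheme.{u}) ≅ Proj (𝒮.deg U hU)))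
  (chart' : ∀ (U' : Y'.Opens) (hU' : IsAffineOpen U'),
    (((p' ⁻¹ᵁ U' : P'.Opens) : Scheme.{u}) ≅ Proj (𝒮'.deg U' hU')))
  (h : P' ⟶ P)
  (hh : ∀ (U : Y.Opens) (hU : IsAffineOpen U) (U' : Y'.Opens) (hU' : IsAffineOpen U') (hle : U' ≤ ψ ⁻¹ᵁ U),
    RelProj.emb p' chart' U' hU' ≫ h =
      Proj.map (φ U hU U' hU' hle) (hirr U hU U' hU' hle) ≫ RelProj.emb p chart U hU)

include hh in
theorem emb_comp_apply (U : Y.Opens) (hU : IsAffineOpen U) (U' : Y'.Opens) (hU' : IsAffineOpen U')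
    (hle : U' ≤ ψ ⁻¹ᵁ U) (y : ProjectiveSpectrum (𝒮'.deg U' hU')) :
    h (RelProj.emb p' chart' U' hU' y) =
      RelProj.emb p chart U hU
        (ProjectiveSpectrum.comap (φ U hU U' hU' hle) (hirr U hU U' hU' hle) y) := by
  rw [← Scheme.Hom.comp_apply, hh U hU U' hU' hle]
  rfl

section transition

variable (n : ℤ) (L : P.Modules)
  (lam : ∀ (U : Y.Opens) (hU : IsAffineOpen U),
    L ⟶ (Scheme.Modules.pushforward (RelProj.emb p chart U hU)).obj (GrTwist.twist (𝒮.deg U hU) n))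
  (hL : RelProj.IsRelTwist 𝒮 p chart n L lam) (L' : P'.Modules)
  (lam' : ∀ (U' : Y'.Opens) (hU' : IsAffineOpen U'),
    L' ⟶ (Scheme.Modules.pushforward (RelProj.emb p' chart' U' hU')).obj (GrTwist.twist (𝒮'.deg U' hU') n))
  (hL' : RelProj.IsRelTwist 𝒮' p' chart' n L' lam')

include hL hL' hφres hh in
/-- the transition functions of the frames of `O_{P'}(n)` reading `φ a / φ b` are the pullbacks of those of the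
frames of `O_P(n)` reading `a / b`. -/
theorem pullback_transition (hP : RelProj.IsRelProj 𝒮 p chart) (hP' : RelProj.IsRelProj 𝒮' p' chart')
    (U₁ : Y.Opens) (hU₁ : IsAffineOpen U₁) (U₂ : Y.Opens) (hU₂ : IsAffineOpen U₂)
    (U'₁ : Y'.Opens) (hU'₁ : IsAffineOpen U'₁) (hle₁ : U'₁ ≤ ψ ⁻¹ᵁ U₁)
    (U'₂ : Y'.Opens) (hU'₂ : IsAffineOpen U'₂) (hle₂ : U'₂ ≤ ψ ⁻¹ᵁ U₂)
    (V₁ V₂ : P.Opens) (a₁ b₁ : 𝒮.presheaf.obj (op U₁)) (a₂ b₂ : 𝒮.presheaf.obj (op U₂))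
    (hb₁ : ∀ y : ((RelProj.emb p chart U₁ hU₁) ⁻¹ᵁ V₁ : (Proj (𝒮.deg U₁ hU₁)).Opens),
      b₁ ∉ y.1.asHomogeneousIdeal)
    (hb₂ : ∀ y : ((RelProj.emb p chart U₂ hU₂) ⁻¹ᵁ V₂ : (Proj (𝒮.deg U₂ hU₂)).Opens),
      b₂ ∉ y.1.asHomogeneousIdeal)
    (e₁ : Γ(L, V₁))
    (he₁ : ∀ y : ((RelProj.emb p chart U₁ hU₁) ⁻¹ᵁ V₁ : (Proj (𝒮.deg U₁ hU₁)).Opens),
      GrTwist.val (V := RelProj.emb p chart U₁ hU₁ ⁻¹ᵁ V₁) ((lam U₁ hU₁).app V₁ e₁) y =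
        Localization.mk a₁ ⟨b₁, hb₁ y⟩)
    (e₂ : Γ(L, V₂))
    (he₂ : ∀ y : ((RelProj.emb p chart U₂ hU₂) ⁻¹ᵁ V₂ : (Proj (𝒮.deg U₂ hU₂)).Opens),
      GrTwist.val (V := RelProj.emb p chart U₂ hU₂ ⁻¹ᵁ V₂) ((lam U₂ hU₂).app V₂ e₂) y =
        Localization.mk a₂ ⟨b₂, hb₂ y⟩)
    (W₁ W₂ : P'.Opens) (hW₁ : W₁ ≤ p' ⁻¹ᵁ U'₁) (hW₂ : W₂ ≤ p' ⁻¹ᵁ U'₂)
    (hb'₁ : ∀ y : ((RelProj.emb p' chart' U'₁ hU'₁) ⁻¹ᵁ W₁ : (Proj (𝒮'.deg U'₁ hU'₁)).Opens),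
      φ U₁ hU₁ U'₁ hU'₁ hle₁ b₁ ∉ y.1.asHomogeneousIdeal)
    (hb'₂ : ∀ y : ((RelProj.emb p' chart' U'₂ hU'₂) ⁻¹ᵁ W₂ : (Proj (𝒮'.deg U'₂ hU'₂)).Opens),
      φ U₂ hU₂ U'₂ hU'₂ hle₂ b₂ ∉ y.1.asHomogeneousIdeal)
    (e'₁ : Γ(L', W₁))
    (he'₁ : ∀ y : ((RelProj.emb p' chart' U'₁ hU'₁) ⁻¹ᵁ W₁ : (Proj (𝒮'.deg U'₁ hU'₁)).Opens),
      GrTwist.val (V := RelProj.emb p' chart' U'₁ hU'₁ ⁻¹ᵁ W₁) ((lam' U'₁ hU'₁).app W₁ e'₁) y =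
        Localization.mk (φ U₁ hU₁ U'₁ hU'₁ hle₁ a₁) ⟨φ U₁ hU₁ U'₁ hU'₁ hle₁ b₁, hb'₁ y⟩)
    (e'₂ : Γ(L', W₂))
    (he'₂ : ∀ y : ((RelProj.emb p' chart' U'₂ hU'₂) ⁻¹ᵁ W₂ : (Proj (𝒮'.deg U'₂ hU'₂)).Opens),
      GrTwist.val (V := RelProj.emb p' chart' U'₂ hU'₂ ⁻¹ᵁ W₂) ((lam' U'₂ hU'₂).app W₂ e'₂) y =
        Localization.mk (φ U₂ hU₂ U'₂ hU'₂ hle₂ a₂) ⟨φ U₂ hU₂ U'₂ hU'₂ hle₂ b₂, hb'₂ y⟩)
    (O : P.Opens) (hO₁ : O ≤ V₁) (hO₂ : O ≤ V₂) (γ : Γ(P, O))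
    (H : res L hO₁ e₁ = γ • res L hO₂ e₂)
    (O' : P'.Opens) (hO'₁ : O' ≤ W₁) (hO'₂ : O' ≤ W₂) (hO' : O' ≤ h ⁻¹ᵁ O) :
    res L' hO'₁ e'₁ = h.appLE O O' hO' γ • res L' hO'₂ e'₂ := by
  have key : ∀ x : O', ∃ (O'' : P'.Opens) (hO'' : O'' ≤ O'), x.1 ∈ O'' ∧
      res L' hO'' (res L' hO'₁ e'₁) = res L' hO'' (h.appLE O O' hO' γ • res L' hO'₂ e'₂) := by
    intro x
    obtain ⟨r, r₂, t, t₂, hrr, htt, hxt, htr⟩ := exists_common_basic ψ hU₁ hU₂ hU'₁ hU'₂ hle₁ hle₂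
      (p' x.1) ⟨hW₁ (hO'₁ x.2), hW₂ (hO'₂ x.2)⟩
    have hD : IsAffineOpen (Y.basicOpen r) := hU₁.basicOpen r
    have hD' : IsAffineOpen (Y'.basicOpen t) := hU'₁.basicOpen t
    have hleD₂ : Y.basicOpen r ≤ U₂ := hrr ▸ Y.basicOpen_le r₂
    have hleD'₂ : Y'.basicOpen t ≤ U'₂ := htt ▸ Y'.basicOpen_le t₂
    refine ⟨O' ⊓ p' ⁻¹ᵁ (Y'.basicOpen t), inf_le_left, ⟨x.2, hxt⟩, ?_⟩
    rw [res_res, res_smul, res_res]
    apply (hL'.bijective (Y'.basicOpen t) hD' _ inf_le_right).1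
    apply twist_ext
    intro y''
    -- the point of `Proj 𝒮(D(r))` below `y''`
    have hxA : (RelProj.emb p chart (Y.basicOpen r) hD)
        (ProjectiveSpectrum.comap (φ (Y.basicOpen r) hD (Y'.basicOpen t) hD' htr)
          (hirr _ hD _ hD' htr) y''.1) ∈ O ⊓ p ⁻¹ᵁ (Y.basicOpen r) := by
      rw [← emb_comp_apply ψ φ hirr p p' chart chart' h hh _ hD _ hD' htr]
      refine ⟨hO' y''.2.1, ?_⟩
      rw [emb_comp_apply ψ φ hirr p p' chart chart' h hh _ hD _ hD' htr]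
      exact image_emb_le p chart _ hD ⊤ ⟨_, trivial, rfl⟩
    obtain ⟨hβ₁, v1⟩ := val_lam_res p' chart' n L' lam' hL' hP' U'₁ hU'₁ t (Y'.basicOpen t) hD'
      rfl (Y'.basicOpen_le t) W₁ e'₁ _ _ hb'₁ he'₁ (O' ⊓ p' ⁻¹ᵁ (Y'.basicOpen t)) (inf_le_left.trans hO'₁)
      y''.1 y''.2
    obtain ⟨hβ₂, v2⟩ := val_lam_res p' chart' n L' lam' hL' hP' U'₂ hU'₂ t₂ (Y'.basicOpen t) hD'
      htt hleD'₂ W₂ e'₂ _ _ hb'₂ he'₂ (O' ⊓ p' ⁻¹ᵁ (Y'.basicOpen t)) (inf_le_left.trans hO'₂)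
      y''.1 y''.2
    obtain ⟨hα₁, w1⟩ := val_lam_res p chart n L lam hL hP U₁ hU₁ r (Y.basicOpen r) hD
      rfl (Y.basicOpen_le r) V₁ e₁ a₁ b₁ hb₁ he₁ (O ⊓ p ⁻¹ᵁ (Y.basicOpen r)) (inf_le_left.trans hO₁)
      _ hxA
    obtain ⟨hα₂, w2⟩ := val_lam_res p chart n L lam hL hP U₂ hU₂ r₂ (Y.basicOpen r) hD
      hrr hleD₂ V₂ e₂ a₂ b₂ hb₂ he₂ (O ⊓ p ⁻¹ᵁ (Y.basicOpen r)) (inf_le_left.trans hO₂)
      _ hxA
    -- the pulled back function, restricted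
    have hO''A : O' ⊓ p' ⁻¹ᵁ (Y'.basicOpen t) ≤ h ⁻¹ᵁ (O ⊓ p ⁻¹ᵁ (Y.basicOpen r)) := by
      intro z hz
      refine ⟨hO' hz.1, ?_⟩
      obtain ⟨y, hy⟩ := le_opensRange_emb p' chart' (Y'.basicOpen t) hD' hz.2
      have hy' : (RelProj.emb p' chart' (Y'.basicOpen t) hD') y = z := hy
      change h z ∈ p ⁻¹ᵁ (Y.basicOpen r)
      rw [← hy', emb_comp_apply ψ φ hirr p p' chart chart' h hh _ hD _ hD' htr]
      exact image_emb_le p chart _ hD ⊤ ⟨_, trivial, rfl⟩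
    have hc : resf (inf_le_left : O' ⊓ p' ⁻¹ᵁ (Y'.basicOpen t) ≤ O') (h.appLE O O' hO' γ) =
        h.appLE (O ⊓ p ⁻¹ᵁ (Y.basicOpen r)) (O' ⊓ p' ⁻¹ᵁ (Y'.basicOpen t)) hO''A
          (resf (inf_le_left : O ⊓ p ⁻¹ᵁ (Y.basicOpen r) ≤ O) γ) := by
      have h1 := congrArg (fun f => f.hom γ)
        (Scheme.Hom.appLE_map h hO' (homOfLE (inf_le_left : O' ⊓ p' ⁻¹ᵁ (Y'.basicOpen t) ≤ O')).op)
      have h2 := congrArg (fun f => f.hom γ)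
        (Scheme.Hom.map_appLE h hO''A (homOfLE (inf_le_left : O ⊓ p ⁻¹ᵁ (Y.basicOpen r) ≤ O)).op)
      exact h1.trans h2.symm
    have hfv := funVal_pullback (φ (Y.basicOpen r) hD (Y'.basicOpen t) hD' htr)
      (hirr _ hD _ hD' htr) h (RelProj.emb p chart (Y.basicOpen r) hD)
      (RelProj.emb p' chart' (Y'.basicOpen t) hD')
      (hh _ hD _ hD' htr)
      (O ⊓ p ⁻¹ᵁ (Y.basicOpen r)) (resf (inf_le_left : O ⊓ p ⁻¹ᵁ (Y.basicOpen r) ≤ O) γ)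
      (O' ⊓ p' ⁻¹ᵁ (Y'.basicOpen t)) hO''A y''.1 y''.2 hxA
    -- the `𝒮`-side identity
    have H' := congrArg (res L (inf_le_left : O ⊓ p ⁻¹ᵁ (Y.basicOpen r) ≤ O)) H
    rw [res_smul, res_res, res_res] at H'
    have H'' := congrArg (fun σ => GrTwist.val
      (V := RelProj.emb p chart (Y.basicOpen r) hD ⁻¹ᵁ (O ⊓ p ⁻¹ᵁ (Y.basicOpen r)))
      ((lam (Y.basicOpen r) hD).app (O ⊓ p ⁻¹ᵁ (Y.basicOpen r)) σ) ⟨_, hxA⟩) H'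
    simp only at H''
    have hsmA : GrTwist.val
        (V := RelProj.emb p chart (Y.basicOpen r) hD ⁻¹ᵁ (O ⊓ p ⁻¹ᵁ (Y.basicOpen r)))
        ((lam (Y.basicOpen r) hD).app (O ⊓ p ⁻¹ᵁ (Y.basicOpen r))
          (resf (inf_le_left : O ⊓ p ⁻¹ᵁ (Y.basicOpen r) ≤ O) γ •
            res L (inf_le_left.trans hO₂) e₂)) ⟨_, hxA⟩ =
        (funVal (𝒮.deg (Y.basicOpen r) hD) _
          ((RelProj.emb p chart (Y.basicOpen r) hD).app _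
            (resf (inf_le_left : O ⊓ p ⁻¹ᵁ (Y.basicOpen r) ≤ O) γ)) _ hxA).val *
        GrTwist.val
          (V := RelProj.emb p chart (Y.basicOpen r) hD ⁻¹ᵁ (O ⊓ p ⁻¹ᵁ (Y.basicOpen r)))
          ((lam (Y.basicOpen r) hD).app (O ⊓ p ⁻¹ᵁ (Y.basicOpen r))
            (res L (inf_le_left.trans hO₂) e₂)) ⟨_, hxA⟩ := by
      rw [Scheme.Modules.Hom.app_smul, Groth.Agent.Lib.Helper2.Push.pushforward_smul]
      rfl
    have hsmB : GrTwist.val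
        (V := RelProj.emb p' chart' (Y'.basicOpen t) hD' ⁻¹ᵁ (O' ⊓ p' ⁻¹ᵁ (Y'.basicOpen t)))
        ((lam' (Y'.basicOpen t) hD').app (O' ⊓ p' ⁻¹ᵁ (Y'.basicOpen t))
          (resf (inf_le_left : O' ⊓ p' ⁻¹ᵁ (Y'.basicOpen t) ≤ O') (h.appLE O O' hO' γ) •
            res L' (inf_le_left.trans hO'₂) e'₂)) y'' =
        (funVal (𝒮'.deg (Y'.basicOpen t) hD') _
          ((RelProj.emb p' chart' (Y'.basicOpen t) hD').app _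
            (resf (inf_le_left : O' ⊓ p' ⁻¹ᵁ (Y'.basicOpen t) ≤ O') (h.appLE O O' hO' γ))) y''.1 y''.2).val *
        GrTwist.val
          (V := RelProj.emb p' chart' (Y'.basicOpen t) hD' ⁻¹ᵁ (O' ⊓ p' ⁻¹ᵁ (Y'.basicOpen t)))
          ((lam' (Y'.basicOpen t) hD').app (O' ⊓ p' ⁻¹ᵁ (Y'.basicOpen t))
            (res L' (inf_le_left.trans hO'₂) e'₂)) y'' := by
      rw [Scheme.Modules.Hom.app_smul, Groth.Agent.Lib.Helper2.Push.pushforward_smul]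
      rfl
    rw [w1, hsmA, w2] at H''
    rw [v1, hsmB, v2, hc, hfv]
    have H3 := congrArg (GrTwist.locMap (φ (Y.basicOpen r) hD (Y'.basicOpen t) hD' htr)
      (hirr _ hD _ hD' htr) y''.1) H''
    rw [map_mul, GrTwist.locMap_mk, GrTwist.locMap_mk] at H3
    rw [← mk_congr _ (hφres hU₁ hD (Y.basicOpen_le r) hU'₁ hD' (Y'.basicOpen_le t) hle₁ htr a₁)
      (hφres hU₁ hD (Y.basicOpen_le r) hU'₁ hD' (Y'.basicOpen_le t) hle₁ htr b₁) _ hβ₁,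
      ← mk_congr _ (hφres hU₂ hD hleD₂ hU'₂ hD' hleD'₂ hle₂ htr a₂)
      (hφres hU₂ hD hleD₂ hU'₂ hD' hleD'₂ hle₂ htr b₂) _ hβ₂]
    exact H3
  choose O'' hO'' hxO'' hres using key
  refine (modSheaf L').eq_of_locally_eq' (fun x : O' => O'' x) _ (fun x => homOfLE (hO'' x)) ?_ _ _ hres
  intro x hx'
  exact Opens.mem_iSup.mpr ⟨⟨x, hx'⟩, hxO'' _⟩

end transition

section main

variable (n : ℤ) (L : P.Modules)
  (lam : ∀ (U : Y.Opens) (hU : IsAffineOpen U),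
    L ⟶ (Scheme.Modules.pushforward (RelProj.emb p chart U hU)).obj (GrTwist.twist (𝒮.deg U hU) n))
  (hL : RelProj.IsRelTwist 𝒮 p chart n L lam) (L' : P'.Modules)
  (lam' : ∀ (U' : Y'.Opens) (hU' : IsAffineOpen U'),
    L' ⟶ (Scheme.Modules.pushforward (RelProj.emb p' chart' U' hU')).obj (GrTwist.twist (𝒮'.deg U' hU') n))
  (hL' : RelProj.IsRelTwist 𝒮' p' chart' n L' lam')

/-- index of the frames upstairs: a degree-one frame downstairs and an affine open of `Y'` over its base. -/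
abbrev JIdx (ψ : Y' ⟶ Y) (𝒮 : RelProj.QCGrAlg Y) : Type u :=
  Σ i : Idx 𝒮, {U' : Y'.affineOpens // U'.1 ≤ ψ ⁻¹ᵁ i.1.1}

include hL hL' hφres hh in
/-- `h^* O_P(n) ≅ O_{P'}(n)` for a morphism `h : P' ⟶ P` of relative Proj's over `ψ : Y' ⟶ Y` which is chartwise
`Proj.map` of graded homomorphisms `φ : 𝒮(U) → 𝒮'(U')`, when `𝒮` is generated in degree one. -/
theorem nonempty_pullback_iso (hP : RelProj.IsRelProj 𝒮 p chart) (hP' : RelProj.IsRelProj 𝒮' p' chart')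
    (hgen : 𝒮.IsGenDegOne) :
    Nonempty ((Scheme.Modules.pullback h).obj L ≅ L') := by
  have hpq : ((n.toNat : ℕ) : ℤ) = ((-n).toNat : ℕ) + n := by omega
  generalize n.toNat = pp at hpq
  generalize (-n).toNat = qq at hpq
  have hT : ∀ (U : Y.Opens) (hU : IsAffineOpen U),
      (GrTwist.twist (𝒮.deg U hU) n).IsQuasicoherent := by
    intro U hU
    have h0 : GrMod.tilde (𝒮.deg U hU) (𝒮.deg U hU) n = GrTwist.twist (𝒮.deg U hU) n := rfl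
    rw [← h0]
    exact Groth.Agent.Lib.Helper2GrModSect.isQuasicoherent_tilde (𝒮.deg U hU) (𝒮.deg U hU) n
  have : L.IsQuasicoherent := isQuasicoherent_of_relCharts p chart L
    (fun U hU => GrTwist.twist (𝒮.deg U hU) n) hT lam hL.bijective
  -- frames of `O_P(n)`
  have hWA : ∀ (i : Idx 𝒮) (k : ℕ)
      (y : ((RelProj.emb p chart i.1.1 i.1.2) ⁻¹ᵁ (VF p chart i) : (Proj (𝒮.deg i.1.1 i.1.2)).Opens)),
      i.2.1 ^ k ∉ y.1.asHomogeneousIdeal :=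
    fun i k y hmem => not_mem_of_mem_VF p chart i y.1 y.2 (y.1.isPrime.mem_of_pow_mem _ hmem)
  have hfrA : ∀ i : Idx 𝒮, ∃ e : Γ(L, VF p chart i), IsGen L (VF p chart i) e ∧
      ∀ y : ((RelProj.emb p chart i.1.1 i.1.2) ⁻¹ᵁ (VF p chart i) : (Proj (𝒮.deg i.1.1 i.1.2)).Opens),
        GrTwist.val (V := RelProj.emb p chart i.1.1 i.1.2 ⁻¹ᵁ (VF p chart i))
          ((lam i.1.1 i.1.2).app (VF p chart i) e) y =
            Localization.mk (i.2.1 ^ pp) ⟨i.2.1 ^ qq, hWA i qq y⟩ :=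
    fun i => exists_frame p chart n L lam hL i.1.1 i.1.2 (VF p chart i) (VF_le p chart i)
      (pow_mem_one i.2.2 pp) (pow_mem_one i.2.2 qq) hpq (hWA i pp) (hWA i qq)
  choose EA hEA vEA using hfrA
  -- frames of `O_{P'}(n)`
  have hWB : ∀ (j : JIdx ψ 𝒮) (k : ℕ)
      (y : ((RelProj.emb p' chart' j.2.1.1 j.2.1.2) ⁻¹ᵁ (h ⁻¹ᵁ (VF p chart j.1) ⊓ p' ⁻¹ᵁ j.2.1.1) :
        (Proj (𝒮'.deg j.2.1.1 j.2.1.2)).Opens)),
      φ j.1.1.1 j.1.1.2 j.2.1.1 j.2.1.2 j.2.2 (j.1.2.1 ^ k) ∉ y.1.asHomogeneousIdeal := by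
    intro j k y hmem
    have h1 : h ((RelProj.emb p' chart' j.2.1.1 j.2.1.2) y.1) ∈ VF p chart j.1 := y.2.1
    rw [emb_comp_apply ψ φ hirr p p' chart chart' h hh _ j.1.1.2 _ j.2.1.2 j.2.2] at h1
    have h2 := not_mem_of_mem_VF p chart j.1 _ h1
    apply h2
    apply (ProjectiveSpectrum.comap (φ j.1.1.1 j.1.1.2 j.2.1.1 j.2.1.2 j.2.2)
      (hirr _ j.1.1.2 _ j.2.1.2 j.2.2) y.1).isPrime.mem_of_pow_mem k
    exact hmem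
  have hfrB : ∀ j : JIdx ψ 𝒮, ∃ e : Γ(L', h ⁻¹ᵁ (VF p chart j.1) ⊓ p' ⁻¹ᵁ j.2.1.1),
      IsGen L' (h ⁻¹ᵁ (VF p chart j.1) ⊓ p' ⁻¹ᵁ j.2.1.1) e ∧
      ∀ y : ((RelProj.emb p' chart' j.2.1.1 j.2.1.2) ⁻¹ᵁ (h ⁻¹ᵁ (VF p chart j.1) ⊓ p' ⁻¹ᵁ j.2.1.1) :
          (Proj (𝒮'.deg j.2.1.1 j.2.1.2)).Opens),
        GrTwist.val (V := RelProj.emb p' chart' j.2.1.1 j.2.1.2 ⁻¹ᵁ (h ⁻¹ᵁ (VF p chart j.1) ⊓ p' ⁻¹ᵁ j.2.1.1))
          ((lam' j.2.1.1 j.2.1.2).app (h ⁻¹ᵁ (VF p chart j.1) ⊓ p' ⁻¹ᵁ j.2.1.1) e) y =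
            Localization.mk (φ j.1.1.1 j.1.1.2 j.2.1.1 j.2.1.2 j.2.2 (j.1.2.1 ^ pp))
              ⟨φ j.1.1.1 j.1.1.2 j.2.1.1 j.2.1.2 j.2.2 (j.1.2.1 ^ qq), hWB j qq y⟩ :=
    fun j => exists_frame p' chart' n L' lam' hL' j.2.1.1 j.2.1.2
      (h ⁻¹ᵁ (VF p chart j.1) ⊓ p' ⁻¹ᵁ j.2.1.1) inf_le_right
      ((φ j.1.1.1 j.1.1.2 j.2.1.1 j.2.1.2 j.2.2).map_mem (pow_mem_one j.1.2.2 pp))
      ((φ j.1.1.1 j.1.1.2 j.2.1.1 j.2.1.2 j.2.2).map_mem (pow_mem_one j.1.2.2 qq)) hpq (hWB j pp) (hWB j qq)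
  choose EB hEB vEB using hfrB
  have haff : ∀ i : Idx 𝒮, IsAffineOpen (VF p chart i) := fun i =>
    (Proj.isAffineOpen_basicOpen (𝒮.deg i.1.1 i.1.2) i.2.1 i.2.2 one_pos).image_of_isOpenImmersion _
  have hgA : ∀ j : JIdx ψ 𝒮, IsGen ((Scheme.Modules.pullback h).obj L)
      (h ⁻¹ᵁ (VF p chart j.1) ⊓ p' ⁻¹ᵁ j.2.1.1)
      (res ((Scheme.Modules.pullback h).obj L) inf_le_left (unitSec h L le_rfl (EA j.1))) :=
    fun j => (isGen_unitSec h L (haff j.1) (EA j.1) (hEA j.1)).mono inf_le_left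
  obtain ⟨Φ, -⟩ := exists_iso_of_frames ((Scheme.Modules.pullback h).obj L) L'
    (fun j : JIdx ψ 𝒮 => h ⁻¹ᵁ (VF p chart j.1) ⊓ p' ⁻¹ᵁ j.2.1.1)
    (by
      intro x
      obtain ⟨U, hxU⟩ : ∃ U : Y.affineOpens, ψ (p' x) ∈ U.1 := by
        obtain ⟨_, ⟨U, hU, rfl⟩, hxU, -⟩ := (Y.isBasis_affineOpens).exists_subset_of_mem_open
          (Set.mem_univ (ψ (p' x))) isOpen_univ
        exact ⟨⟨U, hU⟩, hxU⟩
      obtain ⟨U', hxU', hU'le⟩ : ∃ U' : Y'.affineOpens, p' x ∈ U'.1 ∧ U'.1 ≤ ψ ⁻¹ᵁ U.1 := by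
        obtain ⟨_, ⟨U', hU', rfl⟩, hxU', hle⟩ := (Y'.isBasis_affineOpens).exists_subset_of_mem_open
          (show p' x ∈ ((ψ ⁻¹ᵁ U.1 : Y'.Opens) : Set Y') from hxU) (ψ ⁻¹ᵁ U.1).2
        exact ⟨⟨U', hU'⟩, hxU', hle⟩
      obtain ⟨y, hy⟩ := le_opensRange_emb p' chart' U'.1 U'.2 hxU'
      have hy' : (RelProj.emb p' chart' U'.1 U'.2) y = x := hy
      obtain ⟨t, ht, hty⟩ := exists_degOne_not_mem_of_gen (𝒮.deg U.1 U.2) (hgen U.1 U.2)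
        (ProjectiveSpectrum.comap (φ U.1 U.2 U'.1 U'.2 hU'le) (hirr U.1 U.2 U'.1 U'.2 hU'le) y)
      refine ⟨⟨⟨U, ⟨t, ht⟩⟩, ⟨U', hU'le⟩⟩, ?_, hxU'⟩
      change h x ∈ VF p chart ⟨U, ⟨t, ht⟩⟩
      rw [← hy', emb_comp_apply ψ φ hirr p p' chart chart' h hh _ U.2 _ U'.2 hU'le]
      exact ⟨_, (ProjectiveSpectrum.mem_basicOpen _ t _).mpr hty, rfl⟩)
    (fun j => res ((Scheme.Modules.pullback h).obj L) inf_le_left (unitSec h L le_rfl (EA j.1)))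
    EB hgA hEB
    (by
      intro i j
      obtain ⟨γ, hγ⟩ := exists_transition' (EA i.1) (hEA j.1)
      have hle : (h ⁻¹ᵁ (VF p chart i.1) ⊓ p' ⁻¹ᵁ i.2.1.1) ⊓ (h ⁻¹ᵁ (VF p chart j.1) ⊓ p' ⁻¹ᵁ j.2.1.1) ≤
          h ⁻¹ᵁ (VF p chart i.1 ⊓ VF p chart j.1) := fun z hz => ⟨hz.1.1, hz.2.1⟩
      refine cocycle_of_transition (hgA j)
        (h.appLE (VF p chart i.1 ⊓ VF p chart j.1) _ hle γ) ?_ ?_
      · rw [res_res, res_res,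
          res_unitSec h L le_rfl hle inf_le_left (inf_le_left.trans inf_le_left),
          res_unitSec h L le_rfl hle inf_le_right (inf_le_right.trans inf_le_left), hγ, unitSec_smul]
      · exact pullback_transition ψ φ hirr hφres p p' chart chart' h hh n L lam hL L' lam' hL' hP hP'
          i.1.1.1 i.1.1.2 j.1.1.1 j.1.1.2 i.2.1.1 i.2.1.2 i.2.2 j.2.1.1 j.2.1.2 j.2.2
          (VF p chart i.1) (VF p chart j.1) (i.1.2.1 ^ pp) (i.1.2.1 ^ qq)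
          (j.1.2.1 ^ pp) (j.1.2.1 ^ qq) (hWA i.1 qq) (hWA j.1 qq) (EA i.1) (vEA i.1) (EA j.1) (vEA j.1)
          _ _ inf_le_right inf_le_right (hWB i qq) (hWB j qq) (EB i) (vEB i) (EB j) (vEB j)
          (VF p chart i.1 ⊓ VF p chart j.1) inf_le_left inf_le_right γ hγ _ inf_le_left inf_le_right hle)
  exact ⟨Φ⟩

end main

end rel

section qmap

variable {Y Y' P P' : Scheme.{u}} {ψ : Y' ⟶ Y} {𝒮 : RelProj.QCGrAlg Y} {𝒮' : RelProj.QCGrAlg Y'}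
  (u : RelProj.QGrHom ψ 𝒮 𝒮')
  {p : P ⟶ Y} {p' : P' ⟶ Y'}
  {chart : ∀ (U : Y.Opens) (hU : IsAffineOpen U), (((p ⁻¹ᵁ U : P.Opens) : Scheme.{u}) ≅ Proj (𝒮.deg U hU))}
  {chart' : ∀ (U' : Y'.Opens) (hU' : IsAffineOpen U'),
    (((p' ⁻¹ᵁ U' : P'.Opens) : Scheme.{u}) ≅ Proj (𝒮'.deg U' hU'))}

theorem gradedAt_res {U V : Y.Opens} (hU : IsAffineOpen U) (hV : IsAffineOpen V) (i : V ≤ U)
    {U' V' : Y'.Opens} (hU' : IsAffineOpen U') (hV' : IsAffineOpen V') (i' : V' ≤ U')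
    (hle : U' ≤ ψ ⁻¹ᵁ U) (hle' : V' ≤ ψ ⁻¹ᵁ V) (x : 𝒮.presheaf.obj (op U)) :
    u.gradedAt V hV V' hV' hle' (𝒮.res hU hV i x) = 𝒮'.res hU' hV' i' (u.gradedAt U hU U' hU' hle x) := by
  have h1 := congrArg (fun f => f.hom x) (u.toQHom.map_appLE i hle')
  have h2 := congrArg (fun f => f.hom x) (u.toQHom.appLE_map hle i')
  exact h1.trans h2.symm

/-- `h^* O_P(n) ≅ O_{P'}(n)` for `h = Proj(u) : P' ⟶ P` over `ψ`, `𝒮' = ψ^*𝒮` and `𝒮` generated in degree one. -/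
theorem nonempty_pullback_iso_of_isProjQMap (hu : RelSpec.IsQBaseChange u.toQHom)
    {h : P' ⟶ P} (hh : RelProj.IsProjQMap u p chart p' chart' h)
    (hP : RelProj.IsRelProj 𝒮 p chart) (hP' : RelProj.IsRelProj 𝒮' p' chart')
    (hgen : 𝒮.IsGenDegOne) (n : ℤ) (L : P.Modules)
    (lam : ∀ (U : Y.Opens) (hU : IsAffineOpen U),
      L ⟶ (Scheme.Modules.pushforward (RelProj.emb p chart U hU)).obj (GrTwist.twist (𝒮.deg U hU) n))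
    (hL : RelProj.IsRelTwist 𝒮 p chart n L lam) (L' : P'.Modules)
    (lam' : ∀ (U' : Y'.Opens) (hU' : IsAffineOpen U'),
      L' ⟶ (Scheme.Modules.pushforward (RelProj.emb p' chart' U' hU')).obj (GrTwist.twist (𝒮'.deg U' hU') n))
    (hL' : RelProj.IsRelTwist 𝒮' p' chart' n L' lam') :
    Nonempty ((Scheme.Modules.pullback h).obj L ≅ L') :=
  nonempty_pullback_iso ψ (fun U hU U' hU' hle => u.gradedAt U hU U' hU' hle)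
    (Groth.Agent.Helper13ProjBC.hirr_of_isQBaseChange u hu)
    (fun hU hV i _ _ hU' hV' i' hle hle' x => gradedAt_res u hU hV i hU' hV' i' hle hle' x)
    p p' chart chart' h
    (fun U hU U' hU' hle => Groth.Agent.Helper13ProjBC.emb_comp_of_isProjQMap u hh U hU U' hU' hle _)
    n L lam hL L' lam' hL' hP hP' hgen

end qmap

end Groth.Agent.Helper18TwistBC
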