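import Mathlib
import Groth.Prelude.Def_RelProj4
import Groth.Agent.Lib.Helper18TwistBC
import Groth.Agent.Lib.Helper18SymBC
import Groth.Agent.Lib.Helper18GrSym
import Groth.Agent.Lib.Helper18VAmpC
import Groth.Agent.Lib.Helper13ProjExist
import Groth.Agent.Lib.Helper2RelTwistExist
import Groth.Agent.Lib.Helper2PullbackSec
import Groth.Agent.S12141

/-!
# Base change of a projective bundle with its `O(1)` (helper18)
-/

set_option autoImplicit false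
universe u
open CategoryTheory Limits AlgebraicGeometry TopologicalSpace Opposite
open scoped HomogeneousIdeal

namespace Groth.Agent.Helper18VABC

/-- **Base change of a projective bundle with its fundamental sheaf**: for `ψ : Y' ⟶ Y` and a projective bundle
`P = P(E)` on `Y` with `O_P(1)`, there are a projective bundle `P' = P(ψ^*E)` on `Y'` with `O_{P'}(1)` and a morphism
`h : P' ⟶ P` making `P' = P ×_Y Y'`, with `h^* O_P(1) ≅ O_{P'}(1)`. -/
theorem exists_baseChange {Y Y' P : Scheme.{u}} (ψ : Y' ⟶ Y) (E : Y.Modules) (hE : Coh.IsQCoh E)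
    (𝒮 : RelProj.QCGrAlg Y) (j : E ⟶ 𝒮.toModule) (hj : RelProj.IsGrSymAlg E 𝒮 j) (p : P ⟶ Y)
    (chart : ∀ (U : Y.Opens) (hU : IsAffineOpen U), (((p ⁻¹ᵁ U : P.Opens) : Scheme.{u}) ≅ Proj (𝒮.deg U hU)))
    (hP : RelProj.IsRelProj 𝒮 p chart) (O1 : P.Modules)
    (lam : ∀ (U : Y.Opens) (hU : IsAffineOpen U),
      O1 ⟶ (Scheme.Modules.pushforward (RelProj.emb p chart U hU)).obj (GrTwist.twist (𝒮.deg U hU) 1))
    (hO1 : RelProj.IsRelTwist 𝒮 p chart 1 O1 lam) :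
    ∃ (E' : Y'.Modules) (_ : Coh.IsQCoh E') (𝒮' : RelProj.QCGrAlg Y') (j' : E' ⟶ 𝒮'.toModule)
      (_ : RelProj.IsGrSymAlg E' 𝒮' j') (P' : Scheme.{u}) (p' : P' ⟶ Y')
      (chart' : ∀ (U : Y'.Opens) (hU : IsAffineOpen U),
        (((p' ⁻¹ᵁ U : P'.Opens) : Scheme.{u}) ≅ Proj (𝒮'.deg U hU)))
      (_ : RelProj.IsRelProj 𝒮' p' chart') (O1' : P'.Modules)
      (lam' : ∀ (U : Y'.Opens) (hU : IsAffineOpen U),
        O1' ⟶ (Scheme.Modules.pushforward (RelProj.emb p' chart' U hU)).obj (GrTwist.twist (𝒮'.deg U hU) 1))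
      (_ : RelProj.IsRelTwist 𝒮' p' chart' 1 O1' lam') (h : P' ⟶ P),
      IsPullback h p' p ψ ∧ Nonempty ((Scheme.Modules.pullback h).obj O1 ≅ O1') := by
  have : E.IsQuasicoherent := hE
  have hE' : Coh.IsQCoh ((Scheme.Modules.pullback ψ).obj E) :=
    Groth.Agent.Lib.Helper2.PullbackSec.isQuasicoherent_pullback ψ E
  obtain ⟨𝒮', j', hj'⟩ := Groth.Agent.Helper18GrSym.exists_isGrSymAlg _ hE'
  obtain ⟨O1', lam', hO1'⟩ := Groth.Agent.Lib.Helper2.RelTwistExist.exists_isRelTwist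
    (Groth.Agent.Helper13ProjBC.relProjπ 𝒮') (Groth.Agent.Helper13ProjBC.relProjChart 𝒮')
    (Groth.Agent.Helper13ProjBC.isRelProj_relProj 𝒮') 1
  have hu := Groth.Agent.Helper18SymBC.isQBaseChange_uGr ψ E 𝒮 j hj 𝒮' j' hj'
  obtain ⟨⟨h, hh⟩, hpb⟩ := Groth.Agent.S12141.result ψ 𝒮 𝒮' (Groth.Agent.Helper18SymBC.uGr ψ E 𝒮 j hj 𝒮' j' hj')
    hu p chart hP (Groth.Agent.Helper13ProjBC.relProjπ 𝒮') (Groth.Agent.Helper13ProjBC.relProjChart 𝒮')
    (Groth.Agent.Helper13ProjBC.isRelProj_relProj 𝒮')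
  refine ⟨_, hE', 𝒮', j', hj', _, _, _, Groth.Agent.Helper13ProjBC.isRelProj_relProj 𝒮', O1', lam', hO1', h,
    hpb h hh, ?_⟩
  exact Groth.Agent.Helper18TwistBC.nonempty_pullback_iso_of_isProjQMap _ hu hh hP
    (Groth.Agent.Helper13ProjBC.isRelProj_relProj 𝒮')
    (Groth.Agent.Helper18VAmp.isGenDegOne_of_isGrSymAlg E hE 𝒮 j hj) 1 O1 lam hO1 O1' lam' hO1'

end Groth.Agent.Helper18VABC
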