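import Mathlib
import Groth.Prelude.Def_RelProj4
import Groth.Agent.Lib.Helper18VABC
import Groth.Agent.Lib.Helper18DU
import Groth.Agent.Lib.Helper23QCohLocal

/-!
# Very ampleness relative to `f ≫ j` for a quasi-compact open immersion `j` (helper18)
-/

set_option autoImplicit false
set_option linter.unusedSectionVars false
universe u
open CategoryTheory Limits AlgebraicGeometry TopologicalSpace Opposite
open scoped HomogeneousIdeal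

namespace Groth.Agent.Helper18OI

/-- base change of a projective bundle with its `O(1)`, naming the module upstairs. -/
theorem exists_baseChange' {Y Y' P : Scheme.{u}} (ψ : Y' ⟶ Y) (E : Y.Modules) (hE : Coh.IsQCoh E)
    (𝒮 : RelProj.QCGrAlg Y) (j : E ⟶ 𝒮.toModule) (hj : RelProj.IsGrSymAlg E 𝒮 j) (p : P ⟶ Y)
    (chart : ∀ (U : Y.Opens) (hU : IsAffineOpen U), (((p ⁻¹ᵁ U : P.Opens) : Scheme.{u}) ≅ Proj (𝒮.deg U hU)))
    (hP : RelProj.IsRelProj 𝒮 p chart) (O1 : P.Modules)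
    (lam : ∀ (U : Y.Opens) (hU : IsAffineOpen U),
      O1 ⟶ (Scheme.Modules.pushforward (RelProj.emb p chart U hU)).obj (GrTwist.twist (𝒮.deg U hU) 1))
    (hO1 : RelProj.IsRelTwist 𝒮 p chart 1 O1 lam) :
    ∃ (𝒮' : RelProj.QCGrAlg Y') (j' : (Scheme.Modules.pullback ψ).obj E ⟶ 𝒮'.toModule)
      (_ : RelProj.IsGrSymAlg ((Scheme.Modules.pullback ψ).obj E) 𝒮' j') (P' : Scheme.{u}) (p' : P' ⟶ Y')
      (chart' : ∀ (U : Y'.Opens) (hU : IsAffineOpen U),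
        (((p' ⁻¹ᵁ U : P'.Opens) : Scheme.{u}) ≅ Proj (𝒮'.deg U hU)))
      (_ : RelProj.IsRelProj 𝒮' p' chart') (O1' : P'.Modules)
      (lam' : ∀ (U : Y'.Opens) (hU : IsAffineOpen U),
        O1' ⟶ (Scheme.Modules.pushforward (RelProj.emb p' chart' U hU)).obj (GrTwist.twist (𝒮'.deg U hU) 1))
      (_ : RelProj.IsRelTwist 𝒮' p' chart' 1 O1' lam') (h : P' ⟶ P),
      IsPullback h p' p ψ ∧ Nonempty ((Scheme.Modules.pullback h).obj O1 ≅ O1') := by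
  have : E.IsQuasicoherent := hE
  have hE' : Coh.IsQCoh ((Scheme.Modules.pullback ψ).obj E) :=
    Groth.Agent.Lib.Helper2.PullbackSec.isQuasicoherent_pullback ψ E
  obtain ⟨𝒮', j', hj'⟩ := Groth.Agent.Helper18GrSym.exists_isGrSymAlg _ hE'
  obtain ⟨O1', lam', hO1'⟩ := Groth.Agent.Lib.Helper2.RelTwistExist.exists_isRelTwist
    (Groth.Agent.Helper13ProjBC.relProjπ 𝒮') (Groth.Agent.Helper13ProjBC.relProjChart 𝒮')
    (Groth.Agent.Helper13ProjBC.isRelProj_relProj 𝒮') 1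
  have hu := Groth.Agent.Helper18SymBC.isQBaseChange_uGr ψ E 𝒮 j hj 𝒮' j' hj'
  obtain ⟨⟨h, hh⟩, hpb⟩ := Groth.Agent.S12141.result ψ 𝒮 𝒮' (Groth.Agent.Helper18SymBC.uGr ψ E 𝒮 j hj 𝒮' j' hj')
    hu p chart hP (Groth.Agent.Helper13ProjBC.relProjπ 𝒮') (Groth.Agent.Helper13ProjBC.relProjChart 𝒮')
    (Groth.Agent.Helper13ProjBC.isRelProj_relProj 𝒮')
  refine ⟨𝒮', j', hj', _, _, _, Groth.Agent.Helper13ProjBC.isRelProj_relProj 𝒮', O1', lam', hO1', h,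
    hpb h hh, ?_⟩
  exact Groth.Agent.Helper18TwistBC.nonempty_pullback_iso_of_isProjQMap _ hu hh hP
    (Groth.Agent.Helper13ProjBC.isRelProj_relProj 𝒮')
    (Groth.Agent.Helper18VAmp.isGenDegOne_of_isGrSymAlg E hE 𝒮 j hj) 1 O1 lam hO1 O1' lam' hO1'

/-- projective bundles of isomorphic modules: a closed immersion compatible with `O(1)`. -/
theorem exists_closedImmersion_of_iso {Y P₁ P₂ : Scheme.{u}} (E₁ E₂ : Y.Modules) (hE₁ : Coh.IsQCoh E₁)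
    (hE₂ : Coh.IsQCoh E₂) (κ : E₂ ≅ E₁)
    (𝒮₁ : RelProj.QCGrAlg Y) (j₁ : E₁ ⟶ 𝒮₁.toModule) (hj₁ : RelProj.IsGrSymAlg E₁ 𝒮₁ j₁) (p₁ : P₁ ⟶ Y)
    (chart₁ : ∀ (U : Y.Opens) (hU : IsAffineOpen U), (((p₁ ⁻¹ᵁ U : P₁.Opens) : Scheme.{u}) ≅ Proj (𝒮₁.deg U hU)))
    (hP₁ : RelProj.IsRelProj 𝒮₁ p₁ chart₁) (O1₁ : P₁.Modules)
    (lam₁ : ∀ (U : Y.Opens) (hU : IsAffineOpen U),
      O1₁ ⟶ (Scheme.Modules.pushforward (RelProj.emb p₁ chart₁ U hU)).obj (GrTwist.twist (𝒮₁.deg U hU) 1))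
    (hO1₁ : RelProj.IsRelTwist 𝒮₁ p₁ chart₁ 1 O1₁ lam₁)
    (𝒮₂ : RelProj.QCGrAlg Y) (j₂ : E₂ ⟶ 𝒮₂.toModule) (hj₂ : RelProj.IsGrSymAlg E₂ 𝒮₂ j₂) (p₂ : P₂ ⟶ Y)
    (chart₂ : ∀ (U : Y.Opens) (hU : IsAffineOpen U), (((p₂ ⁻¹ᵁ U : P₂.Opens) : Scheme.{u}) ≅ Proj (𝒮₂.deg U hU)))
    (hP₂ : RelProj.IsRelProj 𝒮₂ p₂ chart₂) (O1₂ : P₂.Modules)
    (lam₂ : ∀ (U : Y.Opens) (hU : IsAffineOpen U),
      O1₂ ⟶ (Scheme.Modules.pushforward (RelProj.emb p₂ chart₂ U hU)).obj (GrTwist.twist (𝒮₂.deg U hU) 1))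
    (hO1₂ : RelProj.IsRelTwist 𝒮₂ p₂ chart₂ 1 O1₂ lam₂) :
    ∃ c : P₁ ⟶ P₂, IsClosedImmersion c ∧ c ≫ p₂ = p₁ ∧
      Nonempty ((Scheme.Modules.pullback c).obj O1₂ ≅ O1₁) := by
  obtain ⟨α, hα, -⟩ := hj₂.1 𝒮₁.toQCAlg (κ.hom ≫ j₁)
  have hgr : RelProj.IsGradedHom α := by
    refine Groth.Agent.Helper18DegOne.isGradedHom_of_factor 𝒮₁ E₂ hE₂ 𝒮₂ j₂ hj₂ α ?_
    intro U hU e
    rw [hα]
    exact hj₁.2 U hU _
  have hsurj : ∀ (U : Y.Opens) (hU : IsAffineOpen U), Function.Surjective (α.hom.app (op U)).hom := by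
    intro U hU
    refine Groth.Agent.Helper18BiprodCI.surjective_app_of_factor E₁ hE₁ 𝒮₂.toQCAlg 𝒮₁.toQCAlg j₁ hj₁.1 α
      (κ.inv ≫ j₂) ?_ U hU
    rw [Category.assoc, hα, Iso.inv_hom_id_assoc]
  have hirr : ∀ (U : Y.Opens) (hU : IsAffineOpen U),
      (𝒮₁.deg U hU)₊ ≤ ((𝒮₂.deg U hU)₊).map (RelProj.gradedHomAt α hgr U hU) :=
    fun U hU => Groth.Agent.Helper18DU.irrelevant_le_map_of_surjective _ (hsurj U hU)
  obtain ⟨c, hc⟩ := Groth.Agent.Helper13RelProj.exists_relProjMap α hgr hirr hP₂ hP₁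
  have hci : IsClosedImmersion c := by
    apply Groth.Agent.Lib.Helper27RelProj4.relProjMap_of_charts (P := @IsClosedImmersion) α hgr hirr hP₂ hP₁ hc
    intro U hU
    exact Groth.Agent.Lib.Helper27RelProj4.map_isClosedImmersion _ _ (hsurj U hU)
  refine ⟨c, hci, Groth.Agent.Lib.Helper27RelProj4.relProjMap_over α hgr hirr hP₂ hP₁ hc, ?_⟩
  exact Groth.Agent.Lib.Helper2.RelTwistPullback.nonempty_pullback_iso α hgr hirr p₂ p₁ chart₂ chart₁ c 1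
    O1₂ lam₂ hO1₂ O1₁ lam₁ hO1₁ hP₂ hP₁ hc
    (Groth.Agent.Helper18VAmp.isGenDegOne_of_isGrSymAlg E₂ hE₂ 𝒮₂ j₂ hj₂)

/-- **very ampleness relative to `f` gives very ampleness relative to `f ≫ j`, for a quasi-compact open immersion
`j`.** -/
theorem isRelVeryAmple_comp_openImmersion {X Y Y' : Scheme.{u}} (f : X ⟶ Y) (j : Y ⟶ Y') [IsOpenImmersion j]
    [QuasiCompact j] (L : X.Modules) (h : RelProj.IsRelVeryAmple f L) : RelProj.IsRelVeryAmple (f ≫ j) L := by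
  obtain ⟨E, hE, 𝒮, jE, hjE, P, p, chart, hP, O1, lam, hO1, i, hi, hip, ⟨φ⟩⟩ := h
  have hEq : E.IsQuasicoherent := hE
  have hE' : Coh.IsQCoh ((Scheme.Modules.pushforward j).obj E) :=
    Groth.Agent.Lib.Helper23.QCohLocal.isQuasicoherent_pushforward j E
  obtain ⟨𝒮', j', hj'⟩ := Groth.Agent.Helper18GrSym.exists_isGrSymAlg _ hE'
  have hP' := Groth.Agent.Helper13ProjBC.isRelProj_relProj 𝒮'
  obtain ⟨O1', lam', hO1'⟩ := Groth.Agent.Lib.Helper2.RelTwistExist.exists_isRelTwist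
    (Groth.Agent.Helper13ProjBC.relProjπ 𝒮') (Groth.Agent.Helper13ProjBC.relProjChart 𝒮') hP' 1
  obtain ⟨𝒮'', j'', hj'', P'', p'', chart'', hP'', O1'', lam'', hO1'', h, hpb, ⟨θ⟩⟩ :=
    exists_baseChange' j _ hE' 𝒮' j' hj' _ _ hP' O1' lam' hO1'
  have hE'q : ((Scheme.Modules.pushforward j).obj E).IsQuasicoherent := hE'
  have hE₂ : Coh.IsQCoh ((Scheme.Modules.pullback j).obj ((Scheme.Modules.pushforward j).obj E)) :=
    Groth.Agent.Lib.Helper2.PullbackSec.isQuasicoherent_pullback j _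
  let κ : (Scheme.Modules.pullback j).obj ((Scheme.Modules.pushforward j).obj E) ≅ E :=
    ((Scheme.Modules.restrictFunctorIsoPullback j).symm.app _) ≪≫
      (Scheme.Modules.restrictFunctorAdjCounitIso j).app E
  obtain ⟨c, hci, hcp, ⟨ξ⟩⟩ := exists_closedImmersion_of_iso E _ hE hE₂ κ 𝒮 jE hjE p chart hP O1 lam hO1
    𝒮'' j'' hj'' p'' chart'' hP'' O1'' lam'' hO1''
  have hoi : IsOpenImmersion h := MorphismProperty.of_isPullback (P := @IsOpenImmersion) hpb.flip inferInstance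
  have : IsImmersion i := hi
  refine ⟨_, hE', 𝒮', j', hj', _, _, _, hP', O1', lam', hO1', i ≫ c ≫ h, inferInstance, ?_, ⟨?_⟩⟩
  · rw [Category.assoc, Category.assoc, hpb.w, ← Category.assoc c, hcp, ← Category.assoc, hip]
  · exact φ ≪≫ (Scheme.Modules.pullback i).mapIso ξ.symm ≪≫
      (Scheme.Modules.pullback i).mapIso ((Scheme.Modules.pullback c).mapIso θ.symm) ≪≫
      (Scheme.Modules.pullback i).mapIso ((Scheme.Modules.pullbackComp c h).app O1') ≪≫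
      (Scheme.Modules.pullbackComp i (c ≫ h)).app O1'

end Groth.Agent.Helper18OI
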