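import Groth.Agent.Lib.Helper18KE
import Groth.Agent.Lib.Helper18OI
import Groth.Agent.Lib.Helper20FormalPull

/-!
# helper18: permanence properties of projective morphisms

Base change of projective bundles, and the general principle: a morphism `f' : Z ⟶ Y'` which maps (over `ψ : Y' ⟶ Y`)
to a projective bundle over `Y` such that the induced map to the base-changed bundle is a closed immersion is projective.
-/

set_option autoImplicit false
set_option linter.unusedSectionVars false
set_option linter.style.haveILetI false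
universe u

open CategoryTheory CategoryTheory.Limits AlgebraicGeometry TopologicalSpace Opposite

namespace Groth.Agent.Helper18KF

/-- base change of a projective bundle of a quasi-coherent module of finite type. -/
theorem exists_bundle_baseChange {Y Y' P : Scheme.{u}} (ψ : Y' ⟶ Y) (E : Y.Modules) (hE : Coh.IsQCoh E)
    (hft : CohB1.IsFT E)
    (𝒮 : RelProj.QCGrAlg Y) (j : E ⟶ 𝒮.toModule) (hj : RelProj.IsGrSymAlg E 𝒮 j) (p : P ⟶ Y)
    (chart : ∀ (U : Y.Opens) (hU : IsAffineOpen U), (((p ⁻¹ᵁ U : P.Opens) : Scheme.{u}) ≅ Proj (𝒮.deg U hU)))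
    (hP : RelProj.IsRelProj 𝒮 p chart) :
    ∃ (E' : Y'.Modules) (_ : Coh.IsQCoh E') (_ : CohB1.IsFT E')
      (𝒮' : RelProj.QCGrAlg Y') (j' : E' ⟶ 𝒮'.toModule)
      (_ : RelProj.IsGrSymAlg E' 𝒮' j') (P' : Scheme.{u}) (p' : P' ⟶ Y')
      (chart' : ∀ (U : Y'.Opens) (hU : IsAffineOpen U),
        (((p' ⁻¹ᵁ U : P'.Opens) : Scheme.{u}) ≅ Proj (𝒮'.deg U hU)))
      (_ : RelProj.IsRelProj 𝒮' p' chart') (h : P' ⟶ P),
      IsPullback h p' p ψ := by
  obtain ⟨O1, lam, hO1⟩ := Groth.Agent.Lib.Helper2.RelTwistExist.exists_isRelTwist p chart hP 1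
  obtain ⟨𝒮', j', hj', P', p', chart', hP', O1', lam', hO1', h, hpb, -⟩ :=
    Groth.Agent.Helper18OI.exists_baseChange' ψ E hE 𝒮 j hj p chart hP O1 lam hO1
  have : E.IsQuasicoherent := hE
  have : SheafOfModules.IsFiniteType (R := Y.ringCatSheaf) E := hft
  exact ⟨(Scheme.Modules.pullback ψ).obj E,
    Groth.Agent.Lib.Helper2.PullbackSec.isQuasicoherent_pullback ψ E,
    Groth.Agent.Lib.Helper20.FormalPull.isFiniteType_pullback ψ E,
    𝒮', j', hj', P', p', chart', hP', h, hpb⟩

/-- the lifting principle -/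
theorem isProjective_of_lift {Y Y' P Z : Scheme.{u}} (ψ : Y' ⟶ Y) (E : Y.Modules) (hE : Coh.IsQCoh E)
    (hft : CohB1.IsFT E)
    (𝒮 : RelProj.QCGrAlg Y) (j : E ⟶ 𝒮.toModule) (hj : RelProj.IsGrSymAlg E 𝒮 j) (p : P ⟶ Y)
    (chart : ∀ (U : Y.Opens) (hU : IsAffineOpen U), (((p ⁻¹ᵁ U : P.Opens) : Scheme.{u}) ≅ Proj (𝒮.deg U hU)))
    (hP : RelProj.IsRelProj 𝒮 p chart) (f' : Z ⟶ Y') (k : Z ⟶ P) (comm : k ≫ p = f' ≫ ψ)
    (H : ∀ {P' : Scheme.{u}} (h : P' ⟶ P) (p' : P' ⟶ Y') (hpb : IsPullback h p' p ψ),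
      IsClosedImmersion (hpb.lift k f' comm)) :
    RelProj.IsProjective f' := by
  obtain ⟨E', hE', hft', 𝒮', j', hj', P', p', chart', hP', h, hpb⟩ :=
    exists_bundle_baseChange ψ E hE hft 𝒮 j hj p chart hP
  have := H h p' hpb
  exact Groth.Agent.Helper18KE.isProjective_of_closedImmersion_bundle f' E' hE' hft' 𝒮' j' hj' p' chart' hP'
    (hpb.lift k f' comm) (hpb.lift_snd _ _ _)

/-- **base change** of a projective morphism is projective. -/
theorem isProjective_baseChange {X Y Y' : Scheme.{u}} (f : X ⟶ Y) (hf : RelProj.IsProjective f) (g : Y' ⟶ Y) :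
    RelProj.IsProjective (pullback.snd f g) := by
  obtain ⟨E, 𝒯, j, P, p, chart, i, hE, hft, hj, hP, hi, hcomp⟩ :=
    Groth.Agent.Helper18KE.exists_closedImmersion_bundle f hf
  refine isProjective_of_lift g E hE hft 𝒯 j hj p chart hP (pullback.snd f g) (pullback.fst f g ≫ i) ?_ ?_
  · rw [Category.assoc, hcomp, pullback.condition]
  · intro P' h p' hpb
    -- the square `X ×_Y Y' → P'` over `X → P` is a pullback
    have hbig : IsPullback (pullback.fst f g) (pullback.snd f g) f g := IsPullback.of_hasPullback f g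
    have hbig' : IsPullback (pullback.snd f g) (pullback.fst f g) g (i ≫ p) := by
      rw [hcomp]; exact hbig.flip
    have hleft : IsPullback (hpb.lift (pullback.fst f g ≫ i) (pullback.snd f g)
        (by rw [Category.assoc, hcomp, pullback.condition])) (pullback.fst f g) h i := by
      refine IsPullback.of_right (h₁₂ := p') (h₂₂ := p) ?_ (hpb.lift_fst _ _ _) hpb.flip
      rw [hpb.lift_snd]
      exact hbig'
    exact MorphismProperty.of_isPullback (P := @IsClosedImmersion) hleft.flip hi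

/-- cancellation: if `f ≫ g` is projective and `g` is separated then `f` is projective. -/
theorem isProjective_of_comp_of_isSeparated {X Y Z : Scheme.{u}} (f : X ⟶ Y) (g : Y ⟶ Z) [IsSeparated g]
    (h : RelProj.IsProjective (f ≫ g)) : RelProj.IsProjective f := by
  obtain ⟨E, 𝒯, j, P, p, chart, i, hE, hft, hj, hP, hi, hcomp⟩ :=
    Groth.Agent.Helper18KE.exists_closedImmersion_bundle (f ≫ g) h
  refine isProjective_of_lift g E hE hft 𝒯 j hj p chart hP f i hcomp ?_
  intro P' h' p' hpb
  have hsep : IsSeparated h' := MorphismProperty.of_isPullback (P := @IsSeparated) hpb.flip inferInstance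
  have hfac : hpb.lift i f hcomp ≫ h' = i := hpb.lift_fst _ _ _
  have : IsClosedImmersion (hpb.lift i f hcomp ≫ h') := by rw [hfac]; exact hi
  exact IsClosedImmersion.of_comp (hpb.lift i f hcomp) h'

/-- a closed immersion followed by a projective morphism is projective. -/
theorem isProjective_closedImmersion_comp {X₀ X Y : Scheme.{u}} (j : X₀ ⟶ X) [IsClosedImmersion j] (f : X ⟶ Y)
    (hf : RelProj.IsProjective f) : RelProj.IsProjective (j ≫ f) := by
  obtain ⟨E, 𝒯, jT, P, p, chart, i, hE, hft, hj, hP, hi, hcomp⟩ :=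
    Groth.Agent.Helper18KE.exists_closedImmersion_bundle f hf
  exact Groth.Agent.Helper18KE.isProjective_of_closedImmersion_bundle (j ≫ f) E hE hft 𝒯 jT hj p chart hP (j ≫ i)
    (by rw [Category.assoc, hcomp])

/-- the morphism induced on closed subschemes by a projective morphism is projective. -/
theorem isProjective_of_closedImmersions {X Y X₀ Y₀ : Scheme.{u}} (f : X ⟶ Y) (hf : RelProj.IsProjective f)
    (j : X₀ ⟶ X) [IsClosedImmersion j] (k : Y₀ ⟶ Y) [IsClosedImmersion k]
    (f₀ : X₀ ⟶ Y₀) (hcomm : j ≫ f = f₀ ≫ k) : RelProj.IsProjective f₀ := by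
  have h1 := isProjective_closedImmersion_comp j f hf
  rw [hcomm] at h1
  exact isProjective_of_comp_of_isSeparated f₀ k h1

end Groth.Agent.Helper18KF
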