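import Mathlib
import Groth.Prelude.Def_RelProj
import Groth.Prelude.Def_CohB1
import Groth.Agent.Lib.Helper27RelProj4
import Groth.Agent.Lib.Helper27RelProj5
import Groth.Agent.Lib.Helper13RelProjA
import Groth.Agent.Lib.Helper27ProjSpaceFibres
import Groth.Agent.Lib.Helper2RelTwistExist
import Groth.Agent.Lib.Helper18VAmpC

set_option autoImplicit false
universe u
open CategoryTheory CategoryTheory.Limits AlgebraicGeometry TopologicalSpace Opposite
open scoped HomogeneousIdeal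

namespace Groth.Agent.Helper18ProjProper

section ring

variable {R A : Type u} [CommRing R] [CommRing A] (𝒜 : ℕ → AddSubgroup A) [GradedRing 𝒜]
  (s : R →+* A) (hs : ∀ r, s r ∈ 𝒜 0) (n : ℕ) (a : Fin (n + 1) → A) (ha : ∀ i, a i ∈ 𝒜 1)

include hs ha in
theorem eval₂_mem {d : ℕ} {p : MvPolynomial (Fin (n + 1)) R} (hp : p ∈ CohB1.polyGrading n R d) :
    MvPolynomial.eval₂Hom s a p ∈ 𝒜 d := by
  have hp' : p.IsHomogeneous d := hp
  rw [MvPolynomial.coe_eval₂Hom, MvPolynomial.eval₂_eq]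
  refine sum_mem fun e he => ?_
  have hdeg : e.degree = d := by
    have := hp' (MvPolynomial.mem_support_iff.mp he)
    rw [Finsupp.degree_eq_weight_one]
    exact this
  have h1 : ∏ i ∈ e.support, a i ^ e i ∈ 𝒜 (∑ i ∈ e.support, e i) := by
    refine SetLike.prod_mem_graded _ _ _ fun i _ => ?_
    have := SetLike.pow_mem_graded (e i) (ha i)
    rwa [smul_eq_mul, mul_one] at this
  have h2 : ∑ i ∈ e.support, e i = d := by rw [← hdeg]; rfl
  rw [h2] at h1
  have := SetLike.mul_mem_graded (hs (p.coeff e)) h1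
  rwa [zero_add] at this

/-- the graded homomorphism from the polynomial ring -/
noncomputable def polyHom : CohB1.polyGrading n R →+*ᵍ 𝒜 :=
  { MvPolynomial.eval₂Hom s a with map_mem := fun hx => eval₂_mem 𝒜 s hs n a ha hx }

theorem polyHom_apply (p : MvPolynomial (Fin (n + 1)) R) :
    polyHom 𝒜 s hs n a ha p = MvPolynomial.eval₂Hom s a p := rfl

include hs ha in
theorem isProper_toSpecZero_comp
    (hgen : Subring.closure ((𝒜 0 : Set A) ∪ (𝒜 1 : Set A)) = ⊤)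
    (hspan : ∀ x ∈ 𝒜 1, ∃ c : Fin (n + 1) → R, x = ∑ i, s (c i) * a i)
    (s₀ : R →+* 𝒜 0) (hs₀ : ∀ r, (s₀ r : A) = s r) :
    IsProper (Proj.toSpecZero 𝒜 ≫ Spec.map (CommRingCat.ofHom s₀)) := by
  have hsurj1 : ∀ b ∈ 𝒜 1, ∃ x, polyHom 𝒜 s hs n a ha x = b := by
    intro b hb
    obtain ⟨c, rfl⟩ := hspan b hb
    refine ⟨∑ i, MvPolynomial.C (c i) * MvPolynomial.X i, ?_⟩
    rw [polyHom_apply, map_sum]
    refine Finset.sum_congr rfl fun i _ => ?_
    rw [map_mul, MvPolynomial.coe_eval₂Hom, MvPolynomial.eval₂_C, MvPolynomial.eval₂_X]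
  have hsurj : ∀ d, 0 < d → ∀ b ∈ 𝒜 d, ∃ x ∈ CohB1.polyGrading n R d,
      polyHom 𝒜 s hs n a ha x = b := fun d hd b hb =>
    Groth.Agent.Lib.Helper27RelProj5.surjective_pos_of_gen (polyHom 𝒜 s hs n a ha) hgen hsurj1 d hd b hb
  have hirr : 𝒜₊ ≤ (CohB1.polyGrading n R)₊.map (polyHom 𝒜 s hs n a ha) := by
    rw [HomogeneousIdeal.irrelevant_le]
    intro i hi b hb
    obtain ⟨x, hx, rfl⟩ := hsurj i hi b hb
    exact Ideal.mem_map_of_mem _ (HomogeneousIdeal.mem_irrelevant_of_mem _ hi hx)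
  have hci : IsClosedImmersion (Proj.map (polyHom 𝒜 s hs n a ha) hirr) :=
    Groth.Agent.Helper13RelProj.isClosedImmersion_map_of_surjective_pos _ hirr hsurj
  have key := Groth.Agent.Lib.Helper27RelProj4.map_toSpecZero (polyHom 𝒜 s hs n a ha) hirr
    (algebraMap R (CohB1.polyGrading n R 0)) s₀ (fun r => by
      rw [hs₀, polyHom_apply]
      change MvPolynomial.eval₂Hom s a (MvPolynomial.C r) = s r
      rw [MvPolynomial.coe_eval₂Hom, MvPolynomial.eval₂_C])
  rw [← key]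
  have := Groth.Agent.Lib.Helper27ProjSpaceFibres.isProper_projSpace_toSpec n R
  have h1 : IsProper (Proj.map (polyHom 𝒜 s hs n a ha) hirr) := inferInstance
  exact MorphismProperty.comp_mem @IsProper _ _ h1 this

omit [GradedRing 𝒜] in
theorem exists_fin_family (T : Finset A) (hT : (↑T : Set A) ⊆ (𝒜 1 : Set A))
    (hspan : ∀ x ∈ 𝒜 1, ∃ c : A → R, x = ∑ t ∈ T, s (c t) * t) :
    ∃ (n : ℕ) (a : Fin (n + 1) → A), (∀ i, a i ∈ 𝒜 1) ∧
      ∀ x ∈ 𝒜 1, ∃ c : Fin (n + 1) → R, x = ∑ i, s (c i) * a i := by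
  classical
  let e := T.equivFin
  refine ⟨T.card, Fin.lastCases 0 (fun i => ((e.symm i : T) : A)), ?_, ?_⟩
  · intro i
    refine Fin.lastCases ?_ (fun j => ?_) i
    · simp only [Fin.lastCases_last]; exact zero_mem _
    · simp only [Fin.lastCases_castSucc]; exact hT (e.symm j).2
  · intro x hx
    obtain ⟨c, rfl⟩ := hspan x hx
    refine ⟨Fin.lastCases 0 (fun i => c ((e.symm i : T) : A)), ?_⟩
    rw [Fin.sum_univ_castSucc]
    simp only [Fin.lastCases_last, Fin.lastCases_castSucc, map_zero, mul_zero, add_zero]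
    rw [← Finset.sum_coe_sort T (fun t => s (c t) * t)]
    exact (Equiv.sum_comp e.symm (fun t : T => s (c (t : A)) * (t : A))).symm

end ring

section rel

variable {Y P : Scheme.{u}} (𝒮 : RelProj.QCGrAlg Y) (p : P ⟶ Y)
  (chart : ∀ (U : Y.Opens) (hU : IsAffineOpen U), ((p ⁻¹ᵁ U : P.Opens) : Scheme.{u}) ≅ Proj (𝒮.deg U hU))

include chart in
theorem isProper_of_isRelProj (hP : RelProj.IsRelProj 𝒮 p chart) (hgen : 𝒮.IsGenDegOne)
    (hft : 𝒮.IsFTDeg 1) : IsProper p := by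
  rw [IsZariskiLocalAtTarget.iff_of_iSup_eq_top (P := @IsProper) _ (iSup_affineOpens_eq_top Y)]
  intro U
  have h1 : (p ∣_ U.1) = (chart U.1 U.2).hom ≫ (Proj.toSpecZero (𝒮.deg U.1 U.2) ≫
      Spec.map (𝒮.strZero U.1 U.2)) ≫ U.2.isoSpec.inv := by
    rw [← cancel_mono U.1.ι]
    simp only [Category.assoc]
    rw [IsAffineOpen.isoSpec_inv_ι, hP.chart_over U.1 U.2, morphismRestrict_ι]
  obtain ⟨T, hT, hspan⟩ := hft U.1 U.2
  obtain ⟨n, a, ha, hspan'⟩ := exists_fin_family (𝒮.deg U.1 U.2) (𝒮.str.app (op U.1)).hom T hT hspan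
  have h2 : IsProper (Proj.toSpecZero (𝒮.deg U.1 U.2) ≫ Spec.map (𝒮.strZero U.1 U.2)) :=
    isProper_toSpecZero_comp (𝒮.deg U.1 U.2) (𝒮.str.app (op U.1)).hom (𝒮.str_mem U.1 U.2) n a ha
      (hgen U.1 U.2) hspan' (𝒮.strZero U.1 U.2).hom (fun r => rfl)
  rw [h1]
  infer_instance

theorem quasiProjective_and_proper {X Y : Scheme.{u}} (f : X ⟶ Y) (hf : RelProj.IsProjective f) :
    RelProj.IsQuasiProjective f ∧ IsProper f := by
  obtain ⟨𝒮, P, p, chart, e, hgen, hft, hP, he⟩ := hf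
  have hp : IsProper p := isProper_of_isRelProj 𝒮 p chart hP hgen hft
  have hfp : IsProper f := by rw [← he]; infer_instance
  refine ⟨⟨inferInstance, inferInstance, ?_⟩, hfp⟩
  obtain ⟨O1, lam, hO1⟩ := Groth.Agent.Lib.Helper2.RelTwistExist.exists_isRelTwist p chart hP 1
  refine ⟨(Scheme.Modules.pullback e.hom).obj O1, ?_⟩
  exact Groth.Agent.Helper18VAmp.isRelAmple_pullback_of_isEmbedding f 𝒮 P p chart O1 lam hgen hO1 e.hom he
    (TopCat.homeoOfIso (asIso e.hom.base)).isEmbedding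

end rel

end Groth.Agent.Helper18ProjProper
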