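import Groth.Agent.Lib.Helper18KF
import Groth.Agent.Lib.Helper18ProjProper
import Groth.Agent.Lib.Helper13ProjLine
import Groth.Agent.Lib.Helper2RankLoc
import Groth.Agent.Lib.Helper20LocFree

/-!
# helper18: projective space over a ring is the projective bundle of a free module; H-projective ⇒ projective
-/

set_option autoImplicit false
set_option linter.unusedSectionVars false
set_option linter.style.haveILetI false
universe u

open CategoryTheory CategoryTheory.Limits AlgebraicGeometry TopologicalSpace Opposite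
open scoped HomogeneousIdeal DirectSum

namespace Groth.Agent.Helper18KG

open Groth.Agent.Helper18ProjProper

section ring

variable {R A : Type u} [CommRing R] [CommRing A] (𝒜 : ℕ → AddSubgroup A) [GradedRing 𝒜]
  (s : R →+* A) (hs : ∀ r, s r ∈ 𝒜 0) (n : ℕ) (a : Fin (n + 1) → A) (ha : ∀ i, a i ∈ 𝒜 1)

include hs ha in
/-- if `A` is the polynomial ring on degree one elements `a i` over `R`, then `Proj A` is projective space -/
theorem exists_isIso_map_polyHom (hbij : Function.Bijective (MvPolynomial.eval₂Hom s a)) :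
    ∃ hirr : 𝒜₊ ≤ (CohB1.polyGrading n R)₊.map (polyHom 𝒜 s hs n a ha),
      IsIso (Proj.map (polyHom 𝒜 s hs n a ha) hirr) := by
  have hsurj : ∀ d, 0 < d → ∀ b ∈ 𝒜 d, ∃ x ∈ CohB1.polyGrading n R d,
      polyHom 𝒜 s hs n a ha x = b := by
    intro d _ b hb
    obtain ⟨x, rfl⟩ := hbij.2 b
    refine ⟨DirectSum.decompose (CohB1.polyGrading n R) x d, SetLike.coe_mem _, ?_⟩
    rw [GradedRingHom.map_directSumDecompose]
    exact DirectSum.decompose_of_mem_same _ hb
  have hirr : 𝒜₊ ≤ (CohB1.polyGrading n R)₊.map (polyHom 𝒜 s hs n a ha) := by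
    rw [HomogeneousIdeal.irrelevant_le]
    intro i hi b hb
    obtain ⟨x, hx, rfl⟩ := hsurj i hi b hb
    exact Ideal.mem_map_of_mem _ (HomogeneousIdeal.mem_irrelevant_of_mem _ hi hx)
  refine ⟨hirr, Groth.Agent.Lib.Helper27RelProj4.map_isIso _ hirr (fun d _ x _ hx => ?_) hsurj⟩
  exact hbij.1 (by rw [map_zero]; exact hx)

end ring

section sym

open Groth.Agent.Helper13SymAlg Groth.Agent.Helper13SymLoc

variable {Y : Scheme.{u}} (E : Y.Modules) [E.IsQuasicoherent]
  (𝒯 : RelProj.QCGrAlg Y) (j : E ⟶ 𝒯.toModule) (hj : RelProj.IsGrSymAlg E 𝒯 j)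

include hj in
/-- over an affine open where `E` has a basis, the symmetric algebra is the polynomial ring on the basis -/
theorem bijective_evalMv {W : Y.Opens} (hW : IsAffineOpen W) {ι : Type*}
    (b : Module.Basis ι Γ(Y, W) Γ(E, W)) :
    Function.Bijective (MvPolynomial.eval₂Hom (𝒯.str.app (op W)).hom
      (fun i => φAdd E 𝒯.toQCAlg j W (b i))) := by
  let e₁ := SymmetricAlgebra.equivMvPolynomial b
  have hσ := bijective_σ E W hW hj.1
  have key : MvPolynomial.eval₂Hom (𝒯.str.app (op W)).hom (fun i => φAdd E 𝒯.toQCAlg j W (b i)) =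
      (σ E 𝒯.toQCAlg j W).comp e₁.symm.toAlgHom.toRingHom := by
    refine MvPolynomial.ringHom_ext (fun r => ?_) (fun i => ?_)
    · have h2 : e₁.symm (MvPolynomial.C r) = algebraMap _ _ r := by
        rw [AlgEquiv.symm_apply_eq]
        simp [e₁]
      show MvPolynomial.eval₂ (𝒯.str.app (op W)).hom _ (MvPolynomial.C r) =
        (σ E 𝒯.toQCAlg j W) (e₁.symm (MvPolynomial.C r))
      rw [MvPolynomial.eval₂_C, h2]
      unfold σ
      rw [symLift_algebraMap]
    · show MvPolynomial.eval₂ (𝒯.str.app (op W)).hom _ (MvPolynomial.X i) =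
        (σ E 𝒯.toQCAlg j W) (e₁.symm (MvPolynomial.X i))
      rw [MvPolynomial.eval₂_X, SymmetricAlgebra.equivMvPolynomial_symm_X]
      unfold σ
      rw [symLift_ι]
  rw [key]
  exact hσ.comp e₁.symm.bijective

end sym

section scheme

open Groth.Agent.Helper13SymAlg Groth.Agent.Helper13SymLoc

variable (R : Type u) [CommRing R] (n : ℕ)

/-- the free module of finite rank is of finite type -/
theorem isFT_freeMod (Y : Scheme.{u}) (m : ℕ) : CohB1.IsFT (FlatMod.freeMod Y m) := by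
  have : (FlatMod.freeMod Y m).IsQuasicoherent :=
    Groth.Agent.Lib.Helper20.LocFree.isQuasicoherent_freeMod Y m
  rw [CohB1.IsFT, Groth.Agent.Lib.Helper23.FinType.isFiniteType_iff_forall_affine]
  intro U hU
  obtain ⟨e⟩ := Groth.Agent.Lib.Helper2.RankLoc.nonempty_sections_equiv_of_iso_freeMod
    (FlatMod.freeMod Y m) (Iso.refl _) hU
  exact Module.Finite.equiv e.symm

/-- projective space over a ring is projective over the spectrum of the ring -/
theorem isProjective_projSpace_toSpec : RelProj.IsProjective (CohB1.ProjSpace.toSpec n R) := by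
  let Y : Scheme.{u} := Spec (CommRingCat.of R)
  let E : Y.Modules := FlatMod.freeMod Y (n + 1)
  have : E.IsQuasicoherent := Groth.Agent.Lib.Helper20.LocFree.isQuasicoherent_freeMod Y (n + 1)
  have hE : Coh.IsQCoh E := this
  have hft : CohB1.IsFT E := isFT_freeMod Y (n + 1)
  obtain ⟨𝒯, j, hj⟩ := Groth.Agent.Helper18GrSym.exists_isGrSymAlg E hE
  have hP := Groth.Agent.Helper13ProjBC.isRelProj_relProj 𝒯
  set p := Groth.Agent.Helper13ProjBC.relProjπ 𝒯 with hp
  set chart := Groth.Agent.Helper13ProjBC.relProjChart 𝒯 with hchart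
  have hU : IsAffineOpen (⊤ : Y.Opens) := isAffineOpen_top Y
  obtain ⟨eq⟩ := Groth.Agent.Lib.Helper2.RankLoc.nonempty_sections_equiv_of_iso_freeMod E (Iso.refl _) hU
  let b : Module.Basis (Fin (n + 1)) Γ(Y, ⊤) Γ(E, ⊤) := Module.Basis.ofRepr eq
  have hb1 := bijective_evalMv E 𝒯 j hj hU b
  -- the structure map from `R`
  let ρ : R →+* Γ(Y, ⊤) := (Scheme.ΓSpecIso (CommRingCat.of R)).inv.hom
  have hρ : Function.Bijective ρ :=
    (ConcreteCategory.bijective_of_isIso (Scheme.ΓSpecIso (CommRingCat.of R)).inv)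
  let s : R →+* 𝒯.presheaf.obj (op ⊤) := (𝒯.str.app (op ⊤)).hom.comp ρ
  have hs : ∀ r, s r ∈ 𝒯.deg ⊤ hU 0 := fun r => 𝒯.str_mem ⊤ hU (ρ r)
  let a : Fin (n + 1) → 𝒯.presheaf.obj (op ⊤) := fun i => φAdd E 𝒯.toQCAlg j ⊤ (b i)
  have ha : ∀ i, a i ∈ 𝒯.deg ⊤ hU 1 := fun i => hj.2 ⊤ hU (b i)
  have hbij : Function.Bijective (MvPolynomial.eval₂Hom s a) := by
    have h1 : (MvPolynomial.eval₂Hom s a : MvPolynomial (Fin (n + 1)) R →+* _) =
        (MvPolynomial.eval₂Hom (𝒯.str.app (op ⊤)).hom a).comp (MvPolynomial.map ρ) := by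
      refine MvPolynomial.ringHom_ext (fun r => ?_) (fun i => ?_)
      · simp [s]
      · simp
    rw [h1]
    refine hb1.comp ⟨MvPolynomial.map_injective _ hρ.1, MvPolynomial.map_surjective _ hρ.2⟩
  obtain ⟨hirr, hiso⟩ := exists_isIso_map_polyHom (𝒯.deg ⊤ hU) s hs n a ha hbij
  let m : Proj (𝒯.deg ⊤ hU) ⟶ CohB1.ProjSpace n R := Proj.map (polyHom (𝒯.deg ⊤ hU) s hs n a ha) hirr
  let s₀ : R →+* 𝒯.deg ⊤ hU 0 := (𝒯.strZero ⊤ hU).hom.comp ρ
  have key : m ≫ CohB1.ProjSpace.toSpec n R = Proj.toSpecZero (𝒯.deg ⊤ hU) ≫ Spec.map (CommRingCat.ofHom s₀) :=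
    Groth.Agent.Lib.Helper27RelProj4.map_toSpecZero (polyHom (𝒯.deg ⊤ hU) s hs n a ha) hirr
    (algebraMap R (CohB1.polyGrading n R 0)) s₀ (fun r => by
      rw [polyHom_apply]
      change MvPolynomial.eval₂Hom s a (MvPolynomial.C r) = s r
      rw [MvPolynomial.coe_eval₂Hom, MvPolynomial.eval₂_C])
  have hιiso : IsIso (p ⁻¹ᵁ (⊤ : Y.Opens)).ι := by
    change IsIso (Scheme.topIso (Groth.Agent.Helper13ProjBC.relProj 𝒯)).hom
    infer_instance
  haveI : IsIso m := hiso
  let i : CohB1.ProjSpace n R ⟶ Groth.Agent.Helper13ProjBC.relProj 𝒯 :=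
    inv m ≫ (chart ⊤ hU).inv ≫ (p ⁻¹ᵁ (⊤ : Y.Opens)).ι
  have hi : IsClosedImmersion i := by
    have : IsIso i := by dsimp only [i]; infer_instance
    infer_instance
  have hs₀ : Spec.map (CommRingCat.ofHom s₀) = Spec.map (𝒯.strZero ⊤ hU) ≫ hU.fromSpec := by
    rw [IsAffineOpen.fromSpec_top, Scheme.isoSpec_Spec_inv, ← Spec.map_comp]
    rfl
  have hcomp : i ≫ p = CohB1.ProjSpace.toSpec n R := by
    have h1 := hP.chart_over ⊤ hU
    dsimp only [i]
    rw [Category.assoc, Category.assoc, ← h1, Iso.inv_hom_id_assoc, ← hs₀, ← key, IsIso.inv_hom_id_assoc]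
  exact Groth.Agent.Helper18KE.isProjective_of_closedImmersion_bundle _ E hE hft 𝒯 j hj p chart hP i hcomp

/-- **H-projective morphisms are projective.** -/
theorem isProjective_of_isHProjective {X S : Scheme.{u}} (f : X ⟶ S) (hf : RelProj.IsHProjective f) :
    RelProj.IsProjective f := by
  obtain ⟨n, i, hi, rfl⟩ := hf
  have h1 := isProjective_projSpace_toSpec (ULift.{u} ℤ) n
  have h2 : RelProj.IsProjective (CohB1.ProjSpaceOver.toBase n S) :=
    Groth.Agent.Helper18KF.isProjective_baseChange _ h1 _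
  exact Groth.Agent.Helper18KF.isProjective_closedImmersion_comp i _ h2

end scheme

end Groth.Agent.Helper18KG
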