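import Groth.Agent.Lib.Helper18KF

/-!
# helper18: projectivity is stable under base change (pullback-square form); locally projective morphisms
-/

set_option autoImplicit false
set_option linter.unusedSectionVars false
set_option linter.style.haveILetI false
universe u

open CategoryTheory CategoryTheory.Limits AlgebraicGeometry TopologicalSpace Opposite

namespace Groth.Agent.Helper18KH

open Groth.Agent.Helper18KF

/-- an isomorphism followed by a projective morphism is projective. -/
theorem isProjective_iso_comp {X' X Y : Scheme.{u}} (e : X' ≅ X) (f : X ⟶ Y) (hf : RelProj.IsProjective f) :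
    RelProj.IsProjective (e.hom ≫ f) :=
  isProjective_closedImmersion_comp e.hom f hf

/-- base change of a projective morphism, for an arbitrary pullback square. -/
theorem isProjective_of_isPullback {X' X Y' Y : Scheme.{u}} {fst : X' ⟶ X} {snd : X' ⟶ Y'} {f : X ⟶ Y} {g : Y' ⟶ Y}
    (h : IsPullback fst snd f g) (hf : RelProj.IsProjective f) : RelProj.IsProjective snd := by
  have h1 := isProjective_iso_comp h.isoPullback (pullback.snd f g) (isProjective_baseChange f hf g)
  rwa [h.isoPullback_hom_snd] at h1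

/-- the restriction of a projective morphism over an open of the base is projective. -/
theorem isProjective_morphismRestrict {X Y : Scheme.{u}} (f : X ⟶ Y) (hf : RelProj.IsProjective f) (U : Y.Opens) :
    RelProj.IsProjective (f ∣_ U) :=
  isProjective_of_isPullback (isPullback_morphismRestrict f U).flip hf

/-- restriction to a smaller open -/
theorem isProjective_morphismRestrict_of_le {X Y : Scheme.{u}} (f : X ⟶ Y) {U V : Y.Opens} (hVU : V ≤ U)
    (hf : RelProj.IsProjective (f ∣_ U)) : RelProj.IsProjective (f ∣_ V) := by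
  have t : IsPullback (f ⁻¹ᵁ U).ι (f ∣_ U) f U.ι := (isPullback_morphismRestrict f U).flip
  have s : IsPullback (f ⁻¹ᵁ V).ι (f ∣_ V) f V.ι := (isPullback_morphismRestrict f V).flip
  have s' : IsPullback (X.homOfLE (f.preimage_mono hVU) ≫ (f ⁻¹ᵁ U).ι) (f ∣_ V) f (Y.homOfLE hVU ≫ U.ι) := by
    rw [Scheme.homOfLE_ι, Scheme.homOfLE_ι]; exact s
  refine isProjective_of_isPullback (IsPullback.of_right s' ?_ t) hf
  rw [← cancel_mono U.ι, Category.assoc, Category.assoc, morphismRestrict_ι, Scheme.homOfLE_ι_assoc,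
    Scheme.homOfLE_ι, morphismRestrict_ι]

/-- **base change of a locally projective morphism is locally projective.** -/
theorem isLocallyProjective_baseChange {X S S' : Scheme.{u}} (f : X ⟶ S) (hf : RelProj.IsLocallyProjective f)
    (g : S' ⟶ S) : RelProj.IsLocallyProjective (pullback.snd f g) := by
  intro s'
  obtain ⟨U, hsU, hU⟩ := hf (g s')
  refine ⟨g ⁻¹ᵁ U, hsU, ?_⟩
  have t : IsPullback (f ⁻¹ᵁ U).ι (f ∣_ U) f U.ι := (isPullback_morphismRestrict f U).flip
  have A : IsPullback ((pullback.snd f g) ⁻¹ᵁ (g ⁻¹ᵁ U)).ι (pullback.snd f g ∣_ (g ⁻¹ᵁ U)) (pullback.snd f g)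
      (g ⁻¹ᵁ U).ι := (isPullback_morphismRestrict (pullback.snd f g) (g ⁻¹ᵁ U)).flip
  have B : IsPullback (pullback.fst f g) (pullback.snd f g) f g := IsPullback.of_hasPullback f g
  have AB := A.paste_horiz B
  have hcomm : (g ⁻¹ᵁ U).ι ≫ g = (g ∣_ U) ≫ U.ι := (morphismRestrict_ι g U).symm
  rw [hcomm] at AB
  have hc : (((pullback.snd f g) ⁻¹ᵁ (g ⁻¹ᵁ U)).ι ≫ pullback.fst f g) ≫ f =
      ((pullback.snd f g ∣_ (g ⁻¹ᵁ U)) ≫ (g ∣_ U)) ≫ U.ι := by
    rw [AB.w, Category.assoc]
  have s' : IsPullback (t.lift _ _ hc ≫ (f ⁻¹ᵁ U).ι) (pullback.snd f g ∣_ (g ⁻¹ᵁ U)) f ((g ∣_ U) ≫ U.ι) := by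
    rw [t.lift_fst]; exact AB
  exact isProjective_of_isPullback (IsPullback.of_right s' (t.lift_snd _ _ hc) t) hU

end Groth.Agent.Helper18KH
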