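import Groth.Agent.Lib.Helper18KH
import Groth.Agent.Lib.Helper18KG
import Groth.Agent.Lib.Helper18BiprodCI
import Groth.Agent.Lib.Helper23FinTypeLocal
import Groth.Agent.Lib.Helper18FittSh4
import Groth.Agent.Lib.Helper1Fib3

/-!
# helper18: an epimorphism of quasi-coherent modules induces a closed immersion of projective bundles;
projective over an affine base implies H-projective
-/

set_option autoImplicit false
set_option linter.unusedSectionVars false
set_option linter.style.haveILetI false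
universe u

open CategoryTheory CategoryTheory.Limits AlgebraicGeometry TopologicalSpace Opposite
open scoped HomogeneousIdeal

namespace Groth.Agent.Helper18KI

open Groth.Agent.Helper13SymAlg Groth.Agent.Helper13SymLoc Groth.Agent.Helper18DegOne

section epi

variable {Y P P' : Scheme.{u}} (E E' : Y.Modules) (hE : Coh.IsQCoh E) (hE' : Coh.IsQCoh E')
  (u : E' ⟶ E) [Epi u]
  (𝒮 : RelProj.QCGrAlg Y) (j : E ⟶ 𝒮.toModule) (hj : RelProj.IsGrSymAlg E 𝒮 j)
  (𝒮' : RelProj.QCGrAlg Y) (j' : E' ⟶ 𝒮'.toModule) (hj' : RelProj.IsGrSymAlg E' 𝒮' j')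

include hE hE' hj in
/-- an algebra homomorphism `Sym(E') ⟶ Sym(E)` over an epimorphism `E' ⟶ E` is surjective on affine opens -/
theorem surjective_app_of_epi (π : 𝒮'.toQCAlg ⟶ 𝒮.toQCAlg)
    (hπ : j' ≫ RelSpec.QCAlg.Hom.toModuleMap π = u ≫ j) (U : Y.Opens) (hU : IsAffineOpen U) :
    Function.Surjective (π.hom.app (op U)).hom := by
  have : E.IsQuasicoherent := hE
  have : E'.IsQuasicoherent := hE'
  have hu := Groth.Agent.Lib.Helper23.FinType.surjective_app_of_epi u hU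
  have hbij := bijective_σ E U hU hj.1
  intro y
  obtain ⟨w, rfl⟩ := hbij.2 y
  clear hbij
  induction w using SymmetricAlgebra.induction with
  | algebraMap a =>
    unfold σ
    rw [symLift_algebraMap]
    refine ⟨(𝒮'.str.app (op U)).hom a, ?_⟩
    exact congrArg (fun t : Γ(Y, U) ⟶ _ => t.hom a) (NatTrans.congr_app π.comm (op U))
  | ι m =>
    unfold σ
    rw [symLift_ι]
    obtain ⟨m', rfl⟩ := hu m
    refine ⟨(j'.app U).hom m', ?_⟩
    have := congrArg (fun t : E' ⟶ 𝒮.toModule => (t.app U).hom m') hπ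
    exact this
  | mul a b ha hb =>
    obtain ⟨a', ha'⟩ := ha
    obtain ⟨b', hb'⟩ := hb
    exact ⟨a' * b', by rw [map_mul, map_mul, ha', hb']⟩
  | add a b ha hb =>
    obtain ⟨a', ha'⟩ := ha
    obtain ⟨b', hb'⟩ := hb
    exact ⟨a' + b', by rw [map_add, map_add, ha', hb']⟩

variable (p : P ⟶ Y)
  (chart : ∀ (U : Y.Opens) (hU : IsAffineOpen U), ((p ⁻¹ᵁ U : P.Opens) : Scheme.{u}) ≅ Proj (𝒮.deg U hU))
  (hP : RelProj.IsRelProj 𝒮 p chart) (p' : P' ⟶ Y)
  (chart' : ∀ (U : Y.Opens) (hU : IsAffineOpen U), ((p' ⁻¹ᵁ U : P'.Opens) : Scheme.{u}) ≅ Proj (𝒮'.deg U hU))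
  (hP' : RelProj.IsRelProj 𝒮' p' chart')

include hE hE' hj hj' hP hP' u in
/-- **an epimorphism `E' ⟶ E` induces a closed immersion `P(E) ⟶ P(E')` over the base.** -/
theorem exists_closedImmersion_of_epi : ∃ c : P ⟶ P', IsClosedImmersion c ∧ c ≫ p' = p := by
  obtain ⟨π, hπ, -⟩ := hj'.1 𝒮.toQCAlg (u ≫ j)
  have hgr : RelProj.IsGradedHom π := by
    refine isGradedHom_of_factor 𝒮 E' hE' 𝒮' j' hj' π (fun U hU e => ?_)
    rw [hπ]
    exact hj.2 U hU ((u.app U).hom e)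
  have hsurj : ∀ (U : Y.Opens) (hU : IsAffineOpen U),
      Function.Surjective (RelProj.gradedHomAt π hgr U hU) := fun U hU =>
    surjective_app_of_epi E E' hE hE' u 𝒮 j hj 𝒮' j' π hπ U hU
  have hirr : ∀ (U : Y.Opens) (hU : IsAffineOpen U),
      (𝒮.deg U hU)₊ ≤ ((𝒮'.deg U hU)₊).map (RelProj.gradedHomAt π hgr U hU) := fun U hU =>
    Groth.Agent.Helper18DU.irrelevant_le_map_of_surjective _ (hsurj U hU)
  obtain ⟨c, hc⟩ := Groth.Agent.Helper13RelProj.exists_relProjMap π hgr hirr hP' hP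
  refine ⟨c, ?_, Groth.Agent.Lib.Helper27RelProj4.relProjMap_over π hgr hirr hP' hP hc⟩
  apply Groth.Agent.Lib.Helper27RelProj4.relProjMap_of_charts (P := @IsClosedImmersion) π hgr hirr hP' hP hc
  intro U hU
  exact Groth.Agent.Lib.Helper27RelProj4.map_isClosedImmersion _ _ (hsurj U hU)

end epi

section affine

open Groth.Agent.Helper18FittSh

/-- on an affine scheme a quasi-coherent module of finite type is a quotient of a free module of positive finite rank -/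
theorem exists_epi_freeMod_of_isAffine {Z : Scheme.{u}} [IsAffine Z] (F : Z.Modules) [F.IsQuasicoherent]
    (hft : CohB1.IsFT F) : ∃ (n : ℕ) (π : FlatMod.freeMod Z (n + 1) ⟶ F), Epi π := by
  have hfin : Module.Finite Γ(Z, ⊤) Γ(F, ⊤) :=
    (Groth.Agent.Lib.Helper23.FinType.isFiniteType_iff_forall_affine F).1 hft ⊤ (isAffineOpen_top Z)
  obtain ⟨r, g, hg⟩ := Module.Finite.exists_fin (R := Γ(Z, ⊤)) (M := Γ(F, ⊤))
  let g' : Fin (r + 1) → Γ(F, ⊤) := Fin.cons 0 g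
  have hg' : Submodule.span Γ(Z, ⊤) (Set.range g') = ⊤ := by
    rw [eq_top_iff, ← hg]
    refine Submodule.span_mono ?_
    rintro _ ⟨i, rfl⟩
    exact ⟨i.succ, by simp [g']⟩
  obtain ⟨π, hπ⟩ := exists_epi_freeMod_restrict F (isAffineOpen_top Z) g' hg'
  let θ : (↑(⊤ : Z.Opens) : Scheme.{u}) ≅ Z := Z.topIso
  have hk : θ.inv ≫ θ.hom = 𝟙 Z := θ.inv_hom_id
  let ε : (Scheme.Modules.restrictFunctor θ.inv).obj ((Scheme.Modules.restrictFunctor θ.hom).obj F) ≅ F :=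
    ((Scheme.Modules.restrictFunctorComp θ.inv θ.hom).app F).symm ≪≫
      (Scheme.Modules.restrictFunctorCongr hk).app F ≪≫ (Scheme.Modules.restrictFunctorId).app F
  let ρ : (Scheme.Modules.restrictFunctor θ.inv).obj (FlatMod.freeMod (↑(⊤ : Z.Opens) : Scheme.{u}) (r + 1)) ≅
      FlatMod.freeMod Z (r + 1) := Groth.Agent.Lib.Helper20.LocFree.restrictFreeMod θ.inv (r + 1)
  let π' : FlatMod.freeMod (↑(⊤ : Z.Opens) : Scheme.{u}) (r + 1) ⟶ (Scheme.Modules.restrictFunctor θ.hom).obj F := π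
  haveI : Epi π' := hπ
  haveI : Epi ((Scheme.Modules.restrictFunctor θ.inv).map π') := inferInstance
  refine ⟨r, ρ.inv ≫ (Scheme.Modules.restrictFunctor θ.inv).map π' ≫ ε.hom, ?_⟩
  haveI : Epi ((Scheme.Modules.restrictFunctor θ.inv).map π' ≫ ε.hom) := epi_comp _ _
  exact epi_comp _ _

end affine

section projSpace

open Groth.Agent.Helper18KG Groth.Agent.Helper18ProjProper

variable (R : Type u) [CommRing R] (n : ℕ)

/-- projective space over a ring is the projective bundle of the free module -/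
theorem exists_bundle_iso_projSpace :
    ∃ (𝒯 : RelProj.QCGrAlg (Spec (CommRingCat.of R)))
      (j : FlatMod.freeMod (Spec (CommRingCat.of R)) (n + 1) ⟶ 𝒯.toModule)
      (_ : RelProj.IsGrSymAlg (FlatMod.freeMod (Spec (CommRingCat.of R)) (n + 1)) 𝒯 j)
      (P : Scheme.{u}) (p : P ⟶ Spec (CommRingCat.of R))
      (chart : ∀ (U : (Spec (CommRingCat.of R)).Opens) (hU : IsAffineOpen U),
        ((p ⁻¹ᵁ U : P.Opens) : Scheme.{u}) ≅ Proj (𝒯.deg U hU))
      (_ : RelProj.IsRelProj 𝒯 p chart) (e : CohB1.ProjSpace n R ≅ P),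
      e.hom ≫ p = CohB1.ProjSpace.toSpec n R := by
  let Y : Scheme.{u} := Spec (CommRingCat.of R)
  let E : Y.Modules := FlatMod.freeMod Y (n + 1)
  have : E.IsQuasicoherent := Groth.Agent.Lib.Helper20.LocFree.isQuasicoherent_freeMod Y (n + 1)
  have hE : Coh.IsQCoh E := this
  obtain ⟨𝒯, j, hj⟩ := Groth.Agent.Helper18GrSym.exists_isGrSymAlg E hE
  have hP := Groth.Agent.Helper13ProjBC.isRelProj_relProj 𝒯
  set p := Groth.Agent.Helper13ProjBC.relProjπ 𝒯 with hp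
  set chart := Groth.Agent.Helper13ProjBC.relProjChart 𝒯 with hchart
  have hU : IsAffineOpen (⊤ : Y.Opens) := isAffineOpen_top Y
  obtain ⟨eq⟩ := Groth.Agent.Lib.Helper2.RankLoc.nonempty_sections_equiv_of_iso_freeMod E (Iso.refl _) hU
  let b : Module.Basis (Fin (n + 1)) Γ(Y, ⊤) Γ(E, ⊤) := Module.Basis.ofRepr eq
  have hb1 := bijective_evalMv E 𝒯 j hj hU b
  let ρ : R →+* Γ(Y, ⊤) := (Scheme.ΓSpecIso (CommRingCat.of R)).inv.hom
  have hρ : Function.Bijective ρ :=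
    (ConcreteCategory.bijective_of_isIso (Scheme.ΓSpecIso (CommRingCat.of R)).inv)
  let s : R →+* 𝒯.presheaf.obj (op ⊤) := (𝒯.str.app (op ⊤)).hom.comp ρ
  have hs : ∀ r, s r ∈ 𝒯.deg ⊤ hU 0 := fun r => 𝒯.str_mem ⊤ hU (ρ r)
  let a : Fin (n + 1) → 𝒯.presheaf.obj (op ⊤) := fun i => φAdd E 𝒯.toQCAlg j ⊤ (b i)
  have ha : ∀ i, a i ∈ 𝒯.deg ⊤ hU 1 := fun i => hj.2 ⊤ hU (b i)
  have hbij : Function.Bijective (MvPolynomial.eval₂Hom s a) := by
    have h1 : (MvPolynomial.eval₂Hom s a : MvPolynomial (Fin (n + 1)) R →+* _) =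
        (MvPolynomial.eval₂Hom (𝒯.str.app (op ⊤)).hom a).comp (MvPolynomial.map ρ) := by
      refine MvPolynomial.ringHom_ext (fun r => ?_) (fun i => ?_)
      · simp [s]
      · simp
    rw [h1]
    refine hb1.comp ⟨MvPolynomial.map_injective _ hρ.1, MvPolynomial.map_surjective _ hρ.2⟩
  obtain ⟨hirr, hiso⟩ := exists_isIso_map_polyHom (𝒯.deg ⊤ hU) s hs n a ha hbij
  let m : Proj (𝒯.deg ⊤ hU) ⟶ CohB1.ProjSpace n R := Proj.map (polyHom (𝒯.deg ⊤ hU) s hs n a ha) hirr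
  let s₀ : R →+* 𝒯.deg ⊤ hU 0 := (𝒯.strZero ⊤ hU).hom.comp ρ
  have key : m ≫ CohB1.ProjSpace.toSpec n R = Proj.toSpecZero (𝒯.deg ⊤ hU) ≫ Spec.map (CommRingCat.ofHom s₀) :=
    Groth.Agent.Lib.Helper27RelProj4.map_toSpecZero (polyHom (𝒯.deg ⊤ hU) s hs n a ha) hirr
    (algebraMap R (CohB1.polyGrading n R 0)) s₀ (fun r => by
      rw [polyHom_apply]
      change MvPolynomial.eval₂Hom s a (MvPolynomial.C r) = s r
      rw [MvPolynomial.coe_eval₂Hom, MvPolynomial.eval₂_C])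
  have hιiso : IsIso (p ⁻¹ᵁ (⊤ : Y.Opens)).ι := by
    change IsIso (Scheme.topIso (Groth.Agent.Helper13ProjBC.relProj 𝒯)).hom
    infer_instance
  haveI : IsIso m := hiso
  let i : CohB1.ProjSpace n R ⟶ Groth.Agent.Helper13ProjBC.relProj 𝒯 :=
    inv m ≫ (chart ⊤ hU).inv ≫ (p ⁻¹ᵁ (⊤ : Y.Opens)).ι
  have hi : IsIso i := by dsimp only [i]; infer_instance
  have hs₀ : Spec.map (CommRingCat.ofHom s₀) = Spec.map (𝒯.strZero ⊤ hU) ≫ hU.fromSpec := by
    rw [IsAffineOpen.fromSpec_top, Scheme.isoSpec_Spec_inv, ← Spec.map_comp]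
    rfl
  have hcomp : i ≫ p = CohB1.ProjSpace.toSpec n R := by
    have h1 := hP.chart_over ⊤ hU
    dsimp only [i]
    rw [Category.assoc, Category.assoc, ← h1, Iso.inv_hom_id_assoc, ← hs₀, ← key, IsIso.inv_hom_id_assoc]
  exact ⟨𝒯, j, hj, _, p, chart, hP, asIso i, hcomp⟩

end projSpace

section hproj

/-- **over an affine base projective morphisms are H-projective.** -/
theorem isHProjective_of_isProjective_of_isAffine {Z Y : Scheme.{u}} [IsAffine Y] (g : Z ⟶ Y)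
    (hg : RelProj.IsProjective g) : RelProj.IsHProjective g := by
  obtain ⟨E, 𝒯, j, P, p, chart, i, hE, hft, hj, hP, hi, hcomp⟩ :=
    Groth.Agent.Helper18KE.exists_closedImmersion_bundle g hg
  have : E.IsQuasicoherent := hE
  obtain ⟨n, π, hπ⟩ := exists_epi_freeMod_of_isAffine E hft
  let T : Scheme.{u} := Spec (CommRingCat.of (ULift.{u} ℤ))
  let ψ : Y ⟶ T := specULiftZIsTerminal.from Y
  obtain ⟨𝒯₀, j₀, hj₀, P₀, p₀, chart₀, hP₀, e₀, he₀⟩ := exists_bundle_iso_projSpace (ULift.{u} ℤ) n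
  have hE₀ : Coh.IsQCoh (FlatMod.freeMod T (n + 1)) :=
    Groth.Agent.Lib.Helper20.LocFree.isQuasicoherent_freeMod T (n + 1)
  obtain ⟨O1, lam, hO1⟩ := Groth.Agent.Lib.Helper2.RelTwistExist.exists_isRelTwist p₀ chart₀ hP₀ 1
  obtain ⟨𝒮', j', hj', P', p', chart', hP', O1', lam', hO1', h, hpb, -⟩ :=
    Groth.Agent.Helper18OI.exists_baseChange' ψ (FlatMod.freeMod T (n + 1)) hE₀ 𝒯₀ j₀ hj₀ p₀ chart₀ hP₀ O1 lam hO1
  let u : (Scheme.Modules.pullback ψ).obj (FlatMod.freeMod T (n + 1)) ⟶ E :=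
    (Groth.Agent.Lib.Helper1.Fib.pullbackFreeModIso ψ (n + 1)).hom ≫ π
  haveI : Epi u := epi_comp _ _
  have : (FlatMod.freeMod T (n + 1)).IsQuasicoherent := hE₀
  have hE' : Coh.IsQCoh ((Scheme.Modules.pullback ψ).obj (FlatMod.freeMod T (n + 1))) :=
    Groth.Agent.Lib.Helper2.PullbackSec.isQuasicoherent_pullback ψ _
  obtain ⟨c, hc, hcp⟩ := exists_closedImmersion_of_epi E _ hE hE' u 𝒯 j hj 𝒮' j' hj' p chart hP p' chart' hP'
  have hsq : IsPullback e₀.inv p₀ (CohB1.ProjSpace.toSpec n (ULift.{u} ℤ)) (𝟙 T) :=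
    IsPullback.of_horiz_isIso ⟨by rw [← he₀, Iso.inv_hom_id_assoc, Category.comp_id]⟩
  have hpb' : IsPullback (h ≫ e₀.inv) p' (CohB1.ProjSpace.toSpec n (ULift.{u} ℤ)) ψ := by
    have := hpb.paste_horiz hsq
    rwa [Category.comp_id] at this
  refine ⟨n, i ≫ c ≫ hpb'.isoPullback.hom, inferInstance, ?_⟩
  change (i ≫ c ≫ hpb'.isoPullback.hom) ≫ pullback.snd _ _ = g
  rw [Category.assoc, Category.assoc, hpb'.isoPullback_hom_snd, hcp, hcomp]

/-- **locally projective is the same as locally H-projective.** -/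
theorem isLocallyProjective_iff {X S : Scheme.{u}} (f : X ⟶ S) :
    RelProj.IsLocallyProjective f ↔ ∀ s : S, ∃ U : S.Opens, s ∈ U ∧ RelProj.IsHProjective (f ∣_ U) := by
  constructor
  · intro hf s
    obtain ⟨U, hsU, hU⟩ := hf s
    obtain ⟨V, hV, hsV, hVU⟩ := exists_isAffineOpen_mem_and_subset (x := s) (U := U) hsU
    haveI : IsAffine (↑V : Scheme.{u}) := hV
    exact ⟨V, hsV, isHProjective_of_isProjective_of_isAffine _
      (Groth.Agent.Helper18KH.isProjective_morphismRestrict_of_le f hVU hU)⟩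
  · intro hf s
    obtain ⟨U, hsU, hU⟩ := hf s
    exact ⟨U, hsU, Groth.Agent.Helper18KG.isProjective_of_isHProjective _ hU⟩

end hproj

end Groth.Agent.Helper18KI
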