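import Groth.Agent.Lib.Helper13ProjQuotIdeal
import Groth.Agent.Lib.Helper27ProjSpaceBC2
import Groth.Agent.Lib.Helper17FinProjLoc
import Groth.Agent.Lib.Helper23Restr
import Groth.Agent.Lib.Helper27RelProj4
import Groth.Agent.S2330

/-!
# helper18: a proper scheme over an affine base with a relatively ample module is `Proj` of a graded algebra
generated by finitely many degree one elements
-/

set_option autoImplicit false
set_option linter.unusedSectionVars false
set_option linter.style.haveILetI false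
universe u

open CategoryTheory CategoryTheory.Limits AlgebraicGeometry TopologicalSpace Opposite
open scoped HomogeneousIdeal

namespace Groth.Agent.Helper18KJ

open Groth.Agent.Helper13ProjQuotIdeal Groth.Agent.Helper13GradedQuot

section quot

variable {R A : Type u} [CommRing R] [CommRing A] [Algebra R A] {𝒜 : ℕ → Submodule R A}
  [GradedAlgebra 𝒜]
variable {ι : Type u} {f : ι → A} (hf : ∀ i, f i ∈ 𝒜 1)

include hf in
/-- closed subschemes of `Proj 𝒜` are `Proj` of graded quotient algebras (algebra version) -/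
theorem exists_proj_quot_alg [Finite ι] (hcov : ⨆ i, Proj.basicOpen 𝒜 (f i) = ⊤) {Z : Scheme.{u}}
    (i : Z ⟶ Proj 𝒜) [IsClosedImmersion i] :
    ∃ (B : Type u) (_ : CommRing B) (_ : Algebra R B) (ℬ : ℕ → Submodule R B)
      (_ : GradedAlgebra ℬ) (φ : 𝒜 →+*ᵍ ℬ) (_ : Function.Surjective φ)
      (_ : ∀ r : R, φ (algebraMap R A r) = algebraMap R B r)
      (hφ : HomogeneousIdeal.irrelevant ℬ ≤ (HomogeneousIdeal.irrelevant 𝒜).map φ)
      (e : Z ≅ Proj ℬ), e.hom ≫ Proj.map φ hφ = i := by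
  letI : GradedAlgebra (qgr 𝒜 (J hf i.ker).toIdeal) :=
    gradedAlgebraQuot 𝒜 (J hf i.ker).toIdeal (J hf i.ker).isHomogeneous
  have hsurj := quotHom_surjective 𝒜 (J hf i.ker).toIdeal
  have hφ := irrelevant_le_map (quotHom 𝒜 (J hf i.ker).toIdeal) hsurj
  haveI : IsClosedImmersion (Proj.map (quotHom 𝒜 (J hf i.ker).toIdeal) hφ) :=
    Groth.Agent.Lib.Helper27ProjClosed.isClosedImmersion_map _ hsurj hφ
  have hker : (Proj.map (quotHom 𝒜 (J hf i.ker).toIdeal) hφ).ker = i.ker := by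
    refine Scheme.IdealSheafData.ext_of_iSup_eq_top (Uaff hf) hcov (fun j => ?_)
    rw [Scheme.Hom.ker_apply]
    ext x
    obtain ⟨k, a, ha, rfl⟩ := exists_dehom_eq hf j x
    rw [RingHom.mem_ker]
    refine (map_app_dehom_eq_zero_iff _ hφ (hf j) ha).trans ?_
    refine Iff.trans ?_ (dehom_mem_iff hf i.ker j ha).symm
    simp only [quotHom_eq_zero_iff]
  haveI := IsClosedImmersion.isIso_lift (Proj.map (quotHom 𝒜 (J hf i.ker).toIdeal) hφ) i hker
  exact ⟨_, _, _, _, _, quotHom 𝒜 (J hf i.ker).toIdeal, hsurj, fun r => rfl, hφ,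
    asIso (IsClosedImmersion.lift (Proj.map (quotHom 𝒜 (J hf i.ker).toIdeal) hφ) i hker.le),
    IsClosedImmersion.lift_fac _ _ _⟩

end quot

section main

open Groth.Agent.Lib.Helper27ProjSpaceBC

/-- **a proper scheme over an affine base carrying a relatively ample module is a `Proj`.** -/
theorem exists_iso_proj_of_isProper_of_isRelAmple {A : Type u} [CommRing A] {X : Scheme.{u}}
    (f : X ⟶ Spec (CommRingCat.of A)) [IsProper f]
    (L : X.Modules) (hL : PicF.IsInvertible L) (hamp : RelAmple.IsRelAmple f L) :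
    ∃ (S : Type u) (_ : CommRing S) (_ : Algebra A S) (𝒮 : ℕ → Submodule A S) (_ : GradedAlgebra 𝒮) (s : Finset S),
      Function.Surjective (algebraMap A (𝒮 0)) ∧ (∀ g ∈ s, g ∈ 𝒮 1) ∧
      (HomogeneousIdeal.irrelevant 𝒮).toIdeal = Ideal.span (s : Set S) ∧
      ∃ e : X ≅ Proj 𝒮, e.hom ≫ Proj.toSpecZero 𝒮 ≫ Spec.map (CommRingCat.ofHom (algebraMap A (𝒮 0))) = f := by
  classical
  have hA : CohB1.IsAmple L :=
    Groth.Agent.Lib.Helper23.SecTw.isAmple_of_restrict_top L (f ⁻¹ᵁ ⊤) rfl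
      (hamp.2 ⟨⊤, isAffineOpen_top _⟩)
  obtain ⟨n₀, hn₀⟩ := (Groth.Agent.S2330.result f L hL).2 hA
  obtain ⟨m, i, hi, hiq, -⟩ := hn₀ n₀ le_rfl
  haveI := hi
  haveI : IsClosedImmersion i :=
    Groth.Agent.Lib.Helper17.FinLoc.isClosedImmersion_of_isImmersion_projSpaceOver m i f hiq
  let j₀ : X ⟶ CohB1.ProjSpace m A := i ≫ (overIso m A).inv
  have hj₀ : j₀ ≫ CohB1.ProjSpace.toSpec m A = f := by
    dsimp only [j₀]
    rw [Category.assoc, overIso_inv_toSpec]
    exact hiq
  haveI : IsClosedImmersion j₀ := by dsimp only [j₀]; infer_instance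
  let j : X ⟶ Proj (CohB1.polyGrading m A) := j₀
  have hj : j ≫ CohB1.ProjSpace.toSpec m A = f := hj₀
  let fX : ULift.{u} (Fin (m + 1)) → MvPolynomial (Fin (m + 1)) A := fun k => MvPolynomial.X k.down
  have hfX : ∀ k, fX k ∈ CohB1.polyGrading m A 1 := fun k => hX m A k.down
  have hspan : (HomogeneousIdeal.irrelevant (CohB1.polyGrading m A)).toIdeal ≤ Ideal.span (Set.range fX) := by
    refine (irrelevant_le_span (CohB1.polyGrading m A)
      (fun k : Fin (m + 1) => (MvPolynomial.X k : MvPolynomial (Fin (m + 1)) A)) (fun _ => 1)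
      (hX m A) MvPolynomial.adjoin_range_X).trans ?_
    refine Ideal.span_mono ?_
    rintro _ ⟨k, rfl⟩
    exact ⟨⟨k⟩, rfl⟩
  have hcov : ⨆ k, Proj.basicOpen (CohB1.polyGrading m A) (fX k) = ⊤ :=
    Proj.iSup_basicOpen_eq_top (CohB1.polyGrading m A) fX hspan
  haveI : IsClosedImmersion j := inferInstanceAs (IsClosedImmersion j₀)
  obtain ⟨B, iB, iAB, ℬ, iℬ, φ, hsurj, halg, hφ, e, he⟩ := exists_proj_quot_alg hfX hcov j
  refine ⟨B, iB, iAB, ℬ, iℬ, Finset.univ.image (fun k : Fin (m + 1) => φ (MvPolynomial.X k)), ?_, ?_, ?_, e, ?_⟩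
  · rintro ⟨b, hb⟩
    obtain ⟨a, ha, rfl⟩ := Groth.Agent.Lib.Helper27RelProj4.exists_mem_of_surjective φ hsurj hb
    have ha' : a ∈ (1 : Submodule A (MvPolynomial (Fin (m + 1)) A)) := by
      rw [← MvPolynomial.homogeneousSubmodule_zero]; exact ha
    obtain ⟨r, rfl⟩ := Submodule.mem_one.1 ha'
    exact ⟨r, Subtype.ext (halg r).symm⟩
  · intro g hg
    obtain ⟨k, -, rfl⟩ := Finset.mem_image.1 hg
    exact φ.map_mem (hX m A k)
  · apply le_antisymm
    · have h1 : (HomogeneousIdeal.irrelevant ℬ).toIdeal ≤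
          ((HomogeneousIdeal.irrelevant (CohB1.polyGrading m A)).map φ).toIdeal := hφ
      rw [HomogeneousIdeal.toIdeal_map] at h1
      refine h1.trans ?_
      refine (Ideal.map_mono hspan).trans ?_
      rw [Ideal.map_span, Ideal.span_le]
      rintro _ ⟨_, ⟨k, rfl⟩, rfl⟩
      exact Ideal.subset_span (Finset.mem_coe.2 (Finset.mem_image.2 ⟨k.down, Finset.mem_univ _, rfl⟩))
    · rw [Ideal.span_le]
      intro g hg
      obtain ⟨k, -, rfl⟩ := Finset.mem_image.1 (Finset.mem_coe.1 hg)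
      exact HomogeneousIdeal.mem_irrelevant_of_mem _ one_pos (φ.map_mem (hX m A k))
  · have key := Groth.Agent.Lib.Helper27RelProj4.map_toSpecZero φ hφ
      (algebraMap A (CohB1.polyGrading m A 0)) (algebraMap A (ℬ 0)) (fun r => halg r)
    rw [← key, ← Category.assoc, he]
    exact hj

end main

end Groth.Agent.Helper18KJ
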