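import Mathlib

/-!
# Dehomogenization into `Away 𝒜 f` for `f` of degree one (helper27)

`dehA hf : A →+* Away 𝒜 f`, `a ∈ 𝒜 j ↦ a / f^j`; it is surjective.
-/

set_option autoImplicit false
universe u

open HomogeneousLocalization

namespace Groth.Agent.Lib.Helper27DehomAway

variable {R A : Type u} [CommRing R] [CommRing A] [Algebra R A] {𝒜 : ℕ → Submodule R A}
  [GradedAlgebra 𝒜]

theorem mem_smul_one {a : A} {j : ℕ} (ha : a ∈ 𝒜 j) : a ∈ 𝒜 (j • 1) := by
  simpa using ha

/-- the degree-`j` piece of dehomogenization: `a ↦ a / f^j` -/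
noncomputable def dehPiece {f : A} (hf : f ∈ 𝒜 1) (j : ℕ) : 𝒜 j →+ Away 𝒜 f where
  toFun a := Away.mk 𝒜 hf j a.1 (mem_smul_one a.2)
  map_zero' := by
    apply HomogeneousLocalization.val_injective
    rw [Away.val_mk, HomogeneousLocalization.val_zero]
    simp [Localization.mk_zero]
  map_add' a b := by
    apply HomogeneousLocalization.val_injective
    rw [HomogeneousLocalization.val_add, Away.val_mk, Away.val_mk, Away.val_mk,
      Localization.add_mk_self]
    rfl

/-- dehomogenization `A → Away 𝒜 f`, `a ∈ 𝒜 j ↦ a / f^j`, for `f` of degree one -/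
noncomputable def dehA {f : A} (hf : f ∈ 𝒜 1) : A →+* Away 𝒜 f :=
  (DirectSum.toSemiring (dehPiece hf)
    (by
      apply HomogeneousLocalization.val_injective
      change (Away.mk 𝒜 hf 0 _ _).val = _
      rw [Away.val_mk, HomogeneousLocalization.val_one, ← Localization.mk_one,
        Localization.mk_eq_mk_iff, Localization.r_iff_exists]
      exact ⟨1, by simp [GradedMonoid.GOne.one]⟩)
    (by
      intro i j a b
      apply HomogeneousLocalization.val_injective
      change (Away.mk 𝒜 hf (i + j) _ _).val = (Away.mk 𝒜 hf i _ _ * Away.mk 𝒜 hf j _ _).val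
      rw [HomogeneousLocalization.val_mul, Away.val_mk, Away.val_mk, Away.val_mk,
        Localization.mk_mul, Localization.mk_eq_mk_iff, Localization.r_iff_exists]
      exact ⟨1, by simp [GradedMonoid.GMul.mul, pow_add]⟩)).comp
    (DirectSum.decomposeRingEquiv 𝒜).toRingHom

theorem dehA_of_mem {f : A} (hf : f ∈ 𝒜 1) {j : ℕ} {a : A} (ha : a ∈ 𝒜 j) :
    dehA hf a = Away.mk 𝒜 hf j a (mem_smul_one ha) := by
  unfold dehA
  rw [RingHom.comp_apply]
  have : (DirectSum.decomposeRingEquiv 𝒜).toRingHom a = DirectSum.of (fun i => 𝒜 i) j ⟨a, ha⟩ :=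
    DirectSum.decompose_of_mem 𝒜 ha
  rw [this, DirectSum.toSemiring_of]
  rfl

theorem dehA_of_mem' {f : A} (hf : f ∈ 𝒜 1) {j : ℕ} {a : A} (ha : a ∈ 𝒜 (j • 1)) :
    dehA hf a = Away.mk 𝒜 hf j a ha :=
  dehA_of_mem hf (by simpa using ha)

theorem val_dehA_of_mem {f : A} (hf : f ∈ 𝒜 1) {j : ℕ} {a : A} (ha : a ∈ 𝒜 j) :
    (dehA hf a).val = Localization.mk a (⟨f ^ j, ⟨j, rfl⟩⟩ : Submonoid.powers f) := by
  rw [dehA_of_mem hf ha, Away.val_mk]

theorem dehA_self {f : A} (hf : f ∈ 𝒜 1) : dehA hf f = 1 := by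
  apply HomogeneousLocalization.val_injective
  rw [val_dehA_of_mem hf hf, HomogeneousLocalization.val_one, ← Localization.mk_one,
    Localization.mk_eq_mk_iff, Localization.r_iff_exists]
  exact ⟨1, by simp⟩

theorem dehA_surjective {f : A} (hf : f ∈ 𝒜 1) : Function.Surjective (dehA hf) := by
  intro x
  obtain ⟨k, a, ha, rfl⟩ := Away.mk_surjective 𝒜 hf x
  exact ⟨a, dehA_of_mem' hf ha⟩

/-- on degree zero, `dehA` is the structure map -/
theorem dehA_zero {f : A} (hf : f ∈ 𝒜 1) (a : 𝒜 0) :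
    dehA hf (a : A) = algebraMap (𝒜 0) (Away 𝒜 f) a := by
  apply HomogeneousLocalization.val_injective
  rw [val_dehA_of_mem hf a.2, HomogeneousLocalization.algebraMap_eq]
  change _ = (HomogeneousLocalization.mk _).val
  rw [HomogeneousLocalization.val_mk, Localization.mk_eq_mk_iff, Localization.r_iff_exists]
  exact ⟨1, by simp⟩

theorem dehA_algebraMap {f : A} (hf : f ∈ 𝒜 1) (r : R) :
    dehA hf (algebraMap R A r) =
      algebraMap (𝒜 0) (Away 𝒜 f) (algebraMap R (𝒜 0) r) :=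
  dehA_zero hf (algebraMap R (𝒜 0) r)

/-- naturality of `dehA` in graded ring homs. -/
theorem map_dehA {R' B : Type u} [CommRing R'] [CommRing B] [Algebra R' B]
    {ℬ : ℕ → Submodule R' B} [GradedAlgebra ℬ] (φ : 𝒜 →+*ᵍ ℬ) {f : A} (hf : f ∈ 𝒜 1) (a : A) :
    Away.map φ f (dehA hf a) = dehA (φ.map_mem hf) (φ a) := by
  classical
  rw [← DirectSum.sum_support_decompose 𝒜 a, map_sum, map_sum, map_sum, map_sum]
  refine Finset.sum_congr rfl (fun j _ => ?_)
  have h1 : (DirectSum.decompose 𝒜 a j : A) ∈ 𝒜 j := SetLike.coe_mem _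
  rw [dehA_of_mem hf h1, Away.map_mk]
  exact (dehA_of_mem (φ.map_mem hf) (φ.map_mem h1)).symm

end Groth.Agent.Lib.Helper27DehomAway
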