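import Groth.Agent.Lib.Helper27ProjGamma2
import Groth.Agent.Lib.Helper27DehomAway

/-!
# Projective space commutes with base change: the ring-level pushout (helper27)
-/

set_option autoImplicit false
universe u

open CategoryTheory CategoryTheory.Limits AlgebraicGeometry HomogeneousLocalization MvPolynomial

namespace Groth.Agent.Lib.Helper27ProjSpaceBC

open Groth.Agent.Lib.Helper27DehomAway

section general
variable {R A : Type u} [CommRing R] [CommRing A] [Algebra R A] (𝒜 : ℕ → Submodule R A)
  [GradedAlgebra 𝒜]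

/-- if `A` is generated by homogeneous elements `f i` of positive degree, the irrelevant ideal is
contained in the ideal they span. -/
theorem irrelevant_le_span {ι : Type*} (f : ι → A) (deg : ι → ℕ)
    (hf : ∀ i, f i ∈ 𝒜 (deg i))
    (hgen : Algebra.adjoin R (Set.range f) = ⊤) :
    (HomogeneousIdeal.irrelevant 𝒜).toIdeal ≤ Ideal.span (Set.range f) := by
  classical
  intro x hx
  have hx' : x ∈ Algebra.adjoin R (Set.range f) := by rw [hgen]; trivial
  have key : ∀ z ∈ Algebra.adjoin R (Set.range f), ∀ k : ℕ, 0 < k →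
      (DirectSum.decompose 𝒜 z k : A) ∈ Ideal.span (Set.range f) := by
    intro z hz
    induction hz using Algebra.adjoin_induction with
    | mem z hz =>
      obtain ⟨i, rfl⟩ := hz
      intro k hk
      by_cases hik : deg i = k
      · subst hik
        rw [DirectSum.decompose_of_mem_same 𝒜 (hf i)]
        exact Ideal.subset_span ⟨i, rfl⟩
      · rw [DirectSum.decompose_of_mem_ne 𝒜 (hf i) hik]
        exact zero_mem _
    | algebraMap r =>
      intro k hk
      rw [DirectSum.decompose_of_mem_ne 𝒜 (SetLike.algebraMap_mem_graded 𝒜 r) (by omega)]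
      exact zero_mem _
    | add z z' _ _ hz hz' =>
      intro k hk
      rw [DirectSum.decompose_add, DirectSum.add_apply, Submodule.coe_add]
      exact add_mem (hz k hk) (hz' k hk)
    | mul z z' _ _ hz hz' =>
      intro k hk
      rw [DirectSum.decompose_mul, DirectSum.coe_mul_apply]
      apply Ideal.sum_mem
      rintro ⟨p, q⟩ hpq
      simp only [Finset.mem_filter] at hpq
      have hpqk : p + q = k := hpq.2
      by_cases hp : 0 < p
      · exact Ideal.mul_mem_right _ _ (hz p hp)
      · have hq : 0 < q := by omega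
        exact Ideal.mul_mem_left _ _ (hz' q hq)
  rw [← DirectSum.sum_support_decompose 𝒜 x]
  apply Ideal.sum_mem
  intro k _
  by_cases hk : k = 0
  · subst hk
    have h0 : (DirectSum.decompose 𝒜 x 0 : A) = 0 := by
      have := (HomogeneousIdeal.mem_irrelevant_iff 𝒜 x).mp hx
      rwa [GradedRing.proj_apply] at this
    rw [h0]
    exact zero_mem _
  · exact key x hx' k (Nat.pos_of_ne_zero hk)

/-- the structure map `R → A_(f)`. -/
noncomputable def strA (f : A) : R →+* Away 𝒜 f :=
  (algebraMap (𝒜 0) (Away 𝒜 f)).comp (algebraMap R (𝒜 0))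

theorem dehA_algebraMap' {f : A} (hf : f ∈ 𝒜 1) (r : R) :
    dehA hf (algebraMap R A r) = strA 𝒜 f r :=
  dehA_algebraMap hf r

end general

variable (n : ℕ) (R : Type u) [CommRing R]

/-- the unique ring hom `ℤ → R`. -/
noncomputable def bc : ULift.{u} ℤ →+* R :=
  (Int.castRingHom R).comp (ULift.ringEquiv : ULift.{u} ℤ ≃+* ℤ).toRingHom

theorem bc_unique {B : Type u} [CommRing B] (p q : ULift.{u} ℤ →+* B) : p = q := by
  have : (CommRingCat.ofHom p) = CommRingCat.ofHom q := CommRingCat.isInitial.hom_ext _ _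
  exact congrArg CommRingCat.Hom.hom this

/-- base change of polynomials, as a graded ring hom. -/
noncomputable def bcg :
    CohB1.polyGrading n (ULift.{u} ℤ) →+*ᵍ CohB1.polyGrading n R :=
  { toRingHom := MvPolynomial.map (bc R)
    map_mem := fun {_ _} hx => (mem_homogeneousSubmodule _ _).mpr
      (((mem_homogeneousSubmodule _ _).mp hx).map (bc R)) }

theorem bcg_apply (x : MvPolynomial (Fin (n + 1)) (ULift.{u} ℤ)) :
    bcg n R x = MvPolynomial.map (bc R) x := rfl

theorem bcg_X (i : Fin (n + 1)) : bcg n R (X i) = X i := by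
  rw [bcg_apply, map_X]

theorem bcg_C (z : ULift.{u} ℤ) : bcg n R (C z) = C (bc R z) := by
  rw [bcg_apply, map_C]

theorem hX (i : Fin (n + 1)) :
    (X i : MvPolynomial (Fin (n + 1)) R) ∈ CohB1.polyGrading n R 1 :=
  (mem_homogeneousSubmodule _ _).mpr (isHomogeneous_X R i)

theorem X_mem_irrelevant (i : Fin (n + 1)) :
    (X i : MvPolynomial (Fin (n + 1)) R) ∈ HomogeneousIdeal.irrelevant (CohB1.polyGrading n R) := by
  rw [HomogeneousIdeal.mem_irrelevant_iff, GradedRing.proj_apply,
    DirectSum.decompose_of_mem_ne _ (hX n R i) (by norm_num)]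

theorem hbcg :
    HomogeneousIdeal.irrelevant (CohB1.polyGrading n R) ≤
      (HomogeneousIdeal.irrelevant (CohB1.polyGrading n (ULift.{u} ℤ))).map (bcg n R) := by
  change (HomogeneousIdeal.irrelevant (CohB1.polyGrading n R)).toIdeal ≤
    ((HomogeneousIdeal.irrelevant (CohB1.polyGrading n (ULift.{u} ℤ))).map (bcg n R)).toIdeal
  rw [HomogeneousIdeal.toIdeal_map]
  refine (irrelevant_le_span (CohB1.polyGrading n R)
    (fun j : Fin (n + 1) => (X j : MvPolynomial (Fin (n + 1)) R)) (fun _ => 1)
    (hX n R) MvPolynomial.adjoin_range_X).trans ?_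
  rw [Ideal.span_le]
  rintro _ ⟨j, rfl⟩
  have := Ideal.mem_map_of_mem (bcg n R)
    (X_mem_irrelevant n (ULift.{u} ℤ) j)
  rwa [bcg_X] at this


section UP
variable {n R} (i : Fin (n + 1)) {B : Type u} [CommRing B] (p : R →+* B)
  (q : Away (CohB1.polyGrading n (ULift.{u} ℤ)) (X i) →+* B)

/-- the polynomial-level map -/
noncomputable def uPoly : MvPolynomial (Fin (n + 1)) R →+* B :=
  eval₂Hom p (fun j => q (dehA (hX n (ULift.{u} ℤ) i) (X j)))

theorem uPoly_C (r : R) : uPoly i p q (C r) = p r := by
  simp [uPoly]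

theorem uPoly_X (j : Fin (n + 1)) :
    uPoly i p q (X j) = q (dehA (hX n (ULift.{u} ℤ) i) (X j)) := by
  simp [uPoly]

theorem uPoly_t : uPoly i p q (bcg n R (X i)) = 1 := by
  rw [bcg_X, uPoly_X, dehA_self, map_one]

/-- the map on the localization -/
noncomputable def uLoc : Localization.Away (bcg n R (X i)) →+* B :=
  IsLocalization.Away.lift (bcg n R (X i)) (g := uPoly i p q)
    (by rw [uPoly_t]; exact isUnit_one)

/-- the induced map `R[T]_(X_i) → B`. -/
noncomputable def uAway : Away (CohB1.polyGrading n R) (bcg n R (X i)) →+* B :=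
  (uLoc i p q).comp (algebraMap (Away (CohB1.polyGrading n R) (bcg n R (X i)))
    (Localization.Away (bcg n R (X i))))

theorem ht : bcg n R (X i) ∈ CohB1.polyGrading n R 1 :=
  (bcg n R).map_mem (hX n (ULift.{u} ℤ) i)

theorem uAway_dehA_of_mem {j : ℕ} {b : MvPolynomial (Fin (n + 1)) R}
    (hb : b ∈ CohB1.polyGrading n R j) :
    uAway i p q (dehA (ht i) b) = uPoly i p q b := by
  unfold uAway uLoc
  rw [RingHom.comp_apply, HomogeneousLocalization.algebraMap_apply, val_dehA_of_mem (ht i) hb,
    Localization.mk_eq_mk', IsLocalization.Away.lift, IsLocalization.lift_mk'_spec]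
  change _ = uPoly i p q (bcg n R (X i) ^ j) * _
  rw [map_pow, uPoly_t, one_pow, one_mul]

theorem uAway_comp_dehA : (uAway i p q).comp (dehA (ht i)) = uPoly i p q := by
  apply MvPolynomial.ringHom_ext
  · intro r
    rw [RingHom.comp_apply]
    exact uAway_dehA_of_mem i p q
      ((mem_homogeneousSubmodule _ _).mpr (isHomogeneous_C _ r))
  · intro j
    rw [RingHom.comp_apply]
    exact uAway_dehA_of_mem i p q (hX n R j)

theorem uAway_strA : (uAway i p q).comp (strA (CohB1.polyGrading n R) (bcg n R (X i))) = p := by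
  ext r
  rw [RingHom.comp_apply, ← dehA_algebraMap' (CohB1.polyGrading n R) (ht i) r,
    ← RingHom.comp_apply, uAway_comp_dehA]
  exact uPoly_C i p q r

theorem uPoly_comp_bcg
    (hpq : p.comp (bc R) = q.comp (strA (CohB1.polyGrading n (ULift.{u} ℤ)) (X i))) :
    (uPoly i p q).comp (bcg n R : MvPolynomial (Fin (n + 1)) (ULift.{u} ℤ) →+*
      MvPolynomial (Fin (n + 1)) R) = q.comp (dehA (hX n (ULift.{u} ℤ) i)) := by
  apply MvPolynomial.ringHom_ext
  · intro z
    rw [RingHom.comp_apply, RingHom.comp_apply]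
    change uPoly i p q (bcg n R (C z)) = _
    rw [bcg_C, uPoly_C]
    have := congrArg (fun φ => φ z) hpq
    simp only [RingHom.comp_apply] at this
    rw [this, ← dehA_algebraMap' (CohB1.polyGrading n (ULift.{u} ℤ)) (hX n (ULift.{u} ℤ) i) z]
    rfl
  · intro j
    rw [RingHom.comp_apply, RingHom.comp_apply]
    change uPoly i p q (bcg n R (X j)) = _
    rw [bcg_X, uPoly_X]

theorem uAway_map
    (hpq : p.comp (bc R) = q.comp (strA (CohB1.polyGrading n (ULift.{u} ℤ)) (X i))) :
    (uAway i p q).comp (Away.map (bcg n R) (X i)) = q := by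
  ext z
  obtain ⟨a, rfl⟩ := dehA_surjective (hX n (ULift.{u} ℤ) i) z
  rw [RingHom.comp_apply, map_dehA (bcg n R) (hX n (ULift.{u} ℤ) i) a]
  have h1 := congrArg (fun φ => φ (bcg n R a)) (uAway_comp_dehA i p q)
  simp only [RingHom.comp_apply] at h1
  have h2 := congrArg (fun φ => φ a) (uPoly_comp_bcg i p q hpq)
  simp only [RingHom.comp_apply] at h2
  exact h1.trans h2

theorem uAway_unique (m : Away (CohB1.polyGrading n R) (bcg n R (X i)) →+* B)
    (h1 : m.comp (strA (CohB1.polyGrading n R) (bcg n R (X i))) = p)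
    (h2 : m.comp (Away.map (bcg n R) (X i)) = q) : m = uAway i p q := by
  have key : m.comp (dehA (ht i)) = uPoly i p q := by
    apply MvPolynomial.ringHom_ext
    · intro r
      rw [RingHom.comp_apply, uPoly_C]
      have := dehA_algebraMap' (CohB1.polyGrading n R) (ht i) r
      rw [show (C r : MvPolynomial (Fin (n + 1)) R) = algebraMap R _ r from rfl, this,
        ← RingHom.comp_apply, h1]
    · intro j
      rw [RingHom.comp_apply, uPoly_X, ← h2, RingHom.comp_apply,
        map_dehA (bcg n R) (hX n (ULift.{u} ℤ) i) (X j)]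
      congr 1
      exact congrArg _ (bcg_X n R j).symm
  ext z
  obtain ⟨b, rfl⟩ := dehA_surjective (ht i) z
  have h3 := congrArg (fun φ => φ b) key
  have h4 := congrArg (fun φ => φ b) (uAway_comp_dehA i p q)
  simp only [RingHom.comp_apply] at h3 h4
  exact h3.trans h4.symm

end UP


section Pushout
variable (i : Fin (n + 1))

theorem comm_sq :
    CommRingCat.ofHom (bc R) ≫
        CommRingCat.ofHom (strA (CohB1.polyGrading n R) (bcg n R (X i))) =
      CommRingCat.ofHom (strA (CohB1.polyGrading n (ULift.{u} ℤ)) (X i)) ≫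
        CommRingCat.ofHom (Away.map (bcg n R) (X i)) :=
  CommRingCat.isInitial.hom_ext _ _

theorem isPushout_away :
    IsPushout (CommRingCat.ofHom (bc R))
      (CommRingCat.ofHom (strA (CohB1.polyGrading n (ULift.{u} ℤ)) (X i)))
      (CommRingCat.ofHom (strA (CohB1.polyGrading n R) (bcg n R (X i))))
      (CommRingCat.ofHom (Away.map (bcg n R) (X i))) := by
  have hcond : ∀ s : PushoutCocone (CommRingCat.ofHom (bc R))
      (CommRingCat.ofHom (strA (CohB1.polyGrading n (ULift.{u} ℤ)) (X i))),
      s.inl.hom.comp (bc R) =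
        s.inr.hom.comp (strA (CohB1.polyGrading n (ULift.{u} ℤ)) (X i)) := by
    intro s
    exact congrArg CommRingCat.Hom.hom s.condition
  refine IsPushout.of_isColimit (PushoutCocone.IsColimit.mk (comm_sq n R i)
    (fun s => CommRingCat.ofHom (uAway i s.inl.hom s.inr.hom)) ?_ ?_ ?_)
  · intro s
    ext x
    exact congrArg (fun φ => φ x) (uAway_strA i s.inl.hom s.inr.hom)
  · intro s
    ext x
    exact congrArg (fun φ => φ x) (uAway_map i s.inl.hom s.inr.hom (hcond s))
  · intro s m h1 h2
    ext x
    have := uAway_unique i s.inl.hom s.inr.hom m.hom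
      (by rw [← h1]; rfl) (by rw [← h2]; rfl)
    exact congrArg (fun φ => φ x) this

end Pushout

end Groth.Agent.Lib.Helper27ProjSpaceBC
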