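import Groth.Agent.Lib.Helper18CoprodCI
import Groth.Agent.Lib.Helper27ProjSpaceBC
import Groth.Agent.Lib.Helper27RelProj4
import Groth.Agent.Lib.Helper13RelProjA

/-!
# helper18: disjoint linear subspaces of projective space: `P^n ⊔ P^m ⟶ P^{n+m+1}` is a closed immersion
-/

set_option autoImplicit false
set_option linter.unusedSectionVars false
set_option linter.style.haveILetI false
universe u

open CategoryTheory CategoryTheory.Limits AlgebraicGeometry TopologicalSpace Opposite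
open scoped HomogeneousIdeal

namespace Groth.Agent.Helper18KK

open MvPolynomial Groth.Agent.Lib.Helper27ProjSpaceBC

section linear

variable (R : Type u) [CommRing R] {N n : ℕ} (a : Fin (N + 1) → MvPolynomial (Fin (n + 1)) R)
  (ha : ∀ i, (a i).IsHomogeneous 1)

/-- a linear change of coordinates as a graded homomorphism -/
noncomputable def linHom : CohB1.polyGrading N R →+*ᵍ CohB1.polyGrading n R :=
  { (aeval a : MvPolynomial (Fin (N + 1)) R →ₐ[R] MvPolynomial (Fin (n + 1)) R).toRingHom with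
    map_mem := fun {d x} hx => by
      have h1 : x.IsHomogeneous d := hx
      have h2 := h1.aeval a ha
      rw [one_mul] at h2
      exact h2 }

theorem linHom_apply (p : MvPolynomial (Fin (N + 1)) R) : linHom R a ha p = aeval a p := rfl

theorem linHom_C (r : R) : linHom R a ha (C r) = C r := by
  rw [linHom_apply, ← algebraMap_eq, AlgHom.commutes, algebraMap_eq]

theorem linHom_surjective (f : Fin (n + 1) → Fin (N + 1)) (hf : ∀ j, a (f j) = X j) :
    Function.Surjective (linHom R a ha) := by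
  intro p
  refine ⟨rename f p, ?_⟩
  rw [linHom_apply, aeval_rename]
  have : a ∘ f = X := funext hf
  rw [this, aeval_X_left]
  rfl

end linear

section main

variable (R : Type u) [CommRing R] (n m : ℕ)

/-- coordinates of the first linear subspace -/
noncomputable def a₁ : Fin (n + m + 1 + 1) → MvPolynomial (Fin (n + 1)) R :=
  fun i => if h : (i : ℕ) < n + 1 then X ⟨i, h⟩ else 0

/-- coordinates of the second linear subspace -/
noncomputable def a₂ : Fin (n + m + 1 + 1) → MvPolynomial (Fin (m + 1)) R :=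
  fun i => if h : (i : ℕ) < n + 1 then 0 else X ⟨i - (n + 1), by omega⟩

theorem ha₁ (i : Fin (n + m + 1 + 1)) : (a₁ R n m i).IsHomogeneous 1 := by
  unfold a₁
  split_ifs
  · exact isHomogeneous_X _ _
  · exact isHomogeneous_zero _ _ _

theorem ha₂ (i : Fin (n + m + 1 + 1)) : (a₂ R n m i).IsHomogeneous 1 := by
  unfold a₂
  split_ifs
  · exact isHomogeneous_zero _ _ _
  · exact isHomogeneous_X _ _

theorem surj₁ : Function.Surjective (linHom R (a₁ R n m) (ha₁ R n m)) := by
  refine linHom_surjective R _ _ (fun j => ⟨j, by omega⟩) (fun j => ?_)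
  unfold a₁
  rw [dif_pos (by simp only; omega)]

theorem surj₂ : Function.Surjective (linHom R (a₂ R n m) (ha₂ R n m)) := by
  refine linHom_surjective R _ _ (fun j => ⟨(j : ℕ) + (n + 1), by omega⟩) (fun j => ?_)
  unfold a₂
  rw [dif_neg (by simp only; omega)]
  congr 1
  ext
  simp

theorem hirr₁ : (CohB1.polyGrading n R)₊ ≤
    (CohB1.polyGrading (n + m + 1) R)₊.map (linHom R (a₁ R n m) (ha₁ R n m)) := by
  rw [HomogeneousIdeal.irrelevant_le]
  intro i hi b hb
  obtain ⟨x, hx, rfl⟩ := Groth.Agent.Lib.Helper27RelProj4.exists_mem_of_surjective _ (surj₁ R n m) hb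
  exact Ideal.mem_map_of_mem _ (HomogeneousIdeal.mem_irrelevant_of_mem _ hi hx)

theorem hirr₂ : (CohB1.polyGrading m R)₊ ≤
    (CohB1.polyGrading (n + m + 1) R)₊.map (linHom R (a₂ R n m) (ha₂ R n m)) := by
  rw [HomogeneousIdeal.irrelevant_le]
  intro i hi b hb
  obtain ⟨x, hx, rfl⟩ := Groth.Agent.Lib.Helper27RelProj4.exists_mem_of_surjective _ (surj₂ R n m) hb
  exact Ideal.mem_map_of_mem _ (HomogeneousIdeal.mem_irrelevant_of_mem _ hi hx)

/-- the first linear subspace -/
noncomputable def ι₁ : CohB1.ProjSpace n R ⟶ CohB1.ProjSpace (n + m + 1) R :=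
  Proj.map (linHom R (a₁ R n m) (ha₁ R n m)) (hirr₁ R n m)

/-- the second linear subspace -/
noncomputable def ι₂ : CohB1.ProjSpace m R ⟶ CohB1.ProjSpace (n + m + 1) R :=
  Proj.map (linHom R (a₂ R n m) (ha₂ R n m)) (hirr₂ R n m)

instance : IsClosedImmersion (ι₁ R n m) :=
  Groth.Agent.Lib.Helper27RelProj4.map_isClosedImmersion _ _ (surj₁ R n m)

instance : IsClosedImmersion (ι₂ R n m) :=
  Groth.Agent.Lib.Helper27RelProj4.map_isClosedImmersion _ _ (surj₂ R n m)

theorem ι₁_toSpec : ι₁ R n m ≫ CohB1.ProjSpace.toSpec (n + m + 1) R = CohB1.ProjSpace.toSpec n R :=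
  Groth.Agent.Lib.Helper27RelProj4.map_toSpecZero (linHom R (a₁ R n m) (ha₁ R n m)) (hirr₁ R n m)
    (algebraMap R (CohB1.polyGrading (n + m + 1) R 0)) (algebraMap R (CohB1.polyGrading n R 0))
    (fun r => linHom_C R _ _ r)

theorem ι₂_toSpec : ι₂ R n m ≫ CohB1.ProjSpace.toSpec (n + m + 1) R = CohB1.ProjSpace.toSpec m R :=
  Groth.Agent.Lib.Helper27RelProj4.map_toSpecZero (linHom R (a₂ R n m) (ha₂ R n m)) (hirr₂ R n m)
    (algebraMap R (CohB1.polyGrading (n + m + 1) R 0)) (algebraMap R (CohB1.polyGrading m R 0))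
    (fun r => linHom_C R _ _ r)

theorem ne_of_ranges (x : CohB1.ProjSpace n R) (y : CohB1.ProjSpace m R) :
    (ι₁ R n m).base x ≠ (ι₂ R n m).base y := by
  intro hxy
  obtain ⟨w, hw⟩ : ∃ w : ProjectiveSpectrum (CohB1.polyGrading (n + m + 1) R), w = (ι₁ R n m).base x :=
    ⟨_, rfl⟩
  have hw₁ : ∀ p, linHom R (a₁ R n m) (ha₁ R n m) p = 0 → p ∈ w.asHomogeneousIdeal.toIdeal := by
    intro p hp
    rw [hw]
    change linHom R (a₁ R n m) (ha₁ R n m) p ∈ ProjectiveSpectrum.asHomogeneousIdeal _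
    rw [hp]
    exact Ideal.zero_mem _
  have hw₂ : ∀ p, linHom R (a₂ R n m) (ha₂ R n m) p = 0 → p ∈ w.asHomogeneousIdeal.toIdeal := by
    intro p hp
    rw [hw, hxy]
    change linHom R (a₂ R n m) (ha₂ R n m) p ∈ ProjectiveSpectrum.asHomogeneousIdeal _
    rw [hp]
    exact Ideal.zero_mem _
  refine w.not_irrelevant_le ?_
  change (HomogeneousIdeal.irrelevant (CohB1.polyGrading (n + m + 1) R)).toIdeal ≤ w.asHomogeneousIdeal.toIdeal
  refine (irrelevant_le_span (CohB1.polyGrading (n + m + 1) R)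
    (fun k : Fin (n + m + 1 + 1) => (X k : MvPolynomial (Fin (n + m + 1 + 1)) R)) (fun _ => 1)
    (hX (n + m + 1) R) MvPolynomial.adjoin_range_X).trans ?_
  rw [Ideal.span_le]
  rintro _ ⟨k, rfl⟩
  by_cases hk : (k : ℕ) < n + 1
  · refine hw₂ _ ?_
    rw [linHom_apply, aeval_X]
    unfold a₂
    rw [dif_pos hk]
  · refine hw₁ _ ?_
    rw [linHom_apply, aeval_X]
    unfold a₁
    rw [dif_neg hk]

/-- **disjoint unions of closed subschemes of projective spaces are closed subschemes of a projective space.** -/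
theorem exists_closedImmersion_coprod {X₁ X₂ : Scheme.{u}} (f₁ : X₁ ⟶ Spec (CommRingCat.of R))
    (f₂ : X₂ ⟶ Spec (CommRingCat.of R))
    (i₁ : X₁ ⟶ CohB1.ProjSpace n R) [IsClosedImmersion i₁] (h₁ : i₁ ≫ CohB1.ProjSpace.toSpec n R = f₁)
    (i₂ : X₂ ⟶ CohB1.ProjSpace m R) [IsClosedImmersion i₂] (h₂ : i₂ ≫ CohB1.ProjSpace.toSpec m R = f₂) :
    ∃ j : X₁ ⨿ X₂ ⟶ CohB1.ProjSpace (n + m + 1) R, IsClosedImmersion j ∧
      j ≫ CohB1.ProjSpace.toSpec (n + m + 1) R = coprod.desc f₁ f₂ := by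
  refine ⟨coprod.desc (i₁ ≫ ι₁ R n m) (i₂ ≫ ι₂ R n m), ?_, ?_⟩
  · exact Groth.Agent.Helper18CoprodCI.isClosedImmersion_coprodDesc _ _
      (fun x y => ne_of_ranges R n m (i₁.base x) (i₂.base y))
  · apply coprod.hom_ext
    · rw [coprod.inl_desc_assoc, coprod.inl_desc, Category.assoc, ι₁_toSpec, h₁]
    · rw [coprod.inr_desc_assoc, coprod.inr_desc, Category.assoc, ι₂_toSpec, h₂]

end main

end Groth.Agent.Helper18KK
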