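import Mathlib
import Groth.Prelude
import Groth.Agent.S16463
import Groth.Agent.Lib.Helper17ProjFormulaD
import Groth.Agent.Lib.Helper27AmpleSerre
import Groth.Agent.Lib.Helper18PushHomeo1
import Groth.Agent.Lib.Helper23LocGen
import Groth.Agent.Lib.Helper23TensorUnit
import Groth.Agent.Lib.Helper16ClosedEmb
import Groth.Agent.Lib.Helper23QCohExt
set_option backward.isDefEq.respectTransparency.types false

/-!
# Castelnuovo–Mumford regular sheaves on `P^n_T` in short exact sequences (helper18)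
-/

set_option autoImplicit false
universe u
open CategoryTheory CategoryTheory.Limits AlgebraicGeometry TopologicalSpace Opposite

namespace Groth.Agent.Helper18KRR

open Groth.Agent.Lib.Helper23.AmpleIso Groth.Agent.Lib.Helper23.RestrTensor Groth.Agent.Lib.Helper23.PB
  Groth.Agent.Lib.Helper23.LocGen Groth.Agent.Lib.Helper23.TensorUnit

variable (n : ℕ) (Y : Scheme.{u})

/-- the projection `P^n_Y ⟶ P^n_ℤ`. -/
noncomputable abbrev fstP : KRR.PY n Y ⟶ CohB1.ProjSpace n (ULift.{u} ℤ) :=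
  pullback.fst (CohB1.ProjSpace.toSpec n (ULift.{u} ℤ)) (specULiftZIsTerminal.from Y)

theorem twistOver_eq (d : ℤ) : Twist.twistOver n Y d =
    (Scheme.Modules.pullback (fstP n Y)).obj (Twist.twistProjSpace n (ULift.{u} ℤ) d) := rfl

theorem isInvertible_twistOver (d : ℤ) : PicF.IsInvertible (Twist.twistOver n Y d) := by
  rw [twistOver_eq]
  exact isInvertible_pullback _ _ (Groth.Agent.Lib.Helper27SerreVanPn.isInvertible_twist n _ d)

theorem nonempty_twistOver_tensor_iso (a b : ℤ) :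
    Nonempty (CohB1.tensorMod (Twist.twistOver n Y a) (Twist.twistOver n Y b) ≅ Twist.twistOver n Y (a + b)) := by
  obtain ⟨e⟩ := Groth.Agent.Lib.Helper27SerreVanPn.nonempty_twist_tensor_iso n (ULift.{u} ℤ) a b
  exact ⟨(pullbackTensorIso _ _ (fstP n Y)).symm ≪≫ (Scheme.Modules.pullback (fstP n Y)).mapIso e⟩

theorem nonempty_twistOver_zero_iso :
    Nonempty (Twist.twistOver n Y 0 ≅ Coh.structureModule (KRR.PY n Y)) := by
  obtain ⟨e⟩ := Groth.Agent.Lib.Helper27AmpleSerre.nonempty_twist_zero_iso n (ULift.{u} ℤ)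
  exact ⟨(Scheme.Modules.pullback (fstP n Y)).mapIso e ≪≫ pullbackUnitIso (fstP n Y)⟩

theorem nonempty_twistOver_inv (a b : ℤ) (h : a + b = 0) :
    Nonempty (CohB1.tensorMod (Twist.twistOver n Y a) (Twist.twistOver n Y b) ≅
      Coh.structureModule (KRR.PY n Y)) := by
  obtain ⟨e⟩ := nonempty_twistOver_tensor_iso n Y a b
  obtain ⟨e0⟩ := nonempty_twistOver_zero_iso n Y
  rw [h] at e
  exact ⟨e ≪≫ e0⟩

theorem twF_eq (d : ℤ) (F : (KRR.PY n Y).Modules) :
    KRR.twF n Y d F = CohB1.tensorMod (Twist.twistOver n Y d) F := rfl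

/-- `F(b)(a) ≅ F(a + b)`. -/
theorem nonempty_twF_twF_iso (a b c : ℤ) (h : a + b = c) (F : (KRR.PY n Y).Modules) :
    Nonempty (KRR.twF n Y a (KRR.twF n Y b F) ≅ KRR.twF n Y c F) := by
  subst h
  obtain ⟨e⟩ := nonempty_twistOver_tensor_iso n Y a b
  rw [twF_eq, twF_eq, twF_eq]
  exact ⟨(tensorAssoc _ _ _).symm ≪≫ tensorModIso e (Iso.refl F)⟩

/-- `F(b)(a) ≅ F` when `a + b = 0`. -/
theorem nonempty_twF_twF_iso_self (a b : ℤ) (h : a + b = 0) (F : (KRR.PY n Y).Modules) :
    Nonempty (KRR.twF n Y a (KRR.twF n Y b F) ≅ F) := by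
  obtain ⟨e⟩ := nonempty_twistOver_inv n Y a b h
  rw [twF_eq, twF_eq]
  exact ⟨(tensorAssoc _ _ _).symm ≪≫ tensorModIso e (Iso.refl F) ≪≫ unitTensorIso F⟩

/-- twisting is exact. -/
theorem shortExact_twF (d : ℤ) (S : ShortComplex (KRR.PY n Y).Modules) (hS : S.ShortExact) :
    (S.map (DCoh.tensorBi.obj (Twist.twistOver n Y d))).ShortExact := by
  obtain ⟨e⟩ := nonempty_twistOver_inv n Y d (-d) (by ring)
  obtain ⟨e'⟩ := nonempty_twistOver_inv n Y (-d) d (by ring)
  have h1 := Groth.Agent.Lib.Helper17.ProjFormulaD.preservesFiniteLimits_TL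
    (Twist.twistOver n Y d) (Twist.twistOver n Y (-d)) e e'
  have h2 := Groth.Agent.Lib.Helper17.ProjFormulaD.preservesFiniteColimits_TL
    (Twist.twistOver n Y d) (Twist.twistOver n Y (-d)) e e'
  exact hS.map_of_exact _

/-- the underlying abelian sheaves of a short exact sequence of modules. -/
theorem shortExact_toAb {X : Scheme.{u}} (S : ShortComplex X.Modules) (hS : S.ShortExact) :
    (S.map (Groth.Agent.Lib.Helper23.QCohLocal.toAbF X)).ShortExact :=
  Groth.Agent.Lib.Helper23.QCohLocal.shortExact_toAbF S hS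

end Groth.Agent.Helper18KRR
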