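import Mathlib
import Groth.Prelude
import Groth.Agent.Lib.Helper18KRR
set_option backward.isDefEq.respectTransparency.types false

/-!
# Castelnuovo–Mumford regular sheaves on `P^n_T` in short exact sequences, II (helper18)
-/

set_option autoImplicit false
universe u
open CategoryTheory CategoryTheory.Limits AlgebraicGeometry TopologicalSpace Opposite

namespace Groth.Agent.Helper18KRR

variable (n : ℕ) (Y : Scheme.{u})

/-- the short exact sequence of abelian sheaves underlying the `d`-th twist of a short exact sequence. -/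
noncomputable def twAb (d : ℤ) (S : ShortComplex (KRR.PY n Y).Modules) :
    ShortComplex (Sheaf (Opens.grothendieckTopology (KRR.PY n Y)) AddCommGrpCat.{u}) :=
  (S.map (DCoh.tensorBi.obj (Twist.twistOver n Y d))).map (Groth.Agent.Lib.Helper23.QCohLocal.toAbF (KRR.PY n Y))

theorem shortExact_twAb (d : ℤ) (S : ShortComplex (KRR.PY n Y).Modules) (hS : S.ShortExact) :
    (twAb n Y d S).ShortExact :=
  shortExact_toAb _ (shortExact_twF n Y d S hS)

theorem twAb_X₁ (d : ℤ) (S : ShortComplex (KRR.PY n Y).Modules) :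
    (twAb n Y d S).X₁ = Coh.toAb (KRR.twF n Y d S.X₁) := rfl
theorem twAb_X₂ (d : ℤ) (S : ShortComplex (KRR.PY n Y).Modules) :
    (twAb n Y d S).X₂ = Coh.toAb (KRR.twF n Y d S.X₂) := rfl
theorem twAb_X₃ (d : ℤ) (S : ShortComplex (KRR.PY n Y).Modules) :
    (twAb n Y d S).X₃ = Coh.toAb (KRR.twF n Y d S.X₃) := rfl

/-- vanishing of a higher direct image is invariant under isomorphism of modules. -/
theorem isZero_RpushAb_of_iso {X Z : Scheme.{u}} (f : X ⟶ Z) {M N : X.Modules} (e : M ≅ N) (i : ℕ)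
    (h : IsZero ((Coh.RpushAb f i).obj (Coh.toAb M))) : IsZero ((Coh.RpushAb f i).obj (Coh.toAb N)) :=
  h.of_iso ((Coh.RpushAb f i).mapIso ((SheafOfModules.toSheaf X.ringCatSheaf).mapIso e)).symm

/-- **regularity of the middle term.** -/
theorem isRegSheaf_X₂ (S : ShortComplex (KRR.PY n Y).Modules) (hS : S.ShortExact)
    (hreg₁ : KRR.IsRegSheaf n Y S.X₁) (hreg₃ : KRR.IsRegSheaf n Y S.X₃) : KRR.IsRegSheaf n Y S.X₂ := by
  obtain ⟨Δ⟩ := Groth.Agent.S16463.result (Coh.pushAb (KRR.pr n Y))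
  intro i hi
  have hT := shortExact_twAb n Y (-(i : ℤ)) S hS
  have hex := Δ.exact₂ (twAb n Y (-(i : ℤ)) S) hT i
  have h1 : IsZero ((Coh.RpushAb (KRR.pr n Y) i).obj (twAb n Y (-(i : ℤ)) S).X₁) := hreg₁ i hi
  have h3 : IsZero ((Coh.RpushAb (KRR.pr n Y) i).obj (twAb n Y (-(i : ℤ)) S).X₃) := hreg₃ i hi
  exact hex.isZero_X₂ (h1.eq_of_src _ _) (h3.eq_of_tgt _ _)

/-- **regularity of the quotient.** -/
theorem isRegSheaf_X₃ (S : ShortComplex (KRR.PY n Y).Modules) (hS : S.ShortExact)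
    (hreg₂ : KRR.IsRegSheaf n Y S.X₂) (hreg₁ : KRR.IsRegSheaf n Y (KRR.twF n Y 1 S.X₁)) :
    KRR.IsRegSheaf n Y S.X₃ := by
  obtain ⟨Δ⟩ := Groth.Agent.S16463.result (Coh.pushAb (KRR.pr n Y))
  intro i hi
  have hT := shortExact_twAb n Y (-(i : ℤ)) S hS
  have hex := Δ.exact₃ (twAb n Y (-(i : ℤ)) S) hT i (i + 1) rfl
  have h2 : IsZero ((Coh.RpushAb (KRR.pr n Y) i).obj (twAb n Y (-(i : ℤ)) S).X₂) := hreg₂ i hi
  obtain ⟨e⟩ := nonempty_twF_twF_iso n Y (-((i + 1 : ℕ) : ℤ)) 1 (-(i : ℤ)) (by push_cast; ring) S.X₁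
  have h1 : IsZero ((Coh.RpushAb (KRR.pr n Y) (i + 1)).obj (twAb n Y (-(i : ℤ)) S).X₁) :=
    isZero_RpushAb_of_iso (KRR.pr n Y) e (i + 1) (hreg₁ (i + 1) (by omega))
  exact hex.isZero_X₂ (h2.eq_of_src _ _) (h1.eq_of_tgt _ _)

/-- an epimorphism of modules gives an epimorphism on `R^0` of the direct image of abelian sheaves. -/
theorem epi_RpushAb_zero_map {X Z : Scheme.{u}} (f : X ⟶ Z) {M N : X.Modules} (g : M ⟶ N)
    (hg : Epi ((Scheme.Modules.pushforward f).map g)) :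
    Epi ((Coh.RpushAb f 0).map ((SheafOfModules.toSheaf X.ringCatSheaf).map g)) := by
  have : PreservesFiniteLimits (Coh.pushAb f) :=
    Groth.Agent.Lib.Helper16.ClosedEmb.push_preservesFiniteLimits f.base
  have hpe := Groth.Agent.Lib.Helper18.PushHomeo.toSheaf_preservesEpimorphisms Z.ringCatSheaf
  have h1 : Epi ((SheafOfModules.toSheaf Z.ringCatSheaf).map ((Scheme.Modules.pushforward f).map g)) :=
    @Functor.map_epi _ _ _ _ (SheafOfModules.toSheaf Z.ringCatSheaf) hpe _ _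
      ((Scheme.Modules.pushforward f).map g) hg
  have h2 : Epi ((Coh.pushAb f).map ((SheafOfModules.toSheaf X.ringCatSheaf).map g)) := h1
  have hnat := (Coh.pushAb f).toRightDerivedZero.naturality ((SheafOfModules.toSheaf X.ringCatSheaf).map g)
  have h3 : (Coh.RpushAb f 0).map ((SheafOfModules.toSheaf X.ringCatSheaf).map g) =
      inv ((Coh.pushAb f).toRightDerivedZero.app _) ≫
        (Coh.pushAb f).map ((SheafOfModules.toSheaf X.ringCatSheaf).map g) ≫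
        (Coh.pushAb f).toRightDerivedZero.app _ := by
    rw [hnat, IsIso.inv_hom_id_assoc]
  rw [h3]
  infer_instance

/-- **regularity of the twisted kernel.** -/
theorem isRegSheaf_twF_one_X₁ (S : ShortComplex (KRR.PY n Y).Modules) (hS : S.ShortExact)
    (hreg₂ : KRR.IsRegSheaf n Y (KRR.twF n Y 1 S.X₂)) (hreg₃ : KRR.IsRegSheaf n Y S.X₃)
    (hepi : Epi ((Scheme.Modules.pushforward (KRR.pr n Y)).map S.g)) :
    KRR.IsRegSheaf n Y (KRR.twF n Y 1 S.X₁) := by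
  obtain ⟨Δ⟩ := Groth.Agent.S16463.result (Coh.pushAb (KRR.pr n Y))
  intro i hi
  obtain ⟨j, rfl⟩ : ∃ j, i = j + 1 := ⟨i - 1, by omega⟩
  cases j with
  | zero =>
    obtain ⟨e₁⟩ := nonempty_twF_twF_iso_self n Y (-((0 + 1 : ℕ) : ℤ)) 1 (by norm_num) S.X₁
    obtain ⟨e₂⟩ := nonempty_twF_twF_iso_self n Y (-((0 + 1 : ℕ) : ℤ)) 1 (by norm_num) S.X₂
    have hT := shortExact_toAb S hS
    have h2 : IsZero ((Coh.RpushAb (KRR.pr n Y) (0 + 1)).obj (Coh.toAb S.X₂)) :=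
      isZero_RpushAb_of_iso (KRR.pr n Y) e₂ (0 + 1) (hreg₂ (0 + 1) le_rfl)
    refine isZero_RpushAb_of_iso (KRR.pr n Y) e₁.symm (0 + 1) ?_
    have hex1 := Δ.exact₁ _ hT 0 (0 + 1) rfl
    have hepi0 := epi_RpushAb_zero_map (KRR.pr n Y) S.g hepi
    have hcδ := Δ.comp_δ _ hT 0 (0 + 1) rfl
    have hepi0' : Epi ((Coh.RpushAb (KRR.pr n Y) 0).map
        (S.map (Groth.Agent.Lib.Helper23.QCohLocal.toAbF (KRR.PY n Y))).g) := hepi0
    have hδ : Δ.δ _ hT 0 (0 + 1) rfl = 0 :=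
      (cancel_epi ((Coh.RpushAb (KRR.pr n Y) 0).map
        (S.map (Groth.Agent.Lib.Helper23.QCohLocal.toAbF (KRR.PY n Y))).g)).1 (hcδ.trans comp_zero.symm)
    have hepiδ : Epi (Δ.δ _ hT 0 (0 + 1) rfl) := hex1.epi_f (h2.eq_of_tgt _ _)
    exact @IsZero.of_epi_eq_zero _ _ _ _ _ _ hepiδ hδ
  | succ j =>
    have hT := shortExact_twAb n Y (-((j + 1 : ℕ) : ℤ)) S hS
    have hex1 := Δ.exact₁ _ hT (j + 1) (j + 1 + 1) rfl
    have h3 : IsZero ((Coh.RpushAb (KRR.pr n Y) (j + 1)).obj (twAb n Y (-((j + 1 : ℕ) : ℤ)) S).X₃) :=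
      hreg₃ (j + 1) (by omega)
    obtain ⟨e₁⟩ := nonempty_twF_twF_iso n Y (-((j + 1 + 1 : ℕ) : ℤ)) 1 (-((j + 1 : ℕ) : ℤ))
      (by push_cast; ring) S.X₁
    obtain ⟨e₂⟩ := nonempty_twF_twF_iso n Y (-((j + 1 + 1 : ℕ) : ℤ)) 1 (-((j + 1 : ℕ) : ℤ))
      (by push_cast; ring) S.X₂
    have h2 : IsZero ((Coh.RpushAb (KRR.pr n Y) (j + 1 + 1)).obj (twAb n Y (-((j + 1 : ℕ) : ℤ)) S).X₂) :=
      isZero_RpushAb_of_iso (KRR.pr n Y) e₂ (j + 1 + 1) (hreg₂ (j + 1 + 1) (by omega))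
    refine isZero_RpushAb_of_iso (KRR.pr n Y) e₁.symm (j + 1 + 1) ?_
    exact hex1.isZero_X₂ (h3.eq_of_src _ _) (h2.eq_of_tgt _ _)

end Groth.Agent.Helper18KRR
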