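import Groth.Statements.S18384
import Mathlib.RingTheory.Filtration

set_option autoImplicit false
universe u
open CategoryTheory CategoryTheory.Limits AlgebraicGeometry

namespace Groth.Agent.Helper18Krull

/-- If `Spec R → Spec O_{X,x} → X` factors through the closed subscheme `V(I)`, then the germs of
sections of `I` die in `R`. -/
lemma germ_mem_ker_of_factors {X : Scheme.{u}} (I : X.IdealSheafData) (x : X) {R : CommRingCat.{u}}
    (ψ : X.presheaf.stalk x ⟶ R) (g : Spec R ⟶ I.subscheme)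
    (hg : g ≫ I.subschemeι = Spec.map ψ ≫ X.fromSpecStalk x) (V : X.affineOpens) (hx : x ∈ V.1)
    (a : Γ(X, V.1)) (ha : a ∈ I.ideal V) : ψ (X.presheaf.germ V.1 x hx a) = 0 := by
  have h1 : I ≤ (Spec.map ψ ≫ X.fromSpecStalk x).ker := by
    have := Scheme.Hom.le_ker_comp g I.subschemeι
    rwa [I.ker_subschemeι, hg] at this
  have h2 : (Spec.map ψ ≫ X.fromSpecStalk x).app V.1 a = 0 := by
    have := Scheme.Hom.ideal_ker_le (Spec.map ψ ≫ X.fromSpecStalk x) V (h1 V ha)
    exact this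
  have hW : X.fromSpecStalk x ⁻¹ᵁ V.1 = ⊤ :=
    Scheme.preimage_eq_top_of_closedPoint_mem _ (by simpa using hx)
  have hW' : Spec.map ψ ⁻¹ᵁ (X.fromSpecStalk x ⁻¹ᵁ V.1) = ⊤ := by rw [hW]; rfl
  have h3 : (Spec.map ψ ≫ X.fromSpecStalk x).app V.1 =
      X.presheaf.germ V.1 x hx ≫ ψ ≫ (Scheme.ΓSpecIso R).inv ≫
      (Spec R).presheaf.map (eqToHom hW').op := by
    rw [Scheme.Hom.comp_app, Scheme.fromSpecStalk_app hx]
    simp only [Category.assoc]
    rw [Scheme.Hom.naturality]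
    have hn : (Scheme.ΓSpecIso (X.presheaf.stalk x)).inv ≫ Scheme.Hom.app (Spec.map ψ) ⊤ =
        ψ ≫ (Scheme.ΓSpecIso R).inv := (Scheme.ΓSpecIso_inv_naturality ψ).symm
    rw [reassoc_of% hn]
    rfl
  rw [h3] at h2
  have hinj : Function.Injective ((Scheme.ΓSpecIso R).inv ≫
      (Spec R).presheaf.map (eqToHom hW').op) :=
    (ConcreteCategory.bijective_of_isIso _).injective
  apply hinj
  rw [map_zero]
  exact h2

lemma germ_eq_zero {X S : Scheme.{u}} [IsLocallyNoetherian X] (p : X ⟶ S) (x : X)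
    (I : X.IdealSheafData)
    (h : ∀ n : ℕ, ∃ g : pullback p (Spec.map (CommRingCat.ofHom (Ideal.Quotient.mk
        (IsLocalRing.maximalIdeal ↑(S.presheaf.stalk (p.base x)) ^ (n + 1)))) ≫
          S.fromSpecStalk (p.base x)) ⟶ I.subscheme,
        g ≫ I.subschemeι = pullback.fst p _)
    (V : X.affineOpens) (hx : x ∈ V.1) (a : Γ(X, V.1)) (ha : a ∈ I.ideal V) :
    X.presheaf.germ V.1 x hx a = 0 := by
  set B := X.presheaf.stalk x with hB
  set A := S.presheaf.stalk (p.base x) with hA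
  have hmem : ∀ n : ℕ, X.presheaf.germ V.1 x hx a ∈ IsLocalRing.maximalIdeal B ^ (n + 1) := by
    intro n
    obtain ⟨g, hg⟩ := h n
    have hle : IsLocalRing.maximalIdeal A ^ (n + 1) ≤
        (IsLocalRing.maximalIdeal B ^ (n + 1)).comap (p.stalkMap x).hom := by
      rw [← Ideal.map_le_iff_le_comap, Ideal.map_pow]
      have hloc : IsLocalHom (p.stalkMap x).hom := inferInstance
      exact Ideal.pow_right_mono
        (((IsLocalRing.local_hom_TFAE (p.stalkMap x).hom).out 0 2).mp hloc) _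
    let ψ : A ⧸ IsLocalRing.maximalIdeal A ^ (n + 1) →+* B ⧸ IsLocalRing.maximalIdeal B ^ (n + 1) :=
      Ideal.quotientMap _ (p.stalkMap x).hom hle
    let q : Spec (CommRingCat.of (B ⧸ IsLocalRing.maximalIdeal B ^ (n + 1))) ⟶
        pullback p (Spec.map (CommRingCat.ofHom (Ideal.Quotient.mk
          (IsLocalRing.maximalIdeal A ^ (n + 1)))) ≫ S.fromSpecStalk (p.base x)) :=
      pullback.lift (Spec.map (CommRingCat.ofHom (Ideal.Quotient.mk
          (IsLocalRing.maximalIdeal B ^ (n + 1)))) ≫ X.fromSpecStalk x)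
        (Spec.map (CommRingCat.ofHom ψ)) (by
          rw [Category.assoc, ← Scheme.SpecMap_stalkMap_fromSpecStalk, ← Spec.map_comp_assoc,
            ← Spec.map_comp_assoc]
          congr 2)
    have := germ_mem_ker_of_factors I x (CommRingCat.ofHom (Ideal.Quotient.mk
          (IsLocalRing.maximalIdeal B ^ (n + 1)))) (q ≫ g) (by
        rw [Category.assoc, hg]; exact pullback.lift_fst _ _ _) V hx a ha
    exact Ideal.Quotient.eq_zero_iff_mem.mp this
  have hbot := Ideal.iInf_pow_eq_bot_of_isLocalRing (IsLocalRing.maximalIdeal B)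
    (IsLocalRing.maximalIdeal.isMaximal B).ne_top
  have : X.presheaf.germ V.1 x hx a ∈ ⨅ i, IsLocalRing.maximalIdeal B ^ i := by
    rw [Ideal.mem_iInf]
    intro i
    exact Ideal.pow_le_pow_right (Nat.le_succ i) (hmem i)
  rw [hbot] at this
  exact this

lemma exists_affine_ideal_eq_bot {X : Scheme.{u}} [IsLocallyNoetherian X] (I : X.IdealSheafData)
    (x : X)
    (hgerm : ∀ (V : X.affineOpens) (hx : x ∈ V.1) (a : Γ(X, V.1)), a ∈ I.ideal V →
      X.presheaf.germ V.1 x hx a = 0) :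
    ∃ W : X.affineOpens, x ∈ W.1 ∧ I.ideal W = ⊥ := by
  obtain ⟨_, ⟨V0, hV0, rfl⟩, hxV, -⟩ :=
    X.isBasis_affineOpens.exists_subset_of_mem_open (Set.mem_univ x) isOpen_univ
  set V : X.affineOpens := ⟨V0, hV0⟩ with hVdef
  have hnoeth : IsNoetherianRing Γ(X, V.1) := IsLocallyNoetherian.component_noetherian V
  obtain ⟨s, hs⟩ : (I.ideal V).FG := IsNoetherian.noetherian _
  classical
  have key : ∀ t : Finset Γ(X, V.1), (∀ a ∈ t, a ∈ I.ideal V) →
      ∃ W : X.Opens, x ∈ W ∧ ∃ hWV : W ≤ V.1, ∀ a ∈ t, X.presheaf.map (homOfLE hWV).op a = 0 := by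
    intro t
    induction t using Finset.induction_on with
    | empty => exact fun _ => ⟨V.1, hxV, le_rfl, by simp⟩
    | insert b t hb ih =>
      intro ht
      obtain ⟨W, hxW, hWV, hW⟩ := ih (fun a ha => ht a (Finset.mem_insert_of_mem ha))
      have hb0 := hgerm V hxV b (ht b (Finset.mem_insert_self _ _))
      obtain ⟨W', hxW', iU, iV, hW'⟩ := TopCat.Presheaf.germ_eq X.presheaf x hxV hxV b 0
        (by rw [hb0, map_zero])
      refine ⟨W ⊓ W', ⟨hxW, hxW'⟩, inf_le_left.trans hWV, ?_⟩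
      intro a ha
      rcases Finset.mem_insert.mp ha with rfl | ha
      · have : X.presheaf.map (homOfLE (inf_le_left.trans hWV : W ⊓ W' ≤ V.1)).op =
            X.presheaf.map iU.op ≫ X.presheaf.map (homOfLE (inf_le_right : W ⊓ W' ≤ W')).op := by
          rw [← Functor.map_comp]; rfl
        rw [this, CommRingCat.comp_apply, hW', map_zero, map_zero]
      · have : X.presheaf.map (homOfLE (inf_le_left.trans hWV : W ⊓ W' ≤ V.1)).op =
            X.presheaf.map (homOfLE hWV).op ≫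
              X.presheaf.map (homOfLE (inf_le_left : W ⊓ W' ≤ W)).op := by
          rw [← Functor.map_comp]; rfl
        rw [this, CommRingCat.comp_apply, hW a ha, map_zero]
  obtain ⟨W, hxW, hWV, hW⟩ := key s (fun a ha => hs ▸ Ideal.subset_span ha)
  obtain ⟨_, ⟨W0, hW0, rfl⟩, hxW0, hW0W⟩ :=
    X.isBasis_affineOpens.exists_subset_of_mem_open hxW W.2
  refine ⟨⟨W0, hW0⟩, hxW0, ?_⟩
  have hle : (⟨W0, hW0⟩ : X.affineOpens) ≤ V := (show W0 ≤ W from hW0W).trans hWV
  rw [← I.map_ideal hle, ← hs, Ideal.map_span, Ideal.span_eq_bot]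
  rintro _ ⟨a, ha, rfl⟩
  have : X.presheaf.map (homOfLE hle).op =
      X.presheaf.map (homOfLE hWV).op ≫
        X.presheaf.map (homOfLE (show W0 ≤ W from hW0W)).op := by
    rw [← Functor.map_comp]; rfl
  rw [this]
  change (X.presheaf.map (homOfLE hWV).op ≫ X.presheaf.map (homOfLE _).op) a = 0
  rw [CommRingCat.comp_apply, hW a ha, map_zero]

theorem main_S18384 {X S : Scheme.{u}}
    [IsLocallyNoetherian X] [IsLocallyNoetherian S] (p : X ⟶ S) (t : S) (I : X.IdealSheafData)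
    (h : ∀ n : ℕ, ∃ g : pullback p (Spec.map (CommRingCat.ofHom (Ideal.Quotient.mk
        (IsLocalRing.maximalIdeal ↑(S.presheaf.stalk t) ^ (n + 1)))) ≫ S.fromSpecStalk t) ⟶
          I.subscheme,
        g ≫ I.subschemeι = pullback.fst p _) :
    ∃ U : X.Opens, (∀ x : X, p.base x = t → x ∈ U) ∧
      ∃ g : (U : Scheme.{u}) ⟶ I.subscheme, g ≫ I.subschemeι = U.ι := by
  let U : X.Opens := ⨆ (W : {W : X.affineOpens // I.ideal W = ⊥}), (W.1 : X.Opens)
  refine ⟨U, ?_, ?_⟩
  · intro x hx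
    subst hx
    obtain ⟨W, hxW, hW⟩ := exists_affine_ideal_eq_bot I x
      (fun V hxV a ha => germ_eq_zero p x I h V hxV a ha)
    exact TopologicalSpace.Opens.mem_iSup.mpr ⟨⟨W, hW⟩, hxW⟩
  · have hle : I ≤ U.ι.ker := by
      rw [Scheme.Hom.ker, Scheme.IdealSheafData.le_ofIdeals_iff]
      intro V a ha
      rw [RingHom.mem_ker]
      have hOV : U.ι ''ᵁ U.ι ⁻¹ᵁ V.1 ≤ V.1 := Set.image_preimage_subset _ _
      change X.presheaf.map (homOfLE hOV).op a = 0
      refine X.IsSheaf.section_ext fun y hy => ?_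
      have hyU : y ∈ U := U.ι_image_le _ hy
      obtain ⟨⟨W, hW⟩, hyW⟩ := TopologicalSpace.Opens.mem_iSup.mp hyU
      obtain ⟨_, ⟨W', hW', rfl⟩, hyW', hW'le⟩ :=
        X.isBasis_affineOpens.exists_subset_of_mem_open
          (show y ∈ (W.1 ⊓ (U.ι ''ᵁ U.ι ⁻¹ᵁ V.1) : X.Opens) from ⟨hyW, hy⟩) (W.1 ⊓ _).2
      have hW'W : (⟨W', hW'⟩ : X.affineOpens) ≤ W := fun z hz => (hW'le hz).1
      have hW'O : W' ≤ U.ι ''ᵁ U.ι ⁻¹ᵁ V.1 := fun z hz => (hW'le hz).2
      have hW'V : (⟨W', hW'⟩ : X.affineOpens) ≤ V := hW'O.trans hOV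
      refine ⟨W', hW'O, hyW', ?_⟩
      rw [map_zero]
      have h1 := I.ideal_le_comap_ideal hW'V ha
      rw [← I.map_ideal hW'W, hW, Ideal.map_bot] at h1
      have h2 : X.presheaf.map (homOfLE hW'V).op a = 0 := by simpa using h1
      rw [← h2]
      change (X.presheaf.map (homOfLE hOV).op ≫ X.presheaf.map (homOfLE hW'O).op) a = _
      rw [← Functor.map_comp]
      rfl
    exact ⟨U.ι.toImage ≫ Scheme.IdealSheafData.inclusion hle, by
      rw [Category.assoc, Scheme.IdealSheafData.inclusion_subschemeι, Scheme.Hom.toImage_imageι]⟩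

end Groth.Agent.Helper18Krull
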