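import Groth.Agent.Lib.Helper25TowerBC

/-!
# Descent of elements along a finite jointly faithfully flat family (helper25)

For a finite family `S i` of `R`-algebras whose product `P = ∏ S i` is faithfully flat over `R`:

* `rTensor_single_rTensor_proj`, `eq_zero_of_forall_rTensor_proj` (joint injectivity of the
  projections `P ⊗ N → S i ⊗ N`), `eq_zero_of_forall_rTensor_proj₂` (same for `P ⊗ P`);
* `faithfullyFlat_pi`: criterion for faithful flatness of the product;
* `eq_zero_of_forall_one_tmul` (joint faithfulness);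
* `exists_eq_one_tmul_of_thetaMap_eq` (descent of elements along one faithfully flat algebra);
* `exists_forall_eq_one_tmul` (descent of elements along the family).
-/

set_option autoImplicit false
set_option linter.unusedSectionVars false
universe u v w w'

namespace Groth.Agent.Lib.Helper25.FamDesc

open TensorProduct Groth.Agent.Lib.Helper25 Groth.Agent.Lib.Helper25.TowerBC

section Pi

variable {R : Type u} [CommRing R] {ι : Type v} [Fintype ι] [DecidableEq ι]
  (S : ι → Type w) [∀ i, CommRing (S i)] [∀ i, Algebra R (S i)]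
  (N : Type w') [AddCommGroup N] [Module R N]

theorem single_eq_single_one_mul (i : ι) (p : ∀ i, S i) :
    (Pi.single i (p i) : ∀ i, S i) = Pi.single i (1 : S i) * p := by
  funext j
  by_cases h : j = i
  · subst h
    simp
  · simp [Pi.single_eq_of_ne h]

theorem rTensor_single_rTensor_proj (i : ι) (z : (∀ i, S i) ⊗[R] N) :
    LinearMap.rTensor N (LinearMap.single R S i)
      (LinearMap.rTensor N (LinearMap.proj i : (∀ i, S i) →ₗ[R] S i) z) =
    (Pi.single i (1 : S i) : ∀ i, S i) • z := by
  induction z using TensorProduct.induction_on with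
  | zero => simp
  | add x y hx hy => rw [map_add, map_add, hx, hy, smul_add]
  | tmul p n =>
    rw [LinearMap.rTensor_tmul, LinearMap.rTensor_tmul, TensorProduct.smul_tmul', smul_eq_mul,
      ← single_eq_single_one_mul]
    rfl

/-- The projections `P ⊗ N → S i ⊗ N` are jointly injective. -/
theorem eq_zero_of_forall_rTensor_proj (z : (∀ i, S i) ⊗[R] N)
    (h : ∀ i, LinearMap.rTensor N (LinearMap.proj i : (∀ i, S i) →ₗ[R] S i) z = 0) : z = 0 := by
  have hsum : ∑ i, (Pi.single i (1 : S i) : ∀ i, S i) = 1 :=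
    Finset.univ_sum_single (1 : ∀ i, S i)
  have h1 : z = ∑ i, (Pi.single i (1 : S i) : ∀ i, S i) • z := by
    rw [← Finset.sum_smul, hsum, one_smul]
  rw [h1]
  refine Finset.sum_eq_zero (fun i _ => ?_)
  rw [← rTensor_single_rTensor_proj, h i, map_zero]

theorem map_single_map_proj (i j : ι) (w : (∀ i, S i) ⊗[R] (∀ i, S i)) :
    TensorProduct.map (LinearMap.single R S i) (LinearMap.single R S j)
      (TensorProduct.map (LinearMap.proj i : (∀ i, S i) →ₗ[R] S i)
        (LinearMap.proj j : (∀ i, S i) →ₗ[R] S j) w) =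
    ((Pi.single i (1 : S i) : ∀ i, S i) ⊗ₜ[R] (Pi.single j (1 : S j) : ∀ i, S i)) * w := by
  induction w using TensorProduct.induction_on with
  | zero => simp
  | add x y hx hy => rw [map_add, map_add, hx, hy, mul_add]
  | tmul p q =>
    rw [TensorProduct.map_tmul, TensorProduct.map_tmul, Algebra.TensorProduct.tmul_mul_tmul,
      ← single_eq_single_one_mul, ← single_eq_single_one_mul]
    rfl

theorem rTensor_map_single_rTensor_map_proj (i j : ι)
    (z : ((∀ i, S i) ⊗[R] (∀ i, S i)) ⊗[R] N) :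
    LinearMap.rTensor N (TensorProduct.map (LinearMap.single R S i) (LinearMap.single R S j))
      (LinearMap.rTensor N (TensorProduct.map (LinearMap.proj i : (∀ i, S i) →ₗ[R] S i)
        (LinearMap.proj j : (∀ i, S i) →ₗ[R] S j)) z) =
    ((Pi.single i (1 : S i) : ∀ i, S i) ⊗ₜ[R] (Pi.single j (1 : S j) : ∀ i, S i)) • z := by
  induction z using TensorProduct.induction_on with
  | zero => simp
  | add x y hx hy => rw [map_add, map_add, hx, hy, smul_add]
  | tmul w n =>
    rw [LinearMap.rTensor_tmul, LinearMap.rTensor_tmul, TensorProduct.smul_tmul', smul_eq_mul,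
      map_single_map_proj]

/-- The projections `(P ⊗ P) ⊗ N → (S i ⊗ S j) ⊗ N` are jointly injective. -/
theorem eq_zero_of_forall_rTensor_proj₂ (z : ((∀ i, S i) ⊗[R] (∀ i, S i)) ⊗[R] N)
    (h : ∀ i j, LinearMap.rTensor N (TensorProduct.map (LinearMap.proj i : (∀ i, S i) →ₗ[R] S i)
        (LinearMap.proj j : (∀ i, S i) →ₗ[R] S j)) z = 0) : z = 0 := by
  have hsum : ∑ i, (Pi.single i (1 : S i) : ∀ i, S i) = 1 :=
    Finset.univ_sum_single (1 : ∀ i, S i)
  have hone : (1 : (∀ i, S i) ⊗[R] (∀ i, S i)) =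
      ∑ i, ∑ j, ((Pi.single i (1 : S i) : ∀ i, S i) ⊗ₜ[R] (Pi.single j (1 : S j) : ∀ i, S i)) := by
    have : ∀ i : ι, ∑ j, ((Pi.single i (1 : S i) : ∀ i, S i) ⊗ₜ[R]
        (Pi.single j (1 : S j) : ∀ i, S i)) = (Pi.single i (1 : S i) : ∀ i, S i) ⊗ₜ[R] 1 := by
      intro i
      rw [← TensorProduct.tmul_sum, hsum]
    simp_rw [this]
    rw [← TensorProduct.sum_tmul, hsum]
    rfl
  have h1 : z = ∑ i, ∑ j,
      ((Pi.single i (1 : S i) : ∀ i, S i) ⊗ₜ[R] (Pi.single j (1 : S j) : ∀ i, S i)) • z := by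
    conv_lhs => rw [← one_smul ((∀ i, S i) ⊗[R] (∀ i, S i)) z, hone]
    rw [Finset.sum_smul]
    refine Finset.sum_congr rfl (fun i _ => ?_)
    rw [Finset.sum_smul]
  rw [h1]
  refine Finset.sum_eq_zero (fun i _ => Finset.sum_eq_zero (fun j _ => ?_))
  rw [← rTensor_map_single_rTensor_map_proj, h i j, map_zero]

end Pi

section FF

variable {R : Type u} [CommRing R] {ι : Type v} [Fintype ι] [DecidableEq ι]
  (S : ι → Type w) [∀ i, CommRing (S i)] [∀ i, Algebra R (S i)]

theorem flat_pi [∀ i, Module.Flat R (S i)] : Module.Flat R (∀ i, S i) :=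
  Module.Flat.of_linearEquiv (DFinsupp.linearEquivFunOnFintype (R := R) (M := S)).symm

/-- A finite product of flat algebras is faithfully flat as soon as every maximal ideal survives
in one of the factors. -/
theorem faithfullyFlat_pi [∀ i, Module.Flat R (S i)]
    (h : ∀ m : Ideal R, m.IsMaximal → ∃ i, m • (⊤ : Submodule R (S i)) ≠ ⊤) :
    Module.FaithfullyFlat R (∀ i, S i) := by
  haveI : Module.Flat R (∀ i, S i) := flat_pi (R := R) S
  refine { submodule_ne_top := ?_ }
  intro m hm htop
  obtain ⟨i, hi⟩ := h m hm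
  apply hi
  rw [eq_top_iff]
  intro s _
  have h1 : (Pi.single i s : ∀ i, S i) ∈ m • (⊤ : Submodule R (∀ i, S i)) := by
    rw [htop]; trivial
  have h2 := MRB.map_mem_smul_top (LinearMap.proj i : (∀ i, S i) →ₗ[R] S i) m h1
  simpa using h2

/-- Joint faithfulness of the family. -/
theorem eq_zero_of_forall_one_tmul [Module.FaithfullyFlat R (∀ i, S i)]
    (N : Type w') [AddCommGroup N] [Module R N] (n : N)
    (h : ∀ i, (1 : S i) ⊗ₜ[R] n = 0) : n = 0 := by
  have h1 : (1 : ∀ i, S i) ⊗ₜ[R] n = 0 := by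
    apply eq_zero_of_forall_rTensor_proj S N
    intro i
    rw [LinearMap.rTensor_tmul]
    exact h i
  apply Module.FaithfullyFlat.tensorProduct_mk_injective (A := R) (B := ∀ i, S i) N
  rw [TensorProduct.mk_apply, TensorProduct.mk_apply, h1, TensorProduct.tmul_zero]

end FF

section Single

variable {R : Type u} [CommRing R] (P : Type v) [CommRing P] [Algebra R P]
  [Module.FaithfullyFlat R P] (A : Type w) [CommRing A] [Algebra R A]

/-- Faithfully flat descent of elements: an element of `P ⊗ A` whose two pullbacks to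
`(P ⊗ P) ⊗ A` agree comes from `A`. -/
theorem exists_eq_one_tmul_of_rTensor_eq (x : P ⊗[R] A)
    (h : LinearMap.rTensor A
        (Algebra.TensorProduct.includeLeft : P →ₐ[R] P ⊗[R] P).toLinearMap x =
      LinearMap.rTensor A
        (Algebra.TensorProduct.includeRight : P →ₐ[R] P ⊗[R] P).toLinearMap x) :
    ∃ a : A, x = (1 : P) ⊗ₜ[R] a := by
  set y : A ⊗[R] P := TensorProduct.comm R P A x with hy
  have h1 : (Algebra.TensorProduct.includeLeftSubRight R P).lTensor A y = 0 := by
    have : Algebra.TensorProduct.includeLeftSubRight R P =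
        (Algebra.TensorProduct.includeLeft : P →ₐ[R] P ⊗[R] P).toLinearMap -
          (Algebra.TensorProduct.includeRight : P →ₐ[R] P ⊗[R] P).toLinearMap := rfl
    rw [this, LinearMap.lTensor_sub, LinearMap.sub_apply, hy, LinearMap.lTensor_comm,
      LinearMap.lTensor_comm, h, sub_self]
  have h2 : Algebra.TensorProduct.includeLeftSubRight A (A ⊗[R] P) y = 0 := by
    rw [← Algebra.TensorProduct.distribBaseChange_includeLeftSubRight_apply, h1, map_zero]
  obtain ⟨a, ha⟩ := ((Algebra.IsEffective.of_faithfullyFlat A (A ⊗[R] P)) y).mp h2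
  refine ⟨a, ?_⟩
  have h3 : y = a ⊗ₜ[R] (1 : P) := by
    rw [← ha]
    rfl
  have h4 : x = (TensorProduct.comm R P A).symm y := by
    rw [hy, LinearEquiv.symm_apply_apply]
  rw [h4, h3, TensorProduct.comm_symm_tmul]

end Single

section Family

variable {R : Type u} [CommRing R] {ι : Type v} [Fintype ι] [DecidableEq ι]
  (S : ι → Type w) [∀ i, CommRing (S i)] [∀ i, Algebra R (S i)]
  [Module.FaithfullyFlat R (∀ i, S i)] (A : Type w') [CommRing A] [Algebra R A]

/-- Descent of elements along a jointly faithfully flat finite family. -/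
theorem exists_forall_eq_one_tmul (x : ∀ i, S i ⊗[R] A)
    (h : ∀ i j, LinearMap.rTensor A
        (Algebra.TensorProduct.includeLeft : S i →ₐ[R] S i ⊗[R] S j).toLinearMap (x i) =
      LinearMap.rTensor A
        (Algebra.TensorProduct.includeRight : S j →ₐ[R] S i ⊗[R] S j).toLinearMap (x j)) :
    ∃ a : A, ∀ i, x i = (1 : S i) ⊗ₜ[R] a := by
  set X : (∀ i, S i) ⊗[R] A := ∑ i, LinearMap.rTensor A (LinearMap.single R S i) (x i) with hX
  have hXk : ∀ k, LinearMap.rTensor A (LinearMap.proj k : (∀ i, S i) →ₗ[R] S k) X = x k := by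
    intro k
    rw [hX, map_sum, Finset.sum_eq_single k]
    · rw [← LinearMap.rTensor_comp_apply, LinearMap.proj_comp_single_same, LinearMap.rTensor_id,
        LinearMap.id_apply]
    · intro i _ hik
      rw [← LinearMap.rTensor_comp_apply, LinearMap.proj_comp_single_ne _ _ _ _ (Ne.symm hik),
        LinearMap.rTensor_zero, LinearMap.zero_apply]
    · intro hk
      exact absurd (Finset.mem_univ k) hk
  have hL : ∀ i j, TensorProduct.map (LinearMap.proj i : (∀ i, S i) →ₗ[R] S i)
      (LinearMap.proj j : (∀ i, S i) →ₗ[R] S j) ∘ₗ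
        (Algebra.TensorProduct.includeLeft : (∀ i, S i) →ₐ[R] (∀ i, S i) ⊗[R] (∀ i, S i)).toLinearMap
      = (Algebra.TensorProduct.includeLeft : S i →ₐ[R] S i ⊗[R] S j).toLinearMap ∘ₗ
        (LinearMap.proj i : (∀ i, S i) →ₗ[R] S i) := by
    intro i j
    ext p
    simp
  have hR : ∀ i j, TensorProduct.map (LinearMap.proj i : (∀ i, S i) →ₗ[R] S i)
      (LinearMap.proj j : (∀ i, S i) →ₗ[R] S j) ∘ₗ
        (Algebra.TensorProduct.includeRight :
          (∀ i, S i) →ₐ[R] (∀ i, S i) ⊗[R] (∀ i, S i)).toLinearMap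
      = (Algebra.TensorProduct.includeRight : S j →ₐ[R] S i ⊗[R] S j).toLinearMap ∘ₗ
        (LinearMap.proj j : (∀ i, S i) →ₗ[R] S j) := by
    intro i j
    ext p
    simp
  have heq : LinearMap.rTensor A (Algebra.TensorProduct.includeLeft :
        (∀ i, S i) →ₐ[R] (∀ i, S i) ⊗[R] (∀ i, S i)).toLinearMap X =
      LinearMap.rTensor A (Algebra.TensorProduct.includeRight :
        (∀ i, S i) →ₐ[R] (∀ i, S i) ⊗[R] (∀ i, S i)).toLinearMap X := by
    rw [← sub_eq_zero]
    apply eq_zero_of_forall_rTensor_proj₂ S A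
    intro i j
    rw [map_sub, ← LinearMap.rTensor_comp_apply, ← LinearMap.rTensor_comp_apply, hL, hR,
      LinearMap.rTensor_comp_apply, LinearMap.rTensor_comp_apply, hXk, hXk, h i j, sub_self]
  obtain ⟨a, ha⟩ := exists_eq_one_tmul_of_rTensor_eq (∀ i, S i) A X heq
  refine ⟨a, fun k => ?_⟩
  rw [← hXk k, ha, LinearMap.rTensor_tmul]
  rfl

end Family

end Groth.Agent.Lib.Helper25.FamDesc
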