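import Mathlib
import Groth.Agent.Lib.Helper14Descent2
import Groth.Agent.Lib.Helper25FamDesc

/-!
# Projectivity is local for a finite jointly faithfully flat family (helper18)

* `projective_pi`: a finite product of projective modules is projective over the product ring.
* `isBaseChange_pi`: a finite product of base changes is a base change to the product ring.
* `projective_of_family`: descent of projectivity along a finite jointly faithfully flat family
  (via helper14's Raynaud–Gruson descent `projective_of_faithfullyFlat_baseChange`).
* `faithfullyFlat_pi_of_away`: a finite family of localizations away from elements spanning the unit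
  ideal is jointly faithfully flat.
-/

set_option autoImplicit false
set_option linter.style.haveILetI false
set_option linter.unusedSectionVars false
universe u
open TensorProduct

namespace Groth.Agent.Helper18LA

section Pi

variable {ι : Type u} [Fintype ι] [DecidableEq ι] (S : ι → Type u) [∀ i, CommRing (S i)]
  (N : ι → Type u) [∀ i, AddCommGroup (N i)] [∀ i, Module (S i) (N i)]

/-- the map `(N i →₀ S i) → ((Π N) →₀ (Π S))` -/
noncomputable def emb (i : ι) : (N i →₀ S i) →+ ((∀ j, N j) →₀ (∀ j, S j)) :=
  (Finsupp.mapRange.addMonoidHom (AddMonoidHom.single S i)).comp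
    (Finsupp.mapDomain.addMonoidHom (Pi.single i))

theorem emb_single (i : ι) (x : N i) (a : S i) :
    emb S N i (Finsupp.single x a) = Finsupp.single (Pi.single i x) (Pi.single i a) := by
  simp [emb]

theorem emb_smul (i : ι) (r : ∀ j, S j) (v : N i →₀ S i) :
    emb S N i (r i • v) = r • emb S N i v := by
  induction v using Finsupp.induction_linear with
  | zero => simp
  | add v w hv hw => rw [smul_add, map_add, map_add, smul_add, hv, hw]
  | single x a =>
    rw [Finsupp.smul_single, emb_single, emb_single, Finsupp.smul_single]
    congr 1
    funext j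
    by_cases h : j = i
    · subst h; simp
    · simp [Pi.single_eq_of_ne h]

theorem linearCombination_emb (i : ι) (v : N i →₀ S i) :
    Finsupp.linearCombination (∀ j, S j) id (emb S N i v) =
      Pi.single i (Finsupp.linearCombination (S i) id v) := by
  induction v using Finsupp.induction_linear with
  | zero => simp
  | add v w hv hw => rw [map_add, map_add, map_add, hv, hw, Pi.single_add]
  | single x a =>
    rw [emb_single, Finsupp.linearCombination_single, Finsupp.linearCombination_single]
    funext j
    by_cases h : j = i
    · subst h; simp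
    · simp [Pi.single_eq_of_ne h]

/-- a finite product of projective modules is projective over the product ring -/
theorem projective_pi (h : ∀ i, Module.Projective (S i) (N i)) :
    Module.Projective (∀ i, S i) (∀ i, N i) := by
  have hs := fun i => (h i).out
  choose s hs using hs
  refine ⟨⟨{ toFun := fun n => ∑ i, emb S N i (s i (n i))
             map_add' := fun n n' => ?_
             map_smul' := fun r n => ?_ }, fun n => ?_⟩⟩
  · simp only [Pi.add_apply, map_add, Finset.sum_add_distrib]
  · simp only [Pi.smul_apply', map_smul, RingHom.id_apply, Finset.smul_sum, emb_smul]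
  · show Finsupp.linearCombination (∀ j, S j) id (∑ i, emb S N i (s i (n i))) = n
    rw [map_sum]
    simp only [linearCombination_emb]
    have : ∀ i, Finsupp.linearCombination (S i) id (s i (n i)) = n i := fun i => hs i (n i)
    simp only [this]
    exact Finset.univ_sum_single n

end Pi

section BC

variable {R : Type u} [CommRing R] {ι : Type u} [Fintype ι] [DecidableEq ι]
  (S : ι → Type u) [∀ i, CommRing (S i)] [∀ i, Algebra R (S i)]
  {M : Type u} [AddCommGroup M] [Module R M]
  (N : ι → Type u) [∀ i, AddCommGroup (N i)] [∀ i, Module R (N i)] [∀ i, Module (S i) (N i)]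
  [∀ i, IsScalarTower R (S i) (N i)]

instance isScalarTower_pi : IsScalarTower R (∀ i, S i) (∀ i, N i) :=
  ⟨fun r s n => funext fun i => smul_assoc r (s i) (n i)⟩

/-- a finite product of base changes is a base change to the product ring -/
theorem isBaseChange_pi (φ : ∀ i, M →ₗ[R] N i) (hφ : ∀ i, IsBaseChange (S i) (φ i)) :
    IsBaseChange (∀ i, S i) (LinearMap.pi φ) := by
  let θ : (∀ i, S i) ⊗[R] M →ₗ[∀ i, S i] (∀ i, N i) :=
    LinearMap.liftBaseChange (∀ i, S i) (LinearMap.pi φ)
  have key : ∀ t i, θ t i = (hφ i).equiv (TensorProduct.piLeft R M S t i) := by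
    intro t i
    induction t using TensorProduct.induction_on with
    | zero => simp
    | tmul s m =>
      rw [LinearMap.liftBaseChange_tmul]
      simp [TensorProduct.piLeft, IsBaseChange.equiv_tmul]
    | add t t' ht ht' =>
      rw [map_add, Pi.add_apply, ht, ht', map_add, Pi.add_apply, map_add]
  have hθ : Function.Bijective θ := by
    constructor
    · intro t t' htt'
      apply (TensorProduct.piLeft R M S).injective
      funext i
      apply (hφ i).equiv.injective
      rw [← key, ← key, htt']
    · intro y
      refine ⟨(TensorProduct.piLeft R M S).symm (fun i => (hφ i).equiv.symm (y i)), ?_⟩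
      funext i
      rw [key, LinearEquiv.apply_symm_apply, LinearEquiv.apply_symm_apply]
  refine IsBaseChange.of_equiv (LinearEquiv.ofBijective θ hθ) (fun m => ?_)
  show θ (1 ⊗ₜ m) = _
  rw [LinearMap.liftBaseChange_tmul, one_smul]

/-- **descent of projectivity along a finite jointly faithfully flat family.** -/
theorem projective_of_family [Module.FaithfullyFlat R (∀ i, S i)]
    (φ : ∀ i, M →ₗ[R] N i) (hφ : ∀ i, IsBaseChange (S i) (φ i))
    (h : ∀ i, Module.Projective (S i) (N i)) : Module.Projective R M := by
  have h1 : Module.Projective (∀ i, S i) (∀ i, N i) := projective_pi S N h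
  have h2 := isBaseChange_pi S N φ hφ
  haveI : Module.Projective (∀ i, S i) ((∀ i, S i) ⊗[R] M) :=
    Module.Projective.of_equiv h2.equiv.symm
  exact Groth.Agent.Lib.Helper14.Descent.projective_of_faithfullyFlat_baseChange
    (R := R) (S := ∀ i, S i) (M := M)

end BC

section Away

variable {R : Type u} [CommRing R] (t : Finset R) (ht : Ideal.span (t : Set R) = ⊤)
  (S : t → Type u) [∀ i, CommRing (S i)] [∀ i, Algebra R (S i)]
  [∀ i : t, IsLocalization.Away (i : R) (S i)]

include ht in
theorem faithfullyFlat_pi_of_away : Module.FaithfullyFlat R (∀ i : t, S i) := by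
  classical
  haveI : ∀ i : t, Module.Flat R (S i) := fun i =>
    IsLocalization.flat (S i) (Submonoid.powers (i : R))
  apply Groth.Agent.Lib.Helper25.FamDesc.faithfullyFlat_pi
  intro m hm
  haveI := hm.isPrime
  have hex : ∃ h ∈ t, h ∉ m := by
    by_contra hcon
    push Not at hcon
    have : Ideal.span (t : Set R) ≤ m := Ideal.span_le.mpr (fun h hh => hcon h hh)
    rw [ht] at this
    exact hm.ne_top (top_le_iff.mp this)
  obtain ⟨h, hht, hhm⟩ := hex
  refine ⟨⟨h, hht⟩, ?_⟩
  haveI : IsLocalization (Submonoid.powers h) (S ⟨h, hht⟩) :=
    inferInstanceAs (IsLocalization.Away ((⟨h, hht⟩ : t) : R) (S ⟨h, hht⟩))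
  rw [Ideal.smul_top_eq_map]
  intro htop
  have h1 : Ideal.map (algebraMap R (S ⟨h, hht⟩)) m = ⊤ := by
    rw [Submodule.restrictScalars_eq_top_iff] at htop
    exact htop
  exact (IsLocalization.map_algebraMap_ne_top_iff_disjoint (Submonoid.powers h)
    (S := S ⟨h, hht⟩) m).mpr
    ((Ideal.disjoint_powers_iff_notMem_of_isPrime h).mpr hhm) h1

end Away

end Groth.Agent.Helper18LA
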