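import Mathlib
import Groth.Agent.Lib.Helper18LA
import Groth.Agent.Lib.Helper2FPAff
import Groth.Agent.Lib.Helper2PullbackSec2

/-!
# Locally projective quasi-coherent modules (helper18)

* `projective_basicOpen`: projectivity of sections passes to basic opens.
* `projective_of_span`: projectivity of `Γ(F,U)` can be checked on a basic open cover of the affine `U`
  (Raynaud–Gruson descent).
* `projective_of_forall_exists`: ... or on affine neighbourhoods of all points of `U`.
* `projective_pullback`: sections of the pullback of a locally projective module are projective.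
-/

set_option autoImplicit false
set_option linter.style.haveILetI false
universe u
open CategoryTheory Limits AlgebraicGeometry TopologicalSpace Opposite TensorProduct

namespace Groth.Agent.Helper18LB

open Groth.Agent.Lib.Helper2.FPAff Groth.Agent.Lib.Helper2.QCoh Groth.Agent.Helper18LA

variable {X : Scheme.{u}}

/-- projectivity passes to basic opens. -/
theorem projective_basicOpen (F : X.Modules) [F.IsQuasicoherent] {U : X.Opens}
    (hU : IsAffineOpen U) (f : Γ(X, U)) [Module.Projective Γ(X, U) Γ(F, U)] :
    Module.Projective Γ(X, X.basicOpen f) Γ(F, X.basicOpen f) := by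
  letI := moduleRes F (X.basicOpen_le f)
  haveI := isScalarTower_basicOpen F f
  haveI := isLocalizedModule_basicOpen F hU f
  haveI : IsLocalization.Away f Γ(X, X.basicOpen f) := hU.isLocalization_basicOpen f
  exact Module.Projective.of_equiv
    (IsLocalizedModule.isBaseChange (Submonoid.powers f) Γ(X, X.basicOpen f)
      (resₗ F (X.basicOpen_le f))).equiv

/-- projectivity of sections over an affine open can be checked on a basic open cover. -/
theorem projective_of_span (F : X.Modules) [F.IsQuasicoherent] {U : X.Opens}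
    (hU : IsAffineOpen U) (s : Set Γ(X, U)) (hs : Ideal.span s = ⊤)
    (h : ∀ f ∈ s, Module.Projective Γ(X, X.basicOpen f) Γ(F, X.basicOpen f)) :
    Module.Projective Γ(X, U) Γ(F, U) := by
  classical
  obtain ⟨t, hts, ht⟩ := (Ideal.span_eq_top_iff_finite s).mp hs
  letI : ∀ g : t, Module Γ(X, U) Γ(F, X.basicOpen g.1) := fun g => moduleRes F (X.basicOpen_le g.1)
  haveI : ∀ g : t, IsScalarTower Γ(X, U) Γ(X, X.basicOpen g.1) Γ(F, X.basicOpen g.1) :=
    fun g => isScalarTower_basicOpen F g.1
  haveI : ∀ g : t, IsLocalization.Away g.1 Γ(X, X.basicOpen g.1) :=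
    fun g => hU.isLocalization_basicOpen g.1
  haveI : ∀ g : t, IsLocalizedModule (Submonoid.powers g.1) (resₗ F (X.basicOpen_le g.1)) :=
    fun g => isLocalizedModule_basicOpen F hU g.1
  haveI := faithfullyFlat_pi_of_away t ht (fun g : t => Γ(X, X.basicOpen g.1))
  exact projective_of_family (fun g : t => Γ(X, X.basicOpen g.1))
    (fun g : t => Γ(F, X.basicOpen g.1)) (fun g => resₗ F (X.basicOpen_le g.1))
    (fun g => IsLocalizedModule.isBaseChange (Submonoid.powers g.1) _ _)
    (fun g => h g.1 (hts g.2))

/-- projectivity of sections over an affine open can be checked on affine neighbourhoods. -/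
theorem projective_of_forall_exists (F : X.Modules) [F.IsQuasicoherent] {U : X.Opens}
    (hU : IsAffineOpen U)
    (h : ∀ x ∈ U, ∃ U' : X.Opens, IsAffineOpen U' ∧ x ∈ U' ∧
      Module.Projective Γ(X, U') Γ(F, U')) :
    Module.Projective Γ(X, U) Γ(F, U) := by
  let s : Set Γ(X, U) :=
    {f | Module.Projective Γ(X, X.basicOpen f) Γ(F, X.basicOpen f)}
  have hs : Ideal.span s = ⊤ := by
    by_contra hne
    obtain ⟨P, hP, hle⟩ := Ideal.exists_le_maximal _ hne
    let x : X := hU.fromSpec ⟨P, hP.isPrime⟩
    have hxU : x ∈ U := Groth.Agent.Lib.Helper2.QCoh.fromSpec_mem hU _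
    obtain ⟨U', hU', hxU', hproj⟩ := h x hxU
    obtain ⟨f, g, hfg, hxf⟩ := exists_basicOpen_le_affine_inter hU hU' x ⟨hxU, hxU'⟩
    have h1 : Module.Projective Γ(X, X.basicOpen g) Γ(F, X.basicOpen g) :=
      projective_basicOpen F hU' g
    have h2 : Module.Projective Γ(X, X.basicOpen f) Γ(F, X.basicOpen f) := by
      rw [hfg]; exact h1
    have hfP : f ∈ P := hle (Ideal.subset_span h2)
    have hnot : f ∉ (hU.primeIdealOf ⟨x, hxU⟩).asIdeal :=
      (Groth.Agent.Lib.Helper2.mem_basicOpen_iff_notMem_primeIdealOf hU x hxU f).1 hxf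
    rw [Groth.Agent.Lib.Helper2.QCoh.primeIdealOf_fromSpec hU] at hnot
    exact hnot hfP
  exact projective_of_span F hU s hs (fun f hf => hf)

/-- sections of the pullback of a locally projective quasi-coherent module are projective. -/
theorem projective_pullback {Y : Scheme.{u}} (f : X ⟶ Y) (G : Y.Modules) [G.IsQuasicoherent]
    (hG : ∀ V : Y.Opens, IsAffineOpen V → Module.Projective Γ(Y, V) Γ(G, V))
    {U : X.Opens} (hU : IsAffineOpen U) :
    Module.Projective Γ(X, U) Γ((Scheme.Modules.pullback f).obj G, U) := by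
  haveI : ((Scheme.Modules.pullback f).obj G).IsQuasicoherent :=
    Groth.Agent.Lib.Helper2.PullbackSec.isQuasicoherent_pullback f G
  apply projective_of_forall_exists _ hU
  intro x _
  obtain ⟨_, ⟨V, hV : IsAffineOpen V, rfl⟩, hxV, -⟩ :=
    (Y.isBasis_affineOpens).exists_subset_of_mem_open (Set.mem_univ (f.base x)) isOpen_univ
  obtain ⟨_, ⟨U', hU' : IsAffineOpen U', rfl⟩, hxU', hle⟩ :=
    (X.isBasis_affineOpens).exists_subset_of_mem_open (show x ∈ ((f ⁻¹ᵁ V : X.Opens) : Set X) from hxV)
      (f ⁻¹ᵁ V).isOpen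
  refine ⟨U', hU', hxU', ?_⟩
  letI : Algebra Γ(Y, V) Γ(X, U') := (f.appLE V U' hle).hom.toAlgebra
  obtain ⟨e⟩ := Groth.Agent.Lib.Helper2.PullbackSec.nonempty_sections_linearEquiv f G hU' hV hle
  haveI := hG V hV
  exact Module.Projective.of_equiv e

end Groth.Agent.Helper18LB
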