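import Mathlib
import Groth.Prelude.Def_CAlgX
import Groth.Prelude.Def_LCI2
import Groth.Agent.Lib.Helper13KzH1

set_option autoImplicit false
set_option linter.style.haveILetI false
set_option linter.unusedSectionVars false
universe u
open TensorProduct

namespace Groth.Agent.Helper18LciCon

section liftData
variable {B' B C₀ : Type u} [CommRing B'] [CommRing B] [CommRing C₀] [Algebra B C₀]
  (πB : B' →+* B) (hπB : Function.Surjective πB)

include hπB in
theorem exists_lift_data (hlci : LCI.IsLCI B C₀) (𝔮 : Ideal C₀) [h𝔮 : 𝔮.IsPrime] :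
    ∃ gb : C₀, gb ∉ 𝔮 ∧ ∀ (C : Type u) [CommRing C] [Algebra C₀ C] [Algebra B' C]
      [IsLocalization.Away gb C]
      (_ : ∀ b', algebraMap B' C b' = algebraMap C₀ C (algebraMap B C₀ (πB b'))),
      ∃ (R' : Type u) (_ : CommRing R') (_ : Algebra B' R') (_ : Module.Flat B' R') (R : Type u)
        (_ : CommRing R) (σ : R' →+* R) (r : ℕ) (ft : Fin r → R') (ρ : R' →ₐ[B'] C),
        Function.Surjective σ ∧ RingHom.ker σ = (RingHom.ker πB).map (algebraMap B' R') ∧
        CAlgX.IsH1Regular (fun i => σ (ft i)) ∧ Function.Surjective ρ ∧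
        RingHom.ker ρ.toRingHom =
          (RingHom.ker πB).map (algebraMap B' R') ⊔ Ideal.span (Set.range ft) := by
  obtain ⟨-, n, f, hf, hK⟩ := hlci
  have h𝔭 : (𝔮.comap f.toRingHom).IsPrime := Ideal.comap_isPrime _ _
  obtain ⟨g, hg, l, hl, hspan⟩ := hK ⟨𝔮.comap f.toRingHom, h𝔭⟩ (by
    intro x hx
    change f.toRingHom x ∈ 𝔮
    rw [RingHom.mem_ker.mp hx]
    exact 𝔮.zero_mem)
  let Φ : MvPolynomial (Fin n) B' →+* MvPolynomial (Fin n) B := MvPolynomial.map πB
  have hΦ : Function.Surjective Φ := MvPolynomial.map_surjective πB hπB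
  obtain ⟨gt, rfl⟩ := hΦ g
  refine ⟨f (Φ gt), hg, ?_⟩
  intro C _ _ _ _ hcompat
  let R' := Localization.Away gt
  let R := Localization.Away (Φ gt)
  let σ : R' →+* R := IsLocalization.Away.map R' R Φ gt
  have hσs : Function.Surjective σ := by
    haveI : IsLocalization (Submonoid.map Φ (Submonoid.powers gt)) R := by
      rw [Submonoid.map_powers]
      infer_instance
    exact IsLocalization.map_surjective_of_surjective _ _ _ hΦ
  have hkerΦ : RingHom.ker Φ = (RingHom.ker πB).map (MvPolynomial.C) := MvPolynomial.ker_map πB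
  have hkerσ : RingHom.ker σ = (RingHom.ker πB).map (algebraMap B' R') := by
    have h1 := IsLocalization.ker_map (S := R') R Φ (Submonoid.map_powers Φ gt)
    have h2 : RingHom.ker σ = (RingHom.ker Φ).map (algebraMap (MvPolynomial (Fin n) B') R') := h1
    rw [h2, hkerΦ, Ideal.map_map]
    rfl
  haveI : Module.Flat (MvPolynomial (Fin n) B') R' := IsLocalization.flat R' (Submonoid.powers gt)
  haveI : Module.Flat B' R' := Module.Flat.trans B' (MvPolynomial (Fin n) B') R'
  -- lifts of the Koszul sequence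
  have hσs0 := hσs
  choose lift hlift using hσs0
  let ft : Fin l.length → R' := fun i => lift (l.get i)
  have hσft : (fun i => σ (ft i)) = l.get := funext fun i => hlift _
  have hH1 : CAlgX.IsH1Regular (fun i => σ (ft i)) := by
    rw [hσft]
    exact Groth.Agent.Helper13KzH1.isH1Regular_of_isKoszulRegularSeq l hl
  -- the map to `C`
  let ρ₀ : R →+* C := IsLocalization.Away.map R C f.toRingHom (Φ gt)
  have hρ₀s : Function.Surjective ρ₀ := by
    haveI : IsLocalization (Submonoid.map f.toRingHom (Submonoid.powers (Φ gt))) C := by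
      rw [Submonoid.map_powers]
      infer_instance
    exact IsLocalization.map_surjective_of_surjective _ _ _ hf
  have hkerρ₀ : RingHom.ker ρ₀ = Ideal.span {x | x ∈ l} := by
    have h1 := IsLocalization.ker_map (S := R) C f.toRingHom (Submonoid.map_powers f.toRingHom (Φ gt))
    have h2 : RingHom.ker ρ₀ =
        (RingHom.ker f.toRingHom).map (algebraMap (MvPolynomial (Fin n) B) R) := h1
    rw [h2, hspan]
  have hcomm : ∀ b' : B', ρ₀ (σ (algebraMap B' R' b')) = algebraMap B' C b' := by
    intro b'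
    have e1 : algebraMap B' R' b' =
        algebraMap (MvPolynomial (Fin n) B') R' (MvPolynomial.C b') := rfl
    rw [e1]
    have e2 : σ (algebraMap (MvPolynomial (Fin n) B') R' (MvPolynomial.C b')) =
        algebraMap (MvPolynomial (Fin n) B) R (Φ (MvPolynomial.C b')) :=
      IsLocalization.map_eq _ _
    rw [e2]
    have e3 : ρ₀ (algebraMap (MvPolynomial (Fin n) B) R (Φ (MvPolynomial.C b'))) =
        algebraMap C₀ C (f.toRingHom (Φ (MvPolynomial.C b'))) :=
      IsLocalization.map_eq _ _
    rw [e3, hcompat]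
    congr 1
    change f (MvPolynomial.map πB (MvPolynomial.C b')) = _
    rw [MvPolynomial.map_C]
    exact f.commutes (πB b')
  let ρ : R' →ₐ[B'] C := { ρ₀.comp σ with commutes' := hcomm }
  have hρ : ∀ x, ρ x = ρ₀ (σ x) := fun _ => rfl
  refine ⟨R', inferInstance, inferInstance, inferInstance, R, inferInstance, σ, l.length, ft, ρ,
    hσs, hkerσ, hH1, ?_, ?_⟩
  · intro c
    obtain ⟨y, rfl⟩ := hρ₀s c
    obtain ⟨x, rfl⟩ := hσs y
    exact ⟨x, rfl⟩
  · have h1 : RingHom.ker ρ.toRingHom = (RingHom.ker ρ₀).comap σ := by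
      ext x
      rw [RingHom.mem_ker, Ideal.mem_comap, RingHom.mem_ker]
      rfl
    have h2 : Ideal.span {x | x ∈ l} = (Ideal.span (Set.range ft)).map σ := by
      rw [Ideal.map_span]
      congr 1
      ext x
      constructor
      · intro hx
        obtain ⟨i, rfl⟩ := List.mem_iff_get.mp hx
        exact ⟨ft i, ⟨i, rfl⟩, hlift _⟩
      · rintro ⟨_, ⟨i, rfl⟩, rfl⟩
        rw [hlift]
        exact List.get_mem l i
    rw [h1, hkerρ₀, h2, Ideal.comap_map_of_surjective σ hσs, ← RingHom.ker_eq_comap_bot, hkerσ,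
      sup_comm]

end liftData

end Groth.Agent.Helper18LciCon
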