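import Mathlib
import Groth.Prelude.Def_Omega3
import Groth.Agent.Lib.Helper18UT13
import Groth.Agent.Lib.Helper18UT10
import Groth.Agent.Lib.Helper20IdealComap

set_option autoImplicit false
set_option linter.style.haveILetI false
set_option linter.unusedSectionVars false
universe u
open CategoryTheory AlgebraicGeometry Limits TopologicalSpace

namespace Groth.Agent.Helper18UT

section FT
variable {A B C : Scheme.{u}} (f : A ⟶ B) (g : B ⟶ C) [IsClosedImmersion g]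

/-- if `f ≫ g` is a first order thickening and `g` is a closed immersion then `f` is a first order thickening. -/
theorem isFirstOrderThickening_of_comp (h : MoreMor.IsFirstOrderThickening (f ≫ g)) :
    MoreMor.IsFirstOrderThickening f := by
  obtain ⟨⟨hci, hsurj⟩, hker⟩ := h
  haveI := hci
  haveI : IsClosedImmersion f := IsClosedImmersion.of_comp_isClosedImmersion f g
  refine ⟨⟨inferInstance, ⟨?_⟩⟩, ?_⟩
  · intro y
    obtain ⟨x, hx⟩ := hsurj.surj (g y)
    refine ⟨x, ?_⟩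
    apply g.isClosedEmbedding.injective
    rw [← hx]
    rfl
  · rw [eq_bot_iff]
    refine Scheme.IdealSheafData.le_of_iSup_eq_top
      (fun W : C.affineOpens => ⟨g ⁻¹ᵁ W.1, W.2.preimage g⟩) ?_ ?_
    · rw [eq_top_iff]
      intro y _
      obtain ⟨W, hW, hyW, -⟩ := Opens.isBasis_iff_nbhd.mp C.isBasis_affineOpens
        (Opens.mem_top (g y))
      exact Opens.mem_iSup.mpr ⟨⟨W, hW⟩, hyW⟩
    · rintro ⟨W, hW⟩
      change f.ker.ideal _ * f.ker.ideal _ ≤ ⊥
      rw [Ideal.mul_le]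
      intro a ha b hb
      rw [Ideal.mem_bot]
      have hle := f.ideal_ker_le ⟨g ⁻¹ᵁ W, hW.preimage g⟩
      have ha' : f.app (g ⁻¹ᵁ W) a = 0 := RingHom.mem_ker.mp (hle ha)
      have hb' : f.app (g ⁻¹ᵁ W) b = 0 := RingHom.mem_ker.mp (hle hb)
      obtain ⟨a₀, rfl⟩ := g.app_surjective W hW a
      obtain ⟨b₀, rfl⟩ := g.app_surjective W hW b
      have key : ∀ z : Γ(C, W), f.app (g ⁻¹ᵁ W) (g.app W z) = 0 → (f ≫ g).app W z = 0 := by
        intro z hz
        rw [Scheme.Hom.comp_app]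
        exact hz
      have h0 := mul_eq_zero_of_ker_sq (f ≫ g) hker W a₀ b₀ (key a₀ ha') (key b₀ hb')
      rw [← map_mul, h0, map_zero]

end FT
end Groth.Agent.Helper18UT

namespace Groth.Agent.Helper18UT
section pb
variable {Z Y X Z' Y' Z'' : Scheme.{u}} (i : Z ⟶ Y) (b : Y ⟶ X)
    (i' : Z ⟶ Z') (c : Z' ⟶ X) (hZ' : OmegaSh.IsUnivThickening (i ≫ b) i' c)
    (j : Y ⟶ Y') (d : Y' ⟶ X) (hY' : OmegaSh.IsUnivThickening b j d)
    (m : Z' ⟶ Y') (hm₁ : i' ≫ m = i ≫ j) (hm₂ : m ≫ d = c)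
    (i'' : Z ⟶ Z'') (e : Z'' ⟶ Y) (hZ'' : OmegaSh.IsUnivThickening i i'' e)
    (n : Z'' ⟶ Z') (hn₁ : i'' ≫ n = i') (hn₂ : n ≫ c = e ≫ b)

include hY' hm₁ hm₂ hZ'' hn₁ hn₂ in
theorem sq_comm : n ≫ m = e ≫ j := by
  obtain ⟨a', -, huniq⟩ := hY'.2.2 Z Z'' i'' (e ≫ b) i hZ''.1 (by rw [← Category.assoc, hZ''.2.1])
  rw [huniq (n ≫ m) ⟨by rw [← Category.assoc, hn₁, hm₁], by rw [Category.assoc, hm₂, hn₂]⟩,
    huniq (e ≫ j) ⟨by rw [← Category.assoc, hZ''.2.1], by rw [Category.assoc, hY'.2.1]⟩]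

include hZ' hY' hm₁ hm₂ hZ'' hn₁ hn₂ in
/-- the universal thickening over `Y` is the base change of the one over `X`. -/
theorem isPullback_univ : IsPullback n e m j := by
  have hsq := sq_comm i b i' c j d hY' m hm₁ hm₂ i'' e hZ'' n hn₁ hn₂
  haveI : IsClosedImmersion j := hY'.1.1.1
  let p1 : pullback m j ⟶ Z' := pullback.fst m j
  let p2 : pullback m j ⟶ Y := pullback.snd m j
  let k : Z ⟶ pullback m j := pullback.lift i' i hm₁
  have hk1 : k ≫ p1 = i' := pullback.lift_fst _ _ _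
  have hk2 : k ≫ p2 = i := pullback.lift_snd _ _ _
  have hp1 : MoreMor.IsFirstOrderThickening p1 :=
    Groth.Agent.Lib.Helper20.IdealComap.isFirstOrderThickening_of_isPullback
      (IsPullback.of_hasPullback m j).flip hY'.1
  haveI : IsClosedImmersion p1 := hp1.1.1
  have hk : MoreMor.IsFirstOrderThickening k := by
    apply isFirstOrderThickening_of_comp k p1
    rw [hk1]
    exact hZ'.1
  -- u : P → Z''
  obtain ⟨u, ⟨hu1, hu2⟩, -⟩ := hZ''.2.2 Z (pullback m j) k p2 (𝟙 Z) hk (by rw [hk2, Category.id_comp])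
  rw [Category.id_comp] at hu1
  let v : Z'' ⟶ pullback m j := pullback.lift n e hsq
  have hv1 : v ≫ p1 = n := pullback.lift_fst _ _ _
  have hv2 : v ≫ p2 = e := pullback.lift_snd _ _ _
  have hkv : k = i'' ≫ v := by
    apply pullback.hom_ext
    · change k ≫ p1 = (i'' ≫ v) ≫ p1
      rw [hk1, Category.assoc, hv1, hn₁]
    · change k ≫ p2 = (i'' ≫ v) ≫ p2
      rw [hk2, Category.assoc, hv2, hZ''.2.1]
  -- v ≫ u = 𝟙
  have hvu : v ≫ u = 𝟙 Z'' := by
    obtain ⟨a', -, huniq⟩ := hZ''.2.2 Z Z'' i'' e (𝟙 Z) hZ''.1 (by rw [hZ''.2.1, Category.id_comp])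
    rw [huniq (v ≫ u) ⟨by rw [← Category.assoc, ← hkv, hu1, Category.id_comp],
        by rw [Category.assoc, hu2, hv2]⟩,
      huniq (𝟙 Z'') ⟨by rw [Category.comp_id, Category.id_comp], Category.id_comp _⟩]
  -- u ≫ n = p1
  have hun : u ≫ n = p1 := by
    have hb : k ≫ (p2 ≫ b) = 𝟙 Z ≫ (i ≫ b) := by rw [← Category.assoc, hk2, Category.id_comp]
    obtain ⟨a', -, huniq⟩ := hZ'.2.2 Z (pullback m j) k (p2 ≫ b) (𝟙 Z) hk hb
    rw [huniq (u ≫ n) ⟨by rw [← Category.assoc, hu1, hn₁, Category.id_comp],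
        by rw [Category.assoc, hn₂, ← Category.assoc, hu2]⟩,
      huniq p1 ⟨by rw [hk1, Category.id_comp], by
        change pullback.fst m j ≫ c = pullback.snd m j ≫ b
        rw [← hm₂, ← Category.assoc, pullback.condition, Category.assoc, hY'.2.1]⟩]
  have huv : u ≫ v = 𝟙 _ := by
    apply pullback.hom_ext
    · change (u ≫ v) ≫ p1 = 𝟙 _ ≫ p1
      rw [Category.assoc, hv1, hun, Category.id_comp]
    · change (u ≫ v) ≫ p2 = 𝟙 _ ≫ p2
      rw [Category.assoc, hv2, hu2, Category.id_comp]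
  haveI : IsIso v := ⟨u, hvu, huv⟩
  exact IsPullback.of_iso_pullback ⟨hsq⟩ (asIso v) hv1 hv2

end pb
end Groth.Agent.Helper18UT
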