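import Mathlib
import Groth.Prelude.Def_Omega4
import Groth.Agent.Lib.Helper18UT14
import Groth.Agent.Lib.Helper18UT15
import Groth.Agent.Lib.Helper18Con3

set_option autoImplicit false
set_option linter.style.haveILetI false
set_option linter.unusedSectionVars false
universe u
open CategoryTheory AlgebraicGeometry Limits TopologicalSpace Opposite
open Groth.Agent.Helper18OmLS Groth.Agent.Helper18Con

namespace Groth.Agent.Helper18UT

section S9784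
variable {Z Y X Z' Y' Z'' : Scheme.{u}} (i : Z ⟶ Y) (b : Y ⟶ X)
    (i' : Z ⟶ Z') (c : Z' ⟶ X) (hZ' : OmegaSh.IsUnivThickening (i ≫ b) i' c)
    (j : Y ⟶ Y') (d : Y' ⟶ X) (hY' : OmegaSh.IsUnivThickening b j d)
    (m : Z' ⟶ Y') (hm₁ : i' ≫ m = i ≫ j) (hm₂ : m ≫ d = c)
    (i'' : Z ⟶ Z'') (e : Z'' ⟶ Y) (hZ'' : OmegaSh.IsUnivThickening i i'' e)
    (n : Z'' ⟶ Z') (hn₁ : i'' ≫ n = i') (hn₂ : n ≫ c = e ≫ b)
    (ψ₁ : (Scheme.Modules.pullback i).obj (Omega.conormal j) ⟶ Omega.conormal i')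
    (hψ₁ : OmegaSh.IsConormalMap i' j m i ψ₁)
    (ψ₂ : (Scheme.Modules.pullback (𝟙 Z)).obj (Omega.conormal i') ⟶ Omega.conormal i'')
    (hψ₂ : OmegaSh.IsConormalMap i'' i' n (𝟙 Z) ψ₂)

include hZ' hY' hm₁ hm₂ hZ'' hn₁ hn₂ hψ₁ hψ₂ in
theorem main_S9784 :
    ∃ w : (Scheme.Modules.pullback (𝟙 Z)).map ψ₁ ≫ ψ₂ = 0, (ShortComplex.mk _ _ w).Exact ∧ Epi ψ₂ := by
  have hpb := isPullback_univ i b i' c hZ' j d hY' m hm₁ hm₂ i'' e hZ'' n hn₁ hn₂
  have hie : i'' ≫ e = i := hZ''.2.1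
  subst hn₁
  subst hie
  haveI : IsClosedImmersion j := hY'.1.1.1
  haveI : IsClosedImmersion i'' := hZ''.1.1.1
  haveI : IsClosedImmersion n := MorphismProperty.of_isPullback hpb.flip (inferInstance : IsClosedImmersion j)
  obtain ⟨ρ, hρ, -, -⟩ := exists_conormalMap n j m e hpb.w.symm
  have hρepi : Epi ρ := (main_S9372 n j m e hpb ρ hρ).1
  obtain ⟨φ₁, hφ₁, -, -⟩ := exists_conormalMap (i'' ≫ n) n (𝟙 Z') i'' (by rw [Category.comp_id])
  obtain ⟨hepi, himg⟩ := main_S5974 n i'' φ₁ hφ₁ ψ₂ hψ₂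
  have hΦ := isConormalMap_comp (i'' ≫ n) n j (𝟙 Z') m i'' e φ₁ hφ₁ ρ hρ
  rw [Category.id_comp] at hΦ
  obtain ⟨φ₀, -, huniq, -⟩ := exists_conormalMap (i'' ≫ n) j m (i'' ≫ e) hψ₁.1
  have hψ₁Φ : ψ₁ = (Scheme.Modules.pullbackComp i'' e).inv.app (Omega.conormal j) ≫
      (Scheme.Modules.pullback i'').map ρ ≫ φ₁ := (huniq _ hψ₁).trans (huniq _ hΦ).symm
  set ψ₂' := (Scheme.Modules.pullbackId Z).inv.app (Omega.conormal (i'' ≫ n)) ≫ ψ₂ with hψ₂'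
  -- the model complex
  have w₂ : φ₁ ≫ ψ₂' = 0 := by
    rw [← imageSubobject_arrow_comp φ₁, Category.assoc, ← Subobject.ofLE_arrow himg.le, Category.assoc,
      kernelSubobject_arrow_comp, comp_zero, comp_zero]
  have hex₂ : (ShortComplex.mk φ₁ ψ₂' w₂).Exact := by
    rw [ShortComplex.exact_iff_image_eq_kernel]
    exact himg
  set ε := (Scheme.Modules.pullbackComp i'' e).inv.app (Omega.conormal j) ≫
      (Scheme.Modules.pullback i'').map ρ with hε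
  haveI : Epi ((Scheme.Modules.pullback i'').map ρ) := inferInstance
  haveI : Epi ε := epi_comp _ _
  have hψ₁ε : ψ₁ = ε ≫ φ₁ := by rw [hψ₁Φ, hε, Category.assoc]
  have hnat : (Scheme.Modules.pullback (𝟙 Z)).map ψ₁ ≫
      (Scheme.Modules.pullbackId Z).hom.app (Omega.conormal (i'' ≫ n)) =
      (Scheme.Modules.pullbackId Z).hom.app _ ≫ ψ₁ := (Scheme.Modules.pullbackId Z).hom.naturality ψ₁
  have hψ₂ψ₂' : ψ₂ = (Scheme.Modules.pullbackId Z).hom.app (Omega.conormal (i'' ≫ n)) ≫ ψ₂' := by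
    rw [hψ₂', ← Category.assoc, Iso.hom_inv_id_app, Category.id_comp]
  have w : (Scheme.Modules.pullback (𝟙 Z)).map ψ₁ ≫ ψ₂ = 0 := by
    rw [hψ₂ψ₂', ← Category.assoc, hnat, Category.assoc, hψ₁ε, Category.assoc, w₂, comp_zero, comp_zero]
  refine ⟨w, ?_, hepi⟩
  let τ : ShortComplex.mk _ _ w ⟶ ShortComplex.mk φ₁ ψ₂' w₂ :=
    { τ₁ := (Scheme.Modules.pullbackId Z).hom.app _ ≫ ε
      τ₂ := (Scheme.Modules.pullbackId Z).hom.app _
      τ₃ := 𝟙 _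
      comm₁₂ := by
        change ((Scheme.Modules.pullbackId Z).hom.app _ ≫ ε) ≫ φ₁ =
          (Scheme.Modules.pullback (𝟙 Z)).map ψ₁ ≫ (Scheme.Modules.pullbackId Z).hom.app _
        rw [hnat, Category.assoc, ← hψ₁ε]
      comm₂₃ := by
        change (Scheme.Modules.pullbackId Z).hom.app _ ≫ ψ₂' = ψ₂ ≫ 𝟙 _
        rw [Category.comp_id, ← hψ₂ψ₂'] }
  haveI : Epi τ.τ₁ := epi_comp _ _
  haveI : IsIso τ.τ₂ := inferInstanceAs (IsIso ((Scheme.Modules.pullbackId Z).hom.app _))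
  haveI : Mono τ.τ₃ := inferInstanceAs (Mono (𝟙 _))
  exact (ShortComplex.exact_iff_of_epi_of_isIso_of_mono τ).mpr hex₂

end S9784
end Groth.Agent.Helper18UT
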