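import Mathlib
import Groth.Prelude.Def_Omega4
import Groth.Agent.Lib.Helper18UT6
import Groth.Agent.Lib.Helper22ThickAffine
import Groth.Agent.S9740
import Groth.Agent.Lib.Helper18OmLS14
import Groth.Agent.Lib.Helper23PB

set_option autoImplicit false
set_option linter.style.haveILetI false
set_option linter.unusedSectionVars false
universe u
open CategoryTheory CategoryTheory.Limits AlgebraicGeometry TopologicalSpace Opposite
open KaehlerDifferential TensorProduct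
open Groth.Agent.Helper18OmLS
open Groth.Agent.Helper13PullbackUnit

namespace Groth.Agent.Helper18UT

section charts
variable {Z Z' X : Scheme.{u}} (h : Z ⟶ X) [FormallyUnramified h] (i : Z ⟶ Z') (h' : Z' ⟶ X)
  (hu : OmegaSh.IsUnivThickening h i h')

include hu in
/-- charts adapted to a universal first order thickening, inside a given open of `X`. -/
theorem exists_chart' (z' : Z') (O : X.Opens) (hO : h' z' ∈ O) :
    ∃ (U : X.Opens) (V' : Z'.Opens) (_ : IsAffineOpen U)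
    (_ : IsAffineOpen V') (_ : IsAffineOpen (i ⁻¹ᵁ V')) (hVU : i ⁻¹ᵁ V' ≤ h ⁻¹ᵁ U)
    (hV'U : V' ≤ h' ⁻¹ᵁ U), z' ∈ V' ∧ U ≤ O ∧
      OmegaSh.IsUnivThickening (h.resLE U (i ⁻¹ᵁ V') hVU) (i.resLE V' (i ⁻¹ᵁ V') le_rfl)
        (h'.resLE U V' hV'U) := by
  obtain ⟨⟨⟨hci, hsurj⟩, hsq⟩, hih, huniv⟩ := id hu
  haveI := hci
  have hhomeo : IsHomeomorph i :=
    Groth.Agent.Lib.Helper22.ThickAffine.isHomeomorph_of_surjective i hsurj.surj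
  obtain ⟨z, rfl⟩ := hsurj.surj z'
  have hpt : ∀ y : Z, h' (i y) = h y := fun y => by
    rw [← Scheme.Hom.comp_apply, hih]
  obtain ⟨U, hU, hzU, hUO⟩ := exists_isAffineOpen_mem_and_subset (x := h z) (U := O)
    (by rw [← hpt]; exact hO)
  obtain ⟨V, hV, hzV, hVU⟩ := exists_isAffineOpen_mem_and_subset (x := z) (U := h ⁻¹ᵁ U) hzU
  let V' : Z'.Opens := ⟨i '' (V : Set Z), hhomeo.isOpenMap _ V.isOpen⟩
  have hV'eq : i ⁻¹ᵁ V' = V := by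
    ext y
    constructor
    · rintro ⟨y', hy', hyy'⟩
      rwa [← hhomeo.injective hyy']
    · intro hy
      exact ⟨y, hy, rfl⟩
  have hV'U : V' ≤ h' ⁻¹ᵁ U := by
    rintro _ ⟨y, hy, rfl⟩
    change h' (i y) ∈ U
    rw [hpt]
    exact hVU hy
  have hVU' : i ⁻¹ᵁ V' ≤ h ⁻¹ᵁ U := by rw [hV'eq]; exact hVU
  have hVaff : IsAffineOpen (i ⁻¹ᵁ V') := by rw [hV'eq]; exact hV
  have hres := Groth.Agent.S9740.result h i h' hu (i ⁻¹ᵁ V') U hVU' V' rfl hV'U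
  have hV'aff : IsAffineOpen V' := by
    obtain ⟨⟨⟨hci', hsurj'⟩, -⟩, -, -⟩ := hres
    haveI := hci'
    haveI : IsAffine (i ⁻¹ᵁ V').toScheme := hVaff
    exact Groth.Agent.Lib.Helper22.ThickAffine.isAffine_of_thickening
      (i.resLE V' (i ⁻¹ᵁ V') le_rfl) hsurj'.surj
  exact ⟨U, V', hU, hV'aff, hVaff, hVU', hV'U, ⟨z, hzV, rfl⟩, hUO, hres⟩

end charts

section chart
variable {Z X S Z' : Scheme.{u}} (h : Z ⟶ X) (q : X ⟶ S) (i : Z ⟶ Z') (h' : Z' ⟶ X)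
  (hih : i ≫ h' = h)
  (ΩX : X.Modules) (dX : OmegaSh.Der q ΩX) (hdX : OmegaSh.IsUniversal dX)
  (ΩZ' : Z'.Modules) (dZ' : OmegaSh.Der (h' ≫ q) ΩZ') (hdZ' : OmegaSh.IsUniversal dZ')
  (c : (Scheme.Modules.pullback h').obj ΩX ⟶ ΩZ') (hc : OmegaSh.IsDiffCompat h' dX dZ' c)
  {W : S.Opens} {U : X.Opens} {V' : Z'.Opens} (hW : IsAffineOpen W) (hU : IsAffineOpen U)
  (hV' : IsAffineOpen V') (hV : IsAffineOpen (i ⁻¹ᵁ V')) (hUW : U ≤ q ⁻¹ᵁ W)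
  (hVU : i ⁻¹ᵁ V' ≤ h ⁻¹ᵁ U) (hV'U : V' ≤ h' ⁻¹ᵁ U)
  (hres : OmegaSh.IsUnivThickening (h.resLE U (i ⁻¹ᵁ V') hVU) (i.resLE V' (i ⁻¹ᵁ V') le_rfl)
        (h'.resLE U V' hV'U))

include hih hdX hdZ' hc hW hU hV' hV hUW hres in
theorem chart_S9783 :
    Function.Bijective (((Scheme.Modules.pullback i).map c).app (i ⁻¹ᵁ V')) := by
  haveI qcX : ΩX.IsQuasicoherent := isQuasicoherent_of_isUniversal q dX hdX
  haveI qcZ' : ΩZ'.IsQuasicoherent := isQuasicoherent_of_isUniversal (h' ≫ q) dZ' hdZ'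
  have hV'W : V' ≤ (h' ≫ q) ⁻¹ᵁ W := fun y hy => hUW (hV'U hy)
  letI algRA : Algebra Γ(S, W) Γ(X, U) := (q.appLE W U hUW).hom.toAlgebra
  letI algRB' : Algebra Γ(S, W) Γ(Z', V') := ((h' ≫ q).appLE W V' hV'W).hom.toAlgebra
  letI algAB' : Algebra Γ(X, U) Γ(Z', V') := (h'.appLE U V' hV'U).hom.toAlgebra
  letI algAB : Algebra Γ(X, U) Γ(Z, i ⁻¹ᵁ V') := (h.appLE U (i ⁻¹ᵁ V') hVU).hom.toAlgebra
  letI algB'B : Algebra Γ(Z', V') Γ(Z, i ⁻¹ᵁ V') := (i.appLE V' (i ⁻¹ᵁ V') le_rfl).hom.toAlgebra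
  haveI : IsScalarTower Γ(S, W) Γ(X, U) Γ(Z', V') := by
    refine IsScalarTower.of_algebraMap_eq fun r => ?_
    have h1 : q.appLE W U hUW ≫ h'.appLE U V' hV'U = (h' ≫ q).appLE W V' hV'W :=
      Scheme.Hom.appLE_comp_appLE _ _ _ _ _ _ _
    exact (congr($h1 r)).symm
  haveI : IsScalarTower Γ(X, U) Γ(Z', V') Γ(Z, i ⁻¹ᵁ V') := by
    refine IsScalarTower.of_algebraMap_eq fun r => ?_
    have h1 : h'.appLE U V' hV'U ≫ i.appLE V' (i ⁻¹ᵁ V') le_rfl =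
        (i ≫ h').appLE U (i ⁻¹ᵁ V') (fun y hy => hV'U hy) :=
      Scheme.Hom.appLE_comp_appLE _ _ _ _ _ _ _
    have h2 := OmegaSh.appLE_congr_hom hih (U := U) (V := i ⁻¹ᵁ V') (fun y hy => hV'U hy) hVU
    rw [h2] at h1
    exact (congr($h1 r)).symm
  have hring := isUnivThickeningRing_appLE h i h' le_rfl hVU hV'U hU hV' hV hres rfl rfl
    (IsScalarTower.toAlgHom Γ(X, U) Γ(Z', V') Γ(Z, i ⁻¹ᵁ V')) (fun x => rfl)
  have hbij := Groth.Agent.Lib.Helper18UnivThick2.bijective Γ(S, W) Γ(X, U) Γ(Z, i ⁻¹ᵁ V') Γ(Z', V')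
    hring (Groth.Agent.Lib.Helper18UnivThick2.formallyUnramified _ hring)
  obtain ⟨e₁, e₂, κ, hκ1, hκ2⟩ := exists_chart_model h' q (h' ≫ q) dX dZ' c hc hV'U hdX hdZ' hV' hU
    hW hUW hW hV'W rfl rfl rfl
  have hκ : κ = KaehlerDifferential.mapBaseChange Γ(S, W) Γ(X, U) Γ(Z', V') := by
    apply tensor_kaehler_ext
    intro a
    rw [hκ2, KaehlerDifferential.mapBaseChange_tmul, KaehlerDifferential.map_D]
  obtain ⟨ε₁, hε₁⟩ := exists_pullback_equiv i ((Scheme.Modules.pullback h').obj ΩX)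
    (V := V') (U := i ⁻¹ᵁ V') le_rfl hV' hV rfl
  obtain ⟨ε₂, hε₂⟩ := exists_pullback_equiv i ΩZ' (V := V') (U := i ⁻¹ᵁ V') le_rfl hV' hV rfl
  let E₁ := (TensorProduct.AlgebraTensorModule.congr
    (LinearEquiv.refl Γ(Z, i ⁻¹ᵁ V') Γ(Z, i ⁻¹ᵁ V')) e₁).trans ε₁
  let E₂ := ε₂.symm.trans (TensorProduct.AlgebraTensorModule.congr
    (LinearEquiv.refl Γ(Z, i ⁻¹ᵁ V') Γ(Z, i ⁻¹ᵁ V')) e₂)
  refine bijective_of_model E₁ E₂ ((KaehlerDifferential.mapBaseChange Γ(S, W) Γ(X, U)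
    Γ(Z', V')).baseChange Γ(Z, i ⁻¹ᵁ V')) _ ?_ hbij
  intro t
  induction t using TensorProduct.induction_on with
  | zero => simp
  | add x y hx hy =>
    rw [map_add, hx, hy, map_add, map_add, map_add]
  | tmul b y =>
    change _ = E₂ (((Scheme.Modules.pullback i).map c).app (i ⁻¹ᵁ V') (ε₁ (b ⊗ₜ e₁ y)))
    rw [hε₁, Scheme.Modules.Hom.app_smul, Groth.Agent.Lib.Helper23.PB.map_unitSec]
    change _ = (TensorProduct.AlgebraTensorModule.congr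
      (LinearEquiv.refl Γ(Z, i ⁻¹ᵁ V') Γ(Z, i ⁻¹ᵁ V')) e₂) (ε₂.symm _)
    have h5 : ε₂.symm (b • unitSec i ΩZ' le_rfl (c.app V' (e₁ y))) = b ⊗ₜ (c.app V' (e₁ y)) := by
      rw [LinearEquiv.symm_apply_eq, hε₂]
    rw [h5, TensorProduct.AlgebraTensorModule.congr_tmul, ← hκ1, hκ, LinearMap.baseChange_tmul]
    rfl

end chart

section main
variable {Z X S Z' : Scheme.{u}} (h : Z ⟶ X) (q : X ⟶ S) [FormallyUnramified h]
  (i : Z ⟶ Z') (h' : Z' ⟶ X) (hu : OmegaSh.IsUnivThickening h i h')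
  (ΩX : X.Modules) (dX : OmegaSh.Der q ΩX) (hdX : OmegaSh.IsUniversal dX)
  (ΩZ' : Z'.Modules) (dZ' : OmegaSh.Der (h' ≫ q) ΩZ') (hdZ' : OmegaSh.IsUniversal dZ')
  (c : (Scheme.Modules.pullback h').obj ΩX ⟶ ΩZ') (hc : OmegaSh.IsDiffCompat h' dX dZ' c)

include hu hdX hdZ' hc in
/-- **S9783** -/
theorem main_S9783 : IsIso ((Scheme.Modules.pullback i).map c) := by
  haveI qcX : ΩX.IsQuasicoherent := isQuasicoherent_of_isUniversal q dX hdX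
  haveI qcZ' : ΩZ'.IsQuasicoherent := isQuasicoherent_of_isUniversal (h' ≫ q) dZ' hdZ'
  have hih : i ≫ h' = h := hu.2.1
  have hch : ∀ z : Z, ∃ V' : Z'.Opens, z ∈ i ⁻¹ᵁ V' ∧ IsAffineOpen (i ⁻¹ᵁ V') ∧
      Function.Bijective (((Scheme.Modules.pullback i).map c).app (i ⁻¹ᵁ V')) := by
    intro z
    obtain ⟨W, hW, hzW, -⟩ := exists_isAffineOpen_mem_and_subset (x := q (h' (i z))) (U := ⊤) trivial
    obtain ⟨U, V', hU, hV', hV, hVU, hV'U, hzV', hUW, hres⟩ :=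
      exists_chart' h i h' hu (i z) (q ⁻¹ᵁ W) hzW
    exact ⟨V', hzV', hV, chart_S9783 h q i h' hih ΩX dX hdX ΩZ' dZ' hdZ' c hc hW hU hV' hV hUW hVU
      hV'U hres⟩
  choose V' hzV' hV hbij using hch
  refine isIso_of_bijective_app_cover _ (fun z : Z => i ⁻¹ᵁ V' z) ?_ hV hbij
  refine IsOpenCover.mk (eq_top_iff.mpr ?_)
  intro x _
  exact Opens.mem_iSup.mpr ⟨x, hzV' x⟩

end main

end Groth.Agent.Helper18UT
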