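import Mathlib
import Groth.Prelude.Def_Omega4
import Groth.Prelude.Def_RegImm
import Groth.Agent.Lib.Helper18UT16
import Groth.Agent.Lib.Helper18UT7
import Groth.Agent.Lib.Helper18LciConB
import Groth.Agent.Lib.Helper18LciConC
import Groth.Agent.Lib.Helper13LciSmD

set_option autoImplicit false
set_option linter.style.haveILetI false
set_option linter.unusedSectionVars false
set_option linter.unusedVariables false
universe u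
open CategoryTheory AlgebraicGeometry Limits TopologicalSpace Opposite TensorProduct

namespace Groth.Agent.Helper18LciCon

open Groth.Agent.Helper18OmLS Groth.Agent.Helper18Om Groth.Agent.Helper18Con Groth.Agent.Helper18UT
open Groth.Agent.Helper13PullbackUnit Groth.Agent.Helper13ModGlue Groth.Agent.Lib.Helper6

theorem isLocalization_of_eq_basicOpen {Z : Scheme.{u}} {W₀ : Z.Opens} (hW₀ : IsAffineOpen W₀)
    (gb : Γ(Z, W₀)) (T : Z.Opens) (hT : T = Z.basicOpen gb) (hTW₀ : T ≤ W₀) :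
    @IsLocalization.Away _ _ gb Γ(Z, T) _ (Z.presheaf.map (homOfLE hTW₀).op).hom.toAlgebra := by
  subst hT
  exact hW₀.isLocalization_basicOpen gb

/-- the prime of a point in the ring of sections of an open containing it. -/
noncomputable def ptPrime {Z : Scheme.{u}} (W₀ : Z.Opens) (z : Z) (hz : z ∈ W₀) : Ideal Γ(Z, W₀) :=
  (IsLocalRing.maximalIdeal (Z.presheaf.stalk z)).comap (Z.presheaf.germ W₀ z hz).hom

instance {Z : Scheme.{u}} (W₀ : Z.Opens) (z : Z) (hz : z ∈ W₀) : (ptPrime W₀ z hz).IsPrime :=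
  Ideal.comap_isPrime _ _

theorem mem_basicOpen_of_not_mem_ptPrime {Z : Scheme.{u}} (W₀ : Z.Opens) (z : Z) (hz : z ∈ W₀)
    (f : Γ(Z, W₀)) (hf : f ∉ ptPrime W₀ z hz) : z ∈ Z.basicOpen f := by
  rw [Scheme.mem_basicOpen _ _ z hz]
  by_contra h
  exact hf ((IsLocalRing.mem_maximalIdeal _).mpr h)

section main
variable {Z Y X Z' Y' : Scheme.{u}} (i : Z ⟶ Y) (b : Y ⟶ X) [FormallyUnramified i]
    [FormallyUnramified b]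
    (i' : Z ⟶ Z') (c : Z' ⟶ X) (hZ' : OmegaSh.IsUnivThickening (i ≫ b) i' c)
    (j : Y ⟶ Y') (d : Y' ⟶ X) (hY' : OmegaSh.IsUnivThickening b j d)
    (m : Z' ⟶ Y') (hm₁ : i' ≫ m = i ≫ j) (hm₂ : m ≫ d = c)
    (ψ₁ : (Scheme.Modules.pullback i).obj (Omega.conormal j) ⟶ Omega.conormal i')
    (hψ₁ : OmegaSh.IsConormalMap i' j m i ψ₁)
    (hlci : ∀ z : Z, Synt.IsKoszulAt i z)

include hZ' hY' hm₁ hm₂ hψ₁ hlci in
theorem exists_chart_injective (O : Z.Opens) (z : Z) (hzO : z ∈ O) :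
    ∃ T : Z.Opens, z ∈ T ∧ T ≤ O ∧ Function.Injective (ψ₁.app T) := by
  haveI hci' : IsClosedImmersion i' := hZ'.1.1.1
  haveI hcj : IsClosedImmersion j := hY'.1.1.1
  have hsqZ : i'.ker * i'.ker = ⊥ := hZ'.1.2
  have hi'c : i' ≫ c = i ≫ b := hZ'.2.1
  have hjd : j ≫ d = b := hY'.2.1
  haveI : FormallyUnramified (i ≫ b) :=
    MorphismProperty.comp_mem @FormallyUnramified i b inferInstance inferInstance
  -- the formula for ψ₁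
  obtain ⟨φ₀, -, huniq, hφ⟩ := exists_conormalMap i' j m i hm₁.symm
  have hψφ : ψ₁ = φ₀ := huniq ψ₁ hψ₁
  subst hψφ
  -- pointwise identities
  have hpt1 : ∀ y : Z, m (i' y) = j (i y) := fun y => by
    rw [← Scheme.Hom.comp_apply, ← Scheme.Hom.comp_apply, hm₁]
  have hpt2 : ∀ y : Z, c (i' y) = b (i y) := fun y => by
    rw [← Scheme.Hom.comp_apply, ← Scheme.Hom.comp_apply, hi'c]
  have hpt3 : ∀ y : Y, d (j y) = b y := fun y => by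
    rw [← Scheme.Hom.comp_apply, hjd]
  -- the charts
  obtain ⟨U, hU, hzU, -⟩ := exists_isAffineOpen_mem_and_subset (x := b (i z)) (U := ⊤) trivial
  obtain ⟨V', hV', hzV', hV'U⟩ := exists_isAffineOpen_mem_and_subset (x := j (i z))
    (U := d ⁻¹ᵁ U) (by change d (j (i z)) ∈ U; rw [hpt3]; exact hzU)
  obtain ⟨O'set, hO'open, hO'eq⟩ := i'.isEmbedding.isInducing.isOpen_iff.mp O.isOpen
  let O' : Z'.Opens := ⟨O'set, hO'open⟩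
  have hO' : ∀ z' : Z, i' z' ∈ O' ↔ z' ∈ O := by
    intro z'
    have : z' ∈ (i' ⁻¹' O'set) ↔ z' ∈ (O : Set Z) := by rw [hO'eq]
    exact this
  obtain ⟨W₀', hW₀', hzW₀', hW₀'le⟩ := exists_isAffineOpen_mem_and_subset (x := i' z)
    (U := (m ⁻¹ᵁ V' ⊓ c ⁻¹ᵁ U) ⊓ O') ⟨⟨by change m (i' z) ∈ V'; rw [hpt1]; exact hzV',
      by change c (i' z) ∈ U; rw [hpt2]; exact hzU⟩, (hO' z).mpr hzO⟩
  have hW₀'V' : W₀' ≤ m ⁻¹ᵁ V' := hW₀'le.trans (inf_le_left.trans inf_le_left)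
  have hW₀'U : W₀' ≤ c ⁻¹ᵁ U := hW₀'le.trans (inf_le_left.trans inf_le_right)
  have hW₀'O : W₀' ≤ O' := hW₀'le.trans inf_le_right
  have hVaff : IsAffineOpen (j ⁻¹ᵁ V') := hV'.preimage j
  have hW₀aff : IsAffineOpen (i' ⁻¹ᵁ W₀') := hW₀'.preimage i'
  have hW₀V : i' ⁻¹ᵁ W₀' ≤ i ⁻¹ᵁ (j ⁻¹ᵁ V') := chart_le' i' j m i hm₁.symm hW₀'V'
  -- lci
  have hLM := Groth.Agent.Helper13SmKR.lciMor_of_isKoszulAt i hlci
  have hLCI := (Groth.Agent.Lib.Helper5.LciLocal.lciMor_iff i).1 hLM (i' ⁻¹ᵁ W₀') (j ⁻¹ᵁ V')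
    hW₀aff hVaff hW₀V
  -- rings: `B' = Γ(Y', V')`, `B = Γ(Y, j⁻¹V')`, `C₀ = Γ(Z, i'⁻¹W₀')`
  letI algBC₀ : Algebra Γ(Y, j ⁻¹ᵁ V') Γ(Z, i' ⁻¹ᵁ W₀') :=
    (i.appLE (j ⁻¹ᵁ V') (i' ⁻¹ᵁ W₀') hW₀V).hom.toAlgebra
  have hLCI' : LCI.IsLCI Γ(Y, j ⁻¹ᵁ V') Γ(Z, i' ⁻¹ᵁ W₀') := hLCI
  let πB₀ : Γ(Y', V') →+* Γ(Y, j ⁻¹ᵁ V') := (j.appLE V' (j ⁻¹ᵁ V') le_rfl).hom
  have hπB₀ : Function.Surjective πB₀ := by
    have := j.app_surjective V' hV'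
    rw [Scheme.Hom.app_eq_appLE] at this
    exact this
  have hz₀ : z ∈ i' ⁻¹ᵁ W₀' := hzW₀'
  obtain ⟨gb, hgb, hdata⟩ := exists_lift_data πB₀ hπB₀ hLCI' (ptPrime (i' ⁻¹ᵁ W₀') z hz₀)
  have hzgb : z ∈ Z.basicOpen gb := mem_basicOpen_of_not_mem_ptPrime _ z hz₀ gb hgb
  obtain ⟨gb', rfl⟩ := i'.app_surjective W₀' hW₀' gb
  -- the final chart
  let W' : Z'.Opens := Z'.basicOpen gb'
  have hW'aff : IsAffineOpen W' := hW₀'.basicOpen gb'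
  have hTeq : i' ⁻¹ᵁ W' = Z.basicOpen (i'.app W₀' gb') := Scheme.preimage_basicOpen i' gb'
  have hTaff : IsAffineOpen (i' ⁻¹ᵁ W') := hW'aff.preimage i'
  have hW'W₀' : W' ≤ W₀' := Z'.basicOpen_le gb'
  have hTW₀ : i' ⁻¹ᵁ W' ≤ i' ⁻¹ᵁ W₀' := i'.preimage_mono hW'W₀'
  have hzT : z ∈ i' ⁻¹ᵁ W' := by rw [hTeq]; exact hzgb
  have hTO : i' ⁻¹ᵁ W' ≤ O := fun y hy => (hO' y).mp (hW₀'O (hW'W₀' hy))
  refine ⟨i' ⁻¹ᵁ W', hzT, hTO, ?_⟩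
  have hW'V' : W' ≤ m ⁻¹ᵁ V' := hW'W₀'.trans hW₀'V'
  have hW'U : W' ≤ c ⁻¹ᵁ U := hW'W₀'.trans hW₀'U
  have hTV : i' ⁻¹ᵁ W' ≤ i ⁻¹ᵁ (j ⁻¹ᵁ V') := chart_le' i' j m i hm₁.symm hW'V'
  letI algB'C' : Algebra Γ(Y', V') Γ(Z', W') := (m.appLE V' W' hW'V').hom.toAlgebra
  letI algB'C : Algebra Γ(Y', V') Γ(Z, i' ⁻¹ᵁ W') :=
    ((i'.appLE W' (i' ⁻¹ᵁ W') le_rfl).hom.comp (m.appLE V' W' hW'V').hom).toAlgebra
  let πC : Γ(Z', W') →ₐ[Γ(Y', V')] Γ(Z, i' ⁻¹ᵁ W') :=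
    { (i'.appLE W' (i' ⁻¹ᵁ W') le_rfl).hom with commutes' := fun _ => rfl }
  have hπCs : Function.Surjective πC := by
    have := i'.app_surjective W' hW'aff
    rw [Scheme.Hom.app_eq_appLE] at this
    exact this
  apply chart_injective i' j m i hm₁.symm hsqZ ψ₁ hφ hW'V' hV' hVaff hW'aff hTaff rfl (fun _ => rfl)
    πC (fun _ => rfl) hπCs
  intro y hy
  -- compatibility of the two routes `Γ(Y', V') → Γ(Z, T)`
  have hsqR : ∀ a : Γ(Y', V'), algebraMap Γ(Y', V') Γ(Z, i' ⁻¹ᵁ W') a =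
      i.appLE (j ⁻¹ᵁ V') (i' ⁻¹ᵁ W') hTV (j.appLE V' (j ⁻¹ᵁ V') le_rfl a) := by
    intro a
    have h1 : m.appLE V' W' hW'V' ≫ i'.appLE W' (i' ⁻¹ᵁ W') le_rfl =
        (i' ≫ m).appLE V' (i' ⁻¹ᵁ W') (i'.preimage_mono hW'V') :=
      Scheme.Hom.appLE_comp_appLE _ _ _ _ _ _ _
    have h2 : j.appLE V' (j ⁻¹ᵁ V') le_rfl ≫ i.appLE (j ⁻¹ᵁ V') (i' ⁻¹ᵁ W') hTV =
        (i ≫ j).appLE V' (i' ⁻¹ᵁ W') hTV :=
      Scheme.Hom.appLE_comp_appLE _ _ _ _ _ _ _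
    have h3 := OmegaSh.appLE_congr_hom hm₁ (U := V') (V := i' ⁻¹ᵁ W') (i'.preimage_mono hW'V') hTV
    have h4 : m.appLE V' W' hW'V' ≫ i'.appLE W' (i' ⁻¹ᵁ W') le_rfl =
        j.appLE V' (j ⁻¹ᵁ V') le_rfl ≫ i.appLE (j ⁻¹ᵁ V') (i' ⁻¹ᵁ W') hTV := by
      rw [h1, h2, h3]
    exact congr($h4 a)
  -- the lift data
  letI algC₀C : Algebra Γ(Z, i' ⁻¹ᵁ W₀') Γ(Z, i' ⁻¹ᵁ W') :=
    (Z.presheaf.map (homOfLE hTW₀).op).hom.toAlgebra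
  haveI hloc : IsLocalization.Away (i'.app W₀' gb') Γ(Z, i' ⁻¹ᵁ W') :=
    isLocalization_of_eq_basicOpen hW₀aff (i'.app W₀' gb') (i' ⁻¹ᵁ W') hTeq hTW₀
  have hcompat : ∀ b' : Γ(Y', V'), algebraMap Γ(Y', V') Γ(Z, i' ⁻¹ᵁ W') b' =
      algebraMap Γ(Z, i' ⁻¹ᵁ W₀') Γ(Z, i' ⁻¹ᵁ W')
        (algebraMap Γ(Y, j ⁻¹ᵁ V') Γ(Z, i' ⁻¹ᵁ W₀') (πB₀ b')) := by
    intro b'
    rw [hsqR]
    have h1 : i.appLE (j ⁻¹ᵁ V') (i' ⁻¹ᵁ W₀') hW₀V ≫ Z.presheaf.map (homOfLE hTW₀).op =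
        i.appLE (j ⁻¹ᵁ V') (i' ⁻¹ᵁ W') hTV := Scheme.Hom.appLE_map _ _ _
    exact (congr($h1 (πB₀ b'))).symm
  obtain ⟨R', _, _, _, R, _, σ, r, ft, ρ, hσs, hkerσ, hH1, hρs, hkerρ⟩ :=
    hdata Γ(Z, i' ⁻¹ᵁ W') hcompat
  -- ring-level universal thickenings over `A = Γ(X, U)`
  have hVU : j ⁻¹ᵁ V' ≤ b ⁻¹ᵁ U := by
    intro y hy
    change b y ∈ U
    rw [← hpt3]
    exact hV'U hy
  have hTU : i' ⁻¹ᵁ W' ≤ (i ≫ b) ⁻¹ᵁ U := by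
    intro y hy
    change b (i y) ∈ U
    rw [← hpt2]
    exact hW'U hy
  letI algAB : Algebra Γ(X, U) Γ(Y, j ⁻¹ᵁ V') := (b.appLE U (j ⁻¹ᵁ V') hVU).hom.toAlgebra
  letI algAB' : Algebra Γ(X, U) Γ(Y', V') := (d.appLE U V' hV'U).hom.toAlgebra
  letI algAC' : Algebra Γ(X, U) Γ(Z', W') := (c.appLE U W' hW'U).hom.toAlgebra
  letI algAC : Algebra Γ(X, U) Γ(Z, i' ⁻¹ᵁ W') := ((i ≫ b).appLE U (i' ⁻¹ᵁ W') hTU).hom.toAlgebra
  have hresY := Groth.Agent.S9740.result b j d hY' (j ⁻¹ᵁ V') U hVU V' rfl hV'U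
  have hresZ := Groth.Agent.S9740.result (i ≫ b) i' c hZ' (i' ⁻¹ᵁ W') U hTU W' rfl hW'U
  have hcommB : ∀ a : Γ(X, U), πB₀ (algebraMap Γ(X, U) Γ(Y', V') a) =
      algebraMap Γ(X, U) Γ(Y, j ⁻¹ᵁ V') a := by
    intro a
    have h1 : d.appLE U V' hV'U ≫ j.appLE V' (j ⁻¹ᵁ V') le_rfl =
        (j ≫ d).appLE U (j ⁻¹ᵁ V') (j.preimage_mono hV'U) :=
      Scheme.Hom.appLE_comp_appLE _ _ _ _ _ _ _
    have h2 := OmegaSh.appLE_congr_hom hjd (U := U) (V := j ⁻¹ᵁ V') (j.preimage_mono hV'U) hVU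
    rw [h2] at h1
    exact congr($h1 a)
  let πBA : Γ(Y', V') →ₐ[Γ(X, U)] Γ(Y, j ⁻¹ᵁ V') := { πB₀ with commutes' := hcommB }
  have hB := isUnivThickeningRing_appLE b j d le_rfl hVU hV'U hU hV' hVaff hresY rfl rfl πBA
    (fun _ => rfl)
  have hcommC : ∀ a : Γ(X, U), (i'.appLE W' (i' ⁻¹ᵁ W') le_rfl).hom
      (algebraMap Γ(X, U) Γ(Z', W') a) = algebraMap Γ(X, U) Γ(Z, i' ⁻¹ᵁ W') a := by
    intro a
    have h1 : c.appLE U W' hW'U ≫ i'.appLE W' (i' ⁻¹ᵁ W') le_rfl =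
        (i' ≫ c).appLE U (i' ⁻¹ᵁ W') (i'.preimage_mono hW'U) :=
      Scheme.Hom.appLE_comp_appLE _ _ _ _ _ _ _
    have h2 := OmegaSh.appLE_congr_hom hi'c (U := U) (V := i' ⁻¹ᵁ W') (i'.preimage_mono hW'U) hTU
    rw [h2] at h1
    exact congr($h1 a)
  let πCA : Γ(Z', W') →ₐ[Γ(X, U)] Γ(Z, i' ⁻¹ᵁ W') :=
    { (i'.appLE W' (i' ⁻¹ᵁ W') le_rfl).hom with commutes' := hcommC }
  have hC := isUnivThickeningRing_appLE (i ≫ b) i' c le_rfl hTU hW'U hU hW'aff hTaff hresZ rfl rfl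
    πCA (fun _ => rfl)
  have hAB'C' : ∀ a : Γ(X, U), algebraMap Γ(X, U) Γ(Z', W') a =
      algebraMap Γ(Y', V') Γ(Z', W') (algebraMap Γ(X, U) Γ(Y', V') a) := by
    intro a
    have h1 : d.appLE U V' hV'U ≫ m.appLE V' W' hW'V' =
        (m ≫ d).appLE U W' (m.preimage_mono hV'U |>.trans' hW'V') :=
      Scheme.Hom.appLE_comp_appLE _ _ _ _ _ _ _
    have h2 := OmegaSh.appLE_congr_hom hm₂ (U := U) (V := W')
      (m.preimage_mono hV'U |>.trans' hW'V') hW'U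
    rw [h2] at h1
    exact (congr($h1 a)).symm
  haveI : IsScalarTower Γ(X, U) Γ(Y', V') Γ(Z', W') := IsScalarTower.of_algebraMap_eq hAB'C'
  haveI : IsScalarTower Γ(X, U) Γ(Y', V') Γ(Z, i' ⁻¹ᵁ W') := by
    refine IsScalarTower.of_algebraMap_eq fun a => ?_
    change _ = (i'.appLE W' (i' ⁻¹ᵁ W') le_rfl).hom (algebraMap Γ(Y', V') Γ(Z', W')
      (algebraMap Γ(X, U) Γ(Y', V') a))
    rw [← hAB'C', hcommC]
  have hcommI : ∀ a : Γ(X, U), (i.appLE (j ⁻¹ᵁ V') (i' ⁻¹ᵁ W') hTV).hom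
      (algebraMap Γ(X, U) Γ(Y, j ⁻¹ᵁ V') a) = algebraMap Γ(X, U) Γ(Z, i' ⁻¹ᵁ W') a := by
    intro a
    have h1 : b.appLE U (j ⁻¹ᵁ V') hVU ≫ i.appLE (j ⁻¹ᵁ V') (i' ⁻¹ᵁ W') hTV =
        (i ≫ b).appLE U (i' ⁻¹ᵁ W') (hTV.trans (i.preimage_mono hVU)) :=
      Scheme.Hom.appLE_comp_appLE _ _ _ _ _ _ _
    exact congr($h1 a)
  let iB : Γ(Y, j ⁻¹ᵁ V') →ₐ[Γ(X, U)] Γ(Z, i' ⁻¹ᵁ W') :=
    { (i.appLE (j ⁻¹ᵁ V') (i' ⁻¹ᵁ W') hTV).hom with commutes' := hcommI }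
  have hiB : ∀ b' : Γ(Y', V'), iB (πBA b') = algebraMap Γ(Y', V') Γ(Z, i' ⁻¹ᵁ W') b' :=
    fun b' => (hsqR b').symm
  have hUT := isUnivThickeningRing_tower πBA hB πCA hC iB hiB πC (fun _ => rfl)
  have hN : ∀ b' : Γ(Y', V'), b' ∈ RingHom.ker πB₀ ↔ ∃ n, idealLin j.ker V' n = b' := by
    intro b'
    rw [RingHom.mem_ker]
    constructor
    · intro h
      have h' : j.app V' b' = 0 := by
        rw [Scheme.Hom.app_eq_appLE]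
        exact h
      exact exists_idealSect_eq j V' b' h'
    · rintro ⟨n, rfl⟩
      have := app_idealSect_eq_zero j V' n
      rw [Scheme.Hom.app_eq_appLE] at this
      exact this
  have hN2 : RingHom.ker πB₀ * RingHom.ker πB₀ = ⊥ := by
    have := hB.2.1
    rw [pow_two] at this
    exact this
  exact core (idealLin j.ker V') (idealSect_injective j.ker V') (RingHom.ker πB₀) hN hN2 σ hσs
    hkerσ ft hH1 ρ hρs hkerρ πC hUT y hy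

include hZ' hY' hm₁ hm₂ hψ₁ hlci in
/-- `ψ₁` is a monomorphism when `i` is lci. -/
theorem mono_psi1 : Mono ψ₁ := by
  refine mono_of_injective_app_basis ψ₁ {T | Function.Injective (ψ₁.app T)} ?_ (fun T hT => hT)
  refine TopologicalSpace.Opens.isBasis_iff_nbhd.mpr ?_
  intro O z hz
  obtain ⟨T, hzT, hTO, hinj⟩ :=
    exists_chart_injective i b i' c hZ' j d hY' m hm₁ hm₂ ψ₁ hψ₁ hlci O z hz
  exact ⟨T, hinj, hzT, hTO⟩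

end main

section S9785
variable {Z Y X Z' Y' Z'' : Scheme.{u}} (i : Z ⟶ Y) (b : Y ⟶ X)
    [FormallyUnramified i] [FormallyUnramified b]
    (i' : Z ⟶ Z') (c : Z' ⟶ X) (hZ' : OmegaSh.IsUnivThickening (i ≫ b) i' c)
    (j : Y ⟶ Y') (d : Y' ⟶ X) (hY' : OmegaSh.IsUnivThickening b j d)
    (m : Z' ⟶ Y') (hm₁ : i' ≫ m = i ≫ j) (hm₂ : m ≫ d = c)
    (i'' : Z ⟶ Z'') (e : Z'' ⟶ Y) (hZ'' : OmegaSh.IsUnivThickening i i'' e)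
    (n : Z'' ⟶ Z') (hn₁ : i'' ≫ n = i') (hn₂ : n ≫ c = e ≫ b)
    (ψ₁ : (Scheme.Modules.pullback i).obj (Omega.conormal j) ⟶ Omega.conormal i')
    (hψ₁ : OmegaSh.IsConormalMap i' j m i ψ₁)
    (ψ₂ : (Scheme.Modules.pullback (𝟙 Z)).obj (Omega.conormal i') ⟶ Omega.conormal i'')
    (hψ₂ : OmegaSh.IsConormalMap i'' i' n (𝟙 Z) ψ₂)
    (hlci : ∀ z : Z, Synt.IsKoszulAt i z)

include hZ' hY' hm₁ hm₂ hZ'' hn₁ hn₂ hψ₁ hψ₂ hlci in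
theorem main_S9785 :
    ∃ w : (Scheme.Modules.pullback (𝟙 Z)).map ψ₁ ≫ ψ₂ = 0, (ShortComplex.mk _ _ w).ShortExact := by
  obtain ⟨w, hex, hepi⟩ := main_S9784 i b i' c hZ' j d hY' m hm₁ hm₂ i'' e hZ'' n hn₁ hn₂ ψ₁ hψ₁
    ψ₂ hψ₂
  refine ⟨w, ?_⟩
  haveI : Mono ψ₁ := mono_psi1 i b i' c hZ' j d hY' m hm₁ hm₂ ψ₁ hψ₁ hlci
  haveI : Mono ((Scheme.Modules.pullback (𝟙 Z)).map ψ₁) := by
    have hnat : (Scheme.Modules.pullback (𝟙 Z)).map ψ₁ ≫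
        (Scheme.Modules.pullbackId Z).hom.app (Omega.conormal i') =
        (Scheme.Modules.pullbackId Z).hom.app _ ≫ ψ₁ := (Scheme.Modules.pullbackId Z).hom.naturality ψ₁
    have h1 : (Scheme.Modules.pullback (𝟙 Z)).map ψ₁ =
        ((Scheme.Modules.pullbackId Z).hom.app _ ≫ ψ₁) ≫
          (Scheme.Modules.pullbackId Z).inv.app (Omega.conormal i') := by
      rw [← hnat, Category.assoc, Iso.hom_inv_id_app, Category.comp_id]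
    rw [h1]
    infer_instance
  haveI := hepi
  exact ShortComplex.ShortExact.mk' hex inferInstance inferInstance

end S9785

end Groth.Agent.Helper18LciCon
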