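import Mathlib
import Groth.Prelude.Def_CAlgX
import Groth.Prelude.Def_LCI2
import Groth.Prelude.Def_Omega4
import Groth.Agent.Lib.Helper13KzH1
import Groth.Agent.Lib.Helper18H1ConA

set_option autoImplicit false
set_option linter.style.haveILetI false
set_option linter.unusedSectionVars false
set_option linter.unusedVariables false
universe u
open TensorProduct

namespace Groth.Agent.Helper18LciFin

open Groth.Agent.Helper18H1Con

section pres
variable {B C₀ : Type u} [CommRing B] [CommRing C₀] [Algebra B C₀]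

/-- a Koszul presentation by a formally smooth algebra, locally around a prime. -/
theorem exists_koszul_presentation (hlci : LCI.IsLCI B C₀) (𝔮 : Ideal C₀) [h𝔮 : 𝔮.IsPrime] :
    ∃ gb : C₀, gb ∉ 𝔮 ∧ ∀ (C : Type u) [CommRing C] [Algebra C₀ C] [Algebra B C]
      [IsScalarTower B C₀ C] [IsLocalization.Away gb C],
      ∃ (R : Type u) (_ : CommRing R) (_ : Algebra B R) (_ : Algebra.FormallySmooth B R)
        (r : ℕ) (l : Fin r → R) (ρ : R →ₐ[B] C),
        CAlgX.IsH1Regular l ∧ Function.Surjective ρ ∧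
        RingHom.ker ρ.toRingHom = Ideal.span (Set.range l) := by
  obtain ⟨-, n, f, hf, hK⟩ := hlci
  have h𝔭 : (𝔮.comap f.toRingHom).IsPrime := Ideal.comap_isPrime _ _
  obtain ⟨g, hg, l, hl, hspan⟩ := hK ⟨𝔮.comap f.toRingHom, h𝔭⟩ (by
    intro x hx
    change f.toRingHom x ∈ 𝔮
    rw [RingHom.mem_ker.mp hx]
    exact 𝔮.zero_mem)
  refine ⟨f g, hg, ?_⟩
  intro C _ _ _ _ _
  let R := Localization.Away g
  haveI : Algebra.FormallySmooth (MvPolynomial (Fin n) B) R :=
    Algebra.FormallySmooth.of_isLocalization (Submonoid.powers g)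
  haveI : Algebra.FormallySmooth B R :=
    Algebra.FormallySmooth.comp B (MvPolynomial (Fin n) B) R
  let ρ₀ : R →+* C := IsLocalization.Away.map R C f.toRingHom g
  have hρ₀s : Function.Surjective ρ₀ := by
    haveI : IsLocalization (Submonoid.map f.toRingHom (Submonoid.powers g)) C := by
      rw [Submonoid.map_powers]
      infer_instance
    exact IsLocalization.map_surjective_of_surjective _ _ _ hf
  have hkerρ₀ : RingHom.ker ρ₀ = Ideal.span {x | x ∈ l} := by
    have h1 := IsLocalization.ker_map (S := R) C f.toRingHom (Submonoid.map_powers f.toRingHom g)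
    have h2 : RingHom.ker ρ₀ =
        (RingHom.ker f.toRingHom).map (algebraMap (MvPolynomial (Fin n) B) R) := h1
    rw [h2, hspan]
  have hcomm : ∀ b : B, ρ₀ (algebraMap B R b) = algebraMap B C b := by
    intro b
    have e1 : algebraMap B R b =
        algebraMap (MvPolynomial (Fin n) B) R (MvPolynomial.C b) := rfl
    rw [e1]
    have e3 : ρ₀ (algebraMap (MvPolynomial (Fin n) B) R (MvPolynomial.C b)) =
        algebraMap C₀ C (f.toRingHom (MvPolynomial.C b)) :=
      IsLocalization.map_eq _ _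
    rw [e3, IsScalarTower.algebraMap_apply B C₀ C]
    congr 1
    exact f.commutes b
  let ρ : R →ₐ[B] C := { ρ₀ with commutes' := hcomm }
  refine ⟨R, inferInstance, inferInstance, inferInstance, l.length, l.get, ρ,
    Groth.Agent.Helper13KzH1.isH1Regular_of_isKoszulRegularSeq l hl, hρ₀s, ?_⟩
  have h1 : RingHom.ker ρ.toRingHom = RingHom.ker ρ₀ := rfl
  rw [h1, hkerρ₀, Set.range_list_get]

end pres

section retract
variable {B C C' R : Type u} [CommRing B] [CommRing C] [CommRing C'] [CommRing R]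
  [Algebra B C] [Algebra B C'] [Algebra B R] [Algebra.FormallySmooth B R]
  (π : C' →ₐ[B] C) (hU : OmegaSh.IsUnivThickeningRing B C C' π)
  {r : ℕ} (l : Fin r → R) (hl : CAlgX.IsH1Regular l)
  (ρ : R →ₐ[B] C) (hρs : Function.Surjective ρ)
  (hkerρ : RingHom.ker ρ.toRingHom = Ideal.span (Set.range l))

include hU hl hρs hkerρ in
/-- the kernel of the universal thickening of a Koszul quotient of a formally smooth algebra is a retract of
a free module: the data. -/
theorem exists_retract_data :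
    ∃ (cf : C' → Fin r → C) (m : Fin r → C'), (∀ k, π (m k) = 0) ∧
      (∀ x y, π x = 0 → π y = 0 → cf (x + y) = cf x + cf y) ∧
      (∀ c x, π x = 0 → cf (c * x) = π c • cf x) ∧
      (∀ x, π x = 0 → ∀ a : Fin r → C', (∀ k, π (a k) = cf x k) → ∑ k, a k * m k = x) := by
  obtain ⟨hπs, hπk, hπu⟩ := hU
  set I : Ideal R := Ideal.span (Set.range l) with hI
  have hρI : ∀ a ∈ I, ρ a = 0 := by
    intro a ha
    have : a ∈ RingHom.ker ρ.toRingHom := by rw [hkerρ]; exact ha
    exact this
  have hρl : ∀ k, ρ (l k) = 0 := fun k => hρI _ (Ideal.subset_span ⟨k, rfl⟩)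
  have hρI2 : ∀ a ∈ I ^ 2, ρ a = 0 := fun a ha => hρI a (Ideal.pow_le_self two_ne_zero ha)
  let q : R →ₐ[B] R ⧸ I ^ 2 := Ideal.Quotient.mkₐ B (I ^ 2)
  have hq : Function.Surjective q := Ideal.Quotient.mkₐ_surjective B (I ^ 2)
  let πT : R ⧸ I ^ 2 →ₐ[B] C := Ideal.Quotient.liftₐ (I ^ 2) ρ hρI2
  have hπTq : ∀ x : R, πT (q x) = ρ x := fun x => rfl
  have hπTs : Function.Surjective πT := by
    intro c
    obtain ⟨x, rfl⟩ := hρs c
    exact ⟨q x, rfl⟩
  set K : Ideal (R ⧸ I ^ 2) := RingHom.ker πT with hK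
  have hKmem : ∀ t ∈ K, ∃ x ∈ I, q x = t := by
    intro t ht
    obtain ⟨x, rfl⟩ := hq t
    refine ⟨x, ?_, rfl⟩
    have hx : x ∈ RingHom.ker ρ.toRingHom := by
      rw [RingHom.mem_ker]
      exact ht
    rw [hkerρ] at hx
    exact hx
  have hK2 : K ^ 2 = ⊥ := by
    rw [eq_bot_iff, show K ^ 2 = K * K from pow_two K, Ideal.mul_le]
    intro a ha b hb
    obtain ⟨x, hx, rfl⟩ := hKmem a ha
    obtain ⟨y, hy, rfl⟩ := hKmem b hb
    rw [Ideal.mem_bot, ← map_mul]
    change Ideal.Quotient.mk (I ^ 2) (x * y) = 0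
    rw [Ideal.Quotient.eq_zero_iff_mem, pow_two]
    exact Ideal.mul_mem_mul hx hy
  let e := Ideal.quotientKerAlgEquivOfSurjective hπTs
  obtain ⟨θ, hθ, -⟩ := hπu (R ⧸ I ^ 2) K hK2 e.symm.toAlgHom
  have hπTθ : ∀ c' : C', πT (θ c') = π c' := by
    intro c'
    have h1 := congr($hθ c')
    have h2 : e (Ideal.Quotient.mk K (θ c')) = e (e.symm (π c')) := congrArg e h1
    rw [e.apply_symm_apply] at h2
    exact h2
  -- the retraction `λ`
  set M : Ideal C' := RingHom.ker π.toRingHom with hM
  have hMmem : ∀ x, x ∈ M ↔ π x = 0 := fun x => RingHom.mem_ker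
  have hMnil : IsNilpotent M := ⟨2, by rw [hπk]; rfl⟩
  let e' := Ideal.quotientKerAlgEquivOfSurjective hπs
  let lam₀ : R →ₐ[B] C' := Algebra.FormallySmooth.lift M hMnil (e'.symm.toAlgHom.comp ρ)
  have hlam₀ : ∀ x : R, π (lam₀ x) = ρ x := by
    intro x
    have h1 : Ideal.Quotient.mk M (lam₀ x) = e'.symm (ρ x) :=
      Algebra.FormallySmooth.mk_lift M hMnil (e'.symm.toAlgHom.comp ρ) x
    have h2 : e' (Ideal.Quotient.mk M (lam₀ x)) = e' (e'.symm (ρ x)) := congrArg e' h1
    rw [e'.apply_symm_apply] at h2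
    exact h2
  have hMM : ∀ x y, π x = 0 → π y = 0 → x * y = 0 := by
    intro x y hx hy
    have : x * y ∈ M ^ 2 := by
      rw [pow_two]
      exact Ideal.mul_mem_mul ((hMmem x).mpr hx) ((hMmem y).mpr hy)
    rw [hπk] at this
    exact this
  have hlam₀I2 : ∀ a ∈ I ^ 2, lam₀ a = 0 := by
    intro a ha
    rw [pow_two] at ha
    refine Submodule.mul_induction_on ha ?_ ?_
    · intro x hx y hy
      rw [map_mul]
      exact hMM _ _ (by rw [hlam₀, hρI x hx]) (by rw [hlam₀, hρI y hy])
    · intro x y hx hy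
      rw [map_add, hx, hy, add_zero]
  let lam : R ⧸ I ^ 2 →ₐ[B] C' := Ideal.Quotient.liftₐ (I ^ 2) lam₀ hlam₀I2
  have hlamq : ∀ x : R, lam (q x) = lam₀ x := fun x => rfl
  have hπlam : ∀ t, π (lam t) = πT t := by
    intro t
    obtain ⟨x, rfl⟩ := hq t
    rw [hlamq, hlam₀, hπTq]
  have hlamθ : ∀ c' : C', lam (θ c') = c' := by
    obtain ⟨φ, -, hφu⟩ := hπu C' M (by rw [hπk]) e'.symm.toAlgHom
    have h1 : lam.comp θ = φ := by
      apply hφu
      ext c'
      change Ideal.Quotient.mk M (lam (θ c')) = e'.symm (π c')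
      apply e'.injective
      rw [e'.apply_symm_apply]
      change π (lam (θ c')) = π c'
      rw [hπlam, hπTθ]
    have h2 : AlgHom.id B C' = φ := by
      apply hφu
      ext c'
      change Ideal.Quotient.mk M c' = e'.symm (π c')
      apply e'.injective
      rw [e'.apply_symm_apply]
      rfl
    intro c'
    exact congr($(h1.trans h2.symm) c')
  -- coordinates
  have hex : ∀ x : C', ∃ a : Fin r → R, π x = 0 → θ x = q (∑ k, a k * l k) := by
    intro x
    by_cases hx : π x = 0
    · have : θ x ∈ K := by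
        rw [hK, RingHom.mem_ker, hπTθ, hx]
      obtain ⟨y, hy, hyx⟩ := hKmem _ this
      obtain ⟨a, rfl⟩ := (Ideal.mem_span_range_iff_exists_fun).mp hy
      exact ⟨a, fun _ => hyx.symm⟩
    · exact ⟨0, fun h => absurd h hx⟩
  choose A hA using hex
  have huniq : ∀ (x : C') (a : Fin r → R), π x = 0 → θ x = q (∑ k, a k * l k) →
      (fun k => ρ (A x k)) = fun k => ρ (a k) := by
    intro x a hx ha
    have h1 : q (∑ k, (A x k - a k) * l k) = 0 := by
      simp only [sub_mul, Finset.sum_sub_distrib, map_sub]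
      rw [← hA x hx, ← ha, sub_self]
    have h2 : ∑ k, (A x k - a k) * l k ∈ I ^ 2 := by
      change Ideal.Quotient.mk (I ^ 2) _ = 0 at h1
      rwa [Ideal.Quotient.eq_zero_iff_mem] at h1
    have h3 := coeff_mem_of_sum_mem_sq l hl (fun k => A x k - a k) h2
    funext k
    have h4 := hρI _ (h3 k)
    rw [map_sub, sub_eq_zero] at h4
    exact h4
  refine ⟨fun x k => ρ (A x k), fun k => lam (q (l k)), ?_, ?_, ?_, ?_⟩
  · intro k
    rw [hπlam, hπTq, hρl]
  · intro x y hx hy
    have hxy : π (x + y) = 0 := by rw [map_add, hx, hy, add_zero]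
    have h1 : θ (x + y) = q (∑ k, (A x k + A y k) * l k) := by
      rw [map_add, hA x hx, hA y hy, ← map_add, ← Finset.sum_add_distrib]
      congr 1
      exact Finset.sum_congr rfl fun k _ => (add_mul _ _ _).symm
    change (fun k => ρ (A (x + y) k)) = (fun k => ρ (A x k)) + (fun k => ρ (A y k))
    rw [huniq (x + y) _ hxy h1]
    funext k
    simp only [map_add, Pi.add_apply]
  · intro c x hx
    have hcx : π (c * x) = 0 := by rw [map_mul, hx, mul_zero]
    obtain ⟨s, hs⟩ := hq (θ c)
    have h1 : θ (c * x) = q (∑ k, (s * A x k) * l k) := by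
      rw [map_mul, hA x hx, ← hs, ← map_mul, Finset.mul_sum]
      congr 1
      exact Finset.sum_congr rfl fun k _ => (mul_assoc _ _ _).symm
    change (fun k => ρ (A (c * x) k)) = π c • (fun k => ρ (A x k))
    rw [huniq (c * x) _ hcx h1]
    have h2 : ρ s = π c := by rw [← hπTq, hs, hπTθ]
    funext k
    simp only [map_mul, Pi.smul_apply, smul_eq_mul, h2]
  · intro x hx a ha
    have h1 : x = ∑ k, lam (q (A x k)) * lam (q (l k)) := by
      conv_lhs => rw [← hlamθ x, hA x hx]
      rw [map_sum, map_sum]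
      exact Finset.sum_congr rfl fun k _ => by rw [map_mul, map_mul]
    conv_rhs => rw [h1]
    refine Finset.sum_congr rfl fun k _ => ?_
    have h2 : π (a k - lam (q (A x k))) = 0 := by
      rw [map_sub, ha k, hπlam, hπTq, sub_self]
    have h3 : π (lam (q (l k))) = 0 := by rw [hπlam, hπTq, hρl]
    have h4 := hMM _ _ h2 h3
    rw [sub_mul, sub_eq_zero] at h4
    exact h4

end retract

section module
variable {C' C : Type u} [CommRing C'] [CommRing C] [Algebra C' C]
  (hsurj : Function.Surjective (algebraMap C' C))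
  {N : Type u} [AddCommGroup N] [Module C' N] (ι : N →ₗ[C'] C') (hι : Function.Injective ι)
  (hιker : ∀ n, algebraMap C' C (ι n) = 0)
  {r : ℕ} (cf : C' → Fin r → C) (m : Fin r → N)
  (hadd : ∀ x y, algebraMap C' C x = 0 → algebraMap C' C y = 0 → cf (x + y) = cf x + cf y)
  (hsmul : ∀ c x, algebraMap C' C x = 0 → cf (c * x) = algebraMap C' C c • cf x)
  (hretr : ∀ x, algebraMap C' C x = 0 → ∀ a : Fin r → C', (∀ k, algebraMap C' C (a k) = cf x k) →
    ∑ k, a k * ι (m k) = x)

include hsurj hι hιker hadd hsmul hretr in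
theorem finite_projective_tensor :
    Module.Finite C (C ⊗[C'] N) ∧ Module.Projective C (C ⊗[C'] N) := by
  let α₀ : N →ₗ[C'] (Fin r → C) :=
    { toFun := fun n => cf (ι n)
      map_add' := fun x y => by rw [map_add]; exact hadd _ _ (hιker x) (hιker y)
      map_smul' := fun c x => by
        rw [map_smul, smul_eq_mul, hsmul c _ (hιker x), RingHom.id_apply, algebraMap_smul] }
  let α : C ⊗[C'] N →ₗ[C] (Fin r → C) := LinearMap.liftBaseChange C α₀
  let β : (Fin r → C) →ₗ[C] C ⊗[C'] N :=
    ∑ k, (LinearMap.proj k : (Fin r → C) →ₗ[C] C).smulRight ((1 : C) ⊗ₜ[C'] m k)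
  have hβ : ∀ c : Fin r → C, β c = ∑ k, c k • ((1 : C) ⊗ₜ[C'] m k) := by
    intro c
    simp only [β, LinearMap.sum_apply, LinearMap.smulRight_apply, LinearMap.proj_apply]
  have hcomp : β ∘ₗ α = LinearMap.id := by
    apply TensorProduct.AlgebraTensorModule.ext
    intro c n
    have h0 : c ⊗ₜ[C'] n = c • ((1 : C) ⊗ₜ[C'] n) := by
      rw [TensorProduct.smul_tmul', smul_eq_mul, mul_one]
    change β (α (c ⊗ₜ[C'] n)) = c ⊗ₜ[C'] n
    rw [h0, map_smul, map_smul]
    congr 1
    have h1 : α ((1 : C) ⊗ₜ[C'] n) = cf (ι n) := by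
      change LinearMap.liftBaseChange C α₀ ((1 : C) ⊗ₜ[C'] n) = _
      rw [LinearMap.liftBaseChange_tmul, one_smul]
      rfl
    rw [h1, hβ]
    have ha0 := fun k => hsurj (cf (ι n) k)
    choose a ha using ha0
    have h2 : ∑ k, a k • m k = n := by
      apply hι
      rw [map_sum]
      have := hretr (ι n) (hιker n) a ha
      refine Eq.trans ?_ this
      exact Finset.sum_congr rfl fun k _ => by rw [map_smul, smul_eq_mul]
    conv_rhs => rw [← h2]
    rw [TensorProduct.tmul_sum]
    refine Finset.sum_congr rfl fun k _ => ?_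
    rw [← ha k, algebraMap_smul, TensorProduct.tmul_smul]
  have hβs : Function.Surjective β := by
    intro t
    exact ⟨α t, LinearMap.congr_fun hcomp t⟩
  exact ⟨Module.Finite.of_surjective β hβs, Module.Projective.of_split α β hcomp⟩

end module

end Groth.Agent.Helper18LciFin
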