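import Mathlib
import Groth.Prelude.Def_Omega4
import Groth.Prelude.Def_RegImm
import Groth.Agent.Lib.Helper18LciConD
import Groth.Agent.Lib.Helper18LciFinA
import Groth.Agent.Lib.Helper20LocFree

set_option autoImplicit false
set_option linter.style.haveILetI false
set_option linter.unusedSectionVars false
set_option linter.unusedVariables false
universe u
open CategoryTheory AlgebraicGeometry Limits TopologicalSpace Opposite TensorProduct

namespace Groth.Agent.Helper18LciFin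

open Groth.Agent.Helper18OmLS Groth.Agent.Helper18Om Groth.Agent.Helper18Con Groth.Agent.Helper18UT
open Groth.Agent.Helper13PullbackUnit Groth.Agent.Helper13ModGlue Groth.Agent.Lib.Helper6
open Groth.Agent.Helper18LciCon

section main
variable {X Y X' : Scheme.{u}} (f : X ⟶ Y) (hf : ∀ x : X, Synt.IsKoszulAt f x)
    [FormallyUnramified f] (i : X ⟶ X') (h' : X' ⟶ Y) (hu : OmegaSh.IsUnivThickening f i h')

include hf hu in
theorem exists_chart_fin (x : X) :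
    ∃ (T : X.Opens) (_ : IsAffineOpen T), x ∈ T ∧
      Module.Finite Γ(X, T) Γ((Scheme.Modules.pullback i).obj (ClSub.idealMod i.ker), T) ∧
      Module.Projective Γ(X, T) Γ((Scheme.Modules.pullback i).obj (ClSub.idealMod i.ker), T) := by
  haveI hci : IsClosedImmersion i := hu.1.1.1
  have hih : i ≫ h' = f := hu.2.1
  have hpt : ∀ y : X, h' (i y) = f y := fun y => by
    rw [← Scheme.Hom.comp_apply, hih]
  -- the charts
  obtain ⟨V, hV, hxV, -⟩ := exists_isAffineOpen_mem_and_subset (x := f x) (U := ⊤) trivial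
  obtain ⟨W₀', hW₀', hxW₀', hW₀'V⟩ := exists_isAffineOpen_mem_and_subset (x := i x)
    (U := h' ⁻¹ᵁ V) (by change h' (i x) ∈ V; rw [hpt]; exact hxV)
  have hW₀aff : IsAffineOpen (i ⁻¹ᵁ W₀') := hW₀'.preimage i
  have hW₀V : i ⁻¹ᵁ W₀' ≤ f ⁻¹ᵁ V := by
    intro y hy
    change f y ∈ V
    rw [← hpt]
    exact hW₀'V hy
  have hLM := Groth.Agent.Helper13SmKR.lciMor_of_isKoszulAt f hf
  have hLCI := (Groth.Agent.Lib.Helper5.LciLocal.lciMor_iff f).1 hLM (i ⁻¹ᵁ W₀') V hW₀aff hV hW₀V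
  letI algBC₀ : Algebra Γ(Y, V) Γ(X, i ⁻¹ᵁ W₀') := (f.appLE V (i ⁻¹ᵁ W₀') hW₀V).hom.toAlgebra
  have hLCI' : LCI.IsLCI Γ(Y, V) Γ(X, i ⁻¹ᵁ W₀') := hLCI
  have hx₀ : x ∈ i ⁻¹ᵁ W₀' := hxW₀'
  obtain ⟨gb, hgb, hdata⟩ := exists_koszul_presentation hLCI' (ptPrime (i ⁻¹ᵁ W₀') x hx₀)
  have hxgb : x ∈ X.basicOpen gb := mem_basicOpen_of_not_mem_ptPrime _ x hx₀ gb hgb
  obtain ⟨gb', rfl⟩ := i.app_surjective W₀' hW₀' gb
  let W' : X'.Opens := X'.basicOpen gb'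
  have hW'aff : IsAffineOpen W' := hW₀'.basicOpen gb'
  have hTeq : i ⁻¹ᵁ W' = X.basicOpen (i.app W₀' gb') := Scheme.preimage_basicOpen i gb'
  have hTaff : IsAffineOpen (i ⁻¹ᵁ W') := hW'aff.preimage i
  have hW'W₀' : W' ≤ W₀' := X'.basicOpen_le gb'
  have hTW₀ : i ⁻¹ᵁ W' ≤ i ⁻¹ᵁ W₀' := i.preimage_mono hW'W₀'
  have hxT : x ∈ i ⁻¹ᵁ W' := by rw [hTeq]; exact hxgb
  refine ⟨i ⁻¹ᵁ W', hTaff, hxT, ?_⟩
  have hW'V : W' ≤ h' ⁻¹ᵁ V := hW'W₀'.trans hW₀'V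
  have hTV : i ⁻¹ᵁ W' ≤ f ⁻¹ᵁ V := hTW₀.trans hW₀V
  letI algC₀C : Algebra Γ(X, i ⁻¹ᵁ W₀') Γ(X, i ⁻¹ᵁ W') :=
    (X.presheaf.map (homOfLE hTW₀).op).hom.toAlgebra
  haveI hloc : IsLocalization.Away (i.app W₀' gb') Γ(X, i ⁻¹ᵁ W') :=
    isLocalization_of_eq_basicOpen hW₀aff (i.app W₀' gb') (i ⁻¹ᵁ W') hTeq hTW₀
  letI algBC : Algebra Γ(Y, V) Γ(X, i ⁻¹ᵁ W') := (f.appLE V (i ⁻¹ᵁ W') hTV).hom.toAlgebra
  letI algBC' : Algebra Γ(Y, V) Γ(X', W') := (h'.appLE V W' hW'V).hom.toAlgebra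
  haveI : IsScalarTower Γ(Y, V) Γ(X, i ⁻¹ᵁ W₀') Γ(X, i ⁻¹ᵁ W') := by
    refine IsScalarTower.of_algebraMap_eq fun a => ?_
    have h1 : f.appLE V (i ⁻¹ᵁ W₀') hW₀V ≫ X.presheaf.map (homOfLE hTW₀).op =
        f.appLE V (i ⁻¹ᵁ W') hTV := Scheme.Hom.appLE_map _ _ _
    exact (congr($h1 a)).symm
  have hres := Groth.Agent.S9740.result f i h' hu (i ⁻¹ᵁ W') V hTV W' rfl hW'V
  have hcommC : ∀ a : Γ(Y, V), (i.appLE W' (i ⁻¹ᵁ W') le_rfl).hom
      (algebraMap Γ(Y, V) Γ(X', W') a) = algebraMap Γ(Y, V) Γ(X, i ⁻¹ᵁ W') a := by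
    intro a
    have h1 : h'.appLE V W' hW'V ≫ i.appLE W' (i ⁻¹ᵁ W') le_rfl =
        (i ≫ h').appLE V (i ⁻¹ᵁ W') (i.preimage_mono hW'V) :=
      Scheme.Hom.appLE_comp_appLE _ _ _ _ _ _ _
    have h2 := OmegaSh.appLE_congr_hom hih (U := V) (V := i ⁻¹ᵁ W') (i.preimage_mono hW'V) hTV
    rw [h2] at h1
    exact congr($h1 a)
  let πCA : Γ(X', W') →ₐ[Γ(Y, V)] Γ(X, i ⁻¹ᵁ W') :=
    { (i.appLE W' (i ⁻¹ᵁ W') le_rfl).hom with commutes' := hcommC }
  have hC := isUnivThickeningRing_appLE f i h' le_rfl hTV hW'V hV hW'aff hTaff hres rfl rfl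
    πCA (fun _ => rfl)
  obtain ⟨R, _, _, _, r, l, ρ, hH1, hρs, hkerρ⟩ := hdata Γ(X, i ⁻¹ᵁ W')
  obtain ⟨cf, m, hm, hadd, hsmul, hretr⟩ := exists_retract_data πCA hC l hH1 ρ hρs hkerρ
  -- module level
  letI algC'C : Algebra Γ(X', W') Γ(X, i ⁻¹ᵁ W') := (i.appLE W' (i ⁻¹ᵁ W') le_rfl).hom.toAlgebra
  have hπalg : ∀ c', algebraMap Γ(X', W') Γ(X, i ⁻¹ᵁ W') c' = πCA c' := fun _ => rfl
  have hπapp : ∀ c', πCA c' = i.app W' c' := by
    intro c'
    have : i.app W' = i.appLE W' (i ⁻¹ᵁ W') le_rfl := Scheme.Hom.app_eq_appLE _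
    rw [this]
    rfl
  have hsurj : Function.Surjective (algebraMap Γ(X', W') Γ(X, i ⁻¹ᵁ W')) := hC.1
  have hn0 : ∀ k, ∃ n : Γ(ClSub.idealMod i.ker, W'), OmegaSh.idealSect i.ker W' n = m k := by
    intro k
    apply exists_idealSect_eq i W'
    rw [← hπapp]
    exact hm k
  choose n hn using hn0
  have hιker : ∀ s : Γ(ClSub.idealMod i.ker, W'),
      algebraMap Γ(X', W') Γ(X, i ⁻¹ᵁ W') (idealLin i.ker W' s) = 0 := by
    intro s
    rw [hπalg, hπapp]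
    exact app_idealSect_eq_zero i W' s
  have hfp := finite_projective_tensor hsurj (idealLin i.ker W') (idealSect_injective i.ker W')
    hιker cf n (fun a b ha hb => hadd a b ha hb) (fun c a ha => hsmul c a ha)
    (fun a ha c hc => by
      have := hretr a ha c hc
      refine Eq.trans ?_ this
      exact Finset.sum_congr rfl fun k _ => by rw [idealLin_apply, hn])
  haveI : (ClSub.idealMod i.ker).IsQuasicoherent := inferInstance
  obtain ⟨e, -⟩ := exists_pullback_equiv i (ClSub.idealMod i.ker) (le_refl (i ⁻¹ᵁ W')) hW'aff hTaff rfl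
  haveI := hfp.1
  haveI := hfp.2
  exact ⟨Module.Finite.equiv e, Module.Projective.of_equiv e⟩

include hf hu in
theorem main_S9772 : FlatMod.IsFinLocFree (Omega.conormal i) := by
  haveI : (Omega.conormal i).IsQuasicoherent :=
    inferInstanceAs ((Scheme.Modules.pullback i).obj (ClSub.idealMod i.ker)).IsQuasicoherent
  intro x
  obtain ⟨T, hT, hxT, hfin, hproj⟩ := exists_chart_fin f hf i h' hu x
  haveI : Module.Finite Γ(X, T) Γ(Omega.conormal i, T) := hfin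
  haveI : Module.Projective Γ(X, T) Γ(Omega.conormal i, T) := hproj
  haveI : Module.Finite Γ(X, T)
      ((Groth.Agent.Lib.Helper20.Thickening.ΓUF hT).obj (Omega.conormal i)) :=
    Module.Finite.equiv (Groth.Agent.Lib.Helper20.PullbackAff.ΓUEquiv hT (Omega.conormal i))
  haveI : Module.Projective Γ(X, T)
      ((Groth.Agent.Lib.Helper20.Thickening.ΓUF hT).obj (Omega.conormal i)) :=
    Module.Projective.of_equiv (Groth.Agent.Lib.Helper20.PullbackAff.ΓUEquiv hT (Omega.conormal i))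
  haveI : Module.FinitePresentation Γ(X, T)
      ((Groth.Agent.Lib.Helper20.Thickening.ΓUF hT).obj (Omega.conormal i)) :=
    Module.finitePresentation_of_projective _ _
  obtain ⟨D, m, hxD, -, hiso⟩ :=
    Groth.Agent.Lib.Helper20.LocFree.exists_restrict_iso_freeMod (Omega.conormal i) hT x hxT
  exact ⟨D, m, hxD, hiso⟩

end main

end Groth.Agent.Helper18LciFin
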