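import Mathlib

open Polynomial

namespace Groth.Agent.Lib.Helper18LogD

universe u
variable {R : Type u} [CommRing R]

lemma eval_prod_X_sub_C {r : ℕ} (θ : Fin r → R) (i : Fin r) :
    (∏ k, (X - C (θ k))).eval (θ i) = 0 := by
  rw [eval_prod]
  exact Finset.prod_eq_zero (Finset.mem_univ i) (by simp)

lemma eval_derivative_prod {r : ℕ} (θ : Fin r → R) (i : Fin r) :
    (derivative (∏ k, (X - C (θ k)))).eval (θ i) =
      ∏ k ∈ Finset.univ.erase i, (θ i - θ k) := by
  classical
  rw [derivative_prod_finset, eval_finsetSum, Finset.sum_eq_single i]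
  · simp [eval_prod]
  · intro b _ hb
    rw [eval_mul, eval_prod, Finset.prod_eq_zero (i := i)]
    · simp
    · simp [Finset.mem_erase, Ne.symm hb]
    · simp
  · simp

lemma eval_D₀ {d : ℕ} (Θ : R[X]) (a u : R) (hΘ : Θ.eval a = 0)
    (D₀ : (Fin d → R[X]) →+ (Fin d → R[X]))
    (hD₀ : ∀ (p : R[X]) (v : Fin d → R[X]),
      D₀ (p • v) = (Θ * derivative p) • v + p • D₀ v)
    (Res : (Fin d → R) →ₗ[R] (Fin d → R))
    (hRes : ∀ (m : Fin d → R) (j : Fin d),
      (D₀ (fun j => C (m j)) j).eval a = u * Res m j)
    (g : Fin d → R[X]) (j : Fin d) :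
    (D₀ g j).eval a = u * Res (fun j => (g j).eval a) j := by
  classical
  let Φ : (Fin d → R[X]) →+ (Fin d → R) :=
    { toFun := fun g j => (D₀ g j).eval a
      map_zero' := by funext j; simp
      map_add' := fun x y => by funext j; simp }
  let Ψ : (Fin d → R[X]) →+ (Fin d → R) :=
    { toFun := fun g => u • Res (fun j => (g j).eval a)
      map_zero' := by
        have : (fun j : Fin d => (((0 : Fin d → R[X]) j).eval a)) = 0 := by funext j; simp
        rw [this]; simp
      map_add' := fun x y => by
        have : (fun j : Fin d => (((x + y) j).eval a)) =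
            (fun j => (x j).eval a) + (fun j => (y j).eval a) := by funext j; simp
        rw [this, map_add, smul_add] }
  have key : Φ = Ψ := by
    refine AddMonoidHom.functions_ext _ _ _ fun j₀ p => ?_
    induction p using Polynomial.induction_on' with
    | add p q hp hq => rw [Pi.single_add, map_add, map_add, hp, hq]
    | monomial n c =>
      have h1 : (Pi.single j₀ (monomial n c) : Fin d → R[X]) =
          (X ^ n : R[X]) • (fun j => C ((Pi.single j₀ c : Fin d → R) j)) := by
        funext j
        by_cases h : j = j₀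
        · subst h
          simp only [Pi.single_eq_same, Pi.smul_apply, smul_eq_mul]
          rw [← C_mul_X_pow_eq_monomial, mul_comm]
        · simp [h]
      rw [h1]
      funext j
      change (D₀ _ j).eval a = u * Res _ j
      rw [hD₀]
      simp only [Pi.add_apply, Pi.smul_apply, smul_eq_mul, eval_add, eval_mul, hΘ, zero_mul,
        zero_add, eval_pow, eval_X, hRes, eval_C]
      have h2 : (fun j => a ^ n * (Pi.single j₀ c : Fin d → R) j) =
          a ^ n • (Pi.single j₀ c : Fin d → R) := by funext j; simp
      rw [h2, map_smul]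
      simp only [Pi.smul_apply, smul_eq_mul]
      ring
  exact congrFun (DFunLike.congr_fun key g) j

lemma eq_zero_of_apply_eq_smul {d : ℕ} (Res : (Fin d → R) →ₗ[R] (Fin d → R)) (μ : R)
    (hμ : IsUnit (Res.charpoly.eval μ)) (e : Fin d → R) (he : Res e = μ • e) : e = 0 := by
  by_contra hne
  have hev : Module.End.HasEigenvector Res μ e :=
    ⟨Module.End.mem_eigenspace_iff.mpr he, hne⟩
  have h1 := Module.End.aeval_apply_of_hasEigenvector (p := Res.charpoly) hev
  rw [LinearMap.aeval_self_charpoly, LinearMap.zero_apply] at h1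
  apply hne
  have := congrArg (fun x => (hμ.unit⁻¹ : Rˣ) • x) h1
  simpa [Units.smul_def, smul_smul] using this.symm


section main

variable {d r : ℕ} (θ : Fin r → R)
    (hθ : ∀ i k, i ≠ k → IsUnit (θ i - θ k))
    (Θ : R[X]) (hΘ : Θ = ∏ i, (X - Polynomial.C (θ i)))
    (D₀ : (Fin d → R[X]) →+ (Fin d → R[X]))
    (hD₀ : ∀ (p : R[X]) (v : Fin d → R[X]),
      D₀ (p • v) = (Θ * Polynomial.derivative p) • v + p • D₀ v)
    (D : (Fin d → Localization.Away Θ) →+ (Fin d → Localization.Away Θ))
    (hD : ∀ (p : R[X]) (w : Fin d → Localization.Away Θ),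
      D (p • w) = (Θ * Polynomial.derivative p) • w + p • D w)
    (hDD₀ : ∀ v : Fin d → R[X],
      D (fun j => algebraMap R[X] (Localization.Away Θ) (v j)) =
        fun j => algebraMap R[X] (Localization.Away Θ) (D₀ v j))
    (Res : Fin r → ((Fin d → R) →ₗ[R] (Fin d → R)))
    (hRes : ∀ (i : Fin r) (m : Fin d → R) (j : Fin d),
      (D₀ (fun j => Polynomial.C (m j)) j).eval (θ i) =
        (∏ k ∈ Finset.univ.erase i, (θ i - θ k)) * Res i m j)
    (hχ : ∀ (i : Fin r) (n : ℕ), n ≠ 0 → IsUnit ((Res i).charpoly.eval (n : R)))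

include hθ hΘ hD₀ hD hDD₀ hRes hχ

omit hθ hD₀ hD hDD₀ hRes hχ in
lemma algebraMap_injective : Function.Injective (algebraMap R[X] (Localization.Away Θ)) := by
  apply IsLocalization.injective (Localization.Away Θ) (M := Submonoid.powers Θ)
  rw [Submonoid.powers_le]
  apply Polynomial.Monic.mem_nonZeroDivisors
  rw [hΘ]
  exact monic_prod_of_monic _ _ fun i _ => monic_X_sub_C _

theorem step (m : ℕ) : ∀ (f : Fin d → Localization.Away Θ) (g : Fin d → R[X]),
    (∀ j, algebraMap R[X] (Localization.Away Θ) (Θ ^ m) * f j =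
      algebraMap R[X] (Localization.Away Θ) (g j)) →
    (∃ v : Fin d → R[X], D f = fun j => algebraMap R[X] (Localization.Away Θ) (v j)) →
    ∃ v : Fin d → R[X], f = fun j => algebraMap R[X] (Localization.Away Θ) (v j) := by
  classical
  have hinj := algebraMap_injective θ Θ hΘ
  induction m with
  | zero =>
    intro f g hg _
    exact ⟨g, funext fun j => by simpa using hg j⟩
  | succ m ih =>
    intro f g hg hv
    obtain ⟨v, hv⟩ := hv
    -- the key polynomial identity
    have hw : (Θ ^ (m + 1) • f : Fin d → Localization.Away Θ) =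
        fun j => algebraMap R[X] (Localization.Away Θ) (g j) := by
      funext j
      rw [Pi.smul_apply, Algebra.smul_def, hg j]
    have h1 := hD (Θ ^ (m + 1)) f
    rw [hw, hDD₀, hv] at h1
    have h2 : ∀ j, D₀ g j = C ((m + 1 : ℕ) : R) * derivative Θ * g j + Θ ^ (m + 1) * v j := by
      intro j
      apply hinj
      have h3 := congrFun h1 j
      rw [h3]
      simp only [Pi.add_apply, Pi.smul_apply]
      rw [Algebra.smul_def, Algebra.smul_def]
      simp only [map_add, map_mul]
      rw [← hg j, derivative_pow_succ]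
      simp only [map_mul, map_add, map_pow, map_natCast, map_one, Nat.cast_add, Nat.cast_one]
      ring
    -- evaluate at θ i
    have h4 : ∀ i j, (g j).eval (θ i) = 0 := by
      intro i
      set u : R := ∏ k ∈ Finset.univ.erase i, (θ i - θ k) with hu
      have hu_unit : IsUnit u := by
        rw [hu, IsUnit.prod_iff]  -- may need different lemma
        intro k hk
        exact hθ i k (Finset.ne_of_mem_erase hk).symm
      have hΘi : Θ.eval (θ i) = 0 := by rw [hΘ]; exact eval_prod_X_sub_C θ i
      have hΘ'i : (derivative Θ).eval (θ i) = u := by rw [hΘ]; exact eval_derivative_prod θ i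
      set e : Fin d → R := fun j => (g j).eval (θ i) with he
      have h5 : ∀ j, u * Res i e j = u * (((m + 1 : ℕ) : R) * e j) := by
        intro j
        rw [← eval_D₀ Θ (θ i) u hΘi D₀ hD₀ (Res i) (hRes i) g j, h2 j]
        simp only [eval_add, eval_mul, eval_C, hΘ'i, eval_pow, hΘi]
        simp only [he]
        ring
      have h6 : Res i e = ((m + 1 : ℕ) : R) • e := by
        funext j
        exact hu_unit.mul_left_cancel (h5 j)
      have h7 := eq_zero_of_apply_eq_smul (Res i) _ (hχ i (m + 1) (Nat.succ_ne_zero m)) e h6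
      intro j
      exact congrFun h7 j
    have h8 : ∀ j, Θ ∣ g j := by
      intro j
      rw [hΘ]
      apply Fintype.prod_dvd_of_coprime
      · intro i k hik
        exact isCoprime_X_sub_C_of_isUnit_sub (hθ i k hik)
      · intro i
        rw [dvd_iff_isRoot]
        exact h4 i j
    choose g' hg' using h8
    apply ih f g' _ ⟨v, hv⟩
    intro j
    have hunit : IsUnit (algebraMap R[X] (Localization.Away Θ) Θ) :=
      IsLocalization.Away.algebraMap_isUnit Θ
    apply hunit.mul_left_cancel
    rw [← mul_assoc, ← map_mul, ← pow_succ', hg j, hg' j, map_mul]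

theorem main (f : Fin d → Localization.Away Θ)
    (hf : ∃ v : Fin d → R[X], D f = fun j => algebraMap R[X] (Localization.Away Θ) (v j)) :
    ∃ v : Fin d → R[X], f = fun j => algebraMap R[X] (Localization.Away Θ) (v j) := by
  classical
  have h := fun j => IsLocalization.Away.surj Θ (f j)
  choose n a hna using h
  refine step θ hθ Θ hΘ D₀ hD₀ D hD hDD₀ Res hRes hχ (∑ j, n j) f
    (fun j => Θ ^ ((∑ j, n j) - n j) * a j) ?_ hf
  intro j
  have hle : n j ≤ ∑ j, n j := Finset.single_le_sum (fun _ _ => Nat.zero_le _) (Finset.mem_univ j)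
  rw [map_mul, ← hna j]
  conv_lhs => rw [← Nat.sub_add_cancel hle, pow_add, map_mul]
  simp only [map_pow]
  ring

end main

end Groth.Agent.Lib.Helper18LogD
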