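import Groth.Agent.Lib.Helper18LogD

open Polynomial

namespace Groth.Agent.Lib.Helper18LogD

universe u
variable {R : Type u} [CommRing R]

/-- A right inverse of `Res - μ` when the characteristic polynomial at `μ` is a unit. -/
lemma exists_apply_sub_smul_eq {d : ℕ} (Res : (Fin d → R) →ₗ[R] (Fin d → R)) (μ : R)
    (hμ : IsUnit (Res.charpoly.eval μ)) (y : Fin d → R) :
    ∃ x : Fin d → R, Res x - μ • x = y := by
  obtain ⟨q, hq⟩ := Polynomial.X_sub_C_dvd_sub_C_eval (a := μ) (p := Res.charpoly)
  have h1 := congrArg (fun p => aeval Res p y) hq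
  simp only [map_sub, aeval_C, LinearMap.aeval_self_charpoly, map_mul, aeval_X, zero_sub,
    LinearMap.neg_apply, Module.algebraMap_end_apply, Module.End.mul_apply,
    LinearMap.sub_apply] at h1
  refine ⟨-((hμ.unit⁻¹ : Rˣ) : R) • (aeval Res q y), ?_⟩
  rw [map_smul, smul_comm μ, ← smul_sub, ← h1, smul_neg, neg_smul, neg_neg, smul_smul]
  simp

lemma lagrange_eval {r : ℕ} (θ : Fin r → R) (hθ : ∀ i k, i ≠ k → IsUnit (θ i - θ k))
    (i : Fin r) :
    ∃ L : R[X], L.eval (θ i) = 1 ∧ ∀ l, l ≠ i → L.eval (θ l) = 0 := by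
  classical
  have hu : IsUnit (∏ k ∈ Finset.univ.erase i, (θ i - θ k)) := by
    rw [IsUnit.prod_iff]
    intro k hk
    exact hθ i k (Finset.ne_of_mem_erase hk).symm
  refine ⟨C ((hu.unit⁻¹ : Rˣ) : R) * ∏ k ∈ Finset.univ.erase i, (X - C (θ k)), ?_, ?_⟩
  · simp only [eval_mul, eval_C, eval_prod, eval_sub, eval_X]
    exact hu.val_inv_mul
  · intro l hl
    simp only [eval_mul, eval_C, eval_prod, eval_sub, eval_X]
    have h0 : ∏ x ∈ Finset.univ.erase i, (θ l - θ x) = 0 :=
      Finset.prod_eq_zero (i := l) (by simp [hl]) (by simp)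
    rw [h0, mul_zero]


section main2

variable {d r : ℕ} (θ : Fin r → R)
    (hθ : ∀ i k, i ≠ k → IsUnit (θ i - θ k))
    (Θ : R[X]) (hΘ : Θ = ∏ i, (X - Polynomial.C (θ i)))
    (D₀ : (Fin d → R[X]) →+ (Fin d → R[X]))
    (hD₀ : ∀ (p : R[X]) (v : Fin d → R[X]),
      D₀ (p • v) = (Θ * Polynomial.derivative p) • v + p • D₀ v)
    (D : (Fin d → Localization.Away Θ) →+ (Fin d → Localization.Away Θ))
    (hD : ∀ (p : R[X]) (w : Fin d → Localization.Away Θ),
      D (p • w) = (Θ * Polynomial.derivative p) • w + p • D w)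
    (hDD₀ : ∀ v : Fin d → R[X],
      D (fun j => algebraMap R[X] (Localization.Away Θ) (v j)) =
        fun j => algebraMap R[X] (Localization.Away Θ) (D₀ v j))
    (Res : Fin r → ((Fin d → R) →ₗ[R] (Fin d → R)))
    (hRes : ∀ (i : Fin r) (m : Fin d → R) (j : Fin d),
      (D₀ (fun j => Polynomial.C (m j)) j).eval (θ i) =
        (∏ k ∈ Finset.univ.erase i, (θ i - θ k)) * Res i m j)
    (hχ : ∀ (i : Fin r) (n : ℕ), n ≠ 0 → IsUnit ((Res i).charpoly.eval (n : R)))

include hθ hΘ hD₀ hD hDD₀ hRes hχ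

theorem step2 (m : ℕ) : ∀ (w : Fin d → Localization.Away Θ) (g : Fin d → R[X]),
    (∀ j, algebraMap R[X] (Localization.Away Θ) (Θ ^ m) * w j =
      algebraMap R[X] (Localization.Away Θ) (g j)) →
    ∃ (w' : Fin d → Localization.Away Θ) (v : Fin d → R[X]),
      w = D w' + fun j => algebraMap R[X] (Localization.Away Θ) (v j) := by
  classical
  induction m with
  | zero =>
    intro w g hg
    refine ⟨0, g, ?_⟩
    rw [map_zero, zero_add]
    exact funext fun j => by simpa using hg j
  | succ m ih =>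
    intro w g hg
    have hunit : IsUnit (algebraMap R[X] (Localization.Away Θ) Θ) :=
      IsLocalization.Away.algebraMap_isUnit Θ
    -- units u_i
    have hu : ∀ i, IsUnit (∏ k ∈ Finset.univ.erase i, (θ i - θ k)) := by
      intro i
      rw [IsUnit.prod_iff]
      intro k hk
      exact hθ i k (Finset.ne_of_mem_erase hk).symm
    have hΘi : ∀ i, Θ.eval (θ i) = 0 := fun i => by rw [hΘ]; exact eval_prod_X_sub_C θ i
    have hΘ'i : ∀ i, (derivative Θ).eval (θ i) = ∏ k ∈ Finset.univ.erase i, (θ i - θ k) :=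
      fun i => by rw [hΘ]; exact eval_derivative_prod θ i
    -- the values c_i
    have hc : ∀ i, ∃ c : Fin d → R, Res i c - ((m + 1 : ℕ) : R) • c =
        (((hu i).unit⁻¹ : Rˣ) : R) • (fun j => (g j).eval (θ i)) := fun i =>
      exists_apply_sub_smul_eq (Res i) _ (hχ i (m + 1) (Nat.succ_ne_zero m)) _
    choose c hc using hc
    choose L hL1 hL0 using lagrange_eval θ hθ
    set h : Fin d → R[X] := fun j => ∑ i, L i * C (c i j) with hh
    have hheval : ∀ i, (fun j => (h j).eval (θ i)) = c i := by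
      intro i
      funext j
      simp only [hh, eval_finsetSum, eval_mul, eval_C]
      rw [Finset.sum_eq_single i]
      · rw [hL1, one_mul]
      · intro l _ hl
        rw [hL0 l i (Ne.symm hl), zero_mul]
      · simp
    have hdvd : ∀ j, Θ ∣ g j - D₀ h j + C ((m + 1 : ℕ) : R) * derivative Θ * h j := by
      intro j
      rw [hΘ]
      apply Fintype.prod_dvd_of_coprime
      · intro i k hik
        exact isCoprime_X_sub_C_of_isUnit_sub (hθ i k hik)
      · intro i
        rw [dvd_iff_isRoot, IsRoot.def, ← hΘ]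
        simp only [eval_add, eval_sub, eval_mul, eval_C, hΘ'i]
        rw [eval_D₀ Θ (θ i) _ (hΘi i) D₀ hD₀ (Res i) (hRes i) h j, hheval i]
        have h1 := congrFun (hc i) j
        simp only [Pi.sub_apply, Pi.smul_apply, smul_eq_mul] at h1
        have h2 : Res i (c i) j = ((m + 1 : ℕ) : R) * c i j +
            (((hu i).unit⁻¹ : Rˣ) : R) * (g j).eval (θ i) := by
          rw [← h1]; ring
        have h3 : (h j).eval (θ i) = c i j := congrFun (hheval i) j
        rw [h2, h3]
        have h4 : (∏ k ∈ Finset.univ.erase i, (θ i - θ k)) * (((hu i).unit⁻¹ : Rˣ) : R) = 1 :=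
          (hu i).mul_val_inv
        linear_combination (-(g j).eval (θ i)) * h4
    choose g₁ hg₁ using hdvd
    set uΘ : (Localization.Away Θ)ˣ := hunit.unit with huΘ
    have huΘ' : algebraMap R[X] (Localization.Away Θ) Θ = (uΘ : Localization.Away Θ) := rfl
    set w₀ : Fin d → Localization.Away Θ :=
      fun j => algebraMap R[X] (Localization.Away Θ) (h j) *
        ((uΘ⁻¹ : (Localization.Away Θ)ˣ) : Localization.Away Θ) ^ (m + 1) with hw₀def
    have hw₀ : (Θ ^ (m + 1) • w₀ : Fin d → Localization.Away Θ) =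
        fun j => algebraMap R[X] (Localization.Away Θ) (h j) := by
      funext j
      rw [Pi.smul_apply, Algebra.smul_def, map_pow, huΘ']
      simp only [hw₀def]
      rw [mul_left_comm, ← mul_pow, Units.mul_inv, one_pow, mul_one]
    have h1 := hD (Θ ^ (m + 1)) w₀
    rw [hw₀, hDD₀] at h1
    have key : ∀ j, algebraMap R[X] (Localization.Away Θ) (Θ ^ m) * (w j - D w₀ j) =
        algebraMap R[X] (Localization.Away Θ) (g₁ j) := by
      intro j
      apply hunit.mul_left_cancel
      rw [← mul_assoc, ← map_mul, ← pow_succ', ← map_mul, ← hg₁ j, mul_sub, hg j]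
      have h2 := congrFun h1 j
      simp only [Pi.add_apply, Pi.smul_apply] at h2
      rw [Algebra.smul_def, Algebra.smul_def] at h2
      have h3 := congrFun hw₀ j
      rw [Pi.smul_apply, Algebra.smul_def] at h3
      have h4 : algebraMap R[X] (Localization.Away Θ) (Θ * derivative (Θ ^ (m + 1))) * w₀ j =
          algebraMap R[X] (Localization.Away Θ) (C ((m + 1 : ℕ) : R) * derivative Θ * h j) := by
        rw [map_mul _ _ (h j), ← h3, derivative_pow_succ]
        simp only [map_mul, map_add, map_pow, map_natCast, map_one, Nat.cast_add, Nat.cast_one]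
        ring
      rw [h4] at h2
      simp only [map_add, map_sub]
      rw [h2]
      ring
    obtain ⟨w₁, v, hv⟩ := ih (w - D w₀) g₁ key
    refine ⟨w₀ + w₁, v, ?_⟩
    rw [map_add, add_assoc, ← hv]
    abel

theorem main2 (w : Fin d → Localization.Away Θ) :
    ∃ (w' : Fin d → Localization.Away Θ) (v : Fin d → R[X]),
      w = D w' + fun j => algebraMap R[X] (Localization.Away Θ) (v j) := by
  classical
  have h := fun j => IsLocalization.Away.surj Θ (w j)
  choose n a hna using h
  refine step2 θ hθ Θ hΘ D₀ hD₀ D hD hDD₀ Res hRes hχ (∑ j, n j) w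
    (fun j => Θ ^ ((∑ j, n j) - n j) * a j) ?_
  intro j
  have hle : n j ≤ ∑ j, n j := Finset.single_le_sum (fun _ _ => Nat.zero_le _) (Finset.mem_univ j)
  rw [map_mul, ← hna j]
  conv_lhs => rw [← Nat.sub_add_cancel hle, pow_add, map_mul]
  simp only [map_pow]
  ring

end main2

end Groth.Agent.Lib.Helper18LogD
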