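import Mathlib
import Groth.Prelude.Def_Rees

/-!
# helper18: functoriality and localization of Rees algebras
-/

set_option autoImplicit false
set_option linter.style.haveILetI false
universe u

open Polynomial

namespace Groth.Agent.Helper18MA

section ring

variable {A B : Type u} [CommRing A] [CommRing B] (φ : A →+* B) (I : Ideal A) (J : Ideal B)

theorem map_mem_reesAlgebra (h : I.map φ ≤ J) {p : A[X]} (hp : p ∈ reesAlgebra I) :
    p.map φ ∈ reesAlgebra J := by
  rw [mem_reesAlgebra_iff] at hp ⊢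
  intro i
  rw [Polynomial.coeff_map]
  have h1 : φ (p.coeff i) ∈ (I ^ i).map φ := Ideal.mem_map_of_mem φ (hp i)
  rw [Ideal.map_pow] at h1
  exact Ideal.pow_right_mono h i h1

/-- the induced map on Rees algebras -/
noncomputable def reesMap (h : I.map φ ≤ J) : reesAlgebra I →+* reesAlgebra J :=
  ((Polynomial.mapRingHom φ).comp (reesAlgebra I).val.toRingHom).codRestrict (reesAlgebra J)
    (fun x => map_mem_reesAlgebra φ I J h x.2)

@[simp] theorem coe_reesMap (h : I.map φ ≤ J) (x : reesAlgebra I) :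
    ((reesMap φ I J h x : reesAlgebra J) : B[X]) = (x : A[X]).map φ := rfl

theorem reesMap_algebraMap (h : I.map φ ≤ J) (a : A) :
    reesMap φ I J h (algebraMap A (reesAlgebra I) a) = algebraMap B (reesAlgebra J) (φ a) := by
  apply Subtype.ext
  rw [coe_reesMap]
  change (C a).map φ = C (φ a)
  exact Polynomial.map_C φ

theorem reesMap_mem_deg (h : I.map φ ≤ J) {d : ℕ} {x : reesAlgebra I}
    (hx : x ∈ Rees.deg (reesAlgebra I) d) : reesMap φ I J h x ∈ Rees.deg (reesAlgebra J) d := by
  rw [Rees.mem_deg_iff] at hx ⊢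
  intro m hm
  rw [coe_reesMap, Polynomial.coeff_map, hx m hm, map_zero]

end ring

section loc

variable {A B : Type u} [CommRing A] [CommRing B] [Algebra A B] (I : Ideal A) (J : Ideal B)
  (r : A) [IsLocalization.Away r B]

attribute [local instance] Polynomial.algebra in
theorem exists_C_mul_eq {x y : A[X]} (h : x.map (algebraMap A B) = y.map (algebraMap A B)) :
    ∃ n : ℕ, C (r ^ n) * x = C (r ^ n) * y := by
  haveI := Polynomial.isLocalization (Submonoid.powers r) B
  obtain ⟨⟨c, hc⟩, hcxy⟩ := IsLocalization.exists_of_eq (M := (Submonoid.powers r).map C)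
    (S := B[X]) (x := x) (y := y) h
  obtain ⟨s, ⟨n, rfl⟩, rfl⟩ := hc
  exact ⟨n, hcxy⟩

include r in
theorem exists_map_eq_C_mul (hJ : I.map (algebraMap A B) = J) {p : B[X]} (hp : p ∈ reesAlgebra J) :
    ∃ (n : ℕ) (q : A[X]), q ∈ reesAlgebra I ∧
      q.map (algebraMap A B) = C (algebraMap A B r ^ n) * p := by
  have hmono : ∀ (k : ℕ) (b : B), b ∈ J ^ k → ∃ (n : ℕ) (q : A[X]), q ∈ reesAlgebra I ∧
      q.map (algebraMap A B) = C (algebraMap A B r ^ n) * monomial k b := by
    intro k b hb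
    rw [← hJ, ← Ideal.map_pow, IsLocalization.mem_map_algebraMap_iff (Submonoid.powers r)] at hb
    obtain ⟨⟨⟨a, ha⟩, ⟨s, n, rfl⟩⟩, hab⟩ := hb
    refine ⟨n, monomial k a, reesAlgebra.monomial_mem.mpr ha, ?_⟩
    rw [Polynomial.map_monomial, C_mul_monomial]
    congr 1
    simp only at hab
    rw [← hab, map_pow, mul_comm]
  rw [← p.sum_monomial_eq, Polynomial.sum_def]
  refine Finset.sum_induction _
    (fun p : B[X] => ∃ (n : ℕ) (q : A[X]), q ∈ reesAlgebra I ∧
      q.map (algebraMap A B) = C (algebraMap A B r ^ n) * p) ?_ ?_ ?_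
  · rintro p₁ p₂ ⟨n₁, q₁, hq₁, e₁⟩ ⟨n₂, q₂, hq₂, e₂⟩
    refine ⟨n₁ + n₂, C (r ^ n₂) * q₁ + C (r ^ n₁) * q₂, ?_, ?_⟩
    · refine add_mem (mul_mem ?_ hq₁) (mul_mem ?_ hq₂)
      · exact Subalgebra.algebraMap_mem _ _
      · exact Subalgebra.algebraMap_mem _ _
    · rw [Polynomial.map_add, Polynomial.map_mul, Polynomial.map_mul, e₁, e₂, Polynomial.map_C,
        Polynomial.map_C]
      simp only [map_pow, C_mul, pow_add]
      ring
  · exact ⟨0, 0, zero_mem _, by simp⟩
  · intro k _
    exact hmono k _ ((mem_reesAlgebra_iff J p).mp hp k)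

theorem isLocalization_reesMap (hJ : I.map (algebraMap A B) = J) :
    letI := (reesMap (algebraMap A B) I J hJ.le).toAlgebra
    IsLocalization.Away (algebraMap A (reesAlgebra I) r) (reesAlgebra J) := by
  letI := (reesMap (algebraMap A B) I J hJ.le).toAlgebra
  have hu : IsUnit (algebraMap A B r) := IsLocalization.Away.algebraMap_isUnit r
  rw [IsLocalization.Away, isLocalization_iff]
  refine ⟨?_, ?_, ?_⟩
  · rintro ⟨_, n, rfl⟩
    change IsUnit (reesMap (algebraMap A B) I J hJ.le (algebraMap A (reesAlgebra I) r ^ n))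
    rw [map_pow, reesMap_algebraMap]
    exact ((hu.map (algebraMap B (reesAlgebra J)))).pow n
  · intro z
    obtain ⟨n, q, hq, e⟩ := exists_map_eq_C_mul I J r hJ z.2
    refine ⟨⟨⟨q, hq⟩, ⟨algebraMap A (reesAlgebra I) r ^ n, n, rfl⟩⟩, ?_⟩
    apply Subtype.ext
    change (z : B[X]) * ((reesMap (algebraMap A B) I J hJ.le
      (algebraMap A (reesAlgebra I) r ^ n) : reesAlgebra J) : B[X]) = q.map (algebraMap A B)
    rw [e, map_pow, reesMap_algebraMap, mul_comm]
    congr 1
    change ((algebraMap B (reesAlgebra J) (algebraMap A B r) ^ n : reesAlgebra J) : B[X]) = _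
    rw [SubmonoidClass.coe_pow, C_pow]
    rfl
  · intro x y hxy
    have h1 : (x : A[X]).map (algebraMap A B) = (y : A[X]).map (algebraMap A B) :=
      congrArg Subtype.val hxy
    obtain ⟨n, hn⟩ := exists_C_mul_eq r h1
    refine ⟨⟨algebraMap A (reesAlgebra I) r ^ n, n, rfl⟩, ?_⟩
    apply Subtype.ext
    change ((algebraMap A (reesAlgebra I) r ^ n : reesAlgebra I) : A[X]) * (x : A[X]) =
      ((algebraMap A (reesAlgebra I) r ^ n : reesAlgebra I) : A[X]) * (y : A[X])
    rw [SubmonoidClass.coe_pow]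
    change (C r) ^ n * (x : A[X]) = (C r) ^ n * (y : A[X])
    rw [← C_pow]
    exact hn

end loc

section gen

variable {A : Type u} [CommRing A] (I : Ideal A)

theorem algebraMap_mem_deg_zero (r : A) :
    algebraMap A (reesAlgebra I) r ∈ Rees.deg (reesAlgebra I) 0 := by
  rw [Rees.mem_deg_iff]
  intro m hm
  change (C r).coeff m = 0
  rw [Polynomial.coeff_C, if_neg hm]

theorem monomial_mem_deg {d : ℕ} {a : A} (ha : a ∈ I ^ d) :
    (⟨monomial d a, reesAlgebra.monomial_mem.mpr ha⟩ : reesAlgebra I) ∈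
      Rees.deg (reesAlgebra I) d := by
  rw [Rees.mem_deg_iff]
  intro m hm
  change (monomial d a).coeff m = 0
  rw [Polynomial.coeff_monomial, if_neg (Ne.symm hm)]

theorem coe_eq_monomial_of_mem_deg {d : ℕ} {x : reesAlgebra I}
    (hx : x ∈ Rees.deg (reesAlgebra I) d) : (x : A[X]) = monomial d ((x : A[X]).coeff d) := by
  rw [Rees.mem_deg_iff] at hx
  ext m
  rw [Polynomial.coeff_monomial]
  split_ifs with h
  · rw [h]
  · exact hx m (Ne.symm h)

/-- the Rees algebra is generated in degrees zero and one -/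
theorem closure_deg_zero_one :
    Subring.closure (((Rees.deg (reesAlgebra I) 0 : Submodule A (reesAlgebra I)) :
        Set (reesAlgebra I)) ∪
      ((Rees.deg (reesAlgebra I) 1 : Submodule A (reesAlgebra I)) : Set (reesAlgebra I))) = ⊤ := by
  rw [eq_top_iff]
  rintro ⟨p, hp⟩ -
  have key : ∀ p ∈ Algebra.adjoin A (Submodule.map (monomial 1 : A →ₗ[A] A[X]) I : Set A[X]),
      ∃ hp : p ∈ reesAlgebra I, (⟨p, hp⟩ : reesAlgebra I) ∈
        Subring.closure (((Rees.deg (reesAlgebra I) 0 : Submodule A (reesAlgebra I)) :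
          Set (reesAlgebra I)) ∪
        ((Rees.deg (reesAlgebra I) 1 : Submodule A (reesAlgebra I)) : Set (reesAlgebra I))) := by
    intro p hp
    induction hp using Algebra.adjoin_induction with
    | mem x hx =>
      obtain ⟨a, ha, rfl⟩ := hx
      have ha' : a ∈ I ^ 1 := by rwa [pow_one]
      exact ⟨reesAlgebra.monomial_mem.mpr ha',
        Subring.subset_closure (Or.inr (monomial_mem_deg I ha'))⟩
    | algebraMap r =>
      exact ⟨Subalgebra.algebraMap_mem _ r,
        Subring.subset_closure (Or.inl (algebraMap_mem_deg_zero I r))⟩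
    | add x y _ _ hx hy =>
      obtain ⟨hx', hx''⟩ := hx
      obtain ⟨hy', hy''⟩ := hy
      exact ⟨add_mem hx' hy', Subring.add_mem _ hx'' hy''⟩
    | mul x y _ _ hx hy =>
      obtain ⟨hx', hx''⟩ := hx
      obtain ⟨hy', hy''⟩ := hy
      exact ⟨mul_mem hx' hy', Subring.mul_mem _ hx'' hy''⟩
  obtain ⟨_, h⟩ := key p (by rw [adjoin_monomial_eq_reesAlgebra]; exact hp)
  exact h

/-- the degree-one part of the Rees algebra of a finitely generated ideal is finitely generated -/
theorem exists_finset_deg_one (hI : I.FG) :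
    ∃ T : Finset (reesAlgebra I),
      (↑T : Set (reesAlgebra I)) ⊆ (Rees.deg (reesAlgebra I) 1 : Set (reesAlgebra I)) ∧
      ∀ x ∈ Rees.deg (reesAlgebra I) 1, ∃ c : reesAlgebra I → A,
        x = ∑ t ∈ T, algebraMap A (reesAlgebra I) (c t) * t := by
  classical
  obtain ⟨s, hs⟩ := hI
  have hsI : ∀ a ∈ s, a ∈ I ^ 1 := fun a ha => by
    rw [pow_one, ← hs]; exact Ideal.subset_span ha
  let g : A → reesAlgebra I := fun a =>
    if h : a ∈ I ^ 1 then ⟨monomial 1 a, reesAlgebra.monomial_mem.mpr h⟩ else 0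
  have hg : ∀ a (h : a ∈ I ^ 1), g a = ⟨monomial 1 a, reesAlgebra.monomial_mem.mpr h⟩ :=
    fun a h => dif_pos h
  have hgcoeff : ∀ a ∈ s, ((g a : reesAlgebra I) : A[X]).coeff 1 = a := by
    intro a ha
    rw [hg a (hsI a ha)]
    change (monomial 1 a).coeff 1 = a
    rw [Polynomial.coeff_monomial, if_pos rfl]
  refine ⟨s.image g, ?_, ?_⟩
  · intro t ht
    rw [Finset.coe_image] at ht
    obtain ⟨a, ha, rfl⟩ := ht
    rw [hg a (hsI a ha)]
    exact monomial_mem_deg I (hsI a ha)
  · intro x hx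
    have hx1 : (x : A[X]).coeff 1 ∈ Ideal.span (s : Set A) := by
      rw [hs]
      have := (mem_reesAlgebra_iff I x).mp x.2 1
      rwa [pow_one] at this
    obtain ⟨c, -, hc⟩ := Submodule.mem_span_finset.mp hx1
    refine ⟨fun t => c ((t : A[X]).coeff 1), ?_⟩
    have hinj : Set.InjOn g (s : Set A) := by
      intro a ha b hb hab
      rw [← hgcoeff a ha, ← hgcoeff b hb, hab]
    rw [Finset.sum_image hinj]
    apply Subtype.ext
    rw [coe_eq_monomial_of_mem_deg I hx, ← hc]
    have : ∀ a ∈ s, ((algebraMap A (reesAlgebra I) (c (((g a : reesAlgebra I) : A[X]).coeff 1)) *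
        g a : reesAlgebra I) : A[X]) = monomial 1 (c a • a) := by
      intro a ha
      rw [hgcoeff a ha, hg a (hsI a ha)]
      change C (c a) * monomial 1 a = _
      rw [C_mul_monomial, smul_eq_mul]
    rw [map_sum]
    have h2 : ((∑ a ∈ s, algebraMap A (reesAlgebra I) (c (((g a : reesAlgebra I) : A[X]).coeff 1)) *
        g a : reesAlgebra I) : A[X]) = ∑ a ∈ s, ((algebraMap A (reesAlgebra I)
          (c (((g a : reesAlgebra I) : A[X]).coeff 1)) * g a : reesAlgebra I) : A[X]) :=
      map_sum (reesAlgebra I).val _ _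
    rw [h2]
    exact (Finset.sum_congr rfl this).symm

end gen

end Groth.Agent.Helper18MA
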