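import Groth.Agent.Lib.Helper18MA
import Groth.Agent.Lib.Helper18KB
import Groth.Agent.Lib.Helper18GrAlgA
import Groth.Agent.Lib.Helper13RelProjA
import Groth.Agent.Lib.Helper13ProjExist
import Groth.Agent.Lib.Helper2BlowGlue
import Groth.Agent.Lib.Helper2BlowThick
import Groth.Prelude.Def_BlowUp2

/-!
# helper18: the quasi-coherent graded Rees algebra of an ideal sheaf; blow-ups are projective
-/

set_option autoImplicit false
set_option linter.unusedSectionVars false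
set_option linter.style.haveILetI false
universe u

open CategoryTheory CategoryTheory.Limits AlgebraicGeometry TopologicalSpace Opposite Polynomial
open scoped HomogeneousIdeal DirectSum

namespace Groth.Agent.Helper18MB

open Groth.Agent.Helper18MA Groth.Agent.Helper18KB Scheme.AffineZariskiSite

variable {X : Scheme.{u}} (𝓘 : X.IdealSheafData)

/-- the ideal of `𝓘` on an object of the affine site -/
abbrev idl (U : X.AffineZariskiSite) : Ideal Γ(X, U.1) := 𝓘.ideal ⟨U.1, U.2⟩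

theorem idl_map_eq (U : X.AffineZariskiSite) (r : Γ(X, U.1)) :
    (idl 𝓘 U).map (X.presheaf.map (homOfLE (X.basicOpen_le r)).op).hom = idl 𝓘 (U.basicOpen r) :=
  𝓘.map_ideal_basicOpen ⟨U.1, U.2⟩ r

theorem idl_map_le {U V : X.AffineZariskiSite} (i : V ⟶ U) :
    (idl 𝓘 U).map (X.presheaf.map (homOfLE (toOpens_mono i.le)).op).hom ≤ idl 𝓘 V := by
  obtain ⟨r, hr⟩ := i.le
  obtain rfl : U.basicOpen r = V := Subtype.ext hr
  exact (idl_map_eq 𝓘 U r).le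

/-- the affine-local data of the Rees algebra -/
noncomputable def Fr : X.AffineZariskiSiteᵒᵖ ⥤ CommRingCat.{u} where
  obj U := CommRingCat.of (reesAlgebra (idl 𝓘 U.unop))
  map {U V} i := CommRingCat.ofHom (reesMap (X.presheaf.map (homOfLE (toOpens_mono i.unop.le)).op).hom
    _ _ (idl_map_le 𝓘 i.unop))
  map_id U := by
    refine CommRingCat.hom_ext (RingHom.ext fun y => ?_)
    apply Subtype.ext
    rw [CommRingCat.hom_ofHom, coe_reesMap, CommRingCat.hom_id, RingHom.id_apply]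
    have : homOfLE (toOpens_mono (𝟙 U).unop.le) = 𝟙 U.unop.1 := rfl
    rw [this, op_id, X.presheaf.map_id]
    exact Polynomial.map_id
  map_comp {U V W} i j := by
    refine CommRingCat.hom_ext (RingHom.ext fun y => ?_)
    apply Subtype.ext
    rw [CommRingCat.hom_comp, RingHom.comp_apply, CommRingCat.hom_ofHom, CommRingCat.hom_ofHom,
      CommRingCat.hom_ofHom, coe_reesMap, coe_reesMap, coe_reesMap, Polynomial.map_map]
    congr 1
    rw [← CommRingCat.hom_comp, ← Functor.map_comp]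
    rfl

theorem Fr_map_hom {U V : X.AffineZariskiSite} (i : V ⟶ U) :
    ((Fr 𝓘).map i.op).hom = reesMap (X.presheaf.map (homOfLE (toOpens_mono i.le)).op).hom
    _ _ (idl_map_le 𝓘 i) := rfl

/-- the structure map of the Rees algebra -/
noncomputable def αr : (toOpensFunctor X).op ⋙ X.presheaf ⟶ Fr 𝓘 where
  app U := CommRingCat.ofHom (algebraMap Γ(X, U.unop.1) (reesAlgebra (idl 𝓘 U.unop)))
  naturality U V i := by
    refine CommRingCat.hom_ext (RingHom.ext fun r => ?_)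
    exact (reesMap_algebraMap _ _ _ (idl_map_le 𝓘 i.unop) r).symm

theorem αr_app (U : X.AffineZariskiSite) (r : Γ(X, U.1)) :
    ((αr 𝓘).app (op U)).hom r = algebraMap Γ(X, U.1) (reesAlgebra (idl 𝓘 U)) r := rfl


theorem coequifibered_αr : (αr 𝓘).Coequifibered := by
  refine coequifibered_iff_forall_isLocalizationAway.mpr fun U r => ?_
  letI alg : Algebra Γ(X, U.1) Γ(X, X.basicOpen r) :=
    (X.presheaf.map (homOfLE (X.basicOpen_le r)).op).hom.toAlgebra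
  haveI hloc : IsLocalization.Away r Γ(X, X.basicOpen r) := U.2.isLocalization_basicOpen r
  have hJ : (idl 𝓘 U).map (algebraMap Γ(X, U.1) Γ(X, X.basicOpen r)) = idl 𝓘 (U.basicOpen r) := by
    rw [RingHom.algebraMap_toAlgebra]
    exact idl_map_eq 𝓘 U r
  have h := @isLocalization_reesMap Γ(X, U.1) Γ(X, X.basicOpen r) _ _ alg (idl 𝓘 U) (idl 𝓘 (U.basicOpen r)) r hloc hJ
  exact h

/-- the grading of the Rees algebra -/
noncomputable def 𝒢r (U : X.AffineZariskiSite) (d : ℕ) : AddSubgroup ((Fr 𝓘).obj (op U)) :=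
  (Rees.deg (reesAlgebra (idl 𝓘 U)) d).toAddSubgroup

theorem mem_𝒢r_iff (U : X.AffineZariskiSite) (d : ℕ) (x : (Fr 𝓘).obj (op U)) :
    x ∈ 𝒢r 𝓘 U d ↔ ∀ m : ℕ, m ≠ d → (Subtype.val x : Γ(X, U.1)[X]).coeff m = 0 :=
  Rees.mem_deg_iff (reesAlgebra (idl 𝓘 U)) d x

noncomputable instance gradedRing_𝒢r (U : X.AffineZariskiSite) : GradedRing (𝒢r 𝓘 U) :=
  gradedRing_of_mem_iff (Rees.deg (reesAlgebra (idl 𝓘 U))) (𝒢r 𝓘 U) (fun _ _ => Iff.rfl)

theorem hmap_r {U V : X.AffineZariskiSite} (i : V ⟶ U) {d : ℕ}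
    {x : (Fr 𝓘).obj (op U)} (hx : x ∈ 𝒢r 𝓘 U d) : ((Fr 𝓘).map i.op).hom x ∈ 𝒢r 𝓘 V d :=
  reesMap_mem_deg _ _ _ (idl_map_le 𝓘 i) hx

theorem hα_r (U : X.AffineZariskiSite) (r : Γ(X, U.1)) :
    ((αr 𝓘).app (op U)).hom r ∈ 𝒢r 𝓘 U 0 := by
  rw [mem_𝒢r_iff]
  intro m hm
  change (C r).coeff m = 0
  rw [Polynomial.coeff_C, if_neg hm]

/-- **the Rees algebra** `⊕ 𝓘ⁿ` as a quasi-coherent graded algebra -/
noncomputable def reesAlg : RelProj.QCGrAlg X :=
  Groth.Agent.Helper18GrAlgA.grAlg (coequifibered_αr 𝓘) (𝒢r 𝓘)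
    (fun i _ _ hx => hmap_r 𝓘 i hx) (hα_r 𝓘)

theorem isGenDegOne_reesAlg : (reesAlg 𝓘).IsGenDegOne :=
  Groth.Agent.Helper18GrAlgA.isGenDegOne_grAlg _ _ _ _ (fun U => closure_deg_zero_one (idl 𝓘 U))

theorem isFTDeg_reesAlg (h𝓘 : BlowUp.IsFiniteTypeIdeal 𝓘) : (reesAlg 𝓘).IsFTDeg 1 :=
  Groth.Agent.Helper18GrAlgA.isFTDeg_grAlg _ _ _ _ 1
    (fun U => exists_finset_deg_one (idl 𝓘 U) (h𝓘 ⟨U.1, U.2⟩))

section cmp

open Groth.Agent.Helper18GrAlgA Groth.Agent.Helper13QCAlgOfAffine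

variable (U : X.Opens) (hU : IsAffineOpen U)

/-- the comparison graded homomorphism from the Rees algebra of `𝓘(U)` -/
noncomputable def cmp :
    Rees.deg (reesAlgebra (𝓘.ideal ⟨U, hU⟩)) →+*ᵍ (reesAlg 𝓘).deg U hU :=
  { (gammaEquiv (coequifibered_αr 𝓘) U hU).symm.toRingHom with
    map_mem := fun hx => gammaEquiv_symm_mem (coequifibered_αr 𝓘) (𝒢r 𝓘)
      (fun i _ _ hx => hmap_r 𝓘 i hx) (hα_r 𝓘) U hU hx }

theorem cmp_apply (x : reesAlgebra (𝓘.ideal ⟨U, hU⟩)) :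
    cmp 𝓘 U hU x = (gammaEquiv (coequifibered_αr 𝓘) U hU).symm x := rfl

theorem cmp_bijOn (d : ℕ) : Set.BijOn (cmp 𝓘 U hU) (Rees.deg (reesAlgebra (𝓘.ideal ⟨U, hU⟩)) d)
    ((reesAlg 𝓘).deg U hU d) := by
  refine ⟨fun x hx => (cmp 𝓘 U hU).map_mem hx, fun x _ y _ hxy => ?_, fun y hy => ?_⟩
  · exact (gammaEquiv (coequifibered_αr 𝓘) U hU).symm.injective hxy
  · refine ⟨gammaEquiv (coequifibered_αr 𝓘) U hU y, hy, ?_⟩
    exact (gammaEquiv (coequifibered_αr 𝓘) U hU).symm_apply_apply y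

theorem irr_cmp : ((reesAlg 𝓘).deg U hU)₊ ≤
    ((Rees.deg (reesAlgebra (𝓘.ideal ⟨U, hU⟩)))₊).map (cmp 𝓘 U hU) := by
  rw [HomogeneousIdeal.irrelevant_le]
  intro i hi y hy
  obtain ⟨x, hx, rfl⟩ := (cmp_bijOn 𝓘 U hU i).surjOn hy
  change cmp 𝓘 U hU x ∈ Ideal.map (cmp 𝓘 U hU) ((Rees.deg (reesAlgebra (𝓘.ideal ⟨U, hU⟩)))₊).toIdeal
  exact Ideal.mem_map_of_mem _ (HomogeneousIdeal.mem_irrelevant_of_mem _ hi hx)

instance isIso_map_cmp : IsIso (Proj.map (cmp 𝓘 U hU) (irr_cmp 𝓘 U hU)) :=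
  Groth.Agent.Helper13RelProj.isIso_map_of_bijOn_pos _ _ (fun d _ => cmp_bijOn 𝓘 U hU d)

end cmp

end Groth.Agent.Helper18MB
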