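import Groth.Agent.Lib.Helper18MB
import Groth.Agent.Lib.Helper2ReesBlowUp

/-!
# helper18: a blowing up in a finite type ideal is projective
-/

set_option autoImplicit false
set_option linter.unusedSectionVars false
set_option linter.style.haveILetI false
universe u

open CategoryTheory CategoryTheory.Limits AlgebraicGeometry TopologicalSpace Opposite Polynomial
open scoped HomogeneousIdeal DirectSum

namespace Groth.Agent.Helper18MC

open Groth.Agent.Helper18MA Groth.Agent.Helper18MB Groth.Agent.Helper18KB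
  Scheme.AffineZariskiSite Groth.Agent.Helper13ProjBC Groth.Agent.Helper13RelProj
  Groth.Agent.Lib.Helper2.ReesBlowUp Groth.Agent.Lib.Helper2.BlowGlue
  Groth.Agent.Lib.Helper2.BlowLocal Groth.Agent.Lib.Helper2.BlowThick
  Groth.Agent.Helper18GrAlgA Groth.Agent.Helper13QCAlgOfAffine

/-- precomposing a blow-up with an isomorphism gives a blow-up -/
theorem isBlowUp_iso_comp {X B B' : Scheme.{u}} {𝓘 : X.IdealSheafData} {b : B ⟶ X}
    (hb : BlowUp.IsBlowUp b 𝓘) (e : B' ⟶ B) [IsIso e] : BlowUp.IsBlowUp (e ≫ b) 𝓘 := by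
  have sq : IsPullback e (e ≫ b) b (𝟙 X) :=
    IsPullback.of_horiz_isIso ⟨by rw [Category.comp_id]⟩
  have h := isBlowUp_of_isPullback hb (𝟙 X) e (e ≫ b) sq
  rwa [Scheme.IdealSheafData.comap_id] at h

variable {X : Scheme.{u}} (𝓘 : X.IdealSheafData)

theorem map_cmp_piMap (U : X.Opens) (hU : IsAffineOpen U) :
    Proj.map (cmp 𝓘 U hU) (irr_cmp 𝓘 U hU) ≫ piMap (𝓘.ideal ⟨U, hU⟩) =
      Proj.toSpecZero ((reesAlg 𝓘).deg U hU) ≫ Spec.map ((reesAlg 𝓘).strZero U hU) := by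
  unfold piMap
  rw [map_toSpecZero_assoc, ← Spec.map_comp]
  congr 2
  refine CommRingCat.hom_ext (RingHom.ext fun r => Subtype.ext ?_)
  change (gammaEquiv (coequifibered_αr 𝓘) U hU).symm
    (algebraMap Γ(X, U) (reesAlgebra (𝓘.ideal ⟨U, hU⟩)) r) = ((reesAlg 𝓘).str.app (op U)).hom r
  rw [RingEquiv.symm_apply_eq]
  exact (gammaEquiv_str (coequifibered_αr 𝓘) U hU r).symm

theorem isBlowUp_toBaseU (U : X.AffineZariskiSite) :
    BlowUp.IsBlowUp (toBaseU (reesAlg 𝓘) U) (𝓘.comap U.1.ι) := by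
  have h1 : BlowUp.IsBlowUp (piMap (𝓘.ideal ⟨U.1, U.2⟩)) (𝓘.comap U.2.fromSpec) := by
    rw [comap_fromSpec]
    exact isBlowUp_piMap _
  have h2 := isBlowUp_iso_comp h1 (Proj.map (cmp 𝓘 U.1 U.2) (irr_cmp 𝓘 U.1 U.2))
  rw [map_cmp_piMap] at h2
  have sq : IsPullback (𝟙 (Proj ((reesAlg 𝓘).deg U.1 U.2))) (toBaseU (reesAlg 𝓘) U)
      (Proj.toSpecZero ((reesAlg 𝓘).deg U.1 U.2) ≫ Spec.map ((reesAlg 𝓘).strZero U.1 U.2))
      U.2.isoSpec.hom :=
    IsPullback.of_horiz_isIso ⟨by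
      unfold toBaseU
      simp only [Category.id_comp, Category.assoc, Iso.inv_hom_id, Category.comp_id]⟩
  have h3 := isBlowUp_of_isPullback h2 U.2.isoSpec.hom (𝟙 _) (toBaseU (reesAlg 𝓘) U) sq
  rwa [← Scheme.IdealSheafData.comap_comp, U.2.isoSpec_hom_fromSpec] at h3

/-- the relative `Proj` of the Rees algebra is the blow-up -/
theorem isBlowUp_relProjπ : BlowUp.IsBlowUp (relProjπ (reesAlg 𝓘)) 𝓘 := by
  refine isBlowUp_of_isPullback_cover (relProjπ (reesAlg 𝓘)) 𝓘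
    (fun U : X.AffineZariskiSite => U.1) ?_
    (fun U => Proj ((reesAlg 𝓘).deg U.1 U.2)) (fun U => toBaseU (reesAlg 𝓘) U)
    (fun U => relProjι (reesAlg 𝓘) U) (fun U => (isPullback_relProjι (reesAlg 𝓘) U).flip)
    (fun U => isBlowUp_toBaseU 𝓘 U)
  intro x
  obtain ⟨_, ⟨V, hV, rfl⟩, hxV, -⟩ := X.isBasis_affineOpens.exists_subset_of_mem_open
    (Set.mem_univ x) isOpen_univ
  exact ⟨⟨V, hV⟩, hxV⟩

/-- **a blowing up in an ideal of finite type is projective** -/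
theorem isProjective_of_isBlowUp {X' : Scheme.{u}} (h𝓘 : BlowUp.IsFiniteTypeIdeal 𝓘)
    (b : X' ⟶ X) (hb : BlowUp.IsBlowUp b 𝓘) : RelProj.IsProjective b := by
  have hP := isBlowUp_relProjπ 𝓘
  obtain ⟨φ, hφ, -⟩ := hP.2 X' b hb.1
  haveI : IsIso φ := isIso_of_isBlowUp hb hP φ hφ
  exact ⟨reesAlg 𝓘, relProj (reesAlg 𝓘), relProjπ (reesAlg 𝓘), relProjChart (reesAlg 𝓘),
    asIso φ, isGenDegOne_reesAlg 𝓘, isFTDeg_reesAlg 𝓘 h𝓘, isRelProj_relProj (reesAlg 𝓘), hφ⟩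

end Groth.Agent.Helper18MC
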