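import Mathlib
set_option autoImplicit false
set_option linter.style.haveILetI false
set_option linter.unusedSectionVars false
universe v u
open CategoryTheory CategoryTheory.Limits

namespace Groth.Agent.Helper18ML

variable {V : Type u} [Category.{v} V] [Abelian V] {B : V}

/-- epi precomposition does not change the image. -/
theorem imageSubobject_epi_comp {X' X Y : V} (e : X' ⟶ X) [Epi e] (f : X ⟶ Y) :
    imageSubobject (e ≫ f) = imageSubobject f := by
  apply le_antisymm (imageSubobject_comp_le e f)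
  haveI : IsIso (Subobject.ofLE _ _ (imageSubobject_comp_le e f)) :=
    isIso_of_mono_of_epi _
  refine Subobject.le_of_comm (inv (Subobject.ofLE _ _ (imageSubobject_comp_le e f))) ?_
  rw [IsIso.inv_comp_eq, Subobject.ofLE_arrow]

theorem nsmul_comm_arrow (S : Subobject B) (k : ℕ) :
    (k • 𝟙 (S : V)) ≫ S.arrow = S.arrow ≫ (k • 𝟙 B) := by
  rw [Preadditive.nsmul_comp, Preadditive.comp_nsmul, Category.id_comp, Category.comp_id]

theorem image_eq_of_epi (S : Subobject B) (k : ℕ) (h : Epi (k • 𝟙 (S : V))) :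
    imageSubobject (S.arrow ≫ (k • 𝟙 B)) = S := by
  rw [← nsmul_comm_arrow, imageSubobject_epi_comp, imageSubobject_mono, Subobject.mk_arrow]

theorem epi_of_image_eq (S : Subobject B) (h : (S : V) ⟶ (S : V))
    (hS : imageSubobject (h ≫ S.arrow) = S) : Epi h := by
  have h1 : (imageSubobject (h ≫ S.arrow)) ≤ S := hS.le
  have h2 : S ≤ (imageSubobject (h ≫ S.arrow)) := hS.ge
  have e1 : factorThruImageSubobject (h ≫ S.arrow) ≫ Subobject.ofLE _ _ h1 = h := by
    rw [← cancel_mono S.arrow, Category.assoc, Subobject.ofLE_arrow, imageSubobject_arrow_comp]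
  haveI : IsIso (Subobject.ofLE _ _ h1) :=
    ⟨Subobject.ofLE _ _ h2, by simp, by simp⟩
  rw [← e1]
  infer_instance

theorem image_le_of_cokernel (S : Subobject B) (M : ℕ) (hM : M • 𝟙 (cokernel S.arrow) = 0) :
    imageSubobject (M • 𝟙 B) ≤ S := by
  have h0 : (M • 𝟙 B) ≫ cokernel.π S.arrow = 0 := by
    rw [Preadditive.nsmul_comp, Category.id_comp, ← Category.comp_id (cokernel.π S.arrow),
      ← Preadditive.comp_nsmul, hM, comp_zero]
  exact imageSubobject_le _ (Abelian.monoLift S.arrow (M • 𝟙 B) h0)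
    (Abelian.monoLift_comp _ _ _)

theorem image_mul_le (j k : ℕ) : imageSubobject ((j * k) • 𝟙 B) ≤ imageSubobject (k • 𝟙 B) := by
  have : ((j * k) • 𝟙 B) = (j • 𝟙 B) ≫ (k • 𝟙 B) := by
    rw [Preadditive.nsmul_comp, Preadditive.comp_nsmul, Category.id_comp, mul_smul]
  rw [this]
  exact imageSubobject_comp_le _ _


/-- key: if `B'` is divisible and `M` kills the cokernel, then `image (j • 𝟙) = B'` for `M ∣ j`. -/
theorem image_eq_of_dvd (B' : Subobject B) (hdiv : ∀ k : ℕ, 0 < k → Epi (k • 𝟙 (B' : V)))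
    (M : ℕ) (hM : M • 𝟙 (cokernel B'.arrow) = 0) (j : ℕ) (hj : 0 < j) (hMj : M ∣ j) :
    imageSubobject (j • 𝟙 B) = B' := by
  apply le_antisymm
  · obtain ⟨c, rfl⟩ := hMj
    rw [mul_comm]
    exact (image_mul_le c M).trans (image_le_of_cokernel B' M hM)
  · rw [← image_eq_of_epi B' j (hdiv j hj)]
    exact imageSubobject_comp_le _ _

theorem main (B : V) :
    ((∀ n : ℕ, 0 < n → ∃ m : ℕ, 0 < m ∧ n ∣ m ∧ ∀ m' : ℕ, 0 < m' → m ∣ m' →
        imageSubobject ((m' / n) • 𝟙 B) = imageSubobject ((m / n) • 𝟙 B)) ↔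
      ∃ B' : Subobject B, (∀ k : ℕ, 0 < k → Epi (k • 𝟙 (B' : V))) ∧
        ∃ M : ℕ, 0 < M ∧ M • 𝟙 (cokernel B'.arrow) = 0) ∧
    (∀ B' : Subobject B, (∀ k : ℕ, 0 < k → Epi (k • 𝟙 (B' : V))) →
      (∃ M : ℕ, 0 < M ∧ M • 𝟙 (cokernel B'.arrow) = 0) →
      ∀ D : Subobject B, (∀ k : ℕ, 0 < k → Epi (k • 𝟙 (D : V))) → D ≤ B') := by
  refine ⟨⟨?_, ?_⟩, ?_⟩
  · intro hML
    obtain ⟨m, hm, -, hm'⟩ := hML 1 Nat.one_pos
    simp only [Nat.div_one] at hm'
    refine ⟨imageSubobject (m • 𝟙 B), ?_, m, hm, ?_⟩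
    · intro k hk
      apply epi_of_image_eq
      rw [nsmul_comm_arrow, ← imageSubobject_epi_comp (factorThruImageSubobject (m • 𝟙 B)),
        ← Category.assoc, imageSubobject_arrow_comp]
      have : (m • 𝟙 B) ≫ (k • 𝟙 B) = (m * k) • 𝟙 B := by
        rw [Preadditive.nsmul_comp, Preadditive.comp_nsmul, Category.id_comp, mul_smul]
      rw [this]
      exact hm' (m * k) (Nat.mul_pos hm hk) (Dvd.intro k rfl)
    · have h0 : (m • 𝟙 B) ≫ cokernel.π (imageSubobject (m • 𝟙 B)).arrow = 0 :=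
        calc (m • 𝟙 B) ≫ cokernel.π (imageSubobject (m • 𝟙 B)).arrow
            = (factorThruImageSubobject (m • 𝟙 B) ≫ (imageSubobject (m • 𝟙 B)).arrow) ≫
                cokernel.π (imageSubobject (m • 𝟙 B)).arrow := by
              rw [imageSubobject_arrow_comp]
          _ = 0 := by rw [Category.assoc, cokernel.condition, comp_zero]
      rw [← cancel_epi (cokernel.π (imageSubobject (m • 𝟙 B)).arrow), comp_zero,
        Preadditive.comp_nsmul, Category.comp_id, ← Category.id_comp (cokernel.π _),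
        ← Preadditive.nsmul_comp, h0]
  · rintro ⟨B', hdiv, M, hMpos, hM⟩ n hn
    refine ⟨n * M, Nat.mul_pos hn hMpos, Dvd.intro M rfl, ?_⟩
    intro m' hm' hdvd
    obtain ⟨c, rfl⟩ := hdvd
    have hc : 0 < c := by
      rcases Nat.eq_zero_or_pos c with h | h
      · subst h; simp at hm'
      · exact h
    rw [Nat.mul_div_cancel_left _ hn, mul_assoc, Nat.mul_div_cancel_left _ hn,
      image_eq_of_dvd B' hdiv M hM (M * c) (Nat.mul_pos hMpos hc) (Dvd.intro c rfl),
      image_eq_of_dvd B' hdiv M hM M hMpos dvd_rfl]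
  · rintro B' hdiv ⟨M, hMpos, hM⟩ D hD
    rw [← image_eq_of_epi D M (hD M hMpos)]
    exact (imageSubobject_comp_le _ _).trans (image_le_of_cokernel B' M hM)

end Groth.Agent.Helper18ML
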