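import Mathlib

set_option autoImplicit false
universe v₁ v₂ v₃ v₄ v₅ v₆ u₁ u₂ u₃ u₄ u₅ u₆
open CategoryTheory

namespace Groth.Agent.Helper18Mates

section conj
variable {C : Type u₁} [Category.{v₁} C] {D : Type u₂} [Category.{v₂} D]
  {L₁ L₂ : C ⥤ D} {R₁ R₂ : D ⥤ C} (adj₁ : L₁ ⊣ R₁) (adj₂ : L₂ ⊣ R₂)
  (a : L₁ ≅ L₂) (c : R₁ ≅ R₂) (hac : conjugateEquiv adj₁ adj₂ a.inv = c.hom)

include hac in
theorem unit_eq (A : C) :
    adj₂.unit.app A = adj₁.unit.app A ≫ c.hom.app (L₁.obj A) ≫ R₂.map (a.hom.app A) := by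
  have h := unit_conjugateEquiv adj₁ adj₂ a.inv A
  rw [hac] at h
  rw [← Category.assoc, h, Category.assoc, ← R₂.map_comp, ← NatTrans.comp_app, a.inv_hom_id]
  simp

include hac in
theorem homEquiv_comp_symm (A : C) (B : D) (m : A ⟶ R₂.obj B) :
    adj₁.homEquiv A B (a.hom.app A ≫ (adj₂.homEquiv A B).symm m) = m ≫ c.inv.app B := by
  have h := unit_conjugateEquiv adj₁ adj₂ a.inv A
  rw [hac] at h
  rw [Adjunction.homEquiv_unit, R₁.map_comp]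
  have h1 : adj₁.unit.app A = adj₂.unit.app A ≫ R₂.map (a.inv.app A) ≫ c.inv.app _ := by
    rw [← Category.assoc, ← h, Category.assoc, ← NatTrans.comp_app, c.hom_inv_id]
    simp
  rw [h1]
  simp only [Category.assoc]
  have h2 : c.inv.app (L₁.obj A) ≫ R₁.map (a.hom.app A) = R₂.map (a.hom.app A) ≫ c.inv.app _ :=
    (c.inv.naturality _).symm
  rw [reassoc_of% h2]
  have h3 : c.inv.app (L₂.obj A) ≫ R₁.map ((adj₂.homEquiv A B).symm m) =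
      R₂.map ((adj₂.homEquiv A B).symm m) ≫ c.inv.app _ := (c.inv.naturality _).symm
  rw [h3, ← R₂.map_comp_assoc, ← NatTrans.comp_app, a.inv_hom_id]
  rw [NatTrans.id_app, R₂.map_id, Category.id_comp]
  have h4 : adj₂.unit.app A ≫ R₂.map ((adj₂.homEquiv A B).symm m) = m :=
    (adj₂.homEquiv_unit ..).symm.trans (Equiv.apply_symm_apply _ _)
  rw [reassoc_of% h4]

end conj

section pasting
variable {CX : Type u₁} [Category.{v₁} CX] {CY : Type u₂} [Category.{v₂} CY]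
  {CZ : Type u₃} [Category.{v₃} CZ] {CU : Type u₄} [Category.{v₄} CU]
  {CV : Type u₅} [Category.{v₅} CV] {CW : Type u₆} [Category.{v₆} CW]
  {fU : CY ⥤ CX} {fD : CX ⥤ CY} (adjF : fU ⊣ fD)
  {gU : CZ ⥤ CY} {gD : CY ⥤ CZ} (adjG : gU ⊣ gD)
  {fgU : CZ ⥤ CX} {fgD : CX ⥤ CZ} (adjFG : fgU ⊣ fgD)
  {pU : CV ⥤ CU} {pD : CU ⥤ CV} (adjP : pU ⊣ pD)
  {qU : CW ⥤ CV} {qD : CV ⥤ CW} (adjQ : qU ⊣ qD)
  {pqU : CW ⥤ CU} {pqD : CU ⥤ CW} (adjPQ : pqU ⊣ pqD)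
  (xD : CX ⥤ CU) (yD : CY ⥤ CV) (zD : CZ ⥤ CW)
  (aF : gU ⋙ fU ≅ fgU) (cF : fD ⋙ gD ≅ fgD)
  (hF : conjugateEquiv (adjG.comp adjF) adjFG aF.inv = cF.hom)
  (aP : qU ⋙ pU ≅ pqU) (cP : pD ⋙ qD ≅ pqD)
  (hP : conjugateEquiv (adjQ.comp adjP) adjPQ aP.inv = cP.hom)
  (σ₁ : fD ⋙ yD ⟶ xD ⋙ pD) (σ₂ : gD ⋙ zD ⟶ yD ⋙ qD) (σ : fgD ⋙ zD ⟶ xD ⋙ pqD)
  (hσ : ∀ T : CX, zD.map (cF.hom.app T) ≫ σ.app T ≫ cP.inv.app (xD.obj T) =
    σ₂.app (fD.obj T) ≫ qD.map (σ₁.app T))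

include hF hP hσ in
theorem baseChange_hcomp (L : CZ) :
    aP.hom.app (zD.obj L) ≫
        (adjPQ.homEquiv (zD.obj L) (xD.obj (fgU.obj L))).symm
          (zD.map (adjFG.unit.app L) ≫ σ.app (fgU.obj L)) =
      pU.map ((adjQ.homEquiv (zD.obj L) (yD.obj (gU.obj L))).symm
          (zD.map (adjG.unit.app L) ≫ σ₂.app (gU.obj L))) ≫
        (adjP.homEquiv (yD.obj (gU.obj L)) (xD.obj (fU.obj (gU.obj L)))).symm
          (yD.map (adjF.unit.app (gU.obj L)) ≫ σ₁.app (fU.obj (gU.obj L))) ≫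
        xD.map (aF.hom.app L) := by
  apply (adjP.homEquiv _ _).injective
  apply (adjQ.homEquiv _ _).injective
  have hL := homEquiv_comp_symm (adjQ.comp adjP) adjPQ aP cP hP (zD.obj L) (xD.obj (fgU.obj L))
    (zD.map (adjFG.unit.app L) ≫ σ.app (fgU.obj L))
  rw [Adjunction.comp_homEquiv] at hL
  refine hL.trans ?_
  rw [Adjunction.homEquiv_naturality_left, Adjunction.homEquiv_naturality_right,
    Equiv.apply_symm_apply, Adjunction.homEquiv_naturality_right, Equiv.apply_symm_apply]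
  rw [unit_eq (adjG.comp adjF) adjFG aF cF hF L, Adjunction.comp_unit_app]
  simp only [Functor.map_comp, Category.assoc, Functor.comp_obj, Functor.comp_map]
  have n1 : zD.map (fgD.map (aF.hom.app L)) ≫ σ.app (fgU.obj L) =
      σ.app (fU.obj (gU.obj L)) ≫ pqD.map (xD.map (aF.hom.app L)) := σ.naturality _
  have n2 : pqD.map (xD.map (aF.hom.app L)) ≫ cP.inv.app (xD.obj (fgU.obj L)) =
      cP.inv.app (xD.obj (fU.obj (gU.obj L))) ≫ qD.map (pD.map (xD.map (aF.hom.app L))) :=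
    cP.inv.naturality _
  have n3 : zD.map (gD.map (adjF.unit.app (gU.obj L))) ≫ σ₂.app (fD.obj (fU.obj (gU.obj L))) =
      σ₂.app (gU.obj L) ≫ qD.map (yD.map (adjF.unit.app (gU.obj L))) := σ₂.naturality _
  rw [reassoc_of% n1, n2, reassoc_of% (hσ (fU.obj (gU.obj L))), reassoc_of% n3]

end pasting

end Groth.Agent.Helper18Mates
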