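import Mathlib
import Groth.Prelude.Def_Formal2
import Groth.Prelude.Def_Formal
import Groth.Prelude.Def_ega3
import Groth.Prelude.Def_KLin

set_option autoImplicit false
set_option linter.style.haveILetI false
set_option linter.unusedSectionVars false
set_option linter.unusedVariables false
universe u
open CategoryTheory CategoryTheory.Limits AlgebraicGeometry

namespace Groth.Agent.Helper18ModPowSeq

section abstract
variable {C : Type*} [Category C] [Abelian C]

theorem ses_of_cokernels {F C₁ Cn Cn1 : C} (φ₁ φn φn1 : F ⟶ F) (h1 : φn1 = φ₁ ≫ φn) [Mono φn]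
    (π₁ : F ⟶ C₁) (πn : F ⟶ Cn) (πn1 : F ⟶ Cn1)
    (w₁ : φ₁ ≫ π₁ = 0) (wn : φn ≫ πn = 0) (wn1 : φn1 ≫ πn1 = 0)
    (hπ₁ : IsColimit (CokernelCofork.ofπ π₁ w₁)) (hπn : IsColimit (CokernelCofork.ofπ πn wn))
    (hπn1 : IsColimit (CokernelCofork.ofπ πn1 wn1))
    (i : C₁ ⟶ Cn1) (hi : π₁ ≫ i = φn ≫ πn1) (t : Cn1 ⟶ Cn) (ht : πn1 ≫ t = πn) :
    Mono i ∧ ∃ w : i ≫ t = 0, (ShortComplex.mk i t w).ShortExact := by
  haveI e₁ : Epi π₁ := epi_of_isColimit_cofork hπ₁
  haveI en : Epi πn := epi_of_isColimit_cofork hπn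
  haveI en1 : Epi πn1 := epi_of_isColimit_cofork hπn1
  have ex₁ : (ShortComplex.mk φ₁ π₁ w₁).Exact := ShortComplex.exact_of_g_is_cokernel _ hπ₁
  have exn : (ShortComplex.mk φn πn wn).Exact := ShortComplex.exact_of_g_is_cokernel _ hπn
  have exn1 : (ShortComplex.mk φn1 πn1 wn1).Exact := ShortComplex.exact_of_g_is_cokernel _ hπn1
  have hmono : Mono i := by
    rw [Preadditive.mono_iff_cancel_zero]
    intro A x hx
    obtain ⟨A', e, he, y, hy⟩ := surjective_up_to_refinements_of_epi π₁ x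
    have h2 : (y ≫ φn) ≫ πn1 = 0 := by
      rw [Category.assoc, ← hi, ← Category.assoc, ← hy, Category.assoc, hx, comp_zero]
    obtain ⟨A'', e', he', z, hz⟩ := exn1.exact_up_to_refinements (y ≫ φn) h2
    have hz' : e' ≫ y ≫ φn = z ≫ φn1 := hz
    have h3 : (e' ≫ y) ≫ φn = (z ≫ φ₁) ≫ φn := by
      rw [Category.assoc, hz', Category.assoc, ← h1]
    have h4 : e' ≫ y = z ≫ φ₁ := (cancel_mono φn).mp h3
    have h5 : (e' ≫ e) ≫ x = 0 := by
      rw [Category.assoc, hy, ← Category.assoc, h4, Category.assoc, w₁, comp_zero]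
    haveI : Epi (e' ≫ e) := epi_comp _ _
    exact (cancel_epi (e' ≫ e)).mp (h5.trans comp_zero.symm)
  have w : i ≫ t = 0 := by
    rw [← cancel_epi π₁, ← Category.assoc, hi, Category.assoc, ht, wn, comp_zero]
  refine ⟨hmono, w, ?_⟩
  haveI : Mono (ShortComplex.mk i t w).f := hmono
  haveI : Epi (ShortComplex.mk i t w).g := by
    change Epi t
    have : Epi (πn1 ≫ t) := by rw [ht]; exact en
    exact epi_of_epi πn1 t
  refine ShortComplex.ShortExact.mk ?_
  rw [ShortComplex.exact_iff_exact_up_to_refinements]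
  intro A x₂ hx₂
  change x₂ ≫ t = 0 at hx₂
  obtain ⟨A', e, he, y, hy⟩ := surjective_up_to_refinements_of_epi πn1 x₂
  have h2 : y ≫ πn = 0 := by
    rw [← ht, ← Category.assoc, ← hy, Category.assoc, hx₂, comp_zero]
  obtain ⟨A'', e', he', z, hz⟩ := exn.exact_up_to_refinements y h2
  change e' ≫ y = z ≫ φn at hz
  haveI : Epi (e' ≫ e) := epi_comp _ _
  refine ⟨A'', e' ≫ e, inferInstance, z ≫ π₁, ?_⟩
  change (e' ≫ e) ≫ x₂ = (z ≫ π₁) ≫ i
  rw [Category.assoc, hy, ← Category.assoc, hz, Category.assoc, Category.assoc, hi]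

end abstract

section concrete
variable {A : Type u} [CommRing A] {X : Scheme.{u}} [X.Over (Spec (CommRingCat.of A))]
variable (f : A) (F : X.Modules)

theorem comp_smulMod {M N : X.Modules} (g : M ⟶ N) (a : A) :
    g ≫ Formal.smulMod A N a = Formal.smulMod A M a ≫ g :=
  KLin.comp_smulModΓ g _

theorem smulMod_one' : Formal.smulMod A F (1 : A) = 𝟙 F := by
  unfold Formal.smulMod
  rw [map_one]
  exact KLin.smulModΓ_one F

theorem ι_smulFamily (J : Ideal A) (a : J) :
    Sigma.ι (fun _ : J => F) a ≫ Formal.smulFamily J F = Formal.smulMod A F (a : A) := by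
  unfold Formal.smulFamily
  exact Sigma.ι_desc _ _

theorem smulMod_pow_modPowπ (k : ℕ) :
    Formal.smulMod A F (f ^ k) ≫ Formal.modPowπ (Ideal.span ({f} : Set A)) k F = 0 := by
  have hmem : f ^ k ∈ (Ideal.span ({f} : Set A)) ^ k :=
    Ideal.pow_mem_pow (I := Ideal.span ({f} : Set A)) (Ideal.mem_span_singleton_self f) k
  have hc : Formal.smulFamily ((Ideal.span ({f} : Set A)) ^ k) F ≫
      Formal.modPowπ (Ideal.span ({f} : Set A)) k F = 0 :=
    cokernel.condition (Formal.smulFamily ((Ideal.span ({f} : Set A)) ^ k) F)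
  rw [← ι_smulFamily F _ ⟨f ^ k, hmem⟩, Category.assoc, hc, comp_zero]

theorem smulFamily_comp_eq_zero (k : ℕ) {Z : X.Modules} (g : F ⟶ Z)
    (hg : Formal.smulMod A F (f ^ k) ≫ g = 0) :
    Formal.smulFamily ((Ideal.span ({f} : Set A)) ^ k) F ≫ g = 0 := by
  apply Sigma.hom_ext
  intro a
  rw [← Category.assoc, ι_smulFamily, comp_zero]
  have ha : (a : A) ∈ Ideal.span ({f ^ k} : Set A) := by
    rw [← Ideal.span_singleton_pow]
    exact a.2
  obtain ⟨b, hb⟩ := Ideal.mem_span_singleton'.mp ha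
  have e1 : Formal.smulMod A F (b * f ^ k) =
      Formal.smulMod A F (f ^ k) ≫ Formal.smulMod A F b := CohIII.smulMod_mul F b (f ^ k)
  have e2 : Formal.smulMod A F b ≫ g = g ≫ Formal.smulMod A Z b := (comp_smulMod g b).symm
  rw [← hb, e1, Category.assoc, e2, ← Category.assoc, hg, zero_comp]

/-- `F ⟶ F/f^kF` is a cokernel of multiplication by `f^k`. -/
noncomputable def isColimitModPowπ (k : ℕ) :
    IsColimit (CokernelCofork.ofπ (Formal.modPowπ (Ideal.span ({f} : Set A)) k F)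
      (smulMod_pow_modPowπ f F k)) :=
  CokernelCofork.IsColimit.ofπ _ _
    (fun g hg => cokernel.desc _ g (smulFamily_comp_eq_zero f F k g hg))
    (fun g hg => cokernel.π_desc _ _ _)
    (fun g hg m hm => by
      haveI : Epi (Formal.modPowπ (Ideal.span ({f} : Set A)) k F) :=
        inferInstanceAs (Epi (cokernel.π (Formal.smulFamily ((Ideal.span ({f} : Set A)) ^ k) F)))
      rw [← cancel_epi (Formal.modPowπ (Ideal.span ({f} : Set A)) k F), hm]
      exact (cokernel.π_desc _ _ _).symm)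

theorem mono_smulMod_pow (hF : Mono (Formal.smulMod A F f)) (k : ℕ) :
    Mono (Formal.smulMod A F (f ^ k)) := by
  induction k with
  | zero =>
    rw [pow_zero, smulMod_one']
    infer_instance
  | succ k ih =>
    rw [pow_succ, CohIII.smulMod_mul]
    exact mono_comp _ _

theorem main_S8821 (hF : Mono (Formal.smulMod A F f)) (n : ℕ) (hn : 1 ≤ n) :
    ∃ i : Formal.modPow (Ideal.span ({f} : Set A)) 1 F ⟶
        Formal.modPow (Ideal.span ({f} : Set A)) (n + 1) F,
      Mono i ∧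
      Formal2.modPowLE (Ideal.span ({f} : Set A)) (Nat.le_add_left 1 n) F ≫ i =
        Formal.smulMod A (Formal.modPow (Ideal.span ({f} : Set A)) (n + 1) F) (f ^ n) ∧
      ∃ w : i ≫ Formal.modPowTrans (Ideal.span ({f} : Set A)) n F = 0,
        (ShortComplex.mk i (Formal.modPowTrans (Ideal.span ({f} : Set A)) n F) w).ShortExact := by
  set I := Ideal.span ({f} : Set A) with hI
  have h1 : Formal.smulMod A F (f ^ (n + 1)) =
      Formal.smulMod A F (f ^ 1) ≫ Formal.smulMod A F (f ^ n) := by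
    rw [← CohIII.smulMod_mul, ← pow_add]
  haveI := mono_smulMod_pow f F hF n
  have hw : Formal.smulMod A F (f ^ 1) ≫
      (Formal.smulMod A F (f ^ n) ≫ Formal.modPowπ I (n + 1) F) = 0 := by
    rw [← Category.assoc, ← h1]
    exact smulMod_pow_modPowπ f F (n + 1)
  let i : Formal.modPow I 1 F ⟶ Formal.modPow I (n + 1) F :=
    (isColimitModPowπ f F 1).desc (CokernelCofork.ofπ _ hw)
  have hi : Formal.modPowπ I 1 F ≫ i =
      Formal.smulMod A F (f ^ n) ≫ Formal.modPowπ I (n + 1) F :=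
    (isColimitModPowπ f F 1).fac (CokernelCofork.ofπ _ hw) WalkingParallelPair.one
  obtain ⟨hmono, w, hS⟩ := ses_of_cokernels (Formal.smulMod A F (f ^ 1)) (Formal.smulMod A F (f ^ n))
    (Formal.smulMod A F (f ^ (n + 1))) h1 (Formal.modPowπ I 1 F) (Formal.modPowπ I n F)
    (Formal.modPowπ I (n + 1) F) (smulMod_pow_modPowπ f F 1) (smulMod_pow_modPowπ f F n)
    (smulMod_pow_modPowπ f F (n + 1)) (isColimitModPowπ f F 1) (isColimitModPowπ f F n)
    (isColimitModPowπ f F (n + 1)) i hi (Formal.modPowTrans I n F) (Formal.modPowπ_trans I n F)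
  refine ⟨i, hmono, ?_, w, hS⟩
  haveI : Epi (Formal.modPowπ I (n + 1) F) :=
    inferInstanceAs (Epi (cokernel.π (Formal.smulFamily (I ^ (n + 1)) F)))
  rw [← cancel_epi (Formal.modPowπ I (n + 1) F), ← Category.assoc, Formal2.modPowπ_modPowLE, hi,
    comp_smulMod]

end concrete

end Groth.Agent.Helper18ModPowSeq
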