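import Mathlib

/-!
# Transfer of "finite projective of rank one" along a semilinear isomorphism (helper18)

For a bijective ring map `ρ : R → R'` and an additive isomorphism `e : N ≃+ N'` that is `ρ`-semilinear,
`N` is finite projective of constant rank one over `R` iff `N'` is so over `R'`.
-/

set_option autoImplicit false
universe u

namespace Groth.Agent.Helper18NA

section

variable {R R' N N' : Type u} [CommRing R] [CommRing R'] [AddCommGroup N] [AddCommGroup N']
  [Module R N] [Module R' N']

/-- an `R`-linear isomorphism onto an `R'`-module is a base change when `R → R'` is bijective. -/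
theorem isBaseChange_of_bijective [Algebra R R'] (hρ : Function.Bijective (algebraMap R R'))
    [Module R N'] [IsScalarTower R R' N'] (e : N ≃ₗ[R] N') : IsBaseChange R' e.toLinearMap := by
  refine IsBaseChange.of_lift_unique _ (fun Q _ _ _ _ g => ?_)
  have hlin : ∀ (r' : R') (x : N'), g (e.symm (r' • x)) = r' • g (e.symm x) := by
    intro r' x
    obtain ⟨r, rfl⟩ := hρ.2 r'
    rw [algebraMap_smul, map_smul, map_smul, algebraMap_smul]
  refine ⟨{ toFun := fun x => g (e.symm x)
            map_add' := fun x y => by rw [map_add, map_add]
            map_smul' := fun r' x => hlin r' x }, ?_, ?_⟩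
  · ext x
    simp
  · intro g' hg'
    ext x
    have := congr($hg' (e.symm x))
    simpa using this

theorem transfer (ρ : R →+* R') (hρ : Function.Bijective ρ) (e : N ≃+ N')
    (he : ∀ r x, e (r • x) = ρ r • e x) [Module.Finite R N] [Module.Projective R N]
    (hrk : ∀ p : PrimeSpectrum R, Module.rankAtStalk N p = 1) :
    Module.Finite R' N' ∧ Module.Projective R' N' ∧
      ∀ p : PrimeSpectrum R', Module.rankAtStalk N' p = 1 := by
  letI alg : Algebra R R' := ρ.toAlgebra
  letI mod : Module R N' := Module.compHom N' ρ
  haveI tower : IsScalarTower R R' N' := ⟨fun a b x => by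
    change (ρ a * b) • x = ρ a • (b • x)
    rw [mul_smul]⟩
  let e' : N ≃ₗ[R] N' := { e with map_smul' := fun r x => he r x }
  haveI hfin : Module.Finite R N' := Module.Finite.equiv e'
  haveI hfin' : Module.Finite R' N' := Module.Finite.of_restrictScalars_finite R R' N'
  have hbc : IsBaseChange R' e'.toLinearMap := isBaseChange_of_bijective hρ e'
  haveI hproj : Module.Projective R' N' := by
    haveI : Module.Projective R' (TensorProduct R R' N) := inferInstance
    exact Module.Projective.of_equiv' hbc.equiv
  refine ⟨hfin', hproj, fun p => ?_⟩
  rw [Module.rankAtStalk_isBaseChange hbc p]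
  exact hrk _

end

end Groth.Agent.Helper18NA
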