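import Mathlib
import Groth.Prelude.Def_LCI2
import Groth.Agent.Lib.Helper26RelAmpleLoc
import Groth.Agent.Lib.Helper23PB3
import Groth.Agent.Lib.Helper23Restr2
import Groth.Agent.Lib.Helper26ModLim2

/-!
# Relative ampleness and base change along affine morphisms (helper26)

* `isRelAmple_of_iso`: relative ampleness is invariant under isomorphisms of the module.
* `isRelAmple_of_isPullback`: if `f' : X' ⟶ Y'` is the base change of a quasi-compact quasi-separated
  `f : X ⟶ Y` along an affine morphism `rY : Y' ⟶ Y` and the invertible module `L` is `f`-ample, then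
  its pullback to `X'` is `f'`-ample.
-/

set_option autoImplicit false
set_option linter.style.haveILetI false
universe u
open CategoryTheory CategoryTheory.Limits AlgebraicGeometry

namespace Groth.Agent.Lib.Helper26.RelAmpleBC

open Groth.Agent.Lib.Helper26.RelAmpleLoc Groth.Agent.Lib.Helper23.PB Groth.Agent.Lib.Helper23.SecTw
  Groth.Agent.Lib.Helper23.AmpleIso Groth.Agent.Lib.Helper26.ModLim2

theorem isRelAmple_of_iso {X Y : Scheme.{u}} (f : X ⟶ Y) {L L' : X.Modules} (e : L ≅ L')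
    (h : RelAmple.IsRelAmple f L) : RelAmple.IsRelAmple f L' :=
  ⟨h.1, fun V => isAmple_of_iso ((Scheme.Modules.restrictFunctor _).mapIso e) (h.2 V)⟩

theorem isRelAmple_of_isPullback {X Y X' Y' : Scheme.{u}} {f : X ⟶ Y} {f' : X' ⟶ Y'}
    {rX : X' ⟶ X} {rY : Y' ⟶ Y} (sq : IsPullback rX f' f rY) [IsAffineHom rY]
    [QuasiCompact f] [QuasiSeparated f] (L : X.Modules) (hL : PicF.IsInvertible L)
    (h : RelAmple.IsRelAmple f L) :
    RelAmple.IsRelAmple f' ((Scheme.Modules.pullback rX).obj L) := by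
  haveI : IsAffineHom rX := MorphismProperty.of_isPullback (P := @IsAffineHom) sq.flip inferInstance
  haveI : QuasiCompact f' := MorphismProperty.of_isPullback (P := @QuasiCompact) sq inferInstance
  haveI : QuasiSeparated f' := MorphismProperty.of_isPullback (P := @QuasiSeparated) sq inferInstance
  apply isRelAmple_of_affine_cover f' _ (isInvertible_pullback rX L hL)
  intro y
  obtain ⟨V, hV, hyV, -⟩ := exists_isAffineOpen_mem_and_subset (x := rY y) (U := ⊤) trivial
  refine ⟨rY ⁻¹ᵁ V, hV.preimage rY, hyV, ?_⟩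
  have hOeq : f' ⁻¹ᵁ (rY ⁻¹ᵁ V) = rX ⁻¹ᵁ (f ⁻¹ᵁ V) := by
    rw [← Scheme.Hom.comp_preimage, ← Scheme.Hom.comp_preimage, sq.w]
  rw [hOeq]
  have h1 : CohB1.IsAmple (L.restrict (f ⁻¹ᵁ V).ι) := h.2 ⟨V, hV⟩
  haveI : IsAffineHom (rX ∣_ (f ⁻¹ᵁ V)) :=
    MorphismProperty.of_isPullback (P := @IsAffineHom) (isPullback_morphismRestrict rX (f ⁻¹ᵁ V)).flip
      inferInstance
  have h2 := isAmple_pullback_of_isAffineHom (rX ∣_ (f ⁻¹ᵁ V)) _ h1
  exact isAmple_of_iso (pullbackRestrictIso rX L (f ⁻¹ᵁ V)).symm h2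

end Groth.Agent.Lib.Helper26.RelAmpleBC
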