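import Mathlib
import Groth.Agent.Lib.Helper26ModLim2
import Groth.Agent.Lib.Helper26HomLimD
import Groth.Agent.Lib.Helper23PB
import Groth.Agent.Lib.Helper23SecTw7
import Groth.Agent.Lib.Helper23AmpleIso
import Groth.Agent.Lib.Helper18FinFlat1

/-!
# Ampleness descends to a finite stage of a limit of schemes (helper26)
-/

set_option autoImplicit false
set_option linter.style.haveILetI false
universe u
open CategoryTheory AlgebraicGeometry Limits TopologicalSpace

namespace Groth.Agent.Lib.Helper26.AmpleLim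
open Groth.Agent.Lib.Helper26.ModLim2 Groth.Agent.Lib.Helper23.PB Groth.Agent.Lib.Helper23.SecTw
  Groth.Agent.Lib.Helper23.AmpleIso Groth.Agent.Lib.Helper23.GenLocus

section basic
variable {X Y Z : Scheme.{u}}

/-- pull back a section of a tensor power along `f`, landing in the tensor power of `p^* L` for `p = f ≫ g`. -/
theorem exists_pullback_section_comp (f : X ⟶ Y) (g : Y ⟶ Z) (p : X ⟶ Z) (e : f ≫ g = p)
    (L : Z.Modules) (hL : PicF.IsInvertible L) (n : ℕ)
    (s : Coh.structureModule Y ⟶ CohB1.tensorPow ((Scheme.Modules.pullback g).obj L) n) :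
    ∃ s' : Coh.structureModule X ⟶ CohB1.tensorPow ((Scheme.Modules.pullback p).obj L) n,
      CohB1.genLocus _ s' = f ⁻¹ᵁ CohB1.genLocus _ s := by
  obtain ⟨s₁, hs₁⟩ := exists_pullback_section f _ (isInvertible_pullback g L hL) n s
  refine ⟨s₁ ≫ (tensorPowIso ((compIso f g p e).app L) n).hom, ?_⟩
  rw [genLocus_comp_iso, hs₁]

/-- the generating locus of a section of an invertible module on a quasi-compact scheme is quasi-compact. -/
theorem isCompact_genLocus [CompactSpace X] (L : X.Modules) (hL : PicF.IsInvertible L)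
    (s : Coh.structureModule X ⟶ L) : IsCompact (CohB1.genLocus L s : Set X) := by
  haveI : IsAffineHom (CohB1.genLocus L s).ι := Groth.Agent.S2350.result X L hL s
  have h1 : CompactSpace (↑(CohB1.genLocus L s) : Scheme.{u}) :=
    QuasiCompact.compactSpace_of_compactSpace (CohB1.genLocus L s).ι
  exact isCompact_iff_compactSpace.2 h1

end basic

section sys
variable {I : Type u} [SmallCategory I] [IsCofiltered I] (D : I ⥤ Scheme.{u}) (c : Cone D)
  (hc : IsLimit c) [∀ (i j : I) (f : i ⟶ j), IsAffineHom (D.map f)] (i₀ : I)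

include hc in
/-- a quasi-compact open of a stage whose preimage in the limit is affine has affine preimage in some stage. -/
theorem exists_isAffineOpen_stage [∀ i, QuasiSeparatedSpace (D.obj i)] (i : I) (W : (D.obj i).Opens)
    (hWc : IsCompact (W : Set (D.obj i))) (haff : IsAffineOpen (c.π.app i ⁻¹ᵁ W)) :
    ∃ j : Over i, IsAffineOpen (D.map j.hom ⁻¹ᵁ W) := by
  haveI hD : ∀ {i j : I} (φ : i ⟶ j), IsAffineHom (D.map φ) := fun φ => inferInstance
  have (j : Over i) : CompactSpace ((opensDiagram D i W).obj j) :=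
    isCompact_iff_compactSpace.mp (QuasiCompact.isCompact_preimage _ W.2 hWc)
  have (j : Over i) : QuasiSeparatedSpace ((opensDiagram D i W).obj j) :=
    (isQuasiSeparated_iff_quasiSeparatedSpace _ (D.map _ ⁻¹ᵁ _).2).mp (.of_quasiSeparatedSpace _)
  have : IsAffine (opensCone D c i W).pt := haff
  obtain ⟨j, hj⟩ := Scheme.exists_isAffine_of_isLimit _ _ (isLimitOpensCone D c hc i W)
  exact ⟨j, hj⟩

include hc in
/-- a section of a tensor power of the pullback of `L₀` to the limit descends to a stage, compatibly with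
generating loci. -/
theorem exists_section_stage [CompactSpace (D.obj i₀)] [QuasiSeparatedSpace (D.obj i₀)]
    (L₀ : (D.obj i₀).Modules) (hL₀ : PicF.IsInvertible L₀) (n : ℕ)
    (s : Coh.structureModule c.pt ⟶
      CohB1.tensorPow ((Scheme.Modules.pullback (c.π.app i₀)).obj L₀) n) :
    ∃ (j : Over i₀) (σ : Coh.structureModule (D.obj j.left) ⟶
        CohB1.tensorPow ((Scheme.Modules.pullback (D.map j.hom)).obj L₀) n),
      c.π.app j.left ⁻¹ᵁ CohB1.genLocus _ σ = CohB1.genLocus _ s := by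
  obtain ⟨T₀, hT₀def⟩ : ∃ T₀ : (D.obj i₀).Modules, T₀ = CohB1.tensorPow L₀ n := ⟨_, rfl⟩
  have hT₀ : PicF.IsInvertible T₀ := hT₀def ▸ isInvertible_tensorPow hL₀ n
  haveI : T₀.IsQuasicoherent := isQuasicoherent_of_isInvertible _ hT₀
  haveI : (Coh.structureModule (D.obj i₀)).IsQuasicoherent :=
    Groth.Agent.Lib.Helper23.Serre.isQuasicoherent_structureModule' _
  have hF₀ := Groth.Agent.Helper18FinFlat.isFinitePresentation_structureModule (D.obj i₀)
  obtain ⟨Φ⟩ := nonempty_pullback_tensorPow_iso (c.π.app i₀) L₀ hL₀ n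
  rw [← hT₀def] at Φ
  let u := pullbackUnitIso (c.π.app i₀)
  let h : (Scheme.Modules.pullback (c.π.app i₀)).obj (Coh.structureModule (D.obj i₀)) ⟶
      (Scheme.Modules.pullback (c.π.app i₀)).obj T₀ := u.hom ≫ s ≫ Φ.inv
  obtain ⟨j, hj, ej⟩ := Groth.Agent.Lib.Helper26.HomLimD.exists_hom_pullback_eq D c hc i₀ T₀
    (Coh.structureModule (D.obj i₀)) hF₀ h
  obtain ⟨Φj⟩ := nonempty_pullback_tensorPow_iso (D.map j.hom) L₀ hL₀ n
  rw [← hT₀def] at Φj
  let σ₀ : Coh.structureModule (D.obj j.left) ⟶ (Scheme.Modules.pullback (D.map j.hom)).obj T₀ :=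
    (pullbackUnitIso (D.map j.hom)).inv ≫ hj
  refine ⟨j, σ₀ ≫ Φj.hom, ?_⟩
  rw [genLocus_comp_iso]
  let κ := compIso (c.π.app j.left) (D.map j.hom) (c.π.app i₀) (c.w j.hom)
  have ej' : κ.inv.app (Coh.structureModule (D.obj i₀)) ≫
      (Scheme.Modules.pullback (c.π.app j.left)).map hj ≫ κ.hom.app T₀ = h := ej
  let e : Coh.structureModule c.pt ≅
      (Scheme.Modules.pullback (c.π.app j.left)).obj (Coh.structureModule (D.obj j.left)) :=
    u.symm ≪≫ (κ.app (Coh.structureModule (D.obj i₀))).symm ≪≫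
      (Scheme.Modules.pullback (c.π.app j.left)).mapIso (pullbackUnitIso (D.map j.hom))
  rw [← genLocus_pullback (c.π.app j.left) _ (isInvertible_pullback (D.map j.hom) T₀ hT₀) σ₀ e]
  have key : e.hom ≫ (Scheme.Modules.pullback (c.π.app j.left)).map σ₀ =
      s ≫ (Φ.symm ≪≫ (κ.app T₀).symm).hom := by
    have e1 : (Scheme.Modules.pullback (c.π.app j.left)).map hj =
        κ.hom.app (Coh.structureModule (D.obj i₀)) ≫ h ≫ κ.inv.app T₀ := by
      rw [← ej']
      simp
    simp only [e, σ₀, h, Iso.trans_hom, Iso.symm_hom, Functor.mapIso_hom, Functor.map_comp, Category.assoc,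
      Iso.app_inv] at e1 ⊢
    rw [e1]
    simp
  rw [key, genLocus_comp_iso]

include hc in
/-- **Ampleness descends to a stage** (Stacks 01ZR-type statement): if the pullback of an invertible module `L₀`
on a stage to the limit is ample, then its pullback to some stage is ample. -/
theorem exists_isAmple_stage [∀ i, CompactSpace (D.obj i)] [∀ i, QuasiSeparatedSpace (D.obj i)]
    (L₀ : (D.obj i₀).Modules) (hL₀ : PicF.IsInvertible L₀)
    (h : CohB1.IsAmple ((Scheme.Modules.pullback (c.π.app i₀)).obj L₀)) :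
    ∃ (i : I) (φ : i ⟶ i₀), CohB1.IsAmple ((Scheme.Modules.pullback (D.map φ)).obj L₀) := by
  classical
  haveI hD : ∀ {i j : I} (φ : i ⟶ j), IsAffineHom (D.map φ) := fun φ => inferInstance
  have h' : CohB1.IsAmple ((Scheme.Modules.pullback (Groth.Agent.Lib.Helper26.HomLimD.leg D c i₀)).obj L₀) := h
  obtain ⟨-, hcpt, hpts⟩ := h'
  haveI : CompactSpace c.pt := hcpt
  choose n s hxs haff using hpts
  -- per point data
  have hstage : ∀ x : c.pt, ∃ (j : Over i₀) (σ : Coh.structureModule (D.obj j.left) ⟶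
        CohB1.tensorPow ((Scheme.Modules.pullback (D.map j.hom)).obj L₀) (n x + 1)) (j' : Over i₀) (a : j' ⟶ j),
      c.π.app j.left ⁻¹ᵁ CohB1.genLocus _ σ = CohB1.genLocus _ (s x) ∧
        IsAffineOpen (D.map a.left ⁻¹ᵁ CohB1.genLocus _ σ) := by
    intro x
    obtain ⟨j, σ, hσ⟩ := exists_section_stage D c hc i₀ L₀ hL₀ (n x + 1) (s x)
    have hWc := isCompact_genLocus _
      (isInvertible_tensorPow (isInvertible_pullback (D.map j.hom) L₀ hL₀) (n x + 1)) σ
    have haffW : IsAffineOpen (c.π.app j.left ⁻¹ᵁ CohB1.genLocus _ σ) := by rw [hσ]; exact haff x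
    obtain ⟨k, hk⟩ := exists_isAffineOpen_stage D c hc j.left _ hWc haffW
    exact ⟨j, σ, Over.mk (k.hom ≫ j.hom), Over.homMk k.hom rfl, hσ, hk⟩
  choose js σs js' as hσs haffs using hstage
  -- finite subcover
  obtain ⟨t, ht⟩ := CompactSpace.elim_nhds_subcover (fun x => (CohB1.genLocus _ (s x) : Set c.pt))
    (fun x => (CohB1.genLocus _ (s x)).2.mem_nhds (hxs x))
  -- common stage
  obtain ⟨j₁, hj₁⟩ := IsCofiltered.inf_objs_exists (t.image js')
  have hb : ∀ x : t, Nonempty (j₁ ⟶ js' x.1) := fun x => hj₁ (Finset.mem_image_of_mem js' x.2)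
  obtain ⟨b⟩ : Nonempty (∀ x : t, j₁ ⟶ js' x.1) := ⟨fun x => (hb x).some⟩
  let G : t → (D.obj j₁.left).Opens := fun x =>
    D.map (b x ≫ as x.1).left ⁻¹ᵁ CohB1.genLocus _ (σs x.1)
  have hcov : c.π.app j₁.left ⁻¹ᵁ (⨆ x, G x) = ⊤ := by
    rw [eq_top_iff]
    intro z _
    have hz : z ∈ ⋃ x ∈ t, (CohB1.genLocus _ (s x) : Set c.pt) := by rw [ht]; trivial
    obtain ⟨x, hxt, hzx⟩ := Set.mem_iUnion₂.1 hz
    have h1 : z ∈ c.π.app (js x).left ⁻¹ᵁ CohB1.genLocus _ (σs x) := by rw [hσs x]; exact hzx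
    have h2 : c.π.app j₁.left ≫ D.map (b ⟨x, hxt⟩ ≫ as x).left = c.π.app (js x).left := c.w _
    rw [← h2, Scheme.Hom.comp_preimage] at h1
    exact Opens.mem_iSup.2 ⟨⟨x, hxt⟩, h1⟩
  obtain ⟨j₂, φ₂, hj₂⟩ := exists_preimage_eq_top D c hc j₁.left (⨆ x, G x) hcov
  refine ⟨j₂, φ₂ ≫ j₁.hom, isInvertible_pullback _ L₀ hL₀, inferInstance, fun y => ?_⟩
  have hy : y ∈ D.map φ₂ ⁻¹ᵁ (⨆ x, G x) := by rw [hj₂]; trivial
  obtain ⟨x, hyx⟩ := Opens.mem_iSup.1 hy
  have hw : (φ₂ ≫ (b x ≫ as x.1).left) ≫ (js x.1).hom = φ₂ ≫ j₁.hom := by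
    rw [Category.assoc, Over.w]
  obtain ⟨τ, hτ⟩ := exists_pullback_section_comp (D.map (φ₂ ≫ (b x ≫ as x.1).left)) (D.map (js x.1).hom)
    (D.map (φ₂ ≫ j₁.hom)) (by rw [← D.map_comp, hw]) L₀ hL₀ (n x.1 + 1) (σs x.1)
  refine ⟨n x.1, τ, ?_, ?_⟩
  · rw [hτ, D.map_comp, Scheme.Hom.comp_preimage]
    exact hyx
  · rw [hτ]
    have e1 : D.map (φ₂ ≫ (b x ≫ as x.1).left) = D.map (φ₂ ≫ (b x).left) ≫ D.map (as x.1).left := by
      rw [← D.map_comp, Category.assoc]
      rfl
    rw [e1, Scheme.Hom.comp_preimage]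
    exact (haffs x.1).preimage (D.map (φ₂ ≫ (b x).left))

end sys

end Groth.Agent.Lib.Helper26.AmpleLim
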