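import Mathlib
import Groth.Agent.S4846
import Groth.Agent.Lib.Helper26ModDescD
import Groth.Agent.Lib.Helper26ModRank
import Groth.Agent.Lib.Helper22LimBC2
import Groth.Agent.Lib.Helper26RelAmpleBC
import Groth.Agent.Lib.Helper23QAffSec
import Groth.Agent.Lib.Helper23SecTw3
import Groth.Agent.Lib.Helper23Restr2
import Groth.Agent.Lib.Helper2LocFree

/-!
# Relatively ample modules over a limit descend to a stage (helper26)

`exists_stage_isRelAmple`: `S = lim S_i`, `f₀ : X₀ ⟶ Y₀` of finite presentation over `S_{i₀}`, `f : X ⟶ Y` its base change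
to `S`.  If some module on `X` is ample relative to `f`, then for some stage `j` some module on `X_j` is ample relative to
`f_j`.  (EGA IV 8.10.5.2 without a given module: the module is descended by EGA IV 8.5.2 (ii) and 8.5.5.)
-/

set_option autoImplicit false
set_option linter.style.haveILetI false
set_option linter.unusedSectionVars false
universe u
open CategoryTheory AlgebraicGeometry

namespace Groth.Agent.Lib.Helper26.QProjLim

open Groth.Agent.Lib.Helper26.ModLim2 Groth.Agent.Lib.Helper26.ModDesc Groth.Agent.Lib.Helper26.ModRank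
  Groth.Agent.Lib.Helper22.LimBC Groth.Agent.Lib.Helper26.RelAmpleBC Groth.Agent.Lib.Helper23.SecTw

theorem isInvertible_of_isFinLocFreeOfRank_one {X : Scheme.{u}} (L : X.Modules)
    (hL : FlatMod.IsFinLocFreeOfRank 1 L) : PicF.IsInvertible L := by
  intro x
  obtain ⟨U, hxU, ⟨ε⟩⟩ := hL x
  exact ⟨U, hxU, ⟨ε ≪≫ Limits.coproductUniqueIso (fun _ : Fin 1 => Coh.structureModule (↑U : Scheme.{u}))⟩⟩

theorem isFinLocFree_of_isFinLocFreeOfRank {X : Scheme.{u}} (L : X.Modules) {n : ℕ}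
    (hL : FlatMod.IsFinLocFreeOfRank n L) : FlatMod.IsFinLocFree L := fun x => by
  obtain ⟨U, hx, e⟩ := hL x
  exact ⟨U, n, hx, e⟩

section sys
variable {I : Type u} [SmallCategory I] [IsCofiltered I]
    (D : I ⥤ Scheme.{u}) (c : Limits.Cone D) (hc : Limits.IsLimit c)
    [∀ (i j : I) (f : i ⟶ j), IsAffineHom (D.map f)] (i₀ : I) [CompactSpace (D.obj i₀)]
    [QuasiSeparatedSpace (D.obj i₀)]
    {X₀ Y₀ : Scheme.{u}} (f₀ : X₀ ⟶ Y₀) (g₀ : Y₀ ⟶ D.obj i₀)
    [LocallyOfFinitePresentation g₀] [QuasiCompact g₀] [QuasiSeparated g₀]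
    [LocallyOfFinitePresentation (f₀ ≫ g₀)] [QuasiCompact (f₀ ≫ g₀)] [QuasiSeparated (f₀ ≫ g₀)]
    {X Y : Scheme.{u}} (f : X ⟶ Y) (g : Y ⟶ c.pt) (qY : Y ⟶ Y₀) (qX : X ⟶ X₀)
    (hY : IsPullback qY g g₀ (c.π.app i₀)) (hX : IsPullback qX f f₀ qY)

include hc hY hX in
/-- a relatively ample module on the limit comes from a relatively ample module at a stage. -/
theorem exists_stage_isRelAmple (L : X.Modules) (hL : RelAmple.IsRelAmple f L) :
    ∃ (j : I) (φ : j ⟶ i₀) (Xj Yj : Scheme.{u}) (fj : Xj ⟶ Yj) (gj : Yj ⟶ D.obj j) (pY : Yj ⟶ Y₀)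
      (pX : Xj ⟶ X₀), IsPullback pY gj g₀ (D.map φ) ∧ IsPullback pX fj f₀ pY ∧
        ∃ Lj : Xj.Modules, RelAmple.IsRelAmple fj Lj := by
  haveI hD : ∀ {i j : I} (φ : i ⟶ j), IsAffineHom (D.map φ) := fun φ => inferInstance
  haveI : CompactSpace X₀ := QuasiCompact.compactSpace_of_compactSpace (f₀ ≫ g₀)
  haveI : QuasiSeparatedSpace X₀ := quasiSeparatedSpace_of_quasiSeparated (f₀ ≫ g₀)
  have hP := hX.paste_vert hY
  -- the system for `X`
  have hLinv : PicF.IsInvertible L := isInvertible_of_isRelAmple f L hL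
  haveI hLq : L.IsQuasicoherent := isQuasicoherent_of_isInvertible L hLinv
  have hL1 : FlatMod.IsFinLocFreeOfRank 1 L := isFinLocFreeOfRank_one_of_isInvertible L hLinv
  have hLfp : SheafOfModules.IsFinitePresentation (R := X.ringCatSheaf) L :=
    Groth.Agent.Lib.Helper2.LocFree.isFP_of_isFinLocFree L (isFinLocFree_of_isFinLocFreeOfRank L hL1)
  obtain ⟨j, Lj, hLjq, hLjfp, ⟨e⟩⟩ := desc_of_compact_quasiSeparated (bcDiagram D i₀ (f₀ ≫ g₀))
    (bcCone i₀ hP) (isLimitBcCone i₀ hP hc) (Over.mk (𝟙 i₀)) L hLq hLfp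
  haveI := hLjq
  -- invertibility at a later stage
  have h1 : FlatMod.IsFinLocFreeOfRank 1
      ((Scheme.Modules.pullback ((bcCone i₀ hP).π.app j)).obj Lj) :=
    isFinLocFreeOfRank_of_iso e.symm hL1
  obtain ⟨j', φ, h2⟩ := (isFinLocFreeOfRank_pullback_stage_iff (bcDiagram D i₀ (f₀ ≫ g₀)) (bcCone i₀ hP)
    (isLimitBcCone i₀ hP hc) j Lj hLjfp 1).1 h1
  have hL'inv := isInvertible_of_isFinLocFreeOfRank_one _ h2
  -- apply the stage criterion for relative ampleness with base index `j'.left`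
  haveI : CompactSpace (D.obj j'.left) := compactSpace_of_hom D i₀ j'.hom
  have e' : (Scheme.Modules.pullback (bcπ i₀ hP j')).obj
      ((Scheme.Modules.pullback ((bcDiagram D i₀ (f₀ ≫ g₀)).map φ)).obj Lj) ≅ L :=
    (compIso (bcπ i₀ hP j') ((bcDiagram D i₀ (f₀ ≫ g₀)).map φ) (bcπ i₀ hP j) (bcπ_map i₀ hP φ)).app Lj ≪≫ e
  have hamp : RelAmple.IsRelAmple f ((Scheme.Modules.pullback (bcπ i₀ hP j')).obj
      ((Scheme.Modules.pullback ((bcDiagram D i₀ (f₀ ≫ g₀)).map φ)).obj Lj)) :=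
    isRelAmple_of_iso f e'.symm hL
  haveI : LocallyOfFinitePresentation (dSnd D i₀ g₀ j') :=
    MorphismProperty.of_isPullback (P := @LocallyOfFinitePresentation) (isPullback_d D i₀ g₀ j') inferInstance
  haveI : QuasiCompact (dSnd D i₀ g₀ j') :=
    MorphismProperty.of_isPullback (P := @QuasiCompact) (isPullback_d D i₀ g₀ j') inferInstance
  haveI : QuasiSeparated (dSnd D i₀ g₀ j') :=
    MorphismProperty.of_isPullback (P := @QuasiSeparated) (isPullback_d D i₀ g₀ j') inferInstance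
  haveI : LocallyOfFinitePresentation (bcMor D i₀ f₀ g₀ j' ≫ dSnd D i₀ g₀ j') := by
    rw [bcMor_snd]
    exact MorphismProperty.of_isPullback (P := @LocallyOfFinitePresentation)
      (isPullback_d D i₀ (f₀ ≫ g₀) j') inferInstance
  haveI : QuasiCompact (bcMor D i₀ f₀ g₀ j' ≫ dSnd D i₀ g₀ j') := by
    rw [bcMor_snd]
    exact MorphismProperty.of_isPullback (P := @QuasiCompact) (isPullback_d D i₀ (f₀ ≫ g₀) j') inferInstance
  haveI : QuasiSeparated (bcMor D i₀ f₀ g₀ j' ≫ dSnd D i₀ g₀ j') := by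
    rw [bcMor_snd]
    exact MorphismProperty.of_isPullback (P := @QuasiSeparated) (isPullback_d D i₀ (f₀ ≫ g₀) j') inferInstance
  obtain ⟨k, ψ, Xk, Yk, fk, gk, pY, pX, hYk, hXk, hk⟩ :=
    (Groth.Agent.S4846.result D c hc j'.left (bcMor D i₀ f₀ g₀ j') (dSnd D i₀ g₀ j') _ hL'inv f g
      (bcπ i₀ hY j') (bcπ i₀ hP j') (isPullback_bcπ i₀ hY j') (isPullback_bcπ_bcMor hY hX j')).1 hamp
  have hYk' : IsPullback (pY ≫ dFst D i₀ g₀ j') gk g₀ (D.map (ψ ≫ j'.hom)) := by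
    rw [D.map_comp]
    exact hYk.paste_horiz (isPullback_d D i₀ g₀ j')
  exact ⟨k, ψ ≫ j'.hom, Xk, Yk, fk, gk, pY ≫ dFst D i₀ g₀ j', pX ≫ dFst D i₀ (f₀ ≫ g₀) j', hYk',
    hXk.paste_horiz (isPullback_bcMor D i₀ f₀ g₀ j'), _, hk⟩

end sys

end Groth.Agent.Lib.Helper26.QProjLim
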