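import Mathlib

set_option autoImplicit false
universe u
open TensorProduct

namespace Groth.Agent.Lib.Helper21.BCAlg

variable {A B R R' : Type u} [CommRing A] [CommRing B] [CommRing R] [CommRing R']
  [Algebra A B] [Algebra R R'] (φ : A ≃+* R) (φ' : B ≃+* R')
  (hφ : ∀ a, φ' (algebraMap A B a) = algebraMap R R' (φ a))
  {M' M N N' : Type u} [AddCommGroup M'] [Module A M'] [AddCommGroup M] [Module R M]
  [AddCommGroup N] [Module R' N] [AddCommGroup N'] [Module B N']
  (j : M' ≃+ M) (hj : ∀ (a : A) (m : M'), j (a • m) = φ a • j m)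
  (k : N ≃+ N') (hk : ∀ (b : B) (n : N), k (φ' b • n) = b • k n)

/-- the comparison `B ⊗[A] M' → R' ⊗[R] M` -/
noncomputable def fwd : B ⊗[A] M' →+ R' ⊗[R] M :=
  TensorProduct.liftAddHom
    (AddMonoidHom.mk' (fun b : B => ((TensorProduct.mk R R' M (φ' b)).toAddMonoidHom).comp
      j.toAddMonoidHom) (fun b b' => by
        ext m
        simp))
    (fun a b m => by
      change φ' (a • b) ⊗ₜ[R] j m = φ' b ⊗ₜ[R] j (a • m)
      rw [hj, Algebra.smul_def, map_mul, hφ, ← Algebra.smul_def, TensorProduct.smul_tmul])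

lemma fwd_tmul (b : B) (m : M') : fwd φ φ' hφ j hj (b ⊗ₜ m) = φ' b ⊗ₜ j m := rfl

include hφ in
lemma hφ_symm (r : R) : φ'.symm (algebraMap R R' r) = algebraMap A B (φ.symm r) := by
  apply φ'.injective
  rw [RingEquiv.apply_symm_apply, hφ, RingEquiv.apply_symm_apply]

include hj in
lemma hj_symm (r : R) (m : M) : j.symm (r • m) = φ.symm r • j.symm m := by
  apply j.injective
  rw [AddEquiv.apply_symm_apply, hj, RingEquiv.apply_symm_apply, AddEquiv.apply_symm_apply]

/-- the inverse comparison `R' ⊗[R] M → B ⊗[A] M'` -/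
noncomputable def bwd : R' ⊗[R] M →+ B ⊗[A] M' :=
  TensorProduct.liftAddHom
    (AddMonoidHom.mk' (fun r' : R' => ((TensorProduct.mk A B M' (φ'.symm r')).toAddMonoidHom).comp
      j.symm.toAddMonoidHom) (fun b b' => by
        ext m
        simp))
    (fun r r' m => by
      change φ'.symm (r • r') ⊗ₜ[A] j.symm m = φ'.symm r' ⊗ₜ[A] j.symm (r • m)
      rw [hj_symm φ j hj, Algebra.smul_def, map_mul, hφ_symm φ φ' hφ, ← Algebra.smul_def,
        TensorProduct.smul_tmul])

lemma bwd_tmul (r' : R') (m : M) : bwd φ φ' hφ j hj (r' ⊗ₜ m) = φ'.symm r' ⊗ₜ j.symm m := rfl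

lemma bwd_fwd (t : B ⊗[A] M') : bwd φ φ' hφ j hj (fwd φ φ' hφ j hj t) = t := by
  induction t with
  | zero => rw [map_zero, map_zero]
  | add x y hx hy => rw [map_add, map_add, hx, hy]
  | tmul b m => rw [fwd_tmul, bwd_tmul, RingEquiv.symm_apply_apply, AddEquiv.symm_apply_apply]

lemma fwd_bwd (t : R' ⊗[R] M) : fwd φ φ' hφ j hj (bwd φ φ' hφ j hj t) = t := by
  induction t with
  | zero => rw [map_zero, map_zero]
  | add x y hx hy => rw [map_add, map_add, hx, hy]
  | tmul b m => rw [bwd_tmul, fwd_tmul, RingEquiv.apply_symm_apply, AddEquiv.apply_symm_apply]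

lemma fwd_smul (b : B) (t : B ⊗[A] M') :
    fwd φ φ' hφ j hj (b • t) = φ' b • fwd φ φ' hφ j hj t := by
  induction t with
  | zero => rw [smul_zero, map_zero, smul_zero]
  | add x y hx hy => rw [smul_add, map_add, hx, hy, map_add, smul_add]
  | tmul b' m =>
    rw [TensorProduct.smul_tmul', fwd_tmul, fwd_tmul, TensorProduct.smul_tmul', smul_eq_mul,
      smul_eq_mul, map_mul]

include hφ hj hk in
/-- transport of a base change isomorphism along ring isomorphisms -/
theorem nonempty_linearEquiv (e : R' ⊗[R] M ≃ₗ[R'] N) : Nonempty (B ⊗[A] M' ≃ₗ[B] N') := by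
  refine ⟨LinearEquiv.ofBijective
    { toFun := fun t => k (e (fwd φ φ' hφ j hj t))
      map_add' := fun x y => by rw [map_add, map_add, map_add]
      map_smul' := fun b t => by
        rw [RingHom.id_apply, fwd_smul, map_smul, hk] } ⟨?_, ?_⟩⟩
  · intro t t' htt
    have h1 := e.injective (k.injective htt)
    rw [← bwd_fwd φ φ' hφ j hj t, ← bwd_fwd φ φ' hφ j hj t', h1]
  · intro y
    refine ⟨bwd φ φ' hφ j hj (e.symm (k.symm y)), ?_⟩
    change k (e (fwd φ φ' hφ j hj (bwd φ φ' hφ j hj (e.symm (k.symm y))))) = y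
    rw [fwd_bwd, LinearEquiv.apply_symm_apply, AddEquiv.apply_symm_apply]

end Groth.Agent.Lib.Helper21.BCAlg
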