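import Mathlib

/-!
# An induction principle for quasi-compact opens of quasi-separated schemes (helper21)
-/

set_option autoImplicit false
set_option linter.style.haveILetI false
universe u
open CategoryTheory AlgebraicGeometry TopologicalSpace

namespace Groth.Agent.Lib.Helper21.BCInd

variable {X : Scheme.{u}}

/-- two affine opens contained in a common affine open have affine intersection -/
theorem isAffineOpen_inf_of_le {W₀ V₁ V₂ : X.Opens} (hW₀ : IsAffineOpen W₀)
    (h₁ : IsAffineOpen V₁) (h₂ : IsAffineOpen V₂) (l₁ : V₁ ≤ W₀) (l₂ : V₂ ≤ W₀) :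
    IsAffineOpen (V₁ ⊓ V₂) := by
  haveI : IsAffineHom (Limits.pullback.diagonal (𝟙 X)) := inferInstance
  exact (isAffineHom_diagonal_iff (f := 𝟙 X)).mp inferInstance W₀ hW₀ V₁ l₁ V₂ l₂ h₁ h₂

variable (P : X.Opens → Prop) (h_aff : ∀ U : X.Opens, IsAffineOpen U → P U)
  (h_sup : ∀ U V : X.Opens, P U → P V → P (U ⊓ V) → P (U ⊔ V))
include h_aff h_sup

theorem stage1 {W₀ : X.Opens} (hW₀ : IsAffineOpen W₀) (s : Set X.affineOpens) (hs : s.Finite) :
    (∀ i ∈ s, (i : X.Opens) ≤ W₀) → ∀ V : X.Opens, IsAffineOpen V → V ≤ W₀ →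
      P ((⨆ i ∈ s, (i : X.Opens)) ⊓ V) := by
  refine hs.induction_on _ ?_ ?_
  · intro _ V _ _
    have : (⨆ i ∈ (∅ : Set X.affineOpens), (i : X.Opens)) ⊓ V = ⊥ := by simp
    rw [this]
    exact h_aff ⊥ (isAffineOpen_bot X)
  · intro x s _ _ ih hle V hV hVle
    have hx : (x : X.Opens) ≤ W₀ := hle x (Set.mem_insert _ _)
    have hs' : ∀ i ∈ s, (i : X.Opens) ≤ W₀ := fun i hi => hle i (Set.mem_insert_of_mem _ hi)
    rw [iSup_insert, inf_sup_right]
    have hxV : IsAffineOpen ((x : X.Opens) ⊓ V) := isAffineOpen_inf_of_le hW₀ x.2 hV hx hVle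
    refine h_sup _ _ (h_aff _ hxV) (ih hs' V hV hVle) ?_
    have e : ((x : X.Opens) ⊓ V) ⊓ ((⨆ i ∈ s, (i : X.Opens)) ⊓ V) =
        (⨆ i ∈ s, (i : X.Opens)) ⊓ ((x : X.Opens) ⊓ V) := by
      rw [inf_comm ((x : X.Opens) ⊓ V), inf_assoc, inf_eq_right.mpr (inf_le_right : (x : X.Opens) ⊓ V ≤ V)]
    rw [e]
    exact ih hs' _ hxV (inf_le_right.trans hVle)

theorem of_le_affine {W₀ : X.Opens} (hW₀ : IsAffineOpen W₀) (S : X.Opens)
    (hS : IsCompact (S : Set X)) (hle : S ≤ W₀) : P S := by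
  obtain ⟨s, hs, rfl⟩ := isCompact_iff_finite_and_eq_biUnion_affineOpens.mp hS
  have h1 : ∀ i ∈ s, (i : X.Opens) ≤ W₀ := fun i hi => (le_iSup₂ (f := fun (i : X.affineOpens)
    (_ : i ∈ s) => (i : X.Opens)) i hi).trans hle
  have := stage1 P h_aff h_sup hW₀ s hs h1 W₀ hW₀ le_rfl
  rwa [inf_eq_left.mpr hle] at this

/-- **induction principle**: a property of opens which holds for affine opens and satisfies
Mayer–Vietoris holds for all quasi-compact opens of a quasi-separated scheme. -/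
theorem induction_qcqs [QuasiSeparatedSpace X] (S : X.Opens) (hS : IsCompact (S : Set X)) : P S := by
  refine compact_open_induction_on (P := P) S hS (h_aff ⊥ (isAffineOpen_bot X)) ?_
  intro T hT U hPT
  refine h_sup T U hPT (h_aff U U.2) ?_
  have hc : IsCompact ((T ⊓ (U : X.Opens) : X.Opens) : Set X) :=
    QuasiSeparatedSpace.inter_isCompact T.1 U.1.1 T.2 hT U.1.2 U.2.isCompact
  exact of_le_affine P h_aff h_sup U.2 _ hc inf_le_right

end Groth.Agent.Lib.Helper21.BCInd
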