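import Mathlib

/-!
# Base change maps on Ext groups, abstract part (helper21)

`C`, `D` abelian categories with Ext, `Φ : C ⥤ D` exact, `F : C`, `F' : D`, `c : Φ F ⟶ F'`,
`ρ : A →+* End F`, `ρ' : B →+* End F'` with `c` semilinear.  For `Z : C` we get a `B`-linear map
`T Z n : B ⊗[A] Ext^n(Z, F) → Ext^n(Φ Z, F')`.  `Good Z` says `T Z n` is bijective for all `n`; if `B`
is flat over `A`, `Good` satisfies two-out-of-three in short exact sequences.
-/

set_option autoImplicit false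
set_option linter.style.haveILetI false
set_option linter.unusedSectionVars false
universe w w' v v' u u' a b

open CategoryTheory Abelian TensorProduct Limits

namespace Groth.Agent.Lib.Helper21.BCExt

section ExtM
variable {C : Type u} [Category.{v} C] [Abelian C] [HasExt.{w} C]
variable {A : Type a} [CommRing A] {F : C}

/-- `Ext Z F n` as an `A`-module, `A` acting on `F` through `ρ`. -/
def ExtM (_ρ : A →+* End F) (Z : C) (n : ℕ) : Type w := Ext.{w} Z F n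

namespace ExtM
variable (ρ : A →+* End F) (Z : C) (n : ℕ)

noncomputable instance : AddCommGroup (ExtM ρ Z n) := inferInstanceAs (AddCommGroup (Ext.{w} Z F n))

/-- the underlying Ext class -/
def toExt {ρ : A →+* End F} {Z : C} {n : ℕ} (x : ExtM ρ Z n) : Ext.{w} Z F n := x

/-- an Ext class as an element of `ExtM` -/
def ofExt (ρ : A →+* End F) {Z : C} {n : ℕ} (x : Ext.{w} Z F n) : ExtM ρ Z n := x

@[simp] lemma toExt_ofExt (x : Ext.{w} Z F n) : (ofExt ρ x).toExt = x := rfl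
@[simp] lemma ofExt_toExt (x : ExtM ρ Z n) : ofExt ρ x.toExt = x := rfl
lemma toExt_add (x y : ExtM ρ Z n) : (x + y).toExt = x.toExt + y.toExt := rfl
lemma toExt_zero : (0 : ExtM ρ Z n).toExt = 0 := rfl
lemma ofExt_add (x y : Ext.{w} Z F n) : ofExt ρ (x + y) = ofExt ρ x + ofExt ρ y := rfl
lemma ofExt_zero : ofExt ρ (0 : Ext.{w} Z F n) = 0 := rfl

noncomputable instance : Module A (ExtM ρ Z n) where
  smul r x := ofExt ρ (x.toExt.comp (Ext.mk₀ (ρ r)) (add_zero n))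
  one_smul x := by
    change ofExt ρ (x.toExt.comp (Ext.mk₀ (ρ 1)) (add_zero n)) = x
    rw [map_one]
    exact Ext.comp_mk₀_id _
  mul_smul r s x := by
    change ofExt ρ (x.toExt.comp (Ext.mk₀ (ρ (r * s))) (add_zero n)) =
      ofExt ρ ((x.toExt.comp (Ext.mk₀ (ρ s)) (add_zero n)).comp (Ext.mk₀ (ρ r)) (add_zero n))
    rw [map_mul, End.mul_def, ← Ext.mk₀_comp_mk₀, Ext.comp_assoc_of_third_deg_zero]
  smul_zero r := by
    change ofExt ρ ((0 : Ext.{w} Z F n).comp (Ext.mk₀ (ρ r)) (add_zero n)) = 0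
    rw [Ext.zero_comp]
    rfl
  smul_add r x y := by
    change ofExt ρ ((x.toExt + y.toExt).comp (Ext.mk₀ (ρ r)) (add_zero n)) = _
    rw [Ext.add_comp]
    rfl
  add_smul r s x := by
    change ofExt ρ (x.toExt.comp (Ext.mk₀ (ρ (r + s))) (add_zero n)) = _
    rw [map_add]
    have : Ext.mk₀ (ρ r + ρ s : F ⟶ F) = Ext.mk₀ (ρ r) + Ext.mk₀ (ρ s) := Ext.mk₀_add _ _
    erw [this, Ext.comp_add]
    rfl
  zero_smul x := by
    change ofExt ρ (x.toExt.comp (Ext.mk₀ (ρ 0)) (add_zero n)) = 0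
    rw [map_zero]
    have : Ext.mk₀ (0 : F ⟶ F) = 0 := Ext.mk₀_zero _ _
    erw [this, Ext.comp_zero]
    rfl

lemma smul_def (r : A) (x : ExtM ρ Z n) :
    r • x = ofExt ρ (x.toExt.comp (Ext.mk₀ (ρ r)) (add_zero n)) := rfl

end ExtM

/-- precomposition with an Ext class, as an `A`-linear map -/
noncomputable def pre (ρ : A →+* End F) {Z Z' : C} {k : ℕ} (α : Ext.{w} Z' Z k) {n m : ℕ}
    (h : k + n = m) : ExtM ρ Z n →ₗ[A] ExtM ρ Z' m where
  toFun x := ExtM.ofExt ρ (α.comp x.toExt h)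
  map_add' x y := by
    rw [ExtM.toExt_add, Ext.comp_add]
    rfl
  map_smul' r x := by
    rw [ExtM.smul_def, ExtM.smul_def, RingHom.id_apply, ExtM.toExt_ofExt, ExtM.toExt_ofExt]
    congr 1
    exact (Ext.comp_assoc_of_third_deg_zero α x.toExt (Ext.mk₀ (ρ r)) h).symm

lemma pre_apply (ρ : A →+* End F) {Z Z' : C} {k : ℕ} (α : Ext.{w} Z' Z k) {n m : ℕ}
    (h : k + n = m) (x : ExtM ρ Z n) : pre ρ α h x = ExtM.ofExt ρ (α.comp x.toExt h) := rfl

lemma pre_hom_inv (ρ : A →+* End F) {Z Z' : C} (e : Z ≅ Z') (n : ℕ) (x : ExtM ρ Z n) :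
    pre ρ (Ext.mk₀ e.hom) (zero_add n) (pre ρ (Ext.mk₀ e.inv) (zero_add n) x) = x := by
  rw [pre_apply, pre_apply, ExtM.toExt_ofExt]
  change (Ext.mk₀ e.hom).comp ((Ext.mk₀ e.inv).comp x.toExt (zero_add n)) (zero_add n) = x.toExt
  rw [Ext.mk₀_comp_mk₀_assoc, e.hom_inv_id, Ext.mk₀_id_comp]

lemma pre_inv_hom (ρ : A →+* End F) {Z Z' : C} (e : Z ≅ Z') (n : ℕ) (x : ExtM ρ Z' n) :
    pre ρ (Ext.mk₀ e.inv) (zero_add n) (pre ρ (Ext.mk₀ e.hom) (zero_add n) x) = x := by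
  rw [pre_apply, pre_apply, ExtM.toExt_ofExt]
  change (Ext.mk₀ e.inv).comp ((Ext.mk₀ e.hom).comp x.toExt (zero_add n)) (zero_add n) = x.toExt
  rw [Ext.mk₀_comp_mk₀_assoc, e.inv_hom_id, Ext.mk₀_id_comp]

section exact
variable (ρ : A →+* End F) {S : ShortComplex C} (hS : S.ShortExact)
include hS

lemma exact₂ (n : ℕ) : Function.Exact (pre ρ (Ext.mk₀ S.g) (zero_add n))
    (pre ρ (Ext.mk₀ S.f) (zero_add n)) := by
  intro y
  constructor
  · intro hy
    obtain ⟨x, hx⟩ := Ext.contravariant_sequence_exact₂ hS F y.toExt hy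
    exact ⟨ExtM.ofExt ρ x, hx⟩
  · rintro ⟨x, rfl⟩
    rw [pre_apply, pre_apply, ExtM.toExt_ofExt]
    change (Ext.mk₀ S.f).comp ((Ext.mk₀ S.g).comp x.toExt (zero_add n)) (zero_add n) = 0
    rw [Ext.mk₀_comp_mk₀_assoc, S.zero, Ext.mk₀_zero, Ext.zero_comp]

lemma exact₁ (n : ℕ) : Function.Exact (pre ρ (Ext.mk₀ S.f) (zero_add n))
    (pre ρ hS.extClass (show 1 + n = n + 1 by omega)) := by
  intro y
  constructor
  · intro hy
    obtain ⟨x, hx⟩ := Ext.contravariant_sequence_exact₁ hS F y.toExt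
      (show 1 + n = n + 1 by omega) hy
    exact ⟨ExtM.ofExt ρ x, hx⟩
  · rintro ⟨x, rfl⟩
    rw [pre_apply, pre_apply, ExtM.toExt_ofExt]
    change hS.extClass.comp ((Ext.mk₀ S.f).comp x.toExt (zero_add n)) _ = 0
    rw [ShortComplex.ShortExact.extClass_comp_assoc]

lemma exact₃ (n : ℕ) : Function.Exact (pre ρ hS.extClass (show 1 + n = n + 1 by omega))
    (pre ρ (Ext.mk₀ S.g) (zero_add (n + 1))) := by
  intro y
  constructor
  · intro hy
    obtain ⟨x, hx⟩ := Ext.contravariant_sequence_exact₃ hS F y.toExt hy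
      (show 1 + n = n + 1 by omega)
    exact ⟨ExtM.ofExt ρ x, hx⟩
  · rintro ⟨x, rfl⟩
    rw [pre_apply, pre_apply, ExtM.toExt_ofExt]
    change (Ext.mk₀ S.g).comp (hS.extClass.comp x.toExt _) (zero_add (n + 1)) = 0
    rw [ShortComplex.ShortExact.comp_extClass_assoc]

lemma injective₀ : Function.Injective (pre ρ (Ext.mk₀ S.g) (zero_add 0)) := by
  have := hS.epi_g
  exact Ext.precomp_mk₀_injective_of_epi F S.g

end exact

end ExtM


section BC
variable {C : Type u} [Category.{v} C] [Abelian C] [HasExt.{w} C]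
variable {D : Type u'} [Category.{v'} D] [Abelian D] [HasExt.{w'} D]
variable (Φ : C ⥤ D) [Φ.Additive] [PreservesFiniteLimits Φ] [PreservesFiniteColimits Φ]
variable {A : Type a} [CommRing A] {B : Type b} [CommRing B] [Algebra A B]
variable {F : C} {F' : D} (ρ : A →+* End F) (ρ' : B →+* End F') (c : Φ.obj F ⟶ F')

/-- the base change map `Ext^n(Z, F) → Ext^n(Φ Z, F')` -/
noncomputable def θ (Z : C) (n : ℕ) : ExtM ρ Z n →+ ExtM ρ' (Φ.obj Z) n where
  toFun x := ExtM.ofExt ρ' ((x.toExt.mapExactFunctor Φ).comp (Ext.mk₀ c) (add_zero n))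
  map_zero' := by
    rw [ExtM.toExt_zero, Ext.mapExactFunctor_zero, Ext.zero_comp]
    rfl
  map_add' x y := by
    rw [ExtM.toExt_add, Ext.mapExactFunctor_add, Ext.add_comp]
    rfl

lemma θ_apply (Z : C) (n : ℕ) (x : ExtM ρ Z n) :
    θ Φ ρ ρ' c Z n x =
      ExtM.ofExt ρ' ((x.toExt.mapExactFunctor Φ).comp (Ext.mk₀ c) (add_zero n)) := rfl

/-- `θ` commutes with precomposition -/
lemma θ_pre {Z Z' : C} {k : ℕ} (α : Ext.{w} Z' Z k) {n m : ℕ} (h : k + n = m) (x : ExtM ρ Z n) :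
    θ Φ ρ ρ' c Z' m (pre ρ α h x) = pre ρ' (α.mapExactFunctor Φ) h (θ Φ ρ ρ' c Z n x) := by
  rw [θ_apply, θ_apply, pre_apply, pre_apply, ExtM.toExt_ofExt, ExtM.toExt_ofExt,
    Ext.mapExactFunctor_comp, Ext.comp_assoc_of_third_deg_zero]

variable (hc : ∀ r : A, Φ.map (ρ r) ≫ c = c ≫ ρ' (algebraMap A B r))
include hc

lemma θ_smul (Z : C) (n : ℕ) (r : A) (x : ExtM ρ Z n) :
    θ Φ ρ ρ' c Z n (r • x) = algebraMap A B r • θ Φ ρ ρ' c Z n x := by
  rw [θ_apply, θ_apply, ExtM.smul_def, ExtM.smul_def, ExtM.toExt_ofExt, ExtM.toExt_ofExt,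
    Ext.mapExactFunctor_comp, Ext.mapExactFunctor_mk₀, Ext.comp_assoc_of_third_deg_zero,
    Ext.comp_assoc_of_third_deg_zero, Ext.mk₀_comp_mk₀, Ext.mk₀_comp_mk₀, hc]

/-- the linearised base change map `B ⊗[A] Ext^n(Z, F) → Ext^n(Φ Z, F')` -/
noncomputable def T (Z : C) (n : ℕ) : B ⊗[A] ExtM ρ Z n →ₗ[B] ExtM ρ' (Φ.obj Z) n :=
  letI : Module A (ExtM ρ' (Φ.obj Z) n) := Module.compHom _ (algebraMap A B)
  haveI : IsScalarTower A B (ExtM ρ' (Φ.obj Z) n) :=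
    IsScalarTower.of_algebraMap_smul fun _ _ => rfl
  LinearMap.liftBaseChange B
    { toFun := θ Φ ρ ρ' c Z n
      map_add' := map_add _
      map_smul' := fun r x => θ_smul Φ ρ ρ' c hc Z n r x }

lemma T_tmul (Z : C) (n : ℕ) (s : B) (x : ExtM ρ Z n) :
    T Φ ρ ρ' c hc Z n (s ⊗ₜ x) = s • θ Φ ρ ρ' c Z n x := by
  letI : Module A (ExtM ρ' (Φ.obj Z) n) := Module.compHom _ (algebraMap A B)
  haveI : IsScalarTower A B (ExtM ρ' (Φ.obj Z) n) :=
    IsScalarTower.of_algebraMap_smul fun _ _ => rfl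
  exact LinearMap.liftBaseChange_tmul _ _ _ _

/-- `T` commutes with precomposition -/
lemma T_pre {Z Z' : C} {k : ℕ} (α : Ext.{w} Z' Z k) {n m : ℕ} (h : k + n = m)
    (t : B ⊗[A] ExtM ρ Z n) :
    T Φ ρ ρ' c hc Z' m ((pre ρ α h).lTensor B t) =
      pre ρ' (α.mapExactFunctor Φ) h (T Φ ρ ρ' c hc Z n t) := by
  induction t with
  | zero => simp
  | add x y hx hy => rw [map_add, map_add, hx, hy, map_add, map_add]
  | tmul s x =>
    rw [LinearMap.lTensor_tmul, T_tmul, T_tmul, θ_pre, map_smul]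

/-- `Z` is good if the base change maps `B ⊗[A] Ext^n(Z, F) → Ext^n(Φ Z, F')` are all bijective. -/
def Good (Z : C) : Prop := ∀ n : ℕ, Function.Bijective (T Φ ρ ρ' c hc Z n)


section two_of_three
variable [Module.Flat A B] {S : ShortComplex C} (hS : S.ShortExact)
include hS

/-- the square relating `T` for `S.X₂`, `S.X₁` via `S.f` -/
lemma sq_f (n : ℕ) (t : B ⊗[A] ExtM ρ S.X₂ n) :
    T Φ ρ ρ' c hc S.X₁ n ((pre ρ (Ext.mk₀ S.f) (zero_add n)).lTensor B t) =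
      pre ρ' (Ext.mk₀ (S.map Φ).f) (zero_add n) (T Φ ρ ρ' c hc S.X₂ n t) := by
  rw [T_pre, Ext.mapExactFunctor_mk₀]
  rfl

lemma sq_g (n : ℕ) (t : B ⊗[A] ExtM ρ S.X₃ n) :
    T Φ ρ ρ' c hc S.X₂ n ((pre ρ (Ext.mk₀ S.g) (zero_add n)).lTensor B t) =
      pre ρ' (Ext.mk₀ (S.map Φ).g) (zero_add n) (T Φ ρ ρ' c hc S.X₃ n t) := by
  rw [T_pre, Ext.mapExactFunctor_mk₀]
  rfl

lemma sq_δ (n : ℕ) (t : B ⊗[A] ExtM ρ S.X₁ n) :
    T Φ ρ ρ' c hc S.X₃ (n + 1)
        ((pre ρ hS.extClass (show 1 + n = n + 1 by omega)).lTensor B t) =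
      pre ρ' (hS.map_of_exact Φ).extClass (show 1 + n = n + 1 by omega)
        (T Φ ρ ρ' c hc S.X₁ n t) := by
  rw [T_pre, Ext.mapExactFunctor_extClass]
  rfl

/-- two-out-of-three: first and second terms good implies third term good -/
theorem good₃ (h1 : Good Φ ρ ρ' c hc S.X₁) (h2 : Good Φ ρ ρ' c hc S.X₂) :
    Good Φ ρ ρ' c hc S.X₃ := by
  have hS' := hS.map_of_exact Φ
  intro n
  cases n with
  | zero =>
    refine AddMonoidHom.bijective_of_bijective_of_injective_of_left_exact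
      ((pre ρ (Ext.mk₀ S.g) (zero_add 0)).lTensor B).toAddMonoidHom
      ((pre ρ (Ext.mk₀ S.f) (zero_add 0)).lTensor B).toAddMonoidHom
      (pre ρ' (Ext.mk₀ (S.map Φ).g) (zero_add 0)).toAddMonoidHom
      (pre ρ' (Ext.mk₀ (S.map Φ).f) (zero_add 0)).toAddMonoidHom
      (T Φ ρ ρ' c hc S.X₃ 0).toAddMonoidHom (T Φ ρ ρ' c hc S.X₂ 0).toAddMonoidHom
      (T Φ ρ ρ' c hc S.X₁ 0).toAddMonoidHom ?_ ?_ ?_ ?_ (h2 0) (h1 0).1 ?_ ?_
    · ext t
      exact (sq_g Φ ρ ρ' c hc hS 0 t).symm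
    · ext t
      exact (sq_f Φ ρ ρ' c hc hS 0 t).symm
    · exact Module.Flat.lTensor_exact B (exact₂ ρ hS 0)
    · exact exact₂ ρ' hS' 0
    · exact Module.Flat.lTensor_preserves_injective_linearMap _ (injective₀ ρ hS)
    · exact injective₀ ρ' hS'
  | succ n =>
    refine AddMonoidHom.bijective_of_surjective_of_bijective_of_bijective_of_injective
      ((pre ρ (Ext.mk₀ S.f) (zero_add n)).lTensor B).toAddMonoidHom
      ((pre ρ hS.extClass (show 1 + n = n + 1 by omega)).lTensor B).toAddMonoidHom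
      ((pre ρ (Ext.mk₀ S.g) (zero_add (n + 1))).lTensor B).toAddMonoidHom
      ((pre ρ (Ext.mk₀ S.f) (zero_add (n + 1))).lTensor B).toAddMonoidHom
      (pre ρ' (Ext.mk₀ (S.map Φ).f) (zero_add n)).toAddMonoidHom
      (pre ρ' hS'.extClass (show 1 + n = n + 1 by omega)).toAddMonoidHom
      (pre ρ' (Ext.mk₀ (S.map Φ).g) (zero_add (n + 1))).toAddMonoidHom
      (pre ρ' (Ext.mk₀ (S.map Φ).f) (zero_add (n + 1))).toAddMonoidHom
      (T Φ ρ ρ' c hc S.X₂ n).toAddMonoidHom (T Φ ρ ρ' c hc S.X₁ n).toAddMonoidHom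
      (T Φ ρ ρ' c hc S.X₃ (n + 1)).toAddMonoidHom (T Φ ρ ρ' c hc S.X₂ (n + 1)).toAddMonoidHom
      (T Φ ρ ρ' c hc S.X₁ (n + 1)).toAddMonoidHom ?_ ?_ ?_ ?_ ?_ ?_ ?_ ?_ ?_ ?_
      (h2 n).2 (h1 n) (h2 (n + 1)) (h1 (n + 1)).1
    · ext t
      exact (sq_f Φ ρ ρ' c hc hS n t).symm
    · ext t
      exact (sq_δ Φ ρ ρ' c hc hS n t).symm
    · ext t
      exact (sq_g Φ ρ ρ' c hc hS (n + 1) t).symm
    · ext t
      exact (sq_f Φ ρ ρ' c hc hS (n + 1) t).symm
    · exact Module.Flat.lTensor_exact B (exact₁ ρ hS n)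
    · exact Module.Flat.lTensor_exact B (exact₃ ρ hS n)
    · exact Module.Flat.lTensor_exact B (exact₂ ρ hS (n + 1))
    · exact exact₁ ρ' hS' n
    · exact exact₃ ρ' hS' n
    · exact exact₂ ρ' hS' (n + 1)


/-- two-out-of-three: first and third terms good implies second term good -/
theorem good₂ (h1 : Good Φ ρ ρ' c hc S.X₁) (h3 : Good Φ ρ ρ' c hc S.X₃) :
    Good Φ ρ ρ' c hc S.X₂ := by
  have hS' := hS.map_of_exact Φ
  intro n
  constructor
  · cases n with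
    | zero =>
      rw [injective_iff_map_eq_zero]
      intro t ht
      have h1t : (pre ρ (Ext.mk₀ S.f) (zero_add 0)).lTensor B t = 0 := by
        apply (h1 0).1
        have e1 := sq_f Φ ρ ρ' c hc hS 0 t
        have e2 : pre ρ' (Ext.mk₀ (S.map Φ).f) (zero_add 0) (T Φ ρ ρ' c hc S.X₂ 0 t) = 0 :=
          (congrArg _ ht).trans (map_zero _)
        exact e1.trans (e2.trans (map_zero _).symm)
      obtain ⟨s, rfl⟩ := (Module.Flat.lTensor_exact B (exact₂ ρ hS 0) t).1 h1t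
      have h2 : T Φ ρ ρ' c hc S.X₃ 0 s = 0 := by
        apply injective₀ ρ' hS'
        have e1 := sq_g Φ ρ ρ' c hc hS 0 s
        exact e1.symm.trans (ht.trans (map_zero _).symm)
      have h3s : s = 0 := (h3 0).1 (by rw [h2, map_zero])
      rw [h3s, map_zero]
    | succ n =>
      refine AddMonoidHom.injective_of_surjective_of_injective_of_injective
        ((pre ρ hS.extClass (show 1 + n = n + 1 by omega)).lTensor B).toAddMonoidHom
        ((pre ρ (Ext.mk₀ S.g) (zero_add (n + 1))).lTensor B).toAddMonoidHom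
        ((pre ρ (Ext.mk₀ S.f) (zero_add (n + 1))).lTensor B).toAddMonoidHom
        (pre ρ' hS'.extClass (show 1 + n = n + 1 by omega)).toAddMonoidHom
        (pre ρ' (Ext.mk₀ (S.map Φ).g) (zero_add (n + 1))).toAddMonoidHom
        (pre ρ' (Ext.mk₀ (S.map Φ).f) (zero_add (n + 1))).toAddMonoidHom
        (T Φ ρ ρ' c hc S.X₁ n).toAddMonoidHom (T Φ ρ ρ' c hc S.X₃ (n + 1)).toAddMonoidHom
        (T Φ ρ ρ' c hc S.X₂ (n + 1)).toAddMonoidHom (T Φ ρ ρ' c hc S.X₁ (n + 1)).toAddMonoidHom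
        ?_ ?_ ?_ ?_ ?_ ?_ (h1 n).2 (h3 (n + 1)).1 (h1 (n + 1)).1
      · ext t
        exact (sq_δ Φ ρ ρ' c hc hS n t).symm
      · ext t
        exact (sq_g Φ ρ ρ' c hc hS (n + 1) t).symm
      · ext t
        exact (sq_f Φ ρ ρ' c hc hS (n + 1) t).symm
      · exact Module.Flat.lTensor_exact B (exact₃ ρ hS n)
      · exact Module.Flat.lTensor_exact B (exact₂ ρ hS (n + 1))
      · exact exact₃ ρ' hS' n
  · refine AddMonoidHom.surjective_of_surjective_of_surjective_of_injective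
      ((pre ρ (Ext.mk₀ S.g) (zero_add n)).lTensor B).toAddMonoidHom
      ((pre ρ (Ext.mk₀ S.f) (zero_add n)).lTensor B).toAddMonoidHom
      ((pre ρ hS.extClass (show 1 + n = n + 1 by omega)).lTensor B).toAddMonoidHom
      (pre ρ' (Ext.mk₀ (S.map Φ).g) (zero_add n)).toAddMonoidHom
      (pre ρ' (Ext.mk₀ (S.map Φ).f) (zero_add n)).toAddMonoidHom
      (pre ρ' hS'.extClass (show 1 + n = n + 1 by omega)).toAddMonoidHom
      (T Φ ρ ρ' c hc S.X₃ n).toAddMonoidHom (T Φ ρ ρ' c hc S.X₂ n).toAddMonoidHom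
      (T Φ ρ ρ' c hc S.X₁ n).toAddMonoidHom (T Φ ρ ρ' c hc S.X₃ (n + 1)).toAddMonoidHom
      ?_ ?_ ?_ ?_ ?_ ?_ (h3 n).2 (h1 n).2 (h3 (n + 1)).1
    · ext t
      exact (sq_g Φ ρ ρ' c hc hS n t).symm
    · ext t
      exact (sq_f Φ ρ ρ' c hc hS n t).symm
    · ext t
      exact (sq_δ Φ ρ ρ' c hc hS n t).symm
    · exact Module.Flat.lTensor_exact B (exact₁ ρ hS n)
    · exact exact₂ ρ' hS' n
    · exact exact₁ ρ' hS' n

end two_of_three

section iso

/-- goodness is invariant under isomorphism -/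
theorem good_of_iso {Z Z' : C} (e : Z ≅ Z') (h : Good Φ ρ ρ' c hc Z) :
    Good Φ ρ ρ' c hc Z' := by
  intro n
  have key : ∀ t : B ⊗[A] ExtM ρ Z' n,
      T Φ ρ ρ' c hc Z n ((pre ρ (Ext.mk₀ e.hom) (zero_add n)).lTensor B t) =
        pre ρ' (Ext.mk₀ (Φ.mapIso e).hom) (zero_add n) (T Φ ρ ρ' c hc Z' n t) := by
    intro t
    rw [T_pre, Ext.mapExactFunctor_mk₀]
    rfl
  have hl1 : ∀ t : B ⊗[A] ExtM ρ Z' n, (pre ρ (Ext.mk₀ e.inv) (zero_add n)).lTensor B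
      ((pre ρ (Ext.mk₀ e.hom) (zero_add n)).lTensor B t) = t := by
    intro t
    rw [← LinearMap.lTensor_comp_apply]
    have : (pre ρ (Ext.mk₀ e.inv) (zero_add n)) ∘ₗ (pre ρ (Ext.mk₀ e.hom) (zero_add n)) =
        LinearMap.id := by
      ext x
      exact pre_inv_hom ρ e n x
    rw [this, LinearMap.lTensor_id, LinearMap.id_apply]
  have hl2 : ∀ t : B ⊗[A] ExtM ρ Z n, (pre ρ (Ext.mk₀ e.hom) (zero_add n)).lTensor B
      ((pre ρ (Ext.mk₀ e.inv) (zero_add n)).lTensor B t) = t := by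
    intro t
    rw [← LinearMap.lTensor_comp_apply]
    have : (pre ρ (Ext.mk₀ e.hom) (zero_add n)) ∘ₗ (pre ρ (Ext.mk₀ e.inv) (zero_add n)) =
        LinearMap.id := by
      ext x
      exact pre_hom_inv ρ e n x
    rw [this, LinearMap.lTensor_id, LinearMap.id_apply]
  constructor
  · intro t t' htt
    have h1 := congrArg (pre ρ' (Ext.mk₀ (Φ.mapIso e).hom) (zero_add n)) htt
    rw [← key, ← key] at h1
    have h2 := (h n).1 h1
    rw [← hl1 t, ← hl1 t', h2]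
  · intro y
    obtain ⟨s, hs⟩ := (h n).2 (pre ρ' (Ext.mk₀ (Φ.mapIso e).hom) (zero_add n) y)
    refine ⟨(pre ρ (Ext.mk₀ e.inv) (zero_add n)).lTensor B s, ?_⟩
    have h1 := key ((pre ρ (Ext.mk₀ e.inv) (zero_add n)).lTensor B s)
    rw [hl2, hs] at h1
    have h2 := congrArg (pre ρ' (Ext.mk₀ (Φ.mapIso e).inv) (zero_add n)) h1
    have h3 := pre_inv_hom ρ' (Φ.mapIso e) n (T Φ ρ ρ' c hc Z' n
      ((pre ρ (Ext.mk₀ e.inv) (zero_add n)).lTensor B s))
    have h4 := pre_inv_hom ρ' (Φ.mapIso e) n y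
    exact h3.symm.trans (h2.symm.trans h4)

end iso

/-- a binary biproduct of good objects is good -/
theorem good_biprod [Module.Flat A B] {Z₁ Z₂ : C} (h1 : Good Φ ρ ρ' c hc Z₁)
    (h2 : Good Φ ρ ρ' c hc Z₂) : Good Φ ρ ρ' c hc (Z₁ ⊞ Z₂) :=
  good₂ Φ ρ ρ' c hc (S := ShortComplex.mk (biprod.inl : Z₁ ⟶ Z₁ ⊞ Z₂) biprod.snd (by simp))
    (ShortComplex.Splitting.ofHasBinaryBiproduct Z₁ Z₂).shortExact h1 h2

end BC

end Groth.Agent.Lib.Helper21.BCExt
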