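import Mathlib
import Groth.Agent.Lib.Helper21BCExt
import Groth.Agent.Lib.Helper23AffVanish7
import Groth.Prelude.Def_CohTop

set_option autoImplicit false
set_option linter.style.haveILetI false
set_option linter.unusedSectionVars false
universe u
open CategoryTheory CategoryTheory.Limits Opposite TopologicalSpace Abelian

namespace Groth.Agent.Lib.Helper21.BCTop
open Groth.Agent.Lib.Helper23.AffVanish

variable {X' X : TopCat.{u}} (f : X' ⟶ X)

noncomputable def adj : CohTop.pull f ⊣ CohTop.push f :=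
  TopCat.Sheaf.pullbackPushforwardAdjunction AddCommGrpCat.{u} f

instance pull_additive : (CohTop.pull f).Additive := (adj f).left_adjoint_additive

instance pull_preservesFiniteLimits : PreservesFiniteLimits (CohTop.pull f) := by
  unfold CohTop.pull TopCat.Sheaf.pullback
  apply Functor.sheafPullbackConstruction.preservesFiniteLimits

instance pull_preservesFiniteColimits : PreservesFiniteColimits (CohTop.pull f) :=
  haveI : PreservesColimitsOfSize.{0, 0} (CohTop.pull f) :=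
    (adj f).leftAdjoint_preservesColimits
  PreservesColimitsOfSize.preservesFiniteColimits.{0, 0} _

example : HasExt.{u} (CohTop.Ab X) := inferInstance

end Groth.Agent.Lib.Helper21.BCTop

namespace Groth.Agent.Lib.Helper21.BCTop
open Groth.Agent.Lib.Helper23.AffVanish

variable {X' X : TopCat.{u}} (f : X' ⟶ X)

/-- sections over `V`, as a functor to types -/
noncomputable abbrev secF {Y : TopCat.{u}} (V : Opens Y) : CohTop.Ab Y ⥤ Type u :=
  sheafToPresheaf _ _ ⋙ (evaluation _ _).obj (op V) ⋙ forget AddCommGrpCat.{u}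

/-- `ℤ_V` corepresents sections over `V` -/
noncomputable def corep1 {Y : TopCat.{u}} (V : Opens Y) : (secF V).CorepresentableBy (ZU V) where
  homEquiv {N} := (CohFree.homEquivSect (J Y) V N).toEquiv
  homEquiv_comp _ _ := rfl

/-- `f⁻¹ ℤ_U` corepresents sections over `f⁻¹ U` -/
noncomputable def corep2 (U : Opens X) :
    (secF ((Opens.map f).obj U)).CorepresentableBy ((CohTop.pull f).obj (ZU U)) where
  homEquiv {N} := ((adj f).homEquiv (ZU U) N).trans
    (CohFree.homEquivSect (J X) U ((CohTop.push f).obj N)).toEquiv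
  homEquiv_comp g φ := by
    change CohFree.evalGen (J X) U _ ((adj f).homEquiv (ZU U) _ (φ ≫ g)) = _
    rw [Adjunction.homEquiv_naturality_right]
    rfl

/-- two corepresenting objects are isomorphic (explicit formulas) -/
def corepIso {C : Type*} [Category C] {F : C ⥤ Type u} {Z Z' : C} (e : F.CorepresentableBy Z)
    (e' : F.CorepresentableBy Z') : Z ≅ Z' where
  hom := e.homEquiv.symm (e'.homEquiv (𝟙 Z'))
  inv := e'.homEquiv.symm (e.homEquiv (𝟙 Z))
  hom_inv_id := by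
    apply e.homEquiv.injective
    rw [e.homEquiv_comp, Equiv.apply_symm_apply, ← e'.homEquiv_comp, Category.id_comp,
      Equiv.apply_symm_apply]
  inv_hom_id := by
    apply e'.homEquiv.injective
    rw [e'.homEquiv_comp, Equiv.apply_symm_apply, ← e.homEquiv_comp, Category.id_comp,
      Equiv.apply_symm_apply]

lemma homEquiv_corepIso_hom_comp {C : Type*} [Category C] {F : C ⥤ Type u} {Z Z' : C}
    (e : F.CorepresentableBy Z) (e' : F.CorepresentableBy Z') {Y : C} (ψ : Z' ⟶ Y) :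
    e.homEquiv ((corepIso e e').hom ≫ ψ) = e'.homEquiv ψ := by
  rw [e.homEquiv_comp]
  change F.map ψ (e.homEquiv (e.homEquiv.symm (e'.homEquiv (𝟙 Z')))) = _
  rw [Equiv.apply_symm_apply, ← e'.homEquiv_comp, Category.id_comp]

/-- `ℤ_{f⁻¹ U} ≅ f⁻¹ ℤ_U` -/
noncomputable def pullZU (U : Opens X) : ZU ((Opens.map f).obj U) ≅ (CohTop.pull f).obj (ZU U) :=
  corepIso (corep1 ((Opens.map f).obj U)) (corep2 f U)

lemma evalGen_pullZU_hom_comp (U : Opens X) {N : CohTop.Ab X'}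
    (ψ : (CohTop.pull f).obj (ZU U) ⟶ N) :
    CohFree.evalGen (J X') ((Opens.map f).obj U) N ((pullZU f U).hom ≫ ψ) =
      CohFree.evalGen (J X) U ((CohTop.push f).obj N) ((adj f).homEquiv (ZU U) N ψ) :=
  homEquiv_corepIso_hom_comp (corep1 ((Opens.map f).obj U)) (corep2 f U) ψ

end Groth.Agent.Lib.Helper21.BCTop

namespace Groth.Agent.Lib.Helper21.BCTop
open Groth.Agent.Lib.Helper23.AffVanish Groth.Agent.Lib.Helper21.BCExt TensorProduct

section MV
universe w' v' u' a b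
variable {X : TopCat.{u}}
variable {D : Type u'} [Category.{v'} D] [Abelian D] [HasExt.{w'} D]
variable (Φ : CohTop.Ab X ⥤ D) [Φ.Additive] [PreservesFiniteLimits Φ] [PreservesFiniteColimits Φ]
variable {A : Type a} [CommRing A] {B : Type b} [CommRing B] [Algebra A B] [Module.Flat A B]
variable {F : CohTop.Ab X} {F' : D} (ρ : A →+* End F) (ρ' : B →+* End F') (c : Φ.obj F ⟶ F')
variable (hc : ∀ r : A, Φ.map (ρ r) ≫ c = c ≫ ρ' (algebraMap A B r))

/-- Mayer–Vietoris for goodness -/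
theorem good_sup (U V : Opens X) (hU : Good Φ ρ ρ' c hc (ZU U)) (hV : Good Φ ρ ρ' c hc (ZU V))
    (hUV : Good Φ ρ ρ' c hc (ZU (U ⊓ V))) : Good Φ ρ ρ' c hc (ZU (U ⊔ V)) := by
  have hS := (Opens.mayerVietorisSquare U V).shortComplex_shortExact
  have e1 : (Opens.mayerVietorisSquare U V).shortComplex.X₁ = ZU (U ⊓ V) := rfl
  have e2 : (Opens.mayerVietorisSquare U V).shortComplex.X₂ = (ZU U ⊞ ZU V) := rfl
  have e3 : (Opens.mayerVietorisSquare U V).shortComplex.X₃ = ZU (U ⊔ V) := rfl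
  have h1 : Good Φ ρ ρ' c hc (Opens.mayerVietorisSquare U V).shortComplex.X₁ := by
    rw [e1]; exact hUV
  have h2 : Good Φ ρ ρ' c hc (Opens.mayerVietorisSquare U V).shortComplex.X₂ := by
    rw [e2]; exact good_biprod Φ ρ ρ' c hc hU hV
  have h3 := good₃ Φ ρ ρ' c hc hS h1 h2
  rw [e3] at h3
  exact h3

end MV

end Groth.Agent.Lib.Helper21.BCTop

namespace Groth.Agent.Lib.Helper21.BCTop
open Groth.Agent.Lib.Helper23.AffVanish Groth.Agent.Lib.Helper21.BCExt TensorProduct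
open Groth.Agent.Lib.Helper16.ClosedEmb

section deg0
universe a b
variable {X' X : TopCat.{u}} (f : X' ⟶ X)
variable {A : Type a} [CommRing A] {B : Type b} [CommRing B] [Algebra A B]
variable {G : CohTop.Ab X} {G' : CohTop.Ab X'} (ρ : A →+* End G) (ρ' : B →+* End G')
  (c : (CohTop.pull f).obj G ⟶ G')

/-- degree-zero classes out of `ℤ_U` are sections over `U` -/
noncomputable def α (U : Opens X) : ExtM ρ (ZU U) 0 ≃+ G.obj.obj (op U) := h0Equiv G U

omit [Algebra A B] in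
lemma α_mk₀ (U : Opens X) (φ : ZU U ⟶ G) :
    α ρ U (ExtM.ofExt ρ (Ext.mk₀ φ)) = CohFree.evalGen (J X) U G φ := by
  change CohFree.evalGen (J X) U G (Ext.addEquiv₀ (Ext.mk₀ φ)) = _
  rw [addEquiv₀_mk₀]

omit [Algebra A B] in
lemma α_smul (U : Opens X) (r : A) (x : ExtM ρ (ZU U) 0) :
    α ρ U (r • x) = ((ρ r : G ⟶ G).hom.app (op U)).hom (α ρ U x) := by
  obtain ⟨φ, hφ⟩ := (Ext.mk₀_bijective _ _).2 x.toExt
  have hx : x = ExtM.ofExt ρ (Ext.mk₀ φ) := hφ.symm
  rw [hx, ExtM.smul_def, ExtM.toExt_ofExt, Ext.mk₀_comp_mk₀, α_mk₀, α_mk₀]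
  rfl

/-- degree-zero classes out of `f⁻¹ ℤ_U` are sections over `f⁻¹ U` -/
noncomputable def β (U : Opens X) :
    ExtM ρ' ((CohTop.pull f).obj (ZU U)) 0 ≃+ G'.obj.obj (op ((Opens.map f).obj U)) :=
  (Ext.addEquiv₀ (X := (CohTop.pull f).obj (ZU U)) (Y := G')).trans
    (((adj f).homAddEquiv (ZU U) G').trans (CohFree.homEquivSect (J X) U ((CohTop.push f).obj G')))

omit [Algebra A B] in
lemma β_mk₀ (U : Opens X) (ψ : (CohTop.pull f).obj (ZU U) ⟶ G') :
    β f ρ' U (ExtM.ofExt ρ' (Ext.mk₀ ψ)) =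
      CohFree.evalGen (J X) U ((CohTop.push f).obj G') ((adj f).homEquiv _ _ ψ) := by
  change CohFree.evalGen (J X) U _ ((adj f).homEquiv _ _ (Ext.addEquiv₀ (Ext.mk₀ ψ))) = _
  rw [addEquiv₀_mk₀]

omit [Algebra A B] in
lemma β_smul (U : Opens X) (s : B) (y : ExtM ρ' ((CohTop.pull f).obj (ZU U)) 0) :
    β f ρ' U (s • y) = ((ρ' s : G' ⟶ G').hom.app (op ((Opens.map f).obj U))).hom (β f ρ' U y) := by
  obtain ⟨ψ, hψ⟩ := (Ext.mk₀_bijective _ _).2 y.toExt
  have hy : y = ExtM.ofExt ρ' (Ext.mk₀ ψ) := hψ.symm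
  rw [hy, ExtM.smul_def, ExtM.toExt_ofExt, Ext.mk₀_comp_mk₀, β_mk₀, β_mk₀,
    Adjunction.homEquiv_naturality_right]
  rfl

/-- in degree zero the base change map is the map on sections induced by the adjunct of `c` -/
lemma β_θ (U : Opens X) (x : ExtM ρ (ZU U) 0) :
    β f ρ' U (θ (CohTop.pull f) ρ ρ' c (ZU U) 0 x) =
      (((adj f).homEquiv G G' c).hom.app (op U)).hom (α ρ U x) := by
  obtain ⟨φ, hφ⟩ := (Ext.mk₀_bijective _ _).2 x.toExt
  have hx : x = ExtM.ofExt ρ (Ext.mk₀ φ) := hφ.symm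
  rw [hx, θ_apply, ExtM.toExt_ofExt, Ext.mapExactFunctor_mk₀, Ext.mk₀_comp_mk₀, β_mk₀, α_mk₀,
    Adjunction.homEquiv_naturality_left]
  rfl

end deg0

end Groth.Agent.Lib.Helper21.BCTop

namespace Groth.Agent.Lib.Helper21.BCTop
open Groth.Agent.Lib.Helper23.AffVanish Groth.Agent.Lib.Helper21.BCExt TensorProduct
open Groth.Agent.Lib.Helper16.ClosedEmb

section crit
universe a b
variable {X' X : TopCat.{u}} (f : X' ⟶ X)
variable {A : Type a} [CommRing A] {B : Type b} [CommRing B] [Algebra A B]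
variable {G : CohTop.Ab X} {G' : CohTop.Ab X'} (ρ : A →+* End G) (ρ' : B →+* End G')
  (c : (CohTop.pull f).obj G ⟶ G')
  (hc : ∀ r : A, (CohTop.pull f).map (ρ r) ≫ c = c ≫ ρ' (algebraMap A B r))

omit [Algebra A B] in
lemma subsingleton_tensor {M : Type*} [AddCommGroup M] [Module A M] [Subsingleton M]
    (N : Type*) [AddCommGroup N] [Module A N] : Subsingleton (N ⊗[A] M) := by
  refine ⟨fun x y => ?_⟩
  have h0 : ∀ t : N ⊗[A] M, t = 0 := by
    intro t
    induction t with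
    | zero => rfl
    | tmul n m => rw [Subsingleton.elim m 0, TensorProduct.tmul_zero]
    | add x y hx hy => rw [hx, hy, add_zero]
  rw [h0 x, h0 y]

omit [Algebra A B] in
lemma subsingleton_pull_ZU (U : Opens X) (n : ℕ)
    (h : Subsingleton (Ext.{u} (ZU ((Opens.map f).obj U)) G' n)) :
    Subsingleton (ExtM ρ' ((CohTop.pull f).obj (ZU U)) n) := by
  refine ⟨fun x y => ?_⟩
  have hx := pre_inv_hom ρ' (pullZU f U) n x
  have hy := pre_inv_hom ρ' (pullZU f U) n y
  rw [← hx, ← hy]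
  congr 1
  exact h.elim _ _

/-- criterion for `ℤ_U` to be good: vanishing of higher cohomology on both sides and bijectivity in
degree zero -/
theorem good_ZU (U : Opens X) (h1 : ∀ n, Subsingleton (Ext.{u} (ZU U) G (n + 1)))
    (h2 : ∀ n, Subsingleton (Ext.{u} (ZU ((Opens.map f).obj U)) G' (n + 1)))
    (h0 : Function.Bijective (T (CohTop.pull f) ρ ρ' c hc (ZU U) 0)) :
    Good (CohTop.pull f) ρ ρ' c hc (ZU U) := by
  intro n
  cases n with
  | zero => exact h0
  | succ n =>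
    haveI : Subsingleton (ExtM ρ (ZU U) (n + 1)) := h1 n
    haveI : Subsingleton (B ⊗[A] ExtM ρ (ZU U) (n + 1)) := subsingleton_tensor _
    haveI := subsingleton_pull_ZU f ρ' U (n + 1) (h2 n)
    exact ⟨fun x y _ => Subsingleton.elim _ _, fun y => ⟨0, Subsingleton.elim _ _⟩⟩

end crit

section final
universe a b
variable {X' X : TopCat.{u}} (f : X' ⟶ X)
variable {A : Type a} [CommRing A] {B : Type b} [CommRing B] [Algebra A B]
variable {G : CohTop.Ab X} {G' : CohTop.Ab X'} (ρ : A →+* End G) (ρ' : B →+* End G')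
  (c : (CohTop.pull f).obj G ⟶ G')
  (hc : ∀ r : A, (CohTop.pull f).map (ρ r) ≫ c = c ≫ ρ' (algebraMap A B r))

/-- `Ext^n(ℤ_⊤, G) ≃ H^n(X, G)`, linearly -/
noncomputable def topEquiv (n : ℕ) : ExtM ρ (ZU (⊤ : Opens X)) n ≃ₗ[A] ExtM ρ (constZ X) n :=
  LinearEquiv.ofBijective (pre ρ (Ext.mk₀ (wTop X)) (zero_add n)) (precomp_wTop_bijective X G n)

/-- `Ext^n(f⁻¹ ℤ_U, G') ≃ Ext^n(ℤ_{f⁻¹U}, G')`, linearly -/
noncomputable def pullEquiv (U : Opens X) (n : ℕ) :
    ExtM ρ' ((CohTop.pull f).obj (ZU U)) n ≃ₗ[B] ExtM ρ' (ZU ((Opens.map f).obj U)) n :=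
  LinearEquiv.ofBijective (pre ρ' (Ext.mk₀ (pullZU f U).hom) (zero_add n))
    ⟨fun x y h => by
      have := congrArg (pre ρ' (Ext.mk₀ (pullZU f U).inv) (zero_add n)) h
      rwa [pre_inv_hom, pre_inv_hom] at this,
     fun y => ⟨pre ρ' (Ext.mk₀ (pullZU f U).inv) (zero_add n) y, pre_hom_inv ρ' (pullZU f U) n y⟩⟩

/-- the final comparison isomorphism, given that `ℤ_⊤` is good -/
theorem nonempty_linearEquiv (h : Good (CohTop.pull f) ρ ρ' c hc (ZU (⊤ : Opens X))) (n : ℕ) :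
    Nonempty (B ⊗[A] ExtM ρ (constZ X) n ≃ₗ[B] ExtM ρ' (constZ X') n) := by
  let e1 : B ⊗[A] ExtM ρ (constZ X) n ≃ₗ[B] B ⊗[A] ExtM ρ (ZU (⊤ : Opens X)) n :=
    TensorProduct.AlgebraTensorModule.congr (LinearEquiv.refl B B) (topEquiv ρ n).symm
  let e2 : B ⊗[A] ExtM ρ (ZU (⊤ : Opens X)) n ≃ₗ[B] ExtM ρ' ((CohTop.pull f).obj (ZU ⊤)) n :=
    LinearEquiv.ofBijective _ (h n)
  let e3 := pullEquiv f ρ' (⊤ : Opens X) n
  let e4 : ExtM ρ' (ZU (⊤ : Opens X')) n ≃ₗ[B] ExtM ρ' (constZ X') n := topEquiv ρ' n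
  exact ⟨e1.trans (e2.trans (e3.trans e4))⟩

end final

end Groth.Agent.Lib.Helper21.BCTop
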