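import Mathlib
import Groth.Agent.Lib.Helper21BCTop
import Groth.Agent.Lib.Helper21BCInd
import Groth.Agent.Lib.Helper13QcqsBC
import Groth.Agent.Lib.Helper23AffOpen2

/-!
# Flat base change for cohomology of quasi-coherent modules, affine base (helper21)
-/

set_option autoImplicit false
set_option linter.style.haveILetI false
set_option linter.unusedSectionVars false
universe u
open CategoryTheory CategoryTheory.Limits Opposite TopologicalSpace Abelian AlgebraicGeometry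
  TensorProduct

namespace Groth.Agent.Lib.Helper21.BCSch
open Groth.Agent.Lib.Helper23.AffVanish Groth.Agent.Lib.Helper21.BCExt
  Groth.Agent.Lib.Helper21.BCTop Groth.Agent.Lib.Helper16.ClosedEmb
  Groth.Agent.Helper13QcqsBC Groth.Agent.Helper13PullbackUnit Groth.Agent.Helper13FlatMV

/-- global functions act on the underlying abelian sheaf of a module -/
noncomputable def smulHom {X : Scheme.{u}} (M : X.Modules) : Coh.Γtop X →+* End (Coh.toAb M) where
  toFun r := Coh.smulAb M r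
  map_one' := Coh.smulAb_one M
  map_mul' r s := Coh.smulAb_mul M r s
  map_zero' := Coh.smulAb_zero M
  map_add' r s := Coh.smulAb_add M r s

section data
variable {X S X' S' : Scheme.{u}} (f : X ⟶ S) (g : S' ⟶ S) (g' : X' ⟶ X) (f' : X' ⟶ S')
  (h : IsPullback g' f' f g) (F : X.Modules)

/-- the pulled back module -/
noncomputable abbrev F' : X'.Modules := (Scheme.Modules.pullback g').obj F

/-- `Γ(S, ⊤)` acts on `F` -/
noncomputable def ρ : Γ(S, ⊤) →+* End (Coh.toAb F) := (smulHom F).comp f.appTop.hom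

/-- `Γ(S', ⊤)` acts on `g'^* F` -/
noncomputable def ρ' : Γ(S', ⊤) →+* End (Coh.toAb (F' g' F)) := (smulHom (F' g' F)).comp f'.appTop.hom

/-- the adjunction unit on underlying abelian sheaves -/
noncomputable def unitAb : Coh.toAb F ⟶ (CohTop.push g'.base).obj (Coh.toAb (F' g' F)) :=
  (SheafOfModules.toSheaf X.ringCatSheaf).map
    ((Scheme.Modules.pullbackPushforwardAdjunction g').unit.app F)

/-- the comparison map `g'⁻¹ F ⟶ g'^* F` of abelian sheaves -/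
noncomputable def c : (CohTop.pull g'.base).obj (Coh.toAb F) ⟶ Coh.toAb (F' g' F) :=
  ((adj g'.base).homEquiv _ _).symm (unitAb g' F)

lemma homEquiv_c : (adj g'.base).homEquiv _ _ (c g' F) = unitAb g' F :=
  Equiv.apply_symm_apply _ _


lemma hle_top : (⊤ : S'.Opens) ≤ g ⁻¹ᵁ ⊤ := fun _ _ => trivial

/-- the algebra structure `Γ(S, ⊤) → Γ(S', ⊤)` (as used by helper13) -/
noncomputable abbrev algTop : Algebra Γ(S, ⊤) Γ(S', ⊤) := (g.appLE ⊤ ⊤ (hle_top g)).hom.toAlgebra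

lemma ρ_app (r : Γ(S, ⊤)) (V : X.Opens) (m : Γ(F, V)) :
    ((ρ f F r : Coh.toAb F ⟶ Coh.toAb F).hom.app (op V)).hom m =
      ((f.appLE ⊤ V le_top r : Γ(X, V)) • m : Γ(F, V)) := by
  change (Coh.smulAb F (f.appTop.hom r)).hom.app (op V) m = _
  rw [Coh.smulAb_app]
  rfl

include h in
lemma hc (r : Γ(S, ⊤)) :
    (CohTop.pull g'.base).map (ρ f F r) ≫ c g' F =
      c g' F ≫ ρ' g' f' F ((g.appLE ⊤ ⊤ (hle_top g)).hom r) := by
  apply ((adj g'.base).homEquiv _ _).injective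
  rw [Adjunction.homEquiv_naturality_left, Adjunction.homEquiv_naturality_right, homEquiv_c]
  ext V m
  have key := uW_smul f g g' f' h F (U := ⊤) (U' := ⊤) (hle_top g) (W := V.unop) le_top
    (V' := g' ⁻¹ᵁ V.unop) le_rfl le_top r m
  have e1 : ∀ x : Γ(F, V.unop), unitSec g' F (le_refl (g' ⁻¹ᵁ V.unop)) x =
      ((unitAb g' F).hom.app V).hom x := by
    intro x
    rw [unitSec_apply]
    exact Groth.Agent.Helper13QcqsBC.res_self (F := F' g' F) _
  have k2 : ((unitAb g' F).hom.app V).hom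
      ((f.appLE ⊤ V.unop le_top r : Γ(X, V.unop)) • (show Γ(F, V.unop) from m) : Γ(F, V.unop)) =
      ((f'.appLE ⊤ (g' ⁻¹ᵁ V.unop) le_top ((g.appLE ⊤ ⊤ (hle_top g)).hom r) :
        Γ(X', g' ⁻¹ᵁ V.unop)) • (show Γ(F' g' F, g' ⁻¹ᵁ V.unop) from
          ((unitAb g' F).hom.app V).hom m) : Γ(F' g' F, g' ⁻¹ᵁ V.unop)) := by
    rw [← e1, ← e1]
    exact key
  refine (congrArg _ (ρ_app f F r V.unop m)).trans (k2.trans ?_)
  exact (ρ_app f' (F' g' F) _ _ _).symm


/-- goodness of an open: the base change maps `Γ(S',⊤) ⊗ H^n(W, F) → H^n(g'⁻¹W, g'^*F)` are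
bijective (in the `Ext` formulation) -/
def GoodOpen (W : X.Opens) : Prop :=
  letI := algTop g
  Good (CohTop.pull g'.base) (ρ f F) (ρ' g' f' F) (c g' F) (hc f g g' f' h F) (ZU W)

lemma α_smul' (W : X.Opens) (r : Γ(S, ⊤)) (x : ExtM (ρ f F) (ZU W) 0) :
    α (ρ f F) W (r • x) =
      ((f.appLE ⊤ W le_top r : Γ(X, W)) • (show Γ(F, W) from α (ρ f F) W x) : Γ(F, W)) := by
  rw [α_smul]
  exact ρ_app f F r W _

lemma β_smul' (W : X.Opens) (s : Γ(S', ⊤))
    (y : ExtM (ρ' g' f' F) ((CohTop.pull g'.base).obj (ZU W)) 0) :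
    β g'.base (ρ' g' f' F) W (s • y) =
      ((f'.appLE ⊤ (g' ⁻¹ᵁ W) le_top s : Γ(X', g' ⁻¹ᵁ W)) •
        (show Γ(F' g' F, g' ⁻¹ᵁ W) from β g'.base (ρ' g' f' F) W y) : Γ(F' g' F, g' ⁻¹ᵁ W)) := by
  rw [β_smul]
  exact ρ_app f' (F' g' F) s (g' ⁻¹ᵁ W) _

lemma β_θ' [Algebra Γ(S, ⊤) Γ(S', ⊤)] (W : X.Opens) (x : ExtM (ρ f F) (ZU W) 0) :
    β g'.base (ρ' g' f' F) W (θ (CohTop.pull g'.base) (ρ f F) (ρ' g' f' F) (c g' F) (ZU W) 0 x) =
      unitSec g' F (le_refl (g' ⁻¹ᵁ W)) (α (ρ f F) W x) := by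
  rw [β_θ, homEquiv_c, unitSec_apply]
  exact (Groth.Agent.Helper13QcqsBC.res_self (F := F' g' F) _).symm


include h in
theorem T0_bijective [F.IsQuasicoherent] (hS : IsAffineOpen (⊤ : S.Opens))
    (hS' : IsAffineOpen (⊤ : S'.Opens)) (W : X.Opens) (hW : IsAffineOpen W) :
    letI := algTop g
    Function.Bijective (T (CohTop.pull g'.base) (ρ f F) (ρ' g' f' F) (c g' F)
      (hc f g g' f' h F) (ZU W) 0) := by
  letI := algTop g
  have hK := KBij_of_isAffineOpen f g g' f' h F (hle_top g) hS hS' (le_top : W ≤ f ⁻¹ᵁ ⊤) hW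
  change Function.Bijective (kap (R := Γ(S, ⊤)) (R' := Γ(S', ⊤))
    (uW f g' f' F (le_top : W ≤ f ⁻¹ᵁ ⊤) (inf_le_left : Vp g' f' ⊤ W ≤ g' ⁻¹ᵁ W) inf_le_right)
    (uW_smul f g g' f' h F (hle_top g) le_top inf_le_left inf_le_right)) at hK
  let a : ExtM (ρ f F) (ZU W) 0 ≃ₗ[Γ(S, ⊤)] SecR f F ⊤ W le_top :=
    { (α (ρ f F) W) with
      map_smul' := fun r x => α_smul' f F W r x }
  let rs : Γ(F' g' F, g' ⁻¹ᵁ W) →+ SecR f' (F' g' F) ⊤ (Vp g' f' ⊤ W) inf_le_right :=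
    ((F' g' F).presheaf.map (homOfLE (inf_le_left : Vp g' f' ⊤ W ≤ g' ⁻¹ᵁ W)).op).hom
  have hrs : Function.Bijective rs :=
    map_bijective_of_eq (F' g' F) (le_antisymm inf_le_left (le_inf le_rfl le_top)) _
  let b : ExtM (ρ' g' f' F) ((CohTop.pull g'.base).obj (ZU W)) 0 →+
      SecR f' (F' g' F) ⊤ (Vp g' f' ⊤ W) inf_le_right :=
    rs.comp (β g'.base (ρ' g' f' F) W).toAddMonoidHom
  have hb : Function.Bijective b := hrs.comp (β g'.base (ρ' g' f' F) W).bijective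
  have key : ∀ t, b (T (CohTop.pull g'.base) (ρ f F) (ρ' g' f' F) (c g' F)
      (hc f g g' f' h F) (ZU W) 0 t) =
      kap (R := Γ(S, ⊤)) (R' := Γ(S', ⊤))
        (uW f g' f' F (le_top : W ≤ f ⁻¹ᵁ ⊤) (inf_le_left : Vp g' f' ⊤ W ≤ g' ⁻¹ᵁ W) inf_le_right)
        (uW_smul f g g' f' h F (hle_top g) le_top inf_le_left inf_le_right)
        (a.toLinearMap.lTensor Γ(S', ⊤) t) := by
    intro t
    induction t with
    | zero => rw [map_zero, map_zero, map_zero, map_zero]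
    | add x y hx hy => rw [map_add, map_add, hx, hy, map_add, map_add]
    | tmul s x =>
      rw [T_tmul, LinearMap.lTensor_tmul, kap_tmul]
      change rs (β g'.base (ρ' g' f' F) W (s • θ (CohTop.pull g'.base) (ρ f F) (ρ' g' f' F)
        (c g' F) (ZU W) 0 x)) =
        ((f'.appLE ⊤ (Vp g' f' ⊤ W) inf_le_right s : Γ(X', Vp g' f' ⊤ W)) •
          (show Γ(F' g' F, Vp g' f' ⊤ W) from unitSec g' F inf_le_left (α (ρ f F) W x)) :
            Γ(F' g' F, Vp g' f' ⊤ W))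
      rw [β_smul', β_θ']
      have e1 := Groth.Agent.Lib.Helper6.res_smul (F' g' F)
        (inf_le_left : Vp g' f' ⊤ W ≤ g' ⁻¹ᵁ W) (f'.appLE ⊤ (g' ⁻¹ᵁ W) le_top s)
        (unitSec g' F (le_refl _) (α (ρ f F) W x))
      have e2 := unitSec_res g' F (le_refl (g' ⁻¹ᵁ W))
        (inf_le_left : Vp g' f' ⊤ W ≤ g' ⁻¹ᵁ W) (le_refl W) inf_le_left (α (ρ f F) W x)
      rw [Groth.Agent.Helper13QcqsBC.res_self] at e2
      refine e1.trans ?_
      rw [e2]
      congr 1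
      change (f'.appLE ⊤ (g' ⁻¹ᵁ W) le_top ≫ X'.presheaf.map (homOfLE inf_le_left).op) s = _
      rw [Scheme.Hom.appLE_map]
  have hl : Function.Bijective (a.toLinearMap.lTensor Γ(S', ⊤)) :=
    (LinearEquiv.lTensor Γ(S', ⊤) a).bijective
  constructor
  · intro t t' htt
    apply hl.1
    apply hK.1
    rw [← key, ← key, htt]
  · intro y
    obtain ⟨z, hz⟩ := hK.2 (b y)
    obtain ⟨t, rfl⟩ := hl.2 z
    refine ⟨t, hb.1 ?_⟩
    rw [key, hz]


include h in
theorem goodOpen_of_isAffineOpen [F.IsQuasicoherent] (hS : IsAffineOpen (⊤ : S.Opens))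
    (hS' : IsAffineOpen (⊤ : S'.Opens)) (W : X.Opens) (hW : IsAffineOpen W) :
    GoodOpen f g g' f' h F W := by
  letI := algTop g
  haveI : (F' g' F).IsQuasicoherent :=
    Groth.Agent.Lib.Helper2.PullbackSec.isQuasicoherent_pullback g' F
  have hW' : IsAffineOpen (g' ⁻¹ᵁ W) := by
    have h1 := isAffineOpen_Vp f g g' f' h (hle_top g) hS hS' (le_top : W ≤ f ⁻¹ᵁ ⊤) hW
    have e : Vp g' f' ⊤ W = g' ⁻¹ᵁ W := le_antisymm inf_le_left (le_inf le_rfl le_top)
    rwa [e] at h1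
  exact good_ZU g'.base (ρ f F) (ρ' g' f' F) (c g' F) (hc f g g' f' h F) W
    (fun n => subsingleton_HE_of_isAffineOpen hW F n)
    (fun n => subsingleton_HE_of_isAffineOpen hW' (F' g' F) n)
    (T0_bijective f g g' f' h F hS hS' W hW)

include h in
theorem goodOpen_of_isCompact [QuasiSeparatedSpace X] [F.IsQuasicoherent]
    (hS : IsAffineOpen (⊤ : S.Opens)) (hS' : IsAffineOpen (⊤ : S'.Opens))
    (hflat : (g.appLE ⊤ ⊤ (hle_top g)).hom.Flat) (W : X.Opens) (hW : IsCompact (W : Set X)) :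
    GoodOpen f g g' f' h F W := by
  letI := algTop g
  haveI : Module.Flat Γ(S, ⊤) Γ(S', ⊤) := hflat
  exact Groth.Agent.Lib.Helper21.BCInd.induction_qcqs (GoodOpen f g g' f' h F)
    (goodOpen_of_isAffineOpen f g g' f' h F hS hS')
    (fun U V hU hV hUV => good_sup (CohTop.pull g'.base) (ρ f F) (ρ' g' f' F) (c g' F)
      (hc f g g' f' h F) U V hU hV hUV) W hW

include h in
/-- **Flat base change, affine base**: `Γ(S',⊤) ⊗ H^n(X, F) ≃ H^n(X', g'^* F)`. -/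
theorem nonempty_linearEquiv_top [CompactSpace X] [QuasiSeparatedSpace X] [F.IsQuasicoherent]
    (hS : IsAffineOpen (⊤ : S.Opens)) (hS' : IsAffineOpen (⊤ : S'.Opens))
    (hflat : (g.appLE ⊤ ⊤ (hle_top g)).hom.Flat) (n : ℕ) :
    letI := algTop g
    Nonempty (Γ(S', ⊤) ⊗[Γ(S, ⊤)] ExtM (ρ f F) (constZ X) n ≃ₗ[Γ(S', ⊤)]
      ExtM (ρ' g' f' F) (constZ X') n) := by
  letI := algTop g
  exact nonempty_linearEquiv g'.base (ρ f F) (ρ' g' f' F) (c g' F) (hc f g g' f' h F)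
    (goodOpen_of_isCompact f g g' f' h F hS hS' hflat ⊤ isCompact_univ) n

end data

end Groth.Agent.Lib.Helper21.BCSch
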