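import Mathlib
import Groth.Agent.Lib.Helper16CechLow
import Groth.Agent.Lib.Helper27CechNat

/-!
# The Čech complex of an `O_X`-module as a complex of modules over the base ring (helper21)
-/

set_option autoImplicit false
universe u
open CategoryTheory CategoryTheory.Limits Opposite TopologicalSpace AlgebraicGeometry

namespace Groth.Agent.Lib.Helper21.CechMod
open Groth.Agent.Lib.Helper16.CechLow

section Abs

variable {A : Type u} [CommRing A] (K : CochainComplex (ModuleCat.{u} A) ℕ)

lemma smul_homology (p : ℕ) (a : A) (y : K.homology p) :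
    (HomologicalComplex.homologyMap (a • 𝟙 K) p).hom y = a • y := by
  have h : HomologicalComplex.homologyMap (a • 𝟙 K) p = a • 𝟙 (K.homology p) := by
    have e : (HomologicalComplex.shortComplexFunctor (ModuleCat.{u} A) (ComplexShape.up ℕ) p).map (a • 𝟙 K) =
        a • (HomologicalComplex.shortComplexFunctor (ModuleCat.{u} A) (ComplexShape.up ℕ) p).map (𝟙 K) := by
      ext <;> rfl
    change ShortComplex.homologyMap
      ((HomologicalComplex.shortComplexFunctor (ModuleCat.{u} A) (ComplexShape.up ℕ) p).map (a • 𝟙 K)) = _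
    rw [e, ShortComplex.homologyMap_smul, CategoryTheory.Functor.map_id, ShortComplex.homologyMap_id]
    rfl
  rw [h]
  rfl

section cmp
variable {K}
variable {K' : CochainComplex (ModuleCat.{u} A) ℕ}

noncomputable abbrev F₂ := forget₂ (ModuleCat.{u} A) AddCommGrpCat.{u}

noncomputable def fIso (K : CochainComplex (ModuleCat.{u} A) ℕ) (p : ℕ) :
    (((F₂ (A := A)).mapHomologicalComplex (ComplexShape.up ℕ)).obj K).homology p ≅
      (F₂ (A := A)).obj (K.homology p) :=
  (K.sc p).mapHomologyIso (F₂ (A := A))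

lemma fIso_naturality (ψ : K ⟶ K') (p : ℕ) :
    HomologicalComplex.homologyMap (((F₂ (A := A)).mapHomologicalComplex (ComplexShape.up ℕ)).map ψ) p ≫
      (fIso K' p).hom = (fIso K p).hom ≫ (F₂ (A := A)).map (HomologicalComplex.homologyMap ψ p) :=
  ShortComplex.mapHomologyIso_hom_naturality
    ((HomologicalComplex.shortComplexFunctor (ModuleCat.{u} A) (ComplexShape.up ℕ) p).map ψ) (F₂ (A := A))

variable {L L' : CochainComplex AddCommGrpCat.{u} ℕ}
  (θ : L ≅ ((F₂ (A := A)).mapHomologicalComplex (ComplexShape.up ℕ)).obj K)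
  (θ' : L' ≅ ((F₂ (A := A)).mapHomologicalComplex (ComplexShape.up ℕ)).obj K')

/-- homology of an abelian-group complex isomorphic to the underlying complex of a complex of modules -/
noncomputable def hEquiv (p : ℕ) : ↑(L.homology p) ≃+ ↑(K.homology p) :=
  (((HomologicalComplex.homologyFunctor AddCommGrpCat.{u} (ComplexShape.up ℕ) p).mapIso θ) ≪≫
    fIso K p).addCommGroupIsoToAddEquiv

lemma hEquiv_apply (p : ℕ) (x : ↑(L.homology p)) :
    hEquiv θ p x = (fIso K p).hom ((HomologicalComplex.homologyMap θ.hom p) x) := rfl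

lemma hEquiv_naturality (φ : L ⟶ L') (ψ : K ⟶ K')
    (hφ : φ ≫ θ'.hom = θ.hom ≫ ((F₂ (A := A)).mapHomologicalComplex (ComplexShape.up ℕ)).map ψ)
    (p : ℕ) (x : ↑(L.homology p)) :
    hEquiv θ' p ((HomologicalComplex.homologyMap φ p) x) =
      (HomologicalComplex.homologyMap ψ p).hom (hEquiv θ p x) := by
  rw [hEquiv_apply, hEquiv_apply]
  have h1 : HomologicalComplex.homologyMap φ p ≫ HomologicalComplex.homologyMap θ'.hom p =
      HomologicalComplex.homologyMap θ.hom p ≫
        HomologicalComplex.homologyMap (((F₂ (A := A)).mapHomologicalComplex (ComplexShape.up ℕ)).map ψ) p := by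
    rw [← HomologicalComplex.homologyMap_comp, ← HomologicalComplex.homologyMap_comp, hφ]
  have h2 := ConcreteCategory.congr_hom h1 x
  have h3 := ConcreteCategory.congr_hom (fIso_naturality ψ p)
    ((HomologicalComplex.homologyMap θ.hom p) x)
  change (fIso K' p).hom ((HomologicalComplex.homologyMap θ'.hom p) ((HomologicalComplex.homologyMap φ p) x)) = _
  change (HomologicalComplex.homologyMap θ'.hom p) ((HomologicalComplex.homologyMap φ p) x) = _ at h2
  rw [h2]
  exact h3

end cmp

end Abs

section Sec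
variable (A : Type u) [CommRing A] {X : Scheme.{u}} [X.Over (Spec (CommRingCat.of A))]
  (F : X.Modules)

/-- the structure map `A → Γ(X, V)` -/
noncomputable def ringA (V : X.Opens) : A →+* Γ(X, V) :=
  (X.presheaf.map (homOfLE (le_top : V ≤ ⊤)).op).hom.comp
    (Coh.toGlobal (X ↘ Spec (CommRingCat.of A)))

lemma ringA_map {V W : X.Opens} (i : W ⟶ V) (a : A) :
    (X.presheaf.map i.op).hom (ringA A V a) = ringA A W a := by
  change ((X.presheaf.map (homOfLE (le_top : V ≤ ⊤)).op ≫ X.presheaf.map i.op).hom)
    (Coh.toGlobal (X ↘ Spec (CommRingCat.of A)) a) = _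
  rw [← Functor.map_comp]
  rfl

/-- sections of `F` over `V` as an `A`-module -/
@[nolint unusedArguments]
def SecA (A : Type u) [CommRing A] {X : Scheme.{u}} [X.Over (Spec (CommRingCat.of A))]
    (F : X.Modules) (V : X.Opens) : Type u := Γ(F, V)

noncomputable instance (V : X.Opens) : AddCommGroup (SecA A F V) :=
  inferInstanceAs (AddCommGroup Γ(F, V))

noncomputable instance (V : X.Opens) : Module A (SecA A F V) :=
  Module.compHom Γ(F, V) (ringA A V)

lemma SecA.smul_def {V : X.Opens} (a : A) (s : SecA A F V) :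
    a • s = ((ringA A V a : Γ(X, V)) • (show Γ(F, V) from s) : Γ(F, V)) := rfl

/-- restriction as an `A`-linear map -/
noncomputable def resA {V W : X.Opens} (i : W ⟶ V) : SecA A F V →ₗ[A] SecA A F W where
  toFun s := F.presheaf.map i.op s
  map_add' s t := map_add _ s t
  map_smul' a s := by
    change F.presheaf.map i.op ((ringA A V a : Γ(X, V)) • (show Γ(F, V) from s)) =
      ((ringA A W a : Γ(X, W)) • F.presheaf.map i.op s : Γ(F, W))
    rw [Scheme.Modules.map_smul, ← ringA_map A i a]

lemma resA_apply {V W : X.Opens} (i : W ⟶ V) (s : SecA A F V) :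
    resA A F i s = F.presheaf.map i.op s := rfl

end Sec

section Cx
variable (A : Type u) [CommRing A] {X : Scheme.{u}} [X.Over (Spec (CommRingCat.of A))]
  (F : X.Modules) {ι : Type u} (U : ι → X.Opens)

/-- Čech cochains as a Pi type -/
def CX (n : ℕ) : Type u := ∀ x : Fin (n + 1) → ι, SecA A F (Ux U x)

noncomputable instance (n : ℕ) : AddCommGroup (CX A F U n) :=
  inferInstanceAs (AddCommGroup (∀ x : Fin (n + 1) → ι, SecA A F (Ux U x)))

noncomputable instance (n : ℕ) : Module A (CX A F U n) :=
  inferInstanceAs (Module A (∀ x : Fin (n + 1) → ι, SecA A F (Ux U x)))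

/-- the Čech differential -/
noncomputable def dA (n : ℕ) : CX A F U n →ₗ[A] CX A F U (n + 1) where
  toFun c x := ∑ i : Fin (n + 2), (-1 : ℤ) ^ (i : ℕ) • resA A F (face U x i) (c (x ∘ Fin.succAbove i))
  map_add' c c' := by
    funext x
    change _ = (∑ i : Fin (n + 2), (-1 : ℤ) ^ (i : ℕ) • resA A F (face U x i) (c (x ∘ Fin.succAbove i))) +
      ∑ i : Fin (n + 2), (-1 : ℤ) ^ (i : ℕ) • resA A F (face U x i) (c' (x ∘ Fin.succAbove i))
    rw [← Finset.sum_add_distrib]
    refine Finset.sum_congr rfl (fun i _ => ?_)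
    rw [← smul_add, ← map_add]
    rfl
  map_smul' a c := by
    funext x
    change _ = a • ∑ i : Fin (n + 2), (-1 : ℤ) ^ (i : ℕ) • resA A F (face U x i) (c (x ∘ Fin.succAbove i))
    rw [Finset.smul_sum]
    refine Finset.sum_congr rfl (fun i _ => ?_)
    rw [smul_comm]
    congr 1
    exact map_smul (resA A F (face U x i)) a (c (x ∘ Fin.succAbove i))

lemma dA_apply (n : ℕ) (c : CX A F U n) (x : Fin (n + 2) → ι) :
    dA A F U n c x =
      ∑ i : Fin (n + 2), (-1 : ℤ) ^ (i : ℕ) • resA A F (face U x i) (c (x ∘ Fin.succAbove i)) := rfl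

/-- comparison with Mathlib's Čech complex of the underlying abelian presheaf -/
noncomputable def eX (n : ℕ) : (CK U F.presheaf).X n ≃+ CX A F U n where
  toFun c x := pr U F.presheaf n x c
  invFun c := mkElt U F.presheaf n c
  left_inv c := by
    apply elt_ext
    intro x
    exact pr_mkElt U F.presheaf n _ x
  right_inv c := by
    funext x
    exact pr_mkElt U F.presheaf n c x
  map_add' c c' := by
    funext x
    exact map_add (pr U F.presheaf n x).hom c c'

lemma eX_apply (n : ℕ) (c : (CK U F.presheaf).X n) (x : Fin (n + 1) → ι) :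
    eX A F U n c x = pr U F.presheaf n x c := rfl

lemma eX_d (n : ℕ) (c : (CK U F.presheaf).X n) :
    eX A F U (n + 1) ((CK U F.presheaf).d n (n + 1) c) = dA A F U n (eX A F U n c) := by
  funext x
  rw [eX_apply, d_pr_apply, dA_apply]
  rfl

lemma dA_dA (n : ℕ) (c : CX A F U n) : dA A F U (n + 1) (dA A F U n c) = 0 := by
  obtain ⟨c, rfl⟩ := (eX A F U n).surjective c
  rw [← eX_d, ← eX_d]
  have h : (CK U F.presheaf).d n (n + 1) ≫ (CK U F.presheaf).d (n + 1) (n + 2) = 0 :=
    (CK U F.presheaf).d_comp_d _ _ _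
  have h2 := ConcreteCategory.congr_hom h c
  change (CK U F.presheaf).d (n + 1) (n + 2) ((CK U F.presheaf).d n (n + 1) c) = 0 at h2
  rw [h2, map_zero]

/-- the Čech complex of `F` as a complex of `A`-modules -/
noncomputable def CA : CochainComplex (ModuleCat.{u} A) ℕ :=
  CochainComplex.of (fun n => ModuleCat.of A (CX A F U n)) (fun n => ModuleCat.ofHom (dA A F U n))
    (fun n => by
      ext c
      exact dA_dA A F U n c)

lemma CA_d (n : ℕ) : (CA A F U).d n (n + 1) = ModuleCat.ofHom (dA A F U n) := by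
  unfold CA
  exact CochainComplex.of_d (fun n => ModuleCat.of A (CX A F U n))
    (fun n => ModuleCat.ofHom (dA A F U n)) n

/-- the comparison of the underlying complex of abelian groups with Mathlib's Čech complex -/
noncomputable def θ : CK U F.presheaf ≅
    ((F₂ (A := A)).mapHomologicalComplex (ComplexShape.up ℕ)).obj (CA A F U) :=
  HomologicalComplex.Hom.isoOfComponents (fun n => (eX A F U n).toAddCommGrpIso) (by
    intro i j hij
    have : j = i + 1 := hij.symm
    subst this
    ext c
    change ((F₂ (A := A)).map ((CA A F U).d i (i + 1))) (eX A F U i c) =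
      eX A F U (i + 1) ((CK U F.presheaf).d i (i + 1) c)
    rw [eX_d, CA_d]
    rfl)

lemma θ_hom_f (n : ℕ) (c : (CK U F.presheaf).X n) :
    (θ A F U).hom.f n c = eX A F U n c := rfl

/-- multiplication by `a` on the underlying abelian presheaf -/
noncomputable abbrev smulPre (a : A) : F.presheaf ⟶ F.presheaf :=
  (Coh.smulAb F (Coh.toGlobal (X ↘ Spec (CommRingCat.of A)) a)).hom

lemma θ_smul (a : A) :
    (cechComplexFunctor U).map (smulPre A F a) ≫ (θ A F U).hom =
      (θ A F U).hom ≫ ((F₂ (A := A)).mapHomologicalComplex (ComplexShape.up ℕ)).map (a • 𝟙 (CA A F U)) := by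
  ext n c
  change eX A F U n (((cechComplexFunctor U).map (smulPre A F a)).f n c) = a • eX A F U n c
  funext x
  rw [eX_apply]
  have h := ConcreteCategory.congr_hom
    (Groth.Agent.Lib.Helper27CechNat.map_pr U (smulPre A F a) n x) c
  exact h

/-- sheaf cohomology of a quasi-coherent module is the homology of the Čech complex of `A`-modules,
`A`-linearly -/
theorem nonempty_linearEquiv_homology (hcov : ⨆ i, U i = ⊤)
    (hU : ∀ s : Finset ι, s.Nonempty → IsAffineOpen (⨅ i ∈ s, U i)) [Coh.IsQCoh F] (p : ℕ) :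
    Nonempty (Coh.HH X F p ≃ₗ[A] ↑((CA A F U).homology p)) := by
  refine Groth.Agent.Lib.Helper27CechNat.nonempty_linearEquiv_of_cech U hcov hU F p
    (hEquiv (θ A F U) p).toAddMonoidHom (hEquiv (θ A F U) p).bijective ?_
  intro a x
  have h := hEquiv_naturality (θ A F U) (θ A F U) ((cechComplexFunctor U).map (smulPre A F a))
    (a • 𝟙 _) (θ_smul A F U a) p x
  rw [smul_homology] at h
  exact h

end Cx

end Groth.Agent.Lib.Helper21.CechMod
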