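import Mathlib
import Groth.Agent.Lib.Helper21CechMod
import Groth.Agent.Lib.Helper21BCAlg
import Groth.Agent.Lib.Helper21BCSch

/-!
# Base change of the Čech complex of modules (helper21)
-/

set_option autoImplicit false
universe u
open CategoryTheory CategoryTheory.Limits Opposite TopologicalSpace AlgebraicGeometry TensorProduct

namespace Groth.Agent.Lib.Helper21.CechBC
open Groth.Agent.Lib.Helper16.CechLow Groth.Agent.Lib.Helper21.CechMod
  Groth.Agent.Helper13QcqsBC Groth.Agent.Lib.Helper21.BCSch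
  Groth.Agent.Helper13PullbackUnit Groth.Agent.Helper13FlatMV

section Kap
variable (A B : Type u) [CommRing A] [CommRing B] [Algebra A B] {X X' : Scheme.{u}}
  [X.Over (Spec (CommRingCat.of A))] [X'.Over (Spec (CommRingCat.of B))] (g' : X' ⟶ X)
  (h : IsPullback g' (X' ↘ Spec (CommRingCat.of B)) (X ↘ Spec (CommRingCat.of A))
    (Spec.map (CommRingCat.ofHom (algebraMap A B))))
  (F : X.Modules)

/-- the pulled back module -/
noncomputable abbrev Fp : X'.Modules := (Scheme.Modules.pullback g').obj F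

/-- the ring isomorphism `A ≃ Γ(Spec A, ⊤)` -/
noncomputable abbrev φA : A ≃+* Γ(Spec (CommRingCat.of A), ⊤) :=
  (Scheme.ΓSpecIso (CommRingCat.of A)).symm.commRingCatIsoToRingEquiv

lemma hφ : letI := algTop (Spec.map (CommRingCat.ofHom (algebraMap A B)))
    ∀ a : A, φA B (algebraMap A B a) =
      algebraMap Γ(Spec (CommRingCat.of A), ⊤) Γ(Spec (CommRingCat.of B), ⊤) (φA A a) := by
  intro a
  have h1 := ConcreteCategory.congr_hom
    (Scheme.ΓSpecIso_inv_naturality (CommRingCat.ofHom (algebraMap A B))) a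
  have h2 : (Spec.map (CommRingCat.ofHom (algebraMap A B))).appLE ⊤ ⊤ (hle_top _) =
      (Spec.map (CommRingCat.ofHom (algebraMap A B))).appTop :=
    Scheme.Hom.appLE_eq_app _
  change (Scheme.ΓSpecIso (CommRingCat.of B)).inv (algebraMap A B a) =
    ((Spec.map (CommRingCat.ofHom (algebraMap A B))).appLE ⊤ ⊤ (hle_top _)).hom
      ((Scheme.ΓSpecIso (CommRingCat.of A)).inv a)
  rw [h2]
  exact h1

variable {W : X.Opens} {V' : X'.Opens} (hV : V' ≤ g' ⁻¹ᵁ W) (hV2 : g' ⁻¹ᵁ W ≤ V')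

/-- the identity, between two module structures on `Γ(F, W)` -/
noncomputable def jE (W : X.Opens) : SecA A F W ≃+ SecR (X ↘ Spec (CommRingCat.of A)) F ⊤ W le_top :=
  AddEquiv.refl Γ(F, W)

lemma hj (a : A) (m : SecA A F W) : jE A F W (a • m) = φA A a • jE A F W m := rfl

/-- restriction `Γ(F', V') → Γ(F', g'⁻¹W ⊓ ⊤)` -/
noncomputable def ρr : SecA B (Fp g' F) V' →+
    SecR (X' ↘ Spec (CommRingCat.of B)) (Fp g' F) ⊤
      (Vp g' (X' ↘ Spec (CommRingCat.of B)) ⊤ W) inf_le_right :=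
  ((Fp g' F).presheaf.map (homOfLE (inf_le_left.trans hV2 :
    Vp g' (X' ↘ Spec (CommRingCat.of B)) ⊤ W ≤ V')).op).hom

include hV in
lemma ρr_bijective : Function.Bijective (ρr B g' F hV2) :=
  map_bijective_of_eq (Fp g' F)
    (le_antisymm (inf_le_left.trans hV2) (le_inf hV le_top)) _

/-- the base change map on sections `B ⊗[A] Γ(F, W) → Γ(g'^*F, V')` (`V' = g'⁻¹W`) -/
noncomputable def kapA : B ⊗[A] SecA A F W →+ SecA B (Fp g' F) V' :=
  letI := algTop (Spec.map (CommRingCat.ofHom (algebraMap A B)))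
  ((AddEquiv.ofBijective (ρr B g' F hV2) (ρr_bijective B g' F hV hV2)).symm.toAddMonoidHom.comp
    (kap (R := Γ(Spec (CommRingCat.of A), ⊤)) (R' := Γ(Spec (CommRingCat.of B), ⊤))
      (uW (X ↘ Spec (CommRingCat.of A)) g' (X' ↘ Spec (CommRingCat.of B)) F
        (le_top : W ≤ (X ↘ Spec (CommRingCat.of A)) ⁻¹ᵁ ⊤)
        (inf_le_left : Vp g' (X' ↘ Spec (CommRingCat.of B)) ⊤ W ≤ g' ⁻¹ᵁ W) inf_le_right)
      (uW_smul (X ↘ Spec (CommRingCat.of A)) (Spec.map (CommRingCat.ofHom (algebraMap A B))) g'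
        (X' ↘ Spec (CommRingCat.of B)) h F (hle_top _) le_top inf_le_left
        inf_le_right)).toAddMonoidHom).comp
    (Groth.Agent.Lib.Helper21.BCAlg.fwd (φA A) (φA B) (hφ A B) (jE A F W) (hj A F))

lemma ρr_kapA (t : B ⊗[A] SecA A F W) :
    letI := algTop (Spec.map (CommRingCat.ofHom (algebraMap A B)))
    ρr B g' F hV2 (kapA A B g' h F hV hV2 t) =
      kap (R := Γ(Spec (CommRingCat.of A), ⊤)) (R' := Γ(Spec (CommRingCat.of B), ⊤))
      (uW (X ↘ Spec (CommRingCat.of A)) g' (X' ↘ Spec (CommRingCat.of B)) F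
        (le_top : W ≤ (X ↘ Spec (CommRingCat.of A)) ⁻¹ᵁ ⊤)
        (inf_le_left : Vp g' (X' ↘ Spec (CommRingCat.of B)) ⊤ W ≤ g' ⁻¹ᵁ W) inf_le_right)
      (uW_smul (X ↘ Spec (CommRingCat.of A)) (Spec.map (CommRingCat.ofHom (algebraMap A B))) g'
        (X' ↘ Spec (CommRingCat.of B)) h F (hle_top _) le_top inf_le_left inf_le_right)
      (Groth.Agent.Lib.Helper21.BCAlg.fwd (φA A) (φA B) (hφ A B) (jE A F W) (hj A F) t) :=
  (AddEquiv.ofBijective (ρr B g' F hV2) (ρr_bijective B g' F hV hV2)).apply_symm_apply _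

lemma kapA_tmul (b : B) (s : SecA A F W) :
    kapA A B g' h F hV hV2 (b ⊗ₜ[A] s) =
      b • (show SecA B (Fp g' F) V' from unitSec g' F hV (show Γ(F, W) from s)) := by
  letI := algTop (Spec.map (CommRingCat.ofHom (algebraMap A B)))
  apply (ρr_bijective B g' F hV hV2).1
  rw [ρr_kapA, Groth.Agent.Lib.Helper21.BCAlg.fwd_tmul, kap_tmul]
  have e1 := Groth.Agent.Lib.Helper6.res_smul (Fp g' F)
    (inf_le_left.trans hV2 : Vp g' (X' ↘ Spec (CommRingCat.of B)) ⊤ W ≤ V')
    (ringA B V' b) (unitSec g' F hV (show Γ(F, W) from s))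
  have e2 := unitSec_res g' F hV
    (inf_le_left : Vp g' (X' ↘ Spec (CommRingCat.of B)) ⊤ W ≤ g' ⁻¹ᵁ W) (le_refl W)
    (inf_le_left.trans hV2) (show Γ(F, W) from s)
  rw [Groth.Agent.Helper13QcqsBC.res_self] at e2
  refine Eq.trans ?_ e1.symm
  rw [e2]
  change (((X' ↘ Spec (CommRingCat.of B)).appLE ⊤ (Vp g' (X' ↘ Spec (CommRingCat.of B)) ⊤ W)
      inf_le_right (φA B b) : Γ(X', Vp g' (X' ↘ Spec (CommRingCat.of B)) ⊤ W)) •
    (unitSec g' F inf_le_left (show Γ(F, W) from s) :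
      Γ(Fp g' F, Vp g' (X' ↘ Spec (CommRingCat.of B)) ⊤ W)) :
      Γ(Fp g' F, Vp g' (X' ↘ Spec (CommRingCat.of B)) ⊤ W)) = _
  congr 1
  exact (ringA_map B (homOfLE (inf_le_left.trans hV2 :
    Vp g' (X' ↘ Spec (CommRingCat.of B)) ⊤ W ≤ V')) b).symm

include h in
theorem kapA_bijective [F.IsQuasicoherent] (hW : IsAffineOpen W) :
    Function.Bijective (kapA A B g' h F hV hV2) := by
  letI := algTop (Spec.map (CommRingCat.ofHom (algebraMap A B)))
  have hS : IsAffineOpen (⊤ : (Spec (CommRingCat.of A)).Opens) := isAffineOpen_top _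
  have hS' : IsAffineOpen (⊤ : (Spec (CommRingCat.of B)).Opens) := isAffineOpen_top _
  have hK := KBij_of_isAffineOpen (X ↘ Spec (CommRingCat.of A))
    (Spec.map (CommRingCat.ofHom (algebraMap A B))) g' (X' ↘ Spec (CommRingCat.of B)) h F
    (hle_top _) hS hS' (le_top : W ≤ (X ↘ Spec (CommRingCat.of A)) ⁻¹ᵁ ⊤) hW
  change Function.Bijective (kap (R := Γ(Spec (CommRingCat.of A), ⊤))
    (R' := Γ(Spec (CommRingCat.of B), ⊤))
    (uW (X ↘ Spec (CommRingCat.of A)) g' (X' ↘ Spec (CommRingCat.of B)) F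
      (le_top : W ≤ (X ↘ Spec (CommRingCat.of A)) ⁻¹ᵁ ⊤)
      (inf_le_left : Vp g' (X' ↘ Spec (CommRingCat.of B)) ⊤ W ≤ g' ⁻¹ᵁ W) inf_le_right)
    (uW_smul (X ↘ Spec (CommRingCat.of A)) (Spec.map (CommRingCat.ofHom (algebraMap A B))) g'
      (X' ↘ Spec (CommRingCat.of B)) h F (hle_top _) le_top inf_le_left inf_le_right)) at hK
  have hf : Function.Bijective
      (Groth.Agent.Lib.Helper21.BCAlg.fwd (φA A) (φA B) (hφ A B) (jE A F W) (hj A F)) :=
    ⟨Function.LeftInverse.injective (Groth.Agent.Lib.Helper21.BCAlg.bwd_fwd _ _ _ _ _),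
      Function.RightInverse.surjective (Groth.Agent.Lib.Helper21.BCAlg.fwd_bwd _ _ _ _ _)⟩
  exact ((AddEquiv.ofBijective (ρr B g' F hV2) (ρr_bijective B g' F hV hV2)).symm.bijective.comp
    hK).comp hf

end Kap

section Cx
variable (A B : Type u) [CommRing A] [CommRing B] [Algebra A B] {X X' : Scheme.{u}}
  [X.Over (Spec (CommRingCat.of A))] [X'.Over (Spec (CommRingCat.of B))] (g' : X' ⟶ X)
  (h : IsPullback g' (X' ↘ Spec (CommRingCat.of B)) (X ↘ Spec (CommRingCat.of A))
    (Spec.map (CommRingCat.ofHom (algebraMap A B))))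
  (F : X.Modules) {ι : Type u} (U : ι → X.Opens)

/-- the pulled back cover -/
abbrev Up : ι → X'.Opens := fun i => g' ⁻¹ᵁ U i

lemma Ux_le {Y : Scheme.{u}} (V : ι → Y.Opens) {n : ℕ} (x : Fin (n + 1) → ι) (a : Fin (n + 1)) :
    Ux V x ≤ V (x a) := (Pi.π (V ∘ x) a).le

lemma le_Ux {Y : Scheme.{u}} (V : ι → Y.Opens) {n : ℕ} (x : Fin (n + 1) → ι) (T : Y.Opens)
    (hT : ∀ a, T ≤ V (x a)) : T ≤ Ux V x :=
  (Pi.lift (fun a => homOfLE (hT a)) : T ⟶ ∏ᶜ (V ∘ x)).le

lemma hge {n : ℕ} (x : Fin (n + 1) → ι) : g' ⁻¹ᵁ (Ux U x) ≤ Ux (Up g' U) x :=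
  le_Ux (Up g' U) x _ (fun a => g'.preimage_mono (Ux_le U x a))

lemma hle {n : ℕ} (x : Fin (n + 1) → ι) : Ux (Up g' U) x ≤ g' ⁻¹ᵁ (Ux U x) := by
  intro x' hx'
  have h1 : ∀ a, g' x' ∈ U (x a) := fun a => Ux_le (Up g' U) x a hx'
  have h2 : g' x' ∈ (⨅ a, U (x a) : X.Opens) := by
    have : g' x' ∈ ((⨅ a, U (x a) : X.Opens) : Set X) := by
      rw [Opens.coe_iInf]
      exact Set.mem_iInter.2 h1
    exact this
  exact le_Ux U x _ (fun a => iInf_le _ a) h2

variable [Finite ι]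

open Classical in
/-- `B ⊗ ∏ = ∏ B ⊗` for the finite product of cochains -/
noncomputable def pR (n : ℕ) :
    B ⊗[A] CX A F U n ≃+ (∀ x : Fin (n + 1) → ι, B ⊗[A] SecA A F (Ux U x)) :=
  letI : Fintype (Fin (n + 1) → ι) := Fintype.ofFinite _
  (TensorProduct.piRight A A B (fun x : Fin (n + 1) → ι => SecA A F (Ux U x))).toAddEquiv

lemma pR_tmul (n : ℕ) (b : B) (c : CX A F U n) (x : Fin (n + 1) → ι) :
    pR A B F U n (b ⊗ₜ[A] c) x = b ⊗ₜ[A] c x := by
  classical
  letI : Fintype (Fin (n + 1) → ι) := Fintype.ofFinite _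
  exact congrFun (TensorProduct.piRight_apply A A B
    (fun x : Fin (n + 1) → ι => SecA A F (Ux U x)) (b ⊗ₜ[A] c)) x

/-- the base change map on Čech cochains -/
noncomputable def φ (n : ℕ) : B ⊗[A] CX A F U n →+ CX B (Fp g' F) (Up g' U) n where
  toFun t x := kapA A B g' h F (hle g' U x) (hge g' U x) (pR A B F U n t x)
  map_zero' := by
    funext x
    rw [map_zero]
    exact map_zero _
  map_add' t t' := by
    funext x
    rw [map_add]
    exact map_add _ _ _

lemma φ_apply (n : ℕ) (t : B ⊗[A] CX A F U n) (x : Fin (n + 1) → ι) :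
    φ A B g' h F U n t x = kapA A B g' h F (hle g' U x) (hge g' U x) (pR A B F U n t x) := rfl

lemma φ_tmul (n : ℕ) (b : B) (c : CX A F U n) (x : Fin (n + 1) → ι) :
    φ A B g' h F U n (b ⊗ₜ[A] c) x =
      b • (show SecA B (Fp g' F) (Ux (Up g' U) x) from
        unitSec g' F (hle g' U x) (show Γ(F, Ux U x) from c x)) := by
  rw [φ_apply, pR_tmul, kapA_tmul]

include h in
theorem φ_bijective [F.IsQuasicoherent] (hU : ∀ (n : ℕ) (x : Fin (n + 1) → ι), IsAffineOpen (Ux U x))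
    (n : ℕ) : Function.Bijective (φ A B g' h F U n) := by
  constructor
  · intro t t' htt
    apply (pR A B F U n).injective
    funext x
    exact (kapA_bijective A B g' h F (hle g' U x) (hge g' U x) (hU n x)).1 (congrFun htt x)
  · intro c
    choose s hs using fun x =>
      (kapA_bijective A B g' h F (hle g' U x) (hge g' U x) (hU n x)).2 (c x)
    refine ⟨(pR A B F U n).symm s, ?_⟩
    funext x
    rw [φ_apply, AddEquiv.apply_symm_apply]
    exact hs x

omit [Finite ι] in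
lemma unitSec_face {n : ℕ} (x : Fin (n + 2) → ι) (i : Fin (n + 2))
    (m : Γ(F, Ux U (x ∘ Fin.succAbove i))) :
    unitSec g' F (hle g' U x) (F.presheaf.map (face U x i).op m) =
      (Fp g' F).presheaf.map (face (Up g' U) x i).op
        (unitSec g' F (hle g' U (x ∘ Fin.succAbove i)) m) := by
  have e1 : face U x i = homOfLE (face U x i).le := Subsingleton.elim _ _
  have e2 : face (Up g' U) x i = homOfLE (face (Up g' U) x i).le := Subsingleton.elim _ _
  rw [e1, e2]
  exact (unitSec_res g' F (hle g' U (x ∘ Fin.succAbove i)) (hle g' U x) (face U x i).le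
    (face (Up g' U) x i).le m).symm

lemma φ_d (n : ℕ) (t : B ⊗[A] CX A F U n) :
    φ A B g' h F U (n + 1) ((dA A F U n).lTensor B t) =
      dA B (Fp g' F) (Up g' U) n (φ A B g' h F U n t) := by
  induction t with
  | zero => rw [map_zero, map_zero, map_zero, map_zero]
  | add t t' ht ht' => rw [map_add, map_add, ht, ht', map_add, map_add]
  | tmul b c =>
    funext x
    rw [LinearMap.lTensor_tmul, φ_tmul, dA_apply, dA_apply]
    have h1 : unitSec g' F (hle g' U x) (show Γ(F, Ux U x) from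
        ∑ i : Fin (n + 2), (-1 : ℤ) ^ (i : ℕ) • resA A F (face U x i) (c (x ∘ Fin.succAbove i))) =
        ∑ i : Fin (n + 2), (-1 : ℤ) ^ (i : ℕ) •
          (Fp g' F).presheaf.map (face (Up g' U) x i).op
            (unitSec g' F (hle g' U (x ∘ Fin.succAbove i))
              (show Γ(F, Ux U (x ∘ Fin.succAbove i)) from c (x ∘ Fin.succAbove i))) := by
      refine (map_sum (unitSec g' F (hle g' U x)) (fun i : Fin (n + 2) =>
        ((-1 : ℤ) ^ (i : ℕ) • (show Γ(F, Ux U x) from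
          resA A F (face U x i) (c (x ∘ Fin.succAbove i))))) Finset.univ).trans ?_
      refine Finset.sum_congr rfl (fun i _ => ?_)
      refine (map_zsmul (unitSec g' F (hle g' U x)) ((-1 : ℤ) ^ (i : ℕ)) _).trans ?_
      congr 1
      exact unitSec_face g' F U x i _
    refine (congrArg (fun z => b • (show SecA B (Fp g' F) (Ux (Up g' U) x) from z)) h1).trans ?_
    change b • (∑ i : Fin (n + 2), (-1 : ℤ) ^ (i : ℕ) •
      (show SecA B (Fp g' F) (Ux (Up g' U) x) from
        (Fp g' F).presheaf.map (face (Up g' U) x i).op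
          (unitSec g' F (hle g' U (x ∘ Fin.succAbove i))
            (show Γ(F, Ux U (x ∘ Fin.succAbove i)) from c (x ∘ Fin.succAbove i))))) = _
    rw [Finset.smul_sum]
    refine Finset.sum_congr rfl (fun i _ => ?_)
    rw [smul_comm, φ_tmul, map_smul]
    rfl

end Cx

section BC
variable (A B : Type u) [CommRing A] [CommRing B] [Algebra A B] {X X' : Scheme.{u}}
  [X.Over (Spec (CommRingCat.of A))] [X'.Over (Spec (CommRingCat.of B))] (g' : X' ⟶ X)
  (h : IsPullback g' (X' ↘ Spec (CommRingCat.of B)) (X ↘ Spec (CommRingCat.of A))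
    (Spec.map (CommRingCat.ofHom (algebraMap A B))))
  (F : X.Modules) {ι : Type u} (U : ι → X.Opens) [Finite ι]

/-- `B ⊗_A C(U, F)` as a complex of `A`-modules -/
noncomputable abbrev TB : CochainComplex (ModuleCat.{u} A) ℕ :=
  ((MonoidalCategory.tensorLeft (ModuleCat.of A B)).mapHomologicalComplex (ComplexShape.up ℕ)).obj
    (CA A F U)

/-- the base change isomorphism of Čech complexes (of underlying abelian groups) -/
noncomputable def Φ [F.IsQuasicoherent] (hU : ∀ (n : ℕ) (x : Fin (n + 1) → ι), IsAffineOpen (Ux U x)) :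
    ((F₂ (A := A)).mapHomologicalComplex (ComplexShape.up ℕ)).obj (TB A B F U) ≅
    ((F₂ (A := B)).mapHomologicalComplex (ComplexShape.up ℕ)).obj (CA B (Fp g' F) (Up g' U)) :=
  HomologicalComplex.Hom.isoOfComponents
    (fun n => (AddEquiv.ofBijective (φ A B g' h F U n)
      (φ_bijective A B g' h F U hU n)).toAddCommGrpIso)
    (by
      intro i j hij
      have : j = i + 1 := hij.symm
      subst this
      ext t
      change ((F₂ (A := B)).map ((CA B (Fp g' F) (Up g' U)).d i (i + 1))) (φ A B g' h F U i t) =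
        φ A B g' h F U (i + 1) ((F₂ (A := A)).map ((TB A B F U).d i (i + 1)) t)
      rw [CA_d]
      have e : (F₂ (A := A)).map ((TB A B F U).d i (i + 1)) t = (dA A F U i).lTensor B t := by
        change (MonoidalCategory.whiskerLeft (ModuleCat.of A B) ((CA A F U).d i (i + 1))).hom t = _
        rw [CA_d]
        rfl
      rw [e, φ_d]
      rfl)

omit [Finite ι] in
lemma isAffineOpen_Ux (hU : ∀ s : Finset ι, s.Nonempty → IsAffineOpen (⨅ i ∈ s, U i))
    (n : ℕ) (x : Fin (n + 1) → ι) : IsAffineOpen (Ux U x) := by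
  classical
  have := hU (Finset.image x Finset.univ) (Finset.image_nonempty.2 Finset.univ_nonempty)
  have e : (⨅ i ∈ Finset.image x Finset.univ, U i) = Ux U x := by
    apply le_antisymm
    · exact le_Ux U x _
        (fun a => iInf₂_le (x a) (Finset.mem_image.2 ⟨a, Finset.mem_univ a, rfl⟩))
    · refine le_iInf₂ fun i hi => ?_
      obtain ⟨k, -, rfl⟩ := Finset.mem_image.1 hi
      exact Ux_le U x k
  rwa [e] at this

include h in
omit [Finite ι] in
lemma isAffineOpen_preimage (W : X.Opens) (hW : IsAffineOpen W) : IsAffineOpen (g' ⁻¹ᵁ W) := by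
  have h1 := isAffineOpen_Vp (X ↘ Spec (CommRingCat.of A))
    (Spec.map (CommRingCat.ofHom (algebraMap A B))) g' (X' ↘ Spec (CommRingCat.of B)) h
    (hle_top _) (isAffineOpen_top (Spec (CommRingCat.of A)))
    (isAffineOpen_top (Spec (CommRingCat.of B)))
    (le_top : W ≤ (X ↘ Spec (CommRingCat.of A)) ⁻¹ᵁ ⊤) hW
  have e : Vp g' (X' ↘ Spec (CommRingCat.of B)) ⊤ W = g' ⁻¹ᵁ W :=
    le_antisymm inf_le_left (le_inf le_rfl le_top)
  rwa [e] at h1

omit [Finite ι] in
lemma preimage_biInf (s : Finset ι) : (⨅ i ∈ s, Up g' U i) = g' ⁻¹ᵁ (⨅ i ∈ s, U i) := by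
  apply le_antisymm
  · intro x' hx'
    have h2 : g' x' ∈ ((⨅ i : s, U i : X.Opens) : Set X) := by
      rw [Opens.coe_iInf]
      refine Set.mem_iInter.2 (fun i => ?_)
      have : (⨅ i ∈ s, Up g' U i) ≤ Up g' U i := iInf₂_le (i : ι) i.2
      exact this hx'
    have e : (⨅ i : s, U i : X.Opens) = ⨅ i ∈ s, U i := iInf_subtype'' s U
    rw [e] at h2
    exact h2
  · refine le_iInf₂ (fun i hi => g'.preimage_mono (iInf₂_le i hi))

include h in
/-- **Čech base change**: for a finite affine-intersection cover `U` of `X` and any `A`-algebra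
`B`, the cohomology of the pullback of `F` to `X' = X ×_A B` is the homology of `B ⊗_A C(U, F)`. -/
theorem nonempty_addEquiv_homology [F.IsQuasicoherent] (hcov : ⨆ i, U i = ⊤)
    (hU : ∀ s : Finset ι, s.Nonempty → IsAffineOpen (⨅ i ∈ s, U i)) (p : ℕ) :
    Nonempty (Coh.HH X' (Fp g' F) p ≃+ ↑((TB A B F U).homology p)) := by
  haveI : (Fp g' F).IsQuasicoherent :=
    Groth.Agent.Lib.Helper2.PullbackSec.isQuasicoherent_pullback g' F
  have hcov' : ⨆ i, Up g' U i = ⊤ := by
    rw [← Scheme.Hom.preimage_iSup, hcov]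
    rfl
  have hU' : ∀ s : Finset ι, s.Nonempty → IsAffineOpen (⨅ i ∈ s, Up g' U i) := by
    intro s hs
    rw [preimage_biInf]
    exact isAffineOpen_preimage A B g' h _ (hU s hs)
  obtain ⟨e1⟩ := nonempty_linearEquiv_homology B (Fp g' F) (Up g' U) hcov' hU' p
  exact ⟨e1.toAddEquiv.trans ((hEquiv (Φ A B g' h F U (isAffineOpen_Ux U hU)) p).symm.trans
    (fIso (TB A B F U) p).addCommGroupIsoToAddEquiv)⟩

end BC

end Groth.Agent.Lib.Helper21.CechBC
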