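import Mathlib

/-!
# `mapHomologicalComplex` commutes with `extend` (helper21)
-/
set_option autoImplicit false
universe u
open CategoryTheory CategoryTheory.Limits

namespace Groth.Agent.Lib.Helper21.ExtMap

variable {V W : Type*} [Category V] [Category W] [HasZeroMorphisms V] [HasZeroMorphisms W]
  [HasZeroObject V] [HasZeroObject W] {ι ι' : Type*} {c : ComplexShape ι} {c' : ComplexShape ι'}
  (e : c.Embedding c') (G : V ⥤ W) [G.PreservesZeroMorphisms] (K : HomologicalComplex V c)

/-- components of `mapExtendIso` -/
noncomputable def compIso : ∀ o : Option ι, G.obj (HomologicalComplex.extend.X K o) ≅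
    HomologicalComplex.extend.X ((G.mapHomologicalComplex c).obj K) o
  | some _ => Iso.refl _
  | none => G.mapZeroObject

lemma comm (o o' : Option ι) :
    G.map (HomologicalComplex.extend.d K o o') ≫ (compIso G K o').hom =
      (compIso G K o).hom ≫ HomologicalComplex.extend.d ((G.mapHomologicalComplex c).obj K) o o' :=
  match o, o' with
  | none, _ => by
      simp only [HomologicalComplex.extend.d_none_eq_zero, Functor.map_zero, zero_comp, comp_zero]
  | some i, some j => by
      change G.map (K.d i j) ≫ 𝟙 _ = 𝟙 _ ≫ G.map (K.d i j)
      rw [Category.comp_id, Category.id_comp]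
  | some _, none => by
      simp only [HomologicalComplex.extend.d_none_eq_zero', Functor.map_zero, zero_comp, comp_zero]

/-- applying a functor termwise commutes with extension by zero -/
noncomputable def mapExtendIso :
    (G.mapHomologicalComplex c').obj (K.extend e) ≅
      ((G.mapHomologicalComplex c).obj K).extend e :=
  HomologicalComplex.Hom.isoOfComponents (fun i' => compIso G K (e.r i'))
    (fun i' j' _ => (comm G K (e.r i') (e.r j')).symm)

end Groth.Agent.Lib.Helper21.ExtMap
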