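import Mathlib
import Groth.Agent.Lib.Helper1TorD
import Groth.Agent.Lib.Helper1PC

/-!
# Universally exact complexes (helper21)

`Lemma U`: an exact complex of flat modules which is exact after tensoring with every `A ⧸ I` in
high degrees stays exact after tensoring with every module.
`Lemma V`: a quasi-isomorphism from a bounded above flat complex to a flat complex which is
universally exact in high degrees stays a quasi-isomorphism after tensoring.
-/
set_option autoImplicit false
universe u
open CategoryTheory CategoryTheory.Limits MonoidalCategory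
attribute [local instance] HasDerivedCategory.standard

namespace Groth.Agent.Lib.Helper21.MumA

open DerivedCategory Pretriangulated Groth.Agent.Lib.Helper1.Tor

variable {R : Type u} [CommRing R]

/-- ranges of the differentials of an exact flat complex, universally exact in high degrees, are
flat. -/
lemma flat_range_d (K : DRing.Cx R) (hflat : DRing.TermwiseFlat K) (hex : ∀ j : ℤ, K.ExactAt j)
    (N : ℤ) (hN : ∀ (I : Ideal R) (j : ℤ), N < j →
      ((TC (ModuleCat.of R (R ⧸ I))).obj K).ExactAt j) :
    ∀ i : ℤ, Module.Flat R (LinearMap.range (K.d i (i + 1)).hom) := by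
  have key : ∀ (k : ℕ) (i : ℤ), N + 3 ≤ i + k →
      Module.Flat R (LinearMap.range (K.d i (i + 1)).hom) := by
    intro k
    induction k with
    | zero =>
      intro i hi
      have := hflat i
      have h1 := (exactAt_iff_fexact K (i - 1) i (i + 1) (by lia) rfl).1 (hex i)
      have h2 := (exactAt_iff_fexact K (i - 1 - 1) (i - 1) i (by lia) (by lia)).1 (hex (i - 1))
      refine flat_of_forall_exact_lTensor (K.d (i - 1 - 1) (i - 1)).hom (K.d (i - 1) i).hom
        (K.d i (i + 1)).hom.rangeRestrict (LinearMap.surjective_rangeRestrict _) ?_ h2 ?_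
      · intro x
        rw [← h1 x]
        constructor
        · intro hx
          exact congrArg Subtype.val hx
        · intro hx
          exact Subtype.ext hx
      · intro I
        have h3 := hN I (i - 1) (by push_cast at hi; lia)
        rw [exactAt_TC_iff _ K (i - 1 - 1) (i - 1) i (by lia) (by lia)] at h3
        exact h3
    | succ k ih =>
      intro i hi
      have h1 : Module.Flat R (LinearMap.range (K.d (i + 1) (i + 1 + 1)).hom) :=
        ih (i + 1) (by push_cast at hi; lia)
      have h2 := (exactAt_iff_fexact K i (i + 1) (i + 1 + 1) rfl rfl).1 (hex (i + 1))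
      have := hflat (i + 1)
      exact flat_range_of_exact _ _ h2
  intro i
  exact key (N + 3 - i).toNat i (by lia)

/-- **Lemma U** -/
theorem exactAt_TC_of_univ (K : DRing.Cx R) (hflat : DRing.TermwiseFlat K)
    (hex : ∀ j : ℤ, K.ExactAt j) (N : ℤ)
    (hN : ∀ (I : Ideal R) (j : ℤ), N < j → ((TC (ModuleCat.of R (R ⧸ I))).obj K).ExactAt j)
    (M : ModuleCat.{u} R) (j : ℤ) : ((TC M).obj K).ExactAt j := by
  rw [exactAt_TC_iff M K (j - 1) j (j + 1) (by lia) rfl]
  have h1 := (exactAt_iff_fexact K (j - 1) j (j + 1) (by lia) rfl).1 (hex j)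
  have h2 := (exactAt_iff_fexact K j (j + 1) (j + 1 + 1) rfl rfl).1 (hex (j + 1))
  have := flat_range_d K hflat hex N hN (j + 1)
  exact exact_lTensor_of_flat_range _ _ _ h1 h2 M

/-- the cone of a map from a complex vanishing above `b` to a complex exact above `N` is exact
above `max b N`. -/
lemma exactAt_mappingCone {P E : DRing.Cx R} (f : P ⟶ E) (b N : ℤ)
    (hP : DRing.VanishesAbove P b) (hE : ∀ j : ℤ, N < j → E.ExactAt j) (j : ℤ) (hj : max b N < j) :
    (CochainComplex.mappingCone f).ExactAt j := by
  have hb : b < j := lt_of_le_of_lt (le_max_left b N) hj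
  have hN : N < j := lt_of_le_of_lt (le_max_right b N) hj
  have hT := DerivedCategory.mappingCone_triangle_distinguished f
  have h1 : (Q.obj E).IsLE (j - 1) := by
    rw [DerivedCategory.isLE_Q_obj_iff, CochainComplex.isLE_iff]
    intro i hi
    exact hE i (by lia)
  have h2 : (Q.obj P).IsLE j := by
    rw [DerivedCategory.isLE_Q_obj_iff, CochainComplex.isLE_iff]
    intro i hi
    exact exactAt_of_isZero_X P i (hP i (by lia))
  have h3 : ((Q.obj P)⟦(1 : ℤ)⟧).IsLE (j - 1) :=
    DerivedCategory.TStructure.t.isLE_shift (Q.obj P) j 1 (j - 1) (by lia)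
  have h4 : (Q.obj (CochainComplex.mappingCone f)).IsLE (j - 1) :=
    DerivedCategory.TStructure.t.isLE₂ _ (rot_of_distTriang _ hT) (j - 1) h1 h3
  rw [DerivedCategory.isLE_Q_obj_iff, CochainComplex.isLE_iff] at h4
  exact h4 j (by lia)

/-- **Lemma V** -/
theorem isIso_Q_map_TC_of_univ {P E : DRing.Cx R} (f : P ⟶ E) (b N : ℤ)
    (hPb : DRing.VanishesAbove P b) (hP : DRing.TermwiseFlat P) (hE : DRing.TermwiseFlat E)
    (hN : ∀ (M : ModuleCat.{u} R) (j : ℤ), N < j → ((TC M).obj E).ExactAt j)
    (hf : IsIso (Q.map f)) (M : ModuleCat.{u} R) : IsIso (Q.map ((TC M).map f)) := by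
  have hT := DerivedCategory.mappingCone_triangle_distinguished f
  have hz : IsZero (Q.obj (CochainComplex.mappingCone f)) :=
    (Triangle.isZero₃_iff_isIso₁ _ hT).2 hf
  have hex : ∀ j : ℤ, (CochainComplex.mappingCone f).ExactAt j := exactAt_of_isZero_Q _ hz
  have hcone : ∀ (M : ModuleCat.{u} R) (j : ℤ), max b N < j →
      ((TC M).obj (CochainComplex.mappingCone f)).ExactAt j := by
    intro M j hj
    have e := CochainComplex.mappingCone.mapHomologicalComplexIso f (T M)
    have h1 : (CochainComplex.mappingCone ((TC M).map f)).ExactAt j :=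
      exactAt_mappingCone ((TC M).map f) b N
        (fun i hi => (T M).map_isZero (hPb i hi)) (hN M) j hj
    exact exactAt_of_Q_iso (Q.mapIso e).symm j h1
  have hex' : ∀ j : ℤ, ((TC M).obj (CochainComplex.mappingCone f)).ExactAt j := fun j =>
    exactAt_TC_of_univ _ (termwiseFlat_mappingCone f hP hE) hex (max b N)
      (fun I j hj => hcone _ j hj) M j
  have hz' : IsZero (Q.obj ((TC M).obj (CochainComplex.mappingCone f))) := isZero_Q_of_exactAt _ hex'
  have e := CochainComplex.mappingCone.mapHomologicalComplexIso f (T M)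
  have hz'' : IsZero (Q.obj (CochainComplex.mappingCone ((TC M).map f))) :=
    hz'.of_iso (Q.mapIso e).symm
  have hT' := DerivedCategory.mappingCone_triangle_distinguished ((TC M).map f)
  exact (Triangle.isZero₃_iff_isIso₁ _ hT').1 hz''

end Groth.Agent.Lib.Helper21.MumA
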