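import Mathlib
import Groth.Agent.Lib.Helper21MumA
import Groth.Agent.Lib.Helper1Fibres
import Groth.Agent.Lib.Helper1TorG
import Groth.Agent.Lib.Helper1LBC
import Groth.Agent.S6942
import Groth.Agent.S2066

/-!
# Mumford's lemma: a perfect complex computing the tensored homology universally (helper21)
-/
set_option autoImplicit false
universe u
open CategoryTheory CategoryTheory.Limits MonoidalCategory
attribute [local instance] HasDerivedCategory.standard

namespace Groth.Agent.Lib.Helper21.MumB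

open DerivedCategory Pretriangulated Groth.Agent.Lib.Helper1.Tor Groth.Agent.Lib.Helper21.MumA
  Groth.Agent.Lib.Helper1.LDer Groth.Agent.Lib.Helper1.LocalCx Groth.Agent.Lib.Helper1.Cone

variable {R : Type u} [CommRing R]

/-- `R ⧸ m` with its two `R`-module structures -/
noncomputable def quotIso (m : Ideal R) :
    (ModuleCat.restrictScalars.{u} (Ideal.Quotient.mk m)).obj (ModuleCat.of (R ⧸ m) (R ⧸ m)) ≅
      ModuleCat.of R (R ⧸ m) :=
  LinearEquiv.toModuleIso
    { toFun := fun x => x
      invFun := fun x => x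
      left_inv := fun _ => rfl
      right_inv := fun _ => rfl
      map_add' := fun _ _ => rfl
      map_smul' := fun _ _ => rfl }

/-- homology of `Q.obj K` -/
noncomputable def hIso (K : DRing.Cx R) (i : ℤ) :
    (DerivedCategory.homologyFunctor (ModuleCat.{u} R) i).obj (Q.obj K) ≅ K.homology i :=
  (DerivedCategory.homologyFunctorFactors (ModuleCat.{u} R) i).app K

theorem isPseudoCoherent' [IsNoetherianRing R] (K : DRing.Cx R)
    (hfin : ∀ i : ℤ, Module.Finite R (K.homology i)) (b : ℤ) (hb : ∀ j : ℤ, b < j → K.ExactAt j) :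
    DRing.IsPseudoCoherent' R (DRing.toD K) := by
  refine ((Groth.Agent.S2066.result (DRing.toD K)).1).1 (fun m => ?_)
  refine ((Groth.Agent.S6942.result R m (DRing.toD K) R).1).2 ⟨⟨b, fun i hi => ?_⟩, fun i _ => ?_⟩
  · have h1 := (exactAt_iff_isZero_H K i).1 (hb i hi)
    exact ModuleCat.subsingleton_of_isZero h1
  · have := hfin i
    exact Module.Finite.equiv (hIso K i).toLinearEquiv.symm

/-- **Mumford's lemma** -/
theorem exists_perfect_univ [IsNoetherianRing R] (K : DRing.Cx R) (hflat : DRing.TermwiseFlat K)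
    (hfin : ∀ i : ℤ, Module.Finite R (K.homology i))
    (N : ℤ) (hN : ∀ (M : ModuleCat.{u} R) (j : ℤ), N < j → ((TC M).obj K).ExactAt j)
    (a b : ℤ) (hb : ∀ j : ℤ, b < j → K.ExactAt j)
    (ha : ∀ (m : Ideal R) [m.IsMaximal] (j : ℤ), j < a →
      ((TC (ModuleCat.of R (R ⧸ m))).obj K).ExactAt j) :
    ∃ (L : DRing.Cx R) (ψ : L ⟶ K), DRing.VanishesOutside L a b ∧
      DRing.TermwiseFiniteProjective L ∧ ∀ M : ModuleCat.{u} R, IsIso (Q.map ((TC M).map ψ)) := by
  obtain ⟨F, bF, hFb, hFf, ⟨eF⟩⟩ := isPseudoCoherent' K hfin b hb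
  have hFflat : DRing.TermwiseFlat F := fun i =>
    have := (hFf i).2
    inferInstance
  haveI : F.IsKProjective := isKProjective_of_vanishesAbove F bF hFb (fun i =>
    have := (hFf i).2
    inferInstance)
  obtain ⟨f, hf⟩ := exists_chain_map F K eF.hom
  have hfi : IsIso (Q.map f) := by
    rw [hf]
    infer_instance
  have hfM : ∀ M : ModuleCat.{u} R, IsIso (Q.map ((TC M).map f)) :=
    isIso_Q_map_TC_of_univ f bF N hFb hFflat hflat hN hfi
  have hFex : ∀ j : ℤ, b < j → F.ExactAt j := fun j hj =>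
    exactAt_of_Q_iso (asIso (Q.map f)).symm j (hb j hj)
  have hfib : ∀ (m : Ideal R) [m.IsMaximal] (i : ℤ), (i < a ∨ b < i) →
      ((bcCx (Ideal.Quotient.mk m)).obj F).ExactAt i := by
    intro m _ i hi
    rw [exactAt_bc_iff_TC, exactAt_TC_congr (quotIso m)]
    rcases hi with hi | hi
    · have := hfM (ModuleCat.of R (R ⧸ m))
      exact exactAt_of_Q_iso (asIso (Q.map ((TC (ModuleCat.of R (R ⧸ m))).map f))).symm i
        (ha m i hi)
    · exact exactAt_TC_of_flat F bF hFb hFflat b hFex _ i hi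
  have hTA : DRing.HasTorAmplitudeIn R a b (DRing.toD F) :=
    hasTorAmp_of_fibres F bF hFb hFf a b hfib
  obtain ⟨E, hE, hEf, ⟨eE⟩⟩ := exists_finiteProjective_of_pc_of_torAmp (DRing.toD F)
    ⟨F, bF, hFb, hFf, ⟨Iso.refl _⟩⟩ a b hTA
  have hEb : DRing.VanishesAbove E b := fun i hi => hE i (Or.inr hi)
  have hEflat : DRing.TermwiseFlat E := fun i =>
    have := (hEf i).2
    inferInstance
  haveI : E.IsKProjective := isKProjective_of_vanishesAbove E b hEb (fun i => (hEf i).2)
  obtain ⟨g, hg⟩ := exists_chain_map E F eE.hom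
  have hgi : IsIso (Q.map g) := by
    rw [hg]
    infer_instance
  refine ⟨E, g ≫ f, hE, hEf, fun M => ?_⟩
  have h1 := isIso_Q_map_TC g b bF hEb hFb hEflat hFflat hgi M
  have h2 := hfM M
  rw [Functor.map_comp, Functor.map_comp]
  infer_instance

end Groth.Agent.Lib.Helper21.MumB
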