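import Mathlib
import Groth.Agent.Lib.Helper21MumB
import Groth.Agent.Lib.Helper21ExtMap
import Groth.Prelude.Def_ega3

/-!
# Mumford's lemma for `ℕ`-indexed complexes (helper21)
-/
set_option autoImplicit false
universe u
open CategoryTheory CategoryTheory.Limits MonoidalCategory
attribute [local instance] HasDerivedCategory.standard

namespace Groth.Agent.Lib.Helper21.MumC

open DerivedCategory Groth.Agent.Lib.Helper1.Tor Groth.Agent.Lib.Helper21.MumB
  Groth.Agent.Lib.Helper21.ExtMap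

variable {R : Type u} [CommRing R]

/-- the embedding `ℕ → ℤ` -/
abbrev eN : (ComplexShape.up ℕ).Embedding (ComplexShape.up ℤ) := ComplexShape.embeddingUpNat

/-- `M ⊗ C` for an `ℕ`-indexed complex -/
noncomputable abbrev TL (M : ModuleCat.{u} R) (C : CochainComplex (ModuleCat.{u} R) ℕ) :
    CochainComplex (ModuleCat.{u} R) ℕ :=
  ((tensorLeft M).mapHomologicalComplex (ComplexShape.up ℕ)).obj C

variable (C : CochainComplex (ModuleCat.{u} R) ℕ)

/-- the extension by zero to a `ℤ`-indexed complex -/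
noncomputable abbrev CZ : DRing.Cx R := C.extend eN

/-- `M ⊗ CZ = (M ⊗ C)Z` -/
noncomputable def κ (M : ModuleCat.{u} R) : (TC M).obj (CZ C) ≅ (TL M C).extend eN :=
  mapExtendIso eN (tensorLeft M) C

lemma exactAt_TC_CZ_iff (M : ModuleCat.{u} R) (p : ℕ) :
    ((TC M).obj (CZ C)).ExactAt (p : ℤ) ↔ (TL M C).ExactAt p := by
  rw [← (TL M C).extend_exactAt_iff eN (rfl : eN.f p = (p : ℤ))]
  exact ⟨fun h => h.of_iso (κ C M), fun h => h.of_iso (κ C M).symm⟩

lemma exactAt_TC_CZ_neg (M : ModuleCat.{u} R) (j : ℤ) (hj : j < 0) :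
    ((TC M).obj (CZ C)).ExactAt j := by
  have h : ((TL M C).extend eN).ExactAt j := (TL M C).extend_exactAt eN j (fun n hn => by
    have : (n : ℤ) = j := hn
    lia)
  exact h.of_iso (κ C M).symm

lemma exactAt_CZ_iff (p : ℕ) : (CZ C).ExactAt (p : ℤ) ↔ C.ExactAt p :=
  C.extend_exactAt_iff eN (rfl : eN.f p = (p : ℤ))

lemma exactAt_CZ_neg (j : ℤ) (hj : j < 0) : (CZ C).ExactAt j :=
  C.extend_exactAt eN j (fun n hn => by
    have : (n : ℤ) = j := hn
    lia)

lemma termwiseFlat_CZ (hflat : ∀ n, Module.Flat R (C.X n)) : DRing.TermwiseFlat (CZ C) := by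
  intro i
  by_cases hi : 0 ≤ i
  · obtain ⟨n, rfl⟩ := Int.eq_ofNat_of_zero_le hi
    have := hflat n
    exact Module.Flat.of_linearEquiv (C.extendXIso eN (rfl : eN.f n = (n : ℤ))).toLinearEquiv
  · have hz : IsZero ((CZ C).X i) := C.isZero_extend_X eN i (fun n hn => by
      have : (n : ℤ) = i := hn
      lia)
    have := ModuleCat.subsingleton_of_isZero hz
    infer_instance

lemma finite_homology_CZ (hfin : ∀ p, Module.Finite R (C.homology p)) (i : ℤ) :
    Module.Finite R ((CZ C).homology i) := by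
  by_cases hi : 0 ≤ i
  · obtain ⟨n, rfl⟩ := Int.eq_ofNat_of_zero_le hi
    have := hfin n
    exact Module.Finite.equiv (C.extendHomologyIso eN (rfl : eN.f n = (n : ℤ))).toLinearEquiv.symm
  · have hz : IsZero ((CZ C).homology i) :=
      (HomologicalComplex.exactAt_iff_isZero_homology _ _).1 (exactAt_CZ_neg C i (by lia))
    have := ModuleCat.subsingleton_of_isZero hz
    infer_instance

/-- the homology of `M ⊗ CZ` -/
noncomputable def homologyIso (M : ModuleCat.{u} R) (p : ℕ) :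
    ((TC M).obj (CZ C)).homology (p : ℤ) ≅ (TL M C).homology p :=
  (HomologicalComplex.homologyFunctor _ _ (p : ℤ)).mapIso (κ C M) ≪≫
    (TL M C).extendHomologyIso eN (rfl : eN.f p = (p : ℤ))

/-- `M ⊗ L ≅ L ⊗ M` for complexes -/
noncomputable def braidCx (L : DRing.Cx R) (M : ModuleCat.{u} R) :
    (TC M).obj L ≅ CohIII.tensorObj L M :=
  (NatIso.mapHomologicalComplex (BraidedCategory.tensorLeftIsoTensorRight M)
    (ComplexShape.up ℤ)).app L

/-- **Mumford's lemma**, `ℕ`-indexed form. -/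
theorem main [IsNoetherianRing R] (hflat : ∀ n, Module.Flat R (C.X n))
    (hfin : ∀ p, Module.Finite R (C.homology p))
    (N : ℕ) (hN : ∀ (M : ModuleCat.{u} R) (p : ℕ), N ≤ p → (TL M C).ExactAt p)
    (a b : ℤ) (hb : ∀ p : ℕ, b < (p : ℤ) → C.ExactAt p)
    (ha : ∀ (m : Ideal R) [m.IsMaximal] (p : ℕ), (p : ℤ) < a →
      (TL (ModuleCat.of R (R ⧸ m)) C).ExactAt p) :
    ∃ L : DRing.Cx R, DRing.VanishesOutside L a b ∧ DRing.TermwiseFiniteProjective L ∧
      ∀ (M : ModuleCat.{u} R) (p : ℕ),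
        Nonempty ((TL M C).homology p ≅ CohIII.T L (p : ℤ) M) := by
  obtain ⟨L, ψ, hL, hLf, hψ⟩ := exists_perfect_univ (CZ C) (termwiseFlat_CZ C hflat)
    (finite_homology_CZ C hfin) ((N : ℤ) - 1)
    (fun M j hj => by
      obtain ⟨n, rfl⟩ := Int.eq_ofNat_of_zero_le (show 0 ≤ j by lia)
      exact (exactAt_TC_CZ_iff C M n).2 (hN M n (by lia)))
    a b
    (fun j hj => by
      by_cases h0 : 0 ≤ j
      · obtain ⟨n, rfl⟩ := Int.eq_ofNat_of_zero_le h0
        exact (exactAt_CZ_iff C n).2 (hb n hj)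
      · exact exactAt_CZ_neg C j (by lia))
    (fun m _ j hj => by
      by_cases h0 : 0 ≤ j
      · obtain ⟨n, rfl⟩ := Int.eq_ofNat_of_zero_le h0
        exact (exactAt_TC_CZ_iff C _ n).2 (ha m n hj)
      · exact exactAt_TC_CZ_neg C _ j (by lia))
  refine ⟨L, hL, hLf, fun M p => ?_⟩
  have := hψ M
  have hq : QuasiIso ((TC M).map ψ) :=
    (DerivedCategory.isIso_Q_map_iff_quasiIso (φ := (TC M).map ψ)).1 this
  have hq' : QuasiIsoAt ((TC M).map ψ) (p : ℤ) := hq.quasiIsoAt _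
  have e1 : ((TC M).obj L).homology (p : ℤ) ≅ ((TC M).obj (CZ C)).homology (p : ℤ) :=
    isoOfQuasiIsoAt ((TC M).map ψ) (p : ℤ)
  have e2 : ((TC M).obj L).homology (p : ℤ) ≅ CohIII.T L (p : ℤ) M :=
    (HomologicalComplex.homologyFunctor _ _ (p : ℤ)).mapIso (braidCx L M)
  exact ⟨(homologyIso C M p).symm ≪≫ e1.symm ≪≫ e2⟩

end Groth.Agent.Lib.Helper21.MumC
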