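import Mathlib
import Groth.Agent.Lib.Helper21CechBC
import Groth.Agent.Lib.Helper21MumC
import Groth.Agent.Lib.Helper4SepSpec
import Groth.Agent.Lib.Helper26ModLim
import Groth.Agent.S0010
import Groth.Agent.S0002

/-!
# Geometric input for Mumford's lemma (helper21)
-/
set_option autoImplicit false
universe u
open CategoryTheory CategoryTheory.Limits MonoidalCategory AlgebraicGeometry TensorProduct

namespace Groth.Agent.Lib.Helper21.MumD

open Groth.Agent.Lib.Helper16.CechLow Groth.Agent.Lib.Helper21.CechMod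
  Groth.Agent.Lib.Helper21.CechBC Groth.Agent.Lib.Helper21.MumC

section Flat
variable (A : Type u) [CommRing A] {X : Scheme.{u}} [X.Over (Spec (CommRingCat.of A))]
  (F : X.Modules)

lemma ringA_eq (V : X.Opens) :
    ringA A V = (Groth.Agent.Lib.Helper4.UnivSep.specStr (CommRingCat.of A)
      (X ↘ Spec (CommRingCat.of A)) V).hom := by
  ext a
  rfl

theorem flat_SecA [F.IsQuasicoherent]
    (hfl : FlatMod.IsFlatOver (X ↘ Spec (CommRingCat.of A)) F) {V : X.Opens}
    (hV : IsAffineOpen V) : Module.Flat A (SecA A F V) := by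
  have h := Groth.Agent.Lib.Helper4.UnivSep.flat_sections_spec (CommRingCat.of A)
    (X ↘ Spec (CommRingCat.of A)) F hfl hV
  have e : (inferInstance : Module A (SecA A F V)) =
      Module.compHom Γ(F, V) (Groth.Agent.Lib.Helper4.UnivSep.specStr (CommRingCat.of A)
        (X ↘ Spec (CommRingCat.of A)) V).hom := by
    change Module.compHom Γ(F, V) (ringA A V) = _
    rw [ringA_eq]
  change @Module.Flat A (SecA A F V) _ _ inferInstance
  rw [e]
  exact h

variable {ι : Type u} (U : ι → X.Opens) [Finite ι]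

theorem flat_CX [F.IsQuasicoherent]
    (hfl : FlatMod.IsFlatOver (X ↘ Spec (CommRingCat.of A)) F)
    (hU : ∀ (n : ℕ) (x : Fin (n + 1) → ι), IsAffineOpen (Ux U x)) (n : ℕ) :
    Module.Flat A (CX A F U n) := by
  classical
  letI : Fintype (Fin (n + 1) → ι) := Fintype.ofFinite _
  haveI : ∀ x : Fin (n + 1) → ι, Module.Flat A (SecA A F (Ux U x)) :=
    fun x => flat_SecA A F hfl (hU n x)
  exact Module.Flat.of_linearEquiv
    (DFinsupp.linearEquivFunOnFintype (R := A)
      (M := fun x : Fin (n + 1) → ι => SecA A F (Ux U x))).symm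

end Flat

section Van
variable (A B : Type u) [CommRing A] [CommRing B] [Algebra A B] {X X' : Scheme.{u}}
  [X.Over (Spec (CommRingCat.of A))] [X'.Over (Spec (CommRingCat.of B))] (g' : X' ⟶ X)
  (h : IsPullback g' (X' ↘ Spec (CommRingCat.of B)) (X ↘ Spec (CommRingCat.of A))
    (Spec.map (CommRingCat.ofHom (algebraMap A B))))
  (F : X.Modules) {ι : Type u} (U : ι → X.Opens) [Finite ι]

include h in
theorem exactAt_TB_of_subsingleton [F.IsQuasicoherent] (hcov : ⨆ i, U i = ⊤)
    (hU : ∀ s : Finset ι, s.Nonempty → IsAffineOpen (⨅ i ∈ s, U i)) (p : ℕ)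
    (hs : Subsingleton (Coh.HH X' (Fp g' F) p)) : (TB A B F U).ExactAt p := by
  obtain ⟨e⟩ := nonempty_addEquiv_homology A B g' h F U hcov hU p
  rw [HomologicalComplex.exactAt_iff_isZero_homology]
  haveI : Subsingleton ↑((TB A B F U).homology p) := e.symm.injective.subsingleton
  exact ModuleCat.isZero_of_subsingleton _

include h in
theorem subsingleton_of_exactAt_TB [F.IsQuasicoherent] (hcov : ⨆ i, U i = ⊤)
    (hU : ∀ s : Finset ι, s.Nonempty → IsAffineOpen (⨅ i ∈ s, U i)) (p : ℕ)
    (hs : (TB A B F U).ExactAt p) : Subsingleton (Coh.HH X' (Fp g' F) p) := by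
  obtain ⟨e⟩ := nonempty_addEquiv_homology A B g' h F U hcov hU p
  rw [HomologicalComplex.exactAt_iff_isZero_homology] at hs
  haveI : Subsingleton ↑((TB A B F U).homology p) := ModuleCat.subsingleton_of_isZero hs
  exact e.injective.subsingleton

include h in
/-- vanishing of the cohomology of the base change above the number of affines -/
theorem subsingleton_HH_pullback [F.IsQuasicoherent] [IsSeparated (X ↘ Spec (CommRingCat.of A))]
    (hcov : ⨆ i, U i = ⊤) (hU : ∀ i, IsAffineOpen (U i)) (p : ℕ) (hp : Nat.card ι ≤ p) :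
    Subsingleton (Coh.HH X' (Fp g' F) p) := by
  haveI : (Fp g' F).IsQuasicoherent :=
    Groth.Agent.Lib.Helper2.PullbackSec.isQuasicoherent_pullback g' F
  haveI : IsSeparated (X' ↘ Spec (CommRingCat.of B)) :=
    MorphismProperty.of_isPullback h inferInstance
  let e := Finite.equivFin ι
  refine Groth.Agent.S0010.result X' (Nat.card ι) (fun k => Up g' U (e.symm k))
    (fun k => isAffineOpen_preimage A B g' h _ (hU _)) ?_ ?_ (Fp g' F) p hp
  · have h1 : ⨆ i, Up g' U i = ⊤ := by
      rw [← Scheme.Hom.preimage_iSup, hcov]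
      rfl
    rw [← h1]
    exact e.symm.iSup_comp (g := fun i => Up g' U i)
  · intro V W hV hW
    exact isAffineHom_diagonal_iff.mp
      (inferInstance : IsAffineHom (pullback.diagonal (X' ↘ Spec (CommRingCat.of B)))) ⊤
      (isAffineOpen_top _) V le_top W le_top hV hW

end Van

section Retract
variable {R : Type u} [CommRing R]

/-- functoriality of `TL` in the module -/
noncomputable abbrev TLmap {M M' : ModuleCat.{u} R} (g : M ⟶ M')
    (C : CochainComplex (ModuleCat.{u} R) ℕ) : TL M C ⟶ TL M' C :=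
  (NatTrans.mapHomologicalComplex ((tensoringLeft (ModuleCat.{u} R)).map g)
    (ComplexShape.up ℕ)).app C

lemma exactAt_TL_of_retract {M B : ModuleCat.{u} R} (i : M ⟶ B) (r : B ⟶ M) (hir : i ≫ r = 𝟙 M)
    (C : CochainComplex (ModuleCat.{u} R) ℕ) (p : ℕ) (h : (TL B C).ExactAt p) :
    (TL M C).ExactAt p := by
  rw [HomologicalComplex.exactAt_iff_isZero_homology] at h ⊢
  rw [IsZero.iff_id_eq_zero]
  have h1 : TLmap i C ≫ TLmap r C = 𝟙 (TL M C) := by
    apply HomologicalComplex.hom_ext
    intro n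
    change (i ▷ C.X n) ≫ (r ▷ C.X n) = 𝟙 _
    rw [← comp_whiskerRight, hir, id_whiskerRight]
  have h2 : HomologicalComplex.homologyMap (TLmap i C) p ≫
      HomologicalComplex.homologyMap (TLmap r C) p = 𝟙 _ := by
    rw [← HomologicalComplex.homologyMap_comp, h1, HomologicalComplex.homologyMap_id]
  rw [← h2, h.eq_of_tgt (HomologicalComplex.homologyMap (TLmap i C) p) 0, zero_comp]

lemma exactAt_TL_congr {M M' : ModuleCat.{u} R} (e : M ≅ M')
    (C : CochainComplex (ModuleCat.{u} R) ℕ) (p : ℕ) :
    (TL M C).ExactAt p ↔ (TL M' C).ExactAt p :=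
  ⟨exactAt_TL_of_retract e.inv e.hom e.inv_hom_id C p,
    exactAt_TL_of_retract e.hom e.inv e.hom_inv_id C p⟩

end Retract

section Ideal
variable (A : Type u) [CommRing A] {X : Scheme.{u}} [X.Over (Spec (CommRingCat.of A))]
  (F : X.Modules) {ι : Type u} (U : ι → X.Opens) [Finite ι]

/-- universal exactness of the Čech complex above the number of affines (idealization trick) -/
theorem exactAt_TL_of_le [F.IsQuasicoherent] [IsSeparated (X ↘ Spec (CommRingCat.of A))]
    (hcov : ⨆ i, U i = ⊤) (hU : ∀ s : Finset ι, s.Nonempty → IsAffineOpen (⨅ i ∈ s, U i))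
    (hU1 : ∀ i, IsAffineOpen (U i))
    (M : ModuleCat.{u} A) (p : ℕ) (hp : Nat.card ι ≤ p) : (TL M (CA A F U)).ExactAt p := by
  letI : Module Aᵐᵒᵖ M := Module.compHom M ((RingHom.id A).fromOpposite mul_comm)
  haveI : IsCentralScalar A M := ⟨fun a n => rfl⟩
  letI : (pullback (X ↘ Spec (CommRingCat.of A))
      (Spec.map (CommRingCat.ofHom (algebraMap A (TrivSqZeroExt A M))))).Over
      (Spec (CommRingCat.of (TrivSqZeroExt A M))) := ⟨pullback.snd _ _⟩
  have h := IsPullback.of_hasPullback (X ↘ Spec (CommRingCat.of A))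
    (Spec.map (CommRingCat.ofHom (algebraMap A (TrivSqZeroExt A M))))
  have hs := subsingleton_HH_pullback A (TrivSqZeroExt A M) (pullback.fst _ _) h F U hcov hU1 p hp
  have hex := exactAt_TB_of_subsingleton A (TrivSqZeroExt A M) (pullback.fst _ _) h F U hcov hU p hs
  refine exactAt_TL_of_retract (B := ModuleCat.of A (TrivSqZeroExt A M))
    (ModuleCat.ofHom (TrivSqZeroExt.inrHom A M)) (ModuleCat.ofHom (TrivSqZeroExt.sndHom A M)) ?_
    _ p hex
  ext m
  rfl

end Ideal

section Fibre
variable (A : Type u) [CommRing A] {X : Scheme.{u}} [X.Over (Spec (CommRingCat.of A))]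
  (F : X.Modules) {ι : Type u} (U : ι → X.Opens) [Finite ι]

/-- the residue field at `y`, as a bare commutative ring -/
def KY (y : ↑(Spec (CommRingCat.of A))) : Type u :=
  ↑((Spec (CommRingCat.of A)).residueField y)

noncomputable instance (y : ↑(Spec (CommRingCat.of A))) : CommRing (KY A y) :=
  ((Spec (CommRingCat.of A)).residueField y).commRing

/-- `κ(y) ≅ Frac (A ⧸ y)` -/
noncomputable def isoKY (y : ↑(Spec (CommRingCat.of A))) :
    CommRingCat.of (KY A y) ≅ CommRingCat.of y.asIdeal.ResidueField :=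
  Scheme.Spec.residueFieldIso (CommRingCat.of A) y

noncomputable instance algKY (y : ↑(Spec (CommRingCat.of A))) : Algebra A (KY A y) :=
  ((isoKY A y).inv.hom.comp (algebraMap A y.asIdeal.ResidueField)).toAlgebra

lemma specMap_KY (y : ↑(Spec (CommRingCat.of A))) :
    Spec.map (CommRingCat.ofHom (algebraMap A (KY A y))) =
      (Spec (CommRingCat.of A)).fromSpecResidueField y := by
  rw [← Scheme.Spec.map_residueFieldIso_inv_eq_fromSpecResidueField, ← Spec.map_comp]
  rfl

/-- the residue field of `Spec A` at a maximal ideal is `A ⧸ m`, `A`-linearly -/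
noncomputable def linearEquivKY (y : ↑(Spec (CommRingCat.of A))) [y.asIdeal.IsMaximal] :
    KY A y ≃ₗ[A] (A ⧸ y.asIdeal) :=
  let e1 : KY A y ≃ₗ[A] y.asIdeal.ResidueField :=
    { toFun := fun x => (isoKY A y).hom.hom x
      invFun := fun x => (isoKY A y).inv.hom x
      left_inv := fun x => by
        change ((isoKY A y).hom ≫ (isoKY A y).inv).hom x = x
        rw [(isoKY A y).hom_inv_id]
        rfl
      right_inv := fun x => by
        change ((isoKY A y).inv ≫ (isoKY A y).hom).hom x = x
        rw [(isoKY A y).inv_hom_id]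
        rfl
      map_add' := fun x x' => map_add _ _ _
      map_smul' := fun a x => by
        change (isoKY A y).hom.hom ((isoKY A y).inv.hom (algebraMap A y.asIdeal.ResidueField a) * x) =
          a • (isoKY A y).hom.hom x
        rw [map_mul]
        have : (isoKY A y).hom.hom ((isoKY A y).inv.hom (algebraMap A y.asIdeal.ResidueField a)) =
            algebraMap A y.asIdeal.ResidueField a := by
          change ((isoKY A y).inv ≫ (isoKY A y).hom).hom _ = _
          rw [(isoKY A y).inv_hom_id]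
          rfl
        rw [this, Algebra.smul_def] }
  let e2 : (A ⧸ y.asIdeal) ≃ₗ[A] y.asIdeal.ResidueField :=
    LinearEquiv.ofBijective
      ((Algebra.linearMap (A ⧸ y.asIdeal) y.asIdeal.ResidueField).restrictScalars A)
      (Ideal.bijective_algebraMap_quotient_residueField y.asIdeal)
  e1.trans e2.symm

theorem exactAt_TL_quot_of_fiberH [F.IsQuasicoherent] (hcov : ⨆ i, U i = ⊤)
    (hU : ∀ s : Finset ι, s.Nonempty → IsAffineOpen (⨅ i ∈ s, U i))
    (y : ↑(Spec (CommRingCat.of A))) [y.asIdeal.IsMaximal] (p : ℕ)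
    (hs : Subsingleton (CohIII.fiberH (X ↘ Spec (CommRingCat.of A)) F y p)) :
    (TL (ModuleCat.of A (A ⧸ y.asIdeal)) (CA A F U)).ExactAt p := by
  letI : ((X ↘ Spec (CommRingCat.of A)).fiber y).Over (Spec (CommRingCat.of (KY A y))) :=
    ⟨(X ↘ Spec (CommRingCat.of A)).fiberToSpecResidueField y⟩
  have h : IsPullback ((X ↘ Spec (CommRingCat.of A)).fiberι y)
      ((X ↘ Spec (CommRingCat.of A)).fiber y ↘ Spec (CommRingCat.of (KY A y)))
      (X ↘ Spec (CommRingCat.of A))
      (Spec.map (CommRingCat.ofHom (algebraMap A (KY A y)))) := by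
    rw [specMap_KY]
    exact IsPullback.of_hasPullback _ _
  have hex := exactAt_TB_of_subsingleton A (KY A y)
    ((X ↘ Spec (CommRingCat.of A)).fiberι y) h F U hcov hU p hs
  exact (exactAt_TL_congr (linearEquivKY A y).toModuleIso (CA A F U) p).1 hex

end Fibre

section Cover
variable (A : Type u) [CommRing A] (X : Scheme.{u}) [X.Over (Spec (CommRingCat.of A))]

theorem isAffineOpen_inf [IsSeparated (X ↘ Spec (CommRingCat.of A))] {V W : X.Opens}
    (hV : IsAffineOpen V) (hW : IsAffineOpen W) : IsAffineOpen (V ⊓ W) :=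
  isAffineHom_diagonal_iff.mp
    (inferInstance : IsAffineHom (pullback.diagonal (X ↘ Spec (CommRingCat.of A)))) ⊤
    (isAffineOpen_top _) V le_top W le_top hV hW

theorem isAffineOpen_biInf [IsSeparated (X ↘ Spec (CommRingCat.of A))] {ι : Type u}
    (U : ι → X.Opens) (hU : ∀ i, IsAffineOpen (U i)) (s : Finset ι) (hs : s.Nonempty) :
    IsAffineOpen (⨅ i ∈ s, U i) := by
  classical
  induction s using Finset.induction_on with
  | empty => exact absurd hs Finset.not_nonempty_empty
  | insert a s _ ih =>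
    rw [Finset.iInf_insert]
    by_cases h : s.Nonempty
    · exact isAffineOpen_inf A X (hU a) (ih h)
    · rw [Finset.not_nonempty_iff_eq_empty] at h
      subst h
      have e : (⨅ x ∈ (∅ : Finset ι), U x) = ⊤ := by simp
      rw [e, inf_top_eq]
      exact hU a

theorem exists_cover [CompactSpace X] [IsSeparated (X ↘ Spec (CommRingCat.of A))] :
    ∃ (ι : Type u) (_ : Finite ι) (U : ι → X.Opens), (⨆ i, U i = ⊤) ∧ (∀ i, IsAffineOpen (U i)) ∧
      ∀ s : Finset ι, s.Nonempty → IsAffineOpen (⨅ i ∈ s, U i) := by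
  obtain ⟨s, hs⟩ := Groth.Agent.Lib.Helper26.ModLim.exists_finite_affine_cover X
  refine ⟨↥s, inferInstance, fun k => (k.1 : X.Opens), hs.iSup_eq_top, fun k => k.1.2,
    fun t ht => isAffineOpen_biInf A X _ (fun k => k.1.2) t ht⟩

end Cover

end Groth.Agent.Lib.Helper21.MumD
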