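import Mathlib
import Groth.Prelude.Def_ega3
import Groth.Agent.Lib.Helper21ExtMap
import Groth.Agent.S2380
import Groth.Agent.S2440

/-!
# Homological plumbing for linear cohomology-and-base-change (helper2)

* `eNeg` : the embedding `up ℤ → down ℤ`, `n ↦ -n` (cochain complexes as chain complexes).
* `quasiIso_bcCx_of_quasiIso_tensorLeft` : a chain map which is a quasi-isomorphism after `B ⊗_A -`
  (as complexes of `A`-modules) is a quasi-isomorphism after extension of scalars (as complexes of
  `B`-modules).
* `bcCx_extend_homology` : homology of `bcCx` of an extended complex.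
-/

set_option autoImplicit false
set_option linter.style.haveILetI false
universe u
open CategoryTheory CategoryTheory.Limits MonoidalCategory TensorProduct

namespace Groth.Agent.Lib.Helper2.CohBCA

/-- the embedding `up ℤ → down ℤ`, `n ↦ -n` -/
def eNeg : (ComplexShape.up ℤ).Embedding (ComplexShape.down ℤ) :=
  ComplexShape.Embedding.mk' _ _ (fun n => -n) neg_injective (by intro i j; simp only [ComplexShape.up_Rel, ComplexShape.down_Rel]; lia)

instance : eNeg.IsRelIff := by dsimp [eNeg]; infer_instance

lemma eNeg_f (n : ℤ) : eNeg.f n = -n := rfl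

section NatIsoArrow
variable {V W : Type*} [Category V] [Category W] [Preadditive V] [Preadditive W]
  {ι : Type*} {c : ComplexShape ι}

/-- a natural isomorphism of additive functors gives an isomorphism of arrows on complexes -/
noncomputable def arrowIsoOfNatIso {G G' : V ⥤ W} [G.Additive] [G'.Additive] (α : G ≅ G')
    {K L : HomologicalComplex V c} (ψ : K ⟶ L) :
    Arrow.mk ((G.mapHomologicalComplex c).map ψ) ≅ Arrow.mk ((G'.mapHomologicalComplex c).map ψ) :=
  Arrow.isoMk ((NatIso.mapHomologicalComplex α c).app K) ((NatIso.mapHomologicalComplex α c).app L)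
    ((NatIso.mapHomologicalComplex α c).hom.naturality ψ).symm

end NatIsoArrow

section ER
variable (A B : Type u) [CommRing A] [CommRing B] [Algebra A B]

/-- `B ⊗_A N` with `A` acting through `B`, versus the monoidal tensor product -/
noncomputable def αEquiv (N : ModuleCat.{u} A) :
    ((ModuleCat.restrictScalars (algebraMap A B)).obj
      ((ModuleCat.extendScalars (algebraMap A B)).obj N)) ≃ₗ[A] (B ⊗[A] N) where
  toFun z := Groth.Agent.S2380.bridge A B N z
  invFun z := (Groth.Agent.S2380.bridge A B N).symm z
  map_add' a b := map_add (Groth.Agent.S2380.bridge A B N) a b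
  map_smul' a z := by
    have h1 := map_smul (Groth.Agent.S2380.bridge A B N) (algebraMap A B a)
      (show ((ModuleCat.extendScalars (algebraMap A B)).obj N) from z)
    exact h1.trans (algebraMap_smul B a _)
  left_inv z := (Groth.Agent.S2380.bridge A B N).symm_apply_apply z
  right_inv z := (Groth.Agent.S2380.bridge A B N).apply_symm_apply z

/-- extension followed by restriction of scalars is `B ⊗_A -` -/
noncomputable def αIso :
    ModuleCat.extendScalars.{u, u, u} (algebraMap A B) ⋙ ModuleCat.restrictScalars (algebraMap A B) ≅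
      tensorLeft (ModuleCat.of A B) :=
  NatIso.ofComponents (fun N => (αEquiv A B N).toModuleIso) (by
    intro N N' g
    ext z
    change Groth.Agent.S2380.bridge A B N'
        ((ModuleCat.extendScalars (algebraMap A B)).map g z) =
      (g.hom.lTensor B) (Groth.Agent.S2380.bridge A B N z)
    rw [Groth.Agent.S2380.bridge_naturality, LinearMap.baseChange_eq_ltensor])

end ER

section QI
variable (A B : Type u) [CommRing A] [CommRing B] [Algebra A B] {ι : Type} {c : ComplexShape ι}
  {K L : HomologicalComplex (ModuleCat.{u} A) c} (ψ : K ⟶ L)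

/-- a chain map which is a quasi-isomorphism after `B ⊗_A -` is a quasi-isomorphism after
extension of scalars to `B` -/
theorem quasiIso_bcCx_of_quasiIso_tensorLeft
    (h : QuasiIso (((tensorLeft (ModuleCat.of A B)).mapHomologicalComplex c).map ψ)) :
    QuasiIso (((ModuleCat.extendScalars.{u, u, u} (algebraMap A B)).mapHomologicalComplex c).map ψ) := by
  have h1 : QuasiIso (((ModuleCat.extendScalars.{u, u, u} (algebraMap A B) ⋙
      ModuleCat.restrictScalars (algebraMap A B)).mapHomologicalComplex c).map ψ) :=
    (quasiIso_iff_of_arrow_mk_iso _ _ (arrowIsoOfNatIso (αIso A B) ψ)).2 h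
  have h2 : ((ModuleCat.extendScalars.{u, u, u} (algebraMap A B) ⋙
      ModuleCat.restrictScalars (algebraMap A B)).mapHomologicalComplex c).map ψ =
      ((ModuleCat.restrictScalars (algebraMap A B)).mapHomologicalComplex c).map
        (((ModuleCat.extendScalars.{u, u, u} (algebraMap A B)).mapHomologicalComplex c).map ψ) := rfl
  rw [h2] at h1
  exact (HomologicalComplex.quasiIso_map_iff_of_preservesHomology _
    (ModuleCat.restrictScalars (algebraMap A B))).1 h1

end QI

section Chain
variable (A B : Type u) [CommRing A] [CommRing B] [Algebra A B]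
  (C : CochainComplex (ModuleCat.{u} A) ℕ) (L : CochainComplex (ModuleCat.{u} A) ℤ)
  (ψ : L ⟶ C.extend ComplexShape.embeddingUpNat)

/-- the chain complex attached to a cochain complex by `n ↦ -n` -/
noncomputable abbrev toChain : ChainComplex (ModuleCat.{u} A) ℤ := L.extend eNeg

/-- the terms of `toChain` -/
noncomputable def toChainXIso (i : ℤ) : (toChain A L).X i ≅ L.X (-i) :=
  L.extendXIso eNeg (show eNeg.f (-i) = i by rw [eNeg_f, neg_neg])

/-- the homology of `toChain` -/
noncomputable def toChainHomologyIso (i : ℤ) : (toChain A L).homology (-i) ≅ L.homology i :=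
  L.extendHomologyIso eNeg (eNeg_f i)

/-- if `ψ` is a quasi-isomorphism after `B ⊗_A -`, then the homology of the base change of `C` to `B`
in degree `p` is the homology of the base change of the chain complex `toChain L` in degree `-p`,
`B`-linearly -/
theorem nonempty_homology_bcCx_linearEquiv
    (h : QuasiIso (((tensorLeft (ModuleCat.of A B)).mapHomologicalComplex (ComplexShape.up ℤ)).map ψ))
    (p : ℕ) :
    Nonempty ((CohIII.bcCx (algebraMap A B) C).homology p ≃ₗ[B]
      (CohIII.bcCx (algebraMap A B) (toChain A L)).homology (-(p : ℤ))) := by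
  have hq := quasiIso_bcCx_of_quasiIso_tensorLeft A B ψ h
  have hq' : QuasiIsoAt (((ModuleCat.extendScalars.{u, u, u} (algebraMap A B)).mapHomologicalComplex
      (ComplexShape.up ℤ)).map ψ) (p : ℤ) := hq.quasiIsoAt _
  let i1 : (CohIII.bcCx (algebraMap A B) C).homology p ≅
      ((CohIII.bcCx (algebraMap A B) C).extend ComplexShape.embeddingUpNat).homology (p : ℤ) :=
    ((CohIII.bcCx (algebraMap A B) C).extendHomologyIso ComplexShape.embeddingUpNat
      (rfl : ComplexShape.embeddingUpNat.f p = (p : ℤ))).symm
  let i2 : ((CohIII.bcCx (algebraMap A B) C).extend ComplexShape.embeddingUpNat).homology (p : ℤ) ≅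
      (CohIII.bcCx (algebraMap A B) (C.extend ComplexShape.embeddingUpNat)).homology (p : ℤ) :=
    (HomologicalComplex.homologyFunctor _ _ (p : ℤ)).mapIso
      (Groth.Agent.Lib.Helper21.ExtMap.mapExtendIso ComplexShape.embeddingUpNat
        (ModuleCat.extendScalars.{u, u, u} (algebraMap A B)) C).symm
  let i3 : (CohIII.bcCx (algebraMap A B) (C.extend ComplexShape.embeddingUpNat)).homology (p : ℤ) ≅
      (CohIII.bcCx (algebraMap A B) L).homology (p : ℤ) :=
    (isoOfQuasiIsoAt (((ModuleCat.extendScalars.{u, u, u} (algebraMap A B)).mapHomologicalComplex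
      (ComplexShape.up ℤ)).map ψ) (p : ℤ)).symm
  let i4 : (CohIII.bcCx (algebraMap A B) L).homology (p : ℤ) ≅
      ((CohIII.bcCx (algebraMap A B) L).extend eNeg).homology (-(p : ℤ)) :=
    ((CohIII.bcCx (algebraMap A B) L).extendHomologyIso eNeg (eNeg_f (p : ℤ))).symm
  let i5 : ((CohIII.bcCx (algebraMap A B) L).extend eNeg).homology (-(p : ℤ)) ≅
      (CohIII.bcCx (algebraMap A B) (toChain A L)).homology (-(p : ℤ)) :=
    (HomologicalComplex.homologyFunctor _ _ (-(p : ℤ))).mapIso
      (Groth.Agent.Lib.Helper21.ExtMap.mapExtendIso eNeg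
        (ModuleCat.extendScalars.{u, u, u} (algebraMap A B)) L).symm
  exact ⟨(i1 ≪≫ i2 ≪≫ i3 ≪≫ i4 ≪≫ i5).toLinearEquiv⟩

/-- if `ψ` is a quasi-isomorphism after `A ⊗_A -`, then it is a quasi-isomorphism -/
theorem quasiIso_of_quasiIso_tensorLeft_unit {ι : Type} {c : ComplexShape ι}
    {K K' : HomologicalComplex (ModuleCat.{u} A) c} (ψ : K ⟶ K')
    (h : QuasiIso (((tensorLeft (ModuleCat.of A A)).mapHomologicalComplex c).map ψ)) :
    QuasiIso ψ := by
  have h1 : QuasiIso (((𝟭 (ModuleCat.{u} A)).mapHomologicalComplex c).map ψ) :=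
    (quasiIso_iff_of_arrow_mk_iso _ _
      (arrowIsoOfNatIso (leftUnitorNatIso (ModuleCat.{u} A)) ψ)).1 h
  let a2 : Arrow.mk (((𝟭 (ModuleCat.{u} A)).mapHomologicalComplex c).map ψ) ≅ Arrow.mk ψ :=
    Arrow.isoMk ((Functor.mapHomologicalComplexIdIso (ModuleCat.{u} A) c).app K)
      ((Functor.mapHomologicalComplexIdIso (ModuleCat.{u} A) c).app K')
      ((Functor.mapHomologicalComplexIdIso (ModuleCat.{u} A) c).hom.naturality ψ).symm
  exact (quasiIso_iff_of_arrow_mk_iso _ _ a2).1 h1

/-- the `B = A` case: the homology of `C` is the homology of `toChain L` -/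
theorem nonempty_homology_linearEquiv
    (h : QuasiIso (((tensorLeft (ModuleCat.of A A)).mapHomologicalComplex (ComplexShape.up ℤ)).map ψ))
    (p : ℕ) :
    Nonempty (C.homology p ≃ₗ[A] (toChain A L).homology (-(p : ℤ))) := by
  have hq : QuasiIso ψ := quasiIso_of_quasiIso_tensorLeft_unit A ψ h
  have hq' : QuasiIsoAt ψ (p : ℤ) := hq.quasiIsoAt _
  let i1 : C.homology p ≅ (C.extend ComplexShape.embeddingUpNat).homology (p : ℤ) :=
    (C.extendHomologyIso ComplexShape.embeddingUpNat
      (rfl : ComplexShape.embeddingUpNat.f p = (p : ℤ))).symm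
  let i3 : (C.extend ComplexShape.embeddingUpNat).homology (p : ℤ) ≅ L.homology (p : ℤ) :=
    (isoOfQuasiIsoAt ψ (p : ℤ)).symm
  exact ⟨(i1 ≪≫ i3 ≪≫ (toChainHomologyIso A L (p : ℤ)).symm).toLinearEquiv⟩

end Chain

section DRank
variable {A K : Type u} [CommRing A] [Field K] [Algebra A K]

/-- the point of `Spec A` defined by a field-valued point -/
noncomputable def pointOf (A K : Type u) [CommRing A] [Field K] [Algebra A K] : PrimeSpectrum A :=
  PrimeSpectrum.comap (algebraMap A K) ⟨⊥, Ideal.isPrime_bot⟩

lemma pointOf_asIdeal : (pointOf A K).asIdeal = RingHom.ker (algebraMap A K) := by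
  ext a
  change algebraMap A K a ∈ (⊥ : Ideal K) ↔ _
  rw [Ideal.mem_bot, RingHom.mem_ker]

/-- the dimension of the homology of the base change to a field `K` is the rank function at the
corresponding point -/
theorem finrank_homology_bcCx_eq_dRank (P : ChainComplex (ModuleCat.{u} A) ℤ)
    (hP : ∀ i, Module.Flat A (P.X i)) (p : ℤ) :
    Module.finrank K ((CohIII.bcCx (algebraMap A K) P).homology p) =
      CohIII.dRank P p (pointOf A K) := by
  have h1 := Groth.Agent.S2440.result (A' := K) P hP p ⟨⊥, Ideal.isPrime_bot⟩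
  refine Eq.trans ?_ h1
  exact (Groth.Agent.S2440.finrank_homology_extendScalars_field
    (algebraMap K (⊥ : Ideal K).ResidueField) (CohIII.bcCx (algebraMap A K) P) p).symm

end DRank

end Groth.Agent.Lib.Helper2.CohBCA
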