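import Mathlib
import Groth.Agent.Lib.Helper21CechBC
import Groth.Agent.S2380

/-!
# Linear Čech base change (helper2)

Upgrade of helper21's `CechBC.nonempty_addEquiv_homology` to a `B`-linear statement: for a pullback
square `X' = X ×_A B` and a quasi-coherent `F` on `X` with a finite affine-intersection cover `U`,
`H^p(X', g'^*F) ≃ₗ[B] H^p(B ⊗_A C(U, F))`, the right side being the homology of the termwise
extension of scalars of the Čech complex of `A`-modules.
-/

set_option autoImplicit false
set_option linter.style.haveILetI false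
universe u
open CategoryTheory CategoryTheory.Limits Opposite TopologicalSpace AlgebraicGeometry TensorProduct

namespace Groth.Agent.Lib.Helper2.CohBCB

open Groth.Agent.Lib.Helper16.CechLow Groth.Agent.Lib.Helper21.CechMod
  Groth.Agent.Lib.Helper21.CechBC

section
variable (A B : Type u) [CommRing A] [CommRing B] [Algebra A B] {X X' : Scheme.{u}}
  [X.Over (Spec (CommRingCat.of A))] [X'.Over (Spec (CommRingCat.of B))] (g' : X' ⟶ X)
  (h : IsPullback g' (X' ↘ Spec (CommRingCat.of B)) (X ↘ Spec (CommRingCat.of A))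
    (Spec.map (CommRingCat.ofHom (algebraMap A B))))
  (F : X.Modules) {ι : Type u} (U : ι → X.Opens) [Finite ι]

lemma φ_smul (n : ℕ) (b : B) (t : B ⊗[A] CX A F U n) :
    φ A B g' h F U n (b • t) = b • φ A B g' h F U n t := by
  induction t with
  | zero => rw [smul_zero, map_zero, smul_zero]
  | add t t' ht ht' => rw [smul_add, map_add, ht, ht', map_add, smul_add]
  | tmul b' c =>
    funext x
    rw [TensorProduct.smul_tmul', φ_tmul]
    change _ = b • (φ A B g' h F U n (b' ⊗ₜ[A] c) x)
    rw [φ_tmul, smul_eq_mul, mul_smul]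

/-- the base change map on Čech cochains, `B`-linear -/
noncomputable def φL (n : ℕ) : B ⊗[A] CX A F U n →ₗ[B] CX B (Fp g' F) (Up g' U) n where
  toFun := φ A B g' h F U n
  map_add' := map_add _
  map_smul' b t := φ_smul A B g' h F U n b t

lemma φL_apply (n : ℕ) (t : B ⊗[A] CX A F U n) : φL A B g' h F U n t = φ A B g' h F U n t := rfl

/-- the base change isomorphism of Čech complexes, as complexes of `B`-modules -/
noncomputable def bcIso [F.IsQuasicoherent]
    (hU : ∀ (n : ℕ) (x : Fin (n + 1) → ι), IsAffineOpen (Ux U x)) :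
    CohIII.bcCx (algebraMap A B) (CA A F U) ≅ CA B (Fp g' F) (Up g' U) :=
  HomologicalComplex.Hom.isoOfComponents
    (fun n => ((Groth.Agent.S2380.bridge A B ((CA A F U).X n)).trans
      (LinearEquiv.ofBijective (φL A B g' h F U n) (φ_bijective A B g' h F U hU n))).toModuleIso)
    (by
      intro i j hij
      have : j = i + 1 := hij.symm
      subst this
      ext z
      symm
      change φ A B g' h F U (i + 1) (Groth.Agent.S2380.bridge A B ((CA A F U).X (i + 1))
          ((ModuleCat.extendScalars (algebraMap A B)).map ((CA A F U).d i (i + 1)) z)) =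
        ((CA B (Fp g' F) (Up g' U)).d i (i + 1)).hom
          (φ A B g' h F U i (Groth.Agent.S2380.bridge A B ((CA A F U).X i) z))
      rw [Groth.Agent.S2380.bridge_naturality, CA_d, CA_d]
      change φ A B g' h F U (i + 1) ((dA A F U i).baseChange B _) = _
      rw [LinearMap.baseChange_eq_ltensor, φ_d]
      rfl)

include h in
/-- **Linear Čech base change**. -/
theorem nonempty_linearEquiv_homology_bc [F.IsQuasicoherent] (hcov : ⨆ i, U i = ⊤)
    (hU : ∀ s : Finset ι, s.Nonempty → IsAffineOpen (⨅ i ∈ s, U i)) (p : ℕ) :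
    Nonempty (Coh.HH X' (Fp g' F) p ≃ₗ[B]
      ↑((CohIII.bcCx (algebraMap A B) (CA A F U)).homology p)) := by
  haveI : (Fp g' F).IsQuasicoherent :=
    Groth.Agent.Lib.Helper2.PullbackSec.isQuasicoherent_pullback g' F
  have hcov' : ⨆ i, Up g' U i = ⊤ := by
    rw [← Scheme.Hom.preimage_iSup, hcov]
    rfl
  have hU' : ∀ s : Finset ι, s.Nonempty → IsAffineOpen (⨅ i ∈ s, Up g' U i) := by
    intro s hs
    rw [preimage_biInf]
    exact isAffineOpen_preimage A B g' h _ (hU s hs)
  obtain ⟨e1⟩ := nonempty_linearEquiv_homology B (Fp g' F) (Up g' U) hcov' hU' p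
  exact ⟨e1.trans ((HomologicalComplex.homologyFunctor _ _ p).mapIso
    (bcIso A B g' h F U (isAffineOpen_Ux U hU))).symm.toLinearEquiv⟩

end

end Groth.Agent.Lib.Helper2.CohBCB
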