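import Mathlib
import Groth.Agent.Lib.Helper21MumD
import Groth.Agent.Lib.Helper2CohBCA
import Groth.Agent.Lib.Helper2CohBCB

/-!
# The linear Mumford complex (helper2)

For `X` proper over a Noetherian ring `A` and `F` coherent and flat over `A`: a chain complex `P` of
finite projective `A`-modules, concentrated in degrees `[-b, 0]`, with
`H^p(X_B, F_B) ≃ₗ[B] H_{-p}(B ⊗_A P)` for every `A`-algebra `B` and every pullback square.
Built on helper21's Čech/Mumford libraries.
-/

set_option autoImplicit false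
set_option linter.style.haveILetI false
universe u
open CategoryTheory CategoryTheory.Limits MonoidalCategory AlgebraicGeometry TensorProduct
attribute [local instance] HasDerivedCategory.standard

namespace Groth.Agent.Lib.Helper2.CohBCC

open Groth.Agent.Lib.Helper16.CechLow Groth.Agent.Lib.Helper21.CechMod
  Groth.Agent.Lib.Helper21.CechBC Groth.Agent.Lib.Helper21.MumC Groth.Agent.Lib.Helper21.MumD
  Groth.Agent.Lib.Helper21.MumB Groth.Agent.Lib.Helper1.Tor
  Groth.Agent.Lib.Helper2.CohBCA Groth.Agent.Lib.Helper2.CohBCB DerivedCategory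

/-- **The linear Mumford complex.** -/
theorem exists_complex (A : Type u) [CommRing A] [IsNoetherianRing A] (X : Scheme.{u})
    [X.Over (Spec (CommRingCat.of A))] [IsProper (X ↘ Spec (CommRingCat.of A))] (F : X.Modules)
    (hF : Coh.IsCoh F) (hfl : FlatMod.IsFlatOver (X ↘ Spec (CommRingCat.of A)) F) :
    ∃ P : ChainComplex (ModuleCat.{u} A) ℤ,
      (∀ i, Module.Finite A (P.X i) ∧ Module.Projective A (P.X i)) ∧
      (∀ i : ℤ, 0 < i → IsZero (P.X i)) ∧ (∃ b : ℤ, ∀ i : ℤ, i < b → IsZero (P.X i)) ∧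
      (∀ p : ℕ, Nonempty (Coh.HH X F p ≃ₗ[A] ↑(P.homology (-(p : ℤ))))) ∧
      ∀ (B : Type u) [CommRing B] [Algebra A B] (X' : Scheme.{u})
        [X'.Over (Spec (CommRingCat.of B))] (g' : X' ⟶ X)
        (_ : IsPullback g' (X' ↘ Spec (CommRingCat.of B)) (X ↘ Spec (CommRingCat.of A))
          (Spec.map (CommRingCat.ofHom (algebraMap A B)))) (p : ℕ),
        Nonempty (Coh.HH X' ((Scheme.Modules.pullback g').obj F) p ≃ₗ[B]
          ↑((CohIII.bcCx (algebraMap A B) P).homology (-(p : ℤ)))) := by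
  haveI : F.IsQuasicoherent := hF.1
  haveI : CompactSpace X :=
    QuasiCompact.compactSpace_of_compactSpace (X ↘ Spec (CommRingCat.of A))
  obtain ⟨ι, hfin, U, hcov, hU1, hU⟩ := exists_cover A X
  have hflat : ∀ n, Module.Flat A ((CA A F U).X n) :=
    fun n => flat_CX A F U hfl (isAffineOpen_Ux U hU) n
  have hfinH : ∀ p, Module.Finite A ((CA A F U).homology p) := fun p => by
    obtain ⟨e⟩ := nonempty_linearEquiv_homology A F U hcov hU p
    have := Groth.Agent.S0002.result A X F hF p
    exact Module.Finite.equiv e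
  have hN : ∀ (M : ModuleCat.{u} A) (p : ℕ), Nat.card ι ≤ p → (TL M (CA A F U)).ExactAt p :=
    fun M p hp => exactAt_TL_of_le A F U hcov hU hU1 M p hp
  have hvan : ∀ p : ℕ, Nat.card ι ≤ p → Subsingleton (Coh.HH X F p) := by
    intro p hp
    let e := Finite.equivFin ι
    refine Groth.Agent.S0010.result X (Nat.card ι) (fun k => U (e.symm k))
      (fun k => hU1 _) ?_ ?_ F p hp
    · rw [← hcov]
      exact e.symm.iSup_comp (g := fun i => U i)
    · intro V W hV hW
      exact isAffineOpen_inf A X hV hW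
  have hb : ∀ p : ℕ, ((Nat.card ι : ℕ) : ℤ) < (p : ℤ) → (CA A F U).ExactAt p := fun p hp => by
    obtain ⟨e⟩ := nonempty_linearEquiv_homology A F U hcov hU p
    have := hvan p (by exact_mod_cast hp.le)
    rw [HomologicalComplex.exactAt_iff_isZero_homology]
    haveI : Subsingleton ↑((CA A F U).homology p) := e.symm.injective.subsingleton
    exact ModuleCat.isZero_of_subsingleton _
  obtain ⟨L, ψ, hL, hLf, hψ⟩ := exists_perfect_univ (CZ (CA A F U))
    (termwiseFlat_CZ (CA A F U) hflat)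
    (finite_homology_CZ (CA A F U) hfinH) ((Nat.card ι : ℤ) - 1)
    (fun M j hj => by
      obtain ⟨n, rfl⟩ := Int.eq_ofNat_of_zero_le (show 0 ≤ j by lia)
      exact (exactAt_TC_CZ_iff (CA A F U) M n).2 (hN M n (by lia)))
    0 (Nat.card ι : ℤ)
    (fun j hj => by
      by_cases h0 : 0 ≤ j
      · obtain ⟨n, rfl⟩ := Int.eq_ofNat_of_zero_le h0
        exact (exactAt_CZ_iff (CA A F U) n).2 (hb n hj)
      · exact exactAt_CZ_neg (CA A F U) j (by lia))
    (fun m _ j hj => exactAt_TC_CZ_neg (CA A F U) _ j hj)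
  refine ⟨toChain A L, fun i => ?_, fun i hi => ?_, ⟨-(Nat.card ι : ℤ), fun i hi => ?_⟩,
    fun p => ?_, ?_⟩
  · obtain ⟨h1, h2⟩ := hLf (-i)
    exact ⟨Module.Finite.equiv (toChainXIso A L i).toLinearEquiv.symm,
      Module.Projective.of_equiv (toChainXIso A L i).toLinearEquiv.symm⟩
  · exact IsZero.of_iso (hL (-i) (Or.inl (by lia))) (toChainXIso A L i)
  · exact IsZero.of_iso (hL (-i) (Or.inr (by lia))) (toChainXIso A L i)
  · obtain ⟨e1⟩ := nonempty_linearEquiv_homology A F U hcov hU p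
    have hq : QuasiIso ((TC (ModuleCat.of A A)).map ψ) :=
      (DerivedCategory.isIso_Q_map_iff_quasiIso (φ := (TC (ModuleCat.of A A)).map ψ)).1
        (hψ (ModuleCat.of A A))
    obtain ⟨e2⟩ := nonempty_homology_linearEquiv A (CA A F U) L ψ hq p
    exact ⟨e1.trans e2⟩
  · intro B _ _ X' _ g' h p
    obtain ⟨e1⟩ := nonempty_linearEquiv_homology_bc A B g' h F U hcov hU p
    have hq : QuasiIso ((TC (ModuleCat.of A B)).map ψ) :=
      (DerivedCategory.isIso_Q_map_iff_quasiIso (φ := (TC (ModuleCat.of A B)).map ψ)).1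
        (hψ (ModuleCat.of A B))
    obtain ⟨e2⟩ := nonempty_homology_bcCx_linearEquiv A B (CA A F U) L ψ hq p
    exact ⟨e1.trans e2⟩

end Groth.Agent.Lib.Helper2.CohBCC
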