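import Mathlib
import Groth.Agent.Lib.Helper2CohBCC
import Groth.Agent.Lib.Helper17StalkBC3
import Groth.Agent.Lib.Helper20FormalPull
import Groth.Agent.S1391

/-!
# The local Mumford complex at a point of the base (helper2)

For `f : X ⟶ Y` proper, `Y` locally Noetherian, `F` coherent and flat over `Y`, and `y : Y`: a chain
complex `P` of finite projective `O_{Y,y}`-modules in degrees `≤ 0` with
`(R^p f_* F)_y ≃ₗ H_{-p}(P)` and `dim H^p(X_y, F_y) = dRank P (-p)` at the closed point.
-/

set_option autoImplicit false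
set_option linter.style.haveILetI false
universe u
open CategoryTheory CategoryTheory.Limits AlgebraicGeometry TensorProduct

namespace Groth.Agent.Lib.Helper2.CohBCD

open Groth.Agent.Lib.Helper2.CohBCA Groth.Agent.Lib.Helper2.CohBCC Groth.Agent.Lib.Helper17.StalkBC

local instance (X : Scheme.{u}) : EnoughInjectives X.Modules :=
  Groth.Agent.Lib.Helper17.QCPush.enoughInjectives X

lemma pointOf_residueField (B : Type u) [CommRing B] [IsLocalRing B] :
    pointOf B (IsLocalRing.ResidueField B) = IsLocalRing.closedPoint B := by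
  apply PrimeSpectrum.ext
  rw [pointOf_asIdeal]
  exact IsLocalRing.ker_residue

theorem exists_local_complex {X Y : Scheme.{u}} (f : X ⟶ Y) [IsProper f] [IsLocallyNoetherian Y]
    (F : X.Modules) (hF : Coh.IsCoh F) (hfl : FlatMod.IsFlatOver f F) (y : Y) :
    ∃ P : ChainComplex (ModuleCat.{u} (Y.presheaf.stalk y)) ℤ,
      (∀ i, Module.Finite (Y.presheaf.stalk y) (P.X i) ∧
        Module.Projective (Y.presheaf.stalk y) (P.X i)) ∧
      (∀ i : ℤ, 0 < i → IsZero (P.X i)) ∧ (∃ b : ℤ, ∀ i : ℤ, i < b → IsZero (P.X i)) ∧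
      (∀ p : ℕ, Nonempty (((Coh.Rpush f p).obj F).presheaf.stalk y ≃ₗ[Y.presheaf.stalk y]
        ↑(P.homology (-(p : ℤ))))) ∧
      (∀ p : ℕ, CohIII.fiberRank f F p y =
        CohIII.dRank P (-(p : ℤ)) (IsLocalRing.closedPoint (Y.presheaf.stalk y))) ∧
      (∀ p : ℕ, Nonempty (CohIII.fiberH f F y p ≃+
        ↑((CohIII.bcCx (algebraMap (Y.presheaf.stalk y)
          (IsLocalRing.ResidueField (Y.presheaf.stalk y))) P).homology (-(p : ℤ))))) := by
  haveI : Coh.IsQCoh F := hF.1
  haveI : SheafOfModules.IsFiniteType (R := X.ringCatSheaf) F := hF.2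
  let X₁ : Scheme.{u} := Limits.pullback f (Y.fromSpecStalk y)
  let g : X₁ ⟶ X := Limits.pullback.fst f (Y.fromSpecStalk y)
  letI : X₁.Over (Spec (CommRingCat.of (Y.presheaf.stalk y))) :=
    ⟨Limits.pullback.snd f (Y.fromSpecStalk y)⟩
  have hsq : IsPullback g (X₁ ↘ Spec (CommRingCat.of (Y.presheaf.stalk y))) f (Y.fromSpecStalk y) :=
    IsPullback.of_hasPullback f (Y.fromSpecStalk y)
  haveI : IsProper (X₁ ↘ Spec (CommRingCat.of (Y.presheaf.stalk y))) :=
    MorphismProperty.of_isPullback (P := @IsProper) hsq inferInstance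
  have hF₁ : Coh.IsCoh ((Scheme.Modules.pullback g).obj F) :=
    ⟨Groth.Agent.Lib.Helper2.PullbackSec.isQuasicoherent_pullback g F,
      Groth.Agent.Lib.Helper20.FormalPull.isFiniteType_pullback g F⟩
  haveI : Coh.IsQCoh ((Scheme.Modules.pullback g).obj F) := hF₁.1
  have hfl₁ : FlatMod.IsFlatOver (X₁ ↘ Spec (CommRingCat.of (Y.presheaf.stalk y)))
      ((Scheme.Modules.pullback g).obj F) := fun x' =>
    Groth.Agent.S1391.result f _ g (Y.fromSpecStalk y) hsq F hF.1 x' (hfl (g x'))
  obtain ⟨P, hP, hpos, hbd, hA, hB⟩ := exists_complex (Y.presheaf.stalk y) X₁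
    ((Scheme.Modules.pullback g).obj F) hF₁ hfl₁
  letI : (f.fiber y).Over (Spec (CommRingCat.of (IsLocalRing.ResidueField (Y.presheaf.stalk y)))) :=
    CohIII.fiberOver f y
  have key : ∀ p : ℕ, Nonempty (Coh.HH (f.fiber y) ((Scheme.Modules.pullback (f.fiberι y)).obj F) p
      ≃ₗ[IsLocalRing.ResidueField (Y.presheaf.stalk y)]
      ↑((CohIII.bcCx (algebraMap (Y.presheaf.stalk y)
        (IsLocalRing.ResidueField (Y.presheaf.stalk y))) P).homology (-(p : ℤ)))) := by
    intro p
    -- the closed fibre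
    let j : f.fiber y ⟶ X₁ := Limits.pullback.lift (f.fiberι y)
      (f.fiberToSpecResidueField y ≫ Spec.map (Y.residue y))
      (by
        have h := (IsPullback.of_hasPullback f (Y.fromSpecResidueField y)).w
        rw [Category.assoc]
        exact h)
    have hj1 : j ≫ g = f.fiberι y := Limits.pullback.lift_fst _ _ _
    have hj2 : j ≫ (X₁ ↘ Spec (CommRingCat.of (Y.presheaf.stalk y))) =
        f.fiberToSpecResidueField y ≫ Spec.map (Y.residue y) := Limits.pullback.lift_snd _ _ _
    have hsq₀ : IsPullback j (f.fiberToSpecResidueField y)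
        (X₁ ↘ Spec (CommRingCat.of (Y.presheaf.stalk y))) (Spec.map (Y.residue y)) := by
      refine IsPullback.of_right ?_ hj2 hsq
      rw [hj1]
      exact IsPullback.of_hasPullback f (Y.fromSpecResidueField y)
    have hsq₀' : IsPullback j
        (f.fiber y ↘ Spec (CommRingCat.of (IsLocalRing.ResidueField (Y.presheaf.stalk y))))
        (X₁ ↘ Spec (CommRingCat.of (Y.presheaf.stalk y)))
        (Spec.map (CommRingCat.ofHom (algebraMap (Y.presheaf.stalk y)
          (IsLocalRing.ResidueField (Y.presheaf.stalk y))))) := hsq₀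
    obtain ⟨e1⟩ := hB (IsLocalRing.ResidueField (Y.presheaf.stalk y)) (f.fiber y) j hsq₀' p
    let i1 : (Scheme.Modules.pullback j).obj ((Scheme.Modules.pullback g).obj F) ≅
        (Scheme.Modules.pullback (f.fiberι y)).obj F :=
      (Scheme.Modules.pullbackComp j g).app F ≪≫ (Scheme.Modules.pullbackCongr hj1).app F
    let e0 := hhEquiv (IsLocalRing.ResidueField (Y.presheaf.stalk y)) i1 p
    exact ⟨e0.symm.trans e1⟩
  refine ⟨P, hP, hpos, hbd, fun p => ?_, fun p => ?_, fun p => ?_⟩
  · obtain ⟨e1⟩ := nonempty_stalk_Rpush_linearEquiv f F y p X₁ g hsq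
    obtain ⟨e2⟩ := hA p
    exact ⟨e1.trans e2⟩
  · obtain ⟨e⟩ := key p
    have h1 : CohIII.fiberRank f F p y =
        Module.finrank (IsLocalRing.ResidueField (Y.presheaf.stalk y))
          ((CohIII.bcCx (algebraMap (Y.presheaf.stalk y)
            (IsLocalRing.ResidueField (Y.presheaf.stalk y))) P).homology (-(p : ℤ))) :=
      LinearEquiv.finrank_eq (R := IsLocalRing.ResidueField (Y.presheaf.stalk y))
        (M := Coh.HH (f.fiber y) ((Scheme.Modules.pullback (f.fiberι y)).obj F) p) e
    rw [h1, finrank_homology_bcCx_eq_dRank P (fun i => by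
      have := (hP i).2
      infer_instance) (-(p : ℤ)), pointOf_residueField]
  · obtain ⟨e⟩ := key p
    exact ⟨e.toAddEquiv⟩

end Groth.Agent.Lib.Helper2.CohBCD
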