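import Mathlib
import Groth.Prelude.Def_ega3

set_option autoImplicit false
universe u

namespace Groth.Agent.Lib.Helper3

open CategoryTheory CategoryTheory.Limits MonoidalCategory

variable {A : Type u} [CommRing A] {ι : Type} {c : ComplexShape ι}

theorem tensorMap_f (P : HomologicalComplex (ModuleCat.{u} A) c) {M N : ModuleCat.{u} A}
    (g : M ⟶ N) (i : ι) : (CohIII.tensorMap P g).f i = P.X i ◁ g := rfl

theorem tensorObj_d (P : HomologicalComplex (ModuleCat.{u} A) c) (M : ModuleCat.{u} A)
    (i j : ι) : (CohIII.tensorObj P M).d i j = P.d i j ▷ M := rfl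

/-- the short complex of complexes `P ⊗ S` -/
noncomputable def tensorSC (P : HomologicalComplex (ModuleCat.{u} A) c)
    (S : ShortComplex (ModuleCat.{u} A)) :
    ShortComplex (HomologicalComplex (ModuleCat.{u} A) c) :=
  ShortComplex.mk (CohIII.tensorMap P S.f) (CohIII.tensorMap P S.g) (by
    ext i : 1
    show P.X i ◁ S.f ≫ P.X i ◁ S.g = 0
    rw [← MonoidalCategory.whiskerLeft_comp, S.zero, MonoidalPreadditive.whiskerLeft_zero])

theorem tensorSC_shortExact (P : HomologicalComplex (ModuleCat.{u} A) c)
    (hP : ∀ i, Module.Flat A (P.X i)) (S : ShortComplex (ModuleCat.{u} A)) (hS : S.ShortExact) :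
    (tensorSC P S).ShortExact := by
  apply HomologicalComplex.shortExact_of_degreewise_shortExact
  intro i
  have := hP i
  exact hS.map_of_exact (tensorLeft (P.X i))

section Opcycles

variable (P : HomologicalComplex (ModuleCat.{u} A) c) (p : ι) (M : ModuleCat.{u} A)

theorem d_pOpcycles_whisker :
    (CohIII.tensorObj P M).d (c.prev p) p ≫ (P.pOpcycles p ▷ M) = 0 := by
  show P.d (c.prev p) p ▷ M ≫ P.pOpcycles p ▷ M = 0
  rw [← comp_whiskerRight, HomologicalComplex.d_pOpcycles, MonoidalPreadditive.zero_whiskerRight]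

/-- comparison `opcycles (P ⊗ M) ⟶ opcycles P ⊗ M` -/
noncomputable def opcTensorHom : (CohIII.tensorObj P M).opcycles p ⟶ P.opcycles p ⊗ M :=
  (CohIII.tensorObj P M).descOpcycles (P.pOpcycles p ▷ M) (c.prev p) rfl
    (d_pOpcycles_whisker P p M)

@[reassoc]
theorem p_opcTensorHom :
    (CohIII.tensorObj P M).pOpcycles p ≫ opcTensorHom P p M = P.pOpcycles p ▷ M :=
  HomologicalComplex.p_descOpcycles _ _ _ _ _

instance isIso_opcTensorHom : IsIso (opcTensorHom P p M) := by
  let h1 := (CohIII.tensorObj P M).opcyclesIsCokernel (c.prev p) p rfl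
  let h2 := CokernelCofork.mapIsColimit _ (P.opcyclesIsCokernel (c.prev p) p rfl) (tensorRight M)
  have : opcTensorHom P p M = (IsColimit.coconePointUniqueUpToIso h1 h2).hom := by
    rw [← cancel_epi ((CohIII.tensorObj P M).pOpcycles p), p_opcTensorHom]
    exact (IsColimit.comp_coconePointUniqueUpToIso_hom h1 h2 WalkingParallelPair.one).symm
  rw [this]
  infer_instance

theorem opcTensorHom_fromOpcycles (j : ι) :
    opcTensorHom P p M ≫ (P.fromOpcycles p j ▷ M) = (CohIII.tensorObj P M).fromOpcycles p j := by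
  rw [← cancel_epi ((CohIII.tensorObj P M).pOpcycles p), p_opcTensorHom_assoc]
  refine Eq.trans ?_ (HomologicalComplex.p_fromOpcycles (CohIII.tensorObj P M) p j).symm
  show P.pOpcycles p ▷ M ≫ P.fromOpcycles p j ▷ M = P.d p j ▷ M
  rw [← comp_whiskerRight, HomologicalComplex.p_fromOpcycles]

theorem opcTensorHom_naturality {M N : ModuleCat.{u} A} (f : M ⟶ N) :
    HomologicalComplex.opcyclesMap (CohIII.tensorMap P f) p ≫ opcTensorHom P p N =
      opcTensorHom P p M ≫ (P.opcycles p ◁ f) := by
  rw [← cancel_epi ((CohIII.tensorObj P M).pOpcycles p), HomologicalComplex.p_opcyclesMap_assoc,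
    p_opcTensorHom, p_opcTensorHom_assoc, tensorMap_f]
  exact whisker_exchange (P.pOpcycles p) f

/-- the natural monomorphism `T_p(M) ⟶ opcycles_p(P) ⊗ M` -/
noncomputable def jT : CohIII.T P p M ⟶ P.opcycles p ⊗ M :=
  (CohIII.tensorObj P M).homologyι p ≫ opcTensorHom P p M

instance mono_jT : Mono (jT P p M) := by
  unfold jT
  infer_instance

theorem jT_naturality {M N : ModuleCat.{u} A} (f : M ⟶ N) :
    (CohIII.TFun P p).map f ≫ jT P p N = jT P p M ≫ (P.opcycles p ◁ f) := by
  show HomologicalComplex.homologyMap (CohIII.tensorMap P f) p ≫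
    ((CohIII.tensorObj P N).homologyι p ≫ opcTensorHom P p N) = _
  rw [HomologicalComplex.homologyι_naturality_assoc, opcTensorHom_naturality]
  rfl

theorem jT_comp_fromOpcycles (j : ι) : jT P p M ≫ (P.fromOpcycles p j ▷ M) = 0 := by
  unfold jT
  rw [Category.assoc, opcTensorHom_fromOpcycles]
  exact HomologicalComplex.homologyι_comp_fromOpcycles _ _ _

/-- `T_p(M)` is the kernel of `opcycles_p(P) ⊗ M ⟶ P_{next p} ⊗ M`, elementwise. -/
theorem exists_jT_eq (x : (P.opcycles p ⊗ M : ModuleCat.{u} A))
    (hx : (P.fromOpcycles p (c.next p) ▷ M).hom x = 0) : ∃ t : CohIII.T P p M, (jT P p M).hom t = x := by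
  let K := CohIII.tensorObj P M
  have hex : (ShortComplex.mk (K.homologyι p) (K.fromOpcycles p (c.next p))
      (K.homologyι_comp_fromOpcycles p _)).Exact :=
    ShortComplex.exact_of_f_is_kernel _ (K.homologyIsKernel p (c.next p) rfl)
  rw [ShortComplex.moduleCat_exact_iff] at hex
  let y := (inv (opcTensorHom P p M)).hom x
  have hy : (opcTensorHom P p M).hom y = x := by
    show ((inv (opcTensorHom P p M)) ≫ opcTensorHom P p M).hom x = x
    rw [IsIso.inv_hom_id]
    rfl
  have hy0 : (K.fromOpcycles p (c.next p)).hom y = 0 := by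
    rw [← opcTensorHom_fromOpcycles]
    show (P.fromOpcycles p (c.next p) ▷ M).hom ((opcTensorHom P p M).hom y) = 0
    rw [hy, hx]
  obtain ⟨t, ht⟩ := hex y hy0
  refine ⟨t, ?_⟩
  show (opcTensorHom P p M).hom ((K.homologyι p).hom t) = x
  have ht' : (K.homologyι p).hom t = y := ht
  rw [ht', hy]

end Opcycles

end Groth.Agent.Lib.Helper3

namespace Groth.Agent.Lib.Helper3

open CategoryTheory CategoryTheory.Limits MonoidalCategory

variable {A : Type u} [CommRing A] {ι : Type} {c : ComplexShape ι}

/-- long exact sequence consequence: if `T_p(g)` is epi then `T_q(f)` is mono, for a short exact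
sequence `0 → M' -f→ M -g→ M'' → 0` and `c.Rel p q`. -/
theorem mono_T_map_of_epi (P : HomologicalComplex (ModuleCat.{u} A) c)
    (hP : ∀ i, Module.Flat A (P.X i)) (S : ShortComplex (ModuleCat.{u} A)) (hS : S.ShortExact)
    (p q : ι) (hrel : c.Rel p q) (h : Epi ((CohIII.TFun P p).map S.g)) :
    Mono ((CohIII.TFun P q).map S.f) := by
  have hT := tensorSC_shortExact P hP S hS
  have e3 := hT.homology_exact₃ p q hrel
  have e1 := hT.homology_exact₁ p q hrel
  have hδ : hT.δ p q hrel = 0 := (e3.epi_f_iff).mp h
  exact (e1.mono_g_iff).mpr hδ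

theorem epi_T_map_of_mono (P : HomologicalComplex (ModuleCat.{u} A) c)
    (hP : ∀ i, Module.Flat A (P.X i)) (S : ShortComplex (ModuleCat.{u} A)) (hS : S.ShortExact)
    (p q : ι) (hrel : c.Rel p q) (h : Mono ((CohIII.TFun P q).map S.f)) :
    Epi ((CohIII.TFun P p).map S.g) := by
  have hT := tensorSC_shortExact P hP S hS
  have e3 := hT.homology_exact₃ p q hrel
  have e1 := hT.homology_exact₁ p q hrel
  have hδ : hT.δ p q hrel = 0 := (e1.mono_g_iff).mp h
  exact (e3.epi_f_iff).mpr hδ

/-- four-lemma argument: if `T_p(φ)` is injective for a mono `φ` and `P_{next p}` is flat then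
`opcycles_p(P) ⊗ φ` is injective. -/
theorem mono_whiskerLeft_opcycles (P : HomologicalComplex (ModuleCat.{u} A) c) (p : ι)
    (hflat : Module.Flat A (P.X (c.next p))) {M' M : ModuleCat.{u} A} (φ : M' ⟶ M) [Mono φ]
    (h : Mono ((CohIII.TFun P p).map φ)) : Mono (P.opcycles p ◁ φ) := by
  have hTφ : Function.Injective ((CohIII.TFun P p).map φ).hom :=
    (ModuleCat.mono_iff_injective _).mp h
  have hj : ∀ M : ModuleCat.{u} A, Function.Injective (jT P p M).hom := fun M =>
    (ModuleCat.mono_iff_injective _).mp inferInstance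
  have hPφ : Function.Injective (P.X (c.next p) ◁ φ).hom :=
    (ModuleCat.mono_iff_injective _).mp
      (inferInstanceAs (Mono ((tensorLeft (P.X (c.next p))).map φ)))
  rw [ModuleCat.mono_iff_injective, injective_iff_map_eq_zero]
  intro x hx
  have h1 : (P.fromOpcycles p (c.next p) ▷ M').hom x = 0 := by
    apply hPφ
    rw [map_zero]
    have := congrArg (fun k => k.hom x) (whisker_exchange (P.fromOpcycles p (c.next p)) φ)
    simp only [ModuleCat.hom_comp, LinearMap.comp_apply] at this
    rw [← this, hx, map_zero]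
  obtain ⟨t, rfl⟩ := exists_jT_eq P p M' x h1
  have h2 : (jT P p M).hom (((CohIII.TFun P p).map φ).hom t) = 0 :=
    (LinearMap.congr_fun (congrArg ModuleCat.Hom.hom (jT_naturality P p φ)) t).trans hx
  have h3 : ((CohIII.TFun P p).map φ).hom t = 0 := hj _ (h2.trans (map_zero _).symm)
  have h4 : t = 0 := hTφ (h3.trans (map_zero _).symm)
  rw [h4, map_zero]

end Groth.Agent.Lib.Helper3

namespace Groth.Agent.Lib.Helper3

open CategoryTheory CategoryTheory.Limits MonoidalCategory

section Local

variable (A : Type u) [CommRing A] [IsLocalRing A]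

/-- the sequence `0 → m → A → k → 0` -/
noncomputable def residueSC : ShortComplex (ModuleCat.{u} A) :=
  ShortComplex.mk (ModuleCat.ofHom (IsLocalRing.maximalIdeal A).subtype)
    (ModuleCat.ofHom (Algebra.linearMap A (IsLocalRing.ResidueField A))) (by
      ext x
      exact (IsLocalRing.residue_eq_zero_iff _).mpr x.2)

theorem residueSC_shortExact : (residueSC A).ShortExact := by
  have hmono : Mono (residueSC A).f :=
    (ModuleCat.mono_iff_injective _).mpr (Submodule.injective_subtype _)
  have hepi : Epi (residueSC A).g :=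
    (ModuleCat.epi_iff_surjective _).mpr
      (show Function.Surjective (Algebra.linearMap A (IsLocalRing.ResidueField A)) from
        IsLocalRing.residue_surjective)
  refine ShortComplex.ShortExact.mk' ?_ hmono hepi
  rw [ShortComplex.moduleCat_exact_iff]
  intro x hx
  exact ⟨⟨x, (IsLocalRing.residue_eq_zero_iff (R := A) x).mp hx⟩, rfl⟩

end Local

variable {A : Type u} [CommRing A] {ι : Type} {c : ComplexShape ι}

theorem finite_opcycles (P : HomologicalComplex (ModuleCat.{u} A) c) (q : ι)
    [Module.Finite A (P.X q)] : Module.Finite A (P.opcycles q) :=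
  Module.Finite.of_surjective (P.pOpcycles q).hom
    ((ModuleCat.epi_iff_surjective _).mp inferInstance)

/-- over a noetherian local ring, for a complex of finite flat modules: if `T_p(A) → T_p(k)` is
surjective then `opcycles_q(P)` is free, `c.Rel p q`. -/
theorem free_opcycles_of_surjective [IsNoetherianRing A] [IsLocalRing A]
    (P : HomologicalComplex (ModuleCat.{u} A) c)
    (hP : ∀ i, Module.Finite A (P.X i) ∧ Module.Flat A (P.X i)) (p q : ι) (hrel : c.Rel p q)
    (h : Function.Surjective ((CohIII.TFun P p).map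
      (ModuleCat.ofHom (Algebra.linearMap A (IsLocalRing.ResidueField A)))).hom) :
    Module.Free A (P.opcycles q) := by
  have hflat : ∀ i, Module.Flat A (P.X i) := fun i => (hP i).2
  have hepi : Epi ((CohIII.TFun P p).map (residueSC A).g) := (ModuleCat.epi_iff_surjective _).mpr h
  have hmono := mono_T_map_of_epi P hflat (residueSC A) (residueSC_shortExact A) p q hrel hepi
  have hm : Mono (residueSC A).f := (residueSC_shortExact A).mono_f
  have h2 := mono_whiskerLeft_opcycles P q (hflat _) (residueSC A).f hmono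
  have := (hP q).1
  have := finite_opcycles P q
  have : Module.FinitePresentation A (P.opcycles q) := Module.finitePresentation_of_finite A _
  apply Module.free_of_maximalIdeal_rTensor_injective
  rw [← LinearMap.lTensor_inj_iff_rTensor_inj]
  exact (ModuleCat.mono_iff_injective _).mp h2

end Groth.Agent.Lib.Helper3

namespace Groth.Agent.Lib.Helper3

open TensorProduct

section FlatSES

variable {R : Type u} [CommRing R] {X Y Z : Type u} [AddCommGroup X] [AddCommGroup Y]
  [AddCommGroup Z] [Module R X] [Module R Y] [Module R Z]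

/-- `0 → X → Y → Z → 0` exact with `Z` flat: `X ⊗ N → Y ⊗ N` is injective. -/
theorem rTensor_injective_of_exact_of_flat [Module.Flat R Z] (i : X →ₗ[R] Y) (g : Y →ₗ[R] Z)
    (hi : Function.Injective i) (hg : Function.Surjective g) (hex : Function.Exact i g)
    (N : Type u) [AddCommGroup N] [Module R N] : Function.Injective (i.rTensor N) := by
  rw [← LinearMap.lTensor_inj_iff_rTensor_inj]
  exact LinearMap.lTensor_injective_of_exact_of_flat g hg i hi hex N

/-- `0 → X → Y → Z → 0` exact with `Y`, `Z` flat: `X` is flat. -/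
theorem flat_of_exact_of_flat_mid_right [Module.Flat R Y] [Module.Flat R Z] (i : X →ₗ[R] Y)
    (g : Y →ₗ[R] Z) (hi : Function.Injective i) (hg : Function.Surjective g)
    (hex : Function.Exact i g) : Module.Flat R X := by
  rw [Module.Flat.iff_lTensor_preserves_injective_linearMap'.{u, u, u}]
  intro N N' _ _ _ _ φ hφ
  have h1 : Function.Injective ((φ.lTensor Y) ∘ₗ (i.rTensor N)) :=
    (Module.Flat.lTensor_preserves_injective_linearMap φ hφ).comp
      (rTensor_injective_of_exact_of_flat i g hi hg hex N)
  rw [LinearMap.lTensor_comp_rTensor, ← LinearMap.rTensor_comp_lTensor] at h1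
  exact Function.Injective.of_comp h1

/-- `0 → X → Y → Z → 0` exact with `X`, `Z` flat: `Y` is flat. -/
theorem flat_of_exact_of_flat_left_right [Module.Flat R X] [Module.Flat R Z] (i : X →ₗ[R] Y)
    (g : Y →ₗ[R] Z) (hi : Function.Injective i) (hg : Function.Surjective g)
    (hex : Function.Exact i g) : Module.Flat R Y := by
  rw [Module.Flat.iff_lTensor_preserves_injective_linearMap'.{u, u, u}]
  intro N N' _ _ _ _ φ hφ
  rw [injective_iff_map_eq_zero]
  intro x hx
  have ha : (g.rTensor N) x = 0 := by
    apply Module.Flat.lTensor_preserves_injective_linearMap (M := Z) φ hφ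
    rw [map_zero, ← LinearMap.comp_apply, LinearMap.lTensor_comp_rTensor,
      ← LinearMap.rTensor_comp_lTensor, LinearMap.comp_apply, hx, map_zero]
  obtain ⟨w, rfl⟩ := (rTensor_exact N hex hg x).mp ha
  have hc : (i.rTensor N') ((φ.lTensor X) w) = 0 := by
    rw [← LinearMap.comp_apply, LinearMap.rTensor_comp_lTensor, ← LinearMap.lTensor_comp_rTensor,
      LinearMap.comp_apply, hx]
  have hw : (φ.lTensor X) w = 0 :=
    rTensor_injective_of_exact_of_flat i g hi hg hex N' (hc.trans (map_zero _).symm)
  have : w = 0 :=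
    Module.Flat.lTensor_preserves_injective_linearMap (M := X) φ hφ (hw.trans (map_zero _).symm)
  rw [this, map_zero]

/-- for an exact sequence `0 → H → W → Pq → Wq → 0` with `Pq`, `Wq` flat: `W` flat iff `H` flat -/
theorem flat_four {H W Pq Wq : Type u} [AddCommGroup H] [AddCommGroup W] [AddCommGroup Pq]
    [AddCommGroup Wq] [Module R H] [Module R W] [Module R Pq] [Module R Wq]
    [Module.Flat R Pq] [Module.Flat R Wq] (ι : H →ₗ[R] W) (g : W →ₗ[R] Pq) (π : Pq →ₗ[R] Wq)
    (hι : Function.Injective ι) (hπ : Function.Surjective π) (h1 : Function.Exact ι g)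
    (h2 : Function.Exact g π) : Module.Flat R W ↔ Module.Flat R H := by
  have hB : Module.Flat R (LinearMap.range g) := by
    refine flat_of_exact_of_flat_mid_right (LinearMap.range g).subtype π
      (Submodule.injective_subtype _) hπ ?_
    intro x
    rw [h2 x]
    simp
  have hex : Function.Exact ι g.rangeRestrict := by
    intro x
    rw [← h1 x]
    constructor
    · intro h
      have := congrArg Subtype.val h
      simpa using this
    · intro h
      exact Subtype.ext (by simpa using h)
  constructor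
  · intro _
    exact flat_of_exact_of_flat_mid_right ι g.rangeRestrict hι g.surjective_rangeRestrict hex
  · intro _
    exact flat_of_exact_of_flat_left_right ι g.rangeRestrict hι g.surjective_rangeRestrict hex

end FlatSES

end Groth.Agent.Lib.Helper3

namespace Groth.Agent.Lib.Helper3

open CategoryTheory CategoryTheory.Limits MonoidalCategory

variable {A : Type u} [CommRing A] {ι : Type} {c : ComplexShape ι}

section Seq

variable (P : HomologicalComplex (ModuleCat.{u} A) c) (p q : ι)

theorem exact_homologyι_fromOpcycles (hq : c.next p = q) :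
    Function.Exact (P.homologyι p).hom (P.fromOpcycles p q).hom := by
  have hex : (ShortComplex.mk (P.homologyι p) (P.fromOpcycles p q)
      (P.homologyι_comp_fromOpcycles p _)).Exact :=
    ShortComplex.exact_of_f_is_kernel _ (P.homologyIsKernel p q hq)
  exact (ShortComplex.ShortExact.moduleCat_exact_iff_function_exact _).mp hex

theorem exact_fromOpcycles_pOpcycles (hp : c.prev q = p) :
    Function.Exact (P.fromOpcycles p q).hom (P.pOpcycles q).hom := by
  have hex : (ShortComplex.mk (P.d p q) (P.pOpcycles q) (P.d_pOpcycles p q)).Exact :=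
    ShortComplex.exact_of_g_is_cokernel _ (P.opcyclesIsCokernel p q hp)
  have hex' := (ShortComplex.ShortExact.moduleCat_exact_iff_function_exact _).mp hex
  have hsurj : Function.Surjective (P.pOpcycles p).hom :=
    (ModuleCat.epi_iff_surjective _).mp inferInstance
  have hfac : ∀ y, (P.fromOpcycles p q).hom ((P.pOpcycles p).hom y) = (P.d p q).hom y := by
    intro y
    exact LinearMap.congr_fun (congrArg ModuleCat.Hom.hom (P.p_fromOpcycles p q)) y
  intro x
  rw [hex' x]
  constructor
  · rintro ⟨y, rfl⟩
    exact ⟨(P.pOpcycles p).hom y, hfac y⟩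
  · rintro ⟨w, rfl⟩
    obtain ⟨y, rfl⟩ := hsurj w
    exact ⟨y, (hfac y).symm⟩

theorem flat_opcycles_iff_flat_homology (hrel : c.Rel p q) [Module.Flat A (P.X q)]
    [Module.Flat A (P.opcycles q)] :
    Module.Flat A (P.opcycles p) ↔ Module.Flat A (P.homology p) :=
  flat_four (P.homologyι p).hom (P.fromOpcycles p q).hom (P.pOpcycles q).hom
    ((ModuleCat.mono_iff_injective _).mp inferInstance)
    ((ModuleCat.epi_iff_surjective _).mp inferInstance)
    (exact_homologyι_fromOpcycles P p q (c.next_eq' hrel))
    (exact_fromOpcycles_pOpcycles P p q (c.prev_eq' hrel))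

end Seq

end Groth.Agent.Lib.Helper3

namespace Groth.Agent.Lib.Helper3

open CategoryTheory CategoryTheory.Limits MonoidalCategory

variable {A : Type u} [CommRing A] {ι : Type} {c : ComplexShape ι}

/-- `P ⊗ A ≅ P` -/
noncomputable def tensorObjUnitIso (P : HomologicalComplex (ModuleCat.{u} A) c) :
    CohIII.tensorObj P (ModuleCat.of A A) ≅ P :=
  HomologicalComplex.Hom.isoOfComponents (fun i => ρ_ (P.X i)) (by
    intro i j _
    exact (rightUnitor_naturality (P.d i j)).symm)

/-- `T_p(A) ≅ H_p(P)` -/
noncomputable def TUnitIso (P : HomologicalComplex (ModuleCat.{u} A) c) (p : ι) :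
    CohIII.T P p (ModuleCat.of A A) ≅ P.homology p :=
  (HomologicalComplex.homologyFunctor _ c p).mapIso (tensorObjUnitIso P)

theorem flat_T_unit_iff (P : HomologicalComplex (ModuleCat.{u} A) c) (p : ι) :
    Module.Flat A (CohIII.T P p (ModuleCat.of A A)) ↔ Module.Flat A (P.homology p) :=
  Module.Flat.equiv_iff (TUnitIso P p).toLinearEquiv

end Groth.Agent.Lib.Helper3

set_option linter.unusedSectionVars false

namespace Groth.Agent.Lib.Helper3

open TensorProduct

section FlatFour2

variable {R : Type u} [CommRing R] {H W Pq Wq : Type u} [AddCommGroup H] [AddCommGroup W]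
  [AddCommGroup Pq] [AddCommGroup Wq] [Module R H] [Module R W] [Module R Pq] [Module R Wq]
  [Module.Flat R Pq] [Module.Flat R Wq] (ι : H →ₗ[R] W) (g : W →ₗ[R] Pq) (π : Pq →ₗ[R] Wq)
  (hι : Function.Injective ι) (hπ : Function.Surjective π) (h1 : Function.Exact ι g)
  (h2 : Function.Exact g π) (M : Type u) [AddCommGroup M] [Module R M]

include hι hπ h1 h2

theorem flat_range_of_four : Module.Flat R (LinearMap.range g) := by
  refine flat_of_exact_of_flat_mid_right (LinearMap.range g).subtype π
    (Submodule.injective_subtype _) hπ ?_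
  intro x
  rw [h2 x]
  simp

theorem exact_rangeRestrict_of_four : Function.Exact ι g.rangeRestrict := by
  intro x
  rw [← h1 x]
  constructor
  · intro h
    have := congrArg Subtype.val h
    simpa using this
  · intro h
    exact Subtype.ext (by simpa using h)

theorem rTensor_injective_of_four : Function.Injective (ι.rTensor M) := by
  have := flat_range_of_four ι g π hι hπ h1 h2
  exact rTensor_injective_of_exact_of_flat ι g.rangeRestrict hι g.surjective_rangeRestrict
    (exact_rangeRestrict_of_four ι g π hι hπ h1 h2) M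

theorem exists_rTensor_eq_of_four (x : W ⊗[R] M) (hx : (g.rTensor M) x = 0) :
    ∃ h : H ⊗[R] M, (ι.rTensor M) h = x := by
  have hincl : Function.Injective ((LinearMap.range g).subtype.rTensor M) := by
    refine rTensor_injective_of_exact_of_flat (LinearMap.range g).subtype π
      (Submodule.injective_subtype _) hπ ?_ M
    intro y
    rw [h2 y]
    simp
  have hfac : g.rTensor M = ((LinearMap.range g).subtype.rTensor M) ∘ₗ (g.rangeRestrict.rTensor M) := by
    rw [← LinearMap.rTensor_comp]
    rfl
  have hx' : (g.rangeRestrict.rTensor M) x = 0 := by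
    apply hincl
    rw [map_zero, ← LinearMap.comp_apply, ← hfac, hx]
  exact (rTensor_exact M (exact_rangeRestrict_of_four ι g π hι hπ h1 h2)
    g.surjective_rangeRestrict x).mp hx'

end FlatFour2

end Groth.Agent.Lib.Helper3

namespace Groth.Agent.Lib.Helper3

open CategoryTheory CategoryTheory.Limits MonoidalCategory

variable {A : Type u} [CommRing A] {ι : Type} {c : ComplexShape ι}

section Theta

variable (P : HomologicalComplex (ModuleCat.{u} A) c) (p : ι)

theorem homologyι_whisker_fromOpcycles (M : ModuleCat.{u} A) (q : ι) :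
    (P.homologyι p ▷ M) ≫ (P.fromOpcycles p q ▷ M) = 0 := by
  rw [← comp_whiskerRight, HomologicalComplex.homologyι_comp_fromOpcycles,
    MonoidalPreadditive.zero_whiskerRight]

theorem theta_aux (M : ModuleCat.{u} A) :
    ((P.homologyι p ▷ M) ≫ inv (opcTensorHom P p M)) ≫
      (CohIII.tensorObj P M).fromOpcycles p (c.next p) = 0 :=
  calc ((P.homologyι p ▷ M) ≫ inv (opcTensorHom P p M)) ≫
        (CohIII.tensorObj P M).fromOpcycles p (c.next p)
      = ((P.homologyι p ▷ M) ≫ inv (opcTensorHom P p M)) ≫
          (opcTensorHom P p M ≫ (P.fromOpcycles p (c.next p) ▷ M)) :=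
        congrArg _ (opcTensorHom_fromOpcycles P p M (c.next p)).symm
    _ = (P.homologyι p ▷ M) ≫ (P.fromOpcycles p (c.next p) ▷ M) := by
        rw [Category.assoc, IsIso.inv_hom_id_assoc]
    _ = 0 := homologyι_whisker_fromOpcycles P p M _

/-- the comparison `H_p(P) ⊗ M ⟶ T_p(M)` -/
noncomputable def theta (M : ModuleCat.{u} A) : P.homology p ⊗ M ⟶ CohIII.T P p M :=
  (KernelFork.IsLimit.lift' ((CohIII.tensorObj P M).homologyIsKernel p (c.next p) rfl)
    ((P.homologyι p ▷ M) ≫ inv (opcTensorHom P p M)) (theta_aux P p M)).1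

theorem theta_jT (M : ModuleCat.{u} A) : theta P p M ≫ jT P p M = P.homologyι p ▷ M := by
  have h' : theta P p M ≫ (CohIII.tensorObj P M).homologyι p =
      (P.homologyι p ▷ M) ≫ inv (opcTensorHom P p M) :=
    (KernelFork.IsLimit.lift' ((CohIII.tensorObj P M).homologyIsKernel p (c.next p) rfl)
      ((P.homologyι p ▷ M) ≫ inv (opcTensorHom P p M)) (theta_aux P p M)).2
  unfold jT
  rw [← Category.assoc, h', Category.assoc, IsIso.inv_hom_id, Category.comp_id]

theorem theta_naturality {M N : ModuleCat.{u} A} (f : M ⟶ N) :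
    theta P p M ≫ (CohIII.TFun P p).map f = (P.homology p ◁ f) ≫ theta P p N := by
  have h : (theta P p M ≫ (CohIII.TFun P p).map f) ≫ jT P p N =
      ((P.homology p ◁ f) ≫ theta P p N) ≫ jT P p N :=
    calc (theta P p M ≫ (CohIII.TFun P p).map f) ≫ jT P p N
        = theta P p M ≫ ((CohIII.TFun P p).map f ≫ jT P p N) := Category.assoc _ _ _
      _ = theta P p M ≫ (jT P p M ≫ (P.opcycles p ◁ f)) :=
          congrArg (fun k => theta P p M ≫ k) (jT_naturality P p f)
      _ = (theta P p M ≫ jT P p M) ≫ (P.opcycles p ◁ f) := (Category.assoc _ _ _).symm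
      _ = (P.homologyι p ▷ M) ≫ (P.opcycles p ◁ f) := by rw [theta_jT]
      _ = (P.homology p ◁ f) ≫ (P.homologyι p ▷ N) := (whisker_exchange (P.homologyι p) f).symm
      _ = (P.homology p ◁ f) ≫ (theta P p N ≫ jT P p N) := by rw [theta_jT]
      _ = ((P.homology p ◁ f) ≫ theta P p N) ≫ jT P p N := (Category.assoc _ _ _).symm
  exact (@cancel_mono _ _ _ _ _ (jT P p N) (mono_jT P p N) _ _).mp h

/-- the natural transformation `H_p(P) ⊗ - ⟶ T_p` -/
noncomputable def thetaNat : tensorLeft (P.homology p) ⟶ CohIII.TFun P p where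
  app M := theta P p M
  naturality _ _ f := (theta_naturality P p f).symm

theorem isIso_theta (q : ι) (hrel : c.Rel p q) [Module.Flat A (P.X q)]
    [Module.Flat A (P.opcycles q)] (M : ModuleCat.{u} A) : IsIso (theta P p M) := by
  have hι : Function.Injective (P.homologyι p).hom := (ModuleCat.mono_iff_injective _).mp inferInstance
  have hπ : Function.Surjective (P.pOpcycles q).hom := (ModuleCat.epi_iff_surjective _).mp inferInstance
  have h1 := exact_homologyι_fromOpcycles P p q (c.next_eq' hrel)
  have h2 := exact_fromOpcycles_pOpcycles P p q (c.prev_eq' hrel)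
  have hj : Function.Injective (jT P p M).hom := (ModuleCat.mono_iff_injective _).mp inferInstance
  have hcomp : ∀ h, (jT P p M).hom ((theta P p M).hom h) = (P.homologyι p ▷ M).hom h := fun h =>
    LinearMap.congr_fun (congrArg ModuleCat.Hom.hom (theta_jT P p M)) h
  rw [ConcreteCategory.isIso_iff_bijective]
  constructor
  · intro a b hab
    have : (P.homologyι p ▷ M).hom a = (P.homologyι p ▷ M).hom b := by
      rw [← hcomp, ← hcomp]
      exact congrArg _ hab
    exact rTensor_injective_of_four (P.homologyι p).hom (P.fromOpcycles p q).hom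
      (P.pOpcycles q).hom hι hπ h1 h2 M this
  · intro t
    have hq : c.next p = q := c.next_eq' hrel
    subst hq
    have hx : (P.fromOpcycles p (c.next p) ▷ M).hom ((jT P p M).hom t) = 0 :=
      LinearMap.congr_fun (congrArg ModuleCat.Hom.hom (jT_comp_fromOpcycles P p M (c.next p))) t
    obtain ⟨h, hh⟩ := exists_rTensor_eq_of_four (P.homologyι p).hom
      (P.fromOpcycles p (c.next p)).hom (P.pOpcycles (c.next p)).hom hι hπ h1 h2 M _ hx
    refine ⟨h, hj ?_⟩
    exact (hcomp h).trans hh

/-- if `opcycles_q(P)` is flat (`c.Rel p q`), then `T_p ≅ H_p(P) ⊗ -` -/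
noncomputable def thetaIso (q : ι) (hrel : c.Rel p q) [Module.Flat A (P.X q)]
    [Module.Flat A (P.opcycles q)] : tensorLeft (P.homology p) ≅ CohIII.TFun P p :=
  NatIso.ofComponents (fun M => @asIso _ _ _ _ (theta P p M) (isIso_theta P p q hrel M))
    (fun f => (theta_naturality P p f).symm)

end Theta

end Groth.Agent.Lib.Helper3

namespace Groth.Agent.Lib.Helper3

open TensorProduct

section Krull

variable {A : Type u} [CommRing A] [IsNoetherianRing A] [IsLocalRing A]
  (W : Type u) [AddCommGroup W] [Module A W] [Module.Finite A W]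

/-- the projection `A/m^(n+1) → A/m` as a linear map -/
noncomputable def phiN (A : Type u) [CommRing A] [IsLocalRing A] (n : ℕ) :
    (A ⧸ IsLocalRing.maximalIdeal A ^ (n + 1)) →ₗ[A] (A ⧸ IsLocalRing.maximalIdeal A) :=
  (Ideal.Quotient.factorₐ A (Ideal.pow_le_self (I := IsLocalRing.maximalIdeal A)
    (Nat.succ_ne_zero n))).toLinearMap

theorem tmul_mem_pow_smul (n : ℕ) (w : W) (a : A) (ha : a ∈ IsLocalRing.maximalIdeal A ^ (n + 1))
    (ha' : a ∈ IsLocalRing.maximalIdeal A) :
    w ⊗ₜ[A] (⟨a, ha'⟩ : IsLocalRing.maximalIdeal A) ∈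
      (IsLocalRing.maximalIdeal A ^ n) • (⊤ : Submodule A (W ⊗[A] IsLocalRing.maximalIdeal A)) := by
  rw [pow_succ] at ha
  revert ha'
  refine Submodule.mul_induction_on' (C := fun a _ => ∀ ha' : a ∈ IsLocalRing.maximalIdeal A,
    w ⊗ₜ[A] (⟨a, ha'⟩ : IsLocalRing.maximalIdeal A) ∈
      (IsLocalRing.maximalIdeal A ^ n) • (⊤ : Submodule A (W ⊗[A] IsLocalRing.maximalIdeal A)))
    ?_ ?_ ha
  · intro r hr c hc ha'
    have : (⟨r * c, ha'⟩ : IsLocalRing.maximalIdeal A) = r • ⟨c, hc⟩ := rfl
    rw [this, TensorProduct.tmul_smul]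
    exact Submodule.smul_mem_smul hr Submodule.mem_top
  · intro a1 h1 a2 h2 ih1 ih2 ha'
    have m1 : a1 ∈ IsLocalRing.maximalIdeal A := Ideal.mul_le_right (I := IsLocalRing.maximalIdeal A ^ n) (J := IsLocalRing.maximalIdeal A) h1
    have m2 : a2 ∈ IsLocalRing.maximalIdeal A := Ideal.mul_le_right (I := IsLocalRing.maximalIdeal A ^ n) (J := IsLocalRing.maximalIdeal A) h2
    have : (⟨a1 + a2, ha'⟩ : IsLocalRing.maximalIdeal A) = ⟨a1, m1⟩ + ⟨a2, m2⟩ := rfl
    rw [this, TensorProduct.tmul_add]
    exact add_mem (ih1 m1) (ih2 m2)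

theorem lTensor_maximalIdeal_injective_of_forall_large (n₀ : ℕ)
    (h : ∀ n, n₀ ≤ n → Function.Injective ((LinearMap.ker (phiN A n)).subtype.lTensor W)) :
    Function.Injective ((IsLocalRing.maximalIdeal A).subtype.lTensor W) := by
  rw [injective_iff_map_eq_zero]
  intro x hx
  have key : ∀ n, n₀ ≤ n → x ∈ (IsLocalRing.maximalIdeal A ^ n) •
      (⊤ : Submodule A (W ⊗[A] IsLocalRing.maximalIdeal A)) := by
    intro n hn
    let mkn : A →ₗ[A] A ⧸ IsLocalRing.maximalIdeal A ^ (n + 1) := Algebra.linearMap A _
    have hmk : ∀ a : A, phiN A n (mkn a) = 0 ↔ a ∈ IsLocalRing.maximalIdeal A := by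
      intro a
      exact Ideal.Quotient.eq_zero_iff_mem
    let rn : IsLocalRing.maximalIdeal A →ₗ[A] LinearMap.ker (phiN A n) :=
      LinearMap.codRestrict _ (mkn ∘ₗ (IsLocalRing.maximalIdeal A).subtype)
        (fun a => (hmk a).mpr a.2)
    have hcomp : (LinearMap.ker (phiN A n)).subtype ∘ₗ rn =
        mkn ∘ₗ (IsLocalRing.maximalIdeal A).subtype := rfl
    have h1 : (rn.lTensor W) x = 0 := by
      apply h n hn
      rw [map_zero, ← LinearMap.comp_apply, ← LinearMap.lTensor_comp, hcomp,
        LinearMap.lTensor_comp, LinearMap.comp_apply, hx, map_zero]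
    have hsurj : Function.Surjective rn := by
      rintro ⟨y, hy⟩
      obtain ⟨a, rfl⟩ := Ideal.Quotient.mk_surjective y
      exact ⟨⟨a, (hmk a).mp hy⟩, rfl⟩
    have hex := lTensor_exact W (LinearMap.exact_subtype_ker_map rn) hsurj
    obtain ⟨z, rfl⟩ := (hex x).mp h1
    clear h1 hx
    induction z using TensorProduct.induction_on with
    | zero => rw [map_zero]; exact zero_mem _
    | tmul w b =>
      rw [LinearMap.lTensor_tmul]
      have hb : ((b : IsLocalRing.maximalIdeal A) : A) ∈ IsLocalRing.maximalIdeal A ^ (n + 1) := by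
        have hb0 : rn (b : IsLocalRing.maximalIdeal A) = 0 := b.2
        have hb1 : mkn ((b : IsLocalRing.maximalIdeal A) : A) = 0 := congrArg Subtype.val hb0
        exact Ideal.Quotient.eq_zero_iff_mem.mp hb1
      exact tmul_mem_pow_smul W n w _ hb (b : IsLocalRing.maximalIdeal A).2
    | add a b ha hb => rw [map_add]; exact add_mem ha hb
  have hall : x ∈ ⨅ i : ℕ, (IsLocalRing.maximalIdeal A ^ i) •
      (⊤ : Submodule A (W ⊗[A] IsLocalRing.maximalIdeal A)) := by
    rw [Submodule.mem_iInf]
    intro i
    by_cases hi : n₀ ≤ i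
    · exact key i hi
    · have hle : IsLocalRing.maximalIdeal A ^ n₀ ≤ IsLocalRing.maximalIdeal A ^ i :=
        Ideal.pow_le_pow_right (by omega)
      exact Submodule.smul_mono_left hle (key n₀ le_rfl)
  rw [Ideal.iInf_pow_smul_eq_bot_of_isLocalRing _ (IsLocalRing.maximalIdeal.isMaximal A).ne_top] at hall
  exact (Submodule.mem_bot A).mp hall

end Krull

end Groth.Agent.Lib.Helper3
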