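import Mathlib
import Groth.Prelude.Def_ega3
import Groth.Agent.Lib.Helper3FlatCx
import Groth.Agent.S2380

set_option autoImplicit false
universe u

namespace Groth.Agent.Lib.Helper3

open CategoryTheory CategoryTheory.Limits MonoidalCategory

variable {A : Type u} [CommRing A] {ι : Type} {c : ComplexShape ι}

section BC

variable (B : Type u) [CommRing B] [Algebra A B] (P : HomologicalComplex (ModuleCat.{u} A) c)

/-- opcycles commute with base change of complexes -/
noncomputable def bcOpcyclesIso (q : ι) :
    (CohIII.bcCx (algebraMap A B) P).opcycles q ≅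
      (ModuleCat.extendScalars (algebraMap A B)).obj (P.opcycles q) :=
  IsColimit.coconePointUniqueUpToIso
    ((CohIII.bcCx (algebraMap A B) P).opcyclesIsCokernel (c.prev q) q rfl)
    (CokernelCofork.mapIsColimit _ (P.opcyclesIsCokernel (c.prev q) q rfl)
      (ModuleCat.extendScalars (algebraMap A B)))

theorem flat_extendScalars (M : ModuleCat.{u} A) [Module.Flat A M] :
    Module.Flat B ((ModuleCat.extendScalars (algebraMap A B)).obj M) :=
  Module.Flat.of_linearEquiv (Groth.Agent.S2380.bridge A B M)

theorem flat_extendScalars_iff [Module.FaithfullyFlat A B] (M : ModuleCat.{u} A) :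
    Module.Flat B ((ModuleCat.extendScalars (algebraMap A B)).obj M) ↔ Module.Flat A M :=
  (Module.Flat.equiv_iff (Groth.Agent.S2380.bridge A B M)).trans
    (Module.Flat.iff_flat_tensorProduct A M B)

theorem flat_bcCx_X (hP : ∀ i, Module.Flat A (P.X i)) (i : ι) :
    Module.Flat B ((CohIII.bcCx (algebraMap A B) P).X i) := by
  have := hP i
  exact flat_extendScalars B (P.X i)

theorem flat_bcCx_opcycles (q : ι) [Module.Flat A (P.opcycles q)] :
    Module.Flat B ((CohIII.bcCx (algebraMap A B) P).opcycles q) :=
  have := flat_extendScalars B (P.opcycles q)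
  Module.Flat.of_linearEquiv (bcOpcyclesIso B P q).toLinearEquiv

theorem flat_bcCx_opcycles_iff [Module.FaithfullyFlat A B] (q : ι) :
    Module.Flat B ((CohIII.bcCx (algebraMap A B) P).opcycles q) ↔ Module.Flat A (P.opcycles q) :=
  (Module.Flat.equiv_iff (bcOpcyclesIso B P q).toLinearEquiv).trans
    (flat_extendScalars_iff B (P.opcycles q))

end BC

end Groth.Agent.Lib.Helper3

namespace Groth.Agent.Lib.Helper3

open CategoryTheory CategoryTheory.Limits MonoidalCategory TensorProduct

variable {A : Type u} [CommRing A] {ι : Type} {c : ComplexShape ι}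

theorem flat_bcCx_opcycles_atPrime_iff (P : HomologicalComplex (ModuleCat.{u} A) c) (q : ι)
    [Module.Finite A (P.X q)] (y : PrimeSpectrum A) :
    Module.Flat (Localization.AtPrime y.asIdeal)
      ((CohIII.bcCx (algebraMap A (Localization.AtPrime y.asIdeal)) P).opcycles q) ↔
      y ∈ Module.freeLocus A (P.opcycles q) := by
  have := finite_opcycles P q
  rw [Module.mem_freeLocus_iff_tensor y (Localization.AtPrime y.asIdeal),
    Module.Flat.equiv_iff (bcOpcyclesIso (Localization.AtPrime y.asIdeal) P q).toLinearEquiv,
    Module.Flat.equiv_iff (Groth.Agent.S2380.bridge A (Localization.AtPrime y.asIdeal)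
      (P.opcycles q))]
  constructor
  · intro h
    exact Module.free_of_flat_of_isLocalRing
  · intro h
    exact Module.Flat.of_free

end Groth.Agent.Lib.Helper3

namespace Groth.Agent.Lib.Helper3

open TensorProduct Groth.Agent.S2380

section RL

variable {A : Type u} [CommRing A] (M : Type u) [AddCommGroup M] [Module A M]

/-- a family of `fd M x0` elements generating `M` near `x0` -/
theorem exists_family_notMem_support [Module.Finite A M] (x0 : PrimeSpectrum A) :
    ∃ (κ : Type u) (_ : Fintype κ) (a : κ → M), Fintype.card κ = fd M x0 ∧
      x0 ∉ Module.support A (M ⧸ LinearMap.range (Submodule.span A (Set.range a)).subtype) := by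
  let k0 := x0.asIdeal.ResidueField
  obtain ⟨κ, a, -, hsp, hli⟩ :=
    exists_linearIndependent' k0 (fun m : M => (1 : k0) ⊗ₜ[A] m)
  rw [span_one_tmul_eq_top M k0] at hsp
  let b : Module.Basis κ k0 (k0 ⊗[A] M) := Module.Basis.mk hli hsp.ge
  have : Finite κ := Module.Finite.finite_basis b
  have hF : Fintype κ := Fintype.ofFinite κ
  have hcard : fd M x0 = Fintype.card κ := Module.finrank_eq_card_basis b
  refine ⟨κ, hF, a, hcard.symm, ?_⟩
  rw [Module.mem_support_iff_nontrivial_residueField_tensorProduct,
    not_nontrivial_iff_subsingleton, subsingleton_tensor_quot_iff, Submodule.baseChange_span,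
    ← Set.range_comp]
  exact hsp

/-- a finite module over a reduced local ring whose fibre dimension at every minimal prime equals
the one at the closed point is free -/
theorem free_of_fd_eq_closedPoint [IsLocalRing A] [IsReduced A] [Module.Finite A M]
    (h : ∀ q : PrimeSpectrum A, q.asIdeal ∈ minimalPrimes A →
      fd M q = fd M (IsLocalRing.closedPoint A)) : Module.Free A M := by
  classical
  obtain ⟨κ, hF, a, hcard, hsupp⟩ := exists_family_notMem_support M (IsLocalRing.closedPoint A)
  -- the quotient vanishes
  have hempty : Module.support A (M ⧸ LinearMap.range (Submodule.span A (Set.range a)).subtype) = ∅ := by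
    rw [Set.eq_empty_iff_forall_notMem]
    intro y hy
    exact hsupp (Module.mem_support_mono (IsLocalRing.le_maximalIdeal y.2.ne_top) hy)
  rw [Module.support_eq_empty_iff, Submodule.Quotient.subsingleton_iff,
    Submodule.range_subtype] at hempty
  let φ : (κ → A) →ₗ[A] M := Fintype.linearCombination A a
  have hsurj : Function.Surjective φ := by
    rw [← LinearMap.range_eq_top, Fintype.range_linearCombination]
    exact hempty
  have hinj : Function.Injective φ := by
    rw [injective_iff_map_eq_zero]
    intro v hv
    have hmem : ∀ q : PrimeSpectrum A, q.asIdeal ∈ minimalPrimes A → ∀ i, v i ∈ q.asIdeal := by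
      intro q hq i
      let kq := q.asIdeal.ResidueField
      have hΦs : Function.Surjective (φ.baseChange kq) := LinearMap.baseChange_surjective kq hsurj
      have hdim : Module.finrank kq (kq ⊗[A] (κ → A)) = Module.finrank kq (kq ⊗[A] M) := by
        rw [Module.finrank_baseChange, Module.finrank_fintype_fun_eq_card, hcard]
        exact (h q hq).symm
      have hΦi : Function.Injective (φ.baseChange kq) :=
        (LinearMap.injective_iff_surjective_of_finrank_eq_finrank hdim).mpr hΦs
      have h0 : (1 : kq) ⊗ₜ[A] v = 0 := by
        apply hΦi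
        rw [LinearMap.baseChange_tmul, hv, TensorProduct.tmul_zero, map_zero]
      have h1 : TensorProduct.piScalarRight A kq kq κ ((1 : kq) ⊗ₜ[A] v) i = 0 := by
        rw [h0, map_zero]
        rfl
      rw [TensorProduct.piScalarRight_apply, TensorProduct.piScalarRightHom_tmul] at h1
      replace h1 : v i • (1 : kq) = 0 := h1
      rw [Algebra.smul_def, mul_one] at h1
      exact Ideal.algebraMap_residueField_eq_zero.mp h1
    have hnil : ∀ i, v i ∈ nilradical A := by
      intro i
      have : nilradical A = sInf (minimalPrimes A) := by
        rw [minimalPrimes, Ideal.sInf_minimalPrimes]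
        rfl
      rw [this, Ideal.mem_sInf]
      intro I hI
      exact hmem ⟨I, hI.1.1⟩ hI i
    funext i
    have := hnil i
    rw [nilradical_eq_zero] at this
    exact this
  exact Module.Free.of_equiv (LinearEquiv.ofBijective φ ⟨hinj, hsurj⟩)

end RL

end Groth.Agent.Lib.Helper3
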