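import Mathlib
import Groth.Prelude.Def_ega3
import Groth.Agent.Lib.Helper3FlatCxBC
import Groth.Agent.S16288

/-!
# Helper3: rank formulas for `dRank` in terms of opcycles, semicontinuity along specialization
-/

set_option autoImplicit false
universe u

namespace Groth.Agent.Lib.Helper3

open CategoryTheory TensorProduct Groth.Agent.S2380 Groth.Agent.S16288

section DR

variable {A : Type u} [CommRing A]

theorem fd_congr {M N : Type u} [AddCommGroup M] [AddCommGroup N] [Module A M] [Module A N]
    (e : M ≃ₗ[A] N) (x : PrimeSpectrum A) : fd M x = fd N x :=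
  LinearEquiv.finrank_eq (LinearEquiv.baseChange A x.asIdeal.ResidueField M N e)

/-- `P_j / im d ≃ opcycles_j` -/
noncomputable def quotRangeEquivOpcycles (P : ChainComplex (ModuleCat.{u} A) ℤ) (i j : ℤ)
    (hij : j + 1 = i) : (P.X j ⧸ LinearMap.range (P.d i j).hom) ≃ₗ[A] P.opcycles j := by
  have hex : (ShortComplex.mk (P.d i j) (P.pOpcycles j) (P.d_pOpcycles i j)).Exact :=
    ShortComplex.exact_of_g_is_cokernel _
      (P.opcyclesIsCokernel i j ((ComplexShape.down ℤ).prev_eq' hij))
  have hex' := (ShortComplex.ShortExact.moduleCat_exact_iff_function_exact _).mp hex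
  have hker : LinearMap.ker (P.pOpcycles j).hom = LinearMap.range (P.d i j).hom :=
    (LinearMap.exact_iff.mp hex')
  exact (Submodule.quotEquivOfEq _ _ hker.symm).trans
    ((P.pOpcycles j).hom.quotKerEquivOfSurjective ((ModuleCat.epi_iff_surjective _).mp inferInstance))

theorem cc_eq_fd_opcycles (P : ChainComplex (ModuleCat.{u} A) ℤ) (i j : ℤ) (hij : j + 1 = i)
    (x : PrimeSpectrum A) : cc P i j x = fd (P.opcycles j) x :=
  fd_congr (quotRangeEquivOpcycles P i j hij) x

/-- the basic rank formula in terms of opcycles -/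
theorem dRank_add_opcycles (P : ChainComplex (ModuleCat.{u} A) ℤ)
    (hP : ∀ i, Module.Finite A (P.X i)) (p : ℤ) (x : PrimeSpectrum A) :
    CohIII.dRank P p x + fd (P.X (p - 1)) x =
      fd (P.opcycles p) x + fd (P.opcycles (p - 1)) x := by
  rw [← cc_eq_fd_opcycles P (p + 1) p rfl x, ← cc_eq_fd_opcycles P p (p - 1) (by ring) x]
  exact dRank_add' P hP p (p + 1) (p - 1) rfl rfl x

/-- fibre dimension of a finite free module -/
theorem fd_of_free [Nontrivial A] (M : Type u) [AddCommGroup M] [Module A M] [Module.Free A M]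
    (x : PrimeSpectrum A) : fd M x = Module.finrank A M :=
  Module.finrank_baseChange

/-- upper semicontinuity along specializations -/
theorem fd_le_of_specializes (M : Type u) [AddCommGroup M] [Module A M] [Module.Finite A M]
    {x y : PrimeSpectrum A} (h : x ⤳ y) : fd M x ≤ fd M y :=
  ((fd_eventually_le M y).filter_mono h).self_of_nhds

theorem fd_le_closedPoint [IsLocalRing A] (M : Type u) [AddCommGroup M] [Module A M]
    [Module.Finite A M] (x : PrimeSpectrum A) : fd M x ≤ fd M (IsLocalRing.closedPoint A) :=
  fd_le_of_specializes M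
    ((PrimeSpectrum.le_iff_specializes x _).mp (IsLocalRing.le_maximalIdeal x.2.ne_top))

end DR

end Groth.Agent.Lib.Helper3
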