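import Mathlib
import Groth.Prelude.Def_ega3
import Groth.Agent.Lib.Helper3FlatCxRank

set_option autoImplicit false
universe u

namespace Groth.Agent.Lib.Helper3

open CategoryTheory CategoryTheory.Limits MonoidalCategory TensorProduct Groth.Agent.S2380

section BT

variable {A : Type u} [CommRing A] {ι : Type} {c : ComplexShape ι}
variable (B : Type u) [CommRing B] [Algebra A B] (P : HomologicalComplex (ModuleCat.{u} A) c)

theorem pOpcycles_bcOpcyclesIso_hom (q : ι) :
    (CohIII.bcCx (algebraMap A B) P).pOpcycles q ≫ (bcOpcyclesIso B P q).hom =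
      (ModuleCat.extendScalars (algebraMap A B)).map (P.pOpcycles q) :=
  IsColimit.comp_coconePointUniqueUpToIso_hom
    ((CohIII.bcCx (algebraMap A B) P).opcyclesIsCokernel (c.prev q) q rfl)
    (CokernelCofork.mapIsColimit _ (P.opcyclesIsCokernel (c.prev q) q rfl)
      (ModuleCat.extendScalars (algebraMap A B))) WalkingParallelPair.one

theorem bcOpcyclesIso_hom_fromOpcycles_apply (p q : ι)
    (w : (CohIII.bcCx (algebraMap A B) P).opcycles p) :
    ((ModuleCat.extendScalars (algebraMap A B)).map (P.fromOpcycles p q)).hom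
      ((bcOpcyclesIso B P p).hom.hom w) =
      ((CohIII.bcCx (algebraMap A B) P).fromOpcycles p q).hom w := by
  let K := CohIII.bcCx (algebraMap A B) P
  let F := ModuleCat.extendScalars.{u, u, u} (algebraMap A B)
  have hsurj : Function.Surjective (K.pOpcycles p).hom :=
    (ModuleCat.epi_iff_surjective _).mp inferInstance
  obtain ⟨y, rfl⟩ := hsurj w
  have h1 : (bcOpcyclesIso B P p).hom.hom ((K.pOpcycles p).hom y) = (F.map (P.pOpcycles p)).hom y :=
    LinearMap.congr_fun (congrArg ModuleCat.Hom.hom (pOpcycles_bcOpcyclesIso_hom B P p)) y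
  have h2 : (F.map (P.fromOpcycles p q)).hom ((F.map (P.pOpcycles p)).hom y) =
      (F.map (P.d p q)).hom y := by
    have := congrArg (fun k => F.map k) (P.p_fromOpcycles p q)
    simp only [Functor.map_comp] at this
    exact LinearMap.congr_fun (congrArg ModuleCat.Hom.hom this) y
  have h3 : (K.fromOpcycles p q).hom ((K.pOpcycles p).hom y) = (K.d p q).hom y :=
    LinearMap.congr_fun (congrArg ModuleCat.Hom.hom (K.p_fromOpcycles p q)) y
  exact (congrArg _ h1).trans (h2.trans h3.symm)

end BT

section CommLemmas

variable {R : Type u} [CommRing R] {W Pq : Type u} [AddCommGroup W] [AddCommGroup Pq]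
  [Module R W] [Module R Pq] (g : W →ₗ[R] Pq) (S : Type u) [AddCommGroup S] [Module R S]

theorem rTensor_comm_apply (x : S ⊗[R] W) :
    (g.rTensor S) (TensorProduct.comm R S W x) = TensorProduct.comm R S Pq ((g.lTensor S) x) := by
  induction x using TensorProduct.induction_on with
  | zero => simp
  | tmul a b => rfl
  | add a b ha hb => simp only [map_add, ha, hb]

theorem lTensor_comm_symm_apply (h : W ⊗[R] S) :
    (g.lTensor S) ((TensorProduct.comm R S W).symm h) =
      (TensorProduct.comm R S Pq).symm ((g.rTensor S) h) := by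
  induction h using TensorProduct.induction_on with
  | zero => simp
  | tmul a b => rfl
  | add a b ha hb => simp only [map_add, ha, hb]

end CommLemmas

section FourBC

variable {R : Type u} [CommRing R] {H W Pq Wq : Type u} [AddCommGroup H] [AddCommGroup W]
  [AddCommGroup Pq] [AddCommGroup Wq] [Module R H] [Module R W] [Module R Pq] [Module R Wq]
  [Module.Flat R Pq] [Module.Flat R Wq] (ι : H →ₗ[R] W) (g : W →ₗ[R] Pq) (π : Pq →ₗ[R] Wq)
  (hι : Function.Injective ι) (hπ : Function.Surjective π) (h1 : Function.Exact ι g)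
  (h2 : Function.Exact g π) (S : Type u) [CommRing S] [Algebra R S]

include hι hπ h1 h2

theorem baseChange_injective_of_four : Function.Injective (ι.baseChange S) := by
  have h := rTensor_injective_of_four ι g π hι hπ h1 h2 S
  rw [← LinearMap.lTensor_inj_iff_rTensor_inj] at h
  exact h

theorem ker_baseChange_of_four :
    LinearMap.ker (g.baseChange S) = LinearMap.range (ι.baseChange S) := by
  apply le_antisymm
  · intro x hx
    have hx0 : (g.lTensor S) x = 0 := hx
    have hx' : (g.rTensor S) (TensorProduct.comm R S W x) = 0 := by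
      rw [rTensor_comm_apply, hx0, map_zero]
    obtain ⟨h, hh⟩ := exists_rTensor_eq_of_four ι g π hι hπ h1 h2 S _ hx'
    refine ⟨(TensorProduct.comm R S H).symm h, ?_⟩
    show (ι.lTensor S) ((TensorProduct.comm R S H).symm h) = x
    rw [lTensor_comm_symm_apply, hh, LinearEquiv.symm_apply_apply]
  · rintro x ⟨h, rfl⟩
    show (g.lTensor S) ((ι.lTensor S) h) = 0
    rw [← LinearMap.comp_apply, ← LinearMap.lTensor_comp]
    have : g ∘ₗ ι = 0 := by
      ext y
      exact (h1 (ι y)).mpr ⟨y, rfl⟩
    rw [this, LinearMap.lTensor_zero, LinearMap.zero_apply]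

end FourBC

section BT2

variable {A : Type u} [CommRing A] {ι : Type} {c : ComplexShape ι}
variable (B : Type u) [CommRing B] [Algebra A B] (P : HomologicalComplex (ModuleCat.{u} A) c)
  (p q : ι) (hrel : c.Rel p q) [Module.Flat A (P.X q)] [Module.Flat A (P.opcycles q)]

include hrel in
/-- base change of homology when the next opcycles are flat -/
theorem nonempty_bcHomologyEquiv :
    Nonempty ((CohIII.bcCx (algebraMap A B) P).homology p ≃ₗ[B] B ⊗[A] (P.homology p)) := by
  let K := CohIII.bcCx (algebraMap A B) P
  let φ := (P.homologyι p).hom.baseChange B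
  let ψ := (P.fromOpcycles p q).hom.baseChange B
  have hmono : Function.Injective (P.homologyι p).hom :=
    (ModuleCat.mono_iff_injective _).mp inferInstance
  have hepi : Function.Surjective (P.pOpcycles q).hom :=
    (ModuleCat.epi_iff_surjective _).mp inferInstance
  have hinj : Function.Injective φ :=
    baseChange_injective_of_four (P.homologyι p).hom (P.fromOpcycles p q).hom
      (P.pOpcycles q).hom hmono hepi (exact_homologyι_fromOpcycles P p q (c.next_eq' hrel))
      (exact_fromOpcycles_pOpcycles P p q (c.prev_eq' hrel)) B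
  have hker : LinearMap.ker ψ = LinearMap.range φ :=
    ker_baseChange_of_four (P.homologyι p).hom (P.fromOpcycles p q).hom
      (P.pOpcycles q).hom hmono hepi (exact_homologyι_fromOpcycles P p q (c.next_eq' hrel))
      (exact_fromOpcycles_pOpcycles P p q (c.prev_eq' hrel)) B
  let E : K.opcycles p ≃ₗ[B] B ⊗[A] (P.opcycles p) :=
    (bcOpcyclesIso B P p).toLinearEquiv ≪≫ₗ bridge A B (P.opcycles p)
  have hE : ∀ w, ψ (E w) = bridge A B (P.X q) ((K.fromOpcycles p q).hom w) := by
    intro w
    rw [← bcOpcyclesIso_hom_fromOpcycles_apply B P p q w]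
    exact (bridge_naturality A B (P.fromOpcycles p q) _).symm
  have hKinj : Function.Injective (K.homologyι p).hom :=
    (ModuleCat.mono_iff_injective _).mp inferInstance
  have hKex : Function.Exact (K.homologyι p).hom (K.fromOpcycles p q).hom :=
    exact_homologyι_fromOpcycles K p q (c.next_eq' hrel)
  have hmap : (LinearMap.ker (K.fromOpcycles p q).hom).map E.toLinearMap = LinearMap.ker ψ := by
    ext z
    constructor
    · rintro ⟨w, hw, rfl⟩
      show ψ (E w) = 0
      have h0 : (K.fromOpcycles p q).hom w = 0 := LinearMap.mem_ker.mp hw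
      exact (hE w).trans ((congrArg (bridge A B (P.X q)) h0).trans
        (map_zero (bridge A B (P.X q))))
    · intro hz
      refine ⟨E.symm z, ?_, E.apply_symm_apply z⟩
      show (K.fromOpcycles p q).hom (E.symm z) = 0
      apply (bridge A B (P.X q)).injective
      refine (hE (E.symm z)).symm.trans ?_
      rw [E.apply_symm_apply]
      exact (LinearMap.mem_ker.mp hz).trans (map_zero (bridge A B (P.X q))).symm
  exact ⟨(LinearEquiv.ofInjective (K.homologyι p).hom hKinj) ≪≫ₗ
    LinearEquiv.ofEq _ _ (LinearMap.exact_iff.mp hKex).symm ≪≫ₗ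
    (E.submoduleMap _) ≪≫ₗ LinearEquiv.ofEq _ _ (hmap.trans hker) ≪≫ₗ
    (LinearEquiv.ofInjective φ hinj).symm⟩

end BT2

section BT3

variable {A : Type u} [CommRing A]

/-- the rank function is the fibre dimension of the homology when the next opcycles are flat -/
theorem dRank_eq_fd_homology (P : ChainComplex (ModuleCat.{u} A) ℤ) (p : ℤ)
    [Module.Flat A (P.X (p - 1))] [Module.Flat A (P.opcycles (p - 1))] (x : PrimeSpectrum A) :
    CohIII.dRank P p x = fd (P.homology p) x := by
  obtain ⟨e⟩ := nonempty_bcHomologyEquiv x.asIdeal.ResidueField P p (p - 1) (by simp)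
  exact LinearEquiv.finrank_eq e

end BT3

end Groth.Agent.Lib.Helper3
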