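import Groth.Agent.Lib.Helper2CohBCF
import Groth.Agent.Lib.Helper2CohBCD
import Groth.Agent.Lib.Helper3FlatCxBT
import Groth.Agent.Lib.Helper3FlatCxBC
import Groth.Agent.S4490
import Groth.Agent.S2410
import Groth.Agent.S2375
import Groth.Agent.S2440

/-!
# Helper21: universal vanishing and local freeness of the homology of base changes of a bounded
complex of finite projective modules over a Noetherian ring (no hypothesis on the new base)

* `local_vanishing`, `atPrime_vanishing`, `mem_freeLocus_of_dRank_eq_zero`: the Noetherian local theory;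
* `finite_projective_of_fourTerm`, `finite_projective_homology`;
* `vanishing_bc`: if the rank function `d_p` vanishes on the image of `Spec B`, then `H_p(P ⊗ B) = 0` and
  the two adjacent cokernels of `P ⊗ B` are finite projective;
* `projective_homology_bc`: if `d_{p+1}` and `d_{p-1}` vanish on the image of `Spec B`, then `H_p(P ⊗ B)` is
  finite projective (and commutes with further base change, the cokernel at `p - 1` being flat).
-/

set_option autoImplicit false
set_option linter.style.haveILetI false
universe u
open CategoryTheory CategoryTheory.Limits TensorProduct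

namespace Groth.Agent.Lib.Helper21.AlgBC

open Groth.Agent.Lib.Helper3 Groth.Agent.Lib.Helper2.CohBCA

section FourTerm

variable {R : Type*} [CommRing R] {K M N L : Type*} [AddCommGroup K] [AddCommGroup M]
  [AddCommGroup N] [AddCommGroup L] [Module R K] [Module R M] [Module R N] [Module R L]

/-- the kernel of a surjection onto a projective module is a direct summand -/
theorem finite_projective_ker_of_surjective (g : M →ₗ[R] N) (hg : Function.Surjective g)
    [Module.Finite R M] [Module.Projective R M] [Module.Projective R N] :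
    Module.Finite R (LinearMap.ker g) ∧ Module.Projective R (LinearMap.ker g) := by
  obtain ⟨s, hs⟩ := Module.projective_lifting_property g LinearMap.id hg
  -- the projection `M → ker g`, `m ↦ m - s (g m)`
  let π : M →ₗ[R] LinearMap.ker g :=
    LinearMap.codRestrict (LinearMap.ker g) (LinearMap.id - s.comp g) (fun m => by
      rw [LinearMap.mem_ker]
      have : g (s (g m)) = g m := LinearMap.congr_fun hs (g m)
      simp [this])
  have hπ : π.comp (LinearMap.ker g).subtype = LinearMap.id := by
    ext x
    have hx : g x.1 = 0 := x.2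
    simp [π, hx]
  refine ⟨Module.Finite.of_surjective π (fun x => ⟨x.1, LinearMap.congr_fun hπ x⟩), ?_⟩
  exact Module.Projective.of_split (LinearMap.ker g).subtype π hπ

/-- in an exact sequence `0 → K → M → N → L → 0` with `M`, `N`, `L` finite projective, `K` is finite
projective -/
theorem finite_projective_of_fourTerm (f : K →ₗ[R] M) (g : M →ₗ[R] N) (h : N →ₗ[R] L)
    (hf : Function.Injective f) (hfg : Function.Exact f g) (hgh : Function.Exact g h)
    (hh : Function.Surjective h) [Module.Finite R M] [Module.Projective R M] [Module.Finite R N]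
    [Module.Projective R N] [Module.Projective R L] :
    Module.Finite R K ∧ Module.Projective R K := by
  obtain ⟨h1, h2⟩ := finite_projective_ker_of_surjective h hh
  haveI := h1
  haveI := h2
  -- `g` corestricted to `ker h`
  let g' : M →ₗ[R] LinearMap.ker h :=
    LinearMap.codRestrict (LinearMap.ker h) g (fun m => by
      rw [LinearMap.mem_ker]
      exact hgh.apply_apply_eq_zero m)
  have hg' : Function.Surjective g' := by
    rintro ⟨n, hn⟩
    obtain ⟨m, rfl⟩ := (hgh n).1 hn
    exact ⟨m, rfl⟩
  obtain ⟨h3, h4⟩ := finite_projective_ker_of_surjective g' hg'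
  have hker : LinearMap.ker g' = LinearMap.ker g := by
    ext m
    simp [g', LinearMap.mem_ker]
  -- `K ≃ ker g`
  let e : K ≃ₗ[R] LinearMap.ker g' :=
    LinearEquiv.ofBijective
      (LinearMap.codRestrict (LinearMap.ker g') f (fun k => by
        rw [hker, LinearMap.mem_ker]
        exact hfg.apply_apply_eq_zero k))
      ⟨fun a b hab => hf (congrArg Subtype.val hab), by
        rintro ⟨m, hm⟩
        rw [hker, LinearMap.mem_ker] at hm
        obtain ⟨k, rfl⟩ := (hfg m).1 hm
        exact ⟨k, rfl⟩⟩
  haveI := h3
  haveI := h4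
  exact ⟨Module.Finite.equiv e.symm, Module.Projective.of_equiv e.symm⟩

end FourTerm

/-- **local Noetherian vanishing**: if `H_p(P ⊗ k) = 0` then `H_p(P) = 0` and the cokernels of the
differentials into `P_{p-1}` and `P_p` are flat. -/
theorem local_vanishing {A : Type u} [CommRing A] [IsNoetherianRing A] [IsLocalRing A]
    (P : ChainComplex (ModuleCat.{u} A) ℤ)
    (hP : ∀ i, Module.Finite A (P.X i) ∧ Module.Flat A (P.X i)) (p : ℤ)
    (h : Subsingleton ((CohIII.bcCx (algebraMap A (IsLocalRing.ResidueField A)) P).homology p)) :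
    Module.Flat A (P.opcycles (p - 1)) ∧ Module.Flat A (P.opcycles p) ∧
      Subsingleton (P.homology p) := by
  let k := IsLocalRing.ResidueField A
  have hflat : ∀ i, Module.Flat A (P.X i) := fun i => (hP i).2
  have hz := Groth.Agent.Lib.Helper2.CohBCF.isZero_T_residueField_of_subsingleton P p h
  have hsurj : Function.Surjective ((CohIII.TFun P p).map
      (ModuleCat.ofHom (Algebra.linearMap A k))).hom := by
    intro w
    haveI : Subsingleton ((CohIII.TFun P p).obj (ModuleCat.of A k)) :=
      ModuleCat.subsingleton_of_isZero hz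
    exact ⟨0, Subsingleton.elim _ _⟩
  have he : (CohIII.TFun P p).PreservesEpimorphisms :=
    (Groth.Agent.S4490.result P hP p).1.2 hsurj
  haveI := hflat (p - 1)
  haveI hW1 : Module.Flat A (P.opcycles (p - 1)) :=
    (Groth.Agent.S2410.preservesEpi_iff_flat_opcycles P hflat p (p - 1) (by ring)).1 he
  obtain ⟨e⟩ := nonempty_bcHomologyEquiv k P p (p - 1) (by simp)
  haveI : Module.Finite A (P.homology p) :=
    Groth.Agent.Lib.Helper2.CohBCF.finite_homology P (fun i => (hP i).1) p
  have hk : Subsingleton (k ⊗[A] (P.homology p)) := e.symm.injective.subsingleton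
  have hH : Subsingleton (P.homology p) :=
    (IsLocalRing.subsingleton_tensorProduct (R := A) (M := P.homology p)).mp hk
  refine ⟨hW1, ?_, hH⟩
  have hfree : Module.Free A ((CohIII.TFun P p).obj (ModuleCat.of A A)) := by
    haveI : Subsingleton ((CohIII.TFun P p).obj (ModuleCat.of A A)) :=
      (TUnitIso P p).toLinearEquiv.injective.subsingleton
    exact Module.Free.of_subsingleton A _
  have hm : (CohIII.TFun P p).PreservesMonomorphisms :=
    ((Groth.Agent.S2410.result P hP p).2 ⟨he, hfree⟩).1
  exact (Groth.Agent.S2375.result P hflat p).1 hm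

variable {A : Type u} [CommRing A] (P : ChainComplex (ModuleCat.{u} A) ℤ)

/-- the terms of a base change are finite -/
theorem finite_bcCx_X (B : Type u) [CommRing B] [Algebra A B] (i : ℤ) [Module.Finite A (P.X i)] :
    Module.Finite B ((CohIII.bcCx (algebraMap A B) P).X i) :=
  Module.Finite.equiv (Groth.Agent.S2380.bridge A B (P.X i)).symm

/-- vanishing of the rank function at the point of a field gives vanishing of the homology of the base
change to the field -/
theorem subsingleton_homology_of_dRank_eq_zero
    (hP : ∀ i, Module.Finite A (P.X i) ∧ Module.Flat A (P.X i)) (K : Type u) [Field K] [Algebra A K]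
    (p : ℤ) (h : CohIII.dRank P p (pointOf A K) = 0) :
    Subsingleton ((CohIII.bcCx (algebraMap A K) P).homology p) := by
  have h1 := finrank_homology_bcCx_eq_dRank (K := K) P (fun i => (hP i).2) p
  rw [h] at h1
  haveI : Module.Finite K ((CohIII.bcCx (algebraMap A K) P).homology p) :=
    Groth.Agent.Lib.Helper2.CohBCF.finite_homology (CohIII.bcCx (algebraMap A K) P) (fun i => by
      haveI := (hP i).1
      exact finite_bcCx_X P K i) p
  exact Module.finrank_zero_iff.mp h1

/-- **vanishing at a prime of a Noetherian ring** -/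
theorem atPrime_vanishing [IsNoetherianRing A]
    (hP : ∀ i, Module.Finite A (P.X i) ∧ Module.Flat A (P.X i)) (p : ℤ) (y : PrimeSpectrum A)
    (h : CohIII.dRank P p y = 0) :
    Module.Flat (Localization.AtPrime y.asIdeal)
        ((CohIII.bcCx (algebraMap A (Localization.AtPrime y.asIdeal)) P).opcycles (p - 1)) ∧
      Module.Flat (Localization.AtPrime y.asIdeal)
        ((CohIII.bcCx (algebraMap A (Localization.AtPrime y.asIdeal)) P).opcycles p) ∧
      Subsingleton ((CohIII.bcCx (algebraMap A (Localization.AtPrime y.asIdeal)) P).homology p) := by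
  let A₁ := Localization.AtPrime y.asIdeal
  let P₁ := CohIII.bcCx (algebraMap A A₁) P
  have hP₁ : ∀ i, Module.Finite A₁ (P₁.X i) ∧ Module.Flat A₁ (P₁.X i) := fun i => by
    haveI := (hP i).1
    exact ⟨finite_bcCx_X P A₁ i, flat_bcCx_X A₁ P (fun i => (hP i).2) i⟩
  refine local_vanishing P₁ hP₁ p ?_
  refine subsingleton_homology_of_dRank_eq_zero P₁ hP₁ (IsLocalRing.ResidueField A₁) p ?_
  rw [Groth.Agent.Lib.Helper2.CohBCD.pointOf_residueField,
    Groth.Agent.S2440.result P (fun i => (hP i).2) p (IsLocalRing.closedPoint A₁)]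
  have : PrimeSpectrum.comap (algebraMap A A₁) (IsLocalRing.closedPoint A₁) = y := by
    apply PrimeSpectrum.ext
    exact IsLocalization.AtPrime.comap_maximalIdeal A₁ y.asIdeal
  rw [this]
  exact h

theorem projective_bcCx_X (B : Type u) [CommRing B] [Algebra A B] (i : ℤ)
    [Module.Projective A (P.X i)] :
    Module.Projective B ((CohIII.bcCx (algebraMap A B) P).X i) :=
  Module.Projective.of_equiv (Groth.Agent.S2380.bridge A B (P.X i)).symm

/-- the rank function vanishing at `y` puts `y` in the free loci of the two adjacent cokernels -/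
theorem mem_freeLocus_of_dRank_eq_zero [IsNoetherianRing A]
    (hP : ∀ i, Module.Finite A (P.X i) ∧ Module.Flat A (P.X i)) (p : ℤ) (y : PrimeSpectrum A)
    (h : CohIII.dRank P p y = 0) :
    y ∈ Module.freeLocus A (P.opcycles (p - 1)) ∧ y ∈ Module.freeLocus A (P.opcycles p) := by
  obtain ⟨h1, h2, -⟩ := atPrime_vanishing P hP p y h
  haveI := (hP (p - 1)).1
  haveI := (hP p).1
  exact ⟨(flat_bcCx_opcycles_atPrime_iff P (p - 1) y).1 h1,
    (flat_bcCx_opcycles_atPrime_iff P p y).1 h2⟩

/-- the cokernels of a base change are finite projective when the base maps into the free locus -/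
theorem projective_opcycles_bc [IsNoetherianRing A] (B : Type u) [CommRing B] [Algebra A B] (q : ℤ)
    [Module.Finite A (P.X q)]
    (h : ∀ x : PrimeSpectrum B,
      PrimeSpectrum.comap (algebraMap A B) x ∈ Module.freeLocus A (P.opcycles q)) :
    Module.Finite B ((CohIII.bcCx (algebraMap A B) P).opcycles q) ∧
      Module.Projective B ((CohIII.bcCx (algebraMap A B) P).opcycles q) := by
  haveI : Module.Finite A (P.opcycles q) := finite_opcycles P q
  haveI : Module.FinitePresentation A (P.opcycles q) := Module.finitePresentation_of_finite A _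
  let e : (CohIII.bcCx (algebraMap A B) P).opcycles q ≃ₗ[B] B ⊗[A] (P.opcycles q) :=
    (bcOpcyclesIso B P q).toLinearEquiv.trans (Groth.Agent.S2380.bridge A B (P.opcycles q))
  have huniv : Module.freeLocus B (B ⊗[A] (P.opcycles q)) = Set.univ := by
    rw [Set.eq_univ_iff_forall]
    intro x
    exact Module.comap_freeLocus_le (A := B) (h x)
  haveI : Module.Projective B (B ⊗[A] (P.opcycles q)) := Module.freeLocus_eq_univ_iff.mp huniv
  exact ⟨Module.Finite.equiv e.symm, Module.Projective.of_equiv e.symm⟩

/-- if the two adjacent cokernels are finite projective, so is the homology -/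
theorem finite_projective_homology {B : Type u} [CommRing B] (Q : ChainComplex (ModuleCat.{u} B) ℤ)
    (p : ℤ) [Module.Finite B (Q.X (p - 1))] [Module.Projective B (Q.X (p - 1))]
    [Module.Finite B (Q.opcycles p)] [Module.Projective B (Q.opcycles p)]
    [Module.Projective B (Q.opcycles (p - 1))] :
    Module.Finite B (Q.homology p) ∧ Module.Projective B (Q.homology p) := by
  refine finite_projective_of_fourTerm (Q.homologyι p).hom (Q.fromOpcycles p (p - 1)).hom
    (Q.pOpcycles (p - 1)).hom ((ModuleCat.mono_iff_injective _).mp inferInstance)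
    (exact_homologyι_fromOpcycles Q p (p - 1) (by simp))
    (exact_fromOpcycles_pOpcycles Q p (p - 1) (by simp))
    ((ModuleCat.epi_iff_surjective _).mp inferInstance)


/-- **universal vanishing**: if the rank function `d_p` of `P` vanishes on the image of `Spec B`, then
`H_p(P ⊗ B) = 0` and the cokernels of the differentials into `(P ⊗ B)_{p-1}` and `(P ⊗ B)_p` are finite
projective. -/
theorem vanishing_bc [IsNoetherianRing A]
    (hP : ∀ i, Module.Finite A (P.X i) ∧ Module.Projective A (P.X i))
    (B : Type u) [CommRing B] [Algebra A B] (p : ℤ)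
    (h : ∀ x : PrimeSpectrum B,
      CohIII.dRank P p (PrimeSpectrum.comap (algebraMap A B) x) = 0) :
    Subsingleton ((CohIII.bcCx (algebraMap A B) P).homology p) ∧
      (Module.Finite B ((CohIII.bcCx (algebraMap A B) P).opcycles (p - 1)) ∧
        Module.Projective B ((CohIII.bcCx (algebraMap A B) P).opcycles (p - 1))) ∧
      (Module.Finite B ((CohIII.bcCx (algebraMap A B) P).opcycles p) ∧
        Module.Projective B ((CohIII.bcCx (algebraMap A B) P).opcycles p)) := by
  have hPf : ∀ i, Module.Finite A (P.X i) ∧ Module.Flat A (P.X i) := fun i => ⟨(hP i).1, by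
    haveI := (hP i).2
    infer_instance⟩
  have hflat : ∀ i, Module.Flat A (P.X i) := fun i => (hPf i).2
  let Q := CohIII.bcCx (algebraMap A B) P
  haveI := (hP (p - 1)).1
  haveI := (hP (p - 1)).2
  haveI := (hP p).1
  obtain ⟨hW1f, hW1p⟩ := projective_opcycles_bc P B (p - 1) (fun x =>
    (mem_freeLocus_of_dRank_eq_zero P hPf p _ (h x)).1)
  obtain ⟨hW2f, hW2p⟩ := projective_opcycles_bc P B p (fun x =>
    (mem_freeLocus_of_dRank_eq_zero P hPf p _ (h x)).2)
  refine ⟨?_, ⟨hW1f, hW1p⟩, ⟨hW2f, hW2p⟩⟩
  haveI : Module.Finite B (Q.X (p - 1)) := finite_bcCx_X P B (p - 1)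
  haveI : Module.Projective B (Q.X (p - 1)) := projective_bcCx_X P B (p - 1)
  haveI : Module.Finite B (Q.opcycles p) := hW2f
  haveI : Module.Projective B (Q.opcycles p) := hW2p
  haveI : Module.Projective B (Q.opcycles (p - 1)) := hW1p
  obtain ⟨hHf, hHp⟩ := finite_projective_homology Q p
  haveI := hHf
  haveI := hHp
  rw [← Module.rankAtStalk_eq_zero_iff_subsingleton (R := B)]
  funext x
  rw [Module.rankAtStalk_eq x, Pi.zero_apply]
  haveI : Module.Flat B (Q.X (p - 1)) := inferInstance
  haveI : Module.Flat B (Q.opcycles (p - 1)) := inferInstance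
  obtain ⟨e⟩ := nonempty_bcHomologyEquiv x.asIdeal.ResidueField Q p (p - 1) (by simp)
  rw [← LinearEquiv.finrank_eq e]
  have h1 : CohIII.dRank Q p x = 0 := by
    rw [Groth.Agent.S2440.result P hflat p x]
    exact h x
  exact h1

/-- **universal local freeness**: if the rank functions `d_{p+1}` and `d_{p-1}` of `P` vanish on the
image of `Spec B`, then `H_p(P ⊗ B)` is finite projective, and the cokernel of the differential into
`(P ⊗ B)_{p-1}` is finite projective (so that `H_p` commutes with every further base change). -/
theorem projective_homology_bc [IsNoetherianRing A]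
    (hP : ∀ i, Module.Finite A (P.X i) ∧ Module.Projective A (P.X i))
    (B : Type u) [CommRing B] [Algebra A B] (p : ℤ)
    (h1 : ∀ x : PrimeSpectrum B,
      CohIII.dRank P (p + 1) (PrimeSpectrum.comap (algebraMap A B) x) = 0)
    (h2 : ∀ x : PrimeSpectrum B,
      CohIII.dRank P (p - 1) (PrimeSpectrum.comap (algebraMap A B) x) = 0) :
    (Module.Finite B ((CohIII.bcCx (algebraMap A B) P).homology p) ∧
      Module.Projective B ((CohIII.bcCx (algebraMap A B) P).homology p)) ∧
      Module.Projective B ((CohIII.bcCx (algebraMap A B) P).opcycles (p - 1)) := by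
  let Q := CohIII.bcCx (algebraMap A B) P
  obtain ⟨-, ⟨ha, hb⟩, -⟩ := vanishing_bc P hP B (p + 1) h1
  obtain ⟨-, -, ⟨hc, hd⟩⟩ := vanishing_bc P hP B (p - 1) h2
  rw [show p + 1 - 1 = p by ring] at ha hb
  haveI := (hP (p - 1)).1
  haveI := (hP (p - 1)).2
  haveI : Module.Finite B (Q.X (p - 1)) := finite_bcCx_X P B (p - 1)
  haveI : Module.Projective B (Q.X (p - 1)) := projective_bcCx_X P B (p - 1)
  haveI : Module.Finite B (Q.opcycles p) := ha
  haveI : Module.Projective B (Q.opcycles p) := hb
  haveI : Module.Projective B (Q.opcycles (p - 1)) := hd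
  exact ⟨finite_projective_homology Q p, hd⟩

end Groth.Agent.Lib.Helper21.AlgBC
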