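import Mathlib
import Groth.Agent.Lib.Helper2SemiLocFree
import Groth.Agent.Lib.Helper21AlgBC

/-!
# Rank of the homology of a complex with projective cokernels; finite locally free modules of constant
rank from their sections over affine opens (helper2)

Namespace `Groth.Agent.Lib.Helper2.R1RankA`.

* `rankAtStalk_homology`: for a complex `Q` of `B`-modules with `Q_{p-1}` and `coker(Q_p → Q_{p-1})`
  flat and `H_p(Q)` finite flat, the rank of `H_p(Q)` at a prime `x` is `d_p(x) = dim H_p(Q ⊗ κ(x))`.
* `isFinLocFreeOfRank_of_affine`: a quasi-coherent module whose sections over every affine open are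
  finite projective of constant rank `r` is finite locally free of rank `r`.
-/

set_option autoImplicit false
set_option linter.style.haveILetI false
universe u
open CategoryTheory Limits AlgebraicGeometry TopologicalSpace Opposite TensorProduct

namespace Groth.Agent.Lib.Helper2.R1RankA

section alg

variable {B : Type u} [CommRing B]

theorem rankAtStalk_homology (Q : ChainComplex (ModuleCat.{u} B) ℤ) (p : ℤ)
    [Module.Flat B (Q.X (p - 1))] [Module.Flat B (Q.opcycles (p - 1))]
    [Module.Finite B (Q.homology p)] [Module.Flat B (Q.homology p)] (x : PrimeSpectrum B) :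
    Module.rankAtStalk (Q.homology p) x = CohIII.dRank Q p x := by
  rw [Module.rankAtStalk_eq x]
  obtain ⟨e⟩ := Groth.Agent.Lib.Helper3.nonempty_bcHomologyEquiv
    x.asIdeal.ResidueField Q p (p - 1) (by simp)
  rw [← LinearEquiv.finrank_eq e]
  rfl

end alg

section geo

open Groth.Agent.Lib.Helper2.FlatOver Groth.Agent.Lib.Helper2.QCoh Groth.Agent.Lib.Helper2.LocFree
open Groth.Agent.Lib.Helper2.RankLoc Groth.Agent.Lib.Helper2.FPAff Groth.Agent.Lib.Helper20.LocFree
open Groth.Agent.Lib.Helper2.SemiLocFree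

variable {Y : Scheme.{u}}

/-- a quasi-coherent module whose sections over an affine open `V` are finite projective of rank `r`
at the prime of `z ∈ V` is free of rank `r` on a basic open of `V` containing `z`. -/
theorem exists_basicOpen_iso_freeMod_of_rank (E : Y.Modules) [E.IsQuasicoherent] (r : ℕ)
    {V : Y.Opens} (hV : IsAffineOpen V) [Module.Finite Γ(Y, V) Γ(E, V)]
    [Module.Projective Γ(Y, V) Γ(E, V)] (z : Y) (hz : z ∈ V)
    (hr : Module.rankAtStalk Γ(E, V) (hV.primeIdealOf ⟨z, hz⟩) = r) :
    ∃ g : Γ(Y, V), z ∈ Y.basicOpen g ∧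
      Nonempty (E.restrict (Y.basicOpen g).ι ≅ FlatMod.freeMod (Y.basicOpen g : Scheme.{u}) r) := by
  classical
  haveI : Module.FinitePresentation Γ(Y, V) Γ(E, V) := Module.finitePresentation_of_projective _ _
  let ps : Finset (PrimeSpectrum Γ(Y, V)) := {hV.primeIdealOf ⟨z, hz⟩}
  have hr' : ∀ q ∈ ps, Module.rankAtStalk Γ(E, V) q = r := by
    intro q hq
    rw [Finset.mem_singleton] at hq
    rw [hq]
    exact hr
  obtain ⟨g, hg, ⟨b⟩⟩ := exists_basis_away Γ(E, V) ps r hr'
  letI := moduleRes E (Y.basicOpen_le g)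
  haveI := isScalarTower_basicOpen E g
  haveI := isLocalizedModule_basicOpen E hV g
  haveI : IsLocalization.Away g Γ(Y, Y.basicOpen g) := hV.isLocalization_basicOpen g
  obtain ⟨b'⟩ := nonempty_basis_of_isLocalizedModule (Submonoid.powers g) Γ(Y, Y.basicOpen g)
    Γ(E, Y.basicOpen g) (resₗ E (Y.basicOpen_le g)) b
  refine ⟨g, ?_, ⟨restrictIsoFreeMod E (hV.basicOpen g) b'⟩⟩
  refine (Groth.Agent.Lib.Helper2.mem_basicOpen_iff_notMem_primeIdealOf hV z hz g).2 ?_
  exact hg _ (Finset.mem_singleton_self _)

/-- a quasi-coherent module whose sections over the affine opens are finite projective of constant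
rank `r` is finite locally free of rank `r`. -/
theorem isFinLocFreeOfRank_of_affine (E : Y.Modules) [E.IsQuasicoherent] (r : ℕ)
    (h : ∀ V : Y.Opens, IsAffineOpen V →
      Module.Finite Γ(Y, V) Γ(E, V) ∧ Module.Projective Γ(Y, V) Γ(E, V) ∧
        ∀ q : PrimeSpectrum Γ(Y, V), Module.rankAtStalk Γ(E, V) q = r) :
    FlatMod.IsFinLocFreeOfRank r E := by
  intro z
  obtain ⟨V, hV, hzV, -⟩ := (Opens.isBasis_iff_nbhd.mp Y.isBasis_affineOpens)
    (show z ∈ (⊤ : Y.Opens) from trivial)
  obtain ⟨hfin, hproj, hrk⟩ := h V hV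
  haveI := hfin
  haveI := hproj
  obtain ⟨g, hzg, hiso⟩ := exists_basicOpen_iso_freeMod_of_rank E r hV z hzV (hrk _)
  exact ⟨Y.basicOpen g, hzg, hiso⟩

end geo

end Groth.Agent.Lib.Helper2.R1RankA
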