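import Mathlib
import Groth.Prelude.Def_ProjUP
import Groth.Prelude.Def_Pic
import Groth.Agent.Lib.Helper2SemiLocFree
import Groth.Agent.Lib.Helper2R1RankA
import Groth.Agent.Lib.Helper17PuncAnn1
import Groth.Agent.Lib.Helper23QAffSec
import Groth.Agent.Lib.Helper26QProjLim
import Groth.Agent.Lib.Helper4KTensor
import Groth.Agent.Lib.Helper18NA

/-!
# Invertible modules on an affine scheme and their global sections (helper18)

* `sections_of_isInvertible`: the global sections of an invertible module on an affine scheme are finite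
  projective of constant rank one.
* `span_eq_top_of_generatedBy` / `generatedBy_of_span_eq_top`: on an affine scheme, global sections generate a
  quasi-coherent module iff they span its global sections.
* `isInvertible_of_sections`: converse of the first item for quasi-coherent modules.
-/

set_option autoImplicit false
set_option linter.style.haveILetI false
universe u
open CategoryTheory Limits AlgebraicGeometry TopologicalSpace Opposite

namespace Groth.Agent.Helper18NB

open Groth.Agent.Lib.Helper2.FlatOver Groth.Agent.Lib.Helper2.QCoh Groth.Agent.Lib.Helper2.LocFree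
open Groth.Agent.Lib.Helper2.SemiLocFree Groth.Agent.Lib.Helper2.R1RankA

variable {Y : Scheme.{u}}

theorem sections_of_isInvertible (hY : IsAffineOpen (⊤ : Y.Opens)) (L : Y.Modules)
    (hL : PicF.IsInvertible L) :
    Module.Finite Γ(Y, ⊤) Γ(L, ⊤) ∧ Module.Projective Γ(Y, ⊤) Γ(L, ⊤) ∧
      ∀ q : PrimeSpectrum Γ(Y, ⊤), Module.rankAtStalk Γ(L, ⊤) q = 1 := by
  have hL1 := Groth.Agent.Lib.Helper23.SecTw.isFinLocFreeOfRank_one_of_isInvertible L hL
  have hLF := Groth.Agent.Lib.Helper26.QProjLim.isFinLocFree_of_isFinLocFreeOfRank L hL1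
  haveI : L.IsQuasicoherent := Groth.Agent.Lib.Helper21.HZB.isQuasicoherent_of_isFinLocFree L hLF
  haveI hfp := Groth.Agent.Lib.Helper17.PuncAnn.finitePresentation_sections_of_isFinLocFree L hLF hY
  haveI hproj := Groth.Agent.Lib.Helper17.PuncAnn.projective_sections_of_isFinLocFree L hLF hY
  refine ⟨inferInstance, hproj, fun q => ?_⟩
  have hq := primeIdealOf_fromSpec hY q
  rw [← hq, rankAtStalk_sections L hY _ (fromSpec_mem hY q)]
  exact (Groth.Agent.Lib.Helper4.KTensor.stalk_of_isFinLocFreeOfRank L 1 hL1 _).2.2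

/-- local form: if the germ of `x` at `z` lies in the span of the germs of `N`, then some `t` invertible at `z`
moves `x` into `N`. -/
theorem exists_smul_mem_of_germ_mem (hY : IsAffineOpen (⊤ : Y.Opens)) (L : Y.Modules)
    [L.IsQuasicoherent] (z : Y) (N : Submodule Γ(Y, ⊤) Γ(L, ⊤)) (x : Γ(L, ⊤))
    (hx : L.presheaf.germ ⊤ z trivial x ∈ Submodule.span (Y.presheaf.stalk z)
      ((fun m : Γ(L, ⊤) => (L.presheaf.germ ⊤ z trivial m : L.presheaf.stalk z)) '' (N : Set Γ(L, ⊤)))) :
    ∃ t : Γ(Y, ⊤), t ∉ (hY.primeIdealOf ⟨z, trivial⟩).asIdeal ∧ t • x ∈ N := by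
  have hzt : z ∈ (⊤ : Y.Opens) := trivial
  letI alg := Y.presheaf.algebra_section_stalk ⟨z, hzt⟩
  haveI hloc := hY.isLocalization_stalk ⟨z, hzt⟩
  letI mod := moduleStalkSections L ⊤ z trivial
  haveI tower : IsScalarTower Γ(Y, ⊤) (Y.presheaf.stalk z) (L.presheaf.stalk z) := by
    refine ⟨fun a b y => ?_⟩
    change (Y.presheaf.germ ⊤ z trivial a * b) • y = Y.presheaf.germ ⊤ z trivial a • (b • y)
    rw [mul_smul]
  haveI hlm := isLocalizedModule_germ hY L z trivial
  have hx' : germₗ L ⊤ z trivial x ∈ Submodule.localized' (Y.presheaf.stalk z)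
      (hY.primeIdealOf ⟨z, trivial⟩).asIdeal.primeCompl (germₗ L ⊤ z trivial) N := by
    rw [Submodule.localized'_eq_span]
    exact hx
  obtain ⟨n, hn, s, hs⟩ := hx'
  rw [IsLocalizedModule.mk'_eq_iff] at hs
  have hs' : germₗ L ⊤ z trivial n = germₗ L ⊤ z trivial ((s : Γ(Y, ⊤)) • x) := by
    rw [hs, map_smul]
    rfl
  obtain ⟨t, ht⟩ := (IsLocalizedModule.eq_iff_exists
    (hY.primeIdealOf ⟨z, trivial⟩).asIdeal.primeCompl (germₗ L ⊤ z trivial)).mp hs'
  refine ⟨(t : Γ(Y, ⊤)) * (s : Γ(Y, ⊤)), ?_, ?_⟩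
  · exact ((hY.primeIdealOf ⟨z, trivial⟩).asIdeal.primeCompl.mul_mem t.2 s.2)
  · rw [mul_smul]
    have ht' : (t : Γ(Y, ⊤)) • n = (t : Γ(Y, ⊤)) • ((s : Γ(Y, ⊤)) • x) := ht
    rw [← ht']
    exact N.smul_mem _ hn

/-- on an affine scheme, generating global sections span the global sections. -/
theorem span_eq_top_of_generatedBy (hY : IsAffineOpen (⊤ : Y.Opens)) (L : Y.Modules)
    [L.IsQuasicoherent] {ι : Type*} (σ : ι → ProjUP.Γm L) (h : ProjUP.GeneratedBy L σ) :
    Submodule.span Γ(Y, ⊤) (Set.range σ) = ⊤ := by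
  rw [eq_top_iff]
  intro x _
  set N : Submodule Γ(Y, ⊤) Γ(L, ⊤) := Submodule.span Γ(Y, ⊤) (Set.range σ) with hN
  let I : Ideal Γ(Y, ⊤) := N.comap (LinearMap.toSpanSingleton Γ(Y, ⊤) Γ(L, ⊤) x)
  suffices hI : I = ⊤ by
    have h1 : (1 : Γ(Y, ⊤)) ∈ I := by rw [hI]; trivial
    have h2 : (1 : Γ(Y, ⊤)) • x ∈ N := h1
    rwa [one_smul] at h2
  by_contra hne
  obtain ⟨P, hP, hle⟩ := Ideal.exists_le_maximal I hne
  let z : Y := hY.fromSpec ⟨P, hP.isPrime⟩
  have hz : hY.primeIdealOf ⟨z, trivial⟩ = ⟨P, hP.isPrime⟩ := primeIdealOf_fromSpec hY _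
  have hx : L.presheaf.germ ⊤ z trivial x ∈ Submodule.span (Y.presheaf.stalk z)
      ((fun m : Γ(L, ⊤) => (L.presheaf.germ ⊤ z trivial m : L.presheaf.stalk z)) ''
        (N : Set Γ(L, ⊤))) := by
    have h1 := h z
    have h2 : Submodule.span (Y.presheaf.stalk z)
        (Set.range fun i => (L.presheaf.germ ⊤ z trivial).hom (σ i)) ≤
        Submodule.span (Y.presheaf.stalk z)
          ((fun m : Γ(L, ⊤) => (L.presheaf.germ ⊤ z trivial m : L.presheaf.stalk z)) ''
            (N : Set Γ(L, ⊤))) := by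
      refine Submodule.span_mono ?_
      rintro _ ⟨i, rfl⟩
      exact ⟨σ i, Submodule.subset_span ⟨i, rfl⟩, rfl⟩
    exact h2 (by rw [h1]; trivial)
  obtain ⟨t, ht, htx⟩ := exists_smul_mem_of_germ_mem hY L z N x hx
  rw [hz] at ht
  exact ht (hle htx)

/-- on an affine scheme, global sections spanning the module of global sections of a quasi-coherent module
generate it. -/
theorem generatedBy_of_span_eq_top (hY : IsAffineOpen (⊤ : Y.Opens)) (L : Y.Modules)
    [L.IsQuasicoherent] {ι : Type*} (σ : ι → ProjUP.Γm L)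
    (h : Submodule.span Γ(Y, ⊤) (Set.range σ) = ⊤) : ProjUP.GeneratedBy L σ := by
  intro z
  have hzt : z ∈ (⊤ : Y.Opens) := trivial
  letI alg := Y.presheaf.algebra_section_stalk ⟨z, hzt⟩
  haveI hloc := hY.isLocalization_stalk ⟨z, hzt⟩
  letI mod := moduleStalkSections L ⊤ z trivial
  haveI tower : IsScalarTower Γ(Y, ⊤) (Y.presheaf.stalk z) (L.presheaf.stalk z) := by
    refine ⟨fun a b y => ?_⟩
    change (Y.presheaf.germ ⊤ z trivial a * b) • y = Y.presheaf.germ ⊤ z trivial a • (b • y)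
    rw [mul_smul]
  haveI hlm := isLocalizedModule_germ hY L z trivial
  have h1 := span_eq_top_of_isLocalizedModule (Y.presheaf.stalk z)
    (hY.primeIdealOf ⟨z, trivial⟩).asIdeal.primeCompl (germₗ L ⊤ z trivial) h
  rw [← Set.range_comp] at h1
  exact h1

end Groth.Agent.Helper18NB
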