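import Groth.Agent.Lib.Helper27TowerSec
import Groth.Agent.Lib.Helper27OpenImmAmple
import Groth.Agent.Lib.Helper23VeryAmple3
import Groth.Agent.Lib.Helper18UT15
import Groth.Agent.S3572
import Groth.Agent.S3573

/-!
# Compatible morphisms to projective space from an adic tower (helper27)

* `pullbackComp_hom_pullSec`, `pullback_map_pullSec`: `ProjUP.pullSec` calculus.
* `generatedBy_pullSec_coord`: the pulled-back coordinates generate `r^* O(1)`.
* `comp_eq_of_sections`: two morphisms to `P^n` agree as soon as the pulled-back coordinates match.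
* `exists_step`, `exists_tower_mor`: morphisms `r_k : X_k ⟶ P^N` with `r_k^* O(1) ≅ L_k^d`,
  compatible with the transition maps of the tower, extending a given `r_0`.
-/

set_option autoImplicit false
set_option linter.style.haveILetI false
set_option linter.unusedSectionVars false
universe u
open CategoryTheory Limits AlgebraicGeometry TopologicalSpace Opposite

namespace Groth.Agent.Lib.Helper27TowerEmb

open Groth.Agent.Lib.Helper17.FlatDev Groth.Agent.Lib.Helper27Tower
  Groth.Agent.Lib.Helper23.SecTw Groth.Agent.Lib.Helper27TowerSec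
  Groth.Agent.Lib.Helper23.PB

section PullSec

variable {X Y Z : Scheme.{u}} (f : X ⟶ Y) (g : Y ⟶ Z) (M : Z.Modules)

theorem pullbackComp_inv_pullSec (x : ProjUP.Γm M) :
    ((Scheme.Modules.pullbackComp f g).inv.app M).app ⊤ (ProjUP.pullSec (f ≫ g) M x) =
      ProjUP.pullSec f ((Scheme.Modules.pullback g).obj M) (ProjUP.pullSec g M x) :=
  Groth.Agent.Helper18UT.pullbackComp_inv_pullSect f g M ⊤ x

theorem iso_inv_hom_app {W : Scheme.{u}} {M N : W.Modules} (e : M ≅ N) (x : Γ(N, ⊤)) :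
    e.hom.app ⊤ (e.inv.app ⊤ x) = x := by
  have h1 : (e.inv ≫ e.hom).app ⊤ x = e.hom.app ⊤ (e.inv.app ⊤ x) := comp_app_apply _ _ _ _
  rw [← h1, Iso.inv_hom_id]
  rfl

theorem iso_hom_inv_app {W : Scheme.{u}} {M N : W.Modules} (e : M ≅ N) (x : Γ(M, ⊤)) :
    e.inv.app ⊤ (e.hom.app ⊤ x) = x := iso_inv_hom_app e.symm x

theorem pullbackComp_hom_pullSec (x : ProjUP.Γm M) :
    ((Scheme.Modules.pullbackComp f g).hom.app M).app ⊤
        (ProjUP.pullSec f ((Scheme.Modules.pullback g).obj M) (ProjUP.pullSec g M x)) =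
      ProjUP.pullSec (f ≫ g) M x := by
  rw [← pullbackComp_inv_pullSec]
  exact iso_inv_hom_app ((Scheme.Modules.pullbackComp f g).app M) _

theorem pullback_map_pullSec {A B : Y.Modules} (φ : A ⟶ B) (a : ProjUP.Γm A) :
    ((Scheme.Modules.pullback f).map φ).app ⊤ (ProjUP.pullSec f A a) =
      ProjUP.pullSec f B (φ.app ⊤ a) :=
  Groth.Agent.Helper18UT.pullback_map_pullSect f φ ⊤ a

end PullSec

section Coord

variable {R : Type u} [CommRing R] (n : ℕ)

/-- the pulled-back coordinates generate `r^* O(1)` (in terms of `GrTilde.tilde`). -/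
theorem generatedBy_pullSec_gsec {X : Scheme.{u}} (r : X ⟶ Proj (CohB1.polyGrading n R)) :
    ProjUP.GeneratedBy ((Scheme.Modules.pullback r).obj
        (GrTilde.tilde (CohB1.polyGrading n R) (CohB1.polyGrading n R) ((1 : ℕ) : ℤ)))
      (fun t : Fin (n + 1) => ProjUP.pullSec r
        (GrTilde.tilde (CohB1.polyGrading n R) (CohB1.polyGrading n R) ((1 : ℕ) : ℤ))
        (Groth.Agent.Lib.Helper27GrTildeSect.gsec (CohB1.polyGrading n R) 1 ⊤
          (MvPolynomial.isHomogeneous_X R t))) := by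
  have hH : ∀ t : Fin (n + 1), (MvPolynomial.X t : MvPolynomial (Fin (n + 1)) R) ∈
      CohB1.polyGrading n R 1 := fun t => MvPolynomial.isHomogeneous_X R t
  have hcov : ∀ x : X, ∃ t : Fin (n + 1), r x ∈ Proj.basicOpen (CohB1.polyGrading n R)
      (MvPolynomial.X t : MvPolynomial (Fin (n + 1)) R) := by
    intro x
    obtain ⟨t, ht⟩ := Groth.Agent.Lib.Helper23.VeryAmple3.exists_X_not_mem n R (r x)
    exact ⟨t, (ProjectiveSpectrum.mem_basicOpen (CohB1.polyGrading n R) _ _).mpr ht⟩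
  refine Groth.Agent.Lib.Helper23.VeryAmple.generatedBy_of_cover _ _ (fun x => ?_)
  obtain ⟨t, ht⟩ := hcov x
  refine ⟨t, ?_⟩
  have h1 := Groth.Agent.Lib.Helper27GrTildeSect.genLocus_pullSec_gsec (CohB1.polyGrading n R) 1
    (fun t : Fin (n + 1) => (MvPolynomial.X t : MvPolynomial (Fin (n + 1)) R)) hH r hcov t
  rw [h1]
  exact ht

set_option maxHeartbeats 1600000 in
/-- the pulled-back coordinates generate `r^* O(1)`. -/
theorem generatedBy_pullSec_coord {X : Scheme.{u}} (r : X ⟶ CohB1.ProjSpace n R) :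
    ProjUP.GeneratedBy ((Scheme.Modules.pullback r).obj (Twist.twistProjSpace n R 1))
      (fun t => ProjUP.pullSec r (Twist.twistProjSpace n R 1) (ProjUP.coord n R t)) :=
  generatedBy_pullSec_gsec n r

theorem isInvertible_twistProjSpace : PicF.IsInvertible (Twist.twistProjSpace n R 1) :=
  (Groth.Agent.Lib.Helper23.VeryAmple3.isAmple_twistProjSpace n R).1

/-- two morphisms to `P^n` agree as soon as the pulled-back coordinates match. -/
theorem comp_eq_of_sections {X X' : Scheme.{u}} (j : X ⟶ X')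
    (r : X ⟶ CohB1.ProjSpace n R) (r' : X' ⟶ CohB1.ProjSpace n R)
    (hrr : r ≫ CohB1.ProjSpace.toSpec n R = (j ≫ r') ≫ CohB1.ProjSpace.toSpec n R)
    {N : X.Modules} {N' : X'.Modules}
    (τ : (Scheme.Modules.pullback r).obj (Twist.twistProjSpace n R 1) ≅ N)
    (τ' : (Scheme.Modules.pullback r').obj (Twist.twistProjSpace n R 1) ≅ N')
    (Ψ : (Scheme.Modules.pullback j).obj N' ≅ N)
    (hs : ∀ t, Ψ.hom.app ⊤ (ProjUP.pullSec j N'
        (τ'.hom.app ⊤ (ProjUP.pullSec r' (Twist.twistProjSpace n R 1) (ProjUP.coord n R t)))) =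
      τ.hom.app ⊤ (ProjUP.pullSec r (Twist.twistProjSpace n R 1) (ProjUP.coord n R t))) :
    r = j ≫ r' := by
  refine Groth.Agent.S3573.result n r (j ≫ r') hrr
    (τ ≪≫ Ψ.symm ≪≫ (Scheme.Modules.pullback j).mapIso τ'.symm ≪≫
      (Scheme.Modules.pullbackComp j r').app (Twist.twistProjSpace n R 1)) (fun t => ?_)
  have e1 : (τ ≪≫ Ψ.symm ≪≫ (Scheme.Modules.pullback j).mapIso τ'.symm ≪≫
      (Scheme.Modules.pullbackComp j r').app (Twist.twistProjSpace n R 1)).hom =
      τ.hom ≫ Ψ.inv ≫ (Scheme.Modules.pullback j).map τ'.inv ≫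
        (Scheme.Modules.pullbackComp j r').hom.app (Twist.twistProjSpace n R 1) := rfl
  rw [e1, comp_app_apply, comp_app_apply, comp_app_apply, ← hs t, iso_hom_inv_app Ψ,
    pullback_map_pullSec, iso_hom_inv_app τ', pullbackComp_hom_pullSec]

end Coord

section Tower

variable {A : Type u} [CommRing A] [IsNoetherianRing A] (J : Ideal A)
  (Xs : ℕ → Scheme.{u}) [∀ k, (Xs k).Over (Spec (CommRingCat.of A))]
  (p : (k : ℕ) → (Xs k ⟶ Spec (CommRingCat.of (A ⧸ J ^ (k + 1)))))
  (hover : ∀ k, (Xs k) ↘ Spec (CommRingCat.of A) = p k ≫ CohB1.specQuot J k)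
  (i : (k : ℕ) → (Xs k ⟶ Xs (k + 1)))
  (hcart : ∀ k, IsPullback (i k) (p k) (p (k + 1)) (CohB1.specQuotTrans J k))
  (L : (k : ℕ) → (Xs k).Modules) (hL : ∀ k, PicF.IsInvertible (L k))
  (φL : ∀ k, (Scheme.Modules.pullback (i k)).obj (L (k + 1)) ≅ L k)

include hover hcart in
/-- the transition maps of the tower are surjective. -/
theorem surjective_i (k : ℕ) : Function.Surjective (i k) := by
  have hq : Function.Surjective (CohB1.specQuotTrans J k) := by
    unfold CohB1.specQuotTrans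
    have hsurj : Function.Surjective (Ideal.Quotient.factor
        (Ideal.pow_le_pow_right (Nat.le_succ (k + 1)) : J ^ (k + 2) ≤ J ^ (k + 1))) :=
      Ideal.Quotient.factor_surjective _
    have hhom := PrimeSpectrum.isHomeomorph_comap (Ideal.Quotient.factor
        (Ideal.pow_le_pow_right (Nat.le_succ (k + 1)) : J ^ (k + 2) ≤ J ^ (k + 1)))
      (fun x => ⟨1, Nat.one_pos, by rw [pow_one]; exact hsurj x⟩) (by
        intro x hx
        obtain ⟨a, rfl⟩ := Ideal.Quotient.mk_surjective x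
        rw [RingHom.mem_ker, Ideal.Quotient.factor_mk, Ideal.Quotient.eq_zero_iff_mem] at hx
        rw [mem_nilradical]
        refine ⟨2, ?_⟩
        rw [← map_pow, Ideal.Quotient.eq_zero_iff_mem]
        have h2 : a ^ 2 ∈ (J ^ (k + 1)) ^ 2 := Ideal.pow_mem_pow hx 2
        rw [← pow_mul] at h2
        exact Ideal.pow_le_pow_right (by omega) h2)
    exact hhom.surjective
  haveI : Surjective (CohB1.specQuotTrans J k) := ⟨hq⟩
  have h1 : Surjective (i k) :=
    MorphismProperty.of_isPullback (P := @Surjective) (hcart k).flip inferInstance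
  exact h1.surj

include hover hcart hL φL in
/-- one step of the construction of the compatible morphisms to projective space. -/
theorem exists_step (d : ℕ)
    (hsurj : ∀ k, Function.Surjective ((πQ (J ^ (k + 1)) (CohB1.tensorPow (L (k + 1)) d)).app ⊤))
    (N : ℕ) (k : ℕ) (r : Xs k ⟶ CohB1.ProjSpace N (ULift.{u} ℤ))
    (τ : (Scheme.Modules.pullback r).obj (Twist.twistProjSpace N (ULift.{u} ℤ) 1) ≅
      CohB1.tensorPow (L k) d) :
    ∃ (r' : Xs (k + 1) ⟶ CohB1.ProjSpace N (ULift.{u} ℤ))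
      (_ : (Scheme.Modules.pullback r').obj (Twist.twistProjSpace N (ULift.{u} ℤ) 1) ≅
        CohB1.tensorPow (L (k + 1)) d), i k ≫ r' = r := by
  have hLd : ∀ k, PicF.IsInvertible (CohB1.tensorPow (L k) d) := fun k =>
    isInvertible_tensorPow (hL k) d
  haveI : (CohB1.tensorPow (L (k + 1)) d).IsQuasicoherent :=
    isQuasicoherent_of_isInvertible _ (hLd (k + 1))
  obtain ⟨Θ⟩ := nonempty_pullback_tensorPow_iso (i k) (L (k + 1)) (hL (k + 1)) d
  let Ψ : (Scheme.Modules.pullback (i k)).obj (CohB1.tensorPow (L (k + 1)) d) ≅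
      CohB1.tensorPow (L k) d :=
    Θ ≪≫ Groth.Agent.Lib.Helper23.AmpleIso.tensorPowIso (φL k) d
  -- the sections on level `k`
  let s : Fin (N + 1) → ProjUP.Γm (CohB1.tensorPow (L k) d) := fun t =>
    τ.hom.app ⊤ (ProjUP.pullSec r (Twist.twistProjSpace N (ULift.{u} ℤ) 1)
      (ProjUP.coord N (ULift.{u} ℤ) t))
  have hs : ProjUP.GeneratedBy (CohB1.tensorPow (L k) d) s :=
    generatedBy_of_iso τ (isInvertible_pullback r _ (isInvertible_twistProjSpace N)) _
      (generatedBy_pullSec_coord N r)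
  -- lift them
  have hlift : ∀ t, ∃ s' : ProjUP.Γm (CohB1.tensorPow (L (k + 1)) d),
      Ψ.hom.app ⊤ (ProjUP.pullSec (i k) _ s') = s t := by
    intro t
    obtain ⟨y, hy⟩ := surjective_pullSec J Xs p hover i hcart k _ (hsurj k) (Ψ.inv.app ⊤ (s t))
    exact ⟨y, by rw [hy]; exact iso_inv_hom_app Ψ _⟩
  choose s' hs' using hlift
  have hgen' : ProjUP.GeneratedBy (CohB1.tensorPow (L (k + 1)) d) s' := by
    refine generatedBy_of_pullSec (i k) (surjective_i J Xs p hover i hcart k) _ (hLd (k + 1)) _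
      (hLd k) Ψ s' ?_
    have : (fun j => Ψ.hom.app ⊤ (ProjUP.pullSec (i k) _ (s' j))) = s := funext hs'
    rw [this]
    exact hs
  obtain ⟨r', -, τ', hτ'⟩ := Groth.Agent.S3572.result N
    (specULiftZIsTerminal.from (Xs (k + 1))) _ (hLd (k + 1)) s' hgen'
  refine ⟨r', τ', ?_⟩
  refine (comp_eq_of_sections N (i k) r r' (specULiftZIsTerminal.hom_ext _ _) τ τ' Ψ
    (fun t => ?_)).symm
  rw [hτ' t, hs' t]

include hover hcart hL φL in
/-- compatible morphisms `r_k : X_k ⟶ P^N` with `r_k^* O(1) ≅ L_k^d` extending a given `r_0`. -/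
theorem exists_tower_mor (d : ℕ)
    (hsurj : ∀ k, Function.Surjective ((πQ (J ^ (k + 1)) (CohB1.tensorPow (L (k + 1)) d)).app ⊤))
    (N : ℕ) (r₀ : Xs 0 ⟶ CohB1.ProjSpace N (ULift.{u} ℤ))
    (τ₀ : (Scheme.Modules.pullback r₀).obj (Twist.twistProjSpace N (ULift.{u} ℤ) 1) ≅
      CohB1.tensorPow (L 0) d) :
    ∃ r : ∀ k, Xs k ⟶ CohB1.ProjSpace N (ULift.{u} ℤ), r 0 = r₀ ∧
      (∀ k, i k ≫ r (k + 1) = r k) ∧
      ∀ k, Nonempty ((Scheme.Modules.pullback (r k)).obj
        (Twist.twistProjSpace N (ULift.{u} ℤ) 1) ≅ CohB1.tensorPow (L k) d) := by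
  let D : ℕ → Type u := fun k =>
    Σ' r : Xs k ⟶ CohB1.ProjSpace N (ULift.{u} ℤ),
      ((Scheme.Modules.pullback r).obj (Twist.twistProjSpace N (ULift.{u} ℤ) 1) ≅
        CohB1.tensorPow (L k) d)
  let step : ∀ k, D k → D (k + 1) := fun k x =>
    ⟨(exists_step J Xs p hover i hcart L hL φL d hsurj N k x.1 x.2).choose,
      (exists_step J Xs p hover i hcart L hL φL d hsurj N k x.1 x.2).choose_spec.choose⟩
  let seq : ∀ k, D k := fun k => Nat.rec (motive := D) ⟨r₀, τ₀⟩ step k
  refine ⟨fun k => (seq k).1, rfl, fun k => ?_, fun k => ⟨(seq k).2⟩⟩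
  exact (exists_step J Xs p hover i hcart L hL φL d hsurj N k (seq k).1
    (seq k).2).choose_spec.choose_spec

end Tower

end Groth.Agent.Lib.Helper27TowerEmb
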