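import Mathlib
import Groth.Agent.Lib.Helper18NB
import Groth.Agent.Lib.Helper2FPAff
import Groth.Agent.Lib.Helper27TowerEmb

/-!
# Invertible quotients of a free module and invertible modules on `Spec R` with sections (helper18)
-/

set_option autoImplicit false
set_option linter.style.haveILetI false
universe u
open CategoryTheory Limits AlgebraicGeometry TopologicalSpace Opposite

namespace Groth.Agent.Helper18NC

open Groth.Agent.Helper18NB

variable (Rc : CommRingCat.{u})

/-- the two `R`-actions on global sections over `Spec R` agree. -/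
theorem inv_smul (L : (Spec Rc).Modules) (r : Rc) (x : Γ(L, ⊤)) :
    ((Scheme.ΓSpecIso Rc).inv.hom r : Γ(Spec Rc, ⊤)) • x = r • x := by
  rw [Scheme.Modules.smul_Spec_def]
  have h : (⊤ : (Spec Rc).Opens).leTop.op = 𝟙 _ := rfl
  rw [h, (Spec Rc).presheaf.map_id]
  rfl

theorem hom_smul (L : (Spec Rc).Modules) (a : Γ(Spec Rc, ⊤)) (x : Γ(L, ⊤)) :
    ((Scheme.ΓSpecIso Rc).hom.hom a : Rc) • x = a • x := by
  rw [← inv_smul]
  congr 1
  exact congr($((Scheme.ΓSpecIso Rc).hom_inv_id) a)

theorem isInvertible_of_sections {Y : Scheme.{u}} (hY : IsAffineOpen (⊤ : Y.Opens)) (L : Y.Modules)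
    [L.IsQuasicoherent] [Module.Finite Γ(Y, ⊤) Γ(L, ⊤)] [Module.Projective Γ(Y, ⊤) Γ(L, ⊤)]
    (hrk : ∀ q : PrimeSpectrum Γ(Y, ⊤), Module.rankAtStalk Γ(L, ⊤) q = 1) :
    PicF.IsInvertible L := by
  apply Groth.Agent.Lib.Helper26.QProjLim.isInvertible_of_isFinLocFreeOfRank_one
  intro z
  obtain ⟨g, hzg, ⟨e⟩⟩ := Groth.Agent.Lib.Helper2.R1RankA.exists_basicOpen_iso_freeMod_of_rank L 1 hY z
    trivial (hrk _)
  exact ⟨Y.basicOpen g, hzg, ⟨e⟩⟩

/-- the `R`-module of global sections of an invertible module on `Spec R` is finite projective of rank one, and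
generating sections span it. -/
theorem forward (L : (Spec Rc).Modules) (hL : PicF.IsInvertible L) {m : ℕ} (σ : Fin m → Γ(L, ⊤))
    (hgen : ProjUP.GeneratedBy L σ) :
    Module.Projective Rc ((Fin m → Rc) ⧸ LinearMap.ker (Fintype.linearCombination Rc σ)) ∧
      ∀ p : PrimeSpectrum Rc, Module.rankAtStalk
        ((Fin m → Rc) ⧸ LinearMap.ker (Fintype.linearCombination Rc σ)) p = 1 := by
  have hY : IsAffineOpen (⊤ : (Spec Rc).Opens) := isAffineOpen_top _
  obtain ⟨hfin, hproj, hrk⟩ := sections_of_isInvertible hY L hL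
  have hL1 := Groth.Agent.Lib.Helper23.SecTw.isFinLocFreeOfRank_one_of_isInvertible L hL
  have hLF := Groth.Agent.Lib.Helper26.QProjLim.isFinLocFree_of_isFinLocFreeOfRank L hL1
  haveI : L.IsQuasicoherent := Groth.Agent.Lib.Helper21.HZB.isQuasicoherent_of_isFinLocFree L hLF
  have hspan := span_eq_top_of_generatedBy hY L σ hgen
  -- transfer to `R`
  obtain ⟨hfin', hproj', hrk'⟩ := Groth.Agent.Helper18NA.transfer (R := Γ(Spec Rc, ⊤)) (R' := Rc)
    (N := Γ(L, ⊤)) (N' := Γ(L, ⊤)) (Scheme.ΓSpecIso Rc).hom.hom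
    (ConcreteCategory.bijective_of_isIso (Scheme.ΓSpecIso Rc).hom) (AddEquiv.refl _)
    (fun a x => (hom_smul Rc L a x).symm) hrk
  -- surjectivity
  have hsurj : Function.Surjective (Fintype.linearCombination Rc σ) := by
    rw [← LinearMap.range_eq_top, Fintype.range_linearCombination]
    rw [eq_top_iff]
    intro x _
    let S' : Submodule Γ(Spec Rc, ⊤) Γ(L, ⊤) :=
      { carrier := (Submodule.span Rc (Set.range σ) : Set Γ(L, ⊤))
        add_mem' := fun ha hb => Submodule.add_mem _ ha hb
        zero_mem' := Submodule.zero_mem _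
        smul_mem' := fun a y hy => by
          rw [← hom_smul]
          exact Submodule.smul_mem _ _ hy }
    have hle : Submodule.span Γ(Spec Rc, ⊤) (Set.range σ) ≤ S' :=
      Submodule.span_le.mpr (fun y hy => Submodule.subset_span hy)
    have hx : x ∈ Submodule.span Γ(Spec Rc, ⊤) (Set.range σ) := by rw [hspan]; trivial
    exact hle hx
  let e := (Fintype.linearCombination Rc σ).quotKerEquivOfSurjective hsurj
  refine ⟨Module.Projective.of_equiv' e.symm, fun p => ?_⟩
  rw [Module.rankAtStalk_eq_of_equiv e]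
  exact hrk' p

/-- an invertible quotient of a free module of finite rank over `R` gives an invertible module on `Spec R`
generated by the images of the basis vectors, with the given module of relations. -/
theorem backward {m : ℕ} (F : Submodule Rc (Fin m → Rc)) [Module.Projective Rc ((Fin m → Rc) ⧸ F)]
    (hrk : ∀ p : PrimeSpectrum Rc, Module.rankAtStalk ((Fin m → Rc) ⧸ F) p = 1) :
    ∃ (L : (Spec Rc).Modules) (_ : PicF.IsInvertible L) (σ : Fin m → Γ(L, ⊤)),
      ProjUP.GeneratedBy L σ ∧ LinearMap.ker (Fintype.linearCombination Rc σ) = F := by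
  let M : ModuleCat Rc := ModuleCat.of Rc ((Fin m → Rc) ⧸ F)
  let L : (Spec Rc).Modules := tilde M
  let ε : ((Fin m → Rc) ⧸ F) ≃ₗ[Rc] Γ(L, ⊤) := (tilde.isoTop M).toLinearEquiv
  have hY : IsAffineOpen (⊤ : (Spec Rc).Opens) := isAffineOpen_top _
  obtain ⟨hfin, hproj, hrk'⟩ := Groth.Agent.Helper18NA.transfer (R := Rc) (R' := Γ(Spec Rc, ⊤))
    (N := ((Fin m → Rc) ⧸ F)) (N' := Γ(L, ⊤)) (Scheme.ΓSpecIso Rc).inv.hom
    (ConcreteCategory.bijective_of_isIso (Scheme.ΓSpecIso Rc).inv) ε.toAddEquiv
    (fun r x => by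
      rw [inv_smul]
      exact ε.map_smul r x) hrk
  haveI : L.IsQuasicoherent := inferInstanceAs (tilde M).IsQuasicoherent
  have hL : PicF.IsInvertible L := isInvertible_of_sections hY L hrk'
  let σ : Fin m → Γ(L, ⊤) := fun i => ε (F.mkQ (Pi.single i 1))
  have hφ : Fintype.linearCombination Rc σ = ε.toLinearMap ∘ₗ F.mkQ := by
    refine LinearMap.pi_ext' (fun i => ?_)
    ext
    simp [σ, Fintype.linearCombination_apply_single]
  have hker : LinearMap.ker (Fintype.linearCombination Rc σ) = F := by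
    rw [hφ, LinearMap.ker_comp, LinearEquiv.ker, Submodule.comap_bot, Submodule.ker_mkQ]
  have hspanR : Submodule.span Rc (Set.range σ) = ⊤ := by
    rw [← Fintype.range_linearCombination, hφ, LinearMap.range_eq_top]
    exact ε.surjective.comp (Submodule.mkQ_surjective F)
  have hspan : Submodule.span Γ(Spec Rc, ⊤) (Set.range σ) = ⊤ := by
    rw [eq_top_iff]
    intro x _
    have hx : x ∈ Submodule.span Rc (Set.range σ) := by rw [hspanR]; trivial
    exact Submodule.span_subset_span Rc Γ(Spec Rc, ⊤) (Set.range σ) hx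
  exact ⟨L, hL, σ, generatedBy_of_span_eq_top hY L σ hspan, hker⟩

/-- relations among sections are preserved by isomorphisms. -/
theorem ker_eq_of_iso {L' L : (Spec Rc).Modules} (τ : L' ≅ L) {m : ℕ} (σ' : Fin m → Γ(L', ⊤))
    (σ : Fin m → Γ(L, ⊤)) (h : ∀ i, τ.hom.app ⊤ (σ' i) = σ i) :
    LinearMap.ker (Fintype.linearCombination Rc σ') = LinearMap.ker (Fintype.linearCombination Rc σ) := by
  have hinj : Function.Injective (τ.hom.app ⊤) := by
    intro a b hab
    have := congr(τ.inv.app ⊤ $hab)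
    rwa [Groth.Agent.Lib.Helper27TowerEmb.iso_hom_inv_app, Groth.Agent.Lib.Helper27TowerEmb.iso_hom_inv_app]
      at this
  ext x
  rw [LinearMap.mem_ker, LinearMap.mem_ker, Fintype.linearCombination_apply,
    Fintype.linearCombination_apply]
  have hsum : τ.hom.app ⊤ (∑ i, x i • σ' i) = ∑ i, x i • σ i := by
    rw [map_sum]
    refine Finset.sum_congr rfl (fun i _ => ?_)
    rw [← inv_smul, Scheme.Modules.Hom.app_smul, h, inv_smul]
  rw [← hsum]
  constructor
  · intro h0
    rw [h0, map_zero]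
  · intro h0
    apply hinj
    rw [h0, map_zero]

end Groth.Agent.Helper18NC
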