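import Mathlib
import Groth.Agent.Lib.Helper18NC
import Groth.Agent.S3572

/-!
# Sections of projective space over an affine base and invertible quotients of `R^{n+1}` (helper18)
-/

set_option autoImplicit false
set_option linter.style.haveILetI false
universe u
open CategoryTheory Limits AlgebraicGeometry TopologicalSpace Opposite

namespace Groth.Agent.Helper18ND

theorem secKernel_eq (Rc : CommRingCat.{u}) (n : ℕ)
    (s : Spec (CommRingCat.of Rc) ⟶ CohB1.ProjSpace n Rc) :
    ProjUP.secKernel n Rc s = LinearMap.ker (Fintype.linearCombination Rc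
      (fun i => (ProjUP.pullSec s (Twist.twistProjSpace n Rc 1) (ProjUP.coord n Rc i) :
        Γ((Scheme.Modules.pullback s).obj (Twist.twistProjSpace n Rc 1), ⊤)))) := by
  ext x
  unfold ProjUP.secKernel
  rw [LinearMap.mem_ker, LinearMap.mem_ker, Fintype.linearCombination_apply,
    Fintype.linearCombination_apply]
  refine Iff.of_eq (congrArg (· = 0) (Finset.sum_congr rfl (fun i _ => ?_)))
  exact Groth.Agent.Helper18NC.inv_smul (CommRingCat.of Rc) _ (x i) _

theorem main (Rc : CommRingCat.{u}) (n : ℕ) (F : Submodule Rc (Fin (n + 1) → Rc)) :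
    (∃ s : Spec (CommRingCat.of Rc) ⟶ CohB1.ProjSpace n Rc,
        s ≫ CohB1.ProjSpace.toSpec n Rc = 𝟙 _ ∧ ProjUP.secKernel n Rc s = F) ↔
      (Module.Projective Rc ((Fin (n + 1) → Rc) ⧸ F) ∧
        ∀ p : PrimeSpectrum Rc, Module.finrank (Localization.AtPrime p.asIdeal)
          (LocalizedModule p.asIdeal.primeCompl ((Fin (n + 1) → Rc) ⧸ F)) = 1) := by
  constructor
  · rintro ⟨s, -, rfl⟩
    rw [secKernel_eq Rc n s]
    have hL := Groth.Agent.Lib.Helper23.PB.isInvertible_pullback s _
      (Groth.Agent.Lib.Helper27TowerEmb.isInvertible_twistProjSpace (R := Rc) n)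
    have hgen := Groth.Agent.Lib.Helper27TowerEmb.generatedBy_pullSec_coord n s
    exact Groth.Agent.Helper18NC.forward (CommRingCat.of Rc) _ hL _ hgen
  · rintro ⟨hproj, hrk⟩
    obtain ⟨L, hL, σ, hgen, hker⟩ := Groth.Agent.Helper18NC.backward (CommRingCat.of Rc) F hrk
    obtain ⟨r, hr, τ, hτ⟩ := Groth.Agent.S3572.result n (𝟙 _) L hL σ hgen
    refine ⟨r, hr, ?_⟩
    rw [secKernel_eq Rc n r, Groth.Agent.Helper18NC.ker_eq_of_iso (CommRingCat.of Rc) τ _ σ hτ, hker]

end Groth.Agent.Helper18ND
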