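import Mathlib
import Groth.Prelude.Def_Omega4
import Groth.Agent.Lib.Helper18OmLS14
import Groth.Agent.Lib.Helper18NL1

set_option autoImplicit false
set_option linter.style.haveILetI false
set_option linter.unusedSectionVars false
universe u
open CategoryTheory CategoryTheory.Limits AlgebraicGeometry TopologicalSpace Opposite
open TensorProduct
open Groth.Agent.Helper13PullbackUnit Groth.Agent.Helper18OmLS

namespace Groth.Agent.Helper18NL

section cover
variable {Z X : Scheme.{u}} (i : Z ⟶ X) [IsImmersion i] [QuasiCompact i]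
  {U : Z.Opens} {V : X.Opens} (hU : IsAffineOpen U) (hV : IsAffineOpen V) (e : U ≤ i ⁻¹ᵁ V)

/-- the good elements of `Γ(X, V)`: those `a` with `D(a)` in the coborder and `i⁻¹ D(a) ⊆ U`. -/
def goodSet : Set Γ(X, V) :=
  {a | X.basicOpen a ≤ i.coborderRange ∧ i ⁻¹ᵁ X.basicOpen a ≤ U}

include hV e in
theorem exists_good (z : Z) (hz : z ∈ U) :
    ∃ a : Γ(X, V), a ∈ goodSet i (U := U) (V := V) ∧ z ∈ i ⁻¹ᵁ X.basicOpen a := by
  obtain ⟨O, hO, hOU⟩ := i.isEmbedding.isInducing.isOpen_iff.mp U.isOpen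
  let W : X.Opens := i.coborderRange ⊓ ⟨O, hO⟩
  have hzW : i z ∈ W := by
    refine ⟨subset_coborder ⟨z, rfl⟩, ?_⟩
    change z ∈ i ⁻¹' O
    rw [hOU]
    exact hz
  obtain ⟨a, ha1, ha2⟩ := hV.exists_basicOpen_le ⟨i z, hzW⟩ (e hz)
  refine ⟨a, ⟨ha1.trans inf_le_left, ?_⟩, ha2⟩
  intro y hy
  have : i y ∈ W := ha1 hy
  have h2 : y ∈ i ⁻¹' O := this.2
  rw [hOU] at h2
  exact h2

include hU hV e in
theorem span_good :
    Ideal.span ((i.appLE V U e).hom '' goodSet i (U := U) (V := V)) = ⊤ := by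
  rw [← hU.iSup_basicOpen_eq_self_iff]
  apply le_antisymm
  · exact iSup_le fun f => Z.basicOpen_le _
  · intro z hz
    obtain ⟨a, ha, hza⟩ := exists_good i hV e z hz
    refine Opens.mem_iSup.mpr ⟨⟨(i.appLE V U e).hom a, a, ha, rfl⟩, ?_⟩
    change z ∈ Z.basicOpen ((i.appLE V U e) a)
    rw [Scheme.basicOpen_appLE]
    exact ⟨hz, hza⟩

end cover
end Groth.Agent.Helper18NL

namespace Groth.Agent.Helper18NL
section good
variable {Z X : Scheme.{u}} (i : Z ⟶ X) [IsImmersion i] [QuasiCompact i]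
  {U : Z.Opens} {V : X.Opens} (hU : IsAffineOpen U) (hV : IsAffineOpen V) (e : U ≤ i ⁻¹ᵁ V)

theorem res_eq_zero_of_eq {T T' : Z.Opens} (h : T = T') (hT : T ≤ U) (hT' : T' ≤ U) (w : Γ(Z, U))
    (hw : Z.presheaf.map (homOfLE hT).op w = 0) : Z.presheaf.map (homOfLE hT').op w = 0 := by
  subst h; exact hw

theorem app_res_eq (a : Γ(X, V)) (hT : i ⁻¹ᵁ X.basicOpen a ≤ U) (c : Γ(X, V)) :
    i.app (X.basicOpen a) (X.presheaf.map (homOfLE (X.basicOpen_le a)).op c) =
      Z.presheaf.map (homOfLE hT).op (i.appLE V U e c) := by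
  rw [Scheme.Hom.app_eq_appLE, ← ConcreteCategory.comp_apply, ← ConcreteCategory.comp_apply,
    Scheme.Hom.map_appLE, Scheme.Hom.appLE_map]

include hU hV in
theorem good_surj (a : Γ(X, V)) (ha : a ∈ goodSet i (U := U) (V := V)) (y : Γ(Z, U)) :
    ∃ (c : Γ(X, V)) (n : ℕ), (i.appLE V U e).hom a ^ n * y = (i.appLE V U e).hom c := by
  obtain ⟨hDc, hT⟩ := ha
  have hD : IsAffineOpen (X.basicOpen a) := hV.basicOpen a
  have hsurj := Groth.Agent.Lib.Helper20.ConormalStalk.app_surjective i hD hDc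
  obtain ⟨x, hx⟩ := hsurj (Z.presheaf.map (homOfLE hT).op y)
  haveI := hV.isLocalization_basicOpen a
  obtain ⟨n, c, hc⟩ := IsLocalization.Away.surj a x
  have hc' : x * (X.presheaf.map (homOfLE (X.basicOpen_le a)).op a) ^ n =
      X.presheaf.map (homOfLE (X.basicOpen_le a)).op c := hc
  have h1 := congrArg (i.app (X.basicOpen a)) hc'
  rw [map_mul, map_pow, app_res_eq i e a hT, app_res_eq i e a hT, hx, ← map_pow, ← map_mul] at h1
  let w : Γ(Z, U) := (i.appLE V U e) a ^ n * y - (i.appLE V U e) c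
  have hw : Z.presheaf.map (homOfLE hT).op w = 0 := by
    change Z.presheaf.map (homOfLE hT).op ((i.appLE V U e) a ^ n * y - (i.appLE V U e) c) = 0
    rw [map_sub, ← h1, mul_comm, sub_self]
  have hTeq : i ⁻¹ᵁ X.basicOpen a = Z.basicOpen ((i.appLE V U e) a) := by
    rw [Scheme.basicOpen_appLE]
    exact (inf_eq_right.mpr hT).symm
  have hw' := res_eq_zero_of_eq hTeq hT (Z.basicOpen_le _) w hw
  obtain ⟨m, hm⟩ := exists_pow_mul_eq_zero_of_res_basicOpen_eq_zero_of_isAffineOpen Z hU w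
    ((i.appLE V U e) a) hw'
  refine ⟨a ^ m * c, m + n, ?_⟩
  change (i.appLE V U e) a ^ (m + n) * y = (i.appLE V U e) (a ^ m * c)
  change (i.appLE V U e) a ^ m * ((i.appLE V U e) a ^ n * y - (i.appLE V U e) c) = 0 at hm
  rw [mul_sub, sub_eq_zero] at hm
  rw [pow_add, mul_assoc, hm, map_mul, map_pow]

include hV in
theorem good_ker (a : Γ(X, V)) (ha : a ∈ goodSet i (U := U) (V := V)) (c : Γ(X, V))
    (hc : (i.appLE V U e).hom c = 0) : ∃ n : ℕ, a ^ n * c ∈ i.ker.ideal ⟨V, hV⟩ := by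
  obtain ⟨hDc, hT⟩ := ha
  have hD : IsAffineOpen (X.basicOpen a) := hV.basicOpen a
  have h1 : i.app (X.basicOpen a) (X.presheaf.map (homOfLE (X.basicOpen_le a)).op c) = 0 := by
    rw [app_res_eq i e a hT]
    have : (i.appLE V U e) c = 0 := hc
    rw [this, map_zero]
  have h2 : X.presheaf.map (homOfLE (X.basicOpen_le a)).op c ∈ i.ker.ideal (X.affineBasicOpen (U := ⟨V, hV⟩) a) := by
    rw [Scheme.Hom.ker_apply]
    exact (RingHom.mem_ker).mpr h1
  rw [← i.ker.map_ideal_basicOpen ⟨V, hV⟩ a] at h2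
  haveI := hV.isLocalization_basicOpen a
  have h3 := (IsLocalization.algebraMap_mem_map_algebraMap_iff (Submonoid.powers a)
    Γ(X, X.basicOpen a) (i.ker.ideal ⟨V, hV⟩) c).mp h2
  obtain ⟨_, ⟨n, rfl⟩, hn⟩ := h3
  exact ⟨n, hn⟩

end good
end Groth.Agent.Helper18NL

namespace Groth.Agent.Helper18NL
section chartBij
variable {Z X : Scheme.{u}} (i : Z ⟶ X) [IsImmersion i] [QuasiCompact i]
  {U : Z.Opens} {V : X.Opens} (hU : IsAffineOpen U) (hV : IsAffineOpen V) (e : U ≤ i ⁻¹ᵁ V)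
  [Algebra Γ(X, V) Γ(Z, U)] (halg : algebraMap Γ(X, V) Γ(Z, U) = (i.appLE V U e).hom)

include halg in
theorem ideal_le_ker : i.ker.ideal ⟨V, hV⟩ ≤ RingHom.ker (algebraMap Γ(X, V) Γ(Z, U)) := by
  intro x hx
  rw [Scheme.Hom.ker_apply] at hx
  have hx' : (i.app V) x = 0 := (RingHom.mem_ker).mp hx
  rw [RingHom.mem_ker, halg]
  change (i.appLE V U e) x = 0
  rw [Scheme.Hom.appLE, ConcreteCategory.comp_apply, hx', map_zero]

include hU in
theorem gam_bijective_chart :
    Function.Bijective (gam (Algebra.Generators.self Γ(X, V) Γ(Z, U)).toExtension (i.ker.ideal ⟨V, hV⟩)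
      (ideal_le_ker i hV e halg)) := by
  refine gam_bijective_of_cover _ _ (goodSet i (U := U) (V := V)) ?_ ?_ ?_
  · rw [halg]
    exact span_good i hU hV e
  · intro a ha y
    rw [halg]
    exact good_surj i hU hV e a ha y
  · intro a ha c hc
    rw [halg] at hc
    exact good_ker i hV e a ha c hc

end chartBij
end Groth.Agent.Helper18NL
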