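import Mathlib
import Groth.Prelude.Def_Omega4
import Groth.Agent.Lib.Helper18OmLS17
import Groth.Agent.Lib.Helper18NL2

set_option autoImplicit false
set_option linter.style.haveILetI false
set_option linter.unusedSectionVars false
universe u
open CategoryTheory CategoryTheory.Limits AlgebraicGeometry TopologicalSpace Opposite
open TensorProduct
open Groth.Agent.Helper13PullbackUnit Groth.Agent.Helper18OmLS

namespace Groth.Agent.Helper18NL

section theta
variable {Z X : Scheme.{u}} (i : Z ⟶ X) [IsImmersion i] [QuasiCompact i]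
  {U : Z.Opens} {V : X.Opens} (hU : IsAffineOpen U) (hV : IsAffineOpen V) (e : U ≤ i ⁻¹ᵁ V)
  [Algebra Γ(X, V) Γ(Z, U)] (halg : algebraMap Γ(X, V) Γ(Z, U) = (i.appLE V U e).hom)

/-- sections of the ideal sheaf over an affine open `V`, as elements of the ideal. -/
noncomputable def idealLin : Γ(ClSub.idealMod i.ker, V) →ₗ[Γ(X, V)] (i.ker.ideal ⟨V, hV⟩) where
  toFun m := ⟨OmegaSh.idealSect i.ker V m, by
    rw [Scheme.Hom.ker_apply]
    exact RingHom.mem_ker.mpr (app_idealSect_eq_zero i V m)⟩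
  map_add' m m' := Subtype.ext (map_add _ _ _)
  map_smul' a m := Subtype.ext (idealSect_smul i.ker V a m)

@[simp] theorem idealLin_coe (m : Γ(ClSub.idealMod i.ker, V)) :
    ((idealLin i hV m : i.ker.ideal ⟨V, hV⟩) : Γ(X, V)) = OmegaSh.idealSect i.ker V m := rfl

theorem idealLin_bijective : Function.Bijective (idealLin i hV) := by
  constructor
  · intro m m' h
    apply idealSect_injective i.ker V
    exact congrArg Subtype.val h
  · rintro ⟨x, hx⟩
    rw [Scheme.Hom.ker_apply] at hx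
    obtain ⟨s, hs⟩ := exists_idealSect_eq i V x (RingHom.mem_ker.mp hx)
    exact ⟨s, Subtype.ext hs⟩

/-- `m ↦ [idealSect m]`. -/
noncomputable def cLin : Γ(ClSub.idealMod i.ker, V) →ₗ[Γ(X, V)] Algebra.H1Cotangent Γ(X, V) Γ(Z, U) :=
  extCLin (Algebra.Generators.self Γ(X, V) Γ(Z, U)).toExtension (i.ker.ideal ⟨V, hV⟩)
    (ideal_le_ker i hV e halg) ∘ₗ idealLin i hV

theorem cLin_apply (m : Γ(ClSub.idealMod i.ker, V)) :
    cLin i hV e halg m = extC (Algebra.Generators.self Γ(X, V) Γ(Z, U)).toExtension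
      (OmegaSh.idealSect i.ker V m)
      (RingHom.mem_ker.mp (ideal_le_ker i hV e halg (idealLin i hV m).2)) := rfl

theorem liftBaseChange_cLin_bijective (hU : IsAffineOpen U) :
    Function.Bijective (LinearMap.liftBaseChange Γ(Z, U) (cLin i hV e halg)) := by
  have h1 : LinearMap.liftBaseChange Γ(Z, U) (cLin i hV e halg) =
      gam (Algebra.Generators.self Γ(X, V) Γ(Z, U)).toExtension (i.ker.ideal ⟨V, hV⟩)
        (ideal_le_ker i hV e halg) ∘ₗ (idealLin i hV).baseChange Γ(Z, U) := by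
    ext m
    simp [cLin, gam]
  rw [h1, LinearMap.coe_comp]
  refine (gam_bijective_chart i hU hV e halg).comp ?_
  rw [LinearMap.baseChange_eq_ltensor]
  exact ((LinearEquiv.ofBijective (idealLin i hV) (idealLin_bijective i hV)).lTensor Γ(Z, U)).bijective

end theta
end Groth.Agent.Helper18NL

namespace Groth.Agent.Helper18NL
section theta2
variable {Z X : Scheme.{u}} (i : Z ⟶ X) [IsImmersion i] [QuasiCompact i]
  {U : Z.Opens} {V : X.Opens} (hU : IsAffineOpen U) (hV : IsAffineOpen V) (e : U ≤ i ⁻¹ᵁ V)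
  [Algebra Γ(X, V) Γ(Z, U)] (halg : algebraMap Γ(X, V) Γ(Z, U) = (i.appLE V U e).hom)

/-- sections of the conormal sheaf on a chart as a base change. -/
noncomputable def pbEquiv : Γ(Z, U) ⊗[Γ(X, V)] Γ(ClSub.idealMod i.ker, V) ≃ₗ[Γ(Z, U)]
    Γ((Scheme.Modules.pullback i).obj (ClSub.idealMod i.ker), U) :=
  (exists_pullback_equiv i (ClSub.idealMod i.ker) e hV hU halg).choose

theorem pbEquiv_tmul (b : Γ(Z, U)) (m : Γ(ClSub.idealMod i.ker, V)) :
    pbEquiv i hU hV e halg (b ⊗ₜ m) = b • unitSec i (ClSub.idealMod i.ker) e m :=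
  (exists_pullback_equiv i (ClSub.idealMod i.ker) e hV hU halg).choose_spec b m

/-- the chart identification `Γ(C_{Z/X}, U) → H¹(L_{Γ(Z,U)/Γ(X,V)})`. -/
noncomputable def theta : Γ((Scheme.Modules.pullback i).obj (ClSub.idealMod i.ker), U) →ₗ[Γ(Z, U)]
    Algebra.H1Cotangent Γ(X, V) Γ(Z, U) :=
  LinearMap.liftBaseChange Γ(Z, U) (cLin i hV e halg) ∘ₗ (pbEquiv i hU hV e halg).symm.toLinearMap

theorem theta_bijective : Function.Bijective (theta i hU hV e halg) := by
  rw [theta, LinearMap.coe_comp]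
  exact (liftBaseChange_cLin_bijective i hV e halg hU).comp (pbEquiv i hU hV e halg).symm.bijective

theorem theta_smul_unitSec (b : Γ(Z, U)) (m : Γ(ClSub.idealMod i.ker, V)) :
    theta i hU hV e halg (b • unitSec i (ClSub.idealMod i.ker) e m) =
      b • extC (Algebra.Generators.self Γ(X, V) Γ(Z, U)).toExtension
        (OmegaSh.idealSect i.ker V m)
        (RingHom.mem_ker.mp (ideal_le_ker i hV e halg (idealLin i hV m).2)) := by
  rw [← pbEquiv_tmul i hU hV e halg, theta, LinearMap.comp_apply, LinearEquiv.coe_coe,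
    LinearEquiv.symm_apply_apply, LinearMap.liftBaseChange_tmul, cLin_apply]

include hU hV halg in
/-- two additive maps out of the chart sections agree if they agree on `b • unitSec m`. -/
theorem ext_of_smul_unitSec {N : Type*} [AddCommGroup N]
    (f g : Γ((Scheme.Modules.pullback i).obj (ClSub.idealMod i.ker), U) →+ N)
    (h : ∀ (b : Γ(Z, U)) (m : Γ(ClSub.idealMod i.ker, V)),
      f (b • unitSec i (ClSub.idealMod i.ker) e m) = g (b • unitSec i (ClSub.idealMod i.ker) e m))
    (n : Γ((Scheme.Modules.pullback i).obj (ClSub.idealMod i.ker), U)) : f n = g n := by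
  obtain ⟨t, rfl⟩ := (pbEquiv i hU hV e halg).surjective n
  induction t using TensorProduct.induction_on with
  | zero => rw [map_zero, map_zero, map_zero]
  | tmul b m => rw [pbEquiv_tmul]; exact h b m
  | add x y hx hy => rw [map_add, map_add, map_add, hx, hy]

end theta2
end Groth.Agent.Helper18NL

namespace Groth.Agent.Helper18NL
section nat
variable {Z X : Scheme.{u}} (i : Z ⟶ X) [IsImmersion i] [QuasiCompact i]
  {U U' : Z.Opens} {V V' : X.Opens} (hU : IsAffineOpen U) (hV : IsAffineOpen V) (e : U ≤ i ⁻¹ᵁ V)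
  (hU' : IsAffineOpen U') (hV' : IsAffineOpen V') (e' : U' ≤ i ⁻¹ᵁ V')
  (hUU : U' ≤ U) (hVV : V' ≤ V)
  [Algebra Γ(X, V) Γ(Z, U)] (halg : algebraMap Γ(X, V) Γ(Z, U) = (i.appLE V U e).hom)
  [Algebra Γ(X, V') Γ(Z, U')] (halg' : algebraMap Γ(X, V') Γ(Z, U') = (i.appLE V' U' e').hom)
  [Algebra Γ(X, V) Γ(X, V')] (hA : algebraMap Γ(X, V) Γ(X, V') = (X.presheaf.map (homOfLE hVV).op).hom)
  [Algebra Γ(Z, U) Γ(Z, U')] (hB : algebraMap Γ(Z, U) Γ(Z, U') = (Z.presheaf.map (homOfLE hUU).op).hom)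
  [Algebra Γ(X, V) Γ(Z, U')] [IsScalarTower Γ(X, V) Γ(X, V') Γ(Z, U')]
  [IsScalarTower Γ(X, V) Γ(Z, U) Γ(Z, U')]

include hA hB in
theorem theta_res (n : Γ((Scheme.Modules.pullback i).obj (ClSub.idealMod i.ker), U)) :
    theta i hU' hV' e' halg'
      (((Scheme.Modules.pullback i).obj (ClSub.idealMod i.ker)).presheaf.map (homOfLE hUU).op n) =
      Algebra.H1Cotangent.map Γ(X, V) Γ(X, V') Γ(Z, U) Γ(Z, U') (theta i hU hV e halg n) := by
  let f : Γ((Scheme.Modules.pullback i).obj (ClSub.idealMod i.ker), U) →+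
      Algebra.H1Cotangent Γ(X, V') Γ(Z, U') :=
    (theta i hU' hV' e' halg').toAddMonoidHom.comp
      (((Scheme.Modules.pullback i).obj (ClSub.idealMod i.ker)).presheaf.map (homOfLE hUU).op).hom
  let g : Γ((Scheme.Modules.pullback i).obj (ClSub.idealMod i.ker), U) →+
      Algebra.H1Cotangent Γ(X, V') Γ(Z, U') :=
    (Algebra.H1Cotangent.map Γ(X, V) Γ(X, V') Γ(Z, U) Γ(Z, U')).toAddMonoidHom.comp
      (theta i hU hV e halg).toAddMonoidHom
  refine ext_of_smul_unitSec i hU hV e halg f g ?_ n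
  intro b m
  change theta i hU' hV' e' halg'
      (((Scheme.Modules.pullback i).obj (ClSub.idealMod i.ker)).presheaf.map (homOfLE hUU).op
        (b • unitSec i (ClSub.idealMod i.ker) e m)) =
    Algebra.H1Cotangent.map Γ(X, V) Γ(X, V') Γ(Z, U) Γ(Z, U')
      (theta i hU hV e halg (b • unitSec i (ClSub.idealMod i.ker) e m))
  rw [Scheme.Modules.map_smul, unitSec_map_src,
    ← unitSec_res i (ClSub.idealMod i.ker) hVV e' m, theta_smul_unitSec,
    theta_smul_unitSec, map_smul, Algebra.H1Cotangent.map, map_extC,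
    ← algebraMap_smul Γ(Z, U') b, hB]
  congr 1
  apply extC_congr
  rw [idealSect_res, hA]

end nat
end Groth.Agent.Helper18NL
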