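import Mathlib
import Groth.Prelude.Def_SheafNL
import Groth.Agent.Lib.Helper18NL3

set_option autoImplicit false
set_option linter.style.haveILetI false
set_option linter.unusedSectionVars false
universe u
open CategoryTheory CategoryTheory.Limits AlgebraicGeometry TopologicalSpace Opposite
open TensorProduct
open Groth.Agent.Helper13PullbackUnit Groth.Agent.Helper18OmLS

namespace Groth.Agent.Helper18NL

section final
variable {Z X : Scheme.{u}} (i : Z ⟶ X) [IsImmersion i] [QuasiCompact i]

noncomputable def h1Sheaf : NLCx.H1Sheaf i (Omega.conormal i) where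
  iso U V e :=
    letI := (i.appLE (V : X.Opens) (U : Z.Opens) e).hom.toAlgebra
    (LinearEquiv.ofBijective (theta i U.2 V.2 e rfl) (theta_bijective i U.2 V.2 e rfl)).toAddEquiv
  map_smul U V e a m := by
    letI := (i.appLE (V : X.Opens) (U : Z.Opens) e).hom.toAlgebra
    exact (theta i U.2 V.2 e rfl).map_smul a m
  map_res {U U' V V'} e e' hU hV m := by
    letI := (i.appLE (V : X.Opens) (U : Z.Opens) e).hom.toAlgebra
    letI := (i.appLE (V' : X.Opens) (U' : Z.Opens) e').hom.toAlgebra
    letI := (i.appLE (V : X.Opens) (U' : Z.Opens) (hU.trans e)).hom.toAlgebra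
    letI := (Z.presheaf.map (homOfLE hU).op).hom.toAlgebra
    letI := (X.presheaf.map (homOfLE hV).op).hom.toAlgebra
    haveI : IsScalarTower Γ(X, (V : X.Opens)) Γ(X, (V' : X.Opens)) Γ(Z, (U' : Z.Opens)) :=
      IsScalarTower.of_algebraMap_eq' (by
        change (i.appLE _ _ _).hom = (i.appLE _ _ _).hom.comp (X.presheaf.map _).hom
        rw [← CommRingCat.hom_comp, Scheme.Hom.map_appLE])
    haveI : IsScalarTower Γ(X, (V : X.Opens)) Γ(Z, (U : Z.Opens)) Γ(Z, (U' : Z.Opens)) :=
      IsScalarTower.of_algebraMap_eq' (by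
        change (i.appLE _ _ _).hom = (Z.presheaf.map _).hom.comp (i.appLE _ _ _).hom
        rw [← CommRingCat.hom_comp, Scheme.Hom.appLE_map])
    exact theta_res i U.2 V.2 e U'.2 V'.2 e' hU hV rfl rfl rfl rfl m

end final
end Groth.Agent.Helper18NL

namespace Groth.Agent.Helper18NL
section onCharts
variable {Z X : Scheme.{u}} (i : Z ⟶ X) [IsImmersion i]

theorem onCharts_kaehler : NLCx.OnCharts i (fun A B _ _ _ => Subsingleton (Ω[B⁄A])) := by
  intro U V e
  haveI : FormallyUnramified i := inferInstance
  have h := HasRingHomProperty.appLE (P := @FormallyUnramified) i ‹_› V U e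
  letI := (i.appLE (V : X.Opens) (U : Z.Opens) e).hom.toAlgebra
  haveI : Algebra.FormallyUnramified Γ(X, (V : X.Opens)) Γ(Z, (U : Z.Opens)) := h
  infer_instance

end onCharts
end Groth.Agent.Helper18NL
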