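import Mathlib
import Groth.Agent.Lib.Helper18NL1

set_option autoImplicit false
set_option linter.style.haveILetI false
universe u
open TensorProduct

namespace Groth.Agent.Helper18NL

noncomputable section etaleBase
variable (A A' B : Type u) [CommRing A] [CommRing A'] [CommRing B] [Algebra A A'] [Algebra A' B]
  [Algebra A B] [IsScalarTower A A' B]

/-- the standard presentation of `B` over `A'`, viewed as an extension of `B` over `A`. -/
noncomputable def extOver : Algebra.Extension.{u} A B where
  Ring := (Algebra.Generators.self A' B).toExtension.Ring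
  σ := (Algebra.Generators.self A' B).toExtension.σ
  algebraMap_σ := (Algebra.Generators.self A' B).toExtension.algebraMap_σ

/-- the identity, as a morphism of extensions over the base change `A → A'`. -/
noncomputable def extOverHom : (extOver A A' B).Hom (Algebra.Generators.self A' B).toExtension where
  toRingHom := RingHom.id _
  toRingHom_algebraMap _ := rfl
  algebraMap_toRingHom _ := rfl

theorem extOver_ker :
    (extOver A A' B).ker = (Algebra.Generators.self A' B).toExtension.ker := rfl

theorem cotangent_map_extOverHom_injective :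
    Function.Injective (Algebra.Extension.Cotangent.map (extOverHom A A' B)) := by
  refine (injective_iff_map_eq_zero _).mpr ?_
  intro x hx
  obtain ⟨y, rfl⟩ := Algebra.Extension.Cotangent.mk_surjective x
  rw [Algebra.Extension.Cotangent.map_mk, Algebra.Extension.Cotangent.mk_eq_zero_iff] at hx
  rw [Algebra.Extension.Cotangent.mk_eq_zero_iff]
  exact hx

theorem h1map_extOverHom_injective :
    Function.Injective (Algebra.Extension.H1Cotangent.map (extOverHom A A' B)) := by
  intro x y hxy
  apply Algebra.Extension.h1Cotangentι_injective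
  apply cotangent_map_extOverHom_injective A A' B
  have := congrArg Subtype.val hxy
  exact this

theorem formallySmooth_extOver [Algebra.FormallyEtale A A'] :
    Algebra.FormallySmooth A (extOver A A' B).Ring := by
  letI : Algebra A' (extOver A A' B).Ring := inferInstanceAs (Algebra A' (MvPolynomial B A'))
  haveI : IsScalarTower A A' (extOver A A' B).Ring := IsScalarTower.of_algebraMap_eq' rfl
  haveI : Algebra.FormallySmooth A' (extOver A A' B).Ring :=
    inferInstanceAs (Algebra.FormallySmooth A' (MvPolynomial B A'))
  exact Algebra.FormallySmooth.comp A A' (extOver A A' B).Ring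

theorem h1map_injective_of_formallyEtale [Algebra.FormallyEtale A A'] :
    Function.Injective (Algebra.H1Cotangent.map A A' B B) := by
  have h1 : Algebra.H1Cotangent.map A A' B B =
      (Algebra.Extension.H1Cotangent.map (extOverHom A A' B)).restrictScalars B ∘ₗ
        Algebra.Extension.H1Cotangent.map (selfHom (extOver A A' B)) := by
    rw [← Algebra.Extension.H1Cotangent.map_comp]
    exact Algebra.Extension.H1Cotangent.map_eq _ _
  rw [h1]
  haveI := formallySmooth_extOver A A' B
  exact (h1map_extOverHom_injective A A' B).comp (map_selfHom_bijective (extOver A A' B)).1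

theorem h1map_surjective_of_formallyUnramified [Algebra.FormallyUnramified A A'] :
    Function.Surjective (Algebra.H1Cotangent.map A A' B B) := by
  intro y
  have h := Algebra.H1Cotangent.exact_map_δ A A' B
  have hy : Algebra.H1Cotangent.δ A A' B y = 0 := Subsingleton.elim _ _
  exact (h y).mp hy

theorem h1map_bijective_of_formallyEtale [Algebra.FormallyEtale A A'] :
    Function.Bijective (Algebra.H1Cotangent.map A A' B B) :=
  ⟨h1map_injective_of_formallyEtale A A' B, h1map_surjective_of_formallyUnramified A A' B⟩

end etaleBase
end Groth.Agent.Helper18NL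

namespace Groth.Agent.Helper18NL

section comp
variable (R S S₂ S' T T₂ : Type u) [CommRing R] [CommRing S] [CommRing S₂] [CommRing S'] [CommRing T]
  [CommRing T₂]
  [Algebra R S] [Algebra S S₂] [Algebra R S₂] [IsScalarTower R S S₂]
  [Algebra R S'] [Algebra S T] [Algebra S₂ T₂] [Algebra S' T] [Algebra T T₂] [Algebra S' T₂]
  [IsScalarTower S' T T₂]
  [Algebra R T] [IsScalarTower R S T] [IsScalarTower R S' T]
  [Algebra S T₂] [IsScalarTower S S₂ T₂] [IsScalarTower S T T₂]
  [Algebra R T₂] [IsScalarTower R S₂ T₂] [IsScalarTower R S' T₂]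

theorem h1map_comp_apply (x : Algebra.H1Cotangent R S') :
    Algebra.H1Cotangent.map S S₂ T T₂ (Algebra.H1Cotangent.map R S S' T x) =
      Algebra.H1Cotangent.map R S₂ S' T₂ x := by
  unfold Algebra.H1Cotangent.map
  rw [← Algebra.Extension.H1Cotangent.map_comp_apply]
  exact congr($(Algebra.Extension.H1Cotangent.map_eq _ _) x)

end comp

section loc
variable (A B Bg : Type u) [CommRing A] [CommRing B] [CommRing Bg] [Algebra A B] [Algebra B Bg]
  [Algebra A Bg] [IsScalarTower A B Bg] (g : B) [IsLocalization.Away g Bg]

theorem h1map_loc_surj (m' : Algebra.H1Cotangent A Bg) :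
    ∃ (n : ℕ) (m : Algebra.H1Cotangent A B),
      algebraMap B Bg g ^ n • m' = Algebra.H1Cotangent.map A A B Bg m := by
  obtain ⟨⟨m, ⟨_, n, rfl⟩⟩, h⟩ := IsLocalizedModule.surj (.powers g)
    (Algebra.H1Cotangent.map A A B Bg) m'
  refine ⟨n, m, ?_⟩
  rw [← h, ← map_pow, Submonoid.smul_def, algebraMap_smul]

theorem h1map_loc_inj (m : Algebra.H1Cotangent A B) (h : Algebra.H1Cotangent.map A A B Bg m = 0) :
    ∃ n : ℕ, g ^ n • m = 0 := by
  have h' : Algebra.H1Cotangent.map A A B Bg m = Algebra.H1Cotangent.map A A B Bg 0 := by
    rw [map_zero]; exact h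
  obtain ⟨⟨_, n, rfl⟩, hc⟩ := IsLocalizedModule.exists_of_eq (S := .powers g) h'
  refine ⟨n, ?_⟩
  rw [smul_zero] at hc
  exact hc

end loc

end Groth.Agent.Helper18NL
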