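import Mathlib
import Groth.Prelude.Def_SheafNL
import Groth.Agent.Lib.Helper18NL5
import Groth.Agent.Lib.Helper18CG6

set_option autoImplicit false
set_option linter.style.haveILetI false
universe u
open CategoryTheory Limits AlgebraicGeometry TopologicalSpace Opposite

namespace Groth.Agent.Helper18NL
open Groth.Agent.Lib.Helper6 Groth.Agent.Helper18CG

section etale
variable {Y : Scheme.{u}}

theorem formallyEtale_res {V V' : Y.Opens} (hV : IsAffineOpen V) (hV' : IsAffineOpen V') (h : V' ≤ V) :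
    (Y.presheaf.map (homOfLE h).op).hom.FormallyEtale := by
  have h1 := Etale.etale_appLE (𝟙 Y) hV hV' (show V' ≤ (𝟙 Y) ⁻¹ᵁ V from h)
  have h2 : Scheme.Hom.appLE (𝟙 Y) V V' h = Y.presheaf.map (homOfLE h).op := by
    simp only [Scheme.Hom.appLE, Scheme.Hom.id_app]
    exact Category.id_comp _
  rw [h2] at h1
  exact h1.formallyEtale

end etale
end Groth.Agent.Helper18NL

namespace Groth.Agent.Helper18NL
open Groth.Agent.Lib.Helper6 Groth.Agent.Helper18CG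

section sys
variable {X Y : Scheme.{u}} (f : X ⟶ Y)

/-- chart pairs of `f`. -/
abbrev Idx : Type u :=
  {p : X.Opens × Y.Opens // IsAffineOpen p.1 ∧ IsAffineOpen p.2 ∧ p.1 ≤ f ⁻¹ᵁ p.2}

variable {f}

abbrev Idx.Ua (c : Idx f) : X.affineOpens := ⟨c.1.1, c.2.1⟩
abbrev Idx.Va (c : Idx f) : Y.affineOpens := ⟨c.1.2, c.2.2.1⟩
theorem Idx.e (c : Idx f) : (c.Ua : X.Opens) ≤ f ⁻¹ᵁ (c.Va : Y.Opens) := c.2.2.2

/-- the module of a chart pair. -/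
noncomputable def Idx.M (c : Idx f) : ModuleCat.{u} Γ(X, c.1.1) :=
  letI := (f.appLE c.1.2 c.1.1 c.2.2.2).hom.toAlgebra
  ModuleCat.of Γ(X, c.1.1) (Algebra.H1Cotangent Γ(Y, c.1.2) Γ(X, c.1.1))

example (c : Idx f) : (c.M : Type u) = NLCx.ChartH1 f c.Ua c.Va c.e := rfl

/-- refinement of chart pairs. -/
def Idx.Basic (c d : Idx f) : Prop :=
  (∃ g : Γ(X, c.1.1), d.1.1 = X.basicOpen g) ∧ d.1.2 ≤ c.1.2

theorem Idx.Basic.le {c d : Idx f} (h : c.Basic d) : d.1.1 ≤ c.1.1 := by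
  obtain ⟨g, hg⟩ := h.1
  rw [hg]
  exact X.basicOpen_le g

/-- restriction maps. -/
noncomputable def Idx.ρ {c d : Idx f} (h : c.Basic d) : c.M →+ d.M :=
  NLCx.chartRes (U := c.Ua) (U' := d.Ua) (V := c.Va) (V' := d.Va) c.e d.e h.le h.2

end sys
end Groth.Agent.Helper18NL

namespace Groth.Agent.Helper18NL
open Groth.Agent.Lib.Helper6 Groth.Agent.Helper18CG

section sys2
variable {X Y : Scheme.{u}} {f : X ⟶ Y}

theorem Idx.ρ_smul {c d : Idx f} (h : c.Basic d) (b : Γ(X, c.1.1)) (m : c.M) :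
    Idx.ρ h (b • m) = resf h.le b • Idx.ρ h m := by
  letI := (f.appLE c.1.2 c.1.1 c.2.2.2).hom.toAlgebra
  letI := (f.appLE d.1.2 d.1.1 d.2.2.2).hom.toAlgebra
  letI := (f.appLE c.1.2 d.1.1 (h.le.trans c.2.2.2)).hom.toAlgebra
  letI := (X.presheaf.map (homOfLE h.le).op).hom.toAlgebra
  letI := (Y.presheaf.map (homOfLE h.2).op).hom.toAlgebra
  haveI : IsScalarTower Γ(Y, c.1.2) Γ(Y, d.1.2) Γ(X, d.1.1) :=
    IsScalarTower.of_algebraMap_eq' (by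
      change (f.appLE _ _ _).hom = (f.appLE _ _ _).hom.comp (Y.presheaf.map _).hom
      rw [← CommRingCat.hom_comp, Scheme.Hom.map_appLE])
  haveI : IsScalarTower Γ(Y, c.1.2) Γ(X, c.1.1) Γ(X, d.1.1) :=
    IsScalarTower.of_algebraMap_eq' (by
      change (f.appLE _ _ _).hom = (X.presheaf.map _).hom.comp (f.appLE _ _ _).hom
      rw [← CommRingCat.hom_comp, Scheme.Hom.appLE_map])
  have key : ∀ m' : Algebra.H1Cotangent Γ(Y, c.1.2) Γ(X, c.1.1),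
      Algebra.H1Cotangent.map Γ(Y, c.1.2) Γ(Y, d.1.2) Γ(X, c.1.1) Γ(X, d.1.1) (b • m') =
      algebraMap Γ(X, c.1.1) Γ(X, d.1.1) b •
        Algebra.H1Cotangent.map Γ(Y, c.1.2) Γ(Y, d.1.2) Γ(X, c.1.1) Γ(X, d.1.1) m' := fun m' => by
    rw [map_smul, algebraMap_smul]
  exact key m

end sys2
end Groth.Agent.Helper18NL

namespace Groth.Agent.Helper18NL
open Groth.Agent.Lib.Helper6 Groth.Agent.Helper18CG

section sys3
variable {X Y : Scheme.{u}} {f : X ⟶ Y}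

theorem Idx.Basic.trans {c d e : Idx f} (h₁ : c.Basic d) (h₂ : d.Basic e) : c.Basic e := by
  refine ⟨?_, h₂.2.trans h₁.2⟩
  obtain ⟨g, hg⟩ := h₁.1
  obtain ⟨g', hg'⟩ := h₂.1
  obtain ⟨⟨Ud, Vd⟩, hUd, hVd, ed⟩ := d
  simp only at hg hg' g'
  subst hg
  obtain ⟨g'', hg''⟩ := c.2.1.basicOpen_basicOpen_is_basicOpen g g'
  exact ⟨g'', hg'.trans hg''.symm⟩

theorem Idx.ρ_comp {c d e : Idx f} (h₁ : c.Basic d) (h₂ : d.Basic e) (h₃ : c.Basic e) (m : c.M) :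
    Idx.ρ h₂ (Idx.ρ h₁ m) = Idx.ρ h₃ m := by
  letI : Algebra Γ(Y, c.1.2) Γ(X, c.1.1) := (f.appLE c.1.2 c.1.1 c.2.2.2).hom.toAlgebra
  letI : Algebra Γ(Y, d.1.2) Γ(X, d.1.1) := (f.appLE d.1.2 d.1.1 d.2.2.2).hom.toAlgebra
  letI : Algebra Γ(Y, e.1.2) Γ(X, e.1.1) := (f.appLE e.1.2 e.1.1 e.2.2.2).hom.toAlgebra
  letI : Algebra Γ(Y, c.1.2) Γ(X, d.1.1) := (f.appLE c.1.2 d.1.1 (h₁.le.trans c.2.2.2)).hom.toAlgebra
  letI : Algebra Γ(Y, d.1.2) Γ(X, e.1.1) := (f.appLE d.1.2 e.1.1 (h₂.le.trans d.2.2.2)).hom.toAlgebra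
  letI : Algebra Γ(Y, c.1.2) Γ(X, e.1.1) := (f.appLE c.1.2 e.1.1 (h₃.le.trans c.2.2.2)).hom.toAlgebra
  letI : Algebra Γ(X, c.1.1) Γ(X, d.1.1) := (X.presheaf.map (homOfLE h₁.le).op).hom.toAlgebra
  letI : Algebra Γ(X, d.1.1) Γ(X, e.1.1) := (X.presheaf.map (homOfLE h₂.le).op).hom.toAlgebra
  letI : Algebra Γ(X, c.1.1) Γ(X, e.1.1) := (X.presheaf.map (homOfLE h₃.le).op).hom.toAlgebra
  letI : Algebra Γ(Y, c.1.2) Γ(Y, d.1.2) := (Y.presheaf.map (homOfLE h₁.2).op).hom.toAlgebra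
  letI : Algebra Γ(Y, d.1.2) Γ(Y, e.1.2) := (Y.presheaf.map (homOfLE h₂.2).op).hom.toAlgebra
  letI : Algebra Γ(Y, c.1.2) Γ(Y, e.1.2) := (Y.presheaf.map (homOfLE h₃.2).op).hom.toAlgebra
  haveI : IsScalarTower Γ(Y, c.1.2) Γ(Y, d.1.2) Γ(Y, e.1.2) :=
    IsScalarTower.of_algebraMap_eq' (by
      change (Y.presheaf.map _).hom = (Y.presheaf.map _).hom.comp (Y.presheaf.map _).hom
      rw [← CommRingCat.hom_comp, ← Functor.map_comp]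
      rfl)
  haveI : IsScalarTower Γ(X, c.1.1) Γ(X, d.1.1) Γ(X, e.1.1) :=
    IsScalarTower.of_algebraMap_eq' (by
      change (X.presheaf.map _).hom = (X.presheaf.map _).hom.comp (X.presheaf.map _).hom
      rw [← CommRingCat.hom_comp, ← Functor.map_comp]
      rfl)
  haveI : IsScalarTower Γ(Y, c.1.2) Γ(Y, d.1.2) Γ(X, d.1.1) :=
    IsScalarTower.of_algebraMap_eq' (by
      change (f.appLE _ _ _).hom = (f.appLE _ _ _).hom.comp (Y.presheaf.map _).hom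
      rw [← CommRingCat.hom_comp, Scheme.Hom.map_appLE])
  haveI : IsScalarTower Γ(Y, c.1.2) Γ(X, c.1.1) Γ(X, d.1.1) :=
    IsScalarTower.of_algebraMap_eq' (by
      change (f.appLE _ _ _).hom = (X.presheaf.map _).hom.comp (f.appLE _ _ _).hom
      rw [← CommRingCat.hom_comp, Scheme.Hom.appLE_map])
  haveI : IsScalarTower Γ(Y, d.1.2) Γ(Y, e.1.2) Γ(X, e.1.1) :=
    IsScalarTower.of_algebraMap_eq' (by
      change (f.appLE _ _ _).hom = (f.appLE _ _ _).hom.comp (Y.presheaf.map _).hom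
      rw [← CommRingCat.hom_comp, Scheme.Hom.map_appLE])
  haveI : IsScalarTower Γ(Y, d.1.2) Γ(X, d.1.1) Γ(X, e.1.1) :=
    IsScalarTower.of_algebraMap_eq' (by
      change (f.appLE _ _ _).hom = (X.presheaf.map _).hom.comp (f.appLE _ _ _).hom
      rw [← CommRingCat.hom_comp, Scheme.Hom.appLE_map])
  haveI : IsScalarTower Γ(Y, c.1.2) Γ(Y, e.1.2) Γ(X, e.1.1) :=
    IsScalarTower.of_algebraMap_eq' (by
      change (f.appLE _ _ _).hom = (f.appLE _ _ _).hom.comp (Y.presheaf.map _).hom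
      rw [← CommRingCat.hom_comp, Scheme.Hom.map_appLE])
  haveI : IsScalarTower Γ(Y, c.1.2) Γ(X, c.1.1) Γ(X, e.1.1) :=
    IsScalarTower.of_algebraMap_eq' (by
      change (f.appLE _ _ _).hom = (X.presheaf.map _).hom.comp (f.appLE _ _ _).hom
      rw [← CommRingCat.hom_comp, Scheme.Hom.appLE_map])
  exact h1map_comp_apply Γ(Y, c.1.2) Γ(Y, d.1.2) Γ(Y, e.1.2) Γ(X, c.1.1) Γ(X, d.1.1) Γ(X, e.1.1) m

end sys3
end Groth.Agent.Helper18NL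

namespace Groth.Agent.Helper18NL
open Groth.Agent.Lib.Helper6 Groth.Agent.Helper18CG

section sys4
variable {X Y : Scheme.{u}} {f : X ⟶ Y}

theorem Idx.inter (c d : Idx f) (x : X) (hxc : x ∈ c.1.1) (hxd : x ∈ d.1.1) :
    ∃ e : Idx f, x ∈ e.1.1 ∧ c.Basic e ∧ d.Basic e := by
  have hfx : f x ∈ c.1.2 ⊓ d.1.2 := ⟨c.2.2.2 hxc, d.2.2.2 hxd⟩
  obtain ⟨V'', hV'', hxV'', hV''le⟩ := exists_isAffineOpen_mem_and_subset (x := f x) hfx
  have hxO : x ∈ c.1.1 ⊓ d.1.1 ⊓ f ⁻¹ᵁ V'' := ⟨⟨hxc, hxd⟩, hxV''⟩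
  obtain ⟨g₁, hg₁, hxg₁⟩ := c.2.1.exists_basicOpen_le (V := c.1.1 ⊓ d.1.1 ⊓ f ⁻¹ᵁ V'') ⟨x, hxO⟩ hxc
  have hD₁ : IsAffineOpen (X.basicOpen g₁) := c.2.1.basicOpen g₁
  obtain ⟨a₁, b, hab, hxa⟩ := exists_basicOpen_le_affine_inter hD₁ d.2.1 x
    ⟨hxg₁, hxd⟩
  have hle₁ : X.basicOpen a₁ ≤ X.basicOpen g₁ := X.basicOpen_le a₁
  refine ⟨⟨⟨X.basicOpen a₁, V''⟩, hD₁.basicOpen a₁, hV'', fun y hy => (hg₁ (hle₁ hy)).2⟩, hxa, ?_, ?_⟩
  · refine ⟨?_, hV''le.trans inf_le_left⟩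
    obtain ⟨g'', hg''⟩ := c.2.1.basicOpen_basicOpen_is_basicOpen g₁ a₁
    exact ⟨g'', hg''.symm⟩
  · exact ⟨⟨b, hab⟩, hV''le.trans inf_le_right⟩

end sys4
end Groth.Agent.Helper18NL

namespace Groth.Agent.Helper18NL
open Groth.Agent.Lib.Helper6 Groth.Agent.Helper18CG

section sys5
variable {X Y : Scheme.{u}} {f : X ⟶ Y}

theorem Idx.loc_of {c d : Idx f} (h : c.Basic d) (g : Γ(X, c.1.1)) (hg : d.1.1 = X.basicOpen g) :
    (∀ m' : d.M, ∃ (n : ℕ) (m : c.M), resf h.le g ^ n • m' = Idx.ρ h m) ∧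
    (∀ m : c.M, Idx.ρ h m = 0 → ∃ n : ℕ, g ^ n • m = 0) := by
  obtain ⟨⟨Ud, Vd⟩, hUd, hVd, ed⟩ := d
  simp only at hg
  subst hg
  letI : Algebra Γ(Y, c.1.2) Γ(X, c.1.1) := (f.appLE c.1.2 c.1.1 c.2.2.2).hom.toAlgebra
  letI : Algebra Γ(Y, Vd) Γ(X, X.basicOpen g) := (f.appLE Vd (X.basicOpen g) ed).hom.toAlgebra
  letI : Algebra Γ(Y, c.1.2) Γ(X, X.basicOpen g) :=
    (f.appLE c.1.2 (X.basicOpen g) (h.le.trans c.2.2.2)).hom.toAlgebra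
  letI : Algebra Γ(X, c.1.1) Γ(X, X.basicOpen g) := (X.presheaf.map (homOfLE h.le).op).hom.toAlgebra
  letI : Algebra Γ(Y, c.1.2) Γ(Y, Vd) := (Y.presheaf.map (homOfLE h.2).op).hom.toAlgebra
  haveI : IsScalarTower Γ(Y, c.1.2) Γ(Y, Vd) Γ(X, X.basicOpen g) :=
    IsScalarTower.of_algebraMap_eq' (by
      change (f.appLE _ _ _).hom = (f.appLE _ _ _).hom.comp (Y.presheaf.map _).hom
      rw [← CommRingCat.hom_comp, Scheme.Hom.map_appLE])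
  haveI : IsScalarTower Γ(Y, c.1.2) Γ(X, c.1.1) Γ(X, X.basicOpen g) :=
    IsScalarTower.of_algebraMap_eq' (by
      change (f.appLE _ _ _).hom = (X.presheaf.map _).hom.comp (f.appLE _ _ _).hom
      rw [← CommRingCat.hom_comp, Scheme.Hom.appLE_map])
  haveI : IsLocalization.Away g Γ(X, X.basicOpen g) := c.2.1.isLocalization_basicOpen g
  haveI : Algebra.FormallyEtale Γ(Y, c.1.2) Γ(Y, Vd) := formallyEtale_res c.2.2.1 hVd h.2
  have hfac : ∀ m : Algebra.H1Cotangent Γ(Y, c.1.2) Γ(X, c.1.1),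
      Algebra.H1Cotangent.map Γ(Y, c.1.2) Γ(Y, Vd) Γ(X, c.1.1) Γ(X, X.basicOpen g) m =
      Algebra.H1Cotangent.map Γ(Y, c.1.2) Γ(Y, Vd) Γ(X, X.basicOpen g) Γ(X, X.basicOpen g)
        (Algebra.H1Cotangent.map Γ(Y, c.1.2) Γ(Y, c.1.2) Γ(X, c.1.1) Γ(X, X.basicOpen g) m) :=
    fun m => (h1map_comp_apply Γ(Y, c.1.2) Γ(Y, c.1.2) Γ(Y, Vd) Γ(X, c.1.1) Γ(X, X.basicOpen g)
      Γ(X, X.basicOpen g) m).symm
  have hbij := h1map_bijective_of_formallyEtale Γ(Y, c.1.2) Γ(Y, Vd) Γ(X, X.basicOpen g)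
  constructor
  · intro m'
    obtain ⟨m₁, hm₁⟩ := hbij.2 m'
    obtain ⟨n, m, hnm⟩ := h1map_loc_surj Γ(Y, c.1.2) Γ(X, c.1.1) Γ(X, X.basicOpen g) g m₁
    refine ⟨n, m, ?_⟩
    change algebraMap Γ(X, c.1.1) Γ(X, X.basicOpen g) g ^ n • _ =
      Algebra.H1Cotangent.map Γ(Y, c.1.2) Γ(Y, Vd) Γ(X, c.1.1) Γ(X, X.basicOpen g) m
    rw [hfac, ← hnm, map_smul]
    exact congrArg _ hm₁.symm
  · intro m hm
    have hm' : Algebra.H1Cotangent.map Γ(Y, c.1.2) Γ(Y, Vd) Γ(X, c.1.1) Γ(X, X.basicOpen g) m = 0 :=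
      hm
    have hm'' := (hfac m).symm.trans hm'
    have h0 : Algebra.H1Cotangent.map Γ(Y, c.1.2) Γ(Y, c.1.2) Γ(X, c.1.1) Γ(X, X.basicOpen g) m = 0 :=
      hbij.1 (hm''.trans (map_zero _).symm)
    exact h1map_loc_inj Γ(Y, c.1.2) Γ(X, c.1.1) Γ(X, X.basicOpen g) g m h0

theorem Idx.loc {c d : Idx f} (h : c.Basic d) : ∃ g : Γ(X, c.1.1), d.1.1 = X.basicOpen g ∧
    (∀ m' : d.M, ∃ (n : ℕ) (m : c.M), resf h.le g ^ n • m' = Idx.ρ h m) ∧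
    (∀ m : c.M, Idx.ρ h m = 0 → ∃ n : ℕ, g ^ n • m = 0) := by
  obtain ⟨g, hg⟩ := h.1
  exact ⟨g, hg, Idx.loc_of h g hg⟩

end sys5
end Groth.Agent.Helper18NL
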