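import Mathlib
import Groth.Prelude.Def_SheafNL
import Groth.Agent.Lib.Helper18NL6

set_option autoImplicit false
set_option linter.style.haveILetI false
universe u
open CategoryTheory Limits AlgebraicGeometry TopologicalSpace Opposite

namespace Groth.Agent.Helper18NL
open Groth.Agent.Lib.Helper6 Groth.Agent.Helper18CG

noncomputable section

section sysdef
variable {X Y : Scheme.{u}} (f : X ⟶ Y)

/-- the chart system of `H^{-1}(NL)` modules. -/
def sys : ChartSys X where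
  ι := Idx f
  U c := c.1.1
  hU c := c.2.1
  M c := c.M
  Basic := Idx.Basic
  le h := h.le
  ρ h := Idx.ρ h
  ρ_smul h b m := Idx.ρ_smul h b m
  trans := Idx.Basic.trans
  ρ_comp := Idx.ρ_comp
  inter := Idx.inter
  loc h := Idx.loc h

end sysdef

section comp
variable {X Y : Scheme.{u}} {f : X ⟶ Y}

theorem chartRes_comp {c d e : Idx f} (hU₁ : d.1.1 ≤ c.1.1) (hV₁ : d.1.2 ≤ c.1.2)
    (hU₂ : e.1.1 ≤ d.1.1) (hV₂ : e.1.2 ≤ d.1.2) (m : c.M) :
    NLCx.chartRes (U := d.Ua) (U' := e.Ua) (V := d.Va) (V' := e.Va) d.e e.e hU₂ hV₂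
      (NLCx.chartRes (U := c.Ua) (U' := d.Ua) (V := c.Va) (V' := d.Va) c.e d.e hU₁ hV₁ m) =
    NLCx.chartRes (U := c.Ua) (U' := e.Ua) (V := c.Va) (V' := e.Va) c.e e.e
      (hU₂.trans hU₁) (hV₂.trans hV₁) m := by
  have hU₃ := hU₂.trans hU₁
  have hV₃ := hV₂.trans hV₁
  letI : Algebra Γ(Y, c.1.2) Γ(X, c.1.1) := (f.appLE c.1.2 c.1.1 c.2.2.2).hom.toAlgebra
  letI : Algebra Γ(Y, d.1.2) Γ(X, d.1.1) := (f.appLE d.1.2 d.1.1 d.2.2.2).hom.toAlgebra
  letI : Algebra Γ(Y, e.1.2) Γ(X, e.1.1) := (f.appLE e.1.2 e.1.1 e.2.2.2).hom.toAlgebra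
  letI : Algebra Γ(Y, c.1.2) Γ(X, d.1.1) := (f.appLE c.1.2 d.1.1 (hU₁.trans c.2.2.2)).hom.toAlgebra
  letI : Algebra Γ(Y, d.1.2) Γ(X, e.1.1) := (f.appLE d.1.2 e.1.1 (hU₂.trans d.2.2.2)).hom.toAlgebra
  letI : Algebra Γ(Y, c.1.2) Γ(X, e.1.1) := (f.appLE c.1.2 e.1.1 (hU₃.trans c.2.2.2)).hom.toAlgebra
  letI : Algebra Γ(X, c.1.1) Γ(X, d.1.1) := (X.presheaf.map (homOfLE hU₁).op).hom.toAlgebra
  letI : Algebra Γ(X, d.1.1) Γ(X, e.1.1) := (X.presheaf.map (homOfLE hU₂).op).hom.toAlgebra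
  letI : Algebra Γ(X, c.1.1) Γ(X, e.1.1) := (X.presheaf.map (homOfLE hU₃).op).hom.toAlgebra
  letI : Algebra Γ(Y, c.1.2) Γ(Y, d.1.2) := (Y.presheaf.map (homOfLE hV₁).op).hom.toAlgebra
  letI : Algebra Γ(Y, d.1.2) Γ(Y, e.1.2) := (Y.presheaf.map (homOfLE hV₂).op).hom.toAlgebra
  letI : Algebra Γ(Y, c.1.2) Γ(Y, e.1.2) := (Y.presheaf.map (homOfLE hV₃).op).hom.toAlgebra
  haveI : IsScalarTower Γ(Y, c.1.2) Γ(Y, d.1.2) Γ(Y, e.1.2) :=
    IsScalarTower.of_algebraMap_eq' (by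
      change (Y.presheaf.map _).hom = (Y.presheaf.map _).hom.comp (Y.presheaf.map _).hom
      rw [← CommRingCat.hom_comp, ← Functor.map_comp]
      rfl)
  haveI : IsScalarTower Γ(X, c.1.1) Γ(X, d.1.1) Γ(X, e.1.1) :=
    IsScalarTower.of_algebraMap_eq' (by
      change (X.presheaf.map _).hom = (X.presheaf.map _).hom.comp (X.presheaf.map _).hom
      rw [← CommRingCat.hom_comp, ← Functor.map_comp]
      rfl)
  haveI : IsScalarTower Γ(Y, c.1.2) Γ(Y, d.1.2) Γ(X, d.1.1) :=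
    IsScalarTower.of_algebraMap_eq' (by
      change (f.appLE _ _ _).hom = (f.appLE _ _ _).hom.comp (Y.presheaf.map _).hom
      rw [← CommRingCat.hom_comp, Scheme.Hom.map_appLE])
  haveI : IsScalarTower Γ(Y, c.1.2) Γ(X, c.1.1) Γ(X, d.1.1) :=
    IsScalarTower.of_algebraMap_eq' (by
      change (f.appLE _ _ _).hom = (X.presheaf.map _).hom.comp (f.appLE _ _ _).hom
      rw [← CommRingCat.hom_comp, Scheme.Hom.appLE_map])
  haveI : IsScalarTower Γ(Y, d.1.2) Γ(Y, e.1.2) Γ(X, e.1.1) :=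
    IsScalarTower.of_algebraMap_eq' (by
      change (f.appLE _ _ _).hom = (f.appLE _ _ _).hom.comp (Y.presheaf.map _).hom
      rw [← CommRingCat.hom_comp, Scheme.Hom.map_appLE])
  haveI : IsScalarTower Γ(Y, d.1.2) Γ(X, d.1.1) Γ(X, e.1.1) :=
    IsScalarTower.of_algebraMap_eq' (by
      change (f.appLE _ _ _).hom = (X.presheaf.map _).hom.comp (f.appLE _ _ _).hom
      rw [← CommRingCat.hom_comp, Scheme.Hom.appLE_map])
  haveI : IsScalarTower Γ(Y, c.1.2) Γ(Y, e.1.2) Γ(X, e.1.1) :=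
    IsScalarTower.of_algebraMap_eq' (by
      change (f.appLE _ _ _).hom = (f.appLE _ _ _).hom.comp (Y.presheaf.map _).hom
      rw [← CommRingCat.hom_comp, Scheme.Hom.map_appLE])
  haveI : IsScalarTower Γ(Y, c.1.2) Γ(X, c.1.1) Γ(X, e.1.1) :=
    IsScalarTower.of_algebraMap_eq' (by
      change (f.appLE _ _ _).hom = (X.presheaf.map _).hom.comp (f.appLE _ _ _).hom
      rw [← CommRingCat.hom_comp, Scheme.Hom.appLE_map])
  exact h1map_comp_apply Γ(Y, c.1.2) Γ(Y, d.1.2) Γ(Y, e.1.2) Γ(X, c.1.1) Γ(X, d.1.1) Γ(X, e.1.1) m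

end comp

section exist
variable {X Y : Scheme.{u}} (f : X ⟶ Y)

theorem exists_h1Sheaf : ∃ F : X.Modules, Nonempty (NLCx.H1Sheaf f F) := by
  obtain ⟨L, iso, hsmul, hres⟩ := (sys f).exists_module
  let ix : ∀ (U : X.affineOpens) (V : Y.affineOpens) (_ : (U : X.Opens) ≤ f ⁻¹ᵁ (V : Y.Opens)), Idx f :=
    fun U V e => ⟨(U.1, V.1), U.2, V.2, e⟩
  refine ⟨L, ⟨{ iso := fun U V e => iso (ix U V e), map_smul := ?_, map_res := ?_ }⟩⟩
  · intro U V e a m
    exact hsmul (ix U V e) a m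
  · intro U U' V V' e e' hU hV s
    let c : (sys f).ι := ix U V e
    let c' : (sys f).ι := ix U' V' e'
    have key : ∀ t₁ t₂ : Γ(L, (sys f).U c'),
        (∀ x ∈ (sys f).U c', ∃ (D : X.Opens) (hD : D ≤ (sys f).U c'), x ∈ D ∧
          res L hD t₁ = res L hD t₂) → t₁ = t₂ := by
      intro t₁ t₂ h
      choose D hD hxD hres' using h
      refine (modSheaf L).eq_of_locally_eq' (fun i : ((sys f).U c' : X.Opens) => D i.1 i.2)
        ((sys f).U c')
        (fun i => homOfLE (hD i.1 i.2)) ?_ t₁ t₂ (fun i => hres' i.1 i.2)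
      intro x hx
      exact Opens.mem_iSup.2 ⟨⟨x, hx⟩, hxD x hx⟩
    have main : (L.val.map (homOfLE hU).op s : Γ(L, (sys f).U c')) =
        (iso c').symm (NLCx.chartRes e e' hU hV (iso c s)) := by
      refine key _ _ fun x hx => ?_
      obtain ⟨d, hxd, hcd, hc'd⟩ := (sys f).inter c c' x (hU hx) hx
      refine ⟨(sys f).U d, (sys f).le hc'd, hxd, ?_⟩
      apply (iso d).injective
      have h1 := hres c' d hc'd ((iso c').symm (NLCx.chartRes e e' hU hV (iso c s)))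
      have h1' : (iso c') ((iso c').symm (NLCx.chartRes e e' hU hV (iso c s))) =
          NLCx.chartRes e e' hU hV (iso c s) := (iso c').apply_symm_apply _
      have h2 := hres c d hcd s
      have h3 : res L ((sys f).le hc'd) (L.val.map (homOfLE hU).op s) =
          res L ((sys f).le hcd) s := res_res _ _ _ _
      refine Eq.trans (congrArg (iso d) h3) (h2.trans (Eq.trans ?_ h1.symm))
      refine Eq.trans ?_ (congrArg ((sys f).ρ hc'd) h1'.symm)
      exact (chartRes_comp (c := c) (d := c') (e := d) hU hV hc'd.le hc'd.2 (iso c s)).symm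
    exact (congrArg (iso c') main).trans ((iso c').apply_symm_apply _)

end exist
end
end Groth.Agent.Helper18NL

namespace Groth.Agent.Helper18NL
open Groth.Agent.Lib.Helper6 Groth.Agent.Helper18CG Groth.Agent.Lib.Helper2.Push

noncomputable section

section qcoh
variable {X Y : Scheme.{u}} (f : X ⟶ Y)

theorem isOpenCover_idx : IsOpenCover (fun i : Idx f => i.1.1) := by
  rw [IsOpenCover, eq_top_iff]
  intro x _
  obtain ⟨_, ⟨V, hV, rfl⟩, hxV, -⟩ :=
    Y.isBasis_affineOpens.exists_subset_of_mem_open (Set.mem_univ (f x)) isOpen_univ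
  have hx : x ∈ f ⁻¹ᵁ V := hxV
  obtain ⟨_, ⟨U, hU, rfl⟩, hxU, hUV⟩ :=
    X.isBasis_affineOpens.exists_subset_of_mem_open hx (f ⁻¹ᵁ V).2
  exact Opens.mem_iSup.mpr ⟨⟨(U, V), hU, hV, hUV⟩, hxU⟩

theorem isLocOn_of_h1Sheaf (F : X.Modules) (h : NLCx.H1Sheaf f F) (c : Idx f) :
    IsLocOn F c.1.1 := by
  constructor
  · intro g s
    let d : Idx f := ⟨(X.basicOpen g, c.1.2), c.2.1.basicOpen g, c.2.2.1,
      (X.basicOpen_le g).trans c.2.2.2⟩
    have hcd : c.Basic d := ⟨⟨g, rfl⟩, le_rfl⟩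
    obtain ⟨n, m, hnm⟩ := (Idx.loc_of hcd g rfl).1 (h.iso d.Ua d.Va d.e s)
    refine ⟨n, (h.iso c.Ua c.Va c.e).symm m, ?_⟩
    apply (h.iso d.Ua d.Va d.e).injective
    have h1 := h.map_res (U := c.Ua) (U' := d.Ua) (V := c.Va) (V' := d.Va) c.e d.e hcd.le hcd.2
      ((h.iso c.Ua c.Va c.e).symm m)
    have h2 : (h.iso c.Ua c.Va c.e) ((h.iso c.Ua c.Va c.e).symm m) = m :=
      (h.iso c.Ua c.Va c.e).apply_symm_apply m
    have h3 := h.map_smul d.Ua d.Va d.e (resf hcd.le g ^ n) s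
    refine h1.trans (Eq.trans ?_ h3.symm)
    refine Eq.trans (congrArg (Idx.ρ hcd) h2) hnm.symm
  · intro g t ht
    let d : Idx f := ⟨(X.basicOpen g, c.1.2), c.2.1.basicOpen g, c.2.2.1,
      (X.basicOpen_le g).trans c.2.2.2⟩
    have hcd : c.Basic d := ⟨⟨g, rfl⟩, le_rfl⟩
    have h1 := h.map_res (U := c.Ua) (U' := d.Ua) (V := c.Va) (V' := d.Va) c.e d.e hcd.le hcd.2 t
    have h0 : Idx.ρ hcd (h.iso c.Ua c.Va c.e t) = 0 := by
      refine h1.symm.trans ?_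
      refine (congrArg (h.iso d.Ua d.Va d.e) ht).trans (map_zero _)
    obtain ⟨n, hn⟩ := (Idx.loc_of hcd g rfl).2 _ h0
    refine ⟨n, ?_⟩
    apply (h.iso c.Ua c.Va c.e).injective
    refine (h.map_smul c.Ua c.Va c.e (g ^ n) t).trans (hn.trans (map_zero _).symm)

theorem isQCoh_of_h1Sheaf (F : X.Modules) (h : NLCx.H1Sheaf f F) : F.IsQuasicoherent :=
  Groth.Agent.Lib.Helper23.QCohLocal.isQuasicoherent_of_affine_cover F (fun i : Idx f => i.1.1)
    (isOpenCover_idx f) (fun i => i.2.1)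
    (fun i => Groth.Agent.Lib.Helper23.QCohLocal.isQuasicoherent_restrict_fromSpec_of_isLocOn
      i.2.1 F (isLocOn_of_h1Sheaf f F h i))

end qcoh
end
end Groth.Agent.Helper18NL
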