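import Mathlib

set_option autoImplicit false
set_option linter.unusedSectionVars false
universe u

namespace Groth.Agent.Lib.Helper18NormalSepClosed
open Polynomial IsLocalRing

section
variable {A : Type u} [CommRing A] [IsDomain A] [IsIntegrallyClosed A]
  [IsSepClosed (FractionRing A)]

/-- a monic irreducible polynomial over `A` is linear or has zero derivative -/
theorem key (G : A[X]) (hG : G.Monic) (hirr : Irreducible G) :
    G.natDegree = 1 ∨ derivative G = 0 := by
  have hK : Irreducible (G.map (algebraMap A (FractionRing A))) :=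
    (hG.irreducible_iff_irreducible_map_fraction_map).1 hirr
  by_cases hsep : (G.map (algebraMap A (FractionRing A))).Separable
  · left
    have h1 := IsSepClosed.degree_eq_one_of_irreducible (FractionRing A) hK hsep
    rw [hG.degree_map] at h1
    exact natDegree_eq_of_degree_eq_some h1
  · right
    rw [separable_iff_derivative_ne_zero hK, not_not, derivative_map] at hsep
    exact (Polynomial.map_eq_zero_iff (IsFractionRing.injective A (FractionRing A))).1 hsep

theorem monic_natDegree_one (G : A[X]) (hG : G.Monic) (h1 : G.natDegree = 1) :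
    G = X + C (G.coeff 0) := by
  have := hG.coeff_natDegree
  rw [h1] at this
  rw [eq_X_add_C_of_natDegree_le_one (p := G) (by omega), this, C_1, one_mul]
  simp

/-- split a non-irreducible monic polynomial -/
theorem exists_split (F : A[X]) (hF : F.Monic) (h1 : F ≠ 1) (hirr : ¬ Irreducible F) :
    ∃ G H : A[X], G.Monic ∧ H.Monic ∧ G * H = F ∧ G.natDegree ≠ 0 ∧ H.natDegree ≠ 0 := by
  rw [hF.irreducible_iff_natDegree] at hirr
  push Not at hirr
  obtain ⟨G, H, hG, hH, hGH, h2, h3⟩ := hirr h1
  exact ⟨G, H, hG, hH, hGH, h2, h3⟩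

theorem exists_irreducible_factor : ∀ (n : ℕ) (F : A[X]), F.natDegree = n → F.Monic → 1 ≤ n →
    ∃ G : A[X], G.Monic ∧ Irreducible G ∧ G ∣ F := by
  intro n
  induction n using Nat.strong_induction_on with
  | _ n ih =>
  intro F hn hF h1
  by_cases hirr : Irreducible F
  · exact ⟨F, hF, hirr, dvd_rfl⟩
  · have hF1 : F ≠ 1 := by
      rintro rfl
      simp at hn; omega
    obtain ⟨G, H, hG, hH, hGH, hG0, hH0⟩ := exists_split F hF hF1 hirr
    have hdeg : F.natDegree = G.natDegree + H.natDegree := by
      rw [← hGH, hG.natDegree_mul hH]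
    obtain ⟨G', hG', hG'irr, hG'G⟩ := ih G.natDegree (by omega) G rfl hG (by omega)
    exact ⟨G', hG', hG'irr, hG'G.trans ⟨H, hGH.symm⟩⟩

end

section
variable {A : Type u} [CommRing A] [IsDomain A] [IsLocalRing A] [IsIntegrallyClosed A]
  [IsSepClosed (FractionRing A)]

theorem hensel_aux : ∀ (n : ℕ) (F : A[X]), F.natDegree = n → F.Monic → ∀ a₀ : A,
    F.eval a₀ ∈ maximalIdeal A → IsUnit ((derivative F).eval a₀) →
    ∃ a : A, F.IsRoot a ∧ a - a₀ ∈ maximalIdeal A := by
  intro n
  induction n using Nat.strong_induction_on with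
  | _ n ih =>
  intro F hn hF a₀ h₁ h₂
  have hF1 : F ≠ 1 := by
    rintro rfl
    simp at h₂
  by_cases hirr : Irreducible F
  · rcases key F hF hirr with hd | hd
    · refine ⟨-(F.coeff 0), ?_, ?_⟩
      · rw [IsRoot.def, monic_natDegree_one F hF hd]; simp
      · have : F.eval a₀ = a₀ + F.coeff 0 := by
          conv_lhs => rw [monic_natDegree_one F hF hd]
          simp
        rw [this] at h₁
        have := (maximalIdeal A).neg_mem h₁
        convert this using 1; ring
    · rw [hd] at h₂; simp at h₂
  · obtain ⟨G, H, hG, hH, hGH, hG0, hH0⟩ := exists_split F hF hF1 hirr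
    have hdeg : F.natDegree = G.natDegree + H.natDegree := by
      rw [← hGH, hG.natDegree_mul hH]
    have hev : F.eval a₀ = G.eval a₀ * H.eval a₀ := by rw [← hGH, eval_mul]
    have hder : (derivative F).eval a₀ =
        (derivative G).eval a₀ * H.eval a₀ + G.eval a₀ * (derivative H).eval a₀ := by
      rw [← hGH, derivative_mul, eval_add, eval_mul, eval_mul]
    rw [hev] at h₁
    rw [hder] at h₂
    have hroot : ∀ (G H : A[X]), G * H = F → ∀ a, G.IsRoot a → F.IsRoot a := by
      intro G H hGH a ha
      rw [IsRoot.def] at ha ⊢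
      rw [← hGH, eval_mul, ha, zero_mul]
    rcases (Ideal.IsPrime.mem_or_mem inferInstance h₁ :
        G.eval a₀ ∈ maximalIdeal A ∨ H.eval a₀ ∈ maximalIdeal A) with hm | hm
    · -- G has the simple root
      have hu : IsUnit ((derivative G).eval a₀) := by
        by_contra hnu
        have h3 : (derivative G).eval a₀ ∈ maximalIdeal A := (mem_maximalIdeal _).2 hnu
        have : (derivative G).eval a₀ * H.eval a₀ + G.eval a₀ * (derivative H).eval a₀
            ∈ maximalIdeal A :=
          Ideal.add_mem _ (Ideal.mul_mem_right _ _ h3) (Ideal.mul_mem_right _ _ hm)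
        exact (mem_maximalIdeal _).1 this h₂
      obtain ⟨a, ha, haa⟩ := ih G.natDegree (by omega) G rfl hG a₀ hm hu
      exact ⟨a, hroot G H hGH a ha, haa⟩
    · have hu : IsUnit ((derivative H).eval a₀) := by
        by_contra hnu
        have h3 : (derivative H).eval a₀ ∈ maximalIdeal A := (mem_maximalIdeal _).2 hnu
        have : (derivative G).eval a₀ * H.eval a₀ + G.eval a₀ * (derivative H).eval a₀
            ∈ maximalIdeal A :=
          Ideal.add_mem _ (Ideal.mul_mem_left _ _ hm) (Ideal.mul_mem_left _ _ h3)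
        exact (mem_maximalIdeal _).1 this h₂
      obtain ⟨a, ha, haa⟩ := ih H.natDegree (by omega) H rfl hH a₀ hm hu
      exact ⟨a, hroot H G (by rw [mul_comm, hGH]) a ha, haa⟩

theorem sepClosed_residue : IsSepClosed (ResidueField A) := by
  refine IsSepClosed.of_exists_root _ ?_
  intro g hg hirr hsep
  have hlift : g ∈ lifts (residue A) :=
    (Polynomial.mem_lifts _).2 (Polynomial.map_surjective _ residue_surjective g)
  obtain ⟨F, hFmap, hFdeg, hFmonic⟩ := lifts_and_natDegree_eq_and_monic hlift hg
  have hdeg : 1 ≤ F.natDegree := by rw [hFdeg]; exact hirr.natDegree_pos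
  obtain ⟨G, hG, hGirr, hGF⟩ := exists_irreducible_factor _ F rfl hFmonic hdeg
  have hGg : G.map (residue A) ∣ g := hFmap ▸ Polynomial.map_dvd _ hGF
  obtain ⟨h, hh⟩ := hGg
  rcases key G hG hGirr with hd | hd
  · refine ⟨residue A (-(G.coeff 0)), ?_⟩
    have h0 : (G.map (residue A)).eval (residue A (-(G.coeff 0))) = 0 := by
      rw [eval_map, eval₂_hom]
      have : G.eval (-(G.coeff 0)) = 0 := by
        conv_lhs => rw [monic_natDegree_one G hG hd]
        simp
      rw [this, map_zero]
    rw [hh, eval_mul, h0, zero_mul]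
  · exfalso
    have hder : derivative g = G.map (residue A) * derivative h := by
      rw [hh, derivative_mul, derivative_map, hd, Polynomial.map_zero, zero_mul, zero_add]
    have hunit : IsUnit (G.map (residue A)) :=
      IsCoprime.isUnit_of_dvd' hsep ⟨h, hh⟩ ⟨derivative h, hder⟩
    have hGm : (G.map (residue A)).Monic := hG.map _
    have h1 : G.map (residue A) = 1 := hGm.eq_one_of_isUnit hunit
    have h2 : (G.map (residue A)).natDegree = G.natDegree := hG.natDegree_map _
    rw [h1, natDegree_one] at h2
    have h3 : G = 1 := hG.natDegree_eq_zero.1 h2.symm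
    exact hGirr.ne_one h3

theorem main (A : Type u) [CommRing A] [IsDomain A] [IsLocalRing A] [IsIntegrallyClosed A]
    [IsSepClosed (FractionRing A)] :
    HenselianLocalRing A ∧ IsSepClosed (IsLocalRing.ResidueField A) :=
  ⟨⟨fun F hF a₀ h₁ h₂ => hensel_aux _ F rfl hF a₀ h₁ h₂⟩, sepClosed_residue⟩

end

end Groth.Agent.Lib.Helper18NormalSepClosed
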