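import Mathlib

set_option autoImplicit false
set_option linter.unusedSectionVars false
universe u

namespace Groth.Agent.Lib.Helper18NormalSepClosed2
open Polynomial IsLocalRing

theorem monic_natDegree_one' {A : Type u} [CommRing A] (G : A[X]) (hG : G.Monic)
    (h1 : G.natDegree = 1) : G = X + C (G.coeff 0) := by
  have := hG.coeff_natDegree
  rw [h1] at this
  rw [eq_X_add_C_of_natDegree_le_one (p := G) (by omega), this, C_1, one_mul]
  simp

theorem exists_split' {A : Type u} [CommRing A] [IsDomain A] (F : A[X]) (hF : F.Monic)
    (h1 : F ≠ 1) (hirr : ¬ Irreducible F) :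
    ∃ G H : A[X], G.Monic ∧ H.Monic ∧ G * H = F ∧ G.natDegree ≠ 0 ∧ H.natDegree ≠ 0 := by
  rw [hF.irreducible_iff_natDegree] at hirr
  push Not at hirr
  obtain ⟨G, H, hG, hH, hGH, h2, h3⟩ := hirr h1
  exact ⟨G, H, hG, hH, hGH, h2, h3⟩

section
variable {A : Type u} [CommRing A] [IsDomain A] [IsIntegrallyClosed A]
  (K : Type u) [Field K] [Algebra A K] [IsFractionRing A K] [IsSepClosed K]
include K

/-- a monic irreducible polynomial over `A` is linear or has zero derivative -/
theorem key' (G : A[X]) (hG : G.Monic) (hirr : Irreducible G) :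
    G.natDegree = 1 ∨ derivative G = 0 := by
  have hK : Irreducible (G.map (algebraMap A K)) :=
    (hG.irreducible_iff_irreducible_map_fraction_map).1 hirr
  by_cases hsep : (G.map (algebraMap A K)).Separable
  · left
    have h1 := IsSepClosed.degree_eq_one_of_irreducible K hK hsep
    rw [hG.degree_map] at h1
    exact natDegree_eq_of_degree_eq_some h1
  · right
    rw [separable_iff_derivative_ne_zero hK, not_not, derivative_map] at hsep
    exact (Polynomial.map_eq_zero_iff (IsFractionRing.injective A K)).1 hsep

/-- a monic polynomial with nonzero derivative has a root in `A`. -/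
theorem exists_root_of_derivative_ne_zero : ∀ (n : ℕ) (F : A[X]), F.natDegree = n → F.Monic →
    derivative F ≠ 0 → ∃ a : A, F.IsRoot a := by
  intro n
  induction n using Nat.strong_induction_on with
  | _ n ih =>
  intro F hn hF hd
  have hF1 : F ≠ 1 := by
    rintro rfl
    simp at hd
  by_cases hirr : Irreducible F
  · rcases key' K F hF hirr with h1 | h1
    · refine ⟨-(F.coeff 0), ?_⟩
      rw [IsRoot.def, monic_natDegree_one' F hF h1]; simp
    · exact absurd h1 hd
  · obtain ⟨G, H, hG, hH, hGH, hG0, hH0⟩ := exists_split' F hF hF1 hirr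
    have hdeg : F.natDegree = G.natDegree + H.natDegree := by
      rw [← hGH, hG.natDegree_mul hH]
    have hder : derivative F = derivative G * H + G * derivative H := by
      rw [← hGH, derivative_mul]
    have hor : derivative G ≠ 0 ∨ derivative H ≠ 0 := by
      by_contra hcon
      push Not at hcon
      rw [hder, hcon.1, hcon.2, zero_mul, mul_zero, add_zero] at hd
      exact hd rfl
    rcases hor with h | h
    · obtain ⟨a, ha⟩ := ih G.natDegree (by omega) G rfl hG h
      refine ⟨a, ?_⟩
      rw [IsRoot.def] at ha ⊢
      rw [← hGH, eval_mul, ha, zero_mul]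
    · obtain ⟨a, ha⟩ := ih H.natDegree (by omega) H rfl hH h
      refine ⟨a, ?_⟩
      rw [IsRoot.def] at ha ⊢
      rw [← hGH, eval_mul, ha, mul_zero]

/-- local version: residue field algebraically closed if the maximal ideal is nonzero -/
theorem isAlgClosed_residue [IsLocalRing A] (t : A) (ht : t ∈ maximalIdeal A) (ht0 : t ≠ 0) :
    IsAlgClosed (ResidueField A) := by
  refine IsAlgClosed.of_exists_root _ ?_
  intro g hg hirr
  have hlift : g ∈ lifts (residue A) :=
    (Polynomial.mem_lifts _).2 (Polynomial.map_surjective _ residue_surjective g)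
  obtain ⟨F, hFmap, hFdeg, hFmonic⟩ := lifts_and_natDegree_eq_and_monic hlift hg
  have hres : residue A t = 0 := (residue_eq_zero_iff t).2 ht
  by_cases hd : derivative F = 0
  · -- perturb
    by_cases h1 : g.natDegree = 1
    · refine ⟨-(g.coeff 0), ?_⟩
      have hg1 : g = X + C (g.coeff 0) := by
        have := hg.coeff_natDegree
        rw [h1] at this
        rw [eq_X_add_C_of_natDegree_le_one (p := g) (by omega), this, C_1, one_mul]
        simp
      rw [hg1]; simp
    · have h2 : 2 ≤ F.natDegree := by
        have := hirr.natDegree_pos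
        omega
      have hF₁ : (F + C t * X).Monic := by
        refine hFmonic.add_of_left ?_
        refine lt_of_le_of_lt (degree_C_mul_X_le t) ?_
        rw [degree_eq_natDegree hFmonic.ne_zero]
        exact_mod_cast (by omega : 1 < F.natDegree)
      have hd₁ : derivative (F + C t * X) ≠ 0 := by
        rw [derivative_add, hd, zero_add, derivative_C_mul, derivative_X, mul_one]
        simpa using ht0
      obtain ⟨a, ha⟩ := exists_root_of_derivative_ne_zero K _ _ rfl hF₁ hd₁
      refine ⟨residue A a, ?_⟩
      have hmap : (F + C t * X).map (residue A) = g := by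
        rw [Polynomial.map_add, hFmap, Polynomial.map_mul, map_C, hres, C_0, zero_mul, add_zero]
      rw [← hmap, eval_map, eval₂_hom]
      rw [IsRoot.def] at ha
      rw [ha, map_zero]
  · obtain ⟨a, ha⟩ := exists_root_of_derivative_ne_zero K _ F rfl hFmonic hd
    refine ⟨residue A a, ?_⟩
    rw [← hFmap, eval_map, eval₂_hom]
    rw [IsRoot.def] at ha
    rw [ha, map_zero]

end

theorem main (A : Type u) [CommRing A] [IsDomain A] [IsIntegrallyClosed A]
    [IsSepClosed (FractionRing A)]
    (p : Ideal A) [p.IsPrime] (hp : p ≠ ⊥) : IsAlgClosed p.ResidueField := by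
  obtain ⟨t, htp, ht0⟩ := Submodule.exists_mem_ne_zero_of_ne_bot hp
  have : IsIntegrallyClosed (Localization.AtPrime p) :=
    isIntegrallyClosed_of_isLocalization _ p.primeCompl p.primeCompl_le_nonZeroDivisors
  refine isAlgClosed_residue (A := Localization.AtPrime p) (FractionRing A)
    (algebraMap A (Localization.AtPrime p) t) ?_ ?_
  · rw [IsLocalization.AtPrime.to_map_mem_maximal_iff (Localization.AtPrime p) p]
    exact htp
  · intro h0
    apply ht0
    exact (IsLocalization.injective (Localization.AtPrime p) p.primeCompl_le_nonZeroDivisors)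
      (by rw [h0, map_zero])

end Groth.Agent.Lib.Helper18NormalSepClosed2
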