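import Mathlib
import Groth.Prelude.Def_W4c5ffgsreadingcourseOT
import Groth.Agent.Lib.Helper14OTEigen

set_option autoImplicit false
set_option linter.style.haveILetI false
set_option linter.unusedSectionVars false
universe u
open OortTate SGA3b WithConv Coalgebra

namespace Groth.Agent.Helper18OT

open Groth.Agent.Lib.Helper14OTEigen

variable {p : ℕ} [Fact p.Prime] {R : Type u} [CommRing R]

/-- the group algebra of `ℤ/p`. -/
abbrev GA (R : Type u) [CommRing R] (p : ℕ) := MonoidAlgebra R (Multiplicative (ZMod p))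

theorem pow_p_eq_one (q : Multiplicative (ZMod p)) : q ^ p = 1 := by
  have : p • (Multiplicative.toAdd q) = 0 := by
    rw [nsmul_eq_mul, CharP.cast_eq_zero, zero_mul]
  exact congrArg Multiplicative.ofAdd this

theorem powConv_p (y : GA R p) :
    powConv R (GA R p) p y = algebraMap R _ (counit (R := R) y) := by
  induction y using MonoidAlgebra.induction_linear with
  | zero => simp
  | add f g hf hg => rw [map_add, map_add, map_add, hf, hg]
  | single q r =>
    have h1 : MonoidAlgebra.single q r = r • MonoidAlgebra.of R (Multiplicative (ZMod p)) q := by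
      rw [MonoidAlgebra.of_apply, MonoidAlgebra.smul_single, smul_eq_mul, mul_one]
    have hgl : IsGroupLikeElem R (MonoidAlgebra.of R (Multiplicative (ZMod p)) q) :=
      MonoidAlgebra.isGroupLikeElem_of q
    rw [h1, map_smul, map_smul,
      Groth.Agent.Lib.Helper25.Tors.powConv_groupLike p hgl.comul_eq_tmul_self hgl.counit_eq_one,
      hgl.counit_eq_one, ← map_pow, pow_p_eq_one q, map_one, smul_eq_mul, mul_one,
      Algebra.algebraMap_eq_smul_one]

theorem hp_GA : (WithConv.toConv (AlgHom.id R (GA R p))) ^ p = 1 := by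
  apply WithConv.ofConv_injective
  apply AlgHom.ext
  intro y
  have h := powConv_p (R := R) (p := p) y
  unfold powConv at h
  rw [h]
  simp [AlgHom.convOne_apply]

theorem muT_groupLike : IsGroupLikeElem R (muT R p) := MonoidAlgebra.isGroupLikeElem_of _

theorem powConv_muT (n : ℕ) : powConv R (GA R p) n (muT R p) = muT R p ^ n :=
  Groth.Agent.Lib.Helper25.Tors.powConv_groupLike n muT_groupLike.comul_eq_tmul_self
    muT_groupLike.counit_eq_one

theorem counit_muT_sub_one : counit (R := R) (muT R p - 1) = 0 := by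
  rw [map_sub, muT_groupLike.counit_eq_one, Bialgebra.counit_one, sub_self]

theorem ygen_eq (u : R) (χ : (ZMod p)ˣ →* Rˣ) (i : ℕ) :
    ygen R p u χ i = u • ∑ m : (ZMod p)ˣ, ((χ m⁻¹ : R) ^ i) • (muT R p ^ (m : ZMod p).val - 1) := by
  unfold ygen
  rw [proj_apply]
  congr 1
  apply Finset.sum_congr rfl
  intro m _
  rw [T_apply, map_sub, map_one, powConv_muT]


/-! ### the augmentation ideal is spanned by the `g - 1` -/

/-- the spanning set of the augmentation ideal. -/
def augSet (R : Type u) [CommRing R] (p : ℕ) : Set (GA R p) :=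
  Set.range fun g : Multiplicative (ZMod p) => MonoidAlgebra.of R (Multiplicative (ZMod p)) g - 1

theorem sub_counit_mem_span (x : GA R p) :
    x - (counit (R := R) x) • (1 : GA R p) ∈ Submodule.span R (augSet R p) := by
  induction x using MonoidAlgebra.induction_linear with
  | zero => simp
  | add f g hf hg =>
    have : f + g - counit (R := R) (f + g) • (1 : GA R p)
        = (f - counit (R := R) f • (1 : GA R p)) + (g - counit (R := R) g • (1 : GA R p)) := by
      rw [map_add, add_smul]; abel
    rw [this]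
    exact Submodule.add_mem _ hf hg
  | single q r =>
    have h1 : MonoidAlgebra.single q r = r • MonoidAlgebra.of R (Multiplicative (ZMod p)) q := by
      rw [MonoidAlgebra.of_apply, MonoidAlgebra.smul_single, smul_eq_mul, mul_one]
    have h2 : counit (R := R) (MonoidAlgebra.single q r) = r := MonoidAlgebra.counit_single _ _
    rw [h2, h1, ← smul_sub]
    exact Submodule.smul_mem _ _ (Submodule.subset_span ⟨q, rfl⟩)

theorem ker_counit_le_span :
    LinearMap.ker (Bialgebra.counitAlgHom R (GA R p)).toLinearMap ≤ Submodule.span R (augSet R p) := by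
  intro x hx
  have hx' : counit (R := R) x = 0 := hx
  have := sub_counit_mem_span (R := R) (p := p) x
  rwa [hx', zero_smul, sub_zero] at this

/-! ### periodicity in the exponent -/

section chars

variable (χ : (ZMod p)ˣ →* Rˣ)

theorem chi_pow_card (m : (ZMod p)ˣ) : (χ m : R) ^ (p - 1) = 1 := by
  rw [← Units.val_pow_eq_pow_val, ← map_pow, ZMod.units_pow_card_sub_one_eq_one, map_one,
    Units.val_one]

theorem chi_pow_mod (m : (ZMod p)ˣ) (n : ℕ) : (χ m : R) ^ n = (χ m : R) ^ (n % (p - 1)) := by
  conv_lhs => rw [← Nat.div_add_mod n (p - 1), pow_add, pow_mul, chi_pow_card, one_pow, one_mul]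

theorem pred_pos : 0 < p - 1 := Nat.sub_pos_of_lt (Fact.out : p.Prime).one_lt

theorem ygen_mod (u : R) (n : ℕ) : ygen R p u χ n = ygen R p u χ (n % (p - 1)) := by
  rw [ygen_eq, ygen_eq]
  congr 1
  apply Finset.sum_congr rfl
  intro m _
  rw [chi_pow_mod χ m⁻¹ n]

theorem eigenAug_mod (n : ℕ) :
    eigenAug R (GA R p) p χ n = eigenAug R (GA R p) p χ (n % (p - 1)) := by
  ext f
  rw [mem_eigenAug_iff, mem_eigenAug_iff]
  simp only [← chi_pow_mod χ _ n]

theorem ygen_mem (u : R) (n : ℕ) : ygen R p u χ n ∈ eigenAug R (GA R p) p χ n :=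
  proj_mem χ hp_GA u n _ counit_muT_sub_one

theorem proj_T_comm (u : R) (i : ℕ) (m : (ZMod p)ˣ) (f : GA R p) :
    proj R (GA R p) p u χ i (T R (GA R p) m f) = T R (GA R p) m (proj R (GA R p) p u χ i f) := by
  rw [proj_apply, proj_apply, map_smul, map_sum]
  congr 1
  apply Finset.sum_congr rfl
  intro k _
  rw [map_smul, T_mul hp_GA, T_mul hp_GA, mul_comm]

theorem muT_pow (n : ℕ) :
    muT R p ^ n = MonoidAlgebra.of R (Multiplicative (ZMod p)) (Multiplicative.ofAdd (n : ZMod p)) := by
  unfold muT
  rw [← map_pow]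
  congr 1
  rw [← ofAdd_nsmul, nsmul_eq_mul, mul_one]

theorem of_sub_one_eq (m : (ZMod p)ˣ) :
    MonoidAlgebra.of R (Multiplicative (ZMod p)) (Multiplicative.ofAdd (m : ZMod p)) - 1
      = T R (GA R p) m (muT R p - 1) := by
  rw [T_apply, map_sub, map_one, powConv_muT, muT_pow, ZMod.natCast_zmod_val]

theorem proj_augSet (u : R) (i : ℕ) (x : GA R p) (hx : x ∈ augSet R p) :
    proj R (GA R p) p u χ i x ∈ Submodule.span R {ygen R p u χ i} := by
  obtain ⟨g, rfl⟩ := hx
  obtain ⟨z, rfl⟩ := Multiplicative.ofAdd.surjective g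
  by_cases hz : z = 0
  · subst hz
    have : MonoidAlgebra.of R (Multiplicative (ZMod p)) (Multiplicative.ofAdd (0 : ZMod p)) - 1 = 0 := by
      rw [ofAdd_zero, map_one, sub_self]
    simp only [this, map_zero, Submodule.zero_mem]
  · have h := of_sub_one_eq (R := R) (Units.mk0 z hz)
    rw [Units.val_mk0] at h
    simp only
    rw [h, proj_T_comm, T_proj χ hp_GA]
    exact Submodule.smul_mem _ _ (Submodule.mem_span_singleton_self _)

variable (hχ : ∀ m : (ZMod p)ˣ, m ≠ 1 → IsUnit ((χ m : R) - 1))

include hχ in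
theorem eigenAug_eq_span (u : R) (hu : u * ((p - 1 : ℕ) : R) = 1) (n : ℕ) :
    eigenAug R (GA R p) p χ n = Submodule.span R {ygen R p u χ n} := by
  apply le_antisymm
  · rw [eigenAug_mod, ygen_mod]
    have hi : n % (p - 1) < p - 1 := Nat.mod_lt _ pred_pos
    have hmain := (main p R u hu χ hχ (GA R p) hp_GA).2.2 ⟨n % (p - 1), hi⟩
    simp only at hmain
    rw [hmain]
    refine (Submodule.map_mono ker_counit_le_span).trans ?_
    rw [Submodule.map_span, Submodule.span_le]
    rintro _ ⟨x, hx, rfl⟩
    exact proj_augSet χ u _ x hx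
  · rw [Submodule.span_le, Set.singleton_subset_iff]
    exact ygen_mem χ u n

/-! ### the coefficient functional -/

/-- the coefficient of `T`. -/
noncomputable def coeffT (R : Type u) [CommRing R] (p : ℕ) : GA R p →ₗ[R] R :=
  (Finsupp.lapply (Multiplicative.ofAdd (1 : ZMod p))) ∘ₗ (MonoidAlgebra.coeffLinearEquiv R).toLinearMap

theorem coeffT_apply (x : GA R p) : coeffT R p x = x.coeff (Multiplicative.ofAdd (1 : ZMod p)) := rfl

theorem coeffT_one : coeffT R p (1 : GA R p) = 0 := by
  haveI : Fact (1 < p) := ⟨(Fact.out : p.Prime).one_lt⟩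
  rw [coeffT_apply, MonoidAlgebra.one_def, MonoidAlgebra.coeff_single, Finsupp.single_apply, if_neg]
  intro h
  have : (0 : ZMod p) = 1 := Multiplicative.ofAdd.injective h
  exact zero_ne_one this

theorem coeffT_muT_pow (m : (ZMod p)ˣ) :
    coeffT R p (muT R p ^ (m : ZMod p).val) = if m = 1 then 1 else 0 := by
  rw [muT_pow, ZMod.natCast_zmod_val, coeffT_apply, MonoidAlgebra.of_apply,
    MonoidAlgebra.coeff_single, Finsupp.single_apply]
  congr 1
  apply propext
  constructor
  · intro h
    have : (m : ZMod p) = 1 := Multiplicative.ofAdd.injective h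
    exact Units.ext this
  · rintro rfl
    rfl

theorem coeffT_ygen (u : R) (n : ℕ) : coeffT R p (ygen R p u χ n) = u := by
  rw [ygen_eq, map_smul, map_sum]
  have : ∀ m : (ZMod p)ˣ, coeffT R p (((χ m⁻¹ : R) ^ n) • (muT R p ^ (m : ZMod p).val - 1))
      = if m = 1 then 1 else 0 := by
    intro m
    rw [map_smul, map_sub, coeffT_muT_pow, coeffT_one, sub_zero]
    split_ifs with hm
    · subst hm; simp
    · simp
  rw [Finset.sum_congr rfl (fun m _ => this m), Finset.sum_ite_eq' Finset.univ (1 : (ZMod p)ˣ)]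
  simp

theorem smul_ygen_eq_zero (u : R) (hu : u * ((p - 1 : ℕ) : R) = 1) (n : ℕ) (r : R)
    (h : r • ygen R p u χ n = 0) : r = 0 := by
  have := congrArg (coeffT R p) h
  rw [map_smul, coeffT_ygen, map_zero, smul_eq_mul] at this
  calc r = r * (u * ((p - 1 : ℕ) : R)) := by rw [hu, mul_one]
    _ = (r * u) * ((p - 1 : ℕ) : R) := by ring
    _ = 0 := by rw [this, zero_mul]

end chars

end Groth.Agent.Helper18OT
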