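import Mathlib
import Groth.Prelude.Def_W4c5ffgsreadingcourseOT
import Groth.Agent.Lib.Helper18OT1

set_option autoImplicit false
set_option linter.style.haveILetI false
set_option linter.unusedSectionVars false
universe u
open OortTate SGA3b WithConv Coalgebra

namespace Groth.Agent.Helper18OT

open Groth.Agent.Lib.Helper14OTEigen

variable {p : ℕ} [Fact p.Prime] {R : Type u} [CommRing R]

section part1

variable (u : R) (hu : u * ((p - 1 : ℕ) : R) = 1)
  (χ : (ZMod p)ˣ →* Rˣ) (hχ : ∀ m : (ZMod p)ˣ, m ≠ 1 → IsUnit ((χ m : R) - 1))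

include hu hχ in
theorem linearIndependent_ygen :
    LinearIndependent R (fun i : Fin (p - 1) => ygen R p u χ (i : ℕ)) := by
  rw [linearIndependent_iff']
  intro s c hc j hj
  have h1 := congrArg (proj R (GA R p) p u χ (j : ℕ)) hc
  rw [map_sum, map_zero] at h1
  have h2 : ∀ i ∈ s, proj R (GA R p) p u χ (j : ℕ) (c i • ygen R p u χ (i : ℕ))
      = if i = j then c i • ygen R p u χ (i : ℕ) else 0 := by
    intro i _
    rw [map_smul, proj_of_mem χ hχ u hu i j i.2 j.2 _ (ygen_mem χ u i)]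
    split_ifs with h1 h2 h2
    · rfl
    · exact absurd (Fin.ext h1) h2
    · exact absurd (congrArg Fin.val h2) h1
    · rw [smul_zero]
  rw [Finset.sum_congr rfl h2, Finset.sum_ite_eq' s j, if_pos hj] at h1
  exact smul_ygen_eq_zero χ u hu _ _ h1

include hu hχ in
theorem span_ygen :
    Submodule.span R (Set.range (fun i : Fin (p - 1) => ygen R p u χ (i : ℕ))) =
      LinearMap.ker (Bialgebra.counitAlgHom R (GA R p)).toLinearMap := by
  rw [← (main p R u hu χ hχ (GA R p) hp_GA).2.1, Submodule.span_range_eq_iSup]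
  apply iSup_congr
  intro i
  rw [eigenAug_eq_span χ hχ u hu]

theorem pow_mem_eigenAug (f : GA R p) (i n : ℕ) (hn : 1 ≤ n)
    (hf : f ∈ eigenAug R (GA R p) p χ i) : f ^ n ∈ eigenAug R (GA R p) p χ (i * n) := by
  rw [mem_eigenAug_iff] at hf ⊢
  refine ⟨?_, fun m => ?_⟩
  · have : counit (R := R) (f ^ n) = (counit (R := R) f) ^ n :=
      map_pow (Bialgebra.counitAlgHom R (GA R p)) f n
    rw [this, hf.1, zero_pow (by omega)]
  · have h1 : T R (GA R p) m (f ^ n) = (T R (GA R p) m f) ^ n := by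
      rw [T_apply, T_apply, map_pow]
    rw [h1, hf.2 m, smul_pow, ← pow_mul]

include hu hχ in
theorem exists_pow_eq (n : ℕ) (hn : 1 ≤ n) :
    ∃ w : R, ygen R p u χ 1 ^ n = w • ygen R p u χ n := by
  have h1 := pow_mem_eigenAug χ _ 1 n hn (ygen_mem χ u 1)
  rw [one_mul, eigenAug_eq_span χ hχ u hu, Submodule.mem_span_singleton] at h1
  obtain ⟨w, hw⟩ := h1
  exact ⟨w, hw.symm⟩

include hu hχ in
theorem existsUnique_pow_p :
    ∃! w : R, ygen R p u χ 1 ^ p = w • ygen R p u χ 1 := by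
  have hmod : ygen R p u χ p = ygen R p u χ 1 := by
    rw [ygen_mod χ u p, ygen_mod χ u 1]
    congr 1
    obtain ⟨q, hq⟩ : ∃ q, p = q + 1 := ⟨p - 1, (Nat.sub_add_cancel (Fact.out : p.Prime).one_le).symm⟩
    rw [hq, Nat.add_sub_cancel, Nat.add_mod_left]
  obtain ⟨w, hw⟩ := exists_pow_eq u hu χ hχ p (Fact.out : p.Prime).one_le
  rw [hmod] at hw
  refine ⟨w, hw, fun w' hw' => ?_⟩
  have : (w' - w) • ygen R p u χ 1 = 0 := by rw [sub_smul, ← hw, ← hw', sub_self]
  exact sub_eq_zero.mp (smul_ygen_eq_zero χ u hu _ _ this)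

end part1

end Groth.Agent.Helper18OT
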