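import Mathlib
import Groth.Prelude.Def_W4c5ffgsreadingcourseOT
import Groth.Agent.Lib.Helper18OT2

set_option autoImplicit false
set_option linter.style.haveILetI false
set_option linter.unusedSectionVars false
universe u
open OortTate SGA3b WithConv Coalgebra

namespace Groth.Agent.Helper18OT

open Groth.Agent.Lib.Helper14OTEigen

variable {p : ℕ} [Fact p.Prime]

section field

variable {k : Type u} [Field k] (u : k) (hu : u * ((p - 1 : ℕ) : k) = 1)
  (χ : (ZMod p)ˣ →* kˣ)

include hu in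
theorem u_ne_zero : u ≠ 0 := by
  rintro rfl
  rw [zero_mul] at hu
  exact zero_ne_one hu

include hu in
theorem ygen_ne_zero (n : ℕ) : ygen k p u χ n ≠ 0 := by
  intro h
  have := coeffT_ygen χ u n
  rw [h, map_zero] at this
  exact u_ne_zero u hu this.symm

include hu in
/-- case `p ≠ 0` in `k`: Maschke. -/
theorem pow_ne_zero_of_ne (hpk : (p : k) ≠ 0) (n : ℕ) : ygen k p u χ 1 ^ n ≠ 0 := by
  haveI : NeZero (Nat.card (Multiplicative (ZMod p)) : k) := by
    constructor
    rw [Nat.card_eq_fintype_card, Fintype.card_multiplicative, ZMod.card]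
    exact hpk
  haveI : IsSemisimpleRing (GA k p) := inferInstance
  haveI : IsReduced (GA k p) := inferInstance
  intro h
  exact ygen_ne_zero u hu χ 1 (IsReduced.eq_zero _ ⟨n, h⟩)


/-! ### characteristic `p` -/

theorem muT_pow_sub_one (j : ℕ) : ∃ q : GA k p,
    muT k p ^ j - 1 = (j : GA k p) * (muT k p - 1) + (muT k p - 1) ^ 2 * q := by
  induction j with
  | zero => exact ⟨0, by simp⟩
  | succ j ih =>
    obtain ⟨q, hq⟩ := ih
    refine ⟨(j : GA k p) + q + q * (muT k p - 1), ?_⟩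
    rw [pow_succ]
    push_cast
    linear_combination (muT k p) * hq

variable (hpk : (p : k) = 0)
  (hχp : ∀ m : (ZMod p)ˣ, ((χ m : kˣ) : k) - (((m : ZMod p).val : ℕ) : k) ∈ Ideal.span ({(p : k)} : Set k))

include hpk hχp in
theorem chi_eq_val (m : (ZMod p)ˣ) : ((χ m : kˣ) : k) = (((m : ZMod p).val : ℕ) : k) := by
  have := hχp m
  rw [hpk, Ideal.span_singleton_zero, Ideal.mem_bot, sub_eq_zero] at this
  exact this

include hu hpk hχp in
theorem ygen_one_eq : ∃ Q : GA k p,
    ygen k p u χ 1 = (muT k p - 1) + (muT k p - 1) ^ 2 * Q := by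
  choose q hq using fun m : (ZMod p)ˣ => muT_pow_sub_one (k := k) (p := p) (m : ZMod p).val
  refine ⟨u • ∑ m : (ZMod p)ˣ, ((χ m⁻¹ : k) ^ 1) • q m, ?_⟩
  rw [ygen_eq]
  have h1 : ∀ m : (ZMod p)ˣ, ((χ m⁻¹ : k) ^ 1) • (muT k p ^ (m : ZMod p).val - 1)
      = (muT k p - 1) + (muT k p - 1) ^ 2 * (((χ m⁻¹ : k) ^ 1) • q m) := by
    intro m
    rw [hq m, smul_add, ← map_natCast (algebraMap k (GA k p)), ← chi_eq_val χ hpk hχp m,
      Algebra.smul_def, ← mul_assoc, ← map_mul, pow_one,
      chi_inv_mul, map_one, one_mul, mul_smul_comm]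
  rw [Finset.sum_congr rfl (fun m _ => h1 m), Finset.sum_add_distrib, Finset.sum_const,
    Finset.card_univ, ZMod.card_units, ← Finset.mul_sum, smul_add, ← Nat.cast_smul_eq_nsmul k,
    smul_smul, hu, one_smul, mul_smul_comm]

include hpk in
theorem t_pow_p : (muT k p - 1) ^ p = 0 := by
  haveI : CharP k p := (CharP.charP_iff_prime_eq_zero (Fact.out : p.Prime)).mpr hpk
  haveI : CharP (GA k p) p :=
    charP_of_injective_algebraMap (algebraMap k (GA k p)).injective p
  rw [sub_pow_char, one_pow, muT_pow, CharP.cast_eq_zero, ofAdd_zero, map_one, sub_self]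

/-- the coefficient of `T^(p-1)`. -/
noncomputable def coeffL (k : Type u) [Field k] (p : ℕ) : GA k p →ₗ[k] k :=
  (Finsupp.lapply (Multiplicative.ofAdd (((p - 1 : ℕ) : ZMod p)))) ∘ₗ
    (MonoidAlgebra.coeffLinearEquiv k).toLinearMap

theorem coeffL_muT_pow (m : ℕ) (hm : m < p) :
    coeffL k p (muT k p ^ m) = if m = p - 1 then 1 else 0 := by
  rw [muT_pow]
  change (MonoidAlgebra.of k (Multiplicative (ZMod p)) (Multiplicative.ofAdd (m : ZMod p))).coeff
    (Multiplicative.ofAdd (((p - 1 : ℕ) : ZMod p))) = _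
  rw [MonoidAlgebra.of_apply, MonoidAlgebra.coeff_single, Finsupp.single_apply]
  congr 1
  apply propext
  constructor
  · intro h
    have h2 : (m : ZMod p) = ((p - 1 : ℕ) : ZMod p) := Multiplicative.ofAdd.injective h
    have h3 := congrArg ZMod.val h2
    rwa [ZMod.val_cast_of_lt hm, ZMod.val_cast_of_lt (Nat.sub_lt (Fact.out : p.Prime).pos one_pos)] at h3
  · rintro rfl
    rfl

theorem t_pow_pred_ne_zero : (muT k p - 1) ^ (p - 1) ≠ 0 := by
  intro h
  have h1 := congrArg (coeffL k p) h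
  rw [sub_pow, map_sum, map_zero] at h1
  have h2 : ∀ m ∈ Finset.range (p - 1 + 1),
      coeffL k p ((-1) ^ (m + (p - 1)) * muT k p ^ m * 1 ^ (p - 1 - m) * ((p - 1).choose m : GA k p))
        = if m = p - 1 then 1 else 0 := by
    intro m hm
    have hm' : m < p := by
      have := Finset.mem_range.mp hm
      have := (Fact.out : p.Prime).one_le
      omega
    have e : (-1 : GA k p) ^ (m + (p - 1)) * muT k p ^ m * 1 ^ (p - 1 - m) * ((p - 1).choose m : GA k p)
        = (((-1 : k) ^ (m + (p - 1)) * ((p - 1).choose m : k))) • muT k p ^ m := by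
      rw [Algebra.smul_def, map_mul, map_pow, map_neg, map_one, map_natCast, one_pow, mul_one]
      ring
    rw [e, map_smul, coeffL_muT_pow m hm']
    split_ifs with hmp
    · subst hmp
      rw [Nat.choose_self, Nat.cast_one, mul_one, ← two_mul, pow_mul]
      simp
    · simp
  rw [Finset.sum_congr rfl h2, Finset.sum_ite_eq' (Finset.range (p - 1 + 1)) (p - 1),
    if_pos (Finset.mem_range.mpr (Nat.lt_succ_self _))] at h1
  exact one_ne_zero h1

include hu hpk hχp in
theorem pow_ne_zero_of_eq (n : ℕ) (hn : n ≤ p - 1) : ygen k p u χ 1 ^ n ≠ 0 := by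
  intro h
  obtain ⟨Q, hQ⟩ := ygen_one_eq u hu χ hpk hχp
  set t := muT k p - 1 with ht
  have h1 : ygen k p u χ 1 = t * (1 + t * Q) := by rw [hQ]; ring
  -- (1 + tQ)^n = 1 + t * S
  have h2 : ∃ S : GA k p, (1 + t * Q) ^ n = 1 + t * S := by
    refine ⟨Q * ∑ i ∈ Finset.range n, (1 + t * Q) ^ i, ?_⟩
    have := mul_geom_sum (1 + t * Q) n
    linear_combination (-1 : GA k p) * this
  obtain ⟨S, hS⟩ := h2
  have h3 : t ^ (p - 1) = 0 := by
    have e1 : t ^ (p - 1 - n) * ygen k p u χ 1 ^ n = t ^ (p - 1) + t ^ p * S := by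
      have hp1 : t ^ p = t ^ (p - 1) * t := by
        rw [← pow_succ, Nat.sub_add_cancel (Fact.out : p.Prime).one_le]
      rw [h1, mul_pow, hS, ← mul_assoc, ← pow_add, Nat.sub_add_cancel hn, hp1]
      ring
    rw [h, mul_zero, t_pow_p hpk, zero_mul, add_zero] at e1
    exact e1.symm
  exact t_pow_pred_ne_zero h3

include hu in
theorem pow_ne_zero_field
    (hχp : ∀ m : (ZMod p)ˣ, ((χ m : kˣ) : k) - (((m : ZMod p).val : ℕ) : k) ∈ Ideal.span ({(p : k)} : Set k))
    (n : ℕ) (hn : n ≤ p - 1) : ygen k p u χ 1 ^ n ≠ 0 := by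
  by_cases hpk : (p : k) = 0
  · exact pow_ne_zero_of_eq u hu χ hpk hχp n hn
  · exact pow_ne_zero_of_ne u hu χ hpk n

end field

end Groth.Agent.Helper18OT
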