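import Mathlib
import Groth.Prelude.Def_W4c5ffgsreadingcourseOT
import Groth.Agent.Lib.Helper18OT3

set_option autoImplicit false
set_option linter.style.haveILetI false
set_option linter.unusedSectionVars false
universe u
open OortTate SGA3b WithConv Coalgebra

namespace Groth.Agent.Helper18OT

open Groth.Agent.Lib.Helper14OTEigen

variable {p : ℕ} [Fact p.Prime]

section basechange

variable {R : Type u} [CommRing R] {S : Type u} [CommRing S] (f : R →+* S)

/-- base change of group algebras. -/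
noncomputable abbrev bc : GA R p →+* GA S p := MonoidAlgebra.mapRingHom (Multiplicative (ZMod p)) f

theorem bc_smul (r : R) (x : GA R p) : bc (p := p) f (r • x) = f r • bc (p := p) f x := by
  ext g
  simp [MonoidAlgebra.coeff_smul]

theorem bc_muT : bc (p := p) f (muT R p) = muT S p := by
  simp [muT, MonoidAlgebra.of_apply]

theorem bc_ygen (u : R) (χ : (ZMod p)ˣ →* Rˣ) (n : ℕ) :
    bc (p := p) f (ygen R p u χ n) = ygen S p (f u) ((Units.map (f : R →* S)).comp χ) n := by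
  rw [ygen_eq, ygen_eq, bc_smul, map_sum]
  congr 1
  apply Finset.sum_congr rfl
  intro m _
  rw [bc_smul, map_sub, map_one, map_pow (bc (p := p) f), bc_muT, map_pow f]
  rfl

end basechange

section main

variable {R : Type u} [CommRing R] (u : R) (hu : u * ((p - 1 : ℕ) : R) = 1)
  (χ : (ZMod p)ˣ →* Rˣ) (hχ : ∀ m : (ZMod p)ˣ, m ≠ 1 → IsUnit ((χ m : R) - 1))
  (hχp : ∀ m : (ZMod p)ˣ, ((χ m : Rˣ) : R) - (((m : ZMod p).val : ℕ) : R) ∈ Ideal.span ({(p : R)} : Set R))

include hu hχp in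
theorem isUnit_w (n : ℕ) (hn : n ≤ p - 1) (w : R)
    (hw : ygen R p u χ 1 ^ n = w • ygen R p u χ n) : IsUnit w := by
  by_contra hnu
  obtain ⟨𝔪, hmax, hwm⟩ := exists_max_ideal_of_mem_nonunits (mem_nonunits_iff.mpr hnu)
  letI : Field (R ⧸ 𝔪) := Ideal.Quotient.field 𝔪
  let f : R →+* R ⧸ 𝔪 := Ideal.Quotient.mk 𝔪
  have h1 := congrArg (bc (p := p) f) hw
  rw [map_pow, bc_ygen, bc_smul, bc_ygen, (Ideal.Quotient.eq_zero_iff_mem.mpr hwm : f w = 0),
    zero_smul] at h1
  have hu' : f u * ((p - 1 : ℕ) : R ⧸ 𝔪) = 1 := by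
    rw [← map_natCast f, ← map_mul, hu, map_one]
  have hχp' : ∀ m : (ZMod p)ˣ,
      (((Units.map (f : R →* R ⧸ 𝔪)).comp χ m : (R ⧸ 𝔪)ˣ) : R ⧸ 𝔪) - (((m : ZMod p).val : ℕ) : R ⧸ 𝔪)
        ∈ Ideal.span ({(p : R ⧸ 𝔪)} : Set (R ⧸ 𝔪)) := by
    intro m
    have h2 := Ideal.mem_map_of_mem f (hχp m)
    rw [Ideal.map_span, Set.image_singleton, map_natCast, map_sub, map_natCast] at h2
    exact h2
  exact pow_ne_zero_field (f u) hu' _ hχp' n hn h1

include hu hχ hχp in
theorem adjoin_eq_top :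
    Algebra.adjoin R ({ygen R p u χ 1} : Set (GA R p)) = ⊤ := by
  set S := Algebra.adjoin R ({ygen R p u χ 1} : Set (GA R p)) with hS
  have hy1 : ygen R p u χ 1 ∈ S := Algebra.subset_adjoin (Set.mem_singleton _)
  have hyn : ∀ n, 1 ≤ n → n ≤ p - 1 → ygen R p u χ n ∈ S := by
    intro n hn1 hn
    obtain ⟨w, hw⟩ := exists_pow_eq u hu χ hχ n hn1
    obtain ⟨w', rfl⟩ := isUnit_w u hu χ hχp n hn w hw
    have : ygen R p u χ n = (↑w'⁻¹ : R) • ygen R p u χ 1 ^ n := by
      rw [hw, smul_smul, Units.inv_mul, one_smul]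
    rw [this]
    exact S.smul_mem (S.pow_mem hy1 n) _
  have hyi : ∀ i : Fin (p - 1), ygen R p u χ (i : ℕ) ∈ S := by
    intro i
    by_cases hi : (i : ℕ) = 0
    · rw [hi, ygen_mod χ u 0, Nat.zero_mod, ← Nat.mod_self (p - 1), ← ygen_mod χ u (p - 1)]
      exact hyn (p - 1) pred_pos le_rfl
    · exact hyn i (Nat.pos_of_ne_zero hi) i.2.le
  have hker : LinearMap.ker (Bialgebra.counitAlgHom R (GA R p)).toLinearMap ≤ Subalgebra.toSubmodule S := by
    rw [← span_ygen u hu χ hχ, Submodule.span_le]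
    rintro _ ⟨i, rfl⟩
    exact hyi i
  rw [eq_top_iff]
  intro x _
  have h1 : x - (counit (R := R) x) • (1 : GA R p) ∈
      LinearMap.ker (Bialgebra.counitAlgHom R (GA R p)).toLinearMap := by
    change counit (R := R) (x - (counit (R := R) x) • (1 : GA R p)) = 0
    rw [map_sub, map_smul, Bialgebra.counit_one, smul_eq_mul, mul_one, sub_self]
  have h2 : x = (x - (counit (R := R) x) • (1 : GA R p)) + (counit (R := R) x) • (1 : GA R p) := by
    abel
  rw [h2]
  exact S.add_mem (hker h1) (S.smul_mem S.one_mem _)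

include hu hχ hχp in
theorem main :
    LinearIndependent R (fun i : Fin (p - 1) => OortTate.ygen R p u χ (i : ℕ)) ∧
      Submodule.span R (Set.range (fun i : Fin (p - 1) => OortTate.ygen R p u χ (i : ℕ))) =
        LinearMap.ker (Bialgebra.counitAlgHom R (MonoidAlgebra R (Multiplicative (ZMod p)))).toLinearMap ∧
      Algebra.adjoin R ({OortTate.ygen R p u χ 1} : Set (MonoidAlgebra R (Multiplicative (ZMod p)))) = ⊤ ∧
      ∃! w : R, OortTate.ygen R p u χ 1 ^ p = w • OortTate.ygen R p u χ 1 :=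
  ⟨linearIndependent_ygen u hu χ hχ, span_ygen u hu χ hχ, adjoin_eq_top u hu χ hχ hχp,
    existsUnique_pow_p u hu χ hχ⟩

end main

end Groth.Agent.Helper18OT
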