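import Mathlib
import Groth.Prelude.Def_Omega4
import Groth.Prelude.Def_OmAff
import Groth.Agent.Lib.Helper18OmLS23

set_option autoImplicit false
set_option linter.style.haveILetI false
set_option linter.unusedSectionVars false
universe u
open CategoryTheory CategoryTheory.Limits AlgebraicGeometry TopologicalSpace Opposite
open Groth.Agent.Helper13PullbackUnit

namespace Groth.Agent.Helper18OmLS

section chart3
variable {X Y : Scheme.{u}} (f : X ⟶ Y) [QuasiSeparated f] {U : X.Opens}
  {V : Y.Opens} (h : U ≤ f ⁻¹ᵁ V) (hU : IsAffineOpen U) (hV : IsAffineOpen V)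

include hU hV in
/-- on an affine chart every ring derivation of `Γ(X, U)` over `Γ(Y, V)` factors through the
sections of the differentials. -/
theorem exists_lift_dOmega' (N : Type u) [AddCommGroup N] [Module Γ(X, U) N] (δ : Γ(X, U) →+ N)
    (hδ : ∀ a b, δ (a * b) = a • δ b + b • δ a)
    (hδc : ∀ x : Γ(Y, V), δ ((f.appLE V U h).hom x) = 0) :
    ∃ L : Γ(Omega.sheaf f, U) →ₗ[Γ(X, U)] N,
      ∀ s : Γ(X, U), L ((OmegaSh.dOmega f).app U s) = δ s := by
  have hW := isAffineOpen_diagNbhd f hU hV h
  obtain ⟨lam, hlam1, hlam2⟩ := exists_lambda_of_PO (f.appLE V U h).hom (pp₁ f U) (pp₂ f U) (mm f U)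
    (mm_comp_pp₁ f U) (mm_comp_pp₂ f U) (fun T _ ψ₁ ψ₂ hψ => PO_ring f h hU hV T ψ₁ ψ₂ hψ)
    N δ hδ hδc
  obtain ⟨L, hL, -⟩ := existsUnique_lift (pullback.diagonal f)
    (ClSub.idealMod (pullback.diagonal f).ker) hW hU (OmegaSh.le_preimage_diagNbhd f U) N
    (lam.comp (OmegaSh.idealSect (pullback.diagonal f).ker (OmegaSh.diagNbhd f U)))
    (fun r t => by
      rw [AddMonoidHom.comp_apply, AddMonoidHom.comp_apply, idealSect_smul]
      exact hlam1 r _ (mm_idealSect f U t))
  refine ⟨L, fun s => ?_⟩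
  rw [dOmega_app_eq]
  refine (hL _).trans ?_
  rw [AddMonoidHom.comp_apply, idealSect_idealLift]
  exact hlam2 s

include hU hV in
theorem isIso_toSect : IsIso (OmAff.toSect f V U h) := by
  let K := CommRingCat.KaehlerDifferential (f.appLE V U h)
  let δ : Γ(X, U) →+ K :=
    { toFun := fun b => CommRingCat.KaehlerDifferential.d b
      map_zero' := by
        have := (CommRingCat.KaehlerDifferential.D (f.appLE V U h)).d_map 0
        rw [map_zero] at this
        exact this
      map_add' := fun a b => (CommRingCat.KaehlerDifferential.D (f.appLE V U h)).d_add a b }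
  obtain ⟨L, hL⟩ := exists_lift_dOmega' f h hU hV K δ
    (fun a b => (CommRingCat.KaehlerDifferential.D (f.appLE V U h)).d_mul a b)
    (fun x => (CommRingCat.KaehlerDifferential.D (f.appLE V U h)).d_map x)
  let Lc : OmAff.sectMod (Omega.sheaf f) U ⟶ K :=
    @ModuleCat.ofHom Γ(X, U) _ Γ(Omega.sheaf f, U) K _ _ K.isAddCommGroup K.isModule L
  refine ⟨Lc, ?_, ?_⟩
  · apply CommRingCat.KaehlerDifferential.ext
    intro b
    change L (OmAff.toSect f V U h (CommRingCat.KaehlerDifferential.d b)) = _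
    rw [OmAff.toSect_d]
    exact hL b
  · ext n
    change OmAff.toSect f V U h (L n) = n
    have hn := mem_span_dOmega f h hU hV n
    refine Submodule.span_induction ?_ ?_ ?_ ?_ hn
    · rintro _ ⟨s, rfl⟩
      rw [hL]
      exact OmAff.toSect_d f V U h s
    · rw [map_zero, map_zero]
    · intro x y _ _ hx hy
      rw [map_add, map_add, hx, hy]
    · intro a x _ hx
      rw [map_smul, map_smul, hx]

end chart3

section spec
variable (A B : Type u) [CommRing A] [CommRing B] [Algebra A B]

open KaehlerDifferential in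
theorem bijective_toSpec : Function.Bijective (OmAff.toSpec A B) := by
  let f := Spec.map (CommRingCat.ofHom (algebraMap A B))
  have hU : IsAffineOpen (⊤ : (Spec (CommRingCat.of B)).Opens) := isAffineOpen_top _
  have hV : IsAffineOpen (⊤ : (Spec (CommRingCat.of A)).Opens) := isAffineOpen_top _
  have h : (⊤ : (Spec (CommRingCat.of B)).Opens) ≤ f ⁻¹ᵁ ⊤ := le_rfl
  have hinv : ∀ s : Γ(Spec (CommRingCat.of B), ⊤),
      OmAff.toΓ B ((Scheme.ΓSpecIso (CommRingCat.of B)).hom s) = s :=
    fun s => congr($((Scheme.ΓSpecIso (CommRingCat.of B)).hom_inv_id) s)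
  have hinv' : ∀ b : B, (Scheme.ΓSpecIso (CommRingCat.of B)).hom (OmAff.toΓ B b) = b :=
    fun b => congr($((Scheme.ΓSpecIso (CommRingCat.of B)).inv_hom_id) b)
  constructor
  · -- injective
    letI : Module Γ(Spec (CommRingCat.of B), ⊤) Ω[B⁄A] :=
      Module.compHom _ (Scheme.ΓSpecIso (CommRingCat.of B)).hom.hom
    let δ : Γ(Spec (CommRingCat.of B), ⊤) →+ Ω[B⁄A] :=
      { toFun := fun s => D A B ((Scheme.ΓSpecIso (CommRingCat.of B)).hom s)
        map_zero' := by rw [map_zero, map_zero]
        map_add' := fun a b => by rw [map_add, map_add] }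
    obtain ⟨L, hL⟩ := exists_lift_dOmega' f h hU hV Ω[B⁄A] δ
      (fun a b => by
        change D A B ((Scheme.ΓSpecIso (CommRingCat.of B)).hom (a * b)) = _
        rw [map_mul, Derivation.leibniz]
        rfl)
      (fun x => by
        change D A B ((Scheme.ΓSpecIso (CommRingCat.of B)).hom ((f.appLE ⊤ ⊤ h).hom x)) = 0
        have h1 := Scheme.ΓSpecIso_naturality (CommRingCat.ofHom (algebraMap A B))
        have h2 := congr($h1 x)
        have h3 : (Scheme.ΓSpecIso (CommRingCat.of B)).hom ((f.appLE ⊤ ⊤ h).hom x) =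
            algebraMap A B ((Scheme.ΓSpecIso (CommRingCat.of A)).hom x) := h2
        rw [h3, Derivation.map_algebraMap])
    have hg : ∀ ω : Ω[B⁄A], L (OmAff.toSpec A B ω) = ω := by
      intro ω
      have hω : ω ∈ Submodule.span B (Set.range (D A B)) := by
        rw [KaehlerDifferential.span_range_derivation]; trivial
      induction hω using Submodule.span_induction with
      | mem y hy =>
        obtain ⟨b, rfl⟩ := hy
        rw [OmAff.toSpec_D]
        refine (hL _).trans ?_
        change D A B ((Scheme.ΓSpecIso (CommRingCat.of B)).hom (OmAff.toΓ B b)) = _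
        rw [hinv']
      | zero => rw [map_zero, map_zero]
      | add y z _ _ hy hz => rw [map_add, map_add, hy, hz]
      | smul b y _ hy =>
        rw [LinearMap.map_smulₛₗ, map_smul, hy]
        change (Scheme.ΓSpecIso (CommRingCat.of B)).hom (OmAff.toΓ B b) • y = b • y
        rw [hinv']
    intro ω₁ ω₂ h12
    rw [← hg ω₁, ← hg ω₂, h12]
  · -- surjective
    intro n
    have hn := mem_span_dOmega f h hU hV n
    refine Submodule.span_induction ?_ ?_ ?_ ?_ hn
    · rintro _ ⟨s, rfl⟩
      refine ⟨D A B ((Scheme.ΓSpecIso (CommRingCat.of B)).hom s), ?_⟩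
      rw [OmAff.toSpec_D, hinv]
      rfl
    · exact ⟨0, map_zero _⟩
    · rintro x y _ _ ⟨ω₁, rfl⟩ ⟨ω₂, rfl⟩
      exact ⟨ω₁ + ω₂, map_add _ _ _⟩
    · rintro a x _ ⟨ω, rfl⟩
      refine ⟨(Scheme.ΓSpecIso (CommRingCat.of B)).hom a • ω, ?_⟩
      rw [LinearMap.map_smulₛₗ, hinv]

end spec

end Groth.Agent.Helper18OmLS
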