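import Mathlib
import Groth.Prelude.Def_RelProj4
import Groth.Agent.Lib.Helper18SymBC

/-!
# The graded `ψ`-morphism `Sym(E) → ψ_* 𝒮'` attached to a map `ψ^* E → 𝒮'` landing in degree one (helper18)
-/

set_option autoImplicit false
set_option linter.style.haveILetI false

namespace Groth.Agent.Helper18PA

open CategoryTheory CategoryTheory.Limits AlgebraicGeometry Opposite TopologicalSpace
open Groth.Agent.Helper18SymGrading Groth.Agent.Helper13SymAlg Groth.Agent.Helper13SymLoc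
open Groth.Agent.Helper18SymBC
open Scheme.AffineZariskiSite
open scoped HomogeneousIdeal DirectSum

universe u

open Groth.Agent.Helper13PullbackUnit

variable {Y Y' : Scheme.{u}} (ψ : Y' ⟶ Y) (E : Y.Modules) [E.IsQuasicoherent]

/-- local instance: pull-backs of quasi-coherent modules are quasi-coherent -/
noncomputable local instance instQCPullback' : ((Scheme.Modules.pullback ψ).obj E).IsQuasicoherent :=
  Groth.Agent.Lib.Helper2.PullbackSec.isQuasicoherent_pullback ψ E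

variable (𝒮 : RelProj.QCGrAlg Y) (j : E ⟶ 𝒮.toModule) (hj : RelProj.IsGrSymAlg E 𝒮 j)
  (𝒮' : RelProj.QCGrAlg Y') (k : (Scheme.Modules.pullback ψ).obj E ⟶ 𝒮'.toModule)
  (hk : ∀ (U' : Y'.Opens) (hU' : IsAffineOpen U') (x : Γ((Scheme.Modules.pullback ψ).obj E, U')),
    (k.app U') x ∈ 𝒮'.deg U' hU' 1)

include hk in
/-- **the graded `ψ`-morphism `Sym(E) → ψ_* 𝒮'`** attached to `k : ψ^* E → 𝒮'` landing in degree one. -/
noncomputable def uGrOf : RelProj.QGrHom ψ 𝒮 𝒮' where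
  toQHom := uQ ψ E 𝒮'.toQCAlg k hj.1
  map_mem U hU U' hU' hle {d x} hx := by
    obtain ⟨w, hw, rfl⟩ := exists_σ_eq E 𝒮 j hj U hU hx
    rw [uQ_app ψ E 𝒮'.toQCAlg k hj.1 U hU, uAff_σ]
    refine ringHom_mem (𝒮'.deg U' hU')
      ((𝒮'.presheaf.map (homOfLE hle).op).hom.comp (θ ψ E 𝒮'.toQCAlg k U)) (fun a => ?_) (fun m => ?_) hw
    · rw [RingHom.comp_apply]
      unfold θ
      rw [symLift_algebraMap]
      unfold ρ
      rw [RingHom.comp_apply]
      have h1 : (𝒮'.presheaf.map (homOfLE hle).op).hom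
          ((𝒮'.str.app (op (ψ ⁻¹ᵁ U))).hom ((ψ.app U).hom a)) =
          (𝒮'.str.app (op U')).hom ((Y'.presheaf.map (homOfLE hle).op).hom ((ψ.app U).hom a)) :=
        (congrArg (fun t : Γ(Y', ψ ⁻¹ᵁ U) ⟶ _ => t.hom ((ψ.app U).hom a))
          (𝒮'.str.naturality (homOfLE hle).op)).symm
      rw [h1]
      exact 𝒮'.str_mem U' hU' _
    · rw [RingHom.comp_apply]
      unfold θ
      rw [symLift_ι]
      unfold gk
      rw [AddMonoidHom.comp_apply, ← φAdd_res]
      exact hk U' hU' _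

theorem uGrOf_j (U : Y.Opens) (x : Γ(E, U)) :
    ((uGrOf ψ E 𝒮 j hj 𝒮' k hk).app U).hom ((j.app U) x) =
      (k.app (ψ ⁻¹ᵁ U)) (((Scheme.Modules.pullbackPushforwardAdjunction ψ).unit.app E).app U x) :=
  uQ_j ψ E 𝒮'.toQCAlg k hj.1 U x

end Groth.Agent.Helper18PA
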