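import Mathlib
import Groth.Prelude.Def_RelProj4
import Groth.Agent.Lib.Helper18PA
import Groth.Agent.Lib.Helper18KE
import Groth.Agent.Lib.Helper18CIntC
import Groth.Agent.Lib.Helper18VAmpC
import Groth.Agent.Lib.Helper23FinTypeLocal
import Groth.Agent.Lib.Helper2RelTildeTN
import Groth.Agent.Lib.Helper13ProjBC3

/-!
# The graded `q`-morphism `Sym(E) → q_* Sym(L)` attached to `σ : q^* E → L` and its irrelevant-ideal condition (helper18)
-/

set_option autoImplicit false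
set_option linter.style.haveILetI false

namespace Groth.Agent.Helper18PB

open CategoryTheory CategoryTheory.Limits AlgebraicGeometry Opposite TopologicalSpace
open Groth.Agent.Helper13SymAlg Groth.Agent.Helper13PullbackUnit Groth.Agent.Helper18PA
open scoped HomogeneousIdeal

universe u

variable {X Y : Scheme.{u}} (q : X ⟶ Y) (E : Y.Modules) [E.IsQuasicoherent]
  (𝒮 : RelProj.QCGrAlg Y) (j : E ⟶ 𝒮.toModule) (hj : RelProj.IsGrSymAlg E 𝒮 j)
  (L : X.Modules) [L.IsQuasicoherent] (𝒮L : RelProj.QCGrAlg X) (jL : L ⟶ 𝒮L.toModule) (hjL : RelProj.IsGrSymAlg L 𝒮L jL)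
  (σ : (Scheme.Modules.pullback q).obj E ⟶ L)

/-- the graded `q`-morphism `Sym(E) → q_* Sym(L)` attached to `σ : q^* E → L`. -/
noncomputable def uOf : RelProj.QGrHom q 𝒮 𝒮L :=
  uGrOf q E 𝒮 j hj 𝒮L (σ ≫ jL) (fun U' hU' x => hjL.2 U' hU' (σ.app U' x))

theorem uOf_j (U : Y.Opens) (x : Γ(E, U)) :
    ((uOf q E 𝒮 j hj L 𝒮L jL hjL σ).app U).hom ((j.app U) x) =
      (jL.app (q ⁻¹ᵁ U)) (σ.app (q ⁻¹ᵁ U)
        (((Scheme.Modules.pullbackPushforwardAdjunction q).unit.app E).app U x)) :=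
  uGrOf_j q E 𝒮 j hj 𝒮L (σ ≫ jL) _ U x

theorem uOf_appLE_j (U : Y.Opens) (U' : X.Opens) (hle : U' ≤ q ⁻¹ᵁ U) (x : Γ(E, U)) :
    ((uOf q E 𝒮 j hj L 𝒮L jL hjL σ).appLE U U' hle).hom ((j.app U) x) =
      φAdd L 𝒮L.toQCAlg jL U' (σ.app U' (unitSec q E hle x)) := by
  change (𝒮L.presheaf.map (homOfLE hle).op).hom
    (((uOf q E 𝒮 j hj L 𝒮L jL hjL σ).app U).hom ((j.app U) x)) = _
  rw [uOf_j]
  have h1 := φAdd_res L 𝒮L.toQCAlg jL hle (σ.app (q ⁻¹ᵁ U)
    (((Scheme.Modules.pullbackPushforwardAdjunction q).unit.app E).app U x))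
  have h2 := Groth.Agent.Lib.Helper23.Extend.app_map σ (homOfLE hle)
    (((Scheme.Modules.pullbackPushforwardAdjunction q).unit.app E).app U x)
  rw [unitSec_apply, h2]
  exact h1.symm

include hjL in
/-- the irrelevant ideal condition for `uOf`, for an epimorphism `σ`. -/
theorem hirr_uOf [Epi σ] (U : Y.Opens) (hU : IsAffineOpen U) (U' : X.Opens) (hU' : IsAffineOpen U')
    (hle : U' ≤ q ⁻¹ᵁ U) :
    (𝒮L.deg U' hU')₊ ≤
      ((𝒮.deg U hU)₊).map ((uOf q E 𝒮 j hj L 𝒮L jL hjL σ).gradedAt U hU U' hU' hle) := by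
  have hLq : Coh.IsQCoh L := inferInstanceAs L.IsQuasicoherent
  have hgen := Groth.Agent.Helper18VAmp.isGenDegOne_of_isGrSymAlg L hLq 𝒮L jL hjL U' hU'
  have hspan := Groth.Agent.Lib.Helper2.RelTildeTN.irrelevant_eq_span_of_gen (𝒮L.deg U' hU') hgen
  have key : ∀ m ∈ Submodule.span Γ(X, U') (Set.range (unitSec q E hle)),
      φAdd L 𝒮L.toQCAlg jL U' (σ.app U' m) ∈
        (((𝒮.deg U hU)₊).map ((uOf q E 𝒮 j hj L 𝒮L jL hjL σ).gradedAt U hU U' hU' hle)).toIdeal := by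
    intro m hm
    induction hm using Submodule.span_induction with
    | mem t ht =>
      obtain ⟨e, rfl⟩ := ht
      rw [← uOf_appLE_j q E 𝒮 j hj L 𝒮L jL hjL σ U U' hle e]
      exact Ideal.mem_map_of_mem _ (HomogeneousIdeal.mem_irrelevant_of_mem _ Nat.one_pos (hj.2 U hU e))
    | zero =>
      rw [map_zero, map_zero]
      exact Ideal.zero_mem _
    | add t t' _ _ h h' =>
      rw [map_add, map_add]
      exact Ideal.add_mem _ h h'
    | smul c t _ h =>
      rw [Scheme.Modules.Hom.app_smul, φAdd_smul]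
      exact Ideal.mul_mem_left _ _ h
  have hsub : ((𝒮L.deg U' hU')₊).toIdeal ≤
      (((𝒮.deg U hU)₊).map ((uOf q E 𝒮 j hj L 𝒮L jL hjL σ).gradedAt U hU U' hU' hle)).toIdeal := by
    rw [hspan, Ideal.span_le]
    intro b hb1
    obtain ⟨l, rfl⟩ := Groth.Agent.Helper18KE.exists_app_eq_of_mem_deg_one L hLq 𝒮L jL hjL U' hU' b hb1
    obtain ⟨m, rfl⟩ := Groth.Agent.Lib.Helper23.FinType.surjective_app_of_epi σ hU' l
    exact key m (Groth.Agent.Helper18CInt.unitSec_span q E hle hU hU' id (by simp) trivial)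
  exact hsub

end Groth.Agent.Helper18PB
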