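import Mathlib
import Groth.Agent.Lib.Helper18PBUnit2
import Groth.Agent.Lib.Helper23SecTw6

set_option autoImplicit false
set_option linter.style.haveILetI false
universe u
open CategoryTheory CategoryTheory.Limits AlgebraicGeometry TopologicalSpace Opposite
open Groth.Agent.Lib.Helper23.SecTw Groth.Agent.Lib.Helper6 Groth.Agent.Helper13PullbackUnit

namespace Groth.Agent.Helper18PBUnit

variable {X S : Scheme.{u}} (f : X ⟶ S)

/-- a generator of `L` over `f⁻¹U` gives a generator of `f_*L` over `U`. -/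
theorem isGen_pushforward (hf : ∀ U : S.Opens, Function.Bijective (f.app U)) (L : X.Modules)
    {U : S.Opens} (g : Γ(L, f ⁻¹ᵁ U)) (hg : IsGen L (f ⁻¹ᵁ U) g) :
    IsGen ((Scheme.Modules.pushforward f).obj L) U (down f g) := by
  intro W' h
  have h1 := hg (f ⁻¹ᵁ W') (f.preimage_mono h)
  have h2 : (fun r : Γ(S, W') => r • res ((Scheme.Modules.pushforward f).obj L) h (down f g)) =
      (fun r' : Γ(X, f ⁻¹ᵁ W') => r' • res L (f.preimage_mono h) g) ∘ (f.app W') := by
    funext r
    rfl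
  rw [h2]
  exact h1.comp (hf W')

/-- a trivialisation over `f⁻¹U` gives a generator over `f⁻¹U`. -/
theorem exists_isGen_of_iso (L : X.Modules) (V : X.Opens)
    (e : Nonempty ((Scheme.Modules.pullback V.ι).obj L ≅ Coh.structureModule V)) :
    ∃ g : Γ(L, V), IsGen L V g := by
  obtain ⟨ε'⟩ := e
  let ε : L.restrict V.ι ≅ Coh.structureModule (↑V : Scheme.{u}) :=
    (Scheme.Modules.restrictFunctorIsoPullback V.ι).app L ≪≫ ε'
  have hle : V ≤ V.ι ''ᵁ ⊤ := by
    rw [Scheme.Hom.image_top_eq_opensRange, Scheme.Opens.opensRange_ι]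
  exact ⟨_, (isGen_frameE L V ε ⊤).mono hle⟩

theorem counit_unitSec (L : X.Modules) {W : S.Opens} {V' : X.Opens} (hle : V' ≤ f ⁻¹ᵁ W)
    (m : Γ(L, f ⁻¹ᵁ W)) :
    ((Scheme.Modules.pullbackPushforwardAdjunction f).counit.app L).app V'
      (unitSec f ((Scheme.Modules.pushforward f).obj L) hle (down f m)) =
      L.presheaf.map (homOfLE hle).op m := by
  let adj := Scheme.Modules.pullbackPushforwardAdjunction f
  have h1 := adj.right_triangle_components L
  have h2 : ((adj.counit.app L).app (f ⁻¹ᵁ W))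
      (((adj.unit.app ((Scheme.Modules.pushforward f).obj L)).app W) (down f m)) = m := by
    have := congrArg (fun φ => φ.app W (down f m)) h1
    exact this
  rw [unitSec_apply]
  have n := CategoryTheory.congr_fun ((adj.counit.app L).mapPresheaf.naturality (homOfLE hle).op)
    (((adj.unit.app ((Scheme.Modules.pushforward f).obj L)).app W) (down f m))
  refine n.trans ?_
  exact congrArg (L.presheaf.map (homOfLE hle).op) h2


theorem counit_app_bijective (hf : ∀ U : S.Opens, Function.Bijective (f.app U)) (L : X.Modules)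
    [((Scheme.Modules.pushforward f).obj L).IsQuasicoherent]
    {W : S.Opens} (hW : IsAffineOpen W) (g : Γ(L, f ⁻¹ᵁ W)) (hg : IsGen L (f ⁻¹ᵁ W) g)
    {V' : X.Opens} (hV' : IsAffineOpen V') (hle : V' ≤ f ⁻¹ᵁ W) :
    Function.Bijective (((Scheme.Modules.pullbackPushforwardAdjunction f).counit.app L).app V') := by
  set N := (Scheme.Modules.pushforward f).obj L with hN
  set c := (Scheme.Modules.pullbackPushforwardAdjunction f).counit.app L with hc
  have hgN : IsGen N W (down f g) := isGen_pushforward f hf L g hg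
  have hb0 : Function.Bijective (fun r : Γ(S, W) => r • down (N := L) f g) := by
    have := hgN W le_rfl
    have h2 : res N (le_refl W) (down f g) = down f g := res_self N _
    rw [h2] at this
    exact this
  let E : Γ(S, W) ≃ₗ[Γ(S, W)] Γ(N, W) :=
    LinearEquiv.ofBijective (LinearMap.toSpanSingleton Γ(S, W) Γ(N, W) (down f g)) hb0
  let b : Module.Basis (Fin 1) Γ(S, W) Γ(N, W) := (Module.Basis.singleton (Fin 1) Γ(S, W)).map E
  have hb : ∀ i, b i = down f g := by
    intro i
    simp only [b, Module.Basis.map_apply, Module.Basis.singleton_apply, E]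
    change (1 : Γ(S, W)) • down (N := L) f g = _
    rw [one_smul]
  have hB : IsBasisLike Γ(X, V') (fun i => unitSec f N hle (b i)) :=
    isBasisLike_of_existsUnique_lift (f.appLE W V' hle).hom (unitSec f N hle)
      (unitSec_smul f N hle) (fun Q _ _ l hl => existsUnique_lift f N hW hV' hle Q l hl) b
  have hcu : ∀ i, c.app V' (unitSec f N hle (b i)) = res L hle g := by
    intro i
    rw [hb i]
    exact counit_unitSec f L hle g
  have hg' := hg V' hle
  have hsum : ∀ a : Fin 1 → Γ(X, V'), c.app V' (∑ i, a i • unitSec f N hle (b i)) = a 0 • res L hle g := by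
    intro a
    rw [Fin.sum_univ_one, Scheme.Modules.Hom.app_smul, hcu]
  constructor
  · rw [injective_iff_map_eq_zero]
    intro t ht
    obtain ⟨a, ha⟩ := hB.2 t
    rw [ha, hsum] at ht
    have h0 : a 0 = 0 := hg'.1 (ht.trans (zero_smul _ _).symm)
    rw [ha, Fin.sum_univ_one, h0, zero_smul]
  · intro y
    obtain ⟨r, hr⟩ := hg'.2 y
    refine ⟨∑ i, (fun _ : Fin 1 => r) i • unitSec f N hle (b i), ?_⟩
    rw [hsum]
    exact hr

theorem main_S12057 (hf : ∀ U : S.Opens, Function.Bijective (f.app U)) (L : X.Modules)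
    (hloc : ∀ s : S, ∃ U : S.Opens, s ∈ U ∧
      Nonempty ((Scheme.Modules.pullback (f ⁻¹ᵁ U).ι).obj L ≅ Coh.structureModule (f ⁻¹ᵁ U))) :
    ∃ N : S.Modules, PicF.IsInvertible N ∧ Nonempty (L ≅ (Scheme.Modules.pullback f).obj N) := by
  have hgen : ∀ s : S, ∃ (U : S.Opens) (g : Γ(L, f ⁻¹ᵁ U)), s ∈ U ∧ IsGen L (f ⁻¹ᵁ U) g := by
    intro s
    obtain ⟨U, hsU, e⟩ := hloc s
    obtain ⟨g, hg⟩ := exists_isGen_of_iso L (f ⁻¹ᵁ U) e
    exact ⟨U, g, hsU, hg⟩
  have hN : PicF.IsInvertible ((Scheme.Modules.pushforward f).obj L) := by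
    refine isInvertible_of_isGen _ fun s => ?_
    obtain ⟨U, g, hsU, hg⟩ := hgen s
    exact ⟨U, down f g, hsU, isGen_pushforward f hf L g hg⟩
  haveI : ((Scheme.Modules.pushforward f).obj L).IsQuasicoherent := isQuasicoherent_of_isInvertible _ hN
  refine ⟨_, hN, ?_⟩
  let ι : Type u := {V' : X.Opens // IsAffineOpen V' ∧ ∃ W : S.Opens, IsAffineOpen W ∧ V' ≤ f ⁻¹ᵁ W ∧
    ∃ g : Γ(L, f ⁻¹ᵁ W), IsGen L (f ⁻¹ᵁ W) g}
  have hiso : IsIso ((Scheme.Modules.pullbackPushforwardAdjunction f).counit.app L) := by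
    refine Groth.Agent.Helper13AffBC.isIso_of_bijective_on_basis _ (fun i : ι => i.1) ?_ ?_
    · rw [Opens.isBasis_iff_nbhd]
      intro O x hx
      obtain ⟨U, g, hsU, hg⟩ := hgen (f x)
      obtain ⟨W, hW, hxW, hWU⟩ := exists_isAffineOpen_mem_and_subset (x := f x) (U := U) hsU
      obtain ⟨V', hV', hxV', hV'le⟩ := exists_isAffineOpen_mem_and_subset (x := x)
        (U := O ⊓ f ⁻¹ᵁ W) ⟨hx, hxW⟩
      exact ⟨V', ⟨⟨V', hV', W, hW, hV'le.trans inf_le_right, _, hg.mono (f.preimage_mono hWU)⟩, rfl⟩,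
        hxV', hV'le.trans inf_le_left⟩
    · rintro ⟨V', hV', W, hW, hle, g, hg⟩
      exact counit_app_bijective f hf L hW g hg hV' hle
  exact ⟨(asIso ((Scheme.Modules.pullbackPushforwardAdjunction f).counit.app L)).symm⟩

end Groth.Agent.Helper18PBUnit
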