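import Mathlib
import Groth.Prelude.Def_RelProj4
import Groth.Agent.Lib.Helper18PB
import Groth.Agent.Lib.Helper18PE
import Groth.Agent.Lib.Helper18TwistBC
import Groth.Agent.Lib.Helper13RLp

/-!
# The morphism `X ⟶ P(E)` attached to an invertible quotient `q^* E ⟶ L` (helper18)

`exists_mor`: for `q : X ⟶ Y`, a projective bundle `P = P(E)` over `Y` with its `O(1)`, an invertible module `L` on `X`
(with `PL = P(L)`, which is `X`) and an epimorphism `σ : q^* E ⟶ L`, there is `r : PL ⟶ P` which IS `Proj` of the graded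
`q`-morphism `Sym(E) → q_* Sym(L)` attached to `σ`, lies over `q`, and satisfies `r^* O_P(1) ≅ pL^* L`.
-/

set_option autoImplicit false
set_option linter.style.haveILetI false

namespace Groth.Agent.Helper18PC

open CategoryTheory CategoryTheory.Limits AlgebraicGeometry Opposite TopologicalSpace
open Groth.Agent.Helper18PB Groth.Agent.Helper13RelProj Groth.Agent.Helper13ProjBC
open scoped HomogeneousIdeal

universe u

variable {X Y P PL : Scheme.{u}} (q : X ⟶ Y) (E : Y.Modules) [E.IsQuasicoherent]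
  (𝒮 : RelProj.QCGrAlg Y) (j : E ⟶ 𝒮.toModule) (hj : RelProj.IsGrSymAlg E 𝒮 j)
  (p : P ⟶ Y)
  (chart : ∀ (U : Y.Opens) (hU : IsAffineOpen U), (((p ⁻¹ᵁ U : P.Opens) : Scheme.{u}) ≅ Proj (𝒮.deg U hU)))
  (hP : RelProj.IsRelProj 𝒮 p chart) (O1 : P.Modules)
  (lam : ∀ (U : Y.Opens) (hU : IsAffineOpen U),
    O1 ⟶ (Scheme.Modules.pushforward (RelProj.emb p chart U hU)).obj (GrTwist.twist (𝒮.deg U hU) 1))
  (hO1 : RelProj.IsRelTwist 𝒮 p chart 1 O1 lam)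
  (L : X.Modules) [L.IsQuasicoherent] (hL : PicF.IsInvertible L)
  (𝒮L : RelProj.QCGrAlg X) (jL : L ⟶ 𝒮L.toModule) (hjL : RelProj.IsGrSymAlg L 𝒮L jL)
  (pL : PL ⟶ X)
  (chartL : ∀ (U : X.Opens) (hU : IsAffineOpen U), (((pL ⁻¹ᵁ U : PL.Opens) : Scheme.{u}) ≅ Proj (𝒮L.deg U hU)))
  (hPL : RelProj.IsRelProj 𝒮L pL chartL)
  (σ : (Scheme.Modules.pullback q).obj E ⟶ L) [Epi σ]

include hjL in
theorem domQ_uOf_eq_top : RelProj.domQ (uOf q E 𝒮 j hj L 𝒮L jL hjL σ) pL chartL = ⊤ :=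
  domQ_eq_top_of_forall _ fun U hU U' hU' hle =>
    domOpen_eq_top_of_irrelevant_le _ (hirr_uOf q E 𝒮 j hj L 𝒮L jL hjL σ U hU U' hU' hle)

include hP hPL in
/-- existence of `Proj(u)` for `u = uOf σ`. -/
theorem exists_isProjQMap :
    ∃ r : PL ⟶ P, RelProj.IsProjQMap (uOf q E 𝒮 j hj L 𝒮L jL hjL σ) p chart pL chartL r := by
  have hG := domQ_uOf_eq_top q E 𝒮 j hj L 𝒮L jL hjL pL chartL σ
  obtain ⟨v, hv⟩ := exists_qmapOn (uOf q E 𝒮 j hj L 𝒮L jL hjL σ) hP hPL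
  have hvOn := isProjQMapOn_of_pieces (uOf q E 𝒮 j hj L 𝒮L jL hjL σ) v hv
  have : IsIso (RelProj.domQ (uOf q E 𝒮 j hj L 𝒮L jL hjL σ) pL chartL).ι := by
    rw [hG]
    exact (show IsIso (Scheme.topIso PL).hom from inferInstance)
  refine ⟨inv (RelProj.domQ (uOf q E 𝒮 j hj L 𝒮L jL hjL σ) pL chartL).ι ≫ v, hG, ?_⟩
  intro U hU U' hU' hle d hd f hf
  have hW := RelProj.range_awayEmb_subset_domQ (uOf q E 𝒮 j hj L 𝒮L jL hjL σ) pL chartL U hU U' hU' hle hd f hf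
  have h1 := hvOn U hU U' hU' hle d hd f hf hW
  rw [← h1, ← Category.assoc]
  congr 1
  rw [← cancel_mono (RelProj.domQ (uOf q E 𝒮 j hj L 𝒮L jL hjL σ) pL chartL).ι, Category.assoc, IsIso.inv_hom_id,
    Category.comp_id, IsOpenImmersion.lift_fac]

variable {q E 𝒮 j hj p chart L 𝒮L jL hjL pL chartL σ}

include hP hPL in
/-- `Proj(u)` lies over `q`. -/
theorem isProjQMap_comp {r : PL ⟶ P}
    (hr : RelProj.IsProjQMap (uOf q E 𝒮 j hj L 𝒮L jL hjL σ) p chart pL chartL r) :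
    r ≫ p = pL ≫ q := by
  have hOn := Groth.Agent.Helper13RL.isProjQMapOn_of_isProjQMap (uOf q E 𝒮 j hj L 𝒮L jL hjL σ) hr
    (RelProj.domQ (uOf q E 𝒮 j hj L 𝒮L jL hjL σ) pL chartL)
  have h1 := qmapOn_comp (uOf q E 𝒮 j hj L 𝒮L jL hjL σ) hP hPL hOn
  have : IsIso (RelProj.domQ (uOf q E 𝒮 j hj L 𝒮L jL hjL σ) pL chartL).ι := by
    rw [hr.1]
    exact (show IsIso (Scheme.topIso PL).hom from inferInstance)
  rw [← cancel_epi (RelProj.domQ (uOf q E 𝒮 j hj L 𝒮L jL hjL σ) pL chartL).ι]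
  rw [← Category.assoc, h1]

include hP hPL hO1 hL in
/-- `r^* O_P(1) ≅ pL^* L` for `r = Proj(uOf σ)`. -/
theorem nonempty_iso {r : PL ⟶ P}
    (hr : RelProj.IsProjQMap (uOf q E 𝒮 j hj L 𝒮L jL hjL σ) p chart pL chartL r) :
    Nonempty ((Scheme.Modules.pullback pL).obj L ≅ (Scheme.Modules.pullback r).obj O1) := by
  have hLq : Coh.IsQCoh L := inferInstanceAs L.IsQuasicoherent
  have hEq : Coh.IsQCoh E := inferInstanceAs E.IsQuasicoherent
  obtain ⟨O1L, lamL, hO1L⟩ := Groth.Agent.Lib.Helper2.RelTwistExist.exists_isRelTwist pL chartL hPL 1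
  have hiso := Groth.Agent.Helper18PE.isIso_acan_of_isInvertible L hLq 𝒮L jL hjL pL chartL hPL O1L lamL hO1L hL
  obtain ⟨Φ⟩ := Groth.Agent.Helper18TwistBC.nonempty_pullback_iso q
    (fun U hU U' hU' hle => (uOf q E 𝒮 j hj L 𝒮L jL hjL σ).gradedAt U hU U' hU' hle)
    (fun U hU U' hU' hle => hirr_uOf q E 𝒮 j hj L 𝒮L jL hjL σ U hU U' hU' hle)
    (fun hU hV i _ _ hU' hV' i' hle hle' x =>
      Groth.Agent.Helper18TwistBC.gradedAt_res (uOf q E 𝒮 j hj L 𝒮L jL hjL σ) hU hV i hU' hV' i' hle hle' x)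
    p pL chart chartL r
    (fun U hU U' hU' hle => emb_comp_of_isProjQMap (uOf q E 𝒮 j hj L 𝒮L jL hjL σ) hr U hU U' hU' hle _)
    1 O1 lam hO1 O1L lamL hO1L hP hPL
    (Groth.Agent.Helper18VAmp.isGenDegOne_of_isGrSymAlg E hEq 𝒮 j hj)
  exact ⟨asIso (Groth.Agent.Helper18PE.acan L 𝒮L jL hjL pL chartL hPL O1L lamL hO1L) ≪≫ Φ.symm⟩

end Groth.Agent.Helper18PC
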