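import Mathlib
import Groth.Prelude.Def_RelProj4
import Groth.Agent.Lib.Helper18PC
import Groth.Agent.Lib.Helper13RLg
import Groth.Agent.Lib.Helper23GenNear

/-!
# Chart analysis of the morphism `X ⟶ P(E)` attached to `q^* E ⟶ L` (helper18)
-/

set_option autoImplicit false
set_option linter.style.haveILetI false
set_option linter.unusedSectionVars false

namespace Groth.Agent.Helper18PD

open CategoryTheory CategoryTheory.Limits AlgebraicGeometry Opposite TopologicalSpace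
open Groth.Agent.Helper18PB Groth.Agent.Helper13RelProj Groth.Agent.Helper13ProjBC
open Groth.Agent.Helper13SymAlg Groth.Agent.Helper13PullbackUnit
open Groth.Agent.Lib.Helper23.SecTw Groth.Agent.Lib.Helper6 Groth.Agent.Lib.Helper23.GenLocus
open HomogeneousLocalization
open scoped HomogeneousIdeal

universe u

section gen

variable {X : Scheme.{u}} (L : X.Modules) [L.IsQuasicoherent]
  (𝒮L : RelProj.QCGrAlg X) (jL : L ⟶ 𝒮L.toModule) (hjL : RelProj.IsGrSymAlg L 𝒮L jL)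

/-- a one-element basis from a generator -/
theorem exists_basis_of_isGen {V : X.Opens} (t : Γ(L, V)) (ht : IsGen L V t) :
    ∃ b : Module.Basis (Fin 1) Γ(X, V) Γ(L, V), b 0 = t := by
  have hbij : Function.Bijective (LinearMap.toSpanSingleton Γ(X, V) Γ(L, V) t) := by
    have h := ht V le_rfl
    have h2 : (fun r : Γ(X, V) => r • res L (le_refl V) t) =
        (LinearMap.toSpanSingleton Γ(X, V) Γ(L, V) t : Γ(X, V) → Γ(L, V)) := by
      funext r
      rw [res_self]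
      rfl
    rwa [h2] at h
  let e : Γ(L, V) ≃ₗ[Γ(X, V)] (Fin 1 → Γ(X, V)) :=
    (LinearEquiv.ofBijective _ hbij).symm ≪≫ₗ (LinearEquiv.funUnique (Fin 1) Γ(X, V) Γ(X, V)).symm
  refine ⟨Module.Basis.ofEquivFun e, ?_⟩
  rw [Module.Basis.coe_ofEquivFun]
  change (LinearEquiv.ofBijective _ hbij) ((LinearEquiv.funUnique (Fin 1) Γ(X, V) Γ(X, V)) (Pi.single 0 1)) = t
  simp

include hjL in
/-- polynomial structure of `Sym(L)` over an affine open with a generator -/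
theorem bijective_eval₂_of_isGen {V : X.Opens} (hV : IsAffineOpen V) (t : Γ(L, V)) (ht : IsGen L V t) :
    Function.Bijective (Polynomial.eval₂RingHom (𝒮L.str.app (op V)).hom (φAdd L 𝒮L.toQCAlg jL V t)) := by
  obtain ⟨b, hb⟩ := exists_basis_of_isGen L t ht
  have := Groth.Agent.Helper13ProjLine.bijective_eval₂ L 𝒮L jL hjL hV b
  rwa [hb] at this

include hjL in
/-- `D₊(j t)` is everything when `t` generates -/
theorem basicOpen_eq_top_of_isGen {V : X.Opens} (hV : IsAffineOpen V) (t : Γ(L, V)) (ht : IsGen L V t) :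
    Proj.basicOpen (𝒮L.deg V hV) (φAdd L 𝒮L.toQCAlg jL V t) = ⊤ :=
  Groth.Agent.Helper13GrPoly.basicOpen_eq_top (𝒮L.deg V hV) (𝒮L.str.app (op V)).hom (𝒮L.str_mem V hV)
    _ (hjL.2 V hV t) (bijective_eval₂_of_isGen L 𝒮L jL hjL hV t ht)

end gen

section chart

variable {X Y P PL : Scheme.{u}} {q : X ⟶ Y} {E : Y.Modules} [E.IsQuasicoherent]
  {𝒮 : RelProj.QCGrAlg Y} {j : E ⟶ 𝒮.toModule} {hj : RelProj.IsGrSymAlg E 𝒮 j}
  {p : P ⟶ Y}
  {chart : ∀ (U : Y.Opens) (hU : IsAffineOpen U), (((p ⁻¹ᵁ U : P.Opens) : Scheme.{u}) ≅ Proj (𝒮.deg U hU))}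
  (hP : RelProj.IsRelProj 𝒮 p chart)
  {L : X.Modules} [L.IsQuasicoherent] (hL : PicF.IsInvertible L)
  {𝒮L : RelProj.QCGrAlg X} {jL : L ⟶ 𝒮L.toModule} {hjL : RelProj.IsGrSymAlg L 𝒮L jL}
  {pL : PL ⟶ X}
  {chartL : ∀ (U : X.Opens) (hU : IsAffineOpen U), (((pL ⁻¹ᵁ U : PL.Opens) : Scheme.{u}) ≅ Proj (𝒮L.deg U hU))}
  (hPL : RelProj.IsRelProj 𝒮L pL chartL)
  {σ : (Scheme.Modules.pullback q).obj E ⟶ L} [Epi σ]
  {r : PL ⟶ P} (hr : RelProj.IsProjQMap (uOf q E 𝒮 j hj L 𝒮L jL hjL σ) p chart pL chartL r)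

include hr in
/-- `r` on the chart over an affine pair is `Proj.map` of the graded ring map. -/
theorem emb_comp_r (U : Y.Opens) (hU : IsAffineOpen U) (V : X.Opens) (hV : IsAffineOpen V)
    (hle : V ≤ q ⁻¹ᵁ U) :
    RelProj.emb pL chartL V hV ≫ r =
      Proj.map ((uOf q E 𝒮 j hj L 𝒮L jL hjL σ).gradedAt U hU V hV hle)
        (hirr_uOf q E 𝒮 j hj L 𝒮L jL hjL σ U hU V hV hle) ≫ RelProj.emb p chart U hU :=
  emb_comp_of_isProjQMap (uOf q E 𝒮 j hj L 𝒮L jL hjL σ) hr U hU V hV hle _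

include hr in
/-- membership in the preimage of a standard open, chartwise. -/
theorem r_emb_mem_iff (U : Y.Opens) (hU : IsAffineOpen U) (V : X.Opens) (hV : IsAffineOpen V)
    (hle : V ≤ q ⁻¹ᵁ U) (f : 𝒮.presheaf.obj (op U)) (z : Proj (𝒮L.deg V hV)) :
    r.base ((RelProj.emb pL chartL V hV).base z) ∈
        (RelProj.emb p chart U hU) ''ᵁ Proj.basicOpen (𝒮.deg U hU) f ↔
      z ∈ Proj.basicOpen (𝒮L.deg V hV) ((uOf q E 𝒮 j hj L 𝒮L jL hjL σ).gradedAt U hU V hV hle f) := by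
  have h1 : r.base ((RelProj.emb pL chartL V hV).base z) =
      (RelProj.emb p chart U hU).base
        ((Proj.map ((uOf q E 𝒮 j hj L 𝒮L jL hjL σ).gradedAt U hU V hV hle)
          (hirr_uOf q E 𝒮 j hj L 𝒮L jL hjL σ U hU V hV hle)).base z) := by
    rw [← Scheme.Hom.comp_apply, emb_comp_r hr U hU V hV hle]
    rfl
  rw [h1]
  have h2 : z ∈ Proj.basicOpen (𝒮L.deg V hV) ((uOf q E 𝒮 j hj L 𝒮L jL hjL σ).gradedAt U hU V hV hle f) ↔
      z ∈ (Proj.map ((uOf q E 𝒮 j hj L 𝒮L jL hjL σ).gradedAt U hU V hV hle)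
          (hirr_uOf q E 𝒮 j hj L 𝒮L jL hjL σ U hU V hV hle)) ⁻¹ᵁ Proj.basicOpen (𝒮.deg U hU) f := by
    rw [Proj.map_preimage_basicOpen]
  rw [h2]
  constructor
  · rintro ⟨w, hw, hwe⟩
    have := (RelProj.emb p chart U hU).isOpenEmbedding.injective hwe
    change (Proj.map ((uOf q E 𝒮 j hj L 𝒮L jL hjL σ).gradedAt U hU V hV hle)
          (hirr_uOf q E 𝒮 j hj L 𝒮L jL hjL σ U hU V hV hle)).base z ∈ Proj.basicOpen (𝒮.deg U hU) f
    rw [← this]
    exact hw
  · intro hz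
    exact ⟨_, hz, rfl⟩

/-- the section of `L` over `V ≤ q⁻¹ U` attached to `e ∈ Γ(E, U)` through `σ`. -/
noncomputable def sec (σ : (Scheme.Modules.pullback q).obj E ⟶ L) {U : Y.Opens} {V : X.Opens}
    (hle : V ≤ q ⁻¹ᵁ U) (e : Γ(E, U)) : Γ(L, V) :=
  σ.app V (unitSec q E hle e)

theorem res_sec {U : Y.Opens} {V V' : X.Opens} (hle : V ≤ q ⁻¹ᵁ U) (h : V' ≤ V) (e : Γ(E, U)) :
    res L h (sec σ hle e) = sec σ (h.trans hle) e := by
  unfold sec
  have h1 := Groth.Agent.Lib.Helper23.Extend.app_map σ (homOfLE h) (unitSec q E hle e)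
  have h2 := Groth.Agent.Lib.Helper23.PB.res_unitSec q E hle (h.trans hle) le_rfl h e
  rw [res_self] at h2
  change L.presheaf.map (homOfLE h).op (σ.app V (unitSec q E hle e)) = _
  rw [← h1]
  congr 1

theorem gradedAt_j (U : Y.Opens) (hU : IsAffineOpen U) (V : X.Opens) (hV : IsAffineOpen V)
    (hle : V ≤ q ⁻¹ᵁ U) (e : Γ(E, U)) :
    (uOf q E 𝒮 j hj L 𝒮L jL hjL σ).gradedAt U hU V hV hle ((j.app U) e) =
      φAdd L 𝒮L.toQCAlg jL V (sec σ hle e) :=
  uOf_appLE_j q E 𝒮 j hj L 𝒮L jL hjL σ U V hle e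

include hP hPL hr in
theorem pL_mem_of_r_mem (U : Y.Opens) (hU : IsAffineOpen U) (W : (Proj (𝒮.deg U hU)).Opens) (y : PL)
    (hy : r.base y ∈ (RelProj.emb p chart U hU) ''ᵁ W) : pL.base y ∈ q ⁻¹ᵁ U := by
  obtain ⟨w, -, hw⟩ := hy
  have h1 : p.base (r.base y) ∈ U := by
    rw [← hw]
    exact emb_mem_preimage chart U hU w
  have h2 := Groth.Agent.Helper18PC.isProjQMap_comp hP hPL hr
  have h3 : p.base (r.base y) = q.base (pL.base y) := by
    rw [← Scheme.Hom.comp_apply, h2]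
    rfl
  rw [h3] at h1
  exact h1

include hL hPL hr in
/-- **the preimage of `D₊(j e₀)` under `r` is the locus where the section attached to `e₀` generates `L`.** -/
theorem r_mem_iff_isGenNear (U : Y.Opens) (hU : IsAffineOpen U) (e₀ : Γ(E, U)) (y : PL)
    (hy : pL.base y ∈ q ⁻¹ᵁ U) :
    r.base y ∈ (RelProj.emb p chart U hU) ''ᵁ Proj.basicOpen (𝒮.deg U hU) ((j.app U) e₀) ↔
      Groth.Agent.Lib.Helper23.GenNear.IsGenNear L (q ⁻¹ᵁ U) (sec σ le_rfl e₀) (pL.base y) := by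
  obtain ⟨W₀, e₁, hxW₀, hW₀aff, hgen₀⟩ := Groth.Agent.Lib.Helper23.PB.exists_affine_gen L hL (pL.base y)
  obtain ⟨V, hV, hxV, hVle⟩ := exists_isAffineOpen_mem_and_subset (x := pL.base y) (U := W₀ ⊓ q ⁻¹ᵁ U)
    ⟨hxW₀, hy⟩
  have hgen : IsGen L V (res L (hVle.trans inf_le_left) e₁) := hgen₀.mono _
  have hle : V ≤ q ⁻¹ᵁ U := hVle.trans inf_le_right
  obtain ⟨b, hb⟩ : ∃ b, b = res L (hVle.trans inf_le_left) e₁ := ⟨_, rfl⟩
  rw [← hb] at hgen
  obtain ⟨c, hc⟩ : ∃ c, c = coef hgen le_rfl (sec σ hle e₀) := ⟨_, rfl⟩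
  have hc' : c • b = sec σ hle e₀ := by
    have := coef_spec hgen le_rfl (sec σ hle e₀)
    rw [res_self, ← hc] at this
    exact this
  obtain ⟨z, hz⟩ := exists_chart_point (chartB := chartL) V hV y hxV
  have h1 := r_emb_mem_iff hr U hU V hV hle ((j.app U) e₀) z
  rw [hz] at h1
  rw [h1, gradedAt_j, ← hc', φAdd_smul, Proj.basicOpen_mul,
    basicOpen_eq_top_of_isGen L 𝒮L jL hjL hV b hgen, inf_top_eq,
    ← Groth.Agent.Helper13RL.pL_emb_mem_basicOpen_iff hPL hV c z, hz,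
    Groth.Agent.Lib.Helper23.GenNear.isGenNear_iff_of_isGen hgen hle (sec σ le_rfl e₀) (pL.base y) hxV,
    res_sec, hc]

include hjL in
/-- **surjectivity of the map of degree-zero localizations** from generation of the ring of functions by ratios. -/
theorem surjective_awayMap (U : Y.Opens) (hU : IsAffineOpen U) (e₀ : Γ(E, U)) (G : X.Opens)
    (hG : IsAffineOpen G) (hle : G ≤ q ⁻¹ᵁ U) (ht : IsGen L G (sec σ hle e₀))
    (hring : Subring.closure (Set.range (q.appLE U G hle).hom ∪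
      {c | ∃ e : Γ(E, U), c • sec σ hle e₀ = sec σ hle e}) = ⊤) :
    Function.Surjective (Away.map ((uOf q E 𝒮 j hj L 𝒮L jL hjL σ).gradedAt U hU G hG hle)
      ((j.app U) e₀ : 𝒮.presheaf.obj (op U))) := by
  obtain ⟨φ, hφ⟩ : ∃ φ, φ = (uOf q E 𝒮 j hj L 𝒮L jL hjL σ).gradedAt U hU G hG hle := ⟨_, rfl⟩
  obtain ⟨f, hfdef⟩ : ∃ f : 𝒮.presheaf.obj (op U), f = (j.app U) e₀ := ⟨_, rfl⟩
  rw [← hφ, ← hfdef]
  have hf : f ∈ 𝒮.deg U hU 1 := by rw [hfdef]; exact hj.2 U hU e₀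
  have hφj : ∀ e : Γ(E, U), φ ((j.app U) e : 𝒮.presheaf.obj (op U)) =
      φAdd L 𝒮L.toQCAlg jL G (sec σ hle e) := fun e => by
    rw [hφ]; exact gradedAt_j U hU G hG hle e
  have hφf : φ f = φAdd L 𝒮L.toQCAlg jL G (sec σ hle e₀) := by rw [hfdef]; exact hφj e₀
  have hpoly : Function.Bijective (Polynomial.eval₂RingHom (𝒮L.str.app (op G)).hom (φ f)) := by
    rw [hφf]; exact bijective_eval₂_of_isGen L 𝒮L jL hjL hG _ ht
  have hT1 : φ f ∈ 𝒮L.deg G hG 1 := by rw [hφf]; exact hjL.2 G hG _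
  obtain ⟨θ, hθdef⟩ : ∃ θ : Γ(X, G) →+* Away (𝒮L.deg G hG) (φ f),
      θ = (fromZeroRingHom (𝒮L.deg G hG) (Submonoid.powers (φ f))).comp
        (Groth.Agent.Helper13GrPoly.ιZero (𝒮L.deg G hG) (𝒮L.str.app (op G)).hom (𝒮L.str_mem G hG)) :=
    ⟨_, rfl⟩
  have hθ : Function.Surjective θ := by
    rw [hθdef]
    exact (Groth.Agent.Helper13GrPoly.fromZeroRingHom_bijective (𝒮L.deg G hG) (𝒮L.str.app (op G)).hom
        (𝒮L.str_mem G hG) (φ f) hT1 hpoly).2.comp
      (Groth.Agent.Helper13GrPoly.ιZero_bijective (𝒮L.deg G hG) (𝒮L.str.app (op G)).hom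
        (𝒮L.str_mem G hG) (φ f) hT1 hpoly).2
  have hθval : ∀ c : Γ(X, G), (θ c).val = Localization.mk ((𝒮L.str.app (op G)).hom c) 1 := by
    intro c
    rw [hθdef]
    rfl
  have hcl : Subring.closure (Set.range (q.appLE U G hle).hom ∪
      {c | ∃ e : Γ(E, U), c • sec σ hle e₀ = sec σ hle e}) ≤
      Subring.comap θ (Away.map φ f).range := by
    rw [Subring.closure_le]
    rintro c (⟨a, rfl⟩ | ⟨e, he⟩)
    · refine ⟨fromZeroRingHom (𝒮.deg U hU) (Submonoid.powers f)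
        ⟨(𝒮.str.app (op U)).hom a, 𝒮.str_mem U hU a⟩, ?_⟩
      have h1 := congrArg (fun g => g ⟨(𝒮.str.app (op U)).hom a, 𝒮.str_mem U hU a⟩)
        (fromZero_comp_awayMap φ f)
      simp only [RingHom.comp_apply] at h1
      rw [h1]
      apply HomogeneousLocalization.val_injective
      rw [hθval]
      change Localization.mk (φ ((𝒮.str.app (op U)).hom a)) 1 = _
      congr 1
      rw [hφ]
      exact congrArg (fun t => t.hom a) ((uOf q E 𝒮 j hj L 𝒮L jL hjL σ).toQHom.str_appLE U G hle)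
    · have hje : ((j.app U) e : 𝒮.presheaf.obj (op U)) ∈ 𝒮.deg U hU (1 • 1) := by
        simpa using hj.2 U hU e
      refine ⟨Away.mk (𝒮.deg U hU) hf 1 ((j.app U) e) hje, ?_⟩
      rw [Away.map_mk]
      apply HomogeneousLocalization.val_injective
      rw [Away.val_mk, hθval, hφj e, ← he, φAdd_smul, ← hφf, Localization.mk_eq_mk_iff,
        Localization.r_iff_exists]
      refine ⟨1, ?_⟩
      simp only [OneMemClass.coe_one, one_mul, pow_one]
      ring
  intro α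
  obtain ⟨c, rfl⟩ := hθ α
  have hc : c ∈ Subring.comap θ (Away.map φ f).range := hcl (by rw [hring]; trivial)
  exact hc

include hL hP hPL hr hjL in
/-- the preimage of the standard open `D₊(j e₀)` under `r`, when the generating locus of the section is `G`. -/
theorem preimage_eq (U : Y.Opens) (hU : IsAffineOpen U) (e₀ : Γ(E, U)) (G : X.Opens)
    (hle : G ≤ q ⁻¹ᵁ U) (ht : IsGen L G (sec σ hle e₀))
    (hfull : ∀ x ∈ q ⁻¹ᵁ U,
      Groth.Agent.Lib.Helper23.GenNear.IsGenNear L (q ⁻¹ᵁ U) (sec σ le_rfl e₀) x → x ∈ G) :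
    r ⁻¹ᵁ ((RelProj.emb p chart U hU) ''ᵁ Proj.basicOpen (𝒮.deg U hU) ((j.app U) e₀)) = pL ⁻¹ᵁ G := by
  ext y
  constructor
  · intro hy
    have hyU := pL_mem_of_r_mem hP hPL hr U hU _ y hy
    exact hfull _ hyU ((r_mem_iff_isGenNear hL hPL hr U hU e₀ y hyU).mp hy)
  · intro hy
    have hyG : pL.base y ∈ G := hy
    have hyU : pL.base y ∈ q ⁻¹ᵁ U := hle hyG
    refine (r_mem_iff_isGenNear hL hPL hr U hU e₀ y hyU).mpr ⟨G, hle, hyG, ?_⟩
    rw [res_sec]
    exact ht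

include hL hP hPL hr hjL in
/-- **`r` is a closed immersion over the standard open `D₊(j e₀)`** when the generating locus `G` of the section
attached to `e₀` is affine and its ring of functions is generated by the functions of the base and the ratios. -/
theorem isClosedImmersion_restrict (U : Y.Opens) (hU : IsAffineOpen U) (e₀ : Γ(E, U)) (G : X.Opens)
    (hG : IsAffineOpen G) (hle : G ≤ q ⁻¹ᵁ U) (ht : IsGen L G (sec σ hle e₀))
    (hfull : ∀ x ∈ q ⁻¹ᵁ U,
      Groth.Agent.Lib.Helper23.GenNear.IsGenNear L (q ⁻¹ᵁ U) (sec σ le_rfl e₀) x → x ∈ G)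
    (hring : Subring.closure (Set.range (q.appLE U G hle).hom ∪
      {c | ∃ e : Γ(E, U), c • sec σ hle e₀ = sec σ hle e}) = ⊤) :
    IsClosedImmersion
      (r ∣_ ((RelProj.emb p chart U hU) ''ᵁ Proj.basicOpen (𝒮.deg U hU) ((j.app U) e₀))) := by
  have hpre := preimage_eq hP hL hPL hr U hU e₀ G hle ht hfull
  have hsurj := surjective_awayMap (hj := hj) (hjL := hjL) U hU e₀ G hG hle ht hring
  obtain ⟨f, hfdef⟩ : ∃ f : 𝒮.presheaf.obj (op U), f = (j.app U) e₀ := ⟨_, rfl⟩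
  rw [← hfdef] at hpre hsurj ⊢
  have hf : f ∈ 𝒮.deg U hU 1 := by rw [hfdef]; exact hj.2 U hU e₀
  have hcomm := hr.2 U hU G hG hle 1 one_pos f hf
  have hφf : (uOf q E 𝒮 j hj L 𝒮L jL hjL σ).gradedAt U hU G hG hle f =
      φAdd L 𝒮L.toQCAlg jL G (sec σ hle e₀) := by rw [hfdef]; exact gradedAt_j U hU G hG hle e₀
  have hiV : (Proj.awayι (𝒮.deg U hU) f hf one_pos ≫ RelProj.emb p chart U hU).opensRange =
      (RelProj.emb p chart U hU) ''ᵁ Proj.basicOpen (𝒮.deg U hU) f := by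
    rw [Scheme.Hom.opensRange_comp, Proj.opensRange_awayι]
  have h0 : IsOpenImmersion (RelProj.awayEmb (uOf q E 𝒮 j hj L 𝒮L jL hjL σ) pL chartL U hU G hG hle
      one_pos f hf) := by
    unfold RelProj.awayEmb; infer_instance
  have hiU : (RelProj.awayEmb (uOf q E 𝒮 j hj L 𝒮L jL hjL σ) pL chartL U hU G hG hle
      one_pos f hf).opensRange = pL ⁻¹ᵁ G := by
    unfold RelProj.awayEmb
    rw [Scheme.Hom.opensRange_comp, Proj.opensRange_awayι]
    change (RelProj.emb pL chartL G hG) ''ᵁ Proj.basicOpen (𝒮L.deg G hG)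
      ((uOf q E 𝒮 j hj L 𝒮L jL hjL σ).gradedAt U hU G hG hle f) = _
    rw [hφf, basicOpen_eq_top_of_isGen L 𝒮L jL hjL hG _ ht, Scheme.Hom.image_top_eq_opensRange,
      Groth.Agent.Helper13RL.opensRange_emb]
  have hpb : IsPullback
      (Spec.map (CommRingCat.ofHom (Away.map ((uOf q E 𝒮 j hj L 𝒮L jL hjL σ).gradedAt U hU G hG hle) f)))
      (RelProj.awayEmb (uOf q E 𝒮 j hj L 𝒮L jL hjL σ) pL chartL U hU G hG hle one_pos f hf)
      (Proj.awayι (𝒮.deg U hU) f hf one_pos ≫ RelProj.emb p chart U hU) r :=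
    IsOpenImmersion.isPullback _ _ _ _ hcomm (by rw [hiV, hpre, hiU])
  rw [← hiV, Groth.Agent.Helper13RL.restrict_iff_of_isPullback @IsClosedImmersion hpb,
    Groth.Agent.Helper13RL.specMap_isClosedImmersion_iff]
  exact hsurj

/-- immersions are stable under composition with open immersions on the right -/
instance respectsRight_isImmersion :
    MorphismProperty.RespectsRight (@IsImmersion : MorphismProperty Scheme.{u}) @IsOpenImmersion where
  postcomp i hi f hf := by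
    have : IsOpenImmersion i := hi
    have : IsImmersion f := hf
    exact (inferInstance : IsImmersion (f ≫ i))

include hL hP hPL hr hjL in
/-- **immersion criterion**: if `X` is covered by affine opens `G a`, each the generating locus (inside `q⁻¹ U a`) of the
section attached to some `e a ∈ Γ(E, U a)`, `U a` affine, with `Γ(G a, O_X)` generated by the functions of `U a` and the
ratios of the sections attached to the elements of `Γ(E, U a)`, then `r` is an immersion. -/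
theorem isImmersion_of_charts {ι : Type*} (U : ι → Y.Opens) (hU : ∀ a, IsAffineOpen (U a))
    (e : ∀ a, Γ(E, U a)) (G : ι → X.Opens) (hG : ∀ a, IsAffineOpen (G a))
    (hle : ∀ a, G a ≤ q ⁻¹ᵁ (U a)) (ht : ∀ a, IsGen L (G a) (sec σ (hle a) (e a)))
    (hfull : ∀ a, ∀ x ∈ q ⁻¹ᵁ (U a),
      Groth.Agent.Lib.Helper23.GenNear.IsGenNear L (q ⁻¹ᵁ (U a)) (sec σ le_rfl (e a)) x → x ∈ G a)
    (hring : ∀ a, Subring.closure (Set.range (q.appLE (U a) (G a) (hle a)).hom ∪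
      {c | ∃ e' : Γ(E, U a), c • sec σ (hle a) (e a) = sec σ (hle a) e'}) = ⊤)
    (hcov : ∀ x : X, ∃ a, x ∈ G a) : IsImmersion r := by
  refine IsZariskiLocalAtTarget.of_range_subset_iSup (P := @IsImmersion)
    (fun a => (RelProj.emb p chart (U a) (hU a)) ''ᵁ
      Proj.basicOpen (𝒮.deg (U a) (hU a)) ((j.app (U a)) (e a))) ?_ (fun a => ?_)
  · rintro _ ⟨y, rfl⟩
    obtain ⟨a, ha⟩ := hcov (pL.base y)
    refine Opens.mem_iSup.mpr ⟨a, ?_⟩
    have h1 : y ∈ pL ⁻¹ᵁ G a := ha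
    rw [← preimage_eq hP hL hPL hr (U a) (hU a) (e a) (G a) (hle a) (ht a) (hfull a)] at h1
    exact h1
  · have := isClosedImmersion_restrict hP hL hPL hr (U a) (hU a) (e a) (G a) (hG a) (hle a) (ht a)
      (hfull a) (hring a)
    infer_instance

end chart

end Groth.Agent.Helper18PD
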