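import Mathlib
import Groth.Prelude.Def_RelProj4
import Groth.Agent.Lib.Helper18PD

/-!
# Very ampleness from an invertible quotient `q^* E ⟶ L` with charts of sections (helper18)
-/

set_option autoImplicit false
set_option linter.style.haveILetI false

namespace Groth.Agent.Helper18PF

open CategoryTheory CategoryTheory.Limits AlgebraicGeometry Opposite TopologicalSpace
open Groth.Agent.Helper18PB Groth.Agent.Helper18PC Groth.Agent.Helper18PD
open Groth.Agent.Lib.Helper23.SecTw Groth.Agent.Lib.Helper6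

universe u

/-- **projective-bundle immersion from sections**: for `q : X ⟶ Y`, `E` quasi-coherent on `Y`, `L` invertible on `X` and an
epimorphism `σ : q^* E ⟶ L` such that `X` is covered by affine opens `G a`, each the generating locus inside `q⁻¹ U a` of
the section attached to some `e a ∈ Γ(E, U a)` (`U a` affine), with `Γ(G a, O_X)` generated by the functions of `U a` and the
ratios of the sections attached to `Γ(E, U a)`: there is an immersion `i : X ⟶ P(E)` over `Y` with `L ≅ i^* O(1)`. -/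
theorem exists_immersion_of_charts {X Y : Scheme.{u}} (q : X ⟶ Y) (E : Y.Modules) (hE : Coh.IsQCoh E)
    (L : X.Modules) (hL : PicF.IsInvertible L)
    (σ : (Scheme.Modules.pullback q).obj E ⟶ L) [Epi σ]
    {ι : Type*} (U : ι → Y.Opens) (hU : ∀ a, IsAffineOpen (U a))
    (e : ∀ a, Γ(E, U a)) (G : ι → X.Opens) (hG : ∀ a, IsAffineOpen (G a))
    (hle : ∀ a, G a ≤ q ⁻¹ᵁ (U a)) (ht : ∀ a, IsGen L (G a) (sec σ (hle a) (e a)))
    (hfull : ∀ a, ∀ x ∈ q ⁻¹ᵁ (U a),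
      Groth.Agent.Lib.Helper23.GenNear.IsGenNear L (q ⁻¹ᵁ (U a)) (sec σ le_rfl (e a)) x → x ∈ G a)
    (hring : ∀ a, Subring.closure (Set.range (q.appLE (U a) (G a) (hle a)).hom ∪
      {c | ∃ e' : Γ(E, U a), c • sec σ (hle a) (e a) = sec σ (hle a) e'}) = ⊤)
    (hcov : ∀ x : X, ∃ a, x ∈ G a) :
    ∃ (𝒮 : RelProj.QCGrAlg Y) (j : E ⟶ 𝒮.toModule) (_ : RelProj.IsGrSymAlg E 𝒮 j)
      (P : Scheme.{u}) (p : P ⟶ Y)
      (chart : ∀ (U : Y.Opens) (hU : IsAffineOpen U), (((p ⁻¹ᵁ U : P.Opens) : Scheme.{u}) ≅ Proj (𝒮.deg U hU)))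
      (_ : RelProj.IsRelProj 𝒮 p chart) (O1 : P.Modules)
      (lam : ∀ (U : Y.Opens) (hU : IsAffineOpen U),
        O1 ⟶ (Scheme.Modules.pushforward (RelProj.emb p chart U hU)).obj (GrTwist.twist (𝒮.deg U hU) 1))
      (_ : RelProj.IsRelTwist 𝒮 p chart 1 O1 lam) (i : X ⟶ P),
      IsImmersion i ∧ i ≫ p = q ∧ Nonempty (L ≅ (Scheme.Modules.pullback i).obj O1) := by
  haveI hEq : E.IsQuasicoherent := hE
  have hLq : Coh.IsQCoh L := isQuasicoherent_of_isInvertible L hL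
  haveI : L.IsQuasicoherent := hLq
  obtain ⟨𝒮, j, hj⟩ := Groth.Agent.Helper18GrSym.exists_isGrSymAlg E hE
  have hP := Groth.Agent.Helper13ProjBC.isRelProj_relProj 𝒮
  obtain ⟨O1, lam, hO1⟩ := Groth.Agent.Lib.Helper2.RelTwistExist.exists_isRelTwist
    (Groth.Agent.Helper13ProjBC.relProjπ 𝒮) (Groth.Agent.Helper13ProjBC.relProjChart 𝒮) hP 1
  obtain ⟨𝒮L, jL, hjL⟩ := Groth.Agent.Helper18GrSym.exists_isGrSymAlg L hLq
  have hPL := Groth.Agent.Helper13ProjBC.isRelProj_relProj 𝒮L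
  haveI hiso : IsIso (Groth.Agent.Helper13ProjBC.relProjπ 𝒮L) :=
    Groth.Agent.Helper13ProjLine.isIso_relProj L 𝒮L jL hjL _ _ hPL hL
  obtain ⟨r, hr⟩ := exists_isProjQMap q E 𝒮 j hj _ _ hP L 𝒮L jL hjL _ _ hPL σ
  have hcomp := isProjQMap_comp hP hPL hr
  obtain ⟨Φ⟩ := nonempty_iso hP O1 lam hO1 hL hPL hr
  haveI himm : IsImmersion r := isImmersion_of_charts hP hL hPL hr U hU e G hG hle ht hfull hring hcov
  refine ⟨𝒮, j, hj, _, Groth.Agent.Helper13ProjBC.relProjπ 𝒮, Groth.Agent.Helper13ProjBC.relProjChart 𝒮, hP,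
    O1, lam, hO1, inv (Groth.Agent.Helper13ProjBC.relProjπ 𝒮L) ≫ r, inferInstance, ?_, ⟨?_⟩⟩
  · rw [Category.assoc, hcomp, IsIso.inv_hom_id_assoc]
  · exact (Scheme.Modules.pullbackId X).symm.app L ≪≫
      (Scheme.Modules.pullbackCongr (IsIso.inv_hom_id (Groth.Agent.Helper13ProjBC.relProjπ 𝒮L)).symm).app L ≪≫
      (Scheme.Modules.pullbackComp (inv (Groth.Agent.Helper13ProjBC.relProjπ 𝒮L))
        (Groth.Agent.Helper13ProjBC.relProjπ 𝒮L)).symm.app L ≪≫
      (Scheme.Modules.pullback (inv (Groth.Agent.Helper13ProjBC.relProjπ 𝒮L))).mapIso Φ ≪≫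
      (Scheme.Modules.pullbackComp (inv (Groth.Agent.Helper13ProjBC.relProjπ 𝒮L)) r).app O1

end Groth.Agent.Helper18PF
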