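import Mathlib
import Groth.Prelude
import Groth.Agent.Lib.Helper23VeryAmple2
set_option backward.isDefEq.respectTransparency.types false

/-!
# Section data for large twists of an ample module over an affine base (helper18)

Namespace `Groth.Agent.Helper18PG`.  A variant of helper23's `isRelVeryAmplePn_twist_eventually` which outputs the sections
rather than the immersion.
-/

set_option autoImplicit false
set_option linter.style.haveILetI false
universe u

namespace Groth.Agent.Helper18PG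

open CategoryTheory Limits AlgebraicGeometry TopologicalSpace Opposite
open Groth.Agent.Lib.Helper23.SecTw Groth.Agent.Lib.Helper23.GenLocus Groth.Agent.Lib.Helper6
open Groth.Agent.Lib.Helper23.VeryAmple Groth.Agent.Lib.Helper23.VeryAmple2

open Groth.Agent.Lib.Helper23.AmpleIso in
/-- **sections of large twists**: for `g : X ⟶ S` locally of finite type with image in the affine open `V`, `L` ample and
`E` invertible on `X`, for all large `n` there are finitely many global sections `ρ x` of `E ⊗ L^n` with affine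
generating loci covering `X`, such that the functions on each locus are generated by those of `V` and the ratios
`τ / ρ x` of global sections. -/
theorem exists_section_data {X S : Scheme.{u}} (g : X ⟶ S) [LocallyOfFiniteType g]
    (L : X.Modules) (hL : CohB1.IsAmple L) (E : X.Modules) (hE : PicF.IsInvertible E)
    (V : S.Opens) (hV : IsAffineOpen V) (hgV : ∀ W : X.Opens, W ≤ g ⁻¹ᵁ V) :
    ∃ n₀ : ℕ, ∀ n, n₀ ≤ n → ∃ (T : Finset X)
      (ρ : {x // x ∈ T} → (Coh.structureModule X ⟶ CohB1.tensorMod E (CohB1.tensorPow L n)))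
      (τs : {x // x ∈ T} → Set (Coh.structureModule X ⟶ CohB1.tensorMod E (CohB1.tensorPow L n))),
      (∀ x, (τs x).Finite) ∧
      (∀ x, IsAffineOpen (CohB1.genLocus _ (ρ x))) ∧ (∀ y : X, ∃ x, y ∈ CohB1.genLocus _ (ρ x)) ∧
      ∀ x, Subring.closure (Set.range (g.appLE V (CohB1.genLocus _ (ρ x)) (hgV _)).hom ∪
        {b | ∃ τ ∈ τs x, sv τ (CohB1.genLocus _ (ρ x)) = b • sv (ρ x) (CohB1.genLocus _ (ρ x))}) = ⊤ := by
  classical
  haveI := hL.2.1
  haveI := quasiSeparatedSpace_of_isAmple L hL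
  have hinv := hL.1
  have h1 : ∀ x : X, ∃ (d : ℕ) (σ : Coh.structureModule X ⟶ CohB1.tensorPow L (d + 1)),
      x ∈ CohB1.genLocus _ σ ∧
      IsAffineOpen (CohB1.genLocus _ σ) ∧ (∃ e : Γ(E, CohB1.genLocus _ σ), IsGen E _ e) ∧
      (∃ e : Γ(L, CohB1.genLocus _ σ), IsGen L _ e) := by
    intro x
    obtain ⟨d, σ, hZ, -, haff, hE', hL'⟩ := exists_frame_of_finite L hL E hE {x} (Set.finite_singleton x)
      ⊤ (by simp)
    exact ⟨d, σ, hZ rfl, haff, hE', hL'⟩
  choose d σ hxσ haff heE heL using h1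
  choose eE heE using heE
  choose eL heL using heL
  obtain ⟨T₀, hT₀⟩ := CompactSpace.elim_nhds_subcover (fun x => (CohB1.genLocus _ (σ x) : Set X))
    (fun x => (CohB1.genLocus _ (σ x)).isOpen.mem_nhds (hxσ x))
  have h2 : ∀ x, ∃ B : Finset Γ(X, CohB1.genLocus _ (σ x)),
      Subring.closure (Set.range (g.appLE V _ (hgV _)).hom ∪ (B : Set Γ(X, CohB1.genLocus _ (σ x)))) = ⊤ := by
    intro x
    have hft := Scheme.Hom.finiteType_appLE g hV (haff x) (hgV _)
    letI := (g.appLE V _ (hgV (CohB1.genLocus _ (σ x)))).hom.toAlgebra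
    obtain ⟨B, hB⟩ := (show Algebra.FiniteType Γ(S, V) Γ(X, CohB1.genLocus _ (σ x)) from hft).out
    refine ⟨B, ?_⟩
    have h := Algebra.adjoin_eq_ring_closure (R := Γ(S, V)) (B : Set Γ(X, CohB1.genLocus _ (σ x)))
    rw [hB] at h
    exact h.symm.trans Algebra.top_toSubring
  choose B hB using h2
  have h3 := fun x => exists_sections_ratio L hinv E hE (d x) (σ x) (eE x) (heE x) (eL x) (heL x) (B x)
  choose N₀ hN₀ using h3
  refine ⟨T₀.sup N₀, fun n hn => ?_⟩
  have h4 : ∀ x : {x // x ∈ T₀}, ∃ ρ : Coh.structureModule X ⟶ CohB1.tensorMod E (CohB1.tensorPow L n),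
      CohB1.genLocus _ ρ = CohB1.genLocus _ (σ x.1) ∧
      ∀ b ∈ B x.1, ∃ τ : Coh.structureModule X ⟶ CohB1.tensorMod E (CohB1.tensorPow L n),
        sv τ (CohB1.genLocus _ (σ x.1)) = b • sv ρ (CohB1.genLocus _ (σ x.1)) :=
    fun x => hN₀ x.1 n ((Finset.le_sup x.2).trans hn)
  choose ρ hρ1 hρ2 using h4
  choose τ hτ using hρ2
  refine ⟨T₀, ρ, fun x => Set.range (fun b : {b // b ∈ B x.1} => τ x b.1 b.2), fun x => Set.finite_range _,
    fun x => ?_, fun y => ?_, fun x => ?_⟩
  · rw [hρ1]; exact haff _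
  · have hy : y ∈ ⋃ x ∈ T₀, (CohB1.genLocus _ (σ x) : Set X) := by rw [hT₀]; trivial
    simp only [Set.mem_iUnion] at hy
    obtain ⟨x, hx, hyx⟩ := hy
    exact ⟨⟨x, hx⟩, by rw [hρ1]; exact hyx⟩
  · have key : ∀ (G' : X.Opens) (hG' : G' = CohB1.genLocus _ (σ x.1)),
        Subring.closure (Set.range (g.appLE V G' (hgV _)).hom ∪
          {b | ∃ τ' ∈ Set.range (fun b : {b // b ∈ B x.1} => τ x b.1 b.2),
            sv τ' G' = b • sv (ρ x) G'}) = ⊤ := by
      rintro G' rfl
      rw [eq_top_iff, ← hB x.1]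
      apply Subring.closure_mono
      apply Set.union_subset_union_right
      intro b hb
      exact ⟨_, ⟨⟨b, hb⟩, rfl⟩, hτ x b hb⟩
    exact key _ (hρ1 x)

end Groth.Agent.Helper18PG
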