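import Mathlib
import Groth.Prelude.Def_RelProj4
import Groth.Agent.Lib.Helper18PF
import Groth.Agent.Lib.Helper23QCohLocal
import Groth.Agent.Lib.Helper23Serre

/-!
# Very ampleness relative to `f` from charts of sections of `f_* M` (helper18)

Namespace `Groth.Agent.Helper18PH`.
* `sec_cou` : the section attached through the counit `f^* f_* M ⟶ M` to `e ∈ Γ(f_* M, U) = Γ(M, f⁻¹ U)` is the restriction of `e`.
* `epi_of_charts` : `σ : q^* E ⟶ L` is an epimorphism as soon as the attached sections generate `L` locally.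
* `isRelVeryAmple_of_charts` : the criterion for `RelProj.IsRelVeryAmple f M` with `E = f_* M`.
-/

set_option autoImplicit false
set_option linter.style.haveILetI false
set_option linter.unusedSectionVars false

namespace Groth.Agent.Helper18PH

open CategoryTheory CategoryTheory.Limits AlgebraicGeometry Opposite TopologicalSpace
open Groth.Agent.Helper18PD Groth.Agent.Helper18PF Groth.Agent.Helper13PullbackUnit
open Groth.Agent.Lib.Helper23.SecTw Groth.Agent.Lib.Helper6 Groth.Agent.Lib.Helper23.GenLocus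

universe u

variable {X Y : Scheme.{u}}

/-- restriction of attached sections (no hypotheses on the modules) -/
theorem res_sec' (q : X ⟶ Y) (E : Y.Modules) (L : X.Modules)
    (σ : (Scheme.Modules.pullback q).obj E ⟶ L) {U : Y.Opens} {V V' : X.Opens} (hle : V ≤ q ⁻¹ᵁ U) (h : V' ≤ V)
    (e : Γ(E, U)) : res L h (sec σ hle e) = sec σ (h.trans hle) e := by
  unfold sec
  have h1 := Groth.Agent.Lib.Helper23.Extend.app_map σ (homOfLE h) (unitSec q E hle e)
  have h2 := Groth.Agent.Lib.Helper23.PB.res_unitSec q E hle (h.trans hle) le_rfl h e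
  rw [res_self] at h2
  change L.presheaf.map (homOfLE h).op (σ.app V (unitSec q E hle e)) = _
  rw [← h1]
  congr 1

/-- `σ` is an epimorphism as soon as the sections attached to sections of `E` generate `L` locally -/
theorem epi_of_charts (q : X ⟶ Y) (E : Y.Modules) (L : X.Modules)
    (σ : (Scheme.Modules.pullback q).obj E ⟶ L)
    {ι : Type*} (U : ι → Y.Opens) (e : ∀ a, Γ(E, U a)) (G : ι → X.Opens)
    (hle : ∀ a, G a ≤ q ⁻¹ᵁ (U a)) (ht : ∀ a, IsGen L (G a) (sec σ (hle a) (e a)))
    (hcov : ∀ x : X, ∃ a, x ∈ G a) : Epi σ := by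
  apply Groth.Agent.Lib.Helper23.Serre.epi_of_locally_surjective
  intro V t x hxV
  obtain ⟨a, hxa⟩ := hcov x
  refine ⟨V ⊓ G a, inf_le_left, ⟨hxV, hxa⟩, ?_⟩
  obtain ⟨c, hc⟩ := (ht a (V ⊓ G a) inf_le_right).2 (res L inf_le_left t)
  simp only [] at hc
  refine ⟨c • unitSec q E (inf_le_right.trans (hle a)) (e a), ?_⟩
  rw [Scheme.Modules.Hom.app_smul]
  rw [res_sec'] at hc
  exact hc

variable (f : X ⟶ Y) (M : X.Modules)

/-- the counit `f^* f_* M ⟶ M` -/
noncomputable abbrev cou : (Scheme.Modules.pullback f).obj ((Scheme.Modules.pushforward f).obj M) ⟶ M :=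
  (Scheme.Modules.pullbackPushforwardAdjunction f).counit.app M

/-- the section attached through the counit to a section of `f_* M` is its restriction -/
theorem sec_cou {U : Y.Opens} {V : X.Opens} (hle : V ≤ f ⁻¹ᵁ U) (e : Γ(M, f ⁻¹ᵁ U)) :
    sec (cou f M) hle (show Γ((Scheme.Modules.pushforward f).obj M, U) from e) = res M hle e := by
  unfold sec
  rw [unitSec_apply]
  have h1 := Groth.Agent.Lib.Helper23.Extend.app_map (cou f M) (homOfLE hle)
    (((Scheme.Modules.pullbackPushforwardAdjunction f).unit.app ((Scheme.Modules.pushforward f).obj M)).app U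
      (show Γ((Scheme.Modules.pushforward f).obj M, U) from e))
  refine h1.trans ?_
  have h2 := (Scheme.Modules.pullbackPushforwardAdjunction f).right_triangle_components M
  have h3 := congrArg (fun φ => Scheme.Modules.Hom.app φ U (show Γ((Scheme.Modules.pushforward f).obj M, U) from e)) h2
  simp only [] at h3
  change M.presheaf.map (homOfLE hle).op _ = M.presheaf.map (homOfLE hle).op e
  congr 1

/-- **criterion for relative very ampleness with `E = f_* M`** -/
theorem isRelVeryAmple_of_charts [QuasiCompact f] [QuasiSeparated f] (hM : PicF.IsInvertible M)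
    {ι : Type*} (U : ι → Y.Opens) (hU : ∀ a, IsAffineOpen (U a))
    (t : ∀ a, Γ(M, f ⁻¹ᵁ U a)) (G : ι → X.Opens) (hG : ∀ a, IsAffineOpen (G a))
    (hle : ∀ a, G a ≤ f ⁻¹ᵁ (U a)) (ht : ∀ a, IsGen M (G a) (res M (hle a) (t a)))
    (hfull : ∀ a, ∀ x ∈ f ⁻¹ᵁ (U a),
      Groth.Agent.Lib.Helper23.GenNear.IsGenNear M (f ⁻¹ᵁ (U a)) (t a) x → x ∈ G a)
    (hring : ∀ a, Subring.closure (Set.range (f.appLE (U a) (G a) (hle a)).hom ∪
      {c | ∃ e' : Γ(M, f ⁻¹ᵁ U a), c • res M (hle a) (t a) = res M (hle a) e'}) = ⊤)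
    (hcov : ∀ x : X, ∃ a, x ∈ G a) : RelProj.IsRelVeryAmple f M := by
  haveI : M.IsQuasicoherent := isQuasicoherent_of_isInvertible M hM
  have hE : Coh.IsQCoh ((Scheme.Modules.pushforward f).obj M) :=
    Groth.Agent.Lib.Helper23.QCohLocal.isQuasicoherent_pushforward f M
  have ht' : ∀ a, IsGen M (G a) (sec (cou f M) (hle a)
      (show Γ((Scheme.Modules.pushforward f).obj M, U a) from t a)) := fun a => by
    rw [sec_cou]; exact ht a
  haveI : Epi (cou f M) := epi_of_charts f _ M (cou f M) U
    (fun a => (show Γ((Scheme.Modules.pushforward f).obj M, U a) from t a)) G hle ht' hcov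
  obtain ⟨𝒮, j, hj, P, p, chart, hP, O1, lam, hO1, i, hi, hip, hiso⟩ :=
    exists_immersion_of_charts f ((Scheme.Modules.pushforward f).obj M) hE M hM (cou f M) U hU
      (fun a => (show Γ((Scheme.Modules.pushforward f).obj M, U a) from t a)) G hG hle ht'
      (fun a x hx h => hfull a x hx (by
        have h2 := sec_cou f M (le_refl (f ⁻¹ᵁ U a)) (t a)
        rw [h2, res_self] at h
        exact h))
      (fun a => by
        rw [eq_top_iff, ← hring a]
        apply Subring.closure_mono
        apply Set.union_subset_union_right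
        rintro c ⟨e', he'⟩
        refine ⟨(show Γ((Scheme.Modules.pushforward f).obj M, U a) from e'), ?_⟩
        rw [sec_cou, sec_cou]
        exact he') hcov
  exact ⟨_, hE, 𝒮, j, hj, P, p, chart, hP, O1, lam, hO1, i, hi, hip, hiso⟩

end Groth.Agent.Helper18PH
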