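import Mathlib
import Groth.Prelude
import Groth.Agent.Lib.Helper23GenNear
import Groth.Agent.Lib.Helper23VeryAmple2
set_option backward.isDefEq.respectTransparency.types false

/-!
# Transport of section data from the open subscheme `f⁻¹ V` to `X` (helper18)

Namespace `Groth.Agent.Helper18PI`.
-/

set_option autoImplicit false
set_option linter.style.haveILetI false
universe u

namespace Groth.Agent.Helper18PI

open CategoryTheory Limits AlgebraicGeometry TopologicalSpace Opposite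
open Groth.Agent.Lib.Helper23.SecTw Groth.Agent.Lib.Helper23.GenLocus Groth.Agent.Lib.Helper6
open Groth.Agent.Lib.Helper23.GenNear Groth.Agent.Lib.Helper23.VeryAmple2 Groth.Agent.Lib.Helper23.AmpleIso

variable {X : Scheme.{u}} (M : X.Modules) (U : X.Opens)

theorem le_image_top : U ≤ U.ι ''ᵁ ⊤ := by
  rw [Scheme.Hom.image_top_eq_opensRange, Scheme.Opens.opensRange_ι]

/-- sections of the restriction are sections over the image (the identity) -/
def up (V' : (↑U : Scheme.{u}).Opens) (s : Γ(M.restrict U.ι, V')) : Γ(M, U.ι ''ᵁ V') := s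

/-- functions on the open subscheme are functions on the image (the identity) -/
def upF (V' : (↑U : Scheme.{u}).Opens) (b : Γ((↑U : Scheme.{u}), V')) : Γ(X, U.ι ''ᵁ V') := b

/-- the section of `M` over `U` attached to a global section of `M.restrict U.ι` -/
noncomputable def secU (ρ' : Coh.structureModule (↑U : Scheme.{u}) ⟶ M.restrict U.ι) : Γ(M, U) :=
  res M (le_image_top U) (up M U ⊤ (sv ρ' ⊤))

theorem restrSecLocal_secU (ρ' : Coh.structureModule (↑U : Scheme.{u}) ⟶ M.restrict U.ι) :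
    restrSecLocal M U (secU M U ρ') = ρ' := by
  apply hom_ext_of_sv
  rw [sv_restrSecLocal]
  exact (res_res M _ _ _).trans (res_self M _)

theorem res_secU (ρ' : Coh.structureModule (↑U : Scheme.{u}) ⟶ M.restrict U.ι) (V' : (↑U : Scheme.{u}).Opens) :
    res M (image_le_self U V') (secU M U ρ') = up M U V' (sv ρ' V') := by
  have := sv_restrSecLocal M U (secU M U ρ') V'
  rw [restrSecLocal_secU] at this
  exact this.symm

theorem isGen_secU (ρ' : Coh.structureModule (↑U : Scheme.{u}) ⟶ M.restrict U.ι) :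
    IsGen M (U.ι ''ᵁ CohB1.genLocus _ ρ') (res M (image_le_self U _) (secU M U ρ')) := by
  rw [res_secU]
  exact isGen_of_isGen_restrict M U _ _ (isGen_sv_genLocus (M.restrict U.ι) ρ')

theorem mem_of_isGenNear_secU (ρ' : Coh.structureModule (↑U : Scheme.{u}) ⟶ M.restrict U.ι) (x : X) (hx : x ∈ U)
    (h : IsGenNear M U (secU M U ρ') x) : x ∈ U.ι ''ᵁ CohB1.genLocus _ ρ' := by
  have := (mem_genLocus_restrSecLocal_iff M U (secU M U ρ') ⟨x, hx⟩).2 h
  rw [restrSecLocal_secU] at this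
  exact ⟨⟨x, hx⟩, this, rfl⟩

theorem smul_res_secU (ρ' τ' : Coh.structureModule (↑U : Scheme.{u}) ⟶ M.restrict U.ι) (G' : (↑U : Scheme.{u}).Opens)
    (b : Γ((↑U : Scheme.{u}), G')) (h : sv τ' G' = b • sv ρ' G') :
    (upF U G' b • res M (image_le_self U G') (secU M U ρ') : Γ(M, U.ι ''ᵁ G')) =
      res M (image_le_self U G') (secU M U τ') := by
  rw [res_secU, res_secU]
  have h2 := smul_restrict_eq M U G' b (sv ρ' G')
  rw [← h] at h2
  exact h2.symm

variable {Y : Scheme.{u}} (f : X ⟶ Y)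

theorem appLE_comp_ι (V : Y.Opens) (G' : (↑U : Scheme.{u}).Opens) (hle' : G' ≤ (U.ι ≫ f) ⁻¹ᵁ V)
    (hle : U.ι ''ᵁ G' ≤ f ⁻¹ᵁ V) (a : Γ(Y, V)) :
    upF U G' ((U.ι ≫ f).appLE V G' hle' a) = f.appLE V (U.ι ''ᵁ G') hle a := by
  rw [Scheme.Hom.comp_appLE, Scheme.Opens.ι_appLE]
  rfl

/-- **transport of chart data** from the open subscheme `U` to `X` -/
theorem chart_data (V : Y.Opens) (hUV : U ≤ f ⁻¹ᵁ V) {N : (↑U : Scheme.{u}).Modules} (Φ : M.restrict U.ι ≅ N)
    (ρ : Coh.structureModule (↑U : Scheme.{u}) ⟶ N) (haff : IsAffineOpen (CohB1.genLocus N ρ))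
    (hle' : CohB1.genLocus N ρ ≤ (U.ι ≫ f) ⁻¹ᵁ V)
    (τs : Set (Coh.structureModule (↑U : Scheme.{u}) ⟶ N)) (hτs : τs.Finite)
    (hring : Subring.closure (Set.range ((U.ι ≫ f).appLE V (CohB1.genLocus N ρ) hle').hom ∪
      {b | ∃ τ ∈ τs, sv τ (CohB1.genLocus N ρ) = b • sv ρ (CohB1.genLocus N ρ)}) = ⊤) :
    ∃ (t : Γ(M, U)) (G : X.Opens) (hle : G ≤ U) (F : Set Γ(M, U)), F.Finite ∧
      G = U.ι ''ᵁ (CohB1.genLocus N ρ) ∧ IsAffineOpen G ∧
      IsGen M G (res M hle t) ∧ (∀ x ∈ U, IsGenNear M U t x → x ∈ G) ∧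
      Subring.closure (Set.range (f.appLE V G (hle.trans hUV)).hom ∪
        {c | ∃ e' ∈ F, c • res M hle t = res M hle e'}) = ⊤ := by
  have hgl : CohB1.genLocus _ (ρ ≫ Φ.inv) = CohB1.genLocus N ρ := genLocus_comp_iso Φ.symm ρ
  have key : ∀ (G' : (↑U : Scheme.{u}).Opens) (hG' : CohB1.genLocus N ρ = G') (hle'' : G' ≤ (U.ι ≫ f) ⁻¹ᵁ V),
      Subring.closure (Set.range ((U.ι ≫ f).appLE V G' hle'').hom ∪
        {b | ∃ τ ∈ τs, sv τ G' = b • sv ρ G'}) = ⊤ →
      CohB1.genLocus _ (ρ ≫ Φ.inv) = G' →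
      Subring.closure (Set.range (f.appLE V (U.ι ''ᵁ G') ((image_le_self U G').trans hUV)).hom ∪
        {c | ∃ e' ∈ (fun τ => secU M U (τ ≫ Φ.inv)) '' τs,
          c • res M (image_le_self U G') (secU M U (ρ ≫ Φ.inv)) =
          res M (image_le_self U G') e'}) = ⊤ := by
    intro G' hG' hle'' hr hgl'
    have hsub : (Set.range ((U.ι ≫ f).appLE V G' hle'').hom ∪
        {b | ∃ τ ∈ τs, sv τ G' = b • sv ρ G'} :
          Set Γ((↑U : Scheme.{u}), G')) ⊆
        (show Set Γ((↑U : Scheme.{u}), G') from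
          (Set.range (f.appLE V (U.ι ''ᵁ G') ((image_le_self U G').trans hUV)).hom ∪
          {c | ∃ e' ∈ (fun τ => secU M U (τ ≫ Φ.inv)) '' τs,
            c • res M (image_le_self U G') (secU M U (ρ ≫ Φ.inv)) =
            res M (image_le_self U G') e'} : Set Γ(X, U.ι ''ᵁ G'))) := by
      rintro b (⟨a, rfl⟩ | ⟨τ, hτm, hτ⟩)
      · exact Or.inl ⟨a, (appLE_comp_ι U f V G' hle'' _ a).symm⟩
      · refine Or.inr ⟨secU M U (τ ≫ Φ.inv), ⟨τ, hτm, rfl⟩, ?_⟩
        refine smul_res_secU M U (ρ ≫ Φ.inv) (τ ≫ Φ.inv) G' b ?_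
        rw [sv_comp, sv_comp, hτ, Scheme.Modules.Hom.app_smul]
    rw [eq_top_iff]
    have h2 := Subring.closure_mono hsub
    rw [hr] at h2
    exact h2
  refine ⟨secU M U (ρ ≫ Φ.inv), U.ι ''ᵁ (CohB1.genLocus N ρ), image_le_self U _,
    (fun τ => secU M U (τ ≫ Φ.inv)) '' τs, hτs.image _, rfl,
    haff.image_of_isOpenImmersion U.ι, ?_, ?_, key _ rfl hle' hring hgl⟩
  · have := isGen_secU M U (ρ ≫ Φ.inv)
    have key2 : ∀ (G' : (↑U : Scheme.{u}).Opens), CohB1.genLocus _ (ρ ≫ Φ.inv) = G' →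
        IsGen M (U.ι ''ᵁ G') (res M (image_le_self U _) (secU M U (ρ ≫ Φ.inv))) := by
      rintro _ rfl
      exact this
    exact key2 _ hgl
  · intro x hx h
    have := mem_of_isGenNear_secU M U (ρ ≫ Φ.inv) x hx h
    rwa [hgl] at this

end Groth.Agent.Helper18PI
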