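import Mathlib
import Groth.Prelude
import Groth.Agent.Lib.Helper23SurjOn
import Groth.Agent.Lib.Helper23CounitEpi
import Groth.Agent.Lib.Helper23FTsub
import Groth.Agent.Lib.Helper23Restr2
import Groth.Agent.Lib.Helper1Sky9
set_option backward.isDefEq.respectTransparency.types false

/-!
# The resolution property along a morphism with a relatively ample module (helper23)

Namespace `Groth.Agent.Lib.Helper23.RelRes`.

* `exists_epi_freeMod_twist` : `L` ample, `M` quasi-coherent of finite type ⇒ `M ⊗ L^n` is a quotient of some `O^k` for all large `n`.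
* `exists_epi_of_twist'` : untwisting an epimorphism `E₀ ⟶ M ⊗ P` from a finite locally free `E₀`.
* `epi_homEquiv_symm` : criterion for the adjoint of `φ : E ⟶ G N` to be an epimorphism.
-/

set_option autoImplicit false
universe u
open CategoryTheory CategoryTheory.Limits AlgebraicGeometry TopologicalSpace Opposite

namespace Groth.Agent.Lib.Helper23.RelRes
open Groth.Agent.Lib.Helper23.SecTw Groth.Agent.Lib.Helper23.GenLocus Groth.Agent.Lib.Helper6
open Groth.Agent.Lib.Helper23.AmpleIso Groth.Agent.Lib.Helper23.LocGen Groth.Agent.Lib.Helper23.TensorUnit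
open Groth.Agent.Lib.Helper21.ModTensor3 Groth.Agent.Lib.Helper21.ModTensor5
open Groth.Agent.Lib.Helper23.ResProp Groth.Agent.Lib.Helper23.ModLocal Groth.Agent.Lib.Helper23.SurjOn
open Groth.Agent.Lib.Helper23.FinGen

section Abs

/-- the adjoint of `φ : E ⟶ G N` is an epimorphism as soon as morphisms out of `N` are determined by their effect on the
image of `φ` -/
theorem epi_homEquiv_symm {C D : Type*} [Category C] [Category D] {F : C ⥤ D} {G : D ⥤ C} (adj : F ⊣ G)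
    {E : C} {N : D} (φ : E ⟶ G.obj N)
    (h : ∀ (Q : D) (ψ₁ ψ₂ : N ⟶ Q), φ ≫ G.map ψ₁ = φ ≫ G.map ψ₂ → ψ₁ = ψ₂) :
    Epi ((adj.homEquiv E N).symm φ) := by
  refine ⟨fun {Q} ψ₁ ψ₂ hψ => h Q ψ₁ ψ₂ ?_⟩
  rw [← Adjunction.homEquiv_naturality_right_symm, ← Adjunction.homEquiv_naturality_right_symm] at hψ
  exact (adj.homEquiv E Q).symm.injective hψ

end Abs

variable {X : Scheme.{u}}

/-- for `L` ample and `M` quasi-coherent of finite type, all large twists `M ⊗ L^n` are quotients of finite free modules -/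
theorem exists_epi_freeMod_twist (L : X.Modules) (hL : CohB1.IsAmple L) (M : X.Modules) [M.IsQuasicoherent]
    [SheafOfModules.IsFiniteType (R := X.ringCatSheaf) M] :
    ∃ n₀ : ℕ, ∀ n, n₀ ≤ n →
      ∃ (k : ℕ) (p : FlatMod.freeMod X k ⟶ CohB1.tensorMod M (CohB1.tensorPow L n)), Epi p := by
  haveI := hL.2.1
  choose V N hxV hN using exists_locGen_nhd L hL M
  obtain ⟨T, hT⟩ : ∃ T : Finset X, (Set.univ : Set X) ⊆ ⋃ x ∈ T, (V x : Set X) :=
    isCompact_univ.elim_finite_subcover (fun x => (V x : Set X)) (fun x => (V x).2)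
      (fun x _ => Set.mem_iUnion.2 ⟨x, hxV x⟩)
  refine ⟨T.sup N, fun n hn => ?_⟩
  have hP := isInvertible_tensorPow hL.1 n
  haveI : (CohB1.tensorPow L n).IsQuasicoherent := isQuasicoherent_of_isInvertible _ hP
  haveI : SheafOfModules.IsFiniteType (R := X.ringCatSheaf) (CohB1.tensorPow L n) :=
    Groth.Agent.Lib.Helper20.ZClosLib.isFiniteType_of_isInvertible _ hP
  haveI := Groth.Agent.Lib.Helper23.TensorQCoh.isQuasicoherent_tensorMod M (CohB1.tensorPow L n)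
  haveI := Groth.Agent.Lib.Helper23.TensorQCoh.isFiniteType_tensorMod M (CohB1.tensorPow L n)
  exact exists_epi_freeMod_of_locGen (CohB1.tensorMod M (CohB1.tensorPow L n)) (fun y => by
    obtain ⟨x, hx⟩ := Set.mem_iUnion.1 (hT (Set.mem_univ y))
    obtain ⟨hxT, hyx⟩ := Set.mem_iUnion.1 hx
    exact ⟨V x, hyx, hN x n ((Finset.le_sup hxT).trans hn)⟩)

/-- untwisting an epimorphism from a finite locally free module -/
theorem exists_epi_of_twist' (M P : X.Modules) (hP : PicF.IsInvertible P) {E₀ : X.Modules}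
    (hE₀ : FlatMod.IsFinLocFree E₀) (p : E₀ ⟶ CohB1.tensorMod M P) [Epi p] :
    ∃ (E : X.Modules) (π : E ⟶ M), FlatMod.IsFinLocFree E ∧ Epi π := by
  obtain ⟨e⟩ := Groth.Agent.Lib.Helper23.InvDual.nonempty_tensorMod_dual_iso P hP
  refine ⟨CohB1.tensorMod E₀ (RefHull.dual P), untwist p e, ?_, inferInstance⟩
  exact isFinLocFree_tensorMod _ _ hE₀
    (isFinLocFree_of_isInvertible _ (Groth.Agent.Lib.Helper23.InvDual.isInvertible_dual P hP))

/-- the section of `N` over `U` given by a global section of `N|_U` -/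
noncomputable def secOf (N : X.Modules) (U : X.Opens) (σ : Coh.structureModule (↑U : Scheme.{u}) ⟶ N.restrict U.ι) :
    Γ(N, U) :=
  res N (le_of_eq (Scheme.Opens.ι_image_top U).symm) (show Γ(N, U.ι ''ᵁ ⊤) from sv σ ⊤)

theorem app_secOf {N Q : X.Modules} (ψ : N ⟶ Q) (U : X.Opens)
    (σ : Coh.structureModule (↑U : Scheme.{u}) ⟶ N.restrict U.ι) :
    ψ.app U (secOf N U σ) = secOf Q U (σ ≫ (Scheme.Modules.restrictFunctor U.ι).map ψ) := by
  unfold secOf
  exact Groth.Agent.Lib.Helper23.Extend.app_map ψ (homOfLE (le_of_eq (Scheme.Opens.ι_image_top U).symm)) _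

theorem secOf_injective (N : X.Modules) (U : X.Opens)
    (σ τ : Coh.structureModule (↑U : Scheme.{u}) ⟶ N.restrict U.ι) (h : secOf N U σ = secOf N U τ) : σ = τ := by
  apply hom_ext_of_sv
  unfold secOf at h
  have h2 := congrArg (res N (le_of_eq (Scheme.Opens.ι_image_top U))) h
  rw [res_res, res_res] at h2
  have h3 : ∀ m : Γ(N, U.ι ''ᵁ ⊤), res N (le_refl _) m = m := fun m => res_self N m
  exact (h3 _).symm.trans (h2.trans (h3 _))

/-- if `N|_U` is a quotient of a finite free module whose generators are sections equalized by `ψ₁`, `ψ₂`, then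
`ψ₁` and `ψ₂` agree over `U` -/
theorem app_eq_of_epi_freeMod {N Q : X.Modules} (ψ₁ ψ₂ : N ⟶ Q) (U : X.Opens) {k : ℕ}
    (p : FlatMod.freeMod (↑U : Scheme.{u}) k ⟶ N.restrict U.ι) [Epi p]
    (h : ∀ j : Fin k, ψ₁.app U (secOf N U (Sigma.ι (fun _ : Fin k => Coh.structureModule (↑U : Scheme.{u})) j ≫ p)) =
      ψ₂.app U (secOf N U (Sigma.ι (fun _ : Fin k => Coh.structureModule (↑U : Scheme.{u})) j ≫ p))) :
    ∀ W : X.Opens, W ≤ U → ψ₁.app W = ψ₂.app W := by
  have key : (Scheme.Modules.restrictFunctor U.ι).map ψ₁ = (Scheme.Modules.restrictFunctor U.ι).map ψ₂ := by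
    rw [← cancel_epi p]
    apply Sigma.hom_ext
    intro j
    rw [← Category.assoc, ← Category.assoc]
    apply secOf_injective Q U
    rw [← app_secOf, ← app_secOf]
    exact h j
  intro W hW
  have h3 : ∀ W' : (↑U : Scheme.{u}).Opens, ψ₁.app (U.ι ''ᵁ W') = ψ₂.app (U.ι ''ᵁ W') :=
    fun W' => congrArg (fun m => Scheme.Modules.Hom.app m W') key
  have h4 : ∀ W₁ : X.Opens, W₁ = W → ψ₁.app W₁ = ψ₂.app W₁ → ψ₁.app W = ψ₂.app W := by
    rintro W₁ rfl h; exact h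
  refine h4 _ ?_ (h3 (U.ι ⁻¹ᵁ W))
  rw [Scheme.Hom.image_preimage_eq_opensRange_inf, Scheme.Opens.opensRange_ι]
  exact inf_eq_right.2 hW

theorem section_ext_of_cover (F : X.Modules) (W : X.Opens) (a b : Γ(F, W))
    (h : ∀ x ∈ W, ∃ (U : X.Opens) (hUW : U ≤ W), x ∈ U ∧ res F hUW a = res F hUW b) : a = b := by
  rw [← sub_eq_zero]
  refine Groth.Agent.Lib.Helper2.QcPush.section_eq_zero_of_cover F W (a - b) (fun x hx => ?_)
  obtain ⟨U, hUW, hxU, hab⟩ := h x hx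
  refine ⟨U, hUW, hxU, ?_⟩
  rw [map_sub]
  exact sub_eq_zero.2 hab

variable {Y : Scheme.{u}} (f : X ⟶ Y)

/-- morphisms out of `N` equalized after composing with `φ = q ≫ i : E ⟶ G ⟶ f_* N` (`q` epi) agree on the sections of
`G` -/
theorem app_eq_of_comp_eq {N Q : X.Modules} (ψ₁ ψ₂ : N ⟶ Q) {E G : Y.Modules} (q : E ⟶ G) [Epi q]
    (i : G ⟶ (Scheme.Modules.pushforward f).obj N)
    (hψ : (q ≫ i) ≫ (Scheme.Modules.pushforward f).map ψ₁ = (q ≫ i) ≫ (Scheme.Modules.pushforward f).map ψ₂)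
    (V : Y.Opens) (g : Γ(G, V)) :
    ψ₁.app (f ⁻¹ᵁ V) (i.app V g) = ψ₂.app (f ⁻¹ᵁ V) (i.app V g) := by
  refine section_ext_of_cover Q (f ⁻¹ᵁ V) _ _ (fun x hx => ?_)
  obtain ⟨V', hV'V, hyV', e, he⟩ := Groth.Agent.Lib.Helper4.ModEpi.exists_app_eq_of_epi q V g (f x) hx
  have hle : f ⁻¹ᵁ V' ≤ f ⁻¹ᵁ V := fun z hz => hV'V hz
  refine ⟨f ⁻¹ᵁ V', hle, hyV', ?_⟩
  have h1 : ∀ ψ : N ⟶ Q, res Q hle (ψ.app (f ⁻¹ᵁ V) (i.app V g)) = ψ.app (f ⁻¹ᵁ V') ((q ≫ i).app V' e) := by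
    intro ψ
    have e1 := Groth.Agent.Lib.Helper23.Extend.app_map ψ (homOfLE hle) (i.app V g)
    refine e1.symm.trans ?_
    congr 1
    have e2 := Groth.Agent.Lib.Helper23.Extend.app_map i (homOfLE hV'V) g
    have e3 : (q ≫ i).app V' e = i.app V' (q.app V' e) := rfl
    rw [e3, he]
    exact e2.symm
  rw [h1 ψ₁, h1 ψ₂]
  exact congrArg (fun m : E ⟶ (Scheme.Modules.pushforward f).obj Q => m.app V' e) hψ


theorem quasiSeparated_of_isRelAmple (L : X.Modules) (h : RelAmple.IsRelAmple f L) : QuasiSeparated f := by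
  refine HasAffineProperty.of_iSup_eq_top (P := @QuasiSeparated) (fun V : Y.affineOpens => V)
    (iSup_affineOpens_eq_top Y) (fun V => ?_)
  exact quasiSeparatedSpace_of_isAmple _ (h.2 V)

open Groth.Agent.Lib.Helper23.CounitEpi Groth.Agent.Lib.Helper23.RestrTensor in
/-- **Resolution property along a morphism with a relatively ample invertible module.** -/
theorem hasResolutionProperty_of_isRelAmple [CompactSpace Y] [QuasiSeparatedSpace Y]
    (hY : PerfAux.HasResolutionProperty Y) (L : X.Modules) (hL : RelAmple.IsRelAmple f L) :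
    PerfAux.HasResolutionProperty X := by
  classical
  intro M hM hM'
  haveI : M.IsQuasicoherent := hM
  haveI : SheafOfModules.IsFiniteType (R := X.ringCatSheaf) M := hM'
  haveI : QuasiCompact f := hL.1
  haveI : QuasiSeparated f := quasiSeparated_of_isRelAmple f L hL
  haveI : CompactSpace X := QuasiCompact.compactSpace_of_compactSpace f
  have hinv := isInvertible_of_isRelAmple f L hL
  -- a finite affine cover of `Y`
  obtain ⟨T, hT⟩ : ∃ T : Finset Y.affineOpens, ∀ y : Y, ∃ V ∈ T, y ∈ V.1 := by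
    have hcov : ∀ y : Y, ∃ V : Y.affineOpens, y ∈ V.1 := by
      intro y
      obtain ⟨V, hV, hyV, -⟩ := Opens.isBasis_iff_nbhd.1 Y.isBasis_affineOpens (Opens.mem_top y)
      exact ⟨⟨V, hV⟩, hyV⟩
    choose V hV using hcov
    obtain ⟨T₀, hT₀⟩ : ∃ T₀ : Finset Y, (Set.univ : Set Y) ⊆ ⋃ y ∈ T₀, ((V y).1 : Set Y) :=
      isCompact_univ.elim_finite_subcover (fun y => ((V y).1 : Set Y)) (fun y => (V y).1.2)
        (fun y _ => Set.mem_iUnion.2 ⟨y, hV y⟩)
    refine ⟨T₀.image V, fun y => ?_⟩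
    obtain ⟨y₀, hy₀⟩ := Set.mem_iUnion.1 (hT₀ (Set.mem_univ y))
    obtain ⟨hy₀T, hyy₀⟩ := Set.mem_iUnion.1 hy₀
    exact ⟨V y₀, Finset.mem_image_of_mem V hy₀T, hyy₀⟩
  -- over each affine open, large twists are quotients of finite free modules
  have key : ∀ V : Y.affineOpens, ∃ n₀ : ℕ, ∀ n, n₀ ≤ n → ∃ (k : ℕ)
      (p : FlatMod.freeMod (↑(f ⁻¹ᵁ V.1) : Scheme.{u}) k ⟶
        (CohB1.tensorMod M (CohB1.tensorPow L n)).restrict (f ⁻¹ᵁ V.1).ι), Epi p := by
    intro V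
    haveI : (M.restrict (f ⁻¹ᵁ V.1).ι).IsQuasicoherent :=
      Scheme.Modules.isQuasicoherent_restrictFunctor (f ⁻¹ᵁ V.1).ι M
    haveI : SheafOfModules.IsFiniteType (R := ((f ⁻¹ᵁ V.1 : X.Opens) : Scheme.{u}).ringCatSheaf)
        (M.restrict (f ⁻¹ᵁ V.1).ι) :=
      Groth.Agent.Lib.Helper23.FinType.isFiniteType_restrict (f ⁻¹ᵁ V.1).ι M
    obtain ⟨n₀, hn₀⟩ := exists_epi_freeMod_twist (L.restrict (f ⁻¹ᵁ V.1).ι) (hL.2 V) (M.restrict (f ⁻¹ᵁ V.1).ι)
    refine ⟨n₀, fun n hn => ?_⟩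
    obtain ⟨k, p, hp⟩ := hn₀ n hn
    obtain ⟨e⟩ := nonempty_restrict_twist_iso M L hinv (f ⁻¹ᵁ V.1) n
    exact ⟨k, p ≫ e.inv, epi_comp _ _⟩
  choose N₀ hN₀ using key
  obtain ⟨n, hn⟩ : ∃ n : ℕ, ∀ V ∈ T, N₀ V ≤ n := ⟨T.sup N₀, fun V hV => Finset.le_sup hV⟩
  have hPn := isInvertible_tensorPow hinv n
  haveI : (CohB1.tensorPow L n).IsQuasicoherent := isQuasicoherent_of_isInvertible _ hPn
  haveI := Groth.Agent.Lib.Helper23.TensorQCoh.isQuasicoherent_tensorMod M (CohB1.tensorPow L n)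
  haveI := Groth.Agent.Lib.Helper23.QCohLocal.isQuasicoherent_pushforward f (CohB1.tensorMod M (CohB1.tensorPow L n))
  choose k p hp using (fun V : T => hN₀ V.1 n (hn V.1 V.2))
  -- the generating sections, as sections of the direct image
  let sec : (Σ V : T, Fin (k V)) → Σ U : Y.affineOpens,
      Γ((Scheme.Modules.pushforward f).obj (CohB1.tensorMod M (CohB1.tensorPow L n)), U.1) := fun idx =>
    ⟨idx.1.1, secOf (CohB1.tensorMod M (CohB1.tensorPow L n)) (f ⁻¹ᵁ idx.1.1.1)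
      (Sigma.ι (fun _ : Fin (k idx.1) => Coh.structureModule (↑(f ⁻¹ᵁ idx.1.1.1) : Scheme.{u})) idx.2 ≫ p idx.1)⟩
  obtain ⟨G, i, hi, hGq, hGf, hmem⟩ := Groth.Agent.Lib.Helper23.FTsub.exists_ft_sub_list
    ((Scheme.Modules.pushforward f).obj (CohB1.tensorMod M (CohB1.tensorPow L n)))
    ⟨⟨⊥, isAffineOpen_bot Y⟩, 0⟩ (Finset.univ.toList.map sec)
  obtain ⟨E, q, hE, hq⟩ := hY G hGq hGf
  haveI := hq
  have hφ' : Epi (((Scheme.Modules.pullbackPushforwardAdjunction f).homEquiv E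
      (CohB1.tensorMod M (CohB1.tensorPow L n))).symm (q ≫ i)) := by
    refine epi_homEquiv_symm _ (q ≫ i) (fun Q ψ₁ ψ₂ hψ => ?_)
    apply hom_ext_of_cover
    intro x
    obtain ⟨V, hVT, hxV⟩ := hT (f x)
    haveI := hp ⟨V, hVT⟩
    refine ⟨f ⁻¹ᵁ V.1, hxV, app_eq_of_epi_freeMod ψ₁ ψ₂ (f ⁻¹ᵁ V.1) (p ⟨V, hVT⟩) (fun j => ?_)⟩
    obtain ⟨g, hg⟩ := hmem (sec ⟨⟨V, hVT⟩, j⟩) (List.mem_cons_of_mem _
      (List.mem_map.2 ⟨⟨⟨V, hVT⟩, j⟩, Finset.mem_toList.2 (Finset.mem_univ _), rfl⟩))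
    have hg' : i.app V.1 g = secOf (CohB1.tensorMod M (CohB1.tensorPow L n)) (f ⁻¹ᵁ V.1)
      (Sigma.ι (fun _ : Fin (k ⟨V, hVT⟩) => Coh.structureModule (↑(f ⁻¹ᵁ V.1) : Scheme.{u})) j ≫ p ⟨V, hVT⟩) := hg
    rw [← hg']
    exact app_eq_of_comp_eq f ψ₁ ψ₂ q i hψ V.1 g
  exact exists_epi_of_twist' M (CohB1.tensorPow L n) hPn
    (Groth.Agent.Lib.Helper1.Sky.isFinLocFree_pullback f E hE)
    (((Scheme.Modules.pullbackPushforwardAdjunction f).homEquiv E
      (CohB1.tensorMod M (CohB1.tensorPow L n))).symm (q ≫ i))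

end Groth.Agent.Lib.Helper23.RelRes
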