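import Mathlib
import Groth.Prelude
import Groth.Agent.Lib.Helper18PG
import Groth.Agent.Lib.Helper18PH
import Groth.Agent.Lib.Helper18PI
import Groth.Agent.Lib.Helper23RelRes
set_option backward.isDefEq.respectTransparency.types false

/-!
# Relatively ample ⇒ large twists are relatively very ample (quasi-compact base) (helper18)

Namespace `Groth.Agent.Helper18PJ`.  EGA II 4.6.11.
-/

set_option autoImplicit false
set_option linter.style.haveILetI false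
universe u

namespace Groth.Agent.Helper18PJ

open CategoryTheory Limits AlgebraicGeometry TopologicalSpace Opposite
open Groth.Agent.Lib.Helper23.SecTw Groth.Agent.Lib.Helper23.GenLocus Groth.Agent.Lib.Helper6
open Groth.Agent.Lib.Helper23.GenNear Groth.Agent.Lib.Helper23.AmpleIso
open Groth.Agent.Helper18PG Groth.Agent.Helper18PH Groth.Agent.Helper18PI

/-- relative very ampleness is invariant under isomorphisms -/
theorem isRelVeryAmple_of_iso {X Y : Scheme.{u}} (f : X ⟶ Y) {M M' : X.Modules} (e : M ≅ M')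
    (h : RelProj.IsRelVeryAmple f M) : RelProj.IsRelVeryAmple f M' := by
  obtain ⟨E, hE, 𝒮, j, hj, P, p, chart, hP, O1, lam, hO1, i, hi, hip, ⟨hiso⟩⟩ := h
  exact ⟨E, hE, 𝒮, j, hj, P, p, chart, hP, O1, lam, hO1, i, hi, hip, ⟨e.symm ≪≫ hiso⟩⟩

/-- a finite affine cover of a quasi-compact scheme -/
theorem exists_finite_affine_cover (Y : Scheme.{u}) [CompactSpace Y] :
    ∃ T : Finset Y.affineOpens, ∀ y : Y, ∃ V ∈ T, y ∈ V.1 := by
  classical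
  have hcov : ∀ y : Y, ∃ V : Y.affineOpens, y ∈ V.1 := by
    intro y
    obtain ⟨V, hV, hyV, -⟩ := Opens.isBasis_iff_nbhd.1 Y.isBasis_affineOpens (Opens.mem_top y)
    exact ⟨⟨V, hV⟩, hyV⟩
  choose V hV using hcov
  obtain ⟨T₀, hT₀⟩ : ∃ T₀ : Finset Y, (Set.univ : Set Y) ⊆ ⋃ y ∈ T₀, ((V y).1 : Set Y) :=
    isCompact_univ.elim_finite_subcover (fun y => ((V y).1 : Set Y)) (fun y => (V y).1.2)
      (fun y _ => Set.mem_iUnion.2 ⟨y, hV y⟩)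
  refine ⟨T₀.image V, fun y => ?_⟩
  obtain ⟨y₀, hy₀⟩ := Set.mem_iUnion.1 (hT₀ (Set.mem_univ y))
  obtain ⟨hy₀T, hyy₀⟩ := Set.mem_iUnion.1 hy₀
  exact ⟨V y₀, Finset.mem_image_of_mem V hy₀T, hyy₀⟩

/-- **chart data for large twists**: over a quasi-compact base, for `f` of finite type, `L` ample relative to `f` and `L'`
invertible, for all large `n` the module `M = L^n ⊗ L'` has finitely many sections `t a` over preimages `f⁻¹ (U a)` of affine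
opens with affine generating loci `G a` covering `X`, such that the functions on `G a` are generated by those of `U a` and
finitely many ratios `e' / t a`, `e' ∈ F a ⊆ Γ(M, f⁻¹ (U a))`. -/
theorem exists_chart_data {X Y : Scheme.{u}} [CompactSpace Y] (f : X ⟶ Y)
    [QuasiCompact f] [LocallyOfFiniteType f] (L L' : X.Modules) (hL' : PicF.IsInvertible L')
    (h : RelAmple.IsRelAmple f L) :
    ∃ n₀ : ℕ, ∀ n : ℕ, n₀ ≤ n → ∃ (ι : Type u) (_ : Finite ι) (U : ι → Y.Opens) (_ : ∀ a, IsAffineOpen (U a))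
      (t : ∀ a, Γ(CohB1.tensorMod (CohB1.tensorPow L n) L', f ⁻¹ᵁ U a)) (G : ι → X.Opens)
      (hle : ∀ a, G a ≤ f ⁻¹ᵁ (U a)) (F : ∀ a, Set Γ(CohB1.tensorMod (CohB1.tensorPow L n) L', f ⁻¹ᵁ U a)),
      (∀ a, (F a).Finite) ∧ (∀ a, IsAffineOpen (G a)) ∧
      (∀ a, IsGen (CohB1.tensorMod (CohB1.tensorPow L n) L') (G a) (res _ (hle a) (t a))) ∧
      (∀ a, ∀ x ∈ f ⁻¹ᵁ (U a), IsGenNear (CohB1.tensorMod (CohB1.tensorPow L n) L') (f ⁻¹ᵁ (U a)) (t a) x → x ∈ G a) ∧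
      (∀ a, Subring.closure (Set.range (f.appLE (U a) (G a) (hle a)).hom ∪
        {c | ∃ e' ∈ F a, c • res (CohB1.tensorMod (CohB1.tensorPow L n) L') (hle a) (t a) =
          res (CohB1.tensorMod (CohB1.tensorPow L n) L') (hle a) e'}) = ⊤) ∧
      ∀ x : X, ∃ a, x ∈ G a := by
  classical
  have hL : PicF.IsInvertible L := isInvertible_of_isRelAmple f L h
  obtain ⟨T, hT⟩ := exists_finite_affine_cover Y
  have hgV : ∀ (V : Y.affineOpens) (W : (↑(f ⁻¹ᵁ V.1) : Scheme.{u}).Opens), W ≤ ((f ⁻¹ᵁ V.1).ι ≫ f) ⁻¹ᵁ V.1 := by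
    intro V W x _
    exact x.2
  have key : ∀ V : Y.affineOpens, ∃ n₀ : ℕ, ∀ n, n₀ ≤ n → ∃ (T' : Finset (↑(f ⁻¹ᵁ V.1) : Scheme.{u}))
      (ρ : {x // x ∈ T'} → (Coh.structureModule (↑(f ⁻¹ᵁ V.1) : Scheme.{u}) ⟶
        CohB1.tensorMod (L'.restrict (f ⁻¹ᵁ V.1).ι) (CohB1.tensorPow (L.restrict (f ⁻¹ᵁ V.1).ι) n)))
      (τs : {x // x ∈ T'} → Set (Coh.structureModule (↑(f ⁻¹ᵁ V.1) : Scheme.{u}) ⟶
        CohB1.tensorMod (L'.restrict (f ⁻¹ᵁ V.1).ι) (CohB1.tensorPow (L.restrict (f ⁻¹ᵁ V.1).ι) n))),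
      (∀ x, (τs x).Finite) ∧
      (∀ x, IsAffineOpen (CohB1.genLocus _ (ρ x))) ∧
      (∀ y : (↑(f ⁻¹ᵁ V.1) : Scheme.{u}), ∃ x, y ∈ CohB1.genLocus _ (ρ x)) ∧
      ∀ x, Subring.closure (Set.range (((f ⁻¹ᵁ V.1).ι ≫ f).appLE V.1 (CohB1.genLocus _ (ρ x)) (hgV V _)).hom ∪
        {b | ∃ τ ∈ τs x, sv τ (CohB1.genLocus _ (ρ x)) = b • sv (ρ x) (CohB1.genLocus _ (ρ x))}) = ⊤ := by
    intro V
    exact exists_section_data ((f ⁻¹ᵁ V.1).ι ≫ f) (L.restrict (f ⁻¹ᵁ V.1).ι) (h.2 V) (L'.restrict (f ⁻¹ᵁ V.1).ι)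
      (isInvertible_restrict L' hL' _) V.1 V.2 (hgV V)
  choose n₀ hn₀ using key
  refine ⟨T.sup n₀, fun n hn => ?_⟩
  have key2 : ∀ V : {V // V ∈ T}, ∃ (T' : Finset (↑(f ⁻¹ᵁ V.1.1) : Scheme.{u}))
      (ρ : {x // x ∈ T'} → (Coh.structureModule (↑(f ⁻¹ᵁ V.1.1) : Scheme.{u}) ⟶
        CohB1.tensorMod (L'.restrict (f ⁻¹ᵁ V.1.1).ι) (CohB1.tensorPow (L.restrict (f ⁻¹ᵁ V.1.1).ι) n)))
      (τs : {x // x ∈ T'} → Set (Coh.structureModule (↑(f ⁻¹ᵁ V.1.1) : Scheme.{u}) ⟶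
        CohB1.tensorMod (L'.restrict (f ⁻¹ᵁ V.1.1).ι) (CohB1.tensorPow (L.restrict (f ⁻¹ᵁ V.1.1).ι) n))),
      (∀ x, (τs x).Finite) ∧
      (∀ x, IsAffineOpen (CohB1.genLocus _ (ρ x))) ∧
      (∀ y : (↑(f ⁻¹ᵁ V.1.1) : Scheme.{u}), ∃ x, y ∈ CohB1.genLocus _ (ρ x)) ∧
      ∀ x, Subring.closure (Set.range (((f ⁻¹ᵁ V.1.1).ι ≫ f).appLE V.1.1 (CohB1.genLocus _ (ρ x)) (hgV V.1 _)).hom ∪
        {b | ∃ τ ∈ τs x, sv τ (CohB1.genLocus _ (ρ x)) = b • sv (ρ x) (CohB1.genLocus _ (ρ x))}) = ⊤ :=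
    fun V => hn₀ V.1 n ((Finset.le_sup V.2).trans hn)
  choose T' ρ τs hτs haff hcov' hring' using key2
  -- the isomorphisms
  have hΦ : ∀ V : {V // V ∈ T}, Nonempty ((CohB1.tensorMod (CohB1.tensorPow L n) L').restrict (f ⁻¹ᵁ V.1.1).ι ≅
      CohB1.tensorMod (L'.restrict (f ⁻¹ᵁ V.1.1).ι) (CohB1.tensorPow (L.restrict (f ⁻¹ᵁ V.1.1).ι) n)) := by
    intro V
    obtain ⟨Φ₁⟩ := nonempty_restrict_tensorMod_iso (CohB1.tensorPow L n) L' (isInvertible_tensorPow hL n) hL'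
      (f ⁻¹ᵁ V.1.1)
    obtain ⟨Ψ⟩ := nonempty_restrict_tensorPow_iso L hL (f ⁻¹ᵁ V.1.1) n
    obtain ⟨Φ₃⟩ := nonempty_tensorMod_comm_iso (CohB1.tensorPow (L.restrict (f ⁻¹ᵁ V.1.1).ι) n)
      (L'.restrict (f ⁻¹ᵁ V.1.1).ι) (isInvertible_tensorPow (isInvertible_restrict L hL _) n)
      (isInvertible_restrict L' hL' _)
    exact ⟨Φ₁ ≪≫ tensorModIso Ψ (Iso.refl _) ≪≫ Φ₃⟩
  have Φ := fun V => (hΦ V).some
  have hdata := fun (a : Σ V : {V // V ∈ T}, {x // x ∈ T' V}) =>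
    chart_data (CohB1.tensorMod (CohB1.tensorPow L n) L') (f ⁻¹ᵁ a.1.1.1) f a.1.1.1 le_rfl (Φ a.1) (ρ a.1 a.2)
      (haff a.1 a.2) (hgV a.1.1 _) (τs a.1 a.2) (hτs a.1 a.2) (hring' a.1 a.2)
  choose t G hle F hF hGeq hGaff hgen hfull hring using hdata
  refine ⟨Σ V : {V // V ∈ T}, {x // x ∈ T' V}, inferInstance, fun a => a.1.1.1,
    fun a => a.1.1.2, t, G, hle, F, hF, hGaff, hgen, hfull, hring, ?_⟩
  intro x
  obtain ⟨V, hVT, hxV⟩ := hT (f x)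
  obtain ⟨x', hx'⟩ := hcov' ⟨V, hVT⟩ ⟨x, hxV⟩
  refine ⟨⟨⟨V, hVT⟩, x'⟩, ?_⟩
  rw [hGeq]
  exact ⟨⟨x, hxV⟩, hx', rfl⟩

/-- **EGA II 4.6.11**: over a quasi-compact base, for `f` of finite type, `L` ample relative to `f` and `L'` invertible,
`L^n ⊗ L'` is very ample relative to `f` for all large `n`. -/
theorem isRelVeryAmple_twist_eventually {X Y : Scheme.{u}} [CompactSpace Y] (f : X ⟶ Y)
    [QuasiCompact f] [LocallyOfFiniteType f] (L L' : X.Modules) (hL' : PicF.IsInvertible L')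
    (h : RelAmple.IsRelAmple f L) :
    ∃ n₀ : ℕ, ∀ n : ℕ, n₀ ≤ n → RelProj.IsRelVeryAmple f (CohB1.tensorMod (CohB1.tensorPow L n) L') := by
  have hL : PicF.IsInvertible L := isInvertible_of_isRelAmple f L h
  haveI : QuasiSeparated f := Groth.Agent.Lib.Helper23.RelRes.quasiSeparated_of_isRelAmple f L h
  obtain ⟨n₀, hn₀⟩ := exists_chart_data f L L' hL' h
  refine ⟨n₀, fun n hn => ?_⟩
  have hM : PicF.IsInvertible (CohB1.tensorMod (CohB1.tensorPow L n) L') :=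
    isInvertible_tensorMod (isInvertible_tensorPow hL n) hL'
  obtain ⟨ι, _, U, hU, t, G, hle, F, hF, hGaff, hgen, hfull, hring, hcov⟩ := hn₀ n hn
  refine isRelVeryAmple_of_charts f _ hM U hU t G hGaff hle hgen hfull (fun a => ?_) hcov
  rw [eq_top_iff, ← hring a]
  apply Subring.closure_mono
  apply Set.union_subset_union_right
  rintro c ⟨e', -, he'⟩
  exact ⟨e', he'⟩

end Groth.Agent.Helper18PJ
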