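import Mathlib
import Groth.Prelude
import Groth.Agent.Lib.Helper18PJ
import Groth.Agent.Lib.Helper23FTsub
set_option backward.isDefEq.respectTransparency.types false

/-!
# Quasi-projective over a qcqs base ⇒ immersion into `P(E)` with `E` of finite type (helper18)

Namespace `Groth.Agent.Helper18PK`.
-/

set_option autoImplicit false
set_option linter.style.haveILetI false
universe u

namespace Groth.Agent.Helper18PK

open CategoryTheory Limits AlgebraicGeometry TopologicalSpace Opposite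
open Groth.Agent.Lib.Helper23.SecTw Groth.Agent.Lib.Helper23.GenLocus Groth.Agent.Lib.Helper6
open Groth.Agent.Lib.Helper23.GenNear Groth.Agent.Lib.Helper23.AmpleIso
open Groth.Agent.Helper18PD Groth.Agent.Helper18PF Groth.Agent.Helper18PH Groth.Agent.Helper18PJ
open Groth.Agent.Helper13PullbackUnit

variable {X Y : Scheme.{u}} (f : X ⟶ Y) (M : X.Modules)

/-- the map `f^* E' ⟶ M` adjoint to `i : E' ⟶ f_* M` -/
noncomputable abbrev adj {E' : Y.Modules} (i : E' ⟶ (Scheme.Modules.pushforward f).obj M) :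
    (Scheme.Modules.pullback f).obj E' ⟶ M :=
  (Scheme.Modules.pullback f).map i ≫ cou f M

theorem sec_adj {E' : Y.Modules} (i : E' ⟶ (Scheme.Modules.pushforward f).obj M)
    {U : Y.Opens} {V : X.Opens} (hle : V ≤ f ⁻¹ᵁ U) (g : Γ(E', U)) :
    sec (adj f M i) hle g = res M hle (show Γ(M, f ⁻¹ᵁ U) from i.app U g) := by
  have h1 : sec (adj f M i) hle g = sec (cou f M) hle (i.app U g) := by
    unfold sec
    change (cou f M).app V (((Scheme.Modules.pullback f).map i).app V (unitSec f E' hle g)) = _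
    rw [Groth.Agent.Lib.Helper23.PB.map_unitSec]
  rw [h1]
  exact sec_cou f M hle _

/-- **immersion into the projective bundle of a submodule of `f_* M`** containing enough sections -/
theorem exists_immersion_of_sub [QuasiCompact f] [QuasiSeparated f] (hM : PicF.IsInvertible M)
    (E' : Y.Modules) (hE' : Coh.IsQCoh E') (i : E' ⟶ (Scheme.Modules.pushforward f).obj M)
    {ι : Type*} (U : ι → Y.Opens) (hU : ∀ a, IsAffineOpen (U a))
    (t : ∀ a, Γ(M, f ⁻¹ᵁ U a)) (G : ι → X.Opens) (hG : ∀ a, IsAffineOpen (G a))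
    (hle : ∀ a, G a ≤ f ⁻¹ᵁ (U a)) (ht : ∀ a, IsGen M (G a) (res M (hle a) (t a)))
    (hfull : ∀ a, ∀ x ∈ f ⁻¹ᵁ (U a), IsGenNear M (f ⁻¹ᵁ (U a)) (t a) x → x ∈ G a)
    (F : ∀ a, Set Γ(M, f ⁻¹ᵁ U a))
    (hring : ∀ a, Subring.closure (Set.range (f.appLE (U a) (G a) (hle a)).hom ∪
      {c | ∃ e' ∈ F a, c • res M (hle a) (t a) = res M (hle a) e'}) = ⊤)
    (hcov : ∀ x : X, ∃ a, x ∈ G a)
    (hlt : ∀ a, ∃ g : Γ(E', U a), i.app (U a) g = t a)
    (hlF : ∀ a, ∀ e' ∈ F a, ∃ g : Γ(E', U a), i.app (U a) g = e') :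
    ∃ (𝒮 : RelProj.QCGrAlg Y) (j : E' ⟶ 𝒮.toModule) (_ : RelProj.IsGrSymAlg E' 𝒮 j)
      (P : Scheme.{u}) (p : P ⟶ Y)
      (chart : ∀ (U : Y.Opens) (hU : IsAffineOpen U), (((p ⁻¹ᵁ U : P.Opens) : Scheme.{u}) ≅ Proj (𝒮.deg U hU)))
      (_ : RelProj.IsRelProj 𝒮 p chart) (O1 : P.Modules)
      (lam : ∀ (U : Y.Opens) (hU : IsAffineOpen U),
        O1 ⟶ (Scheme.Modules.pushforward (RelProj.emb p chart U hU)).obj (GrTwist.twist (𝒮.deg U hU) 1))
      (_ : RelProj.IsRelTwist 𝒮 p chart 1 O1 lam) (k : X ⟶ P),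
      IsImmersion k ∧ k ≫ p = f ∧ Nonempty (M ≅ (Scheme.Modules.pullback k).obj O1) := by
  choose g hg using hlt
  have ht' : ∀ a, IsGen M (G a) (sec (adj f M i) (hle a) (g a)) := fun a => by
    rw [sec_adj, hg]; exact ht a
  haveI : Epi (adj f M i) := epi_of_charts f E' M (adj f M i) U g G hle ht' hcov
  refine exists_immersion_of_charts f E' hE' M hM (adj f M i) U hU g G hG hle ht'
    (fun a x hx h => hfull a x hx (by
      have h2 := sec_adj f M i (le_refl (f ⁻¹ᵁ U a)) (g a)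
      rw [h2, hg, res_self] at h
      exact h))
    (fun a => ?_) hcov
  rw [eq_top_iff, ← hring a]
  apply Subring.closure_mono
  apply Set.union_subset_union_right
  rintro c ⟨e', he'F, he'⟩
  obtain ⟨g', hg'⟩ := hlF a e' he'F
  refine ⟨g', ?_⟩
  rw [sec_adj, sec_adj, hg, hg']
  exact he'

/-- from finite chart data to an immersion into `P(E)` with `E` of finite type (qcqs base) -/
theorem exists_immersion_ft_aux {X S : Scheme.{u}} [CompactSpace S] [QuasiSeparatedSpace S] (f : X ⟶ S)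
    [QuasiCompact f] [QuasiSeparated f] (M : X.Modules) (hM : PicF.IsInvertible M)
    (hdata : ∃ (ι : Type u) (_ : Finite ι) (U : ι → S.Opens) (_ : ∀ a, IsAffineOpen (U a))
      (t : ∀ a, Γ(M, f ⁻¹ᵁ U a)) (G : ι → X.Opens)
      (hle : ∀ a, G a ≤ f ⁻¹ᵁ (U a)) (F : ∀ a, Set Γ(M, f ⁻¹ᵁ U a)),
      (∀ a, (F a).Finite) ∧ (∀ a, IsAffineOpen (G a)) ∧
      (∀ a, IsGen M (G a) (res _ (hle a) (t a))) ∧
      (∀ a, ∀ x ∈ f ⁻¹ᵁ (U a), IsGenNear M (f ⁻¹ᵁ (U a)) (t a) x → x ∈ G a) ∧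
      (∀ a, Subring.closure (Set.range (f.appLE (U a) (G a) (hle a)).hom ∪
        {c | ∃ e' ∈ F a, c • res M (hle a) (t a) = res M (hle a) e'}) = ⊤) ∧
      ∀ x : X, ∃ a, x ∈ G a) :
    ∃ (E : S.Modules) (_ : Coh.IsQCoh E) (_ : CohB1.IsFT E)
      (𝒮 : RelProj.QCGrAlg S) (j : E ⟶ 𝒮.toModule) (_ : RelProj.IsGrSymAlg E 𝒮 j)
      (P : Scheme.{u}) (p : P ⟶ S)
      (chart : ∀ (U : S.Opens) (hU : IsAffineOpen U), (((p ⁻¹ᵁ U : P.Opens) : Scheme.{u}) ≅ Proj (𝒮.deg U hU)))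
      (_ : RelProj.IsRelProj 𝒮 p chart) (O1 : P.Modules)
      (lam : ∀ (U : S.Opens) (hU : IsAffineOpen U),
        O1 ⟶ (Scheme.Modules.pushforward (RelProj.emb p chart U hU)).obj (GrTwist.twist (𝒮.deg U hU) 1))
      (_ : RelProj.IsRelTwist 𝒮 p chart 1 O1 lam) (k : X ⟶ P),
      IsImmersion k ∧ k ≫ p = f ∧ Nonempty (M ≅ (Scheme.Modules.pullback k).obj O1) := by
  classical
  obtain ⟨ι, _, U, hU, t, G, hle, F, hF, hGaff, hgen, hfull, hring, hcov⟩ := hdata
  haveI : M.IsQuasicoherent := isQuasicoherent_of_isInvertible M hM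
  haveI hK : ((Scheme.Modules.pushforward f).obj M).IsQuasicoherent :=
    Groth.Agent.Lib.Helper23.QCohLocal.isQuasicoherent_pushforward f M
  let Sset : Set (Σ V : S.affineOpens, Γ((Scheme.Modules.pushforward f).obj M, V.1)) :=
    ⋃ a, ({⟨⟨U a, hU a⟩, t a⟩} ∪ (fun e' => ⟨⟨U a, hU a⟩, e'⟩) '' F a)
  have hfin : Sset.Finite :=
    Set.finite_iUnion fun a => (Set.finite_singleton _).union ((hF a).image _)
  obtain ⟨K', i, -, hq, hf, hmem⟩ := Groth.Agent.Lib.Helper23.FTsub.exists_ft_sub_list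
    ((Scheme.Modules.pushforward f).obj M) ⟨⟨⊥, isAffineOpen_bot S⟩, 0⟩ hfin.toFinset.toList
  have hmem' : ∀ p ∈ Sset, ∃ g : Γ(K', p.1.1), i.app p.1.1 g = p.2 := fun p hp =>
    hmem p (List.mem_cons_of_mem _ (Finset.mem_toList.2 (hfin.mem_toFinset.2 hp)))
  obtain ⟨𝒮, j, hj, P, p, chart, hP, O1, lam, hO1, k, hk, hkp, hiso⟩ :=
    exists_immersion_of_sub f M hM K' hq i U hU t G hGaff hle hgen hfull F hring hcov
      (fun a => hmem' ⟨⟨U a, hU a⟩, t a⟩ (Set.mem_iUnion.2 ⟨a, Or.inl rfl⟩))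
      (fun a e' he' => hmem' ⟨⟨U a, hU a⟩, e'⟩ (Set.mem_iUnion.2 ⟨a, Or.inr ⟨e', he', rfl⟩⟩))
  exact ⟨K', hq, hf, 𝒮, j, hj, P, p, chart, hP, O1, lam, hO1, k, hk, hkp, hiso⟩

/-- **quasi-projective over a qcqs base ⇒ immersion into `P(E)` with `E` of finite type**: for `f` of finite type over a
quasi-compact quasi-separated base, `L` ample relative to `f` and `L'` invertible, for all large `n` the module `L^n ⊗ L'` is
the pullback of `O(1)` along an immersion over the base into the projective bundle of a quasi-coherent module of finite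
type. -/
theorem exists_immersion_ft {X S : Scheme.{u}} [CompactSpace S] [QuasiSeparatedSpace S] (f : X ⟶ S)
    [QuasiCompact f] [LocallyOfFiniteType f] (L L' : X.Modules) (hL' : PicF.IsInvertible L')
    (h : RelAmple.IsRelAmple f L) :
    ∃ n₀ : ℕ, ∀ n : ℕ, n₀ ≤ n → ∃ (E : S.Modules) (_ : Coh.IsQCoh E) (_ : CohB1.IsFT E)
      (𝒮 : RelProj.QCGrAlg S) (j : E ⟶ 𝒮.toModule) (_ : RelProj.IsGrSymAlg E 𝒮 j)
      (P : Scheme.{u}) (p : P ⟶ S)
      (chart : ∀ (U : S.Opens) (hU : IsAffineOpen U), (((p ⁻¹ᵁ U : P.Opens) : Scheme.{u}) ≅ Proj (𝒮.deg U hU)))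
      (_ : RelProj.IsRelProj 𝒮 p chart) (O1 : P.Modules)
      (lam : ∀ (U : S.Opens) (hU : IsAffineOpen U),
        O1 ⟶ (Scheme.Modules.pushforward (RelProj.emb p chart U hU)).obj (GrTwist.twist (𝒮.deg U hU) 1))
      (_ : RelProj.IsRelTwist 𝒮 p chart 1 O1 lam) (k : X ⟶ P),
      IsImmersion k ∧ k ≫ p = f ∧
        Nonempty (CohB1.tensorMod (CohB1.tensorPow L n) L' ≅ (Scheme.Modules.pullback k).obj O1) := by
  have hL : PicF.IsInvertible L := isInvertible_of_isRelAmple f L h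
  haveI : QuasiSeparated f := Groth.Agent.Lib.Helper23.RelRes.quasiSeparated_of_isRelAmple f L h
  obtain ⟨n₀, hn₀⟩ := exists_chart_data f L L' hL' h
  refine ⟨n₀, fun n hn => ?_⟩
  exact exists_immersion_ft_aux f _ (isInvertible_tensorMod (isInvertible_tensorPow hL n) hL') (hn₀ n hn)

end Groth.Agent.Helper18PK
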