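import Groth.Prelude
import Mathlib

/-! Properness: closedness after base change over `S` (EGA II 5.6.1-ish); morphisms into a relative
`Proj` with proper composite are proper. -/

open AlgebraicGeometry CategoryTheory CategoryTheory.Limits MorphismProperty

namespace Groth.Agent.Lib.Helper6

universe u



theorem isSeparated_of_isRelProj {Y P : Scheme.{u}} (𝒮 : RelProj.QCGrAlg Y) (p : P ⟶ Y)
    (chart : ∀ (U : Y.Opens) (hU : IsAffineOpen U),
      ((p ⁻¹ᵁ U : P.Opens) : Scheme.{u}) ≅ Proj (𝒮.deg U hU))
    (hp : RelProj.IsRelProj 𝒮 p chart) : IsSeparated p := by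
  rw [IsZariskiLocalAtTarget.iff_of_iSup_eq_top (P := @IsSeparated) _
    (iSup_affineOpens_eq_top Y)]
  intro U
  have h1 : (p ∣_ U.1) ≫ U.1.ι = (chart U.1 U.2).hom ≫ Proj.toSpecZero (𝒮.deg U.1 U.2) ≫
      Spec.map (𝒮.strZero U.1 U.2) ≫ U.2.fromSpec := by
    rw [hp.chart_over U.1 U.2, morphismRestrict_ι]
  have h2 : IsSeparated ((p ∣_ U.1) ≫ U.1.ι) := by
    rw [h1]; infer_instance
  exact IsSeparated.of_comp (p ∣_ U.1) U.1.ι

theorem isProper_of_comp_isRelProj {X Y P : Scheme.{u}} (g : X ⟶ Y) [IsProper g]
    (𝒮 : RelProj.QCGrAlg Y) (p : P ⟶ Y)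
    (chart : ∀ (U : Y.Opens) (hU : IsAffineOpen U),
      ((p ⁻¹ᵁ U : P.Opens) : Scheme.{u}) ≅ Proj (𝒮.deg U hU))
    (hp : RelProj.IsRelProj 𝒮 p chart) (u : X ⟶ P) (hu : u ≫ p = g) : IsProper u := by
  have := isSeparated_of_isRelProj 𝒮 p chart hp
  have : IsProper (u ≫ p) := by rw [hu]; infer_instance
  exact IsProper.of_comp u p




theorem isProper_iff_forall_isClosedMap_pullback_map {X Y S : Scheme.{u}} (q : Y ⟶ S) (f : X ⟶ Y)
    [IsSeparated q] [LocallyOfFiniteType q] [QuasiCompact q]
    [IsSeparated (f ≫ q)] [LocallyOfFiniteType (f ≫ q)] [QuasiCompact (f ≫ q)] :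
    IsProper f ↔ ∀ (S' : Scheme.{u}) (g : S' ⟶ S),
      IsClosedMap (pullback.map (f ≫ q) g q g f (𝟙 S') (𝟙 S) (Category.comp_id (f ≫ q))
        ((Category.comp_id g).trans (Category.id_comp g).symm)).base := by
  constructor
  · intro hf S' g
    have h : IsProper (pullback.map (f ≫ q) g q g f (𝟙 S') (𝟙 S)
        ((Category.comp_id _).trans rfl) ((Category.comp_id _).trans (Category.id_comp g).symm)) :=
      MorphismProperty.pullbackMap (P := @IsProper) hf (inferInstanceAs (IsProper (𝟙 S'))) rfl
        (Category.id_comp g).symm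
    exact Scheme.Hom.isClosedMap _
  · intro H
    have hsep : IsSeparated f := IsSeparated.of_comp f q
    have hlft : LocallyOfFiniteType f := locallyOfFiniteType_of_comp f q
    have hqc : QuasiCompact f := QuasiCompact.of_comp f q
    have huc : UniversallyClosed f := by
      rw [universallyClosed_eq]
      apply MorphismProperty.universally_mk'
      intro T i₂ _
      -- notation
      let Φ := pullback.map (f ≫ q) (i₂ ≫ q) q (i₂ ≫ q) f (𝟙 T) (𝟙 S) (Category.comp_id (f ≫ q))
        ((Category.comp_id (i₂ ≫ q)).trans (Category.id_comp (i₂ ≫ q)).symm)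
      have hΦ : IsClosedMap Φ.base := H T (i₂ ≫ q)
      let a := pullback.map i₂ f (i₂ ≫ q) (f ≫ q) (𝟙 T) (𝟙 X) q
        (Category.id_comp _).symm (Category.id_comp _).symm
      have ha : IsClosedImmersion a :=
        MorphismProperty.of_isPullback (P := @IsClosedImmersion)
          (pullback_map_diagonal_isPullback i₂ f q) inferInstance
      let a' : pullback i₂ f ⟶ pullback (f ≫ q) (i₂ ≫ q) :=
        pullback.lift (pullback.snd i₂ f) (pullback.fst i₂ f)
          (by simp only [← Category.assoc, pullback.condition])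
      have ha' : a' = a ≫ (pullbackSymmetry _ _).hom := by
        apply pullback.hom_ext <;>
          simp only [a', a, pullback.lift_fst, pullback.lift_snd, Category.assoc,
            pullbackSymmetry_hom_comp_fst, pullbackSymmetry_hom_comp_snd, Category.comp_id]
      have hcl : IsClosedMap a'.base := by
        rw [ha']
        exact Scheme.Hom.isClosedMap _
      let γ : T ⟶ pullback q (i₂ ≫ q) := pullback.lift i₂ (𝟙 T) (by simp)
      have h1 : γ ≫ pullback.snd q (i₂ ≫ q) = 𝟙 T := by simp only [γ, pullback.lift_snd]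
      have h2 : pullback.fst i₂ f ≫ γ = a' ≫ Φ := by
        apply pullback.hom_ext
        · simp only [γ, a', Φ, Category.assoc, pullback.lift_fst, pullback.lift_fst_assoc,
            pullback.condition]
        · simp only [γ, a', Φ, Category.assoc, pullback.lift_snd, pullback.lift_snd_assoc,
            Category.comp_id]
      have h3 : a' ≫ Φ ≫ pullback.snd q (i₂ ≫ q) = pullback.fst i₂ f := by
        rw [← Category.assoc, ← h2, Category.assoc, h1, Category.comp_id]
      intro Z hZ
      have heq : (pullback.fst i₂ f).base '' Z = γ.base ⁻¹' (Φ.base '' (a'.base '' Z)) := by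
        ext t
        constructor
        · rintro ⟨z, hz, rfl⟩
          refine ⟨a'.base z, ⟨z, hz, rfl⟩, ?_⟩
          have := congr($(h2).base z)
          simpa using this.symm
        · rintro ⟨_, ⟨z, hz, rfl⟩, h⟩
          refine ⟨z, hz, ?_⟩
          have e1 := congr($(h3).base z)
          have e2 := congr($(h1).base t)
          simp only [Scheme.Hom.comp_base, TopCat.hom_comp, ContinuousMap.comp_apply] at e1 e2
          rw [← e1, h]
          simpa using e2
      rw [heq]
      exact (hΦ _ (hcl _ hZ)).preimage γ.base.hom.continuous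
    exact { }


end Groth.Agent.Lib.Helper6
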