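import Mathlib
import Groth.Prelude
import Groth.Agent.Lib.Helper18PK
import Groth.Agent.Lib.Helper18KE
import Groth.Agent.Lib.Helper6Proper
set_option backward.isDefEq.respectTransparency.types false

/-!
# Quasi-projective + proper ⇒ projective; quasi-projective ⇒ open in projective (qcqs base) (helper18)

Namespace `Groth.Agent.Helper18PL`.
-/

set_option autoImplicit false
set_option linter.style.haveILetI false
universe u

namespace Groth.Agent.Helper18PL

open CategoryTheory Limits AlgebraicGeometry TopologicalSpace Opposite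
open Groth.Agent.Lib.Helper23.SecTw

/-- a quasi-projective morphism over a qcqs base is an immersion into a projective bundle `P(E)`, `E` of finite type -/
theorem exists_immersion_of_isQuasiProjective {X S : Scheme.{u}} [CompactSpace S] [QuasiSeparatedSpace S]
    (f : X ⟶ S) (hq : RelProj.IsQuasiProjective f) :
    ∃ (E : S.Modules) (_ : Coh.IsQCoh E) (_ : CohB1.IsFT E)
      (𝒮 : RelProj.QCGrAlg S) (j : E ⟶ 𝒮.toModule) (_ : RelProj.IsGrSymAlg E 𝒮 j)
      (P : Scheme.{u}) (p : P ⟶ S)
      (chart : ∀ (U : S.Opens) (hU : IsAffineOpen U), (((p ⁻¹ᵁ U : P.Opens) : Scheme.{u}) ≅ Proj (𝒮.deg U hU)))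
      (_ : RelProj.IsRelProj 𝒮 p chart) (k : X ⟶ P), IsImmersion k ∧ k ≫ p = f := by
  obtain ⟨hlft, hqc, L, hL⟩ := hq
  haveI := hlft
  haveI := hqc
  have hinv := isInvertible_of_isRelAmple f L hL
  obtain ⟨n₀, hn₀⟩ := Groth.Agent.Helper18PK.exists_immersion_ft f L L hinv hL
  obtain ⟨E, hE, hft, 𝒮, j, hj, P, p, chart, hP, O1, lam, hO1, k, hk, hkp, -⟩ := hn₀ n₀ le_rfl
  exact ⟨E, hE, hft, 𝒮, j, hj, P, p, chart, hP, k, hk, hkp⟩

/-- over a qcqs base, proper + quasi-projective ⇒ projective -/
theorem isProjective_of_isProper_of_isQuasiProjective {X S : Scheme.{u}} [CompactSpace S] [QuasiSeparatedSpace S]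
    (f : X ⟶ S) [IsProper f] (hq : RelProj.IsQuasiProjective f) : RelProj.IsProjective f := by
  obtain ⟨E, hE, hft, 𝒮, j, hj, P, p, chart, hP, k, hk, hkp⟩ := exists_immersion_of_isQuasiProjective f hq
  haveI : IsSeparated p := Groth.Agent.Lib.Helper6.isSeparated_of_isRelProj 𝒮 p chart hP
  haveI : IsProper (k ≫ p) := by rw [hkp]; infer_instance
  haveI : IsProper k := IsProper.of_comp k p
  haveI := hk
  haveI : IsClosedImmersion k := IsClosedImmersion.of_isPreimmersion k k.isClosedMap.isClosed_range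
  exact Groth.Agent.Helper18KE.isProjective_of_closedImmersion_bundle f E hE hft 𝒮 j hj p chart hP k hkp

/-- over a qcqs base, a quasi-projective morphism is an open immersion followed by a projective morphism -/
theorem exists_open_in_projective {X S : Scheme.{u}} [CompactSpace S] [QuasiSeparatedSpace S]
    (f : X ⟶ S) (hq : RelProj.IsQuasiProjective f) :
    ∃ (X' : Scheme.{u}) (j : X ⟶ X') (g : X' ⟶ S), IsOpenImmersion j ∧ RelProj.IsProjective g ∧ j ≫ g = f := by
  obtain ⟨E, hE, hft, 𝒮, j, hj, P, p, chart, hP, k, hk, hkp⟩ := exists_immersion_of_isQuasiProjective f hq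
  haveI : QuasiCompact f := hq.2.1
  haveI : IsSeparated p := Groth.Agent.Lib.Helper6.isSeparated_of_isRelProj 𝒮 p chart hP
  haveI : QuasiCompact (k ≫ p) := by rw [hkp]; infer_instance
  haveI : QuasiCompact k := QuasiCompact.of_comp k p
  haveI := hk
  obtain ⟨Z, g₁, g₂, h1, h2, h12⟩ := IsImmersion.isImmersion_iff_exists_of_quasiCompact.1 hk
  haveI := h2
  refine ⟨Z, g₁, g₂ ≫ p, h1, ?_, ?_⟩
  · exact Groth.Agent.Helper18KE.isProjective_of_closedImmersion_bundle (g₂ ≫ p) E hE hft 𝒮 j hj p chart hP g₂ rfl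
  · rw [← Category.assoc, h12, hkp]

end Groth.Agent.Helper18PL
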