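import Mathlib
import Groth.Prelude
import Groth.Agent.Lib.Helper18PL
set_option backward.isDefEq.respectTransparency.types false

/-!
# A morphism with a relatively ample module is separated (helper18)

Namespace `Groth.Agent.Helper18PM`.
-/

set_option autoImplicit false
universe u

namespace Groth.Agent.Helper18PM

open CategoryTheory Limits AlgebraicGeometry TopologicalSpace Opposite
open Groth.Agent.Lib.Helper23.SecTw

theorem isSeparated_of_isRelAmple {X Y : Scheme.{u}} (f : X ⟶ Y) (L : X.Modules)
    (h : RelAmple.IsRelAmple f L) : IsSeparated f := by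
  refine HasAffineProperty.of_iSup_eq_top (P := @IsSeparated) (fun V : Y.affineOpens => V)
    (iSup_affineOpens_eq_top Y) (fun V => ?_)
  exact isSeparated_of_isAmple _ (h.2 V)

/-- a qcqs base from the usual alternative hypothesis -/
theorem qcqs_of_alt {Y : Scheme.{u}}
    (hY : (CompactSpace Y ∧ Y.IsSeparated) ∨ TopologicalSpace.NoetherianSpace Y) :
    CompactSpace Y ∧ QuasiSeparatedSpace Y := by
  rcases hY with ⟨h1, h2⟩ | h
  · exact ⟨h1, inferInstance⟩
  · exact ⟨inferInstance, ⟨fun U V _ _ _ _ => TopologicalSpace.NoetherianSpace.isCompact _⟩⟩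

end Groth.Agent.Helper18PM
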