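import Mathlib
import Groth.Prelude
import Groth.Agent.Lib.Helper18PM
import Groth.Agent.Lib.Helper18VAmpC
set_option backward.isDefEq.respectTransparency.types false

/-!
# Quasi-projective ⟺ open dense subscheme of a projective scheme (qcqs base) (helper18)

Namespace `Groth.Agent.Helper18PN`.
-/

set_option autoImplicit false
set_option linter.style.haveILetI false
universe u

namespace Groth.Agent.Helper18PN

open CategoryTheory Limits AlgebraicGeometry TopologicalSpace Opposite

/-- over a qcqs base a quasi-projective scheme is a dense open subscheme of a projective one -/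
theorem exists_open_dense_of_isQuasiProjective {X Y : Scheme.{u}} [CompactSpace Y] [QuasiSeparatedSpace Y]
    (f : X ⟶ Y) (hq : RelProj.IsQuasiProjective f) :
    ∃ (𝒮 : RelProj.QCGrAlg Y) (P : Scheme.{u}) (p : P ⟶ Y)
      (chart : ∀ (U : Y.Opens) (hU : IsAffineOpen U), ((p ⁻¹ᵁ U : P.Opens) : Scheme.{u}) ≅ Proj (𝒮.deg U hU))
      (j : X ⟶ P), 𝒮.IsGenDegOne ∧ 𝒮.IsFTDeg 1 ∧ RelProj.IsRelProj 𝒮 p chart ∧
        IsOpenImmersion j ∧ Dense (Set.range j.base) ∧ j ≫ p = f := by
  obtain ⟨E, hE, hft, 𝒮₀, j₀, hj₀, P₀, p₀, chart₀, hP₀, k, hk, hkp⟩ :=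
    Groth.Agent.Helper18PL.exists_immersion_of_isQuasiProjective f hq
  haveI : QuasiCompact f := hq.2.1
  haveI : IsSeparated p₀ := Groth.Agent.Lib.Helper6.isSeparated_of_isRelProj 𝒮₀ p₀ chart₀ hP₀
  haveI : QuasiCompact (k ≫ p₀) := by rw [hkp]; infer_instance
  haveI : QuasiCompact k := QuasiCompact.of_comp k p₀
  haveI := hk
  obtain ⟨𝒮, P, p, chart, e, hgen, hft1, hP, he⟩ :=
    Groth.Agent.Helper18KE.isProjective_of_closedImmersion_bundle (k.imageι ≫ p₀) E hE hft 𝒮₀ j₀ hj₀ p₀ chart₀ hP₀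
      k.imageι rfl
  refine ⟨𝒮, P, p, chart, k.toImage ≫ e.hom, hgen, hft1, hP, inferInstance, ?_, ?_⟩
  · have h1 : DenseRange k.toImage.base := (inferInstance : IsDominant k.toImage).denseRange
    have h2 : DenseRange e.hom.base := (e.hom.homeomorph.surjective).denseRange
    have h3 := h2.comp h1 e.hom.continuous
    have h4 : (k.toImage ≫ e.hom).base = e.hom.base ∘ k.toImage.base := by
      ext x; rfl
    rw [h4]
    exact h3
  · rw [Category.assoc, he, ← Category.assoc, k.toImage_imageι, hkp]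

/-- an open subscheme (with quasi-compact structure morphism) of a projective scheme is quasi-projective -/
theorem isQuasiProjective_of_open {X Y : Scheme.{u}} (f : X ⟶ Y) [LocallyOfFiniteType f] [QuasiCompact f]
    (𝒮 : RelProj.QCGrAlg Y) (P : Scheme.{u}) (p : P ⟶ Y)
    (chart : ∀ (U : Y.Opens) (hU : IsAffineOpen U), ((p ⁻¹ᵁ U : P.Opens) : Scheme.{u}) ≅ Proj (𝒮.deg U hU))
    (j : X ⟶ P) (hgen : 𝒮.IsGenDegOne) (hP : RelProj.IsRelProj 𝒮 p chart) [IsOpenImmersion j] (hjp : j ≫ p = f) :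
    RelProj.IsQuasiProjective f := by
  obtain ⟨O1, lam, hO1⟩ := Groth.Agent.Lib.Helper2.RelTwistExist.exists_isRelTwist p chart hP 1
  exact ⟨inferInstance, inferInstance, _,
    Groth.Agent.Helper18VAmp.isRelAmple_pullback_of_isEmbedding f 𝒮 P p chart O1 lam hgen hO1 j hjp
      j.isOpenEmbedding.isEmbedding⟩

end Groth.Agent.Helper18PN
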