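import Mathlib
import Groth.Agent.Lib.Helper23RestrJ

/-!
# Twisted extension of a section from `X_σ` with control of the generating locus (helper23)

Namespace `Groth.Agent.Lib.Helper23.TwExt`.

* `exists_twisted_section_genLocus_eq` : `X` qcqs, `P`, `Q` invertible, `σ` a section of `P`, `U = X_σ`, `s'` a section of
  `Q|_U`. Then some global section `u` of `(Q ⊗ P^n) ⊗ P` has `X_u = U_{s'}` (as opens of `X`).
-/

set_option autoImplicit false
universe u
open CategoryTheory CategoryTheory.Limits AlgebraicGeometry TopologicalSpace Opposite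

namespace Groth.Agent.Lib.Helper23.TwExt
open Groth.Agent.Lib.Helper23.GenLocus Groth.Agent.Lib.Helper6 Groth.Agent.Lib.Helper23.AmpleIso
open Groth.Agent.Lib.Helper23.Extend Groth.Agent.Lib.Helper23.SecTw

variable {X : Scheme.{u}}

theorem genLocus_restrSec_eq [CompactSpace X] [QuasiSeparatedSpace X] (P : X.Modules)
    (hP : PicF.IsInvertible P) (σ : Coh.structureModule X ⟶ P) (Q : X.Modules) (hQ : PicF.IsInvertible Q)
    (U : X.Opens) (hU : U = CohB1.genLocus P σ) (s' : Coh.structureModule (↑U : Scheme.{u}) ⟶ Q.restrict U.ι)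
    (n : ℕ) (t' : Γ(CohB1.tensorMod Q (CohB1.tensorPow P n), ⊤))
    (ht' : ∀ (h1 : U ≤ U.ι ''ᵁ ⊤), res _ (le_top : U ≤ ⊤) t' =
      tw Q P U (res Q h1 (show Γ(Q, U.ι ''ᵁ ⊤) from sv s' ⊤)) (sv σ U) n) :
    CohB1.genLocus _ (restrSec (secHom _ t') U) = CohB1.genLocus _ s' := by
  have hW : U.ι ''ᵁ ⊤ = U := by
    rw [Scheme.Hom.image_top_eq_opensRange, Scheme.Opens.opensRange_ι]
  have hQr := isInvertible_restrict Q hQ U
  refine opens_eq_of_cover _ _ (fun x => ?_)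
  obtain ⟨W', eQ, hxW', heQ⟩ := exists_gen _ hQr x
  refine ⟨W', hxW', ?_⟩
  rw [genLocus_inf_eq_coef s' heQ]
  have hWU : U.ι ''ᵁ W' ≤ U := image_le_self U W'
  have hWU' : U.ι ''ᵁ W' ≤ CohB1.genLocus P σ := by rw [← hU]; exact hWU
  have hgP : IsGen P (U.ι ''ᵁ W') (sv σ (U.ι ''ᵁ W')) := by
    have h1 := (isGen_sv_genLocus P σ).mono hWU'
    rwa [res_sv] at h1
  have hgP' : IsGen (P.restrict U.ι) W' (show Γ(P.restrict U.ι, W') from sv σ (U.ι ''ᵁ W')) :=
    isGen_restrict_of_isGen P U W' _ hgP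
  have hE := isGen_tmR Q (CohB1.tensorPow P n) U W' eQ (pwR P U W' _ n) heQ (isGen_pwR P U W' _ hgP' n)
  refine genLocus_inf_eq_of_isGen _ _ W' _ _ hE ?_
  rw [sv_restrSec, sv_secHom]
  have h2 : res (CohB1.tensorMod Q (CohB1.tensorPow P n)) (le_top : U.ι ''ᵁ W' ≤ ⊤) t' =
      res _ hWU (res _ (le_top : U ≤ ⊤) t') := by rw [res_res]
  rw [h2, ht' (le_of_eq hW.symm), res_tw, res_sv, res_res]
  have h3 : res Q (hWU.trans (le_of_eq hW.symm)) (show Γ(Q, U.ι ''ᵁ ⊤) from sv s' ⊤) =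
      (show Γ(Q, U.ι ''ᵁ W') from sv s' W') := by
    rw [← res_sv s' (le_top : W' ≤ ⊤)]; rfl
  rw [h3]
  have h4 : (show Γ(Q, U.ι ''ᵁ W') from sv s' W') =
      ((show Γ(X, U.ι ''ᵁ W') from coef heQ le_rfl (sv s' W')) • (show Γ(Q, U.ι ''ᵁ W') from eQ) : Γ(Q, U.ι ''ᵁ W')) := by
    rw [← smul_restrict_eq]
    exact sv_eq_coef_smul s' heQ
  rw [h4]
  unfold tw
  rw [tm_smul_left, smul_restrict_eq]
  rfl

/-- `X` qcqs, `P`, `Q` invertible, `σ` a section of `P`, `U = X_σ`, `s'` a section of `Q|_U`: some global section `u` of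
`(Q ⊗ P^n) ⊗ P` has `X_u = U_{s'}`. -/
theorem exists_twisted_section_genLocus_eq [CompactSpace X] [QuasiSeparatedSpace X] (P : X.Modules)
    (hP : PicF.IsInvertible P) (σ : Coh.structureModule X ⟶ P) (Q : X.Modules) (hQ : PicF.IsInvertible Q)
    (U : X.Opens) (hU : U = CohB1.genLocus P σ) (s' : Coh.structureModule (↑U : Scheme.{u}) ⟶ Q.restrict U.ι) :
    ∃ (n : ℕ) (u : Coh.structureModule X ⟶ CohB1.tensorMod (CohB1.tensorMod Q (CohB1.tensorPow P n)) P),
      CohB1.genLocus _ u = U.ι ''ᵁ CohB1.genLocus _ s' := by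
  have hW : U.ι ''ᵁ ⊤ = U := by
    rw [Scheme.Hom.image_top_eq_opensRange, Scheme.Opens.opensRange_ι]
  haveI : Q.IsQuasicoherent := isQuasicoherent_of_isInvertible Q hQ
  subst hU
  obtain ⟨n, -, t', ht'⟩ := Groth.Agent.S15744.main X P hP σ Q
    (res Q (le_of_eq hW.symm) (show Γ(Q, (CohB1.genLocus P σ).ι ''ᵁ ⊤) from sv s' ⊤))
  have hgl := genLocus_restrSec_eq P hP σ Q hQ (CohB1.genLocus P σ) rfl s' n t' (fun _ => ht')
  refine ⟨n, SecTwist.tmulHom (secHom _ t') σ, ?_⟩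
  rw [genLocus_tmulHom (isInvertible_tensorMod hQ (isInvertible_tensorPow hP n)) hP, ← hgl, genLocus_restrSec,
    Scheme.Hom.image_preimage_eq_opensRange_inf, Scheme.Opens.opensRange_ι, inf_comm]

end Groth.Agent.Lib.Helper23.TwExt
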