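import Mathlib
import Groth.Agent.Lib.Helper23TwExt
import Groth.Agent.Lib.Helper23PB2
import Groth.Agent.Lib.Helper23TensorUnit
import Groth.Agent.S2329

/-!
# Composition of relatively ample modules, absolute case (helper23)

Namespace `Groth.Agent.Lib.Helper23.AmpleComp`.

* `exists_local_section` : `f : X ⟶ Y`, `K` ample on `Y`, `L` `f`-ample: every point of `X` lies in an affine `X_u`,
  `u` a global section of `L^{a+1} ⊗ (f^*K)^b`.
* `isAmple_tensorMod_pullback_tensorPow` : then `L ⊗ f^*(K^n)` is ample for all `n ≥ n₀`.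
-/

set_option autoImplicit false
universe u
open CategoryTheory CategoryTheory.Limits AlgebraicGeometry TopologicalSpace Opposite

namespace Groth.Agent.Lib.Helper23.AmpleComp
open Groth.Agent.Lib.Helper23.AmpleIso Groth.Agent.Lib.Helper23.SecTw Groth.Agent.Lib.Helper23.TwExt
open Groth.Agent.Lib.Helper23.PB Groth.Agent.Lib.Helper23.TensorUnit

variable {X Y : Scheme.{u}} (f : X ⟶ Y)

/-- the basic data at a point -/
theorem exists_genLocus_ample (K : Y.Modules) (hK : CohB1.IsAmple K) (L : X.Modules)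
    (hL : RelAmple.IsRelAmple f L) (x : X) :
    ∃ (m : ℕ) (σ : Coh.structureModule X ⟶ CohB1.tensorPow ((Scheme.Modules.pullback f).obj K) (m + 1)),
      x ∈ CohB1.genLocus _ σ ∧ CohB1.IsAmple (L.restrict (CohB1.genLocus _ σ).ι) := by
  obtain ⟨m, t, hy, haffV⟩ := hK.2.2 (f x)
  obtain ⟨σ, hσ⟩ := exists_pullback_section f K hK.1 (m + 1) t
  refine ⟨m, σ, ?_, ?_⟩
  · rw [hσ]; exact hy
  · rw [hσ]; exact hL.2 ⟨_, haffV⟩

theorem quasiSeparatedSpace_of_isRelAmple (K : Y.Modules) (hK : CohB1.IsAmple K) (L : X.Modules)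
    (hL : RelAmple.IsRelAmple f L) : QuasiSeparatedSpace X := by
  have hK' := isInvertible_pullback f K hK.1
  refine quasiSeparatedSpace_of_opens_cover X (fun x => ?_)
  obtain ⟨m, σ, hx, hamp⟩ := exists_genLocus_ample f K hK L hL x
  refine ⟨CohB1.genLocus _ σ, hx, quasiSeparatedSpace_of_isAmple _ hamp, fun A => ?_⟩
  exact (isAffineOpen_inf_genLocus _ (isInvertible_tensorPow hK' (m + 1)) σ A.1 A.2).isCompact

/-- every point of `X` lies in an affine `X_u` for a global section `u` of `L^{a+1} ⊗ (f^*K)^b` -/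
theorem exists_local_section (K : Y.Modules) (hK : CohB1.IsAmple K) (L : X.Modules)
    (hL : RelAmple.IsRelAmple f L) (x : X) :
    ∃ (a b : ℕ) (u : Coh.structureModule X ⟶
        CohB1.tensorMod (CohB1.tensorPow L (a + 1)) (CohB1.tensorPow ((Scheme.Modules.pullback f).obj K) b)),
      x ∈ CohB1.genLocus _ u ∧ IsAffineOpen (CohB1.genLocus _ u) := by
  haveI := hK.2.1
  haveI := hL.1
  haveI : CompactSpace X := QuasiCompact.compactSpace_of_compactSpace f
  haveI := quasiSeparatedSpace_of_isRelAmple f K hK L hL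
  have hLinv : PicF.IsInvertible L := isInvertible_of_isRelAmple f L hL
  have hK' := isInvertible_pullback f K hK.1
  obtain ⟨m, σ, hx, hamp⟩ := exists_genLocus_ample f K hK L hL x
  obtain ⟨U, hU⟩ : ∃ U : X.Opens, U = CohB1.genLocus _ σ := ⟨_, rfl⟩
  rw [← hU] at hx hamp
  obtain ⟨a, s', hxs', haff'⟩ := hamp.2.2 (⟨x, hx⟩ : (↑U : Scheme.{u}))
  obtain ⟨Φ⟩ := nonempty_restrict_tensorPow_iso L hLinv U (a + 1)
  have hQ := isInvertible_tensorPow hLinv (a + 1)
  have hP := isInvertible_tensorPow hK' (m + 1)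
  obtain ⟨n', u, hu⟩ := exists_twisted_section_genLocus_eq _ hP σ (CohB1.tensorPow L (a + 1)) hQ U hU (s' ≫ Φ.inv)
  have hgl : CohB1.genLocus _ (s' ≫ Φ.inv) = CohB1.genLocus _ s' := genLocus_comp_iso Φ.symm s'
  rw [hgl] at hu
  -- the isomorphism to the normal form
  obtain ⟨Ψ₁⟩ := nonempty_tensorPow_tensorPow_iso _ hK' (m + 1) n' ((m + 1) * n') rfl
  obtain ⟨Ψ₂⟩ := nonempty_tensorMod_tensorPow_add_iso (CohB1.tensorPow L (a + 1)) _ hQ hK' ((m + 1) * n') (m + 1)
    ((m + 1) * n' + (m + 1)) rfl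
  refine ⟨a, (m + 1) * n' + (m + 1),
    u ≫ (tensorModIso (tensorModIso (Iso.refl _) Ψ₁) (Iso.refl _) ≪≫ Ψ₂).hom, ?_, ?_⟩
  · rw [genLocus_comp_iso, hu]
    exact ⟨⟨x, hx⟩, hxs', rfl⟩
  · rw [genLocus_comp_iso, hu]
    exact haff'.image_of_isOpenImmersion U.ι

theorem exists_pullback_sections_eventually (K : Y.Modules) (hK : CohB1.IsAmple K) :
    ∃ j₀ : ℕ, ∀ j, j₀ ≤ j → ∀ x : X,
      ∃ v : Coh.structureModule X ⟶ CohB1.tensorPow ((Scheme.Modules.pullback f).obj K) j, x ∈ CohB1.genLocus _ v := by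
  obtain ⟨N₁, hN₁⟩ := Groth.Agent.S2329.exists_uniform_sections K hK (Coh.structureModule Y)
    (isInvertible_structureModule Y)
  refine ⟨N₁, fun j hj x => ?_⟩
  obtain ⟨s, hs⟩ := hN₁ j hj (f x)
  obtain ⟨v, hv⟩ := exists_pullback_section f K hK.1 j (s ≫ (unitTensorIso _).hom)
  refine ⟨v, ?_⟩
  rw [hv, genLocus_comp_iso]
  exact hs

/-- `f : X ⟶ Y`, `K` ample on `Y`, `L` `f`-ample: `L ⊗ f^*(K^n)` is ample for all large `n` -/
theorem isAmple_tensorMod_pullback_tensorPow (K : Y.Modules) (hK : CohB1.IsAmple K) (L : X.Modules)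
    (hL : RelAmple.IsRelAmple f L) :
    ∃ n₀ : ℕ, ∀ n, n₀ ≤ n →
      CohB1.IsAmple (CohB1.tensorMod L ((Scheme.Modules.pullback f).obj (CohB1.tensorPow K n))) := by
  haveI := hK.2.1
  haveI := hL.1
  haveI : CompactSpace X := QuasiCompact.compactSpace_of_compactSpace f
  have hLinv : PicF.IsInvertible L := isInvertible_of_isRelAmple f L hL
  have hK' := isInvertible_pullback f K hK.1
  choose a b u hxu haffu using exists_local_section f K hK L hL
  obtain ⟨T, hT⟩ := CompactSpace.elim_nhds_subcover (fun y => ((CohB1.genLocus _ (u y) : X.Opens) : Set X))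
    (fun y => (CohB1.genLocus _ (u y)).isOpen.mem_nhds (hxu y))
  obtain ⟨j₀, hj₀⟩ := exists_pullback_sections_eventually f K hK
  refine ⟨j₀ + T.sup b, fun n hn => ?_⟩
  have hMinv : PicF.IsInvertible (CohB1.tensorMod L ((Scheme.Modules.pullback f).obj (CohB1.tensorPow K n))) :=
    isInvertible_tensorMod hLinv (isInvertible_pullback f _ (isInvertible_tensorPow hK.1 n))
  refine ⟨hMinv, inferInstance, fun x => ?_⟩
  have hxu' : x ∈ ⋃ y ∈ T, ((CohB1.genLocus _ (u y) : X.Opens) : Set X) := by rw [hT]; trivial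
  obtain ⟨y, hyT, hxy⟩ := Set.mem_iUnion₂.1 hxu'
  have hby : b y ≤ T.sup b := Finset.le_sup hyT
  have hle : b y + j₀ ≤ n * (a y + 1) := by
    calc b y + j₀ ≤ T.sup b + j₀ := Nat.add_le_add_right hby _
      _ ≤ n := by omega
      _ ≤ n * (a y + 1) := Nat.le_mul_of_pos_right _ (Nat.succ_pos _)
  obtain ⟨j, hj⟩ : ∃ j, b y + j = n * (a y + 1) := ⟨n * (a y + 1) - b y, by omega⟩
  have hjj : j₀ ≤ j := by omega
  obtain ⟨v, hv⟩ := hj₀ j hjj x
  -- isomorphisms
  have hQ := isInvertible_tensorPow hLinv (a y + 1)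
  obtain ⟨Ψ₁⟩ := nonempty_tensorMod_tensorPow_add_iso (CohB1.tensorPow L (a y + 1)) _ hQ hK' (b y) j
    (n * (a y + 1)) hj
  obtain ⟨Ψ₂⟩ := nonempty_tensorPow_tensorPow_iso _ hK' n (a y + 1) (n * (a y + 1)) rfl
  obtain ⟨Ψ₃⟩ := nonempty_tensorPow_tensorMod_iso L (CohB1.tensorPow ((Scheme.Modules.pullback f).obj K) n) hLinv
    (isInvertible_tensorPow hK' n) (a y + 1)
  obtain ⟨Ψ₄⟩ := nonempty_pullback_tensorPow_iso f K hK.1 n
  refine ⟨a y, SecTwist.tmulHom (u y) v ≫ (Ψ₁ ≪≫ tensorModIso (Iso.refl _) Ψ₂.symm ≪≫ Ψ₃ ≪≫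
    tensorPowIso (tensorModIso (Iso.refl L) Ψ₄.symm) (a y + 1)).hom, ?_, ?_⟩
  · rw [genLocus_comp_iso, genLocus_tmulHom (isInvertible_tensorMod hQ (isInvertible_tensorPow hK' (b y)))
      (isInvertible_tensorPow hK' j)]
    exact ⟨hxy, hv⟩
  · rw [genLocus_comp_iso, genLocus_tmulHom (isInvertible_tensorMod hQ (isInvertible_tensorPow hK' (b y)))
      (isInvertible_tensorPow hK' j)]
    exact isAffineOpen_inf_genLocus _ (isInvertible_tensorPow hK' j) v _ (haffu y)

end Groth.Agent.Lib.Helper23.AmpleComp
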