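import Mathlib
import Groth.Prelude
import Groth.Agent.Lib.Helper18KG
import Groth.Agent.Lib.Helper23AmpleComp
import Groth.Agent.Lib.Helper23VeryAmple2
import Groth.Agent.S4418
set_option backward.isDefEq.respectTransparency.types false

/-!
# Projective ⟺ H-projective over a base with an ample module (helper18)

Namespace `Groth.Agent.Helper18PO`.
-/

set_option autoImplicit false
set_option linter.style.haveILetI false
universe u

namespace Groth.Agent.Helper18PO

open CategoryTheory Limits AlgebraicGeometry TopologicalSpace Opposite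

/-- a projective morphism to a base with an ample invertible module is H-projective -/
theorem isHProjective_of_isProjective_of_isAmple {X Y : Scheme.{u}} (M : Y.Modules) (hM : CohB1.IsAmple M)
    (f : X ⟶ Y) (hf : RelProj.IsProjective f) : RelProj.IsHProjective f := by
  obtain ⟨⟨hlft, hqc, L, hL⟩, hprop⟩ := Groth.Agent.S4418.result f hf
  haveI := hlft
  haveI := hqc
  haveI := hprop
  obtain ⟨n₀, hn₀⟩ := Groth.Agent.Lib.Helper23.AmpleComp.isAmple_tensorMod_pullback_tensorPow f M hM L hL
  have hN := hn₀ n₀ le_rfl
  obtain ⟨n₁, hn₁⟩ := Groth.Agent.Lib.Helper23.VeryAmple2.isRelVeryAmplePn_twist_eventually f _ hN _ hN.1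
  obtain ⟨m, i, hi, hip, -⟩ := hn₁ n₁ le_rfl
  haveI := hi
  have hip' : i ≫ CohB1.ProjSpaceOver.toBase m Y = f := hip
  haveI : IsSeparated (CohB1.ProjSpaceOver.toBase m Y) := by
    have h1 := Groth.Agent.Helper18KG.isProjective_of_isHProjective (CohB1.ProjSpaceOver.toBase m Y)
      ⟨m, 𝟙 _, inferInstance, Category.id_comp _⟩
    have h2 := (Groth.Agent.S4418.result _ h1).2
    infer_instance
  haveI : IsProper (i ≫ CohB1.ProjSpaceOver.toBase m Y) := by rw [hip']; infer_instance
  haveI : IsProper i := IsProper.of_comp i (CohB1.ProjSpaceOver.toBase m Y)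
  exact ⟨m, i, IsClosedImmersion.of_isPreimmersion i i.isClosedMap.isClosed_range, hip'⟩

end Groth.Agent.Helper18PO
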