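import Mathlib
import Groth.Prelude.Def_OmegaPn
import Groth.Agent.Lib.Helper18UT15

set_option autoImplicit false
set_option linter.style.haveILetI false
set_option linter.unusedSectionVars false
universe u
open CategoryTheory AlgebraicGeometry Limits TopologicalSpace Opposite

namespace Groth.Agent.Helper18PP

open Groth.Agent.Helper18UT

section gen
variable {N N' X : Scheme.{u}} (ι : N ⟶ N') (p1' p2' : N' ⟶ X) (F : X.Modules)

/-- the transition map `p1'_* p2'^* F ⟶ (ι ≫ p1')_* (ι ≫ p2')^* F`. -/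
noncomputable def transMap :
    (Scheme.Modules.pushforward p1').obj ((Scheme.Modules.pullback p2').obj F) ⟶
      (Scheme.Modules.pushforward (ι ≫ p1')).obj ((Scheme.Modules.pullback (ι ≫ p2')).obj F) :=
  (Scheme.Modules.pushforward p1').map
      ((Scheme.Modules.pullbackPushforwardAdjunction ι).unit.app ((Scheme.Modules.pullback p2').obj F) ≫
        (Scheme.Modules.pushforward ι).map ((Scheme.Modules.pullbackComp ι p2').hom.app F)) ≫
    (Scheme.Modules.pushforwardComp ι p1').hom.app _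

theorem transMap_app (U : X.Opens) (x : Γ((Scheme.Modules.pullback p2').obj F, p1' ⁻¹ᵁ U)) :
    (transMap ι p1' p2' F).app U x =
      ((Scheme.Modules.pullbackComp ι p2').hom.app F).app (ι ⁻¹ᵁ (p1' ⁻¹ᵁ U))
        (OmegaSh.pullSect ι ((Scheme.Modules.pullback p2').obj F) (p1' ⁻¹ᵁ U) x) := rfl

theorem pullbackComp_hom_pullSect (U : X.Opens) (t : Γ(F, U)) :
    ((Scheme.Modules.pullbackComp ι p2').hom.app F).app (ι ⁻¹ᵁ (p2' ⁻¹ᵁ U))
        (OmegaSh.pullSect ι ((Scheme.Modules.pullback p2').obj F) (p2' ⁻¹ᵁ U)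
          (OmegaSh.pullSect p2' F U t)) =
      OmegaSh.pullSect (ι ≫ p2') F U t := by
  rw [← pullbackComp_inv_pullSect ι p2' F U t]
  have h : (Scheme.Modules.pullbackComp ι p2').inv.app F ≫
      (Scheme.Modules.pullbackComp ι p2').hom.app F = 𝟙 _ := by
    rw [← NatTrans.comp_app, Iso.inv_hom_id]; rfl
  have h2 := congrArg (fun ψ => Scheme.Modules.Hom.app ψ ((ι ≫ p2') ⁻¹ᵁ U)) h
  simp only [Scheme.Modules.Hom.comp_app] at h2
  exact congr($h2 (OmegaSh.pullSect (ι ≫ p2') F U t))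

theorem transMap_d (U : X.Opens) (he' : p1' ⁻¹ᵁ U = p2' ⁻¹ᵁ U) (t : Γ(F, U)) :
    (transMap ι p1' p2' F).app U
        (((Scheme.Modules.pullback p2').obj F).presheaf.map (homOfLE he'.le).op
          (OmegaSh.pullSect p2' F U t)) =
      ((Scheme.Modules.pullback (ι ≫ p2')).obj F).presheaf.map
        (homOfLE (show (ι ≫ p1') ⁻¹ᵁ U ≤ (ι ≫ p2') ⁻¹ᵁ U from
          (ι.preimage_mono he'.le))).op (OmegaSh.pullSect (ι ≫ p2') F U t) := by
  rw [transMap_app]
  have h1 := congr($(((Scheme.Modules.pullbackPushforwardAdjunction ι).unit.app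
    ((Scheme.Modules.pullback p2').obj F)).mapPresheaf.naturality (homOfLE he'.le).op)
    (OmegaSh.pullSect p2' F U t))
  rw [ConcreteCategory.comp_apply, ConcreteCategory.comp_apply] at h1
  refine (congrArg _ h1).trans ?_
  have h2 := hom_app_map ((Scheme.Modules.pullbackComp ι p2').hom.app F)
    (ι.preimage_mono he'.le)
    (OmegaSh.pullSect ι ((Scheme.Modules.pullback p2').obj F) (p2' ⁻¹ᵁ U)
      (OmegaSh.pullSect p2' F U t))
  refine h2.trans ?_
  rw [pullbackComp_hom_pullSect]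
  rfl

end gen

section gen2
variable {N N' X : Scheme.{u}} (ι : N ⟶ N') (p1 p2 : N ⟶ X) (p1' p2' : N' ⟶ X)
  (h1 : ι ≫ p1' = p1) (h2 : ι ≫ p2' = p2) (F : X.Modules)

include h1 h2 in
theorem exists_trans :
    ∃ r : (Scheme.Modules.pushforward p1').obj ((Scheme.Modules.pullback p2').obj F) ⟶
        (Scheme.Modules.pushforward p1).obj ((Scheme.Modules.pullback p2).obj F),
      ∀ (U : X.Opens) (he' : p1' ⁻¹ᵁ U = p2' ⁻¹ᵁ U) (he : p1 ⁻¹ᵁ U = p2 ⁻¹ᵁ U) (t : Γ(F, U)),
        r.app U (((Scheme.Modules.pullback p2').obj F).presheaf.map (homOfLE he'.le).op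
          (OmegaSh.pullSect p2' F U t)) =
        ((Scheme.Modules.pullback p2).obj F).presheaf.map (homOfLE he.le).op
          (OmegaSh.pullSect p2 F U t) := by
  subst h1 h2
  exact ⟨transMap ι p1' p2' F, fun U he' he t => transMap_d ι p1' p2' F U he' t⟩

end gen2

section main
variable {X S : Scheme.{u}} (f : X ⟶ S)

theorem infNbhdMap_pr1 {n m : ℕ} (h : n ≤ m) :
    PrinPart.infNbhdMap (PrinPart.diagCl f) h ≫ PrinPart.pr1 f m = PrinPart.pr1 f n := by
  unfold PrinPart.pr1 PrinPart.nbhdι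
  rw [Category.assoc, Category.assoc, PrinPart.infNbhdMap_ι_assoc]

theorem infNbhdMap_pr2 {n m : ℕ} (h : n ≤ m) :
    PrinPart.infNbhdMap (PrinPart.diagCl f) h ≫ PrinPart.pr2 f m = PrinPart.pr2 f n := by
  unfold PrinPart.pr2 PrinPart.nbhdι
  rw [Category.assoc, Category.assoc, PrinPart.infNbhdMap_ι_assoc]

/-- the transition map `P^m(F) ⟶ P^n(F)` for `n ≤ m`, compatible with `d^m`, `d^n`. -/
theorem exists_PMod_trans (F : X.Modules) {n m : ℕ} (h : n ≤ m) :
    ∃ r : PrinPart.PMod f m F ⟶ PrinPart.PMod f n F,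
      ∀ (U : X.Opens) (t : Γ(F, U)),
        r.app U (PrinPart.dP f m F U t) = PrinPart.dP f n F U t := by
  obtain ⟨r, hr⟩ := exists_trans (PrinPart.infNbhdMap (PrinPart.diagCl f) h) (PrinPart.pr1 f n)
    (PrinPart.pr2 f n) (PrinPart.pr1 f m) (PrinPart.pr2 f m) (infNbhdMap_pr1 f h)
    (infNbhdMap_pr2 f h) F
  exact ⟨r, fun U t => hr U (PrinPart.preimage_pr1 f m U) (PrinPart.preimage_pr1 f n U) t⟩

theorem main_S5956 (F G : X.Modules) {n m : ℕ} (h : n ≤ m)
    (D : F.presheaf ⟶ G.presheaf) (hD : PrinPart.IsDiffOpLE f F G n D) :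
    PrinPart.IsDiffOpLE f F G m D := by
  obtain ⟨u, hu⟩ := hD
  obtain ⟨r, hr⟩ := exists_PMod_trans f F h
  refine ⟨r ≫ u, fun U t => ?_⟩
  rw [hu, Scheme.Modules.Hom.comp_app, ConcreteCategory.comp_apply, hr]

end main

end Groth.Agent.Helper18PP
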