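import Mathlib
import Groth.Prelude.Def_OmegaPn
import Groth.Agent.Lib.Helper18PP12

set_option autoImplicit false
set_option linter.style.haveILetI false
set_option linter.unusedSectionVars false
universe u
open CategoryTheory AlgebraicGeometry Limits TopologicalSpace Opposite

namespace Groth.Agent.Helper18PP

open Groth.Agent.Helper18UT Groth.Agent.Helper18OmLS Groth.Agent.Helper13PullbackUnit

section pbId
variable {X : Scheme.{u}} (F : X.Modules)

theorem pullbackId_hom_pullSect (U : X.Opens) (t : Γ(F, U)) :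
    ((Scheme.Modules.pullbackId X).hom.app F).app U (OmegaSh.pullSect (𝟙 X) F U t) = t := by
  have h1 := unit_conjugateEquiv Adjunction.id
    (Scheme.Modules.pullbackPushforwardAdjunction (𝟙 X)) (Scheme.Modules.pullbackId X).hom F
  rw [Scheme.Modules.conjugateEquiv_pullbackId_hom] at h1
  have h2 := congrArg (fun φ => Scheme.Modules.Hom.app φ U) h1
  simp only [Scheme.Modules.Hom.comp_app] at h2
  have h3 := congr($h2 t)
  simp only [ConcreteCategory.comp_apply] at h3
  exact h3.symm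

/-- `𝟙_* 𝟙^* F ⟶ F`. -/
noncomputable def idCounit :
    (Scheme.Modules.pushforward (𝟙 X)).obj ((Scheme.Modules.pullback (𝟙 X)).obj F) ⟶ F :=
  (Scheme.Modules.pushforwardId X).hom.app _ ≫ (Scheme.Modules.pullbackId X).hom.app F

theorem idCounit_pullSect (U : X.Opens) (t : Γ(F, U)) :
    (idCounit F).app U (OmegaSh.pullSect (𝟙 X) F U t) = t :=
  pullbackId_hom_pullSect F U t

end pbId

section incl
variable {X : Scheme.{u}}

theorem isIso_inclusion_of_eq {I J : X.IdealSheafData} (h : I ≤ J) (e : I = J) :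
    IsIso (Scheme.IdealSheafData.inclusion h) := by
  subst e
  rw [Scheme.IdealSheafData.inclusion_id]
  infer_instance

theorem map_app_of_eq {N : Scheme.{u}} {p q : N ⟶ X} (e : p = q) (U : X.Opens)
    (h : p ⁻¹ᵁ U ≤ q ⁻¹ᵁ U) (a : Γ(X, U)) :
    N.presheaf.map (homOfLE h).op (q.app U a) = p.app U a := by
  subst e
  have : (homOfLE h).op = 𝟙 (op (p ⁻¹ᵁ U)) := rfl
  rw [this, N.presheaf.map_id]
  rfl

end incl

section main
variable {X S : Scheme.{u}} (f : X ⟶ S)

instance isIso_toNbhd_zero : IsIso (PrinPart.toNbhd f 0) := by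
  unfold PrinPart.toNbhd PrinPart.toInfNbhd
  haveI := isIso_inclusion_of_eq (PrinPart.ker_pow_succ_le (PrinPart.diagCl f) 0) (pow_one _)
  infer_instance

theorem pr1_zero_eq_pr2 : PrinPart.pr1 f 0 = PrinPart.pr2 f 0 := by
  rw [← cancel_epi (PrinPart.toNbhd f 0), PrinPart.toNbhd_pr1, PrinPart.toNbhd_pr2]

theorem dP_zero_smul (F : X.Modules) (U : X.Opens) (a : Γ(X, U)) (t : Γ(F, U)) :
    PrinPart.dP f 0 F U (a • t) = a • PrinPart.dP f 0 F U t := by
  rw [PrinPart.dP_apply, PrinPart.dP_apply]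
  have h1 : OmegaSh.pullSect (PrinPart.pr2 f 0) F U (a • t) =
      ((PrinPart.pr2 f 0).app U a) • (show Γ((Scheme.Modules.pullback (PrinPart.pr2 f 0)).obj F,
        PrinPart.pr2 f 0 ⁻¹ᵁ U) from OmegaSh.pullSect (PrinPart.pr2 f 0) F U t) := by
    refine (Scheme.Modules.Hom.app_smul ((Scheme.Modules.pullbackPushforwardAdjunction
      (PrinPart.pr2 f 0)).unit.app F) a t).trans ?_
    rfl
  rw [h1]
  erw [Scheme.Modules.map_smul]
  rw [map_app_of_eq (pr1_zero_eq_pr2 f) U (PrinPart.preimage_pr1 f 0 U).le a]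
  rfl

theorem main_S5957 (F G : X.Modules) (D : F.presheaf ⟶ G.presheaf) :
    PrinPart.IsDiffOpLE f F G 0 D ↔
      ∀ (U : X.Opens) (a : Γ(X, U)) (t : Γ(F, U)), D.app (op U) (a • t) = a • D.app (op U) t := by
  constructor
  · rintro ⟨u, hu⟩ U a t
    rw [hu, hu, dP_zero_smul, Scheme.Modules.Hom.app_smul]
  · intro hlin
    let D' : F ⟶ G := ⟨PresheafOfModules.homMk D (fun U r m => hlin U.unop r m)⟩
    have hD' : ∀ (U : X.Opens) (t : Γ(F, U)), D'.app U t = D.app (op U) t := fun _ _ => rfl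
    obtain ⟨r, hr⟩ : ∃ r : PrinPart.PMod f 0 F ⟶
        (Scheme.Modules.pushforward (𝟙 X)).obj ((Scheme.Modules.pullback (𝟙 X)).obj F),
        ∀ (U : X.Opens) (t : Γ(F, U)), r.app U (PrinPart.dP f 0 F U t) =
          OmegaSh.pullSect (𝟙 X) F U t := by
      obtain ⟨r, hr⟩ := exists_trans (PrinPart.toNbhd f 0) (𝟙 X) (𝟙 X) (PrinPart.pr1 f 0)
        (PrinPart.pr2 f 0) (PrinPart.toNbhd_pr1 f 0) (PrinPart.toNbhd_pr2 f 0) F
      refine ⟨r, fun U t => ?_⟩
      refine (hr U (PrinPart.preimage_pr1 f 0 U) rfl t).trans ?_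
      exact presheaf_map_homOfLE_refl _ _ _
    refine ⟨r ≫ idCounit F ≫ D', fun U t => ?_⟩
    change D.app (op U) t = D'.app U ((idCounit F).app U (r.app U (PrinPart.dP f 0 F U t)))
    rw [hr, idCounit_pullSect, hD']

end main

end Groth.Agent.Helper18PP
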