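import Mathlib
import Groth.Prelude.Def_OmegaPn
import Groth.Agent.Lib.Helper18PP13
import Groth.Agent.Lib.Helper18PP2

set_option autoImplicit false
set_option linter.style.haveILetI false
set_option linter.unusedSectionVars false
universe u
open CategoryTheory AlgebraicGeometry Limits TopologicalSpace Opposite TensorProduct

namespace Groth.Agent.Helper18PP

open Groth.Agent.Helper18UT Groth.Agent.Helper18OmLS Groth.Agent.Helper13PullbackUnit

section part1
variable {X S : Scheme.{u}} (f : X ⟶ S) (n : ℕ)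

instance isAffineHom_pr1 : IsAffineHom (PrinPart.pr1 f n) :=
  isAffineHom_of_retraction (PrinPart.toNbhd f n) (PrinPart.toInfNbhd_surjective _ n) _
    (PrinPart.toNbhd_pr1 f n)

instance isAffineHom_pr2 : IsAffineHom (PrinPart.pr2 f n) :=
  isAffineHom_of_retraction (PrinPart.toNbhd f n) (PrinPart.toInfNbhd_surjective _ n) _
    (PrinPart.toNbhd_pr2 f n)

/-- the pullback of the structure module along the second projection. -/
noncomputable abbrev APn : (PrinPart.nbhd f n).Modules :=
  (Scheme.Modules.pullback (PrinPart.pr2 f n)).obj (Coh.structureModule X)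

/-- the action of functions on the infinitesimal neighbourhood on sections of `P^n`. -/
noncomputable def actP (U : X.Opens) (c : Γ(PrinPart.nbhd f n, PrinPart.pr1 f n ⁻¹ᵁ U))
    (x : Γ(PrinPart.P f n, U)) : Γ(PrinPart.P f n, U) :=
  (c • (show Γ(APn f n, PrinPart.pr1 f n ⁻¹ᵁ U) from x) : Γ(APn f n, PrinPart.pr1 f n ⁻¹ᵁ U))

theorem smul_eq_actP (U : X.Opens) (a : Γ(X, U)) (x : Γ(PrinPart.P f n, U)) :
    a • x = actP f n U ((PrinPart.pr1 f n).app U a) x := rfl

theorem actP_mul (U : X.Opens) (c c' : Γ(PrinPart.nbhd f n, PrinPart.pr1 f n ⁻¹ᵁ U))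
    (x : Γ(PrinPart.P f n, U)) : actP f n U (c * c') x = actP f n U c (actP f n U c' x) :=
  mul_smul c c' (show Γ(APn f n, PrinPart.pr1 f n ⁻¹ᵁ U) from x)

theorem actP_add (U : X.Opens) (c c' : Γ(PrinPart.nbhd f n, PrinPart.pr1 f n ⁻¹ᵁ U))
    (x : Γ(PrinPart.P f n, U)) : actP f n U (c + c') x = actP f n U c x + actP f n U c' x :=
  add_smul c c' (show Γ(APn f n, PrinPart.pr1 f n ⁻¹ᵁ U) from x)

theorem actP_zero (U : X.Opens) (x : Γ(PrinPart.P f n, U)) : actP f n U 0 x = 0 :=
  zero_smul _ (show Γ(APn f n, PrinPart.pr1 f n ⁻¹ᵁ U) from x)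

/-- the unit section of `P^n` over `U`. -/
noncomputable def oneP (U : X.Opens) : Γ(PrinPart.P f n, U) := PrinPart.dn f n U 1

theorem dn_eq_actP (U : X.Opens) (b : Γ(X, U)) :
    PrinPart.dn f n U b = actP f n U ((PrinPart.pr2 f n).appLE U (PrinPart.pr1 f n ⁻¹ᵁ U)
      (PrinPart.preimage_pr1 f n U).le b) (oneP f n U) := by
  unfold oneP PrinPart.dn
  change PrinPart.dP f n (Coh.structureModule X) U (OmegaSh.strSect X U b) =
    actP f n U _ (PrinPart.dP f n (Coh.structureModule X) U (OmegaSh.strSect X U 1))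
  rw [PrinPart.dP_apply, PrinPart.dP_apply]
  have h0 : OmegaSh.strSect X U b = b • (OmegaSh.strSect X U 1) := by
    change b = b * 1
    rw [mul_one]
  have h1 : OmegaSh.pullSect (PrinPart.pr2 f n) (Coh.structureModule X) U (OmegaSh.strSect X U b) =
      ((PrinPart.pr2 f n).app U b) • (show Γ(APn f n, PrinPart.pr2 f n ⁻¹ᵁ U) from
        OmegaSh.pullSect (PrinPart.pr2 f n) (Coh.structureModule X) U (OmegaSh.strSect X U 1)) := by
    rw [h0]
    refine (Scheme.Modules.Hom.app_smul ((Scheme.Modules.pullbackPushforwardAdjunction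
      (PrinPart.pr2 f n)).unit.app (Coh.structureModule X)) b _).trans ?_
    rfl
  rw [h1]
  erw [Scheme.Modules.map_smul]
  rfl

end part1

section part1b
variable {X S : Scheme.{u}} (f : X ⟶ S) (n : ℕ)

theorem actP_oneP_bijective {U : X.Opens} (hU : IsAffineOpen U) :
    Function.Bijective (fun c : Γ(PrinPart.nbhd f n, PrinPart.pr1 f n ⁻¹ᵁ U) =>
      actP f n U c (oneP f n U)) := by
  have hT : IsAffineOpen (PrinPart.pr1 f n ⁻¹ᵁ U) := hU.preimage (PrinPart.pr1 f n)
  have hle : PrinPart.pr1 f n ⁻¹ᵁ U ≤ PrinPart.pr2 f n ⁻¹ᵁ U := (PrinPart.preimage_pr1 f n U).le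
  letI alg : Algebra Γ(X, U) Γ(PrinPart.nbhd f n, PrinPart.pr1 f n ⁻¹ᵁ U) :=
    ((PrinPart.pr2 f n).appLE U (PrinPart.pr1 f n ⁻¹ᵁ U) hle).hom.toAlgebra
  haveI : (Coh.structureModule X).IsQuasicoherent :=
    Groth.Agent.Lib.Helper20.OmegaAff.isQuasicoherent_structureModule
  obtain ⟨e, he⟩ := exists_pullback_equiv (PrinPart.pr2 f n) (Coh.structureModule X) hle hU hT rfl
  have hone : unitSec (PrinPart.pr2 f n) (Coh.structureModule X) hle (OmegaSh.strSect X U 1) =
      oneP f n U := rfl
  -- `c ↦ c ⊗ 1` is bijective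
  let j : Γ(PrinPart.nbhd f n, PrinPart.pr1 f n ⁻¹ᵁ U) →
      Γ(PrinPart.nbhd f n, PrinPart.pr1 f n ⁻¹ᵁ U) ⊗[Γ(X, U)] Γ(Coh.structureModule X, U) :=
    fun c => c ⊗ₜ (OmegaSh.strSect X U 1)
  have hj : Function.Bijective j := by
    constructor
    · let back : Γ(PrinPart.nbhd f n, PrinPart.pr1 f n ⁻¹ᵁ U) ⊗[Γ(X, U)]
          Γ(Coh.structureModule X, U) →+ Γ(PrinPart.nbhd f n, PrinPart.pr1 f n ⁻¹ᵁ U) :=
        TensorProduct.liftAddHom
          { toFun := fun c =>
              { toFun := fun m => c * algebraMap Γ(X, U) _ (OmegaSh.fnSect X U m)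
                map_zero' := by rw [map_zero, map_zero, mul_zero]
                map_add' := fun a b => by rw [map_add, map_add, mul_add] }
            map_zero' := by
              ext m
              exact zero_mul _
            map_add' := fun a b => by
              ext m
              exact add_mul _ _ _ }
          (fun a c m => by
            change (a • c) * algebraMap Γ(X, U) _ (OmegaSh.fnSect X U m) =
              c * algebraMap Γ(X, U) _ (OmegaSh.fnSect X U (a • m))
            have : OmegaSh.fnSect X U (a • m) = a * OmegaSh.fnSect X U m := rfl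
            rw [this, map_mul, Algebra.smul_def]
            ring)
      have hback : ∀ c, back (j c) = c := by
        intro c
        change c * algebraMap Γ(X, U) _ (OmegaSh.fnSect X U (OmegaSh.strSect X U 1)) = c
        have : OmegaSh.fnSect X U (OmegaSh.strSect X U 1) = 1 := rfl
        rw [this, map_one, mul_one]
      exact Function.LeftInverse.injective hback
    · intro t
      induction t using TensorProduct.induction_on with
      | zero => exact ⟨0, TensorProduct.zero_tmul _ _⟩
      | tmul c m =>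
        refine ⟨c * algebraMap Γ(X, U) _ (OmegaSh.fnSect X U m), ?_⟩
        change (c * algebraMap Γ(X, U) _ (OmegaSh.fnSect X U m)) ⊗ₜ (OmegaSh.strSect X U 1) = c ⊗ₜ m
        have hm : m = (OmegaSh.fnSect X U m) • (OmegaSh.strSect X U 1) :=
          (mul_one (OmegaSh.fnSect X U m)).symm
        conv_rhs => rw [hm]
        rw [TensorProduct.tmul_smul, TensorProduct.smul_tmul', Algebra.smul_def, mul_comm]
      | add x y hx hy =>
        obtain ⟨a, ha⟩ := hx
        obtain ⟨b, hb⟩ := hy
        refine ⟨a + b, ?_⟩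
        change (a + b) ⊗ₜ (OmegaSh.strSect X U 1) = _
        rw [TensorProduct.add_tmul]
        exact congrArg₂ _ ha hb
  have hcomp : ∀ c, actP f n U c (oneP f n U) = e (j c) := by
    intro c
    rw [he, hone]
    rfl
  have : (fun c : Γ(PrinPart.nbhd f n, PrinPart.pr1 f n ⁻¹ᵁ U) => actP f n U c (oneP f n U)) =
      e ∘ j := funext hcomp
  rw [this]
  exact e.bijective.comp hj

end part1b

end Groth.Agent.Helper18PP
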