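import Mathlib
import Groth.Prelude.Def_OmegaPn
import Groth.Agent.Lib.Helper18PP14

set_option autoImplicit false
set_option linter.style.haveILetI false
set_option linter.unusedSectionVars false
universe u
open CategoryTheory AlgebraicGeometry Limits TopologicalSpace Opposite TensorProduct

namespace Groth.Agent.Helper18PP

section ringLemma

theorem comap_pow_of_bijective {R R' : Type*} [CommRing R] [CommRing R'] (θ : R →+* R')
    (hθ : Function.Bijective θ) (J : Ideal R') (k : ℕ) :
    Ideal.comap θ (J ^ k) = (Ideal.comap θ J) ^ k := by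
  let e : R ≃+* R' := RingEquiv.ofBijective θ hθ
  have h1 : ∀ K : Ideal R', Ideal.comap θ K = Ideal.map (e.symm : R' →+* R) K := by
    intro K
    exact (Ideal.map_symm (I := K) e).symm
  rw [h1, h1, Ideal.map_pow]

end ringLemma

section affine
variable (A B : Type u) [CommRing A] [CommRing B] [Algebra A B]

/-- the structure morphism `Spec B ⟶ Spec A`. -/
noncomputable abbrev fAB : Spec (CommRingCat.of B) ⟶ Spec (CommRingCat.of A) :=
  Spec.map (CommRingCat.ofHom (algebraMap A B))

instance : IsClosedImmersion (pullback.diagonal (fAB A B)) := inferInstance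

theorem coborderRange_eq_top : (pullback.diagonal (fAB A B)).coborderRange = ⊤ := by
  ext1
  exact (pullback.diagonal (fAB A B)).isClosedEmbedding.isClosed_range.coborder_eq

instance isIso_coborderRange_ι : IsIso (pullback.diagonal (fAB A B)).coborderRange.ι := by
  rw [coborderRange_eq_top]
  exact (Scheme.topIso _).isIso_hom

/-- the closed immersion of the infinitesimal neighbourhood into `Spec (B ⊗ B)`. -/
noncomputable def qAB (n : ℕ) : PrinPart.nbhd (fAB A B) n ⟶ Spec (CommRingCat.of (B ⊗[A] B)) :=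
  PrinPart.nbhdι (fAB A B) n ≫ (pullbackSpecIso A B B).hom

instance (n : ℕ) : IsClosedImmersion (qAB A B n) := by
  unfold qAB PrinPart.nbhdι
  infer_instance

/-- the ring map `B ⊗ B ⟶ Γ(nbhd, ⊤)`. -/
noncomputable def thetaAB (n : ℕ) : CommRingCat.of (B ⊗[A] B) ⟶ Γ(PrinPart.nbhd (fAB A B) n, ⊤) :=
  (Scheme.ΓSpecIso (CommRingCat.of (B ⊗[A] B))).inv ≫ (qAB A B n).appTop

theorem thetaAB_surjective (n : ℕ) : Function.Surjective (thetaAB A B n) := by
  have h1 : Function.Surjective ((qAB A B n).appTop) :=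
    (qAB A B n).app_surjective ⊤ (isAffineOpen_top _)
  have h2 : Function.Surjective (Scheme.ΓSpecIso (CommRingCat.of (B ⊗[A] B))).inv :=
    (ConcreteCategory.bijective_of_isIso _).2
  exact h1.comp h2

end affine

section affine2
variable (A B : Type u) [CommRing A] [CommRing B] [Algebra A B]

/-- the multiplication map as a morphism of commutative rings. -/
noncomputable abbrev multAB : CommRingCat.of (B ⊗[A] B) ⟶ CommRingCat.of B :=
  CommRingCat.ofHom (Algebra.TensorProduct.lmul' A : B ⊗[A] B →ₐ[A] B).toRingHom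

noncomputable abbrev inclL : CommRingCat.of B ⟶ CommRingCat.of (B ⊗[A] B) :=
  CommRingCat.ofHom Algebra.TensorProduct.includeLeftRingHom

noncomputable abbrev inclR : CommRingCat.of B ⟶ CommRingCat.of (B ⊗[A] B) :=
  CommRingCat.ofHom (R := B) (S := B ⊗[A] B)
    (RingHomClass.toRingHom (Algebra.TensorProduct.includeRight (R := A) (A := B) (B := B)))

theorem qAB_fst (n : ℕ) : qAB A B n ≫ Spec.map (inclL A B) = PrinPart.pr1 (fAB A B) n := by
  unfold qAB PrinPart.pr1
  rw [Category.assoc, pullbackSpecIso_hom_fst]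

theorem qAB_snd (n : ℕ) : qAB A B n ≫ Spec.map (inclR A B) = PrinPart.pr2 (fAB A B) n := by
  unfold qAB PrinPart.pr2
  rw [Category.assoc, pullbackSpecIso_hom_snd]

theorem inclL_thetaAB (n : ℕ) : inclL A B ≫ thetaAB A B n =
    (Scheme.ΓSpecIso (CommRingCat.of B)).inv ≫ (PrinPart.pr1 (fAB A B) n).appTop := by
  unfold thetaAB
  rw [← qAB_fst, Scheme.Hom.comp_appTop, Scheme.ΓSpecIso_inv_naturality_assoc]

theorem inclR_thetaAB (n : ℕ) : inclR A B ≫ thetaAB A B n =
    (Scheme.ΓSpecIso (CommRingCat.of B)).inv ≫ (PrinPart.pr2 (fAB A B) n).appTop := by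
  unfold thetaAB
  rw [← qAB_snd, Scheme.Hom.comp_appTop, Scheme.ΓSpecIso_inv_naturality_assoc]

theorem thetaAB_tmul (n : ℕ) (b b' : B) :
    thetaAB A B n (b ⊗ₜ[A] b') =
      (PrinPart.pr1 (fAB A B) n).appTop ((Scheme.ΓSpecIso (CommRingCat.of B)).inv b) *
        (PrinPart.pr2 (fAB A B) n).appTop ((Scheme.ΓSpecIso (CommRingCat.of B)).inv b') := by
  have h1 := congr($(inclL_thetaAB A B n) b)
  have h2 := congr($(inclR_thetaAB A B n) b')
  have h3 : (b ⊗ₜ[A] b' : B ⊗[A] B) = (b ⊗ₜ[A] (1 : B)) * ((1 : B) ⊗ₜ[A] b') := by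
    rw [Algebra.TensorProduct.tmul_mul_tmul, mul_one, one_mul]
  rw [h3, map_mul]
  exact congrArg₂ _ h1 h2

end affine2

section kernel
variable (A B : Type u) [CommRing A] [CommRing B] [Algebra A B]

/-- the isomorphism from the coborder open of the diagonal to `Spec (B ⊗ B)`. -/
noncomputable def jAB : ((pullback.diagonal (fAB A B)).coborderRange : Scheme.{u}) ⟶
    Spec (CommRingCat.of (B ⊗[A] B)) :=
  (pullback.diagonal (fAB A B)).coborderRange.ι ≫ (pullbackSpecIso A B B).hom

instance : IsIso (jAB A B) := by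
  unfold jAB
  infer_instance

theorem qAB_eq (n : ℕ) :
    qAB A B n = PrinPart.infNbhdι (PrinPart.diagCl (fAB A B)) n ≫ jAB A B := by
  unfold qAB jAB PrinPart.nbhdι
  rw [Category.assoc]

instance isAffine_coborder : IsAffine ((pullback.diagonal (fAB A B)).coborderRange : Scheme.{u}) :=
  IsAffine.of_isIso (jAB A B)

/-- `B ⊗ B ≅ Γ(W, ⊤)`. -/
noncomputable def theta0 : CommRingCat.of (B ⊗[A] B) ⟶
    Γ(((pullback.diagonal (fAB A B)).coborderRange : Scheme.{u}), ⊤) :=
  (Scheme.ΓSpecIso (CommRingCat.of (B ⊗[A] B))).inv ≫ (jAB A B).appTop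

instance : IsIso (theta0 A B) := by
  unfold theta0
  haveI : IsIso (jAB A B).appTop := inferInstanceAs (IsIso ((jAB A B).app ⊤))
  infer_instance

theorem thetaAB_eq (n : ℕ) : thetaAB A B n =
    theta0 A B ≫ (PrinPart.infNbhdι (PrinPart.diagCl (fAB A B)) n).appTop := by
  unfold thetaAB theta0
  rw [qAB_eq, Scheme.Hom.comp_appTop, Category.assoc]

theorem diagCl_jAB : PrinPart.diagCl (fAB A B) ≫ jAB A B = Spec.map (multAB A B) := by
  unfold jAB
  rw [Scheme.Hom.liftCoborder_ι_assoc, ← cancel_mono (pullbackSpecIso A B B).inv, Category.assoc,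
    Iso.hom_inv_id, Category.comp_id]
  apply pullback.hom_ext
  · rw [Category.assoc, pullbackSpecIso_inv_fst, ← Spec.map_comp, pullback.diagonal_fst]
    have : inclL A B ≫ multAB A B = 𝟙 _ := by
      ext b
      change (Algebra.TensorProduct.lmul' A) (b ⊗ₜ[A] (1 : B)) = b
      rw [Algebra.TensorProduct.lmul'_apply_tmul, mul_one]
    exact (Spec.map_id _).symm.trans (congrArg Spec.map this.symm)
  · rw [Category.assoc, pullbackSpecIso_inv_snd, ← Spec.map_comp, pullback.diagonal_snd]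
    have : inclR A B ≫ multAB A B = 𝟙 _ := by
      ext b
      change (Algebra.TensorProduct.lmul' A) ((1 : B) ⊗ₜ[A] b) = b
      rw [Algebra.TensorProduct.lmul'_apply_tmul, one_mul]
    exact (Spec.map_id _).symm.trans (congrArg Spec.map this.symm)

theorem theta0_diagCl : theta0 A B ≫ (PrinPart.diagCl (fAB A B)).appTop =
    multAB A B ≫ (Scheme.ΓSpecIso (CommRingCat.of B)).inv := by
  unfold theta0
  rw [Category.assoc, ← Scheme.Hom.comp_appTop, diagCl_jAB, Scheme.ΓSpecIso_inv_naturality]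

theorem ker_thetaAB (n : ℕ) :
    RingHom.ker (thetaAB A B n).hom = KaehlerDifferential.ideal A B ^ (n + 1) := by
  have hW : IsAffineOpen (⊤ : ((pullback.diagonal (fAB A B)).coborderRange : Scheme.{u}).Opens) :=
    isAffineOpen_top _
  have h1 : RingHom.ker ((PrinPart.infNbhdι (PrinPart.diagCl (fAB A B)) n).appTop).hom =
      (RingHom.ker ((PrinPart.diagCl (fAB A B)).appTop).hom) ^ (n + 1) := by
    have e1 := Scheme.IdealSheafData.ker_subschemeι_app
      ((PrinPart.diagCl (fAB A B)).ker ^ (n + 1)) ⟨⊤, hW⟩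
    have e2 := Scheme.Hom.ker_apply (PrinPart.diagCl (fAB A B)) ⟨⊤, hW⟩
    rw [Scheme.IdealSheafData.ideal_pow, Pi.pow_apply, e2] at e1
    exact e1
  have hbij : Function.Bijective (theta0 A B).hom := ConcreteCategory.bijective_of_isIso _
  have h2 : RingHom.ker (thetaAB A B n).hom =
      Ideal.comap (theta0 A B).hom
        (RingHom.ker ((PrinPart.infNbhdι (PrinPart.diagCl (fAB A B)) n).appTop).hom) := by
    rw [thetaAB_eq, CommRingCat.hom_comp, RingHom.comap_ker]
  rw [h2, h1, comap_pow_of_bijective _ hbij, RingHom.comap_ker, ← CommRingCat.hom_comp,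
    theta0_diagCl, CommRingCat.hom_comp, ← RingHom.comap_ker]
  have h3 : RingHom.ker (Scheme.ΓSpecIso (CommRingCat.of B)).inv.hom = ⊥ :=
    (RingHom.injective_iff_ker_eq_bot _).1 (ConcreteCategory.bijective_of_isIso
      (Scheme.ΓSpecIso (CommRingCat.of B)).inv).1
  rw [h3, ← RingHom.ker_eq_comap_bot]
  rfl

end kernel

section main
variable (A B : Type u) [CommRing A] [CommRing B] [Algebra A B]

theorem appLE_top_eq_appTop {N X : Scheme.{u}} (p q : N ⟶ X) (h : q ⁻¹ᵁ ⊤ ≤ p ⁻¹ᵁ ⊤)
    (x : Γ(X, ⊤)) :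
    (p.appLE ⊤ (q ⁻¹ᵁ ⊤) h x : Γ(N, q ⁻¹ᵁ ⊤)) = (show Γ(N, q ⁻¹ᵁ ⊤) from p.appTop x) := by
  rw [Scheme.Hom.appLE, CommRingCat.comp_apply]
  have h1 : N.presheaf.map (homOfLE h).op = 𝟙 _ := N.presheaf.map_id _
  rw [h1]
  rfl

theorem main_S5972 (n : ℕ)
    (ψ : TensorProduct A B B →+
      Γ(PrinPart.P (Spec.map (CommRingCat.ofHom (algebraMap A B))) n,
        (⊤ : (Spec (CommRingCat.of B)).Opens)))
    (hψ : ∀ b b' : B, ψ (b ⊗ₜ[A] b') =
      (Scheme.ΓSpecIso (CommRingCat.of B)).inv b •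
        PrinPart.dn (Spec.map (CommRingCat.ofHom (algebraMap A B))) n ⊤
          ((Scheme.ΓSpecIso (CommRingCat.of B)).inv b')) :
    Function.Surjective ψ ∧ ψ.ker = (KaehlerDifferential.ideal A B ^ (n + 1)).toAddSubgroup := by
  have hΞ := actP_oneP_bijective (fAB A B) n (isAffineOpen_top (Spec (CommRingCat.of B)))
  have hcomp : ∀ x : B ⊗[A] B, ψ x = actP (fAB A B) n ⊤ (thetaAB A B n x) (oneP (fAB A B) n ⊤) := by
    intro x
    induction x using TensorProduct.induction_on with
    | zero =>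
      rw [map_zero, map_zero]
      exact (actP_zero (fAB A B) n ⊤ _).symm
    | tmul b b' =>
      rw [hψ, thetaAB_tmul, smul_eq_actP, dn_eq_actP, ← actP_mul, appLE_top_eq_appTop]
      rfl
    | add x y hx hy =>
      rw [map_add, map_add, hx, hy]
      exact (actP_add (fAB A B) n ⊤ _ _ _).symm
  constructor
  · intro y
    obtain ⟨c, rfl⟩ := hΞ.2 y
    obtain ⟨x, rfl⟩ := thetaAB_surjective A B n c
    exact ⟨x, hcomp x⟩
  · ext x
    rw [AddMonoidHom.mem_ker, Submodule.mem_toAddSubgroup, ← ker_thetaAB, RingHom.mem_ker, hcomp]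
    constructor
    · intro h
      have h0 : actP (fAB A B) n ⊤ 0 (oneP (fAB A B) n ⊤) = 0 := actP_zero (fAB A B) n ⊤ _
      exact hΞ.1 (h.trans h0.symm)
    · intro h
      have h' : thetaAB A B n x = 0 := h
      rw [h']
      exact actP_zero (fAB A B) n ⊤ _

end main

end Groth.Agent.Helper18PP
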