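import Mathlib
import Groth.Prelude.Def_OmegaPn
import Groth.Agent.Lib.Helper18PP14

set_option autoImplicit false
set_option linter.style.haveILetI false
set_option linter.unusedSectionVars false
universe u
open CategoryTheory AlgebraicGeometry Limits TopologicalSpace Opposite TensorProduct

namespace Groth.Agent.Helper18PP

section topo

/-- an open set in which `R` is relatively closed lies in the coborder of `R`. -/
theorem subset_coborder_of_closed_in {α : Type*} [TopologicalSpace α] {R E C : Set α}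
    (hE : IsOpen E) (hC : IsClosed C) (hRE : R ∩ E = C ∩ E) : E ⊆ coborder R := by
  intro p hpE
  rw [coborder, Set.mem_compl_iff]
  rintro ⟨hpcl, hpR⟩
  have h1 : p ∈ closure (E ∩ R) := hE.inter_closure ⟨hpE, hpcl⟩
  have h2 : E ∩ R ⊆ C := by
    intro q hq
    have : q ∈ R ∩ E := ⟨hq.2, hq.1⟩
    rw [hRE] at this
    exact this.1
  have h3 : p ∈ C := hC.closure_subset_iff.2 h2 h1
  have h4 : p ∈ R ∩ E := by rw [hRE]; exact ⟨h3, hpE⟩
  exact hpR h4.1

end topo

section chartE
variable {X S : Scheme.{u}} (f : X ⟶ S) {U : X.Opens} {V : S.Opens}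
  (hU : IsAffineOpen U) (hV : IsAffineOpen V) (hUV : U ≤ f ⁻¹ᵁ V)

/-- the open `U ×_V U` of `X ×_S X`. -/
noncomputable abbrev EU (U : X.Opens) : (pullback f f : Scheme.{u}).Opens :=
  pullback.fst f f ⁻¹ᵁ U ⊓ pullback.snd f f ⁻¹ᵁ U

include hU hV hUV in
theorem EU_le_coborderRange : EU f U ≤ (pullback.diagonal f).coborderRange := by
  have : IsAffine (U : Scheme.{u}) := hU
  have : IsAffine (V : Scheme.{u}) := hV
  let fU : (U : Scheme.{u}) ⟶ (V : Scheme.{u}) := f.resLE V U hUV
  have hfU : fU ≫ V.ι = U.ι ≫ f := Scheme.Hom.resLE_comp_ι f hUV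
  let j : pullback fU fU ⟶ pullback f f := pullback.map fU fU f f U.ι U.ι V.ι hfU hfU
  have hjrange : Set.range j = (EU f U : Set ↥(pullback f f)) := by
    rw [Scheme.Pullback.range_map, Scheme.Opens.range_ι]
    rfl
  have hΔ : pullback.diagonal fU ≫ j = U.ι ≫ pullback.diagonal f := by
    apply pullback.hom_ext
    · rw [Category.assoc, pullback.lift_fst, pullback.diagonal_fst_assoc, Category.assoc,
        pullback.diagonal_fst, Category.comp_id]
    · rw [Category.assoc, pullback.lift_snd, pullback.diagonal_snd_assoc, Category.assoc,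
        pullback.diagonal_snd, Category.comp_id]
  let A : Set ↥(pullback fU fU) := Set.range (pullback.diagonal fU)
  have hA : IsClosed A := (pullback.diagonal fU).isClosedEmbedding.isClosed_range
  have hRE : Set.range (pullback.diagonal f) ∩ (EU f U : Set ↥(pullback f f)) = j '' A := by
    ext q
    constructor
    · rintro ⟨⟨x, rfl⟩, hq⟩
      have hxU : x ∈ U := by
        have h1 : pullback.fst f f (pullback.diagonal f x) ∈ U := hq.1
        rw [← Scheme.Hom.comp_apply, pullback.diagonal_fst] at h1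
        exact h1
      let x' : ↥(U : Scheme.{u}) := ⟨x, hxU⟩
      refine ⟨pullback.diagonal fU x', ⟨_, rfl⟩, ?_⟩
      have h2 : (pullback.diagonal fU ≫ j) x' = (U.ι ≫ pullback.diagonal f) x' := by rw [hΔ]
      exact h2
    · rintro ⟨_, ⟨x', rfl⟩, rfl⟩
      refine ⟨⟨U.ι x', ?_⟩, ?_⟩
      · have h2 : (pullback.diagonal fU ≫ j) x' = (U.ι ≫ pullback.diagonal f) x' := by rw [hΔ]
        exact h2.symm
      · rw [← hjrange]
        exact ⟨_, rfl⟩
  intro p hp
  refine subset_coborder_of_closed_in (R := Set.range (pullback.diagonal f))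
    (E := (EU f U : Set ↥(pullback f f))) (C := closure (j '' A)) (EU f U).isOpen isClosed_closure ?_ hp
  rw [hRE]
  apply Set.Subset.antisymm
  · intro q hq
    refine ⟨subset_closure hq, ?_⟩
    rw [← hjrange]
    obtain ⟨t, -, rfl⟩ := hq
    exact ⟨t, rfl⟩
  · rintro q ⟨hqC, hqE⟩
    rw [← hjrange] at hqE
    obtain ⟨t, rfl⟩ := hqE
    have hind : Topology.IsInducing j := j.isOpenEmbedding.isInducing
    have : t ∈ closure A := by
      rw [hind.closure_eq_preimage_closure_image]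
      exact hqC
    rw [hA.closure_eq] at this
    exact ⟨t, this, rfl⟩

end chartE

section gen
variable {X S : Scheme.{u}} (f : X ⟶ S) (n : ℕ) {U : X.Opens} {V : S.Opens}
  (hU : IsAffineOpen U) (hV : IsAffineOpen V) (hUV : U ≤ f ⁻¹ᵁ V)

theorem preimage_EU : PrinPart.nbhdι f n ⁻¹ᵁ (EU f U) = PrinPart.pr1 f n ⁻¹ᵁ U := by
  unfold EU
  rw [Scheme.Hom.preimage_inf, ← Scheme.Hom.comp_preimage, ← Scheme.Hom.comp_preimage]
  change PrinPart.pr1 f n ⁻¹ᵁ U ⊓ PrinPart.pr2 f n ⁻¹ᵁ U = _
  rw [← PrinPart.preimage_pr1, inf_idem]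

theorem presheaf_map_surjective_of_le {Y : Scheme.{u}} {A B : Y.Opens} (h : A ≤ B) (h' : B ≤ A) :
    Function.Surjective (Y.presheaf.map (homOfLE h).op) := by
  intro y
  refine ⟨Y.presheaf.map (homOfLE h').op y, ?_⟩
  rw [← CommRingCat.comp_apply, ← Functor.map_comp]
  have : (homOfLE h').op ≫ (homOfLE h).op = 𝟙 (op A) := Subsingleton.elim _ _
  rw [this, Y.presheaf.map_id]
  rfl

include hU hV hUV in
theorem EU_isAffineOpen : IsAffineOpen (EU f U) := by
  have : IsAffine (V : Scheme.{u}) := hV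
  have : IsAffine (U : Scheme.{u}) := hU
  exact .of_isIso (Scheme.Hom.isPullback_resLE (IsPullback.of_hasPullback f f) hUV hUV
    (UY := EU f U) rfl).isoPullback.hom

include hU hV hUV in
theorem nbhdι_appLE_surjective :
    Function.Surjective ((PrinPart.nbhdι f n).appLE (EU f U) (PrinPart.pr1 f n ⁻¹ᵁ U)
      (preimage_EU f n).ge) := by
  have hE := EU_isAffineOpen f hU hV hUV
  have hEW := EU_le_coborderRange f hU hV hUV
  let W := (pullback.diagonal f).coborderRange
  have hE' : IsAffineOpen (W.ι ⁻¹ᵁ (EU f U)) :=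
    hE.preimage_of_isOpenImmersion W.ι (by rw [Scheme.Opens.opensRange_ι]; exact hEW)
  have h1 : Function.Surjective ((PrinPart.infNbhdι (PrinPart.diagCl f) n).app (W.ι ⁻¹ᵁ (EU f U))) :=
    (PrinPart.infNbhdι (PrinPart.diagCl f) n).app_surjective _ hE'
  have h2 : Function.Surjective (W.ι.app (EU f U)) := by
    rw [Scheme.Opens.ι_app]
    refine presheaf_map_surjective_of_le _ ?_
    intro p hp
    exact ⟨⟨p, hEW hp⟩, hp, rfl⟩
  have h3 : (PrinPart.nbhdι f n).app (EU f U) =
      W.ι.app (EU f U) ≫ (PrinPart.infNbhdι (PrinPart.diagCl f) n).app (W.ι ⁻¹ᵁ (EU f U)) := by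
    unfold PrinPart.nbhdι
    exact Scheme.Hom.comp_app _ _ _
  have h4 : Function.Surjective ((PrinPart.nbhdι f n).app (EU f U)) := by
    rw [h3]
    exact h1.comp h2
  rw [Scheme.Hom.appLE]
  exact (presheaf_map_surjective_of_le _ (preimage_EU f n).le).comp h4

end gen

section actPlemmas
variable {X S : Scheme.{u}} (f : X ⟶ S) (n : ℕ) (U : X.Opens)

theorem actP_one (x : Γ(PrinPart.P f n, U)) : actP f n U 1 x = x :=
  one_smul _ (show Γ(APn f n, PrinPart.pr1 f n ⁻¹ᵁ U) from x)

theorem actP_neg (c : Γ(PrinPart.nbhd f n, PrinPart.pr1 f n ⁻¹ᵁ U)) (x : Γ(PrinPart.P f n, U)) :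
    actP f n U (-c) x = -actP f n U c x :=
  neg_smul c (show Γ(APn f n, PrinPart.pr1 f n ⁻¹ᵁ U) from x)

theorem actP_add_right (c : Γ(PrinPart.nbhd f n, PrinPart.pr1 f n ⁻¹ᵁ U))
    (x y : Γ(PrinPart.P f n, U)) : actP f n U c (x + y) = actP f n U c x + actP f n U c y :=
  smul_add c (show Γ(APn f n, PrinPart.pr1 f n ⁻¹ᵁ U) from x)
    (show Γ(APn f n, PrinPart.pr1 f n ⁻¹ᵁ U) from y)

theorem actP_zero_right (c : Γ(PrinPart.nbhd f n, PrinPart.pr1 f n ⁻¹ᵁ U)) :
    actP f n U c (0 : Γ(PrinPart.P f n, U)) = 0 :=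
  smul_zero (A := Γ(APn f n, PrinPart.pr1 f n ⁻¹ᵁ U)) c

theorem actP_smul_right (c : Γ(PrinPart.nbhd f n, PrinPart.pr1 f n ⁻¹ᵁ U)) (a : Γ(X, U))
    (x : Γ(PrinPart.P f n, U)) : actP f n U c (a • x) = a • actP f n U c x := by
  rw [smul_eq_actP, smul_eq_actP, ← actP_mul, ← actP_mul, mul_comm]

end actPlemmas

section gen2
variable {X S : Scheme.{u}} (f : X ⟶ S) (n : ℕ) {U : X.Opens} {V : S.Opens}
  (hU : IsAffineOpen U) (hV : IsAffineOpen V) (hUV : U ≤ f ⁻¹ᵁ V)

include hU hV hUV in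
/-- over an affine open lying over an affine open of the base, `P^n` is generated by the image
of `d^n` as a left module. -/
theorem mem_span_dn (x : Γ(PrinPart.P f n, U)) :
    x ∈ Submodule.span Γ(X, U) (Set.range (PrinPart.dn f n U)) := by
  have hfst : EU f U ≤ pullback.fst f f ⁻¹ᵁ U := inf_le_left
  have hsnd : EU f U ≤ pullback.snd f f ⁻¹ᵁ U := inf_le_right
  have hT := (preimage_EU (U := U) f n).ge
  have hρ1 : ∀ a : Γ(X, U), (PrinPart.nbhdι f n).appLE (EU f U) (PrinPart.pr1 f n ⁻¹ᵁ U) hT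
      ((pullback.fst f f).appLE U (EU f U) hfst a) = (PrinPart.pr1 f n).app U a := by
    intro a
    have h1 : (pullback.fst f f).appLE U (EU f U) hfst ≫
        (PrinPart.nbhdι f n).appLE (EU f U) (PrinPart.pr1 f n ⁻¹ᵁ U) hT =
        (PrinPart.pr1 f n).appLE U (PrinPart.pr1 f n ⁻¹ᵁ U) le_rfl :=
      Scheme.Hom.appLE_comp_appLE _ _ _ _ _ _ _
    rw [Scheme.Hom.app_eq_appLE]
    exact congr($h1 a)
  have hρ2 : ∀ b : Γ(X, U), (PrinPart.nbhdι f n).appLE (EU f U) (PrinPart.pr1 f n ⁻¹ᵁ U) hT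
      ((pullback.snd f f).appLE U (EU f U) hsnd b) =
      (PrinPart.pr2 f n).appLE U (PrinPart.pr1 f n ⁻¹ᵁ U) (PrinPart.preimage_pr1 f n U).le b := by
    intro b
    have h1 : (pullback.snd f f).appLE U (EU f U) hsnd ≫
        (PrinPart.nbhdι f n).appLE (EU f U) (PrinPart.pr1 f n ⁻¹ᵁ U) hT =
        (PrinPart.pr2 f n).appLE U (PrinPart.pr1 f n ⁻¹ᵁ U) (PrinPart.preimage_pr1 f n U).le :=
      Scheme.Hom.appLE_comp_appLE _ _ _ _ _ _ _
    exact congr($h1 b)
  have hPO : IsPushout (f.appLE V U hUV) (f.appLE V U hUV)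
      ((pullback.fst f f).appLE U (EU f U) hfst) ((pullback.snd f f).appLE U (EU f U) hsnd) := by
    have := isIso_pushoutSection_of_isAffineOpen (IsPullback.of_hasPullback f f) hUV hUV
      (UY := EU f U) rfl hV hU hU
    exact (isIso_pushoutSection_iff (IsPullback.of_hasPullback f f) _ _ rfl).mp this
  have hcl := CommRingCat.closure_range_union_range_eq_top_of_isPushout hPO
  let Sp := Submodule.span Γ(X, U) (Set.range (PrinPart.dn f n U))
  have hone : oneP f n U ∈ Sp := Submodule.subset_span ⟨1, rfl⟩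
  let Q : Subring Γ(pullback f f, EU f U) :=
    { carrier := {e | ∀ y ∈ Sp, actP f n U ((PrinPart.nbhdι f n).appLE (EU f U)
        (PrinPart.pr1 f n ⁻¹ᵁ U) hT e) y ∈ Sp}
      mul_mem' := fun {a b} ha hb y hy => by
        rw [map_mul, actP_mul]
        exact ha _ (hb y hy)
      one_mem' := fun y hy => by
        rw [map_one, actP_one]
        exact hy
      add_mem' := fun {a b} ha hb y hy => by
        rw [map_add, actP_add]
        exact Sp.add_mem (ha y hy) (hb y hy)
      zero_mem' := fun y hy => by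
        rw [map_zero, actP_zero]
        exact Sp.zero_mem
      neg_mem' := fun {a} ha y hy => by
        rw [map_neg, actP_neg]
        exact Sp.neg_mem (ha y hy) }
  have hQ : Q = ⊤ := by
    rw [eq_top_iff, ← hcl, Subring.closure_le]
    rintro e (⟨a, rfl⟩ | ⟨b, rfl⟩)
    · intro y hy
      rw [hρ1, ← smul_eq_actP]
      exact Sp.smul_mem a hy
    · intro y hy
      rw [hρ2]
      refine Submodule.span_induction ?_ ?_ ?_ ?_ hy
      · rintro _ ⟨b', rfl⟩
        rw [dn_eq_actP, ← actP_mul, ← map_mul, ← dn_eq_actP]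
        exact Submodule.subset_span ⟨_, rfl⟩
      · rw [actP_zero_right]
        exact Sp.zero_mem
      · intro y₁ y₂ _ _ h₁ h₂
        rw [actP_add_right]
        exact Sp.add_mem h₁ h₂
      · intro a y₁ _ h₁
        rw [actP_smul_right]
        exact Sp.smul_mem a h₁
  obtain ⟨c, rfl⟩ := (actP_oneP_bijective f n hU).2 x
  obtain ⟨e, rfl⟩ := nbhdι_appLE_surjective f n hU hV hUV c
  have he : e ∈ Q := by rw [hQ]; trivial
  exact he _ hone

end gen2

end Groth.Agent.Helper18PP
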