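import Mathlib
import Groth.Prelude.Def_OmegaPn
import Groth.Agent.Lib.Helper18PP16
import Groth.Agent.Lib.Helper18OmLS10

set_option autoImplicit false
set_option linter.style.haveILetI false
set_option linter.unusedSectionVars false
universe u
open CategoryTheory AlgebraicGeometry Limits TopologicalSpace Opposite TensorProduct

namespace Groth.Agent.Helper18PP

open Groth.Agent.Helper18OmLS

section qcoh
variable {X S : Scheme.{u}} (f : X ⟶ S) (n : ℕ)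

instance isQuasicoherent_P : (PrinPart.P f n).IsQuasicoherent := by
  haveI : (Coh.structureModule X).IsQuasicoherent :=
    Groth.Agent.Lib.Helper20.OmegaAff.isQuasicoherent_structureModule
  haveI hq : ((Scheme.Modules.pullback (PrinPart.pr2 f n)).obj
      (Coh.structureModule X)).IsQuasicoherent :=
    Groth.Agent.Lib.Helper2.PullbackSec.isQuasicoherent_pullback _ _
  exact Groth.Agent.Lib.Helper23.QCohLocal.isQuasicoherent_pushforward (PrinPart.pr1 f n) _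

end qcoh

section epi
variable {X S X' S' : Scheme.{u}} (f : X ⟶ S) (f' : X' ⟶ S') (u : X' ⟶ X) (n : ℕ)
  (φ : (Scheme.Modules.pullback u).obj (PrinPart.P f n) ⟶ PrinPart.P f' n)
  (hφ : PrinPart.IsPMap f f' u n φ)

include hφ in
theorem surjective_app_of_isPMap {U : X.Opens} {V' : S'.Opens} (hT : IsAffineOpen (u ⁻¹ᵁ U))
    (hV' : IsAffineOpen V') (hTV' : u ⁻¹ᵁ U ≤ f' ⁻¹ᵁ V')
    (hsurj : Function.Surjective (u.app U)) : Function.Surjective (φ.app (u ⁻¹ᵁ U)) := by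
  let l : Γ((Scheme.Modules.pullback u).obj (PrinPart.P f n), u ⁻¹ᵁ U) →ₗ[Γ(X', u ⁻¹ᵁ U)]
      Γ(PrinPart.P f' n, u ⁻¹ᵁ U) :=
    { toFun := φ.app (u ⁻¹ᵁ U)
      map_add' := map_add _
      map_smul' := fun r x => Scheme.Modules.Hom.app_smul φ r x }
  intro y
  have hy := mem_span_dn f' n hT hV' hTV' y
  have hle : Submodule.span Γ(X', u ⁻¹ᵁ U) (Set.range (PrinPart.dn f' n (u ⁻¹ᵁ U))) ≤
      LinearMap.range l := by
    rw [Submodule.span_le]
    rintro _ ⟨b', rfl⟩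
    obtain ⟨b, rfl⟩ := hsurj b'
    exact ⟨_, hφ U b⟩
  exact hle hy

end epi

section mains

theorem main_S5977 {X Y Z : Scheme.{u}} (f : Y ⟶ Z) (j : X ⟶ Y) [IsClosedImmersion j] (n : ℕ)
    (φ : (Scheme.Modules.pullback j).obj (PrinPart.P f n) ⟶ PrinPart.P (j ≫ f) n)
    (hφ : PrinPart.IsPMap f (j ≫ f) j n φ) : Epi φ := by
  haveI : ((Scheme.Modules.pullback j).obj (PrinPart.P f n)).IsQuasicoherent :=
    Groth.Agent.Lib.Helper2.PullbackSec.isQuasicoherent_pullback _ _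
  let ι : Type u := {T : Z.Opens × Y.Opens // IsAffineOpen T.1 ∧ IsAffineOpen T.2 ∧
    T.2 ≤ f ⁻¹ᵁ T.1}
  have hcover : IsOpenCover (fun T : ι => j ⁻¹ᵁ T.1.2) := by
    refine IsOpenCover.mk (eq_top_iff.mpr ?_)
    intro x _
    obtain ⟨V', hV', hxV', -⟩ := exists_isAffineOpen_mem_and_subset (x := f (j x))
      (U := ⊤) trivial
    obtain ⟨U, hU, hxU, hUle⟩ := exists_isAffineOpen_mem_and_subset (x := j x)
      (U := f ⁻¹ᵁ V') hxV'
    exact Opens.mem_iSup.mpr ⟨⟨⟨V', U⟩, hV', hU, hUle⟩, hxU⟩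
  have haff : ∀ T : ι, IsAffineOpen (j ⁻¹ᵁ T.1.2) := fun T => T.2.2.1.preimage j
  refine epi_of_surjective_app_cover φ _ hcover haff (fun T => ?_)
  refine surjective_app_of_isPMap f (j ≫ f) j n φ hφ (haff T) T.2.1 ?_
    (j.app_surjective T.1.2 T.2.2.1)
  rw [Scheme.Hom.comp_preimage]
  exact j.preimage_mono T.2.2.2

theorem main_S5981 {X Y Z : Scheme.{u}} (f : X ⟶ Y) (g : Y ⟶ Z) (n : ℕ)
    (φ : (Scheme.Modules.pullback (𝟙 X)).obj (PrinPart.P (f ≫ g) n) ⟶ PrinPart.P f n)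
    (hφ : PrinPart.IsPMap (f ≫ g) f (𝟙 X) n φ) : Epi φ := by
  haveI : ((Scheme.Modules.pullback (𝟙 X)).obj (PrinPart.P (f ≫ g) n)).IsQuasicoherent :=
    Groth.Agent.Lib.Helper2.PullbackSec.isQuasicoherent_pullback _ _
  let ι : Type u := {T : Y.Opens × X.Opens // IsAffineOpen T.1 ∧ IsAffineOpen T.2 ∧
    T.2 ≤ f ⁻¹ᵁ T.1}
  have hcover : IsOpenCover (fun T : ι => (𝟙 X) ⁻¹ᵁ T.1.2) := by
    refine IsOpenCover.mk (eq_top_iff.mpr ?_)
    intro x _
    obtain ⟨V', hV', hxV', -⟩ := exists_isAffineOpen_mem_and_subset (x := f x)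
      (U := ⊤) trivial
    obtain ⟨U, hU, hxU, hUle⟩ := exists_isAffineOpen_mem_and_subset (x := x)
      (U := f ⁻¹ᵁ V') hxV'
    exact Opens.mem_iSup.mpr ⟨⟨⟨V', U⟩, hV', hU, hUle⟩, hxU⟩
  have haff : ∀ T : ι, IsAffineOpen ((𝟙 X) ⁻¹ᵁ T.1.2) := fun T => T.2.2.1
  refine epi_of_surjective_app_cover φ _ hcover haff (fun T => ?_)
  refine surjective_app_of_isPMap (f ≫ g) f (𝟙 X) n φ hφ (haff T) T.2.1 T.2.2.2 ?_
  intro y
  exact ⟨y, by rw [Scheme.Hom.id_app]; rfl⟩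

end mains

end Groth.Agent.Helper18PP
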