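import Mathlib
import Groth.Prelude.Def_OmegaPn
import Groth.Agent.Lib.Helper18PP17
import Groth.Agent.Lib.Helper18PP11

set_option autoImplicit false
set_option linter.style.haveILetI false
set_option linter.unusedSectionVars false
universe u
open CategoryTheory AlgebraicGeometry Limits TopologicalSpace Opposite TensorProduct

namespace Groth.Agent.Helper18PP

section sqzero
variable {Y Z : Scheme.{u}} (i : Y ⟶ Z) [IsClosedImmersion i]

theorem ker_infNbhdι_app (n : ℕ) {E : Z.Opens} (hE : IsAffineOpen E) :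
    RingHom.ker ((PrinPart.infNbhdι i n).app E).hom = (RingHom.ker (i.app E).hom) ^ (n + 1) := by
  have e1 := Scheme.IdealSheafData.ker_subschemeι_app (i.ker ^ (n + 1)) ⟨E, hE⟩
  have e2 := Scheme.Hom.ker_apply i ⟨E, hE⟩
  rw [Scheme.IdealSheafData.ideal_pow, Pi.pow_apply, e2] at e1
  exact e1

theorem mul_eq_zero_of_toInfNbhd_aux (E : Z.Opens)
    (c c' : Γ(PrinPart.infNbhd i 1, PrinPart.infNbhdι i 1 ⁻¹ᵁ E))
    (hc : (PrinPart.toInfNbhd i 1).app (PrinPart.infNbhdι i 1 ⁻¹ᵁ E) c = 0)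
    (hc' : (PrinPart.toInfNbhd i 1).app (PrinPart.infNbhdι i 1 ⁻¹ᵁ E) c' = 0) :
    c * c' = 0 := by
  -- cover E by affine opens
  have hcov : ∀ x : ↥(PrinPart.infNbhdι i 1 ⁻¹ᵁ E), ∃ W : Z.Opens, IsAffineOpen W ∧ W ≤ E ∧
      PrinPart.infNbhdι i 1 x.1 ∈ W := by
    intro x
    obtain ⟨W, hW, hxW, hWE⟩ := Z.isBasis_affineOpens.exists_subset_of_mem_open
      (show PrinPart.infNbhdι i 1 x.1 ∈ (E : Set Z) from x.2) E.2
    obtain ⟨W', hW', rfl⟩ := hW
    exact ⟨W', hW', hWE, hxW⟩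
  choose W hWaff hWE hxW using hcov
  refine (PrinPart.infNbhd i 1).sheaf.eq_of_locally_eq'
    (fun x => PrinPart.infNbhdι i 1 ⁻¹ᵁ W x) (PrinPart.infNbhdι i 1 ⁻¹ᵁ E)
    (fun x => homOfLE ((PrinPart.infNbhdι i 1).preimage_mono (hWE x))) ?_ _ _ ?_
  · intro x hx
    exact Opens.mem_iSup.2 ⟨⟨x, hx⟩, hxW ⟨x, hx⟩⟩
  · intro x
    have hle : PrinPart.infNbhdι i 1 ⁻¹ᵁ W x ≤ PrinPart.infNbhdι i 1 ⁻¹ᵁ E :=
      (PrinPart.infNbhdι i 1).preimage_mono (hWE x)
    change (PrinPart.infNbhd i 1).presheaf.map (homOfLE hle).op (c * c') =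
      (PrinPart.infNbhd i 1).presheaf.map (homOfLE hle).op 0
    rw [map_mul, map_zero]
    obtain ⟨r, hr⟩ := (PrinPart.infNbhdι i 1).app_surjective (W x) (hWaff x)
      ((PrinPart.infNbhd i 1).presheaf.map (homOfLE hle).op c)
    obtain ⟨r', hr'⟩ := (PrinPart.infNbhdι i 1).app_surjective (W x) (hWaff x)
      ((PrinPart.infNbhd i 1).presheaf.map (homOfLE hle).op c')
    have key : ∀ (c : Γ(PrinPart.infNbhd i 1, PrinPart.infNbhdι i 1 ⁻¹ᵁ E)) (r : Γ(Z, W x)),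
        (PrinPart.toInfNbhd i 1).app (PrinPart.infNbhdι i 1 ⁻¹ᵁ E) c = 0 →
        (PrinPart.infNbhdι i 1).app (W x) r =
          (PrinPart.infNbhd i 1).presheaf.map (homOfLE hle).op c →
        r ∈ RingHom.ker (i.app (W x)).hom := by
      intro c r hc hr
      rw [RingHom.mem_ker]
      have hle2 : i ⁻¹ᵁ W x ≤ PrinPart.toInfNbhd i 1 ⁻¹ᵁ (PrinPart.infNbhdι i 1 ⁻¹ᵁ W x) := by
        intro y hy
        change (PrinPart.toInfNbhd i 1 ≫ PrinPart.infNbhdι i 1) y ∈ W x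
        rw [PrinPart.toInfNbhd_ι]
        exact hy
      have e1 : i.app (W x) = (PrinPart.infNbhdι i 1).appLE (W x) (PrinPart.infNbhdι i 1 ⁻¹ᵁ W x)
          le_rfl ≫ (PrinPart.toInfNbhd i 1).appLE (PrinPart.infNbhdι i 1 ⁻¹ᵁ W x) (i ⁻¹ᵁ W x)
            hle2 := by
        rw [Scheme.Hom.appLE_comp_appLE, Scheme.Hom.app_eq_appLE]
        exact appLE_congr' (PrinPart.toInfNbhd_ι i 1).symm _ _ _ _
      have e2 : (PrinPart.infNbhd i 1).presheaf.map (homOfLE hle).op ≫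
          (PrinPart.toInfNbhd i 1).appLE (PrinPart.infNbhdι i 1 ⁻¹ᵁ W x) (i ⁻¹ᵁ W x) hle2 =
          (PrinPart.toInfNbhd i 1).app (PrinPart.infNbhdι i 1 ⁻¹ᵁ E) ≫
            Y.presheaf.map (homOfLE (hle2.trans
              ((PrinPart.toInfNbhd i 1).preimage_mono hle))).op := by
        rw [Scheme.Hom.map_appLE]
        rfl
      rw [e1, CommRingCat.hom_comp, RingHom.comp_apply, ← Scheme.Hom.app_eq_appLE]
      erw [hr]
      have e3 := congr($e2 c)
      rw [CommRingCat.comp_apply, CommRingCat.comp_apply] at e3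
      erw [e3, hc, map_zero]
    have h1 := key c r hc hr
    have h2 := key c' r' hc' hr'
    have h3 : r * r' ∈ RingHom.ker ((PrinPart.infNbhdι i 1).app (W x)).hom := by
      rw [ker_infNbhdι_app i 1 (hWaff x), pow_two]
      exact Ideal.mul_mem_mul h1 h2
    rw [← hr, ← hr', ← map_mul]
    exact h3

theorem mul_eq_zero_of_toInfNbhd (T : (PrinPart.infNbhd i 1).Opens)
    (c c' : Γ(PrinPart.infNbhd i 1, T))
    (hc : (PrinPart.toInfNbhd i 1).app T c = 0) (hc' : (PrinPart.toInfNbhd i 1).app T c' = 0) :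
    c * c' = 0 := by
  -- T is the preimage of an open of Z
  obtain ⟨E, hE⟩ : ∃ E : Z.Opens, T = PrinPart.infNbhdι i 1 ⁻¹ᵁ E := by
    have h1 := (PrinPart.infNbhdι i 1).isClosedEmbedding.isInducing.isOpen_iff.1 T.2
    obtain ⟨E, hEo, hE⟩ := h1
    exact ⟨⟨E, hEo⟩, Opens.ext hE.symm⟩
  subst hE
  exact mul_eq_zero_of_toInfNbhd_aux i E c c' hc hc'

end sqzero

end Groth.Agent.Helper18PP
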