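import Mathlib
import Groth.Prelude.Def_OmegaPn
import Groth.Agent.Lib.Helper18PP18

set_option autoImplicit false
set_option linter.style.haveILetI false
set_option linter.unusedSectionVars false
universe u
open CategoryTheory AlgebraicGeometry Limits TopologicalSpace Opposite TensorProduct

namespace Groth.Agent.Helper18PP

section gen
variable {Y N : Scheme.{u}} (t : Y ⟶ N) (p q : N ⟶ Y) (hp : t ≫ p = 𝟙 Y) (hq : t ≫ q = 𝟙 Y)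
  (U : Y.Opens)

include hq in
theorem retr_appLE (hqp : p ⁻¹ᵁ U ≤ q ⁻¹ᵁ U) (hU : U ≤ t ⁻¹ᵁ (p ⁻¹ᵁ U)) (a : Γ(Y, U)) :
    t.appLE (p ⁻¹ᵁ U) U hU (q.appLE U (p ⁻¹ᵁ U) hqp a) = a := by
  have h1 : q.appLE U (p ⁻¹ᵁ U) hqp ≫ t.appLE (p ⁻¹ᵁ U) U hU = 𝟙 _ := by
    rw [Scheme.Hom.appLE_comp_appLE]
    exact (appLE_congr' hq _ _ _ le_rfl).trans (appLE_id U _)
  exact congr($h1 a)

include hp hq in
theorem retr_app_sub (hqp : p ⁻¹ᵁ U ≤ q ⁻¹ᵁ U) (a : Γ(Y, U)) :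
    t.app (p ⁻¹ᵁ U) (q.appLE U (p ⁻¹ᵁ U) hqp a - p.app U a) = 0 := by
  have hU : t ⁻¹ᵁ (p ⁻¹ᵁ U) = U := preimage_preimage_eq _ _ hp U
  apply app_eq_zero_of_appLE _ _ _ hU
  rw [map_sub, Scheme.Hom.app_eq_appLE, retr_appLE t p p hp U le_rfl,
    retr_appLE t p q hq U hqp, sub_self]

end gen

section gen2
variable {Y N S : Scheme.{u}} (p q : N ⟶ Y) (f : Y ⟶ S) (hpq : p ≫ f = q ≫ f) (W : S.Opens)

include hpq in
theorem appLE_base (h : p ⁻¹ᵁ (f ⁻¹ᵁ W) ≤ q ⁻¹ᵁ (f ⁻¹ᵁ W)) (c : Γ(S, W)) :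
    q.appLE (f ⁻¹ᵁ W) (p ⁻¹ᵁ (f ⁻¹ᵁ W)) h (f.app W c) = p.app (f ⁻¹ᵁ W) (f.app W c) := by
  have h1 : f.appLE W (f ⁻¹ᵁ W) le_rfl ≫ q.appLE (f ⁻¹ᵁ W) (p ⁻¹ᵁ (f ⁻¹ᵁ W)) h =
      f.appLE W (f ⁻¹ᵁ W) le_rfl ≫ p.appLE (f ⁻¹ᵁ W) (p ⁻¹ᵁ (f ⁻¹ᵁ W)) le_rfl := by
    rw [Scheme.Hom.appLE_comp_appLE, Scheme.Hom.appLE_comp_appLE]
    exact (appLE_congr' hpq _ _ _ _).symm
  rw [Scheme.Hom.app_eq_appLE, Scheme.Hom.app_eq_appLE]
  exact congr($h1 c)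

end gen2

section K
variable {X S : Scheme.{u}} (f : X ⟶ S) (n : ℕ) (U : X.Opens)

/-- the comorphism of the second projection over `pr1⁻¹ U`. -/
noncomputable abbrev pr2U : Γ(X, U) ⟶ Γ(PrinPart.nbhd f n, PrinPart.pr1 f n ⁻¹ᵁ U) :=
  (PrinPart.pr2 f n).appLE U (PrinPart.pr1 f n ⁻¹ᵁ U) (PrinPart.preimage_pr1 f n U).le

theorem toNbhd_app_sub (a : Γ(X, U)) :
    (PrinPart.toNbhd f n).app (PrinPart.pr1 f n ⁻¹ᵁ U)
      (pr2U f n U a - (PrinPart.pr1 f n).app U a) = 0 :=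
  retr_app_sub (PrinPart.toNbhd f n) (PrinPart.pr1 f n) (PrinPart.pr2 f n)
    (PrinPart.toNbhd_pr1 f n) (PrinPart.toNbhd_pr2 f n) U _ a

theorem actP_sub (c c' : Γ(PrinPart.nbhd f n, PrinPart.pr1 f n ⁻¹ᵁ U))
    (x : Γ(PrinPart.P f n, U)) : actP f n U (c - c') x = actP f n U c x - actP f n U c' x := by
  rw [sub_eq_add_neg, actP_add, actP_neg, ← sub_eq_add_neg]

theorem dn_eq_actP' (b : Γ(X, U)) :
    PrinPart.dn f n U b = actP f n U (pr2U f n U b) (oneP f n U) := dn_eq_actP f n U b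

/-- Leibniz rule for `d^1`. -/
theorem dn_one_mul (a b : Γ(X, U)) :
    PrinPart.dn f 1 U (a * b) = a • PrinPart.dn f 1 U b + b • PrinPart.dn f 1 U a -
      (a * b) • PrinPart.dn f 1 U 1 := by
  have hz : (pr2U f 1 U a - (PrinPart.pr1 f 1).app U a) *
      (pr2U f 1 U b - (PrinPart.pr1 f 1).app U b) = 0 :=
    mul_eq_zero_of_toInfNbhd (PrinPart.diagCl f) _ _ _ (toNbhd_app_sub f 1 U a)
      (toNbhd_app_sub f 1 U b)
  have hkey : pr2U f 1 U (a * b) = (PrinPart.pr1 f 1).app U a * pr2U f 1 U b +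
      (PrinPart.pr1 f 1).app U b * pr2U f 1 U a -
      (PrinPart.pr1 f 1).app U (a * b) := by
    rw [map_mul, map_mul]
    linear_combination hz
  change _ = _ - _ • oneP f 1 U
  rw [dn_eq_actP', dn_eq_actP', dn_eq_actP', smul_eq_actP, smul_eq_actP, smul_eq_actP,
    ← actP_mul, ← actP_mul, ← actP_add, ← actP_sub, hkey]

/-- `d^n` is linear over functions from the base. -/
theorem dn_base (W : S.Opens) (c : Γ(S, W)) :
    PrinPart.dn f n (f ⁻¹ᵁ W) (f.app W c) = (f.app W c) • PrinPart.dn f n (f ⁻¹ᵁ W) 1 := by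
  change _ = _ • oneP f n _
  rw [dn_eq_actP', smul_eq_actP]
  congr 1
  exact appLE_base (PrinPart.pr1 f n) (PrinPart.pr2 f n) f (PrinPart.pr1_comp f n) W _ c

end K

end Groth.Agent.Helper18PP
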