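import Mathlib
import Groth.Prelude.Def_OmegaPn
import Groth.Agent.Lib.Helper18PP19
import Groth.Agent.Lib.Helper18OmLS1
import Groth.Agent.Lib.Helper18Om1

set_option autoImplicit false
set_option linter.style.haveILetI false
set_option linter.unusedSectionVars false
universe u
open CategoryTheory AlgebraicGeometry Limits TopologicalSpace Opposite TensorProduct

namespace Groth.Agent.Helper18PP

section main
variable {X S : Scheme.{u}} (f : X ⟶ S) (G : X.Modules)
  (D : (Coh.structureModule X).presheaf ⟶ G.presheaf)

/-- the value of `D` at `1`. -/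
noncomputable def dOne (U : X.Opens) : Γ(G, U) := D.app (op U) (OmegaSh.strSect X U 1)

theorem D_map {U V : X.Opens} (h : V ≤ U) (a : Γ(X, U)) :
    D.app (op V) (OmegaSh.strSect X V (X.presheaf.map (homOfLE h).op a)) =
      G.presheaf.map (homOfLE h).op (D.app (op U) (OmegaSh.strSect X U a)) := by
  have := D.naturality (homOfLE h).op
  exact congr($this (OmegaSh.strSect X U a))

theorem dOne_map {U V : X.Opens} (h : V ≤ U) :
    G.presheaf.map (homOfLE h).op (dOne G D U) = dOne G D V := by
  unfold dOne
  rw [← D_map G D h, map_one]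

/-- `a ↦ a • m`. -/
noncomputable def smulHom (U : X.Opens) (m : Γ(G, U)) : Γ(Coh.structureModule X, U) →+ Γ(G, U) :=
  ((LinearMap.toSpanSingleton Γ(X, U) Γ(G, U) m).toAddMonoidHom).comp (OmegaSh.fnSect X U)

theorem smulHom_apply (U : X.Opens) (m : Γ(G, U)) (a : Γ(X, U)) :
    smulHom G U m (OmegaSh.strSect X U a) = a • m := rfl

theorem smulHom_nat {U V : (Opens X)ᵒᵖ} (i : U ⟶ V)
    (a : Γ(Coh.structureModule X, U.unop)) :
    smulHom G V.unop (dOne G D V.unop) ((Coh.structureModule X).presheaf.map i a) =
      G.presheaf.map i (smulHom G U.unop (dOne G D U.unop) a) := by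
  have h1 : dOne G D V.unop = G.presheaf.map i (dOne G D U.unop) :=
    (dOne_map G D i.unop.le).symm
  rw [h1]
  exact (Scheme.Modules.map_smul G i.unop (OmegaSh.fnSect X U.unop a) (dOne G D U.unop)).symm

theorem smulHom_smul (U : X.Opens) (m : Γ(G, U)) (r : Γ(X, U)) (a : Γ(Coh.structureModule X, U)) :
    smulHom G U m (r • a) = r • smulHom G U m a := by
  change (r * OmegaSh.fnSect X U a) • m = r • (OmegaSh.fnSect X U a • m)
  exact mul_smul _ _ _

/-- the linear part `a ↦ a • D 1`. -/
noncomputable def linPart : Coh.structureModule X ⟶ G :=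
  ⟨PresheafOfModules.homMk
    { app := fun U => AddCommGrpCat.ofHom (smulHom G U.unop (dOne G D U.unop))
      naturality := fun U V i => by
        ext a
        exact smulHom_nat G D i a }
    (fun U r s => smulHom_smul G U.unop _ r s)⟩

theorem linPart_app (U : X.Opens) (a : Γ(X, U)) :
    (linPart G D).app U (OmegaSh.strSect X U a) = a • dOne G D U := rfl


variable (u : PrinPart.P f 1 ⟶ G)
  (hu : ∀ (U : X.Opens) (t : Γ(Coh.structureModule X, U)),
    D.app (op U) t = u.app U (PrinPart.dP f 1 (Coh.structureModule X) U t))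

include hu in
theorem D_eq (U : X.Opens) (a : Γ(X, U)) :
    D.app (op U) (OmegaSh.strSect X U a) = u.app U (PrinPart.dn f 1 U a) := hu U _

include hu in
theorem D_mul (U : X.Opens) (a b : Γ(X, U)) :
    D.app (op U) (OmegaSh.strSect X U (a * b)) =
      a • D.app (op U) (OmegaSh.strSect X U b) + b • D.app (op U) (OmegaSh.strSect X U a) -
        (a * b) • dOne G D U := by
  unfold dOne
  rw [D_eq f G D u hu, D_eq f G D u hu, D_eq f G D u hu, D_eq f G D u hu, dn_one_mul, map_sub,
    map_add, Scheme.Modules.Hom.app_smul, Scheme.Modules.Hom.app_smul,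
    Scheme.Modules.Hom.app_smul]

include hu in
theorem D_base (W : S.Opens) (c : Γ(S, W)) :
    D.app (op (f ⁻¹ᵁ W)) (OmegaSh.strSect X (f ⁻¹ᵁ W) (f.app W c)) =
      (f.app W c) • dOne G D (f ⁻¹ᵁ W) := by
  unfold dOne
  rw [D_eq f G D u hu, D_eq f G D u hu, dn_base, Scheme.Modules.Hom.app_smul]

/-- the derivation part `a ↦ D a - a • D 1`, sectionwise. -/
noncomputable def derFun (U : X.Opens) : Γ(X, U) →+ Γ(G, U) :=
  ((D.app (op U)).hom.comp (OmegaSh.strSect X U)) -
    (smulHom G U (dOne G D U)).comp (OmegaSh.strSect X U)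

theorem derFun_apply (U : X.Opens) (a : Γ(X, U)) :
    derFun G D U a = D.app (op U) (OmegaSh.strSect X U a) - a • dOne G D U := rfl

include hu in
theorem derFun_mul (U : X.Opens) (a b : Γ(X, U)) :
    derFun G D U (a * b) = a • derFun G D U b + b • derFun G D U a := by
  rw [derFun_apply, derFun_apply, derFun_apply, D_mul f G D u hu, smul_sub, smul_sub, smul_smul,
    smul_smul, mul_comm b a]
  abel

theorem derFun_map {U V : X.Opens} (h : V ≤ U) (a : Γ(X, U)) :
    derFun G D V (X.presheaf.map (homOfLE h).op a) =
      G.presheaf.map (homOfLE h).op (derFun G D U a) := by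
  rw [derFun_apply, derFun_apply, map_sub]
  have h1 := D_map G D h a
  have h2 := dOne_map G D h
  have h3 := Scheme.Modules.map_smul G (homOfLE h) a (dOne G D U)
  rw [← h2]
  exact congrArg₂ (· - ·) h1 h3.symm

include hu in
theorem derFun_base (W : S.Opens) (c : Γ(S, W)) :
    derFun G D (f ⁻¹ᵁ W) (f.app W c) = 0 := by
  rw [derFun_apply, D_base f G D u hu, sub_self]

/-- the derivation part `a ↦ D a - a • D 1`. -/
noncomputable def derPart : OmegaSh.Der f G where
  d {W} := derFun G D W.unop
  d_mul {W} a b := derFun_mul f G D u hu W.unop a b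
  d_map {W W'} k a := derFun_map G D k.unop.le a
  d_app {W} c := derFun_base f G D u hu W.unop c

theorem derPart_app (U : X.Opens) (a : Γ(X, U)) :
    (derPart f G D u hu).app U a = D.app (op U) (OmegaSh.strSect X U a) - a • dOne G D U := rfl

end main

section final
variable {X S : Scheme.{u}} (f : X ⟶ S) (G : X.Modules)
  (D : (Coh.structureModule X).presheaf ⟶ G.presheaf)

theorem main_S5961 (hD : PrinPart.IsDiffOpLE f (Coh.structureModule X) G 1 D) :
    ∃! p : (Coh.structureModule X ⟶ G) × OmegaSh.Der f G,
      ∀ (U : X.Opens) (a : Γ(X, U)),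
        D.app (op U) (OmegaSh.strSect X U a) =
          p.1.app U (OmegaSh.strSect X U a) + p.2.app U a := by
  obtain ⟨u, hu⟩ := hD
  refine ⟨(linPart G D, derPart f G D u hu), ?_, ?_⟩
  · intro U a
    change _ = (linPart G D).app U (OmegaSh.strSect X U a) + (derPart f G D u hu).app U a
    rw [linPart_app, derPart_app]
    abel
  · rintro ⟨v, d⟩ hp
    have h1 : ∀ U : X.Opens, v.app U (OmegaSh.strSect X U 1) = dOne G D U := by
      intro U
      have h2 := hp U 1
      have h3 : d.app U 1 = 0 := d.d_one (op U)
      change _ = v.app U (OmegaSh.strSect X U 1) + d.app U 1 at h2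
      rw [h3, add_zero] at h2
      exact h2.symm
    have h2 : ∀ (U : X.Opens) (a : Γ(X, U)),
        v.app U (OmegaSh.strSect X U a) = a • dOne G D U := by
      intro U a
      have h0 : OmegaSh.strSect X U a = a • (OmegaSh.strSect X U 1) := by
        change a = a * 1
        rw [mul_one]
      rw [h0, Scheme.Modules.Hom.app_smul, h1]
    have hv : v = linPart G D := by
      apply Scheme.Modules.hom_ext
      intro U
      ext a
      exact h2 U a
    have hd : d = derPart f G D u hu := by
      apply Groth.Agent.Helper18Om.der_ext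
      intro U a
      rw [derPart_app]
      have h3 := hp U a
      change _ = v.app U (OmegaSh.strSect X U a) + d.app U a at h3
      rw [h3, h2]
      abel
    rw [hv, hd]

end final

end Groth.Agent.Helper18PP
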