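import Mathlib
import Groth.Prelude.Def_OmegaPn
import Groth.Prelude.Def_Omega4
import Groth.Agent.Lib.Helper18PP20
import Groth.Agent.Lib.Helper18PP15
import Groth.Agent.Lib.Helper18OmLS23

set_option autoImplicit false
set_option linter.style.haveILetI false
set_option linter.unusedSectionVars false
universe u
open CategoryTheory AlgebraicGeometry Limits TopologicalSpace Opposite TensorProduct

namespace Groth.Agent.Helper18PP

open Groth.Agent.Helper18OmLS

section kerρ
variable {X S : Scheme.{u}} (f : X ⟶ S) (n : ℕ) {U : X.Opens} {V : S.Opens}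
  (hU : IsAffineOpen U) (hV : IsAffineOpen V) (hUV : U ≤ f ⁻¹ᵁ V)

/-- the comorphism of `nbhdι` over the chart `E = U ×_V U`. -/
noncomputable abbrev rhoE : Γ(pullback f f, EU f U) ⟶
    Γ(PrinPart.nbhd f n, PrinPart.pr1 f n ⁻¹ᵁ U) :=
  (PrinPart.nbhdι f n).appLE (EU f U) (PrinPart.pr1 f n ⁻¹ᵁ U) (preimage_EU f n).ge

include hU hV hUV in
theorem ker_rhoE_le :
    RingHom.ker (rhoE f n (U := U)).hom ≤
      (RingHom.ker (mm f U)) ^ (n + 1) := by
  have hE := EU_isAffineOpen f hU hV hUV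
  have hEW := EU_le_coborderRange f hU hV hUV
  let W := (pullback.diagonal f).coborderRange
  have hE' : IsAffineOpen (W.ι ⁻¹ᵁ (EU f U)) :=
    hE.preimage_of_isOpenImmersion W.ι (by rw [Scheme.Opens.opensRange_ι]; exact hEW)
  have hθ : Function.Bijective (W.ι.app (EU f U)) := by
    rw [Scheme.Opens.ι_app]
    refine presheaf_map_bijective_of_eq ?_ _
    apply le_antisymm
    · rintro p ⟨q, hq, rfl⟩
      exact hq
    · intro p hp
      exact ⟨⟨p, hEW hp⟩, hp, rfl⟩
  have h3 : (PrinPart.nbhdι f n).app (EU f U) =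
      W.ι.app (EU f U) ≫ (PrinPart.infNbhdι (PrinPart.diagCl f) n).app (W.ι ⁻¹ᵁ (EU f U)) := by
    unfold PrinPart.nbhdι
    exact Scheme.Hom.comp_app _ _ _
  have hK := ker_infNbhdι_app (PrinPart.diagCl f) n hE'
  intro x hx
  rw [RingHom.mem_ker] at hx
  -- `nbhdι.app E x = 0`
  have hx1 : (PrinPart.nbhdι f n).app (EU f U) x = 0 := by
    have hb := presheaf_map_bijective_of_eq (Z := PrinPart.nbhd f n) (preimage_EU (U := U) f n).symm
      (homOfLE (preimage_EU f n).ge)
    apply hb.injective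
    rw [map_zero]
    exact hx
  have hx2 : W.ι.app (EU f U) x ∈
      RingHom.ker ((PrinPart.infNbhdι (PrinPart.diagCl f) n).app (W.ι ⁻¹ᵁ (EU f U))).hom := by
    rw [RingHom.mem_ker]
    have h4 := congr($h3 x)
    rw [hx1] at h4
    exact h4.symm
  rw [hK] at hx2
  have hx3 : x ∈ Ideal.comap (W.ι.app (EU f U)).hom
      ((RingHom.ker ((PrinPart.diagCl f).app (W.ι ⁻¹ᵁ (EU f U))).hom) ^ (n + 1)) := hx2
  rw [comap_pow_of_bijective _ hθ] at hx3
  refine Ideal.pow_right_mono ?_ (n + 1) hx3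
  intro y hy
  rw [Ideal.mem_comap, RingHom.mem_ker] at hy
  rw [RingHom.mem_ker]
  have hle : U ≤ PrinPart.diagCl f ⁻¹ᵁ (W.ι ⁻¹ᵁ (EU f U)) := by
    intro p hp
    change (PrinPart.diagCl f ≫ W.ι) p ∈ EU f U
    rw [Scheme.Hom.liftCoborder_ι]
    exact OmegaSh.le_preimage_diagNbhd f U hp
  have e1 : (pullback.diagonal f).appLE (EU f U) U (OmegaSh.le_preimage_diagNbhd f U) =
      W.ι.appLE (EU f U) (W.ι ⁻¹ᵁ (EU f U)) le_rfl ≫
        (PrinPart.diagCl f).appLE (W.ι ⁻¹ᵁ (EU f U)) U hle := by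
    rw [Scheme.Hom.appLE_comp_appLE]
    exact appLE_congr' ((pullback.diagonal f).liftCoborder_ι).symm _ _ _ _
  change ((pullback.diagonal f).appLE (EU f U) U _) y = 0
  rw [e1, CommRingCat.comp_apply, ← Scheme.Hom.app_eq_appLE, Scheme.Hom.appLE,
    CommRingCat.comp_apply]
  erw [hy, map_zero]

end kerρ

end Groth.Agent.Helper18PP
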