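import Mathlib
import Groth.Prelude.Def_OmegaPn
import Groth.Prelude.Def_Omega4
import Groth.Agent.Lib.Helper18PP21

set_option autoImplicit false
set_option linter.style.haveILetI false
set_option linter.unusedSectionVars false
universe u
open CategoryTheory AlgebraicGeometry Limits TopologicalSpace Opposite TensorProduct

namespace Groth.Agent.Helper18PP

open Groth.Agent.Helper18OmLS Groth.Agent.Helper13PullbackUnit

section gen
theorem appLE_comp_of_eq {A B C : Scheme.{u}} (t : A ⟶ B) (j : B ⟶ C) (d : A ⟶ C)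
    (h : t ≫ j = d) (E : C.Opens) (T : B.Opens) (U : A.Opens) (h₁ : T ≤ j ⁻¹ᵁ E)
    (h₂ : U ≤ t ⁻¹ᵁ T) (h₃ : U ≤ d ⁻¹ᵁ E) :
    j.appLE E T h₁ ≫ t.appLE T U h₂ = d.appLE E U h₃ := by
  subst h
  exact Scheme.Hom.appLE_comp_appLE _ _ _ _ _ _ _

end gen

section chartρ
variable {X S : Scheme.{u}} (f : X ⟶ S) (n : ℕ) (U : X.Opens)

theorem rhoE_pp₁ (a : Γ(X, U)) :
    (rhoE f n (U := U)).hom (pp₁ f U a) = (PrinPart.pr1 f n).app U a := by
  have h1 : (pullback.fst f f).appLE U (EU f U) inf_le_left ≫ rhoE f n (U := U) =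
      (PrinPart.pr1 f n).appLE U (PrinPart.pr1 f n ⁻¹ᵁ U) le_rfl :=
    Scheme.Hom.appLE_comp_appLE _ _ _ _ _ _ _
  rw [Scheme.Hom.app_eq_appLE]
  exact congr($h1 a)

theorem rhoE_pp₂ (b : Γ(X, U)) :
    (rhoE f n (U := U)).hom (pp₂ f U b) = pr2U f n U b := by
  have h1 : (pullback.snd f f).appLE U (EU f U) inf_le_right ≫ rhoE f n (U := U) =
      pr2U f n U :=
    Scheme.Hom.appLE_comp_appLE _ _ _ _ _ _ _
  exact congr($h1 b)

theorem toNbhd_preimage_pr1 : PrinPart.toNbhd f n ⁻¹ᵁ (PrinPart.pr1 f n ⁻¹ᵁ U) = U :=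
  preimage_preimage_eq _ _ (PrinPart.toNbhd_pr1 f n) U

theorem toNbhd_rhoE (x : Γ(pullback f f, EU f U)) :
    (PrinPart.toNbhd f n).appLE (PrinPart.pr1 f n ⁻¹ᵁ U) U (toNbhd_preimage_pr1 f n U).ge
      ((rhoE f n (U := U)).hom x) = mm f U x := by
  have h1 : rhoE f n (U := U) ≫
      (PrinPart.toNbhd f n).appLE (PrinPart.pr1 f n ⁻¹ᵁ U) U (toNbhd_preimage_pr1 f n U).ge =
      (pullback.diagonal f).appLE (EU f U) U (OmegaSh.le_preimage_diagNbhd f U) :=
    appLE_comp_of_eq _ _ _ (PrinPart.toNbhd_ι f n) _ _ _ _ _ _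
  exact congr($h1 x)

theorem toNbhd_app_rhoE (x : Γ(pullback f f, EU f U)) (hx : mm f U x = 0) :
    (PrinPart.toNbhd f n).app (PrinPart.pr1 f n ⁻¹ᵁ U) ((rhoE f n (U := U)).hom x) = 0 := by
  apply app_eq_zero_of_appLE _ _ _ (toNbhd_preimage_pr1 f n U)
  rw [toNbhd_rhoE, hx]

theorem rhoE_mul_eq_zero (x y : Γ(pullback f f, EU f U)) (hx : mm f U x = 0) (hy : mm f U y = 0) :
    (rhoE f 1 (U := U)).hom x * (rhoE f 1 (U := U)).hom y = 0 :=
  mul_eq_zero_of_toInfNbhd (PrinPart.diagCl f) _ _ _ (toNbhd_app_rhoE f 1 U x hx)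
    (toNbhd_app_rhoE f 1 U y hy)

end chartρ

section chartΩ
variable {X S : Scheme.{u}} (f : X ⟶ S) [QuasiSeparated f] {U : X.Opens} {V : S.Opens}
  (hU : IsAffineOpen U) (hV : IsAffineOpen V) (hUV : U ≤ f ⁻¹ᵁ V)
  (ι : Omega.sheaf f ⟶ PrinPart.P f 1)
  (hι : ∀ (U : X.Opens) (s : Γ(X, U)),
      ι.app U ((OmegaSh.dOmega f).app U s) = PrinPart.dn f 1 U s - s • PrinPart.dn f 1 U 1)

/-- the class in `Ω(U)` of a section of the diagonal ideal over `U ×_V U`. -/
noncomputable abbrev uSec (U : X.Opens) :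
    Γ(ClSub.idealMod (pullback.diagonal f).ker, OmegaSh.diagNbhd f U) →+ Γ(Omega.sheaf f, U) :=
  unitSec (pullback.diagonal f) (ClSub.idealMod (pullback.diagonal f).ker)
    (OmegaSh.le_preimage_diagNbhd f U)

theorem uSec_smul (r : Γ(pullback f f, OmegaSh.diagNbhd f U))
    (t : Γ(ClSub.idealMod (pullback.diagonal f).ker, OmegaSh.diagNbhd f U)) :
    uSec f U (r • t) = (mm f U r) • uSec f U t :=
  unitSec_smul _ _ _ r t

include hU hV hUV hι in
theorem iota_uSec (t : Γ(ClSub.idealMod (pullback.diagonal f).ker, OmegaSh.diagNbhd f U)) :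
    ι.app U (uSec f U t) = actP f 1 U ((rhoE f 1 (U := U)).hom
      (OmegaSh.idealSect (pullback.diagonal f).ker (OmegaSh.diagNbhd f U) t)) (oneP f 1 U) := by
  have hx : OmegaSh.idealSect (pullback.diagonal f).ker (OmegaSh.diagNbhd f U) t ∈
      Ideal.span (Set.range fun s => pp₂ f U s - pp₁ f U s) :=
    ker_le_span_of_PO (f.appLE V U hUV).hom (pp₁ f U) (pp₂ f U) (mm f U) (mm_comp_pp₁ f U)
      (mm_comp_pp₂ f U) (fun T _ ψ₁ ψ₂ hψ => PO_ring f hUV hU hV T ψ₁ ψ₂ hψ) (mm_idealSect f U t)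
  have key : ∀ x ∈ Ideal.span (Set.range fun s => pp₂ f U s - pp₁ f U s),
      ∃ t' : Γ(ClSub.idealMod (pullback.diagonal f).ker, OmegaSh.diagNbhd f U),
        OmegaSh.idealSect (pullback.diagonal f).ker (OmegaSh.diagNbhd f U) t' = x ∧
        ι.app U (uSec f U t') = actP f 1 U ((rhoE f 1 (U := U)).hom x) (oneP f 1 U) := by
    intro x hx
    refine Submodule.span_induction ?_ ?_ ?_ ?_ hx
    · rintro _ ⟨s, rfl⟩
      refine ⟨OmegaSh.idealLift f U s, idealSect_idealLift f U s, ?_⟩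
      have h1 : uSec f U (OmegaSh.idealLift f U s) = (OmegaSh.dOmega f).app U s := rfl
      rw [h1, hι, map_sub, rhoE_pp₁, rhoE_pp₂, actP_sub, ← dn_eq_actP', ← smul_eq_actP]
      rfl
    · exact ⟨0, map_zero _, by rw [map_zero, map_zero, map_zero, actP_zero]⟩
    · rintro x y _ _ ⟨t₁, h₁, h₁'⟩ ⟨t₂, h₂, h₂'⟩
      exact ⟨t₁ + t₂, by rw [map_add, h₁, h₂], by rw [map_add, map_add, h₁', h₂', map_add, actP_add]⟩
    · rintro r x _ ⟨t₁, h₁, h₁'⟩
      refine ⟨r • t₁, by rw [idealSect_smul, h₁]; rfl, ?_⟩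
      rw [uSec_smul, Scheme.Modules.Hom.app_smul, h₁', smul_eq_actP, ← actP_mul]
      congr 1
      have hmx : mm f U x = 0 := by rw [← h₁]; exact mm_idealSect f U t₁
      have hmr : mm f U (r - pp₁ f U (mm f U r)) = 0 := by
        rw [map_sub]
        have := congr($(mm_comp_pp₁ f U) (mm f U r))
        rw [RingHom.comp_apply] at this
        rw [this]
        exact sub_self _
      have h2 := rhoE_mul_eq_zero f U _ _ hmr hmx
      rw [map_sub, rhoE_pp₁, sub_mul, sub_eq_zero] at h2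
      change _ = (rhoE f 1 (U := U)).hom (r * x)
      rw [map_mul]
      exact h2.symm
  obtain ⟨t', ht', hmem⟩ := key _ hx
  have := idealSect_injective _ _ ht'
  rw [this] at hmem
  exact hmem

theorem uSec_eq_zero_of_mem_sq
    (t : Γ(ClSub.idealMod (pullback.diagonal f).ker, OmegaSh.diagNbhd f U))
    (ht : OmegaSh.idealSect (pullback.diagonal f).ker (OmegaSh.diagNbhd f U) t ∈
      (RingHom.ker (mm f U)) ^ 2) : uSec f U t = 0 := by
  have key : ∀ x ∈ (RingHom.ker (mm f U)) ^ 2,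
      ∃ t' : Γ(ClSub.idealMod (pullback.diagonal f).ker, OmegaSh.diagNbhd f U),
        OmegaSh.idealSect (pullback.diagonal f).ker (OmegaSh.diagNbhd f U) t' = x ∧
        uSec f U t' = 0 := by
    intro x hx
    rw [pow_two] at hx
    refine Submodule.mul_induction_on hx ?_ ?_
    · intro y hy z hz
      obtain ⟨tz, htz⟩ := exists_idealSect_of_mm f U z hz
      refine ⟨y • tz, by rw [idealSect_smul, htz], ?_⟩
      rw [uSec_smul, (RingHom.mem_ker).1 hy, zero_smul]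
    · rintro x y ⟨t₁, h₁, h₁'⟩ ⟨t₂, h₂, h₂'⟩
      exact ⟨t₁ + t₂, by rw [map_add, h₁, h₂], by rw [map_add, h₁', h₂', add_zero]⟩
  obtain ⟨t', ht', h0⟩ := key _ ht
  have := idealSect_injective _ _ ht'
  rw [← this]
  exact h0

end chartΩ

end Groth.Agent.Helper18PP
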