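import Mathlib
import Groth.Prelude.Def_OmegaPn
import Groth.Prelude.Def_Omega4
import Groth.Agent.Lib.Helper18PP22
import Groth.Agent.Lib.Helper23QCohAbelian

set_option autoImplicit false
set_option linter.style.haveILetI false
set_option linter.unusedSectionVars false
universe u
open CategoryTheory AlgebraicGeometry Limits TopologicalSpace Opposite TensorProduct

namespace Groth.Agent.Helper18PP

open Groth.Agent.Helper18OmLS Groth.Agent.Helper13PullbackUnit

section final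
variable {X S : Scheme.{u}} (f : X ⟶ S) [QuasiSeparated f]
    (e : Coh.structureModule X ⟶ PrinPart.P f 1)
    (he : ∀ (U : X.Opens) (s : Γ(X, U)), e.app U (OmegaSh.strSect X U s) = s • PrinPart.dn f 1 U 1)
    (ι : Omega.sheaf f ⟶ PrinPart.P f 1)
    (hι : ∀ (U : X.Opens) (s : Γ(X, U)),
      ι.app U ((OmegaSh.dOmega f).app U s) = PrinPart.dn f 1 U s - s • PrinPart.dn f 1 U 1)
    {U : X.Opens} {V : S.Opens}
    (hU : IsAffineOpen U) (hV : IsAffineOpen V) (hUV : U ≤ f ⁻¹ᵁ V)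

include he hι hU hV hUV in
theorem chart_surj (y : Γ(PrinPart.P f 1, U)) :
    ∃ (a : Γ(X, U)) (ω : Γ(Omega.sheaf f, U)),
      y = e.app U (OmegaSh.strSect X U a) + ι.app U ω := by
  have hy := mem_span_dn f 1 hU hV hUV y
  refine Submodule.span_induction ?_ ?_ ?_ ?_ hy
  · rintro _ ⟨b, rfl⟩
    refine ⟨b, (OmegaSh.dOmega f).app U b, ?_⟩
    rw [he, hι]
    abel
  · exact ⟨0, 0, by rw [map_zero, map_zero, map_zero, add_zero]⟩
  · rintro y₁ y₂ _ _ ⟨a₁, ω₁, h₁⟩ ⟨a₂, ω₂, h₂⟩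
    refine ⟨a₁ + a₂, ω₁ + ω₂, ?_⟩
    rw [h₁, h₂, map_add, map_add, map_add]
    abel
  · rintro r y₁ _ ⟨a₁, ω₁, h₁⟩
    refine ⟨r * a₁, r • ω₁, ?_⟩
    have h0 : OmegaSh.strSect X U (r * a₁) = r • (OmegaSh.strSect X U a₁) := rfl
    rw [h₁, h0, Scheme.Modules.Hom.app_smul, Scheme.Modules.Hom.app_smul, smul_add]

include he hι hU hV hUV in
theorem chart_inj (a : Γ(X, U)) (ω : Γ(Omega.sheaf f, U))
    (h : e.app U (OmegaSh.strSect X U a) + ι.app U ω = 0) : a = 0 ∧ ω = 0 := by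
  have hW := isAffineOpen_diagNbhd f hU hV hUV
  letI : Algebra Γ(pullback f f, OmegaSh.diagNbhd f U) Γ(X, U) := (mm f U).toAlgebra
  have halg : algebraMap Γ(pullback f f, OmegaSh.diagNbhd f U) Γ(X, U) =
    ((pullback.diagonal f).appLE (OmegaSh.diagNbhd f U) U (OmegaSh.le_preimage_diagNbhd f U)).hom := rfl
  have hsurj : Function.Surjective (algebraMap Γ(pullback f f, OmegaSh.diagNbhd f U) Γ(X, U)) :=
    fun a => ⟨pp₁ f U a, congr($(mm_comp_pp₁ f U) a)⟩
  obtain ⟨t, rfl⟩ := exists_unitSec_eq (pullback.diagonal f) (ClSub.idealMod (pullback.diagonal f).ker)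
    (OmegaSh.le_preimage_diagNbhd f U) hW hU halg hsurj ω
  have h1 := iota_uSec f hU hV hUV ι hι t
  change e.app U (OmegaSh.strSect X U a) + ι.app U (uSec f U t) = 0 at h
  rw [h1, he] at h
  change a • oneP f 1 U + _ = 0 at h
  rw [smul_eq_actP, ← actP_add] at h
  have h2 : (PrinPart.pr1 f 1).app U a + (rhoE f 1 (U := U)).hom
      (OmegaSh.idealSect (pullback.diagonal f).ker (OmegaSh.diagNbhd f U) t) = 0 := by
    apply (actP_oneP_bijective f 1 hU).1
    change actP f 1 U _ (oneP f 1 U) = actP f 1 U 0 (oneP f 1 U)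
    rw [h, actP_zero]
  have h3 := congrArg ((PrinPart.toNbhd f 1).appLE (PrinPart.pr1 f 1 ⁻¹ᵁ U) U
    (toNbhd_preimage_pr1 f 1 U).ge) h2
  rw [map_add, toNbhd_rhoE, mm_idealSect, add_zero, map_zero, Scheme.Hom.app_eq_appLE,
    retr_appLE (PrinPart.toNbhd f 1) (PrinPart.pr1 f 1) (PrinPart.pr1 f 1)
      (PrinPart.toNbhd_pr1 f 1) U le_rfl] at h3
  refine ⟨h3, ?_⟩
  rw [h3, map_zero, zero_add] at h2
  apply uSec_eq_zero_of_mem_sq
  exact ker_rhoE_le f 1 hU hV hUV ((RingHom.mem_ker).2 h2)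

end final

end Groth.Agent.Helper18PP
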