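import Mathlib
import Groth.Prelude.Def_OmegaPn
import Groth.Prelude.Def_Omega4
import Groth.Agent.Lib.Helper18PP23

set_option autoImplicit false
set_option linter.style.haveILetI false
set_option linter.unusedSectionVars false
universe u
open CategoryTheory AlgebraicGeometry Limits TopologicalSpace Opposite TensorProduct

namespace Groth.Agent.Helper18PP

open Groth.Agent.Helper18OmLS Groth.Agent.Helper13PullbackUnit

set_option backward.isDefEq.respectTransparency.types false in
/-- quasi-coherence is invariant under isomorphisms -/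
theorem isQuasicoherent_of_iso' {X : Scheme.{u}} {M N : X.Modules} (e : M ≅ N)
    [hM : M.IsQuasicoherent] : N.IsQuasicoherent := by
  obtain ⟨⟨q⟩⟩ := hM
  exact (SheafOfModules.QuasicoherentData.ofIsIso.{u, u, u, u} e.hom q).isQuasicoherent

section final
variable {X S : Scheme.{u}} (f : X ⟶ S) [QuasiSeparated f]
    (e : Coh.structureModule X ⟶ PrinPart.P f 1)
    (he : ∀ (U : X.Opens) (s : Γ(X, U)), e.app U (OmegaSh.strSect X U s) = s • PrinPart.dn f 1 U 1)
    (ι : Omega.sheaf f ⟶ PrinPart.P f 1)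
    (hι : ∀ (U : X.Opens) (s : Γ(X, U)),
      ι.app U ((OmegaSh.dOmega f).app U s) = PrinPart.dn f 1 U s - s • PrinPart.dn f 1 U 1)

include he hι in
theorem main_S5978 : IsIso (coprod.desc e ι) := by
  haveI qO : (Coh.structureModule X).IsQuasicoherent :=
    Groth.Agent.Lib.Helper20.OmegaAff.isQuasicoherent_structureModule
  haveI qΩ : (Omega.sheaf f).IsQuasicoherent :=
    inferInstanceAs ((Scheme.Modules.pullback (pullback.diagonal f)).obj
      (ClSub.idealMod (pullback.diagonal f).ker)).IsQuasicoherent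
  haveI qB : (Coh.structureModule X ⊞ Omega.sheaf f).IsQuasicoherent :=
    Groth.Agent.Lib.Helper23.QCohLocal.isQuasicoherent_biprod _ _
  haveI qC : (Coh.structureModule X ⨿ Omega.sheaf f).IsQuasicoherent := by
    exact isQuasicoherent_of_iso' (biprod.isoCoprod (Coh.structureModule X) (Omega.sheaf f))
  let κ : Type u := {T : S.Opens × X.Opens // IsAffineOpen T.1 ∧ IsAffineOpen T.2 ∧
    T.2 ≤ f ⁻¹ᵁ T.1}
  have hcover : IsOpenCover (fun T : κ => T.1.2) := by
    refine IsOpenCover.mk (eq_top_iff.mpr ?_)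
    intro x _
    obtain ⟨V', hV', hxV', -⟩ := exists_isAffineOpen_mem_and_subset (x := f x)
      (U := ⊤) trivial
    obtain ⟨U, hU, hxU, hUle⟩ := exists_isAffineOpen_mem_and_subset (x := x)
      (U := f ⁻¹ᵁ V') hxV'
    exact Opens.mem_iSup.mpr ⟨⟨⟨V', U⟩, hV', hU, hUle⟩, hxU⟩
  have haff : ∀ T : κ, IsAffineOpen T.1.2 := fun T => T.2.2.1
  let p1 : Coh.structureModule X ⨿ Omega.sheaf f ⟶ Coh.structureModule X := coprod.desc (𝟙 _) 0
  let p2 : Coh.structureModule X ⨿ Omega.sheaf f ⟶ Omega.sheaf f := coprod.desc 0 (𝟙 _)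
  have htot : p1 ≫ coprod.inl + p2 ≫ coprod.inr = 𝟙 _ := by
    apply coprod.hom_ext
    · rw [Preadditive.comp_add, ← Category.assoc, ← Category.assoc, coprod.inl_desc,
        coprod.inl_desc, Category.id_comp, zero_comp, add_zero, Category.comp_id]
    · rw [Preadditive.comp_add, ← Category.assoc, ← Category.assoc, coprod.inr_desc,
        coprod.inr_desc, Category.id_comp, zero_comp, zero_add, Category.comp_id]
  refine isIso_of_bijective_app_cover (coprod.desc e ι) _ hcover haff (fun T => ⟨?_, ?_⟩)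
  · rw [injective_iff_map_eq_zero]
    intro x hx
    have hx' : x = (coprod.inl : _ ⟶ Coh.structureModule X ⨿ Omega.sheaf f).app T.1.2 (p1.app T.1.2 x) +
        (coprod.inr : _ ⟶ Coh.structureModule X ⨿ Omega.sheaf f).app T.1.2 (p2.app T.1.2 x) := by
      have h1 := congrArg (fun φ : Coh.structureModule X ⨿ Omega.sheaf f ⟶
        Coh.structureModule X ⨿ Omega.sheaf f => φ.app T.1.2 x) htot
      exact h1.symm
    have hφ1 : ∀ a : Γ(Coh.structureModule X, T.1.2), (coprod.desc e ι).app T.1.2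
        ((coprod.inl : _ ⟶ Coh.structureModule X ⨿ Omega.sheaf f).app T.1.2 a) = e.app T.1.2 a := by
      intro a
      have h1 := congrArg (fun φ : Coh.structureModule X ⟶ PrinPart.P f 1 => φ.app T.1.2 a)
        (coprod.inl_desc e ι)
      exact h1
    have hφ2 : ∀ ω : Γ(Omega.sheaf f, T.1.2), (coprod.desc e ι).app T.1.2
        ((coprod.inr : _ ⟶ Coh.structureModule X ⨿ Omega.sheaf f).app T.1.2 ω) = ι.app T.1.2 ω := by
      intro ω
      have h1 := congrArg (fun φ : Omega.sheaf f ⟶ PrinPart.P f 1 => φ.app T.1.2 ω)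
        (coprod.inr_desc e ι)
      exact h1
    rw [hx', map_add, hφ1, hφ2] at hx
    obtain ⟨h1, h2⟩ := chart_inj f e he ι hι T.2.2.1 T.2.1 T.2.2.2
      (OmegaSh.fnSect X T.1.2 (p1.app T.1.2 x)) (p2.app T.1.2 x) hx
    have h1' : p1.app T.1.2 x = 0 := h1
    rw [hx', h1', h2, map_zero, map_zero, add_zero]
  · intro y
    obtain ⟨a, ω, rfl⟩ := chart_surj f e he ι hι T.2.2.1 T.2.1 T.2.2.2 y
    refine ⟨(coprod.inl : _ ⟶ Coh.structureModule X ⨿ Omega.sheaf f).app T.1.2
      (OmegaSh.strSect X T.1.2 a) +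
      (coprod.inr : _ ⟶ Coh.structureModule X ⨿ Omega.sheaf f).app T.1.2 ω, ?_⟩
    rw [map_add]
    have hφ1 : ∀ a : Γ(Coh.structureModule X, T.1.2), (coprod.desc e ι).app T.1.2
        ((coprod.inl : _ ⟶ Coh.structureModule X ⨿ Omega.sheaf f).app T.1.2 a) = e.app T.1.2 a := by
      intro a
      have h1 := congrArg (fun φ : Coh.structureModule X ⟶ PrinPart.P f 1 => φ.app T.1.2 a)
        (coprod.inl_desc e ι)
      exact h1
    have hφ2 : ∀ ω : Γ(Omega.sheaf f, T.1.2), (coprod.desc e ι).app T.1.2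
        ((coprod.inr : _ ⟶ Coh.structureModule X ⨿ Omega.sheaf f).app T.1.2 ω) = ι.app T.1.2 ω := by
      intro ω
      have h1 := congrArg (fun φ : Omega.sheaf f ⟶ PrinPart.P f 1 => φ.app T.1.2 ω)
        (coprod.inr_desc e ι)
      exact h1
    rw [hφ1, hφ2]

end final

end Groth.Agent.Helper18PP
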