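import Mathlib

set_option autoImplicit false
set_option linter.style.haveILetI false
set_option linter.unusedSectionVars false
universe u
open CategoryTheory Limits TensorProduct

namespace Groth.Agent.Helper18PP

section abstractBC

theorem bijective_of_pushout_data
    {B B' R R' : CommRingCat.{u}} {υB : B ⟶ B'} {p₁ : B ⟶ R} {p₁' : B' ⟶ R'} {ω : R ⟶ R'}
    (hPO : IsPushout υB p₁ p₁' ω)
    (J : Ideal R) (K' : Ideal R') (hK' : K' ≤ Ideal.map ω.hom J)
    {PU PU' MU : Type u} [AddCommGroup PU] [Module B PU] [AddCommGroup PU'] [Module B' PU']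
    [AddCommGroup MU] [Module B' MU]
    (Ξρ : R →+ PU) (hΞs : Function.Surjective Ξρ)
    (hΞl : ∀ (b : B) (r : R), Ξρ (p₁.hom b * r) = b • Ξρ r)
    (hΞJ : ∀ y ∈ J, Ξρ y = 0)
    (Ξρ' : R' →+ PU') (hΞ's : Function.Surjective Ξρ')
    (hΞ'l : ∀ (b' : B') (r' : R'), Ξρ' (p₁'.hom b' * r') = b' • Ξρ' r')
    (hΞ'K : ∀ r', Ξρ' r' = 0 → r' ∈ K')
    (υ : PU →+ MU) (hυl : ∀ (b : B) (x : PU), υ (b • x) = υB.hom b • υ x)
    (hυs : ∀ z : MU, z ∈ Submodule.span B' (Set.range υ))
    (φ : MU →+ PU') (hφl : ∀ (b' : B') (z : MU), φ (b' • z) = b' • φ z)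
    (hφ : ∀ r, φ (υ (Ξρ r)) = Ξρ' (ω.hom r)) :
    Function.Bijective φ := by
  letI a1 : Algebra B B' := υB.hom.toAlgebra
  letI a2 : Algebra B R := p₁.hom.toAlgebra
  letI a3 : Algebra B' R' := p₁'.hom.toAlgebra
  letI a4 : Algebra R R' := ω.hom.toAlgebra
  letI a5 : Algebra B R' := ((algebraMap B' R').comp (algebraMap B B')).toAlgebra
  haveI t1 : IsScalarTower B B' R' := IsScalarTower.of_algebraMap_eq fun _ => rfl
  haveI t2 : IsScalarTower B R R' := IsScalarTower.of_algebraMap_eq fun b => congr($(hPO.w) b)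
  have hpo : Algebra.IsPushout B B' R R' := CommRingCat.isPushout_iff_isPushout.mp hPO
  have hbc : IsBaseChange B' (IsScalarTower.toAlgHom B R R').toLinearMap := hpo.out
  letI m1 : Module B MU := Module.compHom MU (algebraMap B B')
  haveI t3 : IsScalarTower B B' MU := IsScalarTower.of_algebraMap_smul fun _ _ => rfl
  let ℓ : R →ₗ[B] MU :=
    { toFun := fun r => υ (Ξρ r)
      map_add' := fun a b => by rw [map_add, map_add]
      map_smul' := fun b r => by
        rw [Algebra.smul_def]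
        change υ (Ξρ (p₁.hom b * r)) = _
        rw [hΞl, hυl]
        rfl }
  let Ψ : R' →ₗ[B'] MU := hbc.lift ℓ
  have hΨ : ∀ r : R, Ψ (ω.hom r) = υ (Ξρ r) := fun r => hbc.lift_eq ℓ r
  have hsm : ∀ (s : B') (n : R'), s • n = p₁'.hom s * n := fun s n => Algebra.smul_def s n
  -- (1)
  have hcomp : ∀ r' : R', φ (Ψ r') = Ξρ' r' := by
    intro r'
    induction r' using hbc.inductionOn with
    | zero => rw [map_zero, map_zero, map_zero]
    | tmul r => exact (congrArg φ (hΨ r)).trans (hφ r)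
    | smul s n hn => rw [map_smul, hφl, hn, hsm, hΞ'l]
    | add n₁ n₂ h₁ h₂ => rw [map_add, map_add, map_add, h₁, h₂]
  -- (2)
  have hΨsurj : Function.Surjective Ψ := by
    intro z
    refine Submodule.span_induction ?_ ?_ ?_ ?_ (hυs z)
    · rintro _ ⟨x, rfl⟩
      obtain ⟨r, rfl⟩ := hΞs x
      exact ⟨ω.hom r, hΨ r⟩
    · exact ⟨0, map_zero _⟩
    · rintro _ _ _ _ ⟨r₁, rfl⟩ ⟨r₂, rfl⟩
      exact ⟨r₁ + r₂, map_add _ _ _⟩
    · rintro b' _ _ ⟨r₁, rfl⟩
      exact ⟨b' • r₁, map_smul _ _ _⟩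
  -- (3)
  have hkill : ∀ (y : R), y ∈ J → ∀ x' : R', Ψ (x' * ω.hom y) = 0 := by
    intro y hy x'
    induction x' using hbc.inductionOn with
    | zero => rw [zero_mul, map_zero]
    | tmul r =>
      change Ψ (ω.hom r * ω.hom y) = 0
      rw [← map_mul, hΨ, hΞJ _ (J.mul_mem_left r hy), map_zero]
    | smul s n hn => rw [smul_mul_assoc, map_smul, hn, smul_zero]
    | add n₁ n₂ h₁ h₂ => rw [add_mul, map_add, h₁, h₂, add_zero]
  let T : Ideal R' :=
    { carrier := {r' | ∀ x' : R', Ψ (x' * r') = 0}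
      add_mem' := fun {a b} ha hb x' => by rw [mul_add, map_add, ha, hb, add_zero]
      zero_mem' := fun x' => by rw [mul_zero, map_zero]
      smul_mem' := fun c {a} ha x' => by
        rw [smul_eq_mul, ← mul_assoc]
        exact ha _ }
  have hT : Ideal.map ω.hom J ≤ T := by
    rw [Ideal.map_le_iff_le_comap]
    intro y hy
    exact fun x' => hkill y hy x'
  constructor
  · rw [injective_iff_map_eq_zero]
    intro z hz
    obtain ⟨r', rfl⟩ := hΨsurj z
    rw [hcomp] at hz
    have h1 : r' ∈ T := hT (hK' (hΞ'K r' hz))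
    have h2 := h1 1
    rwa [one_mul] at h2
  · intro y
    obtain ⟨r', rfl⟩ := hΞ's y
    exact ⟨Ψ r', hcomp r'⟩

/-- induction principle for elements of a pushout of commutative rings. -/
theorem pushout_induction {A B C R : CommRingCat.{u}} {i : A ⟶ B} {j : A ⟶ C} {p : B ⟶ R}
    {q : C ⟶ R} (h : IsPushout i j p q) (motive : R → Prop) (zero : motive 0)
    (tmul : ∀ c : C, motive (q.hom c)) (smul : ∀ (b : B) (n : R), motive n → motive (p.hom b * n))
    (add : ∀ n₁ n₂ : R, motive n₁ → motive n₂ → motive (n₁ + n₂)) (r : R) : motive r := by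
  letI a1 : Algebra A B := i.hom.toAlgebra
  letI a2 : Algebra A C := j.hom.toAlgebra
  letI a3 : Algebra B R := p.hom.toAlgebra
  letI a4 : Algebra C R := q.hom.toAlgebra
  letI a5 : Algebra A R := ((algebraMap B R).comp (algebraMap A B)).toAlgebra
  haveI t1 : IsScalarTower A B R := IsScalarTower.of_algebraMap_eq fun _ => rfl
  haveI t2 : IsScalarTower A C R := IsScalarTower.of_algebraMap_eq fun a => congr($(h.w) a)
  have hpo : Algebra.IsPushout A B C R := CommRingCat.isPushout_iff_isPushout.mp h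
  have hbc : IsBaseChange B (IsScalarTower.toAlgHom A C R).toLinearMap := hpo.out
  induction r using hbc.inductionOn with
  | zero => exact zero
  | tmul c => exact tmul c
  | smul s n hn =>
    rw [Algebra.smul_def]
    exact smul s n hn
  | add n₁ n₂ h₁ h₂ => exact add n₁ n₂ h₁ h₂

end abstractBC

end Groth.Agent.Helper18PP
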