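import Mathlib
import Groth.Prelude.Def_OmegaPn
import Groth.Prelude.Def_Omega4
import Groth.Agent.Lib.Helper18PP24

set_option autoImplicit false
set_option linter.style.haveILetI false
set_option linter.unusedSectionVars false
universe u
open CategoryTheory AlgebraicGeometry Limits TopologicalSpace Opposite TensorProduct

namespace Groth.Agent.Helper18PP

open Groth.Agent.Helper18OmLS Groth.Agent.Helper13PullbackUnit

section squares
variable {X S X' S' : Scheme.{u}} (f : X ⟶ S) (g : S' ⟶ S) (u : X' ⟶ X) (f' : X' ⟶ S')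
  (hsq : IsPullback u f' f g)

/-- the induced map `X' ×_{S'} X' ⟶ X ×_S X`. -/
noncomputable def wMap : pullback f' f' ⟶ pullback f f :=
  pullback.map f' f' f f u u g hsq.w.symm hsq.w.symm

theorem wMap_fst : wMap f g u f' hsq ≫ pullback.fst f f = pullback.fst f' f' ≫ u :=
  pullback.lift_fst _ _ _

theorem wMap_snd : wMap f g u f' hsq ≫ pullback.snd f f = pullback.snd f' f' ≫ u :=
  pullback.lift_snd _ _ _

theorem diagonal_wMap : pullback.diagonal f' ≫ wMap f g u f' hsq = u ≫ pullback.diagonal f := by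
  apply pullback.hom_ext
  · rw [Category.assoc, wMap_fst, pullback.diagonal_fst_assoc, Category.assoc,
      pullback.diagonal_fst, Category.comp_id]
  · rw [Category.assoc, wMap_snd, pullback.diagonal_snd_assoc, Category.assoc,
      pullback.diagonal_snd, Category.comp_id]

/-- `X' ×_{S'} X' = X' ×_X (X ×_S X)`. -/
theorem isPullback_wMap_fst :
    IsPullback (wMap f g u f' hsq) (pullback.fst f' f') (pullback.fst f f) u := by
  have h1 : IsPullback (pullback.snd f' f') (pullback.fst f' f') f' f' :=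
    (IsPullback.of_hasPullback f' f').flip
  have h2 : IsPullback (pullback.snd f' f' ≫ u) (pullback.fst f' f') f (f' ≫ g) :=
    h1.paste_horiz hsq
  have h3 : IsPullback (pullback.snd f f) (pullback.fst f f) f f :=
    (IsPullback.of_hasPullback f f).flip
  have h4 : IsPullback (wMap f g u f' hsq ≫ pullback.snd f f) (pullback.fst f' f') f (u ≫ f) := by
    rw [wMap_snd, hsq.w]
    exact h2
  exact IsPullback.of_right h4 (wMap_fst f g u f' hsq) h3

/-- `X' = X ×_{X ×_S X} (X' ×_{S'} X')`. -/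
theorem isPullback_diagonal_wMap :
    IsPullback u (pullback.diagonal f') (pullback.diagonal f) (wMap f g u f' hsq) := by
  have houter : IsPullback (pullback.diagonal f' ≫ pullback.fst f' f') u u
      (pullback.diagonal f ≫ pullback.fst f f) := by
    rw [pullback.diagonal_fst, pullback.diagonal_fst]
    exact IsPullback.of_horiz_isIso ⟨by simp⟩
  exact (IsPullback.of_right houter (diagonal_wMap f g u f' hsq)
    (isPullback_wMap_fst f g u f' hsq).flip).flip

end squares

section kerρ2
variable {X S : Scheme.{u}} (f : X ⟶ S) (n : ℕ) {U : X.Opens} {V : S.Opens}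
  (hU : IsAffineOpen U) (hV : IsAffineOpen V) (hUV : U ≤ f ⁻¹ᵁ V)

include hU hV hUV in
theorem ker_rhoE_ge :
    (RingHom.ker (mm f U)) ^ (n + 1) ≤ RingHom.ker (rhoE f n (U := U)).hom := by
  have hE := EU_isAffineOpen f hU hV hUV
  have hEW := EU_le_coborderRange f hU hV hUV
  let W := (pullback.diagonal f).coborderRange
  have hE' : IsAffineOpen (W.ι ⁻¹ᵁ (EU f U)) :=
    hE.preimage_of_isOpenImmersion W.ι (by rw [Scheme.Opens.opensRange_ι]; exact hEW)
  have hθ : Function.Bijective (W.ι.app (EU f U)) := by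
    rw [Scheme.Opens.ι_app]
    refine presheaf_map_bijective_of_eq ?_ _
    apply le_antisymm
    · rintro p ⟨q, hq, rfl⟩
      exact hq
    · intro p hp
      exact ⟨⟨p, hEW hp⟩, hp, rfl⟩
  have h3 : (PrinPart.nbhdι f n).app (EU f U) =
      W.ι.app (EU f U) ≫ (PrinPart.infNbhdι (PrinPart.diagCl f) n).app (W.ι ⁻¹ᵁ (EU f U)) := by
    unfold PrinPart.nbhdι
    exact Scheme.Hom.comp_app _ _ _
  have hK := ker_infNbhdι_app (PrinPart.diagCl f) n hE'
  have hpre : PrinPart.diagCl f ⁻¹ᵁ (W.ι ⁻¹ᵁ (EU f U)) = U := by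
    apply le_antisymm
    · intro p hp
      have hp' : (PrinPart.diagCl f ≫ W.ι) p ∈ EU f U := hp
      rw [Scheme.Hom.liftCoborder_ι] at hp'
      exact OmegaSh.diagonal_preimage_le f le_rfl hp'
    · intro p hp
      change (PrinPart.diagCl f ≫ W.ι) p ∈ EU f U
      rw [Scheme.Hom.liftCoborder_ι]
      exact OmegaSh.le_preimage_diagNbhd f U hp
  have e1 : (pullback.diagonal f).appLE (EU f U) U (OmegaSh.le_preimage_diagNbhd f U) =
      W.ι.appLE (EU f U) (W.ι ⁻¹ᵁ (EU f U)) le_rfl ≫
        (PrinPart.diagCl f).appLE (W.ι ⁻¹ᵁ (EU f U)) U hpre.ge :=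
    (appLE_comp_of_eq _ _ _ ((pullback.diagonal f).liftCoborder_ι) _ _ _ _ _ _).symm
  have hsub : RingHom.ker (mm f U) ≤ Ideal.comap (W.ι.app (EU f U)).hom
      (RingHom.ker ((PrinPart.diagCl f).app (W.ι ⁻¹ᵁ (EU f U))).hom) := by
    intro y hy
    rw [Ideal.mem_comap, RingHom.mem_ker]
    rw [RingHom.mem_ker] at hy
    apply app_eq_zero_of_appLE _ _ _ hpre
    have h4 := congr($e1 y)
    rw [CommRingCat.comp_apply, ← Scheme.Hom.app_eq_appLE] at h4
    rw [← h4]
    exact hy
  intro x hx
  have hx1 := Ideal.pow_right_mono hsub (n + 1) hx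
  rw [← comap_pow_of_bijective _ hθ, ← hK, Ideal.mem_comap, RingHom.mem_ker] at hx1
  rw [RingHom.mem_ker]
  change ((PrinPart.nbhdι f n).appLE (EU f U) (PrinPart.pr1 f n ⁻¹ᵁ U) _) x = 0
  rw [Scheme.Hom.appLE, CommRingCat.comp_apply]
  have h5 := congr($h3 x)
  rw [CommRingCat.comp_apply] at h5
  erw [h5, hx1, map_zero]

end kerρ2

end Groth.Agent.Helper18PP
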