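import Mathlib
import Groth.Prelude.Def_OmegaPn
import Groth.Prelude.Def_Omega4
import Groth.Agent.Lib.Helper18PP25
import Groth.Agent.Lib.Helper18PP26

set_option autoImplicit false
set_option linter.style.haveILetI false
set_option linter.unusedSectionVars false
universe u
open CategoryTheory AlgebraicGeometry Limits TopologicalSpace Opposite TensorProduct

namespace Groth.Agent.Helper18PP

open Groth.Agent.Helper18OmLS Groth.Agent.Helper13PullbackUnit

section XiRho
variable {X S : Scheme.{u}} (f : X ⟶ S) (n : ℕ) (U : X.Opens)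

/-- `r ↦ ρ(r) · 1` from functions on `U ×_V U` to sections of `P^n` over `U`. -/
noncomputable def XiRho : Γ(pullback f f, EU f U) →+ Γ(PrinPart.P f n, U) where
  toFun r := actP f n U ((rhoE f n (U := U)).hom r) (oneP f n U)
  map_zero' := by rw [map_zero, actP_zero]
  map_add' a b := by rw [map_add, actP_add]

theorem XiRho_apply (r : Γ(pullback f f, EU f U)) :
    XiRho f n U r = actP f n U ((rhoE f n (U := U)).hom r) (oneP f n U) := rfl

theorem XiRho_pp₁_mul (b : Γ(X, U)) (r : Γ(pullback f f, EU f U)) :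
    XiRho f n U (pp₁ f U b * r) = b • XiRho f n U r := by
  rw [XiRho_apply, XiRho_apply, map_mul, rhoE_pp₁, actP_mul, ← smul_eq_actP]

theorem XiRho_pp₂ (b : Γ(X, U)) : XiRho f n U (pp₂ f U b) = PrinPart.dn f n U b := by
  rw [XiRho_apply, rhoE_pp₂, ← dn_eq_actP']

variable {U} {V : S.Opens} (hU : IsAffineOpen U) (hV : IsAffineOpen V) (hUV : U ≤ f ⁻¹ᵁ V)

include hU hV hUV in
theorem XiRho_surjective : Function.Surjective (XiRho f n U) := by
  intro y
  obtain ⟨c, rfl⟩ := (actP_oneP_bijective f n hU).2 y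
  obtain ⟨r, rfl⟩ := nbhdι_appLE_surjective f n hU hV hUV c
  exact ⟨r, rfl⟩

include hU hV hUV in
theorem XiRho_eq_zero_iff (r : Γ(pullback f f, EU f U)) :
    XiRho f n U r = 0 ↔ r ∈ (RingHom.ker (mm f U)) ^ (n + 1) := by
  constructor
  · intro h
    apply ker_rhoE_le f n hU hV hUV
    rw [RingHom.mem_ker]
    apply (actP_oneP_bijective f n hU).1
    change actP f n U _ (oneP f n U) = actP f n U 0 (oneP f n U)
    rw [actP_zero]
    exact h
  · intro h
    have h1 := ker_rhoE_ge f n hU hV hUV h
    rw [RingHom.mem_ker] at h1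
    rw [XiRho_apply, h1, actP_zero]

include hU hV hUV in
/-- the chart pushout `Γ(U ×_V U) = Γ(U) ⊗_{Γ(V)} Γ(U)`. -/
theorem isPushout_chart : IsPushout (f.appLE V U hUV) (f.appLE V U hUV)
    (CommRingCat.ofHom (pp₁ f U)) (CommRingCat.ofHom (pp₂ f U)) := by
  have := isIso_pushoutSection_of_isAffineOpen (IsPullback.of_hasPullback f f) hUV hUV
    (UY := EU f U) rfl hV hU hU
  exact (isIso_pushoutSection_iff (IsPullback.of_hasPullback f f) _ _ rfl).mp this

end XiRho

end Groth.Agent.Helper18PP
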