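import Mathlib
import Groth.Prelude.Def_OmegaPn
import Groth.Prelude.Def_Omega4
import Groth.Agent.Lib.Helper18PP27
import Groth.Agent.Lib.Helper18Con2

set_option autoImplicit false
set_option linter.style.haveILetI false
set_option linter.unusedSectionVars false
universe u
open CategoryTheory AlgebraicGeometry Limits TopologicalSpace Opposite TensorProduct

namespace Groth.Agent.Helper18PP

open Groth.Agent.Helper18OmLS Groth.Agent.Helper13PullbackUnit

section chartBC
variable {X S X' S' : Scheme.{u}} (f : X ⟶ S) (g : S' ⟶ S) (u : X' ⟶ X) (f' : X' ⟶ S')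
  (hsq : IsPullback u f' f g)
  {V : S.Opens} {V' : S'.Opens} {U : X.Opens}
  (hV : IsAffineOpen V) (hV' : IsAffineOpen V') (hU : IsAffineOpen U)
  (hUV : U ≤ f ⁻¹ᵁ V) (hV'V : V' ≤ g ⁻¹ᵁ V)

/-- the chart `U' = U ×_V V'` of `X'`. -/
abbrev UP (U : X.Opens) (V' : S'.Opens) : X'.Opens := u ⁻¹ᵁ U ⊓ f' ⁻¹ᵁ V'

include hsq hV hV' hU hUV hV'V in
theorem UP_isAffineOpen : IsAffineOpen (UP u f' U V') := by
  have : IsAffine (V : Scheme.{u}) := hV
  have : IsAffine (V' : Scheme.{u}) := hV'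
  have : IsAffine (U : Scheme.{u}) := hU
  exact .of_isIso (Scheme.Hom.isPullback_resLE hsq hV'V hUV rfl).isoPullback.hom

theorem UP_le_u : UP u f' U V' ≤ u ⁻¹ᵁ U := inf_le_left
theorem UP_le_f' : UP u f' U V' ≤ f' ⁻¹ᵁ V' := inf_le_right

theorem EU_UP_eq : EU f' (UP u f' U V') =
    wMap f g u f' hsq ⁻¹ᵁ (EU f U) ⊓ pullback.fst f' f' ⁻¹ᵁ (UP u f' U V') := by
  have h1 : ∀ p : ↥(pullback f' f'), pullback.fst f f (wMap f g u f' hsq p) =
      u (pullback.fst f' f' p) := by
    intro p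
    rw [← Scheme.Hom.comp_apply, ← Scheme.Hom.comp_apply, wMap_fst]
  have h2 : ∀ p : ↥(pullback f' f'), pullback.snd f f (wMap f g u f' hsq p) =
      u (pullback.snd f' f' p) := by
    intro p
    rw [← Scheme.Hom.comp_apply, ← Scheme.Hom.comp_apply, wMap_snd]
  have h3 : ∀ p : ↥(pullback f' f'), f' (pullback.fst f' f' p) = f' (pullback.snd f' f' p) := by
    intro p
    rw [← Scheme.Hom.comp_apply, ← Scheme.Hom.comp_apply, pullback.condition]
  ext p
  constructor
  · rintro ⟨⟨ha, hb⟩, ⟨hc, hd⟩⟩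
    refine ⟨⟨?_, ?_⟩, ⟨ha, hb⟩⟩
    · change pullback.fst f f (wMap f g u f' hsq p) ∈ U
      rw [h1]
      exact ha
    · change pullback.snd f f (wMap f g u f' hsq p) ∈ U
      rw [h2]
      exact hc
  · rintro ⟨⟨ha, hb⟩, ⟨hc, hd⟩⟩
    refine ⟨⟨hc, hd⟩, ⟨?_, ?_⟩⟩
    · change u (pullback.snd f' f' p) ∈ U
      rw [← h2]
      exact hb
    · change f' (pullback.snd f' f' p) ∈ V'
      rw [← h3]
      exact hd

theorem EU_UP_le : EU f' (UP u f' U V') ≤ wMap f g u f' hsq ⁻¹ᵁ (EU f U) := by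
  rw [EU_UP_eq f g u f' hsq]
  exact inf_le_left

/-- the comorphism of `wMap` on the charts. -/
noncomputable abbrev wSharp : Γ(pullback f f, EU f U) ⟶ Γ(pullback f' f', EU f' (UP u f' U V')) :=
  (wMap f g u f' hsq).appLE (EU f U) (EU f' (UP u f' U V')) (EU_UP_le f g u f' hsq)

/-- the comorphism of `u` on the charts. -/
noncomputable abbrev uSharp : Γ(X, U) ⟶ Γ(X', UP u f' U V') :=
  u.appLE U (UP u f' U V') (UP_le_u u f')

theorem wSharp_pp₁ (a : Γ(X, U)) :
    (wSharp f g u f' hsq (U := U) (V' := V')).hom (pp₁ f U a) =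
      pp₁ f' (UP u f' U V') ((uSharp u f' (U := U) (V' := V')).hom a) := by
  have h1 : (pullback.fst f f).appLE U (EU f U) inf_le_left ≫
      wSharp f g u f' hsq (U := U) (V' := V') =
      uSharp u f' (U := U) (V' := V') ≫
        (pullback.fst f' f').appLE (UP u f' U V') (EU f' (UP u f' U V')) inf_le_left := by
    rw [Scheme.Hom.appLE_comp_appLE, Scheme.Hom.appLE_comp_appLE]
    exact appLE_congr' (wMap_fst f g u f' hsq) _ _ _ _
  exact congr($h1 a)

theorem wSharp_pp₂ (a : Γ(X, U)) :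
    (wSharp f g u f' hsq (U := U) (V' := V')).hom (pp₂ f U a) =
      pp₂ f' (UP u f' U V') ((uSharp u f' (U := U) (V' := V')).hom a) := by
  have h1 : (pullback.snd f f).appLE U (EU f U) inf_le_right ≫
      wSharp f g u f' hsq (U := U) (V' := V') =
      uSharp u f' (U := U) (V' := V') ≫
        (pullback.snd f' f').appLE (UP u f' U V') (EU f' (UP u f' U V')) inf_le_right := by
    rw [Scheme.Hom.appLE_comp_appLE, Scheme.Hom.appLE_comp_appLE]
    exact appLE_congr' (wMap_snd f g u f' hsq) _ _ _ _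
  exact congr($h1 a)

include hV hV' hU hUV hV'V in
theorem isPushout_chart_fst : IsPushout (uSharp u f' (U := U) (V' := V'))
    (CommRingCat.ofHom (pp₁ f U)) (CommRingCat.ofHom (pp₁ f' (UP u f' U V')))
    (wSharp f g u f' hsq (U := U) (V' := V')) := by
  have hE := EU_isAffineOpen f hU hV hUV
  have hU' := UP_isAffineOpen f g u f' hsq hV hV' hU hUV hV'V
  have := isIso_pushoutSection_of_isAffineOpen (isPullback_wMap_fst f g u f' hsq)
    (UP_le_u u f' (U := U) (V' := V')) (inf_le_left : EU f U ≤ pullback.fst f f ⁻¹ᵁ U)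
    (EU_UP_eq f g u f' hsq) hU hU' hE
  exact ((isIso_pushoutSection_iff (isPullback_wMap_fst f g u f' hsq) _ _
    (EU_UP_eq f g u f' hsq)).mp this).flip

include hV hV' hU hUV hV'V in
theorem ker_mm_UP : RingHom.ker (mm f' (UP u f' U V')) =
    Ideal.map (wSharp f g u f' hsq (U := U) (V' := V')).hom (RingHom.ker (mm f U)) := by
  have hE := EU_isAffineOpen f hU hV hUV
  have hU' := UP_isAffineOpen f g u f' hsq hV hV' hU hUV hV'V
  have hE' := EU_isAffineOpen f' hU' hV' (UP_le_f' u f' (U := U) (V' := V'))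
  have hUY : UP u f' U V' = u ⁻¹ᵁ U ⊓ pullback.diagonal f' ⁻¹ᵁ (EU f' (UP u f' U V')) := by
    have h1 : pullback.diagonal f' ⁻¹ᵁ (EU f' (UP u f' U V')) = UP u f' U V' :=
      le_antisymm (OmegaSh.diagonal_preimage_le f' le_rfl) (OmegaSh.le_preimage_diagNbhd f' _)
    rw [h1]
    exact (inf_eq_right.2 (UP_le_u u f')).symm
  have := isIso_pushoutSection_of_isAffineOpen (isPullback_diagonal_wMap f g u f' hsq)
    (EU_UP_le f g u f' hsq (U := U) (V' := V')) (OmegaSh.le_preimage_diagNbhd f U)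
    hUY hE hE' hU
  have hPO := ((isIso_pushoutSection_iff (isPullback_diagonal_wMap f g u f' hsq) _ _
    hUY).mp this).flip
  have hsurj : Function.Surjective (mm f U) := fun a => ⟨pp₁ f U a, congr($(mm_comp_pp₁ f U) a)⟩
  exact Groth.Agent.Helper18Con.ker_eq_map_of_isPushout hPO hsurj

end chartBC

end Groth.Agent.Helper18PP
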