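import Mathlib
import Groth.Prelude.Def_OmegaPn
import Groth.Prelude.Def_Omega4
import Groth.Agent.Lib.Helper18PP28

set_option autoImplicit false
set_option linter.style.haveILetI false
set_option linter.unusedSectionVars false
universe u
open CategoryTheory AlgebraicGeometry Limits TopologicalSpace Opposite TensorProduct

namespace Groth.Agent.Helper18PP

open Groth.Agent.Helper18OmLS Groth.Agent.Helper13PullbackUnit Groth.Agent.Helper18UT

section pmap
variable {X S X' S' : Scheme.{u}} (f : X ⟶ S) (f' : X' ⟶ S') (u : X' ⟶ X) (n : ℕ)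
  (φ : (Scheme.Modules.pullback u).obj (PrinPart.P f n) ⟶ PrinPart.P f' n)
  (hφ : PrinPart.IsPMap f f' u n φ)

theorem dn_map {U W : X.Opens} (h : W ≤ U) (b : Γ(X, U)) :
    PrinPart.dn f n W (X.presheaf.map (homOfLE h).op b) =
      (PrinPart.P f n).presheaf.map (homOfLE h).op (PrinPart.dn f n U b) :=
  PrinPart.dP_map f n (Coh.structureModule X) h (OmegaSh.strSect X U b)

include hφ in
theorem isPMap_unitSec {U : X.Opens} {U' : X'.Opens} (hle : U' ≤ u ⁻¹ᵁ U) (b : Γ(X, U)) :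
    φ.app U' (unitSec u (PrinPart.P f n) hle (PrinPart.dn f n U b)) =
      PrinPart.dn f' n U' (u.appLE U U' hle b) := by
  rw [unitSec_apply]
  refine (hom_app_map φ hle _).trans ?_
  have h1 := hφ U b
  refine (congrArg _ h1).trans ?_
  rw [← dn_map]
  rfl

end pmap

section chartFinal
variable {X S X' S' : Scheme.{u}} (f : X ⟶ S) (g : S' ⟶ S) (u : X' ⟶ X) (f' : X' ⟶ S')
  (hsq : IsPullback u f' f g) (n : ℕ)
  (φ : (Scheme.Modules.pullback u).obj (PrinPart.P f n) ⟶ PrinPart.P f' n)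
  (hφ : PrinPart.IsPMap f f' u n φ)
  {V : S.Opens} {V' : S'.Opens} {U : X.Opens}
  (hV : IsAffineOpen V) (hV' : IsAffineOpen V') (hU : IsAffineOpen U)
  (hUV : U ≤ f ⁻¹ᵁ V) (hV'V : V' ≤ g ⁻¹ᵁ V)

include hU in
theorem span_unitSec {U' : X'.Opens} (hU' : IsAffineOpen U') (hle : U' ≤ u ⁻¹ᵁ U)
    (z : Γ((Scheme.Modules.pullback u).obj (PrinPart.P f n), U')) :
    z ∈ Submodule.span Γ(X', U') (Set.range (unitSec u (PrinPart.P f n) hle)) := by
  letI : Algebra Γ(X, U) Γ(X', U') := (u.appLE U U' hle).hom.toAlgebra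
  obtain ⟨e, he⟩ := exists_pullback_equiv u (PrinPart.P f n) hle hU hU' rfl
  obtain ⟨t, rfl⟩ := e.surjective z
  induction t using TensorProduct.induction_on with
  | zero => rw [map_zero]; exact Submodule.zero_mem _
  | tmul b' x =>
    rw [he]
    exact Submodule.smul_mem _ _ (Submodule.subset_span ⟨x, rfl⟩)
  | add x y hx hy =>
    rw [map_add]
    exact Submodule.add_mem _ hx hy

include hsq hφ hV hV' hU hUV hV'V in
theorem chart_bijective_S5954 : Function.Bijective (φ.app (UP u f' U V')) := by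
  have hU' := UP_isAffineOpen f g u f' hsq hV hV' hU hUV hV'V
  have hPO := isPushout_chart_fst f g u f' hsq hV hV' hU hUV hV'V
  have hK' : (RingHom.ker (mm f' (UP u f' U V'))) ^ (n + 1) ≤
      Ideal.map (wSharp f g u f' hsq (U := U) (V' := V')).hom ((RingHom.ker (mm f U)) ^ (n + 1)) := by
    rw [ker_mm_UP f g u f' hsq hV hV' hU hUV hV'V, Ideal.map_pow]
  have hφr : ∀ r : Γ(pullback f f, EU f U),
      φ.app (UP u f' U V') (unitSec u (PrinPart.P f n) (UP_le_u u f') (XiRho f n U r)) =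
        XiRho f' n (UP u f' U V') ((wSharp f g u f' hsq (U := U) (V' := V')).hom r) := by
    intro r
    refine pushout_induction (isPushout_chart f hU hV hUV) (fun r =>
      φ.app (UP u f' U V') (unitSec u (PrinPart.P f n) (UP_le_u u f') (XiRho f n U r)) =
        XiRho f' n (UP u f' U V') ((wSharp f g u f' hsq (U := U) (V' := V')).hom r)) ?_ ?_ ?_ ?_ r
    · rw [map_zero, map_zero, map_zero, map_zero, map_zero]
    · intro c
      change φ.app (UP u f' U V') (unitSec u (PrinPart.P f n) (UP_le_u u f')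
        (XiRho f n U (pp₂ f U c))) = XiRho f' n (UP u f' U V')
          ((wSharp f g u f' hsq (U := U) (V' := V')).hom (pp₂ f U c))
      rw [XiRho_pp₂, isPMap_unitSec f f' u n φ hφ, wSharp_pp₂, XiRho_pp₂]
    · intro b r hr
      change φ.app (UP u f' U V') (unitSec u (PrinPart.P f n) (UP_le_u u f')
        (XiRho f n U (pp₁ f U b * r))) = XiRho f' n (UP u f' U V')
          ((wSharp f g u f' hsq (U := U) (V' := V')).hom (pp₁ f U b * r))
      rw [XiRho_pp₁_mul, unitSec_smul, Scheme.Modules.Hom.app_smul, hr, map_mul, wSharp_pp₁,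
        XiRho_pp₁_mul]
    · intro r₁ r₂ h₁ h₂
      rw [map_add, map_add, map_add, map_add, map_add, h₁, h₂]
  exact bijective_of_pushout_data hPO ((RingHom.ker (mm f U)) ^ (n + 1))
    ((RingHom.ker (mm f' (UP u f' U V'))) ^ (n + 1)) hK'
    (XiRho f n U) (XiRho_surjective f n hU hV hUV) (XiRho_pp₁_mul f n U)
    (fun y hy => (XiRho_eq_zero_iff f n hU hV hUV y).2 hy)
    (XiRho f' n (UP u f' U V')) (XiRho_surjective f' n hU' hV' (UP_le_f' u f'))
    (XiRho_pp₁_mul f' n (UP u f' U V'))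
    (fun r' h => (XiRho_eq_zero_iff f' n hU' hV' (UP_le_f' u f') r').1 h)
    (unitSec u (PrinPart.P f n) (UP_le_u u f'))
    (fun b x => unitSec_smul u (PrinPart.P f n) (UP_le_u u f') b x)
    (span_unitSec f u n hU hU' (UP_le_u u f'))
    (φ.app (UP u f' U V')).hom
    (fun b' z => Scheme.Modules.Hom.app_smul φ b' z)
    hφr

end chartFinal

section mainBC
variable {X S X' S' : Scheme.{u}} (f : X ⟶ S) (g : S' ⟶ S) (u : X' ⟶ X) (f' : X' ⟶ S')
  (hsq : IsPullback u f' f g) (n : ℕ)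
  (φ : (Scheme.Modules.pullback u).obj (PrinPart.P f n) ⟶ PrinPart.P f' n)
  (hφ : PrinPart.IsPMap f f' u n φ)

include hsq hφ in
theorem main_S5954 : IsIso φ := by
  haveI : ((Scheme.Modules.pullback u).obj (PrinPart.P f n)).IsQuasicoherent :=
    Groth.Agent.Lib.Helper2.PullbackSec.isQuasicoherent_pullback _ _
  let κ : Type u := {T : S.Opens × S'.Opens × X.Opens // IsAffineOpen T.1 ∧ IsAffineOpen T.2.1 ∧
    IsAffineOpen T.2.2 ∧ T.2.2 ≤ f ⁻¹ᵁ T.1 ∧ T.2.1 ≤ g ⁻¹ᵁ T.1}
  have hcover : IsOpenCover (fun T : κ => UP u f' T.1.2.2 T.1.2.1) := by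
    refine IsOpenCover.mk (eq_top_iff.mpr ?_)
    intro x' _
    obtain ⟨V, hV, hsV, -⟩ := exists_isAffineOpen_mem_and_subset (x := f (u x'))
      (U := ⊤) trivial
    obtain ⟨U, hU, hxU, hUle⟩ := exists_isAffineOpen_mem_and_subset (x := u x')
      (U := f ⁻¹ᵁ V) hsV
    have hs' : f' x' ∈ g ⁻¹ᵁ V := by
      change g (f' x') ∈ V
      rw [← Scheme.Hom.comp_apply, ← hsq.w, Scheme.Hom.comp_apply]
      exact hsV
    obtain ⟨V', hV', hxV', hV'le⟩ := exists_isAffineOpen_mem_and_subset (x := f' x')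
      (U := g ⁻¹ᵁ V) hs'
    exact Opens.mem_iSup.mpr ⟨⟨⟨V, V', U⟩, hV, hV', hU, hUle, hV'le⟩, ⟨hxU, hxV'⟩⟩
  refine isIso_of_bijective_app_cover φ _ hcover
    (fun T => UP_isAffineOpen f g u f' hsq T.2.1 T.2.2.1 T.2.2.2.1 T.2.2.2.2.1 T.2.2.2.2.2)
    (fun T => chart_bijective_S5954 f g u f' hsq n φ hφ T.2.1 T.2.2.1 T.2.2.2.1 T.2.2.2.2.1
      T.2.2.2.2.2)

end mainBC

end Groth.Agent.Helper18PP
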