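import Groth.Agent.Lib.Helper4DiffOpLin
import Groth.Prelude.Def_PP16

/-!
Differential operators and principal parts: `D : M → N` has order `≤ n` iff it factors through
`d^n_M : M → P^n(M)` by a map linear for the first-factor structure.
-/

namespace Groth.Agent.Lib.Helper4

open Diff16 PP16
open scoped TensorProduct

universe u

section EvalOp

variable {A B : Type u} [CommRing A] [CommRing B] [Algebra A B]
variable {M N : Type u} [AddCommGroup M] [Module A M] [Module B M] [IsScalarTower A B M]
  [AddCommGroup N] [Module A N] [Module B N] [IsScalarTower A B N]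

/-- The operator `b ↦ D (b • m)` on `B`. -/
noncomputable def evalOp (D : M →ₗ[A] N) (m : M) : B →ₗ[A] N :=
  D ∘ₗ (LinearMap.toSpanSingleton B M m).restrictScalars A

@[simp] theorem evalOp_apply (D : M →ₗ[A] N) (m : M) (b : B) : evalOp D m b = D (b • m) := rfl

theorem commutator_evalOp (D : M →ₗ[A] N) (m : M) (b : B) :
    commutator A B B N (evalOp D m) b = evalOp (commutator A B M N D b) m := by
  ext c
  simp only [commutator_apply, evalOp_apply, smul_eq_mul, mul_smul]

theorem isDiffOpLE_iff_evalOp (n : ℕ) (D : M →ₗ[A] N) :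
    IsDiffOpLE A B M N n D ↔ ∀ m : M, IsDiffOpLE A B B N n (evalOp D m) := by
  induction n generalizing D with
  | zero =>
    constructor
    · intro h m b c
      simp only [evalOp_apply, smul_eq_mul, mul_smul]
      exact h b (c • m)
    · intro h b m
      have := h m b 1
      simpa using this
  | succ n ih =>
    constructor
    · intro h m b
      rw [commutator_evalOp]
      exact (ih _).mp (h b) m
    · intro h b
      refine (ih _).mpr fun m => ?_
      rw [← commutator_evalOp]
      exact h m b

theorem linearize_evalOp_tmul (D : M →ₗ[A] N) (m : M) (b c : B) :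
    linearize A B B N (evalOp D m) (b ⊗ₜ[A] c) = b • D (c • m) := by
  simp

/-- The map `x ↦ (m ↦ linearize (D_m) x)`, `A`-linear in `x` and in `m`. -/
noncomputable def linTwo (D : M →ₗ[A] N) : B ⊗[A] B →ₗ[A] (M →ₗ[A] N) :=
  TensorProduct.lift
    { toFun := fun b =>
        { toFun := fun c =>
            ((LinearMap.lsmul B N b).restrictScalars A) ∘ₗ D ∘ₗ
              ((LinearMap.lsmul B M c).restrictScalars A)
          map_add' := fun c c' => by
            ext m
            simp [add_smul]
          map_smul' := fun a c => by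
            ext m
            simp }
      map_add' := fun b b' => by
        ext c m
        simp [add_smul]
      map_smul' := fun a b => by
        ext c m
        simp }

@[simp] theorem linTwo_tmul (D : M →ₗ[A] N) (b c : B) (m : M) :
    linTwo D (b ⊗ₜ[A] c) m = b • D (c • m) := by
  simp [linTwo]

theorem linTwo_eq_linearize (D : M →ₗ[A] N) (x : B ⊗[A] B) (m : M) :
    linTwo D x m = linearize A B B N (evalOp D m) x := by
  induction x using TensorProduct.induction_on with
  | zero => simp
  | tmul b c => simp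
  | add x y hx hy => rw [map_add, map_add, LinearMap.add_apply, hx, hy]

theorem linTwo_mul_left (D : M →ₗ[A] N) (b : B) (x : B ⊗[A] B) (m : M) :
    linTwo D (b ⊗ₜ[A] (1 : B) * x) m = b • linTwo D x m := by
  induction x using TensorProduct.induction_on with
  | zero => simp
  | tmul c c' => simp [Algebra.TensorProduct.tmul_mul_tmul, mul_smul]
  | add x y hx hy => rw [mul_add, map_add, map_add, LinearMap.add_apply, LinearMap.add_apply, hx, hy,
      smul_add]

theorem linTwo_mul_right (D : M →ₗ[A] N) (b : B) (x : B ⊗[A] B) (m : M) :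
    linTwo D ((1 : B) ⊗ₜ[A] b * x) m = linTwo D x (b • m) := by
  induction x using TensorProduct.induction_on with
  | zero => simp
  | tmul c c' => simp [Algebra.TensorProduct.tmul_mul_tmul, mul_smul, smul_comm b c' m]
  | add x y hx hy => rw [mul_add, map_add, map_add, LinearMap.add_apply, LinearMap.add_apply, hx, hy]

theorem linTwo_vanish (n : ℕ) (D : M →ₗ[A] N) (hD : IsDiffOpLE A B M N n D)
    (x : B ⊗[A] B) (hx : x ∈ (KaehlerDifferential.ideal A B) ^ (n + 1)) : linTwo D x = 0 := by
  ext m
  rw [linTwo_eq_linearize]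
  exact (isDiffOpLE_iff_linearize n _).mp ((isDiffOpLE_iff_evalOp n D).mp hD m) x hx

end EvalOp

section PMsec

variable (n : ℕ) {A B : Type u} [CommRing A] [CommRing B] [Algebra A B]
variable {M N : Type u} [AddCommGroup M] [Module A M] [Module B M] [IsScalarTower A B M]
  [AddCommGroup N] [Module A N] [Module B N] [IsScalarTower A B N]

/-- The class of `x : B ⊗[A] B` in `P^n`, seen in the synonym `Pr` (second-factor structure). -/
noncomputable def prMk (x : B ⊗[A] B) : Pr n A B :=
  (Ideal.Quotient.mk ((KaehlerDifferential.ideal A B) ^ (n + 1)) x : P n A B)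

theorem prMk_surjective : Function.Surjective (prMk n (A := A) (B := B)) :=
  Ideal.Quotient.mk_surjective (I := (KaehlerDifferential.ideal A B) ^ (n + 1))

theorem prMk_zero : prMk n (0 : B ⊗[A] B) = 0 :=
  map_zero (Ideal.Quotient.mk ((KaehlerDifferential.ideal A B) ^ (n + 1)))

theorem prMk_add (x y : B ⊗[A] B) : prMk n (x + y) = prMk n x + prMk n y :=
  map_add (Ideal.Quotient.mk ((KaehlerDifferential.ideal A B) ^ (n + 1))) x y

theorem prMk_one : prMk n (1 : B ⊗[A] B) = 1 :=
  map_one (Ideal.Quotient.mk ((KaehlerDifferential.ideal A B) ^ (n + 1)))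

theorem prMk_eq_zero (x : B ⊗[A] B) (hx : x ∈ (KaehlerDifferential.ideal A B) ^ (n + 1)) :
    prMk n x = 0 :=
  Ideal.Quotient.eq_zero_iff_mem.mpr hx

theorem smul_prMk (c : B) (y : B ⊗[A] B) : c • prMk n y = prMk n ((1 : B) ⊗ₜ[A] c * y) := by
  rw [Algebra.smul_def]
  exact (map_mul (Ideal.Quotient.mk ((KaehlerDifferential.ideal A B) ^ (n + 1))) _ _).symm

theorem algebraMap_smul_prMk (b : B) (y : B ⊗[A] B) :
    algebraMap B (P n A B) b • prMk n y = prMk n (b ⊗ₜ[A] (1 : B) * y) :=
  (map_mul (Ideal.Quotient.mk ((KaehlerDifferential.ideal A B) ^ (n + 1))) _ _).symm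

/-- `linTwo D` descended to the ring of principal parts, for `D` of order at most `n`. -/
noncomputable def linQuot (D : M →ₗ[A] N) (hD : IsDiffOpLE A B M N n D) :
    P n A B →ₗ[A] (M →ₗ[A] N) :=
  (Submodule.liftQ (((KaehlerDifferential.ideal A B) ^ (n + 1)).restrictScalars A) (linTwo D)
    (fun x hx => linTwo_vanish n D hD x hx)) ∘ₗ
    (Submodule.Quotient.restrictScalarsEquiv A
      ((KaehlerDifferential.ideal A B) ^ (n + 1))).symm.toLinearMap

theorem linQuot_mk (D : M →ₗ[A] N) (hD : IsDiffOpLE A B M N n D) (x : B ⊗[A] B) :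
    linQuot n D hD (Ideal.Quotient.mk _ x) = linTwo D x := rfl

/-- The factorisation of a differential operator of order at most `n` through `P^n(M)`. -/
noncomputable def pmLift (D : M →ₗ[A] N) (hD : IsDiffOpLE A B M N n D) : PM n A B M →+ N :=
  TensorProduct.liftAddHom
    ({ toFun := fun x => (linQuot n D hD x).toAddMonoidHom
       map_zero' := by
        ext m
        change (linQuot n D hD (0 : P n A B)) m = 0
        rw [map_zero, LinearMap.zero_apply]
       map_add' := fun x y => by
        ext m
        change (linQuot n D hD ((show P n A B from x) + (show P n A B from y))) m = _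
        rw [map_add, LinearMap.add_apply]
        rfl } : Pr n A B →+ M →+ N)
    (by
      intro r x m
      obtain ⟨y, rfl⟩ := prMk_surjective n x
      rw [smul_prMk]
      change linQuot n D hD (Ideal.Quotient.mk _ ((1 : B) ⊗ₜ[A] r * y)) m =
        linQuot n D hD (Ideal.Quotient.mk _ y) (r • m)
      rw [linQuot_mk, linQuot_mk, linTwo_mul_right])

theorem pmLift_tmul (D : M →ₗ[A] N) (hD : IsDiffOpLE A B M N n D) (x : B ⊗[A] B) (m : M) :
    pmLift n D hD (prMk n x ⊗ₜ[B] m) = linTwo D x m := rfl

end PMsec

section PMchar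

variable (n : ℕ) {A B : Type u} [CommRing A] [CommRing B] [Algebra A B]
variable {M N : Type u} [AddCommGroup M] [Module A M] [Module B M] [IsScalarTower A B M]
  [AddCommGroup N] [Module A N] [Module B N] [IsScalarTower A B N]

theorem algebraMap_smul_prMk_tmul (b : B) (y : B ⊗[A] B) (m : M) :
    algebraMap B (P n A B) b • (prMk n y ⊗ₜ[B] m) = prMk n (b ⊗ₜ[A] (1 : B) * y) ⊗ₜ[B] m := by
  rw [TensorProduct.smul_tmul', algebraMap_smul_prMk]

theorem prMk_tmul_tmul (b c : B) (m : M) :
    prMk n (b ⊗ₜ[A] c) ⊗ₜ[B] m = algebraMap B (P n A B) b • dM n A B M (c • m) := by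
  have h1 : dM n A B M (c • m) = ((1 : Pr n A B) ⊗ₜ[B] (c • m)) := rfl
  have h2 : ((1 : Pr n A B) ⊗ₜ[B] (c • m)) = ((c • (1 : Pr n A B)) ⊗ₜ[B] m) :=
    (TensorProduct.smul_tmul c (1 : Pr n A B) m).symm
  rw [h1, h2, ← prMk_one, smul_prMk, algebraMap_smul_prMk_tmul, mul_one,
    Algebra.TensorProduct.tmul_mul_tmul, mul_one, one_mul]

/-- Any additive map on `P^n(M)` which is linear for the first-factor structure and induces `D`
is given by `linTwo D` on pure tensors. -/
theorem eq_linTwo_of_props (D : M →ₗ[A] N) (u : PM n A B M →+ N)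
    (h1 : ∀ (b : B) (t : PM n A B M), u (algebraMap B (P n A B) b • t) = b • u t)
    (h2 : ∀ m : M, u (dM n A B M m) = D m) (x : B ⊗[A] B) (m : M) :
    u (prMk n x ⊗ₜ[B] m) = linTwo D x m := by
  induction x using TensorProduct.induction_on with
  | zero => rw [prMk_zero, TensorProduct.zero_tmul, map_zero, map_zero, LinearMap.zero_apply]
  | tmul b c => rw [prMk_tmul_tmul, h1, h2, linTwo_tmul]
  | add x y hx hy =>
    rw [prMk_add, TensorProduct.add_tmul, map_add, map_add, LinearMap.add_apply, hx, hy]

theorem pmLift_smul (D : M →ₗ[A] N) (hD : IsDiffOpLE A B M N n D) (b : B) (t : PM n A B M) :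
    pmLift n D hD (algebraMap B (P n A B) b • t) = b • pmLift n D hD t := by
  induction t using TensorProduct.induction_on with
  | zero => rw [smul_zero, map_zero, smul_zero]
  | tmul x m =>
    obtain ⟨y, rfl⟩ := prMk_surjective n x
    rw [algebraMap_smul_prMk_tmul, pmLift_tmul, pmLift_tmul, linTwo_mul_left]
  | add x y hx hy => rw [smul_add, map_add, map_add, hx, hy, smul_add]

theorem pmLift_dM (D : M →ₗ[A] N) (hD : IsDiffOpLE A B M N n D) (m : M) :
    pmLift n D hD (dM n A B M m) = D m := by
  have h : dM n A B M m = (prMk n ((1 : B) ⊗ₜ[A] (1 : B)) ⊗ₜ[B] m) := rfl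
  rw [h, pmLift_tmul, linTwo_tmul, one_smul, one_smul]

/-- EGA IV 16.8.4 (affine form): `D` is a differential operator of order at most `n` iff it factors
uniquely through `d^n_M : M → P^n(M)`. -/
theorem isDiffOpLE_iff_existsUnique_PM (D : M →ₗ[A] N) :
    IsDiffOpLE A B M N n D ↔
      ∃! u : PM n A B M →+ N,
        (∀ (b : B) (t : PM n A B M), u (algebraMap B (P n A B) b • t) = b • u t) ∧
          ∀ m : M, u (dM n A B M m) = D m := by
  constructor
  · intro hD
    refine ⟨pmLift n D hD, ⟨pmLift_smul n D hD, pmLift_dM n D hD⟩, ?_⟩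
    rintro u ⟨h1, h2⟩
    ext t
    induction t using TensorProduct.induction_on with
    | zero => rw [map_zero, map_zero]
    | tmul x m =>
      obtain ⟨y, rfl⟩ := prMk_surjective n x
      rw [eq_linTwo_of_props n D u h1 h2, pmLift_tmul]
    | add x y hx hy => rw [map_add, map_add, hx, hy]
  · rintro ⟨u, ⟨h1, h2⟩, -⟩
    rw [isDiffOpLE_iff_evalOp]
    intro m
    rw [isDiffOpLE_iff_linearize]
    intro x hx
    rw [← linTwo_eq_linearize, ← eq_linTwo_of_props n D u h1 h2, prMk_eq_zero n x hx,
      TensorProduct.zero_tmul, map_zero]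

end PMchar

end Groth.Agent.Lib.Helper4
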