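import Mathlib
import Groth.Prelude.Def_OmegaPn
import Groth.Prelude.Def_Omega4
import Groth.Prelude.Def_PP16
import Groth.Prelude.Def_DiffOp
import Groth.Agent.Lib.Helper18PP29
import Groth.Agent.Lib.Helper4PP

set_option autoImplicit false
set_option linter.style.haveILetI false
set_option linter.unusedSectionVars false
universe u
open CategoryTheory AlgebraicGeometry Limits TopologicalSpace Opposite TensorProduct

namespace Groth.Agent.Helper18PP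

open Groth.Agent.Helper18OmLS Groth.Agent.Helper13PullbackUnit Groth.Agent.Helper18UT

section sigma
variable {X S : Scheme.{u}} (f : X ⟶ S) (k : ℕ) {U : X.Opens} {V : S.Opens}
  (hU : IsAffineOpen U) (hV : IsAffineOpen V) (hUV : U ≤ f ⁻¹ᵁ V)
  [Algebra Γ(S, V) Γ(X, U)] (halg : algebraMap Γ(S, V) Γ(X, U) = (f.appLE V U hUV).hom)

include hU hV hUV halg in
theorem exists_tau : ∃ τ : Γ(pullback f f, EU f U) →+* PP16.P k Γ(S, V) Γ(X, U),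
    (∀ b, τ (pp₁ f U b) = algebraMap Γ(X, U) (PP16.P k Γ(S, V) Γ(X, U)) b) ∧
    (∀ b, τ (pp₂ f U b) = PP16.dn k Γ(S, V) Γ(X, U) b) := by
  have hPO := isPushout_chart f hU hV hUV
  let j₁ : Γ(X, U) →+* PP16.P k Γ(S, V) Γ(X, U) := algebraMap Γ(X, U) (PP16.P k Γ(S, V) Γ(X, U))
  let j₂ : Γ(X, U) →+* PP16.P k Γ(S, V) Γ(X, U) := (PP16.dn k Γ(S, V) Γ(X, U)).toRingHom
  have w : f.appLE V U hUV ≫ CommRingCat.ofHom j₁ = f.appLE V U hUV ≫ CommRingCat.ofHom j₂ := by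
    ext a
    change j₁ ((f.appLE V U hUV).hom a) = j₂ ((f.appLE V U hUV).hom a)
    rw [← halg]
    change algebraMap Γ(X, U) (PP16.P k Γ(S, V) Γ(X, U)) (algebraMap Γ(S, V) Γ(X, U) a) =
      PP16.dn k Γ(S, V) Γ(X, U) (algebraMap Γ(S, V) Γ(X, U) a)
    rw [AlgHom.commutes, ← IsScalarTower.algebraMap_apply]
  refine ⟨(hPO.desc (CommRingCat.ofHom j₁) (CommRingCat.ofHom j₂) w).hom, ?_, ?_⟩
  · intro b
    have := hPO.inl_desc (CommRingCat.ofHom j₁) (CommRingCat.ofHom j₂) w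
    exact congr($this b)
  · intro b
    have := hPO.inr_desc (CommRingCat.ofHom j₁) (CommRingCat.ofHom j₂) w
    exact congr($this b)

include hU hV hUV halg in
theorem exists_sigma' : ∃ σ : Γ(PrinPart.nbhd f k, PrinPart.pr1 f k ⁻¹ᵁ U) →+*
      PP16.P k Γ(S, V) Γ(X, U),
    (∀ b, σ ((PrinPart.pr1 f k).app U b) = algebraMap Γ(X, U) (PP16.P k Γ(S, V) Γ(X, U)) b) ∧
    (∀ b, σ (pr2U f k U b) = PP16.dn k Γ(S, V) Γ(X, U) b) := by
  obtain ⟨τ, hτ1, hτ2⟩ := exists_tau f k hU hV hUV halg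
  have hspan : RingHom.ker (mm f U) ≤ Ideal.span (Set.range fun s => pp₂ f U s - pp₁ f U s) :=
    ker_le_span_of_PO (f.appLE V U hUV).hom (pp₁ f U) (pp₂ f U) (mm f U) (mm_comp_pp₁ f U)
      (mm_comp_pp₂ f U) (fun T _ ψ₁ ψ₂ hψ => PO_ring f hUV hU hV T ψ₁ ψ₂ hψ)
  have hmap : Ideal.map τ (RingHom.ker (mm f U)) ≤ PP16.augIdeal k Γ(S, V) Γ(X, U) := by
    refine (Ideal.map_mono hspan).trans ?_
    rw [Ideal.map_span, Ideal.span_le]
    rintro _ ⟨_, ⟨s, rfl⟩, rfl⟩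
    rw [map_sub, hτ1, hτ2]
    have h1 : (1 : Γ(X, U)) ⊗ₜ[Γ(S, V)] s - s ⊗ₜ[Γ(S, V)] (1 : Γ(X, U)) ∈
        KaehlerDifferential.ideal Γ(S, V) Γ(X, U) :=
      KaehlerDifferential.one_smul_sub_smul_one_mem_ideal Γ(S, V) s
    exact Ideal.mem_map_of_mem _ h1
  have hkill : (RingHom.ker (mm f U)) ^ (k + 1) ≤ RingHom.ker τ := by
    intro x hx
    rw [RingHom.mem_ker]
    have h1 : τ x ∈ (PP16.augIdeal k Γ(S, V) Γ(X, U)) ^ (k + 1) := by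
      have h2 := Ideal.mem_map_of_mem τ hx
      rw [Ideal.map_pow] at h2
      exact Ideal.pow_right_mono hmap (k + 1) h2
    have h3 : (PP16.augIdeal k Γ(S, V) Γ(X, U)) ^ (k + 1) = ⊥ := by
      unfold PP16.augIdeal
      rw [← Ideal.map_pow, Ideal.map_quotient_self]
    rw [h3] at h1
    exact h1
  have hρs : Function.Surjective (rhoE f k (U := U)).hom := nbhdι_appLE_surjective f k hU hV hUV
  have hker : RingHom.ker (rhoE f k (U := U)).hom ≤ RingHom.ker τ :=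
    (ker_rhoE_le f k hU hV hUV).trans hkill
  let σ := RingHom.liftOfSurjective (rhoE f k (U := U)).hom hρs ⟨τ, hker⟩
  have hσ : ∀ x, σ ((rhoE f k (U := U)).hom x) = τ x := fun x =>
    RingHom.liftOfRightInverse_comp_apply _ _ _ ⟨τ, hker⟩ x
  refine ⟨σ, ?_, ?_⟩
  · intro b
    rw [← rhoE_pp₁, hσ, hτ1]
  · intro b
    rw [← rhoE_pp₂, hσ, hτ2]

end sigma

section lmap
variable {X S : Scheme.{u}} (f : X ⟶ S) (k : ℕ) {U : X.Opens} {V : S.Opens}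
  (hU : IsAffineOpen U) (hV : IsAffineOpen V) (hUV : U ≤ f ⁻¹ᵁ V)
  [Algebra Γ(S, V) Γ(X, U)] (halg : algebraMap Γ(S, V) Γ(X, U) = (f.appLE V U hUV).hom)
  (F : X.Modules) [F.IsQuasicoherent]
  {N : Type u} [AddCommGroup N] [Module Γ(X, U) N]
  (u' : PP16.PM k Γ(S, V) Γ(X, U) Γ(F, U) →+ N)
  (hu' : ∀ (b : Γ(X, U)) (t : PP16.PM k Γ(S, V) Γ(X, U) Γ(F, U)),
    u' (algebraMap Γ(X, U) (PP16.P k Γ(S, V) Γ(X, U)) b • t) = b • u' t)

include hU hV hUV halg hu' in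
theorem exists_l : ∃ l : Γ(PrinPart.PMod f k F, U) →+ N,
    (∀ (a : Γ(X, U)) (x : Γ(PrinPart.PMod f k F, U)), l (a • x) = a • l x) ∧
    ∀ m : Γ(F, U), l (PrinPart.dP f k F U m) = u' (PP16.dM k Γ(S, V) Γ(X, U) Γ(F, U) m) := by
  obtain ⟨σ, hσ1, hσ2⟩ := exists_sigma' f k hU hV hUV halg
  have hT : IsAffineOpen (PrinPart.pr1 f k ⁻¹ᵁ U) := hU.preimage (PrinPart.pr1 f k)
  have hle : PrinPart.pr1 f k ⁻¹ᵁ U ≤ PrinPart.pr2 f k ⁻¹ᵁ U := (PrinPart.preimage_pr1 f k U).le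
  letI algN : Algebra Γ(X, U) Γ(PrinPart.nbhd f k, PrinPart.pr1 f k ⁻¹ᵁ U) :=
    (pr2U f k U).hom.toAlgebra
  obtain ⟨e, he⟩ := exists_pullback_equiv (PrinPart.pr2 f k) F hle hU hT rfl
  let σB : Γ(PrinPart.nbhd f k, PrinPart.pr1 f k ⁻¹ᵁ U) →ₗ[Γ(X, U)] PP16.Pr k Γ(S, V) Γ(X, U) :=
    { toFun := fun c => (σ c : PP16.P k Γ(S, V) Γ(X, U))
      map_add' := fun a b => σ.map_add a b
      map_smul' := fun b c => by
        change σ ((pr2U f k U).hom b * c) = PP16.dn k Γ(S, V) Γ(X, U) b * σ c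
        rw [map_mul, hσ2] }
  let Sg : Γ(PrinPart.nbhd f k, PrinPart.pr1 f k ⁻¹ᵁ U) ⊗[Γ(X, U)] Γ(F, U) →ₗ[Γ(X, U)]
      PP16.PM k Γ(S, V) Γ(X, U) Γ(F, U) := LinearMap.rTensor Γ(F, U) σB
  have hSg : ∀ (c : Γ(PrinPart.nbhd f k, PrinPart.pr1 f k ⁻¹ᵁ U))
      (t : Γ(PrinPart.nbhd f k, PrinPart.pr1 f k ⁻¹ᵁ U) ⊗[Γ(X, U)] Γ(F, U)),
      Sg (c • t) = (σ c : PP16.P k Γ(S, V) Γ(X, U)) • Sg t := by
    intro c t
    induction t using TensorProduct.induction_on with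
    | zero => rw [smul_zero, map_zero, smul_zero]
    | tmul c' m =>
      rw [TensorProduct.smul_tmul']
      change (σB (c * c')) ⊗ₜ[Γ(X, U)] m = (σ c : PP16.P k Γ(S, V) Γ(X, U)) • ((σB c') ⊗ₜ[Γ(X, U)] m)
      rw [TensorProduct.smul_tmul']
      congr 1
      exact σ.map_mul c c'
    | add x y hx hy => rw [smul_add, map_add, map_add, smul_add, hx, hy]
  let l : Γ(PrinPart.PMod f k F, U) →+ N :=
    u'.comp (Sg.toAddMonoidHom.comp e.symm.toLinearMap.toAddMonoidHom)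
  refine ⟨l, ?_, ?_⟩
  · intro a x
    change u' (Sg (e.symm (((PrinPart.pr1 f k).app U a) •
      (show Γ((Scheme.Modules.pullback (PrinPart.pr2 f k)).obj F, PrinPart.pr1 f k ⁻¹ᵁ U) from x)))) =
      a • u' (Sg (e.symm x))
    rw [map_smul, hSg, hσ1, hu']
  · intro m
    have h1 : PrinPart.dP f k F U m = e ((1 : Γ(PrinPart.nbhd f k, PrinPart.pr1 f k ⁻¹ᵁ U)) ⊗ₜ m) := by
      rw [he, one_smul]
      rfl
    change u' (Sg (e.symm (PrinPart.dP f k F U m))) = _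
    rw [h1, LinearEquiv.symm_apply_apply]
    change u' ((σB 1) ⊗ₜ[Γ(X, U)] m) = _
    have h2 : σB 1 = (1 : PP16.Pr k Γ(S, V) Γ(X, U)) := σ.map_one
    rw [h2]
    rfl

end lmap

section mainD

theorem main_S9715 {X S : Scheme.{u}} [IsAffine X] [IsAffine S] (f : X ⟶ S)
    (F G : X.Modules) (hF : Coh.IsQCoh F) (k : ℕ) :
    letI : Algebra Γ(S, ⊤) Γ(X, ⊤) := f.appTop.hom.toAlgebra
    letI : Module Γ(S, ⊤) Γ(F, ⊤) := Module.compHom Γ(F, ⊤) f.appTop.hom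
    letI : Module Γ(S, ⊤) Γ(G, ⊤) := Module.compHom Γ(G, ⊤) f.appTop.hom
    haveI : IsScalarTower Γ(S, ⊤) Γ(X, ⊤) Γ(F, ⊤) := IsScalarTower.of_algebraMap_smul fun _ _ => rfl
    haveI : IsScalarTower Γ(S, ⊤) Γ(X, ⊤) Γ(G, ⊤) := IsScalarTower.of_algebraMap_smul fun _ _ => rfl
    ∀ D' : Γ(F, ⊤) →ₗ[Γ(S, ⊤)] Γ(G, ⊤), Diff16.IsDiffOpLE Γ(S, ⊤) Γ(X, ⊤) Γ(F, ⊤) Γ(G, ⊤) k D' →
      ∃ D : F.presheaf ⟶ G.presheaf, PrinPart.IsDiffOpLE f F G k D ∧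
        ∀ m : Γ(F, ⊤), (D.app (op ⊤)).hom m = D' m := by
  letI a1 : Algebra Γ(S, ⊤) Γ(X, ⊤) := f.appTop.hom.toAlgebra
  letI m1 : Module Γ(S, ⊤) Γ(F, ⊤) := Module.compHom Γ(F, ⊤) f.appTop.hom
  letI m2 : Module Γ(S, ⊤) Γ(G, ⊤) := Module.compHom Γ(G, ⊤) f.appTop.hom
  haveI t1 : IsScalarTower Γ(S, ⊤) Γ(X, ⊤) Γ(F, ⊤) := IsScalarTower.of_algebraMap_smul fun _ _ => rfl
  haveI t2 : IsScalarTower Γ(S, ⊤) Γ(X, ⊤) Γ(G, ⊤) := IsScalarTower.of_algebraMap_smul fun _ _ => rfl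
  intro D' hD'
  haveI : F.IsQuasicoherent := hF
  have hU := isAffineOpen_top X
  have hV := isAffineOpen_top S
  have hUV : (⊤ : X.Opens) ≤ f ⁻¹ᵁ ⊤ := le_top
  have halg : algebraMap Γ(S, ⊤) Γ(X, ⊤) = (f.appLE ⊤ ⊤ hUV).hom := by
    have h1 : f.appLE ⊤ ⊤ hUV = f.appTop := by
      rw [Scheme.Hom.appLE]
      have h2 : X.presheaf.map (homOfLE hUV).op = 𝟙 _ := X.presheaf.map_id _
      rw [h2]
      exact Category.comp_id _
    rw [h1]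
    rfl
  obtain ⟨l, hl1, hl2⟩ := exists_l f k hU hV hUV halg F
    (Groth.Agent.Lib.Helper4.pmLift k D' hD') (Groth.Agent.Lib.Helper4.pmLift_smul k D' hD')
  haveI : (PrinPart.PMod f k F).IsQuasicoherent := by
    haveI hq : ((Scheme.Modules.pullback (PrinPart.pr2 f k)).obj F).IsQuasicoherent :=
      Groth.Agent.Lib.Helper2.PullbackSec.isQuasicoherent_pullback _ _
    exact Groth.Agent.Lib.Helper23.QCohLocal.isQuasicoherent_pushforward (PrinPart.pr1 f k) _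
  have hG : ∀ W : X.Opens, Function.Bijective
      (G.presheaf.map (homOfLE (hU.fromSpec.image_preimage_le W)).op) := by
    intro W
    refine map_bijective_of_eq G ?_ _
    rw [Scheme.Hom.image_preimage_eq_opensRange_inf, hU.opensRange_fromSpec, top_inf_eq]
  obtain ⟨Um, hUm⟩ := exists_hom_of_app hU (PrinPart.PMod f k F) G hG l hl1
  refine ⟨PrinPart.dPHom f k F ≫ Um.mapPresheaf, ⟨Um, fun W t => rfl⟩, fun m => ?_⟩
  change Um.app ⊤ (PrinPart.dP f k F ⊤ m) = D' m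
  rw [hUm, hl2, Groth.Agent.Lib.Helper4.pmLift_dM]

end mainD

end Groth.Agent.Helper18PP
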