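import Mathlib
import Groth.Prelude.Def_OmegaPn
import Groth.Agent.Lib.Helper18PP5

set_option autoImplicit false
set_option linter.style.haveILetI false
universe u
open CategoryTheory Limits AlgebraicGeometry TopologicalSpace Opposite

namespace Groth.Agent.Helper18PP

section symm
variable {X S : Scheme.{u}} (f : X ⟶ S)

/-- the swap of the two factors of `X ×_S X`. -/
noncomputable abbrev sw : pullback f f ⟶ pullback f f := (pullbackSymmetry f f).hom

@[reassoc (attr := simp)]
theorem sw_sw : sw f ≫ sw f = 𝟙 _ := by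
  apply pullback.hom_ext <;> simp

@[reassoc (attr := simp)]
theorem diag_sw : pullback.diagonal f ≫ sw f = pullback.diagonal f := by
  apply pullback.hom_ext <;> simp

theorem sw_apply_sw (p : ↥(pullback f f)) : sw f (sw f p) = p := by
  rw [← Scheme.Hom.comp_apply, sw_sw]; rfl

theorem sw_apply_diag (x : X) : sw f (pullback.diagonal f x) = pullback.diagonal f x := by
  rw [← Scheme.Hom.comp_apply, diag_sw]

theorem sw_preimage_range :
    (sw f) ⁻¹' (Set.range (pullback.diagonal f)) = Set.range (pullback.diagonal f) := by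
  ext p
  constructor
  · rintro ⟨x, hx⟩
    refine ⟨x, ?_⟩
    have := congrArg (sw f) hx
    rw [sw_apply_diag, sw_apply_sw] at this
    exact this
  · rintro ⟨x, rfl⟩
    exact ⟨x, (sw_apply_diag f x).symm⟩

theorem sw_mem_coborderRange (p : ↥(pullback f f))
    (hp : p ∈ (pullback.diagonal f).coborderRange) :
    sw f p ∈ (pullback.diagonal f).coborderRange := by
  have h := coborder_preimage (f := sw f) (sw f).homeomorph.isOpenMap (sw f).continuous
    (Set.range (pullback.diagonal f))
  rw [sw_preimage_range] at h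
  have hp' : p ∈ coborder (Set.range (pullback.diagonal f)) := hp
  rw [h] at hp'
  exact hp'

/-- the swap restricted to the coborder open of the diagonal. -/
noncomputable def swW : ((pullback.diagonal f).coborderRange : Scheme.{u}) ⟶
    ((pullback.diagonal f).coborderRange : Scheme.{u}) :=
  IsOpenImmersion.lift (pullback.diagonal f).coborderRange.ι
    ((pullback.diagonal f).coborderRange.ι ≫ sw f) (by
      rintro _ ⟨p, rfl⟩
      rw [Scheme.Opens.range_ι]
      exact sw_mem_coborderRange f _ p.2)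

@[reassoc (attr := simp)]
theorem swW_ι : swW f ≫ (pullback.diagonal f).coborderRange.ι =
    (pullback.diagonal f).coborderRange.ι ≫ sw f :=
  IsOpenImmersion.lift_fac _ _ _

@[reassoc (attr := simp)]
theorem diagCl_swW : PrinPart.diagCl f ≫ swW f = PrinPart.diagCl f := by
  rw [← cancel_mono (pullback.diagonal f).coborderRange.ι, Category.assoc, swW_ι,
    Scheme.Hom.liftCoborder_ι_assoc, diag_sw, Scheme.Hom.liftCoborder_ι]

theorem pow_le_map_swW (n : ℕ) :
    (PrinPart.diagCl f).ker ^ (n + 1) ≤ ((PrinPart.diagCl f).ker ^ (n + 1)).map (swW f) := by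
  rw [Scheme.IdealSheafData.le_map_iff_comap_le, comap_pow]
  refine pow_le_pow_left' ?_ _
  rw [← Scheme.IdealSheafData.le_map_iff_comap_le, Scheme.IdealSheafData.map_ker, diagCl_swW]

/-- the symmetry of the infinitesimal neighbourhood of the diagonal. -/
noncomputable def sigma (n : ℕ) : PrinPart.nbhd f n ⟶ PrinPart.nbhd f n :=
  Scheme.IdealSheafData.subschemeMap _ _ (swW f) (pow_le_map_swW f n)

@[reassoc]
theorem sigma_infNbhdι (n : ℕ) : sigma f n ≫ PrinPart.infNbhdι (PrinPart.diagCl f) n =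
    PrinPart.infNbhdι (PrinPart.diagCl f) n ≫ swW f :=
  Scheme.IdealSheafData.subschemeMap_subschemeι _ _ _ _

@[reassoc]
theorem sigma_nbhdι (n : ℕ) : sigma f n ≫ PrinPart.nbhdι f n = PrinPart.nbhdι f n ≫ sw f := by
  unfold PrinPart.nbhdι
  rw [sigma_infNbhdι_assoc, swW_ι, Category.assoc]

instance mono_nbhdι (n : ℕ) : Mono (PrinPart.nbhdι f n) := by
  unfold PrinPart.nbhdι PrinPart.infNbhdι
  infer_instance

theorem main_S5969 (n : ℕ) :
    ∃ σ : PrinPart.nbhd f n ⟶ PrinPart.nbhd f n,
      σ ≫ PrinPart.nbhdι f n = PrinPart.nbhdι f n ≫ (pullbackSymmetry f f).hom ∧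
      σ ≫ σ = 𝟙 (PrinPart.nbhd f n) ∧
      σ ≫ PrinPart.pr1 f n = PrinPart.pr2 f n ∧ σ ≫ PrinPart.pr2 f n = PrinPart.pr1 f n ∧
      PrinPart.toNbhd f n ≫ σ = PrinPart.toNbhd f n := by
  refine ⟨sigma f n, sigma_nbhdι f n, ?_, ?_, ?_, ?_⟩
  · rw [← cancel_mono (PrinPart.nbhdι f n), Category.assoc, sigma_nbhdι, sigma_nbhdι_assoc,
      sw_sw, Category.comp_id, Category.id_comp]
  · unfold PrinPart.pr1 PrinPart.pr2
    rw [sigma_nbhdι_assoc, pullbackSymmetry_hom_comp_fst]
  · unfold PrinPart.pr1 PrinPart.pr2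
    rw [sigma_nbhdι_assoc, pullbackSymmetry_hom_comp_snd]
  · rw [← cancel_mono (PrinPart.nbhdι f n), Category.assoc, sigma_nbhdι,
      PrinPart.toNbhd_ι_assoc, diag_sw, PrinPart.toNbhd_ι]

end symm
end Groth.Agent.Helper18PP
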