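import Mathlib
import Groth.Agent.Lib.Helper18OmLS22

set_option autoImplicit false
set_option linter.style.haveILetI false
set_option linter.unusedSectionVars false
universe u

namespace Groth.Agent.Helper18PPd

open TensorProduct Groth.Agent.Helper18OmLS

theorem sup_pow_sharp {R : Type*} [CommRing R] (I J : Ideal R) (a b : ℕ) :
    (I ⊔ J) ^ (a + b + 1) ≤ I ^ (a + 1) ⊔ J ^ (b + 1) := by
  rw [← Ideal.add_eq_sup, ← Ideal.add_eq_sup, add_pow, Ideal.sum_eq_sup]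
  apply Finset.sup_le
  intro i hi
  by_cases hn : a + 1 ≤ i
  · exact (Ideal.mul_le_left.trans (Ideal.mul_le_left.trans
      ((Ideal.pow_le_pow_right hn).trans le_sup_left)))
  · refine (Ideal.mul_le_left.trans (Ideal.mul_le_right.trans
      ((Ideal.pow_le_pow_right ?_).trans le_sup_right)))
    omega

section
variable {C B R T' T : Type u} [CommRing C] [CommRing B] [CommRing R] [CommRing T'] [CommRing T]
  (c : C →+* B) (p₁ p₂ : B →+* R) (m : R →+* B)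
  (hm₁ : m.comp p₁ = RingHom.id B) (hm₂ : m.comp p₂ = RingHom.id B)
  (PO : ∀ (T : Type u) [CommRing T] (ψ₁ ψ₂ : B →+* T), ψ₁.comp c = ψ₂.comp c →
      ∃! ρ : R →+* T, ρ.comp p₁ = ψ₁ ∧ ρ.comp p₂ = ψ₂)
  (hc : p₁.comp c = p₂.comp c)
  (q' : R →+* T') (q : R →+* T) (n' n : ℕ)
  (hq' : (RingHom.ker m) ^ (n' + 1) ≤ RingHom.ker q')
  (hq : (RingHom.ker m) ^ (n + 1) ≤ RingHom.ker q)
  [Algebra B T'] [Algebra B T]
  (halg' : algebraMap B T' = q'.comp p₂) (halg : algebraMap B T = q.comp p₁)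

include hm₁ hm₂ PO hc hq' hq halg' halg in
theorem exists_Psi : ∃ Ψ : R →+* T' ⊗[B] T, (∀ b, Ψ (p₁ b) = q' (p₁ b) ⊗ₜ[B] (1 : T)) ∧
    (∀ b, Ψ (p₂ b) = (1 : T') ⊗ₜ[B] q (p₂ b)) ∧
    ∀ r ∈ (RingHom.ker m) ^ (n + n' + 1), Ψ r = 0 := by
  let iL : T' →+* T' ⊗[B] T := Algebra.TensorProduct.includeLeftRingHom
  let iR : T →+* T' ⊗[B] T := (Algebra.TensorProduct.includeRight : T →ₐ[B] T' ⊗[B] T).toRingHom
  have hiL : ∀ x, iL x = x ⊗ₜ[B] (1 : T) := fun x => rfl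
  have hiR : ∀ y, iR y = (1 : T') ⊗ₜ[B] y := fun y => rfl
  have hswap : ∀ s : B, (1 : T') ⊗ₜ[B] q (p₁ s) = q' (p₂ s) ⊗ₜ[B] (1 : T) := by
    intro s
    have h1 : q (p₁ s) = s • (1 : T) := by
      rw [← Algebra.algebraMap_eq_smul_one, halg]; rfl
    have h2 : q' (p₂ s) = s • (1 : T') := by
      rw [← Algebra.algebraMap_eq_smul_one, halg']; rfl
    rw [h1, h2, TensorProduct.smul_tmul]
  let ψ₁ : B →+* T' ⊗[B] T := iL.comp (q'.comp p₁)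
  let ψ₂ : B →+* T' ⊗[B] T := iR.comp (q.comp p₂)
  have hψ : ψ₁.comp c = ψ₂.comp c := by
    ext a
    change iL (q' (p₁ (c a))) = iR (q (p₂ (c a)))
    have e1 : p₁ (c a) = p₂ (c a) := congr($hc a)
    rw [hiL, hiR, ← e1, hswap, e1]
  obtain ⟨Ψ, ⟨h1, h2⟩, -⟩ := PO _ ψ₁ ψ₂ hψ
  have hΨ1 : ∀ b, Ψ (p₁ b) = q' (p₁ b) ⊗ₜ[B] (1 : T) := fun b => congr($h1 b)
  have hΨ2 : ∀ b, Ψ (p₂ b) = (1 : T') ⊗ₜ[B] q (p₂ b) := fun b => congr($h2 b)
  refine ⟨Ψ, hΨ1, hΨ2, ?_⟩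
  set I := RingHom.ker m with hI
  let J' : Ideal (T' ⊗[B] T) := (I.map q').map iL
  let J : Ideal (T' ⊗[B] T) := (I.map q).map iR
  have hspan : I ≤ Ideal.span (Set.range fun s => p₂ s - p₁ s) :=
    ker_le_span_of_PO c p₁ p₂ m hm₁ hm₂ PO
  have hdiff : ∀ s, p₂ s - p₁ s ∈ I := by
    intro s
    rw [hI, RingHom.mem_ker, map_sub]
    have a1 : m (p₂ s) = s := congr($hm₂ s)
    have a2 : m (p₁ s) = s := congr($hm₁ s)
    rw [a1, a2, sub_self]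
  have hIK : I.map Ψ ≤ J' ⊔ J := by
    rw [Ideal.map_le_iff_le_comap]
    refine hspan.trans ?_
    rw [Ideal.span_le]
    rintro _ ⟨s, rfl⟩
    change Ψ (p₂ s - p₁ s) ∈ J' ⊔ J
    have e : Ψ (p₂ s - p₁ s) = iL (q' (p₂ s - p₁ s)) + iR (q (p₂ s - p₁ s)) := by
      rw [map_sub, hΨ1, hΨ2, hiL, hiR, map_sub, map_sub, TensorProduct.sub_tmul,
        TensorProduct.tmul_sub, hswap]
      abel
    rw [e]
    refine Ideal.add_mem _ (Ideal.mem_sup_left ?_) (Ideal.mem_sup_right ?_)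
    · exact Ideal.mem_map_of_mem _ (Ideal.mem_map_of_mem _ (hdiff s))
    · exact Ideal.mem_map_of_mem _ (Ideal.mem_map_of_mem _ (hdiff s))
  have hJ' : J' ^ (n' + 1) = ⊥ := by
    change ((I.map q').map iL) ^ (n' + 1) = ⊥
    rw [← Ideal.map_pow, ← Ideal.map_pow, (Ideal.map_eq_bot_iff_le_ker q').2 hq', Ideal.map_bot]
  have hJ : J ^ (n + 1) = ⊥ := by
    change ((I.map q).map iR) ^ (n + 1) = ⊥
    rw [← Ideal.map_pow, ← Ideal.map_pow, (Ideal.map_eq_bot_iff_le_ker q).2 hq, Ideal.map_bot]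
  intro r hr
  have h3 : Ψ r ∈ (I ^ (n + n' + 1)).map Ψ := Ideal.mem_map_of_mem _ hr
  rw [Ideal.map_pow] at h3
  have h4 : (I.map Ψ) ^ (n + n' + 1) ≤ ⊥ := by
    have e : n + n' + 1 = n' + n + 1 := by omega
    rw [e]
    refine (Ideal.pow_right_mono hIK _).trans ((sup_pow_sharp J' J n' n).trans ?_)
    rw [hJ', hJ, sup_bot_eq]
  exact (Ideal.mem_bot).1 (h4 h3)

end

end Groth.Agent.Helper18PPd
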