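import Mathlib
import Groth.Prelude.Def_OmegaPn
import Groth.Agent.Lib.Helper18PP27
import Groth.Agent.Lib.Helper18PP17
import Groth.Agent.Lib.Helper18PPd1

set_option autoImplicit false
set_option linter.style.haveILetI false
set_option linter.unusedSectionVars false
universe u
open CategoryTheory AlgebraicGeometry Limits TopologicalSpace Opposite TensorProduct

namespace Groth.Agent.Helper18PPd

open Groth.Agent.Helper18PP Groth.Agent.Helper18OmLS Groth.Agent.Helper13PullbackUnit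

section chart
variable {X S : Scheme.{u}} (f : X ⟶ S) (n n' : ℕ) {U : X.Opens} {V : S.Opens}
  (hU : IsAffineOpen U) (hV : IsAffineOpen V) (hUV : U ≤ f ⁻¹ᵁ V)

include hU hV hUV in
theorem exists_local_delta :
    ∃ L : Γ(PrinPart.P f (n + n'), U) →+ Γ(PrinPart.PMod f n' (PrinPart.P f n), U),
      (∀ (b : Γ(X, U)) (x : Γ(PrinPart.P f (n + n'), U)), L (b • x) = b • L x) ∧
      ∀ t : Γ(X, U), L (PrinPart.dn f (n + n') U t) =
        PrinPart.dP f n' (PrinPart.P f n) U (PrinPart.dn f n U t) := by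
  let q' : Γ(pullback f f, EU f U) →+* Γ(PrinPart.nbhd f n', PrinPart.pr1 f n' ⁻¹ᵁ U) :=
    (rhoE f n' (U := U)).hom
  let q : Γ(pullback f f, EU f U) →+* Γ(PrinPart.nbhd f n, PrinPart.pr1 f n ⁻¹ᵁ U) :=
    (rhoE f n (U := U)).hom
  letI alg' : Algebra Γ(X, U) Γ(PrinPart.nbhd f n', PrinPart.pr1 f n' ⁻¹ᵁ U) :=
    (pr2U f n' U).hom.toAlgebra
  letI alg : Algebra Γ(X, U) Γ(PrinPart.nbhd f n, PrinPart.pr1 f n ⁻¹ᵁ U) :=
    ((PrinPart.pr1 f n).app U).hom.toAlgebra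
  have halg' : algebraMap Γ(X, U) Γ(PrinPart.nbhd f n', PrinPart.pr1 f n' ⁻¹ᵁ U) =
      q'.comp (pp₂ f U) := by
    ext b
    exact (rhoE_pp₂ f n' U b).symm
  have halg : algebraMap Γ(X, U) Γ(PrinPart.nbhd f n, PrinPart.pr1 f n ⁻¹ᵁ U) =
      q.comp (pp₁ f U) := by
    ext b
    exact (rhoE_pp₁ f n U b).symm
  obtain ⟨Ψ, hΨ1, hΨ2, hΨ0⟩ := exists_Psi (f.appLE V U hUV).hom (pp₁ f U) (pp₂ f U) (mm f U)
    (mm_comp_pp₁ f U) (mm_comp_pp₂ f U)
    (fun T _ ψ₁ ψ₂ hψ => PO_ring f hUV hU hV T ψ₁ ψ₂ hψ) (pp₁_comp_cc f hUV) q' q n' n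
    (ker_rhoE_ge f n' hU hV hUV) (ker_rhoE_ge f n hU hV hUV) halg' halg
  have hT' : IsAffineOpen (PrinPart.pr1 f n' ⁻¹ᵁ U) := hU.preimage (PrinPart.pr1 f n')
  have hle : PrinPart.pr1 f n' ⁻¹ᵁ U ≤ PrinPart.pr2 f n' ⁻¹ᵁ U :=
    (PrinPart.preimage_pr1 f n' U).le
  obtain ⟨e, he⟩ := exists_pullback_equiv (PrinPart.pr2 f n') (PrinPart.P f n) hle hU hT' rfl
  let φ : Γ(PrinPart.nbhd f n, PrinPart.pr1 f n ⁻¹ᵁ U) →ₗ[Γ(X, U)] Γ(PrinPart.P f n, U) :=
    { toFun := fun c => actP f n U c (oneP f n U)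
      map_add' := fun a b => actP_add f n U a b _
      map_smul' := fun b c => by
        change actP f n U (b • c) (oneP f n U) = b • actP f n U c (oneP f n U)
        rw [Algebra.smul_def, actP_mul, smul_eq_actP]
        rfl }
  let g : Γ(pullback f f, EU f U) →+
      Γ((Scheme.Modules.pullback (PrinPart.pr2 f n')).obj (PrinPart.P f n),
        PrinPart.pr1 f n' ⁻¹ᵁ U) :=
    (e.toLinearMap.toAddMonoidHom.comp
      (φ.baseChange Γ(PrinPart.nbhd f n', PrinPart.pr1 f n' ⁻¹ᵁ U)).toAddMonoidHom).comp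
      Ψ.toAddMonoidHom
  have hg : ∀ r, g r = e (φ.baseChange Γ(PrinPart.nbhd f n', PrinPart.pr1 f n' ⁻¹ᵁ U) (Ψ r)) :=
    fun r => rfl
  have hsurj := XiRho_surjective f (n + n') hU hV hUV
  have hker : (XiRho f (n + n') U).ker ≤ g.ker := by
    intro r hr
    rw [AddMonoidHom.mem_ker] at hr ⊢
    rw [XiRho_eq_zero_iff f (n + n') hU hV hUV] at hr
    rw [hg, hΨ0 r hr, map_zero, map_zero]
  let L : Γ(PrinPart.P f (n + n'), U) →+ Γ(PrinPart.PMod f n' (PrinPart.P f n), U) :=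
    (XiRho f (n + n') U).liftOfRightInverse (Function.surjInv hsurj)
      (Function.rightInverse_surjInv hsurj) ⟨g, hker⟩
  have hL : ∀ r, L (XiRho f (n + n') U r) = g r := fun r =>
    AddMonoidHom.liftOfRightInverse_comp_apply _ _ (Function.rightInverse_surjInv hsurj) ⟨g, hker⟩ r
  refine ⟨L, ?_, ?_⟩
  · intro b x
    obtain ⟨r, rfl⟩ := hsurj x
    rw [← XiRho_pp₁_mul, hL, hL, hg, hg, map_mul, hΨ1]
    have h1 : q' (pp₁ f U b) ⊗ₜ[Γ(X, U)] (1 : Γ(PrinPart.nbhd f n, PrinPart.pr1 f n ⁻¹ᵁ U)) * Ψ r =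
        q' (pp₁ f U b) • Ψ r := by
      rw [Algebra.smul_def, Algebra.TensorProduct.algebraMap_apply]
      rfl
    rw [h1, map_smul, map_smul]
    rw [show q' (pp₁ f U b) = (PrinPart.pr1 f n').app U b from rhoE_pp₁ f n' U b]
    rfl
  · intro t
    rw [← XiRho_pp₂, hL, hg, hΨ2, LinearMap.baseChange_tmul, he, one_smul]
    change unitSec (PrinPart.pr2 f n') (PrinPart.P f n) hle (actP f n U (q (pp₂ f U t)) (oneP f n U)) = _
    rw [show q (pp₂ f U t) = pr2U f n U t from rhoE_pp₂ f n U t, ← dn_eq_actP']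
    rfl

end chart

end Groth.Agent.Helper18PPd
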