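import Mathlib
import Groth.Prelude.Def_OmegaPn
import Groth.Agent.Lib.Helper18PPd2
import Groth.Agent.Lib.Helper18PP29
import Groth.Agent.Lib.Helper18PP5
import Groth.Agent.Lib.Helper13ModGlue

set_option autoImplicit false
set_option linter.style.haveILetI false
set_option linter.unusedSectionVars false
universe u
open CategoryTheory AlgebraicGeometry Limits TopologicalSpace Opposite TensorProduct

namespace Groth.Agent.Helper18PPd

open Groth.Agent.Helper18PP Groth.Agent.Helper18OmLS Groth.Agent.Helper13PullbackUnit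
  Groth.Agent.Helper13ModGlue Groth.Agent.Lib.Helper6 Groth.Agent.Helper18UT

section glue
variable {X S : Scheme.{u}} (f : X ⟶ S) (n n' : ℕ)

/-- the source `P^(n+n')`. -/
noncomputable abbrev Hm : X.Modules := PrinPart.P f (n + n')
/-- the target `P^n'(P^n)`. -/
noncomputable abbrev Fm : X.Modules := PrinPart.PMod f n' (PrinPart.P f n)

/-- a chart: an affine open of `X` lying over an affine open of `S`. -/
def IsChart (U : X.Opens) : Prop :=
  IsAffineOpen U ∧ ∃ V : S.Opens, IsAffineOpen V ∧ U ≤ f ⁻¹ᵁ V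

variable {f} in
theorem IsChart.of_le {U U' : X.Opens} (hU : IsChart f U) (hU' : IsAffineOpen U') (h : U' ≤ U) :
    IsChart f U' := by
  obtain ⟨V, hV, hUV⟩ := hU.2
  exact ⟨hU', V, hV, h.trans hUV⟩

/-- the family is `δ` at the top level. -/
def Good {U : X.Opens} (D : LocFam U (Hm f n n') (Fm f n n')) : Prop :=
  ∀ t : Γ(X, U), D.d U le_rfl (PrinPart.dn f (n + n') U t) =
    PrinPart.dP f n' (PrinPart.P f n) U (PrinPart.dn f n U t)

theorem exists_good {U : X.Opens} (hU : IsChart f U) :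
    ∃ D : LocFam U (Hm f n n') (Fm f n n'), Good f n n' D := by
  obtain ⟨V, hV, hUV⟩ := hU.2
  obtain ⟨L, hL1, hL2⟩ := exists_local_delta f n n' hU.1 hV hUV
  obtain ⟨D, hD⟩ := exists_locFam hU.1 (Hm f n n') (Fm f n n') L hL1
  exact ⟨D, fun t => (hD _).trans (hL2 t)⟩

theorem good_eq {U U' : X.Opens} (hU : IsChart f U) (hle : U' ≤ U)
    (D : LocFam U (Hm f n n') (Fm f n n')) (hD : Good f n n' D)
    (D' : LocFam U' (Hm f n n') (Fm f n n')) (hD' : Good f n n' D')
    (W : X.Opens) (hW : W ≤ U') (τ : Γ(Hm f n n', W)) :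
    D.d W (hW.trans hle) τ = D'.d W hW τ := by
  refine LocFam.eq_of_le hU.1 (Hm f n n') (Fm f n n') hle (D.restrict hle) D' ?_ W hW τ
  intro σ
  change D.d U' hle (res (Hm f n n') hle σ) = D'.d U' le_rfl (res (Hm f n n') hle σ)
  rw [← D.nat U U' le_rfl hle σ]
  obtain ⟨V, hV, hUV⟩ := hU.2
  have hσ := mem_span_dn f (n + n') hU.1 hV hUV σ
  refine Submodule.span_induction ?_ ?_ ?_ ?_ hσ
  · rintro _ ⟨t, rfl⟩
    rw [hD t]
    have e1 : res (Hm f n n') hle (PrinPart.dn f (n + n') U t) =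
        PrinPart.dn f (n + n') U' (resf hle t) := (dn_map f (n + n') hle t).symm
    have e2 : res (Fm f n n') hle (PrinPart.dP f n' (PrinPart.P f n) U (PrinPart.dn f n U t)) =
        PrinPart.dP f n' (PrinPart.P f n) U' (PrinPart.dn f n U' (resf hle t)) := by
      rw [dn_map f n hle t]
      exact (PrinPart.dP_map f n' (PrinPart.P f n) hle _).symm
    rw [e1, e2, hD']
  · rw [map_zero, res_zero, res_zero, map_zero]
  · intro x y _ _ hx hy
    rw [map_add, res_add', res_add', map_add, hx, hy]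
  · intro a x _ hx
    rw [D.lin, res_smul, res_smul, D'.lin, hx]

theorem isBasis_affine : Opens.IsBasis (Set.range fun U : X.affineOpens => U.1) := by
  have : (Set.range fun U : X.affineOpens => U.1) = X.affineOpens := Subtype.range_coe
  rw [this]
  exact X.isBasis_affineOpens

theorem good_all {U : X.Opens} (hU : IsChart f U)
    (D : LocFam U (Hm f n n') (Fm f n n')) (hD : Good f n n' D)
    (W : X.Opens) (hW : W ≤ U) (t : Γ(X, W)) :
    D.d W hW (PrinPart.dn f (n + n') W t) =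
      PrinPart.dP f n' (PrinPart.P f n) W (PrinPart.dn f n W t) := by
  refine Groth.Agent.Helper13ModBasis.section_ext_basis (fun U : X.affineOpens => U.1)
    isBasis_affine (Fm f n n') _ _ ?_
  intro U' hle
  have hU' : IsChart f U'.1 := hU.of_le U'.2 (hle.trans hW)
  obtain ⟨D', hD'⟩ := exists_good f n n' hU'
  change res (Fm f n n') hle _ = res (Fm f n n') hle _
  rw [D.nat W U'.1 hW hle]
  have e1 : res (Hm f n n') hle (PrinPart.dn f (n + n') W t) =
      PrinPart.dn f (n + n') U'.1 (resf hle t) := (dn_map f (n + n') hle t).symm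
  have e2 : res (Fm f n n') hle (PrinPart.dP f n' (PrinPart.P f n) W (PrinPart.dn f n W t)) =
      PrinPart.dP f n' (PrinPart.P f n) U'.1 (PrinPart.dn f n U'.1 (resf hle t)) := by
    rw [dn_map f n hle t]
    exact (PrinPart.dP_map f n' (PrinPart.P f n) hle _).symm
  rw [e1, e2, good_eq f n n' hU (hle.trans hW) D hD D' hD' U'.1 le_rfl, hD']

theorem good_compat {U₁ U₂ : X.Opens} (hU₁ : IsChart f U₁) (hU₂ : IsChart f U₂)
    (D₁ : LocFam U₁ (Hm f n n') (Fm f n n')) (hD₁ : Good f n n' D₁)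
    (D₂ : LocFam U₂ (Hm f n n') (Fm f n n')) (hD₂ : Good f n n' D₂)
    (W : X.Opens) (h₁ : W ≤ U₁) (h₂ : W ≤ U₂) (τ : Γ(Hm f n n', W)) :
    D₁.d W h₁ τ = D₂.d W h₂ τ := by
  refine Groth.Agent.Helper13ModBasis.section_ext_basis (fun U : X.affineOpens => U.1)
    isBasis_affine (Fm f n n') _ _ ?_
  intro U' hle
  have hU' : IsChart f U'.1 := hU₁.of_le U'.2 (hle.trans h₁)
  obtain ⟨D', hD'⟩ := exists_good f n n' hU'
  change res (Fm f n n') hle _ = res (Fm f n n') hle _
  rw [D₁.nat W U'.1 h₁ hle, D₂.nat W U'.1 h₂ hle,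
    good_eq f n n' hU₁ (hle.trans h₁) D₁ hD₁ D' hD' U'.1 le_rfl,
    good_eq f n n' hU₂ (hle.trans h₂) D₂ hD₂ D' hD' U'.1 le_rfl]

/-- index type of the charts. -/
abbrev Charts : Type u := {U : X.affineOpens // ∃ V : S.affineOpens, U.1 ≤ f ⁻¹ᵁ V.1}

theorem isChart_of (i : Charts f) : IsChart f i.1.1 := by
  obtain ⟨V, hV⟩ := i.2
  exact ⟨i.1.2, V.1, V.2, hV⟩

theorem isBasis_charts : Opens.IsBasis (Set.range fun i : Charts f => i.1.1) := by
  rw [Opens.isBasis_iff_nbhd]
  intro W x hx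
  obtain ⟨V, hV, hxV, -⟩ := exists_isAffineOpen_mem_and_subset (x := f x) (U := ⊤) trivial
  obtain ⟨U, hU, hxU, hUV⟩ := exists_isAffineOpen_mem_and_subset (x := x) (U := W ⊓ f ⁻¹ᵁ V)
    ⟨hx, hxV⟩
  exact ⟨U, ⟨⟨⟨U, hU⟩, ⟨V, hV⟩, hUV.trans inf_le_right⟩, rfl⟩, hxU, hUV.trans inf_le_left⟩

theorem main_S5962 :
    ∃! δ : PrinPart.P f (n + n') ⟶ PrinPart.PMod f n' (PrinPart.P f n),
      ∀ (U : X.Opens) (t : Γ(X, U)),
        δ.app U (PrinPart.dn f (n + n') U t) =
          PrinPart.dP f n' (PrinPart.P f n) U (PrinPart.dn f n U t) := by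
  choose D hD using fun i : Charts f => exists_good f n n' (isChart_of f i)
  obtain ⟨ψ, hψ⟩ := exists_hom_of_locFams (fun i : Charts f => i.1.1)
    (iSup_affine_le_preimage f) (Hm f n n') (Fm f n n') D
    (fun i j W hi hj τ => good_compat f n n' (isChart_of f i) (isChart_of f j) (D i) (hD i)
      (D j) (hD j) W hi hj τ)
  have hprop : ∀ (U : X.Opens) (t : Γ(X, U)),
      ψ.app U (PrinPart.dn f (n + n') U t) =
        PrinPart.dP f n' (PrinPart.P f n) U (PrinPart.dn f n U t) := by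
    intro U t
    refine Groth.Agent.Helper13ModBasis.section_ext_basis (fun i : Charts f => i.1.1)
      (isBasis_charts f) (Fm f n n') _ _ ?_
    intro i hle
    rw [← hom_app_map ψ hle, ← dn_map f (n + n') hle t, hψ i i.1.1 le_rfl, hD i,
      dn_map f n hle t]
    exact PrinPart.dP_map f n' (PrinPart.P f n) hle _
  refine ⟨ψ, hprop, ?_⟩
  intro δ' hδ'
  refine Groth.Agent.Helper13ModBasis.hom_ext_basis (fun i : Charts f => i.1.1)
    (isBasis_charts f) _ _ ?_
  intro i
  ext τ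
  obtain ⟨V, hV⟩ := i.2
  have hτ := mem_span_dn f (n + n') i.1.2 V.2 hV τ
  refine Submodule.span_induction ?_ ?_ ?_ ?_ hτ
  · rintro _ ⟨t, rfl⟩
    exact (hδ' _ t).trans (hprop _ t).symm
  · rw [map_zero, map_zero]
  · intro x y _ _ hx hy
    rw [map_add, map_add, hx, hy]
  · intro a x _ hx
    rw [Scheme.Modules.Hom.app_smul, Scheme.Modules.Hom.app_smul, hx]

end glue

end Groth.Agent.Helper18PPd
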