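import Mathlib
import Groth.Agent.Lib.Helper18RelFrob

set_option autoImplicit false
set_option linter.style.haveILetI false
universe u

namespace Groth.Agent.Lib.Helper18PerfEtale
open TensorProduct FrobAlg

/-- base change of an étale algebra to a perfect ring is perfect -/
theorem perfect_of_etale_over_perfect (p : ℕ) [Fact p.Prime] (A' C : Type u) [CommRing A']
    [CommRing C] [CharP A' p] [CharP C p] [PerfectRing A' p] [Algebra A' C] [Algebra.Etale A' C] :
    PerfectRing C p := by
  have hW := Groth.Agent.Lib.Helper18RelFrob.relFrob_bijective_of_etale p A' C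
  -- the `A'`-linear identification `Twist p A' ≃ A'`
  let τ : Twist p A' ≃ₗ[A'] A' :=
    { toFun := fun t => (frobeniusEquiv A' p).symm ((toTwist p A').symm t)
      invFun := fun a => toTwist p A' (frobeniusEquiv A' p a)
      map_add' := fun x y => by simp
      map_smul' := fun a t => by
        apply (frobeniusEquiv A' p).injective
        simp only [RingHom.id_apply, Algebra.smul_def, algebraMap_twist, map_mul,
          RingEquiv.symm_apply_apply, RingEquiv.apply_symm_apply, Algebra.algebraMap_self]
        rw [frobeniusEquiv_apply, frobenius_def]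
      left_inv := fun t => by simp
      right_inv := fun a => by simp }
  let E : C ⊗[A'] Twist p A' ≃ₗ[A'] C :=
    (TensorProduct.congr (LinearEquiv.refl A' C) τ).trans (TensorProduct.rid A' C)
  have hE : ∀ c : C, E (c ⊗ₜ[A'] (1 : Twist p A')) = c := by
    intro c
    simp only [E, LinearEquiv.trans_apply, TensorProduct.congr_tmul, LinearEquiv.refl_apply,
      TensorProduct.rid_tmul]
    have : τ (1 : Twist p A') = 1 := by
      change (frobeniusEquiv A' p).symm ((toTwist p A').symm 1) = 1
      rw [map_one, map_one]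
    rw [this, one_smul]
  have hι : Function.Bijective (fun c : C => c ⊗ₜ[A'] (1 : Twist p A')) := by
    have : (fun c : C => c ⊗ₜ[A'] (1 : Twist p A')) = E.symm := by
      funext c
      rw [LinearEquiv.eq_symm_apply, hE]
    rw [this]
    exact E.symm.bijective
  have hfrob : (frobenius C p : C → C) =
      (FrobAlg.relFrob p A' C) ∘ (fun c : C => c ⊗ₜ[A'] (1 : Twist p A')) := by
    funext c
    simp only [Function.comp_apply, Groth.Agent.S16001.relFrob_tmul, frobenius_def, map_one,
      mul_one]
  have : Function.Bijective (frobenius C p) := hfrob ▸ hW.comp hι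
  exact ⟨this⟩

theorem main (p : ℕ) [Fact p.Prime]
    (A B A' B' : Type u) [CommRing A] [CommRing B] [CommRing A'] [CommRing B']
    [CharP A p] [CharP B p] [CharP A' p] [CharP B' p] [PerfectRing A' p] [PerfectRing B' p]
    [Algebra A B] [Algebra.Etale A B] [Algebra A A'] [Algebra B B'] [Algebra A B'] [IsScalarTower A B B']
    [IsPerfectClosure (algebraMap A A') p] [IsPerfectClosure (algebraMap B B') p]
    (φ' : A' →ₐ[A] B') :
    Function.Bijective (Algebra.TensorProduct.lift φ' (IsScalarTower.toAlgHom A B B')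
      (fun a b => Commute.all (φ' a) (IsScalarTower.toAlgHom A B B' b))) := by
  have hp : p.Prime := Fact.out
  set ψ := Algebra.TensorProduct.lift φ' (IsScalarTower.toAlgHom A B B')
      (fun a b => Commute.all (φ' a) (IsScalarTower.toAlgHom A B B' b)) with hψ
  haveI : Nontrivial B' := CharP.nontrivial_of_char_ne_one (R := B') hp.ne_one
  haveI : Nontrivial (A' ⊗[A] B) := RingHom.domain_nontrivial (ψ : A' ⊗[A] B →+* B')
  have hp0 : ((p : ℕ) : A' ⊗[A] B) = 0 := by
    have : ((p : ℕ) : A' ⊗[A] B) = algebraMap A' (A' ⊗[A] B) (p : A') := (map_natCast _ p).symm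
    rw [this, CharP.cast_eq_zero, map_zero]
  haveI : CharP (A' ⊗[A] B) p := (CharP.charP_iff_prime_eq_zero hp).mpr hp0
  haveI : PerfectRing (A' ⊗[A] B) p := perfect_of_etale_over_perfect p A' (A' ⊗[A] B)
  let j : B →+* A' ⊗[A] B := (Algebra.TensorProduct.includeRight : B →ₐ[A] A' ⊗[A] B)
  let θ : B' →+* A' ⊗[A] B := PerfectRing.lift (algebraMap B B') j p
  have hθ : ∀ b : B, θ (algebraMap B B' b) = (1 : A') ⊗ₜ[A] b := fun b =>
    PerfectRing.lift_comp_apply (algebraMap B B') j p b
  have hψb : ∀ b : B, ψ ((1 : A') ⊗ₜ[A] b) = algebraMap B B' b := by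
    intro b
    simp [hψ]
  -- ψ ∘ θ = id
  have h1 : (ψ : A' ⊗[A] B →+* B').comp θ = RingHom.id B' := by
    apply IsPRadical.injective_comp_of_perfect B' (algebraMap B B') p
    ext b
    simp only [RingHom.comp_apply, RingHom.id_apply, RingHom.coe_coe]
    rw [hθ, hψb]
  -- θ ∘ φ' = includeLeft
  have h2 : θ.comp (φ' : A' →+* B') =
      ((Algebra.TensorProduct.includeLeft : A' →ₐ[A] A' ⊗[A] B) : A' →+* A' ⊗[A] B) := by
    apply IsPRadical.injective_comp_of_perfect (A' ⊗[A] B) (algebraMap A A') p
    ext a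
    change θ (φ' (algebraMap A A' a)) = (algebraMap A A' a) ⊗ₜ[A] (1 : B)
    rw [AlgHom.commutes, IsScalarTower.algebraMap_apply A B B', hθ,
      Algebra.algebraMap_eq_smul_one, Algebra.algebraMap_eq_smul_one (A := A'),
      TensorProduct.smul_tmul]
  have h3 : ∀ x : A' ⊗[A] B, θ (ψ x) = x := by
    intro x
    induction x using TensorProduct.induction_on with
    | zero => simp
    | tmul a b =>
      have e1 : a ⊗ₜ[A] b = (a ⊗ₜ[A] (1 : B)) * ((1 : A') ⊗ₜ[A] b) := by simp
      have e2 : ψ (a ⊗ₜ[A] (1 : B)) = φ' a := by simp [hψ]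
      have e3 : θ (φ' a) = a ⊗ₜ[A] (1 : B) := RingHom.congr_fun h2 a
      rw [e1, map_mul, map_mul, hψb, hθ, e2, e3]
    | add x y hx hy => rw [map_add, map_add, hx, hy]
  constructor
  · intro x y hxy
    rw [← h3 x, ← h3 y, hxy]
  · intro y
    exact ⟨θ y, RingHom.congr_fun h1 y⟩

end Groth.Agent.Lib.Helper18PerfEtale
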