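import Mathlib
import Groth.Prelude.Def_MultCurve
import Groth.Prelude.Def_Pic
import Groth.Agent.Lib.Helper18CIntB
import Groth.Agent.Lib.Helper18Cart1
import Groth.Agent.Lib.Helper18FinFlat3

set_option autoImplicit false
set_option linter.style.haveILetI false
set_option linter.unusedSectionVars false
set_option linter.unusedVariables false
universe u
open CategoryTheory AlgebraicGeometry Limits TopologicalSpace Opposite TensorProduct

namespace Groth.Agent.Helper18Prin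

open Groth.Agent.Helper18OmLS Groth.Agent.Helper18Om Groth.Agent.Helper18H1Con
open Groth.Agent.Helper13PullbackUnit Groth.Agent.Helper18CInt

section ker
variable {Z Y : Scheme.{u}} (i : Z ⟶ Y) [IsClosedImmersion i]
  {U : Y.Opens} (hU : IsAffineOpen U)

include hU in
/-- a function vanishing on `Z` whose class in the conormal sheaf vanishes lies in the square
of the ideal. -/
theorem mem_sq_of_cls_eq_zero (x : Γ(Y, U)) (hx : i.app U x = 0)
    (h : cls i U (i ⁻¹ᵁ U) le_rfl x = 0) : x ∈ (RingHom.ker (i.app U).hom) ^ 2 := by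
  have hT : IsAffineOpen (i ⁻¹ᵁ U) := hU.preimage i
  letI algBC : Algebra Γ(Y, U) Γ(Z, i ⁻¹ᵁ U) := (i.appLE U (i ⁻¹ᵁ U) le_rfl).hom.toAlgebra
  have hBC : Function.Surjective (algebraMap Γ(Y, U) Γ(Z, i ⁻¹ᵁ U)) := by
    have := i.app_surjective U hU
    rw [Scheme.Hom.app_eq_appLE] at this
    exact this
  have hkerI : ∀ x : Γ(Y, U), x ∈ RingHom.ker (algebraMap Γ(Y, U) Γ(Z, i ⁻¹ᵁ U)) ↔ i.app U x = 0 := by
    intro x
    rw [RingHom.mem_ker]
    change (i.appLE U (i ⁻¹ᵁ U) le_rfl) x = 0 ↔ _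
    rw [← Scheme.Hom.app_eq_appLE]
  have h1' : RingHom.ker (algebraMap Γ(Y, U) Γ(Z, i ⁻¹ᵁ U)) = RingHom.ker (i.app U).hom := by
    ext x
    rw [hkerI, RingHom.mem_ker]
  obtain ⟨t, ht⟩ := exists_idealSect_eq i U x hx
  have h1 : unitSec i (ClSub.idealMod i.ker) (le_refl (i ⁻¹ᵁ U)) t = 0 := by
    rw [← cls_eq i U (i ⁻¹ᵁ U) le_rfl _ _ ht]
    exact h
  obtain ⟨e, he⟩ := exists_pullback_equiv i (ClSub.idealMod i.ker) (le_refl (i ⁻¹ᵁ U)) hU hT rfl
  have h2 : (1 : Γ(Z, i ⁻¹ᵁ U)) ⊗ₜ[Γ(Y, U)] t = 0 := by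
    apply e.injective
    rw [he, one_smul, map_zero]
    exact h1
  have h3 := mem_smul_top_of_one_tmul_eq_zero' hBC _ h2
  have h4 : ∀ s ∈ (RingHom.ker (algebraMap Γ(Y, U) Γ(Z, i ⁻¹ᵁ U)) • ⊤ :
      Submodule Γ(Y, U) Γ(ClSub.idealMod i.ker, U)),
      OmegaSh.idealSect i.ker U s ∈ (RingHom.ker (algebraMap Γ(Y, U) Γ(Z, i ⁻¹ᵁ U))) ^ 2 := by
    intro s hs
    refine Submodule.smul_induction_on hs ?_ ?_
    · intro x hx s' _
      rw [idealSect_smul, pow_two]
      exact Ideal.mul_mem_mul hx ((hkerI _).mpr (app_idealSect_eq_zero i U s'))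
    · intro x y hx hy
      rw [map_add]
      exact Ideal.add_mem _ hx hy
  have h5 := h4 _ h3
  rw [ht, h1'] at h5
  exact h5

end ker

section basis
open Groth.Agent.Lib.Helper2.RankLoc in
attribute [local instance] RingHomInvPair.of_ringEquiv RingHomInvPair.of_ringEquiv_symm in
/-- version of `exists_affine_basis_of_restrict_iso_freeMod'` with a chosen affine open. -/
theorem nonempty_basis_of_restrict_iso_freeMod {X : Scheme.{u}} (M : X.Modules) {Y : Scheme.{u}}
    (f : Y ⟶ X) [IsOpenImmersion f]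
    {n : ℕ} (e : M.restrict f ≅ FlatMod.freeMod Y n) (V : Y.Opens) (hV : IsAffineOpen V)
    (y : Y) (hyV : y ∈ V) :
    Nonempty (Module.Basis (Fin n) Γ(X, f ''ᵁ V) Γ(M, f ''ᵁ V)) := by
  obtain ⟨E⟩ := nonempty_sections_equiv_of_iso_freeMod (M.restrict f) e hV
  haveI : Nonempty V := ⟨⟨y, hyV⟩⟩
  haveI : Nontrivial Γ(Y, V) := inferInstance
  have hV' : IsAffineOpen (f ''ᵁ V) := hV.image_of_isOpenImmersion f
  have hxD : f y ∈ f ''ᵁ V := ⟨y, hyV, rfl⟩
  haveI hfreeY : Module.Free Γ(Y, V) Γ(M.restrict f, V) := Module.Free.of_equiv E.symm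
  have hrkY : Module.finrank Γ(Y, V) Γ(M.restrict f, V) = n := by
    rw [E.finrank_eq, Module.finrank_finsupp_self, Fintype.card_fin]
  let σ : Γ(Y, V) ≃+* Γ(X, f ''ᵁ V) := (f.appIso V).symm.commRingCatIsoToRingEquiv
  let j : Γ(M.restrict f, V) ≃+ Γ(M, f ''ᵁ V) := (M.restrictAppIso f V).addCommGroupIsoToAddEquiv
  have hc : ∀ (r : Γ(Y, V)) (m : Γ(M.restrict f, V)), j (r • m) = σ r • j m :=
    fun r m => Scheme.Modules.smul_restrictAppIso_hom_apply f M V r m
  haveI hfreeX : Module.Free Γ(X, f ''ᵁ V) Γ(M, f ''ᵁ V) := by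
    refine (Module.Free.iff_of_equiv (σ := (σ : Γ(Y, V) →+* Γ(X, f ''ᵁ V)))
      (σ' := (σ.symm : Γ(X, f ''ᵁ V) →+* Γ(Y, V))) ?_).1 hfreeY
    exact { j with map_smul' := hc }
  have hrkX : Module.finrank Γ(X, f ''ᵁ V) Γ(M, f ''ᵁ V) = n := by
    rw [← hrkY]
    exact (congrArg Cardinal.toNat (rank_eq_of_equiv_equiv σ j σ.bijective hc)).symm
  haveI : Nonempty (f ''ᵁ V : X.Opens) := ⟨⟨f y, hxD⟩⟩
  haveI : Nontrivial Γ(X, f ''ᵁ V) := inferInstance
  haveI : Module.Finite Γ(Y, V) Γ(M.restrict f, V) := Module.Finite.equiv E.symm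
  haveI : Module.Finite Γ(X, f ''ᵁ V) Γ(M, f ''ᵁ V) := by
    let J : Γ(M.restrict f, V) →ₛₗ[(σ : Γ(Y, V) →+* Γ(X, f ''ᵁ V))] Γ(M, f ''ᵁ V) :=
      { j with map_smul' := hc }
    exact Module.Finite.of_surjective J j.surjective
  exact ⟨Module.finBasisOfFinrankEq _ _ hrkX⟩

/-- if `M|_V ≅ O_V^n` then the sections of `M` over any nonempty affine open inside `V` are free
of rank `n`. -/
theorem nonempty_basis_of_le {X : Scheme.{u}} (M : X.Modules) (V : X.Opens)
    {n : ℕ} (e : M.restrict V.ι ≅ FlatMod.freeMod (V : Scheme.{u}) n) (T : X.Opens)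
    (hT : IsAffineOpen T) (hTV : T ≤ V) (y : X) (hyT : y ∈ T) :
    Nonempty (Module.Basis (Fin n) Γ(X, T) Γ(M, T)) := by
  have h1 : V.ι ''ᵁ (V.ι ⁻¹ᵁ T) = T := by
    rw [Scheme.Hom.image_preimage_eq_opensRange_inf, Scheme.Opens.opensRange_ι]
    exact inf_eq_right.mpr hTV
  have hT' : IsAffineOpen (V.ι ⁻¹ᵁ T) := by
    apply hT.preimage_of_isOpenImmersion
    rw [Scheme.Opens.opensRange_ι]
    exact hTV
  have h2 := nonempty_basis_of_restrict_iso_freeMod M V.ι e (V.ι ⁻¹ᵁ T) hT' ⟨y, hTV hyT⟩ hyT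
  rw [h1] at h2
  exact h2

end basis

section main
variable {C : Scheme.{u}} (I : C.IdealSheafData)

open Groth.Agent.Lib.Helper20.LocFree in
theorem isInvertible_conormal_of_isPrincipal (hI : I ^ 2 = ⊥)
    (h : MultCurve.IsPrincipalOfOrder I 2) :
    PicF.IsInvertible (Omega.conormal I.subschemeι) := by
  intro y
  obtain ⟨U, hxU, z, hz, hann⟩ := h (I.subschemeι y)
  have hUa : IsAffineOpen U.1 := U.2
  have hT : IsAffineOpen (I.subschemeι ⁻¹ᵁ U.1) := hUa.preimage _
  have hker : RingHom.ker (I.subschemeι.app U.1).hom = I.ideal U := I.ker_subschemeι_app U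
  have hsq : (I.ideal U) ^ 2 = ⊥ := by
    have := congrArg (fun J => J.ideal U) hI
    simpa using this
  let r : Fin 1 → Γ(C, U.1) := fun _ => z
  have hrange : Set.range r = {z} := by
    ext w
    simp [r, eq_comm]
  have hker' : RingHom.ker (I.subschemeι.app U.1).hom = Ideal.span (Set.range r) := by
    rw [hker, hz, hrange]
  have hspan := conormal_span I.subschemeι hUa r hker'
  have hzI : I.subschemeι.app U.1 z = 0 := by
    have : z ∈ RingHom.ker (I.subschemeι.app U.1).hom := by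
      rw [hker, hz]
      exact Ideal.subset_span rfl
    exact this
  have hsurj : Function.Surjective (I.subschemeι.appLE U.1 (I.subschemeι ⁻¹ᵁ U.1) le_rfl) := by
    have := I.subschemeι.app_surjective U.1 hUa
    rw [Scheme.Hom.app_eq_appLE] at this
    exact this
  have hli : LinearIndependent Γ(I.subscheme, I.subschemeι ⁻¹ᵁ U.1)
      (fun k => cls I.subschemeι U.1 (I.subschemeι ⁻¹ᵁ U.1) le_rfl (r k)) := by
    rw [Fintype.linearIndependent_iff]
    intro c hc k
    obtain ⟨b, hb⟩ := hsurj (c 0)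
    have h1 : cls I.subschemeι U.1 (I.subschemeι ⁻¹ᵁ U.1) le_rfl (b * z) = 0 := by
      rw [cls_mul _ _ _ _ _ _ hzI, hb]
      simpa [r] using hc
    have hbz : I.subschemeι.app U.1 (b * z) = 0 := by
      rw [map_mul, hzI, mul_zero]
    have h2 := mem_sq_of_cls_eq_zero I.subschemeι hUa (b * z) hbz h1
    rw [hker, hsq] at h2
    have h3 : b ∈ I.ideal U := hann b (by simpa using h2)
    rw [← hker, RingHom.mem_ker] at h3
    have h4 : c 0 = 0 := by
      rw [← hb, ← Scheme.Hom.app_eq_appLE]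
      exact h3
    have hk : k = 0 := Subsingleton.elim _ _
    rw [hk, h4]
  let bs : Module.Basis (Fin 1) Γ(I.subscheme, I.subschemeι ⁻¹ᵁ U.1)
      Γ(Omega.conormal I.subschemeι, I.subschemeι ⁻¹ᵁ U.1) := Module.Basis.mk hli hspan
  haveI : (Omega.conormal I.subschemeι).IsQuasicoherent :=
    inferInstanceAs ((Scheme.Modules.pullback I.subschemeι).obj
      (ClSub.idealMod I.subschemeι.ker)).IsQuasicoherent
  exact ⟨I.subschemeι ⁻¹ᵁ U.1, hxU, ⟨restrictIsoFreeMod (Omega.conormal I.subschemeι) hT bs ≪≫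
    coproductUniqueIso (fun _ : Fin 1 => Coh.structureModule _)⟩⟩

theorem isPrincipal_of_isInvertible_conormal (hI : I ^ 2 = ⊥)
    (h : PicF.IsInvertible (Omega.conormal I.subschemeι)) :
    MultCurve.IsPrincipalOfOrder I 2 := by
  intro x
  have hsupp : I.support = ⊤ := by
    rw [← I.support_pow 2 (by norm_num), hI, Scheme.IdealSheafData.support_bot]
  have hx : x ∈ Set.range I.subschemeι := by
    rw [I.range_subschemeι, hsupp]
    trivial
  obtain ⟨y, rfl⟩ := hx
  obtain ⟨V, hyV, ⟨e⟩⟩ := h y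
  obtain ⟨U', hU'o, hU'⟩ := (I.subschemeι.isEmbedding.isInducing.isOpen_iff).mp V.2
  have hyU' : I.subschemeι y ∈ (⟨U', hU'o⟩ : C.Opens) := by
    have : y ∈ I.subschemeι ⁻¹' U' := by rw [hU']; exact hyV
    exact this
  obtain ⟨U, hU, hxU, hUU'⟩ := exists_isAffineOpen_mem_and_subset hyU'
  have hT : IsAffineOpen (I.subschemeι ⁻¹ᵁ U) := hU.preimage _
  have hTV : I.subschemeι ⁻¹ᵁ U ≤ V := by
    intro w hw
    have h1 : w ∈ I.subschemeι ⁻¹' U' := hUU' hw
    rw [hU'] at h1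
    exact h1
  let e' : (Omega.conormal I.subschemeι).restrict V.ι ≅ FlatMod.freeMod (V : Scheme.{u}) 1 :=
    e ≪≫ (coproductUniqueIso (fun _ : Fin 1 => Coh.structureModule (V : Scheme.{u}))).symm
  obtain ⟨bs⟩ := nonempty_basis_of_le (Omega.conormal I.subschemeι) V e' _ hT hTV y hxU
  letI algBC : Algebra Γ(C, U) Γ(I.subscheme, I.subschemeι ⁻¹ᵁ U) :=
    (I.subschemeι.appLE U (I.subschemeι ⁻¹ᵁ U) le_rfl).hom.toAlgebra
  have hsurj : Function.Surjective (I.subschemeι.appLE U (I.subschemeι ⁻¹ᵁ U) le_rfl) := by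
    have := I.subschemeι.app_surjective U hU
    rw [Scheme.Hom.app_eq_appLE] at this
    exact this
  have hBC : Function.Surjective (algebraMap Γ(C, U) Γ(I.subscheme, I.subschemeι ⁻¹ᵁ U)) := hsurj
  have hker : RingHom.ker (I.subschemeι.app U).hom = I.ideal ⟨U, hU⟩ :=
    I.ker_subschemeι_app ⟨U, hU⟩
  have hsq : (I.ideal ⟨U, hU⟩) ^ 2 = ⊥ := by
    have := congrArg (fun J => J.ideal ⟨U, hU⟩) hI
    simpa using this
  obtain ⟨s, hs⟩ := exists_unitSec_eq I.subschemeι (ClSub.idealMod I.subschemeι.ker)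
    (le_refl (I.subschemeι ⁻¹ᵁ U)) hU hT rfl hBC (bs 0)
  have hzI : I.subschemeι.app U (OmegaSh.idealSect I.subschemeι.ker U s) = 0 :=
    app_idealSect_eq_zero I.subschemeι U s
  have hcls : cls I.subschemeι U (I.subschemeι ⁻¹ᵁ U) le_rfl
      (OmegaSh.idealSect I.subschemeι.ker U s) = bs 0 := by
    rw [cls_eq I.subschemeι U (I.subschemeι ⁻¹ᵁ U) le_rfl _ s rfl]
    exact hs
  have hm : ∀ m : Γ(Omega.conormal I.subschemeι, I.subschemeι ⁻¹ᵁ U),
      m = bs.repr m 0 • bs 0 := by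
    intro m
    conv_lhs => rw [← bs.sum_repr m]
    simp
  refine ⟨⟨U, hU⟩, hxU, OmegaSh.idealSect I.subschemeι.ker U s, ?_, ?_⟩
  · apply le_antisymm
    · intro w hw
      have hwI : I.subschemeι.app U w = 0 := by
        rw [← hker] at hw
        exact hw
      obtain ⟨b, hb⟩ := hsurj (bs.repr (cls I.subschemeι U (I.subschemeι ⁻¹ᵁ U) le_rfl w) 0)
      have hbz : I.subschemeι.app U (-(b * OmegaSh.idealSect I.subschemeι.ker U s)) = 0 := by
        rw [map_neg, map_mul, hzI, mul_zero, neg_zero]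
      have h1 : cls I.subschemeι U (I.subschemeι ⁻¹ᵁ U) le_rfl
          (w + -(b * OmegaSh.idealSect I.subschemeι.ker U s)) = 0 := by
        rw [cls_add _ _ _ _ _ _ hwI hbz, neg_mul_eq_neg_mul, cls_mul _ _ _ _ _ _ hzI, hcls, map_neg,
          hb, neg_smul]
        exact Eq.trans (congrArg (fun t => cls I.subschemeι U (I.subschemeι ⁻¹ᵁ U) le_rfl w + -t)
          (hm _).symm) (add_neg_cancel _)
      have h2 := mem_sq_of_cls_eq_zero I.subschemeι hU _ (by rw [map_add, hwI, hbz, add_zero]) h1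
      rw [hker, hsq] at h2
      have h3 : w = b * OmegaSh.idealSect I.subschemeι.ker U s := by
        have := (Submodule.mem_bot _).mp h2
        exact add_neg_eq_zero.mp this
      rw [h3]
      exact Ideal.mul_mem_left _ _ (Ideal.subset_span rfl)
    · rw [Ideal.span_le, Set.singleton_subset_iff, SetLike.mem_coe, ← hker]
      exact hzI
  · intro a ha
    have h1 : cls I.subschemeι U (I.subschemeι ⁻¹ᵁ U) le_rfl
        (a * OmegaSh.idealSect I.subschemeι.ker U s) = 0 := by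
      have : a * OmegaSh.idealSect I.subschemeι.ker U s = 0 := by simpa using ha
      rw [this, cls_zero]
    rw [cls_mul _ _ _ _ _ _ hzI, hcls] at h1
    have h1' : (I.subschemeι.appLE U (I.subschemeι ⁻¹ᵁ U) le_rfl a) • bs 0 = 0 := h1
    have h2 := congrArg bs.repr h1'
    rw [LinearEquiv.map_smul, Module.Basis.repr_self, map_zero] at h2
    have h3 := DFunLike.congr_fun h2 0
    simp only [Finsupp.smul_apply, Finsupp.single_eq_same, smul_eq_mul, mul_one,
      Finsupp.zero_apply] at h3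
    rw [← hker, RingHom.mem_ker, Scheme.Hom.app_eq_appLE]
    exact h3

theorem main_S18344 (hI : I ^ 2 = ⊥) :
    MultCurve.IsPrincipalOfOrder I 2 ↔ PicF.IsInvertible (Omega.conormal I.subschemeι) :=
  ⟨isInvertible_conormal_of_isPrincipal I hI, isPrincipal_of_isInvertible_conormal I hI⟩

end main

end Groth.Agent.Helper18Prin
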