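import Mathlib

set_option linter.style.haveILetI false

namespace Groth.Agent.Helper18ProdSurj

universe u

open MvPolynomial CategoryTheory AlgebraicGeometry

/-- Any (small) family of field extensions of `k` embeds into a common field extension of `k`. -/
theorem exists_common_field (k : Type u) [Field k] {I : Type u} (L : I → Type u)
    [∀ i, Field (L i)] [∀ i, Algebra k (L i)] :
    ∃ (K : Type u) (_ : Field K) (_ : Algebra k K), ∀ i, Nonempty (L i →ₐ[k] K) := by
  classical
  choose B hB using fun i => exists_isTranscendenceBasis k (L i)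
  let J := Σ i, B i
  let E := FractionRing (MvPolynomial J k)
  let K := AlgebraicClosure E
  refine ⟨K, inferInstance, inferInstance, fun i => ?_⟩
  let x : B i → L i := Subtype.val
  have hx : IsTranscendenceBasis k x := hB i
  -- the polynomial ring on the transcendence basis
  let f : MvPolynomial (B i) k →ₐ[k] L i := aeval x
  have hf : Function.Injective f := hx.1
  let h : MvPolynomial (B i) k →ₐ[k] K :=
    (IsScalarTower.toAlgHom k E K).comp
      ((IsScalarTower.toAlgHom k (MvPolynomial J k) E).comp (rename (fun b : B i => (⟨i, b⟩ : J))))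
  have hh : Function.Injective h := by
    refine (algebraMap E K).injective.comp ?_
    refine (IsFractionRing.injective (MvPolynomial J k) E).comp ?_
    exact rename_injective _ (fun a b hab => by
      have := congrArg (fun z : J => z) hab
      cases hab; rfl)
  letI a1 : Algebra (MvPolynomial (B i) k) (L i) := f.toRingHom.toAlgebra
  letI a2 : Algebra (MvPolynomial (B i) k) K := h.toRingHom.toAlgebra
  haveI t1 : Module.IsTorsionFree (MvPolynomial (B i) k) (L i) :=
    Module.isTorsionFree_iff_algebraMap_injective.mpr hf
  haveI t2 : Module.IsTorsionFree (MvPolynomial (B i) k) K :=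
    Module.isTorsionFree_iff_algebraMap_injective.mpr hh
  haveI alg : Algebra.IsAlgebraic (MvPolynomial (B i) k) (L i) := by
    haveI := hx.isAlgebraic
    let f' : MvPolynomial (B i) k →ₐ[k] Algebra.adjoin k (Set.range x) :=
      f.codRestrict (Algebra.adjoin k (Set.range x)) (fun p => by
        rw [Algebra.adjoin_range_eq_range_aeval]; exact ⟨p, rfl⟩)
    have hf' : Function.Surjective f' := by
      rintro ⟨y, hy⟩
      rw [Algebra.adjoin_range_eq_range_aeval] at hy
      obtain ⟨p, rfl⟩ := hy
      exact ⟨p, rfl⟩
    refine Algebra.IsAlgebraic.of_ringHom_of_comp_eq (S := Algebra.adjoin k (Set.range x))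
      (B := L i) f'.toRingHom (RingHom.id (L i)) hf' Function.injective_id ?_
    ext p <;> rfl
  let l : L i →ₐ[MvPolynomial (B i) k] K := IsAlgClosed.lift
  refine ⟨{ l.toRingHom with commutes' := fun c => ?_ }⟩
  have h1 : algebraMap k (L i) c = algebraMap (MvPolynomial (B i) k) (L i) (C c) := by
    change _ = f (C c)
    simp [f]
  change l (algebraMap k (L i) c) = _
  rw [h1, l.commutes]
  change h (C c) = _
  rw [← MvPolynomial.algebraMap_eq, h.commutes]

/-- Any product in `Over S` of a (small) family of surjective morphisms is surjective. -/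
theorem surjective_of_isLimit_fan {S : Scheme.{u}} {I : Type u} (T : I → Over S)
    (hT : ∀ i, Surjective (T i).hom) (c : Limits.Fan T) (hc : Limits.IsLimit c) :
    Surjective c.pt.hom := by
  refine ⟨fun s => ?_⟩
  choose t ht using fun i => (hT i).surj s
  -- residue fields
  let φ : ∀ i, S.residueField s ⟶ (T i).left.residueField (t i) := fun i =>
    (S.residueFieldCongr (ht i).symm).hom ≫ (T i).hom.residueFieldMap (t i)
  have hφ : ∀ i, Spec.map (φ i) ≫ S.fromSpecResidueField s =
      (T i).left.fromSpecResidueField (t i) ≫ (T i).hom := by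
    intro i
    simp only [φ, Spec.map_comp, Category.assoc]
    rw [Scheme.residueFieldCongr_fromSpecResidueField,
      Scheme.Hom.SpecMap_residueFieldMap_fromSpecResidueField]
  letI : ∀ i, Algebra (S.residueField s) ((T i).left.residueField (t i)) :=
    fun i => (φ i).hom.toAlgebra
  obtain ⟨K, _, _, hK⟩ := exists_common_field (S.residueField s)
    (fun i => (T i).left.residueField (t i))
  have g : ∀ i, (T i).left.residueField (t i) →ₐ[S.residueField s] K := fun i => (hK i).some
  let ψ : S.residueField s ⟶ CommRingCat.of K := CommRingCat.ofHom (algebraMap (S.residueField s) K)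
  have hg : ∀ i, φ i ≫ CommRingCat.ofHom (g i).toRingHom = ψ := by
    intro i
    ext x
    exact (g i).commutes x
  let W : Over S := Over.mk (Spec.map ψ ≫ S.fromSpecResidueField s)
  let a : ∀ i, W ⟶ T i := fun i =>
    Over.homMk (Spec.map (CommRingCat.ofHom (g i).toRingHom) ≫
      (T i).left.fromSpecResidueField (t i)) (by
        simp only [W, Over.mk_hom, Category.assoc]
        rw [← hφ i, ← Spec.map_comp_assoc]
        exact congrArg (fun z => Spec.map z ≫ S.fromSpecResidueField s) (hg i))
  let l : W ⟶ c.pt := hc.lift (Limits.Fan.mk W a)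
  have hl : l.left ≫ c.pt.hom = Spec.map ψ ≫ S.fromSpecResidueField s := Over.w l
  obtain ⟨w0⟩ : Nonempty (Spec (CommRingCat.of K)) := inferInstance
  refine ⟨l.left w0, ?_⟩
  rw [← Scheme.Hom.comp_apply, hl, Scheme.Hom.comp_apply, Scheme.fromSpecResidueField_apply]

end Groth.Agent.Helper18ProdSurj
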