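import Mathlib

/-!
# Homogeneous prime avoidance and affine opens containing finite sets in subschemes of Proj (helper18)
-/
set_option linter.style.haveILetI false
set_option autoImplicit false
universe u
open AlgebraicGeometry CategoryTheory

namespace Groth.Agent.Helper18ProjAvoid

variable {R A : Type u} [CommRing R] [CommRing A] [Algebra R A]
  (𝒜 : ℕ → Submodule R A) [GradedAlgebra 𝒜]

/-- a homogeneous ideal not contained in a homogeneous prime has a homogeneous element outside -/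
theorem exists_homog_notMem (J : HomogeneousIdeal 𝒜) (x : ProjectiveSpectrum 𝒜)
    (h : ¬ J.toIdeal ≤ x.asHomogeneousIdeal.toIdeal) :
    ∃ (i : ℕ) (a : A), a ∈ 𝒜 i ∧ a ∈ J.toIdeal ∧ a ∉ x.asHomogeneousIdeal := by
  classical
  obtain ⟨k, hkJ, hkx⟩ := Set.not_subset.1 h
  by_contra hcon
  push Not at hcon
  apply hkx
  rw [← DirectSum.sum_support_decompose 𝒜 k]
  refine Ideal.sum_mem _ fun i _ => ?_
  exact hcon i _ (SetLike.coe_mem _) (J.isHomogeneous i hkJ)

theorem exists_pos_notMem (x : ProjectiveSpectrum 𝒜) :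
    ∃ (m : ℕ) (s : A), 0 < m ∧ s ∈ 𝒜 m ∧ s ∉ x.asHomogeneousIdeal := by
  obtain ⟨i, a, hai, haJ, hax⟩ := exists_homog_notMem 𝒜 (HomogeneousIdeal.irrelevant 𝒜) x
    (fun h => x.not_irrelevant_le h)
  refine ⟨i, a, ?_, hai, hax⟩
  rcases Nat.eq_zero_or_pos i with rfl | hi
  · exfalso
    apply hax
    have h0 : a = 0 := by
      have := (HomogeneousIdeal.mem_irrelevant_iff 𝒜 a).1 haJ
      rw [GradedRing.proj_apply, DirectSum.decompose_of_mem_same 𝒜 hai] at this
      exact this
    rw [h0]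
    exact zero_mem _
  · exact hi

theorem exists_mem_others (q : ProjectiveSpectrum 𝒜) (P : Finset (ProjectiveSpectrum 𝒜))
    (hP : ∀ p ∈ P, ¬ p.asHomogeneousIdeal.toIdeal ≤ q.asHomogeneousIdeal.toIdeal) :
    ∃ (i : ℕ) (y : A), y ∈ 𝒜 i ∧ (∀ p ∈ P, y ∈ p.asHomogeneousIdeal) ∧
      y ∉ q.asHomogeneousIdeal := by
  classical
  induction P using Finset.induction_on with
  | empty =>
    refine ⟨0, 1, SetLike.GradedOne.one_mem, by simp, ?_⟩
    exact (Ideal.ne_top_iff_one _).1 q.isPrime.ne_top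
  | insert p P hp ih =>
    obtain ⟨i, y, hyi, hyP, hyq⟩ := ih (fun p' hp' => hP p' (Finset.mem_insert_of_mem hp'))
    obtain ⟨j, a, haj, hap, haq⟩ := exists_homog_notMem 𝒜 p.asHomogeneousIdeal q
      (hP p (Finset.mem_insert_self _ _))
    refine ⟨j + i, a * y, SetLike.mul_mem_graded haj hyi, ?_, ?_⟩
    · intro p' hp'
      rcases Finset.mem_insert.1 hp' with rfl | hp'
      · exact Ideal.mul_mem_right _ _ hap
      · exact Ideal.mul_mem_left _ _ (hyP p' hp')
    · intro h
      rcases q.isPrime.mem_or_mem h with h | h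
      · exact haq h
      · exact hyq h

/-- homogeneous prime avoidance -/
theorem avoid (J : HomogeneousIdeal 𝒜) (P : Finset (ProjectiveSpectrum 𝒜))
    (hP : ∀ p ∈ P, ¬ J.toIdeal ≤ p.asHomogeneousIdeal.toIdeal) :
    ∃ (n : ℕ) (f : A), 0 < n ∧ f ∈ 𝒜 n ∧ f ∈ J.toIdeal ∧ ∀ p ∈ P, f ∉ p.asHomogeneousIdeal := by
  classical
  induction P using Finset.induction_on with
  | empty =>
    exact ⟨1, 0, Nat.one_pos, zero_mem _, zero_mem _, by simp⟩
  | insert q P hq ih =>
    obtain ⟨n, g, hn, hgn, hgJ, hgP⟩ := ih (fun p hp => hP p (Finset.mem_insert_of_mem hp))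
    by_cases hgq : g ∈ q.asHomogeneousIdeal
    · -- build h
      set P₁ := P.filter (fun p => ¬ p.asHomogeneousIdeal.toIdeal ≤ q.asHomogeneousIdeal.toIdeal)
        with hP₁
      obtain ⟨i, y, hyi, hyP, hyq⟩ := exists_mem_others 𝒜 q P₁
        (fun p hp => (Finset.mem_filter.1 hp).2)
      obtain ⟨j, a, haj, haJ, haq⟩ := exists_homog_notMem 𝒜 J q
        (hP q (Finset.mem_insert_self _ _))
      obtain ⟨m, s, hm, hsm, hsq⟩ := exists_pos_notMem 𝒜 q
      set h := s * (a * y) with hh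
      have hhd : h ∈ 𝒜 (m + (j + i)) := SetLike.mul_mem_graded hsm (SetLike.mul_mem_graded haj hyi)
      have hhJ : h ∈ J.toIdeal := Ideal.mul_mem_left _ _ (Ideal.mul_mem_right _ _ haJ)
      have hhq : h ∉ q.asHomogeneousIdeal := by
        intro hc
        rcases q.isPrime.mem_or_mem hc with hc | hc
        · exact hsq hc
        · rcases q.isPrime.mem_or_mem hc with hc | hc
          · exact haq hc
          · exact hyq hc
      have hhP : ∀ p ∈ P₁, h ∈ p.asHomogeneousIdeal := fun p hp =>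
        Ideal.mul_mem_left _ _ (Ideal.mul_mem_left _ _ (hyP p hp))
      set d := m + (j + i) with hd
      have hdpos : 0 < d := by omega
      refine ⟨n * d, g ^ d + h ^ n, Nat.mul_pos hn hdpos, ?_, ?_, ?_⟩
      · refine add_mem ?_ ?_
        · have := SetLike.pow_mem_graded d hgn
          rwa [smul_eq_mul, mul_comm] at this
        · have := SetLike.pow_mem_graded n hhd
          rwa [smul_eq_mul] at this
      · exact add_mem (Ideal.pow_mem_of_mem _ hgJ _ hdpos) (Ideal.pow_mem_of_mem _ hhJ _ hn)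
      · intro p hp
        have key : g ^ d + h ^ n ∉ q.asHomogeneousIdeal := by
          intro hc
          have h1 : g ^ d ∈ q.asHomogeneousIdeal.toIdeal := Ideal.pow_mem_of_mem _ hgq _ hdpos
          have h2 : h ^ n ∈ q.asHomogeneousIdeal.toIdeal := by
            have := Ideal.sub_mem _ hc h1
            rwa [add_sub_cancel_left] at this
          exact hhq (q.isPrime.mem_of_pow_mem _ h2)
        rcases Finset.mem_insert.1 hp with rfl | hp
        · exact key
        · by_cases hpq : p.asHomogeneousIdeal.toIdeal ≤ q.asHomogeneousIdeal.toIdeal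
          · exact fun hc => key (hpq hc)
          · have hp1 : p ∈ P₁ := Finset.mem_filter.2 ⟨hp, hpq⟩
            intro hc
            have h2 : h ^ n ∈ p.asHomogeneousIdeal.toIdeal :=
              Ideal.pow_mem_of_mem _ (hhP p hp1) _ hn
            have h1 : g ^ d ∈ p.asHomogeneousIdeal.toIdeal := by
              have := Ideal.sub_mem _ hc h2
              rwa [add_sub_cancel_right] at this
            exact hgP p hp (p.isPrime.mem_of_pow_mem _ h1)
    · refine ⟨n, g, hn, hgn, hgJ, ?_⟩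
      intro p hp
      rcases Finset.mem_insert.1 hp with rfl | hp
      · exact hgq
      · exact hgP p hp

theorem main {X : Scheme.{u}} (ι : X ⟶ Proj 𝒜) [IsImmersion ι]
    (E : Set X) (hE : E.Finite) :
    ∃ U : X.Opens, IsAffineOpen U ∧ E ⊆ U := by
  classical
  set Uc : (Proj 𝒜).Opens := ι.coborderRange with hUc
  set Z : Set (ProjectiveSpectrum 𝒜) := (Uc : Set (Proj 𝒜))ᶜ with hZ
  have hZc : IsClosed Z := Uc.2.isClosed_compl
  set J := ProjectiveSpectrum.vanishingIdeal Z with hJ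
  have hJZ : ProjectiveSpectrum.zeroLocus 𝒜 (J : Set A) = Z := by
    rw [hJ, ProjectiveSpectrum.zeroLocus_vanishingIdeal_eq_closure, hZc.closure_eq]
  have hrange : ∀ x : X, ι x ∈ Uc := fun x => subset_coborder ⟨x, rfl⟩
  set P : Finset (ProjectiveSpectrum 𝒜) := hE.toFinset.image (fun x => (ι x : ProjectiveSpectrum 𝒜))
    with hP
  have hPJ : ∀ p ∈ P, ¬ J.toIdeal ≤ p.asHomogeneousIdeal.toIdeal := by
    intro p hp hle
    obtain ⟨x, -, rfl⟩ := Finset.mem_image.1 hp
    have : (ι x : ProjectiveSpectrum 𝒜) ∈ ProjectiveSpectrum.zeroLocus 𝒜 (J : Set A) :=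
      (ProjectiveSpectrum.mem_zeroLocus 𝒜 _ _).2 hle
    rw [hJZ] at this
    exact this (hrange x)
  obtain ⟨n, f, hn, hfn, hfJ, hfP⟩ := avoid 𝒜 J P hPJ
  set D : (Proj 𝒜).Opens := Proj.basicOpen 𝒜 f with hD
  have hDaff : IsAffineOpen D := Proj.isAffineOpen_basicOpen 𝒜 f hfn hn
  have hDU : D ≤ Uc := by
    intro y hy
    by_contra hyU
    have : (y : ProjectiveSpectrum 𝒜) ∈ ProjectiveSpectrum.zeroLocus 𝒜 (J : Set A) := by
      rw [hJZ]; exact hyU
    exact hy ((ProjectiveSpectrum.mem_zeroLocus 𝒜 _ _).1 this hfJ)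
  refine ⟨ι ⁻¹ᵁ D, ?_, ?_⟩
  · have h1 : IsAffineOpen (Uc.ι ⁻¹ᵁ D) :=
      hDaff.preimage_of_isOpenImmersion Uc.ι (by rw [Scheme.Opens.opensRange_ι]; exact hDU)
    have h2 : IsAffineOpen (ι.liftCoborder ⁻¹ᵁ (Uc.ι ⁻¹ᵁ D)) := h1.preimage ι.liftCoborder
    rw [← Scheme.Hom.comp_preimage, Scheme.Hom.liftCoborder_ι] at h2
    exact h2
  · intro x hx
    change ι x ∈ D
    rw [hD, Proj.mem_basicOpen]
    apply hfP
    exact Finset.mem_image.2 ⟨x, hE.mem_toFinset.2 hx, rfl⟩

end Groth.Agent.Helper18ProjAvoid
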