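import Mathlib

/-!
# Proj of a normal graded ring is normal (helper18)
-/
set_option linter.style.haveILetI false
set_option autoImplicit false
universe u
open AlgebraicGeometry CategoryTheory HomogeneousLocalization

namespace Groth.Agent.Helper18ProjNormal

/-- integrally closed descends along an injective map with a divisibility property -/
theorem ic_of_injective {B L : Type*} [CommRing B] [CommRing L] [IsDomain L]
    [IsIntegrallyClosed L] (φ : B →+* L) (hφ : Function.Injective φ)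
    (hdiv : ∀ a b : B, b ≠ 0 → ∀ w : L, w * φ b = φ a → ∃ c : B, φ c = w) :
    IsDomain B ∧ IsIntegrallyClosed B := by
  haveI : IsDomain B := hφ.isDomain φ
  refine ⟨inferInstance, ?_⟩
  let K := FractionRing B
  let M := FractionRing L
  have hinj : Function.Injective ((algebraMap L M).comp φ) :=
    (IsFractionRing.injective L M).comp hφ
  let ψ : K →+* M := IsFractionRing.lift hinj
  have hψ : ∀ x : B, ψ (algebraMap B K x) = algebraMap L M (φ x) := fun x =>
    IsFractionRing.lift_algebraMap hinj x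
  rw [isIntegrallyClosed_iff K]
  intro z hz
  obtain ⟨a, b, hb, rfl⟩ := IsFractionRing.div_surjective (A := B) z
  have hb0 : b ≠ 0 := nonZeroDivisors.ne_zero hb
  obtain ⟨P, hPm, hP⟩ := hz
  have h1 : Polynomial.eval₂ (algebraMap L M) (ψ (algebraMap B K a / algebraMap B K b))
      (P.map φ) = 0 := by
    rw [Polynomial.eval₂_map]
    have := congrArg ψ hP
    rw [Polynomial.hom_eval₂, map_zero] at this
    rw [← this]
    congr 1
    ext x
    simp [hψ]
  have h2 : IsIntegral L (ψ (algebraMap B K a / algebraMap B K b)) :=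
    ⟨P.map φ, hPm.map φ, h1⟩
  obtain ⟨w, hw⟩ := IsIntegrallyClosed.algebraMap_eq_of_integral h2
  have hb1 : algebraMap L M (φ b) ≠ 0 := by
    intro h
    exact hb0 (hφ ((IsFractionRing.injective L M) (by rw [h, map_zero, map_zero])))
  have h3 : w * φ b = φ a := by
    apply IsFractionRing.injective L M
    rw [map_mul, hw, map_div₀, hψ, hψ, div_mul_cancel₀ _ hb1]
  obtain ⟨c, hc⟩ := hdiv a b hb0 w h3
  refine ⟨c, ?_⟩
  have h4 : c * b = a := by
    apply hφ
    rw [map_mul, hc, h3]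
  have hb2 : algebraMap B K b ≠ 0 := by
    intro h
    exact hb0 ((IsFractionRing.injective B K) (by rw [h, map_zero]))
  rw [eq_div_iff hb2, ← map_mul, h4]

variable {A : Type u} [CommRing A] (𝒜 : ℕ → AddSubgroup A) [GradedRing 𝒜]

theorem hdiv (p : Ideal A) [p.IsPrime] [IsDomain (Localization.AtPrime p)]
    (a b : AtPrime 𝒜 p) (hb : b ≠ 0) (w : Localization.AtPrime p)
    (hw : w * b.val = a.val) : ∃ c : AtPrime 𝒜 p, c.val = w := by
  classical
  obtain ⟨⟨α, a₁, a₂, ha₂⟩, rfl⟩ := mk_surjective a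
  obtain ⟨⟨β, b₁, b₂, hb₂⟩, rfl⟩ := mk_surjective b
  induction w using Localization.induction_on with
  | H us =>
  obtain ⟨u, s⟩ := us
  rw [val_mk, val_mk, Localization.mk_mul, Localization.mk_eq_mk_iff, Localization.r_iff_exists]
    at hw
  obtain ⟨t, ht⟩ := hw
  dsimp only at ht
  have ht' : (t : A) * ((a₂ : A) * (u * (b₁ : A))) = (t : A) * (((s : A) * (b₂ : A)) * (a₁ : A)) := by
    simpa only [Submonoid.coe_mul] using ht
  -- U * X = S * Y
  set U : A := t * u with hU
  set S : A := t * s with hS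
  have hSp : S ∉ p := fun h => (p.primeCompl.mul_mem t.2 s.2) h
  set X : A := (b₁ : A) * a₂ with hX
  set Y : A := (a₁ : A) * b₂ with hY
  have hXd : X ∈ 𝒜 (β + α) := SetLike.mul_mem_graded b₁.2 a₂.2
  have hYd : Y ∈ 𝒜 (β + α) := by
    have := SetLike.mul_mem_graded a₁.2 b₂.2
    rwa [add_comm] at this
  have hE : U * X = S * Y := by
    rw [hU, hS, hX, hY]
    linear_combination ht'
  have hcomp : ∀ i, (DirectSum.decompose 𝒜 U i : A) * X = (DirectSum.decompose 𝒜 S i : A) * Y := by
    intro i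
    rw [← DirectSum.coe_decompose_mul_add_of_right_mem 𝒜 hXd,
      ← DirectSum.coe_decompose_mul_add_of_right_mem 𝒜 hYd, hE]
  obtain ⟨e, he⟩ : ∃ e, (DirectSum.decompose 𝒜 S e : A) ∉ p := by
    by_contra hcon
    push Not at hcon
    apply hSp
    rw [← DirectSum.sum_support_decompose 𝒜 S]
    exact Ideal.sum_mem _ fun i _ => hcon i
  let c : AtPrime 𝒜 p := mk ⟨e, DirectSum.decompose 𝒜 U e, DirectSum.decompose 𝒜 S e, he⟩
  refine ⟨c, ?_⟩
  have hbv : (mk ⟨β, b₁, b₂, hb₂⟩ : AtPrime 𝒜 p).val ≠ 0 := by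
    intro h
    apply hb
    apply val_injective
    rw [h, val_zero]
  have h1 : c.val * (mk ⟨β, b₁, b₂, hb₂⟩ : AtPrime 𝒜 p).val
      = (mk ⟨α, a₁, a₂, ha₂⟩ : AtPrime 𝒜 p).val := by
    rw [val_mk, val_mk, val_mk, Localization.mk_mul, Localization.mk_eq_mk_iff,
      Localization.r_iff_exists]
    refine ⟨1, ?_⟩
    dsimp only
    have := hcomp e
    rw [hX, hY] at this
    simp only [Submonoid.coe_mul, OneMemClass.coe_one, one_mul]
    linear_combination this
  have h2 : Localization.mk u s * (mk ⟨β, b₁, b₂, hb₂⟩ : AtPrime 𝒜 p).val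
      = (mk ⟨α, a₁, a₂, ha₂⟩ : AtPrime 𝒜 p).val := by
    rw [val_mk, val_mk, Localization.mk_mul, Localization.mk_eq_mk_iff,
      Localization.r_iff_exists]
    exact ⟨t, ht⟩
  have h3 : (c.val - Localization.mk u s) * (mk ⟨β, b₁, b₂, hb₂⟩ : AtPrime 𝒜 p).val = 0 := by
    rw [sub_mul, h1, h2, sub_self]
  rcases mul_eq_zero.1 h3 with h | h
  · exact sub_eq_zero.1 h
  · exact absurd h hbv

theorem atPrime_normal (p : Ideal A) [p.IsPrime] [IsDomain (Localization.AtPrime p)]
    [IsIntegrallyClosed (Localization.AtPrime p)] :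
    IsDomain (AtPrime 𝒜 p) ∧ IsIntegrallyClosed (AtPrime 𝒜 p) := by
  refine ic_of_injective (algebraMap (AtPrime 𝒜 p) (Localization.AtPrime p)) ?_ ?_
  · intro x y h
    exact val_injective _ h
  · intro a b hb w hw
    exact hdiv 𝒜 p a b hb w hw

theorem main
    (hA : ∀ (p : Ideal A) [p.IsPrime], IsDomain (Localization.AtPrime p) ∧
      IsIntegrallyClosed (Localization.AtPrime p))
    (x : Proj 𝒜) :
    IsDomain ((Proj 𝒜).presheaf.stalk x) ∧ IsIntegrallyClosed ((Proj 𝒜).presheaf.stalk x) := by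
  haveI := (hA x.asHomogeneousIdeal.toIdeal).1
  haveI := (hA x.asHomogeneousIdeal.toIdeal).2
  obtain ⟨h1, h2⟩ := atPrime_normal 𝒜 x.asHomogeneousIdeal.toIdeal
  let e : (Proj 𝒜).presheaf.stalk x ≃+* AtPrime 𝒜 x.asHomogeneousIdeal.toIdeal :=
    (Proj.stalkIso 𝒜 x).commRingCatIsoToRingEquiv
  exact ⟨e.toMulEquiv.isDomain _, IsIntegrallyClosed.of_equiv e.symm⟩

end Groth.Agent.Helper18ProjNormal
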