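import Mathlib
import Groth.Prelude.Def_W4c4chowquasisplitNorm
set_option linter.style.haveILetI false

universe u
open AlgebraicGeometry CategoryTheory

namespace Groth.Agent.Helper18Pt

/-- For a field `R`, the canonical map `R → κ(x)` at a point of `Spec R`. -/
noncomputable def toRes (R : Type u) [Field R] (x : Spec (CommRingCat.of R)) :
    R →+* (Spec (CommRingCat.of R)).residueField x :=
  ((Scheme.ΓSpecIso (CommRingCat.of R)).inv ≫ (Spec (CommRingCat.of R)).Γevaluation x).hom

lemma toRes_bijective (R : Type u) [Field R] (x : Spec (CommRingCat.of R)) :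
    Function.Bijective (toRes R x) := by
  refine ⟨(toRes R x).injective, ?_⟩
  have h := Scheme.Spec.algebraMap_residueFieldIso_inv (CommRingCat.of R) x
  have hmax : x.asIdeal.IsMaximal := by
    have : x.asIdeal = ⊥ := by
      have := x.isPrime
      exact (Ideal.eq_bot_or_top _).resolve_right this.ne_top
    rw [this]; exact Ideal.bot_isMaximal
  have hs : Function.Surjective (algebraMap R x.asIdeal.ResidueField) :=
    x.asIdeal.algebraMap_residueField_surjective
  have : toRes R x = ((Scheme.Spec.residueFieldIso (CommRingCat.of R) x).inv.hom).comp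
      (algebraMap R x.asIdeal.ResidueField) := by
    have := congrArg CommRingCat.Hom.hom h
    rw [toRes, Scheme.Γevaluation, ← Scheme.germ_residue]
    simpa using this.symm
  rw [this]
  exact ((ConcreteCategory.bijective_of_isIso
    (Scheme.Spec.residueFieldIso (CommRingCat.of R) x).inv).2).comp hs

lemma residueDegree_Spec_field (k F : Type u) [Field k] [Field F] [Algebra k F]
    (x : Spec (CommRingCat.of F)) :
    (Spec.map (CommRingCat.ofHom (algebraMap k F))).residueDegree x = Module.finrank k F := by
  set f := Spec.map (CommRingCat.ofHom (algebraMap k F)) with hf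
  letI := (f.residueFieldMap x).hom.toAlgebra
  change Module.finrank ((Spec (CommRingCat.of k)).residueField (f x))
    ((Spec (CommRingCat.of F)).residueField x) = _
  symm
  refine Algebra.finrank_eq_of_equiv_equiv (RingEquiv.ofBijective _ (toRes_bijective k (f x)))
    (RingEquiv.ofBijective _ (toRes_bijective F x)) ?_
  ext a
  change (f.residueFieldMap x).hom (toRes k (f x) a) = toRes F x (algebraMap k F a)
  simp only [toRes, CommRingCat.hom_comp, RingHom.comp_apply]
  have h1 := Scheme.Γevaluation_naturality_apply f x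
    ((Scheme.ΓSpecIso (CommRingCat.of k)).inv.hom a)
  rw [h1]
  congr 1
  have h2 := Scheme.ΓSpecIso_inv_naturality (CommRingCat.ofHom (algebraMap k F))
  have h3 := congrArg (fun g => g.hom a) h2
  exact h3.symm

section pt
variable (k : Type u) [Field k]

instance : Subsingleton (Spec (CommRingCat.of k)) :=
  inferInstanceAs (Subsingleton (PrimeSpectrum k))

/-- The point of `Spec k`. -/
noncomputable def pt : Spec (CommRingCat.of k) := IsLocalRing.closedPoint k

/-- evaluation of zero-cycles of the point. -/
noncomputable def evZ : ↥(ChowOps.zk (Spec (CommRingCat.of k)) (fun _ => 0) 0) →+ ℤ where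
  toFun a := (a : AlgebraicCycle (Spec (CommRingCat.of k)) ℤ) (pt k)
  map_zero' := rfl
  map_add' _ _ := rfl

lemma ratTriv_le : ChowOps.ratTriv (Spec (CommRingCat.of k)) (fun _ => 0) 0 ≤ (evZ k).ker := by
  rw [ChowOps.ratTriv, AddSubgroup.closure_le]
  rintro a ⟨ι, ξ, f, hδ, -, -, hα⟩
  have : IsEmpty ι := ⟨fun i => by have := hδ i; simp at this⟩
  change (a : AlgebraicCycle (Spec (CommRingCat.of k)) ℤ) (pt k) = 0
  rw [hα, finsum_of_isEmpty]

/-- The degree isomorphism `CH_0(Spec k) → ℤ` (as a homomorphism). -/
noncomputable def ev : ChowOps.CH (Spec (CommRingCat.of k)) (fun _ => 0) 0 →+ ℤ :=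
  QuotientAddGroup.lift _ (evZ k) (ratTriv_le k)

lemma ev_cl (α : AlgebraicCycle (Spec (CommRingCat.of k)) ℤ)
    (h : α ∈ Cyc.Zk (Spec (CommRingCat.of k)) (fun _ => 0) 0) :
    ev k (ChowOps.cl α h) = α (pt k) := rfl

lemma ev_injective : Function.Injective (ev k) := by
  rw [injective_iff_map_eq_zero]
  intro c hc
  induction c using QuotientAddGroup.induction_on with
  | H a =>
    have h0 : (a : AlgebraicCycle (Spec (CommRingCat.of k)) ℤ) (pt k) = 0 := hc
    have : a = 0 := by
      apply Subtype.ext
      apply Function.locallyFinsuppWithin.ext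
      intro x
      rw [Subsingleton.elim x (pt k), h0]; rfl
    rw [this]; rfl

lemma mem_Zk (α : AlgebraicCycle (Spec (CommRingCat.of k)) ℤ) :
    α ∈ Cyc.Zk (Spec (CommRingCat.of k)) (fun _ => 0) 0 := fun _ hx => absurd rfl hx

lemma ev_surjective : Function.Surjective (ev k) := by
  classical
  intro n
  refine ⟨ChowOps.cl (Function.locallyFinsuppWithin.single (pt k) n) (mem_Zk k _), ?_⟩
  rw [ev_cl]
  simp

end pt

section push
variable (k F : Type u) [Field k] [Field F] [Algebra k F]

lemma map_apply_pt (α : AlgebraicCycle (Spec (CommRingCat.of F)) ℤ) :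
    AlgebraicCycle.map (Spec.map (CommRingCat.ofHom (algebraMap k F)))
      (fun _ => (0 : ℤ)) (fun _ => (0 : ℤ)) α (pt k) = α (pt F) * (Module.finrank k F : ℤ) := by
  rw [AlgebraicCycle.map, Function.locallyFinsupp.map_apply]
  have hset : (Spec.map (CommRingCat.ofHom (algebraMap k F))) ⁻¹' {pt k} = {pt F} := by
    ext y
    simp only [Set.mem_preimage, Set.mem_singleton_iff]
    exact ⟨fun _ => Subsingleton.elim _ _, fun _ => Subsingleton.elim _ _⟩
  rw [hset, finsum_mem_singleton]
  simp [AlgebraicCycle.mapCoeff, residueDegree_Spec_field]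

end push


section norm
variable (k : Type u) [Field k] (K : Type u) [Field K] [Algebra k K]

/-- the set of degrees of finite nontrivial subextensions -/
def degSet : Set ℤ :=
  {d | ∃ F : IntermediateField k K, FiniteDimensional k F ∧ F ≠ ⊥ ∧ d = (Module.finrank k F : ℤ)}

lemma map_ev_ptNormSubgroup :
    (QsChow.ptNormSubgroup k K).map (ev k) = AddSubgroup.closure (degSet k K) := by
  classical
  rw [QsChow.ptNormSubgroup, AddMonoidHom.map_closure]
  apply le_antisymm
  · rw [AddSubgroup.closure_le]
    rintro _ ⟨c, ⟨F, hF, hne, α, h, rfl⟩, rfl⟩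
    rw [ev_cl, map_apply_pt]
    have : (Module.finrank k F : ℤ) ∈ AddSubgroup.closure (degSet k K) :=
      AddSubgroup.subset_closure ⟨F, hF, hne, rfl⟩
    have h2 := AddSubgroup.zsmul_mem _ this (α (pt F))
    rwa [smul_eq_mul] at h2
  · rw [AddSubgroup.closure_le]
    rintro _ ⟨F, hF, hne, rfl⟩
    apply AddSubgroup.subset_closure
    refine ⟨ChowOps.cl (AlgebraicCycle.map (Spec.map (CommRingCat.ofHom (algebraMap k F)))
        (fun _ => (0 : ℤ)) (fun _ => (0 : ℤ))
        (Function.locallyFinsuppWithin.single (pt F) 1)) (mem_Zk k _),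
      ⟨F, hF, hne, Function.locallyFinsuppWithin.single (pt F) 1, mem_Zk k _, rfl⟩, ?_⟩
    rw [ev_cl, map_apply_pt]
    simp

lemma ptNormSubgroup_eq_comap :
    QsChow.ptNormSubgroup k K = (AddSubgroup.closure (degSet k K)).comap (ev k) := by
  rw [← map_ev_ptNormSubgroup, AddSubgroup.comap_map_eq_self_of_injective (ev_injective k)]

end norm

section galois
variable {k : Type u} [Field k] {K : Type u} [Field K] [Algebra k K]

/-- A subgroup of the Galois group of a finite Galois subextension gives a subextension of degree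
its index. -/
lemma exists_intermediateField_finrank_eq_index (L : IntermediateField k K)
    [FiniteDimensional k L] [IsGalois k L] (H : Subgroup (L ≃ₐ[k] L)) :
    ∃ F : IntermediateField k K, FiniteDimensional k F ∧ Module.finrank k F = H.index := by
  classical
  let E : IntermediateField k L := IntermediateField.fixedField H
  refine ⟨IntermediateField.lift E, ?_, ?_⟩
  · exact (IntermediateField.liftAlgEquiv E).toLinearEquiv.finiteDimensional
  · rw [← (IntermediateField.liftAlgEquiv E).toLinearEquiv.finrank_eq,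
      IntermediateField.finrank_eq_fixingSubgroup_index, IntermediateField.fixingSubgroup_fixedField]

lemma ne_bot_of_finrank_ne_one {F : IntermediateField k K} (h : Module.finrank k F ≠ 1) :
    F ≠ ⊥ := by
  rintro rfl
  exact h IntermediateField.finrank_bot

end galois


section main
variable (k : Type u) [Field k] (K : Type u) [Field K] [Algebra k K]

theorem main1 (L : IntermediateField k K) [FiniteDimensional k L] [IsGalois k L]
    (hL : ∀ p n : ℕ, p.Prime → Module.finrank k L ≠ p ^ n) :
    QsChow.ptNormSubgroup k K = ⊤ := by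
  classical
  rw [ptNormSubgroup_eq_comap]
  suffices h : AddSubgroup.closure (degSet k K) = ⊤ by rw [h]; rfl
  set d := Module.finrank k L with hd
  have hd0 : d ≠ 0 := Module.finrank_pos.ne'
  have hcard : Nat.card (L ≃ₐ[k] L) = d := IsGalois.card_aut_eq_finrank k L
  -- the degrees `ordCompl[p] d` all occur
  have hmem : ∀ p : ℕ, p.Prime → ((d / p ^ d.factorization p : ℕ) : ℤ) ∈ degSet k K := by
    intro p hp
    haveI : Fact p.Prime := ⟨hp⟩
    obtain P : Sylow p (L ≃ₐ[k] L) := default
    obtain ⟨F, hF, hFr⟩ := exists_intermediateField_finrank_eq_index L (P : Subgroup (L ≃ₐ[k] L))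
    have hidx : (P : Subgroup (L ≃ₐ[k] L)).index = d / p ^ d.factorization p := by
      have h1 := (P : Subgroup (L ≃ₐ[k] L)).card_mul_index
      rw [hcard, P.card_eq_multiplicity, hcard] at h1
      exact (Nat.div_eq_of_eq_mul_right (pow_pos hp.pos _) h1.symm).symm
    refine ⟨F, hF, ne_bot_of_finrank_ne_one ?_, by rw [hFr, hidx]⟩
    rw [hFr, hidx]
    intro h1
    have : d = p ^ d.factorization p := by
      have := Nat.div_mul_cancel (Nat.ordProj_dvd d p)
      rw [h1, one_mul] at this
      exact this.symm
    exact hL p _ hp this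
  obtain ⟨a, ha⟩ := Int.subgroup_cyclic (AddSubgroup.closure (degSet k K))
  have hunit : a.natAbs = 1 := by
    by_contra hne
    obtain ⟨q, hq, hqa⟩ := Nat.exists_prime_and_dvd hne
    have h1 : ((d / q ^ d.factorization q : ℕ) : ℤ) ∈ AddSubgroup.closure {a} := by
      rw [← ha]; exact AddSubgroup.subset_closure (hmem q hq)
    rw [AddSubgroup.mem_closure_singleton] at h1
    obtain ⟨m, hm⟩ := h1
    have h2 : (q : ℤ) ∣ ((d / q ^ d.factorization q : ℕ) : ℤ) := by
      rw [← hm, smul_eq_mul]
      exact Dvd.dvd.mul_left (Int.natCast_dvd.mpr hqa) m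
    exact Nat.not_dvd_ordCompl hq hd0 (Int.natCast_dvd_natCast.mp h2)
  rw [ha, eq_top_iff]
  intro x _
  rw [AddSubgroup.mem_closure_singleton]
  rcases Int.natAbs_eq_iff.mp hunit with h | h
  · exact ⟨x, by rw [h]; simp⟩
  · exact ⟨-x, by rw [h]; simp⟩

theorem main2 (L : IntermediateField k K) [FiniteDimensional k L] [IsGalois k L]
    (p n : ℕ) (hp : p.Prime) (hn : 1 ≤ n) (hL : Module.finrank k L = p ^ n)
    (hF : ∀ F : IntermediateField k K, FiniteDimensional k F → ∃ e : ℕ, Module.finrank k F = p ^ e) :
    (QsChow.ptNormSubgroup k K).index = p := by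
  classical
  haveI : Fact p.Prime := ⟨hp⟩
  rw [ptNormSubgroup_eq_comap, AddSubgroup.index_comap_of_surjective _ (ev_surjective k)]
  suffices h : AddSubgroup.closure (degSet k K) = AddSubgroup.zmultiples (p : ℤ) by
    rw [h, Int.index_zmultiples, Int.natAbs_natCast]
  apply le_antisymm
  · rw [AddSubgroup.closure_le]
    rintro _ ⟨F, hFf, hne, rfl⟩
    obtain ⟨e, he⟩ := hF F hFf
    rw [SetLike.mem_coe, Int.mem_zmultiples_iff, he]
    have he0 : e ≠ 0 := by
      rintro rfl
      rw [pow_zero] at he
      exact hne (IntermediateField.finrank_eq_one_iff.mp he)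
    exact_mod_cast dvd_pow_self p he0
  · apply AddSubgroup.zmultiples_le_of_mem
    have hcard : Nat.card (L ≃ₐ[k] L) = p ^ n := by
      rw [IsGalois.card_aut_eq_finrank k L, hL]
    obtain ⟨H, hH⟩ := Sylow.exists_subgroup_card_pow_prime (G := L ≃ₐ[k] L) p (n := n - 1)
      (by rw [hcard]; exact pow_dvd_pow p (Nat.sub_le n 1))
    obtain ⟨F, hFf, hFr⟩ := exists_intermediateField_finrank_eq_index L H
    have hidx : H.index = p := by
      have h1 := H.card_mul_index
      rw [hcard, hH] at h1
      have h2 : p ^ n = p ^ (n - 1) * p := by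
        rw [← pow_succ]; congr 1; omega
      rw [h2] at h1
      exact Nat.eq_of_mul_eq_mul_left (pow_pos hp.pos _) h1
    apply AddSubgroup.subset_closure
    refine ⟨F, hFf, ne_bot_of_finrank_ne_one ?_, by rw [hFr, hidx]⟩
    rw [hFr, hidx]; exact hp.one_lt.ne'

end main

end Groth.Agent.Helper18Pt
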