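import Mathlib
import Groth.Prelude.Def_OmegaPn
import Groth.Agent.Lib.Helper18PushHomeo3

set_option autoImplicit false
set_option linter.style.haveILetI false
set_option linter.unusedSectionVars false
universe u
open CategoryTheory CategoryTheory.Limits AlgebraicGeometry Opposite TopologicalSpace

namespace Groth.Agent.Lib.Helper18.PushHomeo

section main
variable {X Y : Scheme.{u}} (h : Y ⟶ X) (hh : IsHomeomorph h.base)

include hh in
/-- the direct image along a morphism which is a homeomorphism on the underlying spaces preserves all
small colimits of modules -/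
theorem preservesColimits_pushforward_of_isHomeomorph :
    PreservesColimitsOfSize.{u, u} (Scheme.Modules.pushforward h) := by
  haveI : QuasiCompact h := ⟨fun U _ hU => (hh.homeomorph.isCompact_preimage).2 hU⟩
  haveI : (Scheme.Modules.pushforward h).PreservesEpimorphisms :=
    ⟨fun v _ => pushforward_map_epi h hh v⟩
  haveI : (Scheme.Modules.pushforward h).PreservesHomology :=
    Functor.preservesHomology_of_preservesEpis_and_kernels _
  haveI : PreservesFiniteColimits (Scheme.Modules.pushforward h) :=
    Functor.preservesFiniteColimits_of_preservesHomology _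
  haveI : ∀ J : Type u, PreservesColimitsOfShape (Discrete J) (Scheme.Modules.pushforward h) := by
    intro J
    haveI : ∀ F : J → Y.Modules,
        PreservesColimit (Discrete.functor F) (Scheme.Modules.pushforward h) := by
      intro F
      haveI := isIso_sigmaComparison_pushforward h F
      exact PreservesCoproduct.of_iso_comparison _ _
    exact preservesColimitsOfShape_of_discrete _
  exact preservesColimits_of_preservesCoequalizers_and_coproducts _

end main

section PP
variable {X S : Scheme.{u}} (f : X ⟶ S) (n : ℕ)

lemma isHomeomorph_pr1 : IsHomeomorph (PrinPart.pr1 f n).base := by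
  have h1 : Function.Surjective (PrinPart.toNbhd f n).base := PrinPart.toInfNbhd_surjective _ n
  have h2 : ∀ x : X, (PrinPart.pr1 f n).base ((PrinPart.toNbhd f n).base x) = x := fun x => by
    rw [← Scheme.Hom.comp_apply, PrinPart.toNbhd_pr1]; rfl
  have hinj : Function.Injective (PrinPart.pr1 f n).base := by
    intro a b hab
    obtain ⟨a', rfl⟩ := h1 a
    obtain ⟨b', rfl⟩ := h1 b
    rw [h2, h2] at hab
    rw [hab]
  have hsurj : Function.Surjective (PrinPart.pr1 f n).base := fun x => ⟨_, h2 x⟩
  refine ⟨(PrinPart.pr1 f n).continuous, ?_, ⟨hinj, hsurj⟩⟩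
  intro U hU
  have : (PrinPart.pr1 f n).base '' U = (PrinPart.toNbhd f n).base ⁻¹' U := by
    ext x
    constructor
    · rintro ⟨y, hy, rfl⟩
      obtain ⟨y', rfl⟩ := h1 y
      change (PrinPart.toNbhd f n).base _ ∈ U
      rw [h2]; exact hy
    · intro hx
      exact ⟨_, hx, h2 x⟩
  rw [this]
  exact hU.preimage (PrinPart.toNbhd f n).continuous

theorem preservesColimits_PMod :
    PreservesColimitsOfSize.{u, u}
      ((Scheme.Modules.pullback (PrinPart.pr2 f n)) ⋙ (Scheme.Modules.pushforward (PrinPart.pr1 f n))) := by
  haveI := preservesColimits_pushforward_of_isHomeomorph (PrinPart.pr1 f n) (isHomeomorph_pr1 f n)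
  haveI : PreservesColimitsOfSize.{u, u} (Scheme.Modules.pullback (PrinPart.pr2 f n)) :=
    (Scheme.Modules.pullbackPushforwardAdjunction (PrinPart.pr2 f n)).leftAdjoint_preservesColimits
  infer_instance

end PP

end Groth.Agent.Lib.Helper18.PushHomeo
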