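import Mathlib
import Groth.Agent.Lib.Helper22ThickAffine
import Groth.Agent.Lib.Helper23FinTypeLocal
import Groth.Agent.Lib.Helper18PushHomeo1

set_option autoImplicit false
set_option linter.style.haveILetI false
set_option linter.unusedSectionVars false
set_option linter.unusedVariables false
universe u
open CategoryTheory AlgebraicGeometry Limits TopologicalSpace Opposite

namespace Groth.Agent.Helper18PushNil

open Groth.Agent.Lib.Helper18.PushHomeo

section nil
variable {T Tc : Scheme.{u}} (i : T ⟶ Tc) [IsClosedImmersion i]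

theorem surjective_of_pow_ker_eq_bot (n : ℕ) (hn : n ≠ 0) (h : i.ker ^ n = ⊥) :
    Function.Surjective i := by
  have h1 : i.ker.support = ⊤ := by
    rw [← i.ker.support_pow n hn, h, Scheme.IdealSheafData.support_bot]
  have h2 : (i.ker.support : Set Tc) = closure (Set.range i) := Scheme.Hom.support_ker i
  rw [h1, i.isClosedEmbedding.isClosed_range.closure_eq] at h2
  rw [← Set.range_eq_univ]
  exact h2.symm

theorem surjective_of_nilpotent
    (hnil : ∃ n : ℕ, ∀ V : Tc.affineOpens, i.ker.ideal V ^ n = ⊥) : Function.Surjective i := by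
  obtain ⟨n, hn⟩ := hnil
  refine surjective_of_pow_ker_eq_bot i (n + 1) (Nat.succ_ne_zero n) ?_
  ext V : 2
  change (i.ker.ideal V) ^ (n + 1) = ⊥
  rw [pow_succ, hn V, Ideal.bot_mul]

end nil

section main
variable {T Tc U : Scheme.{u}} (i : T ⟶ Tc) [IsClosedImmersion i]
    (hnil : ∃ n : ℕ, ∀ V : Tc.affineOpens, i.ker.ideal V ^ n = ⊥)
    (u : T ⟶ U) [IsAffineHom u] (g : Tc.carrier ⟶ U.carrier) (hg : i.base ≫ g = u.base)

include hnil hg in
theorem isAffineOpen_map (V : U.Opens) (hV : IsAffineOpen V) :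
    IsAffineOpen ((Opens.map g).obj V) := by
  have hisurj := surjective_of_nilpotent i hnil
  haveI : Surjective i := ⟨hisurj⟩
  have h1 : i ⁻¹ᵁ ((Opens.map g).obj V) = u ⁻¹ᵁ V := by
    ext x
    change g (i.base x) ∈ V ↔ u.base x ∈ V
    rw [← hg]
    rfl
  have h2 : IsAffineOpen (i ⁻¹ᵁ ((Opens.map g).obj V)) := by
    rw [h1]
    exact hV.preimage u
  haveI : IsAffine ↑(i ⁻¹ᵁ ((Opens.map g).obj V)) := h2
  haveI : Surjective (i ∣_ ((Opens.map g).obj V)) :=
    IsZariskiLocalAtTarget.restrict ‹Surjective i› _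
  exact Groth.Agent.Lib.Helper22.ThickAffine.isAffine_of_thickening (i ∣_ ((Opens.map g).obj V))
    (i ∣_ ((Opens.map g).obj V)).surjective

include hnil hg in
theorem main_S19613 (M N : Tc.Modules) [M.IsQuasicoherent] [N.IsQuasicoherent] (φ : M ⟶ N) [Epi φ] :
    Epi ((SheafOfModules.pushforward (F := Opens.map g) (R := Tc.ringCatSheaf)
      (𝟙 (((Opens.map g).sheafPushforwardContinuous RingCat.{u} (Opens.grothendieckTopology U)
        (Opens.grothendieckTopology Tc)).obj Tc.ringCatSheaf))).map φ) := by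
  refine (epi_iff_locSurj (T := U.carrier) _).2 ?_
  intro V t x hx
  obtain ⟨V', hV', hxV', hV'V⟩ := exists_isAffineOpen_mem_and_subset (x := x) (U := V) hx
  have hW : IsAffineOpen ((Opens.map g).obj V') := isAffineOpen_map i hnil u g hg V' hV'
  have hle : (Opens.map g).obj V' ≤ (Opens.map g).obj V := fun y hy => hV'V hy
  obtain ⟨s, hs⟩ := Groth.Agent.Lib.Helper23.FinType.surjective_app_of_epi φ hW
    ((N.val.map (homOfLE hle).op).hom t)
  exact ⟨V', hV'V, ⟨s, hs⟩, hxV'⟩

end main

end Groth.Agent.Helper18PushNil
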