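import Mathlib

/-!
# Generators of the degree-zero localization `A_(f)`, `deg f = 1` (helper18)

For a graded ring `A` generated (as a ring) by a set `S₀` of elements of degree zero and a set `S₁` of elements of degree
one, and `f` of degree one, the ring `A_(f)` is generated by the `c / 1`, `c ∈ S₀`, and the `a / f`, `a ∈ S₁`.
-/

set_option autoImplicit false
set_option linter.unusedSectionVars false

namespace Groth.Agent.Helper18QA

open HomogeneousLocalization

variable {A σ : Type*} [CommRing A] [SetLike σ A] [AddSubgroupClass σ A] (𝒜 : ℕ → σ) [GradedRing 𝒜]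

theorem decompose_mem_smul_one (k : ℕ) (a : A) : ((DirectSum.decompose 𝒜 a k : 𝒜 k) : A) ∈ 𝒜 (k • 1) := by
  have h : k • 1 = k := by simp
  rw [h]
  exact (DirectSum.decompose 𝒜 a k).2

/-- `a_k / f^k`, with `a_k` the component of `a` of degree `k` -/
noncomputable def q {f : A} (hf : f ∈ 𝒜 1) (k : ℕ) (a : A) : Away 𝒜 f :=
  Away.mk 𝒜 hf k ((DirectSum.decompose 𝒜 a k : 𝒜 k) : A) (decompose_mem_smul_one 𝒜 k a)

theorem val_q {f : A} (hf : f ∈ 𝒜 1) (k : ℕ) (a : A) :
    (q 𝒜 hf k a).val = Localization.mk ((DirectSum.decompose 𝒜 a k : 𝒜 k) : A) (⟨f ^ k, ⟨k, rfl⟩⟩ : Submonoid.powers f) :=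
  Away.val_mk _ _ _ _ _

variable {𝒜}

theorem mem_smul_one_of_mem {k : ℕ} {a : A} (ha : a ∈ 𝒜 k) : a ∈ 𝒜 (k • 1) := by
  have h : k • 1 = k := by simp
  rw [h]; exact ha

/-- **generators of `A_(f)`** -/
theorem closure_eq_top {f : A} (hf : f ∈ 𝒜 1) (S₀ S₁ : Set A) (h₀ : ∀ c ∈ S₀, c ∈ 𝒜 0) (h₁ : ∀ a ∈ S₁, a ∈ 𝒜 1)
    (hgen : Subring.closure (S₀ ∪ S₁) = ⊤) :
    Subring.closure ({x : Away 𝒜 f | ∃ c, ∃ hc : c ∈ S₀, x = Away.mk 𝒜 hf 0 c (mem_smul_one_of_mem (h₀ c hc))} ∪
      {x : Away 𝒜 f | ∃ a, ∃ ha : a ∈ S₁, x = Away.mk 𝒜 hf 1 a (mem_smul_one_of_mem (h₁ a ha))}) = ⊤ := by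
  classical
  set S := Subring.closure ({x : Away 𝒜 f | ∃ c, ∃ hc : c ∈ S₀, x = Away.mk 𝒜 hf 0 c (mem_smul_one_of_mem (h₀ c hc))} ∪
      {x : Away 𝒜 f | ∃ a, ∃ ha : a ∈ S₁, x = Away.mk 𝒜 hf 1 a (mem_smul_one_of_mem (h₁ a ha))}) with hS
  -- the key predicate
  have hzero : ∀ k, q 𝒜 hf k 0 = 0 := fun k => by
    apply HomogeneousLocalization.val_injective
    rw [val_q, DirectSum.decompose_zero, HomogeneousLocalization.val_zero]
    simp [Localization.mk_zero]
  have hadd : ∀ k a b, q 𝒜 hf k (a + b) = q 𝒜 hf k a + q 𝒜 hf k b := fun k a b => by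
    apply HomogeneousLocalization.val_injective
    rw [HomogeneousLocalization.val_add, val_q, val_q, val_q, DirectSum.decompose_add, DirectSum.add_apply,
      AddMemClass.coe_add, Localization.add_mk_self]
  have hneg : ∀ k a, q 𝒜 hf k (-a) = - q 𝒜 hf k a := fun k a => by
    apply HomogeneousLocalization.val_injective
    rw [HomogeneousLocalization.val_neg, val_q, val_q, DirectSum.decompose_neg]
    have : ((-(DirectSum.decompose 𝒜) a) k : 𝒜 k) = -((DirectSum.decompose 𝒜) a k) := rfl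
    rw [this, NegMemClass.coe_neg, Localization.neg_mk]
  have hone : ∀ k, q 𝒜 hf k 1 ∈ S := fun k => by
    by_cases hk : k = 0
    · subst hk
      have : q 𝒜 hf 0 1 = 1 := by
        apply HomogeneousLocalization.val_injective
        rw [val_q, HomogeneousLocalization.val_one,
          DirectSum.decompose_of_mem_same 𝒜 (SetLike.GradedOne.one_mem : (1 : A) ∈ 𝒜 0)]
        simp
      rw [this]; exact S.one_mem
    · have : q 𝒜 hf k 1 = 0 := by
        apply HomogeneousLocalization.val_injective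
        rw [val_q, HomogeneousLocalization.val_zero,
          DirectSum.decompose_of_mem_ne 𝒜 (SetLike.GradedOne.one_mem : (1 : A) ∈ 𝒜 0) (Ne.symm hk)]
        simp [Localization.mk_zero]
      rw [this]; exact S.zero_mem
  have hmul0 : ∀ c (hc : c ∈ S₀) (m : A), (∀ k, q 𝒜 hf k m ∈ S) → ∀ k, q 𝒜 hf k (c * m) ∈ S := by
    intro c hc m hm k
    have : q 𝒜 hf k (c * m) = Away.mk 𝒜 hf 0 c (mem_smul_one_of_mem (h₀ c hc)) * q 𝒜 hf k m := by
      apply HomogeneousLocalization.val_injective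
      rw [HomogeneousLocalization.val_mul, val_q, val_q, Away.val_mk,
        DirectSum.coe_decompose_mul_of_left_mem_zero 𝒜 (h₀ c hc), Localization.mk_mul]
      congr 1
      ext
      simp
    rw [this]
    exact S.mul_mem (Subring.subset_closure (Or.inl ⟨c, hc, rfl⟩)) (hm k)
  have hmul1 : ∀ a (ha : a ∈ S₁) (m : A), (∀ k, q 𝒜 hf k m ∈ S) → ∀ k, q 𝒜 hf k (a * m) ∈ S := by
    intro a ha m hm k
    rcases Nat.eq_zero_or_pos k with hk | hk
    · subst hk
      have : q 𝒜 hf 0 (a * m) = 0 := by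
        apply HomogeneousLocalization.val_injective
        rw [val_q, HomogeneousLocalization.val_zero,
          DirectSum.coe_decompose_mul_of_left_mem_of_not_le 𝒜 (h₁ a ha) (by norm_num)]
        simp [Localization.mk_zero]
      rw [this]; exact S.zero_mem
    · obtain ⟨k', rfl⟩ : ∃ k', k = 1 + k' := ⟨k - 1, by omega⟩
      have : q 𝒜 hf (1 + k') (a * m) = Away.mk 𝒜 hf 1 a (mem_smul_one_of_mem (h₁ a ha)) * q 𝒜 hf k' m := by
        apply HomogeneousLocalization.val_injective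
        rw [HomogeneousLocalization.val_mul, val_q, val_q, Away.val_mk,
          DirectSum.coe_decompose_mul_add_of_left_mem 𝒜 (h₁ a ha), Localization.mk_mul]
        congr 1
        ext
        simp [pow_add]
      rw [this]
      exact S.mul_mem (Subring.subset_closure (Or.inr ⟨a, ha, rfl⟩)) (hm k')
  have hall : ∀ a : A, ∀ k, q 𝒜 hf k a ∈ S := by
    intro a
    have ha : a ∈ Subring.closure (S₀ ∪ S₁) := by rw [hgen]; trivial
    rw [Subring.mem_closure_iff] at ha
    induction ha using AddSubgroup.closure_induction with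
    | mem x hx =>
      induction hx using Submonoid.closure_induction_left with
      | one => exact hone
      | mul_left x hx y _ ih =>
        rcases hx with hx | hx
        · exact hmul0 x hx y ih
        · exact hmul1 x hx y ih
    | zero => intro k; rw [hzero]; exact S.zero_mem
    | add x y _ _ hx hy => intro k; rw [hadd]; exact S.add_mem (hx k) (hy k)
    | neg x _ hx => intro k; rw [hneg]; exact S.neg_mem (hx k)
  rw [eq_top_iff]
  rintro z -
  obtain ⟨k, a, ha, rfl⟩ := Away.mk_surjective 𝒜 hf z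
  have hak : a ∈ 𝒜 k := by
    have h : k • 1 = k := by simp
    rw [h] at ha; exact ha
  have : Away.mk 𝒜 hf k a ha = q 𝒜 hf k a := by
    apply HomogeneousLocalization.val_injective
    rw [val_q, Away.val_mk, DirectSum.decompose_of_mem_same 𝒜 hak]
  rw [this]
  exact hall a k

/-- two ring homomorphisms out of `A_(f)` agreeing on the generators are equal -/
theorem ringHom_ext {R : Type*} [Semiring R] {f : A} (hf : f ∈ 𝒜 1) (S₀ S₁ : Set A) (h₀ : ∀ c ∈ S₀, c ∈ 𝒜 0)
    (h₁ : ∀ a ∈ S₁, a ∈ 𝒜 1) (hgen : Subring.closure (S₀ ∪ S₁) = ⊤) {α β : Away 𝒜 f →+* R}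
    (e₀ : ∀ c (hc : c ∈ S₀), α (Away.mk 𝒜 hf 0 c (mem_smul_one_of_mem (h₀ c hc))) =
      β (Away.mk 𝒜 hf 0 c (mem_smul_one_of_mem (h₀ c hc))))
    (e₁ : ∀ a (ha : a ∈ S₁), α (Away.mk 𝒜 hf 1 a (mem_smul_one_of_mem (h₁ a ha))) =
      β (Away.mk 𝒜 hf 1 a (mem_smul_one_of_mem (h₁ a ha)))) : α = β := by
  have hle : Subring.closure ({x : Away 𝒜 f | ∃ c, ∃ hc : c ∈ S₀, x = Away.mk 𝒜 hf 0 c (mem_smul_one_of_mem (h₀ c hc))} ∪
      {x : Away 𝒜 f | ∃ a, ∃ ha : a ∈ S₁, x = Away.mk 𝒜 hf 1 a (mem_smul_one_of_mem (h₁ a ha))}) ≤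
      (RingHom.eqLocus α β) := by
    rw [Subring.closure_le]
    rintro x (⟨c, hc, rfl⟩ | ⟨a, ha, rfl⟩)
    · exact e₀ c hc
    · exact e₁ a ha
  rw [closure_eq_top hf S₀ S₁ h₀ h₁ hgen] at hle
  ext x
  exact hle (Subring.mem_top x)

end Groth.Agent.Helper18QA
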