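import Mathlib
import Groth.Prelude.Def_RelProj3
import Groth.Agent.Lib.Helper2TwistGen2
import Groth.Agent.Lib.Helper2GrModBridge2

/-!
# `O(1)` on `Proj` over a standard open `D₊(f)`, `deg f = 1`: generator and ratios (helper18)

Namespace `Groth.Agent.Helper18QB`.
-/

set_option autoImplicit false
set_option linter.unusedSectionVars false
universe u

open CategoryTheory CategoryTheory.Limits AlgebraicGeometry TopologicalSpace Opposite HomogeneousLocalization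
open Groth.Agent.Lib.Helper23.SecTw Groth.Agent.Lib.Helper6 Groth.Agent.Lib.Helper2GrModSect

namespace Groth.Agent.Helper18QB

variable {A σ : Type u} [CommRing A] [SetLike σ A] [AddSubgroupClass σ A] {𝒜 : ℕ → σ} [GradedRing 𝒜]

theorem mem_smul_one {k : ℕ} {a : A} (ha : a ∈ 𝒜 k) : a ∈ 𝒜 (k • 1) := by
  have h : k • 1 = k := by simp
  rw [h]; exact ha

/-- a section of `O(1)` over `W ⊆ D₊(f)` with value `f / 1` everywhere generates. -/
theorem isGen_of_val {f : A} (hf : f ∈ 𝒜 1) (W : (Proj 𝒜).Opens) (hW : W ≤ Proj.basicOpen 𝒜 f)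
    (s : Γ(GrTwist.twist 𝒜 1, W))
    (hs : ∀ y : W, GrTwist.val s y = algebraMap A (GrTwist.Loc 𝒜 y.1) f) :
    IsGen (GrTwist.twist 𝒜 1) W s := by
  have h1 : s = res (GrMod.tilde 𝒜 𝒜 1) hW (zsec hf 1 1 0 (by norm_num)) := by
    apply sec_ext (𝒜 := 𝒜) (ℳ := 𝒜) (n := 1) W
    intro y hy
    have h2 := hs ⟨y, hy⟩
    refine Eq.trans h2 ?_
    rw [← Localization.mk_one_eq_algebraMap]
    change _ = (Localization.mk (f ^ 1) (⟨f ^ 0, _⟩ : y.asHomogeneousIdeal.toIdeal.primeCompl) : GrTwist.Loc 𝒜 y)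
    rw [Localization.mk_eq_mk_iff, Localization.r_iff_exists]
    exact ⟨1, by simp⟩
  rw [h1]
  exact (isGen_zsec hf 1 1 0 (by norm_num)).mono hW

/-- the function `f' / f` on `W ⊆ D₊(f)` -/
noncomputable def ratio {f : A} (hf : f ∈ 𝒜 1) {f' : A} (hf' : f' ∈ 𝒜 1) (W : (Proj 𝒜).Opens)
    (hW : W ≤ Proj.basicOpen 𝒜 f) : Γ(Proj 𝒜, W) :=
  (Proj 𝒜).presheaf.map (homOfLE hW).op ((Proj.awayToSection 𝒜 f).hom (Away.mk 𝒜 hf 1 f' (mem_smul_one hf')))

/-- `(f' / f) • (f / 1) = f' / 1` in `O(1)` over `W ⊆ D₊(f)`. -/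
theorem ratio_smul {f : A} (hf : f ∈ 𝒜 1) {f' : A} (hf' : f' ∈ 𝒜 1) (W : (Proj 𝒜).Opens)
    (hW : W ≤ Proj.basicOpen 𝒜 f) (s s' : Γ(GrTwist.twist 𝒜 1, W))
    (hs : ∀ y : W, GrTwist.val s y = algebraMap A (GrTwist.Loc 𝒜 y.1) f)
    (hs' : ∀ y : W, GrTwist.val s' y = algebraMap A (GrTwist.Loc 𝒜 y.1) f') :
    ratio hf hf' W hW • s = s' := by
  apply sec_ext (𝒜 := 𝒜) (ℳ := 𝒜) (n := 1) W
  intro y hy
  have h2 := hs ⟨y, hy⟩
  have h2' := hs' ⟨y, hy⟩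
  refine Eq.trans ?_ h2'.symm
  refine (secVal_smul' 𝒜 1 W (ratio hf hf' W hW) s y hy).trans ?_
  have h3 : (funVal 𝒜 W (ratio hf hf' W hW) y hy).val =
      (Localization.mk f' (⟨f ^ 1, fun h => (ProjectiveSpectrum.mem_basicOpen 𝒜 f y).mp (hW hy)
        (y.isPrime.mem_of_pow_mem 1 h)⟩ : y.asHomogeneousIdeal.toIdeal.primeCompl) : GrTwist.Loc 𝒜 y) :=
    funVal_awayToSection_val hf 1 f' (mem_smul_one hf') y (hW hy)
  rw [h3]
  have h4 : (secVal 𝒜 𝒜 1 W s y hy : GrTwist.Loc 𝒜 y) = algebraMap A (GrTwist.Loc 𝒜 y) f := h2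
  rw [h4, ← Localization.mk_one_eq_algebraMap, ← Localization.mk_one_eq_algebraMap, Localization.mk_mul,
    Localization.mk_eq_mk_iff, Localization.r_iff_exists]
  exact ⟨1, by simp; ring⟩

section Chart

variable {f : A} {m : ℕ} (f_deg : f ∈ 𝒜 m) (hm : 0 < m)

theorem top_le_awayι_preimage :
    (⊤ : (Spec (.of (Away 𝒜 f))).Opens) ≤ (Proj.awayι 𝒜 f f_deg hm) ⁻¹ᵁ Proj.basicOpen 𝒜 f := by
  intro x _
  have : (Proj.awayι 𝒜 f f_deg hm) x ∈ (Proj.awayι 𝒜 f f_deg hm).opensRange := ⟨x, rfl⟩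
  rwa [Proj.opensRange_awayι] at this

/-- pulling back `a / f^k` along the chart (port of helper27's lemma to `SetLike` gradings). -/
theorem awayι_appLE_awayToSection (z : Away 𝒜 f) :
    (Proj.awayι 𝒜 f f_deg hm).appLE (Proj.basicOpen 𝒜 f) ⊤ (top_le_awayι_preimage f_deg hm)
        ((Proj.awayToSection 𝒜 f).hom z) = (Scheme.ΓSpecIso _).inv z := by
  set e := Proj.basicOpenIsoSpec 𝒜 f f_deg hm with he
  have h3 : e.hom.appTop = (Scheme.ΓSpecIso _).hom ≫ Proj.awayToSection 𝒜 f ≫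
      (Proj.basicOpen 𝒜 f).topIso.inv := by
    rw [he, Proj.basicOpenIsoSpec_hom]
    exact Proj.basicOpenToSpec_app_top 𝒜 f
  have h4 : (Proj.basicOpen 𝒜 f).topIso.inv ((Proj.awayToSection 𝒜 f).hom z) =
      e.hom.appTop ((Scheme.ΓSpecIso _).inv z) := by
    rw [h3]
    change _ = (Proj.basicOpen 𝒜 f).topIso.inv ((Proj.awayToSection 𝒜 f).hom
      ((Scheme.ΓSpecIso _).hom ((Scheme.ΓSpecIso _).inv z)))
    have h5 : (Scheme.ΓSpecIso (.of (Away 𝒜 f))).hom ((Scheme.ΓSpecIso _).inv z) = z :=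
      congr($((Scheme.ΓSpecIso (.of (Away 𝒜 f))).inv_hom_id) z)
    rw [h5]
  have h6 : e.inv.appTop (e.hom.appTop ((Scheme.ΓSpecIso _).inv z)) = (Scheme.ΓSpecIso _).inv z := by
    have : e.hom.appTop ≫ e.inv.appTop = 𝟙 _ := by
      rw [← Scheme.Hom.comp_appTop, e.inv_hom_id]
      rfl
    exact congr($this _)
  rw [← h4] at h6
  refine Eq.trans ?_ h6
  have h7 := Scheme.Hom.appLE_comp_appLE e.inv (Proj.basicOpen 𝒜 f).ι (Proj.basicOpen 𝒜 f) ⊤ ⊤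
    (by intro x _; exact x.2) le_top
  have h8 := congr($h7 ((Proj.awayToSection 𝒜 f).hom z))
  refine h8.symm.trans ?_
  rfl

end Chart

end Groth.Agent.Helper18QB
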