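import Mathlib
import Groth.Prelude.Def_RelProj4
import Groth.Agent.Lib.Helper18PE
import Groth.Agent.Lib.Helper18QB

/-!
# `O(1)` on a projective bundle `P(E)` over the standard opens `D(e₀)` (helper18)

Namespace `Groth.Agent.Helper18QC`.  For `U` affine in `Y` and `e₀ ∈ Γ(E, U)`:
* `D e₀` : the standard open `D₊(e₀)` of `P = P(E)` over `U`;
* `sP e` : the section of `O(1)` over `p⁻¹ U` attached to `e ∈ Γ(E, U)`;
* `isGen_sP` : `sP e₀` generates `O(1)` over `D e₀`;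
* `exists_ratio` : over `D e₀`, `sP e = a • sP e₀` with `a` the function `e / e₀`.
-/

set_option autoImplicit false
set_option linter.style.haveILetI false
set_option linter.unusedSectionVars false
universe u

open CategoryTheory CategoryTheory.Limits AlgebraicGeometry TopologicalSpace Opposite HomogeneousLocalization
open Groth.Agent.Lib.Helper23.SecTw Groth.Agent.Lib.Helper6 Groth.Agent.Lib.Helper2GrModSect
open Groth.Agent.Helper13PullbackUnit

namespace Groth.Agent.Helper18QC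

variable {Y P : Scheme.{u}} (E : Y.Modules)
  (𝒮 : RelProj.QCGrAlg Y) (j : E ⟶ 𝒮.toModule) (hj : RelProj.IsGrSymAlg E 𝒮 j)
  (p : P ⟶ Y)
  (chart : ∀ (U : Y.Opens) (hU : IsAffineOpen U), ((p ⁻¹ᵁ U : P.Opens) : Scheme.{u}) ≅ Proj (𝒮.deg U hU))
  (hP : RelProj.IsRelProj 𝒮 p chart)
  (O1 : P.Modules)
  (lam : ∀ (U : Y.Opens) (hU : IsAffineOpen U),
    O1 ⟶ (Scheme.Modules.pushforward (RelProj.emb p chart U hU)).obj (GrTwist.twist (𝒮.deg U hU) 1))
  (hO1 : RelProj.IsRelTwist 𝒮 p chart 1 O1 lam)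
  (U : Y.Opens) (hU : IsAffineOpen U)

/-- the element of degree one attached to `e ∈ Γ(E, U)` -/
noncomputable abbrev jel (e : Γ(E, U)) : 𝒮.presheaf.obj (op U) := (j.app U) e

include hj in
theorem jel_mem (e : Γ(E, U)) : jel E 𝒮 j U e ∈ 𝒮.deg U hU 1 := hj.2 U hU e

/-- the standard open `D₊(e₀)` of `P(E)` over the affine open `U` -/
noncomputable def D (e₀ : Γ(E, U)) : P.Opens :=
  RelProj.emb p chart U hU ''ᵁ Proj.basicOpen (𝒮.deg U hU) (jel E 𝒮 j U e₀)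

theorem D_le (e₀ : Γ(E, U)) : D E 𝒮 j p chart U hU e₀ ≤ p ⁻¹ᵁ U :=
  Groth.Agent.Lib.Helper2.RelTwistGen.image_emb_le p chart U hU _

theorem D_le_range (e₀ : Γ(E, U)) : D E 𝒮 j p chart U hU e₀ ≤ (RelProj.emb p chart U hU).opensRange :=
  (RelProj.emb p chart U hU).image_le_opensRange _

theorem preimage_D (e₀ : Γ(E, U)) :
    RelProj.emb p chart U hU ⁻¹ᵁ D E 𝒮 j p chart U hU e₀ =
      Proj.basicOpen (𝒮.deg U hU) (jel E 𝒮 j U e₀) :=
  (RelProj.emb p chart U hU).preimage_image_eq _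

/-- the section of `O(1)` over `p⁻¹ U` attached to `e ∈ Γ(E, U)` -/
noncomputable def sP (e : Γ(E, U)) : Γ(O1, p ⁻¹ᵁ U) :=
  (Groth.Agent.Helper18PE.φcan E 𝒮 j hj p chart hP O1 lam hO1).app U e

/-- the value of `sP e`, restricted to an open `W ≤ p⁻¹ U`, read through `lam U` -/
theorem val_lam_res (e : Γ(E, U)) (W : P.Opens) (hW : W ≤ p ⁻¹ᵁ U)
    (y : ↥(RelProj.emb p chart U hU ⁻¹ᵁ W)) :
    GrTwist.val (V := RelProj.emb p chart U hU ⁻¹ᵁ W)
        ((lam U hU).app W (res O1 hW (sP E 𝒮 j hj p chart hP O1 lam hO1 U e))) y =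
      algebraMap (𝒮.presheaf.obj (op U)) (GrTwist.Loc (𝒮.deg U hU) y.1)
        (jel E 𝒮 j U e) := by
  have h1 := Groth.Agent.Lib.Helper2.RelTildeQCoh.app_map' (lam U hU) (homOfLE hW)
    (sP E 𝒮 j hj p chart hP O1 lam hO1 U e)
  have h2 := Groth.Agent.Helper18PE.φcan_val E 𝒮 j hj p chart hP O1 lam hO1 U hU e
    ⟨y.1, (RelProj.emb p chart U hU).preimage_mono hW y.2⟩
  refine Eq.trans ?_ h2
  change GrTwist.val (V := RelProj.emb p chart U hU ⁻¹ᵁ W)
    ((lam U hU).app W (O1.presheaf.map (homOfLE hW).op (sP E 𝒮 j hj p chart hP O1 lam hO1 U e))) y = _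
  rw [h1]
  rfl

/-- `sP e₀` generates `O(1)` over `D e₀`. -/
theorem isGen_sP (e₀ : Γ(E, U)) :
    IsGen O1 (D E 𝒮 j p chart U hU e₀)
      (res O1 (D_le E 𝒮 j p chart U hU e₀) (sP E 𝒮 j hj p chart hP O1 lam hO1 U e₀)) := by
  refine Groth.Agent.Lib.Helper2.RelTwistGen.isGen_of_chart (RelProj.emb p chart U hU) O1
    (GrTwist.twist (𝒮.deg U hU) 1) (lam U hU) _ (D_le_range E 𝒮 j p chart U hU e₀)
    (fun W'' h => hO1.bijective U hU W'' (h.trans (D_le E 𝒮 j p chart U hU e₀))) _ ?_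
  exact Groth.Agent.Helper18QB.isGen_of_val (jel_mem E 𝒮 j hj U hU e₀) _ (le_of_eq (preimage_D E 𝒮 j p chart U hU e₀)) _
    (fun y => val_lam_res E 𝒮 j hj p chart hP O1 lam hO1 U hU e₀ _ (D_le E 𝒮 j p chart U hU e₀) y)

/-- over `D e₀`: `sP e = a • sP e₀`, where `a` is the function `e / e₀`. -/
theorem exists_ratio (e₀ e : Γ(E, U)) :
    ∃ a : Γ(P, D E 𝒮 j p chart U hU e₀),
      (RelProj.emb p chart U hU).app (D E 𝒮 j p chart U hU e₀) a =
        Groth.Agent.Helper18QB.ratio (jel_mem E 𝒮 j hj U hU e₀) (jel_mem E 𝒮 j hj U hU e) _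
          (le_of_eq (preimage_D E 𝒮 j p chart U hU e₀)) ∧
      a • res O1 (D_le E 𝒮 j p chart U hU e₀) (sP E 𝒮 j hj p chart hP O1 lam hO1 U e₀) =
        res O1 (D_le E 𝒮 j p chart U hU e₀) (sP E 𝒮 j hj p chart hP O1 lam hO1 U e) := by
  haveI : IsIso ((RelProj.emb p chart U hU).app (D E 𝒮 j p chart U hU e₀)) :=
    (RelProj.emb p chart U hU).isIso_app _ (D_le_range E 𝒮 j p chart U hU e₀)
  have hb : Function.Bijective ((RelProj.emb p chart U hU).app (D E 𝒮 j p chart U hU e₀)) :=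
    ConcreteCategory.bijective_of_isIso _
  obtain ⟨a, ha⟩ := hb.2 (Groth.Agent.Helper18QB.ratio (jel_mem E 𝒮 j hj U hU e₀) (jel_mem E 𝒮 j hj U hU e) _
    (le_of_eq (preimage_D E 𝒮 j p chart U hU e₀)))
  refine ⟨a, ha, ?_⟩
  apply (hO1.bijective U hU _ (D_le E 𝒮 j p chart U hU e₀)).1
  rw [Scheme.Modules.Hom.app_smul, pushforward_smul, ha]
  exact Groth.Agent.Helper18QB.ratio_smul (jel_mem E 𝒮 j hj U hU e₀) (jel_mem E 𝒮 j hj U hU e) _
    (le_of_eq (preimage_D E 𝒮 j p chart U hU e₀)) _ _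
    (fun y => val_lam_res E 𝒮 j hj p chart hP O1 lam hO1 U hU e₀ _ (D_le E 𝒮 j p chart U hU e₀) y)
    (fun y => val_lam_res E 𝒮 j hj p chart hP O1 lam hO1 U hU e _ (D_le E 𝒮 j p chart U hU e₀) y)

end Groth.Agent.Helper18QC
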