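import Mathlib
import Groth.Prelude.Def_RelProj4
import Groth.Agent.Lib.Helper18QC
import Groth.Agent.Lib.Helper18BaseFun

/-!
# Functions on the standard charts of a relative `Proj` and of a projective bundle (helper18)

Namespace `Groth.Agent.Helper18QD`.
* `chart_appLE_str` : pulling back a function of the base to the standard chart `Spec 𝒮(U)_(f) ⟶ P`.
* `ι₀`, `ι₀_appLE_ratio` : the chart `Spec 𝒮(U)_(e₀) ⟶ P(E)` and the pull back of the function `e / e₀` on `D e₀`.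
-/

set_option autoImplicit false
set_option linter.style.haveILetI false
set_option linter.unusedSectionVars false
universe u

open CategoryTheory CategoryTheory.Limits AlgebraicGeometry TopologicalSpace Opposite HomogeneousLocalization
open Groth.Agent.Lib.Helper23.SecTw Groth.Agent.Lib.Helper6 Groth.Agent.Lib.Helper2GrModSect

namespace Groth.Agent.Helper18QD

theorem appLE_congr_hom {S T : Scheme.{u}} {q q' : S ⟶ T} (h : q = q') (U : T.Opens) (V : S.Opens)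
    (e : V ≤ q ⁻¹ᵁ U) : q.appLE U V e = q'.appLE U V (h ▸ e) := by
  subst h; rfl

theorem appLE_comp_apply {X Y Z : Scheme.{u}} (f : X ⟶ Y) (g : Y ⟶ Z) (U : Z.Opens) (V : Y.Opens) (W : X.Opens)
    (e₁ : V ≤ g ⁻¹ᵁ U) (e₂ : W ≤ f ⁻¹ᵁ V) (e : W ≤ (f ≫ g) ⁻¹ᵁ U) (x : Γ(Z, U)) :
    (f ≫ g).appLE U W e x = f.appLE V W e₂ (g.appLE U V e₁ x) := by
  have h := Scheme.Hom.appLE_comp_appLE f g U V W e₁ e₂
  exact (congr($h x)).symm

section rel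

variable {Y P : Scheme.{u}} {𝒮 : RelProj.QCGrAlg Y} {p : P ⟶ Y}
  {chart : ∀ (U : Y.Opens) (hU : IsAffineOpen U), ((p ⁻¹ᵁ U : P.Opens) : Scheme.{u}) ≅ Proj (𝒮.deg U hU)}

/-- the standard chart followed by the structure morphism -/
theorem chart_comp (hP : RelProj.IsRelProj 𝒮 p chart) (U : Y.Opens) (hU : IsAffineOpen U) {d : ℕ} (hd : 0 < d)
    (f : 𝒮.presheaf.obj (op U)) (hf : f ∈ 𝒮.deg U hU d) :
    (Proj.awayι (𝒮.deg U hU) f hf hd ≫ RelProj.emb p chart U hU) ≫ p =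
      Spec.map (CommRingCat.ofHom (fromZeroRingHom (𝒮.deg U hU) (Submonoid.powers f))) ≫
        Spec.map (𝒮.strZero U hU) ≫ hU.fromSpec := by
  rw [Category.assoc, Groth.Agent.Helper18BaseFun.emb_comp hP U hU, Proj.awayι_toSpecZero_assoc]

/-- pulling back a function of the base to a standard chart -/
theorem chart_appLE_str (hP : RelProj.IsRelProj 𝒮 p chart) (U : Y.Opens) (hU : IsAffineOpen U) {d : ℕ} (hd : 0 < d)
    (f : 𝒮.presheaf.obj (op U)) (hf : f ∈ 𝒮.deg U hU d) (c : Γ(Y, U))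
    (e : (⊤ : (Spec (.of (Away (𝒮.deg U hU) f))).Opens) ≤
      ((Proj.awayι (𝒮.deg U hU) f hf hd ≫ RelProj.emb p chart U hU) ≫ p) ⁻¹ᵁ U) :
    ((Proj.awayι (𝒮.deg U hU) f hf hd ≫ RelProj.emb p chart U hU) ≫ p).appLE U ⊤ e c =
      (Scheme.ΓSpecIso _).inv (fromZeroRingHom (𝒮.deg U hU) (Submonoid.powers f) ((𝒮.strZero U hU).hom c)) := by
  rw [appLE_congr_hom (chart_comp hP U hU hd f hf) U ⊤ e,
    Groth.Agent.Helper18BaseFun.appLE_comp_SpecMap_fromSpec hU]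
  have h5 := Scheme.ΓSpecIso_inv_naturality
    (CommRingCat.ofHom (fromZeroRingHom (𝒮.deg U hU) (Submonoid.powers f)))
  have h6 := congr($h5 ((𝒮.strZero U hU).hom c))
  exact h6.symm

end rel

section bundle

variable {Y P : Scheme.{u}} (E : Y.Modules)
  (𝒮 : RelProj.QCGrAlg Y) (j : E ⟶ 𝒮.toModule) (hj : RelProj.IsGrSymAlg E 𝒮 j)
  (p : P ⟶ Y)
  (chart : ∀ (U : Y.Opens) (hU : IsAffineOpen U), ((p ⁻¹ᵁ U : P.Opens) : Scheme.{u}) ≅ Proj (𝒮.deg U hU))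
  (U : Y.Opens) (hU : IsAffineOpen U)

open Groth.Agent.Helper18QC

/-- the chart `Spec 𝒮(U)_(e₀) ⟶ P(E)` -/
noncomputable def ι₀ (e₀ : Γ(E, U)) : Spec (.of (Away (𝒮.deg U hU) (jel E 𝒮 j U e₀))) ⟶ P :=
  Proj.awayι (𝒮.deg U hU) (jel E 𝒮 j U e₀) (jel_mem E 𝒮 j hj U hU e₀) one_pos ≫ RelProj.emb p chart U hU

instance (e₀ : Γ(E, U)) : IsOpenImmersion (ι₀ E 𝒮 j hj p chart U hU e₀) := by
  unfold ι₀; infer_instance

theorem opensRange_ι₀ (e₀ : Γ(E, U)) : (ι₀ E 𝒮 j hj p chart U hU e₀).opensRange = D E 𝒮 j p chart U hU e₀ := by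
  unfold ι₀ D
  rw [Scheme.Hom.opensRange_comp, Proj.opensRange_awayι]

theorem top_le_ι₀ (e₀ : Γ(E, U)) :
    (⊤ : (Spec (.of (Away (𝒮.deg U hU) (jel E 𝒮 j U e₀)))).Opens) ≤
      ι₀ E 𝒮 j hj p chart U hU e₀ ⁻¹ᵁ D E 𝒮 j p chart U hU e₀ := by
  intro x _
  rw [← opensRange_ι₀ E 𝒮 j hj p chart U hU e₀]
  exact ⟨x, rfl⟩

include hj in
theorem isAffineOpen_D (e₀ : Γ(E, U)) : IsAffineOpen (D E 𝒮 j p chart U hU e₀) := by
  rw [← opensRange_ι₀ E 𝒮 j hj p chart U hU e₀]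
  exact isAffineOpen_opensRange _

/-- the function `e / e₀` on `D e₀`, pulled back to the chart -/
theorem ι₀_appLE_ratio (e₀ e : Γ(E, U)) (a : Γ(P, D E 𝒮 j p chart U hU e₀))
    (ha : (RelProj.emb p chart U hU).app (D E 𝒮 j p chart U hU e₀) a =
      Groth.Agent.Helper18QB.ratio (jel_mem E 𝒮 j hj U hU e₀) (jel_mem E 𝒮 j hj U hU e) _
        (le_of_eq (preimage_D E 𝒮 j p chart U hU e₀))) :
    (ι₀ E 𝒮 j hj p chart U hU e₀).appLE (D E 𝒮 j p chart U hU e₀) ⊤ (top_le_ι₀ E 𝒮 j hj p chart U hU e₀) a =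
      (Scheme.ΓSpecIso _).inv (Away.mk (𝒮.deg U hU) (jel_mem E 𝒮 j hj U hU e₀) 1 (jel E 𝒮 j U e)
        (Groth.Agent.Helper18QB.mem_smul_one (jel_mem E 𝒮 j hj U hU e))) := by
  have e₁ : RelProj.emb p chart U hU ⁻¹ᵁ D E 𝒮 j p chart U hU e₀ ≤
      RelProj.emb p chart U hU ⁻¹ᵁ D E 𝒮 j p chart U hU e₀ := le_rfl
  have e₂ : (⊤ : (Spec (.of (Away (𝒮.deg U hU) (jel E 𝒮 j U e₀)))).Opens) ≤
      Proj.awayι (𝒮.deg U hU) (jel E 𝒮 j U e₀) (jel_mem E 𝒮 j hj U hU e₀) one_pos ⁻¹ᵁ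
        (RelProj.emb p chart U hU ⁻¹ᵁ D E 𝒮 j p chart U hU e₀) := by
    rw [preimage_D]
    exact Groth.Agent.Helper18QB.top_le_awayι_preimage _ _
  have h1 := appLE_comp_apply (Proj.awayι (𝒮.deg U hU) (jel E 𝒮 j U e₀) (jel_mem E 𝒮 j hj U hU e₀) one_pos)
    (RelProj.emb p chart U hU) (D E 𝒮 j p chart U hU e₀) _ ⊤ e₁ e₂ (top_le_ι₀ E 𝒮 j hj p chart U hU e₀) a
  refine h1.trans ?_
  have h2 : (RelProj.emb p chart U hU).appLE (D E 𝒮 j p chart U hU e₀) _ e₁ a =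
      (RelProj.emb p chart U hU).app (D E 𝒮 j p chart U hU e₀) a := by
    rw [Scheme.Hom.appLE_eq_app]
  rw [h2, ha]
  unfold Groth.Agent.Helper18QB.ratio
  have h3 := Scheme.Hom.map_appLE (Proj.awayι (𝒮.deg U hU) (jel E 𝒮 j U e₀) (jel_mem E 𝒮 j hj U hU e₀) one_pos)
    e₂ (homOfLE (le_of_eq (preimage_D E 𝒮 j p chart U hU e₀))).op
  have h4 := congr($h3 ((Proj.awayToSection (𝒮.deg U hU) (jel E 𝒮 j U e₀)).hom
    (Away.mk (𝒮.deg U hU) (jel_mem E 𝒮 j hj U hU e₀) 1 (jel E 𝒮 j U e)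
      (Groth.Agent.Helper18QB.mem_smul_one (jel_mem E 𝒮 j hj U hU e)))))
  refine h4.trans ?_
  exact Groth.Agent.Helper18QB.awayι_appLE_awayToSection _ _ _

end bundle

end Groth.Agent.Helper18QD
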