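import Mathlib
import Groth.Prelude.Def_RelProj4
import Groth.Agent.Lib.Helper18QD
import Groth.Agent.Lib.Helper18PK

/-!
# Every morphism `i : X ⟶ P(E)` over `Y` with `i^* O(1) ≅ L` is the morphism attached to an invertible quotient (helper18)

Namespace `Groth.Agent.Helper18QE`.
-/

set_option autoImplicit false
set_option linter.style.haveILetI false
set_option linter.unusedSectionVars false
universe u

open CategoryTheory CategoryTheory.Limits AlgebraicGeometry TopologicalSpace Opposite HomogeneousLocalization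
open Groth.Agent.Lib.Helper23.SecTw Groth.Agent.Lib.Helper6 Groth.Agent.Lib.Helper2GrModSect
open Groth.Agent.Helper13PullbackUnit Groth.Agent.Helper18QC Groth.Agent.Helper18QD
open Groth.Agent.Helper18PD Groth.Agent.Helper18PK

namespace Groth.Agent.Helper18QE

section defs

variable {X Y P : Scheme.{u}} (E : Y.Modules)
  (𝒮 : RelProj.QCGrAlg Y) (j : E ⟶ 𝒮.toModule) (hj : RelProj.IsGrSymAlg E 𝒮 j)
  (p : P ⟶ Y)
  (chart : ∀ (U : Y.Opens) (hU : IsAffineOpen U), ((p ⁻¹ᵁ U : P.Opens) : Scheme.{u}) ≅ Proj (𝒮.deg U hU))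
  (hP : RelProj.IsRelProj 𝒮 p chart)
  (O1 : P.Modules)
  (lam : ∀ (U : Y.Opens) (hU : IsAffineOpen U),
    O1 ⟶ (Scheme.Modules.pushforward (RelProj.emb p chart U hU)).obj (GrTwist.twist (𝒮.deg U hU) 1))
  (hO1 : RelProj.IsRelTwist 𝒮 p chart 1 O1 lam)
  (i : X ⟶ P) (L : X.Modules) (φL : (Scheme.Modules.pullback i).obj O1 ≅ L)

/-- the map `E ⟶ (i ≫ p)_* L` attached to `i : X ⟶ P(E)` and `i^* O(1) ≅ L` -/
noncomputable def ψOf : E ⟶ (Scheme.Modules.pushforward (i ≫ p)).obj L :=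
  Groth.Agent.Helper18PE.φcan E 𝒮 j hj p chart hP O1 lam hO1 ≫
    (Scheme.Modules.pushforward p).map
      ((Scheme.Modules.pullbackPushforwardAdjunction i).unit.app O1 ≫
        (Scheme.Modules.pushforward i).map φL.hom) ≫
    (Scheme.Modules.pushforwardComp i p).hom.app L

theorem ψOf_app (U : Y.Opens) (e : Γ(E, U)) :
    (ψOf E 𝒮 j hj p chart hP O1 lam hO1 i L φL).app U e =
      φL.hom.app (i ⁻¹ᵁ (p ⁻¹ᵁ U))
        (((Scheme.Modules.pullbackPushforwardAdjunction i).unit.app O1).app (p ⁻¹ᵁ U)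
          (sP E 𝒮 j hj p chart hP O1 lam hO1 U e)) := rfl

/-- the quotient `(i ≫ p)^* E ⟶ L` attached to `i : X ⟶ P(E)` and `i^* O(1) ≅ L` -/
noncomputable def σOf : (Scheme.Modules.pullback (i ≫ p)).obj E ⟶ L :=
  adj (i ≫ p) L (ψOf E 𝒮 j hj p chart hP O1 lam hO1 i L φL)

/-- the sections attached through `σOf` are the pulled back sections of `O(1)` -/
theorem sec_σOf {U : Y.Opens} {V : X.Opens} (hle : V ≤ (i ≫ p) ⁻¹ᵁ U) (e : Γ(E, U)) :
    sec (σOf E 𝒮 j hj p chart hP O1 lam hO1 i L φL) hle e =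
      φL.hom.app V (unitSec i O1 (show V ≤ i ⁻¹ᵁ (p ⁻¹ᵁ U) from hle) (sP E 𝒮 j hj p chart hP O1 lam hO1 U e)) := by
  unfold σOf
  rw [sec_adj, ψOf_app, unitSec_apply]
  exact (Groth.Agent.Lib.Helper2.RelTildeQCoh.app_map' φL.hom (homOfLE hle) _).symm

variable (hE : Coh.IsQCoh E) (U : Y.Opens) (hU : IsAffineOpen U)

theorem le_of_le_D (e₀ : Γ(E, U)) {V : X.Opens} (hVD : V ≤ i ⁻¹ᵁ D E 𝒮 j p chart U hU e₀) :
    V ≤ (i ≫ p) ⁻¹ᵁ U :=
  hVD.trans (i.preimage_mono (D_le E 𝒮 j p chart U hU e₀))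

/-- the attached sections over an open mapping into `D e₀` -/
theorem sec_σOf_D (e₀ e : Γ(E, U)) {V : X.Opens} (hVD : V ≤ i ⁻¹ᵁ D E 𝒮 j p chart U hU e₀) :
    sec (σOf E 𝒮 j hj p chart hP O1 lam hO1 i L φL) (le_of_le_D E 𝒮 j p chart i U hU e₀ hVD) e =
      φL.hom.app V (unitSec i O1 hVD
        (res O1 (D_le E 𝒮 j p chart U hU e₀) (sP E 𝒮 j hj p chart hP O1 lam hO1 U e))) := by
  rw [sec_σOf]
  congr 1
  have h := Groth.Agent.Lib.Helper23.PB.res_unitSec i O1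
    (show V ≤ i ⁻¹ᵁ (p ⁻¹ᵁ U) from le_of_le_D E 𝒮 j p chart i U hU e₀ hVD) hVD
    (D_le E 𝒮 j p chart U hU e₀) le_rfl (sP E 𝒮 j hj p chart hP O1 lam hO1 U e)
  rw [res_self] at h
  exact h

include hE hj hO1 in
theorem isInvertible_O1 : PicF.IsInvertible O1 :=
  Groth.Agent.Helper18PE.isInvertible_relTwist 𝒮 p chart
    (Groth.Agent.Helper18VAmp.isGenDegOne_of_isGrSymAlg E hE 𝒮 j hj) 1 O1 lam hO1

include hE in
/-- the section attached to `e₀` generates `L` over any open mapping into `D e₀` -/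
theorem isGen_sec (e₀ : Γ(E, U)) {V : X.Opens} (hVD : V ≤ i ⁻¹ᵁ D E 𝒮 j p chart U hU e₀) :
    IsGen L V (sec (σOf E 𝒮 j hj p chart hP O1 lam hO1 i L φL) (le_of_le_D E 𝒮 j p chart i U hU e₀ hVD) e₀) := by
  haveI : O1.IsQuasicoherent := Groth.Agent.Lib.Helper23.SecTw.isQuasicoherent_of_isInvertible O1
    (isInvertible_O1 E 𝒮 j hj p chart O1 lam hO1 hE)
  rw [sec_σOf_D]
  refine Groth.Agent.Lib.Helper23.PB.isGen_of_iso φL ?_
  have h1 := (Groth.Agent.Lib.Helper23.PB.isGen_unitSec i O1 (isAffineOpen_D E 𝒮 j hj p chart U hU e₀) _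
    (isGen_sP E 𝒮 j hj p chart hP O1 lam hO1 U hU e₀)).mono hVD
  have h2 := Groth.Agent.Lib.Helper23.PB.res_unitSec i O1 (le_refl (i ⁻¹ᵁ D E 𝒮 j p chart U hU e₀)) hVD
    le_rfl hVD (res O1 (D_le E 𝒮 j p chart U hU e₀) (sP E 𝒮 j hj p chart hP O1 lam hO1 U e₀))
  rw [res_self] at h2
  rw [h2] at h1
  exact h1

/-- ratios of the attached sections are pulled back ratios -/
theorem sec_eq_smul (e₀ e : Γ(E, U)) {V : X.Opens} (hVD : V ≤ i ⁻¹ᵁ D E 𝒮 j p chart U hU e₀)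
    (a : Γ(P, D E 𝒮 j p chart U hU e₀))
    (ha : a • res O1 (D_le E 𝒮 j p chart U hU e₀) (sP E 𝒮 j hj p chart hP O1 lam hO1 U e₀) =
      res O1 (D_le E 𝒮 j p chart U hU e₀) (sP E 𝒮 j hj p chart hP O1 lam hO1 U e)) :
    i.appLE _ V hVD a •
        sec (σOf E 𝒮 j hj p chart hP O1 lam hO1 i L φL) (le_of_le_D E 𝒮 j p chart i U hU e₀ hVD) e₀ =
      sec (σOf E 𝒮 j hj p chart hP O1 lam hO1 i L φL) (le_of_le_D E 𝒮 j p chart i U hU e₀ hVD) e := by
  rw [sec_σOf_D, sec_σOf_D, ← ha, unitSec_smul, Scheme.Modules.Hom.app_smul]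

end defs

section gen

variable {Y : Scheme.{u}} (E : Y.Modules) [E.IsQuasicoherent]
  (𝒮 : RelProj.QCGrAlg Y) (j : E ⟶ 𝒮.toModule) (hj : RelProj.IsGrSymAlg E 𝒮 j)
  (U : Y.Opens) (hU : IsAffineOpen U)

include hj hU in
/-- over an affine open, a graded symmetric algebra is generated by the functions and the module -/
theorem closure_str_j_eq_top :
    Subring.closure (Set.range (𝒮.str.app (op U)).hom ∪ Set.range (fun e : Γ(E, U) => jel E 𝒮 j U e)) = ⊤ := by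
  have hbij := Groth.Agent.Helper13SymAlg.bijective_σ E U hU hj.1
  rw [eq_top_iff]
  rintro x -
  obtain ⟨w, rfl⟩ := hbij.2 x
  induction w using SymmetricAlgebra.induction with
  | algebraMap a =>
    unfold Groth.Agent.Helper13SymAlg.σ
    rw [Groth.Agent.Helper13SymLoc.symLift_algebraMap]
    exact Subring.subset_closure (Or.inl ⟨a, rfl⟩)
  | ι m =>
    unfold Groth.Agent.Helper13SymAlg.σ
    rw [Groth.Agent.Helper13SymLoc.symLift_ι]
    exact Subring.subset_closure (Or.inr ⟨m, rfl⟩)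
  | mul w w' hw hw' =>
    rw [map_mul]
    exact Subring.mul_mem _ hw hw'
  | add w w' hw hw' =>
    rw [map_add]
    exact Subring.add_mem _ hw hw'

end gen

section cover

variable {X Y P : Scheme.{u}} (E : Y.Modules) (hE : Coh.IsQCoh E)
  (𝒮 : RelProj.QCGrAlg Y) (j : E ⟶ 𝒮.toModule) (hj : RelProj.IsGrSymAlg E 𝒮 j)
  (p : P ⟶ Y)
  (chart : ∀ (U : Y.Opens) (hU : IsAffineOpen U), ((p ⁻¹ᵁ U : P.Opens) : Scheme.{u}) ≅ Proj (𝒮.deg U hU))
  (hP : RelProj.IsRelProj 𝒮 p chart)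
  (O1 : P.Modules)
  (lam : ∀ (U : Y.Opens) (hU : IsAffineOpen U),
    O1 ⟶ (Scheme.Modules.pushforward (RelProj.emb p chart U hU)).obj (GrTwist.twist (𝒮.deg U hU) 1))
  (hO1 : RelProj.IsRelTwist 𝒮 p chart 1 O1 lam)
  (i : X ⟶ P) (L : X.Modules) (φL : (Scheme.Modules.pullback i).obj O1 ≅ L)

include hE hj in
/-- the standard opens `D e₀` cover `p⁻¹ U` -/
theorem exists_mem_D (U : Y.Opens) (hU : IsAffineOpen U) (x : P) (hx : p.base x ∈ U) :
    ∃ e₀ : Γ(E, U), x ∈ D E 𝒮 j p chart U hU e₀ := by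
  obtain ⟨z, hz⟩ := Groth.Agent.Helper13RelProj.exists_chart_point (chartB := chart) U hU x hx
  have hgen := Groth.Agent.Helper18VAmp.isGenDegOne_of_isGrSymAlg E hE 𝒮 j hj U hU
  obtain ⟨g, hg1, hgz⟩ := Groth.Agent.Lib.Helper2.RelTwistGen.exists_degOne_not_mem_of_gen (𝒮.deg U hU) hgen z
  obtain ⟨e₀, he₀⟩ := Groth.Agent.Helper18KE.exists_app_eq_of_mem_deg_one E hE 𝒮 j hj U hU g hg1
  refine ⟨e₀, z, ?_, hz⟩
  change z ∈ Proj.basicOpen (𝒮.deg U hU) (jel E 𝒮 j U e₀)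
  have : jel E 𝒮 j U e₀ = g := he₀
  rw [this]
  exact (ProjectiveSpectrum.mem_basicOpen (𝒮.deg U hU) g z).mpr hgz

include hE in
/-- the quotient attached to `i` is an epimorphism -/
theorem epi_σOf : Epi (σOf E 𝒮 j hj p chart hP O1 lam hO1 i L φL) := by
  refine Groth.Agent.Helper18PH.epi_of_charts (i ≫ p) E L (σOf E 𝒮 j hj p chart hP O1 lam hO1 i L φL)
    (ι := Σ U : Y.affineOpens, Γ(E, U.1)) (fun a => a.1.1) (fun a => a.2)
    (fun a => i ⁻¹ᵁ D E 𝒮 j p chart a.1.1 a.1.2 a.2)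
    (fun a => le_of_le_D E 𝒮 j p chart i a.1.1 a.1.2 a.2 le_rfl)
    (fun a => isGen_sec E 𝒮 j hj p chart hP O1 lam hO1 i L φL hE a.1.1 a.1.2 a.2 le_rfl) ?_
  intro x
  obtain ⟨U, hU, hxU⟩ : ∃ U : Y.Opens, IsAffineOpen U ∧ p.base (i.base x) ∈ U := by
    obtain ⟨U, hU, hxU, -⟩ := exists_isAffineOpen_mem_and_subset (X := Y) (x := p.base (i.base x)) (U := ⊤) trivial
    exact ⟨U, hU, hxU⟩
  obtain ⟨e₀, he₀⟩ := exists_mem_D E hE 𝒮 j hj p chart U hU (i.base x) hxU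
  exact ⟨⟨⟨U, hU⟩, e₀⟩, he₀⟩

end cover

end Groth.Agent.Helper18QE
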