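import Mathlib
import Groth.Prelude.Def_RelProj4
import Groth.Agent.Lib.Helper18QE
import Groth.Agent.Lib.Helper18QA

/-!
# `pL ≫ i = r` on the standard charts (helper18)

Namespace `Groth.Agent.Helper18QF`.
-/

set_option autoImplicit false
set_option linter.style.haveILetI false
set_option linter.unusedSectionVars false
universe u

open CategoryTheory CategoryTheory.Limits AlgebraicGeometry TopologicalSpace Opposite HomogeneousLocalization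
open Groth.Agent.Lib.Helper23.SecTw Groth.Agent.Lib.Helper6 Groth.Agent.Lib.Helper2GrModSect
open Groth.Agent.Helper13PullbackUnit Groth.Agent.Helper18QC Groth.Agent.Helper18QD Groth.Agent.Helper18QE
open Groth.Agent.Helper18PB Groth.Agent.Helper18PD Groth.Agent.Helper18PK
open Groth.Agent.Helper13RelProj Groth.Agent.Helper13ProjBC Groth.Agent.Helper13SymAlg

namespace Groth.Agent.Helper18QF

/-- functions pulled back along a lift through an open immersion -/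
theorem appTop_lift {S T Q : Scheme.{u}} (ι : T ⟶ Q) [IsOpenImmersion ι] (m : S ⟶ Q)
    (hr : Set.range m.base ⊆ Set.range ι.base) (W : Q.Opens) (hW : (⊤ : T.Opens) ≤ ι ⁻¹ᵁ W)
    (hW' : (⊤ : S.Opens) ≤ m ⁻¹ᵁ W) (x : Γ(Q, W)) :
    (IsOpenImmersion.lift ι m hr).appTop (ι.appLE W ⊤ hW x) = m.appLE W ⊤ hW' x := by
  have h1 : IsOpenImmersion.lift ι m hr ≫ ι = m := IsOpenImmersion.lift_fac _ _ _
  have e3 : (⊤ : S.Opens) ≤ (IsOpenImmersion.lift ι m hr) ⁻¹ᵁ ⊤ := le_rfl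
  have hW'' : (⊤ : S.Opens) ≤ (IsOpenImmersion.lift ι m hr ≫ ι) ⁻¹ᵁ W := by rw [h1]; exact hW'
  have h2 := appLE_comp_apply (IsOpenImmersion.lift ι m hr) ι W ⊤ ⊤ hW e3 hW'' x
  have h4 : (IsOpenImmersion.lift ι m hr).appLE ⊤ ⊤ e3 = (IsOpenImmersion.lift ι m hr).appTop :=
    Scheme.Hom.appLE_eq_app _
  rw [h4] at h2
  rw [← h2]
  exact congr($(appLE_congr_hom h1 W ⊤ hW'') x)

variable {X Y P PL : Scheme.{u}} {E : Y.Modules} [E.IsQuasicoherent]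
  {𝒮 : RelProj.QCGrAlg Y} {j : E ⟶ 𝒮.toModule} {hj : RelProj.IsGrSymAlg E 𝒮 j}
  {p : P ⟶ Y}
  {chart : ∀ (U : Y.Opens) (hU : IsAffineOpen U), ((p ⁻¹ᵁ U : P.Opens) : Scheme.{u}) ≅ Proj (𝒮.deg U hU)}
  (hP : RelProj.IsRelProj 𝒮 p chart)
  {O1 : P.Modules}
  {lam : ∀ (U : Y.Opens) (hU : IsAffineOpen U),
    O1 ⟶ (Scheme.Modules.pushforward (RelProj.emb p chart U hU)).obj (GrTwist.twist (𝒮.deg U hU) 1)}
  (hO1 : RelProj.IsRelTwist 𝒮 p chart 1 O1 lam)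
  (i : X ⟶ P) {L : X.Modules} [L.IsQuasicoherent]
  (φL : (Scheme.Modules.pullback i).obj O1 ≅ L)
  {𝒮L : RelProj.QCGrAlg X} {jL : L ⟶ 𝒮L.toModule} {hjL : RelProj.IsGrSymAlg L 𝒮L jL}
  {pL : PL ⟶ X}
  {chartL : ∀ (U : X.Opens) (hU : IsAffineOpen U), ((pL ⁻¹ᵁ U : PL.Opens) : Scheme.{u}) ≅ Proj (𝒮L.deg U hU)}
  (hPL : RelProj.IsRelProj 𝒮L pL chartL)
  (U : Y.Opens) (hU : IsAffineOpen U) (e₀ : Γ(E, U)) (V : X.Opens) (hV : IsAffineOpen V)
  (hVD : V ≤ i ⁻¹ᵁ D E 𝒮 j p chart U hU e₀)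
  [Epi (σOf E 𝒮 j hj p chart hP O1 lam hO1 i L φL)]

local notation "σ₀" => σOf E 𝒮 j hj p chart hP O1 lam hO1 i L φL
local notation "u₀" => uOf (i ≫ p) E 𝒮 j hj L 𝒮L jL hjL σ₀
local notation "hle₀" => le_of_le_D E 𝒮 j p chart i U hU e₀ hVD
local notation "φ₀" => RelProj.QGrHom.gradedAt u₀ U hU V hV hle₀
local notation "f₀" => jel E 𝒮 j U e₀
local notation "hf₀" => jel_mem E 𝒮 j hj U hU e₀
local notation "aE" => RelProj.awayEmb u₀ pL chartL U hU V hV hle₀ Nat.one_pos f₀ hf₀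

include hPL in
/-- the standard chart of `PL` followed by the structure morphism -/
theorem aE_comp_pL :
    aE ≫ pL = Spec.map (CommRingCat.ofHom (fromZeroRingHom (𝒮L.deg V hV) (Submonoid.powers (φ₀ f₀)))) ≫
      Spec.map (𝒮L.strZero V hV) ≫ hV.fromSpec := by
  unfold RelProj.awayEmb
  exact chart_comp hPL V hV Nat.one_pos (φ₀ f₀) _

include hPL in
theorem aE_comp_pL_mem (y : Spec (CommRingCat.of (Away (𝒮L.deg V hV) (φ₀ f₀)))) :
    (aE ≫ pL).base y ∈ V := by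
  rw [aE_comp_pL hP hO1 i φL hPL U hU e₀ V hV hVD]
  have : Set.range hV.fromSpec.base = V := hV.range_fromSpec
  rw [← SetLike.mem_coe, ← this]
  exact ⟨_, rfl⟩

include hPL in
/-- functions of `V`, pulled back to the standard chart of `PL` -/
theorem aE_pL_appLE (c : Γ(X, V)) (e : (⊤ : (Spec (CommRingCat.of (Away (𝒮L.deg V hV) (φ₀ f₀)))).Opens) ≤
      (aE ≫ pL) ⁻¹ᵁ V) :
    (aE ≫ pL).appLE V ⊤ e c =
      (Scheme.ΓSpecIso _).inv (fromZeroRingHom (𝒮L.deg V hV) (Submonoid.powers (φ₀ f₀))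
        ((𝒮L.strZero V hV).hom c)) := by
  unfold RelProj.awayEmb
  exact chart_appLE_str hPL V hV Nat.one_pos (φ₀ f₀) _ c e

include hPL in
theorem range_subset :
    Set.range (aE ≫ pL ≫ i).base ⊆ Set.range (ι₀ E 𝒮 j hj p chart U hU e₀).base := by
  rintro _ ⟨y, rfl⟩
  have h1 := aE_comp_pL_mem hP hO1 i φL hPL U hU e₀ V hV hVD y
  have h2 : i.base ((aE ≫ pL).base y) ∈ D E 𝒮 j p chart U hU e₀ := hVD h1
  rw [← opensRange_ι₀ E 𝒮 j hj p chart U hU e₀] at h2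
  have h3 : (aE ≫ pL ≫ i).base y = i.base ((aE ≫ pL).base y) := by
    rw [← Scheme.Hom.comp_apply, Category.assoc]
  rw [h3]
  exact h2

/-- the induced map on the generators `e / e₀` -/
theorem awayMap_ratio (e : Γ(E, U)) (a : Γ(P, D E 𝒮 j p chart U hU e₀))
    (ha : a • res O1 (D_le E 𝒮 j p chart U hU e₀) (sP E 𝒮 j hj p chart hP O1 lam hO1 U e₀) =
      res O1 (D_le E 𝒮 j p chart U hU e₀) (sP E 𝒮 j hj p chart hP O1 lam hO1 U e)) :
    Away.map φ₀ f₀ (Away.mk (𝒮.deg U hU) hf₀ 1 (jel E 𝒮 j U e)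
        (Groth.Agent.Helper18QB.mem_smul_one (jel_mem E 𝒮 j hj U hU e))) =
      fromZeroRingHom (𝒮L.deg V hV) (Submonoid.powers (φ₀ f₀))
        ((𝒮L.strZero V hV).hom (i.appLE _ V hVD a)) := by
  rw [Away.map_mk]
  apply HomogeneousLocalization.val_injective
  rw [Away.val_mk]
  have h1 : φ₀ (jel E 𝒮 j U e) = φAdd L 𝒮L.toQCAlg jL V (sec σ₀ hle₀ e) := gradedAt_j U hU V hV hle₀ e
  have h2 : φ₀ f₀ = φAdd L 𝒮L.toQCAlg jL V (sec σ₀ hle₀ e₀) := gradedAt_j U hU V hV hle₀ e₀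
  have h3 := sec_eq_smul E 𝒮 j hj p chart hP O1 lam hO1 i L φL U hU e₀ e hVD a ha
  rw [h1, ← h3, φAdd_smul, ← h2]
  change _ = Localization.mk ((𝒮L.str.app (op V)).hom (i.appLE _ V hVD a)) 1
  rw [Localization.mk_eq_mk_iff, Localization.r_iff_exists]
  exact ⟨1, by simp only [OneMemClass.coe_one, one_mul, pow_one]; ring⟩

/-- the induced map on the functions of the base -/
theorem awayMap_str (c : Γ(Y, U)) :
    Away.map φ₀ f₀ (fromZeroRingHom (𝒮.deg U hU) (Submonoid.powers f₀) ((𝒮.strZero U hU).hom c)) =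
      fromZeroRingHom (𝒮L.deg V hV) (Submonoid.powers (φ₀ f₀))
        ((𝒮L.strZero V hV).hom ((i ≫ p).appLE U V hle₀ c)) := by
  have h1 := congrArg (fun g => g ((𝒮.strZero U hU).hom c)) (fromZero_comp_awayMap φ₀ f₀)
  simp only [RingHom.comp_apply] at h1
  rw [h1]
  congr 1
  have h2 := strZero_comp_gradedAt u₀ U hU V hV hle₀
  exact congr($h2 c)

include hPL in
theorem top_le_aE_pL : (⊤ : (Spec (CommRingCat.of (Away (𝒮L.deg V hV) (φ₀ f₀)))).Opens) ≤ (aE ≫ pL) ⁻¹ᵁ V :=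
  fun y _ => aE_comp_pL_mem (jL := jL) (hjL := hjL) hP hO1 i φL hPL U hU e₀ V hV hVD y

include hPL in
/-- **the chart equation**: `pL ≫ i` and `Proj` of the attached graded morphism agree on the standard chart. -/
theorem chart_eq :
    aE ≫ pL ≫ i =
      Spec.map (CommRingCat.ofHom (Away.map φ₀ f₀)) ≫ ι₀ E 𝒮 j hj p chart U hU e₀ := by
  have hrange := range_subset (jL := jL) (hjL := hjL) hP hO1 i φL hPL U hU e₀ V hV hVD
  have hn₁ : IsOpenImmersion.lift (ι₀ E 𝒮 j hj p chart U hU e₀) (aE ≫ pL ≫ i) hrange ≫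
      ι₀ E 𝒮 j hj p chart U hU e₀ = aE ≫ pL ≫ i := IsOpenImmersion.lift_fac _ _ _
  suffices h : Spec.preimage (IsOpenImmersion.lift (ι₀ E 𝒮 j hj p chart U hU e₀) (aE ≫ pL ≫ i) hrange) =
      CommRingCat.ofHom (Away.map φ₀ f₀) by
    rw [← hn₁, ← Spec.map_preimage (IsOpenImmersion.lift (ι₀ E 𝒮 j hj p chart U hU e₀) (aE ≫ pL ≫ i) hrange), h]
  have key : ∀ g, (Scheme.ΓSpecIso _).inv
      ((Spec.preimage (IsOpenImmersion.lift (ι₀ E 𝒮 j hj p chart U hU e₀) (aE ≫ pL ≫ i) hrange)).hom g) =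
      (IsOpenImmersion.lift (ι₀ E 𝒮 j hj p chart U hU e₀) (aE ≫ pL ≫ i) hrange).appTop
        ((Scheme.ΓSpecIso _).inv g) := by
    intro g
    have h5 := Scheme.ΓSpecIso_inv_naturality
      (Spec.preimage (IsOpenImmersion.lift (ι₀ E 𝒮 j hj p chart U hU e₀) (aE ≫ pL ≫ i) hrange))
    rw [Spec.map_preimage] at h5
    exact congr($h5 g)
  have hinj : Function.Injective
      (Scheme.ΓSpecIso (CommRingCat.of (Away (𝒮L.deg V hV) (φ₀ f₀)))).inv.hom :=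
    (ConcreteCategory.bijective_of_isIso _).1
  have htopV := top_le_aE_pL (jL := jL) (hjL := hjL) hP hO1 i φL hPL U hU e₀ V hV hVD
  apply CommRingCat.hom_ext
  refine Groth.Agent.Helper18QA.ringHom_ext hf₀ (Set.range (𝒮.str.app (op U)).hom)
    (Set.range fun e : Γ(E, U) => jel E 𝒮 j U e) ?_ ?_ (closure_str_j_eq_top E 𝒮 j hj U hU) ?_ ?_
  · rintro _ ⟨c, rfl⟩
    exact 𝒮.str_mem U hU c
  · rintro _ ⟨e, rfl⟩
    exact jel_mem E 𝒮 j hj U hU e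
  · rintro _ ⟨c, rfl⟩
    apply hinj
    have hg : Away.mk (𝒮.deg U hU) hf₀ 0 ((𝒮.str.app (op U)).hom c)
        (Groth.Agent.Helper18QA.mem_smul_one_of_mem (𝒮.str_mem U hU c)) =
        fromZeroRingHom (𝒮.deg U hU) (Submonoid.powers f₀) ((𝒮.strZero U hU).hom c) := by
      apply HomogeneousLocalization.val_injective
      rw [Away.val_mk]
      change _ = Localization.mk ((𝒮.str.app (op U)).hom c) 1
      rw [Localization.mk_eq_mk_iff, Localization.r_iff_exists]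
      exact ⟨1, by simp⟩
    rw [hg, key]
    change _ = (Scheme.ΓSpecIso (CommRingCat.of (Away (𝒮L.deg V hV) (φ₀ f₀)))).inv (Away.map φ₀ f₀ _)
    rw [awayMap_str (jL := jL) (hjL := hjL) hP hO1 i φL U hU e₀ V hV hVD c]
    have e1 : (⊤ : (Spec (.of (Away (𝒮.deg U hU) f₀))).Opens) ≤
        (ι₀ E 𝒮 j hj p chart U hU e₀ ≫ p) ⁻¹ᵁ U := by
      intro y _
      exact D_le E 𝒮 j p chart U hU e₀ (top_le_ι₀ E 𝒮 j hj p chart U hU e₀ (Set.mem_univ y))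
    have h1 := chart_appLE_str hP U hU Nat.one_pos f₀ hf₀ c e1
    have e2 : (⊤ : (Spec (.of (Away (𝒮.deg U hU) f₀))).Opens) ≤
        ι₀ E 𝒮 j hj p chart U hU e₀ ⁻¹ᵁ (p ⁻¹ᵁ U) := e1
    have h2 := appLE_comp_apply (ι₀ E 𝒮 j hj p chart U hU e₀) p U (p ⁻¹ᵁ U) ⊤ le_rfl e2 e1 c
    have h3 : ((Scheme.ΓSpecIso _).inv (fromZeroRingHom (𝒮.deg U hU) (Submonoid.powers f₀)
        ((𝒮.strZero U hU).hom c))) = (ι₀ E 𝒮 j hj p chart U hU e₀).appLE (p ⁻¹ᵁ U) ⊤ e2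
          (p.appLE U (p ⁻¹ᵁ U) le_rfl c) := by
      rw [← h2]
      exact h1.symm
    rw [h3]
    have e4 : (⊤ : (Spec (CommRingCat.of (Away (𝒮L.deg V hV) (φ₀ f₀)))).Opens) ≤
        (aE ≫ pL ≫ i) ⁻¹ᵁ (p ⁻¹ᵁ U) := fun y _ => hle₀ (htopV (Set.mem_univ y))
    rw [appTop_lift _ _ hrange (p ⁻¹ᵁ U) e2 e4]
    have h5 := appLE_congr_hom (Category.assoc aE pL i).symm (p ⁻¹ᵁ U) ⊤ e4
    rw [h5]
    have h6 := appLE_comp_apply (aE ≫ pL) i (p ⁻¹ᵁ U) V ⊤ hle₀ htopV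
      ((Category.assoc aE pL i).symm ▸ e4) (p.appLE U (p ⁻¹ᵁ U) le_rfl c)
    rw [h6]
    have h7 := appLE_comp_apply i p U (p ⁻¹ᵁ U) V le_rfl hle₀ hle₀ c
    rw [← h7]
    exact aE_pL_appLE (jL := jL) (hjL := hjL) hP hO1 i φL hPL U hU e₀ V hV hVD _ htopV
  · rintro _ ⟨e, rfl⟩
    apply hinj
    obtain ⟨a, ha1, ha2⟩ := exists_ratio E 𝒮 j hj p chart hP O1 lam hO1 U hU e₀ e
    rw [key]
    change _ = (Scheme.ΓSpecIso (CommRingCat.of (Away (𝒮L.deg V hV) (φ₀ f₀)))).inv (Away.map φ₀ f₀ _)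
    rw [awayMap_ratio (jL := jL) (hjL := hjL) hP hO1 i φL U hU e₀ V hV hVD e a ha2]
    have h3 := ι₀_appLE_ratio E 𝒮 j hj p chart U hU e₀ e a ha1
    rw [← h3]
    have e4 : (⊤ : (Spec (CommRingCat.of (Away (𝒮L.deg V hV) (φ₀ f₀)))).Opens) ≤
        (aE ≫ pL ≫ i) ⁻¹ᵁ D E 𝒮 j p chart U hU e₀ := fun y _ => hVD (htopV (Set.mem_univ y))
    rw [appTop_lift _ _ hrange _ (top_le_ι₀ E 𝒮 j hj p chart U hU e₀) e4]
    have h5 := appLE_congr_hom (Category.assoc aE pL i).symm (D E 𝒮 j p chart U hU e₀) ⊤ e4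
    rw [h5]
    have h6 := appLE_comp_apply (aE ≫ pL) i (D E 𝒮 j p chart U hU e₀) V ⊤ hVD htopV
      ((Category.assoc aE pL i).symm ▸ e4) a
    rw [h6]
    exact aE_pL_appLE (jL := jL) (hjL := hjL) hP hO1 i φL hPL U hU e₀ V hV hVD _ htopV

end Groth.Agent.Helper18QF
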