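import Mathlib
import Groth.Prelude
import Groth.Agent.Lib.Helper20EtFinParts
import Groth.Agent.Lib.Helper20FinUnion

set_option autoImplicit false
set_option linter.style.haveILetI false
universe u

open CategoryTheory AlgebraicGeometry Limits

namespace Groth.Agent.Helper18QFSplit

/-- topological characterization of quasi-finiteness at a point -/
theorem quasiFiniteAt_iff_exists_open {Y T : Scheme.{u}} (h : Y ⟶ T) [LocallyOfFiniteType h]
    (y : Y) :
    h.QuasiFiniteAt y ↔ ∃ O : Set Y, IsOpen O ∧ y ∈ O ∧ ∀ y' ∈ O, h y' = h y → y' = y := by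
  rw [Scheme.Hom.quasiFiniteAt_iff_isOpen_singleton_asFiber,
    ← (h.fiberHomeo (h y)).isOpen_image]
  simp only [Set.image_singleton, Scheme.Hom.asFiber, Homeomorph.apply_symm_apply]
  rw [isOpen_induced_iff]
  constructor
  · rintro ⟨O, hO, hOe⟩
    refine ⟨O, hO, ?_, ?_⟩
    · have : (⟨y, rfl⟩ : h ⁻¹' {h y}) ∈ Subtype.val ⁻¹' O := by rw [hOe]; rfl
      exact this
    · intro y' hy' hyy
      have : (⟨y', hyy⟩ : h ⁻¹' {h y}) ∈ Subtype.val ⁻¹' O := hy'
      rw [hOe] at this
      exact congrArg Subtype.val this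
  · rintro ⟨O, hO, hyO, hO'⟩
    refine ⟨O, hO, ?_⟩
    ext ⟨y', hy'⟩
    simp only [Set.mem_preimage, Set.mem_singleton_iff, Subtype.mk.injEq]
    exact ⟨fun hh => hO' y' hh hy', fun hh => hh ▸ hyO⟩

theorem quasiFiniteAt_of_isOpen_singleton {Y T : Scheme.{u}} (h : Y ⟶ T) [LocallyOfFiniteType h]
    (t : T) (w : h.fiber t) (y : Y) (hy : h.fiberι t w = y) (hw : IsOpen ({w} : Set (h.fiber t))) :
    h.QuasiFiniteAt y := by
  have hyt : h y = t := by
    have : y ∈ Set.range (h.fiberι t) := ⟨w, hy⟩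
    rw [h.range_fiberι] at this
    exact this
  subst hyt
  have : w = h.asFiber y := by
    apply (h.fiberι _).isEmbedding.injective
    rw [hy, Scheme.Hom.fiberι_asFiber]
  rw [Scheme.Hom.quasiFiniteAt_iff_isOpen_singleton_asFiber, ← this]
  exact hw

theorem lqf_of_etale {X S : Scheme.{u}} (f : X ⟶ S) [Etale f] : LocallyQuasiFinite f := by
  constructor
  intro U hU V hV e
  have h1 := f.etale_appLE hU hV e
  algebraize [(f.appLE U V e).hom]
  have : Algebra.Etale Γ(S, U) Γ(X, V) := h1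
  exact RingHom.quasiFinite_algebraMap.mpr inferInstance

/-- descent of quasi-finiteness at a point along an étale base change. -/
theorem quasiFiniteAt_fst_of_snd {X S U : Scheme.{u}} (f : X ⟶ S) [LocallyOfFiniteType f]
    (g : U ⟶ S) [Etale g] (y : ↑(pullback f g)) (hy : (pullback.snd f g).QuasiFiniteAt y) :
    f.QuasiFiniteAt (pullback.fst f g y) := by
  rw [quasiFiniteAt_iff_exists_open] at hy ⊢
  obtain ⟨O, hO, hyO, hO'⟩ := hy
  haveI := lqf_of_etale g
  have hgu : g.QuasiFiniteAt (pullback.snd f g y) := g.quasiFiniteAt _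
  rw [quasiFiniteAt_iff_exists_open] at hgu
  obtain ⟨N, hN, huN, hN'⟩ := hgu
  have hopen : IsOpenMap (pullback.fst f g) := (pullback.fst f g).isOpenMap
  refine ⟨pullback.fst f g '' (O ∩ pullback.snd f g ⁻¹' N),
    hopen _ (hO.inter (hN.preimage (pullback.snd f g).continuous)), ⟨y, ⟨hyO, huN⟩, rfl⟩, ?_⟩
  rintro _ ⟨y', ⟨hy'O, hy'N⟩, rfl⟩ hff
  have hcond : ∀ z : ↑(pullback f g), f (pullback.fst f g z) = g (pullback.snd f g z) := by
    intro z
    rw [← Scheme.Hom.comp_apply, ← Scheme.Hom.comp_apply, pullback.condition]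
  have h1 : pullback.snd f g y' = pullback.snd f g y := by
    apply hN' _ hy'N
    rw [← hcond, ← hcond, hff]
  rw [hO' y' hy'O h1]


open Groth.Agent.Lib.Helper20.EtSections in
theorem main_S9762 {X S : Scheme.{u}} (f : X ⟶ S) [LocallyOfFiniteType f] [IsSeparated f] (s : S)
    (hfin : {x : ↑(f.fiber s) | IsOpen ({x} : Set ↑(f.fiber s))}.Finite) :
    ∃ (U : Scheme.{u}) (g : U ⟶ S) (u : U), Hens2.IsEtaleNbhd g u s ∧
      ∃ V : (pullback f g).Opens, IsClopen (V : Set ↑(pullback f g)) ∧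
        IsFinite (V.ι ≫ pullback.snd f g) ∧
        ∀ w : ↑((pullback.snd f g).fiber u), (pullback.snd f g).fiberι u w ∉ V →
          ¬ IsOpen ({w} : Set ↑((pullback.snd f g).fiber u)) := by
  classical
  let T : Set X := {x | f x = s ∧ f.QuasiFiniteAt x}
  have hT : T.Finite := by
    refine (hfin.image (f.fiberι s)).subset ?_
    rintro x ⟨hxs, hq⟩
    subst hxs
    exact ⟨f.asFiber x, Scheme.Hom.quasiFiniteAt_iff_isOpen_singleton_asFiber.mp hq,
      f.fiberι_asFiber x⟩
  obtain ⟨U, g, u, hg, hu, hbij, d⟩ := hasFinParts_of_finite (f := f) s T hT (fun t ht => ht)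
  haveI := hg
  have hd : ∀ t : T, ∃ V : (pullback f g).Opens, IsFinite (V.ι ≫ pullback.snd f g) ∧
      ∀ w : ↥(pullback f g), pullback.snd f g w = u → (w ∈ V ↔ pullback.fst f g w = t.1) :=
    fun t => d t.1 t.2
  choose V hVfin hV using hd
  haveI : Finite T := hT.to_subtype
  have hVc : ∀ t : T, IsClosed (V t : Set ↑(pullback f g)) := fun t =>
    haveI := hVfin t
    Groth.Agent.Lib.Helper20.FinUnion.isClosed_of_isFinite (pullback.snd f g) (V t)
  obtain ⟨hfinU, hclosedU⟩ :=
    Groth.Agent.Lib.Helper20.FinUnion.isFinite_iSup_of_isClosed (pullback.snd f g) V hVc hVfin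
  refine ⟨U, g, u, ⟨hg, hu, hbij⟩, ⨆ t, V t, ⟨hclosedU, (⨆ t, V t).2⟩, hfinU, ?_⟩
  intro w hwV hw
  apply hwV
  have hq := quasiFiniteAt_of_isOpen_singleton (pullback.snd f g) u w _ rfl hw
  have hsnd : pullback.snd f g ((pullback.snd f g).fiberι u w) = u := by
    have : (pullback.snd f g).fiberι u w ∈ Set.range ((pullback.snd f g).fiberι u) := ⟨w, rfl⟩
    rw [(pullback.snd f g).range_fiberι] at this
    exact this
  have hq' := quasiFiniteAt_fst_of_snd f g _ hq
  have hfs : f (pullback.fst f g ((pullback.snd f g).fiberι u w)) = s := by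
    rw [← Scheme.Hom.comp_apply, pullback.condition, Scheme.Hom.comp_apply, hsnd, hu]
  let t : T := ⟨pullback.fst f g ((pullback.snd f g).fiberι u w), hfs, hq'⟩
  have : (pullback.snd f g).fiberι u w ∈ V t := (hV t _ hsnd).mpr rfl
  exact TopologicalSpace.Opens.mem_iSup.mpr ⟨t, this⟩

end Groth.Agent.Helper18QFSplit
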