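import Mathlib
import Groth.Prelude.Def_RelProj4
import Groth.Agent.Lib.Helper18QF

/-!
# `pL ≫ i = r`: a morphism into `P(E)` is recovered from its attached quotient (helper18)

Namespace `Groth.Agent.Helper18QG`.
-/

set_option autoImplicit false
set_option linter.style.haveILetI false
set_option linter.unusedSectionVars false
universe u

open CategoryTheory CategoryTheory.Limits AlgebraicGeometry TopologicalSpace Opposite HomogeneousLocalization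
open Groth.Agent.Lib.Helper23.SecTw Groth.Agent.Lib.Helper6 Groth.Agent.Lib.Helper2GrModSect
open Groth.Agent.Helper13PullbackUnit Groth.Agent.Helper18QC Groth.Agent.Helper18QD Groth.Agent.Helper18QE
open Groth.Agent.Helper18PB Groth.Agent.Helper18PD Groth.Agent.Helper18PK Groth.Agent.Helper18QF
open Groth.Agent.Helper13RelProj Groth.Agent.Helper13ProjBC Groth.Agent.Helper13SymAlg

namespace Groth.Agent.Helper18QG

variable {X Y P PL : Scheme.{u}} {E : Y.Modules} [E.IsQuasicoherent] (hE : Coh.IsQCoh E)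
  {𝒮 : RelProj.QCGrAlg Y} {j : E ⟶ 𝒮.toModule} {hj : RelProj.IsGrSymAlg E 𝒮 j}
  {p : P ⟶ Y}
  {chart : ∀ (U : Y.Opens) (hU : IsAffineOpen U), ((p ⁻¹ᵁ U : P.Opens) : Scheme.{u}) ≅ Proj (𝒮.deg U hU)}
  (hP : RelProj.IsRelProj 𝒮 p chart)
  {O1 : P.Modules}
  {lam : ∀ (U : Y.Opens) (hU : IsAffineOpen U),
    O1 ⟶ (Scheme.Modules.pushforward (RelProj.emb p chart U hU)).obj (GrTwist.twist (𝒮.deg U hU) 1)}
  (hO1 : RelProj.IsRelTwist 𝒮 p chart 1 O1 lam)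
  (i : X ⟶ P) {L : X.Modules} [L.IsQuasicoherent]
  (φL : (Scheme.Modules.pullback i).obj O1 ≅ L)
  {𝒮L : RelProj.QCGrAlg X} {jL : L ⟶ 𝒮L.toModule} {hjL : RelProj.IsGrSymAlg L 𝒮L jL}
  {pL : PL ⟶ X}
  {chartL : ∀ (U : X.Opens) (hU : IsAffineOpen U), ((pL ⁻¹ᵁ U : PL.Opens) : Scheme.{u}) ≅ Proj (𝒮L.deg U hU)}
  (hPL : RelProj.IsRelProj 𝒮L pL chartL)

include hE hPL in
/-- **A morphism into `P(E)` is recovered from its attached quotient**: if `r : P(L) ⟶ P(E)` is `Proj` of the graded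
morphism attached to `σ : (i ≫ p)^* E ⟶ L` (the quotient attached to `i` and `i^* O(1) ≅ L`), then `r = pL ≫ i`
(`pL : P(L) ⟶ X` being the structure isomorphism). -/
theorem pL_comp_eq (r : PL ⟶ P)
    (hr : RelProj.IsProjQMap (uOf (i ≫ p) E 𝒮 j hj L 𝒮L jL hjL (σOf E 𝒮 j hj p chart hP O1 lam hO1 i L φL))
      p chart pL chartL r) :
    pL ≫ i = r := by
  haveI hepi : Epi (σOf E 𝒮 j hj p chart hP O1 lam hO1 i L φL) :=
    epi_σOf E hE 𝒮 j hj p chart hP O1 lam hO1 i L φL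
  refine hom_ext_of_openImmersions _ _ fun y => ?_
  -- an affine open `U` of `Y` around the image of `y`
  obtain ⟨_, ⟨U, hU : IsAffineOpen U, rfl⟩, hyU, -⟩ :=
    Y.isBasis_affineOpens.exists_subset_of_mem_open (Set.mem_univ (p.base (i.base (pL.base y)))) isOpen_univ
  obtain ⟨e₀, he₀⟩ := exists_mem_D E hE 𝒮 j hj p chart U hU (i.base (pL.base y)) hyU
  -- an affine open `V` of `X` around `pL y` inside `i⁻¹ D(e₀)`
  obtain ⟨_, ⟨V, hV : IsAffineOpen V, rfl⟩, hyV, hVD'⟩ :=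
    X.isBasis_affineOpens.exists_subset_of_mem_open (show pL.base y ∈ (i ⁻¹ᵁ D E 𝒮 j p chart U hU e₀ : Set X) from he₀)
      (i ⁻¹ᵁ D E 𝒮 j p chart U hU e₀).isOpen
  have hVD : V ≤ i ⁻¹ᵁ D E 𝒮 j p chart U hU e₀ := hVD'
  have hle := le_of_le_D E 𝒮 j p chart i U hU e₀ hVD
  have hf := jel_mem E 𝒮 j hj U hU e₀
  have h0 : IsOpenImmersion (RelProj.awayEmb (uOf (i ≫ p) E 𝒮 j hj L 𝒮L jL hjL
      (σOf E 𝒮 j hj p chart hP O1 lam hO1 i L φL)) pL chartL U hU V hV hle Nat.one_pos (jel E 𝒮 j U e₀) hf) := by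
    unfold RelProj.awayEmb; infer_instance
  have hφf : (uOf (i ≫ p) E 𝒮 j hj L 𝒮L jL hjL (σOf E 𝒮 j hj p chart hP O1 lam hO1 i L φL)).gradedAt U hU V hV hle
      (jel E 𝒮 j U e₀) = φAdd L 𝒮L.toQCAlg jL V (sec (σOf E 𝒮 j hj p chart hP O1 lam hO1 i L φL) hle e₀) :=
    gradedAt_j U hU V hV hle e₀
  have ht := isGen_sec E 𝒮 j hj p chart hP O1 lam hO1 i L φL hE U hU e₀ hVD
  have hiU : (RelProj.awayEmb (uOf (i ≫ p) E 𝒮 j hj L 𝒮L jL hjL
      (σOf E 𝒮 j hj p chart hP O1 lam hO1 i L φL)) pL chartL U hU V hV hle Nat.one_pos (jel E 𝒮 j U e₀) hf).opensRange =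
      pL ⁻¹ᵁ V := by
    unfold RelProj.awayEmb
    rw [Scheme.Hom.opensRange_comp, Proj.opensRange_awayι]
    change (RelProj.emb pL chartL V hV) ''ᵁ Proj.basicOpen (𝒮L.deg V hV)
      ((uOf (i ≫ p) E 𝒮 j hj L 𝒮L jL hjL (σOf E 𝒮 j hj p chart hP O1 lam hO1 i L φL)).gradedAt U hU V hV hle
        (jel E 𝒮 j U e₀)) = _
    rw [hφf, basicOpen_eq_top_of_isGen L 𝒮L jL hjL hV _ ht, Scheme.Hom.image_top_eq_opensRange,
      Groth.Agent.Helper13RL.opensRange_emb]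
  refine ⟨_, RelProj.awayEmb (uOf (i ≫ p) E 𝒮 j hj L 𝒮L jL hjL
      (σOf E 𝒮 j hj p chart hP O1 lam hO1 i L φL)) pL chartL U hU V hV hle Nat.one_pos (jel E 𝒮 j U e₀) hf, h0, ?_, ?_⟩
  · have : y ∈ (RelProj.awayEmb (uOf (i ≫ p) E 𝒮 j hj L 𝒮L jL hjL
      (σOf E 𝒮 j hj p chart hP O1 lam hO1 i L φL)) pL chartL U hU V hV hle Nat.one_pos (jel E 𝒮 j U e₀) hf).opensRange := by
      rw [hiU]; exact hyV
    exact this
  · rw [hr.2 U hU V hV hle 1 Nat.one_pos (jel E 𝒮 j U e₀) hf]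
    exact chart_eq (jL := jL) (hjL := hjL) hP hO1 i φL hPL U hU e₀ V hV hVD

end Groth.Agent.Helper18QG
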