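import Mathlib
import Groth.Prelude.Def_RelProj4
import Groth.Agent.Lib.Helper18QG
import Groth.Agent.Lib.Helper18DegOneC
import Groth.Agent.Lib.Helper13ProjLine
import Groth.Agent.S12153

/-!
# Very ample ⇒ the canonical `r_{L, cou} : X → P(q_* L)` is everywhere defined and an immersion (helper18)

Namespace `Groth.Agent.Helper18QH`.
-/

set_option autoImplicit false
set_option linter.style.haveILetI false
set_option linter.unusedSectionVars false
universe u

open CategoryTheory CategoryTheory.Limits AlgebraicGeometry TopologicalSpace Opposite HomogeneousLocalization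
open Groth.Agent.Lib.Helper23.SecTw Groth.Agent.Lib.Helper6 Groth.Agent.Lib.Helper2GrModSect
open Groth.Agent.Helper13PullbackUnit Groth.Agent.Helper18QC Groth.Agent.Helper18QD Groth.Agent.Helper18QE
open Groth.Agent.Helper18PB Groth.Agent.Helper18PD Groth.Agent.Helper18PK Groth.Agent.Helper18QF
open Groth.Agent.Helper13RelProj Groth.Agent.Helper13ProjBC Groth.Agent.Helper13SymAlg

namespace Groth.Agent.Helper18QH

section ext

variable {X Y : Scheme.{u}} (q : X ⟶ Y) (E : Y.Modules) [E.IsQuasicoherent]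
  (𝒮 : RelProj.QCGrAlg Y) (j : E ⟶ 𝒮.toModule) (hj : RelProj.IsGrSymAlg E 𝒮 j)
  {A : RelSpec.QCAlg Y} {B : RelSpec.QCAlg X}

/-- a `q`-morphism as a morphism of presheaves into the direct image -/
noncomputable def toNat {A : RelSpec.QCAlg Y} (u : RelSpec.QHom q A B) : A.presheaf ⟶ q.base _* B.presheaf where
  app U := u.app U.unop
  naturality {U V} i := by
    have h := u.naturality (leOfHom i.unop)
    exact h.symm

include hj in
/-- **two `q`-morphisms out of a symmetric algebra, one of them factored through an algebra homomorphism, agree as soon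
as they agree on the module** -/
theorem app_eq_comp (v : 𝒮.toQCAlg ⟶ A) (u : RelSpec.QHom q A B) (u' : RelSpec.QHom q 𝒮.toQCAlg B)
    (h : ∀ (U : Y.Opens) (_ : IsAffineOpen U) (e : Γ(E, U)),
      (u'.app U).hom (jel E 𝒮 j U e) = (u.app U).hom ((v.hom.app (op U)).hom (jel E 𝒮 j U e)))
    (U : Y.Opens) : u'.app U = v.hom.app (op U) ≫ u.app U := by
  have key : toNat q u' = v.hom ≫ toNat q u := by
    refine Groth.Agent.Helper18SymBC.hom_ext_sheaf
      (TopCat.Sheaf.pushforward_sheaf_of_sheaf q.base B.isSheaf) _ _ fun W hW => ?_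
    rw [NatTrans.comp_app]
    change u'.app W = v.hom.app (op W) ≫ u.app W
    apply CommRingCat.hom_ext
    refine RingHom.eq_of_eqOn_set_dense (closure_str_j_eq_top E 𝒮 j hj W hW) ?_
    rintro x (⟨c, rfl⟩ | ⟨e, rfl⟩)
    · have h1 := congr($(u'.str_app W) c)
      have h2 := congr($(u.str_app W) c)
      have h3 := congr($(NatTrans.congr_app v.comm (op W)) c)
      change (u'.app W).hom ((𝒮.str.app (op W)).hom c) =
        (u.app W).hom ((v.hom.app (op W)).hom ((𝒮.str.app (op W)).hom c))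
      have h3' : (v.hom.app (op W)).hom ((𝒮.str.app (op W)).hom c) = (A.str.app (op W)).hom c := h3
      rw [h3']
      exact h1.trans h2.symm
    · exact h W hW e
  exact NatTrans.congr_app key (op U)

end ext

section main

variable {X Y P PL : Scheme.{u}} (q : X ⟶ Y)
  (L : X.Modules) (hL : PicF.IsInvertible L) (hLq : Coh.IsQCoh L)
  (𝒮L : RelProj.QCGrAlg X) (jL : L ⟶ 𝒮L.toModule) (hjL : RelProj.IsGrSymAlg L 𝒮L jL)
  (pL : PL ⟶ X) (chartL : ∀ (U : X.Opens) (hU : IsAffineOpen U), (((pL ⁻¹ᵁ U : PL.Opens) : Scheme.{u}) ≅ Proj (𝒮L.deg U hU)))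
  (hPL : RelProj.IsRelProj 𝒮L pL chartL)

include hL hLq hjL hPL in
/-- **EGA II 4.4.4 a) ⇒ b), general form**: if `L` is very ample relative to `q`, then for any graded `q`-morphism
`u : 𝒜 → q_* 𝒮L` out of a quasi-coherent graded algebra through which the graded morphisms attached to maps
`E' → q_* L` factor (here: `E = q_* L` itself sits in `𝒜` and `u` restricts to the identity of `q_* L`), `Proj(u)` is
everywhere defined and an immersion. -/
theorem canonical_of_veryAmple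
    (𝒜 : RelProj.QCGrAlg Y) (jE : (Scheme.Modules.pushforward q).obj L ⟶ 𝒜.toModule)
    (hjE1 : ∀ (U : Y.Opens) (hU : IsAffineOpen U) (x : Γ((Scheme.Modules.pushforward q).obj L, U)),
      (jE.app U) x ∈ 𝒜.deg U hU 1)
    (u : RelProj.QGrHom q 𝒜 𝒮L)
    (hu : ∀ (U : Y.Opens) (x : Γ((Scheme.Modules.pushforward q).obj L, U)),
      (u.app U).hom ((jE.app U) x) = (jL.app (q ⁻¹ᵁ U)) x)
    (p : P ⟶ Y) (chart : ∀ (U : Y.Opens) (hU : IsAffineOpen U), (((p ⁻¹ᵁ U : P.Opens) : Scheme.{u}) ≅ Proj (𝒜.deg U hU)))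
    (hP : RelProj.IsRelProj 𝒜 p chart)
    (r : ((RelProj.domQ u pL chartL : PL.Opens) : Scheme.{u}) ⟶ P)
    (hr : RelProj.IsProjQMapOn u p chart pL chartL (RelProj.domQ u pL chartL) r)
    (h : RelProj.IsRelVeryAmple q L) :
    RelProj.domQ u pL chartL = ⊤ ∧ IsImmersion r := by
  obtain ⟨E', hE', 𝒮', j', hj', P', p', chart', hP', O1', lam', hO1', i, himm, hi, ⟨eL⟩⟩ := h
  subst hi
  haveI : E'.IsQuasicoherent := hE'
  haveI : L.IsQuasicoherent := hLq
  -- the quotient attached to `i` and the graded morphism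
  have hepi : Epi (σOf E' 𝒮' j' hj' p' chart' hP' O1' lam' hO1' i L eL.symm) :=
    epi_σOf E' hE' 𝒮' j' hj' p' chart' hP' O1' lam' hO1' i L eL.symm
  obtain ⟨r'', hr''⟩ := Groth.Agent.Helper18PC.exists_isProjQMap (i ≫ p') E' 𝒮' j' hj' p' chart' hP' L 𝒮L jL hjL
    pL chartL hPL (σOf E' 𝒮' j' hj' p' chart' hP' O1' lam' hO1' i L eL.symm)
  have hT1 : pL ≫ i = r'' :=
    Groth.Agent.Helper18QG.pL_comp_eq hE' hP' hO1' i eL.symm hPL r'' hr''
  have hpLiso : IsIso pL := Groth.Agent.Helper13ProjLine.isIso_relProj L 𝒮L jL hjL pL chartL hPL hL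
  have himm'' : IsImmersion r'' := by rw [← hT1]; infer_instance
  -- the homomorphism `Sym(E') → 𝒜`
  obtain ⟨v, hv, -⟩ := hj'.1 𝒜.toQCAlg (ψOf E' 𝒮' j' hj' p' chart' hP' O1' lam' hO1' i L eL.symm ≫ jE)
  have hvj : ∀ (U : Y.Opens) (e : Γ(E', U)), (v.hom.app (op U)).hom (jel E' 𝒮' j' U e) =
      (jE.app U) ((ψOf E' 𝒮' j' hj' p' chart' hP' O1' lam' hO1' i L eL.symm).app U e) := by
    intro U e
    have := congr($(hv).app U e)
    exact this
  have hgr : RelProj.IsGradedHom v := by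
    refine Groth.Agent.Helper18DegOne.isGradedHom_of_factor 𝒜 E' hE' 𝒮' j' hj' v ?_
    intro U hU e
    rw [hv]
    exact hjE1 U hU _
  have hu' : ∀ U : Y.Opens, (uOf (i ≫ p') E' 𝒮' j' hj' L 𝒮L jL hjL
      (σOf E' 𝒮' j' hj' p' chart' hP' O1' lam' hO1' i L eL.symm)).app U = v.hom.app (op U) ≫ u.app U := by
    refine app_eq_comp (i ≫ p') E' 𝒮' j' hj' v u.toQHom _ ?_
    intro U hU e
    rw [hvj, hu]
    have h1 := uOf_j (i ≫ p') E' 𝒮' j' hj' L 𝒮L jL hjL
      (σOf E' 𝒮' j' hj' p' chart' hP' O1' lam' hO1' i L eL.symm) U e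
    refine h1.trans ?_
    congr 1
    have h2 := sec_adj (i ≫ p') L (ψOf E' 𝒮' j' hj' p' chart' hP' O1' lam' hO1' i L eL.symm)
      (le_refl ((i ≫ p') ⁻¹ᵁ U)) e
    rw [res_self] at h2
    refine Eq.trans ?_ h2
    unfold sec
    rw [unitSec_apply]
    congr 1
    exact (res_self _ _).symm
  -- apply the factorization statement
  have hdom : RelProj.domQ (uOf (i ≫ p') E' 𝒮' j' hj' L 𝒮L jL hjL
      (σOf E' 𝒮' j' hj' p' chart' hP' O1' lam' hO1' i L eL.symm)) pL chartL = ⊤ := hr''.1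
  have hr'On : RelProj.IsProjQMapOn (uOf (i ≫ p') E' 𝒮' j' hj' L 𝒮L jL hjL
      (σOf E' 𝒮' j' hj' p' chart' hP' O1' lam' hO1' i L eL.symm)) p' chart' pL chartL
      (RelProj.domQ (uOf (i ≫ p') E' 𝒮' j' hj' L 𝒮L jL hjL
        (σOf E' 𝒮' j' hj' p' chart' hP' O1' lam' hO1' i L eL.symm)) pL chartL)
      ((RelProj.domQ (uOf (i ≫ p') E' 𝒮' j' hj' L 𝒮L jL hjL
        (σOf E' 𝒮' j' hj' p' chart' hP' O1' lam' hO1' i L eL.symm)) pL chartL).ι ≫ r'') := by
    intro U hU U' hU' hle d hd f hf hW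
    rw [← Category.assoc, IsOpenImmersion.lift_fac]
    exact hr''.2 U hU U' hU' hle d hd f hf
  have himm' : IsImmersion ((RelProj.domQ (uOf (i ≫ p') E' 𝒮' j' hj' L 𝒮L jL hjL
      (σOf E' 𝒮' j' hj' p' chart' hP' O1' lam' hO1' i L eL.symm)) pL chartL).ι ≫ r'') := inferInstance
  exact Groth.Agent.S12153.result (i ≫ p') L hL hLq 𝒜 𝒮L jL hjL u p chart hP pL chartL hPL r hr 𝒮' v hgr
    (uOf (i ≫ p') E' 𝒮' j' hj' L 𝒮L jL hjL (σOf E' 𝒮' j' hj' p' chart' hP' O1' lam' hO1' i L eL.symm)) hu'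
    p' chart' hP' _ hr'On hdom himm'

end main

end Groth.Agent.Helper18QH
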