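import Mathlib
import Groth.Prelude.Def_RelProj4
import Groth.Agent.Lib.Helper18QH
import Groth.Agent.Lib.Helper18KE
import Groth.Agent.Lib.Helper6Proper
import Groth.Agent.Lib.Helper17FinProjLoc
import Groth.Agent.Lib.Helper23QCohLocal

/-!
# proper + very ample + `f_* L` of finite type ⇒ projective (helper18)

Namespace `Groth.Agent.Helper18QI`.
-/

set_option autoImplicit false
set_option linter.style.haveILetI false
set_option linter.unusedSectionVars false
universe u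

open CategoryTheory CategoryTheory.Limits AlgebraicGeometry TopologicalSpace Opposite HomogeneousLocalization
open Groth.Agent.Lib.Helper23.SecTw Groth.Agent.Lib.Helper6 Groth.Agent.Lib.Helper2GrModSect
open Groth.Agent.Helper13PullbackUnit Groth.Agent.Helper18QC Groth.Agent.Helper18QD Groth.Agent.Helper18QE
open Groth.Agent.Helper18PB Groth.Agent.Helper18PD Groth.Agent.Helper18PK Groth.Agent.Helper18PH
open Groth.Agent.Helper13RelProj Groth.Agent.Helper13ProjBC Groth.Agent.Helper13SymAlg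

namespace Groth.Agent.Helper18QI

/-- the counit `f^* f_* L → L` is an epimorphism for `L` very ample relative to `f` -/
theorem epi_cou_of_veryAmple {X Y : Scheme.{u}} (f : X ⟶ Y) (L : X.Modules) [L.IsQuasicoherent]
    (hva : RelProj.IsRelVeryAmple f L) : Epi (cou f L) := by
  obtain ⟨E', hE', 𝒮', j', hj', P', p', chart', hP', O1', lam', hO1', i, himm, hi, ⟨eL⟩⟩ := hva
  subst hi
  haveI : E'.IsQuasicoherent := hE'
  have h1 : Epi (σOf E' 𝒮' j' hj' p' chart' hP' O1' lam' hO1' i L eL.symm) :=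
    epi_σOf E' hE' 𝒮' j' hj' p' chart' hP' O1' lam' hO1' i L eL.symm
  haveI h2 : Epi ((Scheme.Modules.pullback (i ≫ p')).map (ψOf E' 𝒮' j' hj' p' chart' hP' O1' lam' hO1' i L eL.symm) ≫
      cou (i ≫ p') L) := h1
  exact epi_of_epi ((Scheme.Modules.pullback (i ≫ p')).map (ψOf E' 𝒮' j' hj' p' chart' hP' O1' lam' hO1' i L eL.symm))
    (cou (i ≫ p') L)

/-- **proper + very ample with direct image of finite type ⇒ projective** -/
theorem isProjective_of_proper_veryAmple {X Y : Scheme.{u}} (f : X ⟶ Y) [IsProper f]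
    (L : X.Modules) (hL : PicF.IsInvertible L) (hva : RelProj.IsRelVeryAmple f L)
    (hft : CohB1.IsFT ((Scheme.Modules.pushforward f).obj L)) : RelProj.IsProjective f := by
  haveI hLq' : L.IsQuasicoherent := isQuasicoherent_of_isInvertible L hL
  have hLq : Coh.IsQCoh L := hLq'
  haveI hEq' : ((Scheme.Modules.pushforward f).obj L).IsQuasicoherent :=
    Groth.Agent.Lib.Helper23.QCohLocal.isQuasicoherent_pushforward f L
  have hEq : Coh.IsQCoh ((Scheme.Modules.pushforward f).obj L) := hEq'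
  obtain ⟨𝒜, jE, hjE⟩ := Groth.Agent.Helper18GrSym.exists_isGrSymAlg ((Scheme.Modules.pushforward f).obj L) hEq
  obtain ⟨𝒮L, jL, hjL⟩ := Groth.Agent.Helper18GrSym.exists_isGrSymAlg L hLq
  have hP := isRelProj_relProj 𝒜
  have hPL := isRelProj_relProj 𝒮L
  haveI hepi : Epi (cou f L) := epi_cou_of_veryAmple f L hva
  obtain ⟨r₀, hr₀⟩ := Groth.Agent.Helper18PC.exists_isProjQMap f ((Scheme.Modules.pushforward f).obj L) 𝒜 jE hjE
    (relProjπ 𝒜) (relProjChart 𝒜) hP L 𝒮L jL hjL (relProjπ 𝒮L) (relProjChart 𝒮L) hPL (cou f L)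
  have hu : ∀ (U : Y.Opens) (x : Γ((Scheme.Modules.pushforward f).obj L, U)),
      ((uOf f ((Scheme.Modules.pushforward f).obj L) 𝒜 jE hjE L 𝒮L jL hjL (cou f L)).app U).hom ((jE.app U) x) =
        (jL.app (f ⁻¹ᵁ U)) x := by
    intro U x
    have h1 := uOf_j f ((Scheme.Modules.pushforward f).obj L) 𝒜 jE hjE L 𝒮L jL hjL (cou f L) U x
    refine h1.trans ?_
    congr 1
    have h2 := sec_cou f L (le_refl (f ⁻¹ᵁ U)) x
    rw [res_self] at h2
    refine Eq.trans ?_ h2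
    unfold sec
    rw [unitSec_apply]
    congr 1
    exact (res_self _ _).symm
  have hOn := Groth.Agent.Helper13RL.isProjQMapOn_of_isProjQMap
    (uOf f ((Scheme.Modules.pushforward f).obj L) 𝒜 jE hjE L 𝒮L jL hjL (cou f L)) hr₀
    (RelProj.domQ (uOf f ((Scheme.Modules.pushforward f).obj L) 𝒜 jE hjE L 𝒮L jL hjL (cou f L))
      (relProjπ 𝒮L) (relProjChart 𝒮L))
  obtain ⟨-, himm⟩ := Groth.Agent.Helper18QH.canonical_of_veryAmple f L hL hLq 𝒮L jL hjL
    (relProjπ 𝒮L) (relProjChart 𝒮L) hPL 𝒜 jE hjE.2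
    (uOf f ((Scheme.Modules.pushforward f).obj L) 𝒜 jE hjE L 𝒮L jL hjL (cou f L)) hu
    (relProjπ 𝒜) (relProjChart 𝒜) hP _ hOn hva
  haveI hι : IsIso (RelProj.domQ (uOf f ((Scheme.Modules.pushforward f).obj L) 𝒜 jE hjE L 𝒮L jL hjL (cou f L))
      (relProjπ 𝒮L) (relProjChart 𝒮L)).ι := by
    rw [hr₀.1]
    exact (show IsIso (Scheme.topIso (relProj 𝒮L)).hom from inferInstance)
  have himm₀ : IsImmersion r₀ := by
    have h3 : r₀ = inv (RelProj.domQ (uOf f ((Scheme.Modules.pushforward f).obj L) 𝒜 jE hjE L 𝒮L jL hjL (cou f L))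
        (relProjπ 𝒮L) (relProjChart 𝒮L)).ι ≫
        ((RelProj.domQ (uOf f ((Scheme.Modules.pushforward f).obj L) 𝒜 jE hjE L 𝒮L jL hjL (cou f L))
          (relProjπ 𝒮L) (relProjChart 𝒮L)).ι ≫ r₀) := by
      rw [IsIso.inv_hom_id_assoc]
    rw [h3]
    infer_instance
  haveI hpLiso : IsIso (relProjπ 𝒮L) :=
    Groth.Agent.Helper13ProjLine.isIso_relProj L 𝒮L jL hjL (relProjπ 𝒮L) (relProjChart 𝒮L) hPL hL
  have hover : r₀ ≫ relProjπ 𝒜 = relProjπ 𝒮L ≫ f := Groth.Agent.Helper18PC.isProjQMap_comp hP hPL hr₀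
  have hi₀ : (inv (relProjπ 𝒮L) ≫ r₀) ≫ relProjπ 𝒜 = f := by
    rw [Category.assoc, hover, IsIso.inv_hom_id_assoc]
  haveI : IsSeparated (relProjπ 𝒜) :=
    Groth.Agent.Lib.Helper6.isSeparated_of_isRelProj 𝒜 (relProjπ 𝒜) (relProjChart 𝒜) hP
  haveI : IsImmersion (inv (relProjπ 𝒮L) ≫ r₀) := inferInstance
  haveI : IsProper ((inv (relProjπ 𝒮L) ≫ r₀) ≫ relProjπ 𝒜) := by rw [hi₀]; infer_instance
  haveI : IsProper (inv (relProjπ 𝒮L) ≫ r₀) := IsProper.of_comp _ (relProjπ 𝒜)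
  haveI : IsClosedImmersion (inv (relProjπ 𝒮L) ≫ r₀) :=
    Groth.Agent.Lib.Helper17.FinLoc.isClosedImmersion_of_isImmersion_of_isProper _
  exact Groth.Agent.Helper18KE.isProjective_of_closedImmersion_bundle f ((Scheme.Modules.pushforward f).obj L) hEq hft
    𝒜 jE hjE (relProjπ 𝒜) (relProjChart 𝒜) hP (inv (relProjπ 𝒮L) ≫ r₀) hi₀

end Groth.Agent.Helper18QI
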