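import Mathlib
import Groth.Prelude.Def_QuadGrp

set_option autoImplicit false
universe u v

namespace Groth.Agent.Lib.Helper18Quad

open QuadraticMap

section Refl
variable {A : Type u} [CommRing A] {W : Type v} [AddCommGroup W] [Module A W]

/-- reflection-like map `y ↦ y - (c * B(y,v)) v` -/
noncomputable def reflLin (q : QuadraticForm A W) (v : W) (c : A) : W →ₗ[A] W :=
  LinearMap.id - (c • ((polarBilin q).flip v)).smulRight v

lemma reflLin_apply (q : QuadraticForm A W) (v : W) (c : A) (y : W) :
    reflLin q v c y = y - (c * polar q y v) • v := by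
  simp [reflLin, LinearMap.smulRight_apply, polarBilin_apply_apply]

lemma polar_reflLin (q : QuadraticForm A W) (v : W) (c : A) (hc : c * q v = 1) (y : W) :
    polar q (reflLin q v c y) v = - polar q y v := by
  rw [reflLin_apply, sub_eq_add_neg, polar_add_left, ← neg_smul, polar_smul_left, polar_self]
  simp only [smul_eq_mul, nsmul_eq_mul, Nat.cast_ofNat]
  linear_combination (-2 * polar q y v) * hc

lemma reflLin_invol (q : QuadraticForm A W) (v : W) (c : A) (hc : c * q v = 1) (y : W) :
    reflLin q v c (reflLin q v c y) = y := by
  rw [reflLin_apply (y := reflLin q v c y), polar_reflLin q v c hc, reflLin_apply]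
  rw [mul_neg, neg_smul]
  abel

lemma reflLin_isometry (q : QuadraticForm A W) (v : W) (c : A) (hc : c * q v = 1) (y : W) :
    q (reflLin q v c y) = q y := by
  rw [reflLin_apply, sub_eq_add_neg, ← neg_smul, QuadraticMap.map_add (⇑q), QuadraticMap.map_smul,
    polar_smul_right]
  simp only [smul_eq_mul]
  linear_combination (c * polar q y v ^ 2) * hc

/-- the reflection as a linear equivalence -/
noncomputable def reflEquiv (q : QuadraticForm A W) (v : W) (c : A) (hc : c * q v = 1) : W ≃ₗ[A] W :=
  LinearEquiv.ofInvolutive (reflLin q v c) (reflLin_invol q v c hc)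

lemma reflEquiv_apply (q : QuadraticForm A W) (v : W) (c : A) (hc : c * q v = 1) (y : W) :
    reflEquiv q v c hc y = y - (c * polar q y v) • v := by
  show reflLin q v c y = _
  exact reflLin_apply q v c y

end Refl

end Groth.Agent.Lib.Helper18Quad
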