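import Mathlib
import Groth.Prelude.Def_QuadGrp

set_option autoImplicit false
universe u v

namespace Groth.Agent.Lib.Helper18Quad

open QuadraticMap TensorProduct

section BC
variable {R : Type u} [CommRing R] {M : Type v} [AddCommGroup M] [Module R M] [Module.Free R M]
variable (A : Type u) [CommRing A] [Algebra R A]

lemma bcf_apply (Q : QuadraticForm R M) (y : A ⊗[R] M) :
    QuadGrp.baseChangeForm A Q y = AlgebraTensorModule.rid R A A (QuadGrp.baseChange A Q y) := rfl

lemma bcf_tmul (Q : QuadraticForm R M) (a : A) (m : M) :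
    QuadGrp.baseChangeForm A Q (a ⊗ₜ[R] m) = a * a * algebraMap R A (Q m) := by
  rw [bcf_apply, QuadGrp.baseChange_tmul, AlgebraTensorModule.rid_tmul, Algebra.smul_def, mul_comm]

lemma bcf_polar_one (Q : QuadraticForm R M) (m m' : M) :
    polar (QuadGrp.baseChangeForm A Q) ((1 : A) ⊗ₜ[R] m) ((1 : A) ⊗ₜ[R] m') =
      algebraMap R A (polar Q m m') := by
  unfold polar
  rw [← TensorProduct.tmul_add, bcf_tmul, bcf_tmul, bcf_tmul]
  simp only [one_mul, map_sub]

lemma mem_orth_of (Q : QuadraticForm R M) (h : (A ⊗[R] M) ≃ₗ[A] (A ⊗[R] M))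
    (hh : ∀ y, QuadGrp.baseChangeForm A Q (h y) = QuadGrp.baseChangeForm A Q y) :
    h ∈ QuadGrp.orth Q A := by
  intro y
  have := hh y
  rw [bcf_apply, bcf_apply] at this
  exact (AlgebraTensorModule.rid R A A).injective this

lemma bcf_of_mem_orth (Q : QuadraticForm R M) (h : (A ⊗[R] M) ≃ₗ[A] (A ⊗[R] M))
    (hh : h ∈ QuadGrp.orth Q A) (y : A ⊗[R] M) :
    QuadGrp.baseChangeForm A Q (h y) = QuadGrp.baseChangeForm A Q y := by
  rw [bcf_apply, bcf_apply]
  congr 1
  exact hh y

end BC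

end Groth.Agent.Lib.Helper18Quad
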