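import Mathlib
import Groth.Agent.Lib.Helper18Quad1
import Groth.Agent.Lib.Helper18Quad2

set_option autoImplicit false
universe u v

namespace Groth.Agent.Lib.Helper18Quad

open QuadraticMap TensorProduct

section Eigen
variable {R : Type u} [CommRing R] {M : Type v} [AddCommGroup M] [Module R M] [Module.Free R M]
variable (A : Type u) [CommRing A] [Algebra R A]

/-- the commutation hypothesis over `A` -/
def Comm (Q : QuadraticForm R M) (g : M ≃ₗ[R] M) : Prop :=
  ∀ h ∈ QuadGrp.orth Q A, g.baseChange R A M M * h = h * g.baseChange R A M M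

lemma eigen (Q : QuadraticForm R M) (g : M ≃ₗ[R] M) (hcomm : Comm A Q g)
    (v x : A ⊗[R] M) (c : A) (hc : c * QuadGrp.baseChangeForm A Q v = 1)
    (hx : polar (QuadGrp.baseChangeForm A Q) x v = 1) :
    g.baseChange R A M M v =
      (polar (QuadGrp.baseChangeForm A Q) (g.baseChange R A M M x) v) • v := by
  set QA := QuadGrp.baseChangeForm A Q with hQA
  set G := g.baseChange R A M M with hG
  have hτ : reflEquiv QA v c hc ∈ QuadGrp.orth Q A :=
    mem_orth_of A Q _ (fun y => reflLin_isometry QA v c hc y)
  have h1 := hcomm _ hτ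
  have h2 := congrArg (fun f => f x) h1
  simp only [LinearEquiv.mul_apply] at h2
  rw [reflEquiv_apply, reflEquiv_apply, hx, mul_one, map_sub, map_smul] at h2
  have h3 : c • G v = (c * polar QA (G x) v) • v := by
    have := sub_right_injective h2
    exact this
  have h4 := congrArg (fun z => QA v • z) h3
  simp only [smul_smul] at h4
  rw [mul_comm (QA v) c, hc, one_smul, ← mul_assoc, mul_comm (QA v) c, hc, one_mul] at h4
  exact h4

end Eigen

section Coord
variable {R : Type u} [CommRing R] {n : ℕ}
variable (A : Type u) [CommRing A] [Algebra R A]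

/-- the `j`-th coordinate on `A ⊗ (Fin n → R)` -/
noncomputable def coord (j : Fin n) : A ⊗[R] (Fin n → R) →ₗ[A] A :=
  (AlgebraTensorModule.rid R A A).toLinearMap ∘ₗ
    ((LinearMap.proj j : (Fin n → R) →ₗ[R] R).baseChange A)

lemma coord_tmul (j : Fin n) (a : A) (m : Fin n → R) :
    coord A j (a ⊗ₜ[R] m) = a * algebraMap R A (m j) := by
  simp [coord, Algebra.smul_def, mul_comm]

end Coord

end Groth.Agent.Lib.Helper18Quad
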