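import Mathlib
import Groth.Agent.Lib.Helper18Quad3

set_option autoImplicit false
universe u v

namespace Groth.Agent.Lib.Helper18Quad

open QuadraticMap TensorProduct Polynomial

/-- abstract ring-theoretic core of step 4 -/
lemma core4 {L A : Type u} [CommRing L] [CommRing A] (ψ : L →+* A) (hψ : Function.Injective ψ) (S : A)
    (hS : ∀ a b : L, S * ψ a = ψ b → a = 0 ∧ b = 0)
    {n : ℕ} (U W Wg : Fin n → L) (c₀ : L) (lam : A) (i m : Fin n)
    (hUi : U i = 1) (hWi : W i = 0) (hWm : W m = 1)
    (heq : ∀ j, S * ψ (c₀ * U j) + ψ (Wg j) = lam * (S * ψ (U j) + ψ (W j))) :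
    ∀ j, Wg j = c₀ * W j := by
  have e1 := heq i
  rw [hUi, hWi, mul_one, map_zero, add_zero, map_one, mul_one] at e1
  have e2 := heq m
  rw [hWm, map_one] at e2
  have hlam : lam = ψ (Wg m - Wg i * U m) := by
    rw [map_sub, map_mul]
    rw [map_mul] at e2
    linear_combination (-1 : A) * e2 + ψ (U m) * e1
  have h3 : S * ψ (Wg m - Wg i * U m - c₀) = ψ (Wg i) := by
    rw [map_sub _ _ c₀, ← hlam]
    linear_combination (-1 : A) * e1
  obtain ⟨h4, h5⟩ := hS _ _ h3
  have hlam' : lam = ψ c₀ := by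
    rw [hlam]; congr 1; linear_combination h4
  intro j
  apply hψ
  have := heq j
  rw [hlam', map_mul] at this
  rw [map_mul]
  linear_combination this

end Groth.Agent.Lib.Helper18Quad
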