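import Mathlib
import Groth.Agent.Lib.Helper18Quad4

set_option autoImplicit false
universe u v

namespace Groth.Agent.Lib.Helper18Quad

open QuadraticMap TensorProduct Polynomial

variable {R : Type u} [CommRing R] {n : ℕ}

/-- the full commutation hypothesis -/
def CommAll (Q : QuadraticForm R (Fin n → R)) (g : (Fin n → R) ≃ₗ[R] (Fin n → R)) : Prop :=
  ∀ (A : Type u) [CommRing A] [Algebra R A], Comm A Q g

lemma step4 (Q : QuadraticForm R (Fin n → R)) (g : (Fin n → R) ≃ₗ[R] (Fin n → R))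
    (hcomm : CommAll Q g) (L : Type u) [CommRing L] [Algebra R L] (u w e : Fin n → R) (i m : Fin n)
    (hui : u i = 1) (hwi : w i = 0) (hwm : w m = 1)
    (hQu : IsUnit (algebraMap R L (Q u)))
    (hBu : IsUnit (algebraMap R L (polar Q e u)))
    (c₀ : L)
    (hc₀ : ∀ j, algebraMap R L ((g u) j) = c₀ * algebraMap R L (u j)) :
    ∀ j, algebraMap R L ((g w) j) = c₀ * algebraMap R L (w j) := by
  rcases subsingleton_or_nontrivial L with hsub | hnt
  · intro j; exact Subsingleton.elim _ _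
  set φ₀ := algebraMap R L with hφ₀
  set a₂ := φ₀ (Q u) with ha₂
  set a₁ := φ₀ (polar Q u w) with ha₁
  set a₀ := φ₀ (Q w) with ha₀
  set b₁ := φ₀ (polar Q e u) with hb₁
  set b₀ := φ₀ (polar Q e w) with hb₀
  set p : L[X] := C a₂ * X ^ 2 + C a₁ * X + C a₀ with hp
  set q : L[X] := C b₁ * X + C b₀ with hq
  have hpnz : p ∈ nonZeroDivisors L[X] := by
    apply mem_nonZeroDivisors_of_leadingCoeff
    rw [hp, leadingCoeff_quadratic hQu.ne_zero]
    exact hQu.mem_nonZeroDivisors
  have hqnz : q ∈ nonZeroDivisors L[X] := by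
    apply mem_nonZeroDivisors_of_leadingCoeff
    rw [hq, leadingCoeff_linear hBu.ne_zero]
    exact hBu.mem_nonZeroDivisors
  have hpq : Submonoid.powers (p * q) ≤ nonZeroDivisors L[X] :=
    Submonoid.powers_le.mpr (mul_mem hpnz hqnz)
  set A := Localization.Away (p * q) with hA
  set ι := algebraMap L[X] A with hι
  have hιinj : Function.Injective ι := IsLocalization.injective A hpq
  set ψ := algebraMap L A with hψ
  have hψι : ∀ a : L, ψ a = ι (C a) := fun a => by
    rw [hψ, IsScalarTower.algebraMap_apply L L[X] A]; rfl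
  have hψinj : Function.Injective ψ := by
    intro a b hab
    rw [hψι, hψι] at hab
    exact C_injective (hιinj hab)
  set S : A := ι X with hS
  have hφ : ∀ r : R, algebraMap R A r = ψ (φ₀ r) := fun r => by
    rw [hψ, hφ₀, ← IsScalarTower.algebraMap_apply]
  have hunit : IsUnit (ι (p * q)) := IsLocalization.Away.algebraMap_isUnit (p * q)
  rw [map_mul] at hunit
  have hpu : IsUnit (ι p) := isUnit_of_mul_isUnit_left hunit
  have hqu : IsUnit (ι q) := isUnit_of_mul_isUnit_right hunit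
  set QA := QuadGrp.baseChangeForm A Q with hQA
  set v : A ⊗[R] (Fin n → R) := S • ((1 : A) ⊗ₜ[R] u) + (1 : A) ⊗ₜ[R] w with hv
  have hQAv : QA v = ι p := by
    rw [hv, QuadraticMap.map_add (⇑QA), QuadraticMap.map_smul, polar_smul_left, bcf_tmul, bcf_tmul,
      bcf_polar_one, hφ, hφ, hφ, hψι, hψι, hψι]
    show _ = ι (C a₂ * X ^ 2 + C a₁ * X + C a₀)
    simp only [map_add, map_mul, map_pow, smul_eq_mul, one_mul, ← hS]
    ring
  have hpol : polar QA ((1 : A) ⊗ₜ[R] e) v = ι q := by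
    rw [hv, polar_add_right, polar_smul_right, bcf_polar_one, bcf_polar_one, hφ, hφ, hψι, hψι]
    show _ = ι (C b₁ * X + C b₀)
    simp only [map_add, map_mul, smul_eq_mul, ← hS]
    ring
  obtain ⟨pu, hpu'⟩ := hpu
  obtain ⟨qu, hqu'⟩ := hqu
  have hc : (↑pu⁻¹ : A) * QA v = 1 := by
    rw [hQAv, ← hpu', Units.inv_mul]
  have hx : polar QA ((↑qu⁻¹ : A) • ((1 : A) ⊗ₜ[R] e)) v = 1 := by
    rw [polar_smul_left, hpol, ← hqu', smul_eq_mul, Units.inv_mul]
  have heig := eigen A Q g (hcomm A) v _ _ hc hx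
  set lam := polar (QuadGrp.baseChangeForm A Q)
    ((g.baseChange R A (Fin n → R) (Fin n → R)) ((↑qu⁻¹ : A) • ((1 : A) ⊗ₜ[R] e))) v with hlam
  have hGv : g.baseChange R A (Fin n → R) (Fin n → R) v =
      S • ((1 : A) ⊗ₜ[R] g u) + (1 : A) ⊗ₜ[R] g w := by
    rw [hv, map_add, map_smul, LinearEquiv.baseChange_tmul, LinearEquiv.baseChange_tmul]
  have hcoord : ∀ j, S * ψ (c₀ * φ₀ (u j)) + ψ (φ₀ ((g w) j)) =
      lam * (S * ψ (φ₀ (u j)) + ψ (φ₀ (w j))) := by
    intro j
    have := congrArg (coord A j) heig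
    rw [hGv, map_add, map_smul, coord_tmul, coord_tmul, map_smul, hv, map_add, map_smul, coord_tmul,
      coord_tmul, hφ, hφ, hφ, hφ, hc₀ j] at this
    simpa only [smul_eq_mul, one_mul] using this
  have hSprop : ∀ a b : L, S * ψ a = ψ b → a = 0 ∧ b = 0 := by
    intro a b hab
    rw [hψι, hψι, hS, ← map_mul] at hab
    have := hιinj hab
    have h0 := congrArg (fun r => coeff r 0) this
    have h1 := congrArg (fun r => coeff r 1) this
    simp only [coeff_C_zero, coeff_X_mul_zero] at h0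
    simp only [coeff_X_mul, coeff_C_zero, coeff_C_succ] at h1
    exact ⟨h1, h0.symm⟩
  exact core4 ψ hψinj S hSprop (fun j => φ₀ (u j)) (fun j => φ₀ (w j)) (fun j => φ₀ ((g w) j)) c₀ lam i m
    (by simp only [hui, map_one]) (by simp only [hwi, map_zero]) (by simp only [hwm, map_one]) hcoord

end Groth.Agent.Lib.Helper18Quad
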