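import Mathlib
import Groth.Agent.Lib.Helper18Quad5

set_option autoImplicit false
universe u v

namespace Groth.Agent.Lib.Helper18Quad

open QuadraticMap TensorProduct Polynomial

variable {R : Type u} [CommRing R] {n : ℕ}

lemma single_eq_sub (u : Fin n → R) (i : Fin n) (hui : u i = 1) :
    (Pi.single i 1 : Fin n → R) = u - ∑ m ∈ Finset.univ.erase i, u m • (Pi.single m 1 : Fin n → R) := by
  funext j
  rw [Pi.sub_apply, Finset.sum_apply]
  by_cases hj : j = i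
  · subst hj
    rw [Pi.single_eq_same, hui, Finset.sum_eq_zero, sub_zero]
    intro m hm
    have : m ≠ j := (Finset.mem_erase.mp hm).1
    simp [Pi.single_apply, this.symm]
  · rw [Pi.single_eq_of_ne hj, Finset.sum_eq_single j]
    · simp
    · intro m _ hm
      simp [Pi.single_apply, hm.symm]
    · intro h
      exact absurd (Finset.mem_erase.mpr ⟨hj, Finset.mem_univ _⟩) h

lemma local_scalar (Q : QuadraticForm R (Fin n → R)) (g : (Fin n → R) ≃ₗ[R] (Fin n → R))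
    (hcomm : CommAll Q g) (hgO : ∀ v, Q (g v) = Q v)
    (L : Type u) [CommRing L] [Algebra R L] (u : Fin n → R) (i l : Fin n)
    (hui : u i = 1)
    (hQu : IsUnit (algebraMap R L (Q u)))
    (hBu : IsUnit (algebraMap R L (polar Q (Pi.single l 1) u))) :
    ∃ c₀ : L, c₀ * c₀ = 1 ∧ ∀ w j, algebraMap R L ((g w) j) = c₀ * algebraMap R L (w j) := by
  set φ₀ := algebraMap R L with hφ₀
  set QA := QuadGrp.baseChangeForm L Q with hQA
  set e : Fin n → R := Pi.single l 1 with he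
  set v : L ⊗[R] (Fin n → R) := (1 : L) ⊗ₜ[R] u with hv
  have hQAv : QA v = φ₀ (Q u) := by
    rw [hv, bcf_tmul, one_mul, one_mul]
  have hpol : polar QA ((1 : L) ⊗ₜ[R] e) v = φ₀ (polar Q e u) := by
    rw [hv, bcf_polar_one]
  obtain ⟨pu, hpu'⟩ := hQu
  obtain ⟨qu, hqu'⟩ := hBu
  have hc : (↑pu⁻¹ : L) * QA v = 1 := by
    rw [hQAv, ← hpu', Units.inv_mul]
  have hx : polar QA ((↑qu⁻¹ : L) • ((1 : L) ⊗ₜ[R] e)) v = 1 := by
    rw [polar_smul_left, hpol, ← hqu', smul_eq_mul, Units.inv_mul]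
  have heig := eigen L Q g (hcomm L) v _ _ hc hx
  set c₀ := polar (QuadGrp.baseChangeForm L Q)
    ((g.baseChange R L (Fin n → R) (Fin n → R)) ((↑qu⁻¹ : L) • ((1 : L) ⊗ₜ[R] e))) v with hc₀def
  have hGv : g.baseChange R L (Fin n → R) (Fin n → R) v = (1 : L) ⊗ₜ[R] g u := by
    rw [hv, LinearEquiv.baseChange_tmul]
  have hu : ∀ j, φ₀ ((g u) j) = c₀ * φ₀ (u j) := by
    intro j
    have := congrArg (coord L j) heig
    rw [hGv, coord_tmul, map_smul, hv, coord_tmul] at this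
    simpa only [smul_eq_mul, one_mul] using this
  have hsq : c₀ * c₀ = 1 := by
    have h1 := congrArg QA heig
    rw [hGv, QuadraticMap.map_smul, hQAv, bcf_tmul, one_mul, one_mul, hgO u, smul_eq_mul] at h1
    have h2 : c₀ * c₀ * (φ₀ (Q u) * ↑pu⁻¹) = φ₀ (Q u) * ↑pu⁻¹ := by
      rw [← mul_assoc, ← h1]
    rw [← hpu', Units.mul_inv, mul_one] at h2
    exact h2
  refine ⟨c₀, hsq, ?_⟩
  have hQu' : IsUnit (φ₀ (Q u)) := ⟨pu, hpu'⟩
  have hBu' : IsUnit (φ₀ (polar Q e u)) := ⟨qu, hqu'⟩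
  have hem : ∀ m, m ≠ i → ∀ j, φ₀ ((g (Pi.single m 1)) j) = c₀ * φ₀ ((Pi.single m 1 : Fin n → R) j) := by
    intro m hm
    exact step4 Q g hcomm L u (Pi.single m 1) e i m hui (Pi.single_eq_of_ne hm.symm _) (Pi.single_eq_same _ _)
      hQu' hBu' c₀ hu
  -- linear maps
  let Φ : (Fin n → R) →ₗ[R] (Fin n → L) := (Algebra.linearMap R L).compLeft (Fin n)
  let T₁ : (Fin n → R) →ₗ[R] (Fin n → L) := Φ ∘ₗ g.toLinearMap
  let T₂ : (Fin n → R) →ₗ[R] (Fin n → L) := c₀ • Φ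
  have hT₁ : ∀ w j, T₁ w j = φ₀ ((g w) j) := fun w j => rfl
  have hT₂ : ∀ w j, T₂ w j = c₀ * φ₀ (w j) := fun w j => rfl
  have hTu : T₁ u = T₂ u := by
    funext j; rw [hT₁, hT₂, hu]
  have hTm : ∀ m, m ≠ i → T₁ (Pi.single m 1) = T₂ (Pi.single m 1) := by
    intro m hm; funext j; rw [hT₁, hT₂, hem m hm]
  have hTi : T₁ (Pi.single i 1) = T₂ (Pi.single i 1) := by
    rw [single_eq_sub u i hui, map_sub, map_sub, map_sum, map_sum, hTu]
    congr 1
    refine Finset.sum_congr rfl fun m hm => ?_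
    rw [map_smul, map_smul, hTm m (Finset.mem_erase.mp hm).1]
  have hT : T₁ = T₂ := by
    apply LinearMap.pi_ext'
    intro m
    apply LinearMap.ext_ring
    show T₁ (Pi.single m 1) = T₂ (Pi.single m 1)
    by_cases hm : m = i
    · rw [hm]; exact hTi
    · exact hTm m hm
  intro w j
  rw [← hT₁, ← hT₂, hT]

end Groth.Agent.Lib.Helper18Quad
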