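import Mathlib
import Groth.Prelude.Def_QuadGrp

set_option autoImplicit false
universe u v

namespace Groth.Agent.Lib.Helper18Quad

open MvPolynomial

section HD
variable {n : ℕ}

/-- the ideal generated by off-diagonal variables -/
noncomputable def Ioff (n : ℕ) : Ideal (MvPolynomial (Sym2 (Fin n)) ℤ) :=
  Ideal.span (X '' {d : Sym2 (Fin n) | ¬ d.IsDiag})

lemma X_mem_Ioff {i j : Fin n} (h : i ≠ j) : (X s(i, j) : MvPolynomial (Sym2 (Fin n)) ℤ) ∈ Ioff n := by
  apply Ideal.subset_span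
  exact ⟨s(i, j), by simpa using h, rfl⟩

lemma disc_sub_mem : QuadGrp.discUniv n - ∏ i : Fin n, (2 * X s(i, i) : MvPolynomial (Sym2 (Fin n)) ℤ) ∈ Ioff n := by
  rw [← Ideal.Quotient.eq_zero_iff_mem, map_sub, sub_eq_zero]
  unfold QuadGrp.discUniv
  rw [RingHom.map_det, map_prod]
  have : (Ideal.Quotient.mk (Ioff n)).mapMatrix (QuadGrp.univPolarMat n) =
      Matrix.diagonal fun i => Ideal.Quotient.mk (Ioff n) (2 * X s(i, i)) := by
    ext i j
    simp only [RingHom.mapMatrix_apply, Matrix.map_apply, QuadGrp.univPolarMat, Matrix.of_apply,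
      Matrix.diagonal_apply]
    by_cases h : i = j
    · subst h; simp
    · rw [if_neg h, if_neg h]
      exact Ideal.Quotient.eq_zero_iff_mem.mpr (X_mem_Ioff h)
  rw [this, Matrix.det_diagonal]

/-- monomials supported on diagonal variables -/
def DiagSupp (m : Sym2 (Fin n) →₀ ℕ) : Prop := ∀ d : Sym2 (Fin n), ¬ d.IsDiag → m d = 0

lemma coeff_eq_zero_of_mem_Ioff {p : MvPolynomial (Sym2 (Fin n)) ℤ} (hp : p ∈ Ioff n)
    {m : Sym2 (Fin n) →₀ ℕ} (hm : DiagSupp m) : coeff m p = 0 := by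
  by_contra h
  have hm' : m ∈ p.support := by rwa [mem_support_iff]
  obtain ⟨d, hd, hd'⟩ := (mem_ideal_span_X_image.mp hp) m hm'
  exact hd' (hm d hd)

lemma mem_Ioff_of_coeff {p : MvPolynomial (Sym2 (Fin n)) ℤ}
    (hp : ∀ m : Sym2 (Fin n) →₀ ℕ, DiagSupp m → coeff m p = 0) : p ∈ Ioff n := by
  apply mem_ideal_span_X_image.mpr
  intro m hm
  by_contra hcon
  push Not at hcon
  have : DiagSupp m := fun d hd => by
    by_contra h
    exact h (hcon d hd)
  exact (mem_support_iff.mp hm) (hp m this)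

lemma prod_two_mul : ∏ i : Fin n, (2 * X s(i, i) : MvPolynomial (Sym2 (Fin n)) ℤ) =
    C ((2 : ℤ) ^ n) * ∏ i : Fin n, X s(i, i) := by
  rw [Finset.prod_mul_distrib, Finset.prod_const, Finset.card_univ, Fintype.card_fin]
  simp

lemma half_sub_mem (hn : 1 ≤ n) :
    QuadGrp.halfDiscUniv n - C ((2 : ℤ) ^ (n - 1)) * ∏ i : Fin n, (X s(i, i) : MvPolynomial (Sym2 (Fin n)) ℤ)
      ∈ Ioff n := by
  apply mem_Ioff_of_coeff
  intro m hm
  have h1 := coeff_eq_zero_of_mem_Ioff (disc_sub_mem (n := n)) hm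
  rw [coeff_sub, sub_eq_zero, prod_two_mul, coeff_C_mul] at h1
  rw [coeff_sub, QuadGrp.coeff_halfDiscUniv, h1, coeff_C_mul]
  have : (2 : ℤ) ^ n = 2 * 2 ^ (n - 1) := by
    rw [← pow_succ']; congr 1; omega
  rw [this, mul_assoc, Int.mul_ediv_cancel_left _ (by norm_num : (2 : ℤ) ≠ 0), sub_self]

theorem eval_halfDisc_diag {S : Type u} [CommRing S] (hn : 1 ≤ n) (a : Sym2 (Fin n) → S)
    (ha : ∀ i j : Fin n, i ≠ j → a s(i, j) = 0) :
    eval₂ (Int.castRingHom S) a (QuadGrp.halfDiscUniv n) = 2 ^ (n - 1) * ∏ i : Fin n, a s(i, i) := by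
  have hker : Ioff n ≤ RingHom.ker (eval₂Hom (Int.castRingHom S) a) := by
    unfold Ioff
    rw [Ideal.span_le]
    rintro _ ⟨d, hd, rfl⟩
    rw [SetLike.mem_coe, RingHom.mem_ker, coe_eval₂Hom, eval₂_X]
    induction d using Sym2.ind with
    | _ i j =>
      apply ha
      intro h
      exact hd (by simpa using h)
  have := hker (half_sub_mem (n := n) hn)
  rw [RingHom.mem_ker, map_sub, sub_eq_zero] at this
  rw [coe_eval₂Hom] at this
  rw [this, eval₂_mul, eval₂_C, eval₂_prod]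
  simp

end HD

end Groth.Agent.Lib.Helper18Quad
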