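import Mathlib
import Groth.Agent.Lib.Helper18Quad7

set_option autoImplicit false
universe u v

namespace Groth.Agent.Lib.Helper18Quad

open QuadraticMap

variable {R : Type u} [CommRing R] {n : ℕ}

/-- index type for candidate vectors -/
abbrev Cand (n : ℕ) := (Fin n) ⊕ {p : Fin n × Fin n // p.1 ≠ p.2}

/-- candidate vectors -/
def uvec (R : Type u) [CommRing R] {n : ℕ} : Cand n → (Fin n → R)
  | Sum.inl i => Pi.single i 1
  | Sum.inr p => Pi.single p.1.1 1 + Pi.single p.1.2 1

/-- distinguished coordinate -/
def dist {n : ℕ} : Cand n → Fin n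
  | Sum.inl i => i
  | Sum.inr p => p.1.1

lemma uvec_dist (k : Cand n) : uvec R k (dist k) = 1 := by
  rcases k with i | ⟨⟨i, j⟩, h⟩
  · simp [uvec, dist]
  · simp only [uvec, dist, Pi.add_apply, Pi.single_eq_same]
    rw [Pi.single_eq_of_ne h, add_zero]

/-- the covering family -/
def fam (Q : QuadraticForm R (Fin n → R)) (kl : Cand n × Fin n) : R :=
  Q (uvec R kl.1) * polar Q (Pi.single kl.2 1) (uvec R kl.1)

theorem span_fam_eq_top (hn : 2 ≤ n) (Q : QuadraticForm R (Fin n → R))
    (hQ : QuadGrp.IsNondeg (Pi.basisFun R (Fin n)) (LinearEquiv.refl R R) Q) :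
    Ideal.span (Set.range (fam Q)) = ⊤ := by
  by_contra hne
  obtain ⟨𝔪, hmax, hle⟩ := Ideal.exists_le_maximal _ hne
  let _ := Ideal.Quotient.field 𝔪
  set π := Ideal.Quotient.mk 𝔪 with hπ
  have hfam : ∀ kl, π (fam Q kl) = 0 := fun kl =>
    Ideal.Quotient.eq_zero_iff_mem.mpr (hle (Ideal.subset_span ⟨kl, rfl⟩))
  set e : Fin n → (Fin n → R) := fun i => Pi.single i 1 with he
  set a : Fin n → Fin n → R := fun i j => polar Q (e i) (e j) with ha
  set d : Fin n → R := fun i => Q (e i) with hd
  have haii : ∀ i, a i i = 2 * d i := fun i => by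
    simp only [ha, hd, polar_self, nsmul_eq_mul, Nat.cast_ofNat]
  have hacomm : ∀ i j, a i j = a j i := fun i j => polar_comm _ _ _
  have h2d : ∀ i, 2 * π (d i) = 0 := by
    intro i
    have := hfam (Sum.inl i, i)
    simp only [fam, uvec] at this
    rw [map_mul] at this
    change π (d i) * π (a i i) = 0 at this
    rw [haii, map_mul, map_ofNat] at this
    rcases mul_eq_zero.mp this with h | h
    · rw [h, mul_zero]
    · exact h
  have h2 : ∀ i j, π (d i) * π (a j i) = 0 := by
    intro i j
    have := hfam (Sum.inl i, j)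
    simp only [fam, uvec] at this
    rw [map_mul] at this
    exact this
  have haz : ∀ i j, π (a i j) = 0 := by
    intro i j
    by_cases hij : i = j
    · subst hij; rw [haii, map_mul, map_ofNat, h2d]
    · have := hfam (Sum.inr ⟨(i, j), hij⟩, i)
      simp only [fam, uvec] at this
      rw [QuadraticMap.map_add (⇑Q), polar_add_right, map_mul] at this
      change π (d i + d j + a i j) * π (a i i + a i j) = 0 at this
      rw [map_add, map_add, map_add, haii, map_mul, map_ofNat, h2d, zero_add] at this
      have h3 := h2 i j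
      have h4 := h2 j i
      rw [hacomm j i] at h3
      have : π (a i j) ^ 2 = 0 := by linear_combination this - h3 - h4
      exact pow_eq_zero_iff (two_ne_zero) |>.mp this
  rcases Nat.even_or_odd n with hev | hodd
  · have hreg := hQ.1 hev
    obtain ⟨x, hx⟩ := hreg.2 (LinearMap.proj (⟨0, by omega⟩ : Fin n))
    have h1 : polar Q x (e ⟨0, by omega⟩) = 1 := by
      have := congrArg (fun f => f (e ⟨0, by omega⟩)) hx
      simp only [polarBilin_apply_apply, LinearMap.proj_apply] at this
      rw [this]
      simp [he]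
    have h2' : polar Q x (e ⟨0, by omega⟩) = ∑ i, x i * a i ⟨0, by omega⟩ := by
      have := LinearMap.pi_apply_eq_sum_univ ((polarBilin Q).flip (e ⟨0, by omega⟩)) x
      simp only [LinearMap.flip_apply, polarBilin_apply_apply, smul_eq_mul] at this
      rw [this]
      refine Finset.sum_congr rfl fun i _ => ?_
      congr 2
      funext j
      simp [he, Pi.single_apply, eq_comm]
    have h3 : π 1 = 0 := by
      rw [← h1, h2', map_sum]
      refine Finset.sum_eq_zero fun i _ => ?_
      rw [map_mul, haz, mul_zero]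
    rw [map_one] at h3
    exact one_ne_zero h3
  · have hsemi := hQ.2 hodd
    unfold QuadGrp.IsSemiregular QuadGrp.halfDisc at hsemi
    have hunit := hsemi.map π
    rw [MvPolynomial.hom_eval₂] at hunit
    have hcast : π.comp (Int.castRingHom R) = Int.castRingHom (R ⧸ 𝔪) := RingHom.ext_int _ _
    rw [hcast] at hunit
    rw [eval_halfDisc_diag (by omega)] at hunit
    · have hzero : (2 : R ⧸ 𝔪) ^ (n - 1) * ∏ i : Fin n,
          (π ∘ QuadGrp.coeffs (Pi.basisFun R (Fin n)) (LinearEquiv.refl R R) Q) s(i, i) = 0 := by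
        have h0 : (⟨0, by omega⟩ : Fin n) ∈ Finset.univ := Finset.mem_univ _
        rw [← Finset.mul_prod_erase _ _ h0]
        have hpow : (2 : R ⧸ 𝔪) ^ (n - 1) = 2 ^ (n - 2) * 2 := by
          rw [← pow_succ]; congr 1; omega
        have hc0 : (π ∘ QuadGrp.coeffs (Pi.basisFun R (Fin n)) (LinearEquiv.refl R R) Q)
            s((⟨0, by omega⟩ : Fin n), ⟨0, by omega⟩) = π (d ⟨0, by omega⟩) := by
          simp only [Function.comp, QuadGrp.coeffs_mk, if_true, Pi.basisFun_apply,
            LinearEquiv.refl_apply, hd, he]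
        rw [hpow, hc0]
        have := h2d ⟨0, by omega⟩
        linear_combination (2 ^ (n - 2) * ∏ x ∈ Finset.univ.erase (⟨0, by omega⟩ : Fin n),
          (π ∘ QuadGrp.coeffs (Pi.basisFun R (Fin n)) (LinearEquiv.refl R R) Q) s(x, x)) * this
      simp only [Function.comp] at hzero
      rw [hzero] at hunit
      exact not_isUnit_zero hunit
    · intro i j hij
      simp only [Function.comp, QuadGrp.coeffs_mk, if_neg hij, Pi.basisFun_apply,
        LinearEquiv.refl_apply]
      exact haz i j

end Groth.Agent.Lib.Helper18Quad
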