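import Mathlib
import Groth.Agent.Lib.Helper18Quad6
import Groth.Agent.Lib.Helper18Quad8

set_option autoImplicit false
universe u v

namespace Groth.Agent.Lib.Helper18Quad

open QuadraticMap TensorProduct

variable {R : Type u} [CommRing R] {n : ℕ}

lemma eq_of_forall_away (Q : QuadraticForm R (Fin n → R)) (hspan : Ideal.span (Set.range (fam Q)) = ⊤)
    (x y : R) (h : ∀ kl, algebraMap R (Localization.Away (fam Q kl)) x =
      algebraMap R (Localization.Away (fam Q kl)) y) : x = y := by
  apply Localization.algebraMap_injective_of_span_eq_top _ hspan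
  funext a
  obtain ⟨a, kl, rfl⟩ := a
  exact h kl

theorem scalar_of_commAll (hn : 2 ≤ n) (Q : QuadraticForm R (Fin n → R))
    (hQ : QuadGrp.IsNondeg (Pi.basisFun R (Fin n)) (LinearEquiv.refl R R) Q)
    (g : (Fin n → R) ≃ₗ[R] (Fin n → R)) (hg : g ∈ QuadGrp.O Q) (hcomm : CommAll Q g) :
    ∃ c : R, c * c = 1 ∧ ∀ v, g v = c • v := by
  have hspan := span_fam_eq_top hn Q hQ
  have hloc : ∀ kl : Cand n × Fin n, ∃ c₀ : Localization.Away (fam Q kl), c₀ * c₀ = 1 ∧
      ∀ w j, algebraMap R (Localization.Away (fam Q kl)) ((g w) j) =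
        c₀ * algebraMap R (Localization.Away (fam Q kl)) (w j) := by
    intro kl
    have hunit : IsUnit (algebraMap R (Localization.Away (fam Q kl)) (fam Q kl)) :=
      IsLocalization.Away.algebraMap_isUnit _
    have hunit' := hunit
    unfold fam at hunit'
    rw [map_mul] at hunit'
    exact local_scalar Q g hcomm hg (Localization.Away (fam Q kl)) (uvec R kl.1) (dist kl.1) kl.2
      (uvec_dist kl.1) (isUnit_of_mul_isUnit_left hunit') (isUnit_of_mul_isUnit_right hunit')
  set i0 : Fin n := ⟨0, by omega⟩ with hi0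
  set c : R := (g (Pi.single i0 1)) i0 with hc
  have hcloc : ∀ kl : Cand n × Fin n, ∀ w j, algebraMap R (Localization.Away (fam Q kl)) ((g w) j) =
      algebraMap R (Localization.Away (fam Q kl)) (c * w j) := by
    intro kl w j
    obtain ⟨c₀, _, h2⟩ := hloc kl
    have hc0 : algebraMap R (Localization.Away (fam Q kl)) c = c₀ := by
      rw [hc, h2, Pi.single_eq_same, map_one, mul_one]
    rw [h2, map_mul, hc0]
  refine ⟨c, ?_, ?_⟩
  · apply eq_of_forall_away Q hspan
    intro kl
    obtain ⟨c₀, h1, h2⟩ := hloc kl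
    have hc0 : algebraMap R (Localization.Away (fam Q kl)) c = c₀ := by
      rw [hc, h2, Pi.single_eq_same, map_one, mul_one]
    rw [map_mul, hc0, h1, map_one]
  · intro v
    funext j
    rw [Pi.smul_apply, smul_eq_mul]
    apply eq_of_forall_away Q hspan
    intro kl
    exact hcloc kl v j

theorem commAll_of_scalar (Q : QuadraticForm R (Fin n → R))
    (g : (Fin n → R) ≃ₗ[R] (Fin n → R)) (c : R) (hc : ∀ v, g v = c • v) : CommAll Q g := by
  intro A _ _ h _
  have hG : ∀ y : A ⊗[R] (Fin n → R), g.baseChange R A (Fin n → R) (Fin n → R) y = c • y := by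
    intro y
    induction y using TensorProduct.induction_on with
    | zero => simp
    | tmul a m => rw [LinearEquiv.baseChange_tmul, hc, TensorProduct.tmul_smul]
    | add y z hy hz => rw [map_add, hy, hz, smul_add]
  apply LinearEquiv.ext
  intro y
  rw [LinearEquiv.mul_apply, LinearEquiv.mul_apply, hG, hG]
  exact (LinearMap.map_smul_of_tower h.toLinearMap c y).symm

end Groth.Agent.Lib.Helper18Quad
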