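import Mathlib
import Groth.Agent.Lib.Helper18Quad1

set_option autoImplicit false
universe u v

namespace Groth.Agent.Lib.Helper18Quad

open QuadraticMap

section Det
variable {A : Type u} [CommRing A] {W : Type v} [AddCommGroup W] [Module A W]

lemma reflLin_eq_transvection (q : QuadraticForm A W) (v : W) (c : A) :
    reflLin q v c = LinearMap.transvection (-(c • ((polarBilin q).flip v))) v := by
  ext y
  rw [reflLin_apply, LinearMap.transvection.apply]
  simp only [LinearMap.neg_apply, LinearMap.smul_apply, LinearMap.flip_apply, polarBilin_apply_apply,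
    smul_eq_mul, neg_smul]
  abel

lemma det_reflLin [Module.Free A W] [Module.Finite A W] (q : QuadraticForm A W) (v : W) (c : A)
    (hc : c * q v = 1) : LinearMap.det (reflLin q v c) = -1 := by
  rw [reflLin_eq_transvection, LinearMap.transvection.det]
  simp only [LinearMap.neg_apply, LinearMap.smul_apply, LinearMap.flip_apply, polarBilin_apply_apply,
    smul_eq_mul, polar_self, nsmul_eq_mul, Nat.cast_ofNat]
  linear_combination (-2 : A) * hc

lemma det_reflEquiv [Module.Free A W] [Module.Finite A W] (q : QuadraticForm A W) (v : W) (c : A)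
    (hc : c * q v = 1) : LinearEquiv.det (reflEquiv q v c hc) = -1 := by
  apply Units.ext
  rw [LinearEquiv.coe_det]
  exact det_reflLin q v c hc

lemma det_negEquiv [Module.Free A W] :
    LinearEquiv.det (LinearEquiv.neg A : W ≃ₗ[A] W) = (-1) ^ Module.finrank A W := by
  apply Units.ext
  rw [LinearEquiv.coe_det]
  have : ((LinearEquiv.neg A : W ≃ₗ[A] W) : W →ₗ[A] W) = (-1 : A) • LinearMap.id := by
    ext y; simp
  rw [this, LinearMap.det_smul, LinearMap.det_id, mul_one]
  simp

end Det

section Rot
variable {A : Type u} [CommRing A] {W : Type v} [AddCommGroup W] [Module A W]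

lemma isUnit_one_add_of_sq_zero (ε b : A) (hε : ε * ε = 0) : IsUnit (1 + ε * b) :=
  IsUnit.of_mul_eq_one (1 - ε * b) (by linear_combination (-b * b) * hε)

/-- the infinitesimal rotation `x ↦ x + ε (B(Z,x) U - B(U,x) Z)` for `ε² = 0` -/
noncomputable def rotEquiv (q : QuadraticForm A W) (ε : A) (hε : ε * ε = 0) (U Z : W) : W ≃ₗ[A] W :=
  LinearEquiv.dilatransvection (f := ε • polarBilin q Z) (v := U)
      (by simpa using isUnit_one_add_of_sq_zero ε (polar q Z U) hε) *
    LinearEquiv.dilatransvection (f := -(ε • polarBilin q U)) (v := Z)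
      (by simpa using isUnit_one_add_of_sq_zero ε (-(polar q U Z)) hε)

lemma rotEquiv_apply (q : QuadraticForm A W) (ε : A) (hε : ε * ε = 0) (U Z x : W) :
    rotEquiv q ε hε U Z x = x + ε • (polar q Z x • U - polar q U x • Z) := by
  unfold rotEquiv
  rw [LinearEquiv.mul_apply, LinearEquiv.dilatransvection.apply, LinearEquiv.dilatransvection.apply]
  simp only [LinearMap.neg_apply, LinearMap.smul_apply, polarBilin_apply_apply, smul_eq_mul, map_add,
    map_neg, map_smul, polar_add_right, polar_smul_right, neg_smul]
  have h0 : ∀ (a b : A) (w : W), (ε * a * (ε * b)) • w = 0 := by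
    intro a b w
    have : ε * a * (ε * b) = 0 := by linear_combination (a * b) * hε
    rw [this, zero_smul]
  simp only [smul_sub, smul_smul, mul_add, add_smul, mul_neg, neg_smul, h0]
  abel

lemma rotEquiv_isometry (q : QuadraticForm A W) (ε : A) (hε : ε * ε = 0) (U Z x : W) :
    q (rotEquiv q ε hε U Z x) = q x := by
  rw [rotEquiv_apply, QuadraticMap.map_add (⇑q), QuadraticMap.map_smul, polar_smul_right,
    polar_sub_right, polar_smul_right, polar_smul_right]
  simp only [smul_eq_mul]
  rw [polar_comm q Z x, polar_comm q U x]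
  linear_combination (q (polar q x Z • U - polar q x U • Z)) * hε

lemma det_rotEquiv [Module.Free A W] [Module.Finite A W] (q : QuadraticForm A W) (ε : A)
    (hε : ε * ε = 0) (U Z : W) : LinearEquiv.det (rotEquiv q ε hε U Z) = 1 := by
  unfold rotEquiv
  rw [map_mul]
  apply Units.ext
  rw [Units.val_mul, LinearEquiv.coe_det, LinearEquiv.coe_det,
    LinearEquiv.dilatransvection.coe_toLinearMap, LinearEquiv.dilatransvection.coe_toLinearMap,
    LinearMap.transvection.det, LinearMap.transvection.det]
  simp only [LinearMap.neg_apply, LinearMap.smul_apply, polarBilin_apply_apply, smul_eq_mul,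
    Units.val_one]
  rw [polar_comm q U Z]
  linear_combination (-(polar q Z U) * polar q Z U) * hε

end Rot

end Groth.Agent.Lib.Helper18Quad
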