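import Mathlib
import Groth.Agent.Lib.Helper18QuadS1

set_option autoImplicit false
universe u v

namespace Groth.Agent.Lib.Helper18Quad

open QuadraticMap CliffordAlgebra

section Cliff
variable {A : Type u} [CommRing A] {W : Type v} [AddCommGroup W] [Module A W]

lemma reflEquiv_mem_O (q : QuadraticForm A W) (v : W) (c : A) (hc : c * q v = 1) :
    reflEquiv q v c hc ∈ QuadGrp.O q := fun y => reflLin_isometry q v c hc y

lemma involute_map_iso (q : QuadraticForm A W) (f : q →qᵢ q) (x : CliffordAlgebra q) :
    involute (CliffordAlgebra.map f x) = CliffordAlgebra.map f (involute x) := by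
  have : (involute (Q := q)).comp (CliffordAlgebra.map f) = (CliffordAlgebra.map f).comp involute := by
    apply CliffordAlgebra.hom_ext
    ext m
    simp
  exact congrArg (fun F => F x) this

/-- key twisted-conjugation identity -/
lemma map_refl_mul_ι (q : QuadraticForm A W) (v : W) (c : A) (hc : c * q v = 1)
    (x : CliffordAlgebra q) :
    CliffordAlgebra.map (QuadGrp.isometryOfMem q (reflEquiv q v c hc) (reflEquiv_mem_O q v c hc)) x * ι q v
      = ι q v * involute x := by
  induction x using CliffordAlgebra.induction with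
  | algebraMap r => simp [Algebra.commutes]
  | ι m =>
    rw [map_apply_ι, QuadGrp.isometryOfMem_apply, reflEquiv_apply, involute_ι, map_sub, map_smul,
      sub_mul, smul_mul_assoc, ι_sq_scalar, mul_neg]
    have h1 := ι_mul_ι_add_swap (Q := q) m v
    have h2 : (c * polar q m v) • (algebraMap A (CliffordAlgebra q) (q v)) =
        algebraMap A (CliffordAlgebra q) (polar q m v) := by
      rw [Algebra.smul_def, ← map_mul]
      congr 1
      linear_combination (polar q m v) * hc
    rw [h2, ← h1]
    abel
  | mul a b ha hb => rw [map_mul, map_mul, mul_assoc, hb, ← mul_assoc, ha, mul_assoc]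
  | add a b ha hb => rw [map_add, map_add, add_mul, mul_add, ha, hb]

lemma dickson_refl_mul (q : QuadraticForm A W) (u w : W) (cu cw : A) (hu : cu * q u = 1)
    (hw : cw * q w = 1) :
    reflEquiv q u cu hu * reflEquiv q w cw hw ∈ QuadGrp.SOeven q := by
  have hO : reflEquiv q u cu hu * reflEquiv q w cw hw ∈ QuadGrp.O q :=
    (QuadGrp.O q).mul_mem (reflEquiv_mem_O q u cu hu) (reflEquiv_mem_O q w cw hw)
  refine ⟨hO, ?_⟩
  intro z hz
  have hcomp : CliffordAlgebra.map (QuadGrp.isometryOfMem q _ hO) =
      (CliffordAlgebra.map (QuadGrp.isometryOfMem q _ (reflEquiv_mem_O q u cu hu))).comp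
        (CliffordAlgebra.map (QuadGrp.isometryOfMem q _ (reflEquiv_mem_O q w cw hw))) := by
    apply CliffordAlgebra.hom_ext; ext m; simp [QuadGrp.isometryOfMem]
  rw [hcomp, AlgHom.comp_apply]
  set Fu := CliffordAlgebra.map (QuadGrp.isometryOfMem q _ (reflEquiv_mem_O q u cu hu)) with hFu
  set Fw := CliffordAlgebra.map (QuadGrp.isometryOfMem q _ (reflEquiv_mem_O q w cw hw)) with hFw
  set zc : CliffordAlgebra q := (z : CliffordAlgebra q) with hzc
  have hzev : zc ∈ evenOdd q 0 := z.2
  have hinv : involute zc = zc := involute_eq_of_mem_even hzev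
  have e1 : Fw zc * ι q w = ι q w * zc := by
    rw [hFw, map_refl_mul_ι, hinv]
  have hinv2 : involute (Fw zc) = Fw zc := by
    rw [hFw, involute_map_iso, hinv]
  have e2 : Fu (Fw zc) * ι q u = ι q u * Fw zc := by
    rw [hFu, map_refl_mul_ι, hinv2]
  have e3 : Fu (Fw zc) * (ι q u * ι q w) = ι q u * ι q w * zc := by
    rw [← mul_assoc, e2, mul_assoc, e1, mul_assoc]
  have e4 : ι q u * ι q w * zc = zc * (ι q u * ι q w) := by
    have hb := Subalgebra.mem_center_iff.mp hz ⟨ι q u * ι q w, ι_mul_ι_mem_evenOdd_zero q u w⟩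
    exact congrArg Subtype.val hb
  have e5 : (ι q u * ι q w) * ((cw • ι q w) * (cu • ι q u)) = 1 := by
    have : ι q u * ι q w * ((cw • ι q w) * (cu • ι q u)) =
        (cw * cu) • (ι q u * (ι q w * ι q w) * ι q u) := by
      simp only [smul_mul_assoc, mul_smul_comm, smul_smul, mul_assoc]
      rw [mul_comm cu cw]
    rw [this, ι_sq_scalar, ← Algebra.commutes, mul_assoc, ι_sq_scalar, ← map_mul, Algebra.smul_def,
      ← map_mul]
    have : cw * cu * (q w * q u) = 1 := by linear_combination (cu * q u) * hw + hu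
    rw [this, map_one]
  have e6 : Fu (Fw zc) * (ι q u * ι q w) = zc * (ι q u * ι q w) := by rw [e3, e4]
  have e7 := congrArg (fun t => t * ((cw • ι q w) * (cu • ι q u))) e6
  simp only [mul_assoc] at e7
  rw [← mul_assoc (ι q u) (ι q w), e5, mul_one, mul_one] at e7
  exact e7

end Cliff

end Groth.Agent.Lib.Helper18Quad
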