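import Mathlib
import Groth.Agent.Lib.Helper18QuadS1

set_option autoImplicit false
universe u v

namespace Groth.Agent.Lib.Helper18Quad

open QuadraticMap

section RR
variable {A : Type u} [CommRing A] {W : Type v} [AddCommGroup W] [Module A W]

lemma q_add_eps (q : QuadraticForm A W) (ε : A) (hε : ε * ε = 0) (U Z : W) :
    q (U + ε • Z) = q U + ε * polar q U Z := by
  rw [QuadraticMap.map_add (⇑q), QuadraticMap.map_smul, polar_smul_right, smul_eq_mul, smul_eq_mul]
  linear_combination (q Z) * hε

lemma inv_q_add_eps (q : QuadraticForm A W) (ε : A) (hε : ε * ε = 0) (U Z : W) (c : A)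
    (hc : c * q U = 1) : (c - ε * c * c * polar q U Z) * q (U + ε • Z) = 1 := by
  rw [q_add_eps q ε hε]
  linear_combination (1 - ε * c * polar q U Z) * hc - (c * c * polar q U Z * polar q U Z) * hε

lemma refl_mul_refl_eq_rot (q : QuadraticForm A W) (ε : A) (hε : ε * ε = 0) (U Z : W) (c : A)
    (hc : c * q U = 1) :
    reflEquiv q U c hc * reflEquiv q (U + ε • Z) (c - ε * c * c * polar q U Z)
        (inv_q_add_eps q ε hε U Z c hc) = rotEquiv q ε hε (c • U) Z := by
  apply LinearEquiv.ext
  intro x
  rw [LinearEquiv.mul_apply, reflEquiv_apply, reflEquiv_apply, rotEquiv_apply]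
  simp only [polar_add_right, polar_smul_right, polar_sub_left, polar_smul_left, polar_add_left,
    polar_self, smul_eq_mul, nsmul_eq_mul, Nat.cast_ofNat]
  rw [polar_comm q Z U, polar_comm q U x, polar_comm q Z x]
  generalize polar q x U = a
  generalize polar q U Z = b
  generalize polar q x Z = d
  generalize hs : q U = s at hc
  have key : ∀ (kU kZ kU' kZ' : A), kU = kU' → kZ = kZ' →
      x + kU • U + kZ • Z = x + kU' • U + kZ' • Z := by
    intro kU kZ kU' kZ' h1 h2; rw [h1, h2]
  have hL : x - ((c - ε * c * c * b) * (a + ε * d)) • (U + ε • Z) -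
      (c * (a - (c - ε * c * c * b) * (a + ε * d) * (2 * s + ε * b))) • U =
      x + (-((c - ε * c * c * b) * (a + ε * d)) -
        (c * (a - (c - ε * c * c * b) * (a + ε * d) * (2 * s + ε * b)))) • U +
        (-((c - ε * c * c * b) * (a + ε * d)) * ε) • Z := by
    module
  have hR : x + ε • (d • c • U - (c * a) • Z) = x + (ε * d * c) • U + (-(ε * (c * a))) • Z := by
    module
  rw [hL, hR]
  apply key
  · linear_combination (2 * ((c - ε * c * c * b) * (a + ε * d))) * hc +
      (-(c * c * c * b * b * (a + ε * d))) * hε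
  · linear_combination (-(c * d - c * c * a * b - ε * c * c * b * d)) * hε

end RR

end Groth.Agent.Lib.Helper18Quad
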