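import Mathlib
import Groth.Agent.Lib.Helper18QuadS1
import Groth.Agent.Lib.Helper18Quad3

set_option autoImplicit false
universe u v

namespace Groth.Agent.Lib.Helper18Quad

open QuadraticMap TensorProduct

section S
variable {R : Type u} [CommRing R] {M : Type v} [AddCommGroup M] [Module R M] [Module.Free R M]
variable (A : Type u) [CommRing A] [Algebra R A]

lemma mem_sorth'_of (Q : QuadraticForm R M) (h : (A ⊗[R] M) ≃ₗ[A] (A ⊗[R] M))
    (hh : ∀ y, QuadGrp.baseChangeForm A Q (h y) = QuadGrp.baseChangeForm A Q y)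
    (hdet : LinearEquiv.det h = 1) :
    h ∈ QuadGrp.sorth' Q A := by
  refine Subgroup.mem_inf.mpr ⟨mem_orth_of A Q h hh, ?_⟩
  exact MonoidHom.mem_ker.mpr hdet

/-- the commutation hypothesis with `SO'` over `A` -/
def CommS (Q : QuadraticForm R M) (g : M ≃ₗ[R] M) : Prop :=
  ∀ h ∈ QuadGrp.sorth' Q A, g.baseChange R A M M * h = h * g.baseChange R A M M

/-- commutation with reflections over `A` -/
def CommRefl (Q : QuadraticForm R M) (g : M ≃ₗ[R] M) : Prop :=
  ∀ (v : A ⊗[R] M) (c : A) (hc : c * QuadGrp.baseChangeForm A Q v = 1),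
    g.baseChange R A M M * reflEquiv (QuadGrp.baseChangeForm A Q) v c hc =
      reflEquiv (QuadGrp.baseChangeForm A Q) v c hc * g.baseChange R A M M

lemma commRefl_of_comm (Q : QuadraticForm R M) (g : M ≃ₗ[R] M) (h : Comm A Q g) : CommRefl A Q g := by
  intro v c hc
  exact h _ (mem_orth_of A Q _ (fun y => reflLin_isometry _ v c hc y))

lemma commRefl_of_commS [Module.Finite R M] (Q : QuadraticForm R M) (g : M ≃ₗ[R] M)
    (hodd : Odd (Module.finrank R M)) (h : CommS A Q g) : CommRefl A Q g := by
  intro v c hc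
  set QA := QuadGrp.baseChangeForm A Q with hQA
  set τ := reflEquiv QA v c hc with hτ
  have hmem : (LinearEquiv.neg A : (A ⊗[R] M) ≃ₗ[A] (A ⊗[R] M)) * τ ∈ QuadGrp.sorth' Q A := by
    apply mem_sorth'_of
    · intro y
      rw [LinearEquiv.mul_apply, LinearEquiv.neg_apply, QuadraticMap.map_neg]
      exact reflLin_isometry QA v c hc y
    · rcases subsingleton_or_nontrivial A with hA | hA
      · exact Subsingleton.elim _ _
      · haveI : Nontrivial R := (algebraMap R A).domain_nontrivial
        rw [map_mul, det_negEquiv, det_reflEquiv, Module.finrank_baseChange, hodd.neg_one_pow]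
        simp
  have h1 := h _ hmem
  apply LinearEquiv.ext
  intro y
  have h2 := congrArg (fun f => f y) h1
  simp only [LinearEquiv.mul_apply, LinearEquiv.neg_apply, map_neg, neg_inj] at h2
  rw [LinearEquiv.mul_apply, LinearEquiv.mul_apply]
  exact h2

end S

end Groth.Agent.Lib.Helper18Quad
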