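import Mathlib
import Groth.Agent.Lib.Helper18QuadE1
import Groth.Agent.Lib.Helper18QuadE2
import Groth.Agent.Lib.Helper18QuadS2

set_option autoImplicit false
universe u v

namespace Groth.Agent.Lib.Helper18Quad

open QuadraticMap TensorProduct

section SO
variable {R : Type u} [CommRing R] {M : Type v} [AddCommGroup M] [Module R M] [Module.Free R M]
  [Module.Finite R M]
variable (A : Type u) [CommRing A] [Algebra R A]

/-- the commutation hypothesis with `SO` over `A` -/
def CommSO (Q : QuadraticForm R M) (g : M ≃ₗ[R] M) : Prop :=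
  ∀ h ∈ QuadGrp.sorth Q A, g.baseChange R A M M * h = h * g.baseChange R A M M

lemma refl_mul_refl_mem_sorth [Nontrivial A] (Q : QuadraticForm R M)
    (heven : Even (Module.finrank R M)) (u w : A ⊗[R] M) (cu cw : A)
    (hu : cu * QuadGrp.baseChangeForm A Q u = 1) (hw : cw * QuadGrp.baseChangeForm A Q w = 1) :
    reflEquiv (QuadGrp.baseChangeForm A Q) u cu hu * reflEquiv (QuadGrp.baseChangeForm A Q) w cw hw ∈
      QuadGrp.sorth Q A := by
  have : Nontrivial R := (algebraMap R A).domain_nontrivial
  unfold QuadGrp.sorth QuadGrp.SO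
  rw [if_pos (by rw [Module.finrank_baseChange]; exact heven)]
  exact dickson_refl_mul _ u w cu cw hu hw

lemma comm_rot (Q : QuadraticForm R M) (g : M ≃ₗ[R] M) (heven : Even (Module.finrank R M))
    (hcomm : CommSO A Q g) (ε : A) (hε : ε * ε = 0) (U Z : A ⊗[R] M) (c : A)
    (hc : c * QuadGrp.baseChangeForm A Q U = 1) :
    g.baseChange R A M M * rotEquiv (QuadGrp.baseChangeForm A Q) ε hε U Z =
      rotEquiv (QuadGrp.baseChangeForm A Q) ε hε U Z * g.baseChange R A M M := by
  rcases subsingleton_or_nontrivial A with hA | hA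
  · have : Subsingleton (A ⊗[R] M) := Module.subsingleton A _
    apply LinearEquiv.ext
    intro y
    exact Subsingleton.elim _ _
  set QA := QuadGrp.baseChangeForm A Q with hQA
  have hc'' : QA U * QA (c • U) = 1 := by
    rw [QuadraticMap.map_smul, smul_eq_mul]
    linear_combination (c * QA U + 1) * hc
  have h1 := refl_mul_refl_eq_rot QA ε hε (c • U) Z (QA U) hc''
  have hU : QA U • c • U = U := by
    rw [smul_smul, mul_comm, hc, one_smul]
  rw [hU] at h1
  rw [← h1]
  exact hcomm _ (refl_mul_refl_mem_sorth A Q heven _ _ _ _ _ _)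

lemma rot_identity_gen (Q : QuadraticForm R M) (g : M ≃ₗ[R] M) (ε : A) (hε : ε * ε = 0)
    (U Z X : A ⊗[R] M)
    (h : g.baseChange R A M M * rotEquiv (QuadGrp.baseChangeForm A Q) ε hε U Z =
      rotEquiv (QuadGrp.baseChangeForm A Q) ε hε U Z * g.baseChange R A M M) :
    ε • (polar (QuadGrp.baseChangeForm A Q) Z X • g.baseChange R A M M U -
        polar (QuadGrp.baseChangeForm A Q) U X • g.baseChange R A M M Z) =
      ε • (polar (QuadGrp.baseChangeForm A Q) Z (g.baseChange R A M M X) • U -
        polar (QuadGrp.baseChangeForm A Q) U (g.baseChange R A M M X) • Z) := by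
  have h2 := congrArg (fun f => f X) h
  simp only [LinearEquiv.mul_apply] at h2
  rw [rotEquiv_apply, rotEquiv_apply, map_add, map_smul, map_sub, map_smul, map_smul] at h2
  exact add_left_cancel h2

end SO

end Groth.Agent.Lib.Helper18Quad
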