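import Mathlib
import Groth.Agent.Lib.Helper18QuadE3

set_option autoImplicit false
universe u v

namespace Groth.Agent.Lib.Helper18Quad

open QuadraticMap TensorProduct

variable {R : Type u} [CommRing R] {n : ℕ}

lemma snd_eps_mul_inl {B : Type u} [CommRing B] (b : B) :
    TrivSqZeroExt.snd (DualNumber.eps * TrivSqZeroExt.inlHom B B b) = b := by
  rw [DualNumber.snd_mul, DualNumber.fst_eps, DualNumber.snd_eps]
  show 0 * _ + 1 * b = b
  ring

lemma rot_identity_B (Q : QuadraticForm R (Fin n → R)) (g : (Fin n → R) ≃ₗ[R] (Fin n → R))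
    (heven : Even n) (B : Type u) [CommRing B] [Algebra R B]
    (hcomm : CommSO (DualNumber B) Q g) (s : B) (u₀ u z x : Fin n → R)
    (hunit : IsUnit (s * s * algebraMap R B (Q u₀) + s * algebraMap R B (polar Q u₀ u) +
      algebraMap R B (Q u))) (j : Fin n) :
    algebraMap R B (polar Q z x) * (s * algebraMap R B ((g u₀) j) + algebraMap R B ((g u) j)) -
        (s * algebraMap R B (polar Q u₀ x) + algebraMap R B (polar Q u x)) * algebraMap R B ((g z) j) =
      algebraMap R B (polar Q z (g x)) * (s * algebraMap R B (u₀ j) + algebraMap R B (u j)) -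
        (s * algebraMap R B (polar Q u₀ (g x)) + algebraMap R B (polar Q u (g x))) *
          algebraMap R B (z j) := by
  rcases subsingleton_or_nontrivial B with hB | hB
  · exact Subsingleton.elim _ _
  have hRnt : Nontrivial R := (algebraMap R B).domain_nontrivial
  set A := DualNumber B with hA
  set θ : B →+* A := TrivSqZeroExt.inlHom B B with hθ
  have hφ : ∀ r : R, algebraMap R A r = θ (algebraMap R B r) := fun r => rfl
  set QA := QuadGrp.baseChangeForm A Q with hQA
  set U : A ⊗[R] (Fin n → R) := θ s • ((1 : A) ⊗ₜ[R] u₀) + (1 : A) ⊗ₜ[R] u with hU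
  set Z : A ⊗[R] (Fin n → R) := (1 : A) ⊗ₜ[R] z with hZ
  set X : A ⊗[R] (Fin n → R) := (1 : A) ⊗ₜ[R] x with hX
  have hQU : QA U = θ (s * s * algebraMap R B (Q u₀) + s * algebraMap R B (polar Q u₀ u) +
      algebraMap R B (Q u)) := by
    rw [hU, QuadraticMap.map_add (⇑QA), QuadraticMap.map_smul, polar_smul_left, bcf_tmul, bcf_tmul,
      bcf_polar_one, hφ, hφ, hφ]
    simp only [map_add, map_mul, smul_eq_mul, one_mul]
    ring
  obtain ⟨pu, hpu⟩ := hunit
  have hc : θ (↑pu⁻¹ : B) * QA U = 1 := by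
    rw [hQU, ← hpu, ← map_mul, Units.inv_mul, map_one]
  have heven' : Even (Module.finrank R (Fin n → R)) := by
    rw [Module.finrank_fin_fun]; exact heven
  have h1 := comm_rot A Q g heven' hcomm DualNumber.eps DualNumber.eps_mul_eps U Z _ hc
  have h2 := rot_identity_gen A Q g DualNumber.eps DualNumber.eps_mul_eps U Z X h1
  have h3 := congrArg (coord A j) h2
  have hGU : g.baseChange R A (Fin n → R) (Fin n → R) U =
      θ s • ((1 : A) ⊗ₜ[R] g u₀) + (1 : A) ⊗ₜ[R] g u := by
    rw [hU, map_add, map_smul, LinearEquiv.baseChange_tmul, LinearEquiv.baseChange_tmul]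
  rw [hGU] at h3
  simp only [hU, hZ, hX, hQA, map_add, map_smul, map_sub, LinearEquiv.baseChange_tmul, coord_tmul,
    bcf_polar_one, polar_add_left, polar_smul_left, smul_eq_mul, one_mul, hφ] at h3
  simp only [← map_mul, ← map_add, ← map_sub] at h3
  have h4 := congrArg TrivSqZeroExt.snd h3
  rw [hθ, snd_eps_mul_inl, snd_eps_mul_inl] at h4
  exact h4

end Groth.Agent.Lib.Helper18Quad
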