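import Mathlib
import Groth.Agent.Lib.Helper18QuadS2
import Groth.Agent.Lib.Helper18Quad9

set_option autoImplicit false
universe u v

namespace Groth.Agent.Lib.Helper18Quad

open QuadraticMap TensorProduct Polynomial

section EigenR
variable {R : Type u} [CommRing R] {M : Type v} [AddCommGroup M] [Module R M] [Module.Free R M]
variable (A : Type u) [CommRing A] [Algebra R A]

lemma eigenR (Q : QuadraticForm R M) (g : M ≃ₗ[R] M) (hcomm : CommRefl A Q g)
    (v x : A ⊗[R] M) (c : A) (hc : c * QuadGrp.baseChangeForm A Q v = 1)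
    (hx : polar (QuadGrp.baseChangeForm A Q) x v = 1) :
    g.baseChange R A M M v =
      (polar (QuadGrp.baseChangeForm A Q) (g.baseChange R A M M x) v) • v := by
  set QA := QuadGrp.baseChangeForm A Q with hQA
  set G := g.baseChange R A M M with hG
  have h1 := hcomm v c hc
  have h2 := congrArg (fun f => f x) h1
  simp only [LinearEquiv.mul_apply] at h2
  rw [reflEquiv_apply, reflEquiv_apply, hx, mul_one, map_sub, map_smul] at h2
  have h3 : c • G v = (c * polar QA (G x) v) • v := by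
    have := sub_right_injective h2
    exact this
  have h4 := congrArg (fun z => QA v • z) h3
  simp only [smul_smul] at h4
  rw [mul_comm (QA v) c, hc, one_smul, ← mul_assoc, mul_comm (QA v) c, hc, one_mul] at h4
  exact h4

end EigenR

variable {R : Type u} [CommRing R] {n : ℕ}

/-- commutation with all reflections over all algebras -/
def CommReflAll (Q : QuadraticForm R (Fin n → R)) (g : (Fin n → R) ≃ₗ[R] (Fin n → R)) : Prop :=
  ∀ (A : Type u) [CommRing A] [Algebra R A], CommRefl A Q g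

lemma step4R (Q : QuadraticForm R (Fin n → R)) (g : (Fin n → R) ≃ₗ[R] (Fin n → R))
    (hcomm : CommReflAll Q g) (L : Type u) [CommRing L] [Algebra R L] (u w e : Fin n → R) (i m : Fin n)
    (hui : u i = 1) (hwi : w i = 0) (hwm : w m = 1)
    (hQu : IsUnit (algebraMap R L (Q u)))
    (hBu : IsUnit (algebraMap R L (polar Q e u)))
    (c₀ : L)
    (hc₀ : ∀ j, algebraMap R L ((g u) j) = c₀ * algebraMap R L (u j)) :
    ∀ j, algebraMap R L ((g w) j) = c₀ * algebraMap R L (w j) := by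
  rcases subsingleton_or_nontrivial L with hsub | hnt
  · intro j; exact Subsingleton.elim _ _
  set φ₀ := algebraMap R L with hφ₀
  set a₂ := φ₀ (Q u) with ha₂
  set a₁ := φ₀ (polar Q u w) with ha₁
  set a₀ := φ₀ (Q w) with ha₀
  set b₁ := φ₀ (polar Q e u) with hb₁
  set b₀ := φ₀ (polar Q e w) with hb₀
  set p : L[X] := C a₂ * X ^ 2 + C a₁ * X + C a₀ with hp
  set q : L[X] := C b₁ * X + C b₀ with hq
  have hpnz : p ∈ nonZeroDivisors L[X] := by
    apply mem_nonZeroDivisors_of_leadingCoeff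
    rw [hp, leadingCoeff_quadratic hQu.ne_zero]
    exact hQu.mem_nonZeroDivisors
  have hqnz : q ∈ nonZeroDivisors L[X] := by
    apply mem_nonZeroDivisors_of_leadingCoeff
    rw [hq, leadingCoeff_linear hBu.ne_zero]
    exact hBu.mem_nonZeroDivisors
  have hpq : Submonoid.powers (p * q) ≤ nonZeroDivisors L[X] :=
    Submonoid.powers_le.mpr (mul_mem hpnz hqnz)
  set A := Localization.Away (p * q) with hA
  set ι := algebraMap L[X] A with hι
  have hιinj : Function.Injective ι := IsLocalization.injective A hpq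
  set ψ := algebraMap L A with hψ
  have hψι : ∀ a : L, ψ a = ι (C a) := fun a => by
    rw [hψ, IsScalarTower.algebraMap_apply L L[X] A]; rfl
  have hψinj : Function.Injective ψ := by
    intro a b hab
    rw [hψι, hψι] at hab
    exact C_injective (hιinj hab)
  set S : A := ι X with hS
  have hφ : ∀ r : R, algebraMap R A r = ψ (φ₀ r) := fun r => by
    rw [hψ, hφ₀, ← IsScalarTower.algebraMap_apply]
  have hunit : IsUnit (ι (p * q)) := IsLocalization.Away.algebraMap_isUnit (p * q)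
  rw [map_mul] at hunit
  have hpu : IsUnit (ι p) := isUnit_of_mul_isUnit_left hunit
  have hqu : IsUnit (ι q) := isUnit_of_mul_isUnit_right hunit
  set QA := QuadGrp.baseChangeForm A Q with hQA
  set v : A ⊗[R] (Fin n → R) := S • ((1 : A) ⊗ₜ[R] u) + (1 : A) ⊗ₜ[R] w with hv
  have hQAv : QA v = ι p := by
    rw [hv, QuadraticMap.map_add (⇑QA), QuadraticMap.map_smul, polar_smul_left, bcf_tmul, bcf_tmul,
      bcf_polar_one, hφ, hφ, hφ, hψι, hψι, hψι]
    show _ = ι (C a₂ * X ^ 2 + C a₁ * X + C a₀)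
    simp only [map_add, map_mul, map_pow, smul_eq_mul, one_mul, ← hS]
    ring
  have hpol : polar QA ((1 : A) ⊗ₜ[R] e) v = ι q := by
    rw [hv, polar_add_right, polar_smul_right, bcf_polar_one, bcf_polar_one, hφ, hφ, hψι, hψι]
    show _ = ι (C b₁ * X + C b₀)
    simp only [map_add, map_mul, smul_eq_mul, ← hS]
    ring
  obtain ⟨pu, hpu'⟩ := hpu
  obtain ⟨qu, hqu'⟩ := hqu
  have hc : (↑pu⁻¹ : A) * QA v = 1 := by
    rw [hQAv, ← hpu', Units.inv_mul]
  have hx : polar QA ((↑qu⁻¹ : A) • ((1 : A) ⊗ₜ[R] e)) v = 1 := by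
    rw [polar_smul_left, hpol, ← hqu', smul_eq_mul, Units.inv_mul]
  have heig := eigenR A Q g (hcomm A) v _ _ hc hx
  set lam := polar (QuadGrp.baseChangeForm A Q)
    ((g.baseChange R A (Fin n → R) (Fin n → R)) ((↑qu⁻¹ : A) • ((1 : A) ⊗ₜ[R] e))) v with hlam
  have hGv : g.baseChange R A (Fin n → R) (Fin n → R) v =
      S • ((1 : A) ⊗ₜ[R] g u) + (1 : A) ⊗ₜ[R] g w := by
    rw [hv, map_add, map_smul, LinearEquiv.baseChange_tmul, LinearEquiv.baseChange_tmul]
  have hcoord : ∀ j, S * ψ (c₀ * φ₀ (u j)) + ψ (φ₀ ((g w) j)) =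
      lam * (S * ψ (φ₀ (u j)) + ψ (φ₀ (w j))) := by
    intro j
    have := congrArg (coord A j) heig
    rw [hGv, map_add, map_smul, coord_tmul, coord_tmul, map_smul, hv, map_add, map_smul, coord_tmul,
      coord_tmul, hφ, hφ, hφ, hφ, hc₀ j] at this
    simpa only [smul_eq_mul, one_mul] using this
  have hSprop : ∀ a b : L, S * ψ a = ψ b → a = 0 ∧ b = 0 := by
    intro a b hab
    rw [hψι, hψι, hS, ← map_mul] at hab
    have := hιinj hab
    have h0 := congrArg (fun r => coeff r 0) this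
    have h1 := congrArg (fun r => coeff r 1) this
    simp only [coeff_C_zero, coeff_X_mul_zero] at h0
    simp only [coeff_X_mul, coeff_C_zero, coeff_C_succ] at h1
    exact ⟨h1, h0.symm⟩
  exact core4 ψ hψinj S hSprop (fun j => φ₀ (u j)) (fun j => φ₀ (w j)) (fun j => φ₀ ((g w) j)) c₀ lam i m
    (by simp only [hui, map_one]) (by simp only [hwi, map_zero]) (by simp only [hwm, map_one]) hcoord

lemma local_scalarR (Q : QuadraticForm R (Fin n → R)) (g : (Fin n → R) ≃ₗ[R] (Fin n → R))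
    (hcomm : CommReflAll Q g) (hgO : ∀ v, Q (g v) = Q v)
    (L : Type u) [CommRing L] [Algebra R L] (u : Fin n → R) (i l : Fin n)
    (hui : u i = 1)
    (hQu : IsUnit (algebraMap R L (Q u)))
    (hBu : IsUnit (algebraMap R L (polar Q (Pi.single l 1) u))) :
    ∃ c₀ : L, c₀ * c₀ = 1 ∧ ∀ w j, algebraMap R L ((g w) j) = c₀ * algebraMap R L (w j) := by
  set φ₀ := algebraMap R L with hφ₀
  set QA := QuadGrp.baseChangeForm L Q with hQA
  set e : Fin n → R := Pi.single l 1 with he
  set v : L ⊗[R] (Fin n → R) := (1 : L) ⊗ₜ[R] u with hv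
  have hQAv : QA v = φ₀ (Q u) := by
    rw [hv, bcf_tmul, one_mul, one_mul]
  have hpol : polar QA ((1 : L) ⊗ₜ[R] e) v = φ₀ (polar Q e u) := by
    rw [hv, bcf_polar_one]
  obtain ⟨pu, hpu'⟩ := hQu
  obtain ⟨qu, hqu'⟩ := hBu
  have hc : (↑pu⁻¹ : L) * QA v = 1 := by
    rw [hQAv, ← hpu', Units.inv_mul]
  have hx : polar QA ((↑qu⁻¹ : L) • ((1 : L) ⊗ₜ[R] e)) v = 1 := by
    rw [polar_smul_left, hpol, ← hqu', smul_eq_mul, Units.inv_mul]
  have heig := eigenR L Q g (hcomm L) v _ _ hc hx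
  set c₀ := polar (QuadGrp.baseChangeForm L Q)
    ((g.baseChange R L (Fin n → R) (Fin n → R)) ((↑qu⁻¹ : L) • ((1 : L) ⊗ₜ[R] e))) v with hc₀def
  have hGv : g.baseChange R L (Fin n → R) (Fin n → R) v = (1 : L) ⊗ₜ[R] g u := by
    rw [hv, LinearEquiv.baseChange_tmul]
  have hu : ∀ j, φ₀ ((g u) j) = c₀ * φ₀ (u j) := by
    intro j
    have := congrArg (coord L j) heig
    rw [hGv, coord_tmul, map_smul, hv, coord_tmul] at this
    simpa only [smul_eq_mul, one_mul] using this
  have hsq : c₀ * c₀ = 1 := by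
    have h1 := congrArg QA heig
    rw [hGv, QuadraticMap.map_smul, hQAv, bcf_tmul, one_mul, one_mul, hgO u, smul_eq_mul] at h1
    have h2 : c₀ * c₀ * (φ₀ (Q u) * ↑pu⁻¹) = φ₀ (Q u) * ↑pu⁻¹ := by
      rw [← mul_assoc, ← h1]
    rw [← hpu', Units.mul_inv, mul_one] at h2
    exact h2
  refine ⟨c₀, hsq, ?_⟩
  have hQu' : IsUnit (φ₀ (Q u)) := ⟨pu, hpu'⟩
  have hBu' : IsUnit (φ₀ (polar Q e u)) := ⟨qu, hqu'⟩
  have hem : ∀ m, m ≠ i → ∀ j, φ₀ ((g (Pi.single m 1)) j) = c₀ * φ₀ ((Pi.single m 1 : Fin n → R) j) := by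
    intro m hm
    exact step4R Q g hcomm L u (Pi.single m 1) e i m hui (Pi.single_eq_of_ne hm.symm _) (Pi.single_eq_same _ _)
      hQu' hBu' c₀ hu
  -- linear maps
  let Φ : (Fin n → R) →ₗ[R] (Fin n → L) := (Algebra.linearMap R L).compLeft (Fin n)
  let T₁ : (Fin n → R) →ₗ[R] (Fin n → L) := Φ ∘ₗ g.toLinearMap
  let T₂ : (Fin n → R) →ₗ[R] (Fin n → L) := c₀ • Φ
  have hT₁ : ∀ w j, T₁ w j = φ₀ ((g w) j) := fun w j => rfl
  have hT₂ : ∀ w j, T₂ w j = c₀ * φ₀ (w j) := fun w j => rfl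
  have hTu : T₁ u = T₂ u := by
    funext j; rw [hT₁, hT₂, hu]
  have hTm : ∀ m, m ≠ i → T₁ (Pi.single m 1) = T₂ (Pi.single m 1) := by
    intro m hm; funext j; rw [hT₁, hT₂, hem m hm]
  have hTi : T₁ (Pi.single i 1) = T₂ (Pi.single i 1) := by
    rw [single_eq_sub u i hui, map_sub, map_sub, map_sum, map_sum, hTu]
    congr 1
    refine Finset.sum_congr rfl fun m hm => ?_
    rw [map_smul, map_smul, hTm m (Finset.mem_erase.mp hm).1]
  have hT : T₁ = T₂ := by
    apply LinearMap.pi_ext'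
    intro m
    apply LinearMap.ext_ring
    show T₁ (Pi.single m 1) = T₂ (Pi.single m 1)
    by_cases hm : m = i
    · rw [hm]; exact hTi
    · exact hTm m hm
  intro w j
  rw [← hT₁, ← hT₂, hT]

theorem scalar_of_commReflAll (hn : 2 ≤ n) (Q : QuadraticForm R (Fin n → R))
    (hQ : QuadGrp.IsNondeg (Pi.basisFun R (Fin n)) (LinearEquiv.refl R R) Q)
    (g : (Fin n → R) ≃ₗ[R] (Fin n → R)) (hg : g ∈ QuadGrp.O Q) (hcomm : CommReflAll Q g) :
    ∃ c : R, c * c = 1 ∧ ∀ v, g v = c • v := by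
  have hspan := span_fam_eq_top hn Q hQ
  have hloc : ∀ kl : Cand n × Fin n, ∃ c₀ : Localization.Away (fam Q kl), c₀ * c₀ = 1 ∧
      ∀ w j, algebraMap R (Localization.Away (fam Q kl)) ((g w) j) =
        c₀ * algebraMap R (Localization.Away (fam Q kl)) (w j) := by
    intro kl
    have hunit : IsUnit (algebraMap R (Localization.Away (fam Q kl)) (fam Q kl)) :=
      IsLocalization.Away.algebraMap_isUnit _
    have hunit' := hunit
    unfold fam at hunit'
    rw [map_mul] at hunit'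
    exact local_scalarR Q g hcomm hg (Localization.Away (fam Q kl)) (uvec R kl.1) (dist kl.1) kl.2
      (uvec_dist kl.1) (isUnit_of_mul_isUnit_left hunit') (isUnit_of_mul_isUnit_right hunit')
  set i0 : Fin n := ⟨0, by omega⟩ with hi0
  set c : R := (g (Pi.single i0 1)) i0 with hc
  have hcloc : ∀ kl : Cand n × Fin n, ∀ w j, algebraMap R (Localization.Away (fam Q kl)) ((g w) j) =
      algebraMap R (Localization.Away (fam Q kl)) (c * w j) := by
    intro kl w j
    obtain ⟨c₀, _, h2⟩ := hloc kl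
    have hc0 : algebraMap R (Localization.Away (fam Q kl)) c = c₀ := by
      rw [hc, h2, Pi.single_eq_same, map_one, mul_one]
    rw [h2, map_mul, hc0]
  refine ⟨c, ?_, ?_⟩
  · apply eq_of_forall_away Q hspan
    intro kl
    obtain ⟨c₀, h1, h2⟩ := hloc kl
    have hc0 : algebraMap R (Localization.Away (fam Q kl)) c = c₀ := by
      rw [hc, h2, Pi.single_eq_same, map_one, mul_one]
    rw [map_mul, hc0, h1, map_one]
  · intro v
    funext j
    rw [Pi.smul_apply, smul_eq_mul]
    apply eq_of_forall_away Q hspan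
    intro kl
    exact hcloc kl v j

end Groth.Agent.Lib.Helper18Quad
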