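import Mathlib
import Groth.Agent.Lib.Helper18QuadS2

set_option autoImplicit false
universe u v

namespace Groth.Agent.Lib.Helper18Quad

open QuadraticMap TensorProduct

variable {R : Type u} [CommRing R] {n : ℕ}

lemma rot_identity (Q : QuadraticForm R (Fin n → R)) (g : (Fin n → R) ≃ₗ[R] (Fin n → R))
    (A : Type u) [CommRing A] [Algebra R A] (hcomm : CommS A Q g) (ε : A) (hε : ε * ε = 0)
    (x u z : Fin n → R) (j : Fin n) :
    ε * algebraMap R A (polar Q z x * (g u) j - polar Q u x * (g z) j) =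
      ε * algebraMap R A (polar Q z (g x) * u j - polar Q u (g x) * z j) := by
  set QA := QuadGrp.baseChangeForm A Q with hQA
  set U : A ⊗[R] (Fin n → R) := (1 : A) ⊗ₜ[R] u with hU
  set Z : A ⊗[R] (Fin n → R) := (1 : A) ⊗ₜ[R] z with hZ
  have hmem : rotEquiv QA ε hε U Z ∈ QuadGrp.sorth' Q A :=
    mem_sorth'_of A Q _ (rotEquiv_isometry QA ε hε U Z) (det_rotEquiv QA ε hε U Z)
  have h1 := hcomm _ hmem
  have h2 := congrArg (fun f => coord A j (f ((1 : A) ⊗ₜ[R] x))) h1
  simp only [LinearEquiv.mul_apply] at h2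
  rw [rotEquiv_apply, LinearEquiv.baseChange_tmul, rotEquiv_apply] at h2
  simp only [hU, hZ, hQA, map_add, map_smul, map_sub, LinearEquiv.baseChange_tmul, coord_tmul,
    bcf_polar_one, smul_eq_mul, one_mul] at h2
  have h3 := add_left_cancel h2
  simp only [map_sub, map_mul]
  exact h3

lemma even_identity (Q : QuadraticForm R (Fin n → R)) (g : (Fin n → R) ≃ₗ[R] (Fin n → R))
    (hcomm : CommS (DualNumber R) Q g) (x u z : Fin n → R) :
    polar Q z x • g u - polar Q u x • g z = polar Q z (g x) • u - polar Q u (g x) • z := by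
  funext j
  have h1 := rot_identity Q g (DualNumber R) hcomm DualNumber.eps DualNumber.eps_mul_eps x u z j
  have h2 := congrArg TrivSqZeroExt.snd h1
  simp only [TrivSqZeroExt.algebraMap_eq_inl, TrivSqZeroExt.snd_mul, DualNumber.fst_eps,
    DualNumber.snd_eps, TrivSqZeroExt.snd_inl, TrivSqZeroExt.fst_inl, zero_smul, zero_add,
    MulOpposite.smul_eq_mul_unop, MulOpposite.unop_op, one_mul] at h2
  simpa using h2

end Groth.Agent.Lib.Helper18Quad
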