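import Mathlib
import Groth.Agent.Lib.Helper18QuadS3
import Groth.Agent.Lib.Helper18QuadS4

set_option autoImplicit false
universe u v

namespace Groth.Agent.Lib.Helper18Quad

open QuadraticMap TensorProduct

variable {R : Type u} [CommRing R] {n : ℕ}

lemma even_core (hn : 3 ≤ n) (Q : QuadraticForm R (Fin n → R))
    (hsurj : Function.Surjective (polarBilin Q)) (g : (Fin n → R) ≃ₗ[R] (Fin n → R))
    (hI : ∀ x u z : Fin n → R,
      polar Q z x • g u - polar Q u x • g z = polar Q z (g x) • u - polar Q u (g x) • z) :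
    ∃ c : R, ∀ v, g v = c • v := by
  have hd : ∀ k : Fin n, ∃ d : Fin n → R, ∀ y, polar Q y d = y k := by
    intro k
    obtain ⟨d, hd⟩ := hsurj (LinearMap.proj k)
    refine ⟨d, fun y => ?_⟩
    have := congrArg (fun f => f y) hd
    simp only [polarBilin_apply_apply, LinearMap.proj_apply] at this
    rw [polar_comm]; exact this
  choose d hd using hd
  set e : Fin n → (Fin n → R) := fun i => Pi.single i 1 with he
  have hee : ∀ i k, e i k = if k = i then 1 else 0 := by
    intro i k; simp only [he, Pi.single_apply]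
  -- step 1
  have h1 : ∀ i k, k ≠ i → (g (e i)) k = 0 := by
    intro i k hki
    obtain ⟨j, hji, hjk⟩ := Fin.exists_ne_and_ne_of_two_lt i k (by omega)
    have := congrFun (hI (d j) (e i) (e j)) k
    simp only [Pi.sub_apply, Pi.smul_apply, smul_eq_mul, hd, hee] at this
    simpa [hji, hjk, hki, hjk.symm, hji.symm] using this
  set a : Fin n → R := fun i => (g (e i)) i with ha
  have h2 : ∀ i, g (e i) = a i • e i := by
    intro i
    funext k
    rw [Pi.smul_apply, smul_eq_mul, hee]
    by_cases hki : k = i
    · subst hki; simp [ha]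
    · rw [h1 i k hki, if_neg hki, mul_zero]
  have h3 : ∀ i j, i ≠ j → a i = a j := by
    intro i j hij
    obtain ⟨k, hki, hkj⟩ := Fin.exists_ne_and_ne_of_two_lt i j (by omega)
    have hk := hI (d k) (e i + e j) (e k)
    have hi := congrFun hk i
    have hj := congrFun hk j
    simp only [Pi.sub_apply, Pi.smul_apply, Pi.add_apply, smul_eq_mul, hd, hee, map_add, h2] at hi hj
    simp [hki, hkj, hki.symm, hkj.symm, hij, hij.symm] at hi hj
    rw [hi, hj]
  set i0 : Fin n := ⟨0, by omega⟩ with hi0
  refine ⟨a i0, ?_⟩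
  have hall : ∀ i, a i = a i0 := by
    intro i
    by_cases h : i = i0
    · rw [h]
    · exact h3 i i0 h
  have hT : g.toLinearMap = (a i0) • LinearMap.id := by
    apply LinearMap.pi_ext'
    intro m
    apply LinearMap.ext_ring
    show g (Pi.single m 1) = a i0 • (Pi.single m 1 : Fin n → R)
    have := h2 m
    rw [hall m] at this
    exact this
  intro v
  have := congrArg (fun f => f v) hT
  simpa using this

lemma sq_one_of_scalar (hn : 1 ≤ n) (Q : QuadraticForm R (Fin n → R))
    (hsurj : Function.Surjective (polarBilin Q)) (g : (Fin n → R) ≃ₗ[R] (Fin n → R))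
    (hg : ∀ v, Q (g v) = Q v) (c : R) (hc : ∀ v, g v = c • v) : c * c = 1 := by
  set i0 : Fin n := ⟨0, by omega⟩ with hi0
  obtain ⟨d, hd⟩ := hsurj (LinearMap.proj i0)
  have h1 := congrArg (fun f => f (Pi.single i0 1)) hd
  simp only [polarBilin_apply_apply, LinearMap.proj_apply, Pi.single_eq_same] at h1
  have hQ : ∀ v, c * c * Q v = Q v := by
    intro v
    have := hg v
    rw [hc, QuadraticMap.map_smul, smul_eq_mul] at this
    exact this
  have h2 : c * c * polar Q d (Pi.single i0 1) = polar Q d (Pi.single i0 1) := by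
    unfold polar
    rw [mul_sub, mul_sub, hQ, hQ, hQ]
  rw [h1, mul_one] at h2
  exact h2

end Groth.Agent.Lib.Helper18Quad
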