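import Mathlib
import Groth.Agent.Lib.Helper18QuadE4
import Groth.Agent.Lib.Helper18QuadS5

set_option autoImplicit false
universe u v

namespace Groth.Agent.Lib.Helper18Quad

open QuadraticMap TensorProduct Polynomial

variable {R : Type u} [CommRing R] {n : ℕ}

/-- commutation with `SO(q)(A)` for every `A` -/
def CommSOAll (Q : QuadraticForm R (Fin n → R)) (g : (Fin n → R) ≃ₗ[R] (Fin n → R)) : Prop :=
  ∀ (A : Type u) [CommRing A] [Algebra R A], CommSO A Q g

lemma local_identity (Q : QuadraticForm R (Fin n → R)) (g : (Fin n → R) ≃ₗ[R] (Fin n → R))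
    (heven : Even n) (hcomm : CommSOAll Q g) (L : Type u) [CommRing L] [Algebra R L]
    (u₀ : Fin n → R) (hQu : IsUnit (algebraMap R L (Q u₀))) (x u z : Fin n → R) (j : Fin n) :
    algebraMap R L (polar Q z x * (g u) j - polar Q u x * (g z) j) =
      algebraMap R L (polar Q z (g x) * u j - polar Q u (g x) * z j) := by
  rcases subsingleton_or_nontrivial L with hsub | hnt
  · exact Subsingleton.elim _ _
  set φ₀ := algebraMap R L with hφ₀
  set a₂ := φ₀ (Q u₀) with ha₂
  set a₁ := φ₀ (polar Q u₀ u) with ha₁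
  set a₀ := φ₀ (Q u) with ha₀
  set p : L[X] := C a₂ * X ^ 2 + C a₁ * X + C a₀ with hp
  have hpnz : p ∈ nonZeroDivisors L[X] := by
    apply mem_nonZeroDivisors_of_leadingCoeff
    rw [hp, leadingCoeff_quadratic hQu.ne_zero]
    exact hQu.mem_nonZeroDivisors
  have hpq : Submonoid.powers p ≤ nonZeroDivisors L[X] :=
    Submonoid.powers_le.mpr hpnz
  set B := Localization.Away p with hB
  set ι := algebraMap L[X] B with hι
  have hιinj : Function.Injective ι := IsLocalization.injective B hpq
  set ψ := algebraMap L B with hψ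
  have hψι : ∀ a : L, ψ a = ι (C a) := fun a => by
    rw [hψ, IsScalarTower.algebraMap_apply L L[X] B]; rfl
  have hψinj : Function.Injective ψ := by
    intro a b hab
    rw [hψι, hψι] at hab
    exact C_injective (hιinj hab)
  set S : B := ι X with hS
  have hφ : ∀ r : R, algebraMap R B r = ψ (φ₀ r) := fun r => by
    rw [hψ, hφ₀, ← IsScalarTower.algebraMap_apply]
  have hpu : IsUnit (ι p) := IsLocalization.Away.algebraMap_isUnit p
  have hunit : IsUnit (S * S * algebraMap R B (Q u₀) + S * algebraMap R B (polar Q u₀ u) +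
      algebraMap R B (Q u)) := by
    have : S * S * algebraMap R B (Q u₀) + S * algebraMap R B (polar Q u₀ u) +
        algebraMap R B (Q u) = ι p := by
      rw [hφ, hφ, hφ, hψι, hψι, hψι]
      show _ = ι (C a₂ * X ^ 2 + C a₁ * X + C a₀)
      simp only [map_add, map_mul, map_pow, ← hS]
      ring
    rw [this]; exact hpu
  have hid := rot_identity_B Q g heven B (hcomm (DualNumber B)) S u₀ u z x hunit j
  simp only [hφ] at hid
  have hSprop : ∀ a b : L, S * ψ a = ψ b → a = 0 ∧ b = 0 := by
    intro a b hab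
    rw [hψι, hψι, hS, ← map_mul] at hab
    have := hιinj hab
    have h0 := congrArg (fun r => coeff r 0) this
    have h1 := congrArg (fun r => coeff r 1) this
    simp only [coeff_C_zero, coeff_X_mul_zero] at h0
    simp only [coeff_X_mul, coeff_C_zero, coeff_C_succ] at h1
    exact ⟨h1, h0.symm⟩
  have hkey : S * ψ (φ₀ (polar Q z x) * φ₀ ((g u₀) j) - φ₀ (polar Q u₀ x) * φ₀ ((g z) j) -
      (φ₀ (polar Q z (g x)) * φ₀ (u₀ j) - φ₀ (polar Q u₀ (g x)) * φ₀ (z j))) =
      ψ ((φ₀ (polar Q z (g x)) * φ₀ (u j) - φ₀ (polar Q u (g x)) * φ₀ (z j)) -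
        (φ₀ (polar Q z x) * φ₀ ((g u) j) - φ₀ (polar Q u x) * φ₀ ((g z) j))) := by
    simp only [map_sub, map_mul]
    linear_combination hid
  obtain ⟨_, h2⟩ := hSprop _ _ hkey
  simp only [map_sub, map_mul]
  linear_combination (-1 : L) * h2

theorem identity_of_commSOAll (hn : 2 ≤ n) (Q : QuadraticForm R (Fin n → R))
    (hQ : QuadGrp.IsNondeg (Pi.basisFun R (Fin n)) (LinearEquiv.refl R R) Q)
    (g : (Fin n → R) ≃ₗ[R] (Fin n → R)) (heven : Even n) (hcomm : CommSOAll Q g)
    (x u z : Fin n → R) :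
    polar Q z x • g u - polar Q u x • g z = polar Q z (g x) • u - polar Q u (g x) • z := by
  have hspan := span_fam_eq_top hn Q hQ
  funext j
  simp only [Pi.sub_apply, Pi.smul_apply, smul_eq_mul]
  apply eq_of_forall_away Q hspan
  intro kl
  have hunit : IsUnit (algebraMap R (Localization.Away (fam Q kl)) (fam Q kl)) :=
    IsLocalization.Away.algebraMap_isUnit _
  unfold fam at hunit
  rw [map_mul] at hunit
  exact local_identity Q g heven hcomm (Localization.Away (fam Q kl)) (uvec R kl.1)
    (isUnit_of_mul_isUnit_left hunit) x u z j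

end Groth.Agent.Lib.Helper18Quad
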