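import Groth.Agent.S19391

set_option autoImplicit false
universe u

namespace Groth.Agent.Helper18Quartic
open W4c6intromoduli

variable {k : Type u} [Field k]

/-- the `2 × 2` determinant `la j * mu i - la i * mu j` of two of the root points. -/
def dd (la mu : Fin 4 → k) (i j : Fin 4) : k := la j * mu i - la i * mu j

theorem dd_swap (la mu : Fin 4 → k) (i j : Fin 4) : dd la mu i j = - dd la mu j i := by
  unfold dd; ring

theorem dd_ne_zero (la mu : Fin 4 → k) (hd : disc la mu ≠ 0) :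
    ∀ i j, i ≠ j → dd la mu i j ≠ 0 := by
  intro i j hij
  unfold disc at hd
  rw [Finset.prod_ne_zero_iff] at hd
  rcases lt_or_gt_of_ne hij with h | h
  · have := hd (i, j) (by simp [h])
    intro h0
    apply this
    simp only [dd] at h0
    simp [h0]
  · have := hd (j, i) (by simp [h])
    rw [dd_swap]
    intro h0
    apply this
    simp only [dd, neg_eq_zero] at h0
    simp [h0]

theorem coef_zero (la mu : Fin 4 → k) : coef la mu 0 = mu 0 * mu 1 * mu 2 * mu 3 := by
  unfold coef; rw [S19391.rootPoly_eq]; exact (S19391.coeff_quartic _ _ _ _ _).1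

theorem coef_one (la mu : Fin 4 → k) :
    coef la mu 1 = -(la 0 * mu 1 * mu 2 * mu 3 + mu 0 * la 1 * mu 2 * mu 3
      + mu 0 * mu 1 * la 2 * mu 3 + mu 0 * mu 1 * mu 2 * la 3) := by
  unfold coef; rw [S19391.rootPoly_eq]; exact (S19391.coeff_quartic _ _ _ _ _).2.1

theorem coef_two (la mu : Fin 4 → k) :
    coef la mu 2 = la 0 * la 1 * mu 2 * mu 3 + la 0 * mu 1 * la 2 * mu 3
      + la 0 * mu 1 * mu 2 * la 3 + mu 0 * la 1 * la 2 * mu 3 + mu 0 * la 1 * mu 2 * la 3
      + mu 0 * mu 1 * la 2 * la 3 := by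
  unfold coef; rw [S19391.rootPoly_eq]; exact (S19391.coeff_quartic _ _ _ _ _).2.2.1

theorem coef_three (la mu : Fin 4 → k) :
    coef la mu 3 = -(la 0 * la 1 * la 2 * mu 3 + la 0 * la 1 * mu 2 * la 3
      + la 0 * mu 1 * la 2 * la 3 + mu 0 * la 1 * la 2 * la 3) := by
  unfold coef; rw [S19391.rootPoly_eq]; exact (S19391.coeff_quartic _ _ _ _ _).2.2.2.1

theorem coef_four (la mu : Fin 4 → k) : coef la mu 4 = la 0 * la 1 * la 2 * la 3 := by
  unfold coef; rw [S19391.rootPoly_eq]; exact (S19391.coeff_quartic _ _ _ _ _).2.2.2.2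

def qA (la mu : Fin 4 → k) : k := dd la mu 0 1 * dd la mu 2 3
def qB (la mu : Fin 4 → k) : k := dd la mu 0 2 * dd la mu 3 1
def qC (la mu : Fin 4 → k) : k := dd la mu 0 3 * dd la mu 1 2

theorem qABC (la mu : Fin 4 → k) : qA la mu + qB la mu + qC la mu = 0 := by
  unfold qA qB qC dd; ring

theorem invI_eq (la mu : Fin 4 → k) :
    invI (coef la mu) = qA la mu ^ 2 + qA la mu * qB la mu + qB la mu ^ 2 := by
  unfold invI
  rw [coef_zero, coef_one, coef_two, coef_three, coef_four]
  unfold qA qB dd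
  ring

theorem disc_eq (la mu : Fin 4 → k) :
    disc la mu = (qA la mu * qB la mu * qC la mu) ^ 2 := by
  have hd : W4c6intromoduli.disc la mu =
      (la 1 * mu 0 - la 0 * mu 1) ^ 2 * (la 2 * mu 0 - la 0 * mu 2) ^ 2
      * (la 3 * mu 0 - la 0 * mu 3) ^ 2 * (la 2 * mu 1 - la 1 * mu 2) ^ 2
      * (la 3 * mu 1 - la 1 * mu 3) ^ 2 * (la 3 * mu 2 - la 2 * mu 3) ^ 2 := by
    unfold W4c6intromoduli.disc
    have : (Finset.univ.filter fun p : Fin 4 × Fin 4 => p.1 < p.2) =
        {(0, 1), (0, 2), (0, 3), (1, 2), (1, 3), (2, 3)} := by decide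
    rw [this]
    simp [Finset.prod_insert]
    ring
  rw [hd]
  unfold qA qB qC dd
  ring

end Groth.Agent.Helper18Quartic
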