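import Mathlib

set_option autoImplicit false
universe u

namespace Groth.Agent.Helper18Quartic

variable {k : Type u} [Field k]

theorem exists_scale {A B C A' B' C' : k} (hs : A + B + C = 0) (hs' : A' + B' + C' = 0)
    (hn : A * B * C ≠ 0) (hn' : A' * B' * C' ≠ 0)
    (h : (A ^ 2 + A * B + B ^ 2) ^ 3 * (A' * B' * C') ^ 2
      = (A' ^ 2 + A' * B' + B' ^ 2) ^ 3 * (A * B * C) ^ 2) :
    ∃ s : k, s ≠ 0 ∧ A' ^ 2 + A' * B' + B' ^ 2 = s ^ 2 * (A ^ 2 + A * B + B ^ 2) ∧
      A' * B' * C' = s ^ 3 * (A * B * C) := by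
  have hA : A ≠ 0 := fun h0 => hn (by rw [h0]; ring)
  have hA' : A' ≠ 0 := fun h0 => hn' (by rw [h0]; ring)
  have hC : C = -A - B := by linear_combination hs
  have hC' : C' = -A' - B' := by linear_combination hs'
  by_cases hI : A ^ 2 + A * B + B ^ 2 = 0
  · have hI' : A' ^ 2 + A' * B' + B' ^ 2 = 0 := by
      rw [hI] at h
      have : (A' ^ 2 + A' * B' + B' ^ 2) ^ 3 * (A * B * C) ^ 2 = 0 := by
        rw [← h]; ring
      rcases mul_eq_zero.mp this with h1 | h1
      · exact pow_eq_zero_iff (by norm_num) |>.mp h1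
      · exact absurd (pow_eq_zero_iff (by norm_num) |>.mp h1) hn
    refine ⟨A' / A, div_ne_zero hA' hA, ?_, ?_⟩
    · rw [hI, hI']; ring
    · have e1 : A * B * C = A ^ 3 := by rw [hC]; linear_combination (-A) * hI
      have e2 : A' * B' * C' = A' ^ 3 := by rw [hC']; linear_combination (-A') * hI'
      rw [e1, e2]; field_simp
  · have hI' : A' ^ 2 + A' * B' + B' ^ 2 ≠ 0 := by
      intro h0
      rw [h0] at h
      have : (A ^ 2 + A * B + B ^ 2) ^ 3 * (A' * B' * C') ^ 2 = 0 := by
        rw [h]; ring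
      rcases mul_eq_zero.mp this with h1 | h1
      · exact hI (pow_eq_zero_iff (by norm_num) |>.mp h1)
      · exact hn' (pow_eq_zero_iff (by norm_num) |>.mp h1)
    set I := A ^ 2 + A * B + B ^ 2 with hIdef
    set I' := A' ^ 2 + A' * B' + B' ^ 2 with hI'def
    set P := A * B * C with hP
    set P' := A' * B' * C' with hP'
    -- r = P'/P, w = I'/I, s = r/w = P' I / (P I')
    refine ⟨P' * I / (P * I'), ?_, ?_, ?_⟩
    · exact div_ne_zero (mul_ne_zero hn' hI) (mul_ne_zero hn hI')
    · rw [div_pow, div_mul_eq_mul_div, eq_div_iff (pow_ne_zero _ (mul_ne_zero hn hI'))]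
      have : I' * (P * I') ^ 2 - (P' * I) ^ 2 * I = 0 := by linear_combination (-1 : k) * h
      linear_combination this
    · rw [div_pow, div_mul_eq_mul_div, eq_div_iff (pow_ne_zero _ (mul_ne_zero hn hI'))]
      linear_combination (-(P' * P)) * h

theorem perm_sub {A B C A' B' C' s : k} (hs : A + B + C = 0) (hs' : A' + B' + C' = 0)
    (hn' : A' * B' * C' ≠ 0)
    (hP : A' * B' * C' = s ^ 3 * (A * B * C)) (hA : A' = s * A) :
    (B' = s * B ∧ C' = s * C) ∨ (B' = s * C ∧ C' = s * B) := by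
  have hA' : A' ≠ 0 := fun h0 => hn' (by rw [h0]; ring)
  have h1 : B' * C' = s ^ 2 * (B * C) := by
    apply mul_left_cancel₀ hA'
    rw [← mul_assoc, ← mul_assoc, hP, hA]; ring
  have h2 : (B' - s * B) * (B' - s * C) = 0 := by
    have : B' * (A' + B' + C') = 0 := by rw [hs']; ring
    linear_combination this - h1 - B' * hA - (s * B') * hs
  rcases mul_eq_zero.mp h2 with h3 | h3
  · left
    have hB : B' = s * B := by linear_combination h3
    refine ⟨hB, ?_⟩
    linear_combination hs' - hA - hB - s * hs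
  · right
    have hB : B' = s * C := by linear_combination h3
    refine ⟨hB, ?_⟩
    linear_combination hs' - hA - hB - s * hs

theorem perm_cases {A B C A' B' C' s : k} (hs : A + B + C = 0) (hs' : A' + B' + C' = 0)
    (hn' : A' * B' * C' ≠ 0)
    (hI : A' ^ 2 + A' * B' + B' ^ 2 = s ^ 2 * (A ^ 2 + A * B + B ^ 2))
    (hP : A' * B' * C' = s ^ 3 * (A * B * C)) :
    (A' = s * A ∧ B' = s * B) ∨ (A' = s * A ∧ B' = s * C) ∨ (A' = s * B ∧ B' = s * A) ∨
      (A' = s * B ∧ B' = s * C) ∨ (A' = s * C ∧ B' = s * A) ∨ (A' = s * C ∧ B' = s * B) := by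
  have hC : C = -A - B := by linear_combination hs
  have hC' : C' = -A' - B' := by linear_combination hs'
  have h0 : (A' - s * A) * ((A' - s * B) * (A' - s * C)) = 0 := by
    rw [hC] at hP ⊢
    rw [hC'] at hP
    linear_combination A' * hI + hP
  rcases mul_eq_zero.mp h0 with h1 | h1
  · have hA : A' = s * A := by linear_combination h1
    rcases perm_sub hs hs' hn' hP hA with h2 | h2
    · exact Or.inl ⟨hA, h2.1⟩
    · exact Or.inr (Or.inl ⟨hA, h2.1⟩)
  rcases mul_eq_zero.mp h1 with h1 | h1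
  · have hA : A' = s * B := by linear_combination h1
    rcases perm_sub (A := B) (B := A) (C := C) (by linear_combination hs) hs' hn'
      (by rw [hP]; ring) hA with h2 | h2
    · exact Or.inr (Or.inr (Or.inl ⟨hA, h2.1⟩))
    · exact Or.inr (Or.inr (Or.inr (Or.inl ⟨hA, h2.1⟩)))
  · have hA : A' = s * C := by linear_combination h1
    rcases perm_sub (A := C) (B := A) (C := B) (by linear_combination hs) hs' hn'
      (by rw [hP]; ring) hA with h2 | h2
    · exact Or.inr (Or.inr (Or.inr (Or.inr (Or.inl ⟨hA, h2.1⟩))))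
    · exact Or.inr (Or.inr (Or.inr (Or.inr (Or.inr ⟨hA, h2.1⟩))))

end Groth.Agent.Helper18Quartic
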