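import Groth.Agent.Lib.Helper18Quartic1

set_option autoImplicit false
universe u

namespace Groth.Agent.Helper18Quartic
open W4c6intromoduli

variable {k : Type u} [Field k]

theorem moebius (la mu la' mu' : Fin 4 → k)
    (h01 : dd la mu 0 1 ≠ 0) (h02 : dd la mu 0 2 ≠ 0) (h12 : dd la mu 1 2 ≠ 0)
    (h13 : dd la mu 1 3 ≠ 0)
    (h01' : dd la' mu' 0 1 ≠ 0) (h02' : dd la' mu' 0 2 ≠ 0) (h12' : dd la' mu' 1 2 ≠ 0)
    (h13' : dd la' mu' 1 3 ≠ 0)
    (hcr : qA la mu * qB la' mu' = qB la mu * qA la' mu') :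
    ∃ (N : Matrix (Fin 2) (Fin 2) k) (c : Fin 4 → k), IsUnit N.det ∧ (∀ i, c i ≠ 0) ∧
      ∀ i, c i * la' i = N 0 0 * la i + N 0 1 * mu i ∧
        c i * mu' i = N 1 0 * la i + N 1 1 * mu i := by
  set α := dd la' mu' 1 2 * dd la mu 0 2 with hα
  set β := dd la' mu' 0 2 * dd la mu 1 2 with hβ
  have hcr' : dd la mu 0 2 * dd la mu 1 3 * (dd la' mu' 0 3 * dd la' mu' 1 2)
      = dd la mu 0 3 * dd la mu 1 2 * (dd la' mu' 0 2 * dd la' mu' 1 3) := by
    have e1 := qABC la mu
    have e2 := qABC la' mu'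
    have h1 : -(qB la mu) * qC la' mu' = qC la mu * (-(qB la' mu')) := by
      linear_combination -hcr - qB la mu * e2 + qB la' mu' * e1
    unfold qB qC dd at h1
    unfold dd
    linear_combination h1
  refine ⟨!![α * la' 0 * mu 1 - β * la' 1 * mu 0, -(α * la' 0 * la 1) + β * la' 1 * la 0;
      α * mu' 0 * mu 1 - β * mu' 1 * mu 0, -(α * mu' 0 * la 1) + β * mu' 1 * la 0],
    ![α * dd la mu 1 0, β * dd la mu 1 0, dd la mu 1 2 * dd la mu 0 2 * dd la' mu' 1 0,
      dd la' mu' 1 2 * dd la mu 0 2 * dd la mu 1 3 * dd la' mu' 1 0 / dd la' mu' 1 3], ?_, ?_, ?_⟩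
  · rw [Matrix.det_fin_two_of]
    have : (α * la' 0 * mu 1 - β * la' 1 * mu 0) * (-(α * mu' 0 * la 1) + β * mu' 1 * la 0) -
        (-(α * la' 0 * la 1) + β * la' 1 * la 0) * (α * mu' 0 * mu 1 - β * mu' 1 * mu 0)
        = α * β * dd la' mu' 0 1 * dd la mu 0 1 := by
      unfold dd; ring
    rw [this]
    exact (mul_ne_zero (mul_ne_zero (mul_ne_zero (mul_ne_zero h12' h02) (mul_ne_zero h02' h12))
      h01') h01).isUnit
  · have h10 : dd la mu 1 0 ≠ 0 := by rw [dd_swap]; exact neg_ne_zero.mpr h01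
    have h10' : dd la' mu' 1 0 ≠ 0 := by rw [dd_swap]; exact neg_ne_zero.mpr h01'
    intro i
    fin_cases i
    · exact mul_ne_zero (mul_ne_zero h12' h02) h10
    · exact mul_ne_zero (mul_ne_zero h02' h12) h10
    · exact mul_ne_zero (mul_ne_zero h12 h02) h10'
    · exact div_ne_zero (mul_ne_zero (mul_ne_zero (mul_ne_zero h12' h02) h13) h10') h13'
  · intro i
    fin_cases i
    · simp only [Fin.zero_eta, Fin.isValue, Matrix.cons_val_zero, Matrix.of_apply,
        Matrix.cons_val', Matrix.cons_val_one, Matrix.cons_val_fin_one]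
      constructor <;> (unfold dd; ring)
    · simp only [Fin.mk_one, Fin.isValue, Matrix.cons_val_one, Matrix.cons_val_zero, Matrix.of_apply,
        Matrix.cons_val', Matrix.cons_val_fin_one]
      constructor <;> (unfold dd; ring)
    · simp only [Fin.reduceFinMk, Fin.isValue, Matrix.cons_val, Matrix.cons_val_zero, Matrix.of_apply,
        Matrix.cons_val', Matrix.cons_val_one, Matrix.cons_val_fin_one]
      constructor <;> (rw [hα, hβ]; unfold dd; ring)
    · simp only [Fin.reduceFinMk, Fin.isValue, Matrix.cons_val, Matrix.cons_val_zero, Matrix.of_apply,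
        Matrix.cons_val', Matrix.cons_val_one, Matrix.cons_val_fin_one]
      constructor
      · rw [div_mul_eq_mul_div, div_eq_iff h13', hα, hβ]
        unfold dd at hcr' ⊢
        linear_combination (-(la' 1)) * hcr'
      · rw [div_mul_eq_mul_div, div_eq_iff h13', hα, hβ]
        unfold dd at hcr' ⊢
        linear_combination (-(mu' 1)) * hcr'

end Groth.Agent.Helper18Quartic
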