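import Groth.Agent.Lib.Helper18Quartic1

set_option autoImplicit false
universe u

namespace Groth.Agent.Helper18Quartic
open W4c6intromoduli

variable {k : Type u} [Field k]

theorem binForm_of_rel (la mu la' mu' : Fin 4 → k) (N : Matrix (Fin 2) (Fin 2) k) (c : Fin 4 → k)
    (hN : IsUnit N.det) (hc : ∀ i, c i ≠ 0)
    (h : ∀ i, c i * la' i = N 0 0 * la i + N 0 1 * mu i ∧
      c i * mu' i = N 1 0 * la i + N 1 1 * mu i) :
    ∃ (M : Matrix (Fin 2) (Fin 2) k) (cc : k), IsUnit M.det ∧ cc ≠ 0 ∧
      binForm la' mu' = MvPolynomial.C cc * subst M (binForm la mu) := by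
  have hcp : (∏ i, c i) ≠ 0 := Finset.prod_ne_zero_iff.mpr fun i _ => hc i
  refine ⟨!![N 1 1, -N 0 1; -N 1 0, N 0 0], (∏ i, c i)⁻¹, ?_, inv_ne_zero hcp, ?_⟩
  · rw [Matrix.det_fin_two_of]
    rw [Matrix.det_fin_two] at hN
    convert hN using 1
    ring
  · have key : subst !![N 1 1, -N 0 1; -N 1 0, N 0 0] (binForm la mu)
        = MvPolynomial.C (∏ i, c i) * binForm la' mu' := by
      unfold binForm
      rw [map_prod, map_prod, ← Finset.prod_mul_distrib]
      refine Finset.prod_congr rfl fun i _ => ?_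
      have e : MvPolynomial.C (c i) * (MvPolynomial.C (mu' i) * MvPolynomial.X 0
          - MvPolynomial.C (la' i) * MvPolynomial.X 1)
          = MvPolynomial.C (c i * mu' i) * MvPolynomial.X 0
            - MvPolynomial.C (c i * la' i) * (MvPolynomial.X 1 : MvPolynomial (Fin 2) k) := by
        simp only [map_mul]; ring
      rw [e, (h i).1, (h i).2]
      simp only [subst, map_sub, map_mul, map_add, map_neg, MvPolynomial.aeval_C,
        MvPolynomial.aeval_X, Fin.sum_univ_two, Matrix.of_apply, Matrix.cons_val_zero,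
        Matrix.cons_val_one, Matrix.cons_val', Matrix.cons_val_fin_one,
        MvPolynomial.algebraMap_eq]
      ring
    rw [key, ← mul_assoc, ← map_mul, inv_mul_cancel₀ hcp, map_one, one_mul]

theorem binForm_comp (la mu : Fin 4 → k) (σ : Equiv.Perm (Fin 4)) :
    binForm (la ∘ σ) (mu ∘ σ) = binForm la mu := by
  unfold binForm
  exact Fintype.prod_equiv σ _ _ (fun i => rfl)

end Groth.Agent.Helper18Quartic
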