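import Groth.Agent.Lib.Helper18Quartic2
import Groth.Agent.Lib.Helper18Quartic3
import Groth.Agent.Lib.Helper18Quartic4

set_option autoImplicit false
set_option linter.unusedSimpArgs false
universe u

namespace Groth.Agent.Helper18Quartic
open W4c6intromoduli

variable {k : Type u} [Field k]

theorem main_of_perm (la mu la' mu' : Fin 4 → k)
    (hd : ∀ i j, i ≠ j → dd la mu i j ≠ 0) (hd' : ∀ i j, i ≠ j → dd la' mu' i j ≠ 0)
    (σ : Equiv.Perm (Fin 4))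
    (hcr : qA (la ∘ σ) (mu ∘ σ) * qB la' mu' = qB (la ∘ σ) (mu ∘ σ) * qA la' mu') :
    ∃ (M : Matrix (Fin 2) (Fin 2) k) (c : k), IsUnit M.det ∧ c ≠ 0 ∧
      binForm la' mu' = MvPolynomial.C c * subst M (binForm la mu) := by
  have hdσ : ∀ i j, i ≠ j → dd (la ∘ σ) (mu ∘ σ) i j ≠ 0 := by
    intro i j hij
    exact hd (σ i) (σ j) (fun h => hij (σ.injective h))
  obtain ⟨N, c, hN, hc, h⟩ := moebius (la ∘ σ) (mu ∘ σ) la' mu'
    (hdσ 0 1 (by decide)) (hdσ 0 2 (by decide)) (hdσ 1 2 (by decide)) (hdσ 1 3 (by decide))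
    (hd' 0 1 (by decide)) (hd' 0 2 (by decide)) (hd' 1 2 (by decide)) (hd' 1 3 (by decide)) hcr
  obtain ⟨M, cc, hM, hcc, hb⟩ := binForm_of_rel (la ∘ σ) (mu ∘ σ) la' mu' N c hN hc h
  rw [binForm_comp] at hb
  exact ⟨M, cc, hM, hcc, hb⟩

theorem qA_comp (la mu : Fin 4 → k) (σ : Equiv.Perm (Fin 4)) :
    qA (la ∘ σ) (mu ∘ σ) = dd la mu (σ 0) (σ 1) * dd la mu (σ 2) (σ 3) := rfl

theorem qB_comp (la mu : Fin 4 → k) (σ : Equiv.Perm (Fin 4)) :
    qB (la ∘ σ) (mu ∘ σ) = dd la mu (σ 0) (σ 2) * dd la mu (σ 3) (σ 1) := rfl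

theorem main (h3 : (3 : k) ≠ 0) (la mu la' mu' : Fin 4 → k)
    (hd : disc la mu ≠ 0) (hd' : disc la' mu' ≠ 0)
    (h : invI (coef la mu) ^ 3 * invJ (coef la' mu') ^ 2 =
        invI (coef la' mu') ^ 3 * invJ (coef la mu) ^ 2) :
    ∃ (M : Matrix (Fin 2) (Fin 2) k) (c : k), IsUnit M.det ∧ c ≠ 0 ∧
      binForm la' mu' = MvPolynomial.C c * subst M (binForm la mu) := by
  have hdd := dd_ne_zero la mu hd
  have hdd' := dd_ne_zero la' mu' hd'
  have e1 := S19391.result k la mu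
  have e2 := S19391.result k la' mu'
  have hn : qA la mu * qB la mu * qC la mu ≠ 0 := by
    intro h0; apply hd; rw [disc_eq, h0]; ring
  have hn' : qA la' mu' * qB la' mu' * qC la' mu' ≠ 0 := by
    intro h0; apply hd'; rw [disc_eq, h0]; ring
  have key : invI (coef la mu) ^ 3 * disc la' mu' = invI (coef la' mu') ^ 3 * disc la mu := by
    have h27 : (27 : k) ≠ 0 := by
      have : (27 : k) = 3 ^ 3 := by norm_num
      rw [this]; exact pow_ne_zero _ h3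
    apply mul_left_cancel₀ h27
    linear_combination invI (coef la mu) ^ 3 * e2 - invI (coef la' mu') ^ 3 * e1 - h
  rw [disc_eq, disc_eq, invI_eq, invI_eq] at key
  obtain ⟨s, hs0, hsI, hsP⟩ := exists_scale (qABC la mu) (qABC la' mu') hn hn' key
  have hdis := hdd
  rcases perm_cases (qABC la mu) (qABC la' mu') hn' hsI hsP with
    ⟨hA, hB⟩ | ⟨hA, hB⟩ | ⟨hA, hB⟩ | ⟨hA, hB⟩ | ⟨hA, hB⟩ | ⟨hA, hB⟩
  · -- (A, B): identity
    refine main_of_perm la mu la' mu' hdd hdd' 1 ?_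
    rw [qA_comp, qB_comp]
    simp only [Equiv.Perm.coe_one, id_eq]
    rw [hA, hB]; simp only [qA, qB, qC, dd]; ring
  · -- (A, C): swap 2 3
    refine main_of_perm la mu la' mu' hdd hdd' (Equiv.swap 2 3) ?_
    rw [qA_comp, qB_comp]
    rw [show (Equiv.swap (2 : Fin 4) 3) 0 = 0 by decide, show (Equiv.swap (2 : Fin 4) 3) 1 = 1 by decide,
      show (Equiv.swap (2 : Fin 4) 3) 2 = 3 by decide, show (Equiv.swap (2 : Fin 4) 3) 3 = 2 by decide]
    rw [hA, hB]; simp only [qA, qB, qC, dd]; ring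
  · -- (B, A): swap 1 2
    refine main_of_perm la mu la' mu' hdd hdd' (Equiv.swap 1 2) ?_
    rw [qA_comp, qB_comp]
    rw [show (Equiv.swap (1 : Fin 4) 2) 0 = 0 by decide, show (Equiv.swap (1 : Fin 4) 2) 1 = 2 by decide,
      show (Equiv.swap (1 : Fin 4) 2) 2 = 1 by decide, show (Equiv.swap (1 : Fin 4) 2) 3 = 3 by decide]
    rw [hA, hB]; simp only [qA, qB, qC, dd]; ring
  · -- (B, C): 1→2→3→1
    refine main_of_perm la mu la' mu' hdd hdd' (Equiv.swap 1 2 * Equiv.swap 2 3) ?_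
    rw [qA_comp, qB_comp]
    rw [show (Equiv.swap (1 : Fin 4) 2 * Equiv.swap 2 3 : Equiv.Perm (Fin 4)) 0 = 0 by decide,
      show (Equiv.swap (1 : Fin 4) 2 * Equiv.swap 2 3 : Equiv.Perm (Fin 4)) 1 = 2 by decide,
      show (Equiv.swap (1 : Fin 4) 2 * Equiv.swap 2 3 : Equiv.Perm (Fin 4)) 2 = 3 by decide,
      show (Equiv.swap (1 : Fin 4) 2 * Equiv.swap 2 3 : Equiv.Perm (Fin 4)) 3 = 1 by decide]
    rw [hA, hB]; simp only [qA, qB, qC, dd]; ring
  · -- (C, A): 1→3→2→1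
    refine main_of_perm la mu la' mu' hdd hdd' (Equiv.swap 2 3 * Equiv.swap 1 2) ?_
    rw [qA_comp, qB_comp]
    rw [show (Equiv.swap (2 : Fin 4) 3 * Equiv.swap 1 2 : Equiv.Perm (Fin 4)) 0 = 0 by decide,
      show (Equiv.swap (2 : Fin 4) 3 * Equiv.swap 1 2 : Equiv.Perm (Fin 4)) 1 = 3 by decide,
      show (Equiv.swap (2 : Fin 4) 3 * Equiv.swap 1 2 : Equiv.Perm (Fin 4)) 2 = 1 by decide,
      show (Equiv.swap (2 : Fin 4) 3 * Equiv.swap 1 2 : Equiv.Perm (Fin 4)) 3 = 2 by decide]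
    rw [hA, hB]; simp only [qA, qB, qC, dd]; ring
  · -- (C, B): swap 1 3
    refine main_of_perm la mu la' mu' hdd hdd' (Equiv.swap 1 3) ?_
    rw [qA_comp, qB_comp]
    rw [show (Equiv.swap (1 : Fin 4) 3) 0 = 0 by decide, show (Equiv.swap (1 : Fin 4) 3) 1 = 3 by decide,
      show (Equiv.swap (1 : Fin 4) 3) 2 = 2 by decide, show (Equiv.swap (1 : Fin 4) 3) 3 = 1 by decide]
    rw [hA, hB]; simp only [qA, qB, qC, dd]; ring

end Groth.Agent.Helper18Quartic
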