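import Mathlib
import Groth.Agent.Lib.Helper18Quartic4

set_option autoImplicit false
set_option linter.unusedSimpArgs false
universe u

namespace Groth.Agent.Helper18Quartic
open W4c6intromoduli

variable {k : Type u} [Field k]

theorem prop_of_dd_zero (l0 m0 l1 m1 : k) (h0 : l0 ≠ 0 ∨ m0 ≠ 0) (h1 : l1 ≠ 0 ∨ m1 ≠ 0)
    (h : l1 * m0 - l0 * m1 = 0) : ∃ t : k, t ≠ 0 ∧ l1 = t * l0 ∧ m1 = t * m0 := by
  rcases h0 with h0 | h0
  · refine ⟨l1 / l0, ?_, ?_, ?_⟩
    · intro ht
      have hl1 : l1 = 0 := by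
        rcases div_eq_zero_iff.mp ht with h2 | h2
        · exact h2
        · exact absurd h2 h0
      rw [hl1] at h
      have : m1 = 0 := by
        have : l0 * m1 = 0 := by linear_combination -h
        exact (mul_eq_zero.mp this).resolve_left h0
      rcases h1 with h1 | h1
      · exact h1 hl1
      · exact h1 this
    · field_simp
    · field_simp; linear_combination -h
  · refine ⟨m1 / m0, ?_, ?_, ?_⟩
    · intro ht
      have hm1 : m1 = 0 := by
        rcases div_eq_zero_iff.mp ht with h2 | h2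
        · exact h2
        · exact absurd h2 h0
      rw [hm1] at h
      have : l1 = 0 := by
        have : l1 * m0 = 0 := by linear_combination h
        exact (mul_eq_zero.mp this).resolve_right h0
      rcases h1 with h1 | h1
      · exact h1 this
      · exact h1 hm1
    · field_simp; linear_combination h
    · field_simp

theorem normalA (la mu : Fin 4 → k) (hne : ∀ i, la i ≠ 0 ∨ mu i ≠ 0)
    (h01 : dd la mu 0 1 = 0) (h02 : dd la mu 0 2 ≠ 0) (h03 : dd la mu 0 3 ≠ 0)
    (h23 : dd la mu 2 3 ≠ 0) :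
    ∃ (M : Matrix (Fin 2) (Fin 2) k) (c : k), IsUnit M.det ∧ c ≠ 0 ∧
      binForm la mu = MvPolynomial.C c * subst M
        (MvPolynomial.X 0 ^ 2 * MvPolynomial.X 1 * (MvPolynomial.X 0 - MvPolynomial.X 1)) := by
  obtain ⟨t, ht, hl, hm⟩ := prop_of_dd_zero (la 0) (mu 0) (la 1) (mu 1) (hne 0) (hne 1) h01
  have h32 : dd la mu 3 2 ≠ 0 := by rw [dd_swap]; exact neg_ne_zero.mpr h23
  obtain ⟨M, cc, hM, hcc, hb⟩ := binForm_of_rel ![0, 0, 1, 1] ![1, 1, 0, 1] la mu
    !![dd la mu 0 3 * la 2, dd la mu 3 2 * la 0; dd la mu 0 3 * mu 2, dd la mu 3 2 * mu 0]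
    ![dd la mu 3 2, dd la mu 3 2 / t, dd la mu 0 3, dd la mu 0 2]
    (by
      rw [Matrix.det_fin_two_of]
      have : dd la mu 0 3 * la 2 * (dd la mu 3 2 * mu 0) - dd la mu 3 2 * la 0 * (dd la mu 0 3 * mu 2)
          = dd la mu 0 3 * dd la mu 3 2 * dd la mu 0 2 := by unfold dd; ring
      rw [this]
      exact (mul_ne_zero (mul_ne_zero h03 h32) h02).isUnit)
    (by
      intro i
      fin_cases i
      · exact h32
      · exact div_ne_zero h32 ht
      · exact h03
      · exact h02)
    (by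
      intro i
      fin_cases i
      · simp
      · simp only [Fin.mk_one, Fin.isValue, Matrix.cons_val_one, Matrix.cons_val_zero,
          Matrix.of_apply, Matrix.cons_val', Matrix.cons_val_fin_one]
        rw [hl, hm]
        constructor <;> field_simp <;> ring
      · simp
      · simp only [Fin.reduceFinMk, Fin.isValue, Matrix.cons_val, Matrix.cons_val_zero,
          Matrix.of_apply, Matrix.cons_val', Matrix.cons_val_one, Matrix.cons_val_fin_one]
        constructor <;> (unfold dd; ring))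
  refine ⟨M, -cc, hM, neg_ne_zero.mpr hcc, ?_⟩
  rw [hb]
  have : binForm (![0, 0, 1, 1] : Fin 4 → k) ![1, 1, 0, 1]
      = -(MvPolynomial.X 0 ^ 2 * MvPolynomial.X 1 * (MvPolynomial.X 0 - MvPolynomial.X 1)) := by
    simp only [binForm, Fin.prod_univ_four, Matrix.cons_val_zero, Matrix.cons_val_one,
      Matrix.cons_val, map_zero, map_one, zero_mul, one_mul, sub_zero, zero_sub]
    ring
  rw [this, map_neg, map_neg]
  ring

theorem normalB (la mu : Fin 4 → k) (hne : ∀ i, la i ≠ 0 ∨ mu i ≠ 0)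
    (h01 : dd la mu 0 1 = 0) (h23 : dd la mu 2 3 = 0) (h02 : dd la mu 0 2 ≠ 0) :
    ∃ (M : Matrix (Fin 2) (Fin 2) k) (c : k), IsUnit M.det ∧ c ≠ 0 ∧
      binForm la mu = MvPolynomial.C c * subst M
        (MvPolynomial.X 0 ^ 2 * MvPolynomial.X 1 ^ 2) := by
  obtain ⟨t, ht, hl, hm⟩ := prop_of_dd_zero (la 0) (mu 0) (la 1) (mu 1) (hne 0) (hne 1) h01
  obtain ⟨t', ht', hl', hm'⟩ := prop_of_dd_zero (la 2) (mu 2) (la 3) (mu 3) (hne 2) (hne 3) h23
  obtain ⟨M, cc, hM, hcc, hb⟩ := binForm_of_rel ![0, 0, 1, 1] ![1, 1, 0, 0] la mu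
    !![la 2, la 0; mu 2, mu 0]
    ![1, 1 / t, 1, 1 / t']
    (by
      rw [Matrix.det_fin_two_of]
      have : la 2 * mu 0 - la 0 * mu 2 = dd la mu 0 2 := by unfold dd; ring
      rw [this]
      exact h02.isUnit)
    (by
      intro i
      fin_cases i
      · exact one_ne_zero
      · exact div_ne_zero one_ne_zero ht
      · exact one_ne_zero
      · exact div_ne_zero one_ne_zero ht')
    (by
      intro i
      fin_cases i
      · simp
      · simp only [Fin.mk_one, Fin.isValue, Matrix.cons_val_one, Matrix.cons_val_zero,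
          Matrix.of_apply, Matrix.cons_val', Matrix.cons_val_fin_one]
        rw [hl, hm]
        constructor <;> field_simp <;> ring
      · simp
      · simp only [Fin.reduceFinMk, Fin.isValue, Matrix.cons_val, Matrix.cons_val_zero,
          Matrix.of_apply, Matrix.cons_val', Matrix.cons_val_one, Matrix.cons_val_fin_one]
        rw [hl', hm']
        constructor <;> field_simp <;> ring)
  refine ⟨M, cc, hM, hcc, ?_⟩
  rw [hb]
  have : binForm (![0, 0, 1, 1] : Fin 4 → k) ![1, 1, 0, 0]
      = (MvPolynomial.X 0 ^ 2 * MvPolynomial.X 1 ^ 2) := by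
    simp [binForm, Fin.prod_univ_four]
    ring
  rw [this]

end Groth.Agent.Helper18Quartic
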