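import Mathlib
import Groth.Agent.Lib.Helper18Quartic6

set_option autoImplicit false
set_option linter.unusedSimpArgs false
universe u

namespace Groth.Agent.Helper18Quartic
open W4c6intromoduli

variable {k : Type u} [Field k]

theorem excl (M1 M2 : Matrix (Fin 2) (Fin 2) k) (c1 c2 : k)
    (h1 : IsUnit M1.det) (h2 : IsUnit M2.det) (hc2 : c2 ≠ 0)
    (h : MvPolynomial.C c1 * subst M1
        (MvPolynomial.X 0 ^ 2 * MvPolynomial.X 1 * (MvPolynomial.X 0 - MvPolynomial.X 1))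
      = MvPolynomial.C c2 * subst M2 (MvPolynomial.X 0 ^ 2 * MvPolynomial.X 1 ^ 2)) : False := by
  have hv : ∀ v : Fin 2 → k,
      c1 * ((M1 0 0 * v 0 + M1 0 1 * v 1) ^ 2 * (M1 1 0 * v 0 + M1 1 1 * v 1) *
        ((M1 0 0 * v 0 + M1 0 1 * v 1) - (M1 1 0 * v 0 + M1 1 1 * v 1)))
      = c2 * ((M2 0 0 * v 0 + M2 0 1 * v 1) ^ 2 * (M2 1 0 * v 0 + M2 1 1 * v 1) ^ 2) := by
    intro v
    have := congrArg (MvPolynomial.eval v) h
    simpa [subst, Fin.sum_univ_two] using this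
  rw [Matrix.det_fin_two] at h1 h2
  have hd1 := h1.ne_zero
  have hd2 := h2.ne_zero
  -- three points
  have e1 := hv ![-M1 0 1, M1 0 0]
  have e2 := hv ![M1 1 1, -M1 1 0]
  have e3 := hv ![-M1 0 1 + M1 1 1, M1 0 0 - M1 1 0]
  simp only [Matrix.cons_val_zero, Matrix.cons_val_one, Matrix.cons_val_fin_one] at e1 e2 e3
  set p1 := M2 0 0 * -M1 0 1 + M2 0 1 * M1 0 0 with hp1
  set q1 := M2 1 0 * -M1 0 1 + M2 1 1 * M1 0 0 with hq1
  set p2 := M2 0 0 * M1 1 1 + M2 0 1 * -M1 1 0 with hp2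
  set q2 := M2 1 0 * M1 1 1 + M2 1 1 * -M1 1 0 with hq2
  have z1 : p1 * q1 = 0 := by
    have : c2 * (p1 ^ 2 * q1 ^ 2) = 0 := by rw [← e1]; ring
    have := (mul_eq_zero.mp this).resolve_left hc2
    have : (p1 * q1) ^ 2 = 0 := by rw [← this]; ring
    exact pow_eq_zero_iff (by norm_num) |>.mp this
  have z2 : p2 * q2 = 0 := by
    have : c2 * (p2 ^ 2 * q2 ^ 2) = 0 := by rw [← e2]; ring
    have := (mul_eq_zero.mp this).resolve_left hc2
    have : (p2 * q2) ^ 2 = 0 := by rw [← this]; ring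
    exact pow_eq_zero_iff (by norm_num) |>.mp this
  have z3 : (p1 + p2) * (q1 + q2) = 0 := by
    have : c2 * ((p1 + p2) ^ 2 * (q1 + q2) ^ 2) = 0 := by
      have e3' : c2 * ((p1 + p2) ^ 2 * (q1 + q2) ^ 2) =
          c2 * ((M2 0 0 * (-M1 0 1 + M1 1 1) + M2 0 1 * (M1 0 0 - M1 1 0)) ^ 2 *
            (M2 1 0 * (-M1 0 1 + M1 1 1) + M2 1 1 * (M1 0 0 - M1 1 0)) ^ 2) := by
        rw [hp1, hp2, hq1, hq2]; ring
      rw [e3', ← e3]; ring
    have := (mul_eq_zero.mp this).resolve_left hc2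
    have : ((p1 + p2) * (q1 + q2)) ^ 2 = 0 := by rw [← this]; ring
    exact pow_eq_zero_iff (by norm_num) |>.mp this
  have hdet : p1 * q2 - p2 * q1 ≠ 0 := by
    have : p1 * q2 - p2 * q1
        = -((M1 0 0 * M1 1 1 - M1 0 1 * M1 1 0) * (M2 0 0 * M2 1 1 - M2 0 1 * M2 1 0)) := by
      rw [hp1, hp2, hq1, hq2]; ring
    rw [this]
    exact neg_ne_zero.mpr (mul_ne_zero hd1 hd2)
  have hsum : p1 * q2 + p2 * q1 = 0 := by linear_combination z3 - z1 - z2
  have hp1q2 : p1 * q2 ≠ 0 := by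
    intro h0
    apply hdet
    have : p2 * q1 = 0 := by linear_combination hsum - h0
    rw [h0, this]; ring
  have hp1' : p1 ≠ 0 := left_ne_zero_of_mul hp1q2
  have hq2' : q2 ≠ 0 := right_ne_zero_of_mul hp1q2
  have hq1' : q1 = 0 := (mul_eq_zero.mp z1).resolve_left hp1'
  have hp2' : p2 = 0 := (mul_eq_zero.mp z2).resolve_right hq2'
  apply hp1q2
  have : p2 * q1 = 0 := by rw [hp2']; ring
  linear_combination hsum - this

end Groth.Agent.Helper18Quartic
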