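import Mathlib
import Groth.Agent.Lib.Helper18Quartic7

set_option autoImplicit false
set_option linter.unusedSimpArgs false
universe u

namespace Groth.Agent.Helper18Quartic
open W4c6intromoduli

variable {k : Type u} [Field k]

theorem exists_perm : ∀ i j : Fin 4, i ≠ j → ∃ σ : Equiv.Perm (Fin 4), σ 0 = i ∧ σ 1 = j := by
  intro i j hij
  refine ⟨Equiv.swap 0 i * Equiv.swap 1 (Equiv.swap 0 i j), ?_, ?_⟩
  · have h1 : Equiv.swap 0 i j ≠ 0 := by
      intro h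
      have : j = Equiv.swap 0 i 0 := by
        have h' := congrArg (Equiv.swap 0 i) h
        rwa [Equiv.swap_apply_self] at h'
      rw [Equiv.swap_apply_left] at this
      exact hij this.symm
    rw [Equiv.Perm.mul_apply, Equiv.swap_apply_of_ne_of_ne (by decide) (Ne.symm h1),
      Equiv.swap_apply_left]
  · rw [Equiv.Perm.mul_apply, Equiv.swap_apply_left, Equiv.swap_apply_self]

theorem exists_dd_zero (la mu : Fin 4 → k) (hd : disc la mu = 0) :
    ∃ i j : Fin 4, i ≠ j ∧ dd la mu i j = 0 := by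
  unfold disc at hd
  rw [Finset.prod_eq_zero_iff] at hd
  obtain ⟨p, hp, h0⟩ := hd
  simp only [Finset.mem_filter, Finset.mem_univ, true_and] at hp
  exact ⟨p.1, p.2, ne_of_lt hp, by simpa [dd] using h0⟩

theorem normal_exists (la mu : Fin 4 → k)
    (hne : ∀ i, la i ≠ 0 ∨ mu i ≠ 0) (hd : disc la mu = 0)
    (h3z : ∀ i j l : Fin 4, i ≠ j → j ≠ l → i ≠ l →
      ¬ (la i * mu j = la j * mu i ∧ la j * mu l = la l * mu j)) :
    (∃ (M : Matrix (Fin 2) (Fin 2) k) (c : k), IsUnit M.det ∧ c ≠ 0 ∧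
        binForm la mu = MvPolynomial.C c * subst M
            (MvPolynomial.X 0 ^ 2 * MvPolynomial.X 1 * (MvPolynomial.X 0 - MvPolynomial.X 1))) ∨
      (∃ (M : Matrix (Fin 2) (Fin 2) k) (c : k), IsUnit M.det ∧ c ≠ 0 ∧
        binForm la mu = MvPolynomial.C c * subst M
            (MvPolynomial.X 0 ^ 2 * MvPolynomial.X 1 ^ 2)) := by
  obtain ⟨i, j, hij, h0⟩ := exists_dd_zero la mu hd
  obtain ⟨σ, rfl, rfl⟩ := exists_perm i j hij
  have hinj : ∀ a b : Fin 4, a ≠ b → σ a ≠ σ b := fun a b hab h => hab (σ.injective h)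
  -- no triple
  have key : ∀ a b c : Fin 4, a ≠ b → b ≠ c → a ≠ c → dd la mu a b = 0 → dd la mu b c ≠ 0 := by
    intro a b c hab hbc hac h1 h2
    refine h3z a b c hab hbc hac ⟨?_, ?_⟩
    · unfold dd at h1; linear_combination -h1
    · unfold dd at h2; linear_combination -h2
  have h10 : dd la mu (σ 1) (σ 0) = 0 := by rw [dd_swap, h0, neg_zero]
  have h02 : dd la mu (σ 0) (σ 2) ≠ 0 :=
    key (σ 1) (σ 0) (σ 2) (hinj _ _ (by decide)) (hinj _ _ (by decide)) (hinj _ _ (by decide)) h10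
  have h03 : dd la mu (σ 0) (σ 3) ≠ 0 :=
    key (σ 1) (σ 0) (σ 3) (hinj _ _ (by decide)) (hinj _ _ (by decide)) (hinj _ _ (by decide)) h10
  have hneσ : ∀ i, (la ∘ σ) i ≠ 0 ∨ (mu ∘ σ) i ≠ 0 := fun i => hne (σ i)
  by_cases h23 : dd la mu (σ 2) (σ 3) = 0
  · right
    obtain ⟨M, c, hM, hc, hb⟩ := normalB (la ∘ σ) (mu ∘ σ) hneσ h0 h23 h02
    rw [binForm_comp] at hb
    exact ⟨M, c, hM, hc, hb⟩
  · left
    obtain ⟨M, c, hM, hc, hb⟩ := normalA (la ∘ σ) (mu ∘ σ) hneσ h0 h02 h03 h23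
    rw [binForm_comp] at hb
    exact ⟨M, c, hM, hc, hb⟩

theorem main_xor (la mu : Fin 4 → k)
    (hne : ∀ i, la i ≠ 0 ∨ mu i ≠ 0) (hd : disc la mu = 0)
    (h3z : ∀ i j l : Fin 4, i ≠ j → j ≠ l → i ≠ l →
      ¬ (la i * mu j = la j * mu i ∧ la j * mu l = la l * mu j)) :
    Xor
      (∃ (M : Matrix (Fin 2) (Fin 2) k) (c : k), IsUnit M.det ∧ c ≠ 0 ∧
        binForm la mu = MvPolynomial.C c * subst M
            (MvPolynomial.X 0 ^ 2 * MvPolynomial.X 1 * (MvPolynomial.X 0 - MvPolynomial.X 1)))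
      (∃ (M : Matrix (Fin 2) (Fin 2) k) (c : k), IsUnit M.det ∧ c ≠ 0 ∧
        binForm la mu = MvPolynomial.C c * subst M
            (MvPolynomial.X 0 ^ 2 * MvPolynomial.X 1 ^ 2)) := by
  have hex : ¬ ((∃ (M : Matrix (Fin 2) (Fin 2) k) (c : k), IsUnit M.det ∧ c ≠ 0 ∧
        binForm la mu = MvPolynomial.C c * subst M
            (MvPolynomial.X 0 ^ 2 * MvPolynomial.X 1 * (MvPolynomial.X 0 - MvPolynomial.X 1))) ∧
      (∃ (M : Matrix (Fin 2) (Fin 2) k) (c : k), IsUnit M.det ∧ c ≠ 0 ∧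
        binForm la mu = MvPolynomial.C c * subst M
            (MvPolynomial.X 0 ^ 2 * MvPolynomial.X 1 ^ 2))) := by
    rintro ⟨⟨M1, c1, hM1, -, hb1⟩, ⟨M2, c2, hM2, hc2, hb2⟩⟩
    exact excl M1 M2 c1 c2 hM1 hM2 hc2 (hb1.symm.trans hb2)
  rcases normal_exists la mu hne hd h3z with h | h
  · exact Or.inl ⟨h, fun h' => hex ⟨h, h'⟩⟩
  · exact Or.inr ⟨h, fun h' => hex ⟨h', h⟩⟩

end Groth.Agent.Helper18Quartic
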