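import Mathlib

set_option autoImplicit false
set_option linter.style.haveILetI false
universe u

namespace Groth.Agent.Lib.Helper18RelFP

open TensorProduct

/-- `M` (an `A`-module) is finitely presented over `P` acting through `φ : P →+* A`. -/
def RelFP {P A : Type*} [CommRing P] [CommRing A] (φ : P →+* A) (M : Type*) [AddCommGroup M]
    [Module A M] : Prop :=
  @Module.FinitePresentation P M _ _ (Module.compHom M φ)

section basic

variable {P A : Type*} [CommRing P] [CommRing A]

theorem relFP_iff_of_tower [Algebra P A] (M : Type*) [AddCommGroup M] [Module A M] [Module P M]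
    [IsScalarTower P A M] : RelFP (algebraMap P A) M ↔ Module.FinitePresentation P M := by
  have : (Module.compHom M (algebraMap P A) : Module P M) = ‹Module P M› := by
    refine Module.ext' _ _ ?_
    intro r m
    exact (algebraMap_smul A r m)
  unfold RelFP
  rw [this]

theorem RelFP.of_equiv {φ : P →+* A} {M N : Type*} [AddCommGroup M] [Module A M]
    [AddCommGroup N] [Module A N] (e : M ≃ₗ[A] N) (h : RelFP φ M) : RelFP φ N := by
  letI := φ.toAlgebra
  letI := Module.compHom M φ
  letI := Module.compHom N φ
  haveI : IsScalarTower P A M := ⟨fun p a m => by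
    change (φ p * a) • m = φ p • (a • m); rw [mul_smul]⟩
  haveI : IsScalarTower P A N := ⟨fun p a m => by
    change (φ p * a) • m = φ p • (a • m); rw [mul_smul]⟩
  have h' : Module.FinitePresentation P M := h
  exact Module.FinitePresentation.of_equiv (e.restrictScalars P)

/-- Changing the presenting ring along a surjection with finitely generated kernel. -/
theorem relFP_comp_iff {P' : Type*} [CommRing P'] (π : P' →+* P) (hπ : Function.Surjective π)
    (hker : (RingHom.ker π).FG) (φ : P →+* A) (M : Type*) [AddCommGroup M] [Module A M] :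
    RelFP (φ.comp π) M ↔ RelFP φ M := by
  letI := π.toAlgebra
  letI instP : Module P M := Module.compHom M φ
  letI instP' : Module P' M := Module.compHom M (φ.comp π)
  haveI : IsScalarTower P' P M := ⟨fun p q m => by
    change φ (π p * q) • m = φ (π p) • (φ q • m); rw [map_mul, mul_smul]⟩
  have hfpP : Module.FinitePresentation P' P := by
    refine Module.finitePresentation_of_surjective (Algebra.linearMap P' P) hπ ?_
    have : LinearMap.ker (Algebra.linearMap P' P) = (RingHom.ker π).restrictScalars P' := by
      ext x; simp [RingHom.mem_ker]; rfl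
    rw [this]; exact hker
  change Module.FinitePresentation P' M ↔ Module.FinitePresentation P M
  constructor
  · intro h
    -- base change along the surjection
    have hx : ∀ x : P ⊗[P'] M, ∃ m : M, x = 1 ⊗ₜ m := by
      intro x
      induction x using TensorProduct.induction_on with
      | zero => exact ⟨0, by simp⟩
      | tmul q m =>
        obtain ⟨p, rfl⟩ := hπ q
        refine ⟨p • m, ?_⟩
        have : π p = p • (1 : P) := by rw [Algebra.smul_def, mul_one]; rfl
        rw [this, TensorProduct.smul_tmul]
      | add x y hx hy =>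
        obtain ⟨a, rfl⟩ := hx; obtain ⟨b, rfl⟩ := hy
        exact ⟨a + b, by rw [TensorProduct.tmul_add]⟩
    let l : P ⊗[P'] M →ₗ[P] M := LinearMap.liftBaseChange P (LinearMap.id : M →ₗ[P'] M)
    refine Module.finitePresentation_of_surjective l ?_ ?_
    · intro m; exact ⟨1 ⊗ₜ m, by simp [l]⟩
    · have : LinearMap.ker l = ⊥ := by
        rw [LinearMap.ker_eq_bot']
        intro x hx0
        obtain ⟨m, rfl⟩ := hx x
        have : m = 0 := by simpa [l] using hx0
        rw [this, TensorProduct.tmul_zero]
      rw [this]; exact Submodule.fg_bot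
  · intro h
    exact Module.FinitePresentation.trans P' M P

end basic


section indep

variable {R A : Type*} [CommRing R] [CommRing A] [Algebra R A]

/-- compatible surjection between f.p. presenting algebras -/
theorem relFP_iff_of_algHom {P P' : Type*} [CommRing P] [CommRing P'] [Algebra R P] [Algebra R P']
    [Algebra.FinitePresentation R P] [Algebra.FinitePresentation R P']
    (φ : P →ₐ[R] A) (φ' : P' →ₐ[R] A) (π : P' →ₐ[R] P) (hπ : Function.Surjective π)
    (hcomp : φ.comp π = φ') (M : Type*) [AddCommGroup M] [Module A M] :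
    RelFP φ'.toRingHom M ↔ RelFP φ.toRingHom M := by
  have hker : (RingHom.ker π.toRingHom).FG := Algebra.FinitePresentation.ker_fG_of_surjective π hπ
  have h := relFP_comp_iff π.toRingHom hπ hker φ.toRingHom M
  have e : φ.toRingHom.comp π.toRingHom = φ'.toRingHom := by
    rw [← hcomp]; rfl
  rw [e] at h
  exact h

/-- Independence of the polynomial presentation (Stacks 05GZ). -/
theorem relFP_mvPolynomial_indep {σ τ : Type*} [Finite σ] [Finite τ]
    (α : MvPolynomial σ R →ₐ[R] A) (hα : Function.Surjective α)
    (β : MvPolynomial τ R →ₐ[R] A) (hβ : Function.Surjective β)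
    (M : Type*) [AddCommGroup M] [Module A M] :
    RelFP α.toRingHom M ↔ RelFP β.toRingHom M := by
  classical
  choose f hf using fun j : τ => hα (β (MvPolynomial.X j))
  choose g hg using fun i : σ => hβ (α (MvPolynomial.X i))
  let γ : MvPolynomial (σ ⊕ τ) R →ₐ[R] A :=
    MvPolynomial.aeval (Sum.elim (fun i => α (MvPolynomial.X i)) (fun j => β (MvPolynomial.X j)))
  let π₁ : MvPolynomial (σ ⊕ τ) R →ₐ[R] MvPolynomial σ R :=
    MvPolynomial.aeval (Sum.elim MvPolynomial.X f)
  let π₂ : MvPolynomial (σ ⊕ τ) R →ₐ[R] MvPolynomial τ R :=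
    MvPolynomial.aeval (Sum.elim g MvPolynomial.X)
  have hπ₁ : Function.Surjective π₁ := by
    intro p
    refine ⟨MvPolynomial.rename Sum.inl p, ?_⟩
    simp only [π₁, MvPolynomial.aeval_rename]
    have : (Sum.elim MvPolynomial.X f ∘ Sum.inl : σ → MvPolynomial σ R) = MvPolynomial.X := by
      ext i; rfl
    rw [this, MvPolynomial.aeval_X_left, AlgHom.id_apply]
  have hπ₂ : Function.Surjective π₂ := by
    intro p
    refine ⟨MvPolynomial.rename Sum.inr p, ?_⟩
    simp only [π₂, MvPolynomial.aeval_rename]
    have : (Sum.elim g MvPolynomial.X ∘ Sum.inr : τ → MvPolynomial τ R) = MvPolynomial.X := by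
      ext i; rfl
    rw [this, MvPolynomial.aeval_X_left, AlgHom.id_apply]
  have h₁ : α.comp π₁ = γ := by
    apply MvPolynomial.algHom_ext
    rintro (i | j)
    · simp [π₁, γ]
    · simp [π₁, γ, hf]
  have h₂ : β.comp π₂ = γ := by
    apply MvPolynomial.algHom_ext
    rintro (i | j)
    · simp [π₂, γ, hg]
    · simp [π₂, γ]
  rw [← relFP_iff_of_algHom α γ π₁ hπ₁ h₁ M, relFP_iff_of_algHom β γ π₂ hπ₂ h₂ M]

/-- Independence of presentation, general finitely presented presenting algebras. -/
theorem relFP_indep {P P' : Type*} [CommRing P] [CommRing P'] [Algebra R P] [Algebra R P']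
    [Algebra.FinitePresentation R P] [Algebra.FinitePresentation R P']
    (φ : P →ₐ[R] A) (hφ : Function.Surjective φ) (φ' : P' →ₐ[R] A) (hφ' : Function.Surjective φ')
    (M : Type*) [AddCommGroup M] [Module A M] :
    RelFP φ.toRingHom M ↔ RelFP φ'.toRingHom M := by
  obtain ⟨n, ψ, hψ, -⟩ := Algebra.FinitePresentation.out (R := R) (A := P)
  obtain ⟨n', ψ', hψ', -⟩ := Algebra.FinitePresentation.out (R := R) (A := P')
  rw [← relFP_iff_of_algHom φ (φ.comp ψ) ψ hψ rfl M,
    ← relFP_iff_of_algHom φ' (φ'.comp ψ') ψ' hψ' rfl M]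
  exact relFP_mvPolynomial_indep _ (hφ.comp hψ) _ (hφ'.comp hψ') M

end indep

end Groth.Agent.Lib.Helper18RelFP
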