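import Groth.Agent.Lib.Helper18RelFP

set_option autoImplicit false
set_option linter.style.haveILetI false
universe u

namespace Groth.Agent.Lib.Helper18RelFP2
open Groth.Agent.Lib.Helper18RelFP TensorProduct

attribute [local instance] MvPolynomial.algebraMvPolynomial

/-- base change of a relatively f.p. module along a pushout square of presenting rings -/
theorem fp_baseChange_of_isPushout (P P' A A' : Type*) [CommRing P] [CommRing P'] [CommRing A]
    [CommRing A'] [Algebra P P'] [Algebra P A] [Algebra P' A'] [Algebra A A'] [Algebra P A']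
    [IsScalarTower P A A'] [IsScalarTower P P' A'] [Algebra.IsPushout P P' A A']
    (M : Type*) [AddCommGroup M] [Module A M] [Module P M] [IsScalarTower P A M]
    [Module.FinitePresentation P M] : Module.FinitePresentation P' (A' ⊗[A] M) :=
  Module.FinitePresentation.of_equiv (Algebra.IsPushout.cancelBaseChange P P' A A' M).symm

theorem main12083 {R A R' A' : Type u} [CommRing R] [CommRing A] [CommRing R'] [CommRing A']
    [Algebra R A] [Algebra R R'] [Algebra A A'] [Algebra R' A'] [Algebra R A'] [IsScalarTower R A A'] [IsScalarTower R R' A']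
    [Algebra.IsPushout R A R' A'] (M : Type u) [AddCommGroup M] [Module A M] {n k : ℕ}
    (α : MvPolynomial (Fin n) R →ₐ[R] A) (hα : Function.Surjective α)
    (hM : RelFP α.toRingHom M)
    (γ : MvPolynomial (Fin k) R' →ₐ[R'] A') (hγ : Function.Surjective γ) :
    RelFP γ.toRingHom (A' ⊗[A] M) := by
  let α' : MvPolynomial (Fin n) R' →ₐ[R'] A' :=
    MvPolynomial.aeval (fun i => algebraMap A A' (α (MvPolynomial.X i)))
  have hα'map : ∀ p : MvPolynomial (Fin n) R,
      α' (MvPolynomial.map (algebraMap R R') p) = algebraMap A A' (α p) := by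
    intro p
    induction p using MvPolynomial.induction_on with
    | C r =>
      simp only [MvPolynomial.map_C, α']
      rw [MvPolynomial.aeval_C, ← MvPolynomial.algebraMap_eq, α.commutes,
        ← IsScalarTower.algebraMap_apply, ← IsScalarTower.algebraMap_apply]
    | add p q hp hq => simp only [map_add, hp, hq]
    | mul_X p i hp =>
      simp only [map_mul, hp, MvPolynomial.map_X]
      simp [α']
  have hα' : Function.Surjective α' := by
    intro x
    have hp : Algebra.IsPushout R A R' A' := inferInstance
    refine hp.out.inductionOn x (fun x => x ∈ Set.range α') ⟨0, map_zero _⟩ ?_ ?_ ?_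
    · intro r'
      exact ⟨MvPolynomial.C r', by simp [α']⟩
    · rintro a x ⟨p, rfl⟩
      obtain ⟨q, rfl⟩ := hα a
      refine ⟨MvPolynomial.map (algebraMap R R') q * p, ?_⟩
      rw [map_mul, hα'map, Algebra.smul_def]
    · rintro x y ⟨p, rfl⟩ ⟨q, rfl⟩
      exact ⟨p + q, map_add _ _ _⟩
  rw [← relFP_indep (R := R') α' hα' γ hγ]
  -- instances
  letI : Algebra (MvPolynomial (Fin n) R) A := α.toRingHom.toAlgebra
  letI : Algebra (MvPolynomial (Fin n) R') A' := α'.toRingHom.toAlgebra
  letI : Algebra (MvPolynomial (Fin n) R) A' := ((algebraMap A A').comp α.toRingHom).toAlgebra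
  haveI : IsScalarTower (MvPolynomial (Fin n) R) A A' := IsScalarTower.of_algebraMap_eq fun _ => rfl
  haveI : IsScalarTower (MvPolynomial (Fin n) R) (MvPolynomial (Fin n) R') A' :=
    IsScalarTower.of_algebraMap_eq fun p => (hα'map p).symm
  haveI : IsScalarTower R (MvPolynomial (Fin n) R) A :=
    IsScalarTower.of_algebraMap_eq fun r => (α.commutes r).symm
  haveI : IsScalarTower R' (MvPolynomial (Fin n) R') A' :=
    IsScalarTower.of_algebraMap_eq fun r => (α'.commutes r).symm
  haveI : IsScalarTower R (MvPolynomial (Fin n) R') A' :=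
    IsScalarTower.of_algebraMap_eq fun r => by
      rw [IsScalarTower.algebraMap_apply R R' A', IsScalarTower.algebraMap_apply R R' (MvPolynomial (Fin n) R'),
        ← IsScalarTower.algebraMap_apply R' (MvPolynomial (Fin n) R') A']
  have hpush : Algebra.IsPushout (MvPolynomial (Fin n) R) A (MvPolynomial (Fin n) R') A' :=
    (Algebra.IsPushout.comp_iff R (MvPolynomial (Fin n) R) R' (MvPolynomial (Fin n) R')).1 inferInstance
  haveI : Algebra.IsPushout (MvPolynomial (Fin n) R) (MvPolynomial (Fin n) R') A A' := hpush.symm
  letI : Module (MvPolynomial (Fin n) R) M := Module.compHom M α.toRingHom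
  haveI : IsScalarTower (MvPolynomial (Fin n) R) A M := ⟨fun p a m => by
    change (α p * a) • m = α p • (a • m); rw [mul_smul]⟩
  haveI : Module.FinitePresentation (MvPolynomial (Fin n) R) M := hM
  have := fp_baseChange_of_isPushout (MvPolynomial (Fin n) R) (MvPolynomial (Fin n) R') A A' M
  exact (relFP_iff_of_tower (P := MvPolynomial (Fin n) R') (A := A') (A' ⊗[A] M)).2 this

end Groth.Agent.Lib.Helper18RelFP2
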