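import Groth.Agent.Lib.Helper18RelFP3

set_option autoImplicit false
set_option linter.style.haveILetI false
universe u

namespace Groth.Agent.Lib.Helper18RelFP4
open Groth.Agent.Lib.Helper18RelFP Groth.Agent.Lib.Helper18RelFP2 Groth.Agent.Lib.Helper18RelFP3
open TensorProduct

/-- per-element comparison of localizations over the presenting ring and over `A` -/
theorem fp_localizedModule_of_relFP {P A : Type*} [CommRing P] [CommRing A] [Algebra P A]
    (M : Type*) [AddCommGroup M] [Module A M] [Module P M] [IsScalarTower P A M] (g : P)
    (h : RelFP (Localization.awayMap (algebraMap P A) g)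
      (LocalizedModule (Submonoid.powers (algebraMap P A g)) M)) :
    Module.FinitePresentation (Localization.Away g) (LocalizedModule (Submonoid.powers g) M) := by
  letI instPg : Module (Localization.Away g) (LocalizedModule (Submonoid.powers (algebraMap P A g)) M) :=
    Module.compHom _ (Localization.awayMap (algebraMap P A) g)
  haveI : IsScalarTower P (Localization.Away g)
      (LocalizedModule (Submonoid.powers (algebraMap P A g)) M) := ⟨fun p q x => by
    change (Localization.awayMap (algebraMap P A) g (p • q)) • x =
      p • ((Localization.awayMap (algebraMap P A) g q) • x)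
    rw [Algebra.smul_def, map_mul, mul_smul]
    rw [Localization.awayMap, IsLocalization.Away.map, IsLocalization.map_eq,
      ← IsScalarTower.algebraMap_apply, algebraMap_smul]⟩
  haveI : IsLocalizedModule (Submonoid.powers g)
      ((LocalizedModule.mkLinearMap (Submonoid.powers (algebraMap P A g)) M).restrictScalars P) :=
    IsLocalizedModule.restrictScalars_powers g _
  let e : LocalizedModule (Submonoid.powers g) M ≃ₗ[P]
      LocalizedModule (Submonoid.powers (algebraMap P A g)) M :=
    IsLocalizedModule.iso (Submonoid.powers g)
      ((LocalizedModule.mkLinearMap (Submonoid.powers (algebraMap P A g)) M).restrictScalars P)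
  let e' := e.extendScalarsOfIsLocalization (Submonoid.powers g) (Localization.Away g)
  have h' : Module.FinitePresentation (Localization.Away g)
      (LocalizedModule (Submonoid.powers (algebraMap P A g)) M) := h
  exact Module.FinitePresentation.of_equiv e'.symm


/-- relative finite presentation is local on `A` -/
theorem fp_of_span {P A : Type*} [CommRing P] [CommRing A] [Algebra P A]
    (hsurj : Function.Surjective (algebraMap P A))
    (M : Type*) [AddCommGroup M] [Module A M] [Module P M] [IsScalarTower P A M]
    {ι : Type*} (F : ι → P) (hF : Ideal.span (Set.range fun i => algebraMap P A (F i)) = ⊤)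
    (h : ∀ i, RelFP (Localization.awayMap (algebraMap P A) (F i))
      (LocalizedModule (Submonoid.powers (algebraMap P A (F i))) M)) :
    Module.FinitePresentation P M := by
  classical
  have h1 : (1 : A) ∈ Ideal.span (Set.range fun i => algebraMap P A (F i)) := by
    rw [hF]; trivial
  obtain ⟨c, hc⟩ := (Finsupp.mem_span_range_iff_exists_finsupp).1 h1
  choose C hC using fun i => hsurj (c i)
  set h0 : P := 1 - ∑ i ∈ c.support, C i * F i with hh0
  have hφh0 : algebraMap P A h0 = 0 := by
    rw [hh0, map_sub, map_one, map_sum, sub_eq_zero, ← hc, Finsupp.sum]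
    refine Finset.sum_congr rfl fun i _ => ?_
    rw [map_mul, hC, smul_eq_mul]
  let s : Set P := Set.range F ∪ {h0}
  have hs : Ideal.span s = ⊤ := by
    rw [Ideal.eq_top_iff_one]
    have : (1 : P) = h0 + ∑ i ∈ c.support, C i * F i := by rw [hh0]; ring
    rw [this]
    refine Ideal.add_mem _ (Ideal.subset_span (Or.inr rfl)) (Ideal.sum_mem _ fun i _ => ?_)
    exact Ideal.mul_mem_left _ _ (Ideal.subset_span (Or.inl ⟨i, rfl⟩))
  refine Module.FinitePresentation.of_localizationSpan s hs ?_
  rintro ⟨g, hg | hg⟩
  · obtain ⟨i, rfl⟩ := hg
    exact fp_localizedModule_of_relFP M (F i) (h i)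
  · have hg' : g = h0 := hg
    subst hg'
    haveI : Subsingleton (LocalizedModule.Away h0 M) := by
      rw [LocalizedModule.subsingleton_iff]
      intro m
      refine ⟨h0, Submonoid.mem_powers _, ?_⟩
      rw [← algebraMap_smul A h0 m, hφh0, zero_smul]
    infer_instance


theorem main7007 {R A : Type u} [CommRing R] [CommRing A] [Algebra R A]
    {n : ℕ} (α : MvPolynomial (Fin n) R →ₐ[R] A) (hα : Function.Surjective α) (M : Type u)
    [AddCommGroup M] [Module A M] {r : ℕ} (f : Fin r → A) (hf : Ideal.span (Set.range f) = ⊤)
    (k : Fin r → ℕ)
    (γ : ∀ i, MvPolynomial (Fin (k i)) R →ₐ[R] Localization.Away (f i))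
    (hγ : ∀ i, Function.Surjective (γ i)) :
    RelFP α.toRingHom M ↔
      ∀ i, RelFP (γ i).toRingHom (LocalizedModule (Submonoid.powers (f i)) M) := by
  constructor
  · intro hM i
    have : Algebra.FinitePresentation A (Localization.Away (f i)) :=
      IsLocalization.Away.finitePresentation (f i)
    exact relFP_baseChange_fp (R := R) α M hM (LocalizedModule (Submonoid.powers (f i)) M)
      (LocalizedModule.mkLinearMap (Submonoid.powers (f i)) M)
      (IsLocalizedModule.isBaseChange (Submonoid.powers (f i)) (Localization.Away (f i)) _)
      hα (γ i) (hγ i)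
  · intro h
    choose F hF using fun i => hα (f i)
    have hfF : f = fun i => α (F i) := funext fun i => (hF i).symm
    subst hfF
    letI : Algebra (MvPolynomial (Fin n) R) A := α.toRingHom.toAlgebra
    letI : Module (MvPolynomial (Fin n) R) M := Module.compHom M α.toRingHom
    haveI : IsScalarTower (MvPolynomial (Fin n) R) A M := ⟨fun p a x => by
      change (α p * a) • x = α p • (a • x); rw [mul_smul]⟩
    change Module.FinitePresentation (MvPolynomial (Fin n) R) M
    refine fp_of_span hα M F hf ?_
    intro i
    have : Algebra.FinitePresentation (MvPolynomial (Fin n) R) (Localization.Away (F i)) :=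
      IsLocalization.Away.finitePresentation (F i)
    have : Algebra.FinitePresentation R (Localization.Away (F i)) :=
      Algebra.FinitePresentation.trans R (MvPolynomial (Fin n) R) (Localization.Away (F i))
    have hsurj : Function.Surjective (Localization.awayMapₐ α (F i)) := by
      have : Function.Surjective (Localization.awayMap α.toRingHom (F i)) := by
        rw [Localization.awayMap_surjective_iff]
        intro a
        obtain ⟨b, hb⟩ := hα a
        exact ⟨b, 0, by simpa using hb⟩
      exact this
    exact (relFP_indep (R := R) (Localization.awayMapₐ α (F i)) hsurj (γ i) (hγ i) _).2 (h i)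

end Groth.Agent.Lib.Helper18RelFP4
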