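import Groth.Agent.Lib.Helper18RelFP

set_option autoImplicit false
set_option linter.style.haveILetI false
universe u

namespace Groth.Agent.Lib.Helper18RelFP5
open Groth.Agent.Lib.Helper18RelFP

/-- over a finite, finitely presented (as a module) extension `P → Q`, finite presentation of a
`Q`-module can be tested over `P` (Stacks 0564). -/
theorem fp_iff_of_finite {P Q : Type*} [CommRing P] [CommRing Q] [Algebra P Q]
    [Module.FinitePresentation P Q] (M : Type*) [AddCommGroup M] [Module Q M] [Module P M]
    [IsScalarTower P Q M] : Module.FinitePresentation P M ↔ Module.FinitePresentation Q M := by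
  constructor
  · intro h
    haveI : Module.Finite Q M := Module.Finite.of_restrictScalars_finite P Q M
    obtain ⟨a, l, hl⟩ := Module.Finite.exists_fin' Q M
    refine Module.finitePresentation_of_surjective l hl ?_
    have hP : Module.FinitePresentation P (Fin a → Q) := inferInstance
    have hk : (LinearMap.ker (l.restrictScalars P)).FG :=
      Module.FinitePresentation.fg_ker (l.restrictScalars P) hl
    have : (LinearMap.ker l).restrictScalars P = LinearMap.ker (l.restrictScalars P) := by
      ext x; simp
    rw [← this] at hk
    exact Submodule.FG.of_restrictScalars P hk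
  · intro h
    exact Module.FinitePresentation.trans P M Q

theorem main6992 {R A B : Type u} [CommRing R] [CommRing A] [CommRing B]
    [Algebra R A] [Algebra A B] [Algebra R B] [IsScalarTower R A B]
    [Module.Finite A B] (M : Type u) [AddCommGroup M] [Module B M] [Module A M]
    [IsScalarTower A B M] {n k : ℕ} (α : MvPolynomial (Fin n) R →ₐ[R] A) (hα : Function.Surjective α)
    (β : MvPolynomial (Fin k) R →ₐ[R] B) (hβ : Function.Surjective β) :
    RelFP α.toRingHom M ↔ RelFP β.toRingHom M := by
  letI : Algebra (MvPolynomial (Fin n) R) A := α.toRingHom.toAlgebra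
  haveI : IsScalarTower R (MvPolynomial (Fin n) R) A :=
    IsScalarTower.of_algebraMap_eq fun r => (α.commutes r).symm
  letI : Algebra (MvPolynomial (Fin n) R) B := ((algebraMap A B).comp α.toRingHom).toAlgebra
  haveI : IsScalarTower (MvPolynomial (Fin n) R) A B := IsScalarTower.of_algebraMap_eq fun _ => rfl
  haveI : IsScalarTower R (MvPolynomial (Fin n) R) B := IsScalarTower.of_algebraMap_eq fun r => by
    rw [IsScalarTower.algebraMap_apply (MvPolynomial (Fin n) R) A B,
      ← IsScalarTower.algebraMap_apply R (MvPolynomial (Fin n) R) A,
      ← IsScalarTower.algebraMap_apply R A B]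
  haveI : Module.Finite (MvPolynomial (Fin n) R) A :=
    Module.Finite.of_surjective (Algebra.linearMap (MvPolynomial (Fin n) R) A) hα
  haveI : Module.Finite (MvPolynomial (Fin n) R) B := Module.Finite.trans A B
  obtain ⟨Q, _, _, _, _, _, g, hg⟩ := Module.Finite.exists_free_surjective (MvPolynomial (Fin n) R) B
  haveI : Module.FinitePresentation (MvPolynomial (Fin n) R) Q :=
    Module.finitePresentation_of_projective _ _
  letI : Module (MvPolynomial (Fin n) R) M := Module.compHom M α.toRingHom
  letI : Module Q M := Module.compHom M g.toRingHom
  haveI : IsScalarTower (MvPolynomial (Fin n) R) Q M := ⟨fun p q m => by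
    change g (p • q) • m = α p • (g q • m)
    rw [map_smul, Algebra.smul_def, mul_smul, ← algebraMap_smul B (α p)]
    rfl⟩
  have hB : Module.FinitePresentation (MvPolynomial (Fin n) R) M ↔ Module.FinitePresentation Q M :=
    fp_iff_of_finite M
  -- R-algebra structure on Q
  letI : Algebra R Q :=
    ((algebraMap (MvPolynomial (Fin n) R) Q).comp (algebraMap R (MvPolynomial (Fin n) R))).toAlgebra
  haveI : IsScalarTower R (MvPolynomial (Fin n) R) Q := IsScalarTower.of_algebraMap_eq fun _ => rfl
  haveI : Algebra.FinitePresentation R Q :=
    Algebra.FinitePresentation.trans R (MvPolynomial (Fin n) R) Q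
  have hC := relFP_indep (R := R) (g.restrictScalars R) hg β hβ M
  exact hB.trans hC

end Groth.Agent.Lib.Helper18RelFP5
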