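import Mathlib
import Groth.Agent.Lib.Helper18RelFrob

set_option autoImplicit false
set_option linter.style.haveILetI false
universe u

namespace Groth.Agent.Lib.Helper18RelFrobField
open TensorProduct FrobAlg

theorem main (p : ℕ) [Fact p.Prime] (k K : Type u) [Field k]
    [Field K] [Algebra k K] [CharP k p] [CharP K p] (hfg : (⊤ : IntermediateField k K).FG) :
    Function.Bijective (FrobAlg.relFrob p k K) ↔ Algebra.IsSeparable k K := by
  haveI : Algebra.EssFiniteType k K := IntermediateField.fg_top_iff.mp hfg
  constructor
  · intro h
    haveI := Groth.Agent.S16001.result p k K h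
    exact Algebra.FormallyUnramified.isSeparable k K
  · intro h
    haveI : Algebra.FormallyEtale k K := Algebra.FormallyEtale.of_isSeparable k K
    haveI : Module.Finite k K := Algebra.FormallyUnramified.finite_of_free k K
    haveI : Algebra.FinitePresentation k K := Algebra.FinitePresentation.of_finiteType.mp inferInstance
    haveI : Algebra.Etale k K := ⟨inferInstance, inferInstance⟩
    exact Groth.Agent.Lib.Helper18RelFrob.relFrob_bijective_of_etale p k K

end Groth.Agent.Lib.Helper18RelFrobField
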