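import Mathlib
import Groth.Prelude
import Groth.Agent.Lib.Helper23RelRes
set_option backward.isDefEq.respectTransparency.types false

/-!
# Large twists by a relatively ample module are quotients of inverse images (helper18)

EGA II 4.6.8 in the form: `f : X ⟶ Y` with `Y` quasi-compact quasi-separated, `L` ample relative to `f`, `M` quasi-coherent of
finite type on `X`; then for all large `n` there are a quasi-coherent `G` of finite type on `Y` and an epimorphism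
`f^* G ⟶ M ⊗ L^n`.  The proof is extracted from helper23's `hasResolutionProperty_of_isRelAmple`.
-/

set_option autoImplicit false
universe u
open CategoryTheory CategoryTheory.Limits AlgebraicGeometry TopologicalSpace Opposite

namespace Groth.Agent.Helper18RelQuot
open Groth.Agent.Lib.Helper23.SecTw Groth.Agent.Lib.Helper23.GenLocus Groth.Agent.Lib.Helper6
open Groth.Agent.Lib.Helper23.AmpleIso Groth.Agent.Lib.Helper23.LocGen Groth.Agent.Lib.Helper23.TensorUnit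
open Groth.Agent.Lib.Helper21.ModTensor3 Groth.Agent.Lib.Helper21.ModTensor5
open Groth.Agent.Lib.Helper23.ResProp Groth.Agent.Lib.Helper23.ModLocal Groth.Agent.Lib.Helper23.SurjOn
open Groth.Agent.Lib.Helper23.FinGen Groth.Agent.Lib.Helper23.RelRes

variable {X Y : Scheme.{u}} (f : X ⟶ Y)

open Groth.Agent.Lib.Helper23.CounitEpi Groth.Agent.Lib.Helper23.RestrTensor in
/-- **EGA II 4.6.8**: large twists of a finite type quasi-coherent module by a relatively ample module are quotients of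
inverse images of finite type quasi-coherent modules on the (quasi-compact quasi-separated) base. -/
theorem exists_epi_pullback_twist [CompactSpace Y] [QuasiSeparatedSpace Y]
    (L : X.Modules) (hL : RelAmple.IsRelAmple f L) (M : X.Modules) (hM : Coh.IsQCoh M) (hM' : CohB1.IsFT M) :
    ∃ n₀ : ℕ, ∀ n : ℕ, n₀ ≤ n →
      ∃ (G : Y.Modules) (φ : (Scheme.Modules.pullback f).obj G ⟶ CohB1.tensorMod M (CohB1.tensorPow L n)),
        Coh.IsQCoh G ∧ CohB1.IsFT G ∧ Epi φ := by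
  classical
  haveI : M.IsQuasicoherent := hM
  haveI : SheafOfModules.IsFiniteType (R := X.ringCatSheaf) M := hM'
  haveI : QuasiCompact f := hL.1
  haveI : QuasiSeparated f := quasiSeparated_of_isRelAmple f L hL
  haveI : CompactSpace X := QuasiCompact.compactSpace_of_compactSpace f
  have hinv := isInvertible_of_isRelAmple f L hL
  -- a finite affine cover of `Y`
  obtain ⟨T, hT⟩ : ∃ T : Finset Y.affineOpens, ∀ y : Y, ∃ V ∈ T, y ∈ V.1 := by
    have hcov : ∀ y : Y, ∃ V : Y.affineOpens, y ∈ V.1 := by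
      intro y
      obtain ⟨V, hV, hyV, -⟩ := Opens.isBasis_iff_nbhd.1 Y.isBasis_affineOpens (Opens.mem_top y)
      exact ⟨⟨V, hV⟩, hyV⟩
    choose V hV using hcov
    obtain ⟨T₀, hT₀⟩ : ∃ T₀ : Finset Y, (Set.univ : Set Y) ⊆ ⋃ y ∈ T₀, ((V y).1 : Set Y) :=
      isCompact_univ.elim_finite_subcover (fun y => ((V y).1 : Set Y)) (fun y => (V y).1.2)
        (fun y _ => Set.mem_iUnion.2 ⟨y, hV y⟩)
    refine ⟨T₀.image V, fun y => ?_⟩
    obtain ⟨y₀, hy₀⟩ := Set.mem_iUnion.1 (hT₀ (Set.mem_univ y))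
    obtain ⟨hy₀T, hyy₀⟩ := Set.mem_iUnion.1 hy₀
    exact ⟨V y₀, Finset.mem_image_of_mem V hy₀T, hyy₀⟩
  -- over each affine open, large twists are quotients of finite free modules
  have key : ∀ V : Y.affineOpens, ∃ n₀ : ℕ, ∀ n, n₀ ≤ n → ∃ (k : ℕ)
      (p : FlatMod.freeMod (↑(f ⁻¹ᵁ V.1) : Scheme.{u}) k ⟶
        (CohB1.tensorMod M (CohB1.tensorPow L n)).restrict (f ⁻¹ᵁ V.1).ι), Epi p := by
    intro V
    haveI : (M.restrict (f ⁻¹ᵁ V.1).ι).IsQuasicoherent :=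
      Scheme.Modules.isQuasicoherent_restrictFunctor (f ⁻¹ᵁ V.1).ι M
    haveI : SheafOfModules.IsFiniteType (R := ((f ⁻¹ᵁ V.1 : X.Opens) : Scheme.{u}).ringCatSheaf)
        (M.restrict (f ⁻¹ᵁ V.1).ι) :=
      Groth.Agent.Lib.Helper23.FinType.isFiniteType_restrict (f ⁻¹ᵁ V.1).ι M
    obtain ⟨n₀, hn₀⟩ := exists_epi_freeMod_twist (L.restrict (f ⁻¹ᵁ V.1).ι) (hL.2 V) (M.restrict (f ⁻¹ᵁ V.1).ι)
    refine ⟨n₀, fun n hn => ?_⟩
    obtain ⟨k, p, hp⟩ := hn₀ n hn
    obtain ⟨e⟩ := nonempty_restrict_twist_iso M L hinv (f ⁻¹ᵁ V.1) n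
    exact ⟨k, p ≫ e.inv, epi_comp _ _⟩
  choose N₀ hN₀ using key
  refine ⟨T.sup N₀, fun n hn₀ => ?_⟩
  have hn : ∀ V ∈ T, N₀ V ≤ n := fun V hV => (Finset.le_sup hV).trans hn₀
  have hPn := isInvertible_tensorPow hinv n
  haveI : (CohB1.tensorPow L n).IsQuasicoherent := isQuasicoherent_of_isInvertible _ hPn
  haveI := Groth.Agent.Lib.Helper23.TensorQCoh.isQuasicoherent_tensorMod M (CohB1.tensorPow L n)
  haveI := Groth.Agent.Lib.Helper23.QCohLocal.isQuasicoherent_pushforward f (CohB1.tensorMod M (CohB1.tensorPow L n))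
  choose k p hp using (fun V : T => hN₀ V.1 n (hn V.1 V.2))
  -- the generating sections, as sections of the direct image
  let sec : (Σ V : T, Fin (k V)) → Σ U : Y.affineOpens,
      Γ((Scheme.Modules.pushforward f).obj (CohB1.tensorMod M (CohB1.tensorPow L n)), U.1) := fun idx =>
    ⟨idx.1.1, secOf (CohB1.tensorMod M (CohB1.tensorPow L n)) (f ⁻¹ᵁ idx.1.1.1)
      (Sigma.ι (fun _ : Fin (k idx.1) => Coh.structureModule (↑(f ⁻¹ᵁ idx.1.1.1) : Scheme.{u})) idx.2 ≫ p idx.1)⟩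
  obtain ⟨G, i, hi, hGq, hGf, hmem⟩ := Groth.Agent.Lib.Helper23.FTsub.exists_ft_sub_list
    ((Scheme.Modules.pushforward f).obj (CohB1.tensorMod M (CohB1.tensorPow L n)))
    ⟨⟨⊥, isAffineOpen_bot Y⟩, 0⟩ (Finset.univ.toList.map sec)
  have hφ' : Epi (((Scheme.Modules.pullbackPushforwardAdjunction f).homEquiv G
      (CohB1.tensorMod M (CohB1.tensorPow L n))).symm (𝟙 G ≫ i)) := by
    refine epi_homEquiv_symm _ (𝟙 G ≫ i) (fun Q ψ₁ ψ₂ hψ => ?_)
    apply hom_ext_of_cover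
    intro x
    obtain ⟨V, hVT, hxV⟩ := hT (f x)
    haveI := hp ⟨V, hVT⟩
    refine ⟨f ⁻¹ᵁ V.1, hxV, app_eq_of_epi_freeMod ψ₁ ψ₂ (f ⁻¹ᵁ V.1) (p ⟨V, hVT⟩) (fun j => ?_)⟩
    obtain ⟨g, hg⟩ := hmem (sec ⟨⟨V, hVT⟩, j⟩) (List.mem_cons_of_mem _
      (List.mem_map.2 ⟨⟨⟨V, hVT⟩, j⟩, Finset.mem_toList.2 (Finset.mem_univ _), rfl⟩))
    have hg' : i.app V.1 g = secOf (CohB1.tensorMod M (CohB1.tensorPow L n)) (f ⁻¹ᵁ V.1)
      (Sigma.ι (fun _ : Fin (k ⟨V, hVT⟩) => Coh.structureModule (↑(f ⁻¹ᵁ V.1) : Scheme.{u})) j ≫ p ⟨V, hVT⟩) := hg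
    rw [← hg']
    exact app_eq_of_comp_eq f ψ₁ ψ₂ (𝟙 G) i hψ V.1 g
  exact ⟨G, _, hGq, hGf, hφ'⟩

end Groth.Agent.Helper18RelQuot
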