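import Mathlib
import Groth.Prelude.Def_RelProj3
import Groth.Agent.Lib.Helper2RelTwistTensor

/-!
# `O_P(0) ≅ O_P` on a relative Proj generated in degree one (helper18)
-/

set_option autoImplicit false
universe u
open CategoryTheory Limits AlgebraicGeometry TopologicalSpace Opposite

namespace Groth.Agent.Helper18TwistZero

open Groth.Agent.Lib.Helper2.RelTildeQCoh Groth.Agent.Lib.Helper23.SecTw Groth.Agent.Lib.Helper6
  Groth.Agent.Lib.Helper2.Push Groth.Agent.Lib.Helper2.RelTwistGen Groth.Agent.Lib.Helper2.IsGenCover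
  Groth.Agent.Lib.Helper2.RelTwistTriv RelProj Groth.Agent.Lib.Helper2.RelTwistTensor
  Groth.Agent.Lib.Helper23.GenLocus

variable {P S : Scheme.{u}} {𝒮 : RelProj.QCGrAlg S} (p : P ⟶ S)
  (chart : ∀ (U : S.Opens) (hU : IsAffineOpen U), (((p ⁻¹ᵁ U : P.Opens) : Scheme.{u}) ≅ Proj (𝒮.deg U hU)))

theorem zv_zero_zero {A σ : Type u} [CommRing A] [SetLike σ A] [AddSubgroupClass σ A] {𝒜 : ℕ → σ}
    [GradedRing 𝒜] (y : ProjectiveSpectrum 𝒜) (t : A) (ht : t ∉ y.asHomogeneousIdeal) :
    zv y t ht 0 0 = 1 := by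
  unfold zv
  exact Localization.mk_self (⟨t ^ 0, fun hh => ht (y.isPrime.mem_of_pow_mem _ hh)⟩ :
    y.asHomogeneousIdeal.toIdeal.primeCompl)

variable (L : P.Modules)
  (lam : ∀ (U : S.Opens) (hU : IsAffineOpen U),
    L ⟶ (Scheme.Modules.pushforward (RelProj.emb p chart U hU)).obj (GrTwist.twist (𝒮.deg U hU) 0))
  (hL : RelProj.IsRelTwist 𝒮 p chart 0 L lam)

theorem h00 : ((0 : ℕ) : ℤ) = ((0 : ℕ) : ℤ) + 0 := by simp

include hL in
/-- the degree-zero frames `1` agree on overlaps. -/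
theorem res_eF_zero_eq (hP : RelProj.IsRelProj 𝒮 p chart) (i j : Idx 𝒮) :
    res L (inf_le_left : VF p chart i ⊓ VF p chart j ≤ VF p chart i) (eF p chart 0 L lam hL 0 0 h00 i) =
      res L (inf_le_right : VF p chart i ⊓ VF p chart j ≤ VF p chart j) (eF p chart 0 L lam hL 0 0 h00 j) := by
  have key : ∀ x : (VF p chart i ⊓ VF p chart j : P.Opens), ∃ (O : P.Opens)
      (hO : O ≤ VF p chart i ⊓ VF p chart j), x.1 ∈ O ∧
      res L hO (res L inf_le_left (eF p chart 0 L lam hL 0 0 h00 i)) =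
      res L hO (res L inf_le_right (eF p chart 0 L lam hL 0 0 h00 j)) := by
    intro x
    obtain ⟨r, r', hrr', hx⟩ := exists_basicOpen_le_affine_inter i.1.2 j.1.2 (p x.1)
      ⟨VF_le p chart i x.2.1, VF_le p chart j x.2.2⟩
    have hle' : S.basicOpen r ≤ j.1.1 := hrr' ▸ S.basicOpen_le r'
    refine ⟨(VF p chart i ⊓ VF p chart j) ⊓ p ⁻¹ᵁ (S.basicOpen r), inf_le_left, ⟨x.2, hx⟩, ?_⟩
    rw [res_res, res_res]
    have h1 := (res_eF_eq_smul_iff p chart 0 L lam hL 0 0 h00 hP i j r r' (S.basicOpen r)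
      (i.1.2.basicOpen r) rfl hrr' (S.basicOpen_le r) hle'
      ((VF p chart i ⊓ VF p chart j) ⊓ p ⁻¹ᵁ (S.basicOpen r))
      (inf_le_left.trans inf_le_left) (inf_le_left.trans inf_le_right) inf_le_right 1).2 ?_
    · rw [one_smul] at h1
      exact h1
    · intro y'' hy''
      rw [zv_zero_zero, zv_zero_zero, map_one, mul_one]
      exact (HomogeneousLocalization.val_one (𝒜 := 𝒮.deg (S.basicOpen r) (i.1.2.basicOpen r))
        (x := y''.asHomogeneousIdeal.toIdeal.primeCompl)).symm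
  choose O hO hxO hres using key
  refine (modSheaf L).eq_of_locally_eq' O _ (fun x => homOfLE (hO x)) ?_ _ _ hres
  intro x hx'
  exact Opens.mem_iSup.mpr ⟨⟨x, hx'⟩, hxO _⟩

include hL in
/-- **`O_P(0) ≅ O_P`**. -/
theorem nonempty_iso_structureModule (hP : RelProj.IsRelProj 𝒮 p chart) (hgen : 𝒮.IsGenDegOne) :
    Nonempty (L ≅ Coh.structureModule P) := by
  obtain ⟨Φ, -⟩ := exists_iso_of_frames L (Coh.structureModule P) (VF p chart)
    (exists_mem_VF p chart hgen)
    (fun i => eF p chart 0 L lam hL 0 0 h00 i)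
    (fun i => toS (VF p chart i) 1)
    (fun i => isGen_eF p chart 0 L lam hL 0 0 h00 i)
    (fun i => isGen_one (VF p chart i))
    (by
      intro i j g H
      have H' : g • res L (inf_le_right : VF p chart i ⊓ VF p chart j ≤ VF p chart j)
            (eF p chart 0 L lam hL 0 0 h00 j) =
          (1 : Γ(P, VF p chart i ⊓ VF p chart j)) • res L (inf_le_right : VF p chart i ⊓ VF p chart j ≤ VF p chart j)
            (eF p chart 0 L lam hL 0 0 h00 j) := by
        rw [one_smul, ← H]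
        exact res_eF_zero_eq p chart L lam hL hP i j
      have hg : g = 1 := (isGen_eF p chart 0 L lam hL 0 0 h00 j _ inf_le_right).1 H'
      subst hg
      rw [one_smul]
      have e1 : res (Coh.structureModule P) (inf_le_left : VF p chart i ⊓ VF p chart j ≤ VF p chart i)
          (toS (VF p chart i) 1) = toS _ 1 := (map_toS (homOfLE inf_le_left) 1).trans (by rw [map_one])
      have e2 : res (Coh.structureModule P) (inf_le_right : VF p chart i ⊓ VF p chart j ≤ VF p chart j)
          (toS (VF p chart j) 1) = toS _ 1 := (map_toS (homOfLE inf_le_right) 1).trans (by rw [map_one])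
      rw [e1, e2])
  exact ⟨Φ⟩

/-- **`O_P(d) ≅ O_P` for `d = 0`** (degree as a variable, to avoid casts). -/
theorem nonempty_iso_structureModule' (hP : RelProj.IsRelProj 𝒮 p chart) (hgen : 𝒮.IsGenDegOne) (d : ℤ) (hd : d = 0)
    (L' : P.Modules)
    (lam' : ∀ (U : S.Opens) (hU : IsAffineOpen U),
      L' ⟶ (Scheme.Modules.pushforward (RelProj.emb p chart U hU)).obj (GrTwist.twist (𝒮.deg U hU) d))
    (hL' : RelProj.IsRelTwist 𝒮 p chart d L' lam') :
    Nonempty (L' ≅ Coh.structureModule P) := by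
  subst hd
  exact nonempty_iso_structureModule p chart L' lam' hL' hP hgen

end Groth.Agent.Helper18TwistZero
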