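import Mathlib
import Groth.Agent.Lib.Helper23CounitSec
import Groth.Agent.Lib.Helper22FTIdeal
import Groth.Agent.Lib.Helper18Cart1
import Groth.Agent.Lib.Helper23FinType2

/-!
# Relative ampleness from epimorphic counits `f^* f_* (J ⊗ L^n) ⟶ J ⊗ L^n` (helper23)

Namespace `Groth.Agent.Lib.Helper23.RelAmpleCounit`.

* `isFT_idealMod` : the ideal module of a finite type ideal sheaf is of finite type.
* `isRelAmple_of_epi_counit` : `X` qcqs, `f : X ⟶ Y` quasi-compact, `L` invertible; if for every finite type ideal sheaf `J` the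
  counit at `J ⊗ L^{n+1}` is an epimorphism for some `n`, then `L` is ample relative to `f` (EGA II 4.6.8 (c) ⇒ (a)).
-/

set_option autoImplicit false
universe u
open CategoryTheory CategoryTheory.Limits AlgebraicGeometry TopologicalSpace Opposite

namespace Groth.Agent.Lib.Helper23.RelAmpleCounit
open Groth.Agent.Lib.Helper23.SecTw Groth.Agent.Lib.Helper23.GenLocus Groth.Agent.Lib.Helper6
open Groth.Agent.Lib.Helper23.IdealSec Groth.Agent.Lib.Helper23.CounitEpi Groth.Agent.Lib.Helper23.CounitSec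
open Groth.Agent.Lib.Helper23.GenNear Groth.Agent.Lib.Helper23.TensorMap Groth.Agent.Lib.Helper23.Extend
open Groth.Agent.Lib.Helper23.AmpleIso

/-- the ideal module of a finite type ideal sheaf is of finite type -/
theorem isFT_idealMod {X : Scheme.{u}} (J : X.IdealSheafData) (hJ : ∀ W : X.affineOpens, (J.ideal W).FG) :
    CohB1.IsFT (ClSub.idealMod J) := by
  haveI : (ClSub.idealMod J).IsQuasicoherent := Groth.Agent.Lib.Helper20.OmegaAff.isQuasicoherent_idealMod J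
  refine (Groth.Agent.Lib.Helper23.FinType.isFiniteType_iff_forall_affine _).2 ?_
  intro U hU
  obtain ⟨ε⟩ := Groth.Agent.Helper18Cart.nonempty_idealMod_sections_equiv J ⟨U, hU⟩
  haveI : Module.Finite Γ(X, U) (J.ideal ⟨U, hU⟩) := Module.Finite.iff_fg.2 (hJ ⟨U, hU⟩)
  exact Module.Finite.equiv ε.symm

/-- the core: relative ampleness from epimorphic counits at `J ⊗ L^n` for finite type ideals `J` -/
theorem isRelAmple_of_epi_counit {X Y : Scheme.{u}} [CompactSpace X] [QuasiSeparatedSpace X] (f : X ⟶ Y)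
    [QuasiCompact f] (L : X.Modules) (hL : PicF.IsInvertible L)
    (h : ∀ J : X.IdealSheafData, (∀ W : X.affineOpens, (J.ideal W).FG) → ∃ n : ℕ,
      Epi ((Scheme.Modules.pullbackPushforwardAdjunction f).counit.app
        (CohB1.tensorMod (ClSub.idealMod J) (CohB1.tensorPow L (n + 1))))) :
    RelAmple.IsRelAmple f L := by
  refine ⟨inferInstance, fun V => ?_⟩
  have hqc : IsCompact (f ⁻¹ᵁ V.1).carrier := QuasiCompact.isCompact_preimage (f := f) _ V.1.2 V.2.isCompact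
  have hqs : IsQuasiSeparated (f ⁻¹ᵁ V.1).carrier := IsQuasiSeparated.of_quasiSeparatedSpace _
  refine ⟨isInvertible_restrict L hL _, isCompact_iff_compactSpace.1 hqc, fun x' => ?_⟩
  obtain ⟨x, hx⟩ := x'
  obtain ⟨U₀, hU₀, hxU₀, hU₀le⟩ := Opens.isBasis_iff_nbhd.1 X.isBasis_affineOpens hx
  -- a finite type ideal which is the unit ideal on `U₀` and whose support contains the complement of `U₀`
  let Z : Closeds X := ⟨(U₀ : Set X)ᶜ, U₀.2.isClosed_compl⟩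
  have h1 : (1 : Γ(X, U₀)) ∈ (Scheme.IdealSheafData.vanishingIdeal Z).ideal ⟨U₀, hU₀⟩ := by
    rw [Scheme.IdealSheafData.vanishingIdeal_ideal, PrimeSpectrum.mem_vanishingIdeal]
    intro q hq
    exfalso
    have hU' : IsAffineOpen U₀ := hU₀
    have hr : Set.range (IsAffineOpen.fromSpec (U := U₀) hU') = (U₀ : Set X) := hU'.range_fromSpec
    have hq' : (IsAffineOpen.fromSpec (U := U₀) hU') q ∈ (U₀ : Set X) := by
      rw [← hr]
      exact Set.mem_range_self q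
    exact hq hq'
  obtain ⟨J, hJle, hJft, hJ1⟩ := Groth.Agent.Lib.Helper22.FTIdeal.exists_ft_le_mem
    (Scheme.IdealSheafData.vanishingIdeal Z) ⟨U₀, hU₀⟩ 1 h1
  have hJU : J.ideal ⟨U₀, hU₀⟩ = ⊤ := (Ideal.eq_top_iff_one _).2 hJ1
  have hsupp : ∀ y, y ∉ U₀ → y ∈ J.support := by
    intro y hy
    have h2 : (Scheme.IdealSheafData.vanishingIdeal Z).support ≤ J.support :=
      Scheme.IdealSheafData.support_antitone hJle
    apply h2
    have h3 : ((Scheme.IdealSheafData.vanishingIdeal Z).support : Set X) = Z :=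
      Scheme.IdealSheafData.coe_support_vanishingIdeal Z
    change y ∈ ((Scheme.IdealSheafData.vanishingIdeal Z).support : Set X)
    rw [h3]
    exact hy
  obtain ⟨k, hepi⟩ := h J hJft
  obtain ⟨M, hMdef⟩ : ∃ M : X.Modules, M = CohB1.tensorPow L (k + 1) := ⟨_, rfl⟩
  rw [← hMdef] at hepi
  have hM : PicF.IsInvertible M := by rw [hMdef]; exact isInvertible_tensorPow hL (k + 1)
  -- a local section of `J ⊗ M` mapping to a generator near `x`
  obtain ⟨W₀, e₀, hxW₀, hgen₀⟩ := exists_gen M hM x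
  have hBW₀ : W₀ ⊓ U₀ ≤ W₀ := inf_le_left
  have hBU₀ : W₀ ⊓ U₀ ≤ U₀ := inf_le_right
  have hgen : IsGen M (W₀ ⊓ U₀) (res M hBW₀ e₀) := hgen₀.mono hBW₀
  obtain ⟨jU, hjU⟩ := exists_ι_eq J ⟨U₀, hU₀⟩ 1 (by rw [hJU]; trivial)
  have hj₁ : (ClSub.idealModι J).app (W₀ ⊓ U₀) (res (ClSub.idealMod J) hBU₀ jU) = toS (W₀ ⊓ U₀) 1 := by
    rw [app_map (ClSub.idealModι J) (homOfLE hBU₀), hjU]
    exact map_one (X.presheaf.map (homOfLE hBU₀).op).hom
  have h₀ : IsGenNear M (W₀ ⊓ U₀) ((mulHom (ClSub.idealModι J) M).app (W₀ ⊓ U₀)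
      (tm (ClSub.idealMod J) M (W₀ ⊓ U₀) (res (ClSub.idealMod J) hBU₀ jU) (res M hBW₀ e₀))) x := by
    refine ⟨W₀ ⊓ U₀, le_rfl, ⟨hxW₀, hxU₀⟩, ?_⟩
    rw [res_self, mulHom_tm, hj₁]
    have : ofS (W₀ ⊓ U₀) (toS (W₀ ⊓ U₀) 1) = 1 := rfl
    rw [this, one_smul]
    exact hgen
  obtain ⟨V'', s, hs⟩ := exists_local_section_isGenNear f hM (mulHom (ClSub.idealModι J) M) hepi x _ _ h₀
  -- shrink to a basic open of `V` and extend
  have hxV'' : x ∈ f ⁻¹ᵁ V'' := hs.mem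
  obtain ⟨g, hgle, hxg⟩ := V.2.exists_basicOpen_le (V := V.1 ⊓ V'') ⟨f x, ⟨hx, hxV''⟩⟩ hx
  obtain ⟨g', hg'⟩ : ∃ g' : Γ(X, f ⁻¹ᵁ V.1), g' = f.app V.1 g := ⟨_, rfl⟩
  have hbo : X.basicOpen g' = f ⁻¹ᵁ Y.basicOpen g := by rw [hg', Scheme.preimage_basicOpen]
  have hle' : X.basicOpen g' ≤ f ⁻¹ᵁ V'' := by
    rw [hbo]
    exact f.preimage_mono (hgle.trans inf_le_right)
  have hxg' : x ∈ X.basicOpen g' := by rw [hbo]; exact hxg
  obtain ⟨t, ht⟩ := exists_extension_isGenNear hM (f ⁻¹ᵁ V.1) hqc hqs g' (f ⁻¹ᵁ V'') hle'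
    ((mulHom (ClSub.idealModι J) M).app (f ⁻¹ᵁ V'') s)
  -- convert to the open subscheme
  obtain ⟨Θ⟩ := nonempty_restrict_tensorPow_iso L hL (f ⁻¹ᵁ V.1) (k + 1)
  rw [← hMdef] at Θ
  refine ⟨k, restrSecLocal M (f ⁻¹ᵁ V.1) t ≫ Θ.hom, ?_, ?_⟩
  · rw [genLocus_comp_iso]
    exact (mem_genLocus_restrSecLocal_iff M (f ⁻¹ᵁ V.1) t ⟨x, hx⟩).2 ((ht x).2 ⟨hxg', hs⟩)
  · rw [genLocus_comp_iso]
    have hle : CohB1.genLocus _ (restrSecLocal M (f ⁻¹ᵁ V.1) t) ≤ (f ⁻¹ᵁ V.1).ι ⁻¹ᵁ U₀ := by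
      intro y' hy'
      have hy2 := (ht y'.1).1 ((mem_genLocus_restrSecLocal_iff M (f ⁻¹ᵁ V.1) t y').1 hy')
      exact mem_of_isGenNear_mulHom J hM U₀ hsupp _ s y'.1 hy2.2
    have haff : IsAffineOpen ((f ⁻¹ᵁ V.1).ι ⁻¹ᵁ U₀) := by
      rw [← Scheme.Hom.isAffineOpen_iff_of_isOpenImmersion (f ⁻¹ᵁ V.1).ι, image_preimage_of_le _ hU₀le]
      exact hU₀
    have h5 := isAffineOpen_inf_genLocus _ (isInvertible_restrict M hM (f ⁻¹ᵁ V.1))
      (restrSecLocal M (f ⁻¹ᵁ V.1) t) _ haff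
    rwa [inf_eq_right.2 hle] at h5

end Groth.Agent.Lib.Helper23.RelAmpleCounit
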