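import Mathlib
import Groth.Prelude.Def_RelProj3
import Groth.Agent.Lib.Helper18VAmpC
import Groth.Agent.Lib.Helper2RelTwistExist
import Groth.Agent.Lib.Helper2RelTwistTensor
import Groth.Agent.Lib.Helper23RestrTensor
import Groth.Agent.Lib.Helper23RelAmpleCounit
import Groth.Agent.Lib.Helper23FinTypeLocal
import Groth.Agent.Lib.Helper23LocGen
import Groth.Agent.Lib.Helper23CounitEpi

/-!
# Large twists on a relative Proj are generated by their direct images (helper18)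
-/

set_option autoImplicit false
universe u
open CategoryTheory CategoryTheory.Limits AlgebraicGeometry TopologicalSpace Opposite

namespace Groth.Agent.Helper18VAmp

open Groth.Agent.Lib.Helper23.RestrTensor Groth.Agent.Lib.Helper23.RelAmpleCounit
  Groth.Agent.Lib.Helper23.CounitEpi Groth.Agent.Lib.Helper23.AmpleIso

/-- **large twists by a relatively ample module are generated relative to the base**: the `⇒` half of the counit
criterion, with no separation hypotheses. -/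
theorem epi_counit_twist_eventually {X Y : Scheme.{u}} [CompactSpace X] (f : X ⟶ Y) [QuasiCompact f]
    (L : X.Modules) (hL : PicF.IsInvertible L) (h : RelAmple.IsRelAmple f L)
    (F : X.Modules) (hF : Coh.IsQCoh F) (hFT : CohB1.IsFT F) :
    ∃ n₀ : ℕ, ∀ n : ℕ, n₀ ≤ n →
      Epi ((Scheme.Modules.pullbackPushforwardAdjunction f).counit.app
        (CohB1.tensorMod F (CohB1.tensorPow L n))) := by
  have : F.IsQuasicoherent := hF
  have : SheafOfModules.IsFiniteType (R := X.ringCatSheaf) F := hFT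
  have key : ∀ V : Y.affineOpens, ∃ n₀ : ℕ, ∀ n, n₀ ≤ n →
      Curv2.IsGloballyGenerated ((CohB1.tensorMod F (CohB1.tensorPow L n)).restrict (f ⁻¹ᵁ V.1).ι) := by
    intro V
    have : (F.restrict (f ⁻¹ᵁ V.1).ι).IsQuasicoherent :=
      Scheme.Modules.isQuasicoherent_restrictFunctor (f ⁻¹ᵁ V.1).ι F
    have : SheafOfModules.IsFiniteType (R := ((f ⁻¹ᵁ V.1 : X.Opens) : Scheme.{u}).ringCatSheaf)
        (F.restrict (f ⁻¹ᵁ V.1).ι) :=
      Groth.Agent.Lib.Helper23.FinType.isFiniteType_restrict (f ⁻¹ᵁ V.1).ι F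
    obtain ⟨n₀, hn₀⟩ := Groth.Agent.Lib.Helper23.LocGen.isGloballyGenerated_twist_eventually
      (L.restrict (f ⁻¹ᵁ V.1).ι) (h.2 V) (F.restrict (f ⁻¹ᵁ V.1).ι)
    refine ⟨n₀, fun n hn => ?_⟩
    obtain ⟨e⟩ := nonempty_restrict_twist_iso F L hL (f ⁻¹ᵁ V.1) n
    exact isGloballyGenerated_of_iso e.symm (hn₀ n hn)
  choose N hN using key
  have hcov : ∀ x : X, ∃ V : Y.affineOpens, f x ∈ V.1 := by
    intro x
    obtain ⟨V, hV, hxV, -⟩ := Opens.isBasis_iff_nbhd.1 Y.isBasis_affineOpens (Opens.mem_top (f x))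
    exact ⟨⟨V, hV⟩, hxV⟩
  choose V hV using hcov
  obtain ⟨T, hT⟩ : ∃ T : Finset X, (Set.univ : Set X) ⊆ ⋃ x ∈ T, ((f ⁻¹ᵁ (V x).1 : X.Opens) : Set X) :=
    isCompact_univ.elim_finite_subcover (fun x => ((f ⁻¹ᵁ (V x).1 : X.Opens) : Set X))
      (fun x => (f ⁻¹ᵁ (V x).1).2) (fun x _ => Set.mem_iUnion.2 ⟨x, hV x⟩)
  refine ⟨T.sup fun x => N (V x), fun n hn => ?_⟩
  apply epi_counit_of_isGloballyGenerated f
  intro y
  obtain ⟨x, hx⟩ := Set.mem_iUnion.1 (hT (Set.mem_univ y))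
  obtain ⟨hxT, hyx⟩ := Set.mem_iUnion.1 hx
  exact ⟨(V x).1, hyx, hN (V x) n (le_trans (Finset.le_sup (f := fun x => N (V x)) hxT) hn)⟩

section relproj

variable {Y P : Scheme.{u}} (𝒮 : RelProj.QCGrAlg Y) (p : P ⟶ Y)
  (chart : ∀ (U : Y.Opens) (hU : IsAffineOpen U), (((p ⁻¹ᵁ U : P.Opens) : Scheme.{u}) ≅ Proj (𝒮.deg U hU)))

include chart in
/-- the relative Proj of an algebra generated by a degree-one part of finite type is quasi-compact over the base. -/
theorem quasiCompact_of_isGenDegOne_isFTDeg (hgen : 𝒮.IsGenDegOne) (hft : 𝒮.IsFTDeg 1) : QuasiCompact p := by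
  rw [quasiCompact_iff_forall_isAffineOpen]
  intro U hU
  obtain ⟨T, hT1, hT⟩ := hft U hU
  have hcov : ∀ y : ProjectiveSpectrum (𝒮.deg U hU), ∃ t ∈ T, t ∉ y.asHomogeneousIdeal := by
    intro y
    by_contra hcon
    push Not at hcon
    obtain ⟨g, hg, hgy⟩ := Groth.Agent.Lib.Helper2.RelTwistGen.exists_degOne_not_mem_of_gen
      (𝒮.deg U hU) (hgen U hU) y
    apply hgy
    obtain ⟨c, hc⟩ := hT g hg
    rw [hc]
    exact Ideal.sum_mem _ (fun t ht => Ideal.mul_mem_left _ _ (hcon t ht))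
  have hcomp : IsCompact (Set.univ : Set (Proj (𝒮.deg U hU))) := by
    have h1 : (Set.univ : Set (Proj (𝒮.deg U hU))) =
        ⋃ t ∈ T, ((Proj.basicOpen (𝒮.deg U hU) t : (Proj (𝒮.deg U hU)).Opens) :
          Set (Proj (𝒮.deg U hU))) := by
      apply Set.eq_of_subset_of_subset
      · intro y _
        obtain ⟨t, ht, hty⟩ := hcov y
        exact Set.mem_iUnion₂.2 ⟨t, ht, (ProjectiveSpectrum.mem_basicOpen _ t y).mpr hty⟩
      · exact Set.subset_univ _
    rw [h1]
    exact T.isCompact_biUnion (fun t ht =>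
      (Proj.isAffineOpen_basicOpen (𝒮.deg U hU) t (hT1 ht) one_pos).isCompact)
  have h2 : ((p ⁻¹ᵁ U : P.Opens) : Set P) = Set.range (RelProj.emb p chart U hU) := by
    apply le_antisymm
    · exact Groth.Agent.Lib.Helper2.RelTildeQCoh.le_opensRange_emb p chart U hU
    · exact Groth.Agent.Lib.Helper2.RelTwistGen.opensRange_emb_le p chart U hU
  rw [h2, ← Set.image_univ]
  exact hcomp.image (RelProj.emb p chart U hU).continuous

variable (hP : RelProj.IsRelProj 𝒮 p chart) (hgen : 𝒮.IsGenDegOne)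
  (O1 : P.Modules)
  (lam1 : ∀ (U : Y.Opens) (hU : IsAffineOpen U),
    O1 ⟶ (Scheme.Modules.pushforward (RelProj.emb p chart U hU)).obj (GrTwist.twist (𝒮.deg U hU) 1))
  (hO1 : RelProj.IsRelTwist 𝒮 p chart 1 O1 lam1)

include hP hgen hO1 in
/-- every twisting sheaf `O_P(k + 2)` is isomorphic to the tensor power `O_P(1)^{⊗ (k+2)}`. -/
theorem nonempty_tensorPow_iso_twist (k : ℕ) (d : ℤ) (hd : d = (k : ℤ) + 2) (L : P.Modules)
    (lam : ∀ (U : Y.Opens) (hU : IsAffineOpen U),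
      L ⟶ (Scheme.Modules.pushforward (RelProj.emb p chart U hU)).obj (GrTwist.twist (𝒮.deg U hU) d))
    (hL : RelProj.IsRelTwist 𝒮 p chart d L lam) :
    Nonempty (CohB1.tensorPow O1 (k + 2) ≅ L) := by
  induction k generalizing d L with
  | zero =>
    obtain rfl : d = 1 + 1 := by rw [hd]; norm_num
    obtain ⟨e2⟩ := Groth.Agent.Lib.Helper2.RelTwistTensor.nonempty_tensor_iso p chart hP hgen 1 1
      O1 lam1 hO1 O1 lam1 hO1 L lam hL
    have h2 : CohB1.tensorPow O1 (0 + 2) =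
        CohB1.tensorMod (CohB1.tensorMod (Coh.structureModule P) O1) O1 := rfl
    rw [h2]
    exact ⟨tensorModIso (Groth.Agent.Lib.Helper23.TensorUnit.unitTensorIso O1) (Iso.refl O1) ≪≫ e2⟩
  | succ k ih =>
    obtain ⟨L', lam', hL'⟩ := Groth.Agent.Lib.Helper2.RelTwistExist.exists_isRelTwist p chart hP
      ((k : ℤ) + 2)
    obtain ⟨e1⟩ := ih ((k : ℤ) + 2) rfl L' lam' hL'
    obtain rfl : d = ((k : ℤ) + 2) + 1 := by rw [hd]; push_cast; ring
    obtain ⟨e2⟩ := Groth.Agent.Lib.Helper2.RelTwistTensor.nonempty_tensor_iso p chart hP hgen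
      ((k : ℤ) + 2) 1 L' lam' hL' O1 lam1 hO1 L lam hL
    have h2 : CohB1.tensorPow O1 (k + 1 + 2) = CohB1.tensorMod (CohB1.tensorPow O1 (k + 2)) O1 := rfl
    rw [h2]
    exact ⟨tensorModIso e1 (Iso.refl O1) ≪≫ e2⟩

end relproj

end Groth.Agent.Helper18VAmp
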