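import Mathlib
import Groth.Prelude.Def_RelProj3
import Groth.Agent.Lib.Helper18VAmpH
import Groth.Agent.Lib.Helper18RelQuot
import Groth.Agent.Lib.Helper18TwistZero
import Groth.Agent.Lib.Helper23ResProp

/-!
# On a relative Proj, `F` is a quotient of `(p^* G)(-n)` for all large `n` (helper18)
-/

set_option autoImplicit false
universe u
open CategoryTheory CategoryTheory.Limits AlgebraicGeometry TopologicalSpace Opposite

namespace Groth.Agent.Helper18RelQuot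

open Groth.Agent.Lib.Helper23.AmpleIso Groth.Agent.Helper18VAmp Groth.Agent.Lib.Helper23.ResProp

variable {Y P : Scheme.{u}} (𝒮 : RelProj.QCGrAlg Y) (p : P ⟶ Y)
  (chart : ∀ (U : Y.Opens) (hU : IsAffineOpen U), (((p ⁻¹ᵁ U : P.Opens) : Scheme.{u}) ≅ Proj (𝒮.deg U hU)))

/-- **EGA II 4.6.8 / 3.4.?**: on `P = Proj 𝒮` over a quasi-compact quasi-separated base, with `𝒮` generated by `𝒮₁` of finite
type, every quasi-coherent `F` of finite type is a quotient of `(p^* G)(-n)` for all large `n`. -/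
theorem exists_epi_pullback_negTwist (hP : RelProj.IsRelProj 𝒮 p chart) [CompactSpace Y] [QuasiSeparatedSpace Y]
    (hgen : 𝒮.IsGenDegOne) (hft : 𝒮.IsFTDeg 1) (F : P.Modules) (hFq : Coh.IsQCoh F) (hFt : CohB1.IsFT F) :
    ∃ n₀ : ℤ, ∀ (n : ℤ), n₀ ≤ n → ∀ (L : P.Modules)
      (lam : ∀ (U : Y.Opens) (hU : IsAffineOpen U),
      L ⟶ (Scheme.Modules.pushforward (RelProj.emb p chart U hU)).obj (GrTwist.twist (𝒮.deg U hU) (-n))),
      RelProj.IsRelTwist 𝒮 p chart (-n) L lam →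
        ∃ (G : Y.Modules) (π : CohB1.tensorMod ((Scheme.Modules.pullback p).obj G) L ⟶ F),
          Coh.IsQCoh G ∧ CohB1.IsFT G ∧ Epi π := by
  have : QuasiCompact p := quasiCompact_of_isGenDegOne_isFTDeg 𝒮 p chart hgen hft
  obtain ⟨O1, lam1, hO1⟩ := Groth.Agent.Lib.Helper2.RelTwistExist.exists_isRelTwist p chart hP 1
  have hcov : ∀ (V : Y.Opens) (hV : IsAffineOpen V) (y : ProjectiveSpectrum (𝒮.deg V hV)),
      ∃ a ∈ 𝒮.deg V hV 1, a ∉ y.asHomogeneousIdeal := fun V hV y =>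
    Groth.Agent.Lib.Helper2.RelTwistGen.exists_degOne_not_mem_of_gen (𝒮.deg V hV) (hgen V hV) y
  have hO1' : RelProj.IsRelTwist 𝒮 p chart ((1 : ℕ) : ℤ) O1 lam1 := hO1
  have hamp0 := isRelAmple_pullback_of_isEmbedding p 𝒮 P p chart O1 lam1 hgen hO1 (𝟙 P)
    (Category.id_comp p) Topology.IsEmbedding.id
  have hamp : RelAmple.IsRelAmple p O1 :=
    ⟨hamp0.1, fun V => isAmple_of_iso
      ((Scheme.Modules.restrictFunctor _).mapIso ((Scheme.Modules.pullbackId P).app O1)) (hamp0.2 V)⟩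
  obtain ⟨n₁, hn₁⟩ := exists_epi_pullback_twist p O1 hamp F hFq hFt
  refine ⟨max (n₁ : ℤ) 2, fun n hn L lam hL => ?_⟩
  obtain ⟨k, rfl⟩ : ∃ k : ℕ, n = (k : ℤ) + 2 := ⟨(n - 2).toNat, by omega⟩
  obtain ⟨Ln, lamn, hLn⟩ := Groth.Agent.Lib.Helper2.RelTwistExist.exists_isRelTwist p chart hP ((k : ℤ) + 2)
  obtain ⟨e1⟩ := nonempty_tensorPow_iso_twist 𝒮 p chart hP hgen O1 lam1 hO1 k _ rfl Ln lamn hLn
  obtain ⟨L0, lam0, hL0⟩ := Groth.Agent.Lib.Helper2.RelTwistExist.exists_isRelTwist p chart hP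
    (((k : ℤ) + 2) + (-((k : ℤ) + 2)))
  obtain ⟨e2⟩ := Groth.Agent.Lib.Helper2.RelTwistTensor.nonempty_tensor_iso p chart hP hgen
    ((k : ℤ) + 2) (-((k : ℤ) + 2)) Ln lamn hLn L lam hL L0 lam0 hL0
  obtain ⟨e3⟩ := Groth.Agent.Helper18TwistZero.nonempty_iso_structureModule' p chart hP hgen _ (by ring)
    L0 lam0 hL0
  obtain ⟨G, φ, hGq, hGf, hφ⟩ := hn₁ (k + 2) (by omega)
  have := hφ
  exact ⟨G, untwist φ (tensorModIso e1 (Iso.refl L) ≪≫ e2 ≪≫ e3), hGq, hGf, inferInstance⟩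

end Groth.Agent.Helper18RelQuot
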