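import Mathlib
import Groth.Prelude
import Groth.Agent.Lib.Helper21ModTensor3
import Groth.Agent.Lib.Helper23ResProp
import Groth.Agent.Lib.Helper1Sky9
set_option backward.isDefEq.respectTransparency.types false

/-!
# The resolution property along a morphism with a generating family (helper18)
-/

set_option autoImplicit false
universe u
open CategoryTheory CategoryTheory.Limits AlgebraicGeometry TopologicalSpace Opposite

namespace Groth.Agent.Helper18ResFam

/-- a functor preserving a coproduct and epimorphisms carries a jointly epimorphic presentation to a jointly epimorphic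
family. -/
theorem eq_of_map_ι_comp {C D : Type*} [Category C] [Category D] (Φ : C ⥤ D) {κ : Type*} (V : κ → C)
    [HasCoproduct V] [PreservesColimit (Discrete.functor V) Φ] [Φ.PreservesEpimorphisms]
    {N : C} (p : (∐ V) ⟶ N) [Epi p] {Z : D} (g h : Φ.obj N ⟶ Z)
    (H : ∀ l, Φ.map (Sigma.ι V l ≫ p) ≫ g = Φ.map (Sigma.ι V l ≫ p) ≫ h) : g = h := by
  rw [← cancel_epi (Φ.map p)]
  refine (isColimitOfPreserves Φ (coproductIsCoproduct V)).hom_ext (fun ⟨l⟩ => ?_)
  have := H l
  rw [Functor.map_comp, Category.assoc, Category.assoc] at this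
  exact this

variable {X Y : Scheme.{u}}

/-- `W ⊗ -` as a functor on `X.Modules`. -/
noncomputable abbrev tLX (W : X.Modules) : X.Modules ⥤ X.Modules := DCoh.tensorBi.obj W

instance (W : X.Modules) : PreservesColimitsOfSize.{u, u} (tLX W) :=
  inferInstanceAs (PreservesColimitsOfSize.{u, u}
    (Groth.Agent.Lib.Helper21.ModTensor3.tL X.sheaf (W : ModSite.Mod X.sheaf)))

theorem tLX_obj (W A : X.Modules) : (tLX W).obj A = CohB1.tensorMod W A := rfl

/-- `A ↦ W ⊗ f^* A`. -/
noncomputable abbrev Φ (f : X ⟶ Y) (W : X.Modules) : Y.Modules ⥤ X.Modules :=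
  Scheme.Modules.pullback f ⋙ tLX W

theorem Φ_obj (f : X ⟶ Y) (W : X.Modules) (A : Y.Modules) :
    (Φ f W).obj A = CohB1.tensorMod W ((Scheme.Modules.pullback f).obj A) := rfl

instance (f : X ⟶ Y) (W : X.Modules) : PreservesColimitsOfSize.{u, u} (Φ f W) := by
  haveI : PreservesColimitsOfSize.{u, u} (Scheme.Modules.pullback f) :=
    (Scheme.Modules.pullbackPushforwardAdjunction f).leftAdjoint_preservesColimits
  exact inferInstance

instance (f : X ⟶ Y) (W : X.Modules) : (Φ f W).PreservesEpimorphisms := by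
  haveI : PreservesFiniteColimits (Φ f W) := PreservesColimitsOfSize.preservesFiniteColimits.{u, u} _
  exact inferInstance

/-- the abstract form, with the modules `W ⊗ f^* N` written through the functor `Φ`. -/
theorem resolution_aux (f : X ⟶ Y) {ι : Type u} (W : ι → X.Modules)
    (M : X.Modules) (κ : Type u) (j : κ → ι) (N : κ → Y.Modules)
    (π : (∐ fun k => (Φ f (W (j k))).obj (N k)) ⟶ M) [Epi π]
    (κ' : κ → Type u) (V : ∀ k, κ' k → Y.Modules) (p : ∀ k, (∐ V k) ⟶ N k) [∀ k, Epi (p k)] :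
    ∃ (π' : (∐ fun a : (Σ k, κ' k) => (Φ f (W (j a.1))).obj (V a.1 a.2)) ⟶ M), Epi π' := by
  let c : ∀ a : (Σ k, κ' k), (Φ f (W (j a.1))).obj (V a.1 a.2) ⟶ M := fun a =>
    (Φ f (W (j a.1))).map (Sigma.ι (V a.1) a.2 ≫ p a.1) ≫
      Sigma.ι (fun k => (Φ f (W (j k))).obj (N k)) a.1 ≫ π
  refine ⟨Sigma.desc c, ⟨fun {Z} g h hgh => ?_⟩⟩
  rw [← cancel_epi π]
  apply Sigma.hom_ext
  intro k
  refine eq_of_map_ι_comp (Φ f (W (j k))) (V k) (p k) _ _ (fun l => ?_)
  have h1 : Sigma.ι (fun a : (Σ k, κ' k) => (Φ f (W (j a.1))).obj (V a.1 a.2)) ⟨k, l⟩ ≫ Sigma.desc c ≫ g =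
      Sigma.ι (fun a : (Σ k, κ' k) => (Φ f (W (j a.1))).obj (V a.1 a.2)) ⟨k, l⟩ ≫ Sigma.desc c ≫ h := by
    rw [hgh]
  rw [← Category.assoc, ← Category.assoc, Sigma.ι_desc] at h1
  simpa only [c, Category.assoc] using h1

/-- **the resolution property passes along an `f`-generating family of finite locally free modules.** -/
theorem resolution_of_generating (f : X ⟶ Y)
    (hY : ∀ N : Y.Modules, Coh.IsQCoh N →
      ∃ (κ : Type u) (V : κ → Y.Modules) (π : (∐ V) ⟶ N), (∀ k, FlatMod.IsFinLocFree (V k)) ∧ Epi π)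
    {ι : Type u} (W : ι → X.Modules) (hW : ∀ i, FlatMod.IsFinLocFree (W i))
    (hf : ∀ M : X.Modules, Coh.IsQCoh M →
      ∃ (κ : Type u) (j : κ → ι) (N : κ → Y.Modules)
        (π : (∐ fun k => CohB1.tensorMod (W (j k)) ((Scheme.Modules.pullback f).obj (N k))) ⟶ M),
        (∀ k, Coh.IsQCoh (N k)) ∧ Epi π) :
    ∀ M : X.Modules, Coh.IsQCoh M →
      ∃ (κ : Type u) (E : κ → X.Modules) (π : (∐ E) ⟶ M), (∀ k, FlatMod.IsFinLocFree (E k)) ∧ Epi π := by
  intro M hM
  obtain ⟨κ, j, N, π, hN, hπ⟩ := hf M hM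
  choose κ' V p hV hp using fun k => hY (N k) (hN k)
  haveI := hp
  obtain ⟨π', hπ'⟩ := @resolution_aux _ _ f ι W M κ j N π hπ κ' V p hp
  refine ⟨Σ k, κ' k, _, π', fun a => ?_, hπ'⟩
  exact Groth.Agent.Lib.Helper23.ResProp.isFinLocFree_tensorMod _ _ (hW _)
    (Groth.Agent.Lib.Helper1.Sky.isFinLocFree_pullback f _ (hV a.1 a.2))

end Groth.Agent.Helper18ResFam
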