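import Mathlib
import Groth.Prelude.Def_MultCurve
import Groth.Agent.Lib.Helper22ThickAffine
import Groth.Agent.Lib.Helper12EffCartier

set_option autoImplicit false
set_option linter.style.haveILetI false
set_option linter.unusedSectionVars false
set_option linter.unusedVariables false
universe u
open CategoryTheory AlgebraicGeometry Limits TopologicalSpace Opposite

namespace Groth.Agent.Helper18Rib

section alg

/-- square-zero Nakayama for surjectivity. -/
theorem surjective_of_sq_zero {A B B' : Type*} [CommRing A] [CommRing B] [CommRing B']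
    (φ : A →+* B) (ψ : B →+* B') (hψφ : Function.Surjective (ψ.comp φ))
    (hk : RingHom.ker ψ = (RingHom.ker (ψ.comp φ)).map φ) (hsq : (RingHom.ker ψ) ^ 2 = ⊥) :
    Function.Surjective φ := by
  have key : ∀ x ∈ (RingHom.ker (ψ.comp φ)).map φ, x ∈ Set.range φ ∧ x ∈ RingHom.ker ψ := by
    intro x hx
    refine Submodule.span_induction ?_ ?_ ?_ ?_ hx
    · rintro _ ⟨j, hj, rfl⟩
      exact ⟨⟨j, rfl⟩, hj⟩
    · exact ⟨⟨0, map_zero _⟩, Ideal.zero_mem _⟩
    · rintro x y _ _ ⟨⟨a, rfl⟩, hx⟩ ⟨⟨b, rfl⟩, hy⟩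
      exact ⟨⟨a + b, map_add _ _ _⟩, Ideal.add_mem _ hx hy⟩
    · rintro b' x _ ⟨⟨a, rfl⟩, hx⟩
      obtain ⟨a', ha'⟩ := hψφ (ψ b')
      have hn : b' - φ a' ∈ RingHom.ker ψ := by
        rw [RingHom.mem_ker, map_sub, sub_eq_zero]
        exact ha'.symm
      have h0 : (b' - φ a') * φ a = 0 := by
        have : (b' - φ a') * φ a ∈ (RingHom.ker ψ) ^ 2 := by
          rw [pow_two]
          exact Ideal.mul_mem_mul hn hx
        rw [hsq] at this
        exact (Submodule.mem_bot _).mp this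
      refine ⟨⟨a' * a, ?_⟩, Ideal.mul_mem_left _ _ hx⟩
      rw [map_mul, smul_eq_mul]
      have : b' * φ a = (b' - φ a') * φ a + φ a' * φ a := by ring
      rw [this, h0, zero_add]
  intro b
  obtain ⟨a, ha⟩ := hψφ (ψ b)
  have hn : b - φ a ∈ RingHom.ker ψ := by
    rw [RingHom.mem_ker, map_sub, sub_eq_zero]
    exact ha.symm
  rw [hk] at hn
  obtain ⟨⟨c, hc⟩, -⟩ := key _ hn
  exact ⟨c + a, by rw [map_add, hc]; ring⟩

end alg

section main
variable {D C X : Scheme.{u}} (i : D ⟶ C) (f : C ⟶ X)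

theorem comap_ker_eq_of_isClosedImmersion [IsClosedImmersion i] [IsClosedImmersion f] :
    (i ≫ f).ker.comap f = i.ker := by
  rw [← Scheme.IdealSheafData.ker_fst_of_isClosedImmersion (i ≫ f) f]
  have hpb : IsPullback i (𝟙 D) f (i ≫ f) := by
    refine IsPullback.of_isLimit' ⟨by simp⟩ (PullbackCone.IsLimit.mk _ (fun s => s.snd) ?_ ?_ ?_)
    · intro s
      rw [← cancel_mono f, Category.assoc]
      exact s.condition.symm
    · intro s
      simp
    · intro s m h1 h2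
      simpa using h2
  have h1 : hpb.isoPullback.hom ≫ pullback.fst f (i ≫ f) = i := hpb.isoPullback_hom_fst
  rw [← Scheme.Hom.ker_comp_of_isIso hpb.isoPullback.hom (pullback.fst f (i ≫ f)), h1]

theorem surjective_of_sq_zero_ker [IsClosedImmersion i] (hsq : i.ker ^ 2 = ⊥) :
    Function.Surjective i := by
  have h1 : i.ker.support = ⊤ := by
    rw [← i.ker.support_pow 2 (by norm_num), hsq, Scheme.IdealSheafData.support_bot]
  have h2 : (i.ker.support : Set C) = closure (Set.range i) := Scheme.Hom.support_ker i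
  rw [h1, i.isClosedEmbedding.isClosed_range.closure_eq] at h2
  rw [← Set.range_eq_univ]
  exact h2.symm

theorem isClosedImmersion_of_comap_ker_eq [IsClosedImmersion i] (hsq : i.ker ^ 2 = ⊥)
    [IsClosedImmersion (i ≫ f)] (hc : (i ≫ f).ker.comap f = i.ker) : IsClosedImmersion f := by
  have hisurj := surjective_of_sq_zero_ker i hsq
  haveI : Surjective i := ⟨hisurj⟩
  have haff : ∀ U : X.Opens, IsAffineOpen U → IsAffineOpen (f ⁻¹ᵁ U) := by
    intro U hU
    have h1 : IsAffineOpen ((i ≫ f) ⁻¹ᵁ U) := hU.preimage (i ≫ f)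
    have h2 : IsAffineOpen (i ⁻¹ᵁ (f ⁻¹ᵁ U)) := h1
    haveI : IsAffine ↑(i ⁻¹ᵁ (f ⁻¹ᵁ U)) := h2
    haveI : Surjective (i ∣_ (f ⁻¹ᵁ U)) := IsZariskiLocalAtTarget.restrict ‹Surjective i› _
    exact Groth.Agent.Lib.Helper22.ThickAffine.isAffine_of_thickening (i ∣_ (f ⁻¹ᵁ U))
      (i ∣_ (f ⁻¹ᵁ U)).surjective
  rw [isClosedImmersion_iff_isAffineHom]
  refine ⟨(isAffineHom_iff _).mpr haff, fun U hU => ?_⟩
  have hV := haff U hU
  have hgs : Function.Surjective ((i ≫ f).app U) := (i ≫ f).app_surjective U hU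
  have hcomp : (i ≫ f).app U = f.app U ≫ i.app (f ⁻¹ᵁ U) := rfl
  refine surjective_of_sq_zero (f.app U).hom (i.app (f ⁻¹ᵁ U)).hom ?_ ?_ ?_
  · rw [← CommRingCat.hom_comp, ← hcomp]
    exact hgs
  · have hki : RingHom.ker (i.app (f ⁻¹ᵁ U)).hom = i.ker.ideal ⟨f ⁻¹ᵁ U, hV⟩ :=
      (Scheme.Hom.ker_apply i ⟨f ⁻¹ᵁ U, hV⟩).symm
    have hkg : RingHom.ker ((i ≫ f).app U).hom = (i ≫ f).ker.ideal ⟨U, hU⟩ :=
      (Scheme.Hom.ker_apply (i ≫ f) ⟨U, hU⟩).symm
    have h3 := Groth.Agent.Lib.Helper12.EffCartier.ideal_comap_of_le f (i ≫ f).ker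
      ⟨f ⁻¹ᵁ U, hV⟩ ⟨U, hU⟩ le_rfl
    rw [hc] at h3
    rw [← CommRingCat.hom_comp, ← hcomp, hki]
    refine h3.trans ?_
    rw [Scheme.Hom.app_eq_appLE]
    exact congrArg (Ideal.map (f.appLE U (f ⁻¹ᵁ U) le_rfl).hom) hkg.symm
  · have hki : RingHom.ker (i.app (f ⁻¹ᵁ U)).hom = i.ker.ideal ⟨f ⁻¹ᵁ U, hV⟩ :=
      (Scheme.Hom.ker_apply i ⟨f ⁻¹ᵁ U, hV⟩).symm
    rw [hki]
    have := congrArg (fun J => J.ideal ⟨f ⁻¹ᵁ U, hV⟩) hsq
    simpa using this

theorem main_S18343 (hR : MultCurve.IsRibbon i) :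
    IsClosedImmersion f ↔ (IsClosedImmersion (i ≫ f) ∧ (i ≫ f).ker.comap f = i.ker) := by
  obtain ⟨⟨hi, hsq, -⟩, -⟩ := hR
  haveI := hi
  constructor
  · intro hf
    haveI := hf
    exact ⟨inferInstance, comap_ker_eq_of_isClosedImmersion i f⟩
  · rintro ⟨hg, hc⟩
    haveI := hg
    exact isClosedImmersion_of_comap_ker_eq i f hsq hc

end main

end Groth.Agent.Helper18Rib
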