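import Mathlib

set_option autoImplicit false

universe w v u
open CategoryTheory CategoryTheory.Limits

namespace Groth.Agent.Lib.Helper18Roofs

variable {A : Type u} [Category.{v} A] [Abelian A] [HasDerivedCategory.{w} A]

lemma Qh_map_quotient {X Y : CochainComplex A ℤ} (f : X ⟶ Y) :
    DerivedCategory.Qh.map ((HomotopyCategory.quotient A (ComplexShape.up ℤ)).map f) =
      DerivedCategory.Q.map f := rfl

theorem main (K L : HomotopyCategory A (ComplexShape.up ℤ)) (a b : ℤ) [CochainComplex.IsStrictlyLE K.as a] [CochainComplex.IsStrictlyLE L.as b] :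
    (∀ φ : DerivedCategory.Qh.obj K ⟶ DerivedCategory.Qh.obj L,
      ∃ (K' : HomotopyCategory A (ComplexShape.up ℤ)) (n : ℤ) (_ : CochainComplex.IsStrictlyLE K'.as n) (s : K' ⟶ K) (f : K' ⟶ L),
        HomotopyCategory.quasiIso A (ComplexShape.up ℤ) s ∧ DerivedCategory.Qh.map s ≫ φ = DerivedCategory.Qh.map f) ∧
    (∀ f₁ f₂ : K ⟶ L, DerivedCategory.Qh.map f₁ = DerivedCategory.Qh.map f₂ →
      ∃ (K' : HomotopyCategory A (ComplexShape.up ℤ)) (n : ℤ) (_ : CochainComplex.IsStrictlyLE K'.as n) (s : K' ⟶ K),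
        HomotopyCategory.quasiIso A (ComplexShape.up ℤ) s ∧ s ≫ f₁ = s ≫ f₂) := by
  constructor
  · intro φ
    let φ' : DerivedCategory.Q.obj K.as ⟶ DerivedCategory.Q.obj L.as := φ
    obtain ⟨X', hX', s, hs, g, hg⟩ := DerivedCategory.right_fac_of_isStrictlyLE φ' a
    refine ⟨(HomotopyCategory.quotient A _).obj X', a, hX',
      (HomotopyCategory.quotient A _).map s, (HomotopyCategory.quotient A _).map g, ?_, ?_⟩
    · exact (HomotopyCategory.quotient_map_mem_quasiIso_iff s).2
        ((HomologicalComplex.mem_quasiIso_iff s).2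
          ((DerivedCategory.isIso_Q_map_iff_quasiIso (C := A) s).1 hs))
    · show DerivedCategory.Q.map s ≫ φ' = DerivedCategory.Q.map g
      rw [hg]
      simp
  · intro f₁ f₂ h
    obtain ⟨X, s, hs, hsf⟩ := (MorphismProperty.map_eq_iff_precomp DerivedCategory.Qh
      (HomotopyCategory.quasiIso A (ComplexShape.up ℤ)) f₁ f₂).1 h
    obtain ⟨s₀, rfl⟩ := (HomotopyCategory.quotient A (ComplexShape.up ℤ)).map_surjective
      (X := X.as) (Y := K.as) s
    replace hs : QuasiIso s₀ := (HomologicalComplex.mem_quasiIso_iff s₀).1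
      ((HomotopyCategory.quotient_map_mem_quasiIso_iff s₀).1 hs)
    have h1 : QuasiIso (CochainComplex.truncLEMap s₀ a) := by
      rw [CochainComplex.quasiIso_truncLEMap_iff]
      infer_instance
    have h2 : QuasiIso (CochainComplex.ιTruncLE X.as a ≫ s₀) := by
      rw [← CochainComplex.ιTruncLE_naturality]
      infer_instance
    have h3 : CochainComplex.IsStrictlyLE
        ((HomotopyCategory.quotient A (ComplexShape.up ℤ)).obj (CochainComplex.truncLE X.as a)).as a :=
      (inferInstance : CochainComplex.IsStrictlyLE (CochainComplex.truncLE X.as a) a)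
    refine ⟨(HomotopyCategory.quotient A _).obj (CochainComplex.truncLE X.as a), a, h3,
      (HomotopyCategory.quotient A _).map (CochainComplex.ιTruncLE X.as a ≫ s₀), ?_, ?_⟩
    · exact (HomotopyCategory.quotient_map_mem_quasiIso_iff _).2
        ((HomologicalComplex.mem_quasiIso_iff _).2 h2)
    · rw [Functor.map_comp]
      erw [Category.assoc, Category.assoc, hsf]
      rfl

end Groth.Agent.Lib.Helper18Roofs
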