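import Mathlib

set_option autoImplicit false
set_option linter.unusedSectionVars false

universe w v u
open CategoryTheory CategoryTheory.Limits

namespace Groth.Agent.Lib.Helper18Roofs2

variable {A : Type u} [Category.{v} A] [Abelian A] [HasDerivedCategory.{w} A]

local notation "q" => HomotopyCategory.quotient A (ComplexShape.up ℤ)

lemma quasiIso_quotient_map {X Y : CochainComplex A ℤ} (f : X ⟶ Y) :
    HomotopyCategory.quasiIso A (ComplexShape.up ℤ) ((q).map f) ↔ QuasiIso f :=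
  (HomotopyCategory.quotient_map_mem_quasiIso_iff f).trans (HomologicalComplex.mem_quasiIso_iff f)

theorem part1 (K L : HomotopyCategory A (ComplexShape.up ℤ)) (a b a' b' : ℤ)
    [CochainComplex.IsStrictlyGE K.as a] [CochainComplex.IsStrictlyLE K.as b]
    [CochainComplex.IsStrictlyGE L.as a'] [CochainComplex.IsStrictlyLE L.as b']
    (φ : DerivedCategory.Qh.obj K ⟶ DerivedCategory.Qh.obj L) :
      ∃ (L' : HomotopyCategory A (ComplexShape.up ℤ)) (m n : ℤ) (_ : CochainComplex.IsStrictlyGE L'.as m) (_ : CochainComplex.IsStrictlyLE L'.as n) (f : K ⟶ L') (t : L ⟶ L'),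
        HomotopyCategory.quasiIso A (ComplexShape.up ℤ) t ∧ φ ≫ DerivedCategory.Qh.map t = DerivedCategory.Qh.map f := by
  have : CochainComplex.IsStrictlyLE K.as (max b b') :=
    CochainComplex.isStrictlyLE_of_le K.as b _ (le_max_left _ _)
  have : CochainComplex.IsStrictlyLE L.as (max b b') :=
    CochainComplex.isStrictlyLE_of_le L.as b' _ (le_max_right _ _)
  let φ' : DerivedCategory.Q.obj K.as ⟶ DerivedCategory.Q.obj L.as := φ
  obtain ⟨Y', h1, h2, g, s, hs, hg⟩ :=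
    DerivedCategory.left_fac_of_isStrictlyLE_of_isStrictlyGE a' (max b b') φ'
  refine ⟨(q).obj Y', a', max b b', h1, h2, (q).map g, (q).map s, ?_, ?_⟩
  · exact (quasiIso_quotient_map s).2 ((DerivedCategory.isIso_Q_map_iff_quasiIso (C := A) s).1 hs)
  · show φ' ≫ DerivedCategory.Q.map s = DerivedCategory.Q.map g
    rw [hg]
    simp


lemma isLE_of_acyclic (X : CochainComplex A ℤ) (hX : X.Acyclic) (n : ℤ) : X.IsLE n := by
  rw [CochainComplex.isLE_iff]
  intro i _
  exact hX i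

lemma isGE_of_acyclic (X : CochainComplex A ℤ) (hX : X.Acyclic) (n : ℤ) : X.IsGE n := by
  rw [CochainComplex.isGE_iff]
  intro i _
  exact hX i

theorem part2 (K L : CochainComplex A ℤ) (a b a' b' : ℤ)
    [K.IsStrictlyGE a] [K.IsStrictlyLE b] [L.IsStrictlyGE a'] [L.IsStrictlyLE b']
    (f₁ f₂ : (q).obj K ⟶ (q).obj L) (h : DerivedCategory.Qh.map f₁ = DerivedCategory.Qh.map f₂) :
      ∃ (L' : CochainComplex A ℤ) (m n : ℤ) (_ : L'.IsStrictlyGE m) (_ : L'.IsStrictlyLE n)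
        (t : L ⟶ L'), QuasiIso t ∧ f₁ ≫ (q).map t = f₂ ≫ (q).map t := by
  obtain ⟨Y, t, ht, hft⟩ := (MorphismProperty.map_eq_iff_postcomp DerivedCategory.Qh
    (HomotopyCategory.quasiIso A (ComplexShape.up ℤ)) f₁ f₂).1 h
  rw [HomotopyCategory.quasiIso_eq_trW_subcategoryAcyclic, ObjectProperty.trW_iff'] at ht
  obtain ⟨C', i, δ, hT, hC'⟩ := ht
  obtain ⟨C', rfl⟩ := C'.quotient_obj_surjective
  have hz : (f₁ - f₂) ≫ t = 0 := by rw [Preadditive.sub_comp, hft, sub_self]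
  obtain ⟨g, hg⟩ : ∃ g : (q).obj K ⟶ (q).obj C', f₁ - f₂ = g ≫ i :=
    Pretriangulated.Triangle.coyoneda_exact₂ _ hT (f₁ - f₂) hz
  obtain ⟨g₀, rfl⟩ := (q).map_surjective g
  obtain ⟨i₀, rfl⟩ := (q).map_surjective i
  have hacyc : C'.Acyclic :=
    (HomotopyCategory.quotient_obj_mem_subcategoryAcyclic_iff_acyclic C').1 hC'
  have : K.IsStrictlyLE (max b b') := K.isStrictlyLE_of_le b _ (le_max_left _ _)
  have : L.IsStrictlyLE (max b b') := L.isStrictlyLE_of_le b' _ (le_max_right _ _)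
  generalize max b b' = B at *
  let C₁ : CochainComplex A ℤ := CochainComplex.truncLE C' B
  obtain ⟨g₁, hg₁⟩ : ∃ g₁ : K ⟶ C₁, g₁ ≫ CochainComplex.ιTruncLE C' B = g₀ :=
    ⟨inv (K.ιTruncLE B) ≫ CochainComplex.truncLEMap g₀ B, by
      simp [C₁, CochainComplex.ιTruncLE_naturality]⟩
  let i₁ : C₁ ⟶ L := CochainComplex.ιTruncLE C' B ≫ i₀
  have hC₁ : C₁.Acyclic := by
    have := isGE_of_acyclic C' hacyc (B + 1)
    exact (CochainComplex.acyclic_truncLE_iff C' B (B + 1) rfl).2 inferInstance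
  let C₂ : CochainComplex A ℤ := CochainComplex.truncGE C₁ a'
  have hC₂ : C₂.Acyclic := by
    have := isLE_of_acyclic C₁ hC₁ (a' - 1)
    exact (CochainComplex.acyclic_truncGE_iff C₁ (a' - 1) a' (by omega)).2 inferInstance
  let g₂ : K ⟶ C₂ := g₁ ≫ C₁.πTruncGE a'
  obtain ⟨i₂, hi₂⟩ : ∃ i₂ : C₂ ⟶ L, C₁.πTruncGE a' ≫ i₂ = i₁ :=
    ⟨CochainComplex.truncGEMap i₁ a' ≫ inv (L.πTruncGE a'), by
      rw [← Category.assoc, CochainComplex.πTruncGE_naturality, Category.assoc,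
        IsIso.hom_inv_id, Category.comp_id]⟩
  have hgi : g₂ ≫ i₂ = g₀ ≫ i₀ := by
    rw [Category.assoc, hi₂, ← hg₁, Category.assoc]
  have hC₂LE : C₂.IsStrictlyLE B := inferInstance
  have hC₂GE : C₂.IsStrictlyGE a' := inferInstance
  let L' : CochainComplex A ℤ := CochainComplex.mappingCone i₂
  have hL'GE : L'.IsStrictlyGE (a' - 1) := by
    rw [CochainComplex.isStrictlyGE_iff]
    intro j hj
    rw [CochainComplex.mappingCone.isZero_X_iff]
    exact ⟨C₂.isZero_of_isStrictlyGE a' _ (by omega), L.isZero_of_isStrictlyGE a' _ (by omega)⟩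
  have hL'LE : L'.IsStrictlyLE B := by
    rw [CochainComplex.isStrictlyLE_iff]
    intro j hj
    rw [CochainComplex.mappingCone.isZero_X_iff]
    exact ⟨C₂.isZero_of_isStrictlyLE B _ (by omega), L.isZero_of_isStrictlyLE B _ (by omega)⟩
  have hdist := HomotopyCategory.mappingCone_triangleh_distinguished i₂
  refine ⟨L', a' - 1, B, hL'GE, hL'LE, CochainComplex.mappingCone.inr i₂, ?_, ?_⟩
  · rw [← quasiIso_quotient_map, HomotopyCategory.quasiIso_eq_trW_subcategoryAcyclic]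
    exact ObjectProperty.trW.mk' _ hdist
      ((HomotopyCategory.quotient_obj_mem_subcategoryAcyclic_iff_acyclic C₂).2 hC₂)
  · have hg' : f₁ - f₂ = (q).map g₂ ≫ (q).map i₂ := by
      rw [hg, ← Functor.map_comp, ← Functor.map_comp, hgi]
    rw [← sub_eq_zero, ← Preadditive.sub_comp, hg', Category.assoc]
    have : (q).map i₂ ≫ (q).map (CochainComplex.mappingCone.inr i₂) = 0 :=
      Pretriangulated.comp_distTriang_mor_zero₁₂ _ hdist
    rw [this, comp_zero]

theorem main (K L : HomotopyCategory A (ComplexShape.up ℤ)) (a b a' b' : ℤ) [CochainComplex.IsStrictlyGE K.as a] [CochainComplex.IsStrictlyLE K.as b]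
    [CochainComplex.IsStrictlyGE L.as a'] [CochainComplex.IsStrictlyLE L.as b'] :
    (∀ φ : DerivedCategory.Qh.obj K ⟶ DerivedCategory.Qh.obj L,
      ∃ (L' : HomotopyCategory A (ComplexShape.up ℤ)) (m n : ℤ) (_ : CochainComplex.IsStrictlyGE L'.as m) (_ : CochainComplex.IsStrictlyLE L'.as n) (f : K ⟶ L') (t : L ⟶ L'),
        HomotopyCategory.quasiIso A (ComplexShape.up ℤ) t ∧ φ ≫ DerivedCategory.Qh.map t = DerivedCategory.Qh.map f) ∧
    (∀ f₁ f₂ : K ⟶ L, DerivedCategory.Qh.map f₁ = DerivedCategory.Qh.map f₂ →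
      ∃ (L' : HomotopyCategory A (ComplexShape.up ℤ)) (m n : ℤ) (_ : CochainComplex.IsStrictlyGE L'.as m) (_ : CochainComplex.IsStrictlyLE L'.as n) (t : L ⟶ L'),
        HomotopyCategory.quasiIso A (ComplexShape.up ℤ) t ∧ f₁ ≫ t = f₂ ≫ t) := by
  refine ⟨part1 K L a b a' b', fun f₁ f₂ h => ?_⟩
  obtain ⟨L', m, n, h1, h2, t, ht, hf⟩ := part2 K.as L.as a b a' b' f₁ f₂ h
  exact ⟨(q).obj L', m, n, h1, h2, (q).map t, (quasiIso_quotient_map t).2 ht, hf⟩

end Groth.Agent.Lib.Helper18Roofs2
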