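import Mathlib

set_option autoImplicit false
set_option linter.style.haveILetI false
universe u

open CategoryTheory AlgebraicGeometry Polynomial

namespace Groth.Agent.Helper18SEt

/-- A standard étale algebra `S` over `R` receives an `R`-algebra map from
`(R[t]/p)[1/p']`, `p` monic, inducing an open immersion on spectra. -/
theorem exists_chart_ring {R S : Type u} [CommRing R] [CommRing S] [Algebra R S]
    [Algebra.IsStandardEtale R S] :
    ∃ (p : Polynomial R) (_ : p.Monic)
      (α : Localization.Away (AdjoinRoot.mk p (derivative p)) →ₐ[R] S),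
      IsOpenImmersion (Spec.map (CommRingCat.ofHom α.toRingHom)) := by
  have P : StandardEtalePresentation R S :=
    Algebra.IsStandardEtale.nonempty_standardEtalePresentation.some
  let T := Localization.Away (AdjoinRoot.mk P.f P.g)
  let e : S ≃ₐ[R] T := P.equivRing.trans P.P.equivAwayAdjoinRoot
  have hunit : IsUnit (algebraMap (AdjoinRoot P.f) T (AdjoinRoot.mk P.f (derivative P.f))) := by
    obtain ⟨p₁, p₂, n, hc⟩ := P.cond
    have h1 : AdjoinRoot.mk P.f (derivative P.f) * AdjoinRoot.mk P.f p₁ =
        (AdjoinRoot.mk P.f P.g) ^ n := by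
      have := congrArg (AdjoinRoot.mk P.f) hc
      rw [map_add, map_mul, map_mul, AdjoinRoot.mk_self, zero_mul, add_zero, map_pow] at this
      exact this
    have h2 : IsUnit (algebraMap (AdjoinRoot P.f) T ((AdjoinRoot.mk P.f P.g) ^ n)) := by
      rw [map_pow]
      exact (IsLocalization.Away.algebraMap_isUnit (AdjoinRoot.mk P.f P.g)).pow n
    rw [← h1, map_mul] at h2
    exact isUnit_of_mul_isUnit_left h2
  let ψ : Localization.Away (AdjoinRoot.mk P.f (derivative P.f)) →ₐ[R] T :=
    IsLocalization.Away.liftAlgHom (AdjoinRoot.mk P.f (derivative P.f))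
      (f := IsScalarTower.toAlgHom R (AdjoinRoot P.f) T) hunit
  refine ⟨P.f, P.monic_f, e.symm.toAlgHom.comp ψ, ?_⟩
  have hcomp : (e.symm.toAlgHom.comp ψ).toRingHom.comp
      (algebraMap (AdjoinRoot P.f) (Localization.Away (AdjoinRoot.mk P.f (derivative P.f)))) =
      e.symm.toAlgHom.toRingHom.comp (algebraMap (AdjoinRoot P.f) T) := by
    ext r
    · simp [ψ, IsLocalization.Away.liftAlgHom_apply]
    · simp [ψ, IsLocalization.Away.liftAlgHom_apply]
  haveI : IsIso (CommRingCat.ofHom e.symm.toAlgHom.toRingHom) :=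
    inferInstanceAs (IsIso e.symm.toRingEquiv.toCommRingCatIso.hom)
  haveI : IsOpenImmersion (Spec.map (CommRingCat.ofHom (e.symm.toAlgHom.comp ψ).toRingHom) ≫
      Spec.map (CommRingCat.ofHom (algebraMap (AdjoinRoot P.f)
        (Localization.Away (AdjoinRoot.mk P.f (derivative P.f)))))) := by
    rw [← Spec.map_comp, ← CommRingCat.ofHom_comp, hcomp, CommRingCat.ofHom_comp, Spec.map_comp]
    infer_instance
  exact IsOpenImmersion.of_comp _ (Spec.map (CommRingCat.ofHom (algebraMap (AdjoinRoot P.f)
        (Localization.Away (AdjoinRoot.mk P.f (derivative P.f))))))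

end Groth.Agent.Helper18SEt
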