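import Mathlib
import Groth.Agent.Lib.Helper18SEtA
import Groth.Agent.Lib.Helper2FPAff

set_option autoImplicit false
set_option linter.style.haveILetI false
universe u

open CategoryTheory AlgebraicGeometry Polynomial Limits Opposite TopologicalSpace

namespace Groth.Agent.Helper18SEt

/-- An étale chart: if `W.ι ≫ φ` is étale then around any point of `W` over the affine `V`
there is an affine open `U₀ ⊆ W` over `V` with étale ring map. -/
theorem exists_etale_affine {X Y : Scheme.{u}} (φ : X ⟶ Y) (x : X)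
    (V : Y.Opens) (hV : IsAffineOpen V) (hxV : φ.base x ∈ V)
    (W : X.Opens) (hxW : x ∈ W) (hφ : Etale (W.ι ≫ φ)) :
    ∃ (U₀ : X.Opens) (_ : IsAffineOpen U₀) (_ : x ∈ U₀) (e₀ : U₀ ≤ φ ⁻¹ᵁ V),
      (φ.appLE V U₀ e₀).hom.Etale := by
  let g : W.toScheme ⟶ Y := W.ι ≫ φ
  let x' : W.toScheme := ⟨x, hxW⟩
  have hx'V : x' ∈ g ⁻¹ᵁ V := hxV
  obtain ⟨U', hU', hx'U', hU'V⟩ := exists_isAffineOpen_mem_and_subset hx'V
  let U₀ : X.Opens := W.ι ''ᵁ U'
  have hU₀ : IsAffineOpen U₀ := hU'.image_of_isOpenImmersion W.ι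
  have hxU₀ : x ∈ U₀ := ⟨x', hx'U', rfl⟩
  have e₀ : U₀ ≤ φ ⁻¹ᵁ V := by
    rintro _ ⟨z, hz, rfl⟩
    exact hU'V hz
  have e' : U' ≤ g ⁻¹ᵁ V := hU'V
  refine ⟨U₀, hU₀, hxU₀, e₀, ?_⟩
  have h1 : (g.appLE V U' e').hom.Etale :=
    HasRingHomProperty.appLE @Etale g hφ ⟨V, hV⟩ ⟨U', hU'⟩ e'
  have h2 : φ.appLE V U₀ e₀ ≫ W.ι.appLE U₀ U' (by
      intro z hz; exact ⟨z, hz, rfl⟩) = g.appLE V U' e' :=
    Scheme.Hom.appLE_comp_appLE _ _ _ _ _ _ _
  have h4 : ∀ s : Γ(X, U₀), (W.ι.appLE U₀ U' (by intro z hz; exact ⟨z, hz, rfl⟩)).hom s = s := by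
    intro s
    rw [Scheme.Opens.ι_appLE]
    exact congrArg (fun ψ => ψ.hom s) (X.presheaf.map_id _)
  have h5 : (φ.appLE V U₀ e₀).hom = (g.appLE V U' e').hom := by
    ext r
    have := congrArg (fun ψ => ψ.hom r) h2
    simp only [CommRingCat.hom_comp, RingHom.comp_apply] at this
    rw [h4] at this
    exact this
  rw [h5]
  exact h1

end Groth.Agent.Helper18SEt
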