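import Mathlib
import Groth.Agent.Lib.Helper18SEtB

set_option autoImplicit false
set_option linter.style.haveILetI false
universe u

open CategoryTheory AlgebraicGeometry Polynomial Limits Opposite TopologicalSpace

namespace Groth.Agent.Helper18SEt

theorem main_S9567 {X Y : Scheme.{u}} (φ : X ⟶ Y) (x : X)
    (V : Y.Opens) (hV : IsAffineOpen V) (hxV : φ.base x ∈ V)
    (hφ : ∃ W : X.Opens, x ∈ W ∧ Etale (W.ι ≫ φ)) :
    ∃ (U : X.Opens) (hU : IsAffineOpen U) (_ : x ∈ U) (e : U ≤ φ ⁻¹ᵁ V)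
      (p : Polynomial Γ(Y, V)) (_ : p.Monic)
      (j : U.toScheme ⟶ Spec (CommRingCat.of (Localization.Away (AdjoinRoot.mk p (Polynomial.derivative p))))),
      IsOpenImmersion j ∧
        j ≫ Spec.map (CommRingCat.ofHom
            (algebraMap Γ(Y, V) (Localization.Away (AdjoinRoot.mk p (Polynomial.derivative p))))) =
          hU.isoSpec.hom ≫ Spec.map (φ.appLE V U e) := by
  obtain ⟨W, hxW, hW⟩ := hφ
  obtain ⟨U₀, hU₀, hxU₀, e₀, het⟩ := exists_etale_affine φ x V hV hxV W hxW hW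
  letI a0 : Algebra Γ(Y, V) Γ(X, U₀) := (φ.appLE V U₀ e₀).hom.toAlgebra
  haveI : Algebra.Etale Γ(Y, V) Γ(X, U₀) := het
  let Q := (hU₀.primeIdealOf ⟨x, hxU₀⟩).asIdeal
  haveI : Algebra.FormallyEtale Γ(X, U₀) (Localization.AtPrime Q) :=
    Algebra.FormallyEtale.of_isLocalization Q.primeCompl
  haveI : Algebra.IsEtaleAt Γ(Y, V) Q :=
    Algebra.FormallyEtale.comp Γ(Y, V) Γ(X, U₀) (Localization.AtPrime Q)
  obtain ⟨g₁, hg₁Q, hstd⟩ := Algebra.IsEtaleAt.exists_isStandardEtale (R := Γ(Y, V)) Q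
  have hxg : x ∈ X.basicOpen g₁ :=
    (Groth.Agent.Lib.Helper2.mem_basicOpen_iff_notMem_primeIdealOf hU₀ x hxU₀ g₁).mpr hg₁Q
  have hU : IsAffineOpen (X.basicOpen g₁) := hU₀.basicOpen g₁
  have e : X.basicOpen g₁ ≤ φ ⁻¹ᵁ V := (X.basicOpen_le g₁).trans e₀
  letI a1 : Algebra Γ(Y, V) Γ(X, X.basicOpen g₁) := (φ.appLE V (X.basicOpen g₁) e).hom.toAlgebra
  haveI : IsLocalization.Away g₁ Γ(X, X.basicOpen g₁) := hU₀.isLocalization_basicOpen g₁
  haveI : IsScalarTower Γ(Y, V) Γ(X, U₀) Γ(X, X.basicOpen g₁) := by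
    apply IsScalarTower.of_algebraMap_eq'
    have h1 : φ.appLE V U₀ e₀ ≫ X.presheaf.map (homOfLE (X.basicOpen_le g₁)).op =
        φ.appLE V (X.basicOpen g₁) e := Scheme.Hom.appLE_map _ _ _
    exact (congrArg CommRingCat.Hom.hom h1).symm
  let eq : Localization.Away g₁ ≃ₐ[Γ(X, U₀)] Γ(X, X.basicOpen g₁) :=
    IsLocalization.algEquiv (Submonoid.powers g₁) _ _
  haveI : Algebra.IsStandardEtale Γ(Y, V) Γ(X, X.basicOpen g₁) :=
    Algebra.IsStandardEtale.of_equiv (eq.restrictScalars Γ(Y, V))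
  obtain ⟨p, hp, α, hα⟩ := exists_chart_ring (R := Γ(Y, V)) (S := Γ(X, X.basicOpen g₁))
  refine ⟨X.basicOpen g₁, hU, hxg, e, p, hp,
    hU.isoSpec.hom ≫ Spec.map (CommRingCat.ofHom α.toRingHom), inferInstance, ?_⟩
  rw [Category.assoc, ← Spec.map_comp, ← CommRingCat.ofHom_comp]
  congr 2
  have : α.toRingHom.comp (algebraMap Γ(Y, V)
      (Localization.Away (AdjoinRoot.mk p (Polynomial.derivative p)))) =
      (φ.appLE V (X.basicOpen g₁) e).hom := by
    ext r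
    exact α.commutes r
  rw [this, CommRingCat.ofHom_hom]

end Groth.Agent.Helper18SEt
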