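import Mathlib
import Groth.Prelude.Def_Smoothing
import Groth.Agent.Lib.Helper18Std
set_option linter.style.haveILetI false

/-!
# Strictly standard elements: `A_a` is smooth with stably free differentials (helper18; S2030)

* `exists_leftInverse_vecMul`: a `c × n` matrix whose maximal minors generate the unit ideal gives a
  split injection `y ↦ y ᵥ* M`.
* `nonempty_equiv_of_split`: abstract splitting `Om × T^c ≃ T^n`.
* `stablyFree`: for a presentation with leading relations whose minors generate `(a)` up to unit and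
  with `a` killing the tail, `Ω[A_a/R] × A_a^c ≃ A_a^n`.
* `main`: S2030.
-/

universe u
open TensorProduct KaehlerDifferential MvPolynomial

namespace Groth.Agent.Helper18SF


/-- If the maximal minors of a `c × n` matrix generate the unit ideal (with explicit
coefficients), then `y ↦ y ᵥ* M` has a left inverse. -/
lemma exists_leftInverse_vecMul {T : Type*} [CommRing T] {c n : ℕ} (M : Matrix (Fin c) (Fin n) T)
    (coef : (Fin c → Fin n) → T)
    (hcoef : ∑ cols : Fin c → Fin n, coef cols * (M.submatrix id cols).det = 1) :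
    ∃ L : (Fin n → T) →ₗ[T] (Fin c → T), L ∘ₗ M.vecMulLinear = LinearMap.id := by
  classical
  let L : (Fin n → T) →ₗ[T] (Fin c → T) :=
    ∑ cols : Fin c → Fin n, coef cols •
      ((Matrix.vecMulLinear (Matrix.adjugate (M.submatrix id cols))) ∘ₗ
        (LinearMap.funLeft T T cols))
  refine ⟨L, LinearMap.ext fun y => ?_⟩
  simp only [LinearMap.coe_comp, Function.comp_apply, Matrix.vecMulLinear_apply, L,
    LinearMap.coe_sum, Finset.sum_apply, LinearMap.smul_apply, LinearMap.id_coe, id_eq]
  have h1 : ∀ cols : Fin c → Fin n, (LinearMap.funLeft T T cols) (Matrix.vecMul y M) =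
      Matrix.vecMul y (M.submatrix id cols) := by
    intro cols
    ext k
    simp [LinearMap.funLeft_apply, Matrix.vecMul, dotProduct]
  have h2 : ∀ cols : Fin c → Fin n,
      Matrix.vecMul (Matrix.vecMul y (M.submatrix id cols))
        (Matrix.adjugate (M.submatrix id cols)) = (M.submatrix id cols).det • y := by
    intro cols
    rw [Matrix.vecMul_vecMul, Matrix.mul_adjugate, Matrix.vecMul_smul, Matrix.vecMul_one]
  simp only [h1, h2, smul_smul]
  rw [← Finset.sum_smul, hcoef, one_smul]

lemma nonempty_equiv_of_split {T : Type*} [CommRing T] {C S Om : Type*} [AddCommGroup C]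
    [Module T C] [AddCommGroup S] [Module T S] [AddCommGroup Om] [Module T Om] {c n : ℕ}
    (d1 : C →ₗ[T] S) (d0 : S →ₗ[T] Om) (hex : Function.Exact d1 d0)
    (hd0 : Function.Surjective d0) (u : (Fin c → T) →ₗ[T] C) (hu : Function.Surjective u)
    (b : Module.Basis (Fin n) T S) (M : Matrix (Fin c) (Fin n) T)
    (hM : ∀ j k, b.repr (d1 (u (Pi.single j 1))) k = M j k)
    (coef : (Fin c → Fin n) → T)
    (hcoef : ∑ cols : Fin c → Fin n, coef cols * (M.submatrix id cols).det = 1) :
    Nonempty ((Om × (Fin c → T)) ≃ₗ[T] (Fin n → T)) := by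
  classical
  let w : (Fin c → T) →ₗ[T] (Fin n → T) := b.equivFun.toLinearMap ∘ₗ d1 ∘ₗ u
  have hw : w = M.vecMulLinear := by
    apply LinearMap.pi_ext'
    intro j
    ext k
    simp only [LinearMap.coe_comp, Function.comp_apply, LinearMap.coe_single, w,
      LinearEquiv.coe_coe, Module.Basis.equivFun_apply, Matrix.vecMulLinear_apply,
      Matrix.single_one_vecMul]
    exact hM j k
  let g : (Fin n → T) →ₗ[T] Om := d0 ∘ₗ b.equivFun.symm.toLinearMap
  have hg : Function.Surjective g := hd0.comp b.equivFun.symm.surjective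
  have hexw : Function.Exact w g := by
    intro z
    constructor
    · intro hz
      obtain ⟨x, hx⟩ := (hex _).mp hz
      obtain ⟨y, rfl⟩ := hu x
      refine ⟨y, ?_⟩
      simp only [w, LinearMap.coe_comp, Function.comp_apply, LinearEquiv.coe_coe, hx,
        LinearEquiv.apply_symm_apply]
    · rintro ⟨y, rfl⟩
      simp only [w, g, LinearMap.coe_comp, Function.comp_apply, LinearEquiv.coe_coe,
        LinearEquiv.symm_apply_apply]
      exact (hex _).mpr ⟨_, rfl⟩
  obtain ⟨L, hL⟩ := exists_leftInverse_vecMul M coef hcoef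
  rw [← hw] at hL
  let e := (hexw.splitInjectiveEquiv hg ⟨L, hL⟩).1
  exact ⟨(LinearEquiv.prodComm T Om (Fin c → T)).trans e.symm⟩

theorem stablyFree {R A : Type u} [CommRing R] [CommRing A] [Algebra R A] {n m c : ℕ}
    (f : Fin m → MvPolynomial (Fin n) R) (φ : MvPolynomial (Fin n) R →ₐ[R] A)
    (hφ : Function.Surjective φ) (hker : RingHom.ker φ.toRingHom = Ideal.span (Set.range f))
    (lead : Fin c → Fin m) (a : A)
    (hmem : a ∈ Ideal.span (Set.range fun cols : Fin c → Fin n =>
        φ (Matrix.det (Matrix.of fun j k : Fin c => pderiv (cols k) (f (lead j))))))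
    (a' : MvPolynomial (Fin n) R) (ha' : φ a' = a)
    (htail : ∀ ℓ, a' * f ℓ ∈ Ideal.span (Set.range (f ∘ lead)) ⊔ Ideal.span (Set.range f) ^ 2) :
    Nonempty ((Ω[Localization.Away a⁄R] × (Fin c → Localization.Away a))
      ≃ₗ[Localization.Away a] (Fin n → Localization.Away a)) := by
  classical
  let P := MvPolynomial (Fin n) R
  let T := Localization.Away a
  letI : Algebra P A := φ.toRingHom.toAlgebra
  haveI : IsScalarTower R P A := .of_algebraMap_eq (fun a => (φ.commutes a).symm)
  have hsurj : Function.Surjective (algebraMap P A) := hφ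
  have hkerI : RingHom.ker (algebraMap P A) = Ideal.span (Set.range f) := hker
  let E : Algebra.Extension R A :=
    { Ring := P, σ := _, algebraMap_σ := Function.surjInv_eq hsurj }
  have hEker : E.ker = Ideal.span (Set.range f) := hkerI
  have hfmem : ∀ ℓ, f ℓ ∈ E.ker := fun ℓ => by
    rw [hEker]; exact Ideal.subset_span ⟨ℓ, rfl⟩
  haveI : Algebra.FormallyEtale A T := Algebra.FormallyEtale.of_isLocalization (.powers a)
  let eΩ : T ⊗[A] Ω[A⁄R] ≃ₗ[T] Ω[T⁄R] := KaehlerDifferential.tensorKaehlerEquivOfFormallyEtale R A T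
  let d1 : T ⊗[A] E.Cotangent →ₗ[T] T ⊗[A] E.CotangentSpace := E.cotangentComplex.baseChange T
  let d0 : T ⊗[A] E.CotangentSpace →ₗ[T] Ω[T⁄R] := eΩ.toLinearMap ∘ₗ E.toKaehler.baseChange T
  have hex : Function.Exact d1 d0 := by
    have h0 := lTensor_exact T E.exact_cotangentComplex_toKaehler E.toKaehler_surjective
    intro z
    have h1 : d0 z = 0 ↔ (LinearMap.lTensor T E.toKaehler) z = 0 := by
      simp only [d0, LinearMap.coe_comp, LinearEquiv.coe_coe, Function.comp_apply,
        EmbeddingLike.map_eq_zero_iff]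
      rfl
    rw [h1, h0 z]
    rfl
  have hd0 : Function.Surjective d0 := by
    refine eΩ.surjective.comp ?_
    exact LinearMap.lTensor_surjective T E.toKaehler_surjective
  -- the leading classes
  let ml : Fin c → E.Cotangent := fun j =>
    Algebra.Extension.Cotangent.mk (P := E) ⟨f (lead j), hfmem _⟩
  let u : (Fin c → T) →ₗ[T] T ⊗[A] E.Cotangent :=
    Fintype.linearCombination T (fun j => (1 : T) ⊗ₜ[A] ml j)
  have hu1 : ∀ j, u (Pi.single j 1) = (1 : T) ⊗ₜ[A] ml j := fun j => by
    simp [u, Fintype.linearCombination_apply_single]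
  let N : Submodule T (T ⊗[A] E.Cotangent) := LinearMap.range u
  have hone_smul : ∀ (r : A) (y : E.Cotangent),
      (1 : T) ⊗ₜ[A] (r • y) = algebraMap A T r • ((1 : T) ⊗ₜ[A] y) := fun r y => by
    rw [tmul_smul, algebraMap_smul]
  have hmkP : ∀ (p : P) (i : E.ker), Algebra.Extension.Cotangent.mk (P := E) (p • i) =
      algebraMap P A p • Algebra.Extension.Cotangent.mk (P := E) i := fun p i => by
    rw [map_smul, algebraMap_smul]
  have hleadker : Ideal.span (Set.range (f ∘ lead)) ≤ E.ker := by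
    rw [hEker]; exact Ideal.span_mono (Set.range_comp_subset_range _ _)
  -- span of leading relations
  have h1 : ∀ x ∈ Ideal.span (Set.range (f ∘ lead)), ∀ hx : x ∈ E.ker,
      (1 : T) ⊗ₜ[A] Algebra.Extension.Cotangent.mk (P := E) ⟨x, hx⟩ ∈ N := by
    intro x hx0
    refine Submodule.span_induction (p := fun x _ => ∀ hx : x ∈ E.ker,
      (1 : T) ⊗ₜ[A] Algebra.Extension.Cotangent.mk (P := E) ⟨x, hx⟩ ∈ N) ?_ ?_ ?_ ?_ hx0
    · rintro _ ⟨j, rfl⟩ hx
      exact ⟨Pi.single j 1, hu1 j⟩
    · intro hx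
      have : (⟨0, hx⟩ : E.ker) = 0 := rfl
      rw [this, map_zero, tmul_zero]
      exact zero_mem _
    · intro x y hx hy hx' hy' hxy
      have hxI : x ∈ E.ker := hleadker hx
      have hyI : y ∈ E.ker := hleadker hy
      have : (⟨x + y, hxy⟩ : E.ker) = ⟨x, hxI⟩ + ⟨y, hyI⟩ := rfl
      rw [this, map_add, tmul_add]
      exact add_mem (hx' hxI) (hy' hyI)
    · intro p x hx hx' hpx
      have hxI : x ∈ E.ker := hleadker hx
      have : (⟨p • x, hpx⟩ : E.ker) = p • ⟨x, hxI⟩ := rfl
      rw [this, hmkP, hone_smul]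
      exact Submodule.smul_mem _ _ (hx' hxI)
  have haunit : IsUnit (algebraMap A T a) := IsLocalization.Away.algebraMap_isUnit a
  have hPa : algebraMap P A a' = a := ha'
  have h2 : ∀ ℓ, (1 : T) ⊗ₜ[A] Algebra.Extension.Cotangent.mk (P := E) ⟨f ℓ, hfmem ℓ⟩ ∈ N := by
    intro ℓ
    obtain ⟨x, hx, y, hy, hxy⟩ := Submodule.mem_sup.mp (htail ℓ)
    have hxI : x ∈ E.ker := hleadker hx
    have hyI : y ∈ E.ker := by
      rw [hEker]; exact Ideal.pow_le_self two_ne_zero hy
    have e1 : a' • (⟨f ℓ, hfmem ℓ⟩ : E.ker) = ⟨x, hxI⟩ + ⟨y, hyI⟩ := by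
      apply Subtype.ext
      simp only [SetLike.mk_smul_mk, smul_eq_mul, AddMemClass.mk_add_mk]
      exact hxy.symm
    have e0 : Algebra.Extension.Cotangent.mk (P := E) ⟨y, hyI⟩ = 0 := by
      rw [Algebra.Extension.Cotangent.mk_eq_zero_iff]
      change y ∈ E.ker ^ 2
      have : E.ker ^ 2 = Ideal.span (Set.range f) ^ 2 := by rw [hEker]
      rw [this]
      exact hy
    have e2 : algebraMap A T a •
        ((1 : T) ⊗ₜ[A] Algebra.Extension.Cotangent.mk (P := E) ⟨f ℓ, hfmem ℓ⟩) =
        (1 : T) ⊗ₜ[A] Algebra.Extension.Cotangent.mk (P := E) ⟨x, hxI⟩ := by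
      have e4 : a • Algebra.Extension.Cotangent.mk (P := E) ⟨f ℓ, hfmem ℓ⟩ =
          Algebra.Extension.Cotangent.mk (P := E) ⟨x, hxI⟩ := by
        have : a • Algebra.Extension.Cotangent.mk (P := E) ⟨f ℓ, hfmem ℓ⟩ =
            algebraMap P A a' • Algebra.Extension.Cotangent.mk (P := E) ⟨f ℓ, hfmem ℓ⟩ := by
          rw [hPa]
        rw [this, ← hmkP, e1, map_add, e0, add_zero]
      rw [← hone_smul, e4]
    have e3 : (1 : T) ⊗ₜ[A] Algebra.Extension.Cotangent.mk (P := E) ⟨f ℓ, hfmem ℓ⟩ =
        (haunit.unit⁻¹ : Tˣ).1 •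
          ((1 : T) ⊗ₜ[A] Algebra.Extension.Cotangent.mk (P := E) ⟨x, hxI⟩) := by
      rw [← e2, smul_smul, IsUnit.val_inv_mul, one_smul]
    rw [e3]
    exact Submodule.smul_mem _ _ (h1 x hx hxI)
  -- all of the kernel
  have h3 : ∀ x ∈ Ideal.span (Set.range f), ∀ hx : x ∈ E.ker,
      (1 : T) ⊗ₜ[A] Algebra.Extension.Cotangent.mk (P := E) ⟨x, hx⟩ ∈ N := by
    intro x hx0
    refine Submodule.span_induction (p := fun x _ => ∀ hx : x ∈ E.ker,
      (1 : T) ⊗ₜ[A] Algebra.Extension.Cotangent.mk (P := E) ⟨x, hx⟩ ∈ N) ?_ ?_ ?_ ?_ hx0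
    · rintro _ ⟨ℓ, rfl⟩ hx
      exact h2 ℓ
    · intro hx
      have : (⟨0, hx⟩ : E.ker) = 0 := rfl
      rw [this, map_zero, tmul_zero]
      exact zero_mem _
    · intro x y hx hy hx' hy' hxy
      have hxI : x ∈ E.ker := hEker ▸ hx
      have hyI : y ∈ E.ker := hEker ▸ hy
      have : (⟨x + y, hxy⟩ : E.ker) = ⟨x, hxI⟩ + ⟨y, hyI⟩ := rfl
      rw [this, map_add, tmul_add]
      exact add_mem (hx' hxI) (hy' hyI)
    · intro p x hx hx' hpx
      have hxI : x ∈ E.ker := hEker ▸ hx
      have : (⟨p • x, hpx⟩ : E.ker) = p • ⟨x, hxI⟩ := rfl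
      rw [this, hmkP, hone_smul]
      exact Submodule.smul_mem _ _ (hx' hxI)
  have hu : Function.Surjective u := by
    intro z
    change z ∈ N
    induction z with
    | zero => exact zero_mem _
    | add x y hx hy => exact add_mem hx hy
    | tmul t y =>
      obtain ⟨i, rfl⟩ := Algebra.Extension.Cotangent.mk_surjective y
      have : t ⊗ₜ[A] Algebra.Extension.Cotangent.mk (P := E) i =
          t • ((1 : T) ⊗ₜ[A] Algebra.Extension.Cotangent.mk (P := E) i) := by
        rw [smul_tmul', smul_eq_mul, mul_one]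
      rw [this]
      exact Submodule.smul_mem _ _ (h3 i.1 (hEker ▸ i.2) i.2)
  -- coordinates
  let bA : Module.Basis (Fin n) A E.CotangentSpace := (mvPolynomialBasis R (Fin n)).baseChange A
  let bT : Module.Basis (Fin n) T (T ⊗[A] E.CotangentSpace) := bA.baseChange T
  let M : Matrix (Fin c) (Fin n) T :=
    Matrix.of fun j k => algebraMap A T (φ (pderiv k (f (lead j))))
  have hM : ∀ j k, bT.repr (d1 (u (Pi.single j 1))) k = M j k := by
    intro j k
    rw [hu1]
    simp only [d1, ml, LinearMap.baseChange_tmul, Algebra.Extension.cotangentComplex_mk, bT]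
    rw [Module.Basis.baseChange_repr_tmul]
    simp only [bA]
    rw [Module.Basis.baseChange_repr_tmul, mvPolynomialBasis_repr_apply, Algebra.smul_def,
      mul_one, Algebra.smul_def, mul_one]
    rfl
  -- coefficients
  obtain ⟨α, hα⟩ := (Ideal.mem_span_range_iff_exists_fun).mp hmem
  let coef : (Fin c → Fin n) → T := fun cols => (haunit.unit⁻¹ : Tˣ).1 * algebraMap A T (α cols)
  have hdet : ∀ cols : Fin c → Fin n, (M.submatrix id cols).det =
      algebraMap A T (φ (Matrix.det (Matrix.of fun j k : Fin c =>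
        pderiv (cols k) (f (lead j))))) := by
    intro cols
    have : M.submatrix id cols = ((algebraMap A T).comp φ.toRingHom).mapMatrix
        (Matrix.of fun j k : Fin c => pderiv (cols k) (f (lead j))) := by
      ext j k
      simp [M]
    rw [this, ← RingHom.map_det]
    rfl
  have hcoef : ∑ cols : Fin c → Fin n, coef cols * (M.submatrix id cols).det = 1 := by
    have h4 : algebraMap A T a = ∑ cols : Fin c → Fin n,
        algebraMap A T (α cols) * (M.submatrix id cols).det := by
      have h5 := congrArg (algebraMap A T) hα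
      rw [← h5, map_sum]
      refine Finset.sum_congr rfl fun cols _ => ?_
      rw [map_mul, hdet]
    simp only [coef, mul_assoc]
    rw [← Finset.mul_sum, ← h4, IsUnit.val_inv_mul]
  exact nonempty_equiv_of_split d1 d0 hex hd0 u hu bT M hM coef hcoef

theorem main {R A : Type u} [CommRing R] [CommRing A]
    [Algebra R A] (a : A) (ha : Smoothing.IsStrictlyStandard R A a) :
    Algebra.Smooth R (Localization.Away a) ∧
      ∃ p q : ℕ, Nonempty ((Ω[Localization.Away a⁄R] × (Fin p → Localization.Away a))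
        ≃ₗ[Localization.Away a] (Fin q → Localization.Away a)) := by
  have ha0 := ha
  obtain ⟨P, hspan, htail⟩ := ha
  haveI : Algebra.FinitePresentation R A :=
    Algebra.FinitePresentation.of_surjective P.surj (by
      rw [P.ker_eq]; exact Submodule.fg_span (Set.finite_range _))
  refine ⟨?_, P.c, P.n, ?_⟩
  · rw [← Algebra.basicOpen_subset_smoothLocus_iff_smooth]
    intro x hx
    haveI := x.2
    exact Groth.Agent.Helper18Std.isSmoothAt_of_isStrictlyStandard a ha0 x.asIdeal hx
  · obtain ⟨s, hs⟩ := P.surj a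
    refine stablyFree P.rel P.hom P.surj P.ker_eq (Fin.castLE P.hcm) a hspan s hs (fun ℓ => ?_)
    have hset : Set.range (P.rel ∘ Fin.castLE P.hcm) =
        P.rel '' {j' : Fin P.m | (j' : ℕ) < P.c} := by
      ext x
      constructor
      · rintro ⟨k, rfl⟩
        exact ⟨Fin.castLE P.hcm k, by simp, rfl⟩
      · rintro ⟨j', hj', rfl⟩
        exact ⟨⟨j', hj'⟩, rfl⟩
    rw [hset]
    by_cases hℓ : P.c ≤ (ℓ : ℕ)
    · exact htail s hs ℓ hℓ
    · rw [not_le] at hℓ
      exact Ideal.mem_sup_left (Ideal.mul_mem_left _ _ (Ideal.subset_span ⟨ℓ, hℓ, rfl⟩))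

end Groth.Agent.Helper18SF
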