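import Mathlib

set_option autoImplicit false
universe u v w

namespace Groth.Agent.Lib.Helper18SL

open Polynomial

section unitext

variable (A : Type u) [CommRing A]

/-- the quadratic `X² - X + ε` -/
noncomputable def quadF (ε : A) : A[X] := X ^ 2 - X + C ε

lemma quadF_monic [Nontrivial A] (ε : A) : (quadF A ε).Monic := by
  unfold quadF
  have : (X ^ 2 - X + C ε : A[X]) = X ^ 2 + (- X + C ε) := by ring
  rw [this]
  apply Polynomial.monic_X_pow_add
  refine lt_of_le_of_lt (degree_add_le _ _) ?_
  rw [degree_neg, degree_X, max_lt_iff]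
  refine ⟨by norm_num, lt_of_le_of_lt degree_C_le (by norm_num)⟩

lemma quadF_monic' (ε : A) : (quadF A ε).Monic := by
  rcases subsingleton_or_nontrivial A with h | h
  · exact Subsingleton.elim _ _
  · exact quadF_monic A ε

lemma quadF_natDegree [Nontrivial A] (ε : A) : (quadF A ε).natDegree = 2 := by
  unfold quadF
  have : (X ^ 2 - X + C ε : A[X]) = X ^ 2 + (- X + C ε) := by ring
  rw [this, natDegree_add_eq_left_of_degree_lt, natDegree_X_pow]
  rw [degree_X_pow]
  refine lt_of_le_of_lt (degree_add_le _ _) ?_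
  rw [degree_neg, degree_X, max_lt_iff]
  refine ⟨by norm_num, lt_of_le_of_lt degree_C_le (by norm_num)⟩

/-- `(2X-1)² = 4 f - (4ε - 1)`... the standard étale pair -/
noncomputable def quadPair (ε : A) : StandardEtalePair A where
  f := quadF A ε
  monic_f := quadF_monic' A ε
  g := C (1 - 4 * ε)
  cond := ⟨2 * X - 1, -4, 1, by
    simp only [quadF, derivative_add, derivative_sub, derivative_X_pow, derivative_X, derivative_C,
      pow_one, map_sub, map_mul, map_one, map_ofNat]
    simp
    rw [show (C (2 : A) : A[X]) = 2 from map_ofNat C 2]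
    ring⟩

lemma ker_algebraMap_algebraicClosure (p : Ideal A) [p.IsPrime] :
    RingHom.ker (algebraMap A (AlgebraicClosure p.ResidueField)) = p := by
  ext x
  rw [RingHom.mem_ker, IsScalarTower.algebraMap_apply A p.ResidueField (AlgebraicClosure p.ResidueField),
    map_eq_zero, Ideal.algebraMap_residueField_eq_zero]

theorem exists_prime_over (ε : A) (p : Ideal A) [p.IsPrime] (h : 1 - 4 * ε ∉ p) :
    ∃ q : Ideal (quadPair A ε).Ring, q.IsPrime ∧ q.comap (algebraMap A (quadPair A ε).Ring) = p := by
  have : Nontrivial A := by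
    by_contra hn
    rw [not_nontrivial_iff_subsingleton] at hn
    exact (Ideal.IsPrime.ne_top (inferInstance : p.IsPrime)) (Subsingleton.elim _ _)
  have hdeg : ((quadF A ε).map (algebraMap A (AlgebraicClosure p.ResidueField))).degree ≠ 0 := by
    rw [(quadF_monic' A ε).degree_map, degree_eq_natDegree (quadF_monic' A ε).ne_zero, quadF_natDegree]
    norm_num
  obtain ⟨x, hx⟩ := IsAlgClosed.exists_root _ hdeg
  have hmap : (quadPair A ε).HasMap x := by
    refine ⟨?_, ?_⟩
    · rw [IsRoot, eval_map] at hx
      exact hx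
    · change IsUnit (aeval x (C (1 - 4 * ε)))
      rw [aeval_C, isUnit_iff_ne_zero]
      intro h0
      apply h
      rw [← ker_algebraMap_algebraicClosure A p]
      exact h0
  refine ⟨RingHom.ker ((quadPair A ε).lift x hmap), RingHom.ker_isPrime _, ?_⟩
  conv_rhs => rw [← ker_algebraMap_algebraicClosure A p]
  ext a
  rw [Ideal.mem_comap, RingHom.mem_ker, RingHom.mem_ker, AlgHom.commutes]

theorem isUnit_X (ε : A) (hε : IsUnit ε) :
    IsUnit (quadPair A ε).X ∧ IsUnit ((quadPair A ε).X - 1) := by
  have h := (quadPair A ε).hasMap_X.1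
  have h2 : (quadPair A ε).X * ((quadPair A ε).X - 1) = - algebraMap A _ ε := by
    change aeval _ (quadF A ε) = 0 at h
    simp only [quadF, map_add, map_sub, map_pow, aeval_X, aeval_C] at h
    linear_combination h
  have h3 : IsUnit ((quadPair A ε).X * ((quadPair A ε).X - 1)) := by
    rw [h2]; exact (hε.map _).neg
  exact ⟨isUnit_of_mul_isUnit_left h3, isUnit_of_mul_isUnit_right h3⟩

theorem exists_etale_unit (p : Ideal A) [p.IsPrime] :
    ∃ (A' : Type u) (_ : CommRing A') (_ : Algebra A A'), Algebra.Etale A A' ∧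
      (∃ q : Ideal A', q.IsPrime ∧ q.comap (algebraMap A A') = p) ∧
      ∃ x : A', IsUnit x ∧ IsUnit (x - 1) := by
  by_cases h3 : (1 - 4 * 1 : A) ∈ p
  · have h5 : (1 - 4 * (-1) : A) ∉ p := by
      intro h5
      have : (1 : A) ∈ p := by
        have := p.sub_mem (p.mul_mem_left (-2) h3) h5
        convert this using 1
        ring
      exact (Ideal.IsPrime.ne_top inferInstance) ((Ideal.eq_top_iff_one p).mpr this)
    exact ⟨(quadPair A (-1)).Ring, inferInstance, inferInstance, inferInstance,
      exists_prime_over A (-1) p h5, _, isUnit_X A (-1) isUnit_one.neg⟩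
  · exact ⟨(quadPair A 1).Ring, inferInstance, inferInstance, inferInstance,
      exists_prime_over A 1 p h3, _, isUnit_X A 1 isUnit_one⟩

end unitext

end Groth.Agent.Lib.Helper18SL
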