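import Mathlib
import Groth.Agent.Lib.Helper18SL3
import Groth.Agent.Lib.Helper18SL4
import Groth.Agent.Lib.Helper18SL5

set_option autoImplicit false
universe u v w

namespace Groth.Agent.Lib.Helper18SL

open Matrix

theorem sl_mem_commutator_etale (A : Type u) [CommRing A] (n : ℕ)
    (s : Matrix.SpecialLinearGroup (Fin n) A) (p : PrimeSpectrum A) :
    ∃ (A' : Type u) (_ : CommRing A') (_ : Algebra A A'), Algebra.Etale A A' ∧
      (∃ q : PrimeSpectrum A', q.asIdeal.comap (algebraMap A A') = p.asIdeal) ∧
      (Matrix.GeneralLinearGroup.map (algebraMap A A')) (Matrix.SpecialLinearGroup.toGL s) ∈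
        commutator (Matrix.GeneralLinearGroup (Fin n) A') := by
  obtain ⟨A₁, _, _, het, ⟨q₁, hq₁, hq₁p⟩, x, hx, hx1⟩ := exists_etale_unit A p.asIdeal
  have hdet : ((s : Matrix (Fin n) (Fin n) A).map (algebraMap A A₁)).det = 1 := by
    have := RingHom.map_det (algebraMap A A₁) (s : Matrix (Fin n) (Fin n) A)
    rw [s.det_coe, map_one] at this
    exact this.symm
  obtain ⟨f, hf, hE⟩ := exists_away_isE n A₁ _ hdet q₁
  refine ⟨Localization.Away f, inferInstance, inferInstance, inferInstance, ?_, ?_⟩
  · have hdisj : Disjoint (Submonoid.powers f : Set A₁) (q₁ : Set A₁) := by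
      rw [Set.disjoint_left]
      rintro y ⟨k, rfl⟩ hy
      exact hf (Ideal.IsPrime.mem_of_pow_mem inferInstance k hy)
    refine ⟨⟨Ideal.map (algebraMap A₁ (Localization.Away f)) q₁,
      IsLocalization.isPrime_of_isPrime_disjoint (Submonoid.powers f) _ q₁ inferInstance hdisj⟩, ?_⟩
    have h1 : (Ideal.map (algebraMap A₁ (Localization.Away f)) q₁).comap
        (algebraMap A₁ (Localization.Away f)) = q₁ :=
      IsLocalization.under_map_of_isPrime_disjoint (Submonoid.powers f) _ inferInstance hdisj
    rw [IsScalarTower.algebraMap_eq A A₁ (Localization.Away f), ← Ideal.comap_comap]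
    change Ideal.comap (algebraMap A A₁) (Ideal.comap (algebraMap A₁ (Localization.Away f)) _) = _
    rw [h1, hq₁p]
  · apply mem_commutator_of_isE (algebraMap A₁ (Localization.Away f) x) (hx.map _)
    · have := hx1.map (algebraMap A₁ (Localization.Away f))
      rwa [map_sub, map_one] at this
    · convert hE using 1
      ext a b
      simp [IsScalarTower.algebraMap_apply A A₁ (Localization.Away f)]

end Groth.Agent.Lib.Helper18SL
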