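import Mathlib
import Groth.Agent.Lib.Helper18Jac

universe u
set_option linter.style.haveILetI false
set_option linter.unusedSectionVars false
open TensorProduct IsLocalRing KaehlerDifferential

namespace Groth.Agent.Helper18SS

section DIM

variable {R P S : Type u} [CommRing R] [CommRing P] [CommRing S] [Algebra R P] [Algebra P S]
  [Algebra R S] [IsScalarTower R P S]

/-- Dimension count from the conormal sequence, after base change to a field. -/
lemma finrank_add_finrank_range [Module.Finite P Ω[P⁄R]]
    (hsurj : Function.Surjective (algebraMap P S))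
    (K : Type u) [Field K] [Algebra S K] [Algebra P K] [IsScalarTower P S K] :
    Module.finrank K (K ⊗[S] Ω[S⁄R]) +
      Module.finrank K (LinearMap.range (cotangentComplexBaseChange R S P K)) =
      Module.finrank K (K ⊗[P] Ω[P⁄R]) := by
  let E : Algebra.Extension R S :=
    { Ring := P, σ := _, algebraMap_σ := Function.surjInv_eq hsurj }
  have hE : E.Ring = P := rfl
  let g : K ⊗[S] E.CotangentSpace →ₗ[K] K ⊗[S] Ω[S⁄R] := E.toKaehler.baseChange K
  let h : K ⊗[S] E.Cotangent →ₗ[K] K ⊗[S] E.CotangentSpace := E.cotangentComplex.baseChange K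
  have hg : Function.Surjective g := by
    have := LinearMap.lTensor_surjective K E.toKaehler_surjective
    exact this
  have hex : Function.Exact h g := by
    have := lTensor_exact K E.exact_cotangentComplex_toKaehler E.toKaehler_surjective
    exact this
  let e : K ⊗[S] E.CotangentSpace ≃ₗ[K] K ⊗[P] Ω[P⁄R] :=
    AlgebraTensorModule.cancelBaseChange P S K K Ω[P⁄R]
  haveI : Module.Finite K (K ⊗[P] Ω[P⁄R]) := inferInstance
  haveI : Module.Finite K (K ⊗[S] E.CotangentSpace) := Module.Finite.equiv e.symm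
  have h1 := LinearMap.finrank_range_add_finrank_ker g
  rw [LinearMap.range_eq_top.mpr hg, finrank_top] at h1
  rw [← e.finrank_eq, ← h1]
  congr 1
  rw [LinearMap.exact_iff.mp hex]
  have hc := E.cotangentComplexBaseChange_eq_lTensor_cotangentComplex (R := R) (S := S) K
  have : LinearMap.range (cotangentComplexBaseChange R S P K) = (LinearMap.range h).map e.toLinearMap := by
    change LinearMap.range (cotangentComplexBaseChange R S E.Ring K) = _
    rw [hc, LinearMap.range_comp, LinearMap.range_comp, LinearEquiv.range, Submodule.map_top]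
  rw [this]
  exact LinearEquiv.finrank_map_eq e _

/-- Choose elements of the kernel whose differentials form a basis of the image of the conormal
map after base change to `K`. -/
lemma exists_family [Module.Finite P Ω[P⁄R]]
    (hsurj : Function.Surjective (algebraMap P S))
    (K : Type u) [Field K] [Algebra S K] [Algebra P K] [IsScalarTower P S K] :
    ∃ (ι : Type u) (_ : Fintype ι) (F : ι → P), (∀ j, F j ∈ RingHom.ker (algebraMap P S)) ∧
      LinearIndependent K (fun j => (1 : K) ⊗ₜ[P] D R P (F j)) ∧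
      Module.finrank K (K ⊗[S] Ω[S⁄R]) + Fintype.card ι = Module.finrank K (K ⊗[P] Ω[P⁄R]) := by
  let s : Set (K ⊗[P] Ω[P⁄R]) :=
    Set.range (fun i : RingHom.ker (algebraMap P S) => (1 : K) ⊗ₜ[P] D R P i.1)
  have hspan : Submodule.span K s = LinearMap.range (cotangentComplexBaseChange R S P K) := by
    apply le_antisymm
    · rw [Submodule.span_le]
      rintro _ ⟨i, rfl⟩
      refine ⟨(1 : K) ⊗ₜ[P] i, ?_⟩
      rw [cotangentComplexBaseChange_tmul, one_smul, kerToTensor_apply]
    · rintro _ ⟨x, rfl⟩
      induction x with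
      | zero => rw [map_zero]; exact zero_mem _
      | add x y hx hy => rw [map_add]; exact add_mem hx hy
      | tmul a i =>
        rw [cotangentComplexBaseChange_tmul, kerToTensor_apply]
        exact Submodule.smul_mem _ _ (Submodule.subset_span ⟨i, rfl⟩)
  obtain ⟨b, hbs, hbspan, hbli⟩ := exists_linearIndependent K s
  haveI : Module.Finite K (K ⊗[P] Ω[P⁄R]) := inferInstance
  haveI : Finite b := hbli.finite
  letI : Fintype b := Fintype.ofFinite b
  have hch : ∀ j : b, ∃ i : RingHom.ker (algebraMap P S), (1 : K) ⊗ₜ[P] D R P i.1 = j.1 :=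
    fun j => hbs j.2
  choose i hi using hch
  refine ⟨b, inferInstance, fun j => (i j).1, fun j => (i j).2, ?_, ?_⟩
  · have : (fun j : b => (1 : K) ⊗ₜ[P] D R P (i j).1) = Subtype.val := funext hi
    rw [this]
    exact hbli
  · rw [← finrank_add_finrank_range (R := R) hsurj K, ← hspan, ← hbspan]
    congr 1
    have := finrank_span_eq_card hbli
    rw [Subtype.range_coe_subtype] at this
    exact this.symm

/-- If the kernel is generated by a family whose differentials are linearly independent over `K`,
the base-changed conormal map is injective with range of dimension the size of the family. -/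
lemma injective_and_finrank_range_of_linearIndependent
    (K : Type u) [Field K] [Algebra S K] [Algebra P K] [IsScalarTower P S K]
    {ι : Type u} [Fintype ι] (F : ι → P)
    (hker : RingHom.ker (algebraMap P S) = Ideal.span (Set.range F))
    (hli : LinearIndependent K (fun j => (1 : K) ⊗ₜ[P] D R P (F j))) :
    Function.Injective (cotangentComplexBaseChange R S P K) ∧
      Module.finrank K (LinearMap.range (cotangentComplexBaseChange R S P K)) =
        Fintype.card ι := by
  have hmem : ∀ j, F j ∈ RingHom.ker (algebraMap P S) := fun j => by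
    rw [hker]; exact Ideal.subset_span ⟨j, rfl⟩
  let v : ι → K ⊗[P] RingHom.ker (algebraMap P S) := fun j => (1 : K) ⊗ₜ[P] ⟨F j, hmem j⟩
  let ψ : (ι →₀ K) →ₗ[K] K ⊗[P] RingHom.ker (algebraMap P S) := Finsupp.linearCombination K v
  have hψ : Function.Surjective ψ := by
    rw [← LinearMap.range_eq_top, Finsupp.range_linearCombination]
    rw [eq_top_iff]
    rintro x -
    induction x with
    | zero => exact zero_mem _
    | add x y hx hy => exact add_mem hx hy
    | tmul a i =>
      obtain ⟨i, hi⟩ := i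
      have hi' := hi
      rw [hker] at hi'
      have key : ∀ i ∈ Ideal.span (Set.range F), ∀ (hi : i ∈ RingHom.ker (algebraMap P S)),
          a ⊗ₜ[P] (⟨i, hi⟩ : RingHom.ker (algebraMap P S)) ∈ Submodule.span K (Set.range v) := by
        intro i hi0
        refine Submodule.span_induction (p := fun i _ => ∀ (hi : i ∈ RingHom.ker (algebraMap P S)),
          a ⊗ₜ[P] (⟨i, hi⟩ : RingHom.ker (algebraMap P S)) ∈ Submodule.span K (Set.range v))
          ?_ ?_ ?_ ?_ hi0
        · rintro _ ⟨j, rfl⟩ hi
          have : a ⊗ₜ[P] (⟨F j, hi⟩ : RingHom.ker (algebraMap P S)) = a • v j := by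
            simp only [v, TensorProduct.smul_tmul', smul_eq_mul, mul_one]
          rw [this]
          exact Submodule.smul_mem _ _ (Submodule.subset_span ⟨j, rfl⟩)
        · intro hi
          have : (⟨0, hi⟩ : RingHom.ker (algebraMap P S)) = 0 := rfl
          rw [this, TensorProduct.tmul_zero]
          exact zero_mem _
        · intro x y hx hy hx' hy' hi
          have hxk : x ∈ RingHom.ker (algebraMap P S) := by rw [hker]; exact hx
          have hyk : y ∈ RingHom.ker (algebraMap P S) := by rw [hker]; exact hy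
          have : (⟨x + y, hi⟩ : RingHom.ker (algebraMap P S)) = ⟨x, hxk⟩ + ⟨y, hyk⟩ := rfl
          rw [this, TensorProduct.tmul_add]
          exact add_mem (hx' hxk) (hy' hyk)
        · intro p x hx hx' hi
          have hxk : x ∈ RingHom.ker (algebraMap P S) := by rw [hker]; exact hx
          have : (⟨p • x, hi⟩ : RingHom.ker (algebraMap P S)) = p • ⟨x, hxk⟩ := rfl
          rw [this, TensorProduct.tmul_smul]
          have h2 : p • (a ⊗ₜ[P] (⟨x, hxk⟩ : RingHom.ker (algebraMap P S))) =
              (algebraMap P K p) • (a ⊗ₜ[P] (⟨x, hxk⟩ : RingHom.ker (algebraMap P S))) := by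
            rw [algebraMap_smul]
          rw [h2]
          exact Submodule.smul_mem _ _ (hx' hxk)
      exact key i hi' hi
  have hcomp : (cotangentComplexBaseChange R S P K) ∘ₗ ψ =
      Finsupp.linearCombination K (fun j => (1 : K) ⊗ₜ[P] D R P (F j)) := by
    apply Finsupp.lhom_ext'
    intro j
    apply LinearMap.ext_ring
    simp only [LinearMap.coe_comp, Function.comp_apply, Finsupp.lsingle_apply, ψ,
      Finsupp.linearCombination_single, one_smul, v]
    rw [cotangentComplexBaseChange_tmul, one_smul, kerToTensor_apply]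
  have hinj : Function.Injective ((cotangentComplexBaseChange R S P K) ∘ₗ ψ) := by
    rw [hcomp]
    exact hli
  constructor
  · intro y y' h
    obtain ⟨z, rfl⟩ := hψ y
    obtain ⟨z', rfl⟩ := hψ y'
    congr 1
    exact hinj h
  · have : LinearMap.range (cotangentComplexBaseChange R S P K) =
        LinearMap.range ((cotangentComplexBaseChange R S P K) ∘ₗ ψ) := by
      rw [LinearMap.range_comp, LinearMap.range_eq_top.mpr hψ, Submodule.map_top]
    rw [this, hcomp, Finsupp.range_linearCombination]
    exact finrank_span_eq_card hli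

end DIM

/-- Linear independence of `1 ⊗ mⱼ` descends along a field extension. -/
lemma li_of_li {P : Type u} [CommRing P] {M : Type u} [AddCommGroup M] [Module P M]
    (K₀ K : Type u) [Field K₀] [Field K] [Algebra P K₀] [Algebra P K] [Algebra K₀ K]
    [IsScalarTower P K₀ K] {ι : Type u} (m : ι → M)
    (h : LinearIndependent K (fun j => (1 : K) ⊗ₜ[P] m j)) :
    LinearIndependent K₀ (fun j => (1 : K₀) ⊗ₜ[P] m j) := by
  let T : K₀ ⊗[P] M →ₗ[K₀] K ⊗[P] M :=
    AlgebraTensorModule.map (Algebra.linearMap K₀ K) (LinearMap.id : M →ₗ[P] M)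
  apply LinearIndependent.of_comp T
  have hT : (T ∘ fun j => (1 : K₀) ⊗ₜ[P] m j) = fun j => (1 : K) ⊗ₜ[P] m j := by
    funext j
    simp [T]
  rw [hT]
  refine h.restrict_scalars ?_
  intro a b hab
  simp only [Algebra.smul_def, mul_one] at hab
  exact (algebraMap K₀ K).injective hab

/-- Core: a quotient `D₀ = P/(F)` of a smooth algebra `P` with `Ω_P` finite free, a prime `q₀`,
with the differentials of `F` independent at `q₀`: a principal localization is standard smooth of
relative dimension `finrank Ω_P - card`. -/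
theorem core {A P : Type u} [CommRing A] [CommRing P] [Algebra A P] [Algebra.Smooth A P]
    [Algebra.FinitePresentation A P]
    [Module.Free P Ω[P⁄A]] [Module.Finite P Ω[P⁄A]]
    {ι : Type u} [Fintype ι] (F : ι → P) (q₀ : Ideal (P ⧸ Ideal.span (Set.range F))) [q₀.IsPrime]
    (hli : LinearIndependent q₀.ResidueField
      (fun j => (1 : q₀.ResidueField) ⊗ₜ[P] D A P (F j)))
    (r : ℕ) (hr : r + Fintype.card ι = Module.finrank P Ω[P⁄A]) :
    ∃ f : P ⧸ Ideal.span (Set.range F), f ∉ q₀ ∧
      Algebra.IsStandardSmoothOfRelativeDimension r A (Localization.Away f) := by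
  let J : Ideal P := Ideal.span (Set.range F)
  let D₀ := P ⧸ J
  let K₀ := q₀.ResidueField
  have hsurj₀ : Function.Surjective (algebraMap P D₀) := Ideal.Quotient.mk_surjective
  have hker₀ : RingHom.ker (algebraMap P D₀) = Ideal.span (Set.range F) := Ideal.mk_ker
  have hfg₀ : (RingHom.ker (algebraMap P D₀)).FG := by
    rw [hker₀]
    exact Submodule.fg_span (Set.finite_range F)
  haveI : Nontrivial D₀ :=
    ⟨⟨0, 1, fun h => (inferInstance : q₀.IsPrime).ne_top
      ((Ideal.eq_top_iff_one _).mpr (h ▸ q₀.zero_mem))⟩⟩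
  haveI : Nontrivial P := Function.Surjective.nontrivial hsurj₀
  obtain ⟨hinj, hrange⟩ := injective_and_finrank_range_of_linearIndependent (R := A) (S := D₀)
    K₀ F hker₀ hli
  have hdim := finrank_add_finrank_range (R := A) hsurj₀ K₀
  rw [hrange, Module.finrank_baseChange (R := K₀) (S := P) (M' := Ω[P⁄A])] at hdim
  have hΩ : Module.finrank K₀ (K₀ ⊗[D₀] Ω[D₀⁄A]) = r := by omega
  haveI : Algebra.FinitePresentation A D₀ := by
    have : J.FG := Submodule.fg_span (Set.finite_range F)
    exact Algebra.FinitePresentation.quotient this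
  haveI : Algebra.IsSmoothAt A q₀ :=
    Groth.Agent.Helper18Jac.isSmoothAt_of_injective (R := A) (A := P) (B := D₀) hsurj₀ hfg₀ q₀ hinj
  obtain ⟨f, hf, hstd⟩ := Algebra.IsSmoothAt.exists_notMem_isStandardSmooth A q₀
  refine ⟨f, hf, ?_⟩
  let D₁ := Localization.Away f
  have hne : algebraMap D₀ K₀ f ≠ 0 := fun h => hf (Ideal.algebraMap_residueField_eq_zero.mp h)
  have hunit : IsUnit (algebraMap D₀ K₀ f) := hne.isUnit
  let ψ : D₁ →+* K₀ := IsLocalization.Away.lift f hunit
  letI : Algebra D₁ K₀ := ψ.toAlgebra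
  haveI : IsScalarTower D₀ D₁ K₀ :=
    .of_algebraMap_eq (fun x => (IsLocalization.Away.lift_eq f hunit x).symm)
  haveI : Nontrivial D₁ := RingHom.domain_nontrivial ψ
  haveI : Algebra.FormallyEtale D₀ D₁ := Algebra.FormallyEtale.of_isLocalization (Submonoid.powers f)
  rw [Algebra.IsStandardSmoothOfRelativeDimension.iff_of_isStandardSmooth]
  let e1 : D₁ ⊗[D₀] Ω[D₀⁄A] ≃ₗ[D₁] Ω[D₁⁄A] :=
    KaehlerDifferential.tensorKaehlerEquivOfFormallyEtale A D₀ D₁
  let e2 : K₀ ⊗[D₁] (D₁ ⊗[D₀] Ω[D₀⁄A]) ≃ₗ[K₀] K₀ ⊗[D₁] Ω[D₁⁄A] :=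
    AlgebraTensorModule.congr (LinearEquiv.refl K₀ K₀) e1
  let e3 : K₀ ⊗[D₁] (D₁ ⊗[D₀] Ω[D₀⁄A]) ≃ₗ[K₀] K₀ ⊗[D₀] Ω[D₀⁄A] :=
    AlgebraTensorModule.cancelBaseChange D₀ D₁ K₀ K₀ Ω[D₀⁄A]
  have h1 : Module.finrank D₁ Ω[D₁⁄A] = r := by
    rw [← Module.finrank_baseChange (R := K₀) (S := D₁) (M' := Ω[D₁⁄A]), ← e2.finrank_eq,
      e3.finrank_eq, hΩ]
  rw [← Module.finrank_eq_rank, h1]

theorem main (A B : Type u) [CommRing A] [CommRing B] [Algebra A B] [Algebra.FiniteType A B]
    (q : Ideal B) [q.IsPrime] (r : ℕ)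
    (hr : Module.finrank q.ResidueField (q.ResidueField ⊗[B] Ω[B⁄A]) = r) :
    ∃ g : B, g ∉ q ∧ ∃ (D : Type u) (_ : CommRing D) (_ : Algebra A D),
      Algebra.IsStandardSmoothOfRelativeDimension r A D ∧
        ∃ φ : D →ₐ[A] Localization.Away g, Function.Surjective φ := by
  obtain ⟨n, f, hf⟩ := Algebra.FiniteType.iff_quotient_mvPolynomial''.mp ‹Algebra.FiniteType A B›
  let P := MvPolynomial (Fin n) A
  letI : Algebra P B := f.toRingHom.toAlgebra
  haveI : IsScalarTower A P B := .of_algebraMap_eq (fun a => (f.commutes a).symm)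
  have hsurj : Function.Surjective (algebraMap P B) := hf
  haveI : Nontrivial B :=
    ⟨⟨0, 1, fun h => (inferInstance : q.IsPrime).ne_top
      ((Ideal.eq_top_iff_one _).mpr (h ▸ q.zero_mem))⟩⟩
  haveI : Nontrivial P := Function.Surjective.nontrivial hsurj
  haveI : Algebra.Smooth A P := ⟨inferInstance, inferInstance⟩
  let κ := q.ResidueField
  obtain ⟨ι, _, F, hFmem, hli, hcard⟩ := exists_family (R := A) hsurj κ
  let J : Ideal P := Ideal.span (Set.range F)
  have hJ : ∀ x ∈ J, algebraMap P B x = 0 := by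
    intro x hx
    have : J ≤ RingHom.ker (algebraMap P B) := by
      rw [Ideal.span_le]
      rintro _ ⟨j, rfl⟩
      exact hFmem j
    exact this hx
  let D₀ := P ⧸ J
  let π : D₀ →+* B := Ideal.Quotient.lift J (algebraMap P B) hJ
  letI : Algebra D₀ B := π.toAlgebra
  have hT : @IsScalarTower P D₀ B Algebra.toSMul Algebra.toSMul Algebra.toSMul :=
    .of_algebraMap_eq (fun x => rfl)
  haveI : IsScalarTower P D₀ B := hT
  have hT2 : @IsScalarTower A D₀ B Algebra.toSMul Algebra.toSMul Algebra.toSMul :=
    .of_algebraMap_eq (fun a => by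
      rw [IsScalarTower.algebraMap_apply A P B, IsScalarTower.algebraMap_apply A P D₀,
        ← IsScalarTower.algebraMap_apply P D₀ B])
  haveI : IsScalarTower A D₀ B := hT2
  let q₀ : Ideal D₀ := q.comap (algebraMap D₀ B)
  haveI : q₀.IsPrime := Ideal.comap_isPrime _ _
  let K₀ := q₀.ResidueField
  letI : Algebra K₀ κ := (Ideal.ResidueField.map q₀ q (algebraMap D₀ B) rfl).toAlgebra
  haveI : IsScalarTower P K₀ κ := .of_algebraMap_eq (fun x => by
    change _ = Ideal.ResidueField.map q₀ q (algebraMap D₀ B) rfl _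
    rw [IsScalarTower.algebraMap_apply P D₀ K₀, Ideal.ResidueField.map_algebraMap,
      ← IsScalarTower.algebraMap_apply P D₀ B, ← IsScalarTower.algebraMap_apply P B κ])
  have hli₀ := li_of_li K₀ κ (fun j => D A P (F j)) hli
  have hrk : Module.finrank κ (κ ⊗[P] Ω[P⁄A]) = Module.finrank P Ω[P⁄A] :=
    Module.finrank_baseChange
  obtain ⟨f₀, hf₀, hstd⟩ := core F q₀ hli₀ r (by rw [← hrk, ← hcard, hr])
  refine ⟨algebraMap D₀ B f₀, hf₀, Localization.Away f₀, inferInstance, inferInstance, hstd, ?_⟩
  let φ₀ : Localization.Away f₀ →+* Localization.Away (algebraMap D₀ B f₀) :=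
    Localization.awayMap (algebraMap D₀ B) f₀
  have hφ₀ : Function.Surjective φ₀ := by
    rw [Localization.awayMap_surjective_iff]
    intro b
    obtain ⟨p, rfl⟩ := hsurj b
    exact ⟨algebraMap P D₀ p, 0, by rw [pow_zero, one_mul]; rfl⟩
  refine ⟨{ toRingHom := φ₀, commutes' := fun a => ?_ }, hφ₀⟩
  change φ₀ (algebraMap A (Localization.Away f₀) a) = _
  rw [IsScalarTower.algebraMap_apply A D₀ (Localization.Away f₀)]
  have : φ₀ (algebraMap D₀ (Localization.Away f₀) (algebraMap A D₀ a)) =
      algebraMap B (Localization.Away (algebraMap D₀ B f₀)) (algebraMap D₀ B (algebraMap A D₀ a)) :=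
    IsLocalization.map_eq _ _
  rw [this, ← IsScalarTower.algebraMap_apply A D₀ B, ← IsScalarTower.algebraMap_apply A B]

end Groth.Agent.Helper18SS
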