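import Groth.Prelude.Def_SchFin2
import Mathlib

set_option autoImplicit false
set_option linter.style.haveILetI false
open TensorProduct

namespace Groth.Agent.Lib.Helper18Sch

open SchFin

universe u


/-! ### transfer of `IsBCAlong` along isomorphisms -/

theorem isBCAlong_iff_isBaseChange {R S : Type u} [CommRing R] [CommRing S] (g : R →+* S)
    {M N : Type u} [AddCommGroup M] [AddCommGroup N] [Module R M] [Module S N] (f : M →ₛₗ[g] N) :
    IsBCAlong g f ↔
      (letI : Algebra R S := g.toAlgebra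
       letI : Module R N := Module.compHom N g
       haveI : IsScalarTower R S N := IsScalarTower.of_algebraMap_smul fun _ _ => rfl
       IsBaseChange S ({ toFun := f, map_add' := f.map_add, map_smul' := f.map_smulₛₗ } : M →ₗ[R] N)) :=
  Iff.rfl

/-- transfer of `IsBCAlong` along additive equivalences compatible with scalars -/
theorem isBCAlong_congr {R S : Type u} [CommRing R] [CommRing S] (g : R →+* S)
    {M N M' N' : Type u} [AddCommGroup M] [AddCommGroup N] [Module R M] [Module S N]
    [AddCommGroup M'] [AddCommGroup N'] [Module R M'] [Module S N']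
    (f : M →ₛₗ[g] N) (f' : M' →ₛₗ[g] N') (eM : M ≃ₗ[R] M') (eN : N ≃ₗ[S] N')
    (h : ∀ m, eN (f m) = f' (eM m)) (hf : IsBCAlong g f) : IsBCAlong g f' := by
  letI : Algebra R S := g.toAlgebra
  letI : Module R N := Module.compHom N g
  haveI : IsScalarTower R S N := IsScalarTower.of_algebraMap_smul fun _ _ => rfl
  letI : Module R N' := Module.compHom N' g
  haveI : IsScalarTower R S N' := IsScalarTower.of_algebraMap_smul fun _ _ => rfl
  let fl : M →ₗ[R] N := { toFun := f, map_add' := f.map_add, map_smul' := f.map_smulₛₗ }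
  let fl' : M' →ₗ[R] N' := { toFun := f', map_add' := f'.map_add, map_smul' := f'.map_smulₛₗ }
  have hf' : IsBaseChange S fl := hf
  show IsBaseChange S fl'
  refine (IsBaseChange.iff_of_equiv_comm eM eN ?_).1 hf'
  ext m
  exact (h m).symm


section H0

variable {X : RSpace.{u}} {U : Set X.pt} {R : Type u} [CommRing R] (φ : Coef X U R) (M : OMod X)

lemma fin1_eq (i j : Fin (0 + 1)) : i = j := @Subsingleton.elim (Fin 1) _ i j

/-- the one-point chain -/
def pt0 (q : U) : Chain U 0 :=
  OrderEmbedding.ofMapLEIff (fun _ : Fin 1 => q) (fun a b => by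
    simp [fin1_eq a b])

/-- the two-point chain -/
def pt1 (q q' : U) (h : q < q') : Chain U 1 :=
  OrderEmbedding.ofStrictMono (fun i : Fin 2 => if i = 0 then q else q') (by
    intro a b hab
    fin_cases a <;> fin_cases b <;> simp_all)

lemma pt0_apply (q : U) (i : Fin 1) : pt0 q i = q := rfl
lemma pt1_zero (q q' : U) (h : q < q') : pt1 q q' h 0 = q := rfl
lemma pt1_one (q q' : U) (h : q < q') : pt1 q q' h 1 = q' := rfl
lemma pt1_last (q q' : U) (h : q < q') : pt1 q q' h (Fin.last 1) = q' := rfl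

lemma chain0_eq (σ : Chain U 0) : pt0 (σ (Fin.last 0)) = σ := by
  apply DFunLike.ext
  intro i
  rw [fin1_eq i (Fin.last 0)]
  rfl

lemma pt1_face_zero (q q' : U) (h : q < q') : (pt1 q q' h).face 0 = pt0 q' := by
  apply DFunLike.ext
  intro i
  rw [fin1_eq i 0]
  rfl

lemma pt1_face_one (q q' : U) (h : q < q') : (pt1 q q' h).face 1 = pt0 q := by
  apply DFunLike.ext
  intro i
  rw [fin1_eq i 0]
  rfl

variable {φ M}

lemma cochain_heq {n : ℕ} (c : Cochain φ M n) {σ τ : Chain U n} (h : σ = τ) :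
    HEq (c σ) (c τ) := by subst h; rfl

lemma faceVal_eq {n : ℕ} (c : Cochain φ M n) (σ : Chain U (n + 1)) (j : Fin (n + 2))
    (τ : Chain U n) (hτ : σ.face j = τ) (hle : (τ (Fin.last n)).1 ≤ (σ (Fin.last (n + 1))).1) :
    c.faceVal σ j = M.res hle (c τ) := by subst hτ; rfl

lemma diff_zero_apply (c : Cochain φ M 0) (σ : Chain U 1) :
    diff φ M 0 c σ = c.faceVal σ 0 - c.faceVal σ 1 := by
  show (∑ j : Fin 2, ((-1 : ℤ) ^ (j : ℕ)) • c.faceVal σ j) = _
  rw [Fin.sum_univ_two]
  simp [sub_eq_add_neg]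

variable (φ M)

/-- the family of values of a `0`-cochain -/
def cochainFam (c : Cochain φ M 0) : (q : U) → M.carrier q.1 := fun q => c (pt0 q)

/-- the `0`-cochain of a family -/
def famCochain (s : (q : U) → M.carrier q.1) : Cochain φ M 0 := fun σ => s (σ (Fin.last 0))

lemma cochainFam_famCochain (s : (q : U) → M.carrier q.1) :
    cochainFam φ M (famCochain φ M s) = s := rfl

lemma famCochain_cochainFam (c : Cochain φ M 0) : famCochain φ M (cochainFam φ M c) = c := by
  funext σ
  exact eq_of_heq (cochain_heq c (chain0_eq σ))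

lemma cochainFam_mem (c : Cochain φ M 0) (hc : diff φ M 0 c = 0) (q q' : U) (h : q.1 ≤ q'.1) :
    M.res h (cochainFam φ M c q) = cochainFam φ M c q' := by
  rcases h.eq_or_lt with h0 | h0
  · obtain rfl : q = q' := Subtype.ext h0
    exact M.res_self _ _
  · have hlt : q < q' := h0
    have hc' : diff φ M 0 c (pt1 q q' hlt) = 0 := by rw [hc]; rfl
    rw [diff_zero_apply, faceVal_eq c _ 0 (pt0 q') (pt1_face_zero q q' hlt) (le_refl _),
      faceVal_eq c _ 1 (pt0 q) (pt1_face_one q q' hlt) h, sub_eq_zero] at hc'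
    exact hc'.symm.trans (M.res_self _ _)

lemma famCochain_diff (s : M.sect U) : diff φ M 0 (famCochain φ M s.1) = 0 := by
  funext σ
  rw [diff_zero_apply]
  have h : ∀ j : Fin 2, (famCochain φ M s.1).faceVal σ j = s.1 (σ (Fin.last 1)) :=
    fun j => s.2 _ _ _
  rw [h, h, sub_self]; rfl

/-- ring map from the coefficient ring to the ring of sections -/
def coefToSect : R →+* X.sectRing U where
  toFun a := ⟨fun q => φ.map q a, fun q q' h => φ.compat q q' h a⟩
  map_one' := Subtype.ext (funext fun q => map_one (φ.map q))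
  map_mul' a b := Subtype.ext (funext fun q => map_mul (φ.map q) a b)
  map_zero' := Subtype.ext (funext fun q => map_zero (φ.map q))
  map_add' a b := Subtype.ext (funext fun q => map_add (φ.map q) a b)

/-- sections of a module over `U`, as a module over the coefficient ring -/
def SectR (_φ : Coef X U R) (M : OMod X) : Type u := M.sect U

instance : AddCommGroup (SectR φ M) := inferInstanceAs (AddCommGroup (M.sect U))
instance : Module R (SectR φ M) := Module.compHom (M.sect U) (coefToSect φ)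

lemma SectR.smul_val (a : R) (s : SectR φ M) (q : U) : (a • s).1 q = φ.map q a • s.1 q := rfl
lemma SectR.add_val (s t : SectR φ M) (q : U) : (s + t).1 q = s.1 q + t.1 q := rfl

/-- `0`-cocycles are sections -/
def cocycleEquiv : cocycles φ M 0 ≃ₗ[R] SectR φ M where
  toFun c := ⟨cochainFam φ M c.1, cochainFam_mem φ M c.1 c.2⟩
  map_add' _ _ := Subtype.ext (funext fun _ => rfl)
  map_smul' _ _ := Subtype.ext (funext fun _ => rfl)
  invFun s := ⟨famCochain φ M s.1, famCochain_diff φ M s⟩
  left_inv c := Subtype.ext (famCochain_cochainFam φ M c.1)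
  right_inv s := Subtype.ext (cochainFam_famCochain φ M s.1)

lemma cocycleEquiv_val (c : cocycles φ M 0) (q : U) : (cocycleEquiv φ M c).1 q = c.1 (pt0 q) := rfl

/-- degree-zero cohomology is the module of sections -/
noncomputable def H0equiv : H φ M 0 ≃ₗ[R] SectR φ M :=
  (Submodule.quotEquivOfEqBot _ (by
    show Submodule.comap (cocycles φ M 0).subtype ⊥ = ⊥
    rw [Submodule.comap_bot, Submodule.ker_subtype])).trans (cocycleEquiv φ M)

lemma H0equiv_mk (c : cocycles φ M 0) : H0equiv φ M (H.mk φ M 0 c) = cocycleEquiv φ M c := by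
  rfl

lemma H0equiv_mk_val (c : cocycles φ M 0) (q : U) :
    (H0equiv φ M (H.mk φ M 0 c)).1 q = c.1 (pt0 q) := by
  rw [H0equiv_mk]; rfl

lemma H_mk_surjective (n : ℕ) : Function.Surjective (H.mk φ M n) := Submodule.mkQ_surjective _

variable {φ} {U' : Set X.pt} {R' : Type u} [CommRing R'] {φ' : Coef X U' R'}

/-- restriction of sections along a change of coefficients -/
def restrSect (s : Coef.Sub φ φ') : SectR φ M →ₛₗ[s.hom] SectR φ' M where
  toFun t := ⟨fun q' => t.1 ⟨q'.1, s.le q'.2⟩, fun q q' h => t.2 ⟨q.1, s.le q.2⟩ ⟨q'.1, s.le q'.2⟩ h⟩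
  map_add' t t' := Subtype.ext (funext fun q => rfl)
  map_smul' a t := Subtype.ext (funext fun q => by
    show φ.map ⟨q.1, s.le q.2⟩ a • t.1 ⟨q.1, s.le q.2⟩ = φ'.map q (s.hom a) • t.1 ⟨q.1, s.le q.2⟩
    rw [s.compat])

lemma restrSect_val (s : Coef.Sub φ φ') (t : SectR φ M) (q' : U') :
    (restrSect M s t).1 q' = t.1 ⟨q'.1, s.le q'.2⟩ := rfl

lemma H0equiv_resH (s : Coef.Sub φ φ') (h : H φ M 0) :
    H0equiv φ' M (resH M s 0 h) = restrSect M s (H0equiv φ M h) := by
  obtain ⟨c, rfl⟩ := H_mk_surjective φ M 0 h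
  apply Subtype.ext
  funext q'
  rw [restrSect_val, H0equiv_mk_val]
  have : resH M s 0 (H.mk φ M 0 c) = H.mk φ' M 0 ⟨resCochain M s 0 c.1, by
      change diff φ' M 0 (resCochain M s 0 c.1) = 0
      rw [diff_resCochain, show diff φ M 0 c.1 = 0 from c.2, map_zero]⟩ := rfl
  rw [this, H0equiv_mk_val]
  rfl

theorem isBCAlong_resH_zero_iff (s : Coef.Sub φ φ') :
    IsBCAlong s.hom (resH M s 0) ↔ IsBCAlong s.hom (restrSect M s) :=
  ⟨isBCAlong_congr s.hom _ _ (H0equiv φ M) (H0equiv φ' M) (H0equiv_resH M s),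
   isBCAlong_congr s.hom _ _ (H0equiv φ M).symm (H0equiv φ' M).symm (fun m => by
     rw [LinearEquiv.symm_apply_eq, H0equiv_resH, LinearEquiv.apply_symm_apply])⟩

end H0

section Epi

variable {X : RSpace.{u}}

lemma wedge_id_left {x y : X.pt} (q : (Hom.id X).wedge x y) : x ≤ q.1 := q.2.1
lemma wedge_id_right {x y : X.pt} (q : (Hom.id X).wedge x y) : y ≤ q.1 := q.2.2
lemma mem_wedge_id {x y q : X.pt} (h1 : x ≤ q) (h2 : y ≤ q) : q ∈ (Hom.id X).wedge x y := ⟨h1, h2⟩

theorem one_tmul_eq_of_isSchematic (hX : X.IsSchematic) {x y : X.pt} (h : x ≤ y) :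
    letI : Algebra (X.ring x) (X.ring y) := (X.res h).toAlgebra
    ∀ a : X.ring y, (1 : X.ring y) ⊗ₜ[X.ring x] a = a ⊗ₜ[X.ring x] 1 := by
  letI : Algebra (X.ring x) (X.ring y) := (X.res h).toAlgebra
  intro a
  have hbc := ((isBCAlong_resH_zero_iff X.str ((Hom.id X).subSrc h y)).1
    (hX.2.2 0 x y h y y le_rfl).1)
  set φx := Coef.ofLE x ((Hom.id X).wedge x y) ((Hom.id X).wedge_subset_up x y) with hφx
  set φy := Coef.ofLE y ((Hom.id X).wedge y y) ((Hom.id X).wedge_subset_up y y) with hφy
  letI : Module (X.ring x) (SectR φy X.str) := Module.compHom _ (X.res h)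
  haveI : IsScalarTower (X.ring x) (X.ring y) (SectR φy X.str) :=
    IsScalarTower.of_algebraMap_smul fun _ _ => rfl
  let fl : SectR φx X.str →ₗ[X.ring x] SectR φy X.str :=
    { toFun := restrSect X.str ((Hom.id X).subSrc h y)
      map_add' := (restrSect X.str ((Hom.id X).subSrc h y)).map_add
      map_smul' := (restrSect X.str ((Hom.id X).subSrc h y)).map_smulₛₗ }
  have hb : IsBaseChange (X.ring y) fl := hbc
  -- the section attached to an element of the ring of `y`
  let α : X.ring y → SectR φx X.str := fun b =>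
    ⟨fun q => X.res (wedge_id_right q) b, fun q q' hq => X.res_comp _ _ b⟩
  -- evaluation at `y`
  let β : SectR φx X.str →ₗ[X.ring x] X.ring y :=
    { toFun := fun t => t.1 ⟨y, mem_wedge_id h le_rfl⟩
      map_add' := fun _ _ => rfl
      map_smul' := fun r t => rfl }
  have key : (1 : X.ring y) ⊗ₜ[X.ring x] α a = a ⊗ₜ[X.ring x] α 1 := by
    apply hb.equiv.injective
    rw [IsBaseChange.equiv_tmul, IsBaseChange.equiv_tmul, one_smul]
    apply Subtype.ext
    funext q'
    show X.res _ a = X.res _ a * X.res _ 1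
    rw [map_one]
    exact (mul_one _).symm
  have := congrArg (LinearMap.lTensor (X.ring y) β) key
  rw [LinearMap.lTensor_tmul, LinearMap.lTensor_tmul] at this
  have e1 : β (α a) = a := X.res_self _ _
  have e2 : β (α 1) = 1 := X.res_self _ _
  rwa [e1, e2] at this

theorem isEpi_of_isSchematic (hX : X.IsSchematic) {x y : X.pt} (h : x ≤ y) :
    letI : Algebra (X.ring x) (X.ring y) := (X.res h).toAlgebra
    Algebra.IsEpi (X.ring x) (X.ring y) := by
  letI : Algebra (X.ring x) (X.ring y) := (X.res h).toAlgebra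
  exact (Algebra.isEpi_iff_forall_one_tmul_eq _ _).2 (one_tmul_eq_of_isSchematic hX h)

open CategoryTheory in
theorem ringHom_ext_of_isEpi {A B T : Type u} [CommRing A] [CommRing B] [CommRing T] [Algebra A B]
    [Algebra.IsEpi A B] (g₁ g₂ : B →+* T)
    (hg : g₁.comp (algebraMap A B) = g₂.comp (algebraMap A B)) : g₁ = g₂ := by
  have hepi : Epi (CommRingCat.ofHom (algebraMap A B)) := CommRingCat.epi_iff_epi.mpr inferInstance
  have e : CommRingCat.ofHom (algebraMap A B) ≫ CommRingCat.ofHom g₁ =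
      CommRingCat.ofHom (algebraMap A B) ≫ CommRingCat.ofHom g₂ := by
    ext a
    exact RingHom.congr_fun hg a
  have := (cancel_epi _).1 e
  exact congrArg CommRingCat.Hom.hom this

theorem main15634 (hX : X.IsSchematic) {x y : X.pt} (h : x ≤ y)
    {T : Type u} [CommRing T] (g₁ g₂ : X.ring y →+* T) (hg : g₁.comp (X.res h) = g₂.comp (X.res h)) :
    g₁ = g₂ := by
  letI : Algebra (X.ring x) (X.ring y) := (X.res h).toAlgebra
  haveI := isEpi_of_isSchematic hX h
  exact ringHom_ext_of_isEpi g₁ g₂ hg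

end Epi

end Groth.Agent.Lib.Helper18Sch
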