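import Mathlib

set_option autoImplicit false
set_option linter.style.haveILetI false
set_option linter.unusedSectionVars false
set_option linter.unusedVariables false
open TensorProduct

namespace Groth.Agent.Lib.Helper18Sch9

universe u

section Abstract

variable {O : Type u} [CommRing O] {I : Type u} [Finite I] (R : I → Type u) [∀ i, CommRing (R i)]
  [∀ i, Algebra O (R i)]

/-- bijectivity descends along a faithfully flat finite product -/
theorem bijective_of_forall_lTensor_bijective [Module.FaithfullyFlat O (∀ i, R i)]
    {N₁ N₂ : Type u} [AddCommGroup N₁] [AddCommGroup N₂] [Module O N₁] [Module O N₂]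
    (θ : N₁ →ₗ[O] N₂) (h : ∀ i, Function.Bijective (LinearMap.lTensor (R i) θ)) :
    Function.Bijective θ := by
  classical
  haveI := Fintype.ofFinite I
  rw [← Module.FaithfullyFlat.lTensor_bijective_iff_bijective O (∀ i, R i)]
  have key : ∀ t, TensorProduct.piLeft O N₂ R (LinearMap.lTensor (∀ i, R i) θ t) =
      fun i => LinearMap.lTensor (R i) θ (TensorProduct.piLeft O N₁ R t i) := by
    intro t
    induction t using TensorProduct.induction_on with
    | zero => simp only [map_zero]; rfl
    | tmul p n =>
      funext i
      simp [TensorProduct.piLeft]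
    | add t t' ht ht' =>
      rw [map_add, map_add, ht, ht', map_add]
      funext i
      simp
  constructor
  · intro t t' htt'
    apply (TensorProduct.piLeft O N₁ R).injective
    funext i
    apply (h i).1
    have := congrArg (TensorProduct.piLeft O N₂ R) htt'
    rw [key, key] at this
    exact congrFun this i
  · intro y
    have hy : ∀ i, ∃ z, LinearMap.lTensor (R i) θ z = TensorProduct.piLeft O N₂ R y i :=
      fun i => (h i).2 _
    choose z hz using hy
    refine ⟨(TensorProduct.piLeft O N₁ R).symm z, ?_⟩
    apply (TensorProduct.piLeft O N₂ R).injective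
    rw [key]
    funext i
    rw [LinearEquiv.apply_symm_apply, hz]

variable {Rx : Type u} [CommRing Rx] [Algebra Rx O] [∀ i, Algebra Rx (R i)]
  [∀ i, IsScalarTower Rx O (R i)]
  {Mx N : Type u} [AddCommGroup Mx] [Module Rx Mx] [AddCommGroup N] [Module O N] [Module Rx N]
  [IsScalarTower Rx O N]
  (N' : I → Type u) [∀ i, AddCommGroup (N' i)] [∀ i, Module (R i) (N' i)] [∀ i, Module O (N' i)]
  [∀ i, Module Rx (N' i)] [∀ i, IsScalarTower O (R i) (N' i)] [∀ i, IsScalarTower Rx (R i) (N' i)]
  [∀ i, IsScalarTower Rx O (N' i)]

/-- descent of base change along a faithfully flat finite product -/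
theorem isBaseChange_of_forall [Module.FaithfullyFlat O (∀ i, R i)]
    (ρ : Mx →ₗ[Rx] N) (ev : ∀ i, N →ₗ[O] N' i)
    (hev : ∀ i, IsBaseChange (R i) (ev i))
    (hcomp : ∀ i, IsBaseChange (R i) (((ev i).restrictScalars Rx).comp ρ)) :
    IsBaseChange O ρ := by
  let θ : O ⊗[Rx] Mx →ₗ[O] N := LinearMap.liftBaseChange O ρ
  have hθ : Function.Bijective θ := by
    apply bijective_of_forall_lTensor_bijective R θ
    intro i
    let β := (hev i).equiv
    let γ := (hcomp i).equiv
    let c := TensorProduct.AlgebraTensorModule.cancelBaseChange Rx O (R i) (R i) Mx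
    have key : ∀ t, β (LinearMap.lTensor (R i) θ t) = γ (c t) := by
      intro t
      induction t using TensorProduct.induction_on with
      | zero => simp only [map_zero]
      | tmul r w =>
        induction w using TensorProduct.induction_on with
        | zero => simp only [TensorProduct.tmul_zero, map_zero]
        | tmul o m =>
          rw [LinearMap.lTensor_tmul, TensorProduct.AlgebraTensorModule.cancelBaseChange_tmul]
          show (hev i).equiv (r ⊗ₜ θ (o ⊗ₜ m)) = (hcomp i).equiv ((o • r) ⊗ₜ m)
          rw [IsBaseChange.equiv_tmul, IsBaseChange.equiv_tmul, LinearMap.liftBaseChange_tmul,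
            map_smul, smul_assoc o r]
          exact smul_comm r o _
        | add w w' hw hw' =>
          rw [TensorProduct.tmul_add, map_add, map_add, map_add, map_add, hw, hw']
      | add t t' ht ht' => rw [map_add, map_add, map_add, map_add, ht, ht']
    constructor
    · intro t t' htt'
      apply c.injective
      apply γ.injective
      rw [← key, ← key, htt']
    · intro y
      refine ⟨c.symm (γ.symm (β y)), ?_⟩
      apply β.injective
      rw [key, LinearEquiv.apply_symm_apply, LinearEquiv.apply_symm_apply]
  refine IsBaseChange.of_equiv (LinearEquiv.ofBijective θ hθ) (fun m => ?_)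
  show θ (1 ⊗ₜ m) = ρ m
  rw [LinearMap.liftBaseChange_tmul, one_smul]

end Abstract

end Groth.Agent.Lib.Helper18Sch9
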