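import Groth.Agent.Lib.Helper18Sch8
import Groth.Agent.Lib.Helper18Sch9

set_option autoImplicit false
set_option linter.style.haveILetI false
set_option linter.unusedVariables false
set_option linter.unusedSectionVars false
open TensorProduct

namespace Groth.Agent.Lib.Helper18Sch10

open SchFin Groth.Agent.Lib.Helper18Sch Groth.Agent.Lib.Helper18Sch7 Groth.Agent.Lib.Helper18Sch8
  Groth.Agent.Lib.Helper18Sch9

universe u

section Concrete

variable {X : RSpace.{u}} (M : OMod X) (x : X.pt) (U : Set X.pt) (hU : U ⊆ X.up x)

@[reducible] def algXO : Algebra (X.ring x) (X.sectRing U) := (X.resSect x U hU).toAlgebra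
@[reducible] def algXR (q : U) : Algebra (X.ring x) (X.ring q.1) := (X.res (hU q.2)).toAlgebra
@[reducible] def modXN : Module (X.ring x) (M.sect U) := Module.compHom _ (X.resSect x U hU)
@[reducible] def modON (q : U) : Module (X.sectRing U) (M.carrier q.1) :=
  Module.compHom _ (X.evalRing U q)
@[reducible] def modXN' (q : U) : Module (X.ring x) (M.carrier q.1) :=
  Module.compHom _ (X.res (hU q.2))

theorem main15617 (hUa : (X.restrict U).IsAffine)
    (hff : Module.FaithfullyFlat (X.sectRing U) ((q : ↥U) → X.ring q.1)) (hM : M.IsQcoh) :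
    IsBCAlong (X.resSect x U hU) (M.resSect x U hU) := by
  letI := algXO x U hU
  letI := fun q : U => algOR U q
  letI := fun q : U => algXR x U hU q
  letI := modXN M x U hU
  letI := fun q : U => modON M U q
  letI := fun q : U => modXN' M x U hU q
  haveI : IsScalarTower (X.ring x) (X.sectRing U) (M.sect U) :=
    IsScalarTower.of_algebraMap_smul fun _ _ => rfl
  haveI : ∀ q : U, IsScalarTower (X.ring x) (X.sectRing U) (X.ring q.1) :=
    fun q => IsScalarTower.of_algebraMap_eq fun _ => rfl
  haveI : ∀ q : U, IsScalarTower (X.sectRing U) (X.ring q.1) (M.carrier q.1) :=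
    fun q => IsScalarTower.of_algebraMap_smul fun _ _ => rfl
  haveI : ∀ q : U, IsScalarTower (X.ring x) (X.ring q.1) (M.carrier q.1) :=
    fun q => IsScalarTower.of_algebraMap_smul fun _ _ => rfl
  haveI : ∀ q : U, IsScalarTower (X.ring x) (X.sectRing U) (M.carrier q.1) :=
    fun q => ⟨fun r o n => by
      show (X.res (hU q.2) r * o.1 q) • n = X.res (hU q.2) r • (o.1 q • n)
      rw [mul_smul]⟩
  haveI := ff_pi U hff
  let fl : M.carrier x →ₗ[X.ring x] M.sect U :=
    { toFun := M.resSect x U hU, map_add' := (M.resSect x U hU).map_add,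
      map_smul' := (M.resSect x U hU).map_smulₛₗ }
  show IsBaseChange (X.sectRing U) fl
  let ev : ∀ q : U, M.sect U →ₗ[X.sectRing U] M.carrier q.1 := fun q =>
    { toFun := M.evalMod U q, map_add' := (M.evalMod U q).map_add,
      map_smul' := (M.evalMod U q).map_smulₛₗ }
  have hev : ∀ q : U, IsBaseChange (X.ring q.1) (ev q) := fun q => isBCAlong_evalMod U M hUa hM q
  have hcomp : ∀ q : U, IsBaseChange (X.ring q.1) (((ev q).restrictScalars (X.ring x)).comp fl) := by
    intro q
    have h := hM x q.1 (hU q.2)
    let flq : M.carrier x →ₗ[X.ring x] M.carrier q.1 :=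
      { toFun := M.res (hU q.2), map_add' := (M.res (hU q.2)).map_add,
        map_smul' := (M.res (hU q.2)).map_smulₛₗ }
    have h' : IsBaseChange (X.ring q.1) flq := h
    have e : ((ev q).restrictScalars (X.ring x)).comp fl = flq := LinearMap.ext fun _ => rfl
    rw [e]
    exact h'
  exact isBaseChange_of_forall (fun q : U => X.ring q.1) (fun q : U => M.carrier q.1) fl ev hev hcomp

end Concrete

end Groth.Agent.Lib.Helper18Sch10
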