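import Groth.Agent.Lib.Helper18Sch

set_option autoImplicit false
set_option linter.style.haveILetI false
open TensorProduct

namespace Groth.Agent.Lib.Helper18Sch2

open SchFin Groth.Agent.Lib.Helper18Sch

universe u

/-- a faithfully flat epimorphism is bijective -/
theorem bijective_of_faithfullyFlat_of_isEpi (A B : Type u) [CommRing A] [CommRing B] [Algebra A B]
    [Module.FaithfullyFlat A B] [Algebra.IsEpi A B] : Function.Bijective (algebraMap A B) := by
  apply Module.FaithfullyFlat.bijective_of_tensorProduct (S := B)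
  have hμ : Function.Injective (TensorProduct.lift (LinearMap.mul A B)) :=
    Algebra.IsEpi.injective_lift_mul
  have hι : ∀ b : B, TensorProduct.lift (LinearMap.mul A B) (algebraMap B (B ⊗[A] B) b) = b := by
    intro b
    rw [Algebra.TensorProduct.algebraMap_apply]
    simp
  refine ⟨fun b b' h => ?_, fun t => ⟨TensorProduct.lift (LinearMap.mul A B) t, ?_⟩⟩
  · rw [← hι b, ← hι b', h]
  · apply hμ
    rw [hι]

open CategoryTheory in
theorem isEpi_of_ringHom_ext {A B : Type u} [CommRing A] [CommRing B] [Algebra A B]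
    (h : ∀ {T : Type u} [CommRing T] (g₁ g₂ : B →+* T),
      g₁.comp (algebraMap A B) = g₂.comp (algebraMap A B) → g₁ = g₂) : Algebra.IsEpi A B := by
  apply CommRingCat.epi_iff_epi.mp
  refine ⟨fun {T} g₁ g₂ e => ?_⟩
  ext b
  have := h g₁.hom g₂.hom (by
    ext a
    exact congrArg (fun k => k.hom a) e)
  exact RingHom.congr_fun this b

theorem bijective_localRingHom_of_flat_epi {R S : Type u} [CommRing R] [CommRing S] (g : R →+* S)
    (hflat : g.Flat)
    (hepi : ∀ {T : Type u} [CommRing T] (g₁ g₂ : S →+* T), g₁.comp g = g₂.comp g → g₁ = g₂)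
    (P : Ideal S) [P.IsPrime] :
    Function.Bijective (Localization.localRingHom (P.comap g) P g rfl) := by
  set f := Localization.localRingHom (P.comap g) P g rfl with hf
  have hfg : (algebraMap S (Localization.AtPrime P)).comp g =
      f.comp (algebraMap R (Localization.AtPrime (P.comap g))) := by
    ext r; exact (Localization.localRingHom_to_map (P.comap g) P g rfl r).symm
  -- f is epi
  have hfepi : ∀ {T : Type u} [CommRing T] (g₁ g₂ : Localization.AtPrime P →+* T),
      g₁.comp f = g₂.comp f → g₁ = g₂ := by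
    intro T _ g₁ g₂ h
    apply IsLocalization.ringHom_ext P.primeCompl
    apply hepi
    rw [RingHom.comp_assoc, RingHom.comp_assoc, hfg, ← RingHom.comp_assoc, ← RingHom.comp_assoc, h]
  letI : Algebra R S := g.toAlgebra
  letI : Algebra (Localization.AtPrime (P.comap g)) (Localization.AtPrime P) := f.toAlgebra
  haveI : IsScalarTower R (Localization.AtPrime (P.comap g)) (Localization.AtPrime P) :=
    IsScalarTower.of_algebraMap_eq fun r => by
      rw [IsScalarTower.algebraMap_apply R S (Localization.AtPrime P)]
      exact RingHom.congr_fun hfg r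
  haveI : Module.Flat R S := hflat
  haveI : Module.Flat S (Localization.AtPrime P) := IsLocalization.flat _ P.primeCompl
  haveI : Module.Flat R (Localization.AtPrime P) := Module.Flat.trans R S _
  haveI : Module.Flat (Localization.AtPrime (P.comap g)) (Localization.AtPrime P) :=
    (Module.flat_iff_of_isLocalization (Localization.AtPrime (P.comap g)) (P.comap g).primeCompl
      (Localization.AtPrime P)).2 inferInstance
  haveI : IsLocalHom (algebraMap (Localization.AtPrime (P.comap g)) (Localization.AtPrime P)) :=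
    inferInstanceAs (IsLocalHom f)
  haveI : Module.FaithfullyFlat (Localization.AtPrime (P.comap g)) (Localization.AtPrime P) :=
    Module.FaithfullyFlat.of_flat_of_isLocalHom
  haveI : Algebra.IsEpi (Localization.AtPrime (P.comap g)) (Localization.AtPrime P) :=
    isEpi_of_ringHom_ext hfepi
  exact bijective_of_faithfullyFlat_of_isEpi _ _

theorem main15611 (X : RSpace.{u}) (hX : X.IsSchematic)
    {x y : X.pt} (h : x ≤ y) (P : Ideal (X.ring y)) [P.IsPrime] :
    Function.Bijective (Localization.localRingHom (P.comap (X.res h)) P (X.res h) rfl) :=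
  bijective_localRingHom_of_flat_epi (X.res h) (hX.1.2 x y h)
    (fun g₁ g₂ hg => main15634 hX h g₁ g₂ hg) P

theorem main15612' (X : RSpace.{u}) (hX : X.IsSchematic) (x y : X.pt) (h : x ≤ y)
    (Q : PrimeSpectrum (X.ring y)) (P : PrimeSpectrum (X.ring x))
    (hp : PrimeSpectrum.comap (X.res h) Q = P) :
    Function.Bijective (RSpace.Pair.κMap (⟨x, P⟩ : X.Pair) (⟨y, Q⟩ : X.Pair) h hp) := by
  subst hp
  have hb := main15611 X hX h Q.asIdeal
  refine ⟨RingHom.injective _, ?_⟩
  intro z
  obtain ⟨z', rfl⟩ := IsLocalRing.residue_surjective z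
  obtain ⟨w, rfl⟩ := hb.2 z'
  exact ⟨IsLocalRing.residue _ w, rfl⟩

theorem main15612 (X : RSpace.{u}) (hX : X.IsSchematic) (a b : X.Pair)
    (h : a.1 ≤ b.1) (hp : PrimeSpectrum.comap (X.res h) b.2 = a.2) :
    Function.Bijective (RSpace.Pair.κMap a b h hp) := by
  obtain ⟨x, P⟩ := a
  obtain ⟨y, Q⟩ := b
  exact main15612' X hX x y h Q P hp

end Groth.Agent.Lib.Helper18Sch2
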