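import Groth.Agent.Lib.Helper18Sch2

set_option autoImplicit false
set_option linter.style.haveILetI false
open TensorProduct

namespace Groth.Agent.Lib.Helper18Sch3

open SchFin Groth.Agent.Lib.Helper18Sch

universe u

/-- if `A → B` is flat, `N` an `A`-module with `B ⊗ N = 0`, `t ∈ N`, and `P` a proper ideal of `B`
containing the image of the annihilator of `t`... : contradiction -/
theorem false_of_subsingleton_tensor {A B N : Type u} [CommRing A] [CommRing B] [Algebra A B]
    [Module.Flat A B] [AddCommGroup N] [Module A N] [Subsingleton (B ⊗[A] N)] (t : N)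
    (P : Ideal B) (hP : P ≠ ⊤) (h : ∀ a : A, a • t = 0 → algebraMap A B a ∈ P) : False := by
  let γ : A →ₗ[A] N := LinearMap.toSpanSingleton A N t
  let I : Ideal A := LinearMap.ker γ
  let γ' : (A ⧸ I) →ₗ[A] N := Submodule.liftQ I γ le_rfl
  have hγ' : Function.Injective γ' :=
    LinearMap.ker_eq_bot.1 (Submodule.ker_liftQ_eq_bot _ _ _ le_rfl)
  have hinj : Function.Injective (LinearMap.lTensor B γ') :=
    Module.Flat.lTensor_preserves_injective_linearMap γ' hγ'
  haveI : Subsingleton (B ⊗[A] (A ⧸ I)) := hinj.subsingleton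
  haveI : Subsingleton (B ⧸ (I • (⊤ : Submodule A B))) :=
    (TensorProduct.tensorQuotEquivQuotSMul B I).symm.injective.subsingleton
  have htop : (I • (⊤ : Submodule A B)) = ⊤ := Submodule.Quotient.subsingleton_iff.1 inferInstance
  have hle : (I • (⊤ : Submodule A B)) ≤ P.restrictScalars A := by
    rw [Submodule.smul_le]
    intro a ha b _
    have : a • t = 0 := ha
    rw [Submodule.restrictScalars_mem, Algebra.smul_def]
    exact P.mul_mem_right _ (h a this)
  apply hP
  rw [Ideal.eq_top_iff_one]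
  have : (1 : B) ∈ (I • (⊤ : Submodule A B)) := by rw [htop]; trivial
  exact hle this

theorem main15613 (X : RSpace.{u}) (hX : X.IsSchematic) {Ω : Type u} [Field Ω]
    [IsAlgClosed Ω] (ξ : GeomPt X Ω) {x' : X.pt} (hx : ξ.base < x') (P : Ideal (X.ring x')) [P.IsPrime] :
    P.comap (X.res hx.le) ≠ RingHom.ker ξ.toField := by
  intro hP
  have hbc := (isBCAlong_resH_zero_iff (RSpace.point Ω).str (ξ.hom.subTgt PUnit.unit hx.le)).1
    (ξ.isSchematic.2.2 0 PUnit.unit PUnit.unit le_rfl ξ.base x' hx.le).2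
  set φ := Coef.ofHom ξ.hom ξ.base (ξ.hom.wedge PUnit.unit ξ.base) (ξ.hom.wedge_subset_pre _ _)
    with hφ
  set φ' := Coef.ofHom ξ.hom x' (ξ.hom.wedge PUnit.unit x') (ξ.hom.wedge_subset_pre _ _) with hφ'
  letI : Algebra (X.ring ξ.base) (X.ring x') := (X.res hx.le).toAlgebra
  letI : Module (X.ring ξ.base) (SectR φ' (RSpace.point Ω).str) := Module.compHom _ (X.res hx.le)
  haveI : IsScalarTower (X.ring ξ.base) (X.ring x') (SectR φ' (RSpace.point Ω).str) :=
    IsScalarTower.of_algebraMap_smul fun _ _ => rfl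
  let fl : SectR φ (RSpace.point Ω).str →ₗ[X.ring ξ.base] SectR φ' (RSpace.point Ω).str :=
    { toFun := restrSect (RSpace.point Ω).str (ξ.hom.subTgt PUnit.unit hx.le)
      map_add' := (restrSect (RSpace.point Ω).str (ξ.hom.subTgt PUnit.unit hx.le)).map_add
      map_smul' := (restrSect (RSpace.point Ω).str (ξ.hom.subTgt PUnit.unit hx.le)).map_smulₛₗ }
  have hb : IsBaseChange (X.ring x') fl := hbc
  haveI : IsEmpty ↥(ξ.hom.wedge PUnit.unit x') :=
    ⟨fun q => absurd (show x' ≤ ξ.base from q.2.2) (not_le_of_gt hx)⟩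
  haveI : Subsingleton (SectR φ' (RSpace.point Ω).str) :=
    ⟨fun a b => Subtype.ext (funext fun q => isEmptyElim q)⟩
  haveI : Subsingleton (X.ring x' ⊗[X.ring ξ.base] SectR φ (RSpace.point Ω).str) :=
    hb.equiv.injective.subsingleton
  haveI : Module.Flat (X.ring ξ.base) (X.ring x') := hX.1.2 ξ.base x' hx.le
  let t : SectR φ (RSpace.point Ω).str := ⟨fun _ => (1 : Ω), fun _ _ _ => rfl⟩
  refine false_of_subsingleton_tensor (A := X.ring ξ.base) (B := X.ring x') t P
    (Ideal.IsPrime.ne_top inferInstance) (fun a ha => ?_)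
  have h1 : ξ.toField a = 0 := by
    have := congrArg (fun s : SectR φ (RSpace.point Ω).str => s.1 ⟨PUnit.unit, le_rfl, le_rfl⟩) ha
    have e : ξ.toField (X.res (le_refl ξ.base) a) * 1 = 0 := this
    rwa [X.res_self, mul_one] at e
  have h2 : a ∈ P.comap (X.res hx.le) := by rw [hP]; exact h1
  exact h2

end Groth.Agent.Lib.Helper18Sch3
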