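import Groth.Agent.Lib.Helper18Sch4

set_option autoImplicit false
set_option linter.style.haveILetI false
open TensorProduct

namespace Groth.Agent.Lib.Helper18Sch5

open SchFin Groth.Agent.Lib.Helper18Sch Groth.Agent.Lib.Helper18Sch4

universe u

theorem isBCAlong_of_isEpi_of_bijective {R S : Type u} [CommRing R] [CommRing S] (g : R →+* S)
    (hg : letI := g.toAlgebra; Algebra.IsEpi R S) {M N : Type u} [AddCommGroup M] [AddCommGroup N]
    [Module R M] [Module S N] (f : M →ₛₗ[g] N) (hf : Function.Bijective f) : IsBCAlong g f := by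
  letI : Algebra R S := g.toAlgebra
  letI : Module R N := Module.compHom N g
  haveI : IsScalarTower R S N := IsScalarTower.of_algebraMap_smul fun _ _ => rfl
  haveI : Algebra.IsEpi R S := hg
  let fl : M →ₗ[R] N := { toFun := f, map_add' := f.map_add, map_smul' := f.map_smulₛₗ }
  show IsBaseChange S fl
  let fe : M ≃ₗ[R] N := LinearEquiv.ofBijective fl hf
  let e : S ⊗[R] M ≃ₗ[S] N :=
    (TensorProduct.AlgebraTensorModule.congr (LinearEquiv.refl S S) fe) ≪≫ₗ TensorProduct.lid' R S N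
  refine IsBaseChange.of_equiv e (fun x => ?_)
  show TensorProduct.lid' R S N ((TensorProduct.AlgebraTensorModule.congr (LinearEquiv.refl S S) fe)
    ((1 : S) ⊗ₜ[R] x)) = fl x
  rw [TensorProduct.AlgebraTensorModule.congr_tmul, TensorProduct.lid'_apply_tmul]
  simp [fe]

theorem subsingleton_tensor_of_right {R S M : Type u} [CommRing R] [CommRing S] [Algebra R S]
    [AddCommGroup M] [Module R M] [Subsingleton M] : Subsingleton (S ⊗[R] M) := by
  refine ⟨fun a b => ?_⟩
  have h0 : ∀ t : S ⊗[R] M, t = 0 := by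
    intro t
    induction t using TensorProduct.induction_on with
    | zero => rfl
    | tmul s m => rw [Subsingleton.elim m 0, TensorProduct.tmul_zero]
    | add t t' ht ht' => rw [ht, ht', add_zero]
  rw [h0 a, h0 b]

theorem isBCAlong_of_subsingleton {R S : Type u} [CommRing R] [CommRing S] (g : R →+* S)
    {M N : Type u} [AddCommGroup M] [AddCommGroup N]
    [Module R M] [Module S N] (f : M →ₛₗ[g] N) [Subsingleton N]
    (h : letI := g.toAlgebra; Subsingleton (S ⊗[R] M)) : IsBCAlong g f := by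
  letI : Algebra R S := g.toAlgebra
  letI : Module R N := Module.compHom N g
  haveI : IsScalarTower R S N := IsScalarTower.of_algebraMap_smul fun _ _ => rfl
  haveI := h
  let fl : M →ₗ[R] N := { toFun := f, map_add' := f.map_add, map_smul' := f.map_smulₛₗ }
  show IsBaseChange S fl
  exact IsBaseChange.of_equiv (LinearEquiv.ofSubsingleton _ _) (fun x => Subsingleton.elim _ _)

theorem isBCAlong_of_subsingleton' {R S : Type u} [CommRing R] [CommRing S] (g : R →+* S)
    {M N : Type u} [AddCommGroup M] [AddCommGroup N]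
    [Module R M] [Module S N] (f : M →ₛₗ[g] N) [Subsingleton M] [Subsingleton N] : IsBCAlong g f :=
  isBCAlong_of_subsingleton g f (by
    letI : Algebra R S := g.toAlgebra
    exact subsingleton_tensor_of_right)

section HighDeg

variable {X : RSpace.{u}} {U : Set X.pt} {R : Type u} [CommRing R] (φ : Coef X U R) (M : OMod X)

/-- no chains of length `≥ 2` in a subsingleton set -/
theorem isEmpty_chain_of_subsingleton (hU : U.Subsingleton) (n : ℕ) : IsEmpty (Chain U (n + 1)) := by
  refine ⟨fun σ => ?_⟩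
  have h : σ 0 = σ 1 := Subtype.ext (hU (σ 0).2 (σ 1).2)
  have := σ.injective h
  exact absurd this (by simp)

theorem subsingleton_H_succ (hU : U.Subsingleton) (n : ℕ) : Subsingleton (H φ M (n + 1)) := by
  haveI := isEmpty_chain_of_subsingleton hU n
  haveI : Subsingleton (Cochain φ M (n + 1)) := ⟨fun a b => funext fun σ => isEmptyElim σ⟩
  haveI : Subsingleton (cocycles φ M (n + 1)) := inferInstance
  unfold H
  infer_instance

variable {φ} {U' : Set X.pt} {R' : Type u} [CommRing R'] {φ' : Coef X U' R'}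

theorem restrSect_bijective (s : Coef.Sub φ φ') (h : U ⊆ U') : Function.Bijective (restrSect M s) := by
  constructor
  · intro t t' ht
    apply Subtype.ext
    funext q
    exact congrArg (fun w : SectR φ' M => w.1 ⟨q.1, h q.2⟩) ht
  · intro t'
    exact ⟨⟨fun q => t'.1 ⟨q.1, h q.2⟩, fun q q' hq => t'.2 ⟨q.1, h q.2⟩ ⟨q'.1, h q'.2⟩ hq⟩, rfl⟩

end HighDeg

section Geom

variable {X : RSpace.{u}} {Ω : Type u} [Field Ω]

/-- the morphism from the one-point space given by a point and a ring map to the field -/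
def geomHom (x : X.pt) (ψ : X.ring x →+* Ω) : Hom (RSpace.point Ω) X where
  fn _ := x
  mono _ _ _ := le_rfl
  app _ := ψ
  compat h b := by
    show ψ b = ψ (X.res _ b)
    rw [X.res_self]

lemma point_isFinSp : (RSpace.point Ω).IsFinSp :=
  ⟨fun _ => (inferInstance : IsNoetherianRing Ω), fun _ _ _ => RingHom.Flat.id Ω⟩

lemma geomHom_wedge_subsingleton (x : X.pt) (ψ : X.ring x →+* Ω) (u : PUnit) (y : X.pt) :
    ((geomHom x ψ).wedge u y).Subsingleton := fun _ _ _ _ => rfl

lemma geomHom_mem_wedge {x : X.pt} (ψ : X.ring x →+* Ω) (u q : PUnit) {y : X.pt} (h : y ≤ x) :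
    q ∈ (geomHom x ψ).wedge u y := ⟨le_rfl, h⟩

lemma geomHom_le_of_mem_wedge {x : X.pt} (ψ : X.ring x →+* Ω) {u q : PUnit} {y : X.pt}
    (h : q ∈ (geomHom x ψ).wedge u y) : y ≤ x := h.2

/-- the key vanishing: `R_{y'} ⊗[R_y] Ω = 0` when `y ≤ x`, `y ≤ y'`, `y' ≰ x` and `x` is maximal -/
theorem subsingleton_tensor_field (x : X.pt) (ψ : X.ring x →+* Ω)
    (hmax : ∀ (y y' : X.pt) (hyx : y ≤ x) (hy : y ≤ y') (P' : Ideal (X.ring y')) [P'.IsPrime],
      (∀ r : X.ring y, X.res hy r ∈ P' ↔ ψ (X.res hyx r) = 0) → y' ≤ x)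
    {y y' : X.pt} (hyx : y ≤ x) (hy : y ≤ y') (hy'x : ¬ y' ≤ x) :
    letI : Algebra (X.ring y) (X.ring y') := (X.res hy).toAlgebra
    letI : Algebra (X.ring y) Ω := (ψ.comp (X.res hyx)).toAlgebra
    Subsingleton (X.ring y' ⊗[X.ring y] Ω) := by
  letI : Algebra (X.ring y) (X.ring y') := (X.res hy).toAlgebra
  letI : Algebra (X.ring y) Ω := (ψ.comp (X.res hyx)).toAlgebra
  by_contra hns
  rw [not_subsingleton_iff_nontrivial] at hns
  obtain ⟨𝔮, h𝔮⟩ := Ideal.exists_maximal (X.ring y' ⊗[X.ring y] Ω)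
  haveI : 𝔮.IsPrime := h𝔮.isPrime
  let P' : Ideal (X.ring y') := 𝔮.comap Algebra.TensorProduct.includeLeftRingHom
  haveI : P'.IsPrime := Ideal.IsPrime.comap _
  apply hy'x
  refine hmax y y' hyx hy P' (fun r => ?_)
  have e1 : (X.res hy r) ⊗ₜ[X.ring y] (1 : Ω) = (1 : X.ring y') ⊗ₜ[X.ring y] (ψ (X.res hyx r)) := by
    have h1 : X.res hy r = r • (1 : X.ring y') := by
      rw [Algebra.smul_def, mul_one]; rfl
    have h2 : ψ (X.res hyx r) = r • (1 : Ω) := by
      rw [Algebra.smul_def, mul_one]; rfl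
    rw [h1, h2, TensorProduct.smul_tmul]
  show (X.res hy r) ⊗ₜ[X.ring y] (1 : Ω) ∈ 𝔮 ↔ _
  rw [e1]
  constructor
  · intro hmem
    by_contra hne
    apply Ideal.IsPrime.ne_top (I := 𝔮) inferInstance
    rw [Ideal.eq_top_iff_one]
    have : (1 : X.ring y' ⊗[X.ring y] Ω) =
        ((1 : X.ring y') ⊗ₜ[X.ring y] (ψ (X.res hyx r))⁻¹) * ((1 : X.ring y') ⊗ₜ[X.ring y] (ψ (X.res hyx r))) := by
      rw [Algebra.TensorProduct.tmul_mul_tmul, mul_one, inv_mul_cancel₀ hne]
      rfl
    rw [this]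
    exact 𝔮.mul_mem_left _ hmem
  · intro h0
    rw [h0, TensorProduct.tmul_zero]
    exact 𝔮.zero_mem

theorem geomHom_isSchematic (hX : X.IsSchematic) (x : X.pt) (ψ : X.ring x →+* Ω)
    (hmax : ∀ (y y' : X.pt) (hyx : y ≤ x) (hy : y ≤ y') (P' : Ideal (X.ring y')) [P'.IsPrime],
      (∀ r : X.ring y, X.res hy r ∈ P' ↔ ψ (X.res hyx r) = 0) → y' ≤ x) :
    (geomHom x ψ).IsSchematic := by
  refine ⟨point_isFinSp, hX.1, ?_⟩
  intro n u u' hu y y' hy
  constructor
  · -- source direction: trivial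
    cases n with
    | zero =>
      refine (isBCAlong_resH_zero_iff _ _).2 (isBCAlong_of_isEpi_of_bijective _ ?_ _
        (restrSect_bijective _ _ (fun q hq => ⟨le_rfl, hq.2⟩)))
      exact Algebra.isEpi_of_surjective_algebraMap (R := Ω) (A := Ω) (fun b => ⟨b, rfl⟩)
    | succ n =>
      haveI := subsingleton_H_succ (Coef.ofLE u ((geomHom x ψ).wedge u y)
        ((geomHom x ψ).wedge_subset_up u y)) (RSpace.point Ω).str
        (geomHom_wedge_subsingleton x ψ u y) n
      haveI := subsingleton_H_succ (Coef.ofLE u' ((geomHom x ψ).wedge u' y)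
        ((geomHom x ψ).wedge_subset_up u' y)) (RSpace.point Ω).str
        (geomHom_wedge_subsingleton x ψ u' y) n
      exact isBCAlong_of_subsingleton' _ _
  · cases n with
    | zero =>
      refine (isBCAlong_resH_zero_iff _ _).2 ?_
      by_cases hy'x : y' ≤ x
      · exact isBCAlong_of_isEpi_of_bijective _ (isEpi_of_isSchematic hX hy) _
          (restrSect_bijective _ _ (fun q hq => ⟨hq.1, hy'x⟩))
      · set φy := Coef.ofHom (geomHom x ψ) y ((geomHom x ψ).wedge u y)
          ((geomHom x ψ).wedge_subset_pre u y) with hφy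
        set φy' := Coef.ofHom (geomHom x ψ) y' ((geomHom x ψ).wedge u y')
          ((geomHom x ψ).wedge_subset_pre u y') with hφy'
        haveI : IsEmpty ↥((geomHom x ψ).wedge u y') := ⟨fun q => hy'x q.2.2⟩
        haveI : Subsingleton (SectR φy' (RSpace.point Ω).str) :=
          ⟨fun a b => Subtype.ext (funext fun q => isEmptyElim q)⟩
        refine isBCAlong_of_subsingleton _ _ ?_
        by_cases hyx : y ≤ x
        · letI : Algebra (X.ring y) (X.ring y') := (X.res hy).toAlgebra
          letI : Algebra (X.ring y) Ω := (ψ.comp (X.res hyx)).toAlgebra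
          haveI := subsingleton_tensor_field x ψ hmax hyx hy hy'x
          let εΩ : SectR φy (RSpace.point Ω).str ≃ₗ[X.ring y] Ω :=
            { toFun := fun t => t.1 ⟨PUnit.unit, geomHom_mem_wedge ψ u PUnit.unit hyx⟩
              map_add' := fun _ _ => rfl
              map_smul' := fun _ _ => rfl
              invFun := fun ω => ⟨fun _ => ω, fun _ _ _ => rfl⟩
              left_inv := fun t => Subtype.ext (funext fun q => rfl)
              right_inv := fun ω => rfl }
          exact (LinearEquiv.lTensor (X.ring y') εΩ).injective.subsingleton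
        · haveI : IsEmpty ↥((geomHom x ψ).wedge u y) := ⟨fun q => hyx q.2.2⟩
          haveI : Subsingleton (SectR φy (RSpace.point Ω).str) :=
            ⟨fun a b => Subtype.ext (funext fun q => isEmptyElim q)⟩
          letI : Algebra (X.ring y) (X.ring y') := (X.res hy).toAlgebra
          exact subsingleton_tensor_of_right
    | succ n =>
      haveI := subsingleton_H_succ (Coef.ofHom (geomHom x ψ) y ((geomHom x ψ).wedge u y)
        ((geomHom x ψ).wedge_subset_pre u y)) (RSpace.point Ω).str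
        (geomHom_wedge_subsingleton x ψ u y) n
      haveI := subsingleton_H_succ (Coef.ofHom (geomHom x ψ) y' ((geomHom x ψ).wedge u y')
        ((geomHom x ψ).wedge_subset_pre u y')) (RSpace.point Ω).str
        (geomHom_wedge_subsingleton x ψ u y') n
      exact isBCAlong_of_subsingleton' _ _

theorem geomPt_ext [IsAlgClosed Ω] (ξ ξ' : GeomPt X Ω)
    (h : (⟨ξ.base, ξ.toField⟩ : Σ x : X.pt, (X.ring x →+* Ω)) = ⟨ξ'.base, ξ'.toField⟩) : ξ = ξ' := by
  obtain ⟨⟨fn, mono, app, compat⟩, hs⟩ := ξ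
  obtain ⟨⟨fn', mono', app', compat'⟩, hs'⟩ := ξ'
  obtain ⟨h1, h2⟩ := Sigma.mk.inj_iff.1 h
  have hfn : fn = fn' := funext fun u => h1
  subst hfn
  have happ : app = app' := funext fun u => eq_of_heq h2
  subst happ
  rfl

theorem main15627 (hX : X.IsSchematic) (hff : HFF X) [IsAlgClosed Ω] (a : X.Pair)
    (ha : ∀ b : X.Pair, X.PairRel a b → b.1 ≤ a.1) (φ : a.κ →+* Ω) :
    ∃! ξ : GeomPt X Ω, (⟨ξ.base, ξ.toField⟩ : Σ x : X.pt, (X.ring x →+* Ω)) =
      ⟨a.1, φ.comp (algebraMap (X.ring a.1) a.κ)⟩ := by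
  set ψ : X.ring a.1 →+* Ω := φ.comp (algebraMap (X.ring a.1) a.κ) with hψ
  have hker : ∀ c : X.ring a.1, ψ c = 0 ↔ c ∈ a.2.asIdeal := by
    intro c
    rw [hψ, RingHom.comp_apply, map_eq_zero_iff φ (RingHom.injective φ),
      Ideal.algebraMap_residueField_eq_zero]
  have hmax : ∀ (y y' : X.pt) (hyx : y ≤ a.1) (hy : y ≤ y') (P' : Ideal (X.ring y')) [P'.IsPrime],
      (∀ r : X.ring y, X.res hy r ∈ P' ↔ ψ (X.res hyx r) = 0) → y' ≤ a.1 := by
    intro y y' hyx hy P' hP' hr
    have hrel : X.PairRel ⟨a.1, a.2⟩ ⟨y', ⟨P', hP'⟩⟩ := by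
      refine main15614 hX hff hyx hy a.2 ⟨P', hP'⟩ ?_
      apply PrimeSpectrum.ext
      ext r
      rw [PrimeSpectrum.comap_asIdeal, PrimeSpectrum.comap_asIdeal, Ideal.mem_comap, Ideal.mem_comap,
        ← hker]
      exact (hr r).symm
    exact ha _ hrel
  refine ⟨⟨geomHom a.1 ψ, geomHom_isSchematic hX a.1 ψ hmax⟩, rfl, ?_⟩
  intro ξ' hξ'
  exact geomPt_ext _ _ hξ'

end Geom

end Groth.Agent.Lib.Helper18Sch5
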