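import Mathlib

set_option autoImplicit false
set_option linter.style.haveILetI false
set_option linter.unusedSectionVars false
open TensorProduct

namespace Groth.Agent.Lib.Helper18Sch6

universe u

section Abstract

variable {O : Type u} [CommRing O] {I : Type u} [Finite I] (R : I → Type u) [∀ i, CommRing (R i)]
  [∀ i, Algebra O (R i)]

/-- projection from a finite product, as an algebra structure -/
@[reducible] def evalAlg (i : I) : Algebra (∀ j, R j) (R i) := (Pi.evalRingHom R i).toAlgebra

attribute [local instance] evalAlg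

theorem evalAlg_away (i : I) [DecidableEq I] :
    IsLocalization.Away (Pi.single i 1 : ∀ j, R j) (R i) := by
  refine IsLocalization.away_of_isIdempotentElem ?_ (RingHom.ker_evalRingHom _ _)
    ((Pi.evalRingHom R i).surjective)
  simp [IsIdempotentElem, ← Pi.single_mul_left]

theorem evalAlg_flat (i : I) : Module.Flat (∀ j, R j) (R i) := by
  classical
  haveI := evalAlg_away R i
  exact IsLocalization.flat (R i) (Submonoid.powers (Pi.single i 1 : ∀ j, R j))

theorem evalAlg_etale (i : I) : Algebra.Etale (∀ j, R j) (R i) := by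
  classical
  haveI := evalAlg_away R i
  exact Algebra.Etale.of_isLocalizationAway (Pi.single i 1 : ∀ j, R j)

theorem evalAlg_finite (i : I) : Module.Finite (∀ j, R j) (R i) :=
  Module.Finite.of_surjective (Algebra.linearMap (∀ j, R j) (R i)) (Pi.evalRingHom R i).surjective

variable (A : I → Type u) [∀ i, CommRing (A i)] [∀ i, Algebra (R i) (A i)]

/-- a copy of `A i`, regarded only as an algebra over the product ring -/
def AP (_R : I → Type u) (A : I → Type u) (i : I) : Type u := A i

instance (i : I) : CommRing (AP R A i) := inferInstanceAs (CommRing (A i))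

instance instAlgebraAP (i : I) : Algebra (∀ j, R j) (AP R A i) :=
  ((algebraMap (R i) (A i)).comp (Pi.evalRingHom R i)).toAlgebra

/-- the `R i`-algebra structure on the copy (not an instance) -/
@[reducible] def algAP (i : I) : Algebra (R i) (AP R A i) := inferInstanceAs (Algebra (R i) (A i))

theorem algAP_tower (i : I) :
    letI := algAP R A i
    IsScalarTower (∀ j, R j) (R i) (AP R A i) := by
  letI := algAP R A i
  exact IsScalarTower.of_algebraMap_eq fun _ => rfl

theorem pi_finite (h : ∀ i, Module.Finite (R i) (A i)) :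
    Module.Finite (∀ j, R j) (∀ i, AP R A i) := by
  haveI : ∀ i, Module.Finite (∀ j, R j) (AP R A i) := fun i => by
    letI := algAP R A i
    haveI := algAP_tower R A i
    haveI := evalAlg_finite R i
    haveI : Module.Finite (R i) (AP R A i) := h i
    exact Module.Finite.trans (R i) (AP R A i)
  infer_instance

theorem pi_flat (h : ∀ i, Module.Flat (R i) (A i)) : Module.Flat (∀ j, R j) (∀ i, AP R A i) := by
  classical
  haveI := Fintype.ofFinite I
  haveI : ∀ i, Module.Flat (∀ j, R j) (AP R A i) := fun i => by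
    letI := algAP R A i
    haveI := algAP_tower R A i
    haveI := evalAlg_flat R i
    haveI : Module.Flat (R i) (AP R A i) := h i
    exact Module.Flat.trans _ (R i) (AP R A i)
  exact Module.Flat.of_linearEquiv
    (DFinsupp.linearEquivFunOnFintype (R := ∀ j, R j) (M := AP R A)).symm

theorem pi_etale (h : ∀ i, Algebra.Etale (R i) (A i)) :
    Algebra.Etale (∀ j, R j) (∀ i, AP R A i) := by
  haveI : ∀ i, Algebra.Etale (∀ j, R j) (AP R A i) := fun i => by
    letI := algAP R A i
    haveI := algAP_tower R A i
    haveI := evalAlg_etale R i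
    haveI : Algebra.Etale (R i) (AP R A i) := h i
    exact Algebra.Etale.comp _ (R i) (AP R A i)
  infer_instance

variable [∀ i, Algebra O (A i)] [∀ i, IsScalarTower O (R i) (A i)]

instance instAlgebraOAP (i : I) : Algebra O (AP R A i) := inferInstanceAs (Algebra O (A i))

instance instTowerAP (i : I) : IsScalarTower O (∀ j, R j) (AP R A i) :=
  IsScalarTower.of_algebraMap_eq fun a => by
    show algebraMap O (A i) a = algebraMap (R i) (A i) (algebraMap O (∀ j, R j) a i)
    rw [Pi.algebraMap_apply, ← IsScalarTower.algebraMap_apply]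

variable {B : Type u} [CommRing B] [Algebra O B] (ev : ∀ i, B →ₐ[O] A i)

/-- the comparison map `(∏ R_i) ⊗ B → ∏ A_i` -/
noncomputable def Phi0 : (∀ j, R j) ⊗[O] B →ₐ[∀ j, R j] (∀ i, AP R A i) :=
  Algebra.TensorProduct.lift (Algebra.ofId (∀ j, R j) (∀ i, AP R A i))
    (AlgHom.pi (fun i => (ev i : B →ₐ[O] AP R A i))) (fun _ _ => Commute.all _ _)

theorem Phi0_tmul (p : ∀ j, R j) (b : B) (i : I) :
    Phi0 R A ev (p ⊗ₜ b) i = algebraMap (R i) (A i) (p i) * ev i b := by
  unfold Phi0
  rw [Algebra.TensorProduct.lift_tmul]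
  rfl

theorem Phi0_bijective (hev : ∀ i, IsBaseChange (R i) (ev i).toLinearMap) :
    Function.Bijective (Phi0 R A ev) := by
  classical
  haveI := Fintype.ofFinite I
  let Ψ : (∀ j, R j) ⊗[O] B ≃ₗ[O] ∀ i, A i :=
    (TensorProduct.piLeft O B R) ≪≫ₗ
      LinearEquiv.piCongrRight (fun i => ((hev i).equiv.restrictScalars O))
  have hΨ : ∀ (p : ∀ j, R j) (b : B) (i : I), Ψ (p ⊗ₜ b) i = algebraMap (R i) (A i) (p i) * ev i b := by
    intro p b i
    show (hev i).equiv (TensorProduct.piLeft O B R (p ⊗ₜ b) i) = _
    have : TensorProduct.piLeft O B R (p ⊗ₜ b) i = p i ⊗ₜ b := by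
      simp [TensorProduct.piLeft]
    rw [this, IsBaseChange.equiv_tmul, Algebra.smul_def]
    rfl
  have key : ∀ t, (Phi0 R A ev t : ∀ i, A i) = Ψ t := by
    intro t
    induction t using TensorProduct.induction_on with
    | zero => rw [map_zero, map_zero]; rfl
    | tmul p b => funext i; rw [Phi0_tmul, hΨ]
    | add t t' ht ht' =>
      rw [map_add, map_add, ← ht, ← ht']
      rfl
  constructor
  · intro t t' h
    apply Ψ.injective
    rw [← key, ← key]
    exact h
  · intro y
    refine ⟨Ψ.symm y, ?_⟩
    exact (key (Ψ.symm y)).trans (Ψ.apply_symm_apply y)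

/-- the comparison isomorphism -/
noncomputable def Phi (hev : ∀ i, IsBaseChange (R i) (ev i).toLinearMap) :
    (∀ j, R j) ⊗[O] B ≃ₐ[∀ j, R j] (∀ i, AP R A i) :=
  AlgEquiv.ofBijective (Phi0 R A ev) (Phi0_bijective R A ev hev)

theorem finite_of_forall_finite [Module.FaithfullyFlat O (∀ j, R j)]
    (hev : ∀ i, IsBaseChange (R i) (ev i).toLinearMap) (h : ∀ i, Module.Finite (R i) (A i)) :
    Module.Finite O B := by
  haveI := pi_finite R A h
  haveI : Module.Finite (∀ j, R j) ((∀ j, R j) ⊗[O] B) :=
    Module.Finite.equiv (Phi R A ev hev).symm.toLinearEquiv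
  exact Module.Finite.of_finite_tensorProduct_of_faithfullyFlat (∀ j, R j)

theorem flat_of_forall_flat [Module.FaithfullyFlat O (∀ j, R j)]
    (hev : ∀ i, IsBaseChange (R i) (ev i).toLinearMap) (h : ∀ i, Module.Flat (R i) (A i)) :
    Module.Flat O B := by
  haveI := pi_flat R A h
  haveI : Module.Flat (∀ j, R j) ((∀ j, R j) ⊗[O] B) :=
    Module.Flat.of_linearEquiv (Phi R A ev hev).toLinearEquiv
  exact Module.Flat.of_flat_tensorProduct O B (∀ j, R j)

theorem etale_of_forall_etale [Module.FaithfullyFlat O (∀ j, R j)]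
    (hev : ∀ i, IsBaseChange (R i) (ev i).toLinearMap) (h : ∀ i, Algebra.Etale (R i) (A i)) :
    Algebra.Etale O B := by
  haveI := pi_etale R A h
  haveI : Algebra.Etale (∀ j, R j) ((∀ j, R j) ⊗[O] B) :=
    Algebra.Etale.of_equiv (Phi R A ev hev).symm
  exact Algebra.Etale.of_etale_tensorProduct_of_faithfullyFlat (∀ j, R j)

theorem finite_of_finite (hev : ∀ i, IsBaseChange (R i) (ev i).toLinearMap) [Module.Finite O B]
    (i : I) : Module.Finite (R i) (A i) :=
  Module.Finite.equiv (hev i).equiv

theorem flat_of_flat (hev : ∀ i, IsBaseChange (R i) (ev i).toLinearMap) [Module.Flat O B]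
    (i : I) : Module.Flat (R i) (A i) :=
  Module.Flat.isBaseChange O (R i) B (A i) (hev i)

theorem faithfullyFlat_of_faithfullyFlat (hev : ∀ i, IsBaseChange (R i) (ev i).toLinearMap)
    [Module.FaithfullyFlat O B] (i : I) : Module.FaithfullyFlat (R i) (A i) :=
  Module.FaithfullyFlat.of_linearEquiv (R i) (R i ⊗[O] B) (hev i).equiv.symm

/-- the base-change isomorphism as an algebra isomorphism -/
noncomputable def evAlgEquiv (hev : ∀ i, IsBaseChange (R i) (ev i).toLinearMap) (i : I) :
    R i ⊗[O] B ≃ₐ[R i] A i :=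
  AlgEquiv.ofBijective
    (Algebra.TensorProduct.lift (Algebra.ofId (R i) (A i)) (ev i) (fun _ _ => Commute.all _ _))
    (by
      have key : ∀ t, Algebra.TensorProduct.lift (Algebra.ofId (R i) (A i)) (ev i)
          (fun _ _ => Commute.all _ _) t = (hev i).equiv t := by
        intro t
        induction t using TensorProduct.induction_on with
        | zero => rw [map_zero, map_zero]
        | tmul r b =>
          rw [Algebra.TensorProduct.lift_tmul, IsBaseChange.equiv_tmul, Algebra.smul_def]
          rfl
        | add t t' ht ht' => rw [map_add, map_add, ht, ht']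
      constructor
      · intro t t' h
        apply (hev i).equiv.injective
        rw [← key, ← key]; exact h
      · intro y
        exact ⟨(hev i).equiv.symm y, (key _).trans ((hev i).equiv.apply_symm_apply y)⟩)

theorem etale_of_etale (hev : ∀ i, IsBaseChange (R i) (ev i).toLinearMap) [Algebra.Etale O B]
    (i : I) : Algebra.Etale (R i) (A i) :=
  Algebra.Etale.of_equiv (evAlgEquiv R A ev hev i)

theorem faithfullyFlat_of_forall_faithfullyFlat [Module.FaithfullyFlat O (∀ j, R j)]
    (hev : ∀ i, IsBaseChange (R i) (ev i).toLinearMap)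
    (h : ∀ i, Module.FaithfullyFlat (R i) (A i)) : Module.FaithfullyFlat O B := by
  haveI : Module.Flat O B := flat_of_forall_flat R A ev hev (fun i => inferInstance)
  apply Module.FaithfullyFlat.of_comap_surjective
  intro 𝔭
  obtain ⟨𝔯, h𝔯⟩ := PrimeSpectrum.comap_surjective_of_faithfullyFlat (A := O) (B := ∀ j, R j) 𝔭
  obtain ⟨⟨i, r⟩, hir⟩ := (PrimeSpectrum.sigmaToPi_bijective R).2 𝔯
  haveI := h i
  obtain ⟨s, hs⟩ := PrimeSpectrum.comap_surjective_of_faithfullyFlat (A := R i) (B := A i) r
  refine ⟨PrimeSpectrum.comap (ev i).toRingHom s, ?_⟩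
  apply PrimeSpectrum.ext
  ext a
  rw [← h𝔯, ← hir, ← hs]
  simp only [PrimeSpectrum.comap_asIdeal, Ideal.mem_comap, PrimeSpectrum.sigmaToPi_apply]
  have e1 : (ev i).toRingHom (algebraMap O B a) = algebraMap O (A i) a := (ev i).commutes a
  have e2 : algebraMap (R i) (A i) (Pi.evalRingHom R i (algebraMap O (∀ j, R j) a)) =
      algebraMap O (A i) a := by
    rw [IsScalarTower.algebraMap_apply O (R i) (A i)]
    rfl
  rw [e1, e2]

end Abstract

end Groth.Agent.Lib.Helper18Sch6
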