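import Groth.Agent.Lib.Helper18Sch5

set_option autoImplicit false
set_option linter.style.haveILetI false
set_option linter.unusedVariables false
open TensorProduct

namespace Groth.Agent.Lib.Helper18Sch7

open SchFin Groth.Agent.Lib.Helper18Sch

universe u

theorem isBCAlong_of_ringEquiv {R R' S : Type u} [CommRing R] [CommRing R'] [CommRing S]
    (ρ : R' ≃+* R) (g : R →+* S) (g' : R' →+* S) (hg : ∀ r', g (ρ r') = g' r')
    {M M' N : Type u} [AddCommGroup M] [AddCommGroup M'] [AddCommGroup N] [Module R M]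
    [Module R' M'] [Module S N] (f : M →ₛₗ[g] N) (f' : M' →ₛₗ[g'] N) (eM : M' ≃+ M)
    (heM : ∀ (r' : R') (m' : M'), eM (r' • m') = ρ r' • eM m') (hf : ∀ m', f (eM m') = f' m')
    (h : IsBCAlong g' f') : IsBCAlong g f := by
  letI algR : Algebra R S := g.toAlgebra
  letI modRN : Module R N := Module.compHom N g
  haveI : IsScalarTower R S N := IsScalarTower.of_algebraMap_smul fun _ _ => rfl
  let fl : M →ₗ[R] N := { toFun := f, map_add' := f.map_add, map_smul' := f.map_smulₛₗ }
  show IsBaseChange S fl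
  apply IsBaseChange.of_lift_unique
  intro Q _ _ _ _ k
  letI algR' : Algebra R' S := g'.toAlgebra
  letI modR'N : Module R' N := Module.compHom N g'
  haveI : IsScalarTower R' S N := IsScalarTower.of_algebraMap_smul fun _ _ => rfl
  let fl' : M' →ₗ[R'] N := { toFun := f', map_add' := f'.map_add, map_smul' := f'.map_smulₛₗ }
  have h' : IsBaseChange S fl' := h
  letI : Module R' Q := Module.compHom Q ρ.toRingHom
  haveI : IsScalarTower R' S Q := ⟨fun r' s q => by
    show (g' r' * s) • q = ρ r' • (s • q)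
    rw [mul_smul, ← hg, ← algebraMap_smul S (ρ r') (s • q)]
    rfl⟩
  let k' : M' →ₗ[R'] Q :=
    { toFun := fun m' => k (eM m')
      map_add' := fun a b => by rw [map_add, map_add]
      map_smul' := fun r' m' => by
        show k (eM (r' • m')) = ρ r' • k (eM m')
        rw [heM, k.map_smul] }
  obtain ⟨l, hl, hluniq⟩ := (IsBaseChange.iff_lift_unique.1 h') Q k'
  refine ⟨l, ?_, ?_⟩
  · ext m
    obtain ⟨m', rfl⟩ := eM.surjective m
    show l (f (eM m')) = k (eM m')
    rw [hf]
    exact LinearMap.congr_fun hl m'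
  · intro l₂ hl₂
    apply hluniq
    ext m'
    show l₂ (f' m') = k (eM m')
    rw [← hf]
    exact LinearMap.congr_fun hl₂ (eM m')

section Restrict

variable {X : RSpace.{u}} (U : Set X.pt)

/-- global sections of the restricted space are sections over the subset -/
def sectRingRestrictEquiv : (X.restrict U).sectRing Set.univ ≃+* X.sectRing U where
  toFun s := ⟨fun q => s.1 ⟨q, trivial⟩, fun q q' h => s.2 ⟨q, trivial⟩ ⟨q', trivial⟩ h⟩
  invFun t := ⟨fun q => t.1 q.1, fun q q' h => t.2 q.1 q'.1 h⟩
  left_inv s := Subtype.ext (funext fun q => rfl)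
  right_inv t := Subtype.ext (funext fun q => rfl)
  map_mul' s s' := Subtype.ext (funext fun q => rfl)
  map_add' s s' := Subtype.ext (funext fun q => rfl)

variable (M : OMod X)

def sectRestrictEquiv : (M.restrict U).sect Set.univ ≃+ M.sect U where
  toFun s := ⟨fun q => s.1 ⟨q, trivial⟩, fun q q' h => s.2 ⟨q, trivial⟩ ⟨q', trivial⟩ h⟩
  invFun t := ⟨fun q => t.1 q.1, fun q q' h => t.2 q.1 q'.1 h⟩
  left_inv s := Subtype.ext (funext fun q => rfl)
  right_inv t := Subtype.ext (funext fun q => rfl)
  map_add' s s' := Subtype.ext (funext fun q => rfl)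

theorem isBCAlong_evalMod (hUa : (X.restrict U).IsAffine) (hM : M.IsQcoh) (q : U) :
    IsBCAlong (X.evalRing U q) (M.evalMod U q) := by
  have hM' : (M.restrict U).IsQcoh := fun p p' h => hM p.1 p'.1 h
  have h := hUa.2.2.1 (M.restrict U) hM' q
  exact isBCAlong_of_ringEquiv (sectRingRestrictEquiv U) _ _ (fun _ => rfl) _ _
    (sectRestrictEquiv U M) (fun _ _ => rfl) (fun _ => rfl) h

end Restrict

end Groth.Agent.Lib.Helper18Sch7
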