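import Groth.Agent.Lib.Helper18Sch6
import Groth.Agent.Lib.Helper18Sch7

set_option autoImplicit false
set_option linter.style.haveILetI false
set_option linter.unusedVariables false
set_option linter.unusedSectionVars false
open TensorProduct

namespace Groth.Agent.Lib.Helper18Sch8

open SchFin Groth.Agent.Lib.Helper18Sch Groth.Agent.Lib.Helper18Sch6 Groth.Agent.Lib.Helper18Sch7

universe u

section Concrete

variable {X : RSpace.{u}} (A : Alg X) (U : Set X.pt)

@[reducible] def algOR (q : U) : Algebra (X.sectRing U) (X.ring q.1) := (X.evalRing U q).toAlgebra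
@[reducible] def algOB : Algebra (X.sectRing U) (A.total.sectRing U) := (A.sectMap U).toAlgebra
@[reducible] def algOA (q : U) : Algebra (X.sectRing U) (A.carrier q.1) :=
  Algebra.compHom (A.carrier q.1) (X.evalRing U q)

attribute [local instance] algOR algOB algOA

instance towerORA (q : U) : IsScalarTower (X.sectRing U) (X.ring q.1) (A.carrier q.1) :=
  IsScalarTower.of_algebraMap_smul fun _ _ => rfl

/-- evaluation of sections of the algebra -/
def evq (q : U) : A.total.sectRing U →ₐ[X.sectRing U] A.carrier q.1 :=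
  { A.total.evalRing U q with commutes' := fun a => rfl }

theorem hev (hUa : (X.restrict U).IsAffine) (hA : A.IsQcoh) (q : U) :
    IsBaseChange (X.ring q.1) (evq A U q).toLinearMap := by
  have hK := isBCAlong_evalMod U A.toMod hUa hA q
  -- unfold
  letI : Module (X.sectRing U) (A.toMod.carrier q.1) := Module.compHom _ (X.evalRing U q)
  haveI : IsScalarTower (X.sectRing U) (X.ring q.1) (A.toMod.carrier q.1) :=
    IsScalarTower.of_algebraMap_smul fun _ _ => rfl
  let fl : A.toMod.sect U →ₗ[X.sectRing U] A.toMod.carrier q.1 :=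
    { toFun := A.toMod.evalMod U q, map_add' := (A.toMod.evalMod U q).map_add,
      map_smul' := (A.toMod.evalMod U q).map_smulₛₗ }
  have hfl : IsBaseChange (X.ring q.1) fl := hK
  let e : A.total.sectRing U ≃ₗ[X.sectRing U] A.toMod.sect U :=
    { toFun := fun s => ⟨s.1, s.2⟩
      invFun := fun t => ⟨t.1, t.2⟩
      left_inv := fun s => rfl
      right_inv := fun t => rfl
      map_add' := fun s s' => rfl
      map_smul' := fun a s => Subtype.ext (funext fun p => (Algebra.smul_def (a.1 p) (show A.carrier p.1 from s.1 p)).symm) }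
  have h2 := IsBaseChange.comp_equiv e fl hfl
  exact h2

theorem ff_pi (hφ : Module.FaithfullyFlat (X.sectRing U) ((q : ↥U) → X.ring q.1)) :
    @Module.FaithfullyFlat (X.sectRing U) ((q : ↥U) → X.ring q.1) _ _
      (Pi.module ↥U (fun q => X.ring q.1) (X.sectRing U)) := hφ

theorem main15620 (hA : A.IsQcoh) (hUa : (X.restrict U).IsAffine)
    (hφ : Module.FaithfullyFlat (X.sectRing U) ((q : ↥U) → X.ring q.1)) :
    (∀ q : X.pt, q ∈ U → Module.Finite (X.ring q) (A.carrier q)) ↔ (A.sectMap U).Finite := by
  haveI := ff_pi U hφ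
  constructor
  · intro h
    exact finite_of_forall_finite (R := fun q : U => X.ring q.1) (A := fun q : U => A.carrier q.1)
      (evq A U) (hev A U hUa hA) (fun q => h q.1 q.2)
  · intro h q hq
    haveI : Module.Finite (X.sectRing U) (A.total.sectRing U) := h
    exact finite_of_finite (R := fun q : U => X.ring q.1) (A := fun q : U => A.carrier q.1)
      (evq A U) (hev A U hUa hA) ⟨q, hq⟩

theorem main15618 (hA : A.IsQcoh) (hUa : (X.restrict U).IsAffine)
    (hφ : Module.FaithfullyFlat (X.sectRing U) ((q : ↥U) → X.ring q.1)) :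
    (∀ q : X.pt, q ∈ U → Module.Flat (X.ring q) (A.carrier q)) ↔ (A.sectMap U).Flat := by
  haveI := ff_pi U hφ
  constructor
  · intro h
    exact flat_of_forall_flat (R := fun q : U => X.ring q.1) (A := fun q : U => A.carrier q.1)
      (evq A U) (hev A U hUa hA) (fun q => h q.1 q.2)
  · intro h q hq
    haveI : Module.Flat (X.sectRing U) (A.total.sectRing U) := h
    exact flat_of_flat (R := fun q : U => X.ring q.1) (A := fun q : U => A.carrier q.1)
      (evq A U) (hev A U hUa hA) ⟨q, hq⟩

theorem main15619 (hA : A.IsQcoh) (hUa : (X.restrict U).IsAffine)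
    (hφ : Module.FaithfullyFlat (X.sectRing U) ((q : ↥U) → X.ring q.1)) :
    (∀ q : X.pt, q ∈ U → Module.FaithfullyFlat (X.ring q) (A.carrier q)) ↔
      (A.sectMap U).FaithfullyFlat := by
  haveI := ff_pi U hφ
  constructor
  · intro h
    exact faithfullyFlat_of_forall_faithfullyFlat (R := fun q : U => X.ring q.1)
      (A := fun q : U => A.carrier q.1) (evq A U) (hev A U hUa hA) (fun q => h q.1 q.2)
  · intro h q hq
    haveI : Module.FaithfullyFlat (X.sectRing U) (A.total.sectRing U) := h
    exact faithfullyFlat_of_faithfullyFlat (R := fun q : U => X.ring q.1)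
      (A := fun q : U => A.carrier q.1) (evq A U) (hev A U hUa hA) ⟨q, hq⟩

theorem main19549 (hA : A.IsQcoh) (hUa : (X.restrict U).IsAffine)
    (hφ : Module.FaithfullyFlat (X.sectRing U) ((q : ↥U) → X.ring q.1)) :
    (∀ q : X.pt, q ∈ U → Algebra.Etale (X.ring q) (A.carrier q)) ↔ (A.sectMap U).Etale := by
  haveI := ff_pi U hφ
  constructor
  · intro h
    exact etale_of_forall_etale (R := fun q : U => X.ring q.1) (A := fun q : U => A.carrier q.1)
      (evq A U) (hev A U hUa hA) (fun q => h q.1 q.2)
  · intro h q hq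
    haveI : Algebra.Etale (X.sectRing U) (A.total.sectRing U) := h
    exact etale_of_etale (R := fun q : U => X.ring q.1) (A := fun q : U => A.carrier q.1)
      (evq A U) (hev A U hUa hA) ⟨q, hq⟩

end Concrete

end Groth.Agent.Lib.Helper18Sch8
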