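import Mathlib
import Groth.Prelude.Def_W4c4chowquasisplitNorm
set_option linter.style.haveILetI false

universe u
open AlgebraicGeometry CategoryTheory

namespace Groth.Agent.Helper18Sec

section
variable {X Y : Scheme.{u}} (s : X ⟶ Y) (π : Y ⟶ X) (hs : s ≫ π = 𝟙 X)
include hs

lemma pi_s (x : X) : π (s x) = x := by
  have := congrArg (fun f : X ⟶ X => f x) hs
  simpa using this

lemma s_injective : Function.Injective s := fun a b h => by
  rw [← pi_s s π hs a, ← pi_s s π hs b, h]

lemma bijective_comp (x : X) :
    Function.Bijective ((s.residueFieldMap x).hom ∘ (π.residueFieldMap (s x)).hom) := by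
  have e1 : (s ≫ π).residueFieldMap x = π.residueFieldMap (s x) ≫ s.residueFieldMap x :=
    Scheme.residueFieldMap_comp s π x
  have e2 := Scheme.Hom.residueFieldMap_congr hs x
  haveI : IsIso ((s ≫ π).residueFieldMap x) := by
    rw [e2]; infer_instance
  have hb := ConcreteCategory.bijective_of_isIso ((s ≫ π).residueFieldMap x)
  have e3 : ⇑(ConcreteCategory.hom ((s ≫ π).residueFieldMap x)) =
      (s.residueFieldMap x).hom ∘ (π.residueFieldMap (s x)).hom := by
    rw [e1]; rfl
  rw [← e3]; exact hb

lemma bijective_s (x : X) : Function.Bijective (s.residueFieldMap x).hom := by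
  refine ⟨(s.residueFieldMap x).hom.injective, ?_⟩
  exact Function.Surjective.of_comp (bijective_comp s π hs x).2

lemma bijective_pi (x : X) : Function.Bijective (π.residueFieldMap (s x)).hom := by
  refine ⟨(π.residueFieldMap (s x)).hom.injective, ?_⟩
  have h := (bijective_comp s π hs x).2
  intro y
  obtain ⟨z, hz⟩ := h ((s.residueFieldMap x).hom y)
  exact ⟨z, (s.residueFieldMap x).hom.injective hz⟩

omit hs in
lemma finrank_of_bijective {A B : Type*} [Field A] [Field B] (f : A →+* B)
    (hf : Function.Bijective f) :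
    letI := f.toAlgebra
    Module.finrank A B = 1 := by
  letI := f.toAlgebra
  have := Algebra.finrank_eq_of_equiv_equiv (R₀ := A) (S₀ := B) (R₁ := B) (S₁ := B)
    (RingEquiv.ofBijective f hf) (RingEquiv.refl B) (by ext a; rfl)
  rw [this]
  exact Module.finrank_self B

lemma residueDegree_s (x : X) : s.residueDegree x = 1 :=
  finrank_of_bijective _ (bijective_s s π hs x)

lemma residueDegree_pi (x : X) : π.residueDegree (s x) = 1 :=
  finrank_of_bijective _ (bijective_pi s π hs x)

lemma map_section [QuasiCompact s] [QuasiCompact π] (w : X → ℤ) (β : AlgebraicCycle X ℤ) :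
    AlgebraicCycle.map π (w ∘ ⇑π.base) w (AlgebraicCycle.map s w (w ∘ ⇑π.base) β) = β := by
  apply Function.locallyFinsuppWithin.ext
  intro x
  rw [AlgebraicCycle.map, Function.locallyFinsupp.map_apply]
  have key : ∀ y : Y, y ≠ s x → π y = x →
      (AlgebraicCycle.map s w (w ∘ ⇑π.base) β) y = 0 := by
    intro y hy hπ
    rw [AlgebraicCycle.map, Function.locallyFinsupp.map_apply]
    have : (s ⁻¹' {y} : Set X) = ∅ := by
      ext z
      simp only [Set.mem_preimage, Set.mem_singleton_iff, Set.mem_empty_iff_false, iff_false]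
      intro hz
      apply hy
      rw [← hz, ← hπ, ← hz, pi_s s π hs z]
    rw [this]; simp
  have h1 : (π ⁻¹' {x} : Set Y) ∩ Function.support (fun y =>
      (AlgebraicCycle.map s w (w ∘ ⇑π.base) β) y *
        ((AlgebraicCycle.mapCoeff π (w ∘ ⇑π.base) w y : ℕ) : ℤ)) =
      {s x} ∩ Function.support (fun y =>
      (AlgebraicCycle.map s w (w ∘ ⇑π.base) β) y *
        ((AlgebraicCycle.mapCoeff π (w ∘ ⇑π.base) w y : ℕ) : ℤ)) := by
    ext y
    simp only [Set.mem_inter_iff, Set.mem_preimage, Set.mem_singleton_iff, Function.mem_support]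
    constructor
    · rintro ⟨hy, hne⟩
      refine ⟨?_, hne⟩
      by_contra hys
      exact hne (by rw [key y hys hy, zero_mul])
    · rintro ⟨rfl, hne⟩
      exact ⟨pi_s s π hs x, hne⟩
  rw [finsum_mem_inter_support_eq _ _ _ h1, finsum_mem_singleton]
  rw [AlgebraicCycle.map, Function.locallyFinsupp.map_apply]
  have h2 : (s ⁻¹' {s x} : Set X) = {x} := by
    ext z
    simp only [Set.mem_preimage, Set.mem_singleton_iff]
    exact ⟨fun h => s_injective s π hs h, fun h => by rw [h]⟩
  rw [h2, finsum_mem_singleton]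
  have h3 : AlgebraicCycle.mapCoeff s w (w ∘ ⇑π.base) x = 1 := by
    simp only [AlgebraicCycle.mapCoeff, Function.comp_apply]
    rw [if_pos (by rw [pi_s s π hs x]), residueDegree_s s π hs]
  have h4 : AlgebraicCycle.mapCoeff π (w ∘ ⇑π.base) w (s x) = 1 := by
    simp only [AlgebraicCycle.mapCoeff, Function.comp_apply]
    rw [if_pos trivial, residueDegree_pi s π hs]
  rw [h3, h4]; simp

end


open Limits in
theorem main3 (k : Type u) [Field k] (K : Type u) [Field K] [Algebra k K]
    (F : IntermediateField k K) [FiniteDimensional k F] (hF : F ≠ ⊥)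
    (X : Scheme.{u}) [X.Over (Spec (CommRingCat.of k))] (g : X ⟶ Spec (CommRingCat.of F))
    (hg : g ≫ Spec.map (CommRingCat.ofHom (algebraMap k F)) = X ↘ Spec (CommRingCat.of k))
    (δ : X → ℤ) (j : ℤ) :
    QsChow.normSubgroup k K X δ j = ⊤ := by
  rw [eq_top_iff]
  intro c _
  induction c using QuotientAddGroup.induction_on with
  | H a =>
    obtain ⟨β, hβ⟩ := a
    let s : X ⟶ Curv2.bc k X F := pullback.lift (𝟙 X) g (by rw [Category.id_comp, hg])
    have hs : s ≫ Curv2.bcFst k X F = 𝟙 X := pullback.lift_fst _ _ _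
    haveI : QuasiCompact s := by
      haveI : QuasiCompact (s ≫ Curv2.bcFst k X F) := by rw [hs]; infer_instance
      exact QuasiCompact.of_comp s (Curv2.bcFst k X F)
    have hsec := map_section s (Curv2.bcFst k X F) hs δ β
    apply AddSubgroup.subset_closure
    refine ⟨F, inferInstance, hF,
      AlgebraicCycle.map s δ (δ ∘ ⇑(Curv2.bcFst k X F).base) β, ?_, ?_, ?_⟩
    · intro y hy
      rw [AlgebraicCycle.map, Function.locallyFinsupp.map_apply]
      rw [finsum_mem_congr rfl (g := fun _ => (0 : ℤ)), finsum_mem_zero]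
      intro z hz
      have hz' : s z = y := hz
      have : δ z ≠ j := by
        intro h
        apply hy
        rw [← hz']
        change δ ((Curv2.bcFst k X F) (s z)) = j
        rw [pi_s s _ hs z, h]
      rw [hβ z this, zero_mul]
    · rw [hsec]; exact hβ
    · simp only [ChowOps.cl, ChowOps.clHom]
      change (QuotientAddGroup.mk' _) _ = (QuotientAddGroup.mk' _) _
      congr 1
      exact Subtype.ext hsec.symm

end Groth.Agent.Helper18Sec
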