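import Mathlib

set_option autoImplicit false
universe u

open MvPolynomial TensorProduct KaehlerDifferential

namespace Groth.Agent.Helper18Sec

variable {A B : Type u} [CommRing A] [CommRing B] [Algebra A B]

/-- `X 0 - C a` is a nonzerodivisor of `A[X₀]`. -/
theorem X_sub_C_mem_nonZeroDivisors (a : A) :
    (X 0 - C a : MvPolynomial (Fin 1) A) ∈ nonZeroDivisors (MvPolynomial (Fin 1) A) := by
  let e : MvPolynomial (Fin 1) A ≃ₐ[A] Polynomial A := MvPolynomial.uniqueAlgEquiv A (Fin 1)
  have he : e (X 0 - C a) = Polynomial.X - Polynomial.C a := by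
    simp [e]
  rw [mem_nonZeroDivisors_iff_right]
  intro q hq
  have h1 : e q * (Polynomial.X - Polynomial.C a) = 0 := by
    rw [← he, ← map_mul, hq, map_zero]
  have h2 := (Polynomial.monic_X_sub_C a).mem_nonZeroDivisors
  rw [mem_nonZeroDivisors_iff_right] at h2
  exact e.injective ((h2 _ h1).trans (map_zero e).symm)

end Groth.Agent.Helper18Sec
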