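import Mathlib
import Groth.Agent.Lib.Helper18SecA

set_option autoImplicit false
universe u

open MvPolynomial TensorProduct KaehlerDifferential

namespace Groth.Agent.Helper18Sec

variable {A B : Type u} [CommRing A] [CommRing B] [Algebra A B]

/-- If `A[X₀] → B` is formally unramified, `Ω_{B/A}` is spanned by `d(φ X₀)`. -/
theorem span_D_eq_top [Algebra (MvPolynomial (Fin 1) A) B] [IsScalarTower A (MvPolynomial (Fin 1) A) B]
    [Algebra.FormallyUnramified (MvPolynomial (Fin 1) A) B] :
    Submodule.span B {D A B (algebraMap (MvPolynomial (Fin 1) A) B (X 0))} = ⊤ := by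
  have hex := KaehlerDifferential.exact_mapBaseChange_map A (MvPolynomial (Fin 1) A) B
  have hsurj : Function.Surjective (KaehlerDifferential.mapBaseChange A (MvPolynomial (Fin 1) A) B) := by
    intro ω
    exact (hex ω).mp (Subsingleton.elim _ _)
  have h1 : Submodule.span (MvPolynomial (Fin 1) A)
      {D A (MvPolynomial (Fin 1) A) (X 0)} = ⊤ := by
    have := (KaehlerDifferential.mvPolynomialBasis A (Fin 1)).span_eq
    rw [← this]
    congr 1
    ext v
    simp only [Set.mem_singleton_iff, Set.mem_range, KaehlerDifferential.mvPolynomialBasis_apply]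
    constructor
    · rintro rfl; exact ⟨0, rfl⟩
    · rintro ⟨i, rfl⟩; rw [Subsingleton.elim i 0]
  have h2 := Submodule.baseChange_span (R := MvPolynomial (Fin 1) A) (A := B)
    ({D A (MvPolynomial (Fin 1) A) (X 0)} : Set _)
  rw [h1, Submodule.baseChange_top] at h2
  rw [eq_top_iff]
  intro ω _
  obtain ⟨ξ, rfl⟩ := hsurj ω
  have hξ : ξ ∈ (⊤ : Submodule B (B ⊗[MvPolynomial (Fin 1) A] Ω[MvPolynomial (Fin 1) A⁄A])) :=
    Submodule.mem_top
  rw [h2] at hξ
  refine Submodule.span_induction ?_ ?_ ?_ ?_ hξ
  · rintro _ ⟨v, hv, rfl⟩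
    rw [Set.mem_singleton_iff] at hv
    subst hv
    apply Submodule.subset_span
    simp [KaehlerDifferential.mapBaseChange_tmul]
  · simp
  · intro u v _ _ hu hv
    rw [map_add]; exact Submodule.add_mem _ hu hv
  · intro b u _ hu
    rw [map_smul]; exact Submodule.smul_mem _ b hu

end Groth.Agent.Helper18Sec
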