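import Mathlib
import Groth.Agent.Lib.Helper18SecB

set_option autoImplicit false
universe u

open MvPolynomial TensorProduct KaehlerDifferential

namespace Groth.Agent.Helper18Sec

variable {A B : Type u} [CommRing A] [CommRing B] [Algebra A B]

/-- If `Ω_{B/A}` is spanned by `dt`, then `B/(t)` is formally unramified over `A`. -/
theorem formallyUnramified_quotient (t : B) (h : Submodule.span B {D A B t} = ⊤) :
    Algebra.FormallyUnramified A (B ⧸ Ideal.span {t}) := by
  constructor
  constructor
  intro ω₁ ω₂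
  suffices H : ∀ ω : Ω[(B ⧸ Ideal.span {t})⁄A], ω = 0 by rw [H ω₁, H ω₂]
  intro ω
  obtain ⟨ξ, rfl⟩ := KaehlerDifferential.map_surjective_of_surjective A A (A := B)
    (B := B ⧸ Ideal.span {t}) Ideal.Quotient.mk_surjective ω
  have hξ : ξ ∈ (⊤ : Submodule B Ω[B⁄A]) := Submodule.mem_top
  rw [← h] at hξ
  obtain ⟨b, rfl⟩ := Submodule.mem_span_singleton.mp hξ
  rw [map_smul, KaehlerDifferential.map_D]
  have : algebraMap B (B ⧸ Ideal.span {t}) t = 0 :=
    Ideal.Quotient.eq_zero_iff_mem.mpr (Ideal.mem_span_singleton_self t)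
  rw [this, map_zero, smul_zero]

end Groth.Agent.Helper18Sec
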