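import Mathlib
import Groth.Agent.Lib.Helper18SecC

set_option autoImplicit false
universe u

open MvPolynomial TensorProduct KaehlerDifferential

namespace Groth.Agent.Helper18Sec

variable {A C : Type u} [CommRing A] [CommRing C] [Algebra A C]

/-- The kernel of a retraction of a formally unramified algebra is idempotent. -/
theorem ker_le_sq [Algebra.FormallyUnramified A C] (s : C →ₐ[A] A) :
    RingHom.ker s ≤ (RingHom.ker s) ^ 2 := by
  set I := RingHom.ker s with hI
  let D := C ⧸ I ^ 2
  let J : Ideal D := I.map (Ideal.Quotient.mk (I ^ 2))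
  have hJ : J ^ 2 = ⊥ := by
    rw [← Ideal.map_pow]
    exact (Ideal.map_quotient_self _)
  let f₁ : C →ₐ[A] D := Ideal.Quotient.mkₐ A (I ^ 2)
  let f₂ : C →ₐ[A] D := (Algebra.ofId A D).comp s
  have h12 : f₁ = f₂ := by
    apply Algebra.FormallyUnramified.ext J ⟨2, hJ⟩
    intro c
    rw [Ideal.Quotient.eq]
    have hc : c - algebraMap A C (s c) ∈ I := by
      rw [hI, RingHom.mem_ker, map_sub, s.commutes]
      simp
    have : f₁ c - f₂ c = Ideal.Quotient.mk (I ^ 2) (c - algebraMap A C (s c)) := by
      simp only [f₁, f₂, AlgHom.comp_apply, Algebra.ofId_apply, Ideal.Quotient.mkₐ_eq_mk, map_sub]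
      congr 1
    rw [this]
    exact Ideal.mem_map_of_mem _ hc
  intro x hx
  have h := congrArg (fun f => f x) h12
  simp only [f₁, f₂, AlgHom.comp_apply, Ideal.Quotient.mkₐ_eq_mk] at h
  rw [hI, RingHom.mem_ker] at hx
  rw [show s x = 0 from hx, map_zero] at h
  exact Ideal.Quotient.eq_zero_iff_mem.mp h

/-- The kernel of a retraction of a finitely presented formally unramified algebra is
generated by an idempotent. -/
theorem exists_idempotent [Algebra.FormallyUnramified A C] [Algebra.FinitePresentation A C]
    (s : C →ₐ[A] A) :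
    ∃ e : C, IsIdempotentElem e ∧ RingHom.ker s = Ideal.span {e} := by
  have hsurj : Function.Surjective s := fun a => ⟨algebraMap A C a, s.commutes a⟩
  have hfg : (RingHom.ker s.toRingHom).FG :=
    Algebra.FinitePresentation.ker_fG_of_surjective s hsurj
  have hidem : IsIdempotentElem (RingHom.ker s) := by
    refine le_antisymm ?_ ?_
    · exact Ideal.mul_le_left
    · have := ker_le_sq s
      rwa [pow_two] at this
  exact (Ideal.isIdempotentElem_iff_of_fg _ hfg).mp hidem

end Groth.Agent.Helper18Sec
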