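import Mathlib
import Groth.Agent.Lib.Helper18SecD

set_option autoImplicit false
universe u

open MvPolynomial TensorProduct KaehlerDifferential

namespace Groth.Agent.Helper18Sec

variable {A B : Type u} [CommRing A] [CommRing B] [Algebra A B]

/-- Ring core: a retraction of a standard smooth algebra of relative dimension one has kernel
locally (near its zero set) generated by a nonzerodivisor. -/
theorem core [Algebra.IsStandardSmoothOfRelativeDimension 1 A B]
    (s : B →ₐ[A] A) (p : Ideal B) [p.IsPrime] (hp : RingHom.ker s ≤ p) :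
    ∃ (t g : B), g ∉ p ∧ t ∈ RingHom.ker s ∧ t ∈ nonZeroDivisors B ∧
      ∀ b ∈ RingHom.ker s, ∃ c, g * b = c * t := by
  obtain ⟨φ, hφ⟩ := Algebra.IsStandardSmoothOfRelativeDimension.exists_etale_mvPolynomial 1 A B
  set a : A := s (φ (X 0)) with ha
  set t : B := φ (X 0 - C a) with ht
  have ht' : t = φ (X 0) - algebraMap A B a := by
    rw [ht, map_sub, MvPolynomial.algHom_C]
  have hts : t ∈ RingHom.ker s := by
    rw [RingHom.mem_ker, ht', map_sub, s.commutes, ← ha]
    simp
  algebraize [φ.toRingHom]
  haveI : IsScalarTower A (MvPolynomial (Fin 1) A) B :=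
    IsScalarTower.of_algebraMap_eq' φ.comp_algebraMap.symm
  have halg : ∀ q : MvPolynomial (Fin 1) A, algebraMap (MvPolynomial (Fin 1) A) B q = φ q :=
    fun q => rfl
  have htn : t ∈ nonZeroDivisors B := by
    have h1 : IsSMulRegular (MvPolynomial (Fin 1) A) (X 0 - C a : MvPolynomial (Fin 1) A) := by
      have := X_sub_C_mem_nonZeroDivisors a
      rw [mem_nonZeroDivisors_iff_right] at this
      intro u v huv
      simp only [smul_eq_mul] at huv
      have h3 : (u - v) * (X 0 - C a) = 0 := by
        rw [sub_mul, mul_comm u, mul_comm v, huv, sub_self]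
      exact sub_eq_zero.mp (this _ h3)
    have h2 : IsSMulRegular B (algebraMap (MvPolynomial (Fin 1) A) B (X 0 - C a)) :=
      IsSMulRegular.of_flat h1
    rw [halg] at h2
    rw [mem_nonZeroDivisors_iff_right]
    intro b hb
    apply h2
    simp only [smul_eq_mul, mul_zero]
    rw [mul_comm]; exact hb
  have hΩ : Submodule.span B {D A B t} = ⊤ := by
    have h := span_D_eq_top (A := A) (B := B)
    rw [halg] at h
    have hD : D A B t = D A B (φ (X 0)) := by
      rw [ht', map_sub, Derivation.map_algebraMap, sub_zero]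
    rw [hD]; exact h
  haveI := formallyUnramified_quotient (A := A) t hΩ
  -- the induced retraction on the quotient
  let sbar : (B ⧸ Ideal.span {t}) →ₐ[A] A := Ideal.Quotient.liftₐ (Ideal.span {t}) s (by
    intro b hb
    obtain ⟨c, rfl⟩ := Ideal.mem_span_singleton'.mp hb
    rw [map_mul, show s t = 0 from hts, mul_zero])
  haveI : Algebra.IsStandardSmooth A B :=
    Algebra.IsStandardSmoothOfRelativeDimension.isStandardSmooth 1
  haveI : Algebra.FinitePresentation A B := inferInstance
  haveI : Algebra.FinitePresentation A (B ⧸ Ideal.span {t}) :=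
    Algebra.FinitePresentation.quotient ⟨{t}, by simp⟩
  obtain ⟨ebar, hidem, hker⟩ := exists_idempotent sbar
  obtain ⟨e, rfl⟩ := Ideal.Quotient.mk_surjective ebar
  have hes : e ∈ RingHom.ker s := by
    have : Ideal.Quotient.mk (Ideal.span {t}) e ∈ RingHom.ker sbar := by
      rw [hker]; exact Ideal.mem_span_singleton_self _
    rw [RingHom.mem_ker] at this ⊢
    exact this
  refine ⟨t, 1 - e, ?_, hts, htn, ?_⟩
  · intro hg
    have : (1 : B) ∈ p := by
      have h1 : (1 : B) = (1 - e) + e := by ring
      rw [h1]; exact p.add_mem hg (hp hes)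
    exact ‹p.IsPrime›.ne_top ((Ideal.eq_top_iff_one _).mpr this)
  · intro b hb
    have hbk : Ideal.Quotient.mk (Ideal.span {t}) b ∈ RingHom.ker sbar := by
      rw [RingHom.mem_ker]
      exact hb
    rw [hker] at hbk
    obtain ⟨cbar, hc⟩ := Ideal.mem_span_singleton'.mp hbk
    have h0 : Ideal.Quotient.mk (Ideal.span {t}) ((1 - e) * b) = 0 := by
      rw [map_mul, ← hc, map_sub, map_one, mul_comm cbar, ← mul_assoc, sub_mul, one_mul,
        hidem.eq, sub_self, zero_mul]
    rw [Ideal.Quotient.eq_zero_iff_mem] at h0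
    obtain ⟨c, hc⟩ := Ideal.mem_span_singleton'.mp h0
    exact ⟨c, hc.symm⟩

end Groth.Agent.Helper18Sec
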