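import Mathlib
import Groth.Agent.Lib.Helper18SecE

set_option autoImplicit false
set_option linter.style.haveILetI false
universe u

open CategoryTheory AlgebraicGeometry Limits Opposite TopologicalSpace

namespace Groth.Agent.Helper18Sec

/-- Localising both source and target of a standard smooth chart at a function of the base. -/
theorem appLE_away {X Y : Scheme.{u}} (f : X ⟶ Y) (n : ℕ) {W₀ : Y.Opens} {U₀ : X.Opens}
    (hW₀ : IsAffineOpen W₀) (hU₀ : IsAffineOpen U₀) (e₀ : U₀ ≤ f ⁻¹ᵁ W₀)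
    (hsm : (f.appLE W₀ U₀ e₀).hom.IsStandardSmoothOfRelativeDimension n) (a : Γ(Y, W₀))
    (e : X.basicOpen ((f.appLE W₀ U₀ e₀).hom a) ≤ f ⁻¹ᵁ Y.basicOpen a) :
    (f.appLE (Y.basicOpen a) (X.basicOpen ((f.appLE W₀ U₀ e₀).hom a))
      e).hom.IsStandardSmoothOfRelativeDimension n := by
  haveI : IsLocalization.Away a Γ(Y, Y.basicOpen a) := hW₀.isLocalization_basicOpen a
  haveI : IsLocalization.Away ((f.appLE W₀ U₀ e₀).hom a)
      Γ(X, X.basicOpen ((f.appLE W₀ U₀ e₀).hom a)) := hU₀.isLocalization_basicOpen _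
  have h := (RingHom.isStandardSmoothOfRelativeDimension_localizationPreserves n).away
    (f.appLE W₀ U₀ e₀).hom a Γ(Y, Y.basicOpen a) Γ(X, X.basicOpen ((f.appLE W₀ U₀ e₀).hom a)) hsm
  convert h using 1
  apply IsLocalization.ringHom_ext (Submonoid.powers a)
  rw [IsLocalization.Away.map, IsLocalization.map_comp]
  have h1 : CommRingCat.ofHom (algebraMap Γ(Y, W₀) Γ(Y, Y.basicOpen a)) ≫
      f.appLE (Y.basicOpen a) (X.basicOpen ((f.appLE W₀ U₀ e₀).hom a)) e =
      f.appLE W₀ (X.basicOpen ((f.appLE W₀ U₀ e₀).hom a))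
        ((X.basicOpen_le _).trans e₀) := by
    rw [RingHom.algebraMap_toAlgebra, CommRingCat.ofHom_hom, Scheme.Hom.map_appLE]
  have h2 : f.appLE W₀ U₀ e₀ ≫ CommRingCat.ofHom (algebraMap Γ(X, U₀)
      Γ(X, X.basicOpen ((f.appLE W₀ U₀ e₀).hom a))) =
      f.appLE W₀ (X.basicOpen ((f.appLE W₀ U₀ e₀).hom a))
        ((X.basicOpen_le _).trans e₀) := by
    rw [RingHom.algebraMap_toAlgebra, CommRingCat.ofHom_hom, Scheme.Hom.appLE_map]
  have h3 := congrArg CommRingCat.Hom.hom (h1.trans h2.symm)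
  simpa using h3

end Groth.Agent.Helper18Sec
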