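import Mathlib
import Groth.Agent.Lib.Helper18SecF

set_option autoImplicit false
set_option linter.style.haveILetI false
universe u

open CategoryTheory AlgebraicGeometry Limits Opposite TopologicalSpace

namespace Groth.Agent.Helper18Sec

theorem exists_section_chart {X Y : Scheme.{u}} (f : X ⟶ Y) [SmoothOfRelativeDimension 1 f]
    (σ : Y ⟶ X) (hσ : σ ≫ f = 𝟙 Y) (y : Y) :
    ∃ (W : Y.Opens) (_ : IsAffineOpen W) (U : X.Opens) (_ : IsAffineOpen U) (e : U ≤ f ⁻¹ᵁ W)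
      (_ : W ≤ σ ⁻¹ᵁ U), y ∈ W ∧ σ ⁻¹ᵁ U ≤ W ∧
      (f.appLE W U e).hom.IsStandardSmoothOfRelativeDimension 1 := by
  obtain ⟨W₀, hW₀, U₀, hU₀, hxU₀, e₀, hsm₀⟩ :=
    SmoothOfRelativeDimension.exists_isStandardSmoothOfRelativeDimension (n := 1) (f := f) (σ y)
  have hfσ : ∀ z : Y, f (σ z) = z := by
    intro z
    rw [← Scheme.Hom.comp_apply, hσ]
    rfl
  have hyW₀ : y ∈ W₀ := by
    have := e₀ hxU₀
    change f (σ y) ∈ W₀ at this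
    rwa [hfσ] at this
  let O : Y.Opens := σ ⁻¹ᵁ U₀
  have hyO : y ∈ O := hxU₀
  obtain ⟨a, haO, hya⟩ := hW₀.exists_basicOpen_le (V := O) ⟨y, hyO⟩ hyW₀
  have hU : X.basicOpen ((f.appLE W₀ U₀ e₀).hom a) = U₀ ⊓ f ⁻¹ᵁ (Y.basicOpen a) :=
    Scheme.basicOpen_appLE f U₀ W₀ e₀ a
  have e : X.basicOpen ((f.appLE W₀ U₀ e₀).hom a) ≤ f ⁻¹ᵁ Y.basicOpen a := by
    rw [hU]; exact inf_le_right
  refine ⟨Y.basicOpen a, hW₀.basicOpen a, X.basicOpen ((f.appLE W₀ U₀ e₀).hom a),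
    hU₀.basicOpen _, e, ?_, hya, ?_, appLE_away f 1 hW₀ hU₀ e₀ hsm₀ a e⟩
  · intro z hz
    change σ z ∈ X.basicOpen ((f.appLE W₀ U₀ e₀).hom a)
    rw [hU]
    refine ⟨haO hz, ?_⟩
    change f (σ z) ∈ Y.basicOpen a
    rw [hfσ]; exact hz
  · intro z hz
    change σ z ∈ X.basicOpen ((f.appLE W₀ U₀ e₀).hom a) at hz
    rw [hU] at hz
    have := hz.2
    change f (σ z) ∈ Y.basicOpen a at this
    rwa [hfσ] at this

end Groth.Agent.Helper18Sec
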