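import Mathlib
import Groth.Prelude.Def_BlowUp2
import Groth.Agent.Lib.Helper18SecG
import Groth.Agent.Lib.Helper2FPAff

set_option autoImplicit false
set_option linter.style.haveILetI false
universe u

open CategoryTheory AlgebraicGeometry Limits Opposite TopologicalSpace

namespace Groth.Agent.Helper18Sec

/-- On an affine open, a point lies in the support iff the ideal is contained in its prime. -/
theorem mem_support_iff_le {X : Scheme.{u}} (I : X.IdealSheafData) {U : X.Opens}
    (hU : IsAffineOpen U) (x : X) (hx : x ∈ U) :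
    x ∈ I.support ↔ I.ideal ⟨U, hU⟩ ≤ (hU.primeIdealOf ⟨x, hx⟩).asIdeal := by
  rw [Scheme.IdealSheafData.mem_support_iff_of_mem (U := ⟨U, hU⟩) hx, Scheme.mem_zeroLocus_iff]
  constructor
  · intro h g hg
    by_contra hgp
    exact h g hg ((Groth.Agent.Lib.Helper2.mem_basicOpen_iff_notMem_primeIdealOf hU x hx g).mpr hgp)
  · intro h g hg hxg
    exact (Groth.Agent.Lib.Helper2.mem_basicOpen_iff_notMem_primeIdealOf hU x hx g).mp hxg (h hg)

/-- Local principal generation passes to a basic open. -/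
theorem ideal_basicOpen_eq_span {X : Scheme.{u}} (I : X.IdealSheafData) {U : X.Opens}
    (hU : IsAffineOpen U) (t g : Γ(X, U)) (ht : t ∈ I.ideal ⟨U, hU⟩)
    (h : ∀ b ∈ I.ideal ⟨U, hU⟩, ∃ c, g * b = c * t) :
    I.ideal ⟨X.basicOpen g, hU.basicOpen g⟩ =
      Ideal.span {(X.presheaf.map (homOfLE (X.basicOpen_le g)).op).hom t} := by
  have hmap := I.map_ideal_basicOpen ⟨U, hU⟩ g
  change _ = I.ideal ⟨X.basicOpen g, hU.basicOpen g⟩ at hmap
  rw [← hmap]
  set ρ := (X.presheaf.map (homOfLE (X.basicOpen_le g)).op).hom with hρ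
  have hunit : IsUnit (ρ g) := by
    haveI : IsLocalization.Away g Γ(X, X.basicOpen g) := hU.isLocalization_basicOpen g
    exact IsLocalization.Away.algebraMap_isUnit g
  apply le_antisymm
  · rw [Ideal.map_le_iff_le_comap]
    intro b hb
    obtain ⟨c, hc⟩ := h b hb
    rw [Ideal.mem_comap, Ideal.mem_span_singleton']
    obtain ⟨u, hu⟩ := hunit
    refine ⟨↑u⁻¹ * ρ c, ?_⟩
    have h1 : ρ g * ρ b = ρ c * ρ t := by rw [← map_mul, hc, map_mul]
    rw [mul_assoc, ← h1, ← hu, ← mul_assoc, Units.inv_mul, one_mul]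
  · rw [Ideal.span_le, Set.singleton_subset_iff]
    exact Ideal.mem_map_of_mem _ ht

end Groth.Agent.Helper18Sec
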