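import Mathlib
import Groth.Prelude.Def_BlowUp2
import Groth.Agent.Lib.Helper18SecH

set_option autoImplicit false
set_option linter.style.haveILetI false
universe u

open CategoryTheory AlgebraicGeometry Limits Opposite TopologicalSpace

namespace Groth.Agent.Helper18Sec

theorem isEffCartier_off_support {X : Scheme.{u}} (I : X.IdealSheafData) (x : X)
    (hx : x ∉ I.support) :
    ∃ U : X.affineOpens, x ∈ U.1 ∧
      ∃ f : Γ(X, U.1), f ∈ nonZeroDivisors Γ(X, U.1) ∧ I.ideal U = Ideal.span {f} := by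
  obtain ⟨_, ⟨U, hU, rfl⟩, hxU, -⟩ :=
    X.isBasis_affineOpens.exists_subset_of_mem_open (Set.mem_univ x) isOpen_univ
  have hxU' : x ∈ U := hxU
  rw [mem_support_iff_le I hU x hxU'] at hx
  obtain ⟨b, hb, hbp⟩ := SetLike.not_le_iff_exists.mp hx
  have hxb : x ∈ X.basicOpen b :=
    (Groth.Agent.Lib.Helper2.mem_basicOpen_iff_notMem_primeIdealOf hU x hxU' b).mpr hbp
  refine ⟨⟨X.basicOpen b, hU.basicOpen b⟩, hxb, 1, one_mem _, ?_⟩
  have hmap := I.map_ideal_basicOpen ⟨U, hU⟩ b
  change _ = I.ideal ⟨X.basicOpen b, hU.basicOpen b⟩ at hmap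
  rw [← hmap, Ideal.span_singleton_one, Ideal.eq_top_iff_one]
  have hunit : IsUnit ((X.presheaf.map (homOfLE (X.basicOpen_le b)).op).hom b) := by
    haveI : IsLocalization.Away b Γ(X, X.basicOpen b) := hU.isLocalization_basicOpen b
    exact IsLocalization.Away.algebraMap_isUnit b
  have hmem : (X.presheaf.map (homOfLE (X.basicOpen_le b)).op).hom b ∈
      Ideal.map (X.presheaf.map (homOfLE (X.basicOpen_le b)).op).hom (I.ideal ⟨U, hU⟩) :=
    Ideal.mem_map_of_mem _ hb
  exact (Ideal.eq_top_iff_one _).mp (Ideal.eq_top_of_isUnit_mem _ hmem hunit)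

end Groth.Agent.Helper18Sec
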