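import Mathlib
import Groth.Prelude.Def_BlowUp2
import Groth.Agent.Lib.Helper18SecI

set_option autoImplicit false
set_option linter.style.haveILetI false
universe u

open CategoryTheory AlgebraicGeometry Limits Opposite TopologicalSpace

namespace Groth.Agent.Helper18Sec

theorem isEffCartier_on_section {X Y : Scheme.{u}} (f : X ⟶ Y) [SmoothOfRelativeDimension 1 f]
    (σ : Y ⟶ X) [IsClosedImmersion σ] (hσ : σ ≫ f = 𝟙 Y) (y : Y) :
    ∃ U : X.affineOpens, σ y ∈ U.1 ∧
      ∃ t : Γ(X, U.1), t ∈ nonZeroDivisors Γ(X, U.1) ∧ σ.ker.ideal U = Ideal.span {t} := by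
  obtain ⟨W, hW, U, hU, e, e', hyW, hle, hsm⟩ := exists_section_chart f σ hσ y
  have hxU : σ y ∈ U := e' hyW
  letI : Algebra Γ(Y, W) Γ(X, U) := (f.appLE W U e).hom.toAlgebra
  haveI : Algebra.IsStandardSmoothOfRelativeDimension 1 Γ(Y, W) Γ(X, U) := hsm
  let s₀ : Γ(X, U) →+* Γ(Y, W) := (σ.appLE U W e').hom
  have key : ∀ (g : Y ⟶ Y) (_ : g = 𝟙 Y) (h : W ≤ g ⁻¹ᵁ W), g.appLE W W h = 𝟙 _ := by
    rintro g rfl h
    simp only [Scheme.Hom.appLE, Scheme.Hom.id_app]
    erw [Category.id_comp]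
    exact Y.presheaf.map_id _
  have hs₀ : ∀ r : Γ(Y, W), s₀ (algebraMap Γ(Y, W) Γ(X, U) r) = r := by
    intro r
    have h1 : f.appLE W U e ≫ σ.appLE U W e' = (σ ≫ f).appLE W W (by
        intro z hz
        exact e (e' hz)) :=
      Scheme.Hom.appLE_comp_appLE _ _ _ _ _ _ _
    rw [key _ hσ] at h1
    exact congrArg (fun φ => φ.hom r) h1
  let s : Γ(X, U) →ₐ[Γ(Y, W)] Γ(Y, W) := { s₀ with commutes' := hs₀ }
  have hker : RingHom.ker s = σ.ker.ideal ⟨U, hU⟩ := by
    rw [Scheme.Hom.ker_apply]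
    ext b
    simp only [RingHom.mem_ker]
    change (σ.appLE U W e').hom b = 0 ↔ (σ.app U).hom b = 0
    have hcomp : σ.appLE U W e' = σ.app U ≫ Y.presheaf.map (homOfLE e').op := rfl
    have hinv : Y.presheaf.map (homOfLE e').op ≫ Y.presheaf.map (homOfLE hle).op = 𝟙 _ := by
      rw [← Functor.map_comp]
      exact Y.presheaf.map_id _
    constructor
    · intro hb
      rw [hcomp] at hb
      have h2 := congrArg (Y.presheaf.map (homOfLE hle).op).hom hb
      rw [map_zero] at h2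
      have h3 := congrArg (fun φ => φ.hom ((σ.app U).hom b)) hinv
      simp only [CommRingCat.hom_comp, RingHom.comp_apply, CommRingCat.hom_id,
        RingHom.id_apply] at h3
      rw [← h3]
      exact h2
    · intro hb
      rw [hcomp]
      simp only [CommRingCat.hom_comp, RingHom.comp_apply]
      rw [hb, map_zero]
  have hp : RingHom.ker s ≤ (hU.primeIdealOf ⟨σ y, hxU⟩).asIdeal := by
    rw [hker, ← mem_support_iff_le σ.ker hU (σ y) hxU]
    exact σ.range_subset_ker_support ⟨y, rfl⟩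
  obtain ⟨t, g, hgp, hts, htn, hgen⟩ := core s (hU.primeIdealOf ⟨σ y, hxU⟩).asIdeal hp
  have hxg : σ y ∈ X.basicOpen g :=
    (Groth.Agent.Lib.Helper2.mem_basicOpen_iff_notMem_primeIdealOf hU (σ y) hxU g).mpr hgp
  refine ⟨⟨X.basicOpen g, hU.basicOpen g⟩, hxg,
    (X.presheaf.map (homOfLE (X.basicOpen_le g)).op).hom t, ?_, ?_⟩
  · haveI : IsLocalization.Away g Γ(X, X.basicOpen g) := hU.isLocalization_basicOpen g
    exact IsLocalization.map_nonZeroDivisors_le (Submonoid.powers g) _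
      (Submonoid.mem_map_of_mem _ htn)
  · exact ideal_basicOpen_eq_span σ.ker hU t g (hker ▸ hts) (fun b hb => hgen b (hker ▸ hb))

end Groth.Agent.Helper18Sec
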