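import Mathlib
import Groth.Agent.Lib.Helper5FGDim

set_option autoImplicit false
universe u

namespace Groth.Agent.Lib.Helper18Gr

open MvPolynomial

section stepA

variable {k : Type u} [Field k] {R : Type u} [CommRing R] [IsDomain R] [Algebra k R]
  (𝒜 : ℤ → Submodule k R) [GradedAlgebra 𝒜]

lemma monomial_mem (n : ℤ) {x y : R} (hx : x ∈ 𝒜 n) (hy : y ∈ 𝒜 n) (i j : ℕ) :
    x ^ i * y ^ j ∈ 𝒜 (n * ((i + j : ℕ) : ℤ)) := by
  have h1 := SetLike.pow_mem_graded i hx
  have h2 := SetLike.pow_mem_graded j hy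
  have h3 := SetLike.mul_mem_graded h1 h2
  convert h3 using 2
  simp only [nsmul_eq_mul]
  push_cast
  ring

/-- the homogeneous components of a relation vanish -/
lemma homog_part_eq_zero (n : ℤ) (hn : n ≠ 0) {x y : R} (hx : x ∈ 𝒜 n) (hy : y ∈ 𝒜 n)
    (P : MvPolynomial (Fin 2) k) (hP : aeval ![x, y] P = 0) (e : ℕ) :
    ∑ m ∈ P.support.filter (fun m => m 0 + m 1 = e), coeff m P • (x ^ (m 0) * y ^ (m 1)) = 0 := by
  classical
  have h1 : aeval ![x, y] P = ∑ m ∈ P.support, coeff m P • (x ^ (m 0) * y ^ (m 1)) := by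
    rw [aeval_def, eval₂_eq']
    apply Finset.sum_congr rfl
    intro m _
    rw [Fin.prod_univ_two, Algebra.smul_def]
    rfl
  rw [h1] at hP
  have h2 := congrArg (GradedAlgebra.proj 𝒜 (n * (e : ℤ))) hP
  rw [map_sum, map_zero] at h2
  rw [Finset.sum_filter]
  refine Eq.trans ?_ h2
  apply Finset.sum_congr rfl
  intro m _
  rw [map_smul, GradedAlgebra.proj_apply]
  have hm := monomial_mem 𝒜 n hx hy (m 0) (m 1)
  by_cases he : m 0 + m 1 = e
  · rw [if_pos he, ← he, DirectSum.decompose_of_mem_same 𝒜 hm]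
  · rw [if_neg he, DirectSum.decompose_of_mem_ne 𝒜 hm, smul_zero]
    intro h
    apply he
    have := mul_left_cancel₀ hn h
    exact_mod_cast this

theorem eq_smul_of_mem [IsAlgClosed k] [Algebra.FiniteType k R] (hdim : ringKrullDim R = 1)
    (n : ℤ) (hn : n ≠ 0) {x y : R} (hx : x ∈ 𝒜 n) (hy : y ∈ 𝒜 n) (hy0 : y ≠ 0) :
    ∃ c : k, x = c • y := by
  classical
  have hnot : ¬ AlgebraicIndependent k ![x, y] := by
    intro h
    have h2 := Groth.Agent.Lib.Helper5.FGDim.natCast_le_ringKrullDim_of_algebraicIndependent k R 2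
      ![x, y] h
    rw [hdim] at h2
    have : ((2 : ℕ) : ℕ∞) ≤ 1 := by exact_mod_cast h2
    exact absurd this (by decide)
  rw [algebraicIndependent_iff] at hnot
  push Not at hnot
  obtain ⟨P, hP, hP0⟩ := hnot
  obtain ⟨ms, hms⟩ : ∃ ms, ms ∈ P.support := by
    by_contra hcon
    push Not at hcon
    apply hP0
    exact MvPolynomial.support_eq_empty.mp (Finset.eq_empty_of_forall_notMem hcon)
  obtain ⟨e, he⟩ : ∃ e, e = ms 0 + ms 1 := ⟨_, rfl⟩
  have hrel := homog_part_eq_zero 𝒜 n hn hx hy P hP e
  -- pass to the fraction field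
  let K := FractionRing R
  have hinj : Function.Injective (algebraMap R K) := IsFractionRing.injective R K
  have hY : algebraMap R K y ≠ 0 := fun h => hy0 (hinj (by rw [h, map_zero]))
  obtain ⟨t, ht⟩ : ∃ t : K, t = algebraMap R K x / algebraMap R K y := ⟨_, rfl⟩
  let p : Polynomial k := ∑ m ∈ P.support.filter (fun m => m 0 + m 1 = e),
    Polynomial.monomial (m 0) (coeff m P)
  have hp0 : p ≠ 0 := by
    intro h
    have h1 := congrArg (fun q : Polynomial k => q.coeff (ms 0)) h
    simp only [p, Polynomial.finsetSum_coeff, Polynomial.coeff_monomial, Polynomial.coeff_zero] at h1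
    rw [Finset.sum_eq_single ms] at h1
    · rw [if_pos rfl] at h1
      exact (MvPolynomial.mem_support_iff.mp hms) h1
    · intro m hm hne
      rw [if_neg]
      intro h0
      apply hne
      rw [Finset.mem_filter] at hm
      ext i
      fin_cases i
      · exact h0
      · have := hm.2
        change m 1 = ms 1
        change m 0 = ms 0 at h0
        omega
    · intro h
      exact absurd (Finset.mem_filter.mpr ⟨hms, he.symm⟩) h
  have hpt : Polynomial.aeval t p = 0 := by
    have h1 : algebraMap R K y ^ e * Polynomial.aeval t p = 0 := by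
      have h2 := congrArg (algebraMap R K) hrel
      rw [map_sum, map_zero] at h2
      rw [← h2]
      simp only [p, map_sum]
      rw [Finset.mul_sum]
      apply Finset.sum_congr rfl
      intro m hm
      rw [Finset.mem_filter] at hm
      rw [Polynomial.aeval_monomial, Algebra.smul_def, map_mul, map_mul, map_pow, map_pow,
        ← IsScalarTower.algebraMap_apply k R K, ht, ← hm.2, pow_add, div_pow]
      have hc : (algebraMap R K) y ^ m 0 * ((algebraMap R K) y ^ m 0)⁻¹ = 1 :=
        mul_inv_cancel₀ (pow_ne_zero _ hY)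
      rw [div_eq_mul_inv]
      linear_combination ((algebraMap k K) (coeff m P) * (algebraMap R K) x ^ m 0 *
        (algebraMap R K) y ^ m 1) * hc
    exact (mul_eq_zero.mp h1).resolve_left (pow_ne_zero _ hY)
  have halg : IsAlgebraic k t := ⟨p, hp0, hpt⟩
  have hdeg := IsAlgClosed.degree_eq_one_of_irreducible k (minpoly.irreducible halg.isIntegral)
  obtain ⟨c, hc⟩ := minpoly.mem_range_of_degree_eq_one k t hdeg
  refine ⟨c, ?_⟩
  apply hinj
  rw [Algebra.smul_def, map_mul, ← IsScalarTower.algebraMap_apply k R K]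
  change algebraMap k K c = t at hc
  rw [hc, ht, div_mul_cancel₀ _ hY]

end stepA

end Groth.Agent.Lib.Helper18Gr
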