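import Mathlib

set_option autoImplicit false
universe u

namespace Groth.Agent.Lib.Helper18Gr

/-- the group of differences of a submonoid of `ℕ` -/
def diffGroup (H : AddSubmonoid ℕ) : AddSubgroup ℤ where
  carrier := {z | ∃ a ∈ H, ∃ b ∈ H, z = (a : ℤ) - b}
  zero_mem' := ⟨0, H.zero_mem, 0, H.zero_mem, by simp⟩
  add_mem' := by
    rintro _ _ ⟨a, ha, b, hb, rfl⟩ ⟨a', ha', b', hb', rfl⟩
    exact ⟨a + a', H.add_mem ha ha', b + b', H.add_mem hb hb', by push_cast; ring⟩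
  neg_mem' := by
    rintro _ ⟨a, ha, b, hb, rfl⟩
    exact ⟨b, hb, a, ha, by ring⟩

theorem exists_gen (H : AddSubmonoid ℕ) (hnontriv : ∃ h ∈ H, h ≠ 0) :
    ∃ (d a b : ℕ), 0 < d ∧ a ∈ H ∧ b ∈ H ∧ a = b + d ∧ ∀ h ∈ H, d ∣ h := by
  obtain ⟨g, hg⟩ := Int.subgroup_cyclic (diffGroup H)
  have hgmem : g ∈ diffGroup H := by
    rw [hg]; exact AddSubgroup.subset_closure rfl
  obtain ⟨a, ha, b, hb, hab⟩ := hgmem
  have hmul : ∀ h ∈ H, ∃ m : ℤ, (h : ℤ) = m * g := by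
    intro h hh
    have : (h : ℤ) ∈ diffGroup H := ⟨h, hh, 0, H.zero_mem, by simp⟩
    rw [hg, AddSubgroup.mem_closure_singleton] at this
    obtain ⟨m, hm⟩ := this
    exact ⟨m, by rw [← hm, smul_eq_mul]⟩
  have hg0 : g ≠ 0 := by
    rintro rfl
    obtain ⟨h, hh, hh0⟩ := hnontriv
    obtain ⟨m, hm⟩ := hmul h hh
    rw [mul_zero] at hm
    exact hh0 (by exact_mod_cast hm)
  have hdvd : ∀ h ∈ H, g.natAbs ∣ h := by
    intro h hh
    obtain ⟨m, hm⟩ := hmul h hh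
    have : (g.natAbs : ℤ) ∣ (h : ℤ) := by
      rw [Int.natAbs_dvd, hm]
      exact Dvd.intro_left m rfl
    exact_mod_cast this
  have hpos : 0 < g.natAbs := Int.natAbs_pos.mpr hg0
  rcases lt_or_gt_of_ne hg0 with hneg | hpos'
  · refine ⟨g.natAbs, b, a, hpos, hb, ha, ?_, hdvd⟩
    have : (g.natAbs : ℤ) = -g := by rw [Int.ofNat_natAbs_of_nonpos hneg.le]
    omega
  · refine ⟨g.natAbs, a, b, hpos, ha, hb, ?_, hdvd⟩
    have : (g.natAbs : ℤ) = g := Int.natAbs_of_nonneg hpos'.le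
    omega

end Groth.Agent.Lib.Helper18Gr
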