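import Mathlib
import Groth.Agent.Lib.Helper18SemiGr1
import Groth.Agent.Lib.Helper18SemiGr3

set_option autoImplicit false
universe u

namespace Groth.Agent.Lib.Helper18Gr

section main

variable {k : Type u} [Field k] [IsAlgClosed k] {R : Type u} [CommRing R] [IsDomain R] [Algebra k R]
  (𝒜 : ℤ → Submodule k R) [GradedAlgebra 𝒜] [Algebra.FiniteType k R]

/-- any two elements of the same degree are proportional -/
theorem eq_smul_of_mem' (h0 : 𝒜 0 = Submodule.span k {(1 : R)}) (hdim : ringKrullDim R = 1)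
    (n : ℤ) {x y : R} (hx : x ∈ 𝒜 n) (hy : y ∈ 𝒜 n) (hy0 : y ≠ 0) :
    ∃ c : k, x = c • y := by
  by_cases hn : n = 0
  · subst hn
    rw [h0, Submodule.mem_span_singleton] at hx hy
    obtain ⟨a, rfl⟩ := hx
    obtain ⟨b, rfl⟩ := hy
    have hb : b ≠ 0 := by
      rintro rfl
      exact hy0 (zero_smul _ _)
    refine ⟨a / b, ?_⟩
    rw [smul_smul, div_mul_cancel₀ _ hb]
  · exact eq_smul_of_mem 𝒜 hdim n hn hx hy hy0

/-- the degree submonoid -/
def degMonoid : AddSubmonoid ℕ where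
  carrier := {h | 𝒜 (h : ℤ) ≠ ⊥}
  zero_mem' := by
    intro h
    have : (1 : R) ∈ 𝒜 ((0 : ℕ) : ℤ) := by
      rw [Nat.cast_zero]; exact SetLike.GradedOne.one_mem
    rw [h] at this
    exact one_ne_zero ((Submodule.mem_bot k).mp this)
  add_mem' := by
    intro a b ha hb
    obtain ⟨x, hx, hx0⟩ := Submodule.exists_mem_ne_zero_of_ne_bot ha
    obtain ⟨y, hy, hy0⟩ := Submodule.exists_mem_ne_zero_of_ne_bot hb
    intro h
    have : x * y ∈ 𝒜 ((a + b : ℕ) : ℤ) := by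
      rw [Nat.cast_add]; exact SetLike.mul_mem_graded hx hy
    rw [h] at this
    exact mul_ne_zero hx0 hy0 ((Submodule.mem_bot k).mp this)

omit [IsAlgClosed k] [Algebra.FiniteType k R] in
lemma mem_degMonoid {h : ℕ} : h ∈ degMonoid 𝒜 ↔ 𝒜 (h : ℤ) ≠ ⊥ := Iff.rfl

theorem exists_compatible (h0 : 𝒜 0 = Submodule.span k {(1 : R)}) (hdim : ringKrullDim R = 1) :
    ∃ F : Multiplicative (degMonoid 𝒜) →* R, ∀ h : degMonoid 𝒜,
      F (Multiplicative.ofAdd h) ∈ 𝒜 ((h : ℕ) : ℤ) ∧ F (Multiplicative.ofAdd h) ≠ 0 := by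
  by_cases hnontriv : ∃ h ∈ degMonoid 𝒜, h ≠ 0
  · obtain ⟨d, a, b, hd, ha, hb, hab, hdvd⟩ := exists_gen (degMonoid 𝒜) hnontriv
    obtain ⟨xa, hxa, hxa0⟩ := Submodule.exists_mem_ne_zero_of_ne_bot ha
    obtain ⟨xb, hxb, hxb0⟩ := Submodule.exists_mem_ne_zero_of_ne_bot hb
    have key : ∀ h : degMonoid 𝒜, ∃ y : R, y ∈ 𝒜 ((h : ℕ) : ℤ) ∧ y ≠ 0 ∧
        y * xb ^ ((h : ℕ) / d) = xa ^ ((h : ℕ) / d) := by
      intro h
      obtain ⟨w, hw, hw0⟩ := Submodule.exists_mem_ne_zero_of_ne_bot h.2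
      obtain ⟨m, hm⟩ : ∃ m, m = (h : ℕ) / d := ⟨_, rfl⟩
      have hmd : (h : ℕ) = m * d := by rw [hm, Nat.div_mul_cancel (hdvd h h.2)]
      have h1 : w * xb ^ m ∈ 𝒜 (((h : ℕ) : ℤ) + m • (b : ℤ)) :=
        SetLike.mul_mem_graded hw (SetLike.pow_mem_graded m hxb)
      have h2 : xa ^ m ∈ 𝒜 (((h : ℕ) : ℤ) + m • (b : ℤ)) := by
        have := SetLike.pow_mem_graded m hxa
        convert this using 2
        rw [hab, hmd]
        simp only [nsmul_eq_mul]
        push_cast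
        ring
      obtain ⟨c, hc⟩ := eq_smul_of_mem' 𝒜 h0 hdim _ h2 h1 (mul_ne_zero hw0 (pow_ne_zero _ hxb0))
      have hc0 : c ≠ 0 := by
        rintro rfl
        rw [zero_smul] at hc
        exact pow_ne_zero _ hxa0 hc
      refine ⟨c • w, Submodule.smul_mem _ c hw, smul_ne_zero hc0 hw0, ?_⟩
      rw [← hm, hc, smul_mul_assoc]
    choose y hy1 hy2 hy3 using key
    refine ⟨{ toFun := fun h => y (Multiplicative.toAdd h), map_one' := ?_, map_mul' := ?_ }, ?_⟩
    · have := hy3 0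
      simpa using this
    · intro h h'
      have h1 := hy3 (Multiplicative.toAdd h)
      have h2 := hy3 (Multiplicative.toAdd h')
      have h3 := hy3 (Multiplicative.toAdd (h * h'))
      have hdiv : ((Multiplicative.toAdd (h * h') : degMonoid 𝒜) : ℕ) / d =
          ((Multiplicative.toAdd h : degMonoid 𝒜) : ℕ) / d + ((Multiplicative.toAdd h' : degMonoid 𝒜) : ℕ) / d := by
        rw [toAdd_mul, AddSubmonoid.coe_add]
        exact Nat.add_div_of_dvd_right (hdvd _ (Multiplicative.toAdd h).2)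
      rw [hdiv] at h3
      apply mul_right_cancel₀ (pow_ne_zero (((Multiplicative.toAdd h : degMonoid 𝒜) : ℕ) / d +
        ((Multiplicative.toAdd h' : degMonoid 𝒜) : ℕ) / d) hxb0)
      rw [h3, pow_add, pow_add, ← h1, ← h2]
      ring
    · intro h
      exact ⟨hy1 h, hy2 h⟩
  · push Not at hnontriv
    refine ⟨1, fun h => ?_⟩
    have : ((h : ℕ) : ℤ) = 0 := by
      have := hnontriv h h.2
      exact_mod_cast this
    rw [this]
    exact ⟨SetLike.GradedOne.one_mem, one_ne_zero⟩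

end main

end Groth.Agent.Lib.Helper18Gr
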