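import Mathlib
import Groth.Agent.Lib.Helper18SemiGr2

set_option autoImplicit false
universe u

namespace Groth.Agent.Lib.Helper18Gr

section main

variable {k : Type u} [Field k] [IsAlgClosed k] {R : Type u} [CommRing R] [IsDomain R] [Algebra k R]
  (𝒜 : ℤ → Submodule k R) [GradedAlgebra 𝒜] [Algebra.FiniteType k R]

theorem exists_ringEquiv (hpos : ∀ n : ℤ, n < 0 → 𝒜 n = ⊥)
    (h0 : 𝒜 0 = Submodule.span k {(1 : R)}) (hdim : ringKrullDim R = 1) :
    Nonempty (R ≃+* AddMonoidAlgebra k (degMonoid 𝒜)) := by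
  classical
  obtain ⟨F, hF⟩ := exists_compatible 𝒜 h0 hdim
  let φ : AddMonoidAlgebra k (degMonoid 𝒜) →ₐ[k] R := AddMonoidAlgebra.lift k R (degMonoid 𝒜) F
  have hφ : ∀ f, φ f = ∑ h ∈ f.coeff.support, f.coeff h • F (Multiplicative.ofAdd h) := by
    intro f
    change AddMonoidAlgebra.lift k R (degMonoid 𝒜) F f = _
    rw [AddMonoidAlgebra.lift_apply]
    rfl
  have hinj : Function.Injective φ := by
    rw [injective_iff_map_eq_zero]
    intro f hf
    apply AddMonoidAlgebra.coeff_injective
    ext h₀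
    rw [hφ] at hf
    have h1 := congrArg (GradedAlgebra.proj 𝒜 ((h₀ : ℕ) : ℤ)) hf
    rw [map_sum, map_zero] at h1
    have h2 : ∀ h ∈ f.coeff.support, GradedAlgebra.proj 𝒜 ((h₀ : ℕ) : ℤ)
        (f.coeff h • F (Multiplicative.ofAdd h)) =
        if h = h₀ then f.coeff h₀ • F (Multiplicative.ofAdd h₀) else 0 := by
      intro h _
      rw [map_smul, GradedAlgebra.proj_apply]
      by_cases hh : h = h₀
      · subst hh
        rw [if_pos rfl, DirectSum.decompose_of_mem_same 𝒜 (hF h).1]
      · rw [if_neg hh, DirectSum.decompose_of_mem_ne 𝒜 (hF h).1, smul_zero]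
        intro h'
        apply hh
        apply Subtype.ext
        exact_mod_cast h'
    rw [Finset.sum_congr rfl h2, Finset.sum_ite_eq'] at h1
    by_cases hmem : h₀ ∈ f.coeff.support
    · rw [if_pos hmem] at h1
      rcases smul_eq_zero.mp h1 with h3 | h3
      · simpa using h3
      · exact absurd h3 (hF h₀).2
    · simpa using Finsupp.notMem_support_iff.mp hmem
  have hsurj : Function.Surjective φ := by
    intro r
    induction r using DirectSum.Decomposition.inductionOn 𝒜 with
    | zero => exact ⟨0, map_zero φ⟩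
    | add a b ha hb =>
      obtain ⟨fa, rfl⟩ := ha
      obtain ⟨fb, rfl⟩ := hb
      exact ⟨fa + fb, map_add φ fa fb⟩
    | @homogeneous i m =>
      by_cases hm : (m : R) = 0
      · exact ⟨0, by rw [map_zero, hm]⟩
      · have hne : 𝒜 i ≠ ⊥ := by
          intro h
          have h1 : (m : R) ∈ 𝒜 i := m.2
          have h2 : (m : R) ∈ (⊥ : Submodule k R) := h ▸ h1
          exact hm ((Submodule.mem_bot k).mp h2)
        have hi : 0 ≤ i := by
          by_contra hcon
          exact hne (hpos i (not_le.mp hcon))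
        obtain ⟨j, rfl⟩ := Int.eq_ofNat_of_zero_le hi
        have hj : j ∈ degMonoid 𝒜 := hne
        obtain ⟨c, hc⟩ := eq_smul_of_mem' 𝒜 h0 hdim _ m.2 (hF ⟨j, hj⟩).1 (hF ⟨j, hj⟩).2
        refine ⟨AddMonoidAlgebra.single ⟨j, hj⟩ c, ?_⟩
        change AddMonoidAlgebra.lift k R (degMonoid 𝒜) F _ = _
        rw [AddMonoidAlgebra.lift_single, hc]
  exact ⟨(RingEquiv.ofBijective φ ⟨hinj, hsurj⟩).symm⟩

theorem exists_ringEquiv_polynomial (hpos : ∀ n : ℤ, n < 0 → 𝒜 n = ⊥)
    (h0 : 𝒜 0 = Submodule.span k {(1 : R)}) (hdim : ringKrullDim R = 1)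
    (hgen : Ideal.span (⋃ n ∈ Set.Ioi (0 : ℤ), (𝒜 n : Set R)) =
      Ideal.span ((𝒜 1 : Submodule k R) : Set R)) :
    Nonempty (R ≃+* Polynomial k) := by
  by_cases h1 : 𝒜 1 = ⊥
  · exfalso
    have hbot : ∀ n : ℤ, n ≠ 0 → 𝒜 n = ⊥ := by
      intro n hn
      rcases lt_or_gt_of_ne hn with hlt | hgt
      · exact hpos n hlt
      · rw [eq_bot_iff]
        intro x hx
        have hx' : x ∈ Ideal.span (⋃ n ∈ Set.Ioi (0 : ℤ), (𝒜 n : Set R)) := by
          apply Ideal.subset_span
          simp only [Set.mem_iUnion]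
          exact ⟨n, hgt, hx⟩
        rw [hgen, h1] at hx'
        have : Ideal.span (((⊥ : Submodule k R) : Set R)) = ⊥ := by
          rw [Ideal.span_eq_bot]
          intro y hy
          exact (Submodule.mem_bot k).mp hy
        rw [this] at hx'
        rw [Submodule.mem_bot]
        exact hx'
    have hall : ∀ r : R, r ∈ Submodule.span k {(1 : R)} := by
      intro r
      induction r using DirectSum.Decomposition.inductionOn 𝒜 with
      | zero => exact Submodule.zero_mem _
      | add a b ha hb => exact Submodule.add_mem _ ha hb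
      | @homogeneous i m =>
        by_cases hi : i = 0
        · subst hi
          rw [← h0]; exact m.2
        · have h2 : (m : R) ∈ (⊥ : Submodule k R) := hbot i hi ▸ m.2
          rw [(Submodule.mem_bot k).mp h2]
          exact Submodule.zero_mem _
    have hfield : IsField R := by
      refine ⟨⟨0, 1, zero_ne_one⟩, mul_comm, ?_⟩
      intro a ha
      obtain ⟨c, rfl⟩ := Submodule.mem_span_singleton.mp (hall a)
      have hc : c ≠ 0 := by
        rintro rfl
        exact ha (zero_smul _ _)
      refine ⟨c⁻¹ • 1, ?_⟩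
      rw [smul_mul_smul_comm, mul_one, mul_inv_cancel₀ hc, one_smul]
    rw [ringKrullDim_eq_zero_of_isField hfield] at hdim
    exact zero_ne_one hdim
  · obtain ⟨e1⟩ := exists_ringEquiv 𝒜 hpos h0 hdim
    have hone : 1 ∈ degMonoid 𝒜 := by
      rw [mem_degMonoid]
      exact_mod_cast h1
    have hall : ∀ n : ℕ, n ∈ degMonoid 𝒜 := by
      intro n
      have := (degMonoid 𝒜).nsmul_mem hone n
      simpa using this
    let e : degMonoid 𝒜 ≃+ ℕ :=
      { toFun := fun h => h.1
        invFun := fun n => ⟨n, hall n⟩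
        left_inv := fun _ => rfl
        right_inv := fun _ => rfl
        map_add' := fun _ _ => rfl }
    exact ⟨(e1.trans (AddMonoidAlgebra.domCongr k k e).toRingEquiv).trans
      (Polynomial.toFinsuppIso k).symm⟩

end main

end Groth.Agent.Lib.Helper18Gr
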