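import Mathlib

set_option linter.style.haveILetI false

open CategoryTheory Abelian

universe u

namespace Groth.Agent.Helper18Serre

variable {A : Type u} [CommRing A]


/-- RHS ⟺ Ext¹(X₂, X₁) = 0 when X₁ is projective. -/
lemma gen_iff {S : ShortComplex (ModuleCat.{u} A)} (hS : S.ShortExact) [Projective S.X₁] :
    (∀ x : Ext S.X₃ S.X₁ 1, ∃ f : S.X₁ ⟶ S.X₁,
      hS.extClass.comp (Ext.mk₀ f) (add_zero 1) = x) ↔
    ∀ y : Ext S.X₂ S.X₁ 1, y = 0 := by
  constructor
  · intro h y
    obtain ⟨x₁, rfl⟩ := Ext.contravariant_sequence_exact₂ hS _ y (Ext.eq_zero_of_projective _)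
    obtain ⟨f, rfl⟩ := h x₁
    rw [← Ext.comp_assoc (Ext.mk₀ S.g) hS.extClass (Ext.mk₀ f) (zero_add 1) (add_zero 1)
      (by norm_num)]
    rw [hS.comp_extClass, Ext.zero_comp]
  · intro h x
    obtain ⟨x₁, hx₁⟩ := Ext.contravariant_sequence_exact₃ hS _ x (h _) (n₀ := 0) (by norm_num)
    obtain ⟨f, rfl⟩ := (Ext.mk₀_bijective _ _).2 x₁
    exact ⟨f, hx₁⟩



/-- If `K → F` is the kernel of a surjection `π : F → M`, `K` is free of finite rank,
and every functional `K → A` extends to `F`, then `M` is projective. -/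
lemma projective_of_extend {F M : Type u} [AddCommGroup F] [Module A F] [AddCommGroup M]
    [Module A M] [Module.Projective A F] (π : F →ₗ[A] M) (hπ : Function.Surjective π)
    [Module.Free A (LinearMap.ker π)] [Module.Finite A (LinearMap.ker π)]
    (hext : ∀ c : LinearMap.ker π →ₗ[A] A, ∃ c' : F →ₗ[A] A,
      c' ∘ₗ (LinearMap.ker π).subtype = c) :
    Module.Projective A M := by
  classical
  let K := LinearMap.ker π
  let b := Module.Free.chooseBasis A K
  haveI : Fintype (Module.Free.ChooseBasisIndex A K) := Module.Free.ChooseBasisIndex.fintype A K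
  choose c' hc' using fun j => hext (b.coord j)
  -- retraction r : F → K
  let r : F →ₗ[A] K := ∑ j, (c' j).smulRight (b j)
  have hr : ∀ k : K, r k.1 = k := by
    intro k
    have : ∀ j, c' j k.1 = b.coord j k := fun j => by
      have := LinearMap.congr_fun (hc' j) k
      simpa using this
    simp only [r, LinearMap.sum_apply, LinearMap.smulRight_apply, this]
    exact b.sum_repr k
  -- section i : M → F
  let g : F →ₗ[A] F := LinearMap.id - K.subtype ∘ₗ r
  have hg : K ≤ LinearMap.ker g := by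
    intro x hx
    have := hr ⟨x, hx⟩
    simp only [g, LinearMap.mem_ker, LinearMap.sub_apply, LinearMap.id_apply,
      LinearMap.comp_apply, Submodule.subtype_apply]
    rw [this]; simp
  let i : M →ₗ[A] F := (K.liftQ g hg) ∘ₗ (π.quotKerEquivOfSurjective hπ).symm.toLinearMap
  have hi : ∀ m, π (i m) = m := by
    intro m
    obtain ⟨x, rfl⟩ := hπ m
    have h1 : (π.quotKerEquivOfSurjective hπ).symm (π x) = Submodule.Quotient.mk x := by
      rw [LinearEquiv.symm_apply_eq]; rfl
    simp only [i, LinearMap.comp_apply, LinearEquiv.coe_coe, h1, Submodule.liftQ_apply, g,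
      LinearMap.sub_apply, LinearMap.id_apply, Submodule.subtype_apply, map_sub]
    have : π ((r x : K) : F) = 0 := (r x).2
    rw [this, sub_zero]
  exact Module.Projective.of_split i π (LinearMap.ext hi)


lemma extend_of_ext_eq_zero {S : ShortComplex (ModuleCat.{u} A)} (hS : S.ShortExact)
    (Y : ModuleCat.{u} A) (h : ∀ y : Ext S.X₃ Y 1, y = 0) (c : S.X₁ ⟶ Y) :
    ∃ c' : S.X₂ ⟶ Y, S.f ≫ c' = c := by
  obtain ⟨x₂, hx₂⟩ := Ext.contravariant_sequence_exact₁ hS Y (Ext.mk₀ c) (n₁ := 1)
    (by norm_num) (h _)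
  obtain ⟨c', rfl⟩ := (Ext.mk₀_bijective _ _).2 x₂
  rw [Ext.mk₀_comp_mk₀] at hx₂
  exact ⟨c', (Ext.mk₀_bijective _ _).1 hx₂⟩

theorem free_of_ext_eq_zero [IsNoetherianRing A] [IsLocalRing A] (M Y : ModuleCat.{u} A)
    [Module.Finite A M] (e : Y ≅ ModuleCat.of A A)
    (hpd : HasProjectiveDimensionLT M 2) (h : ∀ y : Ext M Y 1, y = 0) :
    Module.Free A M := by
  obtain ⟨n, π, hπ⟩ := Module.Finite.exists_fin' A M
  have hSE := LinearMap.shortExact_shortComplexKer hπ
  have hF : Projective (π.shortComplexKer).X₂ := by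
    change Projective (ModuleCat.of A (Fin n → A))
    infer_instance
  have hK : HasProjectiveDimensionLT (π.shortComplexKer).X₁ 1 :=
    hSE.hasProjectiveDimensionLT_X₁ 1 inferInstance hpd
  have hK' : Projective (ModuleCat.of A (LinearMap.ker π)) :=
    projective_iff_hasProjectiveDimensionLT_one.2 hK
  have hK'' : Module.Projective A (LinearMap.ker π) := (IsProjective.iff_projective _).2 hK'
  have : Module.Free A (LinearMap.ker π) := Module.free_of_flat_of_isLocalRing
  have : Module.Projective A M := projective_of_extend π hπ (fun c => by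
    obtain ⟨c', hc'⟩ := extend_of_ext_eq_zero hSE Y h (ModuleCat.ofHom c ≫ e.inv)
    refine ⟨(c' ≫ e.hom).hom, ?_⟩
    have h2 : (π.shortComplexKer).f ≫ c' ≫ e.hom = ModuleCat.ofHom c := by
      rw [← Category.assoc, hc', Category.assoc, e.inv_hom_id, Category.comp_id]
    exact congrArg ModuleCat.Hom.hom h2)
  exact Module.free_of_flat_of_isLocalRing


theorem serre (A : Type u) [CommRing A] [IsNoetherianRing A] [IsLocalRing A]
    (I : Ideal A)
    (hres : ∃ (q : ℕ) (φ : (Fin q → A) →ₗ[A] ↥I), Function.Surjective φ ∧ Module.Free A ↥(LinearMap.ker φ))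
    (S : ShortComplex (ModuleCat.{u} A)) (hS : S.ShortExact)
    (h₁ : Nonempty (S.X₁ ≅ ModuleCat.of A A)) (h₃ : Nonempty (S.X₃ ≅ ModuleCat.of A ↥I)) :
    Module.Free A S.X₂ ↔
      ∀ x : Abelian.Ext S.X₃ S.X₁ 1, ∃ f : S.X₁ ⟶ S.X₁, hS.extClass.comp (Abelian.Ext.mk₀ f) (add_zero 1) = x := by
  obtain ⟨e₁⟩ := h₁
  obtain ⟨e₃⟩ := h₃
  haveI : Projective S.X₁ := Projective.of_iso e₁.symm inferInstance
  rw [gen_iff hS]
  constructor
  · intro hfree y
    haveI : Projective S.X₂ := (IsProjective.iff_projective (R := A) S.X₂).1 inferInstance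
    exact Ext.eq_zero_of_projective y
  · intro h
    haveI : IsNoetherian A S.X₁ := isNoetherian_of_linearEquiv e₁.toLinearEquiv.symm
    haveI : IsNoetherian A S.X₃ := isNoetherian_of_linearEquiv e₃.toLinearEquiv.symm
    haveI : IsNoetherian A S.X₂ := isNoetherian_of_range_eq_ker S.f.hom S.g.hom
      hS.exact.moduleCat_range_eq_ker
    obtain ⟨q, φ, hφ, hfree⟩ := hres
    have hSE := LinearMap.shortExact_shortComplexKer hφ
    have hK : Projective (φ.shortComplexKer).X₁ :=
      (IsProjective.iff_projective (R := A) (LinearMap.ker φ)).1 inferInstance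
    have hF : Projective (φ.shortComplexKer).X₂ :=
      (IsProjective.iff_projective (R := A) (Fin q → A)).1 inferInstance
    have h3 : HasProjectiveDimensionLT (φ.shortComplexKer).X₃ 2 :=
      hSE.hasProjectiveDimensionLT_X₃ 1 inferInstance inferInstance
    have h3' : HasProjectiveDimensionLT S.X₃ 2 := hasProjectiveDimensionLT_of_iso e₃.symm 2
    have hpd : HasProjectiveDimensionLT S.X₂ 2 :=
      hS.hasProjectiveDimensionLT_X₂ 2 inferInstance h3'
    exact free_of_ext_eq_zero S.X₂ S.X₁ e₁ hpd h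

end Groth.Agent.Helper18Serre
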