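import Mathlib
import Groth.Prelude.Def_Coh
import Groth.Agent.Lib.Helper23Serre

set_option autoImplicit false
universe u
open CategoryTheory Limits AlgebraicGeometry TopologicalSpace Opposite

namespace Groth.Agent.Helper18Serre2

open Groth.Agent.Lib.Helper23.Serre
open Groth.Agent.Lib.Helper23.AffVanish Groth.Agent.Lib.Helper23.QCohLocal
open Groth.Agent.Lib.Helper23.GenLocus
open CategoryTheory.Abelian

variable {X : Scheme.{u}}

/-- exactness of global sections on short exact sequences of quasi-coherent modules whose first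
term embeds in a finite power of `O_X` -/
def Hyp' (X : Scheme.{u}) : Prop :=
  ∀ (S : ShortComplex X.Modules) (n : ℕ)
      (j : S.X₁ ⟶ ∏ᶜ (fun _ : Fin n => Coh.structureModule X)),
      S.ShortExact → Mono j → Coh.IsQCoh S.X₁ → Coh.IsQCoh S.X₂ → Coh.IsQCoh S.X₃ →
        Function.Surjective (S.g.val.app (op ⊤)).hom

/-- global sections of epimorphisms `O_X → Q` are surjective -/
def EpiSurj (X : Scheme.{u}) : Prop :=
  ∀ (Q : X.Modules) (_ : Q.IsQuasicoherent) (π : Coh.structureModule X ⟶ Q), Epi π →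
    Function.Surjective (π.app ⊤)

theorem mono_lift_one (M : X.Modules) :
    Mono (Pi.lift (fun _ : Fin 1 => 𝟙 M)) := by
  apply Preadditive.mono_of_cancel_zero
  intro P g hg
  have := congrArg (fun φ => φ ≫ Pi.π (fun _ : Fin 1 => M) 0) hg
  simp only [Category.assoc, Pi.lift_π, zero_comp, Category.comp_id] at this
  exact this

theorem mono_lift_cons (M N : X.Modules) (n : ℕ) (j : N ⟶ ∏ᶜ (fun _ : Fin n => M)) [Mono j] :
    Mono (Pi.lift (Fin.cases (biprod.fst : M ⊞ N ⟶ _)
      (fun i => (biprod.snd : M ⊞ N ⟶ _) ≫ j ≫ Pi.π _ i)) : M ⊞ N ⟶ ∏ᶜ (fun _ : Fin (n + 1) => M)) := by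
  apply Preadditive.mono_of_cancel_zero
  intro P g hg
  have h0 := congrArg (fun φ => φ ≫ Pi.π (fun _ : Fin (n + 1) => M) 0) hg
  simp only [Category.assoc, Pi.lift_π, Fin.cases_zero, zero_comp] at h0
  have hs : ∀ i : Fin n, (g ≫ biprod.snd ≫ j) ≫ Pi.π _ i = 0 := by
    intro i
    have := congrArg (fun φ => φ ≫ Pi.π (fun _ : Fin (n + 1) => M) i.succ) hg
    simpa using this
  have h1 : g ≫ biprod.snd ≫ j = 0 := by
    apply Pi.hom_ext
    intro i
    rw [hs i, zero_comp]
  have h2 : g ≫ biprod.snd = 0 := by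
    rw [← cancel_mono j, Category.assoc, h1, zero_comp]
  apply biprod.hom_ext
  · rw [h0, zero_comp]
  · rw [h2, zero_comp]

theorem exists_mono_Pn (l : List Γ(X, ⊤)) :
    ∃ (n : ℕ) (j : Pn l ⟶ ∏ᶜ (fun _ : Fin n => Coh.structureModule X)), Mono j := by
  induction l with
  | nil => exact ⟨1, Pi.lift (fun _ => 𝟙 (Coh.structureModule X)), mono_lift_one _⟩
  | cons f l ih =>
    obtain ⟨n, j, hj⟩ := ih
    exact ⟨n + 1, _, mono_lift_cons (Coh.structureModule X) (Pn l) n j⟩

theorem epiSurj_of_hyp' (h : Hyp' X) : EpiSurj X := by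
  intro Q hQ π hπ
  have : (Coh.structureModule X).IsQuasicoherent := isQuasicoherent_structureModule' X
  let S : ShortComplex X.Modules := ShortComplex.mk (kernel.ι π) π (kernel.condition π)
  have hS : S.ShortExact :=
    { exact := ShortComplex.exact_kernel π
      mono_f := inferInstanceAs (Mono (kernel.ι π))
      epi_g := hπ }
  have hK : (kernel π).IsQuasicoherent := isQuasicoherent_kernel π
  let j : S.X₁ ⟶ ∏ᶜ (fun _ : Fin 1 => Coh.structureModule X) := Pi.lift (fun _ => kernel.ι π)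
  have hj : Mono j := by
    apply Preadditive.mono_of_cancel_zero
    intro P g hg
    have h0 := congrArg (fun φ => φ ≫ Pi.π (fun _ : Fin 1 => Coh.structureModule X) 0) hg
    simp only [j, Category.assoc, Pi.lift_π, zero_comp] at h0
    have : Mono (kernel.ι π) := inferInstance
    rw [← cancel_mono (kernel.ι π), h0, zero_comp]
  exact h S 1 j hS hj hK this hQ

theorem span_eq_top' (h : Hyp' X) (l : List Γ(X, ⊤)) (hl : ∀ y : X, ∃ f ∈ l, y ∈ X.basicOpen f) :
    Ideal.span {f | f ∈ l} = ⊤ := by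
  have hepi : Epi (psi l) := epi_psi l hl
  have hO := isQuasicoherent_structureModule' X
  have hP := isQuasicoherent_Pn l
  let S : ShortComplex X.Modules := ShortComplex.mk (kernel.ι (psi l)) (psi l) (kernel.condition (psi l))
  have hS : S.ShortExact :=
    { exact := ShortComplex.exact_kernel (psi l)
      mono_f := inferInstanceAs (Mono (kernel.ι (psi l)))
      epi_g := hepi }
  have hK : (kernel (psi l)).IsQuasicoherent := isQuasicoherent_kernel (psi l)
  obtain ⟨n, j, hj⟩ := exists_mono_Pn l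
  have hm : Mono (kernel.ι (psi l) ≫ j) := mono_comp _ _
  have hsurj : Function.Surjective ((psi l).app ⊤) := h S n (kernel.ι (psi l) ≫ j) hS hm hK hP hO
  obtain ⟨s, hs⟩ := hsurj (toS ⊤ 1)
  rw [Ideal.eq_top_iff_one]
  have hmem := psi_app_mem l s
  rw [hs] at hmem
  exact hmem

theorem surjective_app_top_of_isClosedImmersion' (h : EpiSurj X) {Z : Scheme.{u}} (i : Z ⟶ X)
    [IsClosedImmersion i] : Function.Surjective (i.app ⊤) := by
  have : (Coh.structureModule Z).IsQuasicoherent := isQuasicoherent_structureModule' Z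
  have : ((Scheme.Modules.pushforward i).obj (Coh.structureModule Z)).IsQuasicoherent :=
    isQuasicoherent_pushforward i _
  intro b
  obtain ⟨a, ha⟩ := h _ inferInstance (unitPush i) inferInstance (toS (i ⁻¹ᵁ ⊤) b)
  exact ⟨ofS ⊤ a, congrArg (ofS (i ⁻¹ᵁ ⊤)) ha⟩

theorem exists_basicOpen_le' (h : EpiSurj X) (x : X) (hx : IsClosed ({x} : Set X)) (U : X.Opens) (hxU : x ∈ U) :
    ∃ f : Γ(X, ⊤), x ∈ X.basicOpen f ∧ X.basicOpen f ≤ U := by
  let T : Closeds X := ⟨(U : Set X)ᶜ ∪ {x}, U.isOpen.isClosed_compl.union hx⟩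
  let J := Scheme.IdealSheafData.vanishingIdeal T
  let i : J.subscheme ⟶ X := J.subschemeι
  have hrange : Set.range i = (U : Set X)ᶜ ∪ {x} := by
    rw [J.range_subschemeι]
    exact Scheme.IdealSheafData.coe_support_vanishingIdeal T
  let Ux : X.Opens := ⟨({x} : Set X)ᶜ, hx.isOpen_compl⟩
  let V1 : J.subscheme.Opens := i ⁻¹ᵁ U
  let V2 : J.subscheme.Opens := i ⁻¹ᵁ Ux
  have hinf : V1 ⊓ V2 = ⊥ := by
    ext z
    simp only [Opens.coe_inf, Set.mem_inter_iff, SetLike.mem_coe, Opens.coe_bot, Set.mem_empty_iff_false,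
      iff_false, not_and]
    intro hz1 hz2
    have hz : i z ∈ (U : Set X)ᶜ ∪ {x} := hrange ▸ Set.mem_range_self z
    rcases hz with hz | hz
    · exact hz hz1
    · exact hz2 hz
  have hsup : V1 ⊔ V2 = ⊤ := by
    ext z
    simp only [Opens.coe_sup, Set.mem_union, SetLike.mem_coe, Opens.coe_top, Set.mem_univ, iff_true]
    by_cases hz : i z = x
    · left
      change i z ∈ U
      rw [hz]; exact hxU
    · right
      exact hz
  obtain ⟨e, he1, he2⟩ := exists_idempotent_of_disjoint_cover J.subscheme V1 V2 hinf hsup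
  obtain ⟨f, hf⟩ := surjective_app_top_of_isClosedImmersion' h i e
  have hpre : i ⁻¹ᵁ (X.basicOpen f) = J.subscheme.basicOpen e := by
    rw [Scheme.preimage_basicOpen, hf]
    rfl
  have hV1 : V1 ≤ J.subscheme.basicOpen e := by
    have h1 := J.subscheme.basicOpen_res e (homOfLE (le_top : V1 ≤ ⊤)).op
    rw [he1] at h1
    have h2 : J.subscheme.basicOpen (1 : Γ(J.subscheme, V1)) = V1 := J.subscheme.basicOpen_of_isUnit isUnit_one
    rw [h2] at h1
    exact inf_eq_left.1 h1.symm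
  have hV2 : V2 ⊓ J.subscheme.basicOpen e = ⊥ := by
    have h1 := J.subscheme.basicOpen_res e (homOfLE (le_top : V2 ≤ ⊤)).op
    rw [he2, Scheme.basicOpen_zero] at h1
    exact h1.symm
  have hxr : x ∈ Set.range i := by rw [hrange]; right; rfl
  obtain ⟨z₀, hz₀⟩ := hxr
  refine ⟨f, ?_, ?_⟩
  · have : z₀ ∈ i ⁻¹ᵁ (X.basicOpen f) := by
      rw [hpre]
      apply hV1
      change i z₀ ∈ U
      rw [hz₀]; exact hxU
    rw [← hz₀]
    exact this
  · intro y hy
    by_contra hyU
    have hyr : y ∈ Set.range i := by rw [hrange]; left; exact hyU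
    obtain ⟨z, rfl⟩ := hyr
    have hz1 : z ∈ J.subscheme.basicOpen e := by
      rw [← hpre]; exact hy
    have hz2 : z ∈ V2 := by
      change i z ∈ ({x} : Set X)ᶜ
      intro hzx
      rw [Set.mem_singleton_iff] at hzx
      rw [hzx] at hyU
      exact hyU hxU
    have : z ∈ V2 ⊓ J.subscheme.basicOpen e := ⟨hz2, hz1⟩
    rw [hV2] at this
    exact this

theorem exists_affine_basicOpen_mem' (h : EpiSurj X) [CompactSpace X] (y : X) :
    ∃ f : Γ(X, ⊤), IsAffineOpen (X.basicOpen f) ∧ y ∈ X.basicOpen f := by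
  by_contra hcon
  push Not at hcon
  let W : X.Opens := ⨆ f : {f : Γ(X, ⊤) // IsAffineOpen (X.basicOpen f)}, X.basicOpen f.1
  have hyW : y ∉ W := by
    intro hy
    obtain ⟨f, hf⟩ := Opens.mem_iSup.1 hy
    exact hcon f.1 f.2 hf
  obtain ⟨x, hxW, hx⟩ := IsClosed.exists_closed_singleton (S := (W : Set X)ᶜ) W.isOpen.isClosed_compl ⟨y, hyW⟩
  obtain ⟨_, ⟨U, hU, rfl⟩, hxU, -⟩ :=
    X.isBasis_affineOpens.exists_subset_of_mem_open (Set.mem_univ x) isOpen_univ
  obtain ⟨f, hxf, hfU⟩ := exists_basicOpen_le' h x hx U hxU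
  have haff : IsAffineOpen (X.basicOpen f) := by
    have h1 := X.basicOpen_res f (homOfLE (le_top : U ≤ ⊤)).op
    rw [inf_eq_right.2 hfU] at h1
    rw [← h1]
    exact hU.basicOpen _
  exact hxW (Opens.mem_iSup.2 ⟨⟨f, haff⟩, hxf⟩)

theorem exists_finset_cover' (h : EpiSurj X) [CompactSpace X] :
    ∃ s : Finset Γ(X, ⊤), (∀ f ∈ s, IsAffineOpen (X.basicOpen f)) ∧ ∀ y : X, ∃ f ∈ s, y ∈ X.basicOpen f := by
  classical
  choose f hf1 hf2 using exists_affine_basicOpen_mem' h
  obtain ⟨t, ht⟩ := CompactSpace.elim_nhds_subcover (fun y => (X.basicOpen (f y) : Set X))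
    (fun y => (X.basicOpen (f y)).isOpen.mem_nhds (hf2 y))
  refine ⟨t.image f, ?_, ?_⟩
  · intro g hg
    obtain ⟨y, -, rfl⟩ := Finset.mem_image.1 hg
    exact hf1 y
  · intro y
    have hy : y ∈ ⋃ x ∈ t, (X.basicOpen (f x) : Set X) := by rw [ht]; trivial
    simp only [Set.mem_iUnion] at hy
    obtain ⟨x, hxt, hyx⟩ := hy
    exact ⟨f x, Finset.mem_image_of_mem f hxt, hyx⟩


theorem isAffine_of_hyp' (h : Hyp' X) [CompactSpace X] : IsAffine X := by
  obtain ⟨s, hs1, hs2⟩ := exists_finset_cover' (epiSurj_of_hyp' h)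
  have hl : ∀ y : X, ∃ f ∈ s.toList, y ∈ X.basicOpen f := by
    intro y
    obtain ⟨f, hf, hy⟩ := hs2 y
    exact ⟨f, Finset.mem_toList.2 hf, hy⟩
  have hspan := span_eq_top' h s.toList hl
  refine isAffine_of_isAffineOpen_basicOpen {f | f ∈ s.toList} hspan ?_
  intro f hf
  exact hs1 f (Finset.mem_toList.1 hf)

end Groth.Agent.Helper18Serre2
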