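import Mathlib
import Groth.Prelude
import Groth.Agent.Lib.Helper18OmLS6
import Groth.Agent.Lib.Helper3SmDim
import Groth.Agent.Lib.Helper20LocFree

set_option autoImplicit false
set_option linter.style.haveILetI false
universe u
open CategoryTheory CategoryTheory.Limits AlgebraicGeometry TopologicalSpace Opposite
open KaehlerDifferential

namespace Groth.Agent.Helper18SmOm

open Groth.Agent.Helper18OmLS

/-- a universal sheaf of differentials is free of rank `n` on a standard smooth chart of relative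
dimension `n`. -/
theorem nonempty_restrict_iso_freeMod_of_chart {X Y : Scheme.{u}} (f : X ⟶ Y)
    (Ω' : X.Modules) (d : OmegaSh.Der f Ω') (hd : OmegaSh.IsUniversal d) (n : ℕ)
    {U : Y.Opens} (hU : IsAffineOpen U) {V : X.Opens} (hV : IsAffineOpen V) (x : X) (hx : x ∈ V)
    (e : V ≤ f ⁻¹ᵁ U) (h : (f.appLE U V e).hom.IsStandardSmoothOfRelativeDimension n) :
    Nonempty (Ω'.restrict V.ι ≅ FlatMod.freeMod (↑V) n) := by
  letI alg : Algebra Γ(Y, U) Γ(X, V) := (f.appLE U V e).hom.toAlgebra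
  haveI hss : Algebra.IsStandardSmoothOfRelativeDimension n Γ(Y, U) Γ(X, V) := h
  haveI : Nonempty V := ⟨⟨x, hx⟩⟩
  haveI : Nontrivial Γ(X, V) := inferInstance
  haveI : Algebra.IsStandardSmooth Γ(Y, U) Γ(X, V) := hss.isStandardSmooth
  have hrk : Module.rank Γ(X, V) Ω[Γ(X, V)⁄Γ(Y, U)] = n :=
    Algebra.IsStandardSmoothOfRelativeDimension.rank_kaehlerDifferential n
  haveI : Module.Free Γ(X, V) Ω[Γ(X, V)⁄Γ(Y, U)] := inferInstance
  haveI : Module.Finite Γ(X, V) Ω[Γ(X, V)⁄Γ(Y, U)] := inferInstance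
  have hfr : Module.finrank Γ(X, V) Ω[Γ(X, V)⁄Γ(Y, U)] = n := by
    rw [Module.finrank, hrk]
    simp
  haveI : Ω'.IsQuasicoherent := isQuasicoherent_of_isUniversal f d hd
  let b₀ := Module.finBasisOfFinrankEq Γ(X, V) Ω[Γ(X, V)⁄Γ(Y, U)] hfr
  let E := sectionsEquiv f d hd hV hU e rfl
  exact ⟨Groth.Agent.Lib.Helper20.LocFree.restrictIsoFreeMod Ω' hV (b₀.map E.symm)⟩

theorem main_S5019 {X Y : Scheme.{u}} (f : X ⟶ Y) [Smooth f]
    (Ω' : X.Modules) (d : OmegaSh.Der f Ω') (hd : OmegaSh.IsUniversal d) (x : ↥X) :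
    ∃ (U : X.Opens) (n : ℕ), x ∈ U ∧ Nonempty (Ω'.restrict U.ι ≅ FlatMod.freeMod (↑U) n) ∧
      FlatMor.fibreDimAt f x = (n : WithBot ℕ∞) := by
  obtain ⟨U, hU, V, hV, hx, e, hf⟩ := Smooth.exists_isStandardSmooth f x
  obtain ⟨n, hn⟩ := Groth.Agent.Lib.Helper3.SmDim.exists_relDim_of_isStandardSmooth _ hf
  exact ⟨V, n, hx, nonempty_restrict_iso_freeMod_of_chart f Ω' d hd n hU hV x hx e hn,
    Groth.Agent.Lib.Helper3.SmDim.fibreDimAt_eq_of_chart f n x hU hV hx e hn⟩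

end Groth.Agent.Helper18SmOm
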