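import Mathlib

set_option autoImplicit false
set_option linter.style.haveILetI false
universe u

namespace Groth.Agent.Lib.Helper18SqZeroEtale
open TensorProduct

variable {R : Type*} [CommRing R]

/-- Variant of `LinearMap.ker_inf_smul_top_eq_smul_of_flat` where flatness is replaced by injectivity
of `I ⊗ N → N`. -/
lemma ker_inf_smul_top_eq_smul_of_inj {M N : Type*} [AddCommGroup M] [AddCommGroup N]
    [Module R M] [Module R N] (I : Ideal R) (f : M →ₗ[R] N) (surj : Function.Surjective f)
    (hinj : Function.Injective (I.subtype.rTensor N)) :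
    f.ker ⊓ (I • (⊤ : Submodule R M)) = I • f.ker := by
  refine le_antisymm (fun x hx ↦ ?_) (fun x hx ↦ ?_)
  · rcases (Submodule.ext_iff.mp (I.subtype_rTensor_range M) x).mpr hx.2 with ⟨y, hy⟩
    have inj : Function.Injective ((TensorProduct.lid R N).comp (I.subtype.rTensor N)) := by
      simpa using hinj
    have comm1 : ((TensorProduct.lid R N).comp (I.subtype.rTensor N)).comp (f.lTensor I) =
      f.comp ((TensorProduct.lid R M).comp (I.subtype.rTensor M)) := by
      ext
      simp
    have eq0 : f.lTensor I y = 0 := by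
      apply inj
      rw [map_zero, ← LinearMap.comp_apply, comm1, LinearMap.comp_apply, hy, f.mem_ker.mp hx.1]
    rcases ((lTensor_exact I (f.exact_subtype_ker_map) surj) y).mp eq0 with ⟨z, hz⟩
    have comm2 : ((TensorProduct.lid R M).comp (I.subtype.rTensor M)).comp
      (f.ker.subtype.lTensor I) = f.ker.subtype.comp
      ((TensorProduct.lid R f.ker).comp (I.subtype.rTensor f.ker)) := by
      ext
      simp
    apply (Submodule.mem_smul_top_iff I f.ker ⟨x, hx.1⟩).mp
    rw [← Ideal.subtype_rTensor_range]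
    use z
    apply f.ker.subtype_injective
    rw [← LinearMap.comp_apply, ← comm2, LinearMap.comp_apply, hz, hy, Submodule.subtype_apply]
  · induction hx using Submodule.smul_induction_on' with
    | smul r hr m hm =>
      simpa [LinearMap.mem_ker.mp hm] using Submodule.smul_mem_smul hr Submodule.mem_top
    | add y ymem z zmem hy hz => exact add_mem hy hz

/-- `IP ⊓ J = IP * J` when `I ⊗ S → S` is injective. -/
lemma inf_eq_mul_of_inj {P S : Type*} [CommRing P] [CommRing S] [Algebra R P] [Algebra R S]
    [Algebra P S] [IsScalarTower R P S] (I : Ideal R)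
    (hinj : Function.Injective (I.subtype.rTensor S))
    (surjP : Function.Surjective (algebraMap P S)) :
    I.map (algebraMap R P) ⊓ RingHom.ker (algebraMap P S) =
      I.map (algebraMap R P) * RingHom.ker (algebraMap P S) := by
  refine le_antisymm (fun x hx ↦ ?_) Ideal.mul_le_inf
  have : x ∈ I • ((RingHom.ker (algebraMap P S)).restrictScalars R) := by
    change x ∈ I • (IsScalarTower.toAlgHom R P S).toLinearMap.ker
    rw [← ker_inf_smul_top_eq_smul_of_inj I _ surjP hinj]
    simpa using! ⟨hx.2, hx.1⟩
  simpa [← Ideal.smul_restrictScalars I (RingHom.ker (algebraMap P S)),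
    Submodule.restrictScalars_mem] using! this


open IsLocalRing

variable {S : Type*} [CommRing S] {R' S' : Type*} [CommRing R'] [CommRing S']

section

variable [Algebra R S] [Algebra R R'] [Algebra R' S'] [Algebra S S']
    [Algebra R S'] [IsScalarTower R S S'] [IsScalarTower R R' S']

lemma comap_ker_eq_sup_of_ker_eq_map (surjRS : Function.Surjective (algebraMap R S))
    (eqmap : RingHom.ker (algebraMap S S') = (RingHom.ker (algebraMap R R')).map (algebraMap R S)) :
    (RingHom.ker (algebraMap R' S')).comap (algebraMap R R') =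
      RingHom.ker (algebraMap R R') ⊔ RingHom.ker (algebraMap R S) := by
  rw [RingHom.comap_ker, ← IsScalarTower.algebraMap_eq, IsScalarTower.algebraMap_eq _ S,
      ← RingHom.comap_ker]
  simp [eqmap, Ideal.comap_map_of_surjective' _ surjRS]

lemma mul_le_ker_of_range_le_mul_of_sq_zero {J I : Ideal R} (sq : I ^ 2 = ⊥)
    (f : J.Cotangent →ₗ[R] J.Cotangent)
    (le : f.range ≤ (Submodule.comap J.subtype (I * J)).map J.toCotangent) :
    (Submodule.comap J.subtype (I * J)).map J.toCotangent ≤ f.ker := by
  rw [pow_two] at sq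
  have {x : R} (h : x ∈ I * J) : f (J.toCotangent ⟨x, Ideal.mul_le_right h⟩) = 0 := by
    induction h using Submodule.mul_induction_on' with
    | mem_mul_mem y hy z hz =>
      rcases Submodule.mem_map.mp (le (f.mem_range_self (J.toCotangent ⟨z, hz⟩))) with ⟨w, hw, eqz⟩
      have mem_bot := Ideal.mul_mem_mul hy (Submodule.mem_comap.mp hw)
      simp only [← mul_assoc, sq, Submodule.bot_mul, Submodule.mem_bot] at mem_bot
      have eq0 : y • w = 0 := SetCoe.ext mem_bot
      have : ⟨y * z, Ideal.mul_le_right (Submodule.mul_mem_mul hy hz)⟩ = y • (⟨z, hz⟩ : J) := rfl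
      rw [this, map_smul, map_smul, ← eqz, ← map_smul, eq0, map_zero]
    | add y ymem z zmem hy hz =>
      have : (⟨y + z, Ideal.mul_le_right (add_mem ymem zmem)⟩ : J) =
        ⟨y, Ideal.mul_le_right ymem⟩ + ⟨z, Ideal.mul_le_right zmem⟩ := rfl
      rw [this, map_add, map_add, hy, hz, add_zero]
  intro x hx
  rcases Submodule.mem_map.mp hx with ⟨x', hx', eq⟩
  simpa [← eq] using this hx'

set_option backward.isDefEq.respectTransparency.types false in
/-- For flat ring homomorphism `f : R →+* S`, `I` an ideal of `R` which is square zero,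
if `R ⧸ I →+* S ⧸ IS` is formally smooth, so is `f`. -/
lemma formallySmooth_of_inj
    (hinj : Function.Injective ((RingHom.ker (algebraMap R R')).subtype.rTensor S))
    (surj : Function.Surjective (algebraMap R R'))
    (surjS : Function.Surjective (algebraMap S S'))
    (eqmap : RingHom.ker (algebraMap S S') = (RingHom.ker (algebraMap R R')).map (algebraMap R S))
    (sq0 : (RingHom.ker (algebraMap R R')) ^ 2 = ⊥) (smoothq : Algebra.FormallySmooth R' S') :
    Algebra.FormallySmooth R S := by
  let P := (Algebra.Generators.self R S).toExtension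
  let : Algebra.FormallySmooth R P.Ring := Algebra.instFormallySmoothMvPolynomial S
  let IP := (RingHom.ker (algebraMap R R')).map (algebraMap R P.Ring)
  let Gen : Algebra.Generators R' S' S := {
    val := algebraMap S S'
    σ' := fun s' ↦ MvPolynomial.X (Classical.choose (surjS s'))
    aeval_val_σ' s' := by simp [Classical.choose_spec (surjS s')] }
  let P' := Gen.toExtension
  let : Algebra.FormallySmooth R' P'.Ring := Algebra.instFormallySmoothMvPolynomial S
  let : Algebra P.Ring P'.Ring := MvPolynomial.algebraMvPolynomial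
  let : IsScalarTower R P.Ring P'.Ring :=
    IsScalarTower.of_algebraMap_eq (fun x ↦ (MvPolynomial.map_C _ x).symm)
  algebraize [(algebraMap S S').comp (algebraMap P.Ring S)]
  have : IsScalarTower P.Ring P'.Ring S' := by
    refine IsScalarTower.of_algebraMap_eq (fun x ↦ ?_)
    change (algebraMap S S') (MvPolynomial.aeval _root_.id x) =
      MvPolynomial.aeval Gen.val (MvPolynomial.map (algebraMap R R') x)
    rw [← MvPolynomial.aeval_algebraMap_apply]
    simp [MvPolynomial.aeval_map_algebraMap, Gen]
  let J := RingHom.ker (algebraMap P.Ring S)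
  let J' := RingHom.ker (algebraMap P'.Ring S')
  let I := RingHom.ker (algebraMap R R')
  let IS := I.map (algebraMap R S)
  have kerS : RingHom.ker (algebraMap S S') = IS := eqmap
  let IP := I.map (algebraMap R P.Ring)
  have kerP : RingHom.ker (algebraMap P.Ring P'.Ring) = IP := MvPolynomial.ker_map _
  have surjPP' : Function.Surjective (algebraMap P.Ring P'.Ring) :=
    MvPolynomial.map_surjective _ surj
  have ISeq : IS = IP.map (algebraMap P.Ring S) := by
    simp [IP, IS, Ideal.map_map, ← IsScalarTower.algebraMap_eq]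
  classical
  have surjP : Function.Surjective (algebraMap P.Ring S) := fun x ↦ ⟨P.σ x, P.algebraMap_σ x⟩
  apply (Algebra.FormallySmooth.iff_split_injection surjP).mpr
  have surjP' : Function.Surjective (algebraMap P'.Ring S') := fun x ↦ ⟨P'.σ x, P'.algebraMap_σ x⟩
  rcases (Algebra.FormallySmooth.iff_split_injection surjP').mp smoothq with ⟨σ, hσ⟩
  have infeq : IP ⊓ J = IP * J := inf_eq_mul_of_inj I hinj surjP
  have h : J'.comap (algebraMap P.Ring P'.Ring) = RingHom.ker (algebraMap P.Ring P'.Ring) ⊔ J :=
    comap_ker_eq_sup_of_ker_eq_map surjP (by simp [kerP, ← ISeq, eqmap, IS, I])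
  have Jle : J ≤ J'.comap (algebraMap P.Ring P'.Ring) := le_of_le_of_eq le_sup_right h.symm
  let mapcot := Ideal.mapCotangent J J' (Algebra.ofId P.Ring P'.Ring) Jle
  have cotsurj : Function.Surjective mapcot := Ideal.mapCotangent_surjective_of_comap_eq surjPP' h
  have cotker : LinearMap.ker mapcot = (Submodule.comap J.subtype (_ ⊓ J)).map J.toCotangent :=
    Ideal.mapCotangent_ker_of_surjective surjPP' h
  rw [kerP, infeq] at cotker
  let cottoTen := KaehlerDifferential.kerCotangentToTensor R P.Ring S
  let cottoTen' := KaehlerDifferential.kerCotangentToTensor R' P'.Ring S'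
  let mapTen : TensorProduct P.Ring S Ω[P.Ring⁄R] →ₗ[P.Ring]
    TensorProduct P'.Ring S' Ω[P'.Ring⁄R'] :=
    _root_.TensorProduct.lift ((((TensorProduct.mk P'.Ring S' Ω[P'.Ring⁄R']).restrictScalars₁₂
      P.Ring P.Ring).compl₂ (KaehlerDifferential.map R R' P.Ring P'.Ring)).comp
      (IsScalarTower.toAlgHom P.Ring S S').toLinearMap)
  have comm : (cottoTen'.restrictScalars P.Ring).comp mapcot = mapTen.comp cottoTen := by
    ext x
    rcases Ideal.toCotangent_surjective _ x with ⟨y, rfl⟩
    have : (KaehlerDifferential.kerToTensor R' P'.Ring S')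
      ⟨(algebraMap P.Ring P'.Ring) y.1, Jle y.2⟩ =
      mapTen ((KaehlerDifferential.kerToTensor R P.Ring S) y) := by
      simp [KaehlerDifferential.kerToTensor, mapTen]
    simpa [mapcot] using! this
  let ediff : Ω[P.Ring⁄R] ≃ₗ[P.Ring] S →₀ P.Ring := KaehlerDifferential.mvPolynomialEquiv R S
  let eTen : TensorProduct P.Ring S Ω[P.Ring⁄R] ≃ₗ[P.Ring] (S →₀ S) :=
    ((ediff.lTensor S).trans (TensorProduct.finsuppRight P.Ring P.Ring _ _ S)).trans
    (Finsupp.mapRange.linearEquiv (_root_.TensorProduct.rid P.Ring _))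
  let toJ'cot : (S →₀ S) →ₗ[P.Ring] J'.Cotangent :=
    ((σ.restrictScalars P.Ring).comp mapTen).comp eTen.symm.toLinearMap
  let eS : (P.Ring ⧸ J) ≃ₗ[P.Ring] S :=
    (Submodule.quotEquivOfEq _ _ rfl).trans
    ((Algebra.linearMap P.Ring S).quotKerEquivOfSurjective surjP)
  let toJcot : (S →₀ S) →ₗ[P.Ring] J.Cotangent :=
    Finsupp.lsum P.Ring (fun s ↦ ((LinearMap.toSpanSingleton (P.Ring ⧸ J) J.Cotangent
      (Classical.choose (cotsurj (toJ'cot (Finsupp.single s 1))))).restrictScalars P.Ring).comp
        eS.symm.toLinearMap)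
  have toJcot_spec : mapcot.comp toJcot = toJ'cot := by
    ext i s
    simp only [LinearMap.comp_assoc, toJcot, Finsupp.lsum_comp_lsingle]
    rcases Ideal.Quotient.mk_surjective (eS.symm s) with ⟨p, hp⟩
    have (x : J.Cotangent) : mapcot (eS.symm s • x) = p • mapcot x := hp ▸ map_smul mapcot p x
    have psmul : p • 1 = s := by simpa [Algebra.smul_def, eS] using! eS.eq_symm_apply.mp hp
    simp [this, Classical.choose_spec (cotsurj (toJ'cot (Finsupp.single i 1))), ← map_smul, psmul]
  let σ' := toJcot.comp eTen.toLinearMap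
  have σ'_spec' : mapcot.comp σ' = (σ.restrictScalars P.Ring).comp mapTen := by
    simp only [← LinearMap.comp_assoc, toJcot_spec, σ']
    apply LinearMap.ext (fun x ↦ ?_)
    exact ((σ.restrictScalars P.Ring).comp mapTen).congr_arg (eTen.symm_apply_apply x)
  have σ'_spec : mapcot.comp (σ'.comp cottoTen) = mapcot := by
    rw [← LinearMap.comp_assoc, σ'_spec', LinearMap.comp_assoc, ← comm, ← LinearMap.comp_assoc,
      ← LinearMap.restrictScalars_comp, hσ]
    rfl
  let Δ : J.Cotangent →ₗ[P.Ring] J.Cotangent := LinearMap.id - (σ'.comp cottoTen)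
  have rΔle : Δ.range ≤ (Submodule.comap J.subtype (IP * J)).map J.toCotangent := by
    rintro x ⟨y, hy⟩
    simp only [← cotker, ← hy, LinearMap.mem_ker, Δ]
    rw [LinearMap.sub_apply, map_sub, LinearMap.id_apply, ← LinearMap.comp_apply, σ'_spec, sub_self]
  have leΔk := mul_le_ker_of_range_le_mul_of_sq_zero (by simp [IP, ← Ideal.map_pow, I, sq0]) Δ rΔle
  let δ := (Submodule.liftQ _ Δ (le_of_eq_of_le cotker leΔk)).comp
    (mapcot.quotKerEquivOfSurjective cotsurj).symm.toLinearMap
  have δ_spec : δ.comp mapcot = Δ := by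
    ext
    simp [δ]
  have : σ'.comp cottoTen + δ.comp ((σ.restrictScalars P.Ring).comp (mapTen.comp cottoTen)) =
    LinearMap.id := by
    rw [← comm, ← LinearMap.comp_assoc mapcot, ← LinearMap.restrictScalars_comp, hσ]
    exact add_eq_of_eq_sub' δ_spec
  exact ⟨σ' + (δ.comp (σ.restrictScalars P.Ring)).comp mapTen, this⟩

end


/-- Nakayama for a square-zero ideal. -/
lemma subsingleton_of_tensor_quotient {B' B M : Type*} [CommRing B'] [CommRing B] [Algebra B' B]
    [AddCommGroup M] [Module B' M] (hB : Function.Surjective (algebraMap B' B))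
    (hJ : RingHom.ker (algebraMap B' B) ^ 2 = ⊥) (h : Subsingleton (B ⊗[B'] M)) :
    Subsingleton M := by
  set J := RingHom.ker (algebraMap B' B) with hJdef
  have hsurj : Function.Surjective (Algebra.ofId B' B) := hB
  let e : (B' ⧸ RingHom.ker (Algebra.ofId B' B)) ≃ₐ[B'] B :=
    Ideal.quotientKerAlgEquivOfSurjective hsurj
  have hkk : RingHom.ker (Algebra.ofId B' B) = J := rfl
  let e2 : (B' ⧸ J) ⊗[B'] M ≃ₗ[B'] B ⊗[B'] M :=
    TensorProduct.congr e.toLinearEquiv (LinearEquiv.refl B' M)
  have h2 : Subsingleton (M ⧸ J • (⊤ : Submodule B' M)) :=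
    ((TensorProduct.quotTensorEquivQuotSMul M J).symm.trans e2).injective.subsingleton
  have htop : J • (⊤ : Submodule B' M) = ⊤ := Submodule.Quotient.subsingleton_iff.mp h2
  have hbot : (⊤ : Submodule B' M) = ⊥ := by
    calc (⊤ : Submodule B' M) = J • (J • (⊤ : Submodule B' M)) := by rw [htop, htop]
      _ = (J * J) • (⊤ : Submodule B' M) := (Submodule.mul_smul _ _ _).symm
      _ = ⊥ := by rw [← pow_two, hJ, Submodule.bot_smul]
  exact (Submodule.subsingleton_iff B').mp (subsingleton_of_bot_eq_top hbot.symm)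
  

theorem formallyUnramified_of_sqZero (A' A B' B : Type*) [CommRing A'] [CommRing A] [Algebra A' A]
    [CommRing B'] [Algebra A' B'] [CommRing B] [Algebra B' B] [Algebra A B] [Algebra A' B]
    [IsScalarTower A' A B] [IsScalarTower A' B' B]
    (hA : Function.Surjective (algebraMap A' A))
    (hB : Function.Surjective (algebraMap B' B)) (hJ : RingHom.ker (algebraMap B' B) ^ 2 = ⊥)
    [Algebra.FormallyUnramified A B]
    (hJI : RingHom.ker (algebraMap B' B) = (RingHom.ker (algebraMap A' A)).map (algebraMap A' B')) :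
    Algebra.FormallyUnramified A' B' := by
  haveI : Algebra.FormallyUnramified A' A :=
    Algebra.FormallyUnramified.of_surjective (Algebra.ofId A' A) hA
  haveI : Algebra.FormallyUnramified A' B := Algebra.FormallyUnramified.comp A' A B
  haveI : Subsingleton Ω[B⁄A'] := inferInstance
  have hex := KaehlerDifferential.exact_kerCotangentToTensor_mapBaseChange A' B' B hB
  have hzero : ∀ x, KaehlerDifferential.kerCotangentToTensor A' B' B x = 0 := by
    intro x
    obtain ⟨⟨j, hj⟩, rfl⟩ := Ideal.toCotangent_surjective _ x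
    rw [KaehlerDifferential.kerCotangentToTensor_toCotangent]
    have hj' : j ∈ (RingHom.ker (algebraMap A' A)).map (algebraMap A' B') := hJI ▸ hj
    change (1 : B) ⊗ₜ[B'] KaehlerDifferential.D A' B' j = 0
    clear hj
    refine Submodule.span_induction (p := fun j _ => (1 : B) ⊗ₜ[B'] KaehlerDifferential.D A' B' j = 0)
      ?_ ?_ ?_ ?_ hj'
    · rintro _ ⟨i, -, rfl⟩
      rw [Derivation.map_algebraMap, TensorProduct.tmul_zero]
    · rw [map_zero, TensorProduct.tmul_zero]
    · intro x y _ _ hx hy
      rw [map_add, TensorProduct.tmul_add, hx, hy, add_zero]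
    · intro b x hx ih
      have hxJ : algebraMap B' B x = 0 := by
        have : x ∈ RingHom.ker (algebraMap B' B) := hJI ▸ hx
        exact this
      rw [smul_eq_mul, Derivation.leibniz, TensorProduct.tmul_add, TensorProduct.tmul_smul,
        TensorProduct.tmul_smul, ih, smul_zero, zero_add, TensorProduct.smul_tmul',
        Algebra.smul_def, hxJ, zero_mul, TensorProduct.zero_tmul]
  have hsub : Subsingleton (B ⊗[B'] Ω[B'⁄A']) := by
    refine ⟨fun y z => ?_⟩
    have hy : ∀ w : B ⊗[B'] Ω[B'⁄A'], w = 0 := by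
      intro w
      have h0 : KaehlerDifferential.mapBaseChange A' B' B w = 0 := Subsingleton.elim _ _
      obtain ⟨x, rfl⟩ := (hex w).mp h0
      exact hzero x
    rw [hy y, hy z]
  exact ⟨subsingleton_of_tensor_quotient hB hJ hsub⟩


section FT

variable (A' A B' B : Type*) [CommRing A'] [CommRing A] [Algebra A' A]
    [CommRing B'] [Algebra A' B'] [CommRing B] [Algebra B' B] [Algebra A B] [Algebra A' B]
    [IsScalarTower A' A B] [IsScalarTower A' B' B]

theorem finiteType_of_sqZero
    (hA : Function.Surjective (algebraMap A' A)) (hI : RingHom.ker (algebraMap A' A) ^ 2 = ⊥)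
    (hB : Function.Surjective (algebraMap B' B))
    [Algebra.FiniteType A B]
    (hJI : RingHom.ker (algebraMap B' B) = (RingHom.ker (algebraMap A' A)).map (algebraMap A' B')) :
    Algebra.FiniteType A' B' := by
  have hft : Algebra.FiniteType A' B :=
    Algebra.FiniteType.trans (Algebra.FiniteType.of_surjective (Algebra.ofId A' A) hA) inferInstance
  obtain ⟨s, hs⟩ := hft.out
  classical
  set I := RingHom.ker (algebraMap A' A) with hIdef
  let t : Finset B' := s.image (Function.surjInv hB)
  let C : Subalgebra A' B' := Algebra.adjoin A' (t : Set B')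
  have hCmap : C.map (IsScalarTower.toAlgHom A' B' B) = ⊤ := by
    rw [AlgHom.map_adjoin, ← hs]
    congr 1
    ext b
    simp only [Finset.coe_image, Set.mem_image, Finset.mem_coe, t, IsScalarTower.coe_toAlgHom']
    constructor
    · rintro ⟨_, ⟨b₀, hb₀, rfl⟩, rfl⟩
      rwa [Function.surjInv_eq hB]
    · intro hb
      exact ⟨_, ⟨b, hb, rfl⟩, Function.surjInv_eq hB b⟩
  have h1 : (⊤ : Submodule A' B') ≤ Subalgebra.toSubmodule C ⊔ I • (⊤ : Submodule A' B') := by
    intro b' _
    have hb : algebraMap B' B b' ∈ C.map (IsScalarTower.toAlgHom A' B' B) := by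
      rw [hCmap]; trivial
    obtain ⟨c, hc, hcb⟩ := hb
    have hJ' : b' - c ∈ RingHom.ker (algebraMap B' B) := by
      rw [RingHom.mem_ker, map_sub, sub_eq_zero]
      exact hcb.symm
    rw [hJI] at hJ'
    have hJ'' : b' - c ∈ I • (⊤ : Submodule A' B') := by
      rw [Ideal.smul_top_eq_map]
      exact hJ'
    have : b' = c + (b' - c) := by ring
    rw [this]
    exact Submodule.add_mem_sup hc hJ''
  have h2 : I • (⊤ : Submodule A' B') ≤ Subalgebra.toSubmodule C := by
    calc I • (⊤ : Submodule A' B') ≤ I • (Subalgebra.toSubmodule C ⊔ I • (⊤ : Submodule A' B')) :=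
          Submodule.smul_mono le_rfl h1
      _ = I • Subalgebra.toSubmodule C ⊔ I • (I • (⊤ : Submodule A' B')) := Submodule.smul_sup _ _ _
      _ ≤ Subalgebra.toSubmodule C ⊔ ⊥ := by
          refine sup_le_sup Submodule.smul_le_right ?_
          rw [← Submodule.mul_smul, ← pow_two, hI, Submodule.bot_smul]
      _ = Subalgebra.toSubmodule C := sup_bot_eq _
  have h3 : Subalgebra.toSubmodule C = ⊤ := top_le_iff.mp (h1.trans (sup_le le_rfl h2))
  exact ⟨⟨t, Algebra.toSubmodule_eq_top.mp h3⟩⟩

theorem finitePresentation_of_sqZero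
    (hA : Function.Surjective (algebraMap A' A)) (hI : RingHom.ker (algebraMap A' A) ^ 2 = ⊥)
    (hB : Function.Surjective (algebraMap B' B))
    [Algebra.FinitePresentation A B]
    (hJI : RingHom.ker (algebraMap B' B) = (RingHom.ker (algebraMap A' A)).map (algebraMap A' B'))
    (hinj : Function.Injective ((RingHom.ker (algebraMap A' A)).subtype.rTensor B')) :
    Algebra.FinitePresentation A' B' := by
  have hft : Algebra.FiniteType A' B' := finiteType_of_sqZero A' A B' B hA hI hB hJI
  obtain ⟨n, f', hf'⟩ := Algebra.FiniteType.iff_quotient_mvPolynomial''.mp hft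
  set I := RingHom.ker (algebraMap A' A) with hIdef
  let f : MvPolynomial (Fin n) A →ₐ[A] B :=
    MvPolynomial.aeval (fun i => algebraMap B' B (f' (MvPolynomial.X i)))
  let φ : MvPolynomial (Fin n) A' →+* MvPolynomial (Fin n) A := MvPolynomial.map (algebraMap A' A)
  have hφ : Function.Surjective φ := MvPolynomial.map_surjective _ hA
  have hcomp : f.toRingHom.comp φ = (algebraMap B' B).comp f'.toRingHom := by
    apply MvPolynomial.ringHom_ext
    · intro a
      simp only [RingHom.comp_apply, φ, MvPolynomial.map_C, f, AlgHom.toRingHom_eq_coe,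
        RingHom.coe_coe, MvPolynomial.aeval_C]
      rw [← MvPolynomial.algebraMap_eq, f'.commutes, ← IsScalarTower.algebraMap_apply,
        ← IsScalarTower.algebraMap_apply]
    · intro i
      simp [φ, f]
  have hcomp' : ∀ p, f (φ p) = algebraMap B' B (f' p) := fun p => congrArg (fun g => g p) hcomp
  have hf : Function.Surjective f := by
    intro b
    obtain ⟨b', rfl⟩ := hB b
    obtain ⟨p, rfl⟩ := hf' b'
    exact ⟨φ p, hcomp' p⟩
  have hK : (RingHom.ker f.toRingHom).FG := Algebra.FinitePresentation.ker_fG_of_surjective f hf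
  -- algebra structure P' → B'
  letI : Algebra (MvPolynomial (Fin n) A') B' := f'.toRingHom.toAlgebra
  haveI : IsScalarTower A' (MvPolynomial (Fin n) A') B' :=
    .of_algebraMap_eq (fun x => (f'.commutes x).symm)
  have hinf := inf_eq_mul_of_inj (P := MvPolynomial (Fin n) A') (S := B') I hinj hf'
  have hkerφ : RingHom.ker φ = I.map (algebraMap A' (MvPolynomial (Fin n) A')) :=
    MvPolynomial.ker_map _
  set IP := I.map (algebraMap A' (MvPolynomial (Fin n) A')) with hIP
  set K' : Ideal (MvPolynomial (Fin n) A') := RingHom.ker (algebraMap (MvPolynomial (Fin n) A') B')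
    with hK'def
  have hK'mem : ∀ x, x ∈ K' ↔ f' x = 0 := fun x => Iff.rfl
  have hIP2 : IP * IP = ⊥ := by
    rw [← pow_two, hIP, ← Ideal.map_pow, hI, Ideal.map_bot]
  -- K' maps onto K
  have hlift : ∀ k ∈ RingHom.ker f.toRingHom, ∃ k' ∈ K', φ k' = k := by
    intro k hk
    obtain ⟨p, rfl⟩ := hφ k
    have h0 : algebraMap B' B (f' p) = 0 := by rw [← hcomp']; exact hk
    have h1 : f' p ∈ (RingHom.ker (algebraMap A' A)).map (algebraMap A' B') := by
      rw [← hJI]; exact h0
    have h2 : f' p ∈ IP.map f'.toRingHom := by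
      rw [hIP, Ideal.map_map]
      have : f'.toRingHom.comp (algebraMap A' (MvPolynomial (Fin n) A')) = algebraMap A' B' := by
        ext a; exact f'.commutes a
      rw [this]; exact h1
    obtain ⟨p₀, hp₀, hp₀e⟩ := (Ideal.mem_map_iff_of_surjective f'.toRingHom hf').mp h2
    refine ⟨p - p₀, ?_, ?_⟩
    · rw [hK'mem, map_sub, sub_eq_zero]; exact hp₀e.symm
    · have : φ p₀ = 0 := by
        have : p₀ ∈ RingHom.ker φ := hkerφ ▸ hp₀
        exact this
      rw [map_sub, this, sub_zero]
  classical
  obtain ⟨G, hG⟩ := hK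
  let ℓ : MvPolynomial (Fin n) A → MvPolynomial (Fin n) A' := fun g =>
    if h : g ∈ RingHom.ker f.toRingHom then Classical.choose (hlift g h) else 0
  have hℓ : ∀ g ∈ RingHom.ker f.toRingHom, ℓ g ∈ K' ∧ φ (ℓ g) = g := by
    intro g hg
    simp only [ℓ, dif_pos hg]
    exact Classical.choose_spec (hlift g hg)
  let K₀ : Ideal (MvPolynomial (Fin n) A') := Ideal.span ((G.image ℓ : Finset _) : Set _)
  have hGK : ∀ g ∈ G, g ∈ RingHom.ker f.toRingHom := fun g hg => by
    rw [← hG]; exact Ideal.subset_span hg
  have hK₀le : K₀ ≤ K' := by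
    rw [Ideal.span_le]
    intro x hx
    simp only [Finset.coe_image, Set.mem_image, Finset.mem_coe] at hx
    obtain ⟨g, hg, rfl⟩ := hx
    exact (hℓ g (hGK g hg)).1
  have hKle : RingHom.ker f.toRingHom ≤ K₀.map φ := by
    rw [← hG, Ideal.span_le]
    intro g hg
    have : φ (ℓ g) ∈ K₀.map φ := Ideal.mem_map_of_mem φ
      (Ideal.subset_span (by simp only [Finset.coe_image, Set.mem_image, Finset.mem_coe]
                             exact ⟨g, hg, rfl⟩))
    rwa [(hℓ g (hGK g hg)).2] at this
  have h1 : K' ≤ K₀ ⊔ IP * K' := by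
    intro x hx
    have hφx : φ x ∈ RingHom.ker f.toRingHom := by
      change f (φ x) = 0
      rw [hcomp', (hK'mem x).mp hx, map_zero]
    obtain ⟨y, hy, hye⟩ := (Ideal.mem_map_iff_of_surjective φ hφ).mp (hKle hφx)
    have hxy : x - y ∈ IP ⊓ K' := by
      refine ⟨?_, sub_mem hx (hK₀le hy)⟩
      rw [← hkerφ]
      change φ (x - y) = 0
      rw [map_sub, hye, sub_self]
    rw [hinf] at hxy
    have : x = y + (x - y) := by ring
    rw [this]
    exact Submodule.add_mem_sup hy hxy
  have h2 : IP * K' ≤ K₀ := by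
    calc IP * K' ≤ IP * (K₀ ⊔ IP * K') := Ideal.mul_mono_right h1
      _ = IP * K₀ ⊔ IP * (IP * K') := Ideal.mul_sup _ _ _
      _ ≤ K₀ ⊔ ⊥ := by
          refine sup_le_sup Ideal.mul_le_right ?_
          rw [← mul_assoc, hIP2, Ideal.bot_mul]
      _ = K₀ := sup_bot_eq _
  have h3 : K' = K₀ := le_antisymm (h1.trans (sup_le le_rfl h2)) hK₀le
  refine ⟨n, f', hf', ?_⟩
  change K'.FG
  rw [h3]
  exact ⟨G.image ℓ, rfl⟩

end FT


theorem main (A' : Type u) [CommRing A'] (A : Type u) [CommRing A]
    [Algebra A' A] (hA : Function.Surjective (algebraMap A' A))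
    (hI : RingHom.ker (algebraMap A' A) ^ 2 = ⊥)
    (B' : Type u) [CommRing B'] [Algebra A' B'] (B : Type u) [CommRing B] [Algebra B' B]
    [Algebra A B] [Algebra A' B] [IsScalarTower A' A B] [IsScalarTower A' B' B]
    (hB : Function.Surjective (algebraMap B' B)) (hJ : RingHom.ker (algebraMap B' B) ^ 2 = ⊥)
    [Algebra.Etale A B]
    (hJI : RingHom.ker (algebraMap B' B) = (RingHom.ker (algebraMap A' A)).map (algebraMap A' B'))
    (hinj : Function.Injective ((RingHom.ker (algebraMap A' A)).subtype.baseChange B')) :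
    Algebra.Etale A' B' := by
  have hinj' : Function.Injective ((RingHom.ker (algebraMap A' A)).subtype.rTensor B') := by
    rw [← LinearMap.lTensor_inj_iff_rTensor_inj, ← LinearMap.baseChange_eq_ltensor]
    exact hinj
  haveI : Algebra.FormallySmooth A' B' :=
    formallySmooth_of_inj hinj' hA hB hJI hI inferInstance
  haveI : Algebra.FormallyUnramified A' B' :=
    formallyUnramified_of_sqZero A' A B' B hA hB hJ hJI
  haveI : Algebra.FormallyEtale A' B' :=
    Algebra.FormallyEtale.of_formallyUnramified_and_formallySmooth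
  haveI : Algebra.FinitePresentation A' B' :=
    finitePresentation_of_sqZero A' A B' B hA hI hB hJI hinj'
  exact {}

end Groth.Agent.Lib.Helper18SqZeroEtale
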