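import Mathlib
import Groth.Agent.Lib.Helper18FracLoc

set_option autoImplicit false

universe v u v' u'
open CategoryTheory CategoryTheory.Limits

namespace Groth.Agent.Lib.Helper18SubcatLoc

variable {D : Type u} [Category.{v} D] (P : ObjectProperty D) (S : MorphismProperty D)

theorem rcf [S.HasRightCalculusOfFractions]
    (hP : ∀ X : D, ∃ (X' : D) (s : X' ⟶ X), P X' ∧ S s) :
    (S.inverseImage P.ι).HasRightCalculusOfFractions where
  exists_rightFraction X Y φ := by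
    obtain ⟨ψ, hψ⟩ := MorphismProperty.HasRightCalculusOfFractions.exists_rightFraction
      (W := S) (X := X.obj) (Y := Y.obj) ⟨φ.f.hom, φ.s.hom, φ.hs⟩
    dsimp at hψ
    obtain ⟨Z', r, hZ', hr⟩ := hP ψ.X'
    let Z : P.FullSubcategory := ⟨Z', hZ'⟩
    refine ⟨⟨(ObjectProperty.homMk (r ≫ ψ.s) : Z ⟶ X), S.comp_mem _ _ hr ψ.hs,
      (ObjectProperty.homMk (r ≫ ψ.f) : Z ⟶ Y)⟩, ?_⟩
    ext
    simp [hψ]
  ext X Y Y' f₁ f₂ s hs h := by
    obtain ⟨X', t, ht, hh⟩ := MorphismProperty.HasRightCalculusOfFractions.ext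
      (W := S) f₁.hom f₂.hom s.hom hs (by
        rw [← ObjectProperty.FullSubcategory.comp_hom, h, ObjectProperty.FullSubcategory.comp_hom])
    obtain ⟨Z', r, hZ', hr⟩ := hP X'
    let Z : P.FullSubcategory := ⟨Z', hZ'⟩
    refine ⟨Z, (ObjectProperty.homMk (r ≫ t) : Z ⟶ X), S.comp_mem _ _ hr ht, ?_⟩
    ext
    simp [hh]


variable {P S}
variable {E : Type u'} [Category.{v'} E] (Q : D ⥤ E) [Q.IsLocalization S]

lemma invF : (S.inverseImage P.ι).IsInvertedBy (P.ι ⋙ Q) := by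
  intro X Y f hf
  exact Localization.inverts Q S _ hf

/-- the underlying fraction in `D` -/
def under {X Y : P.FullSubcategory} (z : (S.inverseImage P.ι).RightFraction X Y) :
    S.RightFraction X.obj Y.obj :=
  ⟨z.s.hom, z.hs, z.f.hom⟩

lemma under_map {X Y : P.FullSubcategory} (z : (S.inverseImage P.ι).RightFraction X Y) :
    (under z).map Q (Localization.inverts Q S) = z.map (P.ι ⋙ Q) (invF Q) := by
  have : IsIso (Q.map (under z).s) := Localization.inverts Q S _ (under z).hs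
  rw [← cancel_epi (Q.map (under z).s), MorphismProperty.RightFraction.map_s_comp_map]
  exact (MorphismProperty.RightFraction.map_s_comp_map z (P.ι ⋙ Q) (invF Q)).symm

theorem main [S.HasRightCalculusOfFractions]
    (hP : ∀ X : D, ∃ (X' : D) (s : X' ⟶ X), P X' ∧ S s) :
    (P.ι ⋙ Q).IsLocalization (S.inverseImage P.ι) := by
  have := rcf P S hP
  have : Q.EssSurj := Localization.essSurj Q S
  refine Groth.Agent.Lib.Helper18FracLoc.isLocalization_of_fractions _ _ (invF Q) ?_ ?_ ?_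
  · refine ⟨fun Y => ?_⟩
    obtain ⟨X', s, hX', hs⟩ := hP (Q.objPreimage Y)
    have : IsIso (Q.map s) := Localization.inverts Q S _ hs
    exact ⟨⟨X', hX'⟩, ⟨asIso (Q.map s) ≪≫ Q.objObjPreimageIso Y⟩⟩
  · intro X Y g
    obtain ⟨φ, hφ⟩ := Localization.exists_rightFraction Q S (X := X.obj) (Y := Y.obj) g
    obtain ⟨Z', r, hZ', hr⟩ := hP φ.X'
    let Z : P.FullSubcategory := ⟨Z', hZ'⟩
    let z : (S.inverseImage P.ι).RightFraction X Y :=
      ⟨(ObjectProperty.homMk (r ≫ φ.s) : Z ⟶ X), S.comp_mem _ _ hr φ.hs,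
        (ObjectProperty.homMk (r ≫ φ.f) : Z ⟶ Y)⟩
    refine ⟨z, ?_⟩
    have : IsIso ((P.ι ⋙ Q).map z.s) := invF Q _ z.hs
    rw [← cancel_epi ((P.ι ⋙ Q).map z.s), MorphismProperty.RightFraction.map_s_comp_map]
    have : IsIso (Q.map φ.s) := Localization.inverts Q S _ φ.hs
    have h1 : Q.map φ.s ≫ g = Q.map φ.f := by rw [hφ]; simp
    show Q.map (r ≫ φ.s) ≫ g = Q.map (r ≫ φ.f)
    rw [Q.map_comp, Category.assoc, h1, Q.map_comp]
  · intro X Y z₁ z₂ h
    rw [← under_map, ← under_map, MorphismProperty.RightFraction.map_eq_iff] at h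
    obtain ⟨Z, t₁, t₂, hs, hf, ht⟩ := h
    dsimp [under] at t₁ t₂ hs hf ht
    obtain ⟨Z', r, hZ', hr⟩ := hP Z
    let Z'' : P.FullSubcategory := ⟨Z', hZ'⟩
    refine ⟨Z'', (ObjectProperty.homMk (r ≫ t₁) : Z'' ⟶ z₁.X'),
      (ObjectProperty.homMk (r ≫ t₂) : Z'' ⟶ z₂.X'), ?_, ?_, ?_⟩
    · ext; simp [hs]
    · ext; simp [hf]
    · show S (P.ι.map _)
      simp only [ObjectProperty.ι_map, ObjectProperty.FullSubcategory.comp_hom,
        ObjectProperty.homMk_hom, Category.assoc]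
      exact S.comp_mem _ _ hr ht

end Groth.Agent.Lib.Helper18SubcatLoc
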