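import Mathlib
import Groth.Agent.Lib.Helper10SymKaehler

/-!
# Kähler differentials of an algebra presented as a symmetric algebra (helper18)
-/

set_option autoImplicit false
set_option linter.style.haveILetI false
universe u
open TensorProduct KaehlerDifferential

namespace Groth.Agent.Helper18SymOm

variable {R M B : Type u} [CommRing R] [AddCommGroup M] [Module R M] [CommRing B] [Algebra R B]

/-- a derivation `B → B ⊗ M` with `ρ (ι m) ↦ 1 ⊗ m`, when `ρ : Sym M ≃ B`. -/
theorem exists_derivation_of_sym (ρ : SymmetricAlgebra R M →+* B) (hρ : Function.Bijective ρ)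
    (hρR : ∀ r, ρ (algebraMap R _ r) = algebraMap R B r) :
    ∃ δ : Derivation R B (B ⊗[R] M), ∀ m, δ (ρ (SymmetricAlgebra.ι R M m)) = 1 ⊗ₜ m := by
  let e : SymmetricAlgebra R M ≃+* B := RingEquiv.ofBijective ρ hρ
  letI : Module (SymmetricAlgebra R M) (B ⊗[R] M) := Module.compHom _ ρ
  have hsm : ∀ (s : SymmetricAlgebra R M) (n : B ⊗[R] M), s • n = ρ s • n := fun _ _ => rfl
  haveI : IsScalarTower R (SymmetricAlgebra R M) (B ⊗[R] M) := ⟨fun r s n => by
    rw [hsm, hsm, Algebra.smul_def, map_mul, hρR, mul_smul, algebraMap_smul]⟩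
  obtain ⟨δ, hδ⟩ := Groth.Agent.Lib.Helper10.exists_derivation_symmetricAlgebra R M (B ⊗[R] M)
    (TensorProduct.mk R B M 1)
  have he : ∀ b : B, ρ (e.symm b) = b := fun b => e.apply_symm_apply b
  refine ⟨{ toFun := fun b => δ (e.symm b)
            map_add' := fun a b => by rw [map_add, map_add]
            map_smul' := fun r b => by
              have h1 : e.symm (r • b) = r • e.symm b := by
                apply e.injective
                rw [e.apply_symm_apply]
                change r • b = ρ (r • e.symm b)
                rw [Algebra.smul_def, Algebra.smul_def, map_mul, hρR, he]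
              rw [h1, Derivation.map_smul]
              rfl
            map_one_eq_zero' := by
              change δ (e.symm 1) = 0
              rw [map_one, Derivation.map_one_eq_zero]
            leibniz' := fun a b => by
              change δ (e.symm (a * b)) = a • δ (e.symm b) + b • δ (e.symm a)
              rw [map_mul, Derivation.leibniz, hsm, hsm, he, he] }, fun m => ?_⟩
  change δ (e.symm (ρ (SymmetricAlgebra.ι R M m))) = _
  have h2 : e.symm (ρ (SymmetricAlgebra.ι R M m)) = SymmetricAlgebra.ι R M m := e.symm_apply_apply _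
  rw [h2, hδ]
  rfl

theorem kaehler_bijective_of_sym (ρ : SymmetricAlgebra R M →+* B) (hρ : Function.Bijective ρ)
    (hρR : ∀ r, ρ (algebraMap R _ r) = algebraMap R B r)
    (κ : B ⊗[R] M →ₗ[B] Ω[B⁄R])
    (hκ : ∀ b m, κ (b ⊗ₜ m) = b • D R B (ρ (SymmetricAlgebra.ι R M m))) :
    Function.Bijective κ := by
  obtain ⟨δ, hδ⟩ := exists_derivation_of_sym ρ hρ hρR
  let ψ : Ω[B⁄R] →ₗ[B] B ⊗[R] M := δ.liftKaehlerDifferential
  have h1 : ψ ∘ₗ κ = LinearMap.id := by
    apply TensorProduct.AlgebraTensorModule.ext
    intro b m
    simp only [LinearMap.coe_comp, Function.comp_apply, LinearMap.id_coe, id_eq]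
    rw [hκ, map_smul]
    change b • δ.liftKaehlerDifferential (D R B _) = _
    rw [Derivation.liftKaehlerDifferential_comp_D, hδ, TensorProduct.smul_tmul', smul_eq_mul, mul_one]
  constructor
  · intro x y hxy
    have := congrArg ψ hxy
    rwa [← LinearMap.comp_apply, ← LinearMap.comp_apply, h1] at this
  · have hD : ∀ s : SymmetricAlgebra R M, D R B (ρ s) ∈ LinearMap.range κ := by
      intro s
      induction s using SymmetricAlgebra.induction with
      | algebraMap r =>
        rw [hρR, Derivation.map_algebraMap]
        exact zero_mem _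
      | ι m => exact ⟨1 ⊗ₜ m, by rw [hκ, one_smul]⟩
      | mul a b ha hb =>
        rw [map_mul, Derivation.leibniz]
        exact add_mem (Submodule.smul_mem _ _ hb) (Submodule.smul_mem _ _ ha)
      | add a b ha hb =>
        rw [map_add, map_add]
        exact add_mem ha hb
    have htop : LinearMap.range κ = ⊤ := by
      rw [eq_top_iff, ← KaehlerDifferential.span_range_derivation, Submodule.span_le]
      rintro _ ⟨b, rfl⟩
      obtain ⟨s, rfl⟩ := hρ.2 b
      exact hD s
    exact LinearMap.range_eq_top.1 htop

end Groth.Agent.Helper18SymOm
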