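import Mathlib
import Groth.Prelude.Def_Omega4
import Groth.Prelude.Def_RelSpec
import Groth.Agent.Lib.Helper18SymOm1
import Groth.Agent.Lib.Helper13SymAlgLocal
import Groth.Agent.Lib.Helper18OmLS14
import Groth.Agent.S8255

/-!
# Differentials of a vector bundle `V(E)` (helper18)
-/

set_option autoImplicit false
set_option linter.style.haveILetI false
universe u
open CategoryTheory CategoryTheory.Limits AlgebraicGeometry TopologicalSpace Opposite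
open KaehlerDifferential TensorProduct
open Groth.Agent.Helper13PullbackUnit Groth.Agent.Helper13SymAlg Groth.Agent.Helper13SymLoc
open Groth.Agent.Helper18OmLS

namespace Groth.Agent.Helper18SymOm

variable {S : Scheme.{u}} (E : S.Modules) [E.IsQuasicoherent] (A : RelSpec.QCAlg S)
  (j : E ⟶ A.toModule) (hA : RelSpec.IsSymAlg E A j)
  (Ω' : A.spec.Modules) (d : OmegaSh.Der A.π Ω') (hd : OmegaSh.IsUniversal d)
  (φ : (Scheme.Modules.pullback A.π).obj E ⟶ Ω')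
  (hφ : ∀ (U : S.Opens) (t : Γ(E, U)) (t' : Γ(A.spec, A.π ⁻¹ᵁ U)),
    A.gammaMap.app (op U) t' = j.app U t →
      φ.app (A.π ⁻¹ᵁ U) (OmegaSh.pullSect A.π E U t) = d.app (A.π ⁻¹ᵁ U) t')

include hA hd hφ in
theorem chart_S5970 {W : S.Opens} (hW : IsAffineOpen W) :
    Function.Bijective (φ.app (A.π ⁻¹ᵁ W)) := by
  have hU : IsAffineOpen (A.π ⁻¹ᵁ W) := hW.preimage A.π
  letI : Algebra Γ(S, W) Γ(A.spec, A.π ⁻¹ᵁ W) := (A.π.appLE W (A.π ⁻¹ᵁ W) le_rfl).hom.toAlgebra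
  have halg : algebraMap Γ(S, W) Γ(A.spec, A.π ⁻¹ᵁ W) = (A.π.appLE W (A.π ⁻¹ᵁ W) le_rfl).hom := rfl
  obtain ⟨e, he⟩ := exists_pullback_equiv A.π E (le_refl (A.π ⁻¹ᵁ W)) hW hU halg
  let e₂ := sectionsEquiv A.π d hd hU hW (le_refl (A.π ⁻¹ᵁ W)) halg
  -- the ring isomorphism
  haveI hiso : IsIso A.gammaMap := Groth.Agent.S8255.result A
  haveI : IsIso (A.gammaMap.app (op W)) := inferInstance
  let g : Γ(A.spec, A.π ⁻¹ᵁ W) →+* A.presheaf.obj (op W) := (A.gammaMap.app (op W)).hom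
  have hg : Function.Bijective g := ConcreteCategory.bijective_of_isIso (A.gammaMap.app (op W))
  let ge : Γ(A.spec, A.π ⁻¹ᵁ W) ≃+* A.presheaf.obj (op W) := RingEquiv.ofBijective g hg
  let ρ : SymmetricAlgebra Γ(S, W) Γ(E, W) →+* Γ(A.spec, A.π ⁻¹ᵁ W) :=
    (ge.symm : A.presheaf.obj (op W) →+* Γ(A.spec, A.π ⁻¹ᵁ W)).comp (σ E A j W)
  have hρ : Function.Bijective ρ := ge.symm.bijective.comp (bijective_σ E W hW hA)
  have hgρ : ∀ s, g (ρ s) = σ E A j W s := fun s => ge.apply_symm_apply _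
  have hρR : ∀ r, ρ (algebraMap Γ(S, W) _ r) = algebraMap Γ(S, W) Γ(A.spec, A.π ⁻¹ᵁ W) r := by
    intro r
    apply hg.1
    rw [hgρ]
    unfold σ
    rw [symLift_algebraMap, halg]
    have h1 := congrArg (fun t => (t.app (op W)).hom r) A.π_c_gammaMap
    refine h1.symm.trans ?_
    change g (A.π.app W r) = g (A.π.appLE W (A.π ⁻¹ᵁ W) le_rfl r)
    rw [Scheme.Hom.appLE]
    congr 1
    change _ = A.spec.presheaf.map (homOfLE le_rfl).op (A.π.app W r)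
    have : (homOfLE (le_refl (A.π ⁻¹ᵁ W))).op = 𝟙 (op (A.π ⁻¹ᵁ W)) := rfl
    rw [this, A.spec.presheaf.map_id]
    rfl
  have hρι : ∀ m : Γ(E, W), A.gammaMap.app (op W) (ρ (SymmetricAlgebra.ι Γ(S, W) Γ(E, W) m)) =
      j.app W m := by
    intro m
    change g (ρ _) = _
    rw [hgρ]
    unfold σ
    rw [symLift_ι]
    rfl
  let φU : Γ((Scheme.Modules.pullback A.π).obj E, A.π ⁻¹ᵁ W) →ₗ[Γ(A.spec, A.π ⁻¹ᵁ W)]
      Γ(Ω', A.π ⁻¹ᵁ W) :=
    { toFun := fun x => φ.app (A.π ⁻¹ᵁ W) x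
      map_add' := fun x y => map_add _ x y
      map_smul' := fun r x => Scheme.Modules.Hom.app_smul φ r x }
  let κ : Γ(A.spec, A.π ⁻¹ᵁ W) ⊗[Γ(S, W)] Γ(E, W) →ₗ[Γ(A.spec, A.π ⁻¹ᵁ W)]
      Ω[Γ(A.spec, A.π ⁻¹ᵁ W)⁄Γ(S, W)] :=
    e₂.toLinearMap ∘ₗ φU ∘ₗ e.toLinearMap
  have hκ : ∀ b m, κ (b ⊗ₜ m) =
      b • D Γ(S, W) Γ(A.spec, A.π ⁻¹ᵁ W) (ρ (SymmetricAlgebra.ι Γ(S, W) Γ(E, W) m)) := by
    intro b m
    change e₂ (φ.app (A.π ⁻¹ᵁ W) (e (b ⊗ₜ m))) = _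
    rw [he, Scheme.Modules.Hom.app_smul, map_smul]
    congr 1
    have h1 : unitSec A.π E (le_refl (A.π ⁻¹ᵁ W)) m = OmegaSh.pullSect A.π E W m := by
      rw [unitSec_apply]
      exact presheaf_map_homOfLE_refl _ _ _
    rw [h1, hφ W m _ (hρι m)]
    exact sectionsEquiv_d A.π d hd hU hW (le_refl (A.π ⁻¹ᵁ W)) halg _
  have hκb := kaehler_bijective_of_sym ρ hρ hρR κ hκ
  have h3 : Function.Bijective (φU : _ → _) := by
    have h4 : (φU : _ → _) = e₂.symm ∘ κ ∘ e.symm := by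
      funext x
      change φU x = e₂.symm (e₂ (φU (e (e.symm x))))
      rw [e.apply_symm_apply, e₂.symm_apply_apply]
    rw [h4]
    exact e₂.symm.bijective.comp (hκb.comp e.symm.bijective)
  exact h3

end Groth.Agent.Helper18SymOm

namespace Groth.Agent.Helper18SymOm

variable {S : Scheme.{u}} (E : S.Modules) [E.IsQuasicoherent] (A : RelSpec.QCAlg S)
  (j : E ⟶ A.toModule) (hA : RelSpec.IsSymAlg E A j)
  (Ω' : A.spec.Modules) (d : OmegaSh.Der A.π Ω') (hd : OmegaSh.IsUniversal d)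
  (φ : (Scheme.Modules.pullback A.π).obj E ⟶ Ω')
  (hφ : ∀ (U : S.Opens) (t : Γ(E, U)) (t' : Γ(A.spec, A.π ⁻¹ᵁ U)),
    A.gammaMap.app (op U) t' = j.app U t →
      φ.app (A.π ⁻¹ᵁ U) (OmegaSh.pullSect A.π E U t) = d.app (A.π ⁻¹ᵁ U) t')

include hA hd hφ in
theorem main_S5970 : IsIso φ := by
  haveI : Ω'.IsQuasicoherent := isQuasicoherent_of_isUniversal A.π d hd
  haveI : ((Scheme.Modules.pullback A.π).obj E).IsQuasicoherent :=
    Groth.Agent.Lib.Helper2.PullbackSec.isQuasicoherent_pullback A.π E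
  refine isIso_of_bijective_app_cover φ (fun W : S.affineOpens => A.π ⁻¹ᵁ W.1) ?_
    (fun W => W.2.preimage A.π) (fun W => chart_S5970 E A j hA Ω' d hd φ hφ W.2)
  rw [IsOpenCover, eq_top_iff]
  intro x _
  obtain ⟨W, hW, hxW, -⟩ := exists_isAffineOpen_mem_and_subset (X := S) (x := A.π.base x) (U := ⊤) trivial
  exact Opens.mem_iSup.2 ⟨⟨W, hW⟩, hxW⟩

end Groth.Agent.Helper18SymOm
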