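import Mathlib

set_option autoImplicit false
set_option linter.style.haveILetI false

namespace Groth.Agent.Helper18Torsor

open CategoryTheory MonoidalCategory

universe v v' u u'

section Act

variable {D : Type u'} [Category.{v'} D] [MonoidalCategory D]

/-- the action of `End 𝟙` on an object. -/
def act (c : 𝟙_ D ⟶ 𝟙_ D) (Z : D) : Z ⟶ Z := (λ_ Z).inv ≫ (c ▷ Z) ≫ (λ_ Z).hom

theorem act_naturality (c : 𝟙_ D ⟶ 𝟙_ D) {Z W : D} (u : Z ⟶ W) : act c Z ≫ u = u ≫ act c W := by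
  unfold act
  simp only [Category.assoc]
  rw [← leftUnitor_naturality, ← whisker_exchange_assoc, leftUnitor_inv_naturality_assoc]

theorem act_id (Z : D) : act (𝟙 (𝟙_ D)) Z = 𝟙 Z := by
  unfold act; simp

theorem act_comp (c c' : 𝟙_ D ⟶ 𝟙_ D) (Z : D) : act (c ≫ c') Z = act c Z ≫ act c' Z := by
  unfold act; simp

theorem act_tensor_left (c : 𝟙_ D ⟶ 𝟙_ D) (Z W : D) : act c (Z ⊗ W) = act c Z ▷ W := by
  unfold act
  monoidal

theorem act_tensor_right [BraidedCategory D] (c : 𝟙_ D ⟶ 𝟙_ D) (Z W : D) :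
    act c (Z ⊗ W) = Z ◁ act c W := by
  have h1 : act c (Z ⊗ W) ≫ (β_ Z W).hom = (Z ◁ act c W) ≫ (β_ Z W).hom := by
    rw [act_naturality, act_tensor_left, BraidedCategory.braiding_naturality_right]
  exact (cancel_mono (β_ Z W).hom).1 h1

theorem act_tensorHom [BraidedCategory D] (a b : 𝟙_ D ⟶ 𝟙_ D) (Z W : D) :
    act a Z ⊗ₘ act b W = act (b ≫ a) (Z ⊗ W) := by
  rw [tensorHom_def', ← act_tensor_left, ← act_tensor_right, act_comp]

theorem act_injective (Z : D) [(tensorRight Z).Faithful] (c c' : 𝟙_ D ⟶ 𝟙_ D)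
    (h : act c Z = act c' Z) : c = c' := by
  unfold act at h
  have h1 : c ▷ Z = c' ▷ Z := by
    have := (cancel_epi (λ_ Z).inv).1 h
    exact (cancel_mono (λ_ Z).hom).1 this
  exact (tensorRight Z).map_injective h1

theorem act_surjective (Z : D) [(tensorRight Z).Full] (e : Z ⟶ Z) :
    ∃ c : 𝟙_ D ⟶ 𝟙_ D, act c Z = e := by
  obtain ⟨c, hc⟩ := (tensorRight Z).map_surjective ((λ_ Z).hom ≫ e ≫ (λ_ Z).inv)
  refine ⟨c, ?_⟩
  unfold act
  have : c ▷ Z = (λ_ Z).hom ≫ e ≫ (λ_ Z).inv := hc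
  rw [this]; simp

end Act

section Main

variable {C : Type u} [Category.{v} C] [MonoidalCategory C] [IsGroupoid C]
  {D : Type u'} [Category.{v'} D] [MonoidalCategory D] [BraidedCategory D] [IsGroupoid D]
  (hD : ∀ X : D, (tensorLeft X).IsEquivalence ∧ (tensorRight X).IsEquivalence)
  (F G : C ⥤ D) [F.LaxMonoidal] [G.LaxMonoidal] (θ₀ : F ⟶ G) [NatTrans.IsMonoidal θ₀]

open Functor.LaxMonoidal

include hD in
theorem part2 (χ : Skeleton C →* End (𝟙_ D)) :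
    ∃ θ : F ⟶ G, NatTrans.IsMonoidal θ ∧ ∀ X : C,
        θ.app X = θ₀.app X ≫ (λ_ (G.obj X)).inv ≫
          ((χ (toSkeleton X) : 𝟙_ D ⟶ 𝟙_ D) ▷ G.obj X) ≫ (λ_ (G.obj X)).hom := by
  let θ : F ⟶ G :=
    { app := fun X => θ₀.app X ≫ act (χ (toSkeleton X) : 𝟙_ D ⟶ 𝟙_ D) (G.obj X)
      naturality := by
        intro X Y u
        have hXY : toSkeleton X = toSkeleton Y := Quotient.sound ⟨asIso u⟩
        rw [hXY, Category.assoc, act_naturality, θ₀.naturality_assoc] }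
  refine ⟨θ, ⟨?_, ?_⟩, fun X => rfl⟩
  · change ε F ≫ θ₀.app (𝟙_ C) ≫ act (χ (toSkeleton (𝟙_ C)) : 𝟙_ D ⟶ 𝟙_ D) (G.obj (𝟙_ C)) = ε G
    have h1 : (χ (toSkeleton (𝟙_ C)) : 𝟙_ D ⟶ 𝟙_ D) = 𝟙 (𝟙_ D) := by
      rw [← Skeleton.one_eq, map_one]; rfl
    rw [h1, act_id, Category.comp_id, NatTrans.IsMonoidal.unit]
  · intro X Y
    change μ F X Y ≫ θ₀.app (X ⊗ Y) ≫ act (χ (toSkeleton (X ⊗ Y)) : 𝟙_ D ⟶ 𝟙_ D) (G.obj (X ⊗ Y)) =
      ((θ₀.app X ≫ act (χ (toSkeleton X) : 𝟙_ D ⟶ 𝟙_ D) (G.obj X)) ⊗ₘ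
        (θ₀.app Y ≫ act (χ (toSkeleton Y) : 𝟙_ D ⟶ 𝟙_ D) (G.obj Y))) ≫ μ G X Y
    have h1 : (χ (toSkeleton (X ⊗ Y)) : 𝟙_ D ⟶ 𝟙_ D) =
        (χ (toSkeleton Y) : 𝟙_ D ⟶ 𝟙_ D) ≫ (χ (toSkeleton X) : 𝟙_ D ⟶ 𝟙_ D) := by
      rw [Skeleton.toSkeleton_tensorObj, map_mul]; rfl
    rw [h1, ← tensorHom_comp_tensorHom, Category.assoc, act_tensorHom, act_naturality,
      ← NatTrans.IsMonoidal.tensor_assoc]

include hD in
theorem part1 (θ : F ⟶ G) (hθ : NatTrans.IsMonoidal θ) :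
    ∃! χ : Skeleton C →* End (𝟙_ D), ∀ X : C,
        θ.app X = θ₀.app X ≫ (λ_ (G.obj X)).inv ≫
          ((χ (toSkeleton X) : 𝟙_ D ⟶ 𝟙_ D) ▷ G.obj X) ≫ (λ_ (G.obj X)).hom := by
  haveI : ∀ Z : D, (tensorRight Z).IsEquivalence := fun Z => (hD Z).2
  have hex : ∀ X : C, ∃ c : 𝟙_ D ⟶ 𝟙_ D, act c (G.obj X) = inv (θ₀.app X) ≫ θ.app X :=
    fun X => act_surjective _ _
  choose cfun hcfun using hex
  have hθX : ∀ X, θ.app X = θ₀.app X ≫ act (cfun X) (G.obj X) := fun X => by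
    rw [hcfun, IsIso.hom_inv_id_assoc]
  have hiso : ∀ (X Y : C) (u : X ⟶ Y), cfun X = cfun Y := by
    intro X Y u
    apply act_injective (G.obj Y)
    have h1 : F.map u ≫ θ.app Y = θ.app X ≫ G.map u := θ.naturality u
    rw [hθX, hθX, Category.assoc, act_naturality, ← θ₀.naturality_assoc] at h1
    exact ((cancel_epi _).1 ((cancel_epi _).1 h1)).symm
  let χfun : Skeleton C → End (𝟙_ D) := Quotient.lift cfun (fun X Y ⟨e⟩ => hiso X Y e.hom)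
  have hχfun : ∀ X, χfun (toSkeleton X) = cfun X := fun X => rfl
  have hone : cfun (𝟙_ C) = 𝟙 (𝟙_ D) := by
    apply act_injective (G.obj (𝟙_ C))
    rw [act_id]
    have h1 : ε F ≫ θ.app (𝟙_ C) = ε G := hθ.unit
    have h2 : ε F ≫ θ₀.app (𝟙_ C) = ε G := NatTrans.IsMonoidal.unit
    rw [← h2, hθX] at h1
    have h3 := (cancel_epi _).1 h1
    have h4 : θ₀.app (𝟙_ C) ≫ act (cfun (𝟙_ C)) (G.obj (𝟙_ C)) =
        θ₀.app (𝟙_ C) ≫ 𝟙 _ := by rw [h3, Category.comp_id]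
    exact (cancel_epi _).1 h4
  have hmul : ∀ X Y : C, cfun (X ⊗ Y) = cfun Y ≫ cfun X := by
    intro X Y
    apply act_injective (G.obj (X ⊗ Y))
    have h1 : μ F X Y ≫ θ.app (X ⊗ Y) = (θ.app X ⊗ₘ θ.app Y) ≫ μ G X Y := hθ.tensor X Y
    rw [hθX X, hθX Y, hθX (X ⊗ Y), ← tensorHom_comp_tensorHom, Category.assoc, act_tensorHom,
      act_naturality, ← NatTrans.IsMonoidal.tensor_assoc] at h1
    exact (cancel_epi _).1 ((cancel_epi _).1 h1)
  let χ : Skeleton C →* End (𝟙_ D) :=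
    { toFun := χfun
      map_one' := by
        change χfun (toSkeleton (𝟙_ C)) = 1
        rw [hχfun, hone]; rfl
      map_mul' := by
        intro s t
        refine Quotient.inductionOn₂ s t (fun X Y => ?_)
        change χfun (toSkeleton X * toSkeleton Y) = χfun (toSkeleton X) * χfun (toSkeleton Y)
        rw [← Skeleton.toSkeleton_tensorObj, hχfun, hχfun, hχfun, hmul, End.mul_def] }
  refine ⟨χ, fun X => hθX X, fun χ' hχ' => ?_⟩
  apply MonoidHom.ext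
  intro s
  refine Quotient.inductionOn s (fun X => ?_)
  change χ' (toSkeleton X) = cfun X
  apply act_injective (G.obj X)
  have h1 := hχ' X
  rw [hθX] at h1
  exact ((cancel_epi _).1 h1).symm

theorem main
    {C : Type u} [Category.{v} C] [MonoidalCategory C] [IsGroupoid C]
    {D : Type u'} [Category.{v'} D] [MonoidalCategory D] [BraidedCategory D] [IsGroupoid D]
    (hD : ∀ X : D, (tensorLeft X).IsEquivalence ∧ (tensorRight X).IsEquivalence)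
    (F G : C ⥤ D) [F.LaxMonoidal] [G.LaxMonoidal] (θ₀ : F ⟶ G) [NatTrans.IsMonoidal θ₀] :
    (∀ θ : F ⟶ G, NatTrans.IsMonoidal θ →
      ∃! χ : Skeleton C →* End (𝟙_ D), ∀ X : C,
        θ.app X = θ₀.app X ≫ (λ_ (G.obj X)).inv ≫
          ((χ (toSkeleton X) : 𝟙_ D ⟶ 𝟙_ D) ▷ G.obj X) ≫ (λ_ (G.obj X)).hom) ∧
    (∀ χ : Skeleton C →* End (𝟙_ D), ∃ θ : F ⟶ G, NatTrans.IsMonoidal θ ∧ ∀ X : C,
        θ.app X = θ₀.app X ≫ (λ_ (G.obj X)).inv ≫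
          ((χ (toSkeleton X) : 𝟙_ D ⟶ 𝟙_ D) ▷ G.obj X) ≫ (λ_ (G.obj X)).hom) :=
  ⟨fun θ hθ => part1 hD F G θ₀ θ hθ, fun χ => part2 hD F G θ₀ χ⟩

end Main

end Groth.Agent.Helper18Torsor
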