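import Mathlib
set_option autoImplicit false
set_option linter.style.haveILetI false
set_option linter.unusedSectionVars false
universe u
open Polynomial TensorProduct

namespace Groth.Agent.Helper18Tr

section derivation
variable {p : ℕ} [Fact p.Prime] {Λ R : Type u} [CommRing Λ] [CommRing R] [Algebra Λ R]
  [CharP R p] (a : R)

variable {N : Type*} [AddCommGroup N] [Module R N] [Module Λ N]
  [Module (AdjoinRoot (X ^ p - C a : R[X])) N]
  [IsScalarTower R (AdjoinRoot (X ^ p - C a : R[X])) N]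
  [IsScalarTower Λ (AdjoinRoot (X ^ p - C a : R[X])) N]

theorem root_pow : (AdjoinRoot.root (X ^ p - C a : R[X])) ^ p = algebraMap R _ a := by
  have h := AdjoinRoot.mk_self (f := (X ^ p - C a : R[X]))
  rw [map_sub, map_pow, AdjoinRoot.mk_X, AdjoinRoot.mk_C] at h
  rw [AdjoinRoot.algebraMap_eq]
  exact sub_eq_zero.mp h

theorem natCast_p_eq_zero : ((p : ℕ) : AdjoinRoot (X ^ p - C a : R[X])) = 0 := by
  have : ((p : ℕ) : R) = 0 := CharP.cast_eq_zero R p
  rw [← map_natCast (algebraMap R (AdjoinRoot (X ^ p - C a : R[X]))), this, map_zero]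

theorem exists_derivation (δ : Derivation Λ R N) (n₀ : N) (hδ : δ a = 0) :
    ∃ D : Derivation Λ (AdjoinRoot (X ^ p - C a : R[X])) N,
      (∀ r, D (algebraMap R _ r) = δ r) ∧ D (AdjoinRoot.root _) = n₀ := by
  letI : Module (AdjoinRoot (X ^ p - C a : R[X]))ᵐᵒᵖ N :=
    Module.compHom _ ((RingHom.id (AdjoinRoot (X ^ p - C a : R[X]))).fromOpposite mul_comm)
  haveI : IsCentralScalar (AdjoinRoot (X ^ p - C a : R[X])) N := ⟨fun r m => rfl⟩
  let φ₀ : R →+* TrivSqZeroExt (AdjoinRoot (X ^ p - C a : R[X])) N :=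
    { toFun := fun r => TrivSqZeroExt.inl (algebraMap R _ r) + TrivSqZeroExt.inr (δ r)
      map_one' := by
        ext <;> simp
      map_mul' := by
        intro r s
        ext
        · simp
        · simp only [map_mul, Derivation.leibniz, TrivSqZeroExt.snd_add, TrivSqZeroExt.snd_inl,
            TrivSqZeroExt.snd_inr, zero_add, TrivSqZeroExt.snd_mul, TrivSqZeroExt.fst_add,
            TrivSqZeroExt.fst_inl, TrivSqZeroExt.fst_inr, add_zero, op_smul_eq_smul,
            algebraMap_smul]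
      map_zero' := by ext <;> simp
      map_add' := by
        intro r s
        ext
        · simp
        · simp }
  have hφ₀ : ∀ r, φ₀ r = TrivSqZeroExt.inl (algebraMap R _ r) + TrivSqZeroExt.inr (δ r) :=
    fun r => rfl
  let X₀ : TrivSqZeroExt (AdjoinRoot (X ^ p - C a : R[X])) N :=
    TrivSqZeroExt.inl (AdjoinRoot.root _) + TrivSqZeroExt.inr n₀
  have h0 : (X ^ p - C a : R[X]).eval₂ φ₀ X₀ = 0 := by
    rw [eval₂_sub, eval₂_pow, eval₂_X, eval₂_C, hφ₀]
    ext
    · simp [X₀, root_pow]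
    · simp only [TrivSqZeroExt.snd_sub, TrivSqZeroExt.snd_pow, TrivSqZeroExt.snd_add,
        TrivSqZeroExt.snd_inl, TrivSqZeroExt.snd_inr, zero_add, hδ, sub_zero,
        TrivSqZeroExt.snd_zero]
      rw [← Nat.cast_smul_eq_nsmul (AdjoinRoot (X ^ p - C a : R[X])), natCast_p_eq_zero,
        zero_smul]
  let φ := AdjoinRoot.lift φ₀ X₀ h0
  have hfst : ∀ s, (φ s).fst = s := by
    intro s
    induction s using AdjoinRoot.induction_on with
    | ih f =>
      rw [AdjoinRoot.lift_mk]
      induction f using Polynomial.induction_on' with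
      | add f g hf hg => rw [eval₂_add, TrivSqZeroExt.fst_add, hf, hg, map_add]
      | monomial n r =>
        rw [eval₂_monomial, hφ₀]
        simp [X₀, ← C_mul_X_pow_eq_monomial, AdjoinRoot.algebraMap_eq]
  have hmul : ∀ s t, (φ (s * t)).snd = s • (φ t).snd + t • (φ s).snd := by
    intro s t
    rw [map_mul, TrivSqZeroExt.snd_mul, hfst, hfst, op_smul_eq_smul]
  have hΛ : ∀ c : Λ, (φ (algebraMap Λ _ c)).snd = 0 := by
    intro c
    rw [IsScalarTower.algebraMap_apply Λ R, AdjoinRoot.algebraMap_eq, AdjoinRoot.lift_of, hφ₀]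
    simp
  let D₀ : AdjoinRoot (X ^ p - C a : R[X]) →ₗ[Λ] N :=
    { toFun := fun s => (φ s).snd
      map_add' := fun s t => by rw [map_add, TrivSqZeroExt.snd_add]
      map_smul' := fun c s => by
        rw [Algebra.smul_def, hmul, hΛ, smul_zero, add_zero, RingHom.id_apply, algebraMap_smul] }
  refine ⟨Derivation.mk' D₀ fun s t => hmul s t, ?_, ?_⟩
  · intro r
    change (φ (algebraMap R _ r)).snd = _
    rw [AdjoinRoot.algebraMap_eq, AdjoinRoot.lift_of, hφ₀]
    simp
  · change (φ (AdjoinRoot.root _)).snd = _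
    rw [AdjoinRoot.lift_root]
    simp [X₀]

end derivation

section sq
variable {R S V C : Type*} [CommRing R] [CommRing S] [Algebra R S] [AddCommGroup V] [Module R V]
  [Ring C] [Algebra R C]

theorem polar_of_sq_zero (k : V →ₗ[R] C) (hk : ∀ v, k v * k v = 0) (v v' : V) :
    k v * k v' + k v' * k v = 0 := by
  have h := hk (v + v')
  rw [map_add, mul_add, add_mul, add_mul, hk, hk, zero_add, add_zero] at h
  rw [add_comm]; exact h

theorem baseChange_anticomm (k : V →ₗ[R] C) (hk : ∀ v, k v * k v = 0) (w w' : S ⊗[R] V) :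
    k.baseChange S w * k.baseChange S w' + k.baseChange S w' * k.baseChange S w = 0 := by
  induction w using TensorProduct.induction_on with
  | zero => simp
  | add x y hx hy =>
    rw [map_add, add_mul, mul_add, add_add_add_comm, hx, hy, add_zero]
  | tmul s v =>
    induction w' using TensorProduct.induction_on with
    | zero => simp
    | add x y hx hy =>
      rw [map_add, add_mul, mul_add, add_add_add_comm, hx, hy, add_zero]
    | tmul s' v' =>
      rw [LinearMap.baseChange_tmul, LinearMap.baseChange_tmul,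
        Algebra.TensorProduct.tmul_mul_tmul, Algebra.TensorProduct.tmul_mul_tmul,
        mul_comm s' s, ← tmul_add, polar_of_sq_zero k hk, tmul_zero]

theorem baseChange_sq_zero (k : V →ₗ[R] C) (hk : ∀ v, k v * k v = 0) (w : S ⊗[R] V) :
    k.baseChange S w * k.baseChange S w = 0 := by
  induction w using TensorProduct.induction_on with
  | zero => simp
  | add x y hx hy =>
    rw [map_add, add_mul, mul_add, mul_add, hx, hy, zero_add, add_zero,
      baseChange_anticomm k hk]
  | tmul s v =>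
    rw [LinearMap.baseChange_tmul, Algebra.TensorProduct.tmul_mul_tmul, hk, tmul_zero]

end sq

section rep
variable (R : Type*) {M : Type*} [CommRing R] [AddCommGroup M] [Module R M] (m₀ : M)

open ExteriorAlgebra in
/-- the right ideal `ι m₀ * E` of the exterior algebra, as a submodule. -/
def KK : Submodule R (ExteriorAlgebra R M) :=
  LinearMap.range (LinearMap.mulLeft R (ExteriorAlgebra.ι R m₀))

theorem mul_mem_KK (m : M) (y : ExteriorAlgebra R M) (hy : y ∈ KK R m₀) :
    ExteriorAlgebra.ι R m * y ∈ KK R m₀ := by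
  obtain ⟨x, rfl⟩ := hy
  refine ⟨-(ExteriorAlgebra.ι R m * x), ?_⟩
  have h := ExteriorAlgebra.ι_add_mul_swap (R := R) m m₀
  simp only [LinearMap.mulLeft_apply]
  rw [mul_neg, ← mul_assoc, ← mul_assoc, ← neg_mul, eq_neg_of_add_eq_zero_left h]

theorem ι_mem_KK : ExteriorAlgebra.ι R m₀ ∈ KK R m₀ := ⟨1, by simp⟩

/-- left multiplication by `ι m` on `KK`. -/
def jK : M →ₗ[R] Module.End R (KK R m₀) where
  toFun m := (LinearMap.mulLeft R (ExteriorAlgebra.ι R m)).restrict (mul_mem_KK R m₀ m)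
  map_add' m m' := by
    ext y
    simp [add_mul]
  map_smul' c m := by
    ext y
    simp

@[simp] theorem jK_apply_coe (m : M) (y : KK R m₀) :
    ((jK R m₀ m y : KK R m₀) : ExteriorAlgebra R M) = ExteriorAlgebra.ι R m * y := rfl

theorem jK_jK (m : M) (y : KK R m₀) : jK R m₀ m (jK R m₀ m y) = 0 := by
  ext
  simp [← mul_assoc]

theorem jK_self (y : KK R m₀) : jK R m₀ m₀ y = 0 := by
  ext
  obtain ⟨y, x, rfl⟩ := y
  simp [← mul_assoc]

/-- The representation on `KK × KK`. -/
def kk : M × R →ₗ[R] Module.End R (KK R m₀ × KK R m₀) where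
  toFun v := ((jK R m₀ v.1).comp (LinearMap.fst R _ _)).prod
    (v.2 • LinearMap.fst R _ _ - (jK R m₀ v.1).comp (LinearMap.snd R _ _))
  map_add' v v' := by
    refine LinearMap.ext fun x => Prod.ext ?_ ?_
    · simp
    · simp [add_smul]; abel
  map_smul' c v := by
    refine LinearMap.ext fun x => Prod.ext ?_ ?_
    · simp
    · simp [mul_smul, smul_sub]

theorem kk_apply (v : M × R) (x : KK R m₀ × KK R m₀) :
    kk R m₀ v x = (jK R m₀ v.1 x.1, v.2 • x.1 - jK R m₀ v.1 x.2) := rfl

theorem kk_sq (v : M × R) : kk R m₀ v * kk R m₀ v = 0 := by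
  refine LinearMap.ext fun x => ?_
  rw [Module.End.mul_apply, kk_apply, kk_apply]
  refine Prod.ext ?_ ?_
  · simp [jK_jK]
  · simp [jK_jK, map_sub]

theorem kk_self : kk R m₀ (m₀, 0) = 0 := by
  refine LinearMap.ext fun x => ?_
  rw [kk_apply]
  simp [jK_self]

theorem kk_prod_apply (n : ℕ) (η : Fin n → M) (x : KK R m₀ × KK R m₀) :
    ((((List.ofFn fun j => kk R m₀ (η j, 0)).prod x).1 : KK R m₀) : ExteriorAlgebra R M) =
        (List.ofFn fun j => ExteriorAlgebra.ι R (η j)).prod * x.1 ∧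
    ((((List.ofFn fun j => kk R m₀ (η j, 0)).prod x).2 : KK R m₀) : ExteriorAlgebra R M) =
        (-1 : R) ^ n • ((List.ofFn fun j => ExteriorAlgebra.ι R (η j)).prod * x.2) := by
  induction n with
  | zero => simp
  | succ n ih =>
    rw [List.ofFn_succ, List.prod_cons, List.ofFn_succ, List.prod_cons, Module.End.mul_apply,
      kk_apply]
    obtain ⟨h1, h2⟩ := ih (fun j => η j.succ)
    refine ⟨?_, ?_⟩
    · simp only [jK_apply_coe]
      rw [h1, mul_assoc]
    · simp only [zero_smul, zero_sub, NegMemClass.coe_neg, jK_apply_coe]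
      rw [h2, mul_smul_comm, pow_succ, mul_smul, neg_smul, one_smul, smul_neg, mul_assoc]

/-- the starting vector. -/
def e₀ : KK R m₀ × KK R m₀ := (⟨ExteriorAlgebra.ι R m₀, ι_mem_KK R m₀⟩, 0)

/-- evaluation functional. -/
def θ₀ : Module.End R (KK R m₀ × KK R m₀) →ₗ[R] ExteriorAlgebra R M :=
  (KK R m₀).subtype ∘ₗ LinearMap.snd R _ _ ∘ₗ LinearMap.applyₗ (e₀ R m₀)

theorem θ₀_apply (c : Module.End R (KK R m₀ × KK R m₀)) :
    θ₀ R m₀ c = ((c (e₀ R m₀)).2 : ExteriorAlgebra R M) := rfl

theorem θ₀_prod (n : ℕ) (η : Fin n → M) :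
    θ₀ R m₀ ((List.ofFn fun j => kk R m₀ (η j, 0)).prod) = 0 := by
  rw [θ₀_apply, (kk_prod_apply R m₀ n η _).2]
  simp [e₀]

theorem θ₀_prod_mul (n : ℕ) (η : Fin n → M) :
    θ₀ R m₀ ((List.ofFn fun j => kk R m₀ (η j, 0)).prod * kk R m₀ (0, 1)) =
      (-1 : R) ^ n • ((List.ofFn fun j => ExteriorAlgebra.ι R (η j)).prod *
        ExteriorAlgebra.ι R m₀) := by
  rw [θ₀_apply, Module.End.mul_apply, (kk_prod_apply R m₀ n η _).2, kk_apply]
  simp [e₀]

end rep

end Groth.Agent.Helper18Tr
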