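import Groth.Agent.Lib.Helper18Tr1
set_option autoImplicit false
set_option linter.style.haveILetI false
set_option linter.unusedSectionVars false
universe u
open Polynomial TensorProduct

namespace Groth.Agent.Helper18Tr

section main
variable (p : ℕ) [Fact p.Prime] (Λ R : Type u) [CommRing Λ] [CommRing R] [Algebra Λ R]
  [CharP R p] (a : R)

/-- the base derivation `r ↦ 1 ⊗ kk (dr, 0)`. -/
noncomputable def δB : Derivation Λ R
    (AdjoinRoot (X ^ p - C a : R[X]) ⊗[R]
      Module.End R (KK R (KaehlerDifferential.D Λ R a) × KK R (KaehlerDifferential.D Λ R a))) :=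
  ((TensorProduct.mk R (AdjoinRoot (X ^ p - C a : R[X])) _ 1) ∘ₗ
    kk R (KaehlerDifferential.D Λ R a) ∘ₗ LinearMap.inl R (Ω[R⁄Λ]) R).compDer
      (KaehlerDifferential.D Λ R)

theorem δB_apply (r : R) :
    δB p Λ R a r = (1 : AdjoinRoot (X ^ p - C a : R[X])) ⊗ₜ[R]
      kk R (KaehlerDifferential.D Λ R a) (KaehlerDifferential.D Λ R r, 0) := rfl

theorem exists_D :
    ∃ D : Derivation Λ (AdjoinRoot (X ^ p - C a : R[X]))
      (AdjoinRoot (X ^ p - C a : R[X]) ⊗[R]
        Module.End R (KK R (KaehlerDifferential.D Λ R a) × KK R (KaehlerDifferential.D Λ R a))),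
      (∀ r, D (algebraMap R _ r) = (1 : AdjoinRoot (X ^ p - C a : R[X])) ⊗ₜ[R]
        kk R (KaehlerDifferential.D Λ R a) (KaehlerDifferential.D Λ R r, 0)) ∧
      D (AdjoinRoot.root _) = (1 : AdjoinRoot (X ^ p - C a : R[X])) ⊗ₜ[R]
        kk R (KaehlerDifferential.D Λ R a) (0, 1) := by
  refine exists_derivation a (δB p Λ R a) _ ?_
  rw [δB_apply, kk_self, tmul_zero]

theorem D_mem_range
    (D : Derivation Λ (AdjoinRoot (X ^ p - C a : R[X]))
      (AdjoinRoot (X ^ p - C a : R[X]) ⊗[R]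
        Module.End R (KK R (KaehlerDifferential.D Λ R a) × KK R (KaehlerDifferential.D Λ R a))))
    (h1 : ∀ r, D (algebraMap R _ r) = (1 : AdjoinRoot (X ^ p - C a : R[X])) ⊗ₜ[R]
        kk R (KaehlerDifferential.D Λ R a) (KaehlerDifferential.D Λ R r, 0))
    (h2 : D (AdjoinRoot.root _) = (1 : AdjoinRoot (X ^ p - C a : R[X])) ⊗ₜ[R]
        kk R (KaehlerDifferential.D Λ R a) (0, 1)) (s : AdjoinRoot (X ^ p - C a : R[X])) :
    D s ∈ LinearMap.range
      ((kk R (KaehlerDifferential.D Λ R a)).baseChange (AdjoinRoot (X ^ p - C a : R[X]))) := by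
  have hroot : D (AdjoinRoot.root _) ∈ LinearMap.range
      ((kk R (KaehlerDifferential.D Λ R a)).baseChange (AdjoinRoot (X ^ p - C a : R[X]))) := by
    rw [h2]
    exact ⟨1 ⊗ₜ (0, 1), by rw [LinearMap.baseChange_tmul]⟩
  induction s using AdjoinRoot.induction_on with
  | ih f =>
    induction f using Polynomial.induction_on with
    | C r =>
      rw [AdjoinRoot.mk_C, ← AdjoinRoot.algebraMap_eq, h1]
      exact ⟨1 ⊗ₜ (KaehlerDifferential.D Λ R r, 0), by rw [LinearMap.baseChange_tmul]⟩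
    | add f g hf hg =>
      rw [map_add, map_add]
      exact Submodule.add_mem _ hf hg
    | monomial n r ih =>
      rw [pow_succ, ← mul_assoc, map_mul, Derivation.leibniz, AdjoinRoot.mk_X]
      exact Submodule.add_mem _ (Submodule.smul_mem _ _ hroot) (Submodule.smul_mem _ _ ih)

end main

section lam
variable (p : ℕ) [Fact p.Prime] (R : Type u) [CommRing R] [CharP R p] (a : R)

theorem monic_g : (X ^ p - C a : R[X]).Monic :=
  Polynomial.monic_X_pow_sub_C a (Fact.out : p.Prime).ne_zero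

/-- coefficient of `x^(p-1)`. -/
noncomputable def lam : AdjoinRoot (X ^ p - C a : R[X]) →ₗ[R] R :=
  (Polynomial.lcoeff R (p - 1)) ∘ₗ AdjoinRoot.modByMonicHom (monic_g p R a)

theorem lam_root_pow (i : ℕ) (hi : i < p) :
    lam p R a (AdjoinRoot.root _ ^ i) = if i = p - 1 then 1 else 0 := by
  haveI : Nontrivial R := CharP.nontrivial_of_char_ne_one (Fact.out : p.Prime).ne_one
  have hpos : 0 < p := (Fact.out : p.Prime).pos
  rw [lam, LinearMap.comp_apply, ← AdjoinRoot.mk_X, ← map_pow, AdjoinRoot.modByMonicHom_mk,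
    (Polynomial.modByMonic_eq_self_iff (monic_g p R a)).mpr, Polynomial.lcoeff_apply,
    Polynomial.coeff_X_pow]
  · simp only [eq_comm]
  · rw [Polynomial.degree_X_pow_sub_C hpos, Polynomial.degree_X_pow]
    exact_mod_cast hi

end lam


section final
variable (p : ℕ) [Fact p.Prime] (Λ R : Type u) [CommRing Λ] [CommRing R] [Algebra Λ R]
  [CharP R p] (a : R)

theorem tmul_list_prod {S C : Type*} [CommRing S] [Algebra R S] [Ring C] [Algebra R C]
    (n : ℕ) (c : Fin n → C) :
    (List.ofFn fun j => (1 : S) ⊗ₜ[R] c j).prod = (1 : S) ⊗ₜ[R] (List.ofFn c).prod := by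
  have := map_list_prod (Algebra.TensorProduct.includeRight : C →ₐ[R] S ⊗[R] C) (List.ofFn c)
  rw [List.map_ofFn] at this
  exact this.symm

theorem lift_mem_range
    (D : Derivation Λ (AdjoinRoot (X ^ p - C a : R[X]))
      (AdjoinRoot (X ^ p - C a : R[X]) ⊗[R]
        Module.End R (KK R (KaehlerDifferential.D Λ R a) × KK R (KaehlerDifferential.D Λ R a))))
    (h1 : ∀ r, D (algebraMap R _ r) = (1 : AdjoinRoot (X ^ p - C a : R[X])) ⊗ₜ[R]
        kk R (KaehlerDifferential.D Λ R a) (KaehlerDifferential.D Λ R r, 0))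
    (h2 : D (AdjoinRoot.root _) = (1 : AdjoinRoot (X ^ p - C a : R[X])) ⊗ₜ[R]
        kk R (KaehlerDifferential.D Λ R a) (0, 1))
    (ω : Ω[AdjoinRoot (X ^ p - C a : R[X])⁄Λ]) :
    D.liftKaehlerDifferential ω ∈ LinearMap.range
      ((kk R (KaehlerDifferential.D Λ R a)).baseChange (AdjoinRoot (X ^ p - C a : R[X]))) := by
  have hω : ω ∈ Submodule.span (AdjoinRoot (X ^ p - C a : R[X]))
      (Set.range (KaehlerDifferential.D Λ (AdjoinRoot (X ^ p - C a : R[X])))) := by
    rw [KaehlerDifferential.span_range_derivation]; trivial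
  induction hω using Submodule.span_induction with
  | mem x hx =>
    obtain ⟨s, rfl⟩ := hx
    rw [Derivation.liftKaehlerDifferential_comp_D]; exact D_mem_range p Λ R a D h1 h2 s
  | zero => rw [map_zero]; exact Submodule.zero_mem _
  | add x y _ _ hx hy => rw [map_add]; exact Submodule.add_mem _ hx hy
  | smul c x _ hx => rw [map_smul]; exact Submodule.smul_mem _ _ hx

theorem lift_sq_zero
    (D : Derivation Λ (AdjoinRoot (X ^ p - C a : R[X]))
      (AdjoinRoot (X ^ p - C a : R[X]) ⊗[R]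
        Module.End R (KK R (KaehlerDifferential.D Λ R a) × KK R (KaehlerDifferential.D Λ R a))))
    (h1 : ∀ r, D (algebraMap R _ r) = (1 : AdjoinRoot (X ^ p - C a : R[X])) ⊗ₜ[R]
        kk R (KaehlerDifferential.D Λ R a) (KaehlerDifferential.D Λ R r, 0))
    (h2 : D (AdjoinRoot.root _) = (1 : AdjoinRoot (X ^ p - C a : R[X])) ⊗ₜ[R]
        kk R (KaehlerDifferential.D Λ R a) (0, 1))
    (ω : Ω[AdjoinRoot (X ^ p - C a : R[X])⁄Λ]) :
    D.liftKaehlerDifferential ω * D.liftKaehlerDifferential ω = 0 := by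
  obtain ⟨w, hw⟩ := lift_mem_range p Λ R a D h1 h2 ω
  have hk := kk_sq R (KaehlerDifferential.D Λ R a)
  have := baseChange_sq_zero (S := AdjoinRoot (X ^ p - C a : R[X]))
    (C := Module.End R (KK R (KaehlerDifferential.D Λ R a) × KK R (KaehlerDifferential.D Λ R a)))
    (kk R (KaehlerDifferential.D Λ R a)) hk w
  rw [hw] at this
  exact this

theorem lift_map
    (D : Derivation Λ (AdjoinRoot (X ^ p - C a : R[X]))
      (AdjoinRoot (X ^ p - C a : R[X]) ⊗[R]
        Module.End R (KK R (KaehlerDifferential.D Λ R a) × KK R (KaehlerDifferential.D Λ R a))))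
    (h1 : ∀ r, D (algebraMap R _ r) = (1 : AdjoinRoot (X ^ p - C a : R[X])) ⊗ₜ[R]
        kk R (KaehlerDifferential.D Λ R a) (KaehlerDifferential.D Λ R r, 0))
    (η : Ω[R⁄Λ]) :
    D.liftKaehlerDifferential
      (KaehlerDifferential.map Λ Λ R (AdjoinRoot (X ^ p - C a : R[X])) η) =
      (1 : AdjoinRoot (X ^ p - C a : R[X])) ⊗ₜ[R] kk R (KaehlerDifferential.D Λ R a) (η, 0) := by
  have hη : η ∈ Submodule.span R (Set.range (KaehlerDifferential.D Λ R)) := by
    rw [KaehlerDifferential.span_range_derivation]; trivial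
  induction hη using Submodule.span_induction with
  | mem x hx =>
    obtain ⟨r, rfl⟩ := hx
    rw [KaehlerDifferential.map_D, Derivation.liftKaehlerDifferential_comp_D, h1]
  | zero => 
    rw [map_zero, map_zero]
    have : ((0 : Ω[R⁄Λ]), (0 : R)) = 0 := rfl
    rw [this, map_zero, tmul_zero]
  | add x y _ _ hx hy => 
    rw [map_add, map_add, hx, hy, ← tmul_add, ← map_add]
    simp
  | smul c x _ hx => 
    rw [map_smul, ← algebraMap_smul (AdjoinRoot (X ^ p - C a : R[X])) c, map_smul, hx,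
      algebraMap_smul, ← tmul_smul, ← map_smul]
    simp

end final

end Groth.Agent.Helper18Tr
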