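import Groth.Agent.Lib.Helper18Tr2
set_option autoImplicit false
set_option linter.style.haveILetI false
set_option linter.unusedSectionVars false
universe u
open Polynomial TensorProduct

namespace Groth.Agent.Helper18Tr

section gen
variable {R M : Type*} [CommRing R] [AddCommGroup M] [Module R M]

theorem algHom_ιMulti {B : Type*} [Ring B] [Algebra R B] (g : ExteriorAlgebra R M →ₐ[R] B)
    (n : ℕ) (v : Fin n → M) :
    g (ExteriorAlgebra.ιMulti R n v) = (List.ofFn fun i => g (ExteriorAlgebra.ι R (v i))).prod := by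
  rw [ExteriorAlgebra.ιMulti_apply, map_list_prod, List.map_ofFn]
  rfl

theorem ofFn_snoc_prod {B : Type*} [Monoid B] (n : ℕ) (c : Fin n → B) (b : B) :
    (List.ofFn (Fin.snoc c b : Fin (n + 1) → B)).prod = (List.ofFn c).prod * b := by
  rw [List.ofFn_succ', List.concat_eq_append, List.prod_append, List.prod_singleton]
  simp

/-- projection to degree `n`. -/
noncomputable def projL (n : ℕ) : ExteriorAlgebra R M →ₗ[R] ⋀[R]^n M :=
  (DirectSum.component R ℕ (fun i => ⋀[R]^i M) n) ∘ₗ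
    (DirectSum.decomposeLinearEquiv (fun i : ℕ => ⋀[R]^i M)).toLinearMap

theorem projL_coe (n : ℕ) (y : ⋀[R]^n M) : projL n (y : ExteriorAlgebra R M) = y := by
  rw [projL, LinearMap.comp_apply]
  change DirectSum.component R ℕ (fun i => ⋀[R]^i M) n
    (DirectSum.decompose (fun i : ℕ => ⋀[R]^i M) (y : ExteriorAlgebra R M)) = y
  rw [DirectSum.decompose_coe]
  exact DirectSum.of_eq_same _ _

end gen

section final
variable (p : ℕ) [Fact p.Prime] (Λ R : Type u) [CommRing Λ] [CommRing R] [Algebra Λ R]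
  [CharP R p] (a : R)

/-- the functional `λ ⊗ θ₀`. -/
noncomputable def Tr₀ : (AdjoinRoot (X ^ p - C a : R[X]) ⊗[R]
      Module.End R (KK R (KaehlerDifferential.D Λ R a) × KK R (KaehlerDifferential.D Λ R a)))
      →ₗ[R] ExteriorAlgebra R (Ω[R⁄Λ]) :=
  (TensorProduct.lid R (ExteriorAlgebra R (Ω[R⁄Λ]))).toLinearMap ∘ₗ
    TensorProduct.map (lam p R a) (θ₀ R (KaehlerDifferential.D Λ R a))

theorem Tr₀_tmul (s : AdjoinRoot (X ^ p - C a : R[X]))
    (c : Module.End R (KK R (KaehlerDifferential.D Λ R a) × KK R (KaehlerDifferential.D Λ R a))) :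
    Tr₀ p Λ R a (s ⊗ₜ c) = lam p R a s • θ₀ R (KaehlerDifferential.D Λ R a) c := by
  rw [Tr₀, LinearMap.comp_apply, TensorProduct.map_tmul]
  exact TensorProduct.lid_tmul _ _

variable
    (D : Derivation Λ (AdjoinRoot (X ^ p - C a : R[X]))
      (AdjoinRoot (X ^ p - C a : R[X]) ⊗[R]
        Module.End R (KK R (KaehlerDifferential.D Λ R a) × KK R (KaehlerDifferential.D Λ R a))))
    (h1 : ∀ r, D (algebraMap R _ r) = (1 : AdjoinRoot (X ^ p - C a : R[X])) ⊗ₜ[R]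
        kk R (KaehlerDifferential.D Λ R a) (KaehlerDifferential.D Λ R r, 0))
    (h2 : D (AdjoinRoot.root _) = (1 : AdjoinRoot (X ^ p - C a : R[X])) ⊗ₜ[R]
        kk R (KaehlerDifferential.D Λ R a) (0, 1))

/-- the algebra map out of the exterior algebra of `Ω[S⁄Λ]`. -/
noncomputable def Φ : ExteriorAlgebra (AdjoinRoot (X ^ p - C a : R[X]))
      (Ω[AdjoinRoot (X ^ p - C a : R[X])⁄Λ]) →ₐ[AdjoinRoot (X ^ p - C a : R[X])]
    (AdjoinRoot (X ^ p - C a : R[X]) ⊗[R]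
      Module.End R (KK R (KaehlerDifferential.D Λ R a) × KK R (KaehlerDifferential.D Λ R a))) :=
  ExteriorAlgebra.lift (AdjoinRoot (X ^ p - C a : R[X]))
    ⟨D.liftKaehlerDifferential, lift_sq_zero p Λ R a D h1 h2⟩

theorem Φ_ι (ω : Ω[AdjoinRoot (X ^ p - C a : R[X])⁄Λ]) :
    Φ p Λ R a D h1 h2 (ExteriorAlgebra.ι _ ω) = D.liftKaehlerDifferential ω :=
  ExteriorAlgebra.lift_ι_apply _ _ _ _

theorem Φ_map (n : ℕ) (η : Fin n → Ω[R⁄Λ]) :
    Φ p Λ R a D h1 h2 (ExteriorAlgebra.ιMulti _ n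
      (fun j => KaehlerDifferential.map Λ Λ R (AdjoinRoot (X ^ p - C a : R[X])) (η j))) =
    (1 : AdjoinRoot (X ^ p - C a : R[X])) ⊗ₜ[R]
      (List.ofFn fun j => kk R (KaehlerDifferential.D Λ R a) (η j, 0)).prod := by
  rw [algHom_ιMulti]
  refine Eq.trans ?_ (tmul_list_prod R (S := AdjoinRoot (X ^ p - C a : R[X])) n
    (fun j => kk R (KaehlerDifferential.D Λ R a) (η j, 0)))
  congr 2
  funext j
  rw [Φ_ι, lift_map p Λ R a D h1]

theorem Φ_snoc (n : ℕ) (η : Fin n → Ω[R⁄Λ]) (s : AdjoinRoot (X ^ p - C a : R[X])) :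
    Φ p Λ R a D h1 h2 (ExteriorAlgebra.ιMulti _ (n + 1)
      (Fin.snoc (fun j => KaehlerDifferential.map Λ Λ R (AdjoinRoot (X ^ p - C a : R[X])) (η j))
        (s • KaehlerDifferential.D Λ _ (AdjoinRoot.root (X ^ p - C a))))) =
    s ⊗ₜ[R]
      ((List.ofFn fun j => kk R (KaehlerDifferential.D Λ R a) (η j, 0)).prod *
        kk R (KaehlerDifferential.D Λ R a) (0, 1)) := by
  rw [ExteriorAlgebra.ιMulti_apply]
  have : (fun i : Fin (n + 1) => ExteriorAlgebra.ι (AdjoinRoot (X ^ p - C a : R[X]))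
      ((Fin.snoc (fun j => KaehlerDifferential.map Λ Λ R (AdjoinRoot (X ^ p - C a : R[X])) (η j))
        (s • KaehlerDifferential.D Λ _ (AdjoinRoot.root (X ^ p - C a))) :
          Fin (n + 1) → Ω[AdjoinRoot (X ^ p - C a : R[X])⁄Λ]) i)) =
      Fin.snoc (fun j => ExteriorAlgebra.ι (AdjoinRoot (X ^ p - C a : R[X]))
        (KaehlerDifferential.map Λ Λ R (AdjoinRoot (X ^ p - C a : R[X])) (η j)))
        (ExteriorAlgebra.ι (AdjoinRoot (X ^ p - C a : R[X]))
          (s • KaehlerDifferential.D Λ _ (AdjoinRoot.root (X ^ p - C a)))) := by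
    funext i
    refine Fin.lastCases ?_ (fun j => ?_) i
    · simp
    · simp
  rw [this, ofFn_snoc_prod, map_mul, ← ExteriorAlgebra.ιMulti_apply, Φ_map, Φ_ι, map_smul,
    Derivation.liftKaehlerDifferential_comp_D, h2, TensorProduct.smul_tmul',
    Algebra.TensorProduct.tmul_mul_tmul, one_mul, smul_eq_mul, mul_one]


theorem main (t : ℕ) :
    ∃ Tr : (⋀[AdjoinRoot (X ^ p - C a : R[X])]^(t + 1) (Ω[AdjoinRoot (X ^ p - C a : R[X])⁄Λ])) →+ (⋀[R]^(t + 1) (Ω[R⁄Λ])),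
      (∀ (r : R) (ω : ⋀[AdjoinRoot (X ^ p - C a : R[X])]^(t + 1) (Ω[AdjoinRoot (X ^ p - C a : R[X])⁄Λ])),
        Tr (algebraMap R (AdjoinRoot (X ^ p - C a : R[X])) r • ω) = r • Tr ω) ∧
      (∀ (η : Fin t → Ω[R⁄Λ]) (i : ℕ), i + 2 ≤ p →
        Tr (exteriorPower.ιMulti _ (t + 1) (Fin.snoc (fun j => KaehlerDifferential.map Λ Λ R (AdjoinRoot (X ^ p - C a : R[X])) (η j))
          (AdjoinRoot.root (X ^ p - C a) ^ i • KaehlerDifferential.D Λ _ (AdjoinRoot.root (X ^ p - C a))))) = 0) ∧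
      (∀ (η : Fin t → Ω[R⁄Λ]),
        Tr (exteriorPower.ιMulti _ (t + 1) (Fin.snoc (fun j => KaehlerDifferential.map Λ Λ R (AdjoinRoot (X ^ p - C a : R[X])) (η j))
          (AdjoinRoot.root (X ^ p - C a) ^ (p - 1) • KaehlerDifferential.D Λ _ (AdjoinRoot.root (X ^ p - C a))))) =
          exteriorPower.ιMulti R (t + 1) (Fin.snoc η (KaehlerDifferential.D Λ R a))) ∧
      (∀ (s : AdjoinRoot (X ^ p - C a : R[X])) (η : Fin (t + 1) → Ω[R⁄Λ]),
        Tr (s • exteriorPower.ιMulti _ (t + 1) (fun j => KaehlerDifferential.map Λ Λ R (AdjoinRoot (X ^ p - C a : R[X])) (η j))) = 0) := by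
  obtain ⟨D, h1, h2⟩ := exists_D p Λ R a
  let G : (AdjoinRoot (X ^ p - C a : R[X]) ⊗[R]
      Module.End R (KK R (KaehlerDifferential.D Λ R a) × KK R (KaehlerDifferential.D Λ R a)))
      →ₗ[R] ⋀[R]^(t + 1) (Ω[R⁄Λ]) := (-1 : R) ^ t • (projL (t + 1) ∘ₗ Tr₀ p Λ R a)
  have hG : ∀ b, G b = (-1 : R) ^ t • projL (t + 1) (Tr₀ p Λ R a b) := fun b => rfl
  let Tr : (⋀[AdjoinRoot (X ^ p - C a : R[X])]^(t + 1) (Ω[AdjoinRoot (X ^ p - C a : R[X])⁄Λ])) →+
      (⋀[R]^(t + 1) (Ω[R⁄Λ])) :=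
    G.toAddMonoidHom.comp (((Φ p Λ R a D h1 h2).toLinearMap.toAddMonoidHom).comp
      (Submodule.subtype _).toAddMonoidHom)
  have hTr : ∀ ω, Tr ω = G (Φ p Λ R a D h1 h2 (ω : ExteriorAlgebra _ _)) := fun ω => rfl
  have hp2 : 2 ≤ p := (Fact.out : p.Prime).two_le
  refine ⟨Tr, ?_, ?_, ?_, ?_⟩
  · intro r ω
    rw [hTr, hTr, Submodule.coe_smul, map_smul, algebraMap_smul, map_smul]
  · intro η i hi
    rw [hTr, exteriorPower.ιMulti_apply_coe, Φ_snoc, hG, Tr₀_tmul, lam_root_pow p R a i (by omega),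
      if_neg (by omega), zero_smul, map_zero, smul_zero]
  · intro η
    rw [hTr, exteriorPower.ιMulti_apply_coe, Φ_snoc, hG, Tr₀_tmul,
      lam_root_pow p R a (p - 1) (by omega), if_pos rfl, one_smul, θ₀_prod_mul, map_smul,
      smul_smul, ← mul_pow, neg_one_mul, neg_neg, one_pow, one_smul]
    have : (List.ofFn fun j => ExteriorAlgebra.ι R (η j)).prod *
        ExteriorAlgebra.ι R (KaehlerDifferential.D Λ R a) =
        ((exteriorPower.ιMulti R (t + 1) (Fin.snoc η (KaehlerDifferential.D Λ R a)) :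
          ⋀[R]^(t + 1) (Ω[R⁄Λ])) : ExteriorAlgebra R (Ω[R⁄Λ])) := by
      rw [exteriorPower.ιMulti_apply_coe, ExteriorAlgebra.ιMulti_apply, ← ofFn_snoc_prod]
      congr 2
      funext i
      refine Fin.lastCases ?_ (fun j => ?_) i
      · simp
      · simp
    rw [this, projL_coe]
  · intro s η
    rw [hTr, Submodule.coe_smul, map_smul, exteriorPower.ιMulti_apply_coe, Φ_map,
      TensorProduct.smul_tmul', smul_eq_mul, mul_one, hG, Tr₀_tmul, θ₀_prod, smul_zero, map_zero,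
      smul_zero]

end final

end Groth.Agent.Helper18Tr
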