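import Mathlib

set_option autoImplicit false
set_option linter.style.haveILetI false

namespace Groth.Agent.Helper18Transl

universe u v
open Polynomial

section ProdTop

variable {A : Type*} [CommRing A] {ι : Type*}

theorem prod_top (s : Finset ι) (p : ι → A[X]) (d : ι → ℕ)
    (hd : ∀ i ∈ s, (p i).natDegree ≤ d i) :
    (∏ i ∈ s, p i).natDegree ≤ ∑ i ∈ s, d i ∧
      (∏ i ∈ s, p i).coeff (∑ i ∈ s, d i) = ∏ i ∈ s, (p i).coeff (d i) := by
  classical
  induction s using Finset.induction_on with
  | empty => simp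
  | insert a s ha ih =>
    have h1 := ih (fun i hi => hd i (Finset.mem_insert_of_mem hi))
    have h2 := hd a (Finset.mem_insert_self a s)
    rw [Finset.prod_insert ha, Finset.sum_insert ha, Finset.prod_insert ha]
    refine ⟨natDegree_mul_le_of_le h2 h1.1, ?_⟩
    rw [coeff_mul_add_eq_of_natDegree_le h2 h1.1, h1.2]

end ProdTop

section Key

variable {k : Type u} [Field k] {K : Type v} [Field K] [Algebra k K] {r : ℕ}
  (g : Fin r → K) (N : ℕ)

/-- the substitution `x_i ↦ x_i + g_i t^N`. -/
noncomputable def phi : MvPolynomial (Fin r) k →ₐ[k] Polynomial (MvPolynomial (Fin r) K) :=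
  MvPolynomial.aeval (fun i : Fin r => Polynomial.C (MvPolynomial.X i) +
    Polynomial.C (MvPolynomial.C (g i)) * Polynomial.X ^ N)

theorem ell_natDegree (i : Fin r) :
    (Polynomial.C (MvPolynomial.X i : MvPolynomial (Fin r) K) +
      Polynomial.C (MvPolynomial.C (g i)) * Polynomial.X ^ N).natDegree ≤ N := by
  refine (natDegree_add_le _ _).trans (max_le ?_ ?_)
  · rw [natDegree_C]; exact Nat.zero_le _
  · exact natDegree_C_mul_X_pow_le _ _

theorem ell_coeff (hN : 0 < N) (i : Fin r) :
    (Polynomial.C (MvPolynomial.X i : MvPolynomial (Fin r) K) +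
      Polynomial.C (MvPolynomial.C (g i)) * Polynomial.X ^ N).coeff N = MvPolynomial.C (g i) := by
  rw [coeff_add, coeff_C, if_neg hN.ne', zero_add, coeff_C_mul, coeff_X_pow, if_pos rfl, mul_one]

theorem phi_monomial_top (hN : 0 < N) (α : Fin r →₀ ℕ) (a : k) :
    (phi g N (MvPolynomial.monomial α a)).natDegree ≤ N * α.degree ∧
      (phi g N (MvPolynomial.monomial α a)).coeff (N * α.degree) =
        MvPolynomial.C (MvPolynomial.aeval g (MvPolynomial.monomial α a)) := by
  have h1 := prod_top (Finset.univ : Finset (Fin r))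
    (fun i => (Polynomial.C (MvPolynomial.X i : MvPolynomial (Fin r) K) +
      Polynomial.C (MvPolynomial.C (g i)) * Polynomial.X ^ N) ^ (α i))
    (fun i => α i * N)
    (fun i _ => natDegree_pow_le_of_le _ (ell_natDegree g N i))
  have hsum : ∑ i : Fin r, α i * N = N * α.degree := by
    rw [Finsupp.degree_eq_sum, Finset.mul_sum]
    exact Finset.sum_congr rfl (fun i _ => mul_comm _ _)
  rw [hsum] at h1
  have hphi : phi g N (MvPolynomial.monomial α a) =
      Polynomial.C (MvPolynomial.C (algebraMap k K a)) *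
        ∏ i : Fin r, (Polynomial.C (MvPolynomial.X i : MvPolynomial (Fin r) K) +
          Polynomial.C (MvPolynomial.C (g i)) * Polynomial.X ^ N) ^ (α i) := by
    rw [phi, MvPolynomial.aeval_monomial, Finsupp.prod_fintype _ _ (fun i => pow_zero _)]
    rfl
  rw [hphi]
  refine ⟨(natDegree_C_mul_le _ _).trans h1.1, ?_⟩
  rw [coeff_C_mul, h1.2, MvPolynomial.aeval_monomial, Finsupp.prod_fintype _ _ (fun i => pow_zero _),
    map_mul, map_prod]
  congr 1
  refine Finset.prod_congr rfl (fun i _ => ?_)
  rw [coeff_pow_of_natDegree_le (ell_natDegree g N i), ell_coeff g N hN, map_pow]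

/-- the key property. -/
def Q (D : ℕ) (c : MvPolynomial (Fin r) k) : Prop :=
  (∀ j, N * D < j → (phi g N c).coeff j = 0) ∧
    (phi g N c).coeff (N * D) =
      MvPolynomial.C (MvPolynomial.aeval g (MvPolynomial.homogeneousComponent D c))

theorem Q_zero (D : ℕ) : Q g N D (0 : MvPolynomial (Fin r) k) := by
  refine ⟨fun j _ => by simp, by simp⟩

theorem Q_add (D : ℕ) (c c' : MvPolynomial (Fin r) k) (h : Q g N D c) (h' : Q g N D c') :
    Q g N D (c + c') := by
  refine ⟨fun j hj => ?_, ?_⟩
  · rw [map_add, coeff_add, h.1 j hj, h'.1 j hj, add_zero]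
  · rw [map_add, coeff_add, h.2, h'.2, map_add, map_add, map_add]

theorem Q_monomial (hN : 0 < N) (D : ℕ) (α : Fin r →₀ ℕ) (a : k) (hα : α.degree ≤ D) :
    Q g N D (MvPolynomial.monomial α a) := by
  obtain ⟨h1, h2⟩ := phi_monomial_top g N hN α a
  refine ⟨fun j hj => ?_, ?_⟩
  · apply coeff_eq_zero_of_natDegree_lt
    exact lt_of_le_of_lt (h1.trans (Nat.mul_le_mul_left N hα)) hj
  · rcases hα.lt_or_eq with hlt | heq
    · rw [coeff_eq_zero_of_natDegree_lt (lt_of_le_of_lt h1 (Nat.mul_lt_mul_of_pos_left hlt hN))]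
      rw [MvPolynomial.homogeneousComponent_eq_zero' D _ (fun d hd => ?_)]
      · simp
      · have := MvPolynomial.support_monomial_subset hd
        rw [Finset.mem_singleton] at this
        rw [this]; exact hlt.ne
    · rw [← heq, h2, MvPolynomial.homogeneousComponent_eq_self
        (MvPolynomial.isHomogeneous_monomial a rfl)]

theorem Q_of_totalDegree_le (hN : 0 < N) (D : ℕ) (c : MvPolynomial (Fin r) k)
    (hc : c.totalDegree ≤ D) : Q g N D c := by
  classical
  rw [c.as_sum]
  have : ∀ s : Finset (Fin r →₀ ℕ), (∀ α ∈ s, α.degree ≤ D) →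
      Q g N D (∑ α ∈ s, MvPolynomial.monomial α (c.coeff α)) := by
    intro s
    induction s using Finset.induction_on with
    | empty => intro _; rw [Finset.sum_empty]; exact Q_zero g N D
    | insert a s ha ih =>
      intro hs
      rw [Finset.sum_insert ha]
      exact Q_add g N D _ _ (Q_monomial g N hN D a _ (hs a (Finset.mem_insert_self a s)))
        (ih (fun α hα => hs α (Finset.mem_insert_of_mem hα)))
  apply this
  intro α hα
  have h1 := (MvPolynomial.le_totalDegree hα).trans hc
  rw [Finsupp.degree_eq_sum]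
  rwa [Finsupp.sum_fintype _ _ (fun _ => rfl)] at h1

end Key

section Main

theorem main {k : Type u} [Field k] (r m : ℕ)
    (f : Polynomial (MvPolynomial (Fin r) k)) (hirr : Irreducible f) :
    ∃ h : MvPolynomial (Fin r) k, h ≠ 0 ∧ ∃ s₀ : ℕ, ∀ s : ℕ, s₀ ≤ s →
      ∀ (K : Type v) [Field K] [Algebra k K] (g : Fin r → K), MvPolynomial.aeval g h ≠ 0 →
        ∀ F : Polynomial (MvPolynomial (Fin r) K),
          F = Polynomial.eval₂ (MvPolynomial.aeval (fun i : Fin r => Polynomial.C (MvPolynomial.X i) + Polynomial.C (MvPolynomial.C (g i)) * Polynomial.X ^ (s * (m + 1))) : MvPolynomial (Fin r) k →ₐ[k] Polynomial (MvPolynomial (Fin r) K)).toRingHom Polynomial.X f →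
          Module.Finite (MvPolynomial (Fin r) K) (Polynomial (MvPolynomial (Fin r) K) ⧸ Ideal.span {F}) ∧
          Function.Injective ((Ideal.Quotient.mk (Ideal.span {F})).comp (algebraMap (MvPolynomial (Fin r) K) (Polynomial (MvPolynomial (Fin r) K)))) := by
  classical
  have hf0 : f ≠ 0 := hirr.ne_zero
  have hsupp : f.support.Nonempty := by
    rw [Finset.nonempty_iff_ne_empty, Ne, Polynomial.support_eq_empty]; exact hf0
  let Dfun : ℕ → ℕ := fun a => (f.coeff a).totalDegree
  let D : ℕ := f.support.sup Dfun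
  obtain ⟨a₁, ha₁, ha₁D⟩ := Finset.exists_mem_eq_sup f.support hsupp Dfun
  let T : Finset ℕ := f.support.filter (fun a => Dfun a = D)
  have hT : T.Nonempty := ⟨a₁, Finset.mem_filter.2 ⟨ha₁, ha₁D.symm⟩⟩
  let a₀ : ℕ := T.max' hT
  have ha₀T : a₀ ∈ T := Finset.max'_mem T hT
  have ha₀s : a₀ ∈ f.support := (Finset.mem_filter.1 ha₀T).1
  have ha₀D : Dfun a₀ = D := (Finset.mem_filter.1 ha₀T).2
  have hc0 : f.coeff a₀ ≠ 0 := Polynomial.mem_support_iff.1 ha₀s
  let h : MvPolynomial (Fin r) k := MvPolynomial.homogeneousComponent D (f.coeff a₀)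
  have hh : h ≠ 0 := by
    have hne : (f.coeff a₀).support.Nonempty := by
      rw [Finset.nonempty_iff_ne_empty, Ne, MvPolynomial.support_eq_empty]; exact hc0
    obtain ⟨α, hα, hαD⟩ := Finset.exists_mem_eq_sup (f.coeff a₀).support hne
      (fun s => s.sum fun _ e => e)
    have hαdeg : α.degree = D := by
      rw [← ha₀D]
      exact hαD.symm
    intro h0
    have := congrArg (MvPolynomial.coeff α) h0
    rw [MvPolynomial.coeff_homogeneousComponent, if_pos hαdeg, MvPolynomial.coeff_zero] at this
    exact (MvPolynomial.mem_support_iff.1 hα) this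
  refine ⟨h, hh, f.natDegree + 1, fun s hs K _ _ g hg F hF => ?_⟩
  set N : ℕ := s * (m + 1) with hNdef
  have hNs : s ≤ N := by
    rw [hNdef]; exact Nat.le_mul_of_pos_right s (Nat.succ_pos m)
  have hNf : f.natDegree < N := by omega
  have hNpos : 0 < N := by omega
  have hFsum : F = ∑ a ∈ f.support, phi g N (f.coeff a) * Polynomial.X ^ a := by
    rw [hF, Polynomial.eval₂_eq_sum, Polynomial.sum_def]
    rfl
  have hcoeff : ∀ j, F.coeff j = ∑ a ∈ f.support,
      if a ≤ j then (phi g N (f.coeff a)).coeff (j - a) else 0 := by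
    intro j
    rw [hFsum, Polynomial.finsetSum_coeff]
    exact Finset.sum_congr rfl (fun a _ => Polynomial.coeff_mul_X_pow' _ _ _)
  have hQ : ∀ a, Q g N (Dfun a) (f.coeff a) := fun a =>
    Q_of_totalDegree_le g N hNpos _ _ le_rfl
  have hle_nat : ∀ a ∈ f.support, a ≤ f.natDegree := fun a ha =>
    Polynomial.le_natDegree_of_mem_supp a ha
  have hDle : ∀ a ∈ f.support, Dfun a ≤ D := fun a ha => Finset.le_sup (f := Dfun) ha
  have hlt_case : ∀ a ∈ f.support, Dfun a < D → N * Dfun a + N ≤ N * D := by
    intro a _ hlt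
    have := Nat.mul_le_mul_left N (show Dfun a + 1 ≤ D from hlt)
    rwa [Nat.mul_add, Nat.mul_one] at this
  have heq_case : ∀ a ∈ f.support, Dfun a = D → a ≤ a₀ := fun a ha he =>
    Finset.le_max' T a (Finset.mem_filter.2 ⟨ha, he⟩)
  set d₀ : ℕ := N * D + a₀ with hd₀
  have hzero_term : ∀ a ∈ f.support, ∀ j, d₀ ≤ j → a ≤ j → (a ≠ a₀ ∨ d₀ < j) →
      (phi g N (f.coeff a)).coeff (j - a) = 0 := by
    intro a ha j hj haj hne
    apply (hQ a).1
    have h1 := hle_nat a ha
    rcases (hDle a ha).lt_or_eq with hlt | heq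
    · have h2 := hlt_case a ha hlt
      omega
    · have h2 := heq_case a ha heq
      rw [heq]
      rcases hne with hne | hne
      · have : a < a₀ := lt_of_le_of_ne h2 hne
        omega
      · omega
  have hhigh : ∀ j, d₀ < j → F.coeff j = 0 := by
    intro j hj
    rw [hcoeff]
    apply Finset.sum_eq_zero
    intro a ha
    split_ifs with haj
    · exact hzero_term a ha j hj.le haj (Or.inr hj)
    · rfl
  have htop : F.coeff d₀ = MvPolynomial.C (MvPolynomial.aeval g h) := by
    rw [hcoeff, Finset.sum_eq_single a₀]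
    · rw [if_pos (by omega : a₀ ≤ d₀)]
      have : d₀ - a₀ = N * D := by omega
      have h2 := (hQ a₀).2
      rw [ha₀D] at h2
      rw [this]
      exact h2
    · intro a ha hne
      split_ifs with haj
      · exact hzero_term a ha d₀ le_rfl haj (Or.inl hne)
      · rfl
    · intro hn; exact absurd ha₀s hn
  have hd₀pos : 0 < d₀ := by
    by_contra hd
    have hd0 : d₀ = 0 := by omega
    have hND : N * D = 0 := by omega
    have ha₀0 : a₀ = 0 := by omega
    have hD0 : D = 0 := by
      rcases Nat.mul_eq_zero.1 hND with h | h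
      · omega
      · exact h
    have hall : ∀ a ∈ f.support, a = 0 := by
      intro a ha
      have h1 : Dfun a = D := by have := hDle a ha; omega
      have := heq_case a ha h1
      omega
    have hnat : f.natDegree = 0 := hall _ (Polynomial.natDegree_mem_support_of_nonzero hf0)
    have hfC : f = Polynomial.C (f.coeff 0) := Polynomial.eq_C_of_natDegree_eq_zero hnat
    have h0s : (0 : ℕ) ∈ f.support := by
      have := Polynomial.natDegree_mem_support_of_nonzero hf0
      rwa [hnat] at this
    have htd : (f.coeff 0).totalDegree = 0 := by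
      have := hDle 0 h0s
      change (f.coeff 0).totalDegree ≤ D at this
      omega
    have hcC : f.coeff 0 = MvPolynomial.C ((f.coeff 0).coeff 0) :=
      MvPolynomial.totalDegree_eq_zero_iff_eq_C.1 htd
    have hκ : (f.coeff 0).coeff 0 ≠ 0 := by
      intro h0
      rw [h0, map_zero] at hcC
      exact (Polynomial.mem_support_iff.1 h0s) hcC
    apply hirr.not_isUnit
    rw [hfC, hcC]
    exact ((isUnit_iff_ne_zero.2 hκ).map MvPolynomial.C).map Polynomial.C
  have hu : IsUnit (F.coeff d₀) := by
    rw [htop]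
    exact (isUnit_iff_ne_zero.2 hg).map MvPolynomial.C
  have hFne : F.coeff d₀ ≠ 0 := hu.ne_zero
  have hnatF : F.natDegree = d₀ := by
    apply le_antisymm
    · exact Polynomial.natDegree_le_iff_coeff_eq_zero.2 hhigh
    · exact Polynomial.le_natDegree_of_ne_zero hFne
  have hF0 : F ≠ 0 := by
    intro h0; rw [h0, Polynomial.coeff_zero] at hFne; exact hFne rfl
  constructor
  · have hlead : IsUnit F.leadingCoeff := by
      rw [Polynomial.leadingCoeff, hnatF]; exact hu
    have hmonic := Polynomial.monic_of_isUnit_leadingCoeff_inv_smul hlead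
    have hspan : Ideal.span {F} = Ideal.span {(hlead.unit⁻¹ : (MvPolynomial (Fin r) K)ˣ) • F} := by
      rw [Units.smul_def, Polynomial.smul_eq_C_mul]
      exact (Ideal.span_singleton_mul_left_unit
        ((Units.isUnit (hlead.unit⁻¹)).map Polynomial.C) F).symm
    rw [hspan]
    exact hmonic.finite_quotient
  · rw [injective_iff_map_eq_zero]
    intro a ha
    by_contra hane
    rw [RingHom.comp_apply, Ideal.Quotient.eq_zero_iff_mem, Ideal.mem_span_singleton] at ha
    have hCa : (algebraMap (MvPolynomial (Fin r) K) (Polynomial (MvPolynomial (Fin r) K))) a ≠ 0 := by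
      rw [Polynomial.algebraMap_eq]
      exact fun h => hane (Polynomial.C_eq_zero.1 h)
    have := Polynomial.natDegree_le_of_dvd ha hCa
    rw [hnatF, Polynomial.algebraMap_eq, Polynomial.natDegree_C] at this
    omega

end Main

end Groth.Agent.Helper18Transl
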