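import Mathlib
import Groth.Prelude.Def_Omega3
import Groth.Agent.Lib.Helper18UT11
import Groth.Agent.Lib.Helper18OmLS14
import Groth.Agent.Lib.Helper20OmegaUnr
import Groth.Agent.S1516
import Groth.Agent.S1487

set_option autoImplicit false
set_option linter.style.haveILetI false
set_option linter.unusedSectionVars false
universe u
open CategoryTheory AlgebraicGeometry Limits TopologicalSpace TensorProduct
open Groth.Agent.Helper18OmLS
open Groth.Agent.Helper13PullbackUnit

namespace Groth.Agent.Helper18UT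

section part1
variable {X S : Scheme.{u}} (f : X ⟶ S)

theorem isFirstOrderThickening_id : MoreMor.IsFirstOrderThickening (𝟙 X) := by
  refine ⟨⟨inferInstance, inferInstance⟩, ?_⟩
  rw [Scheme.Hom.ker_eq_bot_of_isIso]
  exact Scheme.IdealSheafData.bot_mul _

theorem formallyUnramified_of_isFormallyEtaleHom (hf : MoreMor.IsFormallyEtaleHom f) :
    FormallyUnramified f := by
  refine ⟨fun {V} hV {U} hU e => ?_⟩
  have h1 := (Groth.Agent.S1487.result f).mp hf U V hU hV e
  letI := (f.appLE V U e).hom.toAlgebra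
  haveI : Algebra.FormallyEtale Γ(S, V) Γ(X, U) := h1
  change Algebra.FormallyUnramified Γ(S, V) Γ(X, U)
  infer_instance

theorem isUnivThickening_id_of_isFormallyEtaleHom (hf : MoreMor.IsFormallyEtaleHom f) :
    OmegaSh.IsUnivThickening f (𝟙 X) f := by
  refine ⟨isFirstOrderThickening_id, Category.id_comp _, ?_⟩
  intro T T' j b a hj hw
  have := Groth.Agent.S1516.result f hf j hj a b hw
  simpa only [Category.comp_id] using this

theorem isFormallyEtaleHom_of_isUnivThickening_id (hu : OmegaSh.IsUnivThickening f (𝟙 X) f) :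
    MoreMor.IsFormallyEtaleHom f := by
  intro A _ I hI a b hw
  have hj : MoreMor.IsFirstOrderThickening
      (Spec.map (CommRingCat.ofHom (Ideal.Quotient.mk I))) :=
    isFirstOrderThickening_SpecMap _ Ideal.Quotient.mk_surjective (by
      change RingHom.ker (Ideal.Quotient.mk I) ^ 2 = ⊥
      rw [Ideal.mk_ker, hI])
  have := hu.2.2 _ _ _ b a hj hw
  simpa only [Category.comp_id] using this

theorem part1_S9750 :
    MoreMor.IsFormallyEtaleHom f ↔ FormallyUnramified f ∧ OmegaSh.IsUnivThickening f (𝟙 X) f :=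
  ⟨fun hf => ⟨formallyUnramified_of_isFormallyEtaleHom f hf,
    isUnivThickening_id_of_isFormallyEtaleHom f hf⟩,
   fun h => isFormallyEtaleHom_of_isUnivThickening_id f h.2⟩

end part1

section part2
variable {X S X' : Scheme.{u}} (f : X ⟶ S) (i : X ⟶ X') (h' : X' ⟶ S)
  (hu : OmegaSh.IsUnivThickening f i h')

include hu in
theorem isIso_of_isFormallyEtaleHom (hf : MoreMor.IsFormallyEtaleHom f) : IsIso i := by
  have hu₀ := isUnivThickening_id_of_isFormallyEtaleHom f hf
  have hiso := isIso_comparison hu₀ hu (𝟙 X) (Category.id_comp _)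
  have h1 := comparison_fac hu₀ hu (𝟙 X) (Category.id_comp _)
  rw [Category.id_comp, Category.id_comp] at h1
  rwa [h1] at hiso

theorem isZero_idealMod_of_isIso [IsIso i] : IsZero (ClSub.idealMod i.ker) := by
  refine Groth.Agent.Lib.Helper20.OmegaUnr.isZero_of_basis _ Set.univ ?_ ?_
  · rw [Opens.isBasis_iff_nbhd]
    intro U x hx
    exact ⟨U, trivial, hx, le_rfl⟩
  · intro U _
    refine ⟨fun s t => ?_⟩
    apply idealSect_injective
    have hinj : Function.Injective (i.app U) := (ConcreteCategory.bijective_of_isIso (i.app U)).1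
    apply hinj
    rw [app_idealSect_eq_zero, app_idealSect_eq_zero]

theorem isZero_conormal_of_isIso [IsIso i] : IsZero (Omega.conormal i) :=
  (Scheme.Modules.pullback i).map_isZero (isZero_idealMod_of_isIso i)

theorem ker_eq_bot_of_isZero_conormal [IsClosedImmersion i] (hsq : i.ker * i.ker = ⊥)
    (hz : IsZero (Omega.conormal i)) : i.ker = ⊥ := by
  rw [eq_bot_iff, Scheme.IdealSheafData.le_def]
  rintro ⟨W, hW⟩ x hx
  rw [Scheme.Hom.ker_apply, RingHom.mem_ker] at hx
  obtain ⟨s, rfl⟩ := exists_idealSect_eq i W x hx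
  have hV : IsAffineOpen (i ⁻¹ᵁ W) := hW.preimage i
  letI alg : Algebra Γ(X', W) Γ(X, i ⁻¹ᵁ W) := (i.appLE W (i ⁻¹ᵁ W) le_rfl).hom.toAlgebra
  have halg : ∀ b, algebraMap Γ(X', W) Γ(X, i ⁻¹ᵁ W) b = i.app W b := by
    intro b
    change (i.appLE W (i ⁻¹ᵁ W) le_rfl).hom b = _
    rw [Scheme.Hom.appLE_eq_app]
  obtain ⟨e, he⟩ := exists_pullback_equiv i (ClSub.idealMod i.ker) (V := W) (U := i ⁻¹ᵁ W) le_rfl
    hW hV rfl
  haveI : Subsingleton Γ((Scheme.Modules.pullback i).obj (ClSub.idealMod i.ker), i ⁻¹ᵁ W) :=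
    Groth.Agent.Lib.Helper20.OmegaUnr.subsingleton_sections_of_isZero hz (i ⁻¹ᵁ W)
  have h1 : (1 : Γ(X, i ⁻¹ᵁ W)) ⊗ₜ[Γ(X', W)] s = 0 := e.injective (Subsingleton.elim _ _)
  have hsurj : Function.Surjective (algebraMap Γ(X', W) Γ(X, i ⁻¹ᵁ W)) := by
    intro y
    obtain ⟨b, hb⟩ := i.app_surjective W hW y
    exact ⟨b, (halg b).trans hb⟩
  have h2 := mem_smul_top_of_one_tmul_eq_zero' hsurj s h1
  have hker : ∀ a ∈ RingHom.ker (algebraMap Γ(X', W) Γ(X, i ⁻¹ᵁ W)),
      a ∈ i.ker.ideal ⟨W, hW⟩ := by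
    intro a ha
    rw [Scheme.Hom.ker_apply, RingHom.mem_ker]
    rw [RingHom.mem_ker, halg] at ha
    exact ha
  have hsq' : i.ker.ideal ⟨W, hW⟩ * i.ker.ideal ⟨W, hW⟩ = ⊥ := by
    have := congrArg (fun I : X'.IdealSheafData => I.ideal ⟨W, hW⟩) hsq
    exact this
  have h3 : OmegaSh.idealSect i.ker W s ∈ i.ker.ideal ⟨W, hW⟩ * i.ker.ideal ⟨W, hW⟩ := by
    refine Submodule.smul_induction_on h2 ?_ ?_
    · intro a ha m _
      rw [idealSect_smul]
      refine Ideal.mul_mem_mul (hker a ha) ?_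
      rw [Scheme.Hom.ker_apply, RingHom.mem_ker]
      exact app_idealSect_eq_zero i W m
    · intro m₁ m₂ h₁ h₂
      rw [map_add]
      exact Ideal.add_mem _ h₁ h₂
  rw [hsq'] at h3
  exact h3

include hu in
theorem part2_S9750 : MoreMor.IsFormallyEtaleHom f ↔ IsZero (Omega.conormal i) := by
  constructor
  · intro hf
    haveI := isIso_of_isFormallyEtaleHom f i h' hu hf
    exact isZero_conormal_of_isIso i
  · intro hz
    obtain ⟨hi, hih, huniv⟩ := id hu
    haveI : IsClosedImmersion i := hi.1.1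
    have hk := ker_eq_bot_of_isZero_conormal i hi.2 hz
    haveI : IsIso i := IsClosedImmersion.isIso_iff_ker_eq_bot.mpr hk
    have hif : inv i ≫ f = h' := by rw [IsIso.inv_comp_eq, hih]
    apply isFormallyEtaleHom_of_isUnivThickening_id
    refine ⟨isFirstOrderThickening_id, Category.id_comp _, ?_⟩
    intro T T' j b a hj hw
    obtain ⟨a', ⟨h1, h2⟩, huniq⟩ := huniv T T' j b a hj hw
    refine ⟨a' ≫ inv i, ⟨?_, ?_⟩, ?_⟩
    · rw [← Category.assoc, h1, Category.assoc, IsIso.hom_inv_id, Category.comp_id]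
    · rw [Category.assoc, hif, h2]
    · rintro a'' ⟨h1', h2'⟩
      rw [Category.comp_id] at h1'
      have := huniq (a'' ≫ i) ⟨by rw [← Category.assoc, h1'], by
        rw [Category.assoc, hih, h2']⟩
      rw [← this, Category.assoc, IsIso.hom_inv_id, Category.comp_id]

end part2

theorem main_S9750 {X S : Scheme.{u}} (f : X ⟶ S) :
    (MoreMor.IsFormallyEtaleHom f ↔ FormallyUnramified f ∧ OmegaSh.IsUnivThickening f (𝟙 X) f) ∧
    (∀ {X' : Scheme.{u}} (i : X ⟶ X') (h' : X' ⟶ S) [QuasiCompact i], FormallyUnramified f →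
      OmegaSh.IsUnivThickening f i h' →
        (MoreMor.IsFormallyEtaleHom f ↔ IsZero (Omega.conormal i))) :=
  ⟨part1_S9750 f, fun i h' _ _ hu => part2_S9750 f i h' hu⟩

end Groth.Agent.Helper18UT
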