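import Mathlib
import Groth.Prelude.Def_Omega3
import Groth.Agent.Lib.Helper18UT4
import Groth.Agent.Lib.Helper22ThickAffine
import Groth.Agent.S9740

set_option autoImplicit false
set_option linter.style.haveILetI false
universe u
open CategoryTheory AlgebraicGeometry Limits TopologicalSpace

namespace Groth.Agent.Helper18UT

section charts
variable {Z Z' X : Scheme.{u}} (h : Z ⟶ X) [FormallyUnramified h] (i : Z ⟶ Z') (h' : Z' ⟶ X)
  (hu : OmegaSh.IsUnivThickening h i h')

include hu in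
/-- charts adapted to a universal first order thickening: around every point of `Z'` there are
affine opens `V' ⊆ Z'`, `U ⊆ X`, with `V = i⁻¹V'` affine, such that the restricted triple is again
a universal first order thickening (of affine schemes). -/
theorem exists_chart (z' : Z') : ∃ (U : X.Opens) (V' : Z'.Opens) (_ : IsAffineOpen U)
    (_ : IsAffineOpen V') (_ : IsAffineOpen (i ⁻¹ᵁ V')) (hVU : i ⁻¹ᵁ V' ≤ h ⁻¹ᵁ U)
    (hV'U : V' ≤ h' ⁻¹ᵁ U), z' ∈ V' ∧
      OmegaSh.IsUnivThickening (h.resLE U (i ⁻¹ᵁ V') hVU) (i.resLE V' (i ⁻¹ᵁ V') le_rfl)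
        (h'.resLE U V' hV'U) := by
  obtain ⟨⟨⟨hci, hsurj⟩, hsq⟩, hih, huniv⟩ := id hu
  haveI := hci
  have hhomeo : IsHomeomorph i :=
    Groth.Agent.Lib.Helper22.ThickAffine.isHomeomorph_of_surjective i hsurj.surj
  obtain ⟨z, rfl⟩ := hsurj.surj z'
  obtain ⟨U, hU, hzU, -⟩ := exists_isAffineOpen_mem_and_subset (x := h z) (U := ⊤) trivial
  obtain ⟨V, hV, hzV, hVU⟩ := exists_isAffineOpen_mem_and_subset (x := z) (U := h ⁻¹ᵁ U) hzU
  let V' : Z'.Opens := ⟨i '' (V : Set Z), hhomeo.isOpenMap _ V.isOpen⟩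
  have hV'eq : i ⁻¹ᵁ V' = V := by
    ext y
    constructor
    · rintro ⟨y', hy', hyy'⟩
      rwa [← hhomeo.injective hyy']
    · intro hy
      exact ⟨y, hy, rfl⟩
  have hpt : ∀ y : Z, h' (i y) = h y := fun y => by
    rw [← Scheme.Hom.comp_apply, hih]
  have hV'U : V' ≤ h' ⁻¹ᵁ U := by
    rintro _ ⟨y, hy, rfl⟩
    change h' (i y) ∈ U
    rw [hpt]
    exact hVU hy
  have hVU' : i ⁻¹ᵁ V' ≤ h ⁻¹ᵁ U := by rw [hV'eq]; exact hVU
  have hVaff : IsAffineOpen (i ⁻¹ᵁ V') := by rw [hV'eq]; exact hV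
  have hres := Groth.Agent.S9740.result h i h' hu (i ⁻¹ᵁ V') U hVU' V' rfl hV'U
  have hV'aff : IsAffineOpen V' := by
    obtain ⟨⟨⟨hci', hsurj'⟩, -⟩, -, -⟩ := hres
    haveI := hci'
    haveI : IsAffine (i ⁻¹ᵁ V').toScheme := hVaff
    exact Groth.Agent.Lib.Helper22.ThickAffine.isAffine_of_thickening
      (i.resLE V' (i ⁻¹ᵁ V') le_rfl) hsurj'.surj
  exact ⟨U, V', hU, hV'aff, hVaff, hVU', hV'U, ⟨z, hzV, rfl⟩, hres⟩

include hu in
/-- **S9732**: the universal first order thickening of a formally unramified morphism is formally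
unramified over the base. -/
theorem main_S9732 : FormallyUnramified h' := by
  rw [HasRingHomProperty.iff_exists_appLE (P := @FormallyUnramified)
    (RingHom.FormallyUnramified.stableUnderComposition.stableUnderCompositionWithLocalizationAway
      RingHom.FormallyUnramified.holdsForLocalizationAway).1]
  intro z'
  obtain ⟨U, V', hU, hV', hV, hVU, hV'U, hz', hres⟩ := exists_chart h i h' hu z'
  refine ⟨⟨U, hU⟩, ⟨V', hV'⟩, hz', hV'U, ?_⟩
  haveI : IsAffine U.toScheme := hU
  haveI : IsAffine V'.toScheme := hV'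
  haveI : IsAffine (i ⁻¹ᵁ V').toScheme := hV
  have h1 := formallyUnramified_appTop _ _ _ hres
  exact (RingHom.FormallyUnramified.respectsIso.arrow_mk_iso_iff
    (arrowResLEAppIso h' U V' hV'U)).mp h1

end charts

end Groth.Agent.Helper18UT
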