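import Mathlib
import Groth.Prelude.Def_Omega3

set_option autoImplicit false
set_option linter.style.haveILetI false
universe u

namespace Groth.Agent.Lib.Helper18UnivThick3
open TensorProduct

theorem main9463 (A B B' : Type u) [CommRing A] [CommRing B]
    [CommRing B'] [Algebra A B] [Algebra A B'] (π : B' →ₐ[A] B)
    (hπ : OmegaSh.IsUnivThickeningRing A B B' π) (S : Submonoid A)
    (AS BS B'S : Type u) [CommRing AS] [CommRing BS] [CommRing B'S]
    [Algebra A AS] [IsLocalization S AS]
    [Algebra B BS] [IsLocalization (Algebra.algebraMapSubmonoid B S) BS]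
    [Algebra B' B'S] [IsLocalization (Algebra.algebraMapSubmonoid B' S) B'S]
    [Algebra AS BS] [Algebra A BS] [IsScalarTower A AS BS] [IsScalarTower A B BS]
    [Algebra AS B'S] [Algebra A B'S] [IsScalarTower A AS B'S] [IsScalarTower A B' B'S]
    (πS : B'S →ₐ[AS] BS) (hπS : ∀ x : B', πS (algebraMap B' B'S x) = algebraMap B BS (π x)) :
    OmegaSh.IsUnivThickeningRing AS BS B'S πS := by
  obtain ⟨hsurj, hsq, huniv⟩ := hπ
  have hker : ∀ x, πS x = 0 → ∃ n : B', π n = 0 ∧
      ∃ t : Algebra.algebraMapSubmonoid B' S, x = IsLocalization.mk' B'S n t := by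
    intro x hx
    obtain ⟨b', t, rfl⟩ := IsLocalization.exists_mk'_eq (Algebra.algebraMapSubmonoid B' S) x
    have h1 : πS (algebraMap B' B'S b') = 0 := by
      rw [← IsLocalization.mk'_spec B'S b' t, map_mul, hx, zero_mul]
    rw [hπS, IsLocalization.map_eq_zero_iff (Algebra.algebraMapSubmonoid B S)] at h1
    obtain ⟨⟨c, s₂, hs₂, rfl⟩, hc⟩ := h1
    refine ⟨algebraMap A B' s₂ * b', ?_,
      (⟨algebraMap A B' s₂, Algebra.mem_algebraMapSubmonoid_of_mem ⟨s₂, hs₂⟩⟩ :
        Algebra.algebraMapSubmonoid B' S) * t, ?_⟩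
    · rw [map_mul, π.commutes]; exact hc
    · rw [IsLocalization.eq_mk'_iff_mul_eq]
      simp only [Submonoid.coe_mul, map_mul]
      rw [← IsLocalization.mk'_spec B'S b' t]
      ring
  refine ⟨?_, ?_, ?_⟩
  · intro y
    obtain ⟨b, ⟨t, ht⟩, rfl⟩ := IsLocalization.exists_mk'_eq (Algebra.algebraMapSubmonoid B S) y
    obtain ⟨s, hs, rfl⟩ := ht
    obtain ⟨b', rfl⟩ := hsurj b
    let t' : Algebra.algebraMapSubmonoid B' S :=
      ⟨algebraMap A B' s, Algebra.mem_algebraMapSubmonoid_of_mem ⟨s, hs⟩⟩
    refine ⟨IsLocalization.mk' B'S b' t', ?_⟩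
    rw [IsLocalization.eq_mk'_iff_mul_eq]
    simp only
    rw [← π.commutes, ← hπS, ← hπS, ← map_mul]
    congr 1
    exact IsLocalization.mk'_spec B'S b' t'
  · rw [eq_bot_iff, pow_two, Ideal.mul_le]
    intro x hx y hy
    obtain ⟨n₁, hn₁, t₁, rfl⟩ := hker x hx
    obtain ⟨n₂, hn₂, t₂, rfl⟩ := hker y hy
    rw [Ideal.mem_bot, ← IsLocalization.mk'_mul]
    have : n₁ * n₂ = 0 := by
      have : n₁ * n₂ ∈ RingHom.ker π.toRingHom ^ 2 := by
        rw [pow_two]
        exact Ideal.mul_mem_mul hn₁ hn₂
      rwa [hsq, Ideal.mem_bot] at this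
    rw [this, IsLocalization.mk'_zero]
  · intro C _ _ I hI a
    letI : Algebra A C := ((algebraMap AS C).comp (algebraMap A AS)).toAlgebra
    haveI : IsScalarTower A AS C := .of_algebraMap_eq (fun _ => rfl)
    have halgq : ∀ x : A, algebraMap A (C ⧸ I) x = algebraMap AS (C ⧸ I) (algebraMap A AS x) :=
      fun _ => rfl
    let a₀ : B →ₐ[A] C ⧸ I :=
      { toRingHom := a.toRingHom.comp (algebraMap B BS)
        commutes' := fun x => by
          simp only [RingHom.toMonoidHom_eq_coe, AlgHom.toRingHom_eq_coe, OneHom.toFun_eq_coe,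
            MonoidHom.toOneHom_coe, MonoidHom.coe_coe, RingHom.coe_comp, RingHom.coe_coe,
            Function.comp_apply]
          rw [← IsScalarTower.algebraMap_apply A B BS, IsScalarTower.algebraMap_apply A AS BS,
            a.commutes, halgq] }
    have ha₀ : ∀ b, a₀ b = a (algebraMap B BS b) := fun _ => rfl
    obtain ⟨a₀', ha₀', huniq⟩ := huniv C I hI a₀
    have hunit : ∀ t : Algebra.algebraMapSubmonoid B' S, IsUnit (a₀'.toRingHom t) := by
      rintro ⟨_, s, hs, rfl⟩
      simp only [AlgHom.toRingHom_eq_coe, RingHom.coe_coe, AlgHom.commutes]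
      rw [IsScalarTower.algebraMap_apply A AS C]
      exact (IsLocalization.map_units AS ⟨s, hs⟩).map _
    let r : B'S →+* C := IsLocalization.lift hunit
    have hr : ∀ b', r (algebraMap B' B'S b') = a₀' b' := fun b' => IsLocalization.lift_eq hunit b'
    let a' : B'S →ₐ[AS] C :=
      { toRingHom := r
        commutes' := fun x => by
          simp only [RingHom.toMonoidHom_eq_coe, OneHom.toFun_eq_coe,
            MonoidHom.toOneHom_coe, MonoidHom.coe_coe]
          have : r.comp (algebraMap AS B'S) = algebraMap AS C := by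
            apply IsLocalization.ringHom_ext S
            ext y
            simp only [RingHom.comp_apply]
            rw [← IsScalarTower.algebraMap_apply A AS B'S, IsScalarTower.algebraMap_apply A B' B'S,
              hr, a₀'.commutes, IsScalarTower.algebraMap_apply A AS C]
          exact congr($this x) }
    have ha'r : ∀ x, a' x = r x := fun _ => rfl
    refine ⟨a', ?_, ?_⟩
    · apply AlgHom.coe_ringHom_injective
      apply IsLocalization.ringHom_ext (Algebra.algebraMapSubmonoid B' S)
      ext b'
      simp only [RingHom.comp_apply, RingHom.coe_coe, AlgHom.comp_apply,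
        Ideal.Quotient.mkₐ_eq_mk]
      rw [ha'r, hr, hπS, ← ha₀]
      have := congr($ha₀' b')
      simpa using this
    · intro a'' ha''
      have h2 : a''.toRingHom.comp (algebraMap B' B'S) = a₀'.toRingHom := by
        let c : B' →ₐ[A] C :=
          { toRingHom := a''.toRingHom.comp (algebraMap B' B'S)
            commutes' := fun x => by
              simp only [RingHom.toMonoidHom_eq_coe, AlgHom.toRingHom_eq_coe, OneHom.toFun_eq_coe,
                MonoidHom.toOneHom_coe, MonoidHom.coe_coe, RingHom.coe_comp, RingHom.coe_coe,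
                Function.comp_apply]
              rw [← IsScalarTower.algebraMap_apply A B' B'S,
                IsScalarTower.algebraMap_apply A AS B'S, a''.commutes,
                ← IsScalarTower.algebraMap_apply A AS C] }
        have hc : c = a₀' := by
          apply huniq
          apply AlgHom.ext
          intro b'
          have := congr($ha'' (algebraMap B' B'S b'))
          simp only [AlgHom.comp_apply, Ideal.Quotient.mkₐ_eq_mk] at this ⊢
          rw [ha₀, ← hπS]
          exact this
        rw [← hc]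
      apply AlgHom.coe_ringHom_injective
      apply IsLocalization.ringHom_ext (Algebra.algebraMapSubmonoid B' S)
      ext b'
      have := congr($h2 b')
      simp only [RingHom.comp_apply, AlgHom.toRingHom_eq_coe, RingHom.coe_coe] at this ⊢
      rw [this, ha'r, hr]



theorem main9464 (A B B' : Type u) [CommRing A] [CommRing B]
    [CommRing B'] [Algebra A B] [Algebra A B'] (π : B' →ₐ[A] B)
    (hπ : OmegaSh.IsUnivThickeningRing A B B' π) (S : Submonoid B)
    (BS B'S : Type u) [CommRing BS] [CommRing B'S]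
    [Algebra B BS] [IsLocalization S BS]
    [Algebra B' B'S] [IsLocalization (S.comap π.toRingHom.toMonoidHom) B'S]
    [Algebra A BS] [IsScalarTower A B BS] [Algebra A B'S] [IsScalarTower A B' B'S]
    (πS : B'S →ₐ[A] BS) (hπS : ∀ x : B', πS (algebraMap B' B'S x) = algebraMap B BS (π x)) :
    OmegaSh.IsUnivThickeningRing A BS B'S πS := by
  obtain ⟨hsurj, hsq, huniv⟩ := hπ
  have hmemS' : ∀ t' : B', t' ∈ S.comap π.toRingHom.toMonoidHom ↔ π t' ∈ S := fun _ => Iff.rfl
  have hker : ∀ x, πS x = 0 → ∃ n : B', π n = 0 ∧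
      ∃ t : S.comap π.toRingHom.toMonoidHom, x = IsLocalization.mk' B'S n t := by
    intro x hx
    obtain ⟨b', t, rfl⟩ := IsLocalization.exists_mk'_eq (S.comap π.toRingHom.toMonoidHom) x
    have h1 : πS (algebraMap B' B'S b') = 0 := by
      rw [← IsLocalization.mk'_spec B'S b' t, map_mul, hx, zero_mul]
    rw [hπS, IsLocalization.map_eq_zero_iff S] at h1
    obtain ⟨⟨c, hcS⟩, hc⟩ := h1
    obtain ⟨c', rfl⟩ := hsurj c
    refine ⟨c' * b', ?_, (⟨c', (hmemS' c').mpr hcS⟩ : S.comap π.toRingHom.toMonoidHom) * t, ?_⟩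
    · rw [map_mul]; exact hc
    · rw [IsLocalization.eq_mk'_iff_mul_eq]
      simp only [Submonoid.coe_mul, map_mul]
      rw [← IsLocalization.mk'_spec B'S b' t]
      ring
  refine ⟨?_, ?_, ?_⟩
  · intro y
    obtain ⟨b, ⟨t, ht⟩, rfl⟩ := IsLocalization.exists_mk'_eq S y
    obtain ⟨t', rfl⟩ := hsurj t
    obtain ⟨b', rfl⟩ := hsurj b
    let t'' : S.comap π.toRingHom.toMonoidHom := ⟨t', (hmemS' t').mpr ht⟩
    refine ⟨IsLocalization.mk' B'S b' t'', ?_⟩
    rw [IsLocalization.eq_mk'_iff_mul_eq]
    simp only
    rw [← hπS, ← hπS, ← map_mul]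
    congr 1
    exact IsLocalization.mk'_spec B'S b' t''
  · rw [eq_bot_iff, pow_two, Ideal.mul_le]
    intro x hx y hy
    obtain ⟨n₁, hn₁, t₁, rfl⟩ := hker x hx
    obtain ⟨n₂, hn₂, t₂, rfl⟩ := hker y hy
    rw [Ideal.mem_bot, ← IsLocalization.mk'_mul]
    have : n₁ * n₂ = 0 := by
      have : n₁ * n₂ ∈ RingHom.ker π.toRingHom ^ 2 := by
        rw [pow_two]
        exact Ideal.mul_mem_mul hn₁ hn₂
      rwa [hsq, Ideal.mem_bot] at this
    rw [this, IsLocalization.mk'_zero]
  · intro C _ _ I hI a
    let a₀ : B →ₐ[A] C ⧸ I :=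
      { toRingHom := a.toRingHom.comp (algebraMap B BS)
        commutes' := fun x => by
          simp only [RingHom.toMonoidHom_eq_coe, AlgHom.toRingHom_eq_coe, OneHom.toFun_eq_coe,
            MonoidHom.toOneHom_coe, MonoidHom.coe_coe, RingHom.coe_comp, RingHom.coe_coe,
            Function.comp_apply]
          rw [← IsScalarTower.algebraMap_apply A B BS, a.commutes] }
    have ha₀ : ∀ b, a₀ b = a (algebraMap B BS b) := fun _ => rfl
    obtain ⟨a₀', ha₀', huniq⟩ := huniv C I hI a₀
    have ha₀'' : ∀ b', Ideal.Quotient.mk I (a₀' b') = a (algebraMap B BS (π b')) := by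
      intro b'
      have := congr($ha₀' b')
      rw [← ha₀]
      simpa using this
    have hunit : ∀ t : S.comap π.toRingHom.toMonoidHom, IsUnit (a₀'.toRingHom t) := by
      rintro ⟨t, ht⟩
      rw [← IsNilpotent.isUnit_quotient_mk_iff (I := I) ⟨2, hI⟩]
      simp only [AlgHom.toRingHom_eq_coe, RingHom.coe_coe]
      rw [ha₀'']
      exact (IsLocalization.map_units BS ⟨π t, ht⟩).map _
    let r : B'S →+* C := IsLocalization.lift hunit
    have hr : ∀ b', r (algebraMap B' B'S b') = a₀' b' := fun b' => IsLocalization.lift_eq hunit b'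
    let a' : B'S →ₐ[A] C :=
      { toRingHom := r
        commutes' := fun x => by
          simp only [RingHom.toMonoidHom_eq_coe, OneHom.toFun_eq_coe,
            MonoidHom.toOneHom_coe, MonoidHom.coe_coe]
          rw [IsScalarTower.algebraMap_apply A B' B'S, hr, a₀'.commutes] }
    have ha'r : ∀ x, a' x = r x := fun _ => rfl
    refine ⟨a', ?_, ?_⟩
    · apply AlgHom.coe_ringHom_injective
      apply IsLocalization.ringHom_ext (S.comap π.toRingHom.toMonoidHom)
      ext b'
      simp only [RingHom.comp_apply, RingHom.coe_coe, AlgHom.comp_apply,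
        Ideal.Quotient.mkₐ_eq_mk]
      rw [ha'r, hr, hπS, ha₀'']
    · intro a'' ha''
      have h2 : a''.toRingHom.comp (algebraMap B' B'S) = a₀'.toRingHom := by
        let c : B' →ₐ[A] C :=
          { toRingHom := a''.toRingHom.comp (algebraMap B' B'S)
            commutes' := fun x => by
              simp only [RingHom.toMonoidHom_eq_coe, AlgHom.toRingHom_eq_coe, OneHom.toFun_eq_coe,
                MonoidHom.toOneHom_coe, MonoidHom.coe_coe, RingHom.coe_comp, RingHom.coe_coe,
                Function.comp_apply]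
              rw [← IsScalarTower.algebraMap_apply A B' B'S, a''.commutes] }
        have hc : c = a₀' := by
          apply huniq
          apply AlgHom.ext
          intro b'
          have := congr($ha'' (algebraMap B' B'S b'))
          simp only [AlgHom.comp_apply, Ideal.Quotient.mkₐ_eq_mk] at this ⊢
          rw [ha₀, ← hπS]
          exact this
        rw [← hc]
      apply AlgHom.coe_ringHom_injective
      apply IsLocalization.ringHom_ext (S.comap π.toRingHom.toMonoidHom)
      ext b'
      have := congr($h2 b')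
      simp only [RingHom.comp_apply, AlgHom.toRingHom_eq_coe, RingHom.coe_coe] at this ⊢
      rw [this, ha'r, hr]

end Groth.Agent.Lib.Helper18UnivThick3
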