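import Mathlib

universe u
set_option linter.style.haveILetI false
open TensorProduct KaehlerDifferential MvPolynomial

namespace Groth.Agent.Helper18Unr

variable {R S : Type u} [CommRing R] [CommRing S] [Algebra R S] {ι : Type*}

lemma mem_ker_iff (P : Algebra.Generators R S ι) (x : P.Ring) :
    x ∈ P.ker ↔ aeval P.val x = 0 := by
  rw [← Algebra.Generators.algebraMap_apply]
  exact RingHom.mem_ker

set_option backward.isDefEq.respectTransparency false in
/-- Formal unramifiedness in terms of generators: each `dXᵢ` is, modulo the kernel, the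
differential of an element of the kernel. -/
lemma formallyUnramified_iff (P : Algebra.Generators R S ι) :
    Algebra.FormallyUnramified R S ↔
      ∀ i, ∃ G ∈ P.ker, ∀ k, pderiv k (X i - G) ∈ P.ker := by
  constructor
  · intro h i
    have hex := P.toExtension.exact_cotangentComplex_toKaehler
    have h0 : P.toExtension.toKaehler (P.cotangentSpaceBasis i) = 0 := Subsingleton.elim _ _
    obtain ⟨c, hc⟩ := (hex _).mp h0
    obtain ⟨G, rfl⟩ := Algebra.Extension.Cotangent.mk_surjective c
    rw [Algebra.Extension.cotangentComplex_mk, Algebra.Generators.cotangentSpaceBasis_apply] at hc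
    refine ⟨G.1, G.2, fun k => ?_⟩
    rw [mem_ker_iff, map_sub, map_sub, sub_eq_zero]
    have := congrArg (fun y => P.cotangentSpaceBasis.repr y k) hc
    have e1 := P.cotangentSpaceBasis_repr_one_tmul (X i) k
    have e2 := P.cotangentSpaceBasis_repr_one_tmul G.1 k
    exact e1.symm.trans (this.symm.trans e2)
  · intro h
    have hex := P.toExtension.exact_cotangentComplex_toKaehler
    have hsurj := P.toExtension.toKaehler_surjective
    have hrange : LinearMap.range P.toExtension.cotangentComplex = ⊤ := by
      rw [eq_top_iff, ← P.cotangentSpaceBasis.span_eq, Submodule.span_le]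
      rintro _ ⟨i, rfl⟩
      obtain ⟨G, hG, hGk⟩ := h i
      refine ⟨Algebra.Extension.Cotangent.mk ⟨G, hG⟩, ?_⟩
      rw [Algebra.Extension.cotangentComplex_mk, Algebra.Generators.cotangentSpaceBasis_apply]
      apply P.cotangentSpaceBasis.repr.injective
      ext k
      have e1 := P.cotangentSpaceBasis_repr_one_tmul (X i) k
      have e2 := P.cotangentSpaceBasis_repr_one_tmul G k
      have := (mem_ker_iff P _).mp (hGk k)
      rw [map_sub, map_sub, sub_eq_zero] at this
      exact e2.trans (this.symm.trans e1.symm)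
    refine ⟨⟨fun a b => ?_⟩⟩
    obtain ⟨a', rfl⟩ := hsurj a
    obtain ⟨b', rfl⟩ := hsurj b
    have ha : a' ∈ LinearMap.range P.toExtension.cotangentComplex := hrange ▸ Submodule.mem_top
    have hb : b' ∈ LinearMap.range P.toExtension.cotangentComplex := hrange ▸ Submodule.mem_top
    rw [(hex a').mpr ha, (hex b').mpr hb]

theorem main (R : Type u) [CommRing R] (S : Type u) [CommRing S]
    [Algebra R S] [Algebra.FinitePresentation R S] [Algebra.FormallyUnramified R S] :
    ∃ (R₀ : Type u) (_ : CommRing R₀) (_ : Algebra.FiniteType ℤ R₀) (S₀ : Type u) (_ : CommRing S₀)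
      (_ : Algebra R₀ S₀) (_ : Algebra.FinitePresentation R₀ S₀)
      (_ : Algebra.FormallyUnramified R₀ S₀)
      (_ : Algebra R₀ R), Nonempty (R ⊗[R₀] S₀ ≃ₐ[R] S) := by
  classical
  let P := Algebra.Presentation.ofFinitePresentation R S
  have hU := (formallyUnramified_iff P.toGenerators).mp inferInstance
  choose G hG hGk using hU
  have hker : P.ker = Ideal.span (Set.range P.relation) := P.span_range_relation_eq_ker.symm
  have h1 : ∀ i, ∃ a : _ → MvPolynomial _ R, ∑ j, a j * P.relation j = G i := fun i => by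
    have := hG i
    rw [hker] at this
    exact (Ideal.mem_span_range_iff_exists_fun).mp this
  choose a ha using h1
  have h2 : ∀ i k, ∃ b : _ → MvPolynomial _ R,
      ∑ j, b j * P.relation j = pderiv k (X i - G i) := fun i k => by
    have := hGk i k
    rw [hker] at this
    exact (Ideal.mem_span_range_iff_exists_fun).mp this
  choose b hb using h2
  let T : Set R := P.coeffs ∪ (⋃ i, ⋃ j, ((a i j).coeffs : Set R)) ∪
    (⋃ i, ⋃ k, ⋃ j, ((b i k j).coeffs : Set R))
  have hT : T.Finite := by
    refine Set.Finite.union (Set.Finite.union P.finite_coeffs ?_) ?_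
    · exact Set.finite_iUnion fun i => Set.finite_iUnion fun j => Finset.finite_toSet _
    · exact Set.finite_iUnion fun i => Set.finite_iUnion fun k =>
        Set.finite_iUnion fun j => Finset.finite_toSet _
  let A₀ : Subalgebra ℤ R := Algebra.adjoin ℤ T
  haveI : Algebra.FiniteType ℤ A₀ := Algebra.FiniteType.adjoin_of_finite hT
  have hTsub : T ⊆ Set.range (algebraMap A₀ R) := by
    intro x hx
    exact ⟨⟨x, Algebra.subset_adjoin hx⟩, rfl⟩
  haveI : P.HasCoeffs A₀ := ⟨fun x hx => hTsub (Or.inl (Or.inl hx))⟩
  have hinj : Function.Injective (MvPolynomial.map (σ := Fin (Algebra.Presentation.ofFinitePresentationVars R S))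
      (algebraMap A₀ R)) :=
    MvPolynomial.map_injective _ Subtype.val_injective
  have ha0 : ∀ i j, ∃ a0 : MvPolynomial _ A₀, MvPolynomial.map (algebraMap A₀ R) a0 = a i j := by
    intro i j
    have : a i j ∈ Set.range (MvPolynomial.map (algebraMap A₀ R)) := by
      rw [MvPolynomial.mem_range_map_iff_coeffs_subset]
      intro x hx
      exact hTsub (Or.inl (Or.inr (Set.mem_iUnion.mpr ⟨i, Set.mem_iUnion.mpr ⟨j, hx⟩⟩)))
    exact this
  choose a0 ha0 using ha0
  have hb0 : ∀ i k j, ∃ b0 : MvPolynomial _ A₀,
      MvPolynomial.map (algebraMap A₀ R) b0 = b i k j := by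
    intro i k j
    have : b i k j ∈ Set.range (MvPolynomial.map (algebraMap A₀ R)) := by
      rw [MvPolynomial.mem_range_map_iff_coeffs_subset]
      intro x hx
      exact hTsub (Or.inr (Set.mem_iUnion.mpr ⟨i, Set.mem_iUnion.mpr ⟨k,
        Set.mem_iUnion.mpr ⟨j, hx⟩⟩⟩))
    exact this
  choose b0 hb0 using hb0
  let rel0 := P.relationOfHasCoeffs A₀
  let S₀ := P.ModelOfHasCoeffs A₀
  let Q : Algebra.Presentation A₀ S₀ _ _ := Algebra.Presentation.naive (v := rel0)
  have hQker : Q.ker = Ideal.span (Set.range rel0) := Q.span_range_relation_eq_ker.symm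
  have hunr : Algebra.FormallyUnramified A₀ S₀ := by
    rw [formallyUnramified_iff Q.toGenerators]
    intro i
    have hGmap : MvPolynomial.map (algebraMap A₀ R) (∑ j, a0 i j * rel0 j) = G i := by
      rw [map_sum, ← ha i]
      refine Finset.sum_congr rfl fun j _ => ?_
      rw [map_mul, ha0, P.map_relationOfHasCoeffs]
    refine ⟨∑ j, a0 i j * rel0 j, ?_, fun k => ?_⟩
    · rw [hQker]
      exact Ideal.sum_mem _ fun j _ => Ideal.mul_mem_left _ _ (Ideal.subset_span ⟨j, rfl⟩)
    · have : pderiv k (X i - ∑ j, a0 i j * rel0 j) = ∑ j, b0 i k j * rel0 j := by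
        apply hinj
        rw [← MvPolynomial.pderiv_map, map_sub, hGmap, MvPolynomial.map_X, ← hb i k, map_sum]
        refine Finset.sum_congr rfl fun j _ => ?_
        rw [map_mul, hb0, P.map_relationOfHasCoeffs]
      rw [this, hQker]
      exact Ideal.sum_mem _ fun j _ => Ideal.mul_mem_left _ _ (Ideal.subset_span ⟨j, rfl⟩)
  have hft : @Algebra.FiniteType ℤ A₀ _ _ (Ring.toIntAlgebra A₀) := by
    have e : (Ring.toIntAlgebra A₀ : Algebra ℤ A₀) = Subalgebra.algebra A₀ := Subsingleton.elim _ _
    rw [e]
    infer_instance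
  exact ⟨A₀, inferInstance, hft, S₀, inferInstance, inferInstance, inferInstance, hunr,
    inferInstance, ⟨P.tensorModelOfHasCoeffsEquiv A₀⟩⟩

end Groth.Agent.Helper18Unr
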