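import Mathlib

set_option autoImplicit false
universe u

namespace Groth.Agent.Helper18Unr

open TensorProduct KaehlerDifferential

variable (A B : Type u) [CommRing A] [CommRing B] [Algebra A B]

/-- the fibre of the differentials at a prime is spanned by the classes `1 ⊗ d b` -/
theorem span_tmul_D (q : Ideal B) [q.IsPrime] :
    Submodule.span q.ResidueField
      (Set.range (fun b : B => (1 : q.ResidueField) ⊗ₜ[B] D A B b)) = ⊤ := by
  rw [eq_top_iff]
  rintro t -
  induction t using TensorProduct.induction_on with
  | zero => exact Submodule.zero_mem _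
  | add x y hx hy => exact Submodule.add_mem _ hx hy
  | tmul c ω =>
    have hω : ω ∈ Submodule.span B (Set.range (D A B)) := by
      rw [KaehlerDifferential.span_range_derivation]; trivial
    induction hω using Submodule.span_induction with
    | mem x hx =>
      obtain ⟨b, rfl⟩ := hx
      have : c ⊗ₜ[B] D A B b = c • ((1 : q.ResidueField) ⊗ₜ[B] D A B b) := by
        rw [TensorProduct.smul_tmul', smul_eq_mul, mul_one]
      rw [this]
      exact Submodule.smul_mem _ _ (Submodule.subset_span ⟨b, rfl⟩)
    | zero => rw [TensorProduct.tmul_zero]; exact Submodule.zero_mem _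
    | add x y _ _ hx hy => rw [TensorProduct.tmul_add]; exact Submodule.add_mem _ hx hy
    | smul a x _ hx =>
      have : c ⊗ₜ[B] (a • x) = (algebraMap B q.ResidueField a) • (c ⊗ₜ[B] x) := by
        rw [TensorProduct.smul_tmul', smul_eq_mul, ← TensorProduct.smul_tmul, Algebra.smul_def,
          mul_comm]
      rw [this]
      exact Submodule.smul_mem _ _ hx

theorem main_S7619 [Algebra.FiniteType A B]
    (q : Ideal B) [q.IsPrime] (r : ℕ)
    (hr : Module.finrank q.ResidueField (q.ResidueField ⊗[B] Ω[B⁄A]) = r) :
    ∃ φ : MvPolynomial (Fin r) A →ₐ[A] B,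
      letI := φ.toRingHom.toAlgebra
      Algebra.IsUnramifiedAt (MvPolynomial (Fin r) A) q := by
  classical
  -- choose `r` elements whose differentials span the fibre
  obtain ⟨g, hg1, hg2, -⟩ := Submodule.exists_fun_fin_finrank_span_eq q.ResidueField
    (Set.range (fun b : B => (1 : q.ResidueField) ⊗ₜ[B] D A B b))
  replace hg2 : Submodule.span q.ResidueField (Set.range g) = ⊤ := hg2.trans (span_tmul_D A B q)
  have hfr : Module.finrank q.ResidueField
      (Submodule.span q.ResidueField
        (Set.range (fun b : B => (1 : q.ResidueField) ⊗ₜ[B] D A B b))) = r := by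
    rw [span_tmul_D A B q, finrank_top, hr]
  choose b hb using hg1
  -- reindex to `Fin r`
  let b' : Fin r → B := fun i => b (Fin.cast hfr.symm i)
  have hspan : Submodule.span q.ResidueField
      (Set.range (fun i : Fin r => (1 : q.ResidueField) ⊗ₜ[B] D A B (b' i))) = ⊤ := by
    rw [← hg2]
    congr 1
    ext y
    constructor
    · rintro ⟨i, rfl⟩
      exact ⟨Fin.cast hfr.symm i, (hb _).symm⟩
    · rintro ⟨i, rfl⟩
      refine ⟨Fin.cast hfr i, ?_⟩
      simp only [b']
      rw [← hb]
      congr 1
  let φ : MvPolynomial (Fin r) A →ₐ[A] B := MvPolynomial.aeval b'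
  refine ⟨φ, ?_⟩
  letI : Algebra (MvPolynomial (Fin r) A) B := φ.toRingHom.toAlgebra
  haveI : IsScalarTower A (MvPolynomial (Fin r) A) B :=
    IsScalarTower.of_algebraMap_eq (fun a => (φ.commutes a).symm)
  haveI : Algebra.FiniteType (MvPolynomial (Fin r) A) B :=
    Algebra.FiniteType.of_restrictScalars_finiteType A (MvPolynomial (Fin r) A) B
  -- the fibre of `Ω[B/P]` vanishes
  let μ : Ω[B⁄A] →ₗ[B] Ω[B⁄MvPolynomial (Fin r) A] :=
    KaehlerDifferential.map A (MvPolynomial (Fin r) A) B B
  have hμ : Function.Surjective μ := KaehlerDifferential.map_surjective A (MvPolynomial (Fin r) A) B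
  let ν : q.ResidueField ⊗[B] Ω[B⁄A] →ₗ[q.ResidueField]
      q.ResidueField ⊗[B] Ω[B⁄MvPolynomial (Fin r) A] := μ.baseChange q.ResidueField
  have hν : Function.Surjective ν := LinearMap.baseChange_surjective q.ResidueField hμ
  have hzero : ∀ t, ν t = 0 := by
    intro t
    have ht : t ∈ Submodule.span q.ResidueField
        (Set.range (fun i : Fin r => (1 : q.ResidueField) ⊗ₜ[B] D A B (b' i))) := by
      rw [hspan]; trivial
    induction ht using Submodule.span_induction with
    | mem x hx =>
      obtain ⟨i, rfl⟩ := hx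
      simp only [ν, μ, LinearMap.baseChange_tmul, KaehlerDifferential.map_D]
      have : (algebraMap B B (b' i)) = algebraMap (MvPolynomial (Fin r) A) B (MvPolynomial.X i) := by
        simp [RingHom.algebraMap_toAlgebra, φ]
      rw [this, Derivation.map_algebraMap, TensorProduct.tmul_zero]
    | zero => exact map_zero _
    | add x y _ _ hx hy => rw [map_add, hx, hy, add_zero]
    | smul a x _ hx => rw [map_smul, hx, smul_zero]
  have hsub : Subsingleton (q.ResidueField ⊗[B] Ω[B⁄MvPolynomial (Fin r) A]) := by
    refine ⟨fun x y => ?_⟩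
    obtain ⟨x', rfl⟩ := hν x
    obtain ⟨y', rfl⟩ := hν y
    rw [hzero, hzero]
  have hmem : (⟨q, inferInstance⟩ : PrimeSpectrum B) ∈
      Algebra.unramifiedLocus (MvPolynomial (Fin r) A) B := by
    rw [Algebra.unramifiedLocus_eq_compl_support, Set.mem_compl_iff,
      Module.mem_support_iff_nontrivial_residueField_tensorProduct]
    exact not_nontrivial _
  exact hmem

end Groth.Agent.Helper18Unr
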