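import Mathlib
import Groth.Prelude.Def_RelProj3
import Groth.Agent.Lib.Helper18VAmpC
import Groth.Agent.Lib.Helper18VAmpD
import Groth.Agent.Lib.Helper23CounitEpi
import Groth.Agent.Lib.Helper23LocGen
import Groth.Agent.Lib.Helper23RestrTensor

/-!
# `f^* f_* (g^* O_{P(E)}(1)) ⟶ g^* O_{P(E)}(1)` is an epimorphism (helper18)
-/

set_option autoImplicit false
universe u
open CategoryTheory CategoryTheory.Limits AlgebraicGeometry TopologicalSpace Opposite

namespace Groth.Agent.Helper18VAmp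

open Groth.Agent.Lib.Helper23.PB Groth.Agent.Lib.Helper23.AmpleIso Groth.Agent.Lib.Helper23.SecTw
  Groth.Agent.Lib.Helper23.LocGen

variable {X Y : Scheme.{u}} (f : X ⟶ Y)
  (𝒮 : RelProj.QCGrAlg Y) (P : Scheme.{u}) (p : P ⟶ Y)
  (chart : ∀ (U : Y.Opens) (hU : IsAffineOpen U), ((p ⁻¹ᵁ U : P.Opens) : Scheme.{u}) ≅ Proj (𝒮.deg U hU))
  (O1 : P.Modules)
  (lam : ∀ (U : Y.Opens) (hU : IsAffineOpen U),
    O1 ⟶ (Scheme.Modules.pushforward (RelProj.emb p chart U hU)).obj (GrTwist.twist (𝒮.deg U hU) 1))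

/-- the pullback of `O(1)` along any `Y`-morphism into the relative Proj of a graded algebra generated in degree one is
generated by its sections over the preimages of the affine opens of `Y`: the counit is an epimorphism. -/
theorem epi_counit_pullback_twist (hgen : 𝒮.IsGenDegOne)
    (hO1 : RelProj.IsRelTwist 𝒮 p chart 1 O1 lam)
    (g : X ⟶ P) (hg : g ≫ p = f) :
    Epi ((Scheme.Modules.pullbackPushforwardAdjunction f).counit.app ((Scheme.Modules.pullback g).obj O1)) := by
  have hcov : ∀ (V : Y.Opens) (hV : IsAffineOpen V) (y : ProjectiveSpectrum (𝒮.deg V hV)),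
      ∃ a ∈ 𝒮.deg V hV 1, a ∉ y.asHomogeneousIdeal := fun V hV y =>
    Groth.Agent.Lib.Helper2.RelTwistGen.exists_degOne_not_mem_of_gen (𝒮.deg V hV) (hgen V hV) y
  have hO1' : RelProj.IsRelTwist 𝒮 p chart ((1 : ℕ) : ℤ) O1 lam := hO1
  have hinv : PicF.IsInvertible O1 :=
    Groth.Agent.Lib.Helper2.RelTwistAmpleB.isInvertible_of_cover p chart 1 O1 lam hO1' hcov
  subst hg
  apply Groth.Agent.Lib.Helper23.CounitEpi.epi_counit_of_isGloballyGenerated (g ≫ p)
  intro x
  obtain ⟨_, ⟨V, hV, rfl⟩, hxV, -⟩ :=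
    Y.isBasis_affineOpens.exists_subset_of_mem_open (Set.mem_univ ((g ≫ p) x)) isOpen_univ
  refine ⟨V, hxV, ?_⟩
  let Z : X.Opens := (g ≫ p) ⁻¹ᵁ V
  have hrange : Set.range (Z.ι ≫ g).base ⊆ Set.range (RelProj.emb p chart V hV).base := by
    rintro _ ⟨z, rfl⟩
    have h1 : (Z.ι ≫ g) z ∈ p ⁻¹ᵁ V := z.2
    exact Groth.Agent.Lib.Helper2.RelTildeQCoh.le_opensRange_emb p chart V hV h1
  let h : (Z : Scheme.{u}) ⟶ Proj (𝒮.deg V hV) :=
    IsOpenImmersion.lift (RelProj.emb p chart V hV) (Z.ι ≫ g) hrange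
  have hfac : h ≫ RelProj.emb p chart V hV = Z.ι ≫ g := IsOpenImmersion.lift_fac _ _ _
  have hM : PicF.IsInvertible (O1.restrict (RelProj.emb p chart V hV)) :=
    Groth.Agent.Lib.Helper23.RestrJ.isInvertible_restrict (RelProj.emb p chart V hV) O1 hinv
  have hgg : Curv2.IsGloballyGenerated
      ((Scheme.Modules.pullback h).obj (O1.restrict (RelProj.emb p chart V hV))) := by
    apply isGloballyGenerated_of_locGen
    intro z
    obtain ⟨s, hzs, -⟩ := exists_section_chart p chart 1 O1 lam hO1' one_pos hinv V hV (hcov V hV) (h z)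
    obtain ⟨s', hs'⟩ := exists_pullback_section h _ hM 1 (SecTwist.powHom s 1)
    rw [genLocus_powHom hM _ 1 one_pos] at hs'
    refine ⟨CohB1.genLocus _ s', by rw [hs']; exact hzs, ?_⟩
    exact (locGen_genLocus _ s').of_iso
      (Groth.Agent.Lib.Helper23.TensorUnit.unitTensorIso
        ((Scheme.Modules.pullback h).obj (O1.restrict (RelProj.emb p chart V hV))))
  let Φ : ((Scheme.Modules.pullback g).obj O1).restrict Z.ι ≅
      (Scheme.Modules.pullback h).obj (O1.restrict (RelProj.emb p chart V hV)) :=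
    (Scheme.Modules.restrictFunctorIsoPullback Z.ι).app _ ≪≫
      (Scheme.Modules.pullbackComp Z.ι g).app O1 ≪≫
      (Scheme.Modules.pullbackCongr hfac.symm).app O1 ≪≫
      ((Scheme.Modules.pullbackComp h (RelProj.emb p chart V hV)).app O1).symm ≪≫
      (Scheme.Modules.pullback h).mapIso
        ((Scheme.Modules.restrictFunctorIsoPullback (RelProj.emb p chart V hV)).app O1).symm
  exact Groth.Agent.Lib.Helper23.RestrTensor.isGloballyGenerated_of_iso Φ.symm hgg

end Groth.Agent.Helper18VAmp
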