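import Mathlib
import Groth.Prelude.Def_RelProj3
import Groth.Agent.Lib.Helper18VAmpH

/-!
# `p^* p_* F(n) ⟶ F(n)` is an epimorphism for large `n` on a relative Proj (helper18)
-/

set_option autoImplicit false
universe u
open CategoryTheory CategoryTheory.Limits AlgebraicGeometry TopologicalSpace Opposite

namespace Groth.Agent.Helper18VAmp

open Groth.Agent.Lib.Helper23.AmpleIso

variable {Y P : Scheme.{u}} (𝒮 : RelProj.QCGrAlg Y) (p : P ⟶ Y)
  (chart : ∀ (U : Y.Opens) (hU : IsAffineOpen U), (((p ⁻¹ᵁ U : P.Opens) : Scheme.{u}) ≅ Proj (𝒮.deg U hU)))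

/-- **Serre's theorem, relative form, on a relative Proj**: for `F` quasi-coherent of finite type the counit
`p^* p_* F(n) ⟶ F(n)` is an epimorphism for all large `n`. -/
theorem epi_counit_relTwist_eventually (hP : RelProj.IsRelProj 𝒮 p chart) [CompactSpace Y]
    (hgen : 𝒮.IsGenDegOne) (hft : 𝒮.IsFTDeg 1) (F : P.Modules) (hFq : Coh.IsQCoh F) (hFt : CohB1.IsFT F) :
    ∃ n₀ : ℤ, ∀ (n : ℤ), n₀ ≤ n → ∀ (L : P.Modules)
      (lam : ∀ (U : Y.Opens) (hU : IsAffineOpen U),
      L ⟶ (Scheme.Modules.pushforward (RelProj.emb p chart U hU)).obj (GrTwist.twist (𝒮.deg U hU) n)),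
      RelProj.IsRelTwist 𝒮 p chart n L lam →
        Epi ((Scheme.Modules.pullbackPushforwardAdjunction p).counit.app (CohB1.tensorMod F L)) := by
  have : QuasiCompact p := quasiCompact_of_isGenDegOne_isFTDeg 𝒮 p chart hgen hft
  have : CompactSpace P := by
    have h1 : IsCompact (p ⁻¹' (Set.univ : Set Y)) :=
      QuasiCompact.isCompact_preimage (f := p) _ isOpen_univ isCompact_univ
    rw [Set.preimage_univ] at h1
    exact isCompact_univ_iff.1 h1
  obtain ⟨O1, lam1, hO1⟩ := Groth.Agent.Lib.Helper2.RelTwistExist.exists_isRelTwist p chart hP 1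
  have hcov : ∀ (V : Y.Opens) (hV : IsAffineOpen V) (y : ProjectiveSpectrum (𝒮.deg V hV)),
      ∃ a ∈ 𝒮.deg V hV 1, a ∉ y.asHomogeneousIdeal := fun V hV y =>
    Groth.Agent.Lib.Helper2.RelTwistGen.exists_degOne_not_mem_of_gen (𝒮.deg V hV) (hgen V hV) y
  have hO1' : RelProj.IsRelTwist 𝒮 p chart ((1 : ℕ) : ℤ) O1 lam1 := hO1
  have hinv : PicF.IsInvertible O1 :=
    Groth.Agent.Lib.Helper2.RelTwistAmpleB.isInvertible_of_cover p chart 1 O1 lam1 hO1' hcov
  have hamp0 := isRelAmple_pullback_of_isEmbedding p 𝒮 P p chart O1 lam1 hgen hO1 (𝟙 P)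
    (Category.id_comp p) Topology.IsEmbedding.id
  have hamp : RelAmple.IsRelAmple p O1 :=
    ⟨hamp0.1, fun V => isAmple_of_iso
      ((Scheme.Modules.restrictFunctor _).mapIso ((Scheme.Modules.pullbackId P).app O1)) (hamp0.2 V)⟩
  obtain ⟨n₀, hn₀⟩ := epi_counit_twist_eventually p O1 hinv hamp F hFq hFt
  refine ⟨max (n₀ : ℤ) 2, fun n hn L lam hL => ?_⟩
  obtain ⟨k, rfl⟩ : ∃ k : ℕ, n = (k : ℤ) + 2 := ⟨(n - 2).toNat, by omega⟩
  obtain ⟨e⟩ := nonempty_tensorPow_iso_twist 𝒮 p chart hP hgen O1 lam1 hO1 k _ rfl L lam hL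
  have h1 := hn₀ (k + 2) (by omega)
  obtain ⟨ε, hε⟩ : ∃ ε : CohB1.tensorMod F (CohB1.tensorPow O1 (k + 2)) ≅ CohB1.tensorMod F L,
      ε = tensorModIso (Iso.refl F) e := ⟨_, rfl⟩
  have hnat : (Scheme.Modules.pushforward p ⋙ Scheme.Modules.pullback p).map ε.hom ≫
      (Scheme.Modules.pullbackPushforwardAdjunction p).counit.app (CohB1.tensorMod F L) =
    (Scheme.Modules.pullbackPushforwardAdjunction p).counit.app
      (CohB1.tensorMod F (CohB1.tensorPow O1 (k + 2))) ≫ ε.hom :=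
    (Scheme.Modules.pullbackPushforwardAdjunction p).counit.naturality ε.hom
  have h2 : (Scheme.Modules.pullbackPushforwardAdjunction p).counit.app (CohB1.tensorMod F L) =
      (Scheme.Modules.pushforward p ⋙ Scheme.Modules.pullback p).map ε.inv ≫
        (Scheme.Modules.pullbackPushforwardAdjunction p).counit.app
          (CohB1.tensorMod F (CohB1.tensorPow O1 (k + 2))) ≫ ε.hom := by
    rw [← hnat, ← Category.assoc, ← Functor.map_comp, ε.inv_hom_id, CategoryTheory.Functor.map_id]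
    exact (Category.id_comp _).symm
  rw [h2]
  infer_instance

end Groth.Agent.Helper18VAmp
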