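import Mathlib

/-!
# Weakly associated primes under flat base change at a generic point of the fibre: algebra (helper18)
-/

set_option autoImplicit false
set_option linter.style.haveILetI false
universe u
open TensorProduct

namespace Groth.Agent.Helper18WA

/-- `q` is minimal over `J` when it is "generic in its fibre" and `p = q ∩ A` is minimal over `I` in the
elementwise sense. -/
theorem mem_minimalPrimes_of_generic {A B : Type*} [CommRing A] [CommRing B] (φ : A →+* B)
    (q : Ideal B) [hq : q.IsPrime] (I : Ideal A) (J : Ideal B) (hIJ : I.map φ ≤ J) (hJq : J ≤ q)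
    (hb : ∀ b ∈ q.comap φ, ∃ (t : A) (k : ℕ), t ∉ q.comap φ ∧ t * b ^ k ∈ I)
    (hgen : ∀ Q : Ideal B, Q.IsPrime → Q ≤ q → Q.comap φ = q.comap φ → Q = q) :
    q ∈ J.minimalPrimes := by
  refine ⟨⟨hq, hJq⟩, ?_⟩
  rintro Q ⟨hQ, hJQ⟩ hQq
  have hcomap : Q.comap φ = q.comap φ := by
    apply le_antisymm (Ideal.comap_mono hQq)
    intro b hbq
    obtain ⟨t, k, ht, htb⟩ := hb b hbq
    have h1 : φ (t * b ^ k) ∈ Q := hJQ (hIJ (Ideal.mem_map_of_mem φ htb))
    rw [map_mul, map_pow] at h1
    rcases hQ.mem_or_mem h1 with h2 | h2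
    · exact absurd (hQq h2) ht
    · exact hQ.mem_of_pow_mem k h2
  exact (hgen Q hQ hQq hcomap).ge

/-- over a flat local algebra `R`, `1 ⊗ m ≠ 0` when the annihilator of `m` maps into the maximal ideal. -/
theorem one_tmul_ne_zero_of_flat {A : Type u} [CommRing A] (R : Type u) [CommRing R] [Algebra A R]
    [Module.Flat A R] [IsLocalRing R] (M : Type u) [AddCommGroup M] [Module A M] (m : M)
    (hI : ∀ a : A, a • m = 0 → algebraMap A R a ∈ IsLocalRing.maximalIdeal R) :
    (1 : R) ⊗ₜ[A] m ≠ 0 := by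
  intro h0
  let g : A →ₗ[A] M := LinearMap.toSpanSingleton A M m
  have hex : Function.Exact (LinearMap.ker g).subtype g := LinearMap.exact_subtype_ker_map g
  have hex' := Module.Flat.lTensor_exact R hex
  have h1 : (g.lTensor R) ((1 : R) ⊗ₜ[A] (1 : A)) = 0 := by
    rw [LinearMap.lTensor_tmul]
    change (1 : R) ⊗ₜ[A] ((1 : A) • m) = 0
    rw [one_smul]
    exact h0
  obtain ⟨y, hy⟩ := (hex' _).1 h1
  let μ : R ⊗[A] A →ₗ[A] R := (TensorProduct.rid A R).toLinearMap
  have hμ : ∀ y : R ⊗[A] (LinearMap.ker g),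
      μ (((LinearMap.ker g).subtype.lTensor R) y) ∈ IsLocalRing.maximalIdeal R := by
    intro y
    induction y using TensorProduct.induction_on with
    | zero => simp
    | tmul r a =>
      rw [LinearMap.lTensor_tmul]
      change (TensorProduct.rid A R) (r ⊗ₜ[A] (a : A)) ∈ _
      rw [TensorProduct.rid_tmul, Algebra.smul_def]
      exact Ideal.mul_mem_right _ _ (hI a.1 a.2)
    | add x y hx hy =>
      rw [map_add, map_add]
      exact add_mem hx hy
  have h2 := hμ y
  rw [hy] at h2
  change (TensorProduct.rid A R) ((1 : R) ⊗ₜ[A] (1 : A)) ∈ _ at h2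
  rw [TensorProduct.rid_tmul, one_smul] at h2
  exact (Ideal.ne_top_iff_one _).1 (IsLocalRing.maximalIdeal.isMaximal R).ne_top h2

end Groth.Agent.Helper18WA
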