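import Mathlib
import Groth.Prelude.Def_CurvBase
import Groth.Agent.Lib.Helper18WA1
import Groth.Agent.Lib.Helper18OmLS13
import Groth.Agent.Lib.Helper2ModExact
import Groth.Agent.Lib.Helper20CDivOrd2

/-!
# Weakly associated points of a flat pullback at generic points of the fibres (helper18)
-/

set_option autoImplicit false
set_option linter.style.haveILetI false
universe u
open CategoryTheory CategoryTheory.Limits AlgebraicGeometry TopologicalSpace Opposite TensorProduct
open Groth.Agent.Helper13PullbackUnit Groth.Agent.Helper18OmLS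
open Groth.Agent.Lib.Helper2.QCoh Groth.Agent.Lib.Helper2.Push Groth.Agent.Lib.Helper2.ModExact
  Groth.Agent.Lib.Helper2.Ass

namespace Groth.Agent.Helper18WA

variable {X S : Scheme.{u}} (f : X ⟶ S)

theorem germ_appLE {V : S.Opens} {U : X.Opens} (hUV : U ≤ f ⁻¹ᵁ V) (x : X) (hxU : x ∈ U)
    (hsV : f x ∈ V) (b : Γ(S, V)) :
    X.presheaf.germ U x hxU (f.appLE V U hUV b) =
      f.stalkMap x (S.presheaf.germ V (f x) hsV b) := by
  have h := Scheme.Hom.germ_stalkMap_apply f V x hsV b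
  refine Eq.trans ?_ h.symm
  rw [Scheme.Hom.appLE]
  exact TopCat.Presheaf.germ_res_apply X.presheaf (homOfLE hUV) x hxU _

/-- the prime of `f x` is the contraction of the prime of `x`. -/
theorem primeIdealOf_comap {V : S.Opens} (hV : IsAffineOpen V) {U : X.Opens} (hU : IsAffineOpen U)
    (hUV : U ≤ f ⁻¹ᵁ V) (x : X) (hxU : x ∈ U) (hsV : f x ∈ V) :
    (hV.primeIdealOf ⟨f x, hsV⟩).asIdeal =
      (hU.primeIdealOf ⟨x, hxU⟩).asIdeal.comap (f.appLE V U hUV).hom := by
  ext b
  rw [Ideal.mem_comap, ← germ_mem_maximalIdeal_iff hV (f x) hsV b,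
    ← germ_mem_maximalIdeal_iff hU x hxU]
  change _ ↔ X.presheaf.germ U x hxU (f.appLE V U hUV b) ∈ _
  rw [germ_appLE f hUV x hxU hsV]
  haveI : IsLocalHom (f.stalkMap x).hom := inferInstance
  constructor
  · intro h
    exact (IsLocalRing.mem_maximalIdeal _).2 fun hu =>
      (IsLocalRing.mem_maximalIdeal _).1 h (isUnit_of_map_unit (f.stalkMap x).hom _ hu)
  · intro h
    exact (IsLocalRing.mem_maximalIdeal _).2 fun hu =>
      (IsLocalRing.mem_maximalIdeal _).1 h (hu.map (f.stalkMap x).hom)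

end Groth.Agent.Helper18WA

namespace Groth.Agent.Helper18WA

variable {X S : Scheme.{u}} (f : X ⟶ S)

theorem flat_germ {V : S.Opens} (hV : IsAffineOpen V) (s : S) (hsV : s ∈ V) :
    (S.presheaf.germ V s hsV).hom.Flat := by
  letI : Algebra Γ(S, V) (S.presheaf.stalk s) :=
    TopCat.Presheaf.algebra_section_stalk S.presheaf (⟨s, hsV⟩ : V)
  haveI : IsLocalization.AtPrime (S.presheaf.stalk s) (hV.primeIdealOf ⟨s, hsV⟩).asIdeal :=
    hV.isLocalization_stalk ⟨s, hsV⟩
  have h : Module.Flat Γ(S, V) (S.presheaf.stalk s) :=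
    IsLocalization.flat _ (hV.primeIdealOf ⟨s, hsV⟩).asIdeal.primeCompl
  exact h

variable (G : S.Modules) [G.IsQuasicoherent]

theorem main_S8899 (x : X) (hfl : (f.stalkMap x).hom.Flat)
    (hgen : ∀ y : X, f y = f x → y ⤳ x → y = x) (hs : Curv2.IsWeakAssPoint G (f x)) :
    Curv2.IsWeakAssPoint ((Scheme.Modules.pullback f).obj G) x := by
  obtain ⟨V, hV, hsV, -⟩ := exists_isAffineOpen_mem_and_subset (X := S) (x := f x) (U := ⊤) trivial
  obtain ⟨U, hU, hxU, hUV0⟩ := exists_isAffineOpen_mem_and_subset (X := X) (x := x) (U := f ⁻¹ᵁ V) hsV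
  have hUV : U ≤ f ⁻¹ᵁ V := hUV0
  haveI : ((Scheme.Modules.pullback f).obj G).IsQuasicoherent :=
    Groth.Agent.Lib.Helper2.PullbackSec.isQuasicoherent_pullback f G
  have hlocG := IsLocOn.of_isQuasicoherent hV G
  have hlocP := IsLocOn.of_isQuasicoherent hU ((Scheme.Modules.pullback f).obj G)
  obtain ⟨m, hm0, hmpow⟩ := exists_section_of_isWeakAssPoint hV hlocG (f x) hsV hs
  letI : Algebra Γ(S, V) Γ(X, U) := (f.appLE V U hUV).hom.toAlgebra
  have halg : algebraMap Γ(S, V) Γ(X, U) = (f.appLE V U hUV).hom := rfl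
  obtain ⟨e, he⟩ := exists_pullback_equiv f G hUV hV hU halg
  have hpq := primeIdealOf_comap f hV hU hUV x hxU hsV
  -- (a) the annihilator of `m` lies in `p`
  have hann : ∀ a : Γ(S, V), a • m = 0 → a ∈ (hV.primeIdealOf ⟨f x, hsV⟩).asIdeal := by
    intro a ha
    by_contra hna
    have hu : IsUnit (S.presheaf.germ V (f x) hsV a) := by
      by_contra hnu
      exact hna ((germ_mem_maximalIdeal_iff hV (f x) hsV a).1 ((IsLocalRing.mem_maximalIdeal _).2 hnu))
    apply hm0
    apply germ_smul_eq_zero_of_isUnit hu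
    rw [← germ_smul, ha, map_zero]
  -- (b) elements of `p` are nilpotent on `m` up to a unit
  have hb : ∀ b ∈ (hU.primeIdealOf ⟨x, hxU⟩).asIdeal.comap (f.appLE V U hUV).hom,
      ∃ (t : Γ(S, V)) (k : ℕ), t ∉ (hU.primeIdealOf ⟨x, hxU⟩).asIdeal.comap (f.appLE V U hUV).hom ∧
        t * b ^ k ∈ ann G m := by
    intro b hbq
    rw [← hpq] at hbq ⊢
    obtain ⟨k, hk⟩ := hmpow b hbq
    rw [← map_pow, ← germ_smul] at hk
    obtain ⟨t, hxt, ht⟩ := hlocG.exists_smul_eq_zero_of_germ_eq_zero hV (f x) hsV _ hk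
    refine ⟨t, k, ?_, ?_⟩
    · exact (Groth.Agent.Lib.Helper2.mem_basicOpen_iff_notMem_primeIdealOf hV (f x) hsV t).1 hxt
    · rw [mem_ann, mul_smul]
      exact ht
  -- the stalk as a flat algebra over `Γ(S, V)`
  let φx : Γ(S, V) →+* X.presheaf.stalk x :=
    (X.presheaf.germ U x hxU).hom.comp (f.appLE V U hUV).hom
  have hφx : φx = (f.stalkMap x).hom.comp (S.presheaf.germ V (f x) hsV).hom :=
    RingHom.ext fun b => germ_appLE f hUV x hxU hsV b
  have hφflat : φx.Flat := by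
    rw [hφx]
    exact RingHom.Flat.comp (flat_germ hV (f x) hsV) hfl
  letI : Algebra Γ(S, V) (X.presheaf.stalk x) := φx.toAlgebra
  haveI : Module.Flat Γ(S, V) (X.presheaf.stalk x) := hφflat
  have h1ne : (1 : X.presheaf.stalk x) ⊗ₜ[Γ(S, V)] m ≠ 0 := by
    refine one_tmul_ne_zero_of_flat (X.presheaf.stalk x) Γ(G, V) m (fun a ha => ?_)
    change X.presheaf.germ U x hxU (f.appLE V U hUV a) ∈ _
    rw [germ_mem_maximalIdeal_iff hU x hxU]
    have := hann a ha
    rw [hpq] at this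
    exact this
  let m' : Γ((Scheme.Modules.pullback f).obj G, U) := unitSec f G hUV m
  -- the annihilator of `m'` lies in `q`
  have hJq : ann ((Scheme.Modules.pullback f).obj G) m' ≤ (hU.primeIdealOf ⟨x, hxU⟩).asIdeal := by
    intro s' hs'
    by_contra hns'
    rw [mem_ann] at hs'
    have hu : IsUnit (X.presheaf.germ U x hxU s') := by
      by_contra hnu
      exact hns' ((germ_mem_maximalIdeal_iff hU x hxU s').1 ((IsLocalRing.mem_maximalIdeal _).2 hnu))
    have h2 : s' ⊗ₜ[Γ(S, V)] m = 0 := by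
      apply e.injective
      rw [he, map_zero]
      exact hs'
    let gB : Γ(X, U) →ₗ[Γ(S, V)] X.presheaf.stalk x :=
      { toFun := fun b => X.presheaf.germ U x hxU b
        map_add' := fun a b => map_add _ a b
        map_smul' := fun a b => by
          change X.presheaf.germ U x hxU ((f.appLE V U hUV).hom a * b) = φx a * X.presheaf.germ U x hxU b
          rw [map_mul]
          rfl }
    have h3 := congrArg (LinearMap.rTensor Γ(G, V) gB) h2
    rw [LinearMap.rTensor_tmul, map_zero] at h3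
    change (X.presheaf.germ U x hxU s') ⊗ₜ[Γ(S, V)] m = 0 at h3
    apply h1ne
    obtain ⟨v, hv⟩ := hu
    have h4 : (v⁻¹ : (X.presheaf.stalk x)ˣ).1 • ((X.presheaf.germ U x hxU s') ⊗ₜ[Γ(S, V)] m) =
        (1 : X.presheaf.stalk x) ⊗ₜ[Γ(S, V)] m := by
      rw [TensorProduct.smul_tmul', smul_eq_mul, ← hv, Units.inv_mul]
    rw [← h4, h3, smul_zero]
  -- `q` is minimal over the annihilator of `m'`
  have hIJ : (ann G m).map (f.appLE V U hUV).hom ≤ ann ((Scheme.Modules.pullback f).obj G) m' := by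
    rw [Ideal.map_le_iff_le_comap]
    intro a ha
    rw [mem_ann] at ha
    rw [Ideal.mem_comap, mem_ann]
    change (f.appLE V U hUV a) • unitSec f G hUV m = 0
    rw [← unitSec_smul, ha, map_zero]
  have hgen' : ∀ Q : Ideal Γ(X, U), Q.IsPrime → Q ≤ (hU.primeIdealOf ⟨x, hxU⟩).asIdeal →
      Q.comap (f.appLE V U hUV).hom = (hU.primeIdealOf ⟨x, hxU⟩).asIdeal.comap (f.appLE V U hUV).hom →
      Q = (hU.primeIdealOf ⟨x, hxU⟩).asIdeal := by
    intro Q hQ hQq hQc
    let z : PrimeSpectrum Γ(X, U) := ⟨Q, hQ⟩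
    have hyU : hU.fromSpec z ∈ U := Groth.Agent.Lib.Helper2.QCoh.fromSpec_mem hU z
    have hz : hU.primeIdealOf ⟨hU.fromSpec z, hyU⟩ = z :=
      Groth.Agent.Lib.Helper2.QCoh.primeIdealOf_fromSpec hU z
    have hspec : hU.fromSpec z ⤳ x := Groth.Agent.Lib.Helper20.CDivOrd2.fromSpec_specializes hU x hxU z hQq
    have hfy : f (hU.fromSpec z) ∈ V := hUV hyU
    have h1 := primeIdealOf_comap f hV hU hUV (hU.fromSpec z) hyU hfy
    rw [hz] at h1
    have h2 : (hV.primeIdealOf ⟨f (hU.fromSpec z), hfy⟩) = hV.primeIdealOf ⟨f x, hsV⟩ := by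
      apply PrimeSpectrum.ext
      rw [h1, hpq]
      exact hQc
    have h3 : f (hU.fromSpec z) = f x := by
      have e1 := hV.fromSpec_primeIdealOf ⟨f (hU.fromSpec z), hfy⟩
      have e2 := hV.fromSpec_primeIdealOf ⟨f x, hsV⟩
      rw [h2] at e1
      exact e1.symm.trans e2
    have h4 : hU.fromSpec z = x := hgen _ h3 hspec
    have h5 : hU.primeIdealOf ⟨hU.fromSpec z, hyU⟩ = hU.primeIdealOf ⟨x, hxU⟩ := by
      congr 1
      exact Subtype.ext h4
    rw [hz] at h5
    exact congrArg PrimeSpectrum.asIdeal h5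
  have hmin := mem_minimalPrimes_of_generic (f.appLE V U hUV).hom (hU.primeIdealOf ⟨x, hxU⟩).asIdeal
    (ann G m) (ann ((Scheme.Modules.pullback f).obj G) m') hIJ hJq hb hgen'
  refine isWeakAssPoint_of hU _ x hxU m' ?_ ?_
  · intro h0
    obtain ⟨s', hxs', hs'⟩ := hlocP.exists_smul_eq_zero_of_germ_eq_zero hU x hxU m' h0
    have h6 : s' ∈ ann ((Scheme.Modules.pullback f).obj G) m' := mem_ann.2 hs'
    exact (Groth.Agent.Lib.Helper2.mem_basicOpen_iff_notMem_primeIdealOf hU x hxU s').1 hxs' (hJq h6)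
  · intro b' hb'
    obtain ⟨s', k, hs', hsk⟩ := exists_mul_pow_mem_of_mem_minimalPrimes hmin hb'
    refine ⟨k, ?_⟩
    rw [mem_ann, mul_smul] at hsk
    have hu : IsUnit (X.presheaf.germ U x hxU s') := by
      by_contra hnu
      exact hs' ((germ_mem_maximalIdeal_iff hU x hxU s').1 ((IsLocalRing.mem_maximalIdeal _).2 hnu))
    apply germ_smul_eq_zero_of_isUnit hu
    rw [← map_pow, ← germ_smul, ← germ_smul, hsk, map_zero]

end Groth.Agent.Helper18WA
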