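import Mathlib
import Groth.Prelude.Def_AlgSpModX
import Groth.Agent.Lib.Helper2QCoh

set_option autoImplicit false
universe u
open CategoryTheory CategoryTheory.Limits AlgebraicGeometry Opposite

namespace Groth.Agent.Lib.Helper18.WAEt
open AlgSp

variable {S : Scheme.{u}} {X : AlgSp.Sp S}

/-- an open of a chart as a scheme over `S`. -/
abbrev openOver (U : Over S) (W : U.left.Opens) : Over S := Over.mk (W.ι ≫ U.hom)

/-- the inclusion. -/
abbrev openOverι (U : Over S) (W : U.left.Opens) : openOver U W ⟶ U := Over.homMk W.ι rfl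

/-- an open of an object of the small etale site, as an object. -/
noncomputable def openObj (E : EtOver X) (W : E.obj.left.left.Opens) : EtOver X :=
  EtOver.mk ((yon S).map (openOverι E.obj.left W) ≫ E.obj.hom)
    ((repWith_isMultiplicative (S := S) @Etale).comp_mem _ _
      ((repWith_yon_map_iff _ _).2 (show Etale W.ι from inferInstance)) E.property)

/-- the inclusion of an open of an object of the small etale site. -/
noncomputable def openHom (E : EtOver X) (W : E.obj.left.left.Opens) : openObj E W ⟶ E :=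
  EtOver.homMk (openOverι E.obj.left W) rfl

@[simp] lemma openHom_left (E : EtOver X) (W : E.obj.left.left.Opens) :
    (openHom E W).hom.left.left = W.ι := rfl

lemma openObj_left (E : EtOver X) (W : E.obj.left.left.Opens) :
    (openObj E W).obj.left.left = (W : Scheme.{u}) := rfl

/-- sections of a module on the small etale site are determined on an open cover. -/
theorem sect_ext (M : ModEt X) (E : EtOver X) (s t : sectModEt M E)
    (h : ∀ x : E.obj.left.left, ∃ W : E.obj.left.left.Opens, x ∈ W ∧
      M.val.map (openHom E W).op s = M.val.map (openHom E W).op t) : s = t := by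
  choose W hxW hW using h
  have hcov : Sieve.ofArrows (fun x => openObj E (W x)) (fun x => openHom E (W x)) ∈ etTop X E := by
    refine ofArrows_mem_etTop _ _ (fun x => ⟨x, ?_⟩)
    rw [openHom_left]
    exact ⟨⟨x, hxW x⟩, rfl⟩
  have hsh := (Presheaf.isSheaf_iff_isSheaf_forget (etTop X) M.val.presheaf
    (CategoryTheory.forget AddCommGrpCat)).1 M.isSheaf
  have hsep := ((isSheaf_iff_isSheaf_of_type _ _).1 hsh).isSeparated _ hcov
  refine hsep.ext ?_
  rintro Y f ⟨Z, g, k, ⟨x⟩, rfl⟩
  have := hW x
  change M.val.map (g ≫ openHom E (W x)).op s = M.val.map (g ≫ openHom E (W x)).op t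
  rw [op_comp, M.val.map_comp]
  change M.val.map g.op (M.val.map (openHom E (W x)).op s) = M.val.map g.op (M.val.map (openHom E (W x)).op t)
  rw [this]


/-- every prime of the ring of functions of an affine scheme is the prime of a point. -/
theorem exists_primeAtPt_eq (U : Scheme.{u}) [IsAffine U] (p : Ideal Γ(U, ⊤)) [hp : p.IsPrime] :
    ∃ u : U, primeAtPt U u = p := by
  have hU : IsAffineOpen (⊤ : U.Opens) := isAffineOpen_top U
  refine ⟨hU.fromSpec ⟨p, hp⟩, ?_⟩
  ext b
  have h1 := Groth.Agent.Lib.Helper2.QCoh.germ_mem_maximalIdeal_iff hU (hU.fromSpec ⟨p, hp⟩) trivial b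
  have h2 := Groth.Agent.Lib.Helper2.QCoh.primeIdealOf_fromSpec hU ⟨p, hp⟩
  change U.presheaf.germ ⊤ (hU.fromSpec ⟨p, hp⟩) trivial b ∈
    IsLocalRing.maximalIdeal (U.presheaf.stalk (hU.fromSpec ⟨p, hp⟩)) ↔ _
  rw [h1, h2]

theorem annSect_eq_top_iff {M : ModEt X} {E : EtOver X} (s : sectModEt M E) :
    annSect s = ⊤ ↔ s = 0 := by
  rw [Ideal.eq_top_iff_one, mem_annSect_iff, map_one, one_smul]

/-- a module is zero iff all its sections are zero. -/
theorem isZero_iff_sect (M : ModEt X) : IsZero M ↔ ∀ (E : EtOver X) (s : sectModEt M E), s = 0 := by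
  rw [IsZero.iff_id_eq_zero]
  constructor
  · intro h E s
    have := congr(($h).val.app (op E) s)
    exact this
  · intro h
    apply SheafOfModules.hom_ext
    apply PresheafOfModules.hom_ext
    intro E
    ext s
    exact h E.unop s

/-- a module all of whose sections over affine objects vanish is zero. -/
theorem isZero_of_affine (M : ModEt X)
    (h : ∀ (E : EtOver X) [IsAffine E.obj.left.left] (s : sectModEt M E), s = 0) : IsZero M := by
  rw [isZero_iff_sect]
  intro E s
  refine sect_ext M E s 0 (fun x => ?_)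
  obtain ⟨W, hW, hxW, -⟩ : ∃ V : E.obj.left.left.Opens, V ∈ E.obj.left.left.affineOpens ∧ x ∈ V ∧ V ≤ ⊤ :=
    TopologicalSpace.Opens.isBasis_iff_nbhd.1 E.obj.left.left.isBasis_affineOpens
      (TopologicalSpace.Opens.mem_top x)
  refine ⟨W, hxW, ?_⟩
  have : IsAffine (openObj E W).obj.left.left := hW
  rw [h (openObj E W) (M.val.map (openHom E W).op s), map_zero]
  rfl

theorem main_S10810 (M : ModEt X) : IsZero M ↔ WeakAssEt M = ∅ := by
  constructor
  · intro h
    rw [Set.eq_empty_iff_forall_notMem]
    rintro x ⟨E, hE, u, -, s, hs⟩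
    have h0 : s = 0 := (isZero_iff_sect M).1 h E s
    rw [(annSect_eq_top_iff s).2 h0, Ideal.minimalPrimes_top] at hs
    exact hs
  · intro h
    refine isZero_of_affine M (fun E hE s => ?_)
    rw [← annSect_eq_top_iff]
    by_contra hne
    obtain ⟨p, hp⟩ := Ideal.nonempty_minimalPrimes hne
    have : p.IsPrime := hp.1.1
    obtain ⟨u, hu⟩ := exists_primeAtPt_eq E.obj.left.left p
    have : Points.ofPt E.obj.hom u ∈ WeakAssEt M := ⟨E, hE, u, rfl, s, by rw [hu]; exact hp⟩
    rw [h] at this
    exact this

end Groth.Agent.Lib.Helper18.WAEt
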