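import Mathlib
import Groth.Prelude.Def_AlgSpModX
import Groth.Agent.Lib.Helper18WAEt1

set_option autoImplicit false
universe u
open CategoryTheory CategoryTheory.Limits AlgebraicGeometry Opposite

namespace Groth.Agent.Lib.Helper18.WAEt
open AlgSp

variable {S : Scheme.{u}} {X : AlgSp.Sp S}

section exact

variable (C : ShortComplex (ModEt X)) (hC : C.ShortExact) (E : EtOver X)

include hC in
theorem sect_f_injective : Function.Injective (C.f.val.app (op E)) := by
  have := hC.mono_f
  have : Mono ((SheafOfModules.evaluation (OEtRing X) (op E)).map C.f) := inferInstance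
  exact (ModuleCat.mono_iff_injective _).1 this

include hC in
theorem sect_exact (m : sectModEt C.X₂ E) (hm : C.g.val.app (op E) m = 0) :
    ∃ m' : sectModEt C.X₁ E, C.f.val.app (op E) m' = m := by
  have := hC.mono_f
  have : (SheafOfModules.evaluation (OEtRing X) (op E)).PreservesZeroMorphisms := ⟨fun _ _ => rfl⟩
  have h := hC.exact.map_of_mono_of_preservesKernel (SheafOfModules.evaluation (OEtRing X) (op E))
    inferInstance inferInstance
  rw [ShortComplex.moduleCat_exact_iff] at h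
  exact h m hm


theorem app_smul {M N : ModEt X} (φ : M ⟶ N) (a : Γ(E.obj.left.left, ⊤)) (s : sectModEt M E) :
    φ.val.app (op E) (upΓ E a • s) = upΓ E a • φ.val.app (op E) s :=
  (φ.val.app (op E)).hom.map_smul _ _

theorem annSect_le_app {M N : ModEt X} (φ : M ⟶ N) (s : sectModEt M E) :
    annSect s ≤ annSect (φ.val.app (op E) s) := by
  intro a ha
  rw [mem_annSect_iff] at ha ⊢
  rw [← app_smul, ha, map_zero]

theorem annSect_app_of_injective {M N : ModEt X} (φ : M ⟶ N)
    (hφ : Function.Injective (φ.val.app (op E))) (s : sectModEt M E) :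
    annSect (φ.val.app (op E) s) = annSect s := by
  refine le_antisymm ?_ (annSect_le_app E φ s)
  intro a ha
  rw [mem_annSect_iff] at ha ⊢
  rw [← app_smul] at ha
  exact hφ (ha.trans (map_zero _).symm)

theorem mul_mem_annSect_iff {M : ModEt X} (s : sectModEt M E) (a b : Γ(E.obj.left.left, ⊤)) :
    b * a ∈ annSect s ↔ b ∈ annSect (upΓ E a • s) := by
  rw [mem_annSect_iff, mem_annSect_iff, map_mul, mul_smul]

include hC in
theorem minimalPrimes_of_exact (s : sectModEt C.X₂ E) (p : Ideal Γ(E.obj.left.left, ⊤))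
    (hp : p ∈ (annSect s).minimalPrimes) :
    (∃ s₁ : sectModEt C.X₁ E, p ∈ (annSect s₁).minimalPrimes) ∨
      (∃ s₃ : sectModEt C.X₃ E, p ∈ (annSect s₃).minimalPrimes) := by
  have hpp : p.IsPrime := hp.1.1
  by_cases h3 : annSect (C.g.val.app (op E) s) ≤ p
  · right
    refine ⟨C.g.val.app (op E) s, ⟨hpp, h3⟩, fun q hq hqp => ?_⟩
    exact hp.2 ⟨hq.1, (annSect_le_app E C.g s).trans hq.2⟩ hqp
  · left
    obtain ⟨a, ha3, hap⟩ := Set.not_subset.1 h3
    have hg : C.g.val.app (op E) (upΓ E a • s) = 0 := by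
      rw [app_smul]; exact ha3
    obtain ⟨s₁, hs₁⟩ := sect_exact C hC E _ hg
    have hann : annSect s₁ = annSect (upΓ E a • s) := by
      rw [← hs₁, annSect_app_of_injective E C.f (sect_f_injective C hC E)]
    have hle : annSect s ≤ annSect s₁ := by
      intro b hb
      rw [hann, ← mul_mem_annSect_iff]
      exact Ideal.mul_mem_right _ _ hb
    refine ⟨s₁, ⟨hpp, ?_⟩, fun q hq hqp => hp.2 ⟨hq.1, hle.trans hq.2⟩ hqp⟩
    intro b hb
    rw [hann, ← mul_mem_annSect_iff] at hb
    exact (hpp.mem_or_mem (hp.1.2 hb)).resolve_right hap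

end exact

theorem main_S10811 (C : ShortComplex (ModEt X)) (hC : C.ShortExact) :
    WeakAssEt C.X₂ ⊆ WeakAssEt C.X₁ ∪ WeakAssEt C.X₃ ∧ WeakAssEt C.X₁ ⊆ WeakAssEt C.X₂ := by
  constructor
  · rintro x ⟨E, hE, u, hux, s, hs⟩
    rcases minimalPrimes_of_exact C hC E s _ hs with ⟨s₁, h₁⟩ | ⟨s₃, h₃⟩
    · exact Or.inl ⟨E, hE, u, hux, s₁, h₁⟩
    · exact Or.inr ⟨E, hE, u, hux, s₃, h₃⟩
  · rintro x ⟨E, hE, u, hux, s, hs⟩
    refine ⟨E, hE, u, hux, C.f.val.app (op E) s, ?_⟩
    rw [annSect_app_of_injective E C.f (sect_f_injective C hC E)]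
    exact hs

end Groth.Agent.Lib.Helper18.WAEt
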