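import Mathlib
import Groth.Prelude.Def_AlgSpModX
import Groth.Prelude.Def_AlgSpSub
import Groth.Agent.Lib.Helper18WAEt1
import Groth.Agent.Lib.Helper12Reduced
import Groth.Agent.Lib.Helper2Ass

set_option autoImplicit false
universe u
open CategoryTheory CategoryTheory.Limits AlgebraicGeometry Opposite

namespace Groth.Agent.Lib.Helper18.WAEt
open AlgSp

variable {S : Scheme.{u}} {X : AlgSp.Sp S}

/-- every chart of a reduced space is reduced. -/
theorem isReduced_chart (hX : IsReducedSp X) (E : EtOver X) : IsReduced E.obj.left.left := by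
  obtain ⟨U, p, hpe, hps, hU⟩ := hX
  obtain ⟨W, snd, fst, sq⟩ := hpe.1 E.obj.hom
  have hsnd : Etale snd.left := hpe.2 E.obj.hom fst snd sq
  have hsurj : Surjective snd.left := hps.2 E.obj.hom fst snd sq
  obtain ⟨fst', rfl⟩ := (yon S).map_surjective fst
  have hfst : Etale fst'.left := E.property.2 p _ fst' sq.flip
  have : IsReduced U.left := hU
  have : IsReduced W.left := Groth.Agent.Lib.Helper12.Reduced.isReduced_of_smooth fst'.left
  exact Groth.Agent.Lib.Helper12.Reduced.isReduced_of_flat_of_surjective snd.left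

/-- in a reduced ring, a prime minimal over the annihilator of an element is a minimal prime. -/
theorem mem_minimalPrimes_of_reduced {A : Type*} [CommRing A] [_root_.IsReduced A] (s : A) (I : Ideal A)
    (hI : ∀ a, a ∈ I ↔ a * s = 0) (p : Ideal A) (hp : p ∈ I.minimalPrimes) :
    p ∈ minimalPrimes A := by
  have hpp : p.IsPrime := hp.1.1
  have key : ∀ f ∈ p, ∃ t, t ∉ p ∧ t * f * s = 0 := by
    intro f hf
    obtain ⟨t, k, ht, htk⟩ := Groth.Agent.Lib.Helper2.Ass.exists_mul_pow_mem_of_mem_minimalPrimes hp hf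
    refine ⟨t, ht, ?_⟩
    rw [hI] at htk
    have : (t * f * s) ^ (k + 1) = 0 := by
      calc (t * f * s) ^ (k + 1) = (t * f ^ k * s) * (t ^ k * f * s ^ k) := by ring
        _ = 0 := by rw [htk, zero_mul]
    exact IsReduced.eq_zero _ ⟨k + 1, this⟩
  have hsp : s ∉ p := by
    intro hs
    obtain ⟨t, ht, hts⟩ := key s hs
    have : (t * s) ^ 2 = 0 := by
      calc (t * s) ^ 2 = t * (t * s * s) := by ring
        _ = 0 := by rw [hts, mul_zero]
    have h0 : t * s = 0 := IsReduced.eq_zero _ ⟨2, this⟩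
    exact ht (hp.1.2 ((hI t).2 h0))
  refine ⟨⟨hpp, bot_le⟩, fun q hq hqp f hf => ?_⟩
  obtain ⟨t, ht, hts⟩ := key f hf
  have hmem : t * f * s ∈ q := by rw [hts]; exact q.zero_mem
  have hqq : q.IsPrime := hq.1
  rcases hqq.mem_or_mem hmem with h | h
  · rcases hqq.mem_or_mem h with h | h
    · exact absurd (hqp h) ht
    · exact h
  · exact absurd (hqp h) hsp


/-- the element of `Γ(U, O_U)` underlying a section of the unit module. -/
def unitDown {E : EtOver X} (s : sectModEt (unitModEt X) E) : Γ(E.obj.left.left, ⊤) :=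
  ULift.down (show ULift.{u + 1} Γ(E.obj.left.left, ⊤) from s)

theorem mem_annSect_unit_iff {E : EtOver X} (s : sectModEt (unitModEt X) E)
    (a : Γ(E.obj.left.left, ⊤)) : a ∈ annSect s ↔ a * unitDown s = 0 := by
  rw [mem_annSect_iff]
  constructor
  · intro h
    exact congrArg ULift.down h
  · intro h
    exact congrArg ULift.up h

theorem primeAtPt_eq_primeIdealOf (U : Scheme.{u}) [IsAffine U] (u : U) :
    primeAtPt U u = ((isAffineOpen_top U).primeIdealOf ⟨u, trivial⟩).asIdeal := by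
  ext b
  exact Groth.Agent.Lib.Helper2.QCoh.germ_mem_maximalIdeal_iff (isAffineOpen_top U) u trivial b

theorem ringKrullDim_stalk_eq_zero_iff (U : Scheme.{u}) [IsAffine U] (u : U) :
    ringKrullDim (U.presheaf.stalk u) = 0 ↔ primeAtPt U u ∈ minimalPrimes Γ(U, ⊤) := by
  have hU := isAffineOpen_top U
  let := U.presheaf.algebra_section_stalk (⟨u, trivial⟩ : (⊤ : U.Opens))
  have := hU.isLocalization_stalk ⟨u, trivial⟩
  rw [IsLocalization.AtPrime.ringKrullDim_eq_height (hU.primeIdealOf ⟨u, trivial⟩).asIdeal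
    (U.presheaf.stalk u), primeAtPt_eq_primeIdealOf, ← Ideal.height_eq_zero_iff]
  exact WithBot.coe_eq_zero


/-- `ofPt` of a composite with a morphism of schemes. -/
lemma ofPt_map_comp {F : AlgSp.Sp S} {W T : Over S} (φ : W ⟶ T) (g : (AlgSp.yon S).obj T ⟶ F)
    (y : ↥W.left) : AlgSp.Points.ofPt ((AlgSp.yon S).map φ ≫ g) y = AlgSp.Points.ofPt g (φ.left y) := by
  rw [AlgSp.Points.ofPt_eq_map_ofScheme, AlgSp.Points.map_comp,
    AlgSp.Points.ofPt_eq_map_ofScheme g]
  congr 1
  exact AlgSp.Points.map_yon_map_apply φ y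

theorem stalk_dim_open' (U : Scheme.{u}) (W : U.Opens) (w : (W : Scheme.{u})) :
    ringKrullDim ((W : Scheme.{u}).presheaf.stalk w) = ringKrullDim (U.presheaf.stalk (W.ι w)) := by
  have e : (W : Scheme.{u}).presheaf.stalk w ≅ U.presheaf.stalk (W.ι w) :=
    (asIso (W.ι.stalkMap w)).symm
  exact ringKrullDim_eq_of_ringEquiv e.commRingCatIsoToRingEquiv

theorem stalk_dim_open (U : Scheme.{u}) (W : U.Opens) (u : U) (huW : u ∈ W) :
    ringKrullDim ((W : Scheme.{u}).presheaf.stalk ⟨u, huW⟩) = ringKrullDim (U.presheaf.stalk u) :=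
  stalk_dim_open' U W ⟨u, huW⟩

theorem main_S10805 (hX : IsReducedSp X) (x : Points X) :
    x ∈ WeakAssEt (unitModEt X) ↔
      HasAt (fun U u => ringKrullDim ↥(U.presheaf.stalk u) = 0) X x := by
  constructor
  · rintro ⟨E, hE, u, hux, s, hs⟩
    have hred : IsReduced E.obj.left.left := isReduced_chart hX E
    have : _root_.IsReduced Γ(E.obj.left.left, ⊤) := inferInstance
    refine ⟨E.obj.left, E.obj.hom, u, E.property, hux, ?_⟩
    change ringKrullDim (E.obj.left.left.presheaf.stalk u) = 0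
    rw [ringKrullDim_stalk_eq_zero_iff]
    exact mem_minimalPrimes_of_reduced (unitDown s) (annSect s) (mem_annSect_unit_iff s) _ hs
  · rintro ⟨U, a, u, ha, hux, hdim⟩
    obtain ⟨W, hW, huW, -⟩ : ∃ V : U.left.Opens, V ∈ U.left.affineOpens ∧ u ∈ V ∧ V ≤ ⊤ :=
      TopologicalSpace.Opens.isBasis_iff_nbhd.1 U.left.isBasis_affineOpens
        (TopologicalSpace.Opens.mem_top u)
    let E₀ : EtOver X := EtOver.mk a ha
    let E : EtOver X := openObj E₀ W
    have hE : IsAffine E.obj.left.left := hW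
    let u' : E.obj.left.left := (⟨u, huW⟩ : ↥W)
    have hu' : Points.ofPt E.obj.hom u' = x := by
      rw [← hux]
      exact ofPt_map_comp (openOverι U W) a ⟨u, huW⟩
    have hdim' : ringKrullDim (E.obj.left.left.presheaf.stalk u') = 0 := by
      rw [← hdim]
      exact stalk_dim_open U.left W u huW
    rw [ringKrullDim_stalk_eq_zero_iff] at hdim'
    refine ⟨E, hE, u', hu', (1 : ULift.{u + 1} Γ(E.obj.left.left, ⊤)), ?_⟩
    have hbot : annSect (M := unitModEt X) (E := E) (1 : ULift.{u + 1} Γ(E.obj.left.left, ⊤)) = ⊥ := by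
      ext b
      refine (mem_annSect_unit_iff _ b).trans ?_
      rw [Ideal.mem_bot]
      change b * 1 = 0 ↔ _
      rw [mul_one]
    rw [hbot]
    exact hdim'

end Groth.Agent.Lib.Helper18.WAEt
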