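import Mathlib
import Groth.Prelude.Def_AlgSpModX
import Groth.Agent.Lib.Helper18WAEt3

set_option autoImplicit false
universe u
open CategoryTheory CategoryTheory.Limits AlgebraicGeometry Opposite

namespace Groth.Agent.Lib.Helper18.WAEt
open AlgSp

variable {S : Scheme.{u}} {X Y : AlgSp.Sp S} {f : X ⟶ Y} (hf : Representable f)

/-- the prime of the image of a point. -/
theorem primeAtPt_map {W V : Scheme.{u}} (π : W ⟶ V) (w : W) :
    primeAtPt V (π w) = (primeAtPt W w).comap π.appTop.hom := by
  ext b
  change V.presheaf.germ ⊤ (π w) trivial b ∈ IsLocalRing.maximalIdeal (V.presheaf.stalk (π w)) ↔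
    W.presheaf.germ ⊤ w trivial (π.appTop.hom b) ∈ IsLocalRing.maximalIdeal (W.presheaf.stalk w)
  have h : π.stalkMap w (V.presheaf.germ ⊤ (π w) trivial b) =
      W.presheaf.germ ⊤ w trivial (π.appTop.hom b) := by
    have := Scheme.Hom.germ_stalkMap_apply π ⊤ w trivial b
    exact this
  rw [← h]
  rw [IsLocalRing.mem_maximalIdeal, IsLocalRing.mem_maximalIdeal, mem_nonunits_iff, mem_nonunits_iff]
  exact not_congr (isUnit_map_iff (π.stalkMap w).hom _).symm

/-- on an affine scheme, points are determined by their primes. -/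
theorem primeAtPt_injective (V : Scheme.{u}) [IsAffine V] : Function.Injective (primeAtPt V) := by
  intro u v h
  rw [primeAtPt_eq_primeIdealOf, primeAtPt_eq_primeIdealOf] at h
  have h2 : (isAffineOpen_top V).primeIdealOf ⟨u, trivial⟩ = (isAffineOpen_top V).primeIdealOf ⟨v, trivial⟩ :=
    PrimeSpectrum.ext h
  have h3 := congrArg (fun q => (isAffineOpen_top V).fromSpec q) h2
  simp only [IsAffineOpen.fromSpec_primeIdealOf] at h3
  exact h3


/-- the annihilator of a section of `f_* M` over `E`, in terms of `M` over the base change. -/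
theorem annSect_push (M : ModEt X) (E : EtOver Y) (s : sectModEt ((pushModEt hf).obj M) E) :
    annSect s = (annSect (M := M) (E := (EtOver.bc hf).obj E) s).comap
      (EtOver.bcπ hf E).left.appTop.hom := by
  ext a
  exact Iff.rfl


/-- base change of an affine chart along an affine morphism is affine. -/
theorem isAffine_bc (haff : IsAffineMor f) (E : EtOver Y) (hE : IsAffine E.obj.left.left) :
    IsAffine ((EtOver.bc hf).obj E).obj.left.left := by
  obtain ⟨W, i, fst, sq, hW⟩ := haff hE E.obj.hom
  have sq0 := EtOver.isPullback_bcObj hf E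
  let e : (EtOver.bcObj hf E).obj.left ≅ W := (yon S).preimageIso (sq0.isoIsPullback _ _ sq)
  have h1 : IsIso ((Over.forget S).map e.hom) := inferInstance
  have h2 : IsIso e.hom.left := h1
  have : IsAffine W.left := hW
  exact @IsAffine.of_isIso _ _ e.hom.left h2 this

theorem main_S10818 (haff : IsAffineMor f) (M : ModEt X) :
    WeakAssEt ((pushModEt hf).obj M) ⊆ Points.map f '' WeakAssEt M := by
  rintro x ⟨E, hE, u, hux, s, hs⟩
  have hE' : IsAffine ((EtOver.bc hf).obj E).obj.left.left := isAffine_bc hf haff E hE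
  rw [annSect_push] at hs
  obtain ⟨q, hq, hqp⟩ := Ideal.exists_minimalPrimes_comap_eq _ _ hs
  have hqp' : q.IsPrime := hq.1.1
  obtain ⟨u', hu'⟩ := exists_primeAtPt_eq ((EtOver.bc hf).obj E).obj.left.left q
  have hπ : (EtOver.bcπ hf E).left u' = u := by
    apply primeAtPt_injective
    refine (primeAtPt_map (EtOver.bcπ hf E).left u').trans ?_
    exact (congrArg (Ideal.comap (EtOver.bcπ hf E).left.appTop.hom) hu').trans hqp
  refine ⟨Points.ofPt ((EtOver.bc hf).obj E).obj.hom u', ⟨(EtOver.bc hf).obj E, hE', u', rfl, s, ?_⟩, ?_⟩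
  · rw [hu']; exact hq
  · rw [Points.map_ofPt, ← hux, ← hπ]
    refine Eq.trans ?_ (ofPt_map_comp (EtOver.bcπ hf E) E.obj.hom u')
    congr 1
    exact (EtOver.isPullback_bcObj hf E).w

end Groth.Agent.Lib.Helper18.WAEt
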