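import Mathlib

set_option autoImplicit false

universe u
open Polynomial

namespace Groth.Agent.Lib.Helper18ZariskiMonic

theorem main (A B : Type u) [CommRing A] [CommRing B]
    [Algebra A B] [Module.Finite A B] (I : Ideal A) (hI : I ≤ Ideal.jacobson (⊥ : Ideal A))
    (B₁ B₂ : Type u) [CommRing B₁] [CommRing B₂] [Algebra A B₁] [Algebra A B₂]
    (e : (B ⧸ I.map (algebraMap A B)) ≃ₐ[A] B₁ × B₂) (h₁ : Function.Surjective (algebraMap A B₁)) (b : B)
    (hb : e (Ideal.Quotient.mk (I.map (algebraMap A B)) b) = (1, 0)) :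
    ∃ (f : A[X]) (d : ℕ), f.Monic ∧ Polynomial.aeval b f = 0 ∧ 1 ≤ d ∧
      f.map (Ideal.Quotient.mk I) = (X - 1) * X ^ d := by
  classical
  -- the surjection ē : B → B₁ × B₂
  let ē : B →ₐ[A] B₁ × B₂ := (e : (B ⧸ I.map (algebraMap A B)) →ₐ[A] B₁ × B₂).comp
    (Ideal.Quotient.mkₐ A (I.map (algebraMap A B)))
  have hē_surj : Function.Surjective ē := e.surjective.comp Ideal.Quotient.mk_surjective
  have hē_ker : ∀ x : B, ē x = 0 → x ∈ (I • ⊤ : Submodule A B) := by
    intro x hx
    rw [Ideal.smul_top_eq_map]
    show x ∈ I.map (algebraMap A B)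
    rw [← Ideal.Quotient.eq_zero_iff_mem]
    exact e.injective (by simpa [ē] using hx)
  have hēb : ē b = (1, 0) := hb
  -- generators of B₂
  have : Module.Finite A B₂ := by
    let p : B →ₗ[A] B₂ := (LinearMap.snd A B₁ B₂).comp ē.toLinearMap
    refine Module.Finite.of_surjective p ?_
    intro y
    obtain ⟨x, hx⟩ := hē_surj (0, y)
    exact ⟨x, by simp [p, hx]⟩
  obtain ⟨m, y, hy⟩ := Module.Finite.exists_fin (R := A) (M := B₂)
  let y' : Fin (m + 1) → B₂ := Fin.cons 0 y
  have hy' : Submodule.span A (Set.range y') = ⊤ := by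
    rw [eq_top_iff, ← hy]
    apply Submodule.span_mono
    rintro _ ⟨k, rfl⟩
    exact ⟨k.succ, by simp [y']⟩
  choose β' hβ' using fun k => hē_surj ((0 : B₁), y' k)
  let β : Option (Fin (m + 1)) → B := fun o => o.elim b β'
  have hβ_none : β none = b := rfl
  have hβ_some : ∀ k, β (some k) = β' k := fun k => rfl
  have hēβ : ∀ k, ē (β (some k)) = (0, y' k) := fun k => hβ' k
  -- β spans B
  have hspan : Submodule.span A (Set.range β) = ⊤ := by
    rw [eq_top_iff]
    refine Submodule.le_of_le_smul_of_le_jacobson_bot Module.Finite.fg_top hI ?_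
    intro x _
    obtain ⟨a₀, ha₀⟩ := h₁ (ē x).1
    have hx2 : (ē x).2 ∈ Submodule.span A (Set.range y') := by rw [hy']; trivial
    obtain ⟨c, hc⟩ := (Submodule.mem_span_range_iff_exists_fun A).1 hx2
    let z : B := a₀ • b + ∑ k, c k • β (some k)
    have hz : z ∈ Submodule.span A (Set.range β) := by
      refine Submodule.add_mem _ (Submodule.smul_mem _ _ (Submodule.subset_span ⟨none, rfl⟩))
        (Submodule.sum_mem _ fun k _ => Submodule.smul_mem _ _ (Submodule.subset_span ⟨some k, rfl⟩))
    have hxz : ē (x - z) = 0 := by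
      rw [map_sub]
      simp only [z, map_add, map_smul, map_sum, hēb, hēβ]
      ext
      · simp [← ha₀, Algebra.smul_def, Prod.fst_sum]
      · simp [← hc, Prod.snd_sum]
    have := hē_ker _ hxz
    rw [Submodule.mem_sup]
    exact ⟨z, hz, x - z, this, by abel⟩
  -- the matrix
  have hz : ∀ j : Option (Fin (m + 1)), ∃ c : Option (Fin (m + 1)) → A, (∀ i, c i ∈ I) ∧
      ∑ i, c i • β i = b * β j - (if j = none then b else 0) := by
    intro j
    have hmem : b * β j - (if j = none then b else 0) ∈ (I • ⊤ : Submodule A B) := by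
      apply hē_ker
      rw [map_sub, map_mul, hēb]
      cases j with
      | none => simp [hβ_none, hēb]
      | some k => simp [hēβ]
    rw [← hspan, Submodule.mem_ideal_smul_span_iff_exists_sum] at hmem
    obtain ⟨a, ha, hsum⟩ := hmem
    refine ⟨fun i => a i, ha, ?_⟩
    rw [← hsum, Finsupp.sum_fintype]
    intro i; simp
  choose c hcI hcsum using hz
  let M : Matrix (Option (Fin (m + 1))) (Option (Fin (m + 1))) A :=
    fun i j => c j i + (if i = none ∧ j = none then 1 else 0)
  have hMrep : M.Represents β (Algebra.lmul A B b) := by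
    rw [Matrix.represents_iff']
    intro j
    simp only [M, add_smul, Finset.sum_add_distrib, hcsum]
    have : ∑ i : Option (Fin (m + 1)), (if i = none ∧ j = none then (1 : A) else 0) • β i =
        (if j = none then b else 0) := by
      cases j with
      | none => simp [hβ_none]
      | some k => simp
    rw [this]
    simp
  refine ⟨M.charpoly, m + 1, M.charpoly_monic, ?_, by omega, ?_⟩
  · -- Cayley–Hamilton
    let M' : Matrix.isRepresentation A β := ⟨M, _, hMrep⟩
    have h1 : Matrix.isRepresentation.toEnd A β hspan M' = Algebra.lmul A B b :=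
      Matrix.isRepresentation.eq_toEnd_of_represents A β hspan M' hMrep
    have h2 : Polynomial.aeval (Algebra.lmul A B b) M.charpoly = 0 := by
      rw [← h1, Polynomial.aeval_algHom_apply,
        ← map_zero (Matrix.isRepresentation.toEnd A β hspan)]
      congr 1
      ext1
      rw [Polynomial.aeval_subalgebra_coe, Matrix.aeval_self_charpoly, Subalgebra.coe_zero]
    rw [Polynomial.aeval_algHom_apply] at h2
    have h3 := LinearMap.congr_fun h2 1
    simpa using h3
  · rw [← Matrix.charpoly_map]
    have hM : M.map (Ideal.Quotient.mk I) =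
        Matrix.diagonal (fun i : Option (Fin (m + 1)) => if i = none then (1 : A ⧸ I) else 0) := by
      ext i j
      simp only [Matrix.map_apply, M, map_add, Matrix.diagonal_apply]
      rw [Ideal.Quotient.eq_zero_iff_mem.2 (hcI j i), zero_add]
      cases i <;> cases j <;> simp
    rw [hM, Matrix.charpoly_diagonal, Fintype.prod_option]
    simp

end Groth.Agent.Lib.Helper18ZariskiMonic
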