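import Mathlib

/-!
# Sheaves on the basis of affine opens: pair gluing implies gluing for standard covers
-/

set_option autoImplicit false
set_option linter.style.haveILetI false

universe u

open CategoryTheory TopologicalSpace Opposite AlgebraicGeometry

namespace Groth.Agent.Lib.Helper19.AffBasis

variable {X : Scheme.{u}}

/-- the basic open of a function on an affine open, as an affine open -/
def bo (U : X.affineOpens) (f : Γ(X, (U : X.Opens))) : X.affineOpens :=
  ⟨X.basicOpen f, U.2.basicOpen f⟩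

lemma bo_coe (U : X.affineOpens) (f : Γ(X, (U : X.Opens))) :
    ((bo U f : X.affineOpens) : X.Opens) = X.basicOpen f := rfl

lemma bo_le (U : X.affineOpens) (f : Γ(X, (U : X.Opens))) : bo U f ≤ U :=
  X.basicOpen_le f

/-- restriction of functions between affine opens -/
noncomputable def rf {U V : X.affineOpens} (h : V ≤ U) :
    Γ(X, (U : X.Opens)) →+* Γ(X, (V : X.Opens)) :=
  (X.presheaf.map (homOfLE (show (V : X.Opens) ≤ (U : X.Opens) from h)).op).hom

lemma basicOpen_rf {U V : X.affineOpens} (h : V ≤ U) (f : Γ(X, (U : X.Opens))) :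
    X.basicOpen (rf h f) = (V : X.Opens) ⊓ X.basicOpen f :=
  X.basicOpen_res f _

lemma bo_rf_le_left {U V : X.affineOpens} (h : V ≤ U) (f : Γ(X, (U : X.Opens))) :
    bo V (rf h f) ≤ V := bo_le _ _

lemma bo_rf_le_right {U V : X.affineOpens} (h : V ≤ U) (f : Γ(X, (U : X.Opens))) :
    bo V (rf h f) ≤ bo U f := by
  change X.basicOpen (rf h f) ≤ X.basicOpen f
  rw [basicOpen_rf]; exact inf_le_right

lemma isUnit_rf_of_le {U V : X.affineOpens} (h : V ≤ U) (g : Γ(X, (U : X.Opens)))
    (hV : (V : X.Opens) ≤ X.basicOpen g) : IsUnit (rf h g) := by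
  have h1 : X.basicOpen (rf h g) = (V : X.Opens) := by
    rw [basicOpen_rf]; exact inf_eq_left.mpr hV
  have hV' : IsAffineOpen (V : X.Opens) := V.2
  have := hV'.isLocalization_basicOpen (rf h g)
  -- on an affine open, `D(f) = V` implies `f` is a unit
  have h2 : Ideal.span ({rf h g} : Set Γ(X, (V : X.Opens))) = ⊤ := by
    rw [← hV'.iSup_basicOpen_eq_self_iff]
    simp [h1]
  rw [Ideal.span_singleton_eq_top] at h2
  exact h2

lemma span_rf_eq_top {U V : X.affineOpens} (h : V ≤ U) {ι : Type*} (t : ι → Γ(X, (U : X.Opens)))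
    (g : Γ(X, (U : X.Opens))) (hg : g ∈ Ideal.span (Set.range t))
    (hV : (V : X.Opens) ≤ X.basicOpen g) :
    Ideal.span (Set.range fun i => rf h (t i)) = ⊤ := by
  have h1 : rf h g ∈ Ideal.map (rf h) (Ideal.span (Set.range t)) := Ideal.mem_map_of_mem _ hg
  rw [Ideal.map_span, ← Set.range_comp] at h1
  exact Ideal.eq_top_of_isUnit_mem _ h1 (isUnit_rf_of_le h g hV)

lemma sup_basicOpen_eq {U : X.affineOpens} (f g : Γ(X, (U : X.Opens)))
    (h : Ideal.span ({f, g} : Set Γ(X, (U : X.Opens))) = ⊤) :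
    (U : X.Opens) = X.basicOpen f ⊔ X.basicOpen g := by
  have hU : IsAffineOpen (U : X.Opens) := U.2
  have := (hU.iSup_basicOpen_eq_self_iff (s := ({f, g} : Set Γ(X, (U : X.Opens))))).mpr h
  refine le_antisymm (this.symm.le.trans ?_) (sup_le (X.basicOpen_le f) (X.basicOpen_le g))
  rw [iSup_le_iff]
  rintro ⟨x, hx⟩
  rcases hx with rfl | hx
  · exact le_sup_left
  · rw [Set.mem_singleton_iff] at hx; subst hx; exact le_sup_right

lemma eq_bot_of_subsingleton (U : X.affineOpens) (h : (1 : Γ(X, (U : X.Opens))) = 0) :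
    (U : X.Opens) = ⊥ := by
  have h1 : X.basicOpen (1 : Γ(X, (U : X.Opens))) = (U : X.Opens) := X.basicOpen_one
  rw [h] at h1
  rw [← h1]; exact X.basicOpen_zero _

section presheaf

variable (F : (X.affineOpens)ᵒᵖ ⥤ Type u)

/-- restriction of sections of `F` -/
def res {U V : X.affineOpens} (h : V ≤ U) (s : F.obj (op U)) : F.obj (op V) :=
  F.map (homOfLE h).op s

lemma res_res {U V W : X.affineOpens} (h : V ≤ U) (h' : W ≤ V) (s : F.obj (op U)) :
    res F h' (res F h s) = res F (h'.trans h) s := by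
  unfold res
  rw [← Functor.map_comp_apply]
  rfl

lemma res_self {U : X.affineOpens} (s : F.obj (op U)) : res F (le_refl U) s = s := by
  unfold res
  have : (homOfLE (le_refl U)).op = 𝟙 (op U) := rfl
  rw [this, Functor.map_id_apply]

/-- the pair-gluing hypothesis -/
def PairGlue : Prop :=
  ∀ (U V W VW : X.affineOpens) (f g : Γ(X, (U : X.Opens))),
    (V : X.Opens) = X.basicOpen f → (W : X.Opens) = X.basicOpen g →
    (VW : X.Opens) = X.basicOpen (f * g) → (U : X.Opens) = (V : X.Opens) ⊔ (W : X.Opens) →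
    ∀ (hV : V ≤ U) (hW : W ≤ U) (h1 : VW ≤ V) (h2 : VW ≤ W),
    Function.Injective (fun s : F.obj (op U) => (F.map (homOfLE hV).op s, F.map (homOfLE hW).op s)) ∧
    Set.range (fun s : F.obj (op U) => (F.map (homOfLE hV).op s, F.map (homOfLE hW).op s)) =
      {p | F.map (homOfLE h1).op p.1 = F.map (homOfLE h2).op p.2}

variable {F}

lemma bo_mul_le_left (U : X.affineOpens) (f g : Γ(X, (U : X.Opens))) : bo U (f * g) ≤ bo U f := by
  change X.basicOpen (f * g) ≤ X.basicOpen f
  rw [X.basicOpen_mul]; exact inf_le_left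

lemma bo_mul_le_right (U : X.affineOpens) (f g : Γ(X, (U : X.Opens))) : bo U (f * g) ≤ bo U g := by
  change X.basicOpen (f * g) ≤ X.basicOpen g
  rw [X.basicOpen_mul]; exact inf_le_right

lemma pair_sep (hF : PairGlue F) (U : X.affineOpens) (f g : Γ(X, (U : X.Opens)))
    (h : Ideal.span ({f, g} : Set Γ(X, (U : X.Opens))) = ⊤) (s t : F.obj (op U))
    (h1 : res F (bo_le U f) s = res F (bo_le U f) t)
    (h2 : res F (bo_le U g) s = res F (bo_le U g) t) : s = t := by
  have := (hF U (bo U f) (bo U g) (bo U (f * g)) f g rfl rfl rfl (sup_basicOpen_eq f g h)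
    (bo_le U f) (bo_le U g) (bo_mul_le_left U f g) (bo_mul_le_right U f g)).1
  apply this
  exact Prod.ext h1 h2

lemma pair_glue (hF : PairGlue F) (U : X.affineOpens) (f g : Γ(X, (U : X.Opens)))
    (h : Ideal.span ({f, g} : Set Γ(X, (U : X.Opens))) = ⊤)
    (a : F.obj (op (bo U f))) (b : F.obj (op (bo U g)))
    (hab : res F (bo_mul_le_left U f g) a = res F (bo_mul_le_right U f g) b) :
    ∃ s : F.obj (op U), res F (bo_le U f) s = a ∧ res F (bo_le U g) s = b := by
  have := (hF U (bo U f) (bo U g) (bo U (f * g)) f g rfl rfl rfl (sup_basicOpen_eq f g h)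
    (bo_le U f) (bo_le U g) (bo_mul_le_left U f g) (bo_mul_le_right U f g)).2
  have hm : (a, b) ∈ {p : F.obj (op (bo U f)) × F.obj (op (bo U g)) |
      F.map (homOfLE (bo_mul_le_left U f g)).op p.1 = F.map (homOfLE (bo_mul_le_right U f g)).op p.2} := hab
  rw [← this] at hm
  obtain ⟨s, hs⟩ := hm
  exact ⟨s, congrArg Prod.fst hs, congrArg Prod.snd hs⟩

end presheaf

end Groth.Agent.Lib.Helper19.AffBasis
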