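import Groth.Agent.Lib.Helper19AffBasisA

/-!
# Separatedness and gluing for standard covers, by induction from pair gluing
-/

set_option autoImplicit false
set_option linter.style.haveILetI false

universe u

open CategoryTheory TopologicalSpace Opposite AlgebraicGeometry

namespace Groth.Agent.Lib.Helper19.AffBasis

variable {X : Scheme.{u}} {F : (X.affineOpens)ᵒᵖ ⥤ Type u}

/-- decomposition of `1` along the first function of a spanning family -/
lemma exists_decomp {R : Type*} [CommRing R] {n : ℕ} (f : Fin (n + 1) → R)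
    (h : Ideal.span (Set.range f) = ⊤) :
    ∃ g ∈ Ideal.span (Set.range fun i : Fin n => f i.succ),
      Ideal.span ({f 0, g} : Set R) = ⊤ := by
  have h1 : (1 : R) ∈ Ideal.span (Set.range f) := by rw [h]; trivial
  have hr : Set.range f = insert (f 0) (Set.range fun i : Fin n => f i.succ) := by
    ext x
    constructor
    · rintro ⟨i, rfl⟩
      refine Fin.cases ?_ (fun j => ?_) i
      · exact Set.mem_insert _ _
      · exact Set.mem_insert_of_mem _ ⟨j, rfl⟩
    · rintro (rfl | ⟨j, rfl⟩)
      · exact ⟨0, rfl⟩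
      · exact ⟨j.succ, rfl⟩
  rw [hr, Ideal.mem_span_insert] at h1
  obtain ⟨a, g, hg, h1⟩ := h1
  refine ⟨g, hg, ?_⟩
  rw [Ideal.eq_top_iff_one, h1]
  refine Ideal.add_mem _ (Ideal.mul_mem_left _ _ (Ideal.subset_span (Set.mem_insert _ _)))
    (Ideal.subset_span (Set.mem_insert_of_mem _ rfl))

theorem sep (hF : PairGlue F) (E : X.affineOpens) (hE : (E : X.Opens) = ⊥)
    (hEs : Subsingleton (F.obj (op E))) :
    ∀ (n : ℕ) (U : X.affineOpens) (f : Fin n → Γ(X, (U : X.Opens))),
      Ideal.span (Set.range f) = ⊤ → ∀ s t : F.obj (op U),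
      (∀ i, res F (bo_le U (f i)) s = res F (bo_le U (f i)) t) → s = t := by
  intro n
  induction n with
  | zero =>
    intro U f hf s t _
    have h1 : (1 : Γ(X, (U : X.Opens))) = 0 := by
      have : Set.range f = ∅ := Set.range_eq_empty f
      rw [this, Ideal.span_empty] at hf
      have h2 : (1 : Γ(X, (U : X.Opens))) ∈ (⊥ : Ideal Γ(X, (U : X.Opens))) := by rw [hf]; trivial
      simpa using h2
    have hU : U = E := Subtype.ext ((eq_bot_of_subsingleton U h1).trans hE.symm)
    subst hU
    exact Subsingleton.elim _ _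
  | succ n ih =>
    intro U f hf s t hst
    obtain ⟨g, hg, hfg⟩ := exists_decomp f hf
    refine pair_sep hF U (f 0) g hfg s t (hst 0) ?_
    -- on `D(g)`
    refine ih (bo U g) (fun i => rf (bo_le U g) (f i.succ))
      (span_rf_eq_top (bo_le U g) (fun i : Fin n => f i.succ) g hg le_rfl) _ _ (fun i => ?_)
    rw [res_res, res_res]
    have hle : bo (bo U g) (rf (bo_le U g) (f i.succ)) ≤ bo U (f i.succ) := bo_rf_le_right _ _
    have := congrArg (res F hle) (hst i.succ)
    rw [res_res, res_res] at this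
    exact this

theorem glue (hF : PairGlue F) (E : X.affineOpens) (hE : (E : X.Opens) = ⊥)
    (hEs : Subsingleton (F.obj (op E))) (hEn : Nonempty (F.obj (op E))) :
    ∀ (n : ℕ) (U : X.affineOpens) (f : Fin n → Γ(X, (U : X.Opens))),
      Ideal.span (Set.range f) = ⊤ → ∀ s : ∀ i, F.obj (op (bo U (f i))),
      (∀ i j (W : X.affineOpens) (hi : W ≤ bo U (f i)) (hj : W ≤ bo U (f j)),
        res F hi (s i) = res F hj (s j)) →
      ∃ x : F.obj (op U), ∀ i, res F (bo_le U (f i)) x = s i := by
  intro n
  induction n with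
  | zero =>
    intro U f hf s _
    have h1 : (1 : Γ(X, (U : X.Opens))) = 0 := by
      have : Set.range f = ∅ := Set.range_eq_empty f
      rw [this, Ideal.span_empty] at hf
      have h2 : (1 : Γ(X, (U : X.Opens))) ∈ (⊥ : Ideal Γ(X, (U : X.Opens))) := by rw [hf]; trivial
      simpa using h2
    have hU : U = E := Subtype.ext ((eq_bot_of_subsingleton U h1).trans hE.symm)
    subst hU
    obtain ⟨x⟩ := hEn
    exact ⟨x, fun i => i.elim0⟩
  | succ n ih =>
    intro U f hf s hs
    obtain ⟨g, hg, hfg⟩ := exists_decomp f hf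
    -- glue on `D(g)`
    have hle : ∀ i : Fin n, bo (bo U g) (rf (bo_le U g) (f i.succ)) ≤ bo U (f i.succ) :=
      fun i => bo_rf_le_right _ _
    obtain ⟨t, ht⟩ := ih (bo U g) (fun i => rf (bo_le U g) (f i.succ))
      (span_rf_eq_top (bo_le U g) (fun i : Fin n => f i.succ) g hg le_rfl)
      (fun i => res F (hle i) (s i.succ))
      (fun i j W hi hj => by
        rw [res_res, res_res]
        exact hs i.succ j.succ W _ _)
    -- agreement on `D(f₀ g)`
    have hZ : res F (bo_mul_le_left U (f 0) g) (s 0) = res F (bo_mul_le_right U (f 0) g) t := by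
      have hZU : bo U (f 0 * g) ≤ U := bo_le _ _
      refine sep hF E hE hEs n (bo U (f 0 * g)) (fun i => rf hZU (f i.succ))
        (span_rf_eq_top hZU (fun i : Fin n => f i.succ) g hg (bo_mul_le_right U (f 0) g)) _ _
        (fun i => ?_)
      rw [res_res, res_res]
      -- the small open
      have hW1 : bo (bo U (f 0 * g)) (rf hZU (f i.succ)) ≤ bo (bo U g) (rf (bo_le U g) (f i.succ)) := by
        change X.basicOpen (rf hZU (f i.succ)) ≤ X.basicOpen (rf (bo_le U g) (f i.succ))
        rw [basicOpen_rf, basicOpen_rf]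
        exact inf_le_inf_right _ (bo_mul_le_right U (f 0) g)
      have h3 := congrArg (res F hW1) (ht i)
      rw [res_res, res_res] at h3
      rw [h3]
      exact hs 0 i.succ _ _ _
    obtain ⟨x, hx0, hxg⟩ := pair_glue hF U (f 0) g hfg (s 0) t hZ
    refine ⟨x, fun i => ?_⟩
    refine Fin.cases hx0 (fun j => ?_) i
    -- on `Y = D(f_{j+1})`, use the pair cover `f₀|Y, g|Y`
    have hYU : bo U (f j.succ) ≤ U := bo_le _ _
    have hspan : Ideal.span ({rf hYU (f 0), rf hYU g} : Set Γ(X, ((bo U (f j.succ) : X.affineOpens) : X.Opens))) = ⊤ := by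
      have h1 : Ideal.map (rf hYU) (Ideal.span ({f 0, g} : Set Γ(X, (U : X.Opens)))) = ⊤ := by
        rw [hfg, Ideal.map_top]
      rw [Ideal.map_span] at h1
      rw [← h1]
      congr 1
      ext y
      simp [Set.image_pair]
    refine pair_sep hF (bo U (f j.succ)) (rf hYU (f 0)) (rf hYU g) hspan _ _ ?_ ?_
    · rw [res_res]
      have hW0 : bo (bo U (f j.succ)) (rf hYU (f 0)) ≤ bo U (f 0) := bo_rf_le_right _ _
      have h3 := congrArg (res F hW0) hx0
      rw [res_res] at h3
      rw [h3]
      exact hs 0 j.succ _ _ _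
    · rw [res_res]
      have hWg : bo (bo U (f j.succ)) (rf hYU g) ≤ bo U g := bo_rf_le_right _ _
      have h3 := congrArg (res F hWg) hxg
      rw [res_res] at h3
      rw [h3]
      have hW1 : bo (bo U (f j.succ)) (rf hYU g) ≤ bo (bo U g) (rf (bo_le U g) (f j.succ)) := by
        change X.basicOpen (rf hYU g) ≤ X.basicOpen (rf (bo_le U g) (f j.succ))
        rw [basicOpen_rf, basicOpen_rf]
        change X.basicOpen (f j.succ) ⊓ X.basicOpen g ≤ X.basicOpen g ⊓ X.basicOpen (f j.succ)
        rw [inf_comm]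
      have h4 := congrArg (res F hW1) (ht j)
      rw [res_res, res_res] at h4
      exact h4

end Groth.Agent.Lib.Helper19.AffBasis
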