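import Groth.Agent.Lib.Helper19AffBasisB

/-!
# The induced topology on affine opens and the sheaf condition from pair gluing
-/

set_option autoImplicit false
set_option linter.style.haveILetI false

universe u

open CategoryTheory TopologicalSpace Opposite AlgebraicGeometry

namespace Groth.Agent.Lib.Helper19.AffBasis

variable (X : Scheme.{u})

/-- the inclusion of affine opens into opens -/
abbrev incl : X.affineOpens ⥤ X.Opens :=
  Monotone.functor (f := fun U : X.affineOpens => (U : X.Opens)) (fun _ _ h => h)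

instance : (incl X).Full where
  map_surjective {U V} f := ⟨homOfLE (show U ≤ V from leOfHom f), Subsingleton.elim _ _⟩

instance : (incl X).Faithful where
  map_injective _ := Subsingleton.elim _ _

instance : (incl X).IsCoverDense (Opens.grothendieckTopology X) := by
  rw [TopCat.Opens.coverDense_iff_isBasis]
  have : Set.range (incl X).obj = X.affineOpens := by
    ext U
    constructor
    · rintro ⟨V, rfl⟩; exact V.2
    · intro hU; exact ⟨⟨U, hU⟩, rfl⟩
  rw [this]
  exact X.isBasis_affineOpens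

/-- the induced topology on affine opens -/
abbrev JB : GrothendieckTopology X.affineOpens :=
  (incl X).inducedTopology (Opens.grothendieckTopology X)

variable {X}

lemma mem_JB_iff {U : X.affineOpens} (S : Sieve U) :
    S ∈ JB X U ↔ ∀ x ∈ (U : X.Opens), ∃ (W : X.affineOpens) (h : W ≤ U), S (homOfLE h) ∧ x ∈ (W : X.Opens) := by
  rw [Functor.mem_inducedTopology_iff_of_isCoverDense]
  constructor
  · intro h x hx
    obtain ⟨V, f, ⟨W, g, k, hg, hfk⟩, hxV⟩ := h x hx
    refine ⟨W, leOfHom g, ?_, leOfHom k hxV⟩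
    rwa [show homOfLE (leOfHom g) = g from Subsingleton.elim _ _]
  · intro h x hx
    obtain ⟨W, hW, hS, hxW⟩ := h x hx
    exact ⟨(W : X.Opens), homOfLE hW, ⟨W, homOfLE hW, 𝟙 _, hS, Subsingleton.elim _ _⟩, hxW⟩

end Groth.Agent.Lib.Helper19.AffBasis

namespace Groth.Agent.Lib.Helper19.AffBasis
variable {X : Scheme.{u}} {F : (X.affineOpens)ᵒᵖ ⥤ Type u}

lemma exists_standard_cover {U : X.affineOpens} (S : Sieve U) (hS : S ∈ JB X U) :
    ∃ (n : ℕ) (f : Fin n → Γ(X, (U : X.Opens))), Ideal.span (Set.range f) = ⊤ ∧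
      ∀ i, S (homOfLE (bo_le U (f i))) := by
  rw [mem_JB_iff] at hS
  have hU : IsAffineOpen (U : X.Opens) := U.2
  have key : ∀ x : (U : X.Opens), ∃ f : Γ(X, (U : X.Opens)),
      S (homOfLE (bo_le U f)) ∧ (x : X) ∈ X.basicOpen f := by
    intro x
    obtain ⟨W, hW, hSW, hxW⟩ := hS x x.2
    obtain ⟨f, hf, hxf⟩ := hU.exists_basicOpen_le (V := (W : X.Opens)) ⟨x, hxW⟩ x.2
    refine ⟨f, ?_, hxf⟩
    have hle : bo U f ≤ W := hf
    have := S.downward_closed hSW (homOfLE hle)
    rwa [show homOfLE hle ≫ homOfLE hW = homOfLE (bo_le U f) from Subsingleton.elim _ _] at this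
  choose φ hφS hφx using key
  have hspan : Ideal.span (Set.range φ) = ⊤ := by
    rw [← hU.self_le_iSup_basicOpen_iff]
    intro x hx
    rw [Opens.mem_iSup]
    exact ⟨⟨φ ⟨x, hx⟩, ⟨_, rfl⟩⟩, hφx ⟨x, hx⟩⟩
  obtain ⟨s, hs, hs'⟩ := (Ideal.span_eq_top_iff_finite _).mp hspan
  refine ⟨s.card, fun i => ((s.equivFin.symm i : s) : Γ(X, (U : X.Opens))), ?_, fun i => ?_⟩
  · have : Set.range (fun i => ((s.equivFin.symm i : s) : Γ(X, (U : X.Opens)))) = ↑s := by
      ext y; constructor
      · rintro ⟨i, rfl⟩; exact (s.equivFin.symm i).2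
      · intro hy; exact ⟨s.equivFin ⟨y, hy⟩, by simp⟩
    rw [this]; exact hs'
  · obtain ⟨x, hx⟩ := hs (s.equivFin.symm i).2
    have key2 : ∀ (a b : Γ(X, (U : X.Opens))), a = b → S (homOfLE (bo_le U a)) →
        S (homOfLE (bo_le U b)) := by
      rintro a b rfl h; exact h
    exact key2 _ _ hx (hφS x)

lemma fam_congr {U : X.affineOpens} {S : Sieve U} (x : Presieve.FamilyOfElements F S.arrows)
    {Y : X.affineOpens} {a b : Y ⟶ U} (ha : S a) (hb : S b) : x a ha = x b hb := by
  have e : a = b := Subsingleton.elim _ _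
  cases e
  rfl

theorem isSheafFor_of_pairGlue (hF : PairGlue F) (E : X.affineOpens) (hE : (E : X.Opens) = ⊥)
    (hEs : Subsingleton (F.obj (op E))) (hEn : Nonempty (F.obj (op E)))
    {U : X.affineOpens} (S : Sieve U) (hS : S ∈ JB X U) : Presieve.IsSheafFor F S.arrows := by
  obtain ⟨n, f, hf, hfS⟩ := exists_standard_cover S hS
  intro x hx
  rw [Presieve.compatible_iff_sieveCompatible] at hx
  -- reformulated compatibility
  have hx' : ∀ (V W : X.affineOpens) (hV : V ≤ U) (hWV : W ≤ V) (hSV : S (homOfLE hV))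
      (hSW : S (homOfLE (hWV.trans hV))),
      res F hWV (x (homOfLE hV) hSV) = x (homOfLE (hWV.trans hV)) hSW := by
    intro V W hV hWV hSV hSW
    have := hx (homOfLE hV) (homOfLE hWV) hSV
    exact this.symm.trans (fam_congr x _ _)
  have hSle : ∀ (W : X.affineOpens) (i : Fin n) (hW : W ≤ bo U (f i)), S (homOfLE (hW.trans (bo_le U (f i)))) := by
    intro W i hW
    have := S.downward_closed (hfS i) (homOfLE hW)
    rwa [show homOfLE hW ≫ homOfLE (bo_le U (f i)) = homOfLE (hW.trans (bo_le U (f i))) from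
      Subsingleton.elim _ _] at this
  obtain ⟨t, ht⟩ := glue hF E hE hEs hEn n U f hf (fun i => x (homOfLE (bo_le U (f i))) (hfS i))
    (fun i j W hi hj => by
      rw [hx' _ W (bo_le U (f i)) hi (hfS i) (hSle W i hi),
        hx' _ W (bo_le U (f j)) hj (hfS j) (hSle W j hj)])
  refine ⟨t, ?_, ?_⟩
  · intro Y g hg
    have hYU : Y ≤ U := leOfHom g
    have hg' : S (homOfLE hYU) := by
      rwa [show homOfLE hYU = g from Subsingleton.elim _ _]
    have hxg : x g hg = x (homOfLE hYU) hg' := fam_congr x _ _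
    rw [hxg]
    change res F hYU t = _
    refine sep hF E hE hEs n Y (fun i => rf hYU (f i))
      (span_rf_eq_top hYU f 1 (by rw [hf]; trivial) (by rw [X.basicOpen_one]; exact hYU)) _ _
      (fun i => ?_)
    rw [res_res]
    have hW : bo Y (rf hYU (f i)) ≤ bo U (f i) := bo_rf_le_right _ _
    have h3 := congrArg (res F hW) (ht i)
    rw [res_res] at h3
    rw [h3, hx' _ _ (bo_le U (f i)) hW (hfS i) (hSle _ i hW),
      hx' _ _ hYU (bo_le Y _) hg' (hSle _ i hW)]
  · intro t' ht'
    refine sep hF E hE hEs n U f hf _ _ (fun i => ?_)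
    rw [ht i]
    exact ht' (homOfLE (bo_le U (f i))) (hfS i)

theorem isSheaf_of_pairGlue (hF : PairGlue F) (E : X.affineOpens) (hE : (E : X.Opens) = ⊥)
    (hEs : Subsingleton (F.obj (op E))) (hEn : Nonempty (F.obj (op E))) :
    Presheaf.IsSheaf (JB X) F := by
  rw [isSheaf_iff_isSheaf_of_type]
  intro U S hS
  exact isSheafFor_of_pairGlue hF E hE hEs hEn S hS

theorem exists_sheaf (hFs : Presheaf.IsSheaf (JB X) F) :
    ∃ G : TopCat.Sheaf (Type u) X.carrier, Nonempty ((incl X).op ⋙ G.1 ≅ F) := by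
  let e := (incl X).sheafInducedTopologyEquivOfIsCoverDense (Opens.grothendieckTopology X) (Type u)
  let Fs : Sheaf (JB X) (Type u) := ⟨F, hFs⟩
  refine ⟨e.functor.obj Fs, ⟨?_⟩⟩
  have i := e.unitIso.app Fs
  exact (sheafToPresheaf _ _).mapIso i.symm

end Groth.Agent.Lib.Helper19.AffBasis
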