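import Groth.Agent.Lib.Helper19AffBasisC

/-!
# Pair gluing for the restriction of a sheaf to affine opens
-/

set_option autoImplicit false
set_option linter.style.haveILetI false

universe u

open CategoryTheory TopologicalSpace Opposite AlgebraicGeometry

namespace Groth.Agent.Lib.Helper19.AffBasis

variable {X : Scheme.{u}} {F : (X.affineOpens)ᵒᵖ ⥤ Type u}

theorem singleton_of_sheaf (G : TopCat.Sheaf (Type u) X.carrier)
    (e : (incl X).op ⋙ G.1 ≅ F) (E : X.affineOpens) (hE : (E : X.Opens) = ⊥) :
    Nonempty (F.obj (op E)) ∧ Subsingleton (F.obj (op E)) := by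
  have hT : Limits.IsTerminal (G.1.obj (op (E : X.Opens))) := G.isTerminalOfEqEmpty hE
  have hU : Unique (G.1.obj (op (E : X.Opens))) := (Limits.Types.isTerminalEquivUnique _) hT
  let eq : G.1.obj (op (E : X.Opens)) ≃ F.obj (op E) := (e.app (op E)).toEquiv
  exact ⟨⟨eq default⟩, eq.symm.subsingleton⟩

end Groth.Agent.Lib.Helper19.AffBasis

namespace Groth.Agent.Lib.Helper19.AffBasis

variable {X : Scheme.{u}} {F : (X.affineOpens)ᵒᵖ ⥤ Type u}

lemma Pmap_comp (P : (X.Opens)ᵒᵖ ⥤ Type u) {A B C : X.Opens} (h : B ≤ A) (h' : C ≤ B)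
    (a : P.obj (op A)) :
    P.map (homOfLE h').op (P.map (homOfLE h).op a) = P.map (homOfLE (h'.trans h)).op a := by
  rw [← Functor.map_comp_apply]
  rfl

lemma nat_inv (P : (X.Opens)ᵒᵖ ⥤ Type u) (e : (incl X).op ⋙ P ≅ F)
    {U V : X.affineOpens} (h : V ≤ U) (s : F.obj (op U)) :
    e.inv.app (op V) (F.map (homOfLE h).op s) =
      P.map (homOfLE (show (V : X.Opens) ≤ (U : X.Opens) from h)).op (e.inv.app (op U) s) :=
  NatTrans.naturality_apply e.inv (homOfLE h).op s

lemma nat_hom (P : (X.Opens)ᵒᵖ ⥤ Type u) (e : (incl X).op ⋙ P ≅ F)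
    {U V : X.affineOpens} (h : V ≤ U) (a : P.obj (op (U : X.Opens))) :
    e.hom.app (op V) (P.map (homOfLE (show (V : X.Opens) ≤ (U : X.Opens) from h)).op a) =
      F.map (homOfLE h).op (e.hom.app (op U) a) :=
  NatTrans.naturality_apply e.hom (homOfLE h).op a

lemma inv_hom_app (P : (X.Opens)ᵒᵖ ⥤ Type u) (e : (incl X).op ⋙ P ≅ F)
    (U : X.affineOpens) (s : F.obj (op U)) : e.hom.app (op U) (e.inv.app (op U) s) = s := by
  change (e.inv.app (op U) ≫ e.hom.app (op U)) s = s
  rw [Iso.inv_hom_id_app]
  rfl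

lemma hom_inv_app (P : (X.Opens)ᵒᵖ ⥤ Type u) (e : (incl X).op ⋙ P ≅ F)
    (U : X.affineOpens) (a : P.obj (op (U : X.Opens))) :
    e.inv.app (op U) (e.hom.app (op U) a) = a := by
  change (e.hom.app (op U) ≫ e.inv.app (op U)) a = a
  rw [Iso.hom_inv_id_app]
  rfl

theorem pairGlue_of_isSheaf (P : (X.Opens)ᵒᵖ ⥤ Type u) (hP : TopCat.Presheaf.IsSheaf P)
    (e : (incl X).op ⋙ P ≅ F) : PairGlue F := by
  intro U V W VW f g hV hW hVW hU hVU hWU h1 h2
  have hVW' : (VW : X.Opens) = (V : X.Opens) ⊓ (W : X.Opens) := by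
    rw [hVW, hV, hW, X.basicOpen_mul]
  let G : TopCat.Sheaf (Type u) X.carrier := ⟨P, hP⟩
  have hVU' : (V : X.Opens) ≤ (U : X.Opens) := hVU
  have hWU' : (W : X.Opens) ≤ (U : X.Opens) := hWU
  constructor
  · intro s s' hss'
    have e1 := congrArg Prod.fst hss'
    have e2 := congrArg Prod.snd hss'
    dsimp only at e1 e2
    have key : e.inv.app (op U) s = e.inv.app (op U) s' := by
      refine G.eq_of_locally_eq₂ (homOfLE hVU') (homOfLE hWU') hU.le _ _ ?_ ?_
      · exact (nat_inv P e hVU s).symm.trans ((congrArg _ e1).trans (nat_inv P e hVU s'))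
      · exact (nat_inv P e hWU s).symm.trans ((congrArg _ e2).trans (nat_inv P e hWU s'))
    have := congrArg (e.hom.app (op U)) key
    rwa [inv_hom_app, inv_hom_app] at this
  · ext p
    constructor
    · rintro ⟨s, rfl⟩
      change F.map (homOfLE h1).op (F.map (homOfLE hVU).op s) =
        F.map (homOfLE h2).op (F.map (homOfLE hWU).op s)
      rw [← Functor.map_comp_apply, ← Functor.map_comp_apply]
      rfl
    · intro hp
      change F.map (homOfLE h1).op p.1 = F.map (homOfLE h2).op p.2 at hp
      -- the family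
      let U' : Bool → X.Opens := fun b => cond b (V : X.Opens) (W : X.Opens)
      let sf : ∀ b : Bool, P.obj (op (U' b)) := fun b =>
        Bool.rec (motive := fun b => P.obj (op (U' b))) (e.inv.app (op W) p.2)
          (e.inv.app (op V) p.1) b
      have hcompat : P.map (homOfLE (show (V : X.Opens) ⊓ (W : X.Opens) ≤ (V : X.Opens) from inf_le_left)).op
          (e.inv.app (op V) p.1) =
          P.map (homOfLE (show (V : X.Opens) ⊓ (W : X.Opens) ≤ (W : X.Opens) from inf_le_right)).op
          (e.inv.app (op W) p.2) := by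
        have hh := congrArg (e.inv.app (op VW)) hp
        rw [nat_inv P e h1, nat_inv P e h2] at hh
        have hle : (V : X.Opens) ⊓ (W : X.Opens) ≤ (VW : X.Opens) := hVW'.ge
        have := congrArg (P.map (homOfLE hle).op) hh
        exact (Pmap_comp P _ hle _).symm.trans (this.trans (Pmap_comp P _ hle _))
      have hcompat' : P.map (homOfLE (show (W : X.Opens) ⊓ (V : X.Opens) ≤ (W : X.Opens) from inf_le_left)).op
          (e.inv.app (op W) p.2) =
          P.map (homOfLE (show (W : X.Opens) ⊓ (V : X.Opens) ≤ (V : X.Opens) from inf_le_right)).op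
          (e.inv.app (op V) p.1) := by
        have hle : (W : X.Opens) ⊓ (V : X.Opens) ≤ (V : X.Opens) ⊓ (W : X.Opens) := (inf_comm _ _).le
        have := congrArg (P.map (homOfLE hle).op) hcompat
        exact ((Pmap_comp P _ hle _).symm.trans (this.trans (Pmap_comp P _ hle _))).symm
      have hc : TopCat.Presheaf.IsCompatible P U' sf := by
        intro i j
        cases i <;> cases j
        · rfl
        · exact hcompat'
        · exact hcompat
        · rfl
      obtain ⟨s, hs, -⟩ := G.existsUnique_gluing' U' (U : X.Opens)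
        (fun b => Bool.rec (motive := fun b => U' b ⟶ (U : X.Opens)) (homOfLE hWU') (homOfLE hVU') b)
        (by
          rw [hU]
          exact sup_le (le_iSup U' true) (le_iSup U' false)) sf hc
      refine ⟨e.hom.app (op U) s, ?_⟩
      have hsV := hs true
      have hsW := hs false
      change P.map (homOfLE hVU').op s = e.inv.app (op V) p.1 at hsV
      change P.map (homOfLE hWU').op s = e.inv.app (op W) p.2 at hsW
      refine Prod.ext ?_ ?_
      · change F.map (homOfLE hVU).op (e.hom.app (op U) s) = p.1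
        rw [← nat_hom P e hVU, hsV, inv_hom_app]
      · change F.map (homOfLE hWU).op (e.hom.app (op U) s) = p.2
        rw [← nat_hom P e hWU, hsW, inv_hom_app]

end Groth.Agent.Lib.Helper19.AffBasis
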