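import Groth.Agent.Lib.Helper19Formal

set_option autoImplicit false
universe u v w

open CategoryTheory ArtFun ArtFun.Art

namespace Groth.Agent.Lib.Helper19

section FormalBij

variable {Λ : Type u} {k : Type u} [CommRing Λ] [Field k] [Algebra Λ k]

/-- Two morphisms out of a truncation agreeing after the quotient map are equal. -/
lemma hom_ext_of_truncHom (R : CRing Λ k) {n : ℕ} {A : Art Λ k} (f g : R.trunc n ⟶ A)
    (h : HomSet.map f (R.truncHom n) = HomSet.map g (R.truncHom n)) : f = g := by
  apply Art.hom_ext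
  apply AlgHom.ext
  intro x
  obtain ⟨a, rfl⟩ := truncHom_surjective R n x
  exact AlgHom.congr_fun (congrArg Subtype.val h) a

/-- The transition maps `R/m^(m+1) → R/m^(n+1)` for `n ≤ m`. -/
noncomputable def truncLE (R : CRing Λ k) {n m : ℕ} (h : n ≤ m) : R.trunc m ⟶ R.trunc n :=
  ⟨Ideal.Quotient.liftₐ (CRing.mpow R m) (Ideal.Quotient.mkₐ Λ (CRing.mpow R n)) (fun a ha =>
      Ideal.Quotient.eq_zero_iff_mem.2 (Ideal.pow_le_pow_right (Nat.succ_le_succ h) ha)), by
    apply AlgHom.ext
    intro x
    obtain ⟨a, rfl⟩ := Ideal.Quotient.mk_surjective x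
    rfl⟩

lemma truncLE_truncHom (R : CRing Λ k) {n m : ℕ} (h : n ≤ m) :
    HomSet.map (truncLE R h) (R.truncHom m) = R.truncHom n :=
  Subtype.ext (AlgHom.ext fun _ => rfl)

lemma truncLE_refl (R : CRing Λ k) (n : ℕ) : truncLE R (le_refl n) = 𝟙 (R.trunc n) := by
  apply hom_ext_of_truncHom
  rw [truncLE_truncHom, homSet_map_id]

lemma truncLE_succ (R : CRing Λ k) {n m : ℕ} (h : n ≤ m) :
    truncLE R (Nat.le_succ_of_le h) = R.truncMap m ≫ truncLE R h := by
  apply hom_ext_of_truncHom
  rw [truncLE_truncHom, homSet_map_comp, CRing.truncMap_truncHom, truncLE_truncHom]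

lemma formalElt_map_truncLE {F : Art Λ k ⥤ Type v} {R : CRing Λ k} (u : FormalElt F R)
    {n m : ℕ} (h : n ≤ m) : F.map (truncLE R h) (u.elt m) = u.elt n := by
  induction m, h using Nat.le_induction with
  | base => rw [truncLE_refl, map_id_apply']
  | succ m h ih => rw [truncLE_succ R h, map_comp_apply', u.compat, ih]

/-- Independence of the factorisation. -/
lemma formalElt_map_eq {F : Art Λ k ⥤ Type v} {R : CRing Λ k} (u : FormalElt F R) {A : Art Λ k}
    {n n' : ℕ} (f : R.trunc n ⟶ A) (f' : R.trunc n' ⟶ A)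
    (h : HomSet.map f (R.truncHom n) = HomSet.map f' (R.truncHom n')) :
    F.map f (u.elt n) = F.map f' (u.elt n') := by
  have e : truncLE R (le_max_left n n') ≫ f = truncLE R (le_max_right n n') ≫ f' := by
    apply hom_ext_of_truncHom
    rw [homSet_map_comp, homSet_map_comp, truncLE_truncHom, truncLE_truncHom, h]
  rw [← formalElt_map_truncLE u (le_max_left n n'), ← formalElt_map_truncLE u (le_max_right n n'),
    ← map_comp_apply', ← map_comp_apply', e]

/-- The family attached to a formal element. -/
noncomputable def familyOfFormalElt {F : Art Λ k ⥤ Type v} {R : CRing Λ k} (u : FormalElt F R) :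
    Family R.carrier R.res F where
  app A φ := F.map (exists_factor_trunc R φ).choose_spec.choose (u.elt (exists_factor_trunc R φ).choose)
  natural := by
    intro A B f φ
    have h1 := (exists_factor_trunc R φ).choose_spec.choose_spec
    have h2 := (exists_factor_trunc R (HomSet.map f φ)).choose_spec.choose_spec
    rw [← map_comp_apply']
    apply formalElt_map_eq
    rw [h2, homSet_map_comp, h1]

lemma familyOfFormalElt_app {F : Art Λ k ⥤ Type v} {R : CRing Λ k} (u : FormalElt F R) {A : Art Λ k}
    (φ : HomSet R.carrier R.res A) {n : ℕ} (f : R.trunc n ⟶ A)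
    (h : HomSet.map f (R.truncHom n) = φ) :
    (familyOfFormalElt u).app A φ = F.map f (u.elt n) := by
  have h1 := (exists_factor_trunc R φ).choose_spec.choose_spec
  change F.map _ _ = _
  apply formalElt_map_eq
  rw [h1, h]

lemma familyOfFormalElt_toFormalElt {F : Art Λ k ⥤ Type v} {R : CRing Λ k} (u : FormalElt F R) :
    (familyOfFormalElt u).toFormalElt = u := by
  apply FormalElt.ext'
  intro n
  change (familyOfFormalElt u).app _ (R.truncHom n) = _
  rw [familyOfFormalElt_app u (R.truncHom n) (𝟙 _) (homSet_map_id _), map_id_apply']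

lemma family_ext {R' : Type u} [CommRing R'] [Algebra Λ R'] {resR' : R' →ₐ[Λ] k}
    {F : Art Λ k ⥤ Type v} {ξ ξ' : Family R' resR' F}
    (h : ∀ A φ, ξ.app A φ = ξ'.app A φ) : ξ = ξ' := by
  cases ξ; cases ξ'; congr; funext A φ; exact h A φ

/-- A family is determined by its formal element. -/
theorem toFormalElt_injective {F : Art Λ k ⥤ Type v} (R : CRing Λ k) :
    Function.Injective (fun ξ : Family R.carrier R.res F => ξ.toFormalElt) := by
  intro ξ ξ' h
  apply family_ext
  intro A φ
  obtain ⟨n, f, rfl⟩ := exists_factor_trunc R φ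
  rw [ξ.natural, ξ'.natural]
  congr 1
  exact congrArg (fun w => w.elt n) h

theorem toFormalElt_bijective {F : Art Λ k ⥤ Type v} (R : CRing Λ k) :
    Function.Bijective (fun ξ : Family R.carrier R.res F => ξ.toFormalElt) :=
  ⟨toFormalElt_injective R, fun u => ⟨familyOfFormalElt u, familyOfFormalElt_toFormalElt u⟩⟩

end FormalBij

end Groth.Agent.Lib.Helper19
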