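import Groth.Agent.Lib.Helper19Minimal
import Mathlib.LinearAlgebra.Dual.Lemmas

set_option autoImplicit false
universe u v w

open CategoryTheory ArtFun ArtFun.Art

namespace Groth.Agent.Lib.Helper19

section Endo

variable {Λ : Type u} {k : Type u} [CommRing Λ] [Field k] [Algebra Λ k]

/-- A universal family is versal. -/
theorem isVersal_of_isUniversal {R : Type u} [CommRing R] [Algebra Λ R] {resR : R →ₐ[Λ] k}
    {F : Art Λ k ⥤ Type v} (ξ : Family R resR F) (hξ : IsUniversal ξ) : IsVersal ξ := by
  intro B A μ _ φ y hy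
  obtain ⟨ψ, rfl⟩ := (hξ B).2 y
  refine ⟨ψ, ?_, rfl⟩
  apply (hξ A).1
  rw [ξ.natural, hy]

/-- If restriction of tangent vectors along `f : R' → R` is injective then `f` is surjective. -/
theorem surjective_of_tangent_restrict_injective {R' R : CRing Λ k}
    (f : R'.carrier →ₐ[Λ] R.carrier) (hf : R.res.comp f = R'.res)
    (hinj : ∀ φ₁ φ₂ : HomSet R.carrier R.res (dual Λ k), φ₁.1.comp f = φ₂.1.comp f → φ₁ = φ₂) :
    Function.Surjective f := by
  letI : Algebra R.carrier k := (R.res : R.carrier →+* k).toAlgebra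
  haveI : IsScalarTower Λ R.carrier k :=
    IsScalarTower.of_algebraMap_eq (fun r => (R.res.commutes r).symm)
  have hres : ∀ r, algebraMap R.carrier k r = R.res r := fun _ => rfl
  haveI := R'.isAdicComplete
  have hres' : IsScalarTower.toAlgHom Λ R.carrier k = R.res := AlgHom.ext fun _ => rfl
  apply surjective_of_derivation_injective (Λ := Λ) R'.res R'.res_surjective
    (S := R.carrier) R.res_surjective f (by rw [hres']; exact hf)
  intro D₁ D₂ hD
  have key := hinj (derHomSet R.res hres D₁) (derHomSet R.res hres D₂) (by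
      apply AlgHom.ext
      intro a
      apply dual_ext
      · rfl
      · exact hD a)
  ext r
  have := congrArg (fun φ : HomSet R.carrier R.res (dual Λ k) => dsnd (φ.1 r)) key
  exact this

/-- An endomorphism of a pro-representable functor which is bijective on the tangent space is bijective on
every object. -/
theorem bijective_of_tangent_bijective_endo {U : Art Λ k ⥤ Type v} (R : CRing Λ k)
    (ξ : Family R.carrier R.res U) (univ : IsUniversal ξ)
    (φ : U ⟶ U) (hd : Function.Bijective (TangentSpace.map φ)) (A : Art Λ k) :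
    Function.Bijective (φ.app A) := by
  have hver : IsVersal ξ := isVersal_of_isUniversal ξ univ
  have h0 : H0 U := h0_of_surjective ξ (univ _).2
  obtain ⟨g, hg, hgη⟩ := exists_along_toFormalElt_eq h0 R ξ hver R (ξ.toFormalElt.map φ)
  have key : ∀ (B : Art Λ k) (u : HomSet R.carrier R.res B),
      φ.app B (ξ.app B u) = (ξ.along g hg).app B u := by
    intro B u
    obtain ⟨n, ū, rfl⟩ := exists_factor_trunc R u
    rw [ξ.natural, NatTrans.naturality_apply φ ū, (ξ.along g hg).natural]
    have := congrArg (fun w => w.elt n) hgη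
    exact congrArg (U.map ū) this.symm
  have hgs : Function.Surjective g := by
    apply surjective_of_tangent_restrict_injective g hg
    intro φ₁ φ₂ e
    apply (univ _).1
    apply hd.1
    show φ.app _ (ξ.app _ φ₁) = φ.app _ (ξ.app _ φ₂)
    rw [key, key]
    show ξ.app _ ⟨φ₁.1.comp g, _⟩ = ξ.app _ ⟨φ₂.1.comp g, _⟩
    congr 1
    exact Subtype.ext e
  have hgi : Function.Injective g :=
    ringHom_injective_of_surjective_endo (g : R.carrier →+* R.carrier) hgs
  let e : R.carrier ≃ₐ[Λ] R.carrier := AlgEquiv.ofBijective g ⟨hgi, hgs⟩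
  have he : ∀ a, g (e.symm a) = a := fun a => e.apply_symm_apply a
  constructor
  · intro x y hxy
    obtain ⟨u, rfl⟩ := (univ A).2 x
    obtain ⟨u', rfl⟩ := (univ A).2 y
    rw [key, key] at hxy
    have h1 := (univ A).1 hxy
    have h2 : u.1.comp g = u'.1.comp g := congrArg Subtype.val h1
    congr 1
    apply Subtype.ext
    exact (AlgHom.cancel_right hgs).1 h2
  · intro y
    obtain ⟨u, rfl⟩ := (univ A).2 y
    have hres : A.res.comp (u.1.comp (e.symm : R.carrier →ₐ[Λ] R.carrier)) = R.res := by
      apply AlgHom.ext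
      intro a
      have h1 : A.res (u.1 (e.symm a)) = R.res (e.symm a) := AlgHom.congr_fun u.2 (e.symm a)
      have h2 : R.res (g (e.symm a)) = R.res (e.symm a) := AlgHom.congr_fun hg (e.symm a)
      show A.res (u.1 (e.symm a)) = R.res a
      rw [h1, ← h2, he]
    refine ⟨ξ.app A ⟨u.1.comp (e.symm : R.carrier →ₐ[Λ] R.carrier), hres⟩, ?_⟩
    rw [key]
    show ξ.app A ⟨(u.1.comp (e.symm : R.carrier →ₐ[Λ] R.carrier)).comp g, _⟩ = ξ.app A u
    congr 1
    apply Subtype.ext
    apply AlgHom.ext
    intro a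
    show u.1 (e.symm (g a)) = u.1 a
    rw [show e.symm (g a) = a from e.symm_apply_apply a]

end Endo

section SqZero

variable {k : Type u} [Field k]

lemma maximalIdeal_trunc_pow {Λ : Type u} [CommRing Λ] [Algebra Λ k] (R : CRing Λ k) (n : ℕ) :
    IsLocalRing.maximalIdeal (R.trunc n) ^ (n + 1) = ⊥ := by
  rw [eq_bot_iff]
  calc IsLocalRing.maximalIdeal (R.carrier ⧸ CRing.mpow R n) ^ (n + 1)
      ≤ ((IsLocalRing.maximalIdeal R.carrier).map (Ideal.Quotient.mk (CRing.mpow R n))) ^ (n + 1) :=
        Ideal.pow_right_mono (CRing.maximalIdeal_quot_le R n) _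
    _ = (CRing.mpow R n).map (Ideal.Quotient.mk (CRing.mpow R n)) := by rw [← Ideal.map_pow]
    _ = ⊥ := Ideal.map_quotient_self _
    _ ≤ ⊥ := le_rfl

/-- For a `k`-algebra object `A` with square-zero maximal ideal, a `k`-linear functional vanishing at `1` gives a
map `A → k[ε]`. -/
noncomputable def sqZeroToDual (A : Art k k) (hA : IsLocalRing.maximalIdeal A ^ 2 = ⊥)
    (f : A →ₗ[k] k) (hf : f 1 = 0) : A ⟶ dual k k :=
  have hdecomp : ∀ a : A, a - algebraMap k A (A.res a) ∈ IsLocalRing.maximalIdeal A := by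
    intro a
    rw [Art.mem_maximalIdeal_iff, map_sub, AlgHom.commutes, Algebra.algebraMap_self,
      RingHom.id_apply, sub_self]
  have hfalg : ∀ c : k, f (algebraMap k A c) = 0 := by
    intro c
    rw [Algebra.algebraMap_eq_smul_one, map_smul, hf, smul_zero]
  have hmul : ∀ a b : A, f (a * b) = A.res a * f b + A.res b * f a := by
    intro a b
    have h0 : (a - algebraMap k A (A.res a)) * (b - algebraMap k A (A.res b)) = 0 := by
      have : (a - algebraMap k A (A.res a)) * (b - algebraMap k A (A.res b)) ∈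
          IsLocalRing.maximalIdeal A ^ 2 := by
        rw [pow_two]; exact Ideal.mul_mem_mul (hdecomp a) (hdecomp b)
      rwa [hA, Ideal.mem_bot] at this
    have h1 : a * b = algebraMap k A (A.res a) * b + algebraMap k A (A.res b) * a
        - algebraMap k A (A.res a * A.res b) := by
      rw [map_mul]
      linear_combination h0
    rw [h1, map_sub, map_add, hfalg, sub_zero, ← Algebra.smul_def, ← Algebra.smul_def, map_smul,
      map_smul, smul_eq_mul, smul_eq_mul]
  ⟨{ toFun := fun a => dmk (A.res a) (f a)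
     map_one' := dual_ext (by rw [dfst_dmk, map_one, dfst_one]) (by rw [dsnd_dmk, hf, dsnd_one])
     map_mul' := fun a b => dual_ext
        (by rw [dfst_mul, dfst_dmk, dfst_dmk, dfst_dmk, map_mul])
        (by rw [dsnd_mul, dsnd_dmk, dsnd_dmk, dsnd_dmk, dfst_dmk, dfst_dmk, hmul])
     map_zero' := dual_ext (by rw [dfst_dmk, map_zero, dfst_zero])
        (by rw [dsnd_dmk, map_zero, dsnd_zero])
     map_add' := fun a b => dual_ext
        (by rw [dfst_add, dfst_dmk, dfst_dmk, dfst_dmk, map_add])
        (by rw [dsnd_add, dsnd_dmk, dsnd_dmk, dsnd_dmk, map_add])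
     commutes' := fun c => dual_ext
        (by rw [dfst_dmk, dfst_algebraMap, AlgHom.commutes])
        (by rw [dsnd_dmk, dsnd_algebraMap, hfalg]) },
    AlgHom.ext fun _ => rfl⟩

lemma dsnd_sqZeroToDual (A : Art k k) (hA : IsLocalRing.maximalIdeal A ^ 2 = ⊥)
    (f : A →ₗ[k] k) (hf : f 1 = 0) (a : A) : dsnd (sqZeroToDual A hA f hf a) = f a := rfl

/-- A family injective on `k[ε]` is injective on every object with square-zero maximal ideal (equal
characteristic case `Λ = k`). -/
theorem family_injective_of_sqZero {F : Art k k ⥤ Type v} {R : Type u} [CommRing R] [Algebra k R]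
    {resR : R →ₐ[k] k} (ξ : Family R resR F) (hinj : Function.Injective (ξ.app (dual k k)))
    (A : Art k k) (hA : IsLocalRing.maximalIdeal A ^ 2 = ⊥) :
    Function.Injective (ξ.app A) := by
  intro ψ₁ ψ₂ h
  by_contra hne
  have : ∃ r, ψ₁.1 r ≠ ψ₂.1 r := by
    by_contra hall
    exact hne (Subtype.ext (AlgHom.ext fun r => not_not.1 (fun hr => hall ⟨r, hr⟩)))
  obtain ⟨r, hr⟩ := this
  set v : A := ψ₁.1 r - ψ₂.1 r with hv
  have hv0 : v ≠ 0 := sub_ne_zero.2 hr
  have hvm : A.res v = 0 := by
    have h1 : A.res (ψ₁.1 r) = resR r := AlgHom.congr_fun ψ₁.2 r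
    have h2 : A.res (ψ₂.1 r) = resR r := AlgHom.congr_fun ψ₂.2 r
    rw [hv, map_sub, h1, h2, sub_self]
  have hvnot : v ∉ Submodule.span k ({1} : Set A) := by
    intro hmem
    obtain ⟨c, hc⟩ := Submodule.mem_span_singleton.1 hmem
    have : A.res v = c := by
      rw [← hc, map_smul, map_one, smul_eq_mul, mul_one]
    rw [hvm] at this
    rw [← this, zero_smul] at hc
    exact hv0 hc.symm
  obtain ⟨f, hfv, hf1⟩ := Submodule.exists_dual_map_eq_bot_of_notMem hvnot inferInstance
  have hf1' : f 1 = 0 := by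
    have : f 1 ∈ Submodule.map f (Submodule.span k ({1} : Set A)) :=
      Submodule.mem_map_of_mem (Submodule.subset_span rfl)
    rwa [hf1, Submodule.mem_bot] at this
  let ℓ := sqZeroToDual A hA f hf1'
  have e : HomSet.map ℓ ψ₁ = HomSet.map ℓ ψ₂ := by
    apply hinj
    rw [ξ.natural, ξ.natural, h]
  have e' := congrArg (fun φ : HomSet R resR (dual k k) => dsnd (φ.1 r)) e
  have e'' : f (ψ₁.1 r) = f (ψ₂.1 r) := e'
  apply hfv
  rw [hv, map_sub, e'', sub_self]

end SqZero

end Groth.Agent.Lib.Helper19
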