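import Groth.Agent.Lib.Helper19FormalBij
import Groth.Agent.Lib.Helper19Endo

set_option autoImplicit false
universe u v w

open CategoryTheory ArtFun ArtFun.Art

namespace Groth.Agent.Lib.Helper19

section ProRepUnique

variable {Λ : Type u} {k : Type u} [CommRing Λ] [Field k] [Algebra Λ k]

/-- Transport of a universal family detects the map. -/
theorem along_injective_of_universal {F : Art Λ k ⥤ Type v} (R S : CRing Λ k)
    (ξ : Family R.carrier R.res F) (hξ : IsUniversal ξ)
    (g g' : R.carrier →ₐ[Λ] S.carrier) (hg : S.res.comp g = R.res) (hg' : S.res.comp g' = R.res)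
    (h : ξ.along g hg = ξ.along g' hg') : g = g' := by
  apply algHom_ext_of_truncHom S
  intro n
  have h1 := congrArg (fun ζ => ζ.app _ (S.truncHom n)) h
  exact congrArg Subtype.val ((hξ _).1 h1)

/-- A universal family transports to any other family by a unique map. -/
theorem exists_along_eq_of_universal {F : Art Λ k ⥤ Type v} (R S : CRing Λ k)
    (ξ : Family R.carrier R.res F) (hξ : IsUniversal ξ) (ζ : Family S.carrier S.res F) :
    ∃ (g : R.carrier →ₐ[Λ] S.carrier) (hg : S.res.comp g = R.res), ξ.along g hg = ζ := by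
  have h0 : H0 F := h0_of_surjective ξ (hξ _).2
  obtain ⟨g, hg, h⟩ := exists_along_toFormalElt_eq h0 R ξ (isVersal_of_isUniversal ξ hξ) S ζ.toFormalElt
  exact ⟨g, hg, toFormalElt_injective S h⟩

theorem existsUnique_algEquiv_of_universal {F : Art Λ k ⥤ Type v} (R S : CRing Λ k)
    (ξ : Family R.carrier R.res F) (hξ : IsUniversal ξ)
    (ζ : Family S.carrier S.res F) (hζ : IsUniversal ζ) :
    ∃! e : R.carrier ≃ₐ[Λ] S.carrier,
      ∃ he : S.res.comp e.toAlgHom = R.res, ξ.along e.toAlgHom he = ζ := by
  obtain ⟨g, hg, h⟩ := exists_along_eq_of_universal R S ξ hξ ζ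
  obtain ⟨g', hg', h'⟩ := exists_along_eq_of_universal S R ζ hζ ξ
  have e1 : g'.comp g = AlgHom.id Λ R.carrier := by
    apply along_injective_of_universal R R ξ hξ (g'.comp g) (AlgHom.id Λ _)
      (by rw [← AlgHom.comp_assoc, hg', hg]) (AlgHom.comp_id _)
    apply family_ext
    intro A φ
    have := congrArg (fun w => w.app A φ) h'
    rw [← h] at this
    exact this
  have e2 : g.comp g' = AlgHom.id Λ S.carrier := by
    apply along_injective_of_universal S S ζ hζ (g.comp g') (AlgHom.id Λ _)
      (by rw [← AlgHom.comp_assoc, hg, hg']) (AlgHom.comp_id _)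
    apply family_ext
    intro A φ
    have := congrArg (fun w => w.app A φ) h
    rw [← h'] at this
    exact this
  refine ⟨AlgEquiv.ofAlgHom g g' e2 e1, ⟨hg, h⟩, ?_⟩
  rintro e ⟨he, hh⟩
  apply AlgEquiv.ext
  intro r
  have := along_injective_of_universal R S ξ hξ e.toAlgHom g he hg (hh.trans h.symm)
  exact AlgHom.congr_fun this r

end ProRepUnique

end Groth.Agent.Lib.Helper19
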