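import Groth.Agent.Lib.Helper19ProrepGen
import Groth.Agent.Lib.Helper19ProRepUnique
import Groth.Agent.Lib.Helper19FormalBij
import Mathlib.Algebra.Module.TransferInstance

set_option autoImplicit false
universe u v w

open CategoryTheory ArtFun ArtFun.Art

namespace Groth.Agent.Lib.Helper19

section DerEquiv

variable {Λ : Type u} {k : Type u} [CommRing Λ] [Field k] [Algebra Λ k]
variable {R : Type u} [CommRing R] [Algebra Λ R] [Algebra R k] [IsScalarTower Λ R k]
variable (resR : R →ₐ[Λ] k) (hres : ∀ r, algebraMap R k r = resR r)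

include hres in
lemma dfst_homSet_apply (φ : HomSet R resR (dual Λ k)) (r : R) : dfst (φ.1 r) = algebraMap R k r := by
  rw [dfst_eq_res, hres]
  exact AlgHom.congr_fun φ.2 r

/-- The derivation attached to a tangent vector of `h_R`. -/
def derOfHomSet (φ : HomSet R resR (dual Λ k)) : Derivation Λ R k :=
  Derivation.mk'
    { toFun := fun r => dsnd (φ.1 r)
      map_add' := fun a b => by rw [map_add, dsnd_add]
      map_smul' := fun c r => by
        rw [map_smul, Algebra.smul_def, dsnd_mul, dsnd_algebraMap, dfst_algebraMap, mul_zero,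
          add_zero, RingHom.id_apply, Algebra.smul_def] }
    (fun a b => by
      show dsnd (φ.1 (a * b)) = a • dsnd (φ.1 b) + b • dsnd (φ.1 a)
      rw [map_mul, dsnd_mul, dfst_homSet_apply resR hres, dfst_homSet_apply resR hres,
        Algebra.smul_def, Algebra.smul_def])

lemma derOfHomSet_apply (φ : HomSet R resR (dual Λ k)) (r : R) :
    derOfHomSet resR hres φ r = dsnd (φ.1 r) := rfl

lemma derHomSet_derOfHomSet (φ : HomSet R resR (dual Λ k)) :
    derHomSet resR hres (derOfHomSet resR hres φ) = φ :=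
  homSet_dual_ext resR fun _ => rfl

lemma derOfHomSet_derHomSet (D : Derivation Λ R k) :
    derOfHomSet resR hres (derHomSet resR hres D) = D := by
  ext r
  rfl

end DerEquiv

section Amalg

variable {Λ : Type u} {k : Type u} [CommRing Λ] [Field k] [Algebra Λ k]
variable (S₁ S₂ : CRing Λ k) {E : Type w} (a : E → S₁.carrier) (b : E → S₂.carrier)

/-- The set `{(φ₁, φ₂) | φ₁ ∘ a = φ₂ ∘ b}`. -/
def AmalgSet (A : Art Λ k) : Type u :=
  {p : HomSet S₁.carrier S₁.res A × HomSet S₂.carrier S₂.res A // ∀ e, p.1.1 (a e) = p.2.1 (b e)}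

variable {S₁ S₂ a b}

lemma AmalgSet.ext' {A : Art Λ k} {p q : AmalgSet S₁ S₂ a b A} (h1 : p.1.1 = q.1.1) (h2 : p.1.2 = q.1.2) :
    p = q := Subtype.ext (Prod.ext h1 h2)

/-- Functoriality. -/
def AmalgSet.map {A B : Art Λ k} (f : A ⟶ B) (p : AmalgSet S₁ S₂ a b A) : AmalgSet S₁ S₂ a b B :=
  ⟨(HomSet.map f p.1.1, HomSet.map f p.1.2), fun e => by
    change f (p.1.1.1 (a e)) = f (p.1.2.1 (b e))
    rw [p.2 e]⟩

lemma AmalgSet.map_id {A : Art Λ k} (p : AmalgSet S₁ S₂ a b A) : AmalgSet.map (𝟙 A) p = p := by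
  apply AmalgSet.ext'
  · exact homSet_map_id p.1.1
  · exact homSet_map_id p.1.2

lemma AmalgSet.map_comp {A B C : Art Λ k} (f : A ⟶ B) (g : B ⟶ C) (p : AmalgSet S₁ S₂ a b A) :
    AmalgSet.map (f ≫ g) p = AmalgSet.map g (AmalgSet.map f p) := by
  apply AmalgSet.ext'
  · exact homSet_map_comp f g p.1.1
  · exact homSet_map_comp f g p.1.2

variable (S₁ S₂ a b)

/-- The functor `h_{S₁} ×_{E} h_{S₂}`. -/
def amalgFun : Art Λ k ⥤ Type u where
  obj A := AmalgSet S₁ S₂ a b A
  map {A B} f := ↾fun (p : AmalgSet S₁ S₂ a b A) => (AmalgSet.map f p : AmalgSet S₁ S₂ a b B)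
  map_id A := ConcreteCategory.hom_ext _ _ fun p => AmalgSet.map_id p
  map_comp f g := ConcreteCategory.hom_ext _ _ fun p => AmalgSet.map_comp f g p

variable {S₁ S₂ a b}

lemma amalgFun_map_fst {A B : Art Λ k} (f : A ⟶ B) (p : (amalgFun S₁ S₂ a b).obj A) :
    ((amalgFun S₁ S₂ a b).map f p).1.1 = HomSet.map f p.1.1 := rfl

lemma amalgFun_map_snd {A B : Art Λ k} (f : A ⟶ B) (p : (amalgFun S₁ S₂ a b).obj A) :
    ((amalgFun S₁ S₂ a b).map f p).1.2 = HomSet.map f p.1.2 := rfl

lemma amalg_ext {A : Art Λ k} {p q : (amalgFun S₁ S₂ a b).obj A} (h1 : p.1.1 = q.1.1) (h2 : p.1.2 = q.1.2) :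
    p = q := Subtype.ext (Prod.ext h1 h2)

variable (hab : ∀ e, S₁.res (a e) = S₂.res (b e))

include hab in
theorem h0_amalgFun : H0 (amalgFun S₁ S₂ a b) := by
  refine ⟨⟨⟨(homSetBase S₁.carrier S₁.res, homSetBase S₂.carrier S₂.res), fun e => hab e⟩⟩, ⟨?_⟩⟩
  intro p q
  apply amalg_ext
  · rw [homSet_base_eq p.1.1, homSet_base_eq q.1.1]
  · rw [homSet_base_eq p.1.2, homSet_base_eq q.1.2]

theorem isLeftExact_amalgFun : IsLeftExact (amalgFun S₁ S₂ a b) := by
  intro B A A' A'' p' p'' f' f'' h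
  constructor
  · rw [cmp_injective_iff]
    intro z z' e1 e2
    apply amalg_ext
    · exact homSet_ext h _ _ (congrArg (fun t : (amalgFun S₁ S₂ a b).obj A' => t.1.1) e1)
        (congrArg (fun t : (amalgFun S₁ S₂ a b).obj A'' => t.1.1) e2)
    · exact homSet_ext h _ _ (congrArg (fun t : (amalgFun S₁ S₂ a b).obj A' => t.1.2) e1)
        (congrArg (fun t : (amalgFun S₁ S₂ a b).obj A'' => t.1.2) e2)
  · rw [cmp_surjective_iff]
    intro x' x'' hx
    obtain ⟨ψ₁, h11, h12⟩ := homSet_lift h x'.1.1 x''.1.1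
      (congrArg (fun t : (amalgFun S₁ S₂ a b).obj A => t.1.1) hx)
    obtain ⟨ψ₂, h21, h22⟩ := homSet_lift h x'.1.2 x''.1.2
      (congrArg (fun t : (amalgFun S₁ S₂ a b).obj A => t.1.2) hx)
    have hc : ∀ e, ψ₁.1 (a e) = ψ₂.1 (b e) := by
      intro e
      apply h.inj
      · have e1 : p' (ψ₁.1 (a e)) = x'.1.1.1 (a e) :=
          congrArg (fun t : HomSet S₁.carrier S₁.res A' => t.1 (a e)) h11
        have e2 : p' (ψ₂.1 (b e)) = x'.1.2.1 (b e) :=
          congrArg (fun t : HomSet S₂.carrier S₂.res A' => t.1 (b e)) h21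
        rw [e1, e2]
        exact x'.2 e
      · have e1 : p'' (ψ₁.1 (a e)) = x''.1.1.1 (a e) :=
          congrArg (fun t : HomSet S₁.carrier S₁.res A'' => t.1 (a e)) h12
        have e2 : p'' (ψ₂.1 (b e)) = x''.1.2.1 (b e) :=
          congrArg (fun t : HomSet S₂.carrier S₂.res A'' => t.1 (b e)) h22
        rw [e1, e2]
        exact x''.2 e
    refine ⟨⟨(ψ₁, ψ₂), hc⟩, ?_, ?_⟩
    · exact amalg_ext h11 h21
    · exact amalg_ext h12 h22

theorem injective_amalgFun (x₀ : (amalgFun S₁ S₂ a b).obj (base Λ k)) :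
    Function.Injective (fun σ : base Λ k ⟶ dual Λ k => (amalgFun S₁ S₂ a b).map σ x₀) := by
  intro σ σ' hσ
  have h1 : HomSet.map σ x₀.1.1 = HomSet.map σ' x₀.1.1 :=
    congrArg (fun t : (amalgFun S₁ S₂ a b).obj (dual Λ k) => t.1.1) hσ
  apply Art.hom_ext
  apply AlgHom.ext
  intro c
  obtain ⟨r, rfl⟩ := S₁.res_surjective c
  have h2 : x₀.1.1.1 r = S₁.res r := by
    have := AlgHom.congr_fun x₀.1.1.2 r
    exact this
  have h3 := congrArg (fun t : HomSet S₁.carrier S₁.res (dual Λ k) => t.1 r) h1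
  change σ (x₀.1.1.1 r) = σ' (x₀.1.1.1 r) at h3
  rw [h2] at h3
  exact h3

end Amalg

section TangentAmalg

variable {Λ : Type u} {k : Type u} [CommRing Λ] [Field k] [Algebra Λ k]

/-- `k` as an algebra over a coefficient ring. -/
@[reducible] noncomputable def CRing.algK (S : CRing Λ k) : Algebra S.carrier k :=
  (S.res : S.carrier →+* k).toAlgebra

attribute [local instance] CRing.algK

lemma CRing.isScalarTowerK (S : CRing Λ k) : IsScalarTower Λ S.carrier k :=
  IsScalarTower.of_algebraMap_eq (fun r => (S.res.commutes r).symm)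

attribute [local instance] CRing.isScalarTowerK

lemma CRing.algebraMapK (S : CRing Λ k) (r : S.carrier) : algebraMap S.carrier k r = S.res r := rfl

variable {S₁ S₂ : CRing Λ k} {E : Type w} {a : E → S₁.carrier} {b : E → S₂.carrier}

variable (S₁ S₂ a b) in
/-- The pairs of derivations agreeing on `E`. -/
def amalgDer : Submodule k (Derivation Λ S₁.carrier k × Derivation Λ S₂.carrier k) where
  carrier := {D | ∀ e, D.1 (a e) = D.2 (b e)}
  add_mem' := fun {D D'} hD hD' e => by
    change D.1 (a e) + D'.1 (a e) = D.2 (b e) + D'.2 (b e)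
    rw [hD e, hD' e]
  zero_mem' := fun e => rfl
  smul_mem' := fun c D hD e => by
    change c • D.1 (a e) = c • D.2 (b e)
    rw [hD e]

variable (hab : ∀ e, S₁.res (a e) = S₂.res (b e))

/-- Tangent vectors of the amalgamated functor as pairs of derivations. -/
noncomputable def amalgTangentEquiv : (amalgFun S₁ S₂ a b).obj (dual Λ k) ≃ amalgDer S₁ S₂ a b where
  toFun p := ⟨(derOfHomSet S₁.res (CRing.algebraMapK S₁) p.1.1, derOfHomSet S₂.res (CRing.algebraMapK S₂) p.1.2), fun e => by
    change dsnd (p.1.1.1 (a e)) = dsnd (p.1.2.1 (b e))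
    rw [p.2 e]⟩
  invFun D := ⟨(derHomSet S₁.res (CRing.algebraMapK S₁) D.1.1, derHomSet S₂.res (CRing.algebraMapK S₂) D.1.2), fun e => by
    apply dual_ext
    · change S₁.res (a e) = S₂.res (b e)
      exact hab e
    · exact D.2 e⟩
  left_inv p := amalg_ext (derHomSet_derOfHomSet S₁.res (CRing.algebraMapK S₁) _)
    (derHomSet_derOfHomSet S₂.res (CRing.algebraMapK S₂) _)
  right_inv D := Subtype.ext (Prod.ext (derOfHomSet_derHomSet S₁.res (CRing.algebraMapK S₁) _)
    (derOfHomSet_derHomSet S₂.res (CRing.algebraMapK S₂) _))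

lemma amalgTangentEquiv_fst (p : (amalgFun S₁ S₂ a b).obj (dual Λ k)) (r : S₁.carrier) :
    (amalgTangentEquiv hab p).1.1 r = dsnd (p.1.1.1 r) := rfl

lemma amalgTangentEquiv_snd (p : (amalgFun S₁ S₂ a b).obj (dual Λ k)) (r : S₂.carrier) :
    (amalgTangentEquiv hab p).1.2 r = dsnd (p.1.2.1 r) := rfl

/-- The tangent space structure of the amalgamated functor. -/
noncomputable def tangentStrAmalg : TangentStr (amalgFun S₁ S₂ a b) :=
  letI : AddCommGroup ((amalgFun S₁ S₂ a b).obj (dual Λ k)) := (amalgTangentEquiv hab).addCommGroup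
  letI : Module k ((amalgFun S₁ S₂ a b).obj (dual Λ k)) := (amalgTangentEquiv hab).module k
  { addCommGroup := (amalgTangentEquiv hab).addCommGroup
    module := (amalgTangentEquiv hab).module k
    smul_eq := fun c x => by
      apply (amalgTangentEquiv hab).injective
      have h1 : amalgTangentEquiv hab (c • x) = c • amalgTangentEquiv hab x :=
        (amalgTangentEquiv hab).apply_symm_apply _
      rw [h1]
      apply Subtype.ext
      apply Prod.ext
      · ext r
        rfl
      · ext r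
        rfl
    add_eq := fun z => by
      apply (amalgTangentEquiv hab).injective
      have h1 : ∀ x y : (amalgFun S₁ S₂ a b).obj (dual Λ k),
          amalgTangentEquiv hab (x + y) = amalgTangentEquiv hab x + amalgTangentEquiv hab y :=
        fun x y => (amalgTangentEquiv hab).apply_symm_apply _
      rw [h1]
      apply Subtype.ext
      apply Prod.ext
      · ext r
        rfl
      · ext r
        rfl }

end TangentAmalg

section AmalgMain

variable {Λ : Type u} {k : Type u} [CommRing Λ] [Field k] [Algebra Λ k]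

attribute [local instance] CRing.algK CRing.isScalarTowerK

/-- Elements of a complete coefficient ring are determined by their truncations. -/
theorem eq_of_truncHom (S : CRing Λ k) (x y : S.carrier)
    (h : ∀ n, (S.truncHom n).1 x = (S.truncHom n).1 y) : x = y := by
  haveI := S.isAdicComplete
  rw [← sub_eq_zero]
  apply IsHausdorff.haus (I := CRing.m S) inferInstance
  intro n
  rw [SModEq.zero, smul_eq_mul, Ideal.mul_top]
  have h1 : x - y ∈ CRing.m S ^ (n + 1) := by
    rw [← truncHom_eq_iff]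
    exact h n
  exact Ideal.pow_le_pow_right (Nat.le_succ n) h1

variable {S₁ S₂ : CRing Λ k} {E : Type w} {a : E → S₁.carrier} {b : E → S₂.carrier}
variable (hab : ∀ e, S₁.res (a e) = S₂.res (b e))

theorem hfin_amalgFun [Module.Finite Λ k] :
    @Hfin _ _ _ _ _ (amalgFun S₁ S₂ a b) (tangentStrAmalg hab) := by
  letI T : TangentStr (amalgFun S₁ S₂ a b) := tangentStrAmalg hab
  haveI : Module.Finite k (Derivation Λ S₁.carrier k) :=
    finite_derivation (Λ := Λ) (S := S₁.carrier) S₁.res_surjective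
  haveI : Module.Finite k (Derivation Λ S₂.carrier k) :=
    finite_derivation (Λ := Λ) (S := S₂.carrier) S₂.res_surjective
  let L : TangentSpace (amalgFun S₁ S₂ a b) →ₗ[k]
      (Derivation Λ S₁.carrier k × Derivation Λ S₂.carrier k) :=
    { toFun := fun x => (amalgTangentEquiv hab x).1
      map_add' := fun x y => by
        have h1 : amalgTangentEquiv hab (x + y) = amalgTangentEquiv hab x + amalgTangentEquiv hab y :=
          (amalgTangentEquiv hab).apply_symm_apply _
        rw [h1]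
        rfl
      map_smul' := fun c x => by
        have h1 : amalgTangentEquiv hab (c • x) = c • amalgTangentEquiv hab x :=
          (amalgTangentEquiv hab).apply_symm_apply _
        rw [h1]
        rfl }
  have hL : Function.Injective L := by
    intro x y hxy
    apply (amalgTangentEquiv hab).injective
    exact Subtype.ext hxy
  exact Module.Finite.of_injective L hL

include hab in
/-- Amalgamated sums of coefficient rings: the object pro-representing `h_{S₁} ×_E h_{S₂}` has the universal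
property among coefficient rings. -/
theorem exists_amalgam [IsNoetherianRing Λ] [Module.Finite Λ k] :
    ∃ (P : CRing Λ k) (i₁ : S₁.carrier →ₐ[Λ] P.carrier) (i₂ : S₂.carrier →ₐ[Λ] P.carrier),
      P.res.comp i₁ = S₁.res ∧ P.res.comp i₂ = S₂.res ∧ (∀ e, i₁ (a e) = i₂ (b e)) ∧
      ∀ (T : CRing Λ k) (g₁ : S₁.carrier →ₐ[Λ] T.carrier) (g₂ : S₂.carrier →ₐ[Λ] T.carrier),
        T.res.comp g₁ = S₁.res → T.res.comp g₂ = S₂.res → (∀ e, g₁ (a e) = g₂ (b e)) →
          ∃! h : P.carrier →ₐ[Λ] T.carrier, T.res.comp h = P.res ∧ h.comp i₁ = g₁ ∧ h.comp i₂ = g₂ := by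
  letI T₀ : TangentStr (amalgFun S₁ S₂ a b) := tangentStrAmalg hab
  have hRS : RS (amalgFun S₁ S₂ a b) := fun B A A' A'' p' p'' f' f'' h _ =>
    isLeftExact_amalgFun p' p'' f' f'' h
  obtain ⟨⟨P, ξ, hu⟩⟩ := isProrepresentable_of_rs_hfin_injective (F := amalgFun S₁ S₂ a b)
    (h0_amalgFun hab) hRS (hfin_amalgFun hab) injective_amalgFun
  -- the universal element
  obtain ⟨u, hudef⟩ : ∃ u : ∀ n, (amalgFun S₁ S₂ a b).obj (P.trunc n),
      u = fun n => ξ.app (P.trunc n) (P.truncHom n) := ⟨_, rfl⟩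
  have hucompat : ∀ n, (amalgFun S₁ S₂ a b).map (P.truncMap n) (u (n + 1)) = u n := by
    intro n
    rw [hudef]
    change (amalgFun S₁ S₂ a b).map (P.truncMap n) (ξ.app _ (P.truncHom (n + 1))) = ξ.app _ (P.truncHom n)
    rw [← ξ.natural, CRing.truncMap_truncHom]
  obtain ⟨i₁, hi₁res, hi₁⟩ := exists_glue P (fun n => (u n).1.1)
    (fun n => congrArg (fun t : (amalgFun S₁ S₂ a b).obj (P.trunc n) => t.1.1) (hucompat n))
  obtain ⟨i₂, hi₂res, hi₂⟩ := exists_glue P (fun n => (u n).1.2)
    (fun n => congrArg (fun t : (amalgFun S₁ S₂ a b).obj (P.trunc n) => t.1.2) (hucompat n))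
  have key : ∀ (A : Art Λ k) (φ : HomSet P.carrier P.res A),
      (ξ.app A φ).1.1.1 = φ.1.comp i₁ ∧ (ξ.app A φ).1.2.1 = φ.1.comp i₂ := by
    intro A φ
    obtain ⟨n, ū, hū⟩ := exists_factor_trunc P φ
    have h1 : ξ.app A φ = (amalgFun S₁ S₂ a b).map ū (u n) := by
      rw [hudef, ← hū]
      exact ξ.natural ū (P.truncHom n)
    have hφ : φ.1 = ū.toAlgHom.comp (P.truncHom n).1 := by
      rw [← hū]; rfl
    constructor
    · rw [h1, hφ, AlgHom.comp_assoc, hi₁ n]
      rfl
    · rw [h1, hφ, AlgHom.comp_assoc, hi₂ n]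
      rfl
  have hi_ab : ∀ e, i₁ (a e) = i₂ (b e) := by
    intro e
    apply eq_of_truncHom P
    intro n
    have h1 : (P.truncHom n).1 (i₁ (a e)) = (u n).1.1.1 (a e) := AlgHom.congr_fun (hi₁ n) (a e)
    have h2 : (P.truncHom n).1 (i₂ (b e)) = (u n).1.2.1 (b e) := AlgHom.congr_fun (hi₂ n) (b e)
    rw [h1, h2]
    exact (u n).2 e
  refine ⟨P, i₁, i₂, hi₁res, hi₂res, hi_ab, ?_⟩
  intro T g₁ g₂ hg₁ hg₂ hg
  -- the family over `T` attached to `(g₁, g₂)`
  let ζ : Family T.carrier T.res (amalgFun S₁ S₂ a b) :=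
    { app := fun A φ => ⟨(⟨φ.1.comp g₁, by rw [← AlgHom.comp_assoc, φ.2, hg₁]⟩,
        ⟨φ.1.comp g₂, by rw [← AlgHom.comp_assoc, φ.2, hg₂]⟩), fun e => by
          change φ.1 (g₁ (a e)) = φ.1 (g₂ (b e))
          rw [hg e]⟩
      natural := fun f φ => rfl }
  have hζ : ∀ (h : P.carrier →ₐ[Λ] T.carrier) (hh : T.res.comp h = P.res),
      ξ.along h hh = ζ ↔ (h.comp i₁ = g₁ ∧ h.comp i₂ = g₂) := by
    intro h hh
    constructor
    · intro heq
      constructor
      · apply algHom_ext_of_truncHom T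
        intro n
        have h1 := congrArg (fun w => (w.app _ (T.truncHom n)).1.1.1) heq
        have h2 := (key _ ⟨(T.truncHom n).1.comp h, by rw [← AlgHom.comp_assoc, (T.truncHom n).2, hh]⟩).1
        change (ξ.app _ ⟨(T.truncHom n).1.comp h, _⟩).1.1.1 = (T.truncHom n).1.comp g₁ at h1
        rw [h2] at h1
        rw [← AlgHom.comp_assoc]
        exact h1
      · apply algHom_ext_of_truncHom T
        intro n
        have h1 := congrArg (fun w => (w.app _ (T.truncHom n)).1.2.1) heq
        have h2 := (key _ ⟨(T.truncHom n).1.comp h, by rw [← AlgHom.comp_assoc, (T.truncHom n).2, hh]⟩).2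
        change (ξ.app _ ⟨(T.truncHom n).1.comp h, _⟩).1.2.1 = (T.truncHom n).1.comp g₂ at h1
        rw [h2] at h1
        rw [← AlgHom.comp_assoc]
        exact h1
    · rintro ⟨h1, h2⟩
      apply family_ext
      intro A φ
      apply amalg_ext
      · apply Subtype.ext
        have hk := (key A ⟨φ.1.comp h, by rw [← AlgHom.comp_assoc, φ.2, hh]⟩).1
        refine hk.trans ?_
        change (φ.1.comp h).comp i₁ = φ.1.comp g₁
        rw [← h1]
        rfl
      · apply Subtype.ext
        have hk := (key A ⟨φ.1.comp h, by rw [← AlgHom.comp_assoc, φ.2, hh]⟩).2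
        refine hk.trans ?_
        change (φ.1.comp h).comp i₂ = φ.1.comp g₂
        rw [← h2]
        rfl
  obtain ⟨h, hh, hhζ⟩ := exists_along_eq_of_universal P T ξ hu ζ
  refine ⟨h, ⟨hh, (hζ h hh).1 hhζ⟩, ?_⟩
  rintro h' ⟨hh', h1', h2'⟩
  exact along_injective_of_universal P T ξ hu h' h hh' hh (((hζ h' hh').2 ⟨h1', h2'⟩).trans hhζ.symm)

end AmalgMain

end Groth.Agent.Lib.Helper19
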