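import Mathlib.RingTheory.MvPolynomial.Homogeneous
import Mathlib.RingTheory.Polynomial.Quotient
import Mathlib.RingTheory.Ideal.Quotient.PowTransition
import Mathlib.Algebra.Polynomial.Div

/-!
# Arcs: evaluation of homogeneous polynomials at congruent points, and the truncated
polynomial rings `k[X]/(X^l)` (helper19)
-/

set_option autoImplicit false
universe u

namespace Groth.Agent.Lib.Helper19.Arc

section Eval

open MvPolynomial

variable {k : Type u} [Field k] {T : Type u} [CommRing T] [Algebra k T] {σ : Type} 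

/-- value of a monomial at elements of an ideal -/
theorem aeval_monomial_mem_pow (𝔫 : Ideal T) (c : σ → T) (hc : ∀ i, c i ∈ 𝔫) (β : σ →₀ ℕ) :
    aeval c (monomial β (1 : k)) ∈ 𝔫 ^ (Finsupp.degree β) := by
  rw [aeval_monomial, map_one, one_mul, Finsupp.prod, Finsupp.degree_apply,
    ← Finset.prod_pow_eq_pow_sum]
  exact Ideal.prod_mem_prod (fun i _ => Ideal.pow_mem_pow (hc i) _)

/-- comparison of the values of a monomial at two points congruent modulo `D` -/
theorem aeval_monomial_sub_mem (𝔫 D : Ideal T) (c c' : σ → T) (hc : ∀ i, c i ∈ 𝔫)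
    (hc' : ∀ i, c' i ∈ 𝔫) (hD : ∀ i, c i - c' i ∈ D) : ∀ (d : ℕ) (α : σ →₀ ℕ),
    Finsupp.degree α = d + 1 →
      aeval c (monomial α (1 : k)) - aeval c' (monomial α (1 : k)) ∈ D * 𝔫 ^ d := by
  classical
  intro d
  induction d with
  | zero =>
    intro α hα
    have hne : α ≠ 0 := by
      rintro rfl
      simp at hα
    obtain ⟨i, hi⟩ : ∃ i, α i ≠ 0 := by
      by_contra h
      push Not at h
      exact hne (Finsupp.ext h)
    obtain ⟨β, rfl⟩ : ∃ β, α = Finsupp.single i 1 + β := by
      refine ⟨α - Finsupp.single i 1, ?_⟩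
      ext j
      by_cases hj : j = i
      · subst hj
        simp only [Finsupp.coe_add, Finsupp.coe_tsub, Pi.add_apply, Pi.sub_apply,
          Finsupp.single_eq_same]
        omega
      · simp [Finsupp.single_eq_of_ne hj]
    have hβ : Finsupp.degree β = 0 := by
      rw [map_add, Finsupp.degree_single] at hα
      omega
    have hβ0 : β = 0 := (Finsupp.degree_eq_zero_iff β).1 hβ
    subst hβ0
    rw [pow_zero, Ideal.one_eq_top, Ideal.mul_top, add_zero]
    have hmon : (monomial (Finsupp.single i 1) (1 : k)) = X i := rfl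
    rw [hmon, aeval_X, aeval_X]
    exact hD i
  | succ d ih =>
    intro α hα
    have hne : α ≠ 0 := by
      rintro rfl
      simp at hα
    obtain ⟨i, hi⟩ : ∃ i, α i ≠ 0 := by
      by_contra h
      push Not at h
      exact hne (Finsupp.ext h)
    obtain ⟨β, rfl⟩ : ∃ β, α = Finsupp.single i 1 + β := by
      refine ⟨α - Finsupp.single i 1, ?_⟩
      ext j
      by_cases hj : j = i
      · subst hj
        simp only [Finsupp.coe_add, Finsupp.coe_tsub, Pi.add_apply, Pi.sub_apply,
          Finsupp.single_eq_same]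
        omega
      · simp [Finsupp.single_eq_of_ne hj]
    have hβ : Finsupp.degree β = d + 1 := by
      rw [map_add, Finsupp.degree_single] at hα
      omega
    have hmon : (monomial (Finsupp.single i 1 + β) (1 : k)) = X i * monomial β 1 := by
      rw [X, monomial_mul, one_mul]
    rw [hmon, map_mul, map_mul, aeval_X, aeval_X]
    have h1 := ih β hβ
    have h2 := aeval_monomial_mem_pow (k := k) 𝔫 c' hc' β
    rw [hβ] at h2
    have e : c i * aeval c (monomial β (1 : k)) - c' i * aeval c' (monomial β (1 : k)) =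
        c i * (aeval c (monomial β (1 : k)) - aeval c' (monomial β (1 : k))) +
          (c i - c' i) * aeval c' (monomial β (1 : k)) := by ring
    rw [e]
    apply Ideal.add_mem
    · have : c i * (aeval c (monomial β (1 : k)) - aeval c' (monomial β (1 : k))) ∈
          𝔫 * (D * 𝔫 ^ d) := Ideal.mul_mem_mul (hc i) h1
      have e2 : 𝔫 * (D * 𝔫 ^ d) = D * 𝔫 ^ (d + 1) := by
        rw [pow_succ]; ring
      rwa [e2] at this
    · exact Ideal.mul_mem_mul (hD i) h2



theorem aeval_sub_mem_of_isHomogeneous (𝔫 D : Ideal T) (c c' : σ → T) (hc : ∀ i, c i ∈ 𝔫)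
    (hc' : ∀ i, c' i ∈ 𝔫) (hD : ∀ i, c i - c' i ∈ D) (d : ℕ) (F : MvPolynomial σ k)
    (hF : F.IsHomogeneous (d + 1)) : aeval c F - aeval c' F ∈ D * 𝔫 ^ d := by
  have key : aeval c F - aeval c' F = ∑ α ∈ F.support, algebraMap k T (coeff α F) *
      (aeval c (monomial α (1 : k)) - aeval c' (monomial α (1 : k))) := by
    conv_lhs => rw [← F.support_sum_monomial_coeff]
    rw [map_sum, map_sum, ← Finset.sum_sub_distrib]
    refine Finset.sum_congr rfl fun α _ => ?_
    rw [aeval_monomial, aeval_monomial, aeval_monomial, aeval_monomial, map_one, one_mul, one_mul,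
      mul_sub]
  rw [key]
  refine Ideal.sum_mem _ fun α hα => Ideal.mul_mem_left _ _ ?_
  apply aeval_monomial_sub_mem 𝔫 D c c' hc hc' hD d α
  by_contra h
  exact (mem_support_iff.1 hα) (hF.coeff_eq_zero h)

theorem aeval_smul_of_isHomogeneous (a : σ → k) (t : T) (d : ℕ) (F : MvPolynomial σ k)
    (hF : F.IsHomogeneous d) : aeval (fun i => a i • t) F = (eval a F) • t ^ d := by
  have key : ∀ α ∈ F.support, aeval (fun i => a i • t) (monomial α (coeff α F)) =
      (eval a (monomial α (coeff α F))) • t ^ d := by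
    intro α hα
    have hdeg : Finsupp.degree α = d := by
      by_contra h
      exact (mem_support_iff.1 hα) (hF.coeff_eq_zero h)
    rw [aeval_monomial, eval_monomial, Finsupp.prod, Finsupp.prod, Algebra.smul_def, map_mul,
      mul_assoc]
    congr 1
    rw [map_prod, ← hdeg, Finsupp.degree_apply, ← Finset.prod_pow_eq_pow_sum,
      ← Finset.prod_mul_distrib]
    refine Finset.prod_congr rfl fun i _ => ?_
    rw [Algebra.smul_def, mul_pow, map_pow]
  conv_lhs => rw [← F.support_sum_monomial_coeff]
  conv_rhs => rw [← F.support_sum_monomial_coeff]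
  rw [map_sum, map_sum, Finset.sum_smul]
  exact Finset.sum_congr rfl key


end Eval

section Trunc

open Polynomial

variable (k : Type u) [Field k]

/-- the truncated polynomial ring `k[X]/(X^l)` -/
abbrev Tr (l : ℕ) : Type u := k[X] ⧸ Ideal.span {(X : k[X]) ^ l}

/-- the class of `X` -/
noncomputable def tt (l : ℕ) : Tr k l := Ideal.Quotient.mk _ X

variable {k}

theorem tt_pow_self (l : ℕ) : tt k l ^ l = 0 := by
  rw [tt, ← map_pow, Ideal.Quotient.eq_zero_iff_mem]
  exact Ideal.subset_span rfl

theorem smul_tt_pow_eq_zero {l j : ℕ} (hj : j < l) {c : k} (h : c • tt k l ^ j = 0) : c = 0 := by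
  have e : c • tt k l ^ j = Ideal.Quotient.mk (Ideal.span {(X : k[X]) ^ l}) (C c * X ^ j) := by
    rw [tt, ← map_pow, ← Polynomial.smul_eq_C_mul]
    rfl
  rw [e, Ideal.Quotient.eq_zero_iff_mem, Ideal.mem_span_singleton, Polynomial.X_pow_dvd_iff] at h
  have := h j hj
  rwa [Polynomial.coeff_C_mul, Polynomial.coeff_X_pow, if_pos rfl, mul_one] at this

theorem span_tt_pow (l : ℕ) : Ideal.span {tt k l} ^ l = ⊥ := by
  rw [Ideal.span_singleton_pow, tt_pow_self, Ideal.span_singleton_eq_bot]

theorem span_le (l : ℕ) : Ideal.span {(X : k[X]) ^ (l + 1)} ≤ Ideal.span {(X : k[X]) ^ l} :=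
  Ideal.span_singleton_le_span_singleton.mpr (pow_dvd_pow (X : k[X]) (Nat.le_succ l))

/-- the transition map `k[X]/(X^(l+1)) → k[X]/(X^l)` -/
noncomputable abbrev trans (l : ℕ) : Tr k (l + 1) →ₐ[k] Tr k l :=
  Ideal.Quotient.factorₐ k (span_le l)

theorem trans_tt (l : ℕ) : trans l (tt k (l + 1)) = tt k l := rfl

theorem ker_trans (l : ℕ) : RingHom.ker (trans (k := k) l) = Ideal.span {tt k (l + 1)} ^ l := by
  have h := Ideal.Quotient.factor_ker (span_le (k := k) l)
  ext x
  rw [RingHom.mem_ker]
  change Ideal.Quotient.factor (span_le (k := k) l) x = 0 ↔ _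
  rw [← RingHom.mem_ker, h, Ideal.map_span, Set.image_singleton, Ideal.span_singleton_pow, tt,
    ← map_pow]


end Trunc

end Groth.Agent.Lib.Helper19.Arc
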