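import Groth.Agent.Lib.Helper19ComplFlatMap
import Groth.Agent.Lib.Helper19PowerSeries
import Mathlib.RingTheory.TensorProduct.MvPolynomial

/-!
# Flatness of `Λ[[T]] → Λ'[[T]]` for a flat map of Noetherian rings `Λ → Λ'` (helper19)
-/

set_option autoImplicit false
set_option linter.style.haveILetI false
set_option linter.unusedSectionVars false
universe u

namespace Groth.Agent.Lib.Helper19

open MvPowerSeries

section

attribute [local instance] MvPolynomial.algebraMvPolynomial

variable {Λ Λ' : Type u} [CommRing Λ] [CommRing Λ'] [Algebra Λ Λ'] (n : ℕ)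

/-- polynomial rings: base change of a flat map is flat -/
theorem flat_mvPolynomial [Module.Flat Λ Λ'] :
    Module.Flat (MvPolynomial (Fin n) Λ) (MvPolynomial (Fin n) Λ') := by
  have e : TensorProduct Λ (MvPolynomial (Fin n) Λ) Λ' ≃ₐ[MvPolynomial (Fin n) Λ]
      MvPolynomial (Fin n) Λ' :=
    Algebra.IsPushout.equiv Λ (MvPolynomial (Fin n) Λ) Λ' (MvPolynomial (Fin n) Λ')
  exact Module.Flat.of_linearEquiv e.toLinearEquiv.symm

/-- the powers of the ideal of variables consist of series without low degree terms -/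
theorem coeff_eq_zero_of_mem_varsIdeal_pow {σ : Type*} [Finite σ] (m : ℕ) (g : MvPowerSeries σ Λ)
    (hg : g ∈ varsIdeal σ Λ ^ m) (α : σ →₀ ℕ) (hα : Finsupp.degree α < m) : coeff α g = 0 := by
  have h1 : varsIdeal σ Λ ^ m ≤ coeffIdeal σ (⊥ : Ideal Λ) m := by
    rw [coeffIdeal_eq_pow]
    exact Ideal.pow_right_mono (varsIdeal_le_coeffIdeal_one _) m
  have h2 := mem_coeffIdeal.1 (h1 hg) α
  have h3 : m - Finsupp.degree α ≠ 0 := by omega
  rwa [Ideal.bot_pow h3, Ideal.mem_bot] at h2

instance isScalarTower_mvPolynomial_mvPowerSeries :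
    IsScalarTower (MvPolynomial (Fin n) Λ) (MvPolynomial (Fin n) Λ')
      (MvPowerSeries (Fin n) Λ') := by
  apply IsScalarTower.of_algebraMap_eq
  intro p
  rw [MvPowerSeries.algebraMap_apply', MvPowerSeries.algebraMap_apply', MvPolynomial.algebraMap_def,
    Algebra.algebraMap_self, MvPowerSeries.map_id, RingHom.id_apply]
  ext α
  rw [MvPowerSeries.coeff_map, MvPolynomial.coeff_coe, MvPolynomial.coeff_coe, MvPolynomial.coeff_map]

instance isScalarTower_mvPolynomial_mvPowerSeries' :
    IsScalarTower (MvPolynomial (Fin n) Λ) (MvPowerSeries (Fin n) Λ)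
      (MvPowerSeries (Fin n) Λ') := by
  apply IsScalarTower.of_algebraMap_eq
  intro p
  rw [MvPowerSeries.algebraMap_apply', MvPowerSeries.algebraMap_apply', MvPowerSeries.algebraMap_apply'',
    Algebra.algebraMap_self, MvPowerSeries.map_id, RingHom.id_apply]

theorem map_idealOfVars_mvPowerSeries :
    (MvPolynomial.idealOfVars (Fin n) Λ).map
      (algebraMap (MvPolynomial (Fin n) Λ) (MvPowerSeries (Fin n) Λ')) =
      varsIdeal (Fin n) Λ' := by
  rw [MvPolynomial.idealOfVars, Ideal.map_span, ← Set.range_comp]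
  congr 2
  funext s
  rw [Function.comp_apply, MvPowerSeries.algebraMap_apply', MvPolynomial.coe_X, MvPowerSeries.map_X]

theorem map_idealOfVars_mvPolynomial :
    (MvPolynomial.idealOfVars (Fin n) Λ).map
      (algebraMap (MvPolynomial (Fin n) Λ) (MvPolynomial (Fin n) Λ')) =
      MvPolynomial.idealOfVars (Fin n) Λ' := by
  rw [MvPolynomial.idealOfVars, Ideal.map_span, ← Set.range_comp]
  congr 2
  funext s
  rw [Function.comp_apply, MvPolynomial.algebraMap_def, MvPolynomial.map_X]

/-- `Λ[[T]] → Λ'[[T]]` is flat when `Λ → Λ'` is a flat map of Noetherian rings -/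
theorem flat_mvPowerSeries [IsNoetherianRing Λ] [IsNoetherianRing Λ'] [Module.Flat Λ Λ'] :
    Module.Flat (MvPowerSeries (Fin n) Λ) (MvPowerSeries (Fin n) Λ') := by
  haveI := flat_mvPolynomial (Λ := Λ) (Λ' := Λ') n
  have h1 : (MvPolynomial.idealOfVars (Fin n) Λ).map
      (algebraMap (MvPolynomial (Fin n) Λ) (MvPowerSeries (Fin n) Λ)) = varsIdeal (Fin n) Λ :=
    map_idealOfVars_mvPowerSeries (Λ := Λ) (Λ' := Λ) n
  have h2 := map_idealOfVars_mvPowerSeries (Λ := Λ) (Λ' := Λ') n
  have h3 := map_idealOfVars_mvPolynomial (Λ := Λ) (Λ' := Λ') n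
  have h1' : (MvPolynomial.idealOfVars (Fin n) Λ').map
      (algebraMap (MvPolynomial (Fin n) Λ') (MvPowerSeries (Fin n) Λ')) = varsIdeal (Fin n) Λ' :=
    map_idealOfVars_mvPowerSeries (Λ := Λ') (Λ' := Λ') n
  apply flat_of_adic_quotients (P := MvPolynomial (Fin n) Λ) (Q := MvPolynomial (Fin n) Λ')
    (MvPolynomial.idealOfVars (Fin n) Λ)
  · intro m x
    refine ⟨truncTotal m x, ?_⟩
    rw [h1]
    have := sub_truncTotal_mem m x
    rwa [MvPowerSeries.algebraMap_apply', Algebra.algebraMap_self, MvPowerSeries.map_id,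
      RingHom.id_apply]
  · intro m y
    refine ⟨truncTotal m y, ?_⟩
    rw [h2]
    have := sub_truncTotal_mem m y
    rwa [MvPowerSeries.algebraMap_apply', Algebra.algebraMap_self, MvPowerSeries.map_id,
      RingHom.id_apply]
  · intro m q hq
    rw [h2] at hq
    rw [h3, MvPolynomial.mem_pow_idealOfVars_iff']
    intro α hα
    have := coeff_eq_zero_of_mem_varsIdeal_pow m _ hq α hα
    rwa [MvPowerSeries.algebraMap_apply', Algebra.algebraMap_self, MvPowerSeries.map_id,
      RingHom.id_apply, MvPolynomial.coeff_coe] at this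
  · rw [h2, varsIdeal, Ideal.span_le]
    rintro _ ⟨s, rfl⟩
    rw [SetLike.mem_coe, Ideal.mem_jacobson_bot]
    intro y
    rw [MvPowerSeries.isUnit_iff_constantCoeff]
    simp

end

end Groth.Agent.Lib.Helper19
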