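import Groth.Agent.Lib.Helper19ArcA
import Groth.Agent.Lib.Helper19PsFlat
import Mathlib.Algebra.MvPolynomial.Funext

/-!
# The arc lemma (helper19)

Let `k` be an infinite field, `P = k[[x_1..x_n]]` and `J ⊆ (x)^2` an ideal. If every arc
`P/J → k[X]/(X^l)` lifts to `k[X]/(X^(l+1))`, then `J = 0`.
-/

set_option autoImplicit false
universe u

open MvPowerSeries

namespace Groth.Agent.Lib.Helper19.Arc

variable {k : Type u} [Field k]

/-- a `k`-algebra map out of the power series ring, on polynomials -/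
theorem algHom_coe_eq_aeval {n : ℕ} {T : Type u} [CommRing T] [Algebra k T]
    (ψ : MvPowerSeries (Fin n) k →ₐ[k] T) (F : MvPolynomial (Fin n) k) :
    ψ (F : MvPowerSeries (Fin n) k) = MvPolynomial.aeval (fun i => ψ (X i)) F := by
  have : ψ.comp (MvPolynomial.coeToMvPowerSeries.algHom k) =
      MvPolynomial.aeval (fun i => ψ (X i)) := by
    apply MvPolynomial.algHom_ext
    intro s
    simp only [AlgHom.comp_apply, MvPolynomial.coeToMvPowerSeries.algHom_apply, MvPolynomial.coe_X,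
      Algebra.algebraMap_self, MvPowerSeries.map_id, RingHom.id_apply, MvPolynomial.aeval_X]
  have h := AlgHom.congr_fun this F
  simpa [AlgHom.comp_apply, MvPolynomial.coeToMvPowerSeries.algHom_apply] using h

/-- a `k`-algebra map out of the power series ring sends `(x)^N` into `𝔫^N` when the variables go to `𝔫` -/
theorem algHom_mem_pow {n : ℕ} {T : Type u} [CommRing T] [Algebra k T]
    (ψ : MvPowerSeries (Fin n) k →ₐ[k] T) (𝔫 : Ideal T) (h : ∀ i, ψ (X i) ∈ 𝔫) (N : ℕ)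
    {g : MvPowerSeries (Fin n) k} (hg : g ∈ varsIdeal (Fin n) k ^ N) : ψ g ∈ 𝔫 ^ N := by
  have h1 : Ideal.map ψ (varsIdeal (Fin n) k) ≤ 𝔫 := by
    rw [varsIdeal, Ideal.map_span, Ideal.span_le]
    rintro _ ⟨_, ⟨s, rfl⟩, rfl⟩
    exact h s
  have h2 : ψ g ∈ Ideal.map ψ (varsIdeal (Fin n) k ^ N) := Ideal.mem_map_of_mem _ hg
  rw [Ideal.map_pow] at h2
  exact Ideal.pow_right_mono h1 N h2

/-- **The arc lemma.** -/
theorem eq_bot_of_curvilinear_lifting [Infinite k] (n : ℕ) (J : Ideal (MvPowerSeries (Fin n) k))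
    (hJ : J ≤ varsIdeal (Fin n) k ^ 2)
    (hlift : ∀ l : ℕ, 1 ≤ l → ∀ φ : MvPowerSeries (Fin n) k →ₐ[k] Tr k l,
      (∀ g ∈ J, φ g = 0) → (∀ i, IsNilpotent (φ (X i))) →
      ∃ ψ : MvPowerSeries (Fin n) k →ₐ[k] Tr k (l + 1),
        (∀ g ∈ J, ψ g = 0) ∧ (trans l).comp ψ = φ) : J = ⊥ := by
  classical
  by_contra hne
  obtain ⟨f₀, hf₀J, hf₀⟩ : ∃ f ∈ J, f ≠ 0 := by
    by_contra h
    push Not at h
    exact hne ((Submodule.eq_bot_iff J).2 h)
  obtain ⟨α₁, hα₁⟩ : ∃ α, coeff α f₀ ≠ 0 := by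
    by_contra h
    push Not at h
    exact hf₀ (MvPowerSeries.ext h)
  have hex : ∃ d : ℕ, ∃ g ∈ J, ∃ α : Fin n →₀ ℕ, Finsupp.degree α = d ∧ coeff α g ≠ 0 :=
    ⟨_, f₀, hf₀J, α₁, rfl, hα₁⟩
  obtain ⟨f, hfJ, α₀, hα₀d, hα₀⟩ := Nat.find_spec hex
  have hmin : ∀ g ∈ J, ∀ α : Fin n →₀ ℕ, Finsupp.degree α < Nat.find hex → coeff α g = 0 := by
    intro g hg α hα
    by_contra h
    exact Nat.find_min hex hα ⟨g, hg, α, rfl, h⟩
  obtain ⟨d, hd⟩ : ∃ d, d = Nat.find hex := ⟨_, rfl⟩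
  rw [← hd] at hmin hα₀d
  -- `d ≥ 2`
  have hd2 : 2 ≤ d := by
    by_contra h
    have h' : Finsupp.degree α₀ < 2 := by omega
    exact hα₀ (Groth.Agent.Lib.Helper19.coeff_eq_zero_of_mem_varsIdeal_pow 2 f (hJ hfJ) α₀ h')
  -- the initial form
  let F : MvPolynomial (Fin n) k := truncTotal (d + 1) f
  have hFcoeff : ∀ α, MvPolynomial.coeff α F = if Finsupp.degree α < d + 1 then coeff α f else 0 :=
    fun α => coeff_truncTotal_eq_ite f
  have hFhom : F.IsHomogeneous d := by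
    intro α hα
    change Finsupp.weight (fun _ => 1) α = d
    rw [← Finsupp.degree_eq_weight_one]
    rw [hFcoeff] at hα
    split_ifs at hα with h1
    · by_contra h2
      exact hα (hmin f hfJ α (by omega))
    · exact absurd rfl hα
  have hF0 : F ≠ 0 := by
    intro h
    have := hFcoeff α₀
    rw [h, MvPolynomial.coeff_zero, if_pos (by omega)] at this
    exact hα₀ this.symm
  obtain ⟨a, ha⟩ : ∃ a : Fin n → k, MvPolynomial.eval a F ≠ 0 := by
    by_contra h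
    push Not at h
    exact hF0 (MvPolynomial.funext (fun x => by rw [h x, map_zero]))
  -- the arc
  have h𝔫 := span_tt_pow (k := k) d
  have hmem : ∀ i, (fun i => a i • tt k d) i ∈ Ideal.span {tt k d} := fun i =>
    Submodule.smul_of_tower_mem _ _ (Ideal.subset_span rfl)
  obtain ⟨φ, hφ⟩ := Groth.Agent.Lib.Helper19.exists_algHom_X_eq (Λ := k) (Ideal.span {tt k d}) d h𝔫
    (fun i => a i • tt k d) hmem
  have hφJ : ∀ g ∈ J, φ g = 0 := by
    intro g hg
    have h1 : g ∈ varsIdeal (Fin n) k ^ d :=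
      Groth.Agent.Lib.Helper19.mem_varsIdeal_pow_of_coeff_eq_zero d g (hmin g hg)
    have h2 := algHom_mem_pow φ (Ideal.span {tt k d}) (fun i => by rw [hφ]; exact hmem i) d h1
    rwa [h𝔫, Ideal.mem_bot] at h2
  have hφnil : ∀ i, IsNilpotent (φ (X i)) := by
    intro i
    refine ⟨d, ?_⟩
    rw [hφ, smul_pow, tt_pow_self, smul_zero]
  obtain ⟨ψ, hψJ, hψφ⟩ := hlift d (by omega) φ hφJ hφnil
  -- the lifted arc
  have h𝔫' := span_tt_pow (k := k) (d + 1)
  have hD : ∀ i, ψ (X i) - a i • tt k (d + 1) ∈ Ideal.span {tt k (d + 1)} ^ d := by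
    intro i
    rw [← ker_trans, RingHom.mem_ker, map_sub, map_smul, trans_tt]
    have := AlgHom.congr_fun hψφ (X i)
    rw [AlgHom.comp_apply, hφ] at this
    rw [this, sub_self]
  have hc' : ∀ i, a i • tt k (d + 1) ∈ Ideal.span {tt k (d + 1)} := fun i =>
    Submodule.smul_of_tower_mem _ _ (Ideal.subset_span rfl)
  have hc : ∀ i, ψ (X i) ∈ Ideal.span {tt k (d + 1)} := by
    intro i
    have h1 : ψ (X i) = a i • tt k (d + 1) + (ψ (X i) - a i • tt k (d + 1)) := by ring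
    rw [h1]
    exact Ideal.add_mem _ (hc' i) (Ideal.pow_le_self (by omega) (hD i))
  have hψf : ψ f = 0 := hψJ f hfJ
  have h1 : ψ (f - (F : MvPowerSeries (Fin n) k)) = 0 := by
    have h2 := algHom_mem_pow ψ (Ideal.span {tt k (d + 1)}) hc (d + 1)
      (Groth.Agent.Lib.Helper19.sub_truncTotal_mem (d + 1) f)
    rwa [h𝔫', Ideal.mem_bot] at h2
  have h3 : ψ (F : MvPowerSeries (Fin n) k) = 0 := by
    rw [map_sub, hψf, zero_sub, neg_eq_zero] at h1
    exact h1
  rw [algHom_coe_eq_aeval] at h3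
  obtain ⟨e, rfl⟩ : ∃ e, d = e + 1 := ⟨d - 1, by omega⟩
  have h4 := aeval_sub_mem_of_isHomogeneous (k := k) (Ideal.span {tt k (e + 1 + 1)})
    (Ideal.span {tt k (e + 1 + 1)} ^ (e + 1)) (fun i => ψ (X i)) (fun i => a i • tt k (e + 1 + 1))
    hc hc' hD e F hFhom
  have h5 : Ideal.span {tt k (e + 1 + 1)} ^ (e + 1) * Ideal.span {tt k (e + 1 + 1)} ^ e = ⊥ := by
    have e1 := (pow_add (Ideal.span {tt k (e + 1 + 1)}) (e + 1) e).symm
    rw [e1]
    have : e + 1 + 1 ≤ e + 1 + e := by omega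
    exact le_bot_iff.1 (h𝔫' ▸ Ideal.pow_le_pow_right this)
  rw [h5, Ideal.mem_bot, h3, zero_sub, neg_eq_zero,
    aeval_smul_of_isHomogeneous a (tt k (e + 1 + 1)) (e + 1) F hFhom] at h4
  exact ha (smul_tt_pow_eq_zero (by omega) h4)

end Groth.Agent.Lib.Helper19.Arc
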