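import Groth.Agent.Lib.Helper19ArcA
import Mathlib.Algebra.TrivSqZeroExt.Basic
import Mathlib.Algebra.Polynomial.Derivative
import Mathlib.Algebra.Polynomial.AlgebraMap
import Mathlib.Tactic

/-!
# From lifting of tangent vectors to lifting of arcs (helper19)

In characteristic zero, `k[X]/(X^(m+2))` embeds into `A ⊕ A`, `A = k[X]/(X^(m+1))`, by
`g ↦ (g, g')`; the image is the set of `(a, b)` with `a' ≡ b` modulo `X^m`. Hence an arc
`u : R → A` lifts to `k[X]/(X^(m+2))` as soon as the tangent vector `(u, u') : R → A ⊕ A/(X^m)` lifts to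
`A ⊕ A` (the `T¹`-lifting trick).
-/

set_option autoImplicit false
universe u

open Polynomial TrivSqZeroExt

namespace Groth.Agent.Lib.Helper19.Arc

section Taylor

variable {k B N : Type u} [Field k] [CommRing B] [Algebra k B] [AddCommGroup N] [Module B N]
  [Module Bᵐᵒᵖ N] [IsCentralScalar B N] [Module k N] [IsScalarTower k B N] [IsScalarTower k Bᵐᵒᵖ N]

theorem fst_aeval (b : B) (ν : N) (g : k[X]) :
    (aeval (inl b + inr ν : TrivSqZeroExt B N) g).fst = aeval b g := by
  have h := Polynomial.aeval_algHom_apply (fstHom k B N) (inl b + inr ν : TrivSqZeroExt B N) g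
  have h2 : fstHom k B N (inl b + inr ν : TrivSqZeroExt B N) = b := by simp
  rw [h2] at h
  exact h.symm

theorem snd_aeval (b : B) (ν : N) (g : k[X]) :
    (aeval (inl b + inr ν : TrivSqZeroExt B N) g).snd = aeval b (derivative g) • ν := by
  induction g using Polynomial.induction_on' with
  | add p q hp hq => rw [map_add, snd_add, hp, hq, map_add, map_add, add_smul]
  | monomial j c =>
    rw [aeval_monomial, derivative_monomial, aeval_monomial, algebraMap_eq_inl', snd_mul, snd_inl,
      fst_inl, snd_pow, fst_pow]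
    simp only [fst_add, fst_inl, fst_inr, add_zero, snd_add, snd_inl, snd_inr, zero_add, smul_zero,
      MulOpposite.op_pow]
    rw [Nat.pred_eq_sub_one, map_mul, map_natCast, mul_smul, mul_smul, Nat.cast_smul_eq_nsmul,
      algebraMap_smul]

end Taylor

section Jets

variable (k : Type u) [Field k]

/-- the point `(t, 1)` of `A ⊕ A`, `A = k[X]/(X^l)` -/
noncomputable def tau (l : ℕ) : TrivSqZeroExt (Tr k l) (Tr k l) := inl (tt k l) + inr 1

theorem tau_pow_succ (l : ℕ) : tau k l ^ (l + 1) = 0 := by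
  apply TrivSqZeroExt.ext
  · rw [fst_pow, tau]
    simp only [fst_add, fst_inl, fst_inr, add_zero, fst_zero]
    rw [pow_succ, tt_pow_self, zero_mul]
  · rw [snd_pow, tau]
    simp only [fst_add, fst_inl, fst_inr, add_zero, snd_add, snd_inl, snd_inr, zero_add, snd_zero,
      Nat.pred_eq_sub_one, Nat.add_sub_cancel]
    rw [tt_pow_self]
    simp

/-- `g ↦ (g, g')`, `k[X]/(X^(l+1)) → A ⊕ A` with `A = k[X]/(X^l)` -/
noncomputable def iota (l : ℕ) : Tr k (l + 1) →ₐ[k] TrivSqZeroExt (Tr k l) (Tr k l) :=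
  Ideal.Quotient.liftₐ _ (aeval (tau k l)) (by
    intro a ha
    rw [Ideal.mem_span_singleton] at ha
    obtain ⟨q, rfl⟩ := ha
    rw [map_mul, map_pow, aeval_X, tau_pow_succ, zero_mul])

variable {k}

theorem aeval_tt (l : ℕ) (g : k[X]) : aeval (tt k l) g = Ideal.Quotient.mk _ g := by
  have h := Polynomial.aeval_algHom_apply (Ideal.Quotient.mkₐ k (Ideal.span {(X : k[X]) ^ l})) X g
  rw [aeval_X_left_apply] at h
  exact h

theorem iota_mk (l : ℕ) (g : k[X]) :
    iota k l (Ideal.Quotient.mk _ g) =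
      inl (Ideal.Quotient.mk _ g) + inr (Ideal.Quotient.mk _ (derivative g)) := by
  have h1 : iota k l (Ideal.Quotient.mk _ g) = aeval (tau k l) g := rfl
  rw [h1]
  apply TrivSqZeroExt.ext
  · rw [tau, fst_aeval, aeval_tt]
    simp
  · rw [tau, snd_aeval, aeval_tt]
    simp

theorem fst_iota (l : ℕ) (x : Tr k (l + 1)) : (iota k l x).fst = trans l x := by
  obtain ⟨g, rfl⟩ := Ideal.Quotient.mk_surjective x
  rw [iota_mk]
  simp

/-- in characteristic zero `g ↦ (g, g')` is injective on `k[X]/(X^(l+1))`, `l ≥ 1` -/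
theorem iota_injective [CharZero k] (l : ℕ) (hl : 1 ≤ l) : Function.Injective (iota k l) := by
  rw [injective_iff_map_eq_zero]
  intro x hx
  obtain ⟨g, rfl⟩ := Ideal.Quotient.mk_surjective x
  rw [iota_mk] at hx
  have h1 : (Ideal.Quotient.mk (Ideal.span {(X : k[X]) ^ l})) g = 0 := by
    have := congrArg TrivSqZeroExt.fst hx
    simpa using this
  have h2 : (Ideal.Quotient.mk (Ideal.span {(X : k[X]) ^ l})) (derivative g) = 0 := by
    have := congrArg TrivSqZeroExt.snd hx
    simpa using this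
  rw [Ideal.Quotient.eq_zero_iff_mem, Ideal.mem_span_singleton, Polynomial.X_pow_dvd_iff] at h1 h2 ⊢
  intro d hd
  rcases Nat.eq_zero_or_pos d with rfl | hd0
  · exact h1 0 (by omega)
  · obtain ⟨e, rfl⟩ : ∃ e, d = e + 1 := ⟨d - 1, by omega⟩
    have h3 := h2 e (by omega)
    rw [coeff_derivative] at h3
    have h4 : ((e : k) + 1) ≠ 0 := by exact_mod_cast Nat.succ_ne_zero e
    exact (mul_eq_zero.1 h3).resolve_right h4

/-- the image of `g ↦ (g, g')` -/
theorem exists_iota_eq [CharZero k] (m : ℕ) (a b : Tr k (m + 1))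
    (hab : ∃ g h : k[X], a = Ideal.Quotient.mk _ g ∧ b = Ideal.Quotient.mk _ h ∧
      (X : k[X]) ^ m ∣ derivative g - h) :
    ∃ x : Tr k (m + 1 + 1), iota k (m + 1) x = inl a + inr b := by
  obtain ⟨g, h, rfl, rfl, hdvd⟩ := hab
  let c : k := - (derivative g - h).coeff m / ((m : k) + 1)
  have hm1 : ((m : k) + 1) ≠ 0 := by exact_mod_cast Nat.succ_ne_zero m
  refine ⟨Ideal.Quotient.mk _ (g + C c * X ^ (m + 1)), ?_⟩
  rw [iota_mk]
  have e1 : (Ideal.Quotient.mk (Ideal.span {(X : k[X]) ^ (m + 1)})) (g + C c * X ^ (m + 1)) =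
      Ideal.Quotient.mk _ g := by
    rw [map_add, add_eq_left, Ideal.Quotient.eq_zero_iff_mem, Ideal.mem_span_singleton]
    exact Dvd.intro_left _ rfl
  have e2 : (Ideal.Quotient.mk (Ideal.span {(X : k[X]) ^ (m + 1)}))
      (derivative (g + C c * X ^ (m + 1))) = Ideal.Quotient.mk _ h := by
    rw [← sub_eq_zero, ← map_sub, Ideal.Quotient.eq_zero_iff_mem, Ideal.mem_span_singleton,
      Polynomial.X_pow_dvd_iff]
    intro d hd
    rw [Polynomial.X_pow_dvd_iff] at hdvd
    have h5 : derivative (g + C c * X ^ (m + 1)) - h =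
        (derivative g - h) + C (c * ((m : k) + 1)) * X ^ m := by
      rw [derivative_add, derivative_C_mul, derivative_X_pow]
      simp only [Nat.add_sub_cancel, Nat.cast_add, Nat.cast_one, map_mul, map_add, map_natCast,
        map_one]
      ring
    rw [h5, coeff_add, coeff_C_mul, coeff_X_pow]
    rcases Nat.lt_succ_iff_lt_or_eq.1 hd with hlt | rfl
    · rw [hdvd d hlt, if_neg (by omega), mul_zero, add_zero]
    · rw [if_pos rfl, mul_one]
      simp only [c]
      field_simp
      ring
  rw [e1, e2]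

end Jets

end Groth.Agent.Lib.Helper19.Arc
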