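import Groth.Agent.Lib.Helper19ArcC

/-!
# The `T¹`-lifting trick: lifting arcs from lifting tangent vectors (helper19)
-/

set_option autoImplicit false
universe u

open Polynomial TrivSqZeroExt

namespace Groth.Agent.Lib.Helper19.Arc

variable (k : Type u) [Field k]

/-- the ideal `(t^m)` of `A = k[X]/(X^(m+1))` -/
noncomputable abbrev topIdeal (m : ℕ) : Ideal (Tr k (m + 1)) := Ideal.span {tt k (m + 1) ^ m}

/-- the module `A/(t^m)` over `A = k[X]/(X^(m+1))` -/
def TopQuot (m : ℕ) : Type u := Tr k (m + 1) ⧸ topIdeal k m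

noncomputable instance (m : ℕ) : AddCommGroup (TopQuot k m) :=
  inferInstanceAs (AddCommGroup (Tr k (m + 1) ⧸ topIdeal k m))

noncomputable instance (m : ℕ) : Module (Tr k (m + 1)) (TopQuot k m) :=
  inferInstanceAs (Module (Tr k (m + 1)) (Tr k (m + 1) ⧸ topIdeal k m))

noncomputable instance (m : ℕ) : Module (Tr k (m + 1))ᵐᵒᵖ (TopQuot k m) :=
  inferInstanceAs (Module (Tr k (m + 1))ᵐᵒᵖ (Tr k (m + 1) ⧸ topIdeal k m))

instance (m : ℕ) : IsCentralScalar (Tr k (m + 1)) (TopQuot k m) :=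
  inferInstanceAs (IsCentralScalar (Tr k (m + 1)) (Tr k (m + 1) ⧸ topIdeal k m))

noncomputable instance (m : ℕ) : Module k (TopQuot k m) :=
  inferInstanceAs (Module k (Tr k (m + 1) ⧸ topIdeal k m))

instance (m : ℕ) : IsScalarTower k (Tr k (m + 1)) (TopQuot k m) :=
  inferInstanceAs (IsScalarTower k (Tr k (m + 1)) (Tr k (m + 1) ⧸ topIdeal k m))

instance (m : ℕ) : IsScalarTower k (Tr k (m + 1))ᵐᵒᵖ (TopQuot k m) :=
  inferInstanceAs (IsScalarTower k (Tr k (m + 1))ᵐᵒᵖ (Tr k (m + 1) ⧸ topIdeal k m))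

/-- the quotient map `A → A/(t^m)` -/
noncomputable def topMk (m : ℕ) : Tr k (m + 1) →ₗ[Tr k (m + 1)] TopQuot k m :=
  Submodule.mkQ (topIdeal k m)

theorem topMk_surjective (m : ℕ) : Function.Surjective (topMk k m) :=
  Submodule.mkQ_surjective _

theorem topMk_eq_zero_iff (m : ℕ) (x : Tr k (m + 1)) : topMk k m x = 0 ↔ x ∈ topIdeal k m :=
  Submodule.Quotient.mk_eq_zero _

theorem smul_topMk_one (m : ℕ) (x : Tr k (m + 1)) : x • topMk k m 1 = topMk k m x := by
  rw [← map_smul, smul_eq_mul, mul_one]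

/-- the point `(t, 1)` of `A ⊕ A/(t^m)` -/
noncomputable def sigma (m : ℕ) : TrivSqZeroExt (Tr k (m + 1)) (TopQuot k m) :=
  inl (tt k (m + 1)) + inr (topMk k m 1)

theorem sigma_pow_succ (m : ℕ) : sigma k m ^ (m + 1) = 0 := by
  apply TrivSqZeroExt.ext
  · rw [fst_pow, sigma]
    simp only [fst_add, fst_inl, fst_inr, add_zero, fst_zero]
    rw [tt_pow_self]
  · rw [snd_pow, sigma]
    simp only [fst_add, fst_inl, fst_inr, add_zero, snd_add, snd_inl, snd_inr, zero_add, snd_zero,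
      Nat.pred_eq_sub_one, Nat.add_sub_cancel]
    have h : tt k (m + 1) ^ m • topMk k m 1 = 0 := by
      rw [smul_topMk_one, topMk_eq_zero_iff]
      exact Ideal.subset_span rfl
    rw [h, smul_zero]

/-- `g ↦ (g, g' mod t^m)`: the tangent vector of the identity arc of `A = k[X]/(X^(m+1))` -/
noncomputable def jay (m : ℕ) :
    Tr k (m + 1) →ₐ[k] TrivSqZeroExt (Tr k (m + 1)) (TopQuot k m) :=
  Ideal.Quotient.liftₐ _ (aeval (sigma k m)) (by
    intro a ha
    rw [Ideal.mem_span_singleton] at ha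
    obtain ⟨q, rfl⟩ := ha
    rw [map_mul, map_pow, aeval_X, sigma_pow_succ]
    exact zero_mul _)

variable {k}

theorem jay_mk (m : ℕ) (g : k[X]) :
    jay k m (Ideal.Quotient.mk _ g) =
      inl (Ideal.Quotient.mk _ g) +
        inr (topMk k m (Ideal.Quotient.mk _ (derivative g))) := by
  have h1 : jay k m (Ideal.Quotient.mk _ g) = aeval (sigma k m) g := rfl
  rw [h1]
  apply TrivSqZeroExt.ext
  · rw [sigma, fst_aeval, aeval_tt]
    simp
  · rw [sigma, snd_aeval, aeval_tt]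
    simp only [snd_add, snd_inl, snd_inr, zero_add]
    rw [smul_topMk_one]

theorem fst_jay (m : ℕ) (x : Tr k (m + 1)) : (jay k m x).fst = x := by
  obtain ⟨g, rfl⟩ := Ideal.Quotient.mk_surjective x
  rw [jay_mk]
  simp

/-- **The `T¹`-lifting trick.** -/
theorem exists_arc_lift [CharZero k] (m : ℕ) {R : Type u} [CommRing R] [Algebra k R]
    (u : R →ₐ[k] Tr k (m + 1))
    (hT : ∃ ψ' : R →ₐ[k] TrivSqZeroExt (Tr k (m + 1)) (Tr k (m + 1)),
      ∀ r, (ψ' r).fst = (jay k m (u r)).fst ∧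
        topMk k m (ψ' r).snd = (jay k m (u r)).snd) :
    ∃ ψ : R →ₐ[k] Tr k (m + 1 + 1), (trans (m + 1)).comp ψ = u := by
  obtain ⟨ψ', hψ'⟩ := hT
  have hinj := iota_injective (k := k) (m + 1) (by omega)
  have hrange : ∀ r, ψ' r ∈ (iota k (m + 1)).range := by
    intro r
    obtain ⟨h1, h2⟩ := hψ' r
    rw [fst_jay] at h1
    obtain ⟨g, hg⟩ := Ideal.Quotient.mk_surjective (u r)
    obtain ⟨h, hh⟩ := Ideal.Quotient.mk_surjective (ψ' r).snd
    rw [← hg, jay_mk] at h2
    simp only [snd_add, snd_inl, snd_inr, zero_add] at h2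
    rw [← hh, eq_comm, ← sub_eq_zero, ← map_sub, topMk_eq_zero_iff, Ideal.mem_span_singleton] at h2
    obtain ⟨y, hy⟩ := h2
    obtain ⟨q, rfl⟩ := Ideal.Quotient.mk_surjective y
    have hdvd : (X : k[X]) ^ m ∣ derivative g - h := by
      have h3 : Ideal.Quotient.mk (Ideal.span {(X : k[X]) ^ (m + 1)})
          (derivative g - h - X ^ m * q) = 0 := by
        rw [map_sub, map_sub, hy, map_mul, map_pow]
        exact sub_self _
      rw [Ideal.Quotient.eq_zero_iff_mem, Ideal.mem_span_singleton] at h3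
      obtain ⟨w, hw⟩ := h3
      refine ⟨q + X * w, ?_⟩
      have : derivative g - h = X ^ m * q + X ^ (m + 1) * w := by rw [← hw]; ring
      rw [this]; ring
    obtain ⟨x, hx⟩ := exists_iota_eq m (u r) (ψ' r).snd ⟨g, h, hg.symm, hh.symm, hdvd⟩
    refine ⟨x, ?_⟩
    change iota k (m + 1) x = ψ' r
    rw [hx]
    apply TrivSqZeroExt.ext
    · simp [h1]
    · simp
  let e := AlgEquiv.ofInjective (iota k (m + 1)) hinj
  let ψ : R →ₐ[k] Tr k (m + 1 + 1) :=
    (e.symm : (iota k (m + 1)).range →ₐ[k] Tr k (m + 1 + 1)).comp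
      (ψ'.codRestrict (iota k (m + 1)).range hrange)
  refine ⟨ψ, ?_⟩
  apply AlgHom.ext
  intro r
  have h3 : iota k (m + 1) (ψ r) = ψ' r := by
    have h4 : e (ψ r) = ψ'.codRestrict (iota k (m + 1)).range hrange r := by
      change e (e.symm (ψ'.codRestrict (iota k (m + 1)).range hrange r)) = _
      rw [AlgEquiv.apply_symm_apply]
    exact congrArg Subtype.val h4
  rw [AlgHom.comp_apply, ← fst_iota, h3, (hψ' r).1, fst_jay]

end Groth.Agent.Lib.Helper19.Arc
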