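import Groth.Agent.Lib.Helper19ArcD
import Groth.Prelude.Def_ArtFun2
import Mathlib.RingTheory.AdjoinRoot
import Mathlib.RingTheory.Artinian.Ring

/-!
# The truncated polynomial rings as objects of `Art k k` (helper19)
-/

set_option autoImplicit false
universe u

open Polynomial

namespace Groth.Agent.Lib.Helper19.Arc

variable (k : Type u) [Field k]

/-- the augmentation `k[X]/(X^(m+1)) → k` -/
noncomputable def trRes (m : ℕ) : Tr k (m + 1) →ₐ[k] k :=
  Ideal.Quotient.liftₐ _ (aeval (0 : k)) (by
    intro a ha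
    rw [Ideal.mem_span_singleton] at ha
    obtain ⟨q, rfl⟩ := ha
    rw [map_mul, map_pow, aeval_X, zero_pow (Nat.succ_ne_zero m), zero_mul])

variable {k}

theorem trRes_mk (m : ℕ) (g : k[X]) : trRes k m (Ideal.Quotient.mk _ g) = g.coeff 0 := by
  change aeval (0 : k) g = _
  rw [Polynomial.coeff_zero_eq_aeval_zero]

theorem trRes_surjective (m : ℕ) : Function.Surjective (trRes k m) := fun c =>
  ⟨algebraMap k _ c, (trRes k m).commutes c⟩

/-- every element of `k[X]/(X^l)` is a constant plus a multiple of `t` -/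
theorem exists_eq_add_tt_mul (l : ℕ) (x : Tr k l) :
    ∃ (c : k) (y : Tr k l), x = algebraMap k (Tr k l) c + tt k l * y := by
  obtain ⟨g, rfl⟩ := Ideal.Quotient.mk_surjective x
  refine ⟨g.coeff 0, Ideal.Quotient.mk _ g.divX, ?_⟩
  have h := Polynomial.divX_mul_X_add g
  conv_lhs => rw [← h]
  rw [map_add, map_mul, tt, add_comm, mul_comm]
  rfl

theorem isNilpotent_tt_mul (l : ℕ) (y : Tr k l) : IsNilpotent (tt k l * y) :=
  ⟨l, by rw [mul_pow, tt_pow_self, zero_mul]⟩

instance isLocalRing_tr (m : ℕ) : IsLocalRing (Tr k (m + 1)) := by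
  haveI : Nontrivial (Tr k (m + 1)) := (trRes k m).toRingHom.domain_nontrivial
  refine IsLocalRing.of_isUnit_or_isUnit_one_sub_self fun a => ?_
  obtain ⟨c, y, rfl⟩ := exists_eq_add_tt_mul (m + 1) a
  by_cases hc : c = 0
  · right
    rw [hc, map_zero, zero_add]
    exact (isNilpotent_tt_mul (m + 1) y).isUnit_one_sub
  · left
    have hu : IsUnit (algebraMap k (Tr k (m + 1)) c) := (IsUnit.mk0 c hc).map _
    exact (isNilpotent_tt_mul (m + 1) y).isUnit_add_left_of_commute hu (Commute.all _ _)

instance finite_tr (m : ℕ) : Module.Finite k (Tr k (m + 1)) :=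
  (Polynomial.monic_X_pow (m + 1)).finite_quotient

instance isArtinianRing_tr (m : ℕ) : IsArtinianRing (Tr k (m + 1)) :=
  IsArtinianRing.of_finite k _

variable (k) in
/-- `k[X]/(X^(m+1))` as an object of `Art k k` -/
@[reducible] noncomputable def trArt (m : ℕ) : ArtFun.Art k k :=
  { carrier := Tr k (m + 1)
    res := trRes k m
    res_surjective := trRes_surjective m }

end Groth.Agent.Lib.Helper19.Arc
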