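import Mathlib.RingTheory.Nakayama
import Mathlib.RingTheory.AdicCompletion.Functoriality
import Mathlib.RingTheory.AdicCompletion.Noetherian
import Mathlib.RingTheory.LocalRing.MaximalIdeal.Basic
import Mathlib.RingTheory.LocalRing.RingHom.Basic
import Mathlib.Data.List.TFAE
import Mathlib.Tactic.TFAE

set_option autoImplicit false
universe u v w

namespace Groth.Agent.Lib.Helper19

section Cotangent

variable {Λ : Type u} {k : Type v} [CommRing Λ] [Field k] [Algebra Λ k]
variable {R S : Type w} [CommRing R] [CommRing S] [Algebra Λ R] [Algebra Λ S]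
  [IsLocalRing R] [IsLocalRing S]

/-- The kernel of a surjective augmentation to a field is the maximal ideal. -/
lemma mem_maximalIdeal_iff_res (resR : R →ₐ[Λ] k) (hR : Function.Surjective resR) (a : R) :
    a ∈ IsLocalRing.maximalIdeal R ↔ resR a = 0 := by
  have hmax : (RingHom.ker (resR : R →+* k)).IsMaximal :=
    RingHom.ker_isMaximal_of_surjective (resR : R →+* k) hR
  rw [← IsLocalRing.eq_maximalIdeal hmax, RingHom.mem_ker]
  rfl

variable (resR : R →ₐ[Λ] k) (hR : Function.Surjective resR)
  (resS : S →ₐ[Λ] k) (hS : Function.Surjective resS)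
  (f : R →ₐ[Λ] S) (hf : resS.comp f = resR)

include hR hS hf in
lemma map_maximalIdeal_le : Ideal.map f (IsLocalRing.maximalIdeal R) ≤ IsLocalRing.maximalIdeal S := by
  rw [Ideal.map_le_iff_le_comap]
  intro a ha
  rw [Ideal.mem_comap, mem_maximalIdeal_iff_res resS hS]
  rw [mem_maximalIdeal_iff_res resR hR] at ha
  rw [← ha, ← hf]; rfl

include hS in
lemma map_kerΛ_le_maximalIdeal :
    Ideal.map (algebraMap Λ S) (RingHom.ker (algebraMap Λ k)) ≤ IsLocalRing.maximalIdeal S := by
  rw [Ideal.map_le_iff_le_comap]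
  intro r hr
  rw [Ideal.mem_comap, mem_maximalIdeal_iff_res resS hS, AlgHom.commutes]
  exact hr

include hR in
lemma map_kerΛ_le_map :
    Ideal.map (algebraMap Λ S) (RingHom.ker (algebraMap Λ k)) ≤
      Ideal.map f (IsLocalRing.maximalIdeal R) := by
  rw [Ideal.map_le_iff_le_comap]
  intro r hr
  rw [Ideal.mem_comap, ← f.commutes]
  apply Ideal.mem_map_of_mem
  rw [mem_maximalIdeal_iff_res resR hR, AlgHom.commutes]
  exact hr

include hR hS hf in
/-- If the cotangent map is surjective then `f` is surjective (source precomplete, target Noetherian). -/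
theorem surjective_of_cotangent [IsNoetherianRing S]
    [IsPrecomplete (IsLocalRing.maximalIdeal R) R]
    (h : Ideal.map f (IsLocalRing.maximalIdeal R) ⊔ IsLocalRing.maximalIdeal S ^ 2 =
      IsLocalRing.maximalIdeal S) : Function.Surjective f := by
  have hle := map_maximalIdeal_le resR hR resS hS f hf
  have hmap : Ideal.map f (IsLocalRing.maximalIdeal R) = IsLocalRing.maximalIdeal S := by
    apply le_antisymm hle
    apply Submodule.le_of_le_smul_of_le_jacobson_bot (I := IsLocalRing.maximalIdeal S)
      (IsNoetherian.noetherian _) (IsLocalRing.maximalIdeal_le_jacobson _)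
    rw [smul_eq_mul, ← pow_two]
    exact h.ge
  have hmap' : Ideal.map (f : R →+* S) (IsLocalRing.maximalIdeal R) = IsLocalRing.maximalIdeal S := hmap
  haveI : IsHausdorff (Ideal.map (f : R →+* S) (IsLocalRing.maximalIdeal R)) S := by
    rw [hmap']; infer_instance
  apply surjective_of_mk_map_comp_surjective (f : R →+* S) (I := IsLocalRing.maximalIdeal R)
  intro y
  obtain ⟨s, rfl⟩ := Ideal.Quotient.mk_surjective y
  obtain ⟨r, hr⟩ := hR (resS s)
  refine ⟨r, ?_⟩
  rw [RingHom.comp_apply, Ideal.Quotient.eq, hmap', mem_maximalIdeal_iff_res resS hS, map_sub,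
    sub_eq_zero]
  rw [← hr, ← hf]; rfl

include hR hS hf in
theorem surjective_tfae_cotangent [IsNoetherianRing S]
    [IsPrecomplete (IsLocalRing.maximalIdeal R) R] :
    List.TFAE [Function.Surjective f,
      Ideal.map f (IsLocalRing.maximalIdeal R) ⊔ IsLocalRing.maximalIdeal S ^ 2 =
        IsLocalRing.maximalIdeal S,
      Ideal.map (algebraMap Λ S) (RingHom.ker (algebraMap Λ k)) ⊔
        Ideal.map f (IsLocalRing.maximalIdeal R) ⊔ IsLocalRing.maximalIdeal S ^ 2 =
        IsLocalRing.maximalIdeal S] := by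
  have hle := map_maximalIdeal_le resR hR resS hS f hf
  have hsq : IsLocalRing.maximalIdeal S ^ 2 ≤ IsLocalRing.maximalIdeal S :=
    Ideal.pow_le_self two_ne_zero
  tfae_have 1 → 2 := by
    intro hsurj
    apply le_antisymm (sup_le hle hsq)
    refine le_trans ?_ le_sup_left
    intro y hy
    obtain ⟨r, rfl⟩ := hsurj y
    apply Ideal.mem_map_of_mem
    rw [mem_maximalIdeal_iff_res resS hS] at hy
    rw [mem_maximalIdeal_iff_res resR hR, ← hf]
    exact hy
  tfae_have 2 → 3 := by
    intro h
    rw [sup_assoc, h, sup_eq_right]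
    exact map_kerΛ_le_maximalIdeal resS hS
  tfae_have 3 → 1 := by
    intro h
    rw [sup_eq_right.2 (map_kerΛ_le_map resR hR f)] at h
    exact surjective_of_cotangent resR hR resS hS f hf h
  tfae_finish

end Cotangent

end Groth.Agent.Lib.Helper19
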