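import Groth.Agent.Lib.Helper19Deform
import Groth.Agent.Lib.Helper19Cotangent
import Mathlib.RingTheory.AdicCompletion.RingHom

set_option autoImplicit false
universe u v w

open CategoryTheory ArtFun ArtFun.Art

namespace Groth.Agent.Lib.Helper19

section Formal

variable {Λ : Type u} {k : Type u} [CommRing Λ] [Field k] [Algebra Λ k]

/-- Notation: the maximal ideal of a coefficient ring. -/
abbrev CRing.m (S : CRing Λ k) : Ideal S.carrier := IsLocalRing.maximalIdeal S.carrier

lemma truncHom_apply (S : CRing Λ k) (n : ℕ) (s : S.carrier) :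
    (S.truncHom n).1 s = Ideal.Quotient.mk (CRing.mpow S n) s := rfl

lemma truncHom_surjective (S : CRing Λ k) (n : ℕ) : Function.Surjective (S.truncHom n).1 :=
  Ideal.Quotient.mk_surjective

lemma truncHom_eq_zero_iff (S : CRing Λ k) (n : ℕ) (s : S.carrier) :
    (S.truncHom n).1 s = 0 ↔ s ∈ CRing.m S ^ (n + 1) :=
  Ideal.Quotient.eq_zero_iff_mem

lemma truncHom_eq_iff (S : CRing Λ k) (n : ℕ) (s s' : S.carrier) :
    (S.truncHom n).1 s = (S.truncHom n).1 s' ↔ s - s' ∈ CRing.m S ^ (n + 1) :=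
  Ideal.Quotient.eq

lemma factor_truncHom (S : CRing Λ k) (n : ℕ) (s : S.carrier) :
    Ideal.Quotient.factor (Ideal.pow_le_pow_right (Nat.le_succ n) : CRing.m S ^ (n + 1) ≤ CRing.m S ^ n)
      ((S.truncHom n).1 s) = Ideal.Quotient.mk (CRing.m S ^ n) s :=
  Ideal.Quotient.factor_mk _ s

lemma mk_eq_truncHom (S : CRing Λ k) (n : ℕ) (s : S.carrier) :
    Ideal.Quotient.mk (CRing.m S ^ (n + 1)) s = (S.truncHom n).1 s := rfl

lemma truncMap_truncHom_apply (S : CRing Λ k) (n : ℕ) (s : S.carrier) :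
    S.truncMap n ((S.truncHom (n + 1)).1 s) = (S.truncHom n).1 s := rfl

variable {R' : Type u} [CommRing R'] [Algebra Λ R'] {resR' : R' →ₐ[Λ] k}

/-- A compatible system of maps to the truncations: choose representatives and compare. -/
lemma compat_sub_mem (S : CRing Λ k) (ψ : ∀ n, HomSet R' resR' (S.trunc n))
    (hψ : ∀ n, HomSet.map (S.truncMap n) (ψ (n + 1)) = ψ n)
    (a : ℕ → R' → S.carrier) (ha : ∀ n r, (S.truncHom n).1 (a n r) = (ψ n).1 r)
    {m n : ℕ} (hmn : m ≤ n) (r : R') : a n r - a m r ∈ CRing.m S ^ (m + 1) := by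
  induction n, hmn using Nat.le_induction with
  | base => rw [sub_self]; exact Submodule.zero_mem _
  | succ n hmn ih =>
    have h1 : a (n + 1) r - a n r ∈ CRing.m S ^ (n + 1) := by
      rw [← truncHom_eq_zero_iff, map_sub, ha n r, ← truncMap_truncHom_apply, ha (n + 1) r, sub_eq_zero]
      exact AlgHom.congr_fun (congrArg Subtype.val (hψ n)) r
    have h2 : a (n + 1) r - a n r ∈ CRing.m S ^ (m + 1) :=
      Ideal.pow_le_pow_right (Nat.succ_le_succ hmn) h1
    have : a (n + 1) r - a m r = (a (n + 1) r - a n r) + (a n r - a m r) := by ring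
    rw [this]
    exact Ideal.add_mem _ h2 ih

/-- Gluing a compatible system of maps into the truncations of a complete ring. -/
theorem exists_glue (S : CRing Λ k) (ψ : ∀ n, HomSet R' resR' (S.trunc n))
    (hψ : ∀ n, HomSet.map (S.truncMap n) (ψ (n + 1)) = ψ n) :
    ∃ (g : R' →ₐ[Λ] S.carrier) (_ : S.res.comp g = resR'),
      ∀ n, (S.truncHom n).1.comp g = (ψ n).1 := by
  haveI := S.isAdicComplete
  -- representatives
  have hex : ∀ n r, ∃ s : S.carrier, (S.truncHom n).1 s = (ψ n).1 r := fun n r =>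
    truncHom_surjective S n _
  choose a ha using hex
  let f : ∀ n : ℕ, R' →ₐ[Λ] S.carrier ⧸ CRing.m S ^ n := fun n =>
    (Ideal.Quotient.factorₐ Λ (Ideal.pow_le_pow_right (Nat.le_succ n))).comp (ψ n).1
  have hf_apply : ∀ n r, f n r = Ideal.Quotient.mk (CRing.m S ^ n) (a n r) := by
    intro n r
    change Ideal.Quotient.factor (Ideal.pow_le_pow_right (Nat.le_succ n)) ((ψ n).1 r) = _
    rw [← ha n r, factor_truncHom]
  have hf : ∀ {m n : ℕ} (hle : m ≤ n),
      (Ideal.Quotient.factorₐ Λ (Ideal.pow_le_pow_right hle)).comp (f n) = f m := by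
    intro m n hle
    apply AlgHom.ext
    intro r
    change Ideal.Quotient.factor (Ideal.pow_le_pow_right hle) (f n r) = f m r
    rw [hf_apply, hf_apply, Ideal.Quotient.factor_mk, Ideal.Quotient.eq]
    exact Ideal.pow_le_pow_right (Nat.le_succ m) (compat_sub_mem S ψ hψ a ha hle r)
  let g : R' →ₐ[Λ] S.carrier := IsAdicComplete.liftAlgHom (CRing.m S) f hf
  have hg : ∀ n r, (S.truncHom n).1 (g r) = (ψ n).1 r := by
    intro n r
    have h1 : Ideal.Quotient.mk (CRing.m S ^ (n + 1)) (g r) = f (n + 1) r :=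
      IsAdicComplete.mk_liftAlgHom (CRing.m S) f hf (n + 1) r
    rw [← mk_eq_truncHom, h1, hf_apply, ← ha n r, mk_eq_truncHom, truncHom_eq_iff]
    exact compat_sub_mem S ψ hψ a ha (Nat.le_succ n) r
  refine ⟨g, ?_, fun n => AlgHom.ext (hg n)⟩
  apply AlgHom.ext
  intro r
  have h0 := hg 0 r
  have h1 := AlgHom.congr_fun (S.truncHom 0).2 (g r)
  have h2 := AlgHom.congr_fun (ψ 0).2 r
  change (S.trunc 0).res ((S.truncHom 0).1 (g r)) = S.res (g r) at h1
  change (S.trunc 0).res ((ψ 0).1 r) = resR' r at h2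
  change S.res (g r) = resR' r
  rw [← h1, h0, h2]

/-- Maps into a complete coefficient ring are determined by their truncations. -/
theorem algHom_ext_of_truncHom (S : CRing Λ k) (g₁ g₂ : R' →ₐ[Λ] S.carrier)
    (h : ∀ n, (S.truncHom n).1.comp g₁ = (S.truncHom n).1.comp g₂) : g₁ = g₂ := by
  haveI := S.isAdicComplete
  apply AlgHom.ext
  intro r
  rw [← sub_eq_zero]
  apply IsHausdorff.haus (I := CRing.m S) inferInstance
  intro n
  rw [SModEq.zero, smul_eq_mul, Ideal.mul_top]
  have h1 : g₁ r - g₂ r ∈ CRing.m S ^ (n + 1) := by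
    rw [← truncHom_eq_iff]
    exact AlgHom.congr_fun (h n) r
  exact Ideal.pow_le_pow_right (Nat.le_succ n) h1

lemma truncMap_surjective (S : CRing Λ k) (n : ℕ) : Function.Surjective (S.truncMap n) := by
  intro y
  obtain ⟨a, rfl⟩ := truncHom_surjective S n y
  exact ⟨(S.truncHom (n + 1)).1 a, rfl⟩

/-- Every map from a coefficient ring to an Artinian object factors through a truncation. -/
theorem exists_factor_trunc (R : CRing Λ k) {A : Art Λ k} (u : HomSet R.carrier R.res A) :
    ∃ (n : ℕ) (ū : R.trunc n ⟶ A), HomSet.map ū (R.truncHom n) = u := by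
  obtain ⟨n, hn⟩ := isNilpotent_maximalIdeal_of_artinian A
  have hmap : Ideal.map u.1 (CRing.m R) ≤ IsLocalRing.maximalIdeal A :=
    map_maximalIdeal_le R.res R.res_surjective A.res A.res_surjective u.1 u.2
  have hkill : ∀ a ∈ CRing.mpow R n, u.1 a = 0 := by
    intro a ha
    have h1 : u.1 a ∈ Ideal.map u.1 (CRing.m R ^ (n + 1)) := Ideal.mem_map_of_mem _ ha
    rw [Ideal.map_pow] at h1
    have h2 : u.1 a ∈ IsLocalRing.maximalIdeal A ^ n :=
      Ideal.pow_le_pow_right (Nat.le_succ n) (Ideal.pow_right_mono hmap _ h1)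
    rwa [hn, Ideal.zero_eq_bot, Ideal.mem_bot] at h2
  refine ⟨n, ⟨Ideal.Quotient.liftₐ (CRing.mpow R n) u.1 hkill, ?_⟩, ?_⟩
  · apply AlgHom.ext
    intro x
    obtain ⟨a, rfl⟩ := truncHom_surjective R n x
    exact AlgHom.congr_fun u.2 a
  · apply Subtype.ext
    apply AlgHom.ext
    intro a
    rfl

/-- A formal element of a functor with `F(k)` a point is induced from any versal family. -/
theorem exists_along_toFormalElt_eq {F : Art Λ k ⥤ Type v} (h0 : H0 F)
    (R : CRing Λ k) (ξ : Family R.carrier R.res F) (hξ : IsVersal ξ)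
    (S : CRing Λ k) (η : FormalElt F S) :
    ∃ (g : R.carrier →ₐ[Λ] S.carrier) (hg : S.res.comp g = R.res), (ξ.along g hg).toFormalElt = η := by
  have hstep : ∀ (n : ℕ) (ψ : HomSet R.carrier R.res (S.trunc n)), ξ.app _ ψ = η.elt n →
      ∃ ψ' : HomSet R.carrier R.res (S.trunc (n + 1)),
        HomSet.map (S.truncMap n) ψ' = ψ ∧ ξ.app _ ψ' = η.elt (n + 1) := by
    intro n ψ hψ
    exact hξ (S.truncMap n) (truncMap_surjective S n) ψ (η.elt (n + 1)) (by rw [η.compat, hψ])
  have h0' := versal_app_surjective h0 ξ hξ (S.trunc 0) (η.elt 0)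
  let u : ∀ n : ℕ, {ψ : HomSet R.carrier R.res (S.trunc n) // ξ.app _ ψ = η.elt n} := fun n =>
    Nat.rec (motive := fun n => {ψ : HomSet R.carrier R.res (S.trunc n) // ξ.app _ ψ = η.elt n})
      ⟨Classical.choose h0', Classical.choose_spec h0'⟩
      (fun n x => ⟨Classical.choose (hstep n x.1 x.2), (Classical.choose_spec (hstep n x.1 x.2)).2⟩) n
  have hu : ∀ n, HomSet.map (S.truncMap n) (u (n + 1)).1 = (u n).1 := fun n =>
    (Classical.choose_spec (hstep n (u n).1 (u n).2)).1
  obtain ⟨g, hg, hgn⟩ := exists_glue S (fun n => (u n).1) hu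
  refine ⟨g, hg, ?_⟩
  apply FormalElt.ext'
  intro n
  change ξ.app _ _ = η.elt n
  rw [← (u n).2]
  congr 1
  exact Subtype.ext (hgn n)

end Formal

end Groth.Agent.Lib.Helper19
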