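import Mathlib.RingTheory.Derivation.Basic
import Mathlib.RingTheory.Finiteness.Basic
import Groth.Agent.Lib.Helper19Cotangent
import Groth.Agent.Lib.Helper19Length

set_option autoImplicit false
universe u v w

namespace Groth.Agent.Lib.Helper19

section Der

variable {Λ : Type u} {k : Type v} [CommRing Λ] [Field k] [Algebra Λ k]
variable {S : Type w} [CommRing S] [Algebra Λ S] [IsLocalRing S] [Algebra S k]
  [IsScalarTower Λ S k]

lemma algebraMap_eq_zero_iff_mem (hres : Function.Surjective (algebraMap S k)) (y : S) :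
    y ∈ IsLocalRing.maximalIdeal S ↔ algebraMap S k y = 0 := by
  have hmax : (RingHom.ker (algebraMap S k)).IsMaximal :=
    RingHom.ker_isMaximal_of_surjective _ hres
  rw [← IsLocalRing.eq_maximalIdeal hmax, RingHom.mem_ker]

/-- A `Λ`-derivation `S → k` kills the maximal ideal as soon as it kills generators. -/
lemma derivation_eq_zero_of_span (hres : Function.Surjective (algebraMap S k))
    (D : Derivation Λ S k) (G : Set S) (hG : Ideal.span G = IsLocalRing.maximalIdeal S)
    (hD : ∀ g ∈ G, D g = 0) : ∀ y ∈ IsLocalRing.maximalIdeal S, D y = 0 := by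
  intro y hy
  have hGm : ∀ g ∈ G, g ∈ IsLocalRing.maximalIdeal S := fun g hg => hG ▸ Ideal.subset_span hg
  rw [← hG] at hy
  induction hy using Submodule.span_induction with
  | mem x hx => exact hD x hx
  | zero => exact map_zero D
  | add a b _ _ ha hb => rw [map_add, ha, hb, add_zero]
  | smul a x hx ih =>
    have hxm : x ∈ IsLocalRing.maximalIdeal S := hG ▸ hx
    rw [smul_eq_mul, D.leibniz, ih, smul_zero, zero_add, Algebra.smul_def,
      (algebraMap_eq_zero_iff_mem hres x).1 hxm, zero_mul]

/-- The space of `Λ`-derivations `S → k` is finite-dimensional over `k`. -/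
theorem finite_derivation [IsNoetherianRing S] [Module.Finite Λ k]
    (hres : Function.Surjective (algebraMap S k)) : Module.Finite k (Derivation Λ S k) := by
  classical
  obtain ⟨G, hG⟩ :=
    (IsNoetherian.noetherian (IsLocalRing.maximalIdeal S) : (IsLocalRing.maximalIdeal S).FG)
  obtain ⟨C, hC⟩ := (Module.Finite.fg_top : (⊤ : Submodule Λ k).FG)
  let T : Finset S := G ∪ C.image (Function.surjInv hres)
  let ev : Derivation Λ S k →ₗ[k] (T → k) :=
    { toFun := fun D t => D t.1
      map_add' := by intros; rfl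
      map_smul' := by intros; rfl }
  apply Module.Finite.of_injective ev
  rw [← LinearMap.ker_eq_bot, LinearMap.ker_eq_bot']
  intro D hD
  have hT : ∀ t ∈ T, D t = 0 := fun t ht => congrFun hD ⟨t, ht⟩
  have hm : ∀ y ∈ IsLocalRing.maximalIdeal S, D y = 0 :=
    derivation_eq_zero_of_span hres D (G : Set S) hG
      (fun g hg => hT g (Finset.mem_union_left _ (Finset.mem_coe.1 hg)))
  let φ : S →ₗ[Λ] k := (IsScalarTower.toAlgHom Λ S k).toLinearMap
  have hφ : ∀ s, φ s = algebraMap S k s := fun _ => rfl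
  have hmap : Submodule.map φ (Submodule.span Λ (Function.surjInv hres '' (C : Set k))) = ⊤ := by
    rw [Submodule.map_span, Set.image_image, ← hC]
    congr 1
    ext c
    simp only [Set.mem_image, hφ, Function.surjInv_eq hres, exists_eq_right]
  have hspan : ∀ s' ∈ Submodule.span Λ (Function.surjInv hres '' (C : Set k)), D s' = 0 := by
    intro s' hs'
    induction hs' using Submodule.span_induction with
    | mem x hx =>
      obtain ⟨c, hc, rfl⟩ := hx
      exact hT _ (Finset.mem_union_right _ (Finset.mem_image_of_mem _ (Finset.mem_coe.1 hc)))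
    | zero => exact map_zero D
    | add a b _ _ ha hb => rw [map_add, ha, hb, add_zero]
    | smul a x _ ih => rw [D.map_smul, ih, smul_zero]
  ext s
  have hs : φ s ∈ Submodule.map φ (Submodule.span Λ (Function.surjInv hres '' (C : Set k))) := by
    rw [hmap]; exact Submodule.mem_top
  obtain ⟨s', hs', hss'⟩ := hs
  have h1 : s - s' ∈ IsLocalRing.maximalIdeal S := by
    rw [algebraMap_eq_zero_iff_mem hres, map_sub, ← hφ, ← hφ, hss', sub_self]
  have h2 := hm _ h1
  rw [map_sub, hspan s' hs', sub_zero] at h2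
  rw [h2]; rfl

/-- If restriction of `k`-valued `Λ`-derivations along `f : R → S` is injective then `f` is
surjective (source precomplete, target Noetherian; both local with residue field `k`). -/
theorem surjective_of_derivation_injective {R : Type w} [CommRing R] [Algebra Λ R] [IsLocalRing R]
    [IsPrecomplete (IsLocalRing.maximalIdeal R) R] [IsNoetherianRing S]
    (resR : R →ₐ[Λ] k) (hR : Function.Surjective resR)
    (hres : Function.Surjective (algebraMap S k))
    (f : R →ₐ[Λ] S) (hf : (IsScalarTower.toAlgHom Λ S k).comp f = resR)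
    (hinj : ∀ D₁ D₂ : Derivation Λ S k, (∀ r : R, D₁ (f r) = D₂ (f r)) → D₁ = D₂) :
    Function.Surjective f := by
  classical
  have hresf : ∀ r, algebraMap S k (f r) = resR r := fun r => AlgHom.congr_fun hf r
  have h13 := (surjective_tfae_cotangent resR hR (IsScalarTower.toAlgHom Λ S k) hres f hf).out 0 2
  rw [h13]
  by_contra hI
  have hIle : Ideal.map (algebraMap Λ S) (RingHom.ker (algebraMap Λ k)) ⊔
        Ideal.map f (IsLocalRing.maximalIdeal R) ⊔ IsLocalRing.maximalIdeal S ^ 2 ≤
      IsLocalRing.maximalIdeal S :=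
    sup_le (sup_le (map_kerΛ_le_maximalIdeal (IsScalarTower.toAlgHom Λ S k) hres)
      (map_maximalIdeal_le resR hR (IsScalarTower.toAlgHom Λ S k) hres f hf))
      (Ideal.pow_le_self two_ne_zero)
  generalize hIdef : Ideal.map (algebraMap Λ S) (RingHom.ker (algebraMap Λ k)) ⊔
        Ideal.map f (IsLocalRing.maximalIdeal R) ⊔ IsLocalRing.maximalIdeal S ^ 2 = I at hI hIle
  have hfI : ∀ r ∈ IsLocalRing.maximalIdeal R, f r ∈ I := by
    intro r hr
    rw [← hIdef]
    exact Ideal.mem_sup_left (Ideal.mem_sup_right (Ideal.mem_map_of_mem _ hr))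
  have hsqI : ∀ a ∈ IsLocalRing.maximalIdeal S, ∀ b ∈ IsLocalRing.maximalIdeal S, a * b ∈ I := by
    intro a ha b hb
    rw [← hIdef]
    exact Ideal.mem_sup_right (by rw [pow_two]; exact Ideal.mul_mem_mul ha hb)
  let m : Ideal S := IsLocalRing.maximalIdeal S
  let I₀ : Submodule S m := Submodule.comap (Submodule.subtype m) I
  have hI₀ : I₀ ≠ ⊤ := by
    intro h
    apply hI
    apply le_antisymm hIle
    intro y hy
    have : (⟨y, hy⟩ : m) ∈ I₀ := h ▸ Submodule.mem_top
    exact this
  obtain ⟨J₀, hJ₀, hIJ⟩ := (eq_top_or_exists_le_coatom I₀).resolve_left hI₀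
  haveI : IsSimpleModule S (m ⧸ J₀) := isSimpleModule_iff_isCoatom.2 hJ₀
  obtain ⟨e⟩ := simple_equiv_residue (k := k) S hres (m ⧸ J₀)
  let ℓ : m →ₗ[S] k := e.toLinearMap.comp J₀.mkQ
  have hℓsurj : Function.Surjective ℓ := e.surjective.comp (Submodule.mkQ_surjective _)
  have hℓI : ∀ (y : S) (hy : y ∈ m), y ∈ I → ℓ ⟨y, hy⟩ = 0 := by
    intro y hy hyI
    have : (⟨y, hy⟩ : m) ∈ J₀ := hIJ hyI
    show e (Submodule.Quotient.mk ⟨y, hy⟩) = 0
    rw [(Submodule.Quotient.mk_eq_zero J₀).2 this, map_zero]
  -- the derivation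
  have hmem : ∀ (s : S) (r : R), resR r = algebraMap S k s → s - f r ∈ m := by
    intro s r h
    show s - f r ∈ IsLocalRing.maximalIdeal S
    rw [algebraMap_eq_zero_iff_mem hres, map_sub, hresf, h, sub_self]
  let ρ : S → R := fun s => Classical.choose (hR (algebraMap S k s))
  have hρ : ∀ s, resR (ρ s) = algebraMap S k s := fun s => Classical.choose_spec (hR (algebraMap S k s))
  let d : S → k := fun s => ℓ ⟨s - f (ρ s), hmem s (ρ s) (hρ s)⟩
  have hd : ∀ (s : S) (r : R) (h : resR r = algebraMap S k s), d s = ℓ ⟨s - f r, hmem s r h⟩ := by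
    intro s r h
    show ℓ ⟨s - f (ρ s), hmem s (ρ s) (hρ s)⟩ = ℓ ⟨s - f r, hmem s r h⟩
    rw [← sub_eq_zero, ← map_sub]
    have hr : r - ρ s ∈ IsLocalRing.maximalIdeal R := by
      rw [mem_maximalIdeal_iff_res resR hR, map_sub, h, hρ, sub_self]
    have hmem' : f (r - ρ s) ∈ m := hIle (hfI _ hr)
    have : (⟨s - f (ρ s), hmem s (ρ s) (hρ s)⟩ : m) - ⟨s - f r, hmem s r h⟩ = ⟨f (r - ρ s), hmem'⟩ := by
      apply Subtype.ext
      show s - f (ρ s) - (s - f r) = f (r - ρ s)
      rw [map_sub]; ring
    rw [this]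
    exact hℓI _ _ (hfI _ hr)
  have hsmul : ∀ (a b : S), algebraMap S k a = algebraMap S k b → ∀ x : k, a • x = b • x := by
    intro a b h x
    rw [Algebra.smul_def, Algebra.smul_def, h]
  let dl : S →ₗ[Λ] k :=
    { toFun := d
      map_add' := by
        intro s t
        rw [hd (s + t) (ρ s + ρ t) (by rw [map_add, hρ, hρ, map_add])]
        show _ = ℓ _ + ℓ _
        rw [← map_add ℓ]
        congr 1
        apply Subtype.ext
        show s + t - f (ρ s + ρ t) = (s - f (ρ s)) + (t - f (ρ t))
        rw [map_add]; ring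
      map_smul' := by
        intro c s
        rw [hd (c • s) (c • ρ s) (by
          rw [map_smul, hρ, Algebra.smul_def, Algebra.smul_def, map_mul,
            ← IsScalarTower.algebraMap_apply])]
        show _ = c • ℓ _
        rw [← algebraMap_smul S c (ℓ _), ← map_smul ℓ]
        congr 1
        apply Subtype.ext
        show c • s - f (c • ρ s) = algebraMap Λ S c • (s - f (ρ s))
        rw [map_smul, Algebra.smul_def, Algebra.smul_def, smul_eq_mul]; ring }
  have hdl : ∀ s, dl s = d s := fun _ => rfl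
  have hleib : ∀ a b : S, dl (a * b) = a • dl b + b • dl a := by
    intro a b
    rw [hdl, hdl, hdl, hd (a * b) (ρ a * ρ b) (by rw [map_mul, hρ, hρ, map_mul])]
    show _ = a • ℓ _ + b • ℓ _
    rw [hsmul b (f (ρ b)) (by rw [hresf, hρ]), ← map_smul ℓ, ← map_smul ℓ, ← map_add ℓ]
    congr 1
    apply Subtype.ext
    show a * b - f (ρ a * ρ b) = a • (b - f (ρ b)) + f (ρ b) • (a - f (ρ a))
    rw [map_mul, smul_eq_mul, smul_eq_mul]; ring
  let D : Derivation Λ S k := Derivation.mk' dl hleib
  have hDd : ∀ s, D s = d s := fun _ => rfl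
  have hD0 : ∀ r, D (f r) = 0 := by
    intro r
    rw [hDd, hd (f r) r (hresf r).symm]
    have : (⟨f r - f r, hmem (f r) r (hresf r).symm⟩ : m) = 0 := Subtype.ext (sub_self _)
    rw [this, map_zero]
  obtain ⟨y, hy⟩ := hℓsurj 1
  have hy0 : resR 0 = algebraMap S k y.1 := by
    rw [map_zero, ((algebraMap_eq_zero_iff_mem hres y.1).1 y.2)]
  have hDy : D y.1 = 1 := by
    rw [hDd, hd y.1 0 hy0, ← hy]
    congr 1
    apply Subtype.ext
    show y.1 - f 0 = y.1
    rw [map_zero, sub_zero]
  have hD : D = 0 := hinj D 0 (fun r => by rw [hD0]; rfl)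
  rw [hD] at hDy
  exact zero_ne_one hDy

end Der

end Groth.Agent.Lib.Helper19
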