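import Groth.Agent.Lib.Helper19Deform

set_option autoImplicit false
universe u v w

open CategoryTheory ArtFun ArtFun.Art

namespace Groth.Agent.Lib.Helper19

section Tangent

variable {Λ : Type u} {k : Type u} [CommRing Λ] [Field k] [Algebra Λ k]

/-- Under `H0` and `Heps`, any two tangent vectors are the two projections of an element over `k[ε₁, ε₂]`. -/
lemma exists_dual2_of_pair {F : Art Λ k ⥤ Type v} (h0 : H0 F) (h2 : Heps F) (x y : F.obj (dual Λ k)) :
    ∃ z : F.obj (dual2 Λ k), F.map pr₁ z = x ∧ F.map pr₂ z = y :=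
  (cmp_surjective_iff F isFibreProd_dual2).1 (h2 pr₁ pr₂ isFibreProd_dual2).2 x y (h0_elim h0 _ _)

lemma tangent_add_eq {F : Art Λ k ⥤ Type v} [T : TangentStr F] (z : F.obj (dual2 Λ k)) :
    (TangentSpace.mk (F.map pr₁ z) + TangentSpace.mk (F.map pr₂ z) : TangentSpace F) =
      TangentSpace.mk (F.map plus z) := T.add_eq z

lemma tangent_smul_eq {F : Art Λ k ⥤ Type v} [T : TangentStr F] (c : k) (x : TangentSpace F) :
    c • x = TangentSpace.mk (F.map (scale c) x.val) := T.smul_eq c x

theorem exists_linearMap_eq_tangentMap {F G : Art Λ k ⥤ Type v} [TangentStr F] [TangentStr G]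
    (hF0 : H0 F) (hF2 : Heps F) (φ : F ⟶ G) :
    ∃ f : TangentSpace F →ₗ[k] TangentSpace G, ⇑f = TangentSpace.map φ := by
  refine ⟨{ toFun := TangentSpace.map φ, map_add' := ?_, map_smul' := ?_ }, rfl⟩
  · intro x y
    obtain ⟨z, hz1, hz2⟩ := exists_dual2_of_pair hF0 hF2 x.val y.val
    have e1 : x + y = TangentSpace.mk (F.map plus z) := by
      rw [← tangent_add_eq, hz1, hz2]; rfl
    have e2 : TangentSpace.map φ x + TangentSpace.map φ y =
        TangentSpace.mk (G.map plus (φ.app _ z)) := by
      rw [← tangent_add_eq, ← NatTrans.naturality_apply, ← NatTrans.naturality_apply, hz1, hz2]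
      rfl
    rw [e1, e2]
    change φ.app _ (F.map plus z) = G.map plus (φ.app _ z)
    rw [NatTrans.naturality_apply]
  · intro c x
    rw [tangent_smul_eq, RingHom.id_apply, tangent_smul_eq]
    change φ.app _ (F.map (scale c) x.val) = G.map (scale c) (φ.app _ x.val)
    rw [NatTrans.naturality_apply]

end Tangent

end Groth.Agent.Lib.Helper19
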