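import Groth.Agent.Lib.Helper19FibreProd

set_option autoImplicit false
universe u v w

open CategoryTheory ArtFun ArtFun.Art

namespace Groth.Agent.Lib.Helper19

section KMul

variable {Λ : Type u} {k : Type u} [CommRing Λ] [Field k] [Algebra Λ k]

/-- A set-theoretic section of the augmentation. -/
noncomputable def resLift (B : Art Λ k) (c : k) : B := Classical.choose (B.res_surjective c)

lemma res_resLift (B : Art Λ k) (c : k) : B.res (resLift B c) = c :=
  Classical.choose_spec (B.res_surjective c)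

/-- `t` is a socle element: killed by the maximal ideal. -/
def IsSocle (B : Art Λ k) (t : B) : Prop := ∀ y ∈ IsLocalRing.maximalIdeal B, y * t = 0

lemma IsSocle.mul_eq {B : Art Λ k} {t : B} (ht : IsSocle B t) {a a' : B} (h : B.res a = B.res a') :
    a * t = a' * t := by
  have hm : a - a' ∈ IsLocalRing.maximalIdeal B := by
    rw [Art.mem_maximalIdeal_iff, map_sub, h, sub_self]
  have := ht _ hm
  rwa [sub_mul, sub_eq_zero] at this

/-- The action of `k` on socle elements. -/
noncomputable def kmul (B : Art Λ k) (c : k) (t : B) : B := resLift B c * t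

lemma kmul_res {B : Art Λ k} {t : B} (ht : IsSocle B t) (a : B) : kmul B (B.res a) t = a * t :=
  ht.mul_eq (res_resLift B _)

lemma kmul_eq {B : Art Λ k} {t : B} (ht : IsSocle B t) {a : B} {c : k} (h : B.res a = c) :
    kmul B c t = a * t := by
  rw [← h, kmul_res ht]

lemma kmul_zero' {B : Art Λ k} {t : B} (ht : IsSocle B t) : kmul B 0 t = 0 := by
  rw [kmul_eq ht (a := 0) (map_zero _), zero_mul]

lemma kmul_one' {B : Art Λ k} {t : B} (ht : IsSocle B t) : kmul B 1 t = t := by
  rw [kmul_eq ht (a := 1) (map_one _), one_mul]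

lemma kmul_add {B : Art Λ k} {t : B} (ht : IsSocle B t) (c c' : k) :
    kmul B (c + c') t = kmul B c t + kmul B c' t := by
  rw [kmul_eq ht (a := resLift B c + resLift B c') (by rw [map_add, res_resLift, res_resLift]),
    add_mul]
  rfl

lemma mul_kmul {B : Art Λ k} {t : B} (ht : IsSocle B t) (a : B) (c : k) :
    a * kmul B c t = kmul B (B.res a * c) t := by
  have h : kmul B (B.res a * c) t = (a * resLift B c) * t :=
    kmul_eq ht (by rw [map_mul, res_resLift])
  rw [h, mul_assoc]
  rfl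

lemma kmul_eq_zero_iff {B : Art Λ k} {t : B} (ht : IsSocle B t) (ht0 : t ≠ 0) (c : k) :
    kmul B c t = 0 ↔ c = 0 := by
  constructor
  · intro h
    by_contra hc
    have hu : IsUnit (resLift B c) := by
      by_contra hnu
      have hm : resLift B c ∈ IsLocalRing.maximalIdeal B := (IsLocalRing.mem_maximalIdeal _).2 hnu
      rw [Art.mem_maximalIdeal_iff, res_resLift] at hm
      exact hc hm
    apply ht0
    exact (hu.mul_right_eq_zero).1 h
  · intro h
    rw [h, kmul_zero' ht]

end KMul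

section DualCoords

variable {Λ : Type u} {k : Type u} [CommRing Λ] [Field k] [Algebra Λ k]

/-- The constant coefficient of a dual number. -/
def dfst (x : dual Λ k) : k := TrivSqZeroExt.fst (show TrivSqZeroExt k k from x)

/-- The `ε`-coefficient of a dual number. -/
def dsnd (x : dual Λ k) : k := TrivSqZeroExt.snd (show TrivSqZeroExt k k from x)

/-- Build a dual number from its coefficients. -/
def dmk (a c : k) : dual Λ k := (show TrivSqZeroExt k k from (a, c))

@[simp] lemma dfst_dmk (a c : k) : dfst (dmk a c : dual Λ k) = a := rfl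
@[simp] lemma dsnd_dmk (a c : k) : dsnd (dmk a c : dual Λ k) = c := rfl

lemma dual_ext {x y : dual Λ k} (h1 : dfst x = dfst y) (h2 : dsnd x = dsnd y) : x = y :=
  TrivSqZeroExt.ext h1 h2

lemma dfst_eq_res (x : dual Λ k) : dfst x = (dual Λ k).res x := rfl

@[simp] lemma dfst_one : dfst (1 : dual Λ k) = 1 := rfl
@[simp] lemma dsnd_one : dsnd (1 : dual Λ k) = 0 := rfl
@[simp] lemma dfst_zero : dfst (0 : dual Λ k) = 0 := rfl
@[simp] lemma dsnd_zero : dsnd (0 : dual Λ k) = 0 := rfl
lemma dfst_add (x y : dual Λ k) : dfst (x + y) = dfst x + dfst y := rfl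
lemma dsnd_add (x y : dual Λ k) : dsnd (x + y) = dsnd x + dsnd y := rfl
lemma dfst_mul (x y : dual Λ k) : dfst (x * y) = dfst x * dfst y := rfl
lemma dsnd_mul (x y : dual Λ k) : dsnd (x * y) = dfst x * dsnd y + dfst y * dsnd x := by
  change TrivSqZeroExt.snd ((show TrivSqZeroExt k k from x) * (show TrivSqZeroExt k k from y)) = _
  rw [TrivSqZeroExt.snd_mul, op_smul_eq_smul, smul_eq_mul, smul_eq_mul]
  rfl
lemma dfst_algebraMap (r : Λ) : dfst (algebraMap Λ (dual Λ k) r) = algebraMap Λ k r := by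
  change TrivSqZeroExt.fst (algebraMap Λ (TrivSqZeroExt k k) r) = _
  rw [TrivSqZeroExt.algebraMap_eq_inl', TrivSqZeroExt.fst_inl]
lemma dsnd_algebraMap (r : Λ) : dsnd (algebraMap Λ (dual Λ k) r) = 0 := by
  change TrivSqZeroExt.snd (algebraMap Λ (TrivSqZeroExt k k) r) = _
  rw [TrivSqZeroExt.algebraMap_eq_inl', TrivSqZeroExt.snd_inl]

lemma dfst_hom {P : Art Λ k} (g : P ⟶ dual Λ k) (z : P) : dfst (g z) = P.res z :=
  Art.res_app g z

lemma dsnd_baseToDual (c : base Λ k) : dsnd (baseToDual (Λ := Λ) (k := k) c) = 0 := rfl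

end DualCoords

section Doubled

variable {Λ : Type u} {k : Type u} [CommRing Λ] [Field k] [Algebra Λ k]
variable {B P : Art Λ k} {r₁ : P ⟶ B} {r₂ : P ⟶ dual Λ k}

lemma IsSocle.sq_zero {t : B} (ht : IsSocle B t) (htm : t ∈ IsLocalRing.maximalIdeal B) : t * t = 0 :=
  ht t htm

lemma kmul_mul_kmul {t : B} (ht : IsSocle B t) (htm : t ∈ IsLocalRing.maximalIdeal B) (c c' : k) :
    kmul B c t * kmul B c' t = 0 := by
  change resLift B c * t * (resLift B c' * t) = 0
  have : resLift B c * t * (resLift B c' * t) = resLift B c * resLift B c' * (t * t) := by ring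
  rw [this, ht.sq_zero htm, mul_zero]

lemma res_kmul {t : B} (htm : t ∈ IsLocalRing.maximalIdeal B) (c : k) : B.res (kmul B c t) = 0 := by
  change B.res (resLift B c * t) = 0
  rw [map_mul, (Art.mem_maximalIdeal_iff B t).1 htm, mul_zero]

/-- The second structure map `P ⟶ B`, `z ↦ r₁ z + c(z) t`, of the doubled object `P = B ×_k k[ε]`. -/
noncomputable def shiftHom (r₁ : P ⟶ B) (r₂ : P ⟶ dual Λ k) {t : B} (ht : IsSocle B t)
    (htm : t ∈ IsLocalRing.maximalIdeal B) : P ⟶ B :=
  ⟨{ toFun := fun z => r₁ z + kmul B (dsnd (r₂ z)) t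
     map_one' := by
       rw [hom_map_one, hom_map_one, dsnd_one, kmul_zero' ht, add_zero]
     map_mul' := fun z z' => by
       rw [hom_map_mul, hom_map_mul, dsnd_mul, kmul_add ht, dfst_hom, dfst_hom,
         ← Art.res_app r₁ z, ← Art.res_app r₁ z', ← mul_kmul ht, ← mul_kmul ht]
       have h0 := kmul_mul_kmul ht htm (dsnd (r₂ z)) (dsnd (r₂ z'))
       linear_combination (-1 : B) * h0
     map_zero' := by
       rw [hom_map_zero, hom_map_zero, dsnd_zero, kmul_zero' ht, add_zero]
     map_add' := fun z z' => by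
       rw [hom_map_add, hom_map_add, dsnd_add, kmul_add ht]
       ring
     commutes' := fun r => by
       have h1 : r₂ (algebraMap Λ P r) = algebraMap Λ (dual Λ k) r := r₂.toAlgHom.commutes r
       have h2 : r₁ (algebraMap Λ P r) = algebraMap Λ B r := r₁.toAlgHom.commutes r
       rw [h1, h2, dsnd_algebraMap, kmul_zero' ht, add_zero] }, by
    apply AlgHom.ext
    intro z
    change B.res (r₁ z + kmul B (dsnd (r₂ z)) t) = P.res z
    rw [map_add, res_kmul htm, add_zero, Art.res_app]⟩

lemma shiftHom_apply {t : B} (ht : IsSocle B t) (htm : t ∈ IsLocalRing.maximalIdeal B) (z : P) :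
    shiftHom r₁ r₂ ht htm z = r₁ z + kmul B (dsnd (r₂ z)) t := rfl

variable (h : IsFibreProd r₁ r₂ (toBase B) (toBase (dual Λ k)))

include h in
/-- `P = B ×_k k[ε]` with `(r₁, shift)` is also the fibre product `B ×_A B` for `μ : B ⟶ A` surjective with
kernel `(t)`, `t` a nonzero socle element. -/
theorem isFibreProd_shift {A : Art Λ k} (μ : B ⟶ A) {t : B} (ht : IsSocle B t)
    (htm : t ∈ IsLocalRing.maximalIdeal B) (ht0 : t ≠ 0)
    (hker : RingHom.ker μ.toAlgHom = Ideal.span {t}) :
    IsFibreProd r₁ (shiftHom r₁ r₂ ht htm) μ μ where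
  w := by
    apply hom_ext; apply AlgHom.ext; intro z
    change μ (r₁ z) = μ (shiftHom r₁ r₂ ht htm z)
    rw [shiftHom_apply, hom_map_add]
    have : μ (kmul B (dsnd (r₂ z)) t) = 0 := by
      rw [← hom_mem_ker, hker]
      exact Ideal.mul_mem_left _ _ (Ideal.mem_span_singleton_self t)
    rw [this, add_zero]
  inj z z' e₁ e₂ := by
    apply h.inj z z' e₁
    rw [shiftHom_apply, shiftHom_apply, e₁, add_left_cancel_iff] at e₂
    have h0 : kmul B (dsnd (r₂ z) - dsnd (r₂ z')) t = 0 := by
      have := kmul_add ht (dsnd (r₂ z) - dsnd (r₂ z')) (dsnd (r₂ z'))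
      rw [sub_add_cancel, e₂] at this
      exact (add_eq_right.1 this.symm)
    rw [kmul_eq_zero_iff ht ht0, sub_eq_zero] at h0
    apply dual_ext _ h0
    rw [dfst_hom, dfst_hom, ← Art.res_app r₁ z, ← Art.res_app r₁ z', e₁]
  surj a₁ a₂ e := by
    have hd : a₂ - a₁ ∈ Ideal.span {t} := by
      rw [← hker, hom_mem_ker, hom_map_sub, e, sub_self]
    obtain ⟨r, hr⟩ := Ideal.mem_span_singleton'.1 hd
    obtain ⟨z, hz1, hz2⟩ := h.surj a₁ (dmk (B.res a₁) (B.res r)) rfl
    refine ⟨z, hz1, ?_⟩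
    rw [shiftHom_apply, hz1, hz2, dsnd_dmk, kmul_res ht, hr]
    ring

/-- The zero section `B ⟶ P` of the doubled object. -/
noncomputable def zeroSection : B ⟶ P :=
  fibreProdLift h (𝟙 B) (toBase B ≫ baseToDual) (by rw [eq_toBase (𝟙 B ≫ toBase B)]; exact (eq_toBase _).symm)

lemma zeroSection_fst : zeroSection h ≫ r₁ = 𝟙 B := fibreProdLift_fst h _ _ _

lemma zeroSection_snd : zeroSection h ≫ r₂ = toBase B ≫ baseToDual := fibreProdLift_snd h _ _ _

lemma zeroSection_shift {t : B} (ht : IsSocle B t) (htm : t ∈ IsLocalRing.maximalIdeal B) :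
    zeroSection h ≫ shiftHom r₁ r₂ ht htm = 𝟙 B := by
  apply hom_ext; apply AlgHom.ext; intro b
  change shiftHom r₁ r₂ ht htm (zeroSection h b) = b
  rw [shiftHom_apply]
  have h1 : r₁ (zeroSection h b) = b := comp_apply_eq (b := r₁) (c := 𝟙 B) (d := 𝟙 B)
    (by rw [zeroSection_fst]; rfl) b
  have h2 : r₂ (zeroSection h b) = baseToDual (toBase B b) :=
    comp_apply_eq (b := r₂) (c := toBase B) (d := baseToDual) (zeroSection_snd h) b
  rw [h1, h2, dsnd_baseToDual, kmul_zero' ht, add_zero]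

end Doubled

section Functoriality

variable {Λ : Type u} {k : Type u} [CommRing Λ] [Field k] [Algebra Λ k]

/-- A morphism carries `kmul c t` to `kmul c (f t)` for socle elements. -/
lemma hom_kmul {B A : Art Λ k} (f : B ⟶ A) {t : B} {t' : A} (ht' : IsSocle A t') (hft : f t = t') (c : k) :
    f (kmul B c t) = kmul A c t' := by
  change f (resLift B c * t) = _
  rw [hom_map_mul, hft]
  exact (kmul_eq ht' (by rw [Art.res_app, res_resLift])).symm

/-- Generator of the kernel of the first projection of a fibre product along a small extension. -/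
theorem fibreProd_gen {B A A₁ A₂ : Art Λ k} {p₁ : B ⟶ A₁} {p₂ : B ⟶ A₂} {f₁ : A₁ ⟶ A} {f₂ : A₂ ⟶ A}
    (h : IsFibreProd p₁ p₂ f₁ f₂) {t : A₂} (hker : RingHom.ker f₂.toAlgHom = Ideal.span {t})
    (ht0 : t ≠ 0) (hts : IsSocle A₂ t) :
    ∃ bt : B, p₁ bt = 0 ∧ p₂ bt = t ∧ RingHom.ker p₁.toAlgHom = Ideal.span {bt} ∧ bt ≠ 0 ∧
      IsSocle B bt ∧ bt ∈ IsLocalRing.maximalIdeal B := by
  have htker : f₂ t = 0 := by
    rw [← hom_mem_ker, hker]; exact Ideal.mem_span_singleton_self t
  obtain ⟨bt, hbt1, hbt2⟩ := h.surj 0 t (by rw [hom_map_zero, htker])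
  have hkerp : RingHom.ker p₁.toAlgHom = Ideal.span {bt} := by
    apply le_antisymm
    · intro b hb
      rw [hom_mem_ker] at hb
      have hb2 : p₂ b ∈ RingHom.ker f₂.toAlgHom := by
        rw [hom_mem_ker, ← h.w_apply, hb, hom_map_zero]
      rw [hker, Ideal.mem_span_singleton'] at hb2
      obtain ⟨r, hr⟩ := hb2
      obtain ⟨br, hbr⟩ := B.res_surjective (A₂.res r)
      have hrt : p₂ br * t = r * t := hts.mul_eq (by rw [Art.res_app, hbr])
      rw [Ideal.mem_span_singleton']
      refine ⟨br, h.inj _ _ ?_ ?_⟩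
      · rw [hom_map_mul, hbt1, mul_zero, hb]
      · rw [hom_map_mul, hbt2, hrt, hr]
    · rw [Ideal.span_singleton_le_iff_mem, hom_mem_ker]
      exact hbt1
  refine ⟨bt, hbt1, hbt2, hkerp, ?_, ?_, ?_⟩
  · intro h0
    apply ht0
    rw [← hbt2, h0, hom_map_zero]
  · intro y hy
    apply fibreProd_eq_zero h
    · rw [hom_map_mul, hbt1, mul_zero]
    · rw [hom_map_mul, hbt2]
      exact hts _ (hom_mem_maximalIdeal p₂ hy)
  · apply ker_le_maximalIdeal p₁
    rw [hom_mem_ker]; exact hbt1

end Functoriality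

end Groth.Agent.Lib.Helper19
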