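import Groth.Prelude.Def_ArtFun2
import Groth.Agent.Lib.Helper19Torsor
import Groth.Agent.Lib.Helper19Tangent
import Groth.Agent.Lib.Helper19Der

set_option autoImplicit false
universe u v
open CategoryTheory ArtFun ArtFun.Art

namespace Groth.Agent.Lib.Helper19

section Dual2Coords

variable {Λ : Type u} {k : Type u} [CommRing Λ] [Field k] [Algebra Λ k]

def d2fst (x : dual2 Λ k) : k := TrivSqZeroExt.fst (show TrivSqZeroExt k (k × k) from x)
def d2a (x : dual2 Λ k) : k := (TrivSqZeroExt.snd (show TrivSqZeroExt k (k × k) from x)).1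
def d2b (x : dual2 Λ k) : k := (TrivSqZeroExt.snd (show TrivSqZeroExt k (k × k) from x)).2
def d2mk (a b c : k) : dual2 Λ k := (show TrivSqZeroExt k (k × k) from (a, (b, c)))

@[simp] lemma d2fst_d2mk (a b c : k) : d2fst (d2mk a b c : dual2 Λ k) = a := rfl
@[simp] lemma d2a_d2mk (a b c : k) : d2a (d2mk a b c : dual2 Λ k) = b := rfl
@[simp] lemma d2b_d2mk (a b c : k) : d2b (d2mk a b c : dual2 Λ k) = c := rfl

lemma dual2_ext {x y : dual2 Λ k} (h1 : d2fst x = d2fst y) (h2 : d2a x = d2a y)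
    (h3 : d2b x = d2b y) : x = y :=
  TrivSqZeroExt.ext h1 (Prod.ext h2 h3)

@[simp] lemma d2fst_one : d2fst (1 : dual2 Λ k) = 1 := rfl
@[simp] lemma d2a_one : d2a (1 : dual2 Λ k) = 0 := rfl
@[simp] lemma d2b_one : d2b (1 : dual2 Λ k) = 0 := rfl
@[simp] lemma d2fst_zero : d2fst (0 : dual2 Λ k) = 0 := rfl
@[simp] lemma d2a_zero : d2a (0 : dual2 Λ k) = 0 := rfl
@[simp] lemma d2b_zero : d2b (0 : dual2 Λ k) = 0 := rfl
lemma d2fst_add (x y : dual2 Λ k) : d2fst (x + y) = d2fst x + d2fst y := rfl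
lemma d2a_add (x y : dual2 Λ k) : d2a (x + y) = d2a x + d2a y := rfl
lemma d2b_add (x y : dual2 Λ k) : d2b (x + y) = d2b x + d2b y := rfl
lemma d2fst_mul (x y : dual2 Λ k) : d2fst (x * y) = d2fst x * d2fst y := rfl
lemma d2a_mul (x y : dual2 Λ k) : d2a (x * y) = d2fst x * d2a y + d2fst y * d2a x := by
  change (TrivSqZeroExt.snd ((show TrivSqZeroExt k (k × k) from x) *
    (show TrivSqZeroExt k (k × k) from y))).1 = _
  rw [TrivSqZeroExt.snd_mul, op_smul_eq_smul]
  rfl
lemma d2b_mul (x y : dual2 Λ k) : d2b (x * y) = d2fst x * d2b y + d2fst y * d2b x := by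
  change (TrivSqZeroExt.snd ((show TrivSqZeroExt k (k × k) from x) *
    (show TrivSqZeroExt k (k × k) from y))).2 = _
  rw [TrivSqZeroExt.snd_mul, op_smul_eq_smul]
  rfl
lemma d2fst_algebraMap (r : Λ) : d2fst (algebraMap Λ (dual2 Λ k) r) = algebraMap Λ k r := by
  change TrivSqZeroExt.fst (algebraMap Λ (TrivSqZeroExt k (k × k)) r) = _
  rw [TrivSqZeroExt.algebraMap_eq_inl', TrivSqZeroExt.fst_inl]
lemma d2a_algebraMap (r : Λ) : d2a (algebraMap Λ (dual2 Λ k) r) = 0 := by
  change (TrivSqZeroExt.snd (algebraMap Λ (TrivSqZeroExt k (k × k)) r)).1 = _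
  rw [TrivSqZeroExt.algebraMap_eq_inl', TrivSqZeroExt.snd_inl]; rfl
lemma d2b_algebraMap (r : Λ) : d2b (algebraMap Λ (dual2 Λ k) r) = 0 := by
  change (TrivSqZeroExt.snd (algebraMap Λ (TrivSqZeroExt k (k × k)) r)).2 = _
  rw [TrivSqZeroExt.algebraMap_eq_inl', TrivSqZeroExt.snd_inl]; rfl

lemma dfst_pr₁ (z : dual2 Λ k) : dfst (pr₁ (Λ := Λ) (k := k) z) = d2fst z := rfl
lemma dsnd_pr₁ (z : dual2 Λ k) : dsnd (pr₁ (Λ := Λ) (k := k) z) = d2a z := rfl
lemma dfst_pr₂ (z : dual2 Λ k) : dfst (pr₂ (Λ := Λ) (k := k) z) = d2fst z := rfl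
lemma dsnd_pr₂ (z : dual2 Λ k) : dsnd (pr₂ (Λ := Λ) (k := k) z) = d2b z := rfl
lemma dfst_plus (z : dual2 Λ k) : dfst (plus (Λ := Λ) (k := k) z) = d2fst z := rfl
lemma dsnd_plus (z : dual2 Λ k) : dsnd (plus (Λ := Λ) (k := k) z) = d2a z + d2b z := rfl
lemma dfst_scale (c : k) (x : dual Λ k) : dfst (scale (Λ := Λ) c x) = dfst x := rfl
lemma dsnd_scale (c : k) (x : dual Λ k) : dsnd (scale (Λ := Λ) c x) = c * dsnd x := rfl

end Dual2Coords

section DerHom

variable {Λ : Type u} {k : Type u} [CommRing Λ] [Field k] [Algebra Λ k]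
variable {R : Type u} [CommRing R] [Algebra Λ R] [Algebra R k] [IsScalarTower Λ R k]

/-- The algebra map `R → k[ε]`, `r ↦ r̄ + D(r) ε` attached to a derivation. -/
def derHom (D : Derivation Λ R k) : R →ₐ[Λ] dual Λ k where
  toFun r := dmk (algebraMap R k r) (D r)
  map_one' := dual_ext (by rw [dfst_dmk, map_one, dfst_one])
    (by rw [dsnd_dmk, dsnd_one, D.map_one_eq_zero])
  map_mul' a b := dual_ext (by rw [dfst_mul, dfst_dmk, dfst_dmk, dfst_dmk, map_mul])
    (by rw [dsnd_mul, dsnd_dmk, dsnd_dmk, dsnd_dmk, dfst_dmk, dfst_dmk, D.leibniz,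
      Algebra.smul_def, Algebra.smul_def])
  map_zero' := dual_ext (by rw [dfst_dmk, map_zero, dfst_zero])
    (by rw [dsnd_dmk, dsnd_zero, map_zero])
  map_add' a b := dual_ext (by rw [dfst_add, dfst_dmk, dfst_dmk, dfst_dmk, map_add])
    (by rw [dsnd_add, dsnd_dmk, dsnd_dmk, dsnd_dmk, map_add])
  commutes' r := dual_ext
    (by rw [dfst_algebraMap, dfst_dmk, ← IsScalarTower.algebraMap_apply])
    (by rw [dsnd_algebraMap, dsnd_dmk, D.map_algebraMap])

lemma dfst_derHom (D : Derivation Λ R k) (r : R) : dfst (derHom D r) = algebraMap R k r := rfl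
lemma dsnd_derHom (D : Derivation Λ R k) (r : R) : dsnd (derHom D r) = D r := rfl

/-- The algebra map `R → k[ε₁, ε₂]` attached to a pair of derivations. -/
def derHom2 (D₁ D₂ : Derivation Λ R k) : R →ₐ[Λ] dual2 Λ k where
  toFun r := d2mk (algebraMap R k r) (D₁ r) (D₂ r)
  map_one' := dual2_ext (by rw [d2fst_d2mk, map_one, d2fst_one])
    (by rw [d2a_d2mk, d2a_one, D₁.map_one_eq_zero])
    (by rw [d2b_d2mk, d2b_one, D₂.map_one_eq_zero])
  map_mul' a b := dual2_ext (by rw [d2fst_mul, d2fst_d2mk, d2fst_d2mk, d2fst_d2mk, map_mul])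
    (by rw [d2a_mul, d2a_d2mk, d2a_d2mk, d2a_d2mk, d2fst_d2mk, d2fst_d2mk, D₁.leibniz,
      Algebra.smul_def, Algebra.smul_def])
    (by rw [d2b_mul, d2b_d2mk, d2b_d2mk, d2b_d2mk, d2fst_d2mk, d2fst_d2mk, D₂.leibniz,
      Algebra.smul_def, Algebra.smul_def])
  map_zero' := dual2_ext (by rw [d2fst_d2mk, map_zero, d2fst_zero])
    (by rw [d2a_d2mk, d2a_zero, map_zero]) (by rw [d2b_d2mk, d2b_zero, map_zero])
  map_add' a b := dual2_ext (by rw [d2fst_add, d2fst_d2mk, d2fst_d2mk, d2fst_d2mk, map_add])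
    (by rw [d2a_add, d2a_d2mk, d2a_d2mk, d2a_d2mk, map_add])
    (by rw [d2b_add, d2b_d2mk, d2b_d2mk, d2b_d2mk, map_add])
  commutes' r := dual2_ext
    (by rw [d2fst_algebraMap, d2fst_d2mk, ← IsScalarTower.algebraMap_apply])
    (by rw [d2a_algebraMap, d2a_d2mk, D₁.map_algebraMap])
    (by rw [d2b_algebraMap, d2b_d2mk, D₂.map_algebraMap])

variable (resR : R →ₐ[Λ] k) (hres : ∀ r, algebraMap R k r = resR r)

/-- The element of `h_R(k[ε])` attached to a derivation. -/
def derHomSet (D : Derivation Λ R k) : HomSet R resR (dual Λ k) :=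
  ⟨derHom D, AlgHom.ext fun r => hres r⟩

/-- The element of `h_R(k[ε₁,ε₂])` attached to a pair of derivations. -/
def derHomSet2 (D₁ D₂ : Derivation Λ R k) : HomSet R resR (dual2 Λ k) :=
  ⟨derHom2 D₁ D₂, AlgHom.ext fun r => hres r⟩

lemma homSet_dual_ext {φ ψ : HomSet R resR (dual Λ k)} (h : ∀ r, dsnd (φ.1 r) = dsnd (ψ.1 r)) :
    φ = ψ := by
  apply Subtype.ext
  apply AlgHom.ext
  intro r
  apply dual_ext _ (h r)
  have h1 : (dual Λ k).res (φ.1 r) = resR r := AlgHom.congr_fun φ.2 r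
  have h2 : (dual Λ k).res (ψ.1 r) = resR r := AlgHom.congr_fun ψ.2 r
  rw [dfst_eq_res, dfst_eq_res, h1, h2]

lemma derHomSet_scale (c : k) (D : Derivation Λ R k) :
    HomSet.map (scale c) (derHomSet resR hres D) = derHomSet resR hres (c • D) :=
  homSet_dual_ext resR fun _ => rfl

lemma derHomSet2_pr₁ (D₁ D₂ : Derivation Λ R k) :
    HomSet.map pr₁ (derHomSet2 resR hres D₁ D₂) = derHomSet resR hres D₁ :=
  homSet_dual_ext resR fun _ => rfl

lemma derHomSet2_pr₂ (D₁ D₂ : Derivation Λ R k) :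
    HomSet.map pr₂ (derHomSet2 resR hres D₁ D₂) = derHomSet resR hres D₂ :=
  homSet_dual_ext resR fun _ => rfl

lemma derHomSet2_plus (D₁ D₂ : Derivation Λ R k) :
    HomSet.map plus (derHomSet2 resR hres D₁ D₂) = derHomSet resR hres (D₁ + D₂) :=
  homSet_dual_ext resR fun _ => rfl

include hres in
/-- Every element of `h_R(k[ε])` comes from a derivation. -/
lemma derHomSet_surjective : Function.Surjective (derHomSet resR hres) := by
  intro φ
  have hφ : ∀ r, dfst (φ.1 r) = algebraMap R k r := by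
    intro r
    rw [dfst_eq_res, hres]
    exact AlgHom.congr_fun φ.2 r
  let dl : R →ₗ[Λ] k :=
    { toFun := fun r => dsnd (φ.1 r)
      map_add' := fun a b => by rw [map_add, dsnd_add]
      map_smul' := fun c r => by
        rw [map_smul, Algebra.smul_def, dsnd_mul, dsnd_algebraMap, dfst_algebraMap, mul_zero,
          add_zero, RingHom.id_apply, Algebra.smul_def] }
  have hleib : ∀ a b : R, dl (a * b) = a • dl b + b • dl a := by
    intro a b
    show dsnd (φ.1 (a * b)) = a • dsnd (φ.1 b) + b • dsnd (φ.1 a)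
    rw [map_mul, dsnd_mul, hφ, hφ, Algebra.smul_def, Algebra.smul_def]
  refine ⟨Derivation.mk' dl hleib, ?_⟩
  exact homSet_dual_ext resR fun _ => rfl

end DerHom

section Hfin

variable {Λ : Type u} {k : Type u} [CommRing Λ] [Field k] [Algebra Λ k]

/-- If a family over a complete local Noetherian ring is surjective on `k[ε]` then the tangent space of `F` is
finite-dimensional. -/
theorem hfin_of_surjective_family [Module.Finite Λ k] {F : Art Λ k ⥤ Type v} [T : TangentStr F]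
    (R : CRing Λ k) (ξ : Family R.carrier R.res F)
    (hsurj : Function.Surjective (ξ.app (dual Λ k))) : Hfin F := by
  letI : Algebra R.carrier k := (R.res : R.carrier →+* k).toAlgebra
  haveI : IsScalarTower Λ R.carrier k :=
    IsScalarTower.of_algebraMap_eq (fun r => (R.res.commutes r).symm)
  have hres : ∀ r, algebraMap R.carrier k r = R.res r := fun _ => rfl
  haveI fin : Module.Finite k (Derivation Λ R.carrier k) :=
    finite_derivation (Λ := Λ) (S := R.carrier) R.res_surjective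
  let L : Derivation Λ R.carrier k →ₗ[k] TangentSpace F :=
    { toFun := fun D => TangentSpace.mk (ξ.app (dual Λ k) (derHomSet R.res hres D))
      map_add' := by
        intro D₁ D₂
        rw [← derHomSet2_plus R.res hres D₁ D₂, ξ.natural, ← tangent_add_eq,
          ← ξ.natural, ← ξ.natural, derHomSet2_pr₁, derHomSet2_pr₂]
      map_smul' := by
        intro c D
        rw [RingHom.id_apply, tangent_smul_eq, ← derHomSet_scale R.res hres c D, ξ.natural]
        rfl }
  have hL : Function.Surjective L := by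
    intro x
    obtain ⟨φ, hφ⟩ := hsurj x.val
    obtain ⟨D, rfl⟩ := derHomSet_surjective R.res hres φ
    exact ⟨D, hφ⟩
  exact Module.Finite.of_surjective L hL

end Hfin

end Groth.Agent.Lib.Helper19
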