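import Groth.Prelude.Def_W4sfdMinVersal
import Groth.Agent.Lib.Helper19Formal
import Groth.Agent.Lib.Helper19TangentDer

set_option autoImplicit false
universe u v w

open CategoryTheory ArtFun ArtFun.Art

namespace Groth.Agent.Lib.Helper19

section NoethEndo

/-- A surjective ring endomorphism of a Noetherian ring is injective. -/
theorem ringHom_injective_of_surjective_endo {A : Type w} [CommRing A] [IsNoetherianRing A]
    (g : A →+* A) (hg : Function.Surjective g) : Function.Injective g := by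
  let K : ℕ →o Ideal A :=
    { toFun := fun n => RingHom.ker (g ^ n)
      monotone' := by
        intro m n hmn x hx
        rw [RingHom.mem_ker] at hx ⊢
        obtain ⟨d, rfl⟩ := Nat.exists_eq_add_of_le hmn
        rw [add_comm, pow_add, RingHom.mul_def, RingHom.comp_apply, hx, map_zero] }
  obtain ⟨N, hN⟩ := monotone_stabilizes_iff_noetherian.2 (inferInstance : IsNoetherian A A) K
  have hsurj : Function.Surjective (g ^ N) := by
    rw [RingHom.coe_pow]
    exact hg.iterate N
  rw [injective_iff_map_eq_zero]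
  intro x hx
  obtain ⟨y, rfl⟩ := hsurj x
  have hy : y ∈ K (N + 1) := by
    show y ∈ RingHom.ker (g ^ (N + 1))
    rw [RingHom.mem_ker, pow_succ', RingHom.mul_def, RingHom.comp_apply, hx]
  rw [← hN (N + 1) (Nat.le_succ N)] at hy
  exact hy

end NoethEndo

section Minimal

variable {Λ : Type u} {k : Type u} [CommRing Λ] [Field k] [Algebra Λ k]

lemma push_toFormalElt {F : Art Λ k ⥤ Type v} {R' R : CRing Λ k}
    (ξ : Family R'.carrier R'.res F) (g : R'.carrier →ₐ[Λ] R.carrier) (hg : R.res.comp g = R'.res) :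
    ξ.toFormalElt.push g hg = (ξ.along g hg).toFormalElt := by
  apply FormalElt.ext'
  intro n
  show F.map (CRing.truncMapOfHom g hg n) (ξ.app _ (R'.truncHom n)) = _
  rw [← ξ.natural]
  rfl

lemma maximalIdeal_dual_sq : IsLocalRing.maximalIdeal (dual Λ k) ^ 2 = ⊥ := by
  rw [pow_two, eq_bot_iff, Ideal.mul_le]
  intro x hx y hy
  rw [Art.mem_maximalIdeal_iff, ← dfst_eq_res] at hx hy
  rw [Ideal.mem_bot]
  apply dual_ext
  · rw [dfst_mul, hx, zero_mul, dfst_zero]
  · rw [dsnd_mul, hx, hy, zero_mul, zero_mul, add_zero, dsnd_zero]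

/-- A map from a coefficient ring to an object whose maximal ideal has vanishing `(n+1)`-st power factors
through the `n`-th truncation. -/
theorem exists_factor_trunc_of_pow (R : CRing Λ k) {A : Art Λ k} (n : ℕ)
    (hn : IsLocalRing.maximalIdeal A ^ (n + 1) = ⊥) (u : HomSet R.carrier R.res A) :
    ∃ ū : R.trunc n ⟶ A, HomSet.map ū (R.truncHom n) = u := by
  have hmap : Ideal.map u.1 (CRing.m R) ≤ IsLocalRing.maximalIdeal A :=
    map_maximalIdeal_le R.res R.res_surjective A.res A.res_surjective u.1 u.2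
  have hkill : ∀ a ∈ CRing.mpow R n, u.1 a = 0 := by
    intro a ha
    have h1 : u.1 a ∈ Ideal.map u.1 (CRing.m R ^ (n + 1)) := Ideal.mem_map_of_mem _ ha
    rw [Ideal.map_pow] at h1
    have h2 : u.1 a ∈ IsLocalRing.maximalIdeal A ^ (n + 1) := Ideal.pow_right_mono hmap _ h1
    rwa [hn, Ideal.mem_bot] at h2
  refine ⟨⟨Ideal.Quotient.liftₐ (CRing.mpow R n) u.1 hkill, ?_⟩, ?_⟩
  · apply AlgHom.ext
    intro x
    obtain ⟨a, rfl⟩ := truncHom_surjective R n x
    exact AlgHom.congr_fun u.2 a
  · apply Subtype.ext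
    apply AlgHom.ext
    intro a
    rfl

/-- If a formal element over `R'` pushes forward to that of a family `ξ` over `R` which is injective on `k[ε]`, then
restriction of tangent vectors along `R' → R` is injective. -/
theorem tangent_restrict_injective_of_push {F : Art Λ k ⥤ Type v} {R' R : CRing Λ k}
    (ξ : Family R.carrier R.res F) (hinj : Function.Injective (ξ.app (dual Λ k)))
    (u : FormalElt F R') (f : R'.carrier →ₐ[Λ] R.carrier) (hf : R.res.comp f = R'.res)
    (h : u.push f hf = ξ.toFormalElt) (φ₁ φ₂ : HomSet R.carrier R.res (dual Λ k))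
    (e : φ₁.1.comp f = φ₂.1.comp f) : φ₁ = φ₂ := by
  obtain ⟨ū₁, h₁⟩ := exists_factor_trunc_of_pow R 1 maximalIdeal_dual_sq φ₁
  obtain ⟨ū₂, h₂⟩ := exists_factor_trunc_of_pow R 1 maximalIdeal_dual_sq φ₂
  apply hinj
  rw [← h₁, ← h₂, ξ.natural, ξ.natural]
  have h1 : ξ.app _ (R.truncHom 1) = F.map (CRing.truncMapOfHom f hf 1) (u.elt 1) := by
    have := congrArg (fun w => w.elt 1) h
    exact this.symm
  have hcomp : CRing.truncMapOfHom f hf 1 ≫ ū₁ = CRing.truncMapOfHom f hf 1 ≫ ū₂ := by
    apply Art.hom_ext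
    apply AlgHom.ext
    intro x
    obtain ⟨a, rfl⟩ := truncHom_surjective R' 1 x
    have e1 : ū₁ ((R.truncHom 1).1 (f a)) = φ₁.1 (f a) :=
      AlgHom.congr_fun (congrArg Subtype.val h₁) (f a)
    have e2 : ū₂ ((R.truncHom 1).1 (f a)) = φ₂.1 (f a) :=
      AlgHom.congr_fun (congrArg Subtype.val h₂) (f a)
    show ū₁ ((R.truncHom 1).1 (f a)) = ū₂ ((R.truncHom 1).1 (f a))
    rw [e1, e2]
    exact AlgHom.congr_fun e a
  rw [h1, ← map_comp_apply', ← map_comp_apply', hcomp]

/-- Under the hypotheses of `tangent_restrict_injective_of_push`, the map `R' → R` is surjective. -/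
theorem surjective_of_push {F : Art Λ k ⥤ Type v} {R' R : CRing Λ k}
    (ξ : Family R.carrier R.res F) (hinj : Function.Injective (ξ.app (dual Λ k)))
    (u : FormalElt F R') (f : R'.carrier →ₐ[Λ] R.carrier) (hf : R.res.comp f = R'.res)
    (h : u.push f hf = ξ.toFormalElt) : Function.Surjective f := by
  letI : Algebra R.carrier k := (R.res : R.carrier →+* k).toAlgebra
  haveI : IsScalarTower Λ R.carrier k :=
    IsScalarTower.of_algebraMap_eq (fun r => (R.res.commutes r).symm)
  have hres : ∀ r, algebraMap R.carrier k r = R.res r := fun _ => rfl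
  haveI := R'.isAdicComplete
  have hres' : IsScalarTower.toAlgHom Λ R.carrier k = R.res := AlgHom.ext fun _ => rfl
  apply surjective_of_derivation_injective (Λ := Λ) R'.res R'.res_surjective
    (S := R.carrier) R.res_surjective f (by rw [hres']; exact hf)
  intro D₁ D₂ hD
  have key := tangent_restrict_injective_of_push ξ hinj u f hf h
    (derHomSet R.res hres D₁) (derHomSet R.res hres D₂) (by
      apply AlgHom.ext
      intro a
      apply dual_ext
      · rfl
      · exact hD a)
  ext r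
  have := congrArg (fun φ : HomSet R.carrier R.res (dual Λ k) => dsnd (φ.1 r)) key
  exact this

/-- A hull is a minimal versal family. -/
theorem isMinimalVersal_of_miniversal {F : Art Λ k ⥤ Type v} {R : CRing Λ k}
    (ξ : Family R.carrier R.res F) (hξ : IsMiniversal ξ) : ξ.IsMinimalVersal :=
  ⟨hξ.1, fun _ u f hf h => surjective_of_push ξ hξ.2.1 u f hf h⟩

/-- Two minimal versal families are isomorphic. -/
theorem minimalVersal_unique {F : Art Λ k ⥤ Type v} (h0 : H0 F) {R₁ R₂ : CRing Λ k}
    (ξ₁ : Family R₁.carrier R₁.res F) (ξ₂ : Family R₂.carrier R₂.res F)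
    (h₁ : ξ₁.IsMinimalVersal) (h₂ : ξ₂.IsMinimalVersal) :
    ∃ (e : R₁.carrier ≃ₐ[Λ] R₂.carrier)
      (he : R₂.res.comp (e : R₁.carrier →ₐ[Λ] R₂.carrier) = R₁.res),
      (ξ₁.along (e : R₁.carrier →ₐ[Λ] R₂.carrier) he).toFormalElt = ξ₂.toFormalElt := by
  obtain ⟨g, hg, hgξ⟩ := exists_along_toFormalElt_eq h0 R₁ ξ₁ h₁.1 R₂ ξ₂.toFormalElt
  obtain ⟨g', hg', hgξ'⟩ := exists_along_toFormalElt_eq h0 R₂ ξ₂ h₂.1 R₁ ξ₁.toFormalElt
  have hs : Function.Surjective g :=
    h₂.2 R₁ ξ₁.toFormalElt g hg (by rw [push_toFormalElt, hgξ])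
  have hs' : Function.Surjective g' :=
    h₁.2 R₂ ξ₂.toFormalElt g' hg' (by rw [push_toFormalElt, hgξ'])
  have hinj : Function.Injective (g'.comp g) :=
    ringHom_injective_of_surjective_endo ((g'.comp g : R₁.carrier →ₐ[Λ] R₁.carrier) : R₁.carrier →+* R₁.carrier)
      (hs'.comp hs)
  have hginj : Function.Injective g := by
    intro a b hab
    apply hinj
    show g' (g a) = g' (g b)
    rw [hab]
  refine ⟨AlgEquiv.ofBijective g ⟨hginj, hs⟩, ?_, ?_⟩
  · exact hg
  · exact hgξ

end Minimal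

end Groth.Agent.Lib.Helper19
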