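import Groth.Agent.Lib.Helper19Prorep
import Groth.Agent.Lib.Helper19Minimal

set_option autoImplicit false
universe u v w

open CategoryTheory ArtFun ArtFun.Art

namespace Groth.Agent.Lib.Helper19

section PsIso

variable {Λ : Type u} {k : Type u} [CommRing Λ] [Field k] [Algebra Λ k]

/-- The functor `h_R` is left exact, for any augmented algebra. -/
theorem isLeftExact_hR (R' : Type u) [CommRing R'] [Algebra Λ R'] (resR' : R' →ₐ[Λ] k) :
    IsLeftExact (hR R' resR') :=
  isLeftExact_of_isUniversal (Family.self R' resR') (fun _ => Function.bijective_id)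

theorem h0_hR (R' : Type u) [CommRing R'] [Algebra Λ R'] (resR' : R' →ₐ[Λ] k) :
    H0 (hR R' resR') :=
  h0_of_surjective (Family.self R' resR') Function.surjective_id

variable [IsLocalRing Λ] (hk : Function.Surjective (algebraMap Λ k))

include hk in
/-- When `Λ → k` is surjective the augmentation of a local `Λ`-algebra is unique. -/
lemma res_unique {R : Type u} [CommRing R] [Algebra Λ R] [IsLocalRing R] (ρ₁ ρ₂ : R →ₐ[Λ] k) : ρ₁ = ρ₂ := by
  have hs : ∀ ρ : R →ₐ[Λ] k, Function.Surjective ρ := by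
    intro ρ c
    obtain ⟨l, rfl⟩ := hk c
    exact ⟨algebraMap Λ R l, ρ.commutes l⟩
  apply AlgHom.ext
  intro r
  obtain ⟨l, hl⟩ := hk (ρ₁ r)
  have h1 : r - algebraMap Λ R l ∈ IsLocalRing.maximalIdeal R := by
    rw [mem_maximalIdeal_iff_res ρ₁ (hs ρ₁), map_sub, AlgHom.commutes, hl, sub_self]
  rw [mem_maximalIdeal_iff_res ρ₂ (hs ρ₂), map_sub, AlgHom.commutes, hl, sub_eq_zero] at h1
  exact h1.symm

variable [IsNoetherianRing Λ] [IsAdicComplete (IsLocalRing.maximalIdeal Λ) Λ]

include hk in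
/-- Tangent vectors of a coefficient ring kill `m² + m_Λ`. -/
lemma homSet_eq_zero_of_mem_relSq (S : CRing Λ k) (t : HomSet S.carrier S.res (dual Λ k)) {x : S.carrier}
    (hx : x ∈ relSq Λ S.carrier) : t.1 x = 0 := by
  have h1 : t.1 x ∈ relSq Λ (dual Λ k) := homSet_map_relSq_le t (Ideal.mem_map_of_mem _ hx)
  exact hom_eq_zero_of_mem_relSq hk (𝟙 (dual Λ k)) h1

include hk in
/-- Every coefficient ring is a quotient of a power series ring, the kernel lying in `m² + m_Λ`. -/
theorem exists_presentation_cring (R : CRing Λ k) :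
    ∃ (r : ℕ) (g : MvPowerSeries (Fin r) Λ →ₐ[Λ] R.carrier) (_ : R.res.comp g = psRes (Fin r)),
      Function.Surjective g ∧ ∀ p, g p = 0 → p ∈ relSq Λ (MvPowerSeries (Fin r) Λ) := by
  obtain ⟨r, ψ₁, hψ₁s, hψ₁c⟩ := exists_presentation hk (R.trunc 1)
  let χ : ∀ n, HomSet (psCRing (Fin r) hk).carrier (psCRing (Fin r) hk).res (R.trunc (n + 1)) := fun n =>
    Nat.rec (motive := fun n => HomSet (psCRing (Fin r) hk).carrier (psCRing (Fin r) hk).res (R.trunc (n + 1)))
      ψ₁ (fun n χn => Classical.choose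
        (psCRing_lift hk (R.truncMap (n + 1)) (truncMap_surjective R (n + 1)) χn)) n
  have hχ : ∀ n, HomSet.map (R.truncMap (n + 1)) (χ (n + 1)) = χ n := fun n =>
    Classical.choose_spec (psCRing_lift hk (R.truncMap (n + 1)) (truncMap_surjective R (n + 1)) (χ n))
  let ψ : ∀ n, HomSet (psCRing (Fin r) hk).carrier (psCRing (Fin r) hk).res (R.trunc n) := fun n =>
    match n with
    | 0 => HomSet.map (R.truncMap 0) (χ 0)
    | n + 1 => χ n
  have hψ : ∀ n, HomSet.map (R.truncMap n) (ψ (n + 1)) = ψ n := by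
    intro n
    cases n with
    | zero => rfl
    | succ n => exact hχ n
  obtain ⟨g, hg, hgn⟩ := exists_glue R ψ hψ
  have hg1 : ∀ p, (R.truncHom 1).1 (g p) = ψ₁.1 p := fun p => AlgHom.congr_fun (hgn 1) p
  have hgm : ∀ p, g p ∈ IsLocalRing.maximalIdeal R.carrier ↔
      p ∈ IsLocalRing.maximalIdeal (MvPowerSeries (Fin r) Λ) := by
    intro p
    rw [CRing.mem_maximalIdeal_iff R, CRing.mem_maximalIdeal_iff (psCRing (Fin r) hk)]
    have := AlgHom.congr_fun hg p
    rw [AlgHom.comp_apply] at this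
    rw [this]
  refine ⟨r, g, hg, ?_, ?_⟩
  · haveI : IsPrecomplete (IsLocalRing.maximalIdeal (psCRing (Fin r) hk).carrier) (psCRing (Fin r) hk).carrier :=
      (psCRing (Fin r) hk).isAdicComplete.toIsPrecomplete
    apply surjective_of_cotangent (psCRing (Fin r) hk).res (psCRing (Fin r) hk).res_surjective R.res
      R.res_surjective g hg
    apply le_antisymm
    · exact sup_le (map_maximalIdeal_le (psCRing (Fin r) hk).res (psCRing (Fin r) hk).res_surjective
        R.res R.res_surjective g hg) (Ideal.pow_le_self two_ne_zero)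
    · intro y hy
      obtain ⟨p, hp⟩ := hψ₁s ((R.truncHom 1).1 y)
      have hy' : y - g p ∈ IsLocalRing.maximalIdeal R.carrier ^ 2 := by
        have : (R.truncHom 1).1 (y - g p) = 0 := by rw [map_sub, hg1, hp, sub_self]
        exact (truncHom_eq_zero_iff R 1 _).1 this
      have hpm : p ∈ IsLocalRing.maximalIdeal (MvPowerSeries (Fin r) Λ) := by
        rw [← hgm]
        have : g p = y - (y - g p) := by ring
        rw [this]
        exact Ideal.sub_mem _ hy (Ideal.pow_le_self two_ne_zero hy')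
      have : y = g p + (y - g p) := by ring
      rw [this]
      exact Ideal.add_mem _ (Submodule.mem_sup_left (Ideal.mem_map_of_mem _ hpm))
        (Submodule.mem_sup_right hy')
  · intro p hp
    apply hψ₁c p
    · rw [← hgm, hp]; exact Ideal.zero_mem _
    · rw [← hg1, hp, map_zero]; exact Ideal.zero_mem _

include hk in
/-- `h_R` is smooth iff `R` is a power series ring over `Λ`. -/
theorem isSmoothFunctor_hR_iff_powerSeries [Module.Finite Λ k] (R : CRing Λ k) :
    IsSmoothFunctor (hR R.carrier R.res) ↔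
      ∃ n : ℕ, Nonempty (R.carrier ≃ₐ[Λ] MvPowerSeries (Fin n) Λ) := by
  constructor
  · intro hsm
    obtain ⟨r, g, hg, hgs, hgk⟩ := exists_presentation_cring hk R
    let P : CRing Λ k := psCRing (Fin r) hk
    let ξ₁ : Family P.carrier P.res (hR P.carrier P.res) := Family.self P.carrier P.res
    let ξ₂ : Family R.carrier R.res (hR P.carrier P.res) := ξ₁.along g hg
    have hξ₂app : ∀ (A : Art Λ k) (ψ : HomSet R.carrier R.res A), (ξ₂.app A ψ).1 = ψ.1.comp g :=
      fun A ψ => rfl
    have hF0 : H0 (hR P.carrier P.res) := h0_hR _ _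
    have hFl : IsLeftExact (hR P.carrier P.res) := isLeftExact_hR _ _
    have hF1 : S1 (hR P.carrier P.res) := fun B A A' A'' p' p'' f' f'' h _ => (hFl p' p'' f' f'' h).2
    have hF2 : Heps (hR P.carrier P.res) := fun B A' p' p'' h => hFl p' p'' _ _ h
    have htsurj : Function.Surjective (ξ₂.app (dual Λ k)) := by
      intro t
      have H : RingHom.ker g.toRingHom ≤ RingHom.ker t.1.toRingHom := by
        intro p hp
        exact homSet_eq_zero_of_mem_relSq hk P t (hgk p hp)
      refine ⟨⟨AlgHom.liftOfSurjective g hgs t.1 H, res_unique hk _ _⟩, ?_⟩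
      apply Subtype.ext
      rw [hξ₂app]
      exact AlgHom.liftOfSurjective_comp g hgs t.1 H
    have htinj : Function.Injective (ξ₂.app (dual Λ k)) := by
      intro ψ ψ' h
      apply Subtype.ext
      apply AlgHom.ext
      intro y
      obtain ⟨p, rfl⟩ := hgs y
      have := AlgHom.congr_fun (congrArg Subtype.val h) p
      rw [hξ₂app, hξ₂app] at this
      exact this
    have hv₂ : IsVersal ξ₂ := by
      rw [isVersal_iff_tangent_surjective_and_exists_lift hF0 hF1 hF2]
      refine ⟨htsurj, ?_⟩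
      intro B A μ hμ φ y _
      obtain ⟨ψ, hψ⟩ := hsm μ hμ.1 φ
      exact ⟨ψ, hψ⟩
    have hu₁ : IsUniversal ξ₁ := fun _ => Function.bijective_id
    have hm₁ : ξ₁.IsMinimalVersal :=
      isMinimalVersal_of_miniversal ξ₁ ⟨isVersal_of_isUniversal ξ₁ hu₁, hu₁ _⟩
    have hm₂ : ξ₂.IsMinimalVersal := isMinimalVersal_of_miniversal ξ₂ ⟨hv₂, htinj, htsurj⟩
    obtain ⟨e, -, -⟩ := minimalVersal_unique hF0 ξ₁ ξ₂ hm₁ hm₂
    exact ⟨r, ⟨e.symm⟩⟩
  · rintro ⟨n, ⟨e⟩⟩
    intro B A μ hμ φ
    let φ' : HomSet (psCRing (Fin n) hk).carrier (psCRing (Fin n) hk).res A :=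
      ⟨φ.1.comp (e.symm : MvPowerSeries (Fin n) Λ →ₐ[Λ] R.carrier), res_unique hk _ _⟩
    obtain ⟨ψ', hψ'⟩ := psCRing_lift hk μ hμ φ'
    refine ⟨⟨ψ'.1.comp (e : R.carrier →ₐ[Λ] MvPowerSeries (Fin n) Λ), res_unique hk _ _⟩, ?_⟩
    apply Subtype.ext
    apply AlgHom.ext
    intro y
    have := AlgHom.congr_fun (congrArg Subtype.val hψ') (e y)
    change μ (ψ'.1 (e y)) = φ.1 (e.symm (e y)) at this
    rw [AlgEquiv.symm_apply_apply] at this
    exact this

end PsIso

end Groth.Agent.Lib.Helper19
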