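import Groth.Agent.Lib.Helper19ObsDim
import Groth.Agent.Lib.Helper19PsIso

/-!
# Dimension of power series rings over a field; dimension bounds from obstruction theories (helper19)
-/

set_option autoImplicit false
universe u v w

open CategoryTheory ArtFun ArtFun.Art
open scoped TensorProduct

namespace Groth.Agent.Lib.Helper19

section PsDim

variable (k : Type u) [Field k]

/-- `dim k[[x_1..x_n]] ≥ n`. -/
theorem le_ringKrullDim_mvPowerSeries (n : ℕ) :
    (n : WithBot ℕ∞) ≤ ringKrullDim (MvPowerSeries (Fin n) k) := by
  induction n with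
  | zero =>
    simp only [Nat.cast_zero]
    exact ringKrullDim_nonneg_of_nontrivial
  | succ n ih =>
    rw [ringKrullDim_eq_of_ringEquiv (MvPowerSeries.finSuccEquiv k n).toRingEquiv]
    refine le_trans ?_ ringKrullDim_succ_le_ringKrullDim_powerseries
    push_cast
    gcongr

theorem maximalIdeal_mvPowerSeries_eq (n : ℕ) :
    IsLocalRing.maximalIdeal (MvPowerSeries (Fin n) k) = varsIdeal (Fin n) k := by
  apply le_antisymm
  · intro g hg
    rw [maximalIdeal_eq_coeffIdeal, mem_coeffIdeal_one, IsLocalRing.maximalIdeal_eq_bot, Ideal.mem_bot] at hg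
    have := mem_varsIdeal_pow_of_coeff_eq_zero 1 g (by
      intro α hα
      have : α = 0 := (Finsupp.degree_eq_zero_iff α).1 (by omega)
      rw [this, MvPowerSeries.coeff_zero_eq_constantCoeff_apply]
      exact hg)
    rwa [pow_one] at this
  · rw [Ideal.span_le]
    rintro _ ⟨s, rfl⟩
    rw [maximalIdeal_eq_coeffIdeal]
    exact X_mem_coeffIdeal_one _ s

theorem spanFinrank_maximalIdeal_mvPowerSeries_le (n : ℕ) :
    (IsLocalRing.maximalIdeal (MvPowerSeries (Fin n) k)).spanFinrank ≤ n := by
  rw [maximalIdeal_mvPowerSeries_eq]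
  calc (varsIdeal (Fin n) k).spanFinrank
      ≤ (Set.range (MvPowerSeries.X : Fin n → MvPowerSeries (Fin n) k)).ncard :=
        Submodule.spanFinrank_span_le_ncard_of_finite (Set.finite_range _)
    _ ≤ Nat.card (Fin n) := by
        rw [← Set.ncard_univ, ← Set.image_univ]
        exact Set.ncard_image_le Set.finite_univ
    _ = n := by simp

theorem ringKrullDim_mvPowerSeries (n : ℕ) :
    ringKrullDim (MvPowerSeries (Fin n) k) = n := by
  apply le_antisymm _ (le_ringKrullDim_mvPowerSeries k n)
  refine (ringKrullDim_le_spanFinrank_maximalIdeal _).trans ?_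
  exact_mod_cast spanFinrank_maximalIdeal_mvPowerSeries_le k n

instance isRegularLocalRing_mvPowerSeries (n : ℕ) : IsRegularLocalRing (MvPowerSeries (Fin n) k) := by
  apply IsRegularLocalRing.of_spanFinrank_maximalIdeal_le
  rw [ringKrullDim_mvPowerSeries]
  exact_mod_cast spanFinrank_maximalIdeal_mvPowerSeries_le k n

end PsDim

section CRingBounds

variable {k : Type u} [Field k]

attribute [local instance] isAdicComplete_field

/-- Dimension estimates for a complete local Noetherian `k`-algebra with residue field `k` whose functor of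
points has an obstruction theory with finite-dimensional obstruction space. -/
theorem cring_dim_bounds (R : CRing k k) {V : Type u} [AddCommGroup V] [Module k V] [Module.Finite k V]
    (T : ObsTheory (hR R.carrier R.res) V) :
    ringKrullDim R.carrier ≤
        (Module.finrank (IsLocalRing.ResidueField R.carrier) (IsLocalRing.CotangentSpace R.carrier) : WithBot ℕ∞) ∧
      (Module.finrank (IsLocalRing.ResidueField R.carrier) (IsLocalRing.CotangentSpace R.carrier) : WithBot ℕ∞) ≤
          ringKrullDim R.carrier + (Module.finrank k V : WithBot ℕ∞) ∧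
      (Module.finrank k V = 0 → IsRegularLocalRing R.carrier) ∧
      (ringKrullDim R.carrier + (Module.finrank k V : WithBot ℕ∞) =
          (Module.finrank (IsLocalRing.ResidueField R.carrier) (IsLocalRing.CotangentSpace R.carrier) : WithBot ℕ∞) →
        ∃ (P : Type u) (_ : CommRing P) (_ : IsRegularLocalRing P) (π : P →+* R.carrier) (s : Finset P),
          Function.Surjective π ∧ Ideal.span (s : Set P) = RingHom.ker π ∧
            ringKrullDim P = ringKrullDim R.carrier + (s.card : WithBot ℕ∞)) := by
  obtain ⟨n, g, hgres, hgsurj, hgker⟩ := exists_presentation_cring (hk0 (k := k)) R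
  rw [← IsLocalRing.spanFinrank_maximalIdeal_eq_finrank_cotangentSpace R.carrier]
  -- the kernel
  have hI2 : RingHom.ker g ≤ IsLocalRing.maximalIdeal (MvPowerSeries (Fin n) k) ^ 2 := by
    intro x hx
    have h1 := hgker x (RingHom.mem_ker.1 hx)
    rw [relSq, IsLocalRing.maximalIdeal_eq_bot, Ideal.map_bot, sup_bot_eq] at h1
    exact h1
  have hμ : (RingHom.ker g).spanFinrank ≤ Module.finrank k V :=
    spanFinrank_le_of_obsTheory_art (psRes (Fin n)) (RingHom.ker g) hI2 R.res g hgsurj hgres
      (fun x => (RingHom.mem_ker (f := g)).symm) T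
  have hItop : RingHom.ker g ≠ ⊤ := RingHom.ker_ne_top g
  have hdimeq : ringKrullDim (MvPowerSeries (Fin n) k ⧸ RingHom.ker g) = ringKrullDim R.carrier :=
    ringKrullDim_eq_of_ringEquiv (Ideal.quotientKerAlgEquivOfSurjective hgsurj).toRingEquiv
  have hdimP := ringKrullDim_mvPowerSeries k n
  have hbound := dim_bound_of_spanFinrank_le (RingHom.ker g) hItop _ hμ
  rw [hdimeq, hdimP] at hbound
  have hbound' := dim_bound_of_spanFinrank_le (RingHom.ker g) hItop _ le_rfl
  rw [hdimeq, hdimP] at hbound'
  -- embedding dimension of R is at most n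
  have hmR : IsLocalRing.maximalIdeal R.carrier =
      Ideal.span (Set.range fun i : Fin n => g (MvPowerSeries.X i)) := by
    apply le_antisymm
    · intro y hy
      obtain ⟨x, rfl⟩ := hgsurj y
      have hx : x ∈ IsLocalRing.maximalIdeal (MvPowerSeries (Fin n) k) := by
        rw [CRing.mem_maximalIdeal_iff R] at hy
        rw [CRing.mem_maximalIdeal_iff (psCRing (Fin n) (hk0 (k := k)))]
        have := AlgHom.congr_fun hgres x
        rw [AlgHom.comp_apply] at this
        rw [← this]
        exact hy
      rw [maximalIdeal_mvPowerSeries_eq] at hx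
      have h2 : g x ∈ Ideal.map g (varsIdeal (Fin n) k) := Ideal.mem_map_of_mem g hx
      rw [Ideal.map_span] at h2
      convert h2 using 2
      ext z
      simp
    · rw [Ideal.span_le]
      rintro _ ⟨i, rfl⟩
      rw [SetLike.mem_coe, CRing.mem_maximalIdeal_iff R]
      have := AlgHom.congr_fun hgres (MvPowerSeries.X i)
      rw [AlgHom.comp_apply] at this
      rw [this, psRes_X]
  have hembd : (IsLocalRing.maximalIdeal R.carrier).spanFinrank ≤ n := by
    rw [hmR]
    calc (Ideal.span (Set.range fun i : Fin n => g (MvPowerSeries.X i))).spanFinrank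
        ≤ (Set.range fun i : Fin n => g (MvPowerSeries.X i)).ncard :=
          Submodule.spanFinrank_span_le_ncard_of_finite (Set.finite_range _)
      _ ≤ Nat.card (Fin n) := by
          rw [← Set.ncard_univ, ← Set.image_univ]
          exact Set.ncard_image_le Set.finite_univ
      _ = n := by simp
  have hembd' : ((IsLocalRing.maximalIdeal R.carrier).spanFinrank : WithBot ℕ∞) ≤ (n : WithBot ℕ∞) := by
    exact_mod_cast hembd
  have hb : ((IsLocalRing.maximalIdeal R.carrier).spanFinrank : WithBot ℕ∞) ≤
      ringKrullDim R.carrier + (Module.finrank k V : WithBot ℕ∞) := hembd'.trans hbound.1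
  refine ⟨ringKrullDim_le_spanFinrank_maximalIdeal _, hb, ?_, ?_⟩
  · intro h0
    apply IsRegularLocalRing.of_spanFinrank_maximalIdeal_le
    rw [h0] at hb
    simpa using hb
  · intro heq
    have h1 : ringKrullDim R.carrier + ((RingHom.ker g).spanFinrank : WithBot ℕ∞) = (n : WithBot ℕ∞) := by
      apply le_antisymm _ hbound'.1
      calc ringKrullDim R.carrier + ((RingHom.ker g).spanFinrank : WithBot ℕ∞)
          ≤ ringKrullDim R.carrier + (Module.finrank k V : WithBot ℕ∞) := by gcongr
        _ = ((IsLocalRing.maximalIdeal R.carrier).spanFinrank : WithBot ℕ∞) := heq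
        _ ≤ n := hembd'
    obtain ⟨s, hs, hcard⟩ := hbound'.2 h1
    refine ⟨MvPowerSeries (Fin n) k, inferInstance, inferInstance, (g : _ →+* R.carrier), s, hgsurj, hs, ?_⟩
    rw [hdimP]
    exact hcard.symm

end CRingBounds

end Groth.Agent.Lib.Helper19
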