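import Groth.Agent.Lib.Helper19ArcB
import Groth.Agent.Lib.Helper19ArcE
import Groth.Agent.Lib.Helper19PsIso
import Groth.Agent.Lib.Helper19PsDim

/-!
# Power series rings and lifting of tangent vectors in characteristic zero (helper19)
-/

set_option autoImplicit false
universe u

open MvPowerSeries ArtFun ArtFun.Art IsLocalRing

namespace Groth.Agent.Lib.Helper19.Arc

variable {k : Type u} [Field k]

/-- the lifting property of tangent vectors `R → A ⊕ M` along surjections `M' → M` -/
def TangentLifting (R : Type u) [CommRing R] [Algebra k R] : Prop :=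
  ∀ (A : ArtFun.Art k k) (M M' : Type u) [AddCommGroup M] [Module (↥A) M] [Module (↥A)ᵐᵒᵖ M]
    [IsCentralScalar (↥A) M] [Module k M] [IsScalarTower k (↥A) M] [IsScalarTower k (↥A)ᵐᵒᵖ M]
    [AddCommGroup M'] [Module (↥A) M'] [Module (↥A)ᵐᵒᵖ M'] [IsCentralScalar (↥A) M'] [Module k M']
    [IsScalarTower k (↥A) M'] [IsScalarTower k (↥A)ᵐᵒᵖ M'] (f : M' →ₗ[↥A] M),
    Function.Surjective f →
      ∀ φ : R →ₐ[k] TrivSqZeroExt (↥A) M,
        ∃ ψ : R →ₐ[k] TrivSqZeroExt (↥A) M',
          ∀ r : R, (ψ r).fst = (φ r).fst ∧ f (ψ r).snd = (φ r).snd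

/-- in characteristic zero, a complete local `k`-algebra with the lifting property of tangent vectors
is a power series ring -/
theorem exists_equiv_of_tangentLifting [CharZero k] (R : CRing k k)
    (H : TangentLifting (k := k) R.carrier) :
    ∃ r : ℕ, Nonempty (R.carrier ≃ₐ[k] MvPowerSeries (Fin r) k) := by
  have hk : Function.Surjective (algebraMap k k) := Function.surjective_id
  obtain ⟨r, g, hg, hgs, hgk⟩ := exists_presentation_cring hk R
  let J : Ideal (MvPowerSeries (Fin r) k) := RingHom.ker g.toRingHom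
  have hJ : J ≤ varsIdeal (Fin r) k ^ 2 := by
    intro p hp
    have h1 := hgk p hp
    rw [relSq, IsLocalRing.maximalIdeal_eq_bot (R := k), Ideal.map_bot, sup_bot_eq,
      maximalIdeal_mvPowerSeries_eq] at h1
    exact h1
  have hJbot : J = ⊥ := by
    apply eq_bot_of_curvilinear_lifting r J hJ
    intro l hl φ hφJ hφnil
    obtain ⟨m, rfl⟩ : ∃ m, l = m + 1 := ⟨l - 1, by omega⟩
    have hker : RingHom.ker g.toRingHom ≤ RingHom.ker φ.toRingHom := fun p hp => hφJ p hp
    let u : R.carrier →ₐ[k] Tr k (m + 1) := AlgHom.liftOfSurjective g hgs φ hker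
    have hu : u.comp g = φ := AlgHom.liftOfSurjective_comp g hgs φ hker
    obtain ⟨ψH, hψH⟩ := H (trArt k m) (TopQuot k m) (Tr k (m + 1)) (topMk k m)
      (topMk_surjective k m) ((jay k m).comp u)
    obtain ⟨ψR, hψR⟩ := exists_arc_lift m u ⟨ψH, fun r => hψH r⟩
    refine ⟨ψR.comp g, ?_, ?_⟩
    · intro p hp
      have : g p = 0 := hp
      rw [AlgHom.comp_apply, this, map_zero]
    · rw [← AlgHom.comp_assoc, hψR, hu]
  have hinj : Function.Injective g := by
    rw [injective_iff_map_eq_zero]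
    intro p hp
    have : p ∈ J := hp
    rwa [hJbot, Ideal.mem_bot] at this
  exact ⟨r, ⟨(AlgEquiv.ofBijective g ⟨hinj, hgs⟩).symm⟩⟩

end Groth.Agent.Lib.Helper19.Arc
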