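import Groth.Agent.Lib.Helper19ArtBasic

set_option autoImplicit false
universe u v w

open CategoryTheory ArtFun ArtFun.Art

namespace Groth.Agent.Lib.Helper19

section Socle

/-- In an Artinian local ring the maximal ideal is nilpotent. -/
theorem isNilpotent_maximalIdeal_of_artinian (B : Type*) [CommRing B] [IsLocalRing B] [IsArtinianRing B] :
    IsNilpotent (IsLocalRing.maximalIdeal B) := by
  have h := IsArtinianRing.isNilpotent_jacobson_bot (R := B)
  rwa [IsLocalRing.jacobson_eq_maximalIdeal _ bot_ne_top] at h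

/-- Socle lemma: if `K < J` are ideals of an Artinian local ring there is `x ∈ J \ K` with `m x ⊆ K`. -/
theorem exists_socle_elt (B : Type*) [CommRing B] [IsLocalRing B] [IsArtinianRing B]
    {K J : Ideal B} (hKJ : K < J) :
    ∃ x ∈ J, x ∉ K ∧ IsLocalRing.maximalIdeal B * Ideal.span {x} ≤ K := by
  classical
  set m := IsLocalRing.maximalIdeal B with hm
  obtain ⟨n0, hn0⟩ := isNilpotent_maximalIdeal_of_artinian B
  have hex : ∃ n, m ^ n * J ≤ K := ⟨n0, by rw [hn0, Ideal.zero_eq_bot, Ideal.bot_mul]; exact bot_le⟩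
  set n := Nat.find hex with hn
  have hnK : m ^ n * J ≤ K := Nat.find_spec hex
  have hnpos : n ≠ 0 := by
    intro h0
    rw [h0, pow_zero, Ideal.one_eq_top, Ideal.top_mul] at hnK
    exact not_le_of_gt hKJ hnK
  obtain ⟨n', hn'⟩ := Nat.exists_eq_succ_of_ne_zero hnpos
  have hn'K : ¬ m ^ n' * J ≤ K := Nat.find_min hex (by rw [← hn, hn']; exact Nat.lt_succ_self _)
  obtain ⟨x, hx, hxK⟩ := SetLike.not_le_iff_exists.1 hn'K
  refine ⟨x, Ideal.mul_le_right hx, hxK, ?_⟩
  calc m * Ideal.span {x} ≤ m * (m ^ n' * J) :=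
        Ideal.mul_mono_right ((Ideal.span_singleton_le_iff_mem _).2 hx)
    _ = m ^ n * J := by rw [hn', pow_succ', mul_assoc]
    _ ≤ K := hnK

end Socle

section QuotMaps

variable {Λ : Type u} {k : Type u} [CommRing Λ] [Field k] [Algebra Λ k]

lemma quotMk_eq_zero_iff (B : Art Λ k) (K : Ideal B) (hK : K ≤ IsLocalRing.maximalIdeal B) (b : B) :
    quotMk B K hK b = 0 ↔ b ∈ K :=
  Ideal.Quotient.eq_zero_iff_mem

lemma ker_quotMk (B : Art Λ k) (K : Ideal B) (hK : K ≤ IsLocalRing.maximalIdeal B) :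
    RingHom.ker (quotMk B K hK).toAlgHom = K := by
  ext x
  rw [RingHom.mem_ker]
  exact quotMk_eq_zero_iff B K hK x

/-- The transition map `B/K ⟶ B/J` for `K ≤ J`. -/
noncomputable def quotTrans (B : Art Λ k) {K J : Ideal B} (hK : K ≤ IsLocalRing.maximalIdeal B)
    (hJ : J ≤ IsLocalRing.maximalIdeal B) (hKJ : K ≤ J) : quot B K hK ⟶ quot B J hJ :=
  quotFactor hK (quotMk B J hJ) (by rw [ker_quotMk]; exact hKJ)

lemma quotTrans_mk (B : Art Λ k) {K J : Ideal B} (hK : K ≤ IsLocalRing.maximalIdeal B)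
    (hJ : J ≤ IsLocalRing.maximalIdeal B) (hKJ : K ≤ J) (b : B) :
    quotTrans B hK hJ hKJ (quotMk B K hK b) = quotMk B J hJ b := rfl

lemma quotMk_quotTrans (B : Art Λ k) {K J : Ideal B} (hK : K ≤ IsLocalRing.maximalIdeal B)
    (hJ : J ≤ IsLocalRing.maximalIdeal B) (hKJ : K ≤ J) :
    quotMk B K hK ≫ quotTrans B hK hJ hKJ = quotMk B J hJ :=
  quotMk_quotFactor _ _ _

lemma quotTrans_surjective (B : Art Λ k) {K J : Ideal B} (hK : K ≤ IsLocalRing.maximalIdeal B)
    (hJ : J ≤ IsLocalRing.maximalIdeal B) (hKJ : K ≤ J) :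
    Function.Surjective (quotTrans B hK hJ hKJ) := by
  intro y
  obtain ⟨b, rfl⟩ := quotMk_surjective B J hJ y
  exact ⟨quotMk B K hK b, rfl⟩

lemma quotTrans_comp (B : Art Λ k) {K J L : Ideal B} (hK : K ≤ IsLocalRing.maximalIdeal B)
    (hJ : J ≤ IsLocalRing.maximalIdeal B) (hL : L ≤ IsLocalRing.maximalIdeal B)
    (hKJ : K ≤ J) (hJL : J ≤ L) :
    quotTrans B hK hJ hKJ ≫ quotTrans B hJ hL hJL = quotTrans B hK hL (hKJ.trans hJL) := by
  apply hom_ext
  apply AlgHom.ext
  intro y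
  obtain ⟨b, rfl⟩ := quotMk_surjective B K hK y
  rfl

lemma mem_ker_quotTrans (B : Art Λ k) {K J : Ideal B} (hK : K ≤ IsLocalRing.maximalIdeal B)
    (hJ : J ≤ IsLocalRing.maximalIdeal B) (hKJ : K ≤ J) (b : B) :
    quotMk B K hK b ∈ RingHom.ker (quotTrans B hK hJ hKJ).toAlgHom ↔ b ∈ J := by
  rw [RingHom.mem_ker]
  exact quotMk_eq_zero_iff B J hJ b

lemma quotTrans_bijective_of_eq (B : Art Λ k) {K J : Ideal B} (hK : K ≤ IsLocalRing.maximalIdeal B)
    (hJ : J ≤ IsLocalRing.maximalIdeal B) (hKJ : K = J) :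
    Function.Bijective (quotTrans B hK hJ hKJ.le) := by
  subst hKJ
  refine ⟨fun y y' h => ?_, quotTrans_surjective B hK hJ le_rfl⟩
  obtain ⟨b, rfl⟩ := quotMk_surjective B K hK y
  obtain ⟨b', rfl⟩ := quotMk_surjective B K hK y'
  exact h

/-- Elements of the maximal ideal of a quotient object lift to the maximal ideal. -/
lemma exists_mem_maximalIdeal_of_quot (B : Art Λ k) (K : Ideal B) (hK : K ≤ IsLocalRing.maximalIdeal B)
    (y : quot B K hK) (hy : y ∈ IsLocalRing.maximalIdeal (quot B K hK)) :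
    ∃ b ∈ IsLocalRing.maximalIdeal B, quotMk B K hK b = y := by
  obtain ⟨b, rfl⟩ := quotMk_surjective B K hK y
  refine ⟨b, ?_, rfl⟩
  rw [Art.mem_maximalIdeal_iff] at hy ⊢
  rwa [Art.res_app] at hy

/-- The basic small extension `B/K ⟶ B/(K ⊔ (x))` for a socle element `x` modulo `K`. -/
theorem isSmallExt_quotTrans (B : Art Λ k) {K : Ideal B} (hK : K ≤ IsLocalRing.maximalIdeal B)
    (x : B) (hx : x ∈ IsLocalRing.maximalIdeal B) (hxK : x ∉ K)
    (hmx : IsLocalRing.maximalIdeal B * Ideal.span {x} ≤ K) :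
    IsSmallExt (quotTrans B hK
      (sup_le hK ((Ideal.span_singleton_le_iff_mem _).2 hx) : K ⊔ Ideal.span {x} ≤ _) le_sup_left) := by
  have hJ : K ⊔ Ideal.span {x} ≤ IsLocalRing.maximalIdeal B :=
    sup_le hK ((Ideal.span_singleton_le_iff_mem _).2 hx)
  have hker : RingHom.ker (quotTrans B hK hJ le_sup_left).toAlgHom =
      Ideal.span {quotMk B K hK x} := by
    apply le_antisymm
    · intro y hy
      obtain ⟨b, rfl⟩ := quotMk_surjective B K hK y
      rw [mem_ker_quotTrans] at hy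
      obtain ⟨c, hc, d, hd, rfl⟩ := Submodule.mem_sup.1 hy
      obtain ⟨r, rfl⟩ := Ideal.mem_span_singleton'.1 hd
      rw [Ideal.mem_span_singleton']
      refine ⟨quotMk B K hK r, ?_⟩
      have h1 : quotMk B K hK (c + r * x) = quotMk B K hK c + quotMk B K hK r * quotMk B K hK x := by
        rw [← map_mul (quotMk B K hK).toAlgHom, ← map_add (quotMk B K hK).toAlgHom]
      rw [h1, (quotMk_eq_zero_iff B K hK c).2 hc, zero_add]
    · rw [Ideal.span_singleton_le_iff_mem, mem_ker_quotTrans]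
      exact Ideal.mem_sup_right (Ideal.mem_span_singleton_self x)
  refine ⟨quotTrans_surjective B hK hJ le_sup_left, ?_, ?_, ?_⟩
  · rw [hker]
    intro h
    rw [Ideal.span_singleton_eq_bot] at h
    exact hxK ((quotMk_eq_zero_iff B K hK x).1 h)
  · rw [hker]
    exact ⟨⟨_, rfl⟩⟩
  · rw [hker, eq_bot_iff, Ideal.mul_le]
    intro y hy z hz
    obtain ⟨b, hb, rfl⟩ := exists_mem_maximalIdeal_of_quot B K hK y hy
    obtain ⟨r, rfl⟩ := Ideal.mem_span_singleton'.1 hz
    obtain ⟨r', rfl⟩ := quotMk_surjective B K hK r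
    rw [Ideal.mem_bot]
    have h1 : quotMk B K hK b * (quotMk B K hK r' * quotMk B K hK x) = quotMk B K hK (r' * (b * x)) := by
      rw [map_mul (quotMk B K hK).toAlgHom, map_mul (quotMk B K hK).toAlgHom]
      ring
    rw [h1, quotMk_eq_zero_iff]
    exact K.mul_mem_left r' (hmx (Ideal.mul_mem_mul hb (Ideal.mem_span_singleton_self x)))

end QuotMaps

section Induction

variable {Λ : Type u} {k : Type u} [CommRing Λ] [Field k] [Algebra Λ k]

lemma ker_le_maximalIdeal {A B : Art Λ k} (f : B ⟶ A) :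
    RingHom.ker f.toAlgHom ≤ IsLocalRing.maximalIdeal B := by
  intro b hb
  rw [Art.mem_maximalIdeal_iff, ← Art.res_app f]
  rw [RingHom.mem_ker] at hb
  rw [hb, map_zero]

/-- Induction principle: a property of morphisms of `Art Λ k` that holds for isomorphisms and small
extensions and is stable under composition holds for all surjections. -/
theorem surjective_induction
    (P : ∀ ⦃A B : Art Λ k⦄, (B ⟶ A) → Prop)
    (hiso : ∀ ⦃A B : Art Λ k⦄ (e : B ⟶ A), IsIso e → P e)
    (hsmall : ∀ ⦃A B : Art Λ k⦄ (p : B ⟶ A), IsSmallExt p → P p)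
    (hcomp : ∀ ⦃A B C : Art Λ k⦄ (p : C ⟶ B) (q : B ⟶ A), P p → P q → P (p ≫ q))
    ⦃A B : Art Λ k⦄ (f : B ⟶ A) (hf : Function.Surjective f) : P f := by
  have key : ∀ K : Ideal B, ∀ (hK : K ≤ IsLocalRing.maximalIdeal B) (J : Ideal B)
      (hJ : J ≤ IsLocalRing.maximalIdeal B) (hKJ : K ≤ J), P (quotTrans B hK hJ hKJ) := by
    intro K
    induction K using IsNoetherian.induction with
    | hgt K ih =>
      intro hK J hJ hKJ
      rcases eq_or_lt_of_le hKJ with h | h
      · exact hiso _ (isIso_of_bijective _ (quotTrans_bijective_of_eq B hK hJ h))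
      · obtain ⟨x, hxJ, hxK, hmx⟩ := exists_socle_elt B h
        have hx : x ∈ IsLocalRing.maximalIdeal B := hJ hxJ
        have hK' : K ⊔ Ideal.span {x} ≤ IsLocalRing.maximalIdeal B :=
          sup_le hK ((Ideal.span_singleton_le_iff_mem _).2 hx)
        have hK'J : K ⊔ Ideal.span {x} ≤ J := sup_le hKJ ((Ideal.span_singleton_le_iff_mem _).2 hxJ)
        have hlt : K < K ⊔ Ideal.span {x} := by
          refine lt_of_le_of_ne le_sup_left (fun he => hxK ?_)
          rw [he]
          exact Ideal.mem_sup_right (Ideal.mem_span_singleton_self x)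
        have h1 := hsmall _ (isSmallExt_quotTrans B hK x hx hxK hmx)
        have h2 := ih _ hlt hK' J hJ hK'J
        have := hcomp _ _ h1 h2
        rwa [quotTrans_comp] at this
  have hJ := ker_le_maximalIdeal f
  have hbot : (⊥ : Ideal B) ≤ IsLocalRing.maximalIdeal B := bot_le
  have h1 : P (quotMk B ⊥ hbot) := by
    apply hiso _ (isIso_of_bijective _ ⟨?_, quotMk_surjective B ⊥ hbot⟩)
    intro b b' h
    have : quotMk B ⊥ hbot (b - b') = 0 := by
      rw [map_sub (quotMk B ⊥ hbot).toAlgHom, sub_eq_zero]; exact h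
    rw [quotMk_eq_zero_iff, Ideal.mem_bot, sub_eq_zero] at this
    exact this
  have h2 : P (quotTrans B hbot hJ bot_le) := key ⊥ hbot _ hJ bot_le
  have h3 : P (quotFactor hJ f le_rfl) := by
    apply hiso _ (isIso_of_bijective _ ⟨?_, ?_⟩)
    · intro y y' h
      obtain ⟨b, rfl⟩ := quotMk_surjective B _ hJ y
      obtain ⟨b', rfl⟩ := quotMk_surjective B _ hJ y'
      have h' : f b = f b' := h
      have : quotMk B _ hJ (b - b') = 0 := by
        rw [quotMk_eq_zero_iff, RingHom.mem_ker, map_sub, sub_eq_zero]; exact h'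
      rw [map_sub (quotMk B _ hJ).toAlgHom, sub_eq_zero] at this
      exact this
    · intro a
      obtain ⟨b, rfl⟩ := hf a
      exact ⟨quotMk B _ hJ b, rfl⟩
  have h4 := hcomp _ _ (hcomp _ _ h1 h2) h3
  have e : (quotMk B ⊥ hbot ≫ quotTrans B hbot hJ bot_le) ≫ quotFactor hJ f le_rfl = f := by
    rw [quotMk_quotTrans, quotMk_quotFactor]
  rwa [e] at h4

end Induction

end Groth.Agent.Lib.Helper19
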