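import Groth.Agent.Lib.Helper19ArcF
import Groth.Agent.Lib.Helper19SmallExt

/-!
# Power series rings have the lifting property of tangent vectors; counting variables (helper19)
-/

set_option autoImplicit false
universe u

open MvPowerSeries ArtFun ArtFun.Art IsLocalRing

namespace Groth.Agent.Lib.Helper19.Arc

variable {k : Type u} [Field k]

/-- a complete local `k`-algebra isomorphic to a power series ring in `r` variables has cotangent space of
dimension `r` -/
theorem finrank_cotangentSpace_of_equiv (R : Type u) [CommRing R] [Algebra k R] [IsLocalRing R]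
    [IsNoetherianRing R] (r : ℕ) (e : R ≃ₐ[k] MvPowerSeries (Fin r) k) :
    Module.finrank (ResidueField R) (CotangentSpace R) = r := by
  haveI : IsRegularLocalRing R := IsRegularLocalRing.of_ringEquiv e.symm.toRingEquiv
  have h1 := (IsRegularLocalRing.iff_finrank_cotangentSpace R).1 inferInstance
  rw [ringKrullDim_eq_of_ringEquiv e.toRingEquiv, ringKrullDim_mvPowerSeries] at h1
  exact_mod_cast h1

theorem comap_fst_pow_eq_bot (A : Type u) [CommRing A] (L : Type u) [AddCommGroup L] [Module A L]
    [Module Aᵐᵒᵖ L] [IsCentralScalar A L] (I : Ideal A) (N : ℕ) (hN : I ^ N = ⊥) :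
    (Ideal.comap (TrivSqZeroExt.fstHom A A L) I) ^ (N * 2) = ⊥ := by
  rw [pow_mul, eq_bot_iff, ← TrivSqZeroExt.kerIdeal_sq A L]
  apply Ideal.pow_right_mono
  refine (Ideal.le_comap_pow _ N).trans ?_
  rw [hN]
  exact le_rfl

/-- the lifting property of tangent vectors is invariant under isomorphism -/
theorem TangentLifting.of_equiv {R R' : Type u} [CommRing R] [Algebra k R] [CommRing R'] [Algebra k R']
    (e : R ≃ₐ[k] R') (H : TangentLifting (k := k) R) : TangentLifting (k := k) R' := by
  intro A M M' _ _ _ _ _ _ _ _ _ _ _ _ _ _ f hf φ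
  obtain ⟨ψ, hψ⟩ := H A M M' f hf (φ.comp e.toAlgHom)
  refine ⟨ψ.comp e.symm.toAlgHom, fun r => ?_⟩
  have := hψ (e.symm r)
  simpa using this

/-- power series rings have the lifting property of tangent vectors -/
theorem tangentLifting_mvPowerSeries (n : ℕ) :
    TangentLifting (k := k) (MvPowerSeries (Fin n) k) := by
  intro A M M' _ _ _ _ _ _ _ _ _ _ _ _ _ _ f hf φ
  classical
  obtain ⟨N, hN⟩ : ∃ N : ℕ, maximalIdeal A ^ N = ⊥ := by
    obtain ⟨N, hN⟩ := isNilpotent_maximalIdeal_of_artinian A
    exact ⟨N, hN⟩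
  have hχ : ∀ i, (φ (X i)).fst ∈ maximalIdeal A := by
    intro i
    let χ : MvPowerSeries (Fin n) k →ₐ[k] k := A.res.comp ((TrivSqZeroExt.fstHom k A M).comp φ)
    have hχs : Function.Surjective χ := fun c =>
      ⟨algebraMap k (MvPowerSeries (Fin n) k) c, by rw [AlgHom.commutes]; rfl⟩
    have hX : (X i : MvPowerSeries (Fin n) k) ∈ maximalIdeal (MvPowerSeries (Fin n) k) := by
      rw [maximalIdeal_mvPowerSeries_eq]
      exact Ideal.subset_span ⟨i, rfl⟩
    rw [A.mem_maximalIdeal_iff]
    exact (mem_maximalIdeal_iff_res χ hχs (X i)).1 hX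
  choose μ' hμ' using fun i => hf (φ (X i)).snd
  let x : Fin n → TrivSqZeroExt A M' := fun i =>
    TrivSqZeroExt.inl (φ (X i)).fst + TrivSqZeroExt.inr (μ' i)
  have hx : ∀ i, x i ∈ Ideal.comap (TrivSqZeroExt.fstHom A A M') (maximalIdeal A) := by
    intro i
    rw [Ideal.mem_comap]
    simpa [x] using hχ i
  obtain ⟨ψ, hψ⟩ := exists_algHom_X_eq (Λ := k) _ (N * 2)
    (comap_fst_pow_eq_bot A M' (maximalIdeal A) N hN) x hx
  have hcomp : ((TrivSqZeroExt.map f).restrictScalars k).comp ψ = φ := by
    have hval : ∀ i, (((TrivSqZeroExt.map f).restrictScalars k).comp ψ) (X i) = φ (X i) := by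
      intro i
      rw [AlgHom.comp_apply, hψ]
      apply TrivSqZeroExt.ext
      · simp [x]
      · simp [x, hμ']
    apply algHom_ext_of_X (Ideal.comap (TrivSqZeroExt.fstHom A A M) (maximalIdeal A)) (N * 2)
      (comap_fst_pow_eq_bot A M (maximalIdeal A) N hN)
    · intro i
      rw [hval, Ideal.mem_comap]
      exact hχ i
    · exact hval
  refine ⟨ψ, fun r => ?_⟩
  have h := AlgHom.congr_fun hcomp r
  rw [← h]
  simp

end Groth.Agent.Lib.Helper19.Arc
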