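import Groth.Agent.Lib.Helper19Hull
import Groth.Agent.Lib.Helper19TangentDer

set_option autoImplicit false
universe u v w

open CategoryTheory ArtFun ArtFun.Art

namespace Groth.Agent.Lib.Helper19



section Prorep

variable {Λ : Type u} {k : Type u} [CommRing Λ] [Field k] [Algebra Λ k]

/-- A pro-representable functor is left exact. -/
theorem isLeftExact_of_isUniversal {R : Type u} [CommRing R] [Algebra Λ R] {resR : R →ₐ[Λ] k}
    {F : Art Λ k ⥤ Type v} (ξ : Family R resR F) (hξ : IsUniversal ξ) : IsLeftExact F := by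
  intro B A A' A'' p' p'' f' f'' h
  constructor
  · rw [cmp_injective_iff]
    intro z z' e1 e2
    obtain ⟨ψ, rfl⟩ := (hξ B).2 z
    obtain ⟨ψ', rfl⟩ := (hξ B).2 z'
    rw [← ξ.natural, ← ξ.natural] at e1 e2
    rw [homSet_ext h ψ ψ' ((hξ A').1 e1) ((hξ A'').1 e2)]
  · rw [cmp_surjective_iff]
    intro x' x'' e
    obtain ⟨φ', rfl⟩ := (hξ A').2 x'
    obtain ⟨φ'', rfl⟩ := (hξ A'').2 x''
    rw [← ξ.natural, ← ξ.natural] at e
    obtain ⟨ψ, h1, h2⟩ := homSet_lift h φ' φ'' ((hξ A).1 e)
    refine ⟨ξ.app B ψ, ?_, ?_⟩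
    · rw [← ξ.natural, h1]
    · rw [← ξ.natural, h2]

/-- A family of a functor with (RS) which is injective on tangent spaces is injective on every object. -/
theorem family_app_injective_of_tangent_injective [Module.Finite Λ k]
    {R : Type u} [CommRing R] [Algebra Λ R] {resR : R →ₐ[Λ] k}
    {F : Art Λ k ⥤ Type v} (ξ : Family R resR F) (hF : RS F)
    (hd : Function.Injective (ξ.app (dual Λ k))) (A : Art Λ k) :
    Function.Injective (ξ.app A) := by
  have key : Function.Injective (ξ.app (base Λ k)) → Function.Injective (ξ.app A) := by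
    refine surjective_induction (fun A A' μ => Function.Injective (ξ.app A) → Function.Injective (ξ.app A'))
      ?_ ?_ ?_ (toBase A) (toBase_surjective A)
    · intro A A' e he hA x₁ x₂ hx
      have := congrArg (F.map e) hx
      rw [← ξ.natural, ← ξ.natural] at this
      have h2 := congrArg (HomSet.map (inv e)) (hA this)
      rwa [← homSet_map_comp, ← homSet_map_comp, IsIso.hom_inv_id, homSet_map_id, homSet_map_id] at h2
    · intro A A' μ hμ hA x₁ x₂ hx
      obtain ⟨t, hker, ht0, ht, htm⟩ := exists_gen_of_isSmallExt hμ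
      have hxA : HomSet.map μ x₁ = HomSet.map μ x₂ := by
        apply hA
        rw [ξ.natural, ξ.natural, hx]
      have hP := isFibreProd_pullbackObj (toBase A') (toBase (dual Λ k)) (toBase_surjective _)
      set P := pullbackObj (toBase A') (toBase (dual Λ k)) (toBase_surjective _)
      set r₁ : P ⟶ A' := pullbackObjFst _ _ _
      set r₂ : P ⟶ dual Λ k := pullbackObjSnd _ _ _
      set s : P ⟶ A' := shiftHom r₁ r₂ ht htm
      have hS : IsFibreProd r₁ s μ μ := isFibreProd_shift hP μ ht htm ht0 hker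
      set Δ : A' ⟶ P := zeroSection hP
      have hΔ1 : Δ ≫ r₁ = 𝟙 A' := zeroSection_fst hP
      have hΔs : Δ ≫ s = 𝟙 A' := zeroSection_shift hP ht htm
      obtain ⟨z, hz1, hz2⟩ := homSet_lift hS x₁ x₂ hxA
      have e1 : ξ.app P z = F.map Δ (ξ.app A' x₁) := by
        apply (cmp_injective_iff F hS).1 (hF r₁ s μ μ hS hμ.1).1
        · rw [← ξ.natural, hz1, ← map_comp_apply', hΔ1, map_id_apply']
        · rw [← ξ.natural, hz2, ← map_comp_apply', hΔs, map_id_apply', hx]
      have e2 : ξ.app P z = ξ.app P (HomSet.map Δ x₁) := by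
        rw [e1, ξ.natural]
      have e3 : HomSet.map r₂ z = HomSet.map r₂ (HomSet.map Δ x₁) := by
        apply hd
        rw [ξ.natural, ξ.natural, e2]
      have e4 : z = HomSet.map Δ x₁ := by
        apply homSet_ext hP _ _ _ e3
        rw [hz1, ← homSet_map_comp, hΔ1, homSet_map_id]
      rw [← hz2, e4, ← homSet_map_comp, hΔs, homSet_map_id]
    · intro A B' C p q hp hq hA
      exact hp (hq hA)
  apply key
  intro x y _
  rw [homSet_base_eq x, homSet_base_eq y]

variable [IsLocalRing Λ] [IsNoetherianRing Λ] [IsAdicComplete (IsLocalRing.maximalIdeal Λ) Λ]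
  (hk : Function.Surjective (algebraMap Λ k))

include hk in
/-- Schlessinger's pro-representability criterion, sufficiency. -/
theorem isProrepresentable_of_hbar_heps_hfin_hsq [Module.Finite Λ k] {F : Art Λ k ⥤ Type v}
    [T : TangentStr F] (h0 : H0 F) (h1 : Hbar F) (h2 : Heps F) (h3 : Hfin F) (h4 : HSq F) :
    IsProrepresentable F := by
  have hS1 : S1 F := (s1_iff_hbar F).2 h1
  obtain ⟨⟨S, ξ, hv, hb⟩⟩ := hasHull_of_s1_heps_hfin hk h0 hS1 h2 h3
  have hRS : RS F := rs_of_hbar_heps_hsq h0 h1 h2 h4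
  exact ⟨⟨S, ξ, fun A => ⟨family_app_injective_of_tangent_injective ξ hRS hb.1 A,
    versal_app_surjective h0 ξ hv A⟩⟩⟩

omit [IsLocalRing Λ] [IsNoetherianRing Λ] [IsAdicComplete (IsLocalRing.maximalIdeal Λ) Λ] in
/-- Necessity of the conditions. -/
theorem conditions_of_isProrepresentable [Module.Finite Λ k] {F : Art Λ k ⥤ Type v}
    [T : TangentStr F] (hF : IsProrepresentable F) : IsLeftExact F ∧ Hfin F := by
  obtain ⟨⟨S, ξ, hu⟩⟩ := hF
  exact ⟨isLeftExact_of_isUniversal ξ hu, hfin_of_surjective_family S ξ (hu _).2⟩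

include hk in
theorem isProrepresentable_iff_hbar_heps_hfin_hsq [Module.Finite Λ k] {F : Art Λ k ⥤ Type v}
    [T : TangentStr F] (h0 : H0 F) :
    IsProrepresentable F ↔ (Hbar F ∧ Heps F ∧ Hfin F ∧ HSq F) := by
  constructor
  · intro hF
    obtain ⟨hl, hf⟩ := conditions_of_isProrepresentable hF
    refine ⟨?_, ?_, hf, ?_⟩
    · intro B A A' A'' p' p'' f' f'' h _
      exact (hl p' p'' f' f'' h).2
    · intro B A' p' p'' h
      exact hl p' p'' _ _ h
    · intro B A A' p₁ p₂ f h _
      exact hl p₁ p₂ f f h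
  · rintro ⟨h1, h2, h3, h4⟩
    exact isProrepresentable_of_hbar_heps_hfin_hsq hk h0 h1 h2 h3 h4

include hk in
theorem isProrepresentable_iff_isLeftExact_hfin [Module.Finite Λ k] {F : Art Λ k ⥤ Type v}
    [T : TangentStr F] (h0 : H0 F) :
    IsProrepresentable F ↔ (IsLeftExact F ∧ Hfin F) := by
  constructor
  · exact conditions_of_isProrepresentable
  · rintro ⟨hl, hf⟩
    apply isProrepresentable_of_hbar_heps_hfin_hsq hk h0 _ _ hf _
    · intro B A A' A'' p' p'' f' f'' h _
      exact (hl p' p'' f' f'' h).2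
    · intro B A' p' p'' h
      exact hl p' p'' _ _ h
    · intro B A A' p₁ p₂ f h _
      exact hl p₁ p₂ f f h

end Prorep

end Groth.Agent.Lib.Helper19
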