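import Groth.Agent.Lib.Helper19CutDown
import Groth.Agent.Lib.Helper19Prorep

set_option autoImplicit false
universe u v w

open CategoryTheory ArtFun ArtFun.Art

namespace Groth.Agent.Lib.Helper19

section ProrepGen

variable {Λ : Type u} {k : Type u} [CommRing Λ] [Field k] [Algebra Λ k] [IsNoetherianRing Λ]
  [Module.Finite Λ k]
variable {F : Art Λ k ⥤ Type v} [T : TangentStr F]

/-- Pro-representability over a general Noetherian base: sufficiency. -/
theorem isProrepresentable_of_rs_hfin_injective (h0 : H0 F) (hRS : RS F) (h3 : Hfin F)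
    (hc : ∀ x₀ : F.obj (base Λ k),
      Function.Injective (fun σ : base Λ k ⟶ dual Λ k => F.map σ x₀)) :
    IsProrepresentable F := by
  have h1 : S1 F := fun B A A' A'' p' p'' f' f'' h hs => (hRS p' p'' f' f'' h hs).2
  have h2 : Heps F := fun B A' p' p'' h => hRS p' p'' _ _ h (toBase_surjective _)
  obtain ⟨⟨R, ξ, hv⟩⟩ := hasVersal_of_s1_heps_hfin F h0 h1 h2 h3
  obtain ⟨J, hJ, hm⟩ := exists_miniversal_quot_of h0 h2 R ξ hv
    (fun θ hθ hθ' => eq_zeroTangent_of_vanish_of_injective R.res_surjective ξ hc θ hθ hθ')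
  exact ⟨⟨quotCRing R J hJ, _, fun A =>
    ⟨family_app_injective_of_tangent_injective _ hRS hm.2.1 A, versal_app_surjective h0 _ hm.1 A⟩⟩⟩

/-- Pro-representability over a general Noetherian base: necessity. -/
theorem conditions_of_isProrepresentable_gen (hF : IsProrepresentable F) :
    (H0 F ∧ RS F) ∧ Hfin F ∧ ∀ x₀ : F.obj (base Λ k),
      Function.Injective (fun σ : base Λ k ⟶ dual Λ k => F.map σ x₀) := by
  obtain ⟨hl, hf⟩ := conditions_of_isProrepresentable hF
  obtain ⟨⟨R, ξ, hu⟩⟩ := hF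
  have h0 : H0 F := h0_of_surjective ξ (hu _).2
  refine ⟨⟨h0, fun B A A' A'' p' p'' f' f'' h _ => hl p' p'' f' f'' h⟩, hf, ?_⟩
  intro x₀ σ σ' hσ
  have hx₀ : x₀ = ξ.app _ (homSetBase R.carrier R.res) := h0_elim h0 _ _
  have hσ' : F.map σ x₀ = F.map σ' x₀ := hσ
  rw [hx₀, ← ξ.natural, ← ξ.natural] at hσ'
  have h1 := (hu _).1 hσ'
  apply Art.hom_ext
  apply AlgHom.ext
  intro c
  obtain ⟨r, rfl⟩ := R.res_surjective c
  exact congrArg (fun f : HomSet R.carrier R.res (dual Λ k) => f.1 r) h1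

theorem isProrepresentable_iff_rs_hfin_injective :
    IsProrepresentable F ↔ ((H0 F ∧ RS F) ∧ Hfin F ∧ ∀ x₀ : F.obj (base Λ k),
      Function.Injective (fun σ : base Λ k ⟶ dual Λ k => F.map σ x₀)) :=
  ⟨conditions_of_isProrepresentable_gen, fun h =>
    isProrepresentable_of_rs_hfin_injective h.1.1 h.1.2 h.2.1 h.2.2⟩

end ProrepGen

end Groth.Agent.Lib.Helper19
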