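import Groth.Agent.Lib.Helper19ArcG
import Groth.Agent.Lib.Helper19ProrepGen

/-!
# The `T¹`-lifting theorem for functors of Artin rings in characteristic zero (helper19)
-/

set_option autoImplicit false
universe u v

open MvPowerSeries CategoryTheory ArtFun ArtFun.Art IsLocalRing

namespace Groth.Agent.Lib.Helper19.Arc

variable {k : Type u} [Field k]

/-- in characteristic zero, a complete local `k`-algebra all of whose arcs have liftable tangent vectors
is a power series ring -/
theorem exists_equiv_of_arc_tangent_lifting [CharZero k] (R : CRing k k)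
    (H : ∀ (m : ℕ) (u : R.carrier →ₐ[k] Tr k (m + 1)),
      ∃ ψ' : R.carrier →ₐ[k] TrivSqZeroExt (Tr k (m + 1)) (Tr k (m + 1)),
        ∀ r, (ψ' r).fst = (jay k m (u r)).fst ∧ topMk k m (ψ' r).snd = (jay k m (u r)).snd) :
    ∃ r : ℕ, Nonempty (R.carrier ≃ₐ[k] MvPowerSeries (Fin r) k) := by
  have hk : Function.Surjective (algebraMap k k) := Function.surjective_id
  obtain ⟨r, g, hg, hgs, hgk⟩ := exists_presentation_cring hk R
  let J : Ideal (MvPowerSeries (Fin r) k) := RingHom.ker g.toRingHom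
  have hJ : J ≤ varsIdeal (Fin r) k ^ 2 := by
    intro p hp
    have h1 := hgk p hp
    rw [relSq, IsLocalRing.maximalIdeal_eq_bot (R := k), Ideal.map_bot, sup_bot_eq,
      maximalIdeal_mvPowerSeries_eq] at h1
    exact h1
  have hJbot : J = ⊥ := by
    apply eq_bot_of_curvilinear_lifting r J hJ
    intro l hl φ hφJ hφnil
    obtain ⟨m, rfl⟩ : ∃ m, l = m + 1 := ⟨l - 1, by omega⟩
    have hker : RingHom.ker g.toRingHom ≤ RingHom.ker φ.toRingHom := fun p hp => hφJ p hp
    let u : R.carrier →ₐ[k] Tr k (m + 1) := AlgHom.liftOfSurjective g hgs φ hker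
    have hu : u.comp g = φ := AlgHom.liftOfSurjective_comp g hgs φ hker
    obtain ⟨ψR, hψR⟩ := exists_arc_lift m u (H m u)
    refine ⟨ψR.comp g, ?_, ?_⟩
    · intro p hp
      have : g p = 0 := hp
      rw [AlgHom.comp_apply, this, map_zero]
    · rw [← AlgHom.comp_assoc, hψR, hu]
  have hinj : Function.Injective g := by
    rw [injective_iff_map_eq_zero]
    intro p hp
    have : p ∈ J := hp
    rwa [hJbot, Ideal.mem_bot] at this
  exact ⟨r, ⟨(AlgEquiv.ofBijective g ⟨hinj, hgs⟩).symm⟩⟩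

section Tsz

variable (A : Art k k) (M : Type u) [AddCommGroup M] [Module A M] [Module Aᵐᵒᵖ M] [IsCentralScalar A M]
  [Module k M] [IsScalarTower k A M] [IsScalarTower k Aᵐᵒᵖ M]

instance isLocalRing_tsz : IsLocalRing (TrivSqZeroExt A M) := by
  haveI : Nontrivial (TrivSqZeroExt A M) :=
    ⟨⟨0, 1, fun h => zero_ne_one (α := A) (congrArg TrivSqZeroExt.fst h)⟩⟩
  apply IsLocalRing.of_isUnit_or_isUnit_one_sub_self
  intro x
  rw [TrivSqZeroExt.isUnit_iff_isUnit_fst, TrivSqZeroExt.isUnit_iff_isUnit_fst,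
    TrivSqZeroExt.fst_sub, TrivSqZeroExt.fst_one]
  exact IsLocalRing.isUnit_or_isUnit_one_sub_self x.fst

instance finite_tsz [Module.Finite A M] : Module.Finite A (TrivSqZeroExt A M) :=
  inferInstanceAs (Module.Finite A (A × M))

instance isArtinianRing_tsz [Module.Finite A M] : IsArtinianRing (TrivSqZeroExt A M) :=
  IsArtinianRing.of_finite A _

/-- the split square-zero extension `A ⊕ M` as an object -/
@[reducible] noncomputable def tszArt [Module.Finite A M] : Art k k :=
  { carrier := TrivSqZeroExt A M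
    res := A.res.comp (TrivSqZeroExt.fstHom k A M)
    res_surjective := fun c => by
      obtain ⟨a, ha⟩ := A.res_surjective c
      exact ⟨TrivSqZeroExt.inl a, by simp [ha]⟩ }

/-- the retraction `A ⊕ M → A` -/
noncomputable def tszFst [Module.Finite A M] : tszArt A M ⟶ A :=
  Art.homMk (TrivSqZeroExt.fstHom k A M) rfl

/-- the section `A → A ⊕ M` -/
noncomputable def tszInl [Module.Finite A M] : A ⟶ tszArt A M :=
  Art.homMk (TrivSqZeroExt.inlAlgHom k A M) (by ext a; simp)

theorem tszInl_tszFst [Module.Finite A M] : tszInl A M ≫ tszFst A M = 𝟙 A := by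
  apply Art.hom_ext
  apply AlgHom.ext
  intro a
  rfl

theorem ker_tszFst_mul [Module.Finite A M] :
    RingHom.ker (tszFst A M).toAlgHom * RingHom.ker (tszFst A M).toAlgHom = ⊥ := by
  have h := TrivSqZeroExt.kerIdeal_sq A M
  rw [pow_two] at h
  exact h

variable {M} {M' : Type u} [AddCommGroup M'] [Module A M'] [Module Aᵐᵒᵖ M'] [IsCentralScalar A M']
  [Module k M'] [IsScalarTower k A M'] [IsScalarTower k Aᵐᵒᵖ M']

/-- the map `A ⊕ M' → A ⊕ M` induced by a linear map -/
noncomputable def tszMap [Module.Finite A M] [Module.Finite A M'] (f : M' →ₗ[A] M) :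
    tszArt A M' ⟶ tszArt A M :=
  Art.homMk ((TrivSqZeroExt.map f).restrictScalars k) (by
    apply AlgHom.ext
    intro x
    show A.res (TrivSqZeroExt.fst (TrivSqZeroExt.map f x)) = A.res (TrivSqZeroExt.fst x)
    rw [TrivSqZeroExt.fst_map])

theorem tszMap_tszFst [Module.Finite A M] [Module.Finite A M'] (f : M' →ₗ[A] M) :
    tszMap A f ≫ tszFst A M = tszFst A M' := by
  apply Art.hom_ext
  apply AlgHom.ext
  intro x
  exact TrivSqZeroExt.fst_map f x

theorem tszInl_tszMap [Module.Finite A M] [Module.Finite A M'] (f : M' →ₗ[A] M) :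
    tszInl A M' ≫ tszMap A f = tszInl A M := by
  apply Art.hom_ext
  apply AlgHom.ext
  intro a
  exact TrivSqZeroExt.map_inl f a

theorem tszMap_surjective [Module.Finite A M] [Module.Finite A M'] (f : M' →ₗ[A] M)
    (hf : Function.Surjective f) : Function.Surjective (tszMap A f) := by
  intro x
  obtain ⟨y, hy⟩ := hf x.snd
  refine ⟨TrivSqZeroExt.inl x.fst + TrivSqZeroExt.inr y, ?_⟩
  show TrivSqZeroExt.map f _ = x
  apply TrivSqZeroExt.ext
  · simp
  · simp [hy]

end Tsz

instance finite_topQuot (m : ℕ) : Module.Finite (Tr k (m + 1)) (TopQuot k m) :=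
  inferInstanceAs (Module.Finite (Tr k (m + 1)) (Tr k (m + 1) ⧸ topIdeal k m))

attribute [local instance] isAdicComplete_field

/-- **The `T¹`-lifting theorem** for set-valued deformation functors in characteristic zero. -/
theorem isSmoothFunctor_of_T1_lifting [CharZero k] (F : Art k k ⥤ Type v) [TangentStr F]
    (h0 : H0 F) (hRS : RS F) (hfin : Hfin F)
    (hT1 : ∀ ⦃A A' A'' : Art k k⦄ (π' : A' ⟶ A) (i' : A ⟶ A') (π'' : A'' ⟶ A) (i'' : A ⟶ A'')
        (q : A'' ⟶ A'), i' ≫ π' = 𝟙 A → i'' ≫ π'' = 𝟙 A →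
        RingHom.ker π'.toAlgHom * RingHom.ker π'.toAlgHom = ⊥ →
        RingHom.ker π''.toAlgHom * RingHom.ker π''.toAlgHom = ⊥ →
        q ≫ π' = π'' → i'' ≫ q = i' → Function.Surjective q → Function.Surjective (F.map q)) :
    IsSmoothFunctor F := by
  have hk : Function.Surjective (algebraMap k k) := Function.surjective_id
  obtain ⟨⟨R, ξ, hu⟩⟩ := isProrepresentable_of_rs_hfin_injective h0 hRS hfin (by
    intro x₀ σ σ' _
    apply Art.hom_ext
    apply AlgHom.ext
    intro c
    have h1 : c = algebraMap k (base k k) c := rfl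
    rw [h1, AlgHom.commutes, AlgHom.commutes])
  obtain ⟨r, ⟨e⟩⟩ := exists_equiv_of_arc_tangent_lifting R (by
    intro m u
    let φ : HomSet R.carrier R.res (tszArt (trArt k m) (TopQuot k m)) :=
      ⟨(jay k m).comp u, res_unique hk _ _⟩
    have hq := hT1 (tszFst (trArt k m) (TopQuot k m)) (tszInl (trArt k m) (TopQuot k m))
      (tszFst (trArt k m) (Tr k (m + 1))) (tszInl (trArt k m) (Tr k (m + 1)))
      (tszMap (trArt k m) (topMk k m)) (tszInl_tszFst _ _) (tszInl_tszFst _ _)
      (ker_tszFst_mul _ _) (ker_tszFst_mul _ _) (tszMap_tszFst _ _) (tszInl_tszMap _ _)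
      (tszMap_surjective _ _ (topMk_surjective k m))
    obtain ⟨y, hy⟩ := hq (ξ.app _ φ)
    obtain ⟨ψ, rfl⟩ := (hu _).2 y
    rw [← ξ.natural] at hy
    have h2 := (hu _).1 hy
    refine ⟨ψ.1, fun r => ?_⟩
    have h1 : TrivSqZeroExt.map (topMk k m) (ψ.1 r) = jay k m (u r) :=
      AlgHom.congr_fun (congrArg Subtype.val h2) r
    rw [← h1]
    simp)
  have hsm : IsSmoothFunctor (hR R.carrier R.res) :=
    (isSmoothFunctor_hR_iff_powerSeries hk R).2 ⟨r, ⟨e⟩⟩
  intro B A μ hμ y
  obtain ⟨φ, rfl⟩ := (hu A).2 y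
  obtain ⟨ψ, hψ⟩ := hsm μ hμ φ
  refine ⟨ξ.app B ψ, ?_⟩
  rw [← ξ.natural]
  exact congrArg _ hψ

end Groth.Agent.Lib.Helper19.Arc
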