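import Groth.Agent.Lib.Helper19RegLift
import Groth.Agent.Lib.Helper19ComplDim
import Groth.Agent.Lib.Helper19RegPres

/-!
# Regularity and infinitesimal lifting for local algebras essentially of finite type (helper19)
-/

set_option autoImplicit false
universe u

open MvPowerSeries CategoryTheory ArtFun ArtFun.Art IsLocalRing
open scoped TensorProduct

namespace Groth.Agent.Lib.Helper19

section Aux

variable {k : Type u} [Field k]

/-- The kernel of an augmentation of a local `k`-algebra is the maximal ideal. -/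
lemma ker_res_eq_maximalIdeal {R : Type u} [CommRing R] [IsLocalRing R] [Algebra k R] (ρ : R →ₐ[k] k) :
    RingHom.ker ρ = maximalIdeal R := by
  have hmax : (RingHom.ker (ρ : R →+* k)).IsMaximal :=
    RingHom.ker_isMaximal_of_surjective (ρ : R →+* k) (res_surjective' ρ)
  exact IsLocalRing.eq_maximalIdeal hmax

instance subsingleton_punit_tensor (M : Type u) [AddCommGroup M] [Module k M] :
    Subsingleton (PUnit.{u + 1} ⊗[k] M) := by
  refine ⟨fun a b => ?_⟩
  have h0 : ∀ x : PUnit.{u + 1} ⊗[k] M, x = 0 := by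
    intro x
    induction x using TensorProduct.induction_on with
    | zero => rfl
    | tmul p m =>
      have : p = 0 := Subsingleton.elim _ _
      rw [this, TensorProduct.zero_tmul]
    | add x y hx hy => rw [hx, hy, add_zero]
  rw [h0 a, h0 b]

/-- Lifting algebra maps along a square-zero surjection of Artinian objects gives surjectivity of `h_R`. -/
lemma hR_map_surjective_of_lifting {A : Type u} [CommRing A] [Algebra k A] (resA : A →ₐ[k] k)
    {B C : Art k k} (μ : B ⟶ C) (hμs : Function.Surjective μ.toAlgHom)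
    (hlift : ∀ f : A →ₐ[k] B ⧸ RingHom.ker μ.toAlgHom,
      ∃ g : A →ₐ[k] B, (Ideal.Quotient.mkₐ k (RingHom.ker μ.toAlgHom)).comp g = f) :
    Function.Surjective ((hR A resA).map μ) := by
  intro φ
  let e := Ideal.quotientKerAlgEquivOfSurjective hμs
  let f : A →ₐ[k] B ⧸ RingHom.ker μ.toAlgHom := (e.symm : C →ₐ[k] _).comp φ.1
  obtain ⟨χ, hχ⟩ := hlift f
  have hμχ : ∀ r, μ (χ r) = φ.1 r := by
    intro r
    have h1 : Ideal.Quotient.mk _ (χ r) = e.symm (φ.1 r) := AlgHom.congr_fun hχ r
    have h2 := congrArg e h1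
    rw [Ideal.quotientKerAlgEquivOfSurjective_mk, AlgEquiv.apply_symm_apply] at h2
    exact h2
  refine ⟨⟨χ, ?_⟩, ?_⟩
  · apply AlgHom.ext
    intro r
    show B.res (χ r) = resA r
    rw [← Art.res_app μ, hμχ]
    exact AlgHom.congr_fun φ.2 r
  · apply Subtype.ext
    apply AlgHom.ext
    intro r
    exact hμχ r

lemma ker_sq_eq_bot_of_isSemismallExt {B C : Art k k} (p : B ⟶ C) (hp : IsSemismallExt p) :
    RingHom.ker p.toAlgHom ^ 2 = ⊥ := by
  rw [pow_two, eq_bot_iff, ← hp.2]
  apply Ideal.mul_mono_left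
  intro x hx
  rw [Art.mem_maximalIdeal_iff, ← Art.res_app p]
  have : p x = 0 := hx
  rw [this, map_zero]

/-- The trivial obstruction theory of an unobstructed functor of points. -/
noncomputable def obsTheoryOfLifting {A : Type u} [CommRing A] [Algebra k A] (resA : A →ₐ[k] k)
    (hlift : ∀ (B : Art k k) (J : Ideal B), J ^ 2 = ⊥ → ∀ f : A →ₐ[k] B ⧸ J,
      ∃ g : A →ₐ[k] B, (Ideal.Quotient.mkₐ k J).comp g = f) :
    ObsTheory (hR A resA) PUnit.{u + 1} where
  obs := fun _ _ _ => 0
  obs_eq_zero_iff := fun p hp u =>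
    ⟨fun _ => hR_map_surjective_of_lifting resA p hp.1
      (hlift _ _ (ker_sq_eq_bot_of_isSemismallExt p hp)) u, fun _ => rfl⟩
  obs_quot := fun _ _ _ _ _ _ _ => Subsingleton.elim _ _

end Aux

section Main

variable (k : Type u) [Field k] (A : Type u) [CommRing A] [IsLocalRing A] [Algebra k A]
  [Algebra.EssFiniteType k A]

include k in
lemma isNoetherianRing_of_essFiniteType : IsNoetherianRing A := by
  obtain ⟨P, _, _, _, g, hg⟩ := exists_regular_surj k A
  exact isNoetherianRing_of_surjective P A (g : P →+* A) hg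

/-- Unobstructedness implies regularity. -/
theorem isRegularLocalRing_of_lifting (resA : A →ₐ[k] k)
    (hlift : ∀ (B : Art k k) (J : Ideal B), J ^ 2 = ⊥ → ∀ f : A →ₐ[k] B ⧸ J,
      ∃ g : A →ₐ[k] B, (Ideal.Quotient.mkₐ k J).comp g = f) :
    IsRegularLocalRing A := by
  obtain ⟨P, _, _, _, g, hg, hker⟩ := exists_minimal_regular_surj k A
  have T := obsTheoryOfLifting resA hlift
  have h1 := spanFinrank_le_of_obsTheory_art (resA.comp g) (RingHom.ker g) hker resA g hg rfl
    (fun x => (RingHom.mem_ker (f := g)).symm) T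
  have h2 : Module.finrank k PUnit.{u + 1} = 0 := Module.finrank_zero_of_subsingleton
  rw [h2, Nat.le_zero] at h1
  have h3 : RingHom.ker g = ⊥ :=
    (Submodule.spanFinrank_eq_zero_iff_eq_bot (IsNoetherian.noetherian _)).1 h1
  have hinj : Function.Injective g := (RingHom.injective_iff_ker_eq_bot (g : P →+* A)).2 h3
  exact IsRegularLocalRing.of_ringEquiv (RingEquiv.ofBijective (g : P →+* A) ⟨hinj, hg⟩)

end Main

section Converse

variable {k : Type u} [Field k] {A : Type u} [CommRing A] [IsLocalRing A] [IsNoetherianRing A]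
  [Algebra k A]

instance isScalarTower_adicCompletion :
    IsScalarTower k A (AdicCompletion (maximalIdeal A) A) :=
  IsScalarTower.of_algebraMap_eq (fun _ => rfl)

/-- A regular Noetherian local `k`-algebra with residue field `k` satisfies the infinitesimal lifting
criterion against Artinian local test rings. -/
theorem lifting_of_isRegularLocalRing [IsRegularLocalRing A] (resA : A →ₐ[k] k)
    (R : Type u) [CommRing R] [Algebra k R] [IsArtinianRing R] [IsLocalRing R] (J : Ideal R)
    (hJ : J ^ 2 = ⊥) (f : A →ₐ[k] R ⧸ J) (hf : IsLocalHom (f : A →+* R ⧸ J)) :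
    ∃ g : A →ₐ[k] R, (Ideal.Quotient.mkₐ k J).comp g = f := by
  -- the completion
  haveI hreg : IsRegularLocalRing (AdicCompletion (maximalIdeal A) A) :=
    (isRegularLocalRing_adicCompletion_iff A).1 inferInstance
  have hresker : ∀ a ∈ maximalIdeal A, resA a = 0 := by
    intro a ha
    rw [← ker_res_eq_maximalIdeal resA] at ha
    exact ha
  let π : AdicCompletion (maximalIdeal A) A →ₐ[k] k :=
    (Ideal.Quotient.liftₐ (maximalIdeal A) resA hresker).comp
      ((AdicCompletion.evalOneₐ (maximalIdeal A)).restrictScalars k)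
  -- nilpotency
  obtain ⟨N, hN⟩ : ∃ N : ℕ, maximalIdeal R ^ N = ⊥ := by
    have h1 := IsArtinianRing.isNilpotent_jacobson_bot (R := R)
    rw [IsLocalRing.jacobson_eq_maximalIdeal ⊥ bot_ne_top] at h1
    obtain ⟨N, hN⟩ := h1
    exact ⟨N, hN⟩
  set 𝔫 : Ideal (R ⧸ J) := Ideal.map (Ideal.Quotient.mk J) (maximalIdeal R) with h𝔫def
  have hJtop : J ≠ ⊤ := by
    intro h
    rw [h, Ideal.top_pow] at hJ
    exact top_ne_bot hJ
  have h𝔫 : 𝔫 ≠ ⊤ := by
    intro h
    have h1 : (1 : R ⧸ J) ∈ 𝔫 := by rw [h]; trivial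
    rw [h𝔫def, Ideal.mem_map_iff_of_surjective _ Ideal.Quotient.mk_surjective] at h1
    obtain ⟨r, hr, hr1⟩ := h1
    have h2 : r - 1 ∈ J := by
      rw [← Ideal.Quotient.eq_zero_iff_mem, map_sub, hr1, map_one, sub_self]
    have h3 : r - 1 ∈ maximalIdeal R := IsLocalRing.le_maximalIdeal hJtop h2
    have h4 := Ideal.sub_mem _ hr h3
    rw [sub_sub_cancel] at h4
    exact (IsLocalRing.maximalIdeal.isMaximal R).ne_top ((Ideal.eq_top_iff_one _).2 h4)
  have hf𝔫 : ∀ a ∈ maximalIdeal A, f a ∈ 𝔫 := by
    intro a ha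
    obtain ⟨r, hr⟩ := Ideal.Quotient.mk_surjective (f a)
    have hrm : r ∈ maximalIdeal R := by
      rw [IsLocalRing.mem_maximalIdeal, mem_nonunits_iff]
      intro hu
      have h1 : IsUnit (f a) := by rw [← hr]; exact hu.map _
      exact (IsLocalRing.mem_maximalIdeal a).1 ha (hf.map_nonunit a h1)
    rw [← hr]
    exact Ideal.mem_map_of_mem _ hrm
  have h𝔫N : 𝔫 ^ N = ⊥ := by rw [h𝔫def, ← Ideal.map_pow, hN, Ideal.map_bot]
  have hkill : ∀ a ∈ maximalIdeal A ^ N, f a = 0 := by
    intro a ha
    have h1 : f a ∈ Ideal.map f (maximalIdeal A ^ N) := Ideal.mem_map_of_mem _ ha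
    rw [Ideal.map_pow] at h1
    have h2 : Ideal.map f (maximalIdeal A) ≤ 𝔫 := by
      rw [Ideal.map_le_iff_le_comap]
      exact fun a ha => hf𝔫 a ha
    have h3 := Ideal.pow_right_mono h2 N h1
    rwa [h𝔫N, Ideal.mem_bot] at h3
  let fbar : A ⧸ maximalIdeal A ^ N →ₐ[k] R ⧸ J := Ideal.Quotient.liftₐ (maximalIdeal A ^ N) f hkill
  let fhat : AdicCompletion (maximalIdeal A) A →ₐ[k] R ⧸ J :=
    fbar.comp ((AdicCompletion.evalₐ (maximalIdeal A) N).restrictScalars k)
  have hfhat : ∀ a : A, fhat (algebraMap A (AdicCompletion (maximalIdeal A) A) a) = f a := by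
    intro a
    show fbar (AdicCompletion.evalₐ (maximalIdeal A) N (AdicCompletion.of (maximalIdeal A) A a)) = f a
    rw [AdicCompletion.evalₐ_of]
    rfl
  have hfhatloc : IsLocalHom (fhat : AdicCompletion (maximalIdeal A) A →+* R ⧸ J) := by
    constructor
    intro x hx
    by_contra hnx
    have hxm : x ∈ maximalIdeal (AdicCompletion (maximalIdeal A) A) :=
      (IsLocalRing.mem_maximalIdeal x).2 hnx
    rw [AdicCompletion.maximalIdeal_eq_map] at hxm
    have hle : Ideal.map (algebraMap A (AdicCompletion (maximalIdeal A) A)) (maximalIdeal A) ≤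
        Ideal.comap (fhat : AdicCompletion (maximalIdeal A) A →+* R ⧸ J) 𝔫 := by
      rw [Ideal.map_le_iff_le_comap]
      intro a ha
      rw [Ideal.mem_comap, Ideal.mem_comap]
      show fhat (algebraMap A _ a) ∈ 𝔫
      rw [hfhat]
      exact hf𝔫 a ha
    have h1 : fhat x ∈ 𝔫 := hle hxm
    exact h𝔫 (Ideal.eq_top_of_isUnit_mem _ h1 hx)
  obtain ⟨ghat, hghat⟩ := (isRegularLocalRing_iff_lifting π (ker_res_eq_maximalIdeal π)).1 hreg
    R J hJ fhat hfhatloc
  refine ⟨ghat.comp (IsScalarTower.toAlgHom k A (AdicCompletion (maximalIdeal A) A)), ?_⟩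
  apply AlgHom.ext
  intro a
  have h1 := AlgHom.congr_fun hghat (algebraMap A (AdicCompletion (maximalIdeal A) A) a)
  rw [hfhat] at h1
  exact h1

end Converse

section AlgClosed

variable (k : Type u) [Field k] [IsAlgClosed k]
  (A : Type u) [CommRing A] [IsLocalRing A] [Algebra k A] [Algebra.EssFiniteType k A]

/-- Regularity of a local algebra essentially of finite type with residue field `k` (algebraically closed)
is equivalent to the infinitesimal lifting criterion against finite-dimensional local algebras. -/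
theorem isRegularLocalRing_iff_lifting_essFiniteType
    (hres : Function.Surjective (algebraMap k (IsLocalRing.ResidueField A))) :
    IsRegularLocalRing A ↔
      ∀ (B' : Type u) [CommRing B'] [IsLocalRing B'] [Algebra k B'] [Module.Finite k B']
        (J : Ideal B'), J ^ 2 = ⊥ → ∀ f : A →ₐ[k] B' ⧸ J,
          ∃ g : A →ₐ[k] B', (Ideal.Quotient.mkₐ k J).comp g = f := by
  haveI : IsNoetherianRing A := isNoetherianRing_of_essFiniteType k A
  have hR : Function.Surjective ((IsLocalRing.residue A).comp (algebraMap k A)) := hres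
  let resA : A →ₐ[k] k := resOfSurj hR
  constructor
  · intro hreg B' _ _ _ _ J hJ f
    haveI : IsArtinianRing B' := IsArtinianRing.of_finite k B'
    have hJtop : J ≠ ⊤ := by
      intro h
      rw [h, Ideal.top_pow] at hJ
      exact top_ne_bot hJ
    haveI : Nontrivial (B' ⧸ J) := Ideal.Quotient.nontrivial_iff.2 hJtop
    have hf : IsLocalHom (f : A →+* B' ⧸ J) := by
      constructor
      intro a ha
      by_contra hna
      have ham : a ∈ maximalIdeal A := (IsLocalRing.mem_maximalIdeal a).2 hna
      obtain ⟨c, hc⟩ := spectrum.nonempty_of_isAlgClosed_of_finiteDimensional k (f a)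
      rw [spectrum.mem_iff] at hc
      have hc0 : c ≠ 0 := by
        intro h0
        rw [h0, map_zero, zero_sub] at hc
        exact hc ha.neg
      have hu : IsUnit (algebraMap k A c - a) := by
        by_contra hnu
        have h1 : algebraMap k A c - a ∈ maximalIdeal A := (IsLocalRing.mem_maximalIdeal _).2 hnu
        have h2 := Ideal.add_mem _ h1 ham
        rw [sub_add_cancel] at h2
        have h3 : IsUnit (algebraMap k A c) := (IsUnit.mk0 c hc0).map _
        exact (IsLocalRing.mem_maximalIdeal _).1 h2 h3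
      have := hu.map f
      rw [map_sub, AlgHom.commutes] at this
      exact hc this
    exact lifting_of_isRegularLocalRing resA B' J hJ f hf
  · intro H
    apply isRegularLocalRing_of_lifting k A resA
    intro B J hJ f
    haveI : Module.Finite k B := finite_art B
    exact H B J hJ f

end AlgClosed

end Groth.Agent.Lib.Helper19
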