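import Groth.Agent.Lib.Helper19ComplNoeth
import Groth.Agent.Lib.Helper19Cotangent
import Groth.Agent.Lib.Helper19SmallExt
import Groth.Prelude.Def_ArtFun2
import Mathlib.RingTheory.Polynomial.Basic

set_option autoImplicit false
universe u v w

open CategoryTheory ArtFun ArtFun.Art

namespace Groth.Agent.Lib.Helper19

section AdicMax

variable {P : Type u} [CommRing P] (I : Ideal P)

/-- The kernel of the projection of the completion to `P/I^n`. -/
lemma ker_evalₐ_eq_map_pow (fg : I.FG) (n : ℕ) (x : AdicCompletion I P) :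
    AdicCompletion.evalₐ I n x = 0 ↔ x ∈ (I.map (algebraMap P (AdicCompletion I P))) ^ n := by
  have h : (I ^ n • ⊤ : Ideal P) = I ^ n := by ext y; simp
  have h1 : AdicCompletion.evalₐ I n x = 0 ↔ AdicCompletion.eval I P n x = 0 := by
    constructor
    · intro hx
      apply (Ideal.quotientEquivAlgOfEq P h).injective
      rw [map_zero]
      exact hx
    · intro hx
      change (Ideal.quotientEquivAlgOfEq P h) (AdicCompletion.eval I P n x) = 0
      rw [hx, map_zero]
  rw [h1, ← LinearMap.mem_ker, ← AdicCompletion.pow_smul_top_eq_ker_eval fg, Ideal.smul_top_eq_map,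
    Submodule.restrictScalars_mem, Ideal.map_pow]

/-- Two ring maps out of the completion which agree on `P` and kill a power of `I` agree. -/
lemma ringHom_ext_adicCompletion (fg : I.FG) {T : Type v} [CommRing T]
    (f g : AdicCompletion I P →+* T) (M : ℕ)
    (hf : ∀ x ∈ (I.map (algebraMap P (AdicCompletion I P))) ^ M, f x = 0)
    (hg : ∀ x ∈ (I.map (algebraMap P (AdicCompletion I P))) ^ M, g x = 0)
    (h : ∀ p : P, f (algebraMap P (AdicCompletion I P) p) = g (algebraMap P (AdicCompletion I P) p)) :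
    f = g := by
  apply RingHom.ext
  intro c
  obtain ⟨p, hp⟩ := Ideal.Quotient.mk_surjective (AdicCompletion.evalₐ I M c)
  have hd : c - algebraMap P (AdicCompletion I P) p ∈ (I.map (algebraMap P (AdicCompletion I P))) ^ M := by
    rw [← ker_evalₐ_eq_map_pow I fg, map_sub, AlgHom.commutes, ← hp]
    exact sub_self _
  have h1 := hf _ hd
  have h2 := hg _ hd
  rw [map_sub, sub_eq_zero] at h1 h2
  rw [h1, h2, h]

end AdicMax

section SmoothC

variable {Λ : Type u} {k : Type u} [CommRing Λ] [Field k] [Algebra Λ k] [IsNoetherianRing Λ]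
  [Module.Finite Λ k]

/-- There is a complete local Noetherian `Λ`-algebra with residue field `k` whose functor is smooth. -/
theorem exists_cring_isSmoothFunctor_hR : ∃ R : CRing Λ k, IsSmoothFunctor (hR R.carrier R.res) := by
  obtain ⟨t, y, hy⟩ := Module.Finite.exists_fin (R := Λ) (M := k)
  let π : MvPolynomial (Fin t) Λ →ₐ[Λ] k := MvPolynomial.aeval y
  have hπ : Function.Surjective π := by
    intro c
    have hc : c ∈ Submodule.span Λ (Set.range y) := hy ▸ Submodule.mem_top
    induction hc using Submodule.span_induction with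
    | mem x hx =>
      obtain ⟨j, rfl⟩ := hx
      exact ⟨MvPolynomial.X j, MvPolynomial.aeval_X y j⟩
    | zero => exact ⟨0, map_zero π⟩
    | add x x' _ _ hx hx' =>
      obtain ⟨p, rfl⟩ := hx
      obtain ⟨p', rfl⟩ := hx'
      exact ⟨p + p', map_add π p p'⟩
    | smul l x _ hx =>
      obtain ⟨p, rfl⟩ := hx
      exact ⟨l • p, map_smul π l p⟩
  let I : Ideal (MvPolynomial (Fin t) Λ) := RingHom.ker π
  have hImem : ∀ p, p ∈ I ↔ π p = 0 := fun p => RingHom.mem_ker
  haveI hImax : I.IsMaximal := RingHom.ker_isMaximal_of_surjective π hπ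
  have hfg : I.FG := IsNoetherian.noetherian I
  haveI hmCmax : (I.map (algebraMap (MvPolynomial (Fin t) Λ) (AdicCompletion I (MvPolynomial (Fin t) Λ)))).IsMaximal :=
    AdicCompletion.isMaximal_map_of_le I I le_rfl hfg
  haveI hcompl : IsAdicComplete (I.map (algebraMap (MvPolynomial (Fin t) Λ) (AdicCompletion I (MvPolynomial (Fin t) Λ))))
      (AdicCompletion I (MvPolynomial (Fin t) Λ)) := AdicCompletion.isAdicComplete_self I hfg
  haveI hloc : IsLocalRing (AdicCompletion I (MvPolynomial (Fin t) Λ)) :=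
    isLocalRing_of_isAdicComplete_maximal
      (I.map (algebraMap (MvPolynomial (Fin t) Λ) (AdicCompletion I (MvPolynomial (Fin t) Λ))))
  have hmC : IsLocalRing.maximalIdeal (AdicCompletion I (MvPolynomial (Fin t) Λ)) =
      I.map (algebraMap (MvPolynomial (Fin t) Λ) (AdicCompletion I (MvPolynomial (Fin t) Λ))) :=
    (IsLocalRing.eq_maximalIdeal hmCmax).symm
  haveI hnoeth : IsNoetherianRing (AdicCompletion I (MvPolynomial (Fin t) Λ)) :=
    isNoetherianRing_adicCompletion I
  -- the residue map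
  let πbar : (MvPolynomial (Fin t) Λ ⧸ I) →ₐ[Λ] k := Ideal.Quotient.liftₐ I π (fun a ha => ha)
  let res : AdicCompletion I (MvPolynomial (Fin t) Λ) →ₐ[Λ] k :=
    { toRingHom := (πbar : (MvPolynomial (Fin t) Λ ⧸ I) →+* k).comp
        (AdicCompletion.evalOneₐ I : AdicCompletion I (MvPolynomial (Fin t) Λ) →+* _)
      commutes' := fun l => by
        change πbar (AdicCompletion.evalOneₐ I (algebraMap Λ _ l)) = algebraMap Λ k l
        rw [AdicCompletion.algebraMap_apply, AdicCompletion.evalOneₐ_of]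
        exact π.commutes l }
  have hres_of : ∀ p : MvPolynomial (Fin t) Λ,
      res (algebraMap (MvPolynomial (Fin t) Λ) (AdicCompletion I (MvPolynomial (Fin t) Λ)) p) = π p := by
    intro p
    change πbar (AdicCompletion.evalOneₐ I (algebraMap _ _ p)) = π p
    rw [AlgHom.commutes]
    rfl
  have hres_surj : Function.Surjective res := by
    intro c
    obtain ⟨p, rfl⟩ := hπ c
    exact ⟨_, hres_of p⟩
  let R : CRing Λ k :=
    { carrier := AdicCompletion I (MvPolynomial (Fin t) Λ)
      res := res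
      res_surjective := hres_surj
      isAdicComplete := hmC ▸ hcompl }
  refine ⟨R, ?_⟩
  intro B A μ hμ φ
  -- restrict to the polynomial ring and lift
  let ι : MvPolynomial (Fin t) Λ →ₐ[Λ] AdicCompletion I (MvPolynomial (Fin t) Λ) :=
    IsScalarTower.toAlgHom Λ (MvPolynomial (Fin t) Λ) (AdicCompletion I (MvPolynomial (Fin t) Λ))
  have hι : ∀ p, ι p = algebraMap _ _ p := fun p => rfl
  choose b hb using fun j => hμ (φ.1 (ι (MvPolynomial.X j)))
  let ψ₀ : MvPolynomial (Fin t) Λ →ₐ[Λ] B := MvPolynomial.aeval b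
  have hμψ₀ : ∀ p, μ (ψ₀ p) = φ.1 (ι p) := by
    intro p
    have : (μ.toAlgHom.comp ψ₀) = φ.1.comp ι := by
      apply MvPolynomial.algHom_ext
      intro j
      rw [AlgHom.comp_apply, AlgHom.comp_apply, MvPolynomial.aeval_X]
      exact hb j
    exact AlgHom.congr_fun this p
  have hφres : ∀ c, A.res (φ.1 c) = res c := fun c => AlgHom.congr_fun φ.2 c
  have hresψ₀ : ∀ p, B.res (ψ₀ p) = π p := by
    intro p
    rw [← Art.res_app μ, hμψ₀, hφres, hι, hres_of]
  obtain ⟨N, hN⟩ := isNilpotent_maximalIdeal_of_artinian B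
  have hkill : ∀ a ∈ I ^ (N + 1), ψ₀ a = 0 := by
    intro a ha
    have h1 : Ideal.map ψ₀ I ≤ IsLocalRing.maximalIdeal B := by
      rw [Ideal.map_le_iff_le_comap]
      intro p hp
      rw [Ideal.mem_comap, Art.mem_maximalIdeal_iff, hresψ₀]
      exact (hImem p).1 hp
    have h2 : ψ₀ a ∈ Ideal.map ψ₀ (I ^ (N + 1)) := Ideal.mem_map_of_mem _ ha
    rw [Ideal.map_pow] at h2
    have h3 := Ideal.pow_le_pow_right (Nat.le_succ N) (Ideal.pow_right_mono h1 _ h2)
    rwa [hN, Ideal.zero_eq_bot, Ideal.mem_bot] at h3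
  let ψ₁ : (MvPolynomial (Fin t) Λ ⧸ I ^ (N + 1)) →ₐ[Λ] B := Ideal.Quotient.liftₐ (I ^ (N + 1)) ψ₀ hkill
  let ψ : AdicCompletion I (MvPolynomial (Fin t) Λ) →ₐ[Λ] B :=
    { toRingHom := (ψ₁ : (MvPolynomial (Fin t) Λ ⧸ I ^ (N + 1)) →+* B).comp
        (AdicCompletion.evalₐ I (N + 1) : AdicCompletion I (MvPolynomial (Fin t) Λ) →+* _)
      commutes' := fun l => by
        change ψ₁ (AdicCompletion.evalₐ I (N + 1) (algebraMap Λ _ l)) = algebraMap Λ B l
        rw [AdicCompletion.algebraMap_apply, AdicCompletion.evalₐ_of]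
        exact ψ₀.commutes l }
  have hψ_of : ∀ p, ψ (algebraMap _ _ p) = ψ₀ p := by
    intro p
    change ψ₁ (AdicCompletion.evalₐ I (N + 1) (algebraMap _ _ p)) = ψ₀ p
    rw [AlgHom.commutes]
    rfl
  have hψ_kill : ∀ x ∈ (I.map (algebraMap (MvPolynomial (Fin t) Λ)
      (AdicCompletion I (MvPolynomial (Fin t) Λ)))) ^ (N + 1), ψ x = 0 := by
    intro x hx
    change ψ₁ (AdicCompletion.evalₐ I (N + 1) x) = 0
    rw [(ker_evalₐ_eq_map_pow I hfg (N + 1) x).2 hx, map_zero]
  have hresψ : B.res.comp ψ = res := by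
    have h1 : ((B.res : B →+* k).comp (ψ : AdicCompletion I (MvPolynomial (Fin t) Λ) →+* B)) =
        (res : AdicCompletion I (MvPolynomial (Fin t) Λ) →+* k) := by
      apply ringHom_ext_adicCompletion I hfg _ _ (N + 1)
      · intro x hx
        change B.res (ψ x) = 0
        rw [hψ_kill x hx, map_zero]
      · intro x hx
        change res x = 0
        rw [← mem_maximalIdeal_iff_res res hres_surj, hmC]
        exact Ideal.pow_le_self (Nat.succ_ne_zero N) hx
      · intro p
        change B.res (ψ (algebraMap _ _ p)) = res (algebraMap _ _ p)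
        rw [hψ_of, hresψ₀, hres_of]
    apply AlgHom.ext
    intro c
    exact RingHom.congr_fun h1 c
  refine ⟨⟨ψ, hresψ⟩, ?_⟩
  obtain ⟨NA, hNA⟩ := isNilpotent_maximalIdeal_of_artinian A
  have h2 : ((μ.toAlgHom : B →+* A).comp (ψ : AdicCompletion I (MvPolynomial (Fin t) Λ) →+* B)) =
      (φ.1 : AdicCompletion I (MvPolynomial (Fin t) Λ) →+* A) := by
    apply ringHom_ext_adicCompletion I hfg _ _ (N + 1 + NA)
    · intro x hx
      change μ (ψ x) = 0
      rw [hψ_kill x (Ideal.pow_le_pow_right (Nat.le_add_right _ _) hx)]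
      exact map_zero μ.toAlgHom
    · intro x hx
      change φ.1 x = 0
      have hle : Ideal.map φ.1 (IsLocalRing.maximalIdeal (AdicCompletion I (MvPolynomial (Fin t) Λ))) ≤
          IsLocalRing.maximalIdeal A :=
        map_maximalIdeal_le res hres_surj A.res A.res_surjective φ.1 φ.2
      have h3 : φ.1 x ∈ Ideal.map φ.1
          ((IsLocalRing.maximalIdeal (AdicCompletion I (MvPolynomial (Fin t) Λ))) ^ (N + 1 + NA)) := by
        apply Ideal.mem_map_of_mem
        rw [hmC]
        exact hx
      rw [Ideal.map_pow] at h3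
      have h4 := Ideal.pow_le_pow_right (Nat.le_add_left NA (N + 1)) (Ideal.pow_right_mono hle _ h3)
      rwa [hNA, Ideal.zero_eq_bot, Ideal.mem_bot] at h4
    · intro p
      change μ (ψ (algebraMap _ _ p)) = φ.1 (algebraMap _ _ p)
      rw [hψ_of, hμψ₀, hι]
  apply Subtype.ext
  apply AlgHom.ext
  intro c
  exact RingHom.congr_fun h2 c

end SmoothC

end Groth.Agent.Lib.Helper19
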