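import Groth.Agent.Lib.Helper19ArcH
import Groth.Agent.Lib.Helper19RegEss
import Groth.Agent.Lib.Helper19SmoothC
import Groth.Agent.Lib.Helper19ComplExtend
import Groth.Agent.Lib.Helper19SqZeroComplete

/-!
# Regularity of a local algebra and lifting of curvilinear jets (helper19)
-/

set_option autoImplicit false
universe u v

open MvPowerSeries CategoryTheory ArtFun ArtFun.Art IsLocalRing

namespace Groth.Agent.Lib.Helper19.Arc

variable {k : Type u} [Field k]

/-- a complete local `k`-algebra all of whose curvilinear jets lift is a power series ring -/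
theorem exists_equiv_of_arc_lifting [Infinite k] (R : CRing k k)
    (H : ∀ (l : ℕ), 1 ≤ l → ∀ u : R.carrier →ₐ[k] Tr k l,
      ∃ ψ : R.carrier →ₐ[k] Tr k (l + 1), (trans l).comp ψ = u) :
    ∃ r : ℕ, Nonempty (R.carrier ≃ₐ[k] MvPowerSeries (Fin r) k) := by
  have hk : Function.Surjective (algebraMap k k) := Function.surjective_id
  obtain ⟨r, g, hg, hgs, hgk⟩ := exists_presentation_cring hk R
  let J : Ideal (MvPowerSeries (Fin r) k) := RingHom.ker g.toRingHom
  have hJ : J ≤ varsIdeal (Fin r) k ^ 2 := by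
    intro p hp
    have h1 := hgk p hp
    rw [relSq, IsLocalRing.maximalIdeal_eq_bot (R := k), Ideal.map_bot, sup_bot_eq,
      maximalIdeal_mvPowerSeries_eq] at h1
    exact h1
  have hJbot : J = ⊥ := by
    apply eq_bot_of_curvilinear_lifting r J hJ
    intro l hl φ hφJ hφnil
    have hker : RingHom.ker g.toRingHom ≤ RingHom.ker φ.toRingHom := fun p hp => hφJ p hp
    let u : R.carrier →ₐ[k] Tr k l := AlgHom.liftOfSurjective g hgs φ hker
    have hu : u.comp g = φ := AlgHom.liftOfSurjective_comp g hgs φ hker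
    obtain ⟨ψR, hψR⟩ := H l hl u
    refine ⟨ψR.comp g, ?_, ?_⟩
    · intro p hp
      have : g p = 0 := hp
      rw [AlgHom.comp_apply, this, map_zero]
    · rw [← AlgHom.comp_assoc, hψR, hu]
  have hinj : Function.Injective g := by
    rw [injective_iff_map_eq_zero]
    intro p hp
    have : p ∈ J := hp
    rwa [hJbot, Ideal.mem_bot] at this
  exact ⟨r, ⟨(AlgEquiv.ofBijective g ⟨hinj, hgs⟩).symm⟩⟩

section Aug

/-- algebra maps between augmented local `k`-algebras are compatible with the augmentations -/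
theorem aug_comp {R T : Type u} [CommRing R] [IsLocalRing R] [Algebra k R] [CommRing T] [Algebra k T]
    (ρ : R →ₐ[k] k) (τ : T →ₐ[k] k) (w : R →ₐ[k] T) : τ.comp w = ρ :=
  res_unique (Λ := k) Function.surjective_id _ _

theorem aug_map_maximalIdeal_le {R T : Type u} [CommRing R] [IsLocalRing R] [Algebra k R] [CommRing T]
    [IsLocalRing T] [Algebra k T] (ρ : R →ₐ[k] k) (τ : T →ₐ[k] k) (w : R →ₐ[k] T) :
    (maximalIdeal R).map w.toRingHom ≤ maximalIdeal T := by
  rw [Ideal.map_le_iff_le_comap]
  intro a ha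
  rw [Ideal.mem_comap, mem_maximalIdeal_iff_res τ (res_surjective' τ)]
  have h1 : τ (w a) = ρ a := AlgHom.congr_fun (aug_comp ρ τ w) a
  show τ (w a) = 0
  rw [h1]
  exact (mem_maximalIdeal_iff_res ρ (res_surjective' ρ) a).1 ha

theorem aug_isUnit_iff {R T : Type u} [CommRing R] [IsLocalRing R] [Algebra k R] [CommRing T]
    [IsLocalRing T] [Algebra k T] (ρ : R →ₐ[k] k) (τ : T →ₐ[k] k) (w : R →ₐ[k] T) (a : R) :
    IsUnit (w a) ↔ IsUnit a := by
  constructor
  · intro h
    by_contra hna
    have ha : a ∈ maximalIdeal R := (IsLocalRing.mem_maximalIdeal a).2 hna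
    have h1 : w a ∈ maximalIdeal T := aug_map_maximalIdeal_le ρ τ w (Ideal.mem_map_of_mem _ ha)
    exact (IsLocalRing.mem_maximalIdeal _).1 h1 h
  · intro h
    exact h.map w

theorem aug_kills_pow {R T : Type u} [CommRing R] [IsLocalRing R] [Algebra k R] [CommRing T]
    [IsLocalRing T] [Algebra k T] (ρ : R →ₐ[k] k) (τ : T →ₐ[k] k) (w : R →ₐ[k] T) (N : ℕ)
    (hN : maximalIdeal T ^ N = ⊥) : ∀ x ∈ maximalIdeal R ^ N, w x = 0 := by
  intro x hx
  have h1 : w x ∈ ((maximalIdeal R) ^ N).map w.toRingHom := Ideal.mem_map_of_mem _ hx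
  rw [Ideal.map_pow] at h1
  have h2 := Ideal.pow_right_mono (aug_map_maximalIdeal_le ρ τ w) N h1
  rwa [hN, Ideal.mem_bot] at h2

end Aug

section LocalVersion

attribute [local instance] isAdicComplete_field

variable (L : Type u) [CommRing L] [IsLocalRing L] [IsNoetherianRing L] [Algebra k L]

/-- a Noetherian local `k`-algebra with residue field `k` all of whose curvilinear jets lift is
regular -/
theorem isRegularLocalRing_of_arc_lifting [Infinite k] (resL : L →ₐ[k] k)
    (H : ∀ (m : ℕ) (u : L →ₐ[k] Tr k (m + 1)),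
      ∃ ψ : L →ₐ[k] Tr k (m + 1 + 1), (trans (m + 1)).comp ψ = u) :
    IsRegularLocalRing L := by
  have fg : (maximalIdeal L).FG := (maximalIdeal L).fg_of_isNoetherianRing
  -- the augmentation of the completion
  obtain ⟨π, hπ⟩ := exists_algHom_adicCompletion (maximalIdeal L) (maximalIdeal k) resL (by
    rw [Ideal.map_le_iff_le_comap]
    intro a ha
    rw [Ideal.mem_comap, IsLocalRing.maximalIdeal_eq_bot (R := k), Ideal.mem_bot]
    exact (mem_maximalIdeal_iff_res resL (res_surjective' resL) a).1 ha)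
  let R : CRing k k :=
    { carrier := AdicCompletion (maximalIdeal L) L
      res := π
      res_surjective := res_surjective' π
      isAdicComplete := inferInstance }
  let ι : L →ₐ[k] AdicCompletion (maximalIdeal L) L :=
    IsScalarTower.toAlgHom k L (AdicCompletion (maximalIdeal L) L)
  obtain ⟨r, ⟨e⟩⟩ := exists_equiv_of_arc_lifting R (by
    intro l hl u
    obtain ⟨m, rfl⟩ : ∃ m, l = m + 1 := ⟨l - 1, by omega⟩
    obtain ⟨ψL, hψL⟩ := H m (u.comp ι)
    obtain ⟨N, hN⟩ := isNilpotent_maximalIdeal_of_artinian (Tr k (m + 1 + 1))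
    obtain ⟨N', hN'⟩ := isNilpotent_maximalIdeal_of_artinian (Tr k (m + 1))
    haveI : IsAdicComplete (maximalIdeal (Tr k (m + 1 + 1))) (Tr k (m + 1 + 1)) :=
      isAdicComplete_of_pow_eq_bot _ N hN
    obtain ⟨ψh, hψh⟩ := exists_algHom_adicCompletion (maximalIdeal L)
      (maximalIdeal (Tr k (m + 1 + 1))) ψL
      (aug_map_maximalIdeal_le resL (trRes k (m + 1)) ψL)
    refine ⟨ψh, ?_⟩
    have hmax : maximalIdeal (AdicCompletion (maximalIdeal L) L) =
        (maximalIdeal L).map (algebraMap L (AdicCompletion (maximalIdeal L) L)) :=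
      AdicCompletion.maximalIdeal_eq_map
    have hext := ringHom_ext_adicCompletion (maximalIdeal L) fg
      (((trans (m + 1)).comp ψh : AdicCompletion (maximalIdeal L) L →ₐ[k] Tr k (m + 1)) :
        AdicCompletion (maximalIdeal L) L →+* Tr k (m + 1))
      (u : AdicCompletion (maximalIdeal L) L →+* Tr k (m + 1)) N'
      (by
        rw [← hmax]
        exact aug_kills_pow π (trRes k m) ((trans (m + 1)).comp ψh) N' hN')
      (by
        rw [← hmax]
        exact aug_kills_pow π (trRes k m) u N' hN')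
      (by
        intro p
        show trans (m + 1) (ψh (AdicCompletion.of (maximalIdeal L) L p)) = u (ι p)
        rw [hψh]
        exact AlgHom.congr_fun hψL p)
    apply AlgHom.ext
    intro x
    exact RingHom.congr_fun hext x)
  haveI : IsRegularLocalRing (AdicCompletion (maximalIdeal L) L) :=
    IsRegularLocalRing.of_ringEquiv e.symm.toRingEquiv
  exact (isRegularLocalRing_adicCompletion_iff L).2 inferInstance

end LocalVersion

end Groth.Agent.Lib.Helper19.Arc
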