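import Groth.Agent.Lib.Helper19ArcI

/-!
# Regularity at a closed point of a variety and lifting of curvilinear jets (helper19)
-/

set_option autoImplicit false
universe u v

open MvPowerSeries CategoryTheory ArtFun ArtFun.Art IsLocalRing

namespace Groth.Agent.Lib.Helper19.Arc

section Point

variable (k : Type u) [Field k] (A : Type u) [CommRing A] [Algebra k A]
  (m : Ideal A) [m.IsMaximal]

/-- Nullstellensatz: a closed point of a variety over an algebraically closed field is rational -/
theorem exists_res_of_isMaximal [IsAlgClosed k] [Algebra.FiniteType k A] :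
    ∃ ρ : A →ₐ[k] k, ∀ a, ρ a = 0 ↔ a ∈ m := by
  letI := Ideal.Quotient.field m
  haveI : Module.Finite k (A ⧸ m) := finite_of_finite_type_of_isJacobsonRing k (A ⧸ m)
  have hb : Function.Bijective (algebraMap k (A ⧸ m)) :=
    IsAlgClosed.algebraMap_bijective_of_isIntegral
  let e : k ≃ₐ[k] A ⧸ m := AlgEquiv.ofBijective (Algebra.ofId k (A ⧸ m)) hb
  refine ⟨(e.symm : (A ⧸ m) →ₐ[k] k).comp (Ideal.Quotient.mkₐ k m), fun a => ?_⟩
  rw [AlgHom.comp_apply]
  show e.symm (Ideal.Quotient.mk m a) = 0 ↔ a ∈ m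
  rw [map_eq_zero_iff _ e.symm.injective, Ideal.Quotient.eq_zero_iff_mem]

variable {k A}

/-- extending an algebra map to the localization at a maximal ideal -/
theorem exists_lift_localization {T : Type u} [CommRing T] [Algebra k T] (φ : A →ₐ[k] T)
    (hφ : ∀ s, s ∉ m → IsUnit (φ s)) :
    ∃ φL : Localization.AtPrime m →ₐ[k] T,
      ∀ a, φL (algebraMap A (Localization.AtPrime m) a) = φ a := by
  have hf : ∀ y : m.primeCompl, IsUnit (φ y) := fun y => hφ y y.2
  refine ⟨IsLocalization.liftAlgHom (M := m.primeCompl) (f := φ) hf, fun a => ?_⟩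
  rw [IsLocalization.liftAlgHom_apply]
  exact IsLocalization.lift_eq _ a

/-- an augmentation vanishing on `m` has kernel `m` -/
theorem aug_eq_zero_iff (χ : A →ₐ[k] k) (hχ : ∀ a ∈ m, χ a = 0) (a : A) : χ a = 0 ↔ a ∈ m := by
  have hle : m ≤ RingHom.ker χ.toRingHom := fun a ha => hχ a ha
  have hne : RingHom.ker χ.toRingHom ≠ ⊤ := RingHom.ker_ne_top _
  have heq : m = RingHom.ker χ.toRingHom := (‹m.IsMaximal›.eq_of_le hne hle)
  constructor
  · intro h
    rw [heq]
    exact h
  · intro h
    exact hχ a h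

end Point

section Main

theorem isNilpotent_tr_iff {k : Type u} [Field k] (j : ℕ) (x : Tr k (j + 1)) :
    IsNilpotent x ↔ trRes k j x = 0 := by
  constructor
  · intro h
    exact (h.map (trRes k j)).eq_zero
  · intro h
    have hx : x ∈ maximalIdeal (Tr k (j + 1)) :=
      (mem_maximalIdeal_iff_res (trRes k j) (trRes_surjective j) x).2 h
    obtain ⟨N, hN⟩ := isNilpotent_maximalIdeal_of_artinian (Tr k (j + 1))
    refine ⟨N, ?_⟩
    have h1 := Ideal.pow_mem_pow hx N
    rw [hN] at h1
    exact h1

theorem trans_surjective {k : Type u} [Field k] (l : ℕ) : Function.Surjective (trans (k := k) l) := by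
  intro y
  obtain ⟨g, rfl⟩ := Ideal.Quotient.mk_surjective y
  exact ⟨Ideal.Quotient.mk _ g, rfl⟩

theorem ker_trans_sq {k : Type u} [Field k] (j : ℕ) :
    RingHom.ker (trans (k := k) (j + 1)) ^ 2 = ⊥ := by
  rw [ker_trans, Ideal.span_singleton_pow, Ideal.span_singleton_pow, ← pow_mul]
  have h : tt k (j + 1 + 1) ^ ((j + 1) * 2) = 0 := by
    have e : (j + 1) * 2 = (j + 1 + 1) + j := by ring
    rw [e, pow_add, tt_pow_self, zero_mul]
  rw [h]
  exact Ideal.span_singleton_eq_bot.2 rfl

variable (k : Type u) [Field k] [IsAlgClosed k] (A : Type u) [CommRing A] [Algebra k A]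
  [Algebra.FiniteType k A] (m : Ideal A) [m.IsMaximal]

/-- a closed point of a variety over an algebraically closed field is a regular point iff curvilinear
jets through the point lift -/
theorem isRegularLocalRing_localization_iff_jets :
    IsRegularLocalRing (Localization.AtPrime m) ↔
      ∀ (l : ℕ), 1 ≤ l → ∀ (φ : A →ₐ[k] Tr k l), (∀ a ∈ m, IsNilpotent (φ a)) →
          ∃ ψ : A →ₐ[k] Tr k (l + 1), (trans l).comp ψ = φ := by
  haveI : IsNoetherianRing A := Algebra.FiniteType.isNoetherianRing k A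
  haveI : IsNoetherianRing (Localization.AtPrime m) :=
    IsLocalization.isNoetherianRing m.primeCompl _ inferInstance
  obtain ⟨ρ, hρ⟩ := exists_res_of_isMaximal k A m
  obtain ⟨resL, hresL⟩ := exists_lift_localization m ρ (fun s hs => by
    rw [isUnit_iff_ne_zero]
    intro h
    exact hs ((hρ s).1 h))
  let ι : A →ₐ[k] Localization.AtPrime m := Algebra.algHom k A _
  have hι : ∀ a, ι a = algebraMap A (Localization.AtPrime m) a := fun a => rfl
  constructor
  · intro hreg l hl φ hφ
    obtain ⟨j, rfl⟩ : ∃ j, l = j + 1 := ⟨l - 1, by omega⟩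
    have hχ : ∀ a, (trRes k j) (φ a) = 0 ↔ a ∈ m :=
      aug_eq_zero_iff m ((trRes k j).comp φ) (fun a ha => (isNilpotent_tr_iff j _).1 (hφ a ha))
    obtain ⟨φL, hφL⟩ := exists_lift_localization m φ (fun s hs => by
      by_contra hu
      have h1 : φ s ∈ maximalIdeal (Tr k (j + 1)) := (IsLocalRing.mem_maximalIdeal _).2 hu
      rw [mem_maximalIdeal_iff_res (trRes k j) (trRes_surjective j)] at h1
      exact hs ((hχ s).1 h1))
    let e := Ideal.quotientKerAlgEquivOfSurjective (trans_surjective (k := k) (j + 1))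
    let f : Localization.AtPrime m →ₐ[k] Tr k (j + 1 + 1) ⧸ RingHom.ker (trans (k := k) (j + 1)) :=
      (e.symm : Tr k (j + 1) →ₐ[k] _).comp φL
    have hf : IsLocalHom
        (f : Localization.AtPrime m →+* Tr k (j + 1 + 1) ⧸ RingHom.ker (trans (k := k) (j + 1))) := by
      constructor
      intro a ha
      have h1 : IsUnit (e (f a)) := ha.map e
      have h2 : e (f a) = φL a := AlgEquiv.apply_symm_apply e (φL a)
      rw [h2] at h1
      exact (aug_isUnit_iff resL (trRes k j) φL a).1 h1
    obtain ⟨g, hg⟩ := lifting_of_isRegularLocalRing resL (Tr k (j + 1 + 1))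
      (RingHom.ker (trans (k := k) (j + 1))) (ker_trans_sq j) f hf
    refine ⟨g.comp ι, ?_⟩
    apply AlgHom.ext
    intro a
    have h1 : Ideal.Quotient.mk _ (g (ι a)) = e.symm (φL (ι a)) := AlgHom.congr_fun hg (ι a)
    have h2 := congrArg e h1
    rw [Ideal.quotientKerAlgEquivOfSurjective_mk, AlgEquiv.apply_symm_apply, hι, hφL] at h2
    exact h2
  · intro H
    apply isRegularLocalRing_of_arc_lifting _ resL
    intro j u
    have hφnil : ∀ a ∈ m, IsNilpotent ((u.comp ι) a) := by
      intro a ha
      rw [isNilpotent_tr_iff]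
      have h1 : trRes k j (u (ι a)) = resL (ι a) :=
        AlgHom.congr_fun (aug_comp resL (trRes k j) u) (ι a)
      show trRes k j (u (ι a)) = 0
      rw [h1, hι, hresL]
      exact (hρ a).2 ha
    obtain ⟨ψ, hψ⟩ := H (j + 1) (by omega) (u.comp ι) hφnil
    obtain ⟨ψL, hψL⟩ := exists_lift_localization m ψ (fun s hs => by
      have h1 : trans (j + 1) (ψ s) = u (ι s) := AlgHom.congr_fun hψ s
      have h2 : IsUnit (u (ι s)) :=
        (IsLocalization.map_units (Localization.AtPrime m) (⟨s, hs⟩ : m.primeCompl)).map u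
      rw [← h1] at h2
      exact (aug_isUnit_iff (trRes k (j + 1)) (trRes k j) (trans (j + 1)) (ψ s)).1 h2)
    refine ⟨ψL, ?_⟩
    apply IsLocalization.algHom_ext m.primeCompl
    apply AlgHom.ext
    intro a
    show trans (j + 1) (ψL (algebraMap A _ a)) = u (algebraMap A _ a)
    rw [hψL]
    exact AlgHom.congr_fun hψ a

end Main

end Groth.Agent.Lib.Helper19.Arc
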