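import Groth.Prelude.Def_ArtFun3
import Groth.Prelude.Def_ArtFun5
import Groth.Agent.Lib.Helper19Length
import Mathlib.RingTheory.LocalRing.Pullback
import Mathlib.RingTheory.Artinian.Ring
import Mathlib.RingTheory.HopkinsLevitzki

set_option autoImplicit false
universe u v w

open CategoryTheory ArtFun ArtFun.Art

namespace Groth.Agent.Lib.Helper19

section Residue

variable {Λ : Type u} {k : Type u} [CommRing Λ] [Field k] [Algebra Λ k]

/-- If the field `k` is module-finite over `Λ` then it has finite length over `Λ`. -/
theorem isFiniteLength_residue [Module.Finite Λ k] : IsFiniteLength Λ k := by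
  let R0 : Subalgebra Λ k := ⊥
  haveI : Module.Finite R0 k := Module.Finite.of_restrictScalars_finite Λ R0 k
  haveI : Algebra.IsIntegral R0 k := inferInstance
  have hF : IsField R0 :=
    isField_of_isIntegral_of_isField (R := R0) (S := k) Subtype.val_injective (Field.toIsField k)
  letI : Field R0 := hF.toField
  have h1 : IsFiniteLength R0 k := by
    rw [isFiniteLength_iff_isNoetherian_isArtinian]
    exact ⟨inferInstance, inferInstance⟩
  have hsurj : Function.Surjective (algebraMap Λ R0) := by
    rintro ⟨x, hx⟩
    obtain ⟨r, rfl⟩ := Algebra.mem_bot.1 hx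
    exact ⟨r, rfl⟩
  rw [← Module.length_ne_top_iff] at h1 ⊢
  rwa [Module.length_eq_of_surjective hsurj]

end Residue

section ArtObj

variable {Λ : Type u} {k : Type u} [CommRing Λ] [Field k] [Algebra Λ k]

/-- The algebra structure `A → k` given by the augmentation (not an instance). -/
@[reducible] def resAlgebra (A : Art Λ k) : Algebra A k := (A.res : A →+* k).toAlgebra

theorem isFiniteLength_art [Module.Finite Λ k] (A : Art Λ k) : IsFiniteLength Λ A := by
  letI := resAlgebra A
  have : IsScalarTower Λ A k := IsScalarTower.of_algebraMap_eq (fun r => (A.res.commutes r).symm)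
  have h := length_restrict (Λ := Λ) (k := k) A A.res_surjective A
  have hk : Module.length Λ k ≠ ⊤ := Module.length_ne_top_iff.2 isFiniteLength_residue
  have hA : Module.length A A ≠ ⊤ := Module.length_ne_top
  rw [← Module.length_ne_top_iff, ← h]
  exact WithTop.mul_ne_top hk hA

theorem isArtinian_art [Module.Finite Λ k] (A : Art Λ k) : IsArtinian Λ A :=
  ((isFiniteLength_iff_isNoetherian_isArtinian).1 (isFiniteLength_art A)).2

theorem isNoetherian_art [Module.Finite Λ k] (A : Art Λ k) : IsNoetherian Λ A :=
  ((isFiniteLength_iff_isNoetherian_isArtinian).1 (isFiniteLength_art A)).1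

theorem finite_art [Module.Finite Λ k] (A : Art Λ k) : Module.Finite Λ A :=
  haveI := isNoetherian_art A
  inferInstance

/-- A bijective morphism of `Art Λ k` is an isomorphism. -/
theorem isIso_of_bijective {A B : Art Λ k} (f : A ⟶ B) (hf : Function.Bijective f) : IsIso f := by
  let e : A ≃ₐ[Λ] B := AlgEquiv.ofBijective f.toAlgHom hf
  have he : ∀ b, f (e.symm b) = b := fun b => e.apply_symm_apply b
  refine ⟨⟨⟨(e.symm : B →ₐ[Λ] A), ?_⟩, ?_, ?_⟩⟩
  · apply AlgHom.ext
    intro b
    change A.res (e.symm b) = B.res b
    rw [← he b, Art.res_app, he b]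
  · apply hom_ext
    apply AlgHom.ext
    intro a
    exact e.symm_apply_apply a
  · apply hom_ext
    apply AlgHom.ext
    intro b
    exact e.apply_symm_apply b

theorem bijective_of_isIso {A B : Art Λ k} (f : A ⟶ B) [IsIso f] : Function.Bijective f := by
  refine ⟨fun a a' h => ?_, fun b => ⟨inv f b, ?_⟩⟩
  · have := congrArg (inv f) h
    rwa [← Art.comp_apply, ← Art.comp_apply, IsIso.hom_inv_id] at this
  · rw [← Art.comp_apply, IsIso.inv_hom_id]; rfl

end ArtObj

end Groth.Agent.Lib.Helper19
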