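import Mathlib
import Groth.Agent.Lib.Helper5RLR3
import Groth.Agent.Lib.Helper5CM2

/-!
# In a regular local ring, each member of a system of parameters is regular modulo the others
-/

set_option autoImplicit false
universe u

namespace Groth.Agent.Lib.Helper19SopRegular

open IsLocalRing Module RingTheory.Sequence

variable {A : Type u} [CommRing A] [IsRegularLocalRing A]

theorem ringKrullDim_quotient_eq_zero (I : Ideal A) (hI : I ≠ ⊤)
    (hrad : maximalIdeal A ≤ I.radical) : ringKrullDim (A ⧸ I) = 0 := by
  have : Nontrivial (A ⧸ I) := Ideal.Quotient.nontrivial_iff.mpr hI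
  rw [← ringKrullDimZero_iff_ringKrullDim_eq_zero,
    Ideal.krullDimLE_zero_quotient_iff_forall_minimalPrimes_isMaximal]
  intro J hJ
  have hJp : J.IsPrime := hJ.1.1
  have hIJ : I ≤ J := hJ.1.2
  have h1 : maximalIdeal A ≤ J := hrad.trans (hJp.radical_le_iff.mpr hIJ)
  have h2 : J = maximalIdeal A :=
    ((maximalIdeal.isMaximal A).eq_of_le hJp.ne_top h1).symm
  rw [h2]; exact maximalIdeal.isMaximal A

theorem regular_mod_others (n : ℕ) (hn : ringKrullDim A = n)
    (f : Fin n → A) (hm : ∀ i, f i ∈ maximalIdeal A)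
    (hrad : maximalIdeal A ≤ (Ideal.span (Set.range f)).radical) (i0 : Fin n) (x : A)
    (hx : f i0 * x ∈ Ideal.span (f '' {j | j ≠ i0})) : x ∈ Ideal.span (f '' {j | j ≠ i0}) := by
  have hNoeth : IsNoetherianRing A := inferInstance
  obtain ⟨m, rfl⟩ : ∃ m, n = m + 1 := ⟨n - 1, by have := i0.2; omega⟩
  let e : Fin (m + 1) ≃ Fin (m + 1) := Equiv.swap i0 (Fin.last m)
  let f' : Fin (m + 1) → A := f ∘ e
  let ys : List A := List.ofFn (fun i : Fin m => f' i.castSucc)
  let xs : List A := ys ++ [f i0]
  have hxs : xs = List.ofFn f' := by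
    rw [List.ofFn_succ', List.concat_eq_append]
    have : f' (Fin.last m) = f i0 := by simp [f', e]
    rw [this]
  have hys_ideal : Ideal.ofList ys = Ideal.span (f '' {j | j ≠ i0}) := by
    rw [Groth.Agent.Lib.Helper5.ofList_ofFn_eq_span_range]
    congr 1
    ext a
    constructor
    · rintro ⟨i, rfl⟩
      refine ⟨e i.castSucc, ?_, rfl⟩
      intro h
      have h1 : e (e i.castSucc) = e i0 := congrArg e h
      simp only [e, Equiv.swap_apply_self, Equiv.swap_apply_left] at h1
      exact (Fin.castSucc_lt_last i).ne h1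
    · rintro ⟨j, hj, rfl⟩
      have hne : e j ≠ Fin.last m := by
        intro h
        have h1 : e (e j) = e (Fin.last m) := congrArg e h
        simp only [e, Equiv.swap_apply_self, Equiv.swap_apply_right] at h1
        exact hj h1
      refine ⟨(e j).castPred hne, ?_⟩
      simp [f', e]
  have hxs_ideal : Ideal.ofList xs = Ideal.span (Set.range f) := by
    rw [hxs, Groth.Agent.Lib.Helper5.ofList_ofFn_eq_span_range]
    congr 1
    exact EquivLike.range_comp f e
  have hxs_len : xs.length = m + 1 := by rw [hxs, List.length_ofFn]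
  have hmem : ∀ y ∈ xs, y ∈ maximalIdeal A := by
    intro y hy
    rw [hxs] at hy
    obtain ⟨i, rfl⟩ := (List.mem_ofFn' f' y).mp hy
    exact hm _
  have hCM : LocCoh.IsCohenMacaulayModule A A :=
    (Groth.Agent.Lib.Helper5.isCohenMacaulayLocalRing_of_isRegularLocalRing A).supportDim_eq_depth
  have hItop : Ideal.span (Set.range f) ≠ ⊤ := by
    intro h
    have : Ideal.span (Set.range f) ≤ maximalIdeal A := by
      rw [Ideal.span_le]; rintro _ ⟨i, rfl⟩; exact hm i
    rw [h] at this
    exact (maximalIdeal.isMaximal A).ne_top (top_le_iff.mp this)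
  have hdim0 : Module.supportDim A (A ⧸ (Ideal.ofList xs • (⊤ : Submodule A A))) = 0 := by
    have h1 : (Ideal.ofList xs • (⊤ : Submodule A A)) = Ideal.span (Set.range f) := by
      rw [hxs_ideal]
      exact Ideal.mul_top _
    rw [Module.supportDim_eq_of_equiv (Submodule.quotEquivOfEq _ _ h1),
      Module.supportDim_quotient_eq_ringKrullDim]
    exact ringKrullDim_quotient_eq_zero _ hItop hrad
  have hreg : IsWeaklyRegular A xs := by
    refine ((Groth.Agent.Lib.Helper5.isWeaklyRegular_iff_of_isCohenMacaulayModule xs A hCM hmem).1).mpr ?_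
    rw [hdim0, Module.supportDim_self_eq_ringKrullDim, hn, hxs_len, zero_add]
  rw [isWeaklyRegular_iff_Fin] at hreg
  have hlen : ys.length < xs.length := by simp [xs]
  have h1 := hreg ⟨ys.length, hlen⟩
  have htake : xs.take ys.length = ys := by simp [xs]
  have hget : xs[ys.length] = f i0 := by simp [xs]
  simp only [Fin.getElem_fin] at h1
  rw [hget, htake] at h1
  have hJ : (Ideal.ofList ys • (⊤ : Submodule A A)) = Ideal.span (f '' {j | j ≠ i0}) := by
    rw [hys_ideal]; exact Ideal.mul_top _
  have h2 : (Submodule.Quotient.mk x : A ⧸ (Ideal.ofList ys • (⊤ : Submodule A A))) = 0 := by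
    apply h1
    simp only [smul_zero]
    rw [← Submodule.Quotient.mk_smul, Submodule.Quotient.mk_eq_zero, hJ]
    exact hx
  rw [Submodule.Quotient.mk_eq_zero, hJ] at h2
  exact h2

end Groth.Agent.Lib.Helper19SopRegular
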