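import Groth.Agent.Lib.Helper28LocLoc
import Groth.Agent.Lib.Helper5RLR3

/-!
# Hypersurfaces in regular rings are Cohen–Macaulay (helper28)

* `ringKrullDim_eq_depth_quotient_span_singleton`: `R/(x)` is CM for a CM local domain `R`;
* `localizationQuotientEquiv`: `(A/I)_q ≃ A_p / I A_p`;
* `depth_localization_quotient_span_singleton_eq_height`: `depth (A/(f))_q = ht q` for `A` with
  regular local rings (uses helper5's regular ⇒ domain, Cohen–Macaulay).
-/

set_option autoImplicit false
universe u v w u' v'

namespace Groth.Agent.Lib.Helper28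
open RingTheory.Sequence CategoryTheory Abelian TensorProduct
open scoped Pointwise

section CMQuotRing

variable {R : Type u} [CommRing R] [IsNoetherianRing R] [IsLocalRing R]

/-- Quotient of a Cohen–Macaulay local domain by one element of the maximal ideal is
Cohen–Macaulay: `dim = depth`. -/
theorem ringKrullDim_eq_depth_quotient_span_singleton [IsDomain R]
    (hR : LocCoh.IsCohenMacaulayModule R R) (x : R) (hx : x ∈ IsLocalRing.maximalIdeal R)
    [IsLocalRing (R ⧸ Ideal.span {x})] :
    ringKrullDim (R ⧸ Ideal.span {x}) =
      ((LocCoh.depth (R ⧸ Ideal.span {x}) (R ⧸ Ideal.span {x}) : ℕ∞) : WithBot ℕ∞) := by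
  have hlochom : IsLocalHom (algebraMap R (R ⧸ Ideal.span {x})) :=
    IsLocalHom.of_surjective _ Ideal.Quotient.mk_surjective
  rw [← depth_eq_depth_of_isLocalHom_of_finite (A := R) (B := R ⧸ Ideal.span {x})
    (M := R ⧸ Ideal.span {x}), ← Module.supportDim_quotient_eq_ringKrullDim]
  by_cases hx0 : x = 0
  · subst hx0
    have hbot : Ideal.span ({0} : Set R) = ⊥ := Ideal.span_singleton_eq_bot.mpr rfl
    let e : R ≃ₗ[R] (R ⧸ Ideal.span ({0} : Set R)) :=
      (Submodule.quotEquivOfEqBot _ hbot).symm
    rw [← Module.supportDim_eq_of_equiv e]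
    unfold LocCoh.depth
    rw [← idealDepth_congr e]
    exact hR
  · have hreg : IsWeaklyRegular R [x] := by
      rw [isWeaklyRegular_cons_iff]
      refine ⟨?_, IsWeaklyRegular.nil _ _⟩
      intro a b hab
      exact mul_left_cancel₀ hx0 hab
    have hCM := isCohenMacaulayModule_quot_ofList hR [x]
      (fun y hy => by rw [List.mem_singleton] at hy; rw [hy]; exact hx) hreg
    have hI : (Ideal.ofList [x] • ⊤ : Submodule R R) = Ideal.span {x} := by
      rw [Ideal.ofList_singleton, smul_eq_mul, Ideal.mul_top]
    let e : (R ⧸ (Ideal.ofList [x] • ⊤ : Submodule R R)) ≃ₗ[R] (R ⧸ Ideal.span {x}) :=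
      Submodule.quotEquivOfEq _ _ hI
    unfold LocCoh.IsCohenMacaulayModule at hCM
    rw [← Module.supportDim_eq_of_equiv e]
    unfold LocCoh.depth at hCM ⊢
    rw [← idealDepth_congr e]
    exact hCM

end CMQuotRing


section LocQuotIso

variable {A : Type u} [CommRing A] (I : Ideal A) (q : Ideal (A ⧸ I)) [q.IsPrime]

/-- `(A/I)_q ≃ A_p / I A_p` for `p` the preimage of `q`. -/
noncomputable def localizationQuotientEquiv :
    Localization.AtPrime q ≃+*
      (Localization.AtPrime (q.comap (Ideal.Quotient.mk I)) ⧸
        I.map (algebraMap A (Localization.AtPrime (q.comap (Ideal.Quotient.mk I))))) := by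
  have hIp : I ≤ q.comap (Ideal.Quotient.mk I) := by
    intro x hx
    rw [Ideal.mem_comap, Ideal.Quotient.eq_zero_iff_mem.mpr hx]
    exact q.zero_mem
  have hmap : (q.comap (Ideal.Quotient.mk I)).map (Ideal.Quotient.mk I) = q :=
    Ideal.map_comap_of_surjective _ Ideal.Quotient.mk_surjective q
  have hprime : ((q.comap (Ideal.Quotient.mk I)).map (Ideal.Quotient.mk I)).IsPrime := by
    rw [hmap]; infer_instance
  have inst : IsLocalization (Algebra.algebraMapSubmonoid (A ⧸ I)
      (q.comap (Ideal.Quotient.mk I)).primeCompl)
      (Localization.AtPrime (q.comap (Ideal.Quotient.mk I)) ⧸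
        I.map (algebraMap A (Localization.AtPrime (q.comap (Ideal.Quotient.mk I))))) :=
    inferInstance
  rw [algebraMapSubmonoid_quotient_primeCompl I (q.comap (Ideal.Quotient.mk I)) hIp] at inst
  have inst' : IsLocalization.AtPrime
      (Localization.AtPrime (q.comap (Ideal.Quotient.mk I)) ⧸
        I.map (algebraMap A (Localization.AtPrime (q.comap (Ideal.Quotient.mk I))))) q := by
    have h : ∀ (q' : Ideal (A ⧸ I)) [q'.IsPrime], q' = q →
        IsLocalization q'.primeCompl
          (Localization.AtPrime (q.comap (Ideal.Quotient.mk I)) ⧸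
            I.map (algebraMap A (Localization.AtPrime (q.comap (Ideal.Quotient.mk I))))) →
        IsLocalization.AtPrime
          (Localization.AtPrime (q.comap (Ideal.Quotient.mk I)) ⧸
            I.map (algebraMap A (Localization.AtPrime (q.comap (Ideal.Quotient.mk I))))) q := by
      intro q' _ hq' h'
      subst hq'
      exact h'
    exact h _ hmap inst
  exact (IsLocalization.algEquiv q.primeCompl (Localization.AtPrime q) _).toRingEquiv

end LocQuotIso


section HypersurfaceCM

variable {A : Type u} [CommRing A] [IsNoetherianRing A]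

/-- Local rings of a hypersurface in a regular ring are Cohen–Macaulay: `depth = dim`. -/
theorem depth_localization_quotient_span_singleton_eq_height
    (hreg : ∀ (p : Ideal A) (_ : p.IsPrime), IsRegularLocalRing (Localization.AtPrime p))
    (f : A) (q : Ideal (A ⧸ Ideal.span ({f} : Set A))) [q.IsPrime] :
    LocCoh.depth (Localization.AtPrime q) (Localization.AtPrime q) = q.height := by
  have hpp : (q.comap (Ideal.Quotient.mk (Ideal.span ({f} : Set A)))).IsPrime :=
    Ideal.comap_isPrime _ _
  set p : Ideal A := q.comap (Ideal.Quotient.mk (Ideal.span ({f} : Set A))) with hp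
  have hRreg : IsRegularLocalRing (Localization.AtPrime p) := hreg p inferInstance
  have hdom : IsDomain (Localization.AtPrime p) :=
    Groth.Agent.Lib.Helper5.isDomain_of_isRegularLocalRing _
  have hCM : LocCoh.IsCohenMacaulayModule (Localization.AtPrime p) (Localization.AtPrime p) :=
    (Groth.Agent.Lib.Helper5.isCohenMacaulayLocalRing_of_isRegularLocalRing
      (Localization.AtPrime p)).supportDim_eq_depth
  set x : Localization.AtPrime p := algebraMap A (Localization.AtPrime p) f with hx
  have hfp : f ∈ p := by
    rw [hp, Ideal.mem_comap, Ideal.Quotient.eq_zero_iff_mem.mpr (Ideal.mem_span_singleton_self f)]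
    exact q.zero_mem
  have hxm : x ∈ IsLocalRing.maximalIdeal (Localization.AtPrime p) := by
    rw [← Localization.AtPrime.map_eq_maximalIdeal]
    exact Ideal.mem_map_of_mem _ hfp
  have hmapI : (Ideal.span ({f} : Set A)).map (algebraMap A (Localization.AtPrime p)) =
      Ideal.span {x} := by
    rw [Ideal.map_span, Set.image_singleton]
  let e1 : Localization.AtPrime q ≃+*
      (Localization.AtPrime p ⧸
        (Ideal.span ({f} : Set A)).map (algebraMap A (Localization.AtPrime p))) :=
    localizationQuotientEquiv (Ideal.span ({f} : Set A)) q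
  let e2 : (Localization.AtPrime p ⧸
      (Ideal.span ({f} : Set A)).map (algebraMap A (Localization.AtPrime p))) ≃+*
      (Localization.AtPrime p ⧸ Ideal.span {x}) := Ideal.quotEquivOfEq hmapI
  let e := e1.trans e2
  have hloc : IsLocalRing (Localization.AtPrime p ⧸ Ideal.span {x}) :=
    e.isLocalRing
  have hdim := ringKrullDim_eq_depth_quotient_span_singleton hCM x hxm
  rw [← ringKrullDim_eq_of_ringEquiv e, ← depth_self_eq_of_ringEquiv e,
    IsLocalization.AtPrime.ringKrullDim_eq_height q (Localization.AtPrime q)] at hdim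
  exact (WithBot.coe_injective hdim).symm

end HypersurfaceCM

end Groth.Agent.Lib.Helper28
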