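import Mathlib
import Groth.Prelude.Def_GrLC

/-! Conversion of gradings valued in an arbitrary `SetLike` type of additive subgroups (for
instance `Submodule k`) to gradings valued in `AddSubgroup`, for the graded category of
`Def_GrLC` (helper29). -/

set_option autoImplicit false
set_option linter.style.haveILetI false
set_option linter.unusedSectionVars false
open DirectSum

noncomputable section

namespace Groth.Agent.Lib.Helper29GrConv

universe u

section Fam

variable {ι : Type} [DecidableEq ι]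
variable {M : Type u} [AddCommGroup M] {τ : Type u} [SetLike τ M] [AddSubgroupClass τ M]
  (ℳ : ι → τ)

/-- The same family of pieces, as additive subgroups. -/
def asGr : ι → AddSubgroup M := fun g => AddSubgroup.ofClass (ℳ g)

theorem mem_asGr {g : ι} {x : M} : x ∈ asGr ℳ g ↔ x ∈ ℳ g := Iff.rfl

/-- The identity on a piece. -/
def toPiece (g : ι) : ↥(ℳ g) →+ ↥(asGr ℳ g) where
  toFun x := ⟨(x : M), x.2⟩
  map_zero' := rfl
  map_add' _ _ := rfl

theorem coe_toPiece (g : ι) (x : ↥(ℳ g)) : ((toPiece ℳ g x : ↥(asGr ℳ g)) : M) = (x : M) := rfl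

theorem coe_map_toPiece (y : ⨁ g, ℳ g) :
    DirectSum.coeAddMonoidHom (asGr ℳ) (DirectSum.map (toPiece ℳ) y) =
      DirectSum.coeAddMonoidHom ℳ y := by
  classical
  induction y using DirectSum.induction_on with
  | zero => simp
  | of g x =>
    rw [DirectSum.map_of, DirectSum.coeAddMonoidHom_of, DirectSum.coeAddMonoidHom_of]
    rfl
  | add x y hx hy => rw [map_add, map_add, map_add, hx, hy]

variable [DirectSum.Decomposition ℳ]

/-- The decomposition map for the converted family. -/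
def decHom : M →+ ⨁ g, asGr ℳ g :=
  (DirectSum.map (toPiece ℳ)).comp (DirectSum.decomposeAddEquiv ℳ).toAddMonoidHom

theorem decHom_apply (x : M) :
    decHom ℳ x = DirectSum.map (toPiece ℳ) (DirectSum.decompose ℳ x) := rfl

/-- The converted family is again a decomposition. -/
instance asDecomposition : DirectSum.Decomposition (asGr ℳ) :=
  DirectSum.Decomposition.ofAddHom (asGr ℳ) (decHom ℳ)
    (by
      apply AddMonoidHom.ext
      intro x
      rw [AddMonoidHom.comp_apply, decHom_apply, coe_map_toPiece]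
      exact DirectSum.Decomposition.left_inv x)
    (by
      apply DirectSum.addHom_ext
      rintro g ⟨y, hy⟩
      rw [AddMonoidHom.comp_apply, DirectSum.coeAddMonoidHom_of]
      change decHom ℳ y = _
      rw [decHom_apply, DirectSum.decompose_of_mem ℳ (show y ∈ ℳ g from hy), DirectSum.map_of]
      rfl)

theorem coe_decompose_asGr (x : M) (g : ι) :
    ((DirectSum.decompose (asGr ℳ) x) g : M) = ((DirectSum.decompose ℳ x) g : M) := by
  change ((decHom ℳ x) g : M) = _
  rw [decHom_apply, DirectSum.map_apply]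
  rfl

end Fam

section Ring

variable {ι : Type} [AddCommGroup ι] [DecidableEq ι]
variable {R : Type u} [CommRing R] {σ : Type u} [SetLike σ R] [AddSubgroupClass σ R]
variable (𝒜 : ι → σ) [GradedRing 𝒜]

instance asGradedMonoid : SetLike.GradedMonoid (asGr 𝒜) where
  one_mem := SetLike.GradedOne.one_mem (A := 𝒜)
  mul_mem := fun _ _ _ _ ha hb => SetLike.GradedMul.mul_mem (A := 𝒜) ha hb

instance asGradedRing : GradedRing (asGr 𝒜) where

variable {M : Type u} [AddCommGroup M] [Module R M] {τ : Type u} [SetLike τ M]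
  [AddSubgroupClass τ M] (ℳ : ι → τ)

instance asGradedSMul [SetLike.GradedSMul 𝒜 ℳ] : SetLike.GradedSMul (asGr 𝒜) (asGr ℳ) where
  smul_mem := fun {_ _ _ _} ha hb => SetLike.GradedSMul.smul_mem (A := 𝒜) (B := ℳ) ha hb

/-- Converting a bundled graded module. -/
def toAS (X : GrLC.GMod.{u} 𝒜) : GrLC.GMod.{u} (asGr 𝒜) :=
  { carrier := X.carrier
    gr := X.gr
    dec := X.dec
    gsmul := ⟨fun {_ _ _ _} ha hb => SetLike.GradedSMul.smul_mem (A := 𝒜) (B := X.gr) ha hb⟩ }

/-- Converting a bundled graded module back. -/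
def ofAS (Y : GrLC.GMod.{u} (asGr 𝒜)) : GrLC.GMod.{u} 𝒜 :=
  { carrier := Y.carrier
    gr := Y.gr
    dec := Y.dec
    gsmul := ⟨fun {_ _ _ _} ha hb =>
      SetLike.GradedSMul.smul_mem (A := asGr 𝒜) (B := Y.gr) ha hb⟩ }

theorem isStarInj_toAS (X : GrLC.GMod.{u} 𝒜) (h : GrLC.IsStarInj 𝒜 X.gr) :
    GrLC.IsStarInj (asGr 𝒜) (toAS 𝒜 X).gr := by
  intro A B f hf hfi g hg
  exact h (ofAS 𝒜 A) (ofAS 𝒜 B) f hf hfi g hg

/-- Converting a homogeneous ideal. -/
def idealAS (a : HomogeneousIdeal 𝒜) : HomogeneousIdeal (asGr 𝒜) :=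
  ⟨a.toIdeal, fun i r hr => by
    rw [coe_decompose_asGr]
    exact a.isHomogeneous i hr⟩

theorem idealAS_toIdeal (a : HomogeneousIdeal 𝒜) : (idealAS 𝒜 a).toIdeal = a.toIdeal := rfl

variable {𝒜 ℳ}
variable [DirectSum.Decomposition ℳ] [SetLike.GradedSMul 𝒜 ℳ]

/-- Converting a *injective resolution. -/
def resAS (E : GrLC.StarInjRes 𝒜 ℳ) : GrLC.StarInjRes (asGr 𝒜) (asGr ℳ) where
  X := fun n => toAS 𝒜 (E.X n)
  d := E.d
  ε := E.ε
  d_grHom := E.d_grHom
  ε_grHom := fun g m hm => E.ε_grHom g m hm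
  ε_injective := E.ε_injective
  exact_zero := E.exact_zero
  exact_succ := E.exact_succ
  starInj := fun n => isStarInj_toAS 𝒜 (E.X n) (E.starInj n)

theorem Hcomp_eq_bot_iff_forall (E : GrLC.StarInjRes 𝒜 ℳ) (a : HomogeneousIdeal 𝒜) (n : ℕ)
    (γ : ι) :
    E.Hcomp a n γ = ⊥ ↔ ∀ z ∈ E.cocyc a n, z ∈ (E.X n).gr γ → z ∈ E.cobdy a n := by
  constructor
  · intro h z hz hzγ
    have h1 : E.toH a n ⟨z, hz⟩ ∈ E.Hcomp a n γ := ⟨⟨z, hz⟩, hzγ, rfl⟩
    rw [h] at h1
    have h2 : E.toH a n ⟨z, hz⟩ = 0 := (Submodule.mem_bot _).mp h1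
    rw [Submodule.mkQ_apply, Submodule.Quotient.mk_eq_zero] at h2
    exact h2
  · intro h
    rw [eq_bot_iff]
    rintro _ ⟨z, hzγ, rfl⟩
    rw [Submodule.mem_bot, Submodule.mkQ_apply, Submodule.Quotient.mk_eq_zero]
    exact h z z.2 hzγ

theorem cobdy_resAS (E : GrLC.StarInjRes 𝒜 ℳ) (a : HomogeneousIdeal 𝒜) (n : ℕ) :
    (resAS E).cobdy (idealAS 𝒜 a) n = E.cobdy a n := by
  cases n <;> rfl

theorem Hcomp_resAS_eq_bot_iff (E : GrLC.StarInjRes 𝒜 ℳ) (a : HomogeneousIdeal 𝒜) (n : ℕ)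
    (γ : ι) : (resAS E).Hcomp (idealAS 𝒜 a) n γ = ⊥ ↔ E.Hcomp a n γ = ⊥ := by
  rw [Hcomp_eq_bot_iff_forall, Hcomp_eq_bot_iff_forall, cobdy_resAS]
  exact Iff.rfl

end Ring

end Groth.Agent.Lib.Helper29GrConv
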