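import Mathlib

/-!
# Helper5Coact: the coaction of a graded ring on its group algebra

For an `ι`-graded commutative ring `R` (`ι` an abelian group): the coaction
`coact χ : R → R[ι]`, `r_l ↦ r_l t^{χ l}`, the twist endomorphisms `tw χ` of `R[ι]`
(`r_l t^g ↦ r_l t^{χ l + g}`), which compose additively in `χ`; the automorphism `tau = tw id`;
the analogous twists `twM χ` of `R[ι] ⊗ M` for a graded module `M`, semilinear over `tw χ`.
Ideals: `I R[ι]` is the set of elements with coefficients in `I`; the preimage of `I R[ι]` under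
the coaction is the homogeneous core of `I`; homogeneous ideals extend to `tau`-stable ideals.
-/

set_option autoImplicit false
universe u

namespace Groth.Agent.Lib.Helper5.Coact
open TensorProduct

section Ring

variable {ι : Type} [AddCommGroup ι] [DecidableEq ι]
variable {R : Type u} [CommRing R] (𝒜 : ι → AddSubgroup R) [GradedRing 𝒜]

/-- The coaction twisted by an endomorphism `χ` of the grading group. -/
noncomputable def coact (χ : ι →+ ι) : R →+* AddMonoidAlgebra R ι :=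
  (DirectSum.toSemiring
    (fun i => (AddMonoidAlgebra.singleAddHom (χ i)).comp (𝒜 i).subtype)
    (by
      change AddMonoidAlgebra.single (χ 0) (1 : R) = 1
      rw [map_zero]
      rfl)
    (by
      intro i j ai aj
      change AddMonoidAlgebra.single (χ (i + j)) ((ai : R) * (aj : R)) =
        AddMonoidAlgebra.single (χ i) (ai : R) * AddMonoidAlgebra.single (χ j) (aj : R)
      rw [AddMonoidAlgebra.single_mul_single, map_add])).comp
    (DirectSum.decomposeRingEquiv 𝒜).toRingHom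

theorem coact_of_mem (χ : ι →+ ι) {l : ι} {r : R} (hr : r ∈ 𝒜 l) :
    coact 𝒜 χ r = AddMonoidAlgebra.single (χ l) r := by
  unfold coact
  rw [RingHom.comp_apply]
  change DirectSum.toSemiring _ _ _ (DirectSum.decompose 𝒜 r) = _
  rw [DirectSum.decompose_of_mem 𝒜 hr, DirectSum.toSemiring_of]
  rfl

theorem ring_ind {P : R → Prop} (h0 : P 0) (hhom : ∀ (l : ι) (r : R), r ∈ 𝒜 l → P r)
    (hadd : ∀ a b, P a → P b → P (a + b)) (r : R) : P r :=
  DirectSum.Decomposition.inductionOn 𝒜 h0 (fun {i} m => hhom i m m.2) hadd r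

theorem alg_ind {P : AddMonoidAlgebra R ι → Prop} (h0 : P 0)
    (hhom : ∀ (g l : ι) (r : R), r ∈ 𝒜 l → P (AddMonoidAlgebra.single g r))
    (hadd : ∀ a b, P a → P b → P (a + b)) (x : AddMonoidAlgebra R ι) : P x := by
  refine AddMonoidAlgebra.induction_linear x h0 hadd ?_
  intro g r
  refine ring_ind 𝒜 (P := fun r => P (AddMonoidAlgebra.single g r)) ?_ ?_ ?_ r
  · change P (AddMonoidAlgebra.single g 0)
    rw [AddMonoidAlgebra.single_zero]
    exact h0
  · intro l r hr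
    exact hhom g l r hr
  · intro a b ha hb
    change P (AddMonoidAlgebra.single g (a + b))
    rw [AddMonoidAlgebra.single_add]
    exact hadd _ _ ha hb

/-- The twist endomorphism of the group algebra. -/
noncomputable def tw (χ : ι →+ ι) : AddMonoidAlgebra R ι →+* AddMonoidAlgebra R ι :=
  AddMonoidAlgebra.liftNCRingHom (coact 𝒜 χ) (AddMonoidAlgebra.of R ι)
    (fun _ _ => Commute.all _ _)

theorem tw_single (χ : ι →+ ι) (g : ι) (r : R) :
    tw 𝒜 χ (AddMonoidAlgebra.single g r) = coact 𝒜 χ r * AddMonoidAlgebra.single g 1 := by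
  unfold tw
  rw [AddMonoidAlgebra.liftNCRingHom_single, AddMonoidAlgebra.of_apply]
  rfl

theorem tw_single_of_mem (χ : ι →+ ι) (g : ι) {l : ι} {r : R} (hr : r ∈ 𝒜 l) :
    tw 𝒜 χ (AddMonoidAlgebra.single g r) = AddMonoidAlgebra.single (χ l + g) r := by
  rw [tw_single, coact_of_mem 𝒜 χ hr, AddMonoidAlgebra.single_mul_single, mul_one]

theorem algebraMap_eq_single (r : R) :
    algebraMap R (AddMonoidAlgebra R ι) r = AddMonoidAlgebra.single 0 r := rfl

theorem tw_algebraMap (χ : ι →+ ι) (r : R) :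
    tw 𝒜 χ (algebraMap R (AddMonoidAlgebra R ι) r) = coact 𝒜 χ r := by
  rw [algebraMap_eq_single, tw_single, ← AddMonoidAlgebra.one_def, mul_one]

theorem tw_single_one (χ : ι →+ ι) (g : ι) :
    tw 𝒜 χ (AddMonoidAlgebra.single g (1 : R)) = AddMonoidAlgebra.single g 1 := by
  rw [tw_single, map_one, one_mul]

theorem tw_comp (χ ψ : ι →+ ι) (x : AddMonoidAlgebra R ι) :
    tw 𝒜 χ (tw 𝒜 ψ x) = tw 𝒜 (χ + ψ) x := by
  refine alg_ind 𝒜 (P := fun x => tw 𝒜 χ (tw 𝒜 ψ x) = tw 𝒜 (χ + ψ) x) ?_ ?_ ?_ x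
  · change tw 𝒜 χ (tw 𝒜 ψ 0) = tw 𝒜 (χ + ψ) 0
    rw [map_zero, map_zero, map_zero]
  · intro g l r hr
    change tw 𝒜 χ (tw 𝒜 ψ (AddMonoidAlgebra.single g r)) =
      tw 𝒜 (χ + ψ) (AddMonoidAlgebra.single g r)
    rw [tw_single_of_mem 𝒜 ψ g hr, tw_single_of_mem 𝒜 χ _ hr, tw_single_of_mem 𝒜 (χ + ψ) g hr,
      AddMonoidHom.add_apply, add_assoc]
  · intro a b ha hb
    change tw 𝒜 χ (tw 𝒜 ψ (a + b)) = tw 𝒜 (χ + ψ) (a + b)
    rw [map_add, map_add, map_add, ha, hb]

theorem tw_zero (x : AddMonoidAlgebra R ι) : tw 𝒜 (0 : ι →+ ι) x = x := by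
  refine alg_ind 𝒜 (P := fun x => tw 𝒜 (0 : ι →+ ι) x = x) ?_ ?_ ?_ x
  · change tw 𝒜 (0 : ι →+ ι) 0 = 0
    rw [map_zero]
  · intro g l r hr
    change tw 𝒜 (0 : ι →+ ι) (AddMonoidAlgebra.single g r) = AddMonoidAlgebra.single g r
    rw [tw_single_of_mem 𝒜 0 g hr, AddMonoidHom.zero_apply, zero_add]
  · intro a b ha hb
    change tw 𝒜 (0 : ι →+ ι) (a + b) = a + b
    rw [map_add, ha, hb]

/-- The twist automorphism `r_l t^g ↦ r_l t^{l+g}`. -/
noncomputable def tau : AddMonoidAlgebra R ι ≃+* AddMonoidAlgebra R ι :=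
  RingEquiv.ofRingHom (tw 𝒜 (AddMonoidHom.id ι)) (tw 𝒜 (-(AddMonoidHom.id ι)))
    (RingHom.ext fun x => by
      rw [RingHom.comp_apply, tw_comp, add_neg_cancel, tw_zero]
      rfl)
    (RingHom.ext fun x => by
      rw [RingHom.comp_apply, tw_comp, neg_add_cancel, tw_zero]
      rfl)

theorem tau_apply (x : AddMonoidAlgebra R ι) : tau 𝒜 x = tw 𝒜 (AddMonoidHom.id ι) x := rfl

theorem tau_algebraMap (r : R) :
    tau 𝒜 (algebraMap R (AddMonoidAlgebra R ι) r) = coact 𝒜 (AddMonoidHom.id ι) r := by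
  rw [tau_apply, tw_algebraMap]

section Mod

variable {M : Type u} [AddCommGroup M] [Module R M] (ℳ : ι → AddSubgroup M)
  [DirectSum.Decomposition ℳ]

theorem mod_ind {P : M → Prop} (h0 : P 0) (hhom : ∀ (h : ι) (m : M), m ∈ ℳ h → P m)
    (hadd : ∀ a b, P a → P b → P (a + b)) (m : M) : P m :=
  DirectSum.Decomposition.inductionOn ℳ h0 (fun {i} m => hhom i m m.2) hadd m

variable (R) in
/-- The coaction on a graded module. -/
noncomputable def coactM (χ : ι →+ ι) : M →+ (AddMonoidAlgebra R ι) ⊗[R] M :=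
  (DirectSum.toAddMonoid (fun i =>
    ((TensorProduct.mk R (AddMonoidAlgebra R ι) M
      (AddMonoidAlgebra.single (χ i) 1)).toAddMonoidHom).comp (ℳ i).subtype)).comp
    (DirectSum.decomposeAddEquiv ℳ).toAddMonoidHom

theorem coactM_of_mem (χ : ι →+ ι) {h : ι} {m : M} (hm : m ∈ ℳ h) :
    coactM R ℳ χ m = (AddMonoidAlgebra.single (χ h) (1 : R)) ⊗ₜ[R] m := by
  unfold coactM
  rw [AddMonoidHom.comp_apply]
  change DirectSum.toAddMonoid _ (DirectSum.decompose ℳ m) = _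
  rw [DirectSum.decompose_of_mem ℳ hm, DirectSum.toAddMonoid_of]
  rfl

variable [SetLike.GradedSMul 𝒜 ℳ]

theorem coactM_smul (χ : ι →+ ι) (r : R) (m : M) :
    coactM R ℳ χ (r • m) = coact 𝒜 χ r • coactM R ℳ χ m := by
  refine ring_ind 𝒜 (P := fun r => ∀ m, coactM R ℳ χ (r • m) = coact 𝒜 χ r • coactM R ℳ χ m)
    ?_ ?_ ?_ r m
  · intro m
    rw [zero_smul, map_zero, map_zero, zero_smul]
  · intro l r hr m
    refine mod_ind ℳ (P := fun m => coactM R ℳ χ (r • m) = coact 𝒜 χ r • coactM R ℳ χ m)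
      ?_ ?_ ?_ m
    · change coactM R ℳ χ (r • 0) = coact 𝒜 χ r • coactM R ℳ χ 0
      rw [smul_zero, map_zero, smul_zero]
    · intro h m hm
      change coactM R ℳ χ (r • m) = coact 𝒜 χ r • coactM R ℳ χ m
      have hrm : r • m ∈ ℳ (l + h) := by
        have := SetLike.GradedSMul.smul_mem (A := 𝒜) (B := ℳ) hr hm
        rwa [vadd_eq_add] at this
      rw [coactM_of_mem ℳ χ hrm, coactM_of_mem ℳ χ hm, coact_of_mem 𝒜 χ hr,
        TensorProduct.smul_tmul', smul_eq_mul, AddMonoidAlgebra.single_mul_single, mul_one,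
        ← TensorProduct.smul_tmul, AddMonoidAlgebra.smul_single', mul_one, map_add]
    · intro a b ha hb
      change coactM R ℳ χ (r • (a + b)) = coact 𝒜 χ r • coactM R ℳ χ (a + b)
      rw [smul_add, map_add, map_add, smul_add, ha, hb]
  · intro a b ha hb m
    rw [add_smul, map_add, map_add, add_smul, ha, hb]

/-- The twist of `R[ι] ⊗ M`. -/
noncomputable def twM (χ : ι →+ ι) :
    (AddMonoidAlgebra R ι) ⊗[R] M →+ (AddMonoidAlgebra R ι) ⊗[R] M :=
  TensorProduct.liftAddHom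
    { toFun := fun s =>
        { toFun := fun m => tw 𝒜 χ s • coactM R ℳ χ m
          map_zero' := by rw [map_zero, smul_zero]
          map_add' := fun a b => by rw [map_add, smul_add] }
      map_zero' := AddMonoidHom.ext fun m => by
        change tw 𝒜 χ 0 • coactM R ℳ χ m = 0
        rw [map_zero, zero_smul]
      map_add' := fun a b => AddMonoidHom.ext fun m => by
        change tw 𝒜 χ (a + b) • coactM R ℳ χ m =
          tw 𝒜 χ a • coactM R ℳ χ m + tw 𝒜 χ b • coactM R ℳ χ m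
        rw [map_add, add_smul] }
    (by
      intro r s m
      change tw 𝒜 χ (r • s) • coactM R ℳ χ m = tw 𝒜 χ s • coactM R ℳ χ (r • m)
      rw [coactM_smul 𝒜 ℳ χ r m, Algebra.smul_def r s, map_mul, tw_algebraMap, smul_smul,
        mul_comm])

theorem twM_tmul (χ : ι →+ ι) (s : AddMonoidAlgebra R ι) (m : M) :
    twM 𝒜 ℳ χ (s ⊗ₜ[R] m) = tw 𝒜 χ s • coactM R ℳ χ m := by
  unfold twM
  rw [TensorProduct.liftAddHom_tmul]
  rfl

theorem twM_smul (χ : ι →+ ι) (s' : AddMonoidAlgebra R ι)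
    (y : (AddMonoidAlgebra R ι) ⊗[R] M) :
    twM 𝒜 ℳ χ (s' • y) = tw 𝒜 χ s' • twM 𝒜 ℳ χ y := by
  induction y using TensorProduct.induction_on with
  | zero => rw [smul_zero, map_zero, smul_zero]
  | tmul s m =>
    rw [TensorProduct.smul_tmul', smul_eq_mul, twM_tmul, twM_tmul, map_mul, mul_smul]
  | add a b ha hb => rw [smul_add, map_add, map_add, smul_add, ha, hb]

theorem twM_tmul_of_mem (χ : ι →+ ι) (s : AddMonoidAlgebra R ι) {h : ι} {m : M}
    (hm : m ∈ ℳ h) :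
    twM 𝒜 ℳ χ (s ⊗ₜ[R] m) = (tw 𝒜 χ s * AddMonoidAlgebra.single (χ h) 1) ⊗ₜ[R] m := by
  rw [twM_tmul, coactM_of_mem ℳ χ hm, TensorProduct.smul_tmul', smul_eq_mul]

theorem twM_comp (χ ψ : ι →+ ι) (y : (AddMonoidAlgebra R ι) ⊗[R] M) :
    twM 𝒜 ℳ χ (twM 𝒜 ℳ ψ y) = twM 𝒜 ℳ (χ + ψ) y := by
  induction y using TensorProduct.induction_on with
  | zero => rw [map_zero, map_zero, map_zero]
  | tmul s m =>
    refine mod_ind ℳ (P := fun m => twM 𝒜 ℳ χ (twM 𝒜 ℳ ψ (s ⊗ₜ[R] m)) =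
      twM 𝒜 ℳ (χ + ψ) (s ⊗ₜ[R] m)) ?_ ?_ ?_ m
    · change twM 𝒜 ℳ χ (twM 𝒜 ℳ ψ (s ⊗ₜ[R] (0 : M))) = twM 𝒜 ℳ (χ + ψ) (s ⊗ₜ[R] (0 : M))
      rw [TensorProduct.tmul_zero, map_zero, map_zero, map_zero]
    · intro h m hm
      change twM 𝒜 ℳ χ (twM 𝒜 ℳ ψ (s ⊗ₜ[R] m)) = twM 𝒜 ℳ (χ + ψ) (s ⊗ₜ[R] m)
      rw [twM_tmul_of_mem 𝒜 ℳ ψ s hm, twM_tmul_of_mem 𝒜 ℳ χ _ hm,
        twM_tmul_of_mem 𝒜 ℳ (χ + ψ) s hm, map_mul, tw_comp, tw_single_one, mul_assoc,
        AddMonoidAlgebra.single_mul_single, mul_one, AddMonoidHom.add_apply,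
        add_comm (ψ h) (χ h)]
    · intro a b ha hb
      change twM 𝒜 ℳ χ (twM 𝒜 ℳ ψ (s ⊗ₜ[R] (a + b))) = twM 𝒜 ℳ (χ + ψ) (s ⊗ₜ[R] (a + b))
      rw [TensorProduct.tmul_add, map_add, map_add, map_add, ha, hb]
  | add a b ha hb => rw [map_add, map_add, map_add, ha, hb]

theorem twM_zero (y : (AddMonoidAlgebra R ι) ⊗[R] M) : twM 𝒜 ℳ (0 : ι →+ ι) y = y := by
  induction y using TensorProduct.induction_on with
  | zero => rw [map_zero]
  | tmul s m =>
    refine mod_ind ℳ (P := fun m => twM 𝒜 ℳ (0 : ι →+ ι) (s ⊗ₜ[R] m) = s ⊗ₜ[R] m) ?_ ?_ ?_ m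
    · change twM 𝒜 ℳ (0 : ι →+ ι) (s ⊗ₜ[R] (0 : M)) = s ⊗ₜ[R] (0 : M)
      rw [TensorProduct.tmul_zero, map_zero]
    · intro h m hm
      change twM 𝒜 ℳ (0 : ι →+ ι) (s ⊗ₜ[R] m) = s ⊗ₜ[R] m
      rw [twM_tmul_of_mem 𝒜 ℳ 0 s hm, tw_zero, AddMonoidHom.zero_apply,
        ← AddMonoidAlgebra.one_def, mul_one]
    · intro a b ha hb
      change twM 𝒜 ℳ (0 : ι →+ ι) (s ⊗ₜ[R] (a + b)) = s ⊗ₜ[R] (a + b)
      rw [TensorProduct.tmul_add, map_add, ha, hb]
  | add a b ha hb => rw [map_add, ha, hb]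

/-- The twist automorphism of `R[ι] ⊗ M`, semilinear over `tau`. -/
noncomputable def tauM :
    (AddMonoidAlgebra R ι) ⊗[R] M ≃+ (AddMonoidAlgebra R ι) ⊗[R] M where
  toFun := twM 𝒜 ℳ (AddMonoidHom.id ι)
  invFun := twM 𝒜 ℳ (-(AddMonoidHom.id ι))
  left_inv y := by rw [twM_comp, neg_add_cancel, twM_zero]
  right_inv y := by rw [twM_comp, add_neg_cancel, twM_zero]
  map_add' := map_add _

theorem tauM_smul (s : AddMonoidAlgebra R ι) (y : (AddMonoidAlgebra R ι) ⊗[R] M) :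
    tauM 𝒜 ℳ (s • y) = tau 𝒜 s • tauM 𝒜 ℳ y :=
  twM_smul 𝒜 ℳ (AddMonoidHom.id ι) s y

end Mod

section Ideals

variable (I : Ideal R)

omit [DecidableEq ι] in
theorem mem_ker_mapRingHom_iff (x : AddMonoidAlgebra R ι) :
    x ∈ RingHom.ker (AddMonoidAlgebra.mapRingHom ι (Ideal.Quotient.mk I)) ↔
      ∀ g, x.coeff g ∈ I := by
  rw [RingHom.mem_ker, ← AddMonoidAlgebra.coeff_eq_zero, DFunLike.ext_iff]
  refine forall_congr' fun g => ?_
  rw [AddMonoidAlgebra.coeff_mapRingHom, Finsupp.zero_apply, Ideal.Quotient.eq_zero_iff_mem]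

theorem single_eq_algebraMap_mul (g : ι) (r : R) :
    (AddMonoidAlgebra.single g r : AddMonoidAlgebra R ι) =
      algebraMap R (AddMonoidAlgebra R ι) r * AddMonoidAlgebra.single g 1 := by
  rw [algebraMap_eq_single, AddMonoidAlgebra.single_mul_single, zero_add, mul_one]

theorem map_eq_ker :
    I.map (algebraMap R (AddMonoidAlgebra R ι)) =
      RingHom.ker (AddMonoidAlgebra.mapRingHom ι (Ideal.Quotient.mk I)) := by
  apply le_antisymm
  · rw [Ideal.map_le_iff_le_comap]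
    intro a ha
    rw [Ideal.mem_comap, mem_ker_mapRingHom_iff, algebraMap_eq_single]
    intro g
    rw [AddMonoidAlgebra.coeff_single, Finsupp.single_apply]
    split_ifs
    · exact ha
    · exact I.zero_mem
  · intro x hx
    rw [mem_ker_mapRingHom_iff] at hx
    rw [← AddMonoidAlgebra.sum_coeff_single x, Finsupp.sum]
    refine Ideal.sum_mem _ fun g _ => ?_
    rw [single_eq_algebraMap_mul]
    exact Ideal.mul_mem_right _ _ (Ideal.mem_map_of_mem _ (hx g))

theorem mem_map_iff (x : AddMonoidAlgebra R ι) :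
    x ∈ I.map (algebraMap R (AddMonoidAlgebra R ι)) ↔ ∀ g, x.coeff g ∈ I := by
  rw [map_eq_ker, mem_ker_mapRingHom_iff]

theorem map_isPrime [UniqueSums ι] [I.IsPrime] :
    (I.map (algebraMap R (AddMonoidAlgebra R ι))).IsPrime := by
  rw [map_eq_ker]
  exact RingHom.ker_isPrime _

theorem comap_map_eq : (I.map (algebraMap R (AddMonoidAlgebra R ι))).comap
    (algebraMap R (AddMonoidAlgebra R ι)) = I := by
  ext a
  rw [Ideal.mem_comap, mem_map_iff, algebraMap_eq_single]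
  constructor
  · intro h
    have := h 0
    rwa [AddMonoidAlgebra.coeff_single, Finsupp.single_apply, if_pos rfl] at this
  · intro ha g
    rw [AddMonoidAlgebra.coeff_single, Finsupp.single_apply]
    split_ifs
    · exact ha
    · exact I.zero_mem

theorem coeff_coact (r : R) (g : ι) :
    (coact 𝒜 (AddMonoidHom.id ι) r).coeff g = (DirectSum.decompose 𝒜 r g : R) := by
  refine ring_ind 𝒜 (P := fun r => (coact 𝒜 (AddMonoidHom.id ι) r).coeff g =
    (DirectSum.decompose 𝒜 r g : R)) ?_ ?_ ?_ r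
  · change (coact 𝒜 (AddMonoidHom.id ι) 0).coeff g = (DirectSum.decompose 𝒜 (0 : R) g : R)
    rw [map_zero, DirectSum.decompose_zero]
    rfl
  · intro l r hr
    change (coact 𝒜 (AddMonoidHom.id ι) r).coeff g = (DirectSum.decompose 𝒜 r g : R)
    rw [coact_of_mem 𝒜 _ hr, AddMonoidAlgebra.coeff_single, Finsupp.single_apply, AddMonoidHom.id_apply]
    split_ifs with h
    · subst h
      rw [DirectSum.decompose_of_mem_same 𝒜 hr]
    · rw [DirectSum.decompose_of_mem_ne 𝒜 hr h]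
  · intro a b ha hb
    change (coact 𝒜 (AddMonoidHom.id ι) (a + b)).coeff g =
      (DirectSum.decompose 𝒜 (a + b) g : R)
    rw [map_add, AddMonoidAlgebra.coeff_add, Finsupp.add_apply, ha, hb,
      DirectSum.decompose_add, DirectSum.add_apply, AddSubgroup.coe_add]

theorem mem_core_iff (r : R) :
    r ∈ (Ideal.homogeneousCore 𝒜 I).toIdeal ↔ ∀ g, (DirectSum.decompose 𝒜 r g : R) ∈ I := by
  classical
  constructor
  · intro hr g
    exact Ideal.toIdeal_homogeneousCore_le 𝒜 I ((Ideal.homogeneousCore 𝒜 I).isHomogeneous g hr)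
  · intro h
    rw [← DirectSum.sum_support_decompose 𝒜 r]
    refine Ideal.sum_mem _ fun g _ => ?_
    exact Ideal.mem_homogeneousCore_of_homogeneous_of_mem
      ⟨g, (DirectSum.decompose 𝒜 r g).2⟩ (h g)

theorem comap_coact :
    (I.map (algebraMap R (AddMonoidAlgebra R ι))).comap (coact 𝒜 (AddMonoidHom.id ι)) =
      (Ideal.homogeneousCore 𝒜 I).toIdeal := by
  ext r
  rw [Ideal.mem_comap, mem_map_iff, mem_core_iff]
  refine forall_congr' fun g => ?_
  rw [coeff_coact]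

theorem tau_comp_algebraMap :
    ((tau 𝒜 : AddMonoidAlgebra R ι ≃+* AddMonoidAlgebra R ι) :
      AddMonoidAlgebra R ι →+* AddMonoidAlgebra R ι).comp
      (algebraMap R (AddMonoidAlgebra R ι)) = coact 𝒜 (AddMonoidHom.id ι) :=
  RingHom.ext fun r => tau_algebraMap 𝒜 r

theorem comap_tau_comap :
    ((I.map (algebraMap R (AddMonoidAlgebra R ι))).comap
      ((tau 𝒜 : AddMonoidAlgebra R ι ≃+* AddMonoidAlgebra R ι) :
        AddMonoidAlgebra R ι →+* AddMonoidAlgebra R ι)).comap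
      (algebraMap R (AddMonoidAlgebra R ι)) = (Ideal.homogeneousCore 𝒜 I).toIdeal := by
  rw [Ideal.comap_comap, tau_comp_algebraMap, comap_coact]

theorem map_coact_eq (hI : I.IsHomogeneous 𝒜) :
    I.map (coact 𝒜 (AddMonoidHom.id ι)) = I.map (algebraMap R (AddMonoidAlgebra R ι)) := by
  classical
  apply le_antisymm
  · rw [Ideal.map_le_iff_le_comap]
    intro r hr
    rw [Ideal.mem_comap, mem_map_iff]
    intro g
    rw [coeff_coact]
    exact hI g hr
  · rw [Ideal.map_le_iff_le_comap]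
    intro r hr
    rw [Ideal.mem_comap]
    have hsum : algebraMap R (AddMonoidAlgebra R ι) r =
        ∑ g ∈ DFinsupp.support (DirectSum.decompose 𝒜 r),
          algebraMap R (AddMonoidAlgebra R ι) (DirectSum.decompose 𝒜 r g : R) := by
      conv_lhs => rw [← DirectSum.sum_support_decompose 𝒜 r]
      rw [map_sum]
    rw [hsum]
    refine Ideal.sum_mem _ fun g _ => ?_
    have hg : (DirectSum.decompose 𝒜 r g : R) ∈ 𝒜 g := (DirectSum.decompose 𝒜 r g).2
    have h1 : algebraMap R (AddMonoidAlgebra R ι) (DirectSum.decompose 𝒜 r g : R) =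
        coact 𝒜 (AddMonoidHom.id ι) (DirectSum.decompose 𝒜 r g : R) *
          AddMonoidAlgebra.single (-g) 1 := by
      rw [coact_of_mem 𝒜 _ hg, AddMonoidHom.id_apply, AddMonoidAlgebra.single_mul_single,
        add_neg_cancel, mul_one, algebraMap_eq_single]
    rw [h1]
    exact Ideal.mul_mem_right _ _ (Ideal.mem_map_of_mem _ (hI g hr))

theorem map_tau_eq (hI : I.IsHomogeneous 𝒜) :
    (I.map (algebraMap R (AddMonoidAlgebra R ι))).map
      ((tau 𝒜 : AddMonoidAlgebra R ι ≃+* AddMonoidAlgebra R ι) :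
        AddMonoidAlgebra R ι →+* AddMonoidAlgebra R ι) =
      I.map (algebraMap R (AddMonoidAlgebra R ι)) := by
  rw [Ideal.map_map, tau_comp_algebraMap, map_coact_eq 𝒜 I hI]

end Ideals

end Ring

end Groth.Agent.Lib.Helper5.Coact
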