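import Mathlib
import Groth.Agent.Lib.Helper5GenDepth
import Groth.Agent.Lib.Helper28FlatEquidim
import Groth.Agent.Lib.Helper28FlatNormal
import Groth.Agent.Lib.Helper28DepthFlat

/-!
# Helper5FBC: flat base change formulas for depth and dimension of modules

* `annihilator_baseChange`: `Ann_B (B ⊗ X) = (Ann_A X) B` for `B` flat over `A`, `X` finite.
* `supportDim_tensor_of_flat`: `dim_B (B ⊗ X) = dim_A X + dim B/m_A B` for a flat local homomorphism.
* `fbc`: for flat `R → S` (Noetherian), a prime `Q` of `S` over `q`, a finite `R`-module `X`: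
  `depth (S ⊗ X)_Q = depth X_q + depth (S_Q/qS_Q)`, `dim (S ⊗ X)_Q = dim X_q + dim (S_Q/qS_Q)`.
* `semilinear_transport`: depth and dimension of localizations are transported along a
  semilinear isomorphism of modules over a ring isomorphism.
-/

set_option autoImplicit false
universe u

namespace Groth.Agent.Lib.Helper5.FBC
open Groth.Agent.Lib.Helper28 Groth.Agent.Lib.Helper5 Groth.Agent.Lib.Helper5.GenDepth TensorProduct

section Ann

variable {A B : Type*} [CommRing A] [CommRing B] [Algebra A B]

theorem map_annihilator_le (X : Type*) [AddCommGroup X] [Module A X] :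
    (Module.annihilator A X).map (algebraMap A B) ≤ Module.annihilator B (B ⊗[A] X) := by
  rw [Ideal.map_le_iff_le_comap]
  intro a ha
  rw [Ideal.mem_comap, Module.mem_annihilator]
  intro y
  induction y using TensorProduct.induction_on with
  | zero => rw [smul_zero]
  | tmul b x =>
    rw [algebraMap_smul, ← TensorProduct.tmul_smul, Module.mem_annihilator.mp ha x,
      TensorProduct.tmul_zero]
  | add y z hy hz => rw [smul_add, hy, hz, add_zero]

theorem annihilator_baseChange [Module.Flat A B] (X : Type*) [AddCommGroup X] [Module A X]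
    [Module.Finite A X] :
    Module.annihilator B (B ⊗[A] X) = (Module.annihilator A X).map (algebraMap A B) := by
  classical
  refine le_antisymm ?_ (map_annihilator_le X)
  obtain ⟨s, hs⟩ := (Module.finite_def.mp ‹Module.Finite A X›)
  let g : A →ₗ[A] (s → X) := LinearMap.pi (fun x => LinearMap.toSpanSingleton A X (x : X))
  have hg : ∀ (a : A) (n : s), g a n = a • (n : X) := fun a n => rfl
  have hker : LinearMap.ker g = Module.annihilator A X := by
    ext a
    rw [LinearMap.mem_ker, ← Submodule.annihilator_top, ← hs, Submodule.mem_annihilator_span]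
    constructor
    · intro h n
      have := congrFun h n
      rwa [hg] at this
    · intro h
      funext n
      rw [hg]
      exact h n
  let gbar : (A ⧸ Module.annihilator A X) →ₗ[A] (s → X) :=
    Submodule.liftQ (Module.annihilator A X) g (le_of_eq hker.symm)
  have hinj : Function.Injective gbar := by
    rw [← LinearMap.ker_eq_bot]
    exact Submodule.ker_liftQ_eq_bot _ _ _ (le_of_eq hker)
  have hinj2 := Module.Flat.lTensor_preserves_injective_linearMap (M := B) gbar hinj
  intro b hb
  have hz : (gbar.lTensor B) (b ⊗ₜ[A] (1 : A ⧸ Module.annihilator A X)) = 0 := by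
    apply (TensorProduct.piRight A A B (fun _ : s => X)).injective
    rw [map_zero, LinearMap.lTensor_tmul]
    funext n
    rw [TensorProduct.piRight_apply, TensorProduct.piRightHom_tmul]
    change b ⊗ₜ[A] gbar 1 n = 0
    have h1 : gbar 1 n = (n : X) := by
      change g 1 n = _
      rw [hg, one_smul]
    rw [h1]
    have := Module.mem_annihilator.mp hb ((1 : B) ⊗ₜ[A] (n : X))
    rwa [TensorProduct.smul_tmul', smul_eq_mul, mul_one] at this
  have hz0 : b ⊗ₜ[A] (1 : A ⧸ Module.annihilator A X) = 0 := hinj2 (by rw [hz, map_zero])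
  have h2 : Algebra.TensorProduct.quotIdealMapEquivTensorQuot B (Module.annihilator A X)
      (Ideal.Quotient.mk _ b) = 0 := by
    rw [Algebra.TensorProduct.quotIdealMapEquivTensorQuot_mk]
    exact hz0
  have h3 := (Algebra.TensorProduct.quotIdealMapEquivTensorQuot B
    (Module.annihilator A X)).injective (h2.trans (map_zero _).symm)
  exact Ideal.Quotient.eq_zero_iff_mem.mp h3

end Ann

section LocalDim

variable {A B : Type u} [CommRing A] [CommRing B] [IsNoetherianRing A] [IsNoetherianRing B]
  [IsLocalRing A] [IsLocalRing B] [Algebra A B] [IsLocalHom (algebraMap A B)] [Module.Flat A B]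

theorem supportDim_tensor_of_flat (X : Type u) [AddCommGroup X] [Module A X] [Module.Finite A X] :
    Module.supportDim B (B ⊗[A] X) = Module.supportDim A X + ringKrullDim (EGA4.FibRing A B) := by
  by_cases hX : Subsingleton X
  · haveI : Subsingleton (B ⊗[A] X) := inferInstance
    rw [Module.supportDim_eq_bot_of_subsingleton, Module.supportDim_eq_bot_of_subsingleton,
      WithBot.bot_add]
  · have hne : Module.annihilator A X ≠ ⊤ := fun h => hX (Module.annihilator_eq_top_iff.mp h)
    rw [Module.supportDim_eq_ringKrullDim_quotient_annihilator,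
      Module.supportDim_eq_ringKrullDim_quotient_annihilator A X, annihilator_baseChange,
      ringKrullDim_quotient_map_eq_add _ hne, add_comm]

end LocalDim

section Global

variable {R S : Type u} [CommRing R] [CommRing S] [IsNoetherianRing R] [IsNoetherianRing S]
  [Algebra R S] [Module.Flat R S]

theorem fbc (Q : Ideal S) [Q.IsPrime] [IsLocalRing (EGA4.FibLocRing R S Q)]
    (q : Ideal R) [q.IsPrime] (hq : q = Q.comap (algebraMap R S))
    (X : Type u) [AddCommGroup X] [Module R X] [Module.Finite R X] :
    dep Q (S ⊗[R] X) =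
      dep q X + LocCoh.depth (EGA4.FibLocRing R S Q) (EGA4.FibLocRing R S Q) ∧
    dm Q (S ⊗[R] X) = dm q X + ringKrullDim (EGA4.FibLocRing R S Q) := by
  subst hq
  haveI hlies : Q.LiesOver (Q.comap (algebraMap R S)) := ⟨rfl⟩
  letI alg : Algebra (Localization.AtPrime (Q.comap (algebraMap R S))) (Localization.AtPrime Q) :=
    Localization.AtPrime.algebraOfLiesOver (Q.comap (algebraMap R S)) Q
  haveI hloc : IsLocalHom (algebraMap (Localization.AtPrime (Q.comap (algebraMap R S)))
      (Localization.AtPrime Q)) := by
    rw [RingHom.algebraMap_toAlgebra]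
    exact Localization.isLocalHom_localRingHom (Q.comap (algebraMap R S)) Q (algebraMap R S)
      Ideal.LiesOver.over
  haveI hflatS : Module.Flat S (Localization.AtPrime Q) := IsLocalization.flat _ Q.primeCompl
  haveI hflatR : Module.Flat R (Localization.AtPrime Q) := Module.Flat.trans R S _
  haveI hflat : Module.Flat (Localization.AtPrime (Q.comap (algebraMap R S)))
      (Localization.AtPrime Q) :=
    (Module.flat_iff_of_isLocalization (Localization.AtPrime (Q.comap (algebraMap R S)))
      (Q.comap (algebraMap R S)).primeCompl _).mpr hflatR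
  haveI : IsNoetherianRing (Localization.AtPrime (Q.comap (algebraMap R S))) :=
    IsLocalization.isNoetherianRing (Q.comap (algebraMap R S)).primeCompl _ inferInstance
  haveI : IsNoetherianRing (Localization.AtPrime Q) :=
    IsLocalization.isNoetherianRing Q.primeCompl _ inferInstance
  have hmapeq : (Q.comap (algebraMap R S)).map (algebraMap R (Localization.AtPrime Q)) =
      (IsLocalRing.maximalIdeal (Localization.AtPrime (Q.comap (algebraMap R S)))).map
        (algebraMap (Localization.AtPrime (Q.comap (algebraMap R S)))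
          (Localization.AtPrime Q)) := by
    rw [← IsLocalization.AtPrime.map_eq_maximalIdeal (Q.comap (algebraMap R S))
      (Localization.AtPrime (Q.comap (algebraMap R S))), Ideal.map_map,
      ← IsScalarTower.algebraMap_eq]
  -- the identification of the localized base change
  let e1 : (Localization.AtPrime (Q.comap (algebraMap R S))) ⊗[R] X ≃ₗ[
      Localization.AtPrime (Q.comap (algebraMap R S))]
      LocalizedModule (Q.comap (algebraMap R S)).primeCompl X :=
    (IsLocalizedModule.isBaseChange (Q.comap (algebraMap R S)).primeCompl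
      (Localization.AtPrime (Q.comap (algebraMap R S)))
      (LocalizedModule.mkLinearMap (Q.comap (algebraMap R S)).primeCompl X)).equiv
  let e2 : (Localization.AtPrime Q) ⊗[Localization.AtPrime (Q.comap (algebraMap R S))]
        (LocalizedModule (Q.comap (algebraMap R S)).primeCompl X) ≃ₗ[Localization.AtPrime Q]
      (Localization.AtPrime Q) ⊗[Localization.AtPrime (Q.comap (algebraMap R S))]
        ((Localization.AtPrime (Q.comap (algebraMap R S))) ⊗[R] X) :=
    TensorProduct.AlgebraTensorModule.congr
      (LinearEquiv.refl (Localization.AtPrime Q) (Localization.AtPrime Q)) e1.symm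
  let e3 : (Localization.AtPrime Q) ⊗[Localization.AtPrime (Q.comap (algebraMap R S))]
        ((Localization.AtPrime (Q.comap (algebraMap R S))) ⊗[R] X) ≃ₗ[Localization.AtPrime Q]
      (Localization.AtPrime Q) ⊗[R] X :=
    TensorProduct.AlgebraTensorModule.cancelBaseChange R
      (Localization.AtPrime (Q.comap (algebraMap R S))) (Localization.AtPrime Q)
      (Localization.AtPrime Q) X
  let e4 : (Localization.AtPrime Q) ⊗[S] (S ⊗[R] X) ≃ₗ[Localization.AtPrime Q]
      (Localization.AtPrime Q) ⊗[R] X :=
    TensorProduct.AlgebraTensorModule.cancelBaseChange R S (Localization.AtPrime Q)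
      (Localization.AtPrime Q) X
  let e5 : (Localization.AtPrime Q) ⊗[S] (S ⊗[R] X) ≃ₗ[Localization.AtPrime Q]
      LocalizedModule Q.primeCompl (S ⊗[R] X) :=
    (IsLocalizedModule.isBaseChange Q.primeCompl (Localization.AtPrime Q)
      (LocalizedModule.mkLinearMap Q.primeCompl (S ⊗[R] X))).equiv
  let E : (Localization.AtPrime Q) ⊗[Localization.AtPrime (Q.comap (algebraMap R S))]
        (LocalizedModule (Q.comap (algebraMap R S)).primeCompl X) ≃ₗ[Localization.AtPrime Q]
      LocalizedModule Q.primeCompl (S ⊗[R] X) :=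
    e2 ≪≫ₗ e3 ≪≫ₗ e4.symm ≪≫ₗ e5
  constructor
  · have hd := depth_tensor_of_flat (R := Localization.AtPrime (Q.comap (algebraMap R S)))
      (S := Localization.AtPrime Q) (LocalizedModule (Q.comap (algebraMap R S)).primeCompl X)
      (Localization.AtPrime Q)
    have hdE : LocCoh.depth (Localization.AtPrime Q)
        ((Localization.AtPrime Q) ⊗[Localization.AtPrime (Q.comap (algebraMap R S))]
          (LocalizedModule (Q.comap (algebraMap R S)).primeCompl X)) =
        dep Q (S ⊗[R] X) := by
      change LocCoh.idealDepth _ _ = LocCoh.idealDepth _ _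
      exact idealDepth_congr E _
    have hfd : LocCoh.depth (Localization.AtPrime Q)
        ((Localization.AtPrime Q) ⧸
          ((IsLocalRing.maximalIdeal (Localization.AtPrime (Q.comap (algebraMap R S)))).map
            (algebraMap (Localization.AtPrime (Q.comap (algebraMap R S)))
              (Localization.AtPrime Q)) • ⊤ :
            Submodule (Localization.AtPrime Q) (Localization.AtPrime Q))) =
        LocCoh.depth (EGA4.FibLocRing R S Q) (EGA4.FibLocRing R S Q) := by
      rw [depth_quotient_self_eq]
      change LocCoh.idealDepth _ _ = LocCoh.idealDepth _ _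
      exact idealDepth_congr (Submodule.quotEquivOfEq _ _
        (by rw [hmapeq, smul_eq_mul, Ideal.mul_top])) _
    rw [← hdE, hd, hfd]
    rfl
  · have hdim := supportDim_tensor_of_flat
      (A := Localization.AtPrime (Q.comap (algebraMap R S))) (B := Localization.AtPrime Q)
      (LocalizedModule (Q.comap (algebraMap R S)).primeCompl X)
    have hdimE : Module.supportDim (Localization.AtPrime Q)
        ((Localization.AtPrime Q) ⊗[Localization.AtPrime (Q.comap (algebraMap R S))]
          (LocalizedModule (Q.comap (algebraMap R S)).primeCompl X)) =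
        dm Q (S ⊗[R] X) := Module.supportDim_eq_of_equiv E
    have hfdim : ringKrullDim (EGA4.FibRing (Localization.AtPrime (Q.comap (algebraMap R S)))
        (Localization.AtPrime Q)) = ringKrullDim (EGA4.FibLocRing R S Q) :=
      ringKrullDim_eq_of_ringEquiv (Ideal.quotEquivOfEq hmapeq.symm)
    rw [← hdimE, hdim, hfdim]
    rfl

end Global

section Semilinear

theorem semilinear_transport {B B' : Type u} [CommRing B] [CommRing B'] [IsNoetherianRing B]
    [IsNoetherianRing B']
    (σ : B ≃+* B') {N N' : Type u} [AddCommGroup N] [Module B N] [Module.Finite B N]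
    [AddCommGroup N'] [Module B' N'] (g : N ≃+ N')
    (hg : ∀ (b : B) (n : N), g (b • n) = σ b • g n)
    (𝔮 : Ideal B') [𝔮.IsPrime] (𝔮₀ : Ideal B) [𝔮₀.IsPrime]
    (h𝔮 : 𝔮₀ = 𝔮.comap (σ : B →+* B')) :
    dep 𝔮₀ N = dep 𝔮 N' ∧ dm 𝔮₀ N = dm 𝔮 N' := by
  subst h𝔮
  have hmem : ∀ c : B', c ∈ 𝔮.primeCompl → σ.symm c ∈ (𝔮.comap (σ : B →+* B')).primeCompl := by
    intro c hc h
    apply hc
    have h' : σ (σ.symm c) ∈ 𝔮 := h
    rwa [σ.apply_symm_apply] at h'
  have hmem' : ∀ c : B, c ∈ (𝔮.comap (σ : B →+* B')).primeCompl → σ c ∈ 𝔮.primeCompl :=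
    fun c hc h => hc h
  letI algB : Algebra B (Localization.AtPrime 𝔮) :=
    ((algebraMap B' (Localization.AtPrime 𝔮)).comp (σ : B →+* B')).toAlgebra
  have halg : ∀ b : B, algebraMap B (Localization.AtPrime 𝔮) b =
      algebraMap B' (Localization.AtPrime 𝔮) (σ b) := fun b => rfl
  haveI hlocz : IsLocalization.AtPrime (Localization.AtPrime 𝔮) (𝔮.comap (σ : B →+* B')) := by
    change IsLocalization _ _
    rw [isLocalization_iff]
    refine ⟨?_, ?_, ?_⟩
    · rintro ⟨y, hy⟩
      rw [halg]
      exact IsLocalization.map_units (M := 𝔮.primeCompl) _ ⟨σ y, hmem' y hy⟩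
    · intro z
      obtain ⟨⟨x, s⟩, hxs⟩ := IsLocalization.surj 𝔮.primeCompl z
      refine ⟨⟨σ.symm x, ⟨σ.symm s, hmem s s.2⟩⟩, ?_⟩
      rw [halg, halg]
      simp only [RingEquiv.apply_symm_apply]
      exact hxs
    · intro x y hxy
      rw [halg, halg] at hxy
      obtain ⟨c, hc⟩ := IsLocalization.exists_of_eq (M := 𝔮.primeCompl) hxy
      refine ⟨⟨σ.symm c, hmem c c.2⟩, ?_⟩
      apply σ.injective
      rw [map_mul, map_mul]
      simp only [RingEquiv.apply_symm_apply]
      exact hc
  letI modB : Module B (LocalizedModule 𝔮.primeCompl N') :=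
    Module.compHom (LocalizedModule 𝔮.primeCompl N') (algebraMap B (Localization.AtPrime 𝔮))
  have hsm : ∀ (b : B) (y : LocalizedModule 𝔮.primeCompl N'), b • y = σ b • y := by
    intro b y
    change algebraMap B' (Localization.AtPrime 𝔮) (σ b) • y = σ b • y
    rw [algebraMap_smul]
  haveI tower : IsScalarTower B (Localization.AtPrime 𝔮) (LocalizedModule 𝔮.primeCompl N') :=
    ⟨fun b c n => by
      change (b • c) • n = algebraMap B (Localization.AtPrime 𝔮) b • (c • n)
      rw [Algebra.smul_def, mul_smul]⟩
  let f2 : N →ₗ[B] LocalizedModule 𝔮.primeCompl N' :=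
    { toFun := fun n => LocalizedModule.mkLinearMap 𝔮.primeCompl N' (g n)
      map_add' := fun a b => by rw [map_add, map_add]
      map_smul' := fun b n => by
        rw [hg, map_smul, RingHom.id_apply, hsm] }
  have hf2 : ∀ n, f2 n = LocalizedModule.mkLinearMap 𝔮.primeCompl N' (g n) := fun n => rfl
  haveI hlm : IsLocalizedModule (𝔮.comap (σ : B →+* B')).primeCompl f2 := by
    refine ⟨?_, ?_, ?_⟩
    · rintro ⟨x, hx⟩
      rw [Module.End.isUnit_iff]
      have hu := (Module.End.isUnit_iff _).mp
        (IsLocalizedModule.map_units (LocalizedModule.mkLinearMap 𝔮.primeCompl N')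
          (⟨σ x, hmem' x hx⟩ : 𝔮.primeCompl))
      have heq : ⇑(algebraMap B (Module.End B (LocalizedModule 𝔮.primeCompl N')) x) =
          ⇑(algebraMap B' (Module.End B' (LocalizedModule 𝔮.primeCompl N')) (σ x)) := by
        funext y
        rw [Module.algebraMap_end_apply, Module.algebraMap_end_apply, hsm]
      change Function.Bijective ⇑(algebraMap B (Module.End B (LocalizedModule 𝔮.primeCompl N')) x)
      rw [heq]
      exact hu
    · intro y
      obtain ⟨⟨n', s'⟩, hns⟩ := IsLocalizedModule.surj 𝔮.primeCompl
        (LocalizedModule.mkLinearMap 𝔮.primeCompl N') y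
      refine ⟨⟨g.symm n', ⟨σ.symm s', hmem s' s'.2⟩⟩, ?_⟩
      change σ.symm (s' : B') • y = f2 (g.symm n')
      rw [hf2, hsm, AddEquiv.apply_symm_apply, RingEquiv.apply_symm_apply]
      exact hns
    · intro x₁ x₂ h
      rw [hf2, hf2] at h
      obtain ⟨c, hc⟩ := IsLocalizedModule.exists_of_eq (S := 𝔮.primeCompl) h
      refine ⟨⟨σ.symm c, hmem c c.2⟩, ?_⟩
      apply g.injective
      change g (σ.symm (c : B') • x₁) = g (σ.symm (c : B') • x₂)
      rw [hg, hg, RingEquiv.apply_symm_apply]
      exact hc
  obtain ⟨h1, h2⟩ := FinDimDepth.transport_aux (𝔮.comap (σ : B →+* B')) N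
    (Localization.AtPrime 𝔮) (LocalizedModule 𝔮.primeCompl N') f2
  exact ⟨h1.symm, h2.symm⟩

end Semilinear

end Groth.Agent.Lib.Helper5.FBC
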