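import Mathlib
import Groth.Agent.Lib.Helper5FBC
import Groth.Agent.Lib.Helper5Coact
import Groth.Agent.Lib.Helper5TensorFieldsCM
import Groth.Agent.Lib.Helper28LocLoc

/-!
# Helper5GrLoc: depth and dimension of `M_p` versus `M_{p*}` for graded modules

For an `ι`-graded Noetherian ring `R` (`ι` a finitely generated free abelian group), a finite graded
module `M`, a prime `p` with homogeneous core `p*` (assumed prime) and `d = ht (p/p*)`:
`depth M_p = depth M_{p*} + d` and `dim M_p = dim M_{p*} + d`.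

Proof: base change along `R → R[ι]` at the prime `P = p R[ι]` (fibre a field) and at
`tau⁻¹ P`, which lies over `p*` (fibre Cohen–Macaulay, a localization of `κ(p*)[ι]`), transported
by the twist automorphism; the fibre dimension is computed with the module `R/p*`.
-/

set_option autoImplicit false
universe u

namespace Groth.Agent.Lib.Helper5.GrLoc
open Groth.Agent.Lib.Helper28 Groth.Agent.Lib.Helper5 Groth.Agent.Lib.Helper5.GenDepth
  Groth.Agent.Lib.Helper5.FBC Groth.Agent.Lib.Helper5.Coact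
  Groth.Agent.Lib.Helper5.TensorFieldsCM TensorProduct

section LaurentCM

/-- `ℤ^(n+1) ≃ ℤ × ℤ^n`. -/
def finSuccAddEquiv (n : ℕ) : (Fin (n + 1) → ℤ) ≃+ ℤ × (Fin n → ℤ) where
  toFun f := (f 0, fun i => f i.succ)
  invFun p := Fin.cons p.1 p.2
  left_inv f := Fin.cons_self_tail f
  right_inv p := Prod.ext (by simp) (by funext i; simp)
  map_add' _ _ := rfl

theorem cm_addMonoidAlgebra_fin (n : ℕ) :
    ∀ (A : Type u) [CommRing A] [LocCoh.IsCohenMacaulayRing A],
      LocCoh.IsCohenMacaulayRing (AddMonoidAlgebra A (Fin n → ℤ)) := by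
  induction n with
  | zero =>
    intro A _ _
    exact isCohenMacaulayRing_of_ringEquiv
      (AddMonoidAlgebra.uniqueRingEquiv (R := A) (Fin 0 → ℤ)).symm
  | succ n ih =>
    intro A _ _
    haveI := ih A
    haveI hpoly : LocCoh.IsCohenMacaulayRing
        (Polynomial (AddMonoidAlgebra A (Fin n → ℤ))) := isCohenMacaulayRing_polynomial
    haveI hlaur : LocCoh.IsCohenMacaulayRing
        (LaurentPolynomial (AddMonoidAlgebra A (Fin n → ℤ))) :=
      isCohenMacaulayRing_of_isLocalization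
        (Submonoid.powers (Polynomial.X : Polynomial (AddMonoidAlgebra A (Fin n → ℤ)))) _
    exact isCohenMacaulayRing_of_ringEquiv
      ((AddMonoidAlgebra.domCongr A A (finSuccAddEquiv n)).toRingEquiv.trans
        AddMonoidAlgebra.curryRingEquiv).symm

theorem cm_addMonoidAlgebra (ι : Type) [AddCommGroup ι] [Module.Free ℤ ι] [Module.Finite ℤ ι]
    (A : Type u) [CommRing A] [LocCoh.IsCohenMacaulayRing A] :
    LocCoh.IsCohenMacaulayRing (AddMonoidAlgebra A ι) := by
  let e : ι ≃+ (Fin (Module.finrank ℤ ι) → ℤ) := (Module.finBasis ℤ ι).equivFun.toAddEquiv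
  haveI := cm_addMonoidAlgebra_fin (Module.finrank ℤ ι) A
  exact isCohenMacaulayRing_of_ringEquiv (AddMonoidAlgebra.domCongr A A e).toRingEquiv.symm

theorem uniqueSums (ι : Type) [AddCommGroup ι] [Module.Free ℤ ι] [Module.Finite ℤ ι] :
    UniqueSums ι := by
  let e : ι ≃+ (Fin (Module.finrank ℤ ι) → ℤ) := (Module.finBasis ℤ ι).equivFun.toAddEquiv
  exact e.uniqueSums_iff.mpr inferInstance

theorem isNoetherianRing_addMonoidAlgebra (ι : Type) [AddCommGroup ι] [Module.Finite ℤ ι]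
    (R : Type u) [CommRing R] [IsNoetherianRing R] : IsNoetherianRing (AddMonoidAlgebra R ι) := by
  haveI : AddMonoid.FG ι :=
    AddGroup.fg_iff_addMonoid_fg.mp (Module.Finite.iff_addGroup_fg.mp inferInstance)
  haveI := AddMonoidAlgebra.finiteType_of_fg R ι
  exact Algebra.FiniteType.isNoetherianRing R (AddMonoidAlgebra R ι)

theorem cm_fibLocRing (ι : Type) [AddCommGroup ι] [Module.Free ℤ ι] [Module.Finite ℤ ι]
    (R : Type u) [CommRing R] [IsNoetherianRing R]
    (Q : Ideal (AddMonoidAlgebra R ι)) [Q.IsPrime] :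
    LocCoh.IsCohenMacaulayLocalRing (EGA4.FibLocRing R (AddMonoidAlgebra R ι) Q) := by
  haveI := isNoetherianRing_addMonoidAlgebra ι R
  refine forall_isCohenMacaulayRing_fiber_iff.mp ?_ Q
  intro p hp
  haveI := isCohenMacaulayRing_of_field p.ResidueField
  haveI := cm_addMonoidAlgebra ι p.ResidueField
  exact isCohenMacaulayRing_of_ringEquiv
    (AddMonoidAlgebra.scalarTensorEquiv R (M := ι) p.ResidueField).toRingEquiv.symm

end LaurentCM

section Main

variable {ι : Type} [AddCommGroup ι] [DecidableEq ι] [Module.Free ℤ ι] [Module.Finite ℤ ι]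
variable {R : Type u} [CommRing R] [IsNoetherianRing R] (𝒜 : ι → AddSubgroup R) [GradedRing 𝒜]

/-- The automorphism of `R[ι]/J R[ι]` induced by `tau`, for a homogeneous ideal `J`. -/
noncomputable def tau0 (J : Ideal R) (hJ : J.IsHomogeneous 𝒜) :
    (AddMonoidAlgebra R ι ⧸ J.map (algebraMap R (AddMonoidAlgebra R ι))) ≃+*
      (AddMonoidAlgebra R ι ⧸ J.map (algebraMap R (AddMonoidAlgebra R ι))) :=
  Ideal.quotientEquiv _ _ (tau 𝒜) (map_tau_eq 𝒜 J hJ).symm

omit [Module.Free ℤ ι] [Module.Finite ℤ ι] [IsNoetherianRing R] in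
theorem tau0_smul (J : Ideal R) (hJ : J.IsHomogeneous 𝒜) (s : AddMonoidAlgebra R ι)
    (y : AddMonoidAlgebra R ι ⧸ J.map (algebraMap R (AddMonoidAlgebra R ι))) :
    tau0 𝒜 J hJ (s • y) = tau 𝒜 s • tau0 𝒜 J hJ y := by
  obtain ⟨y', rfl⟩ := Ideal.Quotient.mk_surjective y
  have h1 : s • (Ideal.Quotient.mk (J.map (algebraMap R (AddMonoidAlgebra R ι))) y') =
      Ideal.Quotient.mk _ (s * y') := rfl
  rw [h1]
  unfold tau0
  rw [Ideal.quotientEquiv_mk, Ideal.quotientEquiv_mk, map_mul]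
  rfl

variable (p : Ideal R) [p.IsPrime] [hcore : (Ideal.homogeneousCore 𝒜 p).toIdeal.IsPrime]

/-- The two base change formulas compared through the twist. -/
theorem core (𝔓 : Ideal (AddMonoidAlgebra R ι)) [𝔓.IsPrime]
    (h𝔓 : 𝔓 = p.map (algebraMap R (AddMonoidAlgebra R ι)))
    (𝔓' : Ideal (AddMonoidAlgebra R ι)) [𝔓'.IsPrime]
    (h𝔓' : 𝔓' = 𝔓.comap ((tau 𝒜 : AddMonoidAlgebra R ι ≃+* AddMonoidAlgebra R ι) :
      AddMonoidAlgebra R ι →+* AddMonoidAlgebra R ι))
    [IsNoetherianRing (AddMonoidAlgebra R ι)]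
    [IsLocalRing (EGA4.FibLocRing R (AddMonoidAlgebra R ι) 𝔓)]
    [IsLocalRing (EGA4.FibLocRing R (AddMonoidAlgebra R ι) 𝔓')]
    (X : Type u) [AddCommGroup X] [Module R X] [Module.Finite R X]
    (Y : Type u) [AddCommGroup Y] [Module (AddMonoidAlgebra R ι) Y]
    (e : Y ≃ₗ[AddMonoidAlgebra R ι] (AddMonoidAlgebra R ι) ⊗[R] X)
    (T : Y ≃+ Y) (hT : ∀ (s : AddMonoidAlgebra R ι) (y : Y), T (s • y) = tau 𝒜 s • T y) :
    dep p X + LocCoh.depth (EGA4.FibLocRing R (AddMonoidAlgebra R ι) 𝔓)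
        (EGA4.FibLocRing R (AddMonoidAlgebra R ι) 𝔓) =
      dep (Ideal.homogeneousCore 𝒜 p).toIdeal X +
        LocCoh.depth (EGA4.FibLocRing R (AddMonoidAlgebra R ι) 𝔓')
          (EGA4.FibLocRing R (AddMonoidAlgebra R ι) 𝔓') ∧
    dm p X + ringKrullDim (EGA4.FibLocRing R (AddMonoidAlgebra R ι) 𝔓) =
      dm (Ideal.homogeneousCore 𝒜 p).toIdeal X +
        ringKrullDim (EGA4.FibLocRing R (AddMonoidAlgebra R ι) 𝔓') := by
  haveI : Module.Finite (AddMonoidAlgebra R ι) Y := Module.Finite.equiv e.symm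
  have hp : p = 𝔓.comap (algebraMap R (AddMonoidAlgebra R ι)) := by
    rw [h𝔓, comap_map_eq]
  have hp' : (Ideal.homogeneousCore 𝒜 p).toIdeal =
      𝔓'.comap (algebraMap R (AddMonoidAlgebra R ι)) := by
    rw [h𝔓', h𝔓, comap_tau_comap]
  obtain ⟨a1, a2⟩ := fbc 𝔓 p hp X
  obtain ⟨b1, b2⟩ := fbc 𝔓' (Ideal.homogeneousCore 𝒜 p).toIdeal hp' X
  obtain ⟨c1, c2⟩ := dep_dm_congr 𝔓 e
  obtain ⟨d1, d2⟩ := dep_dm_congr 𝔓' e
  obtain ⟨t1, t2⟩ := semilinear_transport (tau 𝒜) T hT 𝔓 𝔓' h𝔓'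
  exact ⟨by rw [← a1, ← c1, ← t1, d1, b1], by rw [← a2, ← c2, ← t2, d2, b2]⟩

omit [DecidableEq ι] [Module.Free ℤ ι] [Module.Finite ℤ ι] in
theorem enat_cancel {a b c : ℕ∞} (hc : c ≠ ⊤) (h : a + c = b + c) : a = b := by
  have := ENat.add_right_injective_of_ne_top hc
  apply this
  change c + a = c + b
  rw [add_comm c a, add_comm c b, h]

theorem main (M : Type u) [AddCommGroup M] [Module R M] (ℳ : ι → AddSubgroup M)
    [DirectSum.Decomposition ℳ] [SetLike.GradedSMul 𝒜 ℳ] [Module.Finite R M]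
    (d : ℕ) (hd : (p.map (Ideal.Quotient.mk (Ideal.homogeneousCore 𝒜 p).toIdeal)).height = d) :
    dep p M = dep (Ideal.homogeneousCore 𝒜 p).toIdeal M + d ∧
    (Nontrivial (LocalizedModule p.primeCompl M) →
      dm p M = dm (Ideal.homogeneousCore 𝒜 p).toIdeal M + ((d : ℕ∞) : WithBot ℕ∞)) := by
  haveI hN := isNoetherianRing_addMonoidAlgebra ι R
  haveI hU := uniqueSums ι
  haveI h𝔓prime : (p.map (algebraMap R (AddMonoidAlgebra R ι))).IsPrime := map_isPrime p
  haveI h𝔓'prime : ((p.map (algebraMap R (AddMonoidAlgebra R ι))).comap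
      ((tau 𝒜 : AddMonoidAlgebra R ι ≃+* AddMonoidAlgebra R ι) :
        AddMonoidAlgebra R ι →+* AddMonoidAlgebra R ι)).IsPrime := Ideal.comap_isPrime _ _
  haveI hl1 := isLocalRing_fibLocRing (A := R) (p.map (algebraMap R (AddMonoidAlgebra R ι)))
  haveI hl2 := isLocalRing_fibLocRing (A := R)
    ((p.map (algebraMap R (AddMonoidAlgebra R ι))).comap
      ((tau 𝒜 : AddMonoidAlgebra R ι ≃+* AddMonoidAlgebra R ι) :
        AddMonoidAlgebra R ι →+* AddMonoidAlgebra R ι))
  have hle : (Ideal.homogeneousCore 𝒜 p).toIdeal ≤ p := Ideal.toIdeal_homogeneousCore_le 𝒜 p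
  have hhom : (Ideal.homogeneousCore 𝒜 p).toIdeal.IsHomogeneous 𝒜 :=
    (Ideal.homogeneousCore 𝒜 p).isHomogeneous
  -- the comparison for `M` and for `R/p*`
  obtain ⟨m1, m2⟩ := core 𝒜 p _ rfl _ rfl M ((AddMonoidAlgebra R ι) ⊗[R] M)
    (LinearEquiv.refl _ _) (tauM 𝒜 ℳ) (tauM_smul 𝒜 ℳ)
  obtain ⟨q1, q2⟩ := core 𝒜 p _ rfl _ rfl (R ⧸ (Ideal.homogeneousCore 𝒜 p).toIdeal)
    (AddMonoidAlgebra R ι ⧸
      (Ideal.homogeneousCore 𝒜 p).toIdeal.map (algebraMap R (AddMonoidAlgebra R ι)))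
    (Algebra.TensorProduct.quotIdealMapEquivTensorQuot (AddMonoidAlgebra R ι)
      (Ideal.homogeneousCore 𝒜 p).toIdeal).toLinearEquiv
    (tau0 𝒜 _ hhom).toAddEquiv (tau0_smul 𝒜 _ hhom)
  obtain ⟨z1, z2⟩ := dm_dep_quotient_of_radical (Ideal.homogeneousCore 𝒜 p).toIdeal
    (Ideal.homogeneousCore 𝒜 p).toIdeal (Ideal.IsPrime.radical inferInstance)
  have hdm : dm p (R ⧸ (Ideal.homogeneousCore 𝒜 p).toIdeal) = ((d : ℕ∞) : WithBot ℕ∞) := by
    rw [(dep_dm_quotient p (Ideal.homogeneousCore 𝒜 p).toIdeal).2,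
      Module.supportDim_quotient_eq_ringKrullDim,
      ringKrullDim_localization_quotient_eq_height (Ideal.homogeneousCore 𝒜 p).toIdeal p hle, hd]
  -- the fibres are Cohen–Macaulay
  have cm1 := cm_fibLocRing ι R (p.map (algebraMap R (AddMonoidAlgebra R ι)))
  have cm2 := cm_fibLocRing ι R ((p.map (algebraMap R (AddMonoidAlgebra R ι))).comap
      ((tau 𝒜 : AddMonoidAlgebra R ι ≃+* AddMonoidAlgebra R ι) :
        AddMonoidAlgebra R ι →+* AddMonoidAlgebra R ι))
  have k1 := cm1.supportDim_eq_depth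
  have k2 := cm2.supportDim_eq_depth
  rw [Module.supportDim_self_eq_ringKrullDim] at k1 k2
  have hc : LocCoh.depth (EGA4.FibLocRing R (AddMonoidAlgebra R ι)
      (p.map (algebraMap R (AddMonoidAlgebra R ι))))
      (EGA4.FibLocRing R (AddMonoidAlgebra R ι)
      (p.map (algebraMap R (AddMonoidAlgebra R ι)))) ≠ ⊤ := by
    intro h
    have h1 : ringKrullDim (EGA4.FibLocRing R (AddMonoidAlgebra R ι)
      (p.map (algebraMap R (AddMonoidAlgebra R ι)))) ≠ ⊤ := ringKrullDim_ne_top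
    rw [k1, h] at h1
    exact h1 rfl
  rw [k1, k2] at m2 q2
  rw [hdm, z2, zero_add, ← WithBot.coe_add] at q2
  have q2' := WithBot.coe_injective q2
  rw [← q2'] at m1 m2
  have hdepth : dep p M = dep (Ideal.homogeneousCore 𝒜 p).toIdeal M + d := by
    apply enat_cancel hc
    rw [m1, add_assoc]
  refine ⟨hdepth, fun hnt => ?_⟩
  have hsupp : (⟨p, inferInstance⟩ : PrimeSpectrum R) ∈ Module.support R M :=
    Module.mem_support_iff.mpr hnt
  have hne := dep_ne_top p M hsupp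
  haveI hnt' : Nontrivial (LocalizedModule (Ideal.homogeneousCore 𝒜 p).toIdeal.primeCompl M) := by
    by_contra hcon
    rw [not_nontrivial_iff_subsingleton] at hcon
    apply hne
    rw [hdepth]
    have : dep (Ideal.homogeneousCore 𝒜 p).toIdeal M = ⊤ := depth_eq_top_of_subsingleton
    rw [this, top_add]
  obtain ⟨a, ha⟩ := WithBot.ne_bot_iff_exists.mp
    (Module.supportDim_ne_bot_of_nontrivial (R := Localization.AtPrime p)
      (M := LocalizedModule p.primeCompl M))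
  obtain ⟨b, hb⟩ := WithBot.ne_bot_iff_exists.mp
    (Module.supportDim_ne_bot_of_nontrivial
      (R := Localization.AtPrime (Ideal.homogeneousCore 𝒜 p).toIdeal)
      (M := LocalizedModule (Ideal.homogeneousCore 𝒜 p).toIdeal.primeCompl M))
  have ha' : dm p M = (a : WithBot ℕ∞) := ha.symm
  have hb' : dm (Ideal.homogeneousCore 𝒜 p).toIdeal M = (b : WithBot ℕ∞) := hb.symm
  rw [ha', hb', ← WithBot.coe_add, ← WithBot.coe_add] at m2
  have m2' := WithBot.coe_injective m2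
  have hab : a = b + d := by
    apply enat_cancel hc
    rw [m2', add_assoc]
  rw [ha', hb', hab, WithBot.coe_add]

end Main

end Groth.Agent.Lib.Helper5.GrLoc
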