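import Mathlib
import Groth.Agent.Lib.Helper8LCDepth
import Groth.Agent.Lib.Helper8LC2
import Groth.Agent.Lib.Helper28DepthMore
import Groth.Agent.Lib.Helper28FGDim
import Groth.Agent.Lib.Helper28PolyCM
import Groth.Agent.Lib.Helper28Unmixed
import Groth.Agent.Lib.Helper28DepthBC
import Groth.Agent.Lib.Helper13FreeRes
import Groth.Agent.Lib.Helper23GrSyz

/-!
# Basic double links and local cohomology (helper8)

For ideals `J ≤ I` and `f` with `J : f = J`, put `Ĩ = J + f I`.  The exact sequences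
`0 → R/J → R/J → R/(J + fR) → 0` and `0 → R/I → R/Ĩ → R/(J + fR) → 0` (both first maps given by
multiplication by `f`) show `H^i_m(R/I) ≅ H^i_m(R/Ĩ)` whenever `H^k_m(R/J) = 0` for `k ≤ i + 1`.
-/

set_option autoImplicit false
universe u
open CategoryTheory CategoryTheory.Limits

namespace Groth.Agent.Lib.Helper8.DoubleLink

open Groth.Agent.Lib.Helper8.LC Groth.Agent.Lib.Helper28

section SES

variable {R : Type u} [CommRing R] (J I : Ideal R) (f : R)

/-- the basic double link ideal `J + f I`. -/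
abbrev Itil : Ideal R := J ⊔ Ideal.span {f} * I

/-- the ideal `J + f R`. -/
abbrev L : Ideal R := J ⊔ Ideal.span {f}

theorem Itil_le_L : Itil J I f ≤ L J f :=
  sup_le le_sup_left (le_trans Ideal.mul_le_left le_sup_right)

/-- multiplication by `f` on `R/J`. -/
noncomputable def u₁ : (R ⧸ J) →ₗ[R] (R ⧸ J) := LinearMap.lsmul R (R ⧸ J) f

/-- the projection `R/J → R/(J + fR)`. -/
noncomputable def v₁ : (R ⧸ J) →ₗ[R] (R ⧸ L J f) :=
  Submodule.mapQ J (L J f) LinearMap.id (le_sup_left : J ≤ L J f)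

/-- multiplication by `f`, `R/I → R/Ĩ`. -/
noncomputable def u₂ : (R ⧸ I) →ₗ[R] (R ⧸ Itil J I f) :=
  Submodule.mapQ I (Itil J I f) (LinearMap.lsmul R R f) (by
    intro b hb
    show f * b ∈ Itil J I f
    exact Ideal.mem_sup_right (Ideal.mul_mem_mul (Ideal.mem_span_singleton_self f) hb))

/-- the projection `R/Ĩ → R/(J + fR)`. -/
noncomputable def v₂ : (R ⧸ Itil J I f) →ₗ[R] (R ⧸ L J f) :=
  Submodule.mapQ (Itil J I f) (L J f) LinearMap.id (Itil_le_L J I f)

@[simp] theorem u₁_mk (c : R) : u₁ J f (Ideal.Quotient.mk J c) = Ideal.Quotient.mk J (f * c) := rfl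
@[simp] theorem v₁_mk (c : R) : v₁ J f (Ideal.Quotient.mk J c) = Ideal.Quotient.mk (L J f) c := rfl
@[simp] theorem u₂_mk (c : R) :
    u₂ J I f (Ideal.Quotient.mk I c) = Ideal.Quotient.mk (Itil J I f) (f * c) := rfl
@[simp] theorem v₂_mk (c : R) :
    v₂ J I f (Ideal.Quotient.mk (Itil J I f) c) = Ideal.Quotient.mk (L J f) c := rfl

theorem v₁_surjective : Function.Surjective (v₁ J f) := by
  intro y
  obtain ⟨c, rfl⟩ := Ideal.Quotient.mk_surjective y
  exact ⟨Ideal.Quotient.mk J c, rfl⟩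

theorem v₂_surjective : Function.Surjective (v₂ J I f) := by
  intro y
  obtain ⟨c, rfl⟩ := Ideal.Quotient.mk_surjective y
  exact ⟨Ideal.Quotient.mk _ c, rfl⟩

variable (hcolon : ∀ c, f * c ∈ J → c ∈ J)

include hcolon in
theorem u₁_injective : Function.Injective (u₁ J f) := by
  rw [injective_iff_map_eq_zero]
  intro x hx
  obtain ⟨c, rfl⟩ := Ideal.Quotient.mk_surjective x
  rw [u₁_mk, Ideal.Quotient.eq_zero_iff_mem] at hx
  rw [Ideal.Quotient.eq_zero_iff_mem]
  exact hcolon c hx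

theorem mem_L_iff (a : R) : a ∈ L J f ↔ ∃ j ∈ J, ∃ r : R, j + r * f = a := by
  rw [Submodule.mem_sup]
  constructor
  · rintro ⟨j, hj, z, hz, rfl⟩
    obtain ⟨r, rfl⟩ := Ideal.mem_span_singleton'.mp hz
    exact ⟨j, hj, r, rfl⟩
  · rintro ⟨j, hj, r, rfl⟩
    exact ⟨j, hj, r * f, Ideal.mem_span_singleton'.mpr ⟨r, rfl⟩, rfl⟩

theorem exact₁ : Function.Exact (u₁ J f) (v₁ J f) := by
  intro y
  obtain ⟨a, rfl⟩ := Ideal.Quotient.mk_surjective y
  rw [v₁_mk, Ideal.Quotient.eq_zero_iff_mem, mem_L_iff]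
  constructor
  · rintro ⟨j, hj, r, rfl⟩
    refine ⟨Ideal.Quotient.mk J r, ?_⟩
    rw [u₁_mk, map_add, Ideal.Quotient.eq_zero_iff_mem.mpr hj, zero_add, mul_comm]
  · rintro ⟨x, hx⟩
    obtain ⟨c, rfl⟩ := Ideal.Quotient.mk_surjective x
    rw [u₁_mk, Ideal.Quotient.eq, ] at hx
    refine ⟨a - f * c, ?_, c, by ring⟩
    have := J.neg_mem hx
    rwa [neg_sub] at this

variable (hJI : J ≤ I)

include hcolon hJI in
theorem u₂_injective : Function.Injective (u₂ J I f) := by
  rw [injective_iff_map_eq_zero]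
  intro x hx
  obtain ⟨b, rfl⟩ := Ideal.Quotient.mk_surjective x
  rw [u₂_mk, Ideal.Quotient.eq_zero_iff_mem, Submodule.mem_sup] at hx
  obtain ⟨j, hj, z, hz, hjz⟩ := hx
  obtain ⟨i', hi', rfl⟩ := Ideal.mem_span_singleton_mul.mp hz
  rw [Ideal.Quotient.eq_zero_iff_mem]
  have h1 : f * (b - i') ∈ J := by
    have : f * (b - i') = j := by rw [mul_sub, ← hjz]; ring
    rw [this]; exact hj
  have h2 := hJI (hcolon _ h1)
  have : b = (b - i') + i' := by ring
  rw [this]
  exact I.add_mem h2 hi'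

theorem exact₂ : Function.Exact (u₂ J I f) (v₂ J I f) := by
  intro y
  obtain ⟨a, rfl⟩ := Ideal.Quotient.mk_surjective y
  rw [v₂_mk, Ideal.Quotient.eq_zero_iff_mem, mem_L_iff]
  constructor
  · rintro ⟨j, hj, r, rfl⟩
    refine ⟨Ideal.Quotient.mk I r, ?_⟩
    rw [u₂_mk, map_add,
      Ideal.Quotient.eq_zero_iff_mem.mpr (Ideal.mem_sup_left hj : j ∈ Itil J I f), zero_add,
      mul_comm]
  · rintro ⟨x, hx⟩
    obtain ⟨c, rfl⟩ := Ideal.Quotient.mk_surjective x
    rw [u₂_mk, Ideal.Quotient.eq, Submodule.mem_sup] at hx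
    obtain ⟨j, hj, z, hz, hjz⟩ := hx
    obtain ⟨i', hi', rfl⟩ := Ideal.mem_span_singleton_mul.mp hz
    refine ⟨-j, J.neg_mem hj, c - i', ?_⟩
    have : a = f * c - (j + f * i') := by rw [hjz]; ring
    rw [this]; ring

end SES

section LES

variable {R : Type u} [CommRing R] (m : Ideal R) (J I : Ideal R) (f : R)
  (hcolon : ∀ c, f * c ∈ J → c ∈ J) (hJI : J ≤ I) (D : ℕ)
  (hvan : ∀ k < D, ∀ y : (localCohomology m k).obj (ModuleCat.of R (R ⧸ J)), y = 0)

include hcolon hvan in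
theorem H_quot_L_eq_zero (k : ℕ) (hk : k + 1 < D)
    (z : (localCohomology m k).obj (ModuleCat.of R (R ⧸ L J f))) : z = 0 := by
  have hS := Sfg_shortExact (u₁ J f) (v₁ J f) (u₁_injective J f hcolon) (v₁_surjective J f)
    (exact₁ J f)
  obtain ⟨y, hy⟩ := H_exact₃ m k (Sfg (u₁ J f) (v₁ J f) (exact₁ J f)) hS z (hvan (k + 1) hk _)
  rw [← hy, hvan k (by omega) y, map_zero]

include hcolon hJI hvan in
theorem H_map_u₂_bijective (i : ℕ) (hi : i + 1 < D) :
    Function.Bijective ((localCohomology m i).map (ModuleCat.ofHom (u₂ J I f))).hom := by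
  have hS := Sfg_shortExact (u₂ J I f) (v₂ J I f) (u₂_injective J I f hcolon hJI)
    (v₂_surjective J I f) (exact₂ J I f)
  constructor
  · rw [injective_iff_map_eq_zero]
    intro x hx
    cases i with
    | zero =>
      apply Φ_injective m (ModuleCat.of R (R ⧸ I))
      rw [map_zero]
      have h2 := Φ_naturality m (ModuleCat.ofHom (u₂ J I f)) x
      have hx' : ((localCohomology m 0).map (ModuleCat.ofHom (u₂ J I f))) x = 0 := hx
      rw [hx', map_zero] at h2
      exact u₂_injective J I f hcolon hJI (by rw [map_zero]; exact h2.symm)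
    | succ j =>
      obtain ⟨z, hz⟩ := H_exact₁ m j (Sfg (u₂ J I f) (v₂ J I f) (exact₂ J I f)) hS x hx
      have hz0 : z = 0 := H_quot_L_eq_zero m J f hcolon D hvan j (by omega) z
      rw [← hz, hz0, map_zero]
  · intro y
    have h0 : (localCohomology m i).map (ModuleCat.ofHom (v₂ J I f)) y = 0 :=
      H_quot_L_eq_zero m J f hcolon D hvan i hi _
    obtain ⟨x, hx⟩ := H_exact₂ m i (Sfg (u₂ J I f) (v₂ J I f) (exact₂ J I f)) hS y h0
    exact ⟨x, hx⟩

include hcolon hJI hvan in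
/-- the basic double link isomorphism on local cohomology. -/
theorem nonempty_H_equiv (i : ℕ) (hi : i + 1 < D) :
    Nonempty (LocCoh.H m i (R ⧸ (J ⊔ Ideal.span {f} * I)) ≃ₗ[R] LocCoh.H m i (R ⧸ I)) :=
  ⟨(LinearEquiv.ofBijective ((localCohomology m i).map (ModuleCat.ofHom (u₂ J I f))).hom
    (H_map_u₂_bijective m J I f hcolon hJI D hvan i hi)).symm⟩

end LES

section Poly

variable (K : Type u) [Field K]

/-- a proper homogeneous ideal of a polynomial ring over a field lies in the irrelevant ideal. -/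
theorem le_irrel_of_isHomogeneous {σ : Type} (J : Ideal (MvPolynomial σ K))
    (hJ : J.IsHomogeneous (GrSyz.stdGr K σ)) (hne : J ≠ ⊤) :
    J ≤ (GrSyz.irrel (GrSyz.stdGr K σ)).toIdeal := by
  classical
  intro a ha
  rw [← DirectSum.sum_support_decompose (GrSyz.stdGr K σ) a]
  refine Ideal.sum_mem _ fun i _ => ?_
  by_contra hnot
  have hu := Groth.Agent.Lib.Helper23.isUnit_of_mem_stdGr_of_notMem_irrel
    (SetLike.coe_mem (DirectSum.decompose (GrSyz.stdGr K σ) a i)) hnot
  exact hne (Ideal.eq_top_of_isUnit_mem _ (hJ i ha) hu)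

/-- a homogeneous ideal of height `h` lies in a homogeneous prime of height `h`, which lies in the
irrelevant ideal. -/
theorem exists_prime_le_irrel {σ : Type} (J : Ideal (MvPolynomial σ K))
    (hJ : J.IsHomogeneous (GrSyz.stdGr K σ)) (h : ℕ) (hJh : J.height = h) :
    ∃ p : Ideal (MvPolynomial σ K), p.IsPrime ∧ J ≤ p ∧ p.height = h ∧
      p ≤ (GrSyz.irrel (GrSyz.stdGr K σ)).toIdeal := by
  obtain ⟨p0, hp0, hJp0, hp0h⟩ := Ideal.exists_isPrime_height_eq hJh
  refine ⟨(p0.homogeneousCore (GrSyz.stdGr K σ)).toIdeal, Ideal.IsPrime.homogeneousCore hp0, ?_, ?_,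
    ?_⟩
  · exact hJ.toIdeal_homogeneousCore_eq_self.symm.trans_le (Ideal.homogeneousCore_mono _ hJp0)
  · apply le_antisymm
    · rw [← hp0h]
      exact Ideal.height_mono (Ideal.toIdeal_homogeneousCore_le _ p0)
    · rw [← hJh]
      exact Ideal.height_mono
        (hJ.toIdeal_homogeneousCore_eq_self.symm.trans_le (Ideal.homogeneousCore_mono _ hJp0))
  · exact le_irrel_of_isHomogeneous K _ (Ideal.homogeneousCore _ p0).isHomogeneous
      (Ideal.IsPrime.homogeneousCore hp0).ne_top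

variable (n : ℕ)

theorem depth_quot (J : Ideal (MvPolynomial (Fin (n + 1)) K))
    (hJ : J.IsHomogeneous (GrSyz.stdGr K (Fin (n + 1)))) (h : ℕ) (hJh : J.height = h)
    [hCM : LocCoh.IsCohenMacaulayRing (MvPolynomial (Fin (n + 1)) K ⧸ J)] :
    (GrSyz.irrel (GrSyz.stdGr K (Fin (n + 1)))).toIdeal •
        (⊤ : Submodule (MvPolynomial (Fin (n + 1)) K) (MvPolynomial (Fin (n + 1)) K ⧸ J)) ≠ ⊤ ∧
      ((n + 1 - h : ℕ) : ℕ∞) ≤ LocCoh.idealDepth
        (GrSyz.irrel (GrSyz.stdGr K (Fin (n + 1)))).toIdeal (MvPolynomial (Fin (n + 1)) K ⧸ J) := by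
  set m := (GrSyz.irrel (GrSyz.stdGr K (Fin (n + 1)))).toIdeal with hm_def
  have hm : m.IsMaximal := Groth.Agent.Helper13FreeRes.isMaximal_irrel_stdGr K (Fin (n + 1))
  obtain ⟨p, hp, hJp, hph, hpm⟩ := exists_prime_le_irrel K J hJ h hJh
  have hJm : J ≤ m := hJp.trans hpm
  have hK : LocCoh.IsCohenMacaulayRing K := isCohenMacaulayRing_of_field K
  have hR : LocCoh.IsCohenMacaulayRing (MvPolynomial (Fin (n + 1)) K) :=
    isCohenMacaulayRing_mvPolynomial_fin (n + 1)
  set q : Ideal (MvPolynomial (Fin (n + 1)) K ⧸ J) := m.map (Ideal.Quotient.mk J) with hq_def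
  have hcomap : q.comap (Ideal.Quotient.mk J) = m := by
    rw [hq_def, Ideal.comap_map_of_surjective _ Ideal.Quotient.mk_surjective,
      ← RingHom.ker_eq_comap_bot, Ideal.mk_ker]
    exact sup_eq_left.mpr hJm
  have hq : q.IsMaximal := by
    rcases Ideal.map_eq_top_or_isMaximal_of_surjective (Ideal.Quotient.mk J)
      Ideal.Quotient.mk_surjective hm with h' | h'
    · exfalso
      rw [← hq_def] at h'
      rw [h', Ideal.comap_top] at hcomap
      exact hm.ne_top hcomap.symm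
    · exact h'
  have hqp : q.IsPrime := hq.isPrime
  have hPmax : (q.comap (Ideal.Quotient.mk J)).IsMaximal := by rw [hcomap]; exact hm
  have hpP : p ≤ q.comap (Ideal.Quotient.mk J) := by rw [hcomap]; exact hpm
  have key := height_comap_eq_height_add_height_map J q
  have hP := height_eq_of_isMaximal_mvPolynomial_fin K (n + 1) _ hPmax
  have h3 : (J.map (algebraMap (MvPolynomial (Fin (n + 1)) K)
      (Localization.AtPrime (q.comap (Ideal.Quotient.mk J))))).height ≤ h := by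
    calc _ ≤ (p.map (algebraMap (MvPolynomial (Fin (n + 1)) K)
          (Localization.AtPrime (q.comap (Ideal.Quotient.mk J))))).height :=
            Ideal.height_mono (Ideal.map_mono hJp)
      _ = p.height := IsLocalization.height_map_of_disjoint
            (q.comap (Ideal.Quotient.mk J)).primeCompl p
            (Set.disjoint_left.mpr fun x hx hxp => hx (hpP hxp))
      _ = h := hph
  have hqh : ((n + 1 - h : ℕ) : ℕ∞) ≤ q.height := by
    have h4 : ((n + 1 : ℕ) : ℕ∞) ≤ q.height + h := by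
      rw [← hP, key]
      exact add_le_add le_rfl h3
    rw [ENat.natCast_sub, tsub_le_iff_right]
    exact h4
  have hqtop : q • (⊤ : Submodule (MvPolynomial (Fin (n + 1)) K ⧸ J)
      (MvPolynomial (Fin (n + 1)) K ⧸ J)) ≠ ⊤ := by
    rw [smul_eq_mul, Ideal.mul_top]
    exact hq.ne_top
  constructor
  · intro htop
    exact hqtop ((map_smul_top_eq_top_iff_restrictScalars (B := MvPolynomial (Fin (n + 1)) K ⧸ J)
      (M := MvPolynomial (Fin (n + 1)) K ⧸ J) m).mpr htop)
  · rw [idealDepth_restrictScalars_eq_idealDepth_map (B := MvPolynomial (Fin (n + 1)) K ⧸ J) m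
      (MvPolynomial (Fin (n + 1)) K ⧸ J)]
    have := idealDepth_self_eq_height_of_isCohenMacaulayRing hCM q hq.ne_top
    rw [show Ideal.map (algebraMap (MvPolynomial (Fin (n + 1)) K)
      (MvPolynomial (Fin (n + 1)) K ⧸ J)) m = q from rfl, this]
    exact hqh

/-- the statement of the basic double link theorem. -/
theorem main (h : ℕ) (J I : Ideal (MvPolynomial (Fin (n + 1)) K))
    (hJ : J.IsHomogeneous (GrSyz.stdGr K (Fin (n + 1)))) (hJI : J ≤ I) (hJh : J.height = h)
    [LocCoh.IsCohenMacaulayRing (MvPolynomial (Fin (n + 1)) K ⧸ J)]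
    (f : MvPolynomial (Fin (n + 1)) K) (hJf : J.colon {f} = J) (i : ℕ) (hi : i + h < n) :
    Nonempty (LocCoh.H (GrSyz.irrel (GrSyz.stdGr K (Fin (n + 1)))).toIdeal i
        (MvPolynomial (Fin (n + 1)) K ⧸ (J ⊔ Ideal.span {f} * I)) ≃ₗ[MvPolynomial (Fin (n + 1)) K]
      LocCoh.H (GrSyz.irrel (GrSyz.stdGr K (Fin (n + 1)))).toIdeal i
        (MvPolynomial (Fin (n + 1)) K ⧸ I)) := by
  obtain ⟨hIM, hdepth⟩ := depth_quot K n J hJ h hJh
  have hcolon : ∀ c, f * c ∈ J → c ∈ J := by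
    intro c hc
    rw [← hJf, Submodule.mem_colon_singleton, smul_eq_mul, mul_comm]
    exact hc
  refine nonempty_H_equiv _ J I f hcolon hJI (n + 1 - h) ?_ i (by omega)
  intro k hk y
  exact H_eq_zero_of_lt_depth _ (n + 1 - h) _ hIM hdepth k hk y

end Poly

end Groth.Agent.Lib.Helper8.DoubleLink
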