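import Mathlib
import Groth.Prelude.Def_CAlg
import Groth.Agent.Lib.Helper28DepthMore
import Groth.Agent.Lib.Helper28DepthCM
import Groth.Agent.Lib.Helper28LocLoc
import Groth.Agent.Lib.Helper28DepthBC
import Groth.Agent.Lib.Helper5GenDepth
import Groth.Agent.Lib.Helper5FinDimDepth
import Groth.Agent.Lib.Helper5GrLoc
import Groth.Agent.Lib.Helper13GrQuotMod
import Groth.Agent.Lib.Helper13FreeRes
import Groth.Agent.Lib.Helper29GrConv
import Groth.Agent.Lib.Helper8DoubleLink

/-!
# Globalizing the Cohen–Macaulay property of a cyclic module (helper25)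
-/

set_option autoImplicit false
universe u

namespace Groth.Agent.Lib.Helper25.GrGlob

open Groth.Agent.Lib.Helper28 Groth.Agent.Lib.Helper5 Groth.Agent.Lib.Helper5.GenDepth

variable {R : Type u} [CommRing R] [IsNoetherianRing R]

/-- prime-only version of the grade criterion -/
theorem isCohenMacaulayRing_of_forall_prime
    (h : ∀ p : Ideal R, p.IsPrime → p.height ≤ LocCoh.idealDepth p R) :
    LocCoh.IsCohenMacaulayRing R := by
  refine ⟨fun p hp => ?_⟩
  have h1 := h p hp
  have h2 : LocCoh.idealDepth p R ≤ LocCoh.depth (Localization.AtPrime p)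
      (LocalizedModule p.primeCompl R) := idealDepth_le_depth_localization p R le_rfl
  rw [depth_localizedModule_self] at h2
  have h3 : ((LocCoh.depth (Localization.AtPrime p) (Localization.AtPrime p) : ℕ∞) :
      WithBot ℕ∞) ≤ Module.supportDim (Localization.AtPrime p) (Localization.AtPrime p) :=
    Groth.Agent.Lib.Helper28.depth_le_supportDim
  refine { supportDim_eq_depth := le_antisymm ?_ h3 }
  rw [supportDim_localization_self]
  exact WithBot.coe_le_coe.mpr (h1.trans h2)

theorem dm_quotient_eq_height (I q : Ideal R) [q.IsPrime] (hIq : I ≤ q) :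
    dm q (R ⧸ I) = ((q.map (Ideal.Quotient.mk I)).height : WithBot ℕ∞) := by
  rw [(dep_dm_quotient q I).2, Module.supportDim_quotient_eq_ringKrullDim,
    ringKrullDim_localization_quotient_eq_height I q hIq]

/-- if `(R/I)_q` is a Cohen–Macaulay module for all primes `q ⊇ I`, then `R/I` is a
Cohen–Macaulay ring. -/
theorem isCohenMacaulayRing_quotient (I : Ideal R)
    (h : ∀ q : Ideal R, ∀ hq : q.IsPrime, I ≤ q → dm q (R ⧸ I) = ((dep q (R ⧸ I) : ℕ∞) : WithBot ℕ∞)) :
    LocCoh.IsCohenMacaulayRing (R ⧸ I) := by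
  apply isCohenMacaulayRing_of_forall_prime
  intro P hP
  have hq : (P.comap (Ideal.Quotient.mk I)).IsPrime := Ideal.comap_isPrime _ _
  have hmap : (P.comap (Ideal.Quotient.mk I)).map (algebraMap R (R ⧸ I)) = P :=
    Ideal.map_comap_of_surjective _ Ideal.Quotient.mk_surjective P
  rw [← hmap, ← idealDepth_restrictScalars_eq_idealDepth_map (P.comap (Ideal.Quotient.mk I)) (R ⧸ I),
    idealDepth_eq_iInf_depth_localization]
  apply le_iInf₂
  intro q' hq'
  have hIq' : I ≤ q'.asIdeal := by
    refine le_trans ?_ hq'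
    intro x hx
    rw [Ideal.mem_comap, Ideal.Quotient.eq_zero_iff_mem.mpr hx]
    exact P.zero_mem
  have h1 := h q'.asIdeal q'.2 hIq'
  rw [dm_quotient_eq_height I q'.asIdeal hIq'] at h1
  have h2 : (q'.asIdeal.map (Ideal.Quotient.mk I)).height = dep q'.asIdeal (R ⧸ I) :=
    WithBot.coe_injective h1
  show _ ≤ dep q'.asIdeal (R ⧸ I)
  rw [← h2, hmap]
  apply Ideal.height_mono
  rw [← hmap]
  exact Ideal.map_mono hq'

theorem dep_dm_congr_ideal' {q1 q2 : Ideal R} [q1.IsPrime] [q2.IsPrime] (h : q1 = q2)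
    (X : Type u) [AddCommGroup X] [Module R X] :
    dep q1 X = dep q2 X ∧ dm q1 X = dm q2 X := by
  subst h
  exact ⟨rfl, rfl⟩

/-- localizing a Cohen–Macaulay localization further -/
theorem dm_eq_dep_of_le (p s : Ideal R) [p.IsPrime] [s.IsPrime] (hps : p ≤ s) (M : Type u)
    [AddCommGroup M] [Module R M] [Module.Finite R M]
    (hM : LocCoh.IsCohenMacaulayModule (Localization.AtPrime s) (LocalizedModule s.primeCompl M))
    (hp : Nontrivial (LocalizedModule p.primeCompl M)) :
    dm p M = ((dep p M : ℕ∞) : WithBot ℕ∞) := by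
  have hdisj : Disjoint (s.primeCompl : Set R) (p : Set R) := by
    rw [Set.disjoint_left]
    intro x hx hxp
    exact hx (hps hxp)
  have hQ : (p.map (algebraMap R (Localization s.primeCompl))).IsPrime :=
    IsLocalization.isPrime_of_isPrime_disjoint s.primeCompl _ p inferInstance hdisj
  have hcomap : (p.map (algebraMap R (Localization s.primeCompl))).comap
      (algebraMap R (Localization s.primeCompl)) = p :=
    IsLocalization.comap_map_of_isPrime_disjoint s.primeCompl _ inferInstance hdisj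
  obtain ⟨t1, t2⟩ := FinDimDepth.transport s.primeCompl M
    (p.map (algebraMap R (Localization s.primeCompl)))
  have hprime2 : ((p.map (algebraMap R (Localization s.primeCompl))).comap
      (algebraMap R (Localization s.primeCompl))).IsPrime := Ideal.comap_isPrime _ _
  obtain ⟨c1, c2⟩ := dep_dm_congr_ideal' hcomap M
  have hsupp : (⟨p.map (algebraMap R (Localization s.primeCompl)), hQ⟩ :
      PrimeSpectrum (Localization s.primeCompl)) ∈
      Module.support (Localization s.primeCompl) (LocalizedModule s.primeCompl M) := by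
    rw [Module.mem_support_iff, ← Module.supportDim_ne_bot_iff_nontrivial
      (Localization.AtPrime (p.map (algebraMap R (Localization s.primeCompl))))]
    rw [t2]
    have h1 : dm p M ≠ ⊥ := by
      unfold dm
      rw [Module.supportDim_ne_bot_iff_nontrivial]
      exact hp
    rw [← c2] at h1
    exact h1
  have hcm := isCohenMacaulayModule_localization hM ⟨_, hQ⟩ hsupp
  unfold LocCoh.IsCohenMacaulayModule at hcm
  rw [t1, t2] at hcm
  rw [← c1, ← c2]
  exact hcm

section Graded

variable (K : Type u) [Field K] (σ : Type) [Finite σ]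

/-- the irrelevant ideal of the polynomial ring -/
noncomputable abbrev irr : Ideal (MvPolynomial σ K) := (GrSyz.irrel (GrSyz.stdGr K σ)).toIdeal

instance irr_isPrime : (irr K σ).IsPrime :=
  (Groth.Agent.Helper13FreeRes.isMaximal_irrel_stdGr K σ).isPrime

open Groth.Agent.Lib.Helper29GrConv Groth.Agent.Helper13GrQuotMod in
/-- a graded quotient of a polynomial ring that is Cohen–Macaulay at the irrelevant ideal
is Cohen–Macaulay -/
theorem isCohenMacaulayRing_of_cm_at_irr (I : Ideal (MvPolynomial σ K))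
    (hI : I.IsHomogeneous (GrSyz.stdGr K σ))
    (hCMm : LocCoh.IsCohenMacaulayModule (Localization.AtPrime (irr K σ))
      (LocalizedModule (irr K σ).primeCompl (MvPolynomial σ K ⧸ I))) :
    LocCoh.IsCohenMacaulayRing (MvPolynomial σ K ⧸ I) := by
  classical
  apply isCohenMacaulayRing_quotient
  intro q hq hIq
  have hI' : I ≠ ⊤ := fun h => hq.ne_top (top_le_iff.mp (h ▸ hIq))
  have hIhom : IsHomog (GrSyz.stdGr K σ) I := fun i x hx => hI i hx
  letI dec1 : DirectSum.Decomposition (quotGr (GrSyz.stdGr K σ) I) := quotDecomposition hIhom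
  haveI gs1 : SetLike.GradedSMul (GrSyz.stdGr K σ) (quotGr (GrSyz.stdGr K σ) I) :=
    quot_gradedSMul (GrSyz.stdGr K σ) I
  have hIhom' : I.IsHomogeneous (asGr (GrSyz.stdGr K σ)) := by
    intro i x hx
    rw [coe_decompose_asGr]
    exact hI i hx
  haveI hcore : (Ideal.homogeneousCore (asGr (GrSyz.stdGr K σ)) q).toIdeal.IsPrime :=
    Ideal.IsPrime.homogeneousCore hq
  have hcore_le : (Ideal.homogeneousCore (asGr (GrSyz.stdGr K σ)) q).toIdeal ≤ q :=
    Ideal.toIdeal_homogeneousCore_le _ q
  have hI_le_core : I ≤ (Ideal.homogeneousCore (asGr (GrSyz.stdGr K σ)) q).toIdeal :=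
    hIhom'.toIdeal_homogeneousCore_eq_self.symm.trans_le (Ideal.homogeneousCore_mono _ hIq)
  have hcore_hom : (Ideal.homogeneousCore (asGr (GrSyz.stdGr K σ)) q).toIdeal.IsHomogeneous
      (GrSyz.stdGr K σ) := by
    intro i x hx
    rw [← coe_decompose_asGr]
    exact (Ideal.homogeneousCore (asGr (GrSyz.stdGr K σ)) q).isHomogeneous i hx
  have hcore_le_m : (Ideal.homogeneousCore (asGr (GrSyz.stdGr K σ)) q).toIdeal ≤ irr K σ :=
    Groth.Agent.Lib.Helper8.DoubleLink.le_irrel_of_isHomogeneous K _ hcore_hom hcore.ne_top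
  have hprimeq : (q.map (Ideal.Quotient.mk
      (Ideal.homogeneousCore (asGr (GrSyz.stdGr K σ)) q).toIdeal)).IsPrime :=
    Ideal.map_isPrime_of_surjective Ideal.Quotient.mk_surjective (by rwa [Ideal.mk_ker])
  obtain ⟨dd, hdd⟩ := ENat.ne_top_iff_exists.mp (Ideal.height_ne_top hprimeq.ne_top)
  obtain ⟨g1, g2⟩ := Groth.Agent.Lib.Helper5.GrLoc.main (asGr (GrSyz.stdGr K σ)) q
    (MvPolynomial σ K ⧸ I) (asGr (quotGr (GrSyz.stdGr K σ) I)) dd hdd.symm
  have hsuppq : Nontrivial (LocalizedModule q.primeCompl (MvPolynomial σ K ⧸ I)) := by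
    rw [← Module.mem_support_iff (p := ⟨q, hq⟩), Module.mem_support_iff_of_finite,
      Ideal.annihilator_quotient]
    exact hIq
  have hsuppc : Nontrivial (LocalizedModule
      (Ideal.homogeneousCore (asGr (GrSyz.stdGr K σ)) q).toIdeal.primeCompl
      (MvPolynomial σ K ⧸ I)) := by
    rw [← Module.mem_support_iff (p := ⟨_, hcore⟩), Module.mem_support_iff_of_finite,
      Ideal.annihilator_quotient]
    exact hI_le_core
  have hLL := dm_eq_dep_of_le (Ideal.homogeneousCore (asGr (GrSyz.stdGr K σ)) q).toIdeal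
    (irr K σ) hcore_le_m (MvPolynomial σ K ⧸ I) hCMm hsuppc
  rw [g2 hsuppq, hLL, g1]
  push_cast
  rfl

/-- a graded quotient of a polynomial ring that has the right depth at the irrelevant ideal
is Cohen–Macaulay -/
theorem isCohenMacaulayRing_of_le_idealDepth (I : Ideal (MvPolynomial σ K))
    (hI : I.IsHomogeneous (GrSyz.stdGr K σ)) (e : ℕ)
    (hdim : ringKrullDim (MvPolynomial σ K ⧸ I) ≤ e)
    (hdepth : (e : ℕ∞) ≤ LocCoh.idealDepth (irr K σ) (MvPolynomial σ K ⧸ I)) :
    LocCoh.IsCohenMacaulayRing (MvPolynomial σ K ⧸ I) := by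
  classical
  by_cases hI' : I = ⊤
  · apply isCohenMacaulayRing_quotient
    intro q hq hIq
    exact absurd (top_le_iff.mp (hI' ▸ hIq)) hq.ne_top
  apply isCohenMacaulayRing_of_cm_at_irr K σ I hI
  have hIm : I ≤ irr K σ := Groth.Agent.Lib.Helper8.DoubleLink.le_irrel_of_isHomogeneous K I hI hI'
  have hsuppm : Nontrivial (LocalizedModule (irr K σ).primeCompl (MvPolynomial σ K ⧸ I)) := by
    rw [← Module.mem_support_iff (p := ⟨irr K σ, inferInstance⟩),
      Module.mem_support_iff_of_finite, Ideal.annihilator_quotient]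
    exact hIm
  have h1 : dm (irr K σ) (MvPolynomial σ K ⧸ I) ≤ (e : WithBot ℕ∞) := by
    rw [dm_quotient_eq_height I (irr K σ) hIm]
    have hprime : ((irr K σ).map (Ideal.Quotient.mk I)).IsPrime :=
      Ideal.map_isPrime_of_surjective Ideal.Quotient.mk_surjective (by rwa [Ideal.mk_ker])
    exact (Ideal.height_le_ringKrullDim_of_ne_top hprime.ne_top).trans hdim
  have h2 : (e : ℕ∞) ≤ dep (irr K σ) (MvPolynomial σ K ⧸ I) :=
    hdepth.trans (idealDepth_le_depth_localization (irr K σ) _ le_rfl)
  have h3 : ((dep (irr K σ) (MvPolynomial σ K ⧸ I) : ℕ∞) : WithBot ℕ∞) ≤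
      dm (irr K σ) (MvPolynomial σ K ⧸ I) := Groth.Agent.Lib.Helper28.depth_le_supportDim
  unfold LocCoh.IsCohenMacaulayModule
  apply le_antisymm
  · exact h1.trans (WithBot.coe_le_coe.mpr h2)
  · exact h3

end Graded

end Groth.Agent.Lib.Helper25.GrGlob
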