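import Mathlib
import Groth.Prelude.Def_CAlg
import Groth.Agent.Lib.Helper25GrGlob
import Groth.Agent.Lib.Helper28PolyCM
import Groth.Agent.Lib.Helper5RLR

/-!
# A graded ring is Cohen–Macaulay iff it is so at the vertex (helper25)
-/

set_option autoImplicit false
universe u

namespace Groth.Agent.Lib.Helper25.GrVertex

open Groth.Agent.Lib.Helper28 Groth.Agent.Lib.Helper5 Groth.Agent.Lib.Helper5.GenDepth
  Groth.Agent.Lib.Helper25.GrGlob

variable {R : Type u} [CommRing R] [IsNoetherianRing R]

/-- from the local ring of `R/I` at `m/I` to the module `(R/I)_m` -/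
theorem isCohenMacaulayModule_of_isCohenMacaulayLocalRing (m I : Ideal R) [m.IsPrime] (hIm : I ≤ m)
    [hmI : (m.map (Ideal.Quotient.mk I)).IsPrime]
    (h : LocCoh.IsCohenMacaulayLocalRing (Localization.AtPrime (m.map (Ideal.Quotient.mk I)))) :
    LocCoh.IsCohenMacaulayModule (Localization.AtPrime m)
      (LocalizedModule m.primeCompl (R ⧸ I)) := by
  have inst : IsLocalization (Algebra.algebraMapSubmonoid (R ⧸ I) m.primeCompl)
      (Localization.AtPrime m ⧸ I.map (algebraMap R (Localization.AtPrime m))) := inferInstance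
  rw [algebraMapSubmonoid_quotient_primeCompl I m hIm] at inst
  have inst' : IsLocalization.AtPrime
      (Localization.AtPrime m ⧸ I.map (algebraMap R (Localization.AtPrime m)))
      (m.map (Ideal.Quotient.mk I)) := inst
  let e : Localization.AtPrime (m.map (Ideal.Quotient.mk I)) ≃+*
      (Localization.AtPrime m ⧸ I.map (algebraMap R (Localization.AtPrime m))) :=
    (IsLocalization.algEquiv (m.map (Ideal.Quotient.mk I)).primeCompl
      (Localization.AtPrime (m.map (Ideal.Quotient.mk I)))
      (Localization.AtPrime m ⧸ I.map (algebraMap R (Localization.AtPrime m)))).toRingEquiv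
  have hC : LocCoh.IsCohenMacaulayLocalRing
      (Localization.AtPrime m ⧸ I.map (algebraMap R (Localization.AtPrime m))) :=
    isCohenMacaulayLocalRing_of_ringEquiv e
  have hloc : IsLocalRing (Localization.AtPrime m ⧸ I.map (algebraMap R (Localization.AtPrime m))) :=
    hC.toIsLocalRing
  have hdepth : LocCoh.depth (Localization.AtPrime m ⧸ I.map (algebraMap R (Localization.AtPrime m)))
      (Localization.AtPrime m ⧸ I.map (algebraMap R (Localization.AtPrime m))) =
      LocCoh.depth (Localization.AtPrime m)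
        (Localization.AtPrime m ⧸ I.map (algebraMap R (Localization.AtPrime m))) := by
    change LocCoh.idealDepth _ _ = LocCoh.idealDepth _ _
    rw [idealDepth_restrictScalars_eq_idealDepth_map
      (B := Localization.AtPrime m ⧸ I.map (algebraMap R (Localization.AtPrime m)))
      (IsLocalRing.maximalIdeal (Localization.AtPrime m))
      (Localization.AtPrime m ⧸ I.map (algebraMap R (Localization.AtPrime m))),
      Groth.Agent.Lib.Helper5.maximalIdeal_quotient_eq_map]
    rfl
  have h1 := hC.supportDim_eq_depth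
  unfold LocCoh.IsCohenMacaulayModule
  show dm m (R ⧸ I) = ((dep m (R ⧸ I) : ℕ∞) : WithBot ℕ∞)
  rw [(dep_dm_quotient m I).1, (dep_dm_quotient m I).2, Module.supportDim_quotient_eq_ringKrullDim,
    ← Module.supportDim_self_eq_ringKrullDim, h1, hdepth]

section Vertex

variable (K : Type u) [Field K] (σ : Type) [Finite σ]

theorem mem_stdGr_of_isHomogeneous (f : MvPolynomial σ K) (k : ℕ) (hf : f.IsHomogeneous k) :
    f ∈ GrSyz.stdGr K σ (k : ℤ) := by
  rw [GrSyz.mem_stdGr_iff]
  intro d hd
  have h1 := hf hd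
  rw [← h1]
  simp only [Finsupp.weight_apply, Finsupp.sum, Pi.one_apply, smul_eq_mul, mul_one, nsmul_eq_mul]
  push_cast
  rfl

theorem isHomogeneous_of_span (I : Ideal (MvPolynomial σ K))
    (hI : ∃ T : Set (MvPolynomial σ K), (∀ f ∈ T, ∃ k : ℕ, f.IsHomogeneous k) ∧ I = Ideal.span T) :
    I.IsHomogeneous (GrSyz.stdGr K σ) := by
  obtain ⟨T, hT, rfl⟩ := hI
  apply Ideal.homogeneous_span
  intro f hf
  obtain ⟨k, hk⟩ := hT f hf
  exact ⟨(k : ℤ), mem_stdGr_of_isHomogeneous K σ f k hk⟩

theorem isCohenMacaulayRing_of_vertex_aux (I : Ideal (MvPolynomial σ K))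
    (hhom : I.IsHomogeneous (GrSyz.stdGr K σ)) (hI' : I ≠ ⊤) (m : Ideal (MvPolynomial σ K))
    (hmeq : irr K σ = m) [hm : (m.map (Ideal.Quotient.mk I)).IsPrime]
    (h : LocCoh.IsCohenMacaulayLocalRing (Localization.AtPrime (m.map (Ideal.Quotient.mk I)))) :
    LocCoh.IsCohenMacaulayRing (MvPolynomial σ K ⧸ I) := by
  subst hmeq
  have hIm : I ≤ irr K σ :=
    Groth.Agent.Lib.Helper8.DoubleLink.le_irrel_of_isHomogeneous K I hhom hI'
  apply isCohenMacaulayRing_of_cm_at_irr K σ I hhom
  exact isCohenMacaulayModule_of_isCohenMacaulayLocalRing (irr K σ) I hIm h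

/-- a graded quotient of a polynomial ring is Cohen–Macaulay iff it is so at the vertex -/
theorem isCohenMacaulayRing_iff_at_vertex (I : Ideal (MvPolynomial σ K))
    (hI : ∃ T : Set (MvPolynomial σ K), (∀ f ∈ T, ∃ k : ℕ, f.IsHomogeneous k) ∧ I = Ideal.span T)
    (hI' : I ≠ ⊤)
    [hm : ((RingHom.ker (MvPolynomial.constantCoeff : MvPolynomial σ K →+* K)).map
      (Ideal.Quotient.mk I)).IsPrime] :
    LocCoh.IsCohenMacaulayRing (MvPolynomial σ K ⧸ I) ↔
      LocCoh.IsCohenMacaulayLocalRing (Localization.AtPrime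
        ((RingHom.ker (MvPolynomial.constantCoeff : MvPolynomial σ K →+* K)).map
          (Ideal.Quotient.mk I))) := by
  constructor
  · intro h
    exact h.isCohenMacaulayLocalRing_localization _
  · intro h
    have hhom := isHomogeneous_of_span K σ I hI
    have hker : irr K σ = RingHom.ker (MvPolynomial.constantCoeff : MvPolynomial σ K →+* K) :=
      Groth.Agent.Helper13FreeRes.irrel_stdGr_eq_ker K σ
    exact isCohenMacaulayRing_of_vertex_aux K σ I hhom hI' _ hker h

end Vertex

end Groth.Agent.Lib.Helper25.GrVertex
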