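import Mathlib
import Groth.Agent.Lib.Helper29GorHull
import Groth.Agent.Lib.Helper8LCDepth
import Groth.Agent.Lib.Helper28Depth
import Groth.Agent.Lib.Helper28DepthLoc
import Groth.Agent.Lib.Helper28DepthCM

/-! Maximal Cohen–Macaulay modules over a Gorenstein local ring (helper29):
`Ext^j(M, A) = 0` for `j ≥ 1`, and the dual of an MCM module is MCM. -/

set_option autoImplicit false
set_option linter.style.haveILetI false
universe u
open CategoryTheory CategoryTheory.Abelian IsLocalRing

namespace Groth.Agent.Lib.Helper29MCMDual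

open Groth.Agent.Lib.Helper29.GorHull Groth.Agent.Lib.Helper28
  Groth.Agent.Lib.Helper8.Bridge Groth.Agent.Lib.Helper8.LC

section Local

variable (A : Type u) [CommRing A] [hA : LocCoh.IsGorensteinLocalRing A] (n : ℕ)
  (hn : ringKrullDim A = n)

include hn in
/-- The injective hull of the residue field is faithful: `Hom(N, E) = 0` implies `N = 0`. -/
theorem subsingleton_of_subsingleton_hom_Hn (N : Type u) [AddCommGroup N] [Module A N]
    (h : Subsingleton (N →ₗ[A] Hn A n)) : Subsingleton N := by
  obtain ⟨f, hf⟩ := exists_isInjectiveHull_of_gorenstein A n hn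
  by_contra hN
  rw [not_subsingleton_iff_nontrivial] at hN
  obtain ⟨x, hx⟩ := exists_ne (0 : N)
  let J : Ideal A := LinearMap.ker (LinearMap.toSpanSingleton A N x)
  have hJ : J ≤ maximalIdeal A := by
    apply IsLocalRing.le_maximalIdeal
    intro htop
    have h1 : (1 : A) ∈ J := htop ▸ Submodule.mem_top
    rw [LinearMap.mem_ker, LinearMap.toSpanSingleton_apply, one_smul] at h1
    exact hx h1
  let ι : (A ⧸ J) →ₗ[A] N := J.liftQ (LinearMap.toSpanSingleton A N x) le_rfl
  have hι : Function.Injective ι := by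
    rw [← LinearMap.ker_eq_bot]
    exact Submodule.ker_liftQ_eq_bot _ _ _ le_rfl
  let π : (A ⧸ J) →ₗ[A] ResidueField A :=
    Submodule.mapQ J (maximalIdeal A) LinearMap.id hJ
  obtain ⟨h', hh'⟩ := hf.isInjective.out ι hι (f ∘ₗ π)
  have h0 : h' = 0 := Subsingleton.elim _ _
  have h1 := hh' (Submodule.Quotient.mk 1)
  rw [h0, LinearMap.zero_apply] at h1
  have h2 : f (π (Submodule.Quotient.mk 1)) = 0 := h1.symm
  have h3 : π (Submodule.Quotient.mk 1) = 0 := hf.injective (by rw [h2, map_zero])
  have h4 : π (Submodule.Quotient.mk 1) = (1 : ResidueField A) := rfl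
  rw [h4] at h3
  exact one_ne_zero h3

theorem ext_subsingleton_of_subsingleton (M : Type u) [AddCommGroup M] [Module A M]
    [Subsingleton M] (Y : ModuleCat.{u} A) (j : ℕ) :
    Subsingleton (Ext.{u} (ModuleCat.of A M) Y j) := by
  refine ⟨fun a b => ?_⟩
  have key : ∀ z : Ext.{u} (ModuleCat.of A M) Y j, z = 0 := by
    intro z
    have h1 : 𝟙 (ModuleCat.of A M) = 0 :=
      (ModuleCat.isZero_of_subsingleton (ModuleCat.of A M)).eq_of_src _ _
    rw [← Ext.mk₀_id_comp z, h1, Ext.mk₀_zero, Ext.zero_comp]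
  rw [key a, key b]

include hn in
/-- `Ext^j(M, A) = 0` for `j ≥ 1` when `M` is maximal Cohen–Macaulay. -/
theorem ext_subsingleton_of_depth (M : Type u) [AddCommGroup M] [Module A M] [Module.Finite A M]
    (hM : (n : ℕ∞) ≤ LocCoh.depth A M) (j : ℕ) (hj : 1 ≤ j) :
    Subsingleton (Ext.{u} (ModuleCat.of A M) (ModuleCat.of A A) j) := by
  by_cases hjn : n < j
  · have := (Groth.Agent.Lib.Helper29Gorenstein.depth_eq_and_hasInjectiveDimensionLT A n hn).2
    exact HasInjectiveDimensionLT.subsingleton (ModuleCat.of A A) (n + 1) j (by omega) _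
  · push_neg at hjn
    rcases subsingleton_or_nontrivial M with hsub | hnt
    · exact ext_subsingleton_of_subsingleton A M _ j
    · obtain ⟨e⟩ := duality_gorenstein A n hn M (n - j) (by omega)
      have hnj : n - (n - j) = j := by omega
      rw [hnj] at e
      rw [← subsingleton_E_iff]
      apply subsingleton_of_subsingleton_hom_Hn A n hn
      have hIM : maximalIdeal A • (⊤ : Submodule A M) ≠ ⊤ := maximalIdeal_smul_top_ne_top
      have hs : Subsingleton ((localCohomology (maximalIdeal A) (n - j)).obj (ModuleCat.of A M)) :=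
        ⟨fun a b => by
          rw [H_eq_zero_of_lt_depth (maximalIdeal A) n M hIM hM (n - j) (by omega) a,
            H_eq_zero_of_lt_depth (maximalIdeal A) n M hIM hM (n - j) (by omega) b]⟩
      exact e.symm.toEquiv.subsingleton

end Local

section Extension

variable {R : Type u} [CommRing R]

/-- If `Ext^1(N'', Y) = 0` then every map `N' → Y` extends along the injection `N' → N`. -/
theorem exists_extension_of_ext_subsingleton {N' N N'' Y : Type u} [AddCommGroup N'] [Module R N']
    [AddCommGroup N] [Module R N] [AddCommGroup N''] [Module R N''] [AddCommGroup Y] [Module R Y]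
    (f : N' →ₗ[R] N) (g : N →ₗ[R] N'') (hf : Function.Injective f)
    (hg : Function.Surjective g) (hfg : Function.Exact f g)
    (hExt : Subsingleton (Ext.{u} (ModuleCat.of R N'') (ModuleCat.of R Y) 1))
    (φ : N' →ₗ[R] Y) : ∃ ψ : N →ₗ[R] Y, ψ ∘ₗ f = φ := by
  have hS := shortExact_of_exact f g hf hg hfg
  obtain ⟨x₂, hx₂⟩ := Ext.contravariant_sequence_exact₁ hS (ModuleCat.of R Y)
    (Ext.mk₀ (ModuleCat.ofHom φ)) (n₁ := 1) rfl (Subsingleton.elim _ _)
  obtain ⟨ψ, rfl⟩ := (Ext.mk₀_bijective _ _).2 x₂
  rw [Ext.mk₀_comp_mk₀] at hx₂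
  have h1 := (Ext.mk₀_bijective _ _).1 hx₂
  refine ⟨ψ.hom, ?_⟩
  have h2 := congrArg ModuleCat.Hom.hom h1
  exact h2

end Extension

section DualSES

variable {R : Type u} [CommRing R]

/-- The dual of a short exact sequence `0 → N' → N → N'' → 0` with `Ext^1(N'', R) = 0` is
short exact. -/
theorem dual_ses {N' N N'' : Type u} [AddCommGroup N'] [Module R N']
    [AddCommGroup N] [Module R N] [AddCommGroup N''] [Module R N'']
    (f : N' →ₗ[R] N) (g : N →ₗ[R] N'') (hf : Function.Injective f)
    (hg : Function.Surjective g) (hfg : Function.Exact f g)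
    (hExt : Subsingleton (Ext.{u} (ModuleCat.of R N'') (ModuleCat.of R R) 1)) :
    Function.Injective g.dualMap ∧ Function.Surjective f.dualMap ∧
      Function.Exact g.dualMap f.dualMap := by
  refine ⟨LinearMap.dualMap_injective_of_surjective hg, ?_, ?_⟩
  · intro φ
    obtain ⟨ψ, hψ⟩ := exists_extension_of_ext_subsingleton f g hf hg hfg hExt φ
    exact ⟨ψ, hψ⟩
  · intro φ
    constructor
    · intro hφ
      have hφ' : ∀ x, φ (f x) = 0 := fun x => LinearMap.congr_fun hφ x
      have hle : LinearMap.ker g ≤ LinearMap.ker φ := by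
        intro y hy
        obtain ⟨x, rfl⟩ := (hfg y).mp hy
        exact hφ' x
      refine ⟨(LinearMap.ker g).liftQ φ hle ∘ₗ (g.quotKerEquivOfSurjective hg).symm.toLinearMap, ?_⟩
      apply LinearMap.ext
      intro y
      change (LinearMap.ker g).liftQ φ hle ((g.quotKerEquivOfSurjective hg).symm (g y)) = φ y
      have : (g.quotKerEquivOfSurjective hg).symm (g y) = Submodule.Quotient.mk y := by
        rw [LinearEquiv.symm_apply_eq]
        rfl
      rw [this, Submodule.liftQ_apply]
    · rintro ⟨ψ, rfl⟩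
      apply LinearMap.ext
      intro x
      change ψ (g (f x)) = 0
      rw [hfg.apply_apply_eq_zero, map_zero]

end DualSES


section DualDepth

variable (A : Type u) [CommRing A] [hA : LocCoh.IsGorensteinLocalRing A] (n : ℕ)
  (hn : ringKrullDim A = n)

include hn in
theorem depth_self_eq : LocCoh.depth A A = n :=
  (Groth.Agent.Lib.Helper29Gorenstein.depth_eq_and_hasInjectiveDimensionLT A n hn).1

include hn in
theorem min_le_depth_dual (k : ℕ) :
    ∀ (M : Type u) [AddCommGroup M] [Module A M] [Module.Finite A M],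
      (n : ℕ∞) ≤ LocCoh.depth A M → ((min k n : ℕ) : ℕ∞) ≤ LocCoh.depth A (M →ₗ[A] A) := by
  induction k with
  | zero => intro M _ _ _ _; simp
  | succ k ih =>
    intro M _ _ _ hM
    obtain ⟨b, π, hπ⟩ := Module.Finite.exists_fin' A M
    have hdA : LocCoh.depth A A = n := depth_self_eq A n hn
    have hF : (n : ℕ∞) ≤ LocCoh.depth A (Fin b → A) := by
      rw [← hdA]
      exact idealDepth_le_idealDepth_pi_fin (maximalIdeal A) A b
    have hinj := Submodule.injective_subtype (LinearMap.ker π)
    have hex := LinearMap.exact_subtype_ker_map π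
    have hK : (n : ℕ∞) ≤ LocCoh.depth A (LinearMap.ker π) := by
      have h1 := min_idealDepth_le_left (maximalIdeal A) (LinearMap.ker π).subtype π hinj hπ hex
      exact le_trans (le_min hF (le_trans hM le_self_add)) h1
    have hExt := ext_subsingleton_of_depth A n hn M hM 1 le_rfl
    obtain ⟨h1, h2, h3⟩ := dual_ses (LinearMap.ker π).subtype π hinj hπ hex hExt
    have h4 := min_idealDepth_le_left (maximalIdeal A) π.dualMap (LinearMap.ker π).subtype.dualMap
      h1 h2 h3
    refine le_trans (le_min ?_ ?_) h4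
    · have h5 : LocCoh.idealDepth (maximalIdeal A) (Module.Dual A (Fin b → A)) =
          LocCoh.idealDepth (maximalIdeal A) (Fin b → A) := idealDepth_dual_pi_fin _ b
      rw [h5]
      refine le_trans ?_ hF
      exact_mod_cast min_le_right _ _
    · have h6 := ih (LinearMap.ker π) hK
      have h7 : ((min (k + 1) n : ℕ) : ℕ∞) ≤ ((min k n : ℕ) : ℕ∞) + 1 := by
        have : min (k + 1) n ≤ min k n + 1 := by omega
        exact_mod_cast this
      exact le_trans h7 (add_le_add h6 le_rfl)

include hn in
/-- The dual of a maximal Cohen–Macaulay module over a Gorenstein local ring is maximal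
Cohen–Macaulay. -/
theorem le_depth_dual (M : Type u) [AddCommGroup M] [Module A M] [Module.Finite A M]
    (hM : (n : ℕ∞) ≤ LocCoh.depth A M) : (n : ℕ∞) ≤ LocCoh.depth A (M →ₗ[A] A) := by
  have := min_le_depth_dual A n hn n M hM
  rwa [min_self] at this

end DualDepth

section Link

variable (A : Type u) [CommRing A] [hA : LocCoh.IsGorensteinLocalRing A] (n : ℕ)
  (hn : ringKrullDim A = n)

/-- The restriction map `A = Hom(A, A) → Hom(a, A)`. -/
noncomputable def mulRestrict (a : Ideal A) : A →ₗ[A] (a →ₗ[A] A) :=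
  (Submodule.subtype a).dualMap ∘ₗ (LinearMap.lsmul A A)

omit hA in
theorem mulRestrict_apply (a : Ideal A) (r : A) (y : a) : mulRestrict A a r y = r * (y : A) := rfl

omit hA in
theorem ker_mulRestrict (a b : Ideal A) (hb : ∀ r, r ∈ b ↔ ∀ y ∈ a, r * y = 0) :
    LinearMap.ker (mulRestrict A a) = b := by
  ext r
  rw [LinearMap.mem_ker, hb]
  constructor
  · intro h y hy
    have := LinearMap.congr_fun h ⟨y, hy⟩
    exact this
  · intro h
    apply LinearMap.ext
    rintro ⟨y, hy⟩
    exact h y hy

include hn in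
theorem mulRestrict_surjective (a : Ideal A) (ha : (n : ℕ∞) ≤ LocCoh.depth A (A ⧸ a)) :
    Function.Surjective (mulRestrict A a) := by
  intro φ
  have hExt := ext_subsingleton_of_depth A n hn (A ⧸ a) ha 1 le_rfl
  obtain ⟨ψ, hψ⟩ := exists_extension_of_ext_subsingleton (Submodule.subtype a) (Submodule.mkQ a)
    (Submodule.injective_subtype a) (Submodule.mkQ_surjective a)
    (LinearMap.exact_subtype_mkQ a) hExt φ
  refine ⟨ψ 1, ?_⟩
  apply LinearMap.ext
  intro y
  rw [mulRestrict_apply, ← hψ]
  change ψ 1 * (y : A) = ψ (y : A)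
  have : ψ ((y : A) • (1 : A)) = (y : A) • ψ 1 := map_smul ψ _ _
  rw [smul_eq_mul, mul_one, smul_eq_mul] at this
  rw [this, mul_comm]

include hn in
theorem isCohenMacaulayLocalRing : LocCoh.IsCohenMacaulayLocalRing A where
  supportDim_eq_depth := by
    rw [depth_self_eq A n hn, Module.supportDim_self_eq_ringKrullDim, hn]
    rfl

include hn in
/-- Local linkage: if `a = ann b`, `b = ann a` in a Gorenstein local ring and `A/a` is
Cohen–Macaulay (or zero), then `A/b` is Cohen–Macaulay. -/
theorem local_link (a b : Ideal A) (hb : ∀ r, r ∈ b ↔ ∀ y ∈ a, r * y = 0)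
    (ha : ∀ r, r ∈ a ↔ ∀ y ∈ b, r * y = 0) (hbtop : b ≠ ⊤)
    (hCM : a = ⊤ ∨ Module.supportDim A (A ⧸ a) = ((LocCoh.depth A (A ⧸ a) : ℕ∞) : WithBot ℕ∞)) :
    Module.supportDim A (A ⧸ b) = ((LocCoh.depth A (A ⧸ b) : ℕ∞) : WithBot ℕ∞) := by
  have hdA := depth_self_eq A n hn
  have htopcase : a = ⊤ → (n : ℕ∞) ≤ LocCoh.depth A (A ⧸ a) := by
    intro h
    have : Subsingleton (A ⧸ a) := by
      rw [h]
      exact Submodule.Quotient.subsingleton_iff.mpr rfl
    rw [depth_eq_top_of_subsingleton]
    exact le_top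
  -- step 1
  have hMa : (n : ℕ∞) ≤ LocCoh.depth A (A ⧸ a) := by
    rcases hCM with h | h
    · exact htopcase h
    · by_cases hatop : a = ⊤
      · exact htopcase hatop
      have hCMA : LocCoh.IsCohenMacaulayModule A A :=
        (isCohenMacaulayLocalRing A n hn).supportDim_eq_depth
      have h1 := supportDim_eq_add_idealDepth_of_isCohenMacaulayModule (M := A) a hatop hCMA
      have haM : a • (⊤ : Submodule A A) = a := by
        rw [smul_eq_mul, Ideal.mul_top]
      by_cases hd : 1 ≤ LocCoh.idealDepth a A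
      · have hIM : a • (⊤ : Submodule A A) ≠ ⊤ := by rwa [haM]
        obtain ⟨x, hx, hreg⟩ := (one_le_idealDepth_iff hIM).mp hd
        have hbbot : ∀ r ∈ b, r = 0 := by
          intro r hr
          have h2 := (hb r).mp hr x hx
          apply hreg
          change x • r = x • 0
          rw [smul_zero, smul_eq_mul, mul_comm]
          exact h2
        have : (1 : A) ∈ a := by
          rw [ha]
          intro y hy
          rw [hbbot y hy, mul_zero]
        exact absurd ((Ideal.eq_top_iff_one a).mpr this) hatop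
      · have hd0 : LocCoh.idealDepth a A = 0 := by
          by_contra hne
          exact hd (Order.one_le_iff_ne_zero.mpr hne)
        rw [hd0, Module.supportDim_self_eq_ringKrullDim, hn] at h1
        have h2 : Module.supportDim A (A ⧸ (a • ⊤ : Submodule A A)) = (n : WithBot ℕ∞) := by
          rw [h1]
          simp
        have h3 : Module.supportDim A (A ⧸ a) = (n : WithBot ℕ∞) := by
          rw [← h2]
          rw [Module.supportDim_quotient_eq_ringKrullDim]
          have e : (A ⧸ (a • ⊤ : Submodule A A)) ≃ₗ[A] (A ⧸ a) :=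
            Submodule.quotEquivOfEq _ _ haM
          rw [Module.supportDim_eq_of_equiv e, Module.supportDim_quotient_eq_ringKrullDim]
        rw [h3] at h
        have h4 : ((n : ℕ∞) : WithBot ℕ∞) = ((LocCoh.depth A (A ⧸ a) : ℕ∞) : WithBot ℕ∞) := h
        exact le_of_eq (WithBot.coe_injective h4)
  -- step 2
  have hda : (n : ℕ∞) ≤ LocCoh.depth A a := by
    have h1 := min_idealDepth_le_left (maximalIdeal A) (Submodule.subtype a) (Submodule.mkQ a)
      (Submodule.injective_subtype a) (Submodule.mkQ_surjective a) (LinearMap.exact_subtype_mkQ a)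
    refine le_trans (le_min (le_of_eq hdA.symm) (le_trans hMa le_self_add)) h1
  -- step 3/4
  have hsurj := mulRestrict_surjective A n hn a hMa
  have hker := ker_mulRestrict A a b hb
  let e : (A ⧸ b) ≃ₗ[A] (a →ₗ[A] A) :=
    (Submodule.quotEquivOfEq _ _ hker.symm).trans ((mulRestrict A a).quotKerEquivOfSurjective hsurj)
  have hdb : (n : ℕ∞) ≤ LocCoh.depth A (A ⧸ b) := by
    have h1 : LocCoh.depth A (A ⧸ b) = LocCoh.depth A (a →ₗ[A] A) :=
      idealDepth_congr e (maximalIdeal A)
    rw [h1]
    exact le_depth_dual A n hn a hda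
  -- step 5
  have hnt : Nontrivial (A ⧸ b) := Submodule.Quotient.nontrivial_iff.mpr hbtop
  have h1 : ((LocCoh.depth A (A ⧸ b) : ℕ∞) : WithBot ℕ∞) ≤ Module.supportDim A (A ⧸ b) :=
    depth_le_supportDim
  have h2 : Module.supportDim A (A ⧸ b) ≤ (n : WithBot ℕ∞) := by
    rw [← hn]
    exact Module.supportDim_le_ringKrullDim A (A ⧸ b)
  have h3 : ((n : ℕ∞) : WithBot ℕ∞) ≤ ((LocCoh.depth A (A ⧸ b) : ℕ∞) : WithBot ℕ∞) :=
    WithBot.coe_le_coe.mpr hdb
  exact le_antisymm (le_trans h2 h3) h1

end Link

end Groth.Agent.Lib.Helper29MCMDual
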