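import Mathlib
import Groth.Agent.Lib.Helper29MCMDual
import Groth.Agent.Lib.Helper25GrVertex
import Groth.Agent.Lib.Helper28PolyCM

/-! Linkage over a Gorenstein ring preserves the Cohen–Macaulay property (helper29). -/

set_option autoImplicit false
set_option linter.style.haveILetI false
universe u
open IsLocalRing

namespace Groth.Agent.Lib.Helper29Liaison

open Groth.Agent.Lib.Helper28 Groth.Agent.Lib.Helper5 Groth.Agent.Lib.Helper5.GenDepth
  Groth.Agent.Lib.Helper25.GrGlob Groth.Agent.Lib.Helper25.GrVertex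
  Groth.Agent.Lib.Helper29MCMDual

section Loc

variable {S : Type u} [CommRing S] [IsNoetherianRing S] (M : Submonoid S)
  (T : Type u) [CommRing T] [Algebra S T] [IsLocalization M T]

/-- a common denominator killing `x • a` -/
theorem exists_mul_eq_zero (a : Ideal S) (x : S)
    (h : ∀ y ∈ a, ∃ u : M, (u : S) * (x * y) = 0) :
    ∃ u : M, ∀ y ∈ a, (u : S) * (x * y) = 0 := by
  classical
  obtain ⟨s, hs⟩ : a.FG := IsNoetherian.noetherian a
  have key : ∀ t : Finset S, (∀ g ∈ t, g ∈ a) → ∃ u : M, ∀ g ∈ t, (u : S) * (x * g) = 0 := by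
    intro t
    induction t using Finset.induction_on with
    | empty => intro _; exact ⟨1, fun g hg => absurd hg (Finset.notMem_empty g)⟩
    | insert g t hg ih =>
      intro ht
      obtain ⟨u1, hu1⟩ := ih (fun g' hg' => ht g' (Finset.mem_insert_of_mem hg'))
      obtain ⟨u2, hu2⟩ := h g (ht g (Finset.mem_insert_self g t))
      refine ⟨u1 * u2, fun g' hg' => ?_⟩
      rcases Finset.mem_insert.mp hg' with rfl | hg''
      · rw [Submonoid.coe_mul, mul_assoc, hu2, mul_zero]
      · rw [Submonoid.coe_mul, mul_comm (u1 : S), mul_assoc, hu1 g' hg'', mul_zero]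
  obtain ⟨u, hu⟩ := key s (fun g hg => hs ▸ Ideal.subset_span hg)
  refine ⟨u, fun y hy => ?_⟩
  rw [← hs] at hy
  refine Submodule.span_induction (p := fun y _ => (u : S) * (x * y) = 0) ?_ ?_ ?_ ?_ hy
  · intro g hg
    exact hu g hg
  · rw [mul_zero, mul_zero]
  · intro y z _ _ hy hz
    rw [mul_add, mul_add, hy, hz, add_zero]
  · intro c y _ hy
    rw [smul_eq_mul, mul_left_comm x c y, mul_left_comm (u : S) c, hy, mul_zero]

include M in
/-- annihilators of ideals localize -/
theorem map_ann (a b : Ideal S) (hb : ∀ r, r ∈ b ↔ ∀ y ∈ a, r * y = 0) (r : T) :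
    r ∈ b.map (algebraMap S T) ↔ ∀ y ∈ a.map (algebraMap S T), r * y = 0 := by
  constructor
  · intro hr y hy
    obtain ⟨⟨⟨x, hx⟩, s⟩, hxs⟩ := (IsLocalization.mem_map_algebraMap_iff M T).mp hr
    obtain ⟨⟨⟨y', hy'⟩, t⟩, hyt⟩ := (IsLocalization.mem_map_algebraMap_iff M T).mp hy
    simp only at hxs hyt
    have h1 : (r * y) * (algebraMap S T s * algebraMap S T t) = 0 := by
      have : (r * y) * (algebraMap S T s * algebraMap S T t) =
          (r * algebraMap S T s) * (y * algebraMap S T t) := by ring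
      rw [this, hxs, hyt, ← map_mul, (hb x).mp hx y' hy', map_zero]
    have hu : IsUnit (algebraMap S T s * algebraMap S T t) :=
      (IsLocalization.map_units T s).mul (IsLocalization.map_units T t)
    exact (hu.mul_left_eq_zero).mp h1
  · intro hr
    obtain ⟨x, s, rfl⟩ := IsLocalization.exists_mk'_eq M r
    have h1 : ∀ y ∈ a, ∃ u : M, (u : S) * (x * y) = 0 := by
      intro y hy
      have h2 := hr (algebraMap S T y) (Ideal.mem_map_of_mem _ hy)
      have h3 : IsLocalization.mk' T (x * y) s = 0 := by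
        rw [← h2, ← IsLocalization.mk'_one (M := M) T y, ← IsLocalization.mk'_mul, mul_one]
      exact (IsLocalization.mk'_eq_zero_iff (x * y) s).mp h3
    obtain ⟨u, hu⟩ := exists_mul_eq_zero M a x h1
    rw [IsLocalization.mk'_mem_map_algebraMap_iff M]
    refine ⟨u, u.2, (hb _).mpr fun y hy => ?_⟩
    rw [mul_assoc]
    exact hu y hy

end Loc

section Global

variable (S : Type u) [CommRing S] [hS : LocCoh.IsGorensteinRing S]

/-- If `a = ann b` and `b = ann a` in a Gorenstein ring and `S/a` is Cohen–Macaulay then `S/b` is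
Cohen–Macaulay. -/
theorem isCohenMacaulayRing_quotient_of_linked (a b : Ideal S)
    (hb : ∀ r, r ∈ b ↔ ∀ y ∈ a, r * y = 0) (ha : ∀ r, r ∈ a ↔ ∀ y ∈ b, r * y = 0)
    (hCM : LocCoh.IsCohenMacaulayRing (S ⧸ a)) : LocCoh.IsCohenMacaulayRing (S ⧸ b) := by
  haveI : IsNoetherianRing S := inferInstance
  apply isCohenMacaulayRing_quotient b
  intro q hq hbq
  haveI := hq
  rw [(dep_dm_quotient q b).1, (dep_dm_quotient q b).2]
  haveI hG : LocCoh.IsGorensteinLocalRing (Localization.AtPrime q) :=
    hS.isGorensteinLocalRing_localization q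
  obtain ⟨n, hn⟩ := Groth.Agent.Lib.Helper5.exists_nat_ringKrullDim_eq (Localization.AtPrime q)
  apply local_link _ n hn (a.map (algebraMap S (Localization.AtPrime q)))
    (b.map (algebraMap S (Localization.AtPrime q)))
    (map_ann q.primeCompl _ a b hb) (map_ann q.primeCompl _ b a ha)
  · rw [IsLocalization.map_algebraMap_ne_top_iff_disjoint q.primeCompl, Set.disjoint_left]
    intro x hx hxb
    exact hx (hbq hxb)
  · by_cases haq : a ≤ q
    · right
      have hprime : (q.map (Ideal.Quotient.mk a)).IsPrime := by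
        apply Ideal.map_isPrime_of_surjective Ideal.Quotient.mk_surjective
        rw [Ideal.mk_ker]
        exact haq
      have h := hCM.isCohenMacaulayLocalRing_localization (q.map (Ideal.Quotient.mk a))
      have h2 := isCohenMacaulayModule_of_isCohenMacaulayLocalRing q a haq h
      have h3 : dm q (S ⧸ a) = ((dep q (S ⧸ a) : ℕ∞) : WithBot ℕ∞) := h2
      rw [(dep_dm_quotient q a).1, (dep_dm_quotient q a).2] at h3
      exact h3
    · left
      by_contra hne
      rw [← ne_eq, IsLocalization.map_algebraMap_ne_top_iff_disjoint q.primeCompl,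
        Set.disjoint_left] at hne
      apply haq
      intro x hx
      by_contra hxq
      exact hne hxq hx

end Global

section Colon

variable {R : Type u} [CommRing R]

theorem map_mk_ann (c I J : Ideal R) (hIJ : c.colon (I : Set R) = J) (hcI : c ≤ I) (hcJ : c ≤ J)
    (r : R ⧸ c) :
    r ∈ J.map (Ideal.Quotient.mk c) ↔ ∀ y ∈ I.map (Ideal.Quotient.mk c), r * y = 0 := by
  obtain ⟨r, rfl⟩ := Ideal.Quotient.mk_surjective r
  rw [Ideal.mem_quotient_iff_mem hcJ, ← hIJ, Submodule.mem_colon]
  constructor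
  · intro h y hy
    obtain ⟨y, hyI, rfl⟩ := (Ideal.mem_map_iff_of_surjective _ Ideal.Quotient.mk_surjective).mp hy
    rw [← map_mul, Ideal.Quotient.eq_zero_iff_mem]
    exact h y hyI
  · intro h y hy
    have := h (Ideal.Quotient.mk c y) (Ideal.mem_map_of_mem _ hy)
    rw [← map_mul, Ideal.Quotient.eq_zero_iff_mem] at this
    exact this

/-- Direct linkage by a Gorenstein ideal preserves the Cohen–Macaulay property. -/
theorem isCohenMacaulayRing_quot_of_colon (c I J : Ideal R) [LocCoh.IsGorensteinRing (R ⧸ c)]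
    (hIJ : c.colon (I : Set R) = J) (hJI : c.colon (J : Set R) = I)
    (h : LocCoh.IsCohenMacaulayRing (R ⧸ I)) : LocCoh.IsCohenMacaulayRing (R ⧸ J) := by
  have hcJ : c ≤ J := hIJ ▸ Ideal.le_colon
  have hcI : c ≤ I := hJI ▸ Ideal.le_colon
  have h1 : LocCoh.IsCohenMacaulayRing ((R ⧸ c) ⧸ I.map (Ideal.Quotient.mk c)) :=
    isCohenMacaulayRing_of_ringEquiv (DoubleQuot.quotQuotEquivQuotOfLE hcI).symm
  have h2 := isCohenMacaulayRing_quotient_of_linked (R ⧸ c) (I.map (Ideal.Quotient.mk c))
    (J.map (Ideal.Quotient.mk c)) (map_mk_ann c I J hIJ hcI hcJ) (map_mk_ann c J I hJI hcJ hcI) h1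
  exact isCohenMacaulayRing_of_ringEquiv (DoubleQuot.quotQuotEquivQuotOfLE hcJ)

end Colon

end Groth.Agent.Lib.Helper29Liaison
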