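import Mathlib
import Groth.Agent.Lib.Helper29Gorenstein
import Groth.Agent.Lib.Helper5CM
import Groth.Agent.S0345

/-!
# Gorenstein rings have no embedded primes (helper5)

* `mem_minimalPrimes_of_mem_associatedPrimes`: in a Gorenstein ring `B`, `Ass(B) ⊆ Min(B)`.
* `mem_minimalPrimes_of_colon`: for `R/c` Gorenstein, a prime of the form containing
  `ann(x̄)` chosen as an associated prime is minimal over `c`.
* `inf_eq_of_linked`: if `c : I = J`, `c : J = I`, `R/c` Gorenstein and `R/I`, `R/J` share no
  associated prime, then `I ⊓ J = c`.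
-/

set_option autoImplicit false
universe u

namespace Groth.Agent.Lib.Helper5.GorUnmixed

open IsLocalRing

/-- In a Gorenstein ring, every associated prime of the ring is a minimal prime. -/
theorem mem_minimalPrimes_of_mem_associatedPrimes (B : Type u) [CommRing B]
    [hB : LocCoh.IsGorensteinRing B] {P : Ideal B} (hP : P ∈ associatedPrimes B B) :
    P ∈ minimalPrimes B := by
  have hPp : P.IsPrime := hP.isPrime
  have hG : LocCoh.IsGorensteinLocalRing (Localization.AtPrime P) :=
    hB.isGorensteinLocalRing_localization P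
  have hmax : maximalIdeal (Localization.AtPrime P) ∈
      associatedPrimes (Localization.AtPrime P) (Localization.AtPrime P) := by
    apply Module.associatedPrimes.mem_associatedPrimes_of_comap_mem_associatedPrimes_of_isLocalizedModule
      P.primeCompl (Algebra.linearMap B (Localization.AtPrime P))
    have hcm : Ideal.comap (algebraMap B (Localization.AtPrime P))
        (maximalIdeal (Localization.AtPrime P)) = P := Localization.AtPrime.under_maximalIdeal
    rw [hcm]
    exact hP
  obtain ⟨d, hd⟩ := Groth.Agent.S0345.exists_natCast_ringKrullDim (Localization.AtPrime P)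
  have hdepth := (Groth.Agent.Lib.Helper29Gorenstein.depth_eq_and_hasInjectiveDimensionLT
    (Localization.AtPrime P) d hd).1
  have hle := Groth.Agent.Lib.Helper5.depth_le_ringKrullDim_quotient
    (A := Localization.AtPrime P) (M := Localization.AtPrime P) hmax
  have h0 : ringKrullDim (Localization.AtPrime P ⧸ maximalIdeal (Localization.AtPrime P)) = 0 :=
    ringKrullDim_eq_zero_of_isField
      ((Ideal.Quotient.maximal_ideal_iff_isField_quotient _).mp inferInstance)
  rw [hdepth, h0] at hle
  have hd0 : d = 0 := by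
    have : (d : WithBot ℕ∞) ≤ 0 := by exact_mod_cast hle
    have h2 : (d : ℕ∞) ≤ 0 := by exact_mod_cast this
    exact_mod_cast (nonpos_iff_eq_zero.mp h2)
  rw [hd0, IsLocalization.AtPrime.ringKrullDim_eq_height P] at hd
  rw [← Ideal.height_eq_zero_iff]
  exact_mod_cast hd

/-- Linked ideals without common components are geometrically linked. -/
theorem inf_eq_of_linked {R : Type u} [CommRing R] [IsNoetherianRing R] (c I J : Ideal R)
    [LocCoh.IsGorensteinRing (R ⧸ c)]
    (hIJ : c.colon (I : Set R) = J) (hJI : c.colon (J : Set R) = I)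
    (hdisj : Disjoint (associatedPrimes R (R ⧸ I)) (associatedPrimes R (R ⧸ J))) :
    I ⊓ J = c := by
  have hcI : c ≤ I := by
    rw [← hJI]
    intro x hx
    rw [Submodule.mem_colon]
    intro j _
    exact c.mul_mem_right _ hx
  have hcJ : c ≤ J := by
    rw [← hIJ]
    intro x hx
    rw [Submodule.mem_colon]
    intro j _
    exact c.mul_mem_right _ hx
  refine le_antisymm ?_ (le_inf hcI hcJ)
  intro x hx
  by_contra hxc
  obtain ⟨hxI, hxJ⟩ := hx
  have hx0 : (Ideal.Quotient.mk c x) ≠ 0 := by
    rwa [Ne, Ideal.Quotient.eq_zero_iff_mem]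
  obtain ⟨P', hP', hle⟩ := exists_le_isAssociatedPrime_of_isNoetherianRing (R ⧸ c)
    (Ideal.Quotient.mk c x) hx0
  have hP'p : P'.IsPrime := hP'.isPrime
  have hmin : P' ∈ minimalPrimes (R ⧸ c) := mem_minimalPrimes_of_mem_associatedPrimes (R ⧸ c) hP'
  -- `P = comap mk P'` is minimal over `c`
  have hPmin : P'.comap (Ideal.Quotient.mk c) ∈ c.minimalPrimes := by
    have h1 := Ideal.comap_minimalPrimes_eq_of_surjective
      (f := Ideal.Quotient.mk c) Ideal.Quotient.mk_surjective (⊥ : Ideal (R ⧸ c))
    rw [← RingHom.ker_eq_comap_bot, Ideal.mk_ker] at h1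
    rw [h1]
    exact ⟨P', hmin, rfl⟩
  have hkey : ∀ (I' : Ideal R), (∀ i ∈ I', i * x ∈ c) → I' ≤ P'.comap (Ideal.Quotient.mk c) := by
    intro I' h i hi
    rw [Ideal.mem_comap]
    apply hle
    rw [Submodule.mem_colon_singleton, Submodule.mem_bot, smul_eq_mul, ← map_mul,
      Ideal.Quotient.eq_zero_iff_mem]
    exact h i hi
  have hIP : I ≤ P'.comap (Ideal.Quotient.mk c) := by
    apply hkey
    intro i hi
    have hx' : x ∈ c.colon (I : Set R) := by rw [hIJ]; exact hxJ
    rw [Submodule.mem_colon] at hx'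
    have := hx' i hi
    rwa [smul_eq_mul, mul_comm] at this
  have hJP : J ≤ P'.comap (Ideal.Quotient.mk c) := by
    apply hkey
    intro i hi
    have hx' : x ∈ c.colon (J : Set R) := by rw [hJI]; exact hxI
    rw [Submodule.mem_colon] at hx'
    have := hx' i hi
    rwa [smul_eq_mul, mul_comm] at this
  have hminOf : ∀ (I' : Ideal R), c ≤ I' → I' ≤ P'.comap (Ideal.Quotient.mk c) →
      P'.comap (Ideal.Quotient.mk c) ∈ associatedPrimes R (R ⧸ I') := by
    intro I' hcI' hI'P
    apply Module.associatedPrimes.minimalPrimes_annihilator_subset_associatedPrimes R (R ⧸ I')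
    rw [Ideal.annihilator_quotient]
    refine ⟨⟨hPmin.1.1, hI'P⟩, ?_⟩
    rintro Q ⟨hQp, hQ⟩ hQP
    exact hPmin.2 ⟨hQp, hcI'.trans hQ⟩ hQP
  exact Set.disjoint_left.mp hdisj (hminOf I hcI hIP) (hminOf J hcJ hJP)

end Groth.Agent.Lib.Helper5.GorUnmixed
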