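import Mathlib
import Groth.Agent.Lib.Helper5GorUnmixed
import Groth.Agent.Lib.Helper28FGDim
import Groth.Agent.Lib.Helper28PolyCM
import Groth.Agent.Lib.Helper28Unmixed
import Groth.Agent.Lib.Helper23GrSyz

/-!
# Homogeneous Gorenstein quotients of polynomial rings are equidimensional (helper5)

* `isCohenMacaulayRing_of_isGorensteinRing`
* `mem_minimalPrimes_of_mem_associatedPrimes_quotient`: `Ass_R(R/c) ⊆ Min(c)` for `R/c` Gorenstein.
* `associatedPrimes_quotient_colon_subset`: `Ass(R/(c : I)) ⊆ Ass(R/c)`.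
* `height_eq_height_map_add_height`: in a CM ring, `ht m = ht(m/P) + ht P` for primes `P ≤ m`.
* `height_eq_of_mem_minimalPrimes`: all minimal primes of a homogeneous ideal `c` of a polynomial
  ring over a field with `R/c` Gorenstein have the same height.
* `colon_unmixed`: `c : I` is unmixed of height `ht c`.
-/

set_option autoImplicit false
universe u

namespace Groth.Agent.Lib.Helper5.GorUnmixed

open IsLocalRing

/-- A Gorenstein ring is Cohen–Macaulay. -/
theorem isCohenMacaulayRing_of_isGorensteinRing (B : Type u) [CommRing B]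
    [hB : LocCoh.IsGorensteinRing B] : LocCoh.IsCohenMacaulayRing B := by
  refine { isCohenMacaulayLocalRing_localization := fun p hp => ?_ }
  have hG : LocCoh.IsGorensteinLocalRing (Localization.AtPrime p) :=
    hB.isGorensteinLocalRing_localization p
  obtain ⟨d, hd⟩ := Groth.Agent.S0345.exists_natCast_ringKrullDim (Localization.AtPrime p)
  have hdepth := (Groth.Agent.Lib.Helper29Gorenstein.depth_eq_and_hasInjectiveDimensionLT
    (Localization.AtPrime p) d hd).1
  refine { supportDim_eq_depth := ?_ }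
  rw [Module.supportDim_self_eq_ringKrullDim, hd, hdepth]
  rfl

section Quot

variable {R : Type u} [CommRing R]

theorem comap_mk_mem_minimalPrimes (c : Ideal R) {P' : Ideal (R ⧸ c)}
    (h : P' ∈ minimalPrimes (R ⧸ c)) : P'.comap (Ideal.Quotient.mk c) ∈ c.minimalPrimes := by
  have h1 := Ideal.comap_minimalPrimes_eq_of_surjective
    (f := Ideal.Quotient.mk c) Ideal.Quotient.mk_surjective (⊥ : Ideal (R ⧸ c))
  rw [← RingHom.ker_eq_comap_bot, Ideal.mk_ker] at h1
  rw [h1]
  exact ⟨P', h, rfl⟩

theorem exists_of_mem_minimalPrimes (c : Ideal R) {P : Ideal R} (h : P ∈ c.minimalPrimes) :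
    ∃ P' ∈ minimalPrimes (R ⧸ c), P'.comap (Ideal.Quotient.mk c) = P := by
  have h1 := Ideal.comap_minimalPrimes_eq_of_surjective
    (f := Ideal.Quotient.mk c) Ideal.Quotient.mk_surjective (⊥ : Ideal (R ⧸ c))
  rw [← RingHom.ker_eq_comap_bot, Ideal.mk_ker] at h1
  rw [h1] at h
  obtain ⟨P', hP', rfl⟩ := h
  exact ⟨P', hP', rfl⟩

/-- Associated primes of `R/c` as an `R`-module are minimal over `c` when `R/c` is Gorenstein. -/
theorem mem_minimalPrimes_of_mem_associatedPrimes_quotient [IsNoetherianRing R] (c : Ideal R)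
    [LocCoh.IsGorensteinRing (R ⧸ c)] {P : Ideal R} (hP : P ∈ associatedPrimes R (R ⧸ c)) :
    P ∈ c.minimalPrimes := by
  rw [AssociatedPrimes.mem_iff, isAssociatedPrime_iff] at hP
  obtain ⟨hPp, y, hy⟩ := hP
  have hmem : ∀ r : R, r ∈ P ↔ Ideal.Quotient.mk c r * y = 0 := by
    intro r
    rw [hy, Submodule.mem_colon_singleton, Submodule.mem_bot, Algebra.smul_def]
    rfl
  obtain ⟨P', hP'def⟩ : ∃ P' : Ideal (R ⧸ c),
      P' = (⊥ : Submodule (R ⧸ c) (R ⧸ c)).colon {y} := ⟨_, rfl⟩
  have hcomap : P'.comap (Ideal.Quotient.mk c) = P := by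
    ext r
    rw [Ideal.mem_comap, hP'def, Submodule.mem_colon_singleton, Submodule.mem_bot, smul_eq_mul,
      hmem]
  have hcP : c ≤ P := fun r hr =>
    (hmem r).mpr (by rw [Ideal.Quotient.eq_zero_iff_mem.mpr hr, zero_mul])
  have hP'p : P'.IsPrime := by
    have h1 : P' = P.map (Ideal.Quotient.mk c) := by
      rw [← hcomap, Ideal.map_comap_of_surjective _ Ideal.Quotient.mk_surjective]
    rw [h1]
    exact Ideal.map_isPrime_of_surjective Ideal.Quotient.mk_surjective (by rwa [Ideal.mk_ker])
  have hass : P' ∈ associatedPrimes (R ⧸ c) (R ⧸ c) := by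
    rw [AssociatedPrimes.mem_iff, isAssociatedPrime_iff]
    exact ⟨hP'p, y, hP'def⟩
  have := comap_mk_mem_minimalPrimes c (mem_minimalPrimes_of_mem_associatedPrimes (R ⧸ c) hass)
  rwa [hcomap] at this

/-- `Ass(R/(c : I)) ⊆ Ass(R/c)`. -/
theorem associatedPrimes_quotient_colon_subset [IsNoetherianRing R] (c I : Ideal R) :
    associatedPrimes R (R ⧸ c.colon (I : Set R)) ⊆ associatedPrimes R (R ⧸ c) := by
  classical
  intro P hP
  rw [AssociatedPrimes.mem_iff, isAssociatedPrime_iff] at hP ⊢
  obtain ⟨hPp, y, hy⟩ := hP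
  obtain ⟨y, rfl⟩ := Ideal.Quotient.mk_surjective y
  refine ⟨hPp, ?_⟩
  obtain ⟨s, hs⟩ := (isNoetherianRing_iff_ideal_fg R).mp inferInstance I
  have hcolon : c.colon (I : Set R) = c.colon (↑s : Set R) := by
    rw [← hs]
    exact Submodule.colon_span
  have hmemP : ∀ r : R, r ∈ P ↔ ∀ f ∈ s, r * y * f ∈ c := by
    intro r
    rw [hy, Submodule.mem_colon_singleton, Submodule.mem_bot]
    have h1 : r • (Ideal.Quotient.mk (c.colon (I : Set R)) y) =
        Ideal.Quotient.mk (c.colon (I : Set R)) (r * y) := rfl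
    rw [h1, Ideal.Quotient.eq_zero_iff_mem, hcolon, Submodule.mem_colon]
    constructor
    · intro h f hf
      exact h f (Finset.mem_coe.mpr hf)
    · intro h f hf
      exact h f (Finset.mem_coe.mp hf)
  have hQ : ∀ f r : R, r ∈ (⊥ : Submodule R (R ⧸ c)).colon {Ideal.Quotient.mk c (y * f)} ↔
      r * y * f ∈ c := by
    intro f r
    rw [Submodule.mem_colon_singleton, Submodule.mem_bot]
    have h1 : r • (Ideal.Quotient.mk c (y * f)) = Ideal.Quotient.mk c (r * y * f) := by
      rw [mul_assoc]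
      rfl
    rw [h1, Ideal.Quotient.eq_zero_iff_mem]
  have hinf : s.inf (fun f => (⊥ : Submodule R (R ⧸ c)).colon {Ideal.Quotient.mk c (y * f)}) ≤
      P := by
    intro r hr
    rw [Submodule.mem_finsetInf] at hr
    exact (hmemP r).mpr (fun f hf => (hQ f r).mp (hr f hf))
  obtain ⟨f, hf, hfP⟩ := (Ideal.IsPrime.inf_le' hPp).mp hinf
  refine ⟨Ideal.Quotient.mk c (y * f), le_antisymm ?_ hfP⟩
  intro r hr
  exact (hQ f r).mpr ((hmemP r).mp hr f hf)

/-- Third isomorphism theorem on heights. -/
theorem height_map_map_eq (c P m : Ideal R) (hcP : c ≤ P) :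
    ((m.map (Ideal.Quotient.mk c)).map
      (Ideal.Quotient.mk (P.map (Ideal.Quotient.mk c)))).height =
      (m.map (Ideal.Quotient.mk P)).height := by
  have hmap : Ideal.map ((DoubleQuot.quotQuotEquivQuotOfLE hcP : _ ≃+* _) : _ →+* _)
      ((m.map (Ideal.Quotient.mk c)).map (Ideal.Quotient.mk (P.map (Ideal.Quotient.mk c)))) =
      m.map (Ideal.Quotient.mk P) := by
    rw [Ideal.map_map, Ideal.map_map]
    congr 1
  rw [← hmap]
  exact ((DoubleQuot.quotQuotEquivQuotOfLE hcP).height_map _).symm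

theorem height_map_map_eq' (c P m : Ideal R) (P' : Ideal (R ⧸ c))
    (hP' : P.map (Ideal.Quotient.mk c) = P') (hcP : c ≤ P) :
    ((m.map (Ideal.Quotient.mk c)).map (Ideal.Quotient.mk P')).height =
      (m.map (Ideal.Quotient.mk P)).height := by
  subst hP'
  exact height_map_map_eq c P m hcP

end Quot

/-- In a Cohen–Macaulay ring, `ht m = ht(m/P) + ht P` for primes `P ≤ m`. -/
theorem height_eq_height_map_add_height {A : Type u} [CommRing A]
    [hA : LocCoh.IsCohenMacaulayRing A] (P m : Ideal A) [hP : P.IsPrime] [hm : m.IsPrime]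
    (hPm : P ≤ m) :
    m.height = (m.map (Ideal.Quotient.mk P)).height + P.height := by
  have hq : (m.map (Ideal.Quotient.mk P)).IsPrime :=
    Ideal.map_isPrime_of_surjective Ideal.Quotient.mk_surjective (by rwa [Ideal.mk_ker])
  have hcomap : (m.map (Ideal.Quotient.mk P)).comap (Ideal.Quotient.mk P) = m := by
    rw [Ideal.comap_map_of_surjective _ Ideal.Quotient.mk_surjective, ← RingHom.ker_eq_comap_bot,
      Ideal.mk_ker, sup_eq_left.mpr hPm]
  have h := Groth.Agent.Lib.Helper28.height_comap_eq_height_add_height_map P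
    (m.map (Ideal.Quotient.mk P))
  have key : ∀ (m₁ : Ideal A) [m₁.IsPrime], m₁ = m →
      (P.map (algebraMap A (Localization.AtPrime m₁))).height = P.height := by
    intro m₁ _ h1
    subst h1
    exact IsLocalization.height_map_of_disjoint m₁.primeCompl P
      (Set.disjoint_left.mpr (fun x hx hxP => hx (hPm hxP)))
  rw [key _ hcomap, hcomap] at h
  exact h

section Poly

variable (K : Type u) [Field K] (n : ℕ)

theorem eq_C_of_mem_stdGr_zero {p : MvPolynomial (Fin n) K}
    (hp : p ∈ GrSyz.stdGr K (Fin n) 0) : p = MvPolynomial.C (MvPolynomial.constantCoeff p) := by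
  have hC : (MvPolynomial.C (MvPolynomial.constantCoeff p) : MvPolynomial (Fin n) K) ∈
      GrSyz.stdGr K (Fin n) 0 :=
    (GrSyz.mem_stdGr_iff K (Fin n) _ _).2 (MvPolynomial.isWeightedHomogeneous_C _ _)
  have h1 := Groth.Agent.Lib.Helper23.eq_zero_of_mem_stdGr_of_nonpos (k := K) (σ := Fin n)
    (n := 0) le_rfl (Submodule.sub_mem _ hp hC)
    (by rw [map_sub, MvPolynomial.constantCoeff_C, sub_self])
  exact sub_eq_zero.1 h1

/-- A proper homogeneous ideal lies in the irrelevant maximal ideal. -/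
theorem le_ker_constantCoeff_of_isHomogeneous (P : Ideal (MvPolynomial (Fin n) K))
    (hP : P.IsHomogeneous (GrSyz.stdGr K (Fin n))) (hne : P ≠ ⊤) :
    P ≤ RingHom.ker (MvPolynomial.constantCoeff : MvPolynomial (Fin n) K →+* K) := by
  classical
  intro f hf
  rw [RingHom.mem_ker]
  by_contra hne0
  apply hne
  have hg : MvPolynomial.weightedHomogeneousComponent (fun _ : Fin n => (1 : ℤ)) 0 f ∈ P :=
    MvPolynomial.weightedHomogeneousComponent_mem_of_mem K (fun _ : Fin n => (1 : ℤ)) hP hf 0
  have hg0 : MvPolynomial.weightedHomogeneousComponent (fun _ : Fin n => (1 : ℤ)) 0 f ∈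
      GrSyz.stdGr K (Fin n) 0 :=
    MvPolynomial.weightedHomogeneousComponent_mem _ f 0
  have hgC := eq_C_of_mem_stdGr_zero K n hg0
  have hcc : MvPolynomial.constantCoeff
      (MvPolynomial.weightedHomogeneousComponent (fun _ : Fin n => (1 : ℤ)) 0 f) =
      MvPolynomial.constantCoeff f := by
    rw [MvPolynomial.constantCoeff_eq, MvPolynomial.coeff_weightedHomogeneousComponent,
      if_pos (map_zero _), ← MvPolynomial.constantCoeff_eq]
  rw [hcc] at hgC
  rw [hgC] at hg
  exact Ideal.eq_top_of_isUnit_mem _ hg ((isUnit_iff_ne_zero.mpr hne0).map MvPolynomial.C)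

/-- Minimal primes over a homogeneous ideal are homogeneous. -/
theorem isHomogeneous_of_mem_minimalPrimes (c : Ideal (MvPolynomial (Fin n) K))
    (hc : c.IsHomogeneous (GrSyz.stdGr K (Fin n))) {P : Ideal (MvPolynomial (Fin n) K)}
    (hP : P ∈ c.minimalPrimes) : P.IsHomogeneous (GrSyz.stdGr K (Fin n)) := by
  have hPp := hP.1.1
  have hcore := Ideal.IsPrime.homogeneousCore (𝒜 := GrSyz.stdGr K (Fin n)) hPp
  have hle : c ≤ (P.homogeneousCore (GrSyz.stdGr K (Fin n))).toIdeal := by
    have h1 := Ideal.homogeneousCore_mono (GrSyz.stdGr K (Fin n)) hP.1.2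
    have h2 := hc.toIdeal_homogeneousCore_eq_self
    rw [← h2]
    exact h1
  have hPle : P ≤ (P.homogeneousCore (GrSyz.stdGr K (Fin n))).toIdeal :=
    hP.2 ⟨hcore, hle⟩ (Ideal.toIdeal_homogeneousCore_le _ P)
  have heq : (P.homogeneousCore (GrSyz.stdGr K (Fin n))).toIdeal = P :=
    le_antisymm (Ideal.toIdeal_homogeneousCore_le _ P) hPle
  rw [← heq]
  exact (P.homogeneousCore (GrSyz.stdGr K (Fin n))).isHomogeneous

/-- All minimal primes over a homogeneous ideal with Gorenstein quotient have the same height. -/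
theorem height_eq_of_mem_minimalPrimes (c : Ideal (MvPolynomial (Fin n) K))
    (hc : c.IsHomogeneous (GrSyz.stdGr K (Fin n)))
    [LocCoh.IsGorensteinRing (MvPolynomial (Fin n) K ⧸ c)]
    {P Q : Ideal (MvPolynomial (Fin n) K)} (hP : P ∈ c.minimalPrimes)
    (hQ : Q ∈ c.minimalPrimes) : P.height = Q.height := by
  have hsurj : Function.Surjective
      (MvPolynomial.constantCoeff : MvPolynomial (Fin n) K →+* K) :=
    fun a => ⟨MvPolynomial.C a, MvPolynomial.constantCoeff_C _ a⟩
  obtain ⟨m, hmdef⟩ : ∃ m : Ideal (MvPolynomial (Fin n) K),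
      m = RingHom.ker (MvPolynomial.constantCoeff : MvPolynomial (Fin n) K →+* K) := ⟨_, rfl⟩
  have hmmax : m.IsMaximal := by
    rw [hmdef]
    exact RingHom.ker_isMaximal_of_surjective _ hsurj
  have hmp : m.IsPrime := hmmax.isPrime
  have hR : LocCoh.IsCohenMacaulayRing (MvPolynomial (Fin n) K) :=
    @Groth.Agent.Lib.Helper28.isCohenMacaulayRing_mvPolynomial_fin K _
      (Groth.Agent.Lib.Helper28.isCohenMacaulayRing_of_field K) n
  have hB : LocCoh.IsCohenMacaulayRing (MvPolynomial (Fin n) K ⧸ c) :=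
    isCohenMacaulayRing_of_isGorensteinRing _
  have key : ∀ P ∈ c.minimalPrimes,
      m.height = (m.map (Ideal.Quotient.mk c)).height + P.height := by
    intro P hP
    have hPp : P.IsPrime := hP.1.1
    have hPm : P ≤ m := by
      rw [hmdef]
      exact le_ker_constantCoeff_of_isHomogeneous K n P
        (isHomogeneous_of_mem_minimalPrimes K n c hc hP) hPp.ne_top
    have hcP : c ≤ P := hP.1.2
    obtain ⟨P', hP'min, hP'eq⟩ := exists_of_mem_minimalPrimes c hP
    have hP'p : P'.IsPrime := hP'min.1.1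
    have hmapP : P.map (Ideal.Quotient.mk c) = P' := by
      rw [← hP'eq, Ideal.map_comap_of_surjective _ Ideal.Quotient.mk_surjective]
    have h1 := height_eq_height_map_add_height P m hPm
    have hP'm : P' ≤ m.map (Ideal.Quotient.mk c) := by
      rw [← hmapP]
      exact Ideal.map_mono hPm
    have hm' : (m.map (Ideal.Quotient.mk c)).IsPrime :=
      Ideal.map_isPrime_of_surjective Ideal.Quotient.mk_surjective
        (by rw [Ideal.mk_ker]; exact hcP.trans hPm)
    have h2 := height_eq_height_map_add_height P' (m.map (Ideal.Quotient.mk c)) hP'm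
    have h0 : P'.height = 0 := Ideal.height_eq_zero_iff.mpr hP'min
    have hT := height_map_map_eq' c P m P' hmapP hcP
    rw [h0, add_zero, hT] at h2
    rw [h2]
    exact h1
  have h1 := key P hP
  have h2 := key Q hQ
  have hcm : c ≤ m := hP.1.2.trans (by
    rw [hmdef]
    exact le_ker_constantCoeff_of_isHomogeneous K n P
      (isHomogeneous_of_mem_minimalPrimes K n c hc hP) hP.1.1.ne_top)
  have hm' : (m.map (Ideal.Quotient.mk c)).IsPrime :=
    Ideal.map_isPrime_of_surjective Ideal.Quotient.mk_surjective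
      (by rw [Ideal.mk_ker]; exact hcm)
  have hfin : (m.map (Ideal.Quotient.mk c)).height ≠ ⊤ := Ideal.height_ne_top_of_isPrime
  rw [h1] at h2
  exact WithTop.add_left_cancel hfin h2

/-- `c : I` is unmixed of height `ht c` when `c` is homogeneous with Gorenstein quotient and
`I ⊄ c`. -/
theorem colon_unmixed (c I : Ideal (MvPolynomial (Fin n) K))
    (hc : c.IsHomogeneous (GrSyz.stdGr K (Fin n)))
    [LocCoh.IsGorensteinRing (MvPolynomial (Fin n) K ⧸ c)] (hIc : ¬ I ≤ c) :
    (c.colon (I : Set (MvPolynomial (Fin n) K))).height = c.height ∧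
      ∀ p ∈ associatedPrimes (MvPolynomial (Fin n) K)
        (MvPolynomial (Fin n) K ⧸ c.colon (I : Set (MvPolynomial (Fin n) K))),
        p.height = c.height := by
  have hN : IsNoetherianRing (MvPolynomial (Fin n) K) := inferInstance
  have hKne : c.colon (I : Set (MvPolynomial (Fin n) K)) ≠ ⊤ := by
    intro h
    apply hIc
    have h1 : (1 : MvPolynomial (Fin n) K) ∈ c.colon (I : Set (MvPolynomial (Fin n) K)) := by
      rw [h]
      trivial
    rw [Submodule.mem_colon] at h1
    intro x hx
    simpa using h1 x hx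
  have hminht : ∀ P ∈ c.minimalPrimes, P.height = c.height := by
    intro P hP
    apply le_antisymm
    · rw [Ideal.height_eq_inf_minimalPrimes c]
      exact le_iInf₂ (fun Q hQ => (height_eq_of_mem_minimalPrimes K n c hc hP hQ).le)
    · exact Ideal.height_mono hP.1.2
  have hass : ∀ P ∈ associatedPrimes (MvPolynomial (Fin n) K)
      (MvPolynomial (Fin n) K ⧸ c.colon (I : Set (MvPolynomial (Fin n) K))),
      P.height = c.height := fun P hP =>
    hminht P (mem_minimalPrimes_of_mem_associatedPrimes_quotient c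
      (associatedPrimes_quotient_colon_subset c I hP))
  have hminass : ∀ P ∈ (c.colon (I : Set (MvPolynomial (Fin n) K))).minimalPrimes,
      P ∈ associatedPrimes (MvPolynomial (Fin n) K)
        (MvPolynomial (Fin n) K ⧸ c.colon (I : Set (MvPolynomial (Fin n) K))) := by
    intro P hP
    apply Module.associatedPrimes.minimalPrimes_annihilator_subset_associatedPrimes
      (MvPolynomial (Fin n) K)
      (MvPolynomial (Fin n) K ⧸ c.colon (I : Set (MvPolynomial (Fin n) K)))
    rwa [Ideal.annihilator_quotient]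
  refine ⟨?_, hass⟩
  apply le_antisymm
  · obtain ⟨⟨P, hP⟩⟩ := Ideal.nonempty_minimalPrimes hKne
    rw [← hass P (hminass P hP)]
    exact Ideal.height_mono hP.1.2
  · rw [Ideal.height_eq_inf_minimalPrimes (c.colon (I : Set (MvPolynomial (Fin n) K)))]
    exact le_iInf₂ (fun P hP => (hass P (hminass P hP)).ge)

end Poly

end Groth.Agent.Lib.Helper5.GorUnmixed
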