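import Mathlib
import Groth.Agent.Lib.Helper29MCMDual
import Groth.Agent.Lib.Helper29Liaison
import Groth.Agent.Lib.Helper5GorRing
import Groth.Agent.Lib.Helper5GorEquidim
import Groth.Agent.Lib.Helper28Hypersurface
import Groth.Agent.S0340
import Groth.Agent.S0343

/-! Linkage of an almost complete intersection in a Gorenstein ring gives a Gorenstein quotient
(helper29).

* `ext_quot_subsingleton`: change of rings for `Ext` along `A → A/b` when `b = ann x`,
  `ann b = xA` and `Ext^j_A(A/b, A) = 0` for `j ≥ 1`.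
* `gorLocal_quotient_of_link`, `gorRing_quotient_of_link`, `gorRing_quot_of_colon`.
* `gorLocal_quotient_ofList`, `gorRing_quotient_of_eq_ofList`: complete intersections in
  Gorenstein rings are Gorenstein.
-/

set_option autoImplicit false
set_option linter.style.haveILetI false
universe u
open CategoryTheory CategoryTheory.Abelian IsLocalRing

namespace Groth.Agent.Lib.Helper29GorLink

open Groth.Agent.Lib.Helper28 Groth.Agent.Lib.Helper29ExtSes Groth.Agent.Lib.Helper29MCMDual
  Groth.Agent.Lib.Helper29Gorenstein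

section ChangeOfRings

variable (A : Type u) [CommRing A] [IsNoetherianRing A] (b : Ideal A) (x : A)

/-- multiplication by `x` as a map `A/b → A` when `b x = 0` -/
noncomputable def mulX (hbx : ∀ r ∈ b, r * x = 0) : (A ⧸ b) →ₗ[A] A :=
  Submodule.liftQ b (LinearMap.toSpanSingleton A A x) (fun r hr => by
    rw [LinearMap.mem_ker, LinearMap.toSpanSingleton_apply, smul_eq_mul]
    exact hbx r hr)

theorem mulX_mk (hbx : ∀ r ∈ b, r * x = 0) (r : A) :
    mulX A b x hbx (Ideal.Quotient.mk b r) = r * x := rfl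

theorem mulX_injective (hbx : ∀ r, r ∈ b ↔ r * x = 0) :
    Function.Injective (mulX A b x (fun r hr => (hbx r).mp hr)) := by
  rw [← LinearMap.ker_eq_bot, LinearMap.ker_eq_bot']
  intro m hm
  obtain ⟨r, rfl⟩ := Ideal.Quotient.mk_surjective m
  rw [mulX_mk] at hm
  exact Ideal.Quotient.eq_zero_iff_mem.mpr ((hbx r).mpr hm)

/-- Change of rings: if `b = ann x`, `ann b = x A` and `Ext^j_A((A/b)^m, A) = 0` for `j ≥ 1`, then
`Ext^p_A(N, A) = 0` implies `Ext^p_{A/b}(N, A/b) = 0` for finite `A/b`-modules `N` and `p ≥ 1`. -/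
theorem ext_quot_subsingleton (hbx : ∀ r, r ∈ b ↔ r * x = 0)
    (hxb : ∀ r : A, (∀ y ∈ b, r * y = 0) → ∃ s, r = s * x)
    (hExt : ∀ (m j : ℕ), 1 ≤ j →
      Subsingleton (Ext.{u} (ModuleCat.of A (Fin m → A ⧸ b)) (ModuleCat.of A A) j))
    (p : ℕ) (hp : 1 ≤ p) :
    ∀ (N : Type u) [AddCommGroup N] [Module A N] [Module (A ⧸ b) N] [IsScalarTower A (A ⧸ b) N]
      [Module.Finite (A ⧸ b) N],
      Subsingleton (Ext.{u} (ModuleCat.of A N) (ModuleCat.of A A) p) →
      Subsingleton (Ext.{u} (ModuleCat.of (A ⧸ b) N) (ModuleCat.of (A ⧸ b) (A ⧸ b)) p) := by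
  have hsurjAB : Function.Surjective (algebraMap A (A ⧸ b)) := Ideal.Quotient.mk_surjective
  induction p, hp using Nat.le_induction with
  | base =>
    intro N _ _ _ _ _ hN
    obtain ⟨m, π, hπ⟩ := Module.Finite.exists_fin' (A ⧸ b) N
    have hinj := Submodule.injective_subtype (LinearMap.ker π)
    have hex := LinearMap.exact_subtype_ker_map π
    apply subsingleton_one_of_extends (A := A ⧸ b) (LinearMap.ker π).subtype π hinj hπ hex
    intro φ
    have hμ := mulX_injective A b x hbx
    set μ := mulX A b x (fun r hr => (hbx r).mp hr) with hμdef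
    obtain ⟨ψ, hψ⟩ := exists_extension_of_ext_subsingleton
      ((LinearMap.ker π).subtype.restrictScalars A) (π.restrictScalars A) hinj hπ hex hN
      (μ ∘ₗ φ.restrictScalars A)
    have hmem : ∀ v, ψ v ∈ LinearMap.range μ := by
      intro v
      obtain ⟨s, hs⟩ := hxb (ψ v) (fun y hy => by
        rw [mul_comm, ← smul_eq_mul, ← map_smul]
        have : y • v = 0 := by
          rw [← algebraMap_smul (A ⧸ b) y v]
          have : algebraMap A (A ⧸ b) y = 0 := Ideal.Quotient.eq_zero_iff_mem.mpr hy
          rw [this, zero_smul]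
        rw [this, map_zero])
      exact ⟨Ideal.Quotient.mk b s, by rw [hs]; rfl⟩
    let e := LinearEquiv.ofInjective μ hμ
    let ψ' : (Fin m → A ⧸ b) →ₗ[A] (A ⧸ b) :=
      e.symm.toLinearMap ∘ₗ (ψ.codRestrict (LinearMap.range μ) hmem)
    have hψ' : ∀ v, μ (ψ' v) = ψ v := by
      intro v
      have h1 : e (ψ' v) = ψ.codRestrict (LinearMap.range μ) hmem v :=
        e.apply_symm_apply _
      have h2 : ((e (ψ' v) : LinearMap.range μ) : A) = μ (ψ' v) := rfl
      rw [← h2, h1]
      rfl
    refine ⟨LinearMap.extendScalarsOfSurjective hsurjAB ψ', LinearMap.ext fun k => ?_⟩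
    apply hμ
    change μ (ψ' ((LinearMap.ker π).subtype k)) = μ (φ k)
    rw [hψ']
    exact LinearMap.congr_fun hψ k
  | succ p hp ih =>
    intro N _ _ _ _ _ hN
    obtain ⟨m, π, hπ⟩ := Module.Finite.exists_fin' (A ⧸ b) N
    have hinj := Submodule.injective_subtype (LinearMap.ker π)
    have hex := LinearMap.exact_subtype_ker_map π
    have hS := ses_shortExact ((LinearMap.ker π).subtype.restrictScalars A) (π.restrictScalars A)
      hinj hπ hex
    have hK : Subsingleton (Ext.{u} (ModuleCat.of A (LinearMap.ker π)) (ModuleCat.of A A) p) :=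
      ext_X₁_subsingleton (ModuleCat.of A A) hS p (hExt m p hp) hN
    have h1 := ih (LinearMap.ker π) hK
    exact subsingleton_succ_of_ker (A := A ⧸ b) (LinearMap.ker π).subtype π hinj hπ hex p h1

end ChangeOfRings

section Local

variable (A : Type u) [CommRing A] [hA : LocCoh.IsGorensteinLocalRing A] (n : ℕ)
  (hn : ringKrullDim A = n)

include hn in
/-- Local linkage: if `a = ann b`, `b = ann a` in a Gorenstein local ring and `A/a` is
Cohen–Macaulay (or zero), then `A/b` is maximal Cohen–Macaulay. -/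
theorem le_depth_link (a b : Ideal A) (hb : ∀ r, r ∈ b ↔ ∀ y ∈ a, r * y = 0)
    (ha : ∀ r, r ∈ a ↔ ∀ y ∈ b, r * y = 0)
    (hCM : a = ⊤ ∨ Module.supportDim A (A ⧸ a) = ((LocCoh.depth A (A ⧸ a) : ℕ∞) : WithBot ℕ∞)) :
    (n : ℕ∞) ≤ LocCoh.depth A (A ⧸ b) := by
  have hdA := depth_self_eq A n hn
  have htopcase : a = ⊤ → (n : ℕ∞) ≤ LocCoh.depth A (A ⧸ a) := by
    intro h
    have : Subsingleton (A ⧸ a) := by
      rw [h]
      exact Submodule.Quotient.subsingleton_iff.mpr rfl
    rw [depth_eq_top_of_subsingleton]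
    exact le_top
  -- step 1
  have hMa : (n : ℕ∞) ≤ LocCoh.depth A (A ⧸ a) := by
    rcases hCM with h | h
    · exact htopcase h
    · by_cases hatop : a = ⊤
      · exact htopcase hatop
      have hCMA : LocCoh.IsCohenMacaulayModule A A :=
        (isCohenMacaulayLocalRing A n hn).supportDim_eq_depth
      have h1 := supportDim_eq_add_idealDepth_of_isCohenMacaulayModule (M := A) a hatop hCMA
      have haM : a • (⊤ : Submodule A A) = a := by
        rw [smul_eq_mul, Ideal.mul_top]
      by_cases hd : 1 ≤ LocCoh.idealDepth a A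
      · have hIM : a • (⊤ : Submodule A A) ≠ ⊤ := by rwa [haM]
        obtain ⟨x, hx, hreg⟩ := (one_le_idealDepth_iff hIM).mp hd
        have hbbot : ∀ r ∈ b, r = 0 := by
          intro r hr
          have h2 := (hb r).mp hr x hx
          apply hreg
          change x • r = x • 0
          rw [smul_zero, smul_eq_mul, mul_comm]
          exact h2
        have : (1 : A) ∈ a := by
          rw [ha]
          intro y hy
          rw [hbbot y hy, mul_zero]
        exact absurd ((Ideal.eq_top_iff_one a).mpr this) hatop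
      · have hd0 : LocCoh.idealDepth a A = 0 := by
          by_contra hne
          exact hd (Order.one_le_iff_ne_zero.mpr hne)
        rw [hd0, Module.supportDim_self_eq_ringKrullDim, hn] at h1
        have h2 : Module.supportDim A (A ⧸ (a • ⊤ : Submodule A A)) = (n : WithBot ℕ∞) := by
          rw [h1]
          simp
        have h3 : Module.supportDim A (A ⧸ a) = (n : WithBot ℕ∞) := by
          rw [← h2]
          rw [Module.supportDim_quotient_eq_ringKrullDim]
          have e : (A ⧸ (a • ⊤ : Submodule A A)) ≃ₗ[A] (A ⧸ a) :=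
            Submodule.quotEquivOfEq _ _ haM
          rw [Module.supportDim_eq_of_equiv e, Module.supportDim_quotient_eq_ringKrullDim]
        rw [h3] at h
        have h4 : ((n : ℕ∞) : WithBot ℕ∞) = ((LocCoh.depth A (A ⧸ a) : ℕ∞) : WithBot ℕ∞) := h
        exact le_of_eq (WithBot.coe_injective h4)
  -- step 2
  have hda : (n : ℕ∞) ≤ LocCoh.depth A a := by
    have h1 := min_idealDepth_le_left (maximalIdeal A) (Submodule.subtype a) (Submodule.mkQ a)
      (Submodule.injective_subtype a) (Submodule.mkQ_surjective a) (LinearMap.exact_subtype_mkQ a)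
    refine le_trans (le_min (le_of_eq hdA.symm) (le_trans hMa le_self_add)) h1
  -- step 3/4
  have hsurj := mulRestrict_surjective A n hn a hMa
  have hker := ker_mulRestrict A a b hb
  let e : (A ⧸ b) ≃ₗ[A] (a →ₗ[A] A) :=
    (Submodule.quotEquivOfEq _ _ hker.symm).trans ((mulRestrict A a).quotKerEquivOfSurjective hsurj)
  have h1 : LocCoh.depth A (A ⧸ b) = LocCoh.depth A (a →ₗ[A] A) :=
    idealDepth_congr e (maximalIdeal A)
  rw [h1]
  exact le_depth_dual A n hn a hda

include hn in
/-- If `b = ann x`, `ann b = xA` and `A/b` is maximal Cohen–Macaulay over the Gorenstein local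
ring `A`, then `A/b` is Gorenstein. -/
theorem gorLocal_quotient_of_depth (b : Ideal A) (x : A) (hbtop : b ≠ ⊤)
    (hbx : ∀ r, r ∈ b ↔ r * x = 0) (hxb : ∀ r : A, (∀ y ∈ b, r * y = 0) → ∃ s, r = s * x)
    (hdepth : (n : ℕ∞) ≤ LocCoh.depth A (A ⧸ b)) : LocCoh.IsGorensteinLocalRing (A ⧸ b) := by
  haveI : IsLocalRing (A ⧸ b) := Groth.Agent.Lib.Helper5.isLocalRing_quotient hbtop
  rw [Groth.Agent.S0340.result]
  refine ⟨n + 1, fun i hi => ?_⟩
  have hinj := (depth_eq_and_hasInjectiveDimensionLT A n hn).2
  have hExt : ∀ (m j : ℕ), 1 ≤ j →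
      Subsingleton (Ext.{u} (ModuleCat.of A (Fin m → A ⧸ b)) (ModuleCat.of A A) j) := by
    intro m j hj
    exact ext_subsingleton_of_depth A n hn (Fin m → A ⧸ b)
      (le_trans hdepth (idealDepth_le_idealDepth_pi_fin (maximalIdeal A) (A ⧸ b) m)) j hj
  apply ext_quot_subsingleton A b x hbx hxb hExt i (by omega) (ResidueField (A ⧸ b))
  exact HasInjectiveDimensionLT.subsingleton (ModuleCat.of A A) (n + 1) i hi _

include hn in
/-- Local statement: linkage by a principal ideal in a Gorenstein local ring gives a Gorenstein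
quotient. -/
theorem gorLocal_quotient_of_link (a b : Ideal A) (x : A) (hax : a = Ideal.span {x})
    (hbtop : b ≠ ⊤) (hb : ∀ r, r ∈ b ↔ ∀ y ∈ a, r * y = 0)
    (ha : ∀ r, r ∈ a ↔ ∀ y ∈ b, r * y = 0)
    (hCM : a = ⊤ ∨ Module.supportDim A (A ⧸ a) = ((LocCoh.depth A (A ⧸ a) : ℕ∞) : WithBot ℕ∞)) :
    LocCoh.IsGorensteinLocalRing (A ⧸ b) := by
  have hdepth := le_depth_link A n hn a b hb ha hCM
  apply gorLocal_quotient_of_depth A n hn b x hbtop ?_ ?_ hdepth
  · intro r
    rw [hb]
    constructor
    · intro h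
      exact h x (hax ▸ Ideal.subset_span rfl)
    · intro h y hy
      rw [hax] at hy
      obtain ⟨s, rfl⟩ := Ideal.mem_span_singleton'.mp hy
      rw [mul_left_comm, h, mul_zero]
  · intro r hr
    have h1 := (ha r).mpr hr
    rw [hax] at h1
    obtain ⟨s, hs⟩ := Ideal.mem_span_singleton'.mp h1
    exact ⟨s, hs.symm⟩

end Local

section Global

open Groth.Agent.Lib.Helper5 Groth.Agent.Lib.Helper5.GenDepth
  Groth.Agent.Lib.Helper25.GrGlob Groth.Agent.Lib.Helper25.GrVertex Groth.Agent.Lib.Helper29Liaison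
  Groth.Agent.Lib.Helper5.GorRing

variable (S : Type u) [CommRing S] [hS : LocCoh.IsGorensteinRing S]

/-- If `a = (x) = ann b` and `b = ann a` in a Gorenstein ring and `S/a` is Cohen–Macaulay then
`S/b` is Gorenstein. -/
theorem gorRing_quotient_of_link (a b : Ideal S) (x : S) (hax : a = Ideal.span {x})
    (hb : ∀ r, r ∈ b ↔ ∀ y ∈ a, r * y = 0) (ha : ∀ r, r ∈ a ↔ ∀ y ∈ b, r * y = 0)
    (hCM : LocCoh.IsCohenMacaulayRing (S ⧸ a)) : LocCoh.IsGorensteinRing (S ⧸ b) := by
  haveI : IsNoetherianRing S := inferInstance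
  refine { isGorensteinLocalRing_localization := fun Q hQ => ?_ }
  haveI := hQ
  have hq : (Q.comap (Ideal.Quotient.mk b)).IsPrime := Ideal.comap_isPrime _ _
  set q := Q.comap (Ideal.Quotient.mk b) with hqdef
  have hbq : b ≤ q := by
    intro y hy
    rw [hqdef, Ideal.mem_comap, Ideal.Quotient.eq_zero_iff_mem.mpr hy]
    exact Q.zero_mem
  haveI hG : LocCoh.IsGorensteinLocalRing (Localization.AtPrime q) :=
    hS.isGorensteinLocalRing_localization q
  obtain ⟨n, hn⟩ := Groth.Agent.Lib.Helper5.exists_nat_ringKrullDim_eq (Localization.AtPrime q)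
  have hG' : LocCoh.IsGorensteinLocalRing
      (Localization.AtPrime q ⧸ b.map (algebraMap S (Localization.AtPrime q))) := by
    apply gorLocal_quotient_of_link _ n hn (a.map (algebraMap S (Localization.AtPrime q)))
      (b.map (algebraMap S (Localization.AtPrime q))) (algebraMap S (Localization.AtPrime q) x)
      (by rw [hax, Ideal.map_span, Set.image_singleton]) ?_
      (map_ann q.primeCompl _ a b hb) (map_ann q.primeCompl _ b a ha) ?_
    · rw [IsLocalization.map_algebraMap_ne_top_iff_disjoint q.primeCompl, Set.disjoint_left]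
      intro y hy hyb
      exact hy (hbq hyb)
    · by_cases haq : a ≤ q
      · right
        have hprime : (q.map (Ideal.Quotient.mk a)).IsPrime := by
          apply Ideal.map_isPrime_of_surjective Ideal.Quotient.mk_surjective
          rw [Ideal.mk_ker]
          exact haq
        have h := hCM.isCohenMacaulayLocalRing_localization (q.map (Ideal.Quotient.mk a))
        have h2 := isCohenMacaulayModule_of_isCohenMacaulayLocalRing q a haq h
        have h3 : dm q (S ⧸ a) = ((dep q (S ⧸ a) : ℕ∞) : WithBot ℕ∞) := h2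
        rw [(dep_dm_quotient q a).1, (dep_dm_quotient q a).2] at h3
        exact h3
      · left
        by_contra hne
        rw [← ne_eq, IsLocalization.map_algebraMap_ne_top_iff_disjoint q.primeCompl,
          Set.disjoint_left] at hne
        apply haq
        intro y hy
        by_contra hyq
        exact hne hyq hy
  exact gorLocal_of_ringEquiv (localizationQuotientEquiv b Q).symm

end Global

section Colon

open Groth.Agent.Lib.Helper29Liaison Groth.Agent.Lib.Helper5.GorRing

variable {R : Type u} [CommRing R]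

/-- Direct linkage of an almost complete intersection `I = c + (f)` by a Gorenstein ideal `c`
gives a Gorenstein quotient. -/
theorem gorRing_quot_of_colon (c I J : Ideal R) (f : R) [LocCoh.IsGorensteinRing (R ⧸ c)]
    (hIJ : c.colon (I : Set R) = J) (hJI : c.colon (J : Set R) = I)
    (hIf : I = c ⊔ Ideal.span {f})
    (h : LocCoh.IsCohenMacaulayRing (R ⧸ I)) : LocCoh.IsGorensteinRing (R ⧸ J) := by
  have hcJ : c ≤ J := hIJ ▸ Ideal.le_colon
  have hcI : c ≤ I := hJI ▸ Ideal.le_colon
  have h1 : LocCoh.IsCohenMacaulayRing ((R ⧸ c) ⧸ I.map (Ideal.Quotient.mk c)) :=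
    isCohenMacaulayRing_of_ringEquiv (DoubleQuot.quotQuotEquivQuotOfLE hcI).symm
  have hspan : I.map (Ideal.Quotient.mk c) = Ideal.span {Ideal.Quotient.mk c f} := by
    rw [hIf, Ideal.map_sup, Ideal.map_quotient_self, bot_sup_eq, Ideal.map_span,
      Set.image_singleton]
  have h2 := gorRing_quotient_of_link (R ⧸ c) (I.map (Ideal.Quotient.mk c))
    (J.map (Ideal.Quotient.mk c)) (Ideal.Quotient.mk c f) hspan
    (map_mk_ann c I J hIJ hcI hcJ) (map_mk_ann c J I hJI hcJ hcI) h1
  exact gorRing_of_ringEquiv (DoubleQuot.quotQuotEquivQuotOfLE hcJ)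

end Colon

section CI

open RingTheory.Sequence Groth.Agent.Lib.Helper5.GorRing

theorem maximalIdeal_quotient_mk_mem {A : Type u} [CommRing A] [IsLocalRing A] (I : Ideal A)
    [IsLocalRing (A ⧸ I)] {y : A} (hy : y ∈ maximalIdeal A) :
    Ideal.Quotient.mk I y ∈ maximalIdeal (A ⧸ I) := by
  rw [mem_maximalIdeal, mem_nonunits_iff]
  intro hu
  have hne : I ≠ ⊤ := Groth.Agent.Lib.Helper5.ne_top_of_isLocalRing_quotient I
  have hIm : I ≤ maximalIdeal A := IsLocalRing.le_maximalIdeal hne
  obtain ⟨z, hz⟩ := hu.exists_right_inv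
  obtain ⟨z, rfl⟩ := Ideal.Quotient.mk_surjective z
  rw [← map_mul, ← map_one (Ideal.Quotient.mk I), Ideal.Quotient.eq] at hz
  have h1 : (1 : A) ∈ maximalIdeal A := by
    have h2 : (1 : A) = y * z - (y * z - 1) := by ring
    rw [h2]
    exact Ideal.sub_mem _ (Ideal.mul_mem_right _ _ hy) (hIm hz)
  exact (Ideal.ne_top_iff_one _).mp (maximalIdeal.isMaximal A).ne_top h1

/-- The quotient of a Gorenstein local ring by a regular sequence is Gorenstein. -/
theorem gorLocal_quotient_ofList (k : ℕ) :
    ∀ (A : Type u) [CommRing A] [LocCoh.IsGorensteinLocalRing A] (ys : List A),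
      ys.length = k → (∀ y ∈ ys, y ∈ maximalIdeal A) → IsWeaklyRegular A ys →
      LocCoh.IsGorensteinLocalRing (A ⧸ Ideal.ofList ys) := by
  induction k with
  | zero =>
    intro A _ hA ys hlen _ _
    have : ys = [] := List.length_eq_zero_iff.mp hlen
    subst this
    rw [Ideal.ofList_nil]
    exact gorLocal_of_ringEquiv (RingEquiv.quotientBot A).symm
  | succ k ih =>
    intro A _ hA ys hlen hmem hreg
    obtain ⟨y, ys, rfl⟩ : ∃ y ys', ys = y :: ys' := by
      cases ys with
      | nil => simp at hlen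
      | cons y ys' => exact ⟨y, ys', rfl⟩
    rw [isWeaklyRegular_cons_iff] at hreg
    have hy : y ∈ maximalIdeal A := hmem y List.mem_cons_self
    haveI hG' : LocCoh.IsGorensteinLocalRing (A ⧸ Ideal.span {y}) :=
      (Groth.Agent.S0343.result A y hy hreg.1).mp hA
    have hlen' : (ys.map (Ideal.Quotient.mk (Ideal.span {y}))).length = k := by
      rw [List.length_map]
      simpa using hlen
    have hmem' : ∀ z ∈ ys.map (Ideal.Quotient.mk (Ideal.span {y})),
        z ∈ maximalIdeal (A ⧸ Ideal.span {y}) := by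
      intro z hz
      obtain ⟨w, hw, rfl⟩ := List.mem_map.mp hz
      exact maximalIdeal_quotient_mk_mem _ (hmem w (List.mem_cons_of_mem _ hw))
    have hreg' : IsWeaklyRegular (A ⧸ Ideal.span {y})
        (ys.map (Ideal.Quotient.mk (Ideal.span {y}))) := by
      have h1 : IsWeaklyRegular (A ⧸ Ideal.span {y})
          (ys.map (algebraMap A (A ⧸ Ideal.span {y}))) := by
        rw [isWeaklyRegular_map_algebraMap_iff]
        have e : QuotSMulTop y A ≃ₗ[A] (A ⧸ Ideal.span {y}) :=
          Submodule.quotEquivOfEq _ _ (by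
            rw [← Submodule.ideal_span_singleton_smul, smul_eq_mul, Ideal.mul_top])
        exact (e.isWeaklyRegular_congr ys).mp hreg.2
      exact h1
    have h2 := ih (A ⧸ Ideal.span {y}) (ys.map (Ideal.Quotient.mk (Ideal.span {y}))) hlen' hmem'
      hreg'
    rw [← Ideal.map_ofList] at h2
    have e := DoubleQuot.quotQuotEquivQuotSup (Ideal.span {y}) (Ideal.ofList ys)
    rw [Ideal.ofList_cons]
    exact gorLocal_of_ringEquiv e

variable {A : Type u} [CommRing A] [hA : LocCoh.IsGorensteinRing A]

/-- The quotient of a Gorenstein ring by `xs` with `ht (xs) ≥ length xs` is Gorenstein. -/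
theorem gorRing_quotient_of_eq_ofList (xs : List A) (I : Ideal A)
    (hI : I = Ideal.ofList xs) (h : (xs.length : ℕ∞) ≤ I.height) :
    LocCoh.IsGorensteinRing (A ⧸ I) := by
  haveI hN : IsNoetherianRing A := inferInstance
  haveI hCMA : LocCoh.IsCohenMacaulayRing A :=
    Groth.Agent.Lib.Helper5.GorUnmixed.isCohenMacaulayRing_of_isGorensteinRing A
  refine { isGorensteinLocalRing_localization := fun Q hQ => ?_ }
  haveI := hQ
  have hq : (Q.comap (Ideal.Quotient.mk I)).IsPrime := Ideal.comap_isPrime _ _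
  set q := Q.comap (Ideal.Quotient.mk I) with hqdef
  have hIq : I ≤ q := by
    intro x hx
    rw [hqdef, Ideal.mem_comap, Ideal.Quotient.eq_zero_iff_mem.mpr hx]
    exact Q.zero_mem
  haveI hR := hCMA.isCohenMacaulayLocalRing_localization q
  haveI hG := hA.isGorensteinLocalRing_localization q
  let e := localizationQuotientEquiv I Q
  set ys := xs.map (algebraMap A (Localization.AtPrime q)) with hys
  have hmapI : I.map (algebraMap A (Localization.AtPrime q)) = Ideal.ofList ys := by
    rw [hys, hI, Ideal.map_ofList]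
  have hmem : ∀ y ∈ ys, y ∈ IsLocalRing.maximalIdeal (Localization.AtPrime q) := by
    intro y hy
    obtain ⟨a, ha, rfl⟩ := List.mem_map.mp hy
    rw [← Localization.AtPrime.map_eq_maximalIdeal]
    have haI : a ∈ I := by rw [hI]; exact Ideal.subset_span ha
    exact Ideal.mem_map_of_mem _ (hIq haI)
  have hht : (ys.length : ℕ∞) ≤ (Ideal.ofList ys).height := by
    rw [hys, List.length_map, ← Ideal.map_ofList,
      ← IsLocalization.height_under q.primeCompl, ← hI]
    exact le_trans h (Ideal.height_mono Ideal.le_comap_map)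
  obtain ⟨hreg, -, -⟩ := isWeaklyRegular_of_length_le_height ys hmem hht
  have hG' := gorLocal_quotient_ofList ys.length (Localization.AtPrime q) ys rfl hmem hreg
  rw [← hmapI] at hG'
  exact gorLocal_of_ringEquiv e.symm

end CI

section CMAss

open Groth.Agent.Lib.Helper5.GorUnmixed

/-- In a Cohen–Macaulay ring, every associated prime of the ring is a minimal prime. -/
theorem mem_minimalPrimes_of_mem_associatedPrimes_cm (B : Type u) [CommRing B]
    [hB : LocCoh.IsCohenMacaulayRing B] {P : Ideal B} (hP : P ∈ associatedPrimes B B) :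
    P ∈ minimalPrimes B := by
  have hPp : P.IsPrime := hP.isPrime
  have hG : LocCoh.IsCohenMacaulayLocalRing (Localization.AtPrime P) :=
    hB.isCohenMacaulayLocalRing_localization P
  have hmax : maximalIdeal (Localization.AtPrime P) ∈
      associatedPrimes (Localization.AtPrime P) (Localization.AtPrime P) := by
    apply Module.associatedPrimes.mem_associatedPrimes_of_comap_mem_associatedPrimes_of_isLocalizedModule
      P.primeCompl (Algebra.linearMap B (Localization.AtPrime P))
    have hcm : Ideal.comap (algebraMap B (Localization.AtPrime P))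
        (maximalIdeal (Localization.AtPrime P)) = P := Localization.AtPrime.under_maximalIdeal
    rw [hcm]
    exact hP
  obtain ⟨d, hd⟩ := Groth.Agent.S0345.exists_natCast_ringKrullDim (Localization.AtPrime P)
  have hdepth : LocCoh.depth (Localization.AtPrime P) (Localization.AtPrime P) = d := by
    have h1 := hG.supportDim_eq_depth
    rw [Module.supportDim_self_eq_ringKrullDim, hd] at h1
    have h2 : ((d : ℕ∞) : WithBot ℕ∞) =
        ((LocCoh.depth (Localization.AtPrime P) (Localization.AtPrime P) : ℕ∞) : WithBot ℕ∞) := h1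
    exact (WithBot.coe_injective h2).symm
  have hle := Groth.Agent.Lib.Helper5.depth_le_ringKrullDim_quotient
    (A := Localization.AtPrime P) (M := Localization.AtPrime P) hmax
  have h0 : ringKrullDim (Localization.AtPrime P ⧸ maximalIdeal (Localization.AtPrime P)) = 0 :=
    ringKrullDim_eq_zero_of_isField
      ((Ideal.Quotient.maximal_ideal_iff_isField_quotient _).mp inferInstance)
  rw [hdepth, h0] at hle
  have hd0 : d = 0 := by
    have : (d : WithBot ℕ∞) ≤ 0 := by exact_mod_cast hle
    have h2 : (d : ℕ∞) ≤ 0 := by exact_mod_cast this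
    exact_mod_cast (nonpos_iff_eq_zero.mp h2)
  rw [hd0, IsLocalization.AtPrime.ringKrullDim_eq_height P] at hd
  rw [← Ideal.height_eq_zero_iff]
  exact_mod_cast hd

variable {R : Type u} [CommRing R]

/-- Associated primes of `R/c` as an `R`-module are minimal over `c` when `R/c` is
Cohen–Macaulay. -/
theorem mem_minimalPrimes_of_mem_associatedPrimes_quotient_cm [IsNoetherianRing R] (c : Ideal R)
    [LocCoh.IsCohenMacaulayRing (R ⧸ c)] {P : Ideal R} (hP : P ∈ associatedPrimes R (R ⧸ c)) :
    P ∈ c.minimalPrimes := by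
  rw [AssociatedPrimes.mem_iff, isAssociatedPrime_iff] at hP
  obtain ⟨hPp, y, hy⟩ := hP
  have hmem : ∀ r : R, r ∈ P ↔ Ideal.Quotient.mk c r * y = 0 := by
    intro r
    rw [hy, Submodule.mem_colon_singleton, Submodule.mem_bot, Algebra.smul_def]
    rfl
  obtain ⟨P', hP'def⟩ : ∃ P' : Ideal (R ⧸ c),
      P' = (⊥ : Submodule (R ⧸ c) (R ⧸ c)).colon {y} := ⟨_, rfl⟩
  have hcomap : P'.comap (Ideal.Quotient.mk c) = P := by
    ext r
    rw [Ideal.mem_comap, hP'def, Submodule.mem_colon_singleton, Submodule.mem_bot, smul_eq_mul,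
      hmem]
  have hcP : c ≤ P := fun r hr =>
    (hmem r).mpr (by rw [Ideal.Quotient.eq_zero_iff_mem.mpr hr, zero_mul])
  have hP'p : P'.IsPrime := by
    have h1 : P' = P.map (Ideal.Quotient.mk c) := by
      rw [← hcomap, Ideal.map_comap_of_surjective _ Ideal.Quotient.mk_surjective]
    rw [h1]
    exact Ideal.map_isPrime_of_surjective Ideal.Quotient.mk_surjective (by rwa [Ideal.mk_ker])
  have hass : P' ∈ associatedPrimes (R ⧸ c) (R ⧸ c) := by
    rw [AssociatedPrimes.mem_iff, isAssociatedPrime_iff]
    exact ⟨hP'p, y, hP'def⟩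
  have := comap_mk_mem_minimalPrimes c (mem_minimalPrimes_of_mem_associatedPrimes_cm (R ⧸ c) hass)
  rwa [hcomap] at this

end CMAss

end Groth.Agent.Lib.Helper29GorLink
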