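import Mathlib
import Groth.Agent.Lib.Helper5ArtNZD
import Groth.Agent.Lib.Helper5NilFree

/-!
# Regular sequences on flat modules over an Artinian local ring (helper5)

For a local ring `A` with nilpotent maximal ideal, a proper ideal `I`, an `A`-algebra `S` and an
`S`-module `M` flat over `A`, a sequence in `S` is `M`-regular iff it is `M/IM`-regular.
-/

set_option autoImplicit false
universe u v w
open scoped TensorProduct Pointwise

namespace Groth.Agent.Lib.Helper5

section Quot

variable {S : Type v} [CommRing S] {M : Type w} [AddCommGroup M] [Module S M]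

/-- Quotients by two submodules commute. -/
noncomputable def quotientQuotientComm (P Q : Submodule S M) :
    ((M ⧸ P) ⧸ Q.map P.mkQ) ≃ₗ[S] ((M ⧸ Q) ⧸ P.map Q.mkQ) :=
  Submodule.quotientQuotientEquivQuotientSup P Q ≪≫ₗ
    Submodule.quotEquivOfEq _ _ (sup_comm P Q) ≪≫ₗ
    (Submodule.quotientQuotientEquivQuotientSup Q P).symm

theorem ideal_smul_top_quotient (J : Ideal S) (P : Submodule S M) :
    (J • ⊤ : Submodule S (M ⧸ P)) = (J • ⊤ : Submodule S M).map P.mkQ := by
  rw [Submodule.map_smul'', Submodule.map_top, Submodule.range_mkQ]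

theorem element_smul_top_quotient (r : S) (P : Submodule S M) :
    (r • ⊤ : Submodule S (M ⧸ P)) = (r • ⊤ : Submodule S M).map P.mkQ := by
  rw [Submodule.map_pointwise_smul, Submodule.map_top, Submodule.range_mkQ]

/-- `(M / rM) / J(M / rM) ≃ (M / JM) / r(M / JM)`. -/
noncomputable def quotSMulTopQuotientEquiv (J : Ideal S) (r : S) :
    (QuotSMulTop r M ⧸ (J • ⊤ : Submodule S (QuotSMulTop r M))) ≃ₗ[S]
      QuotSMulTop r (M ⧸ (J • ⊤ : Submodule S M)) :=
  Submodule.quotEquivOfEq _ _ (ideal_smul_top_quotient J (r • ⊤ : Submodule S M)) ≪≫ₗ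
    quotientQuotientComm (r • ⊤ : Submodule S M) (J • ⊤ : Submodule S M) ≪≫ₗ
    Submodule.quotEquivOfEq _ _ (element_smul_top_quotient r (J • ⊤ : Submodule S M)).symm

end Quot

section Main

variable {A : Type u} [CommRing A] [IsLocalRing A] {S : Type v} [CommRing S] [Algebra A S]

theorem mem_map_smul_top_iff' {A : Type u} [CommRing A] {S : Type v} [CommRing S] [Algebra A S]
    {M : Type w} [AddCommGroup M] [Module A M] [Module S M] [IsScalarTower A S M]
    (I : Ideal A) (x : M) :
    x ∈ (I.map (algebraMap A S) • ⊤ : Submodule S M) ↔ x ∈ (I • ⊤ : Submodule A M) := by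
  have h := Ideal.smul_restrictScalars (S := S) I (⊤ : Submodule S M)
  rw [Submodule.restrictScalars_top] at h
  rw [← h, Submodule.restrictScalars_mem]

/-- Regularity of an element of `S` on `M` can be tested modulo a proper ideal of `A`. -/
theorem isSMulRegular_iff_isSMulRegular_quotient (n : ℕ)
    (hn : IsLocalRing.maximalIdeal A ^ n = ⊥) (I : Ideal A) (hI : I ≠ ⊤)
    (M : Type w) [AddCommGroup M] [Module A M] [Module S M] [IsScalarTower A S M]
    [Module.Flat A M] (r : S) :
    IsSMulRegular M r ↔
      IsSMulRegular (M ⧸ (I.map (algebraMap A S) • ⊤ : Submodule S M)) r := by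
  obtain ⟨u, hu⟩ : ∃ u : M →ₗ[A] M, ∀ x, u x = r • x :=
    ⟨(LinearMap.lsmul S M r).restrictScalars A, fun x => rfl⟩
  have h1 : IsSMulRegular M r ↔ Function.Injective u := by
    have : (fun x : M => r • x) = u := funext fun x => (hu x).symm
    unfold IsSMulRegular
    rw [this]
  have h2 : IsSMulRegular (M ⧸ (I.map (algebraMap A S) • ⊤ : Submodule S M)) r ↔
      Function.Injective (u.lTensor (A ⧸ I)) := by
    rw [lTensor_quotient_injective_iff, isSMulRegular_iff_right_eq_zero_of_smul]
    constructor
    · intro h x hx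
      rw [← mem_map_smul_top_iff' (S := S)] at hx ⊢
      rw [hu, ← Submodule.Quotient.mk_eq_zero, Submodule.Quotient.mk_smul] at hx
      rw [← Submodule.Quotient.mk_eq_zero]
      exact h _ hx
    · intro h y hy
      obtain ⟨x, rfl⟩ := Submodule.Quotient.mk_surjective _ y
      rw [← Submodule.Quotient.mk_smul, Submodule.Quotient.mk_eq_zero, ← hu,
        mem_map_smul_top_iff'] at hy
      rw [Submodule.Quotient.mk_eq_zero, mem_map_smul_top_iff']
      exact h x hy
  rw [h1, h2]
  exact injective_iff_lTensor_quotient_injective n hn I hI u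

/-- Quotient of a flat module by a regular element of `S` is flat over `A`. -/
theorem flat_quotSMulTop_of_isSMulRegular (n : ℕ)
    (hn : IsLocalRing.maximalIdeal A ^ n = ⊥)
    (M : Type w) [AddCommGroup M] [Module A M] [Module S M] [IsScalarTower A S M]
    [Module.Flat A M] (r : S) (hr : IsSMulRegular M r) : Module.Flat A (QuotSMulTop r M) := by
  obtain ⟨u, hu⟩ : ∃ u : M →ₗ[A] M, ∀ x, u x = r • x :=
    ⟨(LinearMap.lsmul S M r).restrictScalars A, fun x => rfl⟩
  have h1 : Function.Injective u := by
    have : (fun x : M => r • x) = u := funext fun x => (hu x).symm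
    unfold IsSMulRegular at hr
    rw [this] at hr
    exact hr
  refine flat_of_exact_of_injective_endomorphism n hn u h1
    ((Submodule.mkQ (r • ⊤ : Submodule S M)).restrictScalars A)
    (Submodule.mkQ_surjective (r • ⊤ : Submodule S M)) ?_
  intro x
  rw [LinearMap.restrictScalars_apply, Submodule.mkQ_apply, Submodule.Quotient.mk_eq_zero,
    Submodule.mem_smul_pointwise_iff_exists]
  constructor
  · rintro ⟨y, _, rfl⟩
    exact ⟨y, hu y⟩
  · rintro ⟨y, rfl⟩
    exact ⟨y, Submodule.mem_top, (hu y).symm⟩

/-- Nontriviality can be tested modulo a proper ideal of `A`. -/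
theorem nontrivial_iff_nontrivial_quotient (n : ℕ)
    (hn : IsLocalRing.maximalIdeal A ^ n = ⊥) (I : Ideal A) (hI : I ≠ ⊤)
    (M : Type w) [AddCommGroup M] [Module A M] [Module S M] [IsScalarTower A S M] :
    Nontrivial M ↔ Nontrivial (M ⧸ (I.map (algebraMap A S) • ⊤ : Submodule S M)) := by
  have hnil : IsNilpotent I := by
    refine ⟨n, ?_⟩
    rw [Ideal.zero_eq_bot, ← le_bot_iff, ← hn]
    exact Ideal.pow_right_mono (IsLocalRing.le_maximalIdeal hI) n
  constructor
  · intro h
    rw [Submodule.Quotient.nontrivial_iff]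
    intro htop
    have h1 : (⊤ : Submodule A M) ≤ I • ⊤ := by
      intro x _
      rw [← mem_map_smul_top_iff' (S := S), htop]
      exact Submodule.mem_top
    have h2 := eq_bot_of_le_smul_of_isNilpotent hnil h1
    have : Subsingleton M := by
      rw [← Submodule.subsingleton_iff A]
      exact subsingleton_of_bot_eq_top h2.symm
    exact not_subsingleton M this
  · intro h
    by_contra hM
    rw [not_nontrivial_iff_subsingleton] at hM
    have : Subsingleton (M ⧸ (I.map (algebraMap A S) • ⊤ : Submodule S M)) :=
      (Submodule.Quotient.mk_surjective _).subsingleton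
    exact not_subsingleton _ this

/-- A sequence in `S` is regular on an `S`-module `M` flat over `A` iff it is regular on the
reduction of `M` modulo a proper ideal of `A`. -/
theorem isRegular_iff_isRegular_quotient (n : ℕ)
    (hn : IsLocalRing.maximalIdeal A ^ n = ⊥) (I : Ideal A) (hI : I ≠ ⊤) (rs : List S)
    (M : Type w) [AddCommGroup M] [Module A M] [Module S M] [IsScalarTower A S M]
    [Module.Flat A M] :
    RingTheory.Sequence.IsRegular M rs ↔
      RingTheory.Sequence.IsRegular
        (M ⧸ (I.map (algebraMap A S) • ⊤ : Submodule S M)) rs := by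
  induction rs generalizing M with
  | nil =>
    have key : ∀ (N : Type w) [AddCommGroup N] [Module S N],
        RingTheory.Sequence.IsRegular N ([] : List S) ↔ Nontrivial N := by
      intro N _ _
      constructor
      · intro h
        exact h.nontrivial
      · intro h
        exact RingTheory.Sequence.IsRegular.nil S N
    rw [key, key]
    exact nontrivial_iff_nontrivial_quotient n hn I hI M
  | cons r rs ih =>
    rw [RingTheory.Sequence.isRegular_cons_iff, RingTheory.Sequence.isRegular_cons_iff,
      ← isSMulRegular_iff_isSMulRegular_quotient n hn I hI M r]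
    apply and_congr_right
    intro hr
    have hflat : Module.Flat A (QuotSMulTop r M) := flat_quotSMulTop_of_isSMulRegular n hn M r hr
    rw [ih (QuotSMulTop r M)]
    exact LinearEquiv.isRegular_congr (quotSMulTopQuotientEquiv (I.map (algebraMap A S)) r) rs

/-- The quotient of a flat module by a weakly regular sequence of `S` is flat over `A`. -/
theorem flat_quotient_ofList_smul_top_of_isWeaklyRegular (n : ℕ)
    (hn : IsLocalRing.maximalIdeal A ^ n = ⊥) (rs : List S)
    (M : Type w) [AddCommGroup M] [Module A M] [Module S M] [IsScalarTower A S M]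
    [Module.Flat A M] (h : RingTheory.Sequence.IsWeaklyRegular M rs) :
    Module.Flat A (M ⧸ (Ideal.ofList rs • ⊤ : Submodule S M)) := by
  induction rs generalizing M with
  | nil =>
    have h0 : (Ideal.ofList ([] : List S) • ⊤ : Submodule S M) = ⊥ := by
      rw [Ideal.ofList_nil, Submodule.bot_smul]
    exact Module.Flat.of_linearEquiv
      ((Submodule.quotEquivOfEqBot _ h0).restrictScalars A)
  | cons r rs ih =>
    rw [RingTheory.Sequence.isWeaklyRegular_cons_iff] at h
    have hflat : Module.Flat A (QuotSMulTop r M) :=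
      flat_quotSMulTop_of_isSMulRegular n hn M r h.1
    have h2 := ih (QuotSMulTop r M) h.2
    exact Module.Flat.of_linearEquiv
      ((Submodule.quotOfListConsSMulTopEquivQuotSMulTopInner M r rs).restrictScalars A)

end Main

section Ring

variable {A : Type u} [CommRing A] [IsLocalRing A] {S : Type v} [CommRing S] [Algebra A S]

/-- Ring form: a list in a flat `A`-algebra `S` is a regular sequence iff its reduction modulo
a proper ideal `I` of `A` is a regular sequence of `S/IS`. -/
theorem isRegular_iff_isRegular_quotient_ring (n : ℕ)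
    (hn : IsLocalRing.maximalIdeal A ^ n = ⊥) (I : Ideal A) (hI : I ≠ ⊤) [Module.Flat A S]
    (rs : List S) :
    RingTheory.Sequence.IsRegular S rs ↔
      RingTheory.Sequence.IsRegular (S ⧸ I.map (algebraMap A S))
        (rs.map (Ideal.Quotient.mk (I.map (algebraMap A S)))) := by
  rw [isRegular_iff_isRegular_quotient n hn I hI rs S]
  have hJ : (I.map (algebraMap A S) • ⊤ : Submodule S S) = I.map (algebraMap A S) := by
    rw [smul_eq_mul, Ideal.mul_top]
  refine (Submodule.quotEquivOfEq _ _ hJ).toAddEquiv.isRegular_congr ?_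
  refine List.forall₂_map_right_iff.mpr (List.forall₂_same.mpr fun r _ x => ?_)
  have h1 : (Submodule.quotEquivOfEq _ _ hJ).toAddEquiv (r • x) =
      r • (Submodule.quotEquivOfEq _ _ hJ) x := (Submodule.quotEquivOfEq _ _ hJ).map_smul r x
  rw [h1, Algebra.smul_def, Ideal.Quotient.algebraMap_eq]
  rfl

/-- `Fin`-indexed form of `isRegular_iff_isRegular_quotient_ring`. -/
theorem isRegular_ofFn_iff_isRegular_quotient_ring (n : ℕ)
    (hn : IsLocalRing.maximalIdeal A ^ n = ⊥) (I : Ideal A) (hI : I ≠ ⊤) [Module.Flat A S]
    {r : ℕ} (a : Fin r → S) :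
    RingTheory.Sequence.IsRegular S (List.ofFn a) ↔
      RingTheory.Sequence.IsRegular (S ⧸ I.map (algebraMap A S))
        (List.ofFn fun i => Ideal.Quotient.mk (I.map (algebraMap A S)) (a i)) := by
  rw [isRegular_iff_isRegular_quotient_ring n hn I hI, List.map_ofFn]
  rfl

/-- The quotient of a flat `A`-algebra by a weakly regular sequence is flat over `A`. -/
theorem flat_quotient_span_range_of_isWeaklyRegular (n : ℕ)
    (hn : IsLocalRing.maximalIdeal A ^ n = ⊥) [Module.Flat A S] {r : ℕ} (a : Fin r → S)
    (h : RingTheory.Sequence.IsWeaklyRegular S (List.ofFn a)) :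
    Module.Flat A (S ⧸ Ideal.span (Set.range a)) := by
  have hflat := flat_quotient_ofList_smul_top_of_isWeaklyRegular (A := A) n hn (List.ofFn a) S h
  have hJ' : (Ideal.ofList (List.ofFn a) • ⊤ : Submodule S S) = Ideal.span (Set.range a) := by
    rw [smul_eq_mul, Ideal.mul_top]
    show Ideal.span {r | r ∈ List.ofFn a} = Ideal.span (Set.range a)
    congr 1
    ext x
    exact List.mem_ofFn' a x
  exact Module.Flat.of_linearEquiv ((Submodule.quotEquivOfEq _ _ hJ').restrictScalars A).symm

end Ring

end Groth.Agent.Lib.Helper5
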