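import Mathlib
import Groth.Agent.Lib.Helper5ArtRegSeq
import Groth.Agent.Lib.Helper5CM2
import Groth.Agent.Lib.Helper5RLR3
import Groth.Agent.Lib.Helper29GorLink
import Groth.Agent.Lib.Helper5GorRing
import Groth.Agent.Lib.Helper19SopRegular
import Groth.Agent.Lib.Helper19FlatResExtB
import Groth.Agent.S0342

/-!
# Cutting a flat local algebra with regular closed fibre down to an Artinian one (helper19)

`B` a Noetherian local flat algebra over a local ring `R` with nilpotent maximal ideal, whose closed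
fibre `B / 𝔪_R B` is regular, with a surjection onto a local ring `S` with nilpotent maximal ideal:
then a quotient `B / K` (with `K` generated by powers of lifts of a regular system of parameters of
the fibre) is Artinian local, flat over `R`, has Gorenstein closed fibre and still surjects onto `S`.
-/

set_option autoImplicit false
universe u

namespace Groth.Agent.Lib.Helper19ArtCohen

open IsLocalRing RingTheory.Sequence

/-- In a regular local ring, the `N`-th powers of a sequence generating the maximal ideal, of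
length the dimension, form a regular sequence. -/
theorem isRegular_map_pow {F : Type u} [CommRing F] [IsRegularLocalRing F] (rs : List F)
    (hlen : ringKrullDim F = (rs.length : ℕ)) (hrs : Ideal.ofList rs = maximalIdeal F)
    (N : ℕ) (hN : 0 < N) :
    (∀ x ∈ rs.map (· ^ N), x ∈ maximalIdeal F) ∧ IsRegular F (rs.map (· ^ N)) := by
  have hNoeth : IsNoetherianRing F := inferInstance
  set xs := rs.map (· ^ N) with hxs
  have hmem : ∀ x ∈ xs, x ∈ maximalIdeal F := by
    intro x hx
    obtain ⟨r, hr, rfl⟩ := List.mem_map.mp hx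
    have : r ∈ maximalIdeal F := hrs ▸ Ideal.subset_span hr
    exact Ideal.pow_mem_of_mem _ this N hN
  have hle : Ideal.ofList xs ≤ maximalIdeal F := by
    unfold Ideal.ofList
    rw [Ideal.span_le]
    exact fun x hx => hmem x hx
  have hne : Ideal.ofList xs ≠ ⊤ := ne_top_of_le_ne_top (maximalIdeal.isMaximal F).ne_top hle
  have hrad : maximalIdeal F ≤ (Ideal.ofList xs).radical := by
    rw [← hrs]
    unfold Ideal.ofList
    rw [Ideal.span_le]
    intro r hr
    refine ⟨N, Ideal.subset_span ?_⟩
    exact List.mem_map.mpr ⟨r, hr, rfl⟩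
  have hdim0 := Groth.Agent.Lib.Helper19SopRegular.ringKrullDim_quotient_eq_zero
    (Ideal.ofList xs) hne hrad
  have hCM : LocCoh.IsCohenMacaulayModule F F :=
    (Groth.Agent.Lib.Helper5.isCohenMacaulayLocalRing_of_isRegularLocalRing (R := F)).supportDim_eq_depth
  have hcrit := (Groth.Agent.Lib.Helper5.isWeaklyRegular_iff_of_isCohenMacaulayModule xs F hCM hmem).1
  have hsm : (Ideal.ofList xs • ⊤ : Submodule F F) = Ideal.ofList xs := by
    rw [smul_eq_mul, Ideal.mul_top]
  have hweak : IsWeaklyRegular F xs := by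
    rw [hcrit, Module.supportDim_self_eq_ringKrullDim,
      Module.supportDim_eq_of_equiv (Submodule.quotEquivOfEq _ _ hsm),
      Module.supportDim_quotient_eq_ringKrullDim, hdim0, hlen, hxs, List.length_map, zero_add]
  refine ⟨hmem, ⟨hweak, ?_⟩⟩
  rw [hsm]
  exact fun h => hne h.symm

theorem exists_artinian_quotient {R B S : Type u} [CommRing R] [IsLocalRing R] [CommRing B]
    [IsLocalRing B] [IsNoetherianRing B] [CommRing S] [IsLocalRing S]
    [Algebra R B] [Algebra R S] [Module.Flat R B] [IsLocalHom (algebraMap R B)]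
    (n : ℕ) (hn : maximalIdeal R ^ n = ⊥) (N : ℕ) (hN0 : 0 < N) (hN : maximalIdeal S ^ N = ⊥)
    (hreg : IsRegularRing (B ⧸ (maximalIdeal R).map (algebraMap R B)))
    (g : B →ₐ[R] S) (hg : Function.Surjective g) :
    ∃ K : Ideal B, K ≤ RingHom.ker g.toRingHom ∧
      IsArtinianRing (B ⧸ K) ∧ IsLocalRing (B ⧸ K) ∧ Module.Flat R (B ⧸ K) ∧
      IsLocalHom (algebraMap R (B ⧸ K)) ∧
      LocCoh.IsGorensteinLocalRing ((B ⧸ K) ⧸ (maximalIdeal R).map (algebraMap R (B ⧸ K))) := by
  classical
  set M0 : Ideal B := (maximalIdeal R).map (algebraMap R B) with hM0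
  have hM0le : M0 ≤ maximalIdeal B := by
    rw [hM0, Ideal.map_le_iff_le_comap]
    exact ((local_hom_TFAE (algebraMap R B)).out 0 3).1 (inferInstance : IsLocalHom (algebraMap R B))
  have hM0ne : M0 ≠ ⊤ := ne_top_of_le_ne_top (maximalIdeal.isMaximal B).ne_top hM0le
  have : Nontrivial (B ⧸ M0) := Ideal.Quotient.nontrivial_iff.2 hM0ne
  have : IsLocalRing (B ⧸ M0) :=
    IsLocalRing.of_surjective' (Ideal.Quotient.mk M0) Ideal.Quotient.mk_surjective
  have := hreg
  have hF : IsRegularLocalRing (B ⧸ M0) := IsRegularLocalRing.of_isRegularRing_of_isLocalRing _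
  obtain ⟨rs, hlen, hrs, -⟩ :=
    Groth.Agent.Lib.Helper5.exists_isRegular_ofList_eq_maximalIdeal (B ⧸ M0)
  obtain ⟨bs, hbs⟩ := (List.map_surjective_iff.2 (Ideal.Quotient.mk_surjective (I := M0))) rs
  obtain ⟨hxmem, hxreg⟩ := isRegular_map_pow rs hlen hrs N hN0
  set as := bs.map (· ^ N) with has
  have hasmap : as.map (Ideal.Quotient.mk M0) = rs.map (· ^ N) := by
    rw [has, ← hbs, List.map_map, List.map_map]
    apply List.map_congr_left
    intro b _
    simp
  set K : Ideal B := Ideal.ofList as with hK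
  -- `g` kills `K`
  have hgmax : ∀ b ∈ maximalIdeal B, g b ∈ maximalIdeal S := by
    intro b hb
    rw [← Groth.Agent.Lib.Helper19.FlatResExt.map_maximalIdeal_of_surjective g.toRingHom hg]
    exact Ideal.mem_map_of_mem _ hb
  have hbsmax : ∀ b ∈ bs, b ∈ maximalIdeal B := by
    intro b hb
    have h1 : Ideal.Quotient.mk M0 b ∈ maximalIdeal (B ⧸ M0) := by
      rw [← hrs]
      refine Ideal.subset_span ?_
      rw [← hbs]
      exact List.mem_map.mpr ⟨b, hb, rfl⟩
    rw [← Groth.Agent.Lib.Helper19.FlatResExt.map_maximalIdeal_of_surjective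
      (Ideal.Quotient.mk M0) Ideal.Quotient.mk_surjective] at h1
    obtain ⟨c, hc, hcb⟩ := (Ideal.mem_map_iff_of_surjective _ Ideal.Quotient.mk_surjective).1 h1
    have h2 : b - c ∈ M0 := by
      rw [← Ideal.Quotient.eq_zero_iff_mem, map_sub, hcb, sub_self]
    have : b = (b - c) + c := by ring
    rw [this]
    exact Ideal.add_mem _ (hM0le h2) hc
  have hKker : K ≤ RingHom.ker g.toRingHom := by
    rw [hK]
    unfold Ideal.ofList
    rw [Ideal.span_le]
    intro a ha
    obtain ⟨b, hb, rfl⟩ := List.mem_map.mp ha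
    rw [SetLike.mem_coe, RingHom.mem_ker]
    have h1 : g b ^ N ∈ maximalIdeal S ^ N := Ideal.pow_mem_pow (hgmax b (hbsmax b hb)) N
    rw [hN] at h1
    change g (b ^ N) = 0
    rw [map_pow]
    exact h1
  have hKne : K ≠ ⊤ := by
    intro h
    have : (1 : B) ∈ RingHom.ker g.toRingHom := hKker (h ▸ Submodule.mem_top)
    rw [RingHom.mem_ker] at this
    change g 1 = 0 at this
    rw [map_one] at this
    exact one_ne_zero this
  have : Nontrivial (B ⧸ K) := Ideal.Quotient.nontrivial_iff.2 hKne
  have hlocBK : IsLocalRing (B ⧸ K) :=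
    IsLocalRing.of_surjective' (Ideal.Quotient.mk K) Ideal.Quotient.mk_surjective
  -- regularity of `as` on `B`
  have hmne : maximalIdeal R ≠ ⊤ := (maximalIdeal.isMaximal R).ne_top
  have hasreg : IsRegular B as := by
    rw [Groth.Agent.Lib.Helper5.isRegular_iff_isRegular_quotient_ring n hn (maximalIdeal R) hmne as,
      hasmap]
    exact hxreg
  -- flatness
  have hflat : Module.Flat R (B ⧸ K) := by
    have h1 := Groth.Agent.Lib.Helper5.flat_quotient_ofList_smul_top_of_isWeaklyRegular (A := R)
      n hn as B hasreg.toIsWeaklyRegular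
    have hJ' : (Ideal.ofList as • ⊤ : Submodule B B) = K := by
      rw [smul_eq_mul, Ideal.mul_top]
    exact Module.Flat.of_linearEquiv ((Submodule.quotEquivOfEq _ _ hJ').restrictScalars R).symm
  -- the maximal ideal of `B` lies in the radical of `K`
  have h1 : M0 ≤ K.radical := by
    rw [hM0, Ideal.map_le_iff_le_comap]
    intro x hx
    refine ⟨n, ?_⟩
    have h2 : x ^ n ∈ maximalIdeal R ^ n := Ideal.pow_mem_pow hx n
    rw [hn, Ideal.mem_bot] at h2
    rw [← map_pow, h2, map_zero]
    exact zero_mem _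
  have h2 : Ideal.ofList bs ≤ K.radical := by
    unfold Ideal.ofList
    rw [Ideal.span_le]
    intro b hb
    refine ⟨N, Ideal.subset_span ?_⟩
    exact List.mem_map.mpr ⟨b, hb, rfl⟩
  have h3 : maximalIdeal B ≤ M0 ⊔ Ideal.ofList bs := by
    intro y hy
    have hy' : Ideal.Quotient.mk M0 y ∈ maximalIdeal (B ⧸ M0) := by
      rw [← Groth.Agent.Lib.Helper19.FlatResExt.map_maximalIdeal_of_surjective
        (Ideal.Quotient.mk M0) Ideal.Quotient.mk_surjective]
      exact Ideal.mem_map_of_mem _ hy
    rw [← hrs, ← hbs, ← Ideal.map_ofList] at hy'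
    obtain ⟨z, hz, hzy⟩ := (Ideal.mem_map_iff_of_surjective _ Ideal.Quotient.mk_surjective).1 hy'
    have h4 : y - z ∈ M0 := by
      rw [← Ideal.Quotient.eq_zero_iff_mem, map_sub, hzy, sub_self]
    have : y = (y - z) + z := by ring
    rw [this]
    exact Ideal.add_mem _ (Ideal.mem_sup_left h4) (Ideal.mem_sup_right hz)
  have hrad : maximalIdeal B ≤ K.radical := h3.trans (sup_le h1 h2)
  -- Artinian
  have hart : IsArtinianRing (B ⧸ K) := by
    rw [isArtinianRing_iff_isNilpotent_maximalIdeal,
      Ideal.FG.isNilpotent_iff_le_nilradical (IsNoetherian.noetherian _),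
      ← Groth.Agent.Lib.Helper19.FlatResExt.map_maximalIdeal_of_surjective
        (Ideal.Quotient.mk K) Ideal.Quotient.mk_surjective, Ideal.map_le_iff_le_comap]
    intro y hy
    obtain ⟨k, hk⟩ := hrad hy
    rw [Ideal.mem_comap]
    refine ⟨k, ?_⟩
    rw [← map_pow]
    exact Ideal.Quotient.eq_zero_iff_mem.2 hk
  -- local homomorphism
  have hlochom : IsLocalHom (algebraMap R (B ⧸ K)) := by
    have : IsLocalHom (Ideal.Quotient.mk K) :=
      IsLocalHom.of_surjective _ Ideal.Quotient.mk_surjective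
    have : algebraMap R (B ⧸ K) = (Ideal.Quotient.mk K).comp (algebraMap R B) := rfl
    rw [this]
    exact RingHom.isLocalHom_comp _ _
  -- Gorenstein fibre
  have hgor : LocCoh.IsGorensteinLocalRing
      ((B ⧸ K) ⧸ (maximalIdeal R).map (algebraMap R (B ⧸ K))) := by
    have hGF : LocCoh.IsGorensteinLocalRing (B ⧸ M0) := Groth.Agent.S0342.result _
    have hG2 : LocCoh.IsGorensteinLocalRing ((B ⧸ M0) ⧸ Ideal.ofList (rs.map (· ^ N))) :=
      Groth.Agent.Lib.Helper29GorLink.gorLocal_quotient_ofList (rs.map (· ^ N)).length (B ⧸ M0)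
        (rs.map (· ^ N)) rfl hxmem hxreg.toIsWeaklyRegular
    have e1 : (maximalIdeal R).map (algebraMap R (B ⧸ K)) = M0.map (Ideal.Quotient.mk K) := by
      rw [hM0, Ideal.map_map]
      rfl
    have e2 : Ideal.ofList (rs.map (· ^ N)) = K.map (Ideal.Quotient.mk M0) := by
      rw [hK, Ideal.map_ofList, hasmap]
    let e : ((B ⧸ K) ⧸ (maximalIdeal R).map (algebraMap R (B ⧸ K))) ≃+*
        ((B ⧸ M0) ⧸ Ideal.ofList (rs.map (· ^ N))) :=
      (Ideal.quotEquivOfEq e1).trans
        ((DoubleQuot.quotQuotEquivComm K M0).trans (Ideal.quotEquivOfEq e2.symm))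
    exact Groth.Agent.Lib.Helper5.GorRing.gorLocal_of_ringEquiv e.symm
  exact ⟨K, hKker, hart, hlocBK, hflat, hlochom, hgor⟩

end Groth.Agent.Lib.Helper19ArtCohen
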