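import Groth.Agent.Lib.Helper19PowerSeries
import Groth.Agent.Lib.Helper19SqZeroComplete

/-!
# Universal property of power series rings into adically complete rings, and lifting along
square-zero extensions (helper19)
-/

set_option autoImplicit false
universe u v w w'

open MvPowerSeries

namespace Groth.Agent.Lib.Helper19

section

variable {Λ : Type u} [CommRing Λ] {σ : Type v} [Finite σ]

/-- Universal property of the power series ring for adically complete targets. -/
theorem exists_algHom_X_eq_of_isAdicComplete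
    {E : Type w} [CommRing E] [Algebra Λ E] (𝔫 : Ideal E) [IsAdicComplete 𝔫 E] (x : σ → E)
    (hx : ∀ s, x s ∈ 𝔫) :
    ∃ φ : MvPowerSeries σ Λ →ₐ[Λ] E, ∀ s, φ (X s) = x s := by
  have hnil : ∀ k : ℕ, (𝔫.map (Ideal.Quotient.mk (𝔫 ^ k))) ^ k = ⊥ := by
    intro k
    rw [← Ideal.map_pow, Ideal.map_quotient_self]
  have hk : ∀ k : ℕ, ∃ φ : MvPowerSeries σ Λ →ₐ[Λ] E ⧸ 𝔫 ^ k,
      ∀ s, φ (X s) = Ideal.Quotient.mk (𝔫 ^ k) (x s) := by
    intro k
    apply exists_algHom_X_eq (𝔫.map (Ideal.Quotient.mk (𝔫 ^ k))) k (hnil k)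
    intro s
    exact Ideal.mem_map_of_mem _ (hx s)
  choose φ hφ using hk
  have hcompat : ∀ {m n : ℕ} (hle : m ≤ n),
      (Ideal.Quotient.factorₐ Λ (Ideal.pow_le_pow_right hle)).comp (φ n) = φ m := by
    intro m n hle
    apply algHom_ext_of_X (𝔫.map (Ideal.Quotient.mk (𝔫 ^ m))) m (hnil m)
    · intro s
      rw [AlgHom.comp_apply, hφ]
      change Ideal.Quotient.factor (Ideal.pow_le_pow_right hle) (Ideal.Quotient.mk _ (x s)) ∈ _
      rw [Ideal.Quotient.factor_mk]
      exact Ideal.mem_map_of_mem _ (hx s)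
    · intro s
      rw [AlgHom.comp_apply, hφ, hφ]
      change Ideal.Quotient.factor (Ideal.pow_le_pow_right hle) (Ideal.Quotient.mk _ (x s)) = _
      rw [Ideal.Quotient.factor_mk]
  refine ⟨IsAdicComplete.liftAlgHom 𝔫 φ hcompat, fun s => ?_⟩
  have hH : IsHausdorff 𝔫 E := inferInstance
  rw [← sub_eq_zero]
  apply hH.haus
  intro k
  rw [SModEq.zero, smul_eq_mul, Ideal.mul_top, ← Ideal.Quotient.eq_zero_iff_mem, map_sub,
    sub_eq_zero]
  have := IsAdicComplete.mk_liftAlgHom 𝔫 φ hcompat k (X s)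
  rw [this]
  exact hφ k s

/-- Uniqueness of maps out of a power series ring into a separated ring. -/
theorem algHom_ext_of_X_of_isHausdorff {A' : Type w} [CommRing A'] [Algebra Λ A']
    (𝔪 : Ideal A') [IsHausdorff 𝔪 A'] (φ₁ φ₂ : MvPowerSeries σ Λ →ₐ[Λ] A')
    (h1 : ∀ s, φ₁ (X s) ∈ 𝔪) (h : ∀ s, φ₁ (X s) = φ₂ (X s)) : φ₁ = φ₂ := by
  apply AlgHom.ext
  intro y
  have hH : IsHausdorff 𝔪 A' := inferInstance
  rw [← sub_eq_zero]
  apply hH.haus
  intro k
  rw [SModEq.zero, smul_eq_mul, Ideal.mul_top, ← Ideal.Quotient.eq_zero_iff_mem, map_sub,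
    sub_eq_zero]
  have hnil : (𝔪.map (Ideal.Quotient.mk (𝔪 ^ k))) ^ k = ⊥ := by
    rw [← Ideal.map_pow, Ideal.map_quotient_self]
  have : (Ideal.Quotient.mkₐ Λ (𝔪 ^ k)).comp φ₁ = (Ideal.Quotient.mkₐ Λ (𝔪 ^ k)).comp φ₂ := by
    apply algHom_ext_of_X (𝔪.map (Ideal.Quotient.mk (𝔪 ^ k))) k hnil
    · intro s
      exact Ideal.mem_map_of_mem _ (h1 s)
    · intro s
      rw [AlgHom.comp_apply, AlgHom.comp_apply, h s]
  exact AlgHom.congr_fun this y

end

theorem exists_mvPowerSeries_lift_of_sqZero {R : Type u} [CommRing R] {σ : Type v} [Finite σ]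
    {A : Type w} {E : Type w'} [CommRing A] [CommRing E] [Algebra R A] [Algebra R E]
    [IsNoetherianRing A] [IsLocalRing A] [IsAdicComplete (IsLocalRing.maximalIdeal A) A]
    (π : MvPowerSeries σ R →ₐ[R] A) (hπ : Function.Surjective π)
    (f : E →ₐ[R] A) (hf : Function.Surjective f)
    (hsq : RingHom.ker f.toRingHom ^ 2 = ⊥) (hfg : (RingHom.ker f.toRingHom).FG) :
    ∃ l : MvPowerSeries σ R →ₐ[R] E, f.comp l = π := by
  haveI hcompl : IsAdicComplete ((IsLocalRing.maximalIdeal A).comap f.toRingHom) E :=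
    isAdicComplete_comap_of_sqZero f.toRingHom hf hsq hfg
  have hπX : ∀ s, π (X s) ∈ IsLocalRing.maximalIdeal A := by
    intro s
    rw [← IsLocalRing.jacobson_eq_maximalIdeal ⊥ bot_ne_top, Ideal.mem_jacobson_bot]
    intro b
    obtain ⟨y, rfl⟩ := hπ b
    rw [← map_mul, ← map_one π, ← map_add]
    apply IsUnit.map
    rw [MvPowerSeries.isUnit_iff_constantCoeff]
    simp
  choose e he using fun s => hf (π (X s))
  have hemem : ∀ s, e s ∈ (IsLocalRing.maximalIdeal A).comap f.toRingHom := fun s => by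
    rw [Ideal.mem_comap]
    change f (e s) ∈ _
    rw [he]
    exact hπX s
  obtain ⟨l, hl⟩ := exists_algHom_X_eq_of_isAdicComplete (Λ := R)
    ((IsLocalRing.maximalIdeal A).comap f.toRingHom) e hemem
  refine ⟨l, ?_⟩
  apply algHom_ext_of_X_of_isHausdorff (IsLocalRing.maximalIdeal A)
  · intro s
    rw [AlgHom.comp_apply, hl, he]
    exact hπX s
  · intro s
    rw [AlgHom.comp_apply, hl, he]

end Groth.Agent.Lib.Helper19
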