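import Groth.Agent.Lib.Helper19CohenPresB
import Groth.Agent.Lib.Helper19CohenStructure
import Groth.Agent.Lib.Helper19CohenRingLift
import Groth.Agent.Lib.Helper19PsLiftComplete
import Mathlib.RingTheory.MvPowerSeries.NoZeroDivisors

/-!
# Cohen presentation of a local homomorphism of complete Noetherian local rings (helper19)
-/

set_option autoImplicit false
set_option linter.style.haveILetI false
universe u v

open MvPowerSeries IsLocalRing

namespace Groth.Agent.Lib.Helper19.CohenPres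

open Groth.Agent.Lib.Helper19.FlatLift Groth.Agent.Lib.Helper19.FlatResExt
  Groth.Agent.Lib.Helper19.CohenStructure

/-- the coefficientwise map `Λ[[x]] → S[[x]]` of a flat map of Noetherian rings is flat -/
theorem flat_map {Λ S : Type u} [CommRing Λ] [CommRing S] (ψ : Λ →+* S) [IsNoetherianRing Λ]
    [IsNoetherianRing S] (hψ : ψ.Flat) (n : ℕ) : (MvPowerSeries.map (σ := Fin n) ψ).Flat := by
  letI : Algebra Λ S := ψ.toAlgebra
  haveI : Module.Flat Λ S := hψ
  have h1 := flat_mvPowerSeries (Λ := Λ) (Λ' := S) n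
  have h2 : algebraMap (MvPowerSeries (Fin n) Λ) (MvPowerSeries (Fin n) S) =
      MvPowerSeries.map (σ := Fin n) ψ := by
    ext g : 1
    rw [MvPowerSeries.algebraMap_apply'']
    rfl
  rw [← h2]
  exact RingHom.flat_algebraMap_iff.2 h1

theorem charZero_of_isCohenRingEGA {Λ : Type u} [CommRing Λ] [IsLocalRing Λ]
    (hΛ : EGA41.IsCohenRingEGA Λ) : CharZero Λ := by
  rcases hΛ with ⟨-, hc0⟩ | hc
  · exact hc0
  · exact charZero_of_isCohenRing hc

/-- the iterated form of the Cohen presentation of a local homomorphism -/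
theorem exists_iterated_presentation {A B : Type u} [CommRing A] [CommRing B]
    [IsLocalRing A] [IsLocalRing B] [IsNoetherianRing A] [IsNoetherianRing B]
    [IsAdicComplete (maximalIdeal A) A] [IsAdicComplete (maximalIdeal B) B]
    [Algebra A B] [IsLocalHom (algebraMap A B)] :
    ∃ (Λ Λ' : Type u) (_ : CommRing Λ) (_ : CommRing Λ') (_ : IsLocalRing Λ) (_ : IsLocalRing Λ')
      (n r : ℕ) (ρ : MvPowerSeries (Fin n) Λ →+* A)
      (σ : MvPowerSeries (Fin n) (MvPowerSeries (Fin r) Λ') →+* B)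
      (ψ : Λ →+* MvPowerSeries (Fin r) Λ'),
      EGA41.IsCohenRingEGA Λ ∧ EGA41.IsCohenRingEGA Λ' ∧ IsLocalHom ψ ∧
        (∀ x ∈ maximalIdeal Λ, ρ (C x) ∈ maximalIdeal A) ∧
        Function.Surjective ρ ∧ Function.Surjective σ ∧
        σ.comp (MvPowerSeries.map (σ := Fin n) ψ) = (algebraMap A B).comp ρ ∧
        (MvPowerSeries.map (σ := Fin n) ψ).Flat := by
  obtain ⟨Λ, i1, i2, i3, i, hΛE, -, hloc, hres⟩ := exists_coefficientRing' A
  obtain ⟨Λ', j1, j2, j3, j, hΛ'E, -, hloc', hres'⟩ := exists_coefficientRing' B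
  obtain ⟨n, a, ha⟩ := Submodule.fg_iff_exists_fin_generating_family.1
    (IsNoetherian.noetherian (maximalIdeal A))
  obtain ⟨r, b, hb⟩ := Submodule.fg_iff_exists_fin_generating_family.1
    (IsNoetherian.noetherian (maximalIdeal B))
  letI algA : Algebra Λ A := i.toAlgebra
  letI algB' : Algebra Λ' B := j.toAlgebra
  obtain ⟨ρ, hρ⟩ := exists_surjective_algHom_mvPowerSeries (Λ := Λ) (A := A) n a ha hloc hres
  obtain ⟨σS, hσS⟩ := exists_surjective_algHom_mvPowerSeries (Λ := Λ') (A := B) r b hb hloc' hres'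
  obtain ⟨hdom, hpid⟩ := isDomain_and_isPrincipalIdealRing_of_isCohenRingEGA hΛE
  obtain ⟨hdom', hpid'⟩ := isDomain_and_isPrincipalIdealRing_of_isCohenRingEGA hΛ'E
  haveI : CharZero Λ' := charZero_of_isCohenRingEGA hΛ'E
  haveI : IsAdicComplete (maximalIdeal (MvPowerSeries (Fin r) Λ')) (MvPowerSeries (Fin r) Λ') :=
    isAdicComplete_mvPowerSeries
  -- lift the coefficient ring of `A` to `Λ'[[z]]`
  let J : Ideal (MvPowerSeries (Fin r) Λ') := RingHom.ker σS.toRingHom
  have hJ : J ≠ ⊤ := RingHom.ker_ne_top _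
  let e : (MvPowerSeries (Fin r) Λ' ⧸ J) ≃+* B :=
    RingHom.quotientKerEquivOfSurjective (f := σS.toRingHom) hσS
  haveI : Nontrivial (MvPowerSeries (Fin r) Λ' ⧸ J) := Ideal.Quotient.nontrivial_iff.2 hJ
  haveI : IsLocalRing (MvPowerSeries (Fin r) Λ' ⧸ J) :=
    IsLocalRing.of_surjective' (Ideal.Quotient.mk J) Ideal.Quotient.mk_surjective
  haveI hiloc : IsLocalHom i := ((local_hom_TFAE i).out 0 3).2 hloc
  let u : Λ →+* MvPowerSeries (Fin r) Λ' ⧸ J :=
    (e.symm : B →+* MvPowerSeries (Fin r) Λ' ⧸ J).comp ((algebraMap A B).comp i)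
  haveI : IsLocalHom u := by
    haveI : IsLocalHom ((algebraMap A B).comp i) := RingHom.isLocalHom_comp _ _
    haveI : IsLocalHom (e.symm : B →+* MvPowerSeries (Fin r) Λ' ⧸ J) :=
      ⟨fun x hx => by
        have := hx.map (e : (MvPowerSeries (Fin r) Λ' ⧸ J) →+* B)
        simpa using this⟩
    exact RingHom.isLocalHom_comp _ _
  obtain ⟨ψ, hψloc, hψ⟩ := cohenRing_lifts_local_hom hΛE J hJ u
  have hσψ : ∀ l : Λ, σS (ψ l) = algebraMap A B (i l) := by
    intro l
    have h1 := RingHom.congr_fun hψ l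
    have h2 : e (Ideal.Quotient.mk J (ψ l)) = σS (ψ l) :=
      RingHom.quotientKerEquivOfSurjective_apply_mk (f := σS.toRingHom) hσS (ψ l)
    rw [← h2]
    change e ((Ideal.Quotient.mk J).comp ψ l) = _
    rw [h1]
    change e (e.symm (algebraMap A B (i l))) = _
    rw [RingEquiv.apply_symm_apply]
  -- the map `(Λ'[[z]])[[y]] → B`
  letI algSB : Algebra (MvPowerSeries (Fin r) Λ') B := σS.toRingHom.toAlgebra
  have hρloc : IsLocalHom ρ.toRingHom := IsLocalHom.of_surjective _ hρ
  have hXm : ∀ s : Fin n, algebraMap A B (ρ (X s)) ∈ maximalIdeal B := by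
    intro s
    have h1 : ρ (X s) ∈ maximalIdeal A := by
      rw [mem_maximalIdeal, mem_nonunits_iff]
      intro hu
      have h2 : IsUnit (X s : MvPowerSeries (Fin n) Λ) := hρloc.map_nonunit _ hu
      rw [MvPowerSeries.isUnit_iff_constantCoeff, MvPowerSeries.constantCoeff_X] at h2
      exact not_isUnit_zero h2
    have h3 : maximalIdeal A ≤ (maximalIdeal B).comap (algebraMap A B) :=
      ((local_hom_TFAE (algebraMap A B)).out 0 3).1 (inferInstance : IsLocalHom (algebraMap A B))
    exact h3 h1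
  obtain ⟨σ, hσ⟩ := Groth.Agent.Lib.Helper19.exists_algHom_X_eq_of_isAdicComplete
    (Λ := MvPowerSeries (Fin r) Λ') (σ := Fin n) (maximalIdeal B)
    (fun s => algebraMap A B (ρ (X s))) hXm
  have hσC : ∀ t : MvPowerSeries (Fin r) Λ', σ (C t) = σS t := by
    intro t
    have h2 : (C t : MvPowerSeries (Fin n) (MvPowerSeries (Fin r) Λ')) =
        algebraMap (MvPowerSeries (Fin r) Λ') (MvPowerSeries (Fin n) (MvPowerSeries (Fin r) Λ')) t := by
      rw [MvPowerSeries.algebraMap_apply, Algebra.algebraMap_self, RingHom.id_apply]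
    rw [h2, AlgHom.commutes]
    rfl
  have hρC : ∀ l : Λ, ρ (C l) = i l := by
    intro l
    have h2 : (C l : MvPowerSeries (Fin n) Λ) = algebraMap Λ (MvPowerSeries (Fin n) Λ) l := by
      rw [MvPowerSeries.algebraMap_apply, Algebra.algebraMap_self, RingHom.id_apply]
    rw [h2, AlgHom.commutes]
    rfl
  refine ⟨Λ, Λ', i1, j1, i2, j2, n, r, ρ.toRingHom, σ.toRingHom, ψ, hΛE, hΛ'E, hψloc, ?_, hρ, ?_,
    ?_, ?_⟩
  · intro x hx
    change ρ (C x) ∈ _
    rw [hρC]
    exact hloc x hx
  · intro y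
    obtain ⟨t, ht⟩ := hσS y
    exact ⟨C t, (hσC t).trans ht⟩
  · -- commutation
    letI algΛB : Algebra Λ B := ((algebraMap A B).comp i).toAlgebra
    let φ₁ : MvPowerSeries (Fin n) Λ →ₐ[Λ] B :=
      { toRingHom := σ.toRingHom.comp (MvPowerSeries.map (σ := Fin n) ψ)
        commutes' := fun l => by
          change σ (MvPowerSeries.map (σ := Fin n) ψ (algebraMap Λ (MvPowerSeries (Fin n) Λ) l)) =
            algebraMap A B (i l)
          rw [MvPowerSeries.algebraMap_apply, Algebra.algebraMap_self, RingHom.id_apply,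
            MvPowerSeries.map_C, hσC, hσψ] }
    let φ₂ : MvPowerSeries (Fin n) Λ →ₐ[Λ] B :=
      { toRingHom := (algebraMap A B).comp ρ.toRingHom
        commutes' := fun l => by
          change algebraMap A B (ρ (algebraMap Λ (MvPowerSeries (Fin n) Λ) l)) =
            algebraMap A B (i l)
          rw [AlgHom.commutes]
          rfl }
    have h12 : φ₁ = φ₂ := by
      apply algHom_ext_of_X_of_isHausdorff (maximalIdeal B)
      · intro s
        change σ (MvPowerSeries.map (σ := Fin n) ψ (X s)) ∈ _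
        rw [MvPowerSeries.map_X, hσ]
        exact hXm s
      · intro s
        change σ (MvPowerSeries.map (σ := Fin n) ψ (X s)) = algebraMap A B (ρ (X s))
        rw [MvPowerSeries.map_X, hσ]
    exact congrArg (fun f : MvPowerSeries (Fin n) Λ →ₐ[Λ] B => f.toRingHom) h12
  · -- flatness
    apply flat_map
    letI algΛS : Algebra Λ (MvPowerSeries (Fin r) Λ') := ψ.toAlgebra
    haveI : CharZero (MvPowerSeries (Fin r) Λ') :=
      charZero_of_injective_ringHom (MvPowerSeries.C_injective (σ := Fin r) (R := Λ'))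
    haveI : IsDomain (MvPowerSeries (Fin r) Λ') := NoZeroDivisors.to_isDomain _
    exact (injective_and_flat_of_isCohenRingEGA (Λ := Λ) (T := MvPowerSeries (Fin r) Λ') hΛE).2

end Groth.Agent.Lib.Helper19.CohenPres
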