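import Mathlib
import Groth.Agent.Lib.Helper19CohenPresC
import Groth.Agent.Lib.Helper19FlatResExtB

/-!
# Cohen factorization of a local homomorphism of complete Noetherian local rings (helper19)

`A → S` factors as `A → B → S` with `B` Noetherian local, flat over `A` with regular closed fibre,
and `B → S` surjective (Avramov–Foxby–Herzog).
-/

set_option autoImplicit false
universe u

namespace Groth.Agent.Lib.Helper19ArtCohen

open IsLocalRing MvPowerSeries Groth.Agent.Lib.Helper19.CohenPres
  Groth.Agent.Lib.Helper19.FlatResExt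

theorem exists_cohen_factorization {A S : Type u} [CommRing A] [CommRing S]
    [IsLocalRing A] [IsLocalRing S] [IsNoetherianRing A] [IsNoetherianRing S]
    [IsAdicComplete (maximalIdeal A) A] [IsAdicComplete (maximalIdeal S) S]
    [Algebra A S] [IsLocalHom (algebraMap A S)] :
    ∃ (B : Type u) (_ : CommRing B) (_ : IsLocalRing B) (_ : IsNoetherianRing B)
      (_ : Algebra A B),
      Module.Flat A B ∧ IsLocalHom (algebraMap A B) ∧
      IsRegularRing (B ⧸ (maximalIdeal A).map (algebraMap A B)) ∧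
      ∃ g : B →ₐ[A] S, Function.Surjective g := by
  classical
  obtain ⟨Λ, Λ', i1, j1, i2, j2, n, r, ρ, σ, ψ, hΛE, hΛ'E, hψloc, hρloc, hρ, hσ, hcomm, hflat⟩ :=
    exists_iterated_presentation (A := A) (B := S)
  obtain ⟨hdom', hpid'⟩ :=
    isDomain_and_isPrincipalIdealRing_of_isCohenRingEGA hΛ'E
  have hNΛ' : IsNoetherianRing Λ' := inferInstance
  let P := MvPowerSeries (Fin n) Λ
  let P' := MvPowerSeries (Fin n) (MvPowerSeries (Fin r) Λ')
  let τ : P →+* P' := MvPowerSeries.map (σ := Fin n) ψ
  letI algPP' : Algebra P P' := τ.toAlgebra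
  have hflatPP' : Module.Flat P P' := hflat
  have hNP' : IsNoetherianRing P' := inferInstance
  have hcomm' : ∀ g : P, σ (τ g) = algebraMap A S (ρ g) := fun g => RingHom.congr_fun hcomm g
  let I : Ideal P := RingHom.ker ρ
  let J : Ideal P' := I.map (algebraMap P P')
  have hJσ : ∀ a ∈ J, σ a = 0 := by
    intro a ha
    have hle : J ≤ RingHom.ker σ := by
      rw [Ideal.map_le_iff_le_comap]
      intro g hg
      rw [Ideal.mem_comap, RingHom.mem_ker]
      change σ (τ g) = 0
      rw [hcomm']
      have : ρ g = 0 := hg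
      rw [this, map_zero]
    exact hle ha
  let B := P' ⧸ J
  have hBnt : Nontrivial B := by
    refine Ideal.Quotient.nontrivial_iff.2 fun h => ?_
    have h1 : σ 1 = 0 := hJσ 1 (h ▸ Submodule.mem_top)
    rw [map_one] at h1
    exact one_ne_zero h1
  have hBloc : IsLocalRing B := IsLocalRing.of_surjective' (Ideal.Quotient.mk J)
    Ideal.Quotient.mk_surjective
  let θ : A →+* B := RingHom.liftOfSurjective ρ hρ
    ⟨(Ideal.Quotient.mk J).comp (algebraMap P P'), by
      intro g hg
      rw [RingHom.mem_ker, RingHom.comp_apply, Ideal.Quotient.eq_zero_iff_mem]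
      exact Ideal.mem_map_of_mem _ hg⟩
  have hθ : ∀ g : P, θ (ρ g) = Ideal.Quotient.mk J (τ g) := by
    intro g
    exact RingHom.liftOfRightInverse_comp_apply _ _ _ _ g
  have hθcomp : θ.comp ρ = (Ideal.Quotient.mk J).comp τ := RingHom.ext hθ
  letI algAB : Algebra A B := θ.toAlgebra
  have halgB : ∀ a, algebraMap A B a = θ a := fun a => rfl
  -- flatness
  have hflatB : Module.Flat A B := by
    have hq : Module.Flat (P ⧸ I) (P' ⧸ J) := flat_quotient_map I
    let ι' : A ≃+* P ⧸ I := (RingHom.quotientKerEquivOfSurjective hρ).symm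
    have hι' : ∀ g : P, ι' (ρ g) = Ideal.Quotient.mk I g := by
      intro g
      change (RingHom.quotientKerEquivOfSurjective hρ).symm (ρ g) = _
      rw [RingEquiv.symm_apply_eq]
      rfl
    have h1 : (algebraMap (P ⧸ I) (P' ⧸ J)).Flat := RingHom.flat_algebraMap_iff.2 hq
    have h2 : (ι' : A →+* P ⧸ I).Flat := RingHom.Flat.of_bijective ι'.bijective
    have h3 : θ = (algebraMap (P ⧸ I) (P' ⧸ J)).comp (ι' : A →+* P ⧸ I) := by
      ext a
      obtain ⟨g, rfl⟩ := hρ a
      rw [hθ, RingHom.comp_apply]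
      change _ = algebraMap (P ⧸ I) (P' ⧸ J) (ι' (ρ g))
      rw [hι']
      rfl
    have h4 : θ.Flat := h3 ▸ RingHom.Flat.comp h2 h1
    exact RingHom.flat_algebraMap_iff.1 h4
  -- the map to `S`
  let σbar : B →+* S := Ideal.Quotient.lift J σ hJσ
  have hσbar : ∀ a : P', σbar (Ideal.Quotient.mk J a) = σ a := fun a => rfl
  have hσbarθ : ∀ a : A, σbar (θ a) = algebraMap A S a := by
    intro a
    obtain ⟨g, rfl⟩ := hρ a
    rw [hθ, hσbar, hcomm']
  let g : B →ₐ[A] S := { toRingHom := σbar, commutes' := hσbarθ }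
  have hgsurj : Function.Surjective g := by
    intro s
    obtain ⟨a, rfl⟩ := hσ s
    exact ⟨Ideal.Quotient.mk J a, rfl⟩
  -- local homomorphism
  have hloc : IsLocalHom (algebraMap A B) := by
    refine ⟨fun a ha => ?_⟩
    have h1 : IsUnit (σbar (θ a)) := ha.map σbar
    rw [hσbarθ] at h1
    exact isUnit_of_map_unit (algebraMap A S) a h1
  -- the closed fibre
  have hfib : IsRegularRing (B ⧸ (maximalIdeal A).map (algebraMap A B)) := by
    have hreg := isRegularRing_quotient hΛE hΛ'E r n ψ
    have hIle : I ≤ maximalIdeal P := IsLocalRing.le_maximalIdeal (RingHom.ker_ne_top ρ)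
    have hJle : J ≤ (maximalIdeal P).map τ := Ideal.map_mono hIle
    have hmA : (maximalIdeal A).map (algebraMap A B) =
        ((maximalIdeal P).map τ).map (Ideal.Quotient.mk J) := by
      change (maximalIdeal A).map θ = _
      rw [← IsLocalRing.map_maximalIdeal_of_surjective ρ hρ, Ideal.map_map, Ideal.map_map, hθcomp]
    let e : (B ⧸ (maximalIdeal A).map (algebraMap A B)) ≃+* (P' ⧸ (maximalIdeal P).map τ) :=
      (Ideal.quotEquivOfEq hmA).trans (DoubleQuot.quotQuotEquivQuotOfLE hJle)
    exact IsRegularRing.of_ringEquiv e.symm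
  exact ⟨B, inferInstance, hBloc, inferInstance, algAB, hflatB, hloc, hfib, g, hgsurj⟩

end Groth.Agent.Lib.Helper19ArtCohen
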