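import Mathlib
import Groth.Prelude.Def_CAlgX

/-!
# Testing adic formal smoothness on local rings with nilpotent maximal ideal (helper19)

Fibre products `C ×_{C/J} S`, sections versus lifts, and the reduction of the lifting problem for
a local homomorphism of local rings to local test rings with nilpotent maximal ideal (S9315).
-/

set_option autoImplicit false
set_option linter.style.haveILetI false
set_option linter.unusedSectionVars false
universe u

namespace Groth.Agent.Lib.Helper19.ArtTest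

open IsLocalRing

section general

/-- A surjective ring homomorphism with nil kernel onto a local ring is a local homomorphism. -/
theorem isLocalHom_of_surjective_of_nil {A B : Type*} [CommRing A] [CommRing B] (f : A →+* B)
    (hf : Function.Surjective f) (hker : ∀ x ∈ RingHom.ker f, IsNilpotent x) : IsLocalHom f := by
  constructor
  intro a ha
  obtain ⟨b', hb'⟩ := ha.exists_right_inv
  obtain ⟨b, rfl⟩ := hf b'
  have h1 : a * b - 1 ∈ RingHom.ker f := by
    rw [RingHom.mem_ker, map_sub, map_mul, hb', map_one, sub_self]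
  have h2 : IsUnit (a * b) := by
    have := (hker _ h1).isUnit_add_one
    rwa [sub_add_cancel] at this
  exact isUnit_of_mul_isUnit_left h2

theorem isNilpotent_of_mem_of_pow_eq_bot {A : Type*} [CommRing A] (I : Ideal A) (n : ℕ)
    (hI : I ^ n = ⊥) {x : A} (hx : x ∈ I) : IsNilpotent x := by
  refine ⟨n, ?_⟩
  have := Ideal.pow_mem_pow hx n
  rwa [hI, Ideal.mem_bot] at this

end general

section fibre

variable {R S C : Type u} [CommRing R] [CommRing S] [CommRing C] [Algebra R S] [Algebra R C]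
variable (J : Ideal C) (ψ : S →ₐ[R] C ⧸ J)

/-- The fibre product `C ×_{C/J} S`. -/
def fibre : Subalgebra R (C × S) :=
  AlgHom.equalizer ((Ideal.Quotient.mkₐ R J).comp (AlgHom.fst R C S)) (ψ.comp (AlgHom.snd R C S))

lemma mem_fibre {x : C × S} : x ∈ fibre J ψ ↔ Ideal.Quotient.mk J x.1 = ψ x.2 := Iff.rfl

/-- first projection -/
def fibreFst : fibre J ψ →ₐ[R] C := (AlgHom.fst R C S).comp (fibre J ψ).val

/-- second projection -/
def fibreSnd : fibre J ψ →ₐ[R] S := (AlgHom.snd R C S).comp (fibre J ψ).val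

lemma fibreFst_apply (x : fibre J ψ) : fibreFst J ψ x = x.1.1 := rfl
lemma fibreSnd_apply (x : fibre J ψ) : fibreSnd J ψ x = x.1.2 := rfl

lemma mk_fibreFst (x : fibre J ψ) :
    Ideal.Quotient.mk J (fibreFst J ψ x) = ψ (fibreSnd J ψ x) := x.2

lemma fibreSnd_surjective : Function.Surjective (fibreSnd J ψ) := by
  intro s
  obtain ⟨c, hc⟩ := Ideal.Quotient.mk_surjective (ψ s)
  exact ⟨⟨(c, s), hc⟩, rfl⟩

lemma fibre_ext {x y : fibre J ψ} (h1 : fibreFst J ψ x = fibreFst J ψ y)
    (h2 : fibreSnd J ψ x = fibreSnd J ψ y) : x = y :=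
  Subtype.ext (Prod.ext h1 h2)

lemma fibreFst_mem_of_mem_ker {x : fibre J ψ} (hx : x ∈ RingHom.ker (fibreSnd J ψ)) :
    fibreFst J ψ x ∈ J := by
  rw [← Ideal.Quotient.eq_zero_iff_mem, mk_fibreFst, RingHom.mem_ker.1 hx, map_zero]

/-- An ideal `I` of the fibre product whose image in `C` lies in `J`, times the kernel of the
second projection, is zero, if `J` has square zero. -/
lemma mul_ker_fibreSnd_eq_bot (hJ : J ^ 2 = ⊥) (I : Ideal (fibre J ψ))
    (hI : ∀ x ∈ I, fibreFst J ψ x ∈ J) : I * RingHom.ker (fibreSnd J ψ) = ⊥ := by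
  rw [eq_bot_iff, Ideal.mul_le]
  intro a ha b hb
  rw [Ideal.mem_bot]
  apply fibre_ext
  · rw [map_mul, map_zero]
    have : fibreFst J ψ a * fibreFst J ψ b ∈ J ^ 2 := by
      rw [pow_two]
      exact Ideal.mul_mem_mul (hI a ha) (fibreFst_mem_of_mem_ker J ψ hb)
    rwa [hJ, Ideal.mem_bot] at this
  · rw [map_mul, map_zero, RingHom.mem_ker.1 hb, mul_zero]

lemma ker_fibreSnd_sq (hJ : J ^ 2 = ⊥) : RingHom.ker (fibreSnd J ψ) ^ 2 = ⊥ := by
  rw [pow_two]
  exact mul_ker_fibreSnd_eq_bot J ψ hJ _ (fun x hx => fibreFst_mem_of_mem_ker J ψ hx)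

/-- A section of the second projection gives a lift of `ψ`. -/
lemma lift_of_section (σ : S →ₐ[R] fibre J ψ) (hσ : (fibreSnd J ψ).comp σ = AlgHom.id R S) :
    (Ideal.Quotient.mkₐ R J).comp ((fibreFst J ψ).comp σ) = ψ := by
  ext s
  rw [AlgHom.comp_apply, AlgHom.comp_apply, Ideal.Quotient.mkₐ_eq_mk, mk_fibreFst]
  have := congrArg (fun f => f s) hσ
  simp only [AlgHom.comp_apply, AlgHom.id_apply] at this
  rw [this]

end fibre

section local_reduction

variable {R S : Type u} [CommRing R] [CommRing S] [IsLocalRing R] [IsLocalRing S] [Algebra R S]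
  [IsLocalHom (algebraMap R S)]

/-- **S9315, direction (⇒)**. -/
theorem lift_of_isAdicFormallySmooth (h : CAlgX.IsAdicFormallySmooth R S (maximalIdeal S))
    (A : Type u) [CommRing A] [IsLocalRing A] [Algebra R A]
    (J : Ideal A) (hJ : J ^ 2 = ⊥) (hn : ∃ n : ℕ, maximalIdeal A ^ n = ⊥)
    [IsLocalRing (A ⧸ J)] (ψ : S →ₐ[R] A ⧸ J) [IsLocalHom ψ.toRingHom] :
    ∃ χ : S →ₐ[R] A, (Ideal.Quotient.mkₐ R J).comp χ = ψ := by
  obtain ⟨n, hn⟩ := hn
  refine h A J hJ ψ ⟨n, fun x hx => ?_⟩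
  have h1 : (maximalIdeal S).map ψ.toRingHom ≤ maximalIdeal (A ⧸ J) := by
    rw [Ideal.map_le_iff_le_comap]
    intro y hy
    rw [Ideal.mem_comap, mem_maximalIdeal, mem_nonunits_iff]
    intro hu
    exact hy (isUnit_of_map_unit ψ.toRingHom y hu)
  have h2 : maximalIdeal (A ⧸ J) ^ n = ⊥ := by
    have hs : Function.Surjective (Ideal.Quotient.mk J) := Ideal.Quotient.mk_surjective
    haveI : IsLocalHom (Ideal.Quotient.mk J) := IsLocalHom.of_surjective _ hs
    rw [← IsLocalRing.map_maximalIdeal_of_surjective (Ideal.Quotient.mk J) hs, ← Ideal.map_pow, hn,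
      Ideal.map_bot]
  have h3 : ψ.toRingHom x ∈ maximalIdeal (A ⧸ J) ^ n := by
    have := Ideal.mem_map_of_mem ψ.toRingHom hx
    rw [Ideal.map_pow] at this
    exact Ideal.pow_right_mono h1 n this
  rw [h2, Ideal.mem_bot] at h3
  exact h3

/-- **S9315, direction (⇐)**: adic formal smoothness may be tested on local rings with nilpotent
maximal ideal and residually bijective local test maps. -/
theorem isAdicFormallySmooth_of_lift
    (h : ∀ (A : Type u) [CommRing A] [IsLocalRing A] [Algebra R A] [IsLocalHom (algebraMap R A)]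
        (J : Ideal A), J ^ 2 = ⊥ → (∃ n : ℕ, maximalIdeal A ^ n = ⊥) →
        ∀ [IsLocalRing (A ⧸ J)] (ψ : S →ₐ[R] A ⧸ J) [IsLocalHom ψ.toRingHom],
          Function.Bijective (ResidueField.map ψ.toRingHom) →
          ∃ χ : S →ₐ[R] A, (Ideal.Quotient.mkₐ R J).comp χ = ψ) :
    CAlgX.IsAdicFormallySmooth R S (maximalIdeal S) := by
  intro C _ _ J hJ ψ hψ
  obtain ⟨k₀, hk₀⟩ := hψ
  -- make the exponent positive
  set k := k₀ + 1 with hk
  have hkill : ∀ x ∈ maximalIdeal S ^ k, ψ x = 0 := fun x hx =>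
    hk₀ x (Ideal.pow_le_pow_right (Nat.le_succ k₀) hx)
  set I : Ideal S := maximalIdeal S ^ k with hI
  have hIle : I ≤ maximalIdeal S := by
    rw [hI, hk, pow_succ]
    exact Ideal.mul_le_right
  haveI : Nontrivial (S ⧸ I) := by
    rw [Ideal.Quotient.nontrivial_iff]
    intro h
    rw [h, top_le_iff] at hIle
    exact (maximalIdeal.isMaximal S).ne_top hIle
  haveI : IsLocalRing (S ⧸ I) :=
    IsLocalRing.of_surjective' (Ideal.Quotient.mk I) Ideal.Quotient.mk_surjective
  haveI hmkloc : IsLocalHom (Ideal.Quotient.mk I) :=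
    IsLocalHom.of_surjective _ Ideal.Quotient.mk_surjective
  let ψ' : S ⧸ I →ₐ[R] C ⧸ J := Ideal.Quotient.liftₐ I ψ hkill
  have hψ' : ∀ s, ψ' (Ideal.Quotient.mk I s) = ψ s := fun s => rfl
  -- the fibre product
  let P := fibre J ψ'
  have hsurj : Function.Surjective (fibreSnd J ψ') := fibreSnd_surjective J ψ'
  have hsq : RingHom.ker (fibreSnd J ψ') ^ 2 = ⊥ := ker_fibreSnd_sq J ψ' hJ
  haveI hloc2 : IsLocalHom (fibreSnd J ψ').toRingHom :=
    isLocalHom_of_surjective_of_nil _ hsurj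
      (fun x hx => isNilpotent_of_mem_of_pow_eq_bot _ 2 hsq hx)
  haveI : IsLocalRing P := RingHom.domain_isLocalRing (fibreSnd J ψ').toRingHom
  -- the maximal ideal of `P` is nilpotent
  have hmaxS : maximalIdeal (S ⧸ I) ^ k = ⊥ := by
    rw [← IsLocalRing.map_maximalIdeal_of_surjective (Ideal.Quotient.mk I)
      Ideal.Quotient.mk_surjective, ← Ideal.map_pow, ← hI, Ideal.map_quotient_self]
  have hmaxP : maximalIdeal P ^ k ≤ RingHom.ker (fibreSnd J ψ') := by
    have h1 : (maximalIdeal P).map (fibreSnd J ψ').toRingHom ≤ maximalIdeal (S ⧸ I) := by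
      rw [Ideal.map_le_iff_le_comap]
      intro y hy
      rw [Ideal.mem_comap, mem_maximalIdeal, mem_nonunits_iff]
      intro hu
      exact hy (isUnit_of_map_unit (fibreSnd J ψ').toRingHom y hu)
    intro x hx
    rw [RingHom.mem_ker]
    have := Ideal.mem_map_of_mem (fibreSnd J ψ').toRingHom hx
    rw [Ideal.map_pow] at this
    have := Ideal.pow_right_mono h1 k this
    rwa [hmaxS, Ideal.mem_bot] at this
  have hnilP : maximalIdeal P ^ (k * 2) = ⊥ := by
    rw [pow_mul, eq_bot_iff, ← hsq]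
    exact Ideal.pow_right_mono hmaxP 2
  haveI : IsLocalHom (algebraMap R P) := by
    constructor
    intro r hr
    have h1 : IsUnit (fibreSnd J ψ' (algebraMap R P r)) := hr.map _
    rw [AlgHom.commutes, IsScalarTower.algebraMap_apply R S (S ⧸ I)] at h1
    have h2 : IsUnit (algebraMap R S r) := isUnit_of_map_unit (Ideal.Quotient.mk I) _ h1
    exact isUnit_of_map_unit (algebraMap R S) r h2
  set JP : Ideal P := RingHom.ker (fibreSnd J ψ') with hJP
  let e : (P ⧸ JP) ≃ₐ[R] S ⧸ I := Ideal.quotientKerAlgEquivOfSurjective hsurj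
  haveI : Nontrivial (P ⧸ JP) := e.toRingEquiv.toEquiv.nontrivial
  haveI : IsLocalRing (P ⧸ JP) :=
    IsLocalRing.of_surjective' (Ideal.Quotient.mk JP) Ideal.Quotient.mk_surjective
  let ψP : S →ₐ[R] P ⧸ JP := e.symm.toAlgHom.comp (Ideal.Quotient.mkₐ R I)
  have hψPsurj : Function.Surjective ψP := by
    intro y
    obtain ⟨s, hs⟩ := Ideal.Quotient.mk_surjective (e y)
    refine ⟨s, ?_⟩
    change e.symm (Ideal.Quotient.mk I s) = y
    rw [hs, AlgEquiv.symm_apply_apply]
  haveI : IsLocalHom ψP.toRingHom :=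
    IsLocalHom.of_surjective (R := S) (S := P ⧸ JP) ψP.toRingHom hψPsurj
  have hbij : Function.Bijective (ResidueField.map (R := S) (S := P ⧸ JP) ψP.toRingHom) := by
    refine ⟨RingHom.injective _, ?_⟩
    intro y
    obtain ⟨y', rfl⟩ := IsLocalRing.residue_surjective y
    obtain ⟨s, rfl⟩ := hψPsurj y'
    exact ⟨IsLocalRing.residue S s, rfl⟩
  obtain ⟨χP, hχP⟩ := h P JP hsq ⟨k * 2, hnilP⟩ ψP hbij
  refine ⟨(fibreFst J ψ').comp χP, ?_⟩
  ext s
  rw [AlgHom.comp_apply, AlgHom.comp_apply, Ideal.Quotient.mkₐ_eq_mk, mk_fibreFst]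
  have h1 := congrArg (fun f => f s) hχP
  simp only [AlgHom.comp_apply, Ideal.Quotient.mkₐ_eq_mk] at h1
  have h2 : fibreSnd J ψ' (χP s) = Ideal.Quotient.mk I s := by
    have : e (Ideal.Quotient.mk JP (χP s)) = fibreSnd J ψ' (χP s) := rfl
    rw [← this, h1]
    change e (e.symm (Ideal.Quotient.mk I s)) = _
    rw [AlgEquiv.apply_symm_apply]
  rw [h2, hψ']

end local_reduction

end Groth.Agent.Lib.Helper19.ArtTest
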