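import Mathlib
import Groth.Agent.Lib.Helper19ArtTestA

/-!
# Sections of square-zero extensions: the vector space case (helper19)

Let `π : Q → S` be a surjection of `R`-algebras with square-zero kernel `N`, killed by a maximal
ideal `𝔐` of `Q`.  If every functional `λ : N → Q/𝔐` extends to an `R`-derivation `Q → Q/𝔐`, then
`π` has an `R`-algebra section.
-/

set_option autoImplicit false
set_option linter.style.haveILetI false
set_option linter.unusedSectionVars false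
universe u

namespace Groth.Agent.Lib.Helper19.ArtTest

open TensorProduct KaehlerDifferential

section sections

variable {R S Q : Type u} [CommRing R] [CommRing S] [CommRing Q] [Algebra R S] [Algebra R Q]

/-- A derivation into the (square-zero) kernel restricting to the identity on the kernel
gives a section. -/
theorem exists_section_of_derivation (π : Q →ₐ[R] S) (hπ : Function.Surjective π)
    (hsq : RingHom.ker π ^ 2 = ⊥) (D : Derivation R Q (RingHom.ker π))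
    (hD : ∀ n : RingHom.ker π, D (n : Q) = n) :
    ∃ σ : S →ₐ[R] Q, π.comp σ = AlgHom.id R S := by
  have hmul0 : ∀ x y : RingHom.ker π, (x : Q) * (y : Q) = 0 := by
    intro x y
    have : (x : Q) * (y : Q) ∈ RingHom.ker π ^ 2 := by
      rw [pow_two]; exact Ideal.mul_mem_mul x.2 y.2
    rwa [hsq, Ideal.mem_bot] at this
  let φl : Q →ₗ[R] Q := LinearMap.id - ((RingHom.ker π).subtype.restrictScalars R) ∘ₗ (D : Q →ₗ[R] _)
  have hφl : ∀ q, φl q = q - (D q : Q) := fun q => rfl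
  let φ : Q →ₐ[R] Q := AlgHom.ofLinearMap φl
    (by rw [hφl, Derivation.map_one_eq_zero]; simp)
    (by
      intro x y
      rw [hφl, hφl, hφl, Derivation.leibniz]
      have h0 := hmul0 (D x) (D y)
      simp only [Submodule.coe_add, Submodule.coe_smul, smul_eq_mul]
      linear_combination (-1 : Q) * h0)
  have hφ : ∀ q, φ q = q - (D q : Q) := fun q => rfl
  have hker : RingHom.ker π.toRingHom ≤ RingHom.ker φ.toRingHom := by
    intro n hn
    rw [RingHom.mem_ker]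
    change φ n = 0
    rw [hφ]
    have := hD ⟨n, hn⟩
    rw [this, sub_self]
  refine ⟨AlgHom.liftOfSurjective π hπ φ hker, ?_⟩
  ext s
  obtain ⟨q, rfl⟩ := hπ s
  rw [AlgHom.comp_apply, AlgHom.liftOfSurjective_apply, hφ, map_sub, AlgHom.id_apply]
  have : π (D q : Q) = 0 := RingHom.mem_ker.1 (D q).2
  rw [this, sub_zero]

/-- The vector space case. -/
theorem exists_section_of_forall_functional (π : Q →ₐ[R] S) (hπ : Function.Surjective π)
    (hsq : RingHom.ker π ^ 2 = ⊥) (𝔐 : Ideal Q) [h𝔐 : 𝔐.IsMaximal]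
    (hN𝔐 : RingHom.ker π ≤ 𝔐) (hkill : 𝔐 * RingHom.ker π = ⊥)
    (H : ∀ l : RingHom.ker π →ₗ[Q] Q ⧸ 𝔐, ∃ D : Derivation R Q (Q ⧸ 𝔐),
      ∀ n : RingHom.ker π, D (n : Q) = l n) :
    ∃ σ : S →ₐ[R] Q, π.comp σ = AlgHom.id R S := by
  set N : Ideal Q := RingHom.ker π with hN
  letI : Field (Q ⧸ 𝔐) := Ideal.Quotient.field 𝔐
  have htors : Module.IsTorsionBySet Q N (𝔐 : Set Q) := by
    intro n a
    apply Subtype.ext
    have : (a : Q) * (n : Q) ∈ 𝔐 * N := Ideal.mul_mem_mul a.2 n.2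
    rw [hkill, Ideal.mem_bot] at this
    simpa using this
  letI : Module (Q ⧸ 𝔐) N := htors.module
  haveI : IsScalarTower Q (Q ⧸ 𝔐) N := htors.isScalarTower
  have hle : N ≤ RingHom.ker (algebraMap Q (Q ⧸ 𝔐)) := by
    intro n hn
    rw [RingHom.mem_ker]
    exact Ideal.Quotient.eq_zero_iff_mem.2 (hN𝔐 hn)
  let δ : N →ₗ[Q] (Q ⧸ 𝔐) ⊗[Q] Ω[Q⁄R] :=
    (kerToTensor R Q (Q ⧸ 𝔐)) ∘ₗ (Submodule.inclusion hle)
  have hδ : ∀ n : N, δ n = (1 : Q ⧸ 𝔐) ⊗ₜ[Q] KaehlerDifferential.D R Q (n : Q) := fun n => rfl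
  let δK : N →ₗ[Q ⧸ 𝔐] (Q ⧸ 𝔐) ⊗[Q] Ω[Q⁄R] :=
    δ.extendScalarsOfSurjective Ideal.Quotient.mk_surjective
  have hδK : ∀ n, δK n = δ n := fun n => rfl
  have hinj : LinearMap.ker δK = ⊥ := by
    rw [LinearMap.ker_eq_bot']
    intro n₀ hn₀
    by_contra hne
    obtain ⟨g, hg⟩ := LinearMap.exists_leftInverse_of_injective
      (LinearMap.toSpanSingleton (Q ⧸ 𝔐) N n₀) (LinearMap.ker_toSpanSingleton (Q ⧸ 𝔐) hne)
    have hgn : g n₀ = 1 := by
      have := congrArg (fun f => f 1) hg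
      simpa using this
    obtain ⟨D, hD⟩ := H (g.restrictScalars Q)
    let Dt : (Q ⧸ 𝔐) ⊗[Q] Ω[Q⁄R] →ₗ[Q ⧸ 𝔐] Q ⧸ 𝔐 :=
      LinearMap.liftBaseChange (Q ⧸ 𝔐) D.liftKaehlerDifferential
    have h1 : Dt (δK n₀) = g n₀ := by
      rw [hδK, hδ]
      simp only [Dt, LinearMap.liftBaseChange_tmul, one_smul,
        Derivation.liftKaehlerDifferential_comp_D]
      exact hD n₀
    rw [hn₀, map_zero, hgn] at h1
    exact zero_ne_one h1
  obtain ⟨ρ, hρ⟩ := LinearMap.exists_leftInverse_of_injective δK hinj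
  let D₀ : Derivation R Q N :=
    ((ρ.restrictScalars Q) ∘ₗ (TensorProduct.mk Q (Q ⧸ 𝔐) Ω[Q⁄R] 1)).compDer
      (KaehlerDifferential.D R Q)
  have hD₀ : ∀ q, D₀ q = ρ ((1 : Q ⧸ 𝔐) ⊗ₜ[Q] KaehlerDifferential.D R Q q) := fun q => rfl
  refine exists_section_of_derivation π hπ hsq D₀ (fun n => ?_)
  rw [hD₀, ← hδ, ← hδK]
  exact LinearMap.congr_fun hρ n

end sections

end Groth.Agent.Lib.Helper19.ArtTest
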