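import Mathlib
import Groth.Agent.Lib.Helper19ArtTestB

/-!
# Sections of nilpotent-type extensions of a local ring from small extensions (helper19)

If every *small* square-zero extension `Q → S` of a local `R`-algebra `S` (kernel principal and
killed by the maximal ideal) has an `R`-algebra section, then so does every square-zero extension
whose kernel is killed by a power of the maximal ideal, and `S` is formally smooth over `R` for the
adic topology of its maximal ideal.
-/

set_option autoImplicit false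
set_option linter.style.haveILetI false
set_option linter.unusedSectionVars false
universe u

namespace Groth.Agent.Lib.Helper19.ArtTest

open IsLocalRing TensorProduct

section quot

variable {R S Q : Type u} [CommRing R] [CommRing S] [CommRing Q] [Algebra R S] [Algebra R Q]
variable (π : Q →ₐ[R] S) (N' : Ideal Q) (hN' : N' ≤ RingHom.ker π)

/-- the induced map on a quotient by a subideal of the kernel -/
def quotMap : Q ⧸ N' →ₐ[R] S :=
  Ideal.Quotient.liftₐ N' π (fun a ha => RingHom.mem_ker.1 (hN' ha))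

lemma quotMap_mk (a : Q) : quotMap π N' hN' (Ideal.Quotient.mk N' a) = π a := rfl

lemma quotMap_surjective (hπ : Function.Surjective π) : Function.Surjective (quotMap π N' hN') := by
  intro s
  obtain ⟨q, rfl⟩ := hπ s
  exact ⟨Ideal.Quotient.mk N' q, rfl⟩

lemma ker_quotMap_le : RingHom.ker (quotMap π N' hN') ≤ (RingHom.ker π).map (Ideal.Quotient.mk N') := by
  intro x hx
  obtain ⟨a, rfl⟩ := Ideal.Quotient.mk_surjective x
  rw [RingHom.mem_ker, quotMap_mk] at hx
  exact Ideal.mem_map_of_mem _ (RingHom.mem_ker.2 hx)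

lemma comap_quotMap_le (I : Ideal S) :
    I.comap (quotMap π N' hN') ≤ (I.comap π).map (Ideal.Quotient.mk N') := by
  intro x hx
  obtain ⟨a, rfl⟩ := Ideal.Quotient.mk_surjective x
  rw [Ideal.mem_comap, quotMap_mk] at hx
  exact Ideal.mem_map_of_mem _ (Ideal.mem_comap.2 hx)

lemma ker_quotMap_sq (hsq : RingHom.ker π ^ 2 = ⊥) : RingHom.ker (quotMap π N' hN') ^ 2 = ⊥ := by
  rw [eq_bot_iff]
  refine (Ideal.pow_right_mono (ker_quotMap_le π N' hN') 2).trans ?_
  rw [← Ideal.map_pow, hsq, Ideal.map_bot]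

lemma pow_comap_mul_ker_quotMap (I : Ideal S) (n : ℕ)
    (h : (I.comap π) ^ n * RingHom.ker π ≤ N') :
    (I.comap (quotMap π N' hN')) ^ n * RingHom.ker (quotMap π N' hN') = ⊥ := by
  rw [eq_bot_iff]
  refine (Ideal.mul_mono (Ideal.pow_right_mono (comap_quotMap_le π N' hN' I) n)
    (ker_quotMap_le π N' hN')).trans ?_
  rw [← Ideal.map_pow, ← Ideal.map_mul]
  rw [Ideal.map_le_iff_le_comap]
  intro x hx
  rw [Ideal.mem_comap, Ideal.mem_bot]
  exact Ideal.Quotient.eq_zero_iff_mem.2 (h hx)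

end quot

/-- **Hypothesis**: small square-zero extensions of `S` have sections. -/
def SmallSectionHyp (R S : Type u) [CommRing R] [CommRing S] [Algebra R S] [IsLocalRing S] : Prop :=
  ∀ (Q : Type u) [CommRing Q] [Algebra R Q] (π : Q →ₐ[R] S), Function.Surjective π →
    RingHom.ker π ^ 2 = ⊥ → (maximalIdeal S).comap π * RingHom.ker π = ⊥ →
    (∃ t : Q, RingHom.ker π = Ideal.span {t}) →
    ∃ σ : S →ₐ[R] Q, π.comp σ = AlgHom.id R S

section main

variable {R S : Type u} [CommRing R] [CommRing S] [Algebra R S] [IsLocalRing S]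

/-- extension of a functional on the kernel to a derivation, from a section of the quotient
by the kernel of the functional -/
theorem exists_derivation_of_smallSectionHyp (Hs : SmallSectionHyp R S)
    {Q : Type u} [CommRing Q] [Algebra R Q] (π : Q →ₐ[R] S) (hπ : Function.Surjective π)
    (hsq : RingHom.ker π ^ 2 = ⊥)
    (hkill : (maximalIdeal S).comap π * RingHom.ker π = ⊥)
    (l : RingHom.ker π →ₗ[Q] Q ⧸ (maximalIdeal S).comap π) :
    ∃ D : Derivation R Q (Q ⧸ (maximalIdeal S).comap π), ∀ n : RingHom.ker π, D (n : Q) = l n := by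
  let 𝔐 : Ideal Q := (maximalIdeal S).comap π
  haveI : 𝔐.IsMaximal := Ideal.comap_isMaximal_of_surjective π hπ
  letI : Field (Q ⧸ 𝔐) := Ideal.Quotient.field 𝔐
  let N : Ideal Q := RingHom.ker π
  let N' : Ideal Q := (LinearMap.ker l).map N.subtype
  have hN'mem : ∀ a : Q, a ∈ N' ↔ ∃ h : a ∈ N, l ⟨a, h⟩ = 0 := by
    intro a
    constructor
    · rintro ⟨n, hn, rfl⟩
      exact ⟨n.2, hn⟩
    · rintro ⟨h, hl⟩
      exact ⟨⟨a, h⟩, hl, rfl⟩
  have hN'le : N' ≤ N := fun a ha => ((hN'mem a).1 ha).1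
  let π' := quotMap π N' hN'le
  have hπ' : Function.Surjective π' := quotMap_surjective π N' hN'le hπ
  have hsq' : RingHom.ker π' ^ 2 = ⊥ := ker_quotMap_sq π N' hN'le hsq
  have hkill' : (maximalIdeal S).comap π' * RingHom.ker π' = ⊥ := by
    have := pow_comap_mul_ker_quotMap π N' hN'le (maximalIdeal S) 1
      (by rw [pow_one, hkill]; exact bot_le)
    rwa [pow_one] at this
  -- the kernel of `π'` is principal
  have hprinc : ∃ t : Q ⧸ N', RingHom.ker π' = Ideal.span {t} := by
    by_cases hl0 : ∀ n, l n = 0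
    · refine ⟨0, ?_⟩
      rw [Ideal.span_singleton_zero, eq_bot_iff]
      intro x hx
      obtain ⟨a, rfl⟩ := Ideal.Quotient.mk_surjective x
      have ha : a ∈ N := RingHom.mem_ker.2 (by rwa [RingHom.mem_ker] at hx)
      rw [Ideal.mem_bot]
      exact Ideal.Quotient.eq_zero_iff_mem.2 ((hN'mem a).2 ⟨ha, hl0 _⟩)
    · push Not at hl0
      obtain ⟨n₀, hn₀⟩ := hl0
      refine ⟨Ideal.Quotient.mk N' (n₀ : Q), le_antisymm ?_ ?_⟩
      · intro x hx
        obtain ⟨a, rfl⟩ := Ideal.Quotient.mk_surjective x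
        have ha : a ∈ N := RingHom.mem_ker.2 (by rwa [RingHom.mem_ker] at hx)
        obtain ⟨q, hq⟩ := Ideal.Quotient.mk_surjective (l ⟨a, ha⟩ * (l n₀)⁻¹)
        have hmem : a - q * (n₀ : Q) ∈ N' := by
          rw [hN'mem]
          refine ⟨N.sub_mem ha (N.mul_mem_left _ n₀.2), ?_⟩
          have e1 : (⟨a - q * (n₀ : Q), N.sub_mem ha (N.mul_mem_left _ n₀.2)⟩ : N) =
              ⟨a, ha⟩ - q • n₀ := by
            apply Subtype.ext
            simp
          rw [e1, map_sub, map_smul, Algebra.smul_def]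
          change l ⟨a, ha⟩ - Ideal.Quotient.mk 𝔐 q * l n₀ = 0
          rw [hq, mul_assoc, inv_mul_cancel₀ hn₀, mul_one, sub_self]
        rw [Ideal.mem_span_singleton']
        refine ⟨Ideal.Quotient.mk N' q, ?_⟩
        rw [← map_mul, eq_comm, Ideal.Quotient.eq]
        exact hmem
      · rw [Ideal.span_singleton_le_iff_mem, RingHom.mem_ker]
        change π (n₀ : Q) = 0
        exact RingHom.mem_ker.1 n₀.2
  obtain ⟨g, hg⟩ := Hs (Q ⧸ N') π' hπ' hsq' hkill' hprinc
  let Db : Derivation R (Q ⧸ N') (RingHom.ker π') := derivationOfSectionOfKerSqZero π' hsq' g hg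
  -- the map `N → ker π'`
  let f : N →ₗ[Q] RingHom.ker π' :=
    { toFun := fun n => ⟨Ideal.Quotient.mk N' (n : Q), by
        rw [RingHom.mem_ker]; exact RingHom.mem_ker.1 n.2⟩
      map_add' := fun x y => by
        apply Subtype.ext
        simp
      map_smul' := fun q x => by
        apply Subtype.ext
        simp [Algebra.smul_def] }
  have hf : Function.Surjective f := by
    rintro ⟨x, hx⟩
    obtain ⟨a, rfl⟩ := Ideal.Quotient.mk_surjective x
    have ha : a ∈ N := RingHom.mem_ker.2 (by rwa [RingHom.mem_ker] at hx)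
    exact ⟨⟨a, ha⟩, rfl⟩
  have hkerf : LinearMap.ker f ≤ LinearMap.ker l := by
    intro n hn
    rw [LinearMap.mem_ker] at hn ⊢
    have h1 : Ideal.Quotient.mk N' (n : Q) = 0 := congrArg Subtype.val hn
    obtain ⟨h, hl⟩ := (hN'mem _).1 (Ideal.Quotient.eq_zero_iff_mem.1 h1)
    exact hl
  let lb : RingHom.ker π' →ₗ[Q] Q ⧸ 𝔐 :=
    ((LinearMap.ker f).liftQ l hkerf) ∘ₗ (f.quotKerEquivOfSurjective hf).symm.toLinearMap
  have hlb : ∀ n : N, lb (f n) = l n := by
    intro n
    change ((LinearMap.ker f).liftQ l hkerf) ((f.quotKerEquivOfSurjective hf).symm (f n)) = l n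
    rw [LinearMap.quotKerEquivOfSurjective_symm_apply, Submodule.liftQ_apply]
  let D : Derivation R Q (Q ⧸ 𝔐) := lb.compDer (Db.compAlgebraMap Q)
  refine ⟨D, fun n => ?_⟩
  have h1 : D (n : Q) = lb (Db (Ideal.Quotient.mk N' (n : Q))) := rfl
  have h2 : Db (Ideal.Quotient.mk N' (n : Q)) = f n := by
    apply Subtype.ext
    change Ideal.Quotient.mk N' (n : Q) - g (π' (Ideal.Quotient.mk N' (n : Q))) = _
    have : π' (Ideal.Quotient.mk N' (n : Q)) = 0 := RingHom.mem_ker.1 n.2
    rw [this, map_zero, sub_zero]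
    rfl
  rw [h1, h2, hlb]

/-- sections exist when the kernel is killed by the maximal ideal -/
theorem exists_section_of_killed (Hs : SmallSectionHyp R S)
    {Q : Type u} [CommRing Q] [Algebra R Q] (π : Q →ₐ[R] S) (hπ : Function.Surjective π)
    (hsq : RingHom.ker π ^ 2 = ⊥)
    (hkill : (maximalIdeal S).comap π * RingHom.ker π = ⊥) :
    ∃ σ : S →ₐ[R] Q, π.comp σ = AlgHom.id R S := by
  haveI : ((maximalIdeal S).comap π).IsMaximal := Ideal.comap_isMaximal_of_surjective π hπ
  refine exists_section_of_forall_functional π hπ hsq ((maximalIdeal S).comap π) ?_ hkill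
    (fun l => exists_derivation_of_smallSectionHyp Hs π hπ hsq hkill l)
  intro n hn
  rw [Ideal.mem_comap, RingHom.mem_ker.1 hn]
  exact zero_mem _

/-- sections exist when the kernel is killed by a power of the maximal ideal (dévissage) -/
theorem exists_section_of_pow_killed (Hs : SmallSectionHyp R S) (n : ℕ) :
    ∀ (Q : Type u) [CommRing Q] [Algebra R Q] (π : Q →ₐ[R] S), Function.Surjective π →
      RingHom.ker π ^ 2 = ⊥ → ((maximalIdeal S).comap π) ^ n * RingHom.ker π = ⊥ →
      ∃ σ : S →ₐ[R] Q, π.comp σ = AlgHom.id R S := by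
  induction n with
  | zero =>
    intro Q _ _ π hπ _ hkill
    rw [pow_zero, Ideal.one_eq_top, Ideal.top_mul] at hkill
    have hinj : Function.Injective π := (RingHom.injective_iff_ker_eq_bot π.toRingHom).2 hkill
    let e : Q ≃ₐ[R] S := AlgEquiv.ofBijective π ⟨hinj, hπ⟩
    refine ⟨e.symm.toAlgHom, ?_⟩
    ext s
    exact e.apply_symm_apply s
  | succ n ih =>
    intro Q _ _ π hπ hsq hkill
    set 𝔐 : Ideal Q := (maximalIdeal S).comap π with h𝔐
    set N : Ideal Q := RingHom.ker π with hN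
    let N₁ : Ideal Q := 𝔐 ^ n * N
    have hN₁le : N₁ ≤ N := Ideal.mul_le_right
    have hN₁sq : N₁ ^ 2 = ⊥ := by
      rw [eq_bot_iff, ← hsq]
      exact Ideal.pow_right_mono hN₁le 2
    let π₁ := quotMap π N₁ hN₁le
    obtain ⟨σ₁, hσ₁⟩ := ih (Q ⧸ N₁) π₁ (quotMap_surjective π N₁ hN₁le hπ)
      (ker_quotMap_sq π N₁ hN₁le hsq)
      (pow_comap_mul_ker_quotMap π N₁ hN₁le (maximalIdeal S) n le_rfl)
    have hσ₁' : ∀ s, π₁ (σ₁ s) = s := fun s => AlgHom.congr_fun hσ₁ s
    -- the fibre product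
    let π₂ := fibreSnd N₁ σ₁
    have hfst : ∀ x : fibre N₁ σ₁, π (fibreFst N₁ σ₁ x) = π₂ x := by
      intro x
      have h1 : π₁ (Ideal.Quotient.mk N₁ (fibreFst N₁ σ₁ x)) = π (fibreFst N₁ σ₁ x) := rfl
      rw [← h1, mk_fibreFst, hσ₁']
    have hkill₂ : (maximalIdeal S).comap π₂ * RingHom.ker π₂ = ⊥ := by
      rw [eq_bot_iff, Ideal.mul_le]
      intro a ha b hb
      rw [Ideal.mem_bot]
      apply fibre_ext
      · rw [map_mul, map_zero]
        have h1 : fibreFst N₁ σ₁ a ∈ 𝔐 := by
          rw [h𝔐, Ideal.mem_comap, hfst]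
          exact ha
        have h2 : fibreFst N₁ σ₁ b ∈ N₁ := fibreFst_mem_of_mem_ker N₁ σ₁ hb
        have h3 : fibreFst N₁ σ₁ a * fibreFst N₁ σ₁ b ∈ 𝔐 ^ (n + 1) * N := by
          rw [pow_succ', mul_assoc]
          exact Ideal.mul_mem_mul h1 h2
        rwa [hkill, Ideal.mem_bot] at h3
      · rw [map_mul, map_zero]
        have : fibreSnd N₁ σ₁ b = 0 := RingHom.mem_ker.1 hb
        rw [this, mul_zero]
    obtain ⟨σ₂, hσ₂⟩ := exists_section_of_killed Hs π₂ (fibreSnd_surjective N₁ σ₁)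
      (ker_fibreSnd_sq N₁ σ₁ hN₁sq) hkill₂
    refine ⟨(fibreFst N₁ σ₁).comp σ₂, ?_⟩
    ext s
    rw [AlgHom.comp_apply, AlgHom.comp_apply, hfst, AlgHom.id_apply]
    exact AlgHom.congr_fun hσ₂ s

/-- **Main reduction**: if small square-zero extensions of `S` have sections then `S` is formally
smooth over `R` for the adic topology of its maximal ideal. -/
theorem isAdicFormallySmooth_of_smallSectionHyp (Hs : SmallSectionHyp R S) :
    CAlgX.IsAdicFormallySmooth R S (maximalIdeal S) := by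
  intro C _ _ J hJ ψ hψ
  obtain ⟨k, hk⟩ := hψ
  have hkill : ((maximalIdeal S).comap (fibreSnd J ψ)) ^ k * RingHom.ker (fibreSnd J ψ) = ⊥ := by
    refine mul_ker_fibreSnd_eq_bot J ψ hJ _ (fun x hx => ?_)
    have h1 : fibreSnd J ψ x ∈ maximalIdeal S ^ k := by
      have := Ideal.le_comap_pow (fibreSnd J ψ).toRingHom k hx
      exact this
    rw [← Ideal.Quotient.eq_zero_iff_mem, mk_fibreFst]
    exact hk _ h1
  obtain ⟨σ, hσ⟩ := exists_section_of_pow_killed Hs k (fibre J ψ) (fibreSnd J ψ)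
    (fibreSnd_surjective J ψ) (ker_fibreSnd_sq J ψ hJ) hkill
  exact ⟨(fibreFst J ψ).comp σ, lift_of_section J ψ σ hσ⟩

end main

end Groth.Agent.Lib.Helper19.ArtTest
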