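import Mathlib
import Groth.Agent.Lib.Helper19ArtTestC
import Groth.Agent.Lib.Helper19SqZeroComplete

/-!
# Formal smoothness of Noetherian local rings tested on small extensions of Artinian local rings
(S9316, S2481) (helper19)
-/

set_option autoImplicit false
set_option linter.style.haveILetI false
set_option linter.unusedSectionVars false
universe u

namespace Groth.Agent.Lib.Helper19.ArtTest

open IsLocalRing

/-- A nonzero principal ideal killed by the maximal ideal has length one. -/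
theorem length_span_singleton_eq_one {A : Type*} [CommRing A] [IsLocalRing A] (x : A) (hx : x ≠ 0)
    (hm : ∀ a ∈ maximalIdeal A, a * x = 0) : Module.length A (Ideal.span {x} : Ideal A) = 1 := by
  rw [Module.length_eq_one_iff, isSimpleModule_iff]
  haveI : Nontrivial (Ideal.span {x} : Ideal A) :=
    ⟨⟨⟨x, Ideal.mem_span_singleton_self x⟩, 0, fun h => hx (congrArg Subtype.val h)⟩⟩
  refine ⟨fun P => ?_⟩
  by_cases hP : P = ⊥
  · exact Or.inl hP
  · right
    obtain ⟨y, hyP, hy0⟩ := Submodule.exists_mem_ne_zero_of_ne_bot hP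
    obtain ⟨a, ha⟩ := Ideal.mem_span_singleton'.1 y.2
    have hau : IsUnit a := by
      by_contra hna
      apply hy0
      apply Subtype.ext
      rw [← ha]
      exact hm a hna
    obtain ⟨u, rfl⟩ := hau
    rw [eq_top_iff]
    rintro ⟨z, hz⟩ -
    obtain ⟨b, rfl⟩ := Ideal.mem_span_singleton'.1 hz
    have : (⟨b * x, hz⟩ : (Ideal.span {x} : Ideal A)) = (b * ↑u⁻¹) • y := by
      apply Subtype.ext
      change b * x = (b * ↑u⁻¹) * (y : A)
      rw [← ha]
      rw [mul_assoc, ← mul_assoc (↑u⁻¹ : A), Units.inv_mul, one_mul]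
    rw [this]
    exact P.smul_mem _ hyP

section core

variable {R S : Type u} [CommRing R] [CommRing S] [IsLocalRing S]
  [IsNoetherianRing S] [Algebra R S]

/-- the lifting property for small extensions of Artinian local rings gives sections of small
square-zero extensions of `S` (core version, no hypothesis on `R`) -/
theorem smallSectionHyp_of_lift_core
    (h : ∀ (A : Type u) [CommRing A] [IsLocalRing A] [IsArtinianRing A] [Algebra R A]
        (J : Ideal A) (t : A), J = Ideal.span {t} → t ≠ 0 → (∀ a ∈ maximalIdeal A, a * t = 0) →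
        J ^ 2 = ⊥ → (∀ r : R, IsUnit (algebraMap R A r) → IsUnit (algebraMap R S r)) →
        ∀ [IsLocalRing (A ⧸ J)] (ψ : S →ₐ[R] A ⧸ J), Function.Surjective ψ →
          ∃ χ : S →ₐ[R] A, (Ideal.Quotient.mkₐ R J).comp χ = ψ) :
    SmallSectionHyp R S := by
  intro Q _ _ π hπ hsq hkill ht
  obtain ⟨t, ht⟩ := ht
  by_cases ht0 : t = 0
  · rw [ht0, Ideal.span_singleton_zero] at ht
    have hinj : Function.Injective π := (RingHom.injective_iff_ker_eq_bot π.toRingHom).2 ht
    let e : Q ≃ₐ[R] S := AlgEquiv.ofBijective π ⟨hinj, hπ⟩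
    refine ⟨e.symm.toAlgHom, ?_⟩
    ext s
    exact e.apply_symm_apply s
  -- `Q` is a local ring and `π` a local homomorphism
  have hnil : ∀ x ∈ RingHom.ker π.toRingHom, IsNilpotent x := fun x hx =>
    isNilpotent_of_mem_of_pow_eq_bot (RingHom.ker π) 2 hsq hx
  haveI hπloc : IsLocalHom π.toRingHom := isLocalHom_of_surjective_of_nil π.toRingHom hπ hnil
  haveI : IsLocalRing Q := RingHom.domain_isLocalRing π.toRingHom
  have hmax : (maximalIdeal S).comap π = maximalIdeal Q :=
    IsLocalRing.maximalIdeal_comap π.toRingHom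
  rw [hmax] at hkill
  have htN : t ∈ RingHom.ker π := by rw [ht]; exact Ideal.mem_span_singleton_self t
  have hmt : ∀ a ∈ maximalIdeal Q, a * t = 0 := by
    intro a ha
    have : a * t ∈ maximalIdeal Q * RingHom.ker π := Ideal.mul_mem_mul ha htN
    rwa [hkill, Ideal.mem_bot] at this
  -- `Q` is Noetherian
  haveI : IsAdicComplete (RingHom.ker π) Q :=
    Groth.Agent.Lib.Helper19.isAdicComplete_of_pow_eq_bot _ 2 hsq
  haveI : IsNoetherianRing (Q ⧸ RingHom.ker π) :=
    isNoetherianRing_of_ringEquiv S (RingHom.quotientKerEquivOfSurjective (f := π.toRingHom) hπ).symm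
  haveI : IsNoetherianRing Q :=
    Groth.Agent.Lib.Helper19.isNoetherianRing_of_isAdicComplete_of_fg (RingHom.ker π)
      ⟨{t}, by rw [ht]; simp⟩
  -- Krull's intersection theorem
  obtain ⟨m, hm⟩ : ∃ m, t ∉ maximalIdeal Q ^ m := by
    by_contra hcon
    push Not at hcon
    have h1 : t ∈ ⨅ i, maximalIdeal Q ^ i := by
      rw [Ideal.mem_iInf]
      exact hcon
    rw [Ideal.iInf_pow_eq_bot_of_isLocalRing _ (maximalIdeal.isMaximal Q).ne_top,
      Ideal.mem_bot] at h1
    exact ht0 h1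
  set I : Ideal Q := maximalIdeal Q ^ m with hI
  have hIle : I ≤ maximalIdeal Q := by
    rcases Nat.eq_zero_or_pos m with h0 | hpos
    · exfalso
      apply hm
      rw [hI, h0, pow_zero, Ideal.one_eq_top]
      trivial
    · exact Ideal.pow_le_self hpos.ne'
  -- `N ∩ I = 0`
  have hNI : ∀ x ∈ RingHom.ker π, x ∈ I → x = 0 := by
    intro x hxN hxI
    rw [ht] at hxN
    obtain ⟨a, rfl⟩ := Ideal.mem_span_singleton'.1 hxN
    by_cases ha : IsUnit a
    · exfalso
      apply hm
      obtain ⟨u, rfl⟩ := ha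
      have := I.mul_mem_left (↑u⁻¹ : Q) hxI
      rwa [← mul_assoc, Units.inv_mul, one_mul] at this
    · exact hmt a ha
  -- the Artinian quotient
  haveI : Nontrivial (Q ⧸ I) := by
    rw [Ideal.Quotient.nontrivial_iff]
    intro h
    rw [h, top_le_iff] at hIle
    exact (maximalIdeal.isMaximal Q).ne_top hIle
  haveI : IsLocalRing (Q ⧸ I) :=
    IsLocalRing.of_surjective' (Ideal.Quotient.mk I) Ideal.Quotient.mk_surjective
  haveI hmkloc : IsLocalHom (Ideal.Quotient.mk I) :=
    IsLocalHom.of_surjective _ Ideal.Quotient.mk_surjective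
  haveI : IsArtinianRing (Q ⧸ I) := by
    rw [isArtinianRing_iff_isNilpotent_maximalIdeal]
    refine ⟨m, ?_⟩
    rw [← IsLocalRing.map_maximalIdeal_of_surjective (Ideal.Quotient.mk I)
      Ideal.Quotient.mk_surjective, ← Ideal.map_pow, ← hI, Ideal.map_quotient_self]
    rfl
  have hunit : ∀ r : R, IsUnit (algebraMap R (Q ⧸ I) r) → IsUnit (algebraMap R S r) := by
    intro r hr
    rw [IsScalarTower.algebraMap_apply R Q (Q ⧸ I)] at hr
    have h1 : IsUnit (algebraMap R Q r) := isUnit_of_map_unit (Ideal.Quotient.mk I) _ hr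
    have h2 : IsUnit (π (algebraMap R Q r)) := h1.map π
    rwa [AlgHom.commutes] at h2
  set t' : Q ⧸ I := Ideal.Quotient.mk I t with ht'
  have ht'0 : t' ≠ 0 := by
    intro h0
    exact hm (Ideal.Quotient.eq_zero_iff_mem.1 h0)
  have hmt' : ∀ a ∈ maximalIdeal (Q ⧸ I), a * t' = 0 := by
    intro a ha
    obtain ⟨b, rfl⟩ := Ideal.Quotient.mk_surjective a
    have hb : b ∈ maximalIdeal Q := by
      rw [mem_maximalIdeal, mem_nonunits_iff] at ha ⊢
      exact fun hu => ha (hu.map _)
    rw [ht', ← map_mul, hmt b hb, map_zero]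
  set J : Ideal (Q ⧸ I) := Ideal.span {t'} with hJ
  have hJmap : J = (RingHom.ker π).map (Ideal.Quotient.mk I) := by
    rw [hJ, ht, Ideal.map_span, Set.image_singleton]
  have hJsq : J ^ 2 = ⊥ := by
    rw [hJmap, ← Ideal.map_pow, hsq, Ideal.map_bot]
  have hJle : J ≤ maximalIdeal (Q ⧸ I) := by
    rw [hJ, Ideal.span_singleton_le_iff_mem, mem_maximalIdeal, mem_nonunits_iff]
    intro hu
    obtain ⟨u, hu⟩ := hu
    have h1 : t' * t' = 0 := by
      have : t' * t' ∈ J ^ 2 := by
        rw [pow_two]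
        exact Ideal.mul_mem_mul (Ideal.mem_span_singleton_self t') (Ideal.mem_span_singleton_self t')
      rwa [hJsq, Ideal.mem_bot] at this
    rw [← hu] at h1
    have h2 : (u : Q ⧸ I) = 0 := by
      have := congrArg (fun z => (↑u⁻¹ : Q ⧸ I) * z) h1
      simpa [← mul_assoc] using this
    exact ht'0 (by rw [← hu, h2])
  haveI : Nontrivial ((Q ⧸ I) ⧸ J) := by
    rw [Ideal.Quotient.nontrivial_iff]
    intro h
    rw [h, top_le_iff] at hJle
    exact (maximalIdeal.isMaximal (Q ⧸ I)).ne_top hJle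
  haveI : IsLocalRing ((Q ⧸ I) ⧸ J) :=
    IsLocalRing.of_surjective' (Ideal.Quotient.mk J) Ideal.Quotient.mk_surjective
  -- the test map
  let ρ : Q →ₐ[R] (Q ⧸ I) ⧸ J := (Ideal.Quotient.mkₐ R J).comp (Ideal.Quotient.mkₐ R I)
  have hρker : RingHom.ker π.toRingHom ≤ RingHom.ker ρ.toRingHom := by
    intro n hn
    rw [RingHom.mem_ker]
    change Ideal.Quotient.mk J (Ideal.Quotient.mk I n) = 0
    rw [Ideal.Quotient.eq_zero_iff_mem, hJmap]
    exact Ideal.mem_map_of_mem _ hn
  let ψ : S →ₐ[R] (Q ⧸ I) ⧸ J := AlgHom.liftOfSurjective π hπ ρ hρker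
  have hψ : ∀ q, ψ (π q) = Ideal.Quotient.mk J (Ideal.Quotient.mk I q) := fun q =>
    AlgHom.liftOfSurjective_apply π hπ ρ hρker q
  have hψsurj : Function.Surjective ψ := by
    intro y
    obtain ⟨y', rfl⟩ := Ideal.Quotient.mk_surjective y
    obtain ⟨q, rfl⟩ := Ideal.Quotient.mk_surjective y'
    exact ⟨π q, hψ q⟩
  obtain ⟨χ, hχ⟩ := h (Q ⧸ I) J t' hJ ht'0 hmt' hJsq hunit ψ hψsurj
  have hχ' : ∀ s, Ideal.Quotient.mk J (χ s) = ψ s := fun s => AlgHom.congr_fun hχ s
  -- `Q` is the fibre product of `Q ⧸ I` and `S` over `(Q ⧸ I) ⧸ J`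
  let θ : Q →ₐ[R] fibre J ψ :=
    AlgHom.codRestrict (AlgHom.prod (Ideal.Quotient.mkₐ R I) π) (fibre J ψ) (fun q => by
      rw [mem_fibre]
      exact (hψ q).symm)
  have hθ1 : ∀ q, fibreFst J ψ (θ q) = Ideal.Quotient.mk I q := fun q => rfl
  have hθ2 : ∀ q, fibreSnd J ψ (θ q) = π q := fun q => rfl
  have hθinj : Function.Injective θ := by
    rw [injective_iff_map_eq_zero]
    intro q hq
    have h1 : Ideal.Quotient.mk I q = 0 := by rw [← hθ1, hq, map_zero]
    have h2 : π q = 0 := by rw [← hθ2, hq, map_zero]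
    exact hNI q (RingHom.mem_ker.2 h2) (Ideal.Quotient.eq_zero_iff_mem.1 h1)
  have hθsurj : Function.Surjective θ := by
    intro x
    obtain ⟨q₀, hq₀⟩ := hπ (fibreSnd J ψ x)
    have h1 : fibreFst J ψ x - Ideal.Quotient.mk I q₀ ∈ J := by
      rw [← Ideal.Quotient.eq, mk_fibreFst, ← hq₀, hψ]
    obtain ⟨n, hn, hn'⟩ :=
      (Ideal.mem_map_iff_of_surjective _ Ideal.Quotient.mk_surjective).1 (hJmap.le h1)
    refine ⟨q₀ + n, ?_⟩
    apply fibre_ext
    · rw [hθ1, map_add, hn']
      ring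
    · rw [hθ2, map_add, RingHom.mem_ker.1 hn, add_zero, hq₀]
  let e : Q ≃ₐ[R] fibre J ψ := AlgEquiv.ofBijective θ ⟨hθinj, hθsurj⟩
  let τ : S →ₐ[R] fibre J ψ :=
    AlgHom.codRestrict (AlgHom.prod χ (AlgHom.id R S)) (fibre J ψ) (fun s => by
      rw [mem_fibre]
      exact hχ' s)
  have hτ2 : ∀ s, fibreSnd J ψ (τ s) = s := fun s => rfl
  refine ⟨e.symm.toAlgHom.comp τ, ?_⟩
  ext s
  rw [AlgHom.comp_apply, AlgHom.comp_apply, AlgHom.id_apply]
  change π (e.symm (τ s)) = s
  have h1 : π (e.symm (τ s)) = fibreSnd J ψ (e (e.symm (τ s))) := (hθ2 _).symm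
  rw [h1, AlgEquiv.apply_symm_apply, hτ2]

end core

section main

variable {R S : Type u} [CommRing R] [CommRing S] [IsLocalRing R] [IsLocalRing S]
  [IsNoetherianRing S] [Algebra R S] [IsLocalHom (algebraMap R S)]

/-- the lifting property for small extensions of Artinian local rings gives sections of small
square-zero extensions of `S` -/
theorem smallSectionHyp_of_lift
    (h : ∀ (A : Type u) [CommRing A] [IsLocalRing A] [IsArtinianRing A] [Algebra R A]
        [IsLocalHom (algebraMap R A)] (J : Ideal A), J ^ 2 = ⊥ → Module.length A J = 1 →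
        ∀ [IsLocalRing (A ⧸ J)] (ψ : S →ₐ[R] A ⧸ J) [IsLocalHom ψ.toRingHom],
          Function.Bijective (ResidueField.map ψ.toRingHom) →
          ∃ χ : S →ₐ[R] A, (Ideal.Quotient.mkₐ R J).comp χ = ψ) :
    SmallSectionHyp R S := by
  apply smallSectionHyp_of_lift_core
  intro A _ _ _ _ J t hJ ht0 hmt hJsq hunit _ ψ hψsurj
  haveI : IsLocalHom (algebraMap R A) :=
    ⟨fun r hr => isUnit_of_map_unit (algebraMap R S) r (hunit r hr)⟩
  have hJlen : Module.length A J = 1 := by
    rw [hJ]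
    exact length_span_singleton_eq_one t ht0 hmt
  haveI : IsLocalHom ψ.toRingHom :=
    IsLocalHom.of_surjective (R := S) (S := A ⧸ J) ψ.toRingHom hψsurj
  have hbij : Function.Bijective (ResidueField.map (R := S) (S := A ⧸ J) ψ.toRingHom) := by
    refine ⟨RingHom.injective _, ?_⟩
    intro y
    obtain ⟨y', rfl⟩ := IsLocalRing.residue_surjective y
    obtain ⟨s, rfl⟩ := hψsurj y'
    exact ⟨IsLocalRing.residue S s, rfl⟩
  exact h A J hJsq hJlen ψ hbij

/-- **S9316 (⇐)** -/
theorem isAdicFormallySmooth_of_lift_small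
    (h : ∀ (A : Type u) [CommRing A] [IsLocalRing A] [IsArtinianRing A] [Algebra R A]
        [IsLocalHom (algebraMap R A)] (J : Ideal A), J ^ 2 = ⊥ → Module.length A J = 1 →
        ∀ [IsLocalRing (A ⧸ J)] (ψ : S →ₐ[R] A ⧸ J) [IsLocalHom ψ.toRingHom],
          Function.Bijective (ResidueField.map ψ.toRingHom) →
          ∃ χ : S →ₐ[R] A, (Ideal.Quotient.mkₐ R J).comp χ = ψ) :
    CAlgX.IsAdicFormallySmooth R S (maximalIdeal S) :=
  isAdicFormallySmooth_of_smallSectionHyp (smallSectionHyp_of_lift h)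

end main

end Groth.Agent.Lib.Helper19.ArtTest
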