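import Mathlib
import Groth.Prelude.Def_EGA41

/-!
# Adic formal smoothness: lifting derivations (helper5)

`exists_derivation_lift`: for `B` formally smooth over `A` (adic topologies), an open ideal `𝔄` of `B`
and a surjection `π : L → L''` of `B/𝔄`-modules, every `A`-derivation `B → L''` lifts to `L`.
-/

set_option autoImplicit false
universe u

namespace Groth.Agent.Lib.Helper5

open TensorProduct

section

variable {A B : Type u} [CommRing A] [CommRing B] [Algebra A B]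

theorem exists_derivation_lift (𝔞 : Ideal A) (𝔟 : Ideal B)
    (hAB : ∃ k : ℕ, (𝔞 ^ k).map (algebraMap A B) ≤ 𝔟)
    (h : EGA41.IsFormallySmoothAdic A 𝔞 B 𝔟) (𝔄 : Ideal B) (h𝔄 : ∃ n : ℕ, 𝔟 ^ n ≤ 𝔄)
    {L L'' : Type u} [AddCommGroup L] [Module (B ⧸ 𝔄) L] [Module B L] [IsScalarTower B (B ⧸ 𝔄) L]
    [Module A L] [IsScalarTower A B L]
    [AddCommGroup L''] [Module (B ⧸ 𝔄) L''] [Module B L''] [IsScalarTower B (B ⧸ 𝔄) L'']
    [Module A L''] [IsScalarTower A B L'']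
    (π : L →ₗ[B ⧸ 𝔄] L'') (hπ : Function.Surjective π) (D'' : Derivation A B L'') :
    ∃ D : Derivation A B L, ∀ b, π (D b) = D'' b := by
  classical
  let _ : Module (B ⧸ 𝔄)ᵐᵒᵖ L :=
    Module.compHom L ((RingHom.id (B ⧸ 𝔄)).fromOpposite (fun _ _ => mul_comm _ _))
  have hcentral : IsCentralScalar (B ⧸ 𝔄) L := ⟨fun _ _ => rfl⟩
  have hAL : IsScalarTower A (B ⧸ 𝔄) L := IsScalarTower.of_algebraMap_smul (fun a l => by
    rw [IsScalarTower.algebraMap_apply A B (B ⧸ 𝔄), algebraMap_smul, algebraMap_smul])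
  have hmk : ∀ (b : B) (l : L), (Ideal.Quotient.mk 𝔄 b) • l = b • l := fun b l =>
    algebraMap_smul (B ⧸ 𝔄) b l
  have hmk'' : ∀ (b : B) (l : L''), (Ideal.Quotient.mk 𝔄 b) • l = b • l := fun b l =>
    algebraMap_smul (B ⧸ 𝔄) b l
  have hπB : ∀ (b : B) (l : L), π (b • l) = b • π l := by
    intro b l
    rw [← hmk, map_smul, hmk'']
  -- section of π
  have hs : ∀ y, π (Function.surjInv hπ y) = y := Function.surjInv_eq hπ
  -- the ideal
  let J : Ideal (TrivSqZeroExt (B ⧸ 𝔄) L) :=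
    { carrier := {c | c.fst = 0 ∧ π c.snd = 0}
      add_mem' := fun {x y} hx hy => by
        refine ⟨?_, ?_⟩
        · rw [TrivSqZeroExt.fst_add, hx.1, hy.1, add_zero]
        · rw [TrivSqZeroExt.snd_add, map_add, hx.2, hy.2, add_zero]
      zero_mem' := ⟨TrivSqZeroExt.fst_zero, by rw [TrivSqZeroExt.snd_zero, map_zero]⟩
      smul_mem' := fun c x hx => by
        refine ⟨?_, ?_⟩
        · rw [smul_eq_mul, TrivSqZeroExt.fst_mul, hx.1, mul_zero]
        · rw [smul_eq_mul, TrivSqZeroExt.snd_mul, hx.1, MulOpposite.op_zero, zero_smul, add_zero,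
            map_smul, hx.2, smul_zero] }
  have hJmem : ∀ c : TrivSqZeroExt (B ⧸ 𝔄) L, c ∈ J ↔ c.fst = 0 ∧ π c.snd = 0 := fun _ => Iff.rfl
  have hJnil : IsNilpotent J := by
    refine ⟨2, ?_⟩
    rw [pow_two, Ideal.zero_eq_bot, eq_bot_iff, Ideal.mul_le]
    intro x hx y hy
    rw [Ideal.mem_bot]
    refine TrivSqZeroExt.ext ?_ ?_
    · rw [TrivSqZeroExt.fst_mul, hx.1, zero_mul, TrivSqZeroExt.fst_zero]
    · rw [TrivSqZeroExt.snd_mul, hx.1, hy.1, zero_smul, MulOpposite.op_zero, zero_smul, add_zero,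
        TrivSqZeroExt.snd_zero]
  -- the map
  obtain ⟨g, hgfst, hgsnd⟩ : ∃ g : B → TrivSqZeroExt (B ⧸ 𝔄) L,
      (∀ b, (g b).fst = Ideal.Quotient.mk 𝔄 b) ∧ (∀ b, π (g b).snd = D'' b) :=
    ⟨fun b => TrivSqZeroExt.inl (Ideal.Quotient.mk 𝔄 b) +
        TrivSqZeroExt.inr (Function.surjInv hπ (D'' b)),
      fun b => by simp, fun b => by simp [hs]⟩
  let u : B →ₐ[A] TrivSqZeroExt (B ⧸ 𝔄) L ⧸ J :=
    { toFun := fun b => Ideal.Quotient.mk J (g b)
      map_one' := by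
        rw [← map_one (Ideal.Quotient.mk J), Ideal.Quotient.eq, hJmem]
        refine ⟨?_, ?_⟩
        · rw [TrivSqZeroExt.fst_sub, hgfst, map_one, TrivSqZeroExt.fst_one, sub_self]
        · rw [TrivSqZeroExt.snd_sub, map_sub, hgsnd, TrivSqZeroExt.snd_one, map_zero,
            Derivation.map_one_eq_zero, sub_zero]
      map_mul' := fun b b' => by
        rw [← map_mul (Ideal.Quotient.mk J), Ideal.Quotient.eq, hJmem]
        refine ⟨?_, ?_⟩
        · rw [TrivSqZeroExt.fst_sub, TrivSqZeroExt.fst_mul, hgfst, hgfst, hgfst, map_mul, sub_self]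
        · rw [TrivSqZeroExt.snd_sub, map_sub, hgsnd, TrivSqZeroExt.snd_mul, hgfst, hgfst, map_add,
            op_smul_eq_smul, map_smul, map_smul, hgsnd, hgsnd, Derivation.leibniz, hmk'', hmk'',
            sub_self]
      map_zero' := by
        rw [← map_zero (Ideal.Quotient.mk J), Ideal.Quotient.eq, hJmem]
        refine ⟨?_, ?_⟩
        · rw [TrivSqZeroExt.fst_sub, hgfst, map_zero, TrivSqZeroExt.fst_zero, sub_self]
        · rw [TrivSqZeroExt.snd_sub, map_sub, hgsnd, TrivSqZeroExt.snd_zero, map_zero, map_zero,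
            sub_zero]
      map_add' := fun b b' => by
        rw [← map_add (Ideal.Quotient.mk J), Ideal.Quotient.eq, hJmem]
        refine ⟨?_, ?_⟩
        · rw [TrivSqZeroExt.fst_sub, TrivSqZeroExt.fst_add, hgfst, hgfst, hgfst, map_add, sub_self]
        · rw [TrivSqZeroExt.snd_sub, map_sub, hgsnd, TrivSqZeroExt.snd_add, map_add D'', map_add π,
            hgsnd, hgsnd, sub_self]
      commutes' := fun a => by
        change Ideal.Quotient.mk J (g (algebraMap A B a)) =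
          Ideal.Quotient.mk J (algebraMap A (TrivSqZeroExt (B ⧸ 𝔄) L) a)
        rw [Ideal.Quotient.eq, hJmem]
        refine ⟨?_, ?_⟩
        · rw [TrivSqZeroExt.fst_sub, hgfst, TrivSqZeroExt.algebraMap_eq_inl', TrivSqZeroExt.fst_inl,
            IsScalarTower.algebraMap_apply A B (B ⧸ 𝔄)]
          exact sub_self _
        · rw [TrivSqZeroExt.snd_sub, map_sub, hgsnd, TrivSqZeroExt.algebraMap_eq_inl',
            TrivSqZeroExt.snd_inl, map_zero, Derivation.map_algebraMap, sub_zero] }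
  have hu : ∀ b, u b = Ideal.Quotient.mk J (g b) := fun _ => rfl
  -- discreteness
  obtain ⟨k₀, hk₀⟩ := hAB
  obtain ⟨n, hn⟩ := h𝔄
  have hdisc : ∃ k : ℕ, (𝔞 ^ k).map (algebraMap A (TrivSqZeroExt (B ⧸ 𝔄) L)) = ⊥ := by
    refine ⟨k₀ * n, ?_⟩
    rw [eq_bot_iff, Ideal.map_le_iff_le_comap]
    intro a ha
    rw [Ideal.mem_comap, Ideal.mem_bot, TrivSqZeroExt.algebraMap_eq_inl',
      IsScalarTower.algebraMap_apply A B (B ⧸ 𝔄)]
    have h1 : algebraMap A B a ∈ 𝔄 := by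
      apply hn
      have h2 : (𝔞 ^ (k₀ * n)).map (algebraMap A B) ≤ 𝔟 ^ n := by
        rw [pow_mul, Ideal.map_pow]
        exact Ideal.pow_right_mono hk₀ n
      exact h2 (Ideal.mem_map_of_mem _ ha)
    have h3 : algebraMap B (B ⧸ 𝔄) (algebraMap A B a) = 0 :=
      Ideal.Quotient.eq_zero_iff_mem.mpr h1
    rw [h3, TrivSqZeroExt.inl_zero]
  -- continuity
  have hDsq : ∀ x ∈ 𝔄 * 𝔄, D'' x = 0 := by
    intro x hx
    refine Submodule.mul_induction_on hx ?_ ?_
    · intro y hy z hz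
      rw [Derivation.leibniz, ← hmk'', ← hmk'', Ideal.Quotient.eq_zero_iff_mem.mpr hy,
        Ideal.Quotient.eq_zero_iff_mem.mpr hz, zero_smul, zero_smul, add_zero]
    · intro y z hy hz
      rw [map_add, hy, hz, add_zero]
  have hcont : ∃ k : ℕ, ∀ x ∈ 𝔟 ^ k, u x = 0 := by
    refine ⟨n * 2, fun x hx => ?_⟩
    have hx' : x ∈ 𝔄 * 𝔄 := by
      have h2 : 𝔟 ^ (n * 2) ≤ 𝔄 * 𝔄 := by
        rw [pow_mul, pow_two]
        exact Ideal.mul_mono hn hn
      exact h2 hx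
    rw [hu, Ideal.Quotient.eq_zero_iff_mem, hJmem]
    refine ⟨?_, ?_⟩
    · rw [hgfst]
      exact Ideal.Quotient.eq_zero_iff_mem.mpr (Ideal.mul_le_right hx')
    · rw [hgsnd, hDsq x hx']
  obtain ⟨v, hv⟩ := h (TrivSqZeroExt (B ⧸ 𝔄) L) J hJnil hdisc u hcont
  have hvg : ∀ b, v b - g b ∈ J := by
    intro b
    rw [← Ideal.Quotient.eq]
    exact AlgHom.congr_fun hv b
  have hvfst : ∀ b, (v b).fst = Ideal.Quotient.mk 𝔄 b := by
    intro b
    have := (hvg b).1
    rw [TrivSqZeroExt.fst_sub, hgfst, sub_eq_zero] at this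
    exact this
  have hvsnd : ∀ b, π (v b).snd = D'' b := by
    intro b
    have := (hvg b).2
    rw [TrivSqZeroExt.snd_sub, map_sub, hgsnd, sub_eq_zero] at this
    exact this
  refine ⟨{ toFun := fun b => (v b).snd
            map_add' := fun b b' => by rw [map_add, TrivSqZeroExt.snd_add]
            map_smul' := fun a b => by
              rw [map_smul, TrivSqZeroExt.snd_smul, RingHom.id_apply]
            map_one_eq_zero' := by
              change (v 1).snd = 0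
              rw [map_one, TrivSqZeroExt.snd_one]
            leibniz' := fun b b' => by
              change (v (b * b')).snd = b • (v b').snd + b' • (v b).snd
              rw [map_mul, TrivSqZeroExt.snd_mul, hvfst, hvfst, op_smul_eq_smul, hmk, hmk] }, ?_⟩
  intro b
  exact hvsnd b

/-- EGA 0_IV 20.4.9: for `B` formally smooth over `A` (adic topologies) and an open ideal `𝔄` of `B`,
`(B/𝔄) ⊗_B Ω_{B/A}` is a projective `B/𝔄`-module. -/
theorem projective_tensor_kaehler_of_isFormallySmoothAdic (𝔞 : Ideal A) (𝔟 : Ideal B)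
    (hAB : ∃ k : ℕ, (𝔞 ^ k).map (algebraMap A B) ≤ 𝔟)
    (h : EGA41.IsFormallySmoothAdic A 𝔞 B 𝔟) (𝔄 : Ideal B) (h𝔄 : ∃ n : ℕ, 𝔟 ^ n ≤ 𝔄) :
    Module.Projective (B ⧸ 𝔄) ((B ⧸ 𝔄) ⊗[B] Ω[B⁄A]) := by
  rw [Module.projective_def']
  let D'' : Derivation A B ((B ⧸ 𝔄) ⊗[B] Ω[B⁄A]) :=
    (TensorProduct.mk B (B ⧸ 𝔄) Ω[B⁄A] 1).compDer (KaehlerDifferential.D A B)
  have hD'' : ∀ b, D'' b = (1 : B ⧸ 𝔄) ⊗ₜ[B] KaehlerDifferential.D A B b := fun _ => rfl
  obtain ⟨D, hD⟩ := exists_derivation_lift 𝔞 𝔟 hAB h 𝔄 h𝔄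
    (Finsupp.linearCombination (B ⧸ 𝔄) (id : (B ⧸ 𝔄) ⊗[B] Ω[B⁄A] → (B ⧸ 𝔄) ⊗[B] Ω[B⁄A]))
    (Finsupp.linearCombination_surjective _ Function.surjective_id) D''
  refine ⟨LinearMap.liftBaseChange (B ⧸ 𝔄) D.liftKaehlerDifferential, ?_⟩
  have key : ∀ ω : Ω[B⁄A],
      Finsupp.linearCombination (B ⧸ 𝔄) (id : (B ⧸ 𝔄) ⊗[B] Ω[B⁄A] → (B ⧸ 𝔄) ⊗[B] Ω[B⁄A])
        (D.liftKaehlerDifferential ω) = (1 : B ⧸ 𝔄) ⊗ₜ[B] ω := by
    intro ω
    have hs : ω ∈ Submodule.span B (Set.range (KaehlerDifferential.D A B)) := by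
      rw [KaehlerDifferential.span_range_derivation]; trivial
    induction hs using Submodule.span_induction with
    | mem x hx =>
      obtain ⟨b, rfl⟩ := hx
      rw [Derivation.liftKaehlerDifferential_comp_D, hD, hD'']
    | zero => simp
    | add x y _ _ hx hy => simp only [map_add, hx, hy, TensorProduct.tmul_add]
    | smul b x _ hx =>
      rw [map_smul, LinearMap.map_smul_of_tower, hx, TensorProduct.tmul_smul]
  ext b
  simpa using key (KaehlerDifferential.D A B b)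

end

end Groth.Agent.Lib.Helper5
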