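import Mathlib
import Groth.Agent.Lib.Helper5FSAdic
import Groth.Agent.Lib.Helper5NilFree
import Groth.Agent.Lib.Helper19FSAdicFormal

/-!
# Formal smoothness of a quotient of an adically formally smooth Noetherian algebra
(EGA 0_IV 22.6.1, discrete base; S12136) (helper19)
-/

set_option autoImplicit false
set_option linter.style.haveILetI false
set_option linter.unusedSectionVars false
universe u

namespace Groth.Agent.Lib.Helper19.FSQuot

open TensorProduct KaehlerDifferential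

section

variable {A B : Type u} [CommRing A] [CommRing B] [Algebra A B]

theorem exists_derivation_lift' (I : Ideal B)
    (hB : CAlgX.IsAdicFormallySmooth A B I) (𝔄 : Ideal B) (h𝔄 : ∃ n : ℕ, I ^ n ≤ 𝔄)
    {L L'' : Type u} [AddCommGroup L] [Module B L] [Module A L] [IsScalarTower A B L]
    [AddCommGroup L''] [Module B L''] [Module A L''] [IsScalarTower A B L'']
    (hL : ∀ a ∈ 𝔄, ∀ l : L, a • l = 0) (hL'' : ∀ a ∈ 𝔄, ∀ l : L'', a • l = 0)
    (π : L →ₗ[B] L'') (hπ : Function.Surjective π) (D'' : Derivation A B L'') :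
    ∃ D : Derivation A B L, ∀ b, π (D b) = D'' b := by
  have hB' : EGA41.IsFormallySmoothAdic A ⊥ B I :=
    (isAdicFormallySmooth_iff_isFormallySmoothAdic_bot I).1 hB
  have tL : Module.IsTorsionBySet B L 𝔄 := fun x a => hL a.1 a.2 x
  have tL'' : Module.IsTorsionBySet B L'' 𝔄 := fun x a => hL'' a.1 a.2 x
  letI := tL.module
  letI := tL''.module
  haveI : IsScalarTower B (B ⧸ 𝔄) L := tL.isScalarTower
  haveI : IsScalarTower B (B ⧸ 𝔄) L'' := tL''.isScalarTower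
  exact Groth.Agent.Lib.Helper5.exists_derivation_lift ⊥ I ⟨1, by simp⟩ hB' 𝔄 h𝔄
    (π.extendScalarsOfSurjective
      (show Function.Surjective (algebraMap B (B ⧸ 𝔄)) from Ideal.Quotient.mk_surjective)) hπ D''


/-- **lifting a retraction of the conormal map along a nilpotent thickening** (derivation form) -/
theorem exists_derivation_retraction_lift [IsNoetherianRing B] (I : Ideal B)
    (hB : CAlgX.IsAdicFormallySmooth A B I) (𝔎 𝔄 : Ideal B) (h𝔄 : ∃ n : ℕ, I ^ n ≤ 𝔄)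
    (R' : Type u) [CommRing R'] [Algebra B R'] [Algebra A R'] [IsScalarTower A B R']
    (hsurj : Function.Surjective (algebraMap B R'))
    (hle : 𝔄 ≤ RingHom.ker (algebraMap B R'))
    (hnil : ∃ m : ℕ, RingHom.ker (algebraMap B R') ^ m ≤ 𝔄)
    (D' : Derivation A B (R' ⊗[B] 𝔎.Cotangent))
    (hD' : ∀ x : 𝔎, D' x = (1 : R') ⊗ₜ[B] 𝔎.toCotangent x) :
    ∃ D : Derivation A B ((B ⧸ 𝔄) ⊗[B] 𝔎.Cotangent),
      ∀ x : 𝔎, D x = (1 : B ⧸ 𝔄) ⊗ₜ[B] 𝔎.toCotangent x := by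
  classical
  let gR : B ⧸ 𝔄 →ₐ[B] R' := Ideal.Quotient.liftₐ 𝔄 (Algebra.ofId B R') (fun a ha => hle ha)
  have hgR : ∀ b : B, gR (Ideal.Quotient.mk 𝔄 b) = algebraMap B R' b := fun b => rfl
  have hgRs : Function.Surjective gR := by
    intro r
    obtain ⟨b, rfl⟩ := hsurj r
    exact ⟨Ideal.Quotient.mk 𝔄 b, hgR b⟩
  let π : (B ⧸ 𝔄) ⊗[B] 𝔎.Cotangent →ₗ[B] R' ⊗[B] 𝔎.Cotangent :=
    LinearMap.rTensor 𝔎.Cotangent gR.toLinearMap
  have hπ : Function.Surjective π := LinearMap.rTensor_surjective _ hgRs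
  have hπ1 : ∀ c : 𝔎.Cotangent, π ((1 : B ⧸ 𝔄) ⊗ₜ[B] c) = (1 : R') ⊗ₜ[B] c := by
    intro c
    change (gR 1) ⊗ₜ[B] c = _
    rw [map_one]
  -- torsion
  have hL : ∀ a ∈ 𝔄, ∀ l : (B ⧸ 𝔄) ⊗[B] 𝔎.Cotangent, a • l = 0 := by
    intro a ha l
    induction l using TensorProduct.induction_on with
    | zero => rw [smul_zero]
    | add x y hx hy => rw [smul_add, hx, hy, add_zero]
    | tmul r c =>
      rw [TensorProduct.smul_tmul', Algebra.smul_def, Ideal.Quotient.algebraMap_eq,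
        Ideal.Quotient.eq_zero_iff_mem.2 ha, zero_mul, TensorProduct.zero_tmul]
  have hL'' : ∀ a ∈ 𝔄, ∀ l : R' ⊗[B] 𝔎.Cotangent, a • l = 0 := by
    intro a ha l
    induction l using TensorProduct.induction_on with
    | zero => rw [smul_zero]
    | add x y hx hy => rw [smul_add, hx, hy, add_zero]
    | tmul r c =>
      rw [TensorProduct.smul_tmul', Algebra.smul_def, (RingHom.mem_ker).1 (hle ha), zero_mul,
        TensorProduct.zero_tmul]
  have hK : ∀ x ∈ 𝔎, ∀ l : (B ⧸ 𝔄) ⊗[B] 𝔎.Cotangent, x • l = 0 := by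
    intro x hx l
    induction l using TensorProduct.induction_on with
    | zero => rw [smul_zero]
    | add x y hx hy => rw [smul_add, hx, hy, add_zero]
    | tmul r c =>
      rw [TensorProduct.smul_tmul', TensorProduct.smul_tmul, Ideal.Cotangent.smul_eq_zero_of_mem hx,
        TensorProduct.tmul_zero]
  obtain ⟨D₁, hD₁⟩ := exists_derivation_lift' I hB 𝔄 h𝔄 hL hL'' π hπ D'
  -- the endomorphism
  let f₀ : 𝔎 →ₗ[B] (B ⧸ 𝔄) ⊗[B] 𝔎.Cotangent :=
    { toFun := fun x => D₁ x.1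
      map_add' := fun x y => by rw [Submodule.coe_add, map_add]
      map_smul' := fun b x => by
        rw [RingHom.id_apply, Submodule.coe_smul, smul_eq_mul, Derivation.leibniz,
          hK x.1 x.2, add_zero] }
  let θ₀ : 𝔎.Cotangent →ₗ[B] (B ⧸ 𝔄) ⊗[B] 𝔎.Cotangent :=
    Ideal.Cotangent.lift f₀ (fun x y => by
      change D₁ (x.1 * y.1) = 0
      rw [Derivation.leibniz, hK x.1 x.2, hK y.1 y.2, add_zero])
  have hθ₀ : ∀ x : 𝔎, θ₀ (𝔎.toCotangent x) = D₁ x := fun x => rfl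
  let θ : (B ⧸ 𝔄) ⊗[B] 𝔎.Cotangent →ₗ[B ⧸ 𝔄] (B ⧸ 𝔄) ⊗[B] 𝔎.Cotangent :=
    LinearMap.liftBaseChange (B ⧸ 𝔄) θ₀
  have hθ1 : ∀ x : 𝔎, θ ((1 : B ⧸ 𝔄) ⊗ₜ[B] 𝔎.toCotangent x) = D₁ x := by
    intro x
    rw [LinearMap.liftBaseChange_tmul, one_smul, hθ₀]
  -- π θ = π
  have hπθ : ∀ y, π (θ y) = π y := by
    intro y
    induction y using TensorProduct.induction_on with
    | zero => rw [map_zero, map_zero]
    | add x y hx hy => rw [map_add, map_add, hx, hy, map_add]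
    | tmul r c =>
      obtain ⟨x, rfl⟩ := 𝔎.toCotangent_surjective c
      obtain ⟨b, rfl⟩ := Ideal.Quotient.mk_surjective r
      have h1 : (Ideal.Quotient.mk 𝔄 b) ⊗ₜ[B] 𝔎.toCotangent x =
          b • ((1 : B ⧸ 𝔄) ⊗ₜ[B] 𝔎.toCotangent x) := by
        rw [TensorProduct.smul_tmul', Algebra.smul_def, mul_one, Ideal.Quotient.algebraMap_eq]
      rw [h1, LinearMap.map_smul_of_tower, map_smul, map_smul, hθ1, hD₁, hD', hπ1]
  -- the nilpotent ideal
  let 𝔮 : Ideal (B ⧸ 𝔄) := (RingHom.ker (algebraMap B R')).map (Ideal.Quotient.mk 𝔄)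
  have h𝔮 : IsNilpotent 𝔮 := by
    obtain ⟨m, hm⟩ := hnil
    refine ⟨m, ?_⟩
    rw [Ideal.zero_eq_bot, eq_bot_iff, ← Ideal.map_pow]
    exact (Ideal.map_mono hm).trans (by rw [Ideal.map_quotient_self])
  have hker : ∀ y, π y = 0 → y ∈ 𝔮 • (⊤ : Submodule (B ⧸ 𝔄) ((B ⧸ 𝔄) ⊗[B] 𝔎.Cotangent)) := by
    intro y hy
    have hex := rTensor_exact 𝔎.Cotangent (LinearMap.exact_subtype_ker_map gR.toLinearMap) hgRs
    obtain ⟨z, rfl⟩ := (hex y).1 hy
    clear hy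
    induction z using TensorProduct.induction_on with
    | zero => rw [map_zero]; exact Submodule.zero_mem _
    | add x y hx hy => rw [map_add]; exact Submodule.add_mem _ hx hy
    | tmul a c =>
      rw [LinearMap.rTensor_tmul, Submodule.subtype_apply]
      have ha : a.1 ∈ 𝔮 := by
        obtain ⟨b, hb⟩ := Ideal.Quotient.mk_surjective a.1
        have h0 : gR a.1 = 0 := a.2
        rw [← hb, hgR] at h0
        rw [← hb]
        exact Ideal.mem_map_of_mem _ h0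
      have : a.1 ⊗ₜ[B] c = a.1 • ((1 : B ⧸ 𝔄) ⊗ₜ[B] c) := by
        rw [TensorProduct.smul_tmul', smul_eq_mul, mul_one]
      rw [this]
      exact Submodule.smul_mem_smul ha trivial
  have hθs : Function.Surjective θ := by
    rw [← LinearMap.range_eq_top]
    apply Groth.Agent.Lib.Helper5.eq_top_of_sup_smul_top_eq_top_of_isNilpotent h𝔮
    rw [eq_top_iff]
    intro y _
    have h1 : y - θ y ∈ 𝔮 • (⊤ : Submodule (B ⧸ 𝔄) ((B ⧸ 𝔄) ⊗[B] 𝔎.Cotangent)) :=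
      hker _ (by rw [map_sub, hπθ, sub_self])
    have h2 : y = θ y + (y - θ y) := by abel
    rw [h2]
    exact Submodule.add_mem_sup (LinearMap.mem_range_self θ y) h1
  haveI : Module.Finite B 𝔎.Cotangent :=
    Module.Finite.of_surjective _ 𝔎.toCotangent_surjective
  have hθi : Function.Injective θ := OrzechProperty.injective_of_surjective_endomorphism θ hθs
  let e : ((B ⧸ 𝔄) ⊗[B] 𝔎.Cotangent) ≃ₗ[B ⧸ 𝔄] ((B ⧸ 𝔄) ⊗[B] 𝔎.Cotangent) :=
    LinearEquiv.ofBijective θ ⟨hθi, hθs⟩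
  refine ⟨(e.symm.toLinearMap.restrictScalars B).compDer D₁, fun x => ?_⟩
  change e.symm (D₁ x) = _
  rw [LinearEquiv.symm_apply_eq]
  exact (hθ1 x).symm

theorem sup_pow_le_sup_pow (J I : Ideal B) (k : ℕ) : (J ⊔ I) ^ k ≤ J ⊔ I ^ k := by
  induction k with
  | zero => simp
  | succ k ih =>
    rw [pow_succ]
    refine (Ideal.mul_mono_left ih).trans ?_
    rw [Ideal.mul_le]
    intro r hr s hs
    obtain ⟨j, hj, i', hi', rfl⟩ := Submodule.mem_sup.1 hr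
    obtain ⟨j', hj', i, hi, rfl⟩ := Submodule.mem_sup.1 hs
    have h1 : (j + i') * (j' + i) = (j * (j' + i) + i' * j') + i' * i := by ring
    rw [h1]
    refine Submodule.add_mem_sup (J.add_mem (J.mul_mem_right _ hj) (J.mul_mem_left _ hj')) ?_
    rw [pow_succ]
    exact Ideal.mul_mem_mul hi' hi

/-- **(⇐)**: a derivation retracting the conormal map modulo an ideal of definition gives formal
smoothness of the quotient -/
theorem isAdicFormallySmooth_quotient_of_derivation [IsNoetherianRing B] (I J : Ideal B)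
    (hB : CAlgX.IsAdicFormallySmooth A B I)
    (R' : Type u) [CommRing R'] [Algebra B R'] [Algebra A R'] [IsScalarTower A B R']
    (hsurj : Function.Surjective (algebraMap B R'))
    (hJ : J ≤ RingHom.ker (algebraMap B R'))
    (hI : ∃ n : ℕ, I ^ n ≤ RingHom.ker (algebraMap B R'))
    (hm : ∃ m : ℕ, RingHom.ker (algebraMap B R') ^ m ≤ J ⊔ I)
    (D' : Derivation A B (R' ⊗[B] J.Cotangent))
    (hD' : ∀ x : J, D' x = (1 : R') ⊗ₜ[B] J.toCotangent x) :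
    CAlgX.IsAdicFormallySmooth A (B ⧸ J) (I.map (Ideal.Quotient.mk J)) := by
  intro T _ _ N hN ψ hψ
  obtain ⟨k, hk⟩ := hψ
  obtain ⟨n₀, hn₀⟩ := hI
  obtain ⟨m, hm⟩ := hm
  let ψB : B →ₐ[A] T ⧸ N := ψ.comp (Ideal.Quotient.mkₐ A J)
  have hψB : ∀ x ∈ I ^ k, ψB x = 0 := by
    intro x hx
    apply hk
    rw [← Ideal.map_pow]
    exact Ideal.mem_map_of_mem _ hx
  obtain ⟨χ, hχ⟩ := hB T N hN ψB ⟨k, hψB⟩
  have hχmk : ∀ b, Ideal.Quotient.mk N (χ b) = ψ (Ideal.Quotient.mk J b) := fun b =>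
    congrArg (fun f : B →ₐ[A] T ⧸ N => f b) hχ
  letI : Algebra B T := χ.toRingHom.toAlgebra
  have halg : ∀ b, algebraMap B T b = χ b := fun b => rfl
  haveI : IsScalarTower A B T := IsScalarTower.of_algebraMap_eq (fun a => (χ.commutes a).symm)
  let k' := max k n₀
  let 𝔄 : Ideal B := J ⊔ I ^ k'
  have h𝔄open : ∃ n : ℕ, I ^ n ≤ 𝔄 := ⟨k', le_sup_right⟩
  have hle : 𝔄 ≤ RingHom.ker (algebraMap B R') :=
    sup_le hJ ((Ideal.pow_le_pow_right (le_max_right k n₀)).trans hn₀)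
  have hnil : ∃ m' : ℕ, RingHom.ker (algebraMap B R') ^ m' ≤ 𝔄 := by
    refine ⟨m * k', ?_⟩
    rw [pow_mul]
    exact (Ideal.pow_right_mono hm k').trans (sup_pow_le_sup_pow J I k')
  obtain ⟨D, hD⟩ := exists_derivation_retraction_lift I hB J 𝔄 h𝔄open R' hsurj hle hnil D' hD'
  -- `χ` maps `𝔄` into `N`
  have hχN : ∀ a ∈ 𝔄, χ a ∈ N := by
    intro a ha
    rw [← Ideal.Quotient.eq_zero_iff_mem, hχmk]
    obtain ⟨x, hx, y, hy, rfl⟩ := Submodule.mem_sup.1 ha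
    rw [map_add, Ideal.Quotient.eq_zero_iff_mem.2 hx, zero_add]
    apply hk
    rw [← Ideal.map_pow]
    exact Ideal.mem_map_of_mem _ (Ideal.pow_le_pow_right (le_max_left k n₀) hy)
  have hNN : ∀ s ∈ N, ∀ t ∈ N, s * t = 0 := by
    intro s hs t ht
    have : s * t ∈ N ^ 2 := by rw [pow_two]; exact Ideal.mul_mem_mul hs ht
    rwa [hN, Ideal.mem_bot] at this
  -- the linear map to `N`
  let φ₀ : J →ₗ[B] N :=
    { toFun := fun x => ⟨χ x.1, hχN _ (le_sup_left (a := J) x.2)⟩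
      map_add' := fun x y => Subtype.ext (by simp)
      map_smul' := fun b x => Subtype.ext (by
        simp only [Submodule.coe_smul, smul_eq_mul, map_mul, RingHom.id_apply,
          Submodule.coe_smul_of_tower, Algebra.smul_def, halg]) }
  let φ₁ : J.Cotangent →ₗ[B] N := Ideal.Cotangent.lift φ₀ (fun x y => Subtype.ext (by
    change χ (x.1 * y.1) = 0
    rw [map_mul]
    exact hNN _ (hχN _ (le_sup_left (a := J) x.2)) _ (hχN _ (le_sup_left (a := J) y.2))))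
  have hφ₁ : ∀ x : J, (φ₁ (J.toCotangent x) : T) = χ x := fun x => rfl
  have h𝔄φ : 𝔄 • (⊤ : Submodule B J.Cotangent) ≤ LinearMap.ker φ₁ := by
    rw [Submodule.smul_le]
    intro a ha c _
    rw [LinearMap.mem_ker, map_smul]
    apply Subtype.ext
    rw [Submodule.coe_smul_of_tower, Algebra.smul_def, halg]
    exact hNN _ (hχN a ha) _ (φ₁ c).2
  let φ : (B ⧸ 𝔄) ⊗[B] J.Cotangent →ₗ[B] N :=
    (Submodule.liftQ _ φ₁ h𝔄φ) ∘ₗ (TensorProduct.quotTensorEquivQuotSMul J.Cotangent 𝔄).toLinearMap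
  have hφ : ∀ x : J, (φ ((1 : B ⧸ 𝔄) ⊗ₜ[B] J.toCotangent x) : T) = χ x := by
    intro x
    change ((Submodule.liftQ _ φ₁ h𝔄φ)
      (TensorProduct.quotTensorEquivQuotSMul J.Cotangent 𝔄 (1 ⊗ₜ[B] J.toCotangent x)) : T) = _
    rw [TensorProduct.quotTensorEquivQuotSMul_mk_one_tmul, Submodule.liftQ_apply, hφ₁]
  let DN : Derivation A B N := φ.compDer D
  have hDN : ∀ x : J, (DN x : T) = χ x := by
    intro x
    change (φ (D x) : T) = _
    rw [hD, hφ]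
  let χ' : B →ₐ[A] T := liftOfDerivationToSquareZero N hN (-DN)
  have hχ' : ∀ b, χ' b = -(DN b : T) + χ b := fun b => rfl
  have hχ'J : ∀ x ∈ J, χ' x = 0 := by
    intro x hx
    rw [hχ', hDN ⟨x, hx⟩, neg_add_cancel]
  refine ⟨Ideal.Quotient.liftₐ J χ' hχ'J, ?_⟩
  ext c
  obtain ⟨b, rfl⟩ := Ideal.Quotient.mk_surjective c
  change Ideal.Quotient.mk N (χ' b) = ψ (Ideal.Quotient.mk J b)
  rw [hχ', map_add, map_neg, Ideal.Quotient.eq_zero_iff_mem.2 (DN b).2, neg_zero, zero_add, hχmk]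

/-- **(⇒)**: formal smoothness of the quotient gives a derivation retracting the conormal map
modulo any open ideal (Artin–Rees) -/
theorem exists_derivation_of_isAdicFormallySmooth_quotient [IsNoetherianRing B] (I J : Ideal B)
    (R' : Type u) [CommRing R'] [Algebra B R'] [Algebra A R'] [IsScalarTower A B R']
    (hJ : J ≤ RingHom.ker (algebraMap B R'))
    (hI : ∃ n : ℕ, I ^ n ≤ RingHom.ker (algebraMap B R'))
    (hC : CAlgX.IsAdicFormallySmooth A (B ⧸ J) (I.map (Ideal.Quotient.mk J))) :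
    ∃ D' : Derivation A B (R' ⊗[B] J.Cotangent),
      ∀ x : J, D' x = (1 : R') ⊗ₜ[B] J.toCotangent x := by
  obtain ⟨n₀, hn₀⟩ := hI
  set 𝔄' : Ideal B := RingHom.ker (algebraMap B R') with h𝔄'
  obtain ⟨c, hc⟩ := Ideal.exists_pow_inf_eq_pow_smul 𝔄' (J : Submodule B B)
  let 𝔗 : Ideal B := 𝔄' * J ⊔ 𝔄' ^ (c + 1)
  have hAJ : 𝔄' * J ≤ J := Ideal.mul_le_right
  -- Artin–Rees
  have hAR : ∀ x ∈ J, x ∈ 𝔗 → x ∈ 𝔄' * J := by
    intro x hxJ hx𝔗
    obtain ⟨y, hy, z, hz, rfl⟩ := Submodule.mem_sup.1 hx𝔗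
    have hzJ : z ∈ J := by
      have := J.sub_mem hxJ (hAJ hy)
      rwa [add_sub_cancel_left] at this
    have h1 : z ∈ (𝔄' ^ (c + 1) • (⊤ : Submodule B B) ⊓ (J : Submodule B B)) := by
      refine ⟨?_, hzJ⟩
      rw [Ideal.smul_top_eq_map]
      simpa using hz
    rw [hc (c + 1) (Nat.le_succ c), Nat.add_sub_cancel_left, pow_one] at h1
    have h2 : 𝔄' • (𝔄' ^ c • (⊤ : Submodule B B) ⊓ (J : Submodule B B)) ≤ 𝔄' • (J : Submodule B B) :=
      Submodule.smul_mono le_rfl inf_le_right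
    exact Ideal.add_mem _ hy (h2 h1)
  let N : Ideal (B ⧸ 𝔗) := J.map (Ideal.Quotient.mk 𝔗)
  have hN : N ^ 2 = ⊥ := by
    rw [eq_bot_iff, ← Ideal.map_pow, ← Ideal.map_quotient_self 𝔗]
    apply Ideal.map_mono
    rw [pow_two]
    exact (Ideal.mul_mono_left hJ).trans le_sup_left
  let ψ₀ : B →ₐ[A] (B ⧸ 𝔗) ⧸ N := (Ideal.Quotient.mkₐ A N).comp (Ideal.Quotient.mkₐ A 𝔗)
  let ψ : B ⧸ J →ₐ[A] (B ⧸ 𝔗) ⧸ N := Ideal.Quotient.liftₐ J ψ₀ (fun x hx =>
    Ideal.Quotient.eq_zero_iff_mem.2 (Ideal.mem_map_of_mem _ hx))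
  have hψ : ∃ k : ℕ, ∀ y ∈ (I.map (Ideal.Quotient.mk J)) ^ k, ψ y = 0 := by
    refine ⟨n₀ * (c + 1), ?_⟩
    have hle : (I.map (Ideal.Quotient.mk J)) ^ (n₀ * (c + 1)) ≤ RingHom.ker ψ.toRingHom := by
      rw [← Ideal.map_pow, Ideal.map_le_iff_le_comap]
      intro x hx
      rw [Ideal.mem_comap, RingHom.mem_ker]
      change Ideal.Quotient.mk N (Ideal.Quotient.mk 𝔗 x) = 0
      have hx𝔗 : x ∈ 𝔗 := by
        rw [pow_mul] at hx
        exact le_sup_right (a := 𝔄' * J) (Ideal.pow_right_mono hn₀ (c + 1) hx)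
      rw [Ideal.Quotient.eq_zero_iff_mem.2 hx𝔗, map_zero]
    exact fun y hy => hle hy
  obtain ⟨χ, hχ⟩ := hC (B ⧸ 𝔗) N hN ψ hψ
  let f₂ : B →ₐ[A] B ⧸ 𝔗 := χ.comp (Ideal.Quotient.mkₐ A J)
  have e : (Ideal.Quotient.mkₐ A N).comp f₂ = IsScalarTower.toAlgHom A B ((B ⧸ 𝔗) ⧸ N) := by
    ext b
    exact congrArg (fun f : B ⧸ J →ₐ[A] (B ⧸ 𝔗) ⧸ N => f (Ideal.Quotient.mk J b)) hχ
  let D₀ : Derivation A B N := derivationToSquareZeroOfLift N hN f₂ e
  have hD₀ : ∀ x ∈ J, (D₀ x : B ⧸ 𝔗) = -Ideal.Quotient.mk 𝔗 x := by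
    intro x hx
    change f₂ x - algebraMap B (B ⧸ 𝔗) x = _
    have : f₂ x = 0 := by
      change χ (Ideal.Quotient.mk J x) = 0
      rw [Ideal.Quotient.eq_zero_iff_mem.2 hx, map_zero]
    rw [this, zero_sub]
    rfl
  -- the linear map from `N`
  let g₀ : J →ₗ[B] N :=
    { toFun := fun x => ⟨Ideal.Quotient.mk 𝔗 x.1, Ideal.mem_map_of_mem _ x.2⟩
      map_add' := fun x y => Subtype.ext (by simp)
      map_smul' := fun b x => Subtype.ext (by
        simp only [Submodule.coe_smul, smul_eq_mul, map_mul, RingHom.id_apply,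
          Submodule.coe_smul_of_tower, Algebra.smul_def, Ideal.Quotient.algebraMap_eq]) }
  have hg₀ : Function.Surjective g₀ := by
    rintro ⟨t, ht⟩
    obtain ⟨x, hx, rfl⟩ := (Ideal.mem_map_iff_of_surjective _ Ideal.Quotient.mk_surjective).1 ht
    exact ⟨⟨x, hx⟩, rfl⟩
  let l₀ : J →ₗ[B] R' ⊗[B] J.Cotangent := (TensorProduct.mk B R' J.Cotangent 1) ∘ₗ J.toCotangent
  have hl₀ : ∀ x : J, l₀ x = (1 : R') ⊗ₜ[B] J.toCotangent x := fun x => rfl
  have hkill : 𝔄' * J ≤ (LinearMap.ker l₀).map J.subtype := by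
    rw [Ideal.mul_le]
    intro a ha y hy
    refine ⟨a • ⟨y, hy⟩, ?_, rfl⟩
    rw [SetLike.mem_coe, LinearMap.mem_ker, map_smul, hl₀, TensorProduct.smul_tmul',
      Algebra.smul_def, (RingHom.mem_ker).1 ha, zero_mul, TensorProduct.zero_tmul]
  have hker : LinearMap.ker g₀ ≤ LinearMap.ker l₀ := by
    intro x hx
    have h1 : Ideal.Quotient.mk 𝔗 x.1 = 0 := congrArg Subtype.val (LinearMap.mem_ker.1 hx)
    have h2 : x.1 ∈ 𝔄' * J := hAR x.1 x.2 (Ideal.Quotient.eq_zero_iff_mem.1 h1)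
    obtain ⟨x', hx', hxx'⟩ := hkill h2
    have : x' = x := Subtype.ext hxx'
    rw [← this]
    exact hx'
  let l : N →ₗ[B] R' ⊗[B] J.Cotangent :=
    (Submodule.liftQ _ l₀ hker) ∘ₗ (g₀.quotKerEquivOfSurjective hg₀).symm.toLinearMap
  have hl : ∀ x : J, l (g₀ x) = (1 : R') ⊗ₜ[B] J.toCotangent x := by
    intro x
    change (Submodule.liftQ _ l₀ hker) ((g₀.quotKerEquivOfSurjective hg₀).symm (g₀ x)) = _
    rw [LinearMap.quotKerEquivOfSurjective_symm_apply, Submodule.liftQ_apply, hl₀]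
  refine ⟨(-l).compDer D₀, fun x => ?_⟩
  change (-l) (D₀ x) = _
  have : D₀ x = -g₀ x := Subtype.ext (hD₀ x.1 x.2)
  rw [this, LinearMap.neg_apply, map_neg, neg_neg, hl]

/-- interface: a retraction of the base-changed conormal map is the same as a derivation -/
theorem exists_retraction_iff_exists_derivation (J : Ideal B) (R' : Type u) [CommRing R']
    [Algebra (B ⧸ J) R'] [Algebra B R'] [IsScalarTower B (B ⧸ J) R'] [Algebra A R']
    [IsScalarTower A B R'] :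
    (∃ g : R' ⊗[B] ((B ⧸ J) ⊗[B] Ω[B⁄A]) →ₗ[R']
          R' ⊗[B] (RingHom.ker (algebraMap B (B ⧸ J))).Cotangent,
        g ∘ₗ LinearMap.baseChange R' (KaehlerDifferential.kerCotangentToTensor A B (B ⧸ J)) =
          LinearMap.id) ↔
    ∃ D' : Derivation A B (R' ⊗[B] J.Cotangent),
      ∀ x : J, D' x = (1 : R') ⊗ₜ[B] J.toCotangent x := by
  have h𝔎 : RingHom.ker (algebraMap B (B ⧸ J)) = J := by
    rw [Ideal.Quotient.algebraMap_eq, Ideal.mk_ker]
  let ε := Ideal.Cotangent.equivOfEq (RingHom.ker (algebraMap B (B ⧸ J))) J h𝔎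
  let E := LinearMap.baseChange R' ε.toLinearMap
  let E' := LinearMap.baseChange R' ε.symm.toLinearMap
  have hKJ : ∀ {x : B}, x ∈ RingHom.ker (algebraMap B (B ⧸ J)) → x ∈ J := fun hx => by
    rwa [h𝔎] at hx
  have hJK : ∀ {x : B}, x ∈ J → x ∈ RingHom.ker (algebraMap B (B ⧸ J)) := fun hx => by
    rwa [h𝔎]
  have hE : ∀ (r : R') (x : RingHom.ker (algebraMap B (B ⧸ J))),
      E (r ⊗ₜ[B] (RingHom.ker (algebraMap B (B ⧸ J))).toCotangent x) =
        r ⊗ₜ[B] J.toCotangent ⟨x.1, hKJ x.2⟩ := fun r x => rfl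
  have hE' : ∀ (r : R') (x : J),
      E' (r ⊗ₜ[B] J.toCotangent x) =
        r ⊗ₜ[B] (RingHom.ker (algebraMap B (B ⧸ J))).toCotangent ⟨x.1, hJK x.2⟩ :=
    fun r x => rfl
  constructor
  · rintro ⟨g, hg⟩
    let l : Ω[B⁄A] →ₗ[B] R' ⊗[B] J.Cotangent :=
      (E.restrictScalars B) ∘ₗ (g.restrictScalars B) ∘ₗ
        (TensorProduct.mk B R' ((B ⧸ J) ⊗[B] Ω[B⁄A]) 1) ∘ₗ (TensorProduct.mk B (B ⧸ J) Ω[B⁄A] 1)
    refine ⟨l.compDer (KaehlerDifferential.D A B), fun x => ?_⟩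
    change E (g ((1 : R') ⊗ₜ[B] ((1 : B ⧸ J) ⊗ₜ[B] KaehlerDifferential.D A B x.1))) = _
    have h1 : (1 : R') ⊗ₜ[B] ((1 : B ⧸ J) ⊗ₜ[B] KaehlerDifferential.D A B x.1) =
        LinearMap.baseChange R' (KaehlerDifferential.kerCotangentToTensor A B (B ⧸ J))
          ((1 : R') ⊗ₜ[B] (RingHom.ker (algebraMap B (B ⧸ J))).toCotangent
            ⟨x.1, hJK x.2⟩) := rfl
    have h2 := LinearMap.congr_fun hg ((1 : R') ⊗ₜ[B]
      (RingHom.ker (algebraMap B (B ⧸ J))).toCotangent ⟨x.1, hJK x.2⟩)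
    rw [LinearMap.comp_apply, LinearMap.id_apply] at h2
    rw [h1, h2, hE]
  · rintro ⟨D', hD'⟩
    let l : Ω[B⁄A] →ₗ[B] R' ⊗[B] J.Cotangent := D'.liftKaehlerDifferential
    let lC : (B ⧸ J) ⊗[B] Ω[B⁄A] →ₗ[B ⧸ J] R' ⊗[B] J.Cotangent :=
      LinearMap.liftBaseChange (B ⧸ J) l
    let g₁ : R' ⊗[B] ((B ⧸ J) ⊗[B] Ω[B⁄A]) →ₗ[R'] R' ⊗[B] J.Cotangent :=
      LinearMap.liftBaseChange R' (lC.restrictScalars B)
    refine ⟨E' ∘ₗ g₁, ?_⟩
    apply LinearMap.ext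
    intro y
    induction y using TensorProduct.induction_on with
    | zero => rw [map_zero, map_zero]
    | add y z hy hz => rw [map_add, hy, hz, map_add]
    | tmul r c =>
      obtain ⟨x, rfl⟩ := (RingHom.ker (algebraMap B (B ⧸ J))).toCotangent_surjective c
      change E' (g₁ (r ⊗ₜ[B] (KaehlerDifferential.kerCotangentToTensor A B (B ⧸ J)
        ((RingHom.ker (algebraMap B (B ⧸ J))).toCotangent x)))) = _
      rw [KaehlerDifferential.kerCotangentToTensor_toCotangent, LinearMap.liftBaseChange_tmul,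
        LinearMap.coe_restrictScalars, LinearMap.liftBaseChange_tmul, one_smul,
        Derivation.liftKaehlerDifferential_comp_D, hD' ⟨x.1, hKJ x.2⟩,
        TensorProduct.smul_tmul', smul_eq_mul, mul_one, hE']
      rfl

/-- **EGA 0_IV 22.6.1 (Noetherian adic case, discrete base)** -/
theorem isAdicFormallySmooth_quotient_iff [IsNoetherianRing B] (I J : Ideal B)
    (hB : CAlgX.IsAdicFormallySmooth A B I)
    (Q : Ideal (B ⧸ J)) (hQ : ∃ n : ℕ, (I.map (Ideal.Quotient.mk J)) ^ n ≤ Q)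
    (hQ' : ∃ m : ℕ, Q ^ m ≤ I.map (Ideal.Quotient.mk J)) :
    CAlgX.IsAdicFormallySmooth A (B ⧸ J) (I.map (Ideal.Quotient.mk J)) ↔
      ∃ g : ((B ⧸ J) ⧸ Q) ⊗[B] ((B ⧸ J) ⊗[B] Ω[B⁄A]) →ₗ[(B ⧸ J) ⧸ Q]
          ((B ⧸ J) ⧸ Q) ⊗[B] (RingHom.ker (algebraMap B (B ⧸ J))).Cotangent,
        g ∘ₗ LinearMap.baseChange ((B ⧸ J) ⧸ Q)
          (KaehlerDifferential.kerCotangentToTensor A B (B ⧸ J)) = LinearMap.id := by
  rw [exists_retraction_iff_exists_derivation J ((B ⧸ J) ⧸ Q)]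
  have halg : ∀ b : B, algebraMap B ((B ⧸ J) ⧸ Q) b =
      Ideal.Quotient.mk Q (Ideal.Quotient.mk J b) := fun b => rfl
  have hmemker : ∀ b : B, b ∈ RingHom.ker (algebraMap B ((B ⧸ J) ⧸ Q)) ↔
      Ideal.Quotient.mk J b ∈ Q := by
    intro b
    rw [RingHom.mem_ker, halg, Ideal.Quotient.eq_zero_iff_mem]
  have hsurj : Function.Surjective (algebraMap B ((B ⧸ J) ⧸ Q)) := by
    intro r
    obtain ⟨c, rfl⟩ := Ideal.Quotient.mk_surjective r
    obtain ⟨b, rfl⟩ := Ideal.Quotient.mk_surjective c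
    exact ⟨b, rfl⟩
  have hJ : J ≤ RingHom.ker (algebraMap B ((B ⧸ J) ⧸ Q)) := by
    intro x hx
    rw [hmemker, Ideal.Quotient.eq_zero_iff_mem.2 hx]
    exact Q.zero_mem
  have hI : ∃ n : ℕ, I ^ n ≤ RingHom.ker (algebraMap B ((B ⧸ J) ⧸ Q)) := by
    obtain ⟨n, hn⟩ := hQ
    refine ⟨n, fun x hx => ?_⟩
    rw [hmemker]
    apply hn
    rw [← Ideal.map_pow]
    exact Ideal.mem_map_of_mem _ hx
  have hm : ∃ m : ℕ, RingHom.ker (algebraMap B ((B ⧸ J) ⧸ Q)) ^ m ≤ J ⊔ I := by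
    obtain ⟨m, hm⟩ := hQ'
    refine ⟨m, fun x hx => ?_⟩
    have h1 : Ideal.Quotient.mk J x ∈ Q ^ m := by
      have h2 : (RingHom.ker (algebraMap B ((B ⧸ J) ⧸ Q))).map (Ideal.Quotient.mk J) ≤ Q := by
        rw [Ideal.map_le_iff_le_comap]
        intro y hy
        exact (hmemker y).1 hy
      have h3 := Ideal.mem_map_of_mem (Ideal.Quotient.mk J) hx
      rw [Ideal.map_pow] at h3
      exact Ideal.pow_right_mono h2 m h3
    have h4 := hm h1
    rw [Ideal.mem_quotient_iff_mem_sup] at h4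
    rwa [sup_comm]
  constructor
  · intro hC
    exact exists_derivation_of_isAdicFormallySmooth_quotient I J _ hJ hI hC
  · rintro ⟨D', hD'⟩
    exact isAdicFormallySmooth_quotient_of_derivation I J hB _ hsurj hJ hI hm D' hD'

end

end Groth.Agent.Lib.Helper19.FSQuot
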