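import Mathlib
import Groth.Agent.Lib.Helper19ArtTestD
import Groth.Agent.Lib.Helper19FSQuot

/-!
# Smoothness at a prime tested on small extensions of Artinian local algebras (S2060) (helper19)
-/

set_option autoImplicit false
set_option linter.style.haveILetI false
set_option linter.unusedSectionVars false
universe u

namespace Groth.Agent.Lib.Helper19.ArtTest

open IsLocalRing TensorProduct KaehlerDifferential

/-- `K ⊗ J → K ⊗ J/J²` is injective if `J` maps to zero in `K`. -/
theorem injective_baseChange_toCotangent {B : Type*} [CommRing B] (J : Ideal B) (K : Type*)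
    [CommRing K] [Algebra B K] (hJK : J ≤ RingHom.ker (algebraMap B K)) :
    Function.Injective (LinearMap.baseChange K J.toCotangent) := by
  have hex : Function.Exact (Submodule.subtype (J • ⊤ : Submodule B J)) J.toCotangent :=
    LinearMap.exact_subtype_mkQ _
  have hsurj : Function.Surjective J.toCotangent := Submodule.mkQ_surjective _
  have hex' := lTensor_exact K hex hsurj
  have hzero : ∀ z ∈ (J • ⊤ : Submodule B J), ∀ k : K, k ⊗ₜ[B] z = 0 := by
    intro z hz
    refine Submodule.smul_induction_on hz ?_ ?_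
    · intro a ha w _ k
      rw [← TensorProduct.smul_tmul, Algebra.smul_def, RingHom.mem_ker.1 (hJK ha), zero_mul,
        TensorProduct.zero_tmul]
    · intro x y hx hy k
      rw [TensorProduct.tmul_add, hx, hy, add_zero]
  have hmap0 : ∀ y, LinearMap.lTensor K (Submodule.subtype (J • ⊤ : Submodule B J)) y = 0 := by
    intro y
    induction y with
    | zero => simp
    | tmul k z =>
      rw [LinearMap.lTensor_tmul]
      exact hzero _ z.2 k
    | add x y hx hy => rw [map_add, hx, hy, add_zero]
  rw [injective_iff_map_eq_zero]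
  intro x hx
  have hx' : LinearMap.lTensor K J.toCotangent x = 0 := by
    rw [← LinearMap.baseChange_eq_ltensor]
    exact hx
  obtain ⟨y, rfl⟩ := (hex' x).1 hx'
  exact hmap0 y

/-- transport of adic formal smoothness along an isomorphism -/
theorem isAdicFormallySmooth_of_algEquiv {R S S' : Type u} [CommRing R] [CommRing S] [CommRing S']
    [Algebra R S] [Algebra R S'] (e : S ≃ₐ[R] S') (𝔫 : Ideal S) (𝔫' : Ideal S')
    (h𝔫 : ∀ y ∈ 𝔫', e.symm y ∈ 𝔫) (h : CAlgX.IsAdicFormallySmooth R S' 𝔫') :
    CAlgX.IsAdicFormallySmooth R S 𝔫 := by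
  intro A _ _ J hJ ψ hψ
  obtain ⟨k, hk⟩ := hψ
  have hle : (𝔫' ^ k).map e.symm.toAlgHom.toRingHom ≤ 𝔫 ^ k := by
    rw [Ideal.map_pow]
    refine Ideal.pow_right_mono ?_ k
    rw [Ideal.map_le_iff_le_comap]
    intro x hx
    exact h𝔫 x hx
  obtain ⟨χ, hχ⟩ := h A J hJ (ψ.comp e.symm.toAlgHom) ⟨k, fun x hx => by
    rw [AlgHom.comp_apply]
    exact hk _ (hle (Ideal.mem_map_of_mem _ hx))⟩
  refine ⟨χ.comp e.toAlgHom, ?_⟩
  ext x
  have := AlgHom.congr_fun hχ (e x)
  simpa using this

/-- **Adic formal smoothness implies formal smoothness** for a local quotient of a Noetherian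
formally smooth algebra with finite free differentials (Jacobian criterion). -/
theorem formallySmooth_quotient_of_isAdicFormallySmooth {R B : Type u} [CommRing R] [CommRing B]
    [Algebra R B] [IsNoetherianRing B] [Algebra.FormallySmooth R B] [Module.Free B Ω[B⁄R]]
    [Module.Finite B Ω[B⁄R]] (J : Ideal B) [IsLocalRing (B ⧸ J)]
    (hC : CAlgX.IsAdicFormallySmooth R (B ⧸ J) (maximalIdeal (B ⧸ J))) :
    Algebra.FormallySmooth R (B ⧸ J) := by
  have h₁ : Function.Surjective (algebraMap B (B ⧸ J)) := Ideal.Quotient.mk_surjective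
  have h₂ : (RingHom.ker (algebraMap B (B ⧸ J))).FG := IsNoetherian.noetherian _
  rw [Algebra.FormallySmooth.iff_injective_cotangentComplexBaseChange_residueField (P := B) h₁ h₂]
  let K := ResidueField (B ⧸ J)
  let I : Ideal B := (maximalIdeal (B ⧸ J)).comap (Ideal.Quotient.mk J)
  have hImap : I.map (Ideal.Quotient.mk J) = maximalIdeal (B ⧸ J) :=
    Ideal.map_comap_of_surjective _ Ideal.Quotient.mk_surjective _
  have halg : ∀ b : B, algebraMap B K b = residue (B ⧸ J) (Ideal.Quotient.mk J b) := fun b => rfl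
  have hJ : J ≤ RingHom.ker (algebraMap B K) := by
    intro x hx
    rw [RingHom.mem_ker, halg, Ideal.Quotient.eq_zero_iff_mem.2 hx, map_zero]
  have hI : ∃ n : ℕ, I ^ n ≤ RingHom.ker (algebraMap B K) := by
    refine ⟨1, ?_⟩
    rw [pow_one]
    intro x hx
    rw [RingHom.mem_ker, halg, residue_eq_zero_iff]
    exact hx
  rw [← hImap] at hC
  obtain ⟨D', hD'⟩ := FSQuot.exists_derivation_of_isAdicFormallySmooth_quotient (A := R) I J K
    hJ hI hC
  let ℓ : K ⊗[B] Ω[B⁄R] →ₗ[K] K ⊗[B] J.Cotangent :=
    LinearMap.liftBaseChange K D'.liftKaehlerDifferential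
  have hker : RingHom.ker (algebraMap B (B ⧸ J)) = J := by
    rw [Ideal.Quotient.algebraMap_eq, Ideal.mk_ker]
  let ε : RingHom.ker (algebraMap B (B ⧸ J)) ≃ₗ[B] J := LinearEquiv.ofEq _ _ hker
  have hεinj : Function.Injective (LinearMap.baseChange K ε.toLinearMap) := by
    have h1 : (LinearMap.baseChange K ε.symm.toLinearMap) ∘ₗ
        (LinearMap.baseChange K ε.toLinearMap) = LinearMap.id := by
      rw [← LinearMap.baseChange_comp]
      simp
    exact Function.LeftInverse.injective (LinearMap.congr_fun h1)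
  have hcomp : ∀ x, ℓ (cotangentComplexBaseChange R (B ⧸ J) B K x) =
      LinearMap.baseChange K J.toCotangent (LinearMap.baseChange K ε.toLinearMap x) := by
    intro x
    induction x with
    | zero => simp
    | tmul a b =>
      rw [cotangentComplexBaseChange_tmul, map_smul, kerToTensor_apply]
      simp only [ℓ, LinearMap.liftBaseChange_tmul, one_smul,
        Derivation.liftKaehlerDifferential_comp_D, LinearMap.baseChange_tmul]
      have hb : (b : B) ∈ J := hker.le b.2
      rw [hD' ⟨b, hb⟩, TensorProduct.smul_tmul', smul_eq_mul, mul_one]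
      rfl
    | add x y hx hy => rw [map_add, map_add, hx, hy, map_add, map_add]
  rw [injective_iff_map_eq_zero]
  intro x hx
  have h1 := hcomp x
  rw [hx, map_zero] at h1
  exact hεinj ((injective_baseChange_toCotangent J K hJ) (h1.symm.trans (by simp)))

section S2060

variable {R S : Type u} [CommRing R] [IsNoetherianRing R] [CommRing S] [Algebra R S]
  [Algebra.FiniteType R S] (q : Ideal S) [q.IsPrime]

/-- adic formal smoothness of a local ring of a finite type algebra over a Noetherian ring implies
formal smoothness (discrete topologies) -/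
theorem isSmoothAt_of_isAdicFormallySmooth
    (hadic : CAlgX.IsAdicFormallySmooth R (Localization.AtPrime q)
      (maximalIdeal (Localization.AtPrime q))) :
    Algebra.IsSmoothAt R q := by
  haveI : IsNoetherianRing S := Algebra.FiniteType.isNoetherianRing R S
  haveI : IsNoetherianRing (Localization.AtPrime q) :=
    IsLocalization.isNoetherianRing q.primeCompl _ inferInstance
  obtain ⟨n, f₀, hf₀⟩ := Algebra.FiniteType.iff_quotient_mvPolynomial''.mp
    (inferInstance : Algebra.FiniteType R S)
  let 𝔮 : Ideal (MvPolynomial (Fin n) R) := q.comap f₀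
  haveI : 𝔮.IsPrime := Ideal.comap_isPrime f₀ q
  have hunits : ∀ y : 𝔮.primeCompl,
      IsUnit (((IsScalarTower.toAlgHom R S (Localization.AtPrime q)).comp f₀) y) := by
    intro y
    exact IsLocalization.map_units (Localization.AtPrime q) (⟨f₀ y, y.2⟩ : q.primeCompl)
  let fP : Localization.AtPrime 𝔮 →ₐ[R] Localization.AtPrime q :=
    IsLocalization.liftAlgHom (M := 𝔮.primeCompl)
      (f := (IsScalarTower.toAlgHom R S (Localization.AtPrime q)).comp f₀) hunits
  have hfP : Function.Surjective fP := by
    intro x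
    obtain ⟨x, ⟨s, hs⟩, rfl⟩ := IsLocalization.exists_mk'_eq q.primeCompl x
    obtain ⟨x, rfl⟩ := hf₀ x
    obtain ⟨s, rfl⟩ := hf₀ s
    refine ⟨IsLocalization.mk' (M := 𝔮.primeCompl) _ x ⟨s, hs⟩, ?_⟩
    simp [fP, IsLocalization.lift_mk', Units.mul_inv_eq_iff_eq_mul, IsUnit.liftRight]
  haveI : Algebra.FormallyEtale (MvPolynomial (Fin n) R) (Localization.AtPrime 𝔮) :=
    .of_isLocalization 𝔮.primeCompl
  haveI : Algebra.FormallySmooth R (Localization.AtPrime 𝔮) := .comp _ (MvPolynomial (Fin n) R) _
  haveI : Module.Free (Localization.AtPrime 𝔮) Ω[Localization.AtPrime 𝔮⁄R] :=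
    .of_equiv (KaehlerDifferential.tensorKaehlerEquivOfFormallyEtale R (MvPolynomial (Fin n) R)
      (Localization.AtPrime 𝔮))
  haveI : Module.Finite (Localization.AtPrime 𝔮) Ω[Localization.AtPrime 𝔮⁄R] :=
    Module.Finite.equiv (KaehlerDifferential.tensorKaehlerEquivOfFormallyEtale R
      (MvPolynomial (Fin n) R) (Localization.AtPrime 𝔮))
  haveI : IsNoetherianRing (Localization.AtPrime 𝔮) :=
    IsLocalization.isNoetherianRing 𝔮.primeCompl _ inferInstance
  let J : Ideal (Localization.AtPrime 𝔮) := RingHom.ker fP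
  let e : (Localization.AtPrime 𝔮 ⧸ J) ≃ₐ[R] Localization.AtPrime q :=
    Ideal.quotientKerAlgEquivOfSurjective hfP
  haveI : Nontrivial (Localization.AtPrime 𝔮 ⧸ J) := e.toRingEquiv.toEquiv.nontrivial
  haveI : IsLocalRing (Localization.AtPrime 𝔮 ⧸ J) :=
    IsLocalRing.of_surjective' (Ideal.Quotient.mk J) Ideal.Quotient.mk_surjective
  have h2 : CAlgX.IsAdicFormallySmooth R (Localization.AtPrime 𝔮 ⧸ J)
      (maximalIdeal (Localization.AtPrime 𝔮 ⧸ J)) := by
    refine isAdicFormallySmooth_of_algEquiv e _ _ (fun y hy => ?_) hadic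
    rw [mem_maximalIdeal, mem_nonunits_iff] at hy ⊢
    intro hu
    apply hy
    have := hu.map e
    rwa [AlgEquiv.apply_symm_apply] at this
  haveI h3 := formallySmooth_quotient_of_isAdicFormallySmooth J h2
  exact Algebra.FormallySmooth.of_equiv (A := Localization.AtPrime 𝔮 ⧸ J) e

/-- **S2060 (⇐)** -/
theorem isSmoothAt_of_lift
    (h : ∀ (B' B : Type u) [CommRing B'] [CommRing B] [IsLocalRing B'] [IsLocalRing B]
        [IsArtinianRing B'] [IsArtinianRing B] [Algebra R B'] [Algebra R B] (π : B' →ₐ[R] B),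
        Function.Surjective π →
        (∃ t : B', RingHom.ker π.toRingHom = Ideal.span {t} ∧
          ∀ a ∈ IsLocalRing.maximalIdeal B', a * t = 0) →
        ∀ g : S →ₐ[R] B, (IsLocalRing.maximalIdeal B).comap g = q →
          ∃ g' : S →ₐ[R] B', π.comp g' = g) :
    Algebra.IsSmoothAt R q := by
  haveI : IsNoetherianRing S := Algebra.FiniteType.isNoetherianRing R S
  haveI : IsNoetherianRing (Localization.AtPrime q) :=
    IsLocalization.isNoetherianRing q.primeCompl _ inferInstance
  -- Step (a): small sections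
  have hSS : SmallSectionHyp R (Localization.AtPrime q) := by
    apply smallSectionHyp_of_lift_core
    intro A _ _ _ _ J t hJ ht0 hmt hJsq hunit _ ψ hψsurj
    haveI : IsLocalHom ψ.toRingHom :=
      IsLocalHom.of_surjective (R := Localization.AtPrime q) (S := A ⧸ J) ψ.toRingHom hψsurj
    let g : S →ₐ[R] A ⧸ J := ψ.comp (IsScalarTower.toAlgHom R S (Localization.AtPrime q))
    have hgdef : ∀ s, g s = ψ (algebraMap S (Localization.AtPrime q) s) := fun s => rfl
    have hg : (maximalIdeal (A ⧸ J)).comap g = q := by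
      have h1 : (maximalIdeal (A ⧸ J)).comap ψ.toRingHom = maximalIdeal (Localization.AtPrime q) :=
        IsLocalRing.maximalIdeal_comap ψ.toRingHom
      have h2 : (maximalIdeal (A ⧸ J)).comap g =
          ((maximalIdeal (A ⧸ J)).comap ψ.toRingHom).comap (algebraMap S (Localization.AtPrime q)) :=
        rfl
      rw [h2, h1]
      exact Localization.AtPrime.comap_maximalIdeal
    obtain ⟨g', hg'⟩ := h A (A ⧸ J) (Ideal.Quotient.mkₐ R J) Ideal.Quotient.mk_surjective
      ⟨t, by rw [← hJ]; exact Ideal.mk_ker, hmt⟩ g hg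
    have hg'' : ∀ s, Ideal.Quotient.mk J (g' s) = g s := fun s => AlgHom.congr_fun hg' s
    have hu : ∀ y : q.primeCompl, IsUnit (g' y) := by
      intro y
      rw [← IsNilpotent.isUnit_quotient_mk_iff (I := J) ⟨2, hJsq⟩, hg'', hgdef]
      exact (IsLocalization.map_units (Localization.AtPrime q) y).map ψ
    let χ : Localization.AtPrime q →ₐ[R] A := IsLocalization.liftAlgHom (M := q.primeCompl) (f := g') hu
    refine ⟨χ, ?_⟩
    apply AlgHom.coe_ringHom_injective
    apply IsLocalization.ringHom_ext q.primeCompl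
    ext s
    change Ideal.Quotient.mk J (χ (algebraMap S (Localization.AtPrime q) s)) =
      ψ (algebraMap S (Localization.AtPrime q) s)
    have : χ (algebraMap S (Localization.AtPrime q) s) = g' s := IsLocalization.lift_eq hu s
    rw [this, hg'', hgdef]
  exact isSmoothAt_of_isAdicFormallySmooth q (isAdicFormallySmooth_of_smallSectionHyp hSS)

/-- **S2060 (⇒)** -/
theorem lift_of_isSmoothAt (hsm : Algebra.IsSmoothAt R q)
    (B' B : Type u) [CommRing B'] [CommRing B] [IsLocalRing B'] [IsLocalRing B]
    [Algebra R B'] [Algebra R B] (π : B' →ₐ[R] B) (hπ : Function.Surjective π)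
    (t : B') (ht : RingHom.ker π.toRingHom = Ideal.span {t})
    (hmt : ∀ a ∈ IsLocalRing.maximalIdeal B', a * t = 0)
    (g : S →ₐ[R] B) (hg : (IsLocalRing.maximalIdeal B).comap g = q) :
    ∃ g' : S →ₐ[R] B', π.comp g' = g := by
  haveI : Algebra.FormallySmooth R (Localization.AtPrime q) := hsm
  have htm : t ∈ maximalIdeal B' := by
    rw [mem_maximalIdeal, mem_nonunits_iff]
    intro hu
    have h1 : RingHom.ker π.toRingHom = ⊤ := by
      rw [ht]
      exact Ideal.span_singleton_eq_top.2 hu
    have h2 : (1 : B') ∈ RingHom.ker π.toRingHom := by rw [h1]; trivial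
    rw [RingHom.mem_ker, map_one] at h2
    exact one_ne_zero h2
  have hsq : RingHom.ker (π : B' →+* B) ^ 2 = ⊥ := by
    have : RingHom.ker (π : B' →+* B) = Ideal.span {t} := ht
    rw [this, Ideal.span_singleton_pow, pow_two, hmt t htm, Ideal.span_singleton_zero]
  have hu : ∀ y : q.primeCompl, IsUnit (g y) := by
    intro y
    by_contra hnu
    have h1 : (y : S) ∈ (maximalIdeal B).comap g := by
      rw [Ideal.mem_comap, mem_maximalIdeal, mem_nonunits_iff]
      exact hnu
    rw [hg] at h1
    exact y.2 h1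
  let gq : Localization.AtPrime q →ₐ[R] B := IsLocalization.liftAlgHom (M := q.primeCompl) (f := g) hu
  let l : Localization.AtPrime q →ₐ[R] B' :=
    Algebra.FormallySmooth.liftOfSurjective gq π hπ ⟨2, hsq⟩
  refine ⟨l.comp (IsScalarTower.toAlgHom R S (Localization.AtPrime q)), ?_⟩
  ext s
  rw [AlgHom.comp_apply, AlgHom.comp_apply]
  have h1 : π (l (algebraMap S (Localization.AtPrime q) s)) = gq (algebraMap S _ s) :=
    Algebra.FormallySmooth.liftOfSurjective_apply gq π hπ ⟨2, hsq⟩ _
  have h2 : gq (algebraMap S (Localization.AtPrime q) s) = g s := IsLocalization.lift_eq hu s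
  exact h1.trans h2

end S2060

end Groth.Agent.Lib.Helper19.ArtTest
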