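import Mathlib

/-!
# Formal smoothness lifts along nilpotent ideals for flat algebras (EGA 0_IV 19.7.1, discrete
nilpotent case) (helper19)

Let `I` be a nilpotent ideal of `A` and `B` a flat `A`-algebra such that `B/IB` is formally smooth
over `A/I`. Then `B` is formally smooth over `A`.

The proof shows that every square-zero extension `π : E → B` splits: first when `I` kills `ker π`
(then `IE ∩ ker π = 0` by flatness, so the preimage in `E` of a section of `E/IE → B/IB` maps
isomorphically to `B`), then by dévissage along the `I`-adic filtration of `ker π`.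
-/

set_option autoImplicit false
set_option linter.style.haveILetI false
set_option linter.unusedSectionVars false
universe u v w

namespace Groth.Agent.Lib.Helper19.FlatLift

variable {A : Type u} {B : Type v} [CommRing A] [CommRing B] [Algebra A B]

section Equalizer

variable {E E' : Type w} [CommRing E] [CommRing E'] [Algebra A E] [Algebra A E']
  (π : E →ₐ[A] B) (q : E →ₐ[A] E') (s : B →ₐ[A] E')

/-- restriction of `π` to the equalizer of `q` and `s ∘ π` -/
noncomputable def eqProj : AlgHom.equalizer q (s.comp π) →ₐ[A] B :=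
  π.comp (AlgHom.equalizer q (s.comp π)).val

theorem eqProj_apply (x : AlgHom.equalizer q (s.comp π)) : eqProj π q s x = π x.1 := rfl

theorem eqProj_surjective (hjoint : ∀ b, ∃ e, π e = b ∧ q e = s b) :
    Function.Surjective (eqProj π q s) := by
  intro b
  obtain ⟨e, he1, he2⟩ := hjoint b
  refine ⟨⟨e, ?_⟩, he1⟩
  rw [AlgHom.mem_equalizer, AlgHom.comp_apply, he1, he2]

theorem q_eq_zero_of_eqProj_eq_zero (x : AlgHom.equalizer q (s.comp π))
    (hx : eqProj π q s x = 0) : q x.1 = 0 := by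
  have h := x.2
  rw [AlgHom.mem_equalizer, AlgHom.comp_apply] at h
  have h0 : π x.1 = 0 := hx
  rw [h, h0, map_zero]

theorem exists_section_of_eqProj
    (h : ∃ σ : B →ₐ[A] AlgHom.equalizer q (s.comp π), (eqProj π q s).comp σ = AlgHom.id A B) :
    ∃ σ : B →ₐ[A] E, π.comp σ = AlgHom.id A B := by
  obtain ⟨σ, hσ⟩ := h
  exact ⟨(AlgHom.equalizer q (s.comp π)).val.comp σ, hσ⟩

end Equalizer

section Flat

/-- the flatness input: `IE ∩ ker π = 0` when `I` kills `ker π` -/
theorem eq_zero_of_mem_map_of_flat [Module.Flat A B] (I : Ideal A) {E : Type w} [CommRing E]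
    [Algebra A E] (π : E →ₐ[A] B) (hπ : Function.Surjective π)
    (hI : ∀ a ∈ I, ∀ x : E, π x = 0 → a • x = 0)
    (x : E) (hx : x ∈ I.map (algebraMap A E)) (hx0 : π x = 0) : x = 0 := by
  rw [Ideal.map, Ideal.span, Submodule.mem_span_set'] at hx
  obtain ⟨n, f, g, rfl⟩ := hx
  have hg : ∀ k, ∃ i ∈ I, algebraMap A E i = (g k : E) := fun k => (g k).2
  choose i hiI hi using hg
  have hsum : ∑ k, f k • (g k : E) = ∑ k, i k • f k := by
    refine Finset.sum_congr rfl fun k _ => ?_
    rw [← hi k, smul_eq_mul, Algebra.smul_def, mul_comm]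
  rw [hsum] at hx0 ⊢
  have hrel : ∑ k, i k • π (f k) = 0 := by
    rw [← hx0, map_sum]
    refine Finset.sum_congr rfl fun k _ => ?_
    rw [map_smul]
  obtain ⟨κ, a, y, hy1, hy2⟩ := Module.Flat.isTrivialRelation_of_sum_smul_eq_zero
    (R := A) (M := B) (f := i) (x := fun k => π (f k)) hrel
  have hy1 : ∀ k, π (f k) = ∑ j, a k j • y j := hy1
  choose y' hy' using fun j => hπ (y j)
  have hl : ∀ k, π (f k - ∑ j, a k j • y' j) = 0 := by
    intro k
    rw [map_sub, map_sum, hy1 k, sub_eq_zero]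
    refine Finset.sum_congr rfl fun j _ => ?_
    rw [map_smul, hy' j]
  have hfk : ∀ k, i k • f k = ∑ j, (i k * a k j) • y' j := by
    intro k
    have h1 : f k = (f k - ∑ j, a k j • y' j) + ∑ j, a k j • y' j := by ring
    conv_lhs => rw [h1]
    rw [smul_add, hI (i k) (hiI k) _ (hl k), zero_add, Finset.smul_sum]
    refine Finset.sum_congr rfl fun j _ => ?_
    rw [smul_smul]
  rw [Finset.sum_congr rfl fun k _ => hfk k, Finset.sum_comm]
  refine Finset.sum_eq_zero fun j _ => ?_
  rw [← Finset.sum_smul, hy2 j, zero_smul]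

end Flat

section Kills

/-- Step 1: extensions whose kernel is killed by `I` split, if `B` is flat and has the lifting
property against algebras killed by `I`. -/
theorem exists_section_of_kills [Module.Flat A B] (I : Ideal A)
    (H : ∀ {C : Type w} [CommRing C] [Algebra A C], I.map (algebraMap A C) = ⊥ →
      ∀ (J : Ideal C), J ^ 2 = ⊥ → ∀ f : B →ₐ[A] C ⧸ J,
        ∃ g : B →ₐ[A] C, (Ideal.Quotient.mkₐ A J).comp g = f)
    {E : Type w} [CommRing E] [Algebra A E] (π : E →ₐ[A] B) (hπ : Function.Surjective π)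
    (hsq : RingHom.ker π ^ 2 = ⊥)
    (hI : ∀ a ∈ I, ∀ x : E, π x = 0 → a • x = 0) :
    ∃ σ : B →ₐ[A] E, π.comp σ = AlgHom.id A B := by
  set IE : Ideal E := I.map (algebraMap A E) with hIEdef
  set IB : Ideal B := I.map (algebraMap A B) with hIBdef
  have hIEB : IE ≤ IB.comap π := by
    rw [hIEdef, Ideal.map_le_iff_le_comap]
    intro a ha
    rw [Ideal.mem_comap, Ideal.mem_comap, AlgHom.commutes]
    exact Ideal.mem_map_of_mem _ ha
  let πb : E ⧸ IE →ₐ[A] B ⧸ IB := Ideal.quotientMapₐ IB π hIEB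
  have hπb : ∀ e : E, πb (Ideal.Quotient.mk IE e) = Ideal.Quotient.mk IB (π e) := fun e => rfl
  have hπbs : Function.Surjective πb := by
    intro y
    obtain ⟨b, rfl⟩ := Ideal.Quotient.mk_surjective y
    obtain ⟨e, rfl⟩ := hπ b
    exact ⟨Ideal.Quotient.mk IE e, rfl⟩
  -- elements of `IB` lift to `IE`
  have hF1 : ∀ e : E, π e ∈ IB → ∃ c ∈ IE, π c = π e := by
    intro e he
    have hmap : IB = IE.map π.toRingHom := by
      rw [hIBdef, hIEdef, Ideal.map_map]
      congr 1
      exact (AlgHom.comp_algebraMap π).symm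
    rw [hmap] at he
    exact (Ideal.mem_map_iff_of_surjective π.toRingHom hπ).1 he
  have hkerb : RingHom.ker πb ≤ (RingHom.ker π).map (Ideal.Quotient.mk IE) := by
    intro y hy
    obtain ⟨e, rfl⟩ := Ideal.Quotient.mk_surjective y
    rw [RingHom.mem_ker, hπb, Ideal.Quotient.eq_zero_iff_mem] at hy
    obtain ⟨c, hc, hce⟩ := hF1 e hy
    have h1 : Ideal.Quotient.mk IE e = Ideal.Quotient.mk IE (e - c) := by
      rw [map_sub, Ideal.Quotient.eq_zero_iff_mem.2 hc, sub_zero]
    rw [h1]
    refine Ideal.mem_map_of_mem _ ?_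
    rw [RingHom.mem_ker, map_sub, hce, sub_self]
  have hsqb : RingHom.ker πb ^ 2 = ⊥ := by
    rw [eq_bot_iff]
    refine (Ideal.pow_right_mono hkerb 2).trans ?_
    rw [← Ideal.map_pow, hsq, Ideal.map_bot]
  have hC : I.map (algebraMap A (E ⧸ IE)) = ⊥ := by
    rw [eq_bot_iff, Ideal.map_le_iff_le_comap]
    intro a ha
    rw [Ideal.mem_comap, Ideal.mem_bot]
    exact Ideal.Quotient.eq_zero_iff_mem.2 (Ideal.mem_map_of_mem _ ha)
  obtain ⟨s, hs⟩ := H hC (RingHom.ker πb) hsqb
    ((Ideal.quotientKerAlgEquivOfSurjective hπbs).symm.toAlgHom.comp (Ideal.Quotient.mkₐ A IB))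
  have hs' : ∀ b : B, πb (s b) = Ideal.Quotient.mk IB b := by
    intro b
    have h1 := congrArg (fun f : B →ₐ[A] (E ⧸ IE) ⧸ RingHom.ker πb => f b) hs
    have h2 := congrArg (Ideal.quotientKerAlgEquivOfSurjective hπbs) h1
    simpa using h2
  -- the equalizer
  have hjoint : ∀ b, ∃ e, π e = b ∧ Ideal.Quotient.mkₐ A IE e = s b := by
    intro b
    obtain ⟨e₀, he₀⟩ := hπ b
    obtain ⟨e', he'⟩ := Ideal.Quotient.mk_surjective (s b)
    have h1 : π (e' - e₀) ∈ IB := by
      have h2 : Ideal.Quotient.mk IB (π e') = Ideal.Quotient.mk IB b := by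
        rw [← hπb e', he', hs']
      rw [← Ideal.Quotient.eq_zero_iff_mem, map_sub, map_sub, h2, he₀, sub_self]
    obtain ⟨c, hc, hce⟩ := hF1 _ h1
    refine ⟨e' - c, ?_, ?_⟩
    · rw [map_sub, hce, map_sub, sub_sub_cancel, he₀]
    · rw [Ideal.Quotient.mkₐ_eq_mk, map_sub, Ideal.Quotient.eq_zero_iff_mem.2 hc, sub_zero, he']
  apply exists_section_of_eqProj π (Ideal.Quotient.mkₐ A IE) s
  have hinj : Function.Injective (eqProj π (Ideal.Quotient.mkₐ A IE) s) := by
    rw [injective_iff_map_eq_zero]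
    intro x hx
    have h1 := q_eq_zero_of_eqProj_eq_zero π _ s x hx
    rw [Ideal.Quotient.mkₐ_eq_mk, Ideal.Quotient.eq_zero_iff_mem] at h1
    apply Subtype.ext
    exact eq_zero_of_mem_map_of_flat I π hπ hI x.1 h1 hx
  let e := AlgEquiv.ofBijective (eqProj π (Ideal.Quotient.mkₐ A IE) s)
    ⟨hinj, eqProj_surjective π _ s hjoint⟩
  refine ⟨e.symm.toAlgHom, AlgHom.ext fun b => ?_⟩
  exact e.apply_symm_apply b

end Kills

section Devissage

/-- Step 2: dévissage along the `I`-adic filtration of the kernel. -/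
theorem exists_section_of_pow_kills [Module.Flat A B] (I : Ideal A)
    (H : ∀ {C : Type w} [CommRing C] [Algebra A C], I.map (algebraMap A C) = ⊥ →
      ∀ (J : Ideal C), J ^ 2 = ⊥ → ∀ f : B →ₐ[A] C ⧸ J,
        ∃ g : B →ₐ[A] C, (Ideal.Quotient.mkₐ A J).comp g = f) (k : ℕ) :
    ∀ {E : Type w} [CommRing E] [Algebra A E] (π : E →ₐ[A] B), Function.Surjective π →
      RingHom.ker π ^ 2 = ⊥ → (∀ a ∈ I ^ k, ∀ x : E, π x = 0 → a • x = 0) →
      ∃ σ : B →ₐ[A] E, π.comp σ = AlgHom.id A B := by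
  induction k with
  | zero =>
    intro E _ _ π hπ _ hk
    have hinj : Function.Injective π := by
      rw [injective_iff_map_eq_zero]
      intro x hx
      have := hk 1 (by rw [pow_zero, Ideal.one_eq_top]; trivial) x hx
      rwa [one_smul] at this
    let e := AlgEquiv.ofBijective π ⟨hinj, hπ⟩
    exact ⟨e.symm.toAlgHom, AlgHom.ext fun b => e.apply_symm_apply b⟩
  | succ k ih =>
    intro E _ _ π hπ hsq hk
    -- the ideal `M = I · ker π`
    set M : Ideal E := Ideal.span {y | ∃ a ∈ I, ∃ x : E, π x = 0 ∧ y = a • x} with hMdef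
    have hMker : ∀ m ∈ M, π m = 0 := by
      intro m hm
      have : M ≤ RingHom.ker π := by
        rw [hMdef, Ideal.span_le]
        rintro _ ⟨a, _, x, hx, rfl⟩
        rw [SetLike.mem_coe, RingHom.mem_ker, map_smul, hx, smul_zero]
      exact this hm
    have hMk : ∀ a ∈ I ^ k, ∀ m ∈ M, a • m = 0 := by
      intro a ha m hm
      rw [hMdef] at hm
      induction hm using Submodule.span_induction with
      | mem y hy =>
        obtain ⟨i, hi, x, hx, rfl⟩ := hy
        rw [smul_smul]
        refine hk (a * i) ?_ x hx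
        rw [pow_succ]
        exact Ideal.mul_mem_mul ha hi
      | zero => exact smul_zero _
      | add y z _ _ hy hz => rw [smul_add, hy, hz, add_zero]
      | smul c y _ hy => rw [smul_comm, hy, smul_zero]
    let π' : E ⧸ M →ₐ[A] B := Ideal.Quotient.liftₐ M π hMker
    have hπ' : ∀ e : E, π' (Ideal.Quotient.mk M e) = π e := fun e => rfl
    have hπ's : Function.Surjective π' := by
      intro b
      obtain ⟨e, rfl⟩ := hπ b
      exact ⟨Ideal.Quotient.mk M e, rfl⟩
    have hker' : RingHom.ker π' ≤ (RingHom.ker π).map (Ideal.Quotient.mk M) := by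
      intro y hy
      obtain ⟨e, rfl⟩ := Ideal.Quotient.mk_surjective y
      rw [RingHom.mem_ker, hπ'] at hy
      exact Ideal.mem_map_of_mem _ hy
    have hsq' : RingHom.ker π' ^ 2 = ⊥ := by
      rw [eq_bot_iff]
      refine (Ideal.pow_right_mono hker' 2).trans ?_
      rw [← Ideal.map_pow, hsq, Ideal.map_bot]
    have hI' : ∀ a ∈ I, ∀ y : E ⧸ M, π' y = 0 → a • y = 0 := by
      intro a ha y hy
      obtain ⟨e, rfl⟩ := Ideal.Quotient.mk_surjective y
      rw [hπ'] at hy
      have : a • Ideal.Quotient.mk M e = Ideal.Quotient.mk M (a • e) := rfl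
      rw [this, Ideal.Quotient.eq_zero_iff_mem]
      exact Ideal.subset_span ⟨a, ha, e, hy, rfl⟩
    obtain ⟨s, hs⟩ := exists_section_of_kills I H π' hπ's hsq' hI'
    have hs' : ∀ b, π' (s b) = b := fun b => congrArg (fun f : B →ₐ[A] B => f b) hs
    have hjoint : ∀ b, ∃ e, π e = b ∧ Ideal.Quotient.mkₐ A M e = s b := by
      intro b
      obtain ⟨e, he⟩ := Ideal.Quotient.mk_surjective (s b)
      refine ⟨e, ?_, he⟩
      rw [← hπ', he, hs']
    apply exists_section_of_eqProj π (Ideal.Quotient.mkₐ A M) s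
    have hmemM : ∀ x : AlgHom.equalizer (Ideal.Quotient.mkₐ A M) (s.comp π),
        eqProj π (Ideal.Quotient.mkₐ A M) s x = 0 → x.1 ∈ M := by
      intro x hx
      have h1 := q_eq_zero_of_eqProj_eq_zero π _ s x hx
      rwa [Ideal.Quotient.mkₐ_eq_mk, Ideal.Quotient.eq_zero_iff_mem] at h1
    refine ih (eqProj π (Ideal.Quotient.mkₐ A M) s) (eqProj_surjective π _ s hjoint) ?_ ?_
    · rw [eq_bot_iff, pow_two, Ideal.mul_le]
      intro x hx y hy
      rw [RingHom.mem_ker] at hx hy
      rw [Ideal.mem_bot]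
      apply Subtype.ext
      have h1 : x.1 * y.1 ∈ RingHom.ker π ^ 2 := by
        rw [pow_two]
        exact Ideal.mul_mem_mul (RingHom.mem_ker.2 (hMker _ (hmemM x hx)))
          (RingHom.mem_ker.2 (hMker _ (hmemM y hy)))
      rw [hsq, Ideal.mem_bot] at h1
      exact h1
    · intro a ha x hx
      apply Subtype.ext
      exact hMk a ha x.1 (hmemM x hx)

/-- EGA 0_IV 19.7.1 (discrete, nilpotent case), extension-splitting form. -/
theorem exists_section_of_flat_of_nilpotent [Module.Flat A B] (I : Ideal A) (hInil : IsNilpotent I)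
    (H : ∀ {C : Type w} [CommRing C] [Algebra A C], I.map (algebraMap A C) = ⊥ →
      ∀ (J : Ideal C), J ^ 2 = ⊥ → ∀ f : B →ₐ[A] C ⧸ J,
        ∃ g : B →ₐ[A] C, (Ideal.Quotient.mkₐ A J).comp g = f)
    {E : Type w} [CommRing E] [Algebra A E] (π : E →ₐ[A] B) (hπ : Function.Surjective π)
    (hsq : RingHom.ker π ^ 2 = ⊥) : ∃ σ : B →ₐ[A] E, π.comp σ = AlgHom.id A B := by
  obtain ⟨n, hn⟩ := hInil
  refine exists_section_of_pow_kills I H n π hπ hsq ?_
  intro a ha x _
  rw [hn, Ideal.zero_eq_bot, Ideal.mem_bot] at ha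
  rw [ha, zero_smul]

end Devissage

section Final

/-- lifting against a square-zero ideal from splitting of square-zero extensions (fibre
product); the extension to split has kernel killed by every scalar killing `C` -/
theorem exists_lift_of_forall_section
    {C : Type w} [CommRing C] [Algebra A C] (J : Ideal C) (hJ : J ^ 2 = ⊥) (f : B →ₐ[A] C ⧸ J)
    (hsplit : ∀ {E : Type (max w v)} [CommRing E] [Algebra A E] (π : E →ₐ[A] B),
      Function.Surjective π → RingHom.ker π ^ 2 = ⊥ →
      (∀ a : A, algebraMap A C a = 0 → ∀ x : E, π x = 0 → a • x = 0) →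
      ∃ σ : B →ₐ[A] E, π.comp σ = AlgHom.id A B) :
    ∃ g : B →ₐ[A] C, (Ideal.Quotient.mkₐ A J).comp g = f := by
  let φ : C × B →ₐ[A] C ⧸ J := (Ideal.Quotient.mkₐ A J).comp (AlgHom.fst A C B)
  let ψ : C × B →ₐ[A] C ⧸ J := f.comp (AlgHom.snd A C B)
  let E := AlgHom.equalizer φ ψ
  let π : E →ₐ[A] B := (AlgHom.snd A C B).comp E.val
  have hmem : ∀ x : E, Ideal.Quotient.mk J x.1.1 = f x.1.2 := fun x => x.2
  have hπ : Function.Surjective π := by
    intro b
    obtain ⟨c, hc⟩ := Ideal.Quotient.mk_surjective (f b)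
    exact ⟨⟨(c, b), hc⟩, rfl⟩
  have hsq : RingHom.ker π ^ 2 = ⊥ := by
    rw [eq_bot_iff, pow_two, Ideal.mul_le]
    intro x hx y hy
    rw [RingHom.mem_ker] at hx hy
    have hx2 : x.1.2 = 0 := hx
    have hy2 : y.1.2 = 0 := hy
    have hx1 : x.1.1 ∈ J := by
      rw [← Ideal.Quotient.eq_zero_iff_mem, hmem, hx2, map_zero]
    have hy1 : y.1.1 ∈ J := by
      rw [← Ideal.Quotient.eq_zero_iff_mem, hmem, hy2, map_zero]
    rw [Ideal.mem_bot]
    apply Subtype.ext
    apply Prod.ext
    · have h1 : x.1.1 * y.1.1 ∈ J ^ 2 := by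
        rw [pow_two]; exact Ideal.mul_mem_mul hx1 hy1
      rw [hJ, Ideal.mem_bot] at h1
      exact h1
    · change x.1.2 * y.1.2 = 0
      rw [hx2, zero_mul]
  have hkill : ∀ a : A, algebraMap A C a = 0 → ∀ x : E, π x = 0 → a • x = 0 := by
    intro a ha x hx
    have hx2 : x.1.2 = 0 := hx
    apply Subtype.ext
    apply Prod.ext
    · change a • x.1.1 = 0
      rw [Algebra.smul_def, ha, zero_mul]
    · change a • x.1.2 = 0
      rw [hx2, smul_zero]
  obtain ⟨σ, hσ⟩ := hsplit π hπ hsq hkill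
  have hσ' : ∀ b, (σ b).1.2 = b := fun b => congrArg (fun g : B →ₐ[A] B => g b) hσ
  refine ⟨(AlgHom.fst A C B).comp (E.val.comp σ), AlgHom.ext fun b => ?_⟩
  change Ideal.Quotient.mk J (σ b).1.1 = f b
  rw [hmem, hσ']

/-- formal smoothness of `B/IB` over `A/I` gives the lifting property against `A`-algebras killed
by `I` -/
theorem exists_lift_of_formallySmooth_quotient (I : Ideal A)
    [Algebra.FormallySmooth (A ⧸ I) (B ⧸ I.map (algebraMap A B))]
    {C : Type w} [CommRing C] [Algebra A C] (hC : I.map (algebraMap A C) = ⊥)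
    (J : Ideal C) (hJ : J ^ 2 = ⊥) (f : B →ₐ[A] C ⧸ J) :
    ∃ g : B →ₐ[A] C, (Ideal.Quotient.mkₐ A J).comp g = f := by
  have hC' : ∀ a ∈ I, algebraMap A C a = 0 := by
    intro a ha
    have := Ideal.mem_map_of_mem (algebraMap A C) ha
    rwa [hC, Ideal.mem_bot] at this
  letI : Algebra (A ⧸ I) C := (Ideal.Quotient.lift I (algebraMap A C) hC').toAlgebra
  haveI : IsScalarTower A (A ⧸ I) C := IsScalarTower.of_algebraMap_eq (fun a => rfl)
  have hf0 : ∀ x ∈ I.map (algebraMap A B), f x = 0 := by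
    intro x hx
    have : I.map (algebraMap A B) ≤ RingHom.ker f := by
      rw [Ideal.map_le_iff_le_comap]
      intro a ha
      rw [Ideal.mem_comap, RingHom.mem_ker, AlgHom.commutes,
        IsScalarTower.algebraMap_apply A C (C ⧸ J), hC' a ha, map_zero]
    exact this hx
  let fb : B ⧸ I.map (algebraMap A B) →ₐ[A] C ⧸ J := Ideal.Quotient.liftₐ _ f hf0
  let fb' : B ⧸ I.map (algebraMap A B) →ₐ[A ⧸ I] C ⧸ J :=
    AlgHom.extendScalarsOfSurjective (Ideal.Quotient.mk_surjective (I := I)) fb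
  obtain ⟨gb, hgb⟩ := Algebra.FormallySmooth.comp_surjective (A ⧸ I)
    (B ⧸ I.map (algebraMap A B)) J hJ fb'
  refine ⟨(gb.restrictScalars A).comp (Ideal.Quotient.mkₐ A _), AlgHom.ext fun b => ?_⟩
  have := congrArg (fun g : B ⧸ I.map (algebraMap A B) →ₐ[A ⧸ I] C ⧸ J =>
    g (Ideal.Quotient.mk _ b)) hgb
  exact this

/-- **EGA 0_IV 19.7.1** (discrete topologies, nilpotent ideal): if `B` is flat over `A`, `I` is a
nilpotent ideal of `A` and `B/IB` is formally smooth over `A/I`, then `B` is formally smooth over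
`A`. -/
theorem formallySmooth_of_flat_of_nilpotent [Module.Flat A B] (I : Ideal A) (hI : IsNilpotent I)
    [Algebra.FormallySmooth (A ⧸ I) (B ⧸ I.map (algebraMap A B))] :
    Algebra.FormallySmooth A B := by
  refine Algebra.FormallySmooth.of_comp_surjective fun C _ _ J hJ f => ?_
  refine exists_lift_of_forall_section J hJ f ?_
  intro E _ _ π hπ hsq _
  exact exists_section_of_flat_of_nilpotent I hI
    (fun hC J hJ f => exists_lift_of_formallySmooth_quotient I hC J hJ f) π hπ hsq

/-- **EGA 0_IV 19.7.1**, general form: if `B` is flat over `A` and lifts against `A`-algebras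
killed by `I` (square-zero thickenings), then it lifts against `A`-algebras killed by a power of
`I`. -/
theorem exists_lift_of_flat_of_pow_kills [Module.Flat A B] (I : Ideal A)
    (H : ∀ {C : Type (max w v)} [CommRing C] [Algebra A C], I.map (algebraMap A C) = ⊥ →
      ∀ (J : Ideal C), J ^ 2 = ⊥ → ∀ f : B →ₐ[A] C ⧸ J,
        ∃ g : B →ₐ[A] C, (Ideal.Quotient.mkₐ A J).comp g = f)
    (n : ℕ) {C : Type w} [CommRing C] [Algebra A C]
    (hC : (I ^ n).map (algebraMap A C) = ⊥) (J : Ideal C) (hJ : J ^ 2 = ⊥)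
    (f : B →ₐ[A] C ⧸ J) : ∃ g : B →ₐ[A] C, (Ideal.Quotient.mkₐ A J).comp g = f := by
  refine exists_lift_of_forall_section J hJ f ?_
  intro E _ _ π hπ hsq hkill
  refine exists_section_of_pow_kills I H n π hπ hsq ?_
  intro a ha x hx
  refine hkill a ?_ x hx
  have := Ideal.mem_map_of_mem (algebraMap A C) ha
  rwa [hC, Ideal.mem_bot] at this

end Final

end Groth.Agent.Lib.Helper19.FlatLift
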