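import Mathlib

/-!
# Flatness lemmas: colon ideals and a Nakayama-type bijectivity criterion for nilpotent ideals
-/

set_option autoImplicit false

namespace Groth.Agent.Lib.Helper19.Rigid

open scoped BigOperators

section Colon

variable {R M : Type*} [CommRing R] [AddCommGroup M] [Module R M]

/-- every element of `J • ⊤` is a finite `J`-combination -/
lemma exists_sum_of_mem_smul_top (J : Ideal R) (x : M) (hx : x ∈ J • (⊤ : Submodule R M)) :
    ∃ (s : Finset M) (a : M → R), (∀ i, a i ∈ J) ∧ x = ∑ i ∈ s, a i • i := by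
  have h1 : x ∈ J • Submodule.span R (Set.range (id : M → M)) := by
    rw [Set.range_id, Submodule.span_univ]; exact hx
  obtain ⟨a, ha, rfl⟩ := (Submodule.mem_ideal_smul_span_iff_exists_sum J (id : M → M) x).1 h1
  exact ⟨a.support, a, ha, rfl⟩

/-- For a flat module, `ε • m ∈ J M` forces `m ∈ (J : ε) M`. -/
lemma mem_smul_top_of_smul_mem_of_flat [Module.Flat R M] (J K : Ideal R) (ε : R)
    (hK : ∀ a : R, ε * a ∈ J → a ∈ K) (m : M) (h : ε • m ∈ J • (⊤ : Submodule R M)) :
    m ∈ K • (⊤ : Submodule R M) := by
  classical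
  obtain ⟨s, a, ha, hsum⟩ := exists_sum_of_mem_smul_top J _ h
  let f : Option s → R := fun o => Option.elim o ε (fun i => - a i)
  let x : Option s → M := fun o => Option.elim o m (fun i => (i : M))
  have hrel : ∑ o, f o • x o = 0 := by
    rw [Fintype.sum_option]
    change ε • m + ∑ i : s, (- a i) • (i : M) = 0
    rw [hsum, Finset.sum_coe_sort s (fun i => (- a i) • i)]
    simp
  obtain ⟨k, c, y, hxy, hfc⟩ := Module.Flat.isTrivialRelation_of_sum_smul_eq_zero hrel
  have hm : m = ∑ j, c none j • y j := hxy none
  rw [hm]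
  refine Submodule.sum_mem _ fun j _ => ?_
  refine Submodule.smul_mem_smul (hK _ ?_) Submodule.mem_top
  have h2 := hfc j
  rw [Fintype.sum_option] at h2
  change ε * c none j + ∑ i : s, (- a i) * c (some i) j = 0 at h2
  have h3 : ε * c none j = ∑ i : s, a i * c (some i) j := by
    rw [← sub_eq_zero, ← h2, sub_eq_add_neg, ← Finset.sum_neg_distrib]
    congr 1
    apply Finset.sum_congr rfl
    intro i _
    ring
  rw [h3]
  exact Ideal.sum_mem _ fun i _ => Ideal.mul_mem_right _ _ (ha i)

end Colon

section Nakayama

variable {R M N : Type*} [CommRing R] [AddCommGroup M] [Module R M] [AddCommGroup N] [Module R N]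

/-- surjectivity modulo a nilpotent ideal implies surjectivity -/
lemma surjective_of_nilpotent (I : Ideal R) (hI : IsNilpotent I) (f : M →ₗ[R] N)
    (hs : ∀ y : N, ∃ x : M, y - f x ∈ I • (⊤ : Submodule R N)) : Function.Surjective f := by
  obtain ⟨n, hn⟩ := hI
  have key : ∀ n : ℕ, (⊤ : Submodule R N) ≤ LinearMap.range f ⊔ I ^ n • (⊤ : Submodule R N) := by
    intro n
    induction n with
    | zero =>
      rw [pow_zero, Ideal.one_eq_top, Submodule.top_smul]
      exact le_sup_right
    | succ n ih =>
      intro y _
      obtain ⟨x, hx⟩ := hs y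
      have h1 : I • (⊤ : Submodule R N) ≤ LinearMap.range f ⊔ I ^ (n + 1) • (⊤ : Submodule R N) := by
        calc I • (⊤ : Submodule R N) ≤ I • (LinearMap.range f ⊔ I ^ n • (⊤ : Submodule R N)) :=
              Submodule.smul_mono le_rfl ih
          _ = I • LinearMap.range f ⊔ I • (I ^ n • (⊤ : Submodule R N)) := Submodule.smul_sup _ _ _
          _ ≤ LinearMap.range f ⊔ I ^ (n + 1) • (⊤ : Submodule R N) := by
              apply sup_le_sup Submodule.smul_le_right
              rw [← Submodule.mul_smul, ← pow_succ']
      have h2 : y = f x + (y - f x) := by abel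
      rw [h2]
      exact Submodule.add_mem _ (Submodule.mem_sup_left (LinearMap.mem_range_self f x)) (h1 hx)
  intro y
  have h := key n (Submodule.mem_top : y ∈ ⊤)
  rw [hn, Ideal.zero_eq_bot, Submodule.bot_smul, sup_bot_eq] at h
  exact h

/-- A map into a flat module which is bijective modulo a nilpotent ideal is bijective. -/
theorem bijective_of_flat_of_nilpotent [Module.Flat R N] (I : Ideal R) (hI : IsNilpotent I)
    (f : M →ₗ[R] N)
    (hs : ∀ y : N, ∃ x : M, y - f x ∈ I • (⊤ : Submodule R N))
    (hi : ∀ x : M, f x ∈ I • (⊤ : Submodule R N) → x ∈ I • (⊤ : Submodule R M)) :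
    Function.Bijective f := by
  classical
  have hsurj := surjective_of_nilpotent I hI f hs
  refine ⟨?_, hsurj⟩
  rw [← LinearMap.ker_eq_bot, eq_bot_iff]
  intro x hx
  rw [LinearMap.mem_ker] at hx
  obtain ⟨n, hn⟩ := hI
  have key : ∀ n : ℕ, x ∈ I ^ n • (⊤ : Submodule R M) := by
    intro n
    induction n with
    | zero =>
      rw [pow_zero, Ideal.one_eq_top, Submodule.top_smul]
      exact Submodule.mem_top
    | succ n ih =>
      obtain ⟨s, a, ha, hsum⟩ := exists_sum_of_mem_smul_top (I ^ n) x ih
      have hrel : ∑ i : s, a i • f (i : M) = 0 := by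
        rw [Finset.sum_coe_sort s (fun i => a i • f i), ← hx, hsum, map_sum]
        simp
      obtain ⟨k, c, y, hxy, hfc⟩ := Module.Flat.isTrivialRelation_of_sum_smul_eq_zero hrel
      choose z hz using fun j => hsurj (y j)
      have hw : ∀ i : s, (i : M) - ∑ j, c i j • z j ∈ I • (⊤ : Submodule R M) := by
        intro i
        apply hi
        have h0 : f ((i : M) - ∑ j, c i j • z j) = 0 := by
          rw [map_sub, map_sum]
          have := hxy i
          simp only [map_smul, hz]
          rw [← this, sub_self]
        rw [h0]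
        exact Submodule.zero_mem _
      have hx2 : x = ∑ i : s, a i • ((i : M) - ∑ j, c i j • z j) := by
        have h1 : ∑ i : s, a i • ∑ j, c i j • z j = 0 := by
          simp_rw [Finset.smul_sum, smul_smul]
          rw [Finset.sum_comm]
          apply Finset.sum_eq_zero
          intro j _
          rw [← Finset.sum_smul, hfc j, zero_smul]
        simp_rw [smul_sub]
        rw [Finset.sum_sub_distrib, h1, sub_zero, Finset.sum_coe_sort s (fun i => a i • i)]
        exact hsum
      rw [hx2, pow_succ, Submodule.mul_smul]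
      exact Submodule.sum_mem _ fun i _ => Submodule.smul_mem_smul (ha _) (hw i)
  have h := key n
  rwa [hn, Ideal.zero_eq_bot, Submodule.bot_smul] at h

end Nakayama

end Groth.Agent.Lib.Helper19.Rigid
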