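import Mathlib
import Groth.Agent.Lib.Helper19FlatLiftFS
import Groth.Agent.Lib.Helper19RigidA

set_option autoImplicit false
set_option linter.style.haveILetI false
universe u

/-!
# Lifting automorphisms of flat algebras with formally smooth closed fibre along small extensions
(helper19)
-/

namespace Groth.Agent.Lib.Helper19.AutLift

/-- formal smoothness over `k` passes to a ring `K` between `k` and `S` when `k → K` is onto -/
theorem formallySmooth_of_surjective {k K S : Type u} [CommRing k] [CommRing K] [CommRing S]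
    [Algebra k K] [Algebra K S] [Algebra k S] [IsScalarTower k K S]
    (hs : Function.Surjective (algebraMap k K)) [Algebra.FormallySmooth k S] :
    Algebra.FormallySmooth K S := by
  refine Algebra.FormallySmooth.of_comp_surjective fun C _ _ J hJ f => ?_
  letI : Algebra k C := ((algebraMap K C).comp (algebraMap k K)).toAlgebra
  haveI : IsScalarTower k K C := IsScalarTower.of_algebraMap_eq fun _ => rfl
  obtain ⟨g, hg⟩ := Algebra.FormallySmooth.comp_surjective k S J hJ (f.restrictScalars k)
  refine ⟨⟨g.toRingHom, fun c => ?_⟩, AlgHom.ext fun b => ?_⟩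
  · obtain ⟨c, rfl⟩ := hs c
    have := g.commutes c
    rw [IsScalarTower.algebraMap_apply k K S, IsScalarTower.algebraMap_apply k K C] at this
    exact this
  · exact congrArg (fun h : S →ₐ[k] C ⧸ J => h b) hg

theorem exists_algEquiv_lift
    {k : Type u} [Field k]
    {A : Type u} [CommRing A] [Algebra k A] [IsLocalRing A] [IsArtinianRing A]
    (hres : ∀ a : A, ∃ c : k, a - algebraMap k A c ∈ IsLocalRing.maximalIdeal A)
    (t : A) (ht : t ∈ IsLocalRing.maximalIdeal A)
    (htm : ∀ a ∈ IsLocalRing.maximalIdeal A, a * t = 0)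
    {B : Type u} [CommRing B] [Algebra A B] [Module.Flat A B] [Algebra k B] [IsScalarTower k A B]
    (hsm : Algebra.FormallySmooth k (B ⧸ (IsLocalRing.maximalIdeal A).map (algebraMap A B)))
    (J : Ideal B) (hJdef : J = Ideal.span {algebraMap A B t})
    (σ : (B ⧸ J) ≃ₐ[A] (B ⧸ J)) :
    ∃ τ : B ≃ₐ[A] B, ∀ b : B,
      Ideal.Quotient.mk J (τ b) = σ (Ideal.Quotient.mk J b) := by
  have hnil : IsNilpotent (IsLocalRing.maximalIdeal A) := by
    have h := IsArtinianRing.isNilpotent_jacobson_bot (R := A)
    rwa [IsLocalRing.jacobson_eq_maximalIdeal ⊥ bot_ne_top] at h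
  -- formal smoothness of B over A
  haveI : Algebra.FormallySmooth (A ⧸ IsLocalRing.maximalIdeal A)
      (B ⧸ (IsLocalRing.maximalIdeal A).map (algebraMap A B)) := by
    haveI := hsm
    haveI : IsScalarTower k (A ⧸ IsLocalRing.maximalIdeal A)
        (B ⧸ (IsLocalRing.maximalIdeal A).map (algebraMap A B)) := by
      refine IsScalarTower.of_algebraMap_eq fun c => ?_
      rw [IsScalarTower.algebraMap_apply k A (A ⧸ IsLocalRing.maximalIdeal A),
        IsScalarTower.algebraMap_apply k B (B ⧸ (IsLocalRing.maximalIdeal A).map (algebraMap A B)),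
        IsScalarTower.algebraMap_apply k A B]
      rfl
    refine formallySmooth_of_surjective (k := k) ?_
    intro x
    obtain ⟨a, rfl⟩ := Ideal.Quotient.mk_surjective x
    obtain ⟨c, hc⟩ := hres a
    refine ⟨c, ?_⟩
    rw [IsScalarTower.algebraMap_apply k A (A ⧸ IsLocalRing.maximalIdeal A)]
    exact ((Ideal.Quotient.eq).2 hc).symm
  haveI : Algebra.FormallySmooth A B :=
    Groth.Agent.Lib.Helper19.FlatLift.formallySmooth_of_flat_of_nilpotent
      (IsLocalRing.maximalIdeal A) hnil
  have hJ : J ^ 2 = ⊥ := by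
    rw [hJdef, Ideal.span_singleton_pow, ← map_pow, sq, htm t ht, map_zero]
    exact Ideal.span_singleton_eq_bot.2 rfl
  obtain ⟨g, hg⟩ := Algebra.FormallySmooth.comp_surjective A B J hJ
    (σ.toAlgHom.comp (Ideal.Quotient.mkₐ A J))
  have hg' : ∀ b, Ideal.Quotient.mk J (g b) = σ (Ideal.Quotient.mk J b) := fun b =>
    congrArg (fun h : B →ₐ[A] B ⧸ J => h b) hg
  have hItop : ∀ y : B, y ∈ Ideal.span {t} • (⊤ : Submodule A B) ↔ Ideal.Quotient.mk J y = 0 := by
    intro y
    rw [Ideal.smul_top_eq_map, Submodule.restrictScalars_mem, Ideal.map_span, Set.image_singleton,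
      Ideal.Quotient.eq_zero_iff_mem, hJdef]
  have hInil : IsNilpotent (Ideal.span {t} : Ideal A) := by
    refine ⟨2, ?_⟩
    rw [Ideal.span_singleton_pow, sq, htm t ht]
    exact Ideal.span_singleton_eq_bot.2 rfl
  have hbij : Function.Bijective g := by
    refine Groth.Agent.Lib.Helper19.Rigid.bijective_of_flat_of_nilpotent
      (Ideal.span {t}) hInil g.toLinearMap ?_ ?_
    · intro y
      obtain ⟨x, hx⟩ := Ideal.Quotient.mk_surjective (σ.symm (Ideal.Quotient.mk J y))
      refine ⟨x, ?_⟩
      rw [hItop, map_sub]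
      change _ - Ideal.Quotient.mk J (g x) = 0
      rw [hg', hx, AlgEquiv.apply_symm_apply, sub_self]
    · intro x hx
      rw [hItop] at hx ⊢
      change Ideal.Quotient.mk J (g x) = 0 at hx
      rw [hg'] at hx
      exact (map_eq_zero_iff σ σ.injective).1 hx
  exact ⟨AlgEquiv.ofBijective g hbij, fun b => hg' b⟩

end Groth.Agent.Lib.Helper19.AutLift
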