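import Groth.Agent.Lib.LeadAzumaya
import Groth.Agent.Lib.LeadCSA

/-! # Azumaya algebras: fields and local rings (lead) -/

namespace Groth.Agent.Lib.LeadAzumaya

open TensorProduct

section Field

variable {k : Type*} [Field k] {A : Type*} [Ring A] [Algebra k A]

/-- every element of the two-sided ideal generated by `x` is of the form `mulLeftRight z x` -/
theorem mulLeftRight_apply_mem {R : Type*} [CommRing R] {A : Type*} [Ring A] [Algebra R A]
    (I : TwoSidedIdeal A) {x : A} (hx : x ∈ I) (z : A ⊗[R] Aᵐᵒᵖ) :
    AlgHom.mulLeftRight R A z x ∈ I := by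
  induction z using TensorProduct.induction_on with
  | zero => simp only [map_zero, LinearMap.zero_apply]; exact I.zero_mem
  | add z z' hz hz' => simp only [map_add, LinearMap.add_apply]; exact I.add_mem hz hz'
  | tmul a b =>
    rw [AlgHom.mulLeftRight_apply]
    exact I.mul_mem_right _ _ (I.mul_mem_left _ _ hx)

/-- an Azumaya algebra over a field is simple -/
theorem isSimpleRing_of_isAzumaya_field [IsAzumaya k A] : IsSimpleRing A := by
  haveI : Nontrivial A := by
    have hinj : Function.Injective (algebraMap k A) := FaithfulSMul.algebraMap_injective k A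
    exact hinj.nontrivial
  refine IsSimpleRing.of_eq_bot_or_eq_top fun I => ?_
  by_cases hI : I = ⊥
  · exact Or.inl hI
  right
  obtain ⟨x, hxI, hx0⟩ : ∃ x ∈ I, x ≠ 0 := by
    by_contra hcon
    push_neg at hcon
    apply hI
    rw [eq_bot_iff]
    intro y hy
    rw [TwoSidedIdeal.mem_bot]
    exact hcon y hy
  obtain ⟨φ, hφ⟩ : ∃ φ : Module.Dual k A, φ x ≠ 0 := by
    by_contra hcon
    push_neg at hcon
    exact hx0 ((Module.forall_dual_apply_eq_zero_iff k x).mp hcon)
  let ψ : Module.End k A := (φ x)⁻¹ • (φ.smulRight (1 : A))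
  have hψ : ψ x = 1 := by
    simp only [ψ, LinearMap.smul_apply, LinearMap.smulRight_apply]
    rw [smul_smul, inv_mul_cancel₀ hφ, one_smul]
  obtain ⟨z, hz⟩ := (IsAzumaya.bij (R := k) (A := A)).2 ψ
  have h1 : (1 : A) ∈ I := by
    rw [← hψ, ← hz]
    exact mulLeftRight_apply_mem I hxI z
  rw [eq_top_iff]
  intro y _
  have := I.mul_mem_left y 1 h1
  rwa [mul_one] at this

end Field

section Local

variable {R : Type*} [CommRing R] [IsLocalRing R]

/-- Nakayama: a linear map into a finite module which is surjective mod the maximal ideal is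
surjective -/
theorem surjective_of_lTensor_residueField_surjective {M N : Type*} [AddCommGroup M] [Module R M]
    [AddCommGroup N] [Module R N] [Module.Finite R N] (f : M →ₗ[R] N)
    (hf : Function.Surjective (LinearMap.lTensor (IsLocalRing.ResidueField R) f)) :
    Function.Surjective f := by
  rw [← LinearMap.range_eq_top, ← IsLocalRing.map_tensorProduct_mk_eq_top, eq_top_iff]
  intro z _
  obtain ⟨w, rfl⟩ := hf z
  obtain ⟨m, rfl⟩ := TensorProduct.mk_surjective R M (IsLocalRing.ResidueField R)
    Ideal.Quotient.mk_surjective w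
  refine ⟨f m, ⟨m, rfl⟩, ?_⟩
  simp

variable (R) in
/-- local criterion: a finite free algebra over a local ring is Azumaya iff its special fibre is
central simple -/
theorem isAzumaya_iff_residueField {A : Type*} [Ring A] [Algebra R A] [Module.Finite R A]
    [Module.Free R A] [Nontrivial A] :
    IsAzumaya R A ↔
      (Algebra.IsCentral (IsLocalRing.ResidueField R) ((IsLocalRing.ResidueField R) ⊗[R] A) ∧
        IsSimpleRing ((IsLocalRing.ResidueField R) ⊗[R] A)) := by
  constructor
  · intro h
    haveI : IsAzumaya (IsLocalRing.ResidueField R) ((IsLocalRing.ResidueField R) ⊗[R] A) :=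
      isAzumaya_baseChange _ A
    exact ⟨inferInstance, isSimpleRing_of_isAzumaya_field (k := IsLocalRing.ResidueField R)⟩
  · rintro ⟨hc, hs⟩
    have hk : Function.Bijective (AlgHom.mulLeftRight (IsLocalRing.ResidueField R)
        ((IsLocalRing.ResidueField R) ⊗[R] A)) :=
      Groth.Agent.Lib.LeadCSA.mulLeftRight_bijective
    rw [bijective_mulLeftRight_baseChange_iff] at hk
    have hsurj : Function.Surjective (AlgHom.mulLeftRight R A).toLinearMap :=
      surjective_of_lTensor_residueField_surjective _ hk.2
    have hrank : Module.finrank R (A ⊗[R] Aᵐᵒᵖ) = Module.finrank R (Module.End R A) := by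
      rw [Module.finrank_tensorProduct, Module.finrank_linearMap]
      congr 1
      exact (MulOpposite.opLinearEquiv R : A ≃ₗ[R] Aᵐᵒᵖ).symm.finrank_eq
    let i : A ⊗[R] Aᵐᵒᵖ ≃ₗ[R] Module.End R A := LinearEquiv.ofFinrankEq _ _ hrank
    have hinj : Function.Injective (AlgHom.mulLeftRight R A).toLinearMap :=
      OrzechProperty.injective_of_surjective_of_injective i.toLinearMap _ i.injective hsurj
    haveI : FaithfulSMul R A := faithfulSMul_of_faithfullyFlat (R := R) (M := A)
    exact { bij := ⟨hinj, hsurj⟩ }

end Local

section Ideals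

variable {R : Type*} [CommRing R] {A : Type*} [Ring A] [Algebra R A]

theorem exists_dualBasis (M : Type*) [AddCommGroup M] [Module R M] [Module.Finite R M]
    [Module.Projective R M] :
    ∃ (n : ℕ) (x : Fin n → M) (ξ : Fin n → M →ₗ[R] R), ∀ m : M, m = ∑ i, ξ i m • x i := by
  classical
  obtain ⟨n, f, g, -, -, hfg⟩ := Module.Finite.exists_comp_eq_id_of_projective R M
  refine ⟨n, fun i => f (Pi.single i 1), fun i => (LinearMap.proj i) ∘ₗ g, fun m => ?_⟩
  have h1 : f (g m) = m := by
    have := congrArg (fun h => h m) hfg
    simpa using this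
  conv_lhs => rw [← h1]
  have h2 : g m = ∑ i, (g m i) • (Pi.single i (1 : R) : Fin n → R) := by
    funext j
    simp [Finset.sum_apply, Pi.single_apply]
  rw [h2, map_sum]
  refine Finset.sum_congr rfl fun i _ => ?_
  rw [map_smul]
  rfl

/-- two-sided ideals of an Azumaya algebra are extended from the base -/
theorem asIdeal_eq_map_comap [IsAzumaya R A] (I : TwoSidedIdeal A) :
    TwoSidedIdeal.asIdeal I =
      Ideal.map (algebraMap R A) ((TwoSidedIdeal.asIdeal I).comap (algebraMap R A)) := by
  apply le_antisymm
  · intro x hx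
    rw [TwoSidedIdeal.mem_asIdeal] at hx
    obtain ⟨n, b, ξ, hb⟩ := exists_dualBasis (R := R) A
    rw [hb x]
    refine Ideal.sum_mem _ fun i _ => ?_
    obtain ⟨z, hz⟩ := (IsAzumaya.bij (R := R) (A := A)).2 ((ξ i).smulRight (1 : A))
    have h1 : algebraMap R A (ξ i x) ∈ I := by
      have := mulLeftRight_apply_mem (R := R) I hx z
      rw [hz, LinearMap.smulRight_apply, ← Algebra.algebraMap_eq_smul_one] at this
      exact this
    have h2 : ξ i x • b i = b i * algebraMap R A (ξ i x) := by
      rw [← Algebra.commutes, Algebra.smul_def]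
    rw [h2]
    apply Ideal.mul_mem_left
    apply Ideal.mem_map_of_mem
    rw [Ideal.mem_comap, TwoSidedIdeal.mem_asIdeal]
    exact h1
  · rw [Ideal.map_le_iff_le_comap]

/-- every ideal of the base is contracted from an Azumaya algebra -/
theorem comap_map_eq_self [IsAzumaya R A] (J : Ideal R) :
    (Ideal.map (algebraMap R A) J).comap (algebraMap R A) = J := by
  apply le_antisymm
  · intro r hr
    rw [Ideal.mem_comap] at hr
    haveI : Module.FaithfullyFlat R A := faithfullyFlat_of_finite_of_faithful
    haveI : FaithfulSMul (R ⧸ J) ((R ⧸ J) ⊗[R] A) :=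
      faithfulSMul_of_faithfullyFlat (R := R ⧸ J) (M := (R ⧸ J) ⊗[R] A)
    have key : ∀ y ∈ Ideal.map (algebraMap R A) J, ∀ (s : R ⧸ J) (a c : A),
        s ⊗ₜ[R] (c * y * a) = (0 : (R ⧸ J) ⊗[R] A) := by
      intro y hy
      refine Submodule.span_induction ?_ ?_ ?_ ?_ hy
      · rintro _ ⟨j, hj, rfl⟩ s a c
        have h1 : c * algebraMap R A j * a = j • (c * a) := by
          rw [← Algebra.commutes, mul_assoc, ← Algebra.smul_def]
        rw [h1, TensorProduct.tmul_smul, TensorProduct.smul_tmul']
        have h2 : j • s = 0 := by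
          rw [Algebra.smul_def]
          have : algebraMap R (R ⧸ J) j = 0 := Ideal.Quotient.eq_zero_iff_mem.mpr hj
          rw [this, zero_mul]
        rw [h2, TensorProduct.zero_tmul]
      · intro s a c
        simp
      · intro y y' _ _ hy hy' s a c
        rw [mul_add, add_mul, TensorProduct.tmul_add, hy, hy', add_zero]
      · intro d y _ hy s a c
        rw [smul_eq_mul, ← mul_assoc]
        exact hy s a (c * d)
    have h0 : (Ideal.Quotient.mk J r : R ⧸ J) = 0 := by
      apply FaithfulSMul.eq_of_smul_eq_smul (α := (R ⧸ J) ⊗[R] A)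
      intro z
      rw [zero_smul]
      induction z using TensorProduct.induction_on with
      | zero => simp
      | add z z' hz hz' => rw [smul_add, hz, hz', add_zero]
      | tmul s a =>
        have h1 : (Ideal.Quotient.mk J r : R ⧸ J) • (s ⊗ₜ[R] a) = s ⊗ₜ[R] (1 * algebraMap R A r * a) := by
          rw [one_mul, ← Algebra.smul_def, TensorProduct.tmul_smul, TensorProduct.smul_tmul',
            TensorProduct.smul_tmul', smul_eq_mul, Algebra.smul_def]
          rfl
        rw [h1]
        exact key _ hr s a 1
    exact Ideal.Quotient.eq_zero_iff_mem.mp h0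
  · exact Ideal.le_comap_map

end Ideals

section SpecSurjective

variable {R : Type*} [CommRing R] {S : Type*} [CommRing S] [Algebra R S]

/-- a finite module which dies after a Spec-surjective base change is zero -/
theorem subsingleton_of_baseChange_of_comap_surjective
    (hS : Function.Surjective (PrimeSpectrum.comap (algebraMap R S)))
    (M : Type*) [AddCommGroup M] [Module R M] [Module.Finite R M] [Subsingleton (S ⊗[R] M)] :
    Subsingleton M := by
  by_contra hM
  rw [not_subsingleton_iff_nontrivial] at hM
  obtain ⟨p, hp⟩ := Module.nonempty_support_of_nontrivial (R := R) (M := M)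
  rw [Module.mem_support_iff_nontrivial_residueField_tensorProduct] at hp
  have hpS : Nontrivial (p.asIdeal.ResidueField ⊗[R] S) :=
    (PrimeSpectrum.nontrivial_iff_mem_rangeComap p).mpr (hS p)
  let K := p.asIdeal.ResidueField
  haveI : Nontrivial (K ⊗[R] S) := hpS
  haveI : Nontrivial (K ⊗[R] M) := hp
  haveI : Module.FaithfullyFlat K (K ⊗[R] S) := inferInstance
  haveI : Nontrivial ((K ⊗[R] S) ⊗[K] (K ⊗[R] M)) := inferInstance
  let e1 : (K ⊗[R] S) ⊗[K] (K ⊗[R] M) ≃ₗ[K] (K ⊗[R] S) ⊗[R] M :=
    TensorProduct.AlgebraTensorModule.cancelBaseChange R K K (K ⊗[R] S) M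
  let e2 : (K ⊗[R] S) ⊗[R] M ≃ₗ[R] K ⊗[R] (S ⊗[R] M) := TensorProduct.assoc R K S M
  haveI : Subsingleton (K ⊗[R] (S ⊗[R] M)) := inferInstance
  haveI : Subsingleton ((K ⊗[R] S) ⊗[R] M) := e2.toEquiv.subsingleton
  haveI : Subsingleton ((K ⊗[R] S) ⊗[K] (K ⊗[R] M)) := e1.toEquiv.subsingleton
  exact not_nontrivial _ ‹Nontrivial ((K ⊗[R] S) ⊗[K] (K ⊗[R] M))›

/-- surjectivity descends along Spec-surjective base change (finite target) -/
theorem surjective_of_lTensor_surjective_of_comap_surjective
    (hS : Function.Surjective (PrimeSpectrum.comap (algebraMap R S)))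
    {M N : Type*} [AddCommGroup M] [Module R M] [AddCommGroup N] [Module R N] [Module.Finite R N]
    (φ : M →ₗ[R] N) (h : Function.Surjective (LinearMap.lTensor S φ)) : Function.Surjective φ := by
  let C := N ⧸ LinearMap.range φ
  let π : N →ₗ[R] C := (LinearMap.range φ).mkQ
  have hπ : Function.Surjective π := Submodule.mkQ_surjective _
  have hex : Function.Exact φ π := LinearMap.exact_map_mkQ_range φ
  have hex' := lTensor_exact S hex hπ
  haveI : Subsingleton (S ⊗[R] C) := by
    refine ⟨fun z z' => ?_⟩
    have hz : ∀ z : S ⊗[R] C, z = 0 := by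
      intro z
      obtain ⟨w, rfl⟩ := LinearMap.lTensor_surjective S hπ z
      obtain ⟨v, rfl⟩ := h w
      exact (hex' _).mpr ⟨v, rfl⟩
    rw [hz z, hz z']
  haveI : Subsingleton C := subsingleton_of_baseChange_of_comap_surjective hS C
  rw [← LinearMap.range_eq_top]
  exact Submodule.Quotient.subsingleton_iff.mp ‹Subsingleton C›

/-- bijectivity of a map of finite projective modules descends along Spec-surjective base change -/
theorem bijective_of_lTensor_bijective_of_comap_surjective
    (hS : Function.Surjective (PrimeSpectrum.comap (algebraMap R S)))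
    {M N : Type*} [AddCommGroup M] [Module R M] [AddCommGroup N] [Module R N]
    [Module.Finite R M] [Module.Projective R M] [Module.Finite R N] [Module.Projective R N]
    (φ : M →ₗ[R] N) (h : Function.Bijective (LinearMap.lTensor S φ)) : Function.Bijective φ := by
  have hsurj := surjective_of_lTensor_surjective_of_comap_surjective hS φ h.2
  refine Module.bijective_of_surjective_of_rankAtStalk_eq hsurj fun m _ => ?_
  obtain ⟨q, hq⟩ := hS ⟨m, inferInstance⟩
  have e : S ⊗[R] M ≃ₗ[S] S ⊗[R] N :=
    LinearEquiv.ofBijective (LinearMap.baseChange S φ) (by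
      rw [LinearMap.baseChange_eq_ltensor]
      exact h)
  have h1 := Module.rankAtStalk_baseChange (R := R) (M := M) q
  have h2 := Module.rankAtStalk_baseChange (R := R) (M := N) q
  rw [hq] at h1 h2
  rw [← h1, ← h2, Module.rankAtStalk_eq_of_equiv e]

end SpecSurjective

section AzumayaSpecSurjective

variable {R : Type*} [CommRing R] {S : Type*} [CommRing S] [Algebra R S]

/-- Azumaya descends along Spec-surjective base change for finite projective algebras -/
theorem isAzumaya_of_comap_surjective
    (hS : Function.Surjective (PrimeSpectrum.comap (algebraMap R S)))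
    (B : Type*) [Ring B] [Algebra R B] [Module.Finite R B] [Module.Projective R B]
    [IsAzumaya S (S ⊗[R] B)] : IsAzumaya R B := by
  have hbij : Function.Bijective (AlgHom.mulLeftRight R B) := by
    have h1 := (bijective_mulLeftRight_baseChange_iff (R := R) S B).mp
      (IsAzumaya.bij (R := S) (A := S ⊗[R] B))
    haveI : Module.Finite R Bᵐᵒᵖ := Module.Finite.equiv (MulOpposite.opLinearEquiv R)
    haveI : Module.Projective R Bᵐᵒᵖ := Module.Projective.of_equiv (MulOpposite.opLinearEquiv R)
    haveI : Module.Finite R (Module.End R B) := Module.Finite.equiv (dualTensorHomEquiv R B B)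
    haveI : Module.Projective R (Module.End R B) :=
      Module.Projective.of_equiv (dualTensorHomEquiv R B B)
    exact bijective_of_lTensor_bijective_of_comap_surjective hS _ h1
  haveI : FaithfulSMul R B := by
    -- rank is positive everywhere
    haveI : Module.FaithfullyFlat R B := by
      rw [Module.FaithfullyFlat.iff_flat_and_ideal_smul_eq_top]
      refine ⟨inferInstance, fun I hI => ?_⟩
      by_contra hne
      obtain ⟨m, hm, hIm⟩ := Ideal.exists_le_maximal I hne
      obtain ⟨q, hq⟩ := hS ⟨m, hm.isPrime⟩
      have hmq : ∀ r ∈ I, algebraMap R S r ∈ q.asIdeal := by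
        intro r hr
        have : r ∈ (PrimeSpectrum.comap (algebraMap R S) q).asIdeal := by
          rw [hq]
          exact hIm hr
        exact this
      haveI : Module.FaithfullyFlat S (S ⊗[R] B) :=
        faithfullyFlat_of_finite_of_faithful (R := S) (M := S ⊗[R] B)
      have hne' := ((Module.FaithfullyFlat.iff_flat_and_proper_ideal S (S ⊗[R] B)).mp
        inferInstance).2 q.asIdeal q.isPrime.ne_top
      apply hne'
      rw [eq_top_iff]
      intro z _
      induction z using TensorProduct.induction_on with
      | zero => exact Submodule.zero_mem _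
      | add z z' hz hz' => exact Submodule.add_mem _ (hz trivial) (hz' trivial)
      | tmul s b =>
        have hb : b ∈ I • (⊤ : Submodule R B) := by rw [hI]; trivial
        refine Submodule.smul_induction_on hb ?_ ?_
        · intro r hr b' _
          have : s ⊗ₜ[R] (r • b') = algebraMap R S r • (s ⊗ₜ[R] b') := by
            rw [TensorProduct.tmul_smul, algebraMap_smul]
          rw [this]
          exact Submodule.smul_mem_smul (hmq r hr) trivial
        · intro x y hx hy
          rw [TensorProduct.tmul_add]
          exact Submodule.add_mem _ hx hy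
    exact faithfulSMul_of_faithfullyFlat (R := R) (M := B)
  exact { bij := hbij }

end AzumayaSpecSurjective

end Groth.Agent.Lib.LeadAzumaya
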