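import Mathlib
import Groth.Agent.Lib.LeadAzumaya
import Groth.Agent.Lib.LeadAzumayaLocal

/-!
# Splitting Azumaya algebras (helper19), part A: matrix units

`IsMatUnits e`: the family `e a b` is a full system of `n × n` matrix units in a ring.  Matrix
units are preserved by ring homomorphisms; a full system of matrix units in an Azumaya algebra of
degree `n` gives an isomorphism with the matrix algebra.
-/

set_option autoImplicit false

open TensorProduct

namespace Groth.Agent.Lib.Helper19AzSplit

/-- a full system of `n × n` matrix units in a ring -/
structure IsMatUnits {B : Type*} [Ring B] {n : ℕ} (e : Fin n → Fin n → B) : Prop where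
  mul : ∀ a b c d, e a b * e c d = if b = c then e a d else 0
  sum : ∑ a, e a a = 1

theorem IsMatUnits.map {B B' : Type*} [Ring B] [Ring B'] {n : ℕ} {e : Fin n → Fin n → B}
    (he : IsMatUnits e) (f : B →+* B') : IsMatUnits (fun a b => f (e a b)) where
  mul a b c d := by
    rw [← map_mul, he.mul]
    split_ifs <;> simp
  sum := by rw [← map_sum, he.sum, map_one]

/-- the standard matrix units -/
theorem isMatUnits_single (R : Type*) [CommRing R] (n : ℕ) :
    IsMatUnits (fun a b : Fin n => Matrix.single a b (1 : R)) where
  mul a b c d := by
    by_cases h : b = c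
    · subst h
      simp
    · simp [h, Matrix.single_mul_single_of_ne]
  sum := by
    ext i j
    rw [Matrix.sum_apply]
    by_cases hij : i = j
    · subst hij
      rw [Finset.sum_eq_single i]
      · simp
      · intro a _ ha
        rw [Matrix.single_apply_of_ne]
        exact fun h => ha h.1
      · intro h
        exact absurd (Finset.mem_univ i) h
    · rw [Matrix.one_apply_ne hij]
      apply Finset.sum_eq_zero
      intro a _
      rw [Matrix.single_apply_of_ne]
      exact fun h => hij (h.1.symm.trans h.2)

section Hom

variable {R : Type*} [CommRing R] {B : Type*} [Ring B] [Algebra R B] {n : ℕ}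
  (e : Fin n → Fin n → B) (he : IsMatUnits e)

/-- the linear map from matrices determined by a family of elements -/
noncomputable def matLin : Matrix (Fin n) (Fin n) R →ₗ[R] B where
  toFun X := ∑ a, ∑ b, X a b • e a b
  map_add' X Y := by
    simp only [Matrix.add_apply, add_smul, Finset.sum_add_distrib]
  map_smul' r X := by
    simp only [Matrix.smul_apply, smul_eq_mul, mul_smul, Finset.smul_sum, RingHom.id_apply]

theorem matLin_apply (X : Matrix (Fin n) (Fin n) R) :
    matLin (R := R) e X = ∑ a, ∑ b, X a b • e a b := rfl

include he in
theorem matLin_mul (X Y : Matrix (Fin n) (Fin n) R) :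
    matLin (R := R) e (X * Y) = matLin (R := R) e X * matLin (R := R) e Y := by
  classical
  have h1 : ∀ a b, (X a b • e a b) * (∑ c, ∑ d, Y c d • e c d) =
      ∑ d, (X a b * Y b d) • e a d := by
    intro a b
    rw [Finset.mul_sum, Finset.sum_eq_single b]
    · rw [Finset.mul_sum]
      refine Finset.sum_congr rfl fun d _ => ?_
      rw [smul_mul_smul_comm, he.mul, if_pos rfl]
    · intro c _ hc
      rw [Finset.mul_sum]
      apply Finset.sum_eq_zero
      intro d _
      rw [smul_mul_smul_comm, he.mul, if_neg (Ne.symm hc), smul_zero]
    · intro h
      exact absurd (Finset.mem_univ b) h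
  rw [matLin_apply, matLin_apply, matLin_apply, Finset.sum_mul]
  refine Finset.sum_congr rfl fun a _ => ?_
  rw [Finset.sum_mul]
  simp only [h1]
  rw [Finset.sum_comm]
  refine Finset.sum_congr rfl fun c _ => ?_
  rw [Matrix.mul_apply, Finset.sum_smul]

include he in
theorem matLin_one : matLin (R := R) e (1 : Matrix (Fin n) (Fin n) R) = 1 := by
  classical
  rw [matLin_apply, ← he.sum]
  refine Finset.sum_congr rfl fun a _ => ?_
  rw [Finset.sum_eq_single a]
  · simp
  · intro b _ hb
    rw [Matrix.one_apply_ne (Ne.symm hb), zero_smul]
  · intro h
    exact absurd (Finset.mem_univ a) h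

/-- the algebra homomorphism from the matrix algebra determined by matrix units -/
noncomputable def matHom : Matrix (Fin n) (Fin n) R →ₐ[R] B :=
  AlgHom.ofLinearMap (matLin (R := R) e) (matLin_one e he) (matLin_mul e he)

theorem matHom_apply (X : Matrix (Fin n) (Fin n) R) :
    matHom (R := R) e he X = ∑ a, ∑ b, X a b • e a b := rfl

theorem matHom_single (a b : Fin n) :
    matHom (R := R) e he (Matrix.single a b (1 : R)) = e a b := by
  classical
  rw [matHom_apply, Finset.sum_eq_single a, Finset.sum_eq_single b]
  · simp
  · intro b' _ hb'
    rw [Matrix.single_apply_of_ne, zero_smul]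
    exact fun h => hb' h.2.symm
  · intro h
    exact absurd (Finset.mem_univ b) h
  · intro a' _ ha'
    apply Finset.sum_eq_zero
    intro b' _
    rw [Matrix.single_apply_of_ne, zero_smul]
    exact fun h => ha' h.1.symm
  · intro h
    exact absurd (Finset.mem_univ a) h

end Hom

end Groth.Agent.Lib.Helper19AzSplit
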