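import Mathlib
import Groth.Agent.Lib.Helper19AzSplitA

/-!
# Splitting Azumaya algebras (helper19), part B: homomorphisms of Azumaya algebras of equal rank

An algebra homomorphism between Azumaya algebras whose ranks agree at every prime is bijective.
Consequently a full system of `n × n` matrix units in an Azumaya algebra of degree `n` gives an
isomorphism with the matrix algebra.
-/

set_option autoImplicit false
set_option linter.style.haveILetI false

open TensorProduct

namespace Groth.Agent.Lib.Helper19AzSplit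

open Groth.Agent.Lib.LeadAzumaya

section Nak

variable {R : Type*} [CommRing R] {M : Type*} [AddCommGroup M] [Module R M] [Module.Finite R M]

/-- a submodule of a finite module which generates modulo every maximal ideal is everything -/
theorem eq_top_of_forall_maximal (N : Submodule R M)
    (h : ∀ m : Ideal R, m.IsMaximal → N ⊔ m • (⊤ : Submodule R M) = ⊤) : N = ⊤ := by
  by_contra hN
  have hI : N.colon (⊤ : Submodule R M) ≠ ⊤ := by
    intro htop
    apply hN
    rw [eq_top_iff]
    intro x _
    have h1 : (1 : R) ∈ N.colon (⊤ : Submodule R M) := by rw [htop]; trivial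
    have := Submodule.mem_colon.mp h1 x trivial
    rwa [one_smul] at this
  obtain ⟨m, hm, hle⟩ := Ideal.exists_le_maximal _ hI
  obtain ⟨r, hr1, hr⟩ := Submodule.exists_sub_one_mem_and_smul_le_of_fg_of_le_sup
    (I := m) (N := N) (N' := ⊤) (P := ⊤) (Module.Finite.fg_top) le_rfl (h m hm).ge
  have hrI : r ∈ N.colon (⊤ : Submodule R M) := by
    rw [Submodule.mem_colon]
    intro p hp
    exact hr (Submodule.smul_mem_pointwise_smul p r ⊤ hp)
  have hrm : r ∈ m := hle hrI
  apply hm.ne_top
  rw [Ideal.eq_top_iff_one]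
  have : (1 : R) = r - (r - 1) := by ring
  rw [this]
  exact m.sub_mem hrm hr1

end Nak

section Bij

variable {R : Type*} [CommRing R] {B₁ B₂ : Type*} [Ring B₁] [Ring B₂] [Algebra R B₁]
  [Algebra R B₂] [IsAzumaya R B₁] [IsAzumaya R B₂]

theorem surjective_of_isAzumaya
    (hr : ∀ p : PrimeSpectrum R, Module.rankAtStalk (R := R) B₁ p = Module.rankAtStalk (R := R) B₂ p)
    (φ : B₁ →ₐ[R] B₂) : Function.Surjective φ := by
  rw [← AlgHom.coe_toLinearMap, ← LinearMap.range_eq_top]
  apply eq_top_of_forall_maximal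
  intro m hm
  rw [eq_top_iff]
  intro b₂ _
  letI : Field (R ⧸ m) := Ideal.Quotient.field m
  let k := R ⧸ m
  haveI : IsAzumaya k (k ⊗[R] B₁) := isAzumaya_baseChange k B₁
  haveI : IsAzumaya k (k ⊗[R] B₂) := isAzumaya_baseChange k B₂
  haveI : IsSimpleRing (k ⊗[R] B₁) := isSimpleRing_of_isAzumaya_field (k := k)
  haveI : Nontrivial (k ⊗[R] B₂) :=
    (FaithfulSMul.algebraMap_injective k (k ⊗[R] B₂)).nontrivial
  let φk : k ⊗[R] B₁ →ₐ[k] k ⊗[R] B₂ := Algebra.TensorProduct.map (AlgHom.id k k) φ
  have hinj : Function.Injective φk := RingHom.injective φk.toRingHom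
  have hfr : Module.finrank k (k ⊗[R] B₁) = Module.finrank k (k ⊗[R] B₂) := by
    let p₀ : PrimeSpectrum k := ⟨⊥, Ideal.isPrime_bot⟩
    have e1 := congrFun (Module.rankAtStalk_eq_finrank_of_free (R := k) (M := k ⊗[R] B₁)) p₀
    have e2 := congrFun (Module.rankAtStalk_eq_finrank_of_free (R := k) (M := k ⊗[R] B₂)) p₀
    rw [Module.rankAtStalk_baseChange] at e1 e2
    rw [hr] at e1
    exact e1.symm.trans e2
  have hsurj : Function.Surjective φk :=
    (LinearMap.injective_iff_surjective_of_finrank_eq_finrank (f := φk.toLinearMap) hfr).mp hinj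
  obtain ⟨z, hz⟩ := hsurj ((1 : k) ⊗ₜ[R] b₂)
  obtain ⟨b₁, hb₁⟩ := TensorProduct.mk_surjective R B₁ k Ideal.Quotient.mk_surjective z
  have hb₁' : (1 : k) ⊗ₜ[R] b₁ = z := hb₁
  have h1 : (1 : k) ⊗ₜ[R] (b₂ - φ b₁) = 0 := by
    rw [TensorProduct.tmul_sub, ← hz, ← hb₁']
    change _ - (1 : k) ⊗ₜ[R] φ b₁ = 0
    simp [φk]
  have h2 : b₂ - φ b₁ ∈ m • (⊤ : Submodule R B₂) := by
    have h3 := congrArg (TensorProduct.quotTensorEquivQuotSMul B₂ m) h1
    rw [TensorProduct.quotTensorEquivQuotSMul_mk_one_tmul, map_zero,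
      Submodule.Quotient.mk_eq_zero] at h3
    exact h3
  have : b₂ = φ.toLinearMap b₁ + (b₂ - φ b₁) := by
    rw [AlgHom.toLinearMap_apply]; abel
  rw [this]
  exact Submodule.add_mem_sup (LinearMap.mem_range_self _ _) h2

theorem bijective_of_isAzumaya
    (hr : ∀ p : PrimeSpectrum R, Module.rankAtStalk (R := R) B₁ p = Module.rankAtStalk (R := R) B₂ p)
    (φ : B₁ →ₐ[R] B₂) : Function.Bijective φ := by
  have hs := surjective_of_isAzumaya hr φ
  have := Module.bijective_of_surjective_of_rankAtStalk_eq (φ := φ.toLinearMap) hs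
    (fun m _ => hr ⟨m, inferInstance⟩)
  exact this

end Bij

section Mat

variable {R : Type*} [CommRing R] {B : Type*} [Ring B] [Algebra R B] [IsAzumaya R B] {n : ℕ}

/-- matrix units in an Azumaya algebra of degree `n` give an isomorphism with the matrix algebra -/
theorem bijective_matHom (hn : 0 < n)
    (hrank : ∀ p : PrimeSpectrum R, Module.rankAtStalk (R := R) B p = n ^ 2)
    (e : Fin n → Fin n → B) (he : IsMatUnits e) : Function.Bijective (matHom (R := R) e he) := by
  by_cases hR : Nontrivial R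
  · haveI : Nonempty (Fin n) := ⟨⟨0, hn⟩⟩
    haveI : IsAzumaya R (Matrix (Fin n) (Fin n) R) := IsAzumaya.matrix R (Fin n)
    apply bijective_of_isAzumaya
    intro p
    have e1 := congrFun (Module.rankAtStalk_eq_finrank_of_free (R := R)
      (M := Matrix (Fin n) (Fin n) R)) p
    rw [hrank, e1]
    simp [Module.finrank_matrix, sq]
  · rw [not_nontrivial_iff_subsingleton] at hR
    haveI : Subsingleton B := Module.subsingleton R B
    haveI : Subsingleton (Matrix (Fin n) (Fin n) R) := Module.subsingleton R _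
    exact ⟨fun _ _ _ => Subsingleton.elim _ _, fun b => ⟨0, Subsingleton.elim _ _⟩⟩

end Mat

end Groth.Agent.Lib.Helper19AzSplit
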