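import Groth.Agent.Lib.LeadHZ2

/-! Isomorphisms of Azumaya algebras lift from the residue field of a henselian local ring. -/

universe u

namespace Groth.Agent.Lib.LeadHZ

open TensorProduct MulOpposite Groth.Agent.Lib.LeadAzumaya

section Residue

variable (R : Type u) [CommRing R] [IsLocalRing R] (A B : Type u) [Ring A] [Algebra R A] [Ring B]
  [Algebra R B]

local notation "κ" => IsLocalRing.ResidueField R

theorem exists_Psi_eq [IsAzumaya R B] (F : A →ₐ[R] κ ⊗[R] B) (hF : Function.Surjective F)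
    (φ : Module.End R (κ ⊗[R] B)) :
    ∃ c, Psi F (Algebra.TensorProduct.includeRight : B →ₐ[R] κ ⊗[R] B) c = φ := by
  haveI : IsAzumaya κ (κ ⊗[R] B) := isAzumaya_baseChange κ B
  have hs : Function.Surjective (algebraMap R κ) := IsLocalRing.residue_surjective
  have key : ∀ z : (κ ⊗[R] B) ⊗[κ] (κ ⊗[R] B)ᵐᵒᵖ, ∃ c, ∀ x,
      Psi F (Algebra.TensorProduct.includeRight : B →ₐ[R] κ ⊗[R] B) c x
        = AlgHom.mulLeftRight κ (κ ⊗[R] B) z x := by
    intro z
    induction z using TensorProduct.induction_on with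
    | zero => exact ⟨0, fun x => by simp⟩
    | tmul x₁ x₂ =>
      obtain ⟨a, rfl⟩ := hF x₁
      obtain ⟨b, hb⟩ := TensorProduct.mk_surjective R B κ Ideal.Quotient.mk_surjective x₂.unop
      refine ⟨a ⊗ₜ op b, fun x => ?_⟩
      rw [Psi_tmul, AlgHom.mulLeftRight_apply, ← hb]
      rfl
    | add z z' hz hz' =>
      obtain ⟨c, hc⟩ := hz
      obtain ⟨c', hc'⟩ := hz'
      exact ⟨c + c', fun x => by
        rw [map_add, map_add, LinearMap.add_apply, LinearMap.add_apply, hc, hc']⟩
  obtain ⟨z, hz⟩ := (IsAzumaya.bij (R := κ) (A := κ ⊗[R] B)).2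
    (LinearMap.extendScalarsOfSurjective hs φ)
  obtain ⟨c, hc⟩ := key z
  refine ⟨c, LinearMap.ext fun x => ?_⟩
  rw [hc, hz]
  rfl

theorem Psi_ker [IsAzumaya R A] [IsAzumaya R B] (F : A →ₐ[R] κ ⊗[R] B)
    (hF : Function.Surjective F) (hrank : Module.finrank R A = Module.finrank R B)
    (d : A ⊗[R] Bᵐᵒᵖ)
    (hd : Psi F (Algebra.TensorProduct.includeRight : B →ₐ[R] κ ⊗[R] B) d = 0) :
    d ∈ IsLocalRing.maximalIdeal R • (⊤ : Submodule R (A ⊗[R] Bᵐᵒᵖ)) := by
  haveI : Module.Free R A := Module.free_of_flat_of_isLocalRing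
  haveI : Module.Free R B := Module.free_of_flat_of_isLocalRing
  haveI : Module.Free R Bᵐᵒᵖ := Module.Free.of_equiv (opLinearEquiv R : B ≃ₗ[R] Bᵐᵒᵖ)
  have hs : Function.Surjective (algebraMap R κ) := IsLocalRing.residue_surjective
  let L : A ⊗[R] Bᵐᵒᵖ →ₗ[R] Module.End κ (κ ⊗[R] B) :=
    (LinearMap.extendScalarsOfSurjectiveEquiv hs).toLinearMap ∘ₗ
      (Psi F (Algebra.TensorProduct.includeRight : B →ₐ[R] κ ⊗[R] B)).toLinearMap
  let Lt : κ ⊗[R] (A ⊗[R] Bᵐᵒᵖ) →ₗ[κ] Module.End κ (κ ⊗[R] B) := L.liftBaseChange κ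
  have hsurj : Function.Surjective Lt := by
    intro φ
    obtain ⟨c, hc⟩ := exists_Psi_eq R A B F hF (φ.restrictScalars R)
    refine ⟨1 ⊗ₜ c, ?_⟩
    rw [LinearMap.liftBaseChange_tmul, one_smul]
    refine LinearMap.ext fun x => ?_
    show Psi F (Algebra.TensorProduct.includeRight : B →ₐ[R] κ ⊗[R] B) c x = φ x
    rw [hc]
    rfl
  have hfr : Module.finrank κ (κ ⊗[R] (A ⊗[R] Bᵐᵒᵖ))
      = Module.finrank κ (Module.End κ (κ ⊗[R] B)) := by
    rw [Module.finrank_baseChange, Module.finrank_tensorProduct, Module.finrank_linearMap,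
      Module.finrank_baseChange, hrank]
    congr 1
    exact (opLinearEquiv R : B ≃ₗ[R] Bᵐᵒᵖ).symm.finrank_eq
  have hinj : Function.Injective Lt :=
    (LinearMap.injective_iff_surjective_of_finrank_eq_finrank hfr).mpr hsurj
  apply mem_smul_top_of_one_tmul_eq_zero
  apply hinj
  rw [map_zero, LinearMap.liftBaseChange_tmul, one_smul]
  show (LinearMap.extendScalarsOfSurjectiveEquiv hs)
    (Psi F (Algebra.TensorProduct.includeRight : B →ₐ[R] κ ⊗[R] B) d) = 0
  rw [hd, map_zero]

end Residue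

theorem azumaya_algEquiv_lift (R : Type u) [CommRing R] [HenselianLocalRing R] (A : Type u)
    [Ring A] [Algebra R A] [IsAzumaya R A] (B : Type u) [Ring B] [Algebra R B] [IsAzumaya R B]
    (e₀ : (IsLocalRing.ResidueField R ⊗[R] A) ≃ₐ[IsLocalRing.ResidueField R]
      (IsLocalRing.ResidueField R ⊗[R] B)) :
    ∃ e : A ≃ₐ[R] B, ∀ a : A, e₀ ((1 : IsLocalRing.ResidueField R) ⊗ₜ[R] a)
      = (1 : IsLocalRing.ResidueField R) ⊗ₜ[R] (e a) := by
  haveI : Module.Free R A := Module.free_of_flat_of_isLocalRing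
  haveI : Module.Free R B := Module.free_of_flat_of_isLocalRing
  let F : A →ₐ[R] IsLocalRing.ResidueField R ⊗[R] B :=
    (e₀.toAlgHom.restrictScalars R).comp Algebra.TensorProduct.includeRight
  have hFa : ∀ a, F a = e₀ ((1 : IsLocalRing.ResidueField R) ⊗ₜ[R] a) := fun a => rfl
  have hF : Function.Surjective F := by
    intro y
    obtain ⟨a, ha⟩ := TensorProduct.mk_surjective R A (IsLocalRing.ResidueField R)
      Ideal.Quotient.mk_surjective (e₀.symm y)
    refine ⟨a, ?_⟩
    rw [hFa]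
    have h1 : (1 : IsLocalRing.ResidueField R) ⊗ₜ[R] a = e₀.symm y := ha
    rw [h1, AlgEquiv.apply_symm_apply]
  have hrank : Module.finrank R A = Module.finrank R B := by
    have := e₀.toLinearEquiv.finrank_eq
    rwa [Module.finrank_baseChange, Module.finrank_baseChange] at this
  haveI : IsAzumaya (IsLocalRing.ResidueField R) (IsLocalRing.ResidueField R ⊗[R] B) :=
    isAzumaya_baseChange _ B
  haveI : Nontrivial (IsLocalRing.ResidueField R ⊗[R] B) := by
    by_contra hn
    rw [not_nontrivial_iff_subsingleton] at hn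
    have h10 : (1 : IsLocalRing.ResidueField R) = 0 :=
      FaithfulSMul.eq_of_smul_eq_smul (α := IsLocalRing.ResidueField R ⊗[R] B)
        fun x => Subsingleton.elim _ _
    exact one_ne_zero h10
  obtain ⟨lam, hlam⟩ := LinearMap.exists_leftInverse_of_injective
    (Algebra.linearMap (IsLocalRing.ResidueField R) (IsLocalRing.ResidueField R ⊗[R] B))
    (LinearMap.ker_eq_bot.mpr
      (algebraMap (IsLocalRing.ResidueField R) (IsLocalRing.ResidueField R ⊗[R] B)).injective)
  have hlam1 : lam 1 = 1 := by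
    have := congrArg (fun f => f (1 : IsLocalRing.ResidueField R)) hlam
    simpa [Algebra.TensorProduct.one_def] using this
  let π₁ : Module.End R (IsLocalRing.ResidueField R ⊗[R] B) :=
    ((Algebra.linearMap (IsLocalRing.ResidueField R) (IsLocalRing.ResidueField R ⊗[R] B)) ∘ₗ
      lam).restrictScalars R
  have hπa : ∀ x, π₁ x = algebraMap (IsLocalRing.ResidueField R)
      (IsLocalRing.ResidueField R ⊗[R] B) (lam x) := fun x => rfl
  have hπ1 : π₁ 1 = 1 := by
    rw [hπa, hlam1, map_one]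
  have hπ : ∀ x, ∃ r : R, π₁ x = r • (1 : IsLocalRing.ResidueField R ⊗[R] B) := by
    intro x
    obtain ⟨r, hr⟩ := IsLocalRing.residue_surjective (lam x)
    refine ⟨r, ?_⟩
    rw [hπa, ← hr]
    have h2 : algebraMap (IsLocalRing.ResidueField R) (IsLocalRing.ResidueField R ⊗[R] B)
        (IsLocalRing.residue R r) = algebraMap R (IsLocalRing.ResidueField R ⊗[R] B) r :=
      (IsScalarTower.algebraMap_apply R (IsLocalRing.ResidueField R)
        (IsLocalRing.ResidueField R ⊗[R] B) r).symm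
    rw [h2, Algebra.algebraMap_eq_smul_one]
  obtain ⟨e, he⟩ := exists_algHom_lift R A B F
    (Algebra.TensorProduct.includeRight : B →ₐ[R] IsLocalRing.ResidueField R ⊗[R] B)
    (fun x => by
      obtain ⟨b, hb⟩ := TensorProduct.mk_surjective R B (IsLocalRing.ResidueField R)
        Ideal.Quotient.mk_surjective x
      exact ⟨b, hb⟩)
    (fun b hb => mem_smul_top_of_one_tmul_eq_zero b hb)
    (exists_Psi_eq R A B F hF)
    (fun d hd => Psi_ker R A B F hF hrank d hd)
    π₁ hπ1 hπ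
  refine ⟨AlgEquiv.ofBijective e
    (Groth.Agent.Lib.LeadRG.algHom_bijective_of_finrank_eq hrank e), fun a => ?_⟩
  rw [← hFa, he a]
  rfl

end Groth.Agent.Lib.LeadHZ
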