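import Mathlib
import Groth.Agent.Lib.Helper19AzSplitB
import Groth.Agent.Lib.LeadHZ3
import Groth.Agent.Lib.LeadCSA
import Groth.Agent.Lib.Helper16HenselInv

/-!
# Splitting Azumaya algebras (helper19), part C: strictly henselian local rings

An Azumaya algebra of degree `n` over a strictly henselian local ring contains a full system of
`n × n` matrix units (universe polymorphic).
-/

set_option autoImplicit false
set_option linter.style.haveILetI false

open TensorProduct

namespace Groth.Agent.Lib.Helper19AzSplit

open Groth.Agent.Lib.LeadAzumaya IsLocalRing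

universe a b

section SameUniverse

variable (T : Type a) [CommRing T] [HenselianLocalRing T] [IsSepClosed (ResidueField T)]
  (B : Type a) [Ring B] [Algebra T B] [IsAzumaya T B] (n : ℕ)

/-- the special fibre of an Azumaya algebra of rank `n ^ 2` over a strictly henselian local ring is
a matrix algebra of size `n` -/
theorem exists_residue_equiv_matrix (hn : 0 < n) (hfr : Module.finrank T B = n ^ 2) :
    Nonempty ((ResidueField T ⊗[T] B) ≃ₐ[ResidueField T]
      Matrix (Fin n) (Fin n) (ResidueField T)) := by
  haveI : Module.Free T B := Module.free_of_flat_of_isLocalRing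
  haveI : Nontrivial B := by
    apply Module.nontrivial_of_finrank_pos (R := T)
    rw [hfr]
    positivity
  obtain ⟨hc, hs⟩ := (isAzumaya_iff_residueField T (A := B)).mp inferInstance
  obtain ⟨m, hm, ⟨e⟩⟩ := Groth.Agent.Lib.LeadCSA.exists_algEquiv_matrix_of_isSepClosed
    (k := ResidueField T) (A := ResidueField T ⊗[T] B)
  have h1 : Module.finrank (ResidueField T) (ResidueField T ⊗[T] B) = n ^ 2 := by
    rw [Module.finrank_baseChange, hfr]
  have h2 := e.toLinearEquiv.finrank_eq
  rw [h1, Module.finrank_matrix, Fintype.card_fin, Module.finrank_self, mul_one, ← sq] at h2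
  have hmn : m = n := (Nat.pow_left_injective two_ne_zero h2).symm
  subst hmn
  exact ⟨e⟩

theorem exists_matUnits_same (hn : 0 < n) (hfr : Module.finrank T B = n ^ 2) :
    ∃ e : Fin n → Fin n → B, IsMatUnits e := by
  haveI : Nonempty (Fin n) := ⟨⟨0, hn⟩⟩
  haveI : IsAzumaya T (Matrix (Fin n) (Fin n) T) := IsAzumaya.matrix T (Fin n)
  obtain ⟨e₁⟩ := exists_residue_equiv_matrix T B n hn hfr
  obtain ⟨e₂⟩ := exists_residue_equiv_matrix T (Matrix (Fin n) (Fin n) T) n hn (by
    rw [Module.finrank_matrix, Fintype.card_fin, Module.finrank_self, mul_one, sq])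
  obtain ⟨e, -⟩ := Groth.Agent.Lib.LeadHZ.azumaya_algEquiv_lift T B (Matrix (Fin n) (Fin n) T)
    (e₁.trans e₂.symm)
  exact ⟨fun a b => e.symm (Matrix.single a b (1 : T)),
    (isMatUnits_single T n).map (e.symm : Matrix (Fin n) (Fin n) T →+* B)⟩

end SameUniverse

section Poly

variable (T : Type a) [CommRing T] [HenselianLocalRing T] [IsSepClosed (ResidueField T)]
  (B : Type b) [Ring B] [Algebra T B] [IsAzumaya T B] (n : ℕ)

/-- An Azumaya algebra of degree `n` over a strictly henselian local ring contains `n × n` matrix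
units. -/
theorem exists_matUnits_of_strictHensel (hn : 0 < n)
    (hrank : ∀ p : PrimeSpectrum T, Module.rankAtStalk (R := T) B p = n ^ 2) :
    ∃ e : Fin n → Fin n → B, IsMatUnits e := by
  let T' := ULift.{b} T
  let eT : T ≃+* T' := ULift.ringEquiv.symm
  haveI : HenselianLocalRing T' := Groth.Agent.Lib.Helper16HenselInv.henselian_of_ringEquiv eT
  haveI : IsSepClosed (ResidueField T') :=
    Groth.Agent.Lib.Helper16HenselInv.isSepClosed_of_ringEquiv (ResidueField.mapEquiv eT)
  haveI : IsAzumaya T' (T' ⊗[T] B) := isAzumaya_baseChange T' B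
  haveI : Module.Free T B := Module.free_of_flat_of_isLocalRing
  have hfr : Module.finrank T B = n ^ 2 := by
    have e1 := congrFun (Module.rankAtStalk_eq_finrank_of_free (R := T) (M := B))
      (IsLocalRing.closedPoint T)
    rw [hrank] at e1
    exact e1.symm
  have hfr' : Module.finrank T' (T' ⊗[T] B) = n ^ 2 := by
    rw [← hfr]
    exact Module.finrank_baseChange (R := T') (S := T) (M' := B)
  obtain ⟨e, he⟩ := exists_matUnits_same T' (T' ⊗[T] B) n hn hfr'
  let ρ : T' ⊗[T] B →ₐ[T] B :=
    Algebra.TensorProduct.lift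
      ((Algebra.ofId T B).comp (ULift.algEquiv : ULift.{b} T ≃ₐ[T] T).toAlgHom)
      (AlgHom.id T B) (fun t b => Algebra.commute_algebraMap_left _ _)
  exact ⟨fun a b => ρ (e a b), he.map (ρ : T' ⊗[T] B →+* B)⟩

end Poly

end Groth.Agent.Lib.Helper19AzSplit
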