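import Mathlib

/-!
# Gluing along a finite Zariski cover into one étale faithfully flat algebra (helper19)

For `b : ι → S` generating the unit ideal, `∀ i, Localization.Away (b i)` is an étale faithfully
flat `S`-algebra, and `(∀ i, B i) ⊗[S] A ≃ ∀ i, B i ⊗[S] A` for any (noncommutative) `S`-algebra `A`.
-/

set_option autoImplicit false
universe u w

open TensorProduct

namespace Groth.Agent.Lib.Helper19ZarGlue

section Pi

variable {S : Type u} [CommRing S] {ι : Type} [Fintype ι] [DecidableEq ι]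
  (B : ι → Type u) [∀ i, CommRing (B i)] [∀ i, Algebra S (B i)]
  (A : Type w) [Ring A] [Algebra S A]

/-- projection to the `i`-th factor -/
noncomputable def proj (i : ι) : (∀ i, B i) ⊗[S] A →ₐ[S] B i ⊗[S] A :=
  Algebra.TensorProduct.map (Pi.evalAlgHom S B i) (AlgHom.id S A)

@[simp] theorem proj_tmul (i : ι) (s : ∀ i, B i) (a : A) :
    proj B A i (s ⊗ₜ[S] a) = s i ⊗ₜ[S] a := rfl

/-- tensor product commutes with finite products (on the left) -/
noncomputable def PhiEquiv : (∀ i, B i) ⊗[S] A ≃ₐ[S] ∀ i, B i ⊗[S] A :=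
  (Algebra.TensorProduct.comm S (∀ i, B i) A).trans
    ((Algebra.TensorProduct.piRight S S A B).trans
      (AlgEquiv.piCongrRight fun i => Algebra.TensorProduct.comm S A (B i)))

theorem PhiEquiv_apply (x : (∀ i, B i) ⊗[S] A) (i : ι) : PhiEquiv B A x i = proj B A i x := by
  induction x using TensorProduct.induction_on with
  | zero => simp
  | tmul s a =>
    simp [PhiEquiv]
  | add x y hx hy => rw [map_add, map_add, Pi.add_apply, hx, hy]

theorem proj_injective {x y : (∀ i, B i) ⊗[S] A} (h : ∀ i, proj B A i x = proj B A i y) :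
    x = y := by
  apply (PhiEquiv B A).injective
  funext i
  rw [PhiEquiv_apply, PhiEquiv_apply, h i]

theorem exists_unit (u : ∀ i, (B i ⊗[S] A)ˣ) :
    ∃ U : ((∀ i, B i) ⊗[S] A)ˣ, ∀ i, proj B A i (U : _) = (u i : B i ⊗[S] A) ∧
      proj B A i ((U⁻¹ : ((∀ i, B i) ⊗[S] A)ˣ) : _) =
        (((u i)⁻¹ : (B i ⊗[S] A)ˣ) : B i ⊗[S] A) := by
  let W : (∀ i, B i ⊗[S] A)ˣ := MulEquiv.piUnits.symm u
  let U : ((∀ i, B i) ⊗[S] A)ˣ :=
    Units.map (MonoidHomClass.toMonoidHom (PhiEquiv B A).symm) W
  refine ⟨U, fun i => ⟨?_, ?_⟩⟩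
  · rw [← PhiEquiv_apply]
    change PhiEquiv B A ((PhiEquiv B A).symm (W : ∀ i, B i ⊗[S] A)) i = _
    rw [AlgEquiv.apply_symm_apply]
    rfl
  · rw [← PhiEquiv_apply]
    change PhiEquiv B A ((PhiEquiv B A).symm ((W⁻¹ : (∀ i, B i ⊗[S] A)ˣ) : ∀ i, B i ⊗[S] A)) i = _
    rw [AlgEquiv.apply_symm_apply]
    rfl

end Pi

section Cover

variable {S : Type u} [CommRing S] {ι : Type} [Fintype ι] (b : ι → S)

theorem flat_pi : Module.Flat S (∀ i, Localization.Away (b i)) := by
  classical
  exact Module.Flat.of_linearEquiv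
    (DirectSum.linearEquivFunOnFintype S ι (fun i => Localization.Away (b i))).symm

theorem faithfullyFlat_pi (hb : Ideal.span (Set.range b) = ⊤) :
    Module.FaithfullyFlat S (∀ i, Localization.Away (b i)) := by
  classical
  rw [Module.FaithfullyFlat.iff_flat_and_proper_ideal]
  refine ⟨flat_pi b, fun I hI htop => ?_⟩
  obtain ⟨m, hm, hIm⟩ := Ideal.exists_le_maximal I hI
  have hex : ∃ i, b i ∉ m := by
    by_contra! H
    have : Ideal.span (Set.range b) ≤ m := Ideal.span_le.mpr (by rintro _ ⟨i, rfl⟩; exact H i)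
    rw [hb] at this
    exact hm.ne_top (top_le_iff.mp this)
  obtain ⟨i, hi⟩ := hex
  have h1 : (1 : ∀ i, Localization.Away (b i)) ∈
      I • (⊤ : Submodule S (∀ i, Localization.Away (b i))) := by rw [htop]; trivial
  -- project to the `i`-th coordinate
  have h2 : (1 : Localization.Away (b i)) ∈ I • (⊤ : Submodule S (Localization.Away (b i))) := by
    have : ∀ x : ∀ i, Localization.Away (b i),
        x ∈ I • (⊤ : Submodule S (∀ i, Localization.Away (b i))) →
        x i ∈ I • (⊤ : Submodule S (Localization.Away (b i))) := by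
      intro x hx
      induction hx using Submodule.smul_induction_on' with
      | smul r hr y _ => exact Submodule.smul_mem_smul hr trivial
      | add x _ y _ hx hy => exact Submodule.add_mem _ hx hy
    exact this 1 h1
  have h3 : I.map (algebraMap S (Localization.Away (b i))) = ⊤ := by
    rw [Ideal.eq_top_iff_one]
    rw [Ideal.smul_top_eq_map] at h2
    exact h2
  have h4 := (IsLocalization.map_algebraMap_ne_top_iff_disjoint (Submonoid.powers (b i))
    (Localization.Away (b i)) I).mpr (by
      rw [Set.disjoint_left]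
      rintro x ⟨n, rfl⟩ hx
      exact hi (hm.isPrime.mem_of_pow_mem n (hIm hx)))
  exact h4 h3

end Cover

end Groth.Agent.Lib.Helper19ZarGlue
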