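import Mathlib
import Groth.Agent.Lib.Helper19AzSplitC
import Groth.Agent.Lib.Helper19ZarGlue

/-!
# Splitting Azumaya algebras (helper19), part D: finite products of strictly henselian local rings
-/

set_option autoImplicit false
set_option linter.style.haveILetI false

open TensorProduct

namespace Groth.Agent.Lib.Helper19AzSplit

open Groth.Agent.Lib.LeadAzumaya IsLocalRing

universe a b

theorem IsMatUnits.pi {ι : Type*} {B : ι → Type*} [∀ i, Ring (B i)] {n : ℕ}
    (e : ∀ i, Fin n → Fin n → B i) (he : ∀ i, IsMatUnits (e i)) :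
    IsMatUnits (fun a b => (fun i => e i a b : ∀ i, B i)) where
  mul a b c d := by
    funext i
    rw [Pi.mul_apply, (he i).mul]
    split_ifs <;> rfl
  sum := by
    funext i
    rw [Finset.sum_apply, (he i).sum]
    rfl

section Pi

variable (R' : Type a) [CommRing R'] (ι : Type) [Fintype ι] (T : ι → Type a)
  [∀ i, CommRing (T i)] [∀ i, HenselianLocalRing (T i)]
  (hsc : ∀ i, IsSepClosed (ResidueField (T i))) (φ : R' ≃+* ∀ i, T i)
  (B : Type b) [Ring B] [Algebra R' B] [IsAzumaya R' B] (n : ℕ)

include hsc φ in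
/-- An Azumaya algebra of degree `n` over a finite product of strictly henselian local rings
contains `n × n` matrix units. -/
theorem exists_matUnits_of_pi (hn : 0 < n)
    (hrank : ∀ p : PrimeSpectrum R', Module.rankAtStalk (R := R') B p = n ^ 2) :
    ∃ e : Fin n → Fin n → B, IsMatUnits e := by
  classical
  letI algT : ∀ i, Algebra R' (T i) := fun i =>
    ((Pi.evalRingHom T i).comp (φ : R' →+* ∀ i, T i)).toAlgebra
  have key : ∀ i, ∃ e : Fin n → Fin n → (T i ⊗[R'] B), IsMatUnits e := by
    intro i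
    haveI := hsc i
    haveI : IsAzumaya (T i) (T i ⊗[R'] B) := isAzumaya_baseChange (T i) B
    apply exists_matUnits_of_strictHensel (T i) (T i ⊗[R'] B) n hn
    intro p
    rw [Module.rankAtStalk_baseChange, hrank]
  choose e he using key
  let φ' : R' ≃ₐ[R'] (∀ i, T i) := AlgEquiv.ofRingEquiv (f := φ) (fun r => rfl)
  let Ψ : B ≃ₐ[R'] ∀ i, T i ⊗[R'] B :=
    ((Algebra.TensorProduct.lid R' B).symm.trans
      (Algebra.TensorProduct.congr φ' (AlgEquiv.refl : B ≃ₐ[R'] B))).trans
      (Groth.Agent.Lib.Helper19ZarGlue.PhiEquiv T B)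
  exact ⟨fun a b => Ψ.symm (fun i => e i a b),
    (IsMatUnits.pi e he).map (Ψ.symm : (∀ i, T i ⊗[R'] B) →+* B)⟩

end Pi

end Groth.Agent.Lib.Helper19AzSplit
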