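import Mathlib

/-!
# Skolem–Noether over semilocal rings (helper19), part A: automorphisms of `End V`

For a commutative ring `T` with finitely many maximal ideals and a finitely generated projective
`T`-module `V` with `m V ≠ V` for all maximal `m`, every `T`-algebra automorphism of `End_T V` is
conjugation by a linear automorphism of `V`.  (Adapted from the local case in `LeadLocalInner`.)
-/

set_option autoImplicit false

namespace Groth.Agent.Lib.Helper19SemiSN

open Module LinearMap

variable {T : Type*} [CommRing T]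

theorem map_mem_smul_top {V W : Type*} [AddCommGroup V] [Module T V] [AddCommGroup W] [Module T W]
    (g : V →ₗ[T] W) (m : Ideal T) {x : V} (hx : x ∈ m • (⊤ : Submodule T V)) :
    g x ∈ m • (⊤ : Submodule T W) := by
  induction hx using Submodule.smul_induction_on' with
  | smul r hr y _ => rw [map_smul]; exact Submodule.smul_mem_smul hr trivial
  | add x _ y _ hx hy => rw [map_add]; exact Submodule.add_mem _ hx hy

/-- an element of a projective module not in `m V` for any maximal `m` is unimodular -/
theorem exists_dual_eq_one {V : Type*} [AddCommGroup V] [Module T V] [Module.Projective T V]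
    {y : V} (hy : ∀ m : Ideal T, m.IsMaximal → y ∉ m • (⊤ : Submodule T V)) :
    ∃ φ : V →ₗ[T] T, φ y = 1 := by
  classical
  let I : Ideal T := LinearMap.range (LinearMap.applyₗ y : (V →ₗ[T] T) →ₗ[T] T)
  by_contra H
  have hI : I ≠ ⊤ := by
    intro h
    have h1 : (1 : T) ∈ I := h ▸ Submodule.mem_top
    obtain ⟨φ, hφ⟩ := h1
    exact H ⟨φ, hφ⟩
  obtain ⟨m, hm, hIm⟩ := Ideal.exists_le_maximal I hI
  apply hy m hm
  obtain ⟨s, hs⟩ := Module.projective_def'.mp ‹Module.Projective T V›
  have h1 : y = Finsupp.linearCombination T id (s y) := (LinearMap.congr_fun hs y).symm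
  rw [h1, Finsupp.linearCombination_apply]
  refine Submodule.sum_mem _ fun x _ => ?_
  refine Submodule.smul_mem_smul (hIm ?_) trivial
  exact ⟨(Finsupp.lapply x).comp s, rfl⟩

/-- Chinese remainder theorem for a module over a ring with finitely many maximal ideals -/
theorem exists_crt [Finite (MaximalSpectrum T)] {V : Type*} [AddCommGroup V] [Module T V]
    (z : MaximalSpectrum T → V) :
    ∃ z₀ : V, ∀ m : MaximalSpectrum T, z₀ - z m ∈ m.asIdeal • (⊤ : Submodule T V) := by
  classical
  haveI := Fintype.ofFinite (MaximalSpectrum T)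
  have hcop : Pairwise (Function.onFun IsCoprime fun m : MaximalSpectrum T => m.asIdeal) := by
    intro m m' hne
    change IsCoprime m.asIdeal m'.asIdeal
    rw [Ideal.isCoprime_iff_sup_eq]
    exact Ideal.IsMaximal.coprime_of_ne m.isMaximal m'.isMaximal
      (fun h => hne (MaximalSpectrum.ext h))
  have he : ∀ m : MaximalSpectrum T, ∃ e : T,
      ∀ m' : MaximalSpectrum T, e - (if m' = m then 1 else 0) ∈ m'.asIdeal := fun m =>
    Ideal.exists_forall_sub_mem_ideal hcop (fun m' => if m' = m then 1 else 0)
  choose e he using he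
  refine ⟨∑ m, e m • z m, fun m' => ?_⟩
  have h1 : ∑ m, e m • z m - z m' = ∑ m, (e m - (if m' = m then 1 else 0)) • z m := by
    simp only [sub_smul, Finset.sum_sub_distrib, ite_smul, one_smul, zero_smul,
      Finset.sum_ite_eq, Finset.mem_univ, if_true]
  rw [h1]
  exact Submodule.sum_mem _ fun m _ => Submodule.smul_mem_smul (he m m') trivial

/-- over a ring with finitely many maximal ideals, a linear map which is nonzero modulo every
maximal ideal takes a value which is nonzero modulo every maximal ideal -/
theorem exists_apply_notMem [Finite (MaximalSpectrum T)] {V W : Type*} [AddCommGroup V]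
    [Module T V] [AddCommGroup W] [Module T W] (g : V →ₗ[T] W)
    (hg : ∀ m : MaximalSpectrum T, ∃ z : V, g z ∉ m.asIdeal • (⊤ : Submodule T W)) :
    ∃ z : V, ∀ m : Ideal T, m.IsMaximal → g z ∉ m • (⊤ : Submodule T W) := by
  choose z hz using hg
  obtain ⟨z₀, hz₀⟩ := exists_crt z
  refine ⟨z₀, fun m hm hmem => ?_⟩
  apply hz ⟨m, hm⟩
  have h1 : g (z₀ - z ⟨m, hm⟩) ∈ m • (⊤ : Submodule T W) := map_mem_smul_top g m (hz₀ ⟨m, hm⟩)
  rw [map_sub] at h1
  have := Submodule.sub_mem _ hmem h1
  simpa using this

set_option backward.isDefEq.respectTransparency false in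
theorem exists_linearEquiv_conj [Finite (MaximalSpectrum T)] {V : Type*} [AddCommGroup V]
    [Module T V] [Module.Finite T V] [Module.Projective T V]
    (hV : ∀ m : Ideal T, m.IsMaximal → m • (⊤ : Submodule T V) ≠ ⊤)
    (f : End T V ≃ₐ[T] End T V) :
    ∃ g : V ≃ₗ[T] V, ∀ A : End T V, f A ∘ₗ g.toLinearMap = g.toLinearMap ∘ₗ A := by
  classical
  -- a unimodular element `u` with `v u = 1`
  obtain ⟨u, hu⟩ : ∃ u : V, ∀ m : Ideal T, m.IsMaximal → u ∉ m • (⊤ : Submodule T V) := by
    obtain ⟨u, hu⟩ := exists_apply_notMem (LinearMap.id : V →ₗ[T] V) (fun m => by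
      by_contra! H
      exact hV m.asIdeal m.isMaximal (eq_top_iff.mpr fun x _ => H x))
    exact ⟨u, hu⟩
  obtain ⟨v, hvu⟩ := exists_dual_eq_one hu
  -- the rank one idempotent
  set p : End T V := smulRight v u with hp
  have hpp : p * p = p := by
    ext y; simp [hp, hvu]
  -- a dual basis
  obtain ⟨n, F, G, -, -, hFG⟩ := Module.Finite.exists_comp_eq_id_of_projective T V
  set x : Fin n → V := fun k => F (Pi.single k 1) with hx
  set lam : Fin n → (V →ₗ[T] T) := fun k => (LinearMap.proj k).comp G with hlam
  have hdual : ∀ y, ∑ k, lam k y • x k = y := by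
    intro y
    have h1 : F (G y) = y := by
      have := congrArg (fun h : V →ₗ[T] V => h y) hFG
      simpa using this
    have h2 : G y = ∑ k, G y k • (Pi.single k 1 : Fin n → T) := by
      funext i
      simp [Finset.sum_apply, Pi.single_apply]
    conv_rhs => rw [← h1, h2]
    simp [map_sum, hx, hlam]
  have hone : (1 : End T V) = ∑ k, smulRight v (x k) * p * smulRight (lam k) u := by
    ext y
    simp only [End.one_apply, LinearMap.sum_apply, End.mul_apply, smulRight_apply, hp, map_smul,
      hvu, one_smul]
    exact (hdual y).symm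
  -- `f p` is nonzero modulo every maximal ideal
  have hfp : ∀ m : MaximalSpectrum T, ∃ z : V, f p z ∉ m.asIdeal • (⊤ : Submodule T V) := by
    intro m
    by_contra! H
    apply hu m.asIdeal m.isMaximal
    have h1 : (1 : End T V) = ∑ k, f (smulRight v (x k)) * f p * f (smulRight (lam k) u) := by
      rw [← map_one f, hone, map_sum]
      simp only [map_mul]
    have h2 : u = (1 : End T V) u := rfl
    rw [h2, h1, LinearMap.sum_apply]
    refine Submodule.sum_mem _ fun k _ => ?_
    simp only [End.mul_apply]
    exact map_mem_smul_top _ _ (H _)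
  obtain ⟨z, hz⟩ := exists_apply_notMem (f p) hfp
  obtain ⟨d, hd⟩ := exists_dual_eq_one hz
  set g := applyₗ z ∘ₗ f.toLinearMap ∘ₗ smulRightₗ v
  have hg y : g y = f (smulRight v y) z := rfl
  have this A y : g (A y) = f A (g y) := by
    simp only [hg, ← End.mul_apply, ← map_mul]
    congr; ext; simp
  have surj : Function.Surjective g := fun w ↦ by
    refine ⟨f.symm (smulRight d w) u, ?_⟩
    rw [this, AlgEquiv.apply_symm_apply, hg]
    change d (f p z) • w = w
    rw [hd, one_smul]
  have inj : Function.Injective g := fun y y' hyy' ↦ by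
    have h_smul : smulRightₗ v y = smulRightₗ v y' := by
      apply f.injective <| LinearMap.ext fun z ↦ ?_
      obtain ⟨w, rfl⟩ := surj z
      simp_rw [← this, smulRightₗ_apply_apply, _root_.map_smul, hyy']
    simpa [hvu] using congr((fun f ↦ f u) $h_smul)
  exact ⟨.ofBijective g ⟨inj, surj⟩, fun A ↦ LinearMap.ext fun y => (this A y).symm⟩

end Groth.Agent.Lib.Helper19SemiSN
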