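import Mathlib

/-! Automorphisms of `End R V` (V finite free over a local ring R) are inner; Skolem–Noether for
Azumaya algebras over local rings. -/

namespace Groth.Agent.Lib.LeadLocalInner

open Module LinearMap LinearEquiv IsLocalRing

variable {R : Type*} [CommRing R] [IsLocalRing R]

theorem exists_dual_eq_one {M : Type*} [AddCommGroup M] [Module R M] [Module.Finite R M]
    [Module.Free R M] {x : M} (hx : x ∉ (maximalIdeal R) • (⊤ : Submodule R M)) :
    ∃ φ : M →ₗ[R] R, φ x = 1 := by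
  classical
  let b := Module.Free.chooseBasis R M
  by_contra! H
  apply hx
  have hmem : ∀ i, b.repr x i ∈ maximalIdeal R := by
    intro i
    by_contra hi
    have hu : IsUnit (b.repr x i) := by
      simpa [mem_maximalIdeal, mem_nonunits_iff] using hi
    obtain ⟨c, hc⟩ := hu
    apply H ((↑(c⁻¹ : Rˣ) : R) • b.coord i)
    simp [← hc]
  rw [← b.sum_repr x]
  exact Submodule.sum_mem _ fun i _ => Submodule.smul_mem_smul (hmem i) trivial

set_option backward.isDefEq.respectTransparency false in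
theorem exists_linearEquiv_conj {V : Type*} [AddCommGroup V] [Module R V] [Module.Finite R V]
    [Module.Free R V] (f : End R V ≃ₐ[R] End R V) :
    ∃ T : V ≃ₗ[R] V, ∀ A : End R V, f A ∘ₗ T.toLinearMap = T.toLinearMap ∘ₗ A := by
  classical
  by_cases hV : Subsingleton V
  · exact ⟨LinearEquiv.refl R V, fun A => LinearMap.ext fun x => Subsingleton.elim _ _⟩
  rw [not_subsingleton_iff_nontrivial] at hV
  let b := Module.Free.chooseBasis R V
  obtain ⟨i₀⟩ : Nonempty (Module.Free.ChooseBasisIndex R V) := b.index_nonempty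
  set u : V := b i₀ with hu
  set v : V →ₗ[R] R := b.coord i₀ with hv
  have hvu : v u = 1 := by simp [hu, hv]
  have hu0 : u ≠ 0 := b.ne_zero i₀
  -- the rank one idempotent
  set p : End R V := smulRight v u with hp
  have hpp : p * p = p := by
    ext y; simp [hp, hvu]
  have hfpp : f p * f p = f p := by rw [← map_mul, hpp]
  obtain ⟨z, hz⟩ : ∃ z : V, f p z ∉ (maximalIdeal R) • (⊤ : Submodule R V) := by
    by_contra! H
    have hQ : LinearMap.range (f p) ≤ (maximalIdeal R) • LinearMap.range (f p) := by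
      rintro _ ⟨y, rfl⟩
      have h1 : f p y = f p (f p y) := by
        rw [← End.mul_apply, hfpp]
      rw [h1, LinearMap.range_eq_map, ← Submodule.map_smul'']
      exact Submodule.mem_map_of_mem (H y)
    have hbot : LinearMap.range (f p) = ⊥ :=
      Submodule.eq_bot_of_le_smul_of_le_jacobson_bot (maximalIdeal R) _
        (by rw [LinearMap.range_eq_map]; exact Module.Finite.fg_top.map _) hQ
        (by rw [IsLocalRing.jacobson_eq_maximalIdeal ⊥ bot_ne_top])
    · have : f p = 0 := LinearMap.range_eq_bot.mp hbot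
      have hp0 : p = 0 := by simpa using this
      apply hu0
      have : p u = 0 := by rw [hp0]; rfl
      simpa [hp, hvu] using this
  obtain ⟨d, hd⟩ := exists_dual_eq_one hz
  set T := applyₗ z ∘ₗ f.toLinearMap ∘ₗ smulRightₗ v
  have hT x : T x = f (smulRight v x) z := rfl
  have this A x : T (A x) = f A (T x) := by
    simp only [hT, ← End.mul_apply, ← map_mul]
    congr; ext; simp
  have surj : Function.Surjective T := fun w ↦ by
    refine ⟨f.symm (smulRight d w) u, ?_⟩
    rw [this, AlgEquiv.apply_symm_apply, hT]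
    change d (f p z) • w = w
    rw [hd, one_smul]
  have inj : Function.Injective T := fun x y hxy ↦ by
    have h_smul : smulRightₗ v x = smulRightₗ v y := by
      apply f.injective <| LinearMap.ext fun z ↦ ?_
      obtain ⟨w, rfl⟩ := surj z
      simp_rw [← this, smulRightₗ_apply_apply, _root_.map_smul, hxy]
    simpa [hvu] using congr((fun f ↦ f u) $h_smul)
  exact ⟨.ofBijective T ⟨inj, surj⟩, fun A ↦ LinearMap.ext fun x => (this A x).symm⟩

section Azumaya

open TensorProduct MulOpposite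

variable {A : Type*} [Ring A] [Algebra R A] [IsAzumaya R A]

omit [IsLocalRing R] in
theorem mulLeftRight_tmul_apply (a : A) (b : Aᵐᵒᵖ) (x : A) :
    AlgHom.mulLeftRight R A (a ⊗ₜ[R] b) x = a * x * b.unop := by
  simp [AlgHom.mulLeftRight_apply]

instance : Module.Free R A := Module.free_of_flat_of_isLocalRing

theorem one_notMem_maximalIdeal_smul : (1 : A) ∉ (maximalIdeal R) • (⊤ : Submodule R A) := by
  intro h1
  have htop : (⊤ : Submodule R A) ≤ (maximalIdeal R) • (⊤ : Submodule R A) := by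
    intro x _
    have : x = LinearMap.mulLeft R x 1 := by simp
    rw [this]
    have h2 := Submodule.mem_map_of_mem (f := LinearMap.mulLeft R x) h1
    rw [Submodule.map_smul''] at h2
    exact Submodule.smul_mono le_rfl le_top h2
  have hbot : (⊤ : Submodule R A) = ⊥ :=
    Submodule.eq_bot_of_le_smul_of_le_jacobson_bot (maximalIdeal R) _ Module.Finite.fg_top htop
      (by rw [IsLocalRing.jacobson_eq_maximalIdeal ⊥ bot_ne_top])
  have hA : Subsingleton A := by
    refine ⟨fun x y => ?_⟩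
    have hx : x ∈ (⊥ : Submodule R A) := hbot ▸ Submodule.mem_top
    have hy : y ∈ (⊥ : Submodule R A) := hbot ▸ Submodule.mem_top
    rw [Submodule.mem_bot] at hx hy
    rw [hx, hy]
  have hinj := FaithfulSMul.algebraMap_injective R A
  exact one_ne_zero (hinj (Subsingleton.elim (algebraMap R A 1) (algebraMap R A 0)))

/-- The centre of an Azumaya algebra over a local ring is the base ring. -/
theorem exists_algebraMap_eq_of_central (z : A) (hz : ∀ x : A, z * x = x * z) :
    ∃ r : R, z = algebraMap R A r := by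
  obtain ⟨φ, hφ⟩ := exists_dual_eq_one (one_notMem_maximalIdeal_smul (R := R) (A := A))
  have hinj := (IsAzumaya.bij (R := R) (A := A)).1
  have heq : (z ⊗ₜ[R] (1 : Aᵐᵒᵖ)) = ((1 : A) ⊗ₜ[R] (op z)) := by
    apply hinj
    ext x
    simp [mulLeftRight_tmul_apply, hz x]
  let ψ : A ⊗[R] Aᵐᵒᵖ →ₗ[R] A :=
    TensorProduct.lift ((LinearMap.lsmul R A).flip.compr₂ (LinearMap.id) |>.compl₂
      (φ ∘ₗ (MulOpposite.opLinearEquiv R).symm.toLinearMap)).flip.flip
  have h1 : ∀ (a : A) (b : Aᵐᵒᵖ), ψ (a ⊗ₜ b) = φ b.unop • a := by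
    intro a b; simp [ψ]
  have := congrArg ψ heq
  rw [h1, h1] at this
  simp only [unop_one, hφ, one_smul, unop_op] at this
  exact ⟨φ z, this.trans (Algebra.algebraMap_eq_smul_one _).symm⟩

/-- Skolem–Noether for Azumaya algebras over a local ring. -/
theorem exists_unit_conj (u : A ≃ₐ[R] A) : ∃ a : Aˣ, ∀ x : A, u x = (a : A) * x * (a⁻¹ : Aˣ) := by
  let Φ : A ⊗[R] Aᵐᵒᵖ ≃ₐ[R] Module.End R A :=
    AlgEquiv.ofBijective (AlgHom.mulLeftRight R A) IsAzumaya.bij
  let ũ : A ⊗[R] Aᵐᵒᵖ ≃ₐ[R] A ⊗[R] Aᵐᵒᵖ := Algebra.TensorProduct.congr u AlgEquiv.refl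
  let θ : Module.End R A ≃ₐ[R] Module.End R A := Φ.symm.trans (ũ.trans Φ)
  have hθ : ∀ (a : A) (b : Aᵐᵒᵖ), θ (AlgHom.mulLeftRight R A (a ⊗ₜ b)) =
      AlgHom.mulLeftRight R A (u a ⊗ₜ b) := by
    intro a b
    have : Φ.symm (AlgHom.mulLeftRight R A (a ⊗ₜ b)) = a ⊗ₜ b := Φ.symm_apply_apply _
    simp [θ, this, ũ, Φ]
  obtain ⟨T, hT⟩ := exists_linearEquiv_conj θ
  have key : ∀ a b x : A, u a * T x * b = T (a * x * b) := by
    intro a b x
    have := LinearMap.congr_fun (hT (AlgHom.mulLeftRight R A (a ⊗ₜ op b))) x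
    rw [hθ] at this
    simpa [mulLeftRight_tmul_apply] using this
  set c : A := T 1 with hc
  have hTx : ∀ x, T x = c * x := by
    intro x
    have := key 1 x 1
    simpa using this.symm
  have hTa : ∀ a, T a = u a * c := by
    intro a
    have := key a 1 1
    simpa using this.symm
  obtain ⟨x, hx⟩ := T.surjective 1
  have hcx : c * x = 1 := by rw [← hTx, hx]
  have hxc : x * c = 1 := by
    have : T (x * c - 1) = 0 := by
      rw [hTx, mul_sub, ← mul_assoc, hcx, one_mul, mul_one, sub_self]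
    have := T.injective (this.trans (map_zero T).symm)
    exact sub_eq_zero.mp this
  refine ⟨⟨c, x, hcx, hxc⟩, fun y => ?_⟩
  change u y = c * y * x
  have h1 : u y * c = c * y := by rw [← hTa, hTx]
  calc u y = u y * (c * x) := by rw [hcx, mul_one]
    _ = c * y * x := by rw [← mul_assoc, h1]

theorem exists_unit_smul_of_conj_eq (u : A ≃ₐ[R] A) (a a' : Aˣ)
    (ha : ∀ x : A, u x = (a : A) * x * (a⁻¹ : Aˣ)) (ha' : ∀ x : A, u x = (a' : A) * x * (a'⁻¹ : Aˣ)) :
    ∃ c : Rˣ, (a' : A) = algebraMap R A (c : R) * (a : A) := by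
  set z : Aˣ := a⁻¹ * a' with hz
  have hcomm : ∀ x : A, (z : A) * x = x * (z : A) := by
    intro x
    have h := (ha x).symm.trans (ha' x)
    -- a x a⁻¹ = a' x a'⁻¹
    have h2 : (a⁻¹ : Aˣ) * ((a : A) * x * (a⁻¹ : Aˣ)) * a' = (a⁻¹ : Aˣ) * ((a' : A) * x * (a'⁻¹ : Aˣ)) * a' := by
      rw [h]
    simp only [hz, Units.val_mul]
    have l : ((a⁻¹ : Aˣ) : A) * ((a : A) * x * (a⁻¹ : Aˣ)) * a' = x * ((a⁻¹ : Aˣ) * a') := by
      simp [mul_assoc]
    have r : ((a⁻¹ : Aˣ) : A) * ((a' : A) * x * (a'⁻¹ : Aˣ)) * a' = (a⁻¹ : Aˣ) * a' * x := by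
      simp [mul_assoc]
    rw [l, r] at h2
    exact h2.symm
  have hcomm' : ∀ x : A, ((z⁻¹ : Aˣ) : A) * x = x * ((z⁻¹ : Aˣ) : A) := by
    intro x
    have := hcomm (((z⁻¹ : Aˣ) : A) * x * ((z⁻¹ : Aˣ) : A))
    have e1 : (z : A) * (((z⁻¹ : Aˣ) : A) * x * ((z⁻¹ : Aˣ) : A)) = x * ((z⁻¹ : Aˣ) : A) := by
      simp [← mul_assoc]
    have e2 : (((z⁻¹ : Aˣ) : A) * x * ((z⁻¹ : Aˣ) : A)) * (z : A) = ((z⁻¹ : Aˣ) : A) * x := by
      simp [mul_assoc]
    rw [e1, e2] at this
    exact this.symm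
  obtain ⟨r, hr⟩ := exists_algebraMap_eq_of_central (R := R) (z : A) hcomm
  obtain ⟨r', hr'⟩ := exists_algebraMap_eq_of_central (R := R) ((z⁻¹ : Aˣ) : A) hcomm'
  have hinj := FaithfulSMul.algebraMap_injective R A
  have hrr' : r * r' = 1 := by
    apply hinj
    rw [map_mul, ← hr, ← hr', map_one, Units.mul_inv]
  refine ⟨⟨r, r', hrr', by rw [mul_comm]; exact hrr'⟩, ?_⟩
  change (a' : A) = algebraMap R A r * a
  rw [← hr, hcomm a]
  simp [hz]

end Azumaya

end Groth.Agent.Lib.LeadLocalInner
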