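import Mathlib
import Groth.Agent.Lib.Helper19SemiSNA
import Groth.Agent.Lib.LeadLocalInner
import Groth.Agent.Lib.LeadAzumaya

/-!
# Skolem–Noether over semilocal rings (helper19), part B: Azumaya algebras
-/

set_option autoImplicit false

namespace Groth.Agent.Lib.Helper19SemiSN

open Module LinearMap TensorProduct MulOpposite

variable {T : Type*} [CommRing T] [Finite (MaximalSpectrum T)]
  {B : Type*} [Ring B] [Algebra T B] [IsAzumaya T B]

/-- Skolem–Noether for Azumaya algebras over a ring with finitely many maximal ideals. -/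
theorem exists_unit_conj (u : B ≃ₐ[T] B) :
    ∃ a : Bˣ, ∀ x : B, u x = (a : B) * x * (a⁻¹ : Bˣ) := by
  haveI : Module.FaithfullyFlat T B :=
    Groth.Agent.Lib.LeadAzumaya.faithfullyFlat_of_finite_of_faithful
  let Φ : B ⊗[T] Bᵐᵒᵖ ≃ₐ[T] Module.End T B :=
    AlgEquiv.ofBijective (AlgHom.mulLeftRight T B) IsAzumaya.bij
  let ũ : B ⊗[T] Bᵐᵒᵖ ≃ₐ[T] B ⊗[T] Bᵐᵒᵖ := Algebra.TensorProduct.congr u AlgEquiv.refl
  let θ : Module.End T B ≃ₐ[T] Module.End T B := Φ.symm.trans (ũ.trans Φ)
  have hθ : ∀ (a : B) (b : Bᵐᵒᵖ), θ (AlgHom.mulLeftRight T B (a ⊗ₜ b)) =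
      AlgHom.mulLeftRight T B (u a ⊗ₜ b) := by
    intro a b
    have : Φ.symm (AlgHom.mulLeftRight T B (a ⊗ₜ b)) = a ⊗ₜ b := Φ.symm_apply_apply _
    simp [θ, this, ũ, Φ]
  obtain ⟨g, hg⟩ := exists_linearEquiv_conj
    (fun m hm => Module.FaithfullyFlat.submodule_ne_top hm) θ
  have key : ∀ a b x : B, u a * g x * b = g (a * x * b) := by
    intro a b x
    have := LinearMap.congr_fun (hg (AlgHom.mulLeftRight T B (a ⊗ₜ op b))) x
    rw [hθ] at this
    simpa [Groth.Agent.Lib.LeadLocalInner.mulLeftRight_tmul_apply] using this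
  set c : B := g 1 with hc
  have hgx : ∀ x, g x = c * x := by
    intro x
    have := key 1 x 1
    simpa using this.symm
  have hga : ∀ a, g a = u a * c := by
    intro a
    have := key a 1 1
    simpa using this.symm
  obtain ⟨x, hx⟩ := g.surjective 1
  have hcx : c * x = 1 := by rw [← hgx, hx]
  have hxc : x * c = 1 := by
    have : g (x * c - 1) = 0 := by
      rw [hgx, mul_sub, ← mul_assoc, hcx, one_mul, mul_one, sub_self]
    have := g.injective (this.trans (map_zero g).symm)
    exact sub_eq_zero.mp this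
  refine ⟨⟨c, x, hcx, hxc⟩, fun y => ?_⟩
  change u y = c * y * x
  have h1 : u y * c = c * y := by rw [← hga, hgx]
  calc u y = u y * (c * x) := by rw [hcx, mul_one]
    _ = c * y * x := by rw [← mul_assoc, h1]

end Groth.Agent.Lib.Helper19SemiSN
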