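import Mathlib
import Groth.Agent.Lib.Helper19SemiSNB
import Groth.Agent.Lib.Helper15QuadEtale
import Groth.Agent.S15586

/-!
# Skolem–Noether over semilocal rings (helper19), part C: rings with involution and local fixed ring

If `S'` is a flat local `S`-algebra and `S` is the fixed ring of an involution of `R`, then
`S' ⊗[S] R` has at most two maximal ideals, so every `R`-automorphism of an Azumaya `R`-algebra `A`
becomes inner on `S' ⊗[S] A`.
-/

set_option autoImplicit false
universe u v w

open TensorProduct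

namespace Groth.Agent.Lib.Helper19SemiSN

section Fin

variable {S : Type u} {R : Type v} [CommRing S] [CommRing R] [Algebra S R] [IsLocalRing S]
  (lam : R ≃+* R) (hlam : Function.Involutive lam) (hS : RInv.IsFixedRing S R lam)

include hlam hS in
theorem finite_maximalSpectrum : Finite (MaximalSpectrum R) := by
  classical
  by_cases hne : Nonempty (MaximalSpectrum R)
  · obtain ⟨M⟩ := hne
    haveI := M.isMaximal
    have hM' : (M.asIdeal.comap (lam : R →+* R)).IsMaximal :=
      Ideal.comap_isMaximal_of_surjective _ lam.surjective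
    let M' : MaximalSpectrum R := ⟨_, hM'⟩
    have : (Set.univ : Set (MaximalSpectrum R)) ⊆ {M, M'} := by
      intro N _
      haveI := N.isMaximal
      rcases Groth.Agent.Lib.Helper15.QuadEtale.maximal_orbit lam hlam hS M.asIdeal N.asIdeal
        with h | h
      · exact Or.inl (MaximalSpectrum.ext h)
      · exact Or.inr (MaximalSpectrum.ext h)
    exact Set.finite_univ_iff.mp ((Set.toFinite {M, M'}).subset this)
  · haveI : IsEmpty (MaximalSpectrum R) := not_nonempty_iff.mp hne
    infer_instance

end Fin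

section Xi

variable {S : Type u} {R : Type v} [CommRing S] [CommRing R] [Algebra S R]
  {A : Type w} [Ring A] [Algebra S A] [Algebra R A] [IsScalarTower S R A]
  (S' : Type u) [CommRing S'] [Algebra S S']

attribute [local instance] Algebra.TensorProduct.rightAlgebra

/-- the `R`-algebra structure on `S' ⊗[S] A` through the second factor -/
noncomputable def algRA : Algebra R (S' ⊗[S] A) :=
  RingHom.toAlgebra'
    ((Algebra.TensorProduct.includeRight : A →ₐ[S] S' ⊗[S] A).toRingHom.comp (algebraMap R A))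
    (by
      intro c x
      change ((1 : S') ⊗ₜ[S] algebraMap R A c) * x = x * ((1 : S') ⊗ₜ[S] algebraMap R A c)
      induction x using TensorProduct.induction_on with
      | zero => simp
      | tmul s a =>
        rw [Algebra.TensorProduct.tmul_mul_tmul, Algebra.TensorProduct.tmul_mul_tmul, one_mul,
          mul_one, Algebra.commutes]
      | add x y hx hy => rw [mul_add, add_mul, hx, hy])

attribute [local instance 10] algRA

theorem algRA_algebraMap (c : R) :
    algebraMap R (S' ⊗[S] A) c = (1 : S') ⊗ₜ[S] algebraMap R A c := rfl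

/-- first factor map -/
noncomputable def Xi1 : (S' ⊗[S] R) →ₐ[R] S' ⊗[S] A where
  toRingHom := (Algebra.TensorProduct.map (AlgHom.id S S') (IsScalarTower.toAlgHom S R A)).toRingHom
  commutes' := by
    intro c
    change Algebra.TensorProduct.map (AlgHom.id S S') (IsScalarTower.toAlgHom S R A)
      ((1 : S') ⊗ₜ[S] c) = _
    rw [Algebra.TensorProduct.map_tmul]
    rfl

theorem Xi1_apply (t : S' ⊗[S] R) : Xi1 (A := A) S' t =
    Algebra.TensorProduct.map (AlgHom.id S S') (IsScalarTower.toAlgHom S R A) t := rfl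

/-- second factor map -/
noncomputable def Xi2 : A →ₐ[R] S' ⊗[S] A where
  toRingHom := (Algebra.TensorProduct.includeRight : A →ₐ[S] S' ⊗[S] A).toRingHom
  commutes' := fun c => rfl

theorem Xi2_apply (a : A) : Xi2 (R := R) S' a = (1 : S') ⊗ₜ[S] a := rfl

/-- the ring homomorphism `(S' ⊗[S] R) ⊗[R] A → S' ⊗[S] A` -/
noncomputable def Xi : (S' ⊗[S] R) ⊗[R] A →ₐ[R] S' ⊗[S] A :=
  Algebra.TensorProduct.lift (Xi1 S') (Xi2 S')
    (by
      intro t a
      change Xi1 (A := A) S' t * Xi2 (R := R) S' a = Xi2 (R := R) S' a * Xi1 (A := A) S' t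
      rw [Xi1_apply, Xi2_apply]
      induction t using TensorProduct.induction_on with
      | zero => simp
      | tmul s r =>
        rw [Algebra.TensorProduct.map_tmul, Algebra.TensorProduct.tmul_mul_tmul,
          Algebra.TensorProduct.tmul_mul_tmul, one_mul, mul_one]
        congr 1
        exact (Algebra.commutes r a)
      | add x y hx hy => rw [map_add, mul_add, add_mul, hx, hy])

theorem Xi_tmul (s : S') (a : A) :
    Xi (R := R) S' ((s ⊗ₜ[S] (1 : R)) ⊗ₜ[R] a) = s ⊗ₜ[S] a := by
  unfold Xi
  rw [Algebra.TensorProduct.lift_tmul, Xi1_apply, Xi2_apply,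
    Algebra.TensorProduct.map_tmul, Algebra.TensorProduct.tmul_mul_tmul, map_one, one_mul]
  simp

end Xi

section Main

variable {S : Type u} {R : Type v} [CommRing S] [CommRing R] [Algebra S R]
  (lam : R ≃ₐ[S] R) (hlam : ∀ r, lam (lam r) = r) (hfix : RInv.IsFixedRing S R lam.toRingEquiv)
  {A : Type w} [Ring A] [Algebra S A] [Algebra R A] [IsScalarTower S R A] [IsAzumaya R A]
  (ψ : A ≃ₐ[R] A)
  (S' : Type u) [CommRing S'] [Algebra S S'] [IsLocalRing S'] [Module.Flat S S']

attribute [local instance] Algebra.TensorProduct.rightAlgebra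
attribute [local instance 10] algRA

include hlam hfix in
/-- over a flat local `S`-algebra, every `R`-automorphism of the Azumaya algebra `A` is inner -/
theorem exists_unit_conj_local :
    ∃ u : (S' ⊗[S] A)ˣ, ∀ x : S' ⊗[S] A,
      Algebra.TensorProduct.congr (AlgEquiv.refl : S' ≃ₐ[S'] S') (ψ.restrictScalars S) x =
        ↑u * x * ↑u⁻¹ := by
  have hfix' := Groth.Agent.S15586.result S R S' lam hlam hfix (Or.inl inferInstance)
  haveI : Finite (MaximalSpectrum (S' ⊗[S] R)) :=
    finite_maximalSpectrum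
      (Algebra.TensorProduct.congr (AlgEquiv.refl : S' ≃ₐ[S] S') lam).toRingEquiv
      (by
        intro z
        change Algebra.TensorProduct.congr (AlgEquiv.refl : S' ≃ₐ[S] S') lam
          (Algebra.TensorProduct.congr (AlgEquiv.refl : S' ≃ₐ[S] S') lam z) = z
        induction z using TensorProduct.induction_on with
        | zero => simp
        | tmul s r => simp [hlam]
        | add x y hx hy => rw [map_add, map_add, hx, hy])
      hfix'
  haveI : IsAzumaya (S' ⊗[S] R) ((S' ⊗[S] R) ⊗[R] A) :=
    Groth.Agent.Lib.LeadAzumaya.isAzumaya_baseChange (S' ⊗[S] R) A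
  let ψT : ((S' ⊗[S] R) ⊗[R] A) ≃ₐ[S' ⊗[S] R] ((S' ⊗[S] R) ⊗[R] A) :=
    Algebra.TensorProduct.congr AlgEquiv.refl ψ
  obtain ⟨v, hv⟩ := exists_unit_conj ψT
  let u : (S' ⊗[S] A)ˣ := Units.map (Xi (S := S) (R := R) (A := A) S').toRingHom.toMonoidHom v
  have hu : (u : S' ⊗[S] A) = Xi (S := S) (R := R) (A := A) S' (v : _) := rfl
  have hui : ((u⁻¹ : (S' ⊗[S] A)ˣ) : S' ⊗[S] A) =
      Xi (S := S) (R := R) (A := A) S' ((v⁻¹ : ((S' ⊗[S] R) ⊗[R] A)ˣ) : _) := rfl
  refine ⟨u, fun x => ?_⟩
  induction x using TensorProduct.induction_on with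
  | zero => simp
  | tmul s a =>
    have h1 := hv ((s ⊗ₜ[S] (1 : R)) ⊗ₜ[R] a)
    have h2 : ψT ((s ⊗ₜ[S] (1 : R)) ⊗ₜ[R] a) = (s ⊗ₜ[S] (1 : R)) ⊗ₜ[R] ψ a := by
      simp [ψT]
    rw [h2] at h1
    have h3 := congrArg (Xi (S := S) (R := R) (A := A) S') h1
    rw [map_mul, map_mul, Xi_tmul, Xi_tmul, ← hu, ← hui] at h3
    rw [← h3]
    simp
  | add x y hx hy => rw [map_add, hx, hy, mul_add, add_mul]

end Main

end Groth.Agent.Lib.Helper19SemiSN
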