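import Mathlib
import Groth.Agent.Lib.Helper19AzSplitD
import Groth.Agent.Lib.Helper19SemiSNC
import Groth.Agent.S15578
import Groth.Agent.S15586

/-!
# Splitting Azumaya algebras (helper19), part E: splitting over a strictly henselian flat algebra

Let `S` be the fixed ring of an involution of `R`, `A` an Azumaya `R`-algebra of degree `n`, and
`Λ` a flat `S`-algebra which is a strictly henselian local ring.  Then `Λ ⊗[S] A` contains a full
system of `n × n` matrix units.
-/

set_option autoImplicit false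
set_option linter.style.haveILetI false

open TensorProduct

namespace Groth.Agent.Lib.Helper19AzSplit

open Groth.Agent.Lib.LeadAzumaya IsLocalRing Groth.Agent.Lib.Helper19SemiSN

universe u v w

section

variable {S : Type u} {R : Type v} [CommRing S] [CommRing R] [Algebra S R]
  (lam : R ≃ₐ[S] R) (hlam : ∀ r, lam (lam r) = r) (hfix : RInv.IsFixedRing S R lam.toRingEquiv)
  {A : Type w} [Ring A] [Algebra S A] [Algebra R A] [IsScalarTower S R A] [IsAzumaya R A]
  (n : ℕ)
  (Λ : Type u) [CommRing Λ] [Algebra S Λ] [HenselianLocalRing Λ] [IsSepClosed (ResidueField Λ)]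
  [Module.Flat S Λ]

attribute [local instance] Algebra.TensorProduct.rightAlgebra
attribute [local instance 10] algRA

include hlam hfix in
theorem exists_matUnits_strictHensel (hn : 0 < n)
    (hrank : ∀ p : PrimeSpectrum R, Module.rankAtStalk (R := R) A p = n ^ 2) :
    ∃ e : Fin n → Fin n → (Λ ⊗[S] A), IsMatUnits e := by
  have hfix' := Groth.Agent.S15586.result S R Λ lam hlam hfix (Or.inl inferInstance)
  have hinv : Function.Involutive
      (Algebra.TensorProduct.congr (AlgEquiv.refl : Λ ≃ₐ[S] Λ) lam).toRingEquiv := by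
    intro z
    change Algebra.TensorProduct.congr (AlgEquiv.refl : Λ ≃ₐ[S] Λ) lam
      (Algebra.TensorProduct.congr (AlgEquiv.refl : Λ ≃ₐ[S] Λ) lam z) = z
    induction z using TensorProduct.induction_on with
    | zero => simp
    | tmul s r => simp [hlam]
    | add x y hx hy => rw [map_add, map_add, hx, hy]
  obtain ⟨ι, _, T, _, _, hsc, ⟨φ⟩⟩ := Groth.Agent.S15578.result Λ (Λ ⊗[S] R)
    (Algebra.TensorProduct.congr (AlgEquiv.refl : Λ ≃ₐ[S] Λ) lam).toRingEquiv hinv hfix'
  haveI : IsAzumaya (Λ ⊗[S] R) ((Λ ⊗[S] R) ⊗[R] A) := isAzumaya_baseChange (Λ ⊗[S] R) A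
  obtain ⟨e, he⟩ := exists_matUnits_of_pi (Λ ⊗[S] R) ι T hsc φ ((Λ ⊗[S] R) ⊗[R] A) n hn (by
    intro p
    rw [Module.rankAtStalk_baseChange, hrank])
  exact ⟨fun a b => Xi (S := S) (R := R) (A := A) Λ (e a b),
    he.map (Xi (S := S) (R := R) (A := A) Λ : (Λ ⊗[S] R) ⊗[R] A →+* Λ ⊗[S] A)⟩

end

end Groth.Agent.Lib.Helper19AzSplit
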