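import Mathlib
import Groth.Agent.Lib.Helper19AzSplitA

/-!
# Splitting Azumaya algebras (helper19), part F: descent of matrix units along a localisation

Let `B` be a commutative `S`-algebra, `T` its localisation at a submonoid `M₀`, and `A` an
`S`-algebra.  A full system of matrix units in `T ⊗[S] A` comes from one in `B_s ⊗[S] A` for some
`s ∈ M₀`.
-/

set_option autoImplicit false
set_option linter.style.haveILetI false
set_option linter.unusedSectionVars false

open TensorProduct

namespace Groth.Agent.Lib.Helper19AzSplit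

universe u v w

section

variable {S : Type u} [CommRing S] {B : Type v} [CommRing B] [Algebra S B]
  (A : Type w) [Ring A] [Algebra S A]

/-- base change of a `B`-algebra map to `- ⊗[S] A` -/
noncomputable def tmap {X Y : Type v} [CommRing X] [Algebra B X] [Algebra S X] [IsScalarTower S B X]
    [CommRing Y] [Algebra B Y] [Algebra S Y] [IsScalarTower S B Y] (σ : X →ₐ[B] Y) :
    X ⊗[S] A →ₐ[S] Y ⊗[S] A :=
  Algebra.TensorProduct.map (σ.restrictScalars S) (AlgHom.id S A)

variable {X Y Z : Type v} [CommRing X] [Algebra B X] [Algebra S X] [IsScalarTower S B X]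
  [CommRing Y] [Algebra B Y] [Algebra S Y] [IsScalarTower S B Y]
  [CommRing Z] [Algebra B Z] [Algebra S Z] [IsScalarTower S B Z]

@[simp] theorem tmap_tmul (σ : X →ₐ[B] Y) (x : X) (a : A) :
    tmap A σ (x ⊗ₜ[S] a) = σ x ⊗ₜ[S] a := rfl

theorem tmap_tmap (σ : X →ₐ[B] Y) (τ : Y →ₐ[B] Z) (x : X ⊗[S] A) :
    tmap A τ (tmap A σ x) = tmap A (τ.comp σ) x := by
  induction x using TensorProduct.induction_on with
  | zero => simp
  | tmul x a => simp
  | add x y hx hy => simp only [map_add, hx, hy]

theorem tmap_smul (σ : X →ₐ[B] Y) (b : B) (x : X ⊗[S] A) :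
    tmap A σ (b • x) = b • tmap A σ x := by
  induction x using TensorProduct.induction_on with
  | zero => simp
  | tmul x a =>
    rw [TensorProduct.smul_tmul', tmap_tmul, tmap_tmul, TensorProduct.smul_tmul', map_smul]
  | add x y hx hy => simp only [smul_add, map_add, hx, hy]

/-- the canonical map `B ⊗ A → X ⊗ A` -/
noncomputable abbrev iot (X : Type v) [CommRing X] [Algebra B X] [Algebra S X] [IsScalarTower S B X] :
    B ⊗[S] A →ₗ[B] X ⊗[S] A :=
  AlgebraTensorModule.rTensor S A (Algebra.linearMap B X)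

@[simp] theorem iot_tmul (b : B) (a : A) :
    iot A X (b ⊗ₜ[S] a) = algebraMap B X b ⊗ₜ[S] a := rfl

theorem tmap_iot (σ : X →ₐ[B] Y) (y : B ⊗[S] A) : tmap A σ (iot A X y) = iot A Y y := by
  induction y using TensorProduct.induction_on with
  | zero => simp
  | tmul b a => simp
  | add x y hx hy => simp only [map_add, hx, hy]

theorem smul_eq_tmul_mul (b : B) (z : X ⊗[S] A) :
    b • z = (algebraMap B X b ⊗ₜ[S] (1 : A)) * z := by
  induction z using TensorProduct.induction_on with
  | zero => simp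
  | tmul x a =>
    rw [TensorProduct.smul_tmul', Algebra.TensorProduct.tmul_mul_tmul, one_mul,
      Algebra.smul_def]
  | add x y hx hy => rw [smul_add, mul_add, hx, hy]

theorem eq_zero_of_isUnit_smul {b : B} (hb : IsUnit (algebraMap B X b)) {z : X ⊗[S] A}
    (hz : b • z = 0) : z = 0 := by
  obtain ⟨w, hw⟩ := hb.exists_left_inv
  have h1 : (w ⊗ₜ[S] (1 : A)) * (b • z) = z := by
    rw [smul_eq_tmul_mul, ← mul_assoc, Algebra.TensorProduct.tmul_mul_tmul, hw, one_mul,
      ← Algebra.TensorProduct.one_def, one_mul]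
  rw [← h1, hz, mul_zero]

end

section Loc

variable {S : Type u} [CommRing S] {B : Type v} [CommRing B] [Algebra S B]
  (M₀ : Submonoid B) (T : Type v) [CommRing T] [Algebra B T] [Algebra S T] [IsScalarTower S B T]
  [IsLocalization M₀ T] (A : Type w) [Ring A] [Algebra S A]

theorem isUnit_algebraMap_of_dvd {s s' : B} (h : s ∣ s') :
    IsUnit (algebraMap B (Localization.Away s') s) := by
  obtain ⟨c, rfl⟩ := h
  have h1 : IsUnit (algebraMap B (Localization.Away (s * c)) (s * c)) :=
    IsLocalization.Away.algebraMap_isUnit (s * c)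
  rw [map_mul] at h1
  exact isUnit_of_mul_isUnit_left h1

theorem isUnit_algebraMap_of_awayHom {s : B} {X : Type v} [CommRing X] [Algebra B X]
    (f : Localization.Away s →ₐ[B] X) : IsUnit (algebraMap B X s) := by
  have h1 : IsUnit (algebraMap B (Localization.Away s) s) :=
    IsLocalization.Away.algebraMap_isUnit s
  have := h1.map f
  rwa [f.commutes] at this

theorem exists_awayHom (s : B) (X : Type v) [CommRing X] [Algebra B X]
    (h : IsUnit (algebraMap B X s)) : Nonempty (Localization.Away s →ₐ[B] X) := by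
  refine ⟨IsLocalization.liftAlgHom (M := Submonoid.powers s) (f := Algebra.ofId B X) ?_⟩
  rintro ⟨_, k, rfl⟩
  change IsUnit (algebraMap B X (s ^ k))
  rw [map_pow]
  exact h.pow k

/-- **F1.** every element of `T ⊗ A` comes from `B_{s'} ⊗ A` for all multiples `s'` of some
`s ∈ M₀` -/
theorem exists_away_mem_range (u : T ⊗[S] A) :
    ∃ s ∈ M₀, ∀ s' ∈ M₀, s ∣ s' → ∀ σ : Localization.Away s' →ₐ[B] T,
      ∃ v : Localization.Away s' ⊗[S] A, tmap A σ v = u := by
  obtain ⟨⟨y, t⟩, hyt⟩ := IsLocalizedModule.surj M₀ (iot (S := S) A T) u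
  refine ⟨t, t.2, fun s' _ hdvd σ => ?_⟩
  obtain ⟨w, hw⟩ := (isUnit_algebraMap_of_dvd hdvd).exists_left_inv
  refine ⟨(w ⊗ₜ[S] (1 : A)) * iot A (Localization.Away s') y, ?_⟩
  have htT : IsUnit (algebraMap B T (t : B)) := IsLocalization.map_units T t
  have hyt' : (t : B) • u = iot A T y := hyt
  have key : (t : B) • (tmap A σ ((w ⊗ₜ[S] (1 : A)) * iot A (Localization.Away s') y) - u) = 0 := by
    rw [smul_sub, hyt', map_mul, tmap_tmul, tmap_iot]
    have h2 : (t : B) • ((σ w ⊗ₜ[S] (1 : A)) * iot A T y) =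
        (((t : B) • σ w) ⊗ₜ[S] (1 : A)) * iot A T y := by
      rw [← TensorProduct.smul_tmul', smul_mul_assoc]
    have h3 : (t : B) • σ w = 1 := by
      rw [← map_smul, Algebra.smul_def, mul_comm, hw, map_one]
    rw [h2, h3, ← Algebra.TensorProduct.one_def, one_mul, sub_self]
  exact sub_eq_zero.mp (eq_zero_of_isUnit_smul A htT key)

/-- **F2.** an element of `B_s ⊗ A` vanishing in `T ⊗ A` vanishes in `B_{s'} ⊗ A` for all
multiples `s'` of some `t ∈ M₀` -/
theorem exists_away_eq_zero {s : B} (σ : Localization.Away s →ₐ[B] T)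
    (d : Localization.Away s ⊗[S] A) (hd : tmap A σ d = 0) :
    ∃ t ∈ M₀, ∀ s' ∈ M₀, t ∣ s' → ∀ τ : Localization.Away s →ₐ[B] Localization.Away s',
      tmap A τ d = 0 := by
  obtain ⟨⟨y, ⟨_, k, rfl⟩⟩, hy⟩ := IsLocalizedModule.surj (Submonoid.powers s)
    (iot (S := S) A (Localization.Away s)) d
  have hy' : (s ^ k) • d = iot A (Localization.Away s) y := hy
  have h1 : iot A T y = 0 := by
    have := congrArg (tmap A σ) hy'
    rw [tmap_smul, hd, smul_zero, tmap_iot] at this
    exact this.symm
  obtain ⟨t, ht⟩ := (IsLocalizedModule.eq_zero_iff M₀ (iot (S := S) A T)).mp h1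
  refine ⟨t, t.2, fun s' _ hdvd τ => ?_⟩
  have h2 : iot A (Localization.Away s') y = 0 := by
    apply eq_zero_of_isUnit_smul A (isUnit_algebraMap_of_dvd hdvd)
    rw [← map_smul]
    have : (t : B) • y = 0 := ht
    rw [this, map_zero]
  have h3 : (s ^ k) • tmap A τ d = 0 := by
    rw [← tmap_smul, hy', tmap_iot, h2]
  have hsu : IsUnit (algebraMap B (Localization.Away s') (s ^ k)) := by
    rw [map_pow]
    exact (isUnit_algebraMap_of_awayHom τ).pow k
  exact eq_zero_of_isUnit_smul A hsu h3

end Loc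

end Groth.Agent.Lib.Helper19AzSplit
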