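import Mathlib

/-!
# Localisation as a filtered colimit of principal localisations (helper25)

For a submonoid `S` of a ring `B` with localisation `T`, elements of `T ⊗ Y` come from
`B_s ⊗ Y` for some `s ∈ S`, and elements of `B_s ⊗ Y` dying in `T ⊗ Y` die in `B_{s'} ⊗ Y` for
`s'` a multiple of some `t ∈ S`.  Consequences for algebra maps out of finitely presented
algebras.
-/

set_option autoImplicit false
set_option linter.unusedSectionVars false
set_option linter.style.haveILetI false
universe u

namespace Groth.Agent.Lib.Helper25.Spr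

open TensorProduct

section Basics

variable {B : Type u} [CommRing B]

theorem awayHom_eq {s : B} {X : Type u} [CommRing X] [Algebra B X]
    (f g : Localization.Away s →ₐ[B] X) : f = g := by
  haveI : Subsingleton (Localization.Away s →ₐ[B] X) :=
    IsLocalization.algHom_subsingleton (Submonoid.powers s)
  exact Subsingleton.elim f g

theorem exists_awayHom (s : B) (X : Type u) [CommRing X] [Algebra B X]
    (h : IsUnit (algebraMap B X s)) : Nonempty (Localization.Away s →ₐ[B] X) := by
  refine ⟨IsLocalization.liftAlgHom (M := Submonoid.powers s) (f := Algebra.ofId B X) ?_⟩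
  rintro ⟨_, k, rfl⟩
  change IsUnit (algebraMap B X (s ^ k))
  rw [map_pow]
  exact h.pow k

theorem isUnit_algebraMap_of_dvd {s s' : B} (h : s ∣ s') :
    IsUnit (algebraMap B (Localization.Away s') s) := by
  obtain ⟨c, rfl⟩ := h
  have h1 : IsUnit (algebraMap B (Localization.Away (s * c)) (s * c)) :=
    IsLocalization.Away.algebraMap_isUnit (s * c)
  rw [map_mul] at h1
  exact isUnit_of_mul_isUnit_left h1

theorem exists_awayHom_of_dvd {s s' : B} (h : s ∣ s') :
    Nonempty (Localization.Away s →ₐ[B] Localization.Away s') :=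
  exists_awayHom s _ (isUnit_algebraMap_of_dvd h)

theorem isUnit_algebraMap_of_awayHom {s : B} {X : Type u} [CommRing X] [Algebra B X]
    (f : Localization.Away s →ₐ[B] X) : IsUnit (algebraMap B X s) := by
  have h1 : IsUnit (algebraMap B (Localization.Away s) s) :=
    IsLocalization.Away.algebraMap_isUnit s
  have := h1.map f
  rwa [f.commutes] at this

theorem eq_zero_of_isUnit_smul {X : Type u} [CommRing X] [Algebra B X]
    {Z : Type u} [AddCommGroup Z] [Module B Z] [Module X Z] [IsScalarTower B X Z]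
    {b : B} (hb : IsUnit (algebraMap B X b)) {z : Z} (hz : b • z = 0) : z = 0 := by
  rw [← algebraMap_smul X b z] at hz
  exact (hb.smul_eq_zero).mp hz

/-- Finitely many properties of elements of `S`, each holding for all multiples of some element,
hold simultaneously for all multiples of some element. -/
theorem exists_forall_finset (S : Submonoid B) {ι : Type*} (G : Finset ι) (p : ι → B → Prop)
    (h : ∀ i ∈ G, ∃ s ∈ S, ∀ s' ∈ S, s ∣ s' → p i s') :
    ∃ s ∈ S, ∀ s' ∈ S, s ∣ s' → ∀ i ∈ G, p i s' := by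
  classical
  induction G using Finset.induction_on with
  | empty => exact ⟨1, S.one_mem, fun _ _ _ i hi => absurd hi (Finset.notMem_empty i)⟩
  | insert a G ha ih =>
    obtain ⟨s₁, hs₁, h₁⟩ := h a (Finset.mem_insert_self a G)
    obtain ⟨s₂, hs₂, h₂⟩ := ih (fun i hi => h i (Finset.mem_insert_of_mem hi))
    refine ⟨s₁ * s₂, S.mul_mem hs₁ hs₂, fun s' hs' hdvd i hi => ?_⟩
    rcases Finset.mem_insert.mp hi with rfl | hi
    · exact h₁ s' hs' (dvd_trans (dvd_mul_right _ _) hdvd)
    · exact h₂ s' hs' (dvd_trans (dvd_mul_left _ _) hdvd) i hi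

end Basics

section Colim

variable {B : Type u} [CommRing B] (S : Submonoid B) (T : Type u) [CommRing T] [Algebra B T]
  [IsLocalization S T] (Y : Type u) [AddCommGroup Y] [Module B Y]

/-- **F1.** Every element of `T ⊗ Y` comes from `B_{s'} ⊗ Y` for all multiples `s'` of some
`s ∈ S`. -/
theorem exists_away_mem_range (u : T ⊗[B] Y) :
    ∃ s ∈ S, ∀ s' ∈ S, s ∣ s' → ∀ σ : Localization.Away s' →ₐ[B] T,
      ∃ v : Localization.Away s' ⊗[B] Y, LinearMap.rTensor Y σ.toLinearMap v = u := by
  obtain ⟨⟨y, t⟩, hyt⟩ := IsLocalizedModule.surj S (TensorProduct.mk B T Y 1) u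
  refine ⟨t, t.2, fun s' _ hdvd σ => ?_⟩
  obtain ⟨w, hw⟩ := (isUnit_algebraMap_of_dvd hdvd).exists_right_inv
  refine ⟨w ⊗ₜ[B] y, ?_⟩
  have htT : IsUnit (algebraMap B T (t : B)) := IsLocalization.map_units T t
  have key : (t : B) • (LinearMap.rTensor Y σ.toLinearMap (w ⊗ₜ[B] y) - u) = 0 := by
    rw [smul_sub]
    have h1 : ((t : B) • u : T ⊗[B] Y) = (1 : T) ⊗ₜ[B] y := hyt
    rw [h1, LinearMap.rTensor_tmul, TensorProduct.smul_tmul']
    have h2 : ((t : B) • (σ.toLinearMap w) : T) = 1 := by
      change (t : B) • σ w = 1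
      rw [← map_smul, Algebra.smul_def, hw, map_one]
    rw [h2, sub_self]
  exact sub_eq_zero.mp (eq_zero_of_isUnit_smul (X := T) htT key)

/-- **F2.** An element of `B_s ⊗ Y` which vanishes in `T ⊗ Y` vanishes in `B_{s'} ⊗ Y` for all
multiples `s'` of some `t ∈ S`. -/
theorem exists_away_eq_zero {s : B} (σ : Localization.Away s →ₐ[B] T)
    (d : Localization.Away s ⊗[B] Y) (hd : LinearMap.rTensor Y σ.toLinearMap d = 0) :
    ∃ t ∈ S, ∀ s' ∈ S, t ∣ s' → ∀ τ : Localization.Away s →ₐ[B] Localization.Away s',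
      LinearMap.rTensor Y τ.toLinearMap d = 0 := by
  obtain ⟨⟨y, ⟨_, k, rfl⟩⟩, hy⟩ := IsLocalizedModule.surj (Submonoid.powers s)
    (TensorProduct.mk B (Localization.Away s) Y 1) d
  have hy' : (s ^ k) • d = (1 : Localization.Away s) ⊗ₜ[B] y := hy
  have h1 : (1 : T) ⊗ₜ[B] y = 0 := by
    have := congrArg (LinearMap.rTensor Y σ.toLinearMap) hy'
    rw [map_smul, hd, smul_zero, LinearMap.rTensor_tmul] at this
    rw [AlgHom.toLinearMap_apply, map_one] at this
    exact this.symm
  obtain ⟨t, ht⟩ := (IsLocalizedModule.eq_zero_iff S (TensorProduct.mk B T Y 1)).mp h1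
  refine ⟨t, t.2, fun s' _ hdvd τ => ?_⟩
  have h2 : ((1 : Localization.Away s') ⊗ₜ[B] y : Localization.Away s' ⊗[B] Y) = 0 := by
    apply eq_zero_of_isUnit_smul (X := Localization.Away s') (isUnit_algebraMap_of_dvd hdvd)
    rw [← TensorProduct.tmul_smul]
    have : (t : B) • y = 0 := ht
    rw [this, TensorProduct.tmul_zero]
  have h3 : (s ^ k) • LinearMap.rTensor Y τ.toLinearMap d = 0 := by
    rw [← map_smul, hy', LinearMap.rTensor_tmul]
    change τ 1 ⊗ₜ[B] y = 0
    rw [map_one, h2]
  have hsu : IsUnit (algebraMap B (Localization.Away s') (s ^ k)) := by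
    rw [map_pow]
    exact (isUnit_algebraMap_of_awayHom τ).pow k
  exact eq_zero_of_isUnit_smul (X := Localization.Away s') hsu h3

end Colim

end Groth.Agent.Lib.Helper25.Spr
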