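import Mathlib
import Groth.Agent.Lib.Helper19AzSplitF
import Groth.Agent.Lib.Helper25SprA

/-!
# Splitting Azumaya algebras (helper19), part G: matrix units descend along a localisation
-/

set_option autoImplicit false
set_option linter.style.haveILetI false
set_option linter.unusedSectionVars false

open TensorProduct

namespace Groth.Agent.Lib.Helper19AzSplit

universe u v w

section Loc

variable {S : Type u} [CommRing S] {B : Type v} [CommRing B] [Algebra S B]
  (M₀ : Submonoid B) (T : Type v) [CommRing T] [Algebra B T] [Algebra S T] [IsScalarTower S B T]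
  [IsLocalization M₀ T] (A : Type w) [Ring A] [Algebra S A]

/-- matrix units in `T ⊗ A`, `T` a localisation of `B`, come from `B_s ⊗ A` -/
theorem exists_away_matUnits {n : ℕ} (e : Fin n → Fin n → T ⊗[S] A) (he : IsMatUnits e) :
    ∃ s ∈ M₀, ∃ e' : Fin n → Fin n → Localization.Away s ⊗[S] A, IsMatUnits e' := by
  classical
  -- Step 1: lift the matrix units
  obtain ⟨s₁, hs₁, H₁⟩ := Groth.Agent.Lib.Helper25.Spr.exists_forall_finset M₀
    (Finset.univ : Finset (Fin n × Fin n))
    (fun ab s' => ∀ σ : Localization.Away s' →ₐ[B] T,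
      ∃ v : Localization.Away s' ⊗[S] A, tmap A σ v = e ab.1 ab.2)
    (fun ab _ => exists_away_mem_range M₀ T A (e ab.1 ab.2))
  obtain ⟨σ₁⟩ := exists_awayHom s₁ T (IsLocalization.map_units T ⟨s₁, hs₁⟩)
  have H₁' : ∀ ab : Fin n × Fin n, ∃ v : Localization.Away s₁ ⊗[S] A,
      tmap A σ₁ v = e ab.1 ab.2 := fun ab => H₁ s₁ hs₁ dvd_rfl ab (Finset.mem_univ _) σ₁
  choose v hv using H₁'
  -- Step 2: the defects
  let d : (Fin n × Fin n × Fin n × Fin n) ⊕ Unit → Localization.Away s₁ ⊗[S] A := fun i =>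
    match i with
    | Sum.inl (a, b, c, d) => v (a, b) * v (c, d) - (if b = c then v (a, d) else 0)
    | Sum.inr _ => ∑ a, v (a, a) - 1
  have hd : ∀ i, tmap A σ₁ (d i) = 0 := by
    intro i
    rcases i with ⟨a, b, c, d'⟩ | _
    · change tmap A σ₁ (v (a, b) * v (c, d') - (if b = c then v (a, d') else 0)) = 0
      rw [map_sub, map_mul, hv, hv, he.mul]
      split_ifs
      · rw [hv, sub_self]
      · rw [map_zero, sub_self]
    · change tmap A σ₁ (∑ a, v (a, a) - 1) = 0
      rw [map_sub, map_sum, map_one]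
      simp only [hv]
      rw [he.sum, sub_self]
  obtain ⟨t, ht, H₂⟩ := Groth.Agent.Lib.Helper25.Spr.exists_forall_finset M₀
    (Finset.univ : Finset ((Fin n × Fin n × Fin n × Fin n) ⊕ Unit))
    (fun i s' => ∀ τ : Localization.Away s₁ →ₐ[B] Localization.Away s', tmap A τ (d i) = 0)
    (fun i _ => exists_away_eq_zero M₀ T A σ₁ (d i) (hd i))
  -- Step 3
  have hs' : s₁ * t ∈ M₀ := M₀.mul_mem hs₁ ht
  obtain ⟨τ⟩ := exists_awayHom s₁ (Localization.Away (s₁ * t))
    (isUnit_algebraMap_of_dvd (dvd_mul_right s₁ t))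
  have H₂' : ∀ i, tmap A τ (d i) = 0 := fun i =>
    H₂ (s₁ * t) hs' (dvd_mul_left t s₁) i (Finset.mem_univ _) τ
  refine ⟨s₁ * t, hs', fun a b => tmap A τ (v (a, b)), ?_, ?_⟩
  · intro a b c d'
    have h := H₂' (Sum.inl (a, b, c, d'))
    change tmap A τ (v (a, b) * v (c, d') - (if b = c then v (a, d') else 0)) = 0 at h
    rw [map_sub, map_mul, sub_eq_zero] at h
    rw [h]
    split_ifs
    · rfl
    · rw [map_zero]
  · have h := H₂' (Sum.inr ())
    change tmap A τ (∑ a, v (a, a) - 1) = 0 at h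
    rw [map_sub, map_sum, map_one, sub_eq_zero] at h
    exact h

end Loc

end Groth.Agent.Lib.Helper19AzSplit
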