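import Mathlib
import Groth.Agent.Lib.Helper19AzSplitA
import Groth.Agent.Lib.Helper3ShN

/-!
# Splitting Azumaya algebras (helper19), part H: descent of matrix units from the strict
henselization of a local ring to a stage of the defining direct system
-/

set_option autoImplicit false
set_option linter.style.haveILetI false
set_option linter.unusedSectionVars false

open TensorProduct

namespace Groth.Agent.Lib.Helper19AzSplit

open IsLocalRing Groth.Agent.Lib.Helper3.Sh

universe u w

section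

variable (S : Type u) [CommRing S] (R : Type u) [CommRing R] [IsLocalRing R] [Algebra S R]
  (Ω : Type u) [Field Ω] [Algebra R Ω] [Algebra (ResidueField R) Ω]
  [IsScalarTower R (ResidueField R) Ω] [IsSepClosure (ResidueField R) Ω]
  (A : Type w) [Ring A] [Algebra S A]

/-- the `S`-algebra structure on the strict henselization -/
noncomputable def algSsh : Algebra S (Rsh R Ω) :=
  ((algebraMap R (Rsh R Ω)).comp (algebraMap S R)).toAlgebra

/-- the `S`-algebra structure on a stage -/
noncomputable def algSL (i : Idx R Ω) : Algebra S i.L :=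
  ((algebraMap R i.L).comp (algebraMap S R)).toAlgebra

attribute [local instance 10] algSsh algSL

instance : IsScalarTower S R (Rsh R Ω) := IsScalarTower.of_algebraMap_eq (fun _ => rfl)

instance (i : Idx R Ω) : IsScalarTower S R i.L := IsScalarTower.of_algebraMap_eq (fun _ => rfl)

/-- the canonical maps as `S`-algebra maps -/
noncomputable def ofLS (i : Idx R Ω) : i.L →ₐ[S] Rsh R Ω :=
  (ofLₐ i).restrictScalars S

theorem ofLS_apply (i : Idx R Ω) (x : i.L) : ofLS S R Ω i x = ofL i x := rfl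

/-- the transition maps as `S`-algebra maps -/
noncomputable def fmapS (i j : Idx R Ω) (h : i ≤ j) : i.L →ₐ[S] j.L :=
  (fmap i j h).restrictScalars S

theorem fmapS_apply (i j : Idx R Ω) (h : i ≤ j) (x : i.L) : fmapS S R Ω i j h x = fmap' i j h x :=
  rfl

/-- base change of the canonical maps -/
noncomputable def ofLA (i : Idx R Ω) : i.L ⊗[S] A →ₐ[S] Rsh R Ω ⊗[S] A :=
  Algebra.TensorProduct.map (ofLS S R Ω i) (AlgHom.id S A)

theorem exists_mem_range (u : Rsh R Ω ⊗[S] A) :
    ∃ i : Idx R Ω, ∀ j, i ≤ j → u ∈ Set.range (ofLA S R Ω A j) := by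
  induction u using TensorProduct.induction_on with
  | zero => exact ⟨Classical.arbitrary _, fun j _ => ⟨0, map_zero _⟩⟩
  | tmul z a =>
    obtain ⟨i, x, rfl⟩ := exists_ofL z
    refine ⟨i, fun j hij => ⟨(fmap' i j hij x) ⊗ₜ[S] a, ?_⟩⟩
    change (ofLS S R Ω j (fmap' i j hij x)) ⊗ₜ[S] a = _
    rw [ofLS_apply, ofL_fmap]
  | add x y hx hy =>
    obtain ⟨i₁, h₁⟩ := hx
    obtain ⟨i₂, h₂⟩ := hy
    obtain ⟨k, hk₁, hk₂⟩ := exists_ge_ge i₁ i₂
    refine ⟨k, fun j hj => ?_⟩
    obtain ⟨x', hx'⟩ := h₁ j (hk₁.trans hj)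
    obtain ⟨y', hy'⟩ := h₂ j (hk₂.trans hj)
    exact ⟨x' + y', by rw [map_add, hx', hy']⟩

theorem ofLA_injective (i : Idx R Ω) : Function.Injective (ofLA S R Ω A i) := by
  letI : Algebra i.L (Rsh R Ω) := (ofL i).toAlgebra
  haveI : IsLocalHom (algebraMap i.L (Rsh R Ω)) := inferInstanceAs (IsLocalHom (ofL i))
  haveI : Module.Flat i.L (Rsh R Ω) := flat_over_L i
  haveI : Module.FaithfullyFlat i.L (Rsh R Ω) := Module.FaithfullyFlat.of_flat_of_isLocalHom
  haveI : IsScalarTower S i.L (Rsh R Ω) := by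
    apply IsScalarTower.of_algebraMap_eq
    intro s
    change algebraMap R (Rsh R Ω) (algebraMap S R s) = ofL i (algebraMap R i.L (algebraMap S R s))
    rw [algebraMap_eq i]
  have h1 := Module.FaithfullyFlat.tensorProduct_mk_injective (A := i.L) (B := Rsh R Ω)
    (i.L ⊗[S] A)
  let c := AlgebraTensorModule.cancelBaseChange S i.L (Rsh R Ω) (Rsh R Ω) A
  have h2 : ∀ x : i.L ⊗[S] A, ofLA S R Ω A i x = c (TensorProduct.mk i.L (Rsh R Ω) (i.L ⊗[S] A) 1 x) := by
    intro x
    induction x using TensorProduct.induction_on with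
    | zero => simp
    | tmul l a =>
      change (ofLS S R Ω i l) ⊗ₜ[S] a = c ((1 : Rsh R Ω) ⊗ₜ[i.L] (l ⊗ₜ[S] a))
      rw [AlgebraTensorModule.cancelBaseChange_tmul, ofLS_apply, Algebra.smul_def, mul_one]
      rfl
    | add x y hx hy => simp only [map_add, hx, hy]
  intro x y hxy
  rw [h2, h2] at hxy
  exact h1 (c.injective hxy)

/-- matrix units in `Rsh ⊗ A` come from a stage -/
theorem exists_stage_matUnits {n : ℕ} (e : Fin n → Fin n → Rsh R Ω ⊗[S] A) (he : IsMatUnits e) :
    ∃ (i : Idx R Ω) (e' : Fin n → Fin n → i.L ⊗[S] A), IsMatUnits e' := by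
  have h1 : ∀ ab : Fin n × Fin n, ∃ i : Idx R Ω, ∀ j, i ≤ j →
      e ab.1 ab.2 ∈ Set.range (ofLA S R Ω A j) := fun ab => exists_mem_range S R Ω A _
  choose idx hidx using h1
  obtain ⟨i, hi⟩ := Finite.exists_le idx
  have h2 : ∀ ab : Fin n × Fin n, ∃ v : i.L ⊗[S] A, ofLA S R Ω A i v = e ab.1 ab.2 :=
    fun ab => hidx ab i (hi ab)
  choose v hv using h2
  refine ⟨i, fun a b => v (a, b), ?_, ?_⟩
  · intro a b c d
    apply ofLA_injective S R Ω A i
    rw [map_mul, hv, hv, he.mul]
    split_ifs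
    · rw [hv]
    · rw [map_zero]
  · apply ofLA_injective S R Ω A i
    rw [map_sum, map_one]
    simp only [hv]
    exact he.sum

end

end Groth.Agent.Lib.Helper19AzSplit
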