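import Mathlib
import Groth.Agent.Lib.Helper19AzSplitG

/-!
# Splitting Azumaya algebras (helper19), part I: spreading out a splitting to an étale algebra

`SplitsAt S A n X`: the algebra `X ⊗[S] A` contains a full system of `n × n` matrix units.
`Good S A n p`: there is an étale `S`-algebra with a prime over `p` over which `A` splits.
-/

set_option autoImplicit false
set_option linter.style.haveILetI false
set_option linter.unusedSectionVars false

open TensorProduct

namespace Groth.Agent.Lib.Helper19AzSplit

universe u w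

section Defs

variable (S : Type u) [CommRing S] (A : Type w) [Ring A] [Algebra S A] (n : ℕ)

/-- `X ⊗[S] A` contains `n × n` matrix units -/
def SplitsAt (X : Type u) [CommRing X] [Algebra S X] : Prop :=
  ∃ e : Fin n → Fin n → X ⊗[S] A, IsMatUnits e

/-- there is an étale `S`-algebra with a prime over `p` over which `A` splits -/
def Good (p : Ideal S) : Prop :=
  ∃ (E : Type u) (_ : CommRing E) (_ : Algebra S E), Algebra.Etale S E ∧
    (∃ Q : Ideal E, Q.IsPrime ∧ Q.comap (algebraMap S E) = p) ∧ SplitsAt S A n E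

variable {S A n}

theorem SplitsAt.of_algHom {X Y : Type u} [CommRing X] [Algebra S X] [CommRing Y] [Algebra S Y]
    (ψ : X →ₐ[S] Y) (h : SplitsAt S A n X) : SplitsAt S A n Y := by
  obtain ⟨e, he⟩ := h
  exact ⟨fun a b => Algebra.TensorProduct.map ψ (AlgHom.id S A) (e a b),
    he.map (Algebra.TensorProduct.map ψ (AlgHom.id S A) : X ⊗[S] A →+* Y ⊗[S] A)⟩

end Defs

section T2

variable {S : Type u} [CommRing S] {A : Type w} [Ring A] [Algebra S A] {n : ℕ}
  (p : Ideal S)

/-- If `A` splits over a localisation `T` of an étale `S`-algebra `B₀`, and `T` has a prime over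
`p`, then `A` splits over an étale `S`-algebra with a prime over `p`. -/
theorem good_of_localization
    (B₀ : Type u) [CommRing B₀] [Algebra S B₀] [Algebra.Etale S B₀] (M₀ : Submonoid B₀)
    (T : Type u) [CommRing T] [Algebra B₀ T] [Algebra S T] [IsScalarTower S B₀ T]
    [IsLocalization M₀ T]
    (Q : Ideal T) [hQ : Q.IsPrime] (hQp : Q.comap (algebraMap S T) = p)
    (h : SplitsAt S A n T) : Good S A n p := by
  obtain ⟨e, he⟩ := h
  obtain ⟨s, hs, e', he'⟩ := exists_away_matUnits M₀ T A e he
  obtain ⟨j⟩ := exists_awayHom s T (IsLocalization.map_units T ⟨s, hs⟩)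
  haveI : Algebra.Etale S (Localization.Away s) := Algebra.Etale.comp S B₀ (Localization.Away s)
  refine ⟨Localization.Away s, inferInstance, inferInstance, inferInstance,
    ⟨Q.comap j.toRingHom, Ideal.comap_isPrime _ _, ?_⟩, ⟨e', he'⟩⟩
  rw [Ideal.comap_comap, ← hQp]
  congr 1
  ext r
  change j (algebraMap S (Localization.Away s) r) = algebraMap S T r
  rw [IsScalarTower.algebraMap_apply S B₀ (Localization.Away s), j.commutes,
    ← IsScalarTower.algebraMap_apply]

/-- The same with `T = A' ⊗[R'] B₀`, where `A'` is a localisation of an étale `S`-algebra `R'` and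
`B₀` is étale over `R'`. -/
theorem good_of_tensor
    (R' : Type u) [CommRing R'] [Algebra S R'] [Algebra.Etale S R']
    (A' : Type u) [CommRing A'] [Algebra S A'] [Algebra R' A'] [IsScalarTower S R' A']
    (S' : Submonoid R') [IsLocalization S' A']
    (B₀ : Type u) [CommRing B₀] [Algebra R' B₀] [Algebra.Etale R' B₀]
    (Q : Ideal (A' ⊗[R'] B₀)) [hQ : Q.IsPrime]
    (hQp : Q.comap (algebraMap S (A' ⊗[R'] B₀)) = p)
    (h : SplitsAt S A n (A' ⊗[R'] B₀)) : Good S A n p := by
  letI : Algebra S B₀ := ((algebraMap R' B₀).comp (algebraMap S R')).toAlgebra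
  haveI : IsScalarTower S R' B₀ := IsScalarTower.of_algebraMap_eq (fun _ => rfl)
  haveI : Algebra.Etale S B₀ := Algebra.Etale.comp S R' B₀
  letI : Algebra B₀ (A' ⊗[R'] B₀) := Algebra.TensorProduct.rightAlgebra
  haveI : IsScalarTower S B₀ (A' ⊗[R'] B₀) := by
    apply IsScalarTower.of_algebraMap_eq
    intro r
    change algebraMap S A' r ⊗ₜ[R'] (1 : B₀) =
      (1 : A') ⊗ₜ[R'] (algebraMap R' B₀ (algebraMap S R' r))
    rw [Algebra.algebraMap_eq_smul_one (algebraMap S R' r), ← TensorProduct.smul_tmul,
      ← Algebra.algebraMap_eq_smul_one, ← IsScalarTower.algebraMap_apply]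
  haveI : IsLocalization (Algebra.algebraMapSubmonoid B₀ S') (A' ⊗[R'] B₀) :=
    IsLocalization.tensorRight A' S'
  exact good_of_localization p B₀ (Algebra.algebraMapSubmonoid B₀ S') (A' ⊗[R'] B₀) Q hQp h

end T2

end Groth.Agent.Lib.Helper19AzSplit
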