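import Groth.Agent.Lib.Helper25SprA

/-!
# Standard étale pairs over a localisation come from a principal localisation (helper25)
-/

set_option autoImplicit false
set_option linter.unusedSectionVars false
set_option linter.style.haveILetI false
universe u

namespace Groth.Agent.Lib.Helper25.Spr

open TensorProduct Polynomial

section Coeff

variable {R : Type u} [CommRing R] (S : Submonoid R) (A : Type u) [CommRing A] [Algebra R A]
  [IsLocalization S A]

theorem exists_away_coeff_lift (a : A) :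
    ∃ g ∈ S, ∀ g' ∈ S, g ∣ g' → ∀ ι : Localization.Away g' →ₐ[R] A,
      ∃ c : Localization.Away g', ι c = a := by
  obtain ⟨r, t, rfl⟩ := IsLocalization.exists_mk'_eq S a
  refine ⟨t, t.2, fun g' _ hdvd ι => ?_⟩
  obtain ⟨w, hw⟩ := (isUnit_algebraMap_of_dvd hdvd).exists_right_inv
  refine ⟨algebraMap R _ r * w, ?_⟩
  have htA : IsUnit (algebraMap R A (t : R)) := IsLocalization.map_units A t
  apply htA.mul_left_injective
  change ι (algebraMap R _ r * w) * algebraMap R A t = IsLocalization.mk' A r t * algebraMap R A t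
  rw [IsLocalization.mk'_spec, ← ι.commutes (t : R), ← map_mul, mul_assoc, mul_comm w, hw,
    mul_one, ι.commutes]

theorem exists_away_coeff_eq_zero {g : R} (ι : Localization.Away g →ₐ[R] A)
    (c : Localization.Away g) (hc : ι c = 0) :
    ∃ t ∈ S, ∀ g' ∈ S, t ∣ g' → ∀ τ : Localization.Away g →ₐ[R] Localization.Away g',
      τ c = 0 := by
  obtain ⟨t, ht, h⟩ := exists_away_eq_zero S A R ι (c ⊗ₜ[R] (1 : R))
    (by rw [LinearMap.rTensor_tmul]; change ι c ⊗ₜ[R] (1 : R) = 0; rw [hc, TensorProduct.zero_tmul])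
  refine ⟨t, ht, fun g' hg' hdvd τ => ?_⟩
  have h1 := h g' hg' hdvd τ
  rw [LinearMap.rTensor_tmul] at h1
  have h2 := congrArg (TensorProduct.rid R (Localization.Away g')) h1
  rw [TensorProduct.rid_tmul, one_smul, map_zero] at h2
  exact h2

end Coeff

section Poly

variable {R : Type u} [CommRing R] (S : Submonoid R) (A : Type u) [CommRing A] [Algebra R A]
  [IsLocalization S A]

theorem exists_away_poly_lift (q : A[X]) :
    ∃ g ∈ S, ∀ g' ∈ S, g ∣ g' → ∀ ι : Localization.Away g' →ₐ[R] A,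
      ∃ q₀ : (Localization.Away g')[X], q₀.map ι.toRingHom = q ∧ q₀.support ⊆ q.support := by
  classical
  obtain ⟨g, hg, h⟩ := exists_forall_finset S q.support
    (fun i g' => ∀ ι : Localization.Away g' →ₐ[R] A, ∃ c : Localization.Away g', ι c = q.coeff i)
    (fun i _ => exists_away_coeff_lift S A (q.coeff i))
  refine ⟨g, hg, fun g' hg' hdvd ι => ?_⟩
  have h' : ∀ i : ℕ, ∃ c : Localization.Away g', i ∈ q.support → ι c = q.coeff i := by
    intro i
    by_cases hi : i ∈ q.support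
    · obtain ⟨c, hc⟩ := h g' hg' hdvd i hi ι
      exact ⟨c, fun _ => hc⟩
    · exact ⟨0, fun h => absurd h hi⟩
  choose c hc using h'
  refine ⟨∑ i ∈ q.support, monomial i (c i), ?_, ?_⟩
  · rw [Polynomial.map_sum]
    conv_rhs => rw [q.as_sum_support]
    apply Finset.sum_congr rfl
    intro i hi
    rw [Polynomial.map_monomial]
    change monomial i (ι (c i)) = _
    rw [hc i hi]
  · intro j hj
    by_contra hjq
    rw [Polynomial.mem_support_iff, Polynomial.finset_sum_coeff] at hj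
    apply hj
    apply Finset.sum_eq_zero
    intro i hi
    rw [Polynomial.coeff_monomial, if_neg]
    rintro rfl
    exact hjq hi

theorem exists_away_poly_eq {g : R} (ι : Localization.Away g →ₐ[R] A)
    (q₀ q₁ : (Localization.Away g)[X]) (h : q₀.map ι.toRingHom = q₁.map ι.toRingHom) :
    ∃ t ∈ S, ∀ g' ∈ S, t ∣ g' → ∀ τ : Localization.Away g →ₐ[R] Localization.Away g',
      q₀.map τ.toRingHom = q₁.map τ.toRingHom := by
  classical
  obtain ⟨t, ht, h2⟩ := exists_forall_finset S (q₀ - q₁).support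
    (fun i g' => ∀ τ : Localization.Away g →ₐ[R] Localization.Away g', τ ((q₀ - q₁).coeff i) = 0)
    (fun i _ => exists_away_coeff_eq_zero S A ι ((q₀ - q₁).coeff i) (by
      have := congrArg (fun p => p.coeff i) h
      simp only [Polynomial.coeff_map] at this
      rw [Polynomial.coeff_sub, map_sub]
      exact sub_eq_zero.mpr this))
  refine ⟨t, ht, fun g' hg' hdvd τ => ?_⟩
  rw [← sub_eq_zero, ← Polynomial.map_sub]
  ext i
  rw [Polynomial.coeff_map, Polynomial.coeff_zero]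
  by_cases hi : i ∈ (q₀ - q₁).support
  · exact h2 g' hg' hdvd i hi τ
  · rw [Polynomial.notMem_support_iff.mp hi]
    exact map_zero _

end Poly

section Pair

variable {R : Type u} [CommRing R] (S : Submonoid R) (A : Type u) [CommRing A] [Algebra R A]
  [IsLocalization S A]

theorem pair_ext {A : Type u} [CommRing A] {P Q : StandardEtalePair A} (hf : P.f = Q.f)
    (hg : P.g = Q.g) : P = Q := by
  cases P
  cases Q
  simp only at hf hg
  subst hf
  subst hg
  rfl

/-- A standard étale pair over `S⁻¹R` comes from `R_g` for some `g ∈ S`. -/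
theorem exists_away_pair (P : StandardEtalePair A) :
    ∃ g ∈ S, ∃ (ι : Localization.Away g →ₐ[R] A) (P₀ : StandardEtalePair (Localization.Away g)),
      P₀.map ι.toRingHom = P := by
  classical
  obtain ⟨p₁, p₂, k, hk⟩ := P.cond
  set n := P.f.natDegree with hn
  set ℓ := P.f.eraseLead with hℓ
  have hfℓ : P.f = X ^ n + ℓ := by
    have := Polynomial.eraseLead_add_monomial_natDegree_leadingCoeff P.f
    rw [P.monic_f.leadingCoeff, ← Polynomial.X_pow_eq_monomial] at this
    rw [add_comm]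
    exact this.symm
  have hdeg : ℓ.degree < n := by
    by_cases hf : P.f = 0
    · rw [hℓ, hf, Polynomial.eraseLead_zero, Polynomial.degree_zero]
      exact WithBot.bot_lt_coe n
    · exact lt_of_lt_of_le (Polynomial.degree_eraseLead_lt hf) Polynomial.degree_le_natDegree
  obtain ⟨ga, hga, La⟩ := exists_away_poly_lift S A ℓ
  obtain ⟨gb, hgb, Lb⟩ := exists_away_poly_lift S A P.g
  obtain ⟨gc, hgc, Lc⟩ := exists_away_poly_lift S A p₁
  obtain ⟨gd, hgd, Ld⟩ := exists_away_poly_lift S A p₂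
  set g₁ := ga * gb * (gc * gd) with hg₁
  have hg₁S : g₁ ∈ S := S.mul_mem (S.mul_mem hga hgb) (S.mul_mem hgc hgd)
  have da : ga ∣ g₁ := dvd_mul_of_dvd_left (dvd_mul_right _ _) _
  have db : gb ∣ g₁ := dvd_mul_of_dvd_left (dvd_mul_left _ _) _
  have dc : gc ∣ g₁ := dvd_mul_of_dvd_right (dvd_mul_right _ _) _
  have dd : gd ∣ g₁ := dvd_mul_of_dvd_right (dvd_mul_left _ _) _
  obtain ⟨ι₁⟩ := exists_awayHom g₁ A (IsLocalization.map_units A ⟨g₁, hg₁S⟩)
  obtain ⟨ℓ₀, hℓ₀, hℓ₀s⟩ := La g₁ hg₁S da ι₁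
  obtain ⟨g₀, hg₀, -⟩ := Lb g₁ hg₁S db ι₁
  obtain ⟨p₁₀, hp₁₀, -⟩ := Lc g₁ hg₁S dc ι₁
  obtain ⟨p₂₀, hp₂₀, -⟩ := Ld g₁ hg₁S dd ι₁
  have hdeg₀ : ℓ₀.degree < n := lt_of_le_of_lt (Polynomial.degree_mono hℓ₀s) hdeg
  set f₀ : (Localization.Away g₁)[X] := X ^ n + ℓ₀ with hf₀
  have hf₀m : f₀.Monic := Polynomial.monic_X_pow_add hdeg₀
  have hf₀map : f₀.map ι₁.toRingHom = P.f := by
    rw [hf₀, Polynomial.map_add, Polynomial.map_pow, Polynomial.map_X, hℓ₀, ← hfℓ]
  have hE : (derivative f₀ * p₁₀ + f₀ * p₂₀).map ι₁.toRingHom = (g₀ ^ k).map ι₁.toRingHom := by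
    rw [Polynomial.map_add, Polynomial.map_mul, Polynomial.map_mul, Polynomial.map_pow,
      ← Polynomial.derivative_map, hf₀map, hp₁₀, hp₂₀, hg₀, hk]
  obtain ⟨t, ht, Lt⟩ := exists_away_poly_eq S A ι₁ _ _ hE
  have hg₂S : g₁ * t ∈ S := S.mul_mem hg₁S ht
  obtain ⟨ι₂⟩ := exists_awayHom (g₁ * t) A (IsLocalization.map_units A ⟨g₁ * t, hg₂S⟩)
  obtain ⟨τ⟩ := exists_awayHom_of_dvd (dvd_mul_right g₁ t)
  have hE' := Lt (g₁ * t) hg₂S (dvd_mul_left t g₁) τ
  have hιτ : ι₂.toRingHom.comp τ.toRingHom = ι₁.toRingHom := by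
    have := awayHom_eq (ι₂.comp τ) ι₁
    exact congrArg AlgHom.toRingHom this
  refine ⟨g₁ * t, hg₂S, ι₂, ⟨f₀.map τ.toRingHom, hf₀m.map _, g₀.map τ.toRingHom,
    ⟨p₁₀.map τ.toRingHom, p₂₀.map τ.toRingHom, k, ?_⟩⟩, ?_⟩
  · rw [Polynomial.map_add, Polynomial.map_mul, Polynomial.map_mul, Polynomial.map_pow,
      ← Polynomial.derivative_map] at hE'
    exact hE'
  · apply pair_ext
    · change (f₀.map τ.toRingHom).map ι₂.toRingHom = P.f
      rw [Polynomial.map_map, hιτ, hf₀map]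
    · change (g₀.map τ.toRingHom).map ι₂.toRingHom = P.g
      rw [Polynomial.map_map, hιτ, hg₀]

end Pair

end Groth.Agent.Lib.Helper25.Spr
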