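import Mathlib
import Groth.Agent.Lib.Helper19AzSplitI
import Groth.Agent.Lib.Helper25SprG

/-!
# Splitting Azumaya algebras (helper19), part J: from a standard étale algebra over `S_p` to an
étale algebra over `S`
-/

set_option autoImplicit false
set_option linter.style.haveILetI false
set_option linter.unusedSectionVars false

open TensorProduct

namespace Groth.Agent.Lib.Helper19AzSplit

universe u w

/-- The tautological presentation of the standard étale algebra of a pair. -/
noncomputable def tautPres {R' : Type u} [CommRing R'] (P₀ : StandardEtalePair R') :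
    StandardEtalePresentation R' P₀.Ring :=
  ⟨P₀, P₀.X, P₀.hasMap_X, by
    simpa [StandardEtalePair.lift_X_left] using Function.bijective_id⟩

section T4

variable {S : Type u} [CommRing S] {A : Type w} [Ring A] [Algebra S A] {n : ℕ}
  (p : Ideal S) [p.IsPrime]

theorem good_of_standardEtale
    (C₂ : Type u) [CommRing C₂] [Algebra (Localization.AtPrime p) C₂] [Algebra S C₂]
    [IsScalarTower S (Localization.AtPrime p) C₂]
    (hstd : Algebra.IsStandardEtale (Localization.AtPrime p) C₂)
    (Q : Ideal C₂) [hQ : Q.IsPrime] (hQp : Q.comap (algebraMap S C₂) = p)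
    (h : SplitsAt S A n C₂) : Good S A n p := by
  obtain ⟨⟨P, x, hx, hbij⟩⟩ := hstd.nonempty_standardEtalePresentation
  obtain ⟨g, hg, ι, P₀, rfl⟩ :=
    Groth.Agent.Lib.Helper25.Spr.exists_away_pair p.primeCompl (Localization.AtPrime p) P
  letI : Algebra (Localization.Away g) (Localization.AtPrime p) := ι.toRingHom.toAlgebra
  haveI : IsScalarTower S (Localization.Away g) (Localization.AtPrime p) :=
    IsScalarTower.of_algebraMap_eq (fun r => (ι.commutes r).symm)
  have hle : Submonoid.powers g ≤ p.primeCompl := by
    rintro _ ⟨k, rfl⟩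
    exact p.primeCompl.pow_mem hg k
  haveI : IsLocalization (p.primeCompl.map (algebraMap S (Localization.Away g)))
      (Localization.AtPrime p) :=
    IsLocalization.isLocalization_of_submonoid_le (Localization.Away g) (Localization.AtPrime p)
      (Submonoid.powers g) p.primeCompl hle
  let pres : StandardEtalePresentation (Localization.AtPrime p)
      (Localization.AtPrime p ⊗[Localization.Away g] P₀.Ring) := (tautPres P₀).baseChange
  let e₂ : (P₀.map ι.toRingHom).Ring ≃ₐ[Localization.AtPrime p] C₂ := AlgEquiv.ofBijective _ hbij
  let eT : (Localization.AtPrime p ⊗[Localization.Away g] P₀.Ring) ≃ₐ[Localization.AtPrime p] C₂ :=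
    pres.equivRing.trans e₂
  have h' : SplitsAt S A n (Localization.AtPrime p ⊗[Localization.Away g] P₀.Ring) :=
    h.of_algHom ((eT.symm : C₂ →ₐ[Localization.AtPrime p] _).restrictScalars S)
  refine good_of_tensor p (Localization.Away g) (Localization.AtPrime p)
    (p.primeCompl.map (algebraMap S (Localization.Away g))) P₀.Ring
    (Q.comap eT.toRingEquiv.toRingHom) ?_ h'
  haveI := hQ
  rw [Ideal.comap_comap]
  refine Eq.trans ?_ hQp
  congr 1
  ext r
  change eT (algebraMap S _ r) = algebraMap S C₂ r
  rw [IsScalarTower.algebraMap_apply S (Localization.AtPrime p)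
    (Localization.AtPrime p ⊗[Localization.Away g] P₀.Ring), eT.commutes,
    ← IsScalarTower.algebraMap_apply]

end T4

end Groth.Agent.Lib.Helper19AzSplit
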