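import Mathlib
import Groth.Agent.Lib.Helper19AzSplitH
import Groth.Agent.Lib.Helper19AzSplitJ

/-!
# Splitting Azumaya algebras (helper19), part K: from a stage of the strict henselization of `S_p`
to an étale `S`-algebra
-/

set_option autoImplicit false
set_option linter.style.haveILetI false
set_option linter.unusedSectionVars false

open TensorProduct

namespace Groth.Agent.Lib.Helper19AzSplit

open IsLocalRing Groth.Agent.Lib.Helper3.Sh

universe u w

section T5

variable {S : Type u} [CommRing S] {A : Type w} [Ring A] [Algebra S A] {n : ℕ}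
  (p : Ideal S) [p.IsPrime]
  (Ω : Type u) [Field Ω] [Algebra (Localization.AtPrime p) Ω]
  [Algebra (ResidueField (Localization.AtPrime p)) Ω]
  [IsScalarTower (Localization.AtPrime p) (ResidueField (Localization.AtPrime p)) Ω]
  [IsSepClosure (ResidueField (Localization.AtPrime p)) Ω]

/-- the `S`-algebra structure on the étale algebra of a stage -/
noncomputable def algSC (i : Idx (Localization.AtPrime p) Ω) : Algebra S i.C :=
  ((algebraMap (Localization.AtPrime p) i.C).comp (algebraMap S (Localization.AtPrime p))).toAlgebra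

attribute [local instance 10] algSsh algSL algSC

instance (i : Idx (Localization.AtPrime p) Ω) : IsScalarTower S (Localization.AtPrime p) i.C :=
  IsScalarTower.of_algebraMap_eq (fun _ => rfl)

instance (i : Idx (Localization.AtPrime p) Ω) : IsScalarTower S i.C i.L := by
  apply IsScalarTower.of_algebraMap_eq
  intro r
  change algebraMap (Localization.AtPrime p) i.L (algebraMap S _ r) =
    algebraMap i.C i.L (algebraMap (Localization.AtPrime p) i.C (algebraMap S _ r))
  rw [← IsScalarTower.algebraMap_apply (Localization.AtPrime p) i.C i.L]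

theorem comap_maximalIdeal_L (i : Idx (Localization.AtPrime p) Ω) :
    (maximalIdeal i.L).comap (algebraMap S i.L) = p := by
  have h1 : algebraMap S i.L =
      (algebraMap (Localization.AtPrime p) i.L).comp (algebraMap S (Localization.AtPrime p)) := rfl
  rw [h1, ← Ideal.comap_comap, IsLocalRing.maximalIdeal_comap]
  exact Localization.AtPrime.under_maximalIdeal

theorem good_of_stage (i : Idx (Localization.AtPrime p) Ω) (h : SplitsAt S A n i.L) :
    Good S A n p := by
  obtain ⟨e, he⟩ := h
  -- Step 1: descend to a basic open of `Spec C`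
  obtain ⟨s, hs, e₁, he₁⟩ := exists_away_matUnits (S := S) (B := i.C) i.Q.primeCompl i.L A e he
  obtain ⟨σ₁⟩ := exists_awayHom s i.L (IsLocalization.map_units i.L ⟨s, hs⟩)
  let C₁ := Localization.Away s
  haveI : IsScalarTower S (Localization.AtPrime p) C₁ := by
    apply IsScalarTower.of_algebraMap_eq
    intro r
    rw [IsScalarTower.algebraMap_apply S i.C C₁,
      IsScalarTower.algebraMap_apply (Localization.AtPrime p) i.C C₁,
      ← IsScalarTower.algebraMap_apply S (Localization.AtPrime p) i.C]
  haveI : Algebra.Etale (Localization.AtPrime p) C₁ :=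
    Algebra.Etale.comp (Localization.AtPrime p) i.C C₁
  let Q₁ : Ideal C₁ := (maximalIdeal i.L).comap σ₁.toRingHom
  haveI hQ₁ : Q₁.IsPrime := Ideal.comap_isPrime _ _
  have hQ₁p : Q₁.comap (algebraMap S C₁) = p := by
    rw [Ideal.comap_comap]
    refine Eq.trans ?_ (comap_maximalIdeal_L p Ω i)
    congr 1
    ext r
    change σ₁ (algebraMap S C₁ r) = algebraMap S i.L r
    rw [IsScalarTower.algebraMap_apply S i.C C₁, σ₁.commutes, ← IsScalarTower.algebraMap_apply]
  haveI : Algebra.IsEtaleAt (Localization.AtPrime p) Q₁ := by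
    change Algebra.FormallyEtale (Localization.AtPrime p) (Localization.AtPrime Q₁)
    haveI : Algebra.FormallyEtale C₁ (Localization.AtPrime Q₁) :=
      Algebra.FormallyEtale.of_isLocalization Q₁.primeCompl
    exact Algebra.FormallyEtale.comp (Localization.AtPrime p) C₁ (Localization.AtPrime Q₁)
  -- Step 2: shrink to a standard étale algebra
  obtain ⟨f, hfq, hstd⟩ :=
    Algebra.IsEtaleAt.exists_isStandardEtale (R := Localization.AtPrime p) Q₁
  let C₂ := Localization.Away f
  haveI : @IsScalarTower S (Localization.AtPrime p) C₂ Algebra.toSMul Algebra.toSMul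
      Algebra.toSMul := by
    apply IsScalarTower.of_algebraMap_eq
    intro r
    rw [IsScalarTower.algebraMap_apply S C₁ C₂,
      IsScalarTower.algebraMap_apply (Localization.AtPrime p) C₁ C₂,
      ← IsScalarTower.algebraMap_apply S (Localization.AtPrime p) C₁]
  have hdisj : Disjoint (Submonoid.powers f : Set C₁) (Q₁ : Set C₁) := by
    rw [Set.disjoint_left]
    rintro _ ⟨k, rfl⟩ hk
    exact hfq (hQ₁.mem_of_pow_mem k hk)
  have hp₂ : (Q₁.map (algebraMap C₁ C₂)).IsPrime :=
    IsLocalization.isPrime_of_isPrime_disjoint (Submonoid.powers f) C₂ Q₁ hQ₁ hdisj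
  have hpp : (Q₁.map (algebraMap C₁ C₂)).comap (algebraMap C₁ C₂) = Q₁ :=
    IsLocalization.comap_map_of_isPrime_disjoint (Submonoid.powers f) C₂ hQ₁ hdisj
  have h₂ : SplitsAt S A n C₂ :=
    SplitsAt.of_algHom (IsScalarTower.toAlgHom S C₁ C₂) ⟨e₁, he₁⟩
  refine good_of_standardEtale p C₂ hstd (Q₁.map (algebraMap C₁ C₂)) ?_ h₂
  rw [IsScalarTower.algebraMap_eq S C₁ C₂, ← Ideal.comap_comap, hpp, hQ₁p]

end T5

end Groth.Agent.Lib.Helper19AzSplit
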