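import Mathlib
import Groth.Agent.Lib.Helper19AzSplitE
import Groth.Agent.Lib.Helper19AzSplitK

/-!
# Splitting Azumaya algebras (helper19), part L: étale-local splitting over the fixed ring

Let `S` be the fixed ring of an involution of `R` and `A` an Azumaya `R`-algebra of degree `n`.
Then there is an étale faithfully flat `S`-algebra `S'` such that `S' ⊗[S] A` contains a full
system of `n × n` matrix units.
-/

set_option autoImplicit false
set_option linter.style.haveILetI false
set_option linter.unusedSectionVars false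

open TensorProduct

namespace Groth.Agent.Lib.Helper19AzSplit

open IsLocalRing Groth.Agent.Lib.Helper3.Sh

universe u v w

section Prime

variable {S : Type u} {R : Type v} [CommRing S] [CommRing R] [Algebra S R]
  (lam : R ≃ₐ[S] R) (hlam : ∀ r, lam (lam r) = r) (hfix : RInv.IsFixedRing S R lam.toRingEquiv)
  {A : Type w} [Ring A] [Algebra S A] [Algebra R A] [IsScalarTower S R A] [IsAzumaya R A]
  (n : ℕ)

attribute [local instance 10] algSsh algSL

include hlam hfix in
theorem good_of_prime (hn : 0 < n)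
    (hrank : ∀ p : PrimeSpectrum R, Module.rankAtStalk (R := R) A p = n ^ 2)
    (p : Ideal S) [p.IsPrime] : Good S A n p := by
  let Sp := Localization.AtPrime p
  let Ω := SeparableClosure (ResidueField Sp)
  letI : Algebra Sp Ω :=
    ((algebraMap (ResidueField Sp) Ω).comp (algebraMap Sp (ResidueField Sp))).toAlgebra
  haveI : IsScalarTower Sp (ResidueField Sp) Ω := IsScalarTower.of_algebraMap_eq (fun _ => rfl)
  let Λ := Rsh Sp Ω
  haveI : Module.Flat S Λ := Module.Flat.trans S Sp Λ
  haveI : IsSepClosed (ResidueField Λ) :=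
    (inferInstance : IsSepClosure (ResidueField Sp) (ResidueField Λ)).sep_closed
  obtain ⟨e, he⟩ := exists_matUnits_strictHensel lam hlam hfix (A := A) n Λ hn hrank
  obtain ⟨i, e', he'⟩ := exists_stage_matUnits S Sp Ω A e he
  exact good_of_stage p Ω i ⟨e', he'⟩

end Prime

section Glue

variable {S : Type u} [CommRing S] {A : Type w} [Ring A] [Algebra S A] {n : ℕ}

theorem exists_cover_of_good (H : ∀ (p : Ideal S) [p.IsPrime], Good S A n p) :
    ∃ (S' : Type u) (_ : CommRing S') (_ : Algebra S S'), Algebra.Etale S S' ∧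
      Module.FaithfullyFlat S S' ∧ SplitsAt S A n S' := by
  classical
  have H' : ∀ x : PrimeSpectrum S, Good S A n x.asIdeal := fun x => H x.asIdeal
  choose E instCR instAlg hEt hQ e₀ he₀ using H'
  letI : ∀ x, CommRing (E x) := instCR
  letI : ∀ x, Algebra S (E x) := instAlg
  haveI : ∀ x, Algebra.Etale S (E x) := hEt
  let U : PrimeSpectrum S → Set (PrimeSpectrum S) := fun x =>
    Set.range (PrimeSpectrum.comap (algebraMap S (E x)))
  have hopen : ∀ x, IsOpen (U x) := fun x =>
    (PrimeSpectrum.isOpenMap_comap_of_hasGoingDown_of_finitePresentation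
      (R := S) (S := E x)).isOpen_range
  have hmem : ∀ x, x ∈ U x := by
    intro x
    obtain ⟨Q, hQp, hQx⟩ := hQ x
    exact ⟨⟨Q, hQp⟩, PrimeSpectrum.ext hQx⟩
  obtain ⟨t, ht⟩ := isCompact_univ.elim_finite_subcover U hopen
    (fun x _ => Set.mem_iUnion.mpr ⟨x, hmem x⟩)
  let m := t.card
  let idx : Fin m → PrimeSpectrum S := fun k => (t.equivFin.symm k).1
  have hidx : ∀ x ∈ t, ∃ k, idx k = x := by
    intro x hx
    refine ⟨t.equivFin ⟨x, hx⟩, ?_⟩
    simp [idx]
  let S' := ∀ k : Fin m, E (idx k)
  haveI hflat : Module.Flat S S' :=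
    Module.Flat.of_linearEquiv
      (DirectSum.linearEquivFunOnFintype S (Fin m) (fun k => E (idx k))).symm
  have hsurj : Function.Surjective (PrimeSpectrum.comap (algebraMap S S')) := by
    intro y
    have hy := ht (Set.mem_univ y)
    simp only [Set.mem_iUnion] at hy
    obtain ⟨x, hx, q, hq⟩ := hy
    obtain ⟨k, hk⟩ := hidx x hx
    subst hk
    refine ⟨PrimeSpectrum.comap (Pi.evalRingHom (fun k => E (idx k)) k) q, ?_⟩
    rw [← hq, ← PrimeSpectrum.comap_comp_apply]
    rfl
  refine ⟨S', inferInstance, inferInstance, inferInstance,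
    Module.FaithfullyFlat.of_comap_surjective hsurj, ?_⟩
  let e : ∀ k, Fin n → Fin n → E (idx k) ⊗[S] A := fun k => e₀ (idx k)
  have he : ∀ k, IsMatUnits (e k) := fun k => he₀ (idx k)
  let Ψ := Groth.Agent.Lib.Helper19ZarGlue.PhiEquiv (S := S) (fun k => E (idx k)) A
  exact ⟨fun a b => Ψ.symm (fun k => e k a b),
    (IsMatUnits.pi e he).map (Ψ.symm : (∀ k, E (idx k) ⊗[S] A) →+* S' ⊗[S] A)⟩

end Glue

end Groth.Agent.Lib.Helper19AzSplit
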