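import Mathlib
import Groth.Agent.Lib.Helper19SemiSNC

/-!
# Skolem–Noether over semilocal rings (helper19), part E: centre of an Azumaya algebra,
and `(S' ⊗[S] R) ⊗[R] A ≃ S' ⊗[S] A`
-/

set_option autoImplicit false
universe u v w

open TensorProduct MulOpposite

namespace Groth.Agent.Lib.Helper19SemiSN

section Center

variable {T : Type*} [CommRing T] {B : Type*} [Ring B] [Algebra T B] [IsAzumaya T B]

theorem one_notMem_smul_top (m : Ideal T) (hm : m.IsMaximal) :
    (1 : B) ∉ m • (⊤ : Submodule T B) := by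
  haveI : Module.FaithfullyFlat T B :=
    Groth.Agent.Lib.LeadAzumaya.faithfullyFlat_of_finite_of_faithful
  intro h1
  apply Module.FaithfullyFlat.submodule_ne_top (R := T) (M := B) hm
  rw [eq_top_iff]
  intro x _
  have : x = LinearMap.mulLeft T x 1 := by simp
  rw [this]
  exact map_mem_smul_top _ _ h1

/-- The centre of an Azumaya algebra is the base ring. -/
theorem exists_algebraMap_eq_of_central (z : B) (hz : ∀ x : B, z * x = x * z) :
    ∃ r : T, z = algebraMap T B r := by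
  obtain ⟨φ, hφ⟩ := exists_dual_eq_one (T := T) (V := B) (y := 1)
    (fun m hm => one_notMem_smul_top m hm)
  have hinj := (IsAzumaya.bij (R := T) (A := B)).1
  have heq : (z ⊗ₜ[T] (1 : Bᵐᵒᵖ)) = ((1 : B) ⊗ₜ[T] (op z)) := by
    apply hinj
    ext x
    simp [Groth.Agent.Lib.LeadLocalInner.mulLeftRight_tmul_apply, hz x]
  let ψ : B ⊗[T] Bᵐᵒᵖ →ₗ[T] B :=
    TensorProduct.lift ((LinearMap.lsmul T B).flip.compr₂ (LinearMap.id) |>.compl₂
      (φ ∘ₗ (MulOpposite.opLinearEquiv T).symm.toLinearMap)).flip.flip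
  have h1 : ∀ (a : B) (b : Bᵐᵒᵖ), ψ (a ⊗ₜ b) = φ b.unop • a := by
    intro a b; simp [ψ]
  have := congrArg ψ heq
  rw [h1, h1] at this
  simp only [unop_one, hφ, one_smul, unop_op] at this
  exact ⟨φ z, this.trans (Algebra.algebraMap_eq_smul_one _).symm⟩

end Center

section XiInv

variable {S : Type u} {R : Type v} [CommRing S] [CommRing R] [Algebra S R]
  {A : Type w} [Ring A] [Algebra S A] [Algebra R A] [IsScalarTower S R A]
  (S' : Type u) [CommRing S'] [Algebra S S']

attribute [local instance] Algebra.TensorProduct.rightAlgebra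
attribute [local instance 10] algRA

/-- `S`-algebra structure on `(S' ⊗[S] R) ⊗[R] A` through `S'` -/
noncomputable def XiInv : S' ⊗[S] A →ₐ[S] (S' ⊗[S] R) ⊗[R] A :=
  Algebra.TensorProduct.lift
    ((Algebra.TensorProduct.includeLeft : (S' ⊗[S] R) →ₐ[S' ⊗[S] R] (S' ⊗[S] R) ⊗[R] A).restrictScalars S
      |>.comp (Algebra.TensorProduct.includeLeft : S' →ₐ[S] S' ⊗[S] R))
    ({ toRingHom := (Algebra.TensorProduct.includeRight :
          A →ₐ[R] (S' ⊗[S] R) ⊗[R] A).toRingHom
       commutes' := by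
        intro s
        change (1 : S' ⊗[S] R) ⊗ₜ[R] (algebraMap S A s) = _
        rw [IsScalarTower.algebraMap_apply S R A, Algebra.algebraMap_eq_smul_one (algebraMap S R s),
          ← TensorProduct.smul_tmul, Algebra.TensorProduct.algebraMap_apply]
        congr 1
        rw [Algebra.smul_def, mul_one]
        change ((1 : S') ⊗ₜ[S] (algebraMap S R s) : S' ⊗[S] R) = _
        rw [Algebra.TensorProduct.algebraMap_apply, Algebra.algebraMap_eq_smul_one (R := S) s,
          Algebra.algebraMap_eq_smul_one (R := S) s, TensorProduct.smul_tmul]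
        } : A →ₐ[S] (S' ⊗[S] R) ⊗[R] A)
    (by
      intro s a
      change ((s ⊗ₜ[S] (1 : R)) ⊗ₜ[R] (1 : A)) * ((1 : S' ⊗[S] R) ⊗ₜ[R] a) =
        ((1 : S' ⊗[S] R) ⊗ₜ[R] a) * ((s ⊗ₜ[S] (1 : R)) ⊗ₜ[R] (1 : A))
      rw [Algebra.TensorProduct.tmul_mul_tmul, Algebra.TensorProduct.tmul_mul_tmul, one_mul,
        mul_one, one_mul, mul_one])

theorem XiInv_tmul (s : S') (a : A) :
    XiInv (R := R) S' (s ⊗ₜ[S] a) = (s ⊗ₜ[S] (1 : R)) ⊗ₜ[R] a := by
  unfold XiInv
  rw [Algebra.TensorProduct.lift_tmul]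
  change ((s ⊗ₜ[S] (1 : R)) ⊗ₜ[R] (1 : A)) * ((1 : S' ⊗[S] R) ⊗ₜ[R] a) = _
  rw [Algebra.TensorProduct.tmul_mul_tmul, one_mul, mul_one]

theorem Xi_XiInv (x : S' ⊗[S] A) : Xi (S := S) (R := R) S' (XiInv (R := R) S' x) = x := by
  induction x using TensorProduct.induction_on with
  | zero => simp
  | tmul s a => rw [XiInv_tmul, Xi_tmul]
  | add x y hx hy => rw [map_add, map_add, hx, hy]

theorem XiInv_Xi (x : (S' ⊗[S] R) ⊗[R] A) :
    XiInv (R := R) S' (Xi (S := S) (R := R) S' x) = x := by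
  induction x using TensorProduct.induction_on with
  | zero => simp
  | tmul t a =>
    induction t using TensorProduct.induction_on with
    | zero => simp
    | tmul s r =>
      have h1 : ((s ⊗ₜ[S] r : S' ⊗[S] R) ⊗ₜ[R] a) = (s ⊗ₜ[S] (1 : R)) ⊗ₜ[R] (r • a) := by
        rw [TensorProduct.tmul_smul, TensorProduct.smul_tmul']
        congr 1
        rw [Algebra.smul_def]
        change _ = ((1 : S') ⊗ₜ[S] r) * (s ⊗ₜ[S] (1 : R))
        rw [Algebra.TensorProduct.tmul_mul_tmul, mul_one, one_mul]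
      rw [h1, Xi_tmul, XiInv_tmul]
    | add t t' ht ht' => rw [TensorProduct.add_tmul, map_add, map_add, ht, ht']
  | add x y hx hy => rw [map_add, map_add, hx, hy]

end XiInv

end Groth.Agent.Lib.Helper19SemiSN
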