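import Mathlib
import Groth.Agent.Lib.Helper19AzSplitL
import Groth.Agent.Lib.Helper19SemiSNE

/-!
# Splitting Azumaya algebras (helper19), part M: from matrix units to the matrix isomorphism
-/

set_option autoImplicit false
set_option linter.style.haveILetI false
set_option linter.unusedSectionVars false

open TensorProduct

namespace Groth.Agent.Lib.Helper19AzSplit

open Groth.Agent.Lib.LeadAzumaya Groth.Agent.Lib.Helper19SemiSN

universe u v w

section

variable {S : Type u} {R : Type v} [CommRing S] [CommRing R] [Algebra S R]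
  {A : Type w} [Ring A] [Algebra S A] [Algebra R A] [IsScalarTower S R A] [IsAzumaya R A]
  (n : ℕ) (S' : Type u) [CommRing S'] [Algebra S S']

attribute [local instance] Algebra.TensorProduct.rightAlgebra
attribute [local instance 10] algRA

/-- the ring isomorphism `S' ⊗[S] A ≃ (S' ⊗[S] R) ⊗[R] A` -/
noncomputable def XiEquiv : S' ⊗[S] A ≃+* (S' ⊗[S] R) ⊗[R] A where
  toFun := XiInv (R := R) S'
  invFun := Xi (S := S) (R := R) (A := A) S'
  left_inv := Xi_XiInv (R := R) S'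
  right_inv := XiInv_Xi (R := R) S'
  map_mul' := map_mul _
  map_add' := map_add _

theorem XiEquiv_apply (x : S' ⊗[S] A) : XiEquiv (R := R) S' x = XiInv (R := R) S' x := rfl

theorem exists_algEquiv_of_matUnits (hn : 0 < n)
    (hrank : ∀ p : PrimeSpectrum R, Module.rankAtStalk (R := R) A p = n ^ 2)
    (e : Fin n → Fin n → S' ⊗[S] A) (he : IsMatUnits e) :
    ∃ f : S' ⊗[S] A ≃ₐ[S'] Matrix (Fin n) (Fin n) (S' ⊗[S] R),
      ∀ (r : R) (x : S' ⊗[S] A),
        f (((1 : S') ⊗ₜ[S] algebraMap R A r) * x) =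
          Matrix.scalar (Fin n) ((1 : S') ⊗ₜ[S] r) * f x := by
  classical
  haveI : IsAzumaya (S' ⊗[S] R) ((S' ⊗[S] R) ⊗[R] A) := isAzumaya_baseChange (S' ⊗[S] R) A
  have hrank' : ∀ p : PrimeSpectrum (S' ⊗[S] R),
      Module.rankAtStalk (R := S' ⊗[S] R) ((S' ⊗[S] R) ⊗[R] A) p = n ^ 2 := by
    intro p
    rw [Module.rankAtStalk_baseChange, hrank]
  let φX : S' ⊗[S] A →+* (S' ⊗[S] R) ⊗[R] A :=
    (XiEquiv (S := S) (R := R) (A := A) S').toRingHom
  let ē : Fin n → Fin n → (S' ⊗[S] R) ⊗[R] A := fun a b => φX (e a b)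
  have hē : IsMatUnits ē := he.map φX
  let g : Matrix (Fin n) (Fin n) (S' ⊗[S] R) ≃ₐ[S' ⊗[S] R] (S' ⊗[S] R) ⊗[R] A :=
    AlgEquiv.ofBijective (matHom (R := S' ⊗[S] R) ē hē) (bijective_matHom hn hrank' ē hē)
  let F : S' ⊗[S] A ≃+* Matrix (Fin n) (Fin n) (S' ⊗[S] R) :=
    (XiEquiv (R := R) S').trans g.symm.toRingEquiv
  have hF : ∀ x, F x = g.symm (XiInv (R := R) S' x) := fun x => rfl
  have hcomm : ∀ s : S', F (algebraMap S' (S' ⊗[S] A) s) =
      algebraMap S' (Matrix (Fin n) (Fin n) (S' ⊗[S] R)) s := by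
    intro s
    rw [hF, Algebra.TensorProduct.algebraMap_apply, Algebra.algebraMap_self_apply, XiInv_tmul]
    have h1 : ((s ⊗ₜ[S] (1 : R) : S' ⊗[S] R) ⊗ₜ[R] (1 : A)) =
        algebraMap (S' ⊗[S] R) ((S' ⊗[S] R) ⊗[R] A) (s ⊗ₜ[S] (1 : R)) := rfl
    rw [h1, AlgEquiv.commutes]
    rfl
  refine ⟨AlgEquiv.ofRingEquiv (f := F) hcomm, ?_⟩
  intro r x
  change F (((1 : S') ⊗ₜ[S] algebraMap R A r) * x) = Matrix.scalar (Fin n) ((1 : S') ⊗ₜ[S] r) * F x
  rw [hF, hF, map_mul, XiInv_tmul]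
  have h1 : (((1 : S') ⊗ₜ[S] (1 : R) : S' ⊗[S] R) ⊗ₜ[R] (algebraMap R A r)) =
      algebraMap (S' ⊗[S] R) ((S' ⊗[S] R) ⊗[R] A) ((1 : S') ⊗ₜ[S] r) := by
    rw [Algebra.TensorProduct.algebraMap_apply, Algebra.algebraMap_self_apply,
      Algebra.algebraMap_eq_smul_one r, TensorProduct.tmul_smul, TensorProduct.smul_tmul']
    congr 1
    rw [Algebra.smul_def]
    change ((1 : S') ⊗ₜ[S] r) * ((1 : S') ⊗ₜ[S] (1 : R)) = _
    rw [Algebra.TensorProduct.tmul_mul_tmul, mul_one, mul_one]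
  rw [h1, ← Algebra.smul_def, map_smul, Matrix.scalar_apply, Matrix.smul_eq_diagonal_mul]

end

end Groth.Agent.Lib.Helper19AzSplit
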