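import Groth.Agent.Lib.Helper19Step
import Groth.Agent.Lib.Helper19Tangent

set_option autoImplicit false
universe u v w

open CategoryTheory ArtFun ArtFun.Art

namespace Groth.Agent.Lib.Helper19

section Base

variable {Λ : Type u} {k : Type u} [CommRing Λ] [Field k] [Algebra Λ k]

/-- The characteristic map of a pair `(A, a)` is compatible with linear combinations of tangent vectors. -/
theorem map_tcomb {F : Art Λ k ⥤ Type v} [T : TangentStr F] {A : Art Λ k} (a : F.obj A) (c : k)
    (t₁ t₂ : A ⟶ dual Λ k) :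
    (TangentSpace.mk (F.map (tcomb c t₁ t₂) a) : TangentSpace F) =
      c • (TangentSpace.mk (F.map t₁ a) - TangentSpace.mk (F.map t₂ a)) := by
  have w : t₁ ≫ toBase _ = (t₂ ≫ scale (-1)) ≫ toBase _ := by
    rw [eq_toBase (t₁ ≫ toBase _), eq_toBase ((t₂ ≫ scale (-1)) ≫ toBase _)]
  set L := fibreProdLift isFibreProd_dual2 t₁ (t₂ ≫ scale (-1)) w with hL
  have hL1 : L ≫ pr₁ = t₁ := fibreProdLift_fst isFibreProd_dual2 _ _ w
  have hL2 : L ≫ pr₂ = t₂ ≫ scale (-1) := fibreProdLift_snd isFibreProd_dual2 _ _ w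
  have e0 : tcomb c t₁ t₂ = L ≫ plus ≫ scale c := rfl
  rw [e0, map_comp_apply', map_comp_apply']
  have e1 : (TangentSpace.mk (F.map (scale c) (F.map plus (F.map L a))) : TangentSpace F) =
      c • TangentSpace.mk (F.map plus (F.map L a)) := (tangent_smul_eq c _).symm
  rw [e1, ← tangent_add_eq, ← map_comp_apply', ← map_comp_apply', hL1, hL2, map_comp_apply']
  have e2 : (TangentSpace.mk (F.map (scale (-1)) (F.map t₂ a)) : TangentSpace F) =
      (-1 : k) • TangentSpace.mk (F.map t₂ a) := (tangent_smul_eq (-1) _).symm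
  rw [e2, neg_one_smul, sub_eq_add_neg]

/-- The range of the characteristic map of a pair `(A, a)`, as a subspace of the tangent space. -/
noncomputable def charRange {F : Art Λ k ⥤ Type v} [T : TangentStr F] {A : Art Λ k} (a : F.obj A) :
    Submodule k (TangentSpace F) where
  carrier := {b | ∃ t : A ⟶ dual Λ k, TangentSpace.mk (F.map t a) = b}
  zero_mem' := ⟨tcomb 1 (tzero A) (tzero A), by rw [map_tcomb, sub_self, smul_zero]⟩
  add_mem' := by
    rintro x y ⟨t₁, rfl⟩ ⟨t₂, rfl⟩
    refine ⟨tcomb 1 t₁ (tcomb 1 (tcomb 1 (tzero A) (tzero A)) t₂), ?_⟩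
    rw [map_tcomb, map_tcomb, map_tcomb, sub_self, smul_zero, one_smul, one_smul, zero_sub,
      sub_neg_eq_add]
  smul_mem' := by
    rintro c x ⟨t, rfl⟩
    refine ⟨tcomb c t (tcomb 1 (tzero A) (tzero A)), ?_⟩
    rw [map_tcomb, map_tcomb, sub_self, smul_zero, sub_zero]

lemma mem_charRange {F : Art Λ k ⥤ Type v} [T : TangentStr F] {A : Art Λ k} (a : F.obj A)
    (b : TangentSpace F) :
    b ∈ charRange a ↔ ∃ t : A ⟶ dual Λ k, TangentSpace.mk (F.map t a) = b := Iff.rfl

/-- Pairs realising prescribed tangent vectors. -/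
theorem exists_pair_with_tangents [Module.Finite Λ k] {F : Art Λ k ⥤ Type v} (h0 : H0 F)
    (hEps : Heps F) (r : ℕ) (θ : Fin r → F.obj (dual Λ k)) :
    ∃ (R : Art Λ k) (a : F.obj R), ∀ i, ∃ π : R ⟶ dual Λ k, F.map π a = θ i := by
  induction r with
  | zero =>
    obtain ⟨x0⟩ := h0.1
    exact ⟨base Λ k, x0, fun i => i.elim0⟩
  | succ r ih =>
    obtain ⟨R, a, hR⟩ := ih (fun i => θ (Fin.castSucc i))
    have hP := isFibreProd_pullbackObj (toBase R) (toBase (dual Λ k)) (toBase_surjective _)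
    set P := pullbackObj (toBase R) (toBase (dual Λ k)) (toBase_surjective _)
    set p₁ : P ⟶ R := pullbackObjFst _ _ _
    set p₂ : P ⟶ dual Λ k := pullbackObjSnd _ _ _
    obtain ⟨a', ha1, ha2⟩ := (cmp_surjective_iff F hP).1 (hEps p₁ p₂ hP).2 a (θ (Fin.last r))
      (h0_elim h0 _ _)
    refine ⟨P, a', fun i => ?_⟩
    refine Fin.lastCases ?_ (fun j => ?_) i
    · exact ⟨p₂, ha2⟩
    · obtain ⟨π, hπ⟩ := hR j
      exact ⟨p₁ ≫ π, by rw [map_comp_apply', ha1, hπ]⟩

/-- A pair whose characteristic map is surjective. -/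
theorem exists_pair_tangent_surjective [Module.Finite Λ k] {F : Art Λ k ⥤ Type v} [T : TangentStr F]
    (h0 : H0 F) (hEps : Heps F) (hfin : Hfin F) :
    ∃ (R : Art Λ k) (a : F.obj R), ∀ b : F.obj (dual Λ k), ∃ t : R ⟶ dual Λ k, F.map t a = b := by
  haveI : Module.Finite k (TangentSpace F) := hfin
  obtain ⟨n, s, hs⟩ := Module.Finite.exists_fin (R := k) (M := TangentSpace F)
  obtain ⟨R, a, hR⟩ := exists_pair_with_tangents h0 hEps n (fun i => (s i).val)
  refine ⟨R, a, fun b => ?_⟩
  have h1 : Submodule.span k (Set.range s) ≤ charRange a := by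
    rw [Submodule.span_le]
    rintro _ ⟨i, rfl⟩
    obtain ⟨π, hπ⟩ := hR i
    exact ⟨π, hπ⟩
  rw [hs] at h1
  obtain ⟨t, ht⟩ := h1 (Submodule.mem_top : TangentSpace.mk b ∈ ⊤)
  exact ⟨t, ht⟩

lemma tder_algebraMap {A : Art Λ k} (t : A ⟶ dual Λ k) (l : Λ) : tder t (algebraMap Λ A l) = 0 := by
  unfold tder
  have : t (algebraMap Λ A l) = algebraMap Λ (dual Λ k) l := t.toAlgHom.commutes l
  rw [this, dsnd_algebraMap]

lemma tder_zero {A : Art Λ k} (t : A ⟶ dual Λ k) : tder t 0 = 0 := by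
  unfold tder
  rw [hom_map_zero, dsnd_zero]

/-- A pair whose characteristic map is bijective. -/
theorem exists_pair_tangent_bijective [Module.Finite Λ k] (hk : Function.Surjective (algebraMap Λ k))
    {F : Art Λ k ⥤ Type v} [T : TangentStr F] (h0 : H0 F) (hEps : Heps F) (hfin : Hfin F) :
    ∃ (R : Art Λ k) (a : F.obj R), Function.Bijective (fun t : R ⟶ dual Λ k => F.map t a) := by
  obtain ⟨R, a, hsurj⟩ := exists_pair_tangent_surjective h0 hEps hfin
  let S : Set (Ideal R) := {I | ∃ hI : I ≤ IsLocalRing.maximalIdeal R,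
    ∀ b : F.obj (dual Λ k), ∃ t : quot R I hI ⟶ dual Λ k, F.map t (F.map (quotMk R I hI) a) = b}
  have hS : S.Nonempty := by
    refine ⟨⊥, bot_le, fun b => ?_⟩
    obtain ⟨t₀, ht₀⟩ := hsurj b
    refine ⟨quotFactor bot_le t₀ bot_le, ?_⟩
    rw [← map_comp_apply', quotMk_quotFactor, ht₀]
  haveI : IsNoetherianRing R := inferInstance
  obtain ⟨I, ⟨hI, hIsurj⟩, hmax⟩ :=
    set_has_maximal_iff_noetherian.2 (inferInstance : IsNoetherian R R) S hS
  set a₁ := F.map (quotMk R I hI) a with ha₁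
  refine ⟨quot R I hI, a₁, ?_, hIsurj⟩
  intro t t' htt
  by_contra hne
  -- the difference `d = t - t'`
  set d := tcomb 1 t t' with hd
  have hτd : (TangentSpace.mk (F.map d a₁) : TangentSpace F) = 0 := by
    have h1 : F.map t a₁ = F.map t' a₁ := htt
    rw [hd, map_tcomb, h1, sub_self, smul_zero]
  have hy : ∃ y, tder t y ≠ tder t' y := by
    by_contra hall
    apply hne
    apply tangent_ext
    intro y
    by_contra hy
    exact hall ⟨y, hy⟩
  obtain ⟨y, hy⟩ := hy
  obtain ⟨l, hl⟩ := hk ((quot R I hI).res y)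
  set x := y - algebraMap Λ (quot R I hI) l with hx
  have hxm : x ∈ IsLocalRing.maximalIdeal (quot R I hI) := by
    rw [Art.mem_maximalIdeal_iff, hx, map_sub, AlgHom.commutes, hl, sub_self]
  have hdx : tder d x ≠ 0 := by
    rw [hx, tder_sub, tder_algebraMap, sub_zero, hd, tder_tcomb, one_mul]
    exact sub_ne_zero.2 hy
  obtain ⟨xt, hxtm, hxt⟩ := exists_mem_maximalIdeal_of_quot R I hI x hxm
  set I' := I ⊔ Ideal.span {xt} with hI'def
  have hI' : I' ≤ IsLocalRing.maximalIdeal R :=
    sup_le hI ((Ideal.span_singleton_le_iff_mem _).2 hxtm)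
  have hI'S : I' ∈ S := by
    refine ⟨hI', fun b => ?_⟩
    obtain ⟨s, hs⟩ := hIsurj b
    set c := tder s x / tder d x with hc
    set t₀ := tcomb 1 (tzero (quot R I hI)) (tzero (quot R I hI)) with ht₀
    set s' := tcomb 1 s (tcomb c d t₀) with hs'
    have e0 : tder t₀ x = 0 := by rw [ht₀, tder_tcomb, sub_self, mul_zero]
    have e1 : tder (tcomb c d t₀) x = c * tder d x := by rw [tder_tcomb, e0, sub_zero]
    have hs'x : tder s' x = 0 := by
      rw [hs', tder_tcomb, e1, one_mul, hc, div_mul_cancel₀ _ hdx, sub_self]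
    have f0 : (TangentSpace.mk (F.map t₀ a₁) : TangentSpace F) = 0 := by
      rw [ht₀, map_tcomb, sub_self, smul_zero]
    have f1 : (TangentSpace.mk (F.map (tcomb c d t₀) a₁) : TangentSpace F) = 0 := by
      rw [map_tcomb, hτd, f0, sub_self, smul_zero]
    have hτs' : F.map s' a₁ = b := by
      have h1 : (TangentSpace.mk (F.map s' a₁) : TangentSpace F) = TangentSpace.mk b := by
        rw [hs', map_tcomb, f1, sub_zero, one_smul, hs]
      exact h1
    set g : R ⟶ dual Λ k := quotMk R I hI ≫ s' with hg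
    have hgker : I' ≤ RingHom.ker g.toAlgHom := by
      apply sup_le
      · intro z hz
        rw [RingHom.mem_ker]
        change s' (quotMk R I hI z) = 0
        rw [(quotMk_eq_zero_iff R I hI z).2 hz, hom_map_zero]
      · rw [Ideal.span_singleton_le_iff_mem, RingHom.mem_ker]
        change s' (quotMk R I hI xt) = 0
        rw [hxt]
        apply dual_ext
        · rw [dfst_hom, dfst_zero]
          exact (Art.mem_maximalIdeal_iff _ x).1 hxm
        · rw [dsnd_zero]
          exact hs'x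
    refine ⟨quotFactor hI' g hgker, ?_⟩
    rw [← map_comp_apply', quotMk_quotFactor, hg, map_comp_apply', hτs']
  have hlt : I < I' := by
    apply lt_of_le_of_ne le_sup_left
    intro he
    have h1 : xt ∈ I := by
      rw [he]
      exact Submodule.mem_sup_right (Ideal.subset_span rfl)
    have h2 : x = 0 := by rw [← hxt]; exact (quotMk_eq_zero_iff R I hI xt).2 h1
    apply hdx
    rw [h2, tder_zero]
  exact hmax I' hI'S hlt

end Base

end Groth.Agent.Lib.Helper19
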