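import Groth.Agent.Lib.Helper19Functor

set_option autoImplicit false
universe u v w

open CategoryTheory ArtFun ArtFun.Art

namespace Groth.Agent.Lib.Helper19

section BaseChange

variable {Λ Λ' k : Type u} [CommRing Λ] [CommRing Λ'] [Field k] [Algebra Λ Λ'] [Algebra Λ' k] [Algebra Λ k]
  [IsScalarTower Λ Λ' k]

/-- Restriction of scalars of an object. -/
noncomputable def restrictArt (B : Art Λ' k) : Art Λ k :=
  letI : Algebra Λ B.carrier := ((algebraMap Λ' B.carrier).comp (algebraMap Λ Λ')).toAlgebra
  { carrier := B.carrier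
    isLocalRing := B.isLocalRing
    isArtinianRing := B.isArtinianRing
    res :=
      { B.res.toRingHom with
        commutes' := fun l => by
          change B.res (algebraMap Λ' B.carrier (algebraMap Λ Λ' l)) = algebraMap Λ k l
          rw [B.res.commutes, ← IsScalarTower.algebraMap_apply] }
    res_surjective := B.res_surjective }

lemma restrictArt_algebraMap (B : Art Λ' k) (l : Λ) :
    algebraMap Λ (restrictArt (Λ := Λ) B) l = algebraMap Λ' B.carrier (algebraMap Λ Λ' l) := rfl

lemma restrictArt_res (B : Art Λ' k) (b : B.carrier) : (restrictArt (Λ := Λ) B).res b = B.res b := rfl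

/-- Restriction of scalars of a morphism. -/
noncomputable def restrictHom {B A : Art Λ' k} (μ : B ⟶ A) : restrictArt (Λ := Λ) B ⟶ restrictArt A :=
  ⟨{ μ.toAlgHom.toRingHom with
      commutes' := fun l => by
        change μ.toAlgHom (algebraMap Λ' B.carrier (algebraMap Λ Λ' l)) = _
        rw [μ.toAlgHom.commutes]
        rfl }, by
    apply AlgHom.ext
    intro b
    exact Art.res_app μ b⟩

lemma restrictHom_apply {B A : Art Λ' k} (μ : B ⟶ A) (b : B.carrier) :
    (restrictHom (Λ := Λ) μ) b = μ b := rfl

/-- An object with a map from `Λ'`, as an object over `Λ'`. -/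
noncomputable def overArt (B : Art Λ k) (y : Λ' →ₐ[Λ] B.carrier)
    (hy : ∀ r, B.res (y r) = algebraMap Λ' k r) : Art Λ' k :=
  letI : Algebra Λ' B.carrier := y.toRingHom.toAlgebra
  { carrier := B.carrier
    isLocalRing := B.isLocalRing
    isArtinianRing := B.isArtinianRing
    res := { B.res.toRingHom with commutes' := hy }
    res_surjective := B.res_surjective }

lemma overArt_algebraMap (B : Art Λ k) (y : Λ' →ₐ[Λ] B.carrier)
    (hy : ∀ r, B.res (y r) = algebraMap Λ' k r) (r : Λ') :
    algebraMap Λ' (overArt B y hy) r = y r := rfl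

lemma overArt_res (B : Art Λ k) (y : Λ' →ₐ[Λ] B.carrier)
    (hy : ∀ r, B.res (y r) = algebraMap Λ' k r) (b : B.carrier) : (overArt B y hy).res b = B.res b := rfl

variable (resΛ' : Λ' →ₐ[Λ] k) (hresΛ' : ∀ r, resΛ' r = algebraMap Λ' k r)
  {S : Type u} [CommRing S] [Algebra Λ S] [Algebra Λ' S] [IsScalarTower Λ Λ' S]
  (resS : S →ₐ[Λ] k) (resS' : S →ₐ[Λ'] k) (hres : ∀ s, resS' s = resS s)
  (hRS : resS.comp (IsScalarTower.toAlgHom Λ Λ' S) = resΛ')

include hresΛ' hres in
/-- Versality of the family of `h_{Λ'}` over a `Λ'`-algebra `S` is smoothness of `h_S` over `Λ'`. -/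
theorem isVersal_along_iff_isSmoothFunctor :
    IsVersal ((Family.self Λ' resΛ').along (IsScalarTower.toAlgHom Λ Λ' S) hRS) ↔
      IsSmoothFunctor (hR S resS') := by
  constructor
  · intro hv B A μ hμ φ
    -- the structure map of `B` as an element of `h_{Λ'}(B)`
    let y : HomSet Λ' resΛ' (restrictArt (Λ := Λ) B) :=
      ⟨{ algebraMap Λ' B.carrier with commutes' := fun l => rfl }, by
        apply AlgHom.ext
        intro r
        change B.res (algebraMap Λ' B.carrier r) = resΛ' r
        rw [B.res.commutes, hresΛ']⟩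
    let φ₀ : HomSet S resS (restrictArt (Λ := Λ) A) :=
      ⟨{ φ.1.toRingHom with
          commutes' := fun l => by
            change φ.1 (algebraMap Λ S l) = algebraMap Λ' A.carrier (algebraMap Λ Λ' l)
            rw [IsScalarTower.algebraMap_apply Λ Λ' S, φ.1.commutes] }, by
        apply AlgHom.ext
        intro s
        have := AlgHom.congr_fun φ.2 s
        change A.res (φ.1 s) = resS' s at this
        change A.res (φ.1 s) = resS s
        rw [this, hres]⟩
    have hy : (hR Λ' resΛ').map (restrictHom (Λ := Λ) μ) y =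
        ((Family.self Λ' resΛ').along (IsScalarTower.toAlgHom Λ Λ' S) hRS).app _ φ₀ := by
      apply Subtype.ext
      apply AlgHom.ext
      intro r
      change μ.toAlgHom (algebraMap Λ' B.carrier r) = φ.1 (algebraMap Λ' S r)
      rw [μ.toAlgHom.commutes, φ.1.commutes]
    obtain ⟨ψ₀, hψ₀1, hψ₀2⟩ := hv (restrictHom (Λ := Λ) μ) hμ φ₀ y hy
    have hψ₀2' : ∀ r, ψ₀.1 (algebraMap Λ' S r) = algebraMap Λ' B.carrier r := fun r =>
      AlgHom.congr_fun (congrArg Subtype.val hψ₀2) r
    refine ⟨⟨{ ψ₀.1.toRingHom with commutes' := hψ₀2' }, ?_⟩, ?_⟩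
    · apply AlgHom.ext
      intro s
      have := AlgHom.congr_fun ψ₀.2 s
      change B.res (ψ₀.1 s) = resS s at this
      change B.res (ψ₀.1 s) = resS' s
      rw [this, hres]
    · apply Subtype.ext
      apply AlgHom.ext
      intro s
      exact AlgHom.congr_fun (congrArg Subtype.val hψ₀1) s
  · intro hsm B A μ hμ φ y hy
    have hy' : ∀ r, μ (y.1 r) = φ.1 (algebraMap Λ' S r) := fun r =>
      AlgHom.congr_fun (congrArg Subtype.val hy) r
    have hyB : ∀ r, B.res (y.1 r) = algebraMap Λ' k r := by
      intro r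
      have := AlgHom.congr_fun y.2 r
      change B.res (y.1 r) = resΛ' r at this
      rw [this, hresΛ']
    have hyA : ∀ r, A.res ((μ.toAlgHom.comp y.1) r) = algebraMap Λ' k r := by
      intro r
      change A.res (μ (y.1 r)) = _
      rw [Art.res_app, hyB]
    let μ' : overArt B y.1 hyB ⟶ overArt A (μ.toAlgHom.comp y.1) hyA :=
      ⟨{ μ.toAlgHom.toRingHom with commutes' := fun r => rfl }, by
        apply AlgHom.ext
        intro b
        exact Art.res_app μ b⟩
    let φ' : HomSet S resS' (overArt A (μ.toAlgHom.comp y.1) hyA) :=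
      ⟨{ φ.1.toRingHom with commutes' := fun r => (hy' r).symm }, by
        apply AlgHom.ext
        intro s
        have := AlgHom.congr_fun φ.2 s
        change A.res (φ.1 s) = resS s at this
        change A.res (φ.1 s) = resS' s
        rw [this, hres]⟩
    obtain ⟨ψ', hψ'⟩ := hsm μ' hμ φ'
    have hψ'c : ∀ r, ψ'.1 (algebraMap Λ' S r) = y.1 r := fun r => ψ'.1.commutes r
    refine ⟨⟨{ ψ'.1.toRingHom with
        commutes' := fun l => by
          change ψ'.1 (algebraMap Λ S l) = algebraMap Λ B.carrier l
          rw [IsScalarTower.algebraMap_apply Λ Λ' S, hψ'c, y.1.commutes] }, ?_⟩, ?_, ?_⟩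
    · apply AlgHom.ext
      intro s
      have := AlgHom.congr_fun ψ'.2 s
      change B.res (ψ'.1 s) = resS' s at this
      change B.res (ψ'.1 s) = resS s
      rw [this, hres]
    · apply Subtype.ext
      apply AlgHom.ext
      intro s
      exact AlgHom.congr_fun (congrArg Subtype.val hψ') s
    · apply Subtype.ext
      apply AlgHom.ext
      intro r
      exact hψ'c r

end BaseChange

end Groth.Agent.Lib.Helper19
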