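import Mathlib

/-!
# Binary forms: dimension of `K[s,t]_d`, quadratic factors of cubics, and 3-secants of rational
quintics (linear-algebra form).
-/

namespace Groth.Agent.Lib.Helper19BinaryForms

open Polynomial

variable (K : Type*) [Field K]

/-- Binary forms of degree `d`. -/
abbrev S (d : ℕ) : Submodule K (MvPolynomial (Fin 2) K) :=
  MvPolynomial.homogeneousSubmodule (Fin 2) K d

variable {K}

lemma natDegree_dehom_le {d : ℕ} {q : MvPolynomial (Fin 2) K} (hq : q.IsHomogeneous d) :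
    (MvPolynomial.aeval ![(X : K[X]), 1] q).natDegree ≤ d := by
  rw [q.as_sum, map_sum]
  apply natDegree_sum_le_of_forall_le
  intro m hm
  rw [MvPolynomial.aeval_monomial]
  have hmd : m 0 + m 1 = d := by
    have h := hq (by simpa using hm)
    simpa [Finsupp.weight_apply, Finsupp.sum_fintype, Fin.sum_univ_two] using h
  rw [Finsupp.prod_fintype _ _ (by simp), Fin.prod_univ_two]
  simp only [Matrix.cons_val_zero, Matrix.cons_val_one, one_pow, mul_one]
  calc _ ≤ m 0 := by
        rw [← C_eq_algebraMap]; exact natDegree_C_mul_X_pow_le _ _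
    _ ≤ d := by omega

variable (K)

/-- Homogenization as a linear map from polynomials of degree `≤ d` to binary forms. -/
noncomputable def homMap (d : ℕ) : Polynomial.degreeLT K (d + 1) →ₗ[K] S K d :=
  LinearMap.codRestrict (S K d)
    ((Polynomial.homogenizeLM d).comp (Polynomial.degreeLT K (d + 1)).subtype)
    (fun p => by
      rw [MvPolynomial.mem_homogeneousSubmodule]
      exact isHomogeneous_homogenize _)

lemma homMap_apply (d : ℕ) (p : Polynomial.degreeLT K (d + 1)) :
    ((homMap K d p : S K d) : MvPolynomial (Fin 2) K) = (p : K[X]).homogenize d := rfl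

lemma natDegree_le_of_mem_degreeLT {d : ℕ} {p : K[X]} (hp : p ∈ Polynomial.degreeLT K (d + 1)) :
    p.natDegree ≤ d := by
  rw [Polynomial.mem_degreeLT] at hp
  by_cases h0 : p = 0
  · simp [h0]
  · rw [Polynomial.degree_eq_natDegree h0] at hp
    have := Nat.cast_lt.mp hp
    omega

lemma mem_degreeLT_of_natDegree_le {d : ℕ} {p : K[X]} (hp : p.natDegree ≤ d) :
    p ∈ Polynomial.degreeLT K (d + 1) := by
  rw [Polynomial.mem_degreeLT]
  calc p.degree ≤ p.natDegree := Polynomial.degree_le_natDegree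
    _ < ((d + 1 : ℕ) : WithBot ℕ) := by exact_mod_cast Nat.lt_succ_of_le hp

lemma homMap_bijective (d : ℕ) : Function.Bijective (homMap K d) := by
  constructor
  · rw [injective_iff_map_eq_zero]
    intro p hp
    have h1 : (p : K[X]).homogenize d = 0 := by
      rw [← homMap_apply, hp]; rfl
    have h2 := (homogenize_eq_zero_iff (natDegree_le_of_mem_degreeLT K p.2)).mp h1
    exact Subtype.ext h2
  · intro q
    have hq : (q : MvPolynomial (Fin 2) K).IsHomogeneous d :=
      (MvPolynomial.mem_homogeneousSubmodule _ _).mp q.2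
    refine ⟨⟨MvPolynomial.aeval ![(X : K[X]), 1] (q : MvPolynomial (Fin 2) K),
      mem_degreeLT_of_natDegree_le K (natDegree_dehom_le hq)⟩, ?_⟩
    apply Subtype.ext
    rw [homMap_apply]
    exact homogenize_eq_of_isHomogeneous hq rfl

/-- Binary forms of degree `d` ≃ polynomials of degree `≤ d`. -/
noncomputable def homEquiv (d : ℕ) : Polynomial.degreeLT K (d + 1) ≃ₗ[K] S K d :=
  LinearEquiv.ofBijective (homMap K d) (homMap_bijective K d)

instance finite_degreeLT (n : ℕ) : Module.Finite K (Polynomial.degreeLT K n) :=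
  Module.Finite.equiv (Polynomial.degreeLTEquiv K n).symm

instance finite_S (d : ℕ) : Module.Finite K (S K d) :=
  Module.Finite.equiv (homEquiv K d)

lemma finrank_S (d : ℕ) : Module.finrank K (S K d) = d + 1 := by
  rw [← (homEquiv K d).finrank_eq, (Polynomial.degreeLTEquiv K (d + 1)).finrank_eq,
    Module.finrank_fin_fun]

variable {K}

lemma mul_mem_S {a b : ℕ} {g e : MvPolynomial (Fin 2) K} (hg : g ∈ S K a) (he : e ∈ S K b) :
    g * e ∈ S K (a + b) := by
  rw [MvPolynomial.mem_homogeneousSubmodule] at *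
  exact hg.mul he

lemma mulLeft_injective {g : MvPolynomial (Fin 2) K} (hg : g ≠ 0) :
    Function.Injective (LinearMap.mulLeft K g) := by
  intro a b hab
  exact mul_left_cancel₀ hg hab

lemma finrank_map_mulLeft {g : MvPolynomial (Fin 2) K} (hg : g ≠ 0) (d : ℕ) :
    Module.finrank K ((S K d).map (LinearMap.mulLeft K g)) = d + 1 := by
  rw [← (Submodule.equivMapOfInjective _ (mulLeft_injective hg) (S K d)).finrank_eq, finrank_S]

lemma map_mulLeft_le {a b : ℕ} {g : MvPolynomial (Fin 2) K} (hg : g ∈ S K a) :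
    (S K b).map (LinearMap.mulLeft K g) ≤ S K (a + b) := by
  rintro _ ⟨e, he, rfl⟩
  exact mul_mem_S hg he


/-- Over an algebraically closed field a nonzero binary cubic has a nonzero quadratic factor. -/
lemma exists_quadratic_factor [IsAlgClosed K] {g : MvPolynomial (Fin 2) K} (hg : g ∈ S K 3)
    (hg0 : g ≠ 0) :
    ∃ e ∈ S K 2, e ≠ 0 ∧ ∃ l ∈ S K 1, g = e * l := by
  have hgh : g.IsHomogeneous 3 := (MvPolynomial.mem_homogeneousSubmodule _ _).mp hg
  set p : K[X] := MvPolynomial.aeval ![(X : K[X]), 1] g with hp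
  have hpd : p.natDegree ≤ 3 := natDegree_dehom_le hgh
  have hpg : p.homogenize 3 = g := homogenize_eq_of_isHomogeneous hgh rfl
  have hp0 : p ≠ 0 := by
    intro h
    rw [h, homogenize_zero] at hpg
    exact hg0 hpg.symm
  -- factor p = a * b with deg a ≤ 2, a ≠ 0, deg b ≤ 1
  have key : ∃ a b : K[X], a ≠ 0 ∧ a.natDegree ≤ 2 ∧ b.natDegree ≤ 1 ∧ p = a * b := by
    by_cases h1 : p.natDegree ≤ 1
    · exact ⟨1, p, one_ne_zero, by simp, h1, (one_mul p).symm⟩
    · have hdeg : p.degree ≠ 0 := by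
        intro h
        have : p.natDegree = 0 :=
          Polynomial.natDegree_eq_zero_iff_degree_le_zero.mpr (le_of_eq h)
        omega
      obtain ⟨r1, hr1⟩ := IsAlgClosed.exists_root p hdeg
      obtain ⟨p1, hp1⟩ := Polynomial.dvd_iff_isRoot.mpr hr1
      have hp1_0 : p1 ≠ 0 := by
        intro h; rw [h, mul_zero] at hp1; exact hp0 hp1
      have hd1 : p.natDegree = 1 + p1.natDegree := by
        rw [hp1, Polynomial.natDegree_mul (Polynomial.X_sub_C_ne_zero r1) hp1_0,
          Polynomial.natDegree_X_sub_C]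
      have hdeg1 : p1.degree ≠ 0 := by
        intro h
        have : p1.natDegree = 0 :=
          Polynomial.natDegree_eq_zero_iff_degree_le_zero.mpr (le_of_eq h)
        omega
      obtain ⟨r2, hr2⟩ := IsAlgClosed.exists_root p1 hdeg1
      obtain ⟨p2, hp2⟩ := Polynomial.dvd_iff_isRoot.mpr hr2
      have hp2_0 : p2 ≠ 0 := by
        intro h; rw [h, mul_zero] at hp2; exact hp1_0 hp2
      have hd2 : p1.natDegree = 1 + p2.natDegree := by
        rw [hp2, Polynomial.natDegree_mul (Polynomial.X_sub_C_ne_zero r2) hp2_0,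
          Polynomial.natDegree_X_sub_C]
      refine ⟨(X - C r1) * (X - C r2), p2,
        mul_ne_zero (Polynomial.X_sub_C_ne_zero r1) (Polynomial.X_sub_C_ne_zero r2), ?_, ?_, ?_⟩
      · rw [Polynomial.natDegree_mul (Polynomial.X_sub_C_ne_zero r1)
          (Polynomial.X_sub_C_ne_zero r2), Polynomial.natDegree_X_sub_C,
          Polynomial.natDegree_X_sub_C]
      · omega
      · rw [hp1, hp2]; ring
  obtain ⟨a, b, ha0, had, hbd, hab⟩ := key
  refine ⟨a.homogenize 2, ?_, ?_, b.homogenize 1, ?_, ?_⟩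
  · rw [MvPolynomial.mem_homogeneousSubmodule]; exact isHomogeneous_homogenize _
  · intro h
    exact ha0 ((homogenize_eq_zero_iff had).mp h)
  · rw [MvPolynomial.mem_homogeneousSubmodule]; exact isHomogeneous_homogenize _
  · rw [← hpg, hab]
    exact homogenize_mul a b had hbd

/-- Claim D: under the separation hypothesis no nonzero cubic `g` has `g · K[s,t]_2 ⊆ V`. -/
lemma not_mul_subset [IsAlgClosed K] (V : Submodule K (MvPolynomial (Fin 2) K))
    (hV : V ≤ S K 5) (hdim : Module.finrank K ↥V = 4)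
    (hsep : ∀ e ∈ S K 2, e ≠ 0 → ∀ F ∈ S K 5, ∃ v ∈ V, ∃ h ∈ S K 3, F = v + e * h)
    {g : MvPolynomial (Fin 2) K} (hg : g ∈ S K 3) (hg0 : g ≠ 0)
    (hsub : ∀ e ∈ S K 2, g * e ∈ V) : False := by
  obtain ⟨e0, he0, he00, l, hl, hgel⟩ := exists_quadratic_factor hg hg0
  have : FiniteDimensional K ↥V := Submodule.finiteDimensional_of_le hV
  set T : Submodule K (MvPolynomial (Fin 2) K) := (S K 3).map (LinearMap.mulLeft K e0) with hT
  have : FiniteDimensional K ↥T := by
    rw [hT]; infer_instance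
  have hTfin : Module.finrank K ↥T = 4 := finrank_map_mulLeft he00 3
  have hle : S K 5 ≤ V ⊔ T := by
    intro F hF
    obtain ⟨v, hv, h, hh, rfl⟩ := hsep e0 he0 he00 F hF
    exact Submodule.add_mem_sup hv ⟨h, hh, rfl⟩
  have h6 : 6 ≤ Module.finrank K ↥(V ⊔ T) := by
    have := Submodule.finrank_mono hle
    rwa [finrank_S] at this
  have hsum := Submodule.finrank_sup_add_finrank_inf_eq V T
  rw [hdim, hTfin] at hsum
  have hG : (S K 2).map (LinearMap.mulLeft K g) ≤ V ⊓ T := by
    rintro _ ⟨e, he, rfl⟩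
    refine ⟨hsub e he, ?_⟩
    refine ⟨l * e, ?_, ?_⟩
    · have := mul_mem_S hl he
      simpa using this
    · change e0 * (l * e) = g * e
      rw [hgel]; ring
  have h3 := Submodule.finrank_mono hG
  rw [finrank_map_mulLeft hg0 2] at h3
  omega


/-- A linear map `Λ : K[s,t] → K²` whose kernel on quintic forms is exactly `V`. -/
lemma exists_Lam (V : Submodule K (MvPolynomial (Fin 2) K))
    (hV : V ≤ S K 5) (hdim : Module.finrank K ↥V = 4) :
    ∃ Λ : MvPolynomial (Fin 2) K →ₗ[K] (Fin 2 → K), ∀ a ∈ S K 5, Λ a = 0 ↔ a ∈ V := by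
  obtain ⟨r, hr⟩ := LinearMap.exists_leftInverse_of_injective (S K 5).subtype
    (Submodule.ker_subtype _)
  set V' : Submodule K (S K 5) := V.comap (S K 5).subtype with hV'
  have hV'fin : Module.finrank K ↥V' = 4 := by
    rw [hV', (Submodule.comapSubtypeEquivOfLe hV).finrank_eq, hdim]
  have hQ : Module.finrank K (S K 5 ⧸ V') = 2 := by
    have := Submodule.finrank_quotient_add_finrank V'
    rw [hV'fin, finrank_S] at this
    omega
  have φ : (S K 5 ⧸ V') ≃ₗ[K] (Fin 2 → K) :=
    LinearEquiv.ofFinrankEq _ _ (by rw [hQ, Module.finrank_fin_fun])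
  refine ⟨(φ.toLinearMap.comp V'.mkQ).comp r, ?_⟩
  intro a ha
  have hra : r a = ⟨a, ha⟩ := by
    have := congrArg (fun f => f ⟨a, ha⟩) hr
    simpa using this
  simp only [LinearMap.comp_apply, hra, LinearEquiv.coe_coe, LinearEquiv.map_eq_zero_iff,
    Submodule.mkQ_apply, Submodule.Quotient.mk_eq_zero]
  rw [hV', Submodule.mem_comap]
  rfl

/-- Claims A and B: for every `t` there is a nonzero cubic `g` with `ℓ_t (g · e) = 0` for all
quadratic `e`; then `dim (V ∩ g · K[s,t]_2) ≥ 2`. -/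
lemma exists_cubic (V : Submodule K (MvPolynomial (Fin 2) K))
    (Λ : MvPolynomial (Fin 2) K →ₗ[K] (Fin 2 → K)) (hΛ : ∀ a ∈ S K 5, Λ a = 0 ↔ a ∈ V)
    (t : K) :
    ∃ g ∈ S K 3, g ≠ 0 ∧ (∀ e ∈ S K 2, Λ (g * e) 0 + t * Λ (g * e) 1 = 0) ∧
      2 ≤ Module.finrank K ↥(V ⊓ (S K 2).map (LinearMap.mulLeft K g)) := by
  -- the functional ℓ_t
  set ℓ : MvPolynomial (Fin 2) K →ₗ[K] K :=
    (LinearMap.proj 0).comp Λ + t • (LinearMap.proj 1).comp Λ with hℓ
  have hℓa : ∀ a, ℓ a = Λ a 0 + t * Λ a 1 := fun a => rfl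
  set Φ : S K 3 →ₗ[K] S K 2 →ₗ[K] K :=
    ((LinearMap.mul K (MvPolynomial (Fin 2) K)).compr₂ ℓ).domRestrict₁₂ (S K 3) (S K 2) with hΦ
  have hΦa : ∀ (g : S K 3) (e : S K 2), Φ g e = ℓ ((g : MvPolynomial (Fin 2) K) * e) :=
    fun g e => rfl
  have hker : LinearMap.ker Φ ≠ ⊥ := by
    apply LinearMap.ker_ne_bot_of_finrank_lt
    rw [finrank_S]
    have : Module.finrank K (S K 2 →ₗ[K] K) = 3 := by
      rw [Module.finrank_linearMap, finrank_S, Module.finrank_self]
    omega
  obtain ⟨g, hgker, hg0⟩ := Submodule.exists_mem_ne_zero_of_ne_bot hker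
  have hg0' : (g : MvPolynomial (Fin 2) K) ≠ 0 := fun h => hg0 (Subtype.ext h)
  have hvan : ∀ e ∈ S K 2, Λ ((g : MvPolynomial (Fin 2) K) * e) 0 +
      t * Λ ((g : MvPolynomial (Fin 2) K) * e) 1 = 0 := by
    intro e he
    have := congrArg (fun f : S K 2 →ₗ[K] K => f ⟨e, he⟩) (LinearMap.mem_ker.mp hgker)
    simpa [hΦa, hℓa] using this
  refine ⟨g, g.2, hg0', hvan, ?_⟩
  -- dimension count
  set G : Submodule K (MvPolynomial (Fin 2) K) :=
    (S K 2).map (LinearMap.mulLeft K (g : MvPolynomial (Fin 2) K)) with hG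
  have hGfin : Module.finrank K ↥G = 3 := finrank_map_mulLeft hg0' 2
  have hGle : G ≤ S K 5 := map_mulLeft_le g.2
  haveI : FiniteDimensional K ↥G := by rw [hG]; infer_instance
  -- ψ : G → K, second coordinate of Λ
  set ψ : ↥G →ₗ[K] K := ((LinearMap.proj 1).comp Λ).comp G.subtype with hψ
  have hψker : (LinearMap.ker ψ).map G.subtype ≤ V ⊓ G := by
    rintro _ ⟨x, hx, rfl⟩
    refine ⟨?_, x.2⟩
    have hx1 : Λ (x : MvPolynomial (Fin 2) K) 1 = 0 := LinearMap.mem_ker.mp hx
    obtain ⟨e, he, hxe⟩ := x.2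
    have hx0 : Λ (x : MvPolynomial (Fin 2) K) 0 = 0 := by
      have := hvan e he
      rw [show (g : MvPolynomial (Fin 2) K) * e = (x : MvPolynomial (Fin 2) K) from hxe,
        hx1, mul_zero, add_zero] at this
      exact this
    apply (hΛ _ (hGle x.2)).mp
    funext i
    fin_cases i
    · exact hx0
    · exact hx1
  have hrk := LinearMap.finrank_range_add_finrank_ker ψ
  have hr1 : Module.finrank K ↥(LinearMap.range ψ) ≤ 1 := by
    have := Submodule.finrank_le (LinearMap.range ψ)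
    rwa [Module.finrank_self] at this
  have hk2 : 2 ≤ Module.finrank K ↥(LinearMap.ker ψ) := by
    rw [hGfin] at hrk; omega
  have hmapeq : Module.finrank K ↥((LinearMap.ker ψ).map G.subtype) =
      Module.finrank K ↥(LinearMap.ker ψ) :=
    ((Submodule.equivMapOfInjective G.subtype (Submodule.injective_subtype G)
      (LinearMap.ker ψ)).finrank_eq).symm
  haveI : FiniteDimensional K ↥(V ⊓ G) := Submodule.finiteDimensional_of_le inf_le_right
  have := Submodule.finrank_mono hψker
  omega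

/-- Main theorem: infinitely many pairwise non-proportional cubics `g` with
`dim (V ∩ g · K[s,t]_2) ≥ 2`. -/
theorem main [IsAlgClosed K] [CharZero K] (V : Submodule K (MvPolynomial (Fin 2) K))
    (hV : V ≤ S K 5) (hdim : Module.finrank K ↥V = 4)
    (hsep : ∀ e ∈ S K 2, e ≠ 0 → ∀ F ∈ S K 5, ∃ v ∈ V, ∃ h ∈ S K 3, F = v + e * h)
    (F : Finset (MvPolynomial (Fin 2) K)) :
    ∃ g ∈ S K 3, g ≠ 0 ∧
      2 ≤ Module.finrank K ↥(V ⊓ (S K 2).map (LinearMap.mulLeft K g)) ∧
      ∀ g' ∈ F, ∀ c : K, g ≠ c • g' := by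
  classical
  obtain ⟨Λ, hΛ⟩ := exists_Lam V hV hdim
  by_contra hcon
  push Not at hcon
  choose G hG3 hG0 hGvan hGfin using exists_cubic V Λ hΛ
  have hprop : ∀ t : K, ∃ g' ∈ F, ∃ c : K, G t = c • g' := fun t =>
    hcon (G t) (hG3 t) (hG0 t) (hGfin t)
  choose γ hγF c hc using hprop
  haveI : Infinite K := Infinite.of_injective (Nat.cast : ℕ → K) Nat.cast_injective
  obtain ⟨t, s, hts, hγ⟩ := Finite.exists_ne_map_eq_of_infinite
    (fun t : K => (⟨γ t, hγF t⟩ : {x // x ∈ F}))
  have hγ' : γ t = γ s := congrArg Subtype.val hγ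
  have hct : c t ≠ 0 := by
    intro h
    apply hG0 t
    rw [hc t, h, zero_smul]
  have hcs : c s ≠ 0 := by
    intro h
    apply hG0 s
    rw [hc s, h, zero_smul]
  have hGs : G s = (c s / c t) • G t := by
    rw [hc s, hc t, hγ', smul_smul, div_mul_cancel₀ _ hct]
  apply not_mul_subset V hV hdim hsep (hG3 t) (hG0 t)
  intro e he
  have h1 := hGvan t e he
  have h2 := hGvan s e he
  rw [hGs, smul_mul_assoc, map_smul] at h2
  simp only [Pi.smul_apply, smul_eq_mul] at h2
  have hne : c s / c t ≠ 0 := div_ne_zero hcs hct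
  have h2' : Λ (G t * e) 0 + s * Λ (G t * e) 1 = 0 := by
    have : (c s / c t) * (Λ (G t * e) 0 + s * Λ (G t * e) 1) = 0 := by
      rw [← h2]; ring
    exact (mul_eq_zero.mp this).resolve_left hne
  have hd : (t - s) * Λ (G t * e) 1 = 0 := by
    have : (t - s) * Λ (G t * e) 1 =
        (Λ (G t * e) 0 + t * Λ (G t * e) 1) - (Λ (G t * e) 0 + s * Λ (G t * e) 1) := by ring
    rw [this, h1, h2', sub_zero]
  have h11 : Λ (G t * e) 1 = 0 := (mul_eq_zero.mp hd).resolve_left (sub_ne_zero.mpr hts)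
  have h10 : Λ (G t * e) 0 = 0 := by
    rw [h11, mul_zero, add_zero] at h1; exact h1
  apply (hΛ _ (mul_mem_S (hG3 t) he)).mp
  funext i
  fin_cases i
  · exact h10
  · exact h11

end Groth.Agent.Lib.Helper19BinaryForms
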