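import Mathlib

set_option autoImplicit false
set_option linter.style.haveILetI false
universe u

open TensorProduct Module IsLocalRing

namespace Groth.Agent.Lib.Helper19.CKLoc

section Fibre

variable (A : Type u) [CommRing A] (p : Ideal A) [p.IsPrime] (M : Type u) [AddCommGroup M]
  [Module A M]

/-- `κ(p) ⊗_A M ≅ κ(p) ⊗_{A_p} M_p` -/
noncomputable def fibreEquiv :
    p.ResidueField ⊗[A] M ≃ₗ[p.ResidueField]
      p.ResidueField ⊗[Localization.AtPrime p] (LocalizedModule p.primeCompl M) :=
  (TensorProduct.AlgebraTensorModule.cancelBaseChange A (Localization.AtPrime p) p.ResidueField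
    p.ResidueField M).symm.trans
  (TensorProduct.AlgebraTensorModule.congr (LinearEquiv.refl p.ResidueField p.ResidueField)
    (IsLocalizedModule.isBaseChange p.primeCompl (Localization.AtPrime p)
      (LocalizedModule.mkLinearMap p.primeCompl M)).equiv)

theorem fibreEquiv_tmul (c : p.ResidueField) (w : M) :
    fibreEquiv A p M (c ⊗ₜ w) = c ⊗ₜ LocalizedModule.mkLinearMap p.primeCompl M w := by
  have h1 : (TensorProduct.AlgebraTensorModule.cancelBaseChange A (Localization.AtPrime p)
      p.ResidueField p.ResidueField M).symm (c ⊗ₜ w) = c ⊗ₜ ((1 : Localization.AtPrime p) ⊗ₜ w) := by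
    rw [LinearEquiv.symm_apply_eq, TensorProduct.AlgebraTensorModule.cancelBaseChange_tmul,
      one_smul]
  rw [fibreEquiv, LinearEquiv.trans_apply, h1, TensorProduct.AlgebraTensorModule.congr_tmul,
    LinearEquiv.refl_apply, IsBaseChange.equiv_tmul, one_smul]

end Fibre

section Span

variable {R : Type*} [CommRing R] (S : Submonoid R) (Rₛ : Type*) [CommRing Rₛ] [Algebra R Rₛ]
  [IsLocalization S Rₛ] {M N : Type*} [AddCommGroup M] [Module R M] [AddCommGroup N] [Module R N]
  [Module Rₛ N] [IsScalarTower R Rₛ N] (f : M →ₗ[R] N) [IsLocalizedModule S f]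

/-- The images of a family span the localized module iff every element has a multiple in the
span of the family. -/
theorem span_range_eq_top_iff {ι : Type*} (w : ι → M) :
    Submodule.span Rₛ (Set.range fun i => f (w i)) = ⊤ ↔
      ∀ x : M, ∃ s ∈ S, s • x ∈ Submodule.span R (Set.range w) := by
  have hloc : (Submodule.span R (Set.range w)).localized' Rₛ S f =
      Submodule.span Rₛ (Set.range fun i => f (w i)) := by
    rw [Submodule.localized'_span, ← Set.range_comp]
    rfl
  rw [← hloc]
  constructor
  · intro h x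
    have hx : f x ∈ (Submodule.span R (Set.range w)).localized' Rₛ S f := by rw [h]; trivial
    obtain ⟨m', hm', s, hs⟩ := hx
    rw [IsLocalizedModule.mk'_eq_iff] at hs
    have h0 : f (m' - (s : R) • x) = 0 := by
      rw [map_sub, map_smul, hs]
      exact sub_self _
    obtain ⟨s', hs'⟩ := (IsLocalizedModule.eq_zero_iff S f).1 h0
    refine ⟨(s' * s : S), (s' * s).2, ?_⟩
    rw [smul_sub, sub_eq_zero] at hs'
    have : ((s' * s : S) : R) • x = s' • ((s : R) • x) := by
      rw [Submonoid.coe_mul, mul_smul]; rfl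
    rw [this, ← hs']
    exact Submodule.smul_mem _ _ hm'
  · intro h
    rw [eq_top_iff]
    rintro y -
    obtain ⟨⟨x, t⟩, rfl⟩ := IsLocalizedModule.mk'_surjective S f y
    obtain ⟨s, hs, hsx⟩ := h x
    refine ⟨s • x, hsx, ⟨s, hs⟩ * t, ?_⟩
    simp only [Function.uncurry_apply_pair]
    rw [IsLocalizedModule.mk'_eq_iff, mul_smul, IsLocalizedModule.mk'_cancel', map_smul]
    rfl

end Span

end Groth.Agent.Lib.Helper19.CKLoc
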