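import Mathlib
import Groth.Agent.Lib.Helper19CKLoc

/-!
# Linear independence of generators of a localized module from a generic rank bound (helper19)
-/

set_option autoImplicit false
set_option linter.style.haveILetI false
set_option linter.unusedSectionVars false
universe u

open TensorProduct

namespace Groth.Agent.Lib.Helper19.CKBasis

variable {A : Type u} [CommRing A] (M : Type u) [AddCommGroup M] [Module A M]
  (q p : Ideal A) [q.IsPrime] [p.IsPrime]

/-- if `A_p` is a domain and `q ≤ p` is a minimal prime then `q` is the kernel of `A → A_p`. -/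
theorem algebraMap_eq_zero_of_mem_minimalPrime [IsDomain (Localization.AtPrime p)]
    (hq : q ∈ minimalPrimes A) (hqp : q ≤ p) {a : A} (ha : a ∈ q) :
    algebraMap A (Localization.AtPrime p) a = 0 := by
  haveI : (RingHom.ker (algebraMap A (Localization.AtPrime p))).IsPrime := RingHom.ker_isPrime _
  have hle : RingHom.ker (algebraMap A (Localization.AtPrime p)) ≤ q := by
    intro b hb
    rw [RingHom.mem_ker, IsLocalization.map_eq_zero_iff p.primeCompl] at hb
    obtain ⟨v, hv⟩ := hb
    have h1 : (v : A) * b ∈ q := by rw [hv]; exact zero_mem _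
    rcases Ideal.IsPrime.mem_or_mem inferInstance h1 with h2 | h2
    · exact absurd (hqp h2) v.2
    · exact h2
  exact hq.2 ⟨inferInstance, bot_le⟩ hle ha

/-- spanning after localization at `p` implies spanning of the fibre at `q ≤ p`. -/
theorem span_fibre_eq_top_of_span {ι : Type*} (hqp : q ≤ p) (x : ι → M)
    (hspan : Submodule.span (Localization.AtPrime p)
      (Set.range fun i => LocalizedModule.mkLinearMap p.primeCompl M (x i)) = ⊤) :
    Submodule.span q.ResidueField
      (Set.range fun i => (1 : q.ResidueField) ⊗ₜ[A] x i) = ⊤ := by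
  rw [Groth.Agent.Lib.Helper19.CKLoc.span_range_eq_top_iff p.primeCompl (Localization.AtPrime p)
    (LocalizedModule.mkLinearMap p.primeCompl M) x] at hspan
  have hsub : ∀ w ∈ Submodule.span A (Set.range x), (1 : q.ResidueField) ⊗ₜ[A] w ∈
      Submodule.span q.ResidueField (Set.range fun i => (1 : q.ResidueField) ⊗ₜ[A] x i) := by
    intro w hw
    induction hw using Submodule.span_induction with
    | mem w hw =>
      obtain ⟨i, rfl⟩ := hw
      exact Submodule.subset_span ⟨i, rfl⟩
    | zero => rw [TensorProduct.tmul_zero]; exact zero_mem _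
    | add a b _ _ ha hb => rw [TensorProduct.tmul_add]; exact add_mem ha hb
    | smul c a _ ha =>
      have h1 : (1 : q.ResidueField) ⊗ₜ[A] (c • a) =
          (algebraMap A q.ResidueField c) • ((1 : q.ResidueField) ⊗ₜ[A] a) := by
        rw [TensorProduct.smul_tmul', ← TensorProduct.smul_tmul, Algebra.smul_def, mul_one,
          smul_eq_mul, mul_one]
      rw [h1]
      exact Submodule.smul_mem _ _ ha
  rw [eq_top_iff]
  rintro z -
  induction z using TensorProduct.induction_on with
  | zero => exact zero_mem _
  | add a b ha hb => exact add_mem ha hb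
  | tmul c w =>
    obtain ⟨r, hr, hrw⟩ := hspan w
    have hrq : algebraMap A q.ResidueField r ≠ 0 := by
      intro h0
      rw [Ideal.algebraMap_residueField_eq_zero] at h0
      exact hr (hqp h0)
    have h1 : c ⊗ₜ[A] w = (c * (algebraMap A q.ResidueField r)⁻¹) •
        ((1 : q.ResidueField) ⊗ₜ[A] (r • w)) := by
      rw [TensorProduct.smul_tmul', ← TensorProduct.smul_tmul, smul_eq_mul, mul_one,
        Algebra.smul_def, mul_comm, mul_assoc, inv_mul_cancel₀ hrq, mul_one]
    rw [h1]
    exact Submodule.smul_mem _ _ (hsub _ hrw)

/-- `n` generators of `M_p` are linearly independent if `A_p` is a domain and the fibre of `M` at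
the minimal prime `q ≤ p` has dimension at least `n`. -/
theorem linearIndependent_of_span_of_le_finrank [IsDomain (Localization.AtPrime p)]
    (hq : q ∈ minimalPrimes A) (hqp : q ≤ p) (n : ℕ) (x : Fin n → M)
    (hspan : Submodule.span (Localization.AtPrime p)
      (Set.range fun i => LocalizedModule.mkLinearMap p.primeCompl M (x i)) = ⊤)
    (hrank : n ≤ Module.finrank q.ResidueField (q.ResidueField ⊗[A] M)) :
    LinearIndependent (Localization.AtPrime p)
      (fun i => LocalizedModule.mkLinearMap p.primeCompl M (x i)) := by
  have hy : LinearIndependent q.ResidueField (fun i => (1 : q.ResidueField) ⊗ₜ[A] x i) :=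
    linearIndependent_of_top_le_span_of_card_le_finrank
      (span_fibre_eq_top_of_span M q p hqp x hspan).ge (by simpa using hrank)
  rw [Fintype.linearIndependent_iff]
  intro g hg i
  obtain ⟨b, hb⟩ := IsLocalization.exist_integer_multiples_of_finite p.primeCompl g
  choose a ha using hb
  have h1 : LocalizedModule.mkLinearMap p.primeCompl M (∑ i, a i • x i) = 0 := by
    rw [map_sum]
    have : ∀ i, LocalizedModule.mkLinearMap p.primeCompl M (a i • x i) =
        (b : A) • (g i • LocalizedModule.mkLinearMap p.primeCompl M (x i)) := by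
      intro i
      rw [map_smul, ← algebraMap_smul (Localization.AtPrime p) (a i), ha i, smul_assoc]
    simp_rw [this]
    rw [← Finset.smul_sum, hg, smul_zero]
  obtain ⟨t, ht⟩ := (IsLocalizedModule.eq_zero_iff p.primeCompl
    (LocalizedModule.mkLinearMap p.primeCompl M)).1 h1
  have h2 : ∑ i, algebraMap A q.ResidueField ((t : A) * a i) •
      ((1 : q.ResidueField) ⊗ₜ[A] x i) = 0 := by
    have : ∀ i, algebraMap A q.ResidueField ((t : A) * a i) • ((1 : q.ResidueField) ⊗ₜ[A] x i) =
        (1 : q.ResidueField) ⊗ₜ[A] ((t : A) • a i • x i) := by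
      intro i
      rw [TensorProduct.smul_tmul', smul_eq_mul, mul_one, ← mul_smul,
        ← TensorProduct.smul_tmul, Algebra.smul_def, mul_one]
    simp_rw [this]
    rw [← TensorProduct.tmul_sum, ← Finset.smul_sum]
    have ht' : (t : A) • ∑ i, a i • x i = 0 := ht
    rw [ht', TensorProduct.tmul_zero]
  have h3 := Fintype.linearIndependent_iff.1 hy _ h2 i
  rw [Ideal.algebraMap_residueField_eq_zero] at h3
  have h4 : a i ∈ q :=
    (Ideal.IsPrime.mem_or_mem inferInstance h3).resolve_left (fun h => t.2 (hqp h))
  have h5 := algebraMap_eq_zero_of_mem_minimalPrime q p hq hqp h4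
  rw [ha i, Algebra.smul_def] at h5
  exact ((IsLocalization.map_units (Localization.AtPrime p) b).mul_right_eq_zero).1 h5

/-- the resulting freeness statement. -/
theorem free_and_finrank_of_span_of_le_finrank [IsDomain (Localization.AtPrime p)]
    (hq : q ∈ minimalPrimes A) (hqp : q ≤ p) (n : ℕ) (x : Fin n → M)
    (hspan : Submodule.span (Localization.AtPrime p)
      (Set.range fun i => LocalizedModule.mkLinearMap p.primeCompl M (x i)) = ⊤)
    (hrank : n ≤ Module.finrank q.ResidueField (q.ResidueField ⊗[A] M)) :
    Module.Free (Localization.AtPrime p) (LocalizedModule p.primeCompl M) ∧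
      Module.finrank (Localization.AtPrime p) (LocalizedModule p.primeCompl M) = n := by
  have hli := linearIndependent_of_span_of_le_finrank M q p hq hqp n x hspan hrank
  let bas : Module.Basis (Fin n) (Localization.AtPrime p) (LocalizedModule p.primeCompl M) :=
    Module.Basis.mk hli hspan.ge
  exact ⟨Module.Free.of_basis bas, by rw [Module.finrank_eq_card_basis bas, Fintype.card_fin]⟩

end Groth.Agent.Lib.Helper19.CKBasis
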