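import Mathlib
import Groth.Prelude.Def_EGA41
import Groth.Agent.Lib.Helper7Cartier2

set_option autoImplicit false
set_option linter.style.haveILetI false
set_option linter.unusedSectionVars false
open TensorProduct KaehlerDifferential
universe u w

namespace Groth.Agent.Lib.Helper7.ExalLib

/-- EGA 0_IV 21.7.?: `rank Ω_{L/k} − rank Ω_{K/k} ≥ trdeg_K L` for `L/k` finitely generated. -/
theorem cartier_omega_diff {k K L : Type w} [Field k] [Field K] [Field L] [Algebra k K]
    [Algebra K L] [Algebra k L] [IsScalarTower k K L] [Algebra.EssFiniteType k L] :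
    Module.Finite L (Ω[L⁄k]) ∧ Module.Finite K (Ω[K⁄k]) ∧
      Cardinal.toNat (Algebra.trdeg K L) + Module.finrank K (Ω[K⁄k]) ≤
        Module.finrank L (Ω[L⁄k]) := by
  haveI : Algebra.EssFiniteType K L := Algebra.EssFiniteType.of_comp k K L
  obtain ⟨f1, f2, t, hle⟩ := cartierLE_of_essFiniteType (k := k) (K := K) (L := L)
  have a3 := rank_imperfection_tower_aux3 (K := k) (L := K) (M := L)
  have a4 := rank_imperfection_tower_aux4 (K := k) (L := K) (M := L)
  haveI : Module.Finite L (Ω[L⁄k]) := inferInstance
  have hJ : Module.rank L ↥(LinearMap.range (KaehlerDifferential.mapBaseChange k K L)) <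
      Cardinal.aleph0 :=
    lt_of_le_of_lt (Submodule.rank_le _) (Module.rank_lt_aleph0 L _)
  haveI hJfin : Module.Finite L ↥(LinearMap.range (KaehlerDifferential.mapBaseChange k K L)) :=
    inferInstance
  have hK : Module.Finite K (Ω[K⁄k]) := by
    rw [← Module.rank_lt_aleph0_iff, a3]
    exact Cardinal.add_lt_aleph0 (Module.rank_lt_aleph0 L _) hJ
  refine ⟨inferInstance, hK, ?_⟩
  rw [← Module.finrank_eq_rank K (Ω[K⁄k]), ← Module.finrank_eq_rank L ↥(EGA41.imperfection k K L),
    ← Module.finrank_eq_rank L
      ↥(LinearMap.range (KaehlerDifferential.mapBaseChange k K L))] at a3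
  rw [← Module.finrank_eq_rank L (Ω[L⁄k]), ← Module.finrank_eq_rank L (Ω[L⁄K]),
    ← Module.finrank_eq_rank L
      ↥(LinearMap.range (KaehlerDifferential.mapBaseChange k K L))] at a4
  have n3 : Module.finrank K (Ω[K⁄k]) = Module.finrank L ↥(EGA41.imperfection k K L) +
      Module.finrank L ↥(LinearMap.range (KaehlerDifferential.mapBaseChange k K L)) := by
    exact_mod_cast a3
  have n4 : Module.finrank L (Ω[L⁄k]) =
      Module.finrank L ↥(LinearMap.range (KaehlerDifferential.mapBaseChange k K L)) +
        Module.finrank L (Ω[L⁄K]) := by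
    exact_mod_cast a4
  omega

end Groth.Agent.Lib.Helper7.ExalLib
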