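import Mathlib
import Groth.Agent.Lib.Helper7MacLane
import Groth.Agent.Lib.Helper7SepDer

/-!
# `k((T_1,…,T_r))` is separable over `k` (EGA 0_IV 21.9.x) (helper7)
-/

set_option autoImplicit false
set_option linter.style.haveILetI false
set_option linter.unusedSectionVars false
universe u v w

namespace Groth.Agent.Lib.Helper7.PsSep

open MvPowerSeries Groth.Agent.Lib.Helper7.PPow

section

variable {σ : Type v} {k : Type u} [Field k] (p : ℕ) [Fact p.Prime] [CharP k p]

lemma coeff_smul_pow_char (a : MvPowerSeries σ k) (n : σ →₀ ℕ) :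
    MvPowerSeries.coeff (p • n) (a ^ p) = (MvPowerSeries.coeff n a) ^ p := by
  have hp : p ≠ 0 := (Fact.out : p.Prime).ne_zero
  rw [← MvPowerSeries.map_frobenius_expand p hp, MvPowerSeries.coeff_map,
    MvPowerSeries.coeff_expand_smul, frobenius_def]

/-- MacLane's linear disjointness for `k((T))`: families of `k` linearly independent over `k^p`
stay linearly independent over `K^p`. -/
theorem linearIndependent_fieldRange_frobenius
    [CharP (FractionRing (MvPowerSeries σ k)) p] {J : Type w} (m : J → k)
    (hm : LinearIndependent (frobenius k p).fieldRange m) :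
    LinearIndependent (frobenius (FractionRing (MvPowerSeries σ k)) p).fieldRange
      (fun j => algebraMap k (FractionRing (MvPowerSeries σ k)) (m j)) := by
  classical
  set A := MvPowerSeries σ k with hA
  set K := FractionRing A with hK
  have hinj : Function.Injective (algebraMap A K) := IsFractionRing.injective _ _
  rw [linearIndependent_iff']
  intro s c hc j hj
  -- write c j = z_j ^ p
  have hz : ∀ j, ∃ z : K, z ^ p = (c j : K) := fun j => by
    obtain ⟨z, hz⟩ := (c j).2
    exact ⟨z, hz⟩
  choose z hz using hz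
  obtain ⟨b, hb⟩ := IsLocalization.exist_integer_multiples (nonZeroDivisors A) s z
  have hb0 : (b : A) ≠ 0 := nonZeroDivisors.ne_zero b.2
  have hb0' : algebraMap A K (b : A) ≠ 0 := fun h0 => hb0 (hinj (by rw [h0, map_zero]))
  have ha : ∀ i, ∃ a : A, i ∈ s → algebraMap A K a = algebraMap A K (b : A) * z i := by
    intro i
    by_cases hi : i ∈ s
    · obtain ⟨a, ha⟩ := hb i hi
      exact ⟨a, fun _ => by rw [ha, Algebra.smul_def]⟩
    · exact ⟨0, fun h => absurd h hi⟩
  choose a ha using ha
  -- the relation in `A`
  have hrel : ∑ i ∈ s, a i ^ p * MvPowerSeries.C (m i) = 0 := by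
    apply hinj
    rw [map_zero, map_sum]
    have h1 : ∀ i ∈ s, algebraMap A K (a i ^ p * MvPowerSeries.C (m i)) =
        algebraMap A K (b : A) ^ p * (c i • algebraMap k K (m i)) := by
      intro i hi
      rw [map_mul, map_pow, ha i hi, mul_pow, hz, Subfield.smul_def, smul_eq_mul, mul_assoc,
        IsScalarTower.algebraMap_apply k A K, MvPowerSeries.algebraMap_apply]
      rfl
    rw [Finset.sum_congr rfl h1, ← Finset.mul_sum, hc, mul_zero]
  -- coefficientwise
  have hcoef : ∀ n : σ →₀ ℕ, ∀ i ∈ s, MvPowerSeries.coeff n (a i) = 0 := by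
    intro n
    have h2 : ∑ i ∈ s, (⟨MvPowerSeries.coeff n (a i) ^ p, ⟨_, rfl⟩⟩ : (frobenius k p).fieldRange) •
        m i = 0 := by
      have := congrArg (MvPowerSeries.coeff (p • n)) hrel
      rw [map_sum, map_zero] at this
      rw [← this]
      refine Finset.sum_congr rfl fun i _ => ?_
      rw [MvPowerSeries.coeff_mul_C, coeff_smul_pow_char, Subfield.smul_def, smul_eq_mul]
    intro i hi
    have h3 := (linearIndependent_iff'.1 hm) s _ h2 i hi
    have h4 : MvPowerSeries.coeff n (a i) ^ p = 0 := congrArg Subtype.val h3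
    exact pow_eq_zero_iff (Fact.out : p.Prime).ne_zero |>.1 h4
  have haj : a j = 0 := MvPowerSeries.ext fun n => by rw [hcoef n j hj, map_zero]
  have hzj : z j = 0 := by
    have := ha j hj
    rw [haj, map_zero] at this
    exact (mul_eq_zero.1 this.symm).resolve_left hb0'
  apply Subtype.ext
  rw [← hz, hzj, zero_pow (Fact.out : p.Prime).ne_zero]
  rfl

end


section Main

theorem isGeometricallyReduced_fractionRing_mvPowerSeries (k : Type u) [Field k] (σ : Type v) :
    Algebra.IsGeometricallyReduced k (FractionRing (MvPowerSeries σ k)) := by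
  classical
  obtain ⟨p, hp⟩ := CharP.exists k
  rcases CharP.char_is_prime_or_zero k p with hpp | rfl
  · haveI : Fact p.Prime := ⟨hpp⟩
    haveI : CharP (FractionRing (MvPowerSeries σ k)) p :=
      charP_of_injective_algebraMap (algebraMap k (FractionRing (MvPowerSeries σ k))).injective p
    let E₁ : Subfield k := (frobenius k p).fieldRange
    let E₂ : Subfield (FractionRing (MvPowerSeries σ k)) :=
      (frobenius (FractionRing (MvPowerSeries σ k)) p).fieldRange
    have hE₁ : ∀ y : k, y ^ p ∈ Set.range (algebraMap E₁ k) := fun y => ⟨⟨y ^ p, ⟨y, rfl⟩⟩, rfl⟩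
    have hE₂ : ∀ y : FractionRing (MvPowerSeries σ k),
        y ^ p ∈ Set.range (algebraMap E₂ (FractionRing (MvPowerSeries σ k))) :=
      fun y => ⟨⟨y ^ p, ⟨y, rfl⟩⟩, rfl⟩
    obtain ⟨T, -, hT, hgen⟩ := exists_pfreeSet_adjoin_eq_top p hE₁ (pfreeSet_empty (E := E₁) p)
    have hfree : PFree E₂ p
        (fun i : T => algebraMap k (FractionRing (MvPowerSeries σ k)) (i : k)) := by
      rw [pfree_iff_linearIndependent]
      have h1 := (pfree_iff_linearIndependent p _).1 hT
      have h2 := linearIndependent_fieldRange_frobenius (σ := σ) p _ h1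
      simp only [map_finsuppProd, map_pow] at h2
      exact h2
    let φ : E₁ →+* E₂ :=
      ((algebraMap k (FractionRing (MvPowerSeries σ k))).comp E₁.subtype).codRestrict E₂ (by
        rintro ⟨_, y, rfl⟩
        exact ⟨algebraMap k (FractionRing (MvPowerSeries σ k)) y, by simp [frobenius_def]⟩)
    let b := Module.Basis.ofVectorSpace k (FractionRing (MvPowerSeries σ k))
    have H := linearIndependent_pow_of_pfree p φ (fun e => rfl)
      (by rintro ⟨_, y, rfl⟩; exact ⟨y, rfl⟩) hE₁ hE₂ (Subtype.val : T → k)
      (by rwa [Subtype.range_coe]) hfree b b.linearIndependent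
    exact isGeometricallyReduced_of_basis_pow p b H
  · haveI : CharZero k := CharP.charP_to_charZero k
    exact isGeometricallyReduced_of_charZero

end Main

end Groth.Agent.Lib.Helper7.PsSep
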