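import Mathlib
import Groth.Agent.Lib.Helper7Cartier3
import Groth.Agent.Lib.Helper7PsSep
import Groth.Agent.Lib.Helper19FSField

/-!
# Differentials of finite extensions of `k((T_1..T_n))` (EGA 0_IV 21.9 / 22.7) (helper19)
-/

set_option autoImplicit false
set_option linter.style.haveILetI false
set_option linter.unusedSectionVars false
universe u

open TensorProduct KaehlerDifferential MvPowerSeries

namespace Groth.Agent.Lib.Helper19.CKCartier

/-- formally smooth ⇒ the imperfection module vanishes -/
theorem imperfection_eq_bot_of_formallySmooth (R : Type*) (S T : Type u) [CommRing R] [CommRing S]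
    [CommRing T] [Algebra R S] [Algebra R T] [Algebra S T] [IsScalarTower R S T]
    [Algebra.FormallySmooth S T] : EGA41.imperfection R S T = ⊥ := by
  rw [eq_bot_iff]
  intro x hx
  have hx' : KaehlerDifferential.mapBaseChange R S T x = 0 := hx
  obtain ⟨y, rfl⟩ := (Algebra.H1Cotangent.exact_δ_mapBaseChange R S T x).mp hx'
  haveI : Subsingleton (Algebra.H1Cotangent S T) :=
    Algebra.FormallySmooth.subsingleton_h1Cotangent
  rw [Subsingleton.elim y 0, map_zero]
  exact zero_mem _

section Fields

open Groth.Agent.Lib.Helper7.ExalLib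

/-- for fields `k ⊆ K ⊆ L` with `K/k` formally smooth (separable) and `L/K` finitely generated:
`rk Ω_{L/k} = rk Ω_{K/k} + rk Υ_{L/k} + trdeg_K L`, and `Υ_{L/k}` is finite-dimensional. -/
theorem rank_kaehler_eq_of_formallySmooth (k K L : Type u) [Field k] [Field K] [Field L]
    [Algebra k K] [Algebra k L] [Algebra K L] [IsScalarTower k K L]
    [Algebra.FormallySmooth k K] [Algebra.EssFiniteType K L] :
    Module.Finite L (EGA41.imperfection ℤ k L) ∧
      Module.rank L Ω[L⁄k] = Module.rank K Ω[K⁄k] + Module.rank L (EGA41.imperfection ℤ k L) +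
        (Cardinal.toNat (Algebra.trdeg K L) : Cardinal.{u}) := by
  have hz : EGA41.imperfection ℤ k K = ⊥ := imperfection_eq_bot_of_formallySmooth ℤ k K
  have a1 := rank_imperfection_tower_aux1 (k := ℤ) (K := k) (L := K) (M := L)
  have a2 := rank_imperfection_tower_aux2 (k := ℤ) (K := k) (L := K) (M := L)
  have a3 := rank_imperfection_tower_aux3 (K := k) (L := K) (M := L)
  have a4 := rank_imperfection_tower_aux4 (K := k) (L := K) (M := L)
  obtain ⟨f1, f2, t3, heq⟩ := cartierEQ_of_essFiniteType (K := K) (L := L)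
  haveI := f1
  haveI := f2
  rw [hz, rank_bot, zero_add] at a1
  have hfin : Module.Finite L (EGA41.imperfection ℤ k L) := by
    have h0 : Module.rank L ↥(EGA41.imperfection ℤ k L) < Cardinal.aleph0 := by
      rw [a1]
      exact lt_of_le_of_lt (Submodule.rank_mono inf_le_left)
        (Module.rank_lt_aleph0 L (EGA41.imperfection ℤ K L))
    have h : IsNoetherian L ↥(EGA41.imperfection ℤ k L) :=
      (IsNoetherian.iff_rank_lt_aleph0 (K := L) (V := ↥(EGA41.imperfection ℤ k L))).2 h0
    exact Module.IsNoetherian.finite L _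
  refine ⟨hfin, ?_⟩
  rw [a4, ← Module.finrank_eq_rank L Ω[L⁄K], ← heq, a3, a1]
  have h2 : (Module.finrank L (EGA41.imperfection ℤ K L) : Cardinal.{u}) =
      Module.rank L (EGA41.imperfection ℤ K L) := Module.finrank_eq_rank L _
  rw [Nat.cast_add, h2, a2]
  ring

end Fields

section Main

variable {k : Type u} [Field k] (n : ℕ) {L : Type u} [Field L] [Algebra k L]
  [Algebra (MvPowerSeries (Fin n) k) L] [IsScalarTower k (MvPowerSeries (Fin n) k) L]

/-- `n ≤ rk Ω_{K/k}` for `K = k((T_1..T_n))`, with equality if the `dT_i` span `Ω_{k[[T]]/k}`. -/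
theorem rank_kaehler_fractionRing :
    (n : Cardinal.{u}) ≤ Module.rank (FractionRing (MvPowerSeries (Fin n) k))
        Ω[FractionRing (MvPowerSeries (Fin n) k)⁄k] ∧
      (Submodule.span (MvPowerSeries (Fin n) k) (Set.range fun i : Fin n =>
          D k (MvPowerSeries (Fin n) k) (X i)) = ⊤ →
        Module.rank (FractionRing (MvPowerSeries (Fin n) k))
          Ω[FractionRing (MvPowerSeries (Fin n) k)⁄k] = n) := by
  classical
  let K := FractionRing (MvPowerSeries (Fin n) k)
  let eq₀ : K ⊗[MvPowerSeries (Fin n) k] Ω[MvPowerSeries (Fin n) k⁄k] ≃ₗ[K] Ω[K⁄k] :=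
    KaehlerDifferential.tensorKaehlerEquivOfFormallyEtale k (MvPowerSeries (Fin n) k) K
  have hle : (n : Cardinal.{u}) ≤ Module.rank K Ω[K⁄k] := by
    let ρ' : Fin n → (Ω[K⁄k] →ₗ[K] K) := fun i =>
      (LinearMap.liftBaseChange K ((Algebra.linearMap (MvPowerSeries (Fin n) k) K) ∘ₗ
        (MvPowerSeries.pderiv k i).liftKaehlerDifferential)) ∘ₗ eq₀.symm.toLinearMap
    have hρ' : ∀ i (g : MvPowerSeries (Fin n) k),
        ρ' i (KaehlerDifferential.D k K (algebraMap _ K g)) =
          algebraMap _ K (MvPowerSeries.pderiv k i g) := by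
      intro i g
      simp only [ρ', eq₀, LinearMap.comp_apply, LinearEquiv.coe_coe,
        KaehlerDifferential.tensorKaehlerEquivOfFormallyEtale_symm_D_algebraMap,
        LinearMap.liftBaseChange_tmul, one_smul, Algebra.linearMap_apply,
        Derivation.liftKaehlerDifferential_comp_D]
    have hli : LinearIndependent K (fun j : Fin n =>
        KaehlerDifferential.D k K (algebraMap _ K (X j : MvPowerSeries (Fin n) k))) := by
      rw [Fintype.linearIndependent_iff]
      intro g hg i
      have h1 := congrArg (ρ' i) hg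
      rw [map_sum, map_zero] at h1
      simp only [map_smul, hρ', MvPowerSeries.pderiv_X, smul_eq_mul] at h1
      rw [Finset.sum_eq_single i] at h1
      · simpa using h1
      · intro j _ hji
        simp [hji]
      · intro hi; exact absurd (Finset.mem_univ i) hi
    have := hli.cardinal_lift_le_rank
    simpa using this
  refine ⟨hle, fun hspan => le_antisymm ?_ hle⟩
  have key : ∀ ω ∈ Submodule.span (MvPowerSeries (Fin n) k) (Set.range fun i : Fin n =>
      D k (MvPowerSeries (Fin n) k) (X i)),
      eq₀ ((1 : K) ⊗ₜ[MvPowerSeries (Fin n) k] ω) ∈ Submodule.span K (Set.range fun i : Fin n =>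
        KaehlerDifferential.D k K (algebraMap _ K (X i : MvPowerSeries (Fin n) k))) := by
    intro ω hω
    induction hω using Submodule.span_induction with
    | mem x hx =>
      obtain ⟨i, rfl⟩ := hx
      refine Submodule.subset_span ⟨i, ?_⟩
      simp [eq₀, KaehlerDifferential.tensorKaehlerEquivOfFormallyEtale_apply]
    | zero => rw [TensorProduct.tmul_zero, map_zero]; exact zero_mem _
    | add x y _ _ hx hy => rw [TensorProduct.tmul_add, map_add]; exact add_mem hx hy
    | smul r x _ hx =>
      have : (1 : K) ⊗ₜ[MvPowerSeries (Fin n) k] (r • x) =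
          (algebraMap _ K r) • ((1 : K) ⊗ₜ[MvPowerSeries (Fin n) k] x) := by
        rw [TensorProduct.smul_tmul', ← TensorProduct.smul_tmul, Algebra.smul_def, mul_one,
          smul_eq_mul, mul_one]
      rw [this, map_smul]
      exact Submodule.smul_mem _ _ hx
  have htop : Submodule.span K (Set.range fun i : Fin n =>
      KaehlerDifferential.D k K (algebraMap _ K (X i : MvPowerSeries (Fin n) k))) = ⊤ := by
    rw [eq_top_iff]
    rintro w -
    obtain ⟨z, rfl⟩ := eq₀.surjective w
    induction z using TensorProduct.induction_on with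
    | zero => rw [map_zero]; exact zero_mem _
    | add a b ha hb => rw [map_add]; exact add_mem ha hb
    | tmul c ω =>
      have hc : c ⊗ₜ[MvPowerSeries (Fin n) k] ω =
          c • ((1 : K) ⊗ₜ[MvPowerSeries (Fin n) k] ω) := by
        rw [TensorProduct.smul_tmul', smul_eq_mul, mul_one]
      rw [hc, map_smul]
      exact Submodule.smul_mem _ _ (key ω (by rw [hspan]; trivial))
  have h1 := rank_span_le (R := K) (Set.range fun i : Fin n =>
      KaehlerDifferential.D k K (algebraMap _ K (X i : MvPowerSeries (Fin n) k)))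
  rw [htop, rank_top] at h1
  refine h1.trans ?_
  have h2 := Cardinal.mk_range_le_lift (f := fun i : Fin n =>
      KaehlerDifferential.D k K (algebraMap _ K (X i : MvPowerSeries (Fin n) k)))
  simpa using h2

/-- **EGA 0_IV 22.7.x**: for a field `L` essentially of finite type over `k[[T_1..T_n]]`
(injectively), `rk Ω_{L/k} = rk Ω_{K/k} + rk Υ_{L/k} + trdeg_K L`, with `K = k((T))`. -/
theorem rank_kaehler_eq (hinj : Function.Injective (algebraMap (MvPowerSeries (Fin n) k) L))
    [Algebra.EssFiniteType (MvPowerSeries (Fin n) k) L] :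
    Module.Finite L (EGA41.imperfection ℤ k L) ∧
      ∃ c t : Cardinal.{u}, (n : Cardinal.{u}) ≤ c ∧
        (Submodule.span (MvPowerSeries (Fin n) k) (Set.range fun i : Fin n =>
          D k (MvPowerSeries (Fin n) k) (X i)) = ⊤ → c = n) ∧
        (Algebra.IsAlgebraic (MvPowerSeries (Fin n) k) L → t = 0) ∧
        Module.rank L Ω[L⁄k] = c + Module.rank L (EGA41.imperfection ℤ k L) + t := by
  classical
  haveI : FaithfulSMul (MvPowerSeries (Fin n) k) L :=
    (faithfulSMul_iff_algebraMap_injective _ L).2 hinj
  letI : Algebra (FractionRing (MvPowerSeries (Fin n) k)) L :=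
    FractionRing.liftAlgebra (MvPowerSeries (Fin n) k) L
  haveI : IsScalarTower (MvPowerSeries (Fin n) k) (FractionRing (MvPowerSeries (Fin n) k)) L :=
    FractionRing.isScalarTower_liftAlgebra (MvPowerSeries (Fin n) k) L
  haveI : IsScalarTower k (FractionRing (MvPowerSeries (Fin n) k)) L :=
    IsScalarTower.of_algebraMap_eq (fun c => by
      rw [IsScalarTower.algebraMap_apply k (MvPowerSeries (Fin n) k)
          (FractionRing (MvPowerSeries (Fin n) k)),
        ← IsScalarTower.algebraMap_apply (MvPowerSeries (Fin n) k)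
          (FractionRing (MvPowerSeries (Fin n) k)) L,
        ← IsScalarTower.algebraMap_apply k (MvPowerSeries (Fin n) k) L])
  haveI : Algebra.EssFiniteType (FractionRing (MvPowerSeries (Fin n) k)) L :=
    Algebra.EssFiniteType.of_comp (MvPowerSeries (Fin n) k) _ L
  haveI : Algebra.IsGeometricallyReduced k (FractionRing (MvPowerSeries (Fin n) k)) :=
    Groth.Agent.Lib.Helper7.PsSep.isGeometricallyReduced_fractionRing_mvPowerSeries k (Fin n)
  haveI : Algebra.FormallySmooth k (FractionRing (MvPowerSeries (Fin n) k)) :=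
    Groth.Agent.Lib.Helper19.PBasis.formallySmooth_of_isGeometricallyReduced
  obtain ⟨hfin, hrk⟩ := rank_kaehler_eq_of_formallySmooth k
    (FractionRing (MvPowerSeries (Fin n) k)) L
  obtain ⟨hle, heq⟩ := rank_kaehler_fractionRing (k := k) n
  refine ⟨hfin, _, _, hle, heq, ?_, hrk⟩
  intro halg
  haveI := halg
  haveI : Algebra.IsAlgebraic (FractionRing (MvPowerSeries (Fin n) k)) L :=
    Algebra.IsAlgebraic.extendScalars (R := MvPowerSeries (Fin n) k)
      (S := FractionRing (MvPowerSeries (Fin n) k)) (A := L) (IsFractionRing.injective _ _)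
  rw [trdeg_eq_zero]
  simp

end Main

end Groth.Agent.Lib.Helper19.CKCartier
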