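import Mathlib
import Groth.Agent.Lib.Helper19CKBasis
import Groth.Agent.Lib.Helper28Unmixed

/-!
# Localization at a prime over a minimal prime, when the localization is a domain (helper19)
-/

set_option autoImplicit false
set_option linter.style.haveILetI false
set_option linter.unusedSectionVars false
universe u

namespace Groth.Agent.Lib.Helper19.CKDim

variable {A : Type u} [CommRing A] (q P : Ideal A) [q.IsPrime] [P.IsPrime]

/-- the `A/q`-algebra structure on `A_P` when `q` dies in `A_P` -/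
noncomputable def quotAlgebra (h0 : ∀ a ∈ q, algebraMap A (Localization.AtPrime P) a = 0) :
    Algebra (A ⧸ q) (Localization.AtPrime P) :=
  (Ideal.Quotient.lift q (algebraMap A (Localization.AtPrime P)) h0).toAlgebra

theorem isLocalization_quot (hqP : q ≤ P)
    (h0 : ∀ a ∈ q, algebraMap A (Localization.AtPrime P) a = 0) :
    haveI : (P.map (Ideal.Quotient.mk q)).IsPrime := Ideal.isPrime_map_quotientMk_of_isPrime hqP
    letI := quotAlgebra q P h0
    IsLocalization.AtPrime (Localization.AtPrime P) (P.map (Ideal.Quotient.mk q)) := by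
  haveI : (P.map (Ideal.Quotient.mk q)).IsPrime := Ideal.isPrime_map_quotientMk_of_isPrime hqP
  letI := quotAlgebra q P h0
  have halg : ∀ a : A, algebraMap (A ⧸ q) (Localization.AtPrime P) (Ideal.Quotient.mk q a) =
      algebraMap A (Localization.AtPrime P) a := fun a => rfl
  have hmem : ∀ a : A, Ideal.Quotient.mk q a ∈ P.map (Ideal.Quotient.mk q) ↔ a ∈ P := by
    intro a
    constructor
    · intro h
      have h1 : a ∈ (P.map (Ideal.Quotient.mk q)).comap (Ideal.Quotient.mk q) := h
      rwa [Ideal.comap_map_mk hqP] at h1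
    · exact fun h => Ideal.mem_map_of_mem _ h
  refine ⟨?_, ?_, ?_⟩
  · rintro ⟨y, hy⟩
    obtain ⟨a, rfl⟩ := Ideal.Quotient.mk_surjective y
    rw [halg]
    exact IsLocalization.map_units (Localization.AtPrime P)
      (⟨a, fun ha => hy ((hmem a).2 ha)⟩ : P.primeCompl)
  · intro z
    obtain ⟨⟨a, s⟩, hz⟩ := IsLocalization.surj P.primeCompl z
    refine ⟨⟨Ideal.Quotient.mk q a, ⟨Ideal.Quotient.mk q s, fun hs => s.2 ((hmem _).1 hs)⟩⟩, ?_⟩
    simpa [halg] using hz
  · intro x y hxy
    obtain ⟨a, rfl⟩ := Ideal.Quotient.mk_surjective x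
    obtain ⟨b, rfl⟩ := Ideal.Quotient.mk_surjective y
    rw [halg, halg] at hxy
    obtain ⟨t, ht⟩ := (IsLocalization.eq_iff_exists P.primeCompl _).1 hxy
    refine ⟨⟨Ideal.Quotient.mk q t, fun hs => t.2 ((hmem _).1 hs)⟩, ?_⟩
    simp only [← map_mul]
    rw [ht]

/-- `ht P + dim A/P ≤ dim A/q` when `A_P` is a domain and `q ≤ P` is a minimal prime. -/
theorem height_add_dim_quotient_le [IsDomain (Localization.AtPrime P)]
    (hq : q ∈ minimalPrimes A) (hqP : q ≤ P) :
    ((P.height : ℕ∞) : WithBot ℕ∞) + ringKrullDim (A ⧸ P) ≤ ringKrullDim (A ⧸ q) := by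
  have h0 : ∀ a ∈ q, algebraMap A (Localization.AtPrime P) a = 0 := fun a ha =>
    Groth.Agent.Lib.Helper19.CKBasis.algebraMap_eq_zero_of_mem_minimalPrime q P hq hqP ha
  haveI : (P.map (Ideal.Quotient.mk q)).IsPrime := Ideal.isPrime_map_quotientMk_of_isPrime hqP
  letI := quotAlgebra q P h0
  haveI := isLocalization_quot q P hqP h0
  have h1 : ringKrullDim (Localization.AtPrime P) = P.height :=
    IsLocalization.AtPrime.ringKrullDim_eq_height P (Localization.AtPrime P)
  have h2 : ringKrullDim (Localization.AtPrime P) = (P.map (Ideal.Quotient.mk q)).height :=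
    IsLocalization.AtPrime.ringKrullDim_eq_height (P.map (Ideal.Quotient.mk q))
      (Localization.AtPrime P)
  have h3 := Groth.Agent.Lib.Helper28.height_add_ringKrullDim_quotient_le
    (P.map (Ideal.Quotient.mk q)) Ideal.IsPrime.ne_top'
  have h4 : ringKrullDim ((A ⧸ q) ⧸ P.map (Ideal.Quotient.mk q)) = ringKrullDim (A ⧸ P) :=
    ringKrullDim_eq_of_ringEquiv (DoubleQuot.quotQuotEquivQuotOfLE hqP)
  rw [h4, ← h2, h1] at h3
  exact h3

end Groth.Agent.Lib.Helper19.CKDim
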