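import Mathlib
import Groth.Agent.S2082
import Groth.Agent.Lib.Helper5RLR3
import Groth.Agent.Lib.Helper19ComplDim2
import Groth.Agent.Lib.Helper28FGDim

set_option autoImplicit false
set_option linter.style.haveILetI false
set_option linter.unusedSectionVars false
universe u

open IsLocalRing KaehlerDifferential TensorProduct

namespace Groth.Agent.Lib.Helper19.EtPoly

/-- contraction of a maximal ideal of a finite type algebra over a field is maximal -/
theorem isMaximal_comap_of_finiteType (k P A : Type u) [Field k] [CommRing P] [CommRing A]
    [Algebra k P] [Algebra k A] [Algebra P A] [IsScalarTower k P A] [Algebra.FiniteType k A]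
    (m : Ideal A) [hm : m.IsMaximal] : (m.comap (algebraMap P A)).IsMaximal := by
  letI : Field (A ⧸ m) := Ideal.Quotient.field m
  haveI : Algebra.FiniteType k (A ⧸ m) :=
    Algebra.FiniteType.of_surjective (Ideal.Quotient.mkₐ k m) Ideal.Quotient.mk_surjective
  haveI : Module.Finite k (A ⧸ m) := finite_of_finite_type_of_isJacobsonRing k (A ⧸ m)
  let g : P →+* A ⧸ m := (Ideal.Quotient.mk m).comp (algebraMap P A)
  have hg : g.IsIntegral := by
    refine RingHom.IsIntegral.tower_top (algebraMap k P) g ?_
    have h1 : g.comp (algebraMap k P) = algebraMap k (A ⧸ m) := by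
      ext x
      simp only [g, RingHom.comp_apply, ← IsScalarTower.algebraMap_apply]
      rfl
    rw [h1]
    exact algebraMap_isIntegral_iff.mpr inferInstance
  haveI : (⊥ : Ideal (A ⧸ m)).IsMaximal := Ideal.bot_isMaximal
  have h2 := Ideal.isMaximal_comap_of_isIntegral_of_isMaximal' g hg ⊥
  convert h2 using 1
  ext x
  simp only [Ideal.mem_comap, g, RingHom.comp_apply, Ideal.mem_bot,
    Ideal.Quotient.eq_zero_iff_mem]

/-- an unramified local extension of a regular local ring of the same dimension is flat -/
theorem flat_of_formallyUnramified_of_dim_eq (R S : Type u) [CommRing R] [CommRing S]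
    [IsRegularLocalRing R] [IsLocalRing S] [IsNoetherianRing S] [Algebra R S]
    [IsLocalHom (algebraMap R S)] [Algebra.EssFiniteType R S] [Algebra.FormallyUnramified R S]
    (hdim : ringKrullDim S = ringKrullDim R) : Module.Flat R S := by
  have hmap : (maximalIdeal R).map (algebraMap R S) = maximalIdeal S :=
    Algebra.FormallyUnramified.map_maximalIdeal
  haveI : IsNoetherianRing R := inferInstance
  have h1 : ((maximalIdeal S).spanFinrank : WithBot ℕ∞) ≤ ringKrullDim S := by
    rw [hdim, ← IsRegularLocalRing.spanFinrank_maximalIdeal (R := R), ← hmap]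
    exact_mod_cast Ideal.spanFinrank_map_le_of_fg (algebraMap R S)
      (IsNoetherian.noetherian (maximalIdeal R))
  haveI : IsRegularLocalRing S := IsRegularLocalRing.of_spanFinrank_maximalIdeal_le S h1
  haveI : LocCoh.IsCohenMacaulayLocalRing S :=
    Groth.Agent.Lib.Helper5.isCohenMacaulayLocalRing_of_isRegularLocalRing S
  apply Groth.Agent.S2082.result
  rw [hmap, hdim]
  have h0 : ringKrullDim (S ⧸ maximalIdeal S) = 0 :=
    ringKrullDim_eq_zero_of_isField ((Ideal.Quotient.maximal_ideal_iff_isField_quotient _).mp
      inferInstance)
  rw [h0, add_zero]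

section Poly

variable (k : Type u) [Field k] (n : ℕ) (A : Type u) [CommRing A] [Algebra k A]
  [Algebra (MvPolynomial (Fin n) k) A] [IsScalarTower k (MvPolynomial (Fin n) k) A]
  [Algebra.FiniteType (MvPolynomial (Fin n) k) A]

include n in
theorem finiteType_of_mvPolynomial : Algebra.FiniteType k A :=
  Algebra.FiniteType.trans (S := MvPolynomial (Fin n) k) inferInstance inferInstance

theorem ringKrullDim_localization_comap (m : Ideal A)
    [hN : (m.comap (algebraMap (MvPolynomial (Fin n) k) A)).IsMaximal] :
    ringKrullDim (Localization.AtPrime (m.comap (algebraMap (MvPolynomial (Fin n) k) A))) = n := by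
  rw [IsLocalization.AtPrime.ringKrullDim_eq_height (m.comap (algebraMap (MvPolynomial (Fin n) k) A)),
    Groth.Agent.Lib.Helper28.height_eq_of_isMaximal_mvPolynomial_fin k n _ hN]
  rfl

theorem flat_localization_of_unramified [Algebra.FormallyUnramified (MvPolynomial (Fin n) k) A]
    (m : Ideal A) [hm : m.IsMaximal] (hdim : ringKrullDim (Localization.AtPrime m) = n) :
    Module.Flat (MvPolynomial (Fin n) k) (Localization.AtPrime m) := by
  haveI : Algebra.FiniteType k A := finiteType_of_mvPolynomial k n A
  haveI hN : (m.comap (algebraMap (MvPolynomial (Fin n) k) A)).IsMaximal :=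
    isMaximal_comap_of_finiteType k (MvPolynomial (Fin n) k) A m
  haveI : m.LiesOver (m.comap (algebraMap (MvPolynomial (Fin n) k) A)) := ⟨rfl⟩
  letI := Localization.AtPrime.algebraOfLiesOver
    (m.comap (algebraMap (MvPolynomial (Fin n) k) A)) m
  haveI : IsLocalHom (algebraMap
      (Localization.AtPrime (m.comap (algebraMap (MvPolynomial (Fin n) k) A)))
      (Localization.AtPrime m)) := Localization.isLocalHom_localRingHom _ _ _ Ideal.LiesOver.over
  haveI : IsRegularLocalRing
      (Localization.AtPrime (m.comap (algebraMap (MvPolynomial (Fin n) k) A))) :=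
    IsRegularRing.isRegularLocalRing_localization _
  haveI : IsNoetherianRing A := Algebra.FiniteType.isNoetherianRing k A
  haveI : Algebra.EssFiniteType (MvPolynomial (Fin n) k) (Localization.AtPrime m) :=
    Algebra.EssFiniteType.comp (MvPolynomial (Fin n) k) A _
  haveI : Algebra.EssFiniteType
      (Localization.AtPrime (m.comap (algebraMap (MvPolynomial (Fin n) k) A)))
      (Localization.AtPrime m) :=
    Algebra.EssFiniteType.of_comp (MvPolynomial (Fin n) k) _ _
  haveI : Algebra.FormallyUnramified A (Localization.AtPrime m) :=
    .of_isLocalization m.primeCompl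
  haveI : Algebra.FormallyUnramified (MvPolynomial (Fin n) k) (Localization.AtPrime m) :=
    .comp (MvPolynomial (Fin n) k) A _
  haveI : Algebra.FormallyUnramified
      (Localization.AtPrime (m.comap (algebraMap (MvPolynomial (Fin n) k) A)))
      (Localization.AtPrime m) :=
    .of_restrictScalars (MvPolynomial (Fin n) k) _ _
  have hdimN := ringKrullDim_localization_comap k n A m
  haveI := flat_of_formallyUnramified_of_dim_eq
    (Localization.AtPrime (m.comap (algebraMap (MvPolynomial (Fin n) k) A)))
    (Localization.AtPrime m) (hdim.trans hdimN.symm)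
  exact Module.Flat.trans (MvPolynomial (Fin n) k)
    (Localization.AtPrime (m.comap (algebraMap (MvPolynomial (Fin n) k) A)))
    (Localization.AtPrime m)

/-- the range of `A ⊗ Ω_{P/k} → Ω_{A/k}` is the span of the `d a_i` -/
theorem range_mapBaseChange_eq :
    LinearMap.range (KaehlerDifferential.mapBaseChange k (MvPolynomial (Fin n) k) A) =
      Submodule.span A (Set.range fun i : Fin n =>
        KaehlerDifferential.D k A (algebraMap (MvPolynomial (Fin n) k) A (MvPolynomial.X i))) := by
  have hb := ((KaehlerDifferential.mvPolynomialBasis k (Fin n)).baseChange A).span_eq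
  rw [← Submodule.map_top, ← hb, Submodule.map_span, ← Set.range_comp]
  congr 2
  ext i
  simp only [Function.comp_apply, Module.Basis.baseChange_apply,
    KaehlerDifferential.mvPolynomialBasis_apply, KaehlerDifferential.mapBaseChange_tmul,
    one_smul, KaehlerDifferential.map_D]

theorem etale_iff :
    Algebra.Etale (MvPolynomial (Fin n) k) A ↔
      (∀ (m : Ideal A) [m.IsMaximal], ringKrullDim (Localization.AtPrime m) = n) ∧
        Submodule.span A (Set.range fun i : Fin n =>
          KaehlerDifferential.D k A (algebraMap (MvPolynomial (Fin n) k) A (MvPolynomial.X i))) = ⊤ := by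
  haveI : Algebra.FiniteType k A := finiteType_of_mvPolynomial k n A
  haveI : IsNoetherianRing A := Algebra.FiniteType.isNoetherianRing k A
  rw [← range_mapBaseChange_eq]
  constructor
  · intro het
    refine ⟨?_, ?_⟩
    · intro m hm
      haveI hN : (m.comap (algebraMap (MvPolynomial (Fin n) k) A)).IsMaximal :=
        isMaximal_comap_of_finiteType k (MvPolynomial (Fin n) k) A m
      haveI : m.LiesOver (m.comap (algebraMap (MvPolynomial (Fin n) k) A)) := ⟨rfl⟩
      letI := Localization.AtPrime.algebraOfLiesOver
        (m.comap (algebraMap (MvPolynomial (Fin n) k) A)) m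
      haveI : IsLocalHom (algebraMap
          (Localization.AtPrime (m.comap (algebraMap (MvPolynomial (Fin n) k) A)))
          (Localization.AtPrime m)) :=
        Localization.isLocalHom_localRingHom _ _ _ Ideal.LiesOver.over
      haveI : Algebra.EssFiniteType (MvPolynomial (Fin n) k) (Localization.AtPrime m) :=
        Algebra.EssFiniteType.comp (MvPolynomial (Fin n) k) A _
      haveI : Algebra.EssFiniteType
          (Localization.AtPrime (m.comap (algebraMap (MvPolynomial (Fin n) k) A)))
          (Localization.AtPrime m) :=
        Algebra.EssFiniteType.of_comp (MvPolynomial (Fin n) k) _ _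
      haveI : Algebra.FormallyUnramified A (Localization.AtPrime m) :=
        .of_isLocalization m.primeCompl
      haveI : Algebra.FormallyUnramified (MvPolynomial (Fin n) k) (Localization.AtPrime m) :=
        .comp (MvPolynomial (Fin n) k) A _
      haveI : Algebra.FormallyUnramified
          (Localization.AtPrime (m.comap (algebraMap (MvPolynomial (Fin n) k) A)))
          (Localization.AtPrime m) :=
        .of_restrictScalars (MvPolynomial (Fin n) k) _ _
      haveI : Module.Flat (MvPolynomial (Fin n) k) A := inferInstance
      haveI : Module.Flat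
          (Localization.AtPrime (m.comap (algebraMap (MvPolynomial (Fin n) k) A)))
          (Localization.AtPrime m) :=
        RingHom.Flat.localRingHom (f := algebraMap (MvPolynomial (Fin n) k) A)
          (RingHom.flat_algebraMap_iff.mpr inferInstance) m _ rfl
      have hmap : maximalIdeal (Localization.AtPrime m) =
          (maximalIdeal (Localization.AtPrime
            (m.comap (algebraMap (MvPolynomial (Fin n) k) A)))).map (algebraMap _ _) :=
        Algebra.FormallyUnramified.map_maximalIdeal.symm
      rw [Groth.Agent.Lib.Helper19.ringKrullDim_eq_of_flat_of_map_eq hmap]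
      exact ringKrullDim_localization_comap k n A m
    · rw [LinearMap.range_eq_top]
      intro y
      exact (KaehlerDifferential.exact_mapBaseChange_map k (MvPolynomial (Fin n) k) A y).mp
        (Subsingleton.elim _ _)
  · rintro ⟨ha, hb⟩
    haveI : Algebra.FormallyUnramified (MvPolynomial (Fin n) k) A := by
      refine ⟨⟨fun x y => ?_⟩⟩
      obtain ⟨x', rfl⟩ := KaehlerDifferential.map_surjective k (MvPolynomial (Fin n) k) A x
      obtain ⟨y', rfl⟩ := KaehlerDifferential.map_surjective k (MvPolynomial (Fin n) k) A y
      have hx : x' ∈ LinearMap.range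
          (KaehlerDifferential.mapBaseChange k (MvPolynomial (Fin n) k) A) := by
        rw [hb]; trivial
      have hy : y' ∈ LinearMap.range
          (KaehlerDifferential.mapBaseChange k (MvPolynomial (Fin n) k) A) := by
        rw [hb]; trivial
      rw [(KaehlerDifferential.exact_mapBaseChange_map k (MvPolynomial (Fin n) k) A x').mpr hx,
        (KaehlerDifferential.exact_mapBaseChange_map k (MvPolynomial (Fin n) k) A y').mpr hy]
    haveI : Algebra.FinitePresentation (MvPolynomial (Fin n) k) A :=
      Algebra.FinitePresentation.of_finiteType.mp inferInstance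
    haveI : Module.Flat (MvPolynomial (Fin n) k) A := by
      apply Module.flat_of_isLocalized_maximal A A (fun P => Localization.AtPrime P)
        (fun P => Algebra.linearMap A _)
      intro m hm
      exact flat_localization_of_unramified k n A m (ha m)
    exact Algebra.Etale.of_formallyUnramified_of_flat

end Poly

end Groth.Agent.Lib.Helper19.EtPoly
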