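import Mathlib
import Groth.Agent.Lib.Helper7Cartier2
import Groth.Agent.Lib.Helper14FTDim

set_option autoImplicit false
set_option linter.style.haveILetI false
set_option linter.unusedSectionVars false
universe u

open IsLocalRing KaehlerDifferential TensorProduct

namespace Groth.Agent.Lib.Helper19.SmVar

/-- the fibre of a finite module at a prime is spanned by lifts of generators, and these generate
the module after inverting one element -/
theorem exists_generators_of_fibre (A : Type u) [CommRing A] (M : Type u) [AddCommGroup M]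
    [Module A M] [Module.Finite A M] (P : Ideal A) [hP : P.IsPrime] :
    ∃ (κ : Type u) (_ : Fintype κ) (a : κ → M) (s : A),
      Fintype.card κ = Module.finrank P.ResidueField (P.ResidueField ⊗[A] M) ∧ s ∉ P ∧
      ∀ m : M, s • m ∈ Submodule.span A (Set.range a) := by
  obtain ⟨κ, a, -, hspan, hli⟩ := exists_linearIndependent' P.ResidueField
    (fun m : M => (1 : P.ResidueField) ⊗ₜ[A] m)
  have hall : Submodule.span P.ResidueField
      (Set.range (fun m : M => (1 : P.ResidueField) ⊗ₜ[A] m)) = ⊤ := by
    rw [eq_top_iff]
    rintro x -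
    induction x using TensorProduct.induction_on with
    | zero => exact Submodule.zero_mem _
    | tmul c m =>
      have : c ⊗ₜ[A] m = c • ((1 : P.ResidueField) ⊗ₜ[A] m) := by
        rw [TensorProduct.smul_tmul', smul_eq_mul, mul_one]
      rw [this]
      exact Submodule.smul_mem _ _ (Submodule.subset_span ⟨m, rfl⟩)
    | add x y hx hy => exact Submodule.add_mem _ hx hy
  rw [hall] at hspan
  let b : Module.Basis κ P.ResidueField (P.ResidueField ⊗[A] M) :=
    Module.Basis.mk hli hspan.ge
  haveI : Fintype κ := FiniteDimensional.fintypeBasisIndex b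
  refine ⟨κ, inferInstance, a, ?_⟩
  have hcard : Fintype.card κ = Module.finrank P.ResidueField (P.ResidueField ⊗[A] M) :=
    (Module.finrank_eq_card_basis b).symm
  -- the quotient by the span of the lifts vanishes at `P`
  have hzero : LinearMap.baseChange P.ResidueField (Submodule.span A (Set.range a)).mkQ = 0 := by
    apply LinearMap.ext_on hspan
    rintro _ ⟨i, rfl⟩
    simp only [Function.comp_apply, LinearMap.baseChange_tmul, LinearMap.zero_apply]
    have h0 : (Submodule.span A (Set.range a)).mkQ (a i) = 0 := by
      rw [Submodule.mkQ_apply, Submodule.Quotient.mk_eq_zero]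
      exact Submodule.subset_span ⟨i, rfl⟩
    rw [h0, TensorProduct.tmul_zero]
  have hsub : Subsingleton (P.ResidueField ⊗[A] (M ⧸ Submodule.span A (Set.range a))) := by
    refine ⟨fun x y => ?_⟩
    have hsurj : Function.Surjective
        (LinearMap.baseChange P.ResidueField (Submodule.span A (Set.range a)).mkQ) := by
      rw [LinearMap.baseChange_eq_ltensor]
      exact LinearMap.lTensor_surjective _ (Submodule.mkQ_surjective _)
    obtain ⟨x', rfl⟩ := hsurj x
    obtain ⟨y', rfl⟩ := hsurj y
    rw [hzero]; rfl
  have hsupp : (⟨P, hP⟩ : PrimeSpectrum A) ∉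
      Module.support A (M ⧸ Submodule.span A (Set.range a)) := by
    rw [Module.mem_support_iff_nontrivial_residueField_tensorProduct]
    exact not_nontrivial_iff_subsingleton.mpr hsub
  rw [Module.support_eq_zeroLocus, PrimeSpectrum.mem_zeroLocus, SetLike.coe_subset_coe,
    SetLike.not_le_iff_exists] at hsupp
  obtain ⟨s, hs, hsP⟩ := hsupp
  refine ⟨s, hcard, hsP, fun m => ?_⟩
  have := Module.mem_annihilator.mp hs (Submodule.Quotient.mk m)
  rwa [← Submodule.Quotient.mk_smul, Submodule.Quotient.mk_eq_zero] at this

/-- upper semicontinuity of fibre dimension under specialization -/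
theorem finrank_fibre_le_of_le (A : Type u) [CommRing A] (M : Type u) [AddCommGroup M]
    [Module A M] [Module.Finite A M] (q P : Ideal A) [hq : q.IsPrime] [hP : P.IsPrime]
    (hqP : q ≤ P) :
    Module.finrank q.ResidueField (q.ResidueField ⊗[A] M) ≤
      Module.finrank P.ResidueField (P.ResidueField ⊗[A] M) := by
  obtain ⟨κ, hκ, a, s, hcard, hsP, hs⟩ := exists_generators_of_fibre A M P
  rw [← hcard]
  have hsq : algebraMap A q.ResidueField s ≠ 0 := by
    rw [Ne, Ideal.algebraMap_residueField_eq_zero]
    exact fun h => hsP (hqP h)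
  refine finrank_le_of_span_eq_top (v := fun i => (1 : q.ResidueField) ⊗ₜ[A] a i) ?_
  rw [eq_top_iff]
  rintro x -
  have h1 : ∀ m ∈ Submodule.span A (Set.range a), (1 : q.ResidueField) ⊗ₜ[A] m ∈
      Submodule.span q.ResidueField (Set.range fun i => (1 : q.ResidueField) ⊗ₜ[A] a i) := by
    intro m hm
    induction hm using Submodule.span_induction with
    | mem x hx =>
      obtain ⟨i, rfl⟩ := hx
      exact Submodule.subset_span ⟨i, rfl⟩
    | zero => rw [TensorProduct.tmul_zero]; exact Submodule.zero_mem _
    | add x y _ _ hx hy => rw [TensorProduct.tmul_add]; exact Submodule.add_mem _ hx hy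
    | smul c x _ hx =>
      have : (1 : q.ResidueField) ⊗ₜ[A] (c • x) =
          algebraMap A q.ResidueField c • ((1 : q.ResidueField) ⊗ₜ[A] x) := by
        rw [TensorProduct.smul_tmul', smul_eq_mul, mul_one, ← TensorProduct.smul_tmul,
          Algebra.smul_def, mul_one]
      rw [this]
      exact Submodule.smul_mem _ _ hx
  induction x using TensorProduct.induction_on with
  | zero => exact Submodule.zero_mem _
  | tmul c m =>
    have : c ⊗ₜ[A] m = (c * (algebraMap A q.ResidueField s)⁻¹) •
        ((1 : q.ResidueField) ⊗ₜ[A] (s • m)) := by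
      rw [TensorProduct.smul_tmul', smul_eq_mul, mul_one, ← TensorProduct.smul_tmul,
        Algebra.smul_def]
      congr 1
      field_simp
    rw [this]
    exact Submodule.smul_mem _ _ (h1 _ (hs m))
  | add x y hx hy => exact Submodule.add_mem _ hx hy

/-- the residue field at a prime of a finite type algebra has transcendence degree `dim A/q` -/
theorem trdeg_residueField_eq (k A : Type u) [Field k] [CommRing A] [Algebra k A]
    [Algebra.FiniteType k A] (q : Ideal A) [hq : q.IsPrime] :
    ∃ d : ℕ, Algebra.trdeg k q.ResidueField = d ∧ ringKrullDim (A ⧸ q) = d := by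
  haveI : Algebra.FiniteType k (A ⧸ q) :=
    Algebra.FiniteType.of_surjective (Ideal.Quotient.mkₐ k q) Ideal.Quotient.mk_surjective
  obtain ⟨d, h1, h2, -⟩ := Groth.Agent.Lib.Helper14.FTDim.exists_dim k (A ⧸ q)
  refine ⟨d, ?_, h2⟩
  rw [← h1]
  exact (((FractionRing.algEquiv (A ⧸ q) q.ResidueField).restrictScalars k).trdeg_eq).symm

/-- `κ(q) ⊗ Ω_{A/k} → Ω_{κ(q)/k}` is surjective -/
theorem mapBaseChange_residueField_surjective (k A : Type u) [Field k] [CommRing A] [Algebra k A]
    (q : Ideal A) [hq : q.IsPrime] :
    Function.Surjective (KaehlerDifferential.mapBaseChange k A q.ResidueField) := by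
  haveI : Algebra.FormallyUnramified A (Localization.AtPrime q) :=
    Algebra.FormallyUnramified.of_isLocalization q.primeCompl
  haveI : Algebra.FormallyUnramified (Localization.AtPrime q) q.ResidueField :=
    Algebra.FormallyUnramified.of_surjective (Algebra.ofId _ _) IsLocalRing.residue_surjective
  haveI : Algebra.FormallyUnramified A q.ResidueField :=
    Algebra.FormallyUnramified.comp A (Localization.AtPrime q) q.ResidueField
  intro y
  exact (KaehlerDifferential.exact_mapBaseChange_map k A q.ResidueField y).mp
    (Subsingleton.elim _ _)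

/-- **Hartshorne II.8.x**: the fibre of `Ω_{A/k}` at a point of a component of dimension `≥ n` has
dimension `≥ n` -/
theorem le_finrank_residueField_tensor_kaehler (k : Type u) [Field k]
    (A : Type u) [CommRing A] [Algebra k A] [Algebra.FiniteType k A] (n : ℕ)
    (P : Ideal A) [P.IsPrime] (q : Ideal A) [q.IsPrime] (hqP : q ≤ P)
    (hq : (n : WithBot ℕ∞) ≤ ringKrullDim (A ⧸ q)) :
    n ≤ Module.finrank P.ResidueField (P.ResidueField ⊗[A] (Ω[A⁄k])) := by
  obtain ⟨d, hd1, hd2⟩ := trdeg_residueField_eq k A q
  rw [hd2] at hq
  have hnd : n ≤ d := by exact_mod_cast hq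
  haveI : Algebra.EssFiniteType k q.ResidueField := Algebra.EssFiniteType.comp k A _
  obtain ⟨hfin, -, -, hle⟩ :=
    Groth.Agent.Lib.Helper7.ExalLib.cartierLE_of_essFiniteType (k := k) (K := k)
      (L := q.ResidueField)
  rw [hd1, Cardinal.toNat_natCast] at hle
  have h3 : Module.finrank q.ResidueField Ω[q.ResidueField⁄k] ≤
      Module.finrank q.ResidueField (q.ResidueField ⊗[A] Ω[A⁄k]) := by
    have := LinearMap.finrank_range_le (KaehlerDifferential.mapBaseChange k A q.ResidueField)
    rwa [LinearMap.range_eq_top.mpr (mapBaseChange_residueField_surjective k A q),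
      finrank_top] at this
  have h4 := finrank_fibre_le_of_le A Ω[A⁄k] q P hqP
  omega

end Groth.Agent.Lib.Helper19.SmVar
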