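import Mathlib
import Groth.Agent.Lib.Helper19EtPolyAt
import Groth.Agent.Lib.Helper5IntDim
import Groth.Agent.Lib.Helper28Catenary
import Groth.Agent.Lib.Helper6SepBC
import Groth.Agent.Lib.Helper19ComplIso

/-!
# Unramified + dimension ⇒ étale over a regular local base (helper19)
-/

set_option autoImplicit false
set_option linter.style.haveILetI false
set_option linter.unusedSectionVars false
universe u

open IsLocalRing

namespace Groth.Agent.Lib.Helper19.CKEtale

/-- height of the image of a prime in a quotient is at most its height -/
theorem height_map_quotientMk_le {S : Type*} [CommRing S] (q p : Ideal S) [p.IsPrime]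
    (hqp : q ≤ p) : (p.map (Ideal.Quotient.mk q)).height ≤ p.height := by
  haveI : (p.map (Ideal.Quotient.mk q)).IsPrime := Ideal.isPrime_map_quotientMk_of_isPrime hqp
  have h := Order.height_le_height_apply_of_strictMono _
    (RingHom.strictMono_comap_of_surjective (Ideal.Quotient.mk_surjective (I := q)))
    (⟨p.map (Ideal.Quotient.mk q), inferInstance⟩ : PrimeSpectrum (S ⧸ q))
  rw [← PrimeSpectrum.height_eq_orderHeight, ← PrimeSpectrum.height_eq_orderHeight] at h
  have h2 : (PrimeSpectrum.comap (Ideal.Quotient.mk q)
      (⟨p.map (Ideal.Quotient.mk q), inferInstance⟩ : PrimeSpectrum (S ⧸ q))).asIdeal = p := by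
    rw [PrimeSpectrum.comap_asIdeal]
    exact Ideal.comap_map_mk hqp
  rw [h2] at h
  exact h

/-- an unramified local extension of a regular local ring of the same dimension is regular -/
theorem isRegularLocalRing_of_formallyUnramified_of_dim_eq (R S : Type u) [CommRing R] [CommRing S]
    [IsRegularLocalRing R] [IsLocalRing S] [IsNoetherianRing S] [Algebra R S]
    [IsLocalHom (algebraMap R S)] [Algebra.EssFiniteType R S] [Algebra.FormallyUnramified R S]
    (hdim : ringKrullDim S = ringKrullDim R) : IsRegularLocalRing S := by
  have hmap : (maximalIdeal R).map (algebraMap R S) = maximalIdeal S :=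
    Algebra.FormallyUnramified.map_maximalIdeal
  haveI : IsNoetherianRing R := inferInstance
  have h1 : ((maximalIdeal S).spanFinrank : WithBot ℕ∞) ≤ ringKrullDim S := by
    rw [hdim, ← IsRegularLocalRing.spanFinrank_maximalIdeal (R := R), ← hmap]
    exact_mod_cast Ideal.spanFinrank_map_le_of_fg (algebraMap R S)
      (IsNoetherian.noetherian (maximalIdeal R))
  exact IsRegularLocalRing.of_spanFinrank_maximalIdeal_le S h1

variable (R S : Type u) [CommRing R] [CommRing S] [IsRegularLocalRing R] [Algebra R S]
  [Module.Finite R S] (q p : Ideal S) [q.IsPrime] [p.IsPrime]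

include q in
/-- going down + incomparability: `ht p = ht (p ∩ R)` -/
theorem height_eq_height_under (hqp : q ≤ p)
    (hinj : Function.Injective (algebraMap R (S ⧸ q))) :
    p.height = (p.under R).height := by
  haveI : IsDomain R := Groth.Agent.Lib.Helper5.isDomain_of_isRegularLocalRing R
  haveI : IsIntegrallyClosed R := Groth.Agent.Lib.Helper28.isIntegrallyClosed_of_isRegularLocalRing R
  refine le_antisymm (Groth.Agent.Lib.Helper5.height_le_height_under_of_isIntegral p) ?_
  haveI hp' : (p.map (Ideal.Quotient.mk q)).IsPrime := Ideal.isPrime_map_quotientMk_of_isPrime hqp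
  haveI : FaithfulSMul R (S ⧸ q) := (faithfulSMul_iff_algebraMap_injective R (S ⧸ q)).2 hinj
  haveI : (p.map (Ideal.Quotient.mk q)).LiesOver (p.under R) := by
    refine ⟨?_⟩
    rw [Ideal.under_def, Ideal.under_def, IsScalarTower.algebraMap_eq R S (S ⧸ q),
      ← Ideal.comap_comap, Ideal.Quotient.algebraMap_eq, Ideal.comap_map_mk hqp]
  exact (Groth.Agent.Lib.Helper5.height_le_height_of_liesOver_of_hasGoingDown (p.under R)
    (p.map (Ideal.Quotient.mk q))).trans (height_map_quotientMk_le q p hqp)

include q in
/-- **unramified ⇒ étale** over a regular local base, at a prime lying on a component which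
dominates the base. -/
theorem flat_and_isRegularLocalRing_of_isUnramifiedAt (hqp : q ≤ p)
    (hinj : Function.Injective (algebraMap R (S ⧸ q))) [Algebra.IsUnramifiedAt R p] :
    Module.Flat R (Localization.AtPrime p) ∧ IsRegularLocalRing (Localization.AtPrime p) := by
  haveI : IsNoetherianRing R := inferInstance
  haveI : IsNoetherianRing S := Algebra.FiniteType.isNoetherianRing R S
  haveI : p.LiesOver (p.under R) := ⟨rfl⟩
  letI := Localization.AtPrime.algebraOfLiesOver (p.under R) p
  haveI : IsLocalHom (algebraMap (Localization.AtPrime (p.under R)) (Localization.AtPrime p)) :=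
    Localization.isLocalHom_localRingHom _ _ _ Ideal.LiesOver.over
  haveI : IsRegularLocalRing (Localization.AtPrime (p.under R)) :=
    Groth.Agent.Lib.Helper28.isRegularLocalRing_localization_of_isRegularLocalRing R (p.under R)
  haveI : Algebra.EssFiniteType R (Localization.AtPrime p) := Algebra.EssFiniteType.comp R S _
  haveI : Algebra.EssFiniteType (Localization.AtPrime (p.under R)) (Localization.AtPrime p) :=
    Algebra.EssFiniteType.of_comp R _ _
  haveI : Algebra.FormallyUnramified (Localization.AtPrime (p.under R)) (Localization.AtPrime p) :=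
    .of_restrictScalars R _ _
  have hdim : ringKrullDim (Localization.AtPrime p) =
      ringKrullDim (Localization.AtPrime (p.under R)) := by
    rw [IsLocalization.AtPrime.ringKrullDim_eq_height p,
      IsLocalization.AtPrime.ringKrullDim_eq_height (p.under R),
      height_eq_height_under R S q p hqp hinj]
  haveI := Groth.Agent.Lib.Helper19.EtPoly.flat_of_formallyUnramified_of_dim_eq
    (Localization.AtPrime (p.under R)) (Localization.AtPrime p) hdim
  exact ⟨Module.Flat.trans R (Localization.AtPrime (p.under R)) (Localization.AtPrime p),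
    isRegularLocalRing_of_formallyUnramified_of_dim_eq _ _ hdim⟩

include q in
theorem isEtaleAt_of_isUnramifiedAt (hqp : q ≤ p)
    (hinj : Function.Injective (algebraMap R (S ⧸ q))) [Algebra.IsUnramifiedAt R p] :
    Algebra.IsEtaleAt R p := by
  obtain ⟨hflat, -⟩ := flat_and_isRegularLocalRing_of_isUnramifiedAt R S q p hqp hinj
  haveI : IsNoetherianRing R := inferInstance
  haveI : Algebra.FinitePresentation R S :=
    Algebra.FinitePresentation.of_finiteType.mp inferInstance
  haveI : p.LiesOver (p.under R) := ⟨rfl⟩
  exact Groth.Agent.Lib.Helper19.EtPolyAt.isEtaleAt_of_flat_of_formallyUnramified R S (p.under R) p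

omit [q.IsPrime] in
/-- a finite algebra over a regular local ring, of at least the same dimension modulo `q`, dominates
the base modulo `q`. -/
theorem injective_algebraMap_quotient_of_dim_le
    (h : ringKrullDim R ≤ ringKrullDim (S ⧸ q)) : Function.Injective (algebraMap R (S ⧸ q)) := by
  haveI : IsDomain R := Groth.Agent.Lib.Helper5.isDomain_of_isRegularLocalRing R
  haveI : IsNoetherianRing R := inferInstance
  haveI : Module.Finite R (S ⧸ q) :=
    Module.Finite.of_surjective (Ideal.Quotient.mkₐ R q).toLinearMap Ideal.Quotient.mk_surjective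
  have hint : (algebraMap R (S ⧸ q)).IsIntegral :=
    (Algebra.IsIntegral.of_finite R (S ⧸ q)).isIntegral
  have h1 := Groth.Agent.Lib.Helper5.ringKrullDim_eq_ringKrullDim_quotient_ker_of_isIntegral _ hint
  have h2 := Groth.Agent.Lib.Helper19.injective_of_surjective_of_ringKrullDim_le
    (Ideal.Quotient.mk (RingHom.ker (algebraMap R (S ⧸ q)))) Ideal.Quotient.mk_surjective
    (h.trans h1.le)
  rw [RingHom.injective_iff_ker_eq_bot, Ideal.mk_ker] at h2
  exact (RingHom.injective_iff_ker_eq_bot _).2 h2

end Groth.Agent.Lib.Helper19.CKEtale
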