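import Mathlib
import Groth.Agent.S4525

/-!
# A lower bound for completed differentials via bounded derivations (helper19)

`le_finrank_of_bounded_derivations`: let `P = k[[T_1..T_n]] → A → E` with `E` a field, `P → E`
injective, `E` essentially of finite type over `P`, the image of `A` in `E` contained in a finite
`P`-module, and `Ω_{E/A} = 0`.  If `Φ : E ⊗_A Ω_{A/k} → Z` is a linear map whose kernel is killed by
(the linearisations of) all *bounded* `k`-derivations `A → E`, then `n ≤ dim_E Z`.

The proof extends the partial derivatives of `P` to `E` as far as Cartier's inequality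
`dim Υ_{E/L₀/k} ≤ dim Ω_{E/L₀}` (S4525, helper7) allows.
-/

set_option autoImplicit false
set_option linter.style.haveILetI false
universe u

open TensorProduct Module MvPowerSeries

namespace Groth.Agent.Lib.Helper19.CKLower

section LinearAlgebra

theorem le_finrank_quotient_map {E X Y : Type*} [Field E] [AddCommGroup X] [Module E X]
    [AddCommGroup Y] [Module E Y]
    (f : X →ₗ[E] Y) {n : ℕ} (ρ : Fin n → X →ₗ[E] E) (x : Fin n → X)
    (hρ : ∀ i j, ρ i (x j) = if i = j then 1 else 0)
    [Module.Finite E (LinearMap.ker f)] [Module.Finite E (Y ⧸ LinearMap.range f)]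
    (hle : Module.finrank E (LinearMap.ker f) ≤ Module.finrank E (Y ⧸ LinearMap.range f)) :
    Module.Finite E (Y ⧸ (⨅ i, LinearMap.ker (ρ i)).map f) ∧
      n ≤ Module.finrank E (Y ⧸ (⨅ i, LinearMap.ker (ρ i)).map f) := by
  classical
  generalize hG : (⨅ i, LinearMap.ker (ρ i)) = G
  let ρπ : X →ₗ[E] (Fin n → E) := LinearMap.pi ρ
  have hker : LinearMap.ker ρπ = G := by rw [← hG]; exact LinearMap.ker_pi ρ
  have hsurj : Function.Surjective ρπ := by
    intro c
    refine ⟨∑ j, c j • x j, ?_⟩
    funext i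
    simp [ρπ, hρ]
  let e : (X ⧸ G) ≃ₗ[E] (Fin n → E) :=
    (Submodule.quotEquivOfEq _ _ hker.symm).trans (ρπ.quotKerEquivOfSurjective hsurj)
  have hXG : Module.finrank E (X ⧸ G) = n := by rw [e.finrank_eq]; simp
  haveI : Module.Finite E (X ⧸ G) := Module.Finite.equiv e.symm
  let h : (X ⧸ G) →ₗ[E] (Y ⧸ G.map f) :=
    Submodule.mapQ G (G.map f) f (Submodule.le_comap_map _ _)
  let π : (Y ⧸ G.map f) →ₗ[E] (Y ⧸ LinearMap.range f) :=
    Submodule.factor (LinearMap.map_le_range)
  have hπ : Function.Surjective π := Submodule.factor_surjective _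
  have hex : Function.Exact h π := by
    intro y
    constructor
    · intro hy
      obtain ⟨y, rfl⟩ := Submodule.Quotient.mk_surjective _ y
      have : y ∈ LinearMap.range f := by
        simpa [π, Submodule.factor_mk, Submodule.Quotient.mk_eq_zero] using hy
      obtain ⟨x', rfl⟩ := this
      exact ⟨Submodule.Quotient.mk x', by simp [h]⟩
    · rintro ⟨x', rfl⟩
      obtain ⟨x', rfl⟩ := Submodule.Quotient.mk_surjective _ x'
      simp [h, π, Submodule.Quotient.mk_eq_zero]
  haveI : Module.Finite E (Y ⧸ G.map f) := Module.Finite.of_exact hex hπ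
  refine ⟨inferInstance, ?_⟩
  have h1 := LinearMap.finrank_range_add_finrank_ker π
  have h2 : finrank E (LinearMap.range π) = finrank E (Y ⧸ LinearMap.range f) := by
    rw [LinearMap.range_eq_top.2 hπ]; exact finrank_top _ _
  have h3 : LinearMap.ker π = LinearMap.range h := LinearMap.exact_iff.1 hex
  have h4 := LinearMap.finrank_range_add_finrank_ker h
  have h5 : finrank E (LinearMap.ker h) ≤ finrank E (LinearMap.ker f) := by
    have hle' : LinearMap.ker h ≤ (LinearMap.ker f).map G.mkQ := by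
      intro z hz
      obtain ⟨z, rfl⟩ := Submodule.Quotient.mk_surjective _ z
      have hz' : f z ∈ G.map f := by
        simpa [h, Submodule.Quotient.mk_eq_zero] using hz
      obtain ⟨g, hg, hgz⟩ := hz'
      refine ⟨z - g, by simp [hgz], ?_⟩
      simp only [Submodule.mkQ_apply, Submodule.Quotient.mk_sub]
      rw [(Submodule.Quotient.mk_eq_zero G).2 hg, sub_zero]
    calc finrank E (LinearMap.ker h) ≤ finrank E ((LinearMap.ker f).map G.mkQ) :=
          Submodule.finrank_mono hle'
      _ ≤ finrank E (LinearMap.ker f) := Submodule.finrank_map_le _ _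
  rw [h3] at h1
  omega

theorem finrank_quotient_le_of_map_ker_le {E Y₀ Y Z : Type*} [Field E] [AddCommGroup Y₀]
    [Module E Y₀] [AddCommGroup Y] [Module E Y] [AddCommGroup Z] [Module E Z] [Module.Finite E Z]
    (g : Y₀ →ₗ[E] Y) (hg : Function.Surjective g) (Φ : Y₀ →ₗ[E] Z) (N : Submodule E Y)
    (hN : (LinearMap.ker Φ).map g ≤ N) :
    Module.finrank E (Y ⧸ N) ≤ Module.finrank E Z := by
  let Ψ : Y₀ →ₗ[E] (Y ⧸ N) := N.mkQ ∘ₗ g
  have hΨ : Function.Surjective Ψ := (Submodule.mkQ_surjective N).comp hg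
  have hk : LinearMap.ker Φ ≤ LinearMap.ker Ψ := by
    intro y hy
    simp only [Ψ, LinearMap.mem_ker, LinearMap.comp_apply, Submodule.mkQ_apply,
      Submodule.Quotient.mk_eq_zero]
    exact hN ⟨y, hy, rfl⟩
  let θ : (LinearMap.range Φ) →ₗ[E] (Y ⧸ N) :=
    (Submodule.liftQ _ Ψ hk) ∘ₗ (Φ.quotKerEquivRange).symm.toLinearMap
  have hθ : Function.Surjective θ := by
    intro z
    obtain ⟨y, rfl⟩ := hΨ z
    refine ⟨⟨Φ y, y, rfl⟩, ?_⟩
    have : (Φ.quotKerEquivRange).symm ⟨Φ y, y, rfl⟩ = Submodule.Quotient.mk y := by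
      rw [LinearEquiv.symm_apply_eq]
      rfl
    simp only [θ, LinearMap.comp_apply, LinearEquiv.coe_coe]
    rw [this]
    rfl
  calc Module.finrank E (Y ⧸ N) ≤ Module.finrank E (LinearMap.range Φ) :=
        LinearMap.finrank_le_finrank_of_surjective hθ
    _ ≤ Module.finrank E Z := Submodule.finrank_le _

end LinearAlgebra

section Main

variable {k : Type u} [Field k] (n : ℕ) {A E : Type u} [CommRing A] [Field E]
  [Algebra k A] [Algebra k E] [Algebra A E] [IsScalarTower k A E]
  [Algebra (MvPowerSeries (Fin n) k) A]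
  [Algebra (MvPowerSeries (Fin n) k) E] [IsScalarTower (MvPowerSeries (Fin n) k) A E]
  [IsScalarTower k (MvPowerSeries (Fin n) k) E]

theorem le_finrank_of_bounded_derivations
    (hinj : Function.Injective (algebraMap (MvPowerSeries (Fin n) k) E))
    [Algebra.EssFiniteType (MvPowerSeries (Fin n) k) E]
    (hfin : ∃ (s : ℕ) (b : Fin s → E), ∀ a : A, ∃ g : Fin s → MvPowerSeries (Fin n) k,
      algebraMap A E a = ∑ j, g j • b j)
    (hunr : Function.Surjective (KaehlerDifferential.mapBaseChange k A E))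
    {Z : Type*} [AddCommGroup Z] [Module E Z] [Module.Finite E Z]
    (Φ : E ⊗[A] Ω[A⁄k] →ₗ[E] Z)
    (hΦ : ∀ D : Derivation k A E, (∃ M : Submodule A E, M.FG ∧ ∀ a, D a ∈ M) →
      LinearMap.ker Φ ≤ LinearMap.ker (LinearMap.liftBaseChange E D.liftKaehlerDifferential)) :
    n ≤ Module.finrank E Z := by
  classical
  let L₀ := FractionRing (MvPowerSeries (Fin n) k)
  haveI : FaithfulSMul (MvPowerSeries (Fin n) k) E :=
    (faithfulSMul_iff_algebraMap_injective _ E).2 hinj
  letI : Algebra L₀ E := FractionRing.liftAlgebra (MvPowerSeries (Fin n) k) E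
  haveI : IsScalarTower (MvPowerSeries (Fin n) k) L₀ E :=
    FractionRing.isScalarTower_liftAlgebra (MvPowerSeries (Fin n) k) E
  haveI : IsScalarTower k L₀ E := IsScalarTower.of_algebraMap_eq (fun c => by
    rw [IsScalarTower.algebraMap_apply k (MvPowerSeries (Fin n) k) L₀,
      ← IsScalarTower.algebraMap_apply (MvPowerSeries (Fin n) k) L₀ E,
      ← IsScalarTower.algebraMap_apply k (MvPowerSeries (Fin n) k) E])
  haveI : Algebra.EssFiniteType L₀ E := Algebra.EssFiniteType.of_comp (MvPowerSeries (Fin n) k) L₀ E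
  obtain ⟨hfinΩ, hfinΥ, hcart⟩ := Groth.Agent.S4525.result (k := k) (K := L₀) (L := E)
  let f : E ⊗[L₀] Ω[L₀⁄k] →ₗ[E] Ω[E⁄k] := KaehlerDifferential.mapBaseChange k L₀ E
  let eq₀ : L₀ ⊗[MvPowerSeries (Fin n) k] Ω[MvPowerSeries (Fin n) k⁄k] ≃ₗ[L₀] Ω[L₀⁄k] :=
    KaehlerDifferential.tensorKaehlerEquivOfFormallyEtale k (MvPowerSeries (Fin n) k) L₀
  let ρ' : Fin n → (Ω[L₀⁄k] →ₗ[L₀] L₀) := fun i =>
    (LinearMap.liftBaseChange L₀ ((Algebra.linearMap (MvPowerSeries (Fin n) k) L₀) ∘ₗ
      (MvPowerSeries.pderiv k i).liftKaehlerDifferential)) ∘ₗ eq₀.symm.toLinearMap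
  have hρ' : ∀ i (g : MvPowerSeries (Fin n) k),
      ρ' i (KaehlerDifferential.D k L₀ (algebraMap _ L₀ g)) =
        algebraMap _ L₀ (MvPowerSeries.pderiv k i g) := by
    intro i g
    simp only [ρ', eq₀, LinearMap.comp_apply, LinearEquiv.coe_coe,
      KaehlerDifferential.tensorKaehlerEquivOfFormallyEtale_symm_D_algebraMap,
      LinearMap.liftBaseChange_tmul, one_smul, Algebra.linearMap_apply,
      Derivation.liftKaehlerDifferential_comp_D]
  let ρ : Fin n → (E ⊗[L₀] Ω[L₀⁄k] →ₗ[E] E) := fun i =>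
    LinearMap.liftBaseChange E ((Algebra.linearMap L₀ E) ∘ₗ ρ' i)
  have hρD : ∀ i (g : MvPowerSeries (Fin n) k),
      ρ i (1 ⊗ₜ KaehlerDifferential.D k L₀ (algebraMap _ L₀ g)) =
        algebraMap _ E (MvPowerSeries.pderiv k i g) := by
    intro i g
    simp only [ρ, LinearMap.liftBaseChange_tmul, one_smul, LinearMap.comp_apply, hρ',
      Algebra.linearMap_apply]
    rw [← IsScalarTower.algebraMap_apply]
  let x : Fin n → E ⊗[L₀] Ω[L₀⁄k] := fun j =>
    1 ⊗ₜ KaehlerDifferential.D k L₀ (algebraMap _ L₀ (X j : MvPowerSeries (Fin n) k))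
  have hρx : ∀ i j, ρ i (x j) = if i = j then 1 else 0 := by
    intro i j
    rw [hρD, MvPowerSeries.pderiv_X]
    by_cases h : i = j
    · subst h; simp
    · simp [h, Ne.symm h]
  haveI hΥ : Module.Finite E (LinearMap.ker f) := hfinΥ
  have hexf := KaehlerDifferential.exact_mapBaseChange_map k L₀ E
  have hsurjm : Function.Surjective (KaehlerDifferential.map k L₀ E E) :=
    KaehlerDifferential.map_surjective k L₀ E
  let eC : (Ω[E⁄k] ⧸ LinearMap.range f) ≃ₗ[E] Ω[E⁄L₀] :=
    (Submodule.quotEquivOfEq _ _ (LinearMap.exact_iff.1 hexf).symm).trans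
      ((KaehlerDifferential.map k L₀ E E).quotKerEquivOfSurjective hsurjm)
  haveI : Module.Finite E (Ω[E⁄k] ⧸ LinearMap.range f) := Module.Finite.equiv eC.symm
  have hle : Module.finrank E (LinearMap.ker f) ≤ Module.finrank E (Ω[E⁄k] ⧸ LinearMap.range f) := by
    rw [eC.finrank_eq]
    have h0 : Module.finrank E (EGA41.imperfection k L₀ E) = Module.finrank E (LinearMap.ker f) := rfl
    have h1 : (0 : ℤ) ≤ (Cardinal.toNat (Algebra.trdeg L₀ E) : ℤ) := Int.natCast_nonneg _
    omega
  obtain ⟨hfinY', hn⟩ := le_finrank_quotient_map f ρ x hρx hle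
  refine hn.trans (finrank_quotient_le_of_map_ker_le (KaehlerDifferential.mapBaseChange k A E)
    hunr Φ _ ?_)
  rintro _ ⟨y₀, hy₀, rfl⟩
  by_contra hy
  obtain ⟨w, hw, hGw⟩ := Submodule.exists_le_ker_of_notMem hy
  have hwf : w ∘ₗ f ∈ Submodule.span E (Set.range ρ) :=
    mem_span_of_iInf_ker_le_ker (fun z hz => hGw ⟨z, hz, rfl⟩)
  obtain ⟨c, hc⟩ := (Submodule.mem_span_range_iff_exists_fun E).1 hwf
  have hwP : ∀ g : MvPowerSeries (Fin n) k,
      w (KaehlerDifferential.D k E (algebraMap _ E g)) =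
        ∑ i, c i * algebraMap _ E (MvPowerSeries.pderiv k i g) := by
    intro g
    have h1 : f (1 ⊗ₜ KaehlerDifferential.D k L₀ (algebraMap _ L₀ g)) =
        KaehlerDifferential.D k E (algebraMap _ E g) := by
      simp only [f, KaehlerDifferential.mapBaseChange_tmul, one_smul, KaehlerDifferential.map_D]
      rw [← IsScalarTower.algebraMap_apply]
    rw [← h1, ← LinearMap.comp_apply, ← hc]
    simp [LinearMap.sum_apply, hρD]
  let Dw : Derivation k A E := Derivation.mk'
    ((w.restrictScalars k) ∘ₗ (KaehlerDifferential.D k E).toLinearMap ∘ₗ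
      (IsScalarTower.toAlgHom k A E).toLinearMap) (by
      intro a b
      simp only [LinearMap.comp_apply, AlgHom.toLinearMap_apply, IsScalarTower.coe_toAlgHom',
        Derivation.coeFn_coe, LinearMap.restrictScalars_apply, map_mul, Derivation.leibniz,
        map_add, map_smul, Algebra.smul_def (R := A), smul_eq_mul])
  have hDw : ∀ a, Dw a = w (KaehlerDifferential.D k E (algebraMap A E a)) := fun a => rfl
  obtain ⟨s, b, hb⟩ := hfin
  have hbdd : ∃ M : Submodule A E, M.FG ∧ ∀ a, Dw a ∈ M := by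
    refine ⟨Submodule.span A (Set.range (fun ij : Fin n × Fin s => c ij.1 * b ij.2) ∪
      Set.range (fun j => w (KaehlerDifferential.D k E (b j)))), ?_, ?_⟩
    · exact Submodule.fg_span ((Set.finite_range _).union (Set.finite_range _))
    · intro a
      obtain ⟨g, hg⟩ := hb a
      rw [hDw, hg, map_sum, map_sum]
      refine Submodule.sum_mem _ fun j _ => ?_
      rw [Algebra.smul_def, Derivation.leibniz, map_add, map_smul, map_smul, hwP]
      refine Submodule.add_mem _ ?_ ?_
      · have : algebraMap _ E (g j) • w (KaehlerDifferential.D k E (b j)) =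
            (algebraMap (MvPowerSeries (Fin n) k) A (g j)) • w (KaehlerDifferential.D k E (b j)) := by
          rw [Algebra.smul_def (algebraMap _ A (g j)), ← IsScalarTower.algebraMap_apply, smul_eq_mul]
        rw [this]
        exact Submodule.smul_mem _ _ (Submodule.subset_span (Or.inr ⟨j, rfl⟩))
      · rw [Finset.smul_sum]
        refine Submodule.sum_mem _ fun i _ => ?_
        have : b j • (c i * algebraMap _ E (MvPowerSeries.pderiv k i (g j))) =
            (algebraMap _ A (MvPowerSeries.pderiv k i (g j))) • (c i * b j) := by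
          rw [Algebra.smul_def (algebraMap _ A _), ← IsScalarTower.algebraMap_apply, smul_eq_mul]
          ring
        rw [this]
        exact Submodule.smul_mem _ _ (Submodule.subset_span (Or.inl ⟨(i, j), rfl⟩))
  have hcomp : LinearMap.liftBaseChange E Dw.liftKaehlerDifferential =
      w ∘ₗ (KaehlerDifferential.mapBaseChange k A E) := by
    apply (LinearMap.liftBaseChangeEquiv E).symm.injective
    apply Derivation.liftKaehlerDifferential_unique
    ext a
    simp [LinearMap.liftBaseChangeEquiv_symm_apply, hDw, LinearMap.liftBaseChange]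
  have h0 := hΦ Dw hbdd hy₀
  rw [LinearMap.mem_ker, hcomp] at h0
  exact hw h0

end Main

end Groth.Agent.Lib.Helper19.CKLower
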