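import Mathlib
import Groth.Agent.S3866

/-!
# Completed modules of differentials: surjectivity of `Ω → Ω̂`, universal property, exact sequence
(helper19)
-/

set_option autoImplicit false
universe u

open TensorProduct

namespace Groth.Agent.Lib.Helper19.CKSeq

section General

variable {A : Type*} [CommRing A] (I : Ideal A) (M : Type*) [AddCommGroup M] [Module A M]

/-- `M̂ = of(M) + I M̂` when `I` is finitely generated. -/
theorem top_le_range_of_sup_smul (hfg : I.FG) :
    (⊤ : Submodule A (AdicCompletion I M)) ≤
      LinearMap.range (AdicCompletion.of I M) ⊔ I • (⊤ : Submodule A (AdicCompletion I M)) := by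
  intro y _
  obtain ⟨x, hx⟩ := Submodule.Quotient.mk_surjective _ (AdicCompletion.eval I M 1 y)
  have h1 : y - AdicCompletion.of I M x ∈ I • (⊤ : Submodule A (AdicCompletion I M)) := by
    have hker := AdicCompletion.pow_smul_top_eq_ker_eval (I := I) (M := M) (n := 1) hfg
    have h1' : (I • ⊤ : Submodule A (AdicCompletion I M)) = I ^ 1 • ⊤ := by rw [pow_one]
    rw [h1', hker, LinearMap.mem_ker, map_sub, sub_eq_zero, ← hx]
    simp
  have : y = AdicCompletion.of I M x + (y - AdicCompletion.of I M x) := by abel
  rw [this]
  exact Submodule.add_mem_sup ⟨x, rfl⟩ h1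

/-- If the completion `M̂` is a finite module and `I` is in the Jacobson radical, then `M → M̂`
is surjective. -/
theorem of_surjective_of_finite (hfg : I.FG) (hI : I ≤ Ideal.jacobson ⊥)
    [Module.Finite A (AdicCompletion I M)] : Function.Surjective (AdicCompletion.of I M) := by
  rw [← LinearMap.range_eq_top, eq_top_iff]
  exact Submodule.le_of_le_smul_of_le_jacobson_bot Module.Finite.fg_top hI
    (top_le_range_of_sup_smul I M hfg)

end General

section Kaehler

variable {k R S : Type u} [CommRing k] [CommRing R] [CommRing S] [Algebra k R] [Algebra k S]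
  [Algebra R S] [IsScalarTower k R S] (I : Ideal S)

/-- The completed first fundamental sequence is exact in the middle as soon as `Ω̂_{S/k}` is a
finite module and `Ω_{S/R}` is separated. -/
theorem range_eq_ker_of_finite (hfg : I.FG) (hI : I ≤ Ideal.jacobson ⊥)
    [Module.Finite S (AdicCompletion I Ω[S⁄k])] [IsHausdorff I Ω[S⁄R]] :
    LinearMap.range (AdicCompletion.map I (KaehlerDifferential.mapBaseChange k R S)) =
      LinearMap.ker (AdicCompletion.map I (KaehlerDifferential.map k R S S)) := by
  have hex := KaehlerDifferential.exact_mapBaseChange_map k R S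
  apply le_antisymm
  · rintro _ ⟨y, rfl⟩
    rw [LinearMap.mem_ker, AdicCompletion.map_comp_apply]
    have h0 : (KaehlerDifferential.map k R S S) ∘ₗ (KaehlerDifferential.mapBaseChange k R S) = 0 := by
      refine LinearMap.ext fun y => ?_
      exact hex.apply_apply_eq_zero y
    rw [h0, AdicCompletion.map_zero]
    rfl
  · intro x hx
    obtain ⟨ω, rfl⟩ := of_surjective_of_finite I Ω[S⁄k] hfg hI x
    rw [LinearMap.mem_ker, AdicCompletion.map_of] at hx
    have h1 : KaehlerDifferential.map k R S S ω = 0 := by
      have hinj : Function.Injective (AdicCompletion.of I Ω[S⁄R]) :=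
        AdicCompletion.of_injective I _
      apply hinj
      rw [hx, map_zero]
    obtain ⟨y, rfl⟩ := (hex ω).1 h1
    exact ⟨AdicCompletion.of I _ y, AdicCompletion.map_of _ _ _⟩

end Kaehler

end Groth.Agent.Lib.Helper19.CKSeq
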