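import Mathlib
import Groth.Agent.Lib.Helper19CKSeq

set_option autoImplicit false
set_option linter.style.haveILetI false
universe u

open TensorProduct Module

namespace Groth.Agent.Lib.Helper19.CKSeq

section Univ

variable {k A : Type u} [CommRing k] [CommRing A] [Algebra k A] [IsNoetherianRing A]
  (I : Ideal A) [IsAdicComplete I A]

/-- restrict the codomain of a derivation to a submodule containing its image -/
noncomputable def derivationCodRestrict {N : Type*} [AddCommGroup N] [Module A N] [Module k N]
    [IsScalarTower k A N] (D : Derivation k A N) (M : Submodule A N) (hM : ∀ a, D a ∈ M) :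
    Derivation k A M :=
  Derivation.mk' (LinearMap.codRestrict (M.restrictScalars k) D.toLinearMap hM) (by
    intro a b
    apply Subtype.ext
    exact D.leibniz a b)

/-- A derivation into a finite module over a complete Noetherian ring factors through the
completed module of differentials. -/
theorem exists_lift_of_finite {M : Type u} [AddCommGroup M] [Module A M] [Module k M]
    [IsScalarTower k A M] [Module.Finite A M] (D : Derivation k A M) :
    ∃ L : AdicCompletion I Ω[A⁄k] →ₗ[A] M,
      ∀ a, L (AdicCompletion.of I _ (KaehlerDifferential.D k A a)) = D a := by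
  haveI : IsAdicComplete I M := Groth.Agent.S3866.result A I M
  refine ⟨(AdicCompletion.ofLinearEquiv I M).symm.toLinearMap ∘ₗ
    (AdicCompletion.map I D.liftKaehlerDifferential).restrictScalars A, fun a => ?_⟩
  rw [LinearMap.comp_apply, LinearMap.restrictScalars_apply, AdicCompletion.map_of,
    LinearEquiv.coe_coe, AdicCompletion.ofLinearEquiv_symm_of,
    Derivation.liftKaehlerDifferential_comp_D]

/-- Bounded derivations into an `A`-algebra `E` kill the kernel of `E ⊗ Ω → E ⊗ Ω̂`. -/
theorem ker_baseChange_of_le_ker {E : Type u} [CommRing E] [Algebra A E] [Algebra k E]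
    [IsScalarTower k A E] (D : Derivation k A E)
    (hD : ∃ M : Submodule A E, M.FG ∧ ∀ a, D a ∈ M) :
    LinearMap.ker (LinearMap.baseChange E (AdicCompletion.of I Ω[A⁄k])) ≤
      LinearMap.ker (LinearMap.liftBaseChange E D.liftKaehlerDifferential) := by
  obtain ⟨M, hMfg, hM⟩ := hD
  haveI : Module.Finite A M := Module.Finite.iff_fg.2 hMfg
  obtain ⟨L, hL⟩ := exists_lift_of_finite I (derivationCodRestrict D M hM)
  have hcomp : LinearMap.liftBaseChange E D.liftKaehlerDifferential =
      (LinearMap.liftBaseChange E (M.subtype ∘ₗ L)) ∘ₗ
        (LinearMap.baseChange E (AdicCompletion.of I Ω[A⁄k])) := by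
    apply (LinearMap.liftBaseChangeEquiv E).symm.injective
    apply Derivation.liftKaehlerDifferential_unique
    ext a
    show (LinearMap.liftBaseChangeEquiv E).symm
        (LinearMap.liftBaseChange E D.liftKaehlerDifferential) (KaehlerDifferential.D k A a) =
      (LinearMap.liftBaseChangeEquiv E).symm ((LinearMap.liftBaseChange E (M.subtype ∘ₗ L)) ∘ₗ
        (LinearMap.baseChange E (AdicCompletion.of I Ω[A⁄k]))) (KaehlerDifferential.D k A a)
    rw [LinearMap.liftBaseChangeEquiv_symm_apply, LinearMap.liftBaseChangeEquiv_symm_apply,
      LinearMap.comp_apply, LinearMap.baseChange_tmul, LinearMap.liftBaseChange_tmul,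
      LinearMap.liftBaseChange_tmul, one_smul, one_smul, LinearMap.comp_apply, hL,
      Derivation.liftKaehlerDifferential_comp_D]
    rfl
  intro y hy
  rw [LinearMap.mem_ker] at hy ⊢
  rw [hcomp, LinearMap.comp_apply, hy, map_zero]

end Univ

end Groth.Agent.Lib.Helper19.CKSeq
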