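import Mathlib
import Groth.Agent.Lib.Helper19CKLower
import Groth.Agent.Lib.Helper19CKUniv
import Groth.Agent.Lib.Helper19Normalization2
import Groth.Agent.Lib.Helper19Restricted2
import Groth.Agent.Lib.Helper19PsLiftComplete
import Groth.Agent.Lib.Helper19PsDim
import Groth.Agent.Lib.Helper5RLR
import Groth.Agent.Lib.Helper5IntDim
import Groth.Agent.Lib.Helper7ComplKaehler
import Groth.Agent.Lib.Helper19SmVarC

set_option autoImplicit false
set_option linter.style.haveILetI false
universe u

open TensorProduct Module MvPowerSeries IsLocalRing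

namespace Groth.Agent.Lib.Helper19.CKFibre

variable {k A : Type u} [Field k] [CommRing A] [IsLocalRing A] [IsNoetherianRing A] [Algebra k A]
  [IsAdicComplete (maximalIdeal A) A] [Module.Finite k (ResidueField A)]

/-- **Normalization**: for a prime `q` of a complete Noetherian local `k`-algebra with residue
field finite over `k`, with `dim A/q = n`, there is a `k`-algebra map `k[[T_1..T_n]] → A` whose
composite to `A/q` is injective and finite. -/
theorem exists_algHom_mvPowerSeries_quotient (q : Ideal A) [q.IsPrime] (n : ℕ)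
    (hn : ringKrullDim (A ⧸ q) = n) :
    ∃ φ : MvPowerSeries (Fin n) k →ₐ[k] A,
      Function.Injective ((Ideal.Quotient.mkₐ k q).comp φ) ∧
      ((Ideal.Quotient.mkₐ k q).comp φ).toRingHom.Finite ∧
      ∀ i, φ (X i) ∈ maximalIdeal A := by
  haveI : IsLocalRing (A ⧸ q) :=
    IsLocalRing.of_surjective' (Ideal.Quotient.mk q) Ideal.Quotient.mk_surjective
  haveI : IsAdicComplete (maximalIdeal (A ⧸ q)) (A ⧸ q) := by
    rw [Groth.Agent.Lib.Helper5.maximalIdeal_quotient_eq_map]
    exact Groth.Agent.Lib.Helper19.isAdicComplete_quotient_of_isNoetherianRing A (maximalIdeal A) q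
  haveI : Module.Finite k (ResidueField (A ⧸ q)) := by
    let f : A →ₐ[k] ResidueField (A ⧸ q) :=
      (IsScalarTower.toAlgHom k (A ⧸ q) (ResidueField (A ⧸ q))).comp (Ideal.Quotient.mkₐ k q)
    have hf : Function.Surjective f :=
      (residue_surjective (R := A ⧸ q)).comp Ideal.Quotient.mk_surjective
    have hker : ∀ a ∈ maximalIdeal A, f a = 0 := by
      intro a ha
      change residue (A ⧸ q) (Ideal.Quotient.mk q a) = 0
      rw [residue_eq_zero_iff, Groth.Agent.Lib.Helper5.maximalIdeal_quotient_eq_map]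
      exact Ideal.mem_map_of_mem _ ha
    haveI : Module.Finite k (A ⧸ maximalIdeal A) := ‹Module.Finite k (ResidueField A)›
    refine Module.Finite.of_surjective (Ideal.Quotient.liftₐ (maximalIdeal A) f hker).toLinearMap ?_
    intro y
    obtain ⟨a, rfl⟩ := hf y
    exact ⟨Ideal.Quotient.mk _ a, rfl⟩
  obtain ⟨m, w, hwinj, hwloc, hwfin⟩ :=
    Groth.Agent.Lib.Helper19.Normalization.exists_powerSeries_subring_finite (k₀ := k) (A := A ⧸ q)
  have hmn : m = n := by
    letI : Algebra (MvPowerSeries (Fin m) k) (A ⧸ q) := w.toRingHom.toAlgebra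
    haveI : Module.Finite (MvPowerSeries (Fin m) k) (A ⧸ q) := hwfin
    have h1 := Groth.Agent.Lib.Helper5.ringKrullDim_eq_of_isIntegral_of_injective
      (MvPowerSeries (Fin m) k) (A ⧸ q) hwinj
    rw [hn, Groth.Agent.Lib.Helper19.ringKrullDim_mvPowerSeries] at h1
    exact_mod_cast h1.symm
  subst hmn
  choose a ha using fun i => Ideal.Quotient.mk_surjective (w (X i))
  have ham : ∀ i, a i ∈ maximalIdeal A := by
    intro i
    rw [mem_maximalIdeal, mem_nonunits_iff]
    intro hu
    have h1 : IsUnit (w (X i)) := by rw [← ha i]; exact hu.map _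
    have h2 : IsUnit (X i : MvPowerSeries (Fin m) k) := hwloc.map_nonunit _ h1
    rw [MvPowerSeries.isUnit_iff_constantCoeff] at h2
    simp at h2
  obtain ⟨φ, hφ⟩ := Groth.Agent.Lib.Helper19.exists_algHom_X_eq_of_isAdicComplete (Λ := k)
    (maximalIdeal A) a ham
  have hcomp : (Ideal.Quotient.mkₐ k q).comp φ = w := by
    apply Groth.Agent.Lib.Helper19.algHom_ext_of_X_of_isHausdorff (maximalIdeal (A ⧸ q))
    · intro i
      rw [AlgHom.comp_apply, hφ, Groth.Agent.Lib.Helper5.maximalIdeal_quotient_eq_map]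
      exact Ideal.mem_map_of_mem _ (ham i)
    · intro i
      rw [AlgHom.comp_apply, hφ]
      exact ha i
  refine ⟨φ, ?_, ?_, fun i => by rw [hφ]; exact ham i⟩
  · rw [hcomp]; exact hwinj
  · rw [hcomp]; exact hwfin

/-- **Lower bound for the fibre rank of `Ω̂`** at a prime `q`: it is at least `dim A/q`. -/
theorem le_finrank_fibre (q : Ideal A) [q.IsPrime] (n : ℕ) (hn : ringKrullDim (A ⧸ q) = n) :
    n ≤ Module.finrank q.ResidueField
      (q.ResidueField ⊗[A] AdicCompletion (maximalIdeal A) Ω[A⁄k]) := by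
  obtain ⟨φ, hinj, hfin, hX⟩ := exists_algHom_mvPowerSeries_quotient (k := k) q n hn
  letI : Algebra (MvPowerSeries (Fin n) k) A := φ.toRingHom.toAlgebra
  letI : Algebra (MvPowerSeries (Fin n) k) q.ResidueField :=
    ((algebraMap A q.ResidueField).comp φ.toRingHom).toAlgebra
  haveI : IsScalarTower (MvPowerSeries (Fin n) k) A q.ResidueField :=
    IsScalarTower.of_algebraMap_eq (fun _ => rfl)
  haveI : IsScalarTower k (MvPowerSeries (Fin n) k) q.ResidueField :=
    IsScalarTower.of_algebraMap_eq (fun c => by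
      change algebraMap k q.ResidueField c = algebraMap A q.ResidueField (φ (algebraMap k _ c))
      rw [φ.commutes, ← IsScalarTower.algebraMap_apply])
  -- the algebra structure on `A ⧸ q`
  have hmap : algebraMap (MvPowerSeries (Fin n) k) (A ⧸ q) =
      ((Ideal.Quotient.mkₐ k q).comp φ).toRingHom := rfl
  haveI : Module.Finite (MvPowerSeries (Fin n) k) (A ⧸ q) :=
    RingHom.finite_algebraMap.1 (by rw [hmap]; exact hfin)
  haveI : IsScalarTower (MvPowerSeries (Fin n) k) (A ⧸ q) q.ResidueField :=
    IsScalarTower.of_algebraMap_eq (fun g => by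
      change algebraMap A q.ResidueField (φ g) =
        algebraMap (A ⧸ q) q.ResidueField (Ideal.Quotient.mk q (φ g))
      rw [IsScalarTower.algebraMap_apply A (A ⧸ q) q.ResidueField]
      rfl)
  have hinjE : Function.Injective (algebraMap (MvPowerSeries (Fin n) k) q.ResidueField) := by
    rw [IsScalarTower.algebraMap_eq (MvPowerSeries (Fin n) k) (A ⧸ q) q.ResidueField]
    rw [hmap]
    exact (IsFractionRing.injective (A ⧸ q) q.ResidueField).comp hinj
  haveI : Algebra.EssFiniteType (A ⧸ q) q.ResidueField :=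
    Algebra.EssFiniteType.of_isLocalization _ (nonZeroDivisors (A ⧸ q))
  haveI : Algebra.EssFiniteType (MvPowerSeries (Fin n) k) q.ResidueField :=
    Algebra.EssFiniteType.comp _ (A ⧸ q) _
  have hfinE : ∃ (s : ℕ) (b : Fin s → q.ResidueField), ∀ a : A,
      ∃ g : Fin s → MvPowerSeries (Fin n) k, algebraMap A q.ResidueField a = ∑ j, g j • b j := by
    obtain ⟨s, bb, hbb⟩ := Module.Finite.exists_fin (R := MvPowerSeries (Fin n) k) (M := A ⧸ q)
    refine ⟨s, fun j => algebraMap (A ⧸ q) q.ResidueField (bb j), fun a => ?_⟩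
    have h1 : Ideal.Quotient.mk q a ∈ Submodule.span (MvPowerSeries (Fin n) k) (Set.range bb) := by
      rw [hbb]; trivial
    obtain ⟨g, hg⟩ := (Submodule.mem_span_range_iff_exists_fun _).1 h1
    refine ⟨g, ?_⟩
    rw [IsScalarTower.algebraMap_apply A (A ⧸ q) q.ResidueField]
    change algebraMap (A ⧸ q) q.ResidueField (Ideal.Quotient.mk q a) = _
    rw [← hg, map_sum]
    refine Finset.sum_congr rfl fun j _ => ?_
    rw [Algebra.smul_def (g j) (bb j), map_mul, ← IsScalarTower.algebraMap_apply,
      Algebra.smul_def]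
  haveI : Algebra.EssFiniteType k (ResidueField A) := inferInstance
  haveI : Module.Finite A (AdicCompletion (maximalIdeal A) Ω[A⁄k]) :=
    Groth.Agent.Lib.Helper7.ComplKaehler.finite_adicCompletion_kaehler
  exact Groth.Agent.Lib.Helper19.CKLower.le_finrank_of_bounded_derivations n hinjE hfinE
    (Groth.Agent.Lib.Helper19.SmVar.mapBaseChange_residueField_surjective k A q)
    (LinearMap.baseChange q.ResidueField (AdicCompletion.of (maximalIdeal A) Ω[A⁄k]))
    (fun D hD => Groth.Agent.Lib.Helper19.CKSeq.ker_baseChange_of_le_ker (maximalIdeal A) D hD)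

end Groth.Agent.Lib.Helper19.CKFibre
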