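import Mathlib
import Groth.Agent.Lib.Helper19CKRank
import Groth.Agent.S4540

/-!
# Freeness of the completed module of differentials of a formally smooth complete local algebra
(EGA 0_IV 20.4.9 + 22.2; S2476) (helper19)
-/

set_option autoImplicit false
set_option linter.style.haveILetI false
set_option linter.unusedSectionVars false
universe u v

namespace Groth.Agent.Lib.Helper19.CKRank

open IsLocalRing TensorProduct KaehlerDifferential

section LemmaF

variable {A : Type u} [CommRing A] [IsLocalRing A]

/-- the rank of a free `A/𝔪ⁿ ⊗ M` is the dimension of the fibre `K ⊗ M` -/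
theorem finrank_quotient_pow_tensor {n : ℕ} (hn : n ≠ 0) (M : Type u) [AddCommGroup M]
    [Module A M]
    [Module.Free (A ⧸ maximalIdeal A ^ n) ((A ⧸ maximalIdeal A ^ n) ⊗[A] M)] :
    Module.finrank (A ⧸ maximalIdeal A ^ n) ((A ⧸ maximalIdeal A ^ n) ⊗[A] M) =
      Module.finrank (ResidueField A) (ResidueField A ⊗[A] M) := by
  have hle : maximalIdeal A ^ n ≤ maximalIdeal A := Ideal.pow_le_self hn
  haveI : Nontrivial (A ⧸ maximalIdeal A ^ n) :=
    Ideal.Quotient.nontrivial_iff.mpr
      (fun h => (maximalIdeal.isMaximal A).ne_top (top_le_iff.1 (h ▸ hle)))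
  let φ : A ⧸ maximalIdeal A ^ n →+* ResidueField A :=
    Ideal.Quotient.lift _ (residue A) (fun a ha => (residue_eq_zero_iff a).2 (hle ha))
  letI : Algebra (A ⧸ maximalIdeal A ^ n) (ResidueField A) := φ.toAlgebra
  haveI : IsScalarTower A (A ⧸ maximalIdeal A ^ n) (ResidueField A) :=
    IsScalarTower.of_algebraMap_eq (fun a => rfl)
  rw [← Module.finrank_baseChange (R := ResidueField A) (S := A ⧸ maximalIdeal A ^ n)]
  exact (AlgebraTensorModule.cancelBaseChange A (A ⧸ maximalIdeal A ^ n) (ResidueField A)
    (ResidueField A) M).finrank_eq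

/-- a finite module over a Noetherian local ring all of whose reductions modulo `𝔪ⁿ` are free
is free -/
theorem free_of_free_quotients [IsNoetherianRing A] (N : Type u) [AddCommGroup N] [Module A N]
    [Module.Finite A N]
    (hfree : ∀ n : ℕ, n ≠ 0 →
      Module.Free (A ⧸ maximalIdeal A ^ n) ((A ⧸ maximalIdeal A ^ n) ⊗[A] N)) :
    Module.Free A N := by
  classical
  have hs : Function.Surjective (algebraMap A (ResidueField A)) := residue_surjective
  let b := Module.finBasis (ResidueField A) (ResidueField A ⊗[A] N)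
  choose f hf using fun i => TensorProduct.mk_surjective A N (ResidueField A) hs (b i)
  have hspan : Submodule.span A (Set.range f) = ⊤ :=
    IsLocalRing.span_eq_top_of_tmul_eq_basis f b hf
  have hli : LinearIndependent A f := by
    rw [Fintype.linearIndependent_iff]
    intro c hc i
    have hmem : ∀ n : ℕ, c i ∈ maximalIdeal A ^ n := by
      intro n
      rcases Nat.eq_zero_or_pos n with rfl | hn
      · simp
      have hn' : n ≠ 0 := hn.ne'
      haveI := hfree n hn'
      have hle : maximalIdeal A ^ n ≤ maximalIdeal A := Ideal.pow_le_self hn'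
      haveI : Nontrivial (A ⧸ maximalIdeal A ^ n) :=
        Ideal.Quotient.nontrivial_iff.mpr
          (fun h => (maximalIdeal.isMaximal A).ne_top (top_le_iff.1 (h ▸ hle)))
      let v : Fin (Module.finrank (ResidueField A) (ResidueField A ⊗[A] N)) →
          (A ⧸ maximalIdeal A ^ n) ⊗[A] N := fun j => (1 : A ⧸ maximalIdeal A ^ n) ⊗ₜ[A] f j
      have hvspan : ⊤ ≤ Submodule.span (A ⧸ maximalIdeal A ^ n) (Set.range v) := by
        intro x _
        clear * - hspan x
        induction x using TensorProduct.induction_on with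
        | zero => exact Submodule.zero_mem _
        | add x y hx hy => exact Submodule.add_mem _ hx hy
        | tmul a y =>
          have hy : y ∈ Submodule.span A (Set.range f) := by rw [hspan]; trivial
          obtain ⟨d, rfl⟩ := (Submodule.mem_span_range_iff_exists_fun A).1 hy
          rw [TensorProduct.tmul_sum]
          refine Submodule.sum_mem _ (fun j _ => ?_)
          have : a ⊗ₜ[A] (d j • f j) = (a * Ideal.Quotient.mk _ (d j)) • v j := by
            rw [TensorProduct.tmul_smul, TensorProduct.smul_tmul', TensorProduct.smul_tmul',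
              smul_eq_mul, mul_one, ← Ideal.Quotient.algebraMap_eq, Algebra.smul_def, mul_comm]
          rw [this]
          exact Submodule.smul_mem _ _ (Submodule.subset_span ⟨j, rfl⟩)
      have hvli : LinearIndependent (A ⧸ maximalIdeal A ^ n) v :=
        linearIndependent_of_top_le_span_of_card_eq_finrank hvspan (by
          rw [Fintype.card_fin, finrank_quotient_pow_tensor hn' N])
      have hsum : ∑ j, (Ideal.Quotient.mk (maximalIdeal A ^ n) (c j)) • v j = 0 := by
        have : ∀ j, (Ideal.Quotient.mk (maximalIdeal A ^ n) (c j)) • v j =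
            (1 : A ⧸ maximalIdeal A ^ n) ⊗ₜ[A] (c j • f j) := by
          intro j
          rw [TensorProduct.tmul_smul, ← Ideal.Quotient.algebraMap_eq, algebraMap_smul]
        rw [Finset.sum_congr rfl (fun j _ => this j), ← TensorProduct.tmul_sum, hc,
          TensorProduct.tmul_zero]
      have := Fintype.linearIndependent_iff.1 hvli _ hsum i
      exact Ideal.Quotient.eq_zero_iff_mem.1 this
    have hbot : (⨅ n : ℕ, maximalIdeal A ^ n) = ⊥ :=
      Ideal.iInf_pow_eq_bot_of_isLocalRing _ (maximalIdeal.isMaximal A).ne_top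
    have : c i ∈ (⨅ n : ℕ, maximalIdeal A ^ n) := by
      rw [Ideal.mem_iInf]
      exact hmem
    rwa [hbot, Ideal.mem_bot] at this
  exact Module.Free.of_basis (Module.Basis.mk hli hspan.ge)

end LemmaF

section Apply

/-- reduction of the adic completion modulo `Iⁿ` -/
noncomputable def quotTensorCompletionEquiv {R : Type u} [CommRing R] (I : Ideal R) (hI : I.FG)
    (M : Type u) [AddCommGroup M] [Module R M] (n : ℕ) :
    (R ⧸ I ^ n) ⊗[R] AdicCompletion I M ≃ₗ[R ⧸ I ^ n] (R ⧸ I ^ n) ⊗[R] M :=
  LinearEquiv.extendScalarsOfSurjective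
    (show Function.Surjective (algebraMap R (R ⧸ I ^ n)) from Ideal.Quotient.mk_surjective)
    ((TensorProduct.quotTensorEquivQuotSMul (AdicCompletion I M) (I ^ n)).trans
      ((Submodule.quotEquivOfEq _ _ (AdicCompletion.pow_smul_top_eq_ker_eval hI)).trans
        (((AdicCompletion.eval I M n).quotKerEquivOfSurjective
          (AdicCompletion.eval_surjective I M n)).trans
          (TensorProduct.quotTensorEquivQuotSMul M (I ^ n)).symm)))

variable {k₀ A : Type u} [Field k₀] [CommRing A] [IsLocalRing A] [IsNoetherianRing A]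
  [Algebra k₀ A]

/-- **EGA 0_IV 20.4.9 / 20.7**: the completed module of differentials of a complete Noetherian
local algebra, formally smooth over a field, with residue field essentially of finite type, is
finite free of rank `dim_K (K ⊗ Ω)`. -/
theorem completedKaehler_free [IsAdicComplete (maximalIdeal A) A]
    (hfs : CAlgX.IsAdicFormallySmooth k₀ A (maximalIdeal A))
    [Algebra.EssFiniteType k₀ (ResidueField A)] :
    Module.Finite A (AdicCompletion (maximalIdeal A) (Ω[A⁄k₀])) ∧
    Module.Free A (AdicCompletion (maximalIdeal A) (Ω[A⁄k₀])) ∧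
    Module.finrank A (AdicCompletion (maximalIdeal A) (Ω[A⁄k₀])) =
      Module.finrank (ResidueField A) (ResidueField A ⊗[A] Ω[A⁄k₀]) := by
  haveI hfin : Module.Finite A (AdicCompletion (maximalIdeal A) (Ω[A⁄k₀])) :=
    Groth.Agent.Lib.Helper7.ComplKaehler.finite_adicCompletion_kaehler
  have hfg : (maximalIdeal A).FG := (isNoetherianRing_iff_ideal_fg A).1 inferInstance _
  have hFS : EGA41.IsFormallySmoothAdic k₀ (maximalIdeal k₀) A (maximalIdeal A) := by
    rw [maximalIdeal_eq_bot]
    exact (isAdicFormallySmooth_iff_isFormallySmoothAdic_bot _).1 hfs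
  have hfreeΩ : ∀ n : ℕ, n ≠ 0 →
      Module.Free (A ⧸ maximalIdeal A ^ n) ((A ⧸ maximalIdeal A ^ n) ⊗[A] Ω[A⁄k₀]) :=
    fun n hn => Groth.Agent.S4540.result hFS (maximalIdeal A ^ n) (Ideal.pow_le_self hn)
      ⟨n, le_rfl⟩
  have hfreeN : ∀ n : ℕ, n ≠ 0 → Module.Free (A ⧸ maximalIdeal A ^ n)
      ((A ⧸ maximalIdeal A ^ n) ⊗[A] AdicCompletion (maximalIdeal A) (Ω[A⁄k₀])) := by
    intro n hn
    haveI := hfreeΩ n hn
    exact Module.Free.of_equiv (quotTensorCompletionEquiv _ hfg _ n).symm
  haveI hF : Module.Free A (AdicCompletion (maximalIdeal A) (Ω[A⁄k₀])) :=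
    free_of_free_quotients _ hfreeN
  refine ⟨hfin, hF, ?_⟩
  haveI := hfreeΩ 1 one_ne_zero
  haveI := hfreeN 1 one_ne_zero
  rw [← Module.finrank_baseChange (R := ResidueField A) (S := A),
    ← finrank_quotient_pow_tensor one_ne_zero, ← finrank_quotient_pow_tensor one_ne_zero]
  exact (quotTensorCompletionEquiv _ hfg _ 1).finrank_eq

end Apply

end Groth.Agent.Lib.Helper19.CKRank
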