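import Mathlib
import Groth.Agent.Lib.Helper19PowerSeries

/-!
# Completed differentials of a power series ring over a field (helper7)

`Ω̂_{k[[T_1..T_r]]/k}` is free of rank `r`.
-/

set_option autoImplicit false
set_option linter.style.haveILetI false
universe u

open TensorProduct IsLocalRing MvPowerSeries

namespace Groth.Agent.Lib.Helper7.ComplKaehler

section General

variable {R A M : Type*} [CommRing R] [CommRing A] [Algebra R A] [AddCommGroup M] [Module A M]
  [Module R M] [IsScalarTower R A M]

/-- a derivation maps `I^(n+1)` into `I^n M` -/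
lemma derivation_mem_pow_smul_top (d : Derivation R A M) (I : Ideal A) (n : ℕ) {a : A}
    (ha : a ∈ I ^ (n + 1)) : d a ∈ I ^ n • (⊤ : Submodule A M) := by
  induction n generalizing a with
  | zero => rw [pow_zero, Ideal.one_eq_top, Submodule.top_smul]; trivial
  | succ n ih =>
    rw [pow_succ] at ha
    refine Submodule.mul_induction_on ha ?_ ?_
    · intro x hx y hy
      rw [Derivation.leibniz]
      refine Submodule.add_mem _ ?_ ?_
      · exact Submodule.smul_mem_smul hx trivial
      · rw [pow_succ', Submodule.mul_smul]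
        exact Submodule.smul_mem_smul hy (ih hx)
    · intro x y hx hy
      rw [map_add]
      exact Submodule.add_mem _ hx hy

end General

section PowerSeries

variable (k : Type u) [Field k] (r : ℕ)

/-- `a ↦ ∑ a_i dX_i` -/
noncomputable def iota : (Fin r → MvPowerSeries (Fin r) k) →ₗ[MvPowerSeries (Fin r) k]
    Ω[MvPowerSeries (Fin r) k⁄k] :=
  Fintype.linearCombination (MvPowerSeries (Fin r) k)
    (fun i => KaehlerDifferential.D k (MvPowerSeries (Fin r) k) (X i))

/-- the `i`-th partial derivative as a linear form on `Ω` -/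
noncomputable def rho (i : Fin r) : Ω[MvPowerSeries (Fin r) k⁄k] →ₗ[MvPowerSeries (Fin r) k]
    MvPowerSeries (Fin r) k :=
  (MvPowerSeries.pderiv k i).liftKaehlerDifferential

lemma rho_D (i : Fin r) (f : MvPowerSeries (Fin r) k) :
    rho k r i (KaehlerDifferential.D k _ f) = MvPowerSeries.pderiv k i f :=
  Derivation.liftKaehlerDifferential_comp_D _ _

lemma rho_iota (a : Fin r → MvPowerSeries (Fin r) k) (j : Fin r) :
    rho k r j (iota k r a) = a j := by
  classical
  rw [iota, Fintype.linearCombination_apply, map_sum]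
  simp only [map_smul, rho_D, MvPowerSeries.pderiv_X, smul_eq_mul]
  rw [Finset.sum_eq_single j]
  · simp
  · intro i _ hij
    simp [Pi.single_apply, hij]
  · intro h; exact absurd (Finset.mem_univ j) h

/-- the error operator `ω ↦ ω - ∑ ρ_i(ω) dX_i` -/
noncomputable def err : Ω[MvPowerSeries (Fin r) k⁄k] →ₗ[MvPowerSeries (Fin r) k]
    Ω[MvPowerSeries (Fin r) k⁄k] :=
  LinearMap.id - (iota k r) ∘ₗ (LinearMap.pi (rho k r))

lemma err_D_X (j : Fin r) : err k r (KaehlerDifferential.D k _ (X j)) = 0 := by
  classical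
  simp only [err, LinearMap.sub_apply, LinearMap.id_apply, LinearMap.comp_apply, sub_eq_zero]
  rw [iota, Fintype.linearCombination_apply]
  simp only [LinearMap.pi_apply, rho_D, MvPowerSeries.pderiv_X]
  rw [Finset.sum_eq_single j]
  · simp
  · intro i _ hij
    simp [Pi.single_apply, hij]
  · intro h; exact absurd (Finset.mem_univ j) h

lemma err_D_coe (P : MvPolynomial (Fin r) k) :
    err k r (KaehlerDifferential.D k _ (P : MvPowerSeries (Fin r) k)) = 0 := by
  induction P using MvPolynomial.induction_on with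
  | C a =>
    have : ((MvPolynomial.C a : MvPolynomial (Fin r) k) : MvPowerSeries (Fin r) k) =
        algebraMap k _ a := by
      rw [MvPolynomial.coe_C]; rfl
    rw [this, Derivation.map_algebraMap, map_zero]
  | add p q hp hq => rw [MvPolynomial.coe_add, map_add, map_add, hp, hq, add_zero]
  | mul_X p j hp =>
    rw [MvPolynomial.coe_mul, MvPolynomial.coe_X, Derivation.leibniz, map_add, map_smul, map_smul,
      hp, err_D_X, smul_zero, smul_zero, add_zero]

lemma varsIdeal_pow_le (n : ℕ) :
    Groth.Agent.Lib.Helper19.varsIdeal (Fin r) k ^ n ≤ maximalIdeal (MvPowerSeries (Fin r) k) ^ n := by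
  apply Ideal.pow_right_mono
  rw [Groth.Agent.Lib.Helper19.maximalIdeal_eq_coeffIdeal]
  exact Groth.Agent.Lib.Helper19.varsIdeal_le_coeffIdeal_one _

/-- **key claim**: `ω - ∑ ρ_i(ω) dX_i ∈ 𝔪^n Ω` for all `n`. -/
lemma err_mem (n : ℕ) (ω : Ω[MvPowerSeries (Fin r) k⁄k]) :
    err k r ω ∈ maximalIdeal (MvPowerSeries (Fin r) k) ^ n •
      (⊤ : Submodule (MvPowerSeries (Fin r) k) Ω[MvPowerSeries (Fin r) k⁄k]) := by
  set 𝔪 := maximalIdeal (MvPowerSeries (Fin r) k)
  have hmap : ∀ x ∈ 𝔪 ^ n • (⊤ : Submodule (MvPowerSeries (Fin r) k) Ω[MvPowerSeries (Fin r) k⁄k]),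
      err k r x ∈ 𝔪 ^ n • (⊤ : Submodule (MvPowerSeries (Fin r) k) Ω[MvPowerSeries (Fin r) k⁄k]) := by
    intro x hx
    have : Submodule.map (err k r) (𝔪 ^ n • ⊤) ≤ 𝔪 ^ n • ⊤ := by
      rw [Submodule.map_smul'']
      exact Submodule.smul_mono le_rfl le_top
    exact this ⟨x, hx, rfl⟩
  have hD : ∀ f : MvPowerSeries (Fin r) k, err k r (KaehlerDifferential.D k _ f) ∈
      𝔪 ^ n • (⊤ : Submodule (MvPowerSeries (Fin r) k) Ω[MvPowerSeries (Fin r) k⁄k]) := by
    intro f
    have hf : f = ((truncTotal (n + 1) f : MvPolynomial (Fin r) k) : MvPowerSeries (Fin r) k) +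
        (f - ((truncTotal (n + 1) f : MvPolynomial (Fin r) k) : MvPowerSeries (Fin r) k)) := by
      ring
    rw [hf, map_add, map_add, err_D_coe, zero_add]
    apply hmap
    apply derivation_mem_pow_smul_top
    exact varsIdeal_pow_le k r (n + 1) (Groth.Agent.Lib.Helper19.sub_truncTotal_mem (n + 1) f)
  have htop : Submodule.span (MvPowerSeries (Fin r) k)
      (Set.range (KaehlerDifferential.D k (MvPowerSeries (Fin r) k))) ≤
      Submodule.comap (err k r) (𝔪 ^ n • ⊤) := by
    rw [Submodule.span_le]
    rintro _ ⟨f, rfl⟩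
    exact hD f
  have hω : ω ∈ Submodule.span (MvPowerSeries (Fin r) k)
      (Set.range (KaehlerDifferential.D k (MvPowerSeries (Fin r) k))) := by
    rw [KaehlerDifferential.span_range_derivation]; trivial
  exact htop hω

instance isAdicComplete_ps :
    IsAdicComplete (maximalIdeal (MvPowerSeries (Fin r) k)) (MvPowerSeries (Fin r) k) := by
  haveI : IsAdicComplete (maximalIdeal k) k := by
    rw [IsLocalRing.isField_iff_maximalIdeal_eq.mp (Field.toIsField k)]
    infer_instance
  exact Groth.Agent.Lib.Helper19.isAdicComplete_mvPowerSeries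

/-- the comparison map `A^r → Ω̂` -/
noncomputable def psi : (Fin r → MvPowerSeries (Fin r) k) →ₗ[MvPowerSeries (Fin r) k]
    AdicCompletion (maximalIdeal (MvPowerSeries (Fin r) k)) Ω[MvPowerSeries (Fin r) k⁄k] :=
  (AdicCompletion.of _ _) ∘ₗ iota k r

lemma psi_injective : Function.Injective (psi k r) := by
  rw [injective_iff_map_eq_zero]
  intro a ha
  funext j
  have h1 := congrArg (AdicCompletion.map (maximalIdeal (MvPowerSeries (Fin r) k)) (rho k r j)) ha
  rw [psi, LinearMap.comp_apply, AdicCompletion.map_of, rho_iota, map_zero] at h1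
  have h2 : AdicCompletion.of (maximalIdeal (MvPowerSeries (Fin r) k)) _ (a j) =
      AdicCompletion.of _ _ 0 := by rw [h1, map_zero]
  exact AdicCompletion.of_injective _ _ h2

lemma mem_pow_of_mem_smul_top {A : Type*} [CommRing A] (I : Ideal A) {x : A}
    (hx : x ∈ (I • ⊤ : Submodule A A)) : x ∈ I := by
  simpa using hx

lemma psi_surjective : Function.Surjective (psi k r) := by
  intro x
  let a : Fin r → MvPowerSeries (Fin r) k := fun j =>
    (AdicCompletion.ofLinearEquiv (maximalIdeal (MvPowerSeries (Fin r) k)) (MvPowerSeries (Fin r) k)).symm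
      (AdicCompletion.map (maximalIdeal (MvPowerSeries (Fin r) k)) (rho k r j) x)
  have ha : ∀ j, AdicCompletion.of (maximalIdeal (MvPowerSeries (Fin r) k)) _ (a j) = AdicCompletion.map (maximalIdeal (MvPowerSeries (Fin r) k)) (rho k r j) x := fun j =>
    AdicCompletion.of_ofLinearEquiv_symm _ _
  refine ⟨a, ?_⟩
  apply AdicCompletion.ext
  intro n
  obtain ⟨ω, hω⟩ := Submodule.Quotient.mk_surjective _ (x.val n)
  rw [psi, LinearMap.comp_apply, AdicCompletion.of_apply, ← hω, Submodule.mkQ_apply,
    Submodule.Quotient.eq]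
  have hj : ∀ j, a j - rho k r j ω ∈ (maximalIdeal (MvPowerSeries (Fin r) k)) ^ n := by
    intro j
    have h1 := congrArg (fun y => y.val n) (ha j)
    simp only [AdicCompletion.of_apply, AdicCompletion.map_val_apply, ← hω,
      LinearMap.reduceModIdeal_apply, Submodule.mkQ_apply] at h1
    exact mem_pow_of_mem_smul_top _ ((Submodule.Quotient.eq _).1 h1)
  have h2 : iota k r a - ω = iota k r (fun j => a j - rho k r j ω) - err k r ω := by
    have : (fun j => a j - rho k r j ω) = a - LinearMap.pi (rho k r) ω := by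
      funext j; simp
    rw [this, map_sub]
    simp only [err, LinearMap.sub_apply, LinearMap.id_apply, LinearMap.comp_apply]
    abel
  rw [h2]
  refine Submodule.sub_mem _ ?_ (err_mem k r n ω)
  rw [iota, Fintype.linearCombination_apply]
  exact Submodule.sum_mem _ fun j _ => Submodule.smul_mem_smul (hj j) trivial

/-- **EGA 0_IV 21.9.x**: `Ω̂_{k[[T_1..T_r]]/k} ≅ A^r`. -/
noncomputable def psiEquiv : (Fin r → MvPowerSeries (Fin r) k) ≃ₗ[MvPowerSeries (Fin r) k]
    AdicCompletion (maximalIdeal (MvPowerSeries (Fin r) k)) Ω[MvPowerSeries (Fin r) k⁄k] :=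
  LinearEquiv.ofBijective (psi k r) ⟨psi_injective k r, psi_surjective k r⟩

end PowerSeries

end Groth.Agent.Lib.Helper7.ComplKaehler
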