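import Mathlib
import Groth.Agent.Lib.Helper19CKSeq
import Groth.Agent.Lib.Helper19PowerSeries
import Groth.Agent.Lib.Helper7ComplKaehlerPS

set_option autoImplicit false
set_option linter.style.haveILetI false
universe u

open TensorProduct Module MvPowerSeries IsLocalRing

namespace Groth.Agent.Lib.Helper19.CKRel

section Continuity

variable {k A : Type u} [Field k] [CommRing A] [Algebra k A] (m : ℕ)
  [Algebra (MvPowerSeries (Fin m) k) A] [IsScalarTower k (MvPowerSeries (Fin m) k) A]

/-- A `k`-derivation of `A` into a separated module which kills the images of the variables of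
`k[[T_1..T_m]] → A` (sent into `I`) kills the image of the whole power series ring. -/
theorem derivation_algebraMap_eq_zero (I : Ideal A)
    (hloc : ∀ i, algebraMap (MvPowerSeries (Fin m) k) A (X i) ∈ I)
    {Q : Type*} [AddCommGroup Q] [Module A Q] [Module k Q] [IsScalarTower k A Q]
    [IsHausdorff I Q] (D : Derivation k A Q)
    (hD : ∀ i, D (algebraMap (MvPowerSeries (Fin m) k) A (X i)) = 0)
    (g : MvPowerSeries (Fin m) k) : D (algebraMap _ A g) = 0 := by
  have hpoly : ∀ p : MvPolynomial (Fin m) k,
      D (algebraMap _ A (p : MvPowerSeries (Fin m) k)) = 0 := by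
    intro p
    induction p using MvPolynomial.induction_on with
    | C a =>
      have : ((MvPolynomial.C a : MvPolynomial (Fin m) k) : MvPowerSeries (Fin m) k) =
          algebraMap k _ a := by
        rw [MvPolynomial.coe_C]; rfl
      rw [this, ← IsScalarTower.algebraMap_apply, Derivation.map_algebraMap]
    | add p q hp hq => rw [MvPolynomial.coe_add, map_add, map_add, hp, hq, add_zero]
    | mul_X p j hp =>
      rw [MvPolynomial.coe_mul, MvPolynomial.coe_X, map_mul, Derivation.leibniz, hp, hD,
        smul_zero, smul_zero, add_zero]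
  have hmap : ∀ N : ℕ, ∀ h ∈ Groth.Agent.Lib.Helper19.varsIdeal (Fin m) k ^ N,
      algebraMap _ A h ∈ I ^ N := by
    intro N h hh
    have h1 : Ideal.map (algebraMap (MvPowerSeries (Fin m) k) A)
        (Groth.Agent.Lib.Helper19.varsIdeal (Fin m) k) ≤ I := by
      rw [Ideal.map_span, Ideal.span_le]
      rintro _ ⟨_, ⟨i, rfl⟩, rfl⟩
      exact hloc i
    have h2 := Ideal.mem_map_of_mem (algebraMap (MvPowerSeries (Fin m) k) A) hh
    rw [Ideal.map_pow] at h2
    exact Ideal.pow_right_mono h1 N h2
  refine IsHausdorff.haus' (I := I) _ (fun N => ?_)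
  rw [SModEq.zero]
  have hf : g = ((truncTotal (N + 1) g : MvPolynomial (Fin m) k) : MvPowerSeries (Fin m) k) +
      (g - ((truncTotal (N + 1) g : MvPolynomial (Fin m) k) : MvPowerSeries (Fin m) k)) := by
    ring
  rw [hf, map_add, map_add, hpoly, zero_add]
  exact Groth.Agent.Lib.Helper7.ComplKaehler.derivation_mem_pow_smul_top D I N
    (hmap (N + 1) _ (Groth.Agent.Lib.Helper19.sub_truncTotal_mem (N + 1) g))

end Continuity

section FiniteOver

theorem algebraMap_mem_maximalIdeal_of_finite {k A : Type u} [Field k] [CommRing A] [IsLocalRing A]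
    (m : ℕ) [Algebra (MvPowerSeries (Fin m) k) A] [Module.Finite (MvPowerSeries (Fin m) k) A]
    (h : MvPowerSeries (Fin m) k)
    (hh : h ∈ maximalIdeal (MvPowerSeries (Fin m) k)) :
    algebraMap (MvPowerSeries (Fin m) k) A h ∈ maximalIdeal A := by
  haveI : Algebra.IsIntegral (MvPowerSeries (Fin m) k) A := inferInstance
  have h1 : ((maximalIdeal A).comap (algebraMap (MvPowerSeries (Fin m) k) A)).IsMaximal :=
    Ideal.isMaximal_comap_of_isIntegral_of_isMaximal (maximalIdeal A)
  rw [← IsLocalRing.eq_maximalIdeal h1] at hh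
  exact hh

theorem finite_residueField_of_finite {k A : Type u} [Field k] [CommRing A] [IsLocalRing A]
    [Algebra k A] (m : ℕ) [Algebra (MvPowerSeries (Fin m) k) A]
    [IsScalarTower k (MvPowerSeries (Fin m) k) A] [Module.Finite (MvPowerSeries (Fin m) k) A] :
    Module.Finite k (ResidueField A) := by
  obtain ⟨s, b, hb⟩ := Module.Finite.exists_fin (R := MvPowerSeries (Fin m) k) (M := A)
  classical
  refine ⟨⟨Finset.univ.image (fun j => residue A (b j)), ?_⟩⟩
  rw [eq_top_iff]
  rintro x -
  obtain ⟨a, rfl⟩ := residue_surjective x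
  have h1 : a ∈ Submodule.span (MvPowerSeries (Fin m) k) (Set.range b) := by rw [hb]; trivial
  obtain ⟨g, rfl⟩ := (Submodule.mem_span_range_iff_exists_fun _).1 h1
  rw [map_sum]
  refine Submodule.sum_mem _ fun j _ => ?_
  have h2 : residue A (g j • b j) = (constantCoeff (g j)) • residue A (b j) := by
    rw [Algebra.smul_def, map_mul, Algebra.smul_def]
    congr 1
    have h3 : g j = C (constantCoeff (g j)) + (g j - C (constantCoeff (g j))) := by ring
    have h4 : g j - C (constantCoeff (g j)) ∈ maximalIdeal (MvPowerSeries (Fin m) k) := by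
      rw [mem_maximalIdeal, mem_nonunits_iff, MvPowerSeries.isUnit_iff_constantCoeff]
      simp
    have h5 := algebraMap_mem_maximalIdeal_of_finite (A := A) m _ h4
    rw [← residue_eq_zero_iff] at h5
    conv_lhs => rw [h3]
    rw [map_add, map_add, h5, add_zero]
    have h6 : (C (constantCoeff (g j)) : MvPowerSeries (Fin m) k) =
        algebraMap k _ (constantCoeff (g j)) := by
      rw [MvPowerSeries.algebraMap_apply, Algebra.algebraMap_self, RingHom.id_apply]
    rw [h6, ← IsScalarTower.algebraMap_apply]
    rfl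
  rw [h2]
  refine Submodule.smul_mem _ _ (Submodule.subset_span ?_)
  simp

end FiniteOver

section Quot

variable (k : Type u) {A : Type u} [Field k] [CommRing A] [IsLocalRing A] [IsNoetherianRing A]
  [Algebra k A] (m : ℕ)
  [Algebra (MvPowerSeries (Fin m) k) A] [IsScalarTower k (MvPowerSeries (Fin m) k) A]

/-- the submodule of `Ω̂_{A/k}` spanned by the `d̂T_i` -/
noncomputable def dTSpan : Submodule A (AdicCompletion (maximalIdeal A) Ω[A⁄k]) :=
  Submodule.span A (Set.range fun i : Fin m => AdicCompletion.of (maximalIdeal A) Ω[A⁄k]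
    (KaehlerDifferential.D k A (algebraMap (MvPowerSeries (Fin m) k) A (X i))))

/-- `Ω̂_{A/k} / (d̂T_i)` is a quotient of `Ω_{A/k[[T]]}`. -/
theorem exists_surjective_kaehler_quotient
    (hloc : ∀ i, algebraMap (MvPowerSeries (Fin m) k) A (X i) ∈ maximalIdeal A)
    [Module.Finite A (AdicCompletion (maximalIdeal A) Ω[A⁄k])] :
    ∃ L : Ω[A⁄MvPowerSeries (Fin m) k] →ₗ[A]
        (AdicCompletion (maximalIdeal A) Ω[A⁄k] ⧸ dTSpan k m (A := A)),
      Function.Surjective L ∧ ∀ a, L (KaehlerDifferential.D (MvPowerSeries (Fin m) k) A a) =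
        Submodule.Quotient.mk (AdicCompletion.of (maximalIdeal A) Ω[A⁄k]
          (KaehlerDifferential.D k A a)) := by
  let Q := AdicCompletion (maximalIdeal A) Ω[A⁄k] ⧸ dTSpan k m (A := A)
  let Dbar : Derivation k A Q :=
    ((dTSpan k m (A := A)).mkQ ∘ₗ AdicCompletion.of (maximalIdeal A) Ω[A⁄k]).compDer
      (KaehlerDifferential.D k A)
  have hDbar : ∀ a, Dbar a = Submodule.Quotient.mk (AdicCompletion.of (maximalIdeal A) Ω[A⁄k]
      (KaehlerDifferential.D k A a)) := fun a => rfl
  have hT : ∀ i, Dbar (algebraMap (MvPowerSeries (Fin m) k) A (X i)) = 0 := by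
    intro i
    rw [hDbar, Submodule.Quotient.mk_eq_zero]
    exact Submodule.subset_span ⟨i, rfl⟩
  have hzero : ∀ g : MvPowerSeries (Fin m) k, Dbar (algebraMap _ A g) = 0 :=
    derivation_algebraMap_eq_zero m (maximalIdeal A) hloc Dbar hT
  haveI : IsScalarTower (MvPowerSeries (Fin m) k) A Q := inferInstance
  let DP : Derivation (MvPowerSeries (Fin m) k) A Q :=
    { toLinearMap :=
        { toFun := Dbar
          map_add' := map_add Dbar
          map_smul' := fun g a => by
            rw [Algebra.smul_def, Dbar.leibniz, hzero g, smul_zero, add_zero, RingHom.id_apply,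
              algebraMap_smul] }
      map_one_eq_zero' := Dbar.map_one_eq_zero
      leibniz' := Dbar.leibniz }
  refine ⟨DP.liftKaehlerDifferential, ?_, fun a => ?_⟩
  · have hsurj := Groth.Agent.Lib.Helper19.CKSeq.of_surjective_of_finite (maximalIdeal A) Ω[A⁄k]
      ((isNoetherianRing_iff_ideal_fg A).1 inferInstance _) (IsLocalRing.maximalIdeal_le_jacobson _)
    intro y
    obtain ⟨w, rfl⟩ := Submodule.Quotient.mk_surjective _ y
    obtain ⟨ω, rfl⟩ := hsurj w
    have hω : ω ∈ Submodule.span A (Set.range (KaehlerDifferential.D k A)) := by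
      rw [KaehlerDifferential.span_range_derivation]; trivial
    induction hω using Submodule.span_induction with
    | mem x hx =>
      obtain ⟨a, rfl⟩ := hx
      exact ⟨KaehlerDifferential.D _ A a, Derivation.liftKaehlerDifferential_comp_D _ _⟩
    | zero => exact ⟨0, by simp⟩
    | add x y _ _ hx hy =>
      obtain ⟨x', hx'⟩ := hx
      obtain ⟨y', hy'⟩ := hy
      exact ⟨x' + y', by rw [map_add, hx', hy', map_add]; rfl⟩
    | smul c x _ hx =>
      obtain ⟨x', hx'⟩ := hx
      exact ⟨c • x', by rw [map_smul, hx', map_smul]; rfl⟩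
  · exact Derivation.liftKaehlerDifferential_comp_D _ _

end Quot

end Groth.Agent.Lib.Helper19.CKRel
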