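import Mathlib
import Groth.Agent.Lib.Helper19CKRel
import Groth.Agent.Lib.Helper19CKLower
import Groth.Agent.Lib.Helper19CKUniv
import Groth.Agent.Lib.Helper7ComplKaehler

set_option autoImplicit false
set_option linter.style.haveILetI false
universe u

open TensorProduct Module MvPowerSeries IsLocalRing

namespace Groth.Agent.Lib.Helper19.CKGeneric

/-- separable polynomial relation gives nonvanishing derivative -/
theorem aeval_derivative_ne_zero_of_separable {P A : Type u} [CommRing P] [IsDomain P] [CommRing A]
    [IsDomain A] [Algebra P A] (hinj : Function.Injective (algebraMap P A)) (a : A)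
    (p : Polynomial P) (hp : Polynomial.aeval a p = 0)
    (hsep : (p.map (algebraMap P (FractionRing P))).Separable) :
    Polynomial.aeval a (Polynomial.derivative p) ≠ 0 := by
  intro h0
  let E := FractionRing A
  haveI : FaithfulSMul P E := by
    rw [faithfulSMul_iff_algebraMap_injective, IsScalarTower.algebraMap_eq P A E]
    exact (IsFractionRing.injective A E).comp hinj
  letI : Algebra (FractionRing P) E := FractionRing.liftAlgebra P E
  haveI : IsScalarTower P (FractionRing P) E := FractionRing.isScalarTower_liftAlgebra P E
  have h1 : Polynomial.aeval (algebraMap A E a) (p.map (algebraMap P (FractionRing P))) = 0 := by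
    rw [Polynomial.aeval_map_algebraMap, Polynomial.aeval_algebraMap_apply, hp, map_zero]
  have h2 := hsep.aeval_derivative_ne_zero h1
  apply h2
  rw [Polynomial.derivative_map, Polynomial.aeval_map_algebraMap,
    Polynomial.aeval_algebraMap_apply, h0, map_zero]

/-- **EGA 0_IV 21.9.x**: generic rank of `Ω̂` for a complete local domain finite and generically
separable over a power series ring. -/
theorem finrank_fractionRing_tensor_eq (k : Type u) [Field k] (r : ℕ) (A : Type u) [CommRing A]
    [IsDomain A] [IsLocalRing A] [IsNoetherianRing A] [IsAdicComplete (maximalIdeal A) A]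
    [Algebra (MvPowerSeries (Fin r) k) A] [Algebra k A]
    [IsScalarTower k (MvPowerSeries (Fin r) k) A]
    (hinj : Function.Injective (algebraMap (MvPowerSeries (Fin r) k) A))
    [Module.Finite (MvPowerSeries (Fin r) k) A]
    (hsep : ∀ a : A, ∃ P : Polynomial (MvPowerSeries (Fin r) k), Polynomial.aeval a P = 0 ∧
      (P.map (algebraMap (MvPowerSeries (Fin r) k)
        (FractionRing (MvPowerSeries (Fin r) k)))).Separable) :
    Module.finrank (FractionRing A)
      (FractionRing A ⊗[A] AdicCompletion (maximalIdeal A) (Ω[A⁄k])) = r := by
  haveI hfinres : Module.Finite k (ResidueField A) :=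
    Groth.Agent.Lib.Helper19.CKRel.finite_residueField_of_finite r
  haveI : Algebra.EssFiniteType k (ResidueField A) := inferInstance
  haveI hΩfin : Module.Finite A (AdicCompletion (maximalIdeal A) (Ω[A⁄k])) :=
    Groth.Agent.Lib.Helper7.ComplKaehler.finite_adicCompletion_kaehler
  have hloc : ∀ i, algebraMap (MvPowerSeries (Fin r) k) A (X i) ∈ maximalIdeal A := fun i =>
    Groth.Agent.Lib.Helper19.CKRel.algebraMap_mem_maximalIdeal_of_finite r _ (by
      rw [mem_maximalIdeal, mem_nonunits_iff, MvPowerSeries.isUnit_iff_constantCoeff]
      simp)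
  set E := FractionRing A with hE
  haveI : IsDomain (MvPowerSeries (Fin r) k) := NoZeroDivisors.to_isDomain _
  apply le_antisymm
  · -- upper bound
    obtain ⟨L, hLsurj, hL⟩ :=
      Groth.Agent.Lib.Helper19.CKRel.exists_surjective_kaehler_quotient k r (A := A) hloc
    -- every element of the quotient is torsion
    have htors : ∀ y : AdicCompletion (maximalIdeal A) Ω[A⁄k] ⧸
        Groth.Agent.Lib.Helper19.CKRel.dTSpan k r (A := A), ∃ c : A, c ≠ 0 ∧ c • y = 0 := by
      intro y
      obtain ⟨ω, rfl⟩ := hLsurj y
      have hω : ω ∈ Submodule.span A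
          (Set.range (KaehlerDifferential.D (MvPowerSeries (Fin r) k) A)) := by
        rw [KaehlerDifferential.span_range_derivation]; trivial
      induction hω using Submodule.span_induction with
      | mem x hx =>
        obtain ⟨a, rfl⟩ := hx
        obtain ⟨p, hp, hps⟩ := hsep a
        refine ⟨Polynomial.aeval a (Polynomial.derivative p),
          aeval_derivative_ne_zero_of_separable hinj a p hp hps, ?_⟩
        rw [← map_smul, ← Derivation.map_aeval, hp, map_zero, map_zero]
      | zero => exact ⟨1, one_ne_zero, by simp⟩
      | add x y _ _ hx hy =>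
        obtain ⟨c, hc, hcx⟩ := hx
        obtain ⟨d, hd, hdy⟩ := hy
        refine ⟨c * d, mul_ne_zero hc hd, ?_⟩
        have e1 : (c * d) • L x = 0 := by rw [mul_comm, mul_smul, hcx, smul_zero]
        have e2 : (c * d) • L y = 0 := by rw [mul_smul, hdy, smul_zero]
        rw [map_add, smul_add, e1, e2, add_zero]
      | smul t x _ hx =>
        obtain ⟨c, hc, hcx⟩ := hx
        exact ⟨c, hc, by rw [map_smul, smul_comm, hcx, smul_zero]⟩
    have hspan : Submodule.span E (Set.range fun i : Fin r =>
        (1 : E) ⊗ₜ[A] AdicCompletion.of (maximalIdeal A) Ω[A⁄k]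
          (KaehlerDifferential.D k A (algebraMap (MvPowerSeries (Fin r) k) A (X i)))) = ⊤ := by
      rw [eq_top_iff]
      rintro z -
      induction z using TensorProduct.induction_on with
      | zero => exact zero_mem _
      | add x y hx hy => exact add_mem hx hy
      | tmul e y =>
        obtain ⟨c, hc, hcy⟩ := htors (Submodule.Quotient.mk y)
        rw [← Submodule.Quotient.mk_smul, Submodule.Quotient.mk_eq_zero] at hcy
        have hcE : algebraMap A E c ≠ 0 := by
          rwa [Ne, map_eq_zero_iff _ (IsFractionRing.injective A E)]
        have h1 : e ⊗ₜ[A] y = (e / algebraMap A E c) ⊗ₜ[A] (c • y) := by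
          rw [TensorProduct.tmul_smul, TensorProduct.smul_tmul', Algebra.smul_def,
            mul_div_cancel₀ _ hcE]
        rw [h1]
        have h2 : ∀ w ∈ Groth.Agent.Lib.Helper19.CKRel.dTSpan k r (A := A),
            ∀ e' : E, e' ⊗ₜ[A] w ∈ Submodule.span E (Set.range fun i : Fin r =>
              (1 : E) ⊗ₜ[A] AdicCompletion.of (maximalIdeal A) Ω[A⁄k]
                (KaehlerDifferential.D k A (algebraMap (MvPowerSeries (Fin r) k) A (X i)))) := by
          intro w hw
          induction hw using Submodule.span_induction with
          | mem x hx =>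
            obtain ⟨i, rfl⟩ := hx
            intro e'
            have : e' ⊗ₜ[A] AdicCompletion.of (maximalIdeal A) Ω[A⁄k]
                (KaehlerDifferential.D k A (algebraMap (MvPowerSeries (Fin r) k) A (X i))) =
                e' • ((1 : E) ⊗ₜ[A] AdicCompletion.of (maximalIdeal A) Ω[A⁄k]
                (KaehlerDifferential.D k A (algebraMap (MvPowerSeries (Fin r) k) A (X i)))) := by
              rw [TensorProduct.smul_tmul', smul_eq_mul, mul_one]
            rw [this]
            exact Submodule.smul_mem _ _ (Submodule.subset_span ⟨i, rfl⟩)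
          | zero => intro e'; rw [TensorProduct.tmul_zero]; exact zero_mem _
          | add x y _ _ hx hy => intro e'; rw [TensorProduct.tmul_add]; exact add_mem (hx e') (hy e')
          | smul t x _ hx =>
            intro e'
            rw [TensorProduct.tmul_smul, TensorProduct.smul_tmul']
            exact hx _
        exact h2 _ hcy _
    have := finrank_le_of_span_eq_top hspan
    simpa using this
  · -- lower bound
    have hinjE : Function.Injective (algebraMap (MvPowerSeries (Fin r) k) E) := by
      rw [IsScalarTower.algebraMap_eq (MvPowerSeries (Fin r) k) A E]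
      exact (IsFractionRing.injective A E).comp hinj
    haveI : Algebra.EssFiniteType (MvPowerSeries (Fin r) k) E :=
      Algebra.EssFiniteType.comp _ A _
    have hfinE : ∃ (s : ℕ) (b : Fin s → E), ∀ a : A,
        ∃ g : Fin s → MvPowerSeries (Fin r) k, algebraMap A E a = ∑ j, g j • b j := by
      obtain ⟨s, bb, hbb⟩ := Module.Finite.exists_fin (R := MvPowerSeries (Fin r) k) (M := A)
      refine ⟨s, fun j => algebraMap A E (bb j), fun a => ?_⟩
      have h1 : a ∈ Submodule.span (MvPowerSeries (Fin r) k) (Set.range bb) := by
        rw [hbb]; trivial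
      obtain ⟨g, hg⟩ := (Submodule.mem_span_range_iff_exists_fun _).1 h1
      refine ⟨g, ?_⟩
      rw [← hg, map_sum]
      refine Finset.sum_congr rfl fun j _ => ?_
      rw [Algebra.smul_def (g j) (bb j), map_mul, ← IsScalarTower.algebraMap_apply,
        Algebra.smul_def]
    have hunr : Function.Surjective (KaehlerDifferential.mapBaseChange k A E) := by
      intro y
      exact (KaehlerDifferential.exact_mapBaseChange_map k A E y).mp (Subsingleton.elim _ _)
    exact Groth.Agent.Lib.Helper19.CKLower.le_finrank_of_bounded_derivations r hinjE hfinE hunr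
      (LinearMap.baseChange E (AdicCompletion.of (maximalIdeal A) Ω[A⁄k]))
      (fun D hD => Groth.Agent.Lib.Helper19.CKSeq.ker_baseChange_of_le_ker (maximalIdeal A) D hD)

end Groth.Agent.Lib.Helper19.CKGeneric
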