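import Mathlib
import Groth.Agent.Lib.Helper19FSGeomReg
import Groth.Agent.Lib.Helper19PsFormallySmooth
import Groth.Agent.Lib.Helper6SepBC
import Groth.Agent.Lib.Helper6GeomTensor

/-!
# A Noetherian formally étale algebra over `k[[T_1..T_n]]` is geometrically regular over `k`
(helper19)
-/

set_option autoImplicit false
set_option linter.style.haveILetI false
set_option linter.unusedSectionVars false
universe u

open TensorProduct IsLocalRing

namespace Groth.Agent.Lib.Helper19.CKGeomReg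

theorem isGeometricallyRegular_of_formallyEtale (k : Type u) [Field k] (n : ℕ) (S : Type u)
    [CommRing S] [IsNoetherianRing S] [Algebra k S] [Algebra (MvPowerSeries (Fin n) k) S]
    [IsScalarTower k (MvPowerSeries (Fin n) k) S]
    [Algebra.FormallyEtale (MvPowerSeries (Fin n) k) S] : CAlg.IsGeometricallyRegular k S := by
  intro k' _ _ hfin
  haveI := hfin
  have hP : CAlgX.IsAdicFormallySmooth k (MvPowerSeries (Fin n) k)
      (maximalIdeal (MvPowerSeries (Fin n) k)) :=
    Groth.Agent.Lib.Helper19.isAdicFormallySmooth_mvPowerSeries_of_formallySmooth n _ (fun i => by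
      rw [mem_maximalIdeal, mem_nonunits_iff, MvPowerSeries.isUnit_iff_constantCoeff]
      simp)
  haveI h1 : IsRegularRing (k' ⊗[k] MvPowerSeries (Fin n) k) :=
    Groth.Agent.Lib.Helper19.FSGeomReg.isRegularRing_tensor_of_isAdicFormallySmooth hP k'
  haveI h2 : IsRegularRing (MvPowerSeries (Fin n) k ⊗[k] k') :=
    IsRegularRing.of_ringEquiv
      (Algebra.TensorProduct.comm k k' (MvPowerSeries (Fin n) k)).toRingEquiv
  haveI : IsNoetherianRing (k' ⊗[k] S) :=
    Groth.Agent.Lib.Helper6.GeomTensor.isNoetherianRing_tensor_finite k k' S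
  let e1 : (MvPowerSeries (Fin n) k ⊗[k] k') ⊗[MvPowerSeries (Fin n) k] S ≃+*
      S ⊗[MvPowerSeries (Fin n) k] (MvPowerSeries (Fin n) k ⊗[k] k') :=
    (Algebra.TensorProduct.comm (MvPowerSeries (Fin n) k) _ _).toRingEquiv
  let e2 : S ⊗[MvPowerSeries (Fin n) k] (MvPowerSeries (Fin n) k ⊗[k] k') ≃+* S ⊗[k] k' :=
    (Algebra.TensorProduct.cancelBaseChange k (MvPowerSeries (Fin n) k)
      (MvPowerSeries (Fin n) k) S k').toRingEquiv
  let e3 : S ⊗[k] k' ≃+* k' ⊗[k] S := (Algebra.TensorProduct.comm k S k').toRingEquiv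
  let e := (e1.trans e2).trans e3
  haveI : IsNoetherianRing ((MvPowerSeries (Fin n) k ⊗[k] k') ⊗[MvPowerSeries (Fin n) k] S) :=
    isNoetherianRing_of_ringEquiv _ e.symm
  haveI : Algebra.FormallySmooth (MvPowerSeries (Fin n) k ⊗[k] k')
      ((MvPowerSeries (Fin n) k ⊗[k] k') ⊗[MvPowerSeries (Fin n) k] S) := inferInstance
  haveI := Groth.Agent.Lib.Helper6.SepBC.isRegularRing_of_formallySmooth
    (MvPowerSeries (Fin n) k ⊗[k] k')
    ((MvPowerSeries (Fin n) k ⊗[k] k') ⊗[MvPowerSeries (Fin n) k] S)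
  exact IsRegularRing.of_ringEquiv
    (R := (MvPowerSeries (Fin n) k ⊗[k] k') ⊗[MvPowerSeries (Fin n) k] S) e

end Groth.Agent.Lib.Helper19.CKGeomReg
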