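import Mathlib
import Groth.Agent.Lib.Helper19CKRel
import Groth.Agent.Lib.Helper19CKUniv
import Groth.Agent.Lib.Helper19Normalization
import Groth.Agent.Lib.Helper19PowerSeries
import Groth.Agent.Lib.Helper7ComplKaehlerPS

/-!
# Completed differentials relative to a power series ring, II (helper19)

* `exists_bijective_kaehler_quotient`: `Ω̂_{A/k}/(d̂T_i) ≅ Ω_{A/k[[T]]}`.
* `finite_of_isArtinianRing_quotient`, `isLocalHom_algebraMap`: finiteness/locality of `k[[T]] → A`.
* `exists_sop_notMem`: systems of parameters avoiding a non-maximal prime.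
-/

set_option autoImplicit false
set_option linter.style.haveILetI false
set_option linter.unusedSectionVars false
universe u

open TensorProduct Module MvPowerSeries IsLocalRing

namespace Groth.Agent.Lib.Helper19.CKRel

section Iso

variable (k : Type u) {A : Type u} [Field k] [CommRing A] [IsLocalRing A] [IsNoetherianRing A]
  [Algebra k A] [IsAdicComplete (maximalIdeal A) A] (m : ℕ)
  [Algebra (MvPowerSeries (Fin m) k) A] [IsScalarTower k (MvPowerSeries (Fin m) k) A]

/-- `Ω̂_{A/k} / (d̂T_i) ≅ Ω_{A/k[[T]]}` when the latter is a finite module. -/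
theorem exists_bijective_kaehler_quotient
    (hloc : ∀ i, algebraMap (MvPowerSeries (Fin m) k) A (X i) ∈ maximalIdeal A)
    [Module.Finite A (AdicCompletion (maximalIdeal A) Ω[A⁄k])]
    [Module.Finite A Ω[A⁄MvPowerSeries (Fin m) k]] :
    ∃ L : Ω[A⁄MvPowerSeries (Fin m) k] →ₗ[A]
        (AdicCompletion (maximalIdeal A) Ω[A⁄k] ⧸ dTSpan k m (A := A)),
      Function.Bijective L ∧ ∀ a, L (KaehlerDifferential.D (MvPowerSeries (Fin m) k) A a) =
        Submodule.Quotient.mk (AdicCompletion.of (maximalIdeal A) Ω[A⁄k]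
          (KaehlerDifferential.D k A a)) := by
  obtain ⟨L, hLsurj, hL⟩ := exists_surjective_kaehler_quotient k m (A := A) hloc
  refine ⟨L, ⟨?_, hLsurj⟩, hL⟩
  let D' : Derivation k A Ω[A⁄MvPowerSeries (Fin m) k] :=
    (KaehlerDifferential.D (MvPowerSeries (Fin m) k) A).restrictScalars k
  obtain ⟨L', hL'⟩ := Groth.Agent.Lib.Helper19.CKSeq.exists_lift_of_finite (maximalIdeal A) D'
  have hker : dTSpan k m (A := A) ≤ LinearMap.ker L' := by
    rw [dTSpan, Submodule.span_le]
    rintro _ ⟨i, rfl⟩
    rw [SetLike.mem_coe, LinearMap.mem_ker, hL']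
    exact Derivation.map_algebraMap (KaehlerDifferential.D (MvPowerSeries (Fin m) k) A) _
  let L'' := (dTSpan k m (A := A)).liftQ L' hker
  have hcomp : L'' ∘ₗ L = LinearMap.id := by
    apply Derivation.liftKaehlerDifferential_unique
    ext a
    change L'' (L (KaehlerDifferential.D (MvPowerSeries (Fin m) k) A a)) =
      KaehlerDifferential.D (MvPowerSeries (Fin m) k) A a
    rw [hL]
    change L' _ = _
    rw [hL']
    rfl
  intro x y hxy
  have := congrArg L'' hxy
  rwa [← LinearMap.comp_apply, ← LinearMap.comp_apply, hcomp] at this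

end Iso

section FiniteCrit

variable {k A : Type u} [Field k] [CommRing A] [IsLocalRing A] [Algebra k A] (m : ℕ)
  [Algebra (MvPowerSeries (Fin m) k) A] [IsScalarTower k (MvPowerSeries (Fin m) k) A]

theorem mem_varsIdeal_of_mem_maximalIdeal {g : MvPowerSeries (Fin m) k}
    (hg : g ∈ maximalIdeal (MvPowerSeries (Fin m) k)) :
    g ∈ Groth.Agent.Lib.Helper19.varsIdeal (Fin m) k := by
  have h0 : constantCoeff g = 0 := by
    by_contra h
    rw [mem_maximalIdeal, mem_nonunits_iff, MvPowerSeries.isUnit_iff_constantCoeff] at hg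
    exact hg (isUnit_iff_ne_zero.2 h)
  have h1 : g ∈ Groth.Agent.Lib.Helper19.varsIdeal (Fin m) k ^ 1 := by
    apply Groth.Agent.Lib.Helper19.mem_varsIdeal_pow_of_coeff_eq_zero
    intro α hα
    have hα0 : α = 0 := by
      rw [Nat.lt_one_iff] at hα
      exact (Finsupp.degree_eq_zero_iff α).1 hα
    rw [hα0, coeff_zero_eq_constantCoeff_apply, h0]
  rwa [pow_one] at h1

theorem map_maximalIdeal_le
    (hloc : ∀ i, algebraMap (MvPowerSeries (Fin m) k) A (X i) ∈ maximalIdeal A) :
    (maximalIdeal (MvPowerSeries (Fin m) k)).map (algebraMap (MvPowerSeries (Fin m) k) A) ≤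
      maximalIdeal A := by
  rw [Ideal.map_le_iff_le_comap]
  intro g hg
  have h1 := mem_varsIdeal_of_mem_maximalIdeal m hg
  have h2 : (Groth.Agent.Lib.Helper19.varsIdeal (Fin m) k).map
      (algebraMap (MvPowerSeries (Fin m) k) A) ≤ maximalIdeal A := by
    rw [Ideal.map_span, Ideal.span_le]
    rintro _ ⟨_, ⟨i, rfl⟩, rfl⟩
    exact hloc i
  exact h2 (Ideal.mem_map_of_mem _ h1)

theorem isLocalHom_algebraMap
    (hloc : ∀ i, algebraMap (MvPowerSeries (Fin m) k) A (X i) ∈ maximalIdeal A) :
    IsLocalHom (algebraMap (MvPowerSeries (Fin m) k) A) := by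
  refine ⟨fun g hg => ?_⟩
  by_contra hgu
  have h1 : g ∈ maximalIdeal (MvPowerSeries (Fin m) k) := (mem_maximalIdeal g).2 hgu
  have h2 := map_maximalIdeal_le m hloc (Ideal.mem_map_of_mem _ h1)
  exact (mem_maximalIdeal _).1 h2 hg

/-- finiteness criterion: `A/𝔪_P A` Artinian, residue field finite over `k`. -/
theorem finite_of_isArtinianRing_quotient [IsNoetherianRing A] [Module.Finite k (ResidueField A)]
    (hloc : ∀ i, algebraMap (MvPowerSeries (Fin m) k) A (X i) ∈ maximalIdeal A)
    (hart : IsArtinianRing (A ⧸ (maximalIdeal (MvPowerSeries (Fin m) k)).map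
      (algebraMap (MvPowerSeries (Fin m) k) A))) :
    Module.Finite (MvPowerSeries (Fin m) k) A := by
  set Q := (maximalIdeal (MvPowerSeries (Fin m) k)).map
    (algebraMap (MvPowerSeries (Fin m) k) A) with hQ
  have hQm : Q ≤ maximalIdeal A := map_maximalIdeal_le m hloc
  haveI : IsLocalRing (A ⧸ Q) :=
    Groth.Agent.Lib.Helper19.Normalization.isLocalRing_quotient_of_le Q hQm
  obtain ⟨s, bb, hbb⟩ := Module.Finite.exists_fin (R := k) (M := ResidueField A)
  choose b hb using fun l => residue_surjective (bb l)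
  have hbres : ∀ r : A, ∃ c : Fin s → k, r - ∑ l, c l • b l ∈ maximalIdeal A := by
    intro r
    have h1 : residue A r ∈ Submodule.span k (Set.range bb) := by
      rw [hbb]; exact Submodule.mem_top
    obtain ⟨c, hc⟩ := (Submodule.mem_span_range_iff_exists_fun k).1 h1
    refine ⟨c, ?_⟩
    rw [← residue_eq_zero_iff, map_sub, sub_eq_zero, ← hc, map_sum]
    apply Finset.sum_congr rfl
    intro l _
    rw [Algebra.smul_def, Algebra.smul_def (c l) (b l), map_mul, hb]
    rfl
  have hfinQ : Module.Finite (MvPowerSeries (Fin m) k) (A ⧸ Q) := by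
    apply Groth.Agent.Lib.Helper19.Normalization.finite_of_isArtinianRing_of_residue
      (fun l => Ideal.Quotient.mk Q (b l))
    intro rb
    obtain ⟨r, rfl⟩ := Ideal.Quotient.mk_surjective rb
    obtain ⟨c, hc⟩ := hbres r
    refine ⟨fun l => algebraMap k _ (c l), ?_⟩
    have h1 : ∑ l, (algebraMap k (MvPowerSeries (Fin m) k) (c l)) • Ideal.Quotient.mk Q (b l) =
        Ideal.Quotient.mk Q (∑ l, c l • b l) := by
      rw [map_sum]
      apply Finset.sum_congr rfl
      intro l _
      rw [algebraMap_smul, ← Ideal.Quotient.mkₐ_eq_mk k, map_smul]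
    rw [h1, ← map_sub]
    exact Groth.Agent.Lib.Helper19.Normalization.mk_mem_maximalIdeal_of_mem Q hQm hc
  haveI : IsHausdorff Q A := IsHausdorff.of_le_jacobson Q A (by
    rw [IsLocalRing.jacobson_eq_maximalIdeal ⊥ bot_ne_top]; exact hQm)
  haveI : IsHausdorff (maximalIdeal (MvPowerSeries (Fin m) k)) A :=
    IsHausdorff.map_algebraMap_iff.1 ‹IsHausdorff Q A›
  haveI : IsAdicComplete (maximalIdeal (MvPowerSeries (Fin m) k)) (MvPowerSeries (Fin m) k) :=
    Groth.Agent.Lib.Helper7.ComplKaehler.isAdicComplete_ps k m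
  apply Groth.Agent.Lib.Helper19.Normalization.finite_of_finite_quotient_of_isAdicComplete
    (maximalIdeal (MvPowerSeries (Fin m) k))
  rw [Ideal.smul_top_eq_map]
  exact Module.Finite.equiv (Submodule.Quotient.restrictScalarsEquiv (MvPowerSeries (Fin m) k) Q).symm

end FiniteCrit

/-- a system of parameters avoiding a non-maximal prime -/
theorem exists_sop_notMem {A : Type*} [CommRing A] [IsLocalRing A] [IsNoetherianRing A] (n : ℕ)
    (hn : ringKrullDim A = n) (p : Ideal A) [p.IsPrime] (hp : p ≠ maximalIdeal A) :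
    ∃ x : Fin n → A, (∀ i, x i ∈ maximalIdeal A ∧ x i ∉ p) ∧
      IsArtinianRing (A ⧸ Ideal.span (Set.range x)) := by
  classical
  obtain ⟨S, hSmin, hScard⟩ :=
    Ideal.exists_finset_card_eq_height_of_isNoetherianRing (maximalIdeal A)
  have hcard : S.card = n := by
    have h1 : ((S.card : ℕ∞) : WithBot ℕ∞) = (n : WithBot ℕ∞) := by
      rw [hScard, IsLocalRing.maximalIdeal_height_eq_ringKrullDim, hn]
    exact_mod_cast h1
  set J := Ideal.span (S : Set A) with hJ
  have hJm : J ≤ maximalIdeal A := hSmin.1.2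
  have hJp : ¬ J ≤ p := by
    intro h
    have h1 := hSmin.2 ⟨inferInstance, h⟩ (le_maximalIdeal (Ideal.IsPrime.ne_top inferInstance))
    exact hp (le_antisymm (le_maximalIdeal (Ideal.IsPrime.ne_top inferInstance)) h1)
  obtain ⟨j, hjJ, hjp⟩ := SetLike.not_le_iff_exists.1 hJp
  have hmp : ¬ maximalIdeal A ≤ p := fun h =>
    hp (le_antisymm (le_maximalIdeal (Ideal.IsPrime.ne_top inferInstance)) h)
  obtain ⟨a, ham, hap⟩ := SetLike.not_le_iff_exists.1 hmp
  set z := a * j with hz
  have hzp : z ∉ p := fun h => (Ideal.IsPrime.mem_or_mem inferInstance h).elim hap hjp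
  have hzJ : z ∈ maximalIdeal A • J := Submodule.smul_mem_smul ham hjJ
  let e : Fin n ≃ S := (Finset.equivFinOfCardEq hcard).symm
  let y : Fin n → A := fun i => (e i : A)
  have hyJ : ∀ i, y i ∈ J := fun i => Ideal.subset_span (e i).2
  let x : Fin n → A := fun i => if y i ∈ p then y i + z else y i
  have hzJ' : z ∈ J := Ideal.mul_mem_left _ _ hjJ
  have hxJ : ∀ i, x i ∈ J := by
    intro i
    simp only [x]
    split_ifs
    · exact J.add_mem (hyJ i) hzJ'
    · exact hyJ i
  have hspan : Ideal.span (Set.range x) = J := by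
    apply le_antisymm
    · rw [Ideal.span_le]
      rintro _ ⟨i, rfl⟩
      exact hxJ i
    · have hle : J ≤ Ideal.span (Set.range x) ⊔ maximalIdeal A • J := by
        rw [hJ, Ideal.span_le]
        intro s hs
        have hs' : s = y (e.symm ⟨s, hs⟩) := by simp [y]
        rw [hs', SetLike.mem_coe]
        set i := e.symm ⟨s, hs⟩
        by_cases hi : y i ∈ p
        · have : y i = x i - z := by simp [x, hi]
          rw [this]
          exact Submodule.sub_mem _ (Submodule.mem_sup_left (Ideal.subset_span ⟨i, rfl⟩))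
            (Submodule.mem_sup_right hzJ)
        · have : y i = x i := by simp [x, hi]
          rw [this]
          exact Submodule.mem_sup_left (Ideal.subset_span ⟨i, rfl⟩)
      exact Submodule.le_of_le_smul_of_le_jacobson_bot (IsNoetherian.noetherian J)
        (IsLocalRing.maximalIdeal_le_jacobson _) hle
  refine ⟨x, fun i => ⟨hJm (hxJ i), ?_⟩, ?_⟩
  · simp only [x]
    split_ifs with h
    · intro h'
      exact hzp (by simpa using p.sub_mem h' h)
    · exact h
  · rw [hspan]
    exact IsLocalRing.quotient_artinian_of_mem_minimalPrimes_of_isLocalRing _ hSmin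


end Groth.Agent.Lib.Helper19.CKRel
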