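import Mathlib

set_option autoImplicit false
set_option linter.style.haveILetI false
set_option linter.unusedSectionVars false
universe u

open TensorProduct Module IsLocalRing

namespace Groth.Agent.Lib.Helper19.CKUnits

section Units

variable {k A : Type*} [CommRing k] [CommRing A] [Algebra k A] [IsLocalRing A]
  (p : Ideal A) [p.IsPrime] {W : Type*} [AddCommGroup W] [Module A W] [Module k W]
  [IsScalarTower k A W] (d : Derivation k A W)

/-- the fibre map `a ↦ 1 ⊗ d a` -/
noncomputable def delta (a : A) :
    p.ResidueField ⊗[Localization.AtPrime p] (LocalizedModule p.primeCompl W) :=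
  (1 : p.ResidueField) ⊗ₜ[Localization.AtPrime p] LocalizedModule.mkLinearMap p.primeCompl W (d a)

theorem one_tmul_smul (a : A) (n : LocalizedModule p.primeCompl W) :
    (1 : p.ResidueField) ⊗ₜ[Localization.AtPrime p] (a • n) =
      algebraMap A p.ResidueField a • ((1 : p.ResidueField) ⊗ₜ[Localization.AtPrime p] n) := by
  rw [← algebraMap_smul (Localization.AtPrime p) a n, TensorProduct.tmul_smul,
    TensorProduct.smul_tmul', TensorProduct.smul_tmul', Algebra.smul_def, mul_one, smul_eq_mul,
    mul_one, ← IsScalarTower.algebraMap_apply]

theorem delta_add (a b : A) : delta p d (a + b) = delta p d a + delta p d b := by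
  simp only [delta, map_add, TensorProduct.tmul_add]

theorem delta_mul (a b : A) : delta p d (a * b) =
    algebraMap A p.ResidueField a • delta p d b + algebraMap A p.ResidueField b • delta p d a := by
  simp only [delta, Derivation.leibniz, map_add, map_smul, TensorProduct.tmul_add, one_tmul_smul]

theorem delta_sub (a b : A) : delta p d (a - b) = delta p d a - delta p d b := by
  simp only [delta, map_sub, TensorProduct.tmul_sub]

/-- the `δ(a)` span the fibre -/
theorem span_delta_eq_top (hd : Submodule.span A (Set.range d) = ⊤) :
    Submodule.span p.ResidueField (Set.range (delta p d)) = ⊤ := by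
  have h1 : ∀ w : W, (1 : p.ResidueField) ⊗ₜ[Localization.AtPrime p]
      LocalizedModule.mkLinearMap p.primeCompl W w ∈
        Submodule.span p.ResidueField (Set.range (delta p d)) := by
    intro w
    have hw : w ∈ Submodule.span A (Set.range d) := by rw [hd]; trivial
    induction hw using Submodule.span_induction with
    | mem x hx =>
      obtain ⟨a, rfl⟩ := hx
      exact Submodule.subset_span ⟨a, rfl⟩
    | zero => rw [map_zero, TensorProduct.tmul_zero]; exact zero_mem _
    | add x y _ _ hx hy => rw [map_add, TensorProduct.tmul_add]; exact add_mem hx hy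
    | smul a x _ hx => rw [map_smul, one_tmul_smul]; exact Submodule.smul_mem _ _ hx
  have h2 : ∀ n : LocalizedModule p.primeCompl W, (1 : p.ResidueField) ⊗ₜ[Localization.AtPrime p] n ∈
      Submodule.span p.ResidueField (Set.range (delta p d)) := by
    intro n
    obtain ⟨⟨w, s⟩, rfl⟩ := IsLocalizedModule.mk'_surjective p.primeCompl
      (LocalizedModule.mkLinearMap p.primeCompl W) n
    simp only [Function.uncurry_apply_pair]
    have h3 : algebraMap A p.ResidueField s ≠ 0 := by
      rw [Ne, Ideal.algebraMap_residueField_eq_zero]
      exact s.2
    have h4 := h1 w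
    rw [← IsLocalizedModule.mk'_cancel' (LocalizedModule.mkLinearMap p.primeCompl W) w s,
      Submonoid.smul_def, one_tmul_smul] at h4
    have h5 := Submodule.smul_mem _ (algebraMap A p.ResidueField s)⁻¹ h4
    rwa [smul_smul, inv_mul_cancel₀ h3, one_smul] at h5
  rw [eq_top_iff]
  rintro v -
  induction v using TensorProduct.induction_on with
  | zero => exact zero_mem _
  | add x y hx hy => exact add_mem hx hy
  | tmul c n =>
    have : c ⊗ₜ[Localization.AtPrime p] n = c • ((1 : p.ResidueField) ⊗ₜ[Localization.AtPrime p] n) := by
      rw [TensorProduct.smul_tmul', smul_eq_mul, mul_one]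
    rw [this]
    exact Submodule.smul_mem _ _ (h2 n)

/-- **key claim**: a proper subspace of the fibre misses some `δ(u x)` with `u` a unit. -/
theorem exists_unit_delta_notMem (hd : Submodule.span A (Set.range d) = ⊤)
    (V' : Submodule p.ResidueField
      (p.ResidueField ⊗[Localization.AtPrime p] (LocalizedModule p.primeCompl W)))
    (hV' : V' ≠ ⊤) (x : A) (hx : x ∉ p) : ∃ u : Aˣ, delta p d (u * x) ∉ V' := by
  by_contra hcon
  push Not at hcon
  have hx0 : algebraMap A p.ResidueField x ≠ 0 := by
    rwa [Ne, Ideal.algebraMap_residueField_eq_zero]
  -- all `δ(a x)` lie in `V'`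
  have h1 : ∀ a : A, delta p d (a * x) ∈ V' := by
    intro a
    by_cases ha : IsUnit a
    · exact hcon ha.unit
    · have ha' : IsUnit (1 + a) := by
        have := IsLocalRing.isUnit_or_isUnit_of_isUnit_add (a := 1 + a) (b := -a)
          (by simp)
        rcases this with h | h
        · exact h
        · exact absurd (by simpa using h) ha
      have e : a * x = (1 + a) * x - 1 * x := by ring
      rw [e, delta_sub]
      exact sub_mem (hcon ha'.unit) (by simpa using hcon 1)
  have h2 : ∀ a : A, delta p d a ∈ V' := by
    intro a
    have h3 := h1 a
    rw [delta_mul] at h3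
    have h4 : algebraMap A p.ResidueField a • delta p d x ∈ V' := by
      refine Submodule.smul_mem _ _ ?_
      simpa using h1 1
    have h5 : algebraMap A p.ResidueField x • delta p d a ∈ V' := by
      have := sub_mem h3 h4
      rwa [add_sub_cancel_left] at this
    have h6 := Submodule.smul_mem _ (algebraMap A p.ResidueField x)⁻¹ h5
    rwa [smul_smul, inv_mul_cancel₀ hx0, one_smul] at h6
  apply hV'
  rw [eq_top_iff, ← span_delta_eq_top p d hd, Submodule.span_le]
  rintro _ ⟨a, rfl⟩
  exact h2 a

/-- **EGA 0_IV 22.x (units)**: if the fibre of `W` at `p` has dimension `M`, then for any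
`x_1..x_M ∉ p` there are units `u_i` such that the `d(u_i x_i)` generate `W_p`. -/
theorem exists_units_span_eq_top [Module.Finite A W] (hd : Submodule.span A (Set.range d) = ⊤)
    (M : ℕ) (hM : Module.finrank p.ResidueField
      (p.ResidueField ⊗[Localization.AtPrime p] (LocalizedModule p.primeCompl W)) = M)
    (x : Fin M → A) (hx : ∀ i, x i ∉ p) :
    ∃ u : Fin M → Aˣ, Submodule.span (Localization.AtPrime p) (Set.range fun i =>
      LocalizedModule.mkLinearMap p.primeCompl W (d ((u i : A) * x i))) = ⊤ := by
  classical
  -- induction
  have key : ∀ i : ℕ, i ≤ M → ∃ u : Fin M → Aˣ, i ≤ Module.finrank p.ResidueField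
      (Submodule.span p.ResidueField
        ((fun j : Fin M => delta p d ((u j : A) * x j)) '' {j | j.val < i})) := by
    intro i
    induction i with
    | zero => intro _; exact ⟨fun _ => 1, Nat.zero_le _⟩
    | succ i ih =>
      intro hi
      obtain ⟨u, hu⟩ := ih (by omega)
      set V' := Submodule.span p.ResidueField
        ((fun j : Fin M => delta p d ((u j : A) * x j)) '' {j | j.val < i}) with hV'
      by_cases htop : V' = ⊤
      · refine ⟨u, ?_⟩
        have hle : V' ≤ Submodule.span p.ResidueField
            ((fun j : Fin M => delta p d ((u j : A) * x j)) '' {j | j.val < i + 1}) :=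
          Submodule.span_mono (Set.image_mono (fun j (hj : j.val < i) => Nat.lt_succ_of_lt hj))
        rw [htop, top_le_iff] at hle
        rw [hle, finrank_top, hM]
        exact hi
      · obtain ⟨u', hu'⟩ := exists_unit_delta_notMem p d hd V' htop (x ⟨i, by omega⟩)
          (hx _)
        refine ⟨Function.update u ⟨i, by omega⟩ u', ?_⟩
        have hsub : V' ⊔ Submodule.span p.ResidueField {delta p d ((u' : A) * x ⟨i, by omega⟩)} ≤
            Submodule.span p.ResidueField
              ((fun j : Fin M => delta p d ((Function.update u ⟨i, by omega⟩ u' j : A) * x j)) ''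
                {j | j.val < i + 1}) := by
          apply sup_le
          · rw [hV', Submodule.span_le]
            rintro _ ⟨j, hj, rfl⟩
            have hne : j ≠ ⟨i, by omega⟩ := by
              intro h
              rw [h] at hj
              exact lt_irrefl i hj
            refine Submodule.subset_span ⟨j, Nat.lt_succ_of_lt hj, ?_⟩
            simp only [Function.update_of_ne hne]
          · rw [Submodule.span_le, Set.singleton_subset_iff]
            refine Submodule.subset_span ⟨⟨i, by omega⟩, Nat.lt_succ_self i, ?_⟩
            simp only [Function.update_self]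
        have hlt : V' < V' ⊔ Submodule.span p.ResidueField
            {delta p d ((u' : A) * x ⟨i, by omega⟩)} := by
          refine lt_of_le_of_ne le_sup_left fun h => hu' ?_
          rw [h]
          exact Submodule.mem_sup_right (Submodule.mem_span_singleton_self _)
        have h1 := Submodule.finrank_lt_finrank_of_lt hlt
        have h2 := Submodule.finrank_mono hsub
        omega
  obtain ⟨u, hu⟩ := key M le_rfl
  refine ⟨u, ?_⟩
  have hall : {j : Fin M | j.val < M} = Set.univ := by
    ext j; simp
  rw [hall, Set.image_univ] at hu
  have htop : Submodule.span p.ResidueField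
      (Set.range fun j : Fin M => delta p d ((u j : A) * x j)) = ⊤ := by
    apply Submodule.eq_top_of_finrank_eq
    have := Submodule.finrank_le (Submodule.span p.ResidueField
      (Set.range fun j : Fin M => delta p d ((u j : A) * x j)))
    omega
  rw [← IsLocalRing.map_tensorProduct_mk_eq_top, Submodule.map_span,
    ← Submodule.restrictScalars_span (Localization.AtPrime p) p.ResidueField
      IsLocalRing.residue_surjective, Submodule.restrictScalars_eq_top_iff, ← Set.range_comp]
  exact htop

end Units

section MinGen

variable {R N : Type*} [CommRing R] [IsLocalRing R] [AddCommGroup N] [Module R N]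

theorem finrank_fibre_le_of_span {M : ℕ} (s : Fin M → N)
    (hs : Submodule.span R (Set.range s) = ⊤) :
    Module.finrank (ResidueField R) (ResidueField R ⊗[R] N) ≤ M := by
  have hspan : Submodule.span (ResidueField R)
      (Set.range fun i => (1 : ResidueField R) ⊗ₜ[R] s i) = ⊤ := by
    rw [eq_top_iff]
    rintro v -
    induction v using TensorProduct.induction_on with
    | zero => exact zero_mem _
    | add x y hx hy => exact add_mem hx hy
    | tmul c n =>
      have hn : n ∈ Submodule.span R (Set.range s) := by rw [hs]; trivial
      induction hn using Submodule.span_induction with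
      | mem x hx =>
        obtain ⟨i, rfl⟩ := hx
        have : c ⊗ₜ[R] s i = c • ((1 : ResidueField R) ⊗ₜ[R] s i) := by
          rw [TensorProduct.smul_tmul', smul_eq_mul, mul_one]
        rw [this]
        exact Submodule.smul_mem _ _ (Submodule.subset_span ⟨i, rfl⟩)
      | zero => rw [TensorProduct.tmul_zero]; exact zero_mem _
      | add x y _ _ hx hy => rw [TensorProduct.tmul_add]; exact add_mem hx hy
      | smul r x _ hx =>
        have : c ⊗ₜ[R] (r • x) = (residue R r) • (c ⊗ₜ[R] x) := by
          rw [TensorProduct.tmul_smul, TensorProduct.smul_tmul', TensorProduct.smul_tmul',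
            Algebra.smul_def, smul_eq_mul]
          rfl
        rw [this]
        exact Submodule.smul_mem _ _ hx
  have := finrank_le_of_span_eq_top hspan
  simpa using this

theorem finrank_fibre_eq_of_min [Module.Finite R N] (M : ℕ)
    (hgen : ∃ s : Fin M → N, Submodule.span R (Set.range s) = ⊤)
    (hmin : ∀ s : Finset N, Submodule.span R (s : Set N) = ⊤ → M ≤ s.card) :
    Module.finrank (ResidueField R) (ResidueField R ⊗[R] N) = M := by
  classical
  obtain ⟨s, hs⟩ := hgen
  apply le_antisymm (finrank_fibre_le_of_span s hs)
  let b := Module.finBasis (ResidueField R) (ResidueField R ⊗[R] N)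
  choose n hn using fun i => TensorProduct.mk_surjective R N (ResidueField R)
    residue_surjective (b i)
  have h1 := IsLocalRing.span_eq_top_of_tmul_eq_basis n b hn
  have h2 := hmin (Finset.univ.image n) (by rw [Finset.coe_image, Finset.coe_univ, Set.image_univ]; exact h1)
  calc M ≤ (Finset.univ.image n).card := h2
    _ ≤ Finset.univ.card := Finset.card_image_le
    _ = _ := by simp

end MinGen

end Groth.Agent.Lib.Helper19.CKUnits
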