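import Mathlib
import Groth.Agent.Lib.Helper19CKRel2
import Groth.Agent.Lib.Helper19CKLoc
import Groth.Agent.Lib.Helper19CKUnits
import Groth.Agent.Lib.Helper19CKFibre
import Groth.Agent.Lib.Helper19PsLiftComplete

set_option autoImplicit false
set_option linter.style.haveILetI false
set_option linter.unusedSectionVars false
universe u

open TensorProduct Module MvPowerSeries IsLocalRing

namespace Groth.Agent.Lib.Helper19.CKUnram

variable (k : Type u) {A : Type u} [Field k] [CommRing A] [IsLocalRing A] [IsNoetherianRing A]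
  [Algebra k A] [IsAdicComplete (maximalIdeal A) A] [Module.Finite k (ResidueField A)]

section

variable (m : ℕ) [Algebra (MvPowerSeries (Fin m) k) A] [IsScalarTower k (MvPowerSeries (Fin m) k) A]

/-- unramified at `p` iff the `d̂T_i` generate `Ω̂_p`. -/
theorem isUnramifiedAt_iff_span_eq_top [Module.Finite (MvPowerSeries (Fin m) k) A]
    (hloc : ∀ i, algebraMap (MvPowerSeries (Fin m) k) A (X i) ∈ maximalIdeal A)
    (p : Ideal A) [p.IsPrime] :
    Algebra.IsUnramifiedAt (MvPowerSeries (Fin m) k) p ↔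
      Submodule.span (Localization.AtPrime p) (Set.range fun i : Fin m =>
        LocalizedModule.mkLinearMap p.primeCompl (AdicCompletion (maximalIdeal A) Ω[A⁄k])
          (AdicCompletion.of (maximalIdeal A) Ω[A⁄k]
            (KaehlerDifferential.D k A (algebraMap (MvPowerSeries (Fin m) k) A (X i))))) = ⊤ := by
  haveI : Algebra.EssFiniteType k (ResidueField A) := inferInstance
  haveI : Module.Finite A (AdicCompletion (maximalIdeal A) (Ω[A⁄k])) :=
    Groth.Agent.Lib.Helper7.ComplKaehler.finite_adicCompletion_kaehler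
  haveI : Algebra.FiniteType (MvPowerSeries (Fin m) k) A := inferInstance
  haveI : Module.Finite A Ω[A⁄MvPowerSeries (Fin m) k] := inferInstance
  obtain ⟨L, hLbij, hL⟩ :=
    Groth.Agent.Lib.Helper19.CKRel.exists_bijective_kaehler_quotient k m (A := A) hloc
  rw [Groth.Agent.Lib.Helper19.CKLoc.span_range_eq_top_iff p.primeCompl (Localization.AtPrime p)
    (LocalizedModule.mkLinearMap p.primeCompl (AdicCompletion (maximalIdeal A) Ω[A⁄k]))
    (fun i : Fin m => AdicCompletion.of (maximalIdeal A) Ω[A⁄k]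
      (KaehlerDifferential.D k A (algebraMap (MvPowerSeries (Fin m) k) A (X i))))]
  have hsub : Subsingleton Ω[Localization.AtPrime p⁄MvPowerSeries (Fin m) k] ↔
      ∀ ω : Ω[A⁄MvPowerSeries (Fin m) k], ∃ r ∈ p.primeCompl, r • ω = 0 :=
    IsLocalizedModule.subsingleton_iff p.primeCompl
      (KaehlerDifferential.map (MvPowerSeries (Fin m) k) (MvPowerSeries (Fin m) k) A
        (Localization.AtPrime p))
  constructor
  · intro h w
    obtain ⟨ω, hω⟩ := hLbij.2 (Submodule.Quotient.mk w)
    obtain ⟨r, hr, hrω⟩ := hsub.1 h.subsingleton_kaehlerDifferential ω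
    refine ⟨r, hr, ?_⟩
    have h1 : Submodule.Quotient.mk (p := Groth.Agent.Lib.Helper19.CKRel.dTSpan k m (A := A))
        (r • w) = 0 := by
      rw [Submodule.Quotient.mk_smul, ← hω, ← map_smul, hrω, map_zero]
    exact (Submodule.Quotient.mk_eq_zero _).1 h1
  · intro h
    refine ⟨hsub.2 fun ω => ?_⟩
    obtain ⟨w, hw⟩ := Submodule.Quotient.mk_surjective _ (L ω)
    obtain ⟨r, hr, hrw⟩ := h w
    refine ⟨r, hr, hLbij.1 ?_⟩
    rw [map_smul, map_zero, ← hw, ← Submodule.Quotient.mk_smul, Submodule.Quotient.mk_eq_zero]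
    exact hrw

end

/-- the universal derivation into `Ω̂` -/
noncomputable def dHat : Derivation k A (AdicCompletion (maximalIdeal A) Ω[A⁄k]) :=
  (AdicCompletion.of (maximalIdeal A) (Ω[A⁄k])).compDer (KaehlerDifferential.D k A)

theorem span_range_dHat : Submodule.span A (Set.range (dHat k (A := A))) = ⊤ := by
  haveI : Algebra.EssFiniteType k (ResidueField A) := inferInstance
  haveI : Module.Finite A (AdicCompletion (maximalIdeal A) (Ω[A⁄k])) :=
    Groth.Agent.Lib.Helper7.ComplKaehler.finite_adicCompletion_kaehler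
  have hsurj := Groth.Agent.Lib.Helper19.CKSeq.of_surjective_of_finite
    (maximalIdeal A) (Ω[A⁄k])
    ((isNoetherianRing_iff_ideal_fg A).1 inferInstance _)
    (IsLocalRing.maximalIdeal_le_jacobson _)
  rw [eq_top_iff]
  rintro w -
  obtain ⟨ω, rfl⟩ := hsurj w
  have hω : ω ∈ Submodule.span A (Set.range (KaehlerDifferential.D k A)) := by
    rw [KaehlerDifferential.span_range_derivation]; trivial
  induction hω using Submodule.span_induction with
  | mem x hx =>
    obtain ⟨a, rfl⟩ := hx
    exact Submodule.subset_span ⟨a, rfl⟩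
  | zero => rw [map_zero]; exact zero_mem _
  | add x y _ _ hx hy => rw [map_add]; exact add_mem hx hy
  | smul c x _ hx => rw [map_smul]; exact Submodule.smul_mem _ _ hx

/-- **EGA 0_IV 22.x**: if `Ω̂_p` is generated by `m` elements (`p` non-maximal on a component of
maximal dimension), then `A` is finite over some `k[[T_1..T_m]]` and unramified at `p` over it. -/
theorem exists_algebra_of_span (p : Ideal A) [p.IsPrime] (hp : p ≠ maximalIdeal A)
    (hq : ∃ q ∈ minimalPrimes A, q ≤ p ∧ ringKrullDim (A ⧸ q) = ringKrullDim A) (m : ℕ)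
    (hgen : ∃ s : Fin m → LocalizedModule p.primeCompl (AdicCompletion (maximalIdeal A) Ω[A⁄k]),
      Submodule.span (Localization.AtPrime p) (Set.range s) = ⊤) :
    ∃ (_ : Algebra (MvPowerSeries (Fin m) k) A) (_ : IsScalarTower k (MvPowerSeries (Fin m) k) A),
      IsLocalHom (algebraMap (MvPowerSeries (Fin m) k) A) ∧
        Module.Finite (MvPowerSeries (Fin m) k) A ∧
        Algebra.IsUnramifiedAt (MvPowerSeries (Fin m) k) p := by
  classical
  haveI : Algebra.EssFiniteType k (ResidueField A) := inferInstance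
  haveI : Module.Finite A (AdicCompletion (maximalIdeal A) (Ω[A⁄k])) :=
    Groth.Agent.Lib.Helper7.ComplKaehler.finite_adicCompletion_kaehler
  obtain ⟨n, hn⟩ := Groth.Agent.Lib.Helper5.exists_nat_ringKrullDim_eq A
  obtain ⟨s, hs⟩ := hgen
  obtain ⟨M, hM⟩ : ∃ M : ℕ, Module.finrank p.ResidueField
      (p.ResidueField ⊗[Localization.AtPrime p]
        (LocalizedModule p.primeCompl (AdicCompletion (maximalIdeal A) Ω[A⁄k]))) = M := ⟨_, rfl⟩
  have hMm : M ≤ m := by
    rw [← hM]
    exact Groth.Agent.Lib.Helper19.CKUnits.finrank_fibre_le_of_span s hs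
  have hnM : n ≤ M := by
    obtain ⟨q, hqmin, hqp, hqdim⟩ := hq
    haveI : q.IsPrime := hqmin.1.1
    have h1 := Groth.Agent.Lib.Helper19.CKFibre.le_finrank_fibre (k := k) q n (by rw [hqdim, hn])
    have h2 := Groth.Agent.Lib.Helper19.SmVar.finrank_fibre_le_of_le A
      (AdicCompletion (maximalIdeal A) (Ω[A⁄k])) q p hqp
    rw [← hM, ← (Groth.Agent.Lib.Helper19.CKLoc.fibreEquiv A p
      (AdicCompletion (maximalIdeal A) (Ω[A⁄k]))).finrank_eq]
    exact h1.trans h2
  obtain ⟨x', hx', hart⟩ := Groth.Agent.Lib.Helper19.CKRel.exists_sop_notMem n hn p hp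
  obtain ⟨z, hzm, hzp⟩ : ∃ z, z ∈ maximalIdeal A ∧ z ∉ p := by
    have hmp : ¬ maximalIdeal A ≤ p := fun h =>
      hp (le_antisymm (le_maximalIdeal (Ideal.IsPrime.ne_top inferInstance)) h)
    obtain ⟨a, ham, hap⟩ := SetLike.not_le_iff_exists.1 hmp
    exact ⟨a, ham, hap⟩
  let x : Fin M → A := fun i => if h : i.val < n then x' ⟨i, h⟩ else z
  have hxm : ∀ i, x i ∈ maximalIdeal A := by
    intro i; simp only [x]; split_ifs with h
    · exact (hx' _).1
    · exact hzm
  have hxp : ∀ i, x i ∉ p := by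
    intro i; simp only [x]; split_ifs with h
    · exact (hx' _).2
    · exact hzp
  obtain ⟨u, hu⟩ := Groth.Agent.Lib.Helper19.CKUnits.exists_units_span_eq_top p (dHat k (A := A))
    (span_range_dHat k) M hM x hxp
  let t : Fin m → A := fun i => if h : i.val < M then (u ⟨i, h⟩ : A) * x ⟨i, h⟩ else 0
  have htm : ∀ i, t i ∈ maximalIdeal A := by
    intro i; simp only [t]; split_ifs with h
    · exact Ideal.mul_mem_left _ _ (hxm _)
    · exact zero_mem _
  obtain ⟨φ, hφ⟩ := Groth.Agent.Lib.Helper19.exists_algHom_X_eq_of_isAdicComplete (Λ := k)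
    (maximalIdeal A) t htm
  letI : Algebra (MvPowerSeries (Fin m) k) A := φ.toRingHom.toAlgebra
  haveI htower : IsScalarTower k (MvPowerSeries (Fin m) k) A :=
    IsScalarTower.of_algebraMap_eq (fun c => (φ.commutes c).symm)
  have halg : ∀ i, algebraMap (MvPowerSeries (Fin m) k) A (X i) = t i := hφ
  have hloc : ∀ i, algebraMap (MvPowerSeries (Fin m) k) A (X i) ∈ maximalIdeal A := by
    intro i; rw [halg]; exact htm i
  have hfin : Module.Finite (MvPowerSeries (Fin m) k) A := by
    apply Groth.Agent.Lib.Helper19.CKRel.finite_of_isArtinianRing_quotient m hloc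
    have hle : Ideal.span (Set.range x') ≤ (maximalIdeal (MvPowerSeries (Fin m) k)).map
        (algebraMap (MvPowerSeries (Fin m) k) A) := by
      rw [Ideal.span_le]
      rintro _ ⟨i, rfl⟩
      have hiM : i.val < M := lt_of_lt_of_le i.2 hnM
      have him : i.val < m := lt_of_lt_of_le hiM hMm
      have h1 : t ⟨i, him⟩ = (u ⟨i, hiM⟩ : A) * x' i := by
        simp only [t, x, hiM, i.2, dif_pos, Fin.eta]
      have h2 : x' i = ((u ⟨i, hiM⟩)⁻¹ : Aˣ) * t ⟨i, him⟩ := by
        rw [h1, ← mul_assoc, Units.inv_mul, one_mul]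
      rw [SetLike.mem_coe, h2, ← halg]
      refine Ideal.mul_mem_left _ _ (Ideal.mem_map_of_mem _ ?_)
      rw [mem_maximalIdeal, mem_nonunits_iff, MvPowerSeries.isUnit_iff_constantCoeff]
      simp
    exact (Ideal.Quotient.factor_surjective hle).isArtinianRing
  refine ⟨inferInstance, htower, Groth.Agent.Lib.Helper19.CKRel.isLocalHom_algebraMap m hloc,
    hfin, ?_⟩
  rw [isUnramifiedAt_iff_span_eq_top k m hloc p, eq_top_iff, ← hu, Submodule.span_le]
  rintro _ ⟨i, rfl⟩
  have him : i.val < m := lt_of_lt_of_le i.2 hMm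
  refine Submodule.subset_span ⟨⟨i, him⟩, ?_⟩
  simp only [halg, t, i.2, dif_pos, Fin.eta]
  rfl

end Groth.Agent.Lib.Helper19.CKUnram
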