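import Mathlib
import Groth.Agent.Lib.Helper19CKUnram
import Groth.Agent.Lib.Helper19CKBasis
import Groth.Agent.Lib.Helper19CKDim

/-!
# Towards Nagata's Jacobian criterion for complete local rings (EGA 0_IV 22.7.3) (helper19)
-/

set_option autoImplicit false
set_option linter.style.haveILetI false
set_option linter.unusedSectionVars false
universe u

open TensorProduct Module IsLocalRing

namespace Groth.Agent.Lib.Helper19.CKJac

variable (k : Type u) {A : Type u} [Field k] [CommRing A] [IsLocalRing A] [IsNoetherianRing A]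
  [Algebra k A] [IsAdicComplete (maximalIdeal A) A] [Module.Finite k (ResidueField A)]

/-- if `A_P` is a domain and the fibre of `Ω̂` at `P` has dimension at most `dim A/q`, then `Ω̂_P`
is free of rank `dim A/q`. -/
theorem free_of_finrank_fibre_le (P q : Ideal A) [P.IsPrime] [q.IsPrime]
    [IsDomain (Localization.AtPrime P)] (hq : q ∈ minimalPrimes A) (hqP : q ≤ P) (n : ℕ)
    (hn : ringKrullDim (A ⧸ q) = n)
    (hle : Module.finrank P.ResidueField
      (P.ResidueField ⊗[A] AdicCompletion (maximalIdeal A) Ω[A⁄k]) ≤ n) :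
    Module.Free (Localization.AtPrime P)
        (LocalizedModule P.primeCompl (AdicCompletion (maximalIdeal A) Ω[A⁄k])) ∧
      Module.finrank (Localization.AtPrime P)
        (LocalizedModule P.primeCompl (AdicCompletion (maximalIdeal A) Ω[A⁄k])) = n := by
  haveI : Algebra.EssFiniteType k (ResidueField A) := inferInstance
  haveI : Module.Finite A (AdicCompletion (maximalIdeal A) (Ω[A⁄k])) :=
    Groth.Agent.Lib.Helper7.ComplKaehler.finite_adicCompletion_kaehler
  obtain ⟨M, hM⟩ : ∃ M : ℕ, Module.finrank P.ResidueField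
      (P.ResidueField ⊗[Localization.AtPrime P]
        (LocalizedModule P.primeCompl (AdicCompletion (maximalIdeal A) Ω[A⁄k]))) = M := ⟨_, rfl⟩
  have hMle : M ≤ n := by
    rw [← hM, ← (Groth.Agent.Lib.Helper19.CKLoc.fibreEquiv A P
      (AdicCompletion (maximalIdeal A) (Ω[A⁄k]))).finrank_eq]
    exact hle
  have hrank := Groth.Agent.Lib.Helper19.CKFibre.le_finrank_fibre (k := k) q n hn
  have hnM : n ≤ M := by
    have h2 := Groth.Agent.Lib.Helper19.SmVar.finrank_fibre_le_of_le A
      (AdicCompletion (maximalIdeal A) (Ω[A⁄k])) q P hqP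
    rw [← hM, ← (Groth.Agent.Lib.Helper19.CKLoc.fibreEquiv A P
      (AdicCompletion (maximalIdeal A) (Ω[A⁄k]))).finrank_eq]
    exact hrank.trans h2
  have hMn : M = n := le_antisymm hMle hnM
  obtain ⟨u, hu⟩ := Groth.Agent.Lib.Helper19.CKUnits.exists_units_span_eq_top P
    (Groth.Agent.Lib.Helper19.CKUnram.dHat k (A := A))
    (Groth.Agent.Lib.Helper19.CKUnram.span_range_dHat k) M hM (fun _ => (1 : A))
    (fun _ h1 => (Ideal.IsPrime.ne_top inferInstance) ((Ideal.eq_top_iff_one P).2 h1))
  have key := Groth.Agent.Lib.Helper19.CKBasis.free_and_finrank_of_span_of_le_finrank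
    (AdicCompletion (maximalIdeal A) Ω[A⁄k]) q P hq hqP M
    (fun i => Groth.Agent.Lib.Helper19.CKUnram.dHat k (A := A) ((u i : A) * 1)) hu
    (hMle.trans hrank)
  rw [hMn] at key
  exact key

end Groth.Agent.Lib.Helper19.CKJac
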