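import Mathlib
import Groth.Agent.Lib.Helper19CKUnram
import Groth.Agent.Lib.Helper19CKFibre
import Groth.Agent.Lib.Helper19CKRel

/-!
# Nagata's Jacobian criterion, characteristic `0` part: an upper bound for the fibre rank of `Ω̂`
at a prime (helper19)
-/

set_option autoImplicit false
set_option linter.style.haveILetI false
set_option linter.unusedSectionVars false
universe u

open TensorProduct Module IsLocalRing MvPowerSeries

namespace Groth.Agent.Lib.Helper19.CKJacC0

section Poly

open Polynomial

/-- in characteristic `0`, an integral element is a root of a polynomial whose derivative does not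
vanish at it -/
theorem exists_aeval_derivative_ne_zero {R B : Type*} [CommRing R] [IsDomain R] [CharZero R]
    [CommRing B] [Algebra R B] (hinj : Function.Injective (algebraMap R B)) (b : B)
    (hb : IsIntegral R b) :
    ∃ f : R[X], aeval b f = 0 ∧ aeval b (derivative f) ≠ 0 := by
  classical
  have hne : ∃ f : R[X], f ≠ 0 ∧ aeval b f = 0 := by
    obtain ⟨f, hfm, hf⟩ := hb
    exact ⟨f, hfm.ne_zero, hf⟩
  let S : Set ℕ := {n | ∃ f : R[X], f ≠ 0 ∧ aeval b f = 0 ∧ f.natDegree = n}
  have hS : S.Nonempty := by
    obtain ⟨f, h1, h2⟩ := hne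
    exact ⟨_, f, h1, h2, rfl⟩
  obtain ⟨f, hf0, hfb, hfdeg⟩ := Nat.sInf_mem hS
  have hmin : ∀ g : R[X], g ≠ 0 → aeval b g = 0 → f.natDegree ≤ g.natDegree := by
    intro g hg0 hgb
    rw [hfdeg]
    exact Nat.sInf_le ⟨g, hg0, hgb, rfl⟩
  have hdeg : f.natDegree ≠ 0 := by
    intro h0
    have hC := Polynomial.eq_C_of_natDegree_eq_zero h0
    rw [hC, aeval_C] at hfb
    have h1 : f.coeff 0 = 0 := hinj (by rw [hfb, map_zero])
    apply hf0
    rw [hC, h1, C_0]
  refine ⟨f, hfb, fun h => ?_⟩
  have hd0 : derivative f ≠ 0 := Polynomial.derivative_ne_zero.2 hdeg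
  have h1 := hmin _ hd0 h
  have h2 := Polynomial.natDegree_derivative_lt hdeg
  omega

end Poly

section Main

variable (k : Type u) {A : Type u} [Field k] [CommRing A] [IsLocalRing A] [IsNoetherianRing A]
  [Algebra k A] [IsAdicComplete (maximalIdeal A) A] [Module.Finite k (ResidueField A)]
  (P : Ideal A) [P.IsPrime]

/-- the fibre map `a ↦ 1 ⊗ d̂ a` -/
noncomputable def delta (a : A) : P.ResidueField ⊗[A] AdicCompletion (maximalIdeal A) Ω[A⁄k] :=
  (1 : P.ResidueField) ⊗ₜ[A] Groth.Agent.Lib.Helper19.CKUnram.dHat k a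

theorem one_tmul_smul (a : A) (w : AdicCompletion (maximalIdeal A) Ω[A⁄k]) :
    (1 : P.ResidueField) ⊗ₜ[A] (a • w) =
      algebraMap A P.ResidueField a • ((1 : P.ResidueField) ⊗ₜ[A] w) := by
  rw [TensorProduct.tmul_smul, algebraMap_smul]

theorem delta_add (a b : A) : delta k P (a + b) = delta k P a + delta k P b := by
  simp only [delta, map_add, TensorProduct.tmul_add]

theorem delta_mul (a b : A) : delta k P (a * b) =
    algebraMap A P.ResidueField a • delta k P b + algebraMap A P.ResidueField b • delta k P a := by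
  simp only [delta, Derivation.leibniz, TensorProduct.tmul_add, one_tmul_smul]

theorem delta_mul_of_mem (t y : A) (hy : y ∈ P) :
    delta k P (t * y) = algebraMap A P.ResidueField t • delta k P y := by
  rw [delta_mul, (Ideal.algebraMap_residueField_eq_zero (I := P)).2 hy, zero_smul, add_zero]

/-- the `δ(a)` span the fibre -/
theorem span_delta : Submodule.span P.ResidueField (Set.range (delta k P)) = ⊤ := by
  have h1 : ∀ w : AdicCompletion (maximalIdeal A) Ω[A⁄k], (1 : P.ResidueField) ⊗ₜ[A] w ∈
      Submodule.span P.ResidueField (Set.range (delta k P)) := by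
    intro w
    have hw : w ∈ Submodule.span A (Set.range (Groth.Agent.Lib.Helper19.CKUnram.dHat k (A := A))) := by
      rw [Groth.Agent.Lib.Helper19.CKUnram.span_range_dHat]; trivial
    induction hw using Submodule.span_induction with
    | mem x hx =>
      obtain ⟨a, rfl⟩ := hx
      exact Submodule.subset_span ⟨a, rfl⟩
    | zero => rw [TensorProduct.tmul_zero]; exact zero_mem _
    | add x y _ _ hx hy => rw [TensorProduct.tmul_add]; exact add_mem hx hy
    | smul a x _ hx => rw [one_tmul_smul]; exact Submodule.smul_mem _ _ hx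
  rw [eq_top_iff]
  rintro v -
  induction v using TensorProduct.induction_on with
  | zero => exact zero_mem _
  | add x y hx hy => exact add_mem hx hy
  | tmul c w =>
    have : c ⊗ₜ[A] w = c • ((1 : P.ResidueField) ⊗ₜ[A] w) := by
      rw [TensorProduct.smul_tmul', smul_eq_mul, mul_one]
    rw [this]
    exact Submodule.smul_mem _ _ (h1 w)

theorem delta_mem_of_mem_span {ι : Type*} (x : ι → A) (hx : ∀ i, x i ∈ P) (y : A)
    (hy : y ∈ Ideal.span (Set.range x)) :
    delta k P y ∈ Submodule.span P.ResidueField (Set.range fun i => delta k P (x i)) := by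
  have hle : Ideal.span (Set.range x) ≤ P := by
    rw [Ideal.span_le]
    rintro _ ⟨i, rfl⟩
    exact hx i
  induction hy using Submodule.span_induction with
  | mem z hz =>
    obtain ⟨i, rfl⟩ := hz
    exact Submodule.subset_span ⟨i, rfl⟩
  | zero =>
    have : delta k P (0 : A) = 0 := by simp [delta]
    rw [this]; exact zero_mem _
  | add z w _ _ hz hw => rw [delta_add]; exact add_mem hz hw
  | smul a z hz hz' =>
    rw [smul_eq_mul, delta_mul_of_mem k P a z (hle hz)]
    exact Submodule.smul_mem _ _ hz'

theorem delta_mem_of_mul_mem (S : Submodule P.ResidueField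
      (P.ResidueField ⊗[A] AdicCompletion (maximalIdeal A) Ω[A⁄k]))
    (t y : A) (ht : t ∉ P) (hy : y ∈ P) (h : delta k P (t * y) ∈ S) : delta k P y ∈ S := by
  rw [delta_mul_of_mem k P t y hy] at h
  have ht0 : algebraMap A P.ResidueField t ≠ 0 := fun h0 =>
    ht ((Ideal.algebraMap_residueField_eq_zero (I := P)).1 h0)
  have := Submodule.smul_mem S (algebraMap A P.ResidueField t)⁻¹ h
  rwa [smul_smul, inv_mul_cancel₀ ht0, one_smul] at this

omit [IsLocalRing A] [IsAdicComplete (maximalIdeal A) A] in
/-- elements of `P` generating `P A_P`, as many as the dimension of the cotangent space -/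
theorem exists_generators :
    ∃ x : Fin (Module.finrank P.ResidueField (CotangentSpace (Localization.AtPrime P))) → A,
      (∀ i, x i ∈ P) ∧ ∀ y ∈ P, ∃ t, t ∉ P ∧ t * y ∈ Ideal.span (Set.range x) := by
  classical
  have hh : (maximalIdeal (Localization.AtPrime P)).spanFinrank =
      Module.finrank P.ResidueField (CotangentSpace (Localization.AtPrime P)) :=
    spanFinrank_maximalIdeal_eq_finrank_cotangentSpace (Localization.AtPrime P)
  obtain ⟨G, hGcard, hGspan⟩ := Submodule.FG.exists_span_finset_card_eq_spanFinrank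
    (p := maximalIdeal (Localization.AtPrime P)) (Ideal.fg_of_isNoetherianRing _)
  rw [hh] at hGcard
  have hmap : P.map (algebraMap A (Localization.AtPrime P)) =
      maximalIdeal (Localization.AtPrime P) :=
    IsLocalization.AtPrime.map_eq_maximalIdeal P (Localization.AtPrime P)
  have hG : ∀ g : G, ∃ z : P × P.primeCompl, (g : Localization.AtPrime P) *
      algebraMap A (Localization.AtPrime P) z.2 = algebraMap A (Localization.AtPrime P) z.1 := by
    intro g
    apply (IsLocalization.mem_map_algebraMap_iff P.primeCompl (Localization.AtPrime P)).1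
    rw [hmap, ← hGspan]
    exact Submodule.subset_span g.2
  choose z hz using hG
  let e : G ≃ Fin (Module.finrank P.ResidueField (CotangentSpace (Localization.AtPrime P))) :=
    Finset.equivFinOfCardEq hGcard
  refine ⟨fun i => ((z (e.symm i)).1 : A), fun i => (z (e.symm i)).1.2, ?_⟩
  set I : Ideal A := Ideal.span (Set.range fun i => ((z (e.symm i)).1 : A)) with hI
  have hImap : maximalIdeal (Localization.AtPrime P) ≤
      I.map (algebraMap A (Localization.AtPrime P)) := by
    rw [← hGspan, Submodule.span_le]
    intro g hg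
    rw [SetLike.mem_coe, IsLocalization.mem_map_algebraMap_iff P.primeCompl
      (Localization.AtPrime P)]
    refine ⟨⟨⟨(z ⟨g, hg⟩).1, ?_⟩, (z ⟨g, hg⟩).2⟩, hz ⟨g, hg⟩⟩
    apply Ideal.subset_span
    exact ⟨e ⟨g, hg⟩, by simp⟩
  intro y hy
  have hy1 : algebraMap A (Localization.AtPrime P) y ∈
      I.map (algebraMap A (Localization.AtPrime P)) := by
    apply hImap
    rw [← hmap]
    exact Ideal.mem_map_of_mem _ hy
  obtain ⟨⟨w, s⟩, hws⟩ := (IsLocalization.mem_map_algebraMap_iff P.primeCompl
    (Localization.AtPrime P)).1 hy1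
  simp only at hws
  rw [← map_mul] at hws
  obtain ⟨u, hu⟩ := (IsLocalization.eq_iff_exists P.primeCompl _).1 hws
  refine ⟨(u : A) * (s : A), ?_, ?_⟩
  · exact (u * s).2
  · have : (u : A) * (s : A) * y = (u : A) * (w : A) := by
      rw [← hu]; ring
    rw [this]
    exact Ideal.mul_mem_left _ _ w.2

/-- **Upper bound for the fibre rank of `Ω̂` at a prime, characteristic `0`.** -/
theorem finrank_fibre_le [CharZero k] (d : ℕ) (hd : ringKrullDim (A ⧸ P) = d) :
    Module.finrank P.ResidueField
        (P.ResidueField ⊗[A] AdicCompletion (maximalIdeal A) Ω[A⁄k]) ≤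
      Module.finrank P.ResidueField (CotangentSpace (Localization.AtPrime P)) + d := by
  classical
  haveI : Algebra.EssFiniteType k (ResidueField A) := inferInstance
  haveI hΩfin : Module.Finite A (AdicCompletion (maximalIdeal A) (Ω[A⁄k])) :=
    Groth.Agent.Lib.Helper7.ComplKaehler.finite_adicCompletion_kaehler
  obtain ⟨x, hxP, hx⟩ := exists_generators P
  obtain ⟨φ, hinj, hfin, hX⟩ :=
    Groth.Agent.Lib.Helper19.CKFibre.exists_algHom_mvPowerSeries_quotient (k := k) P d hd
  letI : Algebra (MvPowerSeries (Fin d) k) A := φ.toRingHom.toAlgebra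
  haveI : IsScalarTower k (MvPowerSeries (Fin d) k) A :=
    IsScalarTower.of_algebraMap_eq (fun c => (φ.commutes c).symm)
  have hmap : algebraMap (MvPowerSeries (Fin d) k) (A ⧸ P) =
      ((Ideal.Quotient.mkₐ k P).comp φ).toRingHom := rfl
  haveI : Module.Finite (MvPowerSeries (Fin d) k) (A ⧸ P) :=
    RingHom.finite_algebraMap.1 (by rw [hmap]; exact hfin)
  have hinjB : Function.Injective (algebraMap (MvPowerSeries (Fin d) k) (A ⧸ P)) := by
    rw [hmap]; exact hinj
  have hloc : ∀ i, algebraMap (MvPowerSeries (Fin d) k) A (X i) ∈ maximalIdeal A := hX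
  haveI : IsDomain (MvPowerSeries (Fin d) k) := NoZeroDivisors.to_isDomain _
  haveI : CharZero (MvPowerSeries (Fin d) k) :=
    charZero_of_injective_algebraMap (algebraMap k (MvPowerSeries (Fin d) k)).injective
  obtain ⟨L, -, hL⟩ :=
    Groth.Agent.Lib.Helper19.CKRel.exists_surjective_kaehler_quotient k d (A := A) hloc
  -- the spanning family
  let v : Fin (Module.finrank P.ResidueField (CotangentSpace (Localization.AtPrime P))) ⊕ Fin d →
      P.ResidueField ⊗[A] AdicCompletion (maximalIdeal A) Ω[A⁄k] :=
    Sum.elim (fun i => delta k P (x i))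
      (fun j => delta k P (algebraMap (MvPowerSeries (Fin d) k) A (X j)))
  set S := Submodule.span P.ResidueField (Set.range v) with hS
  have hS1 : Submodule.span P.ResidueField (Set.range fun i => delta k P (x i)) ≤ S := by
    apply Submodule.span_mono
    rintro _ ⟨i, rfl⟩
    exact ⟨Sum.inl i, rfl⟩
  have hS2 : ∀ z ∈ Groth.Agent.Lib.Helper19.CKRel.dTSpan k d (A := A),
      (1 : P.ResidueField) ⊗ₜ[A] z ∈ S := by
    intro z hz
    induction hz using Submodule.span_induction with
    | mem w hw =>
      obtain ⟨j, rfl⟩ := hw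
      exact Submodule.subset_span ⟨Sum.inr j, rfl⟩
    | zero => rw [TensorProduct.tmul_zero]; exact zero_mem _
    | add z w _ _ hz hw => rw [TensorProduct.tmul_add]; exact add_mem hz hw
    | smul a z _ hz => rw [one_tmul_smul]; exact Submodule.smul_mem _ _ hz
  have hP : ∀ y ∈ P, delta k P y ∈ S := by
    intro y hy
    obtain ⟨t, ht, hty⟩ := hx y hy
    exact delta_mem_of_mul_mem k P S t y ht hy
      (hS1 (delta_mem_of_mem_span k P x hxP _ hty))
  have hall : ∀ a : A, delta k P a ∈ S := by
    intro a
    have hb : IsIntegral (MvPowerSeries (Fin d) k) (Ideal.Quotient.mk P a) :=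
      Algebra.IsIntegral.isIntegral _
    obtain ⟨f, hf, hf'⟩ := exists_aeval_derivative_ne_zero hinjB _ hb
    have hmk : ∀ g : Polynomial (MvPowerSeries (Fin d) k),
        Polynomial.aeval (Ideal.Quotient.mk P a) g =
          Ideal.Quotient.mk P (Polynomial.aeval a g) := fun g =>
      Polynomial.aeval_algHom_apply (Ideal.Quotient.mkₐ (MvPowerSeries (Fin d) k) P) a g
    have hyP : Polynomial.aeval a f ∈ P := by
      rw [← Ideal.Quotient.eq_zero_iff_mem, ← hmk, hf]
    have htP : Polynomial.aeval a (Polynomial.derivative f) ∉ P := by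
      rw [← Ideal.Quotient.eq_zero_iff_mem, ← hmk]
      exact hf'
    have h1 := Derivation.map_aeval (KaehlerDifferential.D (MvPowerSeries (Fin d) k) A) f a
    have h2 := congrArg L h1
    rw [map_smul, hL, hL, ← Submodule.Quotient.mk_smul, Submodule.Quotient.eq] at h2
    have h3 := hS2 _ h2
    rw [TensorProduct.tmul_sub, one_tmul_smul] at h3
    have h4 : delta k P (Polynomial.aeval a f) ∈ S := hP _ hyP
    have h5 : algebraMap A P.ResidueField (Polynomial.aeval a (Polynomial.derivative f)) •
        delta k P a ∈ S := by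
      have := sub_mem h4 h3
      simpa [delta, Groth.Agent.Lib.Helper19.CKUnram.dHat] using this
    have ht0 : algebraMap A P.ResidueField (Polynomial.aeval a (Polynomial.derivative f)) ≠ 0 :=
      fun h0 => htP ((Ideal.algebraMap_residueField_eq_zero (I := P)).1 h0)
    have := Submodule.smul_mem S
      (algebraMap A P.ResidueField (Polynomial.aeval a (Polynomial.derivative f)))⁻¹ h5
    rwa [smul_smul, inv_mul_cancel₀ ht0, one_smul] at this
  have hStop : S = ⊤ := by
    rw [eq_top_iff, ← span_delta k P, Submodule.span_le]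
    rintro _ ⟨a, rfl⟩
    exact hall a
  have h6 : Module.finrank P.ResidueField S ≤
      Fintype.card (Fin (Module.finrank P.ResidueField
        (CotangentSpace (Localization.AtPrime P))) ⊕ Fin d) := finrank_range_le_card v
  rw [Fintype.card_sum, Fintype.card_fin, Fintype.card_fin] at h6
  rw [← finrank_top P.ResidueField, ← hStop]
  exact h6

end Main

end Groth.Agent.Lib.Helper19.CKJacC0
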