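import Mathlib
import Groth.Agent.Lib.Helper19CKRank

/-!
# Fibre rank of `Ω_{A/k}` for a formally smooth local algebra, without finiteness of the residue
field extension (helper19)
-/

set_option autoImplicit false
set_option linter.style.haveILetI false
set_option linter.unusedSectionVars false
universe u

open TensorProduct Module IsLocalRing

namespace Groth.Agent.Lib.Helper19.CKRank

/-- for a formally smooth Noetherian local `k₀`-algebra `A` with residue field `κ` such that
`κ ⊗ Ω_{A/k₀}` is finite-dimensional:
`rk (κ ⊗ Ω_{A/k₀}) + rk Υ_{κ/k₀} = rk Ω_{κ/k₀} + dim 𝔪/𝔪²`. -/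
theorem finrank_fibre_add_imperfection {k₀ A : Type u} [Field k₀] [CommRing A]
    [IsLocalRing A] [IsNoetherianRing A] [Algebra k₀ A]
    (hfs : CAlgX.IsAdicFormallySmooth k₀ A (maximalIdeal A))
    [hW : Module.Finite (ResidueField A) (ResidueField A ⊗[A] Ω[A⁄k₀])] :
    Module.finrank (ResidueField A) (ResidueField A ⊗[A] Ω[A⁄k₀]) +
        Module.finrank (ResidueField A)
          (LinearMap.ker (KaehlerDifferential.mapBaseChange ℤ k₀ (ResidueField A))) =
      Module.finrank (ResidueField A) Ω[ResidueField A⁄k₀] +
        Module.finrank (ResidueField A) (CotangentSpace A) := by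
  have hs : Function.Surjective (algebraMap A (ResidueField A)) := residue_surjective
  have hK : ∀ x ∈ maximalIdeal A, algebraMap A (ResidueField A) x = 0 := fun x hx =>
    (residue_eq_zero_iff x).2 hx
  haveI : FiniteDimensional (ResidueField A)
      (LinearMap.ker (KaehlerDifferential.mapBaseChange ℤ A (ResidueField A))) :=
    GR.finite_ker_mapBaseChange (A := A) (K := ResidueField A) hs
  have hinj : Function.Injective (LinearMap.baseChange (ResidueField A)
      (KaehlerDifferential.mapBaseChange ℤ k₀ A)) := by
    intro a b hab
    apply GR.injective_lTensor_of_extensionK (GR.exists_derivation_extensionK hK hfs)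
    rw [← LinearMap.baseChange_eq_ltensor]
    exact hab
  have hcomm : (KaehlerDifferential.mapBaseChange ℤ A (ResidueField A)) ∘ₗ
      (LinearMap.baseChange (ResidueField A) (KaehlerDifferential.mapBaseChange ℤ k₀ A)) =
      (KaehlerDifferential.mapBaseChange ℤ k₀ (ResidueField A)) ∘ₗ
        (AlgebraTensorModule.cancelBaseChange k₀ A (ResidueField A) (ResidueField A)
          Ω[k₀⁄ℤ]).toLinearMap := by
    ext c
    simp only [AlgebraTensorModule.curry_apply, LinearMap.restrictScalars_comp, curry_apply,
      LinearMap.coe_comp, LinearMap.coe_restrictScalars, Function.comp_apply,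
      Derivation.coe_comp, LinearMap.baseChange_tmul,
      KaehlerDifferential.mapBaseChange_tmul, one_smul, LinearEquiv.coe_coe,
      AlgebraTensorModule.cancelBaseChange_tmul]
    change KaehlerDifferential.map ℤ ℤ A (ResidueField A) (KaehlerDifferential.map ℤ ℤ k₀ A
      (KaehlerDifferential.D ℤ k₀ c)) = KaehlerDifferential.map ℤ ℤ k₀ (ResidueField A)
      (KaehlerDifferential.D ℤ k₀ c)
    rw [KaehlerDifferential.map_D, KaehlerDifferential.map_D, KaehlerDifferential.map_D,
      ← IsScalarTower.algebraMap_apply]
  have hex0 := KaehlerDifferential.exact_mapBaseChange_map ℤ k₀ A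
  have hsurj0 : Function.Surjective (KaehlerDifferential.map ℤ k₀ A A) :=
    KaehlerDifferential.map_surjective ℤ k₀ A
  have hπ : Function.Surjective (LinearMap.baseChange (ResidueField A)
      (KaehlerDifferential.map ℤ k₀ A A)) := by
    rw [LinearMap.baseChange_eq_ltensor]
    exact LinearMap.lTensor_surjective _ hsurj0
  have hαπ : Function.Exact (LinearMap.baseChange (ResidueField A)
      (KaehlerDifferential.mapBaseChange ℤ k₀ A)) (LinearMap.baseChange (ResidueField A)
      (KaehlerDifferential.map ℤ k₀ A A)) := by
    have := lTensor_exact (ResidueField A) hex0 hsurj0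
    rw [LinearMap.baseChange_eq_ltensor, LinearMap.baseChange_eq_ltensor]
    exact this
  have hmain := finrank_add_of_diagram
    (LinearMap.baseChange (ResidueField A) (KaehlerDifferential.mapBaseChange ℤ k₀ A))
    (LinearMap.baseChange (ResidueField A) (KaehlerDifferential.map ℤ k₀ A A))
    (KaehlerDifferential.mapBaseChange ℤ A (ResidueField A))
    (KaehlerDifferential.mapBaseChange ℤ k₀ (ResidueField A))
    (AlgebraTensorModule.cancelBaseChange k₀ A (ResidueField A) (ResidueField A) Ω[k₀⁄ℤ])
    (KaehlerDifferential.map ℤ k₀ (ResidueField A) (ResidueField A))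
    hinj hπ hαπ (KaehlerDifferential.mapBaseChange_surjective ℤ A _ hs) hcomm
    (KaehlerDifferential.map_surjective ℤ k₀ (ResidueField A))
    (KaehlerDifferential.exact_mapBaseChange_map ℤ k₀ (ResidueField A))
  have hker := finrank_ker_mapBaseChange (k₀ := k₀) hs (maximalIdeal A)
    (by rw [ResidueField.algebraMap_eq, ker_residue])
  have hcot : Module.finrank (A ⧸ maximalIdeal A) (maximalIdeal A).Cotangent =
      Module.finrank (ResidueField A) (CotangentSpace A) := rfl
  have h5 : Module.finrank (ResidueField A)
      (LinearMap.ker (KaehlerDifferential.mapBaseChange ℤ A (ResidueField A))) =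
      Module.finrank (ResidueField A) (CotangentSpace A) := hker.trans hcot
  exact hmain.trans (congrArg (_ + ·) h5)

end Groth.Agent.Lib.Helper19.CKRank
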