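import Mathlib
import Groth.Agent.Lib.Helper19CKRel2
import Groth.Agent.Lib.Helper19PsDim
import Groth.Agent.Lib.Helper7ComplKaehlerPS

/-!
# Power series rings over a field with finite `p`-degree: `Ω_{k[[T]]/k}` is spanned by the `dT_i`
(helper19)
-/

set_option autoImplicit false
set_option linter.style.haveILetI false
set_option linter.unusedSectionVars false
universe u

open MvPowerSeries IsLocalRing

namespace Groth.Agent.Lib.Helper19.PsFrob

/-- a copy of `k[[T_1..T_n]]`, regarded as an algebra over `k[[T_1..T_n]]` via `T_i ↦ T_i^p`. -/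
def Tgt (k : Type u) [Field k] (n p : ℕ) : Type u := MvPowerSeries (Fin n) k

section Tgt

variable (k : Type u) [Field k] (n p : ℕ)

noncomputable instance : CommRing (Tgt k n p) :=
  inferInstanceAs (CommRing (MvPowerSeries (Fin n) k))

instance : IsLocalRing (Tgt k n p) := inferInstanceAs (IsLocalRing (MvPowerSeries (Fin n) k))

instance : IsNoetherianRing (Tgt k n p) :=
  inferInstanceAs (IsNoetherianRing (MvPowerSeries (Fin n) k))

noncomputable instance : Algebra k (Tgt k n p) :=
  inferInstanceAs (Algebra k (MvPowerSeries (Fin n) k))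

variable [hp : Fact p.Prime]

noncomputable instance : Algebra (MvPowerSeries (Fin n) k) (Tgt k n p) :=
  (MvPowerSeries.expand (σ := Fin n) (R := k) p hp.out.ne_zero).toRingHom.toAlgebra

theorem algebraMap_tgt (g : MvPowerSeries (Fin n) k) :
    algebraMap (MvPowerSeries (Fin n) k) (Tgt k n p) g =
      MvPowerSeries.expand (σ := Fin n) (R := k) p hp.out.ne_zero g := rfl

instance : IsScalarTower k (MvPowerSeries (Fin n) k) (Tgt k n p) :=
  IsScalarTower.of_algebraMap_eq (fun c => by
    rw [algebraMap_tgt]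
    exact ((MvPowerSeries.expand (σ := Fin n) (R := k) p hp.out.ne_zero).commutes c).symm)

theorem finite_residueField_mvPowerSeries :
    Module.Finite k (ResidueField (MvPowerSeries (Fin n) k)) := by
  apply Module.Finite.of_surjective (Algebra.linearMap k (ResidueField (MvPowerSeries (Fin n) k)))
  intro x
  obtain ⟨g, rfl⟩ := residue_surjective x
  refine ⟨constantCoeff g, ?_⟩
  rw [Algebra.linearMap_apply,
    IsScalarTower.algebraMap_apply k (MvPowerSeries (Fin n) k) (ResidueField _)]
  symm
  rw [← sub_eq_zero]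
  change residue _ g - residue _ (algebraMap k _ (constantCoeff g)) = 0
  rw [← map_sub, residue_eq_zero_iff, mem_maximalIdeal, mem_nonunits_iff,
    MvPowerSeries.isUnit_iff_constantCoeff]
  simp [MvPowerSeries.algebraMap_apply]

instance : Module.Finite k (ResidueField (Tgt k n p)) := finite_residueField_mvPowerSeries k n

theorem X_mem_maximalIdeal (i : Fin n) :
    (X i : MvPowerSeries (Fin n) k) ∈ maximalIdeal (MvPowerSeries (Fin n) k) := by
  rw [mem_maximalIdeal, mem_nonunits_iff, MvPowerSeries.isUnit_iff_constantCoeff]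
  simp

/-- `k[[T]]` is finite over itself via `T_i ↦ T_i^p`. -/
theorem finite_tgt : Module.Finite (MvPowerSeries (Fin n) k) (Tgt k n p) := by
  have hloc : ∀ i, algebraMap (MvPowerSeries (Fin n) k) (Tgt k n p) (X i) ∈
      maximalIdeal (Tgt k n p) := by
    intro i
    rw [algebraMap_tgt, expand_X]
    exact Ideal.pow_mem_of_mem _ (X_mem_maximalIdeal k n i) p hp.out.pos
  apply Groth.Agent.Lib.Helper19.CKRel.finite_of_isArtinianRing_quotient n hloc
  apply IsLocalRing.quotient_artinian_of_mem_minimalPrimes_of_isLocalRing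
  refine ⟨⟨inferInstance, Groth.Agent.Lib.Helper19.CKRel.map_maximalIdeal_le n hloc⟩,
    fun Q hQ _ => ?_⟩
  obtain ⟨hQprime, hJQ⟩ := hQ
  change maximalIdeal (MvPowerSeries (Fin n) k) ≤ Q
  rw [Groth.Agent.Lib.Helper19.maximalIdeal_mvPowerSeries_eq, Ideal.span_le]
  rintro _ ⟨i, rfl⟩
  have h1 : (X i : MvPowerSeries (Fin n) k) ^ p ∈ Q := by
    apply hJQ
    have h2 := Ideal.mem_map_of_mem (algebraMap (MvPowerSeries (Fin n) k) (Tgt k n p))
      (X_mem_maximalIdeal k n i)
    rwa [algebraMap_tgt, expand_X] at h2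
  exact hQprime.mem_of_pow_mem p h1

end Tgt

section Gen

/-- a finite ring map has a finite generating family -/
theorem exists_generators_of_finite {R S : Type*} [CommRing R] [CommRing S] (f : R →+* S)
    (hf : f.Finite) :
    ∃ (N : ℕ) (c : Fin N → S), ∀ a : S, ∃ b : Fin N → R, a = ∑ j, f (b j) * c j := by
  letI : Algebra R S := f.toAlgebra
  haveI : Module.Finite R S := hf
  obtain ⟨N, c, hc⟩ := Module.Finite.exists_fin (R := R) (M := S)
  refine ⟨N, c, fun a => ?_⟩
  have ha : a ∈ Submodule.span R (Set.range c) := by rw [hc]; trivial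
  obtain ⟨b, hb⟩ := (Submodule.mem_span_range_iff_exists_fun R).1 ha
  refine ⟨b, ?_⟩
  rw [← hb]
  apply Finset.sum_congr rfl
  intro j _
  rw [Algebra.smul_def]
  rfl

end Gen

section Frob

variable (k : Type u) [Field k] (n p : ℕ) [hp : Fact p.Prime] [CharP k p]

/-- when `[k : k^p] < ∞`, every series in the `T_i^p` is a finite `k`-combination of `p`-th
powers. -/
theorem exists_expand_eq_sum (hk : (frobenius k p).Finite) (g : MvPowerSeries (Fin n) k) :
    ∃ (N : ℕ) (c : Fin N → k) (h : Fin N → MvPowerSeries (Fin n) k),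
      MvPowerSeries.expand p hp.out.ne_zero g = ∑ j, C (c j) * h j ^ p := by
  classical
  obtain ⟨N, c, hc⟩ := exists_generators_of_finite (frobenius k p) hk
  choose b hb using hc
  let h : Fin N → MvPowerSeries (Fin n) k := fun j β => b (coeff β g) j
  have hcoeff : ∀ j β, coeff β (h j) = b (coeff β g) j := fun j β => rfl
  refine ⟨N, c, h, ?_⟩
  haveI : ExpChar k p := ExpChar.prime hp.out
  ext γ
  rw [map_sum]
  have hterm : ∀ j, coeff γ (C (c j) * h j ^ p) =
      c j * (coeff γ (MvPowerSeries.expand p hp.out.ne_zero (h j))) ^ p := by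
    intro j
    rw [MvPowerSeries.coeff_C_mul, ← MvPowerSeries.map_frobenius_expand p hp.out.ne_zero,
      MvPowerSeries.coeff_map, frobenius_def]
  simp_rw [hterm]
  by_cases hd : ∀ i, p ∣ γ i
  · obtain ⟨β, rfl⟩ : ∃ β : Fin n →₀ ℕ, γ = p • β := by
      refine ⟨Finsupp.mapRange (fun m => m / p) (Nat.zero_div p) γ, ?_⟩
      ext i
      rw [Finsupp.smul_apply, Finsupp.mapRange_apply, smul_eq_mul, Nat.mul_div_cancel' (hd i)]
    simp_rw [MvPowerSeries.coeff_expand_smul, hcoeff]
    rw [hb (coeff β g)]
    apply Finset.sum_congr rfl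
    intro j _
    rw [frobenius_def, mul_comm]
    congr 2
    rw [← hb]
  · push_neg at hd
    obtain ⟨i, hi⟩ := hd
    rw [MvPowerSeries.coeff_expand_of_not_dvd p hp.out.ne_zero g hi]
    symm
    apply Finset.sum_eq_zero
    intro j _
    rw [MvPowerSeries.coeff_expand_of_not_dvd p hp.out.ne_zero (h j) hi,
      zero_pow hp.out.ne_zero, mul_zero]

theorem natCast_eq_zero : ((p : ℕ) : MvPowerSeries (Fin n) k) = 0 := by
  rw [← map_natCast (C (σ := Fin n) (R := k)), CharP.cast_eq_zero k p, map_zero]

/-- series in the `T_i^p` are constants for `d`. -/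
theorem D_expand_eq_zero (hk : (frobenius k p).Finite) (g : MvPowerSeries (Fin n) k) :
    KaehlerDifferential.D k (MvPowerSeries (Fin n) k)
      (MvPowerSeries.expand p hp.out.ne_zero g) = 0 := by
  obtain ⟨N, c, h, hg⟩ := exists_expand_eq_sum k n p hk g
  rw [hg, map_sum]
  apply Finset.sum_eq_zero
  intro j _
  have hC : (C (c j) : MvPowerSeries (Fin n) k) = algebraMap k _ (c j) := by
    rw [MvPowerSeries.algebraMap_apply]; rfl
  rw [Derivation.leibniz, Derivation.leibniz_pow, hC, Derivation.map_algebraMap, smul_zero,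
    add_zero, ← Nat.cast_smul_eq_nsmul (MvPowerSeries (Fin n) k), natCast_eq_zero, zero_smul,
    smul_zero]

/-- `Ω_{k[[T]]/k}` is a finite module when `[k : k^p] < ∞`. -/
theorem finite_kaehler (hk : (frobenius k p).Finite) :
    Module.Finite (MvPowerSeries (Fin n) k) Ω[MvPowerSeries (Fin n) k⁄k] := by
  classical
  haveI := finite_tgt k n p
  obtain ⟨N, e, he⟩ := Module.Finite.exists_fin (R := MvPowerSeries (Fin n) k) (M := Tgt k n p)
  let e' : Fin N → MvPowerSeries (Fin n) k := e
  have key : ∀ f : MvPowerSeries (Fin n) k, ∃ g : Fin N → MvPowerSeries (Fin n) k,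
      f = ∑ l, MvPowerSeries.expand p hp.out.ne_zero (g l) * e' l := by
    intro f
    let f' : Tgt k n p := f
    have hf : f' ∈ Submodule.span (MvPowerSeries (Fin n) k) (Set.range e) := by
      rw [he]; trivial
    obtain ⟨g, hg⟩ := (Submodule.mem_span_range_iff_exists_fun _).1 hf
    refine ⟨g, ?_⟩
    change f' = _
    rw [← hg]
    apply Finset.sum_congr rfl
    intro l _
    rw [Algebra.smul_def, algebraMap_tgt]
    rfl
  refine ⟨Finset.univ.image (fun l => KaehlerDifferential.D k (MvPowerSeries (Fin n) k)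
    (e' l)), ?_⟩
  rw [eq_top_iff, ← KaehlerDifferential.span_range_derivation, Submodule.span_le]
  rintro _ ⟨f, rfl⟩
  obtain ⟨g, hg⟩ := key f
  rw [hg, map_sum]
  refine Submodule.sum_mem _ fun l _ => ?_
  rw [Derivation.leibniz, D_expand_eq_zero k n p hk, smul_zero, add_zero]
  refine Submodule.smul_mem _ _ (Submodule.subset_span ?_)
  rw [Finset.coe_image]
  exact ⟨l, Finset.mem_coe.2 (Finset.mem_univ l), rfl⟩

open Groth.Agent.Lib.Helper7.ComplKaehler in
/-- **EGA 0_IV 21.9.x**: when `[k : k^p] < ∞`, `Ω_{k[[T]]/k}` is spanned by the `dT_i`. -/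
theorem span_D_X_eq_top (hk : (frobenius k p).Finite) :
    Submodule.span (MvPowerSeries (Fin n) k) (Set.range fun i : Fin n =>
      KaehlerDifferential.D k (MvPowerSeries (Fin n) k) (X i)) = ⊤ := by
  haveI := finite_kaehler k n p hk
  rw [eq_top_iff]
  rintro ω -
  have h0 : err k n ω = 0 := by
    apply IsHausdorff.haus' (I := maximalIdeal (MvPowerSeries (Fin n) k))
    intro m
    rw [SModEq.zero]
    exact err_mem k n m ω
  have h1 : ω = iota k n (LinearMap.pi (rho k n) ω) := by
    simp only [err, LinearMap.sub_apply, LinearMap.id_apply, LinearMap.comp_apply,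
      sub_eq_zero] at h0
    exact h0
  rw [h1, iota, Fintype.linearCombination_apply]
  exact Submodule.sum_mem _ fun i _ => Submodule.smul_mem _ _ (Submodule.subset_span ⟨i, rfl⟩)

end Frob

end Groth.Agent.Lib.Helper19.PsFrob
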