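import Mathlib
import Groth.Agent.Lib.Helper19CKJacP
import Groth.Agent.Lib.Helper19CKDim
import Groth.Agent.Lib.Helper19PsFrob
import Groth.Agent.Lib.Helper19Normalization2
import Groth.Agent.S2036
import Groth.Agent.S5989
import Groth.Agent.S3866
import Groth.Agent.Lib.Helper19Restricted2
import Groth.Agent.Lib.Helper5RLR
import Groth.Agent.Lib.Helper5IntDim

/-!
# Nagata's Jacobian criterion, characteristic `p` part: fibre rank of `Ω̂` at a prime with
geometrically regular localization (helper19)
-/

set_option autoImplicit false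
set_option linter.style.haveILetI false
set_option linter.unusedSectionVars false
universe u

open TensorProduct Module IsLocalRing MvPowerSeries

namespace Groth.Agent.Lib.Helper19.CKJacCp

attribute [local instance] Groth.Agent.Lib.Helper19.isAdicComplete_field

section Finite

variable (k : Type u) (A : Type u) [Field k] [CommRing A] [IsLocalRing A] [IsNoetherianRing A]
  [Algebra k A] [IsAdicComplete (maximalIdeal A) A] [Module.Finite k (ResidueField A)]

/-- a complete Noetherian local `k`-algebra with residue field finite over `k` is finite over a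
power series ring over `k` -/
theorem exists_finite_mvPowerSeries :
    ∃ (n : ℕ) (w : MvPowerSeries (Fin n) k →ₐ[k] A), w.toRingHom.Finite := by
  obtain ⟨d, hd⟩ := exists_nat_ringKrullDim A
  obtain ⟨s, bb, hbb⟩ := Module.Finite.exists_fin (R := k) (M := ResidueField A)
  choose b hb using fun l => residue_surjective (bb l)
  have hbres : ∀ r : A, ∃ c : Fin s → k, r - ∑ l, c l • b l ∈ maximalIdeal A := by
    intro r
    have h1 : residue A r ∈ Submodule.span k (Set.range bb) := by
      rw [hbb]; exact Submodule.mem_top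
    obtain ⟨c, hc⟩ := (Submodule.mem_span_range_iff_exists_fun k).1 h1
    refine ⟨c, ?_⟩
    rw [← residue_eq_zero_iff, map_sub, sub_eq_zero, ← hc, map_sum]
    apply Finset.sum_congr rfl
    intro l _
    rw [Algebra.smul_def, Algebra.smul_def (c l) (b l), map_mul, hb]
    rfl
  have hloc : ∀ x ∈ maximalIdeal k, algebraMap k A x ∈ maximalIdeal A := by
    intro x hx
    rw [IsLocalRing.maximalIdeal_eq_bot, Ideal.mem_bot] at hx
    rw [hx, map_zero]
    exact zero_mem _
  have hm : ringKrullDim (A ⧸ (maximalIdeal k).map (algebraMap k A)) = d := by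
    rw [IsLocalRing.maximalIdeal_eq_bot, Ideal.map_bot,
      ringKrullDim_eq_of_ringEquiv (RingEquiv.quotientBot A), hd]
  have hdim : ringKrullDim k + (d : WithBot ℕ∞) ≤ ringKrullDim A := by
    rw [ringKrullDim_eq_zero_of_field, zero_add, hd]
  obtain ⟨ψ, -, hfin, -, -⟩ :=
    Groth.Agent.Lib.Helper19.Normalization.exists_finite_injective_mvPowerSeries
      (Λ := k) (R := A) hloc b hbres d hm hdim
  exact ⟨d, ψ, hfin⟩

variable (p : ℕ) [hp : Fact p.Prime] [CharP k p]

/-- `Ω_{A/k}` is a finite module for a complete Noetherian local `k`-algebra with residue field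
finite over `k`, when `[k : k^p] < ∞`. -/
theorem finite_kaehler (hk : (frobenius k p).Finite) : Module.Finite A Ω[A⁄k] := by
  obtain ⟨m, w, hwfin⟩ := exists_finite_mvPowerSeries k A
  letI : Algebra (MvPowerSeries (Fin m) k) A := w.toRingHom.toAlgebra
  haveI : IsScalarTower k (MvPowerSeries (Fin m) k) A :=
    IsScalarTower.of_algebraMap_eq (fun c => (w.commutes c).symm)
  haveI : Module.Finite (MvPowerSeries (Fin m) k) A := RingHom.finite_algebraMap.1 hwfin
  haveI : Module.Finite (MvPowerSeries (Fin m) k) Ω[MvPowerSeries (Fin m) k⁄k] :=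
    Groth.Agent.Lib.Helper19.PsFrob.finite_kaehler k m p hk
  haveI : Module.Finite A (LinearMap.range (KaehlerDifferential.mapBaseChange k
      (MvPowerSeries (Fin m) k) A)) := Module.Finite.range _
  have hex := KaehlerDifferential.exact_mapBaseChange_map k (MvPowerSeries (Fin m) k) A
  have hsurjm : Function.Surjective (KaehlerDifferential.map k (MvPowerSeries (Fin m) k) A A) :=
    KaehlerDifferential.map_surjective k (MvPowerSeries (Fin m) k) A
  let eC : (Ω[A⁄k] ⧸ LinearMap.range (KaehlerDifferential.mapBaseChange k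
      (MvPowerSeries (Fin m) k) A)) ≃ₗ[A] Ω[A⁄MvPowerSeries (Fin m) k] :=
    (Submodule.quotEquivOfEq _ _ (LinearMap.exact_iff.1 hex).symm).trans
      ((KaehlerDifferential.map k (MvPowerSeries (Fin m) k) A A).quotKerEquivOfSurjective hsurjm)
  haveI : Module.Finite A (Ω[A⁄k] ⧸ LinearMap.range (KaehlerDifferential.mapBaseChange k
      (MvPowerSeries (Fin m) k) A)) := Module.Finite.equiv eC.symm
  exact Module.Finite.of_submodule_quotient (LinearMap.range
    (KaehlerDifferential.mapBaseChange k (MvPowerSeries (Fin m) k) A))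

end Finite

section Main

variable (p : ℕ) [hp : Fact p.Prime] (k : Type u) {A : Type u} [Field k] [CharP k p] [CommRing A]
  [IsLocalRing A] [IsNoetherianRing A] [Algebra k A] [IsAdicComplete (maximalIdeal A) A]
  [Module.Finite k (ResidueField A)]

/-- **Fibre rank of `Ω̂` at a geometrically regular prime, characteristic `p`.** -/
theorem finrank_fibre_eq (hk : (frobenius k p).Finite) (P : Ideal A) [P.IsPrime]
    (hP : CAlg.IsGeometricallyRegular k (Localization.AtPrime P)) (d : ℕ)
    (hd : ringKrullDim (A ⧸ P) = d) :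
    Module.finrank P.ResidueField
        (P.ResidueField ⊗[A] AdicCompletion (maximalIdeal A) Ω[A⁄k]) =
      Module.finrank P.ResidueField (CotangentSpace (Localization.AtPrime P)) + d := by
  haveI hΩ : Module.Finite A Ω[A⁄k] := finite_kaehler k A p hk
  haveI : IsAdicComplete (maximalIdeal A) Ω[A⁄k] := Groth.Agent.S3866.result A _ _
  let e1 : Ω[A⁄k] ≃ₗ[A] AdicCompletion (maximalIdeal A) Ω[A⁄k] :=
    AdicCompletion.ofLinearEquiv _ _
  have h1 : Module.finrank P.ResidueField
      (P.ResidueField ⊗[A] AdicCompletion (maximalIdeal A) Ω[A⁄k]) =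
      Module.finrank P.ResidueField (P.ResidueField ⊗[A] Ω[A⁄k]) :=
    (LinearEquiv.baseChange A P.ResidueField _ _ e1).finrank_eq.symm
  let e2 : P.ResidueField ⊗[A] Ω[A⁄k] ≃ₗ[P.ResidueField]
      P.ResidueField ⊗[Localization.AtPrime P] (Localization.AtPrime P ⊗[A] Ω[A⁄k]) :=
    (AlgebraTensorModule.cancelBaseChange A (Localization.AtPrime P) P.ResidueField
      P.ResidueField Ω[A⁄k]).symm
  haveI : Algebra.FormallyEtale A (Localization.AtPrime P) :=
    Algebra.FormallyEtale.of_isLocalization P.primeCompl
  let e3 : Localization.AtPrime P ⊗[A] Ω[A⁄k] ≃ₗ[Localization.AtPrime P]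
      Ω[Localization.AtPrime P⁄k] :=
    KaehlerDifferential.tensorKaehlerEquivOfFormallyEtale k A (Localization.AtPrime P)
  have h2 : Module.finrank P.ResidueField (P.ResidueField ⊗[A] Ω[A⁄k]) =
      Module.finrank P.ResidueField
        (P.ResidueField ⊗[Localization.AtPrime P] Ω[Localization.AtPrime P⁄k]) :=
    e2.finrank_eq.trans (LinearEquiv.baseChange (Localization.AtPrime P) P.ResidueField _ _
      e3).finrank_eq
  have hfs : CAlgX.IsAdicFormallySmooth k (Localization.AtPrime P)
      (maximalIdeal (Localization.AtPrime P)) := (Groth.Agent.S2036.result p).1 hP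
  haveI : Module.Finite (Localization.AtPrime P) Ω[Localization.AtPrime P⁄k] :=
    Module.Finite.equiv e3
  haveI : Module.Finite (ResidueField (Localization.AtPrime P))
      (ResidueField (Localization.AtPrime P) ⊗[Localization.AtPrime P]
        Ω[Localization.AtPrime P⁄k]) := inferInstance
  have h3 := Groth.Agent.Lib.Helper19.CKRank.finrank_fibre_add_imperfection hfs
  -- the quotient `A ⧸ P`
  haveI : IsLocalRing (A ⧸ P) :=
    IsLocalRing.of_surjective' (Ideal.Quotient.mk P) Ideal.Quotient.mk_surjective
  haveI : IsAdicComplete (maximalIdeal (A ⧸ P)) (A ⧸ P) := by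
    rw [Groth.Agent.Lib.Helper5.maximalIdeal_quotient_eq_map]
    exact Groth.Agent.Lib.Helper19.isAdicComplete_quotient_of_isNoetherianRing A (maximalIdeal A) P
  haveI : Module.Finite k (ResidueField (A ⧸ P)) := by
    let f : A →ₐ[k] ResidueField (A ⧸ P) :=
      (IsScalarTower.toAlgHom k (A ⧸ P) (ResidueField (A ⧸ P))).comp (Ideal.Quotient.mkₐ k P)
    have hf : Function.Surjective f :=
      (residue_surjective (R := A ⧸ P)).comp Ideal.Quotient.mk_surjective
    have hker : ∀ a ∈ maximalIdeal A, f a = 0 := by
      intro a ha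
      change residue (A ⧸ P) (Ideal.Quotient.mk P a) = 0
      rw [residue_eq_zero_iff, Groth.Agent.Lib.Helper5.maximalIdeal_quotient_eq_map]
      exact Ideal.mem_map_of_mem _ ha
    haveI : Module.Finite k (A ⧸ maximalIdeal A) := ‹Module.Finite k (ResidueField A)›
    refine Module.Finite.of_surjective (Ideal.Quotient.liftₐ (maximalIdeal A) f hker).toLinearMap ?_
    intro y
    obtain ⟨a, rfl⟩ := hf y
    exact ⟨Ideal.Quotient.mk _ a, rfl⟩
  have h4 := (Groth.Agent.S5989.result p k (A ⧸ P) P.ResidueField hk d hd).1
  rw [h1, h2]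
  change Module.finrank (ResidueField (Localization.AtPrime P))
    (ResidueField (Localization.AtPrime P) ⊗[Localization.AtPrime P]
        Ω[Localization.AtPrime P⁄k]) = _
  have key : ∀ (i : Algebra ℤ (ResidueField (Localization.AtPrime P)))
      (t : @IsScalarTower ℤ k (ResidueField (Localization.AtPrime P)) _ _ i.toSMul),
      Module.finrank (ResidueField (Localization.AtPrime P))
        Ω[ResidueField (Localization.AtPrime P)⁄k] = d + Module.finrank
          (ResidueField (Localization.AtPrime P)) (LinearMap.ker
            (@KaehlerDifferential.mapBaseChange ℤ _ k (ResidueField (Localization.AtPrime P))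
              _ _ _ _ i t)) := by
    intro i
    obtain rfl : i = Ring.toIntAlgebra _ := Subsingleton.elim _ _
    intro t
    exact h4
  have key2 : ∀ a b c d e : ℕ, a + b = e + c → e = d + b → a = c + d := by
    intros; omega
  exact key2 _ _ _ _ _ h3 (key _ _)

end Main

end Groth.Agent.Lib.Helper19.CKJacCp
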