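import Mathlib
import Groth.Agent.Lib.Helper19CKJacC0
import Groth.Agent.Lib.Helper19PsLiftComplete
import Groth.Agent.Lib.Helper19Restricted2
import Groth.Agent.Lib.Helper5RLR

/-!
# Spanning the fibre of `Ω̂` at a prime by conormal generators and parameters (helper19)

Towards Nagata's Jacobian criterion for quotients of power series rings (EGA 0_IV 22.7.3).
-/

set_option autoImplicit false
set_option linter.style.haveILetI false
set_option linter.unusedSectionVars false
universe u

open TensorProduct Module IsLocalRing MvPowerSeries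

namespace Groth.Agent.Lib.Helper19.CKJacSpan

open Groth.Agent.Lib.Helper19.CKJacC0

section Main

variable (k : Type u) {A : Type u} [Field k] [CommRing A] [IsLocalRing A] [IsNoetherianRing A]
  [Algebra k A] [IsAdicComplete (maximalIdeal A) A] [Module.Finite k (ResidueField A)]
  (P : Ideal A) [P.IsPrime]

/-- **Spanning**: if `x` generates `P A_P` and every element of `A` satisfies modulo `P` a
polynomial over `k[[X_1..X_d]]` with nonvanishing derivative, the fibre of `Ω̂` at `P` is spanned by
the `δ x_i` and the `δ X_j`. -/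
theorem span_eq_top_of_sep (d : ℕ) (φ : MvPowerSeries (Fin d) k →ₐ[k] A)
    (hX : ∀ i, φ (X i) ∈ maximalIdeal A)
    (hsep : ∀ a : A, ∃ F : Polynomial (MvPowerSeries (Fin d) k),
      Polynomial.eval₂ φ.toRingHom a F ∈ P ∧
        Polynomial.eval₂ φ.toRingHom a (Polynomial.derivative F) ∉ P)
    {ι : Type*} (x : ι → A) (hxP : ∀ i, x i ∈ P)
    (hx : ∀ y ∈ P, ∃ t, t ∉ P ∧ t * y ∈ Ideal.span (Set.range x)) :
    Submodule.span P.ResidueField (Set.range (Sum.elim (fun i => delta k P (x i))
      (fun j => delta k P (φ (X j))))) = ⊤ := by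
  classical
  haveI : Algebra.EssFiniteType k (ResidueField A) := inferInstance
  haveI hΩfin : Module.Finite A (AdicCompletion (maximalIdeal A) (Ω[A⁄k])) :=
    Groth.Agent.Lib.Helper7.ComplKaehler.finite_adicCompletion_kaehler
  letI : Algebra (MvPowerSeries (Fin d) k) A := φ.toRingHom.toAlgebra
  haveI : IsScalarTower k (MvPowerSeries (Fin d) k) A :=
    IsScalarTower.of_algebraMap_eq (fun c => (φ.commutes c).symm)
  have hloc : ∀ i, algebraMap (MvPowerSeries (Fin d) k) A (X i) ∈ maximalIdeal A := hX
  obtain ⟨L, -, hL⟩ :=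
    Groth.Agent.Lib.Helper19.CKRel.exists_surjective_kaehler_quotient k d (A := A) hloc
  set v : ι ⊕ Fin d → P.ResidueField ⊗[A] AdicCompletion (maximalIdeal A) Ω[A⁄k] :=
    Sum.elim (fun i => delta k P (x i)) (fun j => delta k P (φ (X j))) with hv
  set S := Submodule.span P.ResidueField (Set.range v) with hS
  have hS1 : Submodule.span P.ResidueField (Set.range fun i => delta k P (x i)) ≤ S := by
    apply Submodule.span_mono
    rintro _ ⟨i, rfl⟩
    exact ⟨Sum.inl i, rfl⟩
  have hS2 : ∀ z ∈ Groth.Agent.Lib.Helper19.CKRel.dTSpan k d (A := A),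
      (1 : P.ResidueField) ⊗ₜ[A] z ∈ S := by
    intro z hz
    induction hz using Submodule.span_induction with
    | mem w hw =>
      obtain ⟨j, rfl⟩ := hw
      exact Submodule.subset_span ⟨Sum.inr j, rfl⟩
    | zero => rw [TensorProduct.tmul_zero]; exact zero_mem _
    | add z w _ _ hz hw => rw [TensorProduct.tmul_add]; exact add_mem hz hw
    | smul a z _ hz => rw [one_tmul_smul]; exact Submodule.smul_mem _ _ hz
  have hP : ∀ y ∈ P, delta k P y ∈ S := by
    intro y hy
    obtain ⟨t, ht, hty⟩ := hx y hy
    exact delta_mem_of_mul_mem k P S t y ht hy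
      (hS1 (delta_mem_of_mem_span k P x hxP _ hty))
  have hall : ∀ a : A, delta k P a ∈ S := by
    intro a
    obtain ⟨f, hyP, htP⟩ := hsep a
    have e1 : Polynomial.eval₂ φ.toRingHom a f = Polynomial.aeval a f := rfl
    have e2 : Polynomial.eval₂ φ.toRingHom a (Polynomial.derivative f) =
        Polynomial.aeval a (Polynomial.derivative f) := rfl
    rw [e1] at hyP
    rw [e2] at htP
    have h1 := Derivation.map_aeval (KaehlerDifferential.D (MvPowerSeries (Fin d) k) A) f a
    have h2 := congrArg L h1
    rw [map_smul, hL, hL, ← Submodule.Quotient.mk_smul, Submodule.Quotient.eq] at h2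
    have h3 := hS2 _ h2
    rw [TensorProduct.tmul_sub, one_tmul_smul] at h3
    have h4 : delta k P (Polynomial.aeval a f) ∈ S := hP _ hyP
    have h5 : algebraMap A P.ResidueField (Polynomial.aeval a (Polynomial.derivative f)) •
        delta k P a ∈ S := by
      have := sub_mem h4 h3
      simpa [delta, Groth.Agent.Lib.Helper19.CKUnram.dHat] using this
    have ht0 : algebraMap A P.ResidueField (Polynomial.aeval a (Polynomial.derivative f)) ≠ 0 :=
      fun h0 => htP ((Ideal.algebraMap_residueField_eq_zero (I := P)).1 h0)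
    have := Submodule.smul_mem S
      (algebraMap A P.ResidueField (Polynomial.aeval a (Polynomial.derivative f)))⁻¹ h5
    rwa [smul_smul, inv_mul_cancel₀ ht0, one_smul] at this
  rw [eq_top_iff, ← span_delta k P, Submodule.span_le]
  rintro _ ⟨a, rfl⟩
  exact hall a

/-- lift a finite algebra structure `k[[X_1..X_d]] → A/P` to a `k`-algebra map into `A` -/
theorem exists_lift_algHom (d : ℕ) [Algebra (MvPowerSeries (Fin d) k) (A ⧸ P)]
    [IsScalarTower k (MvPowerSeries (Fin d) k) (A ⧸ P)]
    [Module.Finite (MvPowerSeries (Fin d) k) (A ⧸ P)] :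
    ∃ φ : MvPowerSeries (Fin d) k →ₐ[k] A,
      (∀ g, Ideal.Quotient.mk P (φ g) = algebraMap (MvPowerSeries (Fin d) k) (A ⧸ P) g) ∧
      ∀ i, φ (X i) ∈ maximalIdeal A := by
  haveI : IsLocalRing (A ⧸ P) :=
    IsLocalRing.of_surjective' (Ideal.Quotient.mk P) Ideal.Quotient.mk_surjective
  haveI : IsAdicComplete (maximalIdeal (A ⧸ P)) (A ⧸ P) := by
    rw [Groth.Agent.Lib.Helper5.maximalIdeal_quotient_eq_map]
    exact Groth.Agent.Lib.Helper19.isAdicComplete_quotient_of_isNoetherianRing A (maximalIdeal A) P
  let w : MvPowerSeries (Fin d) k →ₐ[k] A ⧸ P := IsScalarTower.toAlgHom k _ _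
  choose a ha using fun i => Ideal.Quotient.mk_surjective (w (X i))
  have hwX : ∀ i, w (X i) ∈ maximalIdeal (A ⧸ P) := fun i =>
    Groth.Agent.Lib.Helper19.CKRel.algebraMap_mem_maximalIdeal_of_finite d _ (by
      rw [mem_maximalIdeal, mem_nonunits_iff, MvPowerSeries.isUnit_iff_constantCoeff]
      simp)
  have ham : ∀ i, a i ∈ maximalIdeal A := by
    intro i
    rw [mem_maximalIdeal, mem_nonunits_iff]
    intro hu
    have h1 : IsUnit (w (X i)) := by rw [← ha i]; exact hu.map _
    exact (mem_maximalIdeal _).1 (hwX i) h1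
  obtain ⟨φ, hφ⟩ := Groth.Agent.Lib.Helper19.exists_algHom_X_eq_of_isAdicComplete (Λ := k)
    (maximalIdeal A) a ham
  have hcomp : (Ideal.Quotient.mkₐ k P).comp φ = w := by
    apply Groth.Agent.Lib.Helper19.algHom_ext_of_X_of_isHausdorff (maximalIdeal (A ⧸ P))
    · intro i
      rw [AlgHom.comp_apply, hφ, Groth.Agent.Lib.Helper5.maximalIdeal_quotient_eq_map]
      exact Ideal.mem_map_of_mem _ (ham i)
    · intro i
      rw [AlgHom.comp_apply, hφ]
      exact ha i
  refine ⟨φ, fun g => ?_, fun i => by rw [hφ]; exact ham i⟩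
  exact AlgHom.congr_fun hcomp g

end Main

section Cot

variable (k : Type u) {A : Type u} [Field k] [CommRing A] [IsLocalRing A] [IsNoetherianRing A]
  [Algebra k A] [IsAdicComplete (maximalIdeal A) A] [Module.Finite k (ResidueField A)]
  (P : Ideal A) [P.IsPrime]

omit [IsLocalRing A] [IsNoetherianRing A] in
theorem algebraMap_mem_maximalIdeal (y : P) :
    algebraMap A (Localization.AtPrime P) y ∈ maximalIdeal (Localization.AtPrime P) := by
  rw [← IsLocalization.AtPrime.map_eq_maximalIdeal P]
  exact Ideal.mem_map_of_mem _ y.2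

omit [IsLocalRing A] [IsNoetherianRing A] in
theorem smul_cotangent (a : A) (z : CotangentSpace (Localization.AtPrime P)) :
    a • z = algebraMap A P.ResidueField a • z := by
  rw [IsScalarTower.algebraMap_apply A (Localization.AtPrime P) P.ResidueField,
    algebraMap_smul, algebraMap_smul]

/-- the map `P → 𝔪_P/𝔪_P²` -/
noncomputable def cotMap : ↥P →ₗ[A] CotangentSpace (Localization.AtPrime P) where
  toFun y := (maximalIdeal (Localization.AtPrime P)).toCotangent
    ⟨algebraMap A (Localization.AtPrime P) y, algebraMap_mem_maximalIdeal P y⟩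
  map_add' y z := by
    rw [← map_add]
    congr 1
    apply Subtype.ext
    simp
  map_smul' a y := by
    have h : (⟨algebraMap A (Localization.AtPrime P) ((a • y : P) : A),
        algebraMap_mem_maximalIdeal P _⟩ : maximalIdeal (Localization.AtPrime P)) =
        algebraMap A (Localization.AtPrime P) a •
          ⟨algebraMap A (Localization.AtPrime P) (y : A), algebraMap_mem_maximalIdeal P y⟩ :=
      Subtype.ext (by simp [Algebra.smul_def])
    rw [RingHom.id_apply, h, map_smul, algebraMap_smul]

/-- `δ` as a linear map on `P` -/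
noncomputable def deltaLin :
    ↥P →ₗ[A] P.ResidueField ⊗[A] AdicCompletion (maximalIdeal A) Ω[A⁄k] where
  toFun y := delta k P y
  map_add' y z := delta_add k P y z
  map_smul' a y := by
    rw [RingHom.id_apply]
    change delta k P (a * y) = a • delta k P y
    rw [delta_mul_of_mem k P a y y.2, algebraMap_smul]

omit [IsLocalRing A] [IsNoetherianRing A] in
theorem span_cotMap_eq_top {ι : Type*} [Fintype ι] (x : ι → A) (hxP : ∀ i, x i ∈ P)
    (hx : ∀ y ∈ P, ∃ t, t ∉ P ∧ t * y ∈ Ideal.span (Set.range x)) :
    Submodule.span P.ResidueField (Set.range fun i => cotMap P ⟨x i, hxP i⟩) = ⊤ := by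
  rw [eq_top_iff]
  rintro z -
  obtain ⟨w, rfl⟩ := Ideal.toCotangent_surjective _ z
  have hw : (w : Localization.AtPrime P) ∈ P.map (algebraMap A (Localization.AtPrime P)) := by
    rw [IsLocalization.AtPrime.map_eq_maximalIdeal P]
    exact w.2
  obtain ⟨⟨y, s⟩, hys⟩ := (IsLocalization.mem_map_algebraMap_iff P.primeCompl
    (Localization.AtPrime P)).1 hw
  simp only at hys
  obtain ⟨t, ht, hty⟩ := hx y y.2
  obtain ⟨c, hc⟩ := (Submodule.mem_span_range_iff_exists_fun A).1 hty
  have h1 : ((t * (s : A)) • w : maximalIdeal (Localization.AtPrime P)) =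
      ⟨algebraMap A (Localization.AtPrime P) ((⟨t * y, P.mul_mem_left t y.2⟩ : P) : A),
        algebraMap_mem_maximalIdeal P _⟩ := by
    apply Subtype.ext
    change (t * (s : A)) • (w : Localization.AtPrime P) = algebraMap A _ (t * y)
    rw [Algebra.smul_def, map_mul, map_mul, ← hys]
    ring
  have h2 : (⟨t * y, P.mul_mem_left t y.2⟩ : P) = ∑ i, c i • (⟨x i, hxP i⟩ : P) := by
    apply Subtype.ext
    rw [Submodule.coe_sum]
    change t * (y : A) = ∑ i, c i • x i
    rw [hc]
  have h3 : algebraMap A P.ResidueField (t * (s : A)) •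
      (maximalIdeal (Localization.AtPrime P)).toCotangent w =
      ∑ i, algebraMap A P.ResidueField (c i) • cotMap P ⟨x i, hxP i⟩ := by
    rw [← smul_cotangent, ← LinearMap.map_smul_of_tower, h1]
    change cotMap P ⟨t * y, P.mul_mem_left t y.2⟩ = _
    rw [h2, map_sum]
    refine Finset.sum_congr rfl fun i _ => ?_
    rw [map_smul, smul_cotangent]
  have hts : algebraMap A P.ResidueField (t * (s : A)) ≠ 0 := by
    intro h0
    have := (Ideal.algebraMap_residueField_eq_zero (I := P)).1 h0
    rcases (Ideal.IsPrime.mem_or_mem inferInstance this) with h | h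
    · exact ht h
    · exact s.2 h
  have h4 : (maximalIdeal (Localization.AtPrime P)).toCotangent w =
      (algebraMap A P.ResidueField (t * (s : A)))⁻¹ •
        ∑ i, algebraMap A P.ResidueField (c i) • cotMap P ⟨x i, hxP i⟩ := by
    rw [← h3, smul_smul, inv_mul_cancel₀ hts, one_smul]
  rw [h4]
  refine Submodule.smul_mem _ _ (Submodule.sum_mem _ fun i _ => Submodule.smul_mem _ _ ?_)
  exact Submodule.subset_span ⟨i, rfl⟩

/-- the cotangent space of `A_P` maps to the fibre of `Ω̂`, compatibly with `δ` -/
theorem exists_cotangent_map {n : ℕ} (x : Fin n → A) (hxP : ∀ i, x i ∈ P)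
    (hx : ∀ y ∈ P, ∃ t, t ∉ P ∧ t * y ∈ Ideal.span (Set.range x))
    (hn : n = Module.finrank P.ResidueField (CotangentSpace (Localization.AtPrime P))) :
    ∃ Φ : CotangentSpace (Localization.AtPrime P) →ₗ[P.ResidueField]
        (P.ResidueField ⊗[A] AdicCompletion (maximalIdeal A) Ω[A⁄k]),
      (∀ y : P, Φ (cotMap P y) = delta k P y) ∧
      (LinearIndependent P.ResidueField (fun i => delta k P (x i)) → Function.Injective Φ) := by
  classical
  have hspan := span_cotMap_eq_top P x hxP hx
  let b : Module.Basis (Fin n) P.ResidueField (CotangentSpace (Localization.AtPrime P)) :=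
    basisOfTopLeSpanOfCardEqFinrank (fun i => cotMap P ⟨x i, hxP i⟩) hspan.ge
      (by rw [Fintype.card_fin, hn])
  have hb : ∀ i, b i = cotMap P ⟨x i, hxP i⟩ := fun i => by
    simp only [b, coe_basisOfTopLeSpanOfCardEqFinrank]
  let Φ := b.constr P.ResidueField (fun i => delta k P (x i))
  have hΦb : ∀ i, Φ (cotMap P ⟨x i, hxP i⟩) = delta k P (x i) := fun i => by
    rw [← hb, Module.Basis.constr_basis]
  refine ⟨Φ, ?_, ?_⟩
  · intro y
    obtain ⟨t, ht, hty⟩ := hx y y.2
    obtain ⟨c, hc⟩ := (Submodule.mem_span_range_iff_exists_fun A).1 hty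
    have h2 : (t • y : P) = ∑ i, c i • (⟨x i, hxP i⟩ : P) := by
      apply Subtype.ext
      rw [Submodule.coe_sum]
      change t * (y : A) = ∑ i, c i • x i
      rw [hc]
    have hd : ∀ (a : A) (z : P), delta k P ((a • z : P) : A) =
        algebraMap A P.ResidueField a • delta k P z := fun a z =>
      delta_mul_of_mem k P a z z.2
    have h3 : algebraMap A P.ResidueField t • Φ (cotMap P y) =
        algebraMap A P.ResidueField t • delta k P y := by
      have e1 : algebraMap A P.ResidueField t • Φ (cotMap P y) = Φ (cotMap P (t • y)) := by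
        rw [map_smul (cotMap P), smul_cotangent, map_smul]
      have e2 : Φ (cotMap P (t • y)) =
          ∑ i, algebraMap A P.ResidueField (c i) • delta k P (x i) := by
        rw [h2, map_sum, map_sum]
        refine Finset.sum_congr rfl fun i _ => ?_
        rw [map_smul (cotMap P), smul_cotangent, map_smul, hΦb]
      have e3 : deltaLin k P (t • y) =
          ∑ i, algebraMap A P.ResidueField (c i) • delta k P (x i) := by
        rw [h2, map_sum]
        refine Finset.sum_congr rfl fun i _ => ?_
        exact hd (c i) ⟨x i, hxP i⟩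
      have e4 : deltaLin k P (t • y) = algebraMap A P.ResidueField t • delta k P y := hd t y
      rw [e1, e2, ← e3, e4]
    have ht0 : algebraMap A P.ResidueField t ≠ 0 := fun h0 =>
      ht ((Ideal.algebraMap_residueField_eq_zero (I := P)).1 h0)
    have e5 := congrArg (fun w => (algebraMap A P.ResidueField t)⁻¹ • w) h3
    beta_reduce at e5
    rwa [smul_smul, smul_smul, inv_mul_cancel₀ ht0, one_smul, one_smul] at e5
  · intro hli
    rw [injective_iff_map_eq_zero]
    intro v hv
    have h1 : Φ v = ∑ i, b.equivFun v i • delta k P (x i) :=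
      b.constr_apply_fintype P.ResidueField _ v
    rw [hv] at h1
    have h2 := Fintype.linearIndependent_iff.1 hli _ h1.symm
    apply b.equivFun.injective
    funext i
    rw [h2 i, map_zero]
    rfl

end Cot

section Sep

open Polynomial

/-- an element of a domain finite over `R`, with separable fraction field extension, is a root of a
polynomial over `R` whose derivative does not vanish at it -/
theorem exists_aeval_derivative_ne_zero_of_isSeparable {R B L' L : Type*} [CommRing R] [IsDomain R]
    [CommRing B] [IsDomain B] [Algebra R B] [Field L'] [Field L] [Algebra R L']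
    [IsFractionRing R L'] [Algebra B L] [IsFractionRing B L] [Algebra L' L] [Algebra R L]
    [IsScalarTower R B L] [IsScalarTower R L' L] [Algebra.IsSeparable L' L] (b : B) :
    ∃ F : R[X], aeval b F = 0 ∧ aeval b (derivative F) ≠ 0 := by
  have hsep : (minpoly L' (algebraMap B L b)).Separable := Algebra.IsSeparable.isSeparable L' _
  obtain ⟨c, hc, hF⟩ := IsLocalization.integerNormalization_spec (nonZeroDivisors R)
    (minpoly L' (algebraMap B L b))
  set F := IsLocalization.integerNormalization (nonZeroDivisors R)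
    (minpoly L' (algebraMap B L b)) with hFdef
  have h0 : aeval (algebraMap B L b) F = 0 :=
    IsLocalization.integerNormalization_aeval_eq_zero (nonZeroDivisors R) _ (minpoly.aeval L' _)
  have hFsep : (F.map (algebraMap R L')).Separable := by
    rw [hF, Algebra.smul_def, Polynomial.algebraMap_apply]
    refine Separable.unit_mul (Polynomial.isUnit_C.2 (IsUnit.mk0 _ ?_)) hsep
    exact IsFractionRing.to_map_ne_zero_of_mem_nonZeroDivisors hc
  refine ⟨F, ?_, ?_⟩
  · apply IsFractionRing.injective B L
    rw [map_zero, ← Polynomial.aeval_algebraMap_apply, h0]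
  · intro h
    have h1 : aeval (algebraMap B L b) (F.map (algebraMap R L')) = 0 := by
      rw [Polynomial.aeval_map_algebraMap, h0]
    apply hFsep.aeval_derivative_ne_zero h1
    rw [Polynomial.derivative_map, Polynomial.aeval_map_algebraMap,
      Polynomial.aeval_algebraMap_apply, h, map_zero]

end Sep

end Groth.Agent.Lib.Helper19.CKJacSpan
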