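import Mathlib
import Groth.Agent.Lib.Helper19CKUnram
import Groth.Agent.Lib.Helper19CKEtale
import Groth.Agent.Lib.Helper19CKBasis
import Groth.Agent.Lib.Helper19CKGeomReg
import Groth.Agent.Lib.Helper19PsDim

/-!
# EGA 0_IV 22.x: a finite, unramified-at-`p` map `k[[T_1..T_n]] → A` with `n = dim A` is étale at `p`
and `Ω̂_p` is free on the `d̂T_i` (helper19)
-/

set_option autoImplicit false
set_option linter.style.haveILetI false
set_option linter.unusedSectionVars false
universe u

open TensorProduct Module MvPowerSeries IsLocalRing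

namespace Groth.Agent.Lib.Helper19.CKMain

variable (k : Type u) {A : Type u} [Field k] [CommRing A] [IsLocalRing A] [IsNoetherianRing A]
  [Algebra k A] [IsAdicComplete (maximalIdeal A) A] [Module.Finite k (ResidueField A)]

theorem etaleAt_and_free (n : ℕ) [Algebra (MvPowerSeries (Fin n) k) A]
    [IsScalarTower k (MvPowerSeries (Fin n) k) A]
    [IsLocalHom (algebraMap (MvPowerSeries (Fin n) k) A)]
    [Module.Finite (MvPowerSeries (Fin n) k) A]
    (p : Ideal A) [p.IsPrime] (q : Ideal A) (hqmin : q ∈ minimalPrimes A) (hqp : q ≤ p)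
    (hqdim : ringKrullDim (A ⧸ q) = n) [Algebra.IsUnramifiedAt (MvPowerSeries (Fin n) k) p] :
    Algebra.IsEtaleAt (MvPowerSeries (Fin n) k) p ∧
      IsRegularLocalRing (Localization.AtPrime p) ∧
      (Module.Free (Localization.AtPrime p)
        (LocalizedModule p.primeCompl (AdicCompletion (maximalIdeal A) Ω[A⁄k])) ∧
      Module.finrank (Localization.AtPrime p)
        (LocalizedModule p.primeCompl (AdicCompletion (maximalIdeal A) Ω[A⁄k])) = n) := by
  haveI : q.IsPrime := hqmin.1.1
  have hinj := Groth.Agent.Lib.Helper19.CKEtale.injective_algebraMap_quotient_of_dim_le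
    (MvPowerSeries (Fin n) k) A q (by
      rw [Groth.Agent.Lib.Helper19.ringKrullDim_mvPowerSeries, hqdim])
  obtain ⟨hflat, hreg⟩ :=
    Groth.Agent.Lib.Helper19.CKEtale.flat_and_isRegularLocalRing_of_isUnramifiedAt
      (MvPowerSeries (Fin n) k) A q p hqp hinj
  have het := Groth.Agent.Lib.Helper19.CKEtale.isEtaleAt_of_isUnramifiedAt
      (MvPowerSeries (Fin n) k) A q p hqp hinj
  refine ⟨het, hreg, ?_⟩
  haveI : IsDomain (Localization.AtPrime p) :=
    Groth.Agent.Lib.Helper5.isDomain_of_isRegularLocalRing _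
  have hloc : ∀ i, algebraMap (MvPowerSeries (Fin n) k) A (X i) ∈ maximalIdeal A := by
    intro i
    apply map_nonunit
    rw [mem_maximalIdeal, mem_nonunits_iff, MvPowerSeries.isUnit_iff_constantCoeff]
    simp
  have hspan := (Groth.Agent.Lib.Helper19.CKUnram.isUnramifiedAt_iff_span_eq_top k n hloc p).1
    inferInstance
  have hrank := Groth.Agent.Lib.Helper19.CKFibre.le_finrank_fibre (k := k) q n hqdim
  exact Groth.Agent.Lib.Helper19.CKBasis.free_and_finrank_of_span_of_le_finrank
    (AdicCompletion (maximalIdeal A) Ω[A⁄k]) q p hqmin hqp n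
    (fun i => AdicCompletion.of (maximalIdeal A) Ω[A⁄k]
      (KaehlerDifferential.D k A (algebraMap (MvPowerSeries (Fin n) k) A (X i)))) hspan hrank

end Groth.Agent.Lib.Helper19.CKMain
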