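import Mathlib
import Groth.Agent.Lib.Helper19CKJacSpan
import Groth.Agent.Lib.Helper7ComplKaehlerPS
import Groth.Agent.Lib.Helper19PsFrob
import Groth.Agent.Lib.Helper19PsDim
import Groth.Agent.Lib.Helper5IntDim
import Groth.Agent.Lib.Helper6SepBC
import Groth.Agent.Lib.Helper28Unmixed

/-!
# Nagata's Jacobian criterion for quotients of power series rings (EGA 0_IV 22.7.3) (helper19)
-/

set_option autoImplicit false
set_option linter.style.haveILetI false
set_option linter.unusedSectionVars false
universe u

open TensorProduct Module IsLocalRing MvPowerSeries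

namespace Groth.Agent.Lib.Helper19.CKNagata

section Matrix

/-- from an `r × m` matrix over `R` whose columns are independent modulo `p`, an `m × r` matrix
`H` with `det (H N) ∉ p` -/
theorem exists_matrix_det_notMem {R : Type*} [CommRing R] (p : Ideal R) [p.IsPrime] {m r : ℕ}
    (N : Matrix (Fin r) (Fin m) R)
    (hli : LinearIndependent p.ResidueField
      (fun j : Fin m => fun l : Fin r => algebraMap R p.ResidueField (N l j))) :
    ∃ H : Matrix (Fin m) (Fin r) R, (H * N).det ∉ p := by
  classical
  let u : Fin m → (Fin r → p.ResidueField) := fun j l => algebraMap R p.ResidueField (N l j)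
  let f : (Fin m → p.ResidueField) →ₗ[p.ResidueField] (Fin r → p.ResidueField) :=
    Fintype.linearCombination p.ResidueField u
  have hker : LinearMap.ker f = ⊥ := by
    rw [LinearMap.ker_eq_bot, injective_iff_map_eq_zero]
    intro c hc
    have h1 : ∑ j, c j • u j = 0 := by
      rw [← hc]; exact (Fintype.linearCombination_apply p.ResidueField u c).symm
    funext j
    exact Fintype.linearIndependent_iff.1 hli c h1 j
  obtain ⟨g, hg⟩ := f.exists_leftInverse_of_injective hker
  let G : Matrix (Fin m) (Fin r) p.ResidueField := LinearMap.toMatrix' g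
  have hf : LinearMap.toMatrix' f = N.map (algebraMap R p.ResidueField) := by
    ext l j
    rw [LinearMap.toMatrix'_apply, Matrix.map_apply]
    change Fintype.linearCombination p.ResidueField u (Pi.single j 1) l = _
    rw [Fintype.linearCombination_apply_single, one_smul]
  have hGN : G * N.map (algebraMap R p.ResidueField) = 1 := by
    rw [← hf, ← LinearMap.toMatrix'_comp, hg, LinearMap.toMatrix'_id]
  obtain ⟨b, hb⟩ := IsLocalization.exist_integer_multiples_of_finite (nonZeroDivisors (R ⧸ p))
    (fun x : Fin m × Fin r => G x.1 x.2)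
  choose H' hH' using hb
  choose H hH using fun x : Fin m × Fin r => Ideal.Quotient.mk_surjective (H' x)
  set β : p.ResidueField := algebraMap (R ⧸ p) p.ResidueField b with hβ
  have hβ0 : β ≠ 0 := IsFractionRing.to_map_ne_zero_of_mem_nonZeroDivisors b.2
  have hHmap : (Matrix.of fun i l => H (i, l)).map (algebraMap R p.ResidueField) = β • G := by
    ext i l
    rw [Matrix.map_apply, Matrix.of_apply, Matrix.smul_apply,
      IsScalarTower.algebraMap_apply R (R ⧸ p) p.ResidueField]
    change algebraMap (R ⧸ p) p.ResidueField (Ideal.Quotient.mk p (H (i, l))) = _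
    rw [hH, hH', Algebra.smul_def, smul_eq_mul]
  refine ⟨Matrix.of fun i l => H (i, l), fun hdet => ?_⟩
  have h1 : algebraMap R p.ResidueField ((Matrix.of fun i l => H (i, l)) * N).det = 0 :=
    (Ideal.algebraMap_residueField_eq_zero (I := p)).2 hdet
  rw [RingHom.map_det, RingHom.mapMatrix_apply, Matrix.map_mul, hHmap, Matrix.smul_mul, hGN,
    Matrix.det_smul, Matrix.det_one, mul_one, Fintype.card_fin] at h1
  exact hβ0 (eq_zero_of_pow_eq_zero h1)

end Matrix

section PS

open Groth.Agent.Lib.Helper19.CKJacC0 Groth.Agent.Lib.Helper19.CKJacSpan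
open Groth.Agent.Lib.Helper7.ComplKaehler

variable (k : Type u) [Field k] (r : ℕ) (p : Ideal (MvPowerSeries (Fin r) k)) [p.IsPrime]

instance : Module.Finite k (ResidueField (MvPowerSeries (Fin r) k)) :=
  Groth.Agent.Lib.Helper19.PsFrob.finite_residueField_mvPowerSeries k r

/-- the fibre of `Ω̂_{k[[T]]/k}` at a prime has dimension `r` -/
theorem finrank_fibre_ps :
    Module.finrank p.ResidueField (p.ResidueField ⊗[MvPowerSeries (Fin r) k]
      AdicCompletion (maximalIdeal (MvPowerSeries (Fin r) k)) Ω[MvPowerSeries (Fin r) k⁄k]) = r := by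
  let e1 := LinearEquiv.baseChange (MvPowerSeries (Fin r) k) p.ResidueField _ _ (psiEquiv k r).symm
  let e2 := TensorProduct.piScalarRight (MvPowerSeries (Fin r) k) p.ResidueField p.ResidueField
    (Fin r)
  rw [(e1.trans e2).finrank_eq, Module.finrank_fin_fun]

/-- coordinates on the fibre given by the partial derivatives -/
theorem exists_coord :
    ∃ Λ : (p.ResidueField ⊗[MvPowerSeries (Fin r) k]
        AdicCompletion (maximalIdeal (MvPowerSeries (Fin r) k)) Ω[MvPowerSeries (Fin r) k⁄k])
          →ₗ[p.ResidueField] (Fin r → p.ResidueField),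
      Function.Injective Λ ∧ ∀ (f : MvPowerSeries (Fin r) k) (l : Fin r),
        Λ (delta k p f) l = algebraMap (MvPowerSeries (Fin r) k) p.ResidueField
          (MvPowerSeries.pderiv k l f) := by
  classical
  have hL : ∀ l : Fin r, ∃ L : AdicCompletion (maximalIdeal (MvPowerSeries (Fin r) k))
      Ω[MvPowerSeries (Fin r) k⁄k] →ₗ[MvPowerSeries (Fin r) k] MvPowerSeries (Fin r) k,
      ∀ a, L (AdicCompletion.of _ _ (KaehlerDifferential.D k _ a)) =
        MvPowerSeries.pderiv k l a := fun l =>
    Groth.Agent.Lib.Helper19.CKSeq.exists_lift_of_finite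
      (maximalIdeal (MvPowerSeries (Fin r) k)) (MvPowerSeries.pderiv k l)
  choose L hL using hL
  let lam : Fin r → ((p.ResidueField ⊗[MvPowerSeries (Fin r) k]
        AdicCompletion (maximalIdeal (MvPowerSeries (Fin r) k)) Ω[MvPowerSeries (Fin r) k⁄k])
          →ₗ[p.ResidueField] p.ResidueField) := fun l =>
    LinearMap.liftBaseChange p.ResidueField
      ((Algebra.linearMap (MvPowerSeries (Fin r) k) p.ResidueField) ∘ₗ L l)
  let Λ := LinearMap.pi lam
  have hΛ : ∀ (f : MvPowerSeries (Fin r) k) (l : Fin r),
      Λ (delta k p f) l = algebraMap (MvPowerSeries (Fin r) k) p.ResidueField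
        (MvPowerSeries.pderiv k l f) := by
    intro f l
    change lam l ((1 : p.ResidueField) ⊗ₜ[MvPowerSeries (Fin r) k]
      Groth.Agent.Lib.Helper19.CKUnram.dHat k f) = _
    rw [LinearMap.liftBaseChange_tmul, one_smul, LinearMap.comp_apply]
    change algebraMap _ _ (L l (AdicCompletion.of _ _ (KaehlerDifferential.D k _ f))) = _
    rw [hL]
  refine ⟨Λ, ?_, hΛ⟩
  have hsurj : Function.Surjective Λ := by
    intro c
    refine ⟨∑ l, c l • delta k p (X l), ?_⟩
    funext l'
    rw [map_sum, Finset.sum_apply]
    simp only [map_smul, Pi.smul_apply, hΛ, MvPowerSeries.pderiv_X, smul_eq_mul]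
    rw [Finset.sum_eq_single l']
    · simp
    · intro l _ hll
      simp [Pi.single_apply, hll]
    · intro h; exact absurd (Finset.mem_univ l') h
  haveI : Module.Finite p.ResidueField (p.ResidueField ⊗[MvPowerSeries (Fin r) k]
      AdicCompletion (maximalIdeal (MvPowerSeries (Fin r) k)) Ω[MvPowerSeries (Fin r) k⁄k]) :=
    Module.Finite.equiv ((LinearEquiv.baseChange (MvPowerSeries (Fin r) k) p.ResidueField _ _
      (psiEquiv k r).symm).trans (TensorProduct.piScalarRight (MvPowerSeries (Fin r) k)
        p.ResidueField p.ResidueField (Fin r))).symm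
  exact (LinearMap.injective_iff_surjective_of_finrank_eq_finrank
    (by rw [finrank_fibre_ps, Module.finrank_fin_fun])).2 hsurj

section Sep

variable (s : ℕ) [Algebra (MvPowerSeries (Fin s) k) (MvPowerSeries (Fin r) k ⧸ p)]
    [IsScalarTower k (MvPowerSeries (Fin s) k) (MvPowerSeries (Fin r) k ⧸ p)]
    [Module.Finite (MvPowerSeries (Fin s) k) (MvPowerSeries (Fin r) k ⧸ p)]
    (hinj : Function.Injective (algebraMap (MvPowerSeries (Fin s) k) (MvPowerSeries (Fin r) k ⧸ p)))

include hinj in
/-- **Key step of Nagata's criterion**: elements of `p` independent in the cotangent space of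
`A_p` have independent gradients modulo `p`. -/
theorem linearIndependent_pderiv (L' L : Type u) [Field L'] [Field L]
    [Algebra (MvPowerSeries (Fin s) k) L'] [IsFractionRing (MvPowerSeries (Fin s) k) L']
    [Algebra (MvPowerSeries (Fin r) k ⧸ p) L] [IsFractionRing (MvPowerSeries (Fin r) k ⧸ p) L]
    [Algebra L' L] [Algebra (MvPowerSeries (Fin s) k) L]
    [IsScalarTower (MvPowerSeries (Fin s) k) (MvPowerSeries (Fin r) k ⧸ p) L]
    [IsScalarTower (MvPowerSeries (Fin s) k) L' L] [Algebra.IsSeparable L' L]
    {m : ℕ} (f : Fin m → MvPowerSeries (Fin r) k)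
    (hf : ∀ j, f j ∈ p)
    (hli : LinearIndependent p.ResidueField (fun j => cotMap p ⟨f j, hf j⟩)) :
    LinearIndependent p.ResidueField (fun j : Fin m => fun l : Fin r =>
      algebraMap (MvPowerSeries (Fin r) k) p.ResidueField (MvPowerSeries.pderiv k l (f j))) := by
  classical
  haveI : IsDomain (MvPowerSeries (Fin s) k) := NoZeroDivisors.to_isDomain _
  obtain ⟨x, hxP, hx⟩ := exists_generators p
  obtain ⟨φ, hφ, hX⟩ := exists_lift_algHom k p s
  have hcomp : algebraMap (MvPowerSeries (Fin s) k) (MvPowerSeries (Fin r) k ⧸ p) =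
      (Ideal.Quotient.mk p).comp φ.toRingHom := RingHom.ext fun g => (hφ g).symm
  have hmk : ∀ (a : MvPowerSeries (Fin r) k) (G : Polynomial (MvPowerSeries (Fin s) k)),
      Ideal.Quotient.mk p (Polynomial.eval₂ φ.toRingHom a G) =
        Polynomial.aeval (Ideal.Quotient.mk p a) G := by
    intro a G
    rw [Polynomial.hom_eval₂, Polynomial.aeval_def, hcomp]
  have hsep : ∀ a : MvPowerSeries (Fin r) k, ∃ F : Polynomial (MvPowerSeries (Fin s) k),
      Polynomial.eval₂ φ.toRingHom a F ∈ p ∧
        Polynomial.eval₂ φ.toRingHom a (Polynomial.derivative F) ∉ p := by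
    intro a
    obtain ⟨F, hF, hF'⟩ := exists_aeval_derivative_ne_zero_of_isSeparable
      (R := MvPowerSeries (Fin s) k) (B := MvPowerSeries (Fin r) k ⧸ p) (L' := L') (L := L)
      (Ideal.Quotient.mk p a)
    refine ⟨F, ?_, ?_⟩
    · rw [← Ideal.Quotient.eq_zero_iff_mem, hmk, hF]
    · rw [← Ideal.Quotient.eq_zero_iff_mem, hmk]
      exact hF'
  have hspan := span_eq_top_of_sep k p s φ hX hsep x hxP hx
  -- dimension count
  haveI : IsRegularRing (MvPowerSeries (Fin r) k) :=
    Groth.Agent.Lib.Helper6.SepBC.isRegularRing_of_isRegularLocalRing _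
  have hreg : IsRegularLocalRing (Localization.AtPrime p) :=
    IsRegularRing.isRegularLocalRing_localization p
  have hcot : (Module.finrank p.ResidueField (CotangentSpace (Localization.AtPrime p)) :
      WithBot ℕ∞) = ringKrullDim (Localization.AtPrime p) :=
    (IsRegularLocalRing.iff_finrank_cotangentSpace (Localization.AtPrime p)).1 hreg
  have hht : ringKrullDim (Localization.AtPrime p) = p.height :=
    IsLocalization.AtPrime.ringKrullDim_eq_height p (Localization.AtPrime p)
  have hdimq : ringKrullDim (MvPowerSeries (Fin r) k ⧸ p) = s := by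
    rw [Groth.Agent.Lib.Helper5.ringKrullDim_eq_of_isIntegral_of_injective
      (MvPowerSeries (Fin s) k) (MvPowerSeries (Fin r) k ⧸ p) hinj,
      Groth.Agent.Lib.Helper19.ringKrullDim_mvPowerSeries]
  have hle := Groth.Agent.Lib.Helper28.height_add_ringKrullDim_quotient_le p
    (Ideal.IsPrime.ne_top inferInstance)
  rw [hdimq, Groth.Agent.Lib.Helper19.ringKrullDim_mvPowerSeries, ← hht, ← hcot] at hle
  have hle' : Module.finrank p.ResidueField (CotangentSpace (Localization.AtPrime p)) + s ≤ r := by
    exact_mod_cast hle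
  have hge : r ≤ Module.finrank p.ResidueField (CotangentSpace (Localization.AtPrime p)) + s := by
    have h1 := finrank_range_le_card (R := p.ResidueField)
      (Sum.elim (fun i => delta k p (x i)) (fun j => delta k p (φ (X j))))
    rw [Set.finrank, hspan, finrank_top, finrank_fibre_ps, Fintype.card_sum, Fintype.card_fin,
      Fintype.card_fin] at h1
    exact h1
  have hliv : LinearIndependent p.ResidueField
      (Sum.elim (fun i => delta k p (x i)) (fun j => delta k p (φ (X j)))) := by
    apply linearIndependent_of_top_le_span_of_card_eq_finrank hspan.ge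
    rw [finrank_fibre_ps, Fintype.card_sum, Fintype.card_fin, Fintype.card_fin]
    omega
  have hlix : LinearIndependent p.ResidueField (fun i => delta k p (x i)) :=
    hliv.comp Sum.inl Sum.inl_injective
  obtain ⟨Φ, hΦ, hΦinj⟩ := exists_cotangent_map k p x hxP hx rfl
  have hδf : LinearIndependent p.ResidueField (fun j => delta k p (f j)) := by
    have h1 := hli.map' Φ (LinearMap.ker_eq_bot.2 (hΦinj hlix))
    have h2 : (Φ ∘ fun j => cotMap p ⟨f j, hf j⟩) = fun j => delta k p (f j) := by
      funext j
      exact hΦ ⟨f j, hf j⟩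
    rwa [h2] at h1
  obtain ⟨Λ, hΛinj, hΛ⟩ := exists_coord k r p
  have h3 := hδf.map' Λ (LinearMap.ker_eq_bot.2 hΛinj)
  have h4 : (Λ ∘ fun j => delta k p (f j)) = fun j : Fin m => fun l : Fin r =>
      algebraMap (MvPowerSeries (Fin r) k) p.ResidueField (MvPowerSeries.pderiv k l (f j)) := by
    funext j l
    exact hΛ (f j) l
  rwa [h4] at h3

end Sep

end PS

end Groth.Agent.Lib.Helper19.CKNagata
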