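import Groth.Agent.Lib.Helper19GRMain
import Groth.Agent.S2035

/-!
# Formal smoothness over a field and Kähler differentials over `ℤ` (EGA 0_IV 22.5.8, S2471)
(helper19)
-/

set_option autoImplicit false
set_option linter.style.haveILetI false
set_option linter.unusedSectionVars false
universe u

namespace Groth.Agent.Lib.Helper19.GR

open IsLocalRing TensorProduct

section extension

variable {k A : Type u} [Field k] [CommRing A] [IsLocalRing A] [Algebra k A]

/-- the twisted ring map `k → K[ε]`, `c ↦ c̄ + d(c) ε` -/
noncomputable def twist (d : Derivation ℤ k (ResidueField A)) :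
    k →+* TrivSqZeroExt (ResidueField A) (ResidueField A) where
  toFun c := TrivSqZeroExt.inl (algebraMap k (ResidueField A) c) + TrivSqZeroExt.inr (d c)
  map_one' := by
    rw [map_one, d.map_one_eq_zero, TrivSqZeroExt.inr_zero, add_zero, TrivSqZeroExt.inl_one]
  map_zero' := by
    rw [map_zero, map_zero, TrivSqZeroExt.inr_zero, add_zero, TrivSqZeroExt.inl_zero]
  map_add' a b := by
    rw [map_add, map_add, TrivSqZeroExt.inl_add, TrivSqZeroExt.inr_add]
    abel
  map_mul' a b := by
    apply TrivSqZeroExt.ext
    · simp
    · simp only [TrivSqZeroExt.snd_add, TrivSqZeroExt.snd_inl, TrivSqZeroExt.snd_inr, zero_add,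
        TrivSqZeroExt.snd_mul, TrivSqZeroExt.fst_add, TrivSqZeroExt.fst_inl,
        TrivSqZeroExt.fst_inr, add_zero, Derivation.leibniz, MulOpposite.smul_eq_mul_unop,
        MulOpposite.unop_op, smul_eq_mul, Algebra.smul_def]
      ring

theorem twist_fst (d : Derivation ℤ k (ResidueField A)) (c : k) :
    (twist d c).fst = algebraMap k (ResidueField A) c := by
  simp [twist]

theorem twist_snd (d : Derivation ℤ k (ResidueField A)) (c : k) :
    (twist d c).snd = d c := by
  simp [twist]

/-- a formally smooth local algebra over a field: every derivation of the field with values in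
the residue field extends -/
theorem exists_derivation_extension (h : CAlgX.IsAdicFormallySmooth k A (maximalIdeal A))
    (d : Derivation ℤ k (ResidueField A)) :
    ∃ D : Derivation ℤ A (ResidueField A), ∀ c, D (algebraMap k A c) = d c := by
  letI : Algebra k (TrivSqZeroExt (ResidueField A) (ResidueField A)) := (twist d).toAlgebra
  have halg : ∀ c, algebraMap k (TrivSqZeroExt (ResidueField A) (ResidueField A)) c =
      twist d c := fun c => rfl
  let J : Ideal (TrivSqZeroExt (ResidueField A) (ResidueField A)) :=
    RingHom.ker (TrivSqZeroExt.fstHom (ResidueField A) (ResidueField A) (ResidueField A)).toRingHom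
  have hJmem : ∀ z, z ∈ J ↔ z.fst = 0 := fun z => by
    change (TrivSqZeroExt.fstHom (ResidueField A) (ResidueField A) (ResidueField A)) z = 0 ↔ _
    rfl
  have hJ : J ^ 2 = ⊥ := by
    rw [eq_bot_iff, pow_two, Ideal.mul_le]
    intro a ha b hb
    rw [hJmem] at ha hb
    rw [Ideal.mem_bot]
    apply TrivSqZeroExt.ext
    · simp [ha, hb]
    · simp [ha, hb]
  let ψ : A →ₐ[k] TrivSqZeroExt (ResidueField A) (ResidueField A) ⧸ J :=
    { toRingHom := (Ideal.Quotient.mk J).comp
        ((TrivSqZeroExt.inlHom (ResidueField A) (ResidueField A)).comp (residue A))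
      commutes' := fun c => by
        change Ideal.Quotient.mk J (TrivSqZeroExt.inl (residue A (algebraMap k A c))) =
          Ideal.Quotient.mk J (twist d c)
        rw [Ideal.Quotient.eq, hJmem, TrivSqZeroExt.fst_sub, twist_fst, TrivSqZeroExt.fst_inl]
        exact sub_self _ }
  have hψ : ∀ a, ψ a = Ideal.Quotient.mk J (TrivSqZeroExt.inl (residue A a)) := fun a => rfl
  obtain ⟨χ, hχ⟩ := h _ J hJ ψ ⟨1, fun x hx => by
    rw [pow_one] at hx
    rw [hψ, (residue_eq_zero_iff x).2 hx, TrivSqZeroExt.inl_zero, map_zero]⟩
  have hχfst : ∀ a, (χ a).fst = residue A a := by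
    intro a
    have h1 : Ideal.Quotient.mk J (χ a) = ψ a := congrArg (fun g => g a) hχ
    rw [hψ, Ideal.Quotient.eq, hJmem, TrivSqZeroExt.fst_sub, TrivSqZeroExt.fst_inl,
      sub_eq_zero] at h1
    exact h1
  let D₀ : A →ₗ[ℤ] ResidueField A :=
    ((TrivSqZeroExt.sndHom (ResidueField A) (ResidueField A)).toAddMonoidHom.comp
      (χ : A →+* _).toAddMonoidHom).toIntLinearMap
  have hD₀ : ∀ a, D₀ a = (χ a).snd := fun a => rfl
  refine ⟨Derivation.mk' D₀ ?_, fun c => ?_⟩
  · intro a b
    rw [hD₀, hD₀, hD₀, map_mul, TrivSqZeroExt.snd_mul, hχfst, hχfst,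
      MulOpposite.smul_eq_mul_unop, MulOpposite.unop_op, smul_eq_mul, Algebra.smul_def,
      Algebra.smul_def]
    change residue A a * _ + _ * residue A b = residue A a * _ + residue A b * _
    ring
  · change D₀ (algebraMap k A c) = d c
    rw [hD₀, χ.commutes, halg, twist_snd]

/-- if every derivation `k → K` extends to `A`, then `Ω_{k/ℤ} ⊗ K → Ω_{A/ℤ} ⊗ K` is
injective -/
theorem injective_lTensor_of_extension
    (hext : ∀ d : Derivation ℤ k (ResidueField A),
      ∃ D : Derivation ℤ A (ResidueField A), ∀ c, D (algebraMap k A c) = d c) :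
    Function.Injective ((KaehlerDifferential.mapBaseChange ℤ k A).lTensor (ResidueField A)) := by
  rw [injective_iff_map_eq_zero]
  intro v hv
  rw [← Module.forall_dual_apply_eq_zero_iff (ResidueField A)]
  intro φ
  let d : Derivation ℤ k (ResidueField A) :=
    (AlgebraTensorModule.curry ((AlgebraTensorModule.curry φ) 1) 1).compDer
      (KaehlerDifferential.D ℤ k)
  have hd : ∀ c, d c = φ (1 ⊗ₜ (1 ⊗ₜ KaehlerDifferential.D ℤ k c)) := fun c => rfl
  obtain ⟨D, hD⟩ := hext d
  let ℓ : ResidueField A ⊗[A] Ω[A⁄ℤ] →ₗ[ResidueField A] ResidueField A :=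
    LinearMap.liftBaseChange (ResidueField A) D.liftKaehlerDifferential
  have key : ℓ ∘ₗ (LinearMap.baseChange (ResidueField A)
      (KaehlerDifferential.mapBaseChange ℤ k A)) = φ := by
    ext c
    simp only [AlgebraTensorModule.curry_apply, LinearMap.restrictScalars_comp, curry_apply,
      LinearMap.coe_comp, LinearMap.coe_restrictScalars, Function.comp_apply,
      Derivation.coe_comp, LinearMap.baseChange_tmul,
      KaehlerDifferential.mapBaseChange_tmul, one_smul, ℓ,
      LinearMap.liftBaseChange_tmul]
    change D.liftKaehlerDifferential ((KaehlerDifferential.map ℤ ℤ k A)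
      (KaehlerDifferential.D ℤ k c)) = φ (1 ⊗ₜ (1 ⊗ₜ KaehlerDifferential.D ℤ k c))
    rw [KaehlerDifferential.map_D, Derivation.liftKaehlerDifferential_comp_D, hD, hd]
  have h1 : φ v = ℓ (LinearMap.baseChange (ResidueField A)
      (KaehlerDifferential.mapBaseChange ℤ k A) v) := by
    rw [← key]; rfl
  rw [h1, LinearMap.baseChange_eq_ltensor, hv, map_zero]

/-- if `Ω_{k/ℤ} ⊗ K → Ω_{A/ℤ} ⊗ K` is injective, every derivation `k → K` extends to `A` -/
theorem exists_extension_of_injective
    (hinj : Function.Injective
      ((KaehlerDifferential.mapBaseChange ℤ k A).lTensor (ResidueField A)))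
    (d : Derivation ℤ k (ResidueField A)) :
    ∃ D : Derivation ℤ A (ResidueField A), ∀ c, D (algebraMap k A c) = d c := by
  have hinj' : Function.Injective (LinearMap.baseChange (ResidueField A)
      (KaehlerDifferential.mapBaseChange ℤ k A)) := by
    intro a b hab
    apply hinj
    rw [← LinearMap.baseChange_eq_ltensor]
    exact hab
  obtain ⟨g, hg⟩ := LinearMap.exists_leftInverse_of_injective _ (LinearMap.ker_eq_bot.2 hinj')
  let φ : ResidueField A ⊗[A] (A ⊗[k] Ω[k⁄ℤ]) →ₗ[ResidueField A] ResidueField A :=
    LinearMap.liftBaseChange (ResidueField A)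
      (LinearMap.liftBaseChange A d.liftKaehlerDifferential)
  let ℓ : ResidueField A ⊗[A] Ω[A⁄ℤ] →ₗ[ResidueField A] ResidueField A := φ ∘ₗ g
  let D : Derivation ℤ A (ResidueField A) :=
    ((ℓ.restrictScalars A) ∘ₗ (TensorProduct.mk A (ResidueField A) Ω[A⁄ℤ] 1)).compDer
      (KaehlerDifferential.D ℤ A)
  have hDdef : ∀ a, D a = ℓ (1 ⊗ₜ KaehlerDifferential.D ℤ A a) := fun a => rfl
  refine ⟨D, fun c => ?_⟩
  have h1 : (1 : ResidueField A) ⊗ₜ[A] KaehlerDifferential.D ℤ A (algebraMap k A c) =
      LinearMap.baseChange (ResidueField A) (KaehlerDifferential.mapBaseChange ℤ k A)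
        (1 ⊗ₜ (1 ⊗ₜ KaehlerDifferential.D ℤ k c)) := by
    rw [LinearMap.baseChange_tmul, KaehlerDifferential.mapBaseChange_tmul, one_smul,
      KaehlerDifferential.map_D]
  have h2 : ∀ v, g (LinearMap.baseChange (ResidueField A)
      (KaehlerDifferential.mapBaseChange ℤ k A) v) = v := fun v =>
    LinearMap.congr_fun hg v
  rw [hDdef, h1]
  change φ (g _) = _
  rw [h2]
  simp only [φ, LinearMap.liftBaseChange_tmul, one_smul,
    Derivation.liftKaehlerDifferential_comp_D]

/-- extensions of derivations over `ℤ` give extensions of derivations over any base -/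
theorem exists_derivation_extension_base {F : Type u} [CommRing F] [Algebra F k] [Algebra F A]
    [IsScalarTower F k A]
    (hext : ∀ d : Derivation ℤ k (ResidueField A),
      ∃ D : Derivation ℤ A (ResidueField A), ∀ c, D (algebraMap k A c) = d c)
    (d : Derivation F k (ResidueField A)) :
    ∃ D : Derivation F A (ResidueField A), ∀ c, D (algebraMap k A c) = d c := by
  obtain ⟨D, hD⟩ := hext (d.restrictScalars ℤ)
  have hD' : ∀ c, D (algebraMap k A c) = d c := hD
  have hF : ∀ f : F, D (algebraMap F A f) = 0 := by
    intro f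
    rw [IsScalarTower.algebraMap_apply F k A, hD', d.map_algebraMap]
  refine ⟨{ toLinearMap :=
              { toFun := D
                map_add' := map_add D
                map_smul' := fun f a => ?_ }
            map_one_eq_zero' := D.map_one_eq_zero
            leibniz' := D.leibniz }, hD'⟩
  rw [Algebra.smul_def, D.leibniz, hF, smul_zero, add_zero, algebraMap_smul, RingHom.id_apply]

end extension

section criterion

open Groth.Agent.Lib.Helper19.FSLocalField Groth.Agent.Lib.Helper7.PPow

variable {F k A : Type u} [Field F] [Field k] [CommRing A] [IsLocalRing A] [IsNoetherianRing A]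
  [Algebra F k] [Algebra k A] [Algebra F A] [IsScalarTower F k A]

/-- a local algebra formally smooth over `F` in which derivations of `k` extend is formally
smooth over `k` -/
theorem isAdicFormallySmooth_of_extension_aux (p : ℕ) [Fact p.Prime] [CharP k p]
    (hAF : CAlgX.IsAdicFormallySmooth F A (maximalIdeal A))
    (hext : ∀ d : Derivation ℤ k (ResidueField A),
      ∃ D : Derivation ℤ A (ResidueField A), ∀ c, D (algebraMap k A c) = d c) :
    CAlgX.IsAdicFormallySmooth k A (maximalIdeal A) := by
  classical
  obtain ⟨ι, x, hx⟩ := PBasis.exists_isPBasis_field p F k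
  have hli : LinearIndependent (ResidueField A)
      (fun i => (1 : ResidueField A) ⊗ₜ[A]
        KaehlerDifferential.D F A (algebraMap k A (x i))) := by
    rw [linearIndependent_iff']
    intro s g hg i₀ hi₀
    obtain ⟨L, hL⟩ := exists_dual_of_isPBasis p x hx i₀
    let d : Derivation F k (ResidueField A) :=
      ((Algebra.linearMap k (ResidueField A)) ∘ₗ L).compDer (KaehlerDifferential.D F k)
    have hd : ∀ i, d (x i) = if i₀ = i then 1 else 0 := by
      intro i
      change algebraMap k (ResidueField A) (L (KaehlerDifferential.D F k (x i))) = _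
      rw [hL]
      split_ifs
      · exact map_one _
      · exact map_zero _
    obtain ⟨D', hD'⟩ := exists_derivation_extension_base hext d
    let ℓ : ResidueField A ⊗[A] Ω[A⁄F] →ₗ[ResidueField A] ResidueField A :=
      LinearMap.liftBaseChange (ResidueField A) D'.liftKaehlerDifferential
    have hℓ : ∀ a : A, ℓ ((1 : ResidueField A) ⊗ₜ[A] KaehlerDifferential.D F A a) = D' a := by
      intro a
      simp only [ℓ, LinearMap.liftBaseChange_tmul, one_smul,
        Derivation.liftKaehlerDifferential_comp_D]
    have h1 := congrArg ℓ hg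
    rw [map_sum, map_zero] at h1
    simp only [map_smul, hℓ, hD', hd, smul_eq_mul, mul_ite, mul_one, mul_zero] at h1
    rwa [Finset.sum_ite_eq s i₀, if_pos hi₀] at h1
  have hfs : EGA41.IsFormallySmoothAdic F ⊥ A (maximalIdeal A) :=
    (isAdicFormallySmooth_iff_isFormallySmoothAdic_bot _).1 hAF
  exact isAdicFormallySmooth_of_dual_derivations p hAF x hx.2
    (fun ν => exists_derivation_finsupp_of_linearIndependent hfs
      (fun i => algebraMap k A (x i)) hli ν)

end criterion

section S2471

open Groth.Agent.Lib.Helper19.FSLocalField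

/-- **EGA 0_IV 22.5.8** (S2471): formal smoothness over a field in terms of regularity and
Kähler differentials over `ℤ` -/
theorem isAdicFormallySmooth_iff_regular_and_injective {k A : Type u} [Field k] [CommRing A]
    [IsLocalRing A] [IsNoetherianRing A] [Algebra k A] :
    CAlgX.IsAdicFormallySmooth k A (maximalIdeal A) ↔
      (IsRegularLocalRing A ∧ Function.Injective
        ((KaehlerDifferential.mapBaseChange ℤ k A).lTensor (ResidueField A))) := by
  constructor
  · intro h
    exact ⟨(Groth.Agent.Lib.Helper19.FSGeomReg.isRegular_and_completion_of_isAdicFormallySmooth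
      h).1, injective_lTensor_of_extension (exists_derivation_extension h)⟩
  · rintro ⟨hreg, hinj⟩
    obtain ⟨p, hp⟩ := CharP.exists k
    rcases CharP.char_is_prime_or_zero k p with hpp | rfl
    · haveI : Fact p.Prime := ⟨hpp⟩
      letI : Algebra (ZMod p) k := ZMod.algebra k p
      letI : Algebra (ULift.{u} (ZMod p)) k := ULift.algebra' (ZMod p) k
      letI : Algebra (ULift.{u} (ZMod p)) A :=
        ((algebraMap k A).comp (algebraMap (ULift.{u} (ZMod p)) k)).toAlgebra
      haveI : IsScalarTower (ULift.{u} (ZMod p)) k A :=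
        IsScalarTower.of_algebraMap_eq (fun _ => rfl)
      haveI : CharP (ResidueField A) p :=
        charP_of_injective_algebraMap
          (algebraMap (ULift.{u} (ZMod p)) (ResidueField A)).injective p
      haveI : Algebra.FormallySmooth (ULift.{u} (ZMod p)) (ResidueField A) :=
        PBasis.formallySmooth_field_of_perfectRing p (ULift.{u} (ZMod p)) (ResidueField A)
      haveI : Algebra.IsGeometricallyReduced (ULift.{u} (ZMod p)) (ResidueField A) :=
        PBasis.formallySmooth_field_iff.1 inferInstance
      have hAF : CAlgX.IsAdicFormallySmooth (ULift.{u} (ZMod p)) A (maximalIdeal A) :=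
        ((tfae_formallySmoothAdic_local_algebra_over_field (k := ULift.{u} (ZMod p))
          (A := A)).out 0 3).2 hreg
      exact isAdicFormallySmooth_of_extension_aux (F := ULift.{u} (ZMod p)) p hAF
        (exists_extension_of_injective hinj)
    · haveI : CharZero k := CharP.charP_to_charZero k
      exact Groth.Agent.S2035.result.1 hreg

end S2471

end Groth.Agent.Lib.Helper19.GR
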