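import Mathlib
import Groth.Agent.Lib.Helper19CKNagata
import Groth.Agent.Lib.Helper19GRKaehler
import Groth.Agent.Lib.Helper7PsSep
import Groth.Agent.Lib.Helper19FSField
import Groth.Agent.Lib.Helper5RLR
import Groth.Agent.Lib.Helper5RLR2
import Groth.Agent.Lib.Helper19RegSecC

/-!
# Nagata's Jacobian criterion for quotients of power series rings, part 2 (helper19)
-/

set_option autoImplicit false
set_option linter.style.haveILetI false
set_option linter.unusedSectionVars false
universe u

open TensorProduct Module IsLocalRing MvPowerSeries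

namespace Groth.Agent.Lib.Helper19.CKNagata

section FS

/-- for a local algebra over a field with residue field formally smooth over the base field, the
map `κ ⊗ Ω_{k/ℤ} → κ ⊗ Ω_{C/ℤ}` is injective -/
theorem injective_lTensor_of_formallySmooth_residueField {k C : Type u} [Field k] [CommRing C]
    [IsLocalRing C] [Algebra k C] [Algebra.FormallySmooth k (ResidueField C)] :
    Function.Injective ((KaehlerDifferential.mapBaseChange ℤ k C).lTensor (ResidueField C)) := by
  have hcomm : (KaehlerDifferential.mapBaseChange ℤ C (ResidueField C)) ∘ₗ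
      (LinearMap.baseChange (ResidueField C) (KaehlerDifferential.mapBaseChange ℤ k C)) =
      (KaehlerDifferential.mapBaseChange ℤ k (ResidueField C)) ∘ₗ
        (AlgebraTensorModule.cancelBaseChange k C (ResidueField C) (ResidueField C)
          Ω[k⁄ℤ]).toLinearMap := by
    ext c
    simp only [AlgebraTensorModule.curry_apply, LinearMap.restrictScalars_comp, curry_apply,
      LinearMap.coe_comp, LinearMap.coe_restrictScalars, Function.comp_apply,
      Derivation.coe_comp, LinearMap.baseChange_tmul,
      KaehlerDifferential.mapBaseChange_tmul, one_smul, LinearEquiv.coe_coe,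
      AlgebraTensorModule.cancelBaseChange_tmul]
    change KaehlerDifferential.map ℤ ℤ C (ResidueField C) (KaehlerDifferential.map ℤ ℤ k C
      (KaehlerDifferential.D ℤ k c)) = KaehlerDifferential.map ℤ ℤ k (ResidueField C)
      (KaehlerDifferential.D ℤ k c)
    rw [KaehlerDifferential.map_D, KaehlerDifferential.map_D, KaehlerDifferential.map_D,
      ← IsScalarTower.algebraMap_apply]
  have hinj : Function.Injective (KaehlerDifferential.mapBaseChange ℤ k (ResidueField C)) := by
    rw [injective_iff_map_eq_zero]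
    intro x hx
    obtain ⟨y, rfl⟩ := (Algebra.H1Cotangent.exact_δ_mapBaseChange ℤ k (ResidueField C) x).mp hx
    rw [Subsingleton.elim y 0, map_zero]
  rw [← LinearMap.baseChange_eq_ltensor]
  intro a b hab
  have h1 := congrArg (KaehlerDifferential.mapBaseChange ℤ C (ResidueField C)) hab
  rw [← LinearMap.comp_apply, ← LinearMap.comp_apply, hcomm, LinearMap.comp_apply,
    LinearMap.comp_apply] at h1
  exact (AlgebraTensorModule.cancelBaseChange k C (ResidueField C) (ResidueField C)
    Ω[k⁄ℤ]).injective (hinj h1)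

/-- the residue field of `(A₀/q)_{p/q}` is formally smooth over `k` when `A₀/p` is generically
separable over a power series ring -/
theorem formallySmooth_residueField_of_isSeparable {k : Type u} [Field k] {A₀ : Type u}
    [CommRing A₀] [Algebra k A₀] (q p : Ideal A₀) [p.IsPrime] (hqp : q ≤ p)
    [(p.map (Ideal.Quotient.mk q)).IsPrime] (s : ℕ)
    [Algebra (MvPowerSeries (Fin s) k) (A₀ ⧸ p)]
    [IsScalarTower k (MvPowerSeries (Fin s) k) (A₀ ⧸ p)] (L' L : Type u) [Field L'] [Field L]
    [Algebra (MvPowerSeries (Fin s) k) L'] [IsFractionRing (MvPowerSeries (Fin s) k) L']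
    [Algebra (A₀ ⧸ p) L] [IsFractionRing (A₀ ⧸ p) L]
    [Algebra L' L] [Algebra (MvPowerSeries (Fin s) k) L]
    [IsScalarTower (MvPowerSeries (Fin s) k) (A₀ ⧸ p) L]
    [IsScalarTower (MvPowerSeries (Fin s) k) L' L] [Algebra.IsSeparable L' L] :
    Algebra.FormallySmooth k
      (ResidueField (Localization.AtPrime (p.map (Ideal.Quotient.mk q)))) := by
  letI : Algebra k L' :=
    ((algebraMap (MvPowerSeries (Fin s) k) L').comp (algebraMap k (MvPowerSeries (Fin s) k))).toAlgebra
  haveI : IsScalarTower k (MvPowerSeries (Fin s) k) L' :=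
    IsScalarTower.of_algebraMap_eq (fun _ => rfl)
  letI : Algebra k L := ((algebraMap (A₀ ⧸ p) L).comp (algebraMap k (A₀ ⧸ p))).toAlgebra
  haveI : IsScalarTower k (A₀ ⧸ p) L := IsScalarTower.of_algebraMap_eq (fun _ => rfl)
  haveI : IsScalarTower k L' L := IsScalarTower.of_algebraMap_eq (fun c => by
    change algebraMap (A₀ ⧸ p) L (algebraMap k (A₀ ⧸ p) c) =
      algebraMap L' L (algebraMap (MvPowerSeries (Fin s) k) L'
        (algebraMap k (MvPowerSeries (Fin s) k) c))
    rw [← IsScalarTower.algebraMap_apply (MvPowerSeries (Fin s) k) L' L,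
      IsScalarTower.algebraMap_apply (MvPowerSeries (Fin s) k) (A₀ ⧸ p) L,
      ← IsScalarTower.algebraMap_apply k (MvPowerSeries (Fin s) k) (A₀ ⧸ p)])
  haveI : IsDomain (MvPowerSeries (Fin s) k) := NoZeroDivisors.to_isDomain _
  haveI : Algebra.IsGeometricallyReduced k (FractionRing (MvPowerSeries (Fin s) k)) :=
    Groth.Agent.Lib.Helper7.PsSep.isGeometricallyReduced_fractionRing_mvPowerSeries k (Fin s)
  haveI : Algebra.FormallySmooth k (FractionRing (MvPowerSeries (Fin s) k)) :=
    Groth.Agent.Lib.Helper19.PBasis.formallySmooth_of_isGeometricallyReduced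
  let e0 : FractionRing (MvPowerSeries (Fin s) k) ≃ₐ[k] L' :=
    (FractionRing.algEquiv (MvPowerSeries (Fin s) k) L').restrictScalars k
  haveI : Algebra.FormallySmooth k L' := Algebra.FormallySmooth.of_equiv e0
  haveI : Algebra.FormallyEtale L' L := Algebra.FormallyEtale.of_isSeparable L' L
  haveI : Algebra.FormallySmooth k L := Algebra.FormallySmooth.comp k L' L
  let e1 : ((A₀ ⧸ q) ⧸ p.map (Ideal.Quotient.mk q)) ≃ₐ[k] A₀ ⧸ p :=
    DoubleQuot.quotQuotEquivQuotOfLEₐ k hqp
  let e2 : ResidueField (Localization.AtPrime (p.map (Ideal.Quotient.mk q))) ≃ₐ[k] L :=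
    IsFractionRing.algEquivOfAlgEquiv (K := (p.map (Ideal.Quotient.mk q)).ResidueField) e1
  exact Algebra.FormallySmooth.of_equiv e2.symm

end FS

section Jac

variable {k : Type*} [CommRing k] {A₀ : Type u} [CommRing A₀] [Algebra k A₀]

/-- a derivation maps `p²` into `p` -/
theorem derivation_mem_of_mem_sq (D : Derivation k A₀ A₀) (p : Ideal A₀) {y : A₀}
    (hy : y ∈ p ^ 2) : D y ∈ p := by
  rw [pow_two] at hy
  refine Submodule.mul_induction_on hy ?_ ?_
  · intro a ha b hb
    rw [Derivation.leibniz, smul_eq_mul, smul_eq_mul]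
    exact Ideal.add_mem _ (Ideal.mul_mem_right _ _ ha) (Ideal.mul_mem_right _ _ hb)
  · intro a b ha hb
    rw [map_add]
    exact Ideal.add_mem _ ha hb

/-- **Jacobian condition ⟹ independence in the cotangent space** -/
theorem linearIndependent_toCotangent_of_det (p : Ideal A₀) [p.IsPrime] {m : ℕ}
    (D : Fin m → Derivation k A₀ A₀) (f : Fin m → A₀) (hf : ∀ i, f i ∈ p)
    (hdet : Matrix.det (Matrix.of fun i j => D i (f j)) ∉ p) :
    LinearIndependent p.ResidueField (fun j : Fin m =>
      (maximalIdeal (Localization.AtPrime p)).toCotangent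
        ⟨algebraMap A₀ (Localization.AtPrime p) (f j),
          Groth.Agent.Lib.Helper19.CKJacSpan.algebraMap_mem_maximalIdeal p ⟨f j, hf j⟩⟩) := by
  classical
  rw [Fintype.linearIndependent_iff]
  intro g hg
  choose a ha using fun j => residue_surjective (g j)
  obtain ⟨u, hu⟩ := IsLocalization.exist_integer_multiples_of_finite p.primeCompl a
  choose b hb using hu
  let y : Fin m → maximalIdeal (Localization.AtPrime p) := fun j =>
    ⟨algebraMap A₀ (Localization.AtPrime p) (f j),
      Groth.Agent.Lib.Helper19.CKJacSpan.algebraMap_mem_maximalIdeal p ⟨f j, hf j⟩⟩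
  -- the relation in `𝔪²`
  have h1 : ((∑ j, a j • y j : maximalIdeal (Localization.AtPrime p)) : Localization.AtPrime p) ∈
      maximalIdeal (Localization.AtPrime p) ^ 2 := by
    rw [← Ideal.toCotangent_eq_zero, map_sum, ← hg]
    refine Finset.sum_congr rfl fun j _ => ?_
    rw [map_smul, ← ha j]
    rfl
  obtain ⟨z, hz⟩ : ∃ z : A₀, z = ∑ j, b j * f j := ⟨_, rfl⟩
  have hzP : z ∈ p := by
    rw [hz]; exact Ideal.sum_mem _ fun j _ => Ideal.mul_mem_left _ _ (hf j)
  have h2 : algebraMap A₀ (Localization.AtPrime p) z ∈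
      (p ^ 2).map (algebraMap A₀ (Localization.AtPrime p)) := by
    rw [Ideal.map_pow, IsLocalization.AtPrime.map_eq_maximalIdeal p]
    have e : algebraMap A₀ (Localization.AtPrime p) z = algebraMap A₀ (Localization.AtPrime p) u *
        ((∑ j, a j • y j : maximalIdeal (Localization.AtPrime p)) : Localization.AtPrime p) := by
      rw [hz, map_sum, Submodule.coe_sum, Finset.mul_sum]
      refine Finset.sum_congr rfl fun j _ => ?_
      rw [map_mul, hb j, Algebra.smul_def]
      change _ = _ * (a j * algebraMap A₀ (Localization.AtPrime p) (f j))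
      ring
    rw [e]
    exact Ideal.mul_mem_left _ _ h1
  obtain ⟨⟨z', v⟩, hzv⟩ := (IsLocalization.mem_map_algebraMap_iff p.primeCompl
    (Localization.AtPrime p)).1 h2
  simp only at hzv
  rw [← map_mul] at hzv
  obtain ⟨v', hv'⟩ := (IsLocalization.eq_iff_exists p.primeCompl _).1 hzv
  obtain ⟨t, ht⟩ : ∃ t : A₀, t = (v' : A₀) * (v : A₀) := ⟨_, rfl⟩
  have htP : t ∉ p := by rw [ht]; exact (v' * v).2
  have htz : t * z ∈ p ^ 2 := by
    have : t * z = (v' : A₀) * (z' : A₀) := by rw [← hv', ht]; ring
    rw [this]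
    exact Ideal.mul_mem_left _ _ z'.2
  -- reduce modulo `p`
  let π := Ideal.Quotient.mk p
  have hπf : ∀ j, π (f j) = 0 := fun j => Ideal.Quotient.eq_zero_iff_mem.2 (hf j)
  have hπz : π z = 0 := Ideal.Quotient.eq_zero_iff_mem.2 hzP
  have hDz : ∀ i, π (D i z) = ∑ j, π (D i (f j)) * π (b j) := by
    intro i
    rw [hz, map_sum, map_sum]
    refine Finset.sum_congr rfl fun j _ => ?_
    rw [Derivation.leibniz, smul_eq_mul, smul_eq_mul, map_add, map_mul, map_mul, hπf, zero_mul,
      add_zero, mul_comm]
  have hDtz : ∀ i, π t * π (D i z) = 0 := by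
    intro i
    have h3 : π (D i (t * z)) = 0 :=
      Ideal.Quotient.eq_zero_iff_mem.2 (derivation_mem_of_mem_sq (D i) p htz)
    rw [Derivation.leibniz, smul_eq_mul, smul_eq_mul, map_add, map_mul, map_mul, hπz, zero_mul,
      add_zero] at h3
    exact h3
  have hπt : π t ≠ 0 := fun h => htP (Ideal.Quotient.eq_zero_iff_mem.1 h)
  have hmul : Matrix.mulVec ((Matrix.of fun i j => D i (f j)).map π) (fun j => π (b j)) = 0 := by
    funext i
    simp only [Matrix.mulVec, dotProduct, Matrix.map_apply, Matrix.of_apply, Pi.zero_apply]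
    rw [← hDz i]
    exact (mul_eq_zero.1 (hDtz i)).resolve_left hπt
  have hdet' : ((Matrix.of fun i j => D i (f j)).map π).det ≠ 0 := by
    rw [← RingHom.mapMatrix_apply, ← RingHom.map_det]
    exact fun h => hdet (Ideal.Quotient.eq_zero_iff_mem.1 h)
  have hb0 := Matrix.eq_zero_of_mulVec_eq_zero hdet' hmul
  intro j
  have hbj : b j ∈ p := Ideal.Quotient.eq_zero_iff_mem.1 (congrFun hb0 j)
  rw [← ha j, residue_eq_zero_iff]
  have h4 : algebraMap A₀ (Localization.AtPrime p) (b j) ∈ maximalIdeal (Localization.AtPrime p) :=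
    Groth.Agent.Lib.Helper19.CKJacSpan.algebraMap_mem_maximalIdeal p ⟨b j, hbj⟩
  rw [hb j, Algebra.smul_def] at h4
  have hunit : IsUnit (algebraMap A₀ (Localization.AtPrime p) (u : A₀)) :=
    IsLocalization.map_units _ u
  exact ((Ideal.IsPrime.mem_or_mem (Ideal.IsMaximal.isPrime' _) h4).resolve_left
    (fun h => (mem_maximalIdeal _).1 h hunit))

theorem isRegularLocalRing_quotient_congr (q : Ideal A₀) {P₁ P₂ : Ideal A₀} [P₁.IsPrime]
    [P₂.IsPrime] (h : P₁ = P₂)
    (hreg : IsRegularLocalRing (Localization.AtPrime P₂ ⧸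
      q.map (algebraMap A₀ (Localization.AtPrime P₂)))) :
    IsRegularLocalRing (Localization.AtPrime P₁ ⧸
      q.map (algebraMap A₀ (Localization.AtPrime P₁))) := by
  subst h
  exact hreg

/-- **Jacobian condition ⟹ regularity** of the localization of the quotient -/
theorem isRegularLocalRing_of_jacobian (q p : Ideal A₀) [p.IsPrime] (hqp : q ≤ p)
    [(p.map (Ideal.Quotient.mk q)).IsPrime] [IsRegularLocalRing (Localization.AtPrime p)]
    {m : ℕ} (D : Fin m → Derivation k A₀ A₀) (f : Fin m → A₀) (hf : ∀ i, f i ∈ q)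
    (hspan : q.map (algebraMap A₀ (Localization.AtPrime p)) =
      Ideal.span (Set.range fun i => algebraMap A₀ (Localization.AtPrime p) (f i)))
    (hdet : Matrix.det (Matrix.of fun i j => D i (f j)) ∉ p) :
    IsRegularLocalRing (Localization.AtPrime (p.map (Ideal.Quotient.mk q))) := by
  have hli := linearIndependent_toCotangent_of_det p D f (fun i => hqp (hf i)) hdet
  let y : Fin m → maximalIdeal (Localization.AtPrime p) := fun j =>
    ⟨algebraMap A₀ (Localization.AtPrime p) (f j),
      Groth.Agent.Lib.Helper19.CKJacSpan.algebraMap_mem_maximalIdeal p ⟨f j, hqp (hf j)⟩⟩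
  haveI := Groth.Agent.Lib.Helper5.isLocalRing_quotient_span_range y
  have h1 := (Groth.Agent.Lib.Helper5.isRegularLocalRing_quotient_of_linearIndependent y hli).1
  have h2 : Ideal.span (Set.range fun i => (y i : Localization.AtPrime p)) =
      q.map (algebraMap A₀ (Localization.AtPrime p)) := hspan.symm
  have h3 : IsRegularLocalRing (Localization.AtPrime p ⧸
      q.map (algebraMap A₀ (Localization.AtPrime p))) :=
    IsRegularLocalRing.of_ringEquiv (Ideal.quotEquivOfEq h2)
  have hcomap : (p.map (Ideal.Quotient.mk q)).comap (Ideal.Quotient.mk q) = p :=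
    Ideal.comap_map_mk hqp
  apply Groth.Agent.Lib.Helper5.isRegularLocalRing_localization_quotient_of q
    (p.map (Ideal.Quotient.mk q))
  exact isRegularLocalRing_quotient_congr q hcomap h3

end Jac

section Main

open Groth.Agent.Lib.Helper19.CKJacSpan

variable {k : Type u} [Field k] (r : ℕ) (q p : Ideal (MvPowerSeries (Fin r) k)) [p.IsPrime]
  (hqp : q ≤ p) [(p.map (Ideal.Quotient.mk q)).IsPrime]
  (s : ℕ) [Algebra (MvPowerSeries (Fin s) k) (MvPowerSeries (Fin r) k ⧸ p)]
  [IsScalarTower k (MvPowerSeries (Fin s) k) (MvPowerSeries (Fin r) k ⧸ p)]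
  [Module.Finite (MvPowerSeries (Fin s) k) (MvPowerSeries (Fin r) k ⧸ p)]
  (hinj : Function.Injective (algebraMap (MvPowerSeries (Fin s) k) (MvPowerSeries (Fin r) k ⧸ p)))

include hqp hinj in
/-- **Regularity ⟹ Jacobian condition** (Nagata) -/
theorem exists_jacobian_of_isRegular (L' L : Type u) [Field L'] [Field L]
    [Algebra (MvPowerSeries (Fin s) k) L'] [IsFractionRing (MvPowerSeries (Fin s) k) L']
    [Algebra (MvPowerSeries (Fin r) k ⧸ p) L] [IsFractionRing (MvPowerSeries (Fin r) k ⧸ p) L]
    [Algebra L' L] [Algebra (MvPowerSeries (Fin s) k) L]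
    [IsScalarTower (MvPowerSeries (Fin s) k) (MvPowerSeries (Fin r) k ⧸ p) L]
    [IsScalarTower (MvPowerSeries (Fin s) k) L' L] [Algebra.IsSeparable L' L]
    (hreg : IsRegularLocalRing (Localization.AtPrime (p.map (Ideal.Quotient.mk q)))) :
    ∃ (m : ℕ) (D : Fin m → Derivation k (MvPowerSeries (Fin r) k) (MvPowerSeries (Fin r) k))
      (f : Fin m → MvPowerSeries (Fin r) k), (∀ i, f i ∈ q) ∧
      q.map (algebraMap (MvPowerSeries (Fin r) k) (Localization.AtPrime p)) =
        Ideal.span (Set.range fun i =>
          algebraMap (MvPowerSeries (Fin r) k) (Localization.AtPrime p) (f i)) ∧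
      Matrix.det (Matrix.of fun i j => D i (f j)) ∉ p := by
  classical
  haveI : IsRegularRing (MvPowerSeries (Fin r) k) :=
    Groth.Agent.Lib.Helper6.SepBC.isRegularRing_of_isRegularLocalRing _
  haveI hregp : IsRegularLocalRing (Localization.AtPrime p) :=
    IsRegularRing.isRegularLocalRing_localization p
  have hcomap : (p.map (Ideal.Quotient.mk q)).comap (Ideal.Quotient.mk q) = p :=
    Ideal.comap_map_mk hqp
  haveI hreg' : IsRegularLocalRing (Localization.AtPrime p ⧸
      q.map (algebraMap (MvPowerSeries (Fin r) k) (Localization.AtPrime p))) :=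
    Groth.Agent.Lib.Helper19.RegSec.isRegularLocalRing_quotient_localization q p
      (p.map (Ideal.Quotient.mk q)) hcomap hreg
  obtain ⟨m, y, hli, hI⟩ := Groth.Agent.Lib.Helper5.exists_linearIndependent_span_range_eq
    (q.map (algebraMap (MvPowerSeries (Fin r) k) (Localization.AtPrime p)))
  have hy : ∀ j, ∃ x : q × p.primeCompl, (y j : Localization.AtPrime p) *
      algebraMap (MvPowerSeries (Fin r) k) (Localization.AtPrime p) x.2 =
        algebraMap (MvPowerSeries (Fin r) k) (Localization.AtPrime p) x.1 := by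
    intro j
    apply (IsLocalization.mem_map_algebraMap_iff p.primeCompl (Localization.AtPrime p)).1
    rw [hI]
    exact Ideal.subset_span ⟨j, rfl⟩
  choose x hx using hy
  let f : Fin m → MvPowerSeries (Fin r) k := fun j => ((x j).1 : MvPowerSeries (Fin r) k)
  have hfq : ∀ j, f j ∈ q := fun j => (x j).1.2
  have hfp : ∀ j, f j ∈ p := fun j => hqp (hfq j)
  have hunit : ∀ j, IsUnit (algebraMap (MvPowerSeries (Fin r) k) (Localization.AtPrime p)
      ((x j).2 : MvPowerSeries (Fin r) k)) := fun j => IsLocalization.map_units _ (x j).2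
  -- the span
  have hspan : q.map (algebraMap (MvPowerSeries (Fin r) k) (Localization.AtPrime p)) =
      Ideal.span (Set.range fun i =>
        algebraMap (MvPowerSeries (Fin r) k) (Localization.AtPrime p) (f i)) := by
    apply le_antisymm
    · rw [hI, Ideal.span_le]
      rintro _ ⟨j, rfl⟩
      have h1 : (y j : Localization.AtPrime p) =
          algebraMap (MvPowerSeries (Fin r) k) (Localization.AtPrime p) (f j) *
            ((hunit j).unit⁻¹ : (Localization.AtPrime p)ˣ) := by
        rw [Units.eq_mul_inv_iff_mul_eq]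
        exact hx j
      change (y j : Localization.AtPrime p) ∈ _
      rw [h1]
      exact Ideal.mul_mem_right _ _ (Ideal.subset_span ⟨j, rfl⟩)
    · rw [Ideal.span_le]
      rintro _ ⟨j, rfl⟩
      exact Ideal.mem_map_of_mem _ (hfq j)
  -- independence of the classes of the `f j`
  have hres : ∀ j, residue (Localization.AtPrime p)
      (algebraMap (MvPowerSeries (Fin r) k) (Localization.AtPrime p)
        ((x j).2 : MvPowerSeries (Fin r) k)) ≠ 0 := by
    intro j h0
    rw [residue_eq_zero_iff] at h0
    exact (mem_maximalIdeal _).1 h0 (hunit j)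
  have hli' : LinearIndependent p.ResidueField (fun j => cotMap p ⟨f j, hfp j⟩) := by
    have h1 := hli.units_smul (fun j => Units.mk0 _ (hres j))
    have h2 : ((fun j => Units.mk0 _ (hres j)) • fun i =>
        (maximalIdeal (Localization.AtPrime p)).toCotangent (y i)) =
        fun j => cotMap p ⟨f j, hfp j⟩ := by
      funext j
      change residue (Localization.AtPrime p) _ •
        (maximalIdeal (Localization.AtPrime p)).toCotangent (y j) =
        (maximalIdeal (Localization.AtPrime p)).toCotangent
          ⟨algebraMap (MvPowerSeries (Fin r) k) (Localization.AtPrime p) (f j), _⟩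
      have h3 : (⟨algebraMap (MvPowerSeries (Fin r) k) (Localization.AtPrime p) (f j),
          Groth.Agent.Lib.Helper19.CKJacSpan.algebraMap_mem_maximalIdeal p ⟨f j, hfp j⟩⟩ :
            maximalIdeal (Localization.AtPrime p)) =
          algebraMap (MvPowerSeries (Fin r) k) (Localization.AtPrime p)
            ((x j).2 : MvPowerSeries (Fin r) k) • y j := by
        apply Subtype.ext
        change _ = _ * (y j : Localization.AtPrime p)
        rw [mul_comm]
        exact (hx j).symm
      rw [h3, map_smul]
      rfl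
    rwa [h2] at h1
  have hN := Groth.Agent.Lib.Helper19.CKNagata.linearIndependent_pderiv k r p s hinj L' L f hfp hli'
  obtain ⟨H, hH⟩ := exists_matrix_det_notMem p
    (Matrix.of fun (l : Fin r) (j : Fin m) => MvPowerSeries.pderiv k l (f j)) hN
  refine ⟨m, fun i => ∑ l, H i l • MvPowerSeries.pderiv k l, f, hfq, hspan, ?_⟩
  have hmat : (Matrix.of fun i j => (∑ l, H i l • MvPowerSeries.pderiv k l :
      Derivation k (MvPowerSeries (Fin r) k) (MvPowerSeries (Fin r) k)) (f j)) =
      H * (Matrix.of fun (l : Fin r) (j : Fin m) => MvPowerSeries.pderiv k l (f j)) := by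
    ext i j
    rw [Matrix.of_apply, Matrix.mul_apply]
    have : ((∑ l, H i l • MvPowerSeries.pderiv k l :
        Derivation k (MvPowerSeries (Fin r) k) (MvPowerSeries (Fin r) k)) (f j)) =
        ∑ l, H i l * MvPowerSeries.pderiv k l (f j) := by
      rw [← Derivation.coeFnAddMonoidHom_apply, map_sum, Finset.sum_apply]
      rfl
    rw [this]
    rfl
  rw [hmat]
  exact hH

end Main

end Groth.Agent.Lib.Helper19.CKNagata
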