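import Mathlib
import Groth.Prelude.Def_DeRham

/-!
# Cartan's formula for the algebraic de Rham complex

`B` an `R`-algebra, `θ` an `R`-derivation of `B`, `d` a de Rham differential on `⋀^• Ω[B⁄R]`.
`contr θ q` is the contraction with `θ`, and `d ∘ contr + contr ∘ d` acts on generators by the
Leibniz rule (Lie derivative).
-/

set_option autoImplicit false

namespace Groth.Agent.Lib.Helper19.Cartan

open exteriorPower

universe u v

variable {R : Type v} {B : Type u} [CommRing R] [CommRing B] [Algebra R B]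
  (θ : Derivation R B B)

/-- the functional on differentials attached to the derivation `θ` -/
noncomputable def eps : Ω[B⁄R] →ₗ[B] B := θ.liftKaehlerDifferential

lemma eps_D (b : B) : eps θ (KaehlerDifferential.D R B b) = θ b :=
  Derivation.liftKaehlerDifferential_comp_D θ b

/-- contraction with `θ` -/
noncomputable def contr (q : ℕ) : ⋀[B]^(q + 1) (Ω[B⁄R]) →ₗ[B] ⋀[B]^q (Ω[B⁄R]) :=
  alternatingMapLinearEquiv (AlternatingMap.alternatizeUncurryFin
    ((eps θ).smulRight (ιMulti B q)))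

lemma contr_ιMulti (q : ℕ) (v : Fin (q + 1) → Ω[B⁄R]) :
    contr θ q (ιMulti _ (q + 1) v) =
      ∑ j : Fin (q + 1), (-1) ^ (j : ℕ) • (eps θ (v j) • ιMulti _ q (j.removeNth v)) := by
  rw [contr, alternatingMapLinearEquiv_apply_ιMulti, AlternatingMap.alternatizeUncurryFin_apply]
  rfl

omit [Algebra R B] in
lemma cons_swap {M : Type*} [AddCommGroup M] [Module B M] (q : ℕ) (v : Fin (q + 1) → M)
    (j : Fin (q + 1)) :
    ιMulti B (q + 1) (Fin.cons (v j) (j.removeNth v) : Fin (q + 1) → M) =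
      (-1 : ℤ) ^ (j : ℕ) • ιMulti B (q + 1) v := by
  have h := AlternatingMap.map_insertNth (ιMulti B (q + 1) (M := M)) j (v j) (j.removeNth v)
  rw [Fin.insertNth_self_removeNth] at h
  have h' : ιMulti B (q + 1) v =
      (-1 : ℤ) ^ (j : ℕ) • ιMulti B (q + 1)
        (Fin.cons (v j) (j.removeNth v) : Fin (q + 1) → M) := h
  rw [h', smul_smul, ← pow_add, Even.neg_one_pow ⟨(j : ℕ), rfl⟩, one_smul]

omit [Algebra R B] in
lemma cons_removeNth_eq_update {M : Type*} [AddCommGroup M] [Module B M] (q : ℕ)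
    (v : Fin (q + 1) → M) (j : Fin (q + 1)) (x : M) :
    ιMulti B (q + 1) (Fin.cons x (j.removeNth v) : Fin (q + 1) → M) =
      (-1 : ℤ) ^ (j : ℕ) • ιMulti B (q + 1) (Function.update v j x) := by
  have h := cons_swap (B := B) q (Function.update v j x) j
  rw [Function.update_self] at h
  have h2 : j.removeNth (Function.update v j x) = j.removeNth v := by
    funext l
    simp [Fin.removeNth, Function.update_of_ne (Fin.succAbove_ne j l)]
  rw [h2] at h
  exact h

variable (d : ∀ p : ℕ, ↥(⋀[B]^p (Ω[B⁄R])) →ₗ[R] ↥(⋀[B]^(p + 1) (Ω[B⁄R])))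
  (hd : DeRham.IsDiff (KaehlerDifferential.D R B) d)

include hd in
theorem cartan_succ (q : ℕ) (b₀ : B) (b : Fin (q + 1) → B) :
    d q (contr θ q (DeRham.gen (KaehlerDifferential.D R B) (q + 1) b₀ b)) +
      contr θ (q + 1) (d (q + 1) (DeRham.gen (KaehlerDifferential.D R B) (q + 1) b₀ b)) =
    DeRham.gen (KaehlerDifferential.D R B) (q + 1) (θ b₀) b +
      ∑ j : Fin (q + 1), DeRham.gen (KaehlerDifferential.D R B) (q + 1) b₀
        (Function.update b j (θ (b j))) := by
  classical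
  set D := KaehlerDifferential.D R B with hD
  set v : Fin (q + 1) → Ω[B⁄R] := fun j => D (b j) with hv
  set S : ↥(⋀[B]^(q + 1) (Ω[B⁄R])) :=
    ∑ j : Fin (q + 1), (-1 : ℤ) ^ (j : ℕ) •
      (θ (b j) • ιMulti B (q + 1) (Fin.cons (D b₀) (j.removeNth v) : Fin (q + 1) → Ω[B⁄R]))
    with hS
  have hgen : DeRham.gen D (q + 1) b₀ b = b₀ • ιMulti B (q + 1) v := rfl
  have h1 : contr θ q (b₀ • ιMulti B (q + 1) v) =
      ∑ j : Fin (q + 1), (-1 : ℤ) ^ (j : ℕ) •
        DeRham.gen D q (b₀ * θ (b j)) (fun l => b (j.succAbove l)) := by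
    rw [map_smul, contr_ιMulti, Finset.smul_sum]
    refine Finset.sum_congr rfl fun j _ => ?_
    rw [smul_comm, hv]
    have he : eps θ (D (b j)) = θ (b j) := eps_D θ (b j)
    simp only [he, smul_smul]
    rfl
  have h2 : d q (contr θ q (b₀ • ιMulti B (q + 1) v)) =
      (∑ j : Fin (q + 1), DeRham.gen D (q + 1) b₀ (Function.update b j (θ (b j)))) + S := by
    rw [h1, map_sum]
    have : ∀ j : Fin (q + 1), d q ((-1 : ℤ) ^ (j : ℕ) •
        DeRham.gen D q (b₀ * θ (b j)) (fun l => b (j.succAbove l))) =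
        DeRham.gen D (q + 1) b₀ (Function.update b j (θ (b j))) + (-1 : ℤ) ^ (j : ℕ) •
          (θ (b j) • ιMulti B (q + 1)
            (Fin.cons (D b₀) (j.removeNth v) : Fin (q + 1) → Ω[B⁄R])) := by
      intro j
      rw [map_zsmul, hd.1 q, Derivation.leibniz]
      have hc : ∀ x : Ω[B⁄R],
          ιMulti B (q + 1)
            (Fin.cons x (fun l => D (b (j.succAbove l))) : Fin (q + 1) → Ω[B⁄R]) =
          ιMulti B (q + 1) (Fin.cons x (j.removeNth v) : Fin (q + 1) → Ω[B⁄R]) := fun x => rfl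
      rw [hc]
      have hadd := (ιMulti B (q + 1) (M := Ω[B⁄R])).toMultilinearMap.cons_add
        (j.removeNth v) (b₀ • D (θ (b j))) (θ (b j) • D b₀)
      have hsm1 := (ιMulti B (q + 1) (M := Ω[B⁄R])).toMultilinearMap.cons_smul
        (j.removeNth v) b₀ (D (θ (b j)))
      have hsm2 := (ιMulti B (q + 1) (M := Ω[B⁄R])).toMultilinearMap.cons_smul
        (j.removeNth v) (θ (b j)) (D b₀)
      simp only [AlternatingMap.coe_multilinearMap] at hadd hsm1 hsm2
      rw [hadd, hsm1, hsm2, cons_removeNth_eq_update, smul_add,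
        smul_comm ((-1 : ℤ) ^ (j : ℕ)) b₀, smul_smul, ← pow_add,
        Even.neg_one_pow ⟨(j : ℕ), rfl⟩, one_smul]
      congr 1
      simp only [DeRham.gen]
      congr 2
      funext l
      by_cases hl : l = j
      · subst hl; simp [hv]
      · simp [hv, Function.update_of_ne hl]
    rw [Finset.sum_congr rfl (fun j _ => this j), Finset.sum_add_distrib, hS]
  have h3 : contr θ (q + 1) (d (q + 1) (b₀ • ιMulti B (q + 1) v)) =
      θ b₀ • ιMulti B (q + 1) v - S := by
    have hrule := hd.1 (q + 1) b₀ b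
    rw [hgen] at hrule
    rw [hrule, contr_ιMulti, Fin.sum_univ_succ]
    have h0 : (0 : Fin (q + 2)).removeNth
        (Fin.cons (D b₀) (fun i => D (b i)) : Fin (q + 2) → Ω[B⁄R]) = v := by
      funext l
      simp [Fin.removeNth, hv]
    have hs : ∀ j : Fin (q + 1), (j.succ).removeNth
        (Fin.cons (D b₀) (fun i => D (b i)) : Fin (q + 2) → Ω[B⁄R]) =
          (Fin.cons (D b₀) (j.removeNth v) : Fin (q + 1) → Ω[B⁄R]) := by
      intro j
      funext l
      refine Fin.cases ?_ (fun l' => ?_) l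
      · simp [Fin.removeNth]
      · simp [Fin.removeNth, hv]
    simp only [Fin.val_zero, pow_zero, one_smul, Fin.cons_zero, Fin.cons_succ, Fin.val_succ, h0, hs]
    rw [sub_eq_add_neg, hS, ← Finset.sum_neg_distrib, eps_D]
    congr 1
    refine Finset.sum_congr rfl fun j _ => ?_
    rw [pow_succ, mul_neg_one, neg_smul, eps_D]
  rw [hgen, h2, h3]
  simp only [DeRham.gen]
  abel

include hd in
theorem cartan_zero (b₀ : B) (b : Fin 0 → B) :
    contr θ 0 (d 0 (DeRham.gen (KaehlerDifferential.D R B) 0 b₀ b)) =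
      DeRham.gen (KaehlerDifferential.D R B) 0 (θ b₀) b := by
  rw [hd.1 0, contr_ιMulti]
  have h1 : ∀ f : Fin (0 + 1) → ↥(⋀[B]^0 (Ω[B⁄R])), ∑ j, f j = f 0 := fun f => Fin.sum_univ_one f
  rw [h1]
  simp only [Fin.val_zero, pow_zero, Fin.cons_zero, one_smul, eps_D, DeRham.gen]
  congr 1

end Groth.Agent.Lib.Helper19.Cartan
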