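import Mathlib
import Groth.Prelude.Def_DeRham

set_option autoImplicit false
universe u

open exteriorPower DeRham

namespace Groth.Agent.Lib.Helper22

/-- Induction principle: the elements `c · db₁ ∧ … ∧ db_p` additively generate `⋀^p Ω[A⁄R]`. -/
theorem deRham_gen_induction {R A : Type u} [CommRing R] [CommRing A] [Algebra R A] (p : ℕ)
    (P : ↥(⋀[A]^p (Ω[A⁄R])) → Prop) (h0 : P 0) (hadd : ∀ x y, P x → P y → P (x + y))
    (hgen : ∀ (c : A) (b : Fin p → A), P (gen (KaehlerDifferential.D R A) p c b)) :
    ∀ ω, P ω := by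
  intro ω
  have hspan := exteriorPower.ιMulti_span_of_span (R := A) (n := p) (M := Ω[A⁄R])
    (KaehlerDifferential.span_range_derivation R A)
  have hω : ω ∈ Submodule.span A (exteriorPower.ιMulti A p ''
      {v : Fin p → Ω[A⁄R] | Set.range v ⊆ Set.range (KaehlerDifferential.D R A)}) := by
    rw [hspan]; exact Submodule.mem_top
  have key : ∀ c : A, P (c • ω) := by
    induction hω using Submodule.span_induction with
    | mem ω h =>
      obtain ⟨v, hv, rfl⟩ := h
      have hv' : ∀ i, ∃ b : A, KaehlerDifferential.D R A b = v i := fun i => hv ⟨i, rfl⟩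
      choose b hb using hv'
      intro c
      have h2 : c • exteriorPower.ιMulti A p v = gen (KaehlerDifferential.D R A) p c b := by
        simp only [gen, hb]
      rw [h2]; exact hgen c b
    | zero => intro c; rw [smul_zero]; exact h0
    | add x y _ _ hx hy => intro c; rw [smul_add]; exact hadd _ _ (hx c) (hy c)
    | smul e x _ hx => intro c; rw [smul_smul]; exact hx (c * e)
  have := key 1
  rwa [one_smul] at this

/-- `db₀ ∧ db₁ ∧ … ∧ db_p` is the generator `1 · d(b₀) ∧ …`. -/
theorem deRham_ιMulti_cons_eq_gen {R A M : Type u} [CommRing R] [CommRing A] [Algebra R A]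
    [AddCommGroup M] [Module A M] [Module R M] (δ : Derivation R A M)
    (p : ℕ) (c : A) (b : Fin p → A) :
    exteriorPower.ιMulti A (p + 1) (Fin.cons (δ c) (fun i => δ (b i)))
      = gen δ (p + 1) 1 (Fin.cons c b) := by
  unfold gen
  rw [one_smul]
  congr 1
  funext i
  refine Fin.cases ?_ (fun j => ?_) i
  · simp
  · simp

end Groth.Agent.Lib.Helper22

namespace Groth.Agent.Lib.Helper22

/-- Extension of scalars on exterior powers: `⋀[A]^p N → ⋀[B]^p N` for a `B`-module `N`. -/
noncomputable def extScalars (A B N : Type u) [CommRing A] [CommRing B] [Algebra A B]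
    [AddCommGroup N] [Module B N] [Module A N] [IsScalarTower A B N] (p : ℕ) :
    ↥(⋀[A]^p N) →ₗ[A] ↥(⋀[B]^p N) :=
  exteriorPower.alternatingMapLinearEquiv
    { (exteriorPower.ιMulti B p (M := N)).toMultilinearMap.restrictScalars A with
      map_eq_zero_of_eq' := fun v i j h hij =>
        (exteriorPower.ιMulti B p (M := N)).map_eq_zero_of_eq v h hij }

theorem extScalars_ιMulti (A B N : Type u) [CommRing A] [CommRing B] [Algebra A B]
    [AddCommGroup N] [Module B N] [Module A N] [IsScalarTower A B N] (p : ℕ) (v : Fin p → N) :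
    extScalars A B N p (exteriorPower.ιMulti A p v) = exteriorPower.ιMulti B p v := by
  unfold extScalars
  rw [exteriorPower.alternatingMapLinearEquiv_apply_ιMulti]
  rfl

/-- The induced map of de Rham complexes for a commutative square of rings. -/
theorem exists_isCxMap_kaehler (R S A B : Type u) [CommRing R] [CommRing S] [CommRing A] [CommRing B]
    [Algebra R S] [Algebra R A] [Algebra R B] [Algebra A B] [Algebra S B]
    [IsScalarTower R A B] [IsScalarTower R S B] :
    ∃ ψ : ∀ p : ℕ, ↥(⋀[A]^p (Ω[A⁄R])) →ₗ[A] ↥(⋀[B]^p (Ω[B⁄S])),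
      ∀ (p : ℕ) (b₀ : A) (b : Fin p → A),
        ψ p (gen (KaehlerDifferential.D R A) p b₀ b)
          = gen (KaehlerDifferential.D S B) p (algebraMap A B b₀) (fun i => algebraMap A B (b i)) := by
  refine ⟨fun p => (extScalars A B (Ω[B⁄S]) p) ∘ₗ
    exteriorPower.map p (KaehlerDifferential.map R S A B), ?_⟩
  intro p b₀ b
  unfold gen
  rw [map_smul, LinearMap.comp_apply, exteriorPower.map_apply_ιMulti, extScalars_ιMulti,
    ← algebraMap_smul B b₀]
  congr 2
  funext i
  simp

end Groth.Agent.Lib.Helper22
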