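import Mathlib
import Groth.Prelude.Def_DeRham
import Groth.Agent.Lib.Helper19CartanA
import Groth.Agent.Lib.Helper22DeRham

/-!
# The Lie derivative along an Euler-type vector field and the homotopy argument

Generic part: `Lop θ d q` (the Lie derivative `d ∘ ι_θ + ι_θ ∘ d`), its value on generators made of
eigenvectors of `θ`, and the homotopy claim: a closed form which is a finite sum of eigenvectors of
`Lop` is cohomologous to its eigenvalue-`0` component (over a `ℚ`-algebra).
-/

set_option autoImplicit false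

namespace Groth.Agent.Lib.Helper19.Cartan

open exteriorPower

universe u v

variable {R : Type v} {B : Type u} [CommRing R] [CommRing B] [Algebra R B]
  (θ : Derivation R B B)
  (d : ∀ p : ℕ, ↥(⋀[B]^p (Ω[B⁄R])) →ₗ[R] ↥(⋀[B]^(p + 1) (Ω[B⁄R])))

/-- the Lie derivative `d ∘ ι_θ + ι_θ ∘ d` -/
noncomputable def Lop : (q : ℕ) → (↥(⋀[B]^q (Ω[B⁄R])) →ₗ[R] ↥(⋀[B]^q (Ω[B⁄R])))
  | 0 => (contr θ 0).restrictScalars R ∘ₗ d 0
  | q + 1 => d q ∘ₗ (contr θ q).restrictScalars R + (contr θ (q + 1)).restrictScalars R ∘ₗ d (q + 1)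

lemma Lop_zero_apply (y : ↥(⋀[B]^0 (Ω[B⁄R]))) : Lop θ d 0 y = contr θ 0 (d 0 y) := rfl

lemma Lop_succ_apply (q : ℕ) (y : ↥(⋀[B]^(q + 1) (Ω[B⁄R]))) :
    Lop θ d (q + 1) y = d q (contr θ q y) + contr θ (q + 1) (d (q + 1) y) := rfl

variable (hd : DeRham.IsDiff (KaehlerDifferential.D R B) d)

include hd in
lemma coboundaries_le_cocycles (q : ℕ) : DeRham.coboundaries d q ≤ DeRham.cocycles d q := by
  cases q with
  | zero => intro y hy; rw [show DeRham.coboundaries d 0 = ⊥ from rfl, Submodule.mem_bot] at hy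
            rw [hy]; exact zero_mem _
  | succ q =>
    rintro _ ⟨z, rfl⟩
    exact LinearMap.congr_fun (hd.2 q) z

lemma Lop_mem_coboundaries (q : ℕ) (y : ↥(⋀[B]^q (Ω[B⁄R]))) (hy : y ∈ DeRham.cocycles d q) :
    Lop θ d q y ∈ DeRham.coboundaries d q := by
  have hy' : d q y = 0 := hy
  cases q with
  | zero =>
    rw [Lop_zero_apply, hy', map_zero]; exact zero_mem _
  | succ q =>
    rw [Lop_succ_apply, hy', map_zero, add_zero]
    exact ⟨_, rfl⟩

omit [Algebra R B] in
lemma gen_nsmul {M : Type u} [AddCommGroup M] [Module B M] [Algebra R B] [Module R M]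
    (δ : Derivation R B M) (p : ℕ) (n : ℕ) (b₀ : B)
    (b : Fin p → B) :
    DeRham.gen δ p (n • b₀) b = n • DeRham.gen δ p b₀ b := by
  unfold DeRham.gen
  rw [smul_assoc]

lemma gen_update_nsmul (p : ℕ) (n : ℕ) (b₀ : B)
    (b : Fin p → B) (j : Fin p) :
    DeRham.gen (KaehlerDifferential.D R B) p b₀ (Function.update b j (n • b j)) =
      n • DeRham.gen (KaehlerDifferential.D R B) p b₀ b := by
  classical
  unfold DeRham.gen
  have h : (fun i => KaehlerDifferential.D R B (Function.update b j (n • b j) i)) =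
      Function.update (fun i => KaehlerDifferential.D R B (b i)) j
        ((n : B) • KaehlerDifferential.D R B (b j)) := by
    funext i
    by_cases hi : i = j
    · subst hi
      simp only [Function.update_self, map_nsmul, Nat.cast_smul_eq_nsmul]
    · simp only [Function.update_of_ne hi]
  rw [h, AlternatingMap.map_update_smul, Function.update_eq_self, smul_comm,
    Nat.cast_smul_eq_nsmul]

include hd in
theorem Lop_gen (q : ℕ) (b₀ : B) (b : Fin q → B) (n₀ : ℕ) (n : Fin q → ℕ)
    (h₀ : θ b₀ = n₀ • b₀) (h : ∀ j, θ (b j) = n j • b j) :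
    Lop θ d q (DeRham.gen (KaehlerDifferential.D R B) q b₀ b) =
      (n₀ + ∑ j, n j) • DeRham.gen (KaehlerDifferential.D R B) q b₀ b := by
  cases q with
  | zero =>
    rw [Lop_zero_apply, cartan_zero θ d hd, h₀, gen_nsmul]
    simp
  | succ q =>
    rw [Lop_succ_apply, cartan_succ θ d hd, h₀, gen_nsmul, add_smul, Finset.sum_smul]
    congr 1
    refine Finset.sum_congr rfl fun j _ => ?_
    rw [h j, gen_update_nsmul]

include hd in
/-- the homotopy claim -/
theorem homotopy_claim [Algebra ℚ R] (q : ℕ) (S : Finset ℕ) :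
    ∀ (y y₀ : ↥(⋀[B]^q (Ω[B⁄R]))) (f : ℕ → ↥(⋀[B]^q (Ω[B⁄R]))),
      y ∈ DeRham.cocycles d q → Lop θ d q y₀ = 0 →
      (∀ w ∈ S, 1 ≤ w ∧ Lop θ d q (f w) = w • f w) →
      y = y₀ + ∑ w ∈ S, f w →
      y₀ ∈ DeRham.cocycles d q ∧ y - y₀ ∈ DeRham.coboundaries d q := by
  classical
  induction S using Finset.induction_on with
  | empty =>
    intro y y₀ f hy _ _ hsum
    rw [Finset.sum_empty, add_zero] at hsum
    subst hsum
    refine ⟨hy, ?_⟩
    rw [sub_self]; exact zero_mem _
  | insert w₀ S' hw₀ ih =>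
    intro y y₀ f hy hy₀ hf hsum
    have hw1 : 1 ≤ w₀ := (hf w₀ (Finset.mem_insert_self _ _)).1
    set c : R := algebraMap ℚ R ((w₀ : ℚ)⁻¹) with hc
    have hcw : c * (w₀ : R) = 1 := by
      rw [hc, ← map_natCast (algebraMap ℚ R) w₀, ← map_mul, inv_mul_cancel₀, map_one]
      exact_mod_cast (by omega : w₀ ≠ 0)
    have hLy : Lop θ d q y ∈ DeRham.coboundaries d q := Lop_mem_coboundaries θ d q y hy
    have hLy_eq : Lop θ d q y = ∑ w ∈ insert w₀ S', w • f w := by
      rw [hsum, map_add, hy₀, zero_add, map_sum]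
      exact Finset.sum_congr rfl fun w hw => (hf w hw).2
    have hy' : y - c • Lop θ d q y ∈ DeRham.cocycles d q :=
      sub_mem hy (Submodule.smul_mem _ c (coboundaries_le_cocycles d hd q hLy))
    have hf' : ∀ w ∈ S', 1 ≤ w ∧
        Lop θ d q (f w - c • (w • f w)) = w • (f w - c • (w • f w)) := by
      intro w hw
      have := hf w (Finset.mem_insert_of_mem hw)
      refine ⟨this.1, ?_⟩
      rw [map_sub, map_smul, map_nsmul, this.2, smul_sub, smul_comm w c]
    have hsum' : y - c • Lop θ d q y = y₀ + ∑ w ∈ S', (f w - c • (w • f w)) := by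
      rw [hLy_eq]
      nth_rw 1 [hsum]
      rw [Finset.smul_sum, add_sub_assoc, ← Finset.sum_sub_distrib, Finset.sum_insert hw₀]
      have : f w₀ - c • (w₀ • f w₀) = 0 := by
        rw [← Nat.cast_smul_eq_nsmul R w₀ (f w₀), smul_smul, hcw, one_smul, sub_self]
      rw [this, zero_add]
    obtain ⟨h1, h2⟩ := ih _ y₀ _ hy' hy₀ hf' hsum'
    refine ⟨h1, ?_⟩
    have : y - y₀ = (y - c • Lop θ d q y - y₀) + c • Lop θ d q y := by abel
    rw [this]
    exact add_mem h2 (Submodule.smul_mem _ c hLy)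

end Groth.Agent.Lib.Helper19.Cartan
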