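import Mathlib
import Groth.Prelude.Def_DeRham
import Groth.Agent.Lib.Helper19CartanB

/-!
# Homotopy invariance of algebraic de Rham cohomology: `A → A[X]` over a `ℚ`-algebra
-/

set_option autoImplicit false

namespace Groth.Agent.Lib.Helper19.CartanPoly

open exteriorPower Polynomial DeRham
open Groth.Agent.Lib.Helper19.Cartan

universe u

variable (R A : Type u) [CommRing R] [CommRing A] [Algebra R A]

/-- the Euler vector field `X ∂/∂X` -/
noncomputable def θ : Derivation R A[X] A[X] :=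
  (X : A[X]) • (Polynomial.derivative' (R := A)).restrictScalars R

lemma θ_apply (p : A[X]) : θ R A p = X * derivative p := rfl

lemma θ_monomial (n : ℕ) (a : A) : θ R A (monomial n a) = n • monomial n a := by
  rw [θ_apply, derivative_monomial]
  cases n with
  | zero => simp
  | succ n =>
    rw [Nat.add_sub_cancel, X_mul_monomial, nsmul_eq_mul, ← C_eq_natCast, C_mul_monomial]
    congr 1
    rw [mul_comm]

/-- the retraction induced by `X ↦ 0` -/
theorem exists_retraction :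
    ∃ r : ∀ p, ↥(⋀[A[X]]^p (Ω[A[X]⁄R])) →+ ↥(⋀[A]^p (Ω[A⁄R])),
      ∀ (p : ℕ) (b₀ : A[X]) (b : Fin p → A[X]),
        r p (gen (KaehlerDifferential.D R A[X]) p b₀ b) =
          gen (KaehlerDifferential.D R A) p (b₀.coeff 0) (fun i => (b i).coeff 0) := by
  letI : Algebra A[X] A := (Polynomial.constantCoeff : A[X] →+* A).toAlgebra
  haveI : IsScalarTower R A[X] A := IsScalarTower.of_algebraMap_eq (fun r => by
    rw [RingHom.algebraMap_toAlgebra, IsScalarTower.algebraMap_apply R A A[X]]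
    simp)
  obtain ⟨ψ, hψ⟩ := Groth.Agent.Lib.Helper22.exists_isCxMap_kaehler R R A[X] A
  exact ⟨fun p => (ψ p).toAddMonoidHom, fun p b₀ b => hψ p b₀ b⟩

variable {R A}
variable
    (d : ∀ p : ℕ, ↥(⋀[A]^p (Ω[A⁄R])) →ₗ[R] ↥(⋀[A]^(p + 1) (Ω[A⁄R])))
    (hd : DeRham.IsDiff (KaehlerDifferential.D R A) d)
    (d' : ∀ p : ℕ, ↥(⋀[A[X]]^p (Ω[A[X]⁄R])) →ₗ[R] ↥(⋀[A[X]]^(p + 1) (Ω[A[X]⁄R])))
    (hd' : DeRham.IsDiff (KaehlerDifferential.D R A[X]) d')
    (ψ : ∀ p : ℕ, ↥(⋀[A]^p (Ω[A⁄R])) →+ ↥(⋀[A[X]]^p (Ω[A[X]⁄R])))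
    (hψ : DeRham.IsCxMap (KaehlerDifferential.D R A) (KaehlerDifferential.D R A[X])
      (algebraMap A A[X]) ψ)
    (r : ∀ p, ↥(⋀[A[X]]^p (Ω[A[X]⁄R])) →+ ↥(⋀[A]^p (Ω[A⁄R])))
    (hr : ∀ (p : ℕ) (b₀ : A[X]) (b : Fin p → A[X]),
        r p (gen (KaehlerDifferential.D R A[X]) p b₀ b) =
          gen (KaehlerDifferential.D R A) p (b₀.coeff 0) (fun i => (b i).coeff 0))

include hψ hr in
lemma r_ψ (q : ℕ) (x : ↥(⋀[A]^q (Ω[A⁄R]))) : r q (ψ q x) = x := by
  refine Groth.Agent.Lib.Helper22.deRham_gen_induction q (fun x => r q (ψ q x) = x) ?_ ?_ ?_ x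
  · simp
  · intro x y hx hy
    rw [map_add, map_add, hx, hy]
  · intro c b
    rw [hψ q c b, hr]
    simp [Polynomial.algebraMap_apply]

include hd hd' hr in
lemma r_d (q : ℕ) (y : ↥(⋀[A[X]]^q (Ω[A[X]⁄R]))) : r (q + 1) (d' q y) = d q (r q y) := by
  refine Groth.Agent.Lib.Helper22.deRham_gen_induction q
    (fun y => r (q + 1) (d' q y) = d q (r q y)) ?_ ?_ ?_ y
  · simp
  · intro x y hx hy
    rw [map_add, map_add, hx, hy, map_add, map_add]
  · intro c b
    rw [hd'.1 q c b, Groth.Agent.Lib.Helper22.deRham_ιMulti_cons_eq_gen, hr, hr, hd.1 q,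
      Groth.Agent.Lib.Helper22.deRham_ιMulti_cons_eq_gen]
    rw [coeff_one_zero]
    congr 1
    funext i
    refine Fin.cases ?_ (fun j => ?_) i
    · simp
    · simp

include hψ hd' in
lemma Lop_ψ (q : ℕ) (x : ↥(⋀[A]^q (Ω[A⁄R]))) : Lop (θ R A) d' q (ψ q x) = 0 := by
  refine Groth.Agent.Lib.Helper22.deRham_gen_induction q
    (fun x => Lop (θ R A) d' q (ψ q x) = 0) ?_ ?_ ?_ x
  · simp
  · intro x y hx hy
    rw [map_add, map_add, hx, hy, add_zero]
  · intro c b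
    rw [hψ q c b]
    rw [Lop_gen (θ R A) d' hd' q _ _ 0 (fun _ => 0)]
    · simp
    · rw [Polynomial.algebraMap_apply, Algebra.algebraMap_self, RingHom.id_apply, ← monomial_zero_left,
        θ_monomial]
    · intro j
      rw [Polynomial.algebraMap_apply, Algebra.algebraMap_self, RingHom.id_apply, ← monomial_zero_left,
        θ_monomial]

/-- decomposition into eigenvectors -/
def Dec (q : ℕ) (y : ↥(⋀[A[X]]^q (Ω[A[X]⁄R]))) : Prop :=
  ∃ f : ℕ →₀ ↥(⋀[A[X]]^q (Ω[A[X]⁄R])), (∃ x, ψ q x = f 0) ∧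
    (∀ w, Lop (θ R A) d' q (f w) = w • f w) ∧ (f.sum fun _ z => z) = y

lemma dec_zero (q : ℕ) : Dec d' ψ q 0 :=
  ⟨0, ⟨0, by simp⟩, fun w => by simp, by simp⟩

lemma dec_add (q : ℕ) (y y' : ↥(⋀[A[X]]^q (Ω[A[X]⁄R]))) (h : Dec d' ψ q y) (h' : Dec d' ψ q y') :
    Dec d' ψ q (y + y') := by
  obtain ⟨f, ⟨x, hx⟩, hL, hs⟩ := h
  obtain ⟨f', ⟨x', hx'⟩, hL', hs'⟩ := h'
  refine ⟨f + f', ⟨x + x', by rw [map_add, hx, hx']; rfl⟩, fun w => ?_, ?_⟩
  · rw [Finsupp.add_apply, map_add, hL, hL', smul_add]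
  · rw [Finsupp.sum_add_index' (fun _ => rfl) (fun _ _ _ => rfl), hs, hs']

lemma dec_sum {ι : Type*} (q : ℕ) (s : Finset ι) (g : ι → ↥(⋀[A[X]]^q (Ω[A[X]⁄R])))
    (h : ∀ i ∈ s, Dec d' ψ q (g i)) : Dec d' ψ q (∑ i ∈ s, g i) :=
  Finset.sum_induction g (Dec d' ψ q) (dec_add d' ψ q) (dec_zero d' ψ q) h

include hd' hψ in
lemma dec_monomial (q : ℕ) (n₀ : ℕ) (a₀ : A) (n : Fin q → ℕ) (a : Fin q → A) :
    Dec d' ψ q (gen (KaehlerDifferential.D R A[X]) q (monomial n₀ a₀)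
      (fun j => monomial (n j) (a j))) := by
  classical
  set z := gen (KaehlerDifferential.D R A[X]) q (monomial n₀ a₀)
      (fun j => monomial (n j) (a j)) with hz
  have hLz : Lop (θ R A) d' q z = (n₀ + ∑ j, n j) • z :=
    Lop_gen (θ R A) d' hd' q _ _ n₀ n (θ_monomial R A n₀ a₀) (fun j => θ_monomial R A (n j) (a j))
  refine ⟨Finsupp.single (n₀ + ∑ j, n j) z, ?_, fun w => ?_, ?_⟩
  · rw [Finsupp.single_apply]
    split_ifs with hw
    · refine ⟨gen (KaehlerDifferential.D R A) q a₀ a, ?_⟩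
      rw [hψ q a₀ a, hz]
      have h0 : n₀ = 0 := by omega
      have hn : ∀ j, n j = 0 := by
        intro j
        have : n j ≤ ∑ j, n j := Finset.single_le_sum (fun _ _ => Nat.zero_le _) (Finset.mem_univ j)
        omega
      simp only [h0, hn, monomial_zero_left, Polynomial.algebraMap_apply, Algebra.algebraMap_self,
        RingHom.id_apply]
    · exact ⟨0, map_zero _⟩
  · rw [Finsupp.single_apply]
    split_ifs with hw
    · rw [← hw]; exact hLz
    · simp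
  · rw [Finsupp.sum_single_index rfl]

include hd' hψ in
lemma dec_gen (q : ℕ) (b₀ : A[X]) (b : Fin q → A[X]) :
    Dec d' ψ q (gen (KaehlerDifferential.D R A[X]) q b₀ b) := by
  classical
  have hb₀ : b₀ = ∑ n ∈ b₀.support, monomial n (b₀.coeff n) := b₀.as_sum_support
  have hb : ∀ i, KaehlerDifferential.D R A[X] (b i) =
      ∑ n ∈ (b i).support, KaehlerDifferential.D R A[X] (monomial n ((b i).coeff n)) := by
    intro i
    rw [← map_sum, ← (b i).as_sum_support]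
  have h1 : gen (KaehlerDifferential.D R A[X]) q b₀ b =
      ∑ n₀ ∈ b₀.support, ∑ r ∈ Fintype.piFinset (fun i => (b i).support),
        gen (KaehlerDifferential.D R A[X]) q (monomial n₀ (b₀.coeff n₀))
          (fun j => monomial (r j) ((b j).coeff (r j))) := by
    unfold gen
    have h2 := MultilinearMap.map_sum_finset (ιMulti A[X] q (M := Ω[A[X]⁄R])).toMultilinearMap
      (fun i n => KaehlerDifferential.D R A[X] (monomial n ((b i).coeff n)))
      (fun i => (b i).support)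
    simp only [AlternatingMap.coe_multilinearMap] at h2
    simp only [hb]
    rw [h2]
    nth_rw 1 [hb₀]
    rw [Finset.sum_smul]
    refine Finset.sum_congr rfl fun n₀ _ => ?_
    rw [Finset.smul_sum]
  rw [h1]
  refine dec_sum d' ψ q _ _ fun n₀ _ => dec_sum d' ψ q _ _ fun r _ => ?_
  exact dec_monomial d' hd' ψ hψ q n₀ _ _ _

include hd' hψ in
lemma dec_all (q : ℕ) (y : ↥(⋀[A[X]]^q (Ω[A[X]⁄R]))) : Dec d' ψ q y :=
  Groth.Agent.Lib.Helper22.deRham_gen_induction q (Dec d' ψ q) (dec_zero d' ψ q)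
    (dec_add d' ψ q) (dec_gen d' hd' ψ hψ q) y

include hd hd' hψ in
theorem main [Algebra ℚ R]
    (hcomm : ∀ (p : ℕ) (x : ↥(⋀[A]^p (Ω[A⁄R]))), ψ (p + 1) (d p x) = d' p (ψ p x)) (i : ℕ) :
    (∀ y ∈ DeRham.cocycles d' i, ∃ x ∈ DeRham.cocycles d i,
        y - ψ i x ∈ DeRham.coboundaries d' i) ∧
      (∀ x ∈ DeRham.cocycles d i, ψ i x ∈ DeRham.coboundaries d' i →
        x ∈ DeRham.coboundaries d i) := by
  classical
  obtain ⟨r, hr⟩ := exists_retraction R A
  have hrψ := r_ψ ψ hψ r hr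
  have hrd := r_d d hd d' hd' r hr
  refine ⟨fun y hy => ?_, fun x hx hx' => ?_⟩
  · obtain ⟨f, ⟨x, hx⟩, hL, hs⟩ := dec_all d' hd' ψ hψ i y
    have h0 : Lop (θ R A) d' i (f 0) = 0 := by rw [hL 0, zero_smul]
    have hsum : y = f 0 + ∑ w ∈ f.support.erase 0, f w := by
      rw [← hs, Finsupp.sum]
      by_cases h : 0 ∈ f.support
      · rw [Finset.add_sum_erase _ _ h]
      · rw [Finset.erase_eq_of_notMem h, Finsupp.notMem_support_iff.mp h, zero_add]
    obtain ⟨h1, h2⟩ := homotopy_claim (θ R A) d' hd' i (f.support.erase 0) y (f 0) f hy h0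
      (fun w hw => ⟨Nat.one_le_iff_ne_zero.mpr (Finset.ne_of_mem_erase hw), hL w⟩) hsum
    refine ⟨x, ?_, by rw [hx]; exact h2⟩
    have h3 : d' i (ψ i x) = 0 := by rw [hx]; exact h1
    rw [← hcomm] at h3
    have h4 := hrψ (i + 1) (d i x)
    rw [h3, map_zero] at h4
    exact h4.symm
  · cases i with
    | zero =>
      rw [show DeRham.coboundaries d' 0 = ⊥ from rfl, Submodule.mem_bot] at hx'
      have h4 := hrψ 0 x
      rw [hx', map_zero] at h4
      rw [show DeRham.coboundaries d 0 = ⊥ from rfl, Submodule.mem_bot]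
      exact h4.symm
    | succ q =>
      obtain ⟨z, hz⟩ := hx'
      refine ⟨r q z, ?_⟩
      rw [← hrd, hz, hrψ]

end Groth.Agent.Lib.Helper19.CartanPoly
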