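import Mathlib
import Groth.Prelude.Def_DeRham
import Groth.Agent.Lib.Helper19CartanB

/-!
# Eigen-decomposition of differential forms for a `ℤ`-graded algebra (Euler derivation)

`B` an `R`-algebra, `θ` an `R`-derivation of `B`, and sets `𝓜 w ⊆ B` (`w : ℤ`) of eigenvectors of `θ`
with eigenvalue `w` which together span `B` additively.  Then every differential form is a finite
sum of eigenvectors of the Lie derivative `Lop θ d`, and over a `ℚ`-algebra every closed form is
cohomologous to its weight-zero part.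
-/

set_option autoImplicit false

namespace Groth.Agent.Lib.Helper19.Cartan

open exteriorPower

universe u v

variable {R : Type v} {B : Type u} [CommRing R] [CommRing B] [Algebra R B]

/-- Induction principle: the elements `c · db₁ ∧ … ∧ db_p` additively generate `⋀^p Ω[B⁄R]`. -/
theorem gen_induction' (p : ℕ)
    (P : ↥(⋀[B]^p (Ω[B⁄R])) → Prop) (h0 : P 0) (hadd : ∀ x y, P x → P y → P (x + y))
    (hgen : ∀ (c : B) (b : Fin p → B), P (DeRham.gen (KaehlerDifferential.D R B) p c b)) :
    ∀ ω, P ω := by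
  intro ω
  have hspan := exteriorPower.ιMulti_span_of_span (R := B) (n := p) (M := Ω[B⁄R])
    (KaehlerDifferential.span_range_derivation R B)
  have hω : ω ∈ Submodule.span B (exteriorPower.ιMulti B p ''
      {v : Fin p → Ω[B⁄R] | Set.range v ⊆ Set.range (KaehlerDifferential.D R B)}) := by
    rw [hspan]; exact Submodule.mem_top
  have key : ∀ c : B, P (c • ω) := by
    induction hω using Submodule.span_induction with
    | mem ω h =>
      obtain ⟨v, hv, rfl⟩ := h
      have hv' : ∀ i, ∃ b : B, KaehlerDifferential.D R B b = v i := fun i => hv ⟨i, rfl⟩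
      choose b hb using hv'
      intro c
      have h2 : c • exteriorPower.ιMulti B p v =
          DeRham.gen (KaehlerDifferential.D R B) p c b := by
        simp only [DeRham.gen, hb]
      rw [h2]; exact hgen c b
    | zero => intro c; rw [smul_zero]; exact h0
    | add x y _ _ hx hy => intro c; rw [smul_add]; exact hadd _ _ (hx c) (hy c)
    | smul e x _ hx => intro c; rw [smul_smul]; exact hx (c * e)
  have := key 1
  rwa [one_smul] at this

/-- multi-additive induction -/
theorem multi_induction {G : Type*} [AddCommMonoid G] (q : ℕ) (F : B → (Fin q → B) → G)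
    (hF0 : ∀ b₀ b₀' b, F (b₀ + b₀') b = F b₀ b + F b₀' b) (hF0z : ∀ b, F 0 b = 0)
    (hFj : ∀ b₀ b (j : Fin q) x x',
      F b₀ (Function.update b j (x + x')) =
        F b₀ (Function.update b j x) + F b₀ (Function.update b j x'))
    (hFjz : ∀ b₀ b (j : Fin q), F b₀ (Function.update b j 0) = 0)
    (S : Set B) (hS : AddSubmonoid.closure S = ⊤) (P : G → Prop) (hP0 : P 0)
    (hPadd : ∀ x y, P x → P y → P (x + y))
    (hPS : ∀ b₀ ∈ S, ∀ b : Fin q → B, (∀ j, b j ∈ S) → P (F b₀ b)) :
    ∀ b₀ b, P (F b₀ b) := by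
  classical
  have key : ∀ T : Finset (Fin q), ∀ b₀ ∈ S, ∀ b : Fin q → B, (∀ j, j ∉ T → b j ∈ S) →
      P (F b₀ b) := by
    intro T
    induction T using Finset.induction_on with
    | empty =>
      intro b₀ hb₀ b hb
      exact hPS b₀ hb₀ b fun j => hb j (Finset.notMem_empty j)
    | insert j T hj ih =>
      intro b₀ hb₀ b hb
      have hx : b j ∈ AddSubmonoid.closure S := by rw [hS]; exact AddSubmonoid.mem_top _
      have hmot : ∀ x ∈ AddSubmonoid.closure S, P (F b₀ (Function.update b j x)) := by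
        intro x hx
        induction hx using AddSubmonoid.closure_induction with
        | mem x hxS =>
          refine ih b₀ hb₀ _ fun i hi => ?_
          by_cases hij : i = j
          · subst hij; rw [Function.update_self]; exact hxS
          · rw [Function.update_of_ne hij]
            exact hb i (by simp [hij, hi])
        | zero => rw [hFjz]; exact hP0
        | add x x' _ _ h h' => rw [hFj]; exact hPadd _ _ h h'
      have := hmot (b j) hx
      rwa [Function.update_eq_self] at this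
  intro b₀ b
  have hx : b₀ ∈ AddSubmonoid.closure S := by rw [hS]; exact AddSubmonoid.mem_top _
  induction hx using AddSubmonoid.closure_induction with
  | mem x hxS => exact key Finset.univ x hxS b fun j hj => absurd (Finset.mem_univ j) hj
  | zero => rw [hF0z]; exact hP0
  | add x x' _ _ h h' => rw [hF0]; exact hPadd _ _ h h'

variable (θ : Derivation R B B)
  (d : ∀ p : ℕ, ↥(⋀[B]^p (Ω[B⁄R])) →ₗ[R] ↥(⋀[B]^(p + 1) (Ω[B⁄R])))

omit [Algebra R B] in
lemma gen_zsmul {M : Type u} [AddCommGroup M] [Module B M] [Algebra R B] [Module R M]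
    (δ : Derivation R B M) (p : ℕ) (n : ℤ) (b₀ : B)
    (b : Fin p → B) :
    DeRham.gen δ p (n • b₀) b = n • DeRham.gen δ p b₀ b := by
  unfold DeRham.gen
  rw [smul_assoc]

lemma gen_update_zsmul (p : ℕ) (n : ℤ) (b₀ : B)
    (b : Fin p → B) (j : Fin p) :
    DeRham.gen (KaehlerDifferential.D R B) p b₀ (Function.update b j (n • b j)) =
      n • DeRham.gen (KaehlerDifferential.D R B) p b₀ b := by
  classical
  unfold DeRham.gen
  have h : (fun i => KaehlerDifferential.D R B (Function.update b j (n • b j) i)) =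
      Function.update (fun i => KaehlerDifferential.D R B (b i)) j
        ((n : B) • KaehlerDifferential.D R B (b j)) := by
    funext i
    by_cases hi : i = j
    · subst hi
      simp only [Function.update_self, map_zsmul, Int.cast_smul_eq_zsmul]
    · simp only [Function.update_of_ne hi]
  rw [h, AlternatingMap.map_update_smul, Function.update_eq_self, smul_comm,
    Int.cast_smul_eq_zsmul]

lemma gen_add_left (p : ℕ) (b₀ b₀' : B) (b : Fin p → B) :
    DeRham.gen (KaehlerDifferential.D R B) p (b₀ + b₀') b =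
      DeRham.gen (KaehlerDifferential.D R B) p b₀ b +
        DeRham.gen (KaehlerDifferential.D R B) p b₀' b := by
  unfold DeRham.gen
  rw [add_smul]

lemma gen_zero_left (p : ℕ) (b : Fin p → B) :
    DeRham.gen (KaehlerDifferential.D R B) p 0 b = 0 := by
  unfold DeRham.gen
  rw [zero_smul]

lemma gen_update_add (p : ℕ) (b₀ : B) (b : Fin p → B) (j : Fin p) (x x' : B) :
    DeRham.gen (KaehlerDifferential.D R B) p b₀ (Function.update b j (x + x')) =
      DeRham.gen (KaehlerDifferential.D R B) p b₀ (Function.update b j x) +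
        DeRham.gen (KaehlerDifferential.D R B) p b₀ (Function.update b j x') := by
  classical
  unfold DeRham.gen
  have h : ∀ z : B, (fun i => KaehlerDifferential.D R B (Function.update b j z i)) =
      Function.update (fun i => KaehlerDifferential.D R B (b i)) j
        (KaehlerDifferential.D R B z) := by
    intro z
    funext i
    by_cases hi : i = j
    · subst hi
      simp only [Function.update_self]
    · simp only [Function.update_of_ne hi]
  rw [h, h, h, map_add, AlternatingMap.map_update_add, smul_add]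

lemma gen_update_zero (p : ℕ) (b₀ : B) (b : Fin p → B) (j : Fin p) :
    DeRham.gen (KaehlerDifferential.D R B) p b₀ (Function.update b j 0) = 0 := by
  classical
  unfold DeRham.gen
  rw [AlternatingMap.map_coord_zero (i := j) _ (by simp), smul_zero]

variable (hd : DeRham.IsDiff (KaehlerDifferential.D R B) d)

include hd in
theorem Lop_gen_int (q : ℕ) (b₀ : B) (b : Fin q → B) (n₀ : ℤ) (n : Fin q → ℤ)
    (h₀ : θ b₀ = n₀ • b₀) (h : ∀ j, θ (b j) = n j • b j) :
    Lop θ d q (DeRham.gen (KaehlerDifferential.D R B) q b₀ b) =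
      (n₀ + ∑ j, n j) • DeRham.gen (KaehlerDifferential.D R B) q b₀ b := by
  cases q with
  | zero =>
    rw [Lop_zero_apply, cartan_zero θ d hd, h₀, gen_zsmul]
    simp
  | succ q =>
    rw [Lop_succ_apply, cartan_succ θ d hd, h₀, gen_zsmul, add_smul, Finset.sum_smul]
    congr 1
    refine Finset.sum_congr rfl fun j _ => ?_
    rw [h j, gen_update_zsmul]

include hd in
/-- the homotopy claim, integer weights -/
theorem homotopy_claim_int [Algebra ℚ R] (q : ℕ) (S : Finset ℤ) :
    ∀ (y y₀ : ↥(⋀[B]^q (Ω[B⁄R]))) (f : ℤ → ↥(⋀[B]^q (Ω[B⁄R]))),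
      y ∈ DeRham.cocycles d q → Lop θ d q y₀ = 0 →
      (∀ w ∈ S, w ≠ 0 ∧ Lop θ d q (f w) = w • f w) →
      y = y₀ + ∑ w ∈ S, f w →
      y₀ ∈ DeRham.cocycles d q ∧ y - y₀ ∈ DeRham.coboundaries d q := by
  classical
  induction S using Finset.induction_on with
  | empty =>
    intro y y₀ f hy _ _ hsum
    rw [Finset.sum_empty, add_zero] at hsum
    subst hsum
    refine ⟨hy, ?_⟩
    rw [sub_self]; exact zero_mem _
  | insert w₀ S' hw₀ ih =>
    intro y y₀ f hy hy₀ hf hsum
    have hw1 : w₀ ≠ 0 := (hf w₀ (Finset.mem_insert_self _ _)).1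
    set c : R := algebraMap ℚ R ((w₀ : ℚ)⁻¹) with hc
    have hcw : c * (w₀ : R) = 1 := by
      rw [hc, ← map_intCast (algebraMap ℚ R) w₀, ← map_mul, inv_mul_cancel₀, map_one]
      exact_mod_cast hw1
    have hLy : Lop θ d q y ∈ DeRham.coboundaries d q := Lop_mem_coboundaries θ d q y hy
    have hLy_eq : Lop θ d q y = ∑ w ∈ insert w₀ S', w • f w := by
      rw [hsum, map_add, hy₀, zero_add, map_sum]
      exact Finset.sum_congr rfl fun w hw => (hf w hw).2
    have hy' : y - c • Lop θ d q y ∈ DeRham.cocycles d q :=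
      sub_mem hy (Submodule.smul_mem _ c (coboundaries_le_cocycles d hd q hLy))
    have hf' : ∀ w ∈ S', w ≠ 0 ∧
        Lop θ d q (f w - c • (w • f w)) = w • (f w - c • (w • f w)) := by
      intro w hw
      have := hf w (Finset.mem_insert_of_mem hw)
      refine ⟨this.1, ?_⟩
      rw [map_sub, map_smul, map_zsmul, this.2, smul_sub, smul_comm w c]
    have hsum' : y - c • Lop θ d q y = y₀ + ∑ w ∈ S', (f w - c • (w • f w)) := by
      rw [hLy_eq]
      nth_rw 1 [hsum]
      rw [Finset.smul_sum, add_sub_assoc, ← Finset.sum_sub_distrib, Finset.sum_insert hw₀]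
      have : f w₀ - c • (w₀ • f w₀) = 0 := by
        rw [← Int.cast_smul_eq_zsmul R w₀ (f w₀), smul_smul, hcw, one_smul, sub_self]
      rw [this, zero_add]
    obtain ⟨h1, h2⟩ := ih _ y₀ _ hy' hy₀ hf' hsum'
    refine ⟨h1, ?_⟩
    have : y - y₀ = (y - c • Lop θ d q y - y₀) + c • Lop θ d q y := by abel
    rw [this]
    exact add_mem h2 (Submodule.smul_mem _ c hLy)

include hd in
/-- eigen-decomposition of forms -/
theorem exists_eigen_decomposition (𝓜 : ℤ → Set B) (hθ : ∀ w, ∀ m ∈ 𝓜 w, θ m = w • m)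
    (hspan : AddSubmonoid.closure (⋃ w, 𝓜 w) = ⊤) (q : ℕ)
    (Z : AddSubgroup ↥(⋀[B]^q (Ω[B⁄R])))
    (hZ : ∀ (w₀ : ℤ) (w : Fin q → ℤ) (b₀ : B) (b : Fin q → B), w₀ + ∑ j, w j = 0 →
      b₀ ∈ 𝓜 w₀ → (∀ j, b j ∈ 𝓜 (w j)) →
        DeRham.gen (KaehlerDifferential.D R B) q b₀ b ∈ Z)
    (y : ↥(⋀[B]^q (Ω[B⁄R]))) :
    ∃ f : ℤ →₀ ↥(⋀[B]^q (Ω[B⁄R])), f 0 ∈ Z ∧ (∀ w, Lop θ d q (f w) = w • f w) ∧
      (f.sum fun _ z => z) = y := by
  classical
  set P : ↥(⋀[B]^q (Ω[B⁄R])) → Prop := fun y =>
    ∃ f : ℤ →₀ ↥(⋀[B]^q (Ω[B⁄R])), f 0 ∈ Z ∧ (∀ w, Lop θ d q (f w) = w • f w) ∧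
      (f.sum fun _ z => z) = y with hP
  have hP0 : P 0 := ⟨0, by simp, fun w => by simp, by simp⟩
  have hPadd : ∀ x y, P x → P y → P (x + y) := by
    rintro x y ⟨f, hf0, hL, hs⟩ ⟨f', hf0', hL', hs'⟩
    refine ⟨f + f', by rw [Finsupp.add_apply]; exact add_mem hf0 hf0', fun w => ?_, ?_⟩
    · rw [Finsupp.add_apply, map_add, hL, hL', smul_add]
    · rw [Finsupp.sum_add_index' (fun _ => rfl) (fun _ _ _ => rfl), hs, hs']
  refine gen_induction' q P hP0 hPadd (fun c b => ?_) y
  refine multi_induction q (fun b₀ b => DeRham.gen (KaehlerDifferential.D R B) q b₀ b)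
    (gen_add_left q) (gen_zero_left q) (fun b₀ b j x x' => gen_update_add q b₀ b j x x')
    (fun b₀ b j => gen_update_zero q b₀ b j) (⋃ w, 𝓜 w) hspan P hP0 hPadd ?_ c b
  intro b₀ hb₀ b hb
  obtain ⟨w₀, hw₀⟩ := Set.mem_iUnion.mp hb₀
  have hb' : ∀ j, ∃ w, b j ∈ 𝓜 w := fun j => Set.mem_iUnion.mp (hb j)
  choose w hw using hb'
  set z := DeRham.gen (KaehlerDifferential.D R B) q b₀ b with hz
  have hLz : Lop θ d q z = (w₀ + ∑ j, w j) • z :=
    Lop_gen_int θ d hd q b₀ b w₀ w (hθ w₀ b₀ hw₀) (fun j => hθ (w j) (b j) (hw j))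
  refine ⟨Finsupp.single (w₀ + ∑ j, w j) z, ?_, fun w' => ?_, ?_⟩
  · rw [Finsupp.single_apply]
    split_ifs with h0
    · exact hZ w₀ w b₀ b h0 hw₀ hw
    · exact zero_mem _
  · rw [Finsupp.single_apply]
    split_ifs with h0
    · rw [← h0]; exact hLz
    · simp
  · rw [Finsupp.sum_single_index rfl]

include hd in
/-- every closed form is cohomologous to a closed form in the weight-zero part -/
theorem exists_weight_zero_cohomologous [Algebra ℚ R] (𝓜 : ℤ → Set B)
    (hθ : ∀ w, ∀ m ∈ 𝓜 w, θ m = w • m)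
    (hspan : AddSubmonoid.closure (⋃ w, 𝓜 w) = ⊤) (q : ℕ)
    (Z : AddSubgroup ↥(⋀[B]^q (Ω[B⁄R])))
    (hZ : ∀ (w₀ : ℤ) (w : Fin q → ℤ) (b₀ : B) (b : Fin q → B), w₀ + ∑ j, w j = 0 →
      b₀ ∈ 𝓜 w₀ → (∀ j, b j ∈ 𝓜 (w j)) →
        DeRham.gen (KaehlerDifferential.D R B) q b₀ b ∈ Z)
    (y : ↥(⋀[B]^q (Ω[B⁄R]))) (hy : y ∈ DeRham.cocycles d q) :
    ∃ y₀ ∈ Z, y₀ ∈ DeRham.cocycles d q ∧ y - y₀ ∈ DeRham.coboundaries d q := by
  classical
  obtain ⟨f, hf0, hL, hs⟩ := exists_eigen_decomposition θ d hd 𝓜 hθ hspan q Z hZ y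
  have h0 : Lop θ d q (f 0) = 0 := by rw [hL 0, zero_smul]
  have hsum : y = f 0 + ∑ w ∈ f.support.erase 0, f w := by
    rw [← hs, Finsupp.sum]
    by_cases h : (0 : ℤ) ∈ f.support
    · rw [Finset.add_sum_erase _ _ h]
    · rw [Finset.erase_eq_of_notMem h, Finsupp.notMem_support_iff.mp h, zero_add]
  obtain ⟨h1, h2⟩ := homotopy_claim_int θ d hd q (f.support.erase 0) y (f 0) f hy h0
    (fun w hw => ⟨Finset.ne_of_mem_erase hw, hL w⟩) hsum
  exact ⟨f 0, hf0, h1, h2⟩

end Groth.Agent.Lib.Helper19.Cartan
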