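import Mathlib
import Groth.Prelude.Def_DeRham

set_option autoImplicit false
universe u
open DeRham exteriorPower

namespace Groth.Agent.Lib.Helper19.CechHyp

/-- Every strictly monotone self-map of `Fin m` is the identity. -/
theorem strictMono_fin_eq_id {m : ℕ} (f : Fin m → Fin m) (hf : StrictMono f) : f = id := by
  have h : (Finset.univ : Finset (Fin m)).card = m := by simp
  have h1 := Finset.orderEmbOfFin_unique h (f := f) (fun x => Finset.mem_univ _) hf
  have h2 := Finset.orderEmbOfFin_unique h (f := id) (fun x => Finset.mem_univ _) strictMono_id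
  rw [h1, h2]

/-- The top exterior power of a module spanned by `m` elements is cyclic. -/
theorem exists_smul_ιMulti {R M : Type*} [CommRing R] [AddCommGroup M] [Module R M] {m : ℕ}
    (v : Fin m → M) (hv : Submodule.span R (Set.range v) = ⊤) (γ : ⋀[R]^m M) :
    ∃ c : R, γ = c • ιMulti R m v := by
  have h := exteriorPower.ιMulti_family_span_of_span (R := R) (n := m) hv
  have hr : Set.range (ιMulti_family R m v) ⊆ {ιMulti R m v} := by
    rintro x ⟨s, rfl⟩
    have h1 : ((Set.powersetCard.ofFinEmbEquiv.symm s : Fin m ↪o Fin m) : Fin m → Fin m) = id :=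
      strictMono_fin_eq_id _ (OrderEmbedding.strictMono _)
    rw [Set.mem_singleton_iff]
    unfold ιMulti_family
    rw [h1]
    rfl
  have h2 : γ ∈ Submodule.span R {ιMulti R m v} := by
    have h3 : γ ∈ Submodule.span R (Set.range (ιMulti_family R m v)) := by
      rw [h]; exact Submodule.mem_top
    exact Submodule.span_mono hr h3
  obtain ⟨c, hc⟩ := Submodule.mem_span_singleton.1 h2
  exact ⟨c, hc.symm⟩

section
variable {k A : Type u} [Field k] [CommRing A] [Algebra k A] {d : ℕ}

theorem span_D_mk (t : Fin d → A) (b : Module.Basis (Fin d) A (Ω[A⁄k]))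
    (hb : ∀ i, b i = KaehlerDifferential.D k A (t i)) (I : Ideal A) :
    Submodule.span (A ⧸ I) (Set.range fun i : Fin d =>
      KaehlerDifferential.D k (A ⧸ I) (Ideal.Quotient.mk I (t i))) = ⊤ := by
  rw [eq_top_iff, ← KaehlerDifferential.span_range_derivation k (A ⧸ I), Submodule.span_le]
  rintro _ ⟨y, rfl⟩
  obtain ⟨a, rfl⟩ := Ideal.Quotient.mk_surjective y
  have h1 : KaehlerDifferential.D k (A ⧸ I) (Ideal.Quotient.mk I a) =
      KaehlerDifferential.map k k A (A ⧸ I) (KaehlerDifferential.D k A a) := by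
    rw [KaehlerDifferential.map_D]; rfl
  rw [SetLike.mem_coe, h1, ← b.sum_repr (KaehlerDifferential.D k A a), map_sum]
  refine Submodule.sum_mem _ (fun i _ => ?_)
  rw [map_smul, hb, KaehlerDifferential.map_D, ← algebraMap_smul (A ⧸ I)]
  exact Submodule.smul_mem _ _ (Submodule.subset_span ⟨i, rfl⟩)

variable {n : ℕ}

/-- the ideal of the coordinate stratum `D_I` -/
abbrev QI (t : Fin d → A) (e : Fin n ↪ Fin d) (I : Finset (Fin n)) : Ideal A :=
  ⨆ i ∈ I, Ideal.span {t (e i)}

theorem mk_t_eq_zero (t : Fin d → A) (e : Fin n ↪ Fin d) (I : Finset (Fin n)) {j : Fin n}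
    (hj : j ∈ I) : Ideal.Quotient.mk (QI t e I) (t (e j)) = 0 := by
  rw [Ideal.Quotient.eq_zero_iff_mem]
  have h1 : Ideal.span {t (e j)} ≤ QI t e I := le_biSup (fun i => Ideal.span {t (e i)}) hj
  exact h1 (Ideal.subset_span rfl)

/-- the complementary coordinates -/
noncomputable def sig (e : Fin n ↪ Fin d) (m : ℕ) (hd : 0 < d) (J : Finset (Fin n)) :
    Fin m → Fin d :=
  if h : (Finset.univ \ J.image e).card = m then (Finset.univ \ J.image e).orderEmbOfFin h
  else fun _ => ⟨0, hd⟩

theorem card_compl (e : Fin n ↪ Fin d) {s m : ℕ} (hs : s + 1 + m = d) (J : Finset (Fin n))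
    (hJ : J.card = s + 1) : (Finset.univ \ J.image e).card = m := by
  rw [Finset.card_sdiff_of_subset (Finset.subset_univ _), Finset.card_univ, Fintype.card_fin,
    Finset.card_image_of_injective _ e.injective, hJ]
  omega

theorem mem_range_sig (e : Fin n ↪ Fin d) {s m : ℕ} (hs : s + 1 + m = d) (hd : 0 < d)
    (J : Finset (Fin n)) (hJ : J.card = s + 1) (i : Fin d) (hi : i ∉ J.image e) :
    i ∈ Set.range (sig e m hd J) := by
  have hc := card_compl e hs J hJ
  unfold sig
  rw [dif_pos hc, Finset.range_orderEmbOfFin]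
  simpa using hi

theorem gen_eq_zero (t : Fin d → A) (e : Fin n ↪ Fin d) (J : Finset (Fin n)) {j : Fin n}
    (hj : j ∈ J) {m : ℕ} (σ : Fin m → Fin d) (hσ : e j ∈ Set.range σ) (c : A ⧸ QI t e J) :
    gen (KaehlerDifferential.D k (A ⧸ QI t e J)) m c
      (fun l => Ideal.Quotient.mk (QI t e J) (t (σ l))) = 0 := by
  obtain ⟨l, hl⟩ := hσ
  unfold gen
  rw [AlternatingMap.map_coord_zero _ l, smul_zero]
  simp only
  rw [hl, mk_t_eq_zero t e J hj, map_zero]

theorem exists_gen (t : Fin d → A) (e : Fin n ↪ Fin d) (b : Module.Basis (Fin d) A (Ω[A⁄k]))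
    (hb : ∀ i, b i = KaehlerDifferential.D k A (t i)) {s m : ℕ} (hs : s + 1 + m = d)
    (hd : 0 < d) (J : Finset (Fin n)) (hJ : J.card = s + 1)
    (γ : ⋀[A ⧸ QI t e J]^m (Ω[(A ⧸ QI t e J)⁄k])) :
    ∃ a : A, γ = gen (KaehlerDifferential.D k (A ⧸ QI t e J)) m (Ideal.Quotient.mk _ a)
      (fun l => Ideal.Quotient.mk (QI t e J) (t (sig e m hd J l))) := by
  have hv : Submodule.span (A ⧸ QI t e J) (Set.range fun l : Fin m =>
      KaehlerDifferential.D k (A ⧸ QI t e J)
        (Ideal.Quotient.mk (QI t e J) (t (sig e m hd J l)))) = ⊤ := by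
    rw [eq_top_iff, ← span_D_mk t b hb (QI t e J), Submodule.span_le]
    rintro _ ⟨i, rfl⟩
    by_cases hi : i ∈ J.image e
    · obtain ⟨j, hj, rfl⟩ := Finset.mem_image.1 hi
      simp only
      rw [mk_t_eq_zero t e J hj, map_zero]
      exact Submodule.zero_mem _
    · obtain ⟨l, hl⟩ := mem_range_sig e hs hd J hJ i hi
      exact Submodule.subset_span ⟨l, by simp only [hl]⟩
  obtain ⟨c, hc⟩ := exists_smul_ιMulti _ hv γ
  obtain ⟨a, rfl⟩ := Ideal.Quotient.mk_surjective c
  exact ⟨a, hc⟩

end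

end Groth.Agent.Lib.Helper19.CechHyp
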