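import Mathlib
import Groth.Agent.Lib.Helper19ChainNND

/-!
# Noether normalization adapted to a chain of primes: interpolation of prime chains
-/

set_option autoImplicit false
universe u

namespace Groth.Agent.Lib.Helper19ChainNN

open MvPolynomial

section Between

/-- Going down in a quotient: interpolate a prime between two comparable primes. -/
theorem exists_between {P A : Type*} [CommRing P] [CommRing A] [Algebra P A]
    [Algebra.IsIntegral P A]
    (𝔭c 𝔭b : Ideal P) [𝔭c.IsPrime] [𝔭b.IsPrime] (hcb : 𝔭c ≤ 𝔭b)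
    (𝔮 𝔮' : Ideal A) [𝔮.IsPrime] [𝔮'.IsPrime] (hle : 𝔮 ≤ 𝔮')
    (hac : 𝔮.comap (algebraMap P A) ≤ 𝔭c)
    (hIC : IsIntegrallyClosed (P ⧸ 𝔮.comap (algebraMap P A)))
    (h𝔮' : 𝔮'.comap (algebraMap P A) = 𝔭b) :
    ∃ 𝔯 : Ideal A, 𝔯.IsPrime ∧ 𝔮 ≤ 𝔯 ∧ 𝔯 ≤ 𝔮' ∧ 𝔯.comap (algebraMap P A) = 𝔭c := by
  set I := 𝔮.comap (algebraMap P A) with hI
  have hinj : Function.Injective (algebraMap (P ⧸ I) (A ⧸ 𝔮)) :=
    Ideal.algebraMap_quotient_injective
  haveI : FaithfulSMul (P ⧸ I) (A ⧸ 𝔮) := (faithfulSMul_iff_algebraMap_injective _ _).mpr hinj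
  have hmk : ∀ g : P, algebraMap (P ⧸ I) (A ⧸ 𝔮) (Ideal.Quotient.mk I g) =
      Ideal.Quotient.mk 𝔮 (algebraMap P A g) := fun g => rfl
  have hkerI : RingHom.ker (Ideal.Quotient.mk I) = I := Ideal.mk_ker
  have hker𝔮 : RingHom.ker (Ideal.Quotient.mk 𝔮) = 𝔮 := Ideal.mk_ker
  have hab : I ≤ 𝔭b := hac.trans hcb
  haveI : (𝔭c.map (Ideal.Quotient.mk I)).IsPrime :=
    Ideal.map_isPrime_of_surjective Ideal.Quotient.mk_surjective (by rw [hkerI]; exact hac)
  haveI : (𝔭b.map (Ideal.Quotient.mk I)).IsPrime :=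
    Ideal.map_isPrime_of_surjective Ideal.Quotient.mk_surjective (by rw [hkerI]; exact hab)
  haveI : (𝔮'.map (Ideal.Quotient.mk 𝔮)).IsPrime :=
    Ideal.map_isPrime_of_surjective Ideal.Quotient.mk_surjective (by rw [hker𝔮]; exact hle)
  haveI : (𝔮'.map (Ideal.Quotient.mk 𝔮)).LiesOver (𝔭b.map (Ideal.Quotient.mk I)) := by
    constructor
    ext x
    obtain ⟨g, rfl⟩ := Ideal.Quotient.mk_surjective x
    rw [Ideal.under_def, Ideal.mem_comap, hmk, Ideal.mem_quotient_iff_mem hab,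
      Ideal.mem_quotient_iff_mem hle, ← h𝔮', Ideal.mem_comap]
  obtain ⟨Pr, hPle, hPprime, hPover⟩ :=
    Ideal.exists_ideal_le_liesOver_of_le (p := 𝔭c.map (Ideal.Quotient.mk I))
      (q := 𝔭b.map (Ideal.Quotient.mk I)) (𝔮'.map (Ideal.Quotient.mk 𝔮)) (Ideal.map_mono hcb)
  refine ⟨Pr.comap (Ideal.Quotient.mk 𝔮), Ideal.comap_isPrime _ _, ?_, ?_, ?_⟩
  · intro x hx
    rw [Ideal.mem_comap, Ideal.Quotient.eq_zero_iff_mem.mpr hx]
    exact zero_mem _
  · intro x hx
    rw [Ideal.mem_comap] at hx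
    exact (Ideal.mem_quotient_iff_mem hle).mp (hPle hx)
  · ext g
    rw [Ideal.mem_comap, Ideal.mem_comap, ← hmk, ← Ideal.mem_comap, ← Ideal.under_def,
      ← hPover.over, Ideal.mem_quotient_iff_mem hac]

/-- Incomparability. -/
theorem eq_of_le_of_comap_eq {P A : Type*} [CommRing P] [CommRing A] [Algebra P A]
    [Algebra.IsIntegral P A] (𝔮 𝔮' : Ideal A) [𝔮.IsPrime] [𝔮'.IsPrime] (hle : 𝔮 ≤ 𝔮')
    (h : 𝔮.comap (algebraMap P A) = 𝔮'.comap (algebraMap P A)) : 𝔮 = 𝔮' := by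
  by_contra hne
  have hlt : 𝔮 < 𝔮' := lt_of_le_of_ne hle hne
  have := Ideal.IsIntegral.comap_lt_comap (R := P) hlt
  rw [h] at this
  exact lt_irrefl _ this

end Between

section Pfrak

variable (k : Type u) [Field k] (d : ℕ)

/-- The ideal `(X_0, …, X_{c-1})`. -/
noncomputable def Pf (c : ℕ) : Ideal (MvPolynomial (Fin d) k) :=
  Ideal.span (X '' {l : Fin d | (l : ℕ) < c})

theorem Pf_mono {a b : ℕ} (hab : a ≤ b) : Pf k d a ≤ Pf k d b := by
  apply Ideal.span_mono
  apply Set.image_mono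
  intro l hl
  exact lt_of_lt_of_le hl hab

theorem X_notMem_Pf (j : Fin d) : (X j : MvPolynomial (Fin d) k) ∉ Pf k d j := by
  classical
  let ev : MvPolynomial (Fin d) k →ₐ[k] k :=
    aeval (fun l : Fin d => if (l : ℕ) < (j : ℕ) then (0 : k) else 1)
  have hle : Pf k d j ≤ RingHom.ker ev.toRingHom := by
    rw [Pf, Ideal.span_le]
    rintro _ ⟨l, hl, rfl⟩
    rw [SetLike.mem_coe, RingHom.mem_ker]
    show ev (X l) = 0
    simp only [ev, aeval_X]
    have hl' : (l : ℕ) < (j : ℕ) := hl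
    rw [if_pos hl']
  intro hmem
  have h0 := hle hmem
  rw [RingHom.mem_ker] at h0
  have h1 : ev (X j) = 1 := by
    simp only [ev, aeval_X]
    rw [if_neg (lt_irrefl _)]
  exact one_ne_zero (h1.symm.trans h0)

theorem Pf_ne_succ (j : ℕ) (hj : j < d) : Pf k d j ≠ Pf k d (j + 1) := by
  intro h
  have h1 : (X ⟨j, hj⟩ : MvPolynomial (Fin d) k) ∈ Pf k d (j + 1) :=
    Ideal.subset_span ⟨⟨j, hj⟩, by simp, rfl⟩
  rw [← h] at h1
  exact X_notMem_Pf k d ⟨j, hj⟩ h1

/-- The quotient by `(X_0, …, X_{c-1})` is a polynomial ring. -/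
theorem exists_quotient_Pf_equiv (c : ℕ) :
    Nonempty ((MvPolynomial (Fin d) k ⧸ Pf k d c) ≃+*
      MvPolynomial {l : Fin d // ¬ (l : ℕ) < c} k) := by
  classical
  let f : {l : Fin d // ¬ (l : ℕ) < c} → Fin d := Subtype.val
  have hf : Function.Injective f := Subtype.val_injective
  let K := killCompl (R := k) hf
  have hKsurj : Function.Surjective K := fun g => ⟨rename f g, killCompl_rename_app hf g⟩
  have hKX : ∀ l : Fin d, K (X l) = if h : ¬ (l : ℕ) < c then X ⟨l, h⟩ else 0 := by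
    intro l
    simp only [K, killCompl, aeval_X]
    by_cases h : (l : ℕ) < c
    · rw [dif_neg, dif_neg (not_not.mpr h)]
      rintro ⟨⟨l', hl'⟩, rfl⟩
      exact hl' h
    · rw [dif_pos ⟨⟨l, h⟩, rfl⟩, dif_pos h]
      congr 1
      apply hf
      rw [Equiv.apply_ofInjective_symm hf]
  have hsub : ∀ g : MvPolynomial (Fin d) k, g - rename f (K g) ∈ Pf k d c := by
    intro g
    have : (Ideal.Quotient.mkₐ k (Pf k d c)).comp ((rename f).comp K) =
        Ideal.Quotient.mkₐ k (Pf k d c) := by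
      apply MvPolynomial.algHom_ext
      intro l
      simp only [AlgHom.coe_comp, Function.comp_apply, hKX]
      by_cases h : (l : ℕ) < c
      · rw [dif_neg (not_not.mpr h), map_zero, map_zero]
        symm
        rw [Ideal.Quotient.mkₐ_eq_mk, Ideal.Quotient.eq_zero_iff_mem]
        exact Ideal.subset_span ⟨l, h, rfl⟩
      · rw [dif_pos h, rename_X]
    have h := DFunLike.congr_fun this g
    rw [← Ideal.Quotient.eq_zero_iff_mem, map_sub, sub_eq_zero]
    simpa using h.symm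
  have hker : RingHom.ker K.toRingHom = Pf k d c := by
    apply le_antisymm
    · intro g hg
      rw [RingHom.mem_ker] at hg
      have h1 := hsub g
      have h2 : K g = 0 := hg
      rw [h2, map_zero, sub_zero] at h1
      exact h1
    · rw [Pf, Ideal.span_le]
      rintro _ ⟨l, hl, rfl⟩
      rw [SetLike.mem_coe, RingHom.mem_ker]
      show K (X l) = 0
      have hl' : (l : ℕ) < c := hl
      rw [hKX, dif_neg (not_not.mpr hl')]
  have e := RingHom.quotientKerEquivOfSurjective (f := K.toRingHom) hKsurj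
  exact ⟨(Ideal.quotEquivOfEq hker.symm).trans e⟩

instance Pf_isPrime (c : ℕ) : (Pf k d c).IsPrime := by
  obtain ⟨e⟩ := exists_quotient_Pf_equiv k d c
  rw [← Ideal.Quotient.isDomain_iff_prime]
  exact e.toMulEquiv.isDomain _

theorem isIntegrallyClosed_quotient_Pf (c : ℕ) :
    IsIntegrallyClosed (MvPolynomial (Fin d) k ⧸ Pf k d c) := by
  obtain ⟨e⟩ := exists_quotient_Pf_equiv k d c
  exact IsIntegrallyClosed.of_equiv e.symm

end Pfrak

end Groth.Agent.Lib.Helper19ChainNN
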