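import Mathlib
import Groth.Agent.Lib.Helper19ChainNNE

/-!
# Noether normalization adapted to a chain of primes: assembly
-/

set_option autoImplicit false
set_option linter.style.haveILetI false
universe u

namespace Groth.Agent.Lib.Helper19ChainNN

open MvPolynomial

variable (k A : Type u) [Field k] [CommRing A] [IsDomain A] [Algebra k A] [Algebra.FiniteType k A]

theorem part1 (d : ℕ) (hd : ringKrullDim A = (d : WithBot ℕ∞))
    (r : ℕ) (q : Fin r → PrimeSpectrum A) (hq : StrictMono q) (h : Fin r → ℕ) (hh : ∀ i, h i ≤ d)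
    (hdim : ∀ i, ringKrullDim (A ⧸ (q i).asIdeal) = ((d - h i : ℕ) : WithBot ℕ∞)) :
    ∃ φ : MvPolynomial (Fin d) k →ₐ[k] A, φ.toRingHom.Finite ∧ Function.Injective φ ∧
      ∀ i, (q i).asIdeal.comap φ = Ideal.span (MvPolynomial.X '' {l : Fin d | (l : ℕ) < h i}) := by
  obtain ⟨s, g, hginj, hgfin⟩ := exists_finite_inj_algHom_of_fg k A
  have hgint : g.toRingHom.IsIntegral := hgfin.to_isIntegral
  have hs : s = d := by
    have h1 := Groth.Agent.Lib.Helper5.ringKrullDim_eq_ringKrullDim_quotient_ker_of_isIntegral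
      g.toRingHom hgint
    have hker : RingHom.ker g.toRingHom = ⊥ := (RingHom.injective_iff_ker_eq_bot _).mp hginj
    rw [hker, ringKrullDim_eq_of_ringEquiv (RingEquiv.quotientBot (MvPolynomial (Fin s) k)), hd,
      ringKrullDim_mvPolynomial_fin] at h1
    have h2 : ((d : ℕ) : WithBot ℕ∞) = ((s : ℕ) : WithBot ℕ∞) := h1
    exact_mod_cast h2.symm
  subst hs
  obtain ⟨ψ, hψint, hψinj, hψc⟩ := claim k s (Fin r) (fun i => (q i).asIdeal.comap g) h
    (fun i => Ideal.comap_isPrime g (q i).asIdeal)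
    (fun i j => by
      rcases le_total i j with hij | hij
      · exact Or.inl (Ideal.comap_mono (hq.monotone hij))
      · exact Or.inr (Ideal.comap_mono (hq.monotone hij)))
    hh
    (fun i => by
      rw [← hdim i]
      exact ringKrullDim_quotient_comap_eq g.toRingHom hgint (q i).asIdeal)
  refine ⟨g.comp ψ, ?_, hginj.comp hψinj, fun i => ?_⟩
  · have : (g.comp ψ).toRingHom = g.toRingHom.comp ψ.toRingHom := rfl
    rw [this]
    exact hgfin.comp (finite_of_isIntegral ψ hψint)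
  · rw [← hψc i]
    rfl

section Part2

variable {k A} {d : ℕ} (φ : MvPolynomial (Fin d) k →ₐ[k] A) (hφint : φ.toRingHom.IsIntegral)
  (hφinj : Function.Injective φ)
  {r : ℕ} (q : Fin r → PrimeSpectrum A) (hq : StrictMono q) (h : Fin r → ℕ)
  (hc : ∀ i, (q i).asIdeal.comap φ = Pf k d (h i))

/-- The invariant of the recursive construction. -/
def Inv (j : ℕ) (𝔯 : PrimeSpectrum A) : Prop :=
  𝔯.asIdeal.comap φ = Pf k d j ∧ ∀ i, j ≤ h i → 𝔯 ≤ q i

include hφint hq hc in
theorem next (j : ℕ) (hj : j < d) (𝔯 : PrimeSpectrum A) (hI : Inv φ q h j 𝔯) :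
    ∃ 𝔯' : PrimeSpectrum A, 𝔯 ≤ 𝔯' ∧ Inv φ q h (j + 1) 𝔯' := by
  classical
  letI : Algebra (MvPolynomial (Fin d) k) A := φ.toRingHom.toAlgebra
  haveI : Algebra.IsIntegral (MvPolynomial (Fin d) k) A := ⟨hφint⟩
  have halg : ∀ 𝔞 : Ideal A, 𝔞.comap (algebraMap (MvPolynomial (Fin d) k) A) = 𝔞.comap φ :=
    fun 𝔞 => rfl
  obtain ⟨hr1, hr2⟩ := hI
  by_cases hex : ∃ i : Fin r, j + 1 ≤ h i
  · -- smallest such index
    have hex' : ∃ m : ℕ, ∃ i : Fin r, (i : ℕ) = m ∧ j + 1 ≤ h i := by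
      obtain ⟨i, hi⟩ := hex
      exact ⟨i, i, rfl, hi⟩
    obtain ⟨i₀, hi₀m, hi₀⟩ := Nat.find_spec hex'
    have hmin : ∀ i : Fin r, j + 1 ≤ h i → i₀ ≤ i := by
      intro i hi
      have := Nat.find_min' hex' ⟨i, rfl, hi⟩
      rw [← hi₀m] at this
      exact this
    have hle : 𝔯.asIdeal ≤ (q i₀).asIdeal := hr2 i₀ (by omega)
    haveI := 𝔯.isPrime
    haveI := (q i₀).isPrime
    have hIC : IsIntegrallyClosed (MvPolynomial (Fin d) k ⧸
        𝔯.asIdeal.comap (algebraMap (MvPolynomial (Fin d) k) A)) := by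
      rw [halg, hr1]
      exact isIntegrallyClosed_quotient_Pf k d j
    obtain ⟨𝔯', h𝔯'p, h1, h2, h3⟩ := exists_between (Pf k d (j + 1)) (Pf k d (h i₀))
      (Pf_mono k d hi₀) 𝔯.asIdeal (q i₀).asIdeal hle
      (by rw [halg, hr1]; exact Pf_mono k d (Nat.le_succ j)) hIC
      (by rw [halg, hc i₀])
    refine ⟨⟨𝔯', h𝔯'p⟩, h1, ?_, ?_⟩
    · show 𝔯'.comap φ = _
      rw [← halg, h3]
    · intro i hi
      have : q i₀ ≤ q i := hq.monotone (hmin i hi)
      exact le_trans (show (⟨𝔯', h𝔯'p⟩ : PrimeSpectrum A) ≤ q i₀ from h2) this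
  · -- going up
    haveI := 𝔯.isPrime
    obtain ⟨𝔯', h1, h𝔯'p, h3⟩ := Ideal.exists_ideal_over_prime_of_isIntegral
      (R := MvPolynomial (Fin d) k) (S := A) (Pf k d (j + 1)) 𝔯.asIdeal
      (by rw [halg, hr1]; exact Pf_mono k d (Nat.le_succ j))
    refine ⟨⟨𝔯', h𝔯'p⟩, h1, ?_, ?_⟩
    · show 𝔯'.comap φ = _
      rw [← halg, h3]
    · intro i hi
      exact absurd ⟨i, hi⟩ hex

include hφint hφinj hq hc in
theorem part2 :
    ∃ Q : ℕ → PrimeSpectrum A,
      (∀ j, j ≤ d → (Q j).asIdeal.comap φ = Pf k d j) ∧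
      (∀ j, j < d → Q j < Q (j + 1)) ∧ (∀ i, h i ≤ d → Q (h i) = q i) := by
  classical
  letI : Algebra (MvPolynomial (Fin d) k) A := φ.toRingHom.toAlgebra
  haveI : Algebra.IsIntegral (MvPolynomial (Fin d) k) A := ⟨hφint⟩
  let bot : PrimeSpectrum A := ⟨⊥, Ideal.bot_prime⟩
  have hbot : Inv φ q h 0 bot := by
    refine ⟨?_, fun i _ => ?_⟩
    · show (⊥ : Ideal A).comap φ = Pf k d 0
      have h0 := comap_eq_of_h_zero k (AlgHom.id k (MvPolynomial (Fin d) k))
        Function.injective_id ⊥ rfl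
      rw [Pf, ← h0]
      ext x
      simp only [Ideal.mem_comap, Ideal.mem_bot]
      exact ⟨fun hx => by simpa using hφinj (hx.trans (map_zero φ).symm),
        fun hx => by simp at hx; rw [hx, map_zero]⟩
    · show (⊥ : Ideal A) ≤ _
      exact bot_le
  let F : ℕ → PrimeSpectrum A → PrimeSpectrum A := fun j 𝔯 =>
    if hcond : j < d ∧ Inv φ q h j 𝔯 then
      Classical.choose (next φ hφint q hq h hc j hcond.1 𝔯 hcond.2) else 𝔯
  let Q : ℕ → PrimeSpectrum A := fun j => Nat.rec bot (fun j 𝔯 => F j 𝔯) j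
  have hQsucc : ∀ j, Q (j + 1) = F j (Q j) := fun j => rfl
  have hInv : ∀ j, j ≤ d → Inv φ q h j (Q j) := by
    intro j
    induction j with
    | zero => intro _; exact hbot
    | succ j ih =>
      intro hj
      have hj' : j < d := hj
      have hI := ih hj'.le
      rw [hQsucc]
      simp only [F]
      rw [dif_pos ⟨hj', hI⟩]
      exact (Classical.choose_spec (next φ hφint q hq h hc j hj' (Q j) hI)).2
  have hle : ∀ j, j < d → Q j ≤ Q (j + 1) := by
    intro j hj
    have hI := hInv j hj.le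
    rw [hQsucc]
    simp only [F]
    rw [dif_pos ⟨hj, hI⟩]
    exact (Classical.choose_spec (next φ hφint q hq h hc j hj (Q j) hI)).1
  refine ⟨Q, fun j hj => (hInv j hj).1, fun j hj => ?_, fun i hi => ?_⟩
  · refine lt_of_le_of_ne (hle j hj) ?_
    intro heq
    have h1 := (hInv j hj.le).1
    have h2 := (hInv (j + 1) hj).1
    rw [← heq, h1] at h2
    exact Pf_ne_succ k d j hj h2
  · have hI := hInv (h i) hi
    have h1 : Q (h i) ≤ q i := hI.2 i le_rfl
    have := @eq_of_le_of_comap_eq (MvPolynomial (Fin d) k) A _ _ _ _ (Q (h i)).asIdeal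
      (q i).asIdeal (Q (h i)).isPrime (q i).isPrime h1
      (by
        show (Q (h i)).asIdeal.comap φ = (q i).asIdeal.comap φ
        rw [hI.1, hc i])
    exact PrimeSpectrum.ext this

end Part2

end Groth.Agent.Lib.Helper19ChainNN
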