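import Mathlib

/-!
# Chains of primes in a domain give algebraically independent elements

For a domain `D` and its prime subring `T = ⊥`, a strictly increasing chain of primes
`P₀ < ⋯ < Pₙ` yields at least `n - 1` elements algebraically independent over `T`; hence if `D` is
algebraic over `T[s]` for a finite set `s` then `ringKrullDim D ≤ |s| + 1`.
-/

namespace Groth.Agent.Lib.Helper19ChainTrdeg

open Polynomial

variable {D : Type*} [CommRing D] [IsDomain D]

/-- the prime subring -/
abbrev T (D : Type*) [CommRing D] : Subring D := ⊥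

/-- every nonzero element of `A` is `π ^ e * g` with `g ∉ Q`. -/
def HP (π : D) (A : Subalgebra (T D) D) (Q : Ideal D) : Prop :=
  ∀ a ∈ A, a ≠ 0 → ∃ (e : ℕ) (g : D), g ∉ Q ∧ a = π ^ e * g

lemma HP.mono {π : D} {A : Subalgebra (T D) D} {Q Q' : Ideal D} (h : HP π A Q) (hle : Q' ≤ Q) :
    HP π A Q' := by
  intro a ha ha0
  obtain ⟨e, g, hg, rfl⟩ := h a ha ha0
  exact ⟨e, g, fun hh => hg (hle hh), rfl⟩

/-- the polynomial step -/
theorem step_poly {π : D} {A : Subalgebra (T D) D} {Q Q' : Ideal D} [Q.IsPrime] [Q'.IsPrime]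
    (hle : Q' ≤ Q) {y : D} (hyQ : y ∈ Q) (hyQ' : y ∉ Q') (hπ : π ∈ Q' ∨ π ∉ Q) (H : HP π A Q) :
    ∀ (n : ℕ) (p : Polynomial A), p.natDegree ≤ n → p ≠ 0 →
      ∃ (e : ℕ) (g : D), g ∉ Q' ∧ aeval y p = π ^ e * g ∧ π ^ e ≠ 0 := by
  intro n
  induction n with
  | zero =>
    intro p hp hp0
    have hpC : p = C (p.coeff 0) := eq_C_of_natDegree_le_zero hp
    have ha0 : p.coeff 0 ≠ 0 := by
      intro h; apply hp0; rw [hpC, h, map_zero]
    have ha0' : ((p.coeff 0 : A) : D) ≠ 0 := fun h => ha0 (Subtype.ext h)
    obtain ⟨e, g, hg, hgeq⟩ := H _ (p.coeff 0).2 ha0'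
    refine ⟨e, g, fun hh => hg (hle hh), ?_, ?_⟩
    · rw [hpC, aeval_C]; exact hgeq
    · intro h0; apply ha0'; rw [hgeq, h0, zero_mul]
  | succ n ih =>
    intro p hp hp0
    have hdec : divX p * X + C (p.coeff 0) = p := divX_mul_X_add p
    have haev : aeval y p = aeval y (divX p) * y + ((p.coeff 0 : A) : D) := by
      conv_lhs => rw [← hdec]
      rw [map_add, map_mul, aeval_X, aeval_C]; rfl
    by_cases hq : divX p = 0
    · -- constant
      have hpC : p = C (p.coeff 0) := by rw [← hdec, hq]; simp
      have ha0 : p.coeff 0 ≠ 0 := by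
        intro h; apply hp0; rw [hpC, h, map_zero]
      have ha0' : ((p.coeff 0 : A) : D) ≠ 0 := fun h => ha0 (Subtype.ext h)
      obtain ⟨e, g, hg, hgeq⟩ := H _ (p.coeff 0).2 ha0'
      refine ⟨e, g, fun hh => hg (hle hh), ?_, ?_⟩
      · rw [haev, hq, map_zero, zero_mul, zero_add]; exact hgeq
      · intro h0; apply ha0'; rw [hgeq, h0, zero_mul]
    · have hqdeg : (divX p).natDegree ≤ n := by
        rw [natDegree_divX_eq_natDegree_tsub_one]; omega
      obtain ⟨e, g', hg', hgeq', hπe⟩ := ih (divX p) hqdeg hq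
      by_cases ha0 : p.coeff 0 = 0
      · refine ⟨e, y * g', ?_, ?_, hπe⟩
        · intro hh
          rcases (Ideal.IsPrime.mem_or_mem inferInstance hh) with h | h
          · exact hyQ' h
          · exact hg' h
        · rw [haev, ha0, hgeq']; simp; ring
      · have ha0' : ((p.coeff 0 : A) : D) ≠ 0 := fun h => ha0 (Subtype.ext h)
        obtain ⟨e0, g0, hg0, hgeq0⟩ := H _ (p.coeff 0).2 ha0'
        have hπe0 : π ^ e0 ≠ 0 := by
          intro h0; apply ha0'; rw [hgeq0, h0, zero_mul]
        rcases le_or_gt e0 e with hle' | hlt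
        · -- factor π^e0
          refine ⟨e0, g0 + y * (π ^ (e - e0) * g'), ?_, ?_, hπe0⟩
          · intro hh
            apply hg0
            have h1 : y * (π ^ (e - e0) * g') ∈ Q := Q.mul_mem_right _ hyQ
            have := Q.sub_mem (hle hh) h1
            simpa using this
          · rw [haev, hgeq', hgeq0]
            have : π ^ e = π ^ e0 * π ^ (e - e0) := by
              rw [← pow_add]; congr 1; omega
            rw [this]; ring
        · refine ⟨e, y * g' + π ^ (e0 - e) * g0, ?_, ?_, hπe⟩
          · intro hh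
            rcases hπ with hπ | hπ
            · -- π ∈ Q'
              have h1 : π ^ (e0 - e) * g0 ∈ Q' := by
                apply Q'.mul_mem_right
                have : e0 - e ≠ 0 := by omega
                exact Ideal.pow_mem_of_mem _ hπ _ (by omega)
              have h2 := Q'.sub_mem hh h1
              have h3 : y * g' ∈ Q' := by simpa using h2
              rcases (Ideal.IsPrime.mem_or_mem inferInstance h3) with h | h
              · exact hyQ' h
              · exact hg' h
            · -- π ∉ Q
              have h1 : y * g' ∈ Q := Q.mul_mem_right _ hyQ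
              have h2 := Q.sub_mem (hle hh) h1
              have h3 : π ^ (e0 - e) * g0 ∈ Q := by simpa using h2
              rcases (Ideal.IsPrime.mem_or_mem inferInstance h3) with h | h
              · exact hπ (Ideal.IsPrime.mem_of_pow_mem inferInstance _ h)
              · exact hg0 h
          · rw [haev, hgeq', hgeq0]
            have : π ^ e0 = π ^ e * π ^ (e0 - e) := by
              rw [← pow_add]; congr 1; omega
            rw [this]; ring

/-- the step: `y` is transcendental over `A`, and `A[y]` satisfies `HP` at `Q'`. -/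
theorem step {π : D} {F : Set D} {Q Q' : Ideal D} [Q.IsPrime] [Q'.IsPrime]
    (hle : Q' ≤ Q) {y : D} (hyQ : y ∈ Q) (hyQ' : y ∉ Q') (hπ : π ∈ Q' ∨ π ∉ Q)
    (H : HP π (Algebra.adjoin (T D) F) Q) :
    Transcendental (Algebra.adjoin (T D) F) y ∧ HP π (Algebra.adjoin (T D) (insert y F)) Q' := by
  have key := step_poly hle hyQ hyQ' hπ H
  constructor
  · rw [transcendental_iff]
    intro p hp
    by_contra hp0
    obtain ⟨e, g, hg, hgeq, hπe⟩ := key p.natDegree p le_rfl hp0
    rw [hp] at hgeq
    have : g = 0 := by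
      rcases mul_eq_zero.mp hgeq.symm with h | h
      · exact absurd h hπe
      · exact h
    exact hg (this ▸ Q'.zero_mem)
  · intro a ha ha0
    have h1 : Algebra.adjoin (T D) (insert y F) =
        (Algebra.adjoin (Algebra.adjoin (T D) F) {y}).restrictScalars (T D) := by
      rw [← Algebra.adjoin_union_eq_adjoin_adjoin, Set.union_singleton]
    rw [h1, Subalgebra.mem_restrictScalars, Algebra.adjoin_singleton_eq_range_aeval] at ha
    obtain ⟨p, rfl⟩ := ha
    have hp0 : p ≠ 0 := by
      intro h; apply ha0; rw [h]; simp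
    obtain ⟨e, g, hg, hgeq, -⟩ := key p.natDegree p le_rfl hp0
    exact ⟨e, g, hg, hgeq⟩

/-- initial `HP` for the prime subring. -/
theorem init (P : Ideal D) [P.IsPrime] :
    ∃ π : D, HP π (Algebra.adjoin (T D) (∅ : Set D)) P := by
  classical
  set I : Ideal ℤ := Ideal.comap (Int.castRingHom D) P with hI
  have hIprime : I.IsPrime := Ideal.comap_isPrime _ _
  have hmem : ∀ a ∈ Algebra.adjoin (T D) (∅ : Set D), ∃ n : ℤ, (n : D) = a := by
    intro a ha
    rw [Algebra.adjoin_empty, Algebra.mem_bot] at ha
    obtain ⟨t, rfl⟩ := ha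
    obtain ⟨n, hn⟩ := Subring.mem_bot.mp t.2
    exact ⟨n, hn⟩
  by_cases hbot : I = ⊥
  · refine ⟨1, ?_⟩
    intro a ha ha0
    obtain ⟨n, rfl⟩ := hmem a ha
    refine ⟨0, (n : D), ?_, by simp⟩
    intro hn
    have : n ∈ I := hn
    rw [hbot, Ideal.mem_bot] at this
    apply ha0; rw [this]; simp
  · -- I = span {p}
    have hprinc : I.IsPrincipal := inferInstance
    set p : ℤ := Submodule.IsPrincipal.generator I with hp
    have hIp : I = Ideal.span {p} := (Ideal.span_singleton_generator I).symm
    have hpprime : Prime p := Submodule.IsPrincipal.prime_generator_of_isPrime I hbot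
    refine ⟨(p : D), ?_⟩
    intro a ha ha0
    obtain ⟨n, rfl⟩ := hmem a ha
    have hn0 : n ≠ 0 := by
      intro h; apply ha0; rw [h]; simp
    have hfin : FiniteMultiplicity p n := by
      rw [Int.finiteMultiplicity_iff]
      refine ⟨?_, hn0⟩
      intro h1
      exact hpprime.not_unit (Int.isUnit_iff_natAbs_eq.mpr h1)
    obtain ⟨c, hc, hnd⟩ := hfin.exists_eq_pow_mul_and_not_dvd
    refine ⟨multiplicity p n, (c : D), ?_, ?_⟩
    · intro hcP
      have : c ∈ I := hcP
      rw [hIp, Ideal.mem_span_singleton] at this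
      exact hnd this
    · conv_lhs => rw [hc]
      push_cast; ring

/-- main induction along a chain of primes indexed by `ℕ`. -/
theorem chain_aux (P : ℕ → Ideal D) (n : ℕ) (hprime : ∀ i, (P i).IsPrime)
    (hlt : ∀ i j, i < j → j ≤ n → P i < P j) :
    ∃ F : Finset D, AlgebraicIndepOn (T D) id (F : Set D) ∧ n ≤ F.card + 1 := by
  classical
  have hmono : ∀ i j, i ≤ j → j ≤ n → P i ≤ P j := by
    intro i j hij hj
    rcases hij.lt_or_eq with h | h
    · exact (hlt i j h hj).le
    · rw [h]
  haveI := hprime n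
  obtain ⟨π, hπ0⟩ := init (P n)
  have claim : ∀ k, k ≤ n → ∃ F : Finset D, AlgebraicIndepOn (T D) id (F : Set D) ∧
      HP π (Algebra.adjoin (T D) (F : Set D)) (P (n - k)) ∧
      k ≤ F.card + (if π ∈ P n ∧ π ∉ P (n - k) then 1 else 0) := by
    intro k
    induction k with
    | zero =>
      intro _
      refine ⟨∅, ?_, ?_, by simp⟩
      · have : IsEmpty ↥((∅ : Finset D) : Set D) := by simp
        rw [AlgebraicIndepOn, algebraicIndependent_empty_type_iff]
        exact FaithfulSMul.algebraMap_injective _ _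
      · simpa using hπ0
    | succ k ih =>
      intro hk
      obtain ⟨F, hF, hH, hcard⟩ := ih (by omega)
      have hi : n - k = (n - (k + 1)) + 1 := by omega
      set i' := n - (k + 1) with hi'
      rw [hi] at hH hcard
      have := hprime (i' + 1)
      have := hprime i'
      have hQlt : P i' < P (i' + 1) := hlt _ _ (Nat.lt_succ_self _) (by omega)
      obtain ⟨y, hyQ, hyQ'⟩ := SetLike.exists_of_lt hQlt
      by_cases hπ : π ∈ P i' ∨ π ∉ P (i' + 1)
      · obtain ⟨htr, hH'⟩ := step hQlt.le hyQ hyQ' hπ hH
        have hyF : y ∉ F := by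
          intro hy
          apply htr
          exact isAlgebraic_algebraMap
            (⟨y, Algebra.subset_adjoin hy⟩ : Algebra.adjoin (T D) (F : Set D))
        refine ⟨insert y F, ?_, ?_, ?_⟩
        · rw [Finset.coe_insert]
          apply AlgebraicIndepOn.insert hF
          rw [Set.image_id]
          exact htr
        · rw [Finset.coe_insert]; exact hH'
        · rw [Finset.card_insert_of_notMem hyF]
          have : (if π ∈ P n ∧ π ∉ P (i' + 1) then 1 else 0) ≤
              (if π ∈ P n ∧ π ∉ P i' then 1 else 0) := by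
            split_ifs with h1 h2 h2
            · exact le_rfl
            · exfalso
              apply h2
              refine ⟨h1.1, ?_⟩
              rcases hπ with h | h
              · exact absurd (hQlt.le h) h1.2
              · intro hh; exact h (hQlt.le hh)
            · exact Nat.zero_le _
            · exact le_rfl
          omega
      · push Not at hπ
        refine ⟨F, hF, hH.mono hQlt.le, ?_⟩
        have h1 : π ∈ P n := hmono _ _ (by omega) le_rfl hπ.2
        have h2 : ¬ (π ∈ P n ∧ π ∉ P (i' + 1)) := fun h => h.2 hπ.2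
        rw [if_neg h2] at hcard
        rw [if_pos ⟨h1, hπ.1⟩]
        omega
  obtain ⟨F, hF, -, hcard⟩ := claim n le_rfl
  refine ⟨F, hF, ?_⟩
  have : (if π ∈ P n ∧ π ∉ P (n - n) then 1 else 0) ≤ 1 := by split_ifs <;> simp
  omega

/-- length of a chain of primes is bounded by `|s| + 1` when `D` is algebraic over `T[s]`. -/
theorem length_le (s : Finset D) [Algebra.IsAlgebraic (Algebra.adjoin (T D) (s : Set D)) D]
    (p : LTSeries (PrimeSpectrum D)) : p.length ≤ s.card + 1 := by
  classical
  set n := p.length with hn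
  let P : ℕ → Ideal D := fun i =>
    (p ⟨min i n, Nat.lt_succ_of_le (min_le_right _ _)⟩).asIdeal
  have hprime : ∀ i, (P i).IsPrime := fun i => (p _).isPrime
  have hlt : ∀ i j, i < j → j ≤ n → P i < P j := by
    intro i j hij hj
    have : (⟨min i n, Nat.lt_succ_of_le (min_le_right _ _)⟩ : Fin (n + 1)) <
        ⟨min j n, Nat.lt_succ_of_le (min_le_right _ _)⟩ := by
      rw [Fin.mk_lt_mk, min_eq_left (by omega), min_eq_left hj]
      exact hij
    exact p.strictMono this
  obtain ⟨F, hF, hcard⟩ := chain_aux P n hprime hlt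
  have h1 := hF.lift_cardinalMk_le_trdeg
  have h2 := Algebra.IsAlgebraic.trdeg_le_cardinalMk (T D) (s : Set D)
  simp only [Cardinal.lift_id] at h1
  have h3 := h1.trans h2
  have e1 : Cardinal.mk ↥(F : Set D) = F.card := Cardinal.mk_coe_finset
  have e2 : Cardinal.mk ↥(s : Set D) = s.card := Cardinal.mk_coe_finset
  rw [e1, e2] at h3
  have h4 : F.card ≤ s.card := by exact_mod_cast h3
  omega

/-- the Krull dimension bound. -/
theorem ringKrullDim_le (s : Finset D) [Algebra.IsAlgebraic (Algebra.adjoin (T D) (s : Set D)) D] :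
    ringKrullDim D ≤ ((s.card + 1 : ℕ) : WithBot ℕ∞) := by
  rw [ringKrullDim, Order.krullDim]
  apply iSup_le
  intro p
  have := length_le s p
  exact_mod_cast this

theorem ringKrullDim_lt_top (s : Finset D)
    [Algebra.IsAlgebraic (Algebra.adjoin (T D) (s : Set D)) D] :
    ringKrullDim D < ⊤ :=
  lt_of_le_of_lt (ringKrullDim_le s) (by
    rw [← WithBot.coe_top, ← WithBot.coe_natCast, WithBot.coe_lt_coe]
    exact ENat.natCast_lt_top _)

end Groth.Agent.Lib.Helper19ChainTrdeg
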