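import Groth.Agent.Lib.Helper19SymDiag
import Groth.Agent.Lib.Helper19QRegDir

/-!
# Differential smoothness and quasi-regularity of the diagonal ideal (helper19)
-/

set_option autoImplicit false
set_option linter.style.haveILetI false
set_option linter.unusedSectionVars false
universe u

namespace Groth.Agent.Lib.Helper19.QRegDiag

open TensorProduct KaehlerDifferential Groth.Agent.Lib.Helper19.SymPow
  Groth.Agent.Lib.Helper19.SymGr Groth.Agent.Lib.Helper19.SymDiag

variable (A B : Type u) [CommRing A] [CommRing B] [Algebra A B]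

section psi

variable (ι : Type u) [Fintype ι]

/-- the `B`-linear comparison map `Sym^ι_B(Ω) → I^n/I^(n+1)` -/
noncomputable def psi : SymmetricPower B ι (KaehlerDifferential.ideal A B).Cotangent →ₗ[B]
    PP16.grI A B (Fintype.card ι) :=
  { toFun := fun s => symToGr (KaehlerDifferential.ideal A B) ι
      (compDown (B := B) (R := B ⊗[A] B) s)
    map_add' := fun s t => by
      exact (by rw [map_add, map_add] :
        symToGr (KaehlerDifferential.ideal A B) ι (compDown (B := B) (R := B ⊗[A] B) (s + t)) =
          symToGr (KaehlerDifferential.ideal A B) ι (compDown (B := B) (R := B ⊗[A] B) s) +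
          symToGr (KaehlerDifferential.ideal A B) ι (compDown (B := B) (R := B ⊗[A] B) t))
    map_smul' := fun b s => by
      have h1 : symToGr (KaehlerDifferential.ideal A B) ι
          (compDown (B := B) (R := B ⊗[A] B) (b • s)) =
          algebraMap B (B ⊗[A] B) b •
            symToGr (KaehlerDifferential.ideal A B) ι
              (compDown (B := B) (R := B ⊗[A] B) s) := by
        rw [compDown_smul, map_smul]
      exact h1.trans (smul_gr A B _ b _).symm }

theorem psi_apply (s : SymmetricPower B ι (KaehlerDifferential.ideal A B).Cotangent) :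
    psi A B ι s = symToGr (KaehlerDifferential.ideal A B) ι
      (compDown (B := B) (R := B ⊗[A] B) s) := rfl

theorem psi_tprod_D (b : ι → B) :
    psi A B ι (SymmetricPower.tprod B fun i => (KaehlerDifferential.ideal A B).toCotangent
      ⟨(1 : B) ⊗ₜ[A] b i - b i ⊗ₜ[A] (1 : B),
        KaehlerDifferential.one_smul_sub_smul_one_mem_ideal A (b i)⟩) =
      PP16.zetaProd A B b := by
  rw [psi_apply, compDown_tprod]
  exact symToGr_tprod (KaehlerDifferential.ideal A B) ι
    (fun i => ⟨(1 : B) ⊗ₜ[A] b i - b i ⊗ₜ[A] (1 : B),
      KaehlerDifferential.one_smul_sub_smul_one_mem_ideal A (b i)⟩)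

theorem psi_bijective_iff [Nonempty ι] :
    Function.Bijective (psi A B ι) ↔
      Function.Injective (symToGr (KaehlerDifferential.ideal A B) ι) := by
  have hc := compDown_bijective (B := B) (R := B ⊗[A] B) (ι := ι)
    (M := (KaehlerDifferential.ideal A B).Cotangent) (mulHom A B) (smul_cotangent A B)
    (mulHom_algebraMap A B)
  have hsurj := symToGr_surjective (KaehlerDifferential.ideal A B) ι
  constructor
  · intro h σ₁ σ₂ e
    obtain ⟨s₁, rfl⟩ := hc.2 σ₁
    obtain ⟨s₂, rfl⟩ := hc.2 σ₂
    rw [h.1 (show psi A B ι s₁ = psi A B ι s₂ from e)]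
  · intro h
    exact Function.Bijective.comp (g := symToGr (KaehlerDifferential.ideal A B) ι) ⟨h, hsurj⟩ hc

end psi


theorem symToGr_injective_of_isDiffSmooth (h : PP16.IsDiffSmooth A B) (ι : Type u) [Fintype ι]
    [Nonempty ι] : Function.Injective (symToGr (KaehlerDifferential.ideal A B) ι) := by
  classical
  obtain ⟨φ, hφ, hbij⟩ := h.2 ι
  rw [← psi_bijective_iff]
  let φ' : SymmetricPower B ι (KaehlerDifferential.ideal A B).Cotangent →ₗ[B]
      PP16.grI A B (Fintype.card ι) := φ
  have hφ' : ∀ b : ι → B, φ' (SymmetricPower.tprod B fun i =>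
      (KaehlerDifferential.ideal A B).toCotangent
        ⟨(1 : B) ⊗ₜ[A] b i - b i ⊗ₜ[A] (1 : B),
          KaehlerDifferential.one_smul_sub_smul_one_mem_ideal A (b i)⟩) =
      PP16.zetaProd A B b := hφ
  have hspan : Submodule.span B (Set.range fun b : B => (KaehlerDifferential.ideal A B).toCotangent
      ⟨(1 : B) ⊗ₜ[A] b - b ⊗ₜ[A] (1 : B),
        KaehlerDifferential.one_smul_sub_smul_one_mem_ideal A b⟩) = ⊤ :=
    KaehlerDifferential.span_range_derivation A B
  have heq : φ'.compMultilinearMap (SymmetricPower.tprod B) =
      (psi A B ι).compMultilinearMap (SymmetricPower.tprod B) := by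
    apply MultilinearMap.ext_of_span_eq_top (γ := fun _ => B)
      (g := fun _ b => (KaehlerDifferential.ideal A B).toCotangent
        ⟨(1 : B) ⊗ₜ[A] b - b ⊗ₜ[A] (1 : B),
          KaehlerDifferential.one_smul_sub_smul_one_mem_ideal A b⟩) (fun _ => hspan)
    intro b
    simp only [LinearMap.compMultilinearMap_apply]
    rw [hφ' b, psi_tprod_D]
  have : φ' = psi A B ι := by
    apply Groth.Agent.Lib.Helper19.SymPow.ext
    intro m
    exact congrArg (fun f => f m) heq
  rw [← this]
  exact hbij

theorem isDiffSmooth_of_projective_of_injective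
    (hproj : Module.Projective B (KaehlerDifferential A B))
    (hinj : ∀ (ι : Type u) [Fintype ι] [Nonempty ι],
      Function.Injective (symToGr (KaehlerDifferential.ideal A B) ι)) :
    PP16.IsDiffSmooth A B := by
  classical
  refine ⟨hproj, fun ι _ => ?_⟩
  rcases isEmpty_or_nonempty ι with hι | hι
  · -- the degree zero part
    have h0 : Fintype.card ι = 0 := Fintype.card_eq_zero
    let b₀ : ι → B := fun i => isEmptyElim i
    let z₀ : PP16.grI A B (Fintype.card ι) := PP16.zetaProd A B b₀
    let t₀ : SymmetricPower B ι (KaehlerDifferential A B) :=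
      SymmetricPower.tprod B (fun i : ι => (isEmptyElim i : KaehlerDifferential A B))
    have hsymm : ∀ (e : Equiv.Perm ι) (f : ι → KaehlerDifferential A B),
        (MultilinearMap.constOfIsEmpty B (fun _ : ι => KaehlerDifferential A B) z₀)
          (fun i => f (e i)) =
        (MultilinearMap.constOfIsEmpty B (fun _ : ι => KaehlerDifferential A B) z₀) f :=
      fun e f => by
        simp only [MultilinearMap.constOfIsEmpty_apply, Function.const_apply]
    let φ : SymmetricPower B ι (KaehlerDifferential A B) →ₗ[B] PP16.grI A B (Fintype.card ι) :=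
      Groth.Agent.Lib.Helper19.SymPow.lift
        (MultilinearMap.constOfIsEmpty B (fun _ : ι => KaehlerDifferential A B) z₀) hsymm
    have hφ : ∀ m, φ (SymmetricPower.tprod B m) = z₀ := fun m =>
      (lift_tprod _ hsymm m).trans (by
        simp only [MultilinearMap.constOfIsEmpty_apply, Function.const_apply])
    -- the class of `c • 1`
    have hz₀ : ∀ c : B, c • z₀ = Submodule.Quotient.mk
        ⟨algebraMap B (B ⊗[A] B) c, by
          rw [h0, pow_zero, Ideal.one_eq_top]
          trivial⟩ := by
      intro c
      change c • PP16.zetaProd A B b₀ = _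
      unfold PP16.zetaProd
      rw [← Submodule.Quotient.mk_smul]
      congr 1
      apply Subtype.ext
      change c • ∏ i, ((1 : B) ⊗ₜ[A] b₀ i - b₀ i ⊗ₜ[A] (1 : B)) = _
      rw [Finset.univ_eq_empty, Finset.prod_empty, Algebra.algebraMap_eq_smul_one]
    have hmem : ∀ (r : B ⊗[A] B) (hr : r ∈ (KaehlerDifferential.ideal A B ^ Fintype.card ι).restrictScalars B),
        (Submodule.Quotient.mk ⟨r, hr⟩ : PP16.grI A B (Fintype.card ι)) = 0 ↔
          r ∈ KaehlerDifferential.ideal A B := by
      intro r hr
      rw [Submodule.Quotient.mk_eq_zero, Submodule.mem_comap, Submodule.restrictScalars_mem]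
      change r ∈ KaehlerDifferential.ideal A B ^ (Fintype.card ι + 1) ↔ _
      rw [h0, zero_add, pow_one]
    refine ⟨φ, fun b => ?_, ?_, ?_⟩
    · rw [hφ]
      change PP16.zetaProd A B b₀ = PP16.zetaProd A B b
      rw [Subsingleton.elim b b₀]
    · rw [injective_iff_map_eq_zero]
      intro s hs
      have hs' : s ∈ Submodule.span B {t₀} := by
        have : s ∈ (⊤ : Submodule B _) := trivial
        rw [← SymmetricPower.span_tprod_eq_top B ι _] at this
        refine Submodule.span_mono ?_ this
        rintro _ ⟨m, rfl⟩
        rw [Set.mem_singleton_iff]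
        change SymmetricPower.tprod B m = SymmetricPower.tprod B _
        congr 1
        exact Subsingleton.elim _ _
      obtain ⟨c, rfl⟩ := Submodule.mem_span_singleton.1 hs'
      rw [map_smul, hφ, hz₀, hmem, mem_ideal_iff, mulHom_algebraMap] at hs
      rw [hs, zero_smul]
    · intro g
      obtain ⟨⟨r, hr⟩, rfl⟩ := Submodule.Quotient.mk_surjective _ g
      refine ⟨mulHom A B r • t₀, ?_⟩
      rw [map_smul, hφ, hz₀, ← sub_eq_zero, ← Submodule.Quotient.mk_sub]
      change (Submodule.Quotient.mk ⟨algebraMap B (B ⊗[A] B) (mulHom A B r) - r, _⟩ :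
        PP16.grI A B (Fintype.card ι)) = 0
      rw [hmem, ← neg_sub]
      exact neg_mem (sub_mem_ideal A B r)
  · -- positive degrees
    exact ⟨psi A B ι, psi_tprod_D A B ι, (psi_bijective_iff A B ι).2 (hinj ι)⟩

section proj

attribute [local instance] RingHomInvPair.of_ringEquiv RingHomInvPair.of_ringEquiv_symm

/-- `quotEquiv` as a ring equivalence -/
noncomputable def quotRingEquiv : B ≃+* (B ⊗[A] B) ⧸ KaehlerDifferential.ideal A B :=
  (quotEquiv A B).toRingEquiv

theorem quot_smul (b : B) (m : (KaehlerDifferential.ideal A B).Cotangent) :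
    (quotRingEquiv A B b) • m = b • m := by
  change (Ideal.Quotient.mk _ (algebraMap B (B ⊗[A] B) b)) • m = b • m
  rw [← Ideal.Quotient.algebraMap_eq, algebraMap_smul, algebraMap_smul]

/-- the identity as a semilinear equivalence -/
noncomputable def cotEquiv :
    (KaehlerDifferential.ideal A B).Cotangent
      ≃ₛₗ[((quotRingEquiv A B : B ≃+* (B ⊗[A] B) ⧸ KaehlerDifferential.ideal A B) :
        B →+* (B ⊗[A] B) ⧸ KaehlerDifferential.ideal A B)]
      (KaehlerDifferential.ideal A B).Cotangent :=
  { toFun := id
    invFun := id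
    map_add' := fun _ _ => rfl
    map_smul' := fun b m => (quot_smul A B b m).symm
    left_inv := fun _ => rfl
    right_inv := fun _ => rfl }

theorem projective_iff :
    Module.Projective B (KaehlerDifferential A B) ↔
      Module.Projective ((B ⊗[A] B) ⧸ KaehlerDifferential.ideal A B)
        (KaehlerDifferential.ideal A B).Cotangent := by
  constructor
  · intro h
    haveI : Module.Projective B (KaehlerDifferential.ideal A B).Cotangent := h
    exact Module.Projective.of_equiv (cotEquiv A B)
  · intro h
    have : Module.Projective B (KaehlerDifferential.ideal A B).Cotangent :=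
      Module.Projective.of_equiv (cotEquiv A B).symm
    exact this

end proj


end Groth.Agent.Lib.Helper19.QRegDiag
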