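import Groth.Agent.Lib.Helper19QRegWeak
import Groth.Agent.Lib.Helper19QRegDiag
import Groth.Agent.Lib.LeadAzumaya

/-!
# Faithfully flat descent of differential smoothness (helper19)
-/

set_option autoImplicit false
set_option linter.style.haveILetI false
set_option linter.unusedSectionVars false
universe u

namespace Groth.Agent.Lib.Helper19.DiagDescent

open TensorProduct KaehlerDifferential Groth.Agent.Lib.Helper19.SymDiag

variable (A B A' B' : Type u) [CommRing A] [CommRing B] [Algebra A B]
    [CommRing A'] [CommRing B'] [Algebra A' B'] [Algebra A A'] [Algebra B B'] [Algebra A B']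
    [IsScalarTower A A' B'] [IsScalarTower A B B']

/-- the ring map `B ⊗_A B → B' ⊗_{A'} B'` -/
noncomputable def rho : B ⊗[A] B →ₐ[A] B' ⊗[A'] B' :=
  Algebra.TensorProduct.lift
    ((Algebra.TensorProduct.includeLeft (R := A') (S := A') (A := B') (B := B')).restrictScalars A |>.comp
      (IsScalarTower.toAlgHom A B B'))
    ((Algebra.TensorProduct.includeRight (R := A') (A := B') (B := B')).restrictScalars A |>.comp
      (IsScalarTower.toAlgHom A B B'))
    (fun _ _ => Commute.all _ _)

theorem rho_tmul (b₁ b₂ : B) :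
    rho A B A' B' (b₁ ⊗ₜ b₂) = algebraMap B B' b₁ ⊗ₜ algebraMap B B' b₂ := by
  simp [rho]

theorem mulHom_rho (r : B ⊗[A] B) :
    mulHom A' B' (rho A B A' B' r) = algebraMap B B' (mulHom A B r) := by
  induction r with
  | zero => simp
  | add x y hx hy => rw [map_add, map_add, hx, hy, map_add, map_add]
  | tmul b₁ b₂ =>
    rw [rho_tmul]
    change Algebra.TensorProduct.lmul' A' (algebraMap B B' b₁ ⊗ₜ[A'] algebraMap B B' b₂) =
      algebraMap B B' (Algebra.TensorProduct.lmul' A (b₁ ⊗ₜ[A] b₂))
    rw [Algebra.TensorProduct.lmul'_apply_tmul, Algebra.TensorProduct.lmul'_apply_tmul, map_mul]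

theorem rho_mem (r : B ⊗[A] B) (hr : r ∈ KaehlerDifferential.ideal A B) :
    rho A B A' B' r ∈ KaehlerDifferential.ideal A' B' := by
  rw [mem_ideal_iff] at hr ⊢
  rw [mulHom_rho, hr, map_zero]

theorem mem_of_rho_mem (hinj : Function.Injective (algebraMap B B')) (r : B ⊗[A] B)
    (hr : rho A B A' B' r ∈ KaehlerDifferential.ideal A' B') :
    r ∈ KaehlerDifferential.ideal A B := by
  rw [mem_ideal_iff] at hr ⊢
  rw [mulHom_rho] at hr
  exact hinj (hr.trans (map_zero _).symm)

theorem rho_algebraMap (b : B) :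
    rho A B A' B' (algebraMap B (B ⊗[A] B) b) =
      algebraMap B' (B' ⊗[A'] B') (algebraMap B B' b) := by
  change rho A B A' B' (b ⊗ₜ[A] (1 : B)) = (algebraMap B B' b) ⊗ₜ[A'] (1 : B')
  rw [rho_tmul, map_one]

/-- `toCotangent` with values in the module of differentials -/
noncomputable def toK : ↥(KaehlerDifferential.ideal A B) →ₗ[B ⊗[A] B] Ω[B⁄A] :=
  (KaehlerDifferential.ideal A B).toCotangent

theorem map_toK (x : KaehlerDifferential.ideal A B) :
    KaehlerDifferential.map A A' B B' (toK A B x) =
      toK A' B' ⟨rho A B A' B' x, rho_mem A B A' B' x x.2⟩ := by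
  obtain ⟨y, hy⟩ := x
  have hy' : y ∈ (KaehlerDifferential.ideal A B).restrictScalars B := hy
  rw [← KaehlerDifferential.submodule_span_range_eq_ideal] at hy'
  induction hy' using Submodule.span_induction with
  | mem z hz =>
    obtain ⟨b, rfl⟩ := hz
    have h1 := KaehlerDifferential.map_D A A' B B' b
    rw [KaehlerDifferential.D_apply, KaehlerDifferential.D_apply] at h1
    refine h1.trans ?_
    change toK A' B' _ = toK A' B' _
    congr 1
    apply Subtype.ext
    change _ = rho A B A' B' ((1 : B) ⊗ₜ[A] b - b ⊗ₜ[A] (1 : B))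
    rw [map_sub, rho_tmul, rho_tmul, map_one]
  | zero =>
    have e1 : (⟨0, hy⟩ : KaehlerDifferential.ideal A B) = 0 := rfl
    have e2 : (⟨rho A B A' B' (0 : B ⊗[A] B), rho_mem A B A' B' _ hy⟩ :
        KaehlerDifferential.ideal A' B') = 0 := Subtype.ext (map_zero _)
    rw [e1, map_zero, map_zero]
    exact ((congrArg _ e2).trans (map_zero _)).symm
  | add a b ha hb iha ihb =>
    have ha' : a ∈ KaehlerDifferential.ideal A B := by
      rw [KaehlerDifferential.submodule_span_range_eq_ideal] at ha; exact ha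
    have hb' : b ∈ KaehlerDifferential.ideal A B := by
      rw [KaehlerDifferential.submodule_span_range_eq_ideal] at hb; exact hb
    have e1 : (⟨a + b, hy⟩ : KaehlerDifferential.ideal A B) = ⟨a, ha'⟩ + ⟨b, hb'⟩ := rfl
    have e2 : (⟨rho A B A' B' (a + b), rho_mem A B A' B' _ hy⟩ : KaehlerDifferential.ideal A' B') =
        ⟨rho A B A' B' a, rho_mem A B A' B' _ ha'⟩ + ⟨rho A B A' B' b, rho_mem A B A' B' _ hb'⟩ :=
      Subtype.ext (map_add _ _ _)
    rw [e1, map_add, map_add, iha ha', ihb hb']
    exact ((congrArg _ e2).trans (map_add _ _ _)).symm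
  | smul c a ha iha =>
    have ha' : a ∈ KaehlerDifferential.ideal A B := by
      rw [KaehlerDifferential.submodule_span_range_eq_ideal] at ha; exact ha
    have e1 : (⟨c • a, hy⟩ : KaehlerDifferential.ideal A B) =
        algebraMap B (B ⊗[A] B) c • ⟨a, ha'⟩ := by
      apply Subtype.ext
      change c • a = algebraMap B (B ⊗[A] B) c • a
      rw [algebraMap_smul]
    have e2 : (⟨rho A B A' B' (c • a), rho_mem A B A' B' _ hy⟩ : KaehlerDifferential.ideal A' B') =
        algebraMap B' (B' ⊗[A'] B') (algebraMap B B' c) •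
          ⟨rho A B A' B' a, rho_mem A B A' B' _ ha'⟩ := by
      apply Subtype.ext
      change rho A B A' B' (c • a) = algebraMap B' (B' ⊗[A'] B') (algebraMap B B' c) * rho A B A' B' a
      rw [← rho_algebraMap A B A' B', ← map_mul, Algebra.smul_def]
    have l1 : toK A B ⟨c • a, hy⟩ = c • toK A B ⟨a, ha'⟩ := by
      rw [e1, map_smul, algebraMap_smul]
    have r1 : toK A' B' ⟨rho A B A' B' (c • a), rho_mem A B A' B' _ hy⟩ =
        c • toK A' B' ⟨rho A B A' B' a, rho_mem A B A' B' _ ha'⟩ := by
      rw [e2, map_smul, algebraMap_smul (B' ⊗[A'] B') (algebraMap B B' c),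
        algebraMap_smul B' c]
    rw [l1, map_smul, iha ha']
    exact r1.symm

section pushout

variable [Algebra.IsPushout A B A' B']

theorem faithfullyFlat_of_isPushout [Module.FaithfullyFlat A A'] : Module.FaithfullyFlat B B' := by
  let e : B ⊗[A] A' ≃ₐ[B] B' := Algebra.IsPushout.equiv A B A' B'
  exact Module.FaithfullyFlat.of_linearEquiv (R := B) (M := B ⊗[A] A') e.symm.toLinearEquiv

theorem isBaseChange_map : IsBaseChange B' (KaehlerDifferential.map A A' B B') := by
  haveI : Algebra.IsPushout A A' B B' := .symm inferInstance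
  apply IsBaseChange.of_equiv (KaehlerDifferential.tensorKaehlerEquiv A A' B B')
  intro ω
  have hω : ω ∈ (⊤ : Submodule B Ω[B⁄A]) := Submodule.mem_top
  rw [← KaehlerDifferential.span_range_derivation A B] at hω
  induction hω using Submodule.span_induction with
  | mem z hz =>
    obtain ⟨a, rfl⟩ := hz
    rw [KaehlerDifferential.tensorKaehlerEquiv_tmul_D, one_smul, KaehlerDifferential.map_D]
  | zero => rw [tmul_zero, map_zero, map_zero]
  | add a b _ _ ha hb => rw [tmul_add, map_add, ha, hb, map_add]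
  | smul c a _ ha =>
    have h1 := (KaehlerDifferential.tensorKaehlerEquiv A A' B B').toLinearMap.map_smul_of_tower c
      ((1 : B') ⊗ₜ[B] a)
    simp only [LinearEquiv.coe_coe] at h1
    rw [tmul_smul, h1, ha, map_smul]

theorem finite_projective_kaehler [Module.FaithfullyFlat B B'] [Module.Finite B' Ω[B'⁄A']]
    [Module.Projective B' Ω[B'⁄A']] :
    Module.Finite B Ω[B⁄A] ∧ Module.Projective B Ω[B⁄A] := by
  haveI : Algebra.IsPushout A A' B B' := .symm inferInstance
  let e : B' ⊗[B] Ω[B⁄A] ≃ₗ[B'] Ω[B'⁄A'] := KaehlerDifferential.tensorKaehlerEquiv A A' B B'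
  haveI : Module.Finite B' (B' ⊗[B] Ω[B⁄A]) := Module.Finite.equiv e.symm
  haveI : Module.Projective B' (B' ⊗[B] Ω[B⁄A]) := Module.Projective.of_equiv e.symm
  exact Groth.Agent.Lib.LeadAzumaya.finite_projective_of_faithfullyFlat_baseChange B' Ω[B⁄A]

end pushout

theorem quotEquiv_mulHom (r : B ⊗[A] B) :
    quotEquiv A B (mulHom A B r) = Ideal.Quotient.mk _ r := by
  change Ideal.Quotient.mk _ (algebraMap B (B ⊗[A] B) (mulHom A B r)) = _
  rw [eq_comm, Ideal.Quotient.eq]
  exact sub_mem_ideal A B r

/-- the identity `Ω[B⁄A] → I/I²` -/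
noncomputable def cotOfK : Ω[B⁄A] →ₗ[B] (KaehlerDifferential.ideal A B).Cotangent :=
  { toFun := fun ω => ω
    map_add' := fun _ _ => rfl
    map_smul' := fun _ _ => rfl }

/-- the identity `I/I² → Ω[B⁄A]` -/
noncomputable def kOfCot : (KaehlerDifferential.ideal A B).Cotangent →ₗ[B] Ω[B⁄A] :=
  { toFun := fun ω => ω
    map_add' := fun _ _ => rfl
    map_smul' := fun _ _ => rfl }

theorem cotOfK_toK (x : KaehlerDifferential.ideal A B) :
    cotOfK A B (toK A B x) = (KaehlerDifferential.ideal A B).toCotangent x := rfl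

theorem kOfCot_toCotangent (x : KaehlerDifferential.ideal A B) :
    kOfCot A B ((KaehlerDifferential.ideal A B).toCotangent x) = toK A B x := rfl

open MvPolynomial Groth.Agent.Lib.Helper19.SymGr Groth.Agent.Lib.Helper19.QRegConv
  Groth.Agent.Lib.Helper19.QRegDiag in
theorem qr_diag [Algebra.IsPushout A B A' B'] (h' : PP16.IsDiffSmooth A' B')
    (hinjβ : Function.Injective (algebraMap B B'))
    (r : ℕ) (μ : Fin r → ((KaehlerDifferential.ideal A B).Cotangent
      →ₗ[(B ⊗[A] B) ⧸ KaehlerDifferential.ideal A B] (B ⊗[A] B) ⧸ KaehlerDifferential.ideal A B))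
    (x : Fin r → KaehlerDifferential.ideal A B) (g : B ⊗[A] B)
    (hμ : ∀ i j, μ i ((KaehlerDifferential.ideal A B).toCotangent (x j)) =
      if i = j then Ideal.Quotient.mk _ g else 0)
    (n : ℕ) (hn : 0 < n) (Q : MvPolynomial (Fin r) (B ⊗[A] B)) (hQ : Q.IsHomogeneous n)
    (hev : eval (fun i => (x i : B ⊗[A] B)) Q ∈ KaehlerDifferential.ideal A B ^ (n + 1))
    (d : Fin r →₀ ℕ) : g ^ n * Q.coeff d ∈ KaehlerDifferential.ideal A B := by
  classical
  have hinj' := symToGr_injective_of_isDiffSmooth A' B' h'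
  have hBC := isBaseChange_map A B A' B'
  -- the functionals over `B`
  let μB : Fin r → (Ω[B⁄A] →ₗ[B] B) := fun i =>
    { toFun := fun ω => (quotEquiv A B).symm (μ i (cotOfK A B ω))
      map_add' := fun a b => by rw [map_add, map_add, map_add]
      map_smul' := fun b ω => by
        rw [map_smul, ← quot_smul A B b (cotOfK A B ω), map_smul, smul_eq_mul, map_mul,
          RingHom.id_apply, smul_eq_mul]
        congr 1
        exact (quotEquiv A B).symm_apply_apply b }
  let νB : Fin r → (Ω[B'⁄A'] →ₗ[B'] B') := fun i =>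
    hBC.lift ((Algebra.linearMap B B') ∘ₗ μB i)
  have hνB : ∀ i (ω : Ω[B⁄A]), νB i (KaehlerDifferential.map A A' B B' ω) =
      algebraMap B B' ((quotEquiv A B).symm (μ i (cotOfK A B ω))) :=
    fun i ω => hBC.lift_eq ((Algebra.linearMap B B') ∘ₗ μB i) ω
  let ν : Fin r → ((KaehlerDifferential.ideal A' B').Cotangent
      →ₗ[(B' ⊗[A'] B') ⧸ KaehlerDifferential.ideal A' B']
        (B' ⊗[A'] B') ⧸ KaehlerDifferential.ideal A' B') := fun i =>
    { toFun := fun ω => quotEquiv A' B' (νB i (kOfCot A' B' ω))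
      map_add' := fun a b => by rw [map_add, map_add, map_add]
      map_smul' := fun c ω => by
        obtain ⟨b, rfl⟩ := (quotRingEquiv A' B').surjective c
        rw [quot_smul, map_smul, map_smul, RingHom.id_apply, smul_eq_mul, smul_eq_mul, map_mul]
        rfl }
  let x' : Fin r → KaehlerDifferential.ideal A' B' := fun i =>
    ⟨rho A B A' B' (x i), rho_mem A B A' B' _ (x i).2⟩
  have hν : ∀ i j, ν i ((KaehlerDifferential.ideal A' B').toCotangent (x' j)) =
      if i = j then Ideal.Quotient.mk _ (rho A B A' B' g) else 0 := by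
    intro i j
    change quotEquiv A' B' (νB i (toK A' B' (x' j))) = _
    rw [← map_toK, hνB, cotOfK_toK, hμ]
    split_ifs with hij
    · rw [← quotEquiv_mulHom A B g, AlgEquiv.symm_apply_apply, ← mulHom_rho A B A' B', quotEquiv_mulHom]
    · rw [map_zero, map_zero, map_zero]
  have hev' : eval (fun i => ((x' i : KaehlerDifferential.ideal A' B') : B' ⊗[A'] B'))
      (map (rho A B A' B').toRingHom Q) ∈ KaehlerDifferential.ideal A' B' ^ (n + 1) := by
    have e1 : eval (fun i => ((x' i : KaehlerDifferential.ideal A' B') : B' ⊗[A'] B'))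
        (map (rho A B A' B').toRingHom Q) =
        (rho A B A' B').toRingHom (eval (fun i => (x i : B ⊗[A] B)) Q) := by
      rw [eval_map]
      have := eval₂_comp_left (rho A B A' B').toRingHom (RingHom.id _)
        (fun i => (x i : B ⊗[A] B)) Q
      rw [RingHom.comp_id] at this
      exact this.symm
    rw [e1]
    have hle : (KaehlerDifferential.ideal A B ^ (n + 1)).map (rho A B A' B').toRingHom ≤
        KaehlerDifferential.ideal A' B' ^ (n + 1) := by
      rw [Ideal.map_pow]
      apply Ideal.pow_right_mono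
      rw [Ideal.map_le_iff_le_comap]
      intro y hy
      exact rho_mem A B A' B' y hy
    exact hle (Ideal.mem_map_of_mem _ hev)
  have key := qr_of_symToGr_injective (KaehlerDifferential.ideal A' B') hinj' r ν x'
    (rho A B A' B' g) hν n hn (map (rho A B A' B').toRingHom Q) (hQ.map _) hev' d
  rw [coeff_map] at key
  apply mem_of_rho_mem A B A' B' hinjβ
  rw [map_mul, map_pow]
  exact key

open Groth.Agent.Lib.Helper19.QRegDiag Groth.Agent.Lib.Helper19.QRegWeak in
theorem isDiffSmooth_of_faithfullyFlat_baseChange [Algebra.IsPushout A B A' B']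
    [Module.FaithfullyFlat A A'] (h : PP16.IsDiffSmooth A' B')
    (hfin : Module.Finite B' Ω[B'⁄A']) :
    PP16.IsDiffSmooth A B ∧ Module.Finite B Ω[B⁄A] := by
  haveI := faithfullyFlat_of_isPushout A B A' B'
  haveI : Module.Projective B' Ω[B'⁄A'] := h.1
  obtain ⟨hfinB, hprojB⟩ := finite_projective_kaehler A B A' B'
  have hinjβ : Function.Injective (algebraMap B B') := FaithfulSMul.algebraMap_injective B B'
  haveI : Module.Projective ((B ⊗[A] B) ⧸ KaehlerDifferential.ideal A B)
      (KaehlerDifferential.ideal A B).Cotangent := (projective_iff A B).1 hprojB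
  haveI : IsScalarTower B ((B ⊗[A] B) ⧸ KaehlerDifferential.ideal A B)
      (KaehlerDifferential.ideal A B).Cotangent :=
    IsScalarTower.of_algebraMap_smul fun b m => quot_smul A B b m
  haveI : Module.Finite B (KaehlerDifferential.ideal A B).Cotangent := hfinB
  haveI : Module.Finite ((B ⊗[A] B) ⧸ KaehlerDifferential.ideal A B)
      (KaehlerDifferential.ideal A B).Cotangent :=
    Module.Finite.of_restrictScalars_finite B _ _
  exact ⟨isDiffSmooth_of_projective_of_injective A B hprojB (fun ι _ _ =>
    symToGr_injective_of_qr (KaehlerDifferential.ideal A B)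
      (qr_diag A B A' B' h hinjβ) ι), hfinB⟩

end Groth.Agent.Lib.Helper19.DiagDescent
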