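import Groth.Agent.Lib.Helper19QRegWeak

/-!
# Vanishing of elements of `Sym(J/J²)` spanned by a quasi-regular finite family (helper19)
-/

set_option autoImplicit false
set_option linter.style.haveILetI false
universe u

namespace Groth.Agent.Lib.Helper19.QRegSpan

open MvPolynomial Groth.Agent.Lib.Helper19.SymPow Groth.Agent.Lib.Helper19.SymGr
  Groth.Agent.Lib.Helper19.QRegMon Groth.Agent.Lib.Helper19.QRegConv
  Groth.Agent.Lib.Helper19.QRegDir Groth.Agent.Lib.Helper19.QRegWeak

variable {R : Type u} [CommRing R] (J : Ideal R)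

variable (ι : Type u) [Fintype ι] {r : ℕ} (x : Fin r → J)

/-- If the finite family `x` in `J` is "quasi-regular in degree `card ι`" and `σ` lies in the span
of the pure tensors in the classes of the `x i`, then `σ ↦ 0` in `gr` forces `σ = 0`. -/
theorem eq_zero_of_mem_span_Tx [Nonempty ι]
    (hqr : ∀ Q : MvPolynomial (Fin r) R, Q.IsHomogeneous (Fintype.card ι) →
      eval (fun i => (x i : R)) Q ∈ J ^ (Fintype.card ι + 1) → ∀ d, Q.coeff d ∈ J)
    (σ : SymmetricPower R ι J.Cotangent)
    (hl : σ ∈ Submodule.span R (Set.range (Tx J ι x)))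
    (hσ : symToGr J ι σ = 0) : σ = 0 := by
  classical
  obtain ⟨C, hC⟩ := (Submodule.mem_span_range_iff_exists_fun R).1 hl
  set Q : MvPolynomial (Fin r) R := ∑ w, MvPolynomial.C (C w) * ∏ i, X (w i) with hQdef
  have hQ : Q.IsHomogeneous (Fintype.card ι) := by
    apply IsHomogeneous.sum
    intro w _
    rw [prod_X_eq_monomial, C_mul_monomial]
    exact isHomogeneous_monomial _ (degree_mon w)
  obtain ⟨hm, hsum⟩ := symToGr_sum_Tx J ι x C
  have hev : eval (fun i => (x i : R)) Q ∈ J ^ (Fintype.card ι + 1) := by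
    rw [hC, hσ] at hsum
    have := (Submodule.Quotient.mk_eq_zero _).1 hsum.symm
    rwa [Submodule.mem_comap] at this
  have hco : ∀ d, Q.coeff d = ∑ w ∈ Finset.univ.filter (fun w : ι → Fin r => mon w = d), C w := by
    intro d
    rw [hQdef, coeff_sum, Finset.sum_filter]
    refine Finset.sum_congr rfl fun w _ => ?_
    rw [prod_X_eq_monomial, C_mul_monomial, coeff_monomial, mul_one]
  have hL := hqr Q hQ hev
  let D : Finset (Fin r →₀ ℕ) := Finset.univ.image (fun w : ι → Fin r => mon w)
  rw [← hC, ← Finset.sum_fiberwise_of_maps_to (g := fun w : ι → Fin r => mon w) (t := D)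
      (fun w _ => Finset.mem_image_of_mem _ (Finset.mem_univ w))]
  refine Finset.sum_eq_zero fun d hd => ?_
  obtain ⟨w₀, -, hw₀⟩ := Finset.mem_image.1 hd
  have hT : ∀ w ∈ Finset.univ.filter (fun w : ι → Fin r => mon w = d),
      C w • Tx J ι x w = C w • Tx J ι x w₀ := by
    intro w hw
    rw [Tx_eq_of_mon_eq J ι x w w₀ ((Finset.mem_filter.1 hw).2.trans hw₀.symm)]
  rw [Finset.sum_congr rfl hT, ← Finset.sum_smul, ← hco]
  apply smul_eq_zero_of_forall
  intro v
  exact smul_cot_eq_zero _ (hL d) v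

end Groth.Agent.Lib.Helper19.QRegSpan
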