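import Groth.Agent.Lib.Helper19DerPair
import Groth.Agent.Lib.Helper19QRegSpan
import Groth.Agent.Lib.Helper19DiagDescent

/-!
# Characteristic zero: `Ω` free implies differentially smooth (helper19)
-/

set_option autoImplicit false
set_option linter.style.haveILetI false
set_option linter.unusedSectionVars false
universe u

namespace Groth.Agent.Lib.Helper19.CharZeroSmooth

open TensorProduct KaehlerDifferential MvPolynomial Groth.Agent.Lib.Helper19.SymPow
  Groth.Agent.Lib.Helper19.SymGr Groth.Agent.Lib.Helper19.SymDiag
  Groth.Agent.Lib.Helper19.QRegDiag Groth.Agent.Lib.Helper19.QRegWeak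
  Groth.Agent.Lib.Helper19.QRegSpan Groth.Agent.Lib.Helper19.DiagDescent
  Groth.Agent.Lib.Helper19.DerPair

section general

variable {R : Type u} [CommRing R] {M : Type u} [AddCommGroup M] [Module R M]

/-- every element of a symmetric power involves only finitely many members of a spanning family -/
theorem exists_finset_mem_span (ι : Type u) [Fintype ι] {Λ : Type u} (ξ : Λ → M)
    (hξ : ∀ v : M, v ∈ Submodule.span R (Set.range ξ)) (σ : SymmetricPower R ι M) :
    ∃ s : Finset Λ, σ ∈ Submodule.span R
      {t | ∃ g : ι → Λ, (∀ i, g i ∈ s) ∧ t = SymmetricPower.tprod R (fun i => ξ (g i))} := by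
  classical
  have hσ : σ ∈ (⊤ : Submodule R _) := Submodule.mem_top
  rw [← SymmetricPower.span_tprod_eq_top R ι _] at hσ
  induction hσ using Submodule.span_induction with
  | mem y hy =>
    obtain ⟨m, rfl⟩ := hy
    choose c hc using fun i => (Finsupp.mem_span_range_iff_exists_finsupp).1 (hξ (m i))
    refine ⟨Finset.univ.biUnion fun i => (c i).support, ?_⟩
    set s := Finset.univ.biUnion fun i => (c i).support with hs
    have hm : m = fun i => ∑ l ∈ s, c i l • ξ l := by
      funext i
      rw [← hc i]
      apply Finsupp.sum_of_support_subset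
      · intro l hl
        exact Finset.mem_biUnion.2 ⟨i, Finset.mem_univ i, hl⟩
      · intro l _
        rw [zero_smul]
    rw [hm, MultilinearMap.map_sum_finset (SymmetricPower.tprod R)]
    refine Submodule.sum_mem _ fun g hg => ?_
    rw [MultilinearMap.map_smul_univ]
    refine Submodule.smul_mem _ _ (Submodule.subset_span ⟨g, fun i => ?_, rfl⟩)
    exact (Fintype.mem_piFinset.1 hg) i
  | zero => exact ⟨∅, Submodule.zero_mem _⟩
  | add a b _ _ ha hb =>
    obtain ⟨s₁, h₁⟩ := ha
    obtain ⟨s₂, h₂⟩ := hb
    refine ⟨s₁ ∪ s₂, Submodule.add_mem _ ?_ ?_⟩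
    · refine Submodule.span_mono ?_ h₁
      rintro t ⟨g, hg, rfl⟩
      exact ⟨g, fun i => Finset.mem_union_left _ (hg i), rfl⟩
    · refine Submodule.span_mono ?_ h₂
      rintro t ⟨g, hg, rfl⟩
      exact ⟨g, fun i => Finset.mem_union_right _ (hg i), rfl⟩
  | smul t a _ ha =>
    obtain ⟨s, h⟩ := ha
    exact ⟨s, Submodule.smul_mem _ _ h⟩

end general

variable (A B : Type u) [CommRing A] [CommRing B] [Algebra A B]

/-- `id ⊗ D` as a `B`-linear derivation of `B ⊗[A] B` (left structure) -/
noncomputable def nablaOf (D : Derivation A B B) : Derivation B (B ⊗[A] B) (B ⊗[A] B) :=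
  Derivation.mk'
    (TensorProduct.AlgebraTensorModule.map (LinearMap.id : B →ₗ[B] B) (D : B →ₗ[A] B)) (by
    intro x y
    induction x using TensorProduct.induction_on with
    | zero => simp
    | tmul a b =>
      induction y using TensorProduct.induction_on with
      | zero => simp
      | tmul a' b' =>
        simp only [Algebra.TensorProduct.tmul_mul_tmul, TensorProduct.AlgebraTensorModule.map_tmul,
          LinearMap.id_coe, id_eq, Derivation.coeFn_coe, Derivation.leibniz, smul_eq_mul,
          TensorProduct.tmul_add]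
        rw [mul_comm a' a]
      | add y y' hy hy' =>
        rw [mul_add, map_add, hy, hy', map_add, smul_add, add_smul]
        abel
    | add x x' hx hx' =>
      rw [add_mul, map_add, hx, hx', map_add, smul_add, add_smul]
      abel)

theorem nablaOf_tmul (D : Derivation A B B) (a b : B) :
    nablaOf A B D (a ⊗ₜ[A] b) = a ⊗ₜ[A] D b := rfl

theorem lmul_nablaOf (D : Derivation A B B) (x : B ⊗[A] B) :
    Algebra.TensorProduct.lmul'' A (nablaOf A B D x) = D.tensorProductTo x := by
  induction x using TensorProduct.induction_on with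
  | zero => simp
  | tmul a b =>
    rw [nablaOf_tmul, Derivation.tensorProductTo_tmul]
    rfl
  | add x y hx hy => rw [map_add, map_add, map_add, hx, hy]

theorem tensorProductTo_compDer (f : Ω[B⁄A] →ₗ[B] B) (x : B ⊗[A] B) :
    (f.compDer (KaehlerDifferential.D A B)).tensorProductTo x =
      f ((KaehlerDifferential.D A B).tensorProductTo x) := by
  induction x using TensorProduct.induction_on with
  | zero => simp
  | tmul a b =>
    rw [Derivation.tensorProductTo_tmul, Derivation.tensorProductTo_tmul, map_smul]
    rfl
  | add x y hx hy => rw [map_add, map_add, map_add, hx, hy]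

theorem ker_lmul : RingHom.ker (Algebra.TensorProduct.lmul'' A : B ⊗[A] B →ₐ[B] B) =
    KaehlerDifferential.ideal A B := by
  ext x
  rfl

/-- the identity `Ω → I/I²`, linear over `B ⊗ B` -/
noncomputable def cotOfK' : Ω[B⁄A] →ₗ[B ⊗[A] B] (KaehlerDifferential.ideal A B).Cotangent :=
  { toFun := fun ω => ω
    map_add' := fun _ _ => rfl
    map_smul' := fun _ _ => rfl }

section main

variable {A B}
variable {Λ : Type u} (b : Module.Basis Λ B Ω[B⁄A]) (x : Λ → KaehlerDifferential.ideal A B)
  (hx : ∀ l, toK A B (x l) = b l)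

include hx

theorem mem_span_xi (v : (KaehlerDifferential.ideal A B).Cotangent) :
    v ∈ Submodule.span (B ⊗[A] B)
      (Set.range fun l => (KaehlerDifferential.ideal A B).toCotangent (x l)) := by
  have hv : kOfCot A B v ∈ Submodule.span B (Set.range b) := by
    rw [b.span_eq]; trivial
  have key : ∀ ω : Ω[B⁄A], ω ∈ Submodule.span B (Set.range b) →
      cotOfK' A B ω ∈ Submodule.span (B ⊗[A] B)
        (Set.range fun l => (KaehlerDifferential.ideal A B).toCotangent (x l)) := by
    intro ω hω
    induction hω using Submodule.span_induction with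
    | mem y hy =>
      obtain ⟨l, rfl⟩ := hy
      rw [← hx l]
      exact Submodule.subset_span ⟨l, rfl⟩
    | zero => rw [map_zero]; exact Submodule.zero_mem _
    | add y z _ _ hy hz => rw [map_add]; exact Submodule.add_mem _ hy hz
    | smul c y _ hy =>
      rw [← algebraMap_smul (B ⊗[A] B) c y, map_smul]
      exact Submodule.smul_mem _ _ hy
  exact key _ hv

theorem pairing_delta [DecidableEq Λ] (l l' : Λ) :
    Algebra.TensorProduct.lmul'' A
      (nablaOf A B ((b.coord l).compDer (KaehlerDifferential.D A B)) (x l' : B ⊗[A] B)) =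
      if l = l' then 1 else 0 := by
  rw [lmul_nablaOf, tensorProductTo_compDer, KaehlerDifferential.D_tensorProductTo]
  change b.coord l (toK A B (x l')) = _
  rw [hx l', Module.Basis.coord_apply, Module.Basis.repr_self, Finsupp.single_apply]
  by_cases h : l = l'
  · rw [if_pos h, if_pos h.symm]
  · rw [if_neg h, if_neg (Ne.symm h)]

theorem symToGr_injective_of_basis [Algebra ℚ B] (ι : Type u) [Fintype ι] [Nonempty ι] :
    Function.Injective (symToGr (KaehlerDifferential.ideal A B) ι) := by
  classical
  rw [injective_iff_map_eq_zero]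
  intro σ hσ
  obtain ⟨s, hs⟩ := exists_finset_mem_span ι
    (fun l => (KaehlerDifferential.ideal A B).toCotangent (x l)) (mem_span_xi b x hx) σ
  let e : s ≃ Fin s.card := s.equivFin
  let x' : Fin s.card → KaehlerDifferential.ideal A B := fun k => x (e.symm k)
  have hl : σ ∈ Submodule.span (B ⊗[A] B)
      (Set.range (Tx (KaehlerDifferential.ideal A B) ι x')) := by
    refine Submodule.span_mono ?_ hs
    rintro t ⟨g, hg, rfl⟩
    refine ⟨fun i => e ⟨g i, hg i⟩, ?_⟩
    change SymmetricPower.tprod (B ⊗[A] B) (fun i => (KaehlerDifferential.ideal A B).toCotangent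
      (x (e.symm (e ⟨g i, hg i⟩)))) = _
    simp only [Equiv.symm_apply_apply]
  refine eq_zero_of_mem_span_Tx (KaehlerDifferential.ideal A B) ι x' ?_ σ hl hσ
  intro Q hQ hev d
  have hS : ∀ n : ℕ, 0 < n → IsUnit ((n : ℕ) : B) := by
    intro n hn
    have h1 : IsUnit ((n : ℕ) : ℚ) := IsUnit.mk0 _ (Nat.cast_ne_zero.2 hn.ne')
    have h2 := h1.map (algebraMap ℚ B)
    rwa [map_natCast] at h2
  have := coeff_mem_ker (S := B) (R := B ⊗[A] B) (Algebra.TensorProduct.lmul'' A)
    (fun k : Fin s.card =>
      nablaOf A B ((b.coord (e.symm k : Λ)).compDer (KaehlerDifferential.D A B)))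
    (fun k => (x' k : B ⊗[A] B))
    (fun k => by
      have h : (x' k : B ⊗[A] B) ∈
          RingHom.ker (Algebra.TensorProduct.lmul'' A : B ⊗[A] B →ₐ[B] B) := by
        rw [ker_lmul]; exact (x' k).2
      exact (RingHom.mem_ker).1 h)
    (fun k k' => by
      rw [pairing_delta b x hx]
      by_cases h : k = k'
      · rw [if_pos h, if_pos (by rw [h])]
      · rw [if_neg h, if_neg]
        intro h'
        exact h (e.symm.injective (Subtype.ext h')))
    hS (Fintype.card ι) Q hQ (by rw [ker_lmul]; exact hev) d
  rwa [ker_lmul] at this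

end main

theorem isDiffSmooth_of_free_of_charZero [Algebra ℚ B]
    (hΩ : Module.Free B (KaehlerDifferential A B)) : PP16.IsDiffSmooth A B := by
  classical
  let b := Module.Free.chooseBasis B (KaehlerDifferential A B)
  choose x hx using fun l => Ideal.toCotangent_surjective (KaehlerDifferential.ideal A B)
    (cotOfK A B (b l))
  refine isDiffSmooth_of_projective_of_injective A B inferInstance fun ι _ _ => ?_
  exact symToGr_injective_of_basis b x (fun l => hx l) ι

end Groth.Agent.Lib.Helper19.CharZeroSmooth
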