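import Mathlib

/-!
# Integrality of characteristic polynomial coefficients (helper19)

* `charpoly_dvd_pow`: if `P(M) = 0` then `χ_M ∣ P ^ n`.
* `exists_monic_aeval_eq_zero_of_lattice`: a matrix over `S` stabilising a finitely generated
  `R`-submodule that spans `S^n` is integral over `R`.
* `isIntegral_charpoly_coeff_of_lattice`.
-/

set_option autoImplicit false

open Polynomial

namespace Groth.Agent.Lib.Helper19CharpolyInt

theorem exists_mul_eq_aeval_sub {S B : Type*} [CommRing S] [Ring B] [Algebra S B] (x y : B)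
    (hxy : Commute x y) (P : S[X]) :
    ∃ Q : B, (x - y) * Q = Polynomial.aeval x P - Polynomial.aeval y P := by
  induction P using Polynomial.induction_on' with
  | add p q hp hq =>
    obtain ⟨Q1, h1⟩ := hp
    obtain ⟨Q2, h2⟩ := hq
    refine ⟨Q1 + Q2, ?_⟩
    rw [mul_add, h1, h2, map_add, map_add]
    abel
  | monomial n a =>
    refine ⟨a • ∑ i ∈ Finset.range n, x ^ i * y ^ (n - 1 - i), ?_⟩
    rw [mul_smul_comm, hxy.mul_geom_sum₂, Polynomial.aeval_monomial, Polynomial.aeval_monomial,
      ← Algebra.smul_def, ← Algebra.smul_def, smul_sub]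

theorem charpoly_dvd_pow {S : Type*} [CommRing S] {n : Type*} [Fintype n] [DecidableEq n]
    (M : Matrix n n S) (P : S[X]) (hP : Polynomial.aeval M P = 0) :
    M.charpoly ∣ P ^ Fintype.card n := by
  set x : Matrix n n S[X] := Matrix.scalar n (X : S[X]) with hx
  set y : Matrix n n S[X] := (C : S →+* S[X]).mapMatrix M with hy
  have hxy : Commute x y := Matrix.scalar_commute _ (fun r => Commute.all _ r) _
  obtain ⟨Q, hQ⟩ := exists_mul_eq_aeval_sub (S := S) x y hxy P
  have h1 : Polynomial.aeval x P = Matrix.scalar n P := by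
    have : x = algebraMap S[X] (Matrix n n S[X]) X := by
      rw [hx, Matrix.algebraMap_eq_diagonal, Matrix.scalar_apply]
      rfl
    rw [this, Polynomial.aeval_algebraMap_apply, Polynomial.aeval_X_left_apply,
      Matrix.algebraMap_eq_diagonal, Matrix.scalar_apply]
    rfl
  have h2 : Polynomial.aeval y P = 0 := by
    have : y = (AlgHom.mapMatrix (Polynomial.CAlgHom (R := S) (A := S)) : Matrix n n S →ₐ[S] _) M := rfl
    rw [this, Polynomial.aeval_algHom_apply, hP, map_zero]
  rw [h1, h2, sub_zero] at hQ
  have h3 : Matrix.charmatrix M * Q = Matrix.scalar n P := hQ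
  have h4 := congrArg Matrix.det h3
  rw [Matrix.det_mul, Matrix.scalar_apply, Matrix.det_diagonal, Finset.prod_const,
    Finset.card_univ] at h4
  exact ⟨Q.det, h4.symm⟩

section Lattice

variable {R S : Type*} [CommRing R] [CommRing S] [Algebra R S] {n : Type*} [Fintype n]
  [DecidableEq n]

/-- the `R`-linear endomorphism of `S^n` given by a matrix -/
noncomputable def mulVecR (M : Matrix n n S) : (n → S) →ₗ[R] (n → S) :=
  (Matrix.mulVecLin M).restrictScalars R

theorem mulVecR_apply (M : Matrix n n S) (x : n → S) : mulVecR (R := R) M x = M.mulVec x := rfl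

theorem aeval_mulVec (M : Matrix n n S) (N : Submodule R (n → S))
    (hN : ∀ x ∈ N, M.mulVec x ∈ N) (P : R[X]) (x : n → S) (hx : x ∈ N) :
    (Polynomial.aeval M P).mulVec x =
      ((Polynomial.aeval ((mulVecR (R := R) M).restrict hN) P) ⟨x, hx⟩ : N).1 := by
  induction P using Polynomial.induction_on' generalizing x with
  | add p q hp hq =>
    rw [map_add, map_add, Matrix.add_mulVec, hp x hx, hq x hx]
    rfl
  | monomial k a =>
    rw [Polynomial.aeval_monomial, Polynomial.aeval_monomial]
    induction k generalizing x with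
    | zero =>
      simp only [pow_zero, mul_one]
      rw [Algebra.algebraMap_eq_smul_one, Algebra.algebraMap_eq_smul_one, Matrix.smul_mulVec,
        Matrix.one_mulVec]
      rfl
    | succ k ih =>
      rw [pow_succ, pow_succ, ← mul_assoc, ← mul_assoc, ← Matrix.mulVec_mulVec,
        ih (M.mulVec x) (hN x hx)]
      rfl

theorem exists_monic_aeval_eq_zero_of_lattice (M : Matrix n n S) (N : Submodule R (n → S))
    (hfg : N.FG) (hN : ∀ x ∈ N, M.mulVec x ∈ N)
    (hspan : Submodule.span S (N : Set (n → S)) = ⊤) :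
    ∃ P : R[X], P.Monic ∧ Polynomial.aeval M P = 0 := by
  haveI : Module.Finite R N := Module.Finite.iff_fg.mpr hfg
  obtain ⟨P, hmonic, hP⟩ :=
    LinearMap.exists_monic_and_aeval_eq_zero R ((mulVecR (R := R) M).restrict hN)
  refine ⟨P, hmonic, ?_⟩
  have h1 : ∀ x ∈ N, (Polynomial.aeval M P).mulVec x = 0 := by
    intro x hx
    rw [aeval_mulVec M N hN P x hx, hP]
    rfl
  have h2 : Matrix.mulVecLin (Polynomial.aeval M P) = 0 := by
    apply LinearMap.ext_on_range (v := fun x : N => (x : n → S))
    · rw [Subtype.range_coe_subtype]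
      exact hspan
    · intro x
      rw [Matrix.mulVecLin_apply, h1 x.1 x.2]
      rfl
  have h3 : Matrix.toLin' (Polynomial.aeval M P) = 0 := by
    rw [Matrix.toLin'_apply']
    exact h2
  exact (LinearEquiv.map_eq_zero_iff _).mp h3

attribute [local instance] Polynomial.algebra in
theorem isIntegral_charpoly_coeff_of_lattice (M : Matrix n n S) (N : Submodule R (n → S))
    (hfg : N.FG) (hN : ∀ x ∈ N, M.mulVec x ∈ N)
    (hspan : Submodule.span S (N : Set (n → S)) = ⊤) (j : ℕ) :
    IsIntegral R (M.charpoly.coeff j) := by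
  obtain ⟨P, hmonic, hP⟩ := exists_monic_aeval_eq_zero_of_lattice M N hfg hN hspan
  have h1 : Polynomial.aeval M (P.map (algebraMap R S)) = 0 := by
    rw [Polynomial.aeval_map_algebraMap, hP]
  have h2 := charpoly_dvd_pow M _ h1
  rw [← Polynomial.map_pow] at h2
  exact Polynomial.isIntegral_coeff_of_dvd (P ^ Fintype.card n) M.charpoly
    (hmonic.pow _) (Matrix.charpoly_monic M) h2 j

end Lattice

end Groth.Agent.Lib.Helper19CharpolyInt
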