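import Mathlib
import Groth.Agent.Lib.Helper19CharpolyInt

/-!
# The algebra generated by characteristic polynomial coefficients is finite (helper19)
-/

set_option autoImplicit false
set_option linter.style.haveILetI false

open TensorProduct

namespace Groth.Agent.Lib.Helper19CharpolyFG

open Groth.Agent.Lib.Helper19CharpolyInt

attribute [local instance] MvPolynomial.algebraMvPolynomial

universe u

section FiniteEnd

theorem finite_end (A : Type*) [CommRing A] [IsNoetherianRing A] (E : Type*) [AddCommGroup E]
    [Module A E] [Module.Finite A E] : Module.Finite A (E →ₗ[A] E) := by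
  obtain ⟨n, f, hf⟩ := Module.Finite.exists_fin' A E
  let φ : (E →ₗ[A] E) →ₗ[A] ((Fin n → A) →ₗ[A] E) := LinearMap.lcomp A E f
  have hφ : Function.Injective φ := by
    intro g h hgh
    ext x
    obtain ⟨y, rfl⟩ := hf x
    exact LinearMap.congr_fun hgh y
  haveI : IsNoetherian A ((Fin n → A) →ₗ[A] E) := isNoetherian_of_isNoetherianRing_of_finite A _
  exact Module.Finite.of_injective φ hφ

end FiniteEnd

section Main

variable (A : Type u) [CommRing A] [IsNoetherianRing A] (K : Type u) [CommRing K] [Algebra A K]
  (E : Type u) [AddCommGroup E] [Module A E] [Module.Finite A E]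
  [Module.Free K (K ⊗[A] E)]

variable {A K E} in
/-- coordinates of `1 ⊗ e`, with constant polynomial entries -/
noncomputable def rho {ι : Type*} [Fintype ι] (m : ℕ) (b : Module.Basis ι K (K ⊗[A] E)) :
    E →ₗ[A] (ι → MvPolynomial (Fin m) K) :=
  (((Algebra.linearMap K (MvPolynomial (Fin m) K)).restrictScalars A).compLeft ι).comp
    ((b.equivFun.toLinearMap.restrictScalars A).comp (TensorProduct.mk A K E 1))

variable {A K E} in
theorem rho_apply {ι : Type*} [Fintype ι] (m : ℕ) (b : Module.Basis ι K (K ⊗[A] E)) (e : E)
    (l : ι) : rho m b e l = MvPolynomial.C (b.equivFun ((1 : K) ⊗ₜ[A] e) l) := rfl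

theorem fg_adjoin_charpoly_coeffs :
    (Algebra.adjoin A {c : K | ∃ (v : E →ₗ[A] E) (j : ℕ),
      c = ((v.baseChange K).charpoly).coeff j}).toSubmodule.FG := by
  classical
  haveI := finite_end A E
  obtain ⟨m, vs, hvs⟩ := Module.Finite.exists_fin (R := A) (M := E →ₗ[A] E)
  obtain ⟨G, hG⟩ := (Module.Finite.fg_top : (⊤ : Submodule A E).FG)
  set ι := Module.Free.ChooseBasisIndex K (K ⊗[A] E) with hι
  set b : Module.Basis ι K (K ⊗[A] E) := Module.Free.chooseBasis K (K ⊗[A] E) with hb
  let S := MvPolynomial (Fin m) K
  let R := MvPolynomial (Fin m) A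
  let Mi : Fin m → Matrix ι ι K := fun i => LinearMap.toMatrix b b ((vs i).baseChange K)
  let Mgen : Matrix ι ι S := ∑ i, (MvPolynomial.X i : S) • (Mi i).map MvPolynomial.C
  -- the lattice
  let N : Submodule R (ι → S) := Submodule.span R ((rho m b) '' (G : Set E))
  have hsmul : ∀ (a : A) (w : ι → S), a • w = (MvPolynomial.C a : R) • w := by
    intro a w
    funext l
    simp only [Pi.smul_apply]
    rw [Algebra.smul_def, Algebra.smul_def]
    congr 1
    show MvPolynomial.C (algebraMap A K a) = MvPolynomial.map (algebraMap A K) (MvPolynomial.C a)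
    rw [MvPolynomial.map_C]
  have hrhoN : ∀ e : E, rho m b e ∈ N := by
    intro e
    have he : e ∈ Submodule.span A (G : Set E) := by
      rw [hG]
      trivial
    refine Submodule.span_induction (p := fun e _ => rho m b e ∈ N) ?_ ?_ ?_ ?_ he
    · intro g hg
      exact Submodule.subset_span ⟨g, hg, rfl⟩
    · rw [map_zero]
      exact N.zero_mem
    · intro x y _ _ hx hy
      rw [map_add]
      exact N.add_mem hx hy
    · intro a x _ hx
      rw [map_smul, hsmul]
      exact N.smul_mem _ hx
  have hXsmul : ∀ (i : Fin m) (w : ι → S), (MvPolynomial.X i : R) • w = (MvPolynomial.X i : S) • w := by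
    intro i w
    funext l
    simp only [Pi.smul_apply]
    rw [Algebra.smul_def, smul_eq_mul]
    congr 1
    show MvPolynomial.map (algebraMap A K) (MvPolynomial.X i) = MvPolynomial.X i
    rw [MvPolynomial.map_X]
  have hmulrho : ∀ e : E, Mgen.mulVec (rho m b e) = ∑ i, (MvPolynomial.X i : R) • rho m b (vs i e) := by
    intro e
    show (∑ i, (MvPolynomial.X i : S) • (Mi i).map MvPolynomial.C).mulVec (rho m b e) = _
    rw [Matrix.sum_mulVec]
    apply Finset.sum_congr rfl
    intro i _
    rw [Matrix.smul_mulVec, hXsmul]
    congr 1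
    funext l
    have h1 : rho m b e = (MvPolynomial.C : K →+* S) ∘ (b.equivFun ((1 : K) ⊗ₜ[A] e)) := by
      funext l'
      rfl
    rw [h1, ← RingHom.map_mulVec, rho_apply]
    congr 1
    have h2 := LinearMap.toMatrix_mulVec_repr b b ((vs i).baseChange K) ((1 : K) ⊗ₜ[A] e)
    rw [LinearMap.baseChange_tmul] at h2
    exact congrFun h2 l
  have hNstab : ∀ x ∈ N, Mgen.mulVec x ∈ N := by
    intro x hx
    refine Submodule.span_induction (p := fun x _ => Mgen.mulVec x ∈ N) ?_ ?_ ?_ ?_ hx
    · rintro _ ⟨g, _, rfl⟩
      rw [hmulrho]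
      exact N.sum_mem fun i _ => N.smul_mem _ (hrhoN _)
    · rw [Matrix.mulVec_zero]
      exact N.zero_mem
    · intro x y _ _ hx hy
      rw [Matrix.mulVec_add]
      exact N.add_mem hx hy
    · intro r x _ hx
      have : r • x = (algebraMap R S r) • x := by
        funext l
        simp only [Pi.smul_apply]
        rw [Algebra.smul_def, smul_eq_mul]
      rw [this, Matrix.mulVec_smul]
      have h2 : (algebraMap R S r) • Mgen.mulVec x = r • Mgen.mulVec x := by
        funext l
        simp only [Pi.smul_apply]
        rw [smul_eq_mul, Algebra.smul_def]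
      rw [h2]
      exact N.smul_mem _ hx
  have hNspan : Submodule.span S (N : Set (ι → S)) = ⊤ := by
    rw [eq_top_iff]
    have key : ∀ z : K ⊗[A] E,
        ((MvPolynomial.C : K →+* S) ∘ (b.equivFun z)) ∈ Submodule.span S (N : Set (ι → S)) := by
      intro z
      induction z using TensorProduct.induction_on with
      | zero =>
        have : ((MvPolynomial.C : K →+* S) ∘ (b.equivFun (0 : K ⊗[A] E))) = 0 := by
          funext l
          simp
        rw [this]
        exact Submodule.zero_mem _
      | tmul k e =>
        have : ((MvPolynomial.C : K →+* S) ∘ (b.equivFun (k ⊗ₜ[A] e))) =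
            (MvPolynomial.C k : S) • rho m b e := by
          funext l
          have h1 : k ⊗ₜ[A] e = k • ((1 : K) ⊗ₜ[A] e) := by
            rw [TensorProduct.smul_tmul', smul_eq_mul, mul_one]
          simp only [Function.comp_apply, Pi.smul_apply, rho_apply]
          rw [h1, map_smul, Pi.smul_apply, smul_eq_mul, map_mul, smul_eq_mul]
        rw [this]
        exact Submodule.smul_mem _ _ (Submodule.subset_span (hrhoN e))
      | add x y hx hy =>
        have : ((MvPolynomial.C : K →+* S) ∘ (b.equivFun (x + y))) =
            ((MvPolynomial.C : K →+* S) ∘ (b.equivFun x)) +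
              ((MvPolynomial.C : K →+* S) ∘ (b.equivFun y)) := by
          funext l
          simp
        rw [this]
        exact Submodule.add_mem _ hx hy
    intro w _
    have hw : w = ∑ l, w l • ((MvPolynomial.C : K →+* S) ∘ (b.equivFun (b l))) := by
      funext l'
      rw [Finset.sum_apply, Finset.sum_eq_single l']
      · simp [Module.Basis.equivFun_self]
      · intro l _ hne
        simp [Module.Basis.equivFun_self, hne]
      · intro h
        exact absurd (Finset.mem_univ l') h
    rw [hw]
    exact Submodule.sum_mem _ fun l _ => Submodule.smul_mem _ _ (key (b l))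
  have hNfg : N.FG := Submodule.fg_span (Set.Finite.image _ G.finite_toSet)
  -- integrality of the generic coefficients
  have hint : ∀ (j : ℕ) (α : Fin m →₀ ℕ), IsIntegral A ((Mgen.charpoly.coeff j).coeff α) := by
    intro j α
    have h1 : IsIntegral R (Mgen.charpoly.coeff j) :=
      isIntegral_charpoly_coeff_of_lattice Mgen N hNfg hNstab hNspan j
    exact MvPolynomial.isIntegral_iff_isIntegral_coeff.mp h1 α
  -- the finite generating set
  let Gset : Finset K := (Finset.range (Mgen.charpoly.natDegree + 1)).biUnion fun j =>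
    (Mgen.charpoly.coeff j).support.image fun α => (Mgen.charpoly.coeff j).coeff α
  have hGint : ∀ x ∈ (Gset : Set K), IsIntegral A x := by
    intro x hx
    rw [Finset.mem_coe, Finset.mem_biUnion] at hx
    obtain ⟨j, _, hx⟩ := hx
    rw [Finset.mem_image] at hx
    obtain ⟨α, _, rfl⟩ := hx
    exact hint j α
  have hB'fg : (Algebra.adjoin A (Gset : Set K)).toSubmodule.FG :=
    fg_adjoin_of_finite Gset.finite_toSet hGint
  have hcoeffmem : ∀ (j : ℕ) (α : Fin m →₀ ℕ),
      (Mgen.charpoly.coeff j).coeff α ∈ Algebra.adjoin A (Gset : Set K) := by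
    intro j α
    by_cases hα : α ∈ (Mgen.charpoly.coeff j).support
    · by_cases hj : j ∈ Finset.range (Mgen.charpoly.natDegree + 1)
      · apply Algebra.subset_adjoin
        rw [Finset.mem_coe, Finset.mem_biUnion]
        exact ⟨j, hj, Finset.mem_image.mpr ⟨α, hα, rfl⟩⟩
      · rw [Finset.mem_range, not_lt] at hj
        rw [Polynomial.coeff_eq_zero_of_natDegree_lt (by omega), MvPolynomial.coeff_zero]
        exact Subalgebra.zero_mem _
    · rw [MvPolynomial.notMem_support_iff.mp hα]
      exact Subalgebra.zero_mem _
  -- containment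
  have hle : Algebra.adjoin A {c : K | ∃ (v : E →ₗ[A] E) (j : ℕ),
      c = ((v.baseChange K).charpoly).coeff j} ≤ Algebra.adjoin A (Gset : Set K) := by
    apply Algebra.adjoin_le
    rintro c ⟨v, j, rfl⟩
    have hv : v ∈ Submodule.span A (Set.range vs) := by
      rw [hvs]
      trivial
    obtain ⟨a, rfl⟩ := (Submodule.mem_span_range_iff_exists_fun A).mp hv
    let ev : S →+* K := (MvPolynomial.aeval (fun i => algebraMap A K (a i)) : S →ₐ[K] K).toRingHom
    have hM : LinearMap.toMatrix b b ((∑ i, a i • vs i).baseChange K) = Mgen.map ev := by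
      have h1 : (∑ i, a i • vs i).baseChange K = ∑ i, (algebraMap A K (a i)) • (vs i).baseChange K := by
        have : (∑ i, a i • vs i).baseChange K =
            LinearMap.baseChangeHom A K E E (∑ i, a i • vs i) := rfl
        rw [this, map_sum]
        apply Finset.sum_congr rfl
        intro i _
        rw [map_smul]
        ext e
        simp [Algebra.smul_def]
      rw [h1, map_sum]
      ext l l'
      rw [Matrix.map_apply, Matrix.sum_apply]
      show _ = ev ((∑ i, (MvPolynomial.X i : S) • (Mi i).map MvPolynomial.C) l l')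
      rw [Matrix.sum_apply, map_sum]
      apply Finset.sum_congr rfl
      intro i _
      rw [map_smul, Matrix.smul_apply, Matrix.smul_apply, Matrix.map_apply, smul_eq_mul,
        smul_eq_mul, map_mul]
      show _ = MvPolynomial.aeval (fun i => algebraMap A K (a i)) (MvPolynomial.X i) *
        MvPolynomial.aeval (fun i => algebraMap A K (a i)) (MvPolynomial.C (Mi i l l'))
      rw [MvPolynomial.aeval_X, MvPolynomial.aeval_C]
      rfl
    rw [← LinearMap.charpoly_toMatrix _ b, hM, Matrix.charpoly_map, Polynomial.coeff_map]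
    show MvPolynomial.aeval (fun i => algebraMap A K (a i)) (Mgen.charpoly.coeff j) ∈ _
    rw [MvPolynomial.aeval_def, MvPolynomial.eval₂_eq']
    refine Subalgebra.sum_mem _ fun α _ => Subalgebra.mul_mem _ ?_ ?_
    · exact hcoeffmem j α
    · exact Subalgebra.prod_mem _ fun i _ => Subalgebra.pow_mem _ (Subalgebra.algebraMap_mem _ _) _
  -- Noetherian conclusion
  haveI : IsNoetherian A (Algebra.adjoin A (Gset : Set K)).toSubmodule :=
    isNoetherian_of_fg_of_noetherian _ hB'fg
  have hle' : (Algebra.adjoin A {c : K | ∃ (v : E →ₗ[A] E) (j : ℕ),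
      c = ((v.baseChange K).charpoly).coeff j}).toSubmodule ≤
        (Algebra.adjoin A (Gset : Set K)).toSubmodule := hle
  have h1 : Submodule.map (Algebra.adjoin A (Gset : Set K)).toSubmodule.subtype
      (Submodule.comap (Algebra.adjoin A (Gset : Set K)).toSubmodule.subtype
        (Algebra.adjoin A {c : K | ∃ (v : E →ₗ[A] E) (j : ℕ),
          c = ((v.baseChange K).charpoly).coeff j}).toSubmodule) =
      (Algebra.adjoin A {c : K | ∃ (v : E →ₗ[A] E) (j : ℕ),
          c = ((v.baseChange K).charpoly).coeff j}).toSubmodule := by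
    rw [Submodule.map_comap_subtype]
    exact inf_eq_right.mpr hle'
  rw [← h1]
  exact (IsNoetherian.noetherian _).map _

end Main

end Groth.Agent.Lib.Helper19CharpolyFG
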