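import Groth.Agent.Lib.Helper19PsCRing

set_option autoImplicit false
universe u v w

open CategoryTheory ArtFun ArtFun.Art

namespace Groth.Agent.Lib.Helper19

section Chevalley

variable {Λ : Type u} {k : Type u} [CommRing Λ] [Field k] [Algebra Λ k]

/-- Modulo a power of the maximal ideal, a decreasing sequence of ideals of a coefficient ring stabilises. -/
lemma stabilizes_mod_pow (S : CRing Λ k) (J : ℕ → Ideal S.carrier) (hanti : Antitone J) (j : ℕ) :
    ∃ n₀, ∀ n, n₀ ≤ n → J n ⊔ CRing.m S ^ j = J n₀ ⊔ CRing.m S ^ j := by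
  cases j with
  | zero =>
    refine ⟨0, fun n _ => ?_⟩
    rw [pow_zero, Ideal.one_eq_top, sup_top_eq, sup_top_eq]
  | succ j' =>
    haveI : IsArtinianRing (S.carrier ⧸ CRing.mpow S j') := CRing.isArtinianRing_quot_mpow S j'
    let f : ℕ →o (Ideal (S.carrier ⧸ CRing.mpow S j'))ᵒᵈ :=
      { toFun := fun n => OrderDual.toDual (Ideal.map (Ideal.Quotient.mk (CRing.mpow S j')) (J n))
        monotone' := fun m n hmn => OrderDual.toDual_le_toDual.2 (Ideal.map_mono (hanti hmn)) }
    obtain ⟨n₀, hn₀⟩ := IsArtinian.monotone_stabilizes f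
    refine ⟨n₀, fun n hn => ?_⟩
    have h1 : Ideal.map (Ideal.Quotient.mk (CRing.mpow S j')) (J n₀) =
        Ideal.map (Ideal.Quotient.mk (CRing.mpow S j')) (J n) := hn₀ n hn
    have h2 := congrArg (Ideal.comap (Ideal.Quotient.mk (CRing.mpow S j'))) h1
    rw [Ideal.comap_map_of_surjective _ Ideal.Quotient.mk_surjective,
      Ideal.comap_map_of_surjective _ Ideal.Quotient.mk_surjective, ← RingHom.ker_eq_comap_bot,
      Ideal.mk_ker] at h2
    exact h2.symm

/-- Chevalley's lemma: a decreasing sequence of open ideals of a complete local Noetherian ring is cofinal,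
modulo its intersection, with the powers of the maximal ideal. -/
theorem chevalley (S : CRing Λ k) (J : ℕ → Ideal S.carrier) (hanti : Antitone J)
    (hopen : ∀ n, ∃ e, CRing.m S ^ e ≤ J n) (N : ℕ) :
    ∃ n, J n ≤ (⨅ i, J i) ⊔ CRing.m S ^ N := by
  haveI := S.isAdicComplete
  -- stabilisation indices
  choose n₀ hn₀ using stabilizes_mod_pow S J hanti
  let ν : ℕ → ℕ := fun j => Nat.rec (n₀ 0) (fun j' v => max (max v (n₀ (j' + 1))) (j' + 1)) j
  have hν_succ : ∀ j, ν (j + 1) = max (max (ν j) (n₀ (j + 1))) (j + 1) := fun j => rfl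
  have hν_mono : ∀ j, ν j ≤ ν (j + 1) := by
    intro j
    rw [hν_succ]
    exact le_trans (le_max_left _ _) (le_max_left _ _)
  have hν_ge : ∀ j, n₀ j ≤ ν j := by
    intro j
    cases j with
    | zero => exact le_rfl
    | succ j' => rw [hν_succ]; exact le_trans (le_max_right _ _) (le_max_left _ _)
  have hν_id : ∀ j, j ≤ ν j := by
    intro j
    cases j with
    | zero => exact Nat.zero_le _
    | succ j' => rw [hν_succ]; exact le_max_right _ _
  have hstab : ∀ j n, ν j ≤ n → J n ⊔ CRing.m S ^ j = J (ν j) ⊔ CRing.m S ^ j := by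
    intro j n hn
    rw [hn₀ j n (le_trans (hν_ge j) hn), hn₀ j (ν j) (hν_ge j)]
  refine ⟨ν N, ?_⟩
  intro x hx
  -- successive approximations
  have hstep : ∀ (i : ℕ) (z : S.carrier), z ∈ J (ν (N + i)) →
      ∃ z' : S.carrier, z' ∈ J (ν (N + i + 1)) ∧ z - z' ∈ CRing.m S ^ (N + i) := by
    intro i z hz
    have h1 : z ∈ J (ν (N + i + 1)) ⊔ CRing.m S ^ (N + i) := by
      rw [hstab (N + i) (ν (N + i + 1)) (hν_mono _)]
      exact Submodule.mem_sup_left hz
    obtain ⟨z', hz', e, he, hze⟩ := Submodule.mem_sup.1 h1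
    refine ⟨z', hz', ?_⟩
    have : z - z' = e := by rw [← hze]; ring
    rw [this]
    exact he
  let u : ∀ i : ℕ, {z : S.carrier // z ∈ J (ν (N + i))} := fun i =>
    Nat.rec (motive := fun i => {z : S.carrier // z ∈ J (ν (N + i))}) ⟨x, hx⟩
      (fun i z => ⟨Classical.choose (hstep i z.1 z.2), (Classical.choose_spec (hstep i z.1 z.2)).1⟩) i
  have hu0 : (u 0).1 = x := rfl
  have hu : ∀ i, (u i).1 - (u (i + 1)).1 ∈ CRing.m S ^ (N + i) := fun i =>
    (Classical.choose_spec (hstep i (u i).1 (u i).2)).2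
  have hdiff : ∀ {m n : ℕ}, m ≤ n → (u m).1 - (u n).1 ∈ CRing.m S ^ (N + m) := by
    intro m n hmn
    induction n, hmn using Nat.le_induction with
    | base => rw [sub_self]; exact Ideal.zero_mem _
    | succ n hmn ih =>
      have : (u m).1 - (u (n + 1)).1 = ((u m).1 - (u n).1) + ((u n).1 - (u (n + 1)).1) := by ring
      rw [this]
      exact Ideal.add_mem _ ih (Ideal.pow_le_pow_right (Nat.add_le_add_left hmn N) (hu n))
  have hcauchy : ∀ {m n : ℕ}, m ≤ n →
      (u m).1 ≡ (u n).1 [SMOD (CRing.m S ^ m • ⊤ : Submodule S.carrier S.carrier)] := by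
    intro m n hmn
    rw [smodEq_pow_iff]
    exact Ideal.pow_le_pow_right (Nat.le_add_left m N) (hdiff hmn)
  obtain ⟨L, hL⟩ := IsPrecomplete.prec' (I := CRing.m S) (fun i => (u i).1) hcauchy
  have hL' : ∀ i, (u i).1 - L ∈ CRing.m S ^ i := fun i => by
    have := hL i
    rwa [smodEq_pow_iff] at this
  -- `L` lies in every `J n`
  have hLJ : L ∈ ⨅ i, J i := by
    rw [Ideal.mem_iInf]
    intro n
    obtain ⟨e, he⟩ := hopen n
    have h1 : (u (max e n)).1 ∈ J n := by
      apply hanti _ (u (max e n)).2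
      exact le_trans (le_max_right e n) (le_trans (Nat.le_add_left _ N) (hν_id _))
    have h2 : (u (max e n)).1 - L ∈ J n :=
      he (Ideal.pow_le_pow_right (le_max_left e n) (hL' (max e n)))
    have : L = (u (max e n)).1 - ((u (max e n)).1 - L) := by ring
    rw [this]
    exact Ideal.sub_mem _ h1 h2
  have hxL : x - L ∈ CRing.m S ^ N := by
    have h1 : (u 0).1 - (u N).1 ∈ CRing.m S ^ (N + 0) := hdiff (Nat.zero_le N)
    have h2 := hL' N
    have : x - L = ((u 0).1 - (u N).1) + ((u N).1 - L) := by rw [hu0]; ring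
    rw [this]
    exact Ideal.add_mem _ h1 h2
  have : x = L + (x - L) := by ring
  rw [this]
  exact Ideal.add_mem _ (Submodule.mem_sup_left hLJ) (Submodule.mem_sup_right hxL)

end Chevalley

end Groth.Agent.Lib.Helper19
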