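import Groth.Agent.Lib.Helper19CoeffField
import Groth.Agent.Lib.Helper19FSArtin
import Mathlib.RingTheory.Filtration
import Mathlib.RingTheory.Nakayama
import Mathlib.LinearAlgebra.Dual.Lemmas

/-!
# Uniqueness of coefficient fields (EGA 0_IV 19.8.? / 21.?) (helper19)

A coefficient field of a complete Noetherian local ring (not a field) is unique iff
`Ω_{K/ℤ} = 0`.
-/

set_option autoImplicit false
set_option linter.style.haveILetI false
set_option linter.unusedSectionVars false
universe u v

namespace Groth.Agent.Lib.Helper19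

open IsLocalRing

/-- a nilpotent ideal defines a Hausdorff topology -/
theorem isHausdorff_of_pow_eq_bot {R : Type*} [CommRing R] (I : Ideal R) (n : ℕ)
    (hn : I ^ n = ⊥) : IsHausdorff I R := by
  refine ⟨fun x hx => ?_⟩
  have := hx n
  rw [hn, Submodule.bot_smul, SModEq.zero, Submodule.mem_bot] at this
  exact this

/-- lifting from `C ⧸ I ^ n` to the `I`-adically complete ring `C`, for a (discretely) formally
smooth algebra, same universe -/
theorem exists_lift_of_formallySmooth_of_isAdicComplete {k K C : Type u} [CommRing k] [CommRing K]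
    [Algebra k K] [Algebra.FormallySmooth k K] [CommRing C] [Algebra k C] (I : Ideal C)
    [IsAdicComplete I C] (n : ℕ) (hn : n ≠ 0) (v₂ : K →ₐ[k] C ⧸ I ^ n) :
    ∃ v : K →ₐ[k] C, (Ideal.Quotient.mkₐ k (I ^ n)).comp v = v₂ := by
  have hfs : EGA41.IsFormallySmoothAdic k ⊥ K ⊥ := isFormallySmoothAdic_of_formallySmooth _ _
  haveI : IsHausdorff (I.map (Ideal.Quotient.mk (I ^ n))) (C ⧸ I ^ n) := by
    refine isHausdorff_of_pow_eq_bot _ n ?_
    rw [← Ideal.map_pow, Ideal.map_quotient_self]
  obtain ⟨v, -, hv⟩ := exists_lift_to_adicComplete (⊥ : Ideal k) (⊥ : Ideal K) I (I ^ n) hfs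
    ⟨1, by simp⟩ ⟨1, by rw [pow_one]; exact Ideal.pow_le_self hn⟩ v₂ ⟨1, by simp⟩
  exact ⟨v, hv⟩

/-- ring-hom version of the previous lemma over a base `F` (any universe) out of which ring
homomorphisms are unique -/
theorem exists_ringHom_lift_of_formallySmooth_of_isAdicComplete {F : Type} [CommRing F]
    (hF : ∀ {X : Type u} [CommRing X] (f g : F →+* X), f = g)
    {K C : Type u} [CommRing K] [Algebra F K] [Algebra.FormallySmooth F K] [CommRing C]
    (I : Ideal C) [IsAdicComplete I C] (u : K →+* C) (n : ℕ) (hn : n ≠ 0)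
    (v₂ : K →+* C ⧸ I ^ n) :
    ∃ v : K →+* C, (Ideal.Quotient.mk (I ^ n)).comp v = v₂ := by
  let e : ULift.{u} F ≃+* F := ULift.ringEquiv
  have hF' : ∀ {X : Type u} [CommRing X] (f g : ULift.{u} F →+* X), f = g := by
    intro X _ f g
    have h1 : f.comp e.symm.toRingHom = g.comp e.symm.toRingHom := hF _ _
    ext x
    have h2 := RingHom.congr_fun h1 (e x)
    simp only [RingHom.comp_apply, RingEquiv.toRingHom_eq_coe, RingHom.coe_coe,
      RingEquiv.symm_apply_apply] at h2
    exact h2
  letI : Algebra (ULift.{u} F) K := ULift.algebra' F K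
  haveI : IsScalarTower F (ULift.{u} F) K := IsScalarTower.of_algebraMap_eq fun _ => rfl
  haveI : Algebra.FormallyUnramified F (ULift.{u} F) :=
    Algebra.FormallyUnramified.of_equiv (ULift.algEquiv (R := F) (A := F)).symm
  haveI : Algebra.FormallySmooth (ULift.{u} F) K :=
    Algebra.FormallySmooth.of_restrictScalars F (ULift.{u} F) K
  letI : Algebra (ULift.{u} F) C := (u.comp (algebraMap (ULift.{u} F) K)).toAlgebra
  let v₂' : K →ₐ[ULift.{u} F] C ⧸ I ^ n :=
    { v₂ with
      commutes' := fun r => RingHom.congr_fun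
        (hF' (v₂.comp (algebraMap (ULift.{u} F) K)) (algebraMap (ULift.{u} F) (C ⧸ I ^ n))) r }
  obtain ⟨v, hv⟩ := exists_lift_of_formallySmooth_of_isAdicComplete I n hn v₂'
  exact ⟨v, RingHom.ext fun x => congrArg (fun f : K →ₐ[ULift.{u} F] C ⧸ I ^ n => f x) hv⟩

/-- a field admits ring-hom lifts from `C ⧸ I ^ n` to a complete ring `C` into which it maps -/
theorem exists_ringHom_lift_field_of_isAdicComplete {K C : Type u} [Field K] [CommRing C]
    (I : Ideal C) [IsAdicComplete I C] (u : K →+* C) (n : ℕ) (hn : n ≠ 0)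
    (v₂ : K →+* C ⧸ I ^ n) :
    ∃ v : K →+* C, (Ideal.Quotient.mk (I ^ n)).comp v = v₂ := by
  obtain ⟨p, hp⟩ := CharP.exists K
  rcases CharP.char_is_prime_or_zero K p with hpp | rfl
  · haveI : Fact p.Prime := ⟨hpp⟩
    letI : Algebra (ZMod p) K := ZMod.algebra K p
    haveI : Algebra.FormallySmooth (ZMod p) K := PBasis.formallySmooth_zmod p K
    exact exists_ringHom_lift_of_formallySmooth_of_isAdicComplete (F := ZMod p)
      (fun f g => Subsingleton.elim f g) I u n hn v₂
  · haveI : CharZero K := CharP.charP_to_charZero K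
    haveI : Algebra.FormallySmooth ℚ K := FSArtin.formallySmooth_rat K
    exact exists_ringHom_lift_of_formallySmooth_of_isAdicComplete (F := ℚ)
      (fun f g => Subsingleton.elim f g) I u n hn v₂

end Groth.Agent.Lib.Helper19

namespace Groth.Agent.Lib.Helper19

open IsLocalRing

/-- S2483: uniqueness of the coefficient field iff `Ω_{K/ℤ} = 0` -/
theorem coefficientField_unique_iff {C : Type u} [CommRing C] [IsLocalRing C] [IsNoetherianRing C]
    [IsAdicComplete (maximalIdeal C) C]
    (hm : maximalIdeal C ≠ ⊥) (u : ResidueField C →+* C) (hu : ∀ x, residue C (u x) = x) :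
    (∀ v : ResidueField C →+* C, (∀ x, residue C (v x) = x) → v = u) ↔
      Subsingleton (Ω[ResidueField C⁄ℤ]) := by
  constructor
  · intro huniq
    by_contra hns
    rw [not_subsingleton_iff_nontrivial] at hns
    obtain ⟨ω, hω⟩ := exists_ne (0 : Ω[ResidueField C⁄ℤ])
    have hφ : ∃ φ : Module.Dual (ResidueField C) Ω[ResidueField C⁄ℤ], φ ω ≠ 0 := by
      by_contra hcon
      refine hω ((Module.forall_dual_apply_eq_zero_iff (ResidueField C) ω).1 fun φ => ?_)
      by_contra h
      exact hcon ⟨φ, h⟩
    obtain ⟨φ, hφ⟩ := hφ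
    let d := KaehlerDifferential.D ℤ (ResidueField C)
    let D : ResidueField C → ResidueField C := fun a => φ (d a)
    have hDφ : ∀ a, D a = φ (d a) := fun a => rfl
    have hD_add : ∀ x y, D (x + y) = D x + D y := fun x y => by
      rw [hDφ, hDφ, hDφ, map_add, map_add]
    have hD_one : D 1 = 0 := by
      rw [hDφ, Derivation.map_one_eq_zero, map_zero]
    have hD_zero : D 0 = 0 := by
      rw [hDφ, map_zero, map_zero]
    have hD_mul : ∀ x y, D (x * y) = x * D y + y * D x := fun x y => by
      rw [hDφ, hDφ, hDφ, Derivation.leibniz, map_add, map_smul, map_smul, smul_eq_mul, smul_eq_mul]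
    have hD : ∃ a, D a ≠ 0 := by
      by_contra hcon
      have h0 : ∀ a, φ (d a) = 0 := fun a => by
        by_contra h
        exact hcon ⟨a, h⟩
      have h1 : φ = 0 := by
        apply LinearMap.ext_on_range (KaehlerDifferential.span_range_derivation ℤ (ResidueField C))
        intro a
        exact h0 a
      exact hφ (by rw [h1]; rfl)
    obtain ⟨a, hDa⟩ := hD
    have hex : ∃ t ∈ maximalIdeal C, t ∉ maximalIdeal C ^ 2 := by
      by_contra hcon
      apply hm
      have hle : maximalIdeal C ≤ maximalIdeal C ^ 2 := fun t ht => by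
        by_contra h
        exact hcon ⟨t, ht, h⟩
      refine Submodule.eq_bot_of_le_smul_of_le_jacobson_bot (maximalIdeal C) (maximalIdeal C)
        (IsNoetherian.noetherian _) ?_ ?_
      · rw [smul_eq_mul, ← sq]; exact hle
      · rw [IsLocalRing.jacobson_eq_maximalIdeal ⊥ bot_ne_top]
    obtain ⟨t, ht, htn⟩ := hex
    have ht2 : t ^ 2 ∈ maximalIdeal C ^ 2 := Ideal.pow_mem_pow ht 2
    let v₂ : ResidueField C →+* C ⧸ maximalIdeal C ^ 2 :=
      { toFun := fun x => Ideal.Quotient.mk _ (u x + u (D x) * t)
        map_one' := by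
          rw [hD_one, map_zero, zero_mul, add_zero, map_one, map_one]
        map_mul' := fun x y => by
          rw [← map_mul, Ideal.Quotient.eq]
          have h1 : u (x * y) + u (D (x * y)) * t - (u x + u (D x) * t) * (u y + u (D y) * t) =
              -(u (D x) * u (D y) * t ^ 2) := by
            rw [hD_mul]
            simp only [map_add, map_mul]
            ring
          rw [h1]
          exact Ideal.neg_mem_iff _ |>.2 (Ideal.mul_mem_left _ _ ht2)
        map_zero' := by
          rw [hD_zero, map_zero, zero_mul, add_zero, map_zero]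
        map_add' := fun x y => by
          rw [← map_add]
          congr 1
          rw [hD_add, map_add, map_add]
          ring }
    have hv₂ : ∀ x, v₂ x = Ideal.Quotient.mk _ (u x + u (D x) * t) := fun x => rfl
    obtain ⟨v, hv⟩ := exists_ringHom_lift_field_of_isAdicComplete (maximalIdeal C) u 2
      two_ne_zero v₂
    have hv' : ∀ x, v x - (u x + u (D x) * t) ∈ maximalIdeal C ^ 2 := fun x =>
      Ideal.Quotient.eq.1 (RingHom.congr_fun hv x)
    have hsec : ∀ x, residue C (v x) = x := by
      intro x
      have h1 : residue C (v x - (u x + u (D x) * t)) = 0 :=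
        (residue_eq_zero_iff _).2 (Ideal.pow_le_self two_ne_zero (hv' x))
      rw [map_sub, sub_eq_zero] at h1
      rw [h1, map_add, map_mul, hu, (residue_eq_zero_iff t).2 ht, mul_zero, add_zero]
    have hvu := huniq v hsec
    have h2 := hv' a
    rw [hvu] at h2
    have h3 : u (D a) * t ∈ maximalIdeal C ^ 2 := by
      have h4 : u a - (u a + u (D a) * t) = -(u (D a) * t) := by ring
      rw [h4] at h2
      exact (Ideal.neg_mem_iff _).1 h2
    have hunit : IsUnit (u (D a)) :=
      (residue_ne_zero_iff_isUnit (u (D a))).1 (by rw [hu]; exact hDa)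
    obtain ⟨w, hw⟩ := hunit
    apply htn
    have h5 : t = (↑w⁻¹ : C) * (u (D a) * t) := by
      rw [← hw, ← mul_assoc, Units.inv_mul, one_mul]
    rw [h5]
    exact Ideal.mul_mem_left _ _ h3
  · intro hsub v hv
    haveI : Algebra.FormallyUnramified ℤ (ResidueField C) := ⟨hsub⟩
    have hI : ⨅ i, maximalIdeal C ^ i = ⊥ :=
      Ideal.iInf_pow_eq_bot_of_isLocalRing _ (maximalIdeal.isMaximal C).ne_top
    let mkAlg : (ResidueField C →+* C) → (ResidueField C →ₐ[ℤ] C) := fun w =>
      { w with
        commutes' := fun n => by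
          change w (algebraMap ℤ (ResidueField C) n) = algebraMap ℤ C n
          rw [eq_intCast (algebraMap ℤ (ResidueField C)), eq_intCast (algebraMap ℤ C),
            map_intCast] }
    have h1 := Algebra.FormallyUnramified.ext_of_iInf (R := ℤ) (A := ResidueField C) (B := C)
      (I := maximalIdeal C) hI (g₁ := mkAlg v) (g₂ := mkAlg u) (fun x => by
        change residue C (v x) = residue C (u x)
        rw [hv, hu])
    exact RingHom.ext fun x => congrArg (fun g : ResidueField C →ₐ[ℤ] C => g x) h1

end Groth.Agent.Lib.Helper19
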