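import Groth.Agent.Lib.Helper19FlatLiftFS
import Groth.Agent.Lib.Helper19FSField
import Groth.Prelude.Def_EGA41

/-!
# Cohen algebras are formally smooth (EGA 0_IV 19.7.1 / 19.8.2) (helper19)
-/

set_option autoImplicit false
set_option linter.style.haveILetI false
set_option linter.unusedSectionVars false
universe u v w

namespace Groth.Agent.Lib.Helper19.FlatLift

section Nilpotent

variable {A : Type u} {B : Type v} [CommRing A] [CommRing B] [Algebra A B]

/-- from square-zero liftings to liftings along surjections with nilpotent kernel, within the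
class of `A`-algebras killed by a fixed ideal `K` -/
theorem exists_lift_of_surjective_of_sqZero (K : Ideal A)
    (H2 : ∀ {C : Type w} [CommRing C] [Algebra A C], K.map (algebraMap A C) = ⊥ →
      ∀ J : Ideal C, J ^ 2 = ⊥ → ∀ f : B →ₐ[A] C ⧸ J,
        ∃ g : B →ₐ[A] C, (Ideal.Quotient.mkₐ A J).comp g = f) (m : ℕ) :
    ∀ {C : Type w} {C₀ : Type w} [CommRing C] [CommRing C₀] [Algebra A C] [Algebra A C₀]
      (π : C →ₐ[A] C₀), Function.Surjective π → K.map (algebraMap A C) = ⊥ →
      RingHom.ker π ^ m = ⊥ → ∀ f : B →ₐ[A] C₀, ∃ g : B →ₐ[A] C, π.comp g = f := by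
  -- the square-zero case in surjection form
  have hsq : ∀ {C : Type w} {C₀ : Type w} [CommRing C] [CommRing C₀] [Algebra A C] [Algebra A C₀]
      (π : C →ₐ[A] C₀), Function.Surjective π → K.map (algebraMap A C) = ⊥ →
      RingHom.ker π ^ 2 = ⊥ → ∀ f : B →ₐ[A] C₀, ∃ g : B →ₐ[A] C, π.comp g = f := by
    intro C C₀ _ _ _ _ π hπ hC hker f
    obtain ⟨g, hg⟩ := H2 hC (RingHom.ker π) hker
      ((Ideal.quotientKerAlgEquivOfSurjective hπ).symm.toAlgHom.comp f)
    refine ⟨g, AlgHom.ext fun b => ?_⟩
    have h1 := congrArg (fun h : B →ₐ[A] C ⧸ RingHom.ker π => h b) hg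
    have h2 := congrArg (Ideal.quotientKerAlgEquivOfSurjective hπ) h1
    simpa using h2
  induction m with
  | zero =>
    intro C C₀ _ _ _ _ π hπ hC hker f
    refine hsq π hπ hC ?_ f
    rw [pow_zero, Ideal.one_eq_top] at hker
    rw [eq_bot_iff, ← hker]
    exact le_top
  | succ m ih =>
    intro C C₀ _ _ _ _ π hπ hC hker f
    rcases Nat.eq_zero_or_pos m with hm | hm
    · subst hm
      refine hsq π hπ hC ?_ f
      rw [zero_add, pow_one] at hker
      rw [hker, eq_bot_iff]
      exact Ideal.pow_le_self (by norm_num)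
    set N := RingHom.ker π with hN
    let π₁ : C →ₐ[A] C ⧸ N ^ m := Ideal.Quotient.mkₐ A (N ^ m)
    have hNle : ∀ a ∈ N ^ m, π a = 0 := fun a ha =>
      Ideal.pow_le_self (Nat.pos_iff_ne_zero.mp hm) ha
    let π₂ : C ⧸ N ^ m →ₐ[A] C₀ := Ideal.Quotient.liftₐ (N ^ m) π hNle
    have hπ₂s : Function.Surjective π₂ := by
      intro y
      obtain ⟨e, rfl⟩ := hπ y
      exact ⟨π₁ e, rfl⟩
    have hC₂ : K.map (algebraMap A (C ⧸ N ^ m)) = ⊥ := by
      rw [eq_bot_iff, Ideal.map_le_iff_le_comap]
      intro a ha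
      have h0 : algebraMap A C a = 0 := by
        have := Ideal.mem_map_of_mem (algebraMap A C) ha
        rwa [hC, Ideal.mem_bot] at this
      rw [Ideal.mem_comap, Ideal.mem_bot, IsScalarTower.algebraMap_apply A C (C ⧸ N ^ m), h0,
        map_zero]
    have hK₂ : RingHom.ker π₂ ^ m = ⊥ := by
      have h1 : RingHom.ker π₂ ≤ N.map (Ideal.Quotient.mk (N ^ m)) := by
        intro y hy
        obtain ⟨e, rfl⟩ := Ideal.Quotient.mk_surjective y
        have he : e ∈ N := by
          rw [RingHom.mem_ker] at hy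
          exact hy
        exact Ideal.mem_map_of_mem _ he
      rw [eq_bot_iff]
      refine (Ideal.pow_right_mono h1 m).trans ?_
      rw [← Ideal.map_pow, Ideal.map_quotient_self]
    have hK₁ : RingHom.ker π₁ ^ 2 = ⊥ := by
      have : RingHom.ker π₁ = N ^ m := Ideal.mk_ker
      rw [this, ← pow_mul, eq_bot_iff, ← hker]
      exact Ideal.pow_le_pow_right (by omega)
    obtain ⟨g', hg'⟩ := ih π₂ hπ₂s hC₂ hK₂ f
    obtain ⟨g, hg⟩ := hsq π₁ Ideal.Quotient.mk_surjective hC hK₁ g'
    have hcomp : π₂.comp π₁ = π := AlgHom.ext fun e => rfl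
    exact ⟨g, by rw [← hcomp, AlgHom.comp_assoc, hg, hg']⟩

end Nilpotent

section Local

open IsLocalRing

variable {A B : Type u} [CommRing A] [IsLocalRing A] [CommRing B] [IsLocalRing B] [Algebra A B]
  [IsLocalHom (algebraMap A B)]

/-- transport of formal smoothness of the residue field extension to `B/𝔪_A B` over `A/𝔪_A` -/
theorem formallySmooth_quotient_map_of_residueField
    (hm : (maximalIdeal A).map (algebraMap A B) = maximalIdeal B)
    [Algebra.FormallySmooth (ResidueField A) (ResidueField B)] :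
    Algebra.FormallySmooth (A ⧸ maximalIdeal A)
      (B ⧸ (maximalIdeal A).map (algebraMap A B)) := by
  letI inst : Algebra (ResidueField A) (B ⧸ (maximalIdeal A).map (algebraMap A B)) :=
    (Ideal.Quotient.algebraQuotientMapQuotient (p := maximalIdeal A) (S := B) :
      Algebra (A ⧸ maximalIdeal A) (B ⧸ (maximalIdeal A).map (algebraMap A B)))
  let e : ResidueField B ≃ₐ[ResidueField A] (B ⧸ (maximalIdeal A).map (algebraMap A B)) :=
    { Ideal.quotEquivOfEq hm.symm with
      commutes' := by
        intro r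
        obtain ⟨a, rfl⟩ := Ideal.Quotient.mk_surjective r
        rfl }
  exact (Algebra.FormallySmooth.of_equiv e :
    Algebra.FormallySmooth (ResidueField A) (B ⧸ (maximalIdeal A).map (algebraMap A B)))

/-- A flat local homomorphism with `𝔪_A B = 𝔪_B` and formally smooth residue field extension is
formally smooth for the adic topologies. -/
theorem isFormallySmoothAdic_of_flat_of_residueField [Module.Flat A B]
    (hm : (maximalIdeal A).map (algebraMap A B) = maximalIdeal B)
    [Algebra.FormallySmooth (ResidueField A) (ResidueField B)] :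
    EGA41.IsFormallySmoothAdic A (maximalIdeal A) B (maximalIdeal B) := by
  haveI := formallySmooth_quotient_map_of_residueField hm
  intro C _ _ J hJ hk u _
  obtain ⟨k, hk⟩ := hk
  obtain ⟨m, hm'⟩ := hJ
  have H2 : ∀ {C : Type u} [CommRing C] [Algebra A C],
      (maximalIdeal A ^ k).map (algebraMap A C) = ⊥ →
      ∀ J : Ideal C, J ^ 2 = ⊥ → ∀ f : B →ₐ[A] C ⧸ J,
        ∃ g : B →ₐ[A] C, (Ideal.Quotient.mkₐ A J).comp g = f := by
    intro C _ _ hC J hJ f
    exact exists_lift_of_flat_of_pow_kills (maximalIdeal A)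
      (fun hC J hJ f => exists_lift_of_formallySmooth_quotient (maximalIdeal A) hC J hJ f)
      k hC J hJ f
  have hker : RingHom.ker (Ideal.Quotient.mkₐ A J) ^ m = ⊥ := by
    have : RingHom.ker (Ideal.Quotient.mkₐ A J) = J := Ideal.mk_ker
    rw [this]
    exact hm'
  exact exists_lift_of_surjective_of_sqZero (maximalIdeal A ^ k) H2 m
    (Ideal.Quotient.mkₐ A J) Ideal.Quotient.mk_surjective hk hker u

/-- EGA 0_IV 19.8.2 (i): a Cohen algebra is formally smooth. -/
theorem isFormallySmoothAdic_of_isCohenAlgebra (h : EGA41.IsCohenAlgebra A B) :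
    EGA41.IsFormallySmoothAdic A (maximalIdeal A) B (maximalIdeal B) := by
  obtain ⟨_, _, _, hflat, hm, hsep⟩ := h
  haveI := hflat
  haveI := hsep
  haveI : Algebra.FormallySmooth (ResidueField A) (ResidueField B) :=
    Groth.Agent.Lib.Helper19.PBasis.formallySmooth_of_isGeometricallyReduced
  exact isFormallySmoothAdic_of_flat_of_residueField hm

end Local

end Groth.Agent.Lib.Helper19.FlatLift
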