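import Groth.Agent.Lib.Helper19CohenAlg
import Groth.Agent.Lib.Helper19FSAdicEquiv
import Groth.Agent.Lib.Helper19FSField
import Mathlib.RingTheory.DiscreteValuationRing.Basic
import Mathlib.RingTheory.Flat.TorsionFree

/-!
# Uniqueness of Cohen algebras (EGA 0_IV 19.7.2, 19.8.2) (helper19)
-/

set_option autoImplicit false
set_option linter.style.haveILetI false
set_option linter.unusedSectionVars false
universe u

namespace Groth.Agent.Lib.Helper19.FlatLift

open IsLocalRing

/-- Two complete flat local `A`-algebras with `𝔪_A B = 𝔪_B`, the first with formally smooth residue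
extension, and `κ_A`-isomorphic residue fields are isomorphic. -/
theorem exists_algEquiv_of_flat_of_residueField {A B B' : Type u} [CommRing A] [IsLocalRing A]
    [CommRing B] [IsLocalRing B] [Algebra A B] [IsLocalHom (algebraMap A B)]
    [CommRing B'] [IsLocalRing B'] [Algebra A B'] [IsLocalHom (algebraMap A B')]
    [IsAdicComplete (maximalIdeal B) B] [IsAdicComplete (maximalIdeal B') B']
    [Module.Flat A B] [Module.Flat A B']
    (hm : (maximalIdeal A).map (algebraMap A B) = maximalIdeal B)
    (hm' : (maximalIdeal A).map (algebraMap A B') = maximalIdeal B')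
    [Algebra.FormallySmooth (ResidueField A) (ResidueField B)]
    (σ : ResidueField B ≃ₐ[ResidueField A] ResidueField B') :
    ∃ w : B ≃ₐ[A] B', ∀ b, residue B' (w b) = σ (residue B b) := by
  have hfs : EGA41.IsFormallySmoothAdic A (maximalIdeal A) B
      ((maximalIdeal A).map (algebraMap A B)) := by
    rw [hm]; exact isFormallySmoothAdic_of_flat_of_residueField hm
  haveI : IsAdicComplete ((maximalIdeal A).map (algebraMap A B)) B := by
    rw [hm]; infer_instance
  haveI : IsAdicComplete ((maximalIdeal A).map (algebraMap A B')) B' := by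
    rw [hm']; infer_instance
  let σ' : (B ⧸ maximalIdeal B) ≃+* (B' ⧸ maximalIdeal B') := σ.toRingEquiv
  have hσ' : ∀ b : B, σ' (Ideal.Quotient.mk _ b) = σ (residue B b) := fun b => rfl
  let u₀ : (B ⧸ (maximalIdeal A).map (algebraMap A B)) ≃ₐ[A ⧸ maximalIdeal A]
      (B' ⧸ (maximalIdeal A).map (algebraMap A B')) :=
    { ((Ideal.quotEquivOfEq hm).trans σ').trans (Ideal.quotEquivOfEq hm'.symm) with
      commutes' := by
        intro r
        obtain ⟨a, rfl⟩ := Ideal.Quotient.mk_surjective r
        change Ideal.quotEquivOfEq hm'.symm (σ (residue B (algebraMap A B a))) =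
          Ideal.Quotient.mk _ (algebraMap A B' a)
        have h1 : residue B (algebraMap A B a) =
            algebraMap (ResidueField A) (ResidueField B) (residue A a) := rfl
        rw [h1, σ.commutes]
        rfl }
  have hu₀ : ∀ b : B, u₀ (Ideal.Quotient.mk _ b) =
      Ideal.quotEquivOfEq hm'.symm (σ (residue B b)) := fun b => rfl
  obtain ⟨e, he⟩ := exists_algEquiv_of_formallySmoothAdic_of_flat (maximalIdeal A) hfs u₀
  refine ⟨e, fun x => ?_⟩
  have h3 := congrArg (Ideal.quotEquivOfEq hm') (he x)
  rw [hu₀, Ideal.quotEquivOfEq_mk] at h3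
  have h4 : ∀ y : B' ⧸ maximalIdeal B',
      Ideal.quotEquivOfEq hm' (Ideal.quotEquivOfEq hm'.symm y) = y := by
    intro y
    obtain ⟨z, rfl⟩ := Ideal.Quotient.mk_surjective y
    rfl
  rw [h4] at h3
  exact h3

/-- a local homomorphism of discrete valuation rings with `𝔪_A B = 𝔪_B` is injective -/
theorem injective_of_map_maximalIdeal_eq {A B : Type u} [CommRing A] [IsDomain A]
    [IsDiscreteValuationRing A] [CommRing B] [IsDomain B] [IsDiscreteValuationRing B]
    (u : A →+* B) (hu : (maximalIdeal A).map u = maximalIdeal B) : Function.Injective u := by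
  obtain ⟨ϖ, hϖ⟩ := IsDiscreteValuationRing.exists_irreducible A
  have hϖ0 : u ϖ ≠ 0 := by
    intro h0
    apply IsDiscreteValuationRing.not_a_field B
    rw [← hu, hϖ.maximalIdeal_eq, Ideal.map_span, Set.image_singleton, h0,
      Ideal.span_singleton_eq_bot]
  rw [injective_iff_map_eq_zero]
  intro x hx
  by_contra hx0
  obtain ⟨n, hn⟩ := IsDiscreteValuationRing.associated_pow_irreducible hx0 hϖ
  obtain ⟨c, hc⟩ := hn
  have h1 : u (x * c) = 0 := by rw [map_mul, hx, zero_mul]
  rw [hc, map_pow] at h1
  exact pow_ne_zero n hϖ0 h1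

/-- EGA 0_IV 19.8.2 (S2482) -/
theorem complete_dvr_unramified_ext_unique {A B B' : Type u} [CommRing A] [IsDomain A]
    [IsDiscreteValuationRing A] [IsAdicComplete (maximalIdeal A) A]
    [CommRing B] [IsDomain B] [IsDiscreteValuationRing B] [IsAdicComplete (maximalIdeal B) B]
    [CommRing B'] [IsDomain B'] [IsDiscreteValuationRing B'] [IsAdicComplete (maximalIdeal B') B']
    (u : A →+* B) [IsLocalHom u] (hu : (maximalIdeal A).map u = maximalIdeal B)
    (hsep : letI := (ResidueField.map u).toAlgebra
      Algebra.IsGeometricallyReduced (ResidueField A) (ResidueField B))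
    (u' : A →+* B') [IsLocalHom u'] (hu' : (maximalIdeal A).map u' = maximalIdeal B')
    (σ : ResidueField B ≃+* ResidueField B')
    (hσ : (σ : ResidueField B →+* ResidueField B').comp (ResidueField.map u) =
      ResidueField.map u') :
    ∃ w : B ≃+* B', (w : B →+* B').comp u = u' ∧
      ∀ b : B, residue B' (w b) = σ (residue B b) := by
  letI : Algebra A B := u.toAlgebra
  letI : Algebra A B' := u'.toAlgebra
  haveI : IsLocalHom (algebraMap A B) := ‹IsLocalHom u›
  haveI : IsLocalHom (algebraMap A B') := ‹IsLocalHom u'›
  have hinj : Function.Injective (algebraMap A B) := injective_of_map_maximalIdeal_eq u hu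
  have hinj' : Function.Injective (algebraMap A B') := injective_of_map_maximalIdeal_eq u' hu'
  haveI : Module.IsTorsionFree A B := Module.isTorsionFree_iff_algebraMap_injective.2 hinj
  haveI : Module.IsTorsionFree A B' := Module.isTorsionFree_iff_algebraMap_injective.2 hinj'
  haveI : Module.Flat A B := inferInstance
  haveI : Module.Flat A B' := inferInstance
  have hinst : (ResidueField.map u).toAlgebra =
      (inferInstance : Algebra (ResidueField A) (ResidueField B)) := by
    refine Algebra.algebra_ext _ _ fun r => ?_
    obtain ⟨a, rfl⟩ := residue_surjective r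
    rfl
  rw [hinst] at hsep
  haveI := hsep
  haveI : Algebra.FormallySmooth (ResidueField A) (ResidueField B) :=
    PBasis.formallySmooth_of_isGeometricallyReduced
  let σ' : ResidueField B ≃ₐ[ResidueField A] ResidueField B' :=
    { σ with
      commutes' := by
        intro r
        obtain ⟨a, rfl⟩ := residue_surjective r
        exact RingHom.congr_fun hσ (residue A a) }
  obtain ⟨w, hw⟩ := exists_algEquiv_of_flat_of_residueField (A := A) (B := B) (B' := B') hu hu' σ'
  refine ⟨w.toRingEquiv, RingHom.ext fun a => ?_, fun b => hw b⟩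
  exact w.commutes a

end Groth.Agent.Lib.Helper19.FlatLift
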