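import Groth.Agent.Lib.Helper19FlatResExtC
import Groth.Agent.Lib.Helper19CohenAlgUnique

/-!
# Existence and uniqueness of Cohen algebras (EGA 0_IV 19.8.2) (helper19)
-/

set_option autoImplicit false
set_option linter.style.haveILetI false
set_option linter.unusedSectionVars false
universe u

namespace Groth.Agent.Lib.Helper19.FlatResExt

open IsLocalRing Groth.Agent.Lib.Helper19.FlatLift

/-- a complete Noetherian local flat unramified algebra with given residue field, with all the
residue field data -/
theorem exists_flat_complete_local_residueField' {A : Type u} [CommRing A] [IsNoetherianRing A]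
    [IsLocalRing A] (K : Type u) [Field K] [Algebra (ResidueField A) K] :
    ∃ (B : Type u) (_ : CommRing B) (_ : IsLocalRing B) (_ : Algebra A B)
      (_ : IsLocalHom (algebraMap A B)),
      IsNoetherianRing B ∧ IsAdicComplete (maximalIdeal B) B ∧ Module.Flat A B ∧
      (maximalIdeal A).map (algebraMap A B) = maximalIdeal B ∧
      Nonempty (ResidueField B ≃ₐ[ResidueField A] K) := by
  obtain ⟨B, i1, i2, i3, i4, hcompl, hflat, hmap, ρ, hρs, hρk, hρ⟩ :=
    exists_flat_complete_local_residueField (A := A) K
  have hloc : IsLocalHom (algebraMap A B) := by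
    refine ⟨fun a ha => ?_⟩
    by_contra hna
    have h1 : a ∈ maximalIdeal A := (mem_maximalIdeal a).2 hna
    have h2 : algebraMap A B a ∈ maximalIdeal B := by
      rw [← hmap]
      exact Ideal.mem_map_of_mem _ h1
    exact (mem_maximalIdeal _).1 h2 ha
  refine ⟨B, i1, i2, i4, hloc, i3, hcompl, hflat, hmap, ⟨?_⟩⟩
  let e : ResidueField B ≃+* K :=
    (Ideal.quotEquivOfEq hρk.symm).trans (RingHom.quotientKerEquivOfSurjective hρs)
  have he : ∀ b, e (residue B b) = ρ b := by
    intro b
    change (RingHom.quotientKerEquivOfSurjective hρs)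
      (Ideal.quotEquivOfEq hρk.symm (Ideal.Quotient.mk _ b)) = ρ b
    rw [Ideal.quotEquivOfEq_mk]
    exact RingHom.quotientKerEquivOfSurjective_apply_mk _ _
  exact
    { e with
      commutes' := by
        intro r
        obtain ⟨a, rfl⟩ := residue_surjective r
        change e (algebraMap (ResidueField A) (ResidueField B) (residue A a)) = _
        rw [IsLocalRing.ResidueField.algebraMap_residue, he, hρ] }

/-- EGA 0_IV 19.8.2 (S2455): existence and uniqueness of Cohen algebras -/
theorem existsUnique_isCohenAlgebra {A : Type u} [CommRing A] [IsLocalRing A] [IsNoetherianRing A]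
    (K : Type u) [Field K] [Algebra (ResidueField A) K]
    [Algebra.IsGeometricallyReduced (ResidueField A) K] :
    (∃ (B : Type u) (_ : CommRing B) (_ : IsLocalRing B) (_ : Algebra A B)
      (_ : IsLocalHom (algebraMap A B)),
      EGA41.IsCohenAlgebra A B ∧ Nonempty (ResidueField B ≃ₐ[ResidueField A] K)) ∧
    ∀ (B B' : Type u) [CommRing B] [IsLocalRing B] [Algebra A B] [IsLocalHom (algebraMap A B)]
      [CommRing B'] [IsLocalRing B'] [Algebra A B'] [IsLocalHom (algebraMap A B')],
      EGA41.IsCohenAlgebra A B → EGA41.IsCohenAlgebra A B' →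
      Nonempty (ResidueField B ≃ₐ[ResidueField A] K) →
      Nonempty (ResidueField B' ≃ₐ[ResidueField A] K) →
      Nonempty (B ≃ₐ[A] B') := by
  constructor
  · obtain ⟨B, i1, i2, i3, i4, hnoeth, hcompl, hflat, hmap, ⟨e⟩⟩ :=
      exists_flat_complete_local_residueField' (A := A) K
    refine ⟨B, i1, i2, i3, i4, ⟨inferInstance, hnoeth, hcompl, hflat, hmap, ?_⟩, ⟨e⟩⟩
    exact Algebra.IsGeometricallyReduced.of_injective (e : ResidueField B →ₐ[ResidueField A] K)
      e.injective
  · intro B B' _ _ _ _ _ _ _ _ hB hB' ⟨e⟩ ⟨e'⟩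
    obtain ⟨-, -, hcompl, hflat, hmap, hsep⟩ := hB
    obtain ⟨-, -, hcompl', hflat', hmap', -⟩ := hB'
    haveI := hcompl
    haveI := hcompl'
    haveI := hflat
    haveI := hflat'
    haveI := hsep
    haveI : Algebra.FormallySmooth (ResidueField A) (ResidueField B) :=
      PBasis.formallySmooth_of_isGeometricallyReduced
    obtain ⟨w, -⟩ := exists_algEquiv_of_flat_of_residueField (A := A) (B := B) (B' := B') hmap hmap'
      (e.trans e'.symm)
    exact ⟨w⟩

end Groth.Agent.Lib.Helper19.FlatResExt
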