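import Groth.Agent.Lib.Helper19ComplNoeth
import Groth.Prelude.Def_Found
import Mathlib.RingTheory.DiscreteValuationRing.Basic
import Mathlib.RingTheory.AdicCompletion.LocalRing
import Mathlib.RingTheory.AdicCompletion.Noetherian

/-!
# Existence of Cohen rings, part A: a criterion for discrete valuation rings and completion
(helper19)
-/

set_option autoImplicit false
set_option linter.style.haveILetI false
set_option linter.unusedSectionVars false
universe u

namespace Groth.Agent.Lib.Helper19.CohenExist

open IsLocalRing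

section criterion

variable {A : Type u} [CommRing A] [IsLocalRing A] (ϖ : A)
  (hmax : maximalIdeal A = Ideal.span {ϖ})
  (hsep : ∀ x : A, (∀ n : ℕ, x ∈ maximalIdeal A ^ n) → x = 0)
  (hnil : ∀ n : ℕ, ϖ ^ n ≠ 0)

include hmax hsep in
/-- every nonzero element is a unit times a power of the uniformizer -/
theorem exists_eq_pow_mul_unit {x : A} (hx : x ≠ 0) : ∃ (n : ℕ) (w : Aˣ), x = ϖ ^ n * w := by
  classical
  have hex : ∃ n : ℕ, x ∉ maximalIdeal A ^ n := by
    by_contra hcon
    exact hx (hsep x fun n => by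
      by_contra h
      exact hcon ⟨n, h⟩)
  have h0 : Nat.find hex ≠ 0 := by
    intro h
    have := Nat.find_spec hex
    rw [h, pow_zero, Ideal.one_eq_top] at this
    exact this trivial
  obtain ⟨n, hn⟩ := Nat.exists_eq_succ_of_ne_zero h0
  have hmem : x ∈ maximalIdeal A ^ n := by
    by_contra h
    have := Nat.find_min' hex h
    omega
  have hnmem : x ∉ maximalIdeal A ^ (n + 1) := by
    have := Nat.find_spec hex
    rwa [hn] at this
  rw [hmax, Ideal.span_singleton_pow, Ideal.mem_span_singleton] at hmem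
  obtain ⟨u, rfl⟩ := hmem
  have hu : IsUnit u := by
    by_contra hu
    apply hnmem
    have hum : u ∈ maximalIdeal A := hu
    rw [hmax, Ideal.mem_span_singleton] at hum
    obtain ⟨w, rfl⟩ := hum
    rw [hmax, Ideal.span_singleton_pow, Ideal.mem_span_singleton]
    exact ⟨w, by ring⟩
  exact ⟨n, hu.unit, rfl⟩

include hmax hsep hnil in
theorem isDomain_of_principal : IsDomain A := by
  haveI : NoZeroDivisors A := by
    refine ⟨fun {x y} hxy => ?_⟩
    by_contra hcon
    rw [not_or] at hcon
    obtain ⟨n, w, rfl⟩ := exists_eq_pow_mul_unit ϖ hmax hsep hcon.1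
    obtain ⟨m, w', rfl⟩ := exists_eq_pow_mul_unit ϖ hmax hsep hcon.2
    have h1 : ϖ ^ (n + m) * ((w * w' : Aˣ) : A) = 0 := by
      rw [← hxy, pow_add, Units.val_mul]; ring
    rw [Units.mul_left_eq_zero] at h1
    exact hnil _ h1
  exact NoZeroDivisors.to_isDomain A

include hmax hsep hnil in
theorem isDiscreteValuationRing_of_principal :
    haveI := isDomain_of_principal ϖ hmax hsep hnil
    IsDiscreteValuationRing A := by
  haveI := isDomain_of_principal ϖ hmax hsep hnil
  refine IsDiscreteValuationRing.ofHasUnitMulPowIrreducibleFactorization ⟨ϖ, ?_, ?_⟩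
  · have hϖm : ϖ ∈ maximalIdeal A := by rw [hmax]; exact Ideal.subset_span rfl
    refine ⟨hϖm, fun a b hab => ?_⟩
    by_contra hcon
    rw [not_or] at hcon
    have ha : a ∈ maximalIdeal A := hcon.1
    rw [hmax, Ideal.mem_span_singleton] at ha
    obtain ⟨a', rfl⟩ := ha
    have h1 : ϖ * (1 - a' * b) = 0 := by rw [mul_sub, mul_one, ← mul_assoc, ← hab, sub_self]
    rcases mul_eq_zero.1 h1 with h2 | h2
    · exact hnil 1 (by rw [pow_one]; exact h2)
    · exact hcon.2 (IsUnit.of_mul_eq_one a' (by rw [mul_comm]; exact (sub_eq_zero.1 h2).symm))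
  · intro x hx
    obtain ⟨n, w, rfl⟩ := exists_eq_pow_mul_unit ϖ hmax hsep hx
    exact ⟨n, w, rfl⟩

end criterion

section completion

variable {R : Type u} [CommRing R] [IsLocalRing R] (p : ℕ) (hp : p.Prime)
  (hmax : maximalIdeal R = Ideal.span {(p : R)})
  (hsep : ∀ x : R, (∀ n : ℕ, x ∈ maximalIdeal R ^ n) → x = 0)
  (hnil : ∀ n : ℕ, (p : R) ^ n ≠ 0)

include hp hmax hsep hnil in
/-- the completion of a discrete valuation ring with uniformizer `p` is a Cohen ring with the
same residue field -/
theorem exists_isCohenRing_of_principal :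
    ∃ (Λ : Type u) (_ : CommRing Λ) (_ : IsLocalRing Λ), CAlg.IsCohenRing Λ ∧
      Nonempty (ResidueField Λ ≃+* ResidueField R) := by
  haveI hdom := isDomain_of_principal (p : R) hmax hsep hnil
  haveI hdvr := isDiscreteValuationRing_of_principal (p : R) hmax hsep hnil
  haveI : IsNoetherianRing R := inferInstance
  haveI : IsNoetherianRing (AdicCompletion (maximalIdeal R) R) :=
    Groth.Agent.Lib.Helper19.isNoetherianRing_adicCompletion _
  have hmaxΛ : maximalIdeal (AdicCompletion (maximalIdeal R) R) =
      Ideal.span {((p : ℕ) : AdicCompletion (maximalIdeal R) R)} := by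
    rw [AdicCompletion.maximalIdeal_eq_map, hmax, Ideal.map_span, Set.image_singleton,
      map_natCast]
  have hsepΛ : ∀ x : AdicCompletion (maximalIdeal R) R,
      (∀ n : ℕ, x ∈ maximalIdeal (AdicCompletion (maximalIdeal R) R) ^ n) → x = 0 := by
    intro x hx
    refine IsHausdorff.haus (I := maximalIdeal (AdicCompletion (maximalIdeal R) R))
      inferInstance x fun n => ?_
    rw [SModEq.zero, smul_eq_mul, Ideal.mul_top]
    exact hx n
  have hnilΛ : ∀ n : ℕ, ((p : ℕ) : AdicCompletion (maximalIdeal R) R) ^ n ≠ 0 := by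
    intro n h
    apply hnil n
    have hinj : Function.Injective (algebraMap R (AdicCompletion (maximalIdeal R) R)) :=
      fun a b hab => AdicCompletion.of_injective (maximalIdeal R) R hab
    apply hinj
    rw [map_zero, ← h, map_pow, map_natCast]
  haveI hdomΛ := isDomain_of_principal _ hmaxΛ hsepΛ hnilΛ
  haveI hdvrΛ := isDiscreteValuationRing_of_principal _ hmaxΛ hsepΛ hnilΛ
  refine ⟨AdicCompletion (maximalIdeal R) R, inferInstance, inferInstance,
    ⟨hdomΛ, hdvrΛ, inferInstance, p, hp, hmaxΛ⟩, ⟨?_⟩⟩
  exact (RingEquiv.ofBijective _ (AdicCompletion.residueField_map_bijective R)).symm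

end completion

end Groth.Agent.Lib.Helper19.CohenExist
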