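import Groth.Agent.Lib.Helper19CohenExistA
import Mathlib.RingTheory.Valuation.ValuationSubring
import Mathlib.RingTheory.Valuation.LocalSubring
import Mathlib.FieldTheory.IsAlgClosed.Basic
import Mathlib.Algebra.Polynomial.Splits
import Mathlib.Data.Nat.Prime.Int
import Mathlib.RingTheory.PrincipalIdealDomain
import Mathlib.RingTheory.Multiplicity

/-!
# Existence of Cohen rings, part B: unramified subrings of a valuation ring (helper19)

Inside a valuation ring `O` of a field `𝕂` with `p ∈ 𝔪_O` we consider the subrings `R ⊆ O` which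
are "discrete valuation rings with uniformizer `p`" and whose residue field lies in the image of a
given field `k → κ(O)`, and show (Zorn) that a maximal one has residue field `k`.
-/

set_option autoImplicit false
set_option linter.style.haveILetI false
set_option linter.unusedSectionVars false
universe u

namespace Groth.Agent.Lib.Helper19.CohenExist

open IsLocalRing Polynomial

variable {𝕂 : Type u} [Field 𝕂] (O : ValuationSubring 𝕂) {k : Type u} [Field k]
  (ι : k →+* ResidueField O) (p : ℕ)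

/-- the residue map on a subring of `O` -/
noncomputable def resOn {R : Subring 𝕂} (hle : R ≤ O.toSubring) : ↥R →+* ResidueField O :=
  (residue O).comp
    { toFun := fun x => ⟨x.1, hle x.2⟩
      map_one' := rfl
      map_mul' := fun _ _ => rfl
      map_zero' := rfl
      map_add' := fun _ _ => rfl }

theorem resOn_apply {R : Subring 𝕂} (hle : R ≤ O.toSubring) (x : ↥R) :
    resOn O hle x = residue O ⟨x.1, hle x.2⟩ := rfl

/-- the subrings under consideration -/
structure Good (R : Subring 𝕂) : Prop where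
  le : R ≤ O.toSubring
  inv_mem : ∀ x ∈ R, O.valuation x = 1 → x⁻¹ ∈ R
  div_mem : ∀ x ∈ R, O.valuation x < 1 → x * (p : 𝕂)⁻¹ ∈ R
  val : ∀ x ∈ R, x ≠ 0 → ∃ n : ℕ, O.valuation x = O.valuation (p : 𝕂) ^ n
  res : ∀ x : ↥R, resOn O le x ∈ ι.fieldRange

variable {O ι p}

theorem valuation_le_one_of_mem {x : 𝕂} (hx : x ∈ O) : O.valuation x ≤ 1 :=
  (O.valuation_le_one_iff x).2 hx

theorem residue_eq_zero_iff_valuation_lt (x : 𝕂) (hx : x ∈ O) :
    residue O ⟨x, hx⟩ = 0 ↔ O.valuation x < 1 := by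
  rw [residue_eq_zero_iff, O.valuation_lt_one_iff]

theorem valuation_eq_one_of_residue_ne_zero (x : 𝕂) (hx : x ∈ O) (h : residue O ⟨x, hx⟩ ≠ 0) :
    O.valuation x = 1 := by
  rcases lt_or_eq_of_le (valuation_le_one_of_mem hx) with h1 | h1
  · exact (h ((residue_eq_zero_iff_valuation_lt x hx).2 h1)).elim
  · exact h1

section eval

variable {R : Subring 𝕂}

theorem eval₂_mem (hle : R ≤ O.toSubring) (g : (↥R)[X]) {t : 𝕂} (ht : t ∈ O) :
    g.eval₂ R.subtype t ∈ O := by
  rw [eval₂_eq_sum_range]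
  refine Subring.sum_mem O.toSubring fun i _ => ?_
  exact O.toSubring.mul_mem (hle (g.coeff i).2) (O.toSubring.pow_mem ht i)

theorem residue_eval₂ (hle : R ≤ O.toSubring) (g : (↥R)[X]) {t : 𝕂} (ht : t ∈ O) :
    residue O ⟨g.eval₂ R.subtype t, eval₂_mem hle g ht⟩ =
      g.eval₂ (resOn O hle) (residue O ⟨t, ht⟩) := by
  have h1 : (⟨g.eval₂ R.subtype t, eval₂_mem hle g ht⟩ : O) =
      g.eval₂ ({ toFun := fun x => ⟨x.1, hle x.2⟩
                 map_one' := rfl
                 map_mul' := fun _ _ => rfl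
                 map_zero' := rfl
                 map_add' := fun _ _ => rfl } : ↥R →+* O) ⟨t, ht⟩ := by
    apply Subtype.ext
    have := hom_eval₂ g ({ toFun := fun x => ⟨x.1, hle x.2⟩
                           map_one' := rfl
                           map_mul' := fun _ _ => rfl
                           map_zero' := rfl
                           map_add' := fun _ _ => rfl } : ↥R →+* O) O.subtype ⟨t, ht⟩
    exact this.symm
  rw [h1, hom_eval₂]
  rfl

end eval

section good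

variable {R : Subring 𝕂} (hR : Good O ι p R) (hp0 : (p : 𝕂) ≠ 0)

include hR in
theorem resOn_eq_zero_iff (x : ↥R) : resOn O hR.le x = 0 ↔ O.valuation (x : 𝕂) < 1 :=
  residue_eq_zero_iff_valuation_lt _ _

include hR hp0 in
theorem dvd_of_valuation_lt (x : ↥R) (hx : O.valuation (x : 𝕂) < 1) : (p : ↥R) ∣ x := by
  refine ⟨⟨x * (p : 𝕂)⁻¹, hR.div_mem x x.2 hx⟩, Subtype.ext ?_⟩
  rw [Subring.coe_mul, Subring.coe_natCast]
  field_simp

include hR hp0 in
/-- normalization of polynomials: pull out the content -/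
theorem exists_eq_C_pow_mul (g : (↥R)[X]) (hg : g ≠ 0) :
    ∃ (n : ℕ) (g₀ : (↥R)[X]), g = C ((p : ↥R) ^ n) * g₀ ∧ g₀.map (resOn O hR.le) ≠ 0 := by
  have hvp : O.valuation (p : 𝕂) ≠ 0 := (Valuation.ne_zero_iff _).2 hp0
  have key : ∀ (n : ℕ) (g : (↥R)[X]) (i : ℕ),
      O.valuation ((g.coeff i : ↥R) : 𝕂) = O.valuation (p : 𝕂) ^ n →
      ∃ (m : ℕ) (g₀ : (↥R)[X]), g = C ((p : ↥R) ^ m) * g₀ ∧ g₀.map (resOn O hR.le) ≠ 0 := by
    intro n
    induction n with
    | zero =>
      intro g i hi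
      refine ⟨0, g, by simp, fun h0 => ?_⟩
      have h1 : resOn O hR.le (g.coeff i) = 0 := by rw [← coeff_map, h0, coeff_zero]
      rw [resOn_eq_zero_iff hR, hi, pow_zero] at h1
      exact lt_irrefl _ h1
    | succ n ih =>
      intro g i hi
      by_cases hg0 : g.map (resOn O hR.le) = 0
      · have hdvd : C (p : ↥R) ∣ g := (C_dvd_iff_dvd_coeff _ _).2 fun j =>
          dvd_of_valuation_lt hR hp0 _ (by
            rw [← resOn_eq_zero_iff hR, ← coeff_map, hg0, coeff_zero])
        obtain ⟨g₁, rfl⟩ := hdvd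
        have hi' : O.valuation ((g₁.coeff i : ↥R) : 𝕂) = O.valuation (p : 𝕂) ^ n := by
          rw [coeff_C_mul, Subring.coe_mul, Subring.coe_natCast, map_mul, pow_succ,
            mul_comm] at hi
          exact mul_right_cancel₀ hvp hi
        obtain ⟨m, g₀, h1, h2⟩ := ih g₁ i hi'
        refine ⟨m + 1, g₀, ?_, h2⟩
        rw [h1, pow_succ, C_mul]
        ring
      · exact ⟨0, g, by simp, hg0⟩
  obtain ⟨i, hi⟩ : ∃ i, g.coeff i ≠ 0 := by
    by_contra hcon
    exact hg (Polynomial.ext fun i => by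
      rw [coeff_zero]
      by_contra h
      exact hcon ⟨i, h⟩)
  obtain ⟨n, hn⟩ := hR.val (g.coeff i) (g.coeff i).2 (fun h => hi (Subtype.ext h))
  exact key n g i hn

end good

section ext

variable (O) in
/-- the localization of `R[t]` at the elements of valuation one, inside `𝕂` -/
def ext (R : Subring 𝕂) (t : 𝕂) : Subring 𝕂 where
  carrier := {y | ∃ g h : (↥R)[X], O.valuation (h.eval₂ R.subtype t) = 1 ∧
    y * h.eval₂ R.subtype t = g.eval₂ R.subtype t}
  mul_mem' := by
    rintro y₁ y₂ ⟨g₁, h₁, hv₁, e₁⟩ ⟨g₂, h₂, hv₂, e₂⟩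
    refine ⟨g₁ * g₂, h₁ * h₂, ?_, ?_⟩
    · rw [eval₂_mul, map_mul, hv₁, hv₂, one_mul]
    · rw [eval₂_mul, eval₂_mul, ← e₁, ← e₂]; ring
  one_mem' := ⟨1, 1, by simp, by simp⟩
  add_mem' := by
    rintro y₁ y₂ ⟨g₁, h₁, hv₁, e₁⟩ ⟨g₂, h₂, hv₂, e₂⟩
    refine ⟨g₁ * h₂ + g₂ * h₁, h₁ * h₂, ?_, ?_⟩
    · rw [eval₂_mul, map_mul, hv₁, hv₂, one_mul]
    · rw [eval₂_mul, eval₂_add, eval₂_mul, eval₂_mul, ← e₁, ← e₂]; ring
  zero_mem' := ⟨0, 1, by simp, by simp⟩
  neg_mem' := by
    rintro y ⟨g, h, hv, e⟩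
    exact ⟨-g, h, hv, by rw [eval₂_neg, ← e]; ring⟩

theorem mem_ext {R : Subring 𝕂} {t y : 𝕂} : y ∈ ext O R t ↔
    ∃ g h : (↥R)[X], O.valuation (h.eval₂ R.subtype t) = 1 ∧
      y * h.eval₂ R.subtype t = g.eval₂ R.subtype t := Iff.rfl

theorem le_ext (R : Subring 𝕂) (t : 𝕂) : R ≤ ext O R t := fun r hr =>
  ⟨C ⟨r, hr⟩, 1, by simp, by simp⟩

theorem self_mem_ext (R : Subring 𝕂) (t : 𝕂) : t ∈ ext O R t :=
  ⟨X, 1, by simp, by simp⟩

variable {R : Subring 𝕂} (hR : Good O ι p R) (hp0 : (p : 𝕂) ≠ 0)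
  {t : 𝕂} (ht : t ∈ O) (htι : residue O ⟨t, ht⟩ ∈ ι.fieldRange)
  (hK : ∀ g : (↥R)[X], g.eval₂ R.subtype t ≠ 0 → ∃ (n : ℕ) (g₀ : (↥R)[X]),
    O.valuation (g₀.eval₂ R.subtype t) = 1 ∧
      g.eval₂ R.subtype t = (p : 𝕂) ^ n * g₀.eval₂ R.subtype t)

include hR ht in
theorem ext_le : ext O R t ≤ O.toSubring := by
  rintro y ⟨g, h, hv, e⟩
  rw [ValuationSubring.mem_toSubring, ← O.valuation_le_one_iff]
  have h1 : O.valuation y = O.valuation (g.eval₂ R.subtype t) := by
    rw [← e, map_mul, hv, mul_one]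
  rw [h1]
  exact valuation_le_one_of_mem (eval₂_mem hR.le g ht)

include hR hp0 ht htι hK in
theorem good_ext : Good O ι p (ext O R t) := by
  have hvp : O.valuation (p : 𝕂) ≠ 0 := (Valuation.ne_zero_iff _).2 hp0
  refine ⟨ext_le hR ht, ?_, ?_, ?_, ?_⟩
  · rintro y ⟨g, h, hv, e⟩ hy
    have hy0 : y ≠ 0 := by
      intro h0
      rw [h0, map_zero] at hy
      exact zero_ne_one hy
    have hvg : O.valuation (g.eval₂ R.subtype t) = 1 := by
      rw [← e, map_mul, hv, hy, mul_one]
    refine ⟨h, g, hvg, ?_⟩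
    rw [← e, ← mul_assoc, inv_mul_cancel₀ hy0, one_mul]
  · rintro y ⟨g, h, hv, e⟩ hy
    have hh0 : h.eval₂ R.subtype t ≠ 0 := by
      intro h0
      rw [h0, map_zero] at hv
      exact zero_ne_one hv
    by_cases hg0 : g.eval₂ R.subtype t = 0
    · have hy0 : y = 0 := by
        rw [hg0] at e
        exact (mul_eq_zero.1 e).resolve_right hh0
      rw [hy0, zero_mul]
      exact (ext O R t).zero_mem
    · obtain ⟨n, g₀, hv₀, e₀⟩ := hK g hg0
      have hvy : O.valuation y = O.valuation (p : 𝕂) ^ n := by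
        have : O.valuation y = O.valuation (g.eval₂ R.subtype t) := by
          rw [← e, map_mul, hv, mul_one]
        rw [this, e₀, map_mul, map_pow, hv₀, mul_one]
      have hn : n ≠ 0 := by
        intro h0
        rw [hvy, h0, pow_zero] at hy
        exact lt_irrefl _ hy
      obtain ⟨m, rfl⟩ := Nat.exists_eq_succ_of_ne_zero hn
      refine ⟨C ((p : ↥R) ^ m) * g₀, h, hv, ?_⟩
      rw [eval₂_mul, eval₂_C, map_pow, map_natCast, mul_right_comm, e, e₀, pow_succ]
      field_simp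
  · rintro y ⟨g, h, hv, e⟩ hy0
    have hh0 : h.eval₂ R.subtype t ≠ 0 := by
      intro h0
      rw [h0, map_zero] at hv
      exact zero_ne_one hv
    have hg0 : g.eval₂ R.subtype t ≠ 0 := by
      rw [← e]
      exact mul_ne_zero hy0 hh0
    obtain ⟨n, g₀, hv₀, e₀⟩ := hK g hg0
    refine ⟨n, ?_⟩
    have : O.valuation y = O.valuation (g.eval₂ R.subtype t) := by
      rw [← e, map_mul, hv, mul_one]
    rw [this, e₀, map_mul, map_pow, hv₀, mul_one]
  · rintro ⟨y, g, h, hv, e⟩
    have hgm := eval₂_mem hR.le g ht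
    have hhm := eval₂_mem hR.le h ht
    have hym : y ∈ O := ext_le hR ht ⟨g, h, hv, e⟩
    have hmul : residue O ⟨y, hym⟩ * residue O ⟨h.eval₂ R.subtype t, hhm⟩ =
        residue O ⟨g.eval₂ R.subtype t, hgm⟩ := by
      rw [← map_mul]
      congr 1
      exact Subtype.ext e
    have hne : residue O ⟨h.eval₂ R.subtype t, hhm⟩ ≠ 0 := by
      rw [Ne, residue_eq_zero_iff_valuation_lt, hv]
      exact lt_irrefl _
    have hmem : ∀ f : (↥R)[X], f.eval₂ (resOn O hR.le) (residue O ⟨t, ht⟩) ∈ ι.fieldRange := by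
      intro f
      rw [eval₂_eq_sum_range]
      exact Subfield.sum_mem _ fun i _ =>
        Subfield.mul_mem _ (hR.res _) (Subfield.pow_mem _ htι i)
    change residue O ⟨y, hym⟩ ∈ ι.fieldRange
    rw [eq_div_of_mul_eq hne hmul, residue_eval₂ hR.le g ht, residue_eval₂ hR.le h ht]
    exact Subfield.div_mem _ (hmem g) (hmem h)

end ext

section step

variable {R : Subring 𝕂} (hR : Good O ι p R) (hp0 : (p : 𝕂) ≠ 0)

include hR hp0 in
/-- the common tail of the two extension steps -/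
theorem exists_good_lt_of_key {t : 𝕂} (ht : t ∈ O) (htι : residue O ⟨t, ht⟩ ∈ ι.fieldRange)
    (hx : residue O ⟨t, ht⟩ ∉ Set.range (resOn O hR.le))
    (hK : ∀ g : (↥R)[X], g.eval₂ R.subtype t ≠ 0 → ∃ (n : ℕ) (g₀ : (↥R)[X]),
      O.valuation (g₀.eval₂ R.subtype t) = 1 ∧
        g.eval₂ R.subtype t = (p : 𝕂) ^ n * g₀.eval₂ R.subtype t) :
    ∃ R' : Subring 𝕂, Good O ι p R' ∧ R < R' := by
  refine ⟨ext O R t, good_ext hR hp0 ht htι hK, lt_of_le_of_ne (le_ext R t) fun heq => hx ?_⟩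
  have htR : t ∈ R := by rw [heq]; exact self_mem_ext R t
  exact ⟨⟨t, htR⟩, rfl⟩

/-- valuation of a product of elements of the valuation ring -/
theorem exists_valuation_lt_of_prod (s : Multiset 𝕂) (hs : ∀ a ∈ s, a ∈ O)
    (h : O.valuation s.prod < 1) : ∃ a ∈ s, O.valuation a < 1 := by
  induction s using Multiset.induction_on with
  | empty =>
    rw [Multiset.prod_zero, map_one] at h
    exact (lt_irrefl _ h).elim
  | cons a s ih =>
    rw [Multiset.prod_cons, map_mul] at h
    rcases lt_or_eq_of_le (valuation_le_one_of_mem (hs a (Multiset.mem_cons_self a s))) with h1 | h1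
    · exact ⟨a, Multiset.mem_cons_self a s, h1⟩
    · rw [h1, one_mul] at h
      obtain ⟨b, hb, hvb⟩ := ih (fun b hb => hs b (Multiset.mem_cons_of_mem hb)) h
      exact ⟨b, Multiset.mem_cons_of_mem hb, hvb⟩

include hR hp0 in
/-- an element of `ι(k)` outside the residue field of `R` gives a strictly larger good subring -/
theorem exists_good_lt [IsAlgClosed 𝕂] (x : ResidueField O) (hxι : x ∈ ι.fieldRange)
    (hx : x ∉ Set.range (resOn O hR.le)) : ∃ R' : Subring 𝕂, Good O ι p R' ∧ R < R' := by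
  classical
  obtain ⟨t₀, ht₀⟩ := residue_surjective x
  by_cases hT : ∀ g : (↥R)[X], g.map (resOn O hR.le) ≠ 0 → g.eval₂ (resOn O hR.le) x ≠ 0
  · -- transcendental step
    have ht : (t₀ : 𝕂) ∈ O := t₀.2
    have hres : residue O ⟨(t₀ : 𝕂), ht⟩ = x := ht₀
    refine exists_good_lt_of_key hR hp0 ht (by rw [hres]; exact hxι) (by rw [hres]; exact hx) ?_
    intro g hg
    have hg0 : g ≠ 0 := by
      intro h0
      rw [h0, eval₂_zero] at hg
      exact hg rfl
    obtain ⟨n, g₀, e, hg₀⟩ := exists_eq_C_pow_mul hR hp0 g hg0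
    refine ⟨n, g₀, ?_, ?_⟩
    · refine valuation_eq_one_of_residue_ne_zero _ (eval₂_mem hR.le g₀ ht) ?_
      rw [residue_eval₂ hR.le g₀ ht, hres]
      exact hT g₀ hg₀
    · rw [e, eval₂_mul, eval₂_C, map_pow, map_natCast]
  · -- algebraic step
    have hex : ∃ d : ℕ, ∃ g : (↥R)[X], g.natDegree = d ∧ g.map (resOn O hR.le) ≠ 0 ∧
        g.eval₂ (resOn O hR.le) x = 0 := by
      by_contra hcon
      apply hT
      intro g hg h0
      exact hcon ⟨g.natDegree, g, rfl, hg, h0⟩
    obtain ⟨g, hgd, hg, hgx⟩ := Nat.find_spec hex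
    have hmin : ∀ h : (↥R)[X], h.map (resOn O hR.le) ≠ 0 → h.eval₂ (resOn O hR.le) x = 0 →
        g.natDegree ≤ h.natDegree := by
      intro h hh hhx
      rw [hgd]
      exact Nat.find_min' hex ⟨h, rfl, hh, hhx⟩
    -- the leading coefficient is a unit
    have hlc : resOn O hR.le g.leadingCoeff ≠ 0 := by
      intro h0
      have h1 := eraseLead_add_C_mul_X_pow g
      have hmap : g.eraseLead.map (resOn O hR.le) = g.map (resOn O hR.le) := by
        conv_rhs => rw [← h1]
        rw [Polynomial.map_add, Polynomial.map_mul, map_C, h0, C_0, zero_mul, add_zero]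
      have hev : g.eraseLead.eval₂ (resOn O hR.le) x = 0 := by
        rw [← hgx]
        conv_rhs => rw [← h1]
        rw [eval₂_add, eval₂_mul, eval₂_C, h0, zero_mul, add_zero]
      have h2 := hmin g.eraseLead (by rw [hmap]; exact hg) hev
      rcases eraseLead_natDegree_lt_or_eraseLead_eq_zero g with h3 | h3
      · omega
      · rw [h3, Polynomial.map_zero] at hmap
        exact hg hmap.symm
    have hvlc : O.valuation ((g.leadingCoeff : ↥R) : 𝕂) = 1 :=
      valuation_eq_one_of_residue_ne_zero _ (hR.le g.leadingCoeff.2) hlc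
    have hlc0 : ((g.leadingCoeff : ↥R) : 𝕂) ≠ 0 := by
      intro h0
      rw [h0, map_zero] at hvlc
      exact zero_ne_one hvlc
    let c : ↥R := ⟨((g.leadingCoeff : ↥R) : 𝕂)⁻¹, hR.inv_mem _ g.leadingCoeff.2 hvlc⟩
    have hc : c * g.leadingCoeff = 1 := Subtype.ext (inv_mul_cancel₀ hlc0)
    have hc0 : c ≠ 0 := by
      intro h0
      rw [h0, zero_mul] at hc
      exact zero_ne_one hc
    set F : (↥R)[X] := C c * g with hF
    have hFm : F.Monic := monic_C_mul_of_mul_leadingCoeff_eq_one hc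
    have hFd : F.natDegree = g.natDegree := natDegree_C_mul hc0
    have hFx : F.eval₂ (resOn O hR.le) x = 0 := by
      rw [hF, eval₂_mul, hgx, mul_zero]
    have hF1 : F ≠ 1 := by
      intro h1
      rw [h1, eval₂_one] at hFx
      exact one_ne_zero hFx
    -- a root of `F` lifting `x`
    have hsplit : (F.map R.subtype).Splits := IsAlgClosed.splits _
    have hFKm : (F.map R.subtype).Monic := hFm.map _
    have hev0 : O.valuation ((F.map R.subtype).eval (t₀ : 𝕂)) < 1 := by
      rw [eval_map, ← residue_eq_zero_iff_valuation_lt _ (eval₂_mem hR.le F t₀.2),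
        residue_eval₂ hR.le F t₀.2]
      have : residue O ⟨(t₀ : 𝕂), t₀.2⟩ = x := ht₀
      rw [this, hFx]
    have hroots : ∀ r ∈ (F.map R.subtype).roots, r ∈ O := by
      intro r hr
      have hr0 : (F.map R.subtype).eval r = 0 := (mem_roots hFKm.ne_zero).1 hr
      have hint : IsIntegral O r := by
        refine ⟨F.map ({ toFun := fun x => ⟨x.1, hR.le x.2⟩
                         map_one' := rfl
                         map_mul' := fun _ _ => rfl
                         map_zero' := rfl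
                         map_add' := fun _ _ => rfl } : ↥R →+* O), hFm.map _, ?_⟩
        rw [eval₂_map]
        rw [eval_map] at hr0
        exact hr0
      obtain ⟨y, hy⟩ := IsIntegrallyClosed.isIntegral_iff.1 hint
      rw [← hy]
      exact y.2
    rw [hsplit.eval_eq_prod_roots_of_monic hFKm] at hev0
    obtain ⟨a, ha, hva⟩ := exists_valuation_lt_of_prod _ (by
      intro a ha
      obtain ⟨r, hr, rfl⟩ := Multiset.mem_map.1 ha
      exact O.toSubring.sub_mem t₀.2 (hroots r hr)) hev0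
    obtain ⟨t, htr, rfl⟩ := Multiset.mem_map.1 ha
    have ht : t ∈ O := hroots t htr
    have hres : residue O ⟨t, ht⟩ = x := by
      have h1 : residue O (t₀ - ⟨t, ht⟩) = 0 :=
        (residue_eq_zero_iff_valuation_lt _ (O.toSubring.sub_mem t₀.2 ht)).2 hva
      rw [map_sub, sub_eq_zero] at h1
      rw [← h1]
      exact ht₀
    have hroot : F.eval₂ R.subtype t = 0 := by
      have := (mem_roots hFKm.ne_zero).1 htr
      rw [IsRoot.def, eval_map] at this
      exact this
    refine exists_good_lt_of_key hR hp0 ht (by rw [hres]; exact hxι) (by rw [hres]; exact hx) ?_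
    intro f hf
    have hrem : (f %ₘ F).eval₂ R.subtype t = f.eval₂ R.subtype t :=
      eval₂_modByMonic_eq_self_of_root hroot
    have hrem0 : f %ₘ F ≠ 0 := by
      intro h0
      rw [h0, eval₂_zero] at hrem
      exact hf hrem.symm
    have hdeg : (f %ₘ F).natDegree < g.natDegree := by
      rw [← hFd]
      exact natDegree_modByMonic_lt f hFm hF1
    obtain ⟨n, r₀, e, hr₀⟩ := exists_eq_C_pow_mul hR hp0 (f %ₘ F) hrem0
    have hpR : ((p : ↥R) ^ n) ≠ 0 := by
      intro h0
      have := congrArg (Subtype.val) h0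
      rw [Subring.coe_pow, Subring.coe_natCast, Subring.coe_zero] at this
      exact pow_ne_zero n hp0 this
    have hdeg₀ : r₀.natDegree < g.natDegree := by
      have : (f %ₘ F).natDegree = r₀.natDegree := by
        conv_lhs => rw [e]
        exact natDegree_C_mul hpR
      omega
    refine ⟨n, r₀, ?_, ?_⟩
    · refine valuation_eq_one_of_residue_ne_zero _ (eval₂_mem hR.le r₀ ht) ?_
      rw [residue_eval₂ hR.le r₀ ht, hres]
      intro h0
      have := hmin r₀ hr₀ h0
      omega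
    · rw [← hrem]
      conv_lhs => rw [e]
      rw [eval₂_mul, eval₂_C, map_pow, map_natCast]

end step

section base

variable (hpv : O.valuation (p : 𝕂) < 1) (hp0 : (p : 𝕂) ≠ 0) (hp : p.Prime)

theorem intCast_mem_O (a : ℤ) : (a : 𝕂) ∈ O := intCast_mem O a

include hpv hp in
theorem valuation_intCast_lt_one_iff (b : ℤ) : O.valuation (b : 𝕂) < 1 ↔ (p : ℤ) ∣ b := by
  constructor
  · intro hb
    by_contra hnd
    have hcop : IsCoprime (p : ℤ) b := (Nat.prime_iff_prime_int.mp hp).coprime_iff_not_dvd.2 hnd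
    obtain ⟨u, w, huw⟩ := hcop
    have h1 : ((u : 𝕂)) * (p : 𝕂) + (w : 𝕂) * (b : 𝕂) = 1 := by
      have := congrArg (fun z : ℤ => (z : 𝕂)) huw
      push_cast at this
      exact this
    have h2 : O.valuation ((u : 𝕂) * (p : 𝕂)) < 1 := by
      rw [map_mul]
      exact lt_of_le_of_lt (mul_le_of_le_one_left' (valuation_le_one_of_mem (intCast_mem_O u))) hpv
    have h3 : O.valuation ((w : 𝕂) * (b : 𝕂)) < 1 := by
      rw [map_mul]
      exact lt_of_le_of_lt (mul_le_of_le_one_left' (valuation_le_one_of_mem (intCast_mem_O w))) hb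
    have h4 := Valuation.map_add_lt _ h2 h3
    rw [h1, map_one] at h4
    exact lt_irrefl _ h4
  · rintro ⟨c, rfl⟩
    push_cast
    rw [map_mul]
    exact lt_of_le_of_lt (mul_le_of_le_one_right' (valuation_le_one_of_mem (intCast_mem_O c))) hpv

variable (O) in
/-- the image of `ℤ_(p)` -/
def base : Subring 𝕂 where
  carrier := {y | ∃ a b : ℤ, O.valuation (b : 𝕂) = 1 ∧ y * (b : 𝕂) = (a : 𝕂)}
  mul_mem' := by
    rintro y₁ y₂ ⟨a₁, b₁, hv₁, e₁⟩ ⟨a₂, b₂, hv₂, e₂⟩
    refine ⟨a₁ * a₂, b₁ * b₂, ?_, ?_⟩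
    · push_cast; rw [map_mul, hv₁, hv₂, one_mul]
    · push_cast; rw [← e₁, ← e₂]; ring
  one_mem' := ⟨1, 1, by simp, by simp⟩
  add_mem' := by
    rintro y₁ y₂ ⟨a₁, b₁, hv₁, e₁⟩ ⟨a₂, b₂, hv₂, e₂⟩
    refine ⟨a₁ * b₂ + a₂ * b₁, b₁ * b₂, ?_, ?_⟩
    · push_cast; rw [map_mul, hv₁, hv₂, one_mul]
    · push_cast; rw [← e₁, ← e₂]; ring
  zero_mem' := ⟨0, 1, by simp, by simp⟩
  neg_mem' := by
    rintro y ⟨a, b, hv, e⟩
    exact ⟨-a, b, hv, by push_cast; rw [← e]; ring⟩

include hpv hp0 hp in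
theorem good_base : Good O ι p (base O) := by
  have hle : base O ≤ O.toSubring := by
    rintro y ⟨a, b, hv, e⟩
    rw [ValuationSubring.mem_toSubring, ← O.valuation_le_one_iff]
    have h1 : O.valuation y = O.valuation (a : 𝕂) := by rw [← e, map_mul, hv, mul_one]
    rw [h1]
    exact valuation_le_one_of_mem (intCast_mem_O a)
  refine ⟨hle, ?_, ?_, ?_, ?_⟩
  · rintro y ⟨a, b, hv, e⟩ hy
    have hy0 : y ≠ 0 := by
      intro h0
      rw [h0, map_zero] at hy
      exact zero_ne_one hy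
    refine ⟨b, a, ?_, ?_⟩
    · rw [← e, map_mul, hv, hy, mul_one]
    · rw [← e, ← mul_assoc, inv_mul_cancel₀ hy0, one_mul]
  · rintro y ⟨a, b, hv, e⟩ hy
    have hva : O.valuation (a : 𝕂) < 1 := by rw [← e, map_mul, hv, mul_one]; exact hy
    obtain ⟨a', rfl⟩ := (valuation_intCast_lt_one_iff hpv hp a).1 hva
    refine ⟨a', b, hv, ?_⟩
    push_cast at e
    rw [mul_right_comm, e]
    field_simp
  · rintro y ⟨a, b, hv, e⟩ hy0
    have hb0 : (b : 𝕂) ≠ 0 := by
      intro h0
      rw [h0, map_zero] at hv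
      exact zero_ne_one hv
    have ha0 : a ≠ 0 := by
      rintro rfl
      rw [Int.cast_zero] at e
      exact (mul_ne_zero hy0 hb0) e
    have hfin : FiniteMultiplicity (p : ℤ) a := by
      rw [Int.finiteMultiplicity_iff]
      refine ⟨?_, ha0⟩
      rw [Int.natAbs_natCast]
      exact hp.ne_one
    obtain ⟨c, hc, hnd⟩ := hfin.exists_eq_pow_mul_and_not_dvd
    refine ⟨multiplicity (p : ℤ) a, ?_⟩
    have hvc : O.valuation (c : 𝕂) = 1 := by
      rcases lt_or_eq_of_le (valuation_le_one_of_mem (intCast_mem_O (O := O) c)) with h | h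
      · exact (hnd ((valuation_intCast_lt_one_iff hpv hp c).1 h)).elim
      · exact h
    have h1 : O.valuation y = O.valuation (a : 𝕂) := by rw [← e, map_mul, hv, mul_one]
    rw [h1]
    conv_lhs => rw [hc]
    push_cast
    rw [map_mul, map_pow, hvc, mul_one]
  · rintro ⟨y, a, b, hv, e⟩
    have hym : y ∈ O := hle ⟨a, b, hv, e⟩
    have hmul : residue O ⟨y, hym⟩ * residue O ⟨(b : 𝕂), intCast_mem_O b⟩ =
        residue O ⟨(a : 𝕂), intCast_mem_O a⟩ := by
      rw [← map_mul]
      congr 1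
      exact Subtype.ext e
    have hne : residue O ⟨(b : 𝕂), intCast_mem_O b⟩ ≠ 0 := by
      rw [Ne, residue_eq_zero_iff_valuation_lt, hv]
      exact lt_irrefl _
    have hint : ∀ c : ℤ, residue O ⟨(c : 𝕂), intCast_mem_O c⟩ ∈ ι.fieldRange := by
      intro c
      have : (⟨(c : 𝕂), intCast_mem_O c⟩ : O) = ((c : ℤ) : O) := Subtype.ext (by simp)
      rw [this, map_intCast]
      exact intCast_mem _ c
    change residue O ⟨y, hym⟩ ∈ ι.fieldRange
    rw [eq_div_of_mul_eq hne hmul]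
    exact Subfield.div_mem _ (hint a) (hint b)

end base

section zorn

variable (hpv : O.valuation (p : 𝕂) < 1) (hp0 : (p : 𝕂) ≠ 0) (hp : p.Prime)

include hpv hp0 hp in
theorem exists_maximal_good :
    ∃ R : Subring 𝕂, Maximal (fun R => Good O ι p R) R := by
  refine zorn_le₀ {R | Good O ι p R} fun c hc hchain => ?_
  rcases c.eq_empty_or_nonempty with rfl | hne
  · exact ⟨base O, good_base hpv hp0 hp, fun z hz => (Set.notMem_empty z hz).elim⟩
  · have hdir : DirectedOn (· ≤ ·) c := hchain.directedOn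
    have hmem : ∀ {x : 𝕂}, x ∈ sSup c ↔ ∃ s ∈ c, x ∈ s := Subring.mem_sSup_of_directedOn hne hdir
    have hle : sSup c ≤ O.toSubring := by
      intro x hx
      obtain ⟨s, hs, hxs⟩ := hmem.1 hx
      exact (hc hs).le hxs
    refine ⟨sSup c, ⟨hle, ?_, ?_, ?_, ?_⟩, fun z hz => le_sSup hz⟩
    · intro x hx hv
      obtain ⟨s, hs, hxs⟩ := hmem.1 hx
      exact hmem.2 ⟨s, hs, (hc hs).inv_mem x hxs hv⟩
    · intro x hx hv
      obtain ⟨s, hs, hxs⟩ := hmem.1 hx
      exact hmem.2 ⟨s, hs, (hc hs).div_mem x hxs hv⟩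
    · intro x hx hx0
      obtain ⟨s, hs, hxs⟩ := hmem.1 hx
      exact (hc hs).val x hxs hx0
    · rintro ⟨x, hx⟩
      obtain ⟨s, hs, hxs⟩ := hmem.1 hx
      exact (hc hs).res ⟨x, hxs⟩

include hpv hp0 hp in
/-- there is a good subring whose residue field is all of `ι(k)` -/
theorem exists_good_residue_surjective [IsAlgClosed 𝕂] :
    ∃ (R : Subring 𝕂) (hR : Good O ι p R), ∀ a : k, ι a ∈ Set.range (resOn O hR.le) := by
  obtain ⟨R, hR, hmax⟩ := exists_maximal_good (ι := ι) hpv hp0 hp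
  refine ⟨R, hR, fun a => ?_⟩
  by_contra hx
  obtain ⟨R', hR', hlt⟩ := exists_good_lt hR hp0 (ι a) ⟨a, rfl⟩ hx
  exact (lt_irrefl R) (lt_of_lt_of_le hlt (hmax hR' hlt.le))

end zorn

end Groth.Agent.Lib.Helper19.CohenExist
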