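import Groth.Agent.Lib.Helper19CohenExistB
import Mathlib.FieldTheory.IsAlgClosed.AlgebraicClosure
import Mathlib.RingTheory.Localization.AtPrime.Basic
import Mathlib.RingTheory.Localization.FractionRing

/-!
# Existence of Cohen rings, part C: conclusion (helper19)
-/

set_option autoImplicit false
set_option linter.style.haveILetI false
set_option linter.unusedSectionVars false
universe u

namespace Groth.Agent.Lib.Helper19.CohenExist

open IsLocalRing Polynomial

variable {𝕂 : Type u} [Field 𝕂] {O : ValuationSubring 𝕂} {k : Type u} [Field k]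
  {ι : k →+* ResidueField O} {p : ℕ}

section conclude

variable {R : Subring 𝕂} (hR : Good O ι p R) (hpv : O.valuation (p : 𝕂) < 1)
  (hp0 : (p : 𝕂) ≠ 0)

include hR in
theorem valuation_le_one_of_good (x : ↥R) : O.valuation (x : 𝕂) ≤ 1 :=
  valuation_le_one_of_mem (hR.le x.2)

include hR in
theorem isUnit_iff_of_good (x : ↥R) : IsUnit x ↔ O.valuation (x : 𝕂) = 1 := by
  constructor
  · rintro ⟨w, rfl⟩
    have h1 : O.valuation ((w : ↥R) : 𝕂) * O.valuation (((w⁻¹ : (↥R)ˣ) : ↥R) : 𝕂) = 1 := by
      rw [← map_mul, ← Subring.coe_mul, Units.mul_inv, Subring.coe_one, map_one]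
    refine le_antisymm (valuation_le_one_of_good hR _) ?_
    calc (1 : O.ValueGroup) = _ := h1.symm
      _ ≤ O.valuation ((w : ↥R) : 𝕂) * 1 :=
        mul_le_mul_right (valuation_le_one_of_good hR _) _
      _ = _ := mul_one _
  · intro hv
    have hx0 : (x : 𝕂) ≠ 0 := by
      intro h0
      rw [h0, map_zero] at hv
      exact zero_ne_one hv
    exact IsUnit.of_mul_eq_one ⟨(x : 𝕂)⁻¹, hR.inv_mem x x.2 hv⟩ (Subtype.ext (mul_inv_cancel₀ hx0))

include hR in
theorem isLocalRing_of_good : IsLocalRing ↥R := by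
  refine IsLocalRing.of_nonunits_add fun a b ha hb => ?_
  rw [mem_nonunits_iff, isUnit_iff_of_good hR] at ha hb ⊢
  have ha' := lt_of_le_of_ne (valuation_le_one_of_good hR a) ha
  have hb' := lt_of_le_of_ne (valuation_le_one_of_good hR b) hb
  rw [Subring.coe_add]
  exact (Valuation.map_add_lt _ ha' hb').ne

include hR hpv hp0 in
theorem maximalIdeal_eq_of_good :
    haveI := isLocalRing_of_good hR
    maximalIdeal ↥R = Ideal.span {(p : ↥R)} := by
  haveI := isLocalRing_of_good hR
  ext x
  rw [mem_maximalIdeal, mem_nonunits_iff, isUnit_iff_of_good hR, Ideal.mem_span_singleton]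
  constructor
  · intro hx
    exact dvd_of_valuation_lt hR hp0 x (lt_of_le_of_ne (valuation_le_one_of_good hR x) hx)
  · rintro ⟨y, rfl⟩
    rw [Subring.coe_mul, Subring.coe_natCast, map_mul]
    exact (lt_of_le_of_lt (mul_le_of_le_one_right' (valuation_le_one_of_good hR y)) hpv).ne

include hR hpv hp0 in
theorem sep_of_good :
    haveI := isLocalRing_of_good hR
    ∀ x : ↥R, (∀ n : ℕ, x ∈ maximalIdeal ↥R ^ n) → x = 0 := by
  haveI := isLocalRing_of_good hR
  intro x hx
  by_contra hx0
  have hvp : 0 < O.valuation (p : 𝕂) := zero_lt_iff.2 ((Valuation.ne_zero_iff _).2 hp0)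
  obtain ⟨m, hm⟩ := hR.val x x.2 (fun h => hx0 (Subtype.ext h))
  have h1 := hx (m + 1)
  rw [maximalIdeal_eq_of_good hR hpv hp0, Ideal.span_singleton_pow, Ideal.mem_span_singleton] at h1
  obtain ⟨y, rfl⟩ := h1
  rw [Subring.coe_mul, Subring.coe_pow, Subring.coe_natCast, map_mul, map_pow] at hm
  have h2 : O.valuation (p : 𝕂) ^ (m + 1) * O.valuation (y : 𝕂) ≤ O.valuation (p : 𝕂) ^ (m + 1) :=
    mul_le_of_le_one_right' (valuation_le_one_of_good hR y)
  have h3 : O.valuation (p : 𝕂) ^ (m + 1) < O.valuation (p : 𝕂) ^ m :=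
    pow_lt_pow_right_of_lt_one₀ hvp hpv (Nat.lt_succ_self m)
  rw [hm] at h2
  exact lt_irrefl _ (lt_of_le_of_lt h2 h3)

include hp0 in
theorem pow_ne_zero_of_good (n : ℕ) : ((p : ↥R)) ^ n ≠ 0 := by
  intro h0
  have := congrArg (Subtype.val) h0
  rw [Subring.coe_pow, Subring.coe_natCast, Subring.coe_zero] at this
  exact pow_ne_zero n hp0 this

include hR in
/-- the residue field of a good subring with full residue image is `k` -/
theorem nonempty_residueField_equiv (hsurj : ∀ a : k, ι a ∈ Set.range (resOn O hR.le)) :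
    haveI := isLocalRing_of_good hR
    Nonempty (ResidueField ↥R ≃+* k) := by
  haveI := isLocalRing_of_good hR
  let e : k ≃+* ι.fieldRange := RingEquiv.ofBijective _ ι.rangeRestrictField_bijective
  let ψ : ↥R →+* k := e.symm.toRingHom.comp ((resOn O hR.le).codRestrict ι.fieldRange hR.res)
  have hψ : ∀ x : ↥R, ι (ψ x) = resOn O hR.le x := by
    intro x
    have h1 : e (ψ x) = (resOn O hR.le).codRestrict ι.fieldRange hR.res x :=
      e.apply_symm_apply _
    exact congrArg Subtype.val h1
  have hψsurj : Function.Surjective ψ := by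
    intro a
    obtain ⟨x, hx⟩ := hsurj a
    refine ⟨x, ι.injective ?_⟩
    rw [hψ, hx]
  have hker : RingHom.ker ψ = maximalIdeal ↥R := by
    ext x
    rw [RingHom.mem_ker, mem_maximalIdeal, mem_nonunits_iff, isUnit_iff_of_good hR]
    rw [← map_eq_zero_iff ι ι.injective, hψ, resOn_eq_zero_iff hR]
    constructor
    · exact fun h => h.ne
    · exact fun h => lt_of_le_of_ne (valuation_le_one_of_good hR x) h
  exact ⟨(Ideal.quotEquivOfEq hker.symm).trans (RingHom.quotientKerEquivOfSurjective hψsurj)⟩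

end conclude

/-- Existence of a Cohen ring with residue field `k`, from a suitable valuation ring. -/
theorem exists_isCohenRing_of_valuationSubring [IsAlgClosed 𝕂] (O : ValuationSubring 𝕂)
    (ι : k →+* ResidueField O) (p : ℕ) (hp : p.Prime) (hpv : O.valuation (p : 𝕂) < 1)
    (hp0 : (p : 𝕂) ≠ 0) :
    ∃ (Λ : Type u) (_ : CommRing Λ) (_ : IsLocalRing Λ), CAlg.IsCohenRing Λ ∧
      Nonempty (ResidueField Λ ≃+* k) := by
  obtain ⟨R, hR, hsurj⟩ := exists_good_residue_surjective (ι := ι) hpv hp0 hp
  haveI := isLocalRing_of_good hR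
  obtain ⟨Λ, i1, i2, hΛ, ⟨e⟩⟩ := exists_isCohenRing_of_principal (R := ↥R) p hp
    (maximalIdeal_eq_of_good hR hpv hp0) (sep_of_good hR hpv hp0) (pow_ne_zero_of_good hp0)
  obtain ⟨e'⟩ := nonempty_residueField_equiv hR hsurj
  exact ⟨Λ, i1, i2, hΛ, ⟨e.trans e'⟩⟩

end Groth.Agent.Lib.Helper19.CohenExist

namespace Groth.Agent.Lib.Helper19.CohenExist

open IsLocalRing

/-- **Existence of Cohen rings** (S0578): every field of characteristic `p` is the residue field
of a complete discrete valuation ring with uniformizer `p`. -/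
theorem exists_isCohenRing_residueField (p : ℕ) [Fact p.Prime] (k : Type u) [Field k] [CharP k p] :
    ∃ (Λ : Type u) (_ : CommRing Λ) (_ : IsLocalRing Λ), CAlg.IsCohenRing Λ ∧
      Nonempty (IsLocalRing.ResidueField Λ ≃+* k) := by
  have hp : p.Prime := Fact.out
  -- a big polynomial ring surjecting onto `k`
  let φ : MvPolynomial k ℤ →+* k := MvPolynomial.eval₂Hom (Int.castRingHom k) id
  have hφsurj : Function.Surjective φ := fun a => ⟨MvPolynomial.X a, by simp [φ]⟩
  haveI hprime : (RingHom.ker φ).IsPrime := RingHom.ker_isPrime φ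
  -- the ambient algebraically closed field
  let 𝕂 := AlgebraicClosure (FractionRing (MvPolynomial k ℤ))
  have hinj : Function.Injective (algebraMap (MvPolynomial k ℤ) 𝕂) := by
    rw [IsScalarTower.algebraMap_eq (MvPolynomial k ℤ) (FractionRing (MvPolynomial k ℤ)) 𝕂]
    exact (algebraMap (FractionRing (MvPolynomial k ℤ)) 𝕂).injective.comp
      (IsFractionRing.injective _ _)
  haveI : CharZero 𝕂 := charZero_of_injective_algebraMap hinj
  let f : Localization.AtPrime (RingHom.ker φ) →+* 𝕂 :=
    IsLocalization.lift (M := (RingHom.ker φ).primeCompl)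
      (g := algebraMap (MvPolynomial k ℤ) 𝕂) (fun y => by
        refine IsUnit.mk0 _ ?_
        intro h0
        have : (y : MvPolynomial k ℤ) = 0 := hinj (by rw [h0, map_zero])
        exact y.2 (by rw [this]; exact Ideal.zero_mem _))
  have hf : ∀ q : MvPolynomial k ℤ,
      f (algebraMap _ (Localization.AtPrime (RingHom.ker φ)) q) = algebraMap _ 𝕂 q :=
    fun q => IsLocalization.lift_eq _ q
  obtain ⟨O, hO, hloc⟩ := IsLocalRing.exists_factor_valuationRing f
  -- the induced map on residue fields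
  let g : Localization.AtPrime (RingHom.ker φ) →+* O := f.codRestrict O.toSubring hO
  have hgmem : ∀ q ∈ RingHom.ker φ,
      g (algebraMap _ (Localization.AtPrime (RingHom.ker φ)) q) ∈ maximalIdeal O := by
    intro q hq
    have h1 : algebraMap _ (Localization.AtPrime (RingHom.ker φ)) q ∈
        maximalIdeal (Localization.AtPrime (RingHom.ker φ)) :=
      (IsLocalization.AtPrime.to_map_mem_maximal_iff _ (RingHom.ker φ) q).2 hq
    exact map_nonunit g _ h1
  let ψ : MvPolynomial k ℤ →+* ResidueField O :=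
    (residue O).comp (g.comp (algebraMap _ (Localization.AtPrime (RingHom.ker φ))))
  have hψker : ∀ q ∈ RingHom.ker φ, ψ q = 0 := fun q hq =>
    (residue_eq_zero_iff _).2 (hgmem q hq)
  let ι : k →+* ResidueField O :=
    (Ideal.Quotient.lift (RingHom.ker φ) ψ hψker).comp
      (RingHom.quotientKerEquivOfSurjective hφsurj).symm.toRingHom
  have hpker : ((p : ℕ) : MvPolynomial k ℤ) ∈ RingHom.ker φ := by
    rw [RingHom.mem_ker, map_natCast]
    exact CharP.cast_eq_zero k p
  have hpv : O.valuation ((p : ℕ) : 𝕂) < 1 := by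
    have h1 := hgmem _ hpker
    rw [O.valuation_lt_one_iff] at h1
    have h2 : ((g (algebraMap _ (Localization.AtPrime (RingHom.ker φ))
        ((p : ℕ) : MvPolynomial k ℤ)) : O) : 𝕂) = ((p : ℕ) : 𝕂) := by
      change f (algebraMap _ _ ((p : ℕ) : MvPolynomial k ℤ)) = _
      rw [hf, map_natCast]
    rw [h2] at h1
    exact h1
  have hp0 : ((p : ℕ) : 𝕂) ≠ 0 := by
    exact_mod_cast hp.ne_zero
  exact exists_isCohenRing_of_valuationSubring O ι p hp hpv hp0

end Groth.Agent.Lib.Helper19.CohenExist
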