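import Groth.Agent.Lib.Helper19CohenStructure
import Groth.Agent.Lib.Helper19PsFlat
import Mathlib.RingTheory.Flat.TorsionFree

/-!
# Maps between Cohen rings are flat (helper19)

Preparation for EGA 0_III 10.3.1 for complete local rings via Cohen's structure theorem.
-/

set_option autoImplicit false
set_option linter.style.haveILetI false
set_option linter.unusedSectionVars false
universe u

namespace Groth.Agent.Lib.Helper19.FlatResExt

open IsLocalRing Groth.Agent.Lib.Helper19.FlatLift

/-- existence of a Cohen ring in the wide sense with a given residue field -/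
theorem exists_isCohenRingEGA_residueField (K : Type u) [Field K] :
    ∃ (Λ : Type u) (_ : CommRing Λ) (_ : IsLocalRing Λ) (_ : IsAdicComplete (maximalIdeal Λ) Λ),
      EGA41.IsCohenRingEGA Λ ∧ Nonempty (ResidueField Λ ≃+* K) := by
  obtain ⟨q, hq⟩ := CharP.exists K
  rcases CharP.char_is_prime_or_zero K q with hqp | rfl
  · haveI : Fact q.Prime := ⟨hqp⟩
    obtain ⟨Λ, i1, i2, hΛ, ⟨e⟩⟩ :=
      Groth.Agent.Lib.Helper19.CohenExist.exists_isCohenRing_residueField q K
    obtain ⟨hdom, hdvr, hcompl, -⟩ := id hΛ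
    exact ⟨Λ, i1, i2, hcompl, Or.inr hΛ, ⟨e⟩⟩
  · haveI : CharZero K := CharP.charP_to_charZero _
    have hf : IsField K := Field.toIsField _
    have hcompl : IsAdicComplete (maximalIdeal K) K := by
      rw [IsLocalRing.maximalIdeal_eq_bot]
      infer_instance
    exact ⟨K, inferInstance, inferInstance, hcompl, Or.inl ⟨hf, inferInstance⟩,
      ⟨(RingEquiv.ofBijective _ (residue_bijective_of_isField hf)).symm⟩⟩

/-- a Cohen ring in the wide sense is a principal ideal domain -/
theorem isDomain_and_isPrincipalIdealRing_of_isCohenRingEGA {Λ : Type u} [CommRing Λ]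
    (hΛ : EGA41.IsCohenRingEGA Λ) : IsDomain Λ ∧ IsPrincipalIdealRing Λ := by
  rcases hΛ with ⟨hf, -⟩ | hc
  · letI : Field Λ := hf.toField
    exact ⟨inferInstance, inferInstance⟩
  · obtain ⟨hdom, hdvr, -⟩ := hc
    exact ⟨hdom, inferInstance⟩

/-- local homomorphisms between Cohen rings in the wide sense are flat and unramified -/
theorem flat_and_map_maximalIdeal_of_isCohenRingEGA {Λ Λ' : Type u} [CommRing Λ] [IsLocalRing Λ]
    [CommRing Λ'] [IsLocalRing Λ'] (hΛ : EGA41.IsCohenRingEGA Λ) (hΛ' : EGA41.IsCohenRingEGA Λ')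
    [Algebra Λ Λ'] [IsLocalHom (algebraMap Λ Λ')] :
    Module.Flat Λ Λ' ∧ (maximalIdeal Λ).map (algebraMap Λ Λ') = maximalIdeal Λ' := by
  obtain ⟨hdom, hpid⟩ := isDomain_and_isPrincipalIdealRing_of_isCohenRingEGA hΛ
  obtain ⟨hdom', hpid'⟩ := isDomain_and_isPrincipalIdealRing_of_isCohenRingEGA hΛ'
  have hloc : ∀ x ∈ maximalIdeal Λ, algebraMap Λ Λ' x ∈ maximalIdeal Λ' := by
    intro x hx
    rw [mem_maximalIdeal, mem_nonunits_iff] at hx ⊢
    exact fun h => hx (isUnit_of_map_unit (algebraMap Λ Λ') x h)
  -- the two cases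
  have key : Function.Injective (algebraMap Λ Λ') ∧
      (maximalIdeal Λ).map (algebraMap Λ Λ') = maximalIdeal Λ' := by
    rcases hΛ with ⟨hf, hc0⟩ | hc
    · -- `Λ` is a field of characteristic zero
      have hinj : Function.Injective (algebraMap Λ Λ') := by
        rw [injective_iff_map_eq_zero]
        intro x hx
        by_contra hx0
        obtain ⟨y, hy⟩ := hf.mul_inv_cancel hx0
        have : algebraMap Λ Λ' (x * y) = 0 := by rw [map_mul, hx, zero_mul]
        rw [hy, map_one] at this
        exact one_ne_zero this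
      refine ⟨hinj, ?_⟩
      have hm : maximalIdeal Λ = ⊥ := by
        letI : Field Λ := hf.toField
        exact IsLocalRing.maximalIdeal_eq_bot
      rw [hm, Ideal.map_bot]
      rcases hΛ' with ⟨hf', -⟩ | hc'
      · letI : Field Λ' := hf'.toField
        exact IsLocalRing.maximalIdeal_eq_bot.symm
      · exfalso
        obtain ⟨hdomq, hdvrq, -, q, hq, hmax⟩ := hc'
        have hqm : ((q : ℕ) : Λ') ∈ maximalIdeal Λ' := by
          rw [hmax]; exact Ideal.subset_span rfl
        have hq0 : ((q : ℕ) : Λ) ≠ 0 := by exact_mod_cast hq.ne_zero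
        obtain ⟨y, hy⟩ := hf.mul_inv_cancel hq0
        have h1 : ((q : ℕ) : Λ') * algebraMap Λ Λ' y = 1 := by
          rw [← map_natCast (algebraMap Λ Λ'), ← map_mul, hy, map_one]
        have : (1 : Λ') ∈ maximalIdeal Λ' := by
          rw [← h1]; exact Ideal.mul_mem_right _ _ hqm
        exact (Ideal.ne_top_iff_one _).1 (IsLocalRing.maximalIdeal.isMaximal Λ').ne_top this
    · -- `Λ` is a strict Cohen ring
      haveI : CharZero Λ := charZero_of_isCohenRing hc
      obtain ⟨hdomp, hdvr, -, p, hp, hmax⟩ := hc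
      haveI := hdvr
      have hpm : ((p : ℕ) : Λ') ∈ maximalIdeal Λ' := by
        rw [← map_natCast (algebraMap Λ Λ')]
        apply hloc
        rw [hmax]; exact Ideal.subset_span rfl
      rcases hΛ' with ⟨hf', hc0'⟩ | hc'
      · exfalso
        have hm : maximalIdeal Λ' = ⊥ := by
          letI : Field Λ' := hf'.toField
          exact IsLocalRing.maximalIdeal_eq_bot
        rw [hm, Ideal.mem_bot] at hpm
        exact hp.ne_zero (by exact_mod_cast hpm)
      · haveI : CharZero Λ' := charZero_of_isCohenRing hc'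
        obtain ⟨hdomq, hdvr', -, q, hq, hmax'⟩ := hc'
        have hqm : ((q : ℕ) : Λ') ∈ maximalIdeal Λ' := by
          rw [hmax']; exact Ideal.subset_span rfl
        have hqp : q = p := prime_eq_of_natCast_mem_maximalIdeal hp hq hpm hqm
        subst hqp
        have hirr : Irreducible ((q : ℕ) : Λ) :=
          IsDiscreteValuationRing.irreducible_iff_uniformizer _ |>.2 hmax
        have hp0' : ((q : ℕ) : Λ') ≠ 0 := by exact_mod_cast hp.ne_zero
        refine ⟨?_, ?_⟩
        · rw [injective_iff_map_eq_zero]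
          intro x hx
          by_contra hx0
          obtain ⟨n, hn⟩ := IsDiscreteValuationRing.associated_pow_irreducible hx0 hirr
          obtain ⟨c, hc⟩ := hn
          have h1 : algebraMap Λ Λ' (x * c) = 0 := by rw [map_mul, hx, zero_mul]
          rw [hc, map_pow, map_natCast] at h1
          exact pow_ne_zero n hp0' h1
        · rw [hmax, Ideal.map_span, Set.image_singleton, hmax', map_natCast]
  obtain ⟨hinj, hmap⟩ := key
  refine ⟨?_, hmap⟩
  haveI : Module.IsTorsionFree Λ Λ' := Module.isTorsionFree_iff_algebraMap_injective.2 hinj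
  infer_instance

end Groth.Agent.Lib.Helper19.FlatResExt
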