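import Groth.Agent.Lib.Helper19CohenStructure

/-!
# Artinian local rings which are quotients of Cohen rings (EGA 0_IV 19.8.?) (helper19)
-/

set_option autoImplicit false
set_option linter.style.haveILetI false
set_option linter.unusedSectionVars false
universe u

namespace Groth.Agent.Lib.Helper19.CohenStructure

open IsLocalRing

/-- S2459 -/
theorem artinian_local_quotient_cohenRing_iff {A : Type u} [CommRing A] [IsLocalRing A]
    [IsArtinianRing A] (p : ℕ) [CharP (ResidueField A) p] :
    (∃ (W : Type u) (_ : CommRing W) (I : Ideal W),
      EGA41.IsCohenRingEGA W ∧ Nonempty (A ≃+* W ⧸ I)) ↔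
      maximalIdeal A = Ideal.span {(p : A)} := by
  constructor
  · rintro ⟨W, _, I, hW, ⟨e⟩⟩
    rcases hW with ⟨hf, hc⟩ | hW
    · -- `W` a field of characteristic zero
      letI : Field W := hf.toField
      have hI : I = ⊥ := by
        rcases Ideal.eq_bot_or_top I with h | h
        · exact h
        · exfalso
          haveI : Subsingleton (W ⧸ I) := by rw [h]; exact Ideal.Quotient.subsingleton_iff.2 rfl
          haveI : Subsingleton A := e.injective.subsingleton
          exact not_subsingleton A inferInstance
      subst hI
      let e' : A ≃+* W := e.trans (RingEquiv.quotientBot W)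
      have hAf : IsField A := e'.toMulEquiv.isField hf
      haveI : CharZero A := charZero_of_injective_ringHom (f := (e'.symm : W →+* A))
        e'.symm.injective
      have hmax : maximalIdeal A = ⊥ := by
        letI : Field A := hAf.toField
        exact IsLocalRing.maximalIdeal_eq_bot
      haveI : CharZero (ResidueField A) := by
        refine charZero_of_injective_ringHom (f := residue A) ?_
        rw [injective_iff_map_eq_zero]
        intro x hx
        rw [residue_eq_zero_iff, hmax, Ideal.mem_bot] at hx
        exact hx
      have hp0 : p = 0 := CharP.eq (ResidueField A) inferInstance (CharP.ofCharZero _)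
      rw [hmax, hp0, Nat.cast_zero, eq_comm, Ideal.span_singleton_eq_bot]
    · -- `W` a strict Cohen ring
      obtain ⟨hdom, hdvr, -, q, hq, hmaxW⟩ := hW
      haveI := hdom
      haveI := hdvr
      let ψ : W →+* A := (e.symm : W ⧸ I →+* A).comp (Ideal.Quotient.mk I)
      have hψ : Function.Surjective ψ := e.symm.surjective.comp Ideal.Quotient.mk_surjective
      haveI : IsLocalHom ψ := IsLocalHom.of_surjective ψ hψ
      have hmaxA : maximalIdeal A = Ideal.span {(q : A)} := by
        have h1 : maximalIdeal A = (maximalIdeal W).map ψ := by
          apply le_antisymm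
          · intro x hx
            obtain ⟨w, rfl⟩ := hψ x
            refine Ideal.mem_map_of_mem _ ?_
            by_contra hw
            have hwu : IsUnit w := by
              rw [mem_maximalIdeal, mem_nonunits_iff, not_not] at hw
              exact hw
            exact hx (hwu.map ψ)
          · exact map_maximalIdeal_le ψ
        rw [h1, hmaxW, Ideal.map_span, Set.image_singleton, map_natCast]
      have hq0 : ((q : ℕ) : ResidueField A) = 0 := by
        rw [← map_natCast (residue A), residue_eq_zero_iff, hmaxA]
        exact Ideal.subset_span rfl
      have hdvd : p ∣ q := (CharP.cast_eq_zero_iff (ResidueField A) p q).1 hq0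
      have hpq : p = q := by
        rcases (Nat.dvd_prime hq).1 hdvd with h | h
        · exact (CharP.char_ne_one (ResidueField A) p h).elim
        · exact h
      rw [hpq]
      exact hmaxA
  · intro hmax
    obtain ⟨Λ, i1, i2, i3, φ, hΛE, -, hloc, hres⟩ := exists_coefficientRing' A
    have hpΛ : ((p : ℕ) : Λ) ∈ maximalIdeal Λ := by
      by_contra hu
      rw [mem_maximalIdeal, mem_nonunits_iff, not_not] at hu
      have h1 : IsUnit ((p : ℕ) : A) := by
        have := hu.map φ
        rwa [map_natCast] at this
      have h2 : ((p : ℕ) : A) ∈ maximalIdeal A := by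
        rw [hmax]; exact Ideal.subset_span rfl
      exact h2 h1
    have hmapeq : (maximalIdeal Λ).map φ = maximalIdeal A := by
      apply le_antisymm
      · rw [Ideal.map_le_iff_le_comap]
        exact fun x hx => hloc x hx
      · rw [hmax, Ideal.span_le, Set.singleton_subset_iff, SetLike.mem_coe, ← map_natCast φ]
        exact Ideal.mem_map_of_mem _ hpΛ
    haveI : IsHausdorff ((maximalIdeal Λ).map φ) A := by
      rw [hmapeq]
      infer_instance
    haveI : IsPrecomplete (maximalIdeal Λ) Λ := i3.toIsPrecomplete
    have hsurj : Function.Surjective φ := by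
      apply surjective_of_mk_map_comp_surjective φ (I := maximalIdeal Λ)
      intro y
      obtain ⟨r, rfl⟩ := Ideal.Quotient.mk_surjective y
      obtain ⟨l, hl⟩ := hres r
      refine ⟨l, ?_⟩
      rw [RingHom.comp_apply, Ideal.Quotient.eq, hmapeq, ← neg_sub]
      exact (Ideal.neg_mem_iff _).2 hl
    exact ⟨Λ, i1, RingHom.ker φ, hΛE, ⟨(RingHom.quotientKerEquivOfSurjective hsurj).symm⟩⟩

end Groth.Agent.Lib.Helper19.CohenStructure
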