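import Groth.Agent.Lib.Helper19FlatLiftFS
import Groth.Agent.Lib.Helper19PBasisField
import Groth.Agent.Lib.Helper19PsFormallySmooth
import Groth.Prelude.Def_Found

/-!
# Cohen rings and their power series rings are formally smooth over `ℤ` (helper19)
-/

set_option autoImplicit false
set_option linter.style.haveILetI false
set_option linter.unusedSectionVars false
universe u

namespace Groth.Agent.Lib.Helper19.FlatLift

open MvPowerSeries IsLocalRing

/-- If `K` is adically formally smooth over `R` then so is `K[[x₁,…,xₙ]]`, for any ideal containing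
the variables and the extension of the ideal of `K`. -/
theorem isAdicFormallySmooth_mvPowerSeries_of_isAdicFormallySmooth {R K : Type u} [CommRing R]
    [CommRing K] [Algebra R K] (n : ℕ) (𝔟₀ : Ideal K) (hK : CAlgX.IsAdicFormallySmooth R K 𝔟₀)
    (𝔟 : Ideal (MvPowerSeries (Fin n) K)) (h𝔟 : ∀ i, (X i : MvPowerSeries (Fin n) K) ∈ 𝔟)
    (h₀ : 𝔟₀.map (algebraMap K (MvPowerSeries (Fin n) K)) ≤ 𝔟) :
    CAlgX.IsAdicFormallySmooth R (MvPowerSeries (Fin n) K) 𝔟 := by
  intro A _ _ J hJ ψ hψ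
  have hJnil : IsNilpotent J := ⟨2, hJ⟩
  let ψ₀ : K →ₐ[R] A ⧸ J := ψ.comp (IsScalarTower.toAlgHom R K (MvPowerSeries (Fin n) K))
  obtain ⟨l, hl0⟩ := hK A J hJ ψ₀ (by
    obtain ⟨k, hk⟩ := hψ
    refine ⟨k, fun x hx => hk _ ?_⟩
    refine Ideal.pow_right_mono h₀ k ?_
    rw [← Ideal.map_pow]
    exact Ideal.mem_map_of_mem _ hx)
  have hl : ∀ a, Ideal.Quotient.mk J (l a) = ψ₀ a := fun a =>
    congrArg (fun f : K →ₐ[R] A ⧸ J => f a) hl0
  letI : Algebra K A := l.toRingHom.toAlgebra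
  haveI : IsScalarTower R K A := IsScalarTower.of_algebraMap_eq (fun r => (l.commutes r).symm)
  let ψK : MvPowerSeries (Fin n) K →ₐ[K] A ⧸ J :=
    { ψ.toRingHom with
      commutes' := fun a => by
        change ψ (algebraMap K (MvPowerSeries (Fin n) K) a) = Ideal.Quotient.mk J (l a)
        rw [hl]
        rfl }
  have hψK : ∀ x, ψK x = ψ x := fun x => rfl
  obtain ⟨v, hv⟩ := Groth.Agent.Lib.Helper19.exists_lift_mvPowerSeries_of_isNilpotent 𝔟 h𝔟 A J
    hJnil ψK
    (by obtain ⟨k, hk⟩ := hψ; exact ⟨k, fun x hx => by rw [hψK]; exact hk x hx⟩)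
  refine ⟨v.restrictScalars R, ?_⟩
  ext x
  have := congrArg (fun f => f x) hv
  simpa [hψK] using this

/-- A Cohen ring is formally smooth over `ℤ` for its adic topology. -/
theorem isAdicFormallySmooth_int_of_isCohenRing (Λ : Type) [CommRing Λ] [IsLocalRing Λ]
    (hΛ : CAlg.IsCohenRing Λ) : CAlgX.IsAdicFormallySmooth ℤ Λ (maximalIdeal Λ) := by
  obtain ⟨hdom, hdvr, -, p, hp, hmax⟩ := hΛ
  haveI := hdom
  haveI := hdvr
  haveI : Fact p.Prime := ⟨hp⟩
  have hp0 : (p : Λ) ≠ 0 := by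
    intro h
    apply IsDiscreteValuationRing.not_a_field Λ
    rw [hmax, h, Ideal.span_singleton_eq_bot]
  haveI : CharZero Λ := by
    obtain ⟨c, hc⟩ := CharP.exists Λ
    rcases CharP.char_is_prime_or_zero Λ c with hq | rfl
    · exfalso
      have hcm : (c : Λ) ∈ maximalIdeal Λ := by
        rw [CharP.cast_eq_zero Λ c]; exact Ideal.zero_mem _
      have hpm : (p : Λ) ∈ maximalIdeal Λ := by
        rw [hmax]; exact Ideal.subset_span rfl
      by_cases hcp : c = p
      · subst hcp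
        exact hp0 (CharP.cast_eq_zero Λ c)
      · have hcop : Nat.Coprime c p := (Nat.coprime_primes hq hp).2 hcp
        have h1 : ((Nat.gcd c p : ℤ) : Λ) ∈ maximalIdeal Λ := by
          rw [Nat.gcd_eq_gcd_ab]
          push_cast
          exact Ideal.add_mem _ (Ideal.mul_mem_right _ _ hcm) (Ideal.mul_mem_right _ _ hpm)
        rw [hcop] at h1
        simp only [Nat.cast_one, Int.cast_one] at h1
        exact (Ideal.ne_top_iff_one _).1 (IsLocalRing.maximalIdeal.isMaximal Λ).ne_top h1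
    · exact CharP.charP_to_charZero Λ
  haveI : Module.Flat ℤ Λ := inferInstance
  set I : Ideal ℤ := Ideal.span {(p : ℤ)} with hI
  have hImap : I.map (algebraMap ℤ Λ) = maximalIdeal Λ := by
    rw [hI, Ideal.map_span, Set.image_singleton, hmax]
    simp
  have hpz : (p : ℤ) ≠ 0 := by exact_mod_cast hp.ne_zero
  haveI hIprime : I.IsPrime := by
    rw [hI, Ideal.span_singleton_prime hpz]
    exact Nat.prime_iff_prime_int.mp hp
  haveI hImax : I.IsMaximal := Ideal.IsPrime.isMaximal hIprime (by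
    rw [Ne, hI, Ideal.span_singleton_eq_bot]; exact hpz)
  haveI hmax' : (I.map (algebraMap ℤ Λ)).IsMaximal := by
    rw [hImap]; infer_instance
  letI : Field (ℤ ⧸ I) := Ideal.Quotient.field I
  letI : Field (Λ ⧸ I.map (algebraMap ℤ Λ)) := Ideal.Quotient.field _
  haveI : CharP (ℤ ⧸ I) p := by
    refine CharP.quotient ℤ p ?_
    rw [mem_nonunits_iff, Int.isUnit_iff_natAbs_eq]
    simp only [Int.natAbs_natCast]
    exact hp.one_lt.ne'
  haveI : Finite (ℤ ⧸ I) := Finite.of_equiv _ (Int.quotientSpanNatEquivZMod p).symm.toEquiv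
  haveI : PerfectRing (ℤ ⧸ I) p := PerfectRing.ofFiniteOfIsReduced p (ℤ ⧸ I)
  haveI : CharP (Λ ⧸ I.map (algebraMap ℤ Λ)) p :=
    charP_of_injective_algebraMap
      (RingHom.injective (algebraMap (ℤ ⧸ I) (Λ ⧸ I.map (algebraMap ℤ Λ)))) p
  haveI : Algebra.FormallySmooth (ℤ ⧸ I) (Λ ⧸ I.map (algebraMap ℤ Λ)) :=
    Groth.Agent.Lib.Helper19.PBasis.formallySmooth_field_of_perfectRing p _ _
  intro A' _ _ J hJ ψ hψ
  obtain ⟨k, hk⟩ := hψ
  have h1 : ((p : ℕ) : A') ^ k ∈ J := by
    have h2 : ψ ((p : Λ) ^ k) = 0 := by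
      apply hk
      refine Ideal.pow_mem_pow ?_ k
      rw [hmax]; exact Ideal.subset_span rfl
    rw [map_pow, map_natCast] at h2
    rw [← Ideal.Quotient.eq_zero_iff_mem, map_pow, map_natCast]
    exact h2
  have h3 : ((p : ℕ) : A') ^ (2 * k) = 0 := by
    have h4 : (((p : ℕ) : A') ^ k) ^ 2 ∈ J ^ 2 := Ideal.pow_mem_pow h1 2
    rw [hJ, Ideal.mem_bot, ← pow_mul, mul_comm] at h4
    exact h4
  have hC : (I ^ (2 * k)).map (algebraMap ℤ A') = ⊥ := by
    rw [hI, Ideal.span_singleton_pow, Ideal.map_span, Set.image_singleton, map_pow,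
      Ideal.span_singleton_eq_bot]
    simpa using h3
  exact exists_lift_of_flat_of_pow_kills I
    (fun hC J hJ f => exists_lift_of_formallySmooth_quotient I hC J hJ f) (2 * k) hC J hJ ψ

/-- `ℤ → Λ[[x₁,…,xₙ]]` is formally smooth for the adic topology, `Λ` a Cohen ring. -/
theorem isAdicFormallySmooth_int_mvPowerSeries_of_isCohenRing (Λ : Type) [CommRing Λ]
    [IsLocalRing Λ] (hΛ : CAlg.IsCohenRing Λ) (n : ℕ) :
    CAlgX.IsAdicFormallySmooth ℤ (MvPowerSeries (Fin n) Λ)
      (maximalIdeal (MvPowerSeries (Fin n) Λ)) := by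
  refine isAdicFormallySmooth_mvPowerSeries_of_isAdicFormallySmooth n (maximalIdeal Λ)
    (isAdicFormallySmooth_int_of_isCohenRing Λ hΛ) _ (fun i => ?_) ?_
  · rw [IsLocalRing.mem_maximalIdeal, mem_nonunits_iff, MvPowerSeries.isUnit_iff_constantCoeff]
    simp
  · rw [Ideal.map_le_iff_le_comap]
    intro x hx
    rw [Ideal.mem_comap, IsLocalRing.mem_maximalIdeal, mem_nonunits_iff,
      MvPowerSeries.isUnit_iff_constantCoeff]
    rw [IsLocalRing.mem_maximalIdeal, mem_nonunits_iff] at hx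
    have hc : constantCoeff (algebraMap Λ (MvPowerSeries (Fin n) Λ) x) = x := by
      rw [MvPowerSeries.algebraMap_apply, Algebra.algebraMap_self, RingHom.id_apply,
        MvPowerSeries.constantCoeff_C]
    rw [hc]
    exact hx

end Groth.Agent.Lib.Helper19.FlatLift
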