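import Mathlib

set_option autoImplicit false
universe u

namespace Groth.Agent.Lib.Helper19.LengthMulPair

variable {A : Type u} [CommRing A] [IsDomain A] [UniqueFactorizationMonoid A]

/-- Additivity of the local intersection length `ℓ(A/(fh, g)) = ℓ(A/(f,g)) + ℓ(A/(h,g))`
when `f, g` are relatively prime. -/
theorem length_quot_mul (f g h : A) (hfg : IsRelPrime f g) :
    Module.length A (A ⧸ Ideal.span ({f * h, g} : Set A)) =
      Module.length A (A ⧸ Ideal.span ({f, g} : Set A)) +
        Module.length A (A ⧸ Ideal.span ({h, g} : Set A)) := by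
  have hle1 : Ideal.span ({h, g} : Set A) ≤
      Submodule.comap (LinearMap.mulLeft A f) (Ideal.span ({f * h, g} : Set A)) := by
    intro a ha
    obtain ⟨c, d, rfl⟩ := Ideal.mem_span_pair.1 ha
    rw [Submodule.mem_comap, LinearMap.mulLeft_apply, Ideal.mem_span_pair]
    exact ⟨c, f * d, by ring⟩
  have hle2 : Ideal.span ({f * h, g} : Set A) ≤
      Submodule.comap (LinearMap.id : A →ₗ[A] A) (Ideal.span ({f, g} : Set A)) := by
    intro a ha
    obtain ⟨c, d, rfl⟩ := Ideal.mem_span_pair.1 ha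
    rw [Submodule.mem_comap, LinearMap.id_apply, Ideal.mem_span_pair]
    exact ⟨c * h, d, by ring⟩
  let φ : (A ⧸ Ideal.span ({h, g} : Set A)) →ₗ[A] (A ⧸ Ideal.span ({f * h, g} : Set A)) :=
    Submodule.mapQ _ _ (LinearMap.mulLeft A f) hle1
  let ψ : (A ⧸ Ideal.span ({f * h, g} : Set A)) →ₗ[A] (A ⧸ Ideal.span ({f, g} : Set A)) :=
    Submodule.mapQ _ _ LinearMap.id hle2
  have hφ : ∀ a : A, φ (Submodule.Quotient.mk a) = Submodule.Quotient.mk (f * a) := fun a => rfl
  have hψ : ∀ a : A, ψ (Submodule.Quotient.mk a) = Submodule.Quotient.mk a := fun a => rfl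
  have hinj : Function.Injective φ := by
    rw [← LinearMap.ker_eq_bot, eq_bot_iff]
    intro y hy
    obtain ⟨a, rfl⟩ := Submodule.Quotient.mk_surjective _ y
    rw [LinearMap.mem_ker, hφ, Submodule.Quotient.mk_eq_zero, Ideal.mem_span_pair] at hy
    obtain ⟨c, d, hcd⟩ := hy
    rw [Submodule.mem_bot, Submodule.Quotient.mk_eq_zero, Ideal.mem_span_pair]
    have h1 : g ∣ f * (a - c * h) := ⟨d, by linear_combination -hcd⟩
    obtain ⟨e, he⟩ := hfg.symm.dvd_of_dvd_mul_left h1
    exact ⟨c, e, by linear_combination -he⟩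
  have hsurj : Function.Surjective ψ := by
    intro y
    obtain ⟨a, rfl⟩ := Submodule.Quotient.mk_surjective _ y
    exact ⟨Submodule.Quotient.mk a, hψ a⟩
  have hex : Function.Exact φ ψ := by
    intro y
    constructor
    · intro hy
      obtain ⟨a, rfl⟩ := Submodule.Quotient.mk_surjective _ y
      rw [hψ, Submodule.Quotient.mk_eq_zero, Ideal.mem_span_pair] at hy
      obtain ⟨c, d, hcd⟩ := hy
      refine ⟨Submodule.Quotient.mk c, ?_⟩
      rw [hφ, Submodule.Quotient.eq, Ideal.mem_span_pair]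
      exact ⟨0, -d, by linear_combination -hcd⟩
    · rintro ⟨z, rfl⟩
      obtain ⟨a, rfl⟩ := Submodule.Quotient.mk_surjective _ z
      rw [hφ, hψ, Submodule.Quotient.mk_eq_zero, Ideal.mem_span_pair]
      exact ⟨a, 0, by ring⟩
  rw [Module.length_eq_add_of_exact φ ψ hinj hsurj hex, add_comm]

end Groth.Agent.Lib.Helper19.LengthMulPair
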