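import Mathlib
import Groth.Agent.Lib.Helper19LengthMulPair

set_option autoImplicit false
universe u

namespace Groth.Agent.Lib.Helper19.CokerLength

section general
variable {R : Type*} [CommRing R] {X Y Z P : Type*} [AddCommGroup X] [Module R X]
  [AddCommGroup Y] [Module R Y] [AddCommGroup Z] [Module R Z] [AddCommGroup P] [Module R P]

/-- the cokernel of `α` is `P` when `X → Z → P → 0` is exact -/
theorem length_coker_eq (α : X →ₗ[R] Z) (δ : Z →ₗ[R] P) (hex : Function.Exact α δ)
    (hδ : Function.Surjective δ) :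
    Module.length R (Z ⧸ LinearMap.range α) = Module.length R P :=
  ((Submodule.quotEquivOfEq _ _ (LinearMap.exact_iff.1 hex).symm).trans
    (δ.quotKerEquivOfSurjective hδ)).length_eq

/-- cokernel lengths add along a composition with injective second map -/
theorem length_coker_comp (α : X →ₗ[R] Y) (β : Y →ₗ[R] Z) (hβ : Function.Injective β) :
    Module.length R (Z ⧸ LinearMap.range (β ∘ₗ α)) =
      Module.length R (Y ⧸ LinearMap.range α) + Module.length R (Z ⧸ LinearMap.range β) := by
  have h1 : LinearMap.range α ≤ Submodule.comap β (LinearMap.range (β ∘ₗ α)) := by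
    rintro _ ⟨x, rfl⟩
    exact ⟨x, rfl⟩
  have h2 : LinearMap.range (β ∘ₗ α) ≤ Submodule.comap LinearMap.id (LinearMap.range β) := by
    rintro _ ⟨x, rfl⟩
    exact ⟨α x, rfl⟩
  let i : (Y ⧸ LinearMap.range α) →ₗ[R] (Z ⧸ LinearMap.range (β ∘ₗ α)) :=
    Submodule.mapQ _ _ β h1
  let p : (Z ⧸ LinearMap.range (β ∘ₗ α)) →ₗ[R] (Z ⧸ LinearMap.range β) :=
    Submodule.mapQ _ _ LinearMap.id h2
  have hi : ∀ y : Y, i (Submodule.Quotient.mk y) = Submodule.Quotient.mk (β y) := fun y => rfl
  have hp : ∀ z : Z, p (Submodule.Quotient.mk z) = Submodule.Quotient.mk z := fun z => rfl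
  have hinj : Function.Injective i := by
    rw [← LinearMap.ker_eq_bot, eq_bot_iff]
    intro y hy
    obtain ⟨y, rfl⟩ := Submodule.Quotient.mk_surjective _ y
    rw [LinearMap.mem_ker, hi, Submodule.Quotient.mk_eq_zero] at hy
    obtain ⟨x, hx⟩ := hy
    rw [Submodule.mem_bot, Submodule.Quotient.mk_eq_zero]
    exact ⟨x, hβ hx⟩
  have hsurj : Function.Surjective p := by
    intro z
    obtain ⟨z, rfl⟩ := Submodule.Quotient.mk_surjective _ z
    exact ⟨Submodule.Quotient.mk z, hp z⟩
  have hex : Function.Exact i p := by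
    intro z
    constructor
    · intro hz
      obtain ⟨z, rfl⟩ := Submodule.Quotient.mk_surjective _ z
      rw [hp, Submodule.Quotient.mk_eq_zero] at hz
      obtain ⟨y, rfl⟩ := hz
      exact ⟨Submodule.Quotient.mk y, hi y⟩
    · rintro ⟨y, rfl⟩
      obtain ⟨y, rfl⟩ := Submodule.Quotient.mk_surjective _ y
      rw [hi, hp, Submodule.Quotient.mk_eq_zero]
      exact ⟨y, rfl⟩
  exact Module.length_eq_add_of_exact i p hinj hsurj hex

/-- post-composition with an isomorphism does not change the cokernel length -/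
theorem length_coker_equiv_comp (δ : X →ₗ[R] Z) (γ : Z ≃ₗ[R] P) :
    Module.length R (P ⧸ LinearMap.range (γ.toLinearMap ∘ₗ δ)) =
      Module.length R (Z ⧸ LinearMap.range δ) := by
  apply length_coker_eq (γ.toLinearMap ∘ₗ δ) ((LinearMap.range δ).mkQ ∘ₗ γ.symm.toLinearMap)
  · intro w
    simp only [LinearMap.coe_comp, LinearEquiv.coe_coe, Function.comp_apply, Submodule.mkQ_apply,
      Submodule.Quotient.mk_eq_zero, Set.mem_range]
    constructor
    · rintro ⟨x, hx⟩
      exact ⟨x, by rw [hx, LinearEquiv.apply_symm_apply]⟩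
    · rintro ⟨x, rfl⟩
      exact ⟨x, by rw [LinearEquiv.symm_apply_apply]⟩
  · intro q
    obtain ⟨z, rfl⟩ := Submodule.Quotient.mk_surjective _ q
    exact ⟨γ z, by simp⟩

/-- cokernel of `id × φ` -/
theorem length_coker_prodMap (φ : Y →ₗ[R] Z) :
    Module.length R ((X × Z) ⧸ LinearMap.range ((LinearMap.id : X →ₗ[R] X).prodMap φ)) =
      Module.length R (Z ⧸ LinearMap.range φ) := by
  apply length_coker_eq _ ((LinearMap.range φ).mkQ ∘ₗ LinearMap.snd R X Z)
  · rintro ⟨x, z⟩
    simp only [LinearMap.coe_comp, Function.comp_apply, LinearMap.snd_apply, Submodule.mkQ_apply,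
      Submodule.Quotient.mk_eq_zero, Set.mem_range, LinearMap.prodMap_apply, LinearMap.id_apply,
      Prod.mk.injEq, Prod.exists]
    constructor
    · rintro ⟨y, hy⟩
      exact ⟨x, y, rfl, hy⟩
    · rintro ⟨_, y, _, hy⟩
      exact ⟨y, hy⟩
  · intro q
    obtain ⟨z, rfl⟩ := Submodule.Quotient.mk_surjective _ q
    exact ⟨(0, z), rfl⟩

end general

section ufd
variable {A : Type u} [CommRing A] [IsDomain A] [UniqueFactorizationMonoid A]

/-- `ℓ(A/(g, ∏ h_j)) = ∑ ℓ(A/(g, h_j))` -/
theorem length_quot_prod : ∀ {n : ℕ} (g : A) (h : Fin n → A) (_ : ∀ j, IsRelPrime g (h j)),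
    Module.length A (A ⧸ Ideal.span ({g, ∏ j, h j} : Set A)) =
      ∑ j, Module.length A (A ⧸ Ideal.span ({g, h j} : Set A)) := by
  intro n
  induction n with
  | zero =>
    intro g h _
    rw [Fin.prod_univ_zero, Fin.sum_univ_zero]
    have h1 : Ideal.span ({g, 1} : Set A) = ⊤ :=
      Ideal.eq_top_of_isUnit_mem _ (Ideal.subset_span (by simp)) isUnit_one
    haveI : Subsingleton (A ⧸ Ideal.span ({g, 1} : Set A)) := by
      rw [h1]; exact Ideal.Quotient.subsingleton_iff.2 rfl
    exact Module.length_eq_zero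
  | succ n ih =>
    intro g h hrel
    rw [Fin.prod_univ_succ, Fin.sum_univ_succ, Set.pair_comm,
      Groth.Agent.Lib.Helper19.LengthMulPair.length_quot_mul (h 0) g (∏ i : Fin n, h i.succ)
        (hrel 0).symm, Set.pair_comm (h 0) g, Set.pair_comm _ g,
      ih g (fun j => h j.succ) (fun j => hrel j.succ)]

/-- the canonical map -/
noncomputable def phi {n : ℕ} (f : Fin n → A) :
    (A ⧸ Ideal.span {∏ i, f i}) →ₗ[A] ((i : Fin n) → A ⧸ Ideal.span {f i}) :=
  LinearMap.pi (fun i => Submodule.mapQ (Ideal.span {∏ i, f i}) (Ideal.span {f i}) LinearMap.id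
    (Ideal.span_singleton_le_span_singleton.mpr (Finset.dvd_prod_of_mem f (Finset.mem_univ i))))

theorem phi_mk {n : ℕ} (f : Fin n → A) (a : A) (i : Fin n) :
    phi f (Submodule.Quotient.mk a) i = Submodule.Quotient.mk a := rfl

/-- the two-factor map -/
noncomputable def alpha (g F : A) :
    (A ⧸ Ideal.span {g * F}) →ₗ[A] (A ⧸ Ideal.span {g}) × (A ⧸ Ideal.span {F}) :=
  LinearMap.prod
    (Submodule.mapQ _ _ LinearMap.id
      (Ideal.span_singleton_le_span_singleton.mpr (Dvd.intro _ rfl)))
    (Submodule.mapQ _ _ LinearMap.id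
      (Ideal.span_singleton_le_span_singleton.mpr (Dvd.intro_left _ rfl)))

theorem alpha_mk (g F a : A) :
    alpha g F (Submodule.Quotient.mk a) = (Submodule.Quotient.mk a, Submodule.Quotient.mk a) := rfl

theorem alpha_injective (g F : A) (hrel : IsRelPrime g F) : Function.Injective (alpha g F) := by
  rw [← LinearMap.ker_eq_bot, eq_bot_iff]
  intro y hy
  obtain ⟨a, rfl⟩ := Submodule.Quotient.mk_surjective _ y
  rw [LinearMap.mem_ker, alpha_mk, Prod.mk_eq_zero, Submodule.Quotient.mk_eq_zero,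
    Submodule.Quotient.mk_eq_zero, Ideal.mem_span_singleton, Ideal.mem_span_singleton] at hy
  obtain ⟨⟨u, rfl⟩, hF⟩ := hy
  obtain ⟨v, rfl⟩ := hrel.symm.dvd_of_dvd_mul_left hF
  rw [Submodule.mem_bot, Submodule.Quotient.mk_eq_zero, Ideal.mem_span_singleton]
  exact ⟨v, by ring⟩

theorem length_coker_alpha (g F : A) :
    Module.length A (((A ⧸ Ideal.span {g}) × (A ⧸ Ideal.span {F})) ⧸
      LinearMap.range (alpha g F)) = Module.length A (A ⧸ Ideal.span ({g, F} : Set A)) := by
  have h1 : Ideal.span {g} ≤ Submodule.comap (LinearMap.id : A →ₗ[A] A)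
      (Ideal.span ({g, F} : Set A)) := by
    intro a ha
    obtain ⟨c, rfl⟩ := Ideal.mem_span_singleton'.1 ha
    exact Ideal.mul_mem_left _ _ (Ideal.subset_span (by simp))
  have h2 : Ideal.span {F} ≤ Submodule.comap (LinearMap.id : A →ₗ[A] A)
      (Ideal.span ({g, F} : Set A)) := by
    intro a ha
    obtain ⟨c, rfl⟩ := Ideal.mem_span_singleton'.1 ha
    exact Ideal.mul_mem_left _ _ (Ideal.subset_span (by simp))
  let δ : ((A ⧸ Ideal.span {g}) × (A ⧸ Ideal.span {F})) →ₗ[A] (A ⧸ Ideal.span ({g, F} : Set A)) :=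
    (Submodule.mapQ _ _ LinearMap.id h1).coprod (-(Submodule.mapQ _ _ LinearMap.id h2))
  have hδ : ∀ a b : A, δ (Submodule.Quotient.mk a, Submodule.Quotient.mk b)
      = Submodule.Quotient.mk (a - b) := by
    intro a b
    simp only [δ, LinearMap.coprod_apply, LinearMap.neg_apply, Submodule.mapQ_apply,
      LinearMap.id_apply]
    rw [← sub_eq_add_neg, ← Submodule.Quotient.mk_sub]
  apply length_coker_eq (alpha g F) δ
  · rintro ⟨y, z⟩
    obtain ⟨a, rfl⟩ := Submodule.Quotient.mk_surjective _ y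
    obtain ⟨b, rfl⟩ := Submodule.Quotient.mk_surjective _ z
    rw [hδ, Submodule.Quotient.mk_eq_zero, Ideal.mem_span_pair]
    constructor
    · rintro ⟨u, v, huv⟩
      refine ⟨Submodule.Quotient.mk (a - u * g), ?_⟩
      rw [alpha_mk, Prod.mk.injEq, Submodule.Quotient.eq, Submodule.Quotient.eq,
        Ideal.mem_span_singleton, Ideal.mem_span_singleton]
      exact ⟨⟨-u, by ring⟩, ⟨v, by linear_combination -huv⟩⟩
    · rintro ⟨c, hc⟩
      obtain ⟨c, rfl⟩ := Submodule.Quotient.mk_surjective _ c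
      rw [alpha_mk, Prod.mk.injEq, Submodule.Quotient.eq, Submodule.Quotient.eq,
        Ideal.mem_span_singleton, Ideal.mem_span_singleton] at hc
      obtain ⟨⟨u, hu⟩, ⟨v, hv⟩⟩ := hc
      exact ⟨-u, v, by linear_combination hu - hv⟩
  · intro q
    obtain ⟨a, rfl⟩ := Submodule.Quotient.mk_surjective _ q
    exact ⟨(Submodule.Quotient.mk a, Submodule.Quotient.mk 0), by rw [hδ, sub_zero]⟩

/-- variant of `alpha` with a general generator -/
noncomputable def alphaN (g F N : A) (hN : N = g * F) :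
    (A ⧸ Ideal.span {N}) →ₗ[A] (A ⧸ Ideal.span {g}) × (A ⧸ Ideal.span {F}) :=
  LinearMap.prod
    (Submodule.mapQ _ _ LinearMap.id
      (Ideal.span_singleton_le_span_singleton.mpr (Dvd.intro _ hN.symm)))
    (Submodule.mapQ _ _ LinearMap.id
      (Ideal.span_singleton_le_span_singleton.mpr (Dvd.intro_left _ hN.symm)))

theorem alphaN_mk (g F N : A) (hN : N = g * F) (a : A) :
    alphaN g F N hN (Submodule.Quotient.mk a) =
      (Submodule.Quotient.mk a, Submodule.Quotient.mk a) := rfl

theorem alphaN_injective (g F N : A) (hN : N = g * F) (hrel : IsRelPrime g F) :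
    Function.Injective (alphaN g F N hN) := by
  subst hN
  exact alpha_injective g F hrel

theorem length_coker_alphaN (g F N : A) (hN : N = g * F) :
    Module.length A (((A ⧸ Ideal.span {g}) × (A ⧸ Ideal.span {F})) ⧸
      LinearMap.range (alphaN g F N hN)) = Module.length A (A ⧸ Ideal.span ({g, F} : Set A)) := by
  subst hN
  exact length_coker_alpha g F

theorem sum_lt_succ {M : Type*} [AddCommMonoid M] {n : ℕ} (G : Fin (n + 1) → Fin (n + 1) → M) :
    ∑ p ∈ (Finset.univ : Finset (Fin (n + 1) × Fin (n + 1))) with p.1 < p.2, G p.1 p.2 =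
      ∑ j : Fin n, G 0 j.succ +
        ∑ p ∈ (Finset.univ : Finset (Fin n × Fin n)) with p.1 < p.2, G p.1.succ p.2.succ := by
  rw [Finset.sum_filter, Finset.sum_filter, Fintype.sum_prod_type, Fintype.sum_prod_type,
    Fin.sum_univ_succ]
  congr 1
  · rw [Fin.sum_univ_succ]
    simp [Fin.succ_pos]
  · apply Finset.sum_congr rfl
    intro i _
    rw [Fin.sum_univ_succ]
    simp [Fin.succ_lt_succ_iff]

theorem phi_spec : ∀ {n : ℕ} (f : Fin n → A) (_ : ∀ i j, i ≠ j → IsRelPrime (f i) (f j)),
    Function.Injective (phi f) ∧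
      Module.length A (((i : Fin n) → A ⧸ Ideal.span {f i}) ⧸ LinearMap.range (phi f)) =
        ∑ p ∈ (Finset.univ : Finset (Fin n × Fin n)) with p.1 < p.2,
          Module.length A (A ⧸ Ideal.span ({f p.1, f p.2} : Set A)) := by
  intro n
  induction n with
  | zero =>
    intro f _
    constructor
    · intro x y _
      haveI : Subsingleton (A ⧸ Ideal.span {∏ i : Fin 0, f i}) := by
        rw [Fin.prod_univ_zero, Ideal.span_singleton_one]
        exact Ideal.Quotient.subsingleton_iff.2 rfl
      exact Subsingleton.elim _ _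
    · rw [Module.length_eq_zero]
      symm
      apply Finset.sum_eq_zero
      rintro ⟨i, _⟩ _
      exact i.elim0
  | succ n ih =>
    intro f hcop
    set g : A := f 0 with hg
    set tail : Fin n → A := fun i => f i.succ with htail
    have hN : ∏ i, f i = g * ∏ i, tail i := Fin.prod_univ_succ f
    have hrelj : ∀ j, IsRelPrime g (tail j) := fun j => hcop 0 j.succ (Fin.succ_ne_zero j).symm
    have hrel : IsRelPrime g (∏ i, tail i) := IsRelPrime.prod_right (fun j _ => hrelj j)
    have htcop : ∀ i j, i ≠ j → IsRelPrime (tail i) (tail j) := fun i j hij =>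
      hcop i.succ j.succ (fun h => hij (Fin.succ_injective _ h))
    obtain ⟨ihinj, ihlen⟩ := ih tail htcop
    let α := alphaN g (∏ i, tail i) (∏ i, f i) hN
    let β : ((A ⧸ Ideal.span {g}) × (A ⧸ Ideal.span {∏ i, tail i})) →ₗ[A]
        ((A ⧸ Ideal.span {g}) × ((i : Fin n) → A ⧸ Ideal.span {tail i})) :=
      (LinearMap.id : (A ⧸ Ideal.span {g}) →ₗ[A] (A ⧸ Ideal.span {g})).prodMap (phi tail)
    let γ : ((A ⧸ Ideal.span {g}) × ((i : Fin n) → A ⧸ Ideal.span {tail i})) ≃ₗ[A]
        ((i : Fin (n + 1)) → A ⧸ Ideal.span {f i}) :=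
      Fin.consLinearEquiv A (fun i : Fin (n + 1) => A ⧸ Ideal.span {f i})
    have hfac : phi f = γ.toLinearMap ∘ₗ (β ∘ₗ α) := by
      apply LinearMap.ext
      intro x
      obtain ⟨a, rfl⟩ := Submodule.Quotient.mk_surjective _ x
      funext i
      refine Fin.cases ?_ (fun j => ?_) i
      · rfl
      · rfl
    have hβinj : Function.Injective β := Function.Injective.prodMap Function.injective_id ihinj
    have hαinj : Function.Injective α := alphaN_injective _ _ _ hN hrel
    constructor
    · rw [hfac]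
      exact γ.injective.comp (hβinj.comp hαinj)
    · rw [hfac, length_coker_equiv_comp, length_coker_comp α β hβinj, length_coker_alphaN,
        length_coker_prodMap, ihlen, length_quot_prod g tail hrelj,
        sum_lt_succ (fun i j => Module.length A (A ⧸ Ideal.span ({f i, f j} : Set A)))]

end ufd

end Groth.Agent.Lib.Helper19.CokerLength
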