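import Mathlib

/-!
# Exactness can be checked after completion at all maximal ideals (helper19)
-/

set_option autoImplicit false
universe u

namespace Groth.Agent.Lib.Helper19

variable (A : Type u) [CommRing A] [IsNoetherianRing A]

/-- A finite module all of whose completions at maximal ideals vanish is zero. -/
theorem subsingleton_of_forall_adicCompletion (N : Type u) [AddCommGroup N] [Module A N]
    [Module.Finite A N]
    (h : ∀ (m : Ideal A) [m.IsMaximal], Subsingleton (AdicCompletion m N)) : Subsingleton N := by
  by_contra hN
  rw [not_subsingleton_iff_nontrivial] at hN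
  have hann : (⊤ : Submodule A N).annihilator ≠ ⊤ := by
    intro htop
    have h1 : (1 : A) ∈ (⊤ : Submodule A N).annihilator := htop ▸ Submodule.mem_top
    obtain ⟨x, hx⟩ := exists_ne (0 : N)
    apply hx
    have := (Submodule.mem_annihilator.mp h1) x Submodule.mem_top
    simpa using this
  obtain ⟨m, hm, hle⟩ := Ideal.exists_le_maximal _ hann
  haveI := hm
  have hsub := h m
  have htop : (⊤ : Submodule A N) ≤ m • (⊤ : Submodule A N) := by
    intro x _
    have h0 : AdicCompletion.eval m N 1 (AdicCompletion.of m N x) = 0 := by
      rw [Subsingleton.elim (AdicCompletion.of m N x) 0, map_zero]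
    rw [AdicCompletion.eval_of, Submodule.mkQ_apply, Submodule.Quotient.mk_eq_zero, pow_one] at h0
    exact h0
  obtain ⟨r, hr1, hr2⟩ := Submodule.exists_sub_one_mem_and_smul_eq_zero_of_fg_of_le_smul m
    (⊤ : Submodule A N) Module.Finite.fg_top htop
  have hrann : r ∈ (⊤ : Submodule A N).annihilator :=
    Submodule.mem_annihilator.mpr fun n hn => hr2 n hn
  have : (1 : A) ∈ m := by
    have e : (1 : A) = r - (r - 1) := by ring
    rw [e]
    exact m.sub_mem (hle hrann) hr1
  exact hm.ne_top ((Ideal.eq_top_iff_one m).mpr this)

variable {A}
variable {M' M M'' : Type u} [AddCommGroup M'] [Module A M'] [AddCommGroup M] [Module A M]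
  [AddCommGroup M''] [Module A M'']
  [Module.Finite A M'] [Module.Finite A M] [Module.Finite A M'']

theorem shortExact_iff_forall_adicCompletion (f : M' →ₗ[A] M) (g : M →ₗ[A] M'') :
    (Function.Injective f ∧ Function.Exact f g ∧ Function.Surjective g) ↔
      ∀ (m : Ideal A) [m.IsMaximal],
        Function.Injective (AdicCompletion.map m f) ∧
          Function.Exact (AdicCompletion.map m f) (AdicCompletion.map m g) ∧
          Function.Surjective (AdicCompletion.map m g) := by
  constructor
  · rintro ⟨hf, hfg, hg⟩ m _
    exact ⟨AdicCompletion.map_injective m hf, AdicCompletion.map_exact hf hfg hg,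
      AdicCompletion.map_surjective m hg⟩
  · intro H
    -- injectivity of f
    have hinj : Function.Injective f := by
      rw [← LinearMap.ker_eq_bot]
      have hsub : Subsingleton (LinearMap.ker f) := by
        apply subsingleton_of_forall_adicCompletion A
        intro m _
        refine ⟨fun z₁ z₂ => ?_⟩
        apply AdicCompletion.map_injective m (Submodule.injective_subtype (LinearMap.ker f))
        apply (H m).1
        rw [AdicCompletion.map_comp_apply, AdicCompletion.map_comp_apply]
        have : f ∘ₗ (LinearMap.ker f).subtype = 0 := by
          ext ⟨x, hx⟩; exact hx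
        rw [this, AdicCompletion.map_zero]
        rfl
      exact (Submodule.eq_bot_iff _).mpr fun x hx => by
        have := Subsingleton.elim (⟨x, hx⟩ : LinearMap.ker f) 0
        exact congrArg Subtype.val this
    -- surjectivity of g
    have hsurj : Function.Surjective g := by
      rw [← LinearMap.range_eq_top]
      have hsub : Subsingleton (M'' ⧸ LinearMap.range g) := by
        apply subsingleton_of_forall_adicCompletion A
        intro m _
        refine ⟨fun z₁ z₂ => ?_⟩
        have key : ∀ z : AdicCompletion m (M'' ⧸ LinearMap.range g), z = 0 := by
          intro z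
          obtain ⟨w, rfl⟩ := AdicCompletion.map_surjective m
            (Submodule.mkQ_surjective (LinearMap.range g)) z
          obtain ⟨v, rfl⟩ := (H m).2.2 w
          rw [AdicCompletion.map_comp_apply]
          have : (LinearMap.range g).mkQ ∘ₗ g = 0 := by
            ext x
            simp
          rw [this, AdicCompletion.map_zero]
          rfl
        rw [key z₁, key z₂]
      exact Submodule.Quotient.subsingleton_iff.mp hsub
    -- g ∘ f = 0
    have hcomp : g ∘ₗ f = 0 := by
      set h := g ∘ₗ f with hh
      have hsub : Subsingleton (LinearMap.range h) := by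
        apply subsingleton_of_forall_adicCompletion A
        intro m _
        have key : ∀ z : AdicCompletion m (LinearMap.range h), z = 0 := by
          intro z
          obtain ⟨w, rfl⟩ := AdicCompletion.map_surjective m
            (LinearMap.surjective_rangeRestrict h) z
          apply AdicCompletion.map_injective m (Submodule.injective_subtype (LinearMap.range h))
          rw [AdicCompletion.map_comp_apply, map_zero]
          have : (LinearMap.range h).subtype ∘ₗ h.rangeRestrict = g ∘ₗ f := by
            ext x; rfl
          rw [this, ← AdicCompletion.map_comp_apply]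
          exact (H m).2.1.apply_apply_eq_zero w
        exact ⟨fun z₁ z₂ => by rw [key z₁, key z₂]⟩
      ext x
      have := Subsingleton.elim (⟨h x, LinearMap.mem_range_self h x⟩ : LinearMap.range h) 0
      exact congrArg Subtype.val this
    refine ⟨hinj, ?_, hsurj⟩
    -- exactness in the middle
    have hle : LinearMap.range f ≤ LinearMap.ker g := by
      rintro _ ⟨x, rfl⟩
      exact LinearMap.congr_fun hcomp x
    let K := LinearMap.ker g
    let f' : M' →ₗ[A] K := LinearMap.codRestrict K f (fun x => hle (LinearMap.mem_range_self f x))
    have hsub : Subsingleton (K ⧸ LinearMap.range f') := by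
      apply subsingleton_of_forall_adicCompletion A
      intro m _
      have key : ∀ z : AdicCompletion m (K ⧸ LinearMap.range f'), z = 0 := by
        intro z
        obtain ⟨w, rfl⟩ := AdicCompletion.map_surjective m
          (Submodule.mkQ_surjective (LinearMap.range f')) z
        have h1 : AdicCompletion.map m g (AdicCompletion.map m K.subtype w) = 0 := by
          rw [AdicCompletion.map_comp_apply]
          have : g ∘ₗ K.subtype = 0 := by
            ext ⟨x, hx⟩; exact hx
          rw [this, AdicCompletion.map_zero]
          rfl
        obtain ⟨v, hv⟩ := ((H m).2.1 _).mp h1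
        have h2 : w = AdicCompletion.map m f' v := by
          apply AdicCompletion.map_injective m (Submodule.injective_subtype K)
          rw [AdicCompletion.map_comp_apply, ← hv]
          rfl
        rw [h2, AdicCompletion.map_comp_apply]
        have : (LinearMap.range f').mkQ ∘ₗ f' = 0 := by
          ext x
          simp
        rw [this, AdicCompletion.map_zero]
        rfl
      exact ⟨fun z₁ z₂ => by rw [key z₁, key z₂]⟩
    have htop : LinearMap.range f' = ⊤ := Submodule.Quotient.subsingleton_iff.mp hsub
    rw [LinearMap.exact_iff]
    apply le_antisymm _ hle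
    intro y hy
    have : (⟨y, hy⟩ : K) ∈ LinearMap.range f' := htop ▸ Submodule.mem_top
    obtain ⟨x, hx⟩ := this
    exact ⟨x, congrArg Subtype.val hx⟩

end Groth.Agent.Lib.Helper19
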