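import Groth.Agent.Lib.Helper19CohenStructure
import Groth.Agent.Lib.Helper19CoeffField
import Groth.Agent.Lib.Helper19ComplNoeth
import Groth.Agent.Lib.Helper19Obs
import Mathlib.RingTheory.AdicCompletion.LocalRing

/-!
# Presentation of the completion of a local algebra with separable residue field (helper19)
-/

set_option autoImplicit false
set_option linter.style.haveILetI false
set_option linter.unusedSectionVars false
universe u

namespace Groth.Agent.Lib.Helper19

open IsLocalRing MvPowerSeries Groth.Agent.Lib.Helper19.CohenStructure

attribute [local instance] isAdicComplete_field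

/-- S7622: the completion of a Noetherian local `k`-algebra with separable residue field `κ` is a
quotient of `κ[[x_1..x_n]]`, compatibly with residue fields -/
theorem exists_mvPowerSeries_quotient_algEquiv_adicCompletion (k A : Type u) [Field k] [CommRing A]
    [Algebra k A] [IsNoetherianRing A] [IsLocalRing A]
    [Algebra.IsGeometricallyReduced k (ResidueField A)] :
    ∃ (n : ℕ) (I : Ideal (MvPowerSeries (Fin n) (ResidueField A)))
      (e : (MvPowerSeries (Fin n) (ResidueField A) ⧸ I) ≃ₐ[k]
        AdicCompletion (maximalIdeal A) A),
      ∀ a : A, e (Ideal.Quotient.mk I (MvPowerSeries.C (residue A a))) -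
          algebraMap A (AdicCompletion (maximalIdeal A) A) a ∈
        (maximalIdeal A).map (algebraMap A (AdicCompletion (maximalIdeal A) A)) := by
  let R := AdicCompletion (maximalIdeal A) A
  haveI : IsNoetherianRing R := isNoetherianRing_adicCompletion _
  -- residue fields
  let fκ : ResidueField A →ₐ[k] ResidueField R :=
    { ResidueField.map (algebraMap A R) with
      commutes' := by
        intro c
        change ResidueField.map (algebraMap A R) (residue A (algebraMap k A c)) =
          residue R (algebraMap k R c)
        rw [ResidueField.map_residue, ← IsScalarTower.algebraMap_apply] }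
  have hfκ : ∀ a, fκ (residue A a) = residue R (algebraMap A R a) := fun a => rfl
  let eκ : ResidueField A ≃ₐ[k] ResidueField R :=
    AlgEquiv.ofBijective fκ (AdicCompletion.residueField_map_bijective A)
  have heκ : ∀ a, eκ (residue A a) = residue R (algebraMap A R a) := fun a => rfl
  haveI : Algebra.IsGeometricallyReduced k (ResidueField R) :=
    Algebra.IsGeometricallyReduced.of_injective (eκ.symm : ResidueField R →ₐ[k] ResidueField A)
      eκ.symm.injective
  -- coefficient field
  obtain ⟨σ, hσ⟩ := exists_coefficientField (k := k) (A := R)
  let τ : ResidueField A →ₐ[k] R := σ.comp (eκ : ResidueField A →ₐ[k] ResidueField R)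
  have hτ : ∀ x, residue R (τ x) = eκ x := fun x => hσ (eκ x)
  letI : Algebra (ResidueField A) R := τ.toRingHom.toAlgebra
  have halg : ∀ x, algebraMap (ResidueField A) R x = τ x := fun x => rfl
  haveI : IsScalarTower k (ResidueField A) R := by
    apply IsScalarTower.of_algebraMap_eq
    intro c
    rw [halg, τ.commutes]
  -- the surjection
  obtain ⟨n, a, ha⟩ := Submodule.fg_iff_exists_fin_generating_family.1
    (IsNoetherian.noetherian (maximalIdeal R))
  have hloc : ∀ x ∈ maximalIdeal (ResidueField A),
      algebraMap (ResidueField A) R x ∈ maximalIdeal R := by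
    intro x hx
    rw [IsLocalRing.maximalIdeal_eq_bot, Ideal.mem_bot] at hx
    rw [hx, map_zero]
    exact zero_mem _
  have hres : ∀ r : R, ∃ l : ResidueField A, r - algebraMap (ResidueField A) R l ∈
      maximalIdeal R := by
    intro r
    refine ⟨eκ.symm (residue R r), ?_⟩
    rw [← residue_eq_zero_iff, map_sub, halg, hτ, AlgEquiv.apply_symm_apply, sub_self]
  obtain ⟨ev, hev⟩ := exists_surjective_algHom_mvPowerSeries (Λ := ResidueField A) (A := R)
    n a ha hloc hres
  have hevC : ∀ x : ResidueField A, ev (C x) = τ x := by
    intro x
    have h2 : (C x : MvPowerSeries (Fin n) (ResidueField A)) =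
        algebraMap (ResidueField A) (MvPowerSeries (Fin n) (ResidueField A)) x := by
      rw [MvPowerSeries.algebraMap_apply, Algebra.algebraMap_self, RingHom.id_apply]
    rw [h2, ev.commutes, halg]
  let evk : MvPowerSeries (Fin n) (ResidueField A) →ₐ[k] R := ev.restrictScalars k
  have hevk : Function.Surjective evk := hev
  refine ⟨n, RingHom.ker evk, Ideal.quotientKerAlgEquivOfSurjective hevk, fun a => ?_⟩
  have h1 : Ideal.quotientKerAlgEquivOfSurjective hevk
      (Ideal.Quotient.mk _ (MvPowerSeries.C (residue A a))) = τ (residue A a) := by
    change ev (C (residue A a)) = _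
    exact hevC _
  rw [h1, ← AdicCompletion.maximalIdeal_eq_map, ← residue_eq_zero_iff, map_sub, hτ, heκ, sub_self]

end Groth.Agent.Lib.Helper19
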