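import Mathlib

/-!
# Contraction `W ⊗ M → Hom(W^∨, M)` and its bijectivity for finite projective `W`
-/

set_option autoImplicit false
universe u

open TensorProduct

namespace Helper19Corep

variable {A : Type u} [CommRing A]

section
variable (W M : Type u) [AddCommGroup W] [Module A W] [AddCommGroup M] [Module A M]

/-- The contraction map `W ⊗ M → Hom(W^∨, M)`, `w ⊗ m ↦ (λ ↦ λ w • m)`. -/
noncomputable def contr : W ⊗[A] M →ₗ[A] (Module.Dual A W →ₗ[A] M) :=
  dualTensorHom A (Module.Dual A W) M ∘ₗ LinearMap.rTensor M (Module.Dual.eval A W)

variable {W M}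

@[simp]
theorem contr_tmul (w : W) (m : M) (l : Module.Dual A W) : contr W M (w ⊗ₜ m) l = l w • m := by
  simp [contr, dualTensorHom_apply]

theorem contr_rTensor {W' : Type u} [AddCommGroup W'] [Module A W'] (δ : W →ₗ[A] W')
    (x : W ⊗[A] M) (μ : Module.Dual A W') :
    contr W' M (LinearMap.rTensor M δ x) μ = contr W M x (μ ∘ₗ δ) := by
  induction x using TensorProduct.induction_on with
  | zero => simp
  | tmul w m => simp
  | add x y hx hy => simp only [map_add, LinearMap.add_apply, hx, hy]

theorem contr_lTensor {N : Type u} [AddCommGroup N] [Module A N] (f : M →ₗ[A] N)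
    (x : W ⊗[A] M) (l : Module.Dual A W) :
    contr W N (LinearMap.lTensor W f x) l = f (contr W M x l) := by
  induction x using TensorProduct.induction_on with
  | zero => simp
  | tmul w m => simp
  | add x y hx hy => simp only [map_add, LinearMap.add_apply, hx, hy]

theorem contr_eq :
    contr W M = dualTensorHom A (Module.Dual A W) M ∘ₗ
      LinearMap.rTensor M (Module.Dual.eval A W) := rfl

theorem contr_bijective [Module.Finite A W] [Module.Projective A W] :
    Function.Bijective (contr (A := A) W M) := by
  rw [contr_eq, LinearMap.coe_comp]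
  refine (dualTensorHom_bijective (R := A) (M := Module.Dual A W) (N := M)).comp ?_
  have : LinearMap.rTensor M (Module.Dual.eval A W) =
      (TensorProduct.congr (Module.evalEquiv A W) (LinearEquiv.refl A M)).toLinearMap := by
    ext w m
    simp
  rw [this]
  exact LinearEquiv.bijective _

end

end Helper19Corep
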