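import Mathlib
import Groth.Prelude.Def_ega3
import Groth.Agent.Lib.Helper3FlatCx
import Groth.Agent.Lib.Helper19CorepA

/-!
# `T_p` is corepresentable when the opcycles are finite projective
-/

set_option autoImplicit false
set_option linter.style.haveILetI false
universe u

open CategoryTheory CategoryTheory.Limits MonoidalCategory Opposite TensorProduct
open Groth.Agent.Lib.Helper3

namespace Helper19Corep

variable {A : Type u} [CommRing A] {ι : Type} {c : ComplexShape ι}
  (P : HomologicalComplex (ModuleCat.{u} A) c) (p : ι)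

/-- The differential out of the opcycles, as a linear map. -/
noncomputable abbrev del : P.opcycles p →ₗ[A] P.X (c.next p) := (P.fromOpcycles p (c.next p)).hom

/-- The corepresenting module. -/
abbrev QQ : Type u := Module.Dual A (P.opcycles p) ⧸ LinearMap.range (del P p).dualMap

variable (M : ModuleCat.{u} A)

/-- `T_p(M) → Hom(W^∨, M)`. -/
noncomputable def psi : CohIII.T P p M →ₗ[A] (Module.Dual A (P.opcycles p) →ₗ[A] M) :=
  contr (P.opcycles p) M ∘ₗ (jT P p M).hom

/-- `Hom(Q, M) → Hom(W^∨, M)`. -/
noncomputable def rho : (QQ P p →ₗ[A] M) →ₗ[A] (Module.Dual A (P.opcycles p) →ₗ[A] M) :=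
  LinearMap.lcomp A M (Submodule.mkQ (LinearMap.range (del P p).dualMap))

theorem rho_injective : Function.Injective (rho P p M) := by
  intro g g' h
  apply LinearMap.ext
  intro y
  obtain ⟨y, rfl⟩ := Submodule.mkQ_surjective _ y
  exact LinearMap.congr_fun h y

theorem range_rho : LinearMap.range (rho P p M) =
    {g : Module.Dual A (P.opcycles p) →ₗ[A] M |
      LinearMap.range (del P p).dualMap ≤ LinearMap.ker g} := by
  ext g
  simp only [LinearMap.coe_range, Set.mem_range, Set.mem_ofPred_eq]
  constructor
  · rintro ⟨h, rfl⟩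
    intro y hy
    show h (Submodule.mkQ _ y) = 0
    rw [Submodule.mkQ_apply, (Submodule.Quotient.mk_eq_zero _).2 hy, map_zero]
  · intro hg
    exact ⟨Submodule.liftQ _ g hg, by ext y; rfl⟩

section
variable [Module.Finite A (P.opcycles p)] [Module.Projective A (P.opcycles p)]

theorem psi_injective : Function.Injective (psi P p M) := by
  unfold psi
  rw [LinearMap.coe_comp]
  exact (contr_bijective (A := A)).1.comp ((ModuleCat.mono_iff_injective _).1 inferInstance)

variable [Module.Finite A (P.X (c.next p))] [Module.Projective A (P.X (c.next p))]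

theorem range_psi : (LinearMap.range (psi P p M) : Set _) =
    {g : Module.Dual A (P.opcycles p) →ₗ[A] M |
      LinearMap.range (del P p).dualMap ≤ LinearMap.ker g} := by
  ext g
  simp only [LinearMap.coe_range, Set.mem_range, Set.mem_ofPred_eq]
  constructor
  · rintro ⟨t, rfl⟩
    rintro _ ⟨μ, rfl⟩
    show contr (P.opcycles p) M ((jT P p M).hom t) ((del P p).dualMap μ) = 0
    have h0 : (P.fromOpcycles p (c.next p) ▷ M).hom ((jT P p M).hom t) = 0 := by
      have := jT_comp_fromOpcycles P p M (c.next p)
      exact congrArg (fun φ => φ.hom t) this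
    have h1 := contr_rTensor (M := M) (del P p) ((jT P p M).hom t) μ
    rw [show LinearMap.rTensor M (del P p) ((jT P p M).hom t) = 0 from h0] at h1
    rw [map_zero, LinearMap.zero_apply] at h1
    exact h1.symm
  · intro hg
    obtain ⟨x, rfl⟩ := (contr_bijective (A := A) (W := P.opcycles p) (M := M)).2 g
    have hx : (P.fromOpcycles p (c.next p) ▷ M).hom x = 0 := by
      apply (contr_bijective (A := A) (W := P.X (c.next p)) (M := M)).1
      rw [map_zero]
      ext μ
      show contr (P.X (c.next p)) M (LinearMap.rTensor M (del P p) x) μ = 0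
      rw [contr_rTensor]
      exact hg ⟨μ, rfl⟩
    obtain ⟨t, ht⟩ := exists_jT_eq P p M x hx
    exact ⟨t, by show contr _ _ ((jT P p M).hom t) = _; rw [ht]⟩

/-- The equivalence `Hom(Q, M) ≃ T_p(M)`. -/
noncomputable def eqv : (QQ P p →ₗ[A] M) ≃ₗ[A] CohIII.T P p M :=
  (LinearEquiv.ofInjective (rho P p M) (rho_injective P p M)) ≪≫ₗ
    LinearEquiv.ofEq _ _ (SetLike.coe_injective ((range_rho P p M).trans (range_psi P p M).symm)) ≪≫ₗ
    (LinearEquiv.ofInjective (psi P p M) (psi_injective P p M)).symm

theorem psi_eqv (g : QQ P p →ₗ[A] M) : psi P p M (eqv P p M g) = rho P p M g := by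
  unfold eqv
  simp only [LinearEquiv.trans_apply]
  have := LinearEquiv.apply_symm_apply (LinearEquiv.ofInjective (psi P p M) (psi_injective P p M))
    (LinearEquiv.ofEq _ _ (SetLike.coe_injective ((range_rho P p M).trans (range_psi P p M).symm))
      (LinearEquiv.ofInjective (rho P p M) (rho_injective P p M) g))
  exact congrArg Subtype.val this

theorem eqv_naturality {M N : ModuleCat.{u} A} (f : M ⟶ N) (g : QQ P p →ₗ[A] M) :
    ((CohIII.TFun P p).map f).hom (eqv P p M g) = eqv P p N (f.hom ∘ₗ g) := by
  apply psi_injective P p N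
  rw [psi_eqv]
  show contr _ _ ((jT P p N).hom (((CohIII.TFun P p).map f).hom (eqv P p M g))) = _
  have h1 : (jT P p N).hom (((CohIII.TFun P p).map f).hom (eqv P p M g)) =
      (P.opcycles p ◁ f).hom ((jT P p M).hom (eqv P p M g)) := by
    have := jT_naturality P p f
    exact congrArg (fun φ => φ.hom (eqv P p M g)) this
  rw [h1]
  ext l
  show contr _ _ (LinearMap.lTensor _ f.hom ((jT P p M).hom (eqv P p M g))) l = _
  rw [contr_lTensor]
  have h2 : contr _ _ ((jT P p M).hom (eqv P p M g)) = rho P p M g := psi_eqv P p M g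
  rw [h2]
  rfl

/-- The natural isomorphism `T_p ≅ Hom(Q, -)`. -/
noncomputable def corepIso :
    CohIII.TFun P p ≅ (linearCoyoneda A (ModuleCat.{u} A)).obj (op (ModuleCat.of A (QQ P p))) :=
  NatIso.ofComponents
    (fun M => ((eqv P p M).symm ≪≫ₗ
      (ModuleCat.homLinearEquiv (S := A) (M := ModuleCat.of A (QQ P p)) (N := M)).symm).toModuleIso)
    (by
      intro M N f
      ext t
      obtain ⟨g, rfl⟩ := (eqv P p M).surjective t
      show (ModuleCat.homLinearEquiv (S := A) (M := ModuleCat.of A (QQ P p)) (N := N)).symm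
        ((eqv P p N).symm (((CohIII.TFun P p).map f).hom (eqv P p M g))) =
        (ModuleCat.homLinearEquiv (S := A) (M := ModuleCat.of A (QQ P p)) (N := M)).symm
          ((eqv P p M).symm (eqv P p M g)) ≫ f
      rw [eqv_naturality, LinearEquiv.symm_apply_apply, LinearEquiv.symm_apply_apply]
      rfl)

end

end Helper19Corep
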