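import Mathlib
import Groth.Prelude.Def_ega3
import Groth.Agent.Lib.Helper3FlatCx
import Groth.Agent.Lib.Helper19CorepB

/-!
# A module corepresenting `T_p` is finitely generated
-/

set_option autoImplicit false
set_option linter.style.haveILetI false
universe u

open CategoryTheory CategoryTheory.Limits MonoidalCategory Opposite TensorProduct
open Groth.Agent.Lib.Helper3

namespace Helper19Corep

variable {A : Type u} [CommRing A] {ι : Type} {c : ComplexShape ι}
  (P : HomologicalComplex (ModuleCat.{u} A) c) (p : ι)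

theorem finite_of_corep [Module.Flat A (P.X (c.next p))] (Q' : ModuleCat.{u} A)
    (α : CohIII.TFun P p ≅ (linearCoyoneda A (ModuleCat.{u} A)).obj (op Q')) :
    Module.Finite A Q' := by
  -- the universal element
  let t : CohIII.T P p Q' := (α.inv.app Q').hom (𝟙 Q')
  let x : (P.opcycles p ⊗ Q' : ModuleCat.{u} A) := (jT P p Q').hom t
  obtain ⟨Q'', hfin, hx⟩ := TensorProduct.exists_finite_submodule_right_of_setFinite
    (R := A) (M := P.opcycles p) (N := Q') {x} (Set.finite_singleton x)
  obtain ⟨x', hx'⟩ := hx (Set.mem_singleton x)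
  let ιQ : ModuleCat.of A Q'' ⟶ Q' := ModuleCat.ofHom Q''.subtype
  have hx'2 : (P.opcycles p ◁ ιQ).hom x' = x := hx'
  -- `x'` is killed by the differential
  have h0 : (P.fromOpcycles p (c.next p) ▷ Q').hom x = 0 := by
    have := jT_comp_fromOpcycles P p Q' (c.next p)
    exact congrArg (fun φ => φ.hom t) this
  have hinj : Function.Injective (P.X (c.next p) ◁ ιQ).hom := by
    show Function.Injective (LinearMap.lTensor (P.X (c.next p)) Q''.subtype)
    exact Module.Flat.lTensor_preserves_injective_linearMap _ Q''.injective_subtype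
  have h1 : (P.fromOpcycles p (c.next p) ▷ ModuleCat.of A Q'').hom x' = 0 := by
    apply hinj
    rw [map_zero]
    have hex : (P.fromOpcycles p (c.next p) ▷ ModuleCat.of A Q'') ≫ (P.X (c.next p) ◁ ιQ) =
        (P.opcycles p ◁ ιQ) ≫ (P.fromOpcycles p (c.next p) ▷ Q') :=
      (whisker_exchange (P.fromOpcycles p (c.next p)) ιQ).symm
    have := congrArg (fun φ => φ.hom x') hex
    simp only [ModuleCat.hom_comp, LinearMap.comp_apply] at this
    rw [this, hx'2, h0]
  obtain ⟨t', ht'⟩ := exists_jT_eq P p (ModuleCat.of A Q'') x' h1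
  have ht : ((CohIII.TFun P p).map ιQ).hom t' = t := by
    apply (ModuleCat.mono_iff_injective (jT P p Q')).1 inferInstance
    have h5 : (jT P p Q').hom (((CohIII.TFun P p).map ιQ).hom t') =
        (P.opcycles p ◁ ιQ).hom ((jT P p (ModuleCat.of A Q'')).hom t') :=
      congrArg (fun φ => φ.hom t') (jT_naturality P p ιQ)
    refine h5.trans ?_
    rw [ht']
    exact hx'2
  -- the retraction
  let g : Q' ⟶ ModuleCat.of A Q'' := (α.hom.app (ModuleCat.of A Q'')).hom t'
  have hg : g ≫ ιQ = 𝟙 Q' := by
    have hnat := α.hom.naturality ιQ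
    have h2 := congrArg (fun φ => φ.hom t') hnat
    simp only [ModuleCat.hom_comp, LinearMap.comp_apply] at h2
    rw [ht] at h2
    have h3 : (α.hom.app Q').hom t = 𝟙 Q' := by
      show (α.hom.app Q').hom ((α.inv.app Q').hom (𝟙 Q')) = 𝟙 Q'
      have := congrArg (fun φ => φ.hom (𝟙 Q')) (α.inv_hom_id_app Q')
      simpa using this
    rw [h3] at h2
    exact h2.symm
  have hsurj : Function.Surjective Q''.subtype := by
    intro y
    refine ⟨g.hom y, ?_⟩
    have := congrArg (fun φ => φ.hom y) hg
    simp only [ModuleCat.hom_comp, LinearMap.comp_apply, ModuleCat.hom_id, LinearMap.id_apply] at this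
    exact this
  haveI := hfin
  exact Module.Finite.of_surjective Q''.subtype hsurj

end Helper19Corep
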