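import Mathlib.AlgebraicTopology.SimplicialObject.Homotopy
import Mathlib.AlgebraicTopology.SimplicialObject.Coskeletal
import Mathlib.AlgebraicTopology.SimplexCategory.ToMkOne
import Mathlib.CategoryTheory.Functor.KanExtension.Pointwise
import Mathlib.CategoryTheory.Limits.Shapes.FiniteLimits
import Mathlib.Data.Finite.Sigma

set_option autoImplicit false
set_option linter.style.haveILetI false

universe v u

open CategoryTheory Limits Opposite Simplicial SimplexCategory

namespace Groth.Agent.Lib.Helper19.CoskHtpy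

/-- the structured arrow category computing the coskeleton in degree `m` -/
abbrev SA (n m : ℕ) := StructuredArrow (op ⦋m⦌) (Truncated.inclusion n).op

instance finite_SA (n m : ℕ) : Finite (SA n m) := by
  let φ : (Σ q : Fin (n + 1), (⦋q.val⦌ ⟶ ⦋m⦌)) → SA n m := fun x =>
    StructuredArrow.mk (Y := op (⟨⦋x.1.val⦌, by simp; omega⟩ : Truncated n)) x.2.op
  apply Finite.of_surjective φ
  rintro ⟨⟨⟨⟩⟩, ⟨⟨x, hx⟩⟩, f⟩
  exact ⟨⟨⟨x.len, by omega⟩, f.unop⟩, rfl⟩

instance finite_SA_hom (n m : ℕ) (X Y : SA n m) : Finite (X ⟶ Y) := by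
  apply Finite.of_injective (fun f : X ⟶ Y => f.right.unop.hom)
  intro f g h
  apply StructuredArrow.ext
  apply Quiver.Hom.unop_inj
  exact ObjectProperty.hom_ext _ h

noncomputable instance finCategory_SA (n m : ℕ) : FinCategory (SA n m) where
  fintypeObj := Fintype.ofFinite _
  fintypeHom _ _ := Fintype.ofFinite _

variable {E : Type u} [Category.{v} E] [HasFiniteLimits E]

instance hasPointwise (n : ℕ) (F : (SimplexCategory.Truncated n)ᵒᵖ ⥤ E) :
    (Truncated.inclusion n).op.HasPointwiseRightKanExtension F := by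
  intro Y
  have : HasLimitsOfShape (SA n Y.unop.len) E := hasLimitsOfShape_of_hasFiniteLimits _ _
  exact inferInstanceAs (HasLimit (StructuredArrow.proj (op ⦋Y.unop.len⦌)
    (Truncated.inclusion n).op ⋙ F))

end Groth.Agent.Lib.Helper19.CoskHtpy
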