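import Mathlib.AlgebraicTopology.SimplicialObject.Homotopy
import Mathlib.AlgebraicTopology.SimplexCategory.ToMkOne

set_option autoImplicit false
set_option linter.style.haveILetI false

universe v u

open CategoryTheory Limits Opposite Simplicial SimplexCategory

namespace Groth.Agent.Lib.Helper19.CoskHtpy

lemma toMk₁_zero (p : ℕ) : toMk₁ (0 : Fin (p + 2)) = (⦋p⦌ : SimplexCategory).const ⦋1⦌ 1 := by
  refine ConcreteCategory.hom_ext _ _ (fun k ↦ ?_)
  change toMk₁ (0 : Fin (p + 2)) k = 1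
  rw [toMk₁_apply_eq_one_iff]
  exact Fin.zero_le _

lemma toMk₁_last (p : ℕ) : toMk₁ (Fin.last (p + 1)) = (⦋p⦌ : SimplexCategory).const ⦋1⦌ 0 := by
  refine ConcreteCategory.hom_ext _ _ (fun k ↦ ?_)
  change toMk₁ (Fin.last (p + 1)) k = 0
  rw [toMk₁_apply_eq_zero_iff]
  exact Fin.castSucc_lt_last k

variable {E : Type u} [Category.{v} E]

/-- a family of maps indexed by the simplices of `Δ[1]`, natural in the simplex: this is the
same as a morphism `U ⊗ Δ[1] ⟶ W` when coproducts exist. -/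
structure NatFamily (U W : SimplicialObject E) where
  /-- the components -/
  H : ∀ {Δ : SimplexCategory} (_ : Δ ⟶ ⦋1⦌), U.obj (op Δ) ⟶ W.obj (op Δ)
  nat : ∀ {Δ Δ' : SimplexCategory} (χ : Δ' ⟶ Δ) (α : Δ ⟶ ⦋1⦌),
    U.map χ.op ≫ H (χ ≫ α) = H α ≫ W.map χ.op

namespace NatFamily

variable {U W : SimplicialObject E} (F : NatFamily U W)

@[reassoc]
lemma H_comp_δ {p : ℕ} (α : ⦋p + 1⦌ ⟶ ⦋1⦌) (i : Fin (p + 2)) :
    F.H α ≫ W.δ i = U.δ i ≫ F.H (SimplexCategory.δ i ≫ α) :=
  (F.nat (SimplexCategory.δ i) α).symm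

@[reassoc]
lemma H_comp_σ {p : ℕ} (α : ⦋p⦌ ⟶ ⦋1⦌) (i : Fin (p + 1)) :
    F.H α ≫ W.σ i = U.σ i ≫ F.H (SimplexCategory.σ i ≫ α) :=
  (F.nat (SimplexCategory.σ i) α).symm

/-- the components of the homotopy -/
def h {p : ℕ} (i : Fin (p + 1)) : U _⦋p⦌ ⟶ W _⦋p + 1⦌ :=
  U.σ i ≫ F.H (toMk₁ i.succ.castSucc)

/-- the combinatorial homotopy attached to a natural family -/
def homotopy (a b : U ⟶ W) (ha : ∀ p : ℕ, a.app (op ⦋p⦌) = F.H ((⦋p⦌ : SimplexCategory).const ⦋1⦌ 0))
    (hb : ∀ p : ℕ, b.app (op ⦋p⦌) = F.H ((⦋p⦌ : SimplexCategory).const ⦋1⦌ 1)) :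
    SimplicialObject.Homotopy a b where
  h i := F.h i
  h_zero_comp_δ_zero p := by
    rw [h, Category.assoc, H_comp_δ, hb]
    have h1 : SimplexCategory.δ (0 : Fin (p + 2)) ≫ toMk₁ (0 : Fin (p + 1)).succ.castSucc =
        (⦋p⦌ : SimplexCategory).const ⦋1⦌ 1 := by
      rw [δ_comp_toMk₁_of_lt _ _ (by simp), ← toMk₁_zero]
      congr 1
    rw [h1]
    have h2 := U.δ_comp_σ_self (i := (0 : Fin (p + 1)))
    rw [Fin.castSucc_zero] at h2
    rw [reassoc_of% h2]
  h_last_comp_δ_last p := by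
    rw [h, Category.assoc, H_comp_δ, ha]
    have h1 : SimplexCategory.δ (Fin.last (p + 1)) ≫ toMk₁ (Fin.last p).succ.castSucc =
        (⦋p⦌ : SimplexCategory).const ⦋1⦌ 0 := by
      rw [δ_comp_toMk₁_of_le _ _ (by simp), ← toMk₁_last]
      congr 1
    rw [h1]
    have h2 := U.δ_comp_σ_succ (i := Fin.last p)
    rw [Fin.succ_last] at h2
    rw [reassoc_of% h2]
  h_succ_comp_δ_castSucc_of_lt {p} i j hij := by
    rw [h, h, Category.assoc, H_comp_δ, ← Category.assoc, U.δ_comp_σ_of_le hij, Category.assoc]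
    have h1 : SimplexCategory.δ i.castSucc ≫ toMk₁ j.succ.succ.castSucc =
        toMk₁ j.succ.castSucc := by
      have hlt : i.castSucc.castSucc < j.succ.succ.castSucc := by
        rw [Fin.lt_def]
        have := Fin.le_def.mp hij
        simp only [Fin.val_castSucc, Fin.val_succ] at this ⊢
        omega
      rw [δ_comp_toMk₁_of_lt _ _ hlt]
      congr 1
    rw [h1]
  h_succ_comp_δ_castSucc_succ {p} j := by
    rw [h, h, Category.assoc, Category.assoc, H_comp_δ, H_comp_δ]
    have h1 : SimplexCategory.δ j.castSucc.succ ≫ toMk₁ j.succ.succ.castSucc =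
        toMk₁ j.succ.castSucc := by
      have hlt : j.castSucc.succ.castSucc < j.succ.succ.castSucc := by
        rw [Fin.lt_def]
        simp only [Fin.val_castSucc, Fin.val_succ]
        omega
      rw [δ_comp_toMk₁_of_lt _ _ hlt]
      congr 1
    have h2 : SimplexCategory.δ j.castSucc.succ ≫ toMk₁ j.castSucc.succ.castSucc =
        toMk₁ j.succ.castSucc := by
      have hle : j.castSucc.succ.castSucc ≤ j.castSucc.succ.castSucc := le_refl _
      rw [δ_comp_toMk₁_of_le _ _ hle]
      congr 1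
    rw [h1, h2]
    have h3 := U.δ_comp_σ_self (i := j.succ)
    rw [← Fin.succ_castSucc] at h3
    have h4 := U.δ_comp_σ_succ (i := j.castSucc)
    rw [reassoc_of% h3, reassoc_of% h4]
  h_castSucc_comp_δ_succ_of_lt {p} i j hji := by
    rw [h, h, Category.assoc, H_comp_δ, ← Category.assoc, U.δ_comp_σ_of_gt hji, Category.assoc]
    have h1 : SimplexCategory.δ i.succ ≫ toMk₁ j.castSucc.succ.castSucc =
        toMk₁ j.succ.castSucc := by
      have hle : j.castSucc.succ.castSucc ≤ i.succ.castSucc := by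
        rw [Fin.le_def]
        have := Fin.lt_def.mp hji
        simp only [Fin.val_castSucc, Fin.val_succ] at this ⊢
        omega
      rw [δ_comp_toMk₁_of_le _ _ hle]
      congr 1
    rw [h1]
  h_comp_σ_castSucc_of_le {p} i j hij := by
    rw [h, h, Category.assoc, H_comp_σ, ← Category.assoc, U.σ_comp_σ hij, Category.assoc]
    have h1 : SimplexCategory.σ i.castSucc ≫ toMk₁ j.succ.castSucc =
        toMk₁ j.succ.succ.castSucc := by
      have hlt : i.castSucc.castSucc < j.succ.castSucc := by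
        rw [Fin.lt_def]
        have := Fin.le_def.mp hij
        simp only [Fin.val_castSucc, Fin.val_succ] at this ⊢
        omega
      rw [σ_comp_toMk₁_of_lt _ _ hlt]
      congr 1
    rw [h1]
  h_comp_σ_succ_of_lt {p} i j hji := by
    rw [h, h, Category.assoc, H_comp_σ, ← Category.assoc, ← U.σ_comp_σ hji, Category.assoc]
    have h1 : SimplexCategory.σ i.succ ≫ toMk₁ j.succ.castSucc =
        toMk₁ j.castSucc.succ.castSucc := by
      have hle : j.succ.castSucc ≤ i.succ.castSucc := by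
        rw [Fin.le_def]
        have := Fin.le_def.mp hji
        simp only [Fin.val_castSucc, Fin.val_succ] at this ⊢
        omega
      rw [σ_comp_toMk₁_of_le _ _ hle]
      congr 1
    rw [h1]

end NatFamily

end Groth.Agent.Lib.Helper19.CoskHtpy
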