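import Groth.Agent.Lib.Helper19CoskHtpyA
import Groth.Agent.Lib.Helper19CoskHtpyB

set_option autoImplicit false
set_option linter.style.haveILetI false

universe v u

open CategoryTheory Limits Opposite Simplicial SimplexCategory

namespace Groth.Agent.Lib.Helper19.CoskHtpy

variable {E : Type u} [Category.{v} E]

section Cmap

variable {X X' : SimplicialObject E} (f g : X ⟶ X')

/-- a map to `⦋1⦌` is constant with value `1` -/
def AllOne {Δ : SimplexCategory} (β : Δ ⟶ ⦋1⦌) : Prop := ∀ j, β.toOrderHom j = 1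

lemma allOne_comp {Δ Δ' : SimplexCategory} (ψ : Δ' ⟶ Δ) (β : Δ ⟶ ⦋1⦌) (h : AllOne β) :
    AllOne (ψ ≫ β) := fun j => h (ψ.toOrderHom j)

lemma allOne_const_one (Δ : SimplexCategory) : AllOne (Δ.const ⦋1⦌ 1) := fun _ => rfl

lemma not_allOne_const_zero (Δ : SimplexCategory) : ¬ AllOne (Δ.const ⦋1⦌ 0) := by
  intro h
  have := h 0
  rw [const_apply] at this
  exact absurd this (by decide)

open Classical in
/-- the map `g` on the simplices lying over the vertex `1`, the map `f` elsewhere -/
noncomputable def cmap {Δ : SimplexCategory} (β : Δ ⟶ ⦋1⦌) : X.obj (op Δ) ⟶ X'.obj (op Δ) :=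
  if AllOne β then g.app (op Δ) else f.app (op Δ)

lemma cmap_of_allOne {Δ : SimplexCategory} (β : Δ ⟶ ⦋1⦌) (h : AllOne β) :
    cmap f g β = g.app (op Δ) := if_pos h

lemma cmap_of_not_allOne {Δ : SimplexCategory} (β : Δ ⟶ ⦋1⦌) (h : ¬ AllOne β) :
    cmap f g β = f.app (op Δ) := if_neg h

variable {f g}

lemma cmap_comp (n : ℕ)
    (hfg : ∀ p : ℕ, p < n → f.app (op ⦋p⦌) = g.app (op ⦋p⦌))
    {q q' : ℕ} (hq : q ≤ n) (ψ : ⦋q'⦌ ⟶ ⦋q⦌) (β : ⦋q⦌ ⟶ ⦋1⦌) :
    cmap f g β ≫ X'.map ψ.op = X.map ψ.op ≫ cmap f g (ψ ≫ β) := by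
  by_cases h1 : AllOne β
  · rw [cmap_of_allOne f g β h1, cmap_of_allOne f g _ (allOne_comp ψ β h1)]
    exact (g.naturality ψ.op).symm
  · rw [cmap_of_not_allOne f g β h1]
    by_cases h2 : AllOne (ψ ≫ β)
    · rw [cmap_of_allOne f g _ h2, g.naturality ψ.op]
      -- `ψ` is not surjective
      have hns : ¬ Function.Surjective ψ.toOrderHom := by
        intro hs
        apply h1
        intro j
        obtain ⟨k, rfl⟩ := hs j
        exact h2 k
      cases q with
      | zero =>
        exfalso
        apply hns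
        intro j
        refine ⟨0, ?_⟩
        have hj : ∀ a b : Fin 1, a = b := fun a b => Subsingleton.elim a b
        exact hj _ _
      | succ q0 =>
        obtain ⟨i, ψ', rfl⟩ := eq_comp_δ_of_not_surjective ψ hns
        have e : f.app (op ⦋q0⦌) = g.app (op ⦋q0⦌) := hfg q0 (by omega)
        rw [op_comp, X'.map_comp, ← Category.assoc, ← Category.assoc]
        congr 1
        rw [← f.naturality, ← g.naturality, e]
    · rw [cmap_of_not_allOne f g _ h2]
      exact (f.naturality ψ.op).symm

end Cmap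

lemma cmap_comp' {X X' : SimplicialObject E} {f g : X ⟶ X'} (n : ℕ)
    (hfg : ∀ p : ℕ, p < n → f.app (op ⦋p⦌) = g.app (op ⦋p⦌))
    {Δ Δ' : SimplexCategory} (hq : Δ.len ≤ n) (ψ : Δ' ⟶ Δ) (β : Δ ⟶ ⦋1⦌) :
    cmap f g β ≫ X'.map ψ.op = X.map ψ.op ≫ cmap f g (ψ ≫ β) := by
  induction Δ using SimplexCategory.rec with | _ q
  induction Δ' using SimplexCategory.rec with | _ q'
  exact cmap_comp n hfg hq ψ β

section Cosk

variable [HasFiniteLimits E] (n : ℕ)
  [∀ (F : (SimplexCategory.Truncated n)ᵒᵖ ⥤ E),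
    (Truncated.inclusion n).op.HasRightKanExtension F]

/-- the right extension given by the coskeleton -/
noncomputable abbrev coskExt (X : SimplicialObject E) :
    Functor.RightExtension (Truncated.inclusion n).op ((SimplicialObject.truncation n).obj X) :=
  Functor.RightExtension.mk ((SimplicialObject.cosk n).obj X)
    ((SimplicialObject.coskAdj n).counit.app ((SimplicialObject.truncation n).obj X))

/-- the coskeleton is a pointwise right Kan extension -/
noncomputable def isPW (X : SimplicialObject E) : (coskExt n X).IsPointwiseRightKanExtension :=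
  Functor.isPointwiseRightKanExtensionOfIsRightKanExtension _ _

variable {X X' : SimplicialObject E} (f g : X ⟶ X')

lemma cosk_map_π (Δ : SimplexCategory)
    (s : StructuredArrow (op Δ) (Truncated.inclusion n).op) :
    ((SimplicialObject.cosk n).map f).app (op Δ) ≫ ((coskExt n X').coneAt (op Δ)).π.app s =
      ((coskExt n X).coneAt (op Δ)).π.app s ≫ f.app _ := by
  have h1 := ((SimplicialObject.cosk n).map f).naturality s.hom
  have h2 := congr_app ((SimplicialObject.coskAdj n).counit.naturality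
    ((SimplicialObject.truncation n).map f)) s.right
  rw [NatTrans.comp_app, NatTrans.comp_app] at h2
  change ((SimplicialObject.cosk n).map f).app (op Δ) ≫
      ((SimplicialObject.cosk n).obj X').map s.hom ≫
        ((SimplicialObject.coskAdj n).counit.app ((SimplicialObject.truncation n).obj X')).app
          s.right =
    (((SimplicialObject.cosk n).obj X).map s.hom ≫
        ((SimplicialObject.coskAdj n).counit.app ((SimplicialObject.truncation n).obj X)).app
          s.right) ≫ f.app _
  refine (Category.assoc _ _ _).symm.trans ?_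
  refine (congrArg (· ≫ ((SimplicialObject.coskAdj n).counit.app
    ((SimplicialObject.truncation n).obj X')).app s.right) h1.symm).trans ?_
  refine (Category.assoc _ _ _).trans ?_
  refine (congrArg (((SimplicialObject.cosk n).obj X).map s.hom ≫ ·) h2).trans ?_
  exact (Category.assoc _ _ _).symm

/-- the projections of the coskeleton -/
noncomputable def pr (X : SimplicialObject E) (Δ : SimplexCategory)
    (s : StructuredArrow (op Δ) (Truncated.inclusion n).op) :
    ((SimplicialObject.cosk n).obj X).obj (op Δ) ⟶ X.obj (op s.right.unop.obj) :=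
  ((coskExt n X).coneAt (op Δ)).π.app s

lemma pr_naturality (X : SimplicialObject E) (Δ : SimplexCategory)
    {s s' : StructuredArrow (op Δ) (Truncated.inclusion n).op} (t : s ⟶ s') :
    pr n X Δ s ≫ X.map (t.right.unop.hom).op = pr n X Δ s' :=
  ((coskExt n X).coneAt (op Δ)).w t

lemma pr_eq (X : SimplicialObject E) (Δ : SimplexCategory)
    (s : StructuredArrow (op Δ) (Truncated.inclusion n).op) :
    pr n X Δ s = ((SimplicialObject.cosk n).obj X).map s.hom ≫
      ((SimplicialObject.coskAdj n).counit.app ((SimplicialObject.truncation n).obj X)).app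
        s.right := rfl

lemma cosk_map_pr (Δ : SimplexCategory)
    (s : StructuredArrow (op Δ) (Truncated.inclusion n).op) :
    ((SimplicialObject.cosk n).map f).app (op Δ) ≫ pr n X' Δ s = pr n X Δ s ≫ f.app _ :=
  cosk_map_π n f Δ s

lemma hom_ext_pr (X : SimplicialObject E) (Δ : SimplexCategory) {Z : E}
    {a b : Z ⟶ ((SimplicialObject.cosk n).obj X).obj (op Δ)}
    (h : ∀ s : StructuredArrow (op Δ) (Truncated.inclusion n).op,
      a ≫ pr n X Δ s = b ≫ pr n X Δ s) : a = b :=
  (isPW n X (op Δ)).hom_ext h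

variable {f g}

lemma hom_unop_eq {Δ : SimplexCategory}
    {s s' : StructuredArrow (op Δ) (Truncated.inclusion n).op} (t : s ⟶ s') :
    s'.hom.unop = t.right.unop.hom ≫ s.hom.unop := by
  have := StructuredArrow.w t
  rw [← this]
  rfl

/-- the cone defining the homotopy -/
noncomputable def hCone (hfg : ∀ p : ℕ, p < n → f.app (op ⦋p⦌) = g.app (op ⦋p⦌))
    (Δ : SimplexCategory) (α : Δ ⟶ ⦋1⦌) :
    Cone (StructuredArrow.proj (op Δ) (Truncated.inclusion n).op ⋙
      (SimplicialObject.truncation n).obj X') where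
  pt := ((SimplicialObject.cosk n).obj X).obj (op Δ)
  π :=
    { app := fun s => pr n X Δ s ≫ cmap f g (s.hom.unop ≫ α)
      naturality := by
        intro s s' t
        refine (Category.id_comp _).trans ?_
        have h1 := cmap_comp' (f := f) (g := g) n hfg (Δ := s.right.unop.obj) s.right.unop.property
          t.right.unop.hom (s.hom.unop ≫ α)
        have h2 : s'.hom.unop ≫ α = t.right.unop.hom ≫ s.hom.unop ≫ α := by
          rw [hom_unop_eq n t, Category.assoc]
        refine Eq.trans ?_ (Category.assoc _ _ _).symm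
        refine Eq.trans ?_ (congrArg (pr n X Δ s ≫ ·) h1.symm)
        refine Eq.trans ?_ (Category.assoc _ _ _)
        rw [pr_naturality n X Δ t, h2] }

/-- the components of the natural family -/
noncomputable def Hfam (hfg : ∀ p : ℕ, p < n → f.app (op ⦋p⦌) = g.app (op ⦋p⦌))
    {Δ : SimplexCategory} (α : Δ ⟶ ⦋1⦌) :
    ((SimplicialObject.cosk n).obj X).obj (op Δ) ⟶ ((SimplicialObject.cosk n).obj X').obj (op Δ) :=
  (isPW n X' (op Δ)).lift (hCone n hfg Δ α)

lemma Hfam_pr (hfg : ∀ p : ℕ, p < n → f.app (op ⦋p⦌) = g.app (op ⦋p⦌))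
    {Δ : SimplexCategory} (α : Δ ⟶ ⦋1⦌)
    (s : StructuredArrow (op Δ) (Truncated.inclusion n).op) :
    Hfam n hfg α ≫ pr n X' Δ s = pr n X Δ s ≫ cmap f g (s.hom.unop ≫ α) :=
  (isPW n X' (op Δ)).fac (hCone n hfg Δ α) s

lemma map_pr (X : SimplicialObject E) {Δ Δ' : SimplexCategory} (χ : Δ' ⟶ Δ)
    (s' : StructuredArrow (op Δ') (Truncated.inclusion n).op) :
    ((SimplicialObject.cosk n).obj X).map χ.op ≫ pr n X Δ' s' =
      pr n X Δ (StructuredArrow.mk (χ.op ≫ s'.hom)) := by
  rw [pr_eq, pr_eq]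
  refine (Category.assoc _ _ _).symm.trans ?_
  rw [← Functor.map_comp]
  rfl

/-- the natural family giving the homotopy -/
noncomputable def coskFamily (hfg : ∀ p : ℕ, p < n → f.app (op ⦋p⦌) = g.app (op ⦋p⦌)) :
    NatFamily ((SimplicialObject.cosk n).obj X) ((SimplicialObject.cosk n).obj X') where
  H α := Hfam n hfg α
  nat {Δ Δ'} χ α := by
    apply hom_ext_pr n X' Δ'
    intro s'
    have e1 : (((SimplicialObject.cosk n).obj X).map χ.op ≫ Hfam n hfg (χ ≫ α)) ≫ pr n X' Δ' s' =
        pr n X Δ (StructuredArrow.mk (χ.op ≫ s'.hom)) ≫ cmap f g (s'.hom.unop ≫ χ ≫ α) := by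
      refine (Category.assoc _ _ _).trans ?_
      rw [Hfam_pr]
      refine (Category.assoc _ _ _).symm.trans ?_
      rw [map_pr]
    have e2 : (Hfam n hfg α ≫ ((SimplicialObject.cosk n).obj X').map χ.op) ≫ pr n X' Δ' s' =
        pr n X Δ (StructuredArrow.mk (χ.op ≫ s'.hom)) ≫ cmap f g (s'.hom.unop ≫ χ ≫ α) := by
      refine (Category.assoc _ _ _).trans ?_
      rw [map_pr, Hfam_pr]
      congr 2
    exact e1.trans e2.symm

theorem cosk_homotopy (hfg : ∀ p : ℕ, p < n → f.app (op ⦋p⦌) = g.app (op ⦋p⦌)) :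
    Nonempty (SimplicialObject.Homotopy ((SimplicialObject.cosk n).map f)
      ((SimplicialObject.cosk n).map g)) := by
  refine ⟨(coskFamily n hfg).homotopy _ _ ?_ ?_⟩
  · intro p
    apply hom_ext_pr n X' ⦋p⦌
    intro s
    change _ = Hfam n hfg _ ≫ _
    rw [cosk_map_pr, Hfam_pr, cmap_of_not_allOne]
    intro h
    have h0 := h 0
    have h1 : (Hom.toOrderHom (s.hom.unop ≫ (⦋p⦌ : SimplexCategory).const ⦋1⦌ 0)) 0 = 0 := rfl
    rw [h1] at h0
    exact absurd h0 (by decide)
  · intro p
    apply hom_ext_pr n X' ⦋p⦌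
    intro s
    change _ = Hfam n hfg _ ≫ _
    rw [cosk_map_pr, Hfam_pr, cmap_of_allOne]
    intro j
    rfl

end Cosk

end Groth.Agent.Lib.Helper19.CoskHtpy
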