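import Groth.Agent.Lib.Helper19KosPres
import Groth.Agent.S12286
import Groth.Agent.S12289

/-!
# Independence of `T⁰`, `T¹`, `T²` of the presentation
-/

set_option autoImplicit false
set_option linter.unusedSectionVars false
set_option linter.style.haveILetI false
universe u v w t m

open TensorProduct

namespace Groth.Agent.Lib.Helper19.CotTIndep

open Groth.Agent.Lib.Helper19.Kos

section C1

variable {R : Type*} {S : Type*} [CommRing R] [CommRing S] [Algebra R S]

/-- `H¹(Hom(NL, M))` for an extension. -/
abbrev C1 (P : Algebra.Extension R S) (M : Type*) [AddCommGroup M] [Module S M] : Type _ :=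
  (P.Cotangent →ₗ[S] M) ⧸ LinearMap.range (LinearMap.lcomp S M P.cotangentComplex)

variable {P₁ P₂ : Algebra.Extension R S} {M : Type*} [AddCommGroup M] [Module S M]

/-- functoriality of `C1` -/
noncomputable def C1map (f : P₁.Hom P₂) : C1 P₂ M →ₗ[S] C1 P₁ M :=
  Submodule.mapQ _ _ (LinearMap.lcomp S M (Algebra.Extension.Cotangent.map f)) (by
    rintro _ ⟨ψ, rfl⟩
    refine ⟨ψ ∘ₗ Algebra.Extension.CotangentSpace.map f, ?_⟩
    ext x
    simp only [LinearMap.lcomp_apply', LinearMap.comp_apply]
    rw [Algebra.Extension.CotangentSpace.map_cotangentComplex])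

lemma C1map_mk (f : P₁.Hom P₂) (φ : P₂.Cotangent →ₗ[S] M) :
    C1map f (Submodule.Quotient.mk φ) =
      Submodule.Quotient.mk (φ ∘ₗ Algebra.Extension.Cotangent.map f) := rfl

lemma C1map_comp (f : P₁.Hom P₂) (g : P₂.Hom P₁) (x : C1 P₁ M) :
    C1map f (C1map g x) = x := by
  obtain ⟨φ, rfl⟩ := Submodule.Quotient.mk_surjective _ x
  rw [C1map_mk, C1map_mk, Submodule.Quotient.eq]
  refine ⟨φ ∘ₗ ((g.comp f).sub (.id P₁)), ?_⟩
  ext y
  have h1 := LinearMap.congr_fun (Algebra.Extension.Cotangent.map_sub_map (g.comp f) (.id P₁)) y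
  rw [LinearMap.sub_apply, Algebra.Extension.Cotangent.map_id, LinearMap.id_apply,
    LinearMap.comp_apply] at h1
  have h2 := LinearMap.congr_fun (Algebra.Extension.Cotangent.map_comp _ f g) y
  rw [LinearMap.comp_apply, LinearMap.restrictScalars_apply] at h2
  rw [h2] at h1
  show φ (((g.comp f).sub (.id P₁)) (P₁.cotangentComplex y)) =
    φ (Algebra.Extension.Cotangent.map g (Algebra.Extension.Cotangent.map f y)) - φ y
  rw [← h1, map_sub]

/-- `C1` is independent of the extension, given maps both ways -/
noncomputable def C1equiv (f : P₁.Hom P₂) (g : P₂.Hom P₁) : C1 P₁ M ≃ₗ[S] C1 P₂ M :=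
  { C1map g with
    invFun := C1map f
    left_inv := C1map_comp f g
    right_inv := C1map_comp g f }

end C1

variable {A B : Type u} [CommRing A] [CommRing B] [Algebra A B] {ι σ ι' σ' : Type w}
  (P : Algebra.Presentation A B ι σ) (P' : Algebra.Presentation A B ι' σ')
  (M : Type m) [AddCommGroup M] [Module B M]

/-- `T¹` in terms of the naive cotangent complex -/
noncomputable def T1equivC1 : CotT.T1 P M ≃ₗ[B] C1 P.toExtension M :=
  have h := Groth.Agent.S12289.result A B ι σ P M
  ((Submodule.quotEquivOfEq _ _ h.2.1.symm).trans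
    ((CotT.homToT1 P M).quotKerEquivOfSurjective h.2.2)).symm

theorem nonempty_T1_equiv : Nonempty (CotT.T1 P M ≃ₗ[B] CotT.T1 P' M) := by
  let f : P.toExtension.Hom P'.toExtension :=
    (Algebra.Generators.defaultHom P.toGenerators P'.toGenerators).toExtensionHom
  let g : P'.toExtension.Hom P.toExtension :=
    (Algebra.Generators.defaultHom P'.toGenerators P.toGenerators).toExtensionHom
  exact ⟨(T1equivC1 P M).trans ((C1equiv f g).trans (T1equivC1 P' M).symm)⟩

theorem nonempty_T0_equiv : Nonempty (CotT.T0 P M ≃ₗ[B] CotT.T0 P' M) := by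
  letI : Module A M := Module.compHom M (algebraMap A B)
  haveI : IsScalarTower A B M := IsScalarTower.of_compHom A B M
  let e := LinearEquiv.ofBijective (CotT.derToT0 P M) (Groth.Agent.S12286.result A B ι σ P M)
  let e' := LinearEquiv.ofBijective (CotT.derToT0 P' M) (Groth.Agent.S12286.result A B ι' σ' P' M)
  exact ⟨e.symm.trans e'⟩

lemma jm_span_of_presentation (z : P.toExtension.Ring) (hz : algebraMap P.toExtension.Ring B z = 0) :
    ∃ x, jm P.toExtension.Ring (CotT.rel P) x = z := by
  have h : z ∈ LinearMap.range (CotT.jmap P) := by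
    rw [CotT.range_jmap]; exact hz
  obtain ⟨x, hx⟩ := h
  exact ⟨x, hx⟩

theorem nonempty_T2_equiv_presentations : Nonempty (CotT.T2 P M ≃ₗ[B] CotT.T2 P' M) := by
  haveI : Algebra.FormallySmooth A P.toExtension.Ring :=
    inferInstanceAs (Algebra.FormallySmooth A (MvPolynomial ι A))
  haveI : Algebra.FormallySmooth A P'.toExtension.Ring :=
    inferInstanceAs (Algebra.FormallySmooth A (MvPolynomial ι' A))
  let h : P'.toExtension.Ring →ₐ[A] P.toExtension.Ring :=
    (Algebra.Generators.defaultHom P'.toGenerators P.toGenerators).toAlgHom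
  let h' : P.toExtension.Ring →ₐ[A] P'.toExtension.Ring :=
    (Algebra.Generators.defaultHom P.toGenerators P'.toGenerators).toAlgHom
  have hh : ∀ x, algebraMap P.toExtension.Ring B (h x) = algebraMap P'.toExtension.Ring B x :=
    fun x => by
      rw [CotT.algebraMap_toExtension, CotT.algebraMap_toExtension]
      exact Algebra.Generators.Hom.algebraMap_toAlgHom' _ x
  have hh' : ∀ x, algebraMap P'.toExtension.Ring B (h' x) = algebraMap P.toExtension.Ring B x :=
    fun x => by
      rw [CotT.algebraMap_toExtension, CotT.algebraMap_toExtension]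
      exact Algebra.Generators.Hom.algebraMap_toAlgHom' _ x
  obtain ⟨e⟩ := nonempty_T2_equiv_of_formallySmooth (CotT.algebraMap_rel P) (CotT.algebraMap_rel P')
    h hh h' hh' (jm_span_of_presentation P) (jm_span_of_presentation P') M
  exact ⟨(bridge P M).trans (e.trans (bridge P' M).symm)⟩

end Groth.Agent.Lib.Helper19.CotTIndep
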