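import Mathlib
import Groth.Prelude.Def_CotT

/-!
# The long exact sequence of the cotangent functors `T⁰, T¹, T²` in the module variable
-/

set_option autoImplicit false
universe u v w t m

namespace Groth.Agent.Lib.Helper19.CotTLES

open CotT Function

variable {A : Type u} {B : Type v} {ι : Type w} {σ : Type t}
variable [CommRing A] [CommRing B] [Algebra A B]
variable (P : Algebra.Presentation A B ι σ)
variable {M' M M'' : Type m} [AddCommGroup M'] [Module B M'] [AddCommGroup M] [Module B M]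
  [AddCommGroup M''] [Module B M'']
variable (f : M' →ₗ[B] M) (g : M →ₗ[B] M'')

instance : Module.Free B (L1 P) := Module.Free.of_basis (L1basis P)

section general

variable {X : Type*} [AddCommGroup X] [Module B X]

/-- post-composition -/
abbrev post (h : M' →ₗ[B] M) : (X →ₗ[B] M') →ₗ[B] (X →ₗ[B] M) := LinearMap.llcomp B X M' M h

omit [Algebra A B] in
lemma post_apply (h : M' →ₗ[B] M) (φ : X →ₗ[B] M') : post (X := X) h φ = h ∘ₗ φ := rfl

omit [Algebra A B] in
lemma post_injective (hf : Injective f) : Injective (post (X := X) f) := by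
  intro φ ψ h
  ext x
  exact hf (LinearMap.congr_fun h x)

omit [Algebra A B] in
lemma post_exact (hf : Injective f) (hfg : Exact f g) :
    Exact (post (X := X) f) (post (X := X) g) := by
  intro φ
  constructor
  · intro h
    have hmem : ∀ x, φ x ∈ LinearMap.range f := fun x =>
      (hfg (φ x)).mp (LinearMap.congr_fun h x)
    let e := LinearEquiv.ofInjective f hf
    refine ⟨e.symm.toLinearMap ∘ₗ φ.codRestrict (LinearMap.range f) hmem, ?_⟩
    ext x
    show f (e.symm ⟨φ x, hmem x⟩) = φ x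
    have := e.apply_symm_apply ⟨φ x, hmem x⟩
    exact congrArg Subtype.val this
  · rintro ⟨ψ, rfl⟩
    ext x
    exact hfg.apply_apply_eq_zero (ψ x)

omit [Algebra A B] in
lemma post_surjective [Module.Projective B X] (hg : Surjective g) :
    Surjective (post (X := X) g) := by
  intro φ
  obtain ⟨ψ, hψ⟩ := Module.projective_lifting_property g φ hg
  exact ⟨ψ, hψ⟩

end general

/-- `d₁*` with values in the cocycles. -/
noncomputable def i0 (N : Type m) [AddCommGroup N] [Module B N] :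
    (L0 P →ₗ[B] N) →ₗ[B] cocycles1 P N :=
  (d1Star P N).codRestrict (cocycles1 P N) (fun φ => by
    rw [LinearMap.mem_ker]
    exact LinearMap.congr_fun (d2Star_comp_d1Star P N) φ)

lemma i0_coe (N : Type m) [AddCommGroup N] [Module B N] (φ : L0 P →ₗ[B] N) :
    (i0 P N φ : L1 P →ₗ[B] N) = φ ∘ₗ d1 P := rfl

lemma cocycles1Map_coe {N N' : Type m} [AddCommGroup N] [Module B N] [AddCommGroup N']
    [Module B N'] (h : N →ₗ[B] N') (c : cocycles1 P N) :
    (cocycles1Map P h c : L1 P →ₗ[B] N') = h ∘ₗ (c : L1 P →ₗ[B] N) := rfl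

lemma cocycles1Map_injective (hf : Injective f) : Injective (cocycles1Map P f) := by
  intro c c' h
  apply Subtype.ext
  apply post_injective f hf
  exact congrArg Subtype.val h

lemma cocycles1Map_exact (hf : Injective f) (hfg : Exact f g) :
    Exact (cocycles1Map P f) (cocycles1Map P g) := by
  intro c
  constructor
  · intro h
    have h1 : post (X := L1 P) g c.1 = 0 := congrArg Subtype.val h
    obtain ⟨c', hc'⟩ := (post_exact f g hf hfg c.1).mp h1
    have hcoc : c' ∈ cocycles1 P M' := by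
      rw [LinearMap.mem_ker, d2Star_apply]
      apply post_injective (X := L2 P) f hf
      rw [post_apply, post_apply, LinearMap.comp_zero, ← LinearMap.comp_assoc]
      have : f ∘ₗ c' = c.1 := hc'
      rw [this]
      have h2 := c.2
      rw [LinearMap.mem_ker, d2Star_apply] at h2
      exact h2
    exact ⟨⟨c', hcoc⟩, Subtype.ext hc'⟩
  · rintro ⟨c', rfl⟩
    apply Subtype.ext
    exact (post_exact f g hf hfg _).mpr ⟨c'.1, rfl⟩


section snake

variable {R : Type*} [CommRing R] {M₁ M₂ M₃ N₁ N₂ N₃ : Type*}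
  [AddCommGroup M₁] [Module R M₁] [AddCommGroup M₂] [Module R M₂] [AddCommGroup M₃] [Module R M₃]
  [AddCommGroup N₁] [Module R N₁] [AddCommGroup N₂] [Module R N₂] [AddCommGroup N₃] [Module R N₃]
  {K₂ K₃ C₁ C₂ : Type*} [AddCommGroup K₂] [Module R K₂] [AddCommGroup K₃] [Module R K₃]
  [AddCommGroup C₁] [Module R C₁] [AddCommGroup C₂] [Module R C₂]

/-- packaged snake lemma -/
theorem exists_delta (i₁ : M₁ →ₗ[R] N₁) (i₂ : M₂ →ₗ[R] N₂) (i₃ : M₃ →ₗ[R] N₃)
    (f₁ : M₁ →ₗ[R] M₂) (f₂ : M₂ →ₗ[R] M₃) (hf : Exact f₁ f₂)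
    (g₁ : N₁ →ₗ[R] N₂) (g₂ : N₂ →ₗ[R] N₃) (hg : Exact g₁ g₂)
    (h₁ : g₁.comp i₁ = i₂.comp f₁) (h₂ : g₂.comp i₂ = i₃.comp f₂)
    (hf₂ : Surjective f₂) (hg₁ : Injective g₁)
    (ι₂ : K₂ →ₗ[R] M₂) (hι₂ : Exact ι₂ i₂) (ι₃ : K₃ →ₗ[R] M₃) (hι₃ : Exact ι₃ i₃)
    (hι₃inj : Injective ι₃)
    (π₁ : N₁ →ₗ[R] C₁) (hπ₁ : Exact i₁ π₁) (hπ₁surj : Surjective π₁)
    (π₂ : N₂ →ₗ[R] C₂) (hπ₂ : Exact i₂ π₂)
    (F : K₂ →ₗ[R] K₃) (hF : f₂.comp ι₂ = ι₃.comp F)
    (G : C₁ →ₗ[R] C₂) (hG : G.comp π₁ = π₂.comp g₁) :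
    ∃ δ : K₃ →ₗ[R] C₁, Exact F δ ∧ Exact δ G :=
  ⟨SnakeLemma.δ' i₁ i₂ i₃ f₁ f₂ hf g₁ g₂ hg h₁ h₂ ι₃ hι₃ π₁ hπ₁ hf₂ hg₁,
    SnakeLemma.exact_δ'_right i₁ i₂ i₃ f₁ f₂ hf g₁ g₂ hg h₁ h₂ ι₂ hι₂ ι₃ hι₃ π₁ hπ₁ hf₂ hg₁ F hF
      hι₃inj,
    SnakeLemma.exact_δ'_left i₁ i₂ i₃ f₁ f₂ hf g₁ g₂ hg h₁ h₂ ι₃ hι₃ π₁ hπ₁ π₂ hπ₂ hf₂ hg₁ G hG
      hπ₁surj⟩

end snake

lemma exact_subtype_i0 (N : Type m) [AddCommGroup N] [Module B N] :
    Exact (LinearMap.ker (d1Star P N)).subtype (i0 P N) := by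
  intro φ
  constructor
  · intro h
    exact ⟨⟨φ, congrArg Subtype.val h⟩, rfl⟩
  · rintro ⟨ψ, rfl⟩
    exact Subtype.ext ψ.2

lemma exact_i0_mkQ (N : Type m) [AddCommGroup N] [Module B N] :
    Exact (i0 P N) (coboundaries1 P N).mkQ := by
  intro c
  rw [Submodule.mkQ_apply, Submodule.Quotient.mk_eq_zero, Submodule.mem_comap,
    LinearMap.mem_range]
  constructor
  · rintro ⟨φ, hφ⟩
    exact ⟨φ, Subtype.ext hφ⟩
  · rintro ⟨φ, rfl⟩
    exact ⟨φ, rfl⟩

theorem exists_δ₀ (hf : Injective f) (hg : Surjective g) (hfg : Exact f g) :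
    ∃ δ₀ : T0 P M'' →ₗ[B] T1 P M', Exact (T0map P g) δ₀ ∧ Exact δ₀ (T1map P f) :=
  exists_delta (i0 P M') (i0 P M) (i0 P M'') (post f) (post g) (post_exact f g hf hfg)
    (cocycles1Map P f) (cocycles1Map P g) (cocycles1Map_exact P f g hf hfg)
    (by ext φ : 2; rfl) (by ext φ : 2; rfl)
    (post_surjective g hg) (cocycles1Map_injective P f hf)
    (LinearMap.ker (d1Star P M)).subtype (exact_subtype_i0 P M)
    (LinearMap.ker (d1Star P M'')).subtype (exact_subtype_i0 P M'')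
    Subtype.val_injective
    (coboundaries1 P M').mkQ (exact_i0_mkQ P M') (Submodule.mkQ_surjective _)
    (coboundaries1 P M).mkQ (exact_i0_mkQ P M)
    (T0map P g) (by ext φ : 2; rfl)
    (T1map P f) (by ext c : 2; rfl)

/-! ### The second connecting map -/

/-- `Hom(L₁, N)` modulo coboundaries. -/
abbrev Cbar (N : Type m) [AddCommGroup N] [Module B N] : Type _ :=
  (L1 P →ₗ[B] N) ⧸ LinearMap.range (d1Star P N)

lemma range_d1Star_le_ker_d2Star (N : Type m) [AddCommGroup N] [Module B N] :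
    LinearMap.range (d1Star P N) ≤ LinearMap.ker (d2Star P N) := by
  rintro _ ⟨φ, rfl⟩
  exact LinearMap.congr_fun (d2Star_comp_d1Star P N) φ

/-- `d₂*` on `Hom(L₁, N)` modulo coboundaries. -/
noncomputable def i1 (N : Type m) [AddCommGroup N] [Module B N] :
    Cbar P N →ₗ[B] (L2 P →ₗ[B] N) :=
  Submodule.liftQ _ (d2Star P N) (range_d1Star_le_ker_d2Star P N)

lemma i1_mk (N : Type m) [AddCommGroup N] [Module B N] (c : L1 P →ₗ[B] N) :
    i1 P N (Submodule.Quotient.mk c) = c ∘ₗ d2 P := rfl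

/-- post-composition on `Cbar`. -/
noncomputable def postBar {N N' : Type m} [AddCommGroup N] [Module B N] [AddCommGroup N']
    [Module B N'] (h : N →ₗ[B] N') : Cbar P N →ₗ[B] Cbar P N' :=
  Submodule.mapQ _ _ (post (X := L1 P) h) (by
    rintro _ ⟨ψ, rfl⟩
    exact ⟨h ∘ₗ ψ, by rw [d1Star_apply, LinearMap.comp_assoc]; rfl⟩)

lemma postBar_mk {N N' : Type m} [AddCommGroup N] [Module B N] [AddCommGroup N']
    [Module B N'] (h : N →ₗ[B] N') (c : L1 P →ₗ[B] N) :
    postBar P h (Submodule.Quotient.mk c) = Submodule.Quotient.mk (h ∘ₗ c) := rfl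

lemma postBar_surjective (hg : Surjective g) : Surjective (postBar P g) := by
  intro x
  obtain ⟨c, rfl⟩ := Submodule.Quotient.mk_surjective _ x
  obtain ⟨c', hc'⟩ := post_surjective (X := L1 P) g hg c
  exact ⟨Submodule.Quotient.mk c', by rw [postBar_mk]; exact congrArg _ hc'⟩

lemma postBar_exact (hf : Injective f) (hg : Surjective g) (hfg : Exact f g) :
    Exact (postBar P f) (postBar P g) := by
  intro x
  obtain ⟨c, rfl⟩ := Submodule.Quotient.mk_surjective _ x
  constructor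
  · intro h
    rw [postBar_mk, Submodule.Quotient.mk_eq_zero] at h
    obtain ⟨ψ'', hψ''⟩ := h
    obtain ⟨ψ, hψ⟩ := post_surjective (X := L0 P) g hg ψ''
    have h1 : post (X := L1 P) g (c - ψ ∘ₗ d1 P) = 0 := by
      rw [map_sub, post_apply, post_apply, ← LinearMap.comp_assoc]
      have : g ∘ₗ ψ = ψ'' := hψ
      rw [this]
      rw [d1Star_apply] at hψ''
      rw [hψ'', sub_self]
    obtain ⟨c', hc'⟩ := (post_exact f g hf hfg _).mp h1
    refine ⟨Submodule.Quotient.mk c', ?_⟩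
    rw [postBar_mk]
    have : f ∘ₗ c' = c - ψ ∘ₗ d1 P := hc'
    rw [this, Submodule.Quotient.mk_sub, sub_eq_self, Submodule.Quotient.mk_eq_zero]
    exact ⟨ψ, rfl⟩
  · rintro ⟨y, hy⟩
    rw [← hy]
    obtain ⟨c', rfl⟩ := Submodule.Quotient.mk_surjective _ y
    rw [postBar_mk, postBar_mk]
    have : g ∘ₗ (f ∘ₗ c') = 0 := (post_exact f g hf hfg _).mpr ⟨c', rfl⟩
    rw [this, Submodule.Quotient.mk_zero]

/-- `T¹(N) → Hom(L₁, N)/coboundaries` -/
noncomputable def j1 (N : Type m) [AddCommGroup N] [Module B N] : T1 P N →ₗ[B] Cbar P N :=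
  Submodule.mapQ _ _ (cocycles1 P N).subtype (le_refl _)

lemma j1_mk (N : Type m) [AddCommGroup N] [Module B N] (c : cocycles1 P N) :
    j1 P N (Submodule.Quotient.mk c) = Submodule.Quotient.mk (c : L1 P →ₗ[B] N) := rfl

lemma j1_injective (N : Type m) [AddCommGroup N] [Module B N] : Injective (j1 P N) := by
  rw [injective_iff_map_eq_zero]
  intro x hx
  obtain ⟨c, rfl⟩ := Submodule.Quotient.mk_surjective _ x
  rw [j1_mk, Submodule.Quotient.mk_eq_zero] at hx
  rw [Submodule.Quotient.mk_eq_zero]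
  exact hx

lemma exact_j1_i1 (N : Type m) [AddCommGroup N] [Module B N] : Exact (j1 P N) (i1 P N) := by
  intro x
  obtain ⟨c, rfl⟩ := Submodule.Quotient.mk_surjective _ x
  constructor
  · intro h
    rw [i1_mk] at h
    exact ⟨Submodule.Quotient.mk ⟨c, h⟩, rfl⟩
  · rintro ⟨y, hy⟩
    obtain ⟨c', rfl⟩ := Submodule.Quotient.mk_surjective _ y
    rw [← hy, j1_mk, i1_mk]
    exact c'.2

lemma exact_i1_mkQ (N : Type m) [AddCommGroup N] [Module B N] :
    Exact (i1 P N) (LinearMap.range (d2Star P N)).mkQ := by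
  intro θ
  rw [Submodule.mkQ_apply, Submodule.Quotient.mk_eq_zero, LinearMap.mem_range]
  constructor
  · rintro ⟨c, rfl⟩
    exact ⟨Submodule.Quotient.mk c, rfl⟩
  · rintro ⟨x, rfl⟩
    obtain ⟨c, rfl⟩ := Submodule.Quotient.mk_surjective _ x
    exact ⟨c, rfl⟩

theorem exists_δ₁ (hf : Injective f) (hg : Surjective g) (hfg : Exact f g) :
    ∃ δ₁ : T1 P M'' →ₗ[B] T2 P M', Exact (T1map P g) δ₁ ∧ Exact δ₁ (T2map P f) :=
  exists_delta (i1 P M') (i1 P M) (i1 P M'') (postBar P f) (postBar P g)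
    (postBar_exact P f g hf hg hfg)
    (post (X := L2 P) f) (post (X := L2 P) g) (post_exact f g hf hfg)
    (by
      apply Submodule.linearMap_qext
      ext c : 1
      show f ∘ₗ (c ∘ₗ d2 P) = (f ∘ₗ c) ∘ₗ d2 P
      rw [LinearMap.comp_assoc])
    (by
      apply Submodule.linearMap_qext
      ext c : 1
      show g ∘ₗ (c ∘ₗ d2 P) = (g ∘ₗ c) ∘ₗ d2 P
      rw [LinearMap.comp_assoc])
    (postBar_surjective P g hg) (post_injective f hf)
    (j1 P M) (exact_j1_i1 P M) (j1 P M'') (exact_j1_i1 P M'') (j1_injective P M'')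
    (LinearMap.range (d2Star P M')).mkQ (exact_i1_mkQ P M') (Submodule.mkQ_surjective _)
    (LinearMap.range (d2Star P M)).mkQ (exact_i1_mkQ P M)
    (T1map P g) (by
      apply Submodule.linearMap_qext
      ext c : 1
      rfl)
    (T2map P f) (by ext θ : 1; rfl)

/-! ### Exactness at the middle terms -/

theorem T0map_injective (hf : Injective f) : Injective (T0map P f) := by
  intro φ ψ h
  apply Subtype.ext
  apply post_injective (X := L0 P) f hf
  exact congrArg Subtype.val h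

theorem exact_T0map (hf : Injective f) (hfg : Exact f g) :
    Exact (T0map P f) (T0map P g) := by
  intro φ
  constructor
  · intro h
    have h1 : post (X := L0 P) g φ.1 = 0 := congrArg Subtype.val h
    obtain ⟨φ', hφ'⟩ := (post_exact f g hf hfg φ.1).mp h1
    have hmem : φ' ∈ LinearMap.ker (d1Star P M') := by
      rw [LinearMap.mem_ker, d1Star_apply]
      apply post_injective (X := L1 P) f hf
      rw [post_apply, post_apply, LinearMap.comp_zero, ← LinearMap.comp_assoc]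
      have : f ∘ₗ φ' = φ.1 := hφ'
      rw [this]
      have h2 := φ.2
      rw [LinearMap.mem_ker, d1Star_apply] at h2
      exact h2
    exact ⟨⟨φ', hmem⟩, Subtype.ext hφ'⟩
  · rintro ⟨φ', rfl⟩
    apply Subtype.ext
    exact (post_exact f g hf hfg _).mpr ⟨φ'.1, rfl⟩

theorem exact_T1map (hf : Injective f) (hg : Surjective g) (hfg : Exact f g) :
    Exact (T1map P f) (T1map P g) := by
  intro x
  constructor
  · intro h
    -- use injectivity of j1 and exactness on Cbar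
    have h1 : postBar P g (j1 P M x) = 0 := by
      obtain ⟨c, rfl⟩ := Submodule.Quotient.mk_surjective _ x
      have := congrArg (j1 P M'') h
      rw [map_zero] at this
      exact this
    obtain ⟨y, hy⟩ := (postBar_exact P f g hf hg hfg _).mp h1
    obtain ⟨c', rfl⟩ := Submodule.Quotient.mk_surjective _ y
    obtain ⟨c, rfl⟩ := Submodule.Quotient.mk_surjective _ x
    rw [postBar_mk, j1_mk] at hy
    -- f ∘ c' - c is a coboundary
    have h2 := (Submodule.Quotient.eq _).mp hy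
    obtain ⟨ψ, hψ⟩ := h2
    -- c' is a cocycle
    have hc' : c' ∈ cocycles1 P M' := by
      rw [LinearMap.mem_ker, d2Star_apply]
      apply post_injective (X := L2 P) f hf
      rw [post_apply, post_apply, LinearMap.comp_zero, ← LinearMap.comp_assoc]
      have e : f ∘ₗ c' = (f ∘ₗ c' - c.1) + c.1 := by abel
      rw [e, ← hψ, LinearMap.add_comp]
      have h3 : d1Star P M ψ ∘ₗ d2 P = 0 :=
        LinearMap.congr_fun (d2Star_comp_d1Star P M) ψ
      have h4 := c.2
      rw [LinearMap.mem_ker, d2Star_apply] at h4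
      rw [h3, h4, add_zero]
    refine ⟨Submodule.Quotient.mk ⟨c', hc'⟩, ?_⟩
    apply j1_injective
    show postBar P f (Submodule.Quotient.mk c') = _
    rw [postBar_mk, j1_mk]
    exact hy
  · rintro ⟨y, rfl⟩
    obtain ⟨c', rfl⟩ := Submodule.Quotient.mk_surjective _ y
    apply j1_injective
    rw [map_zero]
    show Submodule.Quotient.mk (g ∘ₗ (f ∘ₗ c'.1)) = (0 : Cbar P M'')
    have : g ∘ₗ (f ∘ₗ c'.1) = 0 := (post_exact f g hf hfg _).mpr ⟨c'.1, rfl⟩
    rw [this, Submodule.Quotient.mk_zero]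

theorem exact_T2map (hf : Injective f) (hg : Surjective g) (hfg : Exact f g) :
    Exact (T2map P f) (T2map P g) := by
  intro x
  obtain ⟨θ, rfl⟩ := Submodule.Quotient.mk_surjective _ x
  constructor
  · intro h
    have h0 : (Submodule.Quotient.mk (g ∘ₗ θ) : T2 P M'') = 0 := h
    rw [Submodule.Quotient.mk_eq_zero] at h0
    obtain ⟨χ'', hχ''⟩ := h0
    obtain ⟨χ, hχ⟩ := post_surjective (X := L1 P) g hg χ''
    have h1 : post (X := L2 P) g (θ - χ ∘ₗ d2 P) = 0 := by
      rw [map_sub, post_apply, post_apply, ← LinearMap.comp_assoc]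
      have : g ∘ₗ χ = χ'' := hχ
      rw [this]
      rw [d2Star_apply] at hχ''
      rw [hχ'', sub_self]
    obtain ⟨θ', hθ'⟩ := (post_exact f g hf hfg _).mp h1
    refine ⟨Submodule.Quotient.mk θ', ?_⟩
    show (Submodule.Quotient.mk (f ∘ₗ θ') : T2 P M) = _
    have : f ∘ₗ θ' = θ - χ ∘ₗ d2 P := hθ'
    rw [this, Submodule.Quotient.mk_sub, sub_eq_self, Submodule.Quotient.mk_eq_zero]
    exact ⟨χ, rfl⟩
  · rintro ⟨y, hy⟩
    rw [← hy]
    obtain ⟨θ', rfl⟩ := Submodule.Quotient.mk_surjective _ y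
    show (Submodule.Quotient.mk (g ∘ₗ (f ∘ₗ θ')) : T2 P M'') = 0
    have : g ∘ₗ (f ∘ₗ θ') = 0 := (post_exact f g hf hfg _).mpr ⟨θ', rfl⟩
    rw [this, Submodule.Quotient.mk_zero]

end Groth.Agent.Lib.Helper19.CotTLES
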