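import Groth.Agent.Lib.Helper19LocCover

/-!
# `T²` vanishes for regular local rings essentially of finite type over a field
-/

set_option autoImplicit false
set_option linter.unusedSectionVars false
set_option linter.style.haveILetI false
universe u m'

open TensorProduct

namespace Groth.Agent.Lib.Helper19.CotTLocal

open Groth.Agent.Lib.Helper19.Kos Groth.Agent.Lib.Helper19.LocCover
  Groth.Agent.Lib.Helper19.CotTReg

variable {k B : Type u} [Field k] [CommRing B] [Algebra k B] [Algebra.FiniteType k B]
  (m : Ideal B) [m.IsPrime]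

theorem T2_canon_subsingleton [IsRegularLocalRing (Localization.AtPrime m)]
    [Algebra.FormallySmooth k (Localization.AtPrime m)]
    (M : Type m') [AddCommGroup M] [Module (Localization.AtPrime m) M] :
    Subsingleton (CotT.T2 (CotT.canon k (Localization.AtPrime m)) M) := by
  refine T2_subsingleton_of_d2_injective (CotT.canon k (Localization.AtPrime m)) ?_ M
  have hker : RingHom.ker (algebraMap (CotT.canon k (Localization.AtPrime m)).toExtension.Ring
      (Localization.AtPrime m)) =
      Ideal.span (Set.range (CotT.rel (CotT.canon k (Localization.AtPrime m)))) :=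
    (CotT.canon k (Localization.AtPrime m)).span_range_relation_eq_ker.symm
  refine d2_injective_of_H2Zero (CotT.algebraMap_rel _)
    (CotT.canon k (Localization.AtPrime m)).algebraMap_surjective hker ?_
  refine H2Zero_of_localization ?_
  intro p hpmax hp
  obtain ⟨n, φ, hφ⟩ := Algebra.FiniteType.iff_quotient_mvPolynomial''.mp
    (inferInstance : Algebra.FiniteType k B)
  let π₁ : MvPolynomial (Fin n) k →ₐ[k] Localization.AtPrime m :=
    (IsScalarTower.toAlgHom k B (Localization.AtPrime m)).comp φ
  let π₂ : (CotT.canon k (Localization.AtPrime m)).toExtension.Ring →ₐ[k] Localization.AtPrime m :=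
    IsScalarTower.toAlgHom k _ _
  have hπ₂ : Function.Surjective π₂ :=
    (CotT.canon k (Localization.AtPrime m)).algebraMap_surjective
  have hkπ₂ : RingHom.ker π₂ =
      Ideal.span (Set.range (CotT.rel (CotT.canon k (Localization.AtPrime m)))) := hker
  have hp2 : p = cp π₂ := eq_cp_of_isMaximal π₂ hπ₂ p (by rw [hkπ₂]; exact hp)
  subst hp2
  -- surjectivity of the first localized cover
  have hsurj₁ : Function.Surjective (cρ π₁) := by
    intro z
    obtain ⟨b, t, rfl⟩ := IsLocalization.exists_mk'_eq m.primeCompl z
    obtain ⟨r, rfl⟩ := hφ b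
    obtain ⟨s, hs⟩ := hφ t
    have hs' : s ∈ (cp π₁).primeCompl := by
      intro hmem
      have h1 : algebraMap B (Localization.AtPrime m) (φ s) ∈
          IsLocalRing.maximalIdeal (Localization.AtPrime m) := hmem
      rw [IsLocalization.AtPrime.to_map_mem_maximal_iff (Localization.AtPrime m) m, hs] at h1
      exact t.2 h1
    refine ⟨IsLocalization.mk' (cT π₁) r ⟨s, hs'⟩, ?_⟩
    rw [IsLocalization.eq_mk'_iff_mul_eq]
    have h2 := cρ_mk'_mul π₁ r ⟨s, hs'⟩
    have h3 : π₁ s = algebraMap B (Localization.AtPrime m) t := by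
      show algebraMap B (Localization.AtPrime m) (φ s) = _
      rw [hs]
    rw [← h3]
    exact h2
  have hsurj₂ : Function.Surjective (cρ π₂) := cρ_surjective π₂ hπ₂
  -- regular sequence generating the kernel
  haveI : IsRegularLocalRing (cT π₁) :=
    IsRegularRing.isRegularLocalRing_localization (cp π₁)
  obtain ⟨rs, hrs, hkrs⟩ := Groth.Agent.Lib.Helper5.RegImmAlg.exists_regular_ker_of_surjective
    (cρ π₁).toRingHom hsurj₁
  have hg : Ideal.span (Set.range rs.get) = RingHom.ker (cρ π₁) := by
    rw [Set.range_list_get]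
    have h3 : Ideal.span {x | x ∈ rs} = Ideal.ofList rs := rfl
    rw [h3, ← hkrs]
    rfl
  have hf : Ideal.span (Set.range (locf (cT π₂)
      (CotT.rel (CotT.canon k (Localization.AtPrime m))))) = RingHom.ker (cρ π₂) := by
    rw [ker_cρ, hkπ₂, Ideal.map_span, ← Set.range_comp]
    rfl
  -- maps between the covers
  let h0 : MvPolynomial (Fin n) k →ₐ[k] (CotT.canon k (Localization.AtPrime m)).toExtension.Ring :=
    (MvPolynomial.aeval (fun i => (MvPolynomial.X (π₁ (MvPolynomial.X i)) :
      MvPolynomial (Localization.AtPrime m) k)) :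
      MvPolynomial (Fin n) k →ₐ[k] MvPolynomial (Localization.AtPrime m) k)
  have hh0 : ∀ x, π₂ (h0 x) = π₁ x := by
    intro x
    have : π₂.comp h0 = π₁ := by
      refine MvPolynomial.algHom_ext fun i => ?_
      show algebraMap (CotT.canon k (Localization.AtPrime m)).toExtension.Ring _
        (MvPolynomial.aeval _ (MvPolynomial.X i)) = π₁ (MvPolynomial.X i)
      rw [MvPolynomial.aeval_X, CotT.algebraMap_toExtension, MvPolynomial.aeval_X]
      rfl
    exact AlgHom.congr_fun this x
  let h0' : (CotT.canon k (Localization.AtPrime m)).toExtension.Ring →ₐ[k] cT π₁ :=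
    (MvPolynomial.aeval (fun b : Localization.AtPrime m => Function.surjInv hsurj₁ b) :
      MvPolynomial (Localization.AtPrime m) k →ₐ[k] cT π₁)
  have hh0' : ∀ x, cρ π₁ (h0' x) = π₂ x := by
    intro x
    have : (cρ π₁).comp h0' = π₂ := by
      refine MvPolynomial.algHom_ext fun b => ?_
      show cρ π₁ (MvPolynomial.aeval _ (MvPolynomial.X b)) =
        algebraMap (CotT.canon k (Localization.AtPrime m)).toExtension.Ring _ (MvPolynomial.X b)
      rw [MvPolynomial.aeval_X, Function.surjInv_eq hsurj₁, CotT.algebraMap_toExtension,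
        MvPolynomial.aeval_X]
      rfl
    exact AlgHom.congr_fun this x
  haveI : Algebra.FormallySmooth k (CotT.canon k (Localization.AtPrime m)).toExtension.Ring :=
    inferInstanceAs (Algebra.FormallySmooth k (MvPolynomial (Localization.AtPrime m) k))
  exact H2Zero_of_cover π₁ π₂ h0 hh0 h0' hh0' hsurj₂ rs.get
    (by rw [List.ofFn_get]; exact hrs.toIsWeaklyRegular) hg _ hf

end Groth.Agent.Lib.Helper19.CotTLocal
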