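import Groth.Agent.Lib.Helper19KosLoc
import Groth.Agent.Lib.Helper5RegImmAlg

/-!
# `T²` vanishes for formally smooth algebras whose kernel is locally generated by regular sequences
-/

set_option autoImplicit false
set_option linter.unusedSectionVars false
set_option linter.style.haveILetI false
universe u v w t w' t' m

open TensorProduct

namespace Groth.Agent.Lib.Helper19.CotTReg

open Groth.Agent.Lib.Helper19.Kos Groth.Agent.Lib.Helper19.CotTVanish

section abstract

lemma exists_one_tmul' {S : Type u} {B : Type v} [CommRing S] [CommRing B] [Algebra S B]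
    (hsurj : Function.Surjective (algebraMap S B)) {σ : Type t} (x : B ⊗[S] (σ →₀ S)) :
    ∃ f : σ →₀ S, x = (1 : B) ⊗ₜ f := by
  obtain ⟨f, hf⟩ := TensorProduct.mk_surjective S (σ →₀ S) B hsurj x
  exact ⟨f, hf.symm⟩

end abstract

section general

variable {A : Type u} {B : Type v} [CommRing A] [CommRing B] [Algebra A B] {ι : Type w}
  {σ : Type t} (P : Algebra.Presentation A B ι σ)

lemma toCot_surjective : Function.Surjective (CotT.toCot P) := by
  intro c
  obtain ⟨x, rfl⟩ := Algebra.Extension.Cotangent.mk_surjective c
  have hx : (x : P.toExtension.Ring) ∈ LinearMap.range (CotT.jmap P) := by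
    rw [CotT.range_jmap]
    exact x.2
  obtain ⟨f, hf⟩ := hx
  refine ⟨(1 : B) ⊗ₜ f, ?_⟩
  rw [CotT.toCot_tmul, one_smul]
  congr 1
  exact Subtype.ext hf

lemma exists_one_tmul (t : CotT.L1 P) : ∃ f : CotT.relMod P, t = (1 : B) ⊗ₜ f := by
  exact exists_one_tmul' P.algebraMap_surjective t

lemma exists_of_mem_sq (x : P.toExtension.Ring) (hx : x ∈ P.toExtension.ker ^ 2) :
    ∃ g : CotT.relMod P, CotT.jmap P g = x ∧
      ((1 : B) ⊗ₜ[P.toExtension.Ring] g : CotT.L1 P) = 0 := by
  rw [pow_two] at hx
  refine Submodule.mul_induction_on hx ?_ ?_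
  · intro a ha b hb
    have ha' : a ∈ LinearMap.range (CotT.jmap P) := by rw [CotT.range_jmap]; exact ha
    have hb' : b ∈ LinearMap.range (CotT.jmap P) := by rw [CotT.range_jmap]; exact hb
    obtain ⟨α, rfl⟩ := ha'
    obtain ⟨β, rfl⟩ := hb'
    refine ⟨CotT.jmap P α • β, by rw [map_smul, smul_eq_mul], ?_⟩
    rw [← TensorProduct.smul_tmul, Algebra.smul_def, CotT.algebraMap_jmap, zero_mul,
      TensorProduct.zero_tmul]
  · intro a b ⟨g, hg1, hg2⟩ ⟨g', hg1', hg2'⟩
    exact ⟨g + g', by rw [map_add, hg1, hg1'], by rw [TensorProduct.tmul_add, hg2, hg2', add_zero]⟩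

/-- exactness of `L₂ → L₁ → I/I²` -/
theorem exact_d2_toCot : Function.Exact (CotT.d2 P) (CotT.toCot P) := by
  intro t
  constructor
  · intro ht
    obtain ⟨f, rfl⟩ := exists_one_tmul P t
    rw [CotT.toCot_tmul, one_smul, Algebra.Extension.Cotangent.mk_eq_zero_iff] at ht
    obtain ⟨g, hg1, hg2⟩ := exists_of_mem_sq P _ ht
    have hq : f - g ∈ CotT.relKer P := by
      change CotT.jmap P (f - g) = 0
      rw [map_sub, hg1]
      exact sub_self _
    refine ⟨Submodule.Quotient.mk ((1 : B) ⊗ₜ (⟨f - g, hq⟩ : CotT.relKer P)), ?_⟩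
    rw [CotT.d2_mk_tmul]
    change (1 : B) ⊗ₜ[P.toExtension.Ring] (f - g) = _
    rw [TensorProduct.tmul_sub, hg2, sub_zero]
  · rintro ⟨ξ, rfl⟩
    exact LinearMap.congr_fun (CotT.toCot_comp_d2 P) ξ

/-- `T² = 0` when `B` is formally smooth and `d₂` is injective. -/
theorem T2_subsingleton_of_d2_injective [Algebra.FormallySmooth A B]
    (hinj : Function.Injective (CotT.d2 P)) (M : Type m) [AddCommGroup M] [Module B M] :
    Subsingleton (CotT.T2 P M) := by
  haveI : Algebra.FormallySmooth A P.toExtension.Ring :=
    inferInstanceAs (Algebra.FormallySmooth A (MvPolynomial ι A))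
  obtain ⟨l, hl⟩ := (Algebra.Extension.formallySmooth_iff_split_injection P.toExtension).mp
    inferInstance
  haveI : Module.Free B P.toExtension.CotangentSpace :=
    Module.Free.of_basis P.toGenerators.cotangentSpaceBasis
  haveI : Module.Projective B P.toExtension.Cotangent :=
    Module.Projective.of_split P.toExtension.cotangentComplex l hl
  obtain ⟨s, hs⟩ := Module.projective_lifting_property (CotT.toCot P) LinearMap.id
    (toCot_surjective P)
  have htfae := ((exact_d2_toCot P).split_tfae'.out 0 1 rfl rfl).mp ⟨hinj, s, hs⟩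
  obtain ⟨_, ρ, hρ⟩ := htfae
  have hz : ∀ x : CotT.T2 P M, x = 0 := by
    intro x
    obtain ⟨ψ, rfl⟩ := Submodule.Quotient.mk_surjective _ x
    rw [Submodule.Quotient.mk_eq_zero]
    refine ⟨ψ ∘ₗ ρ, ?_⟩
    rw [CotT.d2Star_apply, LinearMap.comp_assoc, hρ, LinearMap.comp_id]
  exact ⟨fun a b => by rw [hz a, hz b]⟩

/-- `d₂` is injective when the kernel is locally generated by weakly regular sequences. -/
theorem d2_injective_of_local
    (hloc : ∀ (p : Ideal P.toExtension.Ring) [p.IsMaximal], P.toExtension.ker ≤ p →
      ∃ (n : ℕ) (g : Fin n → Localization.AtPrime p),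
        RingTheory.Sequence.IsWeaklyRegular (Localization.AtPrime p) (List.ofFn g) ∧
        Ideal.span (Set.range g) = P.toExtension.ker.map (algebraMap _ (Localization.AtPrime p))) :
    Function.Injective (CotT.d2 P) := by
  have hker : RingHom.ker (algebraMap P.toExtension.Ring B) =
      Ideal.span (Set.range (CotT.rel P)) := P.span_range_relation_eq_ker.symm
  refine d2_injective_of_H2Zero (CotT.algebraMap_rel P) P.algebraMap_surjective hker ?_
  refine H2Zero_of_localization ?_
  intro p _ hp
  obtain ⟨n, g, hreg, hspan⟩ := hloc p (by rw [← hker] at hp; exact hp)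
  refine H2Zero_of_isWeaklyRegular g hreg ?_
  rw [hspan]
  have h1 : Ideal.span (Set.range (locf (Localization.AtPrime p) (CotT.rel P))) =
      (Ideal.span (Set.range (CotT.rel P))).map
        (algebraMap P.toExtension.Ring (Localization.AtPrime p)) := by
    rw [Ideal.map_span, ← Set.range_comp]
    rfl
  rw [h1, ← hker]

end general

section presentations

variable {A : Type u} {B : Type v} [CommRing A] [CommRing B] [Algebra A B] {ι : Type w}
  {σ : Type t} {ι' : Type w'} {σ' : Type t'}
  (P : Algebra.Presentation A B ι σ) (P' : Algebra.Presentation A B ι' σ')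
  (M : Type m) [AddCommGroup M] [Module B M]

/-- universe-general version of the independence of `T²` of the presentation -/
theorem nonempty_T2_equiv_presentations' : Nonempty (CotT.T2 P M ≃ₗ[B] CotT.T2 P' M) := by
  haveI : Algebra.FormallySmooth A P.toExtension.Ring :=
    inferInstanceAs (Algebra.FormallySmooth A (MvPolynomial ι A))
  haveI : Algebra.FormallySmooth A P'.toExtension.Ring :=
    inferInstanceAs (Algebra.FormallySmooth A (MvPolynomial ι' A))
  let h : P'.toExtension.Ring →ₐ[A] P.toExtension.Ring :=
    (Algebra.Generators.defaultHom P'.toGenerators P.toGenerators).toAlgHom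
  let h' : P.toExtension.Ring →ₐ[A] P'.toExtension.Ring :=
    (Algebra.Generators.defaultHom P.toGenerators P'.toGenerators).toAlgHom
  have hh : ∀ x, algebraMap P.toExtension.Ring B (h x) = algebraMap P'.toExtension.Ring B x :=
    fun x => by
      rw [CotT.algebraMap_toExtension, CotT.algebraMap_toExtension]
      exact Algebra.Generators.Hom.algebraMap_toAlgHom' _ x
  have hh' : ∀ x, algebraMap P'.toExtension.Ring B (h' x) = algebraMap P.toExtension.Ring B x :=
    fun x => by
      rw [CotT.algebraMap_toExtension, CotT.algebraMap_toExtension]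
      exact Algebra.Generators.Hom.algebraMap_toAlgHom' _ x
  obtain ⟨e⟩ := nonempty_T2_equiv_of_formallySmooth (CotT.algebraMap_rel P) (CotT.algebraMap_rel P')
    h hh h' hh' (jm_span P) (jm_span P') M
  exact ⟨(bridge P M).trans (e.trans (bridge P' M).symm)⟩

end presentations

section regular

open RingTheory.Sequence

variable {A B : Type u} [CommRing A] [CommRing B] [Algebra A B] {ι : Type} {σ : Type t}
  (P : Algebra.Presentation A B ι σ)

/-- over a regular ambient ring, a regular quotient is locally cut out by regular sequences -/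
theorem exists_local_generators [IsRegularRing P.toExtension.Ring]
    (hreg : ∀ (q : Ideal B) [q.IsPrime], IsRegularLocalRing (Localization.AtPrime q))
    (p : Ideal P.toExtension.Ring) [hp : p.IsPrime] (hle : P.toExtension.ker ≤ p) :
    ∃ (n : ℕ) (g : Fin n → Localization.AtPrime p),
      IsWeaklyRegular (Localization.AtPrime p) (List.ofFn g) ∧
      Ideal.span (Set.range g) = P.toExtension.ker.map (algebraMap _ (Localization.AtPrime p)) := by
  have hsurj : Function.Surjective (algebraMap P.toExtension.Ring B) := P.algebraMap_surjective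
  have aux : ∀ (p' : Ideal P.toExtension.Ring) [p'.IsPrime] (q : Ideal B) [q.IsPrime],
      p' = q.comap (algebraMap P.toExtension.Ring B) →
      ∃ (n : ℕ) (g : Fin n → Localization.AtPrime p'),
        IsWeaklyRegular (Localization.AtPrime p') (List.ofFn g) ∧
        Ideal.span (Set.range g) =
          P.toExtension.ker.map (algebraMap _ (Localization.AtPrime p')) := by
    intro p' _ q _ h
    subst h
    haveI := hreg q
    have hπ := RingHom.surjective_localRingHom_of_surjective
      (algebraMap P.toExtension.Ring B) hsurj q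
    obtain ⟨rs, hrs, hker⟩ := Groth.Agent.Lib.Helper5.RegImmAlg.exists_regular_ker_of_surjective
      (Localization.localRingHom (q.comap (algebraMap P.toExtension.Ring B)) q
        (algebraMap P.toExtension.Ring B) rfl) hπ
    have hT := Ideal.map_primeCompl_comap_of_surjective (algebraMap P.toExtension.Ring B) hsurj q
    have hk2 := IsLocalization.ker_map
      (S := Localization.AtPrime (q.comap (algebraMap P.toExtension.Ring B)))
      (Localization.AtPrime q) (algebraMap P.toExtension.Ring B) hT
    refine ⟨rs.length, rs.get, by rw [List.ofFn_get]; exact hrs.toIsWeaklyRegular, ?_⟩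
    rw [Set.range_list_get]
    have h3 : Ideal.span {x | x ∈ rs} = Ideal.ofList rs := rfl
    rw [h3, ← hker]
    exact hk2
  have hq : (p.map (algebraMap P.toExtension.Ring B)).IsPrime :=
    Ideal.map_isPrime_of_surjective hsurj hle
  refine aux p (p.map (algebraMap P.toExtension.Ring B)) ?_
  rw [Ideal.comap_map_of_surjective _ hsurj]
  exact (sup_eq_left.mpr hle).symm

end regular

end Groth.Agent.Lib.Helper19.CotTReg

namespace Groth.Agent.Lib.Helper19.CotTReg

open Groth.Agent.Lib.Helper19.Kos Groth.Agent.Lib.Helper19.CotTVanish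

section T1

variable {A B : Type u} [CommRing A] [CommRing B] [Algebra A B] {ι σ : Type w}
  (P : Algebra.Presentation A B ι σ)

/-- `T¹(B/A, I/I²) = 0` forces formal smoothness -/
theorem formallySmooth_of_T1_subsingleton
    (h : Subsingleton (CotT.T1 P P.toExtension.Cotangent)) : Algebra.FormallySmooth A B := by
  haveI : Algebra.FormallySmooth A P.toExtension.Ring :=
    inferInstanceAs (Algebra.FormallySmooth A (MvPolynomial ι A))
  have h1 := (Groth.Agent.S12289.result A B ι σ P P.toExtension.Cotangent).2.1
  have h2 : (LinearMap.id : P.toExtension.Cotangent →ₗ[B] P.toExtension.Cotangent) ∈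
      LinearMap.ker (CotT.homToT1 P P.toExtension.Cotangent) := by
    rw [LinearMap.mem_ker]
    exact Subsingleton.elim _ _
  rw [h1] at h2
  obtain ⟨l, hl⟩ := h2
  exact (Algebra.Extension.formallySmooth_iff_split_injection P.toExtension).mpr ⟨l, hl⟩

end T1

section T2

variable {k B : Type u} [Field k] [CommRing B] [Algebra k B] [Algebra.FiniteType k B]
  {ι : Type w} {σ : Type t} (P : Algebra.Presentation k B ι σ)

/-- `T²(B/k, M) = 0` for a regular, formally smooth algebra of finite type over a field. -/
theorem T2_subsingleton_of_regular [Algebra.FormallySmooth k B]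
    (hreg : ∀ (q : Ideal B) [q.IsPrime], IsRegularLocalRing (Localization.AtPrime q))
    (M : Type m) [AddCommGroup M] [Module B M] : Subsingleton (CotT.T2 P M) := by
  haveI : Algebra.FinitePresentation k B :=
    Algebra.FinitePresentation.of_finiteType.mp inferInstance
  let P0 := Algebra.Presentation.ofFinitePresentation k B
  haveI : IsRegularRing P0.toExtension.Ring :=
    inferInstanceAs (IsRegularRing (MvPolynomial (Fin _) k))
  have hinj : Function.Injective (CotT.d2 P0) :=
    d2_injective_of_local P0 (fun p _ hp => exists_local_generators P0 hreg p hp)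
  haveI := T2_subsingleton_of_d2_injective P0 hinj M
  obtain ⟨e⟩ := nonempty_T2_equiv_presentations' P P0 M
  exact e.toEquiv.subsingleton

end T2

end Groth.Agent.Lib.Helper19.CotTReg
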