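import Groth.Agent.Lib.Helper19CotTIndep
import Groth.Agent.Lib.Helper11KoszulReg

/-!
# Vanishing of `T¹`, `T²`
-/

set_option autoImplicit false
set_option linter.unusedSectionVars false
set_option linter.style.haveILetI false
universe u v w t m

open TensorProduct

namespace Groth.Agent.Lib.Helper19.CotTVanish

open Groth.Agent.Lib.Helper19.Kos Groth.Agent.Lib.Helper19.CotTIndep

section abstract

variable {S : Type u} {B : Type v} [CommRing S] [CommRing B] [Algebra S B] {σ : Type t}
  {f : σ → S}

lemma L2_subsingleton_of_Q_le (h : Q S f ≤ F0 S f) : Subsingleton (L2 S B f) := by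
  have htop : F0Q S f = ⊤ := eq_top_iff.mpr fun q _ => h q.2
  have hsurj : Function.Surjective ((F0Q S f).subtype) := by
    intro q
    exact ⟨⟨q, by rw [htop]; trivial⟩, rfl⟩
  have : LinearMap.range ((F0Q S f).subtype.baseChange B) = ⊤ :=
    LinearMap.range_eq_top.mpr (LinearMap.baseChange_surjective _ hsurj)
  exact Submodule.Quotient.subsingleton_iff.mpr this

lemma T2_subsingleton_of_Q_le (hf : ∀ s, algebraMap S B (f s) = 0) (h : Q S f ≤ F0 S f)
    (M : Type m) [AddCommGroup M] [Module B M] : Subsingleton (T2 S B f hf M) := by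
  haveI := L2_subsingleton_of_Q_le (B := B) h
  haveI : Subsingleton (L2 S B f →ₗ[B] M) :=
    ⟨fun a b => LinearMap.ext fun x => by rw [Subsingleton.elim x 0, map_zero, map_zero]⟩
  exact ⟨fun a b => by
    obtain ⟨a, rfl⟩ := Submodule.Quotient.mk_surjective _ a
    obtain ⟨b, rfl⟩ := Submodule.Quotient.mk_surjective _ b
    rw [Subsingleton.elim a b]⟩

lemma Q_le_F0_of_isEmpty [IsEmpty σ] : Q S f ≤ F0 S f := by
  intro x _
  have : x = 0 := Subsingleton.elim _ _
  rw [this]
  exact Submodule.zero_mem _

lemma Q_le_F0_of_isWeaklyRegular {n : ℕ} (g : Fin n → S)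
    (hreg : RingTheory.Sequence.IsWeaklyRegular S (List.ofFn g)) : Q S g ≤ F0 S g := by
  classical
  intro x hx
  rw [mem_Q] at hx
  have hK := Groth.Agent.Lib.Helper11KoszulReg.koszulH1Zero_of_isWeaklyRegular n g S hreg
    (fun i => x i) (by
      rw [← hx, jm, Finsupp.linearCombination_apply,
        x.sum_fintype (fun i c => c • g i) (fun i => zero_smul _ _)]
      refine Finset.sum_congr rfl fun i _ => ?_
      rw [smul_eq_mul, smul_eq_mul, mul_comm])
  let e := Finsupp.linearEquivFunOnFinite S S (Fin n)
  have hle : Submodule.span S {v : Fin n → S | ∃ (i j : Fin n) (y : S),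
      v = g j • (Pi.single i y : Fin n → S) - g i • (Pi.single j y : Fin n → S)} ≤
      (F0 S g).comap e.symm.toLinearMap := by
    refine Submodule.span_le.mpr ?_
    rintro _ ⟨i, j, y, rfl⟩
    show e.symm _ ∈ F0 S g
    rw [map_sub, map_smul, map_smul]
    have h1 : e.symm (Pi.single i y) = Finsupp.single i y :=
      Finsupp.linearEquivFunOnFinite_symm_single _ _ _ _ _
    have h2 : e.symm (Pi.single j y) = Finsupp.single j y :=
      Finsupp.linearEquivFunOnFinite_symm_single _ _ _ _ _
    rw [h1, h2]
    have := kos_mem_F0 S g (Finsupp.single j 1) (Finsupp.single i y)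
    rw [jm_single, jm_single, one_mul] at this
    convert this using 2
    rw [Finsupp.smul_single, Finsupp.smul_single, smul_eq_mul, smul_eq_mul, mul_one, mul_comm]
  have := hle hK
  have h3 : e.symm (fun i => x i) = x := by
    apply Finsupp.ext
    intro i
    rfl
  rw [Submodule.mem_comap] at this
  rw [← h3]
  exact this

end abstract

section T1

variable {A B : Type u} [CommRing A] [CommRing B] [Algebra A B] {ι σ : Type w}
  (P : Algebra.Presentation A B ι σ) (M : Type m) [AddCommGroup M] [Module B M]

theorem T1_subsingleton_of_formallySmooth [Algebra.FormallySmooth A B] :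
    Subsingleton (CotT.T1 P M) := by
  haveI : Algebra.FormallySmooth A P.toExtension.Ring :=
    inferInstanceAs (Algebra.FormallySmooth A (MvPolynomial ι A))
  obtain ⟨l, hl⟩ := (Algebra.Extension.formallySmooth_iff_split_injection P.toExtension).mp
    inferInstance
  have h := Groth.Agent.S12289.result A B ι σ P M
  have hz : ∀ x : CotT.T1 P M, x = 0 := by
    intro x
    obtain ⟨φ, rfl⟩ := h.2.2 x
    have : φ ∈ LinearMap.ker (CotT.homToT1 P M) := by
      rw [h.2.1]
      refine ⟨φ ∘ₗ l, ?_⟩
      ext y
      have := LinearMap.congr_fun hl y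
      simp only [LinearMap.comp_apply, LinearMap.id_apply] at this
      simp only [LinearMap.lcomp_apply', LinearMap.comp_apply]
      rw [this]
    exact this
  exact ⟨fun a b => by rw [hz a, hz b]⟩

end T1

section T2

variable {A : Type u} {B : Type v} [CommRing A] [CommRing B] [Algebra A B] {ι : Type w}
  {σ : Type t} (P : Algebra.Presentation A B ι σ) (M : Type m) [AddCommGroup M] [Module B M]

lemma jm_span (z : P.toExtension.Ring) (hz : algebraMap P.toExtension.Ring B z = 0) :
    ∃ x, jm P.toExtension.Ring (CotT.rel P) x = z := by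
  have h : z ∈ LinearMap.range (CotT.jmap P) := by
    rw [CotT.range_jmap]; exact hz
  obtain ⟨x, hx⟩ := h
  exact ⟨x, hx⟩

/-- `T²` vanishes when `B` is formally smooth and the presentation has an honest section. -/
theorem T2_subsingleton_of_section [Algebra.FormallySmooth A B]
    (s : B →ₐ[A] P.toExtension.Ring) (hs : ∀ b, algebraMap P.toExtension.Ring B (s b) = b) :
    Subsingleton (CotT.T2 P M) := by
  haveI : Algebra.FormallySmooth A P.toExtension.Ring :=
    inferInstanceAs (Algebra.FormallySmooth A (MvPolynomial ι A))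
  have hf' : ∀ i : PEmpty.{1}, algebraMap B B ((PEmpty.elim : PEmpty.{1} → B) i) = 0 :=
    fun i => i.elim
  obtain ⟨e⟩ := nonempty_T2_equiv_of_formallySmooth (A := A) (S := P.toExtension.Ring) (S' := B)
    (B := B) (f' := (PEmpty.elim : PEmpty.{1} → B))
    (CotT.algebraMap_rel P) hf' s hs
    (IsScalarTower.toAlgHom A P.toExtension.Ring B) (fun x => rfl)
    (jm_span P) (fun z hz => ⟨0, by
      rw [map_zero]
      exact hz.symm⟩) M
  haveI : Subsingleton (T2 B B (PEmpty.elim : PEmpty.{1} → B) hf' M) :=
    T2_subsingleton_of_Q_le hf' Q_le_F0_of_isEmpty M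
  exact ((bridge P M).trans e).toEquiv.subsingleton

/-- `T²` vanishes for a quotient by a weakly regular sequence. -/
theorem T2_subsingleton_of_isWeaklyRegular (hsurj : Function.Surjective (algebraMap A B))
    {n : ℕ} (g : Fin n → A) (hreg : RingTheory.Sequence.IsWeaklyRegular A (List.ofFn g))
    (hI : RingHom.ker (algebraMap A B) = Ideal.span (Set.range g)) :
    Subsingleton (CotT.T2 P M) := by
  haveI : Algebra.FormallySmooth A P.toExtension.Ring :=
    inferInstanceAs (Algebra.FormallySmooth A (MvPolynomial ι A))
  have hg : ∀ i, algebraMap A B (g i) = 0 := fun i => by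
    have : g i ∈ RingHom.ker (algebraMap A B) := by
      rw [hI]; exact Ideal.subset_span ⟨i, rfl⟩
    exact this
  let h' : P.toExtension.Ring →ₐ[A] A :=
    (MvPolynomial.aeval (fun i => Function.surjInv hsurj (P.val i)) : MvPolynomial ι A →ₐ[A] A)
  have hh' : ∀ x, algebraMap A B (h' x) = algebraMap P.toExtension.Ring B x := by
    intro x
    have : (Algebra.ofId A B).comp h' = IsScalarTower.toAlgHom A P.toExtension.Ring B := by
      refine MvPolynomial.algHom_ext fun i => ?_
      show algebraMap A B (MvPolynomial.aeval (fun i => Function.surjInv hsurj (P.val i))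
        (MvPolynomial.X i)) = algebraMap P.toExtension.Ring B (MvPolynomial.X i)
      rw [MvPolynomial.aeval_X, Function.surjInv_eq hsurj, CotT.algebraMap_toExtension,
        MvPolynomial.aeval_X]
    exact AlgHom.congr_fun this x
  obtain ⟨e⟩ := nonempty_T2_equiv_of_formallySmooth (A := A) (S := P.toExtension.Ring) (S' := A)
    (B := B) (f' := g)
    (CotT.algebraMap_rel P) hg (Algebra.ofId A P.toExtension.Ring)
    (fun x => (IsScalarTower.algebraMap_apply A P.toExtension.Ring B x).symm)
    h' hh'
    (jm_span P) (fun z hz => by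
      have hz' : z ∈ Ideal.span (Set.range g) := by rw [← hI]; exact hz
      rw [Ideal.span, ← Finsupp.range_linearCombination] at hz'
      exact hz') M
  haveI : Subsingleton (T2 A B g hg M) :=
    T2_subsingleton_of_Q_le hg (Q_le_F0_of_isWeaklyRegular g hreg) M
  exact ((bridge P M).trans e).toEquiv.subsingleton

end T2

end Groth.Agent.Lib.Helper19.CotTVanish
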