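import Groth.Agent.Lib.Helper19KosPres

/-!
# The second cotangent module of an ideal in elementary terms
-/

set_option autoImplicit false
set_option linter.unusedSectionVars false
set_option linter.style.haveILetI false
universe u v t t' m

open TensorProduct

namespace Groth.Agent.Lib.Helper19.CotTwo

open Groth.Agent.Lib.Helper19.Kos

section elementary

variable {P : Type u} [CommRing P] {F : Type v} [AddCommGroup F] [Module P F] (j : F →ₗ[P] P)
  (M : Type m) [AddCommGroup M] [Module P M]

/-- the trivial relations inside the relation module -/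
def triv : Submodule P (LinearMap.ker j) :=
  Submodule.comap (LinearMap.ker j).subtype
    (Submodule.span P {y : F | ∃ u v : F, y = j u • v - j v • u})

/-- the restrictions to the relation module of maps on `F` -/
def restr : Submodule P (LinearMap.ker j →ₗ[P] M) :=
  LinearMap.range (LinearMap.lcomp P M (LinearMap.ker j).subtype)

/-- maps on the relation module killing the trivial relations -/
def killing : Submodule P (LinearMap.ker j →ₗ[P] M) :=
  LinearMap.ker (LinearMap.lcomp P M (triv j).subtype)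

/-- the second cotangent module in elementary terms -/
abbrev T2' : Type _ := ↥(Submodule.map (restr j M).mkQ (killing j M))

variable {j M}

lemma mem_killing (g : LinearMap.ker j →ₗ[P] M) :
    g ∈ killing j M ↔ ∀ q : LinearMap.ker j,
      (q : F) ∈ Submodule.span P {y : F | ∃ u v : F, y = j u • v - j v • u} → g q = 0 := by
  rw [killing, LinearMap.mem_ker]
  constructor
  · intro h q hq
    exact LinearMap.congr_fun h ⟨q, hq⟩
  · intro h
    ext ⟨q, hq⟩
    exact h q hq

lemma mem_restr (g : LinearMap.ker j →ₗ[P] M) :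
    g ∈ restr j M ↔ ∃ G : F →ₗ[P] M, ∀ q : LinearMap.ker j, G q = g q := by
  rw [restr, LinearMap.mem_range]
  constructor
  · rintro ⟨G, rfl⟩
    exact ⟨G, fun q => rfl⟩
  · rintro ⟨G, hG⟩
    exact ⟨G, LinearMap.ext hG⟩

end elementary

section transport

variable {P : Type u} [CommRing P] {F : Type v} [AddCommGroup F] [Module P F] {F₁ : Type t}
  [AddCommGroup F₁] [Module P F₁] (j : F →ₗ[P] P) (j₁ : F₁ →ₗ[P] P) (e : F ≃ₗ[P] F₁)
  (he : ∀ x, j₁ (e x) = j x) (M : Type m) [AddCommGroup M] [Module P M]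

include he in
lemma map_ker : (LinearMap.ker j).map (e : F →ₗ[P] F₁) = LinearMap.ker j₁ := by
  ext y
  constructor
  · rintro ⟨x, hx, rfl⟩
    have hx' : j x = 0 := hx
    rw [LinearMap.mem_ker, LinearEquiv.coe_coe, he, hx']
  · intro hy
    refine ⟨e.symm y, ?_, by simp⟩
    rw [SetLike.mem_coe, LinearMap.mem_ker, ← he, e.apply_symm_apply]
    exact hy

/-- the induced equivalence of relation modules -/
noncomputable def eK : LinearMap.ker j ≃ₗ[P] LinearMap.ker j₁ :=
  LinearEquiv.ofSubmodules e _ _ (map_ker j j₁ e he)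

lemma eK_coe (q : LinearMap.ker j) : ((eK j j₁ e he q : LinearMap.ker j₁) : F₁) = e q := rfl

lemma eK_symm_coe (q : LinearMap.ker j₁) :
    (((eK j j₁ e he).symm q : LinearMap.ker j) : F) = e.symm q := by
  have h := eK_coe j j₁ e he ((eK j j₁ e he).symm q)
  rw [LinearEquiv.apply_symm_apply] at h
  rw [h, e.symm_apply_apply]

include he in
lemma map_triv_span (y : F)
    (hy : y ∈ Submodule.span P {y : F | ∃ u v : F, y = j u • v - j v • u}) :
    e y ∈ Submodule.span P {y : F₁ | ∃ u v : F₁, y = j₁ u • v - j₁ v • u} := by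
  induction hy using Submodule.span_induction with
  | mem x hx =>
    obtain ⟨u, v, rfl⟩ := hx
    refine Submodule.subset_span ⟨e u, e v, ?_⟩
    rw [map_sub, map_smul, map_smul, he, he]
  | zero => rw [map_zero]; exact Submodule.zero_mem _
  | add x y _ _ hx hy => rw [map_add]; exact Submodule.add_mem _ hx hy
  | smul r x _ hx => rw [map_smul]; exact Submodule.smul_mem _ _ hx

/-- transport of maps on the relation module -/
noncomputable def cH : (LinearMap.ker j →ₗ[P] M) ≃ₗ[P] (LinearMap.ker j₁ →ₗ[P] M) :=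
  LinearEquiv.congrLeft M P (eK j j₁ e he)

lemma cH_apply (g : LinearMap.ker j →ₗ[P] M) (q : LinearMap.ker j₁) :
    cH j j₁ e he M g q = g ((eK j j₁ e he).symm q) := rfl

lemma cH_restr : (restr j M).map (cH j j₁ e he M : _ →ₗ[P] _) = restr j₁ M := by
  ext g
  constructor
  · rintro ⟨g0, hg0, rfl⟩
    obtain ⟨G, hG⟩ := (mem_restr g0).mp hg0
    rw [mem_restr]
    refine ⟨G ∘ₗ (e.symm : F₁ →ₗ[P] F), fun q => ?_⟩
    rw [LinearEquiv.coe_coe, cH_apply, ← hG, LinearMap.comp_apply, LinearEquiv.coe_coe,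
      eK_symm_coe]
  · intro hg
    obtain ⟨G, hG⟩ := (mem_restr g).mp hg
    refine ⟨(cH j j₁ e he M).symm g, ?_, by simp⟩
    rw [SetLike.mem_coe, mem_restr]
    refine ⟨G ∘ₗ (e : F →ₗ[P] F₁), fun q => ?_⟩
    have h1 : (cH j j₁ e he M).symm g q = g (eK j j₁ e he q) := rfl
    rw [h1, ← hG, LinearMap.comp_apply, LinearEquiv.coe_coe, eK_coe]

lemma cH_killing : (killing j M).map (cH j j₁ e he M : _ →ₗ[P] _) = killing j₁ M := by
  have he' : ∀ x, j (e.symm x) = j₁ x := fun x => by rw [← he, e.apply_symm_apply]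
  ext g
  constructor
  · rintro ⟨g0, hg0, rfl⟩
    rw [mem_killing]
    intro q hq
    rw [LinearEquiv.coe_coe, cH_apply]
    refine (mem_killing g0).mp hg0 _ ?_
    rw [eK_symm_coe]
    exact map_triv_span j₁ j e.symm he' _ hq
  · intro hg
    refine ⟨(cH j j₁ e he M).symm g, ?_, by simp⟩
    rw [SetLike.mem_coe, mem_killing]
    intro q hq
    have h1 : (cH j j₁ e he M).symm g q = g (eK j j₁ e he q) := rfl
    rw [h1]
    refine (mem_killing g).mp hg _ ?_
    rw [eK_coe]
    exact map_triv_span j j₁ e he _ hq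

/-- invariance of the elementary `T²` under a change of the free module -/
noncomputable def T2'equiv : T2' j M ≃ₗ[P] T2' j₁ M := by
  let c := Submodule.Quotient.equiv (restr j M) (restr j₁ M) (cH j j₁ e he M) (cH_restr j j₁ e he M)
  refine LinearEquiv.ofSubmodules c _ _ ?_
  rw [← cH_killing j j₁ e he M, ← Submodule.map_comp, ← Submodule.map_comp]
  congr 1

end transport

section bridge

variable {S : Type u} {B : Type v} [CommRing S] [CommRing B] [Algebra S B] {σ : Type t}
  {f : σ → S} (hf : ∀ s, algebraMap S B (f s) = 0)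
variable (M : Type m) [AddCommGroup M] [Module B M] [Module S M] [IsScalarTower S B M]

/-- `at2` as a linear map -/
noncomputable def at2ₗ : (L2 S B f →ₗ[B] M) →ₗ[S] (LinearMap.ker (jm S f) →ₗ[S] M) where
  toFun ψ := at2 ψ
  map_add' ψ ψ' := by
    apply LinearMap.ext
    intro q
    show at2 (ψ + ψ') q = at2 ψ q + at2 ψ' q
    rw [at2_apply, at2_apply, at2_apply, LinearMap.add_apply]
  map_smul' s ψ := by
    apply LinearMap.ext
    intro q
    show at2 (s • ψ) q = s • at2 ψ q
    rw [at2_apply, at2_apply, LinearMap.smul_apply]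

lemma at2ₗ_apply (ψ : L2 S B f →ₗ[B] M) (q : Q S f) : at2ₗ M ψ q = at2 ψ q := rfl

/-- the comparison map -/
noncomputable def Θ : (L2 S B f →ₗ[B] M) →ₗ[S]
    ((LinearMap.ker (jm S f) →ₗ[S] M) ⧸ restr (jm S f) M) :=
  (restr (jm S f) M).mkQ ∘ₗ at2ₗ M

lemma ker_Θ : LinearMap.ker (Θ (f := f) (B := B) M) =
    (LinearMap.range (LinearMap.lcomp B M (d2 hf))).restrictScalars S := by
  ext ψ
  rw [LinearMap.mem_ker, Submodule.restrictScalars_mem, mem_range_lcomp_d2_iff hf ψ, Θ,
    LinearMap.comp_apply, Submodule.mkQ_apply, Submodule.Quotient.mk_eq_zero, mem_restr]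
  constructor
  · rintro ⟨G, hG⟩
    exact ⟨G, fun q => hG q⟩
  · rintro ⟨G, hG⟩
    exact ⟨G, fun q => hG q⟩

include hf in
lemma range_Θ : LinearMap.range (Θ (f := f) (B := B) M) =
    Submodule.map (restr (jm S f) M).mkQ (killing (jm S f) M) := by
  ext x
  constructor
  · rintro ⟨ψ, rfl⟩
    refine ⟨at2ₗ M ψ, ?_, rfl⟩
    rw [SetLike.mem_coe, mem_killing]
    intro q hq
    exact at2_of_mem_F0 hf ψ q hq
  · rintro ⟨g, hg, rfl⟩
    rw [SetLike.mem_coe, mem_killing] at hg
    refine ⟨lift2 (B := B) (f := f) g (fun q hq => hg q hq), ?_⟩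
    rw [Θ, LinearMap.comp_apply]
    congr 1
    apply LinearMap.ext
    intro q
    exact at2_lift2 (B := B) g _ q

/-- the abstract `T²` is the elementary one -/
noncomputable def T2equivT2' : T2 S B f hf M ≃ₗ[S] T2' (jm S f) M :=
  (((Submodule.Quotient.restrictScalarsEquiv S
      (LinearMap.range (LinearMap.lcomp B M (d2 hf)))).symm.trans
    (Submodule.quotEquivOfEq _ _ (ker_Θ hf M).symm)).trans
    (Θ (f := f) (B := B) M).quotKerEquivRange).trans
    (LinearEquiv.ofEq _ _ (range_Θ hf M))

end bridge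

section main

variable {P : Type u} [CommRing P] (J : Ideal P)

theorem nonempty_T2'_equiv_finsupp {ι : Type t} {ι' : Type t'} (f : ι → P) (f' : ι' → P)
    (hf : Ideal.span (Set.range f) = J) (hf' : Ideal.span (Set.range f') = J) :
    Nonempty (T2' (jm P f) (P ⧸ J) ≃ₗ[P] T2' (jm P f') (P ⧸ J)) := by
  have hker : RingHom.ker (algebraMap P (P ⧸ J)) = J := by
    rw [Ideal.Quotient.algebraMap_eq]; exact Ideal.mk_ker
  have hf0 : ∀ s, algebraMap P (P ⧸ J) (f s) = 0 := fun s => by
    rw [← RingHom.mem_ker, hker, ← hf]; exact Ideal.subset_span ⟨s, rfl⟩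
  have hf0' : ∀ s, algebraMap P (P ⧸ J) (f' s) = 0 := fun s => by
    rw [← RingHom.mem_ker, hker, ← hf']; exact Ideal.subset_span ⟨s, rfl⟩
  have hsp : ∀ z : P, algebraMap P (P ⧸ J) z = 0 → ∃ x, jm P f x = z := fun z hz => by
    have : z ∈ LinearMap.range (jm P f) := by
      rw [jm, Finsupp.range_linearCombination]
      show z ∈ Ideal.span (Set.range f)
      rw [hf, ← hker]; exact hz
    exact this
  have hsp' : ∀ z : P, algebraMap P (P ⧸ J) z = 0 → ∃ x, jm P f' x = z := fun z hz => by
    have : z ∈ LinearMap.range (jm P f') := by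
      rw [jm, Finsupp.range_linearCombination]
      show z ∈ Ideal.span (Set.range f')
      rw [hf', ← hker]; exact hz
    exact this
  obtain ⟨e⟩ := nonempty_T2_equiv_of_formallySmooth (A := P) (S := P) (S' := P) (B := P ⧸ J)
    hf0 hf0' (AlgHom.id P P) (fun x => rfl) (AlgHom.id P P) (fun x => rfl) hsp hsp' (P ⧸ J)
  exact ⟨((T2equivT2' hf0 (P ⧸ J)).symm.trans (e.restrictScalars P)).trans
    (T2equivT2' hf0' (P ⧸ J))⟩

theorem nonempty_T2'_equiv (F : Type v) [AddCommGroup F] [Module P F] [Module.Free P F]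
    (F' : Type v) [AddCommGroup F'] [Module P F'] [Module.Free P F']
    (j : F →ₗ[P] P) (j' : F' →ₗ[P] P) (hj : LinearMap.range j = J) (hj' : LinearMap.range j' = J) :
    Nonempty (T2' j (P ⧸ J) ≃ₗ[P] T2' j' (P ⧸ J)) := by
  let b := Module.Free.chooseBasis P F
  let b' := Module.Free.chooseBasis P F'
  have h1 : ∀ x, jm P (fun i => j (b i)) (b.repr x) = j x := by
    intro x
    rw [jm, Finsupp.linearCombination_apply, Finsupp.sum]
    conv_rhs => rw [← b.linearCombination_repr x, Finsupp.linearCombination_apply, Finsupp.sum,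
      map_sum]
    refine Finset.sum_congr rfl fun i _ => ?_
    rw [map_smul]
  have h1' : ∀ x, jm P (fun i => j' (b' i)) (b'.repr x) = j' x := by
    intro x
    rw [jm, Finsupp.linearCombination_apply, Finsupp.sum]
    conv_rhs => rw [← b'.linearCombination_repr x, Finsupp.linearCombination_apply, Finsupp.sum,
      map_sum]
    refine Finset.sum_congr rfl fun i _ => ?_
    rw [map_smul]
  have h2 : Ideal.span (Set.range fun i => j (b i)) = J := by
    rw [← hj]
    apply le_antisymm
    · rw [Ideal.span_le]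
      rintro _ ⟨i, rfl⟩
      exact ⟨b i, rfl⟩
    · rintro _ ⟨x, rfl⟩
      rw [← h1 x, jm, Finsupp.linearCombination_apply]
      refine Submodule.sum_mem _ fun i _ => ?_
      exact Submodule.smul_mem _ _ (Ideal.subset_span ⟨i, rfl⟩)
  have h2' : Ideal.span (Set.range fun i => j' (b' i)) = J := by
    rw [← hj']
    apply le_antisymm
    · rw [Ideal.span_le]
      rintro _ ⟨i, rfl⟩
      exact ⟨b' i, rfl⟩
    · rintro _ ⟨x, rfl⟩
      rw [← h1' x, jm, Finsupp.linearCombination_apply]
      refine Submodule.sum_mem _ fun i _ => ?_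
      exact Submodule.smul_mem _ _ (Ideal.subset_span ⟨i, rfl⟩)
  obtain ⟨e⟩ := nonempty_T2'_equiv_finsupp J _ _ h2 h2'
  exact ⟨((T2'equiv j _ b.repr h1 (P ⧸ J)).trans e).trans
    (T2'equiv j' _ b'.repr h1' (P ⧸ J)).symm⟩

end main

end Groth.Agent.Lib.Helper19.CotTwo
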