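import Mathlib

/-!
# Chain rule for `pderiv` of `aeval`
-/

set_option autoImplicit false
open MvPolynomial

namespace Groth.Agent.Lib.Helper19PderivChain

variable {R : Type*} [CommRing R] {σ τ : Type*} [Fintype σ] [DecidableEq σ]

theorem pderiv_aeval (g : σ → MvPolynomial τ R) (l : τ) (q : MvPolynomial σ R) :
    pderiv l (aeval g q) = ∑ i, aeval g (pderiv i q) * pderiv l (g i) := by
  induction q using MvPolynomial.induction_on with
  | C a => simp
  | add p q hp hq =>
    simp only [map_add, hp, hq, add_mul, Finset.sum_add_distrib]
  | mul_X p j hp =>
    rw [map_mul, aeval_X, Derivation.leibniz, hp]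
    simp only [smul_eq_mul]
    have h1 : ∀ i, aeval g (pderiv i (p * X j)) * pderiv l (g i) =
        g j * (aeval g (pderiv i p) * pderiv l (g i)) +
          (if i = j then aeval g p * pderiv l (g j) else 0) := by
      intro i
      rw [Derivation.leibniz, pderiv_X]
      simp only [smul_eq_mul, map_add, map_mul, aeval_X]
      by_cases hij : i = j
      · subst hij
        simp
        ring
      · have : Pi.single (M := fun _ => ℕ) j 1 i = 0 := by
          simp [Pi.single_apply, hij]
        simp [hij, Pi.single_apply]
        ring
    rw [Finset.sum_congr rfl (fun i _ => h1 i), Finset.sum_add_distrib, ← Finset.mul_sum]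
    simp
    ring

end Groth.Agent.Lib.Helper19PderivChain
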