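import Mathlib
import Groth.Agent.Lib.Helper24CIHilb

/-!
# A weak Bézout bound for plane curves

Two relatively prime homogeneous forms of degrees `n, m > 0` in three variables have at most
`n * m` pairwise non-proportional common zeros.
-/

set_option autoImplicit false
universe u

namespace Groth.Agent.Lib.Helper19WeakBezout

open MvPolynomial Module

variable {k : Type u} [Field k]

/-- linear form attached to a functional -/
noncomputable def linForm (φ : (Fin 3 → k) →ₗ[k] k) : MvPolynomial (Fin 3) k :=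
  ∑ a : Fin 3, C (φ (fun j => if a = j then 1 else 0)) * X a

lemma linForm_homog (φ : (Fin 3 → k) →ₗ[k] k) : (linForm φ).IsHomogeneous 1 := by
  unfold linForm
  apply IsHomogeneous.sum
  intro a _
  have := (isHomogeneous_C (Fin 3) (φ (fun j => if a = j then 1 else 0))).mul (isHomogeneous_X k a)
  simpa using this

lemma eval_linForm (φ : (Fin 3 → k) →ₗ[k] k) (v : Fin 3 → k) : eval v (linForm φ) = φ v := by
  unfold linForm
  simp only [map_sum, map_mul, eval_C, eval_X]
  rw [LinearMap.pi_apply_eq_sum_univ φ v]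
  refine Finset.sum_congr rfl (fun a _ => ?_)
  rw [smul_eq_mul, mul_comm]

theorem weak_bezout (n m N : ℕ) (f g : MvPolynomial (Fin 3) k)
    (hf : f.IsHomogeneous n) (hg : g.IsHomogeneous m)
    (hn : 0 < n) (hm : 0 < m) (hf0 : f ≠ 0) (hg0 : g ≠ 0) (hfg : IsRelPrime f g)
    (p : Fin N → (Fin 3 → k)) (hp0 : ∀ i, p i ≠ 0)
    (hpp : ∀ i j, i ≠ j → ∀ c : k, p i ≠ c • p j)
    (hpf : ∀ i, eval (p i) f = 0) (hpg : ∀ i, eval (p i) g = 0) : N ≤ n * m := by
  classical
  set d : ℕ := (N - 1) + (n + m) with hd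
  have hdle : n + m ≤ d := by omega
  have hfin := Groth.Agent.Lib.Helper24CIHilb.finite_homog k 3 d
  have hrank := Groth.Agent.Lib.Helper24CIHilb.s10824 k n m d f g hf hg hn hm hf0 hg0 hfg hdle
  set Hd := homogeneousSubmodule (Fin 3) k d with hHd
  set J := Submodule.comap Hd.subtype
    ((Ideal.span ({f, g} : Set (MvPolynomial (Fin 3) k))).restrictScalars k) with hJ
  -- the evaluation map
  let ev : Hd →ₗ[k] (Fin N → k) :=
    LinearMap.pi (fun i => (MvPolynomial.aeval (p i)).toLinearMap ∘ₗ Hd.subtype)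
  have hev : ∀ (h : Hd) (i : Fin N), ev h i = eval (p i) h.1 := by
    intro h i
    simp [ev, MvPolynomial.coe_aeval_eq_eval]
  have hker : J ≤ LinearMap.ker ev := by
    intro h hh
    rw [LinearMap.mem_ker]
    have h1 : h.1 ∈ Ideal.span ({f, g} : Set (MvPolynomial (Fin 3) k)) := hh
    obtain ⟨a, b, hab⟩ := Ideal.mem_span_pair.1 h1
    funext i
    rw [hev, ← hab]
    simp [hpf i, hpg i]
  -- separating functionals
  have hφ : ∀ i j, ∃ φ : (Fin 3 → k) →ₗ[k] k, i ≠ j → (φ (p i) ≠ 0 ∧ φ (p j) = 0) := by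
    intro i j
    by_cases hij : i = j
    · exact ⟨0, fun h => absurd hij h⟩
    · have hnot : p i ∉ Submodule.span k {p j} := by
        intro hmem
        obtain ⟨c, hc⟩ := Submodule.mem_span_singleton.1 hmem
        exact hpp i j hij c hc.symm
      obtain ⟨φ, h1, h2⟩ := Submodule.exists_le_ker_of_notMem hnot
      refine ⟨φ, fun _ => ⟨h1, ?_⟩⟩
      exact LinearMap.mem_ker.1 (h2 (Submodule.mem_span_singleton_self _))
  choose φ hφ using hφ
  have ha : ∀ i, ∃ a : Fin 3, p i a ≠ 0 := by
    intro i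
    by_contra hcon
    push Not at hcon
    exact hp0 i (funext hcon)
  choose a ha using ha
  let h : Fin N → MvPolynomial (Fin 3) k := fun i =>
    (∏ j ∈ Finset.univ.erase i, linForm (φ i j)) * (X (a i)) ^ (n + m)
  have hhom : ∀ i, h i ∈ Hd := by
    intro i
    rw [hHd, mem_homogeneousSubmodule]
    have h1 : (∏ j ∈ Finset.univ.erase i, linForm (φ i j)).IsHomogeneous
        (∑ _j ∈ Finset.univ.erase i, 1) :=
      IsHomogeneous.prod _ _ _ (fun j _ => linForm_homog (φ i j))
    have h2 : ((X (a i) : MvPolynomial (Fin 3) k) ^ (n + m)).IsHomogeneous (n + m) :=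
      isHomogeneous_X_pow _ _
    have h3 := h1.mul h2
    have h4 : (∑ _j ∈ Finset.univ.erase i, 1) + (n + m) = d := by
      rw [Finset.sum_const, smul_eq_mul, mul_one, Finset.card_erase_of_mem (Finset.mem_univ i),
        Finset.card_univ, Fintype.card_fin]
    rw [h4] at h3
    exact h3
  have hne : ∀ i, eval (p i) (h i) ≠ 0 := by
    intro i
    simp only [h, map_mul, map_prod, map_pow, eval_X, eval_linForm]
    refine mul_ne_zero ?_ (pow_ne_zero _ (ha i))
    rw [Finset.prod_ne_zero_iff]
    intro j hj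
    exact (hφ i j (Finset.ne_of_mem_erase hj).symm).1
  have hz : ∀ i j, j ≠ i → eval (p j) (h i) = 0 := by
    intro i j hji
    simp only [h, map_mul, map_prod, map_pow, eval_X, eval_linForm]
    rw [Finset.prod_eq_zero (Finset.mem_erase.2 ⟨hji, Finset.mem_univ j⟩)
      (hφ i j hji.symm).2, zero_mul]
  have hsurj : Function.Surjective (J.liftQ ev hker) := by
    intro c
    refine ⟨Submodule.Quotient.mk
      (∑ i, (c i / eval (p i) (h i)) • (⟨h i, hhom i⟩ : Hd)), ?_⟩
    rw [Submodule.liftQ_apply]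
    funext j
    rw [hev]
    simp only [Submodule.coe_sum, Submodule.coe_smul, map_sum, smul_eval]
    rw [Finset.sum_eq_single j]
    · exact div_mul_cancel₀ _ (hne j)
    · intro i _ hij
      rw [hz i j hij.symm, mul_zero]
    · intro hj
      exact absurd (Finset.mem_univ j) hj
  have hle := LinearMap.finrank_le_finrank_of_surjective hsurj
  rw [Module.finrank_fin_fun] at hle
  exact hle.trans hrank.le

end Groth.Agent.Lib.Helper19WeakBezout
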