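import Mathlib
import Groth.Agent.Lib.Helper19ArcA
import Groth.Agent.Lib.Helper19PderivChain
import Groth.Agent.Lib.Helper19WeakBezout

/-!
# Lines through a singular point of a cubic surface
-/

set_option autoImplicit false
universe u

namespace Groth.Agent.Lib.Helper19CubicSingLines

open MvPolynomial

section Chain

variable {R : Type*} [CommRing R] {σ : Type*} [Fintype σ] [DecidableEq σ]

theorem derivative_aeval (g : σ → Polynomial R) (q : MvPolynomial σ R) :
    Polynomial.derivative (aeval g q) =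
      ∑ i, aeval g (pderiv i q) * Polynomial.derivative (g i) := by
  induction q using MvPolynomial.induction_on with
  | C a => simp [Polynomial.algebraMap_eq]  -- placeholder
  | add p q hp hq =>
    simp only [map_add, hp, hq, add_mul, Finset.sum_add_distrib]
  | mul_X p j hp =>
    rw [map_mul, aeval_X, Polynomial.derivative_mul, hp]
    have h1 : ∀ i, aeval g (pderiv i (p * X j)) * Polynomial.derivative (g i) =
        g j * (aeval g (pderiv i p) * Polynomial.derivative (g i)) +
          (if i = j then aeval g p * Polynomial.derivative (g j) else 0) := by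
      intro i
      rw [Derivation.leibniz, pderiv_X]
      simp only [smul_eq_mul, map_add, map_mul, aeval_X]
      by_cases hij : i = j
      · subst hij
        simp
        ring
      · have : Pi.single (M := fun _ => ℕ) j 1 i = 0 := by
          simp [Pi.single_apply, hij]
        simp [hij, Pi.single_apply]
        ring
    rw [Finset.sum_congr rfl (fun i _ => h1 i), Finset.sum_add_distrib, ← Finset.mul_sum]
    simp
    ring

end Chain

section Line

variable {K : Type u} [Field K] {n : ℕ}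

/-- restriction of `F` to the parametrised line `t ↦ t p + q` -/
noncomputable def lineP (p q : Fin n → K) (F : MvPolynomial (Fin n) K) : Polynomial K :=
  aeval (fun l => Polynomial.C (p l) * Polynomial.X + Polynomial.C (q l)) F

lemma eval_lineP (p q : Fin n → K) (F : MvPolynomial (Fin n) K) (t : K) :
    (lineP p q F).eval t = eval (fun l => p l * t + q l) F := by
  unfold lineP
  rw [aeval_def, polynomial_eval_eval₂]
  have : (Polynomial.evalRingHom t).comp (algebraMap K (Polynomial K)) = RingHom.id K := by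
    ext x; simp
  rw [this]
  simp only [Polynomial.eval_add, Polynomial.eval_mul, Polynomial.eval_C, Polynomial.eval_X]
  rfl

lemma natDegree_lineP (p q : Fin n → K) (F : MvPolynomial (Fin n) K) (hF : F.IsHomogeneous 3) :
    (lineP p q F).natDegree ≤ 3 := by
  have := aeval_natDegree_le (m := 3) (n := 1) F hF.totalDegree_le
    (fun l => Polynomial.C (p l) * Polynomial.X + Polynomial.C (q l))
    (fun l => Polynomial.natDegree_linear_le)
  unfold lineP
  simpa using this

lemma derivative_lineP_eval (p q : Fin n → K) (F : MvPolynomial (Fin n) K) (t : K) :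
    (Polynomial.derivative (lineP p q F)).eval t =
      ∑ l, p l * eval (fun l => p l * t + q l) (pderiv l F) := by
  unfold lineP
  rw [derivative_aeval, Polynomial.eval_finsetSum]
  refine Finset.sum_congr rfl (fun l _ => ?_)
  have h1 := eval_lineP p q (pderiv l F) t
  unfold lineP at h1
  have h2 : Polynomial.derivative (Polynomial.C (p l) * Polynomial.X + Polynomial.C (q l)) =
      Polynomial.C (p l) := by
    rw [Polynomial.derivative_add, Polynomial.derivative_C_mul, Polynomial.derivative_X,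
      Polynomial.derivative_C, mul_one, add_zero]
  rw [Polynomial.eval_mul, h1, h2, Polynomial.eval_C, mul_comm]

theorem star [Infinite K] (F : MvPolynomial (Fin n) K) (hF : F.IsHomogeneous 3) (a : Fin n → K)
    (hFa : eval a F = 0) (hsing : ∀ i, eval a (pderiv i F) = 0) (w : Fin n → K) (t : K) :
    eval (fun l => a l * t + w l) F = eval w F + t * ∑ l, a l * eval w (pderiv l F) := by
  set R := lineP w a F with hR
  set P := lineP a w F with hP
  have hR0 : R.coeff 0 = 0 := by
    rw [Polynomial.coeff_zero_eq_eval_zero, hR, eval_lineP]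
    simpa using hFa
  have hR1 : R.coeff 1 = 0 := by
    have h1 : (Polynomial.derivative R).coeff 0 = R.coeff 1 := by
      rw [Polynomial.coeff_derivative]; simp
    rw [← h1, Polynomial.coeff_zero_eq_eval_zero, hR, derivative_lineP_eval]
    simp [hsing]
  have hRdeg : R.natDegree < 4 := Nat.lt_succ_of_le (natDegree_lineP w a F hF)
  have hReval : ∀ μ : K, R.eval μ = R.coeff 2 * μ ^ 2 + R.coeff 3 * μ ^ 3 := by
    intro μ
    rw [Polynomial.eval_eq_sum_range' hRdeg]
    simp [Finset.sum_range_succ, hR0, hR1]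
  have hPeval : ∀ t : K, t ≠ 0 → P.eval t = R.coeff 2 * t + R.coeff 3 := by
    intro t ht
    rw [hP, eval_lineP]
    have h1 : (fun l => a l * t + w l) = (fun l => (w l * t⁻¹ + a l) • t) := by
      funext l
      rw [smul_eq_mul]
      field_simp
      ring
    have h2 := Groth.Agent.Lib.Helper19.Arc.aeval_smul_of_isHomogeneous
      (fun l => w l * t⁻¹ + a l) t 3 F hF
    rw [h1]
    have h3 : (aeval fun i => (w i * t⁻¹ + a i) • t) F =
        eval (fun i => (w i * t⁻¹ + a i) • t) F := rfl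
    rw [h3] at h2
    rw [h2, ← eval_lineP w a F t⁻¹, ← hR, hReval, smul_eq_mul]
    field_simp
  have hPeq : P = Polynomial.C (R.coeff 2) * Polynomial.X + Polynomial.C (R.coeff 3) := by
    apply Polynomial.eq_of_infinite_eval_eq
    refine Set.Infinite.mono ?_ (Set.finite_singleton (0 : K)).infinite_compl
    intro t ht
    have ht' : t ≠ 0 := by simpa using ht
    simp [hPeval t ht']
  have h0 : eval w F = R.coeff 3 := by
    have := eval_lineP a w F 0
    rw [← hP, hPeq] at this
    simpa using this.symm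
  have h1 : ∑ l, a l * eval w (pderiv l F) = R.coeff 2 := by
    have := derivative_lineP_eval a w F 0
    rw [← hP, hPeq] at this
    simpa using this.symm
  rw [← eval_lineP a w F t, ← hP, hPeq, h0, h1]
  simp
  ring

end Line

section Proj

variable {K : Type u} [Field K]

/-- the polynomial `Σ a_l ∂F/∂x_l` -/
noncomputable def EE (a : Fin 4 → K) (F : MvPolynomial (Fin 4) K) : MvPolynomial (Fin 4) K :=
  ∑ l, a l • pderiv l F

lemma eval_EE (a w : Fin 4 → K) (F : MvPolynomial (Fin 4) K) :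
    eval w (EE a F) = ∑ l, a l * eval w (pderiv l F) := by
  simp [EE, map_sum, smul_eval]

lemma EE_homog (a : Fin 4 → K) (F : MvPolynomial (Fin 4) K) (hF : F.IsHomogeneous 3) :
    (EE a F).IsHomogeneous 2 := by
  unfold EE
  apply IsHomogeneous.sum
  intro l _
  rw [smul_eq_C_mul]
  exact (hF.pderiv (i := l)).C_mul _

lemma eval_aeval' {σ τ : Type*} (u : τ → K) (g : σ → MvPolynomial τ K) (P : MvPolynomial σ K) :
    eval u (aeval g P) = eval (fun l => eval u (g l)) P := by
  have := AlgHom.congr_fun (comp_aeval (f := g) (aeval u : MvPolynomial τ K →ₐ[K] K)) P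
  exact this

/-- the substitution setting `x_{i₀} = 0` -/
noncomputable def ins (i₀ : Fin 4) : Fin 4 → MvPolynomial (Fin 3) K :=
  Fin.insertNth (α := fun _ => MvPolynomial (Fin 3) K) i₀ 0 (fun m => X m)

/-- `K[x₀,…,x₃] → K[y₀,y₁,y₂]`, setting `x_{i₀} = 0` -/
noncomputable def rr (i₀ : Fin 4) : MvPolynomial (Fin 4) K →ₐ[K] MvPolynomial (Fin 3) K :=
  aeval (ins i₀)

/-- `K[y₀,y₁,y₂] → K[x₀,…,x₃]`, the projection from the point `a` -/
noncomputable def jj (a : Fin 4 → K) (i₀ : Fin 4) :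
    MvPolynomial (Fin 3) K →ₐ[K] MvPolynomial (Fin 4) K :=
  aeval (fun m => X (i₀.succAbove m) - C (a (i₀.succAbove m) / a i₀) * X i₀)

/-- extension by zero of a vector in `K³` -/
def ext0 (i₀ : Fin 4) (u : Fin 3 → K) : Fin 4 → K :=
  Fin.insertNth (α := fun _ => K) i₀ 0 u

@[simp] lemma ext0_same (i₀ : Fin 4) (u : Fin 3 → K) : ext0 i₀ u i₀ = 0 := by
  simp [ext0]

@[simp] lemma ext0_succAbove (i₀ : Fin 4) (u : Fin 3 → K) (m : Fin 3) :
    ext0 i₀ u (i₀.succAbove m) = u m := by
  simp [ext0]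

@[simp] lemma ins_same (i₀ : Fin 4) : (ins i₀ i₀ : MvPolynomial (Fin 3) K) = 0 := by
  simp [ins]

@[simp] lemma ins_succAbove (i₀ : Fin 4) (m : Fin 3) :
    (ins i₀ (i₀.succAbove m) : MvPolynomial (Fin 3) K) = X m := by
  simp [ins]

lemma eval_rr (i₀ : Fin 4) (u : Fin 3 → K) (P : MvPolynomial (Fin 4) K) :
    eval u (rr i₀ P) = eval (ext0 i₀ u) P := by
  unfold rr
  rw [eval_aeval']
  have : (fun l => eval u (ins i₀ l)) = ext0 i₀ u := by
    funext l
    rcases Fin.eq_self_or_eq_succAbove i₀ l with h | ⟨m, h⟩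
    · subst h; simp
    · subst h; simp
  rw [this]

lemma eval_jj (a : Fin 4 → K) (i₀ : Fin 4) (x : Fin 4 → K) (D : MvPolynomial (Fin 3) K) :
    eval x (jj a i₀ D) =
      eval (fun m => x (i₀.succAbove m) - a (i₀.succAbove m) / a i₀ * x i₀) D := by
  unfold jj
  rw [eval_aeval']
  simp

lemma rr_jj (a : Fin 4 → K) (i₀ : Fin 4) (D : MvPolynomial (Fin 3) K) :
    rr i₀ (jj a i₀ D) = D := by
  have h : (rr i₀).comp (jj a i₀) = AlgHom.id K (MvPolynomial (Fin 3) K) := by
    apply MvPolynomial.algHom_ext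
    intro m
    simp [rr, jj]
  exact AlgHom.congr_fun h D

lemma rr_X_same (i₀ : Fin 4) : rr i₀ (X i₀ : MvPolynomial (Fin 4) K) = 0 := by
  simp [rr]

lemma rr_homog (i₀ : Fin 4) (P : MvPolynomial (Fin 4) K) (d : ℕ) (hP : P.IsHomogeneous d) :
    (rr i₀ P).IsHomogeneous d := by
  have h : ∀ l, (ins i₀ l : MvPolynomial (Fin 3) K).IsHomogeneous 1 := by
    intro l
    rcases Fin.eq_self_or_eq_succAbove i₀ l with h | ⟨m, h⟩
    · subst h; rw [ins_same]; exact isHomogeneous_zero _ _ _
    · subst h; rw [ins_succAbove]; exact isHomogeneous_X _ _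
  have := hP.aeval (ins i₀) h
  rw [one_mul] at this
  exact this

/-- decomposition of a vector along `a` and the hyperplane `x_{i₀} = 0` -/
lemma decomp (a : Fin 4 → K) (i₀ : Fin 4) (hi₀ : a i₀ ≠ 0) (x : Fin 4 → K) :
    (fun l => a l * (x i₀ / a i₀) +
      ext0 i₀ (fun m => x (i₀.succAbove m) - a (i₀.succAbove m) / a i₀ * x i₀) l) = x := by
  funext l
  rcases Fin.eq_self_or_eq_succAbove i₀ l with h | ⟨m, h⟩
  · subst h; simp; field_simp
  · subst h; simp; ring

variable [Infinite K]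

lemma EE_invariant (F : MvPolynomial (Fin 4) K) (hF : F.IsHomogeneous 3) (a : Fin 4 → K)
    (hFa : eval a F = 0) (hsing : ∀ i, eval a (pderiv i F) = 0) (x : Fin 4 → K) (s : K) :
    eval (fun l => a l * s + x l) (EE a F) = eval x (EE a F) := by
  have h1 := star F hF a hFa hsing x (s + 1)
  have h2 := star F hF a hFa hsing (fun l => a l * s + x l) 1
  have h3 := star F hF a hFa hsing x s
  rw [← eval_EE] at h1 h2 h3
  have h4 : (fun l => a l * 1 + (fun l => a l * s + x l) l) = (fun l => a l * (s + 1) + x l) := by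
    funext l; ring
  rw [h4, h1, h3] at h2
  linear_combination -h2

/-- the key polynomial identity -/
lemma key_identity (F : MvPolynomial (Fin 4) K) (hF : F.IsHomogeneous 3) (a : Fin 4 → K)
    (hFa : eval a F = 0) (hsing : ∀ i, eval a (pderiv i F) = 0) (i₀ : Fin 4) (hi₀ : a i₀ ≠ 0) :
    F = jj a i₀ (rr i₀ F) + C (1 / a i₀) * X i₀ * jj a i₀ (rr i₀ (EE a F)) := by
  apply MvPolynomial.funext
  intro x
  simp only [map_add, map_mul, eval_C, eval_X, eval_jj, eval_rr]
  have h1 := star F hF a hFa hsing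
    (ext0 i₀ (fun m => x (i₀.succAbove m) - a (i₀.succAbove m) / a i₀ * x i₀)) (x i₀ / a i₀)
  rw [decomp a i₀ hi₀ x, ← eval_EE] at h1
  rw [h1]
  ring

lemma rrEE_ne_zero (F : MvPolynomial (Fin 4) K) (hF : F.IsHomogeneous 3)
    (hcone : ¬ ∃ v : Fin 4 → K, v ≠ 0 ∧ ∑ i : Fin 4, v i • pderiv i F = 0)
    (a : Fin 4 → K) (ha : a ≠ 0)
    (hFa : eval a F = 0) (hsing : ∀ i, eval a (pderiv i F) = 0) (i₀ : Fin 4) (hi₀ : a i₀ ≠ 0) :
    rr i₀ (EE a F) ≠ 0 := by
  intro h0
  apply hcone
  refine ⟨a, ha, ?_⟩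
  change EE a F = 0
  apply MvPolynomial.funext
  intro x
  rw [map_zero, ← decomp a i₀ hi₀ x, EE_invariant F hF a hFa hsing, ← eval_rr, h0, map_zero]

lemma relPrime (F : MvPolynomial (Fin 4) K) (hF : F.IsHomogeneous 3) (hirr : Irreducible F)
    (hcone : ¬ ∃ v : Fin 4 → K, v ≠ 0 ∧ ∑ i : Fin 4, v i • pderiv i F = 0)
    (a : Fin 4 → K) (ha : a ≠ 0)
    (hFa : eval a F = 0) (hsing : ∀ i, eval a (pderiv i F) = 0) (i₀ : Fin 4) (hi₀ : a i₀ ≠ 0) :
    IsRelPrime (rr i₀ (EE a F)) (rr i₀ F) := by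
  have hG2 := rrEE_ne_zero F hF hcone a ha hFa hsing i₀ hi₀
  have hG2h := rr_homog i₀ _ 2 (EE_homog a F hF)
  have hG3h := rr_homog i₀ _ 3 hF
  intro D hD2 hD3
  obtain ⟨A, hA⟩ := hD2
  obtain ⟨B, hB⟩ := hD3
  have hid := key_identity F hF a hFa hsing i₀ hi₀
  rw [hA, hB, map_mul, map_mul] at hid
  have hid' : F = jj a i₀ D * (jj a i₀ B + C (1 / a i₀) * X i₀ * jj a i₀ A) := by
    rw [hid]; ring
  rcases hirr.isUnit_or_isUnit hid' with h | h
  · have := h.map (rr i₀)
    rwa [rr_jj] at this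
  · exfalso
    have h1 := h.map (rr i₀)
    rw [map_add, map_mul, map_mul, rr_jj, rr_jj, rr_X_same, mul_zero, zero_mul, add_zero] at h1
    obtain ⟨B', hB'⟩ := h1.exists_right_inv
    have h2 : rr i₀ (EE a F) = rr i₀ F * (B' * A) := by
      rw [hA, hB]
      calc D * A = D * (B * B') * A := by rw [hB', mul_one]
        _ = D * B * (B' * A) := by ring
    have hG3 : rr i₀ F ≠ 0 := by
      intro h0
      rw [h0, zero_mul] at h2
      exact hG2 h2
    have hQ : B' * A ≠ 0 := by
      intro h0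
      rw [h0, mul_zero] at h2
      exact hG2 h2
    have h3 := congrArg totalDegree h2
    rw [totalDegree_mul_of_isDomain hG3 hQ, hG2h.totalDegree hG2, hG3h.totalDegree hG3] at h3
    omega

lemma rrF_ne_zero (F : MvPolynomial (Fin 4) K) (hF : F.IsHomogeneous 3) (hirr : Irreducible F)
    (hcone : ¬ ∃ v : Fin 4 → K, v ≠ 0 ∧ ∑ i : Fin 4, v i • pderiv i F = 0)
    (a : Fin 4 → K) (ha : a ≠ 0)
    (hFa : eval a F = 0) (hsing : ∀ i, eval a (pderiv i F) = 0) (i₀ : Fin 4) (hi₀ : a i₀ ≠ 0) :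
    rr i₀ F ≠ 0 := by
  intro h0
  have hG2 := rrEE_ne_zero F hF hcone a ha hFa hsing i₀ hi₀
  have hG2h := rr_homog i₀ _ 2 (EE_homog a F hF)
  have hrel := relPrime F hF hirr hcone a ha hFa hsing i₀ hi₀
  rw [h0, isRelPrime_zero_right] at hrel
  obtain ⟨G', hG'⟩ := hrel.exists_right_inv
  have hG'0 : G' ≠ 0 := by
    intro h
    rw [h, mul_zero] at hG'
    exact zero_ne_one hG'
  have h3 := congrArg totalDegree hG'
  rw [totalDegree_mul_of_isDomain hG2 hG'0, hG2h.totalDegree hG2, totalDegree_one] at h3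
  omega

end Proj

section Lines

variable {K : Type u} [Field K]

lemma ext0_zero (i₀ : Fin 4) : ext0 i₀ (0 : Fin 3 → K) = 0 := by
  funext l
  rcases Fin.eq_self_or_eq_succAbove i₀ l with h | ⟨m, h⟩
  · subst h; simp
  · subst h; simp

lemma ext0_smul (i₀ : Fin 4) (c : K) (u : Fin 3 → K) : ext0 i₀ (c • u) = c • ext0 i₀ u := by
  funext l
  rcases Fin.eq_self_or_eq_succAbove i₀ l with h | ⟨m, h⟩
  · subst h; simp
  · subst h; simp

lemma ext0_eq (i₀ : Fin 4) (v : Fin 4 → K) (hv : v i₀ = 0) :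
    ext0 i₀ (fun m => v (i₀.succAbove m)) = v := by
  funext l
  rcases Fin.eq_self_or_eq_succAbove i₀ l with h | ⟨m, h⟩
  · subst h; simp [hv]
  · subst h; simp

lemma linIndep (a : Fin 4 → K) (i₀ : Fin 4) (hi₀ : a i₀ ≠ 0) (v : Fin 4 → K) (hv0 : v i₀ = 0)
    (hvne : v ≠ 0) : LinearIndependent K ![a, v] := by
  rw [LinearIndependent.pair_iff]
  intro s t h
  have h1 := congrFun h i₀
  simp only [Pi.add_apply, Pi.smul_apply, smul_eq_mul, hv0, mul_zero, add_zero,
    Pi.zero_apply] at h1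
  have hs : s = 0 := by
    rcases mul_eq_zero.1 h1 with h2 | h2
    · exact h2
    · exact absurd h2 hi₀
  refine ⟨hs, ?_⟩
  rw [hs, zero_smul, zero_add] at h
  rcases smul_eq_zero.1 h with h2 | h2
  · exact h2
  · exact absurd h2 hvne

lemma eq_of_common (U U' : Submodule K (Fin 4 → K)) (hU2 : Module.finrank K U = 2)
    (hU'2 : Module.finrank K U' = 2) (a v : Fin 4 → K) (hlin : LinearIndependent K ![a, v])
    (haU : a ∈ U) (hvU : v ∈ U) (haU' : a ∈ U') (hvU' : v ∈ U') : U = U' := by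
  have hW : Module.finrank K (Submodule.span K (Set.range ![a, v])) = 2 := by
    rw [finrank_span_eq_card hlin]; simp
  have h1 : Submodule.span K (Set.range ![a, v]) ≤ U := by
    rw [Submodule.span_le]
    rintro _ ⟨i, rfl⟩
    fin_cases i
    · exact haU
    · exact hvU
  have h2 : Submodule.span K (Set.range ![a, v]) ≤ U' := by
    rw [Submodule.span_le]
    rintro _ ⟨i, rfl⟩
    fin_cases i
    · exact haU'
    · exact hvU'
  rw [← Submodule.eq_of_le_of_finrank_eq h1 (hW.trans hU2.symm),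
    ← Submodule.eq_of_le_of_finrank_eq h2 (hW.trans hU'2.symm)]

variable [Infinite K]

lemma exists_point (F : MvPolynomial (Fin 4) K) (hF : F.IsHomogeneous 3) (a : Fin 4 → K)
    (hFa : eval a F = 0) (hsing : ∀ i, eval a (pderiv i F) = 0) (i₀ : Fin 4) (hi₀ : a i₀ ≠ 0)
    (U : Submodule K (Fin 4 → K)) (haU : a ∈ U) (hU2 : Module.finrank K U = 2)
    (hUF : ∀ u ∈ U, eval u F = 0) :
    ∃ u : Fin 3 → K, u ≠ 0 ∧ ext0 i₀ u ∈ U ∧ eval u (rr i₀ (EE a F)) = 0 ∧
      eval u (rr i₀ F) = 0 := by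
  have ha : a ≠ 0 := by
    intro h
    rw [h] at hi₀
    exact hi₀ rfl
  have hnle : ¬ U ≤ Submodule.span K {a} := by
    intro hle
    have h1 := Submodule.finrank_mono hle
    rw [finrank_span_singleton ha, hU2] at h1
    omega
  obtain ⟨u', hu'U, hu'⟩ := SetLike.not_le_iff_exists.1 hnle
  set v : Fin 4 → K := u' - (u' i₀ / a i₀) • a with hv
  have hvU : v ∈ U := U.sub_mem hu'U (U.smul_mem _ haU)
  have hv0 : v i₀ = 0 := by
    simp only [hv, Pi.sub_apply, Pi.smul_apply, smul_eq_mul]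
    field_simp
    ring
  have hvne : v ≠ 0 := by
    intro h
    apply hu'
    rw [Submodule.mem_span_singleton]
    exact ⟨u' i₀ / a i₀, (sub_eq_zero.1 h).symm⟩
  have hext := ext0_eq i₀ v hv0
  refine ⟨fun m => v (i₀.succAbove m), ?_, ?_, ?_, ?_⟩
  · intro h
    apply hvne
    rw [← hext, h, ext0_zero]
  · rw [hext]; exact hvU
  · rw [eval_rr, hext]
    have h1 := star F hF a hFa hsing v 1
    have h2 : (fun l => a l * 1 + v l) = a + v := by
      funext l; simp
    rw [h2, hUF _ (U.add_mem haU hvU), hUF _ hvU, ← eval_EE] at h1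
    simpa using h1.symm
  · rw [eval_rr, hext]; exact hUF _ hvU

theorem main (F : MvPolynomial (Fin 4) K) (hF : F.IsHomogeneous 3) (hirr : Irreducible F)
    (hcone : ¬ ∃ v : Fin 4 → K, v ≠ 0 ∧ ∑ i : Fin 4, v i • pderiv i F = 0)
    (a : Fin 4 → K) (ha : a ≠ 0) (hFa : eval a F = 0)
    (hsing : ∀ i : Fin 4, eval a (pderiv i F) = 0) :
    {U : Submodule K (Fin 4 → K) | a ∈ U ∧ Module.finrank K ↥U = 2 ∧
      ∀ u ∈ U, eval u F = 0}.encard ≤ 6 := by
  classical
  obtain ⟨i₀, hi₀⟩ : ∃ i₀, a i₀ ≠ 0 := by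
    by_contra h
    push Not at h
    exact ha (funext h)
  by_contra hcon
  rw [not_le] at hcon
  have h7 : ((7 : ℕ) : ℕ∞) ≤ {U : Submodule K (Fin 4 → K) | a ∈ U ∧ Module.finrank K ↥U = 2 ∧
      ∀ u ∈ U, eval u F = 0}.encard := by
    have := Order.add_one_le_of_lt hcon
    norm_num at this ⊢
    exact this
  obtain ⟨t, htS, ht⟩ := Set.exists_subset_encard_eq h7
  have hfin : t.Finite := Set.finite_of_encard_eq_coe ht
  have hc : hfin.toFinset.card = 7 := by
    have := hfin.encard_eq_coe_toFinset_card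
    rw [ht] at this
    exact_mod_cast this.symm
  let e := hfin.toFinset.equivFinOfCardEq hc
  let Ul : Fin 7 → Submodule K (Fin 4 → K) := fun i => (e.symm i).1
  have hUl : ∀ i, a ∈ Ul i ∧ Module.finrank K ↥(Ul i) = 2 ∧ ∀ u ∈ Ul i, eval u F = 0 :=
    fun i => htS (hfin.mem_toFinset.1 (e.symm i).2)
  have hinj : Function.Injective Ul := Subtype.val_injective.comp e.symm.injective
  choose p hp0 hpU hp2 hp3 using fun i => exists_point F hF a hFa hsing i₀ hi₀ (Ul i) (hUl i).1
    (hUl i).2.1 (hUl i).2.2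
  have hpp : ∀ i j, i ≠ j → ∀ c : K, p i ≠ c • p j := by
    intro i j hij c hc
    apply hij
    apply hinj
    have hv : ext0 i₀ (p i) ∈ Ul j := by
      rw [hc, ext0_smul]
      exact (Ul j).smul_mem _ (hpU j)
    have hvne : ext0 i₀ (p i) ≠ 0 := by
      intro h
      apply hp0 i
      funext m
      have := congrFun h (i₀.succAbove m)
      simpa using this
    exact eq_of_common (Ul i) (Ul j) (hUl i).2.1 (hUl j).2.1 a (ext0 i₀ (p i))
      (linIndep a i₀ hi₀ _ (ext0_same i₀ _) hvne) (hUl i).1 (hpU i) (hUl j).1 hv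
  have hG2 := rrEE_ne_zero F hF hcone a ha hFa hsing i₀ hi₀
  have hG3 := rrF_ne_zero F hF hirr hcone a ha hFa hsing i₀ hi₀
  have hrel := relPrime F hF hirr hcone a ha hFa hsing i₀ hi₀
  have := Groth.Agent.Lib.Helper19WeakBezout.weak_bezout 2 3 7 _ _
    (rr_homog i₀ _ 2 (EE_homog a F hF)) (rr_homog i₀ _ 3 hF) (by norm_num) (by norm_num)
    hG2 hG3 hrel p hp0 hpp hp2 hp3
  omega

end Lines

end Groth.Agent.Lib.Helper19CubicSingLines
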