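import Groth.Agent.Lib.Helper19Versal

set_option autoImplicit false
universe u v w

open CategoryTheory ArtFun ArtFun.Art

namespace Groth.Agent.Lib.Helper19

section CutDown

variable {Λ : Type u} {k : Type u} [CommRing Λ] [Field k] [Algebra Λ k]
variable {R : Type u} [CommRing R] [Algebra Λ R] {resR : R →ₐ[Λ] k} {F : Art Λ k ⥤ Type v}

/-- Versality relative to an ideal, phrased with maps out of `R` killing the ideal. -/
def VersalMod (ξ : Family R resR F) (J : Ideal R) : Prop :=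
  ∀ ⦃B A : Art Λ k⦄ (μ : B ⟶ A), IsSmallExt μ → ∀ (φ : HomSet R resR A), (∀ j ∈ J, φ.1 j = 0) →
    ∀ y : F.obj B, F.map μ y = ξ.app A φ →
      ∃ ψ : HomSet R resR B, (∀ j ∈ J, ψ.1 j = 0) ∧ HomSet.map μ ψ = φ ∧ ξ.app B ψ = y

variable (R resR) in
/-- The zero tangent vector of `h_R`. -/
def zeroTangent : HomSet R resR (dual Λ k) := HomSet.map baseToDual (homSetBase R resR)

lemma dsnd_zeroTangent (r : R) : dsnd ((zeroTangent R resR).1 r) = 0 := rfl

lemma baseToDual_scale (c : k) : (baseToDual (Λ := Λ) (k := k)) ≫ scale c = baseToDual := by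
  apply Art.hom_ext; apply AlgHom.ext; intro a
  apply dual_ext
  · rfl
  · change dsnd (scale c (baseToDual a)) = dsnd (baseToDual a)
    rw [dsnd_scale, dsnd_baseToDual, mul_zero]

lemma homSet_dual_ext' {φ ψ : HomSet R resR (dual Λ k)} (h : ∀ r, dsnd (φ.1 r) = dsnd (ψ.1 r)) :
    φ = ψ := by
  apply Subtype.ext
  apply AlgHom.ext
  intro r
  apply dual_ext _ (h r)
  have h1 : (dual Λ k).res (φ.1 r) = resR r := AlgHom.congr_fun φ.2 r
  have h2 : (dual Λ k).res (ψ.1 r) = resR r := AlgHom.congr_fun ψ.2 r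
  rw [dfst_eq_res, dfst_eq_res, h1, h2]

lemma homSet_map_apply {A B : Art Λ k} (f : A ⟶ B) (φ : HomSet R resR A) (r : R) :
    (HomSet.map f φ).1 r = f (φ.1 r) := rfl

/-- One step of cutting down a versal family: if a tangent vector `θ₀` of `R/J` is in the kernel of the tangent map and
does not vanish on `x ∈ m_R`, the family stays versal modulo `J + (x)`. -/
theorem versalMod_sup_span [Module.Finite Λ k] (h2 : Heps F) (ξ : Family R resR F) (J : Ideal R) (hV : VersalMod ξ J)
    (θ₀ : HomSet R resR (dual Λ k)) (hθJ : ∀ j ∈ J, θ₀.1 j = 0)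
    (hθ₀ : ξ.app _ θ₀ = ξ.app _ (zeroTangent R resR)) (x : R) (hx0 : dsnd (θ₀.1 x) ≠ 0) :
    VersalMod ξ (J ⊔ Ideal.span {x}) := by
  intro B A μ hμ φ hφ y hy
  have hφJ : ∀ j ∈ J, φ.1 j = 0 := fun j hj => hφ j (Ideal.mem_sup_left hj)
  have hφx : φ.1 x = 0 := hφ x (Ideal.mem_sup_right (Ideal.mem_span_singleton_self x))
  obtain ⟨ψ, hψJ, hψ1, hψ2⟩ := hV μ hμ φ hφJ y hy
  obtain ⟨t, hker, ht0, ht, htm⟩ := exists_gen_of_isSmallExt hμ
  have hψx : ψ.1 x ∈ RingHom.ker μ.toAlgHom := by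
    rw [RingHom.mem_ker]
    have := congrArg (fun f : HomSet R resR A => f.1 x) hψ1
    exact this.trans hφx
  rw [hker, Ideal.mem_span_singleton'] at hψx
  obtain ⟨a, ha⟩ := hψx
  obtain ⟨c, hc⟩ : ∃ c : k, c = B.res a := ⟨_, rfl⟩
  have hψx' : ψ.1 x = kmul B c t := by rw [hc, kmul_res ht a, ha]
  obtain ⟨d₀, hd₀⟩ : ∃ d₀ : k, d₀ = dsnd (θ₀.1 x) := ⟨_, rfl⟩
  obtain ⟨c', hc'⟩ : ∃ c' : k, c' = -(c / d₀) := ⟨_, rfl⟩
  obtain ⟨θ, hθ⟩ : ∃ θ : HomSet R resR (dual Λ k), θ = HomSet.map (scale c') θ₀ := ⟨_, rfl⟩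
  have hθr : ∀ r, dsnd (θ.1 r) = c' * dsnd (θ₀.1 r) := by
    intro r
    rw [hθ, homSet_map_apply, dsnd_scale]
  have hθx : dsnd (θ.1 x) = -c := by
    rw [hθr, ← hd₀, hc']
    have : d₀ ≠ 0 := hd₀ ▸ hx0
    field_simp
  have hθJ' : ∀ j ∈ J, dsnd (θ.1 j) = 0 := by
    intro j hj
    rw [hθr, hθJ j hj, dsnd_zero, mul_zero]
  have hξθ : ξ.app _ θ = ξ.app _ (zeroTangent R resR) := by
    rw [hθ, ξ.natural, hθ₀, ← ξ.natural]
    congr 1
    change HomSet.map (scale c') (HomSet.map baseToDual (homSetBase R resR)) = _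
    rw [← homSet_map_comp, baseToDual_scale]
    rfl
  have hP := isFibreProd_pullbackObj (toBase B) (toBase (dual Λ k)) (toBase_surjective _)
  set P := pullbackObj (toBase B) (toBase (dual Λ k)) (toBase_surjective _)
  set r₁ : P ⟶ B := pullbackObjFst _ _ _
  set r₂ : P ⟶ dual Λ k := pullbackObjSnd _ _ _
  set s : P ⟶ B := shiftHom r₁ r₂ ht htm with hs
  have hS : IsFibreProd r₁ s μ μ := isFibreProd_shift hP μ ht htm ht0 hker
  obtain ⟨ζ, hζ1, hζ2⟩ := homSet_lift hP ψ θ
    ((homSet_map_toBase _).trans (homSet_map_toBase _).symm)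
  obtain ⟨ζ₀, hζ₀⟩ : ∃ ζ₀ : HomSet R resR P, ζ₀ = HomSet.map (zeroSection hP) ψ := ⟨_, rfl⟩
  have hζ₀1 : HomSet.map r₁ ζ₀ = ψ := by
    rw [hζ₀, ← homSet_map_comp, zeroSection_fst, homSet_map_id]
  have hζ₀2 : HomSet.map r₂ ζ₀ = zeroTangent R resR := by
    rw [hζ₀, ← homSet_map_comp, zeroSection_snd, homSet_map_comp, homSet_map_toBase]
    rfl
  have hζ₀s : HomSet.map s ζ₀ = ψ := by
    rw [hζ₀, ← homSet_map_comp, hs, zeroSection_shift, homSet_map_id]
  have e1 : ξ.app P ζ = ξ.app P ζ₀ := by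
    apply (cmp_injective_iff F hP).1 (h2 r₁ r₂ hP).1
    · rw [← ξ.natural, ← ξ.natural, hζ1, hζ₀1]
    · rw [← ξ.natural, ← ξ.natural, hζ2, hζ₀2, hξθ]
  have hψ'r : ∀ r, (HomSet.map s ζ).1 r = ψ.1 r + kmul B (dsnd (θ.1 r)) t := by
    intro r
    rw [homSet_map_apply, hs, shiftHom_apply]
    have h1 : r₁ (ζ.1 r) = ψ.1 r := congrArg (fun f : HomSet R resR B => f.1 r) hζ1
    have h2' : r₂ (ζ.1 r) = θ.1 r := congrArg (fun f : HomSet R resR (dual Λ k) => f.1 r) hζ2
    rw [h1, h2']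
  refine ⟨HomSet.map s ζ, ?_, ?_, ?_⟩
  · have hle : J ⊔ Ideal.span {x} ≤ RingHom.ker (HomSet.map s ζ).1 := by
      apply sup_le
      · intro j hj
        rw [RingHom.mem_ker, hψ'r, hψJ j hj, hθJ' j hj, kmul_zero' ht, add_zero]
      · rw [Ideal.span_le, Set.singleton_subset_iff]
        change (HomSet.map s ζ).1 x = 0
        rw [hψ'r, hψx', hθx, ← kmul_add ht, add_neg_cancel, kmul_zero' ht]
    intro j hj
    exact hle hj
  · rw [← homSet_map_comp, ← hS.w, homSet_map_comp, hζ1, hψ1]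
  · rw [ξ.natural, e1, ← ξ.natural, hζ₀s, hψ2]

/-- A tangent vector of `h_R` vanishing on the kernel of the augmentation comes from a `Λ`-derivation of `k`. -/
theorem exists_derivation_of_vanish (hres : Function.Surjective resR)
    (θ : HomSet R resR (dual Λ k)) (h : ∀ y, resR y = 0 → dsnd (θ.1 y) = 0) :
    ∃ D : Derivation Λ k k, ∀ r, dsnd (θ.1 r) = D (resR r) := by
  have hθres : ∀ a : R, dfst (θ.1 a) = resR a := fun a => by
    rw [dfst_eq_res]; exact AlgHom.congr_fun θ.2 a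
  obtain ⟨d, hd⟩ : ∃ d : R → k, d = fun r => dsnd (θ.1 r) := ⟨_, rfl⟩
  have d_add : ∀ a b, d (a + b) = d a + d b := fun a b => by
    simp only [hd]; rw [map_add, dsnd_add]
  have d_mul : ∀ a b, d (a * b) = resR a * d b + resR b * d a := fun a b => by
    simp only [hd]; rw [map_mul, dsnd_mul, hθres, hθres]
  have d_alg : ∀ r : Λ, d (algebraMap Λ R r) = 0 := fun r => by
    simp only [hd]; rw [AlgHom.commutes, dsnd_algebraMap]
  have d_zero : d 0 = 0 := by
    have := d_add 0 0
    rw [add_zero] at this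
    exact (add_eq_left.1 this.symm)
  have d_neg : ∀ a, d (-a) = -d a := fun a => by
    have := d_add a (-a)
    rw [add_neg_cancel, d_zero] at this
    exact (eq_neg_of_add_eq_zero_right this.symm)
  have d_sub : ∀ a b, d (a - b) = d a - d b := fun a b => by
    rw [sub_eq_add_neg, d_add, d_neg, sub_eq_add_neg]
  have hall : ∀ y : R, resR y = 0 → d y = 0 := fun y hy => by
    simp only [hd]; exact h y hy
  have key : ∀ x y : R, resR x = resR y → d x = d y := by
    intro x y hxy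
    have := hall (x - y) (by rw [map_sub, hxy, sub_self])
    rwa [d_sub, sub_eq_zero] at this
  let σ : k → R := Function.surjInv hres
  have hσ : ∀ c, resR (σ c) = c := Function.surjInv_eq hres
  let Dl : k →ₗ[Λ] k :=
    { toFun := fun c => d (σ c)
      map_add' := fun c c' => by
        rw [← d_add]
        exact key _ _ (by rw [hσ, map_add, hσ, hσ])
      map_smul' := fun r c => by
        have h1 : d (σ (r • c)) = d (algebraMap Λ R r * σ c) :=
          key _ _ (by rw [hσ, map_mul, hσ, AlgHom.commutes, Algebra.smul_def])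
        rw [h1, d_mul, d_alg, mul_zero, add_zero, AlgHom.commutes, RingHom.id_apply,
          Algebra.smul_def] }
  have hleib : ∀ a b : k, Dl (a * b) = a • Dl b + b • Dl a := by
    intro a b
    show d (σ (a * b)) = a • d (σ b) + b • d (σ a)
    have h1 : d (σ (a * b)) = d (σ a * σ b) := key _ _ (by rw [hσ, map_mul, hσ, hσ])
    rw [h1, d_mul, hσ, hσ, smul_eq_mul, smul_eq_mul]
  refine ⟨Derivation.mk' Dl hleib, ?_⟩
  intro r
  have h1 : d r = d (σ (resR r)) := key _ _ (hσ _).symm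
  have h2 : dsnd (θ.1 r) = d r := by rw [hd]
  rw [h2, h1]
  rfl

/-- A tangent vector of `h_R` vanishing on the kernel of the augmentation is zero when `k` has no `Λ`-derivations. -/
theorem eq_zeroTangent_of_vanish (hk : Subsingleton (Derivation Λ k k)) (hres : Function.Surjective resR)
    (θ : HomSet R resR (dual Λ k)) (h : ∀ y, resR y = 0 → dsnd (θ.1 y) = 0) :
    θ = zeroTangent R resR := by
  obtain ⟨D, hD⟩ := exists_derivation_of_vanish hres θ h
  have hD0 : D = 0 := Subsingleton.elim _ _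
  apply homSet_dual_ext'
  intro r
  rw [dsnd_zeroTangent, hD, hD0]
  rfl

/-- The morphism `k ⟶ k[ε]` attached to a `Λ`-derivation of `k`. -/
def derBaseToDual (D : Derivation Λ k k) : base Λ k ⟶ dual Λ k :=
  ⟨(show k →ₐ[Λ] (dual Λ k) from derHom D), AlgHom.ext fun _ => rfl⟩

lemma dsnd_derBaseToDual (D : Derivation Λ k k) (c : k) :
    dsnd ((derBaseToDual (Λ := Λ) D) c) = D c := rfl

/-- A tangent vector of `h_R` vanishing on the kernel of the augmentation is zero when the map from `Λ`-derivations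
of `k` to the tangent space of `F` is injective. -/
theorem eq_zeroTangent_of_vanish_of_injective (hres : Function.Surjective resR) (ξ : Family R resR F)
    (hc : ∀ x₀ : F.obj (base Λ k),
      Function.Injective (fun σ : base Λ k ⟶ dual Λ k => F.map σ x₀))
    (θ : HomSet R resR (dual Λ k)) (h : ∀ y, resR y = 0 → dsnd (θ.1 y) = 0)
    (hθ : ξ.app _ θ = ξ.app _ (zeroTangent R resR)) :
    θ = zeroTangent R resR := by
  obtain ⟨D, hD⟩ := exists_derivation_of_vanish hres θ h
  have h1 : θ = HomSet.map (derBaseToDual D) (homSetBase R resR) := by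
    apply homSet_dual_ext'
    intro r
    rw [hD]
    rfl
  have h2 : F.map (derBaseToDual D) (ξ.app _ (homSetBase R resR)) =
      F.map baseToDual (ξ.app _ (homSetBase R resR)) := by
    rw [← ξ.natural, ← ξ.natural, ← h1, hθ]
    rfl
  have h3 : derBaseToDual (Λ := Λ) D = baseToDual := hc _ h2
  rw [h1, h3]
  rfl

end CutDown

section TangentLinear

variable {Λ : Type u} {k : Type u} [CommRing Λ] [Field k] [Algebra Λ k]
variable {R : Type u} [CommRing R] [Algebra Λ R] [Algebra R k] [IsScalarTower Λ R k]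
variable (resR : R →ₐ[Λ] k) (hres : ∀ r, algebraMap R k r = resR r)
variable {F : Art Λ k ⥤ Type v} [T : TangentStr F]

/-- The tangent map of a family as a linear map on derivations. -/
def tangentLinear (ξ : Family R resR F) : Derivation Λ R k →ₗ[k] TangentSpace F where
  toFun := fun D => TangentSpace.mk (ξ.app (dual Λ k) (derHomSet resR hres D))
  map_add' := by
    intro D₁ D₂
    rw [← derHomSet2_plus resR hres D₁ D₂, ξ.natural, ← tangent_add_eq,
      ← ξ.natural, ← ξ.natural, derHomSet2_pr₁, derHomSet2_pr₂]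
  map_smul' := by
    intro c D
    rw [RingHom.id_apply, tangent_smul_eq, ← derHomSet_scale resR hres c D, ξ.natural]
    rfl

lemma tangentLinear_apply (ξ : Family R resR F) (D : Derivation Λ R k) :
    tangentLinear resR hres ξ D = TangentSpace.mk (ξ.app (dual Λ k) (derHomSet resR hres D)) := rfl

end TangentLinear

section Main

variable {Λ : Type u} {k : Type u} [CommRing Λ] [Field k] [Algebra Λ k] [Module.Finite Λ k]
variable {F : Art Λ k ⥤ Type v} [T : TangentStr F]

/-- Cutting down a versal family to a miniversal one, when tangent vectors of `R` in the kernel of the tangent map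
that vanish on the maximal ideal are zero. -/
theorem exists_miniversal_quot_of (h0 : H0 F) (h2 : Heps F)
    (R : CRing Λ k) (ξ : Family R.carrier R.res F) (hv : IsVersal ξ)
    (hvan : ∀ θ : HomSet R.carrier R.res (dual Λ k), (∀ y, R.res y = 0 → dsnd (θ.1 y) = 0) →
      ξ.app _ θ = ξ.app _ (zeroTangent R.carrier R.res) → θ = zeroTangent R.carrier R.res) :
    ∃ (J : Ideal R.carrier) (hJ : J ≤ IsLocalRing.maximalIdeal R.carrier),
      IsMiniversal (ξ.along (quotCRingMk R J hJ) (quotCRingMk_res R J hJ)) := by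
  haveI := R.isNoetherianRing
  haveI := R.isLocalRing
  -- a maximal ideal modulo which the family stays versal
  have hbot : (⊥ : Ideal R.carrier) ∈ {J : Ideal R.carrier |
      J ≤ IsLocalRing.maximalIdeal R.carrier ∧ VersalMod ξ J} := by
    refine ⟨bot_le, ?_⟩
    intro B A μ hμ φ _ y hy
    obtain ⟨ψ, h1, h2'⟩ := hv μ hμ.1 φ y hy
    refine ⟨ψ, ?_, h1, h2'⟩
    intro j hj
    rw [Ideal.mem_bot] at hj
    rw [hj, map_zero]
  obtain ⟨J, ⟨hJ, hVJ⟩, hmax⟩ := set_has_maximal_iff_noetherian.2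
    (inferInstance : IsNoetherian R.carrier R.carrier) _ ⟨⊥, hbot⟩
  have hres0 : ∀ x : R.carrier, x ∈ IsLocalRing.maximalIdeal R.carrier ↔ R.res x = 0 :=
    fun x => CRing.mem_maximalIdeal_iff R x
  -- tangent vectors of `R/J` in the kernel vanish
  have hkey : ∀ θ₀ : HomSet R.carrier R.res (dual Λ k), (∀ j ∈ J, θ₀.1 j = 0) →
      ξ.app _ θ₀ = ξ.app _ (zeroTangent R.carrier R.res) → θ₀ = zeroTangent R.carrier R.res := by
    intro θ₀ hθJ hθ₀
    refine hvan θ₀ ?_ hθ₀
    intro x hx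
    by_contra hx0
    have hV' := versalMod_sup_span h2 ξ J hVJ θ₀ hθJ hθ₀ x hx0
    have hJ' : J ⊔ Ideal.span {x} ≤ IsLocalRing.maximalIdeal R.carrier := by
      apply sup_le hJ
      rw [Ideal.span_le, Set.singleton_subset_iff]
      exact (hres0 x).2 hx
    apply hmax _ ⟨hJ', hV'⟩
    refine lt_of_le_of_ne le_sup_left ?_
    intro heq
    have hxJ : x ∈ J := by
      rw [heq]
      exact Ideal.mem_sup_right (Ideal.mem_span_singleton_self x)
    apply hx0
    rw [hθJ x hxJ, dsnd_zero]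
  refine ⟨J, hJ, ?_⟩
  suffices main : ∀ (mk : R.carrier →ₐ[Λ] (quotCRing R J hJ).carrier)
      (hmkres : (quotCRing R J hJ).res.comp mk = R.res), Function.Surjective mk →
      (∀ a, mk a = 0 ↔ a ∈ J) →
      (∀ {A : Art Λ k} (ψ : HomSet R.carrier R.res A), (∀ a ∈ J, ψ.1 a = 0) →
        ∃ ψ' : HomSet (quotCRing R J hJ).carrier (quotCRing R J hJ).res A, ∀ a, ψ'.1 (mk a) = ψ.1 a) →
      IsMiniversal (ξ.along mk hmkres) from
    main _ _ (quotCRingMk_surjective R J hJ) (quotCRingMk_eq_zero_iff R J hJ)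
      (fun ψ hψ => quotCRing_lift R J hJ ψ hψ)
  intro mk hmkres hmks hmk0 hlift
  have hversal : IsVersal (ξ.along mk hmkres) := by
    apply isVersal_of_smallExt
    intro B A μ hμ φ' y hy
    let φ : HomSet R.carrier R.res A := ⟨φ'.1.comp mk, by rw [← AlgHom.comp_assoc, φ'.2, hmkres]⟩
    have hφJ : ∀ j ∈ J, φ.1 j = 0 := by
      intro j hj
      change φ'.1 (mk j) = 0
      rw [(hmk0 j).2 hj, map_zero]
    obtain ⟨ψ, hψJ, hψ1, hψ2⟩ := hVJ μ hμ φ hφJ y hy
    obtain ⟨ψ', hψ'⟩ := hlift ψ hψJ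
    refine ⟨ψ', ?_, ?_⟩
    · apply Subtype.ext
      apply AlgHom.ext
      intro y'
      obtain ⟨a, rfl⟩ := hmks y'
      change μ (ψ'.1 (mk a)) = φ'.1 (mk a)
      rw [hψ']
      exact congrArg (fun f : HomSet R.carrier R.res A => f.1 a) hψ1
    · change ξ.app B ⟨ψ'.1.comp mk, _⟩ = y
      rw [← hψ2]
      congr 1
      apply Subtype.ext
      apply AlgHom.ext
      intro a
      exact hψ' a
  refine ⟨hversal, ?_, versal_app_surjective h0 _ hversal (dual Λ k)⟩
  -- injectivity on tangent spaces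
  letI alg : Algebra (quotCRing R J hJ).carrier k := ((quotCRing R J hJ).res : _ →+* k).toAlgebra
  haveI : IsScalarTower Λ (quotCRing R J hJ).carrier k :=
    IsScalarTower.of_algebraMap_eq (fun r => ((quotCRing R J hJ).res.commutes r).symm)
  have hres' : ∀ r, algebraMap (quotCRing R J hJ).carrier k r = (quotCRing R J hJ).res r := fun _ => rfl
  intro θ₁ θ₂ hθ
  obtain ⟨D₁, rfl⟩ := derHomSet_surjective (quotCRing R J hJ).res hres' θ₁
  obtain ⟨D₂, rfl⟩ := derHomSet_surjective (quotCRing R J hJ).res hres' θ₂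
  have hL : tangentLinear (quotCRing R J hJ).res hres' (ξ.along mk hmkres) (D₁ - D₂) =
      tangentLinear (quotCRing R J hJ).res hres' (ξ.along mk hmkres) 0 := by
    rw [map_sub, map_zero, sub_eq_zero, tangentLinear_apply, tangentLinear_apply, hθ]
  rw [tangentLinear_apply, tangentLinear_apply] at hL
  let θ₀ : HomSet R.carrier R.res (dual Λ k) :=
    ⟨(derHomSet (quotCRing R J hJ).res hres' (D₁ - D₂)).1.comp mk, by
      rw [← AlgHom.comp_assoc, (derHomSet (quotCRing R J hJ).res hres' (D₁ - D₂)).2, hmkres]⟩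
  have hθ₀J : ∀ j ∈ J, θ₀.1 j = 0 := by
    intro j hj
    change (derHomSet (quotCRing R J hJ).res hres' (D₁ - D₂)).1 (mk j) = 0
    rw [(hmk0 j).2 hj, map_zero]
  have hz : (⟨(derHomSet (quotCRing R J hJ).res hres' (0 : Derivation Λ _ k)).1.comp mk, by
      rw [← AlgHom.comp_assoc, (derHomSet (quotCRing R J hJ).res hres' 0).2, hmkres]⟩ :
      HomSet R.carrier R.res (dual Λ k)) = zeroTangent R.carrier R.res := by
    apply homSet_dual_ext'
    intro r
    rfl
  have hθ₀ : ξ.app _ θ₀ = ξ.app _ (zeroTangent R.carrier R.res) := by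
    rw [← hz]
    exact hL
  have h3 := hkey θ₀ hθ₀J hθ₀
  have hD : D₁ - D₂ = 0 := by
    ext y'
    obtain ⟨a, rfl⟩ := hmks y'
    have := congrArg (fun f : HomSet R.carrier R.res (dual Λ k) => dsnd (f.1 a)) h3
    exact this
  rw [sub_eq_zero.1 hD]

/-- Cutting down a versal family to a miniversal one, when `k` has no `Λ`-derivations. -/
theorem exists_miniversal_quot (hk : Subsingleton (Derivation Λ k k)) (h0 : H0 F) (h2 : Heps F)
    (R : CRing Λ k) (ξ : Family R.carrier R.res F) (hv : IsVersal ξ) :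
    ∃ (J : Ideal R.carrier) (hJ : J ≤ IsLocalRing.maximalIdeal R.carrier),
      IsMiniversal (ξ.along (quotCRingMk R J hJ) (quotCRingMk_res R J hJ)) :=
  exists_miniversal_quot_of h0 h2 R ξ hv
    (fun θ hθ _ => eq_zeroTangent_of_vanish hk R.res_surjective θ hθ)

/-- Existence of hulls over a general Noetherian base when `k` has no `Λ`-derivations. -/
theorem hasHull_of_subsingleton_derivation [IsNoetherianRing Λ] (hk : Subsingleton (Derivation Λ k k))
    (h0 : H0 F) (h1 : S1 F) (h2 : Heps F) (h3 : Hfin F) : HasHull F := by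
  obtain ⟨⟨R, ξ, hv⟩⟩ := hasVersal_of_s1_heps_hfin F h0 h1 h2 h3
  obtain ⟨J, hJ, hm⟩ := exists_miniversal_quot hk h0 h2 R ξ hv
  exact ⟨⟨quotCRing R J hJ, _, hm⟩⟩

end Main

end Groth.Agent.Lib.Helper19
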