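import Mathlib
import Groth.Agent.Lib.Helper28RegEtale

/-!
# Cyclic covers, part A (helper19): Kummer extensions of regular rings (non-local base)
-/

set_option autoImplicit false
universe u

open Polynomial

namespace Groth.Agent.Lib.Helper19CycCov

/-- the zero ring is a regular ring -/
theorem isRegularRing_of_subsingleton (R : Type u) [CommRing R] [Subsingleton R] :
    IsRegularRing R := by
  have : IsNoetherianRing R := inferInstance
  refine { isRegularLocalRing_localization := fun p hp => ?_ }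
  exact absurd (Subsingleton.elim p ⊤) hp.ne_top

/-- quotient by a unit is regular -/
theorem isRegularRing_quotient_of_isUnit {R : Type u} [CommRing R] [IsNoetherianRing R] (s : R)
    (hs : IsUnit s) : IsRegularRing (R ⧸ Ideal.span {s}) := by
  have : Subsingleton (R ⧸ Ideal.span {s}) := by
    rw [Ideal.Quotient.subsingleton_iff]
    exact Ideal.span_singleton_eq_top.2 hs
  exact isRegularRing_of_subsingleton _

/-- **Kummer extension of a regular ring** (non-local version of S13781): if `E` is a regular ring,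
`s` a nonzerodivisor with `E/(s)` regular, and `e` is invertible in `E`, then `E[t]/(t^e - s)` is
regular. -/
theorem isRegularRing_adjoinRoot_X_pow_sub_C (E : Type u) [CommRing E] [IsRegularRing E] (s : E)
    (hs : s ∈ nonZeroDivisors E) (hreg : IsRegularRing (E ⧸ Ideal.span {s}))
    (e : ℕ) (he : 0 < e) (heu : IsUnit (e : E)) :
    IsRegularRing (AdjoinRoot (X ^ e - C s : E[X])) := by
  have hmonic : (X ^ e - C s : E[X]).Monic := monic_X_pow_sub_C s he.ne'
  have hfin : Module.Finite E (AdjoinRoot (X ^ e - C s : E[X])) := hmonic.finite_adjoinRoot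
  have hfree : Module.Free E (AdjoinRoot (X ^ e - C s : E[X])) := hmonic.free_adjoinRoot
  have hNB : IsNoetherianRing (AdjoinRoot (X ^ e - C s : E[X])) :=
    IsNoetherianRing.of_finite E _
  have hrel := Groth.Agent.Lib.Helper28.adjoinRoot_root_pow_eq s e
  refine { isRegularLocalRing_localization := fun Q hQ => ?_ }
  by_cases hsQ : AdjoinRoot.of (X ^ e - C s : E[X]) s ∈ Q
  · have hrootQ : AdjoinRoot.root (X ^ e - C s : E[X]) ∈ Q := by
      rw [← hrel] at hsQ
      exact hQ.mem_of_pow_mem e hsQ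
    have hsnzd : AdjoinRoot.of (X ^ e - C s : E[X]) s ∈
        nonZeroDivisors (AdjoinRoot (X ^ e - C s : E[X])) := by
      rw [mem_nonZeroDivisors_iff_right]
      intro b hb
      rw [mul_comm, ← AdjoinRoot.algebraMap_eq] at hb
      have hsr : IsSMulRegular E s := by
        rw [isSMulRegular_iff_right_eq_zero_of_smul]
        intro x hx
        rw [smul_eq_mul] at hx
        exact (mem_nonZeroDivisors_iff_right.mp hs) x (by rw [mul_comm]; exact hx)
      have hsr' : IsSMulRegular (AdjoinRoot (X ^ e - C s : E[X]))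
          (algebraMap E (AdjoinRoot (X ^ e - C s : E[X])) s) := hsr.of_flat
      exact hsr'.right_eq_zero_of_smul hb
    have hrnzd : AdjoinRoot.root (X ^ e - C s : E[X]) ∈
        nonZeroDivisors (AdjoinRoot (X ^ e - C s : E[X])) := by
      rw [mem_nonZeroDivisors_iff_right]
      intro b hb
      apply (mem_nonZeroDivisors_iff_right.mp hsnzd) b
      rw [← hrel]
      have hpow : AdjoinRoot.root (X ^ e - C s : E[X]) ^ e =
          AdjoinRoot.root (X ^ e - C s : E[X]) * AdjoinRoot.root (X ^ e - C s : E[X]) ^ (e - 1) := by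
        exact (mul_pow_sub_one he.ne' _).symm
      rw [hpow, ← mul_assoc, hb, zero_mul]
    have hreg' : IsRegularRing (AdjoinRoot (X ^ e - C s : E[X]) ⧸
        Ideal.span {AdjoinRoot.root (X ^ e - C s : E[X])}) :=
      IsRegularRing.of_ringEquiv (Groth.Agent.Lib.Helper28.adjoinRootQuotRootEquiv s e he).symm
    exact Groth.Agent.Lib.Helper28.isRegularLocalRing_localization_of_quotient_span_singleton
      _ hrnzd hreg' Q hrootQ
  · -- unramified case
    have hunr := Groth.Agent.Lib.Helper28.formallyUnramified_away_adjoinRoot_X_pow_sub_C s e he heu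
    rw [← Algebra.basicOpen_subset_unramifiedLocus_iff] at hunr
    have hmem : (⟨Q, hQ⟩ : PrimeSpectrum _) ∈
        (PrimeSpectrum.basicOpen (AdjoinRoot.mk (X ^ e - C s : E[X]) (C s)) : Set _) := by
      rw [AdjoinRoot.mk_C]
      exact hsQ
    exact Groth.Agent.Lib.Helper28.isRegularLocalRing_localization_of_isUnramifiedAt Q (hunr hmem)

section Tower

variable (B : Type u) [CommRing B] (u : Bˣ) (d : ℕ)

/-- the root of `X^d - u` is a unit -/
theorem isUnit_root (hd : 0 < d) : IsUnit (AdjoinRoot.root (X ^ d - C (u : B) : B[X])) := by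
  have hrel := Groth.Agent.Lib.Helper28.adjoinRoot_root_pow_eq (u : B) d
  apply IsUnit.of_mul_eq_one
    (AdjoinRoot.root (X ^ d - C (u : B) : B[X]) ^ (d - 1) *
      AdjoinRoot.of (X ^ d - C (u : B) : B[X]) ((u⁻¹ : Bˣ) : B))
  rw [← mul_assoc, mul_pow_sub_one hd.ne', hrel, ← map_mul, Units.mul_inv, map_one]

/-- `B[V]/(V^d - u)` is regular over a regular ring `B` when `d` is invertible. -/
theorem isRegularRing_E [IsRegularRing B] (hd : 0 < d) (hdu : IsUnit (d : B)) :
    IsRegularRing (AdjoinRoot (X ^ d - C (u : B) : B[X])) :=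
  isRegularRing_adjoinRoot_X_pow_sub_C B (u : B) (IsUnit.mem_nonZeroDivisors u.isUnit)
    (isRegularRing_quotient_of_isUnit _ u.isUnit) d hd hdu

/-- `B[V]/(V^d - u, f)` is regular when `B/(f)` is regular and `d` is invertible. -/
theorem isRegularRing_E_quotient [IsNoetherianRing B] (f : B)
    (hreg : IsRegularRing (B ⧸ Ideal.span {f})) (hd : 0 < d) (hdu : IsUnit (d : B)) :
    IsRegularRing (AdjoinRoot (X ^ d - C (u : B) : B[X]) ⧸
      Ideal.span {AdjoinRoot.of (X ^ d - C (u : B) : B[X]) f}) := by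
  have e1 : (AdjoinRoot (X ^ d - C (u : B) : B[X]) ⧸
      (Ideal.span {f}).map (AdjoinRoot.of (X ^ d - C (u : B) : B[X]))) ≃+*
      AdjoinRoot ((X ^ d - C (u : B) : B[X]).map (Ideal.Quotient.mk (Ideal.span {f}))) :=
    AdjoinRoot.quotAdjoinRootEquivQuotPolynomialQuot (Ideal.span {f}) (X ^ d - C (u : B) : B[X])
  have hmap : (X ^ d - C (u : B) : B[X]).map (Ideal.Quotient.mk (Ideal.span {f})) =
      X ^ d - C (Ideal.Quotient.mk (Ideal.span {f}) (u : B)) := by
    simp
  have hI : (Ideal.span {f}).map (AdjoinRoot.of (X ^ d - C (u : B) : B[X])) =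
      Ideal.span {AdjoinRoot.of (X ^ d - C (u : B) : B[X]) f} := by
    rw [Ideal.map_span, Set.image_singleton]
  have hu' : IsUnit (Ideal.Quotient.mk (Ideal.span {f}) (u : B)) := u.isUnit.map _
  have hdu' : IsUnit ((d : ℕ) : B ⧸ Ideal.span {f}) := by
    have := hdu.map (Ideal.Quotient.mk (Ideal.span {f}))
    rwa [map_natCast] at this
  have h2 : IsRegularRing (AdjoinRoot
      ((X ^ d - C (u : B) : B[X]).map (Ideal.Quotient.mk (Ideal.span {f})))) := by
    rw [hmap]
    exact isRegularRing_adjoinRoot_X_pow_sub_C _ _ (IsUnit.mem_nonZeroDivisors hu')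
      (isRegularRing_quotient_of_isUnit _ hu') d hd hdu'
  have h3 : IsRegularRing (AdjoinRoot (X ^ d - C (u : B) : B[X]) ⧸
      (Ideal.span {f}).map (AdjoinRoot.of (X ^ d - C (u : B) : B[X]))) :=
    IsRegularRing.of_ringEquiv e1.symm
  rwa [hI] at h3

/-- **the model ring** `B[V,S]/(V^d - u, S^{N'} - V^a f)` is regular. -/
theorem isRegularRing_A0 [IsDomain B] [IsRegularRing B] (f : B) (hf : f ≠ 0)
    (hreg : IsRegularRing (B ⧸ Ideal.span {f})) (N' a : ℕ) (hd : 0 < d) (hN' : 0 < N')
    (hdu : IsUnit (d : B)) (hNu : IsUnit (N' : B)) :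
    IsRegularRing (AdjoinRoot (X ^ N' - C (AdjoinRoot.root (X ^ d - C (u : B) : B[X]) ^ a *
      AdjoinRoot.of (X ^ d - C (u : B) : B[X]) f) : (AdjoinRoot (X ^ d - C (u : B) : B[X]))[X])) := by
  have hE : IsRegularRing (AdjoinRoot (X ^ d - C (u : B) : B[X])) := isRegularRing_E B u d hd hdu
  have hmonic : (X ^ d - C (u : B) : B[X]).Monic := monic_X_pow_sub_C _ hd.ne'
  have hfree : Module.Free B (AdjoinRoot (X ^ d - C (u : B) : B[X])) := hmonic.free_adjoinRoot
  have hVa : IsUnit (AdjoinRoot.root (X ^ d - C (u : B) : B[X]) ^ a) := (isUnit_root B u d hd).pow a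
  have hnzd : AdjoinRoot.root (X ^ d - C (u : B) : B[X]) ^ a *
      AdjoinRoot.of (X ^ d - C (u : B) : B[X]) f ∈
        nonZeroDivisors (AdjoinRoot (X ^ d - C (u : B) : B[X])) := by
    apply mul_mem (IsUnit.mem_nonZeroDivisors hVa)
    rw [mem_nonZeroDivisors_iff_right]
    intro x hx
    rw [mul_comm, ← AdjoinRoot.algebraMap_eq, ← Algebra.smul_def] at hx
    exact (smul_eq_zero.mp hx).resolve_left hf
  have hspan : Ideal.span {AdjoinRoot.root (X ^ d - C (u : B) : B[X]) ^ a *
      AdjoinRoot.of (X ^ d - C (u : B) : B[X]) f} =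
      Ideal.span {AdjoinRoot.of (X ^ d - C (u : B) : B[X]) f} :=
    Ideal.span_singleton_mul_left_unit hVa _
  have hq : IsRegularRing (AdjoinRoot (X ^ d - C (u : B) : B[X]) ⧸
      Ideal.span {AdjoinRoot.root (X ^ d - C (u : B) : B[X]) ^ a *
        AdjoinRoot.of (X ^ d - C (u : B) : B[X]) f}) := by
    rw [hspan]
    exact isRegularRing_E_quotient B u d f hreg hd hdu
  have hNu' : IsUnit ((N' : ℕ) : AdjoinRoot (X ^ d - C (u : B) : B[X])) := by
    have := hNu.map (AdjoinRoot.of (X ^ d - C (u : B) : B[X]))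
    rwa [map_natCast] at this
  exact isRegularRing_adjoinRoot_X_pow_sub_C _ _ hnzd hq N' hN' hNu'

end Tower

end Groth.Agent.Lib.Helper19CycCov
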