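import Mathlib
import Groth.Agent.Lib.Helper5RLR
import Groth.Agent.Lib.Helper28Catenary

/-!
# Cyclic covers, part B (helper19): a regular ring is integrally closed in `R[1/f]`
-/

set_option autoImplicit false
universe u

open Polynomial

namespace Groth.Agent.Lib.Helper19CycCov

/-- **normality of a regular ring, relative form**: let `R` be a regular ring, `f` a
nonzerodivisor, `φ : R → K` injective with `φ f` a unit.  If `x ∈ K` is integral over `R`
and `φ f ^ m * x ∈ φ(R)`, then `x ∈ φ(R)`. -/
theorem mem_range_of_isIntegralElem {R K : Type u} [CommRing R] [CommRing K] [IsRegularRing R]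
    (φ : R →+* K) (hφ : Function.Injective φ) (f : R) (hf : f ∈ nonZeroDivisors R)
    (hfu : IsUnit (φ f)) (x : K) (hx : φ.IsIntegralElem x) (m : ℕ) (y : R)
    (hy : φ f ^ m * x = φ y) : ∃ z : R, φ z = x := by
  obtain ⟨p, hpm, hpx⟩ := hx
  -- the scaled equation in `R`
  have hq : (scaleRoots p (f ^ m)).eval y = 0 := by
    apply hφ
    rw [map_zero, ← Polynomial.eval₂_at_apply, ← hy, ← map_pow, scaleRoots_eval₂_mul, hpx, mul_zero]
  -- the conductor ideal
  set I : Ideal R := (Ideal.span {f ^ m}).colon {y} with hI
  have hItop : I = ⊤ := by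
    by_contra hne
    obtain ⟨Q, hQ, hIQ⟩ := Ideal.exists_le_maximal I hne
    have hQp : Q.IsPrime := hQ.isPrime
    have hRQ : IsRegularLocalRing (Localization.AtPrime Q) :=
      IsRegularRing.isRegularLocalRing_localization Q
    have hdom : IsDomain (Localization.AtPrime Q) :=
      Groth.Agent.Lib.Helper5.isDomain_of_isRegularLocalRing _
    have hic : IsIntegrallyClosed (Localization.AtPrime Q) :=
      Groth.Agent.Lib.Helper28.isIntegrallyClosed_of_isRegularLocalRing _
    let g : R →+* Localization.AtPrime Q := algebraMap R (Localization.AtPrime Q)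
    let h : Localization.AtPrime Q →+* FractionRing (Localization.AtPrime Q) :=
      algebraMap _ _
    have hgf : g (f ^ m) ≠ 0 := by
      have h1 : g (f ^ m) ∈ nonZeroDivisors (Localization.AtPrime Q) :=
        IsLocalization.map_nonZeroDivisors_le Q.primeCompl _
          (Submonoid.mem_map_of_mem _ (pow_mem hf m))
      exact nonZeroDivisors.ne_zero h1
    have hhgf : h (g (f ^ m)) ≠ 0 := by
      intro h0
      exact hgf ((IsFractionRing.injective (Localization.AtPrime Q)
        (FractionRing (Localization.AtPrime Q))) (by rw [h0, map_zero]))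
    set ξ : FractionRing (Localization.AtPrime Q) := h (g y) / h (g (f ^ m)) with hξ
    have hξmul : (h.comp g) (f ^ m) * ξ = (h.comp g) y := by
      rw [hξ, RingHom.comp_apply, RingHom.comp_apply, mul_div_cancel₀ _ hhgf]
    have hroot : eval₂ (h.comp g) ξ p = 0 := by
      have h1 := scaleRoots_eval₂_mul (p := p) (h.comp g) ξ (f ^ m)
      rw [hξmul, Polynomial.eval₂_at_apply, hq, map_zero] at h1
      have h2 : (h.comp g) (f ^ m) ^ p.natDegree ≠ 0 := pow_ne_zero _ hhgf
      exact (mul_eq_zero.mp h1.symm).resolve_left h2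
    have hint : IsIntegral (Localization.AtPrime Q) ξ := by
      refine ⟨p.map g, hpm.map g, ?_⟩
      rw [Polynomial.eval₂_map]
      exact hroot
    obtain ⟨w, hw⟩ := IsIntegrallyClosed.isIntegral_iff.mp hint
    have hw2 : w * g (f ^ m) = g y := by
      apply IsFractionRing.injective (Localization.AtPrime Q)
        (FractionRing (Localization.AtPrime Q))
      rw [map_mul, hw, hξ]
      exact div_mul_cancel₀ _ hhgf
    obtain ⟨⟨z, c⟩, hzc⟩ := IsLocalization.surj Q.primeCompl w
    have h3 : g ((c : R) * y) = g (f ^ m * z) := by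
      rw [map_mul, map_mul, ← hw2]
      have : w * g (c : R) = g z := hzc
      rw [← this]
      ring
    obtain ⟨c', hc'⟩ := (IsLocalization.eq_iff_exists Q.primeCompl _).mp h3
    have hmem : (c' : R) * (c : R) ∈ I := by
      rw [hI, Submodule.mem_colon_singleton, smul_eq_mul, Ideal.mem_span_singleton']
      exact ⟨(c' : R) * z, by linear_combination (-1 : R) * hc'⟩
    have := hIQ hmem
    rcases hQp.mem_or_mem this with h4 | h4
    · exact c'.2 h4
    · exact c.2 h4
  have h1 : (1 : R) ∈ I := by rw [hItop]; exact Submodule.mem_top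
  rw [hI, Submodule.mem_colon_singleton, one_smul, Ideal.mem_span_singleton'] at h1
  obtain ⟨z, hz⟩ := h1
  refine ⟨z, ?_⟩
  have h2 : φ f ^ m * φ z = φ f ^ m * x := by
    rw [hy, ← hz, map_mul, map_pow, mul_comm]
  exact (hfu.pow m).mul_left_cancel h2

end Groth.Agent.Lib.Helper19CycCov
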