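import Mathlib
import Groth.Agent.Lib.Helper19CycCovA

/-!
# Cyclic covers, part C (helper19): the model ring `B[V,S]/(V^d - u, S^{N'} - V^a f)` and its
embedding into `B[t]/(t^N - u f^α)[1/f]`
-/

set_option autoImplicit false
universe u

open Polynomial

namespace Groth.Agent.Lib.Helper19CycCov

/-- exponent bookkeeping for a unit `F` with inverse `Fi` -/
theorem pow_mul_inv_pow_eq {K : Type*} [CommRing K] {F Fi : K} (h : F * Fi = 1) {x y x' y' : ℕ}
    (hxy : x + y' = x' + y) : F ^ x * Fi ^ y = F ^ x' * Fi ^ y' := by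
  calc F ^ x * Fi ^ y = F ^ x * Fi ^ y * (F * Fi) ^ y' := by rw [h, one_pow, mul_one]
    _ = F ^ (x + y') * Fi ^ (y + y') := by ring
    _ = F ^ (x' + y) * Fi ^ (y + y') := by rw [hxy]
    _ = F ^ x' * Fi ^ y' * (F * Fi) ^ y := by ring
    _ = F ^ x' * Fi ^ y' := by rw [h, one_pow, mul_one]

section Model

variable (B : Type u) [CommRing B] (u : Bˣ) (f₁ : B) (d N' a : ℕ)

/-- `E = B[V]/(V^d - u)` -/
noncomputable abbrev EE := AdjoinRoot (X ^ d - C (u : B) : B[X])

/-- `V^a f₁ ∈ E` -/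
noncomputable def sE : EE B u d :=
  AdjoinRoot.root (X ^ d - C (u : B) : B[X]) ^ a * AdjoinRoot.of _ f₁

/-- the model ring `A₀ = E[S]/(S^{N'} - V^a f₁)` -/
noncomputable abbrev A0 := AdjoinRoot (X ^ N' - C (sE B u f₁ d a) : (EE B u d)[X])

/-- `V` in `A₀` -/
noncomputable abbrev VV : A0 B u f₁ d N' a := AdjoinRoot.of _ (AdjoinRoot.root (X ^ d - C (u : B) : B[X]))

/-- `V⁻¹` in `A₀` -/
noncomputable abbrev Vi : A0 B u f₁ d N' a :=
  AdjoinRoot.of _ (AdjoinRoot.root (X ^ d - C (u : B) : B[X]) ^ (d - 1) *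
    AdjoinRoot.of (X ^ d - C (u : B) : B[X]) ((u⁻¹ : Bˣ) : B))

/-- `S` in `A₀` -/
noncomputable abbrev SS : A0 B u f₁ d N' a := AdjoinRoot.root _

variable {B u f₁ d N' a}

theorem VV_pow_d : VV B u f₁ d N' a ^ d = algebraMap B _ (u : B) := by
  have hrel := Groth.Agent.Lib.Helper28.adjoinRoot_root_pow_eq (u : B) d
  rw [VV, ← map_pow, hrel]
  rfl

theorem VV_mul_Vi (hd : 0 < d) : VV B u f₁ d N' a * Vi B u f₁ d N' a = 1 := by
  have hrel := Groth.Agent.Lib.Helper28.adjoinRoot_root_pow_eq (u : B) d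
  rw [VV, Vi, ← map_mul, ← mul_assoc, mul_pow_sub_one hd.ne', hrel, ← map_mul, Units.mul_inv,
    map_one, map_one]

theorem SS_pow : SS B u f₁ d N' a ^ N' = VV B u f₁ d N' a ^ a * algebraMap B _ f₁ := by
  have hrel := Groth.Agent.Lib.Helper28.adjoinRoot_root_pow_eq (sE B u f₁ d a) N'
  rw [SS, hrel]
  unfold sE
  rw [map_mul, map_pow]
  rfl

/-- generation of the model ring -/
theorem eq_top_of_mem (T : Subalgebra B (A0 B u f₁ d N' a)) (hV : VV B u f₁ d N' a ∈ T)
    (hS : SS B u f₁ d N' a ∈ T) : T = ⊤ := by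
  rw [eq_top_iff]
  rintro x -
  have hE : ∀ c : EE B u d, AdjoinRoot.of (X ^ N' - C (sE B u f₁ d a)) c ∈ T := by
    intro c
    induction c using AdjoinRoot.induction_on with
    | ih p =>
      induction p using Polynomial.induction_on' with
      | add p q hp hq =>
        rw [map_add, map_add]
        exact T.add_mem hp hq
      | monomial n b =>
        rw [← C_mul_X_pow_eq_monomial, map_mul, map_pow, AdjoinRoot.mk_C, AdjoinRoot.mk_X, map_mul,
          map_pow]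
        exact T.mul_mem (T.algebraMap_mem b) (T.pow_mem hV n)
  induction x using AdjoinRoot.induction_on with
  | ih p =>
    induction p using Polynomial.induction_on' with
    | add p q hp hq =>
      rw [map_add]
      exact T.add_mem hp hq
    | monomial n c =>
      rw [← C_mul_X_pow_eq_monomial, map_mul, map_pow, AdjoinRoot.mk_C, AdjoinRoot.mk_X]
      exact T.mul_mem (hE c) (T.pow_mem hS n)

end Model

/-- numerical data: `N = d N'`, `α = d α'`, `a α' = e N' + 1` -/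
structure Params (N α d N' α' a e : ℕ) : Prop where
  hN : N = d * N'
  hα : α = d * α'
  hbez : a * α' = e * N' + 1
  hd : 0 < d
  hN' : 0 < N'

section Maps

variable {B : Type u} [CommRing B] (u : Bˣ) (f₁ : B) (N α d N' α' a e : ℕ)

/-- `A' = B[t]/(t^N - u f₁^α)` -/
noncomputable abbrev AA := AdjoinRoot (X ^ N - C ((u : B) * f₁ ^ α) : B[X])

variable {K : Type u} [CommRing K] [Algebra B K]
variable (ι : AA u f₁ N α →ₐ[B] K) (Fi : K)

/-- `t ∈ K` -/
noncomputable abbrev tK : K := ι (AdjoinRoot.root _)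

/-- `v = t^{N'} f₁^{-α'}` -/
noncomputable def vK : K := tK u f₁ N α ι ^ N' * Fi ^ α'

/-- `s = t^a f₁^{-e}` -/
noncomputable def sK : K := tK u f₁ N α ι ^ a * Fi ^ e

variable {u f₁ N α d N' α' a e ι Fi}

theorem tK_pow : tK u f₁ N α ι ^ N = algebraMap B K (u : B) * algebraMap B K f₁ ^ α := by
  have hrel := Groth.Agent.Lib.Helper28.adjoinRoot_root_pow_eq ((u : B) * f₁ ^ α) N
  rw [tK, ← map_pow, hrel, ← AdjoinRoot.algebraMap_eq, AlgHom.commutes, map_mul, map_pow]

theorem vK_pow (hP : Params N α d N' α' a e) (hF : algebraMap B K f₁ * Fi = 1) :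
    vK u f₁ N α N' α' ι Fi ^ d = algebraMap B K (u : B) := by
  have hN : N' * d = N := by rw [hP.hN, mul_comm]
  have hα : α' * d = α := by rw [hP.hα, mul_comm]
  have h1 : (tK u f₁ N α ι ^ N') ^ d = tK u f₁ N α ι ^ N := by
    rw [← pow_mul, hN]
  have h2 : (Fi ^ α') ^ d = Fi ^ α := by
    rw [← pow_mul, hα]
  rw [vK, mul_pow, h1, h2, tK_pow, mul_assoc,
    pow_mul_inv_pow_eq hF (x' := 0) (y' := 0) (by ring), pow_zero, pow_zero, mul_one, mul_one]

theorem sK_pow (hP : Params N α d N' α' a e) (hF : algebraMap B K f₁ * Fi = 1) :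
    sK u f₁ N α a e ι Fi ^ N' = vK u f₁ N α N' α' ι Fi ^ a * algebraMap B K f₁ := by
  have h1 : (Fi ^ α') ^ a * algebraMap B K f₁ = (Fi ^ e) ^ N' := by
    rw [← pow_mul, ← pow_mul, mul_comm]
    have := pow_mul_inv_pow_eq hF (x := 1) (y := α' * a) (x' := 0) (y' := e * N')
      (by rw [mul_comm α' a, hP.hbez]; ring)
    rw [pow_one, pow_zero, one_mul] at this
    exact this
  rw [sK, vK, mul_pow, mul_pow, mul_assoc, h1]
  congr 1
  rw [← pow_mul, ← pow_mul, mul_comm]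

variable (u f₁ N α d N' α' a e ι Fi)

/-- `E → K`, `V ↦ v` -/
noncomputable def phiE (hP : Params N α d N' α' a e) (hF : algebraMap B K f₁ * Fi = 1) :
    EE B u d →ₐ[B] K :=
  AdjoinRoot.liftAlgHom _ (Algebra.ofId B K) (vK u f₁ N α N' α' ι Fi) (by
    rw [eval₂_sub, eval₂_pow, eval₂_X, eval₂_C, vK_pow hP hF]
    exact sub_self _)

theorem phiE_root (hP : Params N α d N' α' a e) (hF : algebraMap B K f₁ * Fi = 1) :
    phiE u f₁ N α d N' α' a e ι Fi hP hF (AdjoinRoot.root _) = vK u f₁ N α N' α' ι Fi := by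
  rw [phiE, AdjoinRoot.liftAlgHom_root]

theorem phiE_sE (hP : Params N α d N' α' a e) (hF : algebraMap B K f₁ * Fi = 1) :
    phiE u f₁ N α d N' α' a e ι Fi hP hF (sE B u f₁ d a) =
      vK u f₁ N α N' α' ι Fi ^ a * algebraMap B K f₁ := by
  unfold sE
  rw [map_mul, map_pow, phiE_root, ← AdjoinRoot.algebraMap_eq, AlgHom.commutes]

/-- `A₀ → K`, `V ↦ v`, `S ↦ s` -/
noncomputable def phi (hP : Params N α d N' α' a e) (hF : algebraMap B K f₁ * Fi = 1) :
    A0 B u f₁ d N' a →ₐ[B] K :=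
  AdjoinRoot.liftAlgHom _ (phiE u f₁ N α d N' α' a e ι Fi hP hF) (sK u f₁ N α a e ι Fi) (by
    rw [eval₂_sub, eval₂_pow, eval₂_X, eval₂_C, sK_pow hP hF]
    change _ - phiE u f₁ N α d N' α' a e ι Fi hP hF (sE B u f₁ d a) = 0
    rw [phiE_sE]
    exact sub_self _)

theorem phi_SS (hP : Params N α d N' α' a e) (hF : algebraMap B K f₁ * Fi = 1) :
    phi u f₁ N α d N' α' a e ι Fi hP hF (SS B u f₁ d N' a) = sK u f₁ N α a e ι Fi := by
  rw [phi, AdjoinRoot.liftAlgHom_root]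

theorem phi_of (hP : Params N α d N' α' a e) (hF : algebraMap B K f₁ * Fi = 1) (c : EE B u d) :
    phi u f₁ N α d N' α' a e ι Fi hP hF (AdjoinRoot.of _ c) =
      phiE u f₁ N α d N' α' a e ι Fi hP hF c := by
  rw [phi, AdjoinRoot.liftAlgHom_of]

theorem phi_VV (hP : Params N α d N' α' a e) (hF : algebraMap B K f₁ * Fi = 1) :
    phi u f₁ N α d N' α' a e ι Fi hP hF (VV B u f₁ d N' a) = vK u f₁ N α N' α' ι Fi := by
  rw [VV, phi_of, phiE_root]

end Maps

section Psi

variable {B : Type u} [CommRing B] (u : Bˣ) (f₁ : B) (N α d N' α' a e : ℕ)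

/-- `τ = S^{α'} V^{-e}`, the image of `t` in the model ring -/
noncomputable def tau : A0 B u f₁ d N' a := SS B u f₁ d N' a ^ α' * Vi B u f₁ d N' a ^ e

variable {u f₁ N α d N' α' a e}

theorem tau_pow_N' (hP : Params N α d N' α' a e) :
    tau u f₁ d N' α' a e ^ N' = VV B u f₁ d N' a * algebraMap B _ f₁ ^ α' := by
  have hVVi := VV_mul_Vi (B := B) (u := u) (f₁ := f₁) (N' := N') (a := a) hP.hd
  have h1 := pow_mul_inv_pow_eq hVVi (x := a * α') (y := e * N') (x' := 1) (y' := 0)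
    (by rw [hP.hbez]; ring)
  rw [pow_one, pow_zero, mul_one] at h1
  have hS : (SS B u f₁ d N' a ^ α') ^ N' =
      VV B u f₁ d N' a ^ (a * α') * algebraMap B _ f₁ ^ α' := by
    rw [← pow_mul, mul_comm α' N', pow_mul, SS_pow, mul_pow, ← pow_mul]
  rw [tau, mul_pow, hS, ← pow_mul]
  calc VV B u f₁ d N' a ^ (a * α') * algebraMap B _ f₁ ^ α' * Vi B u f₁ d N' a ^ (e * N')
      = (VV B u f₁ d N' a ^ (a * α') * Vi B u f₁ d N' a ^ (e * N')) *
          algebraMap B _ f₁ ^ α' := by ring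
    _ = _ := by rw [h1]

theorem tau_pow_a (hP : Params N α d N' α' a e) :
    tau u f₁ d N' α' a e ^ a = SS B u f₁ d N' a * algebraMap B _ f₁ ^ e := by
  have hVVi := VV_mul_Vi (B := B) (u := u) (f₁ := f₁) (N' := N') (a := a) hP.hd
  have h1 := pow_mul_inv_pow_eq hVVi (x := a * e) (y := e * a) (x' := 0) (y' := 0)
    (by ring)
  rw [pow_zero, pow_zero, mul_one] at h1
  have h2 : SS B u f₁ d N' a ^ (α' * a) =
      SS B u f₁ d N' a * (SS B u f₁ d N' a ^ N') ^ e := by
    rw [mul_comm α' a, hP.hbez, pow_succ, mul_comm, ← pow_mul, mul_comm N' e]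
  rw [tau, mul_pow, ← pow_mul, ← pow_mul, h2, SS_pow, mul_pow, ← pow_mul]
  calc SS B u f₁ d N' a * (VV B u f₁ d N' a ^ (a * e) * algebraMap B _ f₁ ^ e) *
        Vi B u f₁ d N' a ^ (e * a)
      = SS B u f₁ d N' a * algebraMap B _ f₁ ^ e *
          (VV B u f₁ d N' a ^ (a * e) * Vi B u f₁ d N' a ^ (e * a)) := by ring
    _ = _ := by rw [h1, mul_one]

theorem tau_pow_N (hP : Params N α d N' α' a e) :
    tau u f₁ d N' α' a e ^ N = algebraMap B (A0 B u f₁ d N' a) ((u : B) * f₁ ^ α) := by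
  have hN : N' * d = N := by rw [hP.hN, mul_comm]
  have hα : α' * d = α := by rw [hP.hα, mul_comm]
  rw [← hN, pow_mul, tau_pow_N' hP, mul_pow, VV_pow_d, ← pow_mul, hα, map_mul, map_pow]

variable (u f₁ N α d N' α' a e)

/-- `ψ : A' → A₀`, `t ↦ τ` -/
noncomputable def psi (hP : Params N α d N' α' a e) : AA u f₁ N α →ₐ[B] A0 B u f₁ d N' a :=
  AdjoinRoot.liftAlgHom _ (Algebra.ofId B _) (tau u f₁ d N' α' a e) (by
    rw [eval₂_sub, eval₂_pow, eval₂_X, eval₂_C, tau_pow_N hP]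
    exact sub_self _)

theorem psi_root (hP : Params N α d N' α' a e) :
    psi u f₁ N α d N' α' a e hP (AdjoinRoot.root _) = tau u f₁ d N' α' a e := by
  rw [psi, AdjoinRoot.liftAlgHom_root]

/-- every element of the model ring becomes an element of `ψ(A')` after multiplication by a
power of `f₁` -/
theorem exists_pow_mul_eq_psi (hP : Params N α d N' α' a e) (x : A0 B u f₁ d N' a) :
    ∃ (m : ℕ) (y : AA u f₁ N α),
      algebraMap B (A0 B u f₁ d N' a) (f₁ ^ m) * x = psi u f₁ N α d N' α' a e hP y := by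
  let T : Subalgebra B (A0 B u f₁ d N' a) :=
    { carrier := {x | ∃ (m : ℕ) (y : AA u f₁ N α),
        algebraMap B (A0 B u f₁ d N' a) (f₁ ^ m) * x = psi u f₁ N α d N' α' a e hP y}
      mul_mem' := by
        rintro x₁ x₂ ⟨m₁, y₁, h₁⟩ ⟨m₂, y₂, h₂⟩
        refine ⟨m₁ + m₂, y₁ * y₂, ?_⟩
        rw [map_mul (psi u f₁ N α d N' α' a e hP), ← h₁, ← h₂, pow_add,
          map_mul (algebraMap B (A0 B u f₁ d N' a))]
        ring
      add_mem' := by
        rintro x₁ x₂ ⟨m₁, y₁, h₁⟩ ⟨m₂, y₂, h₂⟩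
        refine ⟨m₁ + m₂, algebraMap B _ (f₁ ^ m₂) * y₁ + algebraMap B _ (f₁ ^ m₁) * y₂, ?_⟩
        rw [map_add (psi u f₁ N α d N' α' a e hP), map_mul (psi u f₁ N α d N' α' a e hP),
          map_mul (psi u f₁ N α d N' α' a e hP), ← h₁, ← h₂,
          (psi u f₁ N α d N' α' a e hP).commutes,
          (psi u f₁ N α d N' α' a e hP).commutes, pow_add,
          map_mul (algebraMap B (A0 B u f₁ d N' a))]
        ring
      algebraMap_mem' := by
        intro b
        refine ⟨0, algebraMap B _ b, ?_⟩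
        rw [pow_zero, map_one, one_mul, (psi u f₁ N α d N' α' a e hP).commutes] }
  have hT : T = ⊤ := by
    apply eq_top_of_mem
    · refine ⟨α', AdjoinRoot.root _ ^ N', ?_⟩
      rw [map_pow (psi u f₁ N α d N' α' a e hP), psi_root, tau_pow_N' hP, map_pow, mul_comm]
    · refine ⟨e, AdjoinRoot.root _ ^ a, ?_⟩
      rw [map_pow (psi u f₁ N α d N' α' a e hP), psi_root, tau_pow_a hP, map_pow, mul_comm]
  have : x ∈ T := by rw [hT]; exact Algebra.mem_top
  exact this

end Psi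

end Groth.Agent.Lib.Helper19CycCov
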