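import Mathlib
import Groth.Agent.Lib.Helper19CycCovC

/-!
# Cyclic covers, part D (helper19): the model ring embeds in `K` with image the subalgebra
generated by the `t^i f₁^{-⌊iα/N⌋}`
-/

set_option autoImplicit false
universe u

open Polynomial

namespace Groth.Agent.Lib.Helper19CycCov

section ModelProps

variable {B : Type u} [CommRing B] (u : Bˣ) (f₁ : B) (d N' a : ℕ)

theorem free_EE (hd : 0 < d) : Module.Free B (EE B u d) :=
  (monic_X_pow_sub_C _ hd.ne').free_adjoinRoot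

theorem finite_EE (hd : 0 < d) : Module.Finite B (EE B u d) :=
  (monic_X_pow_sub_C _ hd.ne').finite_adjoinRoot

theorem flat_A0 (hd : 0 < d) (hN' : 0 < N') : Module.Flat B (A0 B u f₁ d N' a) := by
  have h1 : Module.Free B (EE B u d) := free_EE u d hd
  have h2 : Module.Free (EE B u d) (A0 B u f₁ d N' a) :=
    (monic_X_pow_sub_C _ hN'.ne').free_adjoinRoot
  exact Module.Flat.trans B (EE B u d) _

theorem finite_A0 (hd : 0 < d) (hN' : 0 < N') : Module.Finite B (A0 B u f₁ d N' a) := by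
  have h1 : Module.Finite B (EE B u d) := finite_EE u d hd
  have h2 : Module.Finite (EE B u d) (A0 B u f₁ d N' a) :=
    (monic_X_pow_sub_C _ hN'.ne').finite_adjoinRoot
  exact Module.Finite.trans (EE B u d) _

theorem algebraMap_mem_nonZeroDivisors_of_flat {A : Type u} [CommRing A] [Algebra B A]
    [Module.Flat B A] [IsDomain B] {f : B} (hf : f ≠ 0) : algebraMap B A f ∈ nonZeroDivisors A := by
  have hsr : IsSMulRegular B f := fun x y hxy => mul_left_cancel₀ hf hxy
  have h3 : IsSMulRegular A (algebraMap B A f) := hsr.of_flat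
  rw [mem_nonZeroDivisors_iff_right]
  intro x hx
  exact h3.right_eq_zero_of_smul (by rw [smul_eq_mul, mul_comm]; exact hx)

end ModelProps

section Comp

variable {B : Type u} [CommRing B] (u : Bˣ) (f₁ : B) (N α d N' α' a e : ℕ)
variable {K : Type u} [CommRing K] [Algebra B K]
variable (ι : AA u f₁ N α →ₐ[B] K) (Fi : K)

theorem vK_mul_phi_Vi (hP : Params N α d N' α' a e) (hF : algebraMap B K f₁ * Fi = 1) :
    vK u f₁ N α N' α' ι Fi * phi u f₁ N α d N' α' a e ι Fi hP hF (Vi B u f₁ d N' a) = 1 := by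
  rw [← phi_VV u f₁ N α d N' α' a e ι Fi hP hF, ← map_mul, VV_mul_Vi hP.hd, map_one]

theorem sK_pow_α' (hP : Params N α d N' α' a e) :
    sK u f₁ N α a e ι Fi ^ α' = tK u f₁ N α ι * vK u f₁ N α N' α' ι Fi ^ e := by
  rw [sK, vK, mul_pow, mul_pow, ← pow_mul, ← pow_mul, ← pow_mul, ← pow_mul, hP.hbez, pow_succ,
    mul_comm N' e, mul_comm α' e]
  ring

theorem phi_tau (hP : Params N α d N' α' a e) (hF : algebraMap B K f₁ * Fi = 1) :
    phi u f₁ N α d N' α' a e ι Fi hP hF (tau u f₁ d N' α' a e) = tK u f₁ N α ι := by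
  rw [tau, map_mul, map_pow, map_pow, phi_SS, sK_pow_α' u f₁ N α d N' α' a e ι Fi hP, mul_assoc,
    ← mul_pow, vK_mul_phi_Vi, one_pow, mul_one]

theorem phi_comp_psi (hP : Params N α d N' α' a e) (hF : algebraMap B K f₁ * Fi = 1) :
    (phi u f₁ N α d N' α' a e ι Fi hP hF).comp (psi u f₁ N α d N' α' a e hP) = ι := by
  apply AdjoinRoot.algHom_ext
  rw [AlgHom.comp_apply, psi_root, phi_tau]

theorem phi_injective [IsDomain B] (hf : f₁ ≠ 0) (hP : Params N α d N' α' a e)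
    (hF : algebraMap B K f₁ * Fi = 1) (hι : Function.Injective ι) :
    Function.Injective (phi u f₁ N α d N' α' a e ι Fi hP hF) := by
  rw [injective_iff_map_eq_zero]
  intro x hx
  obtain ⟨m, y, hy⟩ := exists_pow_mul_eq_psi u f₁ N α d N' α' a e hP x
  have h1 : ι y = 0 := by
    rw [← phi_comp_psi u f₁ N α d N' α' a e ι Fi hP hF, AlgHom.comp_apply, ← hy, map_mul, hx,
      mul_zero]
  have h2 : y = 0 := by
    apply hι
    rw [h1, map_zero]
  rw [h2, map_zero] at hy
  have := flat_A0 u f₁ d N' a hP.hd hP.hN'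
  have hnzd : algebraMap B (A0 B u f₁ d N' a) (f₁ ^ m) ∈ nonZeroDivisors _ :=
    algebraMap_mem_nonZeroDivisors_of_flat (pow_ne_zero m hf)
  exact (mem_nonZeroDivisors_iff_right.mp hnzd) x (by rw [mul_comm]; exact hy)

end Comp

section Range

variable {B : Type u} [CommRing B] (u : Bˣ) (f₁ : B) (N α d N' α' a e : ℕ)
variable {K : Type u} [CommRing K] [Algebra B K]
variable (ι : AA u f₁ N α →ₐ[B] K) (Fi : K)

/-- the subalgebra generated by the `t^i f₁^{-⌊iα/N⌋}`, `i < N` -/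
noncomputable def genAlg : Subalgebra B K :=
  Algebra.adjoin B (Set.range fun i : Fin N =>
    ι (AdjoinRoot.root (X ^ N - C ((u : B) * f₁ ^ α) : B[X]) ^ (i : ℕ)) * Fi ^ ((i : ℕ) * α / N))

theorem pow_mul_pow_mem_genAlg (hN : 0 < N) (hF : algebraMap B K f₁ * Fi = 1) (i j : ℕ)
    (hj : j ≤ i * α / N) : tK u f₁ N α ι ^ i * Fi ^ j ∈ genAlg u f₁ N α ι Fi := by
  set q := i / N with hq
  set r := i % N with hr
  have hi : N * q + r = i := Nat.div_add_mod i N
  have hrN : r < N := Nat.mod_lt i hN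
  set c := r * α / N with hc
  have hdiv : i * α / N = c + q * α := by
    rw [← hi, add_mul, add_comm, mul_assoc, Nat.add_mul_div_left _ _ hN]
  obtain ⟨k, hk⟩ := Nat.exists_eq_add_of_le (hdiv ▸ hj)
  have hgen : ι (AdjoinRoot.root (X ^ N - C ((u : B) * f₁ ^ α) : B[X]) ^ r) * Fi ^ c ∈
      genAlg u f₁ N α ι Fi := Algebra.subset_adjoin ⟨⟨r, hrN⟩, rfl⟩
  have hid : tK u f₁ N α ι ^ i * Fi ^ j = algebraMap B K ((u : B) ^ q * f₁ ^ k) *
      (ι (AdjoinRoot.root (X ^ N - C ((u : B) * f₁ ^ α) : B[X]) ^ r) * Fi ^ c) := by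
    have h1 := pow_mul_inv_pow_eq hF (x := α * q) (y := j) (x' := k) (y' := c)
      (by rw [mul_comm α q]; omega)
    rw [map_pow ι, ← hi, pow_add, pow_mul, tK_pow, mul_pow, ← pow_mul, map_mul, map_pow, map_pow]
    calc algebraMap B K (u : B) ^ q * algebraMap B K f₁ ^ (α * q) * tK u f₁ N α ι ^ r * Fi ^ j
        = algebraMap B K (u : B) ^ q * tK u f₁ N α ι ^ r *
            (algebraMap B K f₁ ^ (α * q) * Fi ^ j) := by ring
      _ = _ := by rw [h1]; ring
  rw [hid]
  exact Subalgebra.mul_mem _ (Subalgebra.algebraMap_mem _ _) hgen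

theorem vK_mem_genAlg (hP : Params N α d N' α' a e) (hF : algebraMap B K f₁ * Fi = 1) :
    vK u f₁ N α N' α' ι Fi ∈ genAlg u f₁ N α ι Fi := by
  have hN : 0 < N := by rw [hP.hN]; exact Nat.mul_pos hP.hd hP.hN'
  apply pow_mul_pow_mem_genAlg u f₁ N α ι Fi hN hF
  rw [Nat.le_div_iff_mul_le hN, hP.hN, hP.hα]
  exact le_of_eq (by ring)

theorem sK_mem_genAlg (hP : Params N α d N' α' a e) (hF : algebraMap B K f₁ * Fi = 1) :
    sK u f₁ N α a e ι Fi ∈ genAlg u f₁ N α ι Fi := by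
  have hN : 0 < N := by rw [hP.hN]; exact Nat.mul_pos hP.hd hP.hN'
  apply pow_mul_pow_mem_genAlg u f₁ N α ι Fi hN hF
  rw [Nat.le_div_iff_mul_le hN, hP.hN, hP.hα]
  calc e * (d * N') = d * (e * N') := by ring
    _ ≤ d * (e * N' + 1) := Nat.mul_le_mul_left d (Nat.le_succ _)
    _ = d * (a * α') := by rw [hP.hbez]
    _ = a * (d * α') := by ring

theorem gen_mem_range (hP : Params N α d N' α' a e) (hF : algebraMap B K f₁ * Fi = 1) (i : ℕ) :
    ι (AdjoinRoot.root (X ^ N - C ((u : B) * f₁ ^ α) : B[X]) ^ i) * Fi ^ (i * α / N) ∈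
      (phi u f₁ N α d N' α' a e ι Fi hP hF).range := by
  set c := i * α / N with hc
  set r := i * α' % N' with hr
  have hc' : c = i * α' / N' := by
    rw [hc, hP.hN, hP.hα, mul_left_comm, Nat.mul_div_mul_left _ _ hP.hd]
  have hdm : N' * c + r = i * α' := by
    rw [hc', hr]
    exact Nat.div_add_mod _ _
  have hbez := hP.hbez
  -- exponent identities
  have he1 : i + N' * (i * e) = a * r + N' * (a * c) := by
    zify at hbez hdm ⊢
    linear_combination (-(i : ℤ)) * hbez - (a : ℤ) * hdm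
  have he2 : c + α' * (i * e) = e * r + α' * (a * c) := by
    zify at hbez hdm ⊢
    linear_combination (-(c : ℤ)) * hbez - (e : ℤ) * hdm
  have hid : ι (AdjoinRoot.root (X ^ N - C ((u : B) * f₁ ^ α) : B[X]) ^ i) * Fi ^ c *
      vK u f₁ N α N' α' ι Fi ^ (i * e) =
      sK u f₁ N α a e ι Fi ^ r * vK u f₁ N α N' α' ι Fi ^ (a * c) := by
    rw [map_pow ι, sK, vK, mul_pow, mul_pow, mul_pow, ← pow_mul, ← pow_mul, ← pow_mul, ← pow_mul,
      ← pow_mul, ← pow_mul]
    calc tK u f₁ N α ι ^ i * Fi ^ c * (tK u f₁ N α ι ^ (N' * (i * e)) * Fi ^ (α' * (i * e)))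
        = tK u f₁ N α ι ^ (i + N' * (i * e)) * Fi ^ (c + α' * (i * e)) := by ring
      _ = tK u f₁ N α ι ^ (a * r + N' * (a * c)) * Fi ^ (e * r + α' * (a * c)) := by
          rw [he1, he2]
      _ = _ := by ring
  rw [AlgHom.mem_range]
  refine ⟨SS B u f₁ d N' a ^ r * VV B u f₁ d N' a ^ (a * c) * Vi B u f₁ d N' a ^ (i * e), ?_⟩
  have hvv := vK_mul_phi_Vi u f₁ N α d N' α' a e ι Fi hP hF
  rw [map_mul, map_mul, map_pow, map_pow, map_pow, phi_SS, phi_VV, ← hid]
  calc ι (AdjoinRoot.root (X ^ N - C ((u : B) * f₁ ^ α) : B[X]) ^ i) * Fi ^ c *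
        vK u f₁ N α N' α' ι Fi ^ (i * e) *
        phi u f₁ N α d N' α' a e ι Fi hP hF (Vi B u f₁ d N' a) ^ (i * e)
      = ι (AdjoinRoot.root (X ^ N - C ((u : B) * f₁ ^ α) : B[X]) ^ i) * Fi ^ c *
        (vK u f₁ N α N' α' ι Fi *
          phi u f₁ N α d N' α' a e ι Fi hP hF (Vi B u f₁ d N' a)) ^ (i * e) := by ring
    _ = _ := by rw [hvv, one_pow, mul_one]

theorem phi_range (hP : Params N α d N' α' a e) (hF : algebraMap B K f₁ * Fi = 1) :
    (phi u f₁ N α d N' α' a e ι Fi hP hF).range = genAlg u f₁ N α ι Fi := by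
  apply le_antisymm
  · have hT : Subalgebra.comap (phi u f₁ N α d N' α' a e ι Fi hP hF) (genAlg u f₁ N α ι Fi) = ⊤ := by
      apply eq_top_of_mem
      · rw [Subalgebra.mem_comap, phi_VV]
        exact vK_mem_genAlg u f₁ N α d N' α' a e ι Fi hP hF
      · rw [Subalgebra.mem_comap, phi_SS]
        exact sK_mem_genAlg u f₁ N α d N' α' a e ι Fi hP hF
    rintro _ ⟨x, rfl⟩
    have : x ∈ Subalgebra.comap (phi u f₁ N α d N' α' a e ι Fi hP hF) (genAlg u f₁ N α ι Fi) := by
      rw [hT]; exact Algebra.mem_top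
    exact this
  · rw [genAlg, Algebra.adjoin_le_iff]
    rintro _ ⟨i, rfl⟩
    exact gen_mem_range u f₁ N α d N' α' a e ι Fi hP hF i

end Range

end Groth.Agent.Lib.Helper19CycCov
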