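import Mathlib
import Groth.Agent.Lib.Helper19CycCovB
import Groth.Agent.Lib.Helper19CycCovD

/-!
# Cyclic covers, part E (helper19): assembly
-/

set_option autoImplicit false
universe u

open Polynomial

namespace Groth.Agent.Lib.Helper19CycCov

/-- Bezout data for the exponents -/
theorem exists_params (N α : ℕ) (hN : 0 < N) (hα : 0 < α) :
    ∃ d N' α' a e, Params N α d N' α' a e := by
  set d := Nat.gcd α N with hd
  have hdpos : 0 < d := Nat.gcd_pos_of_pos_right α hN
  have hNd : N = d * (N / d) := (Nat.mul_div_cancel' (Nat.gcd_dvd_right α N)).symm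
  have hαd : α = d * (α / d) := (Nat.mul_div_cancel' (Nat.gcd_dvd_left α N)).symm
  have hcop : Nat.Coprime (α / d) (N / d) := Nat.coprime_div_gcd_div_gcd hdpos
  have hN'pos : 0 < N / d := Nat.div_pos (Nat.le_of_dvd hN (Nat.gcd_dvd_right α N)) hdpos
  have hα'pos : 0 < α / d := Nat.div_pos (Nat.le_of_dvd hα (Nat.gcd_dvd_left α N)) hdpos
  rcases Nat.lt_or_ge 1 (N / d) with h1 | h1
  · obtain ⟨m, -, hm⟩ := Nat.exists_mul_mod_eq_one_of_coprime hcop h1
    refine ⟨d, N / d, α / d, m, (α / d) * m / (N / d), hNd, hαd, ?_, hdpos, hN'pos⟩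
    have := Nat.div_add_mod ((α / d) * m) (N / d)
    rw [hm] at this
    calc m * (α / d) = α / d * m := mul_comm _ _
      _ = N / d * (α / d * m / (N / d)) + 1 := this.symm
      _ = _ := by rw [mul_comm]
  · have h2 : N / d = 1 := le_antisymm h1 hN'pos
    refine ⟨d, N / d, α / d, 1, α / d - 1, hNd, hαd, ?_, hdpos, hN'pos⟩
    rw [h2]
    omega

/-- **abstract assembly**: a regular finite model `A₀` embedded in `K` with image `A`. -/
theorem final_of_model {B A' K : Type u} [CommRing B] [CommRing A'] [CommRing K] [Algebra B A']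
    [Algebra B K] [Algebra A' K] [IsScalarTower B A' K] (A : Subalgebra B K)
    (A₀ : Type u) [CommRing A₀] [Algebra B A₀] (hreg : IsRegularRing A₀)
    (hfin : Module.Finite B A₀) (φ : A₀ →ₐ[B] K) (hφ : Function.Injective φ) (ψ : A' →ₐ[B] A₀)
    (hφψ : ∀ y, φ (ψ y) = algebraMap A' K y) (hrange : φ.range = A) (f : B)
    (hnzd : algebraMap B A₀ f ∈ nonZeroDivisors A₀) (hfu : IsUnit (algebraMap B K f))
    (hK : ∀ k : K, ∃ (m : ℕ) (y : A'), algebraMap B K f ^ m * k = algebraMap A' K y) :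
    Module.Finite B A ∧ IsIntegralClosure A A' K ∧
      ∀ (Q : Ideal A) [Q.IsPrime], IsRegularLocalRing (Localization.AtPrime Q) := by
  let e : A₀ ≃ₐ[B] A := (AlgEquiv.ofInjective φ hφ).trans (Subalgebra.equivOfEq _ _ hrange)
  have hregA : IsRegularRing A := IsRegularRing.of_ringEquiv e.toRingEquiv
  refine ⟨Module.Finite.equiv e.toLinearEquiv, ⟨Subtype.coe_injective, ?_⟩, fun Q hQ =>
    hregA.isRegularLocalRing_localization Q⟩
  intro x
  constructor
  · rintro ⟨p, hp, hpx⟩
    have hint : (φ : A₀ →+* K).IsIntegralElem x := by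
      refine ⟨p.map (ψ : A' →+* A₀), hp.map _, ?_⟩
      rw [Polynomial.eval₂_map]
      have : (φ : A₀ →+* K).comp (ψ : A' →+* A₀) = algebraMap A' K := by
        ext y
        exact hφψ y
      rw [this]
      exact hpx
    obtain ⟨m, y, hy⟩ := hK x
    have hφf : (φ : A₀ →+* K) (algebraMap B A₀ f) = algebraMap B K f := φ.commutes f
    obtain ⟨z, hz⟩ := mem_range_of_isIntegralElem (φ : A₀ →+* K) hφ (algebraMap B A₀ f) hnzd
      (by rw [hφf]; exact hfu) x hint m (ψ y) (by rw [hφf, hy]; exact (hφψ y).symm)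
    have hxA : x ∈ A := by
      rw [← hrange]
      exact ⟨z, hz⟩
    exact ⟨⟨x, hxA⟩, rfl⟩
  · rintro ⟨y, rfl⟩
    have hy : (y : K) ∈ φ.range := by rw [hrange]; exact y.2
    obtain ⟨z, hz⟩ := hy
    have h1 : IsIntegral B z := Algebra.IsIntegral.isIntegral z
    have h2 : IsIntegral B (φ z) := h1.map φ
    have h3 : IsIntegral A' (φ z) := h2.tower_top
    have h4 : algebraMap A K y = φ z := hz.symm
    rw [h4]
    exact h3

/-- the case `α = 0`: the subalgebra is the image of `A'` -/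
theorem range_eq_genAlg_zero {B : Type u} [CommRing B] (u : Bˣ) (f₁ : B) (N : ℕ)
    {K : Type u} [CommRing K] [Algebra B K] (ι : AA u f₁ N 0 →ₐ[B] K) (Fi : K) (hN : 0 < N)
    (hF : algebraMap B K f₁ * Fi = 1) : ι.range = genAlg u f₁ N 0 ι Fi := by
  apply le_antisymm
  · have hT : Subalgebra.comap ι (genAlg u f₁ N 0 ι Fi) = ⊤ := by
      rw [eq_top_iff, ← AdjoinRoot.adjoinRoot_eq_top, Algebra.adjoin_le_iff]
      rintro _ rfl
      rw [SetLike.mem_coe, Subalgebra.mem_comap]
      have := pow_mul_pow_mem_genAlg u f₁ N 0 ι Fi hN hF 1 0 (Nat.zero_le _)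
      rwa [pow_one, pow_zero, mul_one] at this
    rintro _ ⟨x, rfl⟩
    have : x ∈ Subalgebra.comap ι (genAlg u f₁ N 0 ι Fi) := by
      rw [hT]; exact Algebra.mem_top
    exact this
  · rw [genAlg, Algebra.adjoin_le_iff]
    rintro _ ⟨i, rfl⟩
    rw [SetLike.mem_coe, AlgHom.mem_range]
    refine ⟨AdjoinRoot.root _ ^ (i : ℕ), ?_⟩
    simp

end Groth.Agent.Lib.Helper19CycCov
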