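import Mathlib
import Groth.Agent.Lib.Helper19CycCovE

/-!
# Cyclic covers, part F (helper19): the theorem for `K = A'[1/f₁]`
-/

set_option autoImplicit false
universe u

open Polynomial

namespace Groth.Agent.Lib.Helper19CycCov

section Main

variable {B : Type u} [CommRing B] [IsDomain B] (u : Bˣ) (f₁ : B) (N α : ℕ)

local notation "AP" => AA u f₁ N α
local notation "KK" => Localization.Away (algebraMap B (AA u f₁ N α) f₁)
local notation "Fi" => IsLocalization.Away.invSelf (S := Localization.Away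
  (algebraMap B (AA u f₁ N α) f₁)) (algebraMap B (AA u f₁ N α) f₁)
local notation "ι" => IsScalarTower.toAlgHom B (AA u f₁ N α)
  (Localization.Away (algebraMap B (AA u f₁ N α) f₁))

theorem hF_loc : algebraMap B KK f₁ * Fi = 1 := by
  rw [IsScalarTower.algebraMap_apply B AP KK f₁]
  exact IsLocalization.Away.mul_invSelf _

theorem flat_AA (hN : 0 < N) : Module.Flat B AP := by
  have : Module.Free B AP := (monic_X_pow_sub_C _ hN.ne').free_adjoinRoot
  infer_instance

theorem iota_injective (hN : 0 < N) (hf₁ : f₁ ≠ 0) : Function.Injective ι := by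
  have := flat_AA u f₁ N α hN
  have hnzd : algebraMap B AP f₁ ∈ nonZeroDivisors AP :=
    algebraMap_mem_nonZeroDivisors_of_flat hf₁
  apply IsLocalization.injective (M := Submonoid.powers (algebraMap B AP f₁))
  exact Submonoid.powers_le.mpr hnzd

theorem hK_loc (z : KK) : ∃ (m : ℕ) (y : AP), algebraMap B KK f₁ ^ m * z = algebraMap AP KK y := by
  obtain ⟨n, y, hy⟩ := IsLocalization.Away.surj (algebraMap B AP f₁) z
  refine ⟨n, y, ?_⟩
  rw [← hy, IsScalarTower.algebraMap_apply B AP KK f₁]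
  exact mul_comm _ _

theorem main_pos [IsNoetherianRing B] (hregB : IsRegularRing B) (hN : 0 < N)
    (hNB : IsUnit ((N : ℕ) : B)) (hαpos : 0 < α)
    (hf₁ : f₁ ≠ 0) (hregQ : IsRegularRing (B ⧸ Ideal.span ({f₁} : Set B)))
    (A : Subalgebra B KK) (hA : A = genAlg u f₁ N α ι Fi) :
    Module.Finite B A ∧ IsIntegralClosure A AP KK ∧
      ∀ (Q : Ideal A) [Q.IsPrime], IsRegularLocalRing (Localization.AtPrime Q) := by
  have hF := hF_loc u f₁ N α
  have hfu : IsUnit (algebraMap B KK f₁) := IsUnit.of_mul_eq_one _ hF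
  have hιinj := iota_injective u f₁ N α hN hf₁
  obtain ⟨d, N', α', a, e, hP⟩ := exists_params N α hN hαpos
  have hNB' : IsUnit (((d : ℕ) : B) * ((N' : ℕ) : B)) := by
    rw [← Nat.cast_mul, ← hP.hN]; exact hNB
  have hdu : IsUnit ((d : ℕ) : B) := isUnit_of_mul_isUnit_left hNB'
  have hN'u : IsUnit ((N' : ℕ) : B) := isUnit_of_mul_isUnit_right hNB'
  have hflat := flat_A0 u f₁ d N' a hP.hd hP.hN'
  refine final_of_model (A' := AP) A (A0 B u f₁ d N' a) ?_ ?_
    (phi u f₁ N α d N' α' a e ι Fi hP hF) ?_ (psi u f₁ N α d N' α' a e hP) ?_ ?_ f₁ ?_ hfu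
    (hK_loc u f₁ N α)
  · exact isRegularRing_A0 B u d f₁ hf₁ hregQ N' a hP.hd hP.hN' hdu hN'u
  · exact finite_A0 u f₁ d N' a hP.hd hP.hN'
  · exact phi_injective u f₁ N α d N' α' a e ι Fi hf₁ hP hF hιinj
  · exact fun y => DFunLike.congr_fun (phi_comp_psi u f₁ N α d N' α' a e ι Fi hP hF) y
  · exact (phi_range u f₁ N α d N' α' a e ι Fi hP hF).trans hA.symm
  · exact algebraMap_mem_nonZeroDivisors_of_flat hf₁

end Main

section MainZero

variable {B : Type u} [CommRing B] [IsDomain B] (u : Bˣ) (f₁ : B) (N : ℕ)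

theorem main_zero [IsNoetherianRing B] (hregB : IsRegularRing B) (hN : 0 < N)
    (hNB : IsUnit ((N : ℕ) : B)) (hf₁ : f₁ ≠ 0)
    (A : Subalgebra B (Localization.Away (algebraMap B (AA u f₁ N 0) f₁)))
    (hA : A = genAlg u f₁ N 0 (IsScalarTower.toAlgHom B (AA u f₁ N 0)
        (Localization.Away (algebraMap B (AA u f₁ N 0) f₁)))
      (IsLocalization.Away.invSelf (S := Localization.Away
        (algebraMap B (AA u f₁ N 0) f₁)) (algebraMap B (AA u f₁ N 0) f₁))) :
    Module.Finite B A ∧ IsIntegralClosure A (AA u f₁ N 0)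
        (Localization.Away (algebraMap B (AA u f₁ N 0) f₁)) ∧
      ∀ (Q : Ideal A) [Q.IsPrime], IsRegularLocalRing (Localization.AtPrime Q) := by
  have hF := hF_loc u f₁ N 0
  have hfu : IsUnit (algebraMap B (Localization.Away (algebraMap B (AA u f₁ N 0) f₁)) f₁) :=
    IsUnit.of_mul_eq_one _ hF
  have hιinj := iota_injective u f₁ N 0 hN hf₁
  have hflatA' := flat_AA u f₁ N 0 hN
  have hunit : IsUnit ((u : B) * f₁ ^ 0) := by
    rw [pow_zero, mul_one]; exact u.isUnit
  have hregA' : IsRegularRing (AA u f₁ N 0) :=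
    isRegularRing_adjoinRoot_X_pow_sub_C B _ (IsUnit.mem_nonZeroDivisors hunit)
      (isRegularRing_quotient_of_isUnit _ hunit) N hN hNB
  have hfinA' : Module.Finite B (AA u f₁ N 0) :=
    (monic_X_pow_sub_C _ hN.ne').finite_adjoinRoot
  exact final_of_model (A' := AA u f₁ N 0) A (AA u f₁ N 0) hregA' hfinA'
    (IsScalarTower.toAlgHom B (AA u f₁ N 0) _) hιinj (AlgHom.id B _) (fun y => rfl)
    ((range_eq_genAlg_zero u f₁ N _ _ hN hF).trans hA.symm)
    f₁ (algebraMap_mem_nonZeroDivisors_of_flat hf₁) hfu (hK_loc u f₁ N 0)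

end MainZero

section MainAll

variable {B : Type u} [CommRing B] [IsDomain B] (u : Bˣ) (f₁ : B) (N α : ℕ)

theorem main [IsNoetherianRing B] (hregB : IsRegularRing B) (hN : 0 < N)
    (hNB : IsUnit ((N : ℕ) : B))
    (hf₁ : f₁ ≠ 0) (hregQ : IsRegularRing (B ⧸ Ideal.span ({f₁} : Set B)))
    (A : Subalgebra B (Localization.Away (algebraMap B (AA u f₁ N α) f₁)))
    (hA : A = genAlg u f₁ N α (IsScalarTower.toAlgHom B (AA u f₁ N α)
        (Localization.Away (algebraMap B (AA u f₁ N α) f₁)))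
      (IsLocalization.Away.invSelf (S := Localization.Away
        (algebraMap B (AA u f₁ N α) f₁)) (algebraMap B (AA u f₁ N α) f₁))) :
    Module.Finite B A ∧ IsIntegralClosure A (AA u f₁ N α)
        (Localization.Away (algebraMap B (AA u f₁ N α) f₁)) ∧
      ∀ (Q : Ideal A) [Q.IsPrime], IsRegularLocalRing (Localization.AtPrime Q) := by
  rcases Nat.eq_zero_or_pos α with hα0 | hαpos
  · subst hα0
    exact main_zero u f₁ N hregB hN hNB hf₁ A hA
  · exact main_pos u f₁ N α hregB hN hNB hαpos hf₁ hregQ A hA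

end MainAll

end Groth.Agent.Lib.Helper19CycCov
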