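import Mathlib

set_option autoImplicit false
universe u

namespace Groth.Agent.Lib.Helper19.DPCompl

open Finset

variable {A : Type u} [CommRing A] {I : Ideal A} (γ : DividedPowers I) (p : ℕ) (t : ℕ)
  (ht : Ideal.span {(p : A)} ^ t ≤ I)

include ht in
theorem pt_mem : (p : A) ^ t ∈ I :=
  ht (Ideal.pow_mem_pow (Ideal.mem_span_singleton_self _) t)

include ht in
/-- continuity of divided powers for the `p`-adic topology. -/
theorem dpow_sub_mem (n e : ℕ) {a a' : A} (ha : a ∈ I)
    (h : a' - a ∈ Ideal.span {(p : A)} ^ (e + t)) :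
    γ.dpow n a' - γ.dpow n a ∈ Ideal.span {(p : A)} ^ e := by
  rw [Ideal.span_singleton_pow, Ideal.mem_span_singleton] at h
  obtain ⟨y, hy⟩ := h
  have hpt := pt_mem p t ht
  have hw : ((p : A) ^ e * y) * (p : A) ^ t ∈ I := Ideal.mul_mem_left _ _ hpt
  have ha' : a' = a + ((p : A) ^ e * y) * (p : A) ^ t := by
    have : a' = a + (a' - a) := by ring
    rw [this, hy]; ring
  rw [ha', γ.dpow_add ha hw, Finset.Nat.sum_antidiagonal_eq_sum_range_succ_mk,
    Finset.sum_range_succ]
  simp only [Nat.sub_self]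
  rw [γ.dpow_zero hw, mul_one, add_sub_cancel_right]
  refine Ideal.sum_mem _ (fun k hk => ?_)
  have hl : n - k ≠ 0 := by
    have := Finset.mem_range.mp hk
    omega
  rw [γ.dpow_mul hpt]
  refine Ideal.mul_mem_left _ _ (Ideal.mul_mem_right _ _ ?_)
  rw [Ideal.span_singleton_pow, Ideal.mem_span_singleton, mul_pow]
  exact Dvd.dvd.mul_right (dvd_pow_self _ hl) _

/-- transition for `evalₐ`. -/
theorem evalₐ_of_le {J : Ideal A} {e e' : ℕ} (hle : e ≤ e') (x : AdicCompletion J A) (a : A)
    (h : AdicCompletion.evalₐ J e' x = Ideal.Quotient.mk _ a) :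
    AdicCompletion.evalₐ J e x = Ideal.Quotient.mk _ a := by
  induction x using AdicCompletion.induction_on with
  | _ c =>
    rw [AdicCompletion.evalₐ_mk] at h ⊢
    rw [Ideal.Quotient.eq] at h ⊢
    have h1 := c.property hle
    rw [SModEq.sub_mem, smul_eq_mul, Ideal.mul_top] at h1
    have h2 := Ideal.pow_le_pow_right (I := J) hle h
    have : c.val e - a = (c.val e - c.val e') + (c.val e' - a) := by ring
    rw [this]
    exact Ideal.add_mem _ h1 h2

/-- the kernel of the projection `Â → A/I`. -/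
noncomputable abbrev K : Ideal (AdicCompletion (Ideal.span {(p : A)}) A) :=
  RingHom.ker ((Ideal.Quotient.factor ht).comp
      (AdicCompletion.evalₐ (Ideal.span {(p : A)}) t).toRingHom)

theorem mem_K_iff (x : AdicCompletion (Ideal.span {(p : A)}) A) (a : A)
    (h : AdicCompletion.evalₐ (Ideal.span {(p : A)}) t x = Ideal.Quotient.mk _ a) :
    x ∈ K p t ht ↔ a ∈ I := by
  rw [RingHom.mem_ker, RingHom.comp_apply]
  change Ideal.Quotient.factor ht (AdicCompletion.evalₐ (Ideal.span {(p : A)}) t x) = 0 ↔ _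
  rw [h, Ideal.Quotient.factor_mk, Ideal.Quotient.eq_zero_iff_mem]

theorem exists_lift {x : AdicCompletion (Ideal.span {(p : A)}) A} (hx : x ∈ K p t ht) (e : ℕ) :
    ∃ a ∈ I, AdicCompletion.evalₐ (Ideal.span {(p : A)}) (e + t) x = Ideal.Quotient.mk _ a := by
  obtain ⟨a, ha⟩ := Ideal.Quotient.mk_surjective
    (AdicCompletion.evalₐ (Ideal.span {(p : A)}) (e + t) x)
  refine ⟨a, ?_, ha.symm⟩
  have h1 := evalₐ_of_le (Nat.le_add_left t e) x a ha.symm
  exact (mem_K_iff p t ht x a h1).mp hx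

/-- chosen lifts. -/
noncomputable def lift {x : AdicCompletion (Ideal.span {(p : A)}) A} (hx : x ∈ K p t ht)
    (e : ℕ) : A := Classical.choose (exists_lift p t ht hx e)

theorem lift_mem {x : AdicCompletion (Ideal.span {(p : A)}) A} (hx : x ∈ K p t ht) (e : ℕ) :
    lift p t ht hx e ∈ I := (Classical.choose_spec (exists_lift p t ht hx e)).1

theorem lift_spec {x : AdicCompletion (Ideal.span {(p : A)}) A} (hx : x ∈ K p t ht) (e : ℕ) :
    AdicCompletion.evalₐ (Ideal.span {(p : A)}) (e + t) x =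
      Ideal.Quotient.mk _ (lift p t ht hx e) :=
  (Classical.choose_spec (exists_lift p t ht hx e)).2

/-- the Cauchy sequence of divided powers of lifts. -/
noncomputable def dseq (n : ℕ) {x : AdicCompletion (Ideal.span {(p : A)}) A}
    (hx : x ∈ K p t ht) : AdicCompletion.AdicCauchySequence (Ideal.span {(p : A)}) A :=
  ⟨fun e => γ.dpow n (lift p t ht hx e), by
    intro e e' hle
    rw [SModEq.sub_mem, smul_eq_mul, Ideal.mul_top, ← neg_sub]
    refine neg_mem ?_
    refine dpow_sub_mem γ p t ht n e (lift_mem p t ht hx e) ?_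
    have h1 := lift_spec p t ht hx e
    have h2 := evalₐ_of_le (Nat.add_le_add_right hle t) x _ (lift_spec p t ht hx e')
    rw [h1, Ideal.Quotient.eq] at h2
    rw [← neg_sub]
    exact neg_mem h2⟩

theorem dseq_apply (n : ℕ) {x : AdicCompletion (Ideal.span {(p : A)}) A}
    (hx : x ∈ K p t ht) (e : ℕ) : (dseq γ p t ht n hx).val e = γ.dpow n (lift p t ht hx e) := rfl

/-- the divided power candidates on the completion. -/
noncomputable def δ (n : ℕ) (x : AdicCompletion (Ideal.span {(p : A)}) A) :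
    AdicCompletion (Ideal.span {(p : A)}) A := by
  classical
  exact if hx : x ∈ K p t ht then
    AdicCompletion.mk (Ideal.span {(p : A)}) A (dseq γ p t ht n hx)
  else 0

theorem δ_of_not_mem (n : ℕ) {x : AdicCompletion (Ideal.span {(p : A)}) A}
    (hx : x ∉ K p t ht) : δ γ p t ht n x = 0 := by
  unfold δ
  rw [dif_neg hx]

/-- the characterizing property of `δ`. -/
theorem evalₐ_δ (n : ℕ) {x : AdicCompletion (Ideal.span {(p : A)}) A} (hx : x ∈ K p t ht)
    (e : ℕ) (a : A) (ha : a ∈ I)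
    (h : AdicCompletion.evalₐ (Ideal.span {(p : A)}) (e + t) x = Ideal.Quotient.mk _ a) :
    AdicCompletion.evalₐ (Ideal.span {(p : A)}) e (δ γ p t ht n x) =
      Ideal.Quotient.mk _ (γ.dpow n a) := by
  unfold δ
  rw [dif_pos hx, AdicCompletion.evalₐ_mk, dseq_apply, Ideal.Quotient.eq]
  refine dpow_sub_mem γ p t ht n e ha ?_
  rw [lift_spec p t ht hx e, Ideal.Quotient.eq] at h
  exact h

theorem δ_mem {n : ℕ} (hn : n ≠ 0) {x : AdicCompletion (Ideal.span {(p : A)}) A}
    (hx : x ∈ K p t ht) : δ γ p t ht n x ∈ K p t ht := by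
  obtain ⟨a, ha, h⟩ := exists_lift p t ht hx t
  have := evalₐ_δ γ p t ht n hx t a ha h
  exact (mem_K_iff p t ht _ _ this).mpr (γ.dpow_mem hn ha)

/-- the divided power structure on the kernel. -/
noncomputable def dp : DividedPowers (K p t ht) where
  dpow := δ γ p t ht
  dpow_null := by
    intro n x hx
    exact δ_of_not_mem γ p t ht n hx
  dpow_zero := by
    intro x hx
    refine AdicCompletion.ext_evalₐ (fun e => ?_)
    obtain ⟨a, ha, h⟩ := exists_lift p t ht hx e
    rw [evalₐ_δ γ p t ht 0 hx e a ha h, γ.dpow_zero ha, map_one, map_one]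
  dpow_one := by
    intro x hx
    refine AdicCompletion.ext_evalₐ (fun e => ?_)
    obtain ⟨a, ha, h⟩ := exists_lift p t ht hx e
    rw [evalₐ_δ γ p t ht 1 hx e a ha h, γ.dpow_one ha]
    exact (evalₐ_of_le (Nat.le_add_right e t) x a h).symm
  dpow_mem := by
    intro n x hn hx
    exact δ_mem γ p t ht hn hx
  dpow_add := by
    intro n x y hx hy
    refine AdicCompletion.ext_evalₐ (fun e => ?_)
    obtain ⟨a, ha, h⟩ := exists_lift p t ht hx e
    obtain ⟨b, hb, h'⟩ := exists_lift p t ht hy e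
    have hxy : AdicCompletion.evalₐ (Ideal.span {(p : A)}) (e + t) (x + y) =
        Ideal.Quotient.mk _ (a + b) := by rw [map_add, h, h', map_add]
    rw [evalₐ_δ γ p t ht n (Ideal.add_mem _ hx hy) e (a + b) (I.add_mem ha hb) hxy,
      γ.dpow_add ha hb, map_sum, map_sum]
    refine Finset.sum_congr rfl (fun k _ => ?_)
    rw [map_mul, map_mul, evalₐ_δ γ p t ht k.1 hx e a ha h, evalₐ_δ γ p t ht k.2 hy e b hb h']
  dpow_mul := by
    intro n z x hx
    refine AdicCompletion.ext_evalₐ (fun e => ?_)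
    obtain ⟨a, ha, h⟩ := exists_lift p t ht hx e
    obtain ⟨c, hc⟩ := Ideal.Quotient.mk_surjective
      (AdicCompletion.evalₐ (Ideal.span {(p : A)}) (e + t) z)
    have hzx : AdicCompletion.evalₐ (Ideal.span {(p : A)}) (e + t) (z * x) =
        Ideal.Quotient.mk _ (c * a) := by rw [map_mul, h, ← hc, map_mul]
    rw [evalₐ_δ γ p t ht n (Ideal.mul_mem_left _ _ hx) e (c * a) (I.mul_mem_left _ ha) hzx,
      γ.dpow_mul ha, map_mul, map_mul, map_pow, map_pow, evalₐ_δ γ p t ht n hx e a ha h,
      evalₐ_of_le (Nat.le_add_right e t) z c hc.symm]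
  mul_dpow := by
    intro m n x hx
    refine AdicCompletion.ext_evalₐ (fun e => ?_)
    obtain ⟨a, ha, h⟩ := exists_lift p t ht hx e
    rw [map_mul, map_mul, evalₐ_δ γ p t ht m hx e a ha h, evalₐ_δ γ p t ht n hx e a ha h,
      evalₐ_δ γ p t ht (m + n) hx e a ha h, ← map_mul, γ.mul_dpow ha, map_mul, map_natCast,
      map_natCast]
  dpow_comp := by
    intro m n x hn hx
    refine AdicCompletion.ext_evalₐ (fun e => ?_)
    obtain ⟨a, ha, h⟩ := exists_lift p t ht hx (e + t)
    have h1 := evalₐ_δ γ p t ht n hx (e + t) a ha h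
    have h2 := evalₐ_of_le (Nat.le_add_right (e + t) t) x a h
    rw [evalₐ_δ γ p t ht m (δ_mem γ p t ht hn hx) e (γ.dpow n a) (γ.dpow_mem hn ha) h1,
      γ.dpow_comp hn ha, map_mul, map_mul, map_natCast, map_natCast,
      evalₐ_δ γ p t ht (m * n) hx e a ha h2]

theorem dp_dpow (n : ℕ) (x : AdicCompletion (Ideal.span {(p : A)}) A) :
    (dp γ p t ht).dpow n x = δ γ p t ht n x := rfl

theorem algebraMap_mem_K {a : A} (ha : a ∈ I) :
    algebraMap A (AdicCompletion (Ideal.span {(p : A)}) A) a ∈ K p t ht := by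
  refine (mem_K_iff p t ht _ a ?_).mpr ha
  rfl

theorem isDPMorphism :
    γ.IsDPMorphism (dp γ p t ht) (algebraMap A (AdicCompletion (Ideal.span {(p : A)}) A)) := by
  refine ⟨?_, ?_⟩
  · rw [Ideal.map_le_iff_le_comap]
    intro a ha
    exact algebraMap_mem_K p t ht ha
  · intro n a ha
    refine AdicCompletion.ext_evalₐ (fun e => ?_)
    rw [dp_dpow, evalₐ_δ γ p t ht n (algebraMap_mem_K p t ht ha) e a ha rfl]
    rfl

theorem surjective_π : Function.Surjective ((Ideal.Quotient.factor ht).comp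
      (AdicCompletion.evalₐ (Ideal.span {(p : A)}) t).toRingHom) := by
  rw [RingHom.coe_comp]
  exact (Ideal.Quotient.factor_surjective ht).comp (AdicCompletion.surjective_evalₐ _ t)

end Groth.Agent.Lib.Helper19.DPCompl
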