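import Mathlib

/-!
# Pushout squares of commutative rings along a surjection
-/

set_option autoImplicit false
universe u

open CategoryTheory CategoryTheory.Limits

namespace Groth.Agent.Lib.Helper19.DefAff

variable {A K B' B₀ : CommRingCat.{u}} (res : A ⟶ K) (φ : A ⟶ B') (κ : K ⟶ B₀) (ρ : B' ⟶ B₀)

/-- A pushout square of rings along a surjection: the opposite side is surjective with kernel the
extended ideal. -/
theorem surjective_and_ker_of_isPushout (hres : Function.Surjective res.hom)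
    (h : IsPushout res φ κ ρ) :
    Function.Surjective ρ.hom ∧
      RingHom.ker ρ.hom = Ideal.map φ.hom (RingHom.ker res.hom) := by
  set I : Ideal B' := Ideal.map φ.hom (RingHom.ker res.hom) with hI
  have hcomm : ∀ a : A, ρ.hom (φ.hom a) = κ.hom (res.hom a) := by
    intro a
    have := congrArg (fun f => f.hom a) h.w
    exact this.symm
  have hIle : I ≤ RingHom.ker ρ.hom := by
    rw [hI, Ideal.map_le_iff_le_comap]
    intro a ha
    rw [Ideal.mem_comap, RingHom.mem_ker, hcomm, (RingHom.mem_ker).1 ha, map_zero]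
  have hv : RingHom.ker res.hom ≤ RingHom.ker ((Ideal.Quotient.mk I).comp φ.hom) := by
    intro a ha
    rw [RingHom.mem_ker, RingHom.comp_apply, Ideal.Quotient.eq_zero_iff_mem]
    exact Ideal.mem_map_of_mem _ ha
  let v₀ : K →+* B' ⧸ I := RingHom.liftOfSurjective res.hom hres ⟨_, hv⟩
  have hv₀ : ∀ a : A, v₀ (res.hom a) = Ideal.Quotient.mk I (φ.hom a) := by
    intro a
    exact RingHom.liftOfRightInverse_comp_apply _ _ _ _ a
  let u : B' ⟶ CommRingCat.of (B' ⧸ I) := CommRingCat.ofHom (Ideal.Quotient.mk I)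
  let v : K ⟶ CommRingCat.of (B' ⧸ I) := CommRingCat.ofHom v₀
  have hw : res ≫ v = φ ≫ u := by
    ext a
    exact hv₀ a
  let w : B₀ ⟶ CommRingCat.of (B' ⧸ I) := h.desc v u hw
  have hw1 : κ ≫ w = v := h.inl_desc _ _ _
  have hw2 : ρ ≫ w = u := h.inr_desc _ _ _
  have hw2' : ∀ b : B', w.hom (ρ.hom b) = Ideal.Quotient.mk I b := fun b =>
    congrArg (fun f => f.hom b) hw2
  have hker : RingHom.ker ρ.hom = I := by
    refine le_antisymm ?_ hIle
    intro b hb
    rw [← Ideal.Quotient.eq_zero_iff_mem, ← hw2', (RingHom.mem_ker).1 hb, map_zero]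
  refine ⟨?_, hker⟩
  have hIle' : ∀ a ∈ I, ρ.hom a = 0 := fun a ha => (RingHom.mem_ker).1 (hIle ha)
  let ρbar : CommRingCat.of (B' ⧸ I) ⟶ B₀ := CommRingCat.ofHom (Ideal.Quotient.lift I ρ.hom hIle')
  have hid : w ≫ ρbar = 𝟙 B₀ := by
    apply h.hom_ext
    · rw [← Category.assoc, hw1, Category.comp_id]
      ext c
      obtain ⟨a, rfl⟩ := hres c
      change Ideal.Quotient.lift I ρ.hom hIle' (v₀ (res.hom a)) = _
      rw [hv₀, Ideal.Quotient.lift_mk, hcomm]
    · rw [← Category.assoc, hw2, Category.comp_id]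
      ext b
      change Ideal.Quotient.lift I ρ.hom hIle' (Ideal.Quotient.mk I b) = _
      rw [Ideal.Quotient.lift_mk]
  intro b₀
  obtain ⟨b', hb'⟩ := Ideal.Quotient.mk_surjective (w.hom b₀)
  refine ⟨b', ?_⟩
  have h1 : ρbar.hom (w.hom b₀) = b₀ := congrArg (fun f => f.hom b₀) hid
  rw [← hb'] at h1
  change Ideal.Quotient.lift I ρ.hom hIle' (Ideal.Quotient.mk I b') = _ at h1
  rwa [Ideal.Quotient.lift_mk] at h1

/-- Converse: a commutative square of rings with two opposite surjective sides, the kernel of one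
being the extension of the kernel of the other, is a pushout. -/
theorem isPushout_of_surjective_of_ker (hres : Function.Surjective res.hom)
    (hcomm : res ≫ κ = φ ≫ ρ) (hρ : Function.Surjective ρ.hom)
    (hker : RingHom.ker ρ.hom = Ideal.map φ.hom (RingHom.ker res.hom)) :
    IsPushout res φ κ ρ := by
  have hc : ∀ a : A, κ.hom (res.hom a) = ρ.hom (φ.hom a) := fun a =>
    congrArg (fun f => f.hom a) hcomm
  have hle : ∀ s : PushoutCocone res φ, RingHom.ker ρ.hom ≤ RingHom.ker s.inr.hom := by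
    intro s
    rw [hker, Ideal.map_le_iff_le_comap]
    intro a ha
    rw [Ideal.mem_comap, RingHom.mem_ker]
    have h1 : s.inl.hom (res.hom a) = s.inr.hom (φ.hom a) :=
      congrArg (fun f => f.hom a) s.condition
    rw [← h1, (RingHom.mem_ker).1 ha, map_zero]
  have hlift : ∀ (s : PushoutCocone res φ) (b : B'),
      RingHom.liftOfSurjective ρ.hom hρ ⟨s.inr.hom, hle s⟩ (ρ.hom b) = s.inr.hom b := fun s b =>
    RingHom.liftOfRightInverse_comp_apply ρ.hom (Function.surjInv hρ)
      (Function.rightInverse_surjInv hρ) ⟨s.inr.hom, hle s⟩ b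
  refine IsPushout.of_isColimit' ⟨hcomm⟩ (PushoutCocone.IsColimit.mk _
    (fun s => CommRingCat.ofHom (RingHom.liftOfSurjective ρ.hom hρ ⟨s.inr.hom, hle s⟩)) ?_ ?_ ?_)
  · intro s
    ext c
    obtain ⟨a, rfl⟩ := hres c
    change RingHom.liftOfSurjective ρ.hom hρ ⟨s.inr.hom, hle s⟩ (κ.hom (res.hom a)) = _
    rw [hc]
    have h1 : s.inl.hom (res.hom a) = s.inr.hom (φ.hom a) :=
      congrArg (fun f => f.hom a) s.condition
    rw [h1]
    exact hlift s _
  · intro s
    ext b
    exact hlift s b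
  · intro s m _ hm
    ext b₀
    obtain ⟨b, rfl⟩ := hρ b₀
    have h1 : m.hom (ρ.hom b) = s.inr.hom b := congrArg (fun f => f.hom b) hm
    change m.hom (ρ.hom b) = RingHom.liftOfSurjective ρ.hom hρ ⟨s.inr.hom, hle s⟩ (ρ.hom b)
    rw [h1]
    exact (hlift s b).symm

end Groth.Agent.Lib.Helper19.DefAff
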