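import Groth.Prelude.Def_ArtFun4
import Groth.Agent.Lib.Helper22ThickAffine
import Groth.Agent.Lib.Helper19DefAffA

/-!
# Deformations of an affine scheme over an Artinian base are affine

For `ξ : ArtFun.DefSch (Spec B₀) (Spec.map (k → B₀)) A` the total space is affine; we extract the
ring `Γ(ξ.total, ⊤)`, its structure map `phi ξ : A ⟶ Γ`, the reduction map `rho ξ : Γ ⟶ B₀`, and
show: `phi ξ` is flat, `rho ξ` is surjective with kernel `m_A Γ`.
-/

set_option autoImplicit false
universe u

open CategoryTheory CategoryTheory.Limits AlgebraicGeometry ArtFun ArtFun.Art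

namespace Groth.Agent.Lib.Helper19.DefAff

variable {Λ k : Type u} [CommRing Λ] [Field k] [Algebra Λ k]

lemma surjective_specRes (A : Art Λ k) : Surjective (specRes A) := by
  constructor
  intro y
  have : Subsingleton (PrimeSpectrum A) := inferInstance
  have : Subsingleton (spec A) := this
  have : Nonempty (specPt k) := by
    change Nonempty (PrimeSpectrum k)
    infer_instance
  obtain ⟨z⟩ := this
  exact ⟨z, Subsingleton.elim _ _⟩

instance isClosedImmersion_specRes (A : Art Λ k) : IsClosedImmersion (specRes A) :=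
  IsClosedImmersion.spec_of_surjective _ A.res_surjective

section General

variable {X : Scheme.{u}} {x : X ⟶ specPt k} {A : Art Λ k}

lemma isClosedImmersion_i (ξ : DefSch X x A) : IsClosedImmersion ξ.i :=
  MorphismProperty.of_isPullback (P := @IsClosedImmersion) ξ.isPullback.flip
    (isClosedImmersion_specRes A)

lemma surjective_i (ξ : DefSch X x A) : Surjective ξ.i :=
  MorphismProperty.of_isPullback (P := @Surjective) ξ.isPullback.flip (surjective_specRes A)

/-- The total space of a deformation of an affine scheme over an Artinian local ring is affine. -/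
theorem isAffine_total [IsAffine X] (ξ : DefSch X x A) : IsAffine ξ.total := by
  have := isClosedImmersion_i ξ
  exact Groth.Agent.Lib.Helper22.ThickAffine.isAffine_of_thickening ξ.i (surjective_i ξ).surj

end General

variable {B₀ : Type u} [CommRing B₀] [Algebra k B₀] {A : Art Λ k}

/-- the structure map of the ring of a deformation -/
noncomputable def phi
    (ξ : DefSch (Spec (CommRingCat.of B₀)) (Spec.map (CommRingCat.ofHom (algebraMap k B₀))) A) :
    CommRingCat.of A ⟶ Γ(ξ.total, ⊤) :=
  (Scheme.ΓSpecIso (CommRingCat.of A)).inv ≫ ξ.f.appTop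

/-- the reduction map of the ring of a deformation -/
noncomputable def rho
    (ξ : DefSch (Spec (CommRingCat.of B₀)) (Spec.map (CommRingCat.ofHom (algebraMap k B₀))) A) :
    Γ(ξ.total, ⊤) ⟶ CommRingCat.of B₀ :=
  ξ.i.appTop ≫ (Scheme.ΓSpecIso (CommRingCat.of B₀)).hom

variable (ξ : DefSch (Spec (CommRingCat.of B₀)) (Spec.map (CommRingCat.ofHom (algebraMap k B₀))) A)

/-- the isomorphism of the total space with the spectrum of its ring of global sections -/
noncomputable def isoSpecTotal : ξ.total ≅ Spec Γ(ξ.total, ⊤) :=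
  @Scheme.isoSpec ξ.total (isAffine_total ξ)

lemma isoSpecTotal_hom_phi : (isoSpecTotal ξ).hom ≫ Spec.map (phi ξ) = ξ.f := by
  haveI := isAffine_total ξ
  have h := Scheme.isoSpec_hom_naturality ξ.f
  rw [Scheme.isoSpec_Spec_hom] at h
  change ξ.total.isoSpec.hom ≫ _ = _
  rw [phi, Spec.map_comp, ← Category.assoc, h, Category.assoc, ← Spec.map_comp, Iso.inv_hom_id,
    Spec.map_id, Category.comp_id]

lemma i_isoSpecTotal_hom : ξ.i ≫ (isoSpecTotal ξ).hom = Spec.map (rho ξ) := by
  haveI := isAffine_total ξ
  have h := Scheme.isoSpec_hom_naturality ξ.i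
  rw [Scheme.isoSpec_Spec_hom] at h
  change ξ.i ≫ ξ.total.isoSpec.hom = _
  rw [← h, rho, Spec.map_comp]

lemma isPullback_Spec :
    IsPullback (Spec.map (rho ξ)) (Spec.map (CommRingCat.ofHom (algebraMap k B₀)))
      (Spec.map (phi ξ)) (specRes A) := by
  refine IsPullback.of_iso ξ.isPullback (Iso.refl _) (isoSpecTotal ξ) (Iso.refl _) (Iso.refl _)
    ?_ ?_ ?_ ?_
  · rw [Iso.refl_hom, Category.id_comp, i_isoSpecTotal_hom]
  · rw [Iso.refl_hom, Iso.refl_hom, Category.id_comp, Category.comp_id]
  · rw [Iso.refl_hom, Category.comp_id, isoSpecTotal_hom_phi]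
  · rw [Iso.refl_hom, Iso.refl_hom, Category.id_comp, Category.comp_id]

lemma isPushout_ring :
    IsPushout (CommRingCat.ofHom A.res.toRingHom) (phi ξ)
      (CommRingCat.ofHom (algebraMap k B₀)) (rho ξ) := by
  have h := isPullback_Spec ξ
  have h2 : IsPullback (rho ξ).op (CommRingCat.ofHom (algebraMap k B₀)).op (phi ξ).op
      (CommRingCat.ofHom A.res.toRingHom).op := by
    refine IsPullback.of_map Scheme.Spec ?_ h
    apply Scheme.Spec.map_injective
    rw [Functor.map_comp, Functor.map_comp]
    exact h.w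
  exact h2.unop

lemma rho_phi (a : A) : (rho ξ).hom ((phi ξ).hom a) = algebraMap k B₀ (A.res a) :=
  (congrArg (fun f => f.hom a) (isPushout_ring ξ).w).symm

lemma rho_surjective : Function.Surjective (rho ξ).hom :=
  (surjective_and_ker_of_isPushout _ _ _ _ A.res_surjective (isPushout_ring ξ)).1

lemma ker_res_eq (A : Art Λ k) :
    RingHom.ker (CommRingCat.ofHom A.res.toRingHom).hom = IsLocalRing.maximalIdeal A := by
  ext a
  rw [A.mem_maximalIdeal_iff, RingHom.mem_ker]
  rfl

lemma ker_rho :
    RingHom.ker (rho ξ).hom = Ideal.map (phi ξ).hom (IsLocalRing.maximalIdeal A) := by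
  rw [(surjective_and_ker_of_isPushout _ _ _ _ A.res_surjective (isPushout_ring ξ)).2, ker_res_eq]

lemma phi_flat : (phi ξ).hom.Flat := by
  have h1 : Flat (Spec.map (phi ξ)) := by
    have h2 : Spec.map (phi ξ) = (isoSpecTotal ξ).inv ≫ ξ.f := by
      rw [Iso.eq_inv_comp, isoSpecTotal_hom_phi]
    rw [h2]
    infer_instance
  exact Flat.SpecMap_iff.mp h1

end Groth.Agent.Lib.Helper19.DefAff
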