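import Groth.Agent.Lib.Helper19DefAffB
import Groth.Agent.Lib.Helper19RigidA

/-!
# Morphisms of deformations of an affine scheme are isomorphisms
-/

set_option autoImplicit false
universe u

open CategoryTheory CategoryTheory.Limits AlgebraicGeometry ArtFun ArtFun.Art

namespace Groth.Agent.Lib.Helper19.DefAff

variable {Λ k : Type u} [CommRing Λ] [Field k] [Algebra Λ k]
variable {B₀ : Type u} [CommRing B₀] [Algebra k B₀] {A : Art Λ k}

lemma isNilpotent_maximalIdeal (A : Art Λ k) : IsNilpotent (IsLocalRing.maximalIdeal A) := by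
  have h := IsArtinianRing.isNilpotent_jacobson_bot (R := A)
  rwa [IsLocalRing.jacobson_eq_maximalIdeal ⊥ bot_ne_top] at h

/-- A ring map between two flat `A`-algebras over an Artinian local ring `A` compatible with
surjections onto a common ring whose kernels are the extensions of the maximal ideal is
bijective. -/
theorem bijective_of_compatible {R : Type u} [CommRing R] [IsLocalRing R] [IsArtinianRing R]
    {M N C : Type u} [CommRing M] [CommRing N] [CommRing C] [Algebra R M] [Algebra R N]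
    [Module.Flat R N] (ψ : M →ₐ[R] N) (ρM : M →+* C) (ρN : N →+* C)
    (hψ : ∀ m, ρN (ψ m) = ρM m) (hMs : Function.Surjective ρM)
    (hMk : RingHom.ker ρM = Ideal.map (algebraMap R M) (IsLocalRing.maximalIdeal R))
    (hNk : RingHom.ker ρN = Ideal.map (algebraMap R N) (IsLocalRing.maximalIdeal R)) :
    Function.Bijective ψ := by
  have hnil : IsNilpotent (IsLocalRing.maximalIdeal R) := by
    have h := IsArtinianRing.isNilpotent_jacobson_bot (R := R)
    rwa [IsLocalRing.jacobson_eq_maximalIdeal ⊥ bot_ne_top] at h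
  have hmemM : ∀ y : M, y ∈ IsLocalRing.maximalIdeal R • (⊤ : Submodule R M) ↔ ρM y = 0 := by
    intro y
    rw [Ideal.smul_top_eq_map, Submodule.restrictScalars_mem, ← hMk, RingHom.mem_ker]
  have hmemN : ∀ y : N, y ∈ IsLocalRing.maximalIdeal R • (⊤ : Submodule R N) ↔ ρN y = 0 := by
    intro y
    rw [Ideal.smul_top_eq_map, Submodule.restrictScalars_mem, ← hNk, RingHom.mem_ker]
  have := Groth.Agent.Lib.Helper19.Rigid.bijective_of_flat_of_nilpotent
    (IsLocalRing.maximalIdeal R) hnil ψ.toLinearMap ?_ ?_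
  · exact this
  · intro y
    obtain ⟨x, hx⟩ := hMs (ρN y)
    refine ⟨x, ?_⟩
    rw [hmemN, map_sub]
    change ρN y - ρN (ψ x) = 0
    rw [hψ, hx, sub_self]
  · intro x hx
    rw [hmemN] at hx
    change ρN (ψ x) = 0 at hx
    rw [hψ] at hx
    rwa [hmemM]

variable {ξ ξ' : DefSch (Spec (CommRingCat.of B₀)) (Spec.map (CommRingCat.ofHom (algebraMap k B₀))) A}

lemma phi_comp_appTop (h : ξ.total ⟶ ξ'.total) (hf : h ≫ ξ'.f = ξ.f) :
    phi ξ' ≫ h.appTop = phi ξ := by
  rw [phi, phi, Category.assoc, ← Scheme.Hom.comp_appTop, hf]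

lemma appTop_comp_rho (h : ξ.total ⟶ ξ'.total) (hi : ξ.i ≫ h = ξ'.i) :
    h.appTop ≫ rho ξ = rho ξ' := by
  rw [rho, rho, ← Category.assoc, ← Scheme.Hom.comp_appTop, hi]

/-- Any morphism of deformations of an affine scheme (over the base and under the closed fibre)
is an isomorphism. -/
theorem isIso_of_hom (h : ξ.total ⟶ ξ'.total) (hf : h ≫ ξ'.f = ξ.f) (hi : ξ.i ≫ h = ξ'.i) :
    IsIso h := by
  haveI := isAffine_total ξ
  haveI := isAffine_total ξ'
  letI : Algebra A Γ(ξ.total, ⊤) := (phi ξ).hom.toAlgebra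
  letI : Algebra A Γ(ξ'.total, ⊤) := (phi ξ').hom.toAlgebra
  haveI : Module.Flat A Γ(ξ.total, ⊤) := phi_flat ξ
  have h1 := phi_comp_appTop h hf
  have h2 := appTop_comp_rho h hi
  let ψ : Γ(ξ'.total, ⊤) →ₐ[A] Γ(ξ.total, ⊤) :=
    { h.appTop.hom with
      commutes' := fun a => congrArg (fun f => f.hom a) h1 }
  have hbij : Function.Bijective ψ :=
    bijective_of_compatible ψ (rho ξ').hom (rho ξ).hom
      (fun m => congrArg (fun f => f.hom m) h2) (rho_surjective ξ') (ker_rho ξ') (ker_rho ξ)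
  have hiso : IsIso (Spec.map h.appTop) := isIso_SpecMap_iff.mpr hbij
  have hnat := Scheme.isoSpec_hom_naturality h
  have : h = ξ.total.isoSpec.hom ≫ Spec.map h.appTop ≫ ξ'.total.isoSpec.inv := by
    rw [← Category.assoc, hnat, Category.assoc, Iso.hom_inv_id, Category.comp_id]
  rw [this]
  infer_instance

/-- The isomorphism of deformations attached to a morphism of deformations. -/
noncomputable def isoOfHom (h : ξ.total ⟶ ξ'.total) (hf : h ≫ ξ'.f = ξ.f)
    (hi : ξ.i ≫ h = ξ'.i) : ξ.Iso ξ' :=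
  haveI := isIso_of_hom h hf hi
  { iso := asIso h
    hom_f := hf
    i_hom := hi }

end Groth.Agent.Lib.Helper19.DefAff
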