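import Groth.Agent.Lib.Helper19DefAffC

/-!
# The ring of a deformation of an affine scheme as an algebra; deformations from algebras
-/

set_option autoImplicit false
universe u

open CategoryTheory CategoryTheory.Limits AlgebraicGeometry ArtFun ArtFun.Art

namespace Groth.Agent.Lib.Helper19.DefAff

section ofAlg

variable {Λ k : Type u} [CommRing Λ] [Field k] [Algebra Λ k]
variable {B₀ : Type u} [CommRing B₀] [Algebra k B₀] {A : Art Λ k}

/-- The deformation of `Spec B₀` attached to a flat `A`-algebra `B'` with a surjection onto `B₀`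
with kernel `m_A B'`. -/
noncomputable def ofAlg (B' : Type u) [CommRing B'] [Algebra A B'] [Module.Flat A B']
    (ρ : B' →+* B₀) (hc : ∀ a : A, ρ (algebraMap A B' a) = algebraMap k B₀ (A.res a))
    (hs : Function.Surjective ρ)
    (hk : RingHom.ker ρ = Ideal.map (algebraMap A B') (IsLocalRing.maximalIdeal A)) :
    DefSch (Spec (CommRingCat.of B₀)) (Spec.map (CommRingCat.ofHom (algebraMap k B₀))) A where
  total := Spec (CommRingCat.of B')
  f := Spec.map (CommRingCat.ofHom (algebraMap A B'))
  flat := Flat.SpecMap_iff.mpr (RingHom.flat_algebraMap_iff.mpr inferInstance)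
  i := Spec.map (CommRingCat.ofHom ρ)
  isPullback := by
    apply isPullback_SpecMap_of_isPushout
    apply IsPushout.flip
    apply isPushout_of_surjective_of_ker _ _ _ _ A.res_surjective
    · ext a
      exact (hc a).symm
    · exact hs
    · rw [ker_res_eq]
      exact hk

variable (B' : Type u) [CommRing B'] [Algebra A B'] [Module.Flat A B']
    (ρ : B' →+* B₀) (hc : ∀ a : A, ρ (algebraMap A B' a) = algebraMap k B₀ (A.res a))
    (hs : Function.Surjective ρ)
    (hk : RingHom.ker ρ = Ideal.map (algebraMap A B') (IsLocalRing.maximalIdeal A))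

lemma phi_ofAlg :
    phi (ofAlg B' ρ hc hs hk) ≫ (Scheme.ΓSpecIso (CommRingCat.of B')).hom =
      CommRingCat.ofHom (algebraMap A B') := by
  change ((Scheme.ΓSpecIso (CommRingCat.of A)).inv ≫
    (Spec.map (CommRingCat.ofHom (algebraMap A B'))).appTop) ≫ _ = _
  rw [Category.assoc, Scheme.ΓSpecIso_naturality, Iso.inv_hom_id_assoc]

lemma rho_ofAlg :
    rho (ofAlg B' ρ hc hs hk) =
      (Scheme.ΓSpecIso (CommRingCat.of B')).hom ≫ CommRingCat.ofHom ρ := by
  change (Spec.map (CommRingCat.ofHom ρ)).appTop ≫ _ = _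
  rw [Scheme.ΓSpecIso_naturality]

end ofAlg

section DRing

variable {k : Type u} [Field k] {B₀ : Type u} [CommRing B₀] [Algebra k B₀] {A : Art k k}

/-- the ring of global sections of the total space of a deformation -/
def DRing (ξ : DefSch (Spec (CommRingCat.of B₀)) (Spec.map (CommRingCat.ofHom (algebraMap k B₀))) A) :
    Type u := Γ(ξ.total, ⊤)

variable (ξ : DefSch (Spec (CommRingCat.of B₀)) (Spec.map (CommRingCat.ofHom (algebraMap k B₀))) A)

noncomputable instance : CommRing (DRing ξ) := inferInstanceAs (CommRing Γ(ξ.total, ⊤))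

noncomputable instance : Algebra A (DRing ξ) := (phi ξ).hom.toAlgebra

noncomputable instance : Algebra k (DRing ξ) := ((phi ξ).hom.comp (algebraMap k A)).toAlgebra

instance : IsScalarTower k A (DRing ξ) := IsScalarTower.of_algebraMap_eq (fun _ => rfl)

instance : Module.Flat A (DRing ξ) := phi_flat ξ

lemma algebraMap_DRing (a : A) : algebraMap A (DRing ξ) a = (phi ξ).hom a := rfl

/-- the reduction map as a `k`-algebra map -/
noncomputable def rhoAlg : DRing ξ →ₐ[k] B₀ :=
  { (rho ξ).hom with
    commutes' := fun c => by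
      change (rho ξ).hom ((phi ξ).hom (algebraMap k A c)) = _
      rw [rho_phi, AlgHom.commutes]
      rfl }

lemma rhoAlg_apply (b : DRing ξ) : rhoAlg ξ b = (rho ξ).hom b := rfl

lemma rhoAlg_algebraMap (a : A) :
    rhoAlg ξ (algebraMap A (DRing ξ) a) = algebraMap k B₀ (A.res a) := rho_phi ξ a

lemma rhoAlg_surjective : Function.Surjective (rhoAlg ξ) := rho_surjective ξ

lemma ker_rhoAlg :
    RingHom.ker (rhoAlg ξ) = Ideal.map (algebraMap A (DRing ξ)) (IsLocalRing.maximalIdeal A) :=
  ker_rho ξ

end DRing

end Groth.Agent.Lib.Helper19.DefAff
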