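import Groth.Agent.Lib.Helper19DefAffD

/-!
# Deformations given by algebras: isomorphisms and base change
-/

set_option autoImplicit false
universe u

open CategoryTheory CategoryTheory.Limits AlgebraicGeometry ArtFun ArtFun.Art

namespace Groth.Agent.Lib.Helper19.DefAff

variable {Λ k : Type u} [CommRing Λ] [Field k] [Algebra Λ k]
variable {B₀ : Type u} [CommRing B₀] [Algebra k B₀]

section Iso

variable {A : Art Λ k}
variable (B' : Type u) [CommRing B'] [Algebra A B'] [Module.Flat A B']
    (ρ' : B' →+* B₀) (hc' : ∀ a : A, ρ' (algebraMap A B' a) = algebraMap k B₀ (A.res a))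
    (hs' : Function.Surjective ρ')
    (hk' : RingHom.ker ρ' = Ideal.map (algebraMap A B') (IsLocalRing.maximalIdeal A))
variable (B'' : Type u) [CommRing B''] [Algebra A B''] [Module.Flat A B'']
    (ρ'' : B'' →+* B₀) (hc'' : ∀ a : A, ρ'' (algebraMap A B'' a) = algebraMap k B₀ (A.res a))
    (hs'' : Function.Surjective ρ'')
    (hk'' : RingHom.ker ρ'' = Ideal.map (algebraMap A B'') (IsLocalRing.maximalIdeal A))

/-- An isomorphism between deformations given by algebras comes from an algebra map. -/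
theorem exists_algHom_of_iso (e : (ofAlg B' ρ' hc' hs' hk').Iso (ofAlg B'' ρ'' hc'' hs'' hk'')) :
    ∃ ψ : B'' →ₐ[A] B', ∀ b, ρ' (ψ b) = ρ'' b := by
  let h : Spec (CommRingCat.of B') ⟶ Spec (CommRingCat.of B'') := e.iso.hom
  let ψ₀ : CommRingCat.of B'' ⟶ CommRingCat.of B' := Spec.preimage h
  have hψ₀ : Spec.map ψ₀ = h := Spec.map_preimage h
  have h1 : CommRingCat.ofHom (algebraMap A B'') ≫ ψ₀ = CommRingCat.ofHom (algebraMap A B') := by
    apply Spec.map_injective
    rw [Spec.map_comp, hψ₀]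
    exact e.hom_f
  have h2 : ψ₀ ≫ CommRingCat.ofHom ρ' = CommRingCat.ofHom ρ'' := by
    apply Spec.map_injective
    rw [Spec.map_comp, hψ₀]
    exact e.i_hom
  refine ⟨{ ψ₀.hom with commutes' := fun a => congrArg (fun f => f.hom a) h1 }, fun b => ?_⟩
  exact congrArg (fun f => f.hom b) h2

/-- A compatible algebra map gives an isomorphism of the deformations given by algebras. -/
theorem iso_of_algHom (ψ : B'' →ₐ[A] B') (hψ : ∀ b, ρ' (ψ b) = ρ'' b) :
    Nonempty ((ofAlg B' ρ' hc' hs' hk').Iso (ofAlg B'' ρ'' hc'' hs'' hk'')) := by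
  let h : (ofAlg B' ρ' hc' hs' hk').total ⟶ (ofAlg B'' ρ'' hc'' hs'' hk'').total :=
    Spec.map (CommRingCat.ofHom (ψ : B'' →+* B'))
  refine ⟨isoOfHom h ?_ ?_⟩
  · change Spec.map _ ≫ Spec.map _ = Spec.map _
    rw [← Spec.map_comp]
    congr 1
    ext a
    exact ψ.commutes a
  · change Spec.map _ ≫ Spec.map _ = Spec.map _
    rw [← Spec.map_comp]
    congr 1
    ext b
    exact hψ b

end Iso

section BaseChange

variable {A A'' : Art Λ k} (g : A ⟶ A'')
variable (B' : Type u) [CommRing B'] [Algebra A B'] [Module.Flat A B']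
    (ρ' : B' →+* B₀) (hc' : ∀ a : A, ρ' (algebraMap A B' a) = algebraMap k B₀ (A.res a))
    (hs' : Function.Surjective ρ')
    (hk' : RingHom.ker ρ' = Ideal.map (algebraMap A B') (IsLocalRing.maximalIdeal A))
variable (B'' : Type u) [CommRing B''] [Algebra A'' B''] [Module.Flat A'' B'']
    (ρ'' : B'' →+* B₀) (hc'' : ∀ a : A'', ρ'' (algebraMap A'' B'' a) = algebraMap k B₀ (A''.res a))
    (hs'' : Function.Surjective ρ'')
    (hk'' : RingHom.ker ρ'' = Ideal.map (algebraMap A'' B'') (IsLocalRing.maximalIdeal A''))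

/-- Recognising a base change: a ring map `B' → B''` over `g : A → A''` compatible with the
reductions identifies the base change of the deformation `B'` with the deformation `B''`. -/
theorem baseChange_ofAlg_iso (θ : B' →+* B'')
    (hθa : ∀ a : A, θ (algebraMap A B' a) = algebraMap A'' B'' (g a))
    (hθρ : ∀ b, ρ'' (θ b) = ρ' b) :
    Nonempty (((ofAlg B' ρ' hc' hs' hk').baseChange g).Iso (ofAlg B'' ρ'' hc'' hs'' hk'')) := by
  have hcomm : Spec.map (CommRingCat.ofHom θ) ≫ (ofAlg B' ρ' hc' hs' hk').f =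
      Spec.map (CommRingCat.ofHom (algebraMap A'' B'')) ≫ specMap g := by
    change Spec.map _ ≫ Spec.map _ = Spec.map _ ≫ Spec.map _
    rw [← Spec.map_comp, ← Spec.map_comp]
    congr 1
    ext a
    exact hθa a
  let h : (ofAlg B'' ρ'' hc'' hs'' hk'').total ⟶
      ((ofAlg B' ρ' hc' hs' hk').baseChange g).total :=
    pullback.lift (Spec.map (CommRingCat.ofHom θ))
      (Spec.map (CommRingCat.ofHom (algebraMap A'' B''))) hcomm
  have e : (ofAlg B'' ρ'' hc'' hs'' hk'').Iso ((ofAlg B' ρ' hc' hs' hk').baseChange g) := by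
    refine isoOfHom h (pullback.lift_snd _ _ _) ?_
    apply pullback.hom_ext
    · refine (Category.assoc _ _ _).trans ?_
      refine (congrArg ((ofAlg B'' ρ'' hc'' hs'' hk'').i ≫ ·) (pullback.lift_fst _ _ hcomm)).trans ?_
      refine Eq.trans ?_ (pullback.lift_fst _ _ _).symm
      change Spec.map _ ≫ Spec.map _ = Spec.map _
      rw [← Spec.map_comp]
      congr 1
      ext b
      exact hθρ b
    · refine (Category.assoc _ _ _).trans ?_
      refine (congrArg ((ofAlg B'' ρ'' hc'' hs'' hk'').i ≫ ·) (pullback.lift_snd _ _ hcomm)).trans ?_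
      exact (ofAlg B'' ρ'' hc'' hs'' hk'').i_f.trans (pullback.lift_snd _ _ _).symm
  exact ⟨e.symm⟩

end BaseChange

end Groth.Agent.Lib.Helper19.DefAff
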