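import Groth.Prelude.Def_Exal
import Mathlib

/-!
# Lifting algebra maps along square-zero surjections when all extensions by `B₀` are trivial
-/

set_option autoImplicit false
universe u v

namespace Groth.Agent.Lib.Helper19.Rigid

variable {k : Type u} {B₀ C Cbar : Type v} [CommRing k] [CommRing B₀] [Algebra k B₀]
  [CommRing C] [Algebra k C] [CommRing Cbar] [Algebra k Cbar]

/-- the fibre product `C ×_{C̄} B₀` -/
def fibre (p : C →ₐ[k] Cbar) (u₀ : B₀ →ₐ[k] Cbar) : Subalgebra k (C × B₀) :=
  AlgHom.equalizer (p.comp (AlgHom.fst k C B₀)) (u₀.comp (AlgHom.snd k C B₀))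

lemma mem_fibre (p : C →ₐ[k] Cbar) (u₀ : B₀ →ₐ[k] Cbar) (x : C × B₀) :
    x ∈ fibre p u₀ ↔ p x.1 = u₀ x.2 := Iff.rfl

/-- the pulled back extension -/
noncomputable def pullExt (p : C →ₐ[k] Cbar) (hp : Function.Surjective p) (u₀ : B₀ →ₐ[k] Cbar)
    (θ : B₀ →+ C) (hθi : Function.Injective θ) (hθr : ∀ c, p c = 0 ↔ ∃ z, θ z = c)
    (hθm : ∀ (c : C) (b z : B₀), p c = u₀ b → c * θ z = θ (b * z)) : Exal.Ext k B₀ B₀ where
  E := fibre p u₀
  proj := (AlgHom.snd k C B₀).comp (fibre p u₀).val
  incl :=
    { toFun := fun z => ⟨(θ z, 0), by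
        rw [mem_fibre]
        change p (θ z) = u₀ 0
        rw [map_zero]
        exact (hθr _).2 ⟨z, rfl⟩⟩
      map_zero' := by
        apply Subtype.ext
        simp
      map_add' := fun z z' => by
        apply Subtype.ext
        simp }
  isExtension :=
    { proj_surjective := fun b => by
        obtain ⟨c, hc⟩ := hp (u₀ b)
        exact ⟨⟨(c, b), (mem_fibre p u₀ _).2 hc⟩, rfl⟩
      incl_injective := fun z z' h => by
        have h1 := congrArg (fun e : fibre p u₀ => (e : C × B₀).1) h
        exact hθi h1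
      exact := fun x => by
        obtain ⟨⟨c, b⟩, hx⟩ := x
        rw [mem_fibre] at hx
        constructor
        · intro hb
          change b = 0 at hb
          subst hb
          change p c = u₀ 0 at hx
          rw [map_zero] at hx
          obtain ⟨z, hz⟩ := (hθr c).1 hx
          refine ⟨z, ?_⟩
          apply Subtype.ext
          change (θ z, (0 : B₀)) = (c, 0)
          rw [hz]
        · rintro ⟨z, hz⟩
          have h1 := congrArg (fun e : fibre p u₀ => (e : C × B₀).2) hz
          exact h1.symm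
      mul_incl := fun x z => by
        obtain ⟨⟨c, b⟩, hx⟩ := x
        rw [mem_fibre] at hx
        apply Subtype.ext
        apply Prod.ext
        · change c * θ z = θ (b • z)
          rw [smul_eq_mul]
          exact hθm c b z hx
        · change b * 0 = 0
          exact mul_zero _ }

/-- If all extensions of `B₀` by `B₀` are trivial, algebra maps lift along square-zero surjections
whose kernel is `B₀`. -/
theorem exists_lift_of_forall_isTrivial (hT : ∀ X : Exal.Ext k B₀ B₀, X.IsTrivial)
    (p : C →ₐ[k] Cbar) (hp : Function.Surjective p) (u₀ : B₀ →ₐ[k] Cbar)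
    (θ : B₀ →+ C) (hθi : Function.Injective θ) (hθr : ∀ c, p c = 0 ↔ ∃ z, θ z = c)
    (hθm : ∀ (c : C) (b z : B₀), p c = u₀ b → c * θ z = θ (b * z)) :
    ∃ u : B₀ →ₐ[k] C, p.comp u = u₀ := by
  obtain ⟨s, hs⟩ := hT (pullExt p hp u₀ θ hθi hθr hθm)
  let s' : B₀ →ₐ[k] ↥(fibre p u₀) := s
  refine ⟨(AlgHom.fst k C B₀).comp ((fibre p u₀).val.comp s'), ?_⟩
  ext b
  have hmem := (s' b).2
  rw [mem_fibre] at hmem
  have hs' : ((s' b : fibre p u₀) : C × B₀).2 = b := hs b
  rw [hs'] at hmem
  exact hmem

end Groth.Agent.Lib.Helper19.Rigid
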