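import Groth.Agent.Lib.Helper19RigidA
import Groth.Agent.Lib.Helper19RigidB
import Groth.Agent.Lib.Helper19SmallExt

/-!
# Rigid algebras: flat deformations over Artinian local rings admit a section of the reduction map
-/

set_option autoImplicit false
universe u

namespace Groth.Agent.Lib.Helper19.Rigid

open IsLocalRing

variable {k : Type u} [Field k] {A : Type u} [CommRing A] [Algebra k A] [IsLocalRing A]
  [IsArtinianRing A]
  {B' B₀ : Type u} [CommRing B'] [Algebra k B'] [Algebra A B'] [IsScalarTower k A B']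
  [Module.Flat A B'] [CommRing B₀] [Algebra k B₀]

/-- `K B'` -/
abbrev KB (B' : Type u) [CommRing B'] [Algebra A B'] (K : Ideal A) : Ideal B' :=
  Ideal.map (algebraMap A B') K

/-- the statement for the quotient by `K B'` -/
def HasSec (ρ : B' →ₐ[k] B₀) (K : Ideal A) : Prop :=
  ∃ σ : B₀ →ₐ[k] B' ⧸ KB B' K, ∀ (b : B₀) (b' : B'), σ b = Ideal.Quotient.mk _ b' → ρ b' = b

omit [IsArtinianRing A] [Module.Flat A B'] in
lemma hasSec_maximalIdeal (ρ : B' →ₐ[k] B₀) (hρs : Function.Surjective ρ)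
    (hρk : RingHom.ker ρ = KB B' (maximalIdeal A)) : HasSec ρ (maximalIdeal A) := by
  let e₁ : (B' ⧸ RingHom.ker ρ) ≃ₐ[k] B₀ := Ideal.quotientKerAlgEquivOfSurjective hρs
  let e₂ : (B' ⧸ RingHom.ker ρ) ≃ₐ[k] (B' ⧸ KB B' (maximalIdeal A)) :=
    Ideal.quotientEquivAlgOfEq k hρk
  refine ⟨(e₂ : (B' ⧸ RingHom.ker ρ) →ₐ[k] _).comp (e₁.symm : B₀ →ₐ[k] _), ?_⟩
  intro b b' h
  obtain ⟨b₁, rfl⟩ := hρs b
  have h1 : e₁.symm (ρ b₁) = Ideal.Quotient.mk _ b₁ := by
    rw [AlgEquiv.symm_apply_eq]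
    exact (Ideal.quotientKerAlgEquivOfSurjective_mk hρs b₁).symm
  have h2 : e₂ (Ideal.Quotient.mk _ b₁) = Ideal.Quotient.mk _ b₁ := rfl
  change e₂ (e₁.symm (ρ b₁)) = _ at h
  rw [h1, h2, Ideal.Quotient.eq, ← hρk, RingHom.mem_ker, map_sub, sub_eq_zero] at h
  exact h.symm

/-- the lifting step -/
lemma hasSec_step (hT : ∀ X : Exal.Ext k B₀ B₀, X.IsTrivial)
    (ρ : B' →ₐ[k] B₀) (hρs : Function.Surjective ρ)
    (hρk : RingHom.ker ρ = KB B' (maximalIdeal A))
    (K : Ideal A) (x : A) (hx : x ∈ maximalIdeal A) (hxK : x ∉ K)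
    (hmx : maximalIdeal A * Ideal.span {x} ≤ K)
    (h : HasSec ρ (K ⊔ Ideal.span {x})) : HasSec ρ K := by
  obtain ⟨σ, hσ⟩ := h
  have hle : KB B' K ≤ KB B' (K ⊔ Ideal.span {x}) := Ideal.map_mono le_sup_left
  let p : (B' ⧸ KB B' K) →ₐ[k] (B' ⧸ KB B' (K ⊔ Ideal.span {x})) := Ideal.Quotient.factorₐ k hle
  have hp_mk : ∀ b' : B', p (Ideal.Quotient.mk _ b') = Ideal.Quotient.mk _ b' := fun b' => rfl
  have hp : Function.Surjective p := Ideal.Quotient.factor_surjective hle
  -- `x m B' ⊆ K B'`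
  have hxm : ∀ b' : B', ρ b' = 0 → x • b' ∈ KB B' K := by
    intro b' hb'
    have h1 : b' ∈ KB B' (maximalIdeal A) := by rw [← hρk]; exact hb'
    have h2 : x • b' ∈ KB B' (Ideal.span {x} * maximalIdeal A) := by
      change x • b' ∈ Ideal.map (algebraMap A B') (Ideal.span {x} * maximalIdeal A)
      rw [Ideal.map_mul, Algebra.smul_def]
      exact Ideal.mul_mem_mul (Ideal.mem_map_of_mem _ (Ideal.mem_span_singleton_self x)) h1
    rw [mul_comm] at h2
    exact Ideal.map_mono hmx h2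
  -- the additive map `b' ↦ [x b']`
  let g : B' →+ (B' ⧸ KB B' K) :=
    { toFun := fun b' => Ideal.Quotient.mk _ (x • b')
      map_zero' := by rw [smul_zero, map_zero]
      map_add' := fun a b => by rw [smul_add, map_add] }
  have hg : ∀ b', g b' = Ideal.Quotient.mk _ (x • b') := fun _ => rfl
  have hgker : (ρ : B' →+* B₀).toAddMonoidHom.ker ≤ g.ker := by
    intro b' hb'
    rw [AddMonoidHom.mem_ker] at hb' ⊢
    rw [hg, Ideal.Quotient.eq_zero_iff_mem]
    exact hxm b' hb'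
  let θ : B₀ →+ (B' ⧸ KB B' K) :=
    AddMonoidHom.liftOfRightInverse (ρ : B' →+* B₀).toAddMonoidHom (Function.surjInv hρs)
      (Function.rightInverse_surjInv hρs) ⟨g, hgker⟩
  have hθ : ∀ b', θ (ρ b') = Ideal.Quotient.mk _ (x • b') := fun b' =>
    AddMonoidHom.liftOfRightInverse_comp_apply _ _ _ ⟨g, hgker⟩ b'
  have hcolon : ∀ a : A, x * a ∈ K → a ∈ maximalIdeal A := by
    intro a ha
    by_contra hu
    rw [mem_maximalIdeal, mem_nonunits_iff, not_not] at hu
    obtain ⟨u, rfl⟩ := hu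
    apply hxK
    have : x = x * u * (↑u⁻¹ : A) := by rw [mul_assoc, Units.mul_inv, mul_one]
    rw [this]
    exact Ideal.mul_mem_right _ _ ha
  have hθi : Function.Injective θ := by
    rw [injective_iff_map_eq_zero]
    intro z hz
    obtain ⟨z', rfl⟩ := hρs z
    rw [hθ, Ideal.Quotient.eq_zero_iff_mem] at hz
    have h1 : x • z' ∈ K • (⊤ : Submodule A B') := by
      rw [Ideal.smul_top_eq_map]
      exact hz
    have h2 := mem_smul_top_of_smul_mem_of_flat K (maximalIdeal A) x hcolon z' h1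
    rw [Ideal.smul_top_eq_map] at h2
    have h3 : z' ∈ RingHom.ker ρ := by rw [hρk]; exact h2
    exact h3
  have hθr : ∀ c, p c = 0 ↔ ∃ z, θ z = c := by
    intro c
    obtain ⟨c', rfl⟩ := Ideal.Quotient.mk_surjective c
    rw [hp_mk, Ideal.Quotient.eq_zero_iff_mem]
    constructor
    · intro hc
      change c' ∈ Ideal.map (algebraMap A B') (K ⊔ Ideal.span {x}) at hc
      rw [Ideal.map_sup, Ideal.map_span, Set.image_singleton] at hc
      obtain ⟨y, hy, w, hw, hyw⟩ := Submodule.mem_sup.1 hc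
      obtain ⟨b'', rfl⟩ := Ideal.mem_span_singleton'.1 hw
      refine ⟨ρ b'', ?_⟩
      rw [hθ, Ideal.Quotient.eq, ← hyw, Algebra.smul_def]
      have : algebraMap A B' x * b'' - (y + b'' * algebraMap A B' x) = - y := by ring
      rw [this]
      exact (Ideal.neg_mem_iff _).2 hy
    · rintro ⟨z, hz⟩
      obtain ⟨z', rfl⟩ := hρs z
      rw [hθ, Ideal.Quotient.eq] at hz
      have h1 : x • z' ∈ KB B' (K ⊔ Ideal.span {x}) := by
        rw [Algebra.smul_def]
        exact Ideal.mul_mem_right _ _ (Ideal.mem_map_of_mem _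
          (Ideal.mem_sup_right (Ideal.mem_span_singleton_self x)))
      have h2 : c' = x • z' - (x • z' - c') := by ring
      rw [h2]
      exact Ideal.sub_mem _ h1 (hle hz)
  have hθm : ∀ (c : B' ⧸ KB B' K) (b z : B₀), p c = σ b → c * θ z = θ (b * z) := by
    intro c b z hc
    obtain ⟨c', rfl⟩ := Ideal.Quotient.mk_surjective c
    obtain ⟨z', rfl⟩ := hρs z
    have h1 : ρ c' = b := hσ b c' hc.symm
    rw [← h1, ← map_mul, hθ, hθ, ← map_mul]
    congr 1
    rw [Algebra.smul_def, Algebra.smul_def]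
    ring
  obtain ⟨u, hu⟩ := exists_lift_of_forall_isTrivial hT p hp σ θ hθi hθr hθm
  refine ⟨u, fun b b' hb => ?_⟩
  apply hσ b b'
  have h1 : p (u b) = σ b := AlgHom.congr_fun hu b
  rw [← h1, hb, hp_mk]

/-- **Rigidity**: if every extension of `B₀` by `B₀` is trivial, every flat deformation of `B₀` over an Artinian local ring admits a
section of the reduction map. -/
theorem exists_section_of_rigid (hT : ∀ X : Exal.Ext k B₀ B₀, X.IsTrivial)
    (ρ : B' →ₐ[k] B₀) (hρs : Function.Surjective ρ)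
    (hρk : RingHom.ker ρ = KB B' (maximalIdeal A)) :
    ∃ σ : B₀ →ₐ[k] B', ∀ b, ρ (σ b) = b := by
  have key : ∀ K : Ideal A, K ≤ maximalIdeal A → HasSec ρ K := by
    intro K
    induction K using IsNoetherian.induction with
    | hgt K ih =>
      intro hK
      rcases eq_or_lt_of_le hK with h | h
      · rw [h]
        exact hasSec_maximalIdeal ρ hρs hρk
      · obtain ⟨x, hxm, hxK, hmx⟩ := Groth.Agent.Lib.Helper19.exists_socle_elt A h
        have hlt : K < K ⊔ Ideal.span {x} := by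
          refine lt_of_le_of_ne le_sup_left (fun he => hxK ?_)
          rw [he]
          exact Ideal.mem_sup_right (Ideal.mem_span_singleton_self x)
        have hle : K ⊔ Ideal.span {x} ≤ maximalIdeal A :=
          sup_le hK ((Ideal.span_singleton_le_iff_mem _).2 hxm)
        exact hasSec_step hT ρ hρs hρk K x hxm hxK hmx (ih _ hlt hle)
  obtain ⟨σ, hσ⟩ := key ⊥ bot_le
  have hbot : KB B' (⊥ : Ideal A) = ⊥ := Ideal.map_bot
  let e : (B' ⧸ KB B' (⊥ : Ideal A)) ≃ₐ[k] B' :=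
    (Ideal.quotientEquivAlgOfEq k hbot).trans (AlgEquiv.quotientBot k B')
  have he : ∀ b' : B', e (Ideal.Quotient.mk _ b') = b' := fun b' => rfl
  refine ⟨(e : _ →ₐ[k] B').comp σ, fun b => ?_⟩
  apply hσ b
  change σ b = Ideal.Quotient.mk _ (e (σ b))
  obtain ⟨b', hb'⟩ := Ideal.Quotient.mk_surjective (σ b)
  rw [← hb', he]

end Groth.Agent.Lib.Helper19.Rigid
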