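import Groth.Agent.Lib.Helper19DefAffD
import Groth.Agent.Lib.Helper19RigidC

/-!
# Rigid affine schemes: every deformation over an Artinian base is trivial (scheme form)
-/

set_option autoImplicit false
universe u

open CategoryTheory CategoryTheory.Limits AlgebraicGeometry ArtFun ArtFun.Art

namespace Groth.Agent.Lib.Helper19.DefAff

variable {k : Type u} [Field k] {B₀ : Type u} [CommRing B₀] [Algebra k B₀]

/-- If every extension of `B₀` by `B₀` is trivial, then every deformation of `Spec B₀` over a local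
Artinian `k`-algebra with residue field `k` is isomorphic to the trivial one. -/
theorem iso_trivial_of_rigid (hT : ∀ E : Exal.Ext k B₀ B₀, E.IsTrivial) (A : Art k k)
    (ξ : DefSch (Spec (CommRingCat.of B₀)) (Spec.map (CommRingCat.ofHom (algebraMap k B₀))) A) :
    Nonempty (ξ.Iso (DefSch.trivial (Spec (CommRingCat.of B₀))
      (Spec.map (CommRingCat.ofHom (algebraMap k B₀))) inferInstance A)) := by
  classical
  letI algA : Algebra A Γ(ξ.total, ⊤) := (phi ξ).hom.toAlgebra
  letI algk : Algebra k Γ(ξ.total, ⊤) := ((phi ξ).hom.comp (algebraMap k A)).toAlgebra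
  haveI : IsScalarTower k A Γ(ξ.total, ⊤) := IsScalarTower.of_algebraMap_eq (fun c => rfl)
  haveI : Module.Flat A Γ(ξ.total, ⊤) := phi_flat ξ
  let ρ : Γ(ξ.total, ⊤) →ₐ[k] B₀ :=
    { (rho ξ).hom with
      commutes' := fun c => by
        change (rho ξ).hom ((phi ξ).hom (algebraMap k A c)) = _
        rw [rho_phi, AlgHom.commutes]
        rfl }
  obtain ⟨σ, hσ⟩ := Groth.Agent.Lib.Helper19.Rigid.exists_section_of_rigid hT ρ (rho_surjective ξ)
    (ker_rho ξ)
  let r : ξ.total ⟶ Spec (CommRingCat.of B₀) :=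
    (isoSpecTotal ξ).hom ≫ Spec.map (CommRingCat.ofHom σ.toRingHom)
  have hr1 : ξ.i ≫ r = 𝟙 _ := by
    change ξ.i ≫ (isoSpecTotal ξ).hom ≫ Spec.map (CommRingCat.ofHom σ.toRingHom) = _
    rw [← Category.assoc, i_isoSpecTotal_hom, ← Spec.map_comp]
    have : CommRingCat.ofHom σ.toRingHom ≫ rho ξ = 𝟙 _ := by
      ext b
      exact hσ b
    rw [this, Spec.map_id]
  have hr2 : r ≫ Spec.map (CommRingCat.ofHom (algebraMap k B₀)) =
      ξ.f ≫ specMap (ofBase A) := by
    change ((isoSpecTotal ξ).hom ≫ Spec.map (CommRingCat.ofHom σ.toRingHom)) ≫ _ = _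
    rw [← isoSpecTotal_hom_phi ξ, Category.assoc, Category.assoc, ← Spec.map_comp]
    change _ = (isoSpecTotal ξ).hom ≫ Spec.map (phi ξ) ≫ Spec.map _
    rw [← Spec.map_comp]
    congr 2
    ext c
    exact σ.commutes c
  let h : ξ.total ⟶ (DefSch.trivial (Spec (CommRingCat.of B₀))
      (Spec.map (CommRingCat.ofHom (algebraMap k B₀))) inferInstance A).total :=
    pullback.lift r ξ.f hr2
  refine ⟨isoOfHom h (pullback.lift_snd _ _ _) ?_⟩
  apply pullback.hom_ext
  · refine (Category.assoc _ _ _).trans ?_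
    refine (congrArg (ξ.i ≫ ·) (pullback.lift_fst r ξ.f hr2)).trans ?_
    exact hr1.trans (pullback.lift_fst _ _ _).symm
  · refine (Category.assoc _ _ _).trans ?_
    refine (congrArg (ξ.i ≫ ·) (pullback.lift_snd r ξ.f hr2)).trans ?_
    exact ξ.i_f.trans (pullback.lift_snd _ _ _).symm

/-- Scheme form for an affine scheme identified with `Spec B₀`. -/
theorem exists_iso_pullback_of_rigid (hT : ∀ E : Exal.Ext k B₀ B₀, E.IsTrivial)
    (X : Scheme.{u}) (e₀ : X ≅ Spec (CommRingCat.of B₀)) (hX : X ⟶ Spec (CommRingCat.of k))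
    (hX_eq : hX = e₀.hom ≫ Spec.map (CommRingCat.ofHom (algebraMap k B₀)))
    (A : Type u) [CommRing A] [IsLocalRing A] [IsArtinianRing A] [Algebra k A] (e : A →ₐ[k] k)
    (X' : Scheme.{u}) (g : X' ⟶ Spec (CommRingCat.of A)) [Flat g] (i : X ⟶ X')
    (hsq : IsPullback i hX g (Spec.map (CommRingCat.ofHom e.toRingHom))) :
    ∃ φ : X' ≅ pullback hX (Spec.map (CommRingCat.ofHom (algebraMap k A))),
      φ.hom ≫ pullback.snd hX (Spec.map (CommRingCat.ofHom (algebraMap k A))) = g ∧
      i ≫ φ.hom ≫ pullback.fst hX (Spec.map (CommRingCat.ofHom (algebraMap k A))) = 𝟙 X := by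
  have hes : Function.Surjective e := fun c => ⟨algebraMap k A c, by rw [AlgHom.commutes]; rfl⟩
  let A' : Art k k := Art.of A e hes
  let ξ : DefSch (Spec (CommRingCat.of B₀)) (Spec.map (CommRingCat.ofHom (algebraMap k B₀))) A' :=
    { total := X'
      f := g
      flat := ‹Flat g›
      i := e₀.inv ≫ i
      isPullback := by
        refine IsPullback.of_iso hsq e₀ (Iso.refl _) (Iso.refl _) (Iso.refl _) ?_ ?_ ?_ ?_
        · rw [Iso.refl_hom, Category.comp_id, Iso.hom_inv_id_assoc]
        · rw [Iso.refl_hom, Category.comp_id, hX_eq]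
        · exact (Category.comp_id _).trans (Category.id_comp _).symm
        · exact (Category.comp_id _).trans (Category.id_comp _).symm }
  obtain ⟨ψ⟩ := iso_trivial_of_rigid hT A' ξ
  -- restate in terms of the literal spectra
  let x₀ : Spec (CommRingCat.of B₀) ⟶ Spec (CommRingCat.of k) :=
    Spec.map (CommRingCat.ofHom (algebraMap k B₀))
  let s : Spec (CommRingCat.of A) ⟶ Spec (CommRingCat.of k) :=
    Spec.map (CommRingCat.ofHom (algebraMap k A))
  let ψiso : X' ≅ pullback x₀ s := ψ.iso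
  have hψf : ψiso.hom ≫ pullback.snd x₀ s = g := ψ.hom_f
  have hψi : (e₀.inv ≫ i) ≫ ψiso.hom ≫ pullback.fst x₀ s = 𝟙 _ := by
    have h1 : ((e₀.inv ≫ i) ≫ ψiso.hom) ≫ pullback.fst x₀ s =
        (DefSch.trivial (Spec (CommRingCat.of B₀)) x₀ inferInstance A').i ≫ pullback.fst x₀ s :=
      congrArg (· ≫ pullback.fst x₀ s) ψ.i_hom
    rw [Category.assoc] at h1
    exact h1.trans (pullback.lift_fst _ _ _)
  -- the comparison of the two pullbacks
  let θ : pullback hX s ⟶ pullback x₀ s :=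
    pullback.map hX s x₀ s e₀.hom (𝟙 _) (𝟙 _)
      (by rw [Category.comp_id, hX_eq]) (by rw [Category.comp_id, Category.id_comp])
  have : IsIso θ := by
    dsimp only [θ]
    infer_instance
  have hθ1 : θ ≫ pullback.fst x₀ s = pullback.fst hX s ≫ e₀.hom := pullback.lift_fst _ _ _
  have hθ2 : θ ≫ pullback.snd x₀ s = pullback.snd hX s := by
    refine (pullback.lift_snd _ _ _).trans ?_
    exact Category.comp_id _
  refine ⟨ψiso ≪≫ (asIso θ).symm, ?_, ?_⟩
  · rw [Iso.trans_hom, Iso.symm_hom, asIso_inv, Category.assoc]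
    have : inv θ ≫ pullback.snd hX s = pullback.snd x₀ s := by
      rw [IsIso.inv_comp_eq, hθ2]
    rw [this]
    exact hψf
  · rw [Iso.trans_hom, Iso.symm_hom, asIso_inv, Category.assoc]
    have h1 : inv θ ≫ pullback.fst hX s = pullback.fst x₀ s ≫ e₀.inv := by
      rw [IsIso.inv_comp_eq, ← Category.assoc, hθ1, Category.assoc, Iso.hom_inv_id,
        Category.comp_id]
    rw [h1]
    have h2 : i ≫ ψiso.hom ≫ pullback.fst x₀ s ≫ e₀.inv =
        e₀.hom ≫ ((e₀.inv ≫ i) ≫ ψiso.hom ≫ pullback.fst x₀ s) ≫ e₀.inv := by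
      simp only [Category.assoc, Iso.hom_inv_id_assoc]
    rw [h2, hψi, Category.id_comp, Iso.hom_inv_id]

end Groth.Agent.Lib.Helper19.DefAff
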