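import Mathlib

/-!
# Dual numbers over a field: ideals and a flatness criterion
-/

set_option autoImplicit false
universe u

open TensorProduct

namespace Groth.Agent.Lib.Helper19.DefDual

open DualNumber TrivSqZeroExt

variable {k : Type u} [Field k]

lemma eq_inl_add_smul_eps (a : k[ε]) : a = algebraMap k k[ε] a.fst + a.snd • (ε : k[ε]) := by
  rw [← inr_eq_smul_eps]
  exact (TrivSqZeroExt.inl_fst_add_inr_snd_eq a).symm

lemma mem_span_eps_iff (a : k[ε]) : a ∈ Ideal.span {(ε : k[ε])} ↔ a.fst = 0 := by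
  rw [Ideal.mem_span_singleton']
  constructor
  · rintro ⟨b, rfl⟩
    rw [TrivSqZeroExt.fst_mul, fst_eps, mul_zero]
  · intro h
    refine ⟨algebraMap k k[ε] a.snd, ?_⟩
    conv_rhs => rw [eq_inl_add_smul_eps a, h, map_zero, zero_add]
    rw [Algebra.smul_def]

lemma eps_mul_eq_zero_iff (a : k[ε]) : (ε : k[ε]) * a = 0 ↔ a.fst = 0 := by
  constructor
  · intro h
    have h1 := congrArg TrivSqZeroExt.snd h
    rw [DualNumber.snd_mul, fst_eps, snd_eps, zero_mul, one_mul, zero_add, TrivSqZeroExt.snd_zero]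
      at h1
    exact h1
  · intro h
    obtain ⟨b, rfl⟩ := Ideal.mem_span_singleton'.1 ((mem_span_eps_iff a).2 h)
    rw [mul_comm b, ← mul_assoc, eps_mul_eps, zero_mul]

lemma ideal_cases (I : Ideal k[ε]) : I = ⊥ ∨ I = Ideal.span {(ε : k[ε])} ∨ I = ⊤ := by
  by_cases htop : I = ⊤
  · exact Or.inr (Or.inr htop)
  have hle : I ≤ Ideal.span {(ε : k[ε])} := by
    intro a ha
    rw [mem_span_eps_iff]
    by_contra hne
    apply htop
    rw [Ideal.eq_top_iff_one]
    have hu : IsUnit a := TrivSqZeroExt.isUnit_iff_isUnit_fst.2 (Ne.isUnit hne)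
    obtain ⟨u, rfl⟩ := hu
    have := I.mul_mem_left (↑u⁻¹ : k[ε]) ha
    rwa [Units.inv_mul] at this
  by_cases hbot : I = ⊥
  · exact Or.inl hbot
  refine Or.inr (Or.inl (le_antisymm hle ?_))
  obtain ⟨a, ha, hne⟩ := Submodule.exists_mem_ne_zero_of_ne_bot hbot
  have hfst : a.fst = 0 := (mem_span_eps_iff a).1 (hle ha)
  have ha2 : a = a.snd • (ε : k[ε]) := by
    conv_lhs => rw [eq_inl_add_smul_eps a, hfst, map_zero, zero_add]
  obtain ⟨c, hc⟩ : ∃ c : k, a = c • (ε : k[ε]) := ⟨a.snd, ha2⟩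
  have hsnd : c ≠ 0 := by
    intro h0
    apply hne
    rw [hc, h0, zero_smul]
  rw [Ideal.span_singleton_le_iff_mem]
  have : (ε : k[ε]) = algebraMap k k[ε] c⁻¹ * a := by
    rw [hc, ← Algebra.smul_def, smul_smul, inv_mul_cancel₀ hsnd, one_smul]
  rw [this]
  exact I.mul_mem_left _ ha

/-- Flatness criterion over the dual numbers: `ε`-torsion is `ε`-divisible. -/
theorem flat_of_eps {M : Type u} [AddCommGroup M] [Module k[ε] M]
    (h : ∀ m : M, (ε : k[ε]) • m = 0 → ∃ m' : M, m = (ε : k[ε]) • m') : Module.Flat k[ε] M := by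
  rw [Module.Flat.iff_rTensor_injective']
  intro I
  rcases ideal_cases I with rfl | rfl | rfl
  · haveI : Subsingleton ((⊥ : Ideal k[ε]) ⊗[k[ε]] M) := by
      refine ⟨fun x y => ?_⟩
      have hz : ∀ z : (⊥ : Ideal k[ε]) ⊗[k[ε]] M, z = 0 := by
        intro z
        induction z with
        | zero => rfl
        | tmul a m =>
          have : a = 0 := Subsingleton.elim _ _
          rw [this, zero_tmul]
        | add x y hx hy => rw [hx, hy, add_zero]
      rw [hz x, hz y]
    exact Function.injective_of_subsingleton _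
  · rw [injective_iff_map_eq_zero]
    intro x hx
    have hmem : (ε : k[ε]) ∈ Ideal.span {(ε : k[ε])} := Ideal.mem_span_singleton_self _
    have key : ∀ x : (Ideal.span {(ε : k[ε])} : Ideal k[ε]) ⊗[k[ε]] M,
        ∃ m : M, x = (⟨ε, hmem⟩ : (Ideal.span {(ε : k[ε])} : Ideal k[ε])) ⊗ₜ[k[ε]] m := by
      intro x
      induction x with
      | zero => exact ⟨0, (tmul_zero _ _).symm⟩
      | tmul a m =>
        obtain ⟨b, hb⟩ := Ideal.mem_span_singleton'.1 a.2
        refine ⟨b • m, ?_⟩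
        have : a = b • (⟨ε, hmem⟩ : (Ideal.span {(ε : k[ε])} : Ideal k[ε])) := by
          apply Subtype.ext
          rw [Submodule.coe_smul, smul_eq_mul, hb]
        rw [this, smul_tmul]
      | add x y hx hy =>
        obtain ⟨m₁, rfl⟩ := hx
        obtain ⟨m₂, rfl⟩ := hy
        exact ⟨m₁ + m₂, (tmul_add _ _ _).symm⟩
    obtain ⟨m, rfl⟩ := key x
    rw [LinearMap.rTensor_tmul] at hx
    have h0 : (ε : k[ε]) • m = 0 := by
      have := congrArg (TensorProduct.lid k[ε] M) hx
      rwa [Submodule.subtype_apply, TensorProduct.lid_tmul, map_zero] at this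
    obtain ⟨m', rfl⟩ := h m h0
    rw [← smul_tmul]
    have : (ε : k[ε]) • (⟨ε, hmem⟩ : (Ideal.span {(ε : k[ε])} : Ideal k[ε])) = 0 := by
      apply Subtype.ext
      rw [Submodule.coe_smul, smul_eq_mul, eps_mul_eps]
      rfl
    rw [this, zero_tmul]
  · exact (LinearEquiv.rTensor M (Submodule.topEquiv (R := k[ε]) (M := k[ε]))).injective

end Groth.Agent.Lib.Helper19.DefDual
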