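import Mathlib
import Groth.Prelude.Def_Exal2
import Groth.Agent.Lib.Helper7Exal

/-! Baer difference of two extensions, morphisms of extensions, descent of maps through the projection. -/

set_option linter.unusedSectionVars false

open Exal

universe u v w

namespace Groth.Agent.Lib.Helper7.ExalLib


section Hom

variable {A : Type u} {B L : Type v} [CommRing A] [CommRing B] [Algebra A B]
  [AddCommGroup L] [Module B L]

/-- a morphism of extensions is an equivalence -/
noncomputable def equivOfHom {X Y : Exal.Ext A B L} (f : X.E →ₐ[A] Y.E)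
    (hproj : ∀ x, Y.proj (f x) = X.proj x) (hincl : ∀ z, f (X.incl z) = Y.incl z) :
    X.Equiv Y where
  toAlgEquiv := AlgEquiv.ofBijective f (by
    constructor
    · rw [injective_iff_map_eq_zero]
      intro x hx
      have h1 : X.proj x = 0 := by rw [← hproj, hx, map_zero]
      obtain ⟨z, rfl⟩ := (X.isExtension.exact x).1 h1
      rw [hincl] at hx
      have : z = 0 := Y.isExtension.incl_injective (hx.trans (map_zero _).symm)
      rw [this, map_zero]
    · intro y
      obtain ⟨x, hx⟩ := X.isExtension.proj_surjective (Y.proj y)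
      have h1 : Y.proj (y - f x) = 0 := by rw [map_sub, hproj, hx, sub_self]
      obtain ⟨z, hz⟩ := (Y.isExtension.exact _).1 h1
      refine ⟨x + X.incl z, ?_⟩
      rw [map_add, hincl, hz]; ring)
  proj_apply := hproj
  apply_incl := hincl

lemma isTrivial_of_equiv {X Y : Exal.Ext A B L} (e : X.Equiv Y) (h : Y.IsTrivial) : X.IsTrivial := by
  obtain ⟨s, hs⟩ := h
  refine ⟨(e.toAlgEquiv.symm : Y.E →ₐ[A] X.E).comp s, fun b => ?_⟩
  have := e.symm.proj_apply (s b)
  exact this.trans (hs b)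

end Hom



section Lift

variable {A : Type u} {B L : Type v} [CommRing A] [CommRing B] [Algebra A B]
  [AddCommGroup L] [Module B L]

/-- an algebra map out of the middle ring killing the kernel descends to `B` -/
theorem exists_lift_of_incl_eq_zero (X : Exal.Ext A B L) {C : Type w} [CommRing C] [Algebra A C]
    (f : X.E →ₐ[A] C) (hf : ∀ z, f (X.incl z) = 0) :
    ∃ g : B →ₐ[A] C, ∀ x, g (X.proj x) = f x := by
  have hker : ∀ x ∈ RingHom.ker X.proj, f x = 0 := by
    intro x hx
    obtain ⟨z, rfl⟩ := (X.isExtension.exact x).1 hx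
    exact hf z
  let e := Ideal.quotientKerAlgEquivOfSurjective X.isExtension.proj_surjective
  refine ⟨(Ideal.Quotient.liftₐ (RingHom.ker X.proj) f hker).comp (e.symm : B →ₐ[A] _), fun x => ?_⟩
  have : e.symm (X.proj x) = Ideal.Quotient.mk _ x := by
    rw [AlgEquiv.symm_apply_eq]
    rfl
  rw [AlgHom.comp_apply]
  change (Ideal.Quotient.liftₐ (RingHom.ker X.proj) f hker) (e.symm (X.proj x)) = f x
  rw [this]
  rfl

end Lift



section Diff

variable {A : Type u} {B L : Type v} [CommRing A] [CommRing B] [Algebra A B]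
  [AddCommGroup L] [Module B L]

variable (Y Y' : Exal.Ext A B L)

/-- fibre product of the middle rings over `B` -/
def diffFiber : Subalgebra A (Y.E × Y'.E) :=
  AlgHom.equalizer (Y.proj.comp (AlgHom.fst A Y.E Y'.E)) (Y'.proj.comp (AlgHom.snd A Y.E Y'.E))

lemma mem_diffFiber (x : Y.E × Y'.E) : x ∈ diffFiber Y Y' ↔ Y.proj x.1 = Y'.proj x.2 := by
  change x ∈ AlgHom.equalizer _ _ ↔ _
  rw [AlgHom.mem_equalizer]
  rfl

/-- the diagonal copy of `L` -/
def diagIdeal : Ideal (diffFiber Y Y') where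
  carrier := {x | ∃ z : L, (x : Y.E × Y'.E) = (Y.incl z, Y'.incl z)}
  add_mem' := by
    rintro x y ⟨z, hz⟩ ⟨w, hw⟩
    refine ⟨z + w, ?_⟩
    rw [Subalgebra.coe_add, hz, hw, map_add, map_add]
    rfl
  zero_mem' := ⟨0, by rw [map_zero, map_zero]; rfl⟩
  smul_mem' := by
    rintro c x ⟨z, hz⟩
    have hc := (mem_diffFiber Y Y' _).1 c.2
    refine ⟨Y.proj (c : Y.E × Y'.E).1 • z, ?_⟩
    rw [smul_eq_mul, Subalgebra.coe_mul, hz]
    apply Prod.ext
    · change (c : Y.E × Y'.E).1 * Y.incl z = _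
      rw [Y.isExtension.mul_incl]
    · change (c : Y.E × Y'.E).2 * Y'.incl z = _
      rw [Y'.isExtension.mul_incl, hc]

lemma mem_diagIdeal (x : diffFiber Y Y') :
    x ∈ diagIdeal Y Y' ↔ ∃ z : L, (x : Y.E × Y'.E) = (Y.incl z, Y'.incl z) := Iff.rfl

/-- the element `(incl z, 0)` of the fibre product -/
def inclLeft (z : L) : diffFiber Y Y' :=
  ⟨(Y.incl z, 0), by rw [mem_diffFiber]; change Y.proj (Y.incl z) = Y'.proj 0; rw [proj_incl, map_zero]⟩

/-- the projection of the fibre product to `B` -/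
def diffProj0 : diffFiber Y Y' →ₐ[A] B :=
  (Y.proj.comp (AlgHom.fst A Y.E Y'.E)).comp (diffFiber Y Y').val

lemma diffProj0_apply (x : diffFiber Y Y') : diffProj0 Y Y' x = Y.proj (x : Y.E × Y'.E).1 := rfl

/-- the Baer difference `Y - Y'` -/
noncomputable def diff : Exal.Ext A B L where
  E := diffFiber Y Y' ⧸ diagIdeal Y Y'
  proj := Ideal.Quotient.liftₐ (diagIdeal Y Y') (diffProj0 Y Y') (by
    rintro x ⟨z, hz⟩
    rw [diffProj0_apply, hz]
    exact proj_incl Y z)
  incl :=
    { toFun := fun z => Ideal.Quotient.mk (diagIdeal Y Y') (inclLeft Y Y' z)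
      map_zero' := by
        rw [Ideal.Quotient.eq_zero_iff_mem]
        exact ⟨0, by simp [inclLeft]⟩
      map_add' := fun z w => by
        rw [← map_add]
        congr 1
        apply Subtype.ext
        simp [inclLeft] }
  isExtension :=
    { proj_surjective := fun b => by
        obtain ⟨y, hy⟩ := Y.isExtension.proj_surjective b
        obtain ⟨y', hy'⟩ := Y'.isExtension.proj_surjective b
        refine ⟨Ideal.Quotient.mk _ ⟨(y, y'), (mem_diffFiber Y Y' _).2 (hy.trans hy'.symm)⟩, ?_⟩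
        exact hy
      incl_injective := by
        intro z w h
        change Ideal.Quotient.mk (diagIdeal Y Y') (inclLeft Y Y' z) =
          Ideal.Quotient.mk (diagIdeal Y Y') (inclLeft Y Y' w) at h
        rw [Ideal.Quotient.eq] at h
        obtain ⟨c, hc⟩ := h
        have h1 : Y.incl z - Y.incl w = Y.incl c := congrArg Prod.fst hc
        have h2 : (0 : Y'.E) - 0 = Y'.incl c := congrArg Prod.snd hc
        rw [sub_zero] at h2
        have hc0 : c = 0 := Y'.isExtension.incl_injective (h2.symm.trans (map_zero _).symm)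
        rw [hc0, map_zero, ← map_sub] at h1
        have := Y.isExtension.incl_injective (h1.trans (map_zero _).symm)
        exact sub_eq_zero.1 this
      exact := fun x => by
        obtain ⟨x, rfl⟩ := Ideal.Quotient.mk_surjective x
        constructor
        · intro hx
          have hx1 : Y.proj (x : Y.E × Y'.E).1 = 0 := hx
          have hx2 : Y'.proj (x : Y.E × Y'.E).2 = 0 := by
            rw [← (mem_diffFiber Y Y' _).1 x.2]; exact hx1
          obtain ⟨c, hc⟩ := (Y.isExtension.exact _).1 hx1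
          obtain ⟨c', hc'⟩ := (Y'.isExtension.exact _).1 hx2
          refine ⟨c - c', ?_⟩
          change Ideal.Quotient.mk (diagIdeal Y Y') (inclLeft Y Y' (c - c')) = _
          rw [Ideal.Quotient.eq]
          refine ⟨-c', ?_⟩
          apply Prod.ext
          · change Y.incl (c - c') - (x : Y.E × Y'.E).1 = Y.incl (-c')
            rw [← hc, map_sub, map_neg]; ring
          · change (0 : Y'.E) - (x : Y.E × Y'.E).2 = Y'.incl (-c')
            rw [← hc', map_neg]; ring
        · rintro ⟨z, hz⟩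
          rw [← hz]
          exact proj_incl Y z
      mul_incl := fun x z => by
        obtain ⟨x, rfl⟩ := Ideal.Quotient.mk_surjective x
        change Ideal.Quotient.mk (diagIdeal Y Y') x * Ideal.Quotient.mk (diagIdeal Y Y') (inclLeft Y Y' z) =
          Ideal.Quotient.mk (diagIdeal Y Y') (inclLeft Y Y' (Y.proj (x : Y.E × Y'.E).1 • z))
        rw [← map_mul]
        congr 1
        apply Subtype.ext
        apply Prod.ext
        · change (x : Y.E × Y'.E).1 * Y.incl z = _
          rw [Y.isExtension.mul_incl]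
          rfl
        · change (x : Y.E × Y'.E).2 * 0 = 0
          rw [mul_zero] }

end Diff



section DiffTriv

variable {A : Type u} {B L : Type v} [CommRing A] [CommRing B] [Algebra A B]
  [AddCommGroup L] [Module B L]

variable (Y Y' : Exal.Ext A B L)

/-- the quotient map onto the middle ring of the difference -/
noncomputable def diffMk : diffFiber Y Y' →ₐ[A] (diff Y Y').E :=
  Ideal.Quotient.mkₐ A (diagIdeal Y Y')

lemma diffMk_surjective : Function.Surjective (diffMk Y Y') :=
  Ideal.Quotient.mk_surjective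

lemma diffMk_eq_zero_iff (x : diffFiber Y Y') : diffMk Y Y' x = 0 ↔ x ∈ diagIdeal Y Y' :=
  Ideal.Quotient.eq_zero_iff_mem

lemma diffMk_eq_iff (x y : diffFiber Y Y') : diffMk Y Y' x = diffMk Y Y' y ↔ x - y ∈ diagIdeal Y Y' :=
  Ideal.Quotient.eq

lemma diff_proj_diffMk (x : diffFiber Y Y') :
    (diff Y Y').proj (diffMk Y Y' x) = Y.proj (x : Y.E × Y'.E).1 := rfl

lemma diff_incl_apply (z : L) : (diff Y Y').incl z = diffMk Y Y' (inclLeft Y Y' z) := rfl

theorem equiv_of_diff_isTrivial (h : (diff Y Y').IsTrivial) : Nonempty (Y.Equiv Y') := by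
  obtain ⟨s, hs⟩ := h
  -- the graph
  let G : Subalgebra A (diffFiber Y Y') :=
    AlgHom.equalizer (diffMk Y Y') (s.comp (diffProj0 Y Y'))
  have hG : ∀ x : diffFiber Y Y', x ∈ G ↔
      diffMk Y Y' x = s (Y.proj (x : Y.E × Y'.E).1) := by
    intro x
    change x ∈ AlgHom.equalizer _ _ ↔ _
    rw [AlgHom.mem_equalizer]
    rfl
  let fstG : G →ₐ[A] Y.E := (AlgHom.fst A Y.E Y'.E).comp ((diffFiber Y Y').val.comp G.val)
  let sndG : G →ₐ[A] Y'.E := (AlgHom.snd A Y.E Y'.E).comp ((diffFiber Y Y').val.comp G.val)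
  have hfst : ∀ g : G, fstG g = ((g : diffFiber Y Y') : Y.E × Y'.E).1 := fun g => rfl
  have hsnd : ∀ g : G, sndG g = ((g : diffFiber Y Y') : Y.E × Y'.E).2 := fun g => rfl
  have hbij : Function.Bijective fstG := by
    constructor
    · rw [injective_iff_map_eq_zero]
      intro g hg
      rw [hfst] at hg
      have h1 := (hG g.1).1 g.2
      rw [hg, map_zero, map_zero, diffMk_eq_zero_iff] at h1
      obtain ⟨c, hc⟩ := h1
      have h2 : Y.incl c = 0 := by
        rw [← hg]; exact (congrArg Prod.fst hc).symm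
      have hc0 : c = 0 := Y.isExtension.incl_injective (h2.trans (map_zero _).symm)
      have h3 : ((g : diffFiber Y Y') : Y.E × Y'.E).2 = 0 := by
        rw [congrArg Prod.snd hc, hc0]; exact map_zero _
      apply Subtype.ext
      apply Subtype.ext
      exact Prod.ext hg h3
    · intro e
      obtain ⟨x, hx⟩ := diffMk_surjective Y Y' (s (Y.proj e))
      have h1 : Y.proj (x : Y.E × Y'.E).1 = Y.proj e := by
        rw [← diff_proj_diffMk, hx, hs]
      have h2 : Y.proj ((x : Y.E × Y'.E).1 - e) = 0 := by rw [map_sub, h1, sub_self]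
      obtain ⟨c, hc⟩ := (Y.isExtension.exact _).1 h2
      have hmem : ((e, (x : Y.E × Y'.E).2 - Y'.incl c) : Y.E × Y'.E) ∈ diffFiber Y Y' := by
        rw [mem_diffFiber]
        change Y.proj e = Y'.proj ((x : Y.E × Y'.E).2 - Y'.incl c)
        rw [map_sub, proj_incl, sub_zero, ← h1]
        exact (mem_diffFiber Y Y' _).1 x.2
      have hmk : diffMk Y Y' ⟨_, hmem⟩ = diffMk Y Y' x := by
        rw [eq_comm, diffMk_eq_iff]
        refine ⟨c, ?_⟩
        apply Prod.ext
        · change (x : Y.E × Y'.E).1 - e = Y.incl c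
          exact hc.symm
        · change (x : Y.E × Y'.E).2 - ((x : Y.E × Y'.E).2 - Y'.incl c) = Y'.incl c
          ring
      refine ⟨⟨⟨_, hmem⟩, ?_⟩, rfl⟩
      rw [hG, hmk, hx]
  let eG : G ≃ₐ[A] Y.E := AlgEquiv.ofBijective fstG hbij
  let ψ : Y.E →ₐ[A] Y'.E := sndG.comp (eG.symm : Y.E →ₐ[A] G)
  have hψ : ∀ g : G, ψ (fstG g) = sndG g := by
    intro g
    change sndG (eG.symm (eG g)) = sndG g
    rw [AlgEquiv.symm_apply_apply]
  refine ⟨equivOfHom ψ ?_ ?_⟩
  · intro e
    obtain ⟨g, rfl⟩ := hbij.2 e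
    rw [hψ, hfst, hsnd]
    exact ((mem_diffFiber Y Y' _).1 g.1.2).symm
  · intro z
    have hmem : ((Y.incl z, Y'.incl z) : Y.E × Y'.E) ∈ diffFiber Y Y' := by
      rw [mem_diffFiber]
      change Y.proj (Y.incl z) = Y'.proj (Y'.incl z)
      rw [proj_incl, proj_incl]
    have hmemG : (⟨_, hmem⟩ : diffFiber Y Y') ∈ G := by
      rw [hG]
      change _ = s (Y.proj (Y.incl z))
      rw [proj_incl, map_zero, diffMk_eq_zero_iff]
      exact ⟨z, rfl⟩
    exact hψ ⟨⟨_, hmem⟩, hmemG⟩

end DiffTriv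

section DiffPB

variable {A : Type u} {B L : Type v} [CommRing A] [CommRing B] [Algebra A B]
  [AddCommGroup L] [Module B L]
variable (B₀ : Type v) [CommRing B₀] [Algebra A B₀] [Algebra B₀ B] [IsScalarTower A B₀ B]
variable [Module B₀ L] [IsScalarTower B₀ B L]

variable (Y Y' : Exal.Ext A B L)

lemma mem_fiberProd (X : Exal.Ext A B L) (x : X.E × B₀) :
    x ∈ X.fiberProd B₀ ↔ X.proj x.1 = algebraMap B₀ B x.2 := by
  change x ∈ AlgHom.equalizer _ _ ↔ _
  rw [AlgHom.mem_equalizer]
  rfl

/-- the inclusion of the middle ring of a pullback into the product -/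
def pbVal (X : Exal.Ext A B L) : (X.pullback B₀).E →ₐ[A] X.E × B₀ := (X.fiberProd B₀).val

lemma pbVal_mem (X : Exal.Ext A B L) (x : (X.pullback B₀).E) :
    X.proj (pbVal B₀ X x).1 = algebraMap B₀ B (pbVal B₀ X x).2 :=
  (mem_fiberProd B₀ X _).1 x.2

lemma pullback_proj_apply (X : Exal.Ext A B L) (x : (X.pullback B₀).E) :
    (X.pullback B₀).proj x = (pbVal B₀ X x).2 := rfl

lemma pbVal_incl (X : Exal.Ext A B L) (z : L) :
    pbVal B₀ X ((X.pullback B₀).incl z) = (X.incl z, 0) := rfl

theorem diff_pullback_isTrivial (θ : (Y.pullback B₀).Equiv (Y'.pullback B₀)) :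
    ((diff Y Y').pullback B₀).IsTrivial := by
  -- the two coordinate maps
  let θh : (Y.pullback B₀).E →ₐ[A] (Y'.pullback B₀).E := (θ.toAlgEquiv : _ →ₐ[A] _)
  let p1 : (Y.pullback B₀).E →ₐ[A] Y.E := (AlgHom.fst A Y.E B₀).comp (pbVal B₀ Y)
  let p2 : (Y.pullback B₀).E →ₐ[A] Y'.E :=
    ((AlgHom.fst A Y'.E B₀).comp (pbVal B₀ Y')).comp θh
  have hp1 : ∀ x, p1 x = (pbVal B₀ Y x).1 := fun x => rfl
  have hp2 : ∀ x, p2 x = (pbVal B₀ Y' (θh x)).1 := fun x => rfl
  have hθ2 : ∀ x : (Y.pullback B₀).E, (pbVal B₀ Y' (θh x)).2 = (pbVal B₀ Y x).2 :=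
    fun x => θ.proj_apply x
  have hmem : ∀ x : (Y.pullback B₀).E, (AlgHom.prod p1 p2) x ∈ diffFiber Y Y' := by
    intro x
    rw [mem_diffFiber]
    change Y.proj (p1 x) = Y'.proj (p2 x)
    rw [hp1, hp2, pbVal_mem, pbVal_mem, hθ2]
  let Φ0 : (Y.pullback B₀).E →ₐ[A] diffFiber Y Y' :=
    AlgHom.codRestrict (AlgHom.prod p1 p2) (diffFiber Y Y') hmem
  have hΦ0 : ∀ x, ((Φ0 x : diffFiber Y Y') : Y.E × Y'.E) = (p1 x, p2 x) := fun x => rfl
  let Φ : (Y.pullback B₀).E →ₐ[A] (diff Y Y').E := (diffMk Y Y').comp Φ0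
  have hΦ : ∀ z, Φ ((Y.pullback B₀).incl z) = 0 := by
    intro z
    change diffMk Y Y' (Φ0 ((Y.pullback B₀).incl z)) = 0
    rw [diffMk_eq_zero_iff]
    refine ⟨z, ?_⟩
    have h1 : θh ((Y.pullback B₀).incl z) = (Y'.pullback B₀).incl z := θ.apply_incl z
    rw [hΦ0, hp1, hp2, h1, pbVal_incl, pbVal_incl]
  obtain ⟨g, hg⟩ := exists_lift_of_incl_eq_zero (Y.pullback B₀) Φ hΦ
  have hgp : ∀ a : B₀, (diff Y Y').proj (g a) = algebraMap B₀ B a := by
    intro a
    obtain ⟨x, rfl⟩ := (Y.pullback B₀).isExtension.proj_surjective a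
    rw [hg]
    change (diff Y Y').proj (diffMk Y Y' (Φ0 x)) = _
    rw [diff_proj_diffMk, hΦ0, pullback_proj_apply, ← pbVal_mem]
    rfl
  let s : B₀ →ₐ[A] ((diff Y Y').pullback B₀).E :=
    AlgHom.codRestrict (AlgHom.prod g (AlgHom.id A B₀)) ((diff Y Y').fiberProd B₀) (fun b => by
      rw [mem_fiberProd]
      exact hgp b)
  exact ⟨s, fun b => rfl⟩

end DiffPB


section TrivTriv

variable {A : Type u} {B L : Type v} [CommRing A] [CommRing B] [Algebra A B]
  [AddCommGroup L] [Module B L]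

/-- two trivial extensions are equivalent -/
theorem equiv_of_isTrivial_of_isTrivial {X Y : Exal.Ext A B L} (hX : X.IsTrivial) (hY : Y.IsTrivial) :
    Nonempty (X.Equiv Y) := by
  obtain ⟨sX, hsX⟩ := hX
  obtain ⟨sY, hsY⟩ := hY
  apply equiv_of_diff_isTrivial
  let s0 : B →ₐ[A] diffFiber X Y :=
    AlgHom.codRestrict (AlgHom.prod sX sY) (diffFiber X Y) (fun b => by
      rw [mem_diffFiber]
      change X.proj (sX b) = Y.proj (sY b)
      rw [hsX, hsY])
  refine ⟨(diffMk X Y).comp s0, fun b => ?_⟩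
  change (diff X Y).proj (diffMk X Y (s0 b)) = b
  rw [diff_proj_diffMk]
  exact hsX b

end TrivTriv



section TrivIsTriv

attribute [local instance] Exal.opModule Exal.isCentralScalar_opModule

variable (A : Type u) (B L : Type v) [CommRing A] [CommRing B] [Algebra A B]
  [AddCommGroup L] [Module B L]

theorem trivial_isTrivial : (Exal.Ext.trivial A B L).IsTrivial := by
  refine ⟨?_, ?_⟩
  · exact
      { toFun := fun r => (TrivSqZeroExt.inl r : TrivSqZeroExt B L)
        map_one' := TrivSqZeroExt.inl_one L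
        map_mul' := TrivSqZeroExt.inl_mul L
        map_zero' := TrivSqZeroExt.inl_zero L
        map_add' := TrivSqZeroExt.inl_add L
        commutes' := fun c => rfl }
  · intro b
    rfl

end TrivIsTriv

section PBTriv

variable {A : Type u} {B L : Type v} [CommRing A] [CommRing B] [Algebra A B]
  [AddCommGroup L] [Module B L]
variable (B₀ : Type v) [CommRing B₀] [Algebra A B₀] [Algebra B₀ B] [IsScalarTower A B₀ B]
variable [Module B₀ L] [IsScalarTower B₀ B L]

theorem pullback_isTrivial_of_isTrivial (X : Exal.Ext A B L) (h : X.IsTrivial) :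
    (X.pullback B₀).IsTrivial := by
  obtain ⟨s, hs⟩ := h
  let s' : B₀ →ₐ[A] X.E := s.comp (IsScalarTower.toAlgHom A B₀ B)
  refine ⟨AlgHom.codRestrict (AlgHom.prod s' (AlgHom.id A B₀)) (X.fiberProd B₀) (fun a => ?_), fun a => rfl⟩
  rw [mem_fiberProd]
  exact hs _

end PBTriv

end Groth.Agent.Lib.Helper7.ExalLib
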