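import Groth.Agent.Lib.Helper19DefAffD
import Groth.Agent.Lib.Helper19DefDualA
import Groth.Agent.Lib.Helper7ExalBaer

/-!
# First-order deformations of an affine scheme and extensions of its ring by itself
-/

set_option autoImplicit false
universe u

open CategoryTheory CategoryTheory.Limits AlgebraicGeometry ArtFun ArtFun.Art
open Groth.Agent.Lib.Helper19.DefAff

namespace Groth.Agent.Lib.Helper19.DefDual

open DualNumber

variable {k B : Type u} [Field k] [CommRing B] [Algebra k B]

/-- `ε` as an element of the object `dual k k` -/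
def epsA : (Art.dual k k : Type u) := (ε : k[ε])

lemma epsA_mul_epsA : (epsA : (Art.dual k k : Type u)) * epsA = 0 :=
  eps_mul_eps (R := k)

lemma mem_span_epsA_iff (a : (Art.dual k k : Type u)) :
    a ∈ Ideal.span {(epsA : (Art.dual k k : Type u))} ↔ (Art.dual k k).res a = 0 :=
  mem_span_eps_iff (k := k) a

lemma maximalIdeal_dual :
    IsLocalRing.maximalIdeal (Art.dual k k) = Ideal.span {(epsA : (Art.dual k k : Type u))} := by
  ext a
  rw [(Art.dual k k).mem_maximalIdeal_iff, mem_span_epsA_iff]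

lemma mem_span_of_epsA_mul_eq_zero (a : (Art.dual k k : Type u))
    (h : (epsA : (Art.dual k k : Type u)) * a = 0) :
    a ∈ Ideal.span {(epsA : (Art.dual k k : Type u))} := by
  rw [mem_span_epsA_iff]
  exact (eps_mul_eq_zero_iff (k := k) a).1 h

/-- `flat_of_eps` for modules over the object `dual k k` -/
theorem flat_of_epsA {M : Type u} [AddCommGroup M] [Module (Art.dual k k) M]
    (h : ∀ m : M, (epsA : (Art.dual k k : Type u)) • m = 0 →
      ∃ m' : M, m = (epsA : (Art.dual k k : Type u)) • m') :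
    Module.Flat (Art.dual k k) M := by
  have h1 : @Module.Flat k[ε] M TrivSqZeroExt.commSemiring _ ‹Module (Art.dual k k) M› :=
    @flat_of_eps k _ M _ ‹Module (Art.dual k k) M› h
  exact h1

variable (ξ : DefSch (Spec (CommRingCat.of B)) (Spec.map (CommRingCat.ofHom (algebraMap k B)))
  (Art.dual k k))

/-- the image of `ε` in the ring of a first-order deformation -/
noncomputable def epsD : DRing ξ := algebraMap (Art.dual k k) (DRing ξ) epsA

lemma epsD_mul_epsD : epsD ξ * epsD ξ = 0 := by
  rw [epsD, ← map_mul, epsA_mul_epsA, map_zero]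

lemma ker_rhoAlg_eq : RingHom.ker (rhoAlg ξ) = Ideal.span {epsD ξ} := by
  rw [ker_rhoAlg, maximalIdeal_dual, Ideal.map_span, Set.image_singleton]
  rfl

lemma rhoAlg_eq_zero_iff (b : DRing ξ) : rhoAlg ξ b = 0 ↔ ∃ c, b = epsD ξ * c := by
  rw [← RingHom.mem_ker, ker_rhoAlg_eq, Ideal.mem_span_singleton']
  constructor
  · rintro ⟨c, rfl⟩
    exact ⟨c, mul_comm _ _⟩
  · rintro ⟨c, rfl⟩
    exact ⟨c, mul_comm _ _⟩

lemma epsD_mul_eq_zero_iff (b : DRing ξ) : epsD ξ * b = 0 ↔ rhoAlg ξ b = 0 := by
  constructor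
  · intro h
    have h1 : (epsA : (Art.dual k k : Type u)) • b ∈
        (⊥ : Ideal (Art.dual k k)) • (⊤ : Submodule (Art.dual k k) (DRing ξ)) := by
      rw [Submodule.bot_smul, Submodule.mem_bot, Algebra.smul_def]
      exact h
    have h2 := Groth.Agent.Lib.Helper19.Rigid.mem_smul_top_of_smul_mem_of_flat
      (⊥ : Ideal (Art.dual k k)) (Ideal.span {(epsA : (Art.dual k k : Type u))}) epsA ?_ b h1
    · rw [Ideal.smul_top_eq_map, Submodule.restrictScalars_mem, ← maximalIdeal_dual,
        ← ker_rhoAlg] at h2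
      exact h2
    · intro a ha
      rw [Ideal.mem_bot] at ha
      exact mem_span_of_epsA_mul_eq_zero a ha
  · intro h
    obtain ⟨c, rfl⟩ := (rhoAlg_eq_zero_iff ξ b).1 h
    rw [← mul_assoc, epsD_mul_epsD, zero_mul]

/-- a set-theoretic section of the reduction map -/
noncomputable def sD (b : B) : DRing ξ := Function.surjInv (rhoAlg_surjective ξ) b

lemma rhoAlg_sD (b : B) : rhoAlg ξ (sD ξ b) = b := Function.surjInv_eq (rhoAlg_surjective ξ) b

lemma epsD_mul_sD (b : B) (b' : DRing ξ) (h : rhoAlg ξ b' = b) :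
    epsD ξ * sD ξ b = epsD ξ * b' := by
  rw [← sub_eq_zero, ← mul_sub, epsD_mul_eq_zero_iff, map_sub, rhoAlg_sD, h, sub_self]

/-- the inclusion of the kernel of a first-order deformation -/
noncomputable def inclD : B →+ DRing ξ where
  toFun b := epsD ξ * sD ξ b
  map_zero' := by
    rw [epsD_mul_sD ξ 0 0 (map_zero _), mul_zero]
  map_add' b c := by
    rw [epsD_mul_sD ξ (b + c) (sD ξ b + sD ξ c) (by rw [map_add, rhoAlg_sD, rhoAlg_sD]), mul_add]

lemma inclD_eq (b : B) (b' : DRing ξ) (h : rhoAlg ξ b' = b) : inclD ξ b = epsD ξ * b' :=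
  epsD_mul_sD ξ b b' h

lemma inclD_one : inclD ξ 1 = epsD ξ := by
  rw [inclD_eq ξ 1 1 (map_one _), mul_one]

/-- the extension of `B` by `B` attached to a first-order deformation -/
noncomputable def extOfDef : Exal.Ext k B B where
  E := DRing ξ
  proj := rhoAlg ξ
  incl := inclD ξ
  isExtension :=
    { proj_surjective := rhoAlg_surjective ξ
      incl_injective := by
        rw [injective_iff_map_eq_zero]
        intro b hb
        rw [inclD_eq ξ b _ (rhoAlg_sD ξ b), epsD_mul_eq_zero_iff, rhoAlg_sD] at hb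
        exact hb
      exact := by
        intro x
        constructor
        · intro hx
          obtain ⟨c, rfl⟩ := (rhoAlg_eq_zero_iff ξ x).1 hx
          exact ⟨rhoAlg ξ c, inclD_eq ξ _ c rfl⟩
        · rintro ⟨b, rfl⟩
          rw [inclD_eq ξ b _ (rhoAlg_sD ξ b), rhoAlg_eq_zero_iff]
          exact ⟨_, rfl⟩
      mul_incl := by
        intro x z
        rw [inclD_eq ξ z _ (rhoAlg_sD ξ z)]
        rw [inclD_eq ξ (rhoAlg ξ x • z) (x * sD ξ z)
          (by rw [map_mul, rhoAlg_sD, smul_eq_mul])]
        ring }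

section OfExt

open Groth.Agent.Lib.Helper7.ExalLib

variable (X : Exal.Ext k B B)

/-- the middle ring of an extension, as a type of its own -/
def ERing (X : Exal.Ext k B B) : Type u := X.E

instance : CommRing (ERing X) := X.commRing

instance : Algebra k (ERing X) := X.algebra

/-- the image of `ε` in the middle ring of an extension -/
def epsE : ERing X := X.incl 1

lemma epsE_mul_epsE : epsE X * epsE X = 0 := incl_mul_incl X 1 1

lemma epsE_mul (x : ERing X) : epsE X * x = X.incl (X.proj x) := by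
  have h := mul_incl' X x (1 : B)
  rw [smul_eq_mul, mul_one] at h
  exact h

/-- the structure map from the dual numbers -/
noncomputable def liftHom : k[ε] →ₐ[k] ERing X :=
  DualNumber.lift ⟨(Algebra.ofId k (ERing X), epsE X), epsE_mul_epsE X, fun _ => Commute.all _ _⟩

lemma liftHom_apply (a : k[ε]) :
    liftHom X a = algebraMap k (ERing X) a.fst + algebraMap k (ERing X) a.snd * epsE X :=
  DualNumber.lift_apply_apply _ a

noncomputable instance : Algebra (Art.dual k k) (ERing X) :=
  ((liftHom X).toRingHom : (Art.dual k k : Type u) →+* ERing X).toAlgebra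

lemma algebraMap_ERing (a : (Art.dual k k : Type u)) :
    algebraMap (Art.dual k k) (ERing X) a = liftHom X a := rfl

lemma algebraMap_epsA : algebraMap (Art.dual k k) (ERing X) epsA = epsE X := by
  rw [algebraMap_ERing]
  exact DualNumber.lift_apply_eps _

/-- the projection on `ERing` -/
def projE : ERing X →ₐ[k] B := X.proj

lemma projE_epsE : projE X (epsE X) = 0 := proj_incl X 1

lemma projE_eq_zero_iff (x : ERing X) : projE X x = 0 ↔ ∃ c : ERing X, x = epsE X * c := by
  constructor
  · intro h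
    obtain ⟨z, hz⟩ := (X.isExtension.exact x).1 h
    obtain ⟨c, hc⟩ := X.isExtension.proj_surjective z
    refine ⟨(c : ERing X), ?_⟩
    have h1 := epsE_mul X (c : ERing X)
    rw [hc] at h1
    exact hz.symm.trans h1.symm
  · rintro ⟨c, rfl⟩
    rw [map_mul, projE_epsE, zero_mul]

lemma epsE_mul_eq_zero_iff (x : ERing X) : epsE X * x = 0 ↔ projE X x = 0 := by
  rw [epsE_mul]
  constructor
  · intro h
    exact X.isExtension.incl_injective (h.trans (map_zero _).symm)
  · intro h
    have : X.proj x = 0 := h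
    rw [this]
    exact map_zero _

instance flat_ERing : Module.Flat (Art.dual k k) (ERing X) := by
  refine flat_of_epsA (k := k) (M := ERing X) ?_
  intro m hm
  have hm' : epsE X * m = 0 := by
    have : algebraMap (Art.dual k k) (ERing X) epsA * m = 0 := hm
    rwa [algebraMap_epsA] at this
  obtain ⟨c, hc⟩ := (projE_eq_zero_iff X m).1 ((epsE_mul_eq_zero_iff X m).1 hm')
  refine ⟨c, ?_⟩
  rw [hc, ← algebraMap_epsA]
  rfl

lemma projE_algebraMap (a : (Art.dual k k : Type u)) :
    projE X (algebraMap (Art.dual k k) (ERing X) a) = algebraMap k B ((Art.dual k k).res a) := by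
  rw [algebraMap_ERing]
  have h := liftHom_apply X a
  rw [h, map_add, map_mul, projE_epsE, mul_zero, add_zero, AlgHom.commutes]
  rfl

lemma ker_projE :
    RingHom.ker (projE X).toRingHom =
      Ideal.map (algebraMap (Art.dual k k) (ERing X)) (IsLocalRing.maximalIdeal (Art.dual k k)) := by
  rw [maximalIdeal_dual, Ideal.map_span, Set.image_singleton, algebraMap_epsA]
  ext x
  rw [RingHom.mem_ker, Ideal.mem_span_singleton']
  change projE X x = 0 ↔ _
  rw [projE_eq_zero_iff]
  constructor
  · rintro ⟨c, rfl⟩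
    exact ⟨c, mul_comm _ _⟩
  · rintro ⟨c, rfl⟩
    exact ⟨c, mul_comm _ _⟩

/-- the first-order deformation attached to an extension of `B` by `B` -/
noncomputable def defOfExt :
    DefSch (Spec (CommRingCat.of B)) (Spec.map (CommRingCat.ofHom (algebraMap k B)))
      (Art.dual k k) :=
  ofAlg (ERing X) (projE X).toRingHom (projE_algebraMap X) X.isExtension.proj_surjective
    (ker_projE X)

end OfExt

section Bijection

open Groth.Agent.Lib.Helper7.ExalLib

variable {ξ ξ' : DefSch (Spec (CommRingCat.of B)) (Spec.map (CommRingCat.ofHom (algebraMap k B)))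
  (Art.dual k k)}

/-- isomorphic deformations give equivalent extensions -/
theorem extOfDef_equiv_of_iso (e : ξ.Iso ξ') : Nonempty ((extOfDef ξ').Equiv (extOfDef ξ)) := by
  have h1 := phi_comp_appTop e.iso.hom e.hom_f
  have h2 := appTop_comp_rho e.iso.hom e.i_hom
  have h1' : ∀ a : (Art.dual k k : Type u),
      e.iso.hom.appTop.hom ((phi ξ').hom a) = (phi ξ).hom a := fun a =>
    congrArg (fun f => f.hom a) h1
  have h2' : ∀ x : DRing ξ', (rho ξ).hom (e.iso.hom.appTop.hom x) = (rho ξ').hom x := fun x =>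
    congrArg (fun f => f.hom x) h2
  let ψ : DRing ξ' →ₐ[k] DRing ξ :=
    { e.iso.hom.appTop.hom with
      commutes' := fun c => h1' (algebraMap k (Art.dual k k) c) }
  have hψε : ψ (epsD ξ') = epsD ξ := h1' epsA
  have hproj : ∀ x : DRing ξ', rhoAlg ξ (ψ x) = rhoAlg ξ' x := h2'
  refine ⟨equivOfHom (X := extOfDef ξ') (Y := extOfDef ξ) ψ hproj ?_⟩
  intro z
  change ψ (inclD ξ' z) = inclD ξ z
  rw [inclD_eq ξ' z _ (rhoAlg_sD ξ' z), map_mul, hψε]
  exact (inclD_eq ξ z _ ((hproj _).trans (rhoAlg_sD ξ' z))).symm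

lemma algebraMap_eq_of_eps {R : Type u} [CommRing R] [Algebra k R]
    (F G : (Art.dual k k : Type u) →ₐ[k] R) (h : F epsA = G epsA) : F = G := by
  have : ∀ F G : k[ε] →ₐ[k] R, F ε = G ε → F = G := fun F G h => DualNumber.algHom_ext h
  exact this F G h

/-- equivalent extensions come from isomorphic deformations -/
theorem iso_of_extOfDef_equiv (θ : (extOfDef ξ).Equiv (extOfDef ξ')) : Nonempty (ξ'.Iso ξ) := by
  let θ' : DRing ξ ≃ₐ[k] DRing ξ' := θ.toAlgEquiv
  have hproj : ∀ x : DRing ξ, rhoAlg ξ' (θ' x) = rhoAlg ξ x := θ.proj_apply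
  have hincl : ∀ z : B, θ' (inclD ξ z) = inclD ξ' z := θ.apply_incl
  have hε : θ' (epsD ξ) = epsD ξ' := by
    rw [← inclD_one, hincl, inclD_one]
  let t : Γ(ξ.total, ⊤) ⟶ Γ(ξ'.total, ⊤) := CommRingCat.ofHom (θ' : DRing ξ →+* DRing ξ')
  have hphi : phi ξ ≫ t = phi ξ' := by
    let F : (Art.dual k k : Type u) →ₐ[k] DRing ξ' :=
      (θ' : DRing ξ →ₐ[k] DRing ξ').comp (IsScalarTower.toAlgHom k (Art.dual k k) (DRing ξ))
    let G : (Art.dual k k : Type u) →ₐ[k] DRing ξ' :=
      IsScalarTower.toAlgHom k (Art.dual k k) (DRing ξ')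
    have hFG : F = G := algebraMap_eq_of_eps F G hε
    ext a
    exact congrArg (fun f => f a) hFG
  have hrho : t ≫ rho ξ' = rho ξ := by
    ext x
    exact hproj x
  let h : ξ'.total ⟶ ξ.total :=
    (isoSpecTotal ξ').hom ≫ Spec.map t ≫ (isoSpecTotal ξ).inv
  refine ⟨isoOfHom h ?_ ?_⟩
  · change ((isoSpecTotal ξ').hom ≫ Spec.map t ≫ (isoSpecTotal ξ).inv) ≫ ξ.f = ξ'.f
    rw [← isoSpecTotal_hom_phi ξ, ← isoSpecTotal_hom_phi ξ', Category.assoc, Category.assoc,
      Iso.inv_hom_id_assoc, ← Spec.map_comp, hphi]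
  · change ξ'.i ≫ (isoSpecTotal ξ').hom ≫ Spec.map t ≫ (isoSpecTotal ξ).inv = ξ.i
    rw [← Category.assoc, i_isoSpecTotal_hom, ← Category.assoc, ← Spec.map_comp, hrho,
      ← i_isoSpecTotal_hom, Category.assoc, Iso.hom_inv_id, Category.comp_id]

/-- the extension attached to the deformation attached to an extension is the given one -/
theorem extOfDef_defOfExt (X : Exal.Ext k B B) : Nonempty ((extOfDef (defOfExt X)).Equiv X) := by
  let g : Γ((defOfExt X).total, ⊤) ⟶ CommRingCat.of (ERing X) :=
    (Scheme.ΓSpecIso (CommRingCat.of (ERing X))).hom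
  have hphi : ∀ a : (Art.dual k k : Type u),
      g.hom ((phi (defOfExt X)).hom a) = algebraMap (Art.dual k k) (ERing X) a := fun a =>
    congrArg (fun f => f.hom a) (phi_ofAlg (ERing X) (projE X).toRingHom (projE_algebraMap X)
      X.isExtension.proj_surjective (ker_projE X))
  have hrho : ∀ x : DRing (defOfExt X), (rho (defOfExt X)).hom x = projE X (g.hom x) := fun x =>
    congrArg (fun f => f.hom x) (rho_ofAlg (ERing X) (projE X).toRingHom (projE_algebraMap X)
      X.isExtension.proj_surjective (ker_projE X))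
  let f : DRing (defOfExt X) →ₐ[k] ERing X :=
    { g.hom with
      commutes' := fun c => by
        change g.hom ((phi (defOfExt X)).hom (algebraMap k (Art.dual k k) c)) = _
        rw [hphi, algebraMap_ERing]
        exact (liftHom X).commutes c }
  have hfε : f (epsD (defOfExt X)) = epsE X := by
    change g.hom ((phi (defOfExt X)).hom epsA) = _
    rw [hphi, algebraMap_epsA]
  have hproj : ∀ x : DRing (defOfExt X), projE X (f x) = rhoAlg (defOfExt X) x := fun x =>
    (hrho x).symm
  refine ⟨equivOfHom (X := extOfDef (defOfExt X)) (Y := X) f hproj ?_⟩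
  intro z
  change f (inclD (defOfExt X) z) = X.incl z
  rw [inclD_eq _ z _ (rhoAlg_sD _ z), map_mul, hfε, epsE_mul]
  have : X.proj (f (sD (defOfExt X) z)) = z := (hproj _).trans (rhoAlg_sD _ z)
  rw [this]

variable (k B) in
/-- **First-order deformations of `Spec B` are the extensions of `B` by `B`.** -/
theorem nonempty_equiv_exalcom :
    Nonempty ((ArtFun.defFunctor (Λ := k) (Spec (CommRingCat.of B))
      (Spec.map (CommRingCat.ofHom (algebraMap k B)))).obj (Art.dual k k) ≃ Exal.Exalcom k B B) := by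
  let F : (ArtFun.defFunctor (Λ := k) (Spec (CommRingCat.of B))
      (Spec.map (CommRingCat.ofHom (algebraMap k B)))).obj (Art.dual k k) → Exal.Exalcom k B B :=
    Quotient.map' (fun ξ => extOfDef ξ) (fun ξ ξ' ⟨e⟩ => by
      obtain ⟨θ⟩ := extOfDef_equiv_of_iso e
      exact ⟨θ.symm⟩)
  refine ⟨Equiv.ofBijective F ⟨?_, ?_⟩⟩
  · intro q q'
    induction q using Quotient.inductionOn with
    | h ξ =>
      induction q' using Quotient.inductionOn with
      | h ξ' =>
        intro h
        obtain ⟨θ⟩ := Quotient.exact h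
        obtain ⟨e⟩ := iso_of_extOfDef_equiv θ
        exact Quotient.sound ⟨e.symm⟩
  · intro q
    induction q using Quotient.inductionOn with
    | h X => exact ⟨Quotient.mk _ (defOfExt X), Quotient.sound (extOfDef_defOfExt X)⟩

end Bijection

end Groth.Agent.Lib.Helper19.DefDual
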