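import Groth.Agent.Lib.Helper22MilnorFlat
import Groth.Agent.Lib.Helper22MilnorGlue

/-!
# Gluing flat algebras over a fibre product of rings (helper19)

Ring-level gluing of deformations: for a fibre square of rings `B' = B ×_A A'`, a flat `B`-algebra
`N`, a flat `A'`-algebra `M'` and an isomorphism of their base changes to `A`, the fibre product
`N ×_φ M'` is a flat `B'`-algebra.
-/

set_option autoImplicit false
set_option linter.unusedSectionVars false
universe u

open TensorProduct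

namespace Groth.Agent.Lib.Helper19.DefGlue

open Groth.Agent.Lib.Helper22

variable {B' B A' A : Type u} [CommRing B'] [CommRing B] [CommRing A'] [CommRing A]
  [Algebra B' B] [Algebra B' A'] [Algebra B A] [Algebra A' A] [Algebra B' A]
  [IsScalarTower B' B A] [IsScalarTower B' A' A]
  {N M' : Type u} [CommRing N] [Algebra B N] [Algebra B' N] [IsScalarTower B' B N]
  [CommRing M'] [Algebra A' M'] [Algebra B' M'] [IsScalarTower B' A' M']
  (Φ : A ⊗[B] N ≃ₐ[A] A ⊗[A'] M')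

/-- the glued algebra `N ×_Φ M'` -/
noncomputable def glueAlg : Subalgebra B' (N × M') where
  carrier := {x | Φ ((1 : A) ⊗ₜ[B] x.1) = (1 : A) ⊗ₜ[A'] x.2}
  mul_mem' := by
    intro x y hx hy
    change Φ ((1 : A) ⊗ₜ[B] (x.1 * y.1)) = (1 : A) ⊗ₜ[A'] (x.2 * y.2)
    have h1 : ((1 : A) ⊗ₜ[B] (x.1 * y.1) : A ⊗[B] N) = ((1 : A) ⊗ₜ[B] x.1) * ((1 : A) ⊗ₜ[B] y.1) := by
      rw [Algebra.TensorProduct.tmul_mul_tmul, one_mul]
    have h2 : ((1 : A) ⊗ₜ[A'] (x.2 * y.2) : A ⊗[A'] M') =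
        ((1 : A) ⊗ₜ[A'] x.2) * ((1 : A) ⊗ₜ[A'] y.2) := by
      rw [Algebra.TensorProduct.tmul_mul_tmul, one_mul]
    rw [h1, h2, map_mul]
    change Φ _ = _ at hx
    change Φ _ = _ at hy
    rw [hx, hy]
  add_mem' := fun {x y} hx hy => (EtMil.glue B' Φ.toLinearEquiv).add_mem hx hy
  algebraMap_mem' := by
    intro b'
    have h1 : (1 : N × M') ∈ EtMil.glue B' Φ.toLinearEquiv := by
      change Φ ((1 : A) ⊗ₜ[B] (1 : N)) = (1 : A) ⊗ₜ[A'] (1 : M')
      exact map_one Φ
    have h2 := (EtMil.glue B' Φ.toLinearEquiv).smul_mem b' h1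
    rw [Algebra.algebraMap_eq_smul_one]
    exact h2

lemma mem_glueAlg (x : N × M') :
    x ∈ glueAlg (B' := B') Φ ↔ Φ ((1 : A) ⊗ₜ[B] x.1) = (1 : A) ⊗ₜ[A'] x.2 := Iff.rfl

/-- the glued algebra as a module is helper22's glued module -/
noncomputable def glueEquiv : glueAlg (B' := B') Φ ≃ₗ[B'] EtMil.glue B' Φ.toLinearEquiv where
  toFun x := ⟨x.1, x.2⟩
  invFun x := ⟨x.1, x.2⟩
  left_inv _ := rfl
  right_inv _ := rfl
  map_add' _ _ := rfl
  map_smul' _ _ := rfl

/-- first projection -/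
noncomputable def gFst : glueAlg (B' := B') Φ →ₐ[B'] N :=
  (AlgHom.fst B' N M').comp (glueAlg (B' := B') Φ).val

/-- second projection -/
noncomputable def gSnd : glueAlg (B' := B') Φ →ₐ[B'] M' :=
  (AlgHom.snd B' N M').comp (glueAlg (B' := B') Φ).val

lemma gFst_apply (x : glueAlg (B' := B') Φ) : gFst Φ x = (x : N × M').1 := rfl
lemma gSnd_apply (x : glueAlg (B' := B') Φ) : gSnd Φ x = (x : N × M').2 := rfl

lemma glue_rel (x : glueAlg (B' := B') Φ) :
    Φ ((1 : A) ⊗ₜ[B] gFst Φ x) = (1 : A) ⊗ₜ[A'] gSnd Φ x := x.2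

variable (hsq : EtMil.IsFibreSquare B' B A' A)

include hsq in
theorem gFst_surjective : Function.Surjective (gFst (B' := B') Φ) := by
  intro n
  obtain ⟨m', hm'⟩ := glue_exists_snd Φ.toLinearEquiv hsq n
  exact ⟨⟨(n, m'), hm'⟩, rfl⟩

include hsq in
theorem mem_smul_of_gFst_eq_zero (x : glueAlg (B' := B') Φ) (hx : gFst Φ x = 0) :
    x ∈ (RingHom.ker (algebraMap B' B)) • (⊤ : Submodule B' (glueAlg (B' := B') Φ)) := by
  have h := glue_mem_smul_of_fst_eq_zero Φ.toLinearEquiv hsq (glueEquiv Φ x) hx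
  have key : ∀ y ∈ (RingHom.ker (algebraMap B' B)) •
      (⊤ : Submodule B' (EtMil.glue B' Φ.toLinearEquiv)), (glueEquiv Φ).symm y ∈
      (RingHom.ker (algebraMap B' B)) • (⊤ : Submodule B' (glueAlg (B' := B') Φ)) := by
    intro y hy
    refine Submodule.smul_induction_on
      (p := fun y => (glueEquiv Φ).symm y ∈
        (RingHom.ker (algebraMap B' B)) • (⊤ : Submodule B' (glueAlg (B' := B') Φ))) hy ?_ ?_
    · intro j hj y _
      change (glueEquiv Φ).symm (j • y) ∈ _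
      rw [map_smul]
      exact Submodule.smul_mem_smul hj Submodule.mem_top
    · intro a b ha hb
      change (glueEquiv Φ).symm (a + b) ∈ _
      rw [map_add]
      exact Submodule.add_mem _ ha hb
  have h2 := key _ h
  rwa [LinearEquiv.symm_apply_apply] at h2

include hsq in
theorem flat_glueAlg [Module.Flat B N] [Module.Flat A' M'] :
    Module.Flat B' (glueAlg (B' := B') Φ) := by
  let e1 : B ⊗[B'] (EtMil.glue B' Φ.toLinearEquiv) ≃ₗ[B] N :=
    LinearEquiv.ofBijective _ (glue_fst_bijective Φ.toLinearEquiv hsq)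
  let e2 : A' ⊗[B'] (EtMil.glue B' Φ.toLinearEquiv) ≃ₗ[A'] M' :=
    LinearEquiv.ofBijective _ (glue_snd_bijective Φ.toLinearEquiv hsq)
  haveI : Module.Flat B (B ⊗[B'] (EtMil.glue B' Φ.toLinearEquiv)) :=
    Module.Flat.of_linearEquiv e1
  haveI : Module.Flat A' (A' ⊗[B'] (EtMil.glue B' Φ.toLinearEquiv)) :=
    Module.Flat.of_linearEquiv e2
  haveI : Module.Flat B' (EtMil.glue B' Φ.toLinearEquiv) := fs_flat hsq
  exact Module.Flat.of_linearEquiv (glueEquiv Φ)

include hsq in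
/-- the kernel of a reduction map on the glued algebra -/
theorem ker_comp_gFst {B₀ : Type u} [CommRing B₀] (ρ : N →+* B₀) (𝔪' : Ideal B') (𝔪 : Ideal B)
    (h𝔪 : 𝔪'.map (algebraMap B' B) = 𝔪) (hker : RingHom.ker (algebraMap B' B) ≤ 𝔪')
    (hρ : RingHom.ker ρ = 𝔪.map (algebraMap B N)) :
    RingHom.ker (ρ.comp (gFst (B' := B') Φ : glueAlg (B' := B') Φ →+* N)) =
      𝔪'.map (algebraMap B' (glueAlg (B' := B') Φ)) := by
  apply le_antisymm
  · intro d hd
    have hd1 : gFst Φ d ∈ RingHom.ker ρ := hd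
    rw [hρ, ← h𝔪, Ideal.map_map] at hd1
    have key : ∀ n ∈ 𝔪'.map ((algebraMap B N).comp (algebraMap B' B)),
        ∃ d' ∈ 𝔪'.map (algebraMap B' (glueAlg (B' := B') Φ)), gFst Φ d' = n := by
      intro n hn
      refine Submodule.span_induction ?_ ?_ ?_ ?_ hn
      · rintro _ ⟨m', hm', rfl⟩
        refine ⟨algebraMap B' _ m', Ideal.mem_map_of_mem _ hm', ?_⟩
        rw [AlgHom.commutes]
        exact IsScalarTower.algebraMap_apply B' B N m'
      · exact ⟨0, Ideal.zero_mem _, map_zero _⟩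
      · rintro a b _ _ ⟨a', ha', rfl⟩ ⟨b', hb', rfl⟩
        exact ⟨a' + b', Ideal.add_mem _ ha' hb', map_add _ _ _⟩
      · rintro c a _ ⟨a', ha', rfl⟩
        obtain ⟨c', rfl⟩ := gFst_surjective Φ hsq c
        exact ⟨c' * a', Ideal.mul_mem_left _ _ ha', by rw [map_mul, smul_eq_mul]⟩
    obtain ⟨d', hd', hdd'⟩ := key _ hd1
    have h0 : gFst Φ (d - d') = 0 := by rw [map_sub, hdd', sub_self]
    have h1 := mem_smul_of_gFst_eq_zero Φ hsq _ h0
    have h2 : d - d' ∈ 𝔪'.map (algebraMap B' (glueAlg (B' := B') Φ)) := by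
      refine Submodule.smul_induction_on h1 ?_ ?_
      · intro j hj y _
        rw [Algebra.smul_def]
        exact Ideal.mul_mem_right _ _ (Ideal.mem_map_of_mem _ (hker hj))
      · intro a b ha hb
        exact Ideal.add_mem _ ha hb
    have : d = (d - d') + d' := by ring
    rw [this]
    exact Ideal.add_mem _ h2 hd'
  · rw [Ideal.map_le_iff_le_comap]
    intro m' hm'
    rw [Ideal.mem_comap, RingHom.mem_ker, RingHom.comp_apply]
    change ρ (gFst Φ (algebraMap B' _ m')) = 0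
    rw [AlgHom.commutes, IsScalarTower.algebraMap_apply B' B N, ← RingHom.mem_ker, hρ]
    refine Ideal.mem_map_of_mem _ ?_
    rw [← h𝔪]
    exact Ideal.mem_map_of_mem _ hm'

end Groth.Agent.Lib.Helper19.DefGlue
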