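import Groth.Agent.Lib.Helper19DefGlueA

/-!
# Ring-level deformations: base change and gluing (helper19)

`IsDefo res ρ`: the `R`-algebra `E` with `ρ : E → B₀` is a deformation of `B₀` over the augmented
ring `(R, res : R → k)`: flat, `ρ` surjective and compatible with `res`, and `ker ρ = (ker res) E`.
-/

set_option autoImplicit false
set_option linter.unusedSectionVars false
set_option linter.style.haveILetI false
universe u

open TensorProduct

namespace Groth.Agent.Lib.Helper19.DefGlue

open Groth.Agent.Lib.Helper22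

section Defo

variable {k B₀ : Type u} [Field k] [CommRing B₀] [Algebra k B₀]

/-- a deformation of `B₀` over the augmented ring `(R, res)`, at ring level -/
structure IsDefo {R E : Type u} [CommRing R] [CommRing E] [Algebra R E] (res : R →+* k)
    (ρ : E →+* B₀) : Prop where
  flat : Module.Flat R E
  hc : ∀ r, ρ (algebraMap R E r) = algebraMap k B₀ (res r)
  hs : Function.Surjective ρ
  hk : RingHom.ker ρ = (RingHom.ker res).map (algebraMap R E)

section BC

variable {R S E : Type u} [CommRing R] [CommRing S] [CommRing E] [Algebra R S] [Algebra R E]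
  (resR : R →+* k) (resS : S →+* k) (hres : ∀ r, resS (algebraMap R S r) = resR r)
  (hresR : Function.Surjective resR) (ρ : E →+* B₀)
  (hc : ∀ r, ρ (algebraMap R E r) = algebraMap k B₀ (resR r))

/-- the reduction map of the base change -/
noncomputable def bcRho : S ⊗[R] E →+* B₀ :=
  letI : Algebra R B₀ := ((algebraMap k B₀).comp resR).toAlgebra
  let f₁ : S →ₐ[R] B₀ :=
    { toRingHom := (algebraMap k B₀).comp resS
      commutes' := fun r => by
        change algebraMap k B₀ (resS (algebraMap R S r)) = algebraMap k B₀ (resR r)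
        rw [hres] }
  let f₂ : E →ₐ[R] B₀ := { toRingHom := ρ, commutes' := hc }
  (Algebra.TensorProduct.productMap f₁ f₂).toRingHom

lemma bcRho_tmul (s : S) (e : E) :
    bcRho resR resS hres ρ hc (s ⊗ₜ[R] e) = algebraMap k B₀ (resS s) * ρ e := by
  letI : Algebra R B₀ := ((algebraMap k B₀).comp resR).toAlgebra
  exact Algebra.TensorProduct.productMap_apply_tmul _ _ s e

lemma bcRho_one_tmul (e : E) : bcRho resR resS hres ρ hc ((1 : S) ⊗ₜ[R] e) = ρ e := by
  rw [bcRho_tmul, map_one, map_one, one_mul]

lemma bcRho_algebraMap (s : S) :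
    bcRho resR resS hres ρ hc (algebraMap S (S ⊗[R] E) s) = algebraMap k B₀ (resS s) := by
  rw [Algebra.TensorProduct.algebraMap_apply, Algebra.algebraMap_self_apply, bcRho_tmul, map_one,
    mul_one]

include hres hresR in
lemma exists_one_tmul_sub_mem (t : S ⊗[R] E) :
    ∃ e : E, t - (1 : S) ⊗ₜ[R] e ∈ (RingHom.ker resS).map (algebraMap S (S ⊗[R] E)) := by
  induction t using TensorProduct.induction_on with
  | zero => exact ⟨0, by rw [TensorProduct.tmul_zero, sub_zero]; exact Ideal.zero_mem _⟩
  | tmul s e =>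
    obtain ⟨r, hr⟩ := hresR (resS s)
    refine ⟨r • e, ?_⟩
    have h1 : ((1 : S) ⊗ₜ[R] (r • e) : S ⊗[R] E) = (algebraMap R S r) ⊗ₜ[R] e := by
      rw [← TensorProduct.smul_tmul, Algebra.smul_def, mul_one]
    have h2 : s ⊗ₜ[R] e - (algebraMap R S r) ⊗ₜ[R] e =
        algebraMap S (S ⊗[R] E) (s - algebraMap R S r) * ((1 : S) ⊗ₜ[R] e) := by
      rw [Algebra.TensorProduct.algebraMap_apply, Algebra.algebraMap_self_apply,
        Algebra.TensorProduct.tmul_mul_tmul, mul_one, one_mul, TensorProduct.sub_tmul]
    rw [h1, h2]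
    refine Ideal.mul_mem_right _ _ (Ideal.mem_map_of_mem _ ?_)
    rw [RingHom.mem_ker, map_sub, hres, hr, sub_self]
  | add x y hx hy =>
    obtain ⟨e₁, h₁⟩ := hx
    obtain ⟨e₂, h₂⟩ := hy
    refine ⟨e₁ + e₂, ?_⟩
    have : x + y - (1 : S) ⊗ₜ[R] (e₁ + e₂) = (x - (1 : S) ⊗ₜ[R] e₁) + (y - (1 : S) ⊗ₜ[R] e₂) := by
      rw [TensorProduct.tmul_add]
      abel
    rw [this]
    exact Ideal.add_mem _ h₁ h₂

variable (S) in
include hres in
/-- the base change of a deformation is a deformation -/
theorem IsDefo.baseChange (hresR : Function.Surjective resR) (h : IsDefo resR ρ) :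
    IsDefo resS (bcRho resR resS hres ρ h.hc) := by
  haveI := h.flat
  refine ⟨inferInstance, bcRho_algebraMap resR resS hres ρ h.hc, ?_, ?_⟩
  · intro b
    obtain ⟨e, rfl⟩ := h.hs b
    exact ⟨(1 : S) ⊗ₜ[R] e, bcRho_one_tmul resR resS hres ρ h.hc e⟩
  · apply le_antisymm
    · intro t ht
      obtain ⟨e, he⟩ := exists_one_tmul_sub_mem resR resS hres hresR t
      have h1 : bcRho resR resS hres ρ h.hc (t - (1 : S) ⊗ₜ[R] e) = 0 := by
        have : (RingHom.ker resS).map (algebraMap S (S ⊗[R] E)) ≤
            RingHom.ker (bcRho resR resS hres ρ h.hc) := by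
          rw [Ideal.map_le_iff_le_comap]
          intro s hs
          rw [Ideal.mem_comap, RingHom.mem_ker, bcRho_algebraMap, (RingHom.mem_ker).1 hs,
            map_zero]
        exact this he
      rw [map_sub, (RingHom.mem_ker).1 ht, zero_sub, neg_eq_zero, bcRho_one_tmul] at h1
      have h2 : e ∈ RingHom.ker ρ := h1
      rw [h.hk] at h2
      have h3 : (1 : S) ⊗ₜ[R] e ∈ (RingHom.ker resS).map (algebraMap S (S ⊗[R] E)) := by
        refine Submodule.span_induction ?_ ?_ ?_ ?_ h2
        · rintro _ ⟨r, hr, rfl⟩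
          have : ((1 : S) ⊗ₜ[R] (algebraMap R E r) : S ⊗[R] E) =
              algebraMap S (S ⊗[R] E) (algebraMap R S r) := by
            rw [Algebra.TensorProduct.algebraMap_apply, Algebra.algebraMap_self_apply,
              Algebra.algebraMap_eq_smul_one, Algebra.algebraMap_eq_smul_one r,
              TensorProduct.smul_tmul]
          rw [this]
          refine Ideal.mem_map_of_mem _ ?_
          rw [RingHom.mem_ker, hres]
          exact hr
        · rw [TensorProduct.tmul_zero]
          exact Ideal.zero_mem _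
        · intro a b _ _ ha hb
          rw [TensorProduct.tmul_add]
          exact Ideal.add_mem _ ha hb
        · intro c a _ ha
          have : ((1 : S) ⊗ₜ[R] (c • a) : S ⊗[R] E) = ((1 : S) ⊗ₜ[R] c) * ((1 : S) ⊗ₜ[R] a) := by
            rw [Algebra.TensorProduct.tmul_mul_tmul, one_mul, smul_eq_mul]
          rw [this]
          exact Ideal.mul_mem_left _ _ ha
      have : t = (t - (1 : S) ⊗ₜ[R] e) + (1 : S) ⊗ₜ[R] e := by abel
      rw [this]
      exact Ideal.add_mem _ he h3
    · rw [Ideal.map_le_iff_le_comap]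
      intro s hs
      rw [Ideal.mem_comap, RingHom.mem_ker, bcRho_algebraMap, (RingHom.mem_ker).1 hs, map_zero]

end BC

end Defo

end Groth.Agent.Lib.Helper19.DefGlue
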