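import Groth.Agent.Lib.Helper19DefGlueB

/-!
# Gluing ring-level deformations along a common target (helper19)
-/

set_option autoImplicit false
set_option linter.unusedSectionVars false
set_option linter.style.haveILetI false
universe u

open TensorProduct

namespace Groth.Agent.Lib.Helper19.DefGlue

open Groth.Agent.Lib.Helper22

section PhiOf

variable {B' B A' A : Type u} [CommRing B'] [CommRing B] [CommRing A'] [CommRing A]
  [Algebra B' B] [Algebra B' A'] [Algebra B A] [Algebra A' A] [Algebra B' A]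
  [IsScalarTower B' B A] [IsScalarTower B' A' A]
  {N M' C : Type u} [CommRing N] [Algebra B N] [Algebra B' N] [IsScalarTower B' B N]
  [CommRing M'] [Algebra A' M'] [Algebra B' M'] [IsScalarTower B' A' M']
  [CommRing C] [Algebra A C]

/-- the `A`-algebra map `A ⊗[B] N → C` induced by a ring map `N → C` over `B → A` -/
noncomputable def liftTo (θ : N →+* C)
    (hθ : ∀ b, θ (algebraMap B N b) = algebraMap A C (algebraMap B A b)) : A ⊗[B] N →ₐ[A] C :=
  letI : Algebra B C := ((algebraMap A C).comp (algebraMap B A)).toAlgebra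
  haveI : IsScalarTower B A C := IsScalarTower.of_algebraMap_eq (fun _ => rfl)
  Algebra.TensorProduct.lift (Algebra.ofId A C) { toRingHom := θ, commutes' := hθ }
    (fun _ _ => Commute.all _ _)

lemma liftTo_tmul (θ : N →+* C)
    (hθ : ∀ b, θ (algebraMap B N b) = algebraMap A C (algebraMap B A b)) (a : A) (n : N) :
    liftTo θ hθ (a ⊗ₜ[B] n) = algebraMap A C a * θ n := by
  letI : Algebra B C := ((algebraMap A C).comp (algebraMap B A)).toAlgebra
  haveI : IsScalarTower B A C := IsScalarTower.of_algebraMap_eq (fun _ => rfl)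
  exact Algebra.TensorProduct.lift_tmul _ _ _ a n

lemma liftTo_one_tmul (θ : N →+* C)
    (hθ : ∀ b, θ (algebraMap B N b) = algebraMap A C (algebraMap B A b)) (n : N) :
    liftTo θ hθ ((1 : A) ⊗ₜ[B] n) = θ n := by
  rw [liftTo_tmul, map_one, one_mul]

variable (θ₁ : N →+* C) (θ₂ : M' →+* C)
  (hθ₁ : ∀ b, θ₁ (algebraMap B N b) = algebraMap A C (algebraMap B A b))
  (hθ₂ : ∀ a', θ₂ (algebraMap A' M' a') = algebraMap A C (algebraMap A' A a'))
  (h₁ : Function.Bijective (liftTo θ₁ hθ₁)) (h₂ : Function.Bijective (liftTo θ₂ hθ₂))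

/-- the gluing isomorphism attached to two maps to a common target inducing isomorphisms from the
base changes -/
noncomputable def PhiOf : A ⊗[B] N ≃ₐ[A] A ⊗[A'] M' :=
  (AlgEquiv.ofBijective (liftTo θ₁ hθ₁) h₁).trans (AlgEquiv.ofBijective (liftTo θ₂ hθ₂) h₂).symm

lemma mem_glueAlg_PhiOf (x : N × M') :
    x ∈ glueAlg (B' := B') (PhiOf θ₁ θ₂ hθ₁ hθ₂ h₁ h₂) ↔ θ₁ x.1 = θ₂ x.2 := by
  rw [mem_glueAlg, PhiOf, AlgEquiv.trans_apply, AlgEquiv.symm_apply_eq]
  rw [AlgEquiv.ofBijective_apply, AlgEquiv.ofBijective_apply, liftTo_one_tmul, liftTo_one_tmul]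

end PhiOf

section GlueDefo

variable {k B₀ : Type u} [Field k] [CommRing B₀] [Algebra k B₀]
variable {B' B A' A : Type u} [CommRing B'] [CommRing B] [CommRing A'] [CommRing A]
  [Algebra B' B] [Algebra B' A'] [Algebra B A] [Algebra A' A] [Algebra B' A]
  [IsScalarTower B' B A] [IsScalarTower B' A' A]
  {N M' : Type u} [CommRing N] [Algebra B N] [Algebra B' N] [IsScalarTower B' B N]
  [CommRing M'] [Algebra A' M'] [Algebra B' M'] [IsScalarTower B' A' M']
  (Φ : A ⊗[B] N ≃ₐ[A] A ⊗[A'] M')
  (hsq : EtMil.IsFibreSquare B' B A' A)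
  (resB' : B' →+* k) (resB : B →+* k) (hresB : ∀ b', resB (algebraMap B' B b') = resB' b')
  (ρN : N →+* B₀) (ρM : M' →+* B₀)

include hsq hresB in
/-- the glued algebra is a deformation -/
theorem IsDefo.glue (hN : IsDefo resB ρN) (hM : Module.Flat A' M') :
    IsDefo resB' (ρN.comp (gFst (B' := B') Φ : glueAlg (B' := B') Φ →+* N)) := by
  haveI := hN.flat
  have hsurj := fs_surjective hsq
  refine ⟨flat_glueAlg Φ hsq, ?_, hN.hs.comp (gFst_surjective Φ hsq), ?_⟩
  · intro b'
    rw [RingHom.comp_apply]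
    change ρN (gFst Φ (algebraMap B' _ b')) = _
    rw [AlgHom.commutes, IsScalarTower.algebraMap_apply B' B N, hN.hc, hresB]
  · refine ker_comp_gFst Φ hsq ρN (RingHom.ker resB') (RingHom.ker resB) ?_ ?_ hN.hk
    · apply le_antisymm
      · rw [Ideal.map_le_iff_le_comap]
        intro b' hb'
        rw [Ideal.mem_comap, RingHom.mem_ker, hresB]
        exact hb'
      · intro b hb
        obtain ⟨b', rfl⟩ := hsurj b
        refine Ideal.mem_map_of_mem _ ?_
        rw [RingHom.mem_ker, ← hresB]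
        exact hb
    · intro b' hb'
      rw [RingHom.mem_ker, ← hresB, (RingHom.mem_ker).1 hb', map_zero]

end GlueDefo

end Groth.Agent.Lib.Helper19.DefGlue
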