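import Groth.Agent.Lib.Helper19DefGlueC
import Groth.Agent.Lib.Helper19DefAffE

/-!
# Ring-level deformations and deformations of affine schemes (helper19)
-/

set_option autoImplicit false
set_option linter.unusedSectionVars false
set_option linter.style.haveILetI false
universe u

open CategoryTheory CategoryTheory.Limits AlgebraicGeometry ArtFun ArtFun.Art TensorProduct

namespace Groth.Agent.Lib.Helper19.DefGlue

open Groth.Agent.Lib.Helper19.DefAff

variable {Λ k : Type u} [CommRing Λ] [Field k] [Algebra Λ k]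
variable {B₀ : Type u} [CommRing B₀] [Algebra k B₀]

lemma ker_res_toRingHom (A : Art Λ k) :
    RingHom.ker A.res.toRingHom = IsLocalRing.maximalIdeal A := by
  ext a
  rw [A.mem_maximalIdeal_iff, RingHom.mem_ker]
  rfl

section OfDefo

variable {A : Art Λ k} {E : Type u} [CommRing E] [Algebra A E] {ρ : E →+* B₀}

/-- the deformation of `Spec B₀` attached to a ring-level deformation -/
noncomputable def ofDefo (h : IsDefo A.res.toRingHom ρ) :
    DefSch (Spec (CommRingCat.of B₀)) (Spec.map (CommRingCat.ofHom (algebraMap k B₀))) A :=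
  haveI := h.flat
  ofAlg E ρ h.hc h.hs (by rw [h.hk, ker_res_toRingHom])

end OfDefo

section Morphisms

variable {A A'' : Art Λ k} (g : A ⟶ A'')
  {E : Type u} [CommRing E] [Algebra A E] {ρ : E →+* B₀} (h : IsDefo A.res.toRingHom ρ)
  {E'' : Type u} [CommRing E''] [Algebra A'' E''] {ρ'' : E'' →+* B₀}
  (h'' : IsDefo A''.res.toRingHom ρ'')

/-- a ring map over `g` compatible with the reductions identifies the base change -/
theorem baseChange_ofDefo_iso (θ : E →+* E'')
    (hθa : ∀ a : A, θ (algebraMap A E a) = algebraMap A'' E'' (g a))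
    (hθρ : ∀ b, ρ'' (θ b) = ρ b) :
    Nonempty (((ofDefo h).baseChange g).Iso (ofDefo h'')) := by
  haveI := h.flat
  haveI := h''.flat
  exact baseChange_ofAlg_iso g E ρ h.hc h.hs (by rw [h.hk, ker_res_toRingHom]) E'' ρ'' h''.hc
    h''.hs (by rw [h''.hk, ker_res_toRingHom]) θ hθa hθρ

variable {E' : Type u} [CommRing E'] [Algebra A E'] {ρ' : E' →+* B₀}
  (h' : IsDefo A.res.toRingHom ρ')

/-- a compatible algebra map gives an isomorphism -/
theorem ofDefo_iso_of_algHom (ψ : E' →ₐ[A] E) (hψ : ∀ b, ρ (ψ b) = ρ' b) :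
    Nonempty ((ofDefo h).Iso (ofDefo h')) := by
  haveI := h.flat
  haveI := h'.flat
  exact iso_of_algHom E ρ h.hc h.hs (by rw [h.hk, ker_res_toRingHom]) E' ρ' h'.hc h'.hs
    (by rw [h'.hk, ker_res_toRingHom]) ψ hψ

/-- an isomorphism comes from a bijective compatible algebra map -/
theorem exists_algHom_of_ofDefo_iso (e : (ofDefo h).Iso (ofDefo h')) :
    ∃ ψ : E' →ₐ[A] E, (∀ b, ρ (ψ b) = ρ' b) ∧ Function.Bijective ψ := by
  haveI := h.flat
  haveI := h'.flat
  obtain ⟨ψ, hψ⟩ := exists_algHom_of_iso E ρ h.hc h.hs (by rw [h.hk, ker_res_toRingHom]) E' ρ'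
    h'.hc h'.hs (by rw [h'.hk, ker_res_toRingHom]) e
  refine ⟨ψ, hψ, ?_⟩
  exact bijective_of_compatible ψ ρ' ρ hψ h'.hs (by rw [h'.hk, ker_res_toRingHom])
    (by rw [h.hk, ker_res_toRingHom])

end Morphisms

section GRing

variable {A : Art Λ k}

/-- the ring of global sections of the total space of a deformation (any `Λ`) -/
def GRing (ξ : DefSch (Spec (CommRingCat.of B₀)) (Spec.map (CommRingCat.ofHom (algebraMap k B₀))) A) :
    Type u := Γ(ξ.total, ⊤)

variable (ξ : DefSch (Spec (CommRingCat.of B₀)) (Spec.map (CommRingCat.ofHom (algebraMap k B₀))) A)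

noncomputable instance : CommRing (GRing ξ) := inferInstanceAs (CommRing Γ(ξ.total, ⊤))

noncomputable instance : Algebra A (GRing ξ) := (phi ξ).hom.toAlgebra

/-- the reduction map -/
noncomputable def rhoG : GRing ξ →+* B₀ := (rho ξ).hom

theorem isDefo_GRing : IsDefo A.res.toRingHom (rhoG ξ) where
  flat := phi_flat ξ
  hc := rho_phi ξ
  hs := rho_surjective ξ
  hk := by
    rw [ker_res_toRingHom]
    exact ker_rho ξ

/-- a deformation is isomorphic to the deformation attached to its ring -/
theorem nonempty_iso_ofDefo : Nonempty (ξ.Iso (ofDefo (isDefo_GRing ξ))) := by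
  haveI := isAffine_total ξ
  refine ⟨⟨isoSpecTotal ξ, ?_, ?_⟩⟩
  · exact isoSpecTotal_hom_phi ξ
  · exact i_isoSpecTotal_hom ξ

end GRing

end Groth.Agent.Lib.Helper19.DefGlue
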