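import Groth.Agent.Lib.Helper19DefGlueD

/-!
# Gluing deformations of an affine scheme over a fibre product of Artinian rings (helper19)
-/

set_option autoImplicit false
set_option linter.unusedSectionVars false
set_option linter.style.haveILetI false
universe u

open CategoryTheory CategoryTheory.Limits AlgebraicGeometry ArtFun ArtFun.Art TensorProduct

namespace Groth.Agent.Lib.Helper19.DefGlue

open Groth.Agent.Lib.Helper19.DefAff Groth.Agent.Lib.Helper22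

variable {Λ k : Type u} [CommRing Λ] [Field k] [Algebra Λ k]
variable {B₀ : Type u} [CommRing B₀] [Algebra k B₀]

section Lift

variable {R S E C : Type u} [CommRing R] [CommRing S] [Algebra R S] [CommRing E] [Algebra R E]
  [CommRing C] [Algebra S C]

lemma liftTo_includeRight :
    liftTo (B := R) (A := S) (N := E) (C := S ⊗[R] E)
      (Algebra.TensorProduct.includeRight : E →ₐ[R] S ⊗[R] E).toRingHom (fun b => by
        change (1 : S) ⊗ₜ[R] (algebraMap R E b) = algebraMap S (S ⊗[R] E) (algebraMap R S b)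
        rw [Algebra.TensorProduct.algebraMap_apply, Algebra.algebraMap_self_apply,
          Algebra.algebraMap_eq_smul_one, Algebra.algebraMap_eq_smul_one b,
          TensorProduct.smul_tmul]) = AlgHom.id S (S ⊗[R] E) := by
  apply Algebra.TensorProduct.ext'
  intro s e
  rw [liftTo_tmul]
  change algebraMap S (S ⊗[R] E) s * ((1 : S) ⊗ₜ[R] e) = s ⊗ₜ[R] e
  rw [Algebra.TensorProduct.algebraMap_apply, Algebra.algebraMap_self_apply,
    Algebra.TensorProduct.tmul_mul_tmul, mul_one, one_mul]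

end Lift

section Glue

variable {Bf A₁ A₂ A : Art Λ k} {p₁ : Bf ⟶ A₁} {p₂ : Bf ⟶ A₂} {f₁ : A₁ ⟶ A} {f₂ : A₂ ⟶ A}
  {E₁ : Type u} [CommRing E₁] [Algebra A₁ E₁] {ρ₁ : E₁ →+* B₀}
  {E₂ : Type u} [CommRing E₂] [Algebra A₂ E₂] {ρ₂ : E₂ →+* B₀}

/-- **Gluing deformations.**  Two deformations over `A₁` and `A₂` whose base changes to `A` are
isomorphic are the base changes of a deformation over `A₁ ×_A A₂`. -/
theorem exists_glue (h : IsFibreProd p₁ p₂ f₁ f₂) (hf₂ : Function.Surjective f₂)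
    (hD₁ : IsDefo A₁.res.toRingHom ρ₁) (hD₂ : IsDefo A₂.res.toRingHom ρ₂)
    (e : ((ofDefo hD₁).baseChange f₁).Iso ((ofDefo hD₂).baseChange f₂)) :
    ∃ ζ : DefSch (Spec (CommRingCat.of B₀)) (Spec.map (CommRingCat.ofHom (algebraMap k B₀))) Bf,
      Nonempty ((ζ.baseChange p₁).Iso (ofDefo hD₁)) ∧
        Nonempty ((ζ.baseChange p₂).Iso (ofDefo hD₂)) := by
  letI a1 : Algebra Bf A₁ := p₁.toAlgHom.toRingHom.toAlgebra
  letI a2 : Algebra Bf A₂ := p₂.toAlgHom.toRingHom.toAlgebra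
  letI a3 : Algebra A₁ A := f₁.toAlgHom.toRingHom.toAlgebra
  letI a4 : Algebra A₂ A := f₂.toAlgHom.toRingHom.toAlgebra
  letI a5 : Algebra Bf A := (f₁.toAlgHom.toRingHom.comp p₁.toAlgHom.toRingHom).toAlgebra
  haveI t1 : IsScalarTower Bf A₁ A := IsScalarTower.of_algebraMap_eq (fun _ => rfl)
  haveI t2 : IsScalarTower Bf A₂ A := IsScalarTower.of_algebraMap_eq (fun b => h.w_apply b)
  letI a6 : Algebra Bf E₁ := ((algebraMap A₁ E₁).comp (algebraMap Bf A₁)).toAlgebra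
  letI a7 : Algebra Bf E₂ := ((algebraMap A₂ E₂).comp (algebraMap Bf A₂)).toAlgebra
  haveI t3 : IsScalarTower Bf A₁ E₁ := IsScalarTower.of_algebraMap_eq (fun _ => rfl)
  haveI t4 : IsScalarTower Bf A₂ E₂ := IsScalarTower.of_algebraMap_eq (fun _ => rfl)
  have hsq : EtMil.IsFibreSquare Bf A₁ A₂ A := by
    refine ⟨hf₂, fun a₁ a₂ he => ?_⟩
    obtain ⟨b, hb1, hb2⟩ := h.surj a₁ a₂ he
    exact ⟨b, ⟨hb1, hb2⟩, fun b' hb' => h.inj b' b (hb'.1.trans hb1.symm) (hb'.2.trans hb2.symm)⟩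
  haveI := hD₁.flat
  haveI := hD₂.flat
  -- the base changes to `A`
  have hres₁ : ∀ a : A₁, A.res.toRingHom (algebraMap A₁ A a) = A₁.res.toRingHom a :=
    fun a => res_app f₁ a
  have hres₂ : ∀ a : A₂, A.res.toRingHom (algebraMap A₂ A a) = A₂.res.toRingHom a :=
    fun a => res_app f₂ a
  have hN₁ : IsDefo A.res.toRingHom (bcRho A₁.res.toRingHom A.res.toRingHom hres₁ ρ₁ hD₁.hc) :=
    hD₁.baseChange A A₁.res.toRingHom A.res.toRingHom hres₁ ρ₁ A₁.res_surjective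
  have hN₂ : IsDefo A.res.toRingHom (bcRho A₂.res.toRingHom A.res.toRingHom hres₂ ρ₂ hD₂.hc) :=
    hD₂.baseChange A A₂.res.toRingHom A.res.toRingHom hres₂ ρ₂ A₂.res_surjective
  have hinc₁ : ∀ a : A₁, ((1 : A) ⊗ₜ[A₁] (algebraMap A₁ E₁ a) : A ⊗[A₁] E₁) =
      algebraMap A (A ⊗[A₁] E₁) (f₁ a) := by
    intro a
    rw [Algebra.TensorProduct.algebraMap_apply, Algebra.algebraMap_self_apply,
      Algebra.algebraMap_eq_smul_one, ← TensorProduct.smul_tmul, Algebra.smul_def, mul_one]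
    rfl
  have hinc₂ : ∀ a : A₂, ((1 : A) ⊗ₜ[A₂] (algebraMap A₂ E₂ a) : A ⊗[A₂] E₂) =
      algebraMap A (A ⊗[A₂] E₂) (f₂ a) := by
    intro a
    rw [Algebra.TensorProduct.algebraMap_apply, Algebra.algebraMap_self_apply,
      Algebra.algebraMap_eq_smul_one, ← TensorProduct.smul_tmul, Algebra.smul_def, mul_one]
    rfl
  obtain ⟨i₁⟩ := baseChange_ofDefo_iso f₁ hD₁ hN₁
    (Algebra.TensorProduct.includeRight : E₁ →ₐ[A₁] A ⊗[A₁] E₁).toRingHom hinc₁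
    (fun b => bcRho_one_tmul _ _ hres₁ ρ₁ hD₁.hc b)
  obtain ⟨i₂⟩ := baseChange_ofDefo_iso f₂ hD₂ hN₂
    (Algebra.TensorProduct.includeRight : E₂ →ₐ[A₂] A ⊗[A₂] E₂).toRingHom hinc₂
    (fun b => bcRho_one_tmul _ _ hres₂ ρ₂ hD₂.hc b)
  obtain ⟨ψ, hψ, hψb⟩ := exists_algHom_of_ofDefo_iso hN₁ hN₂ ((i₁.symm.trans e).trans i₂)
  -- the gluing data
  let θ₁ : E₁ →+* A ⊗[A₁] E₁ :=
    (Algebra.TensorProduct.includeRight : E₁ →ₐ[A₁] A ⊗[A₁] E₁).toRingHom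
  let θ₂ : E₂ →+* A ⊗[A₁] E₁ :=
    (ψ : A ⊗[A₂] E₂ →+* A ⊗[A₁] E₁).comp
      (Algebra.TensorProduct.includeRight : E₂ →ₐ[A₂] A ⊗[A₂] E₂).toRingHom
  have hθ₁ : ∀ b : A₁, θ₁ (algebraMap A₁ E₁ b) =
      algebraMap A (A ⊗[A₁] E₁) (algebraMap A₁ A b) := hinc₁
  have hθ₂ : ∀ a' : A₂, θ₂ (algebraMap A₂ E₂ a') =
      algebraMap A (A ⊗[A₁] E₁) (algebraMap A₂ A a') := by
    intro a'
    change ψ ((1 : A) ⊗ₜ[A₂] (algebraMap A₂ E₂ a')) = _
    rw [hinc₂, AlgHom.commutes]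
    rfl
  have h₁ : Function.Bijective (liftTo θ₁ hθ₁) := by
    have : liftTo θ₁ hθ₁ = AlgHom.id A (A ⊗[A₁] E₁) := liftTo_includeRight
    rw [this]
    exact Function.bijective_id
  have h₂ : Function.Bijective (liftTo θ₂ hθ₂) := by
    have : liftTo θ₂ hθ₂ = ψ := by
      apply Algebra.TensorProduct.ext'
      intro s e
      rw [liftTo_tmul]
      change algebraMap A (A ⊗[A₁] E₁) s * ψ ((1 : A) ⊗ₜ[A₂] e) = ψ (s ⊗ₜ[A₂] e)
      rw [← AlgHom.commutes ψ, ← map_mul, Algebra.TensorProduct.algebraMap_apply,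
        Algebra.algebraMap_self_apply, Algebra.TensorProduct.tmul_mul_tmul, mul_one, one_mul]
    rw [this]
    exact hψb
  let Φ : A ⊗[A₁] E₁ ≃ₐ[A] A ⊗[A₂] E₂ := PhiOf θ₁ θ₂ hθ₁ hθ₂ h₁ h₂
  have hmem : ∀ x : glueAlg (B' := Bf) Φ, θ₁ (gFst Φ x) = θ₂ (gSnd Φ x) := fun x =>
    (mem_glueAlg_PhiOf θ₁ θ₂ hθ₁ hθ₂ h₁ h₂ _).1 x.2
  have hD : IsDefo Bf.res.toRingHom
      (ρ₁.comp (gFst (B' := Bf) Φ : glueAlg (B' := Bf) Φ →+* E₁)) :=
    IsDefo.glue Φ hsq Bf.res.toRingHom A₁.res.toRingHom (fun b' => res_app p₁ b') ρ₁ hD₁ hD₂.flat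
  refine ⟨ofDefo hD, ?_, ?_⟩
  · refine baseChange_ofDefo_iso p₁ hD hD₁ (gFst (B' := Bf) Φ : glueAlg (B' := Bf) Φ →+* E₁) ?_ ?_
    · intro b
      change gFst Φ (algebraMap Bf _ b) = _
      rw [AlgHom.commutes]
      rfl
    · intro d
      rfl
  · refine baseChange_ofDefo_iso p₂ hD hD₂ (gSnd (B' := Bf) Φ : glueAlg (B' := Bf) Φ →+* E₂) ?_ ?_
    · intro b
      change gSnd Φ (algebraMap Bf _ b) = _
      rw [AlgHom.commutes]
      rfl
    · intro d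
      change ρ₂ (gSnd Φ d) = ρ₁ (gFst Φ d)
      have h3 := hmem d
      have h4 := congrArg (bcRho A₁.res.toRingHom A.res.toRingHom hres₁ ρ₁ hD₁.hc) h3
      change bcRho _ _ hres₁ ρ₁ hD₁.hc ((1 : A) ⊗ₜ[A₁] (gFst Φ d)) =
        bcRho _ _ hres₁ ρ₁ hD₁.hc (ψ ((1 : A) ⊗ₜ[A₂] (gSnd Φ d))) at h4
      rw [bcRho_one_tmul, hψ, bcRho_one_tmul] at h4
      exact h4.symm

end Glue

end Groth.Agent.Lib.Helper19.DefGlue
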