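import Groth.Agent.Lib.Helper19DefGlueC

/-!
# A deformation over a fibre product over the residue field is glued from its restrictions
(helper19)
-/

set_option autoImplicit false
set_option linter.unusedSectionVars false
set_option linter.style.haveILetI false
universe u

open TensorProduct

namespace Groth.Agent.Lib.Helper19.DefGlue

open Groth.Agent.Lib.Helper22

variable {k B₀ : Type u} [Field k] [CommRing B₀] [Algebra k B₀]

section LiftBij

variable {R N : Type u} [CommRing R] [Algebra R k] [CommRing N] [Algebra R N] {ρ : N →+* B₀}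

/-- for a deformation `N` over `R`, `k ⊗[R] N → B₀` is bijective -/
theorem IsDefo.liftTo_bijective (hR : Function.Surjective (algebraMap R k))
    (h : IsDefo (algebraMap R k) ρ) :
    Function.Bijective (liftTo (B := R) (A := k) (C := B₀) ρ h.hc) := by
  constructor
  · rw [injective_iff_map_eq_zero]
    intro t ht
    obtain ⟨n, rfl⟩ := TensorProduct.mk_surjective R N k hR t
    rw [TensorProduct.mk_apply] at ht ⊢
    rw [liftTo_one_tmul] at ht
    have h1 : n ∈ RingHom.ker ρ := ht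
    rw [h.hk] at h1
    apply one_tmul_eq_zero_of_mem_ker_smul
    rw [Ideal.smul_top_eq_map]
    exact h1
  · intro b
    obtain ⟨n, rfl⟩ := h.hs b
    exact ⟨(1 : k) ⊗ₜ[R] n, liftTo_one_tmul ρ h.hc n⟩

end LiftBij

section Can

variable {B' B A' : Type u} [CommRing B'] [CommRing B] [CommRing A']
  [Algebra B' B] [Algebra B' A'] [Algebra B k] [Algebra A' k] [Algebra B' k]
  [IsScalarTower B' B k] [IsScalarTower B' A' k]
  (hsq : EtMil.IsFibreSquare B' B A' k)
  (hB' : Function.Surjective (algebraMap B' k))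
  (hB : Function.Surjective (algebraMap B k)) (hA' : Function.Surjective (algebraMap A' k))
  {E : Type u} [CommRing E] [Algebra B' E] {ρ : E →+* B₀} (hE : IsDefo (algebraMap B' k) ρ)

/-- reduction on the restriction to `B` -/
noncomputable def rho₁ : B ⊗[B'] E →+* B₀ :=
  bcRho (algebraMap B' k) (algebraMap B k)
    (fun r => (IsScalarTower.algebraMap_apply B' B k r).symm) ρ hE.hc

/-- reduction on the restriction to `A'` -/
noncomputable def rho₂ : A' ⊗[B'] E →+* B₀ :=
  bcRho (algebraMap B' k) (algebraMap A' k)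
    (fun r => (IsScalarTower.algebraMap_apply B' A' k r).symm) ρ hE.hc

lemma rho₁_one_tmul (e : E) : rho₁ (B := B) hE ((1 : B) ⊗ₜ[B'] e) = ρ e := bcRho_one_tmul _ _ _ _ _ e
lemma rho₂_one_tmul (e : E) : rho₂ (A' := A') hE ((1 : A') ⊗ₜ[B'] e) = ρ e :=
  bcRho_one_tmul _ _ _ _ _ e

include hB' in
theorem isDefo_rho₁ : IsDefo (algebraMap B k) (rho₁ (B := B) hE) :=
  hE.baseChange B (algebraMap B' k) (algebraMap B k) _ ρ hB'

include hB' in
theorem isDefo_rho₂ : IsDefo (algebraMap A' k) (rho₂ (A' := A') hE) :=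
  hE.baseChange A' (algebraMap B' k) (algebraMap A' k) _ ρ hB'

/-- the canonical gluing isomorphism of the restrictions -/
noncomputable def canPhi : k ⊗[B] (B ⊗[B'] E) ≃ₐ[k] k ⊗[A'] (A' ⊗[B'] E) :=
  PhiOf (rho₁ (B := B) hE) (rho₂ (A' := A') hE) (isDefo_rho₁ hB' hE).hc (isDefo_rho₂ hB' hE).hc
    ((isDefo_rho₁ hB' hE).liftTo_bijective hB) ((isDefo_rho₂ hB' hE).liftTo_bijective hA')

/-- the glued algebra of the restrictions -/
noncomputable abbrev canGlue : Subalgebra B' ((B ⊗[B'] E) × (A' ⊗[B'] E)) :=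
  glueAlg (B' := B') (canPhi hB' hB hA' hE)

lemma mem_canGlue (x : (B ⊗[B'] E) × (A' ⊗[B'] E)) :
    x ∈ canGlue hB' hB hA' hE ↔ rho₁ (B := B) hE x.1 = rho₂ (A' := A') hE x.2 :=
  mem_glueAlg_PhiOf _ _ _ _ _ _ x

/-- the reduction map of the glued algebra -/
noncomputable def canRho : canGlue hB' hB hA' hE →+* B₀ :=
  (rho₁ (B := B) hE).comp
    (gFst (B' := B') (canPhi hB' hB hA' hE) : canGlue hB' hB hA' hE →+* B ⊗[B'] E)

lemma canRho_apply (x : canGlue hB' hB hA' hE) :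
    canRho hB' hB hA' hE x = rho₁ (B := B) hE (x : (B ⊗[B'] E) × (A' ⊗[B'] E)).1 := rfl

include hsq in
theorem isDefo_canGlue : IsDefo (algebraMap B' k) (canRho hB' hB hA' hE) := by
  haveI := hE.flat
  exact IsDefo.glue (canPhi hB' hB hA' hE) hsq (algebraMap B' k) (algebraMap B k)
    (fun r => (IsScalarTower.algebraMap_apply B' B k r).symm) (rho₁ (B := B) hE)
    (isDefo_rho₁ hB' hE) inferInstance

/-- the canonical map from a deformation to the glued algebra of its restrictions -/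
noncomputable def canIncl : E →ₐ[B'] canGlue hB' hB hA' hE :=
  AlgHom.codRestrict
    ((Algebra.TensorProduct.includeRight : E →ₐ[B'] B ⊗[B'] E).prod
      (Algebra.TensorProduct.includeRight : E →ₐ[B'] A' ⊗[B'] E)) _ (fun e => by
    rw [mem_canGlue]
    change rho₁ (B := B) hE ((1 : B) ⊗ₜ[B'] e) = rho₂ (A' := A') hE ((1 : A') ⊗ₜ[B'] e)
    rw [rho₁_one_tmul, rho₂_one_tmul])

lemma canRho_canIncl (e : E) : canRho hB' hB hA' hE (canIncl hB' hB hA' hE e) = ρ e := by
  rw [canRho_apply]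
  exact rho₁_one_tmul hE e

variable {E' : Type u} [CommRing E'] [Algebra B' E'] {ρ' : E' →+* B₀}
  (hE' : IsDefo (algebraMap B' k) ρ')

/-- a pair of compatible maps between the restrictions induces a map between the glued algebras -/
noncomputable def canMap (ψ₁ : B ⊗[B'] E' →ₐ[B] B ⊗[B'] E) (ψ₂ : A' ⊗[B'] E' →ₐ[A'] A' ⊗[B'] E)
    (h₁ : ∀ x, rho₁ (B := B) hE (ψ₁ x) = rho₁ (B := B) hE' x)
    (h₂ : ∀ x, rho₂ (A' := A') hE (ψ₂ x) = rho₂ (A' := A') hE' x) :
    canGlue hB' hB hA' hE' →ₐ[B'] canGlue hB' hB hA' hE :=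
  AlgHom.codRestrict
    (((ψ₁.restrictScalars B').comp (AlgHom.fst B' _ _)).prod
      ((ψ₂.restrictScalars B').comp (AlgHom.snd B' _ _)) |>.comp (canGlue hB' hB hA' hE').val) _
    (fun x => by
      rw [mem_canGlue]
      change rho₁ (B := B) hE (ψ₁ (x : (B ⊗[B'] E') × (A' ⊗[B'] E')).1) =
        rho₂ (A' := A') hE (ψ₂ (x : (B ⊗[B'] E') × (A' ⊗[B'] E')).2)
      rw [h₁, h₂]
      exact (mem_canGlue hB' hB hA' hE' _).1 x.2)

lemma canRho_canMap (ψ₁ : B ⊗[B'] E' →ₐ[B] B ⊗[B'] E) (ψ₂ : A' ⊗[B'] E' →ₐ[A'] A' ⊗[B'] E)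
    (h₁ : ∀ x, rho₁ (B := B) hE (ψ₁ x) = rho₁ (B := B) hE' x)
    (h₂ : ∀ x, rho₂ (A' := A') hE (ψ₂ x) = rho₂ (A' := A') hE' x)
    (x : canGlue hB' hB hA' hE') :
    canRho hB' hB hA' hE (canMap hB' hB hA' hE hE' ψ₁ ψ₂ h₁ h₂ x) = canRho hB' hB hA' hE' x := by
  rw [canRho_apply, canRho_apply]
  exact h₁ _

end Can

end Groth.Agent.Lib.Helper19.DefGlue
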