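import Groth.Agent.Lib.Helper19SmallExt

set_option autoImplicit false
universe u v w

open CategoryTheory ArtFun ArtFun.Art

namespace Groth.Agent.Lib.Helper19

section Pullback

variable {Λ : Type u} {k : Type u} [CommRing Λ] [Field k] [Algebra Λ k]

variable {A A₁ A₂ : Art Λ k}

theorem isArtinianRing_pullback [Module.Finite Λ k] (f₁ : A₁ ⟶ A) (f₂ : A₂ ⟶ A) :
    IsArtinianRing (AlgHom.pullback f₁.toAlgHom f₂.toAlgHom) := by
  haveI := isArtinian_art A₁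
  haveI := isArtinian_art A₂
  have h : IsArtinian Λ (Subalgebra.toSubmodule (AlgHom.pullback f₁.toAlgHom f₂.toAlgHom)) :=
    inferInstance
  exact isArtinian_of_tower Λ h

/-- The fibre product `A₁ ×_A A₂` as an object, when `f₂` is surjective. -/
noncomputable def pullbackObj [Module.Finite Λ k] (f₁ : A₁ ⟶ A) (f₂ : A₂ ⟶ A)
    (hf₂ : Function.Surjective f₂) : Art Λ k :=
  haveI : IsLocalHom f₂.toAlgHom := Art.isLocalHom f₂
  { carrier := AlgHom.pullback f₁.toAlgHom f₂.toAlgHom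
    isLocalRing := AlgHom.isLocalRing_pullback f₁.toAlgHom f₂.toAlgHom
    isArtinianRing := isArtinianRing_pullback f₁ f₂
    res := A₁.res.comp (AlgHom.pullbackFst f₁.toAlgHom f₂.toAlgHom)
    res_surjective := A₁.res_surjective.comp
      (AlgHom.surjective_pullbackFst_of_surjective f₁.toAlgHom f₂.toAlgHom hf₂) }

variable [Module.Finite Λ k] (f₁ : A₁ ⟶ A) (f₂ : A₂ ⟶ A) (hf₂ : Function.Surjective f₂)

noncomputable def pullbackObjFst : pullbackObj f₁ f₂ hf₂ ⟶ A₁ :=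
  ⟨AlgHom.pullbackFst f₁.toAlgHom f₂.toAlgHom, rfl⟩

noncomputable def pullbackObjSnd : pullbackObj f₁ f₂ hf₂ ⟶ A₂ :=
  ⟨AlgHom.pullbackSnd f₁.toAlgHom f₂.toAlgHom, by
    apply AlgHom.ext
    intro b
    change A₂.res (b.1.2) = A₁.res (b.1.1)
    rw [← Art.res_app f₂, ← Art.res_app f₁]
    exact congrArg A.res b.2.symm⟩

theorem isFibreProd_pullbackObj :
    IsFibreProd (pullbackObjFst f₁ f₂ hf₂) (pullbackObjSnd f₁ f₂ hf₂) f₁ f₂ where
  w := by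
    apply hom_ext
    exact AlgHom.pullback_comm_sq f₁.toAlgHom f₂.toAlgHom
  inj b₁ b₂ h₁ h₂ := Subtype.ext (Prod.ext h₁ h₂)
  surj a' a'' h := ⟨⟨(a', a''), h⟩, rfl, rfl⟩

end Pullback

section FibreProdAPI

variable {Λ : Type u} {k : Type u} [CommRing Λ] [Field k] [Algebra Λ k]

variable {B A A₁ A₂ : Art Λ k} {p₁ : B ⟶ A₁} {p₂ : B ⟶ A₂} {f₁ : A₁ ⟶ A} {f₂ : A₂ ⟶ A}

lemma hom_map_zero {A B : Art Λ k} (f : A ⟶ B) : f 0 = 0 := map_zero f.toAlgHom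
lemma hom_map_mul {A B : Art Λ k} (f : A ⟶ B) (x y : A) : f (x * y) = f x * f y :=
  map_mul f.toAlgHom x y
lemma hom_map_add {A B : Art Λ k} (f : A ⟶ B) (x y : A) : f (x + y) = f x + f y :=
  map_add f.toAlgHom x y
lemma hom_map_sub {A B : Art Λ k} (f : A ⟶ B) (x y : A) : f (x - y) = f x - f y :=
  map_sub f.toAlgHom x y
lemma hom_map_one {A B : Art Λ k} (f : A ⟶ B) : f 1 = 1 := map_one f.toAlgHom
lemma hom_mem_ker {A B : Art Λ k} (f : A ⟶ B) (x : A) : x ∈ RingHom.ker f.toAlgHom ↔ f x = 0 :=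
  RingHom.mem_ker

lemma hom_mem_maximalIdeal {A B : Art Λ k} (f : A ⟶ B) {x : A}
    (hx : x ∈ IsLocalRing.maximalIdeal A) : f x ∈ IsLocalRing.maximalIdeal B := by
  rw [Art.mem_maximalIdeal_iff] at hx ⊢
  rw [Art.res_app, hx]

theorem fibreProd_eq_zero (h : IsFibreProd p₁ p₂ f₁ f₂) (b : B) (h1 : p₁ b = 0) (h2 : p₂ b = 0) :
    b = 0 :=
  h.inj b 0 (by rw [h1, hom_map_zero]) (by rw [h2, hom_map_zero])

theorem fibreProd_fst_surjective (h : IsFibreProd p₁ p₂ f₁ f₂) (hf₂ : Function.Surjective f₂) :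
    Function.Surjective p₁ := by
  intro a₁
  obtain ⟨a₂, ha₂⟩ := hf₂ (f₁ a₁)
  obtain ⟨b, hb, -⟩ := h.surj a₁ a₂ ha₂.symm
  exact ⟨b, hb⟩

theorem fibreProd_snd_surjective (h : IsFibreProd p₁ p₂ f₁ f₂) (hf₁ : Function.Surjective f₁) :
    Function.Surjective p₂ := by
  intro a₂
  obtain ⟨a₁, ha₁⟩ := hf₁ (f₂ a₂)
  obtain ⟨b, -, hb⟩ := h.surj a₁ a₂ ha₁
  exact ⟨b, hb⟩

theorem fibreProd_symm (h : IsFibreProd p₁ p₂ f₁ f₂) : IsFibreProd p₂ p₁ f₂ f₁ where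
  w := h.w.symm
  inj b₁ b₂ h₁ h₂ := h.inj b₁ b₂ h₂ h₁
  surj a' a'' e := by
    obtain ⟨b, hb₁, hb₂⟩ := h.surj a'' a' e.symm
    exact ⟨b, hb₂, hb₁⟩

/-- The first projection of a fibre product along a small extension is a small extension. -/
theorem fibreProd_isSmallExt_fst (h : IsFibreProd p₁ p₂ f₁ f₂) (hf₂ : IsSmallExt f₂) :
    IsSmallExt p₁ := by
  obtain ⟨hsurj, hne, ⟨⟨t, ht⟩⟩, hm⟩ := hf₂
  have ht' : RingHom.ker f₂.toAlgHom = Ideal.span {t} := ht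
  have htker : f₂ t = 0 := by
    rw [← hom_mem_ker, ht']; exact Ideal.mem_span_singleton_self t
  have ht0 : t ≠ 0 := by
    intro h0
    apply hne
    rw [ht', h0, Ideal.span_singleton_eq_bot]
  have hmt : ∀ y ∈ IsLocalRing.maximalIdeal A₂, y * t = 0 := by
    intro y hy
    have : y * t ∈ IsLocalRing.maximalIdeal A₂ * RingHom.ker f₂.toAlgHom :=
      Ideal.mul_mem_mul hy (by rw [ht']; exact Ideal.mem_span_singleton_self t)
    rwa [hm, Ideal.mem_bot] at this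
  obtain ⟨bt, hbt1, hbt2⟩ := h.surj 0 t (by rw [hom_map_zero, htker])
  have hker : RingHom.ker p₁.toAlgHom = Ideal.span {bt} := by
    apply le_antisymm
    · intro b hb
      rw [hom_mem_ker] at hb
      have hb2 : p₂ b ∈ RingHom.ker f₂.toAlgHom := by
        rw [hom_mem_ker, ← h.w_apply, hb, hom_map_zero]
      rw [ht', Ideal.mem_span_singleton'] at hb2
      obtain ⟨r, hr⟩ := hb2
      obtain ⟨br, hbr⟩ := B.res_surjective (A₂.res r)
      have hdiff : p₂ br - r ∈ IsLocalRing.maximalIdeal A₂ := by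
        rw [Art.mem_maximalIdeal_iff, map_sub, Art.res_app, hbr, sub_self]
      have hrt : p₂ br * t = r * t := by
        have := hmt _ hdiff
        rw [sub_mul, sub_eq_zero] at this
        exact this
      rw [Ideal.mem_span_singleton']
      refine ⟨br, h.inj _ _ ?_ ?_⟩
      · rw [hom_map_mul, hbt1, mul_zero, hb]
      · rw [hom_map_mul, hbt2, hrt, hr]
    · rw [Ideal.span_singleton_le_iff_mem, hom_mem_ker]
      exact hbt1
  refine ⟨fibreProd_fst_surjective h hsurj, ?_, ?_, ?_⟩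
  · rw [hker]
    intro h0
    rw [Ideal.span_singleton_eq_bot] at h0
    apply ht0
    rw [← hbt2, h0, hom_map_zero]
  · rw [hker]; exact ⟨⟨_, rfl⟩⟩
  · rw [hker, eq_bot_iff, Ideal.mul_le]
    intro y hy z hz
    obtain ⟨s, rfl⟩ := Ideal.mem_span_singleton'.1 hz
    rw [Ideal.mem_bot]
    apply fibreProd_eq_zero h
    · rw [hom_map_mul, hom_map_mul, hbt1, mul_zero, mul_zero]
    · rw [hom_map_mul, hom_map_mul, hbt2]
      have : p₂ y * (p₂ s * t) = p₂ s * (p₂ y * t) := by ring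
      rw [this, hmt _ (hom_mem_maximalIdeal p₂ hy), mul_zero]

section Lift

variable {T : Art Λ k}

lemma comp_apply_eq {X Y Z W : Art Λ k} {a : X ⟶ Y} {b : Y ⟶ W} {c : X ⟶ Z} {d : Z ⟶ W}
    (w : a ≫ b = c ≫ d) (t : X) : b (a t) = d (c t) := by
  change (a ≫ b) t = (c ≫ d) t
  rw [w]

/-- The underlying function of the lift to a fibre product. -/
noncomputable def fibreProdLiftFun (h : IsFibreProd p₁ p₂ f₁ f₂) (g₁ : T ⟶ A₁) (g₂ : T ⟶ A₂)
    (w : g₁ ≫ f₁ = g₂ ≫ f₂) (t : T) : B :=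
  Classical.choose (h.surj (g₁ t) (g₂ t) (comp_apply_eq w t))

lemma fibreProdLiftFun_fst (h : IsFibreProd p₁ p₂ f₁ f₂) (g₁ : T ⟶ A₁) (g₂ : T ⟶ A₂)
    (w : g₁ ≫ f₁ = g₂ ≫ f₂) (t : T) : p₁ (fibreProdLiftFun h g₁ g₂ w t) = g₁ t :=
  (Classical.choose_spec (h.surj (g₁ t) (g₂ t) (comp_apply_eq w t))).1

lemma fibreProdLiftFun_snd (h : IsFibreProd p₁ p₂ f₁ f₂) (g₁ : T ⟶ A₁) (g₂ : T ⟶ A₂)
    (w : g₁ ≫ f₁ = g₂ ≫ f₂) (t : T) : p₂ (fibreProdLiftFun h g₁ g₂ w t) = g₂ t :=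
  (Classical.choose_spec (h.surj (g₁ t) (g₂ t) (comp_apply_eq w t))).2

/-- The lift of a compatible pair of morphisms to a fibre product. -/
noncomputable def fibreProdLift (h : IsFibreProd p₁ p₂ f₁ f₂) (g₁ : T ⟶ A₁) (g₂ : T ⟶ A₂)
    (w : g₁ ≫ f₁ = g₂ ≫ f₂) : T ⟶ B :=
  ⟨{ toFun := fibreProdLiftFun h g₁ g₂ w
     map_one' := h.inj _ _
        (by rw [fibreProdLiftFun_fst, hom_map_one, hom_map_one])
        (by rw [fibreProdLiftFun_snd, hom_map_one, hom_map_one])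
     map_mul' := fun x y => h.inj _ _
        (by rw [fibreProdLiftFun_fst, hom_map_mul, hom_map_mul, fibreProdLiftFun_fst,
          fibreProdLiftFun_fst])
        (by rw [fibreProdLiftFun_snd, hom_map_mul, hom_map_mul, fibreProdLiftFun_snd,
          fibreProdLiftFun_snd])
     map_zero' := h.inj _ _
        (by rw [fibreProdLiftFun_fst, hom_map_zero, hom_map_zero])
        (by rw [fibreProdLiftFun_snd, hom_map_zero, hom_map_zero])
     map_add' := fun x y => h.inj _ _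
        (by rw [fibreProdLiftFun_fst, hom_map_add, hom_map_add, fibreProdLiftFun_fst,
          fibreProdLiftFun_fst])
        (by rw [fibreProdLiftFun_snd, hom_map_add, hom_map_add, fibreProdLiftFun_snd,
          fibreProdLiftFun_snd])
     commutes' := fun r => h.inj _ _
        (by rw [fibreProdLiftFun_fst]
            exact (g₁.toAlgHom.commutes r).trans (p₁.toAlgHom.commutes r).symm)
        (by rw [fibreProdLiftFun_snd]
            exact (g₂.toAlgHom.commutes r).trans (p₂.toAlgHom.commutes r).symm) }, by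
    apply AlgHom.ext
    intro t
    change B.res (fibreProdLiftFun h g₁ g₂ w t) = T.res t
    rw [← Art.res_app p₁, fibreProdLiftFun_fst, Art.res_app]⟩

lemma fibreProdLift_apply (h : IsFibreProd p₁ p₂ f₁ f₂) (g₁ : T ⟶ A₁) (g₂ : T ⟶ A₂)
    (w : g₁ ≫ f₁ = g₂ ≫ f₂) (t : T) : fibreProdLift h g₁ g₂ w t = fibreProdLiftFun h g₁ g₂ w t := rfl

@[simp] lemma fibreProdLift_fst (h : IsFibreProd p₁ p₂ f₁ f₂) (g₁ : T ⟶ A₁) (g₂ : T ⟶ A₂)
    (w : g₁ ≫ f₁ = g₂ ≫ f₂) : fibreProdLift h g₁ g₂ w ≫ p₁ = g₁ := by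
  apply hom_ext; apply AlgHom.ext; intro t
  exact fibreProdLiftFun_fst h g₁ g₂ w t

@[simp] lemma fibreProdLift_snd (h : IsFibreProd p₁ p₂ f₁ f₂) (g₁ : T ⟶ A₁) (g₂ : T ⟶ A₂)
    (w : g₁ ≫ f₁ = g₂ ≫ f₂) : fibreProdLift h g₁ g₂ w ≫ p₂ = g₂ := by
  apply hom_ext; apply AlgHom.ext; intro t
  exact fibreProdLiftFun_snd h g₁ g₂ w t

lemma fibreProd_hom_ext (h : IsFibreProd p₁ p₂ f₁ f₂) {l l' : T ⟶ B}
    (h1 : l ≫ p₁ = l' ≫ p₁) (h2 : l ≫ p₂ = l' ≫ p₂) : l = l' := by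
  apply hom_ext; apply AlgHom.ext; intro t
  exact h.inj _ _ (comp_apply_eq h1 t) (comp_apply_eq h2 t)

/-- Pasting: if `D = A' ×_A B'` and `B = A' ×_A C` (over `C ⟶ B' ⟶ A`), then `B = D ×_{B'} C`. -/
theorem fibreProd_paste {A' B' C D : Art Λ k} {f' : A' ⟶ A} {q : B' ⟶ A} {p : C ⟶ B'}
    {d' : D ⟶ A'} {d'' : D ⟶ B'} {p' : B ⟶ A'} {p'' : B ⟶ C}
    (h1 : IsFibreProd d' d'' f' q) (h : IsFibreProd p' p'' f' (p ≫ q))
    (l : B ⟶ D) (hl1 : l ≫ d' = p') (hl2 : l ≫ d'' = p'' ≫ p) :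
    IsFibreProd l p'' d'' p where
  w := hl2
  inj b₁ b₂ e₁ e₂ := by
    apply h.inj _ _ _ e₂
    rw [← hl1]
    change d' (l b₁) = d' (l b₂)
    rw [e₁]
  surj d c e := by
    have e' : f' (d' d) = (p ≫ q) c := by
      rw [h1.w_apply, e]; rfl
    obtain ⟨b, hb1, hb2⟩ := h.surj (d' d) c e'
    refine ⟨b, h1.inj _ _ ?_ ?_, hb2⟩
    · rw [← hb1, ← hl1]; rfl
    · have : d'' (l b) = p (p'' b) := comp_apply_eq (b := d'') (d := p) (by rw [hl2]) b
      rw [this, hb2, e]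

end Lift

section LiftAlg

variable {T : Type u} [CommRing T] [Algebra Λ T]

/-- The underlying function of the lift of algebra maps from an arbitrary `Λ`-algebra to a fibre product. -/
noncomputable def fibreProdLiftAlgFun (h : IsFibreProd p₁ p₂ f₁ f₂) (g₁ : T →ₐ[Λ] A₁) (g₂ : T →ₐ[Λ] A₂)
    (w : f₁.toAlgHom.comp g₁ = f₂.toAlgHom.comp g₂) (t : T) : B :=
  Classical.choose (h.surj (g₁ t) (g₂ t) (AlgHom.congr_fun w t))

lemma fibreProdLiftAlgFun_fst (h : IsFibreProd p₁ p₂ f₁ f₂) (g₁ : T →ₐ[Λ] A₁) (g₂ : T →ₐ[Λ] A₂)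
    (w : f₁.toAlgHom.comp g₁ = f₂.toAlgHom.comp g₂) (t : T) :
    p₁ (fibreProdLiftAlgFun h g₁ g₂ w t) = g₁ t :=
  (Classical.choose_spec (h.surj (g₁ t) (g₂ t) (AlgHom.congr_fun w t))).1

lemma fibreProdLiftAlgFun_snd (h : IsFibreProd p₁ p₂ f₁ f₂) (g₁ : T →ₐ[Λ] A₁) (g₂ : T →ₐ[Λ] A₂)
    (w : f₁.toAlgHom.comp g₁ = f₂.toAlgHom.comp g₂) (t : T) :
    p₂ (fibreProdLiftAlgFun h g₁ g₂ w t) = g₂ t :=
  (Classical.choose_spec (h.surj (g₁ t) (g₂ t) (AlgHom.congr_fun w t))).2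

/-- The lift of a compatible pair of algebra maps from an arbitrary `Λ`-algebra to a fibre product. -/
noncomputable def fibreProdLiftAlg (h : IsFibreProd p₁ p₂ f₁ f₂) (g₁ : T →ₐ[Λ] A₁) (g₂ : T →ₐ[Λ] A₂)
    (w : f₁.toAlgHom.comp g₁ = f₂.toAlgHom.comp g₂) : T →ₐ[Λ] B :=
  { toFun := fibreProdLiftAlgFun h g₁ g₂ w
    map_one' := h.inj _ _
      (by rw [fibreProdLiftAlgFun_fst, hom_map_one, map_one])
      (by rw [fibreProdLiftAlgFun_snd, hom_map_one, map_one])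
    map_mul' := fun x y => h.inj _ _
      (by rw [fibreProdLiftAlgFun_fst, hom_map_mul, map_mul, fibreProdLiftAlgFun_fst,
        fibreProdLiftAlgFun_fst])
      (by rw [fibreProdLiftAlgFun_snd, hom_map_mul, map_mul, fibreProdLiftAlgFun_snd,
        fibreProdLiftAlgFun_snd])
    map_zero' := h.inj _ _
      (by rw [fibreProdLiftAlgFun_fst, hom_map_zero, map_zero])
      (by rw [fibreProdLiftAlgFun_snd, hom_map_zero, map_zero])
    map_add' := fun x y => h.inj _ _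
      (by rw [fibreProdLiftAlgFun_fst, hom_map_add, map_add, fibreProdLiftAlgFun_fst,
        fibreProdLiftAlgFun_fst])
      (by rw [fibreProdLiftAlgFun_snd, hom_map_add, map_add, fibreProdLiftAlgFun_snd,
        fibreProdLiftAlgFun_snd])
    commutes' := fun r => h.inj _ _
      (by rw [fibreProdLiftAlgFun_fst]
          exact (g₁.commutes r).trans (p₁.toAlgHom.commutes r).symm)
      (by rw [fibreProdLiftAlgFun_snd]
          exact (g₂.commutes r).trans (p₂.toAlgHom.commutes r).symm) }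

lemma fibreProdLiftAlg_fst (h : IsFibreProd p₁ p₂ f₁ f₂) (g₁ : T →ₐ[Λ] A₁) (g₂ : T →ₐ[Λ] A₂)
    (w : f₁.toAlgHom.comp g₁ = f₂.toAlgHom.comp g₂) :
    p₁.toAlgHom.comp (fibreProdLiftAlg h g₁ g₂ w) = g₁ :=
  AlgHom.ext fun t => fibreProdLiftAlgFun_fst h g₁ g₂ w t

lemma fibreProdLiftAlg_snd (h : IsFibreProd p₁ p₂ f₁ f₂) (g₁ : T →ₐ[Λ] A₁) (g₂ : T →ₐ[Λ] A₂)
    (w : f₁.toAlgHom.comp g₁ = f₂.toAlgHom.comp g₂) :
    p₂.toAlgHom.comp (fibreProdLiftAlg h g₁ g₂ w) = g₂ :=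
  AlgHom.ext fun t => fibreProdLiftAlgFun_snd h g₁ g₂ w t

/-- `h_R` is left exact: lifting elements of `HomSet`. -/
theorem homSet_lift {resT : T →ₐ[Λ] k} (h : IsFibreProd p₁ p₂ f₁ f₂)
    (φ₁ : HomSet T resT A₁) (φ₂ : HomSet T resT A₂)
    (w : HomSet.map f₁ φ₁ = HomSet.map f₂ φ₂) :
    ∃ ψ : HomSet T resT B, HomSet.map p₁ ψ = φ₁ ∧ HomSet.map p₂ ψ = φ₂ := by
  have w' : f₁.toAlgHom.comp φ₁.1 = f₂.toAlgHom.comp φ₂.1 := congrArg Subtype.val w
  refine ⟨⟨fibreProdLiftAlg h φ₁.1 φ₂.1 w', ?_⟩, ?_, ?_⟩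
  · rw [← p₁.res_comp, AlgHom.comp_assoc, fibreProdLiftAlg_fst, φ₁.2]
  · exact Subtype.ext (fibreProdLiftAlg_fst h φ₁.1 φ₂.1 w')
  · exact Subtype.ext (fibreProdLiftAlg_snd h φ₁.1 φ₂.1 w')

theorem homSet_ext {resT : T →ₐ[Λ] k} (h : IsFibreProd p₁ p₂ f₁ f₂)
    (ψ ψ' : HomSet T resT B) (h1 : HomSet.map p₁ ψ = HomSet.map p₁ ψ')
    (h2 : HomSet.map p₂ ψ = HomSet.map p₂ ψ') : ψ = ψ' := by
  apply Subtype.ext
  apply AlgHom.ext
  intro t
  exact h.inj _ _ (AlgHom.congr_fun (congrArg Subtype.val h1) t)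
    (AlgHom.congr_fun (congrArg Subtype.val h2) t)

end LiftAlg

end FibreProdAPI

end Groth.Agent.Lib.Helper19
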