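import Groth.Agent.Lib.Helper19SmallExt
import Groth.Agent.Lib.Helper19FibreProd

set_option autoImplicit false
universe u v w

open CategoryTheory ArtFun ArtFun.Art

namespace Groth.Agent.Lib.Helper19

section Smooth

variable {Λ : Type u} {k : Type u} [CommRing Λ] [Field k] [Algebra Λ k]

lemma map_comp_apply' (F : Art Λ k ⥤ Type v) {A B C : Art Λ k} (f : A ⟶ B) (g : B ⟶ C) (x : F.obj A) :
    F.map (f ≫ g) x = F.map g (F.map f x) := Functor.map_comp_apply F f g x

lemma map_id_apply' (F : Art Λ k ⥤ Type v) {A : Art Λ k} (x : F.obj A) :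
    F.map (𝟙 A) x = x := Functor.map_id_apply F A x

lemma map_inv_map (F : Art Λ k ⥤ Type v) {A B : Art Λ k} (e : A ⟶ B) [IsIso e] (x : F.obj A) :
    F.map (inv e) (F.map e x) = x := by
  rw [← map_comp_apply', IsIso.hom_inv_id, map_id_apply']

lemma map_map_inv (F : Art Λ k ⥤ Type v) {A B : Art Λ k} (e : A ⟶ B) [IsIso e] (y : F.obj B) :
    F.map e (F.map (inv e) y) = y := by
  rw [← map_comp_apply', IsIso.inv_hom_id, map_id_apply']

/-- A morphism of functors is smooth as soon as the lifting property holds for small extensions. -/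
theorem isSmooth_of_smallExt {F G : Art Λ k ⥤ Type v} (η : F ⟶ G)
    (h : ∀ ⦃B A : Art Λ k⦄ (μ : B ⟶ A), IsSmallExt μ → Function.Surjective (relCmp η μ)) :
    IsSmooth η := by
  intro B A μ hμ
  refine surjective_induction (fun A B μ => Function.Surjective (relCmp η μ)) ?_ ?_ ?_ μ hμ
  · intro A B e he t
    obtain ⟨⟨x, y⟩, hxy⟩ := t
    refine ⟨F.map (inv e) x, Subtype.ext (Prod.ext ?_ ?_)⟩
    · exact map_map_inv F e x
    · change η.app B (F.map (inv e) x) = y
      rw [NatTrans.naturality_apply η (inv e) x]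
      change η.app A x = G.map e y at hxy
      rw [hxy, map_inv_map]
  · intro A B p hp
    exact h p hp
  · intro A B C p q hp hq t
    obtain ⟨⟨x, y⟩, hxy⟩ := t
    change η.app A x = G.map (p ≫ q) y at hxy
    rw [map_comp_apply'] at hxy
    obtain ⟨z, hz⟩ := hq ⟨(x, G.map p y), hxy⟩
    have hz1 : F.map q z = x := congrArg (fun t => t.1.1) hz
    have hz2 : η.app B z = G.map p y := congrArg (fun t => t.1.2) hz
    obtain ⟨w, hw⟩ := hp ⟨(z, y), hz2⟩
    have hw1 : F.map p w = z := congrArg (fun t => t.1.1) hw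
    have hw2 : η.app C w = y := congrArg (fun t => t.1.2) hw
    refine ⟨w, Subtype.ext (Prod.ext ?_ hw2)⟩
    change F.map (p ≫ q) w = x
    rw [map_comp_apply', hw1, hz1]

/-- Unfolding of the lifting property defining smoothness. -/
lemma relCmp_surjective_iff {F G : Art Λ k ⥤ Type v} (η : F ⟶ G) {B A : Art Λ k} (μ : B ⟶ A) :
    Function.Surjective (relCmp η μ) ↔
      ∀ (x : F.obj A) (y : G.obj B), η.app A x = G.map μ y →
        ∃ z : F.obj B, F.map μ z = x ∧ η.app B z = y := by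
  constructor
  · intro hs x y e
    obtain ⟨z, hz⟩ := hs ⟨(x, y), e⟩
    exact ⟨z, congrArg (fun t => t.1.1) hz, congrArg (fun t => t.1.2) hz⟩
  · intro hs t
    obtain ⟨z, h1, h2⟩ := hs t.1.1 t.1.2 t.2
    exact ⟨z, Subtype.ext (Prod.ext h1 h2)⟩

lemma isSmooth_iff {F G : Art Λ k ⥤ Type v} (η : F ⟶ G) :
    IsSmooth η ↔ ∀ ⦃B A : Art Λ k⦄ (μ : B ⟶ A), Function.Surjective μ →
      ∀ (x : F.obj A) (y : G.obj B), η.app A x = G.map μ y →
        ∃ z : F.obj B, F.map μ z = x ∧ η.app B z = y := by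
  constructor
  · intro h B A μ hμ
    exact (relCmp_surjective_iff η μ).1 (h μ hμ)
  · intro h B A μ hμ
    exact (relCmp_surjective_iff η μ).2 (h μ hμ)

theorem isSmooth_comp {F G H : Art Λ k ⥤ Type v} (φ : F ⟶ G) (ψ : G ⟶ H)
    (hφ : IsSmooth φ) (hψ : IsSmooth ψ) : IsSmooth (φ ≫ ψ) := by
  rw [isSmooth_iff] at hφ hψ ⊢
  intro B A μ hμ x y e
  have e' : ψ.app A (φ.app A x) = H.map μ y := e
  obtain ⟨w, hw1, hw2⟩ := hψ μ hμ (φ.app A x) y e'
  obtain ⟨z, hz1, hz2⟩ := hφ μ hμ x w hw1.symm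
  refine ⟨z, hz1, ?_⟩
  change ψ.app B (φ.app B z) = y
  rw [hz2, hw2]

theorem isSmooth_of_comp_of_surjective {F G H : Art Λ k ⥤ Type v} (φ : F ⟶ G) (ψ : G ⟶ H)
    (hφ : ∀ A : Art Λ k, Function.Surjective (φ.app A)) (h : IsSmooth (φ ≫ ψ)) : IsSmooth ψ := by
  rw [isSmooth_iff] at h ⊢
  intro B A μ hμ x y e
  obtain ⟨x₀, rfl⟩ := hφ A x
  obtain ⟨z, hz1, hz2⟩ := h μ hμ x₀ y e
  refine ⟨φ.app B z, ?_, hz2⟩
  rw [← NatTrans.naturality_apply, hz1]

end Smooth

section S1Hbar

variable {Λ : Type u} {k : Type u} [CommRing Λ] [Field k] [Algebra Λ k]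

lemma cmp_fst (F : Art Λ k ⥤ Type v) {B A A' A'' : Art Λ k} {p' : B ⟶ A'} {p'' : B ⟶ A''}
    {f' : A' ⟶ A} {f'' : A'' ⟶ A} (h : IsFibreProd p' p'' f' f'') (z : F.obj B) :
    (cmp F h z).1.1 = F.map p' z := rfl

lemma cmp_snd (F : Art Λ k ⥤ Type v) {B A A' A'' : Art Λ k} {p' : B ⟶ A'} {p'' : B ⟶ A''}
    {f' : A' ⟶ A} {f'' : A'' ⟶ A} (h : IsFibreProd p' p'' f' f'') (z : F.obj B) :
    (cmp F h z).1.2 = F.map p'' z := rfl

/-- Surjectivity of `cmp` unfolded. -/
lemma cmp_surjective_iff (F : Art Λ k ⥤ Type v) {B A A' A'' : Art Λ k} {p' : B ⟶ A'} {p'' : B ⟶ A''}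
    {f' : A' ⟶ A} {f'' : A'' ⟶ A} (h : IsFibreProd p' p'' f' f'') :
    Function.Surjective (cmp F h) ↔
      ∀ (x' : F.obj A') (x'' : F.obj A''), F.map f' x' = F.map f'' x'' →
        ∃ z : F.obj B, F.map p' z = x' ∧ F.map p'' z = x'' := by
  constructor
  · intro hs x' x'' e
    obtain ⟨z, hz⟩ := hs ⟨(x', x''), e⟩
    exact ⟨z, congrArg (fun t => t.1.1) hz, congrArg (fun t => t.1.2) hz⟩
  · intro hs t
    obtain ⟨z, h1, h2⟩ := hs t.1.1 t.1.2 t.2
    exact ⟨z, Subtype.ext (Prod.ext h1 h2)⟩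

/-- Injectivity of `cmp` unfolded. -/
lemma cmp_injective_iff (F : Art Λ k ⥤ Type v) {B A A' A'' : Art Λ k} {p' : B ⟶ A'} {p'' : B ⟶ A''}
    {f' : A' ⟶ A} {f'' : A'' ⟶ A} (h : IsFibreProd p' p'' f' f'') :
    Function.Injective (cmp F h) ↔
      ∀ (z z' : F.obj B), F.map p' z = F.map p' z' → F.map p'' z = F.map p'' z' → z = z' := by
  constructor
  · intro hi z z' e1 e2
    exact hi (Subtype.ext (Prod.ext e1 e2))
  · intro hi z z' e
    exact hi z z' (congrArg (fun t => t.1.1) e) (congrArg (fun t => t.1.2) e)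

/-- For a fibre product along an isomorphism the first projection is bijective. -/
lemma fibreProd_fst_bijective_of_bijective {B A A' A'' : Art Λ k} {p' : B ⟶ A'} {p'' : B ⟶ A''}
    {f' : A' ⟶ A} {f'' : A'' ⟶ A} (h : IsFibreProd p' p'' f' f'') (hf : Function.Bijective f'') :
    Function.Bijective p' := by
  refine ⟨fun b b' e => h.inj b b' e ?_, fibreProd_fst_surjective h hf.2⟩
  apply hf.1
  rw [← h.w_apply, ← h.w_apply, e]

theorem s1_iff_hbar [Module.Finite Λ k] (F : Art Λ k ⥤ Type v) : S1 F ↔ Hbar F := by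
  constructor
  · intro h B A A' A'' p' p'' f' f'' hfp hs
    exact h p' p'' f' f'' hfp hs.1
  · intro hbar B A A' A'' p' p'' f' f'' hfp hs
    have key : Function.Surjective f'' ∧ ∀ (A' B : Art Λ k) (f' : A' ⟶ A) (p' : B ⟶ A') (p'' : B ⟶ A'')
        (h : IsFibreProd p' p'' f' f''), Function.Surjective (cmp F h) := by
      refine surjective_induction (fun A A'' f'' => Function.Surjective f'' ∧
        ∀ (A' B : Art Λ k) (f' : A' ⟶ A) (p' : B ⟶ A') (p'' : B ⟶ A'')
        (h : IsFibreProd p' p'' f' f''), Function.Surjective (cmp F h)) ?_ ?_ ?_ f'' hs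
      · intro A A'' e he
        have hb := bijective_of_isIso e
        refine ⟨hb.2, ?_⟩
        intro A' B f' p' p'' h
        rw [cmp_surjective_iff]
        intro x' x'' hx
        haveI : IsIso p' := isIso_of_bijective p' (fibreProd_fst_bijective_of_bijective h hb)
        refine ⟨F.map (inv p') x', map_map_inv F p' x', ?_⟩
        have e1 : inv p' ≫ p'' = f' ≫ inv e := by
          rw [IsIso.inv_comp_eq, ← Category.assoc, IsIso.eq_comp_inv, h.w]
        rw [← map_comp_apply', e1, map_comp_apply', hx, map_inv_map]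
      · intro A A'' p hp
        exact ⟨hp.1, fun A' B f' p' p'' h => hbar p' p'' f' p h hp⟩
      · intro A B' C p q hp hq
        refine ⟨fun a => ?_, ?_⟩
        · obtain ⟨b, rfl⟩ := hq.1 a
          obtain ⟨c, rfl⟩ := hp.1 b
          exact ⟨c, rfl⟩
        · intro A' B f' p' p'' h
          rw [cmp_surjective_iff]
          intro x' x'' hx
          have hD := isFibreProd_pullbackObj f' q hq.1
          set D := pullbackObj f' q hq.1
          set d' := pullbackObjFst f' q hq.1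
          set d'' := pullbackObjSnd f' q hq.1
          have w : p' ≫ f' = (p'' ≫ p) ≫ q := by rw [h.w, Category.assoc]
          set l := fibreProdLift hD p' (p'' ≫ p) w
          have hl1 : l ≫ d' = p' := fibreProdLift_fst hD _ _ w
          have hl2 : l ≫ d'' = p'' ≫ p := fibreProdLift_snd hD _ _ w
          have hpaste := fibreProd_paste hD h l hl1 hl2
          rw [map_comp_apply'] at hx
          obtain ⟨wD, hw1, hw2⟩ := (cmp_surjective_iff F hD).1 (hq.2 A' D f' d' d'' hD) x' (F.map p x'') hx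
          obtain ⟨z, hz1, hz2⟩ := (cmp_surjective_iff F hpaste).1 (hp.2 D B d'' l p'' hpaste) wD x'' hw2
          refine ⟨z, ?_, hz2⟩
          rw [← hl1, map_comp_apply', hz1, hw1]
    exact key.2 A' B f' p' p'' hfp

end S1Hbar

section Versal

variable {Λ : Type u} {k : Type u} [CommRing Λ] [Field k] [Algebra Λ k]
variable {R : Type u} [CommRing R] [Algebra Λ R] {resR : R →ₐ[Λ] k} {F : Art Λ k ⥤ Type v}

/-- The unique point of `h_R(k)`. -/
def homSetBase (R : Type u) [CommRing R] [Algebra Λ R] (resR : R →ₐ[Λ] k) :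
    HomSet R resR (base Λ k) := ⟨resR, AlgHom.id_comp _⟩

lemma homSet_base_eq (φ : HomSet R resR (base Λ k)) : φ = homSetBase R resR := by
  apply Subtype.ext
  have := φ.2
  change (AlgHom.id Λ k).comp φ.1 = resR at this
  rwa [AlgHom.id_comp] at this

lemma homSet_map_toBase {A : Art Λ k} (φ : HomSet R resR A) :
    HomSet.map (toBase A) φ = homSetBase R resR := homSet_base_eq _

/-- A versal family of a functor with `F(k)` a point is surjective on every object. -/
theorem versal_app_surjective (h0 : H0 F) (ξ : Family R resR F) (hξ : IsVersal ξ) (A : Art Λ k) :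
    Function.Surjective (ξ.app A) := by
  intro x
  haveI := h0.2
  obtain ⟨ψ, -, hψ⟩ := hξ (toBase A) A.res_surjective (homSetBase R resR) x (Subsingleton.elim _ _)
  exact ⟨ψ, hψ⟩

/-- A functor with `F(k)` a point which has a versal family satisfies (S1). -/
theorem s1_of_versal (h0 : H0 F) (ξ : Family R resR F) (hξ : IsVersal ξ) : S1 F := by
  intro B A A' A'' p' p'' f' f'' h hs
  rw [cmp_surjective_iff]
  intro x' x'' hx
  obtain ⟨ψ', hψ'⟩ := versal_app_surjective h0 ξ hξ A' x'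
  have e : F.map f'' x'' = ξ.app A (HomSet.map f' ψ') := by
    rw [ξ.natural, hψ', hx]
  obtain ⟨ψ'', hψ''1, hψ''2⟩ := hξ f'' hs (HomSet.map f' ψ') x'' e
  obtain ⟨ψ, h1, h2⟩ := homSet_lift h ψ' ψ'' hψ''1.symm
  refine ⟨ξ.app B ψ, ?_, ?_⟩
  · rw [← ξ.natural, h1, hψ']
  · rw [← ξ.natural, h2, hψ''2]

/-- A family which is surjective on `k` forces `F(k)` to be a point. -/
theorem h0_of_surjective (ξ : Family R resR F) (hs : Function.Surjective (ξ.app (base Λ k))) : H0 F := by
  refine ⟨⟨ξ.app _ (homSetBase R resR)⟩, ⟨fun x y => ?_⟩⟩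
  obtain ⟨φ, rfl⟩ := hs x
  obtain ⟨ψ, rfl⟩ := hs y
  rw [homSet_base_eq φ, homSet_base_eq ψ]

/-- A versal family which is surjective on every object and injective on `k[ε]` forces (S2). -/
theorem heps_of_miniversal (ξ : Family R resR F) (hξ : IsVersal ξ)
    (hinj : Function.Injective (ξ.app (dual Λ k)))
    (hsurj : ∀ A : Art Λ k, Function.Surjective (ξ.app A)) : Heps F := by
  have h0 : H0 F := h0_of_surjective ξ (hsurj _)
  have h1 : S1 F := s1_of_versal h0 ξ hξ
  intro B A' p' p'' h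
  refine ⟨?_, h1 p' p'' _ _ h (dual Λ k).res_surjective⟩
  rw [cmp_injective_iff]
  intro z z' e1 e2
  obtain ⟨ζ, rfl⟩ := hsurj B z
  have hp' : Function.Surjective p' := fibreProd_fst_surjective h (dual Λ k).res_surjective
  obtain ⟨ζ', hζ'1, hζ'2⟩ := hξ p' hp' (HomSet.map p' ζ) z' (by rw [ξ.natural, e1])
  have e3 : HomSet.map p'' ζ = HomSet.map p'' ζ' := by
    apply hinj
    rw [ξ.natural, ξ.natural, hζ'2, e2]
  rw [← hζ'2, homSet_ext h ζ ζ' hζ'1.symm e3]

end Versal

end Groth.Agent.Lib.Helper19
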