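import Groth.Agent.Lib.Helper19DefGlueE
import Groth.Agent.Lib.Helper19DefGlueF
import Groth.Agent.Lib.Helper19Functor

/-!
# The deformation functor of an affine scheme satisfies `H0`, `S1` and `Heps` (helper19)
-/

set_option autoImplicit false
set_option linter.unusedSectionVars false
set_option linter.style.haveILetI false
universe u

open CategoryTheory CategoryTheory.Limits AlgebraicGeometry ArtFun ArtFun.Art TensorProduct

namespace Groth.Agent.Lib.Helper19.DefGlue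

open Groth.Agent.Lib.Helper19 Groth.Agent.Lib.Helper19.DefAff Groth.Agent.Lib.Helper22

variable {Λ k : Type u} [CommRing Λ] [Field k] [Algebra Λ k]
variable {B₀ : Type u} [CommRing B₀] [Algebra k B₀]

section Inj

variable {Bf A₁ A₂ : Art Λ k} {p₁ : Bf ⟶ A₁} {p₂ : Bf ⟶ A₂}
  {E : Type u} [CommRing E] [Algebra Bf E] {ρ : E →+* B₀}
  {E' : Type u} [CommRing E'] [Algebra Bf E'] {ρ' : E' →+* B₀}

/-- Two deformations over `A₁ ×_k A₂` whose restrictions to `A₁` and to `A₂` are isomorphic are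
isomorphic. -/
theorem iso_of_baseChange_iso (h : IsFibreProd p₁ p₂ (toBase A₁) (toBase A₂))
    (hE : IsDefo Bf.res.toRingHom ρ) (hE' : IsDefo Bf.res.toRingHom ρ')
    (e₁ : ((ofDefo hE).baseChange p₁).Iso ((ofDefo hE').baseChange p₁))
    (e₂ : ((ofDefo hE).baseChange p₂).Iso ((ofDefo hE').baseChange p₂)) :
    Nonempty ((ofDefo hE).Iso (ofDefo hE')) := by
  letI a1 : Algebra Bf A₁ := p₁.toAlgHom.toRingHom.toAlgebra
  letI a2 : Algebra Bf A₂ := p₂.toAlgHom.toRingHom.toAlgebra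
  letI a3 : Algebra A₁ k := A₁.res.toRingHom.toAlgebra
  letI a4 : Algebra A₂ k := A₂.res.toRingHom.toAlgebra
  letI a5 : Algebra Bf k := Bf.res.toRingHom.toAlgebra
  haveI t1 : IsScalarTower Bf A₁ k := IsScalarTower.of_algebraMap_eq (fun b => (res_app p₁ b).symm)
  haveI t2 : IsScalarTower Bf A₂ k := IsScalarTower.of_algebraMap_eq (fun b => (res_app p₂ b).symm)
  have hsq : EtMil.IsFibreSquare Bf A₁ A₂ k := by
    refine ⟨A₂.res_surjective, fun a₁ a₂ he => ?_⟩
    obtain ⟨b, hb1, hb2⟩ := h.surj a₁ a₂ he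
    exact ⟨b, ⟨hb1, hb2⟩, fun b' hb' => h.inj b' b (hb'.1.trans hb1.symm) (hb'.2.trans hb2.symm)⟩
  have hB' : Function.Surjective (algebraMap Bf k) := Bf.res_surjective
  have hB : Function.Surjective (algebraMap A₁ k) := A₁.res_surjective
  have hA' : Function.Surjective (algebraMap A₂ k) := A₂.res_surjective
  have hEk : IsDefo (algebraMap Bf k) ρ := hE
  have hEk' : IsDefo (algebraMap Bf k) ρ' := hE'
  -- restrictions
  have hN₁ : IsDefo A₁.res.toRingHom (rho₁ (B := A₁) hEk) := isDefo_rho₁ hB' hEk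
  have hN₁' : IsDefo A₁.res.toRingHom (rho₁ (B := A₁) hEk') := isDefo_rho₁ hB' hEk'
  have hN₂ : IsDefo A₂.res.toRingHom (rho₂ (A' := A₂) hEk) := isDefo_rho₂ hB' hEk
  have hN₂' : IsDefo A₂.res.toRingHom (rho₂ (A' := A₂) hEk') := isDefo_rho₂ hB' hEk'
  have hinc : ∀ {S F : Type u} [CommRing S] [Algebra Bf S] [CommRing F] [Algebra Bf F] (b : Bf),
      ((1 : S) ⊗ₜ[Bf] (algebraMap Bf F b) : S ⊗[Bf] F) =
        algebraMap S (S ⊗[Bf] F) (algebraMap Bf S b) := by
    intro S F _ _ _ _ b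
    rw [Algebra.TensorProduct.algebraMap_apply, Algebra.algebraMap_self_apply,
      Algebra.algebraMap_eq_smul_one, ← TensorProduct.smul_tmul, Algebra.smul_def, mul_one]
  obtain ⟨i₁⟩ := baseChange_ofDefo_iso p₁ hE hN₁
    (Algebra.TensorProduct.includeRight : E →ₐ[Bf] A₁ ⊗[Bf] E).toRingHom (fun b => hinc b)
    (fun b => rho₁_one_tmul hEk b)
  obtain ⟨i₁'⟩ := baseChange_ofDefo_iso p₁ hE' hN₁'
    (Algebra.TensorProduct.includeRight : E' →ₐ[Bf] A₁ ⊗[Bf] E').toRingHom (fun b => hinc b)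
    (fun b => rho₁_one_tmul hEk' b)
  obtain ⟨i₂⟩ := baseChange_ofDefo_iso p₂ hE hN₂
    (Algebra.TensorProduct.includeRight : E →ₐ[Bf] A₂ ⊗[Bf] E).toRingHom (fun b => hinc b)
    (fun b => rho₂_one_tmul hEk b)
  obtain ⟨i₂'⟩ := baseChange_ofDefo_iso p₂ hE' hN₂'
    (Algebra.TensorProduct.includeRight : E' →ₐ[Bf] A₂ ⊗[Bf] E').toRingHom (fun b => hinc b)
    (fun b => rho₂_one_tmul hEk' b)
  obtain ⟨ψ₁, hψ₁, -⟩ := exists_algHom_of_ofDefo_iso hN₁ hN₁' ((i₁.symm.trans e₁).trans i₁')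
  obtain ⟨ψ₂, hψ₂, -⟩ := exists_algHom_of_ofDefo_iso hN₂ hN₂' ((i₂.symm.trans e₂).trans i₂')
  -- the glued algebras
  have hD : IsDefo Bf.res.toRingHom (canRho hB' hB hA' hEk) := isDefo_canGlue hsq hB' hB hA' hEk
  have hD' : IsDefo Bf.res.toRingHom (canRho hB' hB hA' hEk') :=
    isDefo_canGlue hsq hB' hB hA' hEk'
  obtain ⟨j⟩ := ofDefo_iso_of_algHom hD hE (canIncl hB' hB hA' hEk)
    (canRho_canIncl hB' hB hA' hEk)
  obtain ⟨j'⟩ := ofDefo_iso_of_algHom hD' hE' (canIncl hB' hB hA' hEk')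
    (canRho_canIncl hB' hB hA' hEk')
  obtain ⟨m⟩ := ofDefo_iso_of_algHom hD hD' (canMap hB' hB hA' hEk hEk' ψ₁ ψ₂ hψ₁ hψ₂)
    (canRho_canMap hB' hB hA' hEk hEk' ψ₁ ψ₂ hψ₁ hψ₂)
  exact ⟨(j.symm.trans m).trans j'⟩

end Inj

section Functor

variable (Λ) in
/-- the deformation functor of `Spec B₀` -/
noncomputable abbrev G (k B₀ : Type u) [Field k] [Algebra Λ k] [CommRing B₀] [Algebra k B₀] :
    Art Λ k ⥤ Type (u + 1) :=
  defFunctor (Λ := Λ) (Spec (CommRingCat.of B₀)) (Spec.map (CommRingCat.ofHom (algebraMap k B₀)))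

theorem isDefo_base :
    letI : Algebra (base Λ k) B₀ := inferInstanceAs (Algebra k B₀)
    IsDefo (base Λ k).res.toRingHom (RingHom.id B₀) := by
  letI : Algebra (base Λ k) B₀ := inferInstanceAs (Algebra k B₀)
  refine ⟨inferInstanceAs (Module.Flat k B₀), fun _ => rfl, Function.surjective_id, ?_⟩
  have h1 : RingHom.ker (RingHom.id B₀) = ⊥ := by
    ext b
    rw [RingHom.mem_ker, Ideal.mem_bot]
    rfl
  have h2 : RingHom.ker (base Λ k).res.toRingHom = ⊥ := by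
    ext b
    rw [RingHom.mem_ker, Ideal.mem_bot]
    rfl
  rw [h1, h2, Ideal.map_bot]

theorem h0_G : H0 (G Λ k B₀) := by
  letI : Algebra (base Λ k) B₀ := inferInstanceAs (Algebra k B₀)
  have hb : IsDefo (base Λ k).res.toRingHom (RingHom.id B₀) := isDefo_base
  have key : ∀ ξ : DefSch (Spec (CommRingCat.of B₀))
      (Spec.map (CommRingCat.ofHom (algebraMap k B₀))) (base Λ k),
      Nonempty ((ofDefo hb).Iso ξ) := by
    intro ξ
    obtain ⟨i⟩ := nonempty_iso_ofDefo ξ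
    let ψ : GRing ξ →ₐ[base Λ k] B₀ :=
      { toRingHom := rhoG ξ
        commutes' := fun r => (isDefo_GRing ξ).hc r }
    obtain ⟨j⟩ := ofDefo_iso_of_algHom hb (isDefo_GRing ξ) ψ (fun b => rfl)
    exact ⟨j.trans i.symm⟩
  refine ⟨⟨(ofDefo hb).cl⟩, ⟨fun q q' => ?_⟩⟩
  induction q using Quotient.inductionOn with
  | h ξ =>
    induction q' using Quotient.inductionOn with
    | h ξ' =>
      obtain ⟨j⟩ := key ξ
      obtain ⟨j'⟩ := key ξ'
      exact Quotient.sound ⟨j.symm.trans j'⟩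

theorem s1_G : S1 (G Λ k B₀) := by
  intro Bf A A₁ A₂ p₁ p₂ f₁ f₂ h hf₂
  rw [cmp_surjective_iff]
  intro x₁ x₂ hx
  induction x₁ using Quotient.inductionOn with
  | h ξ₁ =>
    induction x₂ using Quotient.inductionOn with
    | h ξ₂ =>
      obtain ⟨i₁⟩ := nonempty_iso_ofDefo ξ₁
      obtain ⟨i₂⟩ := nonempty_iso_ofDefo ξ₂
      have hx' : Nonempty ((ξ₁.baseChange f₁).Iso (ξ₂.baseChange f₂)) := Quotient.exact hx
      obtain ⟨e⟩ := hx'
      obtain ⟨ζ, ⟨j₁⟩, ⟨j₂⟩⟩ := exists_glue h hf₂ (isDefo_GRing ξ₁) (isDefo_GRing ξ₂)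
        (((i₁.symm.baseChange f₁).trans e).trans (i₂.baseChange f₂))
      exact ⟨ζ.cl, Quotient.sound ⟨j₁.trans i₁.symm⟩, Quotient.sound ⟨j₂.trans i₂.symm⟩⟩

theorem heps_G : Heps (G Λ k B₀) := by
  intro Bf A' p' p'' h
  constructor
  · rw [cmp_injective_iff]
    intro z z' e1 e2
    induction z using Quotient.inductionOn with
    | h ζ =>
      induction z' using Quotient.inductionOn with
      | h ζ' =>
        obtain ⟨i⟩ := nonempty_iso_ofDefo ζ
        obtain ⟨i'⟩ := nonempty_iso_ofDefo ζ'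
        have h1 : Nonempty ((ζ.baseChange p').Iso (ζ'.baseChange p')) := Quotient.exact e1
        have h2 : Nonempty ((ζ.baseChange p'').Iso (ζ'.baseChange p'')) := Quotient.exact e2
        obtain ⟨e₁⟩ := h1
        obtain ⟨e₂⟩ := h2
        obtain ⟨m⟩ := iso_of_baseChange_iso h (isDefo_GRing ζ) (isDefo_GRing ζ')
          (((i.symm.baseChange p').trans e₁).trans (i'.baseChange p'))
          (((i.symm.baseChange p'').trans e₂).trans (i'.baseChange p''))
        exact Quotient.sound ⟨(i.trans m).trans i'.symm⟩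
  · exact s1_G p' p'' _ _ h (dual Λ k).res_surjective

end Functor

end Groth.Agent.Lib.Helper19.DefGlue
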