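import Groth.Prelude.Def_ArtFun4

/-!
# The deformation functor only depends on the isomorphism class of the scheme; hulls transfer
along natural bijections (helper19)
-/

set_option autoImplicit false
set_option linter.unusedSectionVars false
set_option linter.style.haveILetI false
universe u v

open CategoryTheory CategoryTheory.Limits AlgebraicGeometry ArtFun ArtFun.Art

namespace Groth.Agent.Lib.Helper19.DefTransfer

variable {Λ : Type u} {k : Type u} [CommRing Λ] [Field k] [Algebra Λ k]

section Hull

variable {F F' : Art Λ k ⥤ Type v}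

/-- hulls transfer along a natural bijection -/
theorem hasHull_of_natBij (τ : ∀ A : Art Λ k, F.obj A → F'.obj A)
    (hnat : ∀ {A B : Art Λ k} (g : A ⟶ B) (q : F.obj A), τ B (F.map g q) = F'.map g (τ A q))
    (hbij : ∀ A, Function.Bijective (τ A)) (h : HasHull F) : HasHull F' := by
  obtain ⟨⟨R, ξ, hv, hb⟩⟩ := h
  refine ⟨⟨R, ⟨fun A φ => τ A (ξ.app A φ), ?_⟩, ?_, ?_⟩⟩
  · intro A B f φ
    rw [ξ.natural, hnat]
  · intro B A μ hμ φ y' hy'
    obtain ⟨y, rfl⟩ := (hbij B).2 y'
    have h1 : F.map μ y = ξ.app A φ := (hbij A).1 (by rw [hnat]; exact hy')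
    obtain ⟨ψ, h2, h3⟩ := hv μ hμ φ y h1
    exact ⟨ψ, h2, congrArg (τ B) h3⟩
  · exact (hbij _).comp hb

end Hull

section Transport

variable {X X' : Scheme.{u}} {x : X ⟶ specPt k} {x' : X' ⟶ specPt k} (e : X ≅ X')
  (he : e.hom ≫ x' = x) {A B : Art Λ k}

/-- transport a deformation along an isomorphism of the closed fibre -/
noncomputable def trans (ξ : DefSch (Λ := Λ) X x A) : DefSch (Λ := Λ) X' x' A where
  total := ξ.total
  f := ξ.f
  flat := ξ.flat
  i := e.inv ≫ ξ.i
  isPullback := by
    refine IsPullback.of_iso ξ.isPullback e (Iso.refl _) (Iso.refl _) (Iso.refl _) ?_ ?_ ?_ ?_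
    · rw [Iso.refl_hom, Category.comp_id, Iso.hom_inv_id_assoc]
    · rw [Iso.refl_hom, Category.comp_id, he]
    · rw [Iso.refl_hom, Iso.refl_hom, Category.comp_id, Category.id_comp]
    · rw [Iso.refl_hom, Iso.refl_hom, Category.comp_id, Category.id_comp]

/-- transport of isomorphisms -/
noncomputable def transIso {ξ ξ' : DefSch (Λ := Λ) X x A} (j : ξ.Iso ξ') :
    (trans e he ξ).Iso (trans e he ξ') :=
  ⟨j.iso, j.hom_f, by
    change (e.inv ≫ ξ.i) ≫ j.iso.hom = e.inv ≫ ξ'.i
    rw [Category.assoc, j.i_hom]⟩

/-- transport commutes with base change -/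
noncomputable def transBaseChange (ξ : DefSch (Λ := Λ) X x A) (g : A ⟶ B) :
    ((trans e he ξ).baseChange g).Iso (trans e he (ξ.baseChange g)) :=
  ⟨Iso.refl _, Category.id_comp _, by
    change pullback.lift (e.inv ≫ ξ.i) (x' ≫ specRes B) _ ≫ 𝟙 _ =
      e.inv ≫ pullback.lift ξ.i (x ≫ specRes B) _
    rw [Category.comp_id]
    apply pullback.hom_ext
    · rw [pullback.lift_fst, Category.assoc, pullback.lift_fst]
    · rw [pullback.lift_snd, Category.assoc, pullback.lift_snd, ← he, Category.assoc,
        Iso.inv_hom_id_assoc]⟩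

/-- transporting there and back -/
noncomputable def transTrans (ξ : DefSch (Λ := Λ) X x A) :
    (trans e.symm (x := x') (x' := x) (by rw [Iso.symm_hom, ← he, Iso.inv_hom_id_assoc])
      (trans e he ξ)).Iso ξ :=
  ⟨Iso.refl _, Category.id_comp _, by
    change (e.hom ≫ e.inv ≫ ξ.i) ≫ 𝟙 _ = ξ.i
    rw [Category.comp_id, Iso.hom_inv_id_assoc]⟩

/-- the induced map on isomorphism classes -/
noncomputable def transCl (q : (defFunctor (Λ := Λ) X x).obj A) :
    (defFunctor (Λ := Λ) X' x').obj A :=
  Quotient.map (sa := DefSch.setoid X x A) (sb := DefSch.setoid X' x' A) (trans e he)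
    (fun _ _ h => h.elim fun j => ⟨transIso e he j⟩) q

lemma transCl_natural (g : A ⟶ B) (q : (defFunctor (Λ := Λ) X x).obj A) :
    transCl e he ((defFunctor (Λ := Λ) X x).map g q) =
      (defFunctor (Λ := Λ) X' x').map g (transCl e he q) := by
  induction q using Quotient.inductionOn with
  | h ξ => exact Quotient.sound ⟨(transBaseChange e he ξ g).symm⟩

lemma transCl_bijective :
    Function.Bijective (transCl (Λ := Λ) (A := A) e he) := by
  have he' : e.symm.hom ≫ x = x' := by rw [Iso.symm_hom, ← he, Iso.inv_hom_id_assoc]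
  have h1 : ∀ q, transCl (Λ := Λ) (A := A) e.symm he' (transCl e he q) = q := by
    intro q
    induction q using Quotient.inductionOn with
    | h ξ => exact Quotient.sound ⟨transTrans e he ξ⟩
  have h2 : ∀ q, transCl (Λ := Λ) (A := A) e he (transCl e.symm he' q) = q := by
    intro q
    induction q using Quotient.inductionOn with
    | h ξ => exact Quotient.sound ⟨transTrans e.symm he' ξ⟩
  exact ⟨Function.LeftInverse.injective h1, Function.RightInverse.surjective h2⟩

include e he in
/-- **Hulls of deformation functors transfer along isomorphisms of the scheme.** -/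
theorem hasHull_of_iso (h : HasHull (defFunctor (Λ := Λ) X x)) :
    HasHull (defFunctor (Λ := Λ) X' x') :=
  hasHull_of_natBij (fun A => transCl (A := A) e he) (fun g q => transCl_natural e he g q)
    (fun _ => transCl_bijective e he) h

end Transport

end Groth.Agent.Lib.Helper19.DefTransfer
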