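import Groth.Agent.Lib.Helper19Limit
import Groth.Agent.Lib.Helper19Base

set_option autoImplicit false
universe u v w

open CategoryTheory ArtFun ArtFun.Art

namespace Groth.Agent.Lib.Helper19

section Hull

variable {Λ : Type u} {k : Type u} [CommRing Λ] [Field k] [Algebra Λ k]
variable [IsLocalRing Λ] [IsNoetherianRing Λ] [IsAdicComplete (IsLocalRing.maximalIdeal Λ) Λ]
  (hk : Function.Surjective (algebraMap Λ k))

include hk in
/-- Tangent vectors kill `m² + m_Λ`. -/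
lemma hom_eq_zero_of_mem_relSq {A : Art Λ k} (t : A ⟶ dual Λ k) {x : A} (hx : x ∈ relSq Λ A) :
    t x = 0 := by
  have hle : relSq Λ A ≤ RingHom.ker t.toAlgHom := by
    rw [relSq]
    apply sup_le
    · rw [pow_two, Ideal.mul_le]
      intro a ha b hb
      rw [hom_mem_ker, hom_map_mul]
      have ha' : A.res a = 0 := (Art.mem_maximalIdeal_iff A a).1 ha
      have hb' : A.res b = 0 := (Art.mem_maximalIdeal_iff A b).1 hb
      apply dual_ext
      · rw [dfst_mul, dfst_hom, ha', zero_mul, dfst_zero]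
      · rw [dsnd_mul, dfst_hom, dfst_hom, ha', hb', zero_mul, zero_mul, add_zero, dsnd_zero]
    · rw [Ideal.map_le_iff_le_comap]
      intro l hl
      rw [Ideal.mem_comap, hom_mem_ker]
      have h1 : t (algebraMap Λ A l) = algebraMap Λ (dual Λ k) l := t.toAlgHom.commutes l
      rw [h1]
      apply dual_ext
      · rw [dfst_algebraMap, dfst_zero]
        rw [← ker_algebraMap_eq_maximalIdeal hk] at hl
        exact hl
      · rw [dsnd_algebraMap, dsnd_zero]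
  exact (hom_mem_ker t x).1 (hle hx)

/-- A stage of the tower: a pair whose characteristic map is surjective. -/
def Stage (F : Art Λ k ⥤ Type v) : Type (max (u + 1) v) :=
  {p : Σ R : Art Λ k, F.obj R // ∀ b : F.obj (dual Λ k), ∃ φ : p.1 ⟶ dual Λ k, F.map φ p.2 = b}

include hk in
/-- The tower of the construction of a hull. -/
theorem exists_tower [Module.Finite Λ k] {F : Art Λ k ⥤ Type v} [T : TangentStr F] (h0 : H0 F)
    (hS1 : S1 F) (hEps : Heps F) (hfin : Hfin F) :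
    ∃ (R : ℕ → Art Λ k) (a : ∀ n, F.obj (R n)) (q : ∀ n, R (n + 1) ⟶ R n),
      Function.Bijective (fun t : R 0 ⟶ dual Λ k => F.map t (a 0)) ∧
      (∀ n, F.map (q n) (a (n + 1)) = a n) ∧
      (∀ n, IsSemismallExt (q n)) ∧
      (∀ n (x' : R (n + 1)), x' ∈ IsLocalRing.maximalIdeal (R (n + 1)) → q n x' ∈ relSq Λ (R n) →
        x' ∈ relSq Λ (R (n + 1))) ∧
      (∀ n (R₁ : Art Λ k) (π₁ : R₁ ⟶ R n), IsSmallExt π₁ → ∀ a₁ : F.obj R₁, F.map π₁ a₁ = a n →
        ∃ f : R (n + 1) ⟶ R₁, f ≫ π₁ = q n ∧ F.map f (a (n + 1)) = a₁) := by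
  obtain ⟨R₀, a₀, hbij⟩ := exists_pair_tangent_bijective hk h0 hEps hfin
  have hstep : ∀ s : Stage F, ∃ (s' : Stage F) (q : s'.1.1 ⟶ s.1.1), F.map q s'.1.2 = s.1.2 ∧
      IsSemismallExt q ∧
      (∀ x' : s'.1.1, x' ∈ IsLocalRing.maximalIdeal s'.1.1 → q x' ∈ relSq Λ s.1.1 →
        x' ∈ relSq Λ s'.1.1) ∧
      ∀ (R₁ : Art Λ k) (π₁ : R₁ ⟶ s.1.1), IsSmallExt π₁ → ∀ a₁ : F.obj R₁, F.map π₁ a₁ = s.1.2 →
        ∃ f : s'.1.1 ⟶ R₁, f ≫ π₁ = q ∧ F.map f s'.1.2 = a₁ := by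
    intro s
    obtain ⟨R', q, a', h1, h2, h3, h4⟩ := exists_semismall_versal_lift hk F hS1 hEps s.1.1 s.1.2 s.2
    refine ⟨⟨⟨R', a'⟩, ?_⟩, q, h1, h2, h3, h4⟩
    intro b
    obtain ⟨φ, hφ⟩ := s.2 b
    refine ⟨q ≫ φ, ?_⟩
    rw [map_comp_apply']
    change F.map φ (F.map q a') = b
    rw [h1, hφ]
  choose next q hq1 hq2 hq3 hq4 using hstep
  let s₀ : Stage F := ⟨⟨R₀, a₀⟩, fun b => hbij.2 b⟩
  let st : ℕ → Stage F := fun n => Nat.rec s₀ (fun _ s => next s) n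
  refine ⟨fun n => (st n).1.1, fun n => (st n).1.2, fun n => q (st n), hbij, ?_, ?_, ?_, ?_⟩
  · intro n; exact hq1 (st n)
  · intro n; exact hq2 (st n)
  · intro n; exact hq3 (st n)
  · intro n; exact hq4 (st n)

include hk in
/-- Existence of hulls: a functor with `H0`, (S1), `H_ε` and finite-dimensional tangent space has a hull. -/
theorem hasHull_of_s1_heps_hfin [Module.Finite Λ k] {F : Art Λ k ⥤ Type v} [T : TangentStr F] (h0 : H0 F)
    (hS1 : S1 F) (hEps : Heps F) (hfin : Hfin F) : HasHull F := by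
  obtain ⟨R, a, q, hbij, ha, hsemi, hcot', hvers⟩ := exists_tower hk h0 hS1 hEps hfin
  have hq : ∀ n, Function.Surjective (q n) := fun n => (hsemi n).1
  have hcot : ∀ n (x' : R (n + 1)), x' ∈ IsLocalRing.maximalIdeal (R (n + 1)) → q n x' = 0 →
      x' ∈ relSq Λ (R (n + 1)) := by
    intro n x' hx' h0'
    apply hcot' n x' hx'
    rw [h0']; exact Ideal.zero_mem _
  obtain ⟨S, ρ, hρ, hρs, hfac⟩ := exists_limit hk R q hq hcot
  obtain ⟨ξ, hξ⟩ := exists_family_of_tower F R q a ha ρ hρ hρs hfac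
  -- tangent vectors of `S` factor through `R 0`
  have hfac0 : ∀ (n : ℕ) (f : R n ⟶ dual Λ k), ∃ t : R 0 ⟶ dual Λ k,
      HomSet.map t (ρ 0) = HomSet.map f (ρ n) := by
    intro n
    induction n with
    | zero => exact fun f => ⟨f, rfl⟩
    | succ n ih =>
      intro f
      have hker : ∀ b, q n b = 0 → f b = 0 := by
        intro b hb
        apply hom_eq_zero_of_mem_relSq hk
        apply hcot n b _ hb
        exact ker_le_maximalIdeal (q n) ((hom_mem_ker (q n) b).2 hb)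
      obtain ⟨s, hs⟩ := exists_factor_of_surjective (q n) (hq n) f hker
      obtain ⟨t, ht⟩ := ih s
      refine ⟨t, ?_⟩
      rw [ht, ← hs, homSet_map_comp, hρ]
  refine ⟨⟨S, ξ, ?_, ?_, ?_⟩⟩
  · -- versal
    apply isVersal_of_smallExt
    intro B A μ hμ φ y hy
    obtain ⟨n, φ', hφ'⟩ := hfac A φ
    have hP := isFibreProd_pullbackObj φ' μ hμ.1
    have hpr₁ : IsSmallExt (pullbackObjFst φ' μ hμ.1) := fibreProd_isSmallExt_fst hP hμ
    have e0 : F.map φ' (a n) = F.map μ y := by rw [hy, ← hφ', hξ]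
    obtain ⟨a₁, ha₁1, ha₁2⟩ := (cmp_surjective_iff F hP).1
      (hS1 (pullbackObjFst φ' μ hμ.1) (pullbackObjSnd φ' μ hμ.1) φ' μ hP hμ.1) _ _ e0
    obtain ⟨f, hf1, hf2⟩ := hvers n _ (pullbackObjFst φ' μ hμ.1) hpr₁ a₁ ha₁1
    refine ⟨HomSet.map (f ≫ pullbackObjSnd φ' μ hμ.1) (ρ (n + 1)), ?_, ?_⟩
    · rw [← homSet_map_comp, Category.assoc, ← hP.w, ← Category.assoc, hf1, homSet_map_comp, hρ, hφ']
    · rw [hξ, map_comp_apply', hf2, ha₁2]
  · -- injective on the tangent space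
    intro φ₁ φ₂ h12
    obtain ⟨n₁, f₁, hf₁⟩ := hfac _ φ₁
    obtain ⟨n₂, f₂, hf₂⟩ := hfac _ φ₂
    obtain ⟨t₁, ht₁⟩ := hfac0 n₁ f₁
    obtain ⟨t₂, ht₂⟩ := hfac0 n₂ f₂
    rw [hf₁] at ht₁
    rw [hf₂] at ht₂
    rw [← ht₁, ← ht₂, hξ, hξ] at h12
    have : t₁ = t₂ := hbij.1 h12
    rw [← ht₁, ← ht₂, this]
  · -- surjective on the tangent space
    intro b
    obtain ⟨t, ht⟩ := hbij.2 b
    refine ⟨HomSet.map t (ρ 0), ?_⟩
    rw [hξ]
    exact ht

end Hull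

end Groth.Agent.Lib.Helper19
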