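import Mathlib

/-!
# Points of an open of `Spec B₀` that is smooth over `k` lie in the smooth locus (helper19)
-/

set_option autoImplicit false
set_option linter.unusedSectionVars false
set_option linter.style.haveILetI false
universe u

open CategoryTheory AlgebraicGeometry

namespace Groth.Agent.Lib.Helper19.SmoothSpecLocus

theorem mem_smoothLocus_of_smooth {k B₀ : Type u} [CommRing k] [CommRing B₀] [Algebra k B₀]
    [Algebra.FinitePresentation k B₀] (U : (Spec (CommRingCat.of B₀)).Opens)
    (hU : Smooth (U.ι ≫ Spec.map (CommRingCat.ofHom (algebraMap k B₀))))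
    (p : PrimeSpectrum B₀) (hp : p ∈ U) : p ∈ Algebra.smoothLocus k B₀ := by
  obtain ⟨_, ⟨_, ⟨f, rfl⟩, rfl⟩, hpf, hfU⟩ :=
    PrimeSpectrum.isBasis_basic_opens.exists_subset_of_mem_open hp U.2
  have key : Algebra.Smooth k (Localization.Away f) := by
    let j : Spec (CommRingCat.of (Localization.Away f)) ⟶ Spec (CommRingCat.of B₀) :=
      Spec.map (CommRingCat.ofHom (algebraMap B₀ (Localization.Away f)))
    haveI : IsOpenImmersion j := inferInstanceAs (IsOpenImmersion
      (Spec.map (CommRingCat.ofHom (algebraMap B₀ (Localization.Away f)))))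
    have hr : Set.range j ⊆ Set.range U.ι := by
      rw [Scheme.Opens.range_ι]
      have : Set.range j = (PrimeSpectrum.basicOpen f : Set (PrimeSpectrum B₀)) :=
        PrimeSpectrum.localization_away_comap_range (Localization.Away f) f
      rw [this]
      exact hfU
    let l := IsOpenImmersion.lift U.ι j hr
    have hl : l ≫ U.ι = j := IsOpenImmersion.lift_fac _ _ _
    haveI : IsOpenImmersion l := by
      have : IsOpenImmersion (l ≫ U.ι) := by rw [hl]; infer_instance
      exact IsOpenImmersion.of_comp l U.ι
    haveI := hU
    have h1 : Smooth (j ≫ Spec.map (CommRingCat.ofHom (algebraMap k B₀))) := by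
      rw [← hl, Category.assoc]
      infer_instance
    rw [← Spec.map_comp, ← CommRingCat.ofHom_comp] at h1
    have h2 := (HasRingHomProperty.Spec_iff (P := @Smooth)).1 h1
    rw [CommRingCat.hom_ofHom, ← IsScalarTower.algebraMap_eq, RingHom.smooth_algebraMap] at h2
    exact h2
  exact (Algebra.basicOpen_subset_smoothLocus_iff_smooth.2 key) hpf

end Groth.Agent.Lib.Helper19.SmoothSpecLocus
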