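import Groth.Agent.Lib.Helper19TorsRetrC

/-!
# `T¹(B₀/k, B₀)` is finite-dimensional when `B₀` is smooth outside finitely many primes (helper19)
-/

set_option autoImplicit false
set_option linter.unusedSectionVars false
set_option linter.style.haveILetI false
universe u

namespace Groth.Agent.Lib.Helper19.T1Fin

open Groth.Agent.Lib.Helper19.TorsRetr Groth.Agent.Lib.Helper19.CotTIndep

/-- in a Jacobson ring a prime with finitely many maximal ideals above it is maximal -/
lemma isMaximal_of_finite_above {B : Type*} [CommRing B] [IsJacobsonRing B] (q : Ideal B)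
    [hq : q.IsPrime] (h : {J : Ideal B | q ≤ J ∧ J.IsMaximal}.Finite) : q.IsMaximal := by
  have hj : q.jacobson = q := IsJacobsonRing.out inferInstance hq.isRadical
  have h1 : h.toFinset.inf id ≤ q := by
    rw [Finset.inf_id_eq_sInf, h.coe_toFinset]
    exact hj.le
  obtain ⟨J, hJ, hJq⟩ := (Ideal.IsPrime.inf_le' hq).1 h1
  rw [Set.Finite.mem_toFinset] at hJ
  have : q = J := le_antisymm hJ.1 hJq
  rw [this]
  exact hJ.2

variable (k B₀ : Type u) [Field k] [CommRing B₀] [Algebra k B₀] [Algebra.FinitePresentation k B₀]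

/-- `T¹` of the finite presentation is finite over `k` when the non-smooth locus is finite -/
theorem finite_C1_P0 (hS : ((Algebra.smoothLocus k B₀)ᶜ : Set (PrimeSpectrum B₀)).Finite) :
    Module.Finite k (C1 (P0 k B₀).toExtension B₀) := by
  haveI : Algebra.FiniteType k B₀ := inferInstance
  haveI : IsNoetherianRing B₀ := Algebra.FiniteType.isNoetherianRing k B₀
  haveI : IsJacobsonRing B₀ := isJacobsonRing_of_finiteType (A := k) (B := B₀)
  let a := Module.annihilator B₀ (C1 (P0 k B₀).toExtension B₀)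
  have key : ∀ q : PrimeSpectrum B₀, a ≤ q.asIdeal → q ∉ Algebra.smoothLocus k B₀ := by
    intro q hq hsm
    obtain ⟨_, ⟨_, ⟨τ, rfl⟩, rfl⟩, hqτ, hτ⟩ :=
      PrimeSpectrum.isBasis_basic_opens.exists_subset_of_mem_open hsm Algebra.isOpen_smoothLocus
    have h1 : ∀ q' : PrimeSpectrum B₀, τ ∉ q'.asIdeal → q' ∈ Algebra.smoothLocus k B₀ :=
      fun q' hq' => hτ hq'
    rw [smooth_iff_hasRetr k τ, hasRetr_iff_forall_smul_eq_zero] at h1
    obtain ⟨n₀, hn⟩ := h1
    have h2 : τ ^ n₀ ∈ a := by
      rw [Module.mem_annihilator]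
      intro x
      exact hn B₀ x
    exact hqτ (q.2.mem_of_pow_mem n₀ (hq h2))
  have hmax : ∀ q : Ideal B₀, q.IsPrime → a ≤ q → q.IsMaximal := by
    intro q hq haq
    haveI := hq
    apply isMaximal_of_finite_above
    refine (hS.image PrimeSpectrum.asIdeal).subset ?_
    rintro J ⟨hqJ, hJ⟩
    exact ⟨⟨J, hJ.isPrime⟩, key _ (haq.trans hqJ), rfl⟩
  haveI : Ring.KrullDimLE 0 (B₀ ⧸ a) := by
    rw [Ring.krullDimLE_zero_iff]
    intro I hI
    haveI := hI
    have hle : a ≤ I.comap (Ideal.Quotient.mk a) := by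
      intro x hx
      rw [Ideal.mem_comap, Ideal.Quotient.eq_zero_iff_mem.2 hx]
      exact I.zero_mem
    haveI h1 : (I.comap (Ideal.Quotient.mk a)).IsMaximal := hmax _ (Ideal.comap_isPrime _ _) hle
    have h2 := Ideal.IsMaximal.map_of_surjective_of_ker_le (f := Ideal.Quotient.mk a)
      Ideal.Quotient.mk_surjective (m := I.comap (Ideal.Quotient.mk a))
      (by rw [Ideal.mk_ker]; exact hle)
    rwa [Ideal.map_comap_of_surjective _ Ideal.Quotient.mk_surjective] at h2
  haveI : Module.Finite k (B₀ ⧸ a) := (Module.finite_iff_krullDimLE_zero k (B₀ ⧸ a)).2 inferInstance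
  have hM := Module.isTorsionBySet_annihilator B₀ (C1 (P0 k B₀).toExtension B₀)
  letI : Module (B₀ ⧸ a) (C1 (P0 k B₀).toExtension B₀) := hM.module
  haveI t1 : IsScalarTower B₀ (B₀ ⧸ a) (C1 (P0 k B₀).toExtension B₀) := hM.isScalarTower
  haveI t2 : IsScalarTower k (B₀ ⧸ a) (C1 (P0 k B₀).toExtension B₀) := hM.isScalarTower
  haveI : Module.Finite (B₀ ⧸ a) (C1 (P0 k B₀).toExtension B₀) :=
    Module.Finite.of_restrictScalars_finite B₀ (B₀ ⧸ a) _
  exact Module.Finite.trans (B₀ ⧸ a) _

/-- `T¹` of the canonical presentation is finite over `k` when the non-smooth locus is finite -/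
theorem finite_C1_canon (hS : ((Algebra.smoothLocus k B₀)ᶜ : Set (PrimeSpectrum B₀)).Finite) :
    Module.Finite k (C1 (CotT.canon k B₀).toExtension B₀) := by
  haveI := finite_C1_P0 k B₀ hS
  let e : C1 (CotT.canon k B₀).toExtension B₀ ≃ₗ[B₀] C1 (P0 k B₀).toExtension B₀ :=
    C1equiv
      (Algebra.Generators.defaultHom (CotT.canon k B₀).toGenerators
        (P0 k B₀).toGenerators).toExtensionHom
      (Algebra.Generators.defaultHom (P0 k B₀).toGenerators
        (CotT.canon k B₀).toGenerators).toExtensionHom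
  exact Module.Finite.equiv (e.restrictScalars k).symm

end Groth.Agent.Lib.Helper19.T1Fin
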