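import Mathlib.Algebra.Group.MinimalAxioms
import Mathlib.Algebra.Module.MinimalAxioms
import Groth.Agent.Lib.Helper19Tangent
import Groth.Agent.Lib.Helper19Functor

/-!
# The vector space structure on the tangent space of a functor with `H0` and `Heps` (helper19)
-/

set_option autoImplicit false
set_option linter.unusedSectionVars false
universe u v

open CategoryTheory ArtFun ArtFun.Art

namespace Groth.Agent.Lib.Helper19.TStr

variable {Λ : Type u} {k : Type u} [CommRing Λ] [Field k] [Algebra Λ k]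

section Objects

variable (Λ k)

/-- `k[ε₁, ε₂, ε₃]` -/
def dual3 : Art Λ k :=
  { carrier := TrivSqZeroExt k ((k × k) × k)
    isLocalRing := isLocalRing_tsze k ((k × k) × k)
    isArtinianRing := isArtinianRing_tsze k ((k × k) × k)
    res := TrivSqZeroExt.fstHom Λ k ((k × k) × k)
    res_surjective := fun a => ⟨TrivSqZeroExt.inl a, rfl⟩ }

variable {Λ k}

/-- maps `k[ε] → k[ε]` -/
def lin11 (L : k →ₗ[k] k) : dual Λ k ⟶ dual Λ k := ⟨tszeMap L, AlgHom.ext fun _ => rfl⟩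
/-- maps `k[ε] → k[ε₁, ε₂]` -/
def lin12 (L : k →ₗ[k] k × k) : dual Λ k ⟶ dual2 Λ k := ⟨tszeMap L, AlgHom.ext fun _ => rfl⟩
/-- maps `k[ε₁, ε₂] → k[ε]` -/
def lin21 (L : k × k →ₗ[k] k) : dual2 Λ k ⟶ dual Λ k := ⟨tszeMap L, AlgHom.ext fun _ => rfl⟩
/-- maps `k[ε₁, ε₂] → k[ε₁, ε₂]` -/
def lin22 (L : k × k →ₗ[k] k × k) : dual2 Λ k ⟶ dual2 Λ k := ⟨tszeMap L, AlgHom.ext fun _ => rfl⟩
/-- maps `k[ε₁, ε₂, ε₃] → k[ε]` -/
def lin31 (L : (k × k) × k →ₗ[k] k) : dual3 Λ k ⟶ dual Λ k := ⟨tszeMap L, AlgHom.ext fun _ => rfl⟩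
/-- maps `k[ε₁, ε₂, ε₃] → k[ε₁, ε₂]` -/
def lin32 (L : (k × k) × k →ₗ[k] k × k) : dual3 Λ k ⟶ dual2 Λ k :=
  ⟨tszeMap L, AlgHom.ext fun _ => rfl⟩

lemma pr₁_eq : (pr₁ : dual2 Λ k ⟶ dual Λ k) = lin21 (LinearMap.fst k k k) := rfl
lemma pr₂_eq : (pr₂ : dual2 Λ k ⟶ dual Λ k) = lin21 (LinearMap.snd k k k) := rfl
lemma plus_eq : (plus : dual2 Λ k ⟶ dual Λ k) =
    lin21 (LinearMap.fst k k k + LinearMap.snd k k k) := rfl
lemma scale_eq (c : k) : (scale c : dual Λ k ⟶ dual Λ k) = lin11 (c • LinearMap.id) := rfl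

lemma lin11_id : (lin11 LinearMap.id : dual Λ k ⟶ dual Λ k) = 𝟙 _ :=
  hom_ext (AlgHom.ext fun _ => rfl)

lemma lin11_zero : (lin11 0 : dual Λ k ⟶ dual Λ k) = toBase _ ≫ baseToDual :=
  hom_ext (AlgHom.ext fun x => TrivSqZeroExt.ext rfl rfl)

lemma lin11_comp (L L' : k →ₗ[k] k) :
    (lin11 L : dual Λ k ⟶ dual Λ k) ≫ lin11 L' = lin11 (L' ∘ₗ L) :=
  hom_ext (AlgHom.ext fun _ => rfl)

lemma lin12_comp_lin21 (L : k →ₗ[k] k × k) (L' : k × k →ₗ[k] k) :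
    (lin12 L : dual Λ k ⟶ dual2 Λ k) ≫ lin21 L' = lin11 (L' ∘ₗ L) :=
  hom_ext (AlgHom.ext fun _ => rfl)

lemma lin22_comp_lin21 (L : k × k →ₗ[k] k × k) (L' : k × k →ₗ[k] k) :
    (lin22 L : dual2 Λ k ⟶ dual2 Λ k) ≫ lin21 L' = lin21 (L' ∘ₗ L) :=
  hom_ext (AlgHom.ext fun _ => rfl)

lemma lin21_comp_lin11 (L : k × k →ₗ[k] k) (L' : k →ₗ[k] k) :
    (lin21 L : dual2 Λ k ⟶ dual Λ k) ≫ lin11 L' = lin21 (L' ∘ₗ L) :=
  hom_ext (AlgHom.ext fun _ => rfl)

lemma lin32_comp_lin21 (L : (k × k) × k →ₗ[k] k × k) (L' : k × k →ₗ[k] k) :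
    (lin32 L : dual3 Λ k ⟶ dual2 Λ k) ≫ lin21 L' = lin31 (L' ∘ₗ L) :=
  hom_ext (AlgHom.ext fun _ => rfl)

lemma baseToDual_comp_lin11 (L : k →ₗ[k] k) :
    (baseToDual : base Λ k ⟶ dual Λ k) ≫ lin11 L = baseToDual :=
  hom_ext (AlgHom.ext fun x => TrivSqZeroExt.ext rfl (by
    change L 0 = 0
    exact map_zero L))

/-- `k[ε₁, ε₂, ε₃] = k[ε₁, ε₂] ×_k k[ε₃]` -/
theorem isFibreProd_dual3 :
    IsFibreProd (lin32 (LinearMap.fst k (k × k) k) : dual3 Λ k ⟶ dual2 Λ k)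
      (lin31 (LinearMap.snd k (k × k) k)) (toBase (dual2 Λ k)) (toBase (dual Λ k)) where
  w := by rw [eq_toBase (lin32 _ ≫ toBase _), eq_toBase (lin31 _ ≫ toBase _)]
  inj b₁ b₂ h₁ h₂ := by
    have e₁ : b₁.fst = b₂.fst := by have e := congrArg TrivSqZeroExt.fst h₁; exact e
    have e₂ : b₁.snd.1 = b₂.snd.1 := by have e := congrArg TrivSqZeroExt.snd h₁; exact e
    have e₃ : b₁.snd.2 = b₂.snd.2 := by have e := congrArg TrivSqZeroExt.snd h₂; exact e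
    exact TrivSqZeroExt.ext e₁ (Prod.ext e₂ e₃)
  surj a' a'' h := by
    have h' : a'.fst = a''.fst := h
    exact ⟨(a'.fst, (a'.snd, a''.snd)), TrivSqZeroExt.ext rfl rfl, TrivSqZeroExt.ext h' rfl⟩

end Objects

section Str

variable {F : Art Λ k ⥤ Type v} (h0 : H0 F) (h2 : Heps F)

include h2 in
lemma dual2_ext (z z' : F.obj (dual2 Λ k)) (e1 : F.map pr₁ z = F.map pr₁ z')
    (e2 : F.map pr₂ z = F.map pr₂ z') : z = z' :=
  (cmp_injective_iff F isFibreProd_dual2).1 (h2 pr₁ pr₂ isFibreProd_dual2).1 z z' e1 e2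

include h0 h2 in
lemma exists_dual3 (z : F.obj (dual2 Λ k)) (x : F.obj (dual Λ k)) :
    ∃ w : F.obj (dual3 Λ k), F.map (lin32 (LinearMap.fst k (k × k) k)) w = z ∧
      F.map (lin31 (LinearMap.snd k (k × k) k)) w = x :=
  (cmp_surjective_iff F isFibreProd_dual3).1 (h2 _ _ isFibreProd_dual3).2 z x (h0_elim h0 _ _)

/-- the sum of two tangent vectors -/
noncomputable def tAdd (x y : F.obj (dual Λ k)) : F.obj (dual Λ k) :=
  F.map plus (exists_dual2_of_pair h0 h2 x y).choose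

lemma tAdd_eq (z : F.obj (dual2 Λ k)) :
    tAdd h0 h2 (F.map pr₁ z) (F.map pr₂ z) = F.map plus z := by
  have hs := (exists_dual2_of_pair h0 h2 (F.map pr₁ z) (F.map pr₂ z)).choose_spec
  rw [tAdd, dual2_ext h2 _ z hs.1 hs.2]

lemma tAdd_eq' {x y : F.obj (dual Λ k)} (z : F.obj (dual2 Λ k)) (e1 : F.map pr₁ z = x)
    (e2 : F.map pr₂ z = y) : tAdd h0 h2 x y = F.map plus z := by
  rw [← e1, ← e2, tAdd_eq]

/-- the zero tangent vector -/
noncomputable def tZero : F.obj (dual Λ k) := F.map baseToDual h0.1.some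

include h0 in
lemma map_zero_eq (x : F.obj (dual Λ k)) :
    F.map (toBase (dual Λ k) ≫ baseToDual) x = tZero h0 := by
  rw [map_comp_apply', tZero]
  congr 1
  exact h0_elim h0 _ _

lemma tAdd_comm (x y : F.obj (dual Λ k)) : tAdd h0 h2 x y = tAdd h0 h2 y x := by
  obtain ⟨z, hz1, hz2⟩ := exists_dual2_of_pair h0 h2 x y
  rw [tAdd_eq' h0 h2 z hz1 hz2]
  let sw : dual2 Λ k ⟶ dual2 Λ k := lin22 ((LinearMap.snd k k k).prod (LinearMap.fst k k k))
  have e1 : sw ≫ pr₁ = pr₂ := by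
    rw [pr₁_eq, pr₂_eq, lin22_comp_lin21]
    congr 1
  have e2 : sw ≫ pr₂ = pr₁ := by
    rw [pr₁_eq, pr₂_eq, lin22_comp_lin21]
    congr 1
  have e3 : sw ≫ plus = plus := by
    rw [plus_eq, lin22_comp_lin21]
    congr 1
    ext <;> simp
  rw [tAdd_eq' h0 h2 (F.map sw z) (by rw [← map_comp_apply', e1, hz2])
    (by rw [← map_comp_apply', e2, hz1]), ← map_comp_apply', e3]

lemma tZero_add (x : F.obj (dual Λ k)) : tAdd h0 h2 (tZero h0) x = x := by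
  let i₂ : dual Λ k ⟶ dual2 Λ k := lin12 (LinearMap.inr k k k)
  have e1 : i₂ ≫ pr₁ = toBase _ ≫ baseToDual := by
    rw [pr₁_eq, lin12_comp_lin21, ← lin11_zero]
    congr 1
  have e2 : i₂ ≫ pr₂ = 𝟙 _ := by
    rw [pr₂_eq, lin12_comp_lin21, ← lin11_id]
    congr 1
  have e3 : i₂ ≫ plus = 𝟙 _ := by
    rw [plus_eq, lin12_comp_lin21, ← lin11_id]
    congr 1
    ext
    simp
  rw [tAdd_eq' h0 h2 (F.map i₂ x) (by rw [← map_comp_apply', e1, map_zero_eq])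
    (by rw [← map_comp_apply', e2, map_id_apply']), ← map_comp_apply', e3, map_id_apply']

/-- the negative of a tangent vector -/
def tNeg (x : F.obj (dual Λ k)) : F.obj (dual Λ k) := F.map (scale (-1)) x

lemma tNeg_add (x : F.obj (dual Λ k)) : tAdd h0 h2 (tNeg x) x = tZero h0 := by
  let δ : dual Λ k ⟶ dual2 Λ k :=
    lin12 (((-1 : k) • LinearMap.id).prod LinearMap.id)
  have e1 : δ ≫ pr₁ = scale (-1) := by
    rw [pr₁_eq, lin12_comp_lin21, scale_eq]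
    rfl
  have e2 : δ ≫ pr₂ = 𝟙 _ := by
    rw [pr₂_eq, lin12_comp_lin21, ← lin11_id]
    rfl
  have e3 : δ ≫ plus = toBase _ ≫ baseToDual := by
    rw [plus_eq, lin12_comp_lin21, ← lin11_zero]
    congr 1
    ext
    simp
  rw [tAdd_eq' h0 h2 (F.map δ x) (by rw [← map_comp_apply', e1]; rfl)
    (by rw [← map_comp_apply', e2, map_id_apply']), ← map_comp_apply', e3, map_zero_eq]

lemma tAdd_assoc (x y z : F.obj (dual Λ k)) :
    tAdd h0 h2 (tAdd h0 h2 x y) z = tAdd h0 h2 x (tAdd h0 h2 y z) := by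
  obtain ⟨z₁₂, h12a, h12b⟩ := exists_dual2_of_pair h0 h2 x y
  obtain ⟨w, hw1, hw2⟩ := exists_dual3 h0 h2 z₁₂ z
  let q12 : dual3 Λ k ⟶ dual2 Λ k := lin32 (LinearMap.fst k (k × k) k)
  let q3 : dual3 Λ k ⟶ dual Λ k := lin31 (LinearMap.snd k (k × k) k)
  let a : dual3 Λ k ⟶ dual2 Λ k :=
    lin32 (((LinearMap.fst k k k + LinearMap.snd k k k) ∘ₗ LinearMap.fst k (k × k) k).prod
      (LinearMap.snd k (k × k) k))
  let b : dual3 Λ k ⟶ dual2 Λ k :=
    lin32 ((LinearMap.fst k k k ∘ₗ LinearMap.fst k (k × k) k).prod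
      (LinearMap.snd k k k ∘ₗ LinearMap.fst k (k × k) k + LinearMap.snd k (k × k) k))
  let q23 : dual3 Λ k ⟶ dual2 Λ k :=
    lin32 ((LinearMap.snd k k k ∘ₗ LinearMap.fst k (k × k) k).prod (LinearMap.snd k (k × k) k))
  let s : dual3 Λ k ⟶ dual Λ k :=
    lin31 ((LinearMap.fst k k k + LinearMap.snd k k k) ∘ₗ LinearMap.fst k (k × k) k +
      LinearMap.snd k (k × k) k)
  have ea1 : a ≫ pr₁ = q12 ≫ plus := by
    rw [pr₁_eq, plus_eq, lin32_comp_lin21, lin32_comp_lin21]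
    rfl
  have ea2 : a ≫ pr₂ = q3 := by
    rw [pr₂_eq, lin32_comp_lin21]
    rfl
  have ea3 : a ≫ plus = s := by
    rw [plus_eq, lin32_comp_lin21]
    congr 1
  have eb1 : b ≫ pr₁ = q12 ≫ pr₁ := by
    rw [pr₁_eq, lin32_comp_lin21, lin32_comp_lin21]
    rfl
  have eb2 : b ≫ pr₂ = q23 ≫ plus := by
    rw [pr₂_eq, plus_eq, lin32_comp_lin21, lin32_comp_lin21]
    congr 1
  have eb3 : b ≫ plus = s := by
    rw [plus_eq, lin32_comp_lin21]
    congr 1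
    ext <;> simp
  have eq1 : q23 ≫ pr₁ = q12 ≫ pr₂ := by
    rw [pr₁_eq, pr₂_eq, lin32_comp_lin21, lin32_comp_lin21]
    rfl
  have eq2 : q23 ≫ pr₂ = q3 := by
    rw [pr₂_eq, lin32_comp_lin21]
    rfl
  have hxy : tAdd h0 h2 x y = F.map plus z₁₂ := tAdd_eq' h0 h2 z₁₂ h12a h12b
  have hyz : tAdd h0 h2 y z = F.map plus (F.map q23 w) := by
    refine tAdd_eq' h0 h2 _ ?_ ?_
    · rw [← map_comp_apply', eq1, map_comp_apply', hw1, h12b]
    · rw [← map_comp_apply', eq2, hw2]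
  have hL : tAdd h0 h2 (tAdd h0 h2 x y) z = F.map s w := by
    rw [← ea3, map_comp_apply']
    refine tAdd_eq' h0 h2 _ ?_ ?_
    · rw [← map_comp_apply', ea1, map_comp_apply', hw1, hxy]
    · rw [← map_comp_apply', ea2, hw2]
  have hR : tAdd h0 h2 x (tAdd h0 h2 y z) = F.map s w := by
    rw [← eb3, map_comp_apply']
    refine tAdd_eq' h0 h2 _ ?_ ?_
    · rw [← map_comp_apply', eb1, map_comp_apply', hw1, h12a]
    · rw [← map_comp_apply', eb2, map_comp_apply', hyz]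
  rw [hL, hR]

/-- scalar multiplication -/
def tSmul (c : k) (x : F.obj (dual Λ k)) : F.obj (dual Λ k) := F.map (scale c) x

lemma tSmul_one (x : F.obj (dual Λ k)) : tSmul (1 : k) x = x := by
  have e : (scale (1 : k) : dual Λ k ⟶ dual Λ k) = 𝟙 _ := by
    rw [scale_eq, one_smul, lin11_id]
  rw [tSmul, e, map_id_apply']

lemma tSmul_mul (c d : k) (x : F.obj (dual Λ k)) : tSmul (c * d) x = tSmul c (tSmul d x) := by
  have e : (scale (c * d) : dual Λ k ⟶ dual Λ k) = scale d ≫ scale c := by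
    rw [scale_eq, scale_eq, scale_eq, lin11_comp]
    congr 1
    ext
    simp
  rw [tSmul, tSmul, tSmul, e, map_comp_apply']

lemma tSmul_add (c : k) (x y : F.obj (dual Λ k)) :
    tSmul c (tAdd h0 h2 x y) = tAdd h0 h2 (tSmul c x) (tSmul c y) := by
  obtain ⟨z, hz1, hz2⟩ := exists_dual2_of_pair h0 h2 x y
  let sc : dual2 Λ k ⟶ dual2 Λ k := lin22 (c • LinearMap.id)
  have e1 : sc ≫ pr₁ = pr₁ ≫ scale c := by
    rw [pr₁_eq, scale_eq, lin22_comp_lin21, lin21_comp_lin11]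
    congr 1
  have e2 : sc ≫ pr₂ = pr₂ ≫ scale c := by
    rw [pr₂_eq, scale_eq, lin22_comp_lin21, lin21_comp_lin11]
    congr 1
  have e3 : sc ≫ plus = plus ≫ scale c := by
    rw [plus_eq, scale_eq, lin22_comp_lin21, lin21_comp_lin11]
    congr 1
    ext <;> simp
  rw [tAdd_eq' h0 h2 z hz1 hz2, tAdd_eq' h0 h2 (F.map sc z)
    (by rw [← map_comp_apply', e1, map_comp_apply', hz1]; rfl)
    (by rw [← map_comp_apply', e2, map_comp_apply', hz2]; rfl), ← map_comp_apply', e3,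
    map_comp_apply']
  rfl

lemma tAdd_smul (c d : k) (x : F.obj (dual Λ k)) :
    tSmul (c + d) x = tAdd h0 h2 (tSmul c x) (tSmul d x) := by
  let γ : dual Λ k ⟶ dual2 Λ k := lin12 ((c • LinearMap.id).prod (d • LinearMap.id))
  have e1 : γ ≫ pr₁ = scale c := by
    rw [pr₁_eq, lin12_comp_lin21, scale_eq]
    rfl
  have e2 : γ ≫ pr₂ = scale d := by
    rw [pr₂_eq, lin12_comp_lin21, scale_eq]
    rfl
  have e3 : γ ≫ plus = scale (c + d) := by
    rw [plus_eq, lin12_comp_lin21, scale_eq]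
    congr 1
    ext
    simp
  rw [tAdd_eq' h0 h2 (F.map γ x) (by rw [← map_comp_apply', e1]; rfl)
    (by rw [← map_comp_apply', e2]; rfl), ← map_comp_apply', e3]
  rfl

/-- The tangent space structure on a functor satisfying `H0` and `Heps`. -/
noncomputable def tangentStr : TangentStr F :=
  letI : Add (F.obj (dual Λ k)) := ⟨tAdd h0 h2⟩
  letI : Zero (F.obj (dual Λ k)) := ⟨tZero h0⟩
  letI : Neg (F.obj (dual Λ k)) := ⟨tNeg⟩
  letI G : AddGroup (F.obj (dual Λ k)) :=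
    AddGroup.ofLeftAxioms (tAdd_assoc h0 h2) (tZero_add h0 h2) (tNeg_add h0 h2)
  letI AG : AddCommGroup (F.obj (dual Λ k)) := { G with add_comm := tAdd_comm h0 h2 }
  letI : SMul k (F.obj (dual Λ k)) := ⟨tSmul⟩
  { addCommGroup := AG
    module := Module.ofMinimalAxioms (tSmul_add h0 h2) (tAdd_smul h0 h2) tSmul_mul tSmul_one
    smul_eq := fun _ _ => rfl
    add_eq := fun z => tAdd_eq h0 h2 z }

end Str

end Groth.Agent.Lib.Helper19.TStr
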