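import Groth.Agent.Lib.Helper19DefTanC
import Groth.Agent.Lib.Helper19T1Fin
import Groth.Agent.Lib.Helper19DefTransfer
import Groth.Agent.Lib.Helper19SmoothSpecLocus
import Groth.Agent.Lib.Helper19TangentStrA
import Groth.Agent.Lib.Helper19Hull

/-!
# The deformation functor of an affine scheme with finitely many non-smooth points has a hull
(helper19)
-/

set_option autoImplicit false
set_option linter.unusedSectionVars false
set_option linter.style.haveILetI false
universe u

open CategoryTheory CategoryTheory.Limits AlgebraicGeometry ArtFun ArtFun.Art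

namespace Groth.Agent.Lib.Helper19.DefHullAff

open Groth.Agent.Lib.Helper19 Groth.Agent.Lib.Helper19.DefGlue Groth.Agent.Lib.Helper19.DefTan

variable {Λ k : Type u} [CommRing Λ] [IsLocalRing Λ] [IsNoetherianRing Λ]
  [IsAdicComplete (IsLocalRing.maximalIdeal Λ) Λ] [Field k] [Algebra Λ k]
  (hk : Function.Surjective (algebraMap Λ k))

include hk in
/-- the deformation functor of `Spec B₀` has a hull when `B₀` is of finite type and smooth outside
finitely many primes -/
theorem hasHull_G (B₀ : Type u) [CommRing B₀] [Algebra k B₀] [Algebra.FinitePresentation k B₀]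
    (hS : ((Algebra.smoothLocus k B₀)ᶜ : Set (PrimeSpectrum B₀)).Finite) :
    HasHull (G Λ k B₀) := by
  haveI : Module.Finite Λ k := Module.Finite.of_surjective (Algebra.linearMap Λ k) hk
  letI T : TangentStr (G Λ k B₀) := TStr.tangentStr h0_G heps_G
  haveI := T1Fin.finite_C1_canon k B₀ hS
  exact hasHull_of_s1_heps_hfin hk h0_G s1_G heps_G (hfin_G_of_finite (CotT.canon k B₀))

include hk in
theorem hasHull_defFunctor_affine (X : Scheme.{u}) [IsAffine X]
    (x : X ⟶ Spec (CommRingCat.of k)) [LocallyOfFiniteType x]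
    (U : X.Opens) (hU : Smooth (U.ι ≫ x)) (hfin : ((U : Set X)ᶜ).Finite) :
    HasHull (defFunctor (Λ := Λ) X x) := by
  let B₀ : Type u := Γ(X, ⊤)
  let φ : CommRingCat.of k ⟶ Γ(X, ⊤) := (Scheme.ΓSpecIso (CommRingCat.of k)).inv ≫ x.appTop
  letI : Algebra k B₀ := φ.hom.toAlgebra
  let e : X ≅ Spec (CommRingCat.of B₀) := X.isoSpec
  have he : e.hom ≫ Spec.map (CommRingCat.ofHom (algebraMap k B₀)) = x := by
    have h := Scheme.isoSpec_hom_naturality x
    rw [Scheme.isoSpec_Spec_hom] at h
    change X.isoSpec.hom ≫ Spec.map φ = x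
    rw [Spec.map_comp, ← Category.assoc, h, Category.assoc, ← Spec.map_comp, Iso.inv_hom_id,
      Spec.map_id, Category.comp_id]
  haveI : Algebra.FiniteType k B₀ := by
    have h1 : RingHom.FiniteType x.appTop.hom :=
      (HasRingHomProperty.iff_of_isAffine (P := @LocallyOfFiniteType)).1 inferInstance
    have h2 : RingHom.FiniteType (Scheme.ΓSpecIso (CommRingCat.of k)).inv.hom :=
      RingHom.FiniteType.of_surjective _
        (ConcreteCategory.bijective_of_isIso (Scheme.ΓSpecIso (CommRingCat.of k)).inv).2
    exact (h1.comp h2 : RingHom.FiniteType φ.hom)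
  haveI : Algebra.FinitePresentation k B₀ :=
    Algebra.FinitePresentation.of_finiteType.mp inferInstance
  have hS : ((Algebra.smoothLocus k B₀)ᶜ : Set (PrimeSpectrum B₀)).Finite := by
    refine (hfin.image (fun y : X => (e.hom y : PrimeSpectrum B₀))).subset ?_
    intro p hp
    refine ⟨e.inv p, ?_, ?_⟩
    · intro hpU
      apply hp
      let U' : (Spec (CommRingCat.of B₀)).Opens := e.inv ⁻¹ᵁ U
      have hU' : Smooth (U'.ι ≫ Spec.map (CommRingCat.ofHom (algebraMap k B₀))) := by
        have h1 : U'.ι ≫ Spec.map (CommRingCat.ofHom (algebraMap k B₀)) =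
            (e.inv ∣_ U) ≫ (U.ι ≫ x) := by
          rw [← Category.assoc (e.inv ∣_ U), morphismRestrict_ι, Category.assoc, ← he,
            Iso.inv_hom_id_assoc]
        rw [h1]
        haveI := hU
        infer_instance
      exact SmoothSpecLocus.mem_smoothLocus_of_smooth U' hU' p hpU
    · change e.hom (e.inv p) = p
      rw [← Scheme.Hom.comp_apply, Iso.inv_hom_id]
      rfl
  have h := hasHull_G (Λ := Λ) hk B₀ hS
  exact DefTransfer.hasHull_of_iso e.symm
    (by rw [Iso.symm_hom, ← he, Iso.inv_hom_id_assoc]) h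

end Groth.Agent.Lib.Helper19.DefHullAff
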