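import Groth.Agent.Lib.Helper19FSLiftFibre
import Groth.Agent.Lib.Helper19FSAdicEquiv

/-!
# Existence and uniqueness of flat complete lifts of formally smooth algebras
(EGA 0_IV 19.7.1.5, 19.7.2) (helper19)
-/

set_option autoImplicit false
set_option linter.style.haveILetI false
set_option linter.unusedSectionVars false
universe u

namespace Groth.Agent.Lib.Helper19.FSLiftUnique

open IsLocalRing TensorProduct Groth.Agent.Lib.Helper19.FSFibre

section basic

variable {A B : Type u} [CommRing A] [CommRing B] [Algebra A B] (𝔞 : Ideal A) (𝔟 : Ideal B)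

/-- when `A → B` is continuous, formal smoothness for the adic topologies implies formal
smoothness over the discrete base -/
theorem isFormallySmoothAdic_bot_of_map_le (hle : 𝔞.map (algebraMap A B) ≤ 𝔟)
    (h : EGA41.IsFormallySmoothAdic A 𝔞 B 𝔟) : EGA41.IsFormallySmoothAdic A ⊥ B 𝔟 := by
  intro C _ _ J hJ _ u hu
  obtain ⟨k, hk⟩ := hu
  obtain ⟨r, hr⟩ := hJ
  refine h C J ⟨r, hr⟩ ⟨k * r, ?_⟩ u ⟨k, hk⟩
  have h1 : (𝔞 ^ k).map (algebraMap A C) ≤ J := by
    rw [Ideal.map_le_iff_le_comap]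
    intro a ha
    rw [Ideal.mem_comap, ← Ideal.Quotient.eq_zero_iff_mem]
    have h2 : algebraMap A B a ∈ 𝔟 ^ k := by
      have := Ideal.mem_map_of_mem (algebraMap A B) ha
      rw [Ideal.map_pow] at this
      exact Ideal.pow_right_mono hle k this
    have h4 := hk _ h2
    rwa [AlgHom.commutes, IsScalarTower.algebraMap_apply A C (C ⧸ J),
      Ideal.Quotient.algebraMap_eq] at h4
  rw [pow_mul, Ideal.map_pow, eq_bot_iff, ← Ideal.zero_eq_bot, ← hr]
  exact Ideal.pow_right_mono h1 r

/-- formal smoothness over the discrete base implies formal smoothness for any adic topology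
of the base -/
theorem isFormallySmoothAdic_of_bot (h : EGA41.IsFormallySmoothAdic A ⊥ B 𝔟) :
    EGA41.IsFormallySmoothAdic A 𝔞 B 𝔟 := by
  intro C _ _ J hJ _ u hu
  exact h C J hJ ⟨1, by simp⟩ u hu

end basic

section flatfibre

variable {A : Type u} [CommRing A] (𝔞 : Ideal A) {κ : Type u} [CommRing κ] [Algebra A κ]
  (hκs : Function.Surjective (algebraMap A κ)) (hκk : RingHom.ker (algebraMap A κ) = 𝔞)
  {C B : Type u} [CommRing C] [Algebra A C] [CommRing B] [Algebra κ B]
  (ρ : C →+* B) (hρs : Function.Surjective ρ)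
  (hρk : RingHom.ker ρ = 𝔞.map (algebraMap A C))
  (hρA : ∀ a, ρ (algebraMap A C a) = algebraMap κ B (algebraMap A κ a))

include hκs hκk hρs hρk hρA in
/-- a flat Noetherian algebra whose fibre is formally smooth is formally smooth -/
theorem isFormallySmoothAdic_of_flat_of_surjective [IsNoetherianRing C] [Module.Flat A C]
    (𝔠 : Ideal C) (𝔟 : Ideal B) (h𝔟 : 𝔟 ≤ 𝔠.map ρ)
    (hB : EGA41.IsFormallySmoothAdic κ ⊥ B 𝔟) : EGA41.IsFormallySmoothAdic A 𝔞 C 𝔠 := by
  have HI := FSLiftFibre.fibreLifts_of_surjective 𝔞 hκs hκk ρ hρs hρk hρA 𝔠 𝔟 h𝔟 hB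
  apply isFormallySmoothAdic_of_stepLifts
  intro C' C'' _ _ _ _ p hp hnil hkill _ u hu
  exact exists_lift_of_flat HI p hp hnil hkill u hu

end flatfibre

section datum

variable {A : Type u} [CommRing A] (J : Ideal A) {B B₀ : Type u} [CommRing B] [Algebra A B]
  [CommRing B₀] [Algebra (A ⧸ J) B₀] (u : (A ⧸ J) ⊗[A] B ≃ₐ[A ⧸ J] B₀)

/-- the surjection `B → B₀` attached to an identification of the fibre `A/J ⊗ B` with `B₀` -/
noncomputable def fibreMap : B →+* B₀ :=
  (u : (A ⧸ J) ⊗[A] B →+* B₀).comp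
    ((Algebra.TensorProduct.quotIdealMapEquivQuotTensor B J : _ →+* (A ⧸ J) ⊗[A] B).comp
      (Ideal.Quotient.mk (J.map (algebraMap A B))))

theorem fibreMap_apply (b : B) : fibreMap J u b = u (1 ⊗ₜ[A] b) := rfl

theorem fibreMap_surjective : Function.Surjective (fibreMap J u) :=
  u.surjective.comp
    ((Algebra.TensorProduct.quotIdealMapEquivQuotTensor B J).surjective.comp
      Ideal.Quotient.mk_surjective)

theorem ker_fibreMap : RingHom.ker (fibreMap J u) = J.map (algebraMap A B) := by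
  ext b
  rw [RingHom.mem_ker]
  change u (Algebra.TensorProduct.quotIdealMapEquivQuotTensor B J
    (Ideal.Quotient.mk (J.map (algebraMap A B)) b)) = 0 ↔ _
  rw [map_eq_zero_iff _ u.injective,
    map_eq_zero_iff _ (Algebra.TensorProduct.quotIdealMapEquivQuotTensor B J).injective,
    Ideal.Quotient.eq_zero_iff_mem]

theorem fibreMap_algebraMap (a : A) :
    fibreMap J u (algebraMap A B a) = algebraMap (A ⧸ J) B₀ (Ideal.Quotient.mk J a) := by
  rw [fibreMap_apply, ← u.commutes]
  congr 1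
  rw [Algebra.algebraMap_eq_smul_one, TensorProduct.tmul_smul, TensorProduct.smul_tmul',
    Algebra.TensorProduct.algebraMap_apply]
  congr 1
  rw [Algebra.smul_def, mul_one]
  rfl

end datum

section unique

/-- **EGA 0_IV 19.7.1.5** for complete Noetherian local rings with their `𝔪`-adic topologies:
a formally smooth complete local `A`-algebra `B` and a flat complete local `A`-algebra `B'`
with the same reduction modulo `J` are isomorphic. -/
theorem exists_algEquiv_of_fibre {A : Type u} [CommRing A] (J : Ideal A)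
    {B B' B₀ : Type u} [CommRing B] [IsLocalRing B] [IsNoetherianRing B] [Algebra A B]
    [CommRing B'] [IsLocalRing B'] [IsNoetherianRing B'] [Algebra A B'] [CommRing B₀]
    [IsLocalRing B₀]
    [IsAdicComplete (maximalIdeal B) B] [IsAdicComplete (maximalIdeal B') B']
    (hfs : EGA41.IsFormallySmoothAdic A J B (maximalIdeal B)) [Module.Flat A B']
    (ρ : B →+* B₀) (hρs : Function.Surjective ρ) (hρk : RingHom.ker ρ = J.map (algebraMap A B))
    (ρ' : B' →+* B₀) (hρ's : Function.Surjective ρ')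
    (hρ'k : RingHom.ker ρ' = J.map (algebraMap A B'))
    (hcompat : ∀ a, ρ (algebraMap A B a) = ρ' (algebraMap A B' a)) :
    ∃ v : B ≃ₐ[A] B', ∀ b, ρ' (v b) = ρ b := by
  set JB' : Ideal B' := J.map (algebraMap A B') with hJB'
  have hJB'le : JB' ≤ maximalIdeal B' := by
    rw [← hρ'k]; exact le_maximalIdeal (RingHom.ker_ne_top ρ')
  have hJBle : J.map (algebraMap A B) ≤ maximalIdeal B := by
    rw [← hρk]; exact le_maximalIdeal (RingHom.ker_ne_top ρ)
  have hmρ : (maximalIdeal B).map ρ = maximalIdeal B₀ :=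
    FlatResExt.map_maximalIdeal_of_surjective ρ hρs
  have hmρ' : (maximalIdeal B').map ρ' = maximalIdeal B₀ :=
    FlatResExt.map_maximalIdeal_of_surjective ρ' hρ's
  -- the iso `B' ⧸ JB' ≃ B₀`
  let e' : (B' ⧸ JB') ≃+* B₀ :=
    (Ideal.quotEquivOfEq hρ'k.symm).trans (RingHom.quotientKerEquivOfSurjective hρ's)
  have he' : ∀ b', e' (Ideal.Quotient.mk JB' b') = ρ' b' := fun b' => rfl
  let w : B →ₐ[A] B' ⧸ JB' :=
    { (e'.symm : B₀ →+* B' ⧸ JB').comp ρ with
      commutes' := fun a => by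
        change e'.symm (ρ (algebraMap A B a)) = _
        rw [hcompat, ← he', RingEquiv.symm_apply_apply]
        rfl }
  have hw : ∀ b, e' (w b) = ρ b := fun b => e'.apply_symm_apply _
  -- instances on the quotient
  haveI : Nontrivial (B' ⧸ JB') :=
    Ideal.Quotient.nontrivial_iff.2 (ne_top_of_le_ne_top (maximalIdeal.isMaximal B').ne_top hJB'le)
  haveI : IsLocalRing (B' ⧸ JB') :=
    IsLocalRing.of_surjective' (Ideal.Quotient.mk JB') Ideal.Quotient.mk_surjective
  haveI : IsHausdorff ((maximalIdeal B').map (Ideal.Quotient.mk JB')) (B' ⧸ JB') := by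
    rw [FlatResExt.map_maximalIdeal_of_surjective (Ideal.Quotient.mk JB')
      Ideal.Quotient.mk_surjective]
    infer_instance
  have hwcont : ∃ k : ℕ, ((maximalIdeal B) ^ k).map w.toRingHom ≤
      (maximalIdeal B').map (Ideal.Quotient.mk JB') := by
    refine ⟨1, ?_⟩
    rw [pow_one, Ideal.map_le_iff_le_comap]
    intro x hx
    rw [Ideal.mem_comap]
    have h1 : ρ x ∈ (maximalIdeal B').map ρ' := by
      rw [hmρ', ← hmρ]; exact Ideal.mem_map_of_mem _ hx
    obtain ⟨y, hy, hyx⟩ := (Ideal.mem_map_iff_of_surjective ρ' hρ's).1 h1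
    have h2 : w x = Ideal.Quotient.mk JB' y := by
      apply e'.injective
      rw [he', hyx]; exact hw x
    change w x ∈ _
    rw [h2]
    exact Ideal.mem_map_of_mem _ hy
  obtain ⟨v, -, hv⟩ := exists_lift_to_adicComplete J (maximalIdeal B) (maximalIdeal B') JB' hfs
    ⟨1, by rw [pow_one]; exact hJB'le⟩ ⟨1, by rw [pow_one]; exact hJB'le⟩ w hwcont
  have hvb : ∀ b, ρ' (v b) = ρ b := fun b => by
    have := congrArg (fun f => f b) hv
    have h2 : Ideal.Quotient.mk JB' (v b) = w b := this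
    rw [← he', h2, hw]
  have heq : (J.map (algebraMap A B)).map v.toRingHom = J.map (algebraMap A B') := by
    rw [Ideal.map_map]
    congr 1
    exact v.comp_algebraMap
  have hvloc : (maximalIdeal B).map v.toRingHom ≤ maximalIdeal B' := by
    rw [Ideal.map_le_iff_le_comap]
    intro x hx
    rw [Ideal.mem_comap, mem_maximalIdeal, mem_nonunits_iff]
    intro hunit
    have h1 : IsUnit (ρ x) := by
      rw [← hvb]; exact hunit.map ρ'
    have h2 : ρ x ∈ maximalIdeal B₀ := by
      rw [← hmρ]; exact Ideal.mem_map_of_mem _ hx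
    exact (mem_maximalIdeal _).1 h2 h1
  have hsurj : Function.Surjective v := by
    haveI : IsHausdorff ((maximalIdeal B).map v.toRingHom) B' :=
      IsHausdorff.of_isLocalRing _ _
        (ne_top_of_le_ne_top (maximalIdeal.isMaximal B').ne_top hvloc)
    apply surjective_of_mk_map_comp_surjective (I := maximalIdeal B) v.toRingHom
    intro y
    obtain ⟨y', rfl⟩ := Ideal.Quotient.mk_surjective y
    obtain ⟨b, hb⟩ := hρs (ρ' y')
    refine ⟨b, ?_⟩
    change Ideal.Quotient.mk _ (v b) = Ideal.Quotient.mk _ y'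
    rw [Ideal.Quotient.eq]
    have h1 : v b - y' ∈ RingHom.ker ρ' := by
      rw [RingHom.mem_ker, map_sub, hvb, hb, sub_self]
    rw [hρ'k, hJB', ← heq] at h1
    exact Ideal.map_mono hJBle h1
  have hinj : Function.Injective v := by
    rw [injective_iff_map_eq_zero]
    intro x hx
    have hker1 : LinearMap.ker v.toLinearMap ≤ (J • ⊤ : Submodule A B) := by
      intro z hz
      have hz' : v z = 0 := hz
      rw [Ideal.smul_top_eq_map, Submodule.restrictScalars_mem, ← hρk, RingHom.mem_ker, ← hvb,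
        hz', map_zero]
    have hxk : x ∈ LinearMap.ker v.toLinearMap := hx
    apply IsHausdorff.haus' (I := maximalIdeal B)
    intro n
    rw [SModEq.zero, smul_eq_mul, Ideal.mul_top]
    have h2 := ker_le_pow_smul_top_of_flat v.toLinearMap hsurj J hker1 n hxk
    rw [Ideal.smul_top_eq_map, Submodule.restrictScalars_mem, Ideal.map_pow] at h2
    exact Ideal.pow_right_mono hJBle n h2
  exact ⟨AlgEquiv.ofBijective v ⟨hinj, hsurj⟩, fun b => hvb b⟩

end unique

section uniqueTensor

/-- uniqueness of flat complete lifts of a formally smooth quotient -/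
theorem exists_algEquiv_of_tensor_equiv {A : Type u} [CommRing A] (J : Ideal A)
    [IsLocalRing (A ⧸ J)]
    (B₀ : Type u) [CommRing B₀] [IsLocalRing B₀] [Algebra (A ⧸ J) B₀]
    [IsLocalHom (algebraMap (A ⧸ J) B₀)]
    (hfs : EGA41.IsFormallySmoothAdic (A ⧸ J) (maximalIdeal (A ⧸ J)) B₀ (maximalIdeal B₀))
    (B B' : Type u) [CommRing B] [IsLocalRing B] [IsNoetherianRing B] [Algebra A B]
    [CommRing B'] [IsLocalRing B'] [IsNoetherianRing B'] [Algebra A B']
    [IsAdicComplete (maximalIdeal B) B] [Module.Flat A B]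
    [IsAdicComplete (maximalIdeal B') B'] [Module.Flat A B']
    (u : (A ⧸ J) ⊗[A] B ≃ₐ[A ⧸ J] B₀) (u' : (A ⧸ J) ⊗[A] B' ≃ₐ[A ⧸ J] B₀) :
    ∃ v : B ≃ₐ[A] B', (u' : (A ⧸ J) ⊗[A] B' →ₐ[A ⧸ J] B₀).comp
      (Algebra.TensorProduct.map (AlgHom.id (A ⧸ J) (A ⧸ J)) (v : B →ₐ[A] B')) =
        (u : (A ⧸ J) ⊗[A] B →ₐ[A ⧸ J] B₀) := by
  have hB₀bot : EGA41.IsFormallySmoothAdic (A ⧸ J) ⊥ B₀ (maximalIdeal B₀) :=
    isFormallySmoothAdic_bot_of_map_le _ _ (IsLocalRing.map_maximalIdeal_le (algebraMap (A ⧸ J) B₀)) hfs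
  have hfsB : EGA41.IsFormallySmoothAdic A J B (maximalIdeal B) :=
    isFormallySmoothAdic_of_flat_of_surjective J (κ := A ⧸ J) Ideal.Quotient.mk_surjective
      Ideal.mk_ker (fibreMap J u) (fibreMap_surjective J u) (ker_fibreMap J u)
      (fibreMap_algebraMap J u) (maximalIdeal B) (maximalIdeal B₀)
      (FlatResExt.map_maximalIdeal_of_surjective _ (fibreMap_surjective J u)).ge hB₀bot
  obtain ⟨v, hv⟩ := exists_algEquiv_of_fibre J hfsB (fibreMap J u) (fibreMap_surjective J u)
    (ker_fibreMap J u) (fibreMap J u') (fibreMap_surjective J u') (ker_fibreMap J u')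
    (fun a => by rw [fibreMap_algebraMap, fibreMap_algebraMap])
  refine ⟨v, ?_⟩
  letI : Algebra A B₀ := ((algebraMap (A ⧸ J) B₀).comp (algebraMap A (A ⧸ J))).toAlgebra
  haveI : IsScalarTower A (A ⧸ J) B₀ := IsScalarTower.of_algebraMap_eq fun _ => rfl
  apply Algebra.TensorProduct.ext
  · ext
  · ext b
    simp only [AlgHom.coe_comp, AlgHom.coe_restrictScalars', Function.comp_apply,
      Algebra.TensorProduct.includeRight_apply, Algebra.TensorProduct.map_tmul, map_one,
      AlgHom.coe_coe]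
    exact hv b

end uniqueTensor

section existFlat

/-- a Noetherian local ring `A` with a homomorphism `ι : A → C₀` killing `𝔪_A` to a complete
regular local ring has a complete Noetherian local flat algebra `B` with `B / 𝔪_A B = C₀`
compatibly with `ι` (the base `A` need not be complete) -/
theorem exists_flat_complete_local_of_fibre_map {A : Type u} [CommRing A] [IsLocalRing A]
    [IsNoetherianRing A] (C₀ : Type u) [CommRing C₀] [IsRegularLocalRing C₀]
    [IsAdicComplete (maximalIdeal C₀) C₀] (ι : A →+* C₀) (hι : maximalIdeal A ≤ RingHom.ker ι) :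
    ∃ (B : Type u) (_ : CommRing B) (_ : IsLocalRing B) (_ : IsNoetherianRing B) (_ : Algebra A B)
      (_ : IsLocalHom (algebraMap A B)),
      IsAdicComplete (maximalIdeal B) B ∧ Module.Flat A B ∧
      ∃ ρ : B →+* C₀, Function.Surjective ρ ∧
        RingHom.ker ρ = (maximalIdeal A).map (algebraMap A B) ∧
        ∀ a, ρ (algebraMap A B a) = ι a := by
  let R := AdicCompletion (maximalIdeal A) A
  haveI : IsNoetherianRing R := Groth.Agent.Lib.Helper19.isNoetherianRing_adicCompletion _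
  let eR : ResidueField A ≃+* ResidueField R :=
    RingEquiv.ofBijective (ResidueField.map (algebraMap A R))
      (AdicCompletion.residueField_map_bijective A)
  have heR : ∀ a, eR (residue A a) = residue R (algebraMap A R a) := fun a => rfl
  let ι' : ResidueField A →+* C₀ := Ideal.Quotient.lift (maximalIdeal A) ι (fun a ha => hι ha)
  have hι' : ∀ a, ι' (residue A a) = ι a := fun a => rfl
  let ιR : R →+* C₀ :=
    ι'.comp ((eR.symm : ResidueField R →+* ResidueField A).comp (residue R))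
  have hιR : ∀ x, ιR x = ι' (eR.symm (residue R x)) := fun x => rfl
  have hιRker : maximalIdeal R ≤ RingHom.ker ιR := by
    intro x hx
    rw [RingHom.mem_ker, hιR, (residue_eq_zero_iff x).2 hx, map_zero, map_zero]
  have hιRA : ∀ a, ιR (algebraMap A R a) = ι a := by
    intro a
    rw [hιR, ← heR, RingEquiv.symm_apply_apply, hι']
  obtain ⟨B, i1, i2, i3, i4, hcompl, hflat, ρ, hρs, hρk, hρ⟩ :=
    FlatFibre.exists_flat_complete_local_of_complete_fibre R C₀ ιR hιRker
  letI : Algebra A B := ((algebraMap R B).comp (algebraMap A R)).toAlgebra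
  haveI : IsScalarTower A R B := IsScalarTower.of_algebraMap_eq fun _ => rfl
  have hmapA : RingHom.ker ρ = (maximalIdeal A).map (algebraMap A B) := by
    rw [hρk, IsScalarTower.algebraMap_eq A R B, ← Ideal.map_map,
      ← AdicCompletion.maximalIdeal_eq_map]
  have hρA : ∀ a, ρ (algebraMap A B a) = ι a := by
    intro a
    rw [IsScalarTower.algebraMap_apply A R B, hρ, hιRA]
  have hloc : IsLocalHom (algebraMap A B) := by
    refine ⟨fun a ha => ?_⟩
    by_contra hna
    have h1 : a ∈ maximalIdeal A := (mem_maximalIdeal a).2 hna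
    have h2 : algebraMap A B a ∈ RingHom.ker ρ := by
      rw [hmapA]; exact Ideal.mem_map_of_mem _ h1
    rw [RingHom.mem_ker] at h2
    have := ha.map ρ
    rw [h2] at this
    exact not_isUnit_zero this
  exact ⟨B, i1, i2, i3, inferInstance, hloc, hcompl, Module.Flat.trans A R B,
    ρ, hρs, hmapA, hρA⟩

end existFlat

section exist

variable {A : Type u} [CommRing A] [IsLocalRing A] [IsNoetherianRing A]
    (J : Ideal A) [IsLocalRing (A ⧸ J)]
    (B₀ : Type u) [CommRing B₀] [IsLocalRing B₀] [IsNoetherianRing B₀]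
    [IsAdicComplete (maximalIdeal B₀) B₀]
    [Algebra (A ⧸ J) B₀] [IsLocalHom (algebraMap (A ⧸ J) B₀)]

local notation "𝔪₀" => maximalIdeal (A ⧸ J)
local notation "I₀" => Ideal.map (algebraMap (A ⧸ J) B₀) (maximalIdeal (A ⧸ J))

/-- existence of a flat complete lift of a formally smooth quotient -/
theorem exists_flat_lift (hJ : J ≤ maximalIdeal A)
    (hfs : EGA41.IsFormallySmoothAdic (A ⧸ J) (maximalIdeal (A ⧸ J)) B₀ (maximalIdeal B₀)) :
    ∃ (B : Type u) (_ : CommRing B) (_ : IsLocalRing B) (_ : IsNoetherianRing B) (_ : Algebra A B)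
      (_ : IsLocalHom (algebraMap A B)),
      IsAdicComplete (maximalIdeal B) B ∧ Module.Flat A B ∧
        Nonempty ((A ⧸ J) ⊗[A] B ≃ₐ[A ⧸ J] B₀) := by
  have hI₀le : I₀ ≤ maximalIdeal B₀ := IsLocalRing.map_maximalIdeal_le (algebraMap (A ⧸ J) B₀)
  have hmkJ : (maximalIdeal A).map (Ideal.Quotient.mk J) = 𝔪₀ :=
    FlatResExt.map_maximalIdeal_of_surjective (Ideal.Quotient.mk J) Ideal.Quotient.mk_surjective
  -- the closed fibre `C₀`
  haveI : Nontrivial (B₀ ⧸ I₀) := Ideal.Quotient.nontrivial_iff.2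
    (ne_top_of_le_ne_top (maximalIdeal.isMaximal B₀).ne_top hI₀le)
  haveI : IsLocalRing (B₀ ⧸ I₀) :=
    IsLocalRing.of_surjective' (Ideal.Quotient.mk I₀) Ideal.Quotient.mk_surjective
  have hmC₀ : (maximalIdeal B₀).map (Ideal.Quotient.mk I₀) = maximalIdeal (B₀ ⧸ I₀) :=
    FlatResExt.map_maximalIdeal_of_surjective (Ideal.Quotient.mk I₀) Ideal.Quotient.mk_surjective
  haveI : IsAdicComplete (maximalIdeal (B₀ ⧸ I₀)) (B₀ ⧸ I₀) := by
    rw [← hmC₀]; exact isAdicComplete_quotient_of_isNoetherianRing B₀ (maximalIdeal B₀) I₀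
  -- formal smoothness of the fibre
  have hC₀ : EGA41.IsFormallySmoothAdic ((A ⧸ J) ⧸ 𝔪₀) ⊥ (B₀ ⧸ I₀) (maximalIdeal (B₀ ⧸ I₀)) := by
    rw [← hmC₀]
    exact isFormallySmoothAdic_quotient_of_isFormallySmoothAdic 𝔪₀ (maximalIdeal B₀) hfs
  letI : Field ((A ⧸ J) ⧸ 𝔪₀) := Ideal.Quotient.field 𝔪₀
  haveI : IsRegularLocalRing (B₀ ⧸ I₀) :=
    (FSGeomReg.isRegular_and_completion_of_isAdicFormallySmooth (k := (A ⧸ J) ⧸ 𝔪₀)
      ((isAdicFormallySmooth_iff_isFormallySmoothAdic_bot _).2 hC₀)).1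
  -- the map `ι`
  let ι : A →+* B₀ ⧸ I₀ :=
    (Ideal.Quotient.mk I₀).comp ((algebraMap (A ⧸ J) B₀).comp (Ideal.Quotient.mk J))
  have hιdef : ∀ a, ι a =
      Ideal.Quotient.mk I₀ (algebraMap (A ⧸ J) B₀ (Ideal.Quotient.mk J a)) := fun a => rfl
  have hι : maximalIdeal A ≤ RingHom.ker ι := by
    intro a ha
    rw [RingHom.mem_ker, hιdef, Ideal.Quotient.eq_zero_iff_mem]
    apply Ideal.mem_map_of_mem
    rw [← hmkJ]; exact Ideal.mem_map_of_mem _ ha
  obtain ⟨B, i1, i2, i3, i4, i5, hcompl, hflat, ρ, hρs, hρk, hρA⟩ :=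
    exists_flat_complete_local_of_fibre_map (B₀ ⧸ I₀) ι hι
  -- `B₁ = B / JB`
  have hJBle : J.map (algebraMap A B) ≤ maximalIdeal B :=
    (Ideal.map_mono hJ).trans (IsLocalRing.map_maximalIdeal_le (algebraMap A B))
  haveI : Nontrivial (B ⧸ J.map (algebraMap A B)) := Ideal.Quotient.nontrivial_iff.2
    (ne_top_of_le_ne_top (maximalIdeal.isMaximal B).ne_top hJBle)
  haveI : IsLocalRing (B ⧸ J.map (algebraMap A B)) :=
    IsLocalRing.of_surjective' (Ideal.Quotient.mk (J.map (algebraMap A B)))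
      Ideal.Quotient.mk_surjective
  have hmB₁ : (maximalIdeal B).map (Ideal.Quotient.mk (J.map (algebraMap A B))) =
      maximalIdeal (B ⧸ J.map (algebraMap A B)) :=
    FlatResExt.map_maximalIdeal_of_surjective _ Ideal.Quotient.mk_surjective
  haveI : IsAdicComplete (maximalIdeal (B ⧸ J.map (algebraMap A B)))
      (B ⧸ J.map (algebraMap A B)) := by
    rw [← hmB₁]
    exact isAdicComplete_quotient_of_isNoetherianRing B (maximalIdeal B) (J.map (algebraMap A B))
  haveI : Module.Flat (A ⧸ J) (B ⧸ J.map (algebraMap A B)) := FlatResExt.flat_quotient_map J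
  -- `ρ₁`
  have hJBker : ∀ x ∈ J.map (algebraMap A B), ρ x = 0 := by
    intro x hx
    have : x ∈ RingHom.ker ρ := by rw [hρk]; exact Ideal.map_mono hJ hx
    exact this
  let ρ₁ : B ⧸ J.map (algebraMap A B) →+* B₀ ⧸ I₀ :=
    Ideal.Quotient.lift (J.map (algebraMap A B)) ρ hJBker
  have hρ₁ : ∀ b, ρ₁ (Ideal.Quotient.mk (J.map (algebraMap A B)) b) = ρ b := fun b => rfl
  have hρ₁s : Function.Surjective ρ₁ := fun y => by
    obtain ⟨b, rfl⟩ := hρs y
    exact ⟨Ideal.Quotient.mk (J.map (algebraMap A B)) b, rfl⟩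
  have hsq : ∀ a, algebraMap (A ⧸ J) (B ⧸ J.map (algebraMap A B)) (Ideal.Quotient.mk J a) =
      Ideal.Quotient.mk (J.map (algebraMap A B)) (algebraMap A B a) := fun a => rfl
  have hρ₁k : RingHom.ker ρ₁ =
      Ideal.map (algebraMap (A ⧸ J) (B ⧸ J.map (algebraMap A B))) 𝔪₀ := by
    apply le_antisymm
    · intro y hy
      obtain ⟨b, rfl⟩ := Ideal.Quotient.mk_surjective y
      rw [RingHom.mem_ker, hρ₁] at hy
      have hb : b ∈ (maximalIdeal A).map (algebraMap A B) := by rw [← hρk]; exact hy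
      have h1 : Ideal.Quotient.mk (J.map (algebraMap A B)) b ∈
          ((maximalIdeal A).map (algebraMap A B)).map
            (Ideal.Quotient.mk (J.map (algebraMap A B))) := Ideal.mem_map_of_mem _ hb
      rw [Ideal.map_map] at h1
      have h2 : (Ideal.Quotient.mk (J.map (algebraMap A B))).comp (algebraMap A B) =
          (algebraMap (A ⧸ J) (B ⧸ J.map (algebraMap A B))).comp (Ideal.Quotient.mk J) :=
        RingHom.ext fun a => (hsq a).symm
      rw [h2, ← Ideal.map_map, hmkJ] at h1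
      exact h1
    · rw [Ideal.map_le_iff_le_comap]
      intro x hx
      rw [← hmkJ] at hx
      obtain ⟨a, ha, rfl⟩ := (Ideal.mem_map_iff_of_surjective _ Ideal.Quotient.mk_surjective).1 hx
      rw [Ideal.mem_comap, RingHom.mem_ker, hsq, hρ₁, hρA]
      exact hι ha
  -- apply uniqueness
  obtain ⟨v, -⟩ := exists_algEquiv_of_fibre (A := A ⧸ J) 𝔪₀ (B := B₀)
    (B' := B ⧸ J.map (algebraMap A B)) (B₀ := B₀ ⧸ I₀) hfs
    (Ideal.Quotient.mk I₀) Ideal.Quotient.mk_surjective Ideal.mk_ker ρ₁ hρ₁s hρ₁k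
    (fun x => by
      obtain ⟨a, rfl⟩ := Ideal.Quotient.mk_surjective x
      rw [hsq, hρ₁, hρA, hιdef])
  exact ⟨B, i1, i2, i3, i4, i5, hcompl, hflat,
    ⟨(Algebra.TensorProduct.quotIdealMapEquivQuotTensor B J).symm.trans v.symm⟩⟩

end exist

end Groth.Agent.Lib.Helper19.FSLiftUnique
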