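import Mathlib
import Groth.Agent.Lib.Helper19FSLiftUnique

/-!
# Kähler differentials of flat deformations over `k[X]/(X^(n+1))` (helper19)
-/

set_option autoImplicit false
set_option linter.style.haveILetI false
set_option linter.unusedSectionVars false
universe u

open Polynomial TensorProduct

namespace Groth.Agent.Lib.Helper19.DefKaehler


section Dfacts

variable {k : Type u} [Field k] (n : ℕ) {D : Type u} [CommRing D] [Algebra k D] (τ : D)
  (e : (k[X] ⧸ Ideal.span {(X : k[X]) ^ (n + 1)}) ≃ₐ[k] D)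
  (he : e (Ideal.Quotient.mk (Ideal.span {(X : k[X]) ^ (n + 1)}) X) = τ)

include he in
theorem e_mk_eq_aeval (p : k[X]) :
    e (Ideal.Quotient.mk (Ideal.span {(X : k[X]) ^ (n + 1)}) p) = aeval τ p := by
  let ψ : k[X] →ₐ[k] D :=
    e.toAlgHom.comp (Ideal.Quotient.mkₐ k (Ideal.span {(X : k[X]) ^ (n + 1)}))
  have h1 : ψ X = τ := he
  have h2 := Polynomial.aeval_algHom_apply ψ X p
  rw [h1, Polynomial.aeval_X_left_apply] at h2
  exact h2.symm

include he in
theorem exists_eq_aeval (d : D) : ∃ p : k[X], d = aeval τ p := by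
  obtain ⟨z, rfl⟩ := e.surjective d
  obtain ⟨p, rfl⟩ := Ideal.Quotient.mk_surjective z
  exact ⟨p, e_mk_eq_aeval n τ e he p⟩

include he in
theorem tau_pow_eq_zero : τ ^ (n + 1) = 0 := by
  have h := e_mk_eq_aeval n τ e he (X ^ (n + 1))
  have h2 : (aeval τ) ((X : k[X]) ^ (n + 1)) = τ ^ (n + 1) := by rw [map_pow, aeval_X]
  have h3 : Ideal.Quotient.mk (Ideal.span {(X : k[X]) ^ (n + 1)}) (X ^ (n + 1)) = 0 :=
    Ideal.Quotient.eq_zero_iff_mem.2 (Ideal.subset_span (Set.mem_singleton _))
  rw [← h2, ← h, h3, map_zero]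

include he in
theorem exists_sub_mem_span (d : D) : ∃ c : k, d - algebraMap k D c ∈ Ideal.span {τ} := by
  obtain ⟨p, rfl⟩ := exists_eq_aeval n τ e he d
  refine ⟨p.coeff 0, ?_⟩
  have h1 : aeval τ p = τ * aeval τ p.divX + algebraMap k D (p.coeff 0) := by
    conv_lhs => rw [← Polynomial.X_mul_divX_add p]
    rw [map_add, map_mul, aeval_X, aeval_C]
  rw [h1, add_sub_cancel_right]
  exact Ideal.mul_mem_right _ _ (Ideal.subset_span rfl)

end Dfacts



section Smooth

variable {k : Type u} [Field k] {D : Type u} [CommRing D] [Algebra k D] (τ : D)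
  {B : Type u} [CommRing B] [Algebra k B] [Algebra D B] [IsScalarTower k D B]

/-- a flat Noetherian algebra over a ring `D` with a nilpotent element `τ` such that
`D / τ` is `k`, whose reduction modulo `τ` is formally smooth over `k`, is formally smooth over `D` -/
theorem formallySmooth_of_flat_of_quotient (N : ℕ) (hτ : τ ^ N = 0)
    (hD : ∀ d : D, ∃ c : k, d - algebraMap k D c ∈ Ideal.span {τ})
    [IsNoetherianRing B] [Module.Flat D B]
    (t : B) (ht : t = algebraMap D B τ) [Algebra.FormallySmooth k (B ⧸ Ideal.span {t})] :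
    Algebra.FormallySmooth D B := by
  have hmem : ∀ a ∈ Ideal.span {τ},
      ((Ideal.Quotient.mk (Ideal.span {t})).comp (algebraMap D B)) a = 0 := by
    intro a ha
    rw [Ideal.mem_span_singleton'] at ha
    obtain ⟨c, rfl⟩ := ha
    rw [RingHom.comp_apply, map_mul, ← ht, Ideal.Quotient.eq_zero_iff_mem]
    exact Ideal.mul_mem_left _ _ (Ideal.subset_span rfl)
  letI : Algebra (D ⧸ Ideal.span {τ}) (B ⧸ Ideal.span {t}) :=
    (Ideal.Quotient.lift (Ideal.span {τ})
      ((Ideal.Quotient.mk (Ideal.span {t})).comp (algebraMap D B)) hmem).toAlgebra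
  have halg : ∀ d : D, algebraMap (D ⧸ Ideal.span {τ}) (B ⧸ Ideal.span {t})
      (Ideal.Quotient.mk _ d) = Ideal.Quotient.mk _ (algebraMap D B d) := fun d => rfl
  have hB : EGA41.IsFormallySmoothAdic (D ⧸ Ideal.span {τ}) ⊥ (B ⧸ Ideal.span {t}) ⊥ := by
    intro C _ _ J hJ _ u _
    letI : Algebra k C := ((algebraMap (D ⧸ Ideal.span {τ}) C).comp
      (algebraMap k (D ⧸ Ideal.span {τ}))).toAlgebra
    haveI : IsScalarTower k (D ⧸ Ideal.span {τ}) C := IsScalarTower.of_algebraMap_eq fun _ => rfl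
    haveI : IsScalarTower k (D ⧸ Ideal.span {τ}) (B ⧸ Ideal.span {t}) := by
      refine IsScalarTower.of_algebraMap_eq fun c => ?_
      change Ideal.Quotient.mk _ (algebraMap k B c) =
        algebraMap (D ⧸ Ideal.span {τ}) (B ⧸ Ideal.span {t})
          (Ideal.Quotient.mk _ (algebraMap k D c))
      rw [halg, ← IsScalarTower.algebraMap_apply]
    obtain ⟨v₀, hv₀⟩ := Algebra.FormallySmooth.exists_lift J hJ (u.restrictScalars k)
    have hcomm : ∀ x : D ⧸ Ideal.span {τ}, v₀ (algebraMap _ _ x) = algebraMap _ C x := by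
      intro x
      obtain ⟨d, rfl⟩ := Ideal.Quotient.mk_surjective x
      obtain ⟨c, hc⟩ := hD d
      have h1 : Ideal.Quotient.mk (Ideal.span {τ}) d =
          algebraMap k (D ⧸ Ideal.span {τ}) c := by
        change _ = Ideal.Quotient.mk _ (algebraMap k D c)
        rw [Ideal.Quotient.eq]
        exact hc
      rw [h1, ← IsScalarTower.algebraMap_apply, ← IsScalarTower.algebraMap_apply, v₀.commutes]
    refine ⟨{ v₀ with commutes' := hcomm }, ?_⟩
    apply AlgHom.ext
    intro b
    exact AlgHom.congr_fun hv₀ b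
  have key := FSLiftUnique.isFormallySmoothAdic_of_flat_of_surjective (Ideal.span {τ})
    (κ := D ⧸ Ideal.span {τ}) Ideal.Quotient.mk_surjective
    (by rw [Ideal.Quotient.algebraMap_eq, Ideal.mk_ker])
    (Ideal.Quotient.mk (Ideal.span {t})) Ideal.Quotient.mk_surjective
    (by rw [Ideal.mk_ker, Ideal.map_span, Set.image_singleton, ht])
    (fun a => (halg a).symm) (⊥ : Ideal B) (⊥ : Ideal (B ⧸ Ideal.span {t}))
    (by rw [Ideal.map_bot]) hB
  refine Algebra.FormallySmooth.of_comp_surjective fun C _ _ J hJ f => ?_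
  refine key C J ⟨2, hJ⟩ ⟨N, ?_⟩ f ⟨1, fun x hx => ?_⟩
  · rw [Ideal.span_singleton_pow, hτ, Ideal.span_singleton_eq_bot.2 rfl, Ideal.map_bot]
  · rw [pow_one, Ideal.mem_bot] at hx
    rw [hx, map_zero]

end Smooth



/-- ring homomorphism form of the infinitesimal lifting property -/
theorem exists_lift_ringHom {R A : Type u} [CommRing R] [CommRing A] [Algebra R A]
    [Algebra.FormallySmooth R A] {C C' : Type u} [CommRing C] [CommRing C'] (p : C →+* C')
    (hp : Function.Surjective p) (hnil : IsNilpotent (RingHom.ker p)) (φ : R →+* C)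
    (g : A →+* C') (h : g.comp (algebraMap R A) = p.comp φ) :
    ∃ f : A →+* C, f.comp (algebraMap R A) = φ ∧ p.comp f = g := by
  letI := φ.toAlgebra
  letI : Algebra R C' := (p.comp φ).toAlgebra
  let pₐ : C →ₐ[R] C' := { p with commutes' := fun r => rfl }
  let gₐ : A →ₐ[R] C' := { g with commutes' := fun r => RingHom.congr_fun h r }
  have hnil' : IsNilpotent (RingHom.ker (pₐ : C →+* C')) := hnil
  refine ⟨(Algebra.FormallySmooth.liftOfSurjective gₐ pₐ hp hnil').toRingHom, ?_, ?_⟩
  · ext r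
    exact (Algebra.FormallySmooth.liftOfSurjective gₐ pₐ hp hnil').commutes r
  · ext a
    exact Algebra.FormallySmooth.liftOfSurjective_apply gₐ pₐ hp hnil' a

section Deriv

variable {k : Type u} [Field k] (n : ℕ) {D : Type u} [CommRing D] [Algebra k D] (τ : D)
  {B : Type u} [CommRing B] [Algebra k B] [Algebra D B] [IsScalarTower k D B]

/-- the derivation `∂/∂t` with values in `B / t ^ n`, for `B` formally smooth over
`D = k[τ]/τ^(n+1)` -/
theorem exists_derivation [Algebra.FormallySmooth D B]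
    (hD : ∀ d : D, ∃ p : k[X], d = aeval τ p)
    (huniv : ∀ (E : Type u) [CommRing E] [Algebra k E] (x : E), x ^ (n + 1) = 0 →
      ∃ φ : D →ₐ[k] E, φ τ = x)
    (t : B) (ht : t = algebraMap D B τ) :
    ∃ δ : Derivation k B (B ⧸ Ideal.span {t ^ n}), δ t = 1 := by
  set B' := B ⧸ Ideal.span {t ^ n} with hB'
  have htn : (Ideal.Quotient.mk (Ideal.span {t ^ n}) t) ^ n = 0 := by
    rw [← map_pow, Ideal.Quotient.eq_zero_iff_mem]
    exact Ideal.subset_span rfl
  let x : TrivSqZeroExt B' B' :=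
    TrivSqZeroExt.inl (Ideal.Quotient.mk (Ideal.span {t ^ n}) t) + TrivSqZeroExt.inr 1
  have hx1 : x.fst = Ideal.Quotient.mk (Ideal.span {t ^ n}) t := by simp [x]
  have hx2 : x.snd = 1 := by simp [x]
  have hx : x ^ (n + 1) = 0 := by
    apply TrivSqZeroExt.ext
    · rw [TrivSqZeroExt.fst_pow, hx1, pow_succ, htn, zero_mul, TrivSqZeroExt.fst_zero]
    · rw [TrivSqZeroExt.snd_pow, hx1, hx2, Nat.pred_succ, htn, zero_smul, smul_zero,
        TrivSqZeroExt.snd_zero]
  obtain ⟨φ, hφ⟩ := huniv (TrivSqZeroExt B' B') x hx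
  let p : TrivSqZeroExt B' B' →+* B' := (TrivSqZeroExt.fstHom B' B' B').toRingHom
  have hp : Function.Surjective p := fun b => ⟨TrivSqZeroExt.inl b, rfl⟩
  have hnil : IsNilpotent (RingHom.ker p) := by
    refine ⟨2, ?_⟩
    have e2 : RingHom.ker p ^ 2 = RingHom.ker p * RingHom.ker p := pow_two _
    rw [Ideal.zero_eq_bot, eq_bot_iff, e2, Ideal.mul_le]
    intro a ha b hb
    rw [RingHom.mem_ker] at ha hb
    have ha' : a.fst = 0 := ha
    have hb' : b.fst = 0 := hb
    rw [Ideal.mem_bot]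
    apply TrivSqZeroExt.ext
    · rw [TrivSqZeroExt.fst_mul, ha', zero_mul, TrivSqZeroExt.fst_zero]
    · rw [TrivSqZeroExt.snd_mul, ha', hb', zero_smul, MulOpposite.op_zero, zero_smul, add_zero,
        TrivSqZeroExt.snd_zero]
  have hcompat : (Ideal.Quotient.mk (Ideal.span {t ^ n})).comp (algebraMap D B) =
      p.comp φ.toRingHom := by
    ext d
    obtain ⟨q, rfl⟩ := hD d
    change Ideal.Quotient.mk _ (algebraMap D B (aeval τ q)) =
      (TrivSqZeroExt.fstHom B' B' B') (φ (aeval τ q))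
    rw [← Polynomial.aeval_algebraMap_apply, ← ht, ← Polynomial.aeval_algHom_apply φ τ q, hφ]
    have h1 := Polynomial.aeval_algHom_apply (Ideal.Quotient.mkₐ k (Ideal.span {t ^ n})) t q
    have h2 := Polynomial.aeval_algHom_apply (TrivSqZeroExt.fstHom k B' B') x q
    change _ = (TrivSqZeroExt.fstHom k B' B') (aeval x q)
    rw [← h2]
    change (Ideal.Quotient.mkₐ k (Ideal.span {t ^ n})) (aeval t q) = _
    rw [← h1]
    have h3 : (Ideal.Quotient.mkₐ k (Ideal.span {t ^ n})) t = (TrivSqZeroExt.fstHom k B' B') x :=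
      hx1.symm
    rw [h3]
  obtain ⟨s, hs1, hs2⟩ := exists_lift_ringHom p hp hnil φ.toRingHom
    (Ideal.Quotient.mk (Ideal.span {t ^ n})) hcompat
  have hsfst : ∀ b : B, (s b).fst = Ideal.Quotient.mk (Ideal.span {t ^ n}) b := fun b =>
    RingHom.congr_fun hs2 b
  have hsD : ∀ d : D, s (algebraMap D B d) = φ d := fun d => RingHom.congr_fun hs1 d
  have hsk : ∀ c : k, (s (algebraMap k B c)).snd = 0 := by
    intro c
    rw [IsScalarTower.algebraMap_apply k D B, hsD, φ.commutes, TrivSqZeroExt.algebraMap_eq_inl',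
      TrivSqZeroExt.snd_inl]
  let δ₀ : B →ₗ[k] B' :=
    { toFun := fun b => (s b).snd
      map_add' := fun a b => by rw [map_add, TrivSqZeroExt.snd_add]
      map_smul' := fun c b => by
        rw [Algebra.smul_def, map_mul, TrivSqZeroExt.snd_mul, hsk, smul_zero, add_zero,
          hsfst, RingHom.id_apply, Algebra.smul_def (R := k) (A := B'), smul_eq_mul]
        rfl }
  have hδ₀ : ∀ b, δ₀ b = (s b).snd := fun b => rfl
  refine ⟨Derivation.mk' δ₀ (fun a b => ?_), ?_⟩
  · have h1 : ∀ (a : B) (m : B'), a • m = Ideal.Quotient.mk (Ideal.span {t ^ n}) a * m :=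
      fun a m => Algebra.smul_def a m
    rw [hδ₀, hδ₀, hδ₀, map_mul, TrivSqZeroExt.snd_mul, hsfst, hsfst, h1 a, h1 b, smul_eq_mul,
      MulOpposite.smul_eq_mul_unop, MulOpposite.unop_op, mul_comm (s a).snd]
  · change (s t).snd = 1
    have h2 : s t = x := by
      have h3 := hsD τ
      rw [← ht, hφ] at h3
      exact h3
    rw [h2, hx2]

end Deriv



section Dfacts2

variable {k : Type u} [Field k] (n : ℕ) {D : Type u} [CommRing D] [Algebra k D] (τ : D)
  (e : (k[X] ⧸ Ideal.span {(X : k[X]) ^ (n + 1)}) ≃ₐ[k] D)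
  (he : e (Ideal.Quotient.mk (Ideal.span {(X : k[X]) ^ (n + 1)}) X) = τ)

include he in
theorem exists_algHom_of_pow_eq_zero (E : Type u) [CommRing E] [Algebra k E] (x : E)
    (hx : x ^ (n + 1) = 0) : ∃ φ : D →ₐ[k] E, φ τ = x := by
  have h0 : ∀ a ∈ Ideal.span {(X : k[X]) ^ (n + 1)}, (aeval x) a = 0 := by
    intro a ha
    rw [Ideal.mem_span_singleton'] at ha
    obtain ⟨c, rfl⟩ := ha
    rw [map_mul, map_pow, aeval_X, hx, mul_zero]
  refine ⟨(Ideal.Quotient.liftₐ (Ideal.span {(X : k[X]) ^ (n + 1)}) (aeval x) h0).comp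
    e.symm.toAlgHom, ?_⟩
  have h1 : e.symm τ = Ideal.Quotient.mk (Ideal.span {(X : k[X]) ^ (n + 1)}) X := by
    rw [← he, AlgEquiv.symm_apply_apply]
  change (Ideal.Quotient.liftₐ (Ideal.span {(X : k[X]) ^ (n + 1)}) (aeval x) h0) (e.symm τ) = x
  rw [h1]
  change (aeval x) X = x
  rw [aeval_X]

end Dfacts2

section Kaehler

variable {k : Type u} [Field k] (n : ℕ) {D : Type u} [CommRing D] [Algebra k D] (τ : D)
  {B : Type u} [CommRing B] [Algebra k B] [Algebra D B] [IsScalarTower k D B]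

/-- differentials of elements coming from `D = k[τ]` are multiples of `dt` -/
theorem D_algebraMap_mem_span (hD : ∀ d : D, ∃ p : k[X], d = aeval τ p)
    (t : B) (ht : t = algebraMap D B τ) (d : D) :
    KaehlerDifferential.D k B (algebraMap D B d) ∈
      Submodule.span B {KaehlerDifferential.D k B t} := by
  obtain ⟨q, rfl⟩ := hD d
  rw [← Polynomial.aeval_algebraMap_apply, ← ht, Derivation.map_aeval]
  exact Submodule.smul_mem _ _ (Submodule.subset_span rfl)

/-- the kernel of `Ω[B⁄k] → Ω[B⁄D]` is generated by `dt` -/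
theorem exists_eq_smul_of_map_eq_zero (hD : ∀ d : D, ∃ p : k[X], d = aeval τ p)
    (t : B) (ht : t = algebraMap D B τ) (η : Ω[B⁄k])
    (hη : KaehlerDifferential.map k D B B η = 0) :
    ∃ b : B, η = b • KaehlerDifferential.D k B t := by
  obtain ⟨z, rfl⟩ := (KaehlerDifferential.exact_mapBaseChange_map k D B η).1 hη
  clear hη
  suffices h : KaehlerDifferential.mapBaseChange k D B z ∈
      Submodule.span B {KaehlerDifferential.D k B t} by
    obtain ⟨b, hb⟩ := Submodule.mem_span_singleton.1 h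
    exact ⟨b, hb.symm⟩
  induction z with
  | zero => rw [map_zero]; exact Submodule.zero_mem _
  | add x y hx hy => rw [map_add]; exact Submodule.add_mem _ hx hy
  | tmul b ω =>
    rw [KaehlerDifferential.mapBaseChange_tmul]
    apply Submodule.smul_mem
    have hω : ω ∈ Submodule.span D (Set.range (KaehlerDifferential.D k D)) := by
      rw [KaehlerDifferential.span_range_derivation]; trivial
    induction hω using Submodule.span_induction with
    | mem x hx =>
      obtain ⟨d, rfl⟩ := hx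
      rw [KaehlerDifferential.map_D]
      exact D_algebraMap_mem_span τ hD t ht d
    | zero => rw [map_zero]; exact Submodule.zero_mem _
    | add x y _ _ hx hy => rw [map_add]; exact Submodule.add_mem _ hx hy
    | smul a x _ hx =>
      rw [LinearMap.map_smul_of_tower]
      rw [← algebraMap_smul B a]
      exact Submodule.smul_mem _ _ hx

/-- `t ^ n • dt = 0` in characteristic zero -/
theorem pow_smul_D_eq_zero [CharZero k] (hτ : τ ^ (n + 1) = 0)
    (t : B) (ht : t = algebraMap D B τ) :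
    t ^ n • KaehlerDifferential.D k B t = 0 := by
  have h1 : KaehlerDifferential.D k B (t ^ (n + 1)) = 0 := by
    rw [ht, ← map_pow, hτ, map_zero, map_zero]
  rw [Derivation.leibniz_pow, Nat.add_sub_cancel] at h1
  have h2 : ((n + 1 : ℕ) : k) ≠ 0 := Nat.cast_ne_zero.2 (Nat.succ_ne_zero n)
  rw [← Nat.cast_smul_eq_nsmul k] at h1
  have h3 := congrArg (fun y => (((n + 1 : ℕ) : k))⁻¹ • y) h1
  simp only [smul_zero] at h3
  rw [smul_smul, inv_mul_cancel₀ h2, one_smul] at h3
  exact h3

end Kaehler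

end Groth.Agent.Lib.Helper19.DefKaehler
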