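import Mathlib
import Groth.Agent.Lib.Helper19DefKaehlerA

/-!
# Kähler differentials of flat deformations over `k[X]/(X^(n+1))`, II: the `dt` sequence (helper19)
-/

set_option autoImplicit false
set_option linter.style.haveILetI false
set_option linter.unusedSectionVars false
universe u

open Polynomial TensorProduct

namespace Groth.Agent.Lib.Helper19.DefKaehler

section Main

variable {k : Type u} [Field k] (n : ℕ) {D : Type u} [CommRing D] [Algebra k D] (τ : D)
  {B : Type u} [CommRing B] [Algebra k B] [Algebra D B] [IsScalarTower k D B]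
  [Algebra.FormallySmooth D B]
  (hD : ∀ d : D, ∃ p : k[X], d = aeval τ p)
  (t : B) (ht : t = algebraMap D B τ)
  (δ : Derivation k B (B ⧸ Ideal.span {t ^ n})) (hδ : δ t = 1)

include hδ in
/-- the retraction of `b ↦ b • (1 ⊗ dt)` -/
theorem exists_retraction :
    ∃ ρ : (B ⧸ Ideal.span {t ^ n}) ⊗[B] Ω[B⁄k] →ₗ[B ⧸ Ideal.span {t ^ n}] (B ⧸ Ideal.span {t ^ n}),
      ∀ b, ρ (b • ((1 : B ⧸ Ideal.span {t ^ n}) ⊗ₜ[B] KaehlerDifferential.D k B t)) = b := by
  refine ⟨LinearMap.liftBaseChange _ δ.liftKaehlerDifferential, fun b => ?_⟩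
  rw [map_smul, LinearMap.liftBaseChange_tmul, Derivation.liftKaehlerDifferential_comp_D, hδ,
    one_smul, smul_eq_mul, mul_one]

include hδ in
theorem injective_toSpanSingleton :
    Function.Injective
      (LinearMap.toSpanSingleton (B ⧸ Ideal.span {t ^ n}) ((B ⧸ Ideal.span {t ^ n}) ⊗[B] Ω[B⁄k])
        ((1 : (B ⧸ Ideal.span {t ^ n})) ⊗ₜ[B] KaehlerDifferential.D k B t)) := by
  obtain ⟨ρ, hρ⟩ := exists_retraction n t δ hδ
  intro a b hab
  have := congrArg ρ hab
  rw [LinearMap.toSpanSingleton_apply, LinearMap.toSpanSingleton_apply, hρ, hρ] at this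
  exact this

theorem surjective_baseChange_map :
    Function.Surjective (LinearMap.baseChange (B ⧸ Ideal.span {t ^ n})
      (KaehlerDifferential.map k D B B)) := by
  have h := LinearMap.lTensor_surjective (B ⧸ Ideal.span {t ^ n})
    (KaehlerDifferential.map_surjective k D B)
  intro y
  obtain ⟨x, hx⟩ := h y
  exact ⟨x, hx⟩

include hD ht in
theorem exact_toSpanSingleton_baseChange :
    Function.Exact
      (LinearMap.toSpanSingleton (B ⧸ Ideal.span {t ^ n}) ((B ⧸ Ideal.span {t ^ n}) ⊗[B] Ω[B⁄k])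
        ((1 : (B ⧸ Ideal.span {t ^ n})) ⊗ₜ[B] KaehlerDifferential.D k B t))
      (LinearMap.baseChange (B ⧸ Ideal.span {t ^ n}) (KaehlerDifferential.map k D B B)) := by
  have hex : Function.Exact (LinearMap.toSpanSingleton B Ω[B⁄k] (KaehlerDifferential.D k B t))
      (KaehlerDifferential.map k D B B) := by
    intro η
    constructor
    · intro h
      obtain ⟨b, hb⟩ := exists_eq_smul_of_map_eq_zero τ hD t ht η h
      exact ⟨b, by rw [LinearMap.toSpanSingleton_apply, hb]⟩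
    · rintro ⟨b, rfl⟩
      rw [LinearMap.toSpanSingleton_apply, map_smul, KaehlerDifferential.map_D, ht]
      have : (algebraMap B B) (algebraMap D B τ) = algebraMap D B τ := rfl
      rw [this, Derivation.map_algebraMap, smul_zero]
  have hex' := lTensor_exact (B ⧸ Ideal.span {t ^ n}) hex
    (KaehlerDifferential.map_surjective k D B)
  have hrange : ∀ z : (B ⧸ Ideal.span {t ^ n}) ⊗[B] B, ∃ b : B ⧸ Ideal.span {t ^ n},
      LinearMap.lTensor (B ⧸ Ideal.span {t ^ n})
        (LinearMap.toSpanSingleton B Ω[B⁄k] (KaehlerDifferential.D k B t)) z =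
      b • ((1 : (B ⧸ Ideal.span {t ^ n})) ⊗ₜ[B] KaehlerDifferential.D k B t) := by
    intro z
    induction z with
    | zero => exact ⟨0, by simp⟩
    | add x y hx hy =>
      obtain ⟨b₁, h₁⟩ := hx
      obtain ⟨b₂, h₂⟩ := hy
      exact ⟨b₁ + b₂, by rw [map_add, h₁, h₂, add_smul]⟩
    | tmul c b =>
      refine ⟨b • c, ?_⟩
      rw [LinearMap.lTensor_tmul, LinearMap.toSpanSingleton_apply, TensorProduct.tmul_smul,
        TensorProduct.smul_tmul', TensorProduct.smul_tmul', smul_eq_mul, mul_one]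
  have hj0 : KaehlerDifferential.map k D B B (KaehlerDifferential.D k B t) = 0 := by
    rw [KaehlerDifferential.map_D, ht]
    have : (algebraMap B B) (algebraMap D B τ) = algebraMap D B τ := rfl
    rw [this, Derivation.map_algebraMap]
  intro y
  constructor
  · intro hy
    have hy' : LinearMap.lTensor (B ⧸ Ideal.span {t ^ n}) (KaehlerDifferential.map k D B B) y = 0 :=
      hy
    obtain ⟨z, rfl⟩ := (hex' y).1 hy'
    obtain ⟨b, hb⟩ := hrange z
    exact ⟨b, by rw [LinearMap.toSpanSingleton_apply, hb]⟩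
  · rintro ⟨b, rfl⟩
    rw [LinearMap.toSpanSingleton_apply, map_smul, LinearMap.baseChange_tmul, hj0,
      TensorProduct.tmul_zero, smul_zero]

include hD ht hδ in
theorem projective_baseChange_kaehler :
    Module.Projective (B ⧸ Ideal.span {t ^ n}) ((B ⧸ Ideal.span {t ^ n}) ⊗[B] Ω[B⁄k]) := by
  obtain ⟨ρ, hρ⟩ := exists_retraction n t δ hδ
  have hex := exact_toSpanSingleton_baseChange n τ hD t ht
  have hq := surjective_baseChange_map (k := k) (D := D) n t
  set j := LinearMap.toSpanSingleton (B ⧸ Ideal.span {t ^ n})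
    ((B ⧸ Ideal.span {t ^ n}) ⊗[B] Ω[B⁄k])
    ((1 : (B ⧸ Ideal.span {t ^ n})) ⊗ₜ[B] KaehlerDifferential.D k B t) with hj
  set q := LinearMap.baseChange (B ⧸ Ideal.span {t ^ n}) (KaehlerDifferential.map k D B B) with hq'
  haveI : Module.Projective (B ⧸ Ideal.span {t ^ n}) ((B ⧸ Ideal.span {t ^ n}) ⊗[B] Ω[B⁄D]) :=
    inferInstance
  obtain ⟨s, hs⟩ := Module.projective_lifting_property q LinearMap.id hq
  have hqs : ∀ p, q (s p) = p := fun p => LinearMap.congr_fun hs p
  have hρj : ∀ b, ρ (j b) = b := fun b => by rw [hj, LinearMap.toSpanSingleton_apply, hρ]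
  have hqj : ∀ b, q (j b) = 0 := fun b => (hex (j b)).2 ⟨b, rfl⟩
  let Ψ : (B ⧸ Ideal.span {t ^ n}) ⊗[B] Ω[B⁄k] →ₗ[B ⧸ Ideal.span {t ^ n}]
      (B ⧸ Ideal.span {t ^ n}) × ((B ⧸ Ideal.span {t ^ n}) ⊗[B] Ω[B⁄D]) :=
    (ρ.comp (LinearMap.id - s.comp q)).prod q
  let Φ : (B ⧸ Ideal.span {t ^ n}) × ((B ⧸ Ideal.span {t ^ n}) ⊗[B] Ω[B⁄D]) →ₗ[B ⧸ Ideal.span {t ^ n}]
      (B ⧸ Ideal.span {t ^ n}) ⊗[B] Ω[B⁄k] := j.coprod s
  refine Module.Projective.of_split Ψ Φ ?_
  apply LinearMap.ext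
  intro y
  change j (ρ (y - s (q y))) + s (q y) = y
  have h1 : q (y - s (q y)) = 0 := by rw [map_sub, hqs, sub_self]
  obtain ⟨b, hb⟩ := (hex _).1 h1
  rw [← hb, hρj, hb, sub_add_cancel]

end Main

end Groth.Agent.Lib.Helper19.DefKaehler
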