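import Mathlib
import Groth.Agent.Lib.Helper19DefKaehlerB

/-!
# Kähler differentials of flat deformations over `k[X]/(X^(n+1))`, III: the map `μ` (helper19)
-/

set_option autoImplicit false
set_option linter.style.haveILetI false
set_option linter.unusedSectionVars false
universe u

open Polynomial TensorProduct

namespace Groth.Agent.Lib.Helper19.DefKaehler

section Mu

variable {k : Type u} [Field k] [CharZero k] (n : ℕ) (hn : 1 ≤ n)
  {B : Type u} [CommRing B] [Algebra k B] (t : B)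

/-- the range of `f ↦ (f mod I, 1 ⊗ df)` for a quotient `B ⧸ I` -/
theorem range_mu (I : Ideal B) :
    Set.range (fun f : B =>
      ((Ideal.Quotient.mk I f, (1 : B ⧸ I) ⊗ₜ[B] KaehlerDifferential.D k B f) :
        (B ⧸ I) × ((B ⧸ I) ⊗[B] Ω[B⁄k]))) =
      {p | KaehlerDifferential.D k (B ⧸ I) p.1 = KaehlerDifferential.mapBaseChange k B (B ⧸ I) p.2} := by
  ext ⟨g, α⟩
  simp only [Set.mem_range, Set.mem_ofPred_eq, Prod.mk.injEq]
  constructor
  · rintro ⟨f, rfl, rfl⟩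
    rw [KaehlerDifferential.mapBaseChange_tmul, one_smul, KaehlerDifferential.map_D]
    rfl
  · intro h
    obtain ⟨f₀, rfl⟩ := Ideal.Quotient.mk_surjective g
    have hβ : KaehlerDifferential.mapBaseChange k B (B ⧸ I)
        (α - (1 : B ⧸ I) ⊗ₜ[B] KaehlerDifferential.D k B f₀) = 0 := by
      rw [map_sub, ← h, KaehlerDifferential.mapBaseChange_tmul, one_smul, KaehlerDifferential.map_D]
      exact sub_self _
    obtain ⟨z, hz⟩ := (KaehlerDifferential.exact_kerCotangentToTensor_mapBaseChange k B (B ⧸ I)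
      Ideal.Quotient.mk_surjective _).1 hβ
    obtain ⟨x, rfl⟩ := Ideal.toCotangent_surjective _ z
    rw [KaehlerDifferential.kerCotangentToTensor_toCotangent] at hz
    have hx : Ideal.Quotient.mk I x.1 = 0 := RingHom.mem_ker.1 x.2
    refine ⟨f₀ + x.1, ?_, ?_⟩
    · rw [map_add, hx, add_zero]
    · rw [map_add, TensorProduct.tmul_add, hz, add_sub_cancel]

include hn in
/-- injectivity of `f ↦ (f mod t ^ n, 1 ⊗ df)` when `b ↦ b • (1 ⊗ dt)` is injective and
`t ^ (n+1) = 0` -/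
theorem injective_mu (htn : t ^ (n + 1) = 0)
    (hinj : Function.Injective
      (LinearMap.toSpanSingleton (B ⧸ Ideal.span {t ^ n}) ((B ⧸ Ideal.span {t ^ n}) ⊗[B] Ω[B⁄k])
        ((1 : (B ⧸ Ideal.span {t ^ n})) ⊗ₜ[B] KaehlerDifferential.D k B t))) :
    Function.Injective (fun f : B =>
      ((Ideal.Quotient.mk (Ideal.span {t ^ n}) f,
        (1 : (B ⧸ Ideal.span {t ^ n})) ⊗ₜ[B] KaehlerDifferential.D k B f) :
          (B ⧸ Ideal.span {t ^ n}) × ((B ⧸ Ideal.span {t ^ n}) ⊗[B] Ω[B⁄k]))) := by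
  intro f f' hff
  simp only [Prod.mk.injEq] at hff
  obtain ⟨h1, h2⟩ := hff
  rw [← sub_eq_zero]
  have h1' : f - f' ∈ Ideal.span {t ^ n} := by
    rw [← Ideal.Quotient.eq_zero_iff_mem, map_sub, h1, sub_self]
  have h2' : (1 : (B ⧸ Ideal.span {t ^ n})) ⊗ₜ[B] KaehlerDifferential.D k B (f - f') = 0 := by
    rw [map_sub, TensorProduct.tmul_sub, h2, sub_self]
  obtain ⟨c, hc⟩ := Ideal.mem_span_singleton'.1 h1'
  obtain ⟨m, rfl⟩ : ∃ m, n = m + 1 := ⟨n - 1, by omega⟩
  rw [← hc] at h2' ⊢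
  set r : B := (m + 1) • (c * t ^ m) with hr
  have hD : KaehlerDifferential.D k B (c * t ^ (m + 1)) =
      r • KaehlerDifferential.D k B t + t ^ (m + 1) • KaehlerDifferential.D k B c := by
    rw [Derivation.leibniz, Derivation.leibniz_pow, Nat.add_sub_cancel, hr]
    congr 1
    rw [smul_assoc (m + 1) (c * t ^ m), smul_comm c (m + 1), smul_smul c]
  have h3 : (1 : (B ⧸ Ideal.span {t ^ (m + 1)})) ⊗ₜ[B] (t ^ (m + 1) • KaehlerDifferential.D k B c) =
      0 := by
    have hz : Ideal.Quotient.mk (Ideal.span {t ^ (m + 1)}) (t ^ (m + 1)) = 0 :=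
      Ideal.Quotient.eq_zero_iff_mem.2 (Ideal.subset_span (Set.mem_singleton _))
    rw [← TensorProduct.smul_tmul, Algebra.smul_def, mul_one, Ideal.Quotient.algebraMap_eq,
      hz, TensorProduct.zero_tmul]
  have h4 : (1 : (B ⧸ Ideal.span {t ^ (m + 1)})) ⊗ₜ[B] (r • KaehlerDifferential.D k B t) =
      LinearMap.toSpanSingleton (B ⧸ Ideal.span {t ^ (m + 1)})
        ((B ⧸ Ideal.span {t ^ (m + 1)}) ⊗[B] Ω[B⁄k])
        ((1 : (B ⧸ Ideal.span {t ^ (m + 1)})) ⊗ₜ[B] KaehlerDifferential.D k B t)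
        (Ideal.Quotient.mk _ r) := by
    rw [LinearMap.toSpanSingleton_apply, ← TensorProduct.smul_tmul, TensorProduct.smul_tmul',
      Algebra.smul_def, mul_one, smul_eq_mul, mul_one]
    rfl
  rw [hD, TensorProduct.tmul_add, h3, add_zero, h4] at h2'
  have h5 : Ideal.Quotient.mk (Ideal.span {t ^ (m + 1)}) r = 0 := by
    apply hinj
    rw [h2', map_zero]
  rw [Ideal.Quotient.eq_zero_iff_mem] at h5
  have h6 : c * t ^ m ∈ Ideal.span {t ^ (m + 1)} := by
    have h7 : ((m + 1 : ℕ) : k) ≠ 0 := Nat.cast_ne_zero.2 (Nat.succ_ne_zero m)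
    have h8 : c * t ^ m = algebraMap k B (((m + 1 : ℕ) : k)⁻¹) * r := by
      rw [hr, ← Nat.cast_smul_eq_nsmul k, ← Algebra.smul_def, Nat.cast_add, Nat.cast_one,
        smul_smul]
      rw [Nat.cast_add, Nat.cast_one] at h7
      rw [inv_mul_cancel₀ h7, one_smul]
    rw [h8]
    exact Ideal.mul_mem_left _ _ h5
  obtain ⟨c', hc'⟩ := Ideal.mem_span_singleton'.1 h6
  rw [pow_succ, ← mul_assoc, ← hc', mul_assoc, ← pow_succ, htn, mul_zero]

end Mu

end Groth.Agent.Lib.Helper19.DefKaehler
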