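import Mathlib
import Groth.Agent.Lib.Helper19DefKaehlerB

/-!
# Kähler differentials of flat deformations over `k[X]/(X^(n+1))`, IV: the map `ν` (helper19)
-/

set_option autoImplicit false
set_option linter.style.haveILetI false
set_option linter.unusedSectionVars false
universe u

open Polynomial TensorProduct

namespace Groth.Agent.Lib.Helper19.DefKaehler

section Nu

variable {k : Type u} [Field k] (n : ℕ) {D : Type u} [CommRing D] [Algebra k D] (τ : D)
  {B : Type u} [CommRing B] [Algebra k B] [Algebra D B] [IsScalarTower k D B]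
  (t : B) (ht : t = algebraMap D B τ)

include ht in
/-- `B' ⊗ Ω[B⁄D] → Ω[B'⁄D]` is injective for `B' = B / t ^ n` with `t` coming from `D` -/
theorem injective_mapBaseChange_quotient :
    Function.Injective (KaehlerDifferential.mapBaseChange D B (B ⧸ Ideal.span {t ^ n})) := by
  rw [injective_iff_map_eq_zero]
  intro y hy
  obtain ⟨z, rfl⟩ := (KaehlerDifferential.exact_kerCotangentToTensor_mapBaseChange D B
    (B ⧸ Ideal.span {t ^ n}) Ideal.Quotient.mk_surjective y).1 hy
  obtain ⟨x, rfl⟩ := Ideal.toCotangent_surjective _ z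
  rw [KaehlerDifferential.kerCotangentToTensor_toCotangent]
  have hx : x.1 ∈ Ideal.span {t ^ n} := by
    have h1 : Ideal.Quotient.mk (Ideal.span {t ^ n}) x.1 = 0 := RingHom.mem_ker.1 x.2
    exact Ideal.Quotient.eq_zero_iff_mem.1 h1
  obtain ⟨c, hc⟩ := Ideal.mem_span_singleton'.1 hx
  have htn : KaehlerDifferential.D D B (t ^ n) = 0 := by
    rw [ht, ← map_pow, Derivation.map_algebraMap]
  have hz : Ideal.Quotient.mk (Ideal.span {t ^ n}) (t ^ n) = 0 :=
    Ideal.Quotient.eq_zero_iff_mem.2 (Ideal.subset_span (Set.mem_singleton _))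
  rw [← hc, Derivation.leibniz, htn, smul_zero, zero_add, ← TensorProduct.smul_tmul,
    Algebra.smul_def, mul_one, Ideal.Quotient.algebraMap_eq, hz, TensorProduct.zero_tmul]

/-- naturality: the two maps `Ω[B⁄k] → Ω[B'⁄D]` agree -/
theorem map_map_eq (I : Ideal B) (η : Ω[B⁄k]) :
    KaehlerDifferential.map D D B (B ⧸ I) (KaehlerDifferential.map k D B B η) =
      KaehlerDifferential.map k D (B ⧸ I) (B ⧸ I) (KaehlerDifferential.map k k B (B ⧸ I) η) := by
  have hη : η ∈ Submodule.span B (Set.range (KaehlerDifferential.D k B)) := by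
    rw [KaehlerDifferential.span_range_derivation]; trivial
  induction hη using Submodule.span_induction with
  | mem x hx =>
    obtain ⟨f, rfl⟩ := hx
    simp only [KaehlerDifferential.map_D]
    rfl
  | zero => simp only [map_zero]
  | add x y _ _ hx hy => simp only [map_add, hx, hy]
  | smul a x _ hx =>
    rw [map_smul, map_smul, hx, map_smul, ← algebraMap_smul (B ⧸ I) a, ← algebraMap_smul (B ⧸ I) a,
      map_smul]

section NuMain

variable [CharZero k] [Algebra.FormallySmooth D B]
  (hD : ∀ d : D, ∃ p : k[X], d = aeval τ p) (hτ : τ ^ (n + 1) = 0)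
  (hinj : Function.Injective
      (LinearMap.toSpanSingleton (B ⧸ Ideal.span {t ^ n}) ((B ⧸ Ideal.span {t ^ n}) ⊗[B] Ω[B⁄k])
        ((1 : (B ⧸ Ideal.span {t ^ n})) ⊗ₜ[B] KaehlerDifferential.D k B t)))

include ht hD hτ hinj in
theorem injective_nu :
    Function.Injective (fun η : Ω[B⁄k] =>
      ((KaehlerDifferential.map k D B B η, (1 : (B ⧸ Ideal.span {t ^ n})) ⊗ₜ[B] η) :
        Ω[B⁄D] × ((B ⧸ Ideal.span {t ^ n}) ⊗[B] Ω[B⁄k]))) := by
  intro η η' h
  simp only [Prod.mk.injEq] at h
  obtain ⟨h1, h2⟩ := h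
  rw [← sub_eq_zero]
  have h1' : KaehlerDifferential.map k D B B (η - η') = 0 := by rw [map_sub, h1, sub_self]
  have h2' : (1 : (B ⧸ Ideal.span {t ^ n})) ⊗ₜ[B] (η - η') = 0 := by
    rw [TensorProduct.tmul_sub, h2, sub_self]
  obtain ⟨b, hb⟩ := exists_eq_smul_of_map_eq_zero τ hD t ht _ h1'
  rw [hb] at h2' ⊢
  have h3 : (1 : (B ⧸ Ideal.span {t ^ n})) ⊗ₜ[B] (b • KaehlerDifferential.D k B t) =
      LinearMap.toSpanSingleton (B ⧸ Ideal.span {t ^ n})
        ((B ⧸ Ideal.span {t ^ n}) ⊗[B] Ω[B⁄k])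
        ((1 : (B ⧸ Ideal.span {t ^ n})) ⊗ₜ[B] KaehlerDifferential.D k B t)
        (Ideal.Quotient.mk _ b) := by
    rw [LinearMap.toSpanSingleton_apply, ← TensorProduct.smul_tmul, TensorProduct.smul_tmul',
      Algebra.smul_def, mul_one, smul_eq_mul, mul_one]
    rfl
  rw [h3] at h2'
  have h4 : Ideal.Quotient.mk (Ideal.span {t ^ n}) b = 0 := by
    apply hinj
    rw [h2', map_zero]
  obtain ⟨c, hc⟩ := Ideal.mem_span_singleton'.1 (Ideal.Quotient.eq_zero_iff_mem.1 h4)
  rw [← hc, mul_smul, pow_smul_D_eq_zero n τ hτ t ht, smul_zero]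

include ht hD in
theorem range_nu :
    Set.range (fun η : Ω[B⁄k] =>
      ((KaehlerDifferential.map k D B B η, (1 : (B ⧸ Ideal.span {t ^ n})) ⊗ₜ[B] η) :
        Ω[B⁄D] × ((B ⧸ Ideal.span {t ^ n}) ⊗[B] Ω[B⁄k]))) =
      {p | KaehlerDifferential.map D D B (B ⧸ Ideal.span {t ^ n}) p.1 =
        KaehlerDifferential.map k D (B ⧸ Ideal.span {t ^ n}) (B ⧸ Ideal.span {t ^ n})
          (KaehlerDifferential.mapBaseChange k B (B ⧸ Ideal.span {t ^ n}) p.2)} := by
  ext ⟨α, β⟩
  simp only [Set.mem_range, Set.mem_ofPred_eq, Prod.mk.injEq]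
  constructor
  · rintro ⟨η, rfl, rfl⟩
    rw [KaehlerDifferential.mapBaseChange_tmul, one_smul]
    exact map_map_eq _ η
  · intro h
    have hA : ∀ β : (B ⧸ Ideal.span {t ^ n}) ⊗[B] Ω[B⁄k],
        KaehlerDifferential.mapBaseChange D B (B ⧸ Ideal.span {t ^ n})
          (LinearMap.baseChange (B ⧸ Ideal.span {t ^ n}) (KaehlerDifferential.map k D B B) β) =
        KaehlerDifferential.map k D (B ⧸ Ideal.span {t ^ n}) (B ⧸ Ideal.span {t ^ n})
          (KaehlerDifferential.mapBaseChange k B (B ⧸ Ideal.span {t ^ n}) β) := by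
      intro β
      induction β with
      | zero => simp only [map_zero]
      | add x y hx hy => simp only [map_add, hx, hy]
      | tmul b' η =>
        rw [LinearMap.baseChange_tmul, KaehlerDifferential.mapBaseChange_tmul,
          KaehlerDifferential.mapBaseChange_tmul, map_smul, map_map_eq]
    have hB : LinearMap.baseChange (B ⧸ Ideal.span {t ^ n}) (KaehlerDifferential.map k D B B) β =
        (1 : B ⧸ Ideal.span {t ^ n}) ⊗ₜ[B] α := by
      apply injective_mapBaseChange_quotient n τ t ht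
      rw [hA, ← h, KaehlerDifferential.mapBaseChange_tmul, one_smul]
    obtain ⟨η₀, rfl⟩ := KaehlerDifferential.map_surjective k D B α
    have hC : LinearMap.baseChange (B ⧸ Ideal.span {t ^ n}) (KaehlerDifferential.map k D B B)
        (β - (1 : B ⧸ Ideal.span {t ^ n}) ⊗ₜ[B] η₀) = 0 := by
      rw [map_sub, hB, LinearMap.baseChange_tmul, sub_self]
    obtain ⟨b', hb'⟩ := (exact_toSpanSingleton_baseChange n τ hD t ht _).1 hC
    obtain ⟨b, rfl⟩ := Ideal.Quotient.mk_surjective b'
    rw [LinearMap.toSpanSingleton_apply] at hb'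
    refine ⟨η₀ + b • KaehlerDifferential.D k B t, ?_, ?_⟩
    · have hj0 : KaehlerDifferential.map k D B B (KaehlerDifferential.D k B t) = 0 := by
        rw [KaehlerDifferential.map_D, ht]
        have : (algebraMap B B) (algebraMap D B τ) = algebraMap D B τ := rfl
        rw [this, Derivation.map_algebraMap]
      rw [map_add, map_smul, hj0, smul_zero, add_zero]
    · rw [TensorProduct.tmul_add, ← TensorProduct.smul_tmul, Algebra.smul_def, mul_one,
        Ideal.Quotient.algebraMap_eq]
      have h5 : (Ideal.Quotient.mk (Ideal.span {t ^ n}) b) ⊗ₜ[B] KaehlerDifferential.D k B t =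
          Ideal.Quotient.mk (Ideal.span {t ^ n}) b •
            ((1 : B ⧸ Ideal.span {t ^ n}) ⊗ₜ[B] KaehlerDifferential.D k B t) := by
        rw [TensorProduct.smul_tmul', smul_eq_mul, mul_one]
      rw [h5, hb', add_sub_cancel]

end NuMain

end Nu

end Groth.Agent.Lib.Helper19.DefKaehler
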