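import Groth.Agent.Lib.Helper19DefGlueG
import Groth.Agent.Lib.Helper19DefGlueH
import Groth.Agent.Lib.Helper19DefDualB

/-!
# First-order deformations of an affine scheme over `Λ` and extensions (helper19)
-/

set_option autoImplicit false
set_option linter.unusedSectionVars false
set_option linter.style.haveILetI false
universe u

open CategoryTheory CategoryTheory.Limits AlgebraicGeometry ArtFun ArtFun.Art

namespace Groth.Agent.Lib.Helper19.DefTan

open Groth.Agent.Lib.Helper19 Groth.Agent.Lib.Helper19.DefAff Groth.Agent.Lib.Helper19.DefGlue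
  Groth.Agent.Lib.Helper19.DefDual

variable {Λ k : Type u} [CommRing Λ] [Field k] [Algebra Λ k]
variable {B₀ : Type u} [CommRing B₀] [Algebra k B₀]

/-- forget the coefficient ring `Λ` for a first-order deformation -/
def toK (ξ : DefSch (Λ := Λ) (Spec (CommRingCat.of B₀))
    (Spec.map (CommRingCat.ofHom (algebraMap k B₀))) (dual Λ k)) :
    DefSch (Λ := k) (Spec (CommRingCat.of B₀)) (Spec.map (CommRingCat.ofHom (algebraMap k B₀)))
      (Art.dual k k) :=
  ⟨ξ.total, ξ.f, ξ.flat, ξ.i, ξ.isPullback⟩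

/-- isomorphisms do not see `Λ` -/
def isoOfToK {ξ ξ' : DefSch (Λ := Λ) (Spec (CommRingCat.of B₀))
    (Spec.map (CommRingCat.ofHom (algebraMap k B₀))) (dual Λ k)} (e : (toK ξ).Iso (toK ξ')) :
    ξ.Iso ξ' :=
  ⟨e.iso, e.hom_f, e.i_hom⟩

section OfExt

variable (X : Exal.Ext k B₀ B₀)

/-- the middle ring of an extension of `B₀` by `B₀` as an algebra over the dual numbers -/
noncomputable instance algDualL : Algebra (dual Λ k) (ERing X) :=
  ((liftHom X).toRingHom : (dual Λ k : Type u) →+* ERing X).toAlgebra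

lemma algebraMap_dualL (a : (dual Λ k : Type u)) :
    algebraMap (dual Λ k) (ERing X) a = liftHom X a := rfl

variable (Λ) in
theorem isDefo_ERing : IsDefo (dual Λ k).res.toRingHom (projE X).toRingHom where
  flat := (flat_ERing X : Module.Flat (Art.dual k k) (ERing X))
  hc := fun a => projE_algebraMap X a
  hs := X.isExtension.proj_surjective
  hk := by
    rw [ker_res_toRingHom]
    exact ker_projE X

variable (Λ) in
/-- the class of the first-order deformation attached to an extension -/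
noncomputable def Psi : (G Λ k B₀).obj (dual Λ k) := (ofDefo (isDefo_ERing Λ X)).cl

end OfExt

/-- equivalent extensions give isomorphic deformations -/
theorem iso_of_equiv {X Y : Exal.Ext k B₀ B₀} (θ : X.Equiv Y) :
    Nonempty ((ofDefo (isDefo_ERing Λ X)).Iso (ofDefo (isDefo_ERing Λ Y))) := by
  obtain ⟨θX⟩ := extOfDef_defOfExt X
  obtain ⟨θY⟩ := extOfDef_defOfExt Y
  obtain ⟨e⟩ := iso_of_extOfDef_equiv ((θX.trans θ).trans θY.symm)
  exact ⟨(isoOfToK (ξ := ofDefo (isDefo_ERing Λ Y)) (ξ' := ofDefo (isDefo_ERing Λ X)) e).symm⟩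

variable (Λ) in
theorem Psi_eq_of_equiv {X Y : Exal.Ext k B₀ B₀} (θ : X.Equiv Y) : Psi Λ X = Psi Λ Y := by
  obtain ⟨e⟩ := iso_of_equiv (Λ := Λ) θ
  exact Quotient.sound ⟨e⟩

/-- every first-order deformation comes from an extension -/
theorem exists_ext_iso (ξ : DefSch (Λ := Λ) (Spec (CommRingCat.of B₀))
    (Spec.map (CommRingCat.ofHom (algebraMap k B₀))) (dual Λ k)) :
    ∃ X : Exal.Ext k B₀ B₀, Nonempty (ξ.Iso (ofDefo (isDefo_ERing Λ X))) := by
  refine ⟨extOfDef (toK ξ), ?_⟩
  obtain ⟨θ⟩ := extOfDef_defOfExt (extOfDef (toK ξ))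
  obtain ⟨e⟩ := iso_of_extOfDef_equiv θ
  exact ⟨isoOfToK (ξ := ξ) (ξ' := ofDefo (isDefo_ERing Λ (extOfDef (toK ξ)))) e⟩

variable (Λ) in
theorem Psi_surjective (q : (G Λ k B₀).obj (dual Λ k)) : ∃ X : Exal.Ext k B₀ B₀, Psi Λ X = q := by
  induction q using Quotient.inductionOn with
  | h ξ =>
    obtain ⟨X, ⟨e⟩⟩ := exists_ext_iso ξ
    exact ⟨X, Quotient.sound ⟨e.symm⟩⟩

end Groth.Agent.Lib.Helper19.DefTan
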