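import Mathlib
import Groth.Prelude.Def_Exal

/-!
# The extension of `B` by `M` attached to a linear map on the kernel of a cover `R → B`
-/

set_option autoImplicit false
set_option linter.unusedSectionVars false
set_option linter.style.haveILetI false
universe u v

open Exal

namespace Groth.Agent.Lib.Helper19.ExalT1

attribute [local instance] Exal.opModule Exal.isCentralScalar_opModule

section construction

variable {A : Type u} {R B M : Type v} [CommRing A] [CommRing R] [CommRing B] [Algebra A R]
  [Algebra A B] [Algebra R B] [IsScalarTower A R B] [AddCommGroup M] [Module B M] [Module R M]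
  [IsScalarTower R B M]

lemma smul_eq_zero_of_mem {i : R} (hi : i ∈ RingHom.ker (algebraMap R B)) (m : M) :
    i • m = 0 := by
  rw [← algebraMap_smul B i m, (RingHom.mem_ker).mp hi, zero_smul]

/-- the ideal `{(i, -w i)}` of `R ⊕ M` -/
def graphIdeal (w : RingHom.ker (algebraMap R B) →ₗ[R] M) : Ideal (TrivSqZeroExt R M) where
  carrier := {t | ∃ h : t.fst ∈ RingHom.ker (algebraMap R B), w ⟨t.fst, h⟩ = - t.snd}
  zero_mem' := ⟨Ideal.zero_mem _, by
    have : (⟨(0 : TrivSqZeroExt R M).fst, Ideal.zero_mem _⟩ : RingHom.ker (algebraMap R B)) = 0 :=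
      rfl
    rw [this, map_zero]; simp⟩
  add_mem' := by
    rintro s t ⟨hs, hs'⟩ ⟨ht, ht'⟩
    refine ⟨by simpa using Ideal.add_mem _ hs ht, ?_⟩
    have : (⟨(s + t).fst, by simpa using Ideal.add_mem _ hs ht⟩ :
        RingHom.ker (algebraMap R B)) = ⟨s.fst, hs⟩ + ⟨t.fst, ht⟩ := rfl
    rw [this, map_add, hs', ht']; simp [add_comm]
  smul_mem' := by
    rintro c t ⟨ht, ht'⟩
    have hmem : (c • t).fst ∈ RingHom.ker (algebraMap R B) := by
      simpa using Ideal.mul_mem_left _ c.fst ht
    refine ⟨hmem, ?_⟩
    have : (⟨(c • t).fst, hmem⟩ : RingHom.ker (algebraMap R B)) = c.fst • ⟨t.fst, ht⟩ := by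
      apply Subtype.ext; simp
    rw [this, map_smul, ht']
    simp only [smul_eq_mul, TrivSqZeroExt.snd_mul, op_smul_eq_smul, smul_neg, neg_add_rev]
    rw [smul_eq_zero_of_mem ht c.snd, neg_zero, zero_add]

lemma mem_graphIdeal (w : RingHom.ker (algebraMap R B) →ₗ[R] M) (t : TrivSqZeroExt R M) :
    t ∈ graphIdeal w ↔ ∃ h : t.fst ∈ RingHom.ker (algebraMap R B), w ⟨t.fst, h⟩ = - t.snd :=
  Iff.rfl

/-- the middle ring -/
def E (w : RingHom.ker (algebraMap R B) →ₗ[R] M) : Type v :=
  TrivSqZeroExt R M ⧸ graphIdeal w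

instance (w : RingHom.ker (algebraMap R B) →ₗ[R] M) : CommRing (E w) :=
  inferInstanceAs (CommRing (TrivSqZeroExt R M ⧸ graphIdeal w))

/-- the quotient map -/
def mkE (w : RingHom.ker (algebraMap R B) →ₗ[R] M) : TrivSqZeroExt R M →+* E w :=
  Ideal.Quotient.mk (graphIdeal w)

lemma mkE_surjective (w : RingHom.ker (algebraMap R B) →ₗ[R] M) :
    Function.Surjective (mkE w) := Ideal.Quotient.mk_surjective

lemma mkE_eq_iff (w : RingHom.ker (algebraMap R B) →ₗ[R] M) (s t : TrivSqZeroExt R M) :
    mkE w s = mkE w t ↔ s - t ∈ graphIdeal w := Ideal.Quotient.eq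

lemma mkE_eq_zero_iff (w : RingHom.ker (algebraMap R B) →ₗ[R] M) (t : TrivSqZeroExt R M) :
    mkE w t = 0 ↔ t ∈ graphIdeal w := Ideal.Quotient.eq_zero_iff_mem

/-- maps out of the middle ring -/
def liftE (w : RingHom.ker (algebraMap R B) →ₗ[R] M) {C : Type*} [Semiring C]
    (ψ : TrivSqZeroExt R M →+* C) (h : ∀ t ∈ graphIdeal w, ψ t = 0) : E w →+* C :=
  Ideal.Quotient.lift (graphIdeal w) ψ h

lemma liftE_mk (w : RingHom.ker (algebraMap R B) →ₗ[R] M) {C : Type*} [Semiring C]
    (ψ : TrivSqZeroExt R M →+* C) (h : ∀ t ∈ graphIdeal w, ψ t = 0) (t : TrivSqZeroExt R M) :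
    liftE w ψ h (mkE w t) = ψ t := rfl

/-- the structure map `A → E` -/
noncomputable def ofA (w : RingHom.ker (algebraMap R B) →ₗ[R] M) : A →+* E w :=
  (mkE w).comp ((TrivSqZeroExt.inlHom R M).comp (algebraMap A R))

noncomputable instance algE (w : RingHom.ker (algebraMap R B) →ₗ[R] M) : Algebra A (E w) :=
  (ofA w).toAlgebra

lemma algebraMap_E (w : RingHom.ker (algebraMap R B) →ₗ[R] M) (a : A) :
    algebraMap A (E w) a = mkE w (TrivSqZeroExt.inl (algebraMap A R a)) := rfl

/-- the projection `E → B` as a ring map -/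
noncomputable def projRing (w : RingHom.ker (algebraMap R B) →ₗ[R] M) : E w →+* B :=
  Ideal.Quotient.lift (graphIdeal w)
    ((algebraMap R B).comp (TrivSqZeroExt.fstHom R R M).toRingHom) (by
      intro t ht
      obtain ⟨h, -⟩ := ht
      exact h)

lemma projRing_mk (w : RingHom.ker (algebraMap R B) →ₗ[R] M) (t : TrivSqZeroExt R M) :
    projRing w (mkE w t) = algebraMap R B t.fst := rfl

/-- the extension of `B` by `M` attached to `w` -/
noncomputable def ext (hsurj : Function.Surjective (algebraMap R B))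
    (w : RingHom.ker (algebraMap R B) →ₗ[R] M) : Ext A B M where
  E := E w
  proj :=
    { projRing w with
      commutes' := fun a => by
        show projRing w (mkE w (TrivSqZeroExt.inl (algebraMap A R a))) = _
        rw [projRing_mk, TrivSqZeroExt.fst_inl, ← IsScalarTower.algebraMap_apply] }
  incl := (mkE w).toAddMonoidHom.comp (TrivSqZeroExt.inrHom R M).toAddMonoidHom
  isExtension :=
    { proj_surjective := by
        intro c
        obtain ⟨r, rfl⟩ := hsurj c
        exact ⟨mkE w (TrivSqZeroExt.inl r), by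
          show projRing w (mkE w (TrivSqZeroExt.inl r)) = _
          rw [projRing_mk, TrivSqZeroExt.fst_inl]⟩
      incl_injective := by
        intro m m' h
        have h1 : mkE w (TrivSqZeroExt.inr m) = mkE w (TrivSqZeroExt.inr m') := h
        rw [mkE_eq_iff, mem_graphIdeal] at h1
        obtain ⟨h2, h3⟩ := h1
        have h4 : (⟨(TrivSqZeroExt.inr m - TrivSqZeroExt.inr m' : TrivSqZeroExt R M).fst, h2⟩ :
            RingHom.ker (algebraMap R B)) = 0 := by
          apply Subtype.ext; simp
        rw [h4, map_zero] at h3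
        simp only [TrivSqZeroExt.snd_sub, TrivSqZeroExt.snd_inr, neg_sub] at h3
        exact (sub_eq_zero.mp h3.symm).symm
      exact := by
        intro x
        obtain ⟨t, rfl⟩ := mkE_surjective w x
        constructor
        · intro h
          have h1 : t.fst ∈ RingHom.ker (algebraMap R B) := h
          refine ⟨t.snd + w ⟨t.fst, h1⟩, ?_⟩
          change mkE w (TrivSqZeroExt.inr _) = _
          rw [mkE_eq_iff, mem_graphIdeal]
          refine ⟨by simpa using h1, ?_⟩
          have h4 : (⟨(TrivSqZeroExt.inr (t.snd + w ⟨t.fst, h1⟩) - t : TrivSqZeroExt R M).fst,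
              by simpa using h1⟩ : RingHom.ker (algebraMap R B)) = - ⟨t.fst, h1⟩ := by
            apply Subtype.ext; simp
          rw [h4, map_neg]
          simp
        · rintro ⟨z, hz⟩
          rw [← hz]
          change projRing w (mkE w (TrivSqZeroExt.inr z)) = 0
          rw [projRing_mk]; simp
      mul_incl := by
        intro x z
        obtain ⟨t, rfl⟩ := mkE_surjective w x
        change mkE w t * mkE w (TrivSqZeroExt.inr z) =
          mkE w (TrivSqZeroExt.inr (algebraMap R B t.fst • z))
        rw [← map_mul]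
        congr 1
        ext
        · simp
        · simp only [TrivSqZeroExt.snd_mul, TrivSqZeroExt.snd_inr, TrivSqZeroExt.fst_inr,
            MulOpposite.op_zero, zero_smul, add_zero]
          rw [algebraMap_smul] }

lemma ext_proj_mk (hsurj : Function.Surjective (algebraMap R B))
    (w : RingHom.ker (algebraMap R B) →ₗ[R] M) (t : TrivSqZeroExt R M) :
    (ext (A := A) hsurj w).proj (mkE w t) = algebraMap R B t.fst := rfl

lemma ext_incl (hsurj : Function.Surjective (algebraMap R B))
    (w : RingHom.ker (algebraMap R B) →ₗ[R] M) (m : M) :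
    (ext (A := A) hsurj w).incl m = mkE w (TrivSqZeroExt.inr m) := rfl

end construction

end Groth.Agent.Lib.Helper19.ExalT1
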