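import Groth.Agent.Lib.Helper19DefTanA
import Groth.Agent.Lib.Helper19ExalT1A
import Groth.Agent.Lib.Helper19TangentDer

/-!
# Scaling and adding first-order deformations given by linear maps on the kernel of a cover
(helper19)
-/

set_option autoImplicit false
set_option linter.unusedSectionVars false
set_option linter.style.haveILetI false
universe u

open CategoryTheory CategoryTheory.Limits AlgebraicGeometry ArtFun ArtFun.Art

namespace Groth.Agent.Lib.Helper19.DefTan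

open Groth.Agent.Lib.Helper19 Groth.Agent.Lib.Helper19.DefAff Groth.Agent.Lib.Helper19.DefGlue
  Groth.Agent.Lib.Helper19.DefDual Groth.Agent.Lib.Helper19.ExalT1

attribute [local instance] Exal.opModule Exal.isCentralScalar_opModule

variable {Λ k : Type u} [CommRing Λ] [Field k] [Algebra Λ k]
variable {B₀ : Type u} [CommRing B₀] [Algebra k B₀]
variable {R : Type u} [CommRing R] [Algebra k R] [Algebra R B₀] [IsScalarTower k R B₀]
  (hsurj : Function.Surjective (algebraMap R B₀))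

variable (k) in
/-- the extension attached to a linear map on the kernel -/
noncomputable abbrev extW (w : RingHom.ker (algebraMap R B₀) →ₗ[R] B₀) : Exal.Ext k B₀ B₀ :=
  ExalT1.ext (A := k) (R := R) (B := B₀) (M := B₀) hsurj w

lemma algebraMap_extW (w : RingHom.ker (algebraMap R B₀) →ₗ[R] B₀) (a : (dual Λ k : Type u)) :
    algebraMap (dual Λ k) (ERing (extW k hsurj w)) a =
      mkE w (TrivSqZeroExt.inl (algebraMap k R (dfst a)) +
        TrivSqZeroExt.inr (dsnd a • (1 : B₀))) := by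
  rw [algebraMap_dualL, liftHom_apply]
  have h1 : ∀ c : k, algebraMap k (ERing (extW k hsurj w)) c =
      mkE w (TrivSqZeroExt.inl (algebraMap k R c)) := fun c => rfl
  have h2 : epsE (extW k hsurj w) = mkE w (TrivSqZeroExt.inr (1 : B₀)) := rfl
  rw [h1, h1, h2, map_add]
  congr 1
  change mkE w _ * mkE w _ = _
  rw [← map_mul, TrivSqZeroExt.inl_mul_inr]
  congr 2
  rw [algebraMap_smul]
  rfl

lemma projE_mkE (w : RingHom.ker (algebraMap R B₀) →ₗ[R] B₀) (t : TrivSqZeroExt R B₀) :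
    (projE (extW k hsurj w)).toRingHom (mkE w t) = algebraMap R B₀ t.fst := rfl


/-- multiplication by a scalar as an `R`-linear endomorphism of `B₀` -/
noncomputable def cMul (c : k) : B₀ →ₗ[R] B₀ where
  toFun b := c • b
  map_add' := smul_add c
  map_smul' r b := smul_comm c r b

@[simp] lemma cMul_apply (c : k) (b : B₀) : cMul (R := R) c b = c • b := rfl

variable (Λ) in
theorem Psi_scale (c : k) (w w' : RingHom.ker (algebraMap R B₀) →ₗ[R] B₀)
    (h : ∀ i, w' i = c • w i) :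
    (G Λ k B₀).map (scale c) (Psi Λ (extW k hsurj w)) = Psi Λ (extW k hsurj w') := by
  let f : B₀ →ₗ[R] B₀ := cMul c
  let θ : ERing (extW k hsurj w) →+* ERing (extW k hsurj w') :=
    liftE w ((mkE w').comp (TrivSqZeroExt.map f).toRingHom) (by
      intro t ht
      rw [mem_graphIdeal] at ht
      obtain ⟨h1, h2⟩ := ht
      change mkE w' (TrivSqZeroExt.map f t) = 0
      rw [mkE_eq_zero_iff, mem_graphIdeal]
      have hm : (TrivSqZeroExt.map f t).fst ∈ RingHom.ker (algebraMap R B₀) := by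
        rw [TrivSqZeroExt.fst_map]; exact h1
      refine ⟨hm, ?_⟩
      have e : (⟨(TrivSqZeroExt.map f t).fst, hm⟩ : RingHom.ker (algebraMap R B₀)) =
          ⟨t.fst, h1⟩ := Subtype.ext (TrivSqZeroExt.fst_map f t)
      rw [e, h, h2, TrivSqZeroExt.snd_map, cMul_apply, smul_neg])
  have hθ : ∀ t, θ (mkE w t) = mkE w' (TrivSqZeroExt.map f t) := fun t => rfl
  obtain ⟨e⟩ := baseChange_ofDefo_iso (scale c) (isDefo_ERing Λ (extW k hsurj w))
    (isDefo_ERing Λ (extW k hsurj w')) θ (by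
      intro a
      rw [algebraMap_extW, algebraMap_extW, hθ, map_add, TrivSqZeroExt.map_inl,
        TrivSqZeroExt.map_inr, cMul_apply, dfst_scale, dsnd_scale, mul_smul]) (by
      intro b
      obtain ⟨t, rfl⟩ := mkE_surjective w b
      rw [hθ, projE_mkE, projE_mkE, TrivSqZeroExt.fst_map])
  exact Quotient.sound ⟨e⟩


section Add

variable (w₁ w₂ w₃ : RingHom.ker (algebraMap R B₀) →ₗ[R] B₀)

/-- the fibre product of the two middle rings over `B₀` -/
noncomputable def FP : Subring (E w₁ × E w₂) :=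
  RingHom.eqLocus ((projRing w₁).comp (RingHom.fst (E w₁) (E w₂)))
    ((projRing w₂).comp (RingHom.snd (E w₁) (E w₂)))

lemma mem_FP (x : E w₁ × E w₂) : x ∈ FP w₁ w₂ ↔ projRing w₁ x.1 = projRing w₂ x.2 := Iff.rfl

/-- the cover of the fibre product -/
noncomputable def piFP : TrivSqZeroExt R (B₀ × B₀) →+* FP w₁ w₂ :=
  RingHom.codRestrict
    (((mkE w₁).comp (TrivSqZeroExt.map (LinearMap.fst R B₀ B₀)).toRingHom).prod
      ((mkE w₂).comp (TrivSqZeroExt.map (LinearMap.snd R B₀ B₀)).toRingHom)) (FP w₁ w₂)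
    (fun q => by
      rw [mem_FP]
      change algebraMap R B₀ (TrivSqZeroExt.map (LinearMap.fst R B₀ B₀) q).fst =
        algebraMap R B₀ (TrivSqZeroExt.map (LinearMap.snd R B₀ B₀) q).fst
      rw [TrivSqZeroExt.fst_map, TrivSqZeroExt.fst_map])

lemma piFP_fst (q : TrivSqZeroExt R (B₀ × B₀)) :
    (piFP w₁ w₂ q : E w₁ × E w₂).1 = mkE w₁ (TrivSqZeroExt.map (LinearMap.fst R B₀ B₀) q) := rfl

lemma piFP_snd (q : TrivSqZeroExt R (B₀ × B₀)) :
    (piFP w₁ w₂ q : E w₁ × E w₂).2 = mkE w₂ (TrivSqZeroExt.map (LinearMap.snd R B₀ B₀) q) := rfl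

/-- the sum map -/
noncomputable def gammaFP : TrivSqZeroExt R (B₀ × B₀) →+* E w₃ :=
  (mkE w₃).comp
    (TrivSqZeroExt.map (LinearMap.fst R B₀ B₀ + LinearMap.snd R B₀ B₀)).toRingHom

lemma gammaFP_apply (q : TrivSqZeroExt R (B₀ × B₀)) :
    gammaFP w₃ q =
      mkE w₃ (TrivSqZeroExt.map (LinearMap.fst R B₀ B₀ + LinearMap.snd R B₀ B₀) q) := rfl

lemma piFP_surjective : Function.Surjective (piFP w₁ w₂) := by
  rintro ⟨⟨e₁, e₂⟩, hx⟩
  obtain ⟨t₁, rfl⟩ := mkE_surjective w₁ e₁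
  obtain ⟨t₂, rfl⟩ := mkE_surjective w₂ e₂
  rw [mem_FP] at hx
  change algebraMap R B₀ t₁.fst = algebraMap R B₀ t₂.fst at hx
  have hi : t₂.fst - t₁.fst ∈ RingHom.ker (algebraMap R B₀) := by
    rw [RingHom.mem_ker, map_sub, hx, sub_self]
  refine ⟨TrivSqZeroExt.inl t₁.fst + TrivSqZeroExt.inr (t₁.snd, t₂.snd + w₂ ⟨_, hi⟩), ?_⟩
  apply Subtype.ext
  apply Prod.ext
  · rw [piFP_fst, map_add, TrivSqZeroExt.map_inl, TrivSqZeroExt.map_inr]
    change mkE w₁ _ = mkE w₁ t₁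
    congr 1
    exact TrivSqZeroExt.inl_fst_add_inr_snd_eq t₁
  · rw [piFP_snd, map_add, TrivSqZeroExt.map_inl, TrivSqZeroExt.map_inr, LinearMap.snd_apply]
    change mkE w₂ _ = mkE w₂ t₂
    rw [mkE_eq_iff, mem_graphIdeal]
    have hm : (TrivSqZeroExt.inl t₁.fst + TrivSqZeroExt.inr (t₂.snd + w₂ ⟨_, hi⟩) - t₂ :
        TrivSqZeroExt R B₀).fst ∈ RingHom.ker (algebraMap R B₀) := by
      have : (TrivSqZeroExt.inl t₁.fst + TrivSqZeroExt.inr (t₂.snd + w₂ ⟨_, hi⟩) - t₂ :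
        TrivSqZeroExt R B₀).fst = -(t₂.fst - t₁.fst) := by simp
      rw [this]
      exact Ideal.neg_mem_iff _ |>.2 hi
    refine ⟨hm, ?_⟩
    have e : (⟨_, hm⟩ : RingHom.ker (algebraMap R B₀)) = -⟨_, hi⟩ := by
      apply Subtype.ext
      simp
    rw [e, map_neg]
    simp

include w₁ w₂ in
lemma ker_piFP_le (h : ∀ i, w₃ i = w₁ i + w₂ i) :
    RingHom.ker (piFP w₁ w₂) ≤ RingHom.ker (gammaFP w₃) := by
  intro q hq
  rw [RingHom.mem_ker] at hq ⊢
  have h1 : mkE w₁ (TrivSqZeroExt.map (LinearMap.fst R B₀ B₀) q) = 0 := by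
    rw [← piFP_fst w₁ w₂, hq]; rfl
  have h2 : mkE w₂ (TrivSqZeroExt.map (LinearMap.snd R B₀ B₀) q) = 0 := by
    rw [← piFP_snd w₁ w₂, hq]; rfl
  rw [mkE_eq_zero_iff, mem_graphIdeal] at h1 h2
  obtain ⟨m1, e1⟩ := h1
  obtain ⟨m2, e2⟩ := h2
  rw [gammaFP_apply, mkE_eq_zero_iff, mem_graphIdeal]
  have hm : (TrivSqZeroExt.map (LinearMap.fst R B₀ B₀ + LinearMap.snd R B₀ B₀) q).fst ∈
      RingHom.ker (algebraMap R B₀) := by
    rw [TrivSqZeroExt.fst_map]
    rw [TrivSqZeroExt.fst_map] at m1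
    exact m1
  refine ⟨hm, ?_⟩
  have hq1 : q.fst ∈ RingHom.ker (algebraMap R B₀) := by
    rw [TrivSqZeroExt.fst_map] at m1
    exact m1
  have ea : (⟨_, hm⟩ : RingHom.ker (algebraMap R B₀)) = ⟨q.fst, hq1⟩ :=
    Subtype.ext (TrivSqZeroExt.fst_map _ q)
  have eb : (⟨_, m1⟩ : RingHom.ker (algebraMap R B₀)) = ⟨q.fst, hq1⟩ :=
    Subtype.ext (TrivSqZeroExt.fst_map _ q)
  have ec : (⟨_, m2⟩ : RingHom.ker (algebraMap R B₀)) = ⟨q.fst, hq1⟩ :=
    Subtype.ext (TrivSqZeroExt.fst_map _ q)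
  rw [eb, TrivSqZeroExt.snd_map] at e1
  rw [ec, TrivSqZeroExt.snd_map] at e2
  rw [ea, h, e1, e2, TrivSqZeroExt.snd_map, LinearMap.add_apply, neg_add]

/-- the sum map on the fibre product -/
noncomputable def ThetaFP (h : ∀ i, w₃ i = w₁ i + w₂ i) : FP w₁ w₂ →+* E w₃ :=
  (piFP w₁ w₂).liftOfSurjective (piFP_surjective w₁ w₂) ⟨gammaFP w₃, ker_piFP_le w₁ w₂ w₃ h⟩

lemma ThetaFP_piFP (h : ∀ i, w₃ i = w₁ i + w₂ i) (q : TrivSqZeroExt R (B₀ × B₀)) :
    ThetaFP w₁ w₂ w₃ h (piFP w₁ w₂ q) = gammaFP w₃ q :=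
  RingHom.liftOfSurjective_comp_apply _ (piFP_surjective w₁ w₂)
    ⟨gammaFP w₃, ker_piFP_le w₁ w₂ w₃ h⟩ q


variable (Λ) in
/-- the sum of two first-order deformations, through a deformation over `k[ε₁, ε₂]` -/
theorem Psi_add (h : ∀ i, w₃ i = w₁ i + w₂ i) :
    ∃ z : (G Λ k B₀).obj (dual2 Λ k),
      (G Λ k B₀).map pr₁ z = Psi Λ (extW k hsurj w₁) ∧
      (G Λ k B₀).map pr₂ z = Psi Λ (extW k hsurj w₂) ∧
      (G Λ k B₀).map plus z = Psi Λ (extW k hsurj w₃) := by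
  have hD₁ := isDefo_ERing Λ (extW k hsurj w₁)
  have hD₂ := isDefo_ERing Λ (extW k hsurj w₂)
  have hD₃ := isDefo_ERing Λ (extW k hsurj w₃)
  have he : Nonempty (((ofDefo hD₁).baseChange (toBase (dual Λ k))).Iso
      ((ofDefo hD₂).baseChange (toBase (dual Λ k)))) :=
    Quotient.exact (h0_elim (h0_G (Λ := Λ) (k := k) (B₀ := B₀))
      ((G Λ k B₀).map (toBase (dual Λ k)) (Psi Λ (extW k hsurj w₁)))
      ((G Λ k B₀).map (toBase (dual Λ k)) (Psi Λ (extW k hsurj w₂))))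
  obtain ⟨e⟩ := he
  obtain ⟨D, _, _, ρD, hD, g₁, g₂, hg₁, hg₂, hρ₁, hρ₂⟩ :=
    exists_glue_explicit isFibreProd_dual2 (dual Λ k).res_surjective hD₁ hD₂ e
  let g₁' : D →+* E w₁ := g₁
  let g₂' : D →+* E w₂ := g₂
  have hmem : ∀ d : D, (g₁'.prod g₂') d ∈ FP w₁ w₂ := by
    intro d
    exact (mem_FP w₁ w₂ _).2 ((hρ₁ d).trans (hρ₂ d).symm)
  let θ : D →+* ERing (extW k hsurj w₃) :=
    (ThetaFP w₁ w₂ w₃ h).comp (RingHom.codRestrict (g₁'.prod g₂') (FP w₁ w₂) hmem)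
  have hθ : ∀ d, θ d = ThetaFP w₁ w₂ w₃ h ⟨(g₁' d, g₂' d), hmem d⟩ := fun d => rfl
  refine ⟨(ofDefo hD).cl, ?_, ?_, ?_⟩
  · obtain ⟨j⟩ := baseChange_ofDefo_iso pr₁ hD hD₁ g₁ hg₁ hρ₁
    exact Quotient.sound ⟨j⟩
  · obtain ⟨j⟩ := baseChange_ofDefo_iso pr₂ hD hD₂ g₂ hg₂ hρ₂
    exact Quotient.sound ⟨j⟩
  · obtain ⟨j⟩ := baseChange_ofDefo_iso plus hD hD₃ θ (by
      intro t
      rw [hθ]
      have hq : (⟨(g₁' (algebraMap (dual2 Λ k) D t), g₂' (algebraMap (dual2 Λ k) D t)), hmem _⟩ :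
          FP w₁ w₂) = piFP w₁ w₂ (TrivSqZeroExt.inl (algebraMap k R (d2fst t)) +
            TrivSqZeroExt.inr (d2a t • (1 : B₀), d2b t • (1 : B₀))) := by
        apply Subtype.ext
        apply Prod.ext
        · rw [piFP_fst, map_add, TrivSqZeroExt.map_inl, TrivSqZeroExt.map_inr,
            LinearMap.fst_apply]
          change g₁ (algebraMap (dual2 Λ k) D t) = _
          rw [hg₁, algebraMap_extW, dfst_pr₁, dsnd_pr₁]
        · rw [piFP_snd, map_add, TrivSqZeroExt.map_inl, TrivSqZeroExt.map_inr,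
            LinearMap.snd_apply]
          change g₂ (algebraMap (dual2 Λ k) D t) = _
          rw [hg₂, algebraMap_extW, dfst_pr₂, dsnd_pr₂]
      rw [hq, ThetaFP_piFP, gammaFP_apply, map_add, TrivSqZeroExt.map_inl, TrivSqZeroExt.map_inr,
        LinearMap.add_apply, LinearMap.fst_apply, LinearMap.snd_apply, algebraMap_extW,
        dfst_plus, dsnd_plus, add_smul]) (by
      intro d
      rw [hθ]
      obtain ⟨q, hq⟩ := piFP_surjective w₁ w₂ ⟨(g₁' d, g₂' d), hmem d⟩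
      rw [← hq, ThetaFP_piFP, gammaFP_apply, projE_mkE, TrivSqZeroExt.fst_map, ← hρ₁]
      have h1 : g₁ d = mkE w₁ (TrivSqZeroExt.map (LinearMap.fst R B₀ B₀) q) := by
        have := congrArg (fun y : FP w₁ w₂ => (y : E w₁ × E w₂).1) hq
        exact this.symm
      rw [h1, projE_mkE, TrivSqZeroExt.fst_map])
    exact Quotient.sound ⟨j⟩

end Add

end Groth.Agent.Lib.Helper19.DefTan
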