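import Groth.Agent.Lib.Helper19ExalT1C
import Groth.Agent.Lib.Helper19CotTIndep

/-!
# `Exalcom(B, M) ≃ T¹(B/A, M)`
-/

set_option autoImplicit false
set_option linter.unusedSectionVars false
set_option linter.style.haveILetI false
universe u

open Exal TensorProduct

namespace Groth.Agent.Lib.Helper19.ExalT1

attribute [local instance] Exal.opModule Exal.isCentralScalar_opModule

open Groth.Agent.Lib.Helper19.CotTIndep

section main

variable {A B : Type u} [CommRing A] [CommRing B] [Algebra A B] {ι σ : Type u}
  (P : Algebra.Presentation A B ι σ) (M : Type u) [AddCommGroup M] [Module B M]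

variable [Module P.toExtension.Ring M] [IsScalarTower P.toExtension.Ring B M] [Module A M]
  [IsScalarTower A P.toExtension.Ring M]

variable {M}

/-- the linear map on the kernel attached to a map on the conormal module -/
noncomputable def wφ (φ : P.toExtension.Cotangent →ₗ[B] M) :
    RingHom.ker (algebraMap P.toExtension.Ring B) →ₗ[P.toExtension.Ring] M :=
  (φ.restrictScalars P.toExtension.Ring) ∘ₗ Algebra.Extension.Cotangent.mk

lemma wφ_apply (φ : P.toExtension.Cotangent →ₗ[B] M)
    (i : RingHom.ker (algebraMap P.toExtension.Ring B)) :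
    wφ P φ i = φ (Algebra.Extension.Cotangent.mk i) := rfl

/-- a map on the conormal module from a linear map on the kernel -/
noncomputable def φOf (w : RingHom.ker (algebraMap P.toExtension.Ring B) →ₗ[P.toExtension.Ring] M) :
    P.toExtension.Cotangent →ₗ[B] M :=
  ((Ideal.Cotangent.lift (R := P.toExtension.Ring) (I := P.toExtension.ker) w (fun x y => by
      have : x * y = (x : P.toExtension.Ring) • y := rfl
      rw [this, map_smul]
      exact smul_eq_zero_of_mem x.2 _)) ∘ₗ
    (Algebra.Extension.cotangentEquivCotangentKer (P := P.toExtension)).toLinearMap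
    ).extendScalarsOfSurjective P.toExtension.algebraMap_surjective

lemma φOf_mk (w : RingHom.ker (algebraMap P.toExtension.Ring B) →ₗ[P.toExtension.Ring] M)
    (i : RingHom.ker (algebraMap P.toExtension.Ring B)) :
    φOf P w (Algebra.Extension.Cotangent.mk i) = w i := by
  rw [φOf, LinearMap.extendScalarsOfSurjective_apply, LinearMap.comp_apply]
  rfl

lemma wφ_φOf (w : RingHom.ker (algebraMap P.toExtension.Ring B) →ₗ[P.toExtension.Ring] M) :
    wφ P (φOf P w) = w := by
  apply LinearMap.ext
  intro i
  rw [wφ_apply, φOf_mk]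

/-- the derivation attached to a map on `B ⊗ Ω` -/
noncomputable def derOf (ψ : P.toExtension.CotangentSpace →ₗ[B] M) :
    Derivation A P.toExtension.Ring M :=
  ((ψ.restrictScalars P.toExtension.Ring) ∘ₗ
    (TensorProduct.mk P.toExtension.Ring B Ω[P.toExtension.Ring⁄A] 1)).compDer
    (KaehlerDifferential.D A P.toExtension.Ring)

lemma derOf_apply (ψ : P.toExtension.CotangentSpace →ₗ[B] M) (r : P.toExtension.Ring) :
    derOf P ψ r = ψ ((1 : B) ⊗ₜ KaehlerDifferential.D A P.toExtension.Ring r) := rfl

lemma wφ_add_comp (φ : P.toExtension.Cotangent →ₗ[B] M)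
    (ψ : P.toExtension.CotangentSpace →ₗ[B] M) :
    wφ P (φ + ψ ∘ₗ P.toExtension.cotangentComplex) = wφ P φ + derRestr (derOf P ψ) := by
  apply LinearMap.ext
  intro i
  rw [LinearMap.add_apply, wφ_apply, wφ_apply, derRestr_apply, derOf_apply, LinearMap.add_apply,
    LinearMap.comp_apply, Algebra.Extension.cotangentComplex_mk]

/-- the map on `B ⊗ Ω` attached to a derivation -/
noncomputable def ψOf (D : Derivation A P.toExtension.Ring M) :
    P.toExtension.CotangentSpace →ₗ[B] M :=
  LinearMap.liftBaseChange B D.liftKaehlerDifferential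

lemma derOf_ψOf (D : Derivation A P.toExtension.Ring M) : derOf P (ψOf P D) = D := by
  ext r
  rw [derOf_apply, ψOf, LinearMap.liftBaseChange_tmul, one_smul,
    Derivation.liftKaehlerDifferential_comp_D]

variable (M)

/-- the class of the extension attached to a map on the conormal module -/
noncomputable def Φ (φ : P.toExtension.Cotangent →ₗ[B] M) : Exalcom A B M :=
  (ext (A := A) P.toExtension.algebraMap_surjective (wφ P φ)).cl

theorem Φ_surjective (c : Exalcom A B M) : ∃ φ, Φ P M φ = c := by
  obtain ⟨X, rfl⟩ := Quotient.exists_rep c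
  let g : P.toExtension.Ring →ₐ[A] X.E :=
    (MvPolynomial.aeval (fun i => Function.surjInv X.isExtension.proj_surjective (P.val i)) :
      MvPolynomial ι A →ₐ[A] X.E)
  have hg : ∀ r, X.proj (g r) = algebraMap P.toExtension.Ring B r := by
    intro r
    have : X.proj.comp g = IsScalarTower.toAlgHom A P.toExtension.Ring B := by
      refine MvPolynomial.algHom_ext fun i => ?_
      show X.proj (MvPolynomial.aeval _ (MvPolynomial.X i)) =
        algebraMap P.toExtension.Ring B (MvPolynomial.X i)
      rw [MvPolynomial.aeval_X, Function.surjInv_eq X.isExtension.proj_surjective,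
        CotT.algebraMap_toExtension, MvPolynomial.aeval_X]
    exact AlgHom.congr_fun this r
  refine ⟨φOf P (wOf X g hg), ?_⟩
  rw [Φ, wφ_φOf]
  exact Quotient.sound ⟨compEquiv P.toExtension.algebraMap_surjective X g hg⟩

theorem Φ_eq_iff (φ φ' : P.toExtension.Cotangent →ₗ[B] M) :
    Φ P M φ = Φ P M φ' ↔
      φ - φ' ∈ LinearMap.range (LinearMap.lcomp B M P.toExtension.cotangentComplex) := by
  constructor
  · intro h
    obtain ⟨θ⟩ := Quotient.exact h
    obtain ⟨D, hD⟩ := exists_der_of_equiv P.toExtension.algebraMap_surjective _ _ θ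
    refine ⟨ψOf P D, ?_⟩
    apply LinearMap.ext
    intro y
    obtain ⟨i, rfl⟩ := Algebra.Extension.Cotangent.mk_surjective y
    have h1 := LinearMap.congr_fun hD i
    rw [LinearMap.add_apply, wφ_apply, wφ_apply, derRestr_apply] at h1
    rw [LinearMap.lcomp_apply', LinearMap.comp_apply, Algebra.Extension.cotangentComplex_mk,
      LinearMap.sub_apply, h1, ← derOf_apply, derOf_ψOf]
    abel
  · rintro ⟨ψ, hψ⟩
    have h1 : φ = φ' + ψ ∘ₗ P.toExtension.cotangentComplex := by
      rw [LinearMap.lcomp_apply'] at hψ
      rw [hψ]; abel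
    rw [Φ, Φ, h1, wφ_add_comp]
    exact Quotient.sound ⟨shiftEquiv P.toExtension.algebraMap_surjective _ _⟩

theorem Φ_zero : Φ P M 0 = 0 := by
  let X := Ext.trivial A B M
  let g : P.toExtension.Ring →ₐ[A] X.E :=
    { (TrivSqZeroExt.inlHom B M).comp (algebraMap P.toExtension.Ring B) with
      commutes' := fun a => by
        show TrivSqZeroExt.inl (algebraMap P.toExtension.Ring B (algebraMap A _ a)) =
          TrivSqZeroExt.inl (algebraMap A B a)
        rw [← IsScalarTower.algebraMap_apply] }
  have hg : ∀ r, X.proj (g r) = algebraMap P.toExtension.Ring B r := fun r => rfl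
  have hw : wOf X g hg = 0 := by
    apply LinearMap.ext
    intro i
    apply X.isExtension.incl_injective
    rw [incl_wOf, LinearMap.zero_apply, map_zero]
    show TrivSqZeroExt.inl (algebraMap P.toExtension.Ring B i) = 0
    have : algebraMap P.toExtension.Ring B i = 0 := i.2
    rw [this, TrivSqZeroExt.inl_zero]
    rfl
  have hw0 : wφ P (0 : P.toExtension.Cotangent →ₗ[B] M) = 0 := by
    apply LinearMap.ext
    intro i
    rfl
  have h := compEquiv P.toExtension.algebraMap_surjective X g hg
  rw [hw] at h
  rw [Φ, hw0]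
  exact Quotient.sound ⟨h⟩

/-- the bijection with `C¹` -/
noncomputable def toC1 (c : Exalcom A B M) : C1 P.toExtension M :=
  Submodule.Quotient.mk (Classical.choose (Φ_surjective P M c))

lemma Φ_choose (c : Exalcom A B M) : Φ P M (Classical.choose (Φ_surjective P M c)) = c :=
  Classical.choose_spec (Φ_surjective P M c)

theorem toC1_bijective : Function.Bijective (toC1 P M) := by
  constructor
  · intro c c' h
    rw [toC1, toC1, Submodule.Quotient.eq, ← Φ_eq_iff, Φ_choose, Φ_choose] at h
    exact h
  · intro x
    obtain ⟨φ, rfl⟩ := Submodule.Quotient.mk_surjective _ x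
    refine ⟨Φ P M φ, ?_⟩
    rw [toC1, Submodule.Quotient.eq, ← Φ_eq_iff, Φ_choose]

theorem toC1_zero : toC1 P M 0 = 0 := by
  rw [toC1, ← Submodule.Quotient.mk_zero, Submodule.Quotient.eq, ← Φ_eq_iff, Φ_choose, Φ_zero]

end main

section final

variable (A B : Type u) [CommRing A] [CommRing B] [Algebra A B] {ι σ : Type u}
  (P : Algebra.Presentation A B ι σ) (M : Type u) [AddCommGroup M] [Module B M]

theorem exists_equiv_T1 : ∃ e : Exalcom A B M ≃ CotT.T1 P M, e 0 = 0 := by
  letI : Module P.toExtension.Ring M := Module.compHom M (algebraMap P.toExtension.Ring B)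
  haveI : IsScalarTower P.toExtension.Ring B M := IsScalarTower.of_compHom _ B M
  letI : Module A M := Module.compHom M (algebraMap A B)
  haveI : IsScalarTower A P.toExtension.Ring M := ⟨fun a r m => by
    show algebraMap P.toExtension.Ring B (a • r) • m =
      algebraMap A B a • (algebraMap P.toExtension.Ring B r • m)
    rw [Algebra.smul_def, map_mul, mul_smul, ← IsScalarTower.algebraMap_apply]⟩
  refine ⟨(Equiv.ofBijective (toC1 P M) (toC1_bijective P M)).trans
    (T1equivC1 P M).symm.toEquiv, ?_⟩
  show (T1equivC1 P M).symm (toC1 P M 0) = 0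
  rw [toC1_zero, map_zero]

end final

end Groth.Agent.Lib.Helper19.ExalT1
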