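import Groth.Agent.Lib.Helper19DefTanB
import Groth.Agent.Lib.Helper19ExalT1D

/-!
# The tangent space of the deformation functor of an affine scheme is a quotient of `T¹` (helper19)
-/

set_option autoImplicit false
set_option linter.unusedSectionVars false
set_option linter.style.haveILetI false
universe u

open CategoryTheory CategoryTheory.Limits AlgebraicGeometry ArtFun ArtFun.Art

namespace Groth.Agent.Lib.Helper19.DefTan

open Groth.Agent.Lib.Helper19 Groth.Agent.Lib.Helper19.DefAff Groth.Agent.Lib.Helper19.DefGlue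
  Groth.Agent.Lib.Helper19.DefDual Groth.Agent.Lib.Helper19.ExalT1
  Groth.Agent.Lib.Helper19.CotTIndep

attribute [local instance] Exal.opModule Exal.isCentralScalar_opModule

variable {Λ k : Type u} [CommRing Λ] [Field k] [Algebra Λ k]
variable {B₀ : Type u} [CommRing B₀] [Algebra k B₀]
variable {ι σ : Type u} (P : Algebra.Presentation k B₀ ι σ)

variable (Λ) in
/-- the first-order deformation attached to a map on the conormal module -/
noncomputable def PsiPhi (φ : P.toExtension.Cotangent →ₗ[B₀] B₀) : (G Λ k B₀).obj (dual Λ k) :=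
  Psi Λ (extW k P.toExtension.algebraMap_surjective (wφ P φ))

lemma PsiPhi_eq_of_Phi_eq (φ φ' : P.toExtension.Cotangent →ₗ[B₀] B₀)
    (h : Φ P B₀ φ = Φ P B₀ φ') : PsiPhi Λ P φ = PsiPhi Λ P φ' := by
  obtain ⟨θ⟩ := Quotient.exact h
  exact Psi_eq_of_equiv Λ θ

lemma PsiPhi_surjective (q : (G Λ k B₀).obj (dual Λ k)) : ∃ φ, PsiPhi Λ P φ = q := by
  obtain ⟨X, rfl⟩ := Psi_surjective Λ q
  obtain ⟨φ, hφ⟩ := Φ_surjective P B₀ X.cl
  obtain ⟨θ⟩ := Quotient.exact hφ
  exact ⟨φ, Psi_eq_of_equiv Λ θ⟩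

variable [T : TangentStr (G Λ k B₀)]

/-- the linear map from maps on the conormal module to the tangent space -/
noncomputable def tanMap : (P.toExtension.Cotangent →ₗ[B₀] B₀) →ₗ[k] TangentSpace (G Λ k B₀) where
  toFun φ := TangentSpace.mk (PsiPhi Λ P φ)
  map_add' := by
    intro φ₁ φ₂
    obtain ⟨z, h1, h2, h3⟩ := Psi_add (k := k) Λ P.toExtension.algebraMap_surjective (wφ P φ₁) (wφ P φ₂)
      (wφ P (φ₁ + φ₂)) (fun i => rfl)
    rw [PsiPhi, PsiPhi, PsiPhi, ← h3, ← tangent_add_eq, h1, h2]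
  map_smul' := by
    intro c φ
    rw [RingHom.id_apply, tangent_smul_eq, PsiPhi, PsiPhi,
      ← Psi_scale Λ P.toExtension.algebraMap_surjective c (wφ P φ) (wφ P (c • φ)) (fun i => rfl)]
    rfl

lemma tanMap_apply (φ : P.toExtension.Cotangent →ₗ[B₀] B₀) :
    tanMap P φ = TangentSpace.mk (PsiPhi Λ P φ) := rfl

lemma tanMap_surjective : Function.Surjective (tanMap (Λ := Λ) P) := by
  intro x
  obtain ⟨φ, hφ⟩ := PsiPhi_surjective (Λ := Λ) P x.val
  exact ⟨φ, hφ⟩

lemma range_le_ker_tanMap :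
    (LinearMap.range (LinearMap.lcomp B₀ B₀ P.toExtension.cotangentComplex)).restrictScalars k ≤
      LinearMap.ker (tanMap (Λ := Λ) P) := by
  intro φ hφ
  rw [Submodule.restrictScalars_mem] at hφ
  rw [LinearMap.mem_ker, ← map_zero (tanMap (Λ := Λ) P), tanMap_apply, tanMap_apply]
  congr 1
  apply PsiPhi_eq_of_Phi_eq
  rw [Φ_eq_iff, sub_zero]
  exact hφ

/-- finiteness of the tangent space from finiteness of `T¹` -/
theorem hfin_G_of_finite [Module.Finite k (C1 P.toExtension B₀)] : Hfin (G Λ k B₀) := by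
  let W := LinearMap.range (LinearMap.lcomp B₀ B₀ P.toExtension.cotangentComplex)
  haveI : Module.Finite k ((P.toExtension.Cotangent →ₗ[B₀] B₀) ⧸ W.restrictScalars k) :=
    Module.Finite.equiv (Submodule.Quotient.restrictScalarsEquiv k W).symm
  let L := (W.restrictScalars k).liftQ (tanMap (Λ := Λ) P) (range_le_ker_tanMap P)
  have hL : Function.Surjective L := by
    intro x
    obtain ⟨φ, rfl⟩ := tanMap_surjective P x
    exact ⟨Submodule.Quotient.mk φ, rfl⟩
  exact Module.Finite.of_surjective L hL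

end Groth.Agent.Lib.Helper19.DefTan
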