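import Mathlib
import Groth.Prelude.Def_Exal2
import Groth.Agent.Lib.Helper7ExalBaer

/-!
# Reduction of an extension to the residue field (helper19)

Setting: `C'` is a `k`-algebra with an augmentation `res : C' → k` (kernel `𝔪`), `B` a `C'`-algebra,
`ρ : B → B₀` a surjection onto a `k`-algebra `B₀` with kernel `𝔪 B`, and `M` a `B₀`-module, viewed
as a `B`-module through `ρ`.  For a `C'`-extension `Z` of `B` by `M` with `𝔪 Z.E ∩ M = 0` the
quotient `Z.E / 𝔪 Z.E` is a `k`-extension of `B₀` by `M` (`red`).  The condition holds when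
`Z.E` is killed by the kernel of a surjection `C' → C` and `B` is flat over `C` (`h2_of_flat`).
-/

set_option autoImplicit false
set_option linter.unusedSectionVars false
set_option linter.style.haveILetI false
universe u

open Exal

namespace Groth.Agent.Lib.Helper19.DefTors

section Red

variable {k : Type u} [Field k]
  {C' : Type u} [CommRing C'] [Algebra k C']
  {B B₀ M : Type u} [CommRing B] [Algebra C' B] [CommRing B₀] [Algebra k B₀]
  [AddCommGroup M] [Module B₀ M] [Module B M]
  (res : C' →ₐ[k] k) (ρ : B →+* B₀)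
  (hρc : ∀ c : C', ρ (algebraMap C' B c) = algebraMap k B₀ (res c))
  (hρs : Function.Surjective ρ)
  (hρk : RingHom.ker ρ = (RingHom.ker res).map (algebraMap C' B))
  (hBM : ∀ (b : B) (m : M), b • m = ρ b • m)

/-- the ideal `𝔪 Z.E` -/
def redIdeal (Z : Ext C' B M) : Ideal Z.E := (RingHom.ker res).map (algebraMap C' Z.E)

/-- the carrier of the reduction -/
def RedCarrier (Z : Ext C' B M) : Type u := Z.E ⧸ redIdeal res Z

instance (Z : Ext C' B M) : CommRing (RedCarrier res Z) :=
  inferInstanceAs (CommRing (Z.E ⧸ redIdeal res Z))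

/-- the quotient map -/
def redMk (Z : Ext C' B M) : Z.E →+* RedCarrier res Z := Ideal.Quotient.mk (redIdeal res Z)

lemma redMk_surjective (Z : Ext C' B M) : Function.Surjective (redMk res Z) :=
  Ideal.Quotient.mk_surjective

lemma redMk_eq_zero_iff (Z : Ext C' B M) (z : Z.E) : redMk res Z z = 0 ↔ z ∈ redIdeal res Z :=
  Ideal.Quotient.eq_zero_iff_mem

lemma redMk_eq_iff (Z : Ext C' B M) (z w : Z.E) :
    redMk res Z z = redMk res Z w ↔ z - w ∈ redIdeal res Z := Ideal.Quotient.eq

noncomputable instance (Z : Ext C' B M) : Algebra k (RedCarrier res Z) :=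
  ((redMk res Z).comp ((algebraMap C' Z.E).comp (algebraMap k C'))).toAlgebra

lemma algebraMap_redCarrier (Z : Ext C' B M) (a : k) :
    algebraMap k (RedCarrier res Z) a = redMk res Z (algebraMap C' Z.E (algebraMap k C' a)) := rfl

lemma redMk_algebraMap (Z : Ext C' B M) (c : C') :
    redMk res Z (algebraMap C' Z.E c) = algebraMap k (RedCarrier res Z) (res c) := by
  rw [algebraMap_redCarrier, redMk_eq_iff, ← map_sub]
  apply Ideal.mem_map_of_mem
  rw [RingHom.mem_ker, map_sub, AlgHom.commutes]
  exact sub_self _

include hρc in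
lemma redIdeal_le (Z : Ext C' B M) :
    redIdeal res Z ≤ RingHom.ker (ρ.comp (Z.proj : Z.E →+* B)) := by
  rw [redIdeal, Ideal.map_le_iff_le_comap]
  intro c hc
  rw [Ideal.mem_comap, RingHom.mem_ker, RingHom.comp_apply]
  change ρ (Z.proj (algebraMap C' Z.E c)) = 0
  rw [AlgHom.commutes, hρc, (RingHom.mem_ker).1 hc, map_zero]

/-- the projection of the reduction -/
noncomputable def redProj (Z : Ext C' B M) : RedCarrier res Z →ₐ[k] B₀ :=
  { Ideal.Quotient.lift (redIdeal res Z) (ρ.comp (Z.proj : Z.E →+* B))
      (fun z hz => (RingHom.mem_ker).1 (redIdeal_le res ρ hρc Z hz)) with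
    commutes' := fun a => by
      change Ideal.Quotient.lift (redIdeal res Z) (ρ.comp (Z.proj : Z.E →+* B)) _
        (Ideal.Quotient.mk _ (algebraMap C' Z.E (algebraMap k C' a))) = _
      rw [Ideal.Quotient.lift_mk, RingHom.comp_apply]
      change ρ (Z.proj (algebraMap C' Z.E (algebraMap k C' a))) = _
      rw [AlgHom.commutes, hρc, AlgHom.commutes]
      rfl }

lemma redProj_mk (Z : Ext C' B M) (z : Z.E) :
    redProj res ρ hρc Z (redMk res Z z) = ρ (Z.proj z) := rfl

/-- The reduction of an extension modulo the augmentation ideal. -/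
noncomputable def red (Z : Ext C' B M)
    (h2 : ∀ z ∈ redIdeal res Z, Z.proj z = 0 → z = 0) : Ext k B₀ M where
  E := RedCarrier res Z
  proj := redProj res ρ hρc Z
  incl := (redMk res Z : Z.E →+ RedCarrier res Z).comp Z.incl
  isExtension :=
    { proj_surjective := fun b => by
        obtain ⟨b', rfl⟩ := hρs b
        obtain ⟨z, rfl⟩ := Z.isExtension.proj_surjective b'
        exact ⟨redMk res Z z, rfl⟩
      incl_injective := by
        intro z w h
        change redMk res Z (Z.incl z) = redMk res Z (Z.incl w) at h
        rw [redMk_eq_iff, ← map_sub] at h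
        have h0 := h2 _ h (Groth.Agent.Lib.Helper7.ExalLib.proj_incl Z _)
        have := Z.isExtension.incl_injective (h0.trans (map_zero _).symm)
        exact sub_eq_zero.1 this
      exact := fun x => by
        obtain ⟨z, rfl⟩ := redMk_surjective res Z x
        constructor
        · intro hx
          rw [redProj_mk] at hx
          have h1 : Z.proj z ∈ (RingHom.ker res).map (algebraMap C' B) := by
            rw [← hρk]; exact hx
          have h3 : (RingHom.ker res).map (algebraMap C' B) =
              (redIdeal res Z).map (Z.proj : Z.E →+* B) := by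
            rw [redIdeal, Ideal.map_map]
            congr 1
            ext c
            exact (Z.proj.commutes c).symm
          rw [h3] at h1
          obtain ⟨z', hz', hzz'⟩ :=
            (Ideal.mem_map_iff_of_surjective (Z.proj : Z.E →+* B)
              Z.isExtension.proj_surjective).1 h1
          have h4 : Z.proj (z - z') = 0 := by
            rw [map_sub]
            exact sub_eq_zero.2 hzz'.symm
          obtain ⟨m, hm⟩ := (Z.isExtension.exact _).1 h4
          refine ⟨m, ?_⟩
          change redMk res Z (Z.incl m) = redMk res Z z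
          rw [hm, redMk_eq_iff]
          have : z - z' - z = -z' := by ring
          rw [this]
          exact (redIdeal res Z).neg_mem hz'
        · rintro ⟨m, hm⟩
          have hm' : redMk res Z (Z.incl m) = redMk res Z z := hm
          rw [← hm', redProj_mk, Groth.Agent.Lib.Helper7.ExalLib.proj_incl, map_zero]
      mul_incl := fun x m => by
        obtain ⟨z, rfl⟩ := redMk_surjective res Z x
        change redMk res Z z * redMk res Z (Z.incl m) =
          redMk res Z (Z.incl (redProj res ρ hρc Z (redMk res Z z) • m))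
        rw [← map_mul, Z.isExtension.mul_incl, redProj_mk, hBM] }

end Red

section H2

variable {k : Type u} [Field k]
  {C' C : Type u} [CommRing C'] [CommRing C] [Algebra k C'] [Algebra C' C]
  {B B₀ M : Type u} [CommRing B] [Algebra C' B] [Algebra C B] [IsScalarTower C' C B]
  [Module.Flat C B] [CommRing B₀] [Algebra k B₀]
  [AddCommGroup M] [Module B₀ M] [Module B M]
  (res : C' →ₐ[k] k) (ρ : B →+* B₀)
  (hρc : ∀ c : C', ρ (algebraMap C' B c) = algebraMap k B₀ (res c))
  (hBM : ∀ (b : B) (m : M), b • m = ρ b • m)
  (hp : Function.Surjective (algebraMap C' C))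

include hρc hBM in
lemma algebraMap_mul_incl_eq_zero (Z : Ext C' B M) (c : C') (hc : c ∈ RingHom.ker res) (m : M) :
    algebraMap C' Z.E c * Z.incl m = 0 := by
  rw [Z.isExtension.mul_incl, AlgHom.commutes, hBM, hρc, (RingHom.mem_ker).1 hc, map_zero,
    zero_smul, map_zero]

include hρc hBM hp in
/-- If `Z.E` is killed by the kernel of `C' → C` and `B` is flat over `C`, then `𝔪 Z.E` meets the
kernel of the projection trivially. -/
theorem h2_of_flat (Z : Ext C' B M)
    (hZ : ∀ j : C', algebraMap C' C j = 0 → algebraMap C' Z.E j = 0) :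
    ∀ z ∈ redIdeal res Z, Z.proj z = 0 → z = 0 := by
  classical
  intro z hz hpz
  rw [redIdeal, Ideal.map, Ideal.span, Submodule.mem_span_image_iff_exists_fun] at hz
  obtain ⟨t, ht, e, rfl⟩ := hz
  -- the relation in `B`
  have hrel : ∑ i : t, algebraMap C' C (i : C') • Z.proj (e i) = 0 := by
    rw [← hpz, map_sum]
    refine Finset.sum_congr rfl fun i _ => ?_
    rw [smul_eq_mul, map_mul, AlgHom.commutes, Algebra.smul_def,
      IsScalarTower.algebraMap_apply C' C B, mul_comm]
  obtain ⟨n, a, y, hy, ha⟩ := Module.Flat.isTrivialRelation_of_sum_smul_eq_zero (R := C) (M := B)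
    (f := fun i : t => algebraMap C' C (i : C')) (x := fun i : t => Z.proj (e i)) hrel
  replace hy : ∀ i : t, Z.proj (e i) = ∑ j, a i j • y j := hy
  replace ha : ∀ j, ∑ i : t, algebraMap C' C (i : C') * a i j = 0 := ha
  choose a' ha' using fun i l => hp (a i l)
  choose ζ hζ using fun l => Z.isExtension.proj_surjective (y l)
  have hker : ∀ i : t, Z.proj (e i - ∑ l, algebraMap C' Z.E (a' i l) * ζ l) = 0 := by
    intro i
    rw [map_sub, map_sum, hy i, sub_eq_zero]
    refine Finset.sum_congr rfl fun l _ => ?_
    rw [map_mul, AlgHom.commutes, hζ, Algebra.smul_def, ← ha' i l,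
      IsScalarTower.algebraMap_apply C' C B]
  choose m hm using fun i => (Z.isExtension.exact _).1 (hker i)
  have he : ∀ i : t, e i = Z.incl (m i) + ∑ l, algebraMap C' Z.E (a' i l) * ζ l := by
    intro i
    rw [hm i]; ring
  have h1 : ∀ i : t, e i • algebraMap C' Z.E (i : C') =
      ∑ l, algebraMap C' Z.E (a' i l * (i : C')) * ζ l := by
    intro i
    rw [smul_eq_mul, he i, add_mul, mul_comm (Z.incl (m i)),
      algebraMap_mul_incl_eq_zero res ρ hρc hBM Z _ (ht i.2), zero_add, Finset.sum_mul]
    refine Finset.sum_congr rfl fun l _ => ?_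
    rw [map_mul]; ring
  rw [Finset.sum_congr rfl fun i _ => h1 i, Finset.sum_comm]
  refine Finset.sum_eq_zero fun l _ => ?_
  rw [← Finset.sum_mul, ← map_sum, hZ, zero_mul]
  rw [map_sum, ← ha l]
  refine Finset.sum_congr rfl fun i _ => ?_
  rw [map_mul, ha', mul_comm]

end H2

end Groth.Agent.Lib.Helper19.DefTors
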