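import Groth.Agent.Lib.Helper19DefTorsA

/-!
# Adding a `k`-extension of `B₀` to a `C'`-extension of `B` (helper19)

In the setting of `Helper19DefTorsA`: for a `C'`-extension `X` of `B` by `M` and a `k`-extension
`Y` of `B₀` by `M`, the ring `(X.E ×_{B₀} Y.E) / {(incl m, - incl m)}` is a `C'`-extension of `B`
by `M` (`sumExt`).
-/

set_option autoImplicit false
set_option linter.unusedSectionVars false
set_option linter.style.haveILetI false
universe u

open Exal

namespace Groth.Agent.Lib.Helper19.DefTors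

open Groth.Agent.Lib.Helper7.ExalLib

section Sum

variable {k : Type u} [Field k]
  {C' : Type u} [CommRing C'] [Algebra k C']
  {B B₀ M : Type u} [CommRing B] [Algebra C' B] [CommRing B₀] [Algebra k B₀]
  [AddCommGroup M] [Module B₀ M] [Module B M]
  (res : C' →ₐ[k] k) (ρ : B →+* B₀)
  (hρc : ∀ c : C', ρ (algebraMap C' B c) = algebraMap k B₀ (res c))
  (hρs : Function.Surjective ρ)
  (hBM : ∀ (b : B) (m : M), b • m = ρ b • m)
  (X : Ext C' B M) (Y : Ext k B₀ M)

/-- the fibre product `X.E ×_{B₀} Y.E` -/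
def sumFiber : Subring (X.E × Y.E) :=
  RingHom.eqLocus ((ρ.comp (X.proj : X.E →+* B)).comp (RingHom.fst X.E Y.E))
    ((Y.proj : Y.E →+* B₀).comp (RingHom.snd X.E Y.E))

lemma mem_sumFiber (t : X.E × Y.E) : t ∈ sumFiber ρ X Y ↔ ρ (X.proj t.1) = Y.proj t.2 := Iff.rfl

/-- the antidiagonal copy of `M` -/
def antiIdeal : Ideal (sumFiber ρ X Y) where
  carrier := {t | ∃ m : M, (t : X.E × Y.E) = (X.incl m, - Y.incl m)}
  add_mem' := by
    rintro s t ⟨m, hm⟩ ⟨n, hn⟩
    refine ⟨m + n, ?_⟩
    rw [Subring.coe_add, hm, hn, map_add, map_add, neg_add]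
    rfl
  zero_mem' := ⟨0, by rw [map_zero, map_zero, neg_zero]; rfl⟩
  smul_mem' := by
    rintro c t ⟨m, hm⟩
    have hc := (mem_sumFiber ρ X Y _).1 c.2
    refine ⟨X.proj (c : X.E × Y.E).1 • m, ?_⟩
    rw [smul_eq_mul, Subring.coe_mul, hm]
    apply Prod.ext
    · change (c : X.E × Y.E).1 * X.incl m = _
      rw [X.isExtension.mul_incl]
    · change (c : X.E × Y.E).2 * (- Y.incl m) = - Y.incl _
      rw [mul_neg, Y.isExtension.mul_incl, ← hc, hBM]

lemma mem_antiIdeal (t : sumFiber ρ X Y) :
    t ∈ antiIdeal ρ hBM X Y ↔ ∃ m : M, (t : X.E × Y.E) = (X.incl m, - Y.incl m) := Iff.rfl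

/-- the carrier of the sum -/
@[nolint unusedArguments]
def SumCarrier (_res : C' →ₐ[k] k)
    (_hρc : ∀ c : C', ρ (algebraMap C' B c) = algebraMap k B₀ (_res c)) : Type u :=
  sumFiber ρ X Y ⧸ antiIdeal ρ hBM X Y

instance : CommRing (SumCarrier ρ hBM X Y res hρc) :=
  inferInstanceAs (CommRing (sumFiber ρ X Y ⧸ antiIdeal ρ hBM X Y))

/-- the quotient map -/
def sumMk : sumFiber ρ X Y →+* SumCarrier ρ hBM X Y res hρc :=
  Ideal.Quotient.mk (antiIdeal ρ hBM X Y)

lemma sumMk_surjective : Function.Surjective (sumMk res ρ hρc hBM X Y) :=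
  Ideal.Quotient.mk_surjective

lemma sumMk_eq_zero_iff (t : sumFiber ρ X Y) :
    sumMk res ρ hρc hBM X Y t = 0 ↔ t ∈ antiIdeal ρ hBM X Y := Ideal.Quotient.eq_zero_iff_mem

lemma sumMk_eq_iff (s t : sumFiber ρ X Y) :
    sumMk res ρ hρc hBM X Y s = sumMk res ρ hρc hBM X Y t ↔ s - t ∈ antiIdeal ρ hBM X Y :=
  Ideal.Quotient.eq

include hρc in
/-- the structure map `C' → X.E ×_{B₀} Y.E` -/
noncomputable def sumStr : C' →+* sumFiber ρ X Y :=
  RingHom.codRestrict ((algebraMap C' X.E).prod ((algebraMap k Y.E).comp (res : C' →+* k)))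
    (sumFiber ρ X Y) (fun c => by
      rw [mem_sumFiber]
      change ρ (X.proj (algebraMap C' X.E c)) = Y.proj (algebraMap k Y.E (res c))
      rw [AlgHom.commutes, AlgHom.commutes, hρc])

lemma coe_sumStr (c : C') :
    (sumStr res ρ hρc X Y c : X.E × Y.E) = (algebraMap C' X.E c, algebraMap k Y.E (res c)) := rfl

noncomputable instance : Algebra C' (SumCarrier ρ hBM X Y res hρc) :=
  ((sumMk res ρ hρc hBM X Y).comp (sumStr res ρ hρc X Y)).toAlgebra

lemma algebraMap_sumCarrier (c : C') :
    algebraMap C' (SumCarrier ρ hBM X Y res hρc) c =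
      sumMk res ρ hρc hBM X Y (sumStr res ρ hρc X Y c) := rfl

/-- the projection of the fibre product to `B` -/
def sumProj0 : sumFiber ρ X Y →+* B :=
  ((X.proj : X.E →+* B).comp (RingHom.fst X.E Y.E)).comp (sumFiber ρ X Y).subtype

lemma sumProj0_apply (t : sumFiber ρ X Y) : sumProj0 ρ X Y t = X.proj (t : X.E × Y.E).1 := rfl

/-- the projection of the sum -/
noncomputable def sumProj : SumCarrier ρ hBM X Y res hρc →ₐ[C'] B :=
  { Ideal.Quotient.lift (antiIdeal ρ hBM X Y) (sumProj0 ρ X Y) (by
      rintro t ⟨m, hm⟩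
      rw [sumProj0_apply, hm]
      exact proj_incl X m) with
    commutes' := fun c => by
      change Ideal.Quotient.lift (antiIdeal ρ hBM X Y) (sumProj0 ρ X Y) _
        (Ideal.Quotient.mk _ (sumStr res ρ hρc X Y c)) = _
      rw [Ideal.Quotient.lift_mk, sumProj0_apply, coe_sumStr]
      exact X.proj.commutes c }

lemma sumProj_mk (t : sumFiber ρ X Y) :
    sumProj res ρ hρc hBM X Y (sumMk res ρ hρc hBM X Y t) = X.proj (t : X.E × Y.E).1 := rfl

/-- the element `(incl m, 0)` -/
def sumInclLeft (m : M) : sumFiber ρ X Y :=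
  ⟨(X.incl m, 0), by
    rw [mem_sumFiber]
    change ρ (X.proj (X.incl m)) = Y.proj 0
    rw [proj_incl, map_zero, map_zero]⟩

/-- the element `(0, incl m)` -/
def sumInclRight (m : M) : sumFiber ρ X Y :=
  ⟨(0, Y.incl m), by
    rw [mem_sumFiber]
    change ρ (X.proj 0) = Y.proj (Y.incl m)
    rw [proj_incl, map_zero, map_zero]⟩

lemma sumMk_inclLeft_eq (m : M) :
    sumMk res ρ hρc hBM X Y (sumInclLeft ρ X Y m) = sumMk res ρ hρc hBM X Y (sumInclRight ρ X Y m) := by
  rw [sumMk_eq_iff]
  refine ⟨m, ?_⟩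
  apply Prod.ext
  · change X.incl m - 0 = X.incl m
    rw [sub_zero]
  · change (0 : Y.E) - Y.incl m = - Y.incl m
    rw [zero_sub]

/-- The sum of a `C'`-extension of `B` and a `k`-extension of `B₀`. -/
noncomputable def sumExt : Ext C' B M where
  E := SumCarrier ρ hBM X Y res hρc
  proj := sumProj res ρ hρc hBM X Y
  incl :=
    { toFun := fun m => sumMk res ρ hρc hBM X Y (sumInclLeft ρ X Y m)
      map_zero' := by
        rw [sumMk_eq_zero_iff]
        exact ⟨0, by simp [sumInclLeft]⟩
      map_add' := fun m n => by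
        rw [← map_add]
        congr 1
        apply Subtype.ext
        simp [sumInclLeft] }
  isExtension :=
    { proj_surjective := fun b => by
        obtain ⟨x, hx⟩ := X.isExtension.proj_surjective b
        obtain ⟨y, hy⟩ := Y.isExtension.proj_surjective (ρ b)
        refine ⟨sumMk res ρ hρc hBM X Y ⟨(x, y), ?_⟩, hx⟩
        rw [mem_sumFiber]
        change ρ (X.proj x) = Y.proj y
        rw [hx, hy]
      incl_injective := by
        intro m n h
        change sumMk res ρ hρc hBM X Y (sumInclLeft ρ X Y m) =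
          sumMk res ρ hρc hBM X Y (sumInclLeft ρ X Y n) at h
        rw [sumMk_eq_iff] at h
        obtain ⟨c, hc⟩ := h
        have h1 : X.incl m - X.incl n = X.incl c := congrArg Prod.fst hc
        have h2 : (0 : Y.E) - 0 = - Y.incl c := congrArg Prod.snd hc
        rw [sub_zero, eq_comm, neg_eq_zero] at h2
        have hc0 : c = 0 := Y.isExtension.incl_injective (h2.trans (map_zero _).symm)
        rw [hc0, map_zero, ← map_sub] at h1
        have := X.isExtension.incl_injective (h1.trans (map_zero _).symm)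
        exact sub_eq_zero.1 this
      exact := fun e => by
        obtain ⟨t, rfl⟩ := sumMk_surjective res ρ hρc hBM X Y e
        constructor
        · intro ht
          have ht1 : X.proj (t : X.E × Y.E).1 = 0 := ht
          have ht2 : Y.proj (t : X.E × Y.E).2 = 0 := by
            rw [← (mem_sumFiber ρ X Y _).1 t.2, ht1, map_zero]
          obtain ⟨c, hc⟩ := (X.isExtension.exact _).1 ht1
          obtain ⟨c', hc'⟩ := (Y.isExtension.exact _).1 ht2
          refine ⟨c + c', ?_⟩
          change sumMk res ρ hρc hBM X Y (sumInclLeft ρ X Y (c + c')) = _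
          rw [sumMk_eq_iff]
          refine ⟨c', ?_⟩
          apply Prod.ext
          · change X.incl (c + c') - (t : X.E × Y.E).1 = X.incl c'
            rw [← hc, map_add]; ring
          · change (0 : Y.E) - (t : X.E × Y.E).2 = - Y.incl c'
            rw [← hc']; ring
        · rintro ⟨m, hm⟩
          have hm' : sumMk res ρ hρc hBM X Y (sumInclLeft ρ X Y m) = sumMk res ρ hρc hBM X Y t := hm
          rw [← hm', sumProj_mk]
          exact proj_incl X m
      mul_incl := fun e m => by
        obtain ⟨t, rfl⟩ := sumMk_surjective res ρ hρc hBM X Y e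
        change sumMk res ρ hρc hBM X Y t * sumMk res ρ hρc hBM X Y (sumInclLeft ρ X Y m) =
          sumMk res ρ hρc hBM X Y (sumInclLeft ρ X Y (X.proj (t : X.E × Y.E).1 • m))
        rw [← map_mul]
        congr 1
        apply Subtype.ext
        apply Prod.ext
        · change (t : X.E × Y.E).1 * X.incl m = _
          rw [X.isExtension.mul_incl]
          rfl
        · change (t : X.E × Y.E).2 * 0 = 0
          rw [mul_zero] }

end Sum

end Groth.Agent.Lib.Helper19.DefTors
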