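import Groth.Agent.Lib.Helper19DefTorsB

/-!
# The difference of two compatible extensions as a `k`-extension of `B₀` (helper19)

In the setting of `Helper19DefTorsA`, with moreover a surjection `C' → C` (kernel `J ⊆ 𝔪`) such
that `B` is a flat `C`-algebra: a `C'`-extension `X` of `B` by `M` is *compatible* (with a pairing
`τ : B₀ → J → M`) when `j • e = incl (τ (ρ (proj e)) j)` for `j ∈ J`.  The Baer difference of two
compatible extensions is killed by `J`, and its reduction modulo `𝔪` is a `k`-extension of `B₀`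
by `M` (`theta`).
-/

set_option autoImplicit false
set_option linter.unusedSectionVars false
set_option linter.style.haveILetI false
universe u

open Exal

namespace Groth.Agent.Lib.Helper19.DefTors

open Groth.Agent.Lib.Helper7.ExalLib

section Theta

variable {k : Type u} [Field k]
  {C' C : Type u} [CommRing C'] [CommRing C] [Algebra k C'] [Algebra C' C]
  {B B₀ M : Type u} [CommRing B] [Algebra C' B] [Algebra C B] [IsScalarTower C' C B]
  [Module.Flat C B] [CommRing B₀] [Algebra k B₀]
  [AddCommGroup M] [Module B₀ M] [Module B M]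
  (res : C' →ₐ[k] k) (ρ : B →+* B₀)
  (hρc : ∀ c : C', ρ (algebraMap C' B c) = algebraMap k B₀ (res c))
  (hρs : Function.Surjective ρ)
  (hρk : RingHom.ker ρ = (RingHom.ker res).map (algebraMap C' B))
  (hBM : ∀ (b : B) (m : M), b • m = ρ b • m)
  (hp : Function.Surjective (algebraMap C' C))
  (hJres : ∀ j : C', algebraMap C' C j = 0 → res j = 0)
  (τ : B₀ → RingHom.ker (algebraMap C' C) → M)

/-- compatibility of an extension with the pairing `τ` -/
def IsCompat (X : Ext C' B M) : Prop :=
  ∀ (e : X.E) (j : RingHom.ker (algebraMap C' C)),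
    algebraMap C' X.E (j : C') * e = X.incl (τ (ρ (X.proj e)) j)

variable {ρ τ} in
/-- the difference of two compatible extensions is killed by `J` -/
lemma diff_killed {E X : Ext C' B M} (hE : IsCompat (C := C) ρ τ E) (hX : IsCompat (C := C) ρ τ X)
    (j : C') (hj : algebraMap C' C j = 0) : algebraMap C' (diff E X).E j = 0 := by
  have h1 : algebraMap C' (diff E X).E j = diffMk E X (algebraMap C' (diffFiber E X) j) :=
    ((diffMk E X).commutes j).symm
  rw [h1, diffMk_eq_zero_iff]
  refine ⟨τ (ρ (E.proj 1)) ⟨j, hj⟩, ?_⟩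
  have h2 : ((algebraMap C' (diffFiber E X) j : diffFiber E X) : E.E × X.E) =
      (algebraMap C' E.E j, algebraMap C' X.E j) := rfl
  rw [h2]
  apply Prod.ext
  · change algebraMap C' E.E j = _
    rw [← hE 1 ⟨j, hj⟩, mul_one]
  · change algebraMap C' X.E j = X.incl (τ (ρ (E.proj 1)) ⟨j, hj⟩)
    have := hX 1 ⟨j, hj⟩
    rw [mul_one, map_one] at this
    rw [this, map_one (E.proj : E.E →ₐ[C'] B)]

/-- The difference of two compatible extensions, reduced modulo the augmentation ideal. -/
noncomputable def theta {E X : Ext C' B M} (hE : IsCompat (C := C) ρ τ E)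
    (hX : IsCompat (C := C) ρ τ X) : Ext k B₀ M :=
  red res ρ hρc hρs hρk hBM (diff E X)
    (h2_of_flat res ρ hρc hBM hp (diff E X) (diff_killed hE hX))

variable {E X : Ext C' B M} (hE : IsCompat (C := C) ρ τ E) (hX : IsCompat (C := C) ρ τ X)

/-- the quotient map from the fibre product -/
noncomputable def thetaMk : diffFiber E X →+* (theta res ρ hρc hρs hρk hBM hp τ hE hX).E :=
  (redMk res (diff E X)).comp (diffMk E X : diffFiber E X →+* (diff E X).E)

lemma thetaMk_surjective : Function.Surjective (thetaMk res ρ hρc hρs hρk hBM hp τ hE hX) :=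
  (redMk_surjective res (diff E X)).comp (diffMk_surjective E X)

lemma theta_proj_mk (d : diffFiber E X) :
    (theta res ρ hρc hρs hρk hBM hp τ hE hX).proj (thetaMk res ρ hρc hρs hρk hBM hp τ hE hX d) =
      ρ (E.proj (d : E.E × X.E).1) := rfl

lemma theta_incl (m : M) :
    (theta res ρ hρc hρs hρk hBM hp τ hE hX).incl m =
      thetaMk res ρ hρc hρs hρk hBM hp τ hE hX (inclLeft E X m) := rfl

lemma thetaMk_algebraMap (c : C') :
    thetaMk res ρ hρc hρs hρk hBM hp τ hE hX (algebraMap C' (diffFiber E X) c) =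
      algebraMap k (theta res ρ hρc hρs hρk hBM hp τ hE hX).E (res c) := by
  change redMk res (diff E X) (diffMk E X (algebraMap C' (diffFiber E X) c)) = _
  rw [AlgHom.commutes, redMk_algebraMap]
  rfl

lemma thetaMk_of_mem_diag (d : diffFiber E X) (hd : d ∈ diagIdeal E X) :
    thetaMk res ρ hρc hρs hρk hBM hp τ hE hX d = 0 := by
  change redMk res (diff E X) (diffMk E X d) = 0
  rw [(diffMk_eq_zero_iff E X d).2 hd, map_zero]

/-- the element `(0, incl m)` of the fibre product -/
def inclRight (E X : Ext C' B M) (m : M) : diffFiber E X :=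
  ⟨(0, X.incl m), by rw [mem_diffFiber]; change E.proj 0 = X.proj (X.incl m); rw [proj_incl, map_zero]⟩

lemma thetaMk_inclRight (m : M) :
    thetaMk res ρ hρc hρs hρk hBM hp τ hE hX (inclRight E X m) =
      - (theta res ρ hρc hρs hρk hBM hp τ hE hX).incl m := by
  rw [theta_incl, eq_neg_iff_add_eq_zero, ← map_add]
  apply thetaMk_of_mem_diag
  refine ⟨m, ?_⟩
  apply Prod.ext
  · change (0 : E.E) + E.incl m = E.incl m
    rw [zero_add]
  · change X.incl m + 0 = X.incl m
    rw [add_zero]

/-- A ring map out of the fibre product killing the diagonal and semilinear over `res` induces a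
`k`-algebra map out of `theta`. -/
noncomputable def thetaLift {R : Type u} [CommRing R] [Algebra k R]
    (δ : diffFiber E X →+* R) (hδd : ∀ d ∈ diagIdeal E X, δ d = 0)
    (hδc : ∀ c : C', δ (algebraMap C' (diffFiber E X) c) = algebraMap k R (res c)) :
    (theta res ρ hρc hρs hρk hBM hp τ hE hX).E →ₐ[k] R :=
  let δ₁ : (diff E X).E →+* R := Ideal.Quotient.lift (diagIdeal E X) δ hδd
  have hδ₁ : ∀ c : C', δ₁ (algebraMap C' (diff E X).E c) = algebraMap k R (res c) := by
    intro c
    have : algebraMap C' (diff E X).E c = diffMk E X (algebraMap C' (diffFiber E X) c) :=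
      ((diffMk E X).commutes c).symm
    rw [this]
    change Ideal.Quotient.lift (diagIdeal E X) δ hδd (Ideal.Quotient.mk _ _) = _
    rw [Ideal.Quotient.lift_mk, hδc]
  { Ideal.Quotient.lift (redIdeal res (diff E X)) δ₁ (by
      intro z hz
      have hle : redIdeal res (diff E X) ≤ RingHom.ker δ₁ := by
        rw [redIdeal, Ideal.map_le_iff_le_comap]
        intro c hc
        rw [Ideal.mem_comap, RingHom.mem_ker, hδ₁, (RingHom.mem_ker).1 hc, map_zero]
      exact (RingHom.mem_ker).1 (hle hz)) with
    commutes' := fun a => by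
      change Ideal.Quotient.lift (redIdeal res (diff E X)) δ₁ _
        (Ideal.Quotient.mk _ (algebraMap C' (diff E X).E (algebraMap k C' a))) = _
      rw [Ideal.Quotient.lift_mk, hδ₁, AlgHom.commutes]
      rfl }

lemma thetaLift_mk {R : Type u} [CommRing R] [Algebra k R]
    (δ : diffFiber E X →+* R) (hδd : ∀ d ∈ diagIdeal E X, δ d = 0)
    (hδc : ∀ c : C', δ (algebraMap C' (diffFiber E X) c) = algebraMap k R (res c))
    (d : diffFiber E X) :
    thetaLift res ρ hρc hρs hρk hBM hp τ hE hX δ hδd hδc
      (thetaMk res ρ hρc hρs hρk hBM hp τ hE hX d) = δ d := rfl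

/-- `Y` is equivalent to `theta E X` as soon as there is a compatible map from the fibre
product. -/
theorem nonempty_theta_equiv (Y : Ext k B₀ M)
    (δ : diffFiber E X →+* Y.E)
    (hδc : ∀ c : C', δ (algebraMap C' (diffFiber E X) c) = algebraMap k Y.E (res c))
    (hδp : ∀ d : diffFiber E X, Y.proj (δ d) = ρ (E.proj (d : E.E × X.E).1))
    (hδl : ∀ m, δ (inclLeft E X m) = Y.incl m)
    (hδr : ∀ m, δ (inclRight E X m) = - Y.incl m) :
    Nonempty ((theta res ρ hρc hρs hρk hBM hp τ hE hX).Equiv Y) := by
  have hδd : ∀ d ∈ diagIdeal E X, δ d = 0 := by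
    rintro d ⟨m, hm⟩
    have : d = inclLeft E X m + inclRight E X m := by
      apply Subtype.ext
      rw [hm]
      apply Prod.ext
      · change E.incl m = E.incl m + 0
        rw [add_zero]
      · change X.incl m = 0 + X.incl m
        rw [zero_add]
    rw [this, map_add, hδl, hδr, add_neg_cancel]
  refine ⟨equivOfHom (thetaLift res ρ hρc hρs hρk hBM hp τ hE hX δ hδd hδc) ?_ ?_⟩
  · intro x
    obtain ⟨d, rfl⟩ := thetaMk_surjective res ρ hρc hρs hρk hBM hp τ hE hX x
    rw [thetaLift_mk, hδp, theta_proj_mk]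
  · intro m
    rw [theta_incl, thetaLift_mk, hδl]

end Theta

end Groth.Agent.Lib.Helper19.DefTors
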