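import Groth.Agent.Lib.Helper19DefTorsC

/-!
# Sum and difference of extensions are inverse to each other (helper19)

In the setting of `Helper19DefTorsC`: `theta` and `sumExt` respect equivalences, every compatible
extension `E` is equivalent to `sumExt X (theta E X)`, and `theta (sumExt X Y) X` is equivalent to
`Y`.
-/

set_option autoImplicit false
set_option linter.unusedSectionVars false
set_option linter.style.haveILetI false
universe u

open Exal

namespace Groth.Agent.Lib.Helper19.DefTors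

open Groth.Agent.Lib.Helper7.ExalLib

section SumUniv

variable {k : Type u} [Field k]
  {C' : Type u} [CommRing C'] [Algebra k C']
  {B B₀ M : Type u} [CommRing B] [Algebra C' B] [CommRing B₀] [Algebra k B₀]
  [AddCommGroup M] [Module B₀ M] [Module B M]
  (res : C' →ₐ[k] k) (ρ : B →+* B₀)
  (hρc : ∀ c : C', ρ (algebraMap C' B c) = algebraMap k B₀ (res c))
  (hρs : Function.Surjective ρ)
  (hBM : ∀ (b : B) (m : M), b • m = ρ b • m)
  (X : Ext C' B M) (Y : Ext k B₀ M)

lemma sumExt_incl (m : M) :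
    (sumExt res ρ hρc hBM X Y).incl m = sumMk res ρ hρc hBM X Y (sumInclLeft ρ X Y m) := rfl

lemma sumExt_proj_mk (t : sumFiber ρ X Y) :
    (sumExt res ρ hρc hBM X Y).proj (sumMk res ρ hρc hBM X Y t) = X.proj (t : X.E × Y.E).1 :=
  rfl

/-- the quotient map, with values in the middle ring of `sumExt` -/
noncomputable def sumMkE : sumFiber ρ X Y →+* (sumExt res ρ hρc hBM X Y).E :=
  sumMk res ρ hρc hBM X Y

lemma sumMkE_surjective : Function.Surjective (sumMkE res ρ hρc hBM X Y) :=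
  sumMk_surjective res ρ hρc hBM X Y

lemma sumMkE_eq_iff (s t : sumFiber ρ X Y) :
    sumMkE res ρ hρc hBM X Y s = sumMkE res ρ hρc hBM X Y t ↔ s - t ∈ antiIdeal ρ hBM X Y :=
  sumMk_eq_iff res ρ hρc hBM X Y s t

lemma sumMkE_eq_zero_iff (t : sumFiber ρ X Y) :
    sumMkE res ρ hρc hBM X Y t = 0 ↔ t ∈ antiIdeal ρ hBM X Y :=
  sumMk_eq_zero_iff res ρ hρc hBM X Y t

lemma sumExt_incl' (m : M) :
    (sumExt res ρ hρc hBM X Y).incl m = sumMkE res ρ hρc hBM X Y (sumInclLeft ρ X Y m) := rfl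

lemma sumExt_incl_right (m : M) :
    (sumExt res ρ hρc hBM X Y).incl m = sumMkE res ρ hρc hBM X Y (sumInclRight ρ X Y m) :=
  sumMk_inclLeft_eq res ρ hρc hBM X Y m

lemma sumExt_proj_mkE (t : sumFiber ρ X Y) :
    (sumExt res ρ hρc hBM X Y).proj (sumMkE res ρ hρc hBM X Y t) = X.proj (t : X.E × Y.E).1 :=
  rfl

lemma algebraMap_sumExt (c : C') :
    algebraMap C' (sumExt res ρ hρc hBM X Y).E c =
      sumMkE res ρ hρc hBM X Y (sumStr res ρ hρc X Y c) := rfl

/-- `Z` is equivalent to `sumExt X Y` as soon as there is a compatible map from the fibre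
product. -/
theorem nonempty_sumExt_equiv (Z : Ext C' B M)
    (σ : sumFiber ρ X Y →+* Z.E)
    (hσc : ∀ c : C', σ (sumStr res ρ hρc X Y c) = algebraMap C' Z.E c)
    (hσp : ∀ t : sumFiber ρ X Y, Z.proj (σ t) = X.proj (t : X.E × Y.E).1)
    (hσl : ∀ m, σ (sumInclLeft ρ X Y m) = Z.incl m)
    (hσr : ∀ m, σ (sumInclRight ρ X Y m) = Z.incl m) :
    Nonempty ((sumExt res ρ hρc hBM X Y).Equiv Z) := by
  have hσa : ∀ t ∈ antiIdeal ρ hBM X Y, σ t = 0 := by
    rintro t ⟨m, hm⟩
    have : t = sumInclLeft ρ X Y m - sumInclRight ρ X Y m := by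
      apply Subtype.ext
      rw [hm]
      apply Prod.ext
      · change X.incl m = X.incl m - 0
        rw [sub_zero]
      · change - Y.incl m = 0 - Y.incl m
        rw [zero_sub]
    rw [this, map_sub, hσl, hσr, sub_self]
  let f : (sumExt res ρ hρc hBM X Y).E →ₐ[C'] Z.E :=
    { Ideal.Quotient.lift (antiIdeal ρ hBM X Y) σ hσa with
      commutes' := fun c => by
        change Ideal.Quotient.lift (antiIdeal ρ hBM X Y) σ hσa
          (Ideal.Quotient.mk _ (sumStr res ρ hρc X Y c)) = _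
        rw [Ideal.Quotient.lift_mk, hσc] }
  have hf : ∀ t, f (sumMk res ρ hρc hBM X Y t) = σ t := fun t => rfl
  refine ⟨equivOfHom f ?_ ?_⟩
  · intro x
    obtain ⟨t, rfl⟩ := sumMk_surjective res ρ hρc hBM X Y x
    rw [hf, hσp, sumExt_proj_mk]
  · intro m
    rw [sumExt_incl, hf, hσl]

end SumUniv


section Inverse

variable {k : Type u} [Field k]
  {C' C : Type u} [CommRing C'] [CommRing C] [Algebra k C'] [Algebra C' C]
  {B B₀ M : Type u} [CommRing B] [Algebra C' B] [Algebra C B] [IsScalarTower C' C B]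
  [Module.Flat C B] [CommRing B₀] [Algebra k B₀]
  [AddCommGroup M] [Module B₀ M] [Module B M]
  (res : C' →ₐ[k] k) (ρ : B →+* B₀)
  (hρc : ∀ c : C', ρ (algebraMap C' B c) = algebraMap k B₀ (res c))
  (hρs : Function.Surjective ρ)
  (hρk : RingHom.ker ρ = (RingHom.ker res).map (algebraMap C' B))
  (hBM : ∀ (b : B) (m : M), b • m = ρ b • m)
  (hp : Function.Surjective (algebraMap C' C))
  (hJres : ∀ j : C', algebraMap C' C j = 0 → res j = 0)
  (τ : B₀ → RingHom.ker (algebraMap C' C) → M)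

include hJres in
/-- the sum of a compatible extension and a `k`-extension is compatible -/
theorem isCompat_sumExt {X : Ext C' B M} (hX : IsCompat (C := C) ρ τ X) (Y : Ext k B₀ M) :
    IsCompat (C := C) ρ τ (sumExt res ρ hρc hBM X Y) := by
  intro e j
  have hj : algebraMap C' C (j : C') = 0 := j.2
  obtain ⟨t, rfl⟩ := sumMk_surjective res ρ hρc hBM X Y e
  rw [sumExt_proj_mk, sumExt_incl]
  change sumMk res ρ hρc hBM X Y (sumStr res ρ hρc X Y (j : C')) * sumMk res ρ hρc hBM X Y t = _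
  rw [← map_mul]
  congr 1
  apply Subtype.ext
  apply Prod.ext
  · change algebraMap C' X.E j * (t : X.E × Y.E).1 = X.incl _
    exact hX _ j
  · change algebraMap k Y.E (res (j : C')) * (t : X.E × Y.E).2 = 0
    rw [hJres j hj, map_zero, zero_mul]

/-- the map of fibre products induced by an equivalence in the first variable -/
noncomputable def diffFiberMap {E E' : Ext C' B M} (X : Ext C' B M) (χ : E.Equiv E') :
    diffFiber E X →ₐ[C'] diffFiber E' X :=
  AlgHom.codRestrict
    ((((χ.toAlgEquiv : E.E →ₐ[C'] E'.E).comp (AlgHom.fst C' E.E X.E)).prod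
      (AlgHom.snd C' E.E X.E)).comp (diffFiber E X).val) (diffFiber E' X) (fun d => by
      rw [mem_diffFiber]
      change E'.proj (χ.toAlgEquiv (d : E.E × X.E).1) = X.proj (d : E.E × X.E).2
      rw [χ.proj_apply]
      exact (mem_diffFiber E X _).1 d.2)

lemma coe_diffFiberMap {E E' : Ext C' B M} (X : Ext C' B M) (χ : E.Equiv E') (d : diffFiber E X) :
    (diffFiberMap X χ d : E'.E × X.E) = (χ.toAlgEquiv (d : E.E × X.E).1, (d : E.E × X.E).2) := rfl

/-- `theta` respects equivalences in the first variable -/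
theorem theta_congr {E E' X : Ext C' B M} (hE : IsCompat (C := C) ρ τ E)
    (hE' : IsCompat (C := C) ρ τ E') (hX : IsCompat (C := C) ρ τ X) (χ : E.Equiv E') :
    Nonempty ((theta res ρ hρc hρs hρk hBM hp τ hE hX).Equiv
      (theta res ρ hρc hρs hρk hBM hp τ hE' hX)) := by
  refine nonempty_theta_equiv res ρ hρc hρs hρk hBM hp τ hE hX _
    ((thetaMk res ρ hρc hρs hρk hBM hp τ hE' hX).comp (diffFiberMap X χ : _ →+* _)) ?_ ?_ ?_ ?_
  · intro c
    rw [RingHom.comp_apply]
    change thetaMk res ρ hρc hρs hρk hBM hp τ hE' hX (diffFiberMap X χ (algebraMap C' _ c)) = _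
    rw [AlgHom.commutes, thetaMk_algebraMap]
  · intro d
    rw [RingHom.comp_apply]
    change (theta res ρ hρc hρs hρk hBM hp τ hE' hX).proj
      (thetaMk res ρ hρc hρs hρk hBM hp τ hE' hX (diffFiberMap X χ d)) = _
    rw [theta_proj_mk, coe_diffFiberMap, χ.proj_apply]
  · intro m
    rw [RingHom.comp_apply, theta_incl]
    congr 1
    apply Subtype.ext
    change (diffFiberMap X χ (inclLeft E X m) : E'.E × X.E) = (E'.incl m, 0)
    rw [coe_diffFiberMap]
    apply Prod.ext
    · exact χ.apply_incl m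
    · rfl
  · intro m
    rw [RingHom.comp_apply, ← thetaMk_inclRight]
    congr 1
    apply Subtype.ext
    change (diffFiberMap X χ (inclRight E X m) : E'.E × X.E) = (0, X.incl m)
    rw [coe_diffFiberMap]
    apply Prod.ext
    · change χ.toAlgEquiv 0 = 0
      exact map_zero _
    · rfl

/-- the map of fibre products induced by an equivalence in the second variable -/
noncomputable def sumFiberMap (X : Ext C' B M) {Y Y' : Ext k B₀ M} (χ : Y.Equiv Y') :
    sumFiber ρ X Y →+* sumFiber ρ X Y' :=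
  RingHom.codRestrict
    (((RingHom.fst X.E Y.E).prod
      ((χ.toAlgEquiv : Y.E →+* Y'.E).comp (RingHom.snd X.E Y.E))).comp (sumFiber ρ X Y).subtype)
    (sumFiber ρ X Y') (fun t => by
      rw [mem_sumFiber]
      change ρ (X.proj (t : X.E × Y.E).1) = Y'.proj (χ.toAlgEquiv (t : X.E × Y.E).2)
      rw [χ.proj_apply]
      exact (mem_sumFiber ρ X Y _).1 t.2)

lemma coe_sumFiberMap (X : Ext C' B M) {Y Y' : Ext k B₀ M} (χ : Y.Equiv Y') (t : sumFiber ρ X Y) :
    (sumFiberMap ρ X χ t : X.E × Y'.E) = ((t : X.E × Y.E).1, χ.toAlgEquiv (t : X.E × Y.E).2) := rfl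

/-- `sumExt` respects equivalences in the second variable -/
theorem sumExt_congr (X : Ext C' B M) {Y Y' : Ext k B₀ M} (χ : Y.Equiv Y') :
    Nonempty ((sumExt res ρ hρc hBM X Y).Equiv (sumExt res ρ hρc hBM X Y')) := by
  refine nonempty_sumExt_equiv res ρ hρc hBM X Y _
    ((sumMkE res ρ hρc hBM X Y').comp (sumFiberMap ρ X χ)) ?_ ?_ ?_ ?_
  · intro c
    rw [RingHom.comp_apply, algebraMap_sumExt]
    congr 1
    apply Subtype.ext
    rw [coe_sumFiberMap, coe_sumStr, coe_sumStr]
    apply Prod.ext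
    · rfl
    · exact χ.toAlgEquiv.commutes (res c)
  · intro t
    rw [RingHom.comp_apply, sumExt_proj_mkE, coe_sumFiberMap]
  · intro m
    rw [RingHom.comp_apply, sumExt_incl']
    congr 1
    apply Subtype.ext
    rw [coe_sumFiberMap]
    apply Prod.ext
    · rfl
    · change χ.toAlgEquiv 0 = 0
      exact map_zero _
  · intro m
    rw [RingHom.comp_apply, sumExt_incl_right]
    congr 1
    apply Subtype.ext
    rw [coe_sumFiberMap]
    apply Prod.ext
    · rfl
    · exact χ.apply_incl m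

section F

variable {E X : Ext C' B M} (hE : IsCompat (C := C) ρ τ E) (hX : IsCompat (C := C) ρ τ X)

/-- the first projection of the fibre product -/
noncomputable def dfFst (E X : Ext C' B M) : diffFiber E X →+* E.E :=
  (RingHom.fst E.E X.E).comp ((diffFiber E X).val : diffFiber E X →+* E.E × X.E)

/-- the second projection of the fibre product -/
noncomputable def dfSnd (E X : Ext C' B M) : diffFiber E X →+* X.E :=
  (RingHom.snd E.E X.E).comp ((diffFiber E X).val : diffFiber E X →+* E.E × X.E)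

lemma dfFst_apply (d : diffFiber E X) : dfFst E X d = (d : E.E × X.E).1 := rfl

lemma dfSnd_apply (d : diffFiber E X) : dfSnd E X d = (d : E.E × X.E).2 := rfl

lemma dfFst_surjective (E X : Ext C' B M) : Function.Surjective (dfFst E X) := by
  intro e
  obtain ⟨x, hx⟩ := X.isExtension.proj_surjective (E.proj e)
  exact ⟨⟨(e, x), (mem_diffFiber E X _).2 hx.symm⟩, rfl⟩

/-- the map `d ↦ (d.2, [d])` from the fibre product `E ×_B X` to `X ×_{B₀} theta E X` -/
noncomputable def toSumFiber :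
    diffFiber E X →+* sumFiber ρ X (theta res ρ hρc hρs hρk hBM hp τ hE hX) :=
  RingHom.codRestrict ((dfSnd E X).prod (thetaMk res ρ hρc hρs hρk hBM hp τ hE hX))
    (sumFiber ρ X (theta res ρ hρc hρs hρk hBM hp τ hE hX)) (fun d => by
      rw [mem_sumFiber]
      change ρ (X.proj (d : E.E × X.E).2) = (theta res ρ hρc hρs hρk hBM hp τ hE hX).proj
        (thetaMk res ρ hρc hρs hρk hBM hp τ hE hX d)
      rw [theta_proj_mk, (mem_diffFiber E X _).1 d.2])

lemma coe_toSumFiber (d : diffFiber E X) :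
    (toSumFiber res ρ hρc hρs hρk hBM hp τ hE hX d :
      X.E × (theta res ρ hρc hρs hρk hBM hp τ hE hX).E) =
      ((d : E.E × X.E).2, thetaMk res ρ hρc hρs hρk hBM hp τ hE hX d) := rfl

/-- Every compatible extension is the sum of `X` and its difference with `X`. -/
theorem equiv_sumExt_theta :
    Nonempty (E.Equiv (sumExt res ρ hρc hBM X (theta res ρ hρc hρs hρk hBM hp τ hE hX))) := by
  set Θ := theta res ρ hρc hρs hρk hBM hp τ hE hX with hΘ
  let g₂ : diffFiber E X →+* (sumExt res ρ hρc hBM X Θ).E :=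
    (sumMkE res ρ hρc hBM X Θ).comp (toSumFiber res ρ hρc hρs hρk hBM hp τ hE hX)
  have hg₂ : ∀ d, g₂ d = sumMkE res ρ hρc hBM X Θ
      (toSumFiber res ρ hρc hρs hρk hBM hp τ hE hX d) := fun d => rfl
  have hker : RingHom.ker (dfFst E X) ≤ RingHom.ker g₂ := by
    intro d hd
    rw [RingHom.mem_ker, dfFst_apply] at hd
    have h1 : X.proj (d : E.E × X.E).2 = 0 := by
      rw [← (mem_diffFiber E X _).1 d.2, hd, map_zero]
    obtain ⟨m, hm⟩ := (X.isExtension.exact _).1 h1
    have hd' : d = inclRight E X m := by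
      apply Subtype.ext
      apply Prod.ext
      · exact hd
      · exact hm.symm
    rw [RingHom.mem_ker, hg₂, sumMkE_eq_zero_iff]
    refine ⟨m, ?_⟩
    rw [coe_toSumFiber, hd', thetaMk_inclRight]
    rfl
  let f₀ : E.E →+* (sumExt res ρ hρc hBM X Θ).E :=
    RingHom.liftOfRightInverse (dfFst E X) (Function.surjInv (dfFst_surjective E X))
      (Function.rightInverse_surjInv (dfFst_surjective E X)) ⟨g₂, hker⟩
  have hf₀ : ∀ d, f₀ (dfFst E X d) = g₂ d := fun d =>
    RingHom.liftOfRightInverse_comp_apply (dfFst E X) (Function.surjInv (dfFst_surjective E X))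
      (Function.rightInverse_surjInv (dfFst_surjective E X)) ⟨g₂, hker⟩ d
  let f : E.E →ₐ[C'] (sumExt res ρ hρc hBM X Θ).E :=
    { f₀ with
      commutes' := fun c => by
        have h1 : algebraMap C' E.E c = dfFst E X (algebraMap C' (diffFiber E X) c) := rfl
        change f₀ (algebraMap C' E.E c) = _
        rw [h1, hf₀, hg₂, algebraMap_sumExt]
        congr 1
        apply Subtype.ext
        rw [coe_toSumFiber, coe_sumStr, thetaMk_algebraMap]
        rfl }
  have hf : ∀ d, f (dfFst E X d) = g₂ d := hf₀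
  refine ⟨equivOfHom f ?_ ?_⟩
  · intro e
    obtain ⟨d, rfl⟩ := dfFst_surjective E X e
    rw [hf, hg₂, sumExt_proj_mkE, coe_toSumFiber, dfFst_apply, (mem_diffFiber E X _).1 d.2]
  · intro m
    have h1 : E.incl m = dfFst E X (inclLeft E X m) := rfl
    rw [h1, hf, hg₂, sumExt_incl_right]
    congr 1

end F

section G

variable {X : Ext C' B M} (hX : IsCompat (C := C) ρ τ X) (Y : Ext k B₀ M)

lemma sum_solve_exists (s : (sumExt res ρ hρc hBM X Y).E) (x : X.E)
    (h : (sumExt res ρ hρc hBM X Y).proj s = X.proj x) :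
    ∃ (y : Y.E) (h' : (x, y) ∈ sumFiber ρ X Y), s = sumMkE res ρ hρc hBM X Y ⟨(x, y), h'⟩ := by
  obtain ⟨t, rfl⟩ := sumMkE_surjective res ρ hρc hBM X Y s
  rw [sumExt_proj_mkE] at h
  have h1 : X.proj ((t : X.E × Y.E).1 - x) = 0 := by rw [map_sub, h, sub_self]
  obtain ⟨m, hm⟩ := (X.isExtension.exact _).1 h1
  have h' : (x, (t : X.E × Y.E).2 + Y.incl m) ∈ sumFiber ρ X Y := by
    rw [mem_sumFiber]
    change ρ (X.proj x) = Y.proj ((t : X.E × Y.E).2 + Y.incl m)
    rw [map_add, proj_incl, add_zero, ← h]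
    exact (mem_sumFiber ρ X Y _).1 t.2
  refine ⟨_, h', ?_⟩
  rw [sumMkE_eq_iff]
  refine ⟨m, ?_⟩
  apply Prod.ext
  · change (t : X.E × Y.E).1 - x = X.incl m
    exact hm.symm
  · change (t : X.E × Y.E).2 - ((t : X.E × Y.E).2 + Y.incl m) = - Y.incl m
    ring

lemma sum_solve_unique (x : X.E) (y y' : Y.E) (h : (x, y) ∈ sumFiber ρ X Y)
    (h' : (x, y') ∈ sumFiber ρ X Y)
    (he : sumMkE res ρ hρc hBM X Y ⟨(x, y), h⟩ = sumMkE res ρ hρc hBM X Y ⟨(x, y'), h'⟩) :
    y = y' := by
  rw [sumMkE_eq_iff] at he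
  obtain ⟨n, hn⟩ := he
  have h1 : x - x = X.incl n := congrArg Prod.fst hn
  have h2 : y - y' = - Y.incl n := congrArg Prod.snd hn
  rw [sub_self] at h1
  have hn0 : n = 0 := X.isExtension.incl_injective (h1.symm.trans (map_zero _).symm)
  rw [hn0, map_zero, neg_zero] at h2
  exact sub_eq_zero.1 h2

/-- the unique `y` with `d.1 = [(d.2, y)]` -/
noncomputable def sumSolve (d : diffFiber (sumExt res ρ hρc hBM X Y) X) : Y.E :=
  (sum_solve_exists res ρ hρc hBM Y d.1.1 d.1.2
    ((mem_diffFiber _ X _).1 d.2)).choose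

lemma sumSolve_spec (d : diffFiber (sumExt res ρ hρc hBM X Y) X) :
    ∃ h' : (d.1.2, sumSolve res ρ hρc hBM Y d) ∈ sumFiber ρ X Y,
      d.1.1 = sumMkE res ρ hρc hBM X Y ⟨(d.1.2, sumSolve res ρ hρc hBM Y d), h'⟩ :=
  (sum_solve_exists res ρ hρc hBM Y d.1.1 d.1.2
    ((mem_diffFiber _ X _).1 d.2)).choose_spec

lemma sumSolve_eq (d : diffFiber (sumExt res ρ hρc hBM X Y) X) (y : Y.E)
    (h' : (d.1.2, y) ∈ sumFiber ρ X Y)
    (hy : d.1.1 = sumMkE res ρ hρc hBM X Y ⟨(d.1.2, y), h'⟩) :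
    sumSolve res ρ hρc hBM Y d = y := by
  obtain ⟨h'', hs⟩ := sumSolve_spec res ρ hρc hBM Y d
  exact sum_solve_unique res ρ hρc hBM Y _ _ _ h'' h' (hs.symm.trans hy)

/-- `sumSolve` as a ring homomorphism -/
noncomputable def sumSolveHom : diffFiber (sumExt res ρ hρc hBM X Y) X →+* Y.E where
  toFun := sumSolve res ρ hρc hBM Y
  map_one' := by
    refine sumSolve_eq res ρ hρc hBM Y 1 1 (sumFiber ρ X Y).one_mem ?_
    exact (map_one (sumMkE res ρ hρc hBM X Y)).symm
  map_zero' := by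
    refine sumSolve_eq res ρ hρc hBM Y 0 0 (sumFiber ρ X Y).zero_mem ?_
    exact (map_zero (sumMkE res ρ hρc hBM X Y)).symm
  map_mul' := fun d d' => by
    obtain ⟨h1, hs1⟩ := sumSolve_spec res ρ hρc hBM Y d
    obtain ⟨h2, hs2⟩ := sumSolve_spec res ρ hρc hBM Y d'
    refine sumSolve_eq res ρ hρc hBM Y (d * d') _ ((sumFiber ρ X Y).mul_mem h1 h2) ?_
    change d.1.1 * d'.1.1 = _
    rw [hs1, hs2, ← map_mul]
    rfl
  map_add' := fun d d' => by
    obtain ⟨h1, hs1⟩ := sumSolve_spec res ρ hρc hBM Y d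
    obtain ⟨h2, hs2⟩ := sumSolve_spec res ρ hρc hBM Y d'
    refine sumSolve_eq res ρ hρc hBM Y (d + d') _ ((sumFiber ρ X Y).add_mem h1 h2) ?_
    change d.1.1 + d'.1.1 = _
    rw [hs1, hs2, ← map_add]
    rfl

include hJres in
/-- The difference of `X + Y` and `X` is `Y`. -/
theorem theta_sumExt_equiv :
    Nonempty ((theta res ρ hρc hρs hρk hBM hp τ
      (isCompat_sumExt res ρ hρc hBM hJres τ hX Y) hX).Equiv Y) := by
  refine nonempty_theta_equiv res ρ hρc hρs hρk hBM hp τ _ hX Y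
    (sumSolveHom res ρ hρc hBM Y) ?_ ?_ ?_ ?_
  · intro c
    refine sumSolve_eq res ρ hρc hBM Y _ _ (sumStr res ρ hρc X Y c).2 ?_
    rfl
  · intro d
    obtain ⟨h1, hs1⟩ := sumSolve_spec res ρ hρc hBM Y d
    rw [hs1, sumExt_proj_mkE]
    exact ((mem_sumFiber ρ X Y _).1 h1).symm
  · intro m
    refine sumSolve_eq res ρ hρc hBM Y _ _ (sumInclRight ρ X Y m).2 ?_
    exact sumExt_incl_right res ρ hρc hBM X Y m
  · intro m
    have hmem : (X.incl m, - Y.incl m) ∈ sumFiber ρ X Y := by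
      rw [mem_sumFiber]
      change ρ (X.proj (X.incl m)) = Y.proj (- Y.incl m)
      rw [proj_incl, map_neg, proj_incl, neg_zero, map_zero]
    refine sumSolve_eq res ρ hρc hBM Y _ _ hmem ?_
    change (0 : (sumExt res ρ hρc hBM X Y).E) =
      sumMkE res ρ hρc hBM X Y ⟨(X.incl m, - Y.incl m), hmem⟩
    symm
    rw [sumMkE_eq_zero_iff]
    exact ⟨m, rfl⟩

end G

end Inverse

end Groth.Agent.Lib.Helper19.DefTors
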