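import Groth.Agent.Lib.Helper19DefTorsD

/-!
# Flat algebras lifting `B` as extensions by `B₀ ⊗ J` (helper19)

In the setting of `Helper19DefTorsC` with `M = B₀ ⊗[k] J`, `J = ker (C' → C)` killed by the
augmentation ideal: a flat `C'`-algebra `E` with a surjection onto `B` with kernel `J E` is a
compatible `C'`-extension of `B` by `B₀ ⊗ J` (`extOfFlat`); conversely for a compatible extension
the kernels of the maps to `B` and `B₀` are `J E` and `𝔪 E`, and the sum `X + Y` is flat when `X`
is.
-/

set_option autoImplicit false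
set_option linter.unusedSectionVars false
set_option linter.style.haveILetI false
universe u

open Exal TensorProduct

namespace Groth.Agent.Lib.Helper19.DefTors

open Groth.Agent.Lib.Helper7.ExalLib

section OfFlat

variable {k : Type u} [Field k]
  {C' C : Type u} [CommRing C'] [CommRing C] [Algebra k C'] [Algebra C' C]
  {B B₀ : Type u} [CommRing B] [Algebra C' B] [Algebra C B] [IsScalarTower C' C B]
  [CommRing B₀] [Algebra k B₀]
  (res : C' →ₐ[k] k) (ρ : B →+* B₀)
  (hρc : ∀ c : C', ρ (algebraMap C' B c) = algebraMap k B₀ (res c))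
  (hρs : Function.Surjective ρ)
  (hρk : RingHom.ker ρ = (RingHom.ker res).map (algebraMap C' B))
  (hJm : ∀ c ∈ RingHom.ker res, ∀ j ∈ RingHom.ker (algebraMap C' C), c * j = 0)
  (hJres : ∀ j : C', algebraMap C' C j = 0 → res j = 0)

/-- the pairing `B₀ × J → B₀ ⊗ J` -/
def tau (k : Type u) [Field k] {C' C : Type u} [CommRing C'] [CommRing C] [Algebra k C']
    [Algebra C' C] (B₀ : Type u) [CommRing B₀] [Algebra k B₀] :
    B₀ → RingHom.ker (algebraMap C' C) → B₀ ⊗[k] (RingHom.ker (algebraMap C' C)) :=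
  fun b j => b ⊗ₜ[k] j

variable {E : Type u} [CommRing E] [Algebra C' E] (π : E →ₐ[C'] B)
  (hπs : Function.Surjective π)
  (hπk : RingHom.ker π = (RingHom.ker (algebraMap C' C)).map (algebraMap C' E))

include hρc hρk hπs hπk hJm hJres in
/-- multiplication by an element of `J` only depends on the class in `B₀` -/
lemma smul_eq_of_rho_eq (j : C') (hj : algebraMap C' C j = 0) (e e' : E)
    (h : ρ (π e) = ρ (π e')) : algebraMap C' E j * e = algebraMap C' E j * e' := by
  have h1 : π (e - e') ∈ RingHom.ker ρ := by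
    rw [RingHom.mem_ker, map_sub, map_sub, h, sub_self]
  rw [hρk] at h1
  have h3 : (RingHom.ker res).map (algebraMap C' B) =
      ((RingHom.ker res).map (algebraMap C' E)).map (π : E →+* B) := by
    rw [Ideal.map_map]
    congr 1
    ext c
    exact (π.commutes c).symm
  rw [h3] at h1
  obtain ⟨e'', he'', hee''⟩ := (Ideal.mem_map_iff_of_surjective (π : E →+* B) hπs).1 h1
  have h4 : e - e' - e'' ∈ RingHom.ker (π : E →+* B) := by
    rw [RingHom.mem_ker, map_sub]
    exact sub_eq_zero.2 hee''.symm
  have hkill1 : ∀ z ∈ (RingHom.ker res).map (algebraMap C' E), algebraMap C' E j * z = 0 := by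
    intro z hz
    refine Submodule.span_induction (p := fun z _ => algebraMap C' E j * z = 0) ?_ ?_ ?_ ?_ hz
    · rintro _ ⟨c, hc, rfl⟩
      rw [← map_mul, mul_comm, hJm c hc j hj, map_zero]
    · exact mul_zero _
    · intro a b _ _ ha hb
      rw [mul_add, ha, hb, add_zero]
    · intro a b _ hb
      rw [smul_eq_mul, mul_left_comm, hb, mul_zero]
  have hkill2 : ∀ z ∈ (RingHom.ker (algebraMap C' C)).map (algebraMap C' E),
      algebraMap C' E j * z = 0 := by
    intro z hz
    refine Submodule.span_induction (p := fun z _ => algebraMap C' E j * z = 0) ?_ ?_ ?_ ?_ hz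
    · rintro _ ⟨c, hc, rfl⟩
      have hc' : c ∈ RingHom.ker res := (RingHom.mem_ker).2 (hJres c hc)
      rw [← map_mul, mul_comm, hJm c hc' j hj, map_zero]
    · exact mul_zero _
    · intro a b _ _ ha hb
      rw [mul_add, ha, hb, add_zero]
    · intro a b _ hb
      rw [smul_eq_mul, mul_left_comm, hb, mul_zero]
  have h5 : (RingHom.ker (π : E →+* B)) = RingHom.ker π := rfl
  rw [h5, hπk] at h4
  have h6 := hkill2 _ h4
  have h7 := hkill1 _ he''
  have : e = e' + e'' + (e - e' - e'') := by ring
  rw [this, mul_add, mul_add, h6, h7, add_zero, add_zero]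

include hρs hπs in
lemma rhoPi_surjective : Function.Surjective fun e : E => ρ (π e) := hρs.comp hπs

/-- a set-theoretic section of `ρ ∘ π` -/
noncomputable def sec (b : B₀) : E := Function.surjInv (rhoPi_surjective ρ hρs π hπs) b

lemma rhoPi_sec (b : B₀) : ρ (π (sec ρ hρs π hπs b)) = b :=
  Function.surjInv_eq (rhoPi_surjective ρ hρs π hπs) b

/-- the map `B₀ ⊗ J → E`, `b ⊗ j ↦ j • (any lift of b)` -/
noncomputable def muHom : B₀ ⊗[k] (RingHom.ker (algebraMap C' C)) →+ E :=
  TensorProduct.liftAddHom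
    (AddMonoidHom.mk' (fun b : B₀ =>
      (AddMonoidHom.mk' (fun j : RingHom.ker (algebraMap C' C) =>
        algebraMap C' E (j : C') * sec ρ hρs π hπs b) (fun j j' => by
          rw [Submodule.coe_add, map_add, add_mul]) : RingHom.ker (algebraMap C' C) →+ E))
      (fun b b' => by
        ext j
        change algebraMap C' E (j : C') * sec ρ hρs π hπs (b + b') =
          algebraMap C' E (j : C') * sec ρ hρs π hπs b + algebraMap C' E (j : C') * sec ρ hρs π hπs b'
        rw [← mul_add]
        refine smul_eq_of_rho_eq res ρ hρc hρk hJm hJres π hπs hπk _ j.2 _ _ ?_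
        rw [map_add, map_add, rhoPi_sec, rhoPi_sec, rhoPi_sec]))
    (fun a b j => by
      change algebraMap C' E (j : C') * sec ρ hρs π hπs (a • b) =
        algebraMap C' E ((a • j : RingHom.ker (algebraMap C' C)) : C') * sec ρ hρs π hπs b
      have h1 : ((a • j : RingHom.ker (algebraMap C' C)) : C') = algebraMap k C' a * (j : C') := by
        change a • (j : C') = _
        rw [Algebra.smul_def]
      rw [h1, map_mul, mul_comm (algebraMap C' E (algebraMap k C' a)), mul_assoc]
      refine smul_eq_of_rho_eq res ρ hρc hρk hJm hJres π hπs hπk _ j.2 _ _ ?_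
      rw [rhoPi_sec, map_mul, map_mul, rhoPi_sec, AlgHom.commutes, hρc, AlgHom.commutes,
        Algebra.smul_def]
      rfl)

include hρc hρk hJm hJres hπk in
lemma muHom_tmul (e : E) (j : RingHom.ker (algebraMap C' C)) :
    muHom res ρ hρc hρs hρk hJm hJres π hπs hπk (ρ (π e) ⊗ₜ[k] j) = algebraMap C' E (j : C') * e := by
  change algebraMap C' E (j : C') * sec ρ hρs π hπs (ρ (π e)) = _
  refine smul_eq_of_rho_eq res ρ hρc hρk hJm hJres π hπs hπk _ j.2 _ _ ?_
  rw [rhoPi_sec]

include hρc hρk hJm hJres hπk in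
/-- the map `muHom` is injective when `E` is flat over `C'` -/
theorem muHom_injective [Module.Flat C' E] :
    Function.Injective (muHom res ρ hρc hρs hρk hJm hJres π hπs hπk) := by
  classical
  rw [injective_iff_map_eq_zero]
  intro t ht
  let 𝒞 := Module.Basis.ofVectorSpace k (RingHom.ker (algebraMap C' C))
  obtain ⟨c, rfl⟩ := TensorProduct.eq_repr_basis_right 𝒞 t
  suffices hc : c = 0 by rw [hc, Finsupp.sum_zero_index]
  -- the relation in `E`
  have hrel : ∑ i : c.support, ((𝒞 i : RingHom.ker (algebraMap C' C)) : C') •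
      sec ρ hρs π hπs (c i) = 0 := by
    rw [Finsupp.sum, map_sum] at ht
    rw [← ht, Finset.sum_coe_sort c.support
      (fun i => ((𝒞 i : RingHom.ker (algebraMap C' C)) : C') • sec ρ hρs π hπs (c i))]
    refine Finset.sum_congr rfl fun i _ => ?_
    rw [Algebra.smul_def]
    rfl
  obtain ⟨n, a, y, hy, ha⟩ := Module.Flat.isTrivialRelation_of_sum_smul_eq_zero (R := C') (M := E)
    (f := fun i : c.support => ((𝒞 i : RingHom.ker (algebraMap C' C)) : C'))
    (x := fun i : c.support => sec ρ hρs π hπs (c i)) hrel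
  replace hy : ∀ i : c.support, sec ρ hρs π hπs (c i) = ∑ l, a i l • y l := hy
  replace ha : ∀ l, ∑ i : c.support, ((𝒞 i : RingHom.ker (algebraMap C' C)) : C') * a i l = 0 := ha
  -- the coefficients lie in the augmentation ideal
  have hres : ∀ (i : c.support) (l : Fin n), res (a i l) = 0 := by
    intro i l
    have h1 : ∑ i : c.support, res (a i l) • 𝒞 i = 0 := by
      apply Subtype.ext
      rw [Submodule.coe_sum, Submodule.coe_zero, ← ha l]
      refine Finset.sum_congr rfl fun i _ => ?_
      change res (a i l) • ((𝒞 i : RingHom.ker (algebraMap C' C)) : C') = _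
      have h2 : a i l - algebraMap k C' (res (a i l)) ∈ RingHom.ker res := by
        rw [RingHom.mem_ker, map_sub, AlgHom.commutes]
        exact sub_self _
      have h3 := hJm _ h2 _ (𝒞 i).2
      rw [sub_mul, sub_eq_zero] at h3
      rw [Algebra.smul_def, ← h3, mul_comm]
    have hli : LinearIndependent k (fun i : c.support => 𝒞 i) :=
      𝒞.linearIndependent.comp _ Subtype.val_injective
    exact (Fintype.linearIndependent_iff.1 hli) _ h1 i
  ext i
  rw [Finsupp.zero_apply]
  by_contra hi
  have him : i ∈ c.support := Finsupp.mem_support_iff.2 hi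
  apply hi
  have h4 := congrArg (fun e => ρ (π e)) (hy ⟨i, him⟩)
  simp only [rhoPi_sec] at h4
  rw [h4, map_sum, map_sum]
  refine Finset.sum_eq_zero fun l _ => ?_
  rw [Algebra.smul_def, map_mul, map_mul, AlgHom.commutes, hρc, hres, map_zero, zero_mul]

section Ext

variable [Module B (B₀ ⊗[k] (RingHom.ker (algebraMap C' C)))]
  (hBM : ∀ (b : B) (m : B₀ ⊗[k] (RingHom.ker (algebraMap C' C))), b • m = ρ b • m)

include hρc hρk hJm hJres hπk hBM in
lemma mul_muHom (e : E) (t : B₀ ⊗[k] (RingHom.ker (algebraMap C' C))) :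
    e * muHom res ρ hρc hρs hρk hJm hJres π hπs hπk t =
      muHom res ρ hρc hρs hρk hJm hJres π hπs hπk (π e • t) := by
  induction t using TensorProduct.induction_on with
  | zero => rw [map_zero, mul_zero, smul_zero, map_zero]
  | tmul b j =>
    obtain ⟨e', rfl⟩ := rhoPi_surjective ρ hρs π hπs b
    change e * muHom res ρ hρc hρs hρk hJm hJres π hπs hπk (ρ (π e') ⊗ₜ[k] j) =
      muHom res ρ hρc hρs hρk hJm hJres π hπs hπk (π e • (ρ (π e') ⊗ₜ[k] j))
    rw [muHom_tmul, hBM, TensorProduct.smul_tmul', smul_eq_mul, ← map_mul, ← map_mul, muHom_tmul]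
    ring
  | add t t' ht ht' => rw [map_add, mul_add, ht, ht', smul_add, map_add]

include hρc hρk hJm hJres hπk in
lemma pi_muHom (t : B₀ ⊗[k] (RingHom.ker (algebraMap C' C))) :
    π (muHom res ρ hρc hρs hρk hJm hJres π hπs hπk t) = 0 := by
  induction t using TensorProduct.induction_on with
  | zero => rw [map_zero, map_zero]
  | tmul b j =>
    obtain ⟨e', rfl⟩ := rhoPi_surjective ρ hρs π hπs b
    change π (muHom res ρ hρc hρs hρk hJm hJres π hπs hπk (ρ (π e') ⊗ₜ[k] j)) = 0
    rw [muHom_tmul, map_mul, AlgHom.commutes, IsScalarTower.algebraMap_apply C' C B,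
      (RingHom.mem_ker).1 j.2, map_zero, zero_mul]
  | add t t' ht ht' => rw [map_add, map_add, ht, ht', add_zero]

/-- A flat `C'`-algebra with a surjection onto `B` with kernel `J E`, as an extension of `B` by
`B₀ ⊗ J`. -/
noncomputable def extOfFlat [Module.Flat C' E] :
    Ext C' B (B₀ ⊗[k] (RingHom.ker (algebraMap C' C))) where
  E := E
  proj := π
  incl := muHom res ρ hρc hρs hρk hJm hJres π hπs hπk
  isExtension :=
    { proj_surjective := hπs
      incl_injective := muHom_injective res ρ hρc hρs hρk hJm hJres π hπs hπk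
      exact := fun e => by
        constructor
        · intro he
          have he' : e ∈ RingHom.ker π := he
          rw [hπk] at he'
          refine Submodule.span_induction
            (p := fun z _ => z ∈ Set.range (muHom res ρ hρc hρs hρk hJm hJres π hπs hπk))
            ?_ ?_ ?_ ?_ he'
          · rintro _ ⟨j, hj, rfl⟩
            refine ⟨ρ (π 1) ⊗ₜ[k] ⟨j, hj⟩, ?_⟩
            rw [muHom_tmul, mul_one]
          · exact ⟨0, map_zero _⟩
          · rintro a b _ _ ⟨t, rfl⟩ ⟨t', rfl⟩
            exact ⟨t + t', map_add _ _ _⟩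
          · rintro a b _ ⟨t, rfl⟩
            exact ⟨π a • t, (mul_muHom res ρ hρc hρs hρk hJm hJres π hπs hπk hBM a t).symm⟩
        · rintro ⟨t, rfl⟩
          exact pi_muHom res ρ hρc hρs hρk hJm hJres π hπs hπk t
      mul_incl := fun e t => mul_muHom res ρ hρc hρs hρk hJm hJres π hπs hπk hBM e t }

include hρc hρk hJm hJres hπk in
theorem isCompat_extOfFlat [Module.Flat C' E] :
    IsCompat (C := C) ρ (tau k (C' := C') (C := C) B₀)
      (extOfFlat res ρ hρc hρs hρk hJm hJres π hπs hπk hBM) := by
  intro e j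
  exact (muHom_tmul res ρ hρc hρs hρk hJm hJres π hπs hπk e j).symm

end Ext

end OfFlat

section Back

variable {k : Type u} [Field k]
  {C' C : Type u} [CommRing C'] [CommRing C] [Algebra k C'] [Algebra C' C]
  {B B₀ : Type u} [CommRing B] [Algebra C' B] [Algebra C B] [IsScalarTower C' C B]
  [CommRing B₀] [Algebra k B₀]
  (res : C' →ₐ[k] k) (ρ : B →+* B₀)
  (hρc : ∀ c : C', ρ (algebraMap C' B c) = algebraMap k B₀ (res c))
  (hρs : Function.Surjective ρ)
  (hρk : RingHom.ker ρ = (RingHom.ker res).map (algebraMap C' B))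
  (hJres : ∀ j : C', algebraMap C' C j = 0 → res j = 0)
  [Module B (B₀ ⊗[k] (RingHom.ker (algebraMap C' C)))]
  (hBM : ∀ (b : B) (m : B₀ ⊗[k] (RingHom.ker (algebraMap C' C))), b • m = ρ b • m)

include hρs in
/-- for a compatible extension the kernel of the projection is `J E` -/
theorem ker_proj_of_isCompat (Z : Ext C' B (B₀ ⊗[k] (RingHom.ker (algebraMap C' C))))
    (hZ : IsCompat (C := C) ρ (tau k (C' := C') (C := C) B₀) Z) :
    RingHom.ker Z.proj = (RingHom.ker (algebraMap C' C)).map (algebraMap C' Z.E) := by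
  apply le_antisymm
  · intro z hz
    obtain ⟨t, rfl⟩ := (Z.isExtension.exact z).1 hz
    induction t using TensorProduct.induction_on with
    | zero => rw [map_zero]; exact Ideal.zero_mem _
    | tmul b j =>
      obtain ⟨b', rfl⟩ := hρs b
      obtain ⟨e, rfl⟩ := Z.isExtension.proj_surjective b'
      have := hZ e j
      change _ = Z.incl (ρ (Z.proj e) ⊗ₜ[k] j) at this
      rw [← this]
      exact Ideal.mul_mem_right _ _ (Ideal.mem_map_of_mem _ j.2)
    | add t t' ht ht' =>
      rw [map_add]
      exact Ideal.add_mem _ (ht (by rw [RingHom.mem_ker]; exact proj_incl Z t))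
        (ht' (by rw [RingHom.mem_ker]; exact proj_incl Z t'))
  · rw [Ideal.map_le_iff_le_comap]
    intro j hj
    rw [Ideal.mem_comap, RingHom.mem_ker, AlgHom.commutes, IsScalarTower.algebraMap_apply C' C B,
      (RingHom.mem_ker).1 hj, map_zero]

include hρc hρs hρk hJres in
/-- for a compatible extension the kernel of the map to `B₀` is `𝔪 E` -/
theorem ker_rho_proj_of_isCompat (Z : Ext C' B (B₀ ⊗[k] (RingHom.ker (algebraMap C' C))))
    (hZ : IsCompat (C := C) ρ (tau k (C' := C') (C := C) B₀) Z) :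
    RingHom.ker (ρ.comp (Z.proj : Z.E →+* B)) = (RingHom.ker res).map (algebraMap C' Z.E) := by
  apply le_antisymm
  · intro z hz
    have h1 : Z.proj z ∈ RingHom.ker ρ := hz
    rw [hρk] at h1
    have h3 : (RingHom.ker res).map (algebraMap C' B) =
        ((RingHom.ker res).map (algebraMap C' Z.E)).map (Z.proj : Z.E →+* B) := by
      rw [Ideal.map_map]
      congr 1
      ext c
      exact (Z.proj.commutes c).symm
    rw [h3] at h1
    obtain ⟨z', hz', hzz'⟩ := (Ideal.mem_map_iff_of_surjective (Z.proj : Z.E →+* B)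
      Z.isExtension.proj_surjective).1 h1
    have h4 : z - z' ∈ RingHom.ker Z.proj := by
      rw [RingHom.mem_ker, map_sub]
      exact sub_eq_zero.2 hzz'.symm
    rw [ker_proj_of_isCompat ρ hρs Z hZ] at h4
    have h5 : (RingHom.ker (algebraMap C' C)).map (algebraMap C' Z.E) ≤
        (RingHom.ker res).map (algebraMap C' Z.E) :=
      Ideal.map_mono fun j hj => (RingHom.mem_ker).2 (hJres j hj)
    have : z = z' + (z - z') := by ring
    rw [this]
    exact Ideal.add_mem _ hz' (h5 h4)
  · rw [Ideal.map_le_iff_le_comap]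
    intro c hc
    rw [Ideal.mem_comap, RingHom.mem_ker, RingHom.comp_apply]
    change ρ (Z.proj (algebraMap C' Z.E c)) = 0
    rw [AlgHom.commutes, hρc, (RingHom.mem_ker).1 hc, map_zero]

/-- the sum `X + Y` is isomorphic to `X` as a `C'`-module -/
theorem nonempty_linearEquiv_sumExt (X : Ext C' B (B₀ ⊗[k] (RingHom.ker (algebraMap C' C))))
    (Y : Ext k B₀ (B₀ ⊗[k] (RingHom.ker (algebraMap C' C)))) :
    Nonempty (X.E ≃ₗ[C'] (sumExt res ρ hρc hBM X Y).E) := by
  obtain ⟨s, hs⟩ := LinearMap.exists_rightInverse_of_surjective (Y.proj : Y.E →ₗ[k] B₀)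
    (LinearMap.range_eq_top.2 Y.isExtension.proj_surjective)
  have hs' : ∀ b, Y.proj (s b) = b := fun b => congrArg (fun f => f b) hs
  have hmem : ∀ x : X.E, (x, s (ρ (X.proj x))) ∈ sumFiber ρ X Y := by
    intro x
    rw [mem_sumFiber]
    exact (hs' _).symm
  let φ : X.E →ₗ[C'] (sumExt res ρ hρc hBM X Y).E :=
    { toFun := fun x => sumMkE res ρ hρc hBM X Y ⟨(x, s (ρ (X.proj x))), hmem x⟩
      map_add' := fun x x' => by
        rw [← map_add]
        congr 1
        apply Subtype.ext
        apply Prod.ext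
        · rfl
        · change s (ρ (X.proj (x + x'))) = s (ρ (X.proj x)) + s (ρ (X.proj x'))
          rw [map_add, map_add, map_add]
      map_smul' := fun c x => by
        rw [RingHom.id_apply]
        conv_rhs => rw [Algebra.smul_def, algebraMap_sumExt, ← map_mul]
        congr 1
        apply Subtype.ext
        apply Prod.ext
        · change c • x = algebraMap C' X.E c * x
          rw [Algebra.smul_def]
        · change s (ρ (X.proj (c • x))) = algebraMap k Y.E (res c) * s (ρ (X.proj x))
          rw [Algebra.smul_def, map_mul, map_mul, AlgHom.commutes, hρc, ← Algebra.smul_def,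
            map_smul, Algebra.smul_def] }
  have hφ : ∀ x, φ x = sumMkE res ρ hρc hBM X Y ⟨(x, s (ρ (X.proj x))), hmem x⟩ := fun x => rfl
  refine ⟨LinearEquiv.ofBijective φ ⟨?_, ?_⟩⟩
  · rw [injective_iff_map_eq_zero]
    intro x hx
    rw [hφ, sumMkE_eq_zero_iff] at hx
    obtain ⟨m, hm⟩ := hx
    have h1 : x = X.incl m := congrArg Prod.fst hm
    have h2 : s (ρ (X.proj x)) = - Y.incl m := congrArg Prod.snd hm
    rw [h1, proj_incl, map_zero, map_zero, eq_comm, neg_eq_zero] at h2
    have hm0 : m = 0 := Y.isExtension.incl_injective (h2.trans (map_zero _).symm)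
    rw [h1, hm0, map_zero]
  · intro z
    obtain ⟨t, rfl⟩ := sumMkE_surjective res ρ hρc hBM X Y z
    have h1 : Y.proj ((t : X.E × Y.E).2 - s (ρ (X.proj (t : X.E × Y.E).1))) = 0 := by
      rw [map_sub, hs', (mem_sumFiber ρ X Y _).1 t.2, sub_self]
    obtain ⟨m, hm⟩ := (Y.isExtension.exact _).1 h1
    refine ⟨(t : X.E × Y.E).1 + X.incl m, ?_⟩
    rw [hφ, sumMkE_eq_iff]
    refine ⟨m, ?_⟩
    apply Prod.ext
    · change (t : X.E × Y.E).1 + X.incl m - (t : X.E × Y.E).1 = X.incl m
      ring
    · change s (ρ (X.proj ((t : X.E × Y.E).1 + X.incl m))) - (t : X.E × Y.E).2 = - Y.incl m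
      rw [map_add, proj_incl, add_zero, hm]
      ring

/-- the sum `X + Y` is flat over `C'` when `X` is -/
theorem flat_sumExt (X : Ext C' B (B₀ ⊗[k] (RingHom.ker (algebraMap C' C))))
    (Y : Ext k B₀ (B₀ ⊗[k] (RingHom.ker (algebraMap C' C)))) [Module.Flat C' X.E] :
    Module.Flat C' (sumExt res ρ hρc hBM X Y).E := by
  obtain ⟨e⟩ := nonempty_linearEquiv_sumExt res ρ hρc hBM X Y
  exact Module.Flat.of_linearEquiv e.symm

include hρs in
/-- An algebra map between compatible extensions which commutes with the projections is an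
equivalence. -/
theorem nonempty_equiv_of_algHom
    (Z Z' : Ext C' B (B₀ ⊗[k] (RingHom.ker (algebraMap C' C))))
    (hZ : IsCompat (C := C) ρ (tau k (C' := C') (C := C) B₀) Z)
    (hZ' : IsCompat (C := C) ρ (tau k (C' := C') (C := C) B₀) Z')
    (f : Z.E →ₐ[C'] Z'.E) (hf : ∀ z, Z'.proj (f z) = Z.proj z) :
    Nonempty (Z.Equiv Z') := by
  refine ⟨equivOfHom f hf ?_⟩
  intro t
  induction t using TensorProduct.induction_on with
  | zero => rw [map_zero, map_zero, map_zero]
  | tmul b j =>
    obtain ⟨b', rfl⟩ := hρs b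
    obtain ⟨e, rfl⟩ := Z.isExtension.proj_surjective b'
    have h1 := hZ e j
    have h2 := hZ' (f e) j
    change _ = Z.incl (ρ (Z.proj e) ⊗ₜ[k] j) at h1
    change _ = Z'.incl (ρ (Z'.proj (f e)) ⊗ₜ[k] j) at h2
    rw [← h1, map_mul, AlgHom.commutes, h2, hf]
  | add t t' ht ht' => rw [map_add, map_add, map_add, ht, ht']

end Back

end Groth.Agent.Lib.Helper19.DefTors
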