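import Groth.Agent.Lib.Helper19DefAffE
import Groth.Agent.Lib.Helper19DefTorsE

set_option autoImplicit false
set_option linter.unusedSectionVars false
set_option linter.style.haveILetI false
universe u

open CategoryTheory CategoryTheory.Limits AlgebraicGeometry ArtFun ArtFun.Art

namespace Groth.Agent.Lib.Helper19.DefTors

open Groth.Agent.Lib.Helper19.DefAff

section ClIm

variable {k : Type u} [Field k] {B₀ : Type u} [CommRing B₀] [Algebra k B₀]
  {C' C : Art k k} {p : C' ⟶ C}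
  {𝒳 : DefSch (Spec (CommRingCat.of B₀)) (Spec.map (CommRingCat.ofHom (algebraMap k B₀))) C}
  {𝒳' : DefSch (Spec (CommRingCat.of B₀)) (Spec.map (CommRingCat.ofHom (algebraMap k B₀))) C'}

/-- the closed immersion of `𝒳` into an extension `𝒳'` -/
noncomputable def clIm (α : (𝒳'.baseChange p).Iso 𝒳) : 𝒳.total ⟶ 𝒳'.total :=
  α.iso.inv ≫ pullback.fst 𝒳'.f (specMap p)

lemma clIm_f (α : (𝒳'.baseChange p).Iso 𝒳) : clIm α ≫ 𝒳'.f = 𝒳.f ≫ specMap p := by
  rw [clIm, Category.assoc, pullback.condition, ← Category.assoc]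
  congr 1
  exact α.symm.hom_f

lemma i_clIm (α : (𝒳'.baseChange p).Iso 𝒳) : 𝒳.i ≫ clIm α = 𝒳'.i := by
  rw [clIm, ← Category.assoc]
  have h := α.symm.i_hom
  change 𝒳.i ≫ α.iso.inv = _ at h
  rw [h]
  exact DefSch.baseChange_i_fst 𝒳' p

lemma isPullback_clIm (α : (𝒳'.baseChange p).Iso 𝒳) :
    IsPullback (clIm α) 𝒳.f 𝒳'.f (specMap p) := by
  refine IsPullback.of_iso (IsPullback.of_hasPullback 𝒳'.f (specMap p)) α.iso (Iso.refl _)
    (Iso.refl _) (Iso.refl _) ?_ ?_ ?_ ?_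
  · rw [Iso.refl_hom, Category.comp_id, clIm, Iso.hom_inv_id_assoc]
  · rw [Iso.refl_hom, Category.comp_id]
    exact α.hom_f.symm
  · rw [Iso.refl_hom, Iso.refl_hom, Category.comp_id, Category.id_comp]
  · rw [Iso.refl_hom, Iso.refl_hom, Category.comp_id, Category.id_comp]

/-- the relation between two extensions in terms of the closed immersions -/
theorem rel_iff_clIm {𝒳'' : DefSch (Spec (CommRingCat.of B₀))
      (Spec.map (CommRingCat.ofHom (algebraMap k B₀))) C'}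
    (α : (𝒳'.baseChange p).Iso 𝒳) (β : (𝒳''.baseChange p).Iso 𝒳) (ψ : 𝒳'.Iso 𝒳'') :
    ((ψ.baseChange p).trans β).iso = α.iso ↔ clIm α ≫ ψ.iso.hom = clIm β := by
  have hpm : (ψ.baseChange p).iso.hom = DefSch.pullMap ψ.iso.hom ψ.hom_f p := rfl
  constructor
  · intro h
    have h1 : DefSch.pullMap ψ.iso.hom ψ.hom_f p ≫ β.iso.hom = α.iso.hom := by
      rw [← hpm]
      exact congrArg Iso.hom h
    have h2 : α.iso.inv ≫ DefSch.pullMap ψ.iso.hom ψ.hom_f p = β.iso.inv := by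
      rw [Iso.inv_comp_eq, ← h1, Category.assoc, Iso.hom_inv_id, Category.comp_id]
    rw [clIm, clIm, Category.assoc, ← DefSch.pullMap_fst ψ.iso.hom ψ.hom_f p, ← Category.assoc, h2]
  · intro h
    apply Iso.ext
    change (ψ.baseChange p).iso.hom ≫ β.iso.hom = α.iso.hom
    rw [hpm, ← Iso.eq_comp_inv]
    apply pullback.hom_ext
    · rw [DefSch.pullMap_fst, Category.assoc]
      change _ = α.iso.hom ≫ clIm β
      rw [← h, clIm, Category.assoc, Iso.hom_inv_id_assoc]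
    · rw [DefSch.pullMap_snd, Category.assoc]
      have h3 : β.iso.inv ≫ pullback.snd 𝒳''.f (specMap p) = 𝒳.f := β.symm.hom_f
      rw [h3]
      exact α.hom_f.symm

/-- the ring map attached to the closed immersion -/
noncomputable def piRing (α : (𝒳'.baseChange p).Iso 𝒳) : Γ(𝒳'.total, ⊤) ⟶ Γ(𝒳.total, ⊤) :=
  (clIm α).appTop

lemma phi_piRing (α : (𝒳'.baseChange p).Iso 𝒳) :
    phi 𝒳' ≫ piRing α = CommRingCat.ofHom p.toAlgHom.toRingHom ≫ phi 𝒳 := by
  rw [phi, phi, piRing, Category.assoc, ← Scheme.Hom.comp_appTop, clIm_f, Scheme.Hom.comp_appTop,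
    ← Category.assoc, ← Category.assoc]
  congr 1
  exact (Scheme.ΓSpecIso_inv_naturality _).symm

lemma piRing_rho (α : (𝒳'.baseChange p).Iso 𝒳) : piRing α ≫ rho 𝒳 = rho 𝒳' := by
  rw [rho, rho, piRing, ← Category.assoc, ← Scheme.Hom.comp_appTop, i_clIm]

lemma isPushout_piRing (α : (𝒳'.baseChange p).Iso 𝒳) :
    IsPushout (CommRingCat.ofHom p.toAlgHom.toRingHom) (phi 𝒳') (phi 𝒳) (piRing α) := by
  haveI := isAffine_total 𝒳
  haveI := isAffine_total 𝒳'
  have h1 : IsPullback (Spec.map (piRing α)) (Spec.map (phi 𝒳)) (Spec.map (phi 𝒳'))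
      (specMap p) := by
    refine IsPullback.of_iso (isPullback_clIm α) (isoSpecTotal 𝒳) (isoSpecTotal 𝒳') (Iso.refl _)
      (Iso.refl _) ?_ ?_ ?_ ?_
    · exact (Scheme.isoSpec_hom_naturality (clIm α)).symm
    · rw [Iso.refl_hom, Category.comp_id, isoSpecTotal_hom_phi]
    · rw [Iso.refl_hom, Category.comp_id, isoSpecTotal_hom_phi]
    · rw [Iso.refl_hom, Iso.refl_hom, Category.comp_id, Category.id_comp]
  have h2 : IsPullback (piRing α).op (phi 𝒳).op (phi 𝒳').op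
      (CommRingCat.ofHom p.toAlgHom.toRingHom).op := by
    refine IsPullback.of_map Scheme.Spec ?_ h1
    apply Scheme.Spec.map_injective
    rw [Functor.map_comp, Functor.map_comp]
    exact h1.w
  exact h2.unop

end ClIm

section Wrap

open TensorProduct

variable {k : Type u} [Field k] {B₀ : Type u} [CommRing B₀] [Algebra k B₀]
  {C' C : Art k k}

/-- `C` as a `C'`-algebra through `p` -/
@[nolint unusedArguments]
def CTgt (_p : C' ⟶ C) : Type u := C

instance (p : C' ⟶ C) : CommRing (CTgt p) := inferInstanceAs (CommRing C)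

noncomputable instance (p : C' ⟶ C) : Algebra C' (CTgt p) := p.toAlgHom.toRingHom.toAlgebra

lemma algebraMap_CTgt (p : C' ⟶ C) (c : C') : algebraMap C' (CTgt p) c = p c := rfl

/-- the ring of `𝒳` as a `C'`-algebra through `p` -/
@[nolint unusedArguments]
def BRing (_p : C' ⟶ C)
    (𝒳 : DefSch (Spec (CommRingCat.of B₀)) (Spec.map (CommRingCat.ofHom (algebraMap k B₀))) C) :
    Type u := DRing 𝒳

variable (p : C' ⟶ C)
  (𝒳 : DefSch (Spec (CommRingCat.of B₀)) (Spec.map (CommRingCat.ofHom (algebraMap k B₀))) C)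

noncomputable instance : CommRing (BRing p 𝒳) := inferInstanceAs (CommRing (DRing 𝒳))

noncomputable instance : Algebra (CTgt p) (BRing p 𝒳) := inferInstanceAs (Algebra C (DRing 𝒳))

noncomputable instance : Algebra C' (BRing p 𝒳) :=
  ((algebraMap C (DRing 𝒳)).comp p.toAlgHom.toRingHom).toAlgebra

instance : IsScalarTower C' (CTgt p) (BRing p 𝒳) := IsScalarTower.of_algebraMap_eq (fun _ => rfl)

instance : Module.Flat (CTgt p) (BRing p 𝒳) := inferInstanceAs (Module.Flat C (DRing 𝒳))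

lemma algebraMap_BRing (c : C') : algebraMap C' (BRing p 𝒳) c = (phi 𝒳).hom (p c) := rfl

/-- the kernel of `p` -/
noncomputable abbrev JId : Ideal C' := RingHom.ker (algebraMap C' (CTgt p))

/-- the reduction map `B → B₀` -/
noncomputable def rhoB : BRing p 𝒳 →+* B₀ := (rhoAlg 𝒳 : DRing 𝒳 →+* B₀)

lemma rhoB_apply (b : BRing p 𝒳) : rhoB p 𝒳 b = (rho 𝒳).hom b := rfl

noncomputable instance : Module (BRing p 𝒳) (B₀ ⊗[k] ↥(JId p)) :=
  Module.compHom _ (rhoB p 𝒳)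

lemma hBM (b : BRing p 𝒳) (m : B₀ ⊗[k] ↥(JId p)) : b • m = rhoB p 𝒳 b • m := rfl

lemma hρc (c : C') : rhoB p 𝒳 (algebraMap C' (BRing p 𝒳) c) = algebraMap k B₀ (C'.res c) := by
  change (rho 𝒳).hom ((phi 𝒳).hom (p c)) = _
  rw [rho_phi, res_app]

lemma hρs : Function.Surjective (rhoB p 𝒳) := rho_surjective 𝒳

lemma map_maximalIdeal_of_surjective (hp : Function.Surjective p) :
    (IsLocalRing.maximalIdeal C').map p.toAlgHom.toRingHom = IsLocalRing.maximalIdeal C := by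
  apply le_antisymm
  · rw [Ideal.map_le_iff_le_comap]
    intro c hc
    rw [Ideal.mem_comap, C.mem_maximalIdeal_iff]
    change C.res (p c) = 0
    rw [res_app]
    exact (C'.mem_maximalIdeal_iff c).1 hc
  · intro c hc
    obtain ⟨c', rfl⟩ := hp c
    refine Ideal.mem_map_of_mem _ ?_
    rw [C'.mem_maximalIdeal_iff, ← res_app p]
    exact (C.mem_maximalIdeal_iff _).1 hc

lemma ker_res_eq' (A : Art k k) : RingHom.ker A.res = IsLocalRing.maximalIdeal A := by
  ext a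
  rw [A.mem_maximalIdeal_iff, RingHom.mem_ker]

lemma hρk (hp : Function.Surjective p) :
    RingHom.ker (rhoB p 𝒳) = (RingHom.ker C'.res).map (algebraMap C' (BRing p 𝒳)) := by
  have h1 : RingHom.ker (rhoB p 𝒳) =
      Ideal.map (phi 𝒳).hom (IsLocalRing.maximalIdeal C) := ker_rho 𝒳
  rw [h1, ker_res_eq', ← map_maximalIdeal_of_surjective p hp, Ideal.map_map]
  rfl

lemma hJres (j : C') (hj : algebraMap C' (CTgt p) j = 0) : C'.res j = 0 := by
  have hj' : p j = 0 := hj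
  rw [← res_app p, hj', map_zero]

lemma hJm (hp : Art.IsSemismallExt p) (c : C') (hc : c ∈ RingHom.ker C'.res) (j : C')
    (hj : j ∈ RingHom.ker (algebraMap C' (CTgt p))) : c * j = 0 := by
  rw [ker_res_eq'] at hc
  have h1 : c * j ∈ IsLocalRing.maximalIdeal C' * RingHom.ker p.toAlgHom :=
    Ideal.mul_mem_mul hc hj
  rw [hp.2] at h1
  exact h1

section Pair

variable {p 𝒳}
variable {𝒳' : DefSch (Spec (CommRingCat.of B₀)) (Spec.map (CommRingCat.ofHom (algebraMap k B₀))) C'}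

/-- the algebra map `DRing 𝒳' → B` attached to an extension -/
noncomputable def piAlg (α : (𝒳'.baseChange p).Iso 𝒳) : DRing 𝒳' →ₐ[C'] BRing p 𝒳 :=
  { (piRing α).hom with
    commutes' := fun c => congrArg (fun f => f.hom c) (phi_piRing α) }

lemma piAlg_apply (α : (𝒳'.baseChange p).Iso 𝒳) (b : DRing 𝒳') :
    piAlg α b = (piRing α).hom b := rfl

lemma piAlg_surjective (hp : Function.Surjective p) (α : (𝒳'.baseChange p).Iso 𝒳) :
    Function.Surjective (piAlg α) :=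
  (surjective_and_ker_of_isPushout _ _ _ _ hp (isPushout_piRing α)).1

lemma ker_piAlg (hp : Function.Surjective p) (α : (𝒳'.baseChange p).Iso 𝒳) :
    RingHom.ker (piAlg α) = (JId p).map (algebraMap C' (DRing 𝒳')) :=
  (surjective_and_ker_of_isPushout _ _ _ _ hp (isPushout_piRing α)).2

lemma rhoB_piAlg (α : (𝒳'.baseChange p).Iso 𝒳) (b : DRing 𝒳') :
    rhoB p 𝒳 (piAlg α b) = rhoAlg 𝒳' b :=
  congrArg (fun f => f.hom b) (piRing_rho α)

/-- the extension of `B` by `B₀ ⊗ J` attached to an extension of the deformation `𝒳` -/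
noncomputable def extOfPair (hp : Art.IsSemismallExt p) (α : (𝒳'.baseChange p).Iso 𝒳) :
    Exal.Ext C' (BRing p 𝒳) (B₀ ⊗[k] ↥(JId p)) :=
  extOfFlat C'.res (rhoB p 𝒳) (hρc p 𝒳) (hρs p 𝒳) (hρk p 𝒳 hp.1) (hJm p hp) (hJres p)
    (piAlg α) (piAlg_surjective hp.1 α) (ker_piAlg hp.1 α) (hBM p 𝒳)

lemma isCompat_extOfPair (hp : Art.IsSemismallExt p) (α : (𝒳'.baseChange p).Iso 𝒳) :
    IsCompat (C := CTgt p) (rhoB p 𝒳) (tau k (C' := C') (C := CTgt p) B₀) (extOfPair hp α) :=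
  isCompat_extOfFlat C'.res (rhoB p 𝒳) (hρc p 𝒳) (hρs p 𝒳) (hρk p 𝒳 hp.1) (hJm p hp) (hJres p)
    (piAlg α) (piAlg_surjective hp.1 α) (ker_piAlg hp.1 α) (hBM p 𝒳)

variable {𝒳'' : DefSch (Spec (CommRingCat.of B₀)) (Spec.map (CommRingCat.ofHom (algebraMap k B₀))) C'}

/-- isomorphic extensions of `𝒳` give equivalent ring extensions -/
theorem equiv_of_rel (hp : Art.IsSemismallExt p) (α : (𝒳'.baseChange p).Iso 𝒳)
    (β : (𝒳''.baseChange p).Iso 𝒳) (ψ : 𝒳'.Iso 𝒳'') (h : clIm α ≫ ψ.iso.hom = clIm β) :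
    Nonempty ((extOfPair hp β).Equiv (extOfPair hp α)) := by
  let f : DRing 𝒳'' →ₐ[C'] DRing 𝒳' :=
    { ψ.iso.hom.appTop.hom with
      commutes' := fun c => congrArg (fun g => g.hom c) (phi_comp_appTop ψ.iso.hom ψ.hom_f) }
  refine nonempty_equiv_of_algHom (rhoB p 𝒳) (hρs p 𝒳) (extOfPair hp β) (extOfPair hp α)
    (isCompat_extOfPair hp β) (isCompat_extOfPair hp α) f ?_
  intro z
  change (piRing α).hom (ψ.iso.hom.appTop.hom z) = (piRing β).hom z
  have h1 : ψ.iso.hom.appTop ≫ piRing α = piRing β := by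
    rw [piRing, piRing, ← Scheme.Hom.comp_appTop, h]
  exact congrArg (fun g => g.hom z) h1

/-- equivalent ring extensions come from isomorphic extensions of `𝒳` -/
theorem rel_of_equiv (hp : Art.IsSemismallExt p) (α : (𝒳'.baseChange p).Iso 𝒳)
    (β : (𝒳''.baseChange p).Iso 𝒳) (χ : (extOfPair hp α).Equiv (extOfPair hp β)) :
    ∃ ψ : 𝒳'.Iso 𝒳'', clIm α ≫ ψ.iso.hom = clIm β := by
  haveI := isAffine_total 𝒳
  haveI := isAffine_total 𝒳'
  haveI := isAffine_total 𝒳''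
  let e : DRing 𝒳' ≃ₐ[C'] DRing 𝒳'' := χ.toAlgEquiv
  have he : ∀ z, piAlg β (e z) = piAlg α z := χ.proj_apply
  let χ₀ : Γ(𝒳'.total, ⊤) ⟶ Γ(𝒳''.total, ⊤) :=
    CommRingCat.ofHom (e : DRing 𝒳' →+* DRing 𝒳'')
  have hχ1 : phi 𝒳' ≫ χ₀ = phi 𝒳'' := by
    ext c
    exact e.commutes c
  have hχ2 : χ₀ ≫ piRing β = piRing α := by
    ext z
    exact he z
  have hχ3 : χ₀ ≫ rho 𝒳'' = rho 𝒳' := by
    rw [← piRing_rho β, ← Category.assoc, hχ2, piRing_rho]
  let h : 𝒳''.total ⟶ 𝒳'.total :=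
    (isoSpecTotal 𝒳'').hom ≫ Spec.map χ₀ ≫ (isoSpecTotal 𝒳').inv
  have hf : h ≫ 𝒳'.f = 𝒳''.f := by
    have h1 : (isoSpecTotal 𝒳').inv ≫ 𝒳'.f = Spec.map (phi 𝒳') := by
      rw [Iso.inv_comp_eq, isoSpecTotal_hom_phi]
    rw [Category.assoc, Category.assoc, h1, ← Spec.map_comp, hχ1, isoSpecTotal_hom_phi]
  have hi : 𝒳''.i ≫ h = 𝒳'.i := by
    have h1 : Spec.map (rho 𝒳') ≫ (isoSpecTotal 𝒳').inv = 𝒳'.i := by
      rw [Iso.comp_inv_eq, i_isoSpecTotal_hom]
    rw [← Category.assoc, i_isoSpecTotal_hom, ← Category.assoc, ← Spec.map_comp, hχ3, h1]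
  haveI : IsIso h := isIso_of_hom h hf hi
  let ψ' : 𝒳''.Iso 𝒳' := isoOfHom h hf hi
  refine ⟨ψ'.symm, ?_⟩
  have h2 : clIm β ≫ h = clIm α := by
    have hnat := Scheme.isoSpec_hom_naturality (clIm β)
    have hnat' := Scheme.isoSpec_hom_naturality (clIm α)
    change clIm β ≫ (𝒳''.total.isoSpec.hom ≫ Spec.map χ₀ ≫ 𝒳'.total.isoSpec.inv) = _
    rw [← Category.assoc, ← hnat, Category.assoc, ← Category.assoc (Spec.map _), ← Spec.map_comp]
    change _ ≫ Spec.map (χ₀ ≫ piRing β) ≫ _ = _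
    rw [hχ2]
    change _ ≫ Spec.map (clIm α).appTop ≫ _ = _
    rw [← Category.assoc, hnat', Category.assoc, Iso.hom_inv_id, Category.comp_id]
  have h3 : ψ'.symm.iso.hom = inv h := by
    change (asIso h).inv = inv h
    rfl
  rw [h3, ← h2, Category.assoc, IsIso.hom_inv_id, Category.comp_id]

/-- every flat compatible ring extension comes from an extension of the deformation `𝒳` -/
theorem exists_pair_of_ext (hp : Art.IsSemismallExt p)
    (Z : Exal.Ext C' (BRing p 𝒳) (B₀ ⊗[k] ↥(JId p)))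
    (hZ : IsCompat (C := CTgt p) (rhoB p 𝒳) (tau k (C' := C') (C := CTgt p) B₀) Z)
    [Module.Flat C' Z.E] :
    ∃ (𝒴 : DefSch (Spec (CommRingCat.of B₀)) (Spec.map (CommRingCat.ofHom (algebraMap k B₀))) C')
      (α : (𝒴.baseChange p).Iso 𝒳), Nonempty ((extOfPair hp α).Equiv Z) := by
  haveI := isAffine_total 𝒳
  let ρ' : Z.E →+* B₀ := (rhoB p 𝒳).comp (Z.proj : Z.E →+* BRing p 𝒳)
  have hc : ∀ c : C', ρ' (algebraMap C' Z.E c) = algebraMap k B₀ (C'.res c) := by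
    intro c
    change rhoB p 𝒳 (Z.proj (algebraMap C' Z.E c)) = _
    rw [AlgHom.commutes, hρc]
  have hs : Function.Surjective ρ' := (hρs p 𝒳).comp Z.isExtension.proj_surjective
  have hk : RingHom.ker ρ' = Ideal.map (algebraMap C' Z.E) (IsLocalRing.maximalIdeal C') := by
    rw [← ker_res_eq']
    exact ker_rho_proj_of_isCompat C'.res (rhoB p 𝒳) (hρc p 𝒳) (hρs p 𝒳) (hρk p 𝒳 hp.1)
      (hJres p) Z hZ
  let 𝒴 : DefSch (Spec (CommRingCat.of B₀)) (Spec.map (CommRingCat.ofHom (algebraMap k B₀))) C' :=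
    ofAlg Z.E ρ' hc hs hk
  let projR : CommRingCat.of Z.E ⟶ Γ(𝒳.total, ⊤) :=
    CommRingCat.ofHom (Z.proj : Z.E →+* BRing p 𝒳)
  have hprojR1 : CommRingCat.ofHom (algebraMap C' Z.E) ≫ projR =
      CommRingCat.ofHom p.toAlgHom.toRingHom ≫ phi 𝒳 := by
    ext c
    exact Z.proj.commutes c
  have hprojR2 : projR ≫ rho 𝒳 = CommRingCat.ofHom ρ' := rfl
  have hcomm : ((isoSpecTotal 𝒳).hom ≫ Spec.map projR) ≫ 𝒴.f = 𝒳.f ≫ specMap p := by
    change (_ ≫ Spec.map projR) ≫ Spec.map (CommRingCat.ofHom (algebraMap C' Z.E)) = _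
    rw [Category.assoc, ← Spec.map_comp, hprojR1, Spec.map_comp, ← Category.assoc,
      isoSpecTotal_hom_phi]
  let h : 𝒳.total ⟶ (𝒴.baseChange p).total :=
    pullback.lift ((isoSpecTotal 𝒳).hom ≫ Spec.map projR) 𝒳.f hcomm
  have hfst : h ≫ pullback.fst 𝒴.f (specMap p) = (isoSpecTotal 𝒳).hom ≫ Spec.map projR :=
    pullback.lift_fst _ _ _
  have hf : h ≫ (𝒴.baseChange p).f = 𝒳.f := pullback.lift_snd _ _ _
  have hi : 𝒳.i ≫ h = (𝒴.baseChange p).i := by
    apply pullback.hom_ext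
    · refine (Category.assoc _ _ _).trans ?_
      refine (congrArg (𝒳.i ≫ ·) hfst).trans ?_
      refine Eq.trans ?_ (DefSch.baseChange_i_fst 𝒴 p).symm
      have e1 : 𝒳.i ≫ (isoSpecTotal 𝒳).hom ≫ Spec.map projR =
          Spec.map (CommRingCat.ofHom ρ') := by
        rw [← Category.assoc, i_isoSpecTotal_hom, ← Spec.map_comp, hprojR2]
      exact e1
    · refine (Category.assoc _ _ _).trans ?_
      refine (congrArg (𝒳.i ≫ ·) hf).trans ?_
      exact 𝒳.i_f.trans (DefSch.baseChange_i_f 𝒴 p).symm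
  haveI : IsIso h := isIso_of_hom h hf hi
  let α : (𝒴.baseChange p).Iso 𝒳 := (isoOfHom h hf hi).symm
  have hα : clIm α = (isoSpecTotal 𝒳).hom ≫ Spec.map projR := by
    change h ≫ pullback.fst 𝒴.f (specMap p) = _
    exact hfst
  refine ⟨𝒴, α, ?_⟩
  -- the comparison map
  let f₀ : CommRingCat.of Z.E ⟶ Γ(𝒴.total, ⊤) := (Scheme.ΓSpecIso (CommRingCat.of Z.E)).inv
  have hf₀1 : CommRingCat.ofHom (algebraMap C' Z.E) ≫ f₀ = phi 𝒴 := by
    exact (Iso.comp_inv_eq _).2 (phi_ofAlg Z.E ρ' hc hs hk).symm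
  have e2 : (Scheme.ΓSpecIso (CommRingCat.of Z.E)).inv ≫
      ((isoSpecTotal 𝒳).hom ≫ Spec.map projR).appTop = projR := by
    rw [Scheme.Hom.comp_appTop, ← Category.assoc, ← Scheme.ΓSpecIso_inv_naturality,
      Category.assoc]
    change _ ≫ _ ≫ 𝒳.total.isoSpec.hom.appTop = _
    rw [Scheme.isoSpec_hom, Scheme.toSpecΓ_appTop, Iso.inv_hom_id, Category.comp_id]
  have hf₀2 : f₀ ≫ piRing α = projR :=
    (congrArg (f₀ ≫ ·) (congrArg Scheme.Hom.appTop hα)).trans e2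
  let f : Z.E →ₐ[C'] DRing 𝒴 :=
    { f₀.hom with commutes' := fun c => congrArg (fun g => g.hom c) hf₀1 }
  obtain ⟨χ⟩ := nonempty_equiv_of_algHom (rhoB p 𝒳) (hρs p 𝒳) Z (extOfPair hp α) hZ
    (isCompat_extOfPair hp α) f (fun z => congrArg (fun g => g.hom z) hf₀2)
  exact ⟨χ.symm⟩

end Pair

end Wrap

end Groth.Agent.Lib.Helper19.DefTors
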