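import Groth.Agent.Lib.Helper19DefTorsF

set_option autoImplicit false
set_option linter.unusedSectionVars false
set_option linter.style.haveILetI false
universe u

open CategoryTheory CategoryTheory.Limits AlgebraicGeometry ArtFun ArtFun.Art

namespace Groth.Agent.Lib.Helper19.DefTors

open Groth.Agent.Lib.Helper19.DefAff
open TensorProduct

section Final

variable {k : Type u} [Field k] {B₀ : Type u} [CommRing B₀] [Algebra k B₀]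
  {C' C : Art k k} {p : C' ⟶ C}
  {𝒳 : DefSch (Spec (CommRingCat.of B₀)) (Spec.map (CommRingCat.ofHom (algebraMap k B₀))) C}

lemma hpS (hp : Function.Surjective p) : Function.Surjective (algebraMap C' (CTgt p)) := hp

/-- the difference of two compatible extensions of `B`, as a `k`-extension of `B₀` -/
noncomputable abbrev thetaP (hp : Art.IsSemismallExt p)
    {E X : Exal.Ext C' (BRing p 𝒳) (B₀ ⊗[k] ↥(JId p))}
    (hE : IsCompat (C := CTgt p) (rhoB p 𝒳) (tau k (C' := C') (C := CTgt p) B₀) E)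
    (hX : IsCompat (C := CTgt p) (rhoB p 𝒳) (tau k (C' := C') (C := CTgt p) B₀) X) :
    Exal.Ext k B₀ (B₀ ⊗[k] ↥(JId p)) :=
  theta C'.res (rhoB p 𝒳) (hρc p 𝒳) (hρs p 𝒳) (hρk p 𝒳 hp.1) (hBM p 𝒳) (hpS hp.1)
    (tau k (C' := C') (C := CTgt p) B₀) hE hX

/-- the sum of an extension of `B` and a `k`-extension of `B₀` -/
noncomputable abbrev sumP (X : Exal.Ext C' (BRing p 𝒳) (B₀ ⊗[k] ↥(JId p)))
    (Y : Exal.Ext k B₀ (B₀ ⊗[k] ↥(JId p))) : Exal.Ext C' (BRing p 𝒳) (B₀ ⊗[k] ↥(JId p)) :=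
  sumExt C'.res (rhoB p 𝒳) (hρc p 𝒳) (hBM p 𝒳) X Y

theorem nonempty_equiv_exalcom (hp : Art.IsSemismallExt p)
    (hne : ∃ 𝒳' : DefSch (Spec (CommRingCat.of B₀))
      (Spec.map (CommRingCat.ofHom (algebraMap k B₀))) C', Nonempty ((𝒳'.baseChange p).Iso 𝒳)) :
    Nonempty (Quot (fun a b : (Σ 𝒳' : DefSch (Spec (CommRingCat.of B₀))
        (Spec.map (CommRingCat.ofHom (algebraMap k B₀))) C', (𝒳'.baseChange p).Iso 𝒳) =>
        ∃ ψ : a.1.Iso b.1, ((ψ.baseChange p).trans b.2).iso = a.2.iso) ≃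
      Exal.Exalcom k B₀ (B₀ ⊗[k] ↥(JId p))) := by
  obtain ⟨𝒳₀, ⟨α₀⟩⟩ := hne
  have hX₀c := isCompat_extOfPair hp α₀
  let F : (Σ 𝒳' : DefSch (Spec (CommRingCat.of B₀))
        (Spec.map (CommRingCat.ofHom (algebraMap k B₀))) C', (𝒳'.baseChange p).Iso 𝒳) →
      Exal.Exalcom k B₀ (B₀ ⊗[k] ↥(JId p)) :=
    fun a => (thetaP hp (isCompat_extOfPair hp a.2) hX₀c).cl
  have hF : ∀ a b : (Σ 𝒳' : DefSch (Spec (CommRingCat.of B₀))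
        (Spec.map (CommRingCat.ofHom (algebraMap k B₀))) C', (𝒳'.baseChange p).Iso 𝒳),
      (∃ ψ : a.1.Iso b.1, ((ψ.baseChange p).trans b.2).iso = a.2.iso) → F a = F b := by
    rintro a b ⟨ψ, hψ⟩
    have h1 := (rel_iff_clIm a.2 b.2 ψ).1 hψ
    obtain ⟨χ⟩ := equiv_of_rel hp a.2 b.2 ψ h1
    obtain ⟨χ'⟩ := theta_congr C'.res (rhoB p 𝒳) (hρc p 𝒳) (hρs p 𝒳) (hρk p 𝒳 hp.1) (hBM p 𝒳)
      (hpS hp.1) (tau k (C' := C') (C := CTgt p) B₀) (isCompat_extOfPair hp b.2)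
      (isCompat_extOfPair hp a.2) hX₀c χ
    have h2 : (thetaP hp (isCompat_extOfPair hp b.2) hX₀c).cl =
        (thetaP hp (isCompat_extOfPair hp a.2) hX₀c).cl := Quotient.sound ⟨χ'⟩
    exact h2.symm
  refine ⟨Equiv.ofBijective (Quot.lift F hF) ⟨?_, ?_⟩⟩
  · rintro ⟨a⟩ ⟨b⟩ h
    have h' : F a = F b := h
    obtain ⟨χ⟩ := Quotient.exact h'
    obtain ⟨e1⟩ := equiv_sumExt_theta C'.res (rhoB p 𝒳) (hρc p 𝒳) (hρs p 𝒳) (hρk p 𝒳 hp.1)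
      (hBM p 𝒳) (hpS hp.1) (tau k (C' := C') (C := CTgt p) B₀) (isCompat_extOfPair hp a.2) hX₀c
    obtain ⟨e2⟩ := equiv_sumExt_theta C'.res (rhoB p 𝒳) (hρc p 𝒳) (hρs p 𝒳) (hρk p 𝒳 hp.1)
      (hBM p 𝒳) (hpS hp.1) (tau k (C' := C') (C := CTgt p) B₀) (isCompat_extOfPair hp b.2) hX₀c
    obtain ⟨e3⟩ := sumExt_congr C'.res (rhoB p 𝒳) (hρc p 𝒳) (hBM p 𝒳) (extOfPair hp α₀) χ
    obtain ⟨ψ, hψ⟩ := rel_of_equiv hp a.2 b.2 ((e1.trans e3).trans e2.symm)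
    exact Quot.sound ⟨ψ, (rel_iff_clIm a.2 b.2 ψ).2 hψ⟩
  · intro y
    obtain ⟨Y, rfl⟩ := Quotient.exists_rep y
    have hc := isCompat_sumExt C'.res (rhoB p 𝒳) (hρc p 𝒳) (hBM p 𝒳) (hJres p)
      (tau k (C' := C') (C := CTgt p) B₀) hX₀c Y
    haveI : Module.Flat C' (extOfPair hp α₀).E := inferInstanceAs (Module.Flat C' (DRing 𝒳₀))
    haveI := flat_sumExt C'.res (rhoB p 𝒳) (hρc p 𝒳) (hBM p 𝒳) (extOfPair hp α₀) Y
    obtain ⟨𝒴, α, ⟨χ⟩⟩ := exists_pair_of_ext hp (sumP (extOfPair hp α₀) Y) hc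
    refine ⟨Quot.mk _ ⟨𝒴, α⟩, ?_⟩
    change F ⟨𝒴, α⟩ = _
    obtain ⟨e1⟩ := theta_congr C'.res (rhoB p 𝒳) (hρc p 𝒳) (hρs p 𝒳) (hρk p 𝒳 hp.1) (hBM p 𝒳)
      (hpS hp.1) (tau k (C' := C') (C := CTgt p) B₀) (isCompat_extOfPair hp α) hc hX₀c χ
    obtain ⟨e2⟩ := theta_sumExt_equiv C'.res (rhoB p 𝒳) (hρc p 𝒳) (hρs p 𝒳) (hρk p 𝒳 hp.1)
      (hBM p 𝒳) (hpS hp.1) (hJres p) (tau k (C' := C') (C := CTgt p) B₀) hX₀c Y
    have h2 : (thetaP hp (isCompat_extOfPair hp α) hX₀c).cl = Y.cl :=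
      Quotient.sound ⟨e1.trans e2⟩
    exact h2

end Final

end Groth.Agent.Lib.Helper19.DefTors
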