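import Groth.Agent.Lib.Helper19Functor
import Groth.Agent.Lib.Helper19Torsor

set_option autoImplicit false
universe u v w

open CategoryTheory ArtFun ArtFun.Art

namespace Groth.Agent.Lib.Helper19

section Deform

variable {Λ : Type u} {k : Type u} [CommRing Λ] [Field k] [Algebra Λ k]

/-- Condition (RS): the comparison map is bijective whenever `A'' ⟶ A` is surjective. -/
def RS (F : Art Λ k ⥤ Type v) : Prop :=
  ∀ ⦃B A A' A'' : Art Λ k⦄ (p' : B ⟶ A') (p'' : B ⟶ A'') (f' : A' ⟶ A) (f'' : A'' ⟶ A)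
    (h : IsFibreProd p' p'' f' f''), Function.Surjective f'' → Function.Bijective (cmp F h)

/-- (RS) follows from (RS) for small extensions. -/
theorem rs_of_rs_smallExt [Module.Finite Λ k] (F : Art Λ k ⥤ Type v)
    (h : ∀ ⦃B A A' A'' : Art Λ k⦄ (p' : B ⟶ A') (p'' : B ⟶ A'') (f' : A' ⟶ A) (f'' : A'' ⟶ A)
      (h : IsFibreProd p' p'' f' f''), IsSmallExt f'' → Function.Bijective (cmp F h)) : RS F := by
  intro B A A' A'' p' p'' f' f'' hfp hs
  have key : Function.Surjective f'' ∧ ∀ (A' B : Art Λ k) (f' : A' ⟶ A) (p' : B ⟶ A') (p'' : B ⟶ A'')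
      (h : IsFibreProd p' p'' f' f''), Function.Bijective (cmp F h) := by
    refine surjective_induction (fun A A'' f'' => Function.Surjective f'' ∧
      ∀ (A' B : Art Λ k) (f' : A' ⟶ A) (p' : B ⟶ A') (p'' : B ⟶ A'')
      (h : IsFibreProd p' p'' f' f''), Function.Bijective (cmp F h)) ?_ ?_ ?_ f'' hs
    · intro A A'' e he
      have hb := bijective_of_isIso e
      refine ⟨hb.2, ?_⟩
      intro A' B f' p' p'' h
      haveI : IsIso p' := isIso_of_bijective p' (fibreProd_fst_bijective_of_bijective h hb)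
      constructor
      · rw [cmp_injective_iff]
        intro z z' e1 _
        have := congrArg (F.map (inv p')) e1
        rwa [map_inv_map, map_inv_map] at this
      · rw [cmp_surjective_iff]
        intro x' x'' hx
        refine ⟨F.map (inv p') x', map_map_inv F p' x', ?_⟩
        have e1 : inv p' ≫ p'' = f' ≫ inv e := by
          rw [IsIso.inv_comp_eq, ← Category.assoc, IsIso.eq_comp_inv, h.w]
        rw [← map_comp_apply', e1, map_comp_apply', hx, map_inv_map]
    · intro A A'' p hp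
      exact ⟨hp.1, fun A' B f' p' p'' hh => h p' p'' f' p hh hp⟩
    · intro A B' C p q hp hq
      refine ⟨fun a => ?_, ?_⟩
      · obtain ⟨b, rfl⟩ := hq.1 a
        obtain ⟨c, rfl⟩ := hp.1 b
        exact ⟨c, rfl⟩
      · intro A' B f' p' p'' h
        have hD := isFibreProd_pullbackObj f' q hq.1
        set D := pullbackObj f' q hq.1
        set d' := pullbackObjFst f' q hq.1
        set d'' := pullbackObjSnd f' q hq.1
        have w : p' ≫ f' = (p'' ≫ p) ≫ q := by rw [h.w, Category.assoc]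
        set l := fibreProdLift hD p' (p'' ≫ p) w
        have hl1 : l ≫ d' = p' := fibreProdLift_fst hD _ _ w
        have hl2 : l ≫ d'' = p'' ≫ p := fibreProdLift_snd hD _ _ w
        have hpaste := fibreProd_paste hD h l hl1 hl2
        have hbD := hq.2 A' D f' d' d'' hD
        have hbB := hp.2 D B d'' l p'' hpaste
        constructor
        · rw [cmp_injective_iff]
          intro z z' e1 e2
          apply (cmp_injective_iff F hpaste).1 hbB.1 z z' _ e2
          apply (cmp_injective_iff F hD).1 hbD.1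
          · rw [← map_comp_apply', ← map_comp_apply', hl1, e1]
          · rw [← map_comp_apply', ← map_comp_apply', hl2, map_comp_apply', map_comp_apply', e2]
        · rw [cmp_surjective_iff]
          intro x' x'' hx
          rw [map_comp_apply'] at hx
          obtain ⟨wD, hw1, hw2⟩ := (cmp_surjective_iff F hD).1 hbD.2 x' (F.map p x'') hx
          obtain ⟨z, hz1, hz2⟩ := (cmp_surjective_iff F hpaste).1 hbB.2 wD x'' hw2
          refine ⟨z, ?_, hz2⟩
          rw [← hl1, map_comp_apply', hz1, hw1]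
  exact key.2 A' B f' p' p'' hfp

/-- Data of a small extension: a generator of the kernel which is a nonzero socle element. -/
lemma exists_gen_of_isSmallExt {A B : Art Λ k} {μ : B ⟶ A} (hμ : IsSmallExt μ) :
    ∃ t : B, RingHom.ker μ.toAlgHom = Ideal.span {t} ∧ t ≠ 0 ∧ IsSocle B t ∧
      t ∈ IsLocalRing.maximalIdeal B := by
  obtain ⟨-, hne, ⟨⟨t, ht⟩⟩, hm⟩ := hμ
  have ht' : RingHom.ker μ.toAlgHom = Ideal.span {t} := ht
  have htk : t ∈ RingHom.ker μ.toAlgHom := by rw [ht']; exact Ideal.mem_span_singleton_self t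
  refine ⟨t, ht', ?_, ?_, ker_le_maximalIdeal μ htk⟩
  · intro h0
    apply hne
    rw [ht', h0, Ideal.span_singleton_eq_bot]
  · intro y hy
    have : y * t ∈ IsLocalRing.maximalIdeal B * RingHom.ker μ.toAlgHom := Ideal.mul_mem_mul hy htk
    rwa [hm, Ideal.mem_bot] at this

lemma toBase_surjective (A : Art Λ k) : Function.Surjective (toBase A) := A.res_surjective

lemma toBase_comp {A B : Art Λ k} (f : A ⟶ B) : f ≫ toBase B = toBase A := eq_toBase _

/-- Under `H0`, any two elements of `F(k)` agree. -/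
lemma h0_elim {F : Art Λ k ⥤ Type v} (h0 : H0 F) (x y : F.obj (base Λ k)) : x = y :=
  @Subsingleton.elim _ h0.2 x y

/-- A smooth morphism of deformation functors which is injective on tangent spaces is injective on every
object. -/
theorem injective_app_of_tangent_injective [Module.Finite Λ k] {F G : Art Λ k ⥤ Type v}
    (hF0 : H0 F) (hF : RS F) (hG : RS G) (φ : F ⟶ G)
    (hd : Function.Injective (TangentSpace.map φ)) (A : Art Λ k) :
    Function.Injective (φ.app A) := by
  have key : Function.Injective (φ.app (base Λ k)) → Function.Injective (φ.app A) := by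
    refine surjective_induction (fun A A' μ => Function.Injective (φ.app A) → Function.Injective (φ.app A'))
      ?_ ?_ ?_ (toBase A) (toBase_surjective A)
    · intro A A' e he hA x₁ x₂ hx
      have := congrArg (G.map e) hx
      rw [← NatTrans.naturality_apply, ← NatTrans.naturality_apply] at this
      have h2 := congrArg (F.map (inv e)) (hA this)
      rwa [map_inv_map, map_inv_map] at h2
    · intro A A' μ hμ hA x₁ x₂ hx
      obtain ⟨t, hker, ht0, ht, htm⟩ := exists_gen_of_isSmallExt hμ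
      -- the images in F(A) agree
      have hxA : F.map μ x₁ = F.map μ x₂ := by
        apply hA
        rw [NatTrans.naturality_apply, NatTrans.naturality_apply, hx]
      -- the doubled object
      have hP := isFibreProd_pullbackObj (toBase A') (toBase (dual Λ k)) (toBase_surjective _)
      set P := pullbackObj (toBase A') (toBase (dual Λ k)) (toBase_surjective _)
      set r₁ : P ⟶ A' := pullbackObjFst _ _ _
      set r₂ : P ⟶ dual Λ k := pullbackObjSnd _ _ _
      set s : P ⟶ A' := shiftHom r₁ r₂ ht htm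
      have hS : IsFibreProd r₁ s μ μ := isFibreProd_shift hP μ ht htm ht0 hker
      set Δ : A' ⟶ P := zeroSection hP
      have hΔ1 : Δ ≫ r₁ = 𝟙 A' := zeroSection_fst hP
      have hΔs : Δ ≫ s = 𝟙 A' := zeroSection_shift hP ht htm
      -- z with components (x₁, x₂)
      obtain ⟨z, hz1, hz2⟩ := (cmp_surjective_iff F hS).1 (hF r₁ s μ μ hS hμ.1).2 x₁ x₂ hxA
      -- φ z = G(Δ)(φ x₁)
      have e1 : φ.app P z = G.map Δ (φ.app A' x₁) := by
        apply (cmp_injective_iff G hS).1 (hG r₁ s μ μ hS hμ.1).1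
        · rw [← NatTrans.naturality_apply, hz1, ← map_comp_apply', hΔ1, map_id_apply']
        · rw [← NatTrans.naturality_apply, hz2, ← map_comp_apply', hΔs, map_id_apply', hx]
      have e2 : φ.app P z = φ.app P (F.map Δ x₁) := by
        rw [e1, NatTrans.naturality_apply]
      -- tangent components agree
      have e3 : F.map r₂ z = F.map r₂ (F.map Δ x₁) := by
        apply hd
        change φ.app (dual Λ k) (F.map r₂ z) = φ.app (dual Λ k) (F.map r₂ (F.map Δ x₁))
        rw [NatTrans.naturality_apply, NatTrans.naturality_apply, e2]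
      have e4 : z = F.map Δ x₁ := by
        apply (cmp_injective_iff F hP).1 (hF r₁ r₂ _ _ hP (toBase_surjective _)).1 _ _ _ e3
        rw [hz1, ← map_comp_apply', hΔ1, map_id_apply']
      rw [← hz2, e4, ← map_comp_apply', hΔs, map_id_apply']
    · intro A B' C p q hp hq hA
      exact hp (hq hA)
  apply key
  intro x y _
  exact h0_elim hF0 x y

/-- The point of `F(k)` pushed to the tangent space is hit from every object. -/
lemma map_toBase_eq {F : Art Λ k ⥤ Type v} (h0 : H0 F) {A A' : Art Λ k} (x : F.obj A) (x' : F.obj A') :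
    F.map (toBase A) x = F.map (toBase A') x' := h0_elim h0 _ _

/-- Smoothness criterion for morphisms of deformation functors. -/
theorem isSmooth_iff_tangent_surjective_and_lifts [Module.Finite Λ k] {F G : Art Λ k ⥤ Type v}
    (hF0 : H0 F) (hF : RS F) (hG0 : H0 G) (hG : RS G) (f : F ⟶ G) :
    IsSmooth f ↔
      (Function.Surjective (TangentSpace.map f) ∧
        ∀ ⦃A' A : Art Λ k⦄ (μ : A' ⟶ A), IsSmallExt μ → ∀ x : F.obj A,
          (∃ y' : G.obj A', G.map μ y' = f.app A x) → ∃ x' : F.obj A', F.map μ x' = x) := by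
  constructor
  · intro hs
    rw [isSmooth_iff] at hs
    refine ⟨?_, ?_⟩
    · intro θ'
      obtain ⟨x0⟩ := hF0.1
      obtain ⟨θ, -, hθ⟩ := hs (toBase (dual Λ k)) (toBase_surjective _) x0 θ' (h0_elim hG0 _ _)
      exact ⟨θ, hθ⟩
    · intro A' A μ hμ x ⟨y', hy'⟩
      obtain ⟨x', hx', -⟩ := hs μ hμ.1 x y' hy'.symm
      exact ⟨x', hx'⟩
  · rintro ⟨hd, hl⟩
    apply isSmooth_of_smallExt
    intro A' A μ hμ
    rw [relCmp_surjective_iff]
    intro x y' hxy
    obtain ⟨x₀, hx₀⟩ := hl μ hμ x ⟨y', hxy.symm⟩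
    obtain ⟨t, hker, ht0, ht, htm⟩ := exists_gen_of_isSmallExt hμ
    have hP := isFibreProd_pullbackObj (toBase A') (toBase (dual Λ k)) (toBase_surjective _)
    set P := pullbackObj (toBase A') (toBase (dual Λ k)) (toBase_surjective _)
    set r₁ : P ⟶ A' := pullbackObjFst _ _ _
    set r₂ : P ⟶ dual Λ k := pullbackObjSnd _ _ _
    set s : P ⟶ A' := shiftHom r₁ r₂ ht htm
    have hS : IsFibreProd r₁ s μ μ := isFibreProd_shift hP μ ht htm ht0 hker
    -- f x₀ and y' are two lifts of f x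
    have e0 : G.map μ (f.app A' x₀) = G.map μ y' := by
      rw [← NatTrans.naturality_apply, hx₀, hxy]
    obtain ⟨w, hw1, hw2⟩ := (cmp_surjective_iff G hS).1 (hG r₁ s μ μ hS hμ.1).2 _ _ e0
    obtain ⟨θ, hθ⟩ := hd (G.map r₂ w)
    have hθ' : f.app (dual Λ k) θ = G.map r₂ w := hθ
    obtain ⟨z, hz1, hz2⟩ := (cmp_surjective_iff F hP).1
      (hF r₁ r₂ _ _ hP (toBase_surjective _)).2 x₀ θ (map_toBase_eq hF0 _ _)
    have e1 : f.app P z = w := by
      apply (cmp_injective_iff G hP).1 (hG r₁ r₂ _ _ hP (toBase_surjective _)).1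
      · rw [← NatTrans.naturality_apply, hz1, hw1]
      · rw [← NatTrans.naturality_apply, hz2, hθ']
    refine ⟨F.map s z, ?_, ?_⟩
    · rw [← map_comp_apply', ← hS.w, map_comp_apply', hz1, hx₀]
    · rw [NatTrans.naturality_apply, e1, hw2]

theorem isSmooth_of_comp_smooth_of_tangent_surjective [Module.Finite Λ k] {F G H : Art Λ k ⥤ Type v}
    (hF0 : H0 F) (hF : RS F) (hG0 : H0 G) (hG : RS G)
    (φ : F ⟶ G) (ψ : G ⟶ H) (hd : Function.Surjective (TangentSpace.map φ))
    (hs : IsSmooth (φ ≫ ψ)) : IsSmooth φ := by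
  rw [isSmooth_iff_tangent_surjective_and_lifts hF0 hF hG0 hG]
  refine ⟨hd, ?_⟩
  intro A' A μ hμ x ⟨y', hy'⟩
  rw [isSmooth_iff] at hs
  have e : (φ ≫ ψ).app A x = H.map μ (ψ.app A' y') := by
    change ψ.app A (φ.app A x) = _
    rw [← hy', NatTrans.naturality_apply]
  obtain ⟨x', hx', -⟩ := hs μ hμ.1 x (ψ.app A' y') e
  exact ⟨x', hx'⟩

/-- If two lifts of the same element along a small extension have the same tangent difference as the
trivial one, they agree: the basic rigidity step.  Here stated as: under `Hbar`, `Heps` and a one-point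
tangent space, `F(A')` is a subsingleton whenever `F(A)` is, for a small extension `A' ⟶ A`. -/
theorem subsingleton_of_smallExt [Module.Finite Λ k] {F : Art Λ k ⥤ Type v}
    (h1 : Hbar F) (h2 : Heps F) (ht : Subsingleton (TangentSpace F))
    {A' A : Art Λ k} (μ : A' ⟶ A) (hμ : IsSmallExt μ) (hA : Subsingleton (F.obj A)) :
    Subsingleton (F.obj A') := by
  refine ⟨fun y y' => ?_⟩
  obtain ⟨t, hker, ht0, hts, htm⟩ := exists_gen_of_isSmallExt hμ
  have hP := isFibreProd_pullbackObj (toBase A') (toBase (dual Λ k)) (toBase_surjective _)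
  set P := pullbackObj (toBase A') (toBase (dual Λ k)) (toBase_surjective _)
  set r₁ : P ⟶ A' := pullbackObjFst _ _ _
  set r₂ : P ⟶ dual Λ k := pullbackObjSnd _ _ _
  set s : P ⟶ A' := shiftHom r₁ r₂ hts htm
  have hS : IsFibreProd r₁ s μ μ := isFibreProd_shift hP μ hts htm ht0 hker
  set Δ : A' ⟶ P := zeroSection hP
  have hΔ1 : Δ ≫ r₁ = 𝟙 A' := zeroSection_fst hP
  have hΔs : Δ ≫ s = 𝟙 A' := zeroSection_shift hP hts htm
  obtain ⟨w, hw1, hw2⟩ := (cmp_surjective_iff F hS).1 (h1 r₁ s μ μ hS hμ) y y' (Subsingleton.elim _ _)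
  have e : w = F.map Δ y := by
    apply (cmp_injective_iff F hP).1 (h2 r₁ r₂ hP).1
    · rw [hw1, ← map_comp_apply', hΔ1, map_id_apply']
    · exact @Subsingleton.elim _ ht (F.map r₂ w) (F.map r₂ (F.map Δ y))
  rw [← hw2, e, ← map_comp_apply', hΔs, map_id_apply']

/-- A functor with `F(k)` a point, `Hbar`, `Heps` and one-point tangent space has subsingleton values. -/
theorem subsingleton_obj_of_subsingleton_tangent [Module.Finite Λ k] {F : Art Λ k ⥤ Type v}
    (h0 : H0 F) (h1 : Hbar F) (h2 : Heps F) (ht : Subsingleton (TangentSpace F)) (A : Art Λ k) :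
    Subsingleton (F.obj A) := by
  have key : Subsingleton (F.obj (base Λ k)) → Subsingleton (F.obj A) := by
    refine surjective_induction (fun A A' μ => Subsingleton (F.obj A) → Subsingleton (F.obj A'))
      ?_ ?_ ?_ (toBase A) (toBase_surjective A)
    · intro A A' e he hA
      refine ⟨fun x y => ?_⟩
      have := congrArg (F.map (inv e)) (@Subsingleton.elim _ hA (F.map e x) (F.map e y))
      rwa [map_inv_map, map_inv_map] at this
    · intro A A' μ hμ hA
      exact subsingleton_of_smallExt h1 h2 ht μ hμ hA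
    · intro A B' C p q hp hq hA
      exact hp (hq hA)
  exact key h0.2

/-- `H0`, `Hbar`, `Heps`, `HSq` together give (RS). -/
theorem rs_of_hbar_heps_hsq [Module.Finite Λ k] {F : Art Λ k ⥤ Type v}
    (h0 : H0 F) (h1 : Hbar F) (h2 : Heps F) (h4 : HSq F) : RS F := by
  apply rs_of_rs_smallExt
  intro B A A' A'' p' p'' f' f'' h hf''
  refine ⟨?_, h1 p' p'' f' f'' h hf''⟩
  rw [cmp_injective_iff]
  intro z z' e1 e2
  obtain ⟨t, hker, ht0, hts, htm⟩ := exists_gen_of_isSmallExt hf''
  obtain ⟨bt, hbt1, hbt2, hkerp, hbt0, hbts, hbtm⟩ := fibreProd_gen h hker ht0 hts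
  have hp' : IsSmallExt p' := fibreProd_isSmallExt_fst h hf''
  -- doubled object of B
  have hP := isFibreProd_pullbackObj (toBase B) (toBase (dual Λ k)) (toBase_surjective _)
  set P := pullbackObj (toBase B) (toBase (dual Λ k)) (toBase_surjective _)
  set r₁ : P ⟶ B := pullbackObjFst _ _ _
  set r₂ : P ⟶ dual Λ k := pullbackObjSnd _ _ _
  set s : P ⟶ B := shiftHom r₁ r₂ hbts hbtm
  have hS : IsFibreProd r₁ s p' p' := isFibreProd_shift hP p' hbts hbtm hbt0 hkerp
  set Δ : B ⟶ P := zeroSection hP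
  have hΔ1 : Δ ≫ r₁ = 𝟙 B := zeroSection_fst hP
  have hΔ2 : Δ ≫ r₂ = toBase B ≫ baseToDual := zeroSection_snd hP
  have hΔs : Δ ≫ s = 𝟙 B := zeroSection_shift hP hbts hbtm
  -- doubled object of A''
  have hQ := isFibreProd_pullbackObj (toBase A'') (toBase (dual Λ k)) (toBase_surjective _)
  set Q := pullbackObj (toBase A'') (toBase (dual Λ k)) (toBase_surjective _)
  set q₁ : Q ⟶ A'' := pullbackObjFst _ _ _
  set q₂ : Q ⟶ dual Λ k := pullbackObjSnd _ _ _
  set sQ : Q ⟶ A'' := shiftHom q₁ q₂ hts htm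
  have hSQ : IsFibreProd q₁ sQ f'' f'' := isFibreProd_shift hQ f'' hts htm ht0 hker
  set ΔQ : A'' ⟶ Q := zeroSection hQ
  have hΔQ1 : ΔQ ≫ q₁ = 𝟙 A'' := zeroSection_fst hQ
  have hΔQ2 : ΔQ ≫ q₂ = toBase A'' ≫ baseToDual := zeroSection_snd hQ
  have hΔQs : ΔQ ≫ sQ = 𝟙 A'' := zeroSection_shift hQ hts htm
  -- the map P ⟶ Q
  have wπ : (r₁ ≫ p'') ≫ toBase A'' = r₂ ≫ toBase (dual Λ k) :=
    (eq_toBase _).trans (eq_toBase _).symm
  set π : P ⟶ Q := fibreProdLift hQ (r₁ ≫ p'') r₂ wπ
  have hπ1 : π ≫ q₁ = r₁ ≫ p'' := fibreProdLift_fst hQ _ _ wπ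
  have hπ2 : π ≫ q₂ = r₂ := fibreProdLift_snd hQ _ _ wπ
  have hπs : π ≫ sQ = s ≫ p'' := by
    apply hom_ext; apply AlgHom.ext; intro x
    change sQ (π x) = p'' (s x)
    rw [shiftHom_apply, shiftHom_apply, hom_map_add, hom_kmul p'' hts hbt2]
    have e1 : q₁ (π x) = p'' (r₁ x) := comp_apply_eq (b := q₁) (c := r₁) (d := p'') hπ1 x
    have e2 : q₂ (π x) = r₂ x := comp_apply_eq (b := q₂) (c := r₂) (d := 𝟙 _) (by rw [hπ2]; rfl) x
    rw [e1, e2]
  -- w with components (z, z')
  obtain ⟨w, hw1, hw2⟩ := (cmp_surjective_iff F hS).1 (h1 r₁ s p' p' hS hp') z z' e1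
  -- its image in F(Q) is the trivial element over x''
  have eQ : F.map π w = F.map ΔQ (F.map p'' z) := by
    apply (cmp_injective_iff F hSQ).1 (h4 q₁ sQ f'' hSQ hf'').1
    · rw [← map_comp_apply', hπ1, map_comp_apply', hw1, ← map_comp_apply', hΔQ1, map_id_apply']
    · rw [← map_comp_apply', hπs, map_comp_apply', hw2, ← map_comp_apply', hΔQs, map_id_apply', e2]
  have e3a : F.map r₂ w = F.map q₂ (F.map π w) := by rw [← map_comp_apply', hπ2]
  have e3b : F.map q₂ (F.map ΔQ (F.map p'' z)) =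
      F.map baseToDual (F.map (toBase A'') (F.map p'' z)) := by
    rw [← map_comp_apply', hΔQ2, map_comp_apply']
  have e3c : F.map r₂ (F.map Δ z) = F.map baseToDual (F.map (toBase B) z) := by
    rw [← map_comp_apply', hΔ2, map_comp_apply']
  have e3 : F.map r₂ w = F.map r₂ (F.map Δ z) := by
    rw [e3a, eQ, e3b, e3c]
    congr 1
    exact h0_elim h0 _ _
  have e4 : w = F.map Δ z := by
    apply (cmp_injective_iff F hP).1 (h2 r₁ r₂ hP).1 _ _ _ e3
    rw [hw1, ← map_comp_apply', hΔ1, map_id_apply']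
  rw [← hw2, e4, ← map_comp_apply', hΔs, map_id_apply']

section VersalCrit

variable {R : Type u} [CommRing R] [Algebra Λ R] {resR : R →ₐ[Λ] k}

lemma homSet_map_comp {A B C : Art Λ k} (f : A ⟶ B) (g : B ⟶ C) (φ : HomSet R resR A) :
    HomSet.map (f ≫ g) φ = HomSet.map g (HomSet.map f φ) := Subtype.ext (AlgHom.ext fun _ => rfl)

lemma homSet_map_id {A : Art Λ k} (φ : HomSet R resR A) : HomSet.map (𝟙 A) φ = φ :=
  Subtype.ext (AlgHom.ext fun _ => rfl)

/-- Versality may be checked on small extensions. -/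
theorem isVersal_of_smallExt {F : Art Λ k ⥤ Type v} (ξ : Family R resR F)
    (h : ∀ ⦃B A : Art Λ k⦄ (μ : B ⟶ A), IsSmallExt μ →
      ∀ (φ : HomSet R resR A) (y : F.obj B), F.map μ y = ξ.app A φ →
        ∃ ψ : HomSet R resR B, HomSet.map μ ψ = φ ∧ ξ.app B ψ = y) : IsVersal ξ := by
  intro B A μ hμ
  refine surjective_induction (fun A B μ => ∀ (φ : HomSet R resR A) (y : F.obj B),
    F.map μ y = ξ.app A φ → ∃ ψ : HomSet R resR B, HomSet.map μ ψ = φ ∧ ξ.app B ψ = y) ?_ ?_ ?_ μ hμ
  · intro A B e he φ y hy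
    refine ⟨HomSet.map (inv e) φ, ?_, ?_⟩
    · rw [← homSet_map_comp, IsIso.inv_hom_id, homSet_map_id]
    · rw [ξ.natural, ← hy, map_inv_map]
  · intro A B μ hμ
    exact h μ hμ
  · intro A B' C p q hp hq φ y hy
    rw [map_comp_apply'] at hy
    obtain ⟨ψ₁, h1, h2⟩ := hq φ (F.map p y) hy
    obtain ⟨ψ, h3, h4⟩ := hp ψ₁ y h2.symm
    refine ⟨ψ, ?_, h4⟩
    rw [homSet_map_comp, h3, h1]

/-- Criterion for versality of a family of a functor satisfying `H0`, (S1), (S2). -/
theorem isVersal_iff_tangent_surjective_and_exists_lift [Module.Finite Λ k] {F : Art Λ k ⥤ Type v}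
    (h0 : H0 F) (h1 : S1 F) (h2 : Heps F) (ξ : Family R resR F) :
    IsVersal ξ ↔
      (Function.Surjective (TangentSpace.ofFamily ξ) ∧
        ∀ ⦃B A : Art Λ k⦄ (μ : B ⟶ A), IsSmallExt μ →
          ∀ (φ : HomSet R resR A) (y : F.obj B), F.map μ y = ξ.app A φ →
            ∃ ψ : HomSet R resR B, HomSet.map μ ψ = φ) := by
  constructor
  · intro hv
    refine ⟨?_, ?_⟩
    · intro θ'
      obtain ⟨ψ, -, hψ⟩ := hv (toBase (dual Λ k)) (toBase_surjective _) (homSetBase R resR) θ'
        (h0_elim h0 _ _)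
      exact ⟨ψ, hψ⟩
    · intro B A μ hμ φ y hy
      obtain ⟨ψ, hψ, -⟩ := hv μ hμ.1 φ y hy
      exact ⟨ψ, hψ⟩
  · rintro ⟨hd, hl⟩
    apply isVersal_of_smallExt
    intro A' A μ hμ φ y hy
    obtain ⟨ψ₀, hψ₀⟩ := hl μ hμ φ y hy
    obtain ⟨t, hker, ht0, ht, htm⟩ := exists_gen_of_isSmallExt hμ
    have hP := isFibreProd_pullbackObj (toBase A') (toBase (dual Λ k)) (toBase_surjective _)
    set P := pullbackObj (toBase A') (toBase (dual Λ k)) (toBase_surjective _)
    set r₁ : P ⟶ A' := pullbackObjFst _ _ _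
    set r₂ : P ⟶ dual Λ k := pullbackObjSnd _ _ _
    set s : P ⟶ A' := shiftHom r₁ r₂ ht htm
    have hS : IsFibreProd r₁ s μ μ := isFibreProd_shift hP μ ht htm ht0 hker
    have e0 : F.map μ (ξ.app A' ψ₀) = F.map μ y := by
      rw [← ξ.natural, hψ₀, hy]
    obtain ⟨w, hw1, hw2⟩ := (cmp_surjective_iff F hS).1 (h1 r₁ s μ μ hS hμ.1) _ _ e0
    obtain ⟨θ, hθ⟩ := hd (F.map r₂ w)
    have hθ' : ξ.app (dual Λ k) θ = F.map r₂ w := hθ
    obtain ⟨ζ, hζ1, hζ2⟩ := homSet_lift hP ψ₀ θ
      ((homSet_map_toBase _).trans (homSet_map_toBase _).symm)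
    have e1 : ξ.app P ζ = w := by
      apply (cmp_injective_iff F hP).1 (h2 r₁ r₂ hP).1
      · rw [← ξ.natural, hζ1, hw1]
      · rw [← ξ.natural, hζ2, hθ']
    refine ⟨HomSet.map s ζ, ?_, ?_⟩
    · rw [← homSet_map_comp, ← hS.w, homSet_map_comp, hζ1, hψ₀]
    · rw [ξ.natural, e1, hw2]

end VersalCrit

end Deform

end Groth.Agent.Lib.Helper19
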