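import Mathlib.CategoryTheory.Limits.FunctorCategory.Shapes.Pullbacks
import Mathlib.CategoryTheory.Limits.Types.Pullbacks
import Mathlib.CategoryTheory.Limits.Types.Limits

set_option autoImplicit false
universe u v w u₁ v₁

open CategoryTheory CategoryTheory.Limits

namespace Groth.Agent.Lib.Helper19

section PullbackFun

variable {C : Type u₁} [Category.{v₁} C] {F G H : C ⥤ Type v} (f : H ⟶ F) (g : G ⟶ F)

lemma pbFun_cond (A : C) (z : (pullback f g).obj A) :
    f.app A ((pullback.fst f g).app A z) = g.app A ((pullback.snd f g).app A z) := by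
  have := congrArg (fun t => t.app A) (pullback.condition (f := f) (g := g))
  exact ConcreteCategory.congr_hom this z

lemma pbFun_ext (A : C) (z z' : (pullback f g).obj A)
    (h1 : (pullback.fst f g).app A z = (pullback.fst f g).app A z')
    (h2 : (pullback.snd f g).app A z = (pullback.snd f g).app A z') : z = z' := by
  let e := pullbackObjIso f g A
  have he1 : ∀ w, pullback.fst (f.app A) (g.app A) (e.hom w) = (pullback.fst f g).app A w := fun w =>
    ConcreteCategory.congr_hom (pullbackObjIso_hom_comp_fst f g A) w
  have he2 : ∀ w, pullback.snd (f.app A) (g.app A) (e.hom w) = (pullback.snd f g).app A w := fun w =>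
    ConcreteCategory.congr_hom (pullbackObjIso_hom_comp_snd f g A) w
  have : e.hom z = e.hom z' := by
    apply PullbackCone.IsLimit.type_ext (pullbackIsPullback (f.app A) (g.app A))
    · exact (he1 z).trans (h1.trans (he1 z').symm)
    · exact (he2 z).trans (h2.trans (he2 z').symm)
  have h3 := congrArg e.inv this
  rwa [← types_comp_apply, ← types_comp_apply, e.hom_inv_id, types_id_apply, types_id_apply] at h3

lemma pbFun_exists (A : C) (x : H.obj A) (y : G.obj A) (hxy : f.app A x = g.app A y) :
    ∃ z : (pullback f g).obj A, (pullback.fst f g).app A z = x ∧ (pullback.snd f g).app A z = y := by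
  let e := pullbackObjIso f g A
  let p : pullback (f.app A) (g.app A) :=
    (Types.pullbackIsoPullback (f.app A) (g.app A)).inv ⟨(x, y), hxy⟩
  refine ⟨e.inv p, ?_, ?_⟩
  · have := ConcreteCategory.congr_hom (pullbackObjIso_inv_comp_fst f g A) p
    rw [types_comp_apply] at this
    rw [this]
    exact Types.pullbackIsoPullback_inv_fst_apply (f.app A) (g.app A) ⟨(x, y), hxy⟩
  · have := ConcreteCategory.congr_hom (pullbackObjIso_inv_comp_snd f g A) p
    rw [types_comp_apply] at this
    rw [this]
    exact Types.pullbackIsoPullback_inv_snd_apply (f.app A) (g.app A) ⟨(x, y), hxy⟩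

end PullbackFun

end Groth.Agent.Lib.Helper19
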