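import Groth.Agent.Lib.Helper19Deform
import Groth.Agent.Lib.Helper19PullbackFun

set_option autoImplicit false
universe u v w

open CategoryTheory CategoryTheory.Limits ArtFun ArtFun.Art

namespace Groth.Agent.Lib.Helper19

section DeformPb

variable {Λ : Type u} {k : Type u} [CommRing Λ] [Field k] [Algebra Λ k]

/-- (RS) is inherited by fibre products of functors. -/
theorem rs_pullback {F G H : Art Λ k ⥤ Type v} (f : H ⟶ F) (g : G ⟶ F)
    (hF : RS F) (hG : RS G) (hH : RS H) : RS (pullback f g) := by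
  intro B A A' A'' p' p'' f' f'' h hs
  have bF := hF p' p'' f' f'' h hs
  have bG := hG p' p'' f' f'' h hs
  have bH := hH p' p'' f' f'' h hs
  set fst := pullback.fst f g
  set snd := pullback.snd f g
  constructor
  · rw [cmp_injective_iff]
    intro z z' e1 e2
    apply pbFun_ext f g B
    · apply (cmp_injective_iff H h).1 bH.1
      · rw [← NatTrans.naturality_apply, ← NatTrans.naturality_apply, e1]
      · rw [← NatTrans.naturality_apply, ← NatTrans.naturality_apply, e2]
    · apply (cmp_injective_iff G h).1 bG.1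
      · rw [← NatTrans.naturality_apply, ← NatTrans.naturality_apply, e1]
      · rw [← NatTrans.naturality_apply, ← NatTrans.naturality_apply, e2]
  · rw [cmp_surjective_iff]
    intro x' x'' hx
    obtain ⟨a, ha1, ha2⟩ := (cmp_surjective_iff H h).1 bH.2 (fst.app A' x') (fst.app A'' x'')
      (by rw [← NatTrans.naturality_apply, ← NatTrans.naturality_apply, hx])
    obtain ⟨b, hb1, hb2⟩ := (cmp_surjective_iff G h).1 bG.2 (snd.app A' x') (snd.app A'' x'')
      (by rw [← NatTrans.naturality_apply, ← NatTrans.naturality_apply, hx])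
    have hab : f.app B a = g.app B b := by
      apply (cmp_injective_iff F h).1 bF.1
      · rw [← NatTrans.naturality_apply, ← NatTrans.naturality_apply, ha1, hb1]
        exact pbFun_cond f g A' x'
      · rw [← NatTrans.naturality_apply, ← NatTrans.naturality_apply, ha2, hb2]
        exact pbFun_cond f g A'' x''
    obtain ⟨z, hz1, hz2⟩ := pbFun_exists f g B a b hab
    refine ⟨z, ?_, ?_⟩
    · apply pbFun_ext f g A'
      · change fst.app A' _ = _
        rw [NatTrans.naturality_apply]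
        change H.map p' (fst.app B z) = _
        rw [hz1, ha1]
      · change snd.app A' _ = _
        rw [NatTrans.naturality_apply]
        change G.map p' (snd.app B z) = _
        rw [hz2, hb1]
    · apply pbFun_ext f g A''
      · change fst.app A'' _ = _
        rw [NatTrans.naturality_apply]
        change H.map p'' (fst.app B z) = _
        rw [hz1, ha2]
      · change snd.app A'' _ = _
        rw [NatTrans.naturality_apply]
        change G.map p'' (snd.app B z) = _
        rw [hz2, hb2]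

/-- If `q : G ⟶ F` is injective on tangent spaces (deformation functors), the comparison
`H₁ ×_G H₂ ⟶ H₁ ×_F H₂` is smooth. -/
theorem isSmooth_pullback_map_of_tangent_injective [Module.Finite Λ k]
    {F G H₁ H₂ : Art Λ k ⥤ Type v} (p₁ : H₁ ⟶ G) (p₂ : H₂ ⟶ G) (q : G ⟶ F)
    (hF : RS F) (hG0 : H0 G) (hG : RS G)
    (hq : Function.Injective (TangentSpace.map q)) :
    IsSmooth (pullback.map p₁ p₂ (p₁ ≫ q) (p₂ ≫ q) (𝟙 H₁) (𝟙 H₂) q
      (Category.id_comp _).symm (Category.id_comp _).symm) := by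
  set Φ := pullback.map p₁ p₂ (p₁ ≫ q) (p₂ ≫ q) (𝟙 H₁) (𝟙 H₂) q
      (Category.id_comp _).symm (Category.id_comp _).symm with hΦ
  have hΦ1 : Φ ≫ pullback.fst (p₁ ≫ q) (p₂ ≫ q) = pullback.fst p₁ p₂ := by
    rw [hΦ, pullback.lift_fst, Category.comp_id]
  have hΦ2 : Φ ≫ pullback.snd (p₁ ≫ q) (p₂ ≫ q) = pullback.snd p₁ p₂ := by
    rw [hΦ, pullback.lift_snd, Category.comp_id]
  have hΦ1' : ∀ (A : Art Λ k) (z : (pullback p₁ p₂).obj A),
      (pullback.fst (p₁ ≫ q) (p₂ ≫ q)).app A (Φ.app A z) = (pullback.fst p₁ p₂).app A z := by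
    intro A z
    have := congrArg (fun t => t.app A) hΦ1
    exact ConcreteCategory.congr_hom this z
  have hΦ2' : ∀ (A : Art Λ k) (z : (pullback p₁ p₂).obj A),
      (pullback.snd (p₁ ≫ q) (p₂ ≫ q)).app A (Φ.app A z) = (pullback.snd p₁ p₂).app A z := by
    intro A z
    have := congrArg (fun t => t.app A) hΦ2
    exact ConcreteCategory.congr_hom this z
  have hqinj : ∀ A, Function.Injective (q.app A) :=
    injective_app_of_tangent_injective hG0 hG hF q hq
  rw [isSmooth_iff]
  intro B A μ hμ x y hxy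
  have hc := pbFun_cond (p₁ ≫ q) (p₂ ≫ q) B y
  have hc' : p₁.app B ((pullback.fst (p₁ ≫ q) (p₂ ≫ q)).app B y) =
      p₂.app B ((pullback.snd (p₁ ≫ q) (p₂ ≫ q)).app B y) := hqinj B hc
  obtain ⟨z, hz1, hz2⟩ := pbFun_exists p₁ p₂ B _ _ hc'
  have hzy : Φ.app B z = y := by
    apply pbFun_ext (p₁ ≫ q) (p₂ ≫ q) B
    · rw [hΦ1', hz1]
    · rw [hΦ2', hz2]
  refine ⟨z, ?_, hzy⟩
  apply pbFun_ext p₁ p₂ A
  · rw [← hΦ1', ← hΦ1', NatTrans.naturality_apply, hzy, hxy]
  · rw [← hΦ2', ← hΦ2', NatTrans.naturality_apply, hzy, hxy]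

/-- Smooth morphisms are stable under base change. -/
theorem isSmooth_pullback_snd {F G G' : Art Λ k ⥤ Type v} (φ : F ⟶ G) (ψ : G' ⟶ G)
    (hφ : IsSmooth φ) : IsSmooth (pullback.snd φ ψ) := by
  rw [isSmooth_iff] at hφ ⊢
  intro B A μ hμ x y hxy
  -- x ∈ (F ×_G G')(A), y ∈ G'(B)
  have hc := pbFun_cond φ ψ A x
  have e : φ.app A ((pullback.fst φ ψ).app A x) = G.map μ (ψ.app B y) := by
    rw [hc, hxy, NatTrans.naturality_apply]
  obtain ⟨a, ha1, ha2⟩ := hφ μ hμ _ _ e
  obtain ⟨z, hz1, hz2⟩ := pbFun_exists φ ψ B a y ha2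
  refine ⟨z, ?_, hz2⟩
  apply pbFun_ext φ ψ A
  · rw [NatTrans.naturality_apply, hz1, ha1]
  · rw [NatTrans.naturality_apply, hz2, hxy]

end DeformPb

end Groth.Agent.Lib.Helper19
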