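import Mathlib

/-!
# Closed subalgebras of `k[[t]]` with cofinite value semigroup (helper8), part 1

`A ⊆ P = k[[t]]` a `t`-adically closed `k`-subalgebra whose value semigroup contains all `n ≥ c`.
Then `t^c P ⊆ A`, `A` is a local Noetherian domain of dimension one, and `P` is a Noetherian
`A`-module.
-/

set_option autoImplicit false
set_option linter.style.haveILetI false
set_option linter.unusedSectionVars false

namespace Groth.Agent.Lib.Helper8.ValSemi

universe u

open PowerSeries

variable {k : Type u} [Field k] (A : Subalgebra k (PowerSeries k))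

section Basic

variable (hcl : ∀ f : PowerSeries k,
    (∀ n : ℕ, ∃ g ∈ A, (n : ℕ∞) ≤ PowerSeries.order (f - g)) → f ∈ A)
  (c : ℕ) (hc : ∀ n : ℕ, c ≤ n → ∃ f ∈ A, PowerSeries.order f = n)

include hcl hc

/-- `t^c P ⊆ A`. -/
theorem mem_of_le_order (h : PowerSeries k) (hh : (c : ℕ∞) ≤ PowerSeries.order h) : h ∈ A := by
  apply hcl
  have key : ∀ N : ℕ, ∃ g ∈ A, (N : ℕ∞) ≤ PowerSeries.order (h - g) ∧
      (c : ℕ∞) ≤ PowerSeries.order (h - g) := by
    intro N
    induction N with
    | zero => exact ⟨0, A.zero_mem, by simp, by simpa using hh⟩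
    | succ N ih =>
      obtain ⟨g, hg, h1, h2⟩ := ih
      by_cases hr : ((N + 1 : ℕ) : ℕ∞) ≤ PowerSeries.order (h - g)
      · exact ⟨g, hg, hr, h2⟩
      · push Not at hr
        have hN : PowerSeries.order (h - g) = N := by
          apply le_antisymm
          · exact Order.le_of_lt_succ (by
              rw [Order.succ_eq_add_one]
              exact_mod_cast hr)
          · exact h1
        have hcN : c ≤ N := by
          rw [hN] at h2
          exact_mod_cast h2
        obtain ⟨f, hf, hfN⟩ := hc N hcN
        obtain ⟨hb, hb'⟩ := PowerSeries.order_eq_nat.mp hfN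
        obtain ⟨ha, ha'⟩ := PowerSeries.order_eq_nat.mp hN
        set a := PowerSeries.coeff N (h - g)
        set b := PowerSeries.coeff N f
        refine ⟨g + PowerSeries.C (a / b) * f, A.add_mem hg (A.mul_mem (A.algebraMap_mem _) hf),
          ?_, ?_⟩
        · apply PowerSeries.nat_le_order
          intro i hi
          have hsub : h - (g + PowerSeries.C (a / b) * f) = (h - g) - PowerSeries.C (a / b) * f := by
            ring
          rw [hsub, map_sub, PowerSeries.coeff_C_mul]
          rcases Nat.lt_succ_iff_lt_or_eq.mp hi with hlt | rfl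
          · rw [ha' i hlt, hb' i hlt, mul_zero, sub_zero]
          · change a - a / b * b = 0
            field_simp
            ring
        · have hsub : h - (g + PowerSeries.C (a / b) * f) = (h - g) - PowerSeries.C (a / b) * f := by
            ring
          rw [hsub]
          apply PowerSeries.nat_le_order
          intro i hi
          have hiN : i < N := lt_of_lt_of_le hi hcN
          rw [map_sub, PowerSeries.coeff_C_mul, ha' i hiN, hb' i hiN, mul_zero, sub_zero]
  intro n
  obtain ⟨g, hg, h1, _⟩ := key n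
  exact ⟨g, hg, h1⟩

/-- elements of `A` with nonzero constant coefficient are invertible in `A`. -/
theorem inv_mem (f : PowerSeries k) (hf : f ∈ A) (hf0 : PowerSeries.constantCoeff f ≠ 0) :
    f⁻¹ ∈ A := by
  apply hcl
  intro n
  set a₀ := PowerSeries.constantCoeff f
  set u : PowerSeries k := 1 - PowerSeries.C a₀⁻¹ * f with hu
  have huA : u ∈ A := A.sub_mem A.one_mem (A.mul_mem (A.algebraMap_mem _) hf)
  have hu0 : PowerSeries.constantCoeff u = 0 := by
    rw [hu, map_sub, map_mul, PowerSeries.constantCoeff_C, map_one]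
    change 1 - a₀⁻¹ * a₀ = 0
    rw [inv_mul_cancel₀ hf0, sub_self]
  set s : PowerSeries k := PowerSeries.C a₀⁻¹ * ∑ j ∈ Finset.range n, u ^ j with hs
  have hsA : s ∈ A := A.mul_mem (A.algebraMap_mem _)
    (Subalgebra.sum_mem A (fun j _ => Subalgebra.pow_mem A huA j))
  refine ⟨s, hsA, ?_⟩
  have h1 : f * s = 1 - u ^ n := by
    have : f * s = (1 - u) * ∑ j ∈ Finset.range n, u ^ j := by
      rw [hs, hu]
      ring
    rw [this, mul_neg_geom_sum]
  have h2 : f⁻¹ - s = f⁻¹ * u ^ n := by
    have h3 : f⁻¹ * f = 1 := PowerSeries.inv_mul_cancel f hf0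
    calc f⁻¹ - s = f⁻¹ - (f⁻¹ * f) * s := by rw [h3, one_mul]
      _ = f⁻¹ * (1 - f * s) := by ring
      _ = f⁻¹ * u ^ n := by rw [h1]; ring
  rw [h2]
  calc (n : ℕ∞) ≤ PowerSeries.order (u ^ n) :=
        PowerSeries.le_order_pow_of_constantCoeff_eq_zero n hu0
    _ ≤ PowerSeries.order f⁻¹ + PowerSeries.order (u ^ n) := le_add_self
    _ ≤ PowerSeries.order (f⁻¹ * u ^ n) := PowerSeries.le_order_mul _ _

theorem isUnit_of_constantCoeff_ne_zero (a : ↥A)
    (ha : PowerSeries.constantCoeff (a : PowerSeries k) ≠ 0) : IsUnit a := by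
  rw [isUnit_iff_exists_inv]
  exact ⟨⟨(a : PowerSeries k)⁻¹, inv_mem A hcl c hc a a.2 ha⟩,
    Subtype.ext (PowerSeries.mul_inv_cancel _ ha)⟩

theorem isLocalRing : IsLocalRing ↥A := by
  apply IsLocalRing.of_isUnit_or_isUnit_one_sub_self
  intro a
  by_cases ha : PowerSeries.constantCoeff (a : PowerSeries k) = 0
  · right
    apply isUnit_of_constantCoeff_ne_zero A hcl c hc
    change PowerSeries.constantCoeff ((1 : PowerSeries k) - (a : PowerSeries k)) ≠ 0
    rw [map_sub, map_one, ha, sub_zero]
    exact one_ne_zero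
  · left
    exact isUnit_of_constantCoeff_ne_zero A hcl c hc a ha

theorem isUnit_iff (a : ↥A) :
    IsUnit a ↔ PowerSeries.constantCoeff (a : PowerSeries k) ≠ 0 := by
  constructor
  · intro h
    obtain ⟨b, hb⟩ := isUnit_iff_exists_inv.mp h
    have h1 : (a : PowerSeries k) * (b : PowerSeries k) = 1 := congrArg Subtype.val hb
    intro h0
    have h2 := congrArg PowerSeries.constantCoeff h1
    rw [map_mul, h0, zero_mul, map_one] at h2
    exact zero_ne_one h2
  · exact isUnit_of_constantCoeff_ne_zero A hcl c hc a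

/-- divisibility with quotient in `A` from an order estimate. -/
theorem exists_mul_eq_of_order_le (x h : PowerSeries k) (hx : x ≠ 0)
    (hxh : PowerSeries.order x + c ≤ PowerSeries.order h) : ∃ q ∈ A, h = q * x := by
  set a := (PowerSeries.order x).toNat with ha
  have hax : PowerSeries.order x = a := (PowerSeries.coe_toNat_order hx).symm
  set e := PowerSeries.divXPowOrder x with he
  have hxe : PowerSeries.X ^ a * e = x := PowerSeries.X_pow_order_mul_divXPowOrder
  have he0 : PowerSeries.constantCoeff e ≠ 0 := by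
    intro h0
    exact hx (PowerSeries.constantCoeff_divXPowOrder_eq_zero_iff.mp h0)
  have hdvd : (PowerSeries.X : PowerSeries k) ^ (a + c) ∣ h := by
    rw [PowerSeries.X_pow_dvd_iff]
    intro m hm
    apply PowerSeries.coeff_of_lt_order
    refine lt_of_lt_of_le ?_ hxh
    rw [hax]
    exact_mod_cast hm
  obtain ⟨w, hw⟩ := hdvd
  refine ⟨e⁻¹ * PowerSeries.X ^ c * w, ?_, ?_⟩
  · apply mem_of_le_order A hcl c hc
    rw [PowerSeries.order_mul, PowerSeries.order_mul, PowerSeries.order_X_pow]
    calc (c : ℕ∞) ≤ PowerSeries.order e⁻¹ + c := le_add_self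
      _ ≤ PowerSeries.order e⁻¹ + c + PowerSeries.order w := le_self_add
  · have h3 : e⁻¹ * e = 1 := PowerSeries.inv_mul_cancel e he0
    calc h = PowerSeries.X ^ (a + c) * w := hw
      _ = (e⁻¹ * e) * (PowerSeries.X ^ (a + c) * w) := by rw [h3, one_mul]
      _ = e⁻¹ * PowerSeries.X ^ c * w * (PowerSeries.X ^ a * e) := by ring
      _ = e⁻¹ * PowerSeries.X ^ c * w * x := by rw [hxe]

end Basic

/-- the `A`-submodule `t^j P` of `P`. -/
def T (j : ℕ) : Submodule ↥A (PowerSeries k) where
  carrier := {f | (j : ℕ∞) ≤ PowerSeries.order f}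
  zero_mem' := by simp
  add_mem' := by
    intro f g hf hg
    exact le_trans (le_min hf hg) (PowerSeries.min_order_le_order_add f g)
  smul_mem' := by
    intro a f hf
    change (j : ℕ∞) ≤ PowerSeries.order ((a : PowerSeries k) * f)
    calc (j : ℕ∞) ≤ PowerSeries.order f := hf
      _ ≤ PowerSeries.order (a : PowerSeries k) + PowerSeries.order f := le_add_self
      _ ≤ _ := PowerSeries.le_order_mul _ _

theorem mem_T (j : ℕ) (f : PowerSeries k) : f ∈ T A j ↔ (j : ℕ∞) ≤ PowerSeries.order f := Iff.rfl

theorem T_mono {i j : ℕ} (h : i ≤ j) : T A j ≤ T A i := by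
  intro f hf
  rw [mem_T] at hf ⊢
  exact le_trans (by exact_mod_cast h) hf

theorem T_zero : T A 0 = ⊤ := by
  ext f
  simp [mem_T]

theorem T_fg (hA : Module.Finite ↥A (PowerSeries k)) (j : ℕ) : (T A j).FG := by
  have h1 : T A j = Submodule.map (LinearMap.mulLeft ↥A ((PowerSeries.X : PowerSeries k) ^ j)) ⊤ := by
    ext f
    rw [mem_T]
    constructor
    · intro hf
      have hdvd : (PowerSeries.X : PowerSeries k) ^ j ∣ f := by
        rw [PowerSeries.X_pow_dvd_iff]
        intro m hm
        apply PowerSeries.coeff_of_lt_order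
        exact lt_of_lt_of_le (by exact_mod_cast hm) hf
      obtain ⟨w, hw⟩ := hdvd
      exact ⟨w, Submodule.mem_top, hw.symm⟩
    · rintro ⟨w, _, rfl⟩
      change (j : ℕ∞) ≤ PowerSeries.order (PowerSeries.X ^ j * w)
      rw [PowerSeries.order_mul, PowerSeries.order_X_pow]
      exact le_self_add
  rw [h1]
  exact (Module.Finite.fg_top).map _

section Noeth

variable (hcl : ∀ f : PowerSeries k,
    (∀ n : ℕ, ∃ g ∈ A, (n : ℕ∞) ≤ PowerSeries.order (f - g)) → f ∈ A)
  (c : ℕ) (hc : ∀ n : ℕ, c ≤ n → ∃ f ∈ A, PowerSeries.order f = n)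
  (hA : Module.Finite ↥A (PowerSeries k))

include hA in
theorem fg_of_T_le (j : ℕ) : ∀ (i m : ℕ), i + j = m → ∀ J : Submodule ↥A (PowerSeries k),
    T A m ≤ J → J ≤ T A i → J.FG := by
  induction j with
  | zero =>
    intro i m him J h1 h2
    obtain rfl : i = m := by omega
    rw [le_antisymm h2 h1]
    exact T_fg A hA i
  | succ j ih =>
    intro i m him J h1 h2
    have hJ' : (J ⊓ T A (i + 1)).FG :=
      ih (i + 1) m (by omega) _ (le_inf h1 (T_mono A (by omega))) inf_le_right
    by_cases hex : ∃ g ∈ J, PowerSeries.order g = i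
    · obtain ⟨g, hg, hgi⟩ := hex
      obtain ⟨hb, hb'⟩ := PowerSeries.order_eq_nat.mp hgi
      have hJ : J = Submodule.span ↥A {g} ⊔ (J ⊓ T A (i + 1)) := by
        apply le_antisymm
        · intro f hf
          have hfi : (i : ℕ∞) ≤ PowerSeries.order f := h2 hf
          set a := PowerSeries.coeff i f
          set b := PowerSeries.coeff i g
          let r : ↥A := ⟨PowerSeries.C (a / b), A.algebraMap_mem _⟩
          have hrg : r • g ∈ J := J.smul_mem r hg
          have h3 : f - r • g ∈ J ⊓ T A (i + 1) := by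
            refine ⟨J.sub_mem hf hrg, ?_⟩
            rw [SetLike.mem_coe, mem_T]
            apply PowerSeries.nat_le_order
            intro l hl
            change PowerSeries.coeff l (f - PowerSeries.C (a / b) * g) = 0
            rw [map_sub, PowerSeries.coeff_C_mul]
            rcases Nat.lt_succ_iff_lt_or_eq.mp hl with hlt | rfl
            · rw [hb' l hlt, PowerSeries.coeff_of_lt_order l
                (lt_of_lt_of_le (by exact_mod_cast hlt) hfi), mul_zero, sub_zero]
            · change a - a / b * b = 0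
              field_simp
              ring
          have h4 : f = r • g + (f - r • g) := by ring
          rw [h4]
          exact Submodule.add_mem_sup (Submodule.smul_mem _ r (Submodule.mem_span_singleton_self g))
            h3
        · exact sup_le ((Submodule.span_singleton_le_iff_mem g J).mpr hg) inf_le_left
      rw [hJ]
      exact (Submodule.fg_span_singleton g).sup hJ'
    · have hJ : J = J ⊓ T A (i + 1) := by
        apply le_antisymm
        · intro f hf
          refine ⟨hf, ?_⟩
          rw [SetLike.mem_coe, mem_T]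
          have hfi : (i : ℕ∞) ≤ PowerSeries.order f := h2 hf
          have hne : PowerSeries.order f ≠ i := fun h => hex ⟨f, hf, h⟩
          have hlt : (i : ℕ∞) < PowerSeries.order f := lt_of_le_of_ne hfi (Ne.symm hne)
          have := Order.add_one_le_of_lt hlt
          exact_mod_cast this
        · exact inf_le_left
      rw [hJ]
      exact hJ'

include hcl hc hA in
/-- `P` is a Noetherian `A`-module. -/
theorem isNoetherian_powerSeries : IsNoetherian ↥A (PowerSeries k) := by
  rw [isNoetherian_def]
  intro J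
  by_cases hJ0 : J = ⊥
  · rw [hJ0]
    exact Submodule.fg_bot
  obtain ⟨g₀, hg₀, hg₀0⟩ := Submodule.exists_mem_ne_zero_of_ne_bot hJ0
  have hS : ∃ n : ℕ, ∃ g ∈ J, PowerSeries.order g = n :=
    ⟨(PowerSeries.order g₀).toNat, g₀, hg₀, (PowerSeries.coe_toNat_order hg₀0).symm⟩
  classical
  set a := Nat.find hS with ha
  obtain ⟨g, hg, hga⟩ := Nat.find_spec hS
  have hg0 : g ≠ 0 := by
    intro h
    rw [h, PowerSeries.order_zero] at hga
    exact ENat.top_ne_natCast _ hga
  have hmin : ∀ f ∈ J, (a : ℕ∞) ≤ PowerSeries.order f := by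
    intro f hf
    by_cases hf0 : f = 0
    · rw [hf0, PowerSeries.order_zero]
      exact le_top
    · have : Nat.find hS ≤ (PowerSeries.order f).toNat :=
        Nat.find_min' hS ⟨f, hf, (PowerSeries.coe_toNat_order hf0).symm⟩
      rw [← PowerSeries.coe_toNat_order hf0]
      exact_mod_cast this
  have hTle : T A (a + c) ≤ J := by
    intro h hh
    rw [mem_T] at hh
    obtain ⟨q, hq, hqg⟩ := exists_mul_eq_of_order_le A hcl c hc g h hg0 (by
      rw [hga]
      exact_mod_cast hh)
    rw [hqg]
    exact J.smul_mem ⟨q, hq⟩ hg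
  exact fg_of_T_le A hA c a (a + c) rfl J hTle (fun f hf => hmin f hf)

include hcl hc hA in
theorem isNoetherianRing : IsNoetherianRing ↥A := by
  haveI := isNoetherian_powerSeries A hcl c hc hA
  exact isNoetherian_of_injective (Algebra.linearMap ↥A (PowerSeries k))
    (fun x y h => Subtype.ext h)

include hcl hc in
theorem ringKrullDim_eq_one (hc0 : c ≠ 0) :
    haveI := isLocalRing A hcl c hc
    ringKrullDim ↥A = 1 := by
  haveI := isLocalRing A hcl c hc
  rw [ringKrullDim_eq_one_iff_of_isLocalRing_isDomain]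
  constructor
  · intro hF
    have hXc : (PowerSeries.X : PowerSeries k) ^ c ∈ A := mem_of_le_order A hcl c hc _ (by
      rw [PowerSeries.order_X_pow])
    have hne : (⟨_, hXc⟩ : ↥A) ≠ 0 := by
      intro h
      have := congrArg Subtype.val h
      exact pow_ne_zero c PowerSeries.X_ne_zero this
    obtain ⟨b, hb⟩ := hF.mul_inv_cancel hne
    have hu : IsUnit (⟨_, hXc⟩ : ↥A) := isUnit_iff_exists_inv.mpr ⟨b, hb⟩
    rw [isUnit_iff A hcl c hc] at hu
    apply hu
    change PowerSeries.constantCoeff ((PowerSeries.X : PowerSeries k) ^ c) = 0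
    rw [map_pow, PowerSeries.constantCoeff_X, zero_pow hc0]
  · intro x hx f hf
    have hx' : (x : PowerSeries k) ≠ 0 := fun h => hx (Subtype.ext h)
    have hf0 : PowerSeries.constantCoeff (f : PowerSeries k) = 0 := by
      by_contra h
      exact (IsLocalRing.mem_maximalIdeal f).mp hf (isUnit_of_constantCoeff_ne_zero A hcl c hc f h)
    set a := (PowerSeries.order (x : PowerSeries k)).toNat
    have hax : PowerSeries.order (x : PowerSeries k) = a := (PowerSeries.coe_toNat_order hx').symm
    refine ⟨a + c, ?_⟩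
    obtain ⟨q, hq, hqx⟩ := exists_mul_eq_of_order_le A hcl c hc (x : PowerSeries k)
      ((f : PowerSeries k) ^ (a + c)) hx' (by
        rw [hax]
        exact_mod_cast PowerSeries.le_order_pow_of_constantCoeff_eq_zero (a + c) hf0)
    rw [Ideal.mem_span_singleton']
    exact ⟨⟨q, hq⟩, Subtype.ext hqx.symm⟩

end Noeth

end Groth.Agent.Lib.Helper8.ValSemi
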