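import Mathlib

/-!
# Pairing of composite derivations with monomials (helper19)

`R` is an `S`-algebra with an augmentation `μ : R → S`, `J = ker μ`.  Given `S`-derivations `∇ i`
of `R` and elements `x i ∈ J` with `μ (∇ i (x j)) = δ i j`, composites of `n` derivations followed
by `μ` kill `J^(n+1)` and pair with monomials of degree `n` in the `x i` to factorials.  In
characteristic zero this gives the quasi-regularity of the family `x`.
-/

set_option autoImplicit false
universe u v w

namespace Groth.Agent.Lib.Helper19.DerPair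

open MvPolynomial

variable {S : Type u} {R : Type v} [CommRing S] [CommRing R] [Algebra S R]

theorem derivation_mem_pow (J : Ideal R) (D : Derivation S R R) (n : ℕ) {y : R}
    (hy : y ∈ J ^ (n + 1)) : D y ∈ J ^ n := by
  induction n generalizing y with
  | zero => simp
  | succ n ih =>
    rw [pow_succ] at hy
    refine Submodule.mul_induction_on hy ?_ ?_
    · intro a ha b hb
      rw [D.leibniz]
      refine Ideal.add_mem _ ?_ ?_
      · rw [smul_eq_mul]
        exact Ideal.mul_mem_right _ _ ha
      · rw [smul_eq_mul, pow_succ']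
        exact Ideal.mul_mem_mul hb (ih ha)
    · intro a b ha hb
      rw [map_add]
      exact Ideal.add_mem _ ha hb

theorem leibniz_prod {κ : Type w} [DecidableEq κ] (D : Derivation S R R) (s : Finset κ)
    (f : κ → R) : D (∏ j ∈ s, f j) = ∑ j ∈ s, (∏ k ∈ s.erase j, f k) • D (f j) := by
  induction s using Finset.induction_on with
  | empty => simp
  | insert a s ha ih =>
    rw [Finset.prod_insert ha, D.leibniz, ih, Finset.sum_insert ha, Finset.erase_insert ha,
      add_comm, Finset.smul_sum]
    congr 1
    refine Finset.sum_congr rfl fun j hj => ?_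
    have hja : j ≠ a := fun h => ha (h ▸ hj)
    rw [Finset.erase_insert_of_ne (Ne.symm hja), Finset.prod_insert
      (fun h => ha (Finset.mem_of_mem_erase h)), mul_smul]

variable {ι : Type w}

/-- composite of the derivations along a word -/
noncomputable def op (nabla : ι → Derivation S R R) : List ι → (R →ₗ[S] R)
  | [] => LinearMap.id
  | i :: l => op nabla l ∘ₗ (nabla i : R →ₗ[S] R)

theorem op_nil (nabla : ι → Derivation S R R) (y : R) : op nabla [] y = y := rfl

theorem op_cons (nabla : ι → Derivation S R R) (i : ι) (l : List ι) (y : R) :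
    op nabla (i :: l) y = op nabla l (nabla i y) := rfl

theorem op_mem_pow (J : Ideal R) (nabla : ι → Derivation S R R) (l : List ι) (n : ℕ) {y : R}
    (hy : y ∈ J ^ (n + l.length)) : op nabla l y ∈ J ^ n := by
  induction l generalizing y with
  | nil =>
    rw [op_nil]
    simpa using hy
  | cons i l ih =>
    rw [op_cons]
    apply ih
    apply derivation_mem_pow J (nabla i)
    rwa [List.length_cons, ← add_assoc] at hy

variable (μ : R →ₐ[S] S)

theorem mu_op_eq_zero (nabla : ι → Derivation S R R) (l : List ι) {y : R}
    (hy : y ∈ RingHom.ker μ ^ (l.length + 1)) : μ (op nabla l y) = 0 := by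
  have := op_mem_pow (RingHom.ker μ) nabla l 1 (by rwa [add_comm] at hy)
  rwa [pow_one, RingHom.mem_ker] at this

theorem sub_algebraMap_mem_ker (c : R) : c - algebraMap S R (μ c) ∈ RingHom.ker μ := by
  rw [RingHom.mem_ker, map_sub, AlgHom.commutes, Algebra.algebraMap_self, RingHom.id_apply,
    sub_self]

theorem mu_op_mul (nabla : ι → Derivation S R R) (l : List ι) (c : R) {y : R}
    (hy : y ∈ RingHom.ker μ ^ l.length) : μ (op nabla l (c * y)) = μ c * μ (op nabla l y) := by
  have h1 : c * y = (c - algebraMap S R (μ c)) * y + μ c • y := by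
    rw [Algebra.smul_def]; ring
  rw [h1, map_add, map_add, mu_op_eq_zero μ nabla l, zero_add, map_smul, map_smul, smul_eq_mul]
  rw [pow_succ']
  exact Ideal.mul_mem_mul (sub_algebraMap_mem_ker μ c) hy

variable [Fintype ι]

/-- monomials in the `x i` -/
noncomputable def mono (x : ι → R) (d : ι → ℕ) : R := ∏ j, x j ^ d j

omit [Fintype ι] in
theorem prod_pow_mem (J : Ideal R) (x : ι → R) (hx : ∀ i, x i ∈ J) (s : Finset ι) (d : ι → ℕ) :
    ∏ j ∈ s, x j ^ d j ∈ J ^ (∑ j ∈ s, d j) := by
  rw [← Finset.prod_pow_eq_pow_sum]
  exact Ideal.prod_mem_prod fun j _ => Ideal.pow_mem_pow (hx j) _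

theorem mono_mem (J : Ideal R) (x : ι → R) (hx : ∀ i, x i ∈ J) (d : ι → ℕ) :
    mono x d ∈ J ^ (∑ j, d j) := prod_pow_mem J x hx Finset.univ d

variable [DecidableEq ι]

theorem mono_update (x : ι → R) (d : ι → ℕ) (i : ι) (k : ℕ) :
    mono x (Function.update d i k) = (∏ j ∈ Finset.univ.erase i, x j ^ d j) * x i ^ k := by
  rw [mono, ← Finset.prod_erase_mul _ _ (Finset.mem_univ i), Function.update_self]
  congr 1
  refine Finset.prod_congr rfl fun j hj => ?_
  rw [Function.update_of_ne (Finset.ne_of_mem_erase hj)]

theorem deriv_mono (J : Ideal R) (D : Derivation S R R) (x : ι → R) (hx : ∀ i, x i ∈ J) (i : ι)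
    (hD : ∀ j, D (x j) - (if i = j then 1 else 0) ∈ J) (d : ι → ℕ) :
    D (mono x d) - (d i : R) * mono x (Function.update d i (d i - 1)) ∈ J ^ (∑ j, d j) := by
  have h1 : (d i : R) * mono x (Function.update d i (d i - 1)) =
      ∑ j, (if i = j then (d j : R) * mono x (Function.update d j (d j - 1)) else 0) := by
    rw [Finset.sum_ite_eq Finset.univ i, if_pos (Finset.mem_univ i)]
  rw [mono, leibniz_prod, h1, ← Finset.sum_sub_distrib]
  refine Ideal.sum_mem _ fun j _ => ?_
  rw [Derivation.leibniz_pow, mono_update]
  have h2 : (∏ k ∈ Finset.univ.erase j, x k ^ d k) • d j • x j ^ (d j - 1) • D (x j) -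
      (if i = j then (d j : R) * ((∏ k ∈ Finset.univ.erase j, x k ^ d k) * x j ^ (d j - 1))
        else 0) =
      (d j : R) * (((∏ k ∈ Finset.univ.erase j, x k ^ d k) * x j ^ (d j - 1)) *
        (D (x j) - (if i = j then 1 else 0))) := by
    rw [nsmul_eq_mul, smul_eq_mul, smul_eq_mul]
    split_ifs <;> ring
  rw [h2]
  rcases Nat.eq_zero_or_pos (d j) with h0 | hpos
  · rw [h0, Nat.cast_zero, zero_mul]
    exact Ideal.zero_mem _
  · apply Ideal.mul_mem_left
    have hsum : ∑ k, d k = (∑ k ∈ Finset.univ.erase j, d k + (d j - 1)) + 1 := by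
      rw [← Finset.sum_erase_add _ _ (Finset.mem_univ j)]
      omega
    rw [hsum, pow_succ]
    refine Ideal.mul_mem_mul ?_ (hD j)
    rw [pow_add]
    exact Ideal.mul_mem_mul (prod_pow_mem J x hx _ d) (Ideal.pow_mem_pow (hx j) _)

theorem pairing (nabla : ι → Derivation S R R) (x : ι → R) (hx : ∀ i, μ (x i) = 0)
    (hδ : ∀ i j, μ (nabla i (x j)) = if i = j then 1 else 0) (l : List ι) :
    ∀ d : ι → ℕ, ∑ i, d i = l.length →
      μ (op nabla l (mono x d)) =
        if (∀ i, l.count i = d i) then ((∏ i, (d i).factorial : ℕ) : S) else 0 := by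
  have hxJ : ∀ i, x i ∈ RingHom.ker μ := fun i => (RingHom.mem_ker).2 (hx i)
  induction l with
  | nil =>
    intro d hd
    have h0 : ∀ i, d i = 0 := fun i => by
      have := (Finset.sum_eq_zero_iff (s := Finset.univ) (f := d)).1 (by simpa using hd)
      exact this i (Finset.mem_univ i)
    have hd0 : d = fun _ => 0 := funext h0
    subst hd0
    simp [mono, op_nil]
  | cons i l ih =>
    intro d hd
    rw [op_cons]
    have hD : ∀ j, nabla i (x j) - (if i = j then 1 else 0) ∈ RingHom.ker μ := by
      intro j
      rw [RingHom.mem_ker, map_sub, hδ]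
      split_ifs <;> simp
    have h1 := deriv_mono (RingHom.ker μ) (nabla i) x hxJ i hD d
    rw [hd, List.length_cons] at h1
    have h2 := mu_op_eq_zero μ nabla l h1
    rw [map_sub, map_sub, sub_eq_zero] at h2
    rw [h2, ← nsmul_eq_mul, map_nsmul, map_nsmul, nsmul_eq_mul]
    rcases Nat.eq_zero_or_pos (d i) with h0 | hpos
    · rw [h0, Nat.cast_zero, zero_mul, if_neg]
      intro h
      have := h i
      rw [List.count_cons_self, h0] at this
      omega
    · have hsum : ∑ j, Function.update d i (d i - 1) j = l.length := by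
        rw [Finset.sum_update_of_mem (Finset.mem_univ i)]
        have : ∑ j, d j = d i + ∑ j ∈ Finset.univ \ {i}, d j := by
          rw [← Finset.sum_sdiff (Finset.singleton_subset_iff.2 (Finset.mem_univ i)),
            Finset.sum_singleton, add_comm]
        rw [List.length_cons] at hd
        omega
      rw [ih _ hsum]
      have hiff : (∀ j, (i :: l).count j = d j) ↔
          ∀ j, l.count j = Function.update d i (d i - 1) j := by
        constructor
        · intro h j
          by_cases hj : j = i
          · subst hj
            have := h j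
            rw [List.count_cons_self] at this
            rw [Function.update_self]
            omega
          · have := h j
            rw [List.count_cons_of_ne (Ne.symm hj)] at this
            rw [Function.update_of_ne hj, this]
        · intro h j
          by_cases hj : j = i
          · subst hj
            have := h j
            rw [Function.update_self] at this
            rw [List.count_cons_self]
            omega
          · have := h j
            rw [Function.update_of_ne hj] at this
            rw [List.count_cons_of_ne (Ne.symm hj), this]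
      have hfac : d i * ∏ j, (Function.update d i (d i - 1) j).factorial =
          ∏ j, (d j).factorial := by
        have hA : ∏ j, (Function.update d i (d i - 1) j).factorial =
            (∏ j ∈ Finset.univ.erase i, (d j).factorial) * (d i - 1).factorial := by
          rw [← Finset.prod_erase_mul _ _ (Finset.mem_univ i), Function.update_self]
          congr 1
          refine Finset.prod_congr rfl fun j hj => ?_
          rw [Function.update_of_ne (Finset.ne_of_mem_erase hj)]
        have hB : ∏ j, (d j).factorial =
            (∏ j ∈ Finset.univ.erase i, (d j).factorial) * (d i).factorial :=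
          (Finset.prod_erase_mul _ _ (Finset.mem_univ i)).symm
        rw [hA, hB, ← Nat.mul_factorial_pred (Nat.pos_iff_ne_zero.1 hpos)]
        ring
      by_cases hc : ∀ j, (i :: l).count j = d j
      · rw [if_pos hc, if_pos (hiff.1 hc), ← Nat.cast_mul, hfac]
      · rw [if_neg hc, if_neg (fun h => hc (hiff.2 h)), mul_zero]

theorem exists_word (d : ι →₀ ℕ) : ∃ l : List ι, (∀ i, l.count i = d i) ∧
    l.length = ∑ i, d i := by
  refine ⟨(Finsupp.toMultiset d).toList, fun i => ?_, ?_⟩
  · rw [← Multiset.coe_count, Multiset.coe_toList, Finsupp.count_toMultiset]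
  · rw [Multiset.length_toList, Finsupp.card_toMultiset, Finsupp.sum_fintype]
    · rfl
    · intro i; rfl

/-- Quasi-regularity of the family `x` in characteristic zero. -/
theorem coeff_mem_ker (nabla : ι → Derivation S R R) (x : ι → R) (hx : ∀ i, μ (x i) = 0)
    (hδ : ∀ i j, μ (nabla i (x j)) = if i = j then 1 else 0)
    (hS : ∀ n : ℕ, 0 < n → IsUnit ((n : ℕ) : S)) (n : ℕ) (Q : MvPolynomial ι R)
    (hQ : Q.IsHomogeneous n) (hev : eval x Q ∈ RingHom.ker μ ^ (n + 1)) (d : ι →₀ ℕ) :
    Q.coeff d ∈ RingHom.ker μ := by
  have hxJ : ∀ i, x i ∈ RingHom.ker μ := fun i => (RingHom.mem_ker).2 (hx i)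
  by_cases hdn : d.degree = n
  swap
  · rw [hQ.coeff_eq_zero hdn]
    exact Ideal.zero_mem _
  obtain ⟨l, hl, hlen⟩ := exists_word d
  have hdn' : ∑ i, d i = n := by
    rw [← hdn, Finsupp.degree_eq_sum]
  have hlen' : l.length = n := hlen.trans hdn'
  have h0 : μ (op nabla l (eval x Q)) = 0 := by
    apply mu_op_eq_zero
    rwa [hlen']
  rw [MvPolynomial.eval_eq', map_sum, map_sum] at h0
  have hterm : ∀ d' ∈ Q.support, μ (op nabla l (Q.coeff d' * ∏ i, x i ^ d' i)) =
      if d' = d then μ (Q.coeff d) * ((∏ i, (d i).factorial : ℕ) : S) else 0 := by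
    intro d' hd'
    have hdeg : ∑ i, d' i = l.length := by
      have := hQ (mem_support_iff.1 hd')
      rw [hlen', ← this, Finsupp.weight_apply, Finsupp.sum_fintype]
      · simp
      · intro i; simp
    have hmem : mono x d' ∈ RingHom.ker μ ^ l.length := by
      rw [← hdeg]; exact mono_mem _ x hxJ d'
    change μ (op nabla l (Q.coeff d' * mono x d')) = _
    rw [mu_op_mul μ nabla l _ hmem, pairing μ nabla x hx hδ l d' hdeg]
    by_cases hdd : d' = d
    · subst hdd
      rw [if_pos rfl, if_pos hl]
    · rw [if_neg hdd, if_neg, mul_zero]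
      intro h
      apply hdd
      ext i
      rw [← h i, hl i]
  rw [Finset.sum_congr rfl hterm, Finset.sum_ite_eq' Q.support d] at h0
  by_cases hsupp : d ∈ Q.support
  · rw [if_pos hsupp] at h0
    have hu : IsUnit ((∏ i, (d i).factorial : ℕ) : S) :=
      hS _ (Finset.prod_pos fun i _ => Nat.factorial_pos _)
    rw [RingHom.mem_ker]
    exact (hu.mul_left_eq_zero).1 h0
  · rw [notMem_support_iff.1 hsupp]
    exact Ideal.zero_mem _

end Groth.Agent.Lib.Helper19.DerPair
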