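import Mathlib

set_option autoImplicit false
universe u

namespace Groth.Agent.Lib.Helper19.DerivDim

open IsLocalRing

section basic
variable {R : Type u} [CommRing R] (D : R → R)
  (hadd : ∀ a b, D (a + b) = D a + D b)
  (hmul : ∀ a b, D (a * b) = a * D b + b * D a)

include hadd in
theorem D_zero : D 0 = 0 := by
  have h := hadd 0 0
  rw [add_zero] at h
  have h2 : D 0 + 0 = D 0 + D 0 := by rw [add_zero]; exact h
  exact (add_left_cancel h2).symm

include hadd in
theorem D_neg (a : R) : D (-a) = -D a := by
  have h := hadd a (-a)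
  rw [add_neg_cancel, D_zero D hadd] at h
  exact (neg_eq_of_add_eq_zero_right h.symm).symm

include hadd in
theorem D_sub (a b : R) : D (a - b) = D a - D b := by
  rw [sub_eq_add_neg, hadd, D_neg D hadd, sub_eq_add_neg]

include hadd hmul in
theorem D_pow (x : R) (t : ℕ) : D (x ^ (t + 1)) = ((t + 1 : ℕ) : R) * x ^ t * D x := by
  induction t with
  | zero => simp
  | succ t ih =>
    rw [pow_succ, hmul, ih]
    push_cast
    ring

include hadd hmul in
/-- an element with a derivation sending it to `1` is a nonzerodivisor (char 0, Noetherian local) -/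
theorem isSMulRegular_of_D_eq_one [IsLocalRing R] [IsNoetherianRing R]
    (hQ : ∀ m : ℕ, m ≠ 0 → IsUnit (m : R)) (x : R) (hx : x ∈ maximalIdeal R) (hDx : D x = 1) :
    IsSMulRegular R x := by
  have key : ∀ y : R, x * y = 0 → y = 0 := by
    intro y hy
    have h1 : ∀ t : ℕ, ∃ z : R, y = x ^ t * z := by
      intro t
      induction t with
      | zero => exact ⟨y, by simp⟩
      | succ t ih =>
        obtain ⟨z, hz⟩ := ih
        have h2 : x ^ (t + 1) * z = 0 := by
          rw [pow_succ', mul_assoc, ← hz, hy]
        have h3 := congrArg D h2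
        rw [hmul, D_pow D hadd hmul, hDx, mul_one, D_zero D hadd] at h3
        obtain ⟨u, hu⟩ := (hQ (t + 1) (Nat.succ_ne_zero t)).exists_left_inv
        refine ⟨-(u * D z), ?_⟩
        have h4 : x ^ t * z = u * (((t + 1 : ℕ) : R) * x ^ t * z) := by
          rw [← mul_assoc, ← mul_assoc, hu, one_mul]
        have h5 : ((t + 1 : ℕ) : R) * x ^ t * z = -(x ^ (t + 1) * D z) := by
          have : z * (((t + 1 : ℕ) : R) * x ^ t) = ((t + 1 : ℕ) : R) * x ^ t * z := by ring
          rw [← this]
          exact eq_neg_of_add_eq_zero_right h3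
        rw [hz, h4, h5]
        ring
    have h2 : y ∈ (⨅ i : ℕ, (Ideal.span {x}) ^ i : Ideal R) := by
      rw [Ideal.mem_iInf]
      intro t
      obtain ⟨z, hz⟩ := h1 t
      rw [Ideal.span_singleton_pow, hz]
      exact Ideal.mul_mem_right _ _ (Ideal.mem_span_singleton_self _)
    have hne : Ideal.span {x} ≠ (⊤ : Ideal R) := by
      intro h
      rw [Ideal.span_singleton_eq_top] at h
      exact (IsLocalRing.mem_maximalIdeal x).1 hx h
    rw [Ideal.iInf_pow_eq_bot_of_isLocalRing _ hne] at h2
    exact h2
  intro a b hab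
  have h : x * (a - b) = 0 := by
    rw [mul_sub, sub_eq_zero]; exact hab
  exact sub_eq_zero.1 (key _ h)

end basic

/-- Main dimension bound: `n` elements of the maximal ideal with dual derivations force
`dim R ≥ n`. -/
theorem le_ringKrullDim : ∀ (n : ℕ) (R : Type u) [CommRing R] [IsLocalRing R] [IsNoetherianRing R]
    (_ : ∀ m : ℕ, m ≠ 0 → IsUnit (m : R)) (x : Fin n → R) (_ : ∀ i, x i ∈ maximalIdeal R)
    (D : Fin n → R → R) (_ : ∀ i a b, D i (a + b) = D i a + D i b)
    (_ : ∀ i a b, D i (a * b) = a * D i b + b * D i a)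
    (_ : ∀ i j, D i (x j) = if i = j then 1 else 0), (n : WithBot ℕ∞) ≤ ringKrullDim R := by
  intro n
  induction n with
  | zero =>
    intro R _ _ _ _ _ _ _ _ _ _
    exact ringKrullDim_nonneg_of_nontrivial
  | succ n ih =>
    intro R _ _ _ hQ x hx D hadd hmul hD
    have hreg : IsSMulRegular R (x 0) :=
      isSMulRegular_of_D_eq_one (D 0) (hadd 0) (hmul 0) hQ (x 0) (hx 0) (by rw [hD]; simp)
    have hdim := ringKrullDim_quotient_span_singleton_succ_eq_ringKrullDim hreg (hx 0)
    have hne : Ideal.span {x 0} ≠ (⊤ : Ideal R) := by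
      intro h
      rw [Ideal.span_singleton_eq_top] at h
      exact (IsLocalRing.mem_maximalIdeal _).1 (hx 0) h
    haveI : Nontrivial (R ⧸ Ideal.span {x 0}) := Ideal.Quotient.nontrivial_iff.2 hne
    haveI : IsLocalRing (R ⧸ Ideal.span {x 0}) :=
      IsLocalRing.of_surjective' (Ideal.Quotient.mk (Ideal.span {x 0}))
        Ideal.Quotient.mk_surjective
    haveI : IsLocalHom (Ideal.Quotient.mk (Ideal.span {x 0})) :=
      IsLocalHom.of_surjective _ Ideal.Quotient.mk_surjective
    -- the ideal is stable under the higher derivations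
    have hstab : ∀ (i : Fin n) (a : R), a ∈ Ideal.span {x 0} → D i.succ a ∈ Ideal.span {x 0} := by
      intro i a ha
      obtain ⟨c, rfl⟩ := Ideal.mem_span_singleton'.1 ha
      rw [hmul, hD, if_neg (Fin.succ_ne_zero i), mul_zero, zero_add]
      exact Ideal.mul_mem_right _ _ (Ideal.mem_span_singleton_self _)
    have hwd : ∀ (i : Fin n) (a b : R), Ideal.Quotient.mk (Ideal.span {x 0}) a
        = Ideal.Quotient.mk (Ideal.span {x 0}) b →
        Ideal.Quotient.mk (Ideal.span {x 0}) (D i.succ a)
          = Ideal.Quotient.mk (Ideal.span {x 0}) (D i.succ b) := by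
      intro i a b hab
      rw [Ideal.Quotient.eq] at hab ⊢
      rw [← D_sub (D i.succ) (hadd i.succ)]
      exact hstab i _ hab
    let D' : Fin n → (R ⧸ Ideal.span {x 0}) → (R ⧸ Ideal.span {x 0}) := fun i y =>
      Ideal.Quotient.mk _ (D i.succ (Function.surjInv Ideal.Quotient.mk_surjective y))
    have hD' : ∀ (i : Fin n) (a : R), D' i (Ideal.Quotient.mk _ a)
        = Ideal.Quotient.mk _ (D i.succ a) := by
      intro i a
      apply hwd
      exact Function.surjInv_eq Ideal.Quotient.mk_surjective _
    have h1 := ih (R ⧸ Ideal.span {x 0})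
      (fun m hm => (hQ m hm).map (Ideal.Quotient.mk (Ideal.span {x 0})) |> fun h => by
        simpa using h)
      (fun i => Ideal.Quotient.mk _ (x i.succ))
      (fun i => by
        have := hx i.succ
        rw [IsLocalRing.mem_maximalIdeal] at this ⊢
        intro hu
        exact this ((isUnit_map_iff (Ideal.Quotient.mk (Ideal.span {x 0})) _).1 hu))
      D'
      (fun i a b => by
        obtain ⟨a, rfl⟩ := Ideal.Quotient.mk_surjective a
        obtain ⟨b, rfl⟩ := Ideal.Quotient.mk_surjective b
        rw [← map_add, hD', hD', hD', hadd, map_add])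
      (fun i a b => by
        obtain ⟨a, rfl⟩ := Ideal.Quotient.mk_surjective a
        obtain ⟨b, rfl⟩ := Ideal.Quotient.mk_surjective b
        rw [← map_mul, hD', hD', hD', hmul, map_add, map_mul, map_mul])
      (fun i j => by
        rw [hD', hD]
        by_cases hij : i = j
        · rw [if_pos hij, if_pos (by rw [hij]), map_one]
        · rw [if_neg hij, if_neg (fun h => hij (Fin.succ_injective _ h)), map_zero])
    rw [← hdim]
    push_cast
    exact add_le_add_left h1 1 |> fun h => by simpa [add_comm] using h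

end Groth.Agent.Lib.Helper19.DerivDim
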