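import Mathlib

/-!
# The kernel of `a ⊗ b ↦ 2a·db − b·da` (helper19)

Elementary description of the kernel of `D : A ⊗ A → Ω_{A/k}`, `a ⊗ b ↦ 2 a db − b da`, over a
field of characteristic zero, via the presentation `KaehlerDifferential.kerTotal` of `Ω`.
-/

set_option autoImplicit false
universe u v
open TensorProduct

namespace Groth.Agent.Lib.Helper19.DiagSym3

variable (k : Type u) [Field k] [CharZero k] (A : Type v) [CommRing A] [Algebra k A]

/-- the `k`-span of the elements `ab ⊗ c + ac ⊗ b + bc ⊗ a` -/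
def N : Submodule k (A ⊗[k] A) :=
  Submodule.span k (Set.range fun t : A × A × A =>
    (t.1 * t.2.1) ⊗ₜ[k] t.2.2 + (t.1 * t.2.2) ⊗ₜ[k] t.2.1 + (t.2.1 * t.2.2) ⊗ₜ[k] t.1)

/-- class of `a ⊗ b` modulo `N` -/
noncomputable def br (a b : A) : (A ⊗[k] A) ⧸ N k A := (N k A).mkQ (a ⊗ₜ[k] b)

variable {k A}

theorem rel (a b c : A) : br k A (a * b) c + br k A (a * c) b + br k A (b * c) a = 0 := by
  unfold br
  rw [← map_add, ← map_add, Submodule.mkQ_apply, Submodule.Quotient.mk_eq_zero]
  exact Submodule.subset_span ⟨(a, b, c), rfl⟩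

theorem br_add_right (a x y : A) : br k A a (x + y) = br k A a x + br k A a y := by
  unfold br
  rw [TensorProduct.tmul_add, map_add]

theorem br_add_left (x y b : A) : br k A (x + y) b = br k A x b + br k A y b := by
  unfold br
  rw [TensorProduct.add_tmul, map_add]

theorem br_smul_left (c : k) (a b : A) : br k A (c • a) b = c • br k A a b := by
  unfold br
  rw [← TensorProduct.smul_tmul', map_smul]

theorem br_smul_right (c : k) (a b : A) : br k A a (c • b) = c • br k A a b := by
  unfold br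
  rw [TensorProduct.tmul_smul, map_smul]

variable (k A)

/-- the map `a ↦ ω(a, b) = (1/3)([a, b] − [ab, 1])`, which models `a db` -/
noncomputable def omegaLin (b : A) : A →ₗ[k] ((A ⊗[k] A) ⧸ N k A) where
  toFun a := (3⁻¹ : k) • (br k A a b - br k A (a * b) 1)
  map_add' x y := by
    rw [br_add_left, add_mul, br_add_left]
    module
  map_smul' c x := by
    rw [br_smul_left, smul_mul_assoc, br_smul_left, RingHom.id_apply]
    module

variable {k A}

theorem omegaLin_apply (a b : A) :
    omegaLin k A b a = (3⁻¹ : k) • (br k A a b - br k A (a * b) 1) := rfl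

theorem omega_add (a x y : A) :
    omegaLin k A (x + y) a = omegaLin k A x a + omegaLin k A y a := by
  rw [omegaLin_apply, omegaLin_apply, omegaLin_apply, br_add_right, mul_add, br_add_left]
  module

theorem omega_mul (a x y : A) :
    omegaLin k A (x * y) a = omegaLin k A y (a * x) + omegaLin k A x (a * y) := by
  rw [omegaLin_apply, omegaLin_apply, omegaLin_apply]
  have h1 := rel (k := k) a x y
  have h2 := rel (k := k) a (x * y) 1
  rw [mul_one, mul_one] at h2
  have e1 : a * x * y = a * (x * y) := mul_assoc _ _ _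
  have e2 : a * y * x = a * (x * y) := by ring
  rw [e1, e2]
  have h3 : br k A a (x * y) + br k A (a * (x * y)) 1 = br k A (a * x) y + br k A (a * y) x := by
    have : br k A a (x * y) + br k A (a * (x * y)) 1 =
        -(br k A (x * y) a) := by
      rw [eq_neg_iff_add_eq_zero]
      rw [← h2]; abel
    rw [this, eq_comm, eq_neg_iff_add_eq_zero, h1]
  have h4 : br k A a (x * y) = br k A (a * x) y + br k A (a * y) x - br k A (a * (x * y)) 1 := by
    rw [← h3]; abel
  rw [h4]
  module

theorem omega_algebraMap (a : A) (c : k) : omegaLin k A (algebraMap k A c) a = 0 := by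
  rw [omegaLin_apply, Algebra.algebraMap_eq_smul_one, br_smul_right, mul_smul_comm, mul_one,
    br_smul_left, sub_self, smul_zero]

variable (k A)

/-- the map `Σ a_b [b] ↦ Σ ω(a_b, b)` -/
noncomputable def g : (A →₀ A) →ₗ[k] ((A ⊗[k] A) ⧸ N k A) :=
  Finsupp.lsum k (fun b => omegaLin k A b)

variable {k A}

theorem g_single (a b : A) : g k A (Finsupp.single b a) = omegaLin k A b a := by
  unfold g
  rw [Finsupp.lsum_single]

theorem g_kerTotal (z : A →₀ A) (hz : z ∈ KaehlerDifferential.kerTotal k A) : g k A z = 0 := by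
  let S : Submodule A (A →₀ A) :=
    { carrier := {z | ∀ c : A, g k A (c • z) = 0}
      add_mem' := by
        intro z z' hz hz' c
        rw [smul_add, map_add, hz c, hz' c, add_zero]
      zero_mem' := by
        intro c
        rw [smul_zero, map_zero]
      smul_mem' := by
        intro c' z hz c
        rw [smul_smul]
        exact hz _ }
  have hS : KaehlerDifferential.kerTotal k A ≤ S := by
    unfold KaehlerDifferential.kerTotal
    rw [Submodule.span_le]
    rintro _ ((⟨⟨x, y⟩, rfl⟩ | ⟨⟨x, y⟩, rfl⟩) | ⟨x, rfl⟩)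
    · intro c
      simp only [smul_add, smul_sub, Finsupp.smul_single, smul_eq_mul, mul_one, map_add, map_sub,
        g_single]
      rw [omega_add]; abel
    · intro c
      simp only [smul_add, smul_sub, Finsupp.smul_single, smul_eq_mul, mul_one, map_add, map_sub,
        g_single]
      rw [omega_mul c x y]; abel
    · intro c
      simp only [Finsupp.smul_single, smul_eq_mul, mul_one, g_single]
      exact omega_algebraMap c x
  have := hS hz 1
  rwa [one_smul] at this

/-- key identity: `2ω(a,b) − ω(b,a) = [a,b]` -/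
theorem omega_key (a b : A) :
    omegaLin k A b a + omegaLin k A b a - omegaLin k A a b = br k A a b := by
  rw [omegaLin_apply, omegaLin_apply]
  have h := rel (k := k) a b 1
  rw [mul_one, mul_one] at h
  have h' : br k A b a = -(br k A (a * b) 1) - br k A a b := by
    rw [eq_sub_iff_add_eq, eq_neg_iff_add_eq_zero, ← h]; abel
  rw [mul_comm b a, h']
  module

section main
variable (D : A ⊗[k] A →ₗ[k] Ω[A⁄k])
  (hD : ∀ a b : A, D (a ⊗ₜ[k] b) = (2 : A) • (a • KaehlerDifferential.D k A b)
    - b • KaehlerDifferential.D k A a)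
include hD

theorem exists_lift (y : A ⊗[k] A) : ∃ z : A →₀ A,
    Finsupp.linearCombination A (KaehlerDifferential.D k A) z = D y ∧
      g k A z = (N k A).mkQ y := by
  induction y using TensorProduct.induction_on with
  | zero => exact ⟨0, by simp⟩
  | tmul a b =>
    refine ⟨Finsupp.single b a + Finsupp.single b a - Finsupp.single a b, ?_, ?_⟩
    · rw [map_sub, map_add, Finsupp.linearCombination_single, Finsupp.linearCombination_single, hD,
        two_smul]
    · rw [map_sub, map_add, g_single, g_single, omega_key]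
      rfl
  | add y y' ih ih' =>
    obtain ⟨z, hz1, hz2⟩ := ih
    obtain ⟨z', hz1', hz2'⟩ := ih'
    exact ⟨z + z', by rw [map_add, map_add, hz1, hz1'], by rw [map_add, map_add, hz2, hz2']⟩

theorem mem_N_of_D_eq_zero (y : A ⊗[k] A) (hy : D y = 0) : y ∈ N k A := by
  obtain ⟨z, hz1, hz2⟩ := exists_lift D hD y
  rw [hy] at hz1
  have hz : z ∈ KaehlerDifferential.kerTotal k A := by
    rw [← KaehlerDifferential.kerTotal_eq]
    exact hz1
  rw [g_kerTotal z hz] at hz2
  rw [← Submodule.Quotient.mk_eq_zero, ← Submodule.mkQ_apply, ← hz2]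

theorem D_surjective : Function.Surjective D := by
  intro ω
  obtain ⟨z, rfl⟩ := KaehlerDifferential.linearCombination_surjective k A ω
  induction z using Finsupp.induction_linear with
  | zero => exact ⟨0, by simp⟩
  | add z z' ih ih' =>
    obtain ⟨y, hy⟩ := ih
    obtain ⟨y', hy'⟩ := ih'
    exact ⟨y + y', by rw [map_add, map_add, hy, hy']⟩
  | single b a =>
    refine ⟨(3⁻¹ : k) • (a ⊗ₜ[k] b - (a * b) ⊗ₜ[k] 1), ?_⟩
    rw [map_smul, map_sub, hD, hD, Finsupp.linearCombination_single]
    have h1 : KaehlerDifferential.D k A (1 : A) = 0 := Derivation.map_one_eq_zero _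
    rw [h1, Derivation.leibniz, smul_zero, smul_zero, zero_sub, one_smul, sub_neg_eq_add]
    have : (2 : A) • a • (KaehlerDifferential.D k A) b - b • (KaehlerDifferential.D k A) a +
        (a • (KaehlerDifferential.D k A) b + b • (KaehlerDifferential.D k A) a) =
        (3 : k) • (a • (KaehlerDifferential.D k A) b) := by
      rw [two_smul]
      have : (3 : k) • (a • (KaehlerDifferential.D k A) b) =
          a • (KaehlerDifferential.D k A) b + a • (KaehlerDifferential.D k A) b +
            a • (KaehlerDifferential.D k A) b := by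
        rw [show (3 : k) = 1 + 1 + 1 by norm_num, add_smul, add_smul, one_smul]
      rw [this]; abel
    rw [this, smul_smul, inv_mul_cancel₀ (by norm_num : (3 : k) ≠ 0), one_smul]

end main

section inv
variable (r : A ⊗[k] (A ⊗[k] A) →ₗ[k] A ⊗[k] A)
  (hr : ∀ a b c : A, r (a ⊗ₜ[k] (b ⊗ₜ[k] c)) = (a * b) ⊗ₜ[k] c)
include hr

theorem exists_inv_of_mem_N (y : A ⊗[k] A) (hy : y ∈ N k A) :
    ∃ x : A ⊗[k] (A ⊗[k] A), TensorProduct.leftComm k A A A x = x ∧
      LinearMap.lTensor A (TensorProduct.comm k A A).toLinearMap x = x ∧ r x = y := by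
  unfold N at hy
  induction hy using Submodule.span_induction with
  | mem y hy =>
    obtain ⟨⟨a, b, c⟩, rfl⟩ := hy
    refine ⟨(2⁻¹ : k) • (a ⊗ₜ[k] (b ⊗ₜ[k] c) + b ⊗ₜ[k] (a ⊗ₜ[k] c) + a ⊗ₜ[k] (c ⊗ₜ[k] b) +
      c ⊗ₜ[k] (a ⊗ₜ[k] b) + b ⊗ₜ[k] (c ⊗ₜ[k] a) + c ⊗ₜ[k] (b ⊗ₜ[k] a)), ?_, ?_, ?_⟩
    · rw [map_smul]
      congr 1
      simp only [map_add, TensorProduct.leftComm_tmul]
      abel
    · rw [map_smul]
      congr 1
      simp only [map_add, LinearMap.lTensor_tmul, LinearEquiv.coe_coe, TensorProduct.comm_tmul]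
      abel
    · simp only [map_smul, map_add, hr]
      rw [mul_comm b a, mul_comm c a, mul_comm c b]
      have h2 : (2⁻¹ : k) * 2 = 1 := inv_mul_cancel₀ (by norm_num)
      have : ∀ w : A ⊗[k] A, (2⁻¹ : k) • (w + w) = w := by
        intro w
        rw [← two_smul k w, smul_smul, h2, one_smul]
      conv_rhs => rw [← this ((a * b) ⊗ₜ[k] c + (a * c) ⊗ₜ[k] b + (b * c) ⊗ₜ[k] a)]
      congr 1
      abel
  | zero => exact ⟨0, by simp⟩
  | add y y' _ _ ih ih' =>
    obtain ⟨x, h1, h2, h3⟩ := ih
    obtain ⟨x', h1', h2', h3'⟩ := ih'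
    exact ⟨x + x', by rw [map_add, h1, h1'], by rw [map_add, h2, h2'], by rw [map_add, h3, h3']⟩
  | smul c y _ ih =>
    obtain ⟨x, h1, h2, h3⟩ := ih
    exact ⟨c • x, by rw [map_smul, h1], by rw [map_smul, h2], by rw [map_smul, h3]⟩

variable (D : A ⊗[k] A →ₗ[k] Ω[A⁄k])
  (hD : ∀ a b : A, D (a ⊗ₜ[k] b) = (2 : A) • (a • KaehlerDifferential.D k A b)
    - b • KaehlerDifferential.D k A a)
include hD

theorem D_r_eq_zero_of_inv (x : A ⊗[k] (A ⊗[k] A))
    (h1 : TensorProduct.leftComm k A A A x = x)
    (h2 : LinearMap.lTensor A (TensorProduct.comm k A A).toLinearMap x = x) : D (r x) = 0 := by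
  let s1 : A ⊗[k] (A ⊗[k] A) →ₗ[k] A ⊗[k] (A ⊗[k] A) := (TensorProduct.leftComm k A A A).toLinearMap
  let s2 : A ⊗[k] (A ⊗[k] A) →ₗ[k] A ⊗[k] (A ⊗[k] A) :=
    LinearMap.lTensor A (TensorProduct.comm k A A).toLinearMap
  have hsym : (D ∘ₗ r ∘ₗ (LinearMap.id + s1 + s2 + s1 ∘ₗ s2 + s2 ∘ₗ s1 + s1 ∘ₗ s2 ∘ₗ s1)) = 0 := by
    apply TensorProduct.ext'
    intro a u
    induction u using TensorProduct.induction_on with
    | zero => simp
    | tmul b c =>
      simp only [s1, s2, LinearMap.coe_comp, Function.comp_apply, LinearMap.add_apply,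
        LinearMap.id_coe, id_eq, LinearEquiv.coe_coe, TensorProduct.leftComm_tmul,
        LinearMap.lTensor_tmul, TensorProduct.comm_tmul, map_add, hr, hD, Derivation.leibniz,
        LinearMap.zero_apply]
      module
    | add u u' ih ih' =>
      rw [TensorProduct.tmul_add, map_add, ih, ih']
      simp
  have h6 : ((LinearMap.id + s1 + s2 + s1 ∘ₗ s2 + s2 ∘ₗ s1 + s1 ∘ₗ s2 ∘ₗ s1 :
      A ⊗[k] (A ⊗[k] A) →ₗ[k] A ⊗[k] (A ⊗[k] A))) x = (6 : k) • x := by
    have e1 : s1 x = x := h1
    have e2 : s2 x = x := h2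
    simp only [LinearMap.add_apply, LinearMap.id_coe, id_eq, LinearMap.coe_comp,
      Function.comp_apply, e1, e2]
    rw [show (6 : k) = 1 + 1 + 1 + 1 + 1 + 1 by norm_num]
    simp only [add_smul, one_smul]
  have h0 := LinearMap.congr_fun hsym x
  rw [LinearMap.comp_apply, LinearMap.comp_apply, h6, map_smul, map_smul,
    LinearMap.zero_apply] at h0
  exact (smul_eq_zero.1 h0).resolve_left (by norm_num)

end inv

end Groth.Agent.Lib.Helper19.DiagSym3
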