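import Mathlib

/-!
# Square of the diagonal ideal and differentials (helper19)

`y ∈ A ⊗ A` with `m y = 0` and zero image in `Ω_{A/k}` under `a ⊗ b ↦ 2 a db` lies in the span of
the elements `a ⊗ uv − au ⊗ v − av ⊗ u + auv ⊗ 1` (char 0), and the resolution of the invariants
under the transposition of the last two factors.
-/

set_option autoImplicit false
universe u v
open TensorProduct

namespace Groth.Agent.Lib.Helper19.DiagSym3B

variable (k : Type u) [Field k] [CharZero k] (A : Type v) [CommRing A] [Algebra k A]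

/-- the `k`-span of the elements `a ⊗ uv − au ⊗ v − av ⊗ u + auv ⊗ 1` -/
def N2 : Submodule k (A ⊗[k] A) :=
  Submodule.span k (Set.range fun t : A × A × A =>
    t.1 ⊗ₜ[k] (t.2.1 * t.2.2) - (t.1 * t.2.1) ⊗ₜ[k] t.2.2 - (t.1 * t.2.2) ⊗ₜ[k] t.2.1 +
      (t.1 * (t.2.1 * t.2.2)) ⊗ₜ[k] 1)

/-- class of `a ⊗ b` modulo `N2` -/
noncomputable def br (a b : A) : (A ⊗[k] A) ⧸ N2 k A := (N2 k A).mkQ (a ⊗ₜ[k] b)

variable {k A}

theorem rel (a u v : A) : br k A a (u * v) - br k A (a * u) v - br k A (a * v) u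
    + br k A (a * (u * v)) 1 = 0 := by
  unfold br
  rw [← map_sub, ← map_sub, ← map_add, Submodule.mkQ_apply, Submodule.Quotient.mk_eq_zero]
  exact Submodule.subset_span ⟨(a, u, v), rfl⟩

theorem br_add_right (a x y : A) : br k A a (x + y) = br k A a x + br k A a y := by
  unfold br
  rw [TensorProduct.tmul_add, map_add]

theorem br_add_left (x y b : A) : br k A (x + y) b = br k A x b + br k A y b := by
  unfold br
  rw [TensorProduct.add_tmul, map_add]

theorem br_smul_left (c : k) (a b : A) : br k A (c • a) b = c • br k A a b := by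
  unfold br
  rw [← TensorProduct.smul_tmul', map_smul]

theorem br_smul_right (c : k) (a b : A) : br k A a (c • b) = c • br k A a b := by
  unfold br
  rw [TensorProduct.tmul_smul, map_smul]

variable (k A)

/-- the map `a ↦ [a ⊗ b − ab ⊗ 1]`, which models `a db` -/
noncomputable def omegaLin (b : A) : A →ₗ[k] ((A ⊗[k] A) ⧸ N2 k A) where
  toFun a := br k A a b - br k A (a * b) 1
  map_add' x y := by
    rw [br_add_left, add_mul, br_add_left]
    abel
  map_smul' c x := by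
    rw [br_smul_left, smul_mul_assoc, br_smul_left, RingHom.id_apply, smul_sub]

variable {k A}

theorem omegaLin_apply (a b : A) :
    omegaLin k A b a = br k A a b - br k A (a * b) 1 := rfl

theorem omega_add (a x y : A) :
    omegaLin k A (x + y) a = omegaLin k A x a + omegaLin k A y a := by
  rw [omegaLin_apply, omegaLin_apply, omegaLin_apply, br_add_right, mul_add, br_add_left]
  abel

theorem omega_mul (a x y : A) :
    omegaLin k A (x * y) a = omegaLin k A y (a * x) + omegaLin k A x (a * y) := by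
  rw [omegaLin_apply, omegaLin_apply, omegaLin_apply]
  have h1 := rel (k := k) a x y
  have e1 : a * x * y = a * (x * y) := mul_assoc _ _ _
  have e2 : a * y * x = a * (x * y) := by ring
  rw [e1, e2]
  rw [← sub_eq_zero, ← h1]
  abel

theorem omega_algebraMap (a : A) (c : k) : omegaLin k A (algebraMap k A c) a = 0 := by
  rw [omegaLin_apply, Algebra.algebraMap_eq_smul_one, br_smul_right, mul_smul_comm, mul_one,
    br_smul_left, sub_self]

variable (k A)

/-- the map `Σ a_b [b] ↦ Σ ω(a_b, b)` -/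
noncomputable def g : (A →₀ A) →ₗ[k] ((A ⊗[k] A) ⧸ N2 k A) :=
  Finsupp.lsum k (fun b => omegaLin k A b)

variable {k A}

theorem g_single (a b : A) : g k A (Finsupp.single b a) = omegaLin k A b a := by
  unfold g
  rw [Finsupp.lsum_single]

theorem g_kerTotal (z : A →₀ A) (hz : z ∈ KaehlerDifferential.kerTotal k A) : g k A z = 0 := by
  let S : Submodule A (A →₀ A) :=
    { carrier := {z | ∀ c : A, g k A (c • z) = 0}
      add_mem' := by
        intro z z' hz hz' c
        rw [smul_add, map_add, hz c, hz' c, add_zero]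
      zero_mem' := by
        intro c
        rw [smul_zero, map_zero]
      smul_mem' := by
        intro c' z hz c
        rw [smul_smul]
        exact hz _ }
  have hS : KaehlerDifferential.kerTotal k A ≤ S := by
    unfold KaehlerDifferential.kerTotal
    rw [Submodule.span_le]
    rintro _ ((⟨⟨x, y⟩, rfl⟩ | ⟨⟨x, y⟩, rfl⟩) | ⟨x, rfl⟩)
    · intro c
      simp only [smul_add, smul_sub, Finsupp.smul_single, smul_eq_mul, mul_one, map_add, map_sub,
        g_single]
      rw [omega_add]; abel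
    · intro c
      simp only [smul_add, smul_sub, Finsupp.smul_single, smul_eq_mul, mul_one, map_add, map_sub,
        g_single]
      rw [omega_mul c x y]; abel
    · intro c
      simp only [Finsupp.smul_single, smul_eq_mul, mul_one, g_single]
      exact omega_algebraMap c x
  have := hS hz 1
  rwa [one_smul] at this

section main
variable (δ : A ⊗[k] A →ₗ[k] Ω[A⁄k])
  (hδ : ∀ a b : A, δ (a ⊗ₜ[k] b) = (2 : A) • (a • KaehlerDifferential.D k A b))
include hδ

theorem exists_lift (y : A ⊗[k] A) : ∃ z : A →₀ A,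
    Finsupp.linearCombination A (KaehlerDifferential.D k A) z = δ y ∧
      g k A z = (2 : k) • (N2 k A).mkQ (y - (LinearMap.mul' k A y) ⊗ₜ[k] 1) := by
  induction y using TensorProduct.induction_on with
  | zero => exact ⟨0, by simp⟩
  | tmul a b =>
    refine ⟨Finsupp.single b a + Finsupp.single b a, ?_, ?_⟩
    · rw [map_add, Finsupp.linearCombination_single, hδ, two_smul]
    · rw [map_add, g_single, omegaLin_apply, LinearMap.mul'_apply, map_sub, two_smul]
      rfl
  | add y y' ih ih' =>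
    obtain ⟨z, hz1, hz2⟩ := ih
    obtain ⟨z', hz1', hz2'⟩ := ih'
    refine ⟨z + z', by rw [map_add, map_add, hz1, hz1'], ?_⟩
    rw [map_add, hz2, hz2', ← smul_add, ← map_add]
    congr 2
    rw [map_add, TensorProduct.add_tmul]
    abel

theorem mem_N2 (y : A ⊗[k] A) (hy : δ y = 0) (hm : LinearMap.mul' k A y = 0) : y ∈ N2 k A := by
  obtain ⟨z, hz1, hz2⟩ := exists_lift δ hδ y
  rw [hy] at hz1
  have hz : z ∈ KaehlerDifferential.kerTotal k A := by
    rw [← KaehlerDifferential.kerTotal_eq]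
    exact hz1
  rw [g_kerTotal z hz, hm, TensorProduct.zero_tmul, sub_zero] at hz2
  have h0 := (smul_eq_zero.1 hz2.symm).resolve_left (by norm_num)
  rwa [Submodule.mkQ_apply, Submodule.Quotient.mk_eq_zero] at h0

end main

section resolution
variable (r₁₂ r₂₃ : A ⊗[k] (A ⊗[k] A) →ₗ[k] A ⊗[k] A)
    (h₁₂ : ∀ a u v : A, r₁₂ (a ⊗ₜ[k] (u ⊗ₜ[k] v)) = (a * u) ⊗ₜ[k] v)
    (h₂₃ : ∀ a u v : A, r₂₃ (a ⊗ₜ[k] (u ⊗ₜ[k] v)) = (u * v) ⊗ₜ[k] a)
    (ψ : (A ⊗[k] A) × (A ⊗[k] A) →ₗ[k] Ω[A⁄k])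
    (hψ : ∀ a u b v : A, ψ (a ⊗ₜ[k] u, b ⊗ₜ[k] v) =
      (2 : A) • (a • KaehlerDifferential.D k A u) - v • KaehlerDifferential.D k A b)

variable (k A) in
/-- the swap of the last two factors -/
noncomputable def s2 : A ⊗[k] (A ⊗[k] A) →ₗ[k] A ⊗[k] (A ⊗[k] A) :=
  LinearMap.lTensor A (TensorProduct.comm k A A).toLinearMap

theorem s2_tmul (a u v : A) : s2 k A (a ⊗ₜ[k] (u ⊗ₜ[k] v)) = a ⊗ₜ[k] (v ⊗ₜ[k] u) := by
  simp [s2]

variable (k A) in
/-- `b ⊗ v ↦ (1/2)(v ⊗ b ⊗ 1 + v ⊗ 1 ⊗ b)` -/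
noncomputable def lam : A ⊗[k] A →ₗ[k] A ⊗[k] (A ⊗[k] A) :=
  (2⁻¹ : k) • ((LinearMap.lTensor A ((TensorProduct.mk k A A).flip 1) +
    LinearMap.lTensor A (TensorProduct.mk k A A 1)) ∘ₗ (TensorProduct.comm k A A).toLinearMap)

theorem lam_tmul (b v : A) : lam k A (b ⊗ₜ[k] v) =
    (2⁻¹ : k) • (v ⊗ₜ[k] (b ⊗ₜ[k] 1) + v ⊗ₜ[k] ((1 : A) ⊗ₜ[k] b)) := by
  simp [lam]

theorem half_add_self {M : Type*} [AddCommGroup M] [Module k M] (w : M) :
    (2⁻¹ : k) • (w + w) = w := by
  rw [← two_smul k w, smul_smul, inv_mul_cancel₀ (by norm_num : (2 : k) ≠ 0), one_smul]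

theorem s2_lam (q : A ⊗[k] A) : s2 k A (lam k A q) = lam k A q := by
  induction q using TensorProduct.induction_on with
  | zero => simp
  | tmul b v =>
    rw [lam_tmul, map_smul, map_add, s2_tmul, s2_tmul, add_comm]
  | add q q' ih ih' => rw [map_add, map_add, ih, ih']

include h₂₃ in
theorem r₂₃_lam (q : A ⊗[k] A) : r₂₃ (lam k A q) = q := by
  induction q using TensorProduct.induction_on with
  | zero => simp
  | tmul b v =>
    rw [lam_tmul, map_smul, map_add, h₂₃, h₂₃, mul_one, one_mul, half_add_self]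
  | add q q' ih ih' => rw [map_add, map_add, ih, ih']

include h₁₂ in
theorem mul_r₁₂_lam (q : A ⊗[k] A) :
    LinearMap.mul' k A (r₁₂ (lam k A q)) = LinearMap.mul' k A q := by
  induction q using TensorProduct.induction_on with
  | zero => simp
  | tmul b v =>
    rw [lam_tmul, map_smul, map_add, h₁₂, h₁₂, map_smul, map_add, LinearMap.mul'_apply,
      LinearMap.mul'_apply, LinearMap.mul'_apply, mul_one, mul_one, half_add_self, mul_comm]
  | add q q' ih ih' => rw [map_add, map_add, map_add, map_add, ih, ih']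

include h₁₂ h₂₃ hψ in
theorem psi_eq_zero_of_inv (x : A ⊗[k] (A ⊗[k] A)) (hx : s2 k A x = x) :
    ψ (r₁₂ x, r₂₃ x) = 0 := by
  have hP : ∀ t, (r₁₂.prod r₂₃) t = (r₁₂ t, r₂₃ t) := fun t => rfl
  have hsym : (ψ ∘ₗ (r₁₂.prod r₂₃)) ∘ₗ (LinearMap.id + s2 k A) = 0 := by
    apply TensorProduct.ext'
    intro a w
    induction w using TensorProduct.induction_on with
    | zero => rw [TensorProduct.tmul_zero, map_zero, map_zero]
    | tmul u v =>
      rw [LinearMap.comp_apply, LinearMap.add_apply, LinearMap.id_apply, s2_tmul, map_add,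
        LinearMap.comp_apply, LinearMap.comp_apply, hP, hP, h₁₂, h₂₃, h₁₂, h₂₃, hψ, hψ,
        Derivation.leibniz, Derivation.leibniz, LinearMap.zero_apply]
      module
    | add w w' ih ih' =>
      rw [TensorProduct.tmul_add, map_add, ih, ih']
      simp
  have h0 := LinearMap.congr_fun hsym x
  rw [LinearMap.comp_apply, LinearMap.add_apply, LinearMap.id_apply, hx, ← two_smul k x,
    map_smul, LinearMap.zero_apply] at h0
  have h1 := (smul_eq_zero.1 h0).resolve_left (by norm_num)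
  simpa using h1

include h₁₂ h₂₃ in
theorem exists_inv_of_mem_N2 (y : A ⊗[k] A) (hy : y ∈ N2 k A) :
    ∃ x : A ⊗[k] (A ⊗[k] A), s2 k A x = x ∧ r₁₂ x = y ∧ r₂₃ x = 0 := by
  unfold N2 at hy
  induction hy using Submodule.span_induction with
  | mem y hy =>
    obtain ⟨⟨a, u, v⟩, rfl⟩ := hy
    refine ⟨-(a ⊗ₜ[k] (u ⊗ₜ[k] v)) - a ⊗ₜ[k] (v ⊗ₜ[k] u) + a ⊗ₜ[k] ((u * v) ⊗ₜ[k] 1) +
      a ⊗ₜ[k] ((1 : A) ⊗ₜ[k] (u * v)), ?_, ?_, ?_⟩
    · simp only [map_add, map_sub, map_neg, s2_tmul]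
      abel
    · simp only [map_add, map_sub, map_neg, h₁₂, mul_one]
      abel
    · simp only [map_add, map_sub, map_neg, h₂₃, mul_one, one_mul, mul_comm v u]
      abel
  | zero => exact ⟨0, by simp⟩
  | add y y' _ _ ih ih' =>
    obtain ⟨x, h1, h2, h3⟩ := ih
    obtain ⟨x', h1', h2', h3'⟩ := ih'
    exact ⟨x + x', by rw [map_add, h1, h1'], by rw [map_add, h2, h2'],
      by rw [map_add, h3, h3', add_zero]⟩
  | smul c y _ ih =>
    obtain ⟨x, h1, h2, h3⟩ := ih
    exact ⟨c • x, by rw [map_smul, h1], by rw [map_smul, h2], by rw [map_smul, h3, smul_zero]⟩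

include hψ in
theorem psi_inl (a u : A) : (ψ ∘ₗ LinearMap.inl k _ _) (a ⊗ₜ[k] u) =
    (2 : A) • (a • KaehlerDifferential.D k A u) := by
  have := hψ a u 0 0
  rw [TensorProduct.zero_tmul, zero_smul, sub_zero] at this
  rw [LinearMap.comp_apply, LinearMap.inl_apply, this]

include h₁₂ h₂₃ hψ in
theorem main (p q : A ⊗[k] A) (hm : LinearMap.mul' k A p = LinearMap.mul' k A q) :
    ψ (p, q) = 0 ↔ ∃ x : A ⊗[k] (A ⊗[k] A), s2 k A x = x ∧ r₁₂ x = p ∧ r₂₃ x = q := by
  constructor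
  · intro h0
    have hp' : p - r₁₂ (lam k A q) ∈ N2 k A := by
      apply mem_N2 (ψ ∘ₗ LinearMap.inl k _ _) (psi_inl ψ hψ)
      · rw [LinearMap.comp_apply, LinearMap.inl_apply]
        have e : ((p - r₁₂ (lam k A q), 0) : (A ⊗[k] A) × (A ⊗[k] A)) =
            (p, q) - (r₁₂ (lam k A q), r₂₃ (lam k A q)) := by
          rw [r₂₃_lam r₂₃ h₂₃, Prod.mk_sub_mk, sub_self]
        rw [e, map_sub, h0, psi_eq_zero_of_inv r₁₂ r₂₃ h₁₂ h₂₃ ψ hψ _ (s2_lam q), sub_zero]
      · rw [map_sub, mul_r₁₂_lam r₁₂ h₁₂, hm, sub_self]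
    obtain ⟨x', h1, h2, h3⟩ := exists_inv_of_mem_N2 r₁₂ r₂₃ h₁₂ h₂₃ _ hp'
    refine ⟨x' + lam k A q, ?_, ?_, ?_⟩
    · rw [map_add, h1, s2_lam]
    · rw [map_add, h2, sub_add_cancel]
    · rw [map_add, h3, zero_add, r₂₃_lam r₂₃ h₂₃]
  · rintro ⟨x, hx, rfl, rfl⟩
    exact psi_eq_zero_of_inv r₁₂ r₂₃ h₁₂ h₂₃ ψ hψ x hx

include hψ in
theorem psi_surj (ω : Ω[A⁄k]) :
    ∃ p q : A ⊗[k] A, LinearMap.mul' k A p = LinearMap.mul' k A q ∧ ψ (p, q) = ω := by
  obtain ⟨z, rfl⟩ := KaehlerDifferential.linearCombination_surjective k A ω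
  suffices h : ∃ p : A ⊗[k] A, LinearMap.mul' k A p = 0 ∧
      (ψ ∘ₗ LinearMap.inl k _ _) p = Finsupp.linearCombination A (KaehlerDifferential.D k A) z by
    obtain ⟨p, hp, h⟩ := h
    exact ⟨p, 0, by rw [hp, map_zero], h⟩
  induction z using Finsupp.induction_linear with
  | zero => exact ⟨0, by rw [map_zero], by rw [map_zero, map_zero]⟩
  | add z z' ih ih' =>
    obtain ⟨y, hy0, hy⟩ := ih
    obtain ⟨y', hy0', hy'⟩ := ih'
    exact ⟨y + y', by rw [map_add, hy0, hy0', add_zero], by rw [map_add, map_add, hy, hy']⟩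
  | single b a =>
    refine ⟨(2⁻¹ : k) • (a ⊗ₜ[k] b - (a * b) ⊗ₜ[k] 1), ?_, ?_⟩
    · rw [map_smul, map_sub, LinearMap.mul'_apply, LinearMap.mul'_apply, mul_one, sub_self,
        smul_zero]
    · rw [map_smul, map_sub, psi_inl ψ hψ, psi_inl ψ hψ, Finsupp.linearCombination_single]
      have h1 : KaehlerDifferential.D k A (1 : A) = 0 := Derivation.map_one_eq_zero _
      rw [h1, smul_zero, smul_zero, sub_zero, two_smul, half_add_self]

end resolution

end Groth.Agent.Lib.Helper19.DiagSym3B
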