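import Mathlib

/-!
# Hom-lattices between modules with semilinear `F`, `V` (helper19)

Abstract setting: `R` a PID, `π` irreducible, `σ : R →+* R` surjective, `M`, `N` finite free
with additive `F`, `V` such that `V (σ a • m) = a • V m`, `F V = V F = π`.
-/

set_option autoImplicit false
set_option linter.unusedSectionVars false
set_option linter.unusedVariables false
universe u v w

namespace Groth.Agent.Lib.Helper19DieudHom

open Module

section Basic

variable {R : Type u} [CommRing R] [IsDomain R]
  {σ : R →+* R} {π : R}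
  {M : Type v} [AddCommGroup M] [Module R M] [Module.Free R M]
  {F V : M →+ M}

theorem V_injective (hπ0 : π ≠ 0) (hFV : ∀ m : M, F (V m) = π • m) : Function.Injective V := by
  rw [injective_iff_map_eq_zero]
  intro m hm
  have h1 : π • m = 0 := by rw [← hFV, hm, map_zero]
  rcases smul_eq_zero.1 h1 with h | h
  · exact absurd h hπ0
  · exact h

theorem mem_span_range_V (hσ : Function.Surjective σ)
    (hV : ∀ (a : R) (m : M), V (σ a • m) = a • V m) (x : M) :
    x ∈ Submodule.span R (Set.range V) ↔ ∃ m, V m = x := by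
  constructor
  · intro hx
    induction hx using Submodule.span_induction with
    | mem x hx => exact hx
    | zero => exact ⟨0, map_zero _⟩
    | add x y _ _ hx hy =>
      obtain ⟨a, rfl⟩ := hx
      obtain ⟨b, rfl⟩ := hy
      exact ⟨a + b, map_add _ _ _⟩
    | smul a x _ hx =>
      obtain ⟨m, rfl⟩ := hx
      exact ⟨σ a • m, hV a m⟩
  · rintro ⟨m, rfl⟩
    exact Submodule.subset_span ⟨m, rfl⟩

theorem pi_smul_mem (hVF : ∀ m : M, V (F m) = π • m) (m : M) :
    π • m ∈ Submodule.span R (Set.range V) :=
  Submodule.subset_span ⟨F m, hVF m⟩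

end Basic

section PartA

variable {R : Type u} [CommRing R] [IsDomain R]
  {σ : R →+* R} {π : R}
  {M : Type v} [AddCommGroup M] [Module R M]
  {N : Type w} [AddCommGroup N] [Module R N] [Module.Free R N]
  {VM : M →+ M} {FN VN : N →+ N}

/-- Part (a): a linear map sending `V M` into `V N` is `V`-divisible. -/
theorem exists_lin_of_maps_range (hσ : Function.Surjective σ) (hπ0 : π ≠ 0)
    (hVM : ∀ (a : R) (m : M), VM (σ a • m) = a • VM m)
    (hVN : ∀ (a : R) (n : N), VN (σ a • n) = a • VN n)
    (hFVN : ∀ n : N, FN (VN n) = π • n)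
    (h : M →ₗ[R] N) (hh : ∀ m : M, h (VM m) ∈ Submodule.span R (Set.range VN)) :
    ∃ h' : M →ₗ[R] N, ∀ m : M, h (VM m) = VN (h' m) := by
  have hinj : Function.Injective VN := V_injective hπ0 hFVN
  have hex : ∀ m : M, ∃ n : N, VN n = h (VM m) := fun m =>
    (mem_span_range_V hσ hVN _).1 (hh m)
  choose f hf using hex
  refine ⟨{ toFun := f, map_add' := ?_, map_smul' := ?_ }, fun m => (hf m).symm⟩
  · intro x y
    apply hinj
    rw [map_add, hf, hf, hf, map_add, map_add]
  · intro a x
    obtain ⟨b, rfl⟩ := hσ a
    apply hinj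
    rw [RingHom.id_apply, hVN, hf, hf, hVM, map_smul]

end PartA

section Struct

variable {R : Type u} [CommRing R] [IsDomain R] [IsPrincipalIdealRing R]
  {σ : R →+* R} {π : R}
  {M : Type v} [AddCommGroup M] [Module R M] [Module.Free R M] [Module.Finite R M]
  {F V : M →+ M}

theorem finrank_span_range_V (hπ0 : π ≠ 0) (hVF : ∀ m : M, V (F m) = π • m) :
    finrank R ↥(Submodule.span R (Set.range V)) = finrank R M := by
  apply le_antisymm (Submodule.finrank_le _)
  let g : M →ₗ[R] ↥(Submodule.span R (Set.range V)) :=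
    { toFun := fun m => ⟨π • m, pi_smul_mem hVF m⟩
      map_add' := fun x y => Subtype.ext (smul_add _ _ _)
      map_smul' := fun c x => Subtype.ext (smul_comm _ _ _) }
  have hg : Function.Injective g := by
    intro x y hxy
    have h1 : π • x = π • y := congrArg Subtype.val hxy
    exact smul_right_injective M hπ0 h1
  exact LinearMap.finrank_le_finrank_of_injective hg

variable {ι : Type*} [Fintype ι] {S : Submodule R M}
  (bM : Basis ι R M) (bS : Basis ι R ↥S) (a : ι → R)
  (snf : ∀ i, (bS i : M) = a i • bM i)

include snf in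
theorem repr_coe_eq (x : ↥S) (i : ι) : bM.repr (x : M) i = bS.repr x i * a i := by
  have h1 : (x : M) = ∑ j, (bS.repr x j * a j) • bM j := by
    conv_lhs => rw [← bS.sum_repr x]
    rw [Submodule.coe_sum]
    refine Finset.sum_congr rfl fun j _ => ?_
    rw [Submodule.coe_smul, snf, mul_smul]
  rw [h1, bM.repr_sum_self]

include snf in
theorem unit_or_assoc (hπ : Irreducible π) (hS : ∀ m : M, π • m ∈ S) (i : ι) :
    IsUnit (a i) ∨ Associated π (a i) := by
  have h1 := repr_coe_eq bM bS a snf ⟨π • bM i, hS _⟩ i
  simp only [map_smul, Finsupp.smul_apply, Basis.repr_self, Finsupp.single_eq_same, smul_eq_mul,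
    mul_one] at h1
  rcases hπ.isUnit_or_isUnit h1 with hc | hc
  · right
    obtain ⟨u, hu⟩ := hc
    refine ⟨u⁻¹, ?_⟩
    rw [h1, ← hu, mul_comm (u : R), mul_assoc, Units.mul_inv, mul_one]
  · left
    exact hc

end Struct

section PartB

variable {R : Type u} [CommRing R] [IsDomain R] [IsPrincipalIdealRing R]
  {σ : R →+* R} {π : R}
  {M : Type v} [AddCommGroup M] [Module R M] [Module.Free R M] [Module.Finite R M]
  {N : Type w} [AddCommGroup N] [Module R N]
  {Q : Type*} [AddCommGroup Q] [Module R Q]
  {FM VM : M →+ M}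

/-- Part (b): a linear map `V M → Q` vanishing on `π M` lifts through a surjection `N → Q` to a
linear map `M → N`. -/
theorem exists_lift_of_vanish (hπ : Irreducible π)
    (hVFM : ∀ m : M, VM (FM m) = π • m)
    (q : N →ₗ[R] Q) (hq : Function.Surjective q)
    (g : ↥(Submodule.span R (Set.range VM)) →ₗ[R] Q)
    (hg : ∀ m : M, g ⟨VM (FM m), Submodule.subset_span ⟨FM m, rfl⟩⟩ = 0) :
    ∃ h : M →ₗ[R] N, ∀ x : ↥(Submodule.span R (Set.range VM)), q (h x) = g x := by
  classical
  have hrk := finrank_span_range_V (F := FM) (V := VM) hπ.ne_zero hVFM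
  let S := Submodule.span R (Set.range VM)
  let b := Module.Free.chooseBasis R M
  let bM := S.smithNormalFormTopBasis b hrk
  let bS := S.smithNormalFormBotBasis b hrk
  let a := S.smithNormalFormCoeffs b hrk
  have snf : ∀ i, (bS i : M) = a i • bM i := S.smithNormalFormBotBasis_def b hrk
  have hua := unit_or_assoc (π := π) bM bS a snf hπ (pi_smul_mem hVFM)
  -- choose values
  have hex : ∀ i, ∃ n : N, a i • q n = g (bS i) := by
    intro i
    rcases hua i with hu | hu
    · obtain ⟨u, hu⟩ := hu
      obtain ⟨n, hn⟩ := hq ((u⁻¹ : Rˣ) • g (bS i))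
      refine ⟨n, ?_⟩
      rw [hn, ← hu, ← Units.smul_def, smul_inv_smul]
    · obtain ⟨u, hu⟩ := hu
      refine ⟨0, ?_⟩
      rw [map_zero, smul_zero]
      have h1 : bS i = ⟨VM (FM ((u : R) • bM i)), Submodule.subset_span ⟨_, rfl⟩⟩ := by
        apply Subtype.ext
        show (bS i : M) = VM (FM ((u : R) • bM i))
        rw [snf, ← hu, mul_smul, hVFM]
      rw [h1]
      exact (hg _).symm
  choose n hn using hex
  refine ⟨bM.constr R n, fun x => ?_⟩
  have h2 : (q.comp ((bM.constr R n).comp S.subtype)) = g := by
    apply bS.ext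
    intro i
    rw [LinearMap.comp_apply, LinearMap.comp_apply, Submodule.subtype_apply, snf, map_smul,
      Basis.constr_basis, map_smul, hn]
  exact LinearMap.congr_fun h2 x

end PartB

section PartC

variable {R : Type u} [CommRing R] [IsDomain R] [IsPrincipalIdealRing R]
  {σ : R →+* R} {π : R}
  {M : Type v} [AddCommGroup M] [Module R M] [Module.Free R M] [Module.Finite R M]
  {N : Type w} [AddCommGroup N] [Module R N]
  {FM VM : M →+ M}

open Classical in
theorem length_quot_span_singleton (hπ : Irreducible π) (c : R)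
    (hc : IsUnit c ∨ Associated π c) :
    Module.length R (R ⧸ Ideal.span ({c} : Set R)) = if IsUnit c then 0 else 1 := by
  split_ifs with hu
  · rw [Module.length_eq_zero_iff, Ideal.Quotient.subsingleton_iff, Ideal.span_singleton_eq_top]
    exact hu
  · rcases hc with h | h
    · exact absurd h hu
    · rw [Module.length_eq_one_iff, ← Ideal.span_singleton_eq_span_singleton.2 h,
        isSimpleModule_iff_isCoatom, ← Ideal.isMaximal_def]
      exact PrincipalIdealRing.isMaximal_of_irreducible hπ

theorem length_quot_congr {P Q : Submodule R N} (h : P = Q) :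
    Module.length R (N ⧸ P) = Module.length R (N ⧸ Q) := by
  subst h; rfl

open Classical in
/-- Part (c). -/
theorem length_hom_quotient (hσ : Function.Surjective σ) (hπ : Irreducible π)
    (hVM : ∀ (a : R) (m : M), VM (σ a • m) = a • VM m)
    (hVFM : ∀ m : M, VM (FM m) = π • m)
    (SN : Submodule R N) (hSN : ∀ n : N, π • n ∈ SN)
    (r₂ s₁ : ℕ) (hr₂ : Module.length R (N ⧸ SN) = r₂)
    (hs₁ : (finrank R M : ℕ∞) =
      Module.length R (M ⧸ Submodule.span R (Set.range VM)) + s₁) :
    Module.length R ((M →ₗ[R] N) ⧸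
      ⨅ m : M, SN.comap (LinearMap.applyₗ (VM m) : (M →ₗ[R] N) →ₗ[R] N)) = (r₂ * s₁ : ℕ) := by
  have hrk := finrank_span_range_V (F := FM) (V := VM) hπ.ne_zero hVFM
  let S := Submodule.span R (Set.range VM)
  let b := Module.Free.chooseBasis R M
  let bM := S.smithNormalFormTopBasis b hrk
  let bS := S.smithNormalFormBotBasis b hrk
  let a := S.smithNormalFormCoeffs b hrk
  have snf : ∀ i, (bS i : M) = a i • bM i := S.smithNormalFormBotBasis_def b hrk
  have hua := unit_or_assoc (π := π) bM bS a snf hπ (pi_smul_mem hVFM)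
  -- length of M / S
  have hlenM : Module.length R (M ⧸ S) =
      ((Finset.univ.filter fun i => ¬ IsUnit (a i)).card : ℕ∞) := by
    rw [(S.quotientEquivPiSpan b hrk).length_eq, Module.length_pi_of_fintype]
    rw [Finset.sum_congr rfl fun i _ => length_quot_span_singleton hπ (a i) (hua i)]
    rw [Finset.card_filter]
    push_cast
    refine Finset.sum_congr rfl fun i _ => ?_
    by_cases h : IsUnit (a i) <;> simp [h]
  -- the number of units is `s₁`
  have hs : (Finset.univ.filter fun i => IsUnit (a i)).card = s₁ := by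
    have h1 : finrank R M = Fintype.card (Module.Free.ChooseBasisIndex R M) :=
      Module.finrank_eq_card_basis b
    have h2 := Finset.card_filter_add_card_filter_not (s := (Finset.univ :
      Finset (Module.Free.ChooseBasisIndex R M))) (fun i => IsUnit (a i))
    rw [Finset.card_univ] at h2
    rw [hlenM, h1] at hs₁
    have h3 : Fintype.card (Module.Free.ChooseBasisIndex R M) =
        (Finset.univ.filter fun i => ¬ IsUnit (a i)).card + s₁ := by
      exact_mod_cast hs₁
    omega
  -- characterization of the submodule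
  let e : (M →ₗ[R] N) ≃ₗ[R] (Module.Free.ChooseBasisIndex R M → N) := (bM.constr R).symm
  let P : Module.Free.ChooseBasisIndex R M → Submodule R N := fun i =>
    if IsUnit (a i) then SN else ⊤
  have hmap : Submodule.map (e : (M →ₗ[R] N) →ₗ[R] _)
      (⨅ m : M, SN.comap (LinearMap.applyₗ (VM m) : (M →ₗ[R] N) →ₗ[R] N)) =
      Submodule.pi Set.univ P := by
    ext x
    simp only [Submodule.mem_map, Submodule.mem_iInf, Submodule.mem_comap,
      LinearMap.applyₗ_apply_apply, Submodule.mem_pi, Set.mem_univ, forall_true_left,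
      LinearEquiv.coe_coe]
    constructor
    · rintro ⟨h, hh, rfl⟩ i
      simp only [P]
      split_ifs with hu
      · obtain ⟨m, hm⟩ := (mem_span_range_V hσ hVM _).1 (bS i).2
        have h1 := hh m
        rw [hm, snf, map_smul] at h1
        have h2 : e h i = h (bM i) := by simp [e]
        rw [h2]
        obtain ⟨u, hu⟩ := hu
        rw [← hu] at h1
        have := SN.smul_mem ((u⁻¹ : Rˣ) : R) h1
        rwa [← Units.smul_def, ← Units.smul_def, inv_smul_smul] at this
      · exact Submodule.mem_top
    · intro hx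
      refine ⟨e.symm x, fun m => ?_, e.apply_symm_apply x⟩
      have hm : VM m ∈ S := Submodule.subset_span ⟨m, rfl⟩
      have h1 : VM m = ∑ j, (bS.repr ⟨VM m, hm⟩ j) • (a j • bM j) := by
        have := congrArg Subtype.val (bS.sum_repr ⟨VM m, hm⟩)
        rw [Submodule.coe_sum] at this
        refine this.symm.trans ?_
        refine Finset.sum_congr rfl fun j _ => ?_
        rw [Submodule.coe_smul, snf]
      rw [h1, map_sum]
      refine Submodule.sum_mem _ fun j _ => ?_
      rw [map_smul, map_smul]
      refine SN.smul_mem _ ?_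
      have h2 : e.symm x (bM j) = x j := by simp [e]
      rw [h2]
      have h3 := hx j
      simp only [P] at h3
      split_ifs at h3 with hu
      · exact SN.smul_mem _ h3
      · rcases hua j with h | ⟨u, hu'⟩
        · exact absurd h hu
        · rw [← hu', mul_smul]
          exact hSN _
  rw [(Submodule.Quotient.equiv _ _ e hmap).length_eq, (Submodule.quotientPi P).length_eq,
    Module.length_pi_of_fintype]
  have h4 : ∀ i, Module.length R (N ⧸ P i) = if IsUnit (a i) then (r₂ : ℕ∞) else 0 := by
    intro i
    split_ifs with hu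
    · rw [length_quot_congr (if_pos hu : P i = SN)]
      exact hr₂
    · rw [length_quot_congr (if_neg hu : P i = ⊤), Module.length_eq_zero_iff]
      exact Submodule.Quotient.subsingleton_iff.2 rfl
  rw [Finset.sum_congr rfl fun i _ => h4 i, ← Finset.sum_filter, Finset.sum_const, hs]
  rw [nsmul_eq_mul, mul_comm]
  push_cast
  rfl

end PartC

end Groth.Agent.Lib.Helper19DieudHom
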