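import Mathlib

/-!
# Ideals of Witt vectors with coefficients in a prime ideal (helper19)
-/

set_option autoImplicit false
set_option linter.unusedSectionVars false
universe u v

namespace Groth.Agent.Lib.Helper19Dieudonne

open WittVector

section Gen

variable {R : Type u} [CommRing R] {M : Type v} [AddCommGroup M] [Module R M]

/-- For a projective module: membership in `𝔞 M` can be tested after multiplying by `c`,
if `𝔞` is "`c`-saturated". -/
theorem mem_smul_top_of_smul_mem [Module.Projective R M] (𝔞 : Ideal R) (c : R)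
    (h𝔞 : ∀ w, c * w ∈ 𝔞 → w ∈ 𝔞) (x : M) (hx : c • x ∈ 𝔞 • (⊤ : Submodule R M)) :
    x ∈ 𝔞 • (⊤ : Submodule R M) := by
  obtain ⟨s, hs⟩ := (Module.projective_def'.1 (inferInstance : Module.Projective R M))
  have hs' : ∀ y : M, Finsupp.linearCombination R id (s y) = y := fun y =>
    LinearMap.congr_fun hs y
  -- coordinates of elements of `𝔞 M` lie in `𝔞`
  have hcoord : ∀ y ∈ 𝔞 • (⊤ : Submodule R M), ∀ i, (s y) i ∈ 𝔞 := by
    intro y hy
    refine Submodule.smul_induction_on hy ?_ ?_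
    · intro a ha n _ i
      rw [map_smul, Finsupp.smul_apply, smul_eq_mul]
      exact 𝔞.mul_mem_right _ ha
    · intro y z hy hz i
      rw [map_add, Finsupp.add_apply]
      exact 𝔞.add_mem (hy i) (hz i)
  have h1 : ∀ i, (s x) i ∈ 𝔞 := by
    intro i
    apply h𝔞
    have := hcoord _ hx i
    rwa [map_smul, Finsupp.smul_apply, smul_eq_mul] at this
  rw [← hs' x, Finsupp.linearCombination_apply]
  refine Submodule.sum_mem _ fun i _ => ?_
  exact Submodule.smul_mem_smul (h1 i) Submodule.mem_top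

theorem eq_zero_of_smul_eq_zero [Module.Projective R M] (c : R)
    (hc : ∀ w : R, c * w = 0 → w = 0) (x : M) (hx : c • x = 0) : x = 0 := by
  have := mem_smul_top_of_smul_mem (M := M) (⊥ : Ideal R) c
    (fun w hw => by
      rw [Ideal.mem_bot] at hw ⊢
      exact hc w hw) x (by rw [hx]; exact zero_mem _)
  rwa [Submodule.bot_smul, Submodule.mem_bot] at this

end Gen

variable (p : ℕ) [hp : Fact p.Prime] (k : Type u) [CommRing k] [CharP k p] [PerfectRing k p]

/-- ideal of Witt vectors with all coefficients in `𝔮` -/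
noncomputable def wIdeal (𝔮 : Ideal k) : Ideal (WittVector p k) :=
  RingHom.ker (WittVector.map (Ideal.Quotient.mk 𝔮))

variable {p k}

theorem mem_wIdeal (𝔮 : Ideal k) (w : WittVector p k) :
    w ∈ wIdeal p k 𝔮 ↔ ∀ n, w.coeff n ∈ 𝔮 := by
  rw [wIdeal, RingHom.mem_ker, WittVector.ext_iff]
  simp only [map_coeff, zero_coeff, Ideal.Quotient.eq_zero_iff_mem]

theorem frobenius_mem_wIdeal (𝔮 : Ideal k) (w : WittVector p k) (hw : w ∈ wIdeal p k 𝔮) :
    frobenius w ∈ wIdeal p k 𝔮 := by
  rw [mem_wIdeal] at hw ⊢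
  intro n
  rw [coeff_frobenius_charP]
  exact Ideal.pow_mem_of_mem _ (hw n) p hp.out.pos

theorem frobeniusEquiv_symm_mem_wIdeal (𝔮 : Ideal k) [𝔮.IsPrime] (w : WittVector p k)
    (hw : w ∈ wIdeal p k 𝔮) : (frobeniusEquiv p k).symm w ∈ wIdeal p k 𝔮 := by
  rw [mem_wIdeal] at hw ⊢
  intro n
  have h1 : frobenius ((frobeniusEquiv p k).symm w) = w := by
    rw [← WittVector.frobeniusEquiv_apply]; exact RingEquiv.apply_symm_apply _ _
  have h2 := hw n
  rw [← h1, coeff_frobenius_charP] at h2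
  exact Ideal.IsPrime.mem_of_pow_mem inferInstance _ h2

theorem mem_wIdeal_of_p_mul_mem (𝔮 : Ideal k) [𝔮.IsPrime] (w : WittVector p k)
    (hw : (p : WittVector p k) * w ∈ wIdeal p k 𝔮) : w ∈ wIdeal p k 𝔮 := by
  rw [mem_wIdeal] at hw ⊢
  intro n
  have h2 := hw (n + 1)
  rw [mul_comm, ← verschiebung_frobenius, verschiebung_coeff_succ, coeff_frobenius_charP] at h2
  exact Ideal.IsPrime.mem_of_pow_mem inferInstance _ h2

theorem teichmuller_mem_wIdeal (𝔮 : Ideal k) (a : k) (ha : a ∈ 𝔮) :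
    teichmuller p a ∈ wIdeal p k 𝔮 := by
  rw [mem_wIdeal]
  intro n
  rcases Nat.eq_zero_or_pos n with rfl | hn
  · rw [teichmuller_coeff_zero]; exact ha
  · rw [teichmuller_coeff_pos p a n hn]; exact zero_mem _

/-- Structure of a prime ideal of `W(k)` containing `p`. -/
theorem exists_wIdeal (Q : Ideal (WittVector p k)) [Q.IsPrime] (hpQ : (p : WittVector p k) ∈ Q) :
    ∃ 𝔮 : Ideal k, 𝔮.IsPrime ∧ wIdeal p k 𝔮 ≤ Q ∧
      ∀ w ∈ Q, ∃ a ∈ wIdeal p k 𝔮, ∃ b : WittVector p k, w = a + (p : WittVector p k) * b := by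
  have hsurj : Function.Surjective (constantCoeff : WittVector p k →+* k) := by
    intro a
    exact ⟨teichmuller p a, teichmuller_coeff_zero p a⟩
  have hker : RingHom.ker (constantCoeff : WittVector p k →+* k) ≤ Q := by
    rw [ker_constantCoeff]
    rw [Ideal.span_le]
    intro x hx
    rw [Set.mem_singleton_iff] at hx
    rw [hx]; exact hpQ
  have hmemQ : ∀ w : WittVector p k, w.coeff 0 ∈ Q.map constantCoeff → w ∈ Q := by
    intro w hw
    obtain ⟨y, hyQ, hy⟩ := (Ideal.mem_map_iff_of_surjective _ hsurj).1 hw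
    have : w - y ∈ RingHom.ker (constantCoeff : WittVector p k →+* k) := by
      rw [RingHom.mem_ker, map_sub, hy]
      exact sub_self _
    have h2 := Q.add_mem (hker this) hyQ
    rwa [sub_add_cancel] at h2
  refine ⟨Q.map constantCoeff, Ideal.map_isPrime_of_surjective hsurj hker, ?_, ?_⟩
  · intro w hw
    exact hmemQ w ((mem_wIdeal _ w).1 hw 0)
  · intro w hw
    have h0 : w.coeff 0 ∈ Q.map constantCoeff := Ideal.mem_map_of_mem constantCoeff hw
    refine ⟨teichmuller p (w.coeff 0), teichmuller_mem_wIdeal _ _ h0, ?_⟩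
    have h1 : w - teichmuller p (w.coeff 0) ∈ Ideal.span {(p : WittVector p k)} := by
      rw [mem_span_p_iff_coeff_zero_eq_zero]
      have : (constantCoeff : WittVector p k →+* k) (w - teichmuller p (w.coeff 0)) = 0 := by
        rw [map_sub]
        show w.coeff 0 - (teichmuller p (w.coeff 0)).coeff 0 = 0
        rw [teichmuller_coeff_zero, sub_self]
      exact this
    obtain ⟨b, hb⟩ := Ideal.mem_span_singleton'.1 h1
    refine ⟨b, ?_⟩
    rw [mul_comm, hb]; ring

end Groth.Agent.Lib.Helper19Dieudonne
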