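import Mathlib

/-!
# Tensoring with a residue field commutes with localization (helper21)

For a commutative ring `A`, a submonoid `S`, an `A_S`-algebra `κ` and an `A`-module `N`:
`κ ⊗[A] N ≃ κ ⊗[A_S] N_S`, naturally in `N` (`psi`, `psi_tmul`, `psi_natural`), with the transfer of
injectivity / exactness of `f.lTensor κ` (`injective_iff`, `exact_iff`).
-/

set_option autoImplicit false
universe u v w

namespace Groth.Agent.Lib.Helper21.LocTensor
open TensorProduct

variable {A : Type u} [CommRing A] (S : Submonoid A) (κ : Type w) [CommRing κ] [Algebra A κ]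
  [Algebra (Localization S) κ] [IsScalarTower A (Localization S) κ]

section
variable (N : Type v) [AddCommGroup N] [Module A N]

/-- `κ ⊗[A] N ≃ κ ⊗[A_S] N_S` -/
noncomputable def psi : κ ⊗[A] N ≃ₗ[A] κ ⊗[Localization S] LocalizedModule S N :=
  ((TensorProduct.AlgebraTensorModule.cancelBaseChange A (Localization S) (Localization S)
      κ N).symm.restrictScalars A) ≪≫ₗ
    ((LinearEquiv.lTensor κ (LocalizedModule.isBaseChange S N).equiv).restrictScalars A)

lemma psi_tmul (x : κ) (n : N) : psi S κ N (x ⊗ₜ n) = x ⊗ₜ LocalizedModule.mk n 1 := by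
  simp [psi, IsBaseChange.equiv_tmul]

end

variable {N₁ : Type v} [AddCommGroup N₁] [Module A N₁] {N₂ : Type v} [AddCommGroup N₂] [Module A N₂]
  {N₃ : Type v} [AddCommGroup N₃] [Module A N₃]

lemma psi_natural (f : N₁ →ₗ[A] N₂) (z : κ ⊗[A] N₁) :
    (LocalizedModule.map S f).lTensor κ (psi S κ N₁ z) = psi S κ N₂ (f.lTensor κ z) := by
  induction z using TensorProduct.induction_on with
  | zero => simp
  | tmul x n =>
    rw [psi_tmul, LinearMap.lTensor_tmul, LinearMap.lTensor_tmul, psi_tmul, LocalizedModule.map_mk]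
  | add a b ha hb => rw [map_add, map_add, ha, hb, map_add, map_add]

lemma injective_iff (f : N₁ →ₗ[A] N₂) :
    Function.Injective ((LocalizedModule.map S f).lTensor κ) ↔ Function.Injective (f.lTensor κ) := by
  constructor
  · intro h a b hab
    apply (psi S κ N₁).injective
    apply h
    rw [psi_natural, psi_natural, hab]
  · intro h a b hab
    obtain ⟨a, rfl⟩ := (psi S κ N₁).surjective a
    obtain ⟨b, rfl⟩ := (psi S κ N₁).surjective b
    rw [psi_natural, psi_natural] at hab
    rw [h ((psi S κ N₂).injective hab)]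

lemma exact_iff (f : N₁ →ₗ[A] N₂) (g : N₂ →ₗ[A] N₃) :
    Function.Exact ((LocalizedModule.map S f).lTensor κ) ((LocalizedModule.map S g).lTensor κ) ↔
      Function.Exact (f.lTensor κ) (g.lTensor κ) := by
  constructor
  · intro h y
    have h' := h (psi S κ N₂ y)
    rw [psi_natural] at h'
    constructor
    · intro hy
      obtain ⟨x, hx⟩ := h'.1 (by rw [hy, map_zero])
      obtain ⟨x, rfl⟩ := (psi S κ N₁).surjective x
      rw [psi_natural] at hx
      exact ⟨x, (psi S κ N₂).injective hx⟩
    · rintro ⟨x, rfl⟩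
      have := h'.2 ⟨psi S κ N₁ x, psi_natural S κ f x⟩
      exact (psi S κ N₃).injective (by rw [this, map_zero])
  · intro h y
    obtain ⟨y, rfl⟩ := (psi S κ N₂).surjective y
    rw [psi_natural]
    have h' := h y
    constructor
    · intro hy
      have hy' : g.lTensor κ y = 0 := (psi S κ N₃).injective (by rw [hy, map_zero])
      obtain ⟨x, rfl⟩ := h'.1 hy'
      exact ⟨psi S κ N₁ x, psi_natural S κ f x⟩
    · rintro ⟨x, hx⟩
      obtain ⟨x, rfl⟩ := (psi S κ N₁).surjective x
      rw [psi_natural] at hx
      have := h'.2 ⟨x, (psi S κ N₂).injective hx⟩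
      rw [this, map_zero]

end Groth.Agent.Lib.Helper21.LocTensor
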