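import Mathlib
import Groth.Agent.Lib.Helper21LocTensor

/-!
# Projectivity of a quotient `F ⧸ K` from a condition at maximal ideals (helper19)

`F` finite projective over any commutative ring `A`, `K ≤ F` finitely generated, and
`K ⊓ m F ≤ m K` for every maximal ideal `m`.  Then `F ⧸ K` is projective.
-/

set_option autoImplicit false
universe u v

namespace Groth.Agent.Lib.Helper19ProjQuotient
open TensorProduct

variable {A : Type u} [CommRing A] {F : Type v} [AddCommGroup F] [Module A F]

/-- `K/IK → F/IF` injective in tensor form. -/
theorem lTensor_quot_injective (I : Ideal A) (K : Submodule A F)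
    (h : K ⊓ (I • ⊤ : Submodule A F) ≤ I • K) :
    Function.Injective (K.subtype.lTensor (A ⧸ I)) := by
  have hmap : (I • ⊤ : Submodule A K).map K.subtype = I • K := by
    rw [Submodule.map_smul'', Submodule.map_top, Submodule.range_subtype]
  have hle : (I • ⊤ : Submodule A K) ≤ (I • ⊤ : Submodule A F).comap K.subtype := by
    rw [← Submodule.map_le_iff_le_comap, hmap]
    exact Submodule.smul_mono le_rfl le_top
  have hnat : ∀ z : (A ⧸ I) ⊗[A] K,
      TensorProduct.quotTensorEquivQuotSMul F I (K.subtype.lTensor (A ⧸ I) z) =
        Submodule.mapQ _ _ K.subtype hle (TensorProduct.quotTensorEquivQuotSMul K I z) := by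
    intro z
    induction z using TensorProduct.induction_on with
    | zero => simp
    | tmul a x =>
      obtain ⟨a, rfl⟩ := Ideal.Quotient.mk_surjective a
      rw [LinearMap.lTensor_tmul, TensorProduct.quotTensorEquivQuotSMul_mk_tmul,
        TensorProduct.quotTensorEquivQuotSMul_mk_tmul, Submodule.mapQ_apply]
      rfl
    | add a b ha hb => rw [map_add, map_add, ha, hb, map_add, map_add]
  have hinj : Function.Injective (Submodule.mapQ _ _ K.subtype hle) := by
    rw [injective_iff_map_eq_zero]
    intro y hy
    obtain ⟨x, rfl⟩ := Submodule.Quotient.mk_surjective _ y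
    rw [Submodule.mapQ_apply, Submodule.Quotient.mk_eq_zero] at hy
    have hx : (x : F) ∈ I • K := h ⟨x.2, hy⟩
    rw [← hmap] at hx
    obtain ⟨x', hx', hxx'⟩ := hx
    have : x' = x := Subtype.ext hxx'
    rw [Submodule.Quotient.mk_eq_zero, ← this]
    exact hx'
  intro a b hab
  apply (TensorProduct.quotTensorEquivQuotSMul K I).injective
  apply hinj
  rw [← hnat, ← hnat, hab]

/-- transfer of injectivity along a linear equivalence of the coefficient module -/
theorem lTensor_injective_of_equiv {k κ : Type*} [AddCommGroup k] [Module A k] [AddCommGroup κ]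
    [Module A κ] (e : k ≃ₗ[A] κ) {M₁ M₂ : Type*} [AddCommGroup M₁] [Module A M₁]
    [AddCommGroup M₂] [Module A M₂] (f : M₁ →ₗ[A] M₂)
    (h : Function.Injective (f.lTensor k)) : Function.Injective (f.lTensor κ) := by
  have hcomm : ∀ z : k ⊗[A] M₁,
      f.lTensor κ (LinearEquiv.rTensor M₁ e z) = LinearEquiv.rTensor M₂ e (f.lTensor k z) := by
    intro z
    induction z using TensorProduct.induction_on with
    | zero => simp
    | tmul a x => simp
    | add a b ha hb => rw [map_add, map_add, ha, hb, map_add, map_add]
  intro a b hab
  obtain ⟨a, rfl⟩ := (LinearEquiv.rTensor M₁ e).surjective a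
  obtain ⟨b, rfl⟩ := (LinearEquiv.rTensor M₁ e).surjective b
  rw [hcomm, hcomm] at hab
  rw [h ((LinearEquiv.rTensor M₂ e).injective hab)]

/-- **Projectivity of `F ⧸ K` from the Tor-vanishing condition at all maximal ideals.** -/
theorem projective_quotient [Module.Finite A F] [Module.Projective A F] (K : Submodule A F)
    (hK : K.FG)
    (h : ∀ (m : Ideal A), m.IsMaximal → K ⊓ (m • ⊤ : Submodule A F) ≤ m • K) :
    Module.Projective A (F ⧸ K) := by
  have : Module.FinitePresentation A F := Module.finitePresentation_of_projective A F
  have : Module.FinitePresentation A (F ⧸ K) :=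
    Module.finitePresentation_of_surjective K.mkQ (Submodule.mkQ_surjective K)
      (by rw [Submodule.ker_mkQ]; exact hK)
  have : Module.Finite A K := Module.Finite.iff_fg.2 hK
  apply Module.projective_of_localization_maximal
  intro m hm
  have := hm
  have : Module.Free (Localization.AtPrime m) (LocalizedModule m.primeCompl F) :=
    Module.free_of_flat_of_isLocalRing
  have h1 : Function.Injective (K.subtype.lTensor (A ⧸ m)) := lTensor_quot_injective m K (h m hm)
  have h2 : Function.Injective (K.subtype.lTensor m.ResidueField) :=
    lTensor_injective_of_equiv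
      (LinearEquiv.ofBijective (IsScalarTower.toAlgHom A (A ⧸ m) m.ResidueField).toLinearMap
        m.bijective_algebraMap_quotient_residueField) K.subtype h1
  have h' := (Groth.Agent.Lib.Helper21.LocTensor.injective_iff m.primeCompl m.ResidueField
    K.subtype).2 h2
  have hfree : Module.Free (Localization.AtPrime m) (LocalizedModule m.primeCompl (F ⧸ K)) :=
    Module.free_of_lTensor_residueField_injective
      (LocalizedModule.map m.primeCompl K.subtype)
      (LocalizedModule.map m.primeCompl K.mkQ)
      (LocalizedModule.map_surjective _ _ (Submodule.mkQ_surjective _))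
      (LocalizedModule.map_exact m.primeCompl _ _ (LinearMap.exact_subtype_mkQ _)) h'
  infer_instance

end Groth.Agent.Lib.Helper19ProjQuotient
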