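import Mathlib
import Groth.Agent.Lib.Helper19DieudonneA
import Groth.Agent.Lib.Helper19ProjQuotient

/-!
# `M / VM` is projective for (truncated) Dieudonné modules over perfect rings (helper19)
-/

set_option autoImplicit false
set_option linter.unusedSectionVars false
universe u v

namespace Groth.Agent.Lib.Helper19Dieudonne

open WittVector

variable {p : ℕ} [hp : Fact p.Prime] {k : Type u} [CommRing k] [CharP k p] [PerfectRing k p]
  {M : Type v} [AddCommGroup M] [Module (WittVector p k) M]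
  (F : M →ₛₗ[(WittVector.frobenius : WittVector p k →+* WittVector p k)] M)
  (V : M →ₛₗ[((WittVector.frobeniusEquiv p k).symm : WittVector p k →+* WittVector p k)] M)

theorem F_smul (w : WittVector p k) (m : M) : F (w • m) = frobenius w • F m :=
  map_smulₛₗ F w m

theorem V_smul (w : WittVector p k) (m : M) : V (w • m) = (frobeniusEquiv p k).symm w • V m :=
  map_smulₛₗ V w m

theorem V_frobenius_smul (w : WittVector p k) (m : M) : V (frobenius w • m) = w • V m := by
  rw [V_smul, ← WittVector.frobeniusEquiv_apply, RingEquiv.symm_apply_apply]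

theorem F_p_smul (m : M) : F ((p : WittVector p k) • m) = (p : WittVector p k) • F m := by
  rw [F_smul, map_natCast]

theorem V_p_smul (m : M) : V ((p : WittVector p k) • m) = (p : WittVector p k) • V m := by
  rw [V_smul, map_natCast]

theorem mem_p_smul_top_iff (x : M) :
    x ∈ (Ideal.span {(p : WittVector p k)} • (⊤ : Submodule (WittVector p k) M)) ↔
      ∃ y : M, x = (p : WittVector p k) • y := by
  rw [Submodule.ideal_span_singleton_smul, Submodule.mem_smul_pointwise_iff_exists]
  constructor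
  · rintro ⟨y, _, rfl⟩; exact ⟨y, rfl⟩
  · rintro ⟨y, rfl⟩; exact ⟨y, Submodule.mem_top, rfl⟩

theorem F_mem_smul_top (𝔞 : Ideal (WittVector p k)) (h𝔞 : ∀ w ∈ 𝔞, frobenius w ∈ 𝔞) (x : M)
    (hx : x ∈ 𝔞 • (⊤ : Submodule (WittVector p k) M)) :
    F x ∈ 𝔞 • (⊤ : Submodule (WittVector p k) M) := by
  refine Submodule.smul_induction_on hx ?_ ?_
  · intro a ha n _
    rw [F_smul]
    exact Submodule.smul_mem_smul (h𝔞 a ha) Submodule.mem_top
  · intro y z hy hz
    rw [map_add]; exact add_mem hy hz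

theorem V_mem_p_smul_top (x : M)
    (hx : x ∈ Ideal.span {(p : WittVector p k)} • (⊤ : Submodule (WittVector p k) M)) :
    V x ∈ Ideal.span {(p : WittVector p k)} • (⊤ : Submodule (WittVector p k) M) := by
  rw [mem_p_smul_top_iff] at hx ⊢
  obtain ⟨y, rfl⟩ := hx
  exact ⟨V y, V_p_smul V y⟩

/-- The key inclusion. -/
theorem core (hFV : ∀ m : M, F (V m) = (p : WittVector p k) • m)
    (𝔞 Q : Ideal (WittVector p k))
    (hQ : ∀ w ∈ Q, ∃ a ∈ 𝔞, ∃ b : WittVector p k, w = a + (p : WittVector p k) * b)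
    (hσ : ∀ w ∈ 𝔞, frobenius w ∈ 𝔞)
    (T : Submodule (WittVector p k) M)
    (hsat : ∀ x : M, (p : WittVector p k) • x ∈ 𝔞 • (⊤ : Submodule (WittVector p k) M) → x ∈ T)
    (m : M) (hm : V m ∈ Q • (⊤ : Submodule (WittVector p k) M)) :
    ∃ β : M, m - F β ∈ T := by
  -- decompose `V m = α + p β`
  have hdec : ∀ x ∈ Q • (⊤ : Submodule (WittVector p k) M),
      ∃ α ∈ 𝔞 • (⊤ : Submodule (WittVector p k) M), ∃ β : M, x = α + (p : WittVector p k) • β := by
    intro x hx
    refine Submodule.smul_induction_on hx ?_ ?_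
    · intro w hw n _
      obtain ⟨a, ha, b, rfl⟩ := hQ w hw
      refine ⟨a • n, Submodule.smul_mem_smul ha Submodule.mem_top, b • n, ?_⟩
      rw [add_smul, mul_smul]
    · rintro y z ⟨α, hα, β, rfl⟩ ⟨α', hα', β', rfl⟩
      refine ⟨α + α', add_mem hα hα', β + β', ?_⟩
      rw [smul_add]; abel
  obtain ⟨α, hα, β, hαβ⟩ := hdec _ hm
  refine ⟨β, hsat _ ?_⟩
  have h1 : (p : WittVector p k) • m = F α + (p : WittVector p k) • F β := by
    rw [← hFV m, hαβ, map_add, F_p_smul]
  have h2 : (p : WittVector p k) • (m - F β) = F α := by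
    rw [smul_sub, h1]; abel
  rw [h2]
  exact F_mem_smul_top F 𝔞 hσ α hα

section Assembly

variable [Module.Finite (WittVector p k) M]
  [Module.Finite (WittVector p k ⧸ Ideal.span {(p : WittVector p k)})
    (M ⧸ (Ideal.span {(p : WittVector p k)} • (⊤ : Submodule (WittVector p k) M)))]
  [Module.Projective (WittVector p k ⧸ Ideal.span {(p : WittVector p k)})
    (M ⧸ (Ideal.span {(p : WittVector p k)} • (⊤ : Submodule (WittVector p k) M)))]

theorem projective_quot_V (hFV : ∀ m : M, F (V m) = (p : WittVector p k) • m)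
    (hVF : ∀ m : M, V (F m) = (p : WittVector p k) • m)
    (hsat : ∀ (𝔮 : Ideal k) [𝔮.IsPrime] (x : M),
      (p : WittVector p k) • x ∈ wIdeal p k 𝔮 • (⊤ : Submodule (WittVector p k) M) →
        x ∈ wIdeal p k 𝔮 • (⊤ : Submodule (WittVector p k) M) ⊔
          Ideal.span {(p : WittVector p k)} • (⊤ : Submodule (WittVector p k) M)) :
    Module.Projective (WittVector p k ⧸ Ideal.span {(p : WittVector p k)})
      ((M ⧸ (Ideal.span {(p : WittVector p k)} • (⊤ : Submodule (WittVector p k) M))) ⧸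
        Submodule.span (WittVector p k ⧸ Ideal.span {(p : WittVector p k)})
          (Set.range fun m : M => (Ideal.span {(p : WittVector p k)} •
            (⊤ : Submodule (WittVector p k) M)).mkQ (V m))) := by
  classical
  set pW : Ideal (WittVector p k) := Ideal.span {(p : WittVector p k)} with hpW
  set pM : Submodule (WittVector p k) M := pW • (⊤ : Submodule (WittVector p k) M) with hpM
  set K : Submodule (WittVector p k ⧸ pW) (M ⧸ pM) :=
    Submodule.span (WittVector p k ⧸ pW) (Set.range fun m : M => pM.mkQ (V m)) with hKdef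
  have hmk_smul : ∀ (w : WittVector p k) (x : M),
      (Ideal.Quotient.mk pW w) • (pM.mkQ x) = pM.mkQ (w • x) := fun w x => rfl
  -- every element of `K` is of the form `mkQ (V m)`
  have hK : ∀ y ∈ K, ∃ m : M, y = pM.mkQ (V m) := by
    intro y hy
    induction hy using Submodule.span_induction with
    | mem y hy =>
      obtain ⟨m, rfl⟩ := hy
      exact ⟨m, rfl⟩
    | zero => exact ⟨0, by simp⟩
    | add y z _ _ hy hz =>
      obtain ⟨m, rfl⟩ := hy
      obtain ⟨m', rfl⟩ := hz
      exact ⟨m + m', by simp⟩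
    | smul r y _ hy =>
      obtain ⟨m, rfl⟩ := hy
      obtain ⟨w, rfl⟩ := Ideal.Quotient.mk_surjective r
      refine ⟨frobenius w • m, ?_⟩
      rw [hmk_smul, V_frobenius_smul]
  have hVK : ∀ m : M, pM.mkQ (V m) ∈ K := fun m => Submodule.subset_span ⟨m, rfl⟩
  -- `K` is finitely generated
  have hKfg : K.FG := by
    obtain ⟨S, hS⟩ := (inferInstance : Module.Finite (WittVector p k) M).fg_top
    refine ⟨S.image (fun m => pM.mkQ (V m)), ?_⟩
    apply le_antisymm
    · rw [Submodule.span_le]
      intro y hy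
      rw [Finset.coe_image] at hy
      obtain ⟨m, _, rfl⟩ := hy
      exact hVK m
    · rw [hKdef, Submodule.span_le]
      rintro _ ⟨m, rfl⟩
      have hm : m ∈ Submodule.span (WittVector p k) (S : Set M) := by rw [hS]; trivial
      induction hm using Submodule.span_induction with
      | mem x hx =>
        apply Submodule.subset_span
        rw [Finset.coe_image]
        exact ⟨x, hx, rfl⟩
      | zero => simp
      | add x y _ _ hx hy =>
        simp only [map_add]
        exact add_mem hx hy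
      | smul w x _ hx =>
        rw [SetLike.mem_coe] at hx ⊢
        beta_reduce at hx ⊢
        rw [V_smul]
        have := Submodule.smul_mem _ (Ideal.Quotient.mk pW ((frobeniusEquiv p k).symm w)) hx
        rwa [hmk_smul] at this
  apply Groth.Agent.Lib.Helper19ProjQuotient.projective_quotient K hKfg
  intro mbar hmbar
  have := hmbar
  -- the prime `Q` of `W(k)`
  set Q : Ideal (WittVector p k) := mbar.comap (Ideal.Quotient.mk pW) with hQdef
  have hQprime : Q.IsPrime := Ideal.comap_isPrime _ _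
  have hpWQ : pW ≤ Q := by
    intro w hw
    rw [hQdef, Ideal.mem_comap, Ideal.Quotient.eq_zero_iff_mem.2 hw]
    exact zero_mem _
  have hpQ : (p : WittVector p k) ∈ Q := hpWQ (Ideal.subset_span rfl)
  obtain ⟨𝔮, h𝔮, h𝔞Q, hdecomp⟩ := exists_wIdeal Q hpQ
  set 𝔞 := wIdeal p k 𝔮 with h𝔞def
  -- lifting membership in `mbar • ⊤`
  have hL1 : ∀ y ∈ mbar • (⊤ : Submodule (WittVector p k ⧸ pW) (M ⧸ pM)),
      ∃ x ∈ Q • (⊤ : Submodule (WittVector p k) M), pM.mkQ x = y := by
    intro y hy
    refine Submodule.smul_induction_on hy ?_ ?_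
    · intro r hr n _
      obtain ⟨w, rfl⟩ := Ideal.Quotient.mk_surjective r
      obtain ⟨n, rfl⟩ := Submodule.mkQ_surjective pM n
      exact ⟨w • n, Submodule.smul_mem_smul hr Submodule.mem_top, (hmk_smul w n).symm⟩
    · rintro y z ⟨x, hx, rfl⟩ ⟨x', hx', rfl⟩
      exact ⟨x + x', add_mem hx hx', by simp⟩
  have hpMQ : pM ≤ Q • (⊤ : Submodule (WittVector p k) M) :=
    Submodule.smul_mono hpWQ le_rfl
  -- images of `V γ`, `γ ∈ 𝔞 M`
  have hL2 : ∀ γ ∈ 𝔞 • (⊤ : Submodule (WittVector p k) M), pM.mkQ (V γ) ∈ mbar • K := by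
    intro γ hγ
    refine Submodule.smul_induction_on hγ ?_ ?_
    · intro a ha n _
      rw [V_smul, ← hmk_smul]
      refine Submodule.smul_mem_smul ?_ (hVK n)
      have : (frobeniusEquiv p k).symm a ∈ Q :=
        h𝔞Q (frobeniusEquiv_symm_mem_wIdeal 𝔮 a ha)
      exact this
    · intro y z hy hz
      rw [map_add, map_add]; exact add_mem hy hz
  rintro y ⟨hyK, hym⟩
  obtain ⟨m, rfl⟩ := hK y hyK
  obtain ⟨x, hx, hxy⟩ := hL1 _ hym
  have hVm : V m ∈ Q • (⊤ : Submodule (WittVector p k) M) := by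
    have h1 : V m - x ∈ pM := by
      rw [← Submodule.Quotient.mk_eq_zero, Submodule.Quotient.mk_sub]
      have : pM.mkQ x = pM.mkQ (V m) := hxy
      rw [Submodule.mkQ_apply, Submodule.mkQ_apply] at this
      rw [this, sub_self]
    have h2 := add_mem (hpMQ h1) hx
    rwa [sub_add_cancel] at h2
  obtain ⟨β, hβ⟩ := core F V hFV 𝔞 Q hdecomp (fun w hw => frobenius_mem_wIdeal 𝔮 w hw)
    (𝔞 • (⊤ : Submodule (WittVector p k) M) ⊔ pM) (fun x hx => hsat 𝔮 x hx) m hVm
  obtain ⟨γ, hγ, δ, hδ, hsum⟩ := Submodule.mem_sup.1 hβ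
  have hm : m = F β + γ + δ := by
    rw [add_assoc, hsum]; abel
  have hVm' : V m = (p : WittVector p k) • β + V γ + V δ := by
    rw [hm, map_add, map_add, hVF]
  have hy : pM.mkQ (V m) = pM.mkQ (V γ) := by
    rw [hVm', map_add, map_add]
    have h1 : pM.mkQ ((p : WittVector p k) • β) = 0 := by
      rw [Submodule.mkQ_apply, Submodule.Quotient.mk_eq_zero]
      exact (mem_p_smul_top_iff _).2 ⟨β, rfl⟩
    have h2 : pM.mkQ (V δ) = 0 := by
      rw [Submodule.mkQ_apply, Submodule.Quotient.mk_eq_zero]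
      exact V_mem_p_smul_top V δ hδ
    rw [h1, h2, zero_add, add_zero]
  rw [hy]
  exact hL2 γ hγ

end Assembly

end Groth.Agent.Lib.Helper19Dieudonne
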