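import Mathlib
import Groth.Agent.Lib.Helper19DieudonneB

/-!
# Truncated Dieudonné modules: reduction mod `p` and saturation (helper19)
-/

set_option autoImplicit false
set_option linter.unusedSectionVars false
universe u v w

namespace Groth.Agent.Lib.Helper19Dieudonne

open WittVector

section Retract

variable {R : Type u} [CommRing R] {N : Type w} {M : Type v} [AddCommGroup N] [Module R N]
  [AddCommGroup M] [Module R M]

theorem map_mem_smul_top (φ : N →ₗ[R] M) (𝔞 : Ideal R) (y : N)
    (hy : y ∈ 𝔞 • (⊤ : Submodule R N)) : φ y ∈ 𝔞 • (⊤ : Submodule R M) := by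
  refine Submodule.smul_induction_on hy ?_ ?_
  · intro a ha n _
    rw [map_smul]; exact Submodule.smul_mem_smul ha Submodule.mem_top
  · intro y z hy hz; rw [map_add]; exact add_mem hy hz

theorem retract_sat {ι : Type*} [Fintype ι] [DecidableEq ι] (g : M →ₗ[R] (ι → N))
    (f : (ι → N) →ₗ[R] M) (hfg : ∀ x, f (g x) = x) (𝔞 𝔟 : Ideal R) (c : R)
    (hN : ∀ y : N, c • y ∈ 𝔞 • (⊤ : Submodule R N) → y ∈ 𝔟 • (⊤ : Submodule R N))
    (x : M) (hx : c • x ∈ 𝔞 • (⊤ : Submodule R M)) : x ∈ 𝔟 • (⊤ : Submodule R M) := by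
  have h1 : ∀ j, g x j ∈ 𝔟 • (⊤ : Submodule R N) := by
    intro j
    apply hN
    have := map_mem_smul_top ((LinearMap.proj j).comp g) 𝔞 _ hx
    rwa [map_smul] at this
  have h2 : g x = ∑ j, Pi.single j (g x j) := (Finset.univ_sum_single (g x)).symm
  rw [← hfg x, h2, map_sum]
  refine Submodule.sum_mem _ fun j _ => ?_
  exact map_mem_smul_top (f.comp (LinearMap.single R (fun _ => N) j)) 𝔟 _ (h1 j)

/-- Reduction of a finite projective `R/I`-module modulo a bigger ideal `J`. -/
theorem projective_quot_of_projective (I J : Ideal R) (hIJ : I ≤ J)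
    (M : Type v) [AddCommGroup M] [Module R M] [Module (R ⧸ I) M] [IsScalarTower R (R ⧸ I) M]
    [Module.Finite (R ⧸ I) M] [Module.Projective (R ⧸ I) M] :
    Module.Projective (R ⧸ J) (M ⧸ (J • (⊤ : Submodule R M))) := by
  classical
  obtain ⟨m, f, hf⟩ := Module.Finite.exists_fin' (R ⧸ I) M
  obtain ⟨g, hg⟩ := Module.projective_lifting_property f LinearMap.id hf
  have hfg : ∀ x, f (g x) = x := fun x => LinearMap.congr_fun hg x
  have hsm : ∀ (r : R) (x : M), r • x = (Ideal.Quotient.mk I r) • x := by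
    intro r x
    have h := smul_assoc r (1 : R ⧸ I) x
    rw [one_smul] at h
    rw [← h]
    congr 1
    show r • (Ideal.Quotient.mk I 1) = _
    rw [← Ideal.Quotient.mk_eq_mk, ← Submodule.Quotient.mk_smul, smul_eq_mul, mul_one]
    rfl
  set JM : Submodule R M := J • (⊤ : Submodule R M) with hJM
  have hmk_smul : ∀ (r : R) (x : M),
      (Ideal.Quotient.mk J r) • (JM.mkQ x) = JM.mkQ (r • x) := fun r x => rfl
  let ρ : R ⧸ I →+* R ⧸ J := Ideal.Quotient.factor hIJ
  have hρ : ∀ r : R, ρ (Ideal.Quotient.mk I r) = Ideal.Quotient.mk J r := fun r =>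
    Ideal.Quotient.factor_mk hIJ r
  let i₀ : M →ₗ[R] (Fin m → R ⧸ J) :=
    { toFun := fun x j => ρ (g x j)
      map_add' := by
        intro x y; ext j
        simp only [map_add, Pi.add_apply]
      map_smul' := by
        intro r x; ext j
        simp only [RingHom.id_apply, Pi.smul_apply]
        rw [hsm, map_smul, Pi.smul_apply, smul_eq_mul, map_mul, hρ]
        rfl }
  have hi₀ : ∀ x j, i₀ x j = ρ (g x j) := fun x j => rfl
  have hker : JM ≤ LinearMap.ker i₀ := by
    rw [hJM, Submodule.smul_le]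
    intro r hr n _
    rw [LinearMap.mem_ker, map_smul]
    ext j
    rw [Pi.smul_apply, Pi.zero_apply]
    show (Ideal.Quotient.mk J r) * _ = 0
    rw [Ideal.Quotient.eq_zero_iff_mem.2 hr, zero_mul]
  let i₁ : (M ⧸ JM) →ₗ[R ⧸ J] (Fin m → R ⧸ J) :=
    (JM.liftQ i₀ hker).extendScalarsOfSurjective Ideal.Quotient.mk_surjective
  have hi₁ : ∀ x, i₁ (JM.mkQ x) = i₀ x := fun x => rfl
  let π : (Fin m → R ⧸ J) →ₗ[R ⧸ J] (M ⧸ JM) :=
    Fintype.linearCombination (R ⧸ J) (fun j => JM.mkQ (f (Pi.single j 1)))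
  have hρsmul : ∀ (c : R ⧸ I) (y : M), ρ c • JM.mkQ y = JM.mkQ (c • y) := by
    intro c y
    obtain ⟨r, rfl⟩ := Ideal.Quotient.mk_surjective c
    rw [hρ, hmk_smul, hsm]
  refine Module.Projective.of_split i₁ π ?_
  apply LinearMap.ext
  intro y
  obtain ⟨x, rfl⟩ := Submodule.mkQ_surjective JM y
  rw [LinearMap.comp_apply, hi₁, LinearMap.id_apply, Fintype.linearCombination_apply]
  have h2 : g x = ∑ j, Pi.single j (g x j) := (Finset.univ_sum_single (g x)).symm
  have h3 : x = ∑ j, (g x j) • f (Pi.single j 1) := by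
    conv_lhs => rw [← hfg x, h2, map_sum]
    refine Finset.sum_congr rfl fun j _ => ?_
    rw [← map_smul]
    congr 1
    ext j'
    by_cases hj : j' = j
    · subst hj; simp
    · simp [hj]
  conv_rhs => rw [h3, map_sum]
  refine Finset.sum_congr rfl fun j _ => ?_
  rw [hi₀, hρsmul]

end Retract

variable {p : ℕ} [hp : Fact p.Prime] {k : Type u} [CommRing k] [CharP k p] [PerfectRing k p]

theorem mem_smul_top_quot {R : Type u} [CommRing R] (𝔞 I : Ideal R) (z : R ⧸ I)
    (hz : z ∈ 𝔞 • (⊤ : Submodule R (R ⧸ I))) : ∃ a ∈ 𝔞, z = Ideal.Quotient.mk I a := by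
  refine Submodule.smul_induction_on hz ?_ ?_
  · intro a ha n _
    obtain ⟨r, rfl⟩ := Ideal.Quotient.mk_surjective n
    exact ⟨a * r, 𝔞.mul_mem_right _ ha, rfl⟩
  · rintro y z ⟨a, ha, rfl⟩ ⟨b, hb, rfl⟩
    exact ⟨a + b, 𝔞.add_mem ha hb, (map_add _ _ _).symm⟩

theorem quot_sat (n : ℕ) (hn : 2 ≤ n) (𝔮 : Ideal k) [𝔮.IsPrime]
    (y : WittVector p k ⧸ Ideal.span {(p : WittVector p k) ^ n})
    (hy : (p : WittVector p k) • y ∈ wIdeal p k 𝔮 •
      (⊤ : Submodule (WittVector p k) (WittVector p k ⧸ Ideal.span {(p : WittVector p k) ^ n}))) :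
    y ∈ (wIdeal p k 𝔮 ⊔ Ideal.span {(p : WittVector p k)}) •
      (⊤ : Submodule (WittVector p k) (WittVector p k ⧸ Ideal.span {(p : WittVector p k) ^ n})) := by
  obtain ⟨w, rfl⟩ := Ideal.Quotient.mk_surjective y
  obtain ⟨a, ha, hwa⟩ := mem_smul_top_quot _ _ _ hy
  have h1 : (p : WittVector p k) * w - a ∈ Ideal.span {(p : WittVector p k) ^ n} := by
    rw [← Ideal.Quotient.eq]
    exact hwa
  obtain ⟨b, hb⟩ := Ideal.mem_span_singleton'.1 h1
  obtain ⟨n', rfl⟩ : ∃ n', n = n' + 2 := ⟨n - 2, by omega⟩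
  have h2 : (p : WittVector p k) * (w - (p : WittVector p k) ^ (n' + 1) * b) = a := by
    have : (p : WittVector p k) * w = a + b * (p : WittVector p k) ^ (n' + 2) := by
      rw [hb]; ring
    rw [mul_sub, this]; ring
  have h3 : w - (p : WittVector p k) ^ (n' + 1) * b ∈ wIdeal p k 𝔮 :=
    mem_wIdeal_of_p_mul_mem 𝔮 _ (by rw [h2]; exact ha)
  have h4 : w ∈ wIdeal p k 𝔮 ⊔ Ideal.span {(p : WittVector p k)} := by
    have : w = (w - (p : WittVector p k) ^ (n' + 1) * b) +
        (p : WittVector p k) * ((p : WittVector p k) ^ n' * b) := by ring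
    rw [this]
    exact Submodule.add_mem_sup h3 (Ideal.mul_mem_right _ _ (Ideal.subset_span rfl))
  have h5 : (Ideal.Quotient.mk (Ideal.span {(p : WittVector p k) ^ (n' + 2)}) w) =
      w • (Ideal.Quotient.mk (Ideal.span {(p : WittVector p k) ^ (n' + 2)}) 1) := by
    show _ = Ideal.Quotient.mk _ (w * 1)
    rw [mul_one]
  rw [h5]
  exact Submodule.smul_mem_smul h4 Submodule.mem_top

/-- `M / VM` is projective for a truncated Dieudonné module of level `n ≥ 2`. -/
theorem projective_quot_V_truncated (n : ℕ) (hn : 2 ≤ n)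
    {M : Type v} [AddCommGroup M] [Module (WittVector p k) M]
    [Module (WittVector p k ⧸ Ideal.span {(p : WittVector p k) ^ n}) M]
    [IsScalarTower (WittVector p k) (WittVector p k ⧸ Ideal.span {(p : WittVector p k) ^ n}) M]
    [Module.Finite (WittVector p k ⧸ Ideal.span {(p : WittVector p k) ^ n}) M]
    [Module.Projective (WittVector p k ⧸ Ideal.span {(p : WittVector p k) ^ n}) M]
    (F : M →ₛₗ[(WittVector.frobenius : WittVector p k →+* WittVector p k)] M)
    (V : M →ₛₗ[((WittVector.frobeniusEquiv p k).symm : WittVector p k →+* WittVector p k)] M)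
    (hFV : ∀ m : M, F (V m) = (p : WittVector p k) • m)
    (hVF : ∀ m : M, V (F m) = (p : WittVector p k) • m) :
    Module.Projective (WittVector p k ⧸ Ideal.span {(p : WittVector p k)})
      ((M ⧸ (Ideal.span {(p : WittVector p k)} • (⊤ : Submodule (WittVector p k) M))) ⧸
        Submodule.span (WittVector p k ⧸ Ideal.span {(p : WittVector p k)})
          (Set.range fun m : M => (Ideal.span {(p : WittVector p k)} •
            (⊤ : Submodule (WittVector p k) M)).mkQ (V m))) := by
  classical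
  have hIJ : Ideal.span {(p : WittVector p k) ^ n} ≤ Ideal.span {(p : WittVector p k)} := by
    rw [Ideal.span_singleton_le_span_singleton]
    exact dvd_pow_self _ (by omega)
  have hfinW : Module.Finite (WittVector p k) M :=
    Module.Finite.trans (WittVector p k ⧸ Ideal.span {(p : WittVector p k) ^ n}) M
  have hfin : Module.Finite (WittVector p k ⧸ Ideal.span {(p : WittVector p k)})
      (M ⧸ (Ideal.span {(p : WittVector p k)} • (⊤ : Submodule (WittVector p k) M))) :=
    Module.Finite.of_restrictScalars_finite (WittVector p k) _ _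
  have hproj : Module.Projective (WittVector p k ⧸ Ideal.span {(p : WittVector p k)})
      (M ⧸ (Ideal.span {(p : WittVector p k)} • (⊤ : Submodule (WittVector p k) M))) :=
    projective_quot_of_projective _ _ hIJ M
  obtain ⟨m, f, hf⟩ := Module.Finite.exists_fin'
    (WittVector p k ⧸ Ideal.span {(p : WittVector p k) ^ n}) M
  obtain ⟨g, hg⟩ := Module.projective_lifting_property f LinearMap.id hf
  have hfg : ∀ x, f (g x) = x := fun x => LinearMap.congr_fun hg x
  refine projective_quot_V F V hFV hVF (fun 𝔮 _ x hx => ?_)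
  rw [← Submodule.sup_smul]
  exact retract_sat (g.restrictScalars (WittVector p k)) (f.restrictScalars (WittVector p k))
    hfg (wIdeal p k 𝔮) _ (p : WittVector p k) (fun y hy => quot_sat n hn 𝔮 y hy) x hx

end Groth.Agent.Lib.Helper19Dieudonne
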