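import Mathlib

/-!
# Lifting idempotent endomorphisms of a finite projective module over an `a`-adically complete
ring (helper19)
-/

set_option autoImplicit false
set_option linter.unusedSectionVars false
universe u v

namespace Groth.Agent.Lib.Helper19IdemLift

section Abstract

variable {B : Type*} [Ring B]

/-- Newton step for `x² - x`. -/
def newton (e : B) : B := 3 * (e * e) - 2 * (e * e * e)

theorem newton_sub (e : B) : newton e - e = (e * e - e) * (1 - 2 * e) := by
  unfold newton; noncomm_ring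

theorem newton_idem (e : B) : newton e * newton e - newton e =
    (e * e - e) * (e * e - e) * (4 * (e * e) - 4 * e - 3) := by
  unfold newton; noncomm_ring

/-- Newton sequence. -/
def seq (e₀ : B) : ℕ → B
  | 0 => e₀
  | n + 1 => newton (seq e₀ n)

theorem seq_spec (c : B) (hc : ∀ b, Commute c b) (e₀ : B) (he₀ : ∃ d, e₀ * e₀ - e₀ = c * d)
    (n : ℕ) : ∃ d, seq e₀ n * seq e₀ n - seq e₀ n = c ^ (n + 1) * d := by
  induction n with
  | zero => simpa [seq] using he₀
  | succ n ih =>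
    obtain ⟨d, hd⟩ := ih
    refine ⟨c ^ n * (d * d * (4 * (seq e₀ n * seq e₀ n) - 4 * seq e₀ n - 3)), ?_⟩
    show newton _ * newton _ - newton _ = _
    rw [newton_idem, hd]
    have h1 : ∀ b, Commute (c ^ (n + 1)) b := fun b => (hc b).pow_left _
    rw [(h1 d).symm.mul_mul_mul_comm, ← pow_add]
    have : n + 1 + (n + 1) = (n + 1 + 1) + n := by omega
    rw [this, pow_add]
    simp only [mul_assoc]

theorem lift_idem (c : B) (hc : ∀ b, Commute c b)
    (hcomplete : ∀ b : ℕ → B, (∀ n, ∃ d, b (n + 1) - b n = c ^ (n + 1) * d) →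
      ∃ b', ∀ n, ∃ d, b' - b n = c ^ (n + 1) * d)
    (hsep : ∀ x : B, (∀ n, ∃ d, x = c ^ n * d) → x = 0)
    (e₀ : B) (he₀ : ∃ d, e₀ * e₀ - e₀ = c * d) :
    ∃ e, e * e = e ∧ ∃ d, e - e₀ = c * d := by
  obtain ⟨e, he⟩ := hcomplete (seq e₀) (fun n => by
    obtain ⟨d, hd⟩ := seq_spec c hc e₀ he₀ n
    refine ⟨d * (1 - 2 * seq e₀ n), ?_⟩
    show newton _ - _ = _
    rw [newton_sub, hd, mul_assoc])
  refine ⟨e, ?_, by simpa [seq] using he 0⟩
  rw [← sub_eq_zero]
  apply hsep
  intro n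
  obtain ⟨u, hu⟩ := he n
  obtain ⟨d, hd⟩ := seq_spec c hc e₀ he₀ n
  have h1 : ∀ b, Commute (c ^ (n + 1)) b := fun b => (hc b).pow_left _
  generalize seq e₀ n = s at hu hd
  have he' : e = s + c ^ (n + 1) * u := by rw [← hu]; abel
  refine ⟨c * (d + s * u + u * s + u * (c ^ (n + 1) * u) - u), ?_⟩
  rw [← mul_assoc, ← pow_succ]
  have h2 : e * e - e = (s * s - s) + s * (c ^ (n + 1) * u) + c ^ (n + 1) * u * s +
      c ^ (n + 1) * u * (c ^ (n + 1) * u) - c ^ (n + 1) * u := by
    rw [he']; noncomm_ring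
  rw [h2, hd, ← mul_assoc s, ← (h1 s).eq]
  simp only [mul_add, mul_sub, mul_assoc]

end Abstract

section Complete

variable {A : Type u} [CommRing A] (a : A) [IsAdicComplete (Ideal.span {a}) A]

theorem mem_pow_smul_top_iff (n : ℕ) (x : A) :
    x ∈ ((Ideal.span {a}) ^ n • ⊤ : Submodule A A) ↔ ∃ d, x = a ^ n * d := by
  rw [smul_eq_mul, Ideal.mul_top, Ideal.span_singleton_pow, Ideal.mem_span_singleton']
  constructor
  · rintro ⟨d, rfl⟩; exact ⟨d, mul_comm _ _⟩
  · rintro ⟨d, rfl⟩; exact ⟨d, mul_comm _ _⟩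

theorem exists_limit (x : ℕ → A) (hx : ∀ n, ∃ d, x (n + 1) - x n = a ^ (n + 1) * d) :
    ∃ y, ∀ n, ∃ d, y - x n = a ^ (n + 1) * d := by
  have hmn : ∀ m k, ∃ d, x (m + k) - x m = a ^ (m + 1) * d := by
    intro m k
    induction k with
    | zero => exact ⟨0, by simp⟩
    | succ k ih =>
      obtain ⟨d, hd⟩ := ih
      obtain ⟨d', hd'⟩ := hx (m + k)
      refine ⟨d + a ^ k * d', ?_⟩
      have : x (m + (k + 1)) - x m = (x (m + k + 1) - x (m + k)) + (x (m + k) - x m) := by
        rw [← add_assoc]; ring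
      rw [this, hd, hd']
      have : m + k + 1 = (m + 1) + k := by omega
      rw [this, pow_add]; ring
  obtain ⟨L, hL⟩ := (inferInstance : IsPrecomplete (Ideal.span {a}) A).prec' x (by
    intro m n hmn'
    obtain ⟨k, rfl⟩ := Nat.exists_eq_add_of_le hmn'
    apply SModEq.symm
    rw [SModEq.sub_mem, mem_pow_smul_top_iff]
    obtain ⟨d, hd⟩ := hmn m k
    exact ⟨a * d, by rw [hd]; ring⟩)
  refine ⟨L, fun n => ?_⟩
  have h1 := (hL (n + 1)).symm
  rw [SModEq.sub_mem, mem_pow_smul_top_iff] at h1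
  obtain ⟨d, hd⟩ := h1
  obtain ⟨d', hd'⟩ := hx n
  refine ⟨d + d', ?_⟩
  have : L - x n = (L - x (n + 1)) + (x (n + 1) - x n) := by ring
  rw [this, hd, hd']; ring

theorem eq_zero_of_forall_dvd (x : A) (hx : ∀ n, ∃ d, x = a ^ n * d) : x = 0 := by
  apply (inferInstance : IsHausdorff (Ideal.span {a}) A).haus' x
  intro n
  rw [SModEq.sub_mem, sub_zero, mem_pow_smul_top_iff]
  exact hx n

variable {M : Type v} [AddCommGroup M] [Module A M]

theorem smul_one_pow_mul (n : ℕ) (d : Module.End A M) :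
    (a • (1 : Module.End A M)) ^ n * d = a ^ n • d := by
  rw [smul_pow, one_pow, smul_mul_assoc, one_mul]

variable [Module.Finite A M] [Module.Projective A M]

theorem end_complete (b : ℕ → Module.End A M)
    (hb : ∀ n, ∃ d, b (n + 1) - b n = (a • (1 : Module.End A M)) ^ (n + 1) * d) :
    ∃ b', ∀ n, ∃ d, b' - b n = (a • (1 : Module.End A M)) ^ (n + 1) * d := by
  classical
  simp only [smul_one_pow_mul] at hb ⊢
  obtain ⟨r, f, hf⟩ := Module.Finite.exists_fin' A M
  obtain ⟨g, hg⟩ := Module.projective_lifting_property f LinearMap.id hf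
  have hfg : ∀ x, f (g x) = x := fun x => LinearMap.congr_fun hg x
  choose d hd using hb
  let X : ℕ → Matrix (Fin r) (Fin r) A := fun n => LinearMap.toMatrix' (g ∘ₗ b n ∘ₗ f)
  have hX : ∀ n, X (n + 1) - X n = a ^ (n + 1) • LinearMap.toMatrix' (g ∘ₗ d n ∘ₗ f) := by
    intro n
    show LinearMap.toMatrix' _ - LinearMap.toMatrix' _ = _
    rw [← map_sub, ← map_smul]
    congr 1
    apply LinearMap.ext
    intro x
    simp only [LinearMap.sub_apply, LinearMap.comp_apply, LinearMap.smul_apply]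
    rw [← map_sub, ← LinearMap.sub_apply, hd, LinearMap.smul_apply, map_smul]
  have hlim : ∀ i j, ∃ y, ∀ n, ∃ c, y - X n i j = a ^ (n + 1) * c := by
    intro i j
    apply exists_limit a (fun n => X n i j)
    intro n
    refine ⟨LinearMap.toMatrix' (g ∘ₗ d n ∘ₗ f) i j, ?_⟩
    have := congrFun (congrFun (hX n) i) j
    simpa [Matrix.sub_apply, Matrix.smul_apply] using this
  choose Y hY using hlim
  choose C hC using hY
  refine ⟨f ∘ₗ Matrix.toLin' (Matrix.of Y) ∘ₗ g, fun n => ?_⟩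
  refine ⟨f ∘ₗ Matrix.toLin' (Matrix.of fun i j => C i j n) ∘ₗ g, ?_⟩
  have hbn : b n = f ∘ₗ Matrix.toLin' (X n) ∘ₗ g := by
    apply LinearMap.ext
    intro x
    show _ = f (Matrix.toLin' (LinearMap.toMatrix' (g ∘ₗ b n ∘ₗ f)) (g x))
    rw [Matrix.toLin'_toMatrix']
    simp only [LinearMap.comp_apply, hfg]
  have hYX : Matrix.of Y - X n = a ^ (n + 1) • Matrix.of fun i j => C i j n := by
    ext i j
    rw [Matrix.sub_apply, Matrix.smul_apply, Matrix.of_apply, Matrix.of_apply, hC, smul_eq_mul]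
  apply LinearMap.ext
  intro x
  conv_lhs => rw [hbn]
  simp only [LinearMap.sub_apply, LinearMap.comp_apply, LinearMap.smul_apply]
  rw [← map_sub, ← LinearMap.sub_apply, ← map_sub, hYX, map_smul, LinearMap.smul_apply, map_smul]

theorem end_sep (x : Module.End A M)
    (hx : ∀ n, ∃ d, x = (a • (1 : Module.End A M)) ^ n * d) : x = 0 := by
  classical
  simp only [smul_one_pow_mul] at hx
  obtain ⟨r, f, hf⟩ := Module.Finite.exists_fin' A M
  obtain ⟨g, hg⟩ := Module.projective_lifting_property f LinearMap.id hf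
  have hfg : ∀ x, f (g x) = x := fun x => LinearMap.congr_fun hg x
  apply LinearMap.ext
  intro m
  rw [LinearMap.zero_apply, ← hfg (x m)]
  have : g (x m) = 0 := by
    ext j
    apply eq_zero_of_forall_dvd a
    intro n
    obtain ⟨d, hd⟩ := hx n
    refine ⟨g (d m) j, ?_⟩
    rw [hd, LinearMap.smul_apply, map_smul, Pi.smul_apply, smul_eq_mul]
  rw [this, map_zero]

theorem exists_smul_eq (φ : Module.End A M) (h : ∀ x, ∃ y, φ x = a • y) :
    ∃ d : Module.End A M, φ = a • d := by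
  let ψ : M →ₗ[A] M := a • LinearMap.id
  have hψ : ∀ x, ψ x = a • x := fun x => rfl
  have hr : ∀ x, φ x ∈ LinearMap.range ψ := by
    intro x
    obtain ⟨y, hy⟩ := h x
    exact ⟨y, by rw [hψ, hy]⟩
  obtain ⟨d, hd⟩ := Module.projective_lifting_property ψ.rangeRestrict
    (φ.codRestrict (LinearMap.range ψ) hr) (LinearMap.surjective_rangeRestrict ψ)
  refine ⟨d, ?_⟩
  apply LinearMap.ext
  intro x
  have := congrArg Subtype.val (LinearMap.congr_fun hd x)
  simp only [LinearMap.comp_apply, LinearMap.codRestrict_apply] at this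
  rw [LinearMap.smul_apply, ← this]
  rfl

/-- Idempotent lifting in `End(M)`. -/
theorem exists_idem_lift (e₀ : Module.End A M) (h : ∀ x, ∃ y, e₀ (e₀ x) - e₀ x = a • y) :
    ∃ e : Module.End A M, e * e = e ∧ ∃ d : Module.End A M, e - e₀ = a • d := by
  obtain ⟨d₀, hd₀⟩ := exists_smul_eq a (e₀ * e₀ - e₀) (fun x => by
    obtain ⟨y, hy⟩ := h x
    exact ⟨y, by rw [← hy]; rfl⟩)
  obtain ⟨e, he, d, hd⟩ := lift_idem (a • (1 : Module.End A M))
    (fun b => by
      rw [Commute, SemiconjBy, smul_mul_assoc, one_mul, mul_smul_comm, mul_one])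
    (end_complete a) (end_sep a) e₀ ⟨d₀, by rw [hd₀, smul_mul_assoc, one_mul]⟩
  exact ⟨e, he, d, by rw [hd, smul_mul_assoc, one_mul]⟩

end Complete

end Groth.Agent.Lib.Helper19IdemLift
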