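import Mathlib
import Groth.Prelude.Def_W4c1extbt610Disp
import Groth.Agent.Lib.Helper19DieudonneB
import Groth.Agent.Lib.Helper19IdemLift

/-!
# A Dieudonné module over a perfect ring is a 3n-display (helper19)
-/

set_option autoImplicit false
set_option linter.unusedSectionVars false
universe u v

namespace Groth.Agent.Lib.Helper19Dieudonne

open WittVector

variable {p : ℕ} [hp : Fact p.Prime] {k : Type u} [CommRing k] [CharP k p] [PerfectRing k p]
  {M : Type v} [AddCommGroup M] [Module (WittVector p k) M]
  (F : M →ₛₗ[(WittVector.frobenius : WittVector p k →+* WittVector p k)] M)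
  (V : M →ₛₗ[((WittVector.frobeniusEquiv p k).symm : WittVector p k →+* WittVector p k)] M)

theorem verschiebung_eq (w : WittVector p k) :
    verschiebung w = (frobeniusEquiv p k).symm w * p := by
  rw [← verschiebung_frobenius, ← WittVector.frobeniusEquiv_apply, RingEquiv.apply_symm_apply]

theorem IV_eq : W4c1extbt610.IV p k = Ideal.span {(p : WittVector p k)} := by
  apply le_antisymm
  · rw [W4c1extbt610.IV, Ideal.span_le]
    rintro _ ⟨w, rfl⟩
    rw [verschiebung_eq]
    exact Ideal.mul_mem_left _ _ (Ideal.subset_span rfl)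
  · rw [Ideal.span_le, Set.singleton_subset_iff]
    have : (p : WittVector p k) = verschiebung (frobenius 1) := by
      rw [verschiebung_frobenius, one_mul]
    rw [this]; exact W4c1extbt610.verschiebung_mem_IV p k _

/-- The range of `V` as a submodule. -/
def rangeV : Submodule (WittVector p k) M where
  carrier := Set.range V
  add_mem' := by rintro _ _ ⟨a, rfl⟩ ⟨b, rfl⟩; exact ⟨a + b, map_add V a b⟩
  zero_mem' := ⟨0, map_zero V⟩
  smul_mem' := by rintro w _ ⟨a, rfl⟩; exact ⟨frobenius w • a, V_frobenius_smul V w a⟩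

theorem mem_rangeV (x : M) : x ∈ rangeV V ↔ ∃ m, V m = x := Iff.rfl

theorem mem_spanV (y : M ⧸ (Ideal.span {(p : WittVector p k)} • (⊤ : Submodule (WittVector p k) M)))
    (hy : y ∈ Submodule.span (WittVector p k ⧸ Ideal.span {(p : WittVector p k)})
      (Set.range fun m : M => (Ideal.span {(p : WittVector p k)} •
        (⊤ : Submodule (WittVector p k) M)).mkQ (V m))) :
    ∃ m : M, y = (Ideal.span {(p : WittVector p k)} •
        (⊤ : Submodule (WittVector p k) M)).mkQ (V m) := by
  induction hy using Submodule.span_induction with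
  | mem y hy =>
    obtain ⟨m, rfl⟩ := hy
    exact ⟨m, rfl⟩
  | zero => exact ⟨0, by simp⟩
  | add y z _ _ hy hz =>
    obtain ⟨m, rfl⟩ := hy
    obtain ⟨m', rfl⟩ := hz
    exact ⟨m + m', by simp⟩
  | smul r y _ hy =>
    obtain ⟨m, rfl⟩ := hy
    obtain ⟨w, rfl⟩ := Ideal.Quotient.mk_surjective r
    refine ⟨frobenius w • m, ?_⟩
    rw [V_frobenius_smul]
    rfl

section

variable [Module.Finite (WittVector p k) M] [Module.Projective (WittVector p k) M]

theorem p_torsion_free (x : M) (hx : (p : WittVector p k) • x = 0) : x = 0 :=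
  eq_zero_of_smul_eq_zero (p : WittVector p k)
    (fun w hw => WittVector.eq_zero_of_p_mul_eq_zero w (by rwa [mul_comm])) x hx

theorem V_injective (hFV : ∀ m : M, F (V m) = (p : WittVector p k) • m) :
    Function.Injective V := by
  intro x y hxy
  have : (p : WittVector p k) • (x - y) = 0 := by
    rw [smul_sub, ← hFV, ← hFV, hxy, sub_self]
  exact sub_eq_zero.1 (p_torsion_free _ this)

theorem p_smul_top_le_rangeV (hVF : ∀ m : M, V (F m) = (p : WittVector p k) • m) :
    Ideal.span {(p : WittVector p k)} • (⊤ : Submodule (WittVector p k) M) ≤ rangeV V := by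
  intro x hx
  rw [mem_p_smul_top_iff] at hx
  obtain ⟨y, rfl⟩ := hx
  exact ⟨F y, hVF y⟩

/-- The inverse of `V` on its range. -/
noncomputable def VinvMap (hFV : ∀ m : M, F (V m) = (p : WittVector p k) • m) :
    rangeV V →ₛₗ[(WittVector.frobenius : WittVector p k →+* WittVector p k)] M where
  toFun x := Classical.choose ((mem_rangeV V x).1 x.2)
  map_add' x y := by
    apply V_injective F V hFV
    rw [map_add, Classical.choose_spec ((mem_rangeV V x).1 x.2),
      Classical.choose_spec ((mem_rangeV V y).1 y.2),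
      Classical.choose_spec ((mem_rangeV V (x + y)).1 (x + y).2)]
  map_smul' w x := by
    apply V_injective F V hFV
    rw [V_frobenius_smul, Classical.choose_spec ((mem_rangeV V x).1 x.2),
      Classical.choose_spec ((mem_rangeV V (w • x)).1 (w • x).2)]

theorem V_VinvMap (hFV : ∀ m : M, F (V m) = (p : WittVector p k) • m) (q : rangeV V) :
    V (VinvMap F V hFV q) = q :=
  Classical.choose_spec ((mem_rangeV V q).1 q.2)

theorem VinvMap_V (hFV : ∀ m : M, F (V m) = (p : WittVector p k) • m) (m : M)
    (h : V m ∈ rangeV V) : VinvMap F V hFV ⟨V m, h⟩ = m :=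
  V_injective F V hFV (V_VinvMap F V hFV ⟨V m, h⟩)

theorem projective_quot_V' (hFV : ∀ m : M, F (V m) = (p : WittVector p k) • m)
    (hVF : ∀ m : M, V (F m) = (p : WittVector p k) • m) :
    Module.Projective (WittVector p k ⧸ Ideal.span {(p : WittVector p k)})
      ((M ⧸ (Ideal.span {(p : WittVector p k)} • (⊤ : Submodule (WittVector p k) M))) ⧸
        Submodule.span (WittVector p k ⧸ Ideal.span {(p : WittVector p k)})
          (Set.range fun m : M => (Ideal.span {(p : WittVector p k)} •
            (⊤ : Submodule (WittVector p k) M)).mkQ (V m))) := by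
  have hfin : Module.Finite (WittVector p k ⧸ Ideal.span {(p : WittVector p k)})
      (M ⧸ (Ideal.span {(p : WittVector p k)} • (⊤ : Submodule (WittVector p k) M))) :=
    Module.Finite.of_restrictScalars_finite (WittVector p k) _ _
  have hproj : Module.Projective (WittVector p k ⧸ Ideal.span {(p : WittVector p k)})
      (M ⧸ (Ideal.span {(p : WittVector p k)} • (⊤ : Submodule (WittVector p k) M))) :=
    Module.Projective.of_equiv
      ((TensorProduct.quotTensorEquivQuotSMul M
        (Ideal.span {(p : WittVector p k)})).extendScalarsOfSurjective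
          Ideal.Quotient.mk_surjective)
  exact projective_quot_V F V hFV hVF (fun 𝔮 _ x hx =>
    Submodule.mem_sup_left (mem_smul_top_of_smul_mem _ (p : WittVector p k)
      (fun w hw => mem_wIdeal_of_p_mul_mem 𝔮 w hw) x hx))

/-- Existence of a normal decomposition. -/
theorem exists_normal (hFV : ∀ m : M, F (V m) = (p : WittVector p k) • m)
    (hVF : ∀ m : M, V (F m) = (p : WittVector p k) • m) :
    ∃ L T : Submodule (WittVector p k) M, IsCompl L T ∧
      rangeV V = L ⊔ Ideal.span {(p : WittVector p k)} • T := by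
  classical
  have hproj := projective_quot_V' F V hFV hVF
  have hKmem := mem_spanV (M := M) V
  set pW : Ideal (WittVector p k) := Ideal.span {(p : WittVector p k)} with hpW
  set pM : Submodule (WittVector p k) M := pW • (⊤ : Submodule (WittVector p k) M) with hpM
  set K : Submodule (WittVector p k ⧸ pW) (M ⧸ pM) :=
    Submodule.span (WittVector p k ⧸ pW) (Set.range fun m : M => pM.mkQ (V m)) with hKdef
  obtain ⟨s, hs⟩ := Module.projective_lifting_property K.mkQ LinearMap.id
    (Submodule.mkQ_surjective K)
  have hs' : ∀ y, K.mkQ (s y) = y := fun y => LinearMap.congr_fun hs y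
  let ebar : (M ⧸ pM) →ₗ[WittVector p k ⧸ pW] (M ⧸ pM) := s ∘ₗ K.mkQ
  have hebar : ∀ y, ebar y = s (K.mkQ y) := fun y => rfl
  have hebar_idem : ∀ y, ebar (ebar y) = ebar y := by
    intro y
    rw [hebar, hebar, hs']
  have hebar_ker : ∀ y, ebar y = 0 ↔ y ∈ K := by
    intro y
    constructor
    · intro h
      have := congrArg K.mkQ h
      rw [hebar, hs', map_zero] at this
      rwa [Submodule.mkQ_apply, Submodule.Quotient.mk_eq_zero] at this
    · intro h
      rw [hebar, Submodule.mkQ_apply, (Submodule.Quotient.mk_eq_zero K).2 h, map_zero]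
  obtain ⟨e₀, he₀⟩ := Module.projective_lifting_property pM.mkQ
    ((ebar.restrictScalars (WittVector p k)) ∘ₗ pM.mkQ) (Submodule.mkQ_surjective pM)
  have he₀' : ∀ x, pM.mkQ (e₀ x) = ebar (pM.mkQ x) := fun x => LinearMap.congr_fun he₀ x
  obtain ⟨e, he, d, hd⟩ := Groth.Agent.Lib.Helper19IdemLift.exists_idem_lift
    (p : WittVector p k) e₀ (fun x => by
      have : e₀ (e₀ x) - e₀ x ∈ pM := by
        rw [← Submodule.Quotient.mk_eq_zero, ← Submodule.mkQ_apply, map_sub, he₀', he₀',
          hebar_idem, sub_self]
      exact (mem_p_smul_top_iff _).1 this)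
  have hee : ∀ x, e (e x) = e x := fun x => by rw [← Module.End.mul_apply, he]
  have hemk : ∀ x, pM.mkQ (e x) = ebar (pM.mkQ x) := by
    intro x
    have h1 : e x = e₀ x + (p : WittVector p k) • d x := by
      have := LinearMap.congr_fun hd x
      rw [LinearMap.sub_apply, LinearMap.smul_apply] at this
      rw [← this]; abel
    rw [h1, map_add, he₀']
    have : pM.mkQ ((p : WittVector p k) • d x) = 0 := by
      rw [Submodule.mkQ_apply, Submodule.Quotient.mk_eq_zero]
      exact (mem_p_smul_top_iff _).2 ⟨_, rfl⟩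
    rw [this, add_zero]
  refine ⟨LinearMap.ker e, LinearMap.range e,
    (LinearMap.IsIdempotentElem.isCompl he).symm, ?_⟩
  apply le_antisymm
  · rintro x ⟨m, rfl⟩
    have h1 : V m = (V m - e (V m)) + e (V m) := by abel
    rw [h1]
    refine Submodule.add_mem_sup ?_ ?_
    · rw [LinearMap.mem_ker, map_sub, hee, sub_self]
    · have h2 : e (V m) ∈ pM := by
        rw [← Submodule.Quotient.mk_eq_zero, ← Submodule.mkQ_apply, hemk, hebar_ker]
        exact Submodule.subset_span ⟨m, rfl⟩
      obtain ⟨y, hy⟩ := (mem_p_smul_top_iff _).1 h2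
      rw [← hee, hy, map_smul]
      exact Submodule.smul_mem_smul (Ideal.subset_span rfl) ⟨y, rfl⟩
  · rw [sup_le_iff]
    constructor
    · intro x hx
      rw [LinearMap.mem_ker] at hx
      have h1 : pM.mkQ x ∈ K := by rw [← hebar_ker, ← hemk, hx, map_zero]
      obtain ⟨m, hm⟩ := hKmem _ h1
      have h2 : x - V m ∈ pM := by
        rw [← Submodule.Quotient.mk_eq_zero, ← Submodule.mkQ_apply, map_sub, hm, sub_self]
      obtain ⟨y, hy⟩ := (mem_p_smul_top_iff _).1 h2
      refine ⟨m + F y, ?_⟩
      rw [map_add, hVF, ← hy]; abel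
    · exact le_trans (Submodule.smul_mono le_rfl le_top) (p_smul_top_le_rangeV F V hVF)

end

end Groth.Agent.Lib.Helper19Dieudonne
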