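import Mathlib

/-!
# The different ideal commutes with localization (helper19)
-/

set_option autoImplicit false

open nonZeroDivisors FractionalIdeal

namespace Groth.Agent.Lib.Helper19DiffLoc

section TraceDual

variable {A B K L Aₛ Bₛ : Type*} [CommRing A] [CommRing B] [Field K] [Field L]
  [CommRing Aₛ] [CommRing Bₛ]
  [Algebra A B] [Algebra A K] [Algebra B L] [Algebra K L] [Algebra A L]
  [IsScalarTower A K L] [IsScalarTower A B L]
  [Algebra A Aₛ] [Algebra B Bₛ] [Algebra Aₛ Bₛ] [Algebra A Bₛ]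
  [IsScalarTower A Aₛ Bₛ] [IsScalarTower A B Bₛ]
  [Algebra Aₛ K] [Algebra Bₛ L] [Algebra Aₛ L]
  [IsScalarTower Aₛ K L] [IsScalarTower Aₛ Bₛ L]
  [IsScalarTower A Aₛ K] [IsScalarTower B Bₛ L]
  (S : Submonoid A) [IsLocalization S Aₛ] [IsLocalization (Algebra.algebraMapSubmonoid B S) Bₛ]

include S in
theorem traceDual_le (x : L) (hx : x ∈ Submodule.traceDual A K (1 : Submodule B L)) :
    x ∈ Submodule.traceDual Aₛ K (1 : Submodule Bₛ L) := by
  rw [Submodule.mem_traceDual] at hx ⊢
  intro y hy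
  obtain ⟨c, rfl⟩ := Submodule.mem_one.mp hy
  obtain ⟨⟨b, ⟨s', s, hs, rfl⟩⟩, hc⟩ := IsLocalization.surj (Algebra.algebraMapSubmonoid B S) c
  simp only at hc
  obtain ⟨a, ha⟩ := hx (algebraMap B L b) (Submodule.mem_one.mpr ⟨b, rfl⟩)
  obtain ⟨u, hu⟩ := (IsLocalization.map_units Aₛ (⟨s, hs⟩ : S)).exists_right_inv
  simp only at hu
  have h1 : algebraMap Bₛ L c * algebraMap K L (algebraMap A K s) = algebraMap B L b := by
    rw [← IsScalarTower.algebraMap_apply A K L, IsScalarTower.algebraMap_apply A B L,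
      IsScalarTower.algebraMap_apply B Bₛ L, ← map_mul, hc, ← IsScalarTower.algebraMap_apply]
  have h2 : Algebra.traceForm K L x (algebraMap Bₛ L c) * algebraMap A K s = algebraMap A K a := by
    rw [ha, Algebra.traceForm_apply, Algebra.traceForm_apply, ← h1, mul_comm _ (algebraMap A K s),
      ← smul_eq_mul, ← map_smul, Algebra.smul_def]
    congr 1
    ring
  have h3 : algebraMap A K s * algebraMap Aₛ K u = 1 := by
    rw [IsScalarTower.algebraMap_apply A Aₛ K, ← map_mul, hu, map_one]
  refine ⟨algebraMap A Aₛ a * u, ?_⟩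
  rw [map_mul, ← IsScalarTower.algebraMap_apply A Aₛ K, ← h2, mul_assoc, h3, mul_one]

include S in
theorem traceDual_ge [Module.Finite A B] (x : L)
    (hx : x ∈ Submodule.traceDual Aₛ K (1 : Submodule Bₛ L)) :
    x ∈ Submodule.span Bₛ (Submodule.traceDual A K (1 : Submodule B L) : Set L) := by
  classical
  rw [Submodule.mem_traceDual] at hx
  obtain ⟨T, hT⟩ := (Module.Finite.fg_top : (⊤ : Submodule A B).FG)
  have h1 : ∀ b : B, ∃ t : Aₛ,
      algebraMap Aₛ K t = Algebra.traceForm K L x (algebraMap B L b) := by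
    intro b
    exact hx _ (Submodule.mem_one.mpr
      ⟨algebraMap B Bₛ b, (IsScalarTower.algebraMap_apply B Bₛ L b).symm⟩)
  choose t ht using h1
  obtain ⟨s, hs⟩ := IsLocalization.exist_integer_multiples_of_finset S (T.image t)
  set z := algebraMap A L s * x with hz
  have hzmem : z ∈ Submodule.traceDual A K (1 : Submodule B L) := by
    rw [Submodule.mem_traceDual]
    intro y hy
    obtain ⟨b, rfl⟩ := Submodule.mem_one.mp hy
    have hb : b ∈ Submodule.span A (T : Set B) := by
      rw [hT]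
      trivial
    refine Submodule.span_induction (p := fun b _ =>
      Algebra.traceForm K L z (algebraMap B L b) ∈ (algebraMap A K).range) ?_ ?_ ?_ ?_ hb
    · intro b hbT
      obtain ⟨a', ha'⟩ := hs (t b) (Finset.mem_image_of_mem t hbT)
      refine ⟨a', ?_⟩
      rw [IsScalarTower.algebraMap_apply A Aₛ K, ha', Algebra.smul_def,
        map_mul (algebraMap Aₛ K), ht, ← IsScalarTower.algebraMap_apply A Aₛ K,
        Algebra.traceForm_apply, Algebra.traceForm_apply, hz,
        IsScalarTower.algebraMap_apply A K L, mul_assoc,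
        ← Algebra.smul_def (algebraMap A K (s : A)), map_smul, smul_eq_mul]
    · rw [map_zero, map_zero]
      exact ⟨0, map_zero _⟩
    · intro b₁ b₂ _ _ h₁ h₂
      rw [map_add, map_add]
      exact Subring.add_mem _ h₁ h₂
    · intro a b' _ hb'
      obtain ⟨a', ha'⟩ := hb'
      refine ⟨a * a', ?_⟩
      rw [map_mul (algebraMap A K), ha', Algebra.smul_def a b', map_mul (algebraMap B L),
        ← IsScalarTower.algebraMap_apply A B L,
        IsScalarTower.algebraMap_apply A K L, ← Algebra.smul_def (algebraMap A K a),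
        map_smul, smul_eq_mul]
  obtain ⟨c, hc⟩ := (IsLocalization.map_units Bₛ
    (⟨algebraMap A B s, ⟨s, s.2, rfl⟩⟩ : Algebra.algebraMapSubmonoid B S)).exists_left_inv
  simp only at hc
  have hx2 : x = c • z := by
    rw [Algebra.smul_def, hz, ← mul_assoc, IsScalarTower.algebraMap_apply A B L,
      IsScalarTower.algebraMap_apply B Bₛ L, ← map_mul, hc, map_one, one_mul]
  rw [hx2]
  exact Submodule.smul_mem _ _ (Submodule.subset_span hzmem)

end TraceDual

section Main

variable {A B K Aₛ Bₛ : Type*} {L : Type*} [CommRing A] [CommRing B] [Field K] [Field L]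
  [CommRing Aₛ] [CommRing Bₛ]
  [Algebra A B] [Algebra A K] [Algebra B L] [Algebra K L] [Algebra A L]
  [IsScalarTower A K L] [IsScalarTower A B L]
  [Algebra A Aₛ] [Algebra B Bₛ] [Algebra Aₛ Bₛ] [Algebra A Bₛ]
  [IsScalarTower A Aₛ Bₛ] [IsScalarTower A B Bₛ]
  [Algebra Aₛ K] [Algebra Bₛ L] [Algebra Aₛ L]
  [IsScalarTower Aₛ K L] [IsScalarTower Aₛ Bₛ L]
  [IsScalarTower A Aₛ K] [IsScalarTower B Bₛ L]
  (S : Submonoid A) [IsLocalization S Aₛ] [IsLocalization (Algebra.algebraMapSubmonoid B S) Bₛ]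
  [IsDomain A] [IsFractionRing A K] [FiniteDimensional K L] [Algebra.IsSeparable K L]
  [IsIntegralClosure B A L] [IsIntegrallyClosed A] [IsDedekindDomain B]
  [Module.IsTorsionFree A B] [IsFractionRing B L]
  [IsDomain Aₛ] [IsFractionRing Aₛ K] [IsIntegralClosure Bₛ Aₛ L] [IsIntegrallyClosed Aₛ]
  [IsDedekindDomain Bₛ] [Module.IsTorsionFree Aₛ Bₛ] [IsFractionRing Bₛ L]

omit [IsDedekindDomain B] [IsDedekindDomain Bₛ] in
theorem map_eq_id (hf : B⁰ ≤ Submonoid.comap (algebraMap B Bₛ) Bₛ⁰) :
    IsLocalization.map (S := L) L (algebraMap B Bₛ) hf = RingHom.id L := by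
  apply IsLocalization.ringHom_ext B⁰
  ext b
  simp only [RingHom.coe_comp, Function.comp_apply, RingHom.id_apply]
  rw [IsLocalization.map_eq, ← IsScalarTower.algebraMap_apply]

include S in
theorem extended_dual_one [Module.Finite A B]
    (hf : B⁰ ≤ Submonoid.comap (algebraMap B Bₛ) Bₛ⁰) :
    (FractionalIdeal.dual A K (1 : FractionalIdeal B⁰ L)).extended L hf =
      FractionalIdeal.dual Aₛ K (1 : FractionalIdeal Bₛ⁰ L) := by
  rw [← FractionalIdeal.coeToSubmodule_inj]
  rw [coe_extended_eq_span, coe_dual_one, map_eq_id hf]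
  apply le_antisymm
  · rw [Submodule.span_le]
    rintro _ ⟨x, hx, rfl⟩
    have hx' : x ∈ Submodule.traceDual A K (1 : Submodule B L) := by
      rw [← coe_dual_one]
      exact hx
    exact traceDual_le S x hx'
  · intro x hx
    refine Submodule.span_mono ?_ (traceDual_ge (A := A) (B := B) S x hx)
    intro y hy
    refine ⟨y, ?_, rfl⟩
    have hy' : y ∈ (FractionalIdeal.dual A K (1 : FractionalIdeal B⁰ L) : Submodule B L) := by
      rw [coe_dual_one]
      exact hy
    exact hy'

variable (K L) in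
include S K L in
theorem map_differentIdeal_eq [Module.Finite A B]
    (hf : B⁰ ≤ Submonoid.comap (algebraMap B Bₛ) Bₛ⁰) :
    Ideal.map (algebraMap B Bₛ) (differentIdeal A B) = differentIdeal Aₛ Bₛ := by
  rw [← FractionalIdeal.coeIdeal_inj (K := L)]
  rw [coeIdeal_differentIdeal Aₛ K L Bₛ, ← extended_dual_one (A := A) (K := K) S hf,
    ← extended_coeIdeal_eq_map (M := B⁰) (K := L) L hf, coeIdeal_differentIdeal A K L B]
  exact map_inv₀ (extendedHom' (K := L) L hf) _

end Main

end Groth.Agent.Lib.Helper19DiffLoc
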