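import Groth.Agent.Lib.Helper19DiffSmoothRetr
import Groth.Agent.Lib.Helper19DiagDescent
import Groth.Agent.Lib.Helper19CharZeroSmooth

/-!
# Differential smoothness is stable under base change (helper19)
-/

set_option autoImplicit false
set_option linter.style.haveILetI false
set_option linter.unusedSectionVars false
universe u

namespace Groth.Agent.Lib.Helper19.DiffSmoothBC

open TensorProduct KaehlerDifferential
  Groth.Agent.Lib.Helper19.SymGr Groth.Agent.Lib.Helper19.SymDiag
  Groth.Agent.Lib.Helper19.QRegDiag Groth.Agent.Lib.Helper19.DiagDescent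
  Groth.Agent.Lib.Helper19.DiffSmoothRetr

variable (A B A' B' : Type u) [CommRing A] [CommRing B] [Algebra A B]
  [CommRing A'] [CommRing B'] [Algebra A' B'] [Algebra A A'] [Algebra B B'] [Algebra A B']
  [IsScalarTower A A' B'] [IsScalarTower A B B'] [Algebra.IsPushout A B A' B']

/-- `B' ⊗_B (B ⊗_A B) ≃ B' ⊗_{A'} B'` -/
noncomputable def bcEquiv : B' ⊗[B] (B ⊗[A] B) ≃ₗ[B'] B' ⊗[A'] B' :=
  haveI : Algebra.IsPushout A A' B B' := Algebra.IsPushout.symm inferInstance
  (TensorProduct.AlgebraTensorModule.cancelBaseChange A B B' B' B) ≪≫ₗ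
    (TensorProduct.AlgebraTensorModule.cancelBaseChange A A' B' B' B).symm ≪≫ₗ
    TensorProduct.AlgebraTensorModule.congr (LinearEquiv.refl B' B')
      (Algebra.IsPushout.equiv A A' B B').toLinearEquiv

theorem bcEquiv_tmul (b' : B') (x : B ⊗[A] B) :
    bcEquiv A B A' B' (b' ⊗ₜ[B] x) = b' • rho A B A' B' x := by
  haveI : Algebra.IsPushout A A' B B' := Algebra.IsPushout.symm inferInstance
  induction x using TensorProduct.induction_on with
  | zero => simp
  | tmul b₁ b₂ =>
    rw [rho_tmul]
    simp only [bcEquiv, LinearEquiv.trans_apply,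
      TensorProduct.AlgebraTensorModule.cancelBaseChange_tmul,
      TensorProduct.AlgebraTensorModule.cancelBaseChange_symm_tmul,
      TensorProduct.AlgebraTensorModule.congr_tmul, LinearEquiv.refl_apply,
      AlgEquiv.toLinearEquiv_apply, Algebra.IsPushout.equiv_tmul, map_one, one_mul]
    rw [TensorProduct.smul_tmul', Algebra.smul_def, smul_eq_mul, mul_comm]
  | add x y hx hy => rw [TensorProduct.tmul_add, map_add, map_add, smul_add, hx, hy]

theorem bcEquiv_symm_rho (x : B ⊗[A] B) :
    (bcEquiv A B A' B').symm (rho A B A' B' x) = (1 : B') ⊗ₜ[B] x := by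
  rw [LinearEquiv.symm_apply_eq, bcEquiv_tmul, one_smul]

/-- every element of `B' ⊗ B'` is a `B'`-combination of images of elements of `B ⊗ B` -/
theorem induction_rho {P : B' ⊗[A'] B' → Prop} (h0 : P 0)
    (hmem : ∀ (b' : B') (x : B ⊗[A] B), P (b' • rho A B A' B' x))
    (hadd : ∀ y z, P y → P z → P (y + z)) (y : B' ⊗[A'] B') : P y := by
  obtain ⟨t, rfl⟩ := (bcEquiv A B A' B').surjective y
  induction t using TensorProduct.induction_on with
  | zero => rw [map_zero]; exact h0
  | tmul b' x => rw [bcEquiv_tmul]; exact hmem b' x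
  | add t s ht hs => rw [map_add]; exact hadd _ _ ht hs

theorem map_rho_le_span (J : Ideal (B ⊗[A] B)) :
    (Ideal.map (rho A B A' B') J).restrictScalars B' ≤
      Submodule.span B' ((rho A B A' B') '' (J : Set (B ⊗[A] B))) := by
  intro y hy
  have key : ∀ y ∈ Ideal.map (rho A B A' B') J, ∀ s : B' ⊗[A'] B',
      s * y ∈ Submodule.span B' ((rho A B A' B') '' (J : Set (B ⊗[A] B))) := by
    intro y hy
    induction hy using Submodule.span_induction with
    | mem y hy =>
      obtain ⟨x, hx, rfl⟩ := hy
      intro s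
      induction s using induction_rho A B A' B' with
      | h0 => rw [zero_mul]; exact Submodule.zero_mem _
      | hmem b' x₁ =>
        rw [smul_mul_assoc, ← map_mul]
        exact Submodule.smul_mem _ _ (Submodule.subset_span ⟨x₁ * x, J.mul_mem_left _ hx, rfl⟩)
      | hadd s t hs ht => rw [add_mul]; exact Submodule.add_mem _ hs ht
    | zero => intro s; rw [mul_zero]; exact Submodule.zero_mem _
    | add y z _ _ hy hz => intro s; rw [mul_add]; exact Submodule.add_mem _ (hy s) (hz s)
    | smul a y _ hy => intro s; rw [smul_eq_mul, ← mul_assoc]; exact hy (s * a)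
  have := key y hy 1
  rwa [one_mul] at this

theorem ideal_le_map_rho :
    KaehlerDifferential.ideal A' B' ≤ Ideal.map (rho A B A' B') (KaehlerDifferential.ideal A B) := by
  haveI : Algebra.IsPushout A A' B B' := Algebra.IsPushout.symm inferInstance
  have hbc : IsBaseChange A' (IsScalarTower.toAlgHom A B B').toLinearMap :=
    Algebra.IsPushout.out
  rw [← KaehlerDifferential.span_range_eq_ideal, Ideal.span_le]
  rintro _ ⟨b', rfl⟩
  induction b' using hbc.inductionOn with
  | zero => simp
  | tmul b =>
    beta_reduce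
    have : (1 : B') ⊗ₜ[A'] (IsScalarTower.toAlgHom A B B').toLinearMap b -
        (IsScalarTower.toAlgHom A B B').toLinearMap b ⊗ₜ[A'] (1 : B') =
        rho A B A' B' ((1 : B) ⊗ₜ[A] b - b ⊗ₜ[A] (1 : B)) := by
      rw [map_sub, rho_tmul, rho_tmul, map_one]
      rfl
    rw [this]
    exact Ideal.mem_map_of_mem _ (KaehlerDifferential.one_smul_sub_smul_one_mem_ideal A b)
  | smul a' b' hb' =>
    beta_reduce at hb' ⊢
    have : (1 : B') ⊗ₜ[A'] (a' • b') - (a' • b') ⊗ₜ[A'] (1 : B') =
        a' • ((1 : B') ⊗ₜ[A'] b' - b' ⊗ₜ[A'] (1 : B')) := by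
      rw [smul_sub, TensorProduct.tmul_smul a' (1 : B') b', TensorProduct.smul_tmul' a' b' (1 : B')]
    rw [this, Algebra.smul_def]
    exact Ideal.mul_mem_left _ _ hb'
  | add x y hx hy =>
    beta_reduce at hx hy ⊢
    have : (1 : B') ⊗ₜ[A'] (x + y) - (x + y) ⊗ₜ[A'] (1 : B') =
        ((1 : B') ⊗ₜ[A'] x - x ⊗ₜ[A'] (1 : B')) + ((1 : B') ⊗ₜ[A'] y - y ⊗ₜ[A'] (1 : B')) := by
      rw [TensorProduct.tmul_add, TensorProduct.add_tmul]; abel
    rw [this]
    exact Ideal.add_mem _ hx hy

theorem pow_ideal_le_span (n : ℕ) :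
    (KaehlerDifferential.ideal A' B' ^ n).restrictScalars B' ≤
      Submodule.span B' ((rho A B A' B') '' ((KaehlerDifferential.ideal A B ^ n : Ideal _) :
        Set (B ⊗[A] B))) := by
  refine le_trans ?_ (map_rho_le_span A B A' B' (KaehlerDifferential.ideal A B ^ n))
  intro y hy
  change y ∈ Ideal.map (rho A B A' B') (KaehlerDifferential.ideal A B ^ n)
  rw [Ideal.map_pow]
  exact Ideal.pow_right_mono (ideal_le_map_rho A B A' B') n hy

/-- the map on cotangent modules -/
noncomputable def betaC : (KaehlerDifferential.ideal A B).Cotangent →ₗ[B]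
    (KaehlerDifferential.ideal A' B').Cotangent :=
  { toFun := fun v => (KaehlerDifferential.map A A' B B' (kOfCot A B v) : Ω[B'⁄A'])
    map_add' := fun a b => by rw [map_add, map_add]; rfl
    map_smul' := fun c v => by rw [map_smul, map_smul]; rfl }

theorem betaC_toCotangent (x : KaehlerDifferential.ideal A B) :
    betaC A B A' B' ((KaehlerDifferential.ideal A B).toCotangent x) =
      (KaehlerDifferential.ideal A' B').toCotangent ⟨rho A B A' B' x, rho_mem A B A' B' x x.2⟩ :=
  map_toK A B A' B' x

/-- the classes of the `ρ x` span the cotangent module of `B'` -/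
theorem span_xi (v : (KaehlerDifferential.ideal A' B').Cotangent) :
    v ∈ Submodule.span B' (Set.range fun x : KaehlerDifferential.ideal A B =>
      (KaehlerDifferential.ideal A' B').toCotangent
        ⟨rho A B A' B' x, rho_mem A B A' B' x x.2⟩) := by
  have hbc := isBaseChange_map A B A' B'
  have key : ∀ ω : Ω[B'⁄A'], cotOfK A' B' ω ∈ Submodule.span B'
      (Set.range fun x : KaehlerDifferential.ideal A B =>
        (KaehlerDifferential.ideal A' B').toCotangent
          ⟨rho A B A' B' x, rho_mem A B A' B' x x.2⟩) := by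
    intro ω
    induction ω using hbc.inductionOn with
    | zero => rw [map_zero]; exact Submodule.zero_mem _
    | tmul ω₀ =>
      obtain ⟨x, rfl⟩ := Ideal.toCotangent_surjective _ (cotOfK A B ω₀)
      exact Submodule.subset_span ⟨x, (map_toK A B A' B' x).symm⟩
    | smul b' ω h => rw [map_smul]; exact Submodule.smul_mem _ _ h
    | add ω₁ ω₂ h₁ h₂ => rw [map_add]; exact Submodule.add_mem _ h₁ h₂
  exact key (kOfCot A' B' v)

variable (κ : Type u) [Fintype κ]

/-- the semilinear comparison of symmetric powers -/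
noncomputable def C0 : SymmetricPower B κ (KaehlerDifferential.ideal A B).Cotangent →+
    SymmetricPower B' κ (KaehlerDifferential.ideal A' B').Cotangent :=
  (Groth.Agent.Lib.Helper19.SymPow.compDown (B := B) (R := B') (ι := κ)
      (M := (KaehlerDifferential.ideal A' B').Cotangent)).comp
    (Groth.Agent.Lib.Helper19.SymPow.map (ι := κ) (betaC A B A' B')).toAddMonoidHom

theorem C0_apply (y : SymmetricPower B κ (KaehlerDifferential.ideal A B).Cotangent) :
    C0 A B A' B' κ y = Groth.Agent.Lib.Helper19.SymPow.compDown (B := B) (R := B') (ι := κ)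
      (M := (KaehlerDifferential.ideal A' B').Cotangent)
      (Groth.Agent.Lib.Helper19.SymPow.map (ι := κ) (betaC A B A' B') y) := rfl

theorem C0_tprod (x : κ → KaehlerDifferential.ideal A B) :
    C0 A B A' B' κ (SymmetricPower.tprod B
      (fun i => (KaehlerDifferential.ideal A B).toCotangent (x i))) =
    SymmetricPower.tprod B' (fun i => (KaehlerDifferential.ideal A' B').toCotangent
      ⟨rho A B A' B' (x i), rho_mem A B A' B' (x i) (x i).2⟩) := by
  rw [C0_apply, Groth.Agent.Lib.Helper19.SymPow.map_tprod,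
    Groth.Agent.Lib.Helper19.SymPow.compDown_tprod]
  congr 1
  funext i
  exact betaC_toCotangent A B A' B' (x i)

theorem C0_smul (b : B) (y : SymmetricPower B κ (KaehlerDifferential.ideal A B).Cotangent) :
    C0 A B A' B' κ (b • y) = algebraMap B B' b • C0 A B A' B' κ y := by
  rw [C0_apply, C0_apply, map_smul, Groth.Agent.Lib.Helper19.SymPow.compDown_smul]

/-- the canonical map `B' ⊗_B Sym_B(Ω) → Sym_{B'}(Ω')` -/
noncomputable def cAdd : B' ⊗[B] SymmetricPower B κ (KaehlerDifferential.ideal A B).Cotangent →+
    SymmetricPower B' κ (KaehlerDifferential.ideal A' B').Cotangent :=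
  TensorProduct.liftAddHom
    { toFun := fun b' => (DistribSMul.toAddMonoidHom _ b').comp (C0 A B A' B' κ)
      map_zero' := by ext y; simp
      map_add' := fun b₁ b₂ => by ext y; simp [add_smul] }
    (fun b b' y => by
      change (b • b') • C0 A B A' B' κ y = b' • C0 A B A' B' κ (b • y)
      rw [C0_smul, smul_smul, Algebra.smul_def, mul_comm])

theorem cAdd_tmul (b' : B') (y : SymmetricPower B κ (KaehlerDifferential.ideal A B).Cotangent) :
    cAdd A B A' B' κ (b' ⊗ₜ[B] y) = b' • C0 A B A' B' κ y := rfl

/-- `cAdd` as a `B'`-linear map -/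
noncomputable def cLin : B' ⊗[B] SymmetricPower B κ (KaehlerDifferential.ideal A B).Cotangent →ₗ[B']
    SymmetricPower B' κ (KaehlerDifferential.ideal A' B').Cotangent :=
  { toFun := cAdd A B A' B' κ
    map_add' := map_add _
    map_smul' := fun b' t => by
      induction t using TensorProduct.induction_on with
      | zero => simp
      | tmul b₁ y =>
        rw [TensorProduct.smul_tmul', cAdd_tmul, cAdd_tmul, RingHom.id_apply, smul_eq_mul,
          mul_smul]
      | add t s ht hs => rw [smul_add, map_add, map_add, smul_add, ht, hs] }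

theorem cLin_tmul (b' : B') (y : SymmetricPower B κ (KaehlerDifferential.ideal A B).Cotangent) :
    cLin A B A' B' κ (b' ⊗ₜ[B] y) = b' • C0 A B A' B' κ y := rfl

theorem cLin_surjective : Function.Surjective (cLin A B A' B' κ) := by
  classical
  intro s
  obtain ⟨S, hS⟩ := Groth.Agent.Lib.Helper19.CharZeroSmooth.exists_finset_mem_span κ
    (fun x : KaehlerDifferential.ideal A B =>
      (KaehlerDifferential.ideal A' B').toCotangent ⟨rho A B A' B' x, rho_mem A B A' B' x x.2⟩)
    (span_xi A B A' B') s
  have hle : Submodule.span B' {t | ∃ g : κ → KaehlerDifferential.ideal A B, (∀ i, g i ∈ S) ∧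
      t = SymmetricPower.tprod B' (fun i => (KaehlerDifferential.ideal A' B').toCotangent
        ⟨rho A B A' B' (g i), rho_mem A B A' B' (g i) (g i).2⟩)} ≤
      LinearMap.range (cLin A B A' B' κ) := by
    rw [Submodule.span_le]
    rintro _ ⟨g, -, rfl⟩
    refine ⟨(1 : B') ⊗ₜ[B] SymmetricPower.tprod B
      (fun i => (KaehlerDifferential.ideal A B).toCotangent (g i)), ?_⟩
    rw [cLin_tmul, one_smul, C0_tprod]
  exact hle hS

variable {A B A' B'}

/-- **Base change of differential smoothness.** -/
theorem isDiffSmooth_baseChange (h : PP16.IsDiffSmooth A B) : PP16.IsDiffSmooth A' B' := by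
  classical
  have hproj : Module.Projective B' (KaehlerDifferential A' B') := by
    haveI := h.1
    exact Module.Projective.of_equiv (isBaseChange_map A B A' B').equiv
  refine isDiffSmooth_of_projective_of_injective A' B' hproj fun κ _ _ => ?_
  obtain ⟨r, hr0, hrprod⟩ := exists_retraction A B h κ
  -- the base-changed retraction
  let r' : B' ⊗[A'] B' →ₗ[B'] B' ⊗[B] SymmetricPower B κ (KaehlerDifferential.ideal A B).Cotangent :=
    (r.baseChange B') ∘ₗ (bcEquiv A B A' B').symm.toLinearMap
  have hr'rho : ∀ (b' : B') (x : B ⊗[A] B), r' (b' • rho A B A' B' x) = b' ⊗ₜ[B] r x := by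
    intro b' x
    change (r.baseChange B') ((bcEquiv A B A' B').symm (b' • rho A B A' B' x)) = _
    rw [map_smul, bcEquiv_symm_rho, map_smul, LinearMap.baseChange_tmul, TensorProduct.smul_tmul',
      smul_eq_mul, mul_one]
  have hr'span : ∀ y ∈ Submodule.span B' ((rho A B A' B') ''
      ((KaehlerDifferential.ideal A B ^ (Fintype.card κ + 1) : Ideal _) : Set (B ⊗[A] B))),
      r' y = 0 := by
    intro y hy
    induction hy using Submodule.span_induction with
    | mem y hy =>
      obtain ⟨x, hx, rfl⟩ := hy
      have := hr'rho 1 x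
      rw [one_smul] at this
      rw [this, hr0 x hx, TensorProduct.tmul_zero]
    | zero => exact map_zero _
    | add y z _ _ hy hz => rw [map_add, hy, hz, add_zero]
    | smul b' y _ hy => rw [map_smul, hy, smul_zero]
  have hr'0 : ∀ y ∈ KaehlerDifferential.ideal A' B' ^ (Fintype.card κ + 1), r' y = 0 :=
    fun y hy => hr'span y (pow_ideal_le_span A B A' B' (Fintype.card κ + 1) hy)
  -- the induced map on the graded piece
  let L : PP16.grI A' B' (Fintype.card κ) →ₗ[B']
      B' ⊗[B] SymmetricPower B κ (KaehlerDifferential.ideal A B).Cotangent :=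
    Submodule.liftQ _ (r' ∘ₗ (Ik A' B' (Fintype.card κ)).subtype) (by
      intro y hy
      rw [Submodule.mem_comap] at hy
      exact hr'0 _ hy)
  have hL : ∀ (y : B' ⊗[A'] B') (hy : y ∈ Ik A' B' (Fintype.card κ)),
      L (Submodule.Quotient.mk ⟨y, hy⟩) = r' y := fun y hy => rfl
  -- the composite is the identity
  have hpsiC : ∀ x : κ → KaehlerDifferential.ideal A B,
      L (psi A' B' κ (cLin A B A' B' κ ((1 : B') ⊗ₜ[B] SymmetricPower.tprod B
        (fun i => (KaehlerDifferential.ideal A B).toCotangent (x i))))) =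
      (1 : B') ⊗ₜ[B] SymmetricPower.tprod B
        (fun i => (KaehlerDifferential.ideal A B).toCotangent (x i)) := by
    intro x
    rw [cLin_tmul, one_smul, C0_tprod, psi_apply,
      Groth.Agent.Lib.Helper19.SymPow.compDown_tprod]
    have h1 := symToGr_tprod (KaehlerDifferential.ideal A' B') κ
      (fun i => (⟨rho A B A' B' (x i), rho_mem A B A' B' (x i) (x i).2⟩ :
        KaehlerDifferential.ideal A' B'))
    rw [h1]
    change L (Submodule.Quotient.mk ⟨∏ i, rho A B A' B' (x i), _⟩) = _
    rw [hL, ← map_prod]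
    have := hr'rho 1 (∏ i, (x i : B ⊗[A] B))
    rw [one_smul] at this
    rw [this, hrprod]
  have hcomp : ∀ t : B' ⊗[B] SymmetricPower B κ (KaehlerDifferential.ideal A B).Cotangent,
      L (psi A' B' κ (cLin A B A' B' κ t)) = t := by
    intro t
    induction t using TensorProduct.induction_on with
    | zero => simp
    | tmul b' y =>
      have hy : y ∈ (⊤ : Submodule B _) := Submodule.mem_top
      rw [← SymmetricPower.span_tprod_eq_top B κ _] at hy
      induction hy using Submodule.span_induction generalizing b' with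
      | mem y hy =>
        obtain ⟨m, rfl⟩ := hy
        choose x hx using fun i => Ideal.toCotangent_surjective _ (m i)
        have hm : m = fun i => (KaehlerDifferential.ideal A B).toCotangent (x i) :=
          funext fun i => (hx i).symm
        rw [hm]
        have e1 : b' ⊗ₜ[B] SymmetricPower.tprod B
            (fun i => (KaehlerDifferential.ideal A B).toCotangent (x i)) =
            b' • ((1 : B') ⊗ₜ[B] SymmetricPower.tprod B
              (fun i => (KaehlerDifferential.ideal A B).toCotangent (x i))) := by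
          rw [TensorProduct.smul_tmul', smul_eq_mul, mul_one]
        rw [e1, map_smul, map_smul, map_smul, hpsiC]
      | zero => simp
      | add y z _ _ hy hz =>
        rw [TensorProduct.tmul_add, map_add, map_add, map_add, hy, hz]
      | smul b y _ hy =>
        have e2 : b' ⊗ₜ[B] (b • y) = (algebraMap B B' b * b') ⊗ₜ[B] y := by
          rw [← TensorProduct.smul_tmul, Algebra.smul_def]
        rw [e2]
        exact hy _
    | add t s ht hs => rw [map_add, map_add, map_add, ht, hs]
  -- conclusion
  have hpsi_inj : Function.Injective (psi A' B' κ) := by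
    intro s₁ s₂ e
    obtain ⟨t₁, rfl⟩ := cLin_surjective A B A' B' κ s₁
    obtain ⟨t₂, rfl⟩ := cLin_surjective A B A' B' κ s₂
    rw [← hcomp t₁, ← hcomp t₂, e]
  have hc := Groth.Agent.Lib.Helper19.SymPow.compDown_bijective (B := B') (R := B' ⊗[A'] B')
    (ι := κ) (M := (KaehlerDifferential.ideal A' B').Cotangent) (mulHom A' B')
    (smul_cotangent A' B') (mulHom_algebraMap A' B')
  have hpsi_surj : Function.Surjective (psi A' B' κ) := fun g => by
    obtain ⟨s, rfl⟩ := symToGr_surjective (KaehlerDifferential.ideal A' B') κ g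
    obtain ⟨t, rfl⟩ := hc.2 s
    exact ⟨t, rfl⟩
  exact (psi_bijective_iff A' B' κ).1 ⟨hpsi_inj, hpsi_surj⟩

end Groth.Agent.Lib.Helper19.DiffSmoothBC
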