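import Groth.Agent.Lib.Helper19SymProj
import Groth.Agent.Lib.Helper19QRegDiag

/-!
# The `B`-linear retractions `B ⊗[A] B → Sym^n_B(Ω)` of a differentially smooth algebra (helper19)
-/

set_option autoImplicit false
set_option linter.style.haveILetI false
set_option linter.unusedSectionVars false
universe u

namespace Groth.Agent.Lib.Helper19.DiffSmoothRetr

open TensorProduct KaehlerDifferential Groth.Agent.Lib.Helper19.SymPow
  Groth.Agent.Lib.Helper19.SymGr Groth.Agent.Lib.Helper19.SymDiag
  Groth.Agent.Lib.Helper19.QRegDiag Groth.Agent.Lib.Helper19.SymProj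

variable (A B : Type u) [CommRing A] [CommRing B] [Algebra A B]

/-- `I^k` as a `B`-submodule (left structure) -/
noncomputable abbrev Ik (k : ℕ) : Submodule B (B ⊗[A] B) :=
  (KaehlerDifferential.ideal A B ^ k).restrictScalars B

theorem projective_grI (h : PP16.IsDiffSmooth A B) (k : ℕ) :
    Module.Projective B (PP16.grI A B k) := by
  obtain ⟨φ, -, hbij⟩ := h.2 (ULift.{u} (Fin k))
  haveI := h.1
  haveI := projective_symPow (B := B) (ULift.{u} (Fin k)) (KaehlerDifferential A B)
  have hcard : Fintype.card (ULift.{u} (Fin k)) = k := by simp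
  have : Module.Projective B (PP16.grI A B (Fintype.card (ULift.{u} (Fin k)))) :=
    Module.Projective.of_equiv (LinearEquiv.ofBijective φ hbij)
  exact hcard ▸ this

section proj

variable {A B}
variable (σ : ∀ k, PP16.grI A B k →ₗ[B] ↥(Ik A B k))
  (hσ : ∀ k y, (Submodule.Quotient.mk (σ k y) : PP16.grI A B k) = y)

include hσ in
theorem step_mem (k : ℕ) (y : ↥(Ik A B k)) :
    ((Ik A B k).subtype ∘ₗ (LinearMap.id - σ k ∘ₗ (Submodule.mkQ _))) y ∈ Ik A B (k + 1) := by
  have h0 : (Submodule.Quotient.mk (y - σ k (Submodule.Quotient.mk y)) : PP16.grI A B k) = 0 := by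
    rw [Submodule.Quotient.mk_sub, hσ, sub_self]
  have := (Submodule.Quotient.mk_eq_zero _).1 h0
  exact Submodule.mem_comap.1 this

/-- one step of the projection `I^k → I^(k+1)` -/
noncomputable def step (k : ℕ) : ↥(Ik A B k) →ₗ[B] ↥(Ik A B (k + 1)) :=
  LinearMap.codRestrict (Ik A B (k + 1))
    ((Ik A B k).subtype ∘ₗ (LinearMap.id - σ k ∘ₗ (Submodule.mkQ _))) (step_mem σ hσ k)

theorem step_coe (k : ℕ) (y : ↥(Ik A B k)) :
    (step σ hσ k y : B ⊗[A] B) = (y : B ⊗[A] B) - (σ k (Submodule.Quotient.mk y) : B ⊗[A] B) := rfl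

/-- the projections `B ⊗ B → I^k` -/
noncomputable def proj : (k : ℕ) → (B ⊗[A] B →ₗ[B] ↥(Ik A B k))
  | 0 => LinearMap.codRestrict (Ik A B 0) LinearMap.id (fun x => by
      change x ∈ KaehlerDifferential.ideal A B ^ 0
      rw [pow_zero, Ideal.one_eq_top]; trivial)
  | k + 1 => step σ hσ k ∘ₗ proj k

theorem proj_coe_of_mem (m : ℕ) {x : B ⊗[A] B} (hx : x ∈ KaehlerDifferential.ideal A B ^ m) :
    ∀ k, k ≤ m → (proj σ hσ k x : B ⊗[A] B) = x := by
  intro k
  induction k with
  | zero => intro _; rfl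
  | succ k ih =>
    intro hk
    have ih' := ih (Nat.le_of_succ_le hk)
    change (step σ hσ k (proj σ hσ k x) : B ⊗[A] B) = x
    rw [step_coe, ih']
    have h0 : (Submodule.Quotient.mk (proj σ hσ k x) : PP16.grI A B k) = 0 := by
      rw [Submodule.Quotient.mk_eq_zero, Submodule.mem_comap]
      change (proj σ hσ k x : B ⊗[A] B) ∈ KaehlerDifferential.ideal A B ^ (k + 1)
      rw [ih']
      exact Ideal.pow_le_pow_right hk hx
    rw [h0, map_zero, Submodule.coe_zero, sub_zero]

/-- the retraction `B ⊗ B → I^n/I^(n+1)` -/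
noncomputable def retrGr (n : ℕ) : B ⊗[A] B →ₗ[B] PP16.grI A B n :=
  Submodule.mkQ _ ∘ₗ proj σ hσ n

theorem retrGr_eq_zero (n : ℕ) {x : B ⊗[A] B}
    (hx : x ∈ KaehlerDifferential.ideal A B ^ (n + 1)) : retrGr σ hσ n x = 0 := by
  change (Submodule.Quotient.mk (proj σ hσ n x) : PP16.grI A B n) = 0
  rw [Submodule.Quotient.mk_eq_zero, Submodule.mem_comap]
  change (proj σ hσ n x : B ⊗[A] B) ∈ KaehlerDifferential.ideal A B ^ (n + 1)
  rw [proj_coe_of_mem σ hσ (n + 1) hx n (Nat.le_succ n)]
  exact hx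

theorem retrGr_of_mem (n : ℕ) {x : B ⊗[A] B} (hx : x ∈ KaehlerDifferential.ideal A B ^ n) :
    retrGr σ hσ n x = Submodule.Quotient.mk (⟨x, hx⟩ : ↥(Ik A B n)) := by
  change (Submodule.Quotient.mk (proj σ hσ n x) : PP16.grI A B n) = _
  congr 1
  exact Subtype.ext (proj_coe_of_mem σ hσ n hx n le_rfl)

end proj

/-- **The retraction**: for a differentially smooth algebra there is a `B`-linear map
`B ⊗ B → Sym^κ_B(I/I²)` killing `I^(n+1)` and sending products of `n` elements of `I` to the
symmetric product of their classes. -/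
theorem exists_retraction (h : PP16.IsDiffSmooth A B) (κ : Type u) [Fintype κ] [Nonempty κ] :
    ∃ r : B ⊗[A] B →ₗ[B] SymmetricPower B κ (KaehlerDifferential.ideal A B).Cotangent,
      (∀ y ∈ KaehlerDifferential.ideal A B ^ (Fintype.card κ + 1), r y = 0) ∧
      ∀ x : κ → KaehlerDifferential.ideal A B,
        r (∏ i, (x i : B ⊗[A] B)) =
          SymmetricPower.tprod B (fun i => (KaehlerDifferential.ideal A B).toCotangent (x i)) := by
  classical
  have hproj := projective_grI A B h
  have hsec : ∀ k, ∃ s : PP16.grI A B k →ₗ[B] ↥(Ik A B k),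
      (Submodule.mkQ _) ∘ₗ s = LinearMap.id := fun k => by
    haveI := hproj k
    exact Module.projective_lifting_property (Submodule.mkQ _) LinearMap.id
      (Submodule.mkQ_surjective _)
  choose σ hσ' using hsec
  have hσ : ∀ k y, (Submodule.Quotient.mk (σ k y) : PP16.grI A B k) = y := fun k y =>
    LinearMap.congr_fun (hσ' k) y
  have hbij : Function.Bijective (psi A B κ) :=
    (psi_bijective_iff A B κ).2 (symToGr_injective_of_isDiffSmooth A B h κ)
  let E := LinearEquiv.ofBijective (psi A B κ) hbij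
  refine ⟨E.symm.toLinearMap ∘ₗ retrGr σ hσ (Fintype.card κ), fun y hy => ?_, fun x => ?_⟩
  · rw [LinearMap.comp_apply, retrGr_eq_zero σ hσ _ hy, map_zero]
  · have hmem : ∏ i, (x i : B ⊗[A] B) ∈ KaehlerDifferential.ideal A B ^ Fintype.card κ := by
      simpa using PP16.prod_mem_pow (KaehlerDifferential.ideal A B) Finset.univ
        (fun i => (x i : B ⊗[A] B)) (fun i _ => (x i).2)
    rw [LinearMap.comp_apply, retrGr_of_mem σ hσ _ hmem]
    have hpsi : psi A B κ (SymmetricPower.tprod B
        (fun i => (KaehlerDifferential.ideal A B).toCotangent (x i))) =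
        Submodule.Quotient.mk (⟨∏ i, (x i : B ⊗[A] B), hmem⟩ : ↥(Ik A B (Fintype.card κ))) := by
      rw [psi_apply, compDown_tprod]
      exact symToGr_tprod (KaehlerDifferential.ideal A B) κ x
    rw [← hpsi]
    exact E.symm_apply_apply _

end Groth.Agent.Lib.Helper19.DiffSmoothRetr
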