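import Mathlib

set_option autoImplicit false
universe u

open MvPolynomial

namespace Groth.Agent.Lib.Helper19.Dilatation

variable (p : ℕ) {A : Type u} [CommRing A] {n : ℕ} (a : Fin n → A)

/-- the ideal generated by `p X_i - a_i` -/
noncomputable def I₀ : Ideal (MvPolynomial (Fin n) A) :=
  Ideal.span (Set.range fun i => (p : MvPolynomial (Fin n) A) * X i - C (a i))

/-- its `p`-saturation -/
noncomputable def I₁ : Ideal (MvPolynomial (Fin n) A) where
  carrier := {x | ∃ k : ℕ, (p : MvPolynomial (Fin n) A) ^ k * x ∈ I₀ p a}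
  add_mem' := by
    rintro x y ⟨k, hk⟩ ⟨l, hl⟩
    refine ⟨k + l, ?_⟩
    rw [mul_add]
    refine (I₀ p a).add_mem ?_ ?_
    · rw [pow_add, mul_comm (_ ^ k), mul_assoc]; exact (I₀ p a).mul_mem_left _ hk
    · rw [pow_add, mul_assoc]; exact (I₀ p a).mul_mem_left _ hl
  zero_mem' := ⟨0, by simp⟩
  smul_mem' := by
    rintro c x ⟨k, hk⟩
    refine ⟨k, ?_⟩
    rw [smul_eq_mul, mul_left_comm]; exact (I₀ p a).mul_mem_left _ hk

theorem mem_I₁ (x : MvPolynomial (Fin n) A) :
    x ∈ I₁ p a ↔ ∃ k : ℕ, (p : MvPolynomial (Fin n) A) ^ k * x ∈ I₀ p a := Iff.rfl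

theorem I₀_le_I₁ : I₀ p a ≤ I₁ p a := fun x hx => ⟨0, by simpa using hx⟩

/-- the uncompleted dilatation algebra -/
abbrev D₁ : Type u := MvPolynomial (Fin n) A ⧸ I₁ p a

theorem D₁_torsionFree (x : D₁ p a) (hx : (p : D₁ p a) * x = 0) : x = 0 := by
  obtain ⟨y, rfl⟩ := Ideal.Quotient.mk_surjective x
  have h1 : (p : D₁ p a) * Ideal.Quotient.mk (I₁ p a) y
      = Ideal.Quotient.mk (I₁ p a) ((p : MvPolynomial (Fin n) A) * y) := by
    rw [map_mul, map_natCast]
  rw [h1, Ideal.Quotient.eq_zero_iff_mem, mem_I₁] at hx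
  obtain ⟨k, hk⟩ := hx
  rw [Ideal.Quotient.eq_zero_iff_mem, mem_I₁]
  refine ⟨k + 1, ?_⟩
  rw [pow_succ, mul_assoc]
  exact hk

theorem D₁_pow_torsionFree (k : ℕ) (x : D₁ p a) (hx : (p : D₁ p a) ^ k * x = 0) : x = 0 := by
  induction k with
  | zero => simpa using hx
  | succ k ih =>
    apply ih
    apply D₁_torsionFree p a
    rw [← mul_assoc, ← pow_succ']
    exact hx

theorem mk_C_eq (i : Fin n) :
    Ideal.Quotient.mk (I₁ p a) (C (a i)) = (p : D₁ p a) * Ideal.Quotient.mk (I₁ p a) (X i) := by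
  have h1 : (p : MvPolynomial (Fin n) A) * X i - C (a i) ∈ I₁ p a :=
    I₀_le_I₁ p a (Ideal.subset_span ⟨i, rfl⟩)
  rw [← Ideal.Quotient.eq_zero_iff_mem, map_sub, sub_eq_zero, map_mul, map_natCast] at h1
  exact h1.symm

/-- the ideal `(p)` of `D₁` -/
noncomputable abbrev J₁ : Ideal (D₁ p a) := Ideal.span {(p : D₁ p a)}

/-- the dilatation algebra -/
abbrev D : Type u := AdicCompletion (J₁ p a) (D₁ p a)

theorem J₁_fg : (J₁ p a).FG := ⟨{(p : D₁ p a)}, by simp⟩

theorem map_J₁ : (J₁ p a).map (algebraMap (D₁ p a) (D p a)) = Ideal.span {(p : D p a)} := by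
  rw [Ideal.map_span, Set.image_singleton, map_natCast]

theorem D_complete : IsAdicComplete (Ideal.span {(p : D p a)}) (D p a) := by
  have h := AdicCompletion.isAdicComplete (I := J₁ p a) (M := D₁ p a) (J₁_fg p a)
  rw [← IsAdicComplete.map_algebraMap_iff (S := D p a), map_J₁] at h
  exact h

theorem D_torsionFree (x : D p a) (hx : (p : D p a) * x = 0) : x = 0 := by
  obtain ⟨c, rfl⟩ := AdicCompletion.mk_surjective (J₁ p a) (D₁ p a) x
  apply AdicCompletion.ext_evalₐ
  intro k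
  rw [map_zero, AdicCompletion.evalₐ_mk]
  have h1 := congrArg (AdicCompletion.evalₐ (J₁ p a) (k + 1)) hx
  rw [map_zero, map_mul, map_natCast, AdicCompletion.evalₐ_mk] at h1
  have h2 : Ideal.Quotient.mk (J₁ p a ^ (k + 1)) ((p : D₁ p a) * c (k + 1)) = 0 := by
    rw [map_mul, map_natCast]; exact h1
  rw [Ideal.Quotient.eq_zero_iff_mem, Ideal.span_singleton_pow, Ideal.mem_span_singleton'] at h2
  obtain ⟨z, hz⟩ := h2
  have h3 : c (k + 1) = z * (p : D₁ p a) ^ k := by
    have h4 : (p : D₁ p a) * (c (k + 1) - z * (p : D₁ p a) ^ k) = 0 := by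
      rw [mul_sub, ← hz]; ring
    exact sub_eq_zero.1 (D₁_torsionFree p a _ h4)
  rw [← AdicCompletion.Ideal.mk_eq_mk (J₁ p a) (Nat.le_succ k) c, h3,
    Ideal.Quotient.eq_zero_iff_mem, Ideal.span_singleton_pow]
  exact Ideal.mul_mem_left _ _ (Ideal.mem_span_singleton_self _)

theorem D_regular : IsSMulRegular (D p a) (p : D p a) := by
  intro x y hxy
  have h : (p : D p a) * (x - y) = 0 := by
    rw [mul_sub, sub_eq_zero]; exact hxy
  exact sub_eq_zero.1 (D_torsionFree p a _ h)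

theorem algebraMap_D (x : A) :
    algebraMap A (D p a) x = algebraMap (D₁ p a) (D p a) (Ideal.Quotient.mk (I₁ p a) (C x)) := by
  rw [IsScalarTower.algebraMap_apply A (D₁ p a) (D p a)]
  rfl

theorem a_mem (i : Fin n) : algebraMap A (D p a) (a i) ∈ Ideal.span {(p : D p a)} := by
  rw [Ideal.mem_span_singleton']
  refine ⟨algebraMap (D₁ p a) (D p a) (Ideal.Quotient.mk (I₁ p a) (X i)), ?_⟩
  rw [algebraMap_D, mk_C_eq, map_mul, map_natCast, mul_comm]

section Univ

variable {p a}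
variable {B : Type u} [CommRing B] [Algebra A B]

/-- the map on polynomials -/
noncomputable def g₀ (b : Fin n → B) : MvPolynomial (Fin n) A →ₐ[A] B := MvPolynomial.aeval b

theorem g₀_I₁ (hB : IsSMulRegular B (p : B)) (b : Fin n → B)
    (hb : ∀ i, (p : B) * b i = algebraMap A B (a i)) :
    ∀ x ∈ I₁ p a, g₀ b x = 0 := by
  have h0 : I₀ p a ≤ RingHom.ker ((g₀ b : MvPolynomial (Fin n) A →ₐ[A] B) : MvPolynomial (Fin n) A →+* B) := by
    unfold I₀
    rw [Ideal.span_le]
    rintro _ ⟨i, rfl⟩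
    rw [SetLike.mem_coe, RingHom.mem_ker]
    simp [g₀, hb]
  intro x hx
  obtain ⟨k, hk⟩ := hx
  have h1 := h0 hk
  rw [RingHom.mem_ker] at h1
  have h2 : (p : B) ^ k • (g₀ b x) = (p : B) ^ k • (0 : B) := by
    rw [smul_zero, smul_eq_mul]
    simpa using h1
  exact (hB.pow k) h2

/-- the map on `D₁` -/
noncomputable def g₁ (hB : IsSMulRegular B (p : B)) (b : Fin n → B)
    (hb : ∀ i, (p : B) * b i = algebraMap A B (a i)) : D₁ p a →ₐ[A] B :=
  Ideal.Quotient.liftₐ (I₁ p a) (g₀ b) (g₀_I₁ hB b hb)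

theorem J₁_pow_le (g : D₁ p a →ₐ[A] B) (k : ℕ) :
    J₁ p a ^ k ≤ Ideal.comap g (Ideal.span {(p : B)} ^ k) := by
  rw [← Ideal.map_le_iff_le_comap, Ideal.map_pow, Ideal.map_span, Set.image_singleton]
  have : (g : D₁ p a → B) (p : D₁ p a) = (p : B) := map_natCast g p
  rw [this]

/-- the compatible family -/
noncomputable def fam (g : D₁ p a →ₐ[A] B) (k : ℕ) :
    D p a →ₐ[A] B ⧸ (Ideal.span {(p : B)}) ^ k :=
  (Ideal.quotientMapₐ _ g (J₁_pow_le g k)).comp
    ((AdicCompletion.evalₐ (J₁ p a) k).restrictScalars A)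

theorem fam_mk (g : D₁ p a →ₐ[A] B) (k : ℕ) (c : AdicCompletion.AdicCauchySequence (J₁ p a) (D₁ p a)) :
    fam g k (AdicCompletion.mk (J₁ p a) (D₁ p a) c) = Ideal.Quotient.mk _ (g (c k)) := by
  unfold fam
  rw [AlgHom.comp_apply, AlgHom.restrictScalars_apply, AdicCompletion.evalₐ_mk]
  rfl

theorem fam_compat (g : D₁ p a →ₐ[A] B) {m k : ℕ} (hle : m ≤ k) :
    (Ideal.Quotient.factorₐ A (Ideal.pow_le_pow_right hle)).comp (fam g k) = fam g m := by
  ext x
  obtain ⟨c, rfl⟩ := AdicCompletion.mk_surjective (J₁ p a) (D₁ p a) x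
  rw [AlgHom.comp_apply, fam_mk, fam_mk]
  have h1 := AdicCompletion.Ideal.mk_eq_mk (J₁ p a) hle c
  have h2 := congrArg (Ideal.quotientMapₐ _ g (J₁_pow_le g m)) h1
  exact h2

variable [IsAdicComplete (Ideal.span {(p : B)}) B]

/-- the lift -/
noncomputable def lift (g : D₁ p a →ₐ[A] B) : D p a →ₐ[A] B :=
  IsAdicComplete.liftAlgHom (Ideal.span {(p : B)}) (fam g) (fun hle => fam_compat g hle)

/-- uniqueness -/
theorem algHom_ext (hB : IsSMulRegular B (p : B)) (h h' : D p a →ₐ[A] B) : h = h' := by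
  -- agree on the image of `D₁`
  have hX : ∀ i, h (algebraMap (D₁ p a) (D p a) (Ideal.Quotient.mk (I₁ p a) (X i)))
      = h' (algebraMap (D₁ p a) (D p a) (Ideal.Quotient.mk (I₁ p a) (X i))) := by
    intro i
    apply hB
    show (p : B) * _ = (p : B) * _
    have key : ∀ f : D p a →ₐ[A] B,
        (p : B) * f (algebraMap (D₁ p a) (D p a) (Ideal.Quotient.mk (I₁ p a) (X i)))
          = algebraMap A B (a i) := by
      intro f
      rw [← f.commutes (a i), algebraMap_D, mk_C_eq, map_mul, map_natCast, map_mul, map_natCast]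
    rw [key h, key h']
  have h1 : ∀ y : D₁ p a, h (algebraMap (D₁ p a) (D p a) y) = h' (algebraMap (D₁ p a) (D p a) y) := by
    intro y
    obtain ⟨q, rfl⟩ := Ideal.Quotient.mk_surjective y
    have h2 : (h.comp ((IsScalarTower.toAlgHom A (D₁ p a) (D p a)).comp
        (Ideal.Quotient.mkₐ A (I₁ p a)))) = (h'.comp ((IsScalarTower.toAlgHom A (D₁ p a) (D p a)).comp
        (Ideal.Quotient.mkₐ A (I₁ p a)))) := by
      apply MvPolynomial.algHom_ext
      intro i
      exact hX i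
    exact AlgHom.congr_fun h2 q
  apply IsAdicComplete.algHom_ext (Ideal.span {(p : B)})
  intro k
  ext x
  obtain ⟨c, rfl⟩ := AdicCompletion.mk_surjective (J₁ p a) (D₁ p a) x
  set x := AdicCompletion.mk (J₁ p a) (D₁ p a) c with hx
  -- `x - of (c k) ∈ p^k D`
  have h3 : x - algebraMap (D₁ p a) (D p a) (c k) ∈
      (J₁ p a ^ k • ⊤ : Submodule (D₁ p a) (D p a)) := by
    rw [AdicCompletion.pow_smul_top_eq_ker_eval (J₁_fg p a), LinearMap.mem_ker, map_sub, sub_eq_zero]
    rw [AdicCompletion.algebraMap_apply, Algebra.algebraMap_self, RingHom.id_apply]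
    rw [hx, AdicCompletion.eval_of]
    rfl
  rw [Ideal.span_singleton_pow, Submodule.ideal_span_singleton_smul,
    Submodule.mem_smul_pointwise_iff_exists] at h3
  obtain ⟨z, _, hz⟩ := h3
  have h5 : ((p : D₁ p a) ^ k) • z = (p : D p a) ^ k * z := by
    have h6 : (p : D p a) ^ k = algebraMap (D₁ p a) (D p a) ((p : D₁ p a) ^ k) := by
      rw [map_pow, map_natCast]
    rw [h6, Algebra.algebraMap_eq_smul_one, smul_mul_assoc, one_mul]
  have h4 : x = (p : D p a) ^ k * z + algebraMap (D₁ p a) (D p a) (c k) := by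
    rw [← sub_eq_iff_eq_add, ← hz]
    exact h5.symm
  show Ideal.Quotient.mk _ (h x) = Ideal.Quotient.mk _ (h' x)
  rw [Ideal.Quotient.eq, h4, map_add, map_add, h1, map_mul, map_mul, map_pow, map_pow,
    map_natCast, map_natCast, add_sub_add_right_eq_sub, ← mul_sub, Ideal.span_singleton_pow]
  exact Ideal.mul_mem_right _ _ (Ideal.mem_span_singleton_self _)

end Univ

end Groth.Agent.Lib.Helper19.Dilatation
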