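import Mathlib
import Groth.Prelude.Def_Disp2
import Groth.Agent.Lib.Helper14Disp2
import Groth.Agent.Lib.Helper14Disp4

/-!
# Matrix criterion for the nilpotence condition of a 3n-display (helper19)
-/

set_option autoImplicit false
set_option linter.unusedSectionVars false
universe u v w

namespace Groth.Agent.Lib.Helper19DispMatrix

open Dieu Groth.Agent.Lib.Helper14.Disp

section Abstract

variable {A : Type u} [CommRing A] {P : Type v} [AddCommGroup P] [Module A P]

theorem sum_tmul {B : Type u} [CommRing B] (g : A →+* B) {ι : Type*} (s : Finset ι) (b : ι → B)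
    (x : P) : BC.tmul g (∑ i ∈ s, b i) x = ∑ i ∈ s, BC.tmul g (b i) x := by
  classical
  induction s using Finset.induction_on with
  | empty => simp
  | insert a s ha ih => rw [Finset.sum_insert ha, Finset.sum_insert ha, BC.add_tmul, ih]

theorem map_mem_smul_top {B : Type u} [CommRing B] {N N' : Type*} [AddCommGroup N] [Module B N]
    [AddCommGroup N'] [Module B N'] (φ : N →ₗ[B] N') (𝔞 : Ideal B) (y : N)
    (hy : y ∈ 𝔞 • (⊤ : Submodule B N)) : φ y ∈ 𝔞 • (⊤ : Submodule B N') := by
  refine Submodule.smul_induction_on hy ?_ ?_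
  · intro a ha n _
    rw [map_smul]; exact Submodule.smul_mem_smul ha Submodule.mem_top
  · intro y z hy hz; rw [map_add]; exact add_mem hy hz

variable (σ : A →+* A) {ι : Type w} [Fintype ι] [DecidableEq ι]

/-- The matrices of the iterates. -/
def Cmat (c : Matrix ι ι A) : ℕ → Matrix ι ι A
  | 0 => c
  | n + 1 => (Cmat c n).map σ * c

theorem Cmat_succ (c : Matrix ι ι A) (n : ℕ) : Cmat σ c (n + 1) = (Cmat σ c n).map σ * c := rfl

theorem iter_basis (Vs : P →ₗ[A] BC σ P) (e : ι → P) (c : Matrix ι ι A)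
    (hVs : ∀ i, Vs (e i) = ∑ j, BC.tmul σ (c j i) (e j)) (n : ℕ) (i : ι) :
    iter σ Vs n (e i) = ∑ j, BC.tmul (τ σ n) (Cmat σ c n j i) (e j) := by
  induction n generalizing i with
  | zero => exact hVs i
  | succ n ih =>
    show inner σ (τ σ n) (iter σ Vs n) (Vs (e i)) =
      ∑ j, BC.tmul (σ.comp (τ σ n)) (Cmat σ c (n + 1) j i) (e j)
    rw [hVs, map_sum]
    simp_rw [inner_tmul, ih, map_sum, BC.push_tmul, Finset.smul_sum, BC.smul_tmul]
    rw [Finset.sum_comm]
    refine Finset.sum_congr rfl fun l _ => ?_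
    rw [← sum_tmul]
    congr 1
    rw [Cmat_succ, Matrix.mul_apply]
    refine Finset.sum_congr rfl fun j _ => ?_
    rw [Matrix.map_apply, mul_comm]

theorem Cmat_succ' (c : Matrix ι ι A) (n : ℕ) :
    Cmat σ c (n + 1) = c.map (τ σ n) * Cmat σ c n := by
  induction n with
  | zero => rfl
  | succ n ih =>
    conv_lhs => rw [Cmat_succ, ih, Matrix.map_mul, Matrix.mul_assoc, ← Cmat_succ, Matrix.map_map]
    rfl

section Coord

variable {B : Type u} [CommRing B] (g : A →+* B) (e : Module.Basis ι A P)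

/-- coordinate functionals on `BC g P` -/
noncomputable def coordBC (j : ι) : BC g P →ₗ[B] B :=
  BC.lift g ((semilinearOfRingHom g).comp (e.coord j))

theorem coordBC_tmul (j : ι) (b : B) (x : P) :
    coordBC g e j (BC.tmul g b x) = b * g (e.repr x j) := by
  rw [coordBC, BC.lift_tmul]; rfl

theorem coordBC_sum (a : ι → B) (j : ι) :
    coordBC g e j (∑ l, BC.tmul g (a l) (e l)) = a j := by
  rw [map_sum]
  simp_rw [coordBC_tmul, Module.Basis.repr_self, Finsupp.single_apply]
  rw [Finset.sum_eq_single j]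
  · simp
  · intro l _ hl
    rw [if_neg hl, map_zero, mul_zero]
  · intro h; exact absurd (Finset.mem_univ j) h

theorem mem_smul_top_of_coeff_mem (𝔞 : Ideal B) (a : ι → B) (x : ι → P) (ha : ∀ l, a l ∈ 𝔞) :
    ∑ l, BC.tmul g (a l) (x l) ∈ 𝔞 • (⊤ : Submodule B (BC g P)) := by
  refine Submodule.sum_mem _ fun l _ => ?_
  rw [BC.tmul_eq_smul_tmul_one]
  exact Submodule.smul_mem_smul (ha l) Submodule.mem_top

theorem coeff_mem_of_mem_smul_top (𝔞 : Ideal B) (a : ι → B)
    (h : ∑ l, BC.tmul g (a l) (e l) ∈ 𝔞 • (⊤ : Submodule B (BC g P))) (j : ι) : a j ∈ 𝔞 := by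
  have := map_mem_smul_top (coordBC g e j) 𝔞 _ h
  rw [coordBC_sum] at this
  rwa [smul_eq_mul, Ideal.mul_top] at this

end Coord

theorem iter_mem_iff (Vs : P →ₗ[A] BC σ P) (e : Module.Basis ι A P) (c : Matrix ι ι A)
    (hVs : ∀ i, Vs (e i) = ∑ j, BC.tmul σ (c j i) (e j)) (𝔞 : Ideal A) (n : ℕ) :
    (∀ x, iter σ Vs n x ∈ 𝔞 • (⊤ : Submodule A (BC (τ σ n) P))) ↔
      ∀ j i, Cmat σ c n j i ∈ 𝔞 := by
  constructor
  · intro h j i
    have := h (e i)
    rw [iter_basis σ Vs e c hVs] at this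
    exact coeff_mem_of_mem_smul_top (τ σ n) e 𝔞 _ this j
  · intro h x
    rw [← e.sum_repr x, map_sum]
    refine Submodule.sum_mem _ fun i _ => ?_
    rw [map_smul, iter_basis σ Vs e c hVs]
    exact Submodule.smul_mem _ _ (mem_smul_top_of_coeff_mem _ _ _ _ (fun l => h l i))

end Abstract

section Reduce

variable {A : Type u} [CommRing A] {K : Type v} [CommRing K] (σ : A →+* A) (π : A →+* K)
  (p : ℕ)
  {ιT ιL : Type w} [Fintype ιT] [Fintype ιL] [DecidableEq ιT] [DecidableEq ιL]

theorem π_τ (hπσ : ∀ a, π (σ a) = π a ^ p) (n : ℕ) (a : A) :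
    π (τ σ n a) = π a ^ p ^ (n + 1) := by
  induction n with
  | zero =>
    show π (σ a) = _
    rw [hπσ, zero_add, pow_one]
  | succ n ih =>
    show π (σ (τ σ n a)) = _
    rw [hπσ, ih, ← pow_mul, ← pow_succ]

/-- The twisted product of the statement. -/
def Zprod (B : Matrix ιL ιL K) (N : ℕ) : Matrix ιL ιL K :=
  ((List.range N).reverse.map fun i : ℕ => B.map fun x : K => x ^ p ^ i).prod

theorem Zprod_succ (B : Matrix ιL ιL K) (N : ℕ) :
    Zprod p B (N + 1) = (B.map fun x : K => x ^ p ^ N) * Zprod p B N := by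
  unfold Zprod
  rw [List.range_succ, List.reverse_append, List.reverse_singleton, List.singleton_append,
    List.map_cons, List.prod_cons]

theorem reduce_iff (hp : 0 < p) (hπσ : ∀ a, π (σ a) = π a ^ p)
    (c : Matrix (ιT ⊕ ιL) (ιT ⊕ ιL) A) (hc : ∀ j i, π (c (Sum.inl j) i) = 0) :
    (∃ n, ∀ j i, π (Cmat σ c n j i) = 0) ↔
      ∃ N, 0 < N ∧ Zprod p (Matrix.of fun k l : ιL => π (c (Sum.inr k) (Sum.inr l))) N = 0 := by
  set B : Matrix ιL ιL K := Matrix.of fun k l : ιL => π (c (Sum.inr k) (Sum.inr l)) with hB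
  set X : Matrix ιL ιT K := Matrix.of fun k j => π (c (Sum.inr k) (Sum.inl j)) with hX
  have hcbar : c.map π = Matrix.fromBlocks 0 0 X B := by
    ext i j
    rcases i with i | i <;> rcases j with j | j <;> simp [hc, hB, hX]
  have hL : ∀ n, (Cmat σ c (n + 1)).map π =
      (c.map π).map (fun x : K => x ^ p ^ (n + 1)) * (Cmat σ c n).map π := by
    intro n
    rw [Cmat_succ', Matrix.map_mul]
    congr 1
    ext i j
    simp only [Matrix.map_apply]
    exact π_τ σ π p hπσ n _
  have hR : ∀ n, (Cmat σ c (n + 1)).map π =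
      ((Cmat σ c n).map π).map (fun x : K => x ^ p) * c.map π := by
    intro n
    rw [Cmat_succ, Matrix.map_mul]
    congr 1
    ext i j
    simp only [Matrix.map_apply]
    exact hπσ _
  have hshape : ∀ n, ∃ X' : Matrix ιL ιT K,
      (Cmat σ c n).map π = Matrix.fromBlocks 0 0 X' (Zprod p B (n + 1)) := by
    intro n
    induction n with
    | zero =>
      refine ⟨X, ?_⟩
      rw [Zprod_succ]
      have h1 : Zprod p B 0 = 1 := by simp [Zprod]
      have h2 : (B.map fun x : K => x ^ p ^ 0) = B := by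
        ext i j; simp
      rw [h1, h2, mul_one]
      exact hcbar
    | succ n ih =>
      obtain ⟨X', hX'⟩ := ih
      refine ⟨(B.map fun x : K => x ^ p ^ (n + 1)) * X', ?_⟩
      rw [hL, hX', hcbar, Matrix.fromBlocks_map, Matrix.fromBlocks_multiply, Zprod_succ p B (n + 1)]
      have h0 : ∀ (m n' : Type w), ((0 : Matrix m n' K).map fun x : K => x ^ p ^ (n + 1)) = 0 := by
        intro m n'
        ext i j
        simp [hp.ne']
      simp [h0]
  constructor
  · rintro ⟨n, hn⟩
    refine ⟨n + 1, Nat.succ_pos n, ?_⟩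
    obtain ⟨X', hX'⟩ := hshape n
    ext k l
    have h1 : ((Cmat σ c n).map π) (Sum.inr k) (Sum.inr l) = 0 := by
      rw [Matrix.map_apply]; exact hn _ _
    rw [hX'] at h1
    simpa using h1
  · rintro ⟨N, hN, hZ⟩
    obtain ⟨m, rfl⟩ : ∃ m, N = m + 1 := ⟨N - 1, by omega⟩
    obtain ⟨X', hX'⟩ := hshape m
    refine ⟨m + 1, fun j i => ?_⟩
    have h1 : (Cmat σ c (m + 1)).map π = 0 := by
      rw [hR, hX', hZ, hcbar, Matrix.fromBlocks_map, Matrix.fromBlocks_multiply]
      have h0 : ∀ (m n' : Type w), ((0 : Matrix m n' K).map fun x : K => x ^ p) = 0 := by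
        intro m n'
        ext i j
        simp [hp.ne']
      simp [h0]
    have := congrFun (congrFun h1 j) i
    simpa using this

end Reduce

end Groth.Agent.Lib.Helper19DispMatrix
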