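import Mathlib
import Groth.Prelude.Def_Disp2
import Groth.Agent.Lib.Helper19DispMatrix

/-!
# Matrix criterion for the nilpotence condition of a 3n-display: the Witt vector part (helper19)
-/

set_option autoImplicit false
set_option linter.unusedSectionVars false
universe u v w

namespace Groth.Agent.Lib.Helper19DispMatrix

open Dieu Groth.Agent.Lib.Helper14.Disp WittVector

variable {p : ℕ} [hp : Fact p.Prime] {R : Type u} [CommRing R]

/-- `W(R) → R/pR` -/
noncomputable def piW : WittVector p R →+* R ⧸ Ideal.span {(p : R)} :=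
  (Ideal.Quotient.mk _).comp WittVector.constantCoeff

theorem piW_apply (a : WittVector p R) :
    piW a = Ideal.Quotient.mk (Ideal.span {(p : R)}) (constantCoeff a) := rfl

theorem piW_frobenius (a : WittVector p R) : piW (frobenius a) = piW a ^ p := by
  rw [piW_apply, piW_apply, ← map_pow, Ideal.Quotient.eq]
  exact constantCoeff_frobenius_sub_pow_mem a

theorem mem_IV_sup_iff (x : WittVector p R) :
    x ∈ W4c1extbt610.IV p R ⊔ Ideal.span {(p : WittVector p R)} ↔ piW x = 0 := by
  constructor
  · intro h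
    have hle : W4c1extbt610.IV p R ⊔ Ideal.span {(p : WittVector p R)} ≤ RingHom.ker (piW (p := p) (R := R)) := by
      rw [sup_le_iff]
      constructor
      · rw [W4c1extbt610.IV, Ideal.span_le]
        rintro _ ⟨y, rfl⟩
        rw [SetLike.mem_coe, RingHom.mem_ker, piW_apply]
        have : constantCoeff (verschiebung y) = 0 := verschiebung_coeff_zero y
        rw [this, map_zero]
      · rw [Ideal.span_le, Set.singleton_subset_iff, SetLike.mem_coe, RingHom.mem_ker, map_natCast]
        exact Ideal.Quotient.eq_zero_iff_mem.2 (Ideal.subset_span rfl)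
    exact hle h
  · intro h
    have h1 : constantCoeff x ∈ Ideal.span {(p : R)} := Ideal.Quotient.eq_zero_iff_mem.1 h
    have h2 := mem_sup_of_constantCoeff_mem x h1
    have hker : RingHom.ker (constantCoeff : WittVector p R →+* R) ≤ W4c1extbt610.IV p R := ?_
    · exact (sup_le_sup_right hker (Ideal.span {(p : WittVector p R)})) h2
    intro y hy
    have hy0 : y.coeff 0 = 0 := hy
    have h3 := WittVector.eq_iterate_verschiebung (x := y) (n := 1)
      (by intro i hi; interval_cases i; exact hy0)
    rw [Function.iterate_one] at h3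
    rw [h3]
    exact W4c1extbt610.verschiebung_mem_IV p R _

variable {P : Type v} [AddCommGroup P] [Module (WittVector p R) P]
  {ιT ιL : Type w} [Fintype ιT] [Fintype ιL] [DecidableEq ιT] [DecidableEq ιL]

/-- The basis of `P` from bases of `T` and `L`. -/
noncomputable def basisP (L T : Submodule (WittVector p R) P) (hLT : IsCompl L T)
    (bT : Module.Basis ιT (WittVector p R) T) (bL : Module.Basis ιL (WittVector p R) L) :
    Module.Basis (ιT ⊕ ιL) (WittVector p R) P :=
  (bT.prod bL).map (Submodule.prodEquivOfIsCompl T L hLT.symm)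

theorem basisP_apply (L T : Submodule (WittVector p R) P) (hLT : IsCompl L T)
    (bT : Module.Basis ιT (WittVector p R) T) (bL : Module.Basis ιL (WittVector p R) L)
    (i : ιT ⊕ ιL) :
    basisP L T hLT bT bL i =
      Sum.elim (fun a : ιT => (bT a : P)) (fun a : ιL => (bL a : P)) i := by
  rcases i with i | i <;>
  simp [basisP, Submodule.coe_prodEquivOfIsCompl']

/-- The matrix of `V^#`. -/
noncomputable def cmat (β : Matrix (ιT ⊕ ιL) (ιT ⊕ ιL) (WittVector p R)) :
    Matrix (ιT ⊕ ιL) (ιT ⊕ ιL) (WittVector p R) :=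
  Matrix.of fun j i => Sum.elim (fun _ : ιT => β j i * (p : WittVector p R)) (fun _ : ιL => β j i) j

theorem Vs_basis (D : W4c1extbt610.Display3n p R P)
    (Vs : P →ₗ[WittVector p R] BC (WittVector.frobenius : WittVector p R →+* WittVector p R) P)
    (hVs : IsVSharp D Vs)
    (L T : Submodule (WittVector p R) P) (hLQ : L ≤ D.Q)
    (bT : Module.Basis ιT (WittVector p R) T) (bL : Module.Basis ιL (WittVector p R) L)
    (α β : Matrix (ιT ⊕ ιL) (ιT ⊕ ιL) (WittVector p R)) (hαβ : α * β = 1)
    (hF : ∀ j : ιT, D.F (bT j : P) =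
      Finset.univ.sum fun i : ιT ⊕ ιL => α i (Sum.inl j) • Sum.elim (fun a : ιT => (bT a : P)) (fun a : ιL => (bL a : P)) i)
    (hV : ∀ k : ιL, D.Vinv ⟨(bL k : P), hLQ (bL k).2⟩ =
      Finset.univ.sum fun i : ιT ⊕ ιL => α i (Sum.inr k) • Sum.elim (fun a : ιT => (bT a : P)) (fun a : ιL => (bL a : P)) i)
    (i : ιT ⊕ ιL) :
    Vs (Sum.elim (fun a : ιT => (bT a : P)) (fun a : ιL => (bL a : P)) i) =
      ∑ j, BC.tmul (WittVector.frobenius : WittVector p R →+* WittVector p R) (cmat β j i)
        (Sum.elim (fun a : ιT => (bT a : P)) (fun a : ιL => (bL a : P)) j) := by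
  set e' : ιT ⊕ ιL → P := Sum.elim (fun a : ιT => (bT a : P)) (fun a : ιL => (bL a : P)) with he'
  set f : ιT ⊕ ιL → P := Sum.elim (fun j : ιT => D.F (bT j : P))
    (fun k : ιL => D.Vinv ⟨(bL k : P), hLQ (bL k).2⟩) with hf
  have hfα : ∀ j, f j = ∑ l, α l j • e' l := by
    intro j
    rcases j with j | j
    · exact hF j
    · exact hV j
  have he'f : ∀ i, e' i = ∑ j, β j i • f j := by
    intro i
    simp_rw [hfα, Finset.smul_sum, smul_smul]
    rw [Finset.sum_comm]
    simp_rw [← Finset.sum_smul]
    have : ∀ l, ∑ j, β j i * α l j = (1 : Matrix (ιT ⊕ ιL) (ιT ⊕ ιL) (WittVector p R)) l i := by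
      intro l
      rw [← hαβ, Matrix.mul_apply]
      exact Finset.sum_congr rfl fun j _ => mul_comm _ _
    simp_rw [this, Matrix.one_apply]
    rw [Finset.sum_eq_single i]
    · simp
    · intro l _ hl
      rw [if_neg hl, zero_smul]
    · intro h; exact absurd (Finset.mem_univ i) h
  have hVsf : ∀ j, Vs (f j) =
      (Sum.elim (fun _ : ιT => (p : WittVector p R)) (fun _ : ιL => 1) j) •
        BC.tmul (WittVector.frobenius : WittVector p R →+* WittVector p R) 1 (e' j) := by
    intro j
    rcases j with j | j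
    · have := hVs.app_smul_F 1 (bT j : P)
      rw [one_smul] at this
      exact this
    · have := hVs.app_smul_Vinv 1 ⟨(bL j : P), hLQ (bL j).2⟩
      rw [one_smul] at this
      rw [Sum.elim_inr, one_smul]
      exact this
  rw [he'f i, map_sum]
  refine Finset.sum_congr rfl fun j _ => ?_
  rw [map_smul, hVsf, smul_smul, BC.smul_tmul, mul_one]
  congr 1
  rcases j with j | j <;> simp [cmat]

theorem isVNilpotent_iff (D : W4c1extbt610.Display3n p R P)
    (Vs : P →ₗ[WittVector p R] BC (WittVector.frobenius : WittVector p R →+* WittVector p R) P)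
    (hVs : IsVSharp D Vs)
    (L T : Submodule (WittVector p R) P) (hLT : IsCompl L T) (hLQ : L ≤ D.Q)
    (bT : Module.Basis ιT (WittVector p R) T) (bL : Module.Basis ιL (WittVector p R) L)
    (α β : Matrix (ιT ⊕ ιL) (ιT ⊕ ιL) (WittVector p R)) (hαβ : α * β = 1)
    (hF : ∀ j : ιT, D.F (bT j : P) =
      Finset.univ.sum fun i : ιT ⊕ ιL => α i (Sum.inl j) • Sum.elim (fun a : ιT => (bT a : P)) (fun a : ιL => (bL a : P)) i)
    (hV : ∀ k : ιL, D.Vinv ⟨(bL k : P), hLQ (bL k).2⟩ =
      Finset.univ.sum fun i : ιT ⊕ ιL => α i (Sum.inr k) • Sum.elim (fun a : ιT => (bT a : P)) (fun a : ιL => (bL a : P)) i) :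
    IsVNilpotent Vs ↔
      ∃ N : ℕ, 0 < N ∧ Zprod p (Matrix.of fun k l : ιL =>
        piW (β (Sum.inr k) (Sum.inr l))) N = 0 := by
  have hbasis : ∀ i, Vs (basisP L T hLT bT bL i) =
      ∑ j, BC.tmul (WittVector.frobenius : WittVector p R →+* WittVector p R) (cmat β j i)
        (basisP L T hLT bT bL j) := by
    intro i
    simp_rw [basisP_apply]
    exact Vs_basis D Vs hVs L T hLQ bT bL α β hαβ hF hV i
  have h1 : IsVNilpotent Vs ↔ ∃ n, ∀ j i,
      piW (Cmat (WittVector.frobenius : WittVector p R →+* WittVector p R) (cmat β) n j i) = 0 := by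
    unfold IsVNilpotent
    refine exists_congr fun n => ?_
    simp_rw [vSharpPow_eq_iter, castHom_mem_smul_top_iff, ← mem_IV_sup_iff]
    exact iter_mem_iff _ Vs (basisP L T hLT bT bL) (cmat β) hbasis _ n
  rw [h1, reduce_iff (WittVector.frobenius : WittVector p R →+* WittVector p R) piW p
    hp.out.pos piW_frobenius (cmat β) (fun j i => by
      show piW (β (Sum.inl j) i * (p : WittVector p R)) = 0
      rw [map_mul, map_natCast]
      have : ((p : ℕ) : R ⧸ Ideal.span {(p : R)}) = 0 := by
        have := Ideal.Quotient.eq_zero_iff_mem.2 (Ideal.subset_span (Set.mem_singleton (p : R)))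
        rwa [map_natCast] at this
      rw [this, mul_zero])]
  rfl

end Groth.Agent.Lib.Helper19DispMatrix
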