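import Mathlib

/-!
# The Eakin–Nagata theorem (Formanek's form)

If `M` is a finitely generated faithful `R`-module such that the submodules of the form `I • ⊤`
(`I` an ideal of `R`) satisfy the maximal condition, then `R` is Noetherian.  In particular, if
`R → S` is injective, `S` is a finite `R`-module and `S` is a Noetherian ring, then `R` is Noetherian.
-/

set_option autoImplicit false

namespace Groth.Agent.Lib.Helper19.EakinNagata

universe u v

variable {R : Type u} {M : Type v} [CommRing R] [AddCommGroup M] [Module R M]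

/-- a finitely generated module whose "annihilator quotient" is Noetherian is Noetherian -/
lemma isNoetherian_of_quotient_annihilator [Module.Finite R M] (Ann : Submodule R R)
    (hAnn : ∀ r ∈ Ann, ∀ m : M, r • m = 0) [IsNoetherian R (R ⧸ Ann)] : IsNoetherian R M := by
  classical
  obtain ⟨n, m, hm⟩ := Module.Finite.exists_fin (R := R) (M := M)
  let f : Fin n → ((R ⧸ Ann) →ₗ[R] M) := fun i =>
    Ann.liftQ (LinearMap.toSpanSingleton R M (m i)) (fun r hr => by
      rw [LinearMap.mem_ker, LinearMap.toSpanSingleton_apply]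
      exact hAnn r hr (m i))
  let ψ : (Fin n → R ⧸ Ann) →ₗ[R] M := ∑ i, (f i) ∘ₗ (LinearMap.proj i)
  have hψ : Function.Surjective ψ := by
    intro x
    have hx : x ∈ Submodule.span R (Set.range m) := by rw [hm]; trivial
    obtain ⟨c, rfl⟩ := (Submodule.mem_span_range_iff_exists_fun R).mp hx
    refine ⟨fun i => Submodule.Quotient.mk (c i), ?_⟩
    simp only [ψ, f, LinearMap.coe_sum, Finset.sum_apply, LinearMap.comp_apply, LinearMap.proj_apply]
    refine Finset.sum_congr rfl fun i _ => ?_
    rw [Submodule.liftQ_apply, LinearMap.toSpanSingleton_apply]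
  exact isNoetherian_of_surjective ψ (LinearMap.range_eq_top.mpr hψ)

/-- Formanek's theorem, module form. -/
theorem isNoetherian_of_acc [Module.Finite R M]
    (hacc : ∀ S : Set (Submodule R M), S.Nonempty → (∀ N ∈ S, ∃ I : Ideal R, N = I • ⊤) →
      ∃ N ∈ S, ∀ N' ∈ S, N ≤ N' → N' = N) : IsNoetherian R M := by
  classical
  by_contra hM
  -- step 1: a maximal `K = I₀ • ⊤` with `M ⧸ K` not Noetherian
  set S : Set (Submodule R M) := {N | (∃ I : Ideal R, N = I • ⊤) ∧ ¬ IsNoetherian R (M ⧸ N)} with hS
  have hSne : S.Nonempty := by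
    refine ⟨⊥, ⟨⊥, (Submodule.bot_smul _).symm⟩, fun h => hM ?_⟩
    exact isNoetherian_of_linearEquiv (Submodule.quotEquivOfEqBot (⊥ : Submodule R M) rfl)
  obtain ⟨K, ⟨⟨I₀, hK⟩, hKn⟩, hKmax⟩ := hacc S hSne (fun N hN => hN.1)
  have P1 : ∀ J : Ideal R, ¬ (J • (⊤ : Submodule R M) ≤ K) →
      IsNoetherian R (M ⧸ (J • (⊤ : Submodule R M) ⊔ K)) := by
    intro J hJ
    by_contra hcon
    have hmem : J • (⊤ : Submodule R M) ⊔ K ∈ S := by
      refine ⟨⟨J ⊔ I₀, ?_⟩, hcon⟩
      rw [Submodule.sup_smul, hK]
    have := hKmax _ hmem le_sup_right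
    apply hJ
    rw [← this]
    exact le_sup_left
  -- step 2: Zorn
  set Γ : Set (Submodule R M) :=
    {N | K ≤ N ∧ ∀ a : R, (∀ m : M, a • m ∈ N) → (∀ m : M, a • m ∈ K)} with hΓ
  have hKΓ : K ∈ Γ := ⟨le_rfl, fun a h => h⟩
  have hfgtop : (⊤ : Submodule R M).FG := Module.Finite.fg_top
  obtain ⟨N₀, hKN₀, hN₀max⟩ := zorn_le_nonempty₀ Γ (by
    intro c hcΓ hchain y hy
    refine ⟨sSup c, ⟨?_, ?_⟩, fun z hz => le_sSup hz⟩
    · exact (hcΓ hy).1.trans (le_sSup hy)
    · intro a ha
      -- `a • ⊤` is finitely generated hence compact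
      have hfg : ((⊤ : Submodule R M).map (LinearMap.lsmul R M a)).FG := hfgtop.map _
      have hcomp := (Submodule.fg_iff_compact _).mp hfg
      have hle : (⊤ : Submodule R M).map (LinearMap.lsmul R M a) ≤ sSup c := by
        rintro _ ⟨m, -, rfl⟩
        exact ha m
      obtain ⟨N, hNc, hN⟩ := (CompleteLattice.isCompactElement_iff_le_of_directed_sSup_le _ _).mp
        hcomp c ⟨y, hy⟩ hchain.directedOn hle
      exact (hcΓ hNc).2 a (fun m => hN ⟨m, trivial, rfl⟩)) K hKΓ
  have hN₀Γ : N₀ ∈ Γ := hN₀max.prop
  -- (B) `M ⧸ N₀` is Noetherian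
  have hB : IsNoetherian R (M ⧸ N₀) := by
    rw [isNoetherian_def]
    intro s
    set N := s.comap N₀.mkQ with hN
    have hN₀N : N₀ ≤ N := by
      intro x hx
      show N₀.mkQ x ∈ s
      rw [Submodule.mkQ_apply, (Submodule.Quotient.mk_eq_zero N₀).mpr hx]
      exact zero_mem _
    have hsN : s = N.map N₀.mkQ := by
      rw [hN, Submodule.map_comap_eq_of_surjective (Submodule.mkQ_surjective N₀)]
    by_cases hNeq : N = N₀
    · rw [hsN, hNeq]
      rw [Submodule.mkQ_map_self]
      exact Submodule.fg_bot
    · have hNΓ : N ∉ Γ := by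
        intro h
        exact hNeq (le_antisymm (hN₀max.le_of_ge h hN₀N) hN₀N)
      have : ∃ a : R, (∀ m : M, a • m ∈ N) ∧ ¬ (∀ m : M, a • m ∈ K) := by
        by_contra hcon
        apply hNΓ
        refine ⟨hN₀Γ.1.trans hN₀N, fun a ha => ?_⟩
        by_contra h
        exact hcon ⟨a, ha, h⟩
      obtain ⟨a, haN, haK⟩ := this
      have hJK : ¬ (Ideal.span {a} • (⊤ : Submodule R M) ≤ K) := by
        intro h
        apply haK
        intro m
        exact h (Submodule.smul_mem_smul (Ideal.mem_span_singleton_self a) trivial)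
      have hJN : Ideal.span {a} • (⊤ : Submodule R M) ≤ N := by
        rw [Submodule.smul_le]
        intro r hr m _
        obtain ⟨c, rfl⟩ := Ideal.mem_span_singleton'.mp hr
        rw [mul_smul]
        exact N.smul_mem c (haN m)
      have hnoeth := P1 _ hJK
      set T := Ideal.span {a} • (⊤ : Submodule R M) ⊔ N₀ with hT
      have hKT : Ideal.span {a} • (⊤ : Submodule R M) ⊔ K ≤ T := sup_le_sup_left hN₀Γ.1 _
      have hnoethT : IsNoetherian R (M ⧸ T) :=
        isNoetherian_of_surjective (Submodule.mapQ _ T LinearMap.id hKT)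
          (LinearMap.range_eq_top.mpr (by
            intro x
            obtain ⟨x, rfl⟩ := Submodule.mkQ_surjective _ x
            exact ⟨Submodule.Quotient.mk x, rfl⟩))
      have hN₀T : N₀ ≤ T := le_sup_right
      have hTN : T ≤ N := sup_le hJN hN₀N
      let f : (M ⧸ N₀) →ₗ[R] (M ⧸ T) := Submodule.mapQ N₀ T LinearMap.id hN₀T
      have hker : LinearMap.ker f = (Ideal.span {a} • (⊤ : Submodule R M)).map N₀.mkQ := by
        ext x
        obtain ⟨x, rfl⟩ := Submodule.mkQ_surjective _ x
        rw [LinearMap.mem_ker]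
        show Submodule.Quotient.mk x = (0 : M ⧸ T) ↔ _
        rw [Submodule.Quotient.mk_eq_zero, hT]
        constructor
        · intro hx
          obtain ⟨y, hy, z, hz, rfl⟩ := Submodule.mem_sup.mp hx
          refine ⟨y, hy, ?_⟩
          rw [Submodule.mkQ_apply, Submodule.mkQ_apply, Submodule.Quotient.mk_add,
            (Submodule.Quotient.mk_eq_zero N₀).mpr hz, add_zero]
        · rintro ⟨y, hy, hyx⟩
          have : x - y ∈ N₀ := by
            rw [← Submodule.Quotient.mk_eq_zero, Submodule.Quotient.mk_sub, sub_eq_zero]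
            exact hyx.symm
          have hx : x = y + (x - y) := by abel
          rw [hx]
          exact Submodule.add_mem_sup hy this
      have hkerfg : (LinearMap.ker f).FG := by
        rw [hker]
        exact (Submodule.FG.smul (Submodule.fg_span_singleton a) hfgtop).map _
      have hkers : LinearMap.ker f ≤ s := by
        rw [hker, hsN]
        exact Submodule.map_mono hJN
      refine Submodule.fg_of_fg_map_of_fg_inf_ker f ?_ ?_
      · exact IsNoetherian.noetherian _
      · rw [inf_eq_right.mpr hkers]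
        exact hkerfg
  -- (A) then `M ⧸ K` is Noetherian, a contradiction
  apply hKn
  obtain ⟨n, m, hm⟩ := Module.Finite.exists_fin (R := R) (M := M)
  set Ann : Submodule R R :=
    { carrier := {r | ∀ x : M, r • x ∈ K}
      add_mem' := fun {a b} ha hb x => by rw [add_smul]; exact add_mem (ha x) (hb x)
      zero_mem' := fun x => by rw [zero_smul]; exact zero_mem _
      smul_mem' := fun c r hr x => by
        rw [smul_eq_mul, mul_smul]
        exact K.smul_mem c (hr x) } with hAnn
  let φ : R →ₗ[R] (Fin n → M ⧸ N₀) :=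
    LinearMap.pi fun i => LinearMap.toSpanSingleton R (M ⧸ N₀) (Submodule.Quotient.mk (m i))
  have hφker : LinearMap.ker φ = Ann := by
    ext r
    rw [LinearMap.mem_ker]
    constructor
    · intro h
      have h1 : ∀ i, r • m i ∈ N₀ := by
        intro i
        have := congrFun h i
        simp only [φ, LinearMap.pi_apply, LinearMap.toSpanSingleton_apply, Pi.zero_apply] at this
        rwa [← Submodule.Quotient.mk_smul, Submodule.Quotient.mk_eq_zero] at this
      have h2 : ∀ x : M, r • x ∈ N₀ := by
        intro x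
        have hx : x ∈ Submodule.span R (Set.range m) := by rw [hm]; trivial
        induction hx using Submodule.span_induction with
        | mem x hx => obtain ⟨i, rfl⟩ := hx; exact h1 i
        | zero => rw [smul_zero]; exact zero_mem _
        | add x y _ _ hx hy => rw [smul_add]; exact add_mem hx hy
        | smul c x _ hx => rw [smul_comm]; exact N₀.smul_mem c hx
      exact hN₀Γ.2 r h2
    · intro h
      funext i
      simp only [φ, LinearMap.pi_apply, LinearMap.toSpanSingleton_apply, Pi.zero_apply]
      rw [← Submodule.Quotient.mk_smul, Submodule.Quotient.mk_eq_zero]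
      exact hN₀Γ.1 (h (m i))
  have hQ : IsNoetherian R (R ⧸ Ann) := by
    rw [← hφker]
    exact isNoetherian_of_injective ((LinearMap.ker φ).liftQ φ le_rfl)
      (by rw [← LinearMap.ker_eq_bot, Submodule.ker_liftQ_eq_bot' _ _ rfl])
  exact isNoetherian_of_quotient_annihilator (M := M ⧸ K) Ann (by
    intro r hr x
    obtain ⟨x, rfl⟩ := Submodule.mkQ_surjective _ x
    rw [Submodule.mkQ_apply, ← Submodule.Quotient.mk_smul, Submodule.Quotient.mk_eq_zero]
    exact hr x)

end Groth.Agent.Lib.Helper19.EakinNagata
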