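import Mathlib

/-!
# Étale neighbourhoods from square polynomial systems with invertible Jacobian (helper19)

Given `n` polynomials in `n` variables over a ring `A` and a point over a field `Ω` (an
`A`-algebra) at which the polynomials vanish and the Jacobian determinant does not, there is an
étale `A`-algebra `B` with an `A`-algebra map to `Ω` and a solution in `B` lifting the point.
-/

set_option autoImplicit false
universe u
open MvPolynomial

namespace Groth.Agent.Lib.Helper19EtaleSys

/-- the localization of a pre-submersive presentation of relative dimension zero at its Jacobian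
is étale. -/
theorem etale_localization_away_jacobian {R S : Type u} [CommRing R] [CommRing S] [Algebra R S]
    {ι σ : Type} [Finite ι] [Finite σ] (P : Algebra.PreSubmersivePresentation R S ι σ)
    (hdim : P.dimension = 0) : Algebra.Etale R (Localization.Away P.jacobian) := by
  let Δ : S := P.jacobian
  have hΔ : IsUnit (algebraMap S (Localization.Away Δ) Δ) :=
    IsLocalization.Away.algebraMap_isUnit _
  let Q : Algebra.SubmersivePresentation R (Localization.Away Δ) _ _ :=
    { toPreSubmersivePresentation :=
        .comp (.localizationAway (Localization.Away Δ) Δ) P,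
      jacobian_isUnit := by
        rw [Algebra.PreSubmersivePresentation.comp_jacobian_eq_jacobian_smul_jacobian]
        simpa [Algebra.smul_def, -isUnit_map_iff] using ⟨hΔ, hΔ⟩ }
  have : Algebra.IsStandardSmoothOfRelativeDimension 0 R (Localization.Away Δ) :=
    ⟨_, _, _, inferInstance, Q, by
      simp only [Algebra.PreSubmersivePresentation.dimension_comp_eq_dimension_add_dimension, Q]
      have h0 : Nat.card ι - Nat.card σ = 0 := hdim
      simp [Algebra.Presentation.dimension, h0]⟩
  infer_instance

/-- **multivariable Hensel, étale-locally**: a point over a field of a square polynomial system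
with nonvanishing Jacobian lifts to an étale algebra (on which moreover a given polynomial, not
vanishing at the point, becomes a unit). -/
theorem exists_etale_root_system {A : Type u} [CommRing A] (n : ℕ)
    (v : Fin n → MvPolynomial (Fin n) A) (h : MvPolynomial (Fin n) A)
    (Ω : Type u) [Field Ω] [Algebra A Ω] (x : Fin n → Ω)
    (hx : ∀ i, aeval x (v i) = 0)
    (hjac : (Matrix.of fun i j : Fin n => aeval x (pderiv i (v j))).det ≠ 0)
    (hh : aeval x h ≠ 0) :
    ∃ (B : Type u) (_ : CommRing B) (_ : Algebra A B), Algebra.Etale A B ∧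
      ∃ (ψ : B →ₐ[A] Ω) (y : Fin n → B), (∀ i, ψ (y i) = x i) ∧
        (∀ i, aeval y (v i) = 0) ∧ IsUnit (aeval y h) := by
  classical
  let S := MvPolynomial (Fin n) A ⧸ Ideal.span (Set.range v)
  let P : Algebra.PreSubmersivePresentation A S (Fin n) (Fin n) :=
    Algebra.PreSubmersivePresentation.naive (v := v) id Function.injective_id
  have hEt : Algebra.Etale A (Localization.Away P.jacobian) :=
    etale_localization_away_jacobian P (by simp [Algebra.Presentation.dimension])
  -- the point as a map out of `S`
  let φ₀ : S →ₐ[A] Ω := Ideal.Quotient.liftₐ _ (aeval x) (by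
    intro a ha
    have hle : Ideal.span (Set.range v) ≤ RingHom.ker (aeval x : MvPolynomial (Fin n) A →ₐ[A] Ω) := by
      rw [Ideal.span_le]
      rintro _ ⟨i, rfl⟩
      exact hx i
    exact hle ha)
  have hφ₀ : ∀ p : MvPolynomial (Fin n) A, φ₀ (Ideal.Quotient.mk _ p) = aeval x p := fun p => rfl
  have hjac' : φ₀ P.jacobian ≠ 0 := by
    rw [Algebra.PreSubmersivePresentation.jacobian_eq_jacobiMatrix_det]
    have h1 : algebraMap P.Ring S P.jacobiMatrix.det = Ideal.Quotient.mk _ P.jacobiMatrix.det := by
      rw [Algebra.Generators.algebraMap_apply]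
      exact (AlgHom.congr_fun (aeval_unique (Ideal.Quotient.mkₐ A
        (Ideal.span (Set.range v)))) P.jacobiMatrix.det).symm
    rw [h1, hφ₀, AlgHom.map_det]
    convert hjac using 2
    ext i j
    rw [AlgHom.mapMatrix_apply, Matrix.map_apply,
      Algebra.PreSubmersivePresentation.jacobiMatrix_naive]
    rfl
  let B₁ := Localization.Away P.jacobian
  let ψ₁ : B₁ →ₐ[A] Ω := IsLocalization.liftAlgHom (M := Submonoid.powers P.jacobian) (f := φ₀) (by
    rintro ⟨_, k, rfl⟩
    rw [map_pow]
    exact (isUnit_iff_ne_zero.mpr hjac').pow k)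
  let y₁ : Fin n → B₁ := fun i => algebraMap S B₁ (Ideal.Quotient.mk _ (X i))
  have hψ₁y : ∀ i, ψ₁ (y₁ i) = x i := fun i => by
    change IsLocalization.lift _ (algebraMap S B₁ _) = _
    rw [IsLocalization.lift_eq]
    change φ₀ (Ideal.Quotient.mk _ (X i)) = _
    rw [hφ₀, aeval_X]
  have hy₁ : ∀ p : MvPolynomial (Fin n) A, aeval y₁ p = algebraMap S B₁ (Ideal.Quotient.mk _ p) := by
    intro p
    have e1 : aeval y₁ = ((IsScalarTower.toAlgHom A S B₁).comp (Ideal.Quotient.mkₐ A _)).comp
        (AlgHom.id A (MvPolynomial (Fin n) A)) := by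
      ext i
      simp [y₁]
      rfl
    rw [e1]; rfl
  let c : B₁ := aeval y₁ h
  have hc : ψ₁ c ≠ 0 := by
    change ψ₁ (aeval y₁ h) ≠ 0
    rw [comp_aeval_apply]
    simp only [hψ₁y]
    exact hh
  let B := Localization.Away c
  let ψ : B →ₐ[A] Ω := IsLocalization.liftAlgHom (M := Submonoid.powers c) (f := ψ₁) (by
    rintro ⟨_, k, rfl⟩
    rw [map_pow]
    exact (isUnit_iff_ne_zero.mpr hc).pow k)
  refine ⟨B, inferInstance, inferInstance, Algebra.Etale.comp A B₁ B, ψ,
    fun i => algebraMap B₁ B (y₁ i), fun i => ?_, fun i => ?_, ?_⟩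
  · change IsLocalization.lift _ (algebraMap B₁ B _) = _
    rw [IsLocalization.lift_eq]
    exact hψ₁y i
  · have : aeval (fun i => algebraMap B₁ B (y₁ i)) (v i) = algebraMap B₁ B (aeval y₁ (v i)) :=
      (comp_aeval_apply (f := y₁) (IsScalarTower.toAlgHom A B₁ B) _).symm
    rw [this, hy₁]
    have h0 : (Ideal.Quotient.mk (Ideal.span (Set.range v))) (v i) = 0 :=
      Ideal.Quotient.eq_zero_iff_mem.mpr (Ideal.subset_span ⟨i, rfl⟩)
    rw [h0, map_zero, map_zero]
  · have : aeval (fun i => algebraMap B₁ B (y₁ i)) h = algebraMap B₁ B c :=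
      (comp_aeval_apply (f := y₁) (IsScalarTower.toAlgHom A B₁ B) _).symm
    rw [this]
    exact IsLocalization.Away.algebraMap_isUnit c

end Groth.Agent.Lib.Helper19EtaleSys
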