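import Mathlib
import Groth.Agent.Lib.Helper19EtaleSysA

/-!
# Étale-local isomorphism of Weierstrass curves with equal `j`, away from `0` and `1728`
(helper19)
-/

set_option autoImplicit false
universe u
open MvPolynomial Matrix

namespace Groth.Agent.Lib.Helper19EllIso

section General
variable {R : Type*} [CommRing R]

lemma j_mul_Δ (W : WeierstrassCurve R) [W.IsElliptic] : W.j * W.Δ = W.c₄ ^ 3 := by
  rw [WeierstrassCurve.j, mul_comm, ← W.coe_Δ', ← mul_assoc, Units.mul_inv, one_mul]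

lemma c₆_sq (W : WeierstrassCurve R) [W.IsElliptic] : W.c₆ ^ 2 = (W.j - 1728) * W.Δ := by
  linear_combination -(j_mul_Δ W) + W.c_relation

lemma isUnit_c₆ (W : WeierstrassCurve R) [W.IsElliptic] (h : IsUnit (W.j - 1728)) :
    IsUnit W.c₆ := by
  have : IsUnit (W.c₆ ^ 2) := by
    rw [c₆_sq]
    exact h.mul (W.coe_Δ' ▸ W.Δ'.isUnit)
  exact (isUnit_pow_iff two_ne_zero).mp this

lemma isUnit_c₄ (W : WeierstrassCurve R) [W.IsElliptic] (h : IsUnit W.j) : IsUnit W.c₄ := by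
  have : IsUnit (W.c₄ ^ 3) := by
    rw [← j_mul_Δ]
    exact h.mul (W.coe_Δ' ▸ W.Δ'.isUnit)
  exact (isUnit_pow_iff three_ne_zero).mp this

/-- two elliptic curves with the same first four coefficients and the same unit `j` have the
same discriminant. -/
lemma Δ_eq_of_j_eq (W W' : WeierstrassCurve R) [W.IsElliptic] [W'.IsElliptic]
    (h₁ : W.a₁ = W'.a₁) (h₂ : W.a₂ = W'.a₂) (h₃ : W.a₃ = W'.a₃) (h₄ : W.a₄ = W'.a₄)
    (hj : W.j = W'.j) (hu : IsUnit W'.j) : W.Δ = W'.Δ := by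
  have hc : W.c₄ = W'.c₄ := by
    simp only [WeierstrassCurve.c₄, WeierstrassCurve.b₂, WeierstrassCurve.b₄, h₁, h₂, h₃, h₄]
  have e1 := j_mul_Δ W
  have e2 := j_mul_Δ W'
  rw [hj, hc, ← e2] at e1
  exact hu.mul_left_cancel e1

/-- two curves with the same first four coefficients and the same discriminant, whose last
coefficients are close, are equal. -/
lemma eq_of_Δ_eq (W W' : WeierstrassCurve R)
    (h₁ : W.a₁ = W'.a₁) (h₂ : W.a₂ = W'.a₂) (h₃ : W.a₃ = W'.a₃) (h₄ : W.a₄ = W'.a₄)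
    (hΔ : W.Δ = W'.Δ) (hu : IsUnit (W'.c₆ - 432 * (W.a₆ - W'.a₆))) : W = W' := by
  have key : W.Δ - W'.Δ = (W.a₆ - W'.a₆) * (W'.c₆ - 432 * (W.a₆ - W'.a₆)) := by
    simp only [WeierstrassCurve.Δ, WeierstrassCurve.b₂, WeierstrassCurve.b₄, WeierstrassCurve.b₆,
      WeierstrassCurve.b₈, WeierstrassCurve.c₆, h₁, h₂, h₃, h₄]
    ring
  rw [hΔ, sub_self] at key
  have h₆ : W.a₆ = W'.a₆ := sub_eq_zero.mp (hu.mul_left_eq_zero.mp key.symm)
  ext <;> assumption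

end General

section System
variable {A : Type*} [CommRing A]

/-- the equations saying that the change of variables `(u, r, s, t) = (X 0, X 1, X 2, X 3)` carries
the first four coefficients `aᵢ` to `bᵢ`. -/
noncomputable def sysV (a1 a2 a3 a4 b1 b2 b3 b4 : A) : Fin 4 → MvPolynomial (Fin 4) A :=
  ![C b1 * X 0 - (C a1 + C 2 * X 2),
    C b2 * X 0 ^ 2 - (C a2 - X 2 * C a1 + C 3 * X 1 - X 2 ^ 2),
    C b3 * X 0 ^ 3 - (C a3 + X 1 * C a1 + C 2 * X 3),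
    C b4 * X 0 ^ 4 - (C a4 - X 2 * C a3 + C 2 * X 1 * C a2 - (X 3 + X 1 * X 2) * C a1 + C 3 * X 1 ^ 2
      - C 2 * X 2 * X 3)]

/-- the polynomial to be inverted. -/
noncomputable def sysH (a1 a2 a3 a4 a6 b6 c6 : A) : MvPolynomial (Fin 4) A :=
  X 0 * (C c6 * X 0 ^ 6 - C 432 * ((C a6 + X 1 * C a4 + X 1 ^ 2 * C a2 + X 1 ^ 3 - X 3 * C a3
    - X 3 ^ 2 - X 1 * X 3 * C a1) - C b6 * X 0 ^ 6))

lemma jacobi_eq {Ω : Type*} [CommRing Ω] [Algebra A Ω] (a1 a2 a3 a4 b1 b2 b3 b4 : A)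
    (x : Fin 4 → Ω) :
    (Matrix.of fun i j : Fin 4 => aeval x (pderiv i (sysV a1 a2 a3 a4 b1 b2 b3 b4 j))) =
    !![algebraMap A Ω b1, 2 * algebraMap A Ω b2 * x 0, 3 * algebraMap A Ω b3 * x 0 ^ 2,
        4 * algebraMap A Ω b4 * x 0 ^ 3;
       0, -3, - algebraMap A Ω a1, -(2 * algebraMap A Ω a2 - x 2 * algebraMap A Ω a1 + 6 * x 1);
       -2, algebraMap A Ω a1 + 2 * x 2, 0, algebraMap A Ω a3 + x 1 * algebraMap A Ω a1 + 2 * x 3;
       0, 0, -2, algebraMap A Ω a1 + 2 * x 2] := by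
  ext i j
  fin_cases i <;> fin_cases j <;>
    simp [sysV, pderiv_X, Derivation.leibniz, Derivation.leibniz_pow] <;>
    (try simp only [map_ofNat]) <;> (try ring)

lemma det_explicit {K : Type*} [Field K] (a1 a2 a3 a4 u r s t : K) (hu : u ≠ 0) :
    (!![u⁻¹ * (a1 + 2 * s), 2 * (u⁻¹ ^ 2 * (a2 - s * a1 + 3 * r - s ^ 2)) * u,
          3 * (u⁻¹ ^ 3 * (a3 + r * a1 + 2 * t)) * u ^ 2,
          4 * (u⁻¹ ^ 4 * (a4 - s * a3 + 2 * r * a2 - (t + r * s) * a1 + 3 * r ^ 2 - 2 * s * t))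
            * u ^ 3;
        0, -3, -a1, -(2 * a2 - s * a1 + 6 * r);
        -2, a1 + 2 * s, 0, a3 + r * a1 + 2 * t;
        0, 0, -2, a1 + 2 * s] : Matrix (Fin 4) (Fin 4) K).det
      = u⁻¹ * ((a1 ^ 2 + 4 * a2) ^ 2 - 24 * (2 * a4 + a1 * a3)) := by
  simp only [Matrix.det_succ_row_zero, Fin.sum_univ_succ]
  simp [Fin.succAbove, Matrix.submatrix]
  field_simp
  ring

end System

end Groth.Agent.Lib.Helper19EllIso
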